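import Cfsg.Statements.S0359
import Mathlib
import Cfsg.Agent.Lib.Helper1.GolayEnum

set_option autoImplicit false
open Cfsg

namespace Cfsg.Agent.S0359

open Cfsg.Agent.Lib.Helper1

theorem wts : ∀ a < 64, ∀ b < 64,
    popc (combo (64 * a + b)) = 0 ∨ popc (combo (64 * a + b)) = 8 ∨ popc (combo (64 * a + b)) = 12 ∨
      popc (combo (64 * a + b)) = 16 ∨ popc (combo (64 * a + b)) = 24 := by
  decide +kernel


/-- The weight of every word of the length-24 code is one of 0, 8, 12, 16, 24. -/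
theorem result (w : Cfsg.GolayPt → ZMod 2) (hw : w ∈ Cfsg.golayCode) : hammingNorm w = 0 ∨ hammingNorm w = 8 ∨ hammingNorm w = 12 ∨ hammingNorm w = 16 ∨ hammingNorm w = 24 := by
  obtain ⟨m, hm, hwm⟩ := exists_combo_of_mem hw
  rw [hammingNorm_eq_popc, hwm]
  have := wts (m / 64) (by omega) (m % 64) (Nat.mod_lt _ (by norm_num))
  rw [Nat.div_add_mod] at this
  exact this

end Cfsg.Agent.S0359
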