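import Cfsg.Statements.S0363
import Mathlib
import Cfsg.Agent.Lib.Helper1.GolayEnum
import Cfsg.Agent.S0359
import Cfsg.Agent.S0360

set_option autoImplicit false
open Cfsg

namespace Cfsg.Agent.S0363

open Cfsg Cfsg.Agent.Lib.Helper1

theorem mem_support₂ (v : GolayPt → ZMod 2) (q : GolayPt) : q ∈ support₂ v ↔ v q ≠ 0 := by
  unfold support₂
  rw [Finset.mem_filter]
  exact ⟨fun h => h.2, fun h => ⟨Finset.mem_univ _, h⟩⟩

/-- two octads sharing five points coincide -/
theorem octad_unique (b b' : Finset GolayPt) (hb : b ∈ octads) (hb' : b' ∈ octads)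
    (s : Finset GolayPt) (hs : s.card = 5) (hsb : s ⊆ b) (hsb' : s ⊆ b') : b = b' := by
  classical
  obtain ⟨⟨w, hw, rfl⟩, hc⟩ := hb
  obtain ⟨⟨w', hw', rfl⟩, hc'⟩ := hb'
  have hsum : w + w' ∈ golayCode := Submodule.add_mem _ hw hw'
  have hsub : support₂ (w + w') ⊆ (support₂ w \ s) ∪ (support₂ w' \ s) := by
    intro p hp
    rw [mem_support₂, Pi.add_apply] at hp
    rw [Finset.mem_union, Finset.mem_sdiff, Finset.mem_sdiff, mem_support₂, mem_support₂]
    have hps : p ∉ s := by
      intro hps
      have h1 := (mem_support₂ _ _).1 (hsb hps)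
      have h2 := (mem_support₂ _ _).1 (hsb' hps)
      revert hp h1 h2
      generalize w p = a
      generalize w' p = c
      revert a c
      decide
    by_cases h1 : w p ≠ 0
    · exact Or.inl ⟨h1, hps⟩
    · right
      refine ⟨?_, hps⟩
      push Not at h1
      rw [h1, zero_add] at hp
      exact hp
  have hcard : (support₂ (w + w')).card ≤ 6 := by
    calc (support₂ (w + w')).card ≤ ((support₂ w \ s) ∪ (support₂ w' \ s)).card :=
          Finset.card_le_card hsub
      _ ≤ (support₂ w \ s).card + (support₂ w' \ s).card := Finset.card_union_le _ _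
      _ = (8 - 5) + (8 - 5) := by
          rw [Finset.card_sdiff_of_subset hsb, Finset.card_sdiff_of_subset hsb', hc, hc', hs]
      _ = 6 := by norm_num
  have hwt := Cfsg.Agent.S0359.result (w + w') hsum
  have hwt' : hammingNorm (w + w') = (support₂ (w + w')).card := rfl
  rw [hwt'] at hwt
  have h0 : hammingNorm (w + w') = 0 := by
    rw [hwt']; omega
  rw [hammingNorm_eq_zero] at h0
  have : w = w' := by
    funext p
    have hp : w p + w' p = 0 := congrFun h0 p
    revert hp
    generalize w p = a
    generalize w' p = c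
    revert a c
    decide
  rw [this]


/-- The octads of the length-24 code form a Steiner system S(5, 8, 24) on the 24 points. -/
theorem result : Cfsg.IsSteinerSystem 5 8 Cfsg.octads := by
  classical
  refine ⟨fun b hb => hb.2, ?_⟩
  intro s hs
  -- the finset of octads
  have hfin : (octads : Set (Finset GolayPt)).Finite := Set.toFinite _
  set O : Finset (Finset GolayPt) := hfin.toFinset with hO
  have hOmem : ∀ b, b ∈ O ↔ b ∈ octads := fun b => hfin.mem_toFinset
  have hOcard : O.card = 759 := by
    rw [← Cfsg.Agent.S0360.result, Set.ncard_eq_toFinset_card _ hfin]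
  -- pairs (octad, 5-subset)
  set T : Finset (Σ _ : Finset GolayPt, Finset GolayPt) := O.sigma (fun b => Finset.powersetCard 5 b) with hT
  have hTcard : T.card = 42504 := by
    rw [hT, Finset.card_sigma]
    have : ∀ b ∈ O, (Finset.powersetCard 5 b).card = 56 := by
      intro b hb
      rw [Finset.card_powersetCard, ((hOmem b).1 hb).2]
      rfl
    rw [Finset.sum_congr rfl this, Finset.sum_const, hOcard, smul_eq_mul]
  have hinj : Set.InjOn (fun x : (Σ _ : Finset GolayPt, Finset GolayPt) => x.2) (T : Set _) := by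
    rintro ⟨b, s₁⟩ h1 ⟨b', s₂⟩ h2 h
    simp only at h
    subst h
    rw [Finset.mem_coe, hT, Finset.mem_sigma, Finset.mem_powersetCard] at h1 h2
    have := octad_unique b b' ((hOmem b).1 h1.1) ((hOmem b').1 h2.1) s₁ h1.2.2 h1.2.1 h2.2.1
    subst this
    rfl
  have himg : T.image (fun x => x.2) = Finset.powersetCard 5 (Finset.univ : Finset GolayPt) := by
    apply Finset.eq_of_subset_of_card_le
    · intro s' hs'
      rw [Finset.mem_image] at hs'
      obtain ⟨⟨b, s₁⟩, h1, rfl⟩ := hs'
      rw [hT, Finset.mem_sigma, Finset.mem_powersetCard] at h1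
      rw [Finset.mem_powersetCard]
      exact ⟨Finset.subset_univ _, h1.2.2⟩
    · rw [Finset.card_image_of_injOn hinj, hTcard, Finset.card_powersetCard, Finset.card_univ]
      have : Fintype.card GolayPt = 24 := by
        rw [Fintype.card_option, ZMod.card]
      rw [this]
      decide
  have hsmem : s ∈ T.image (fun x => x.2) := by
    rw [himg, Finset.mem_powersetCard]
    exact ⟨Finset.subset_univ _, hs⟩
  rw [Finset.mem_image] at hsmem
  obtain ⟨⟨b, s₁⟩, h1, rfl⟩ := hsmem
  rw [hT, Finset.mem_sigma, Finset.mem_powersetCard] at h1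
  refine ⟨b, ⟨(hOmem b).1 h1.1, h1.2.1⟩, ?_⟩
  rintro b' ⟨hb', hsb'⟩
  exact (octad_unique b b' ((hOmem b).1 h1.1) hb' s₁ hs h1.2.1 hsb').symm

end Cfsg.Agent.S0363
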