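import Cfsg.Statements.S0370
import Mathlib
import Cfsg.Agent.Lib.Helper1.Golay

set_option autoImplicit false
open Cfsg

namespace Cfsg.Agent.S0370

open Cfsg.Agent.Lib.Helper1


/-- The permutation x ↦ x + 1 of the residues modulo 23, fixing the extra point, lies in the group of the length-24 code. -/
theorem result : Equiv.optionCongr (Equiv.addRight (1 : ZMod 23)) ∈ Cfsg.M24 := by
  apply mem_M24_of_gens
  · intro t
    have : permWord (Equiv.optionCongr (Equiv.addRight (1 : ZMod 23))) (Cfsg.qrWord t) =
        Cfsg.qrWord (t + 1) := by
      funext p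
      rw [permWord_apply]
      cases p with
      | none => rfl
      | some x =>
        have hs : (Equiv.optionCongr (Equiv.addRight (1 : ZMod 23))).symm (some x) = some (x - 1) := by
          rw [Equiv.symm_apply_eq]
          simp [Equiv.optionCongr_apply]
        rw [hs]
        unfold Cfsg.qrWord
        simp only
        have hiff : (∃ r : ZMod 23, x - 1 = r ^ 2 + t) ↔ (∃ r : ZMod 23, x = r ^ 2 + (t + 1)) := by
          constructor
          · rintro ⟨r, hr⟩
            exact ⟨r, by linear_combination hr⟩
          · rintro ⟨r, hr⟩
            exact ⟨r, by linear_combination hr⟩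
        by_cases h : ∃ r : ZMod 23, x - 1 = r ^ 2 + t
        · rw [if_pos h, if_pos (hiff.1 h)]
        · rw [if_neg h, if_neg (fun h' => h (hiff.2 h'))]
    rw [this]
    exact Submodule.subset_span (Or.inl ⟨t + 1, rfl⟩)
  · have : permWord (Equiv.optionCongr (Equiv.addRight (1 : ZMod 23))) 1 = 1 := by
      funext p
      rfl
    rw [this]
    exact Submodule.subset_span (Or.inr rfl)

end Cfsg.Agent.S0370
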