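import Cfsg.Statements.S0373
import Mathlib
import Cfsg.Agent.Lib.Helper1.Golay

set_option autoImplicit false
open Cfsg

namespace Cfsg.Agent.S0373

open Cfsg.Agent.Lib.Helper1

theorem qmem (t : ZMod 23) : Cfsg.qrWord t ∈ Cfsg.golayCode :=
  Submodule.subset_span (Or.inl ⟨t, rfl⟩)

theorem onemem : (1 : Cfsg.GolayPt → ZMod 2) ∈ Cfsg.golayCode :=
  Submodule.subset_span (Or.inr rfl)

theorem ctf_symm (p : Cfsg.GolayPt) : Cfsg.cubeTwistFun (Cfsg.cubeTwist.symm p) = p :=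
  Cfsg.cubeTwist.apply_symm_apply p

theorem pt_0 : ∀ p : Cfsg.GolayPt, Cfsg.qrWord 0 (Cfsg.cubeTwistFun p) = Cfsg.qrWord 0 p := by
  decide +kernel

theorem wm_0 : permWord Cfsg.cubeTwist (Cfsg.qrWord 0) ∈ Cfsg.golayCode := by
  have : permWord Cfsg.cubeTwist (Cfsg.qrWord 0) = Cfsg.qrWord 0 := by
    funext p
    rw [permWord_apply]
    have h := pt_0 (Cfsg.cubeTwist.symm p)
    rw [ctf_symm] at h
    exact h.symm
  rw [this]
  repeat (first | exact qmem _ | exact onemem | apply Submodule.add_mem)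

theorem pt_1 : ∀ p : Cfsg.GolayPt, Cfsg.qrWord 0 (Cfsg.cubeTwistFun p) + Cfsg.qrWord 1 (Cfsg.cubeTwistFun p) + Cfsg.qrWord 3 (Cfsg.cubeTwistFun p) + Cfsg.qrWord 5 (Cfsg.cubeTwistFun p) + Cfsg.qrWord 9 (Cfsg.cubeTwistFun p) = Cfsg.qrWord 1 p := by
  decide +kernel

theorem wm_1 : permWord Cfsg.cubeTwist (Cfsg.qrWord 1) ∈ Cfsg.golayCode := by
  have : permWord Cfsg.cubeTwist (Cfsg.qrWord 1) = Cfsg.qrWord 0 + Cfsg.qrWord 1 + Cfsg.qrWord 3 + Cfsg.qrWord 5 + Cfsg.qrWord 9 := by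
    funext p
    rw [permWord_apply]
    have h := pt_1 (Cfsg.cubeTwist.symm p)
    rw [ctf_symm] at h
    exact h.symm
  rw [this]
  repeat (first | exact qmem _ | exact onemem | apply Submodule.add_mem)

theorem pt_2 : ∀ p : Cfsg.GolayPt, Cfsg.qrWord 0 (Cfsg.cubeTwistFun p) + Cfsg.qrWord 2 (Cfsg.cubeTwistFun p) + Cfsg.qrWord 3 (Cfsg.cubeTwistFun p) + Cfsg.qrWord 4 (Cfsg.cubeTwistFun p) + Cfsg.qrWord 5 (Cfsg.cubeTwistFun p) + Cfsg.qrWord 9 (Cfsg.cubeTwistFun p) = Cfsg.qrWord 2 p := by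
  decide +kernel

theorem wm_2 : permWord Cfsg.cubeTwist (Cfsg.qrWord 2) ∈ Cfsg.golayCode := by
  have : permWord Cfsg.cubeTwist (Cfsg.qrWord 2) = Cfsg.qrWord 0 + Cfsg.qrWord 2 + Cfsg.qrWord 3 + Cfsg.qrWord 4 + Cfsg.qrWord 5 + Cfsg.qrWord 9 := by
    funext p
    rw [permWord_apply]
    have h := pt_2 (Cfsg.cubeTwist.symm p)
    rw [ctf_symm] at h
    exact h.symm
  rw [this]
  repeat (first | exact qmem _ | exact onemem | apply Submodule.add_mem)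

theorem pt_3 : ∀ p : Cfsg.GolayPt, Cfsg.qrWord 0 (Cfsg.cubeTwistFun p) + Cfsg.qrWord 2 (Cfsg.cubeTwistFun p) + Cfsg.qrWord 3 (Cfsg.cubeTwistFun p) + Cfsg.qrWord 5 (Cfsg.cubeTwistFun p) + Cfsg.qrWord 9 (Cfsg.cubeTwistFun p) = Cfsg.qrWord 3 p := by
  decide +kernel

theorem wm_3 : permWord Cfsg.cubeTwist (Cfsg.qrWord 3) ∈ Cfsg.golayCode := by
  have : permWord Cfsg.cubeTwist (Cfsg.qrWord 3) = Cfsg.qrWord 0 + Cfsg.qrWord 2 + Cfsg.qrWord 3 + Cfsg.qrWord 5 + Cfsg.qrWord 9 := by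
    funext p
    rw [permWord_apply]
    have h := pt_3 (Cfsg.cubeTwist.symm p)
    rw [ctf_symm] at h
    exact h.symm
  rw [this]
  repeat (first | exact qmem _ | exact onemem | apply Submodule.add_mem)

theorem pt_4 : ∀ p : Cfsg.GolayPt, Cfsg.qrWord 1 (Cfsg.cubeTwistFun p) + Cfsg.qrWord 2 (Cfsg.cubeTwistFun p) + Cfsg.qrWord 5 (Cfsg.cubeTwistFun p) + Cfsg.qrWord 7 (Cfsg.cubeTwistFun p) = Cfsg.qrWord 4 p := by
  decide +kernel

theorem wm_4 : permWord Cfsg.cubeTwist (Cfsg.qrWord 4) ∈ Cfsg.golayCode := by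
  have : permWord Cfsg.cubeTwist (Cfsg.qrWord 4) = Cfsg.qrWord 1 + Cfsg.qrWord 2 + Cfsg.qrWord 5 + Cfsg.qrWord 7 := by
    funext p
    rw [permWord_apply]
    have h := pt_4 (Cfsg.cubeTwist.symm p)
    rw [ctf_symm] at h
    exact h.symm
  rw [this]
  repeat (first | exact qmem _ | exact onemem | apply Submodule.add_mem)

theorem pt_5 : ∀ p : Cfsg.GolayPt, Cfsg.qrWord 2 (Cfsg.cubeTwistFun p) + Cfsg.qrWord 3 (Cfsg.cubeTwistFun p) + Cfsg.qrWord 4 (Cfsg.cubeTwistFun p) + Cfsg.qrWord 6 (Cfsg.cubeTwistFun p) + Cfsg.qrWord 7 (Cfsg.cubeTwistFun p) = Cfsg.qrWord 5 p := by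
  decide +kernel

theorem wm_5 : permWord Cfsg.cubeTwist (Cfsg.qrWord 5) ∈ Cfsg.golayCode := by
  have : permWord Cfsg.cubeTwist (Cfsg.qrWord 5) = Cfsg.qrWord 2 + Cfsg.qrWord 3 + Cfsg.qrWord 4 + Cfsg.qrWord 6 + Cfsg.qrWord 7 := by
    funext p
    rw [permWord_apply]
    have h := pt_5 (Cfsg.cubeTwist.symm p)
    rw [ctf_symm] at h
    exact h.symm
  rw [this]
  repeat (first | exact qmem _ | exact onemem | apply Submodule.add_mem)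

theorem pt_6 : ∀ p : Cfsg.GolayPt, Cfsg.qrWord 1 (Cfsg.cubeTwistFun p) + Cfsg.qrWord 2 (Cfsg.cubeTwistFun p) + Cfsg.qrWord 5 (Cfsg.cubeTwistFun p) + Cfsg.qrWord 7 (Cfsg.cubeTwistFun p) + Cfsg.qrWord 9 (Cfsg.cubeTwistFun p) = Cfsg.qrWord 6 p := by
  decide +kernel

theorem wm_6 : permWord Cfsg.cubeTwist (Cfsg.qrWord 6) ∈ Cfsg.golayCode := by
  have : permWord Cfsg.cubeTwist (Cfsg.qrWord 6) = Cfsg.qrWord 1 + Cfsg.qrWord 2 + Cfsg.qrWord 5 + Cfsg.qrWord 7 + Cfsg.qrWord 9 := by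
    funext p
    rw [permWord_apply]
    have h := pt_6 (Cfsg.cubeTwist.symm p)
    rw [ctf_symm] at h
    exact h.symm
  rw [this]
  repeat (first | exact qmem _ | exact onemem | apply Submodule.add_mem)

theorem pt_7 : ∀ p : Cfsg.GolayPt, Cfsg.qrWord 0 (Cfsg.cubeTwistFun p) + Cfsg.qrWord 2 (Cfsg.cubeTwistFun p) + Cfsg.qrWord 5 (Cfsg.cubeTwistFun p) + Cfsg.qrWord 8 (Cfsg.cubeTwistFun p) + Cfsg.qrWord 10 (Cfsg.cubeTwistFun p) = Cfsg.qrWord 7 p := by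
  decide +kernel

theorem wm_7 : permWord Cfsg.cubeTwist (Cfsg.qrWord 7) ∈ Cfsg.golayCode := by
  have : permWord Cfsg.cubeTwist (Cfsg.qrWord 7) = Cfsg.qrWord 0 + Cfsg.qrWord 2 + Cfsg.qrWord 5 + Cfsg.qrWord 8 + Cfsg.qrWord 10 := by
    funext p
    rw [permWord_apply]
    have h := pt_7 (Cfsg.cubeTwist.symm p)
    rw [ctf_symm] at h
    exact h.symm
  rw [this]
  repeat (first | exact qmem _ | exact onemem | apply Submodule.add_mem)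

theorem pt_8 : ∀ p : Cfsg.GolayPt, Cfsg.qrWord 0 (Cfsg.cubeTwistFun p) + Cfsg.qrWord 2 (Cfsg.cubeTwistFun p) + Cfsg.qrWord 3 (Cfsg.cubeTwistFun p) + Cfsg.qrWord 5 (Cfsg.cubeTwistFun p) + Cfsg.qrWord 7 (Cfsg.cubeTwistFun p) + Cfsg.qrWord 8 (Cfsg.cubeTwistFun p) + Cfsg.qrWord 9 (Cfsg.cubeTwistFun p) + Cfsg.qrWord 10 (Cfsg.cubeTwistFun p) = Cfsg.qrWord 8 p := by
  decide +kernel

theorem wm_8 : permWord Cfsg.cubeTwist (Cfsg.qrWord 8) ∈ Cfsg.golayCode := by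
  have : permWord Cfsg.cubeTwist (Cfsg.qrWord 8) = Cfsg.qrWord 0 + Cfsg.qrWord 2 + Cfsg.qrWord 3 + Cfsg.qrWord 5 + Cfsg.qrWord 7 + Cfsg.qrWord 8 + Cfsg.qrWord 9 + Cfsg.qrWord 10 := by
    funext p
    rw [permWord_apply]
    have h := pt_8 (Cfsg.cubeTwist.symm p)
    rw [ctf_symm] at h
    exact h.symm
  rw [this]
  repeat (first | exact qmem _ | exact onemem | apply Submodule.add_mem)

theorem pt_9 : ∀ p : Cfsg.GolayPt, Cfsg.qrWord 0 (Cfsg.cubeTwistFun p) + Cfsg.qrWord 2 (Cfsg.cubeTwistFun p) + Cfsg.qrWord 3 (Cfsg.cubeTwistFun p) + Cfsg.qrWord 4 (Cfsg.cubeTwistFun p) + Cfsg.qrWord 5 (Cfsg.cubeTwistFun p) + Cfsg.qrWord 8 (Cfsg.cubeTwistFun p) + Cfsg.qrWord 9 (Cfsg.cubeTwistFun p) = Cfsg.qrWord 9 p := by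
  decide +kernel

theorem wm_9 : permWord Cfsg.cubeTwist (Cfsg.qrWord 9) ∈ Cfsg.golayCode := by
  have : permWord Cfsg.cubeTwist (Cfsg.qrWord 9) = Cfsg.qrWord 0 + Cfsg.qrWord 2 + Cfsg.qrWord 3 + Cfsg.qrWord 4 + Cfsg.qrWord 5 + Cfsg.qrWord 8 + Cfsg.qrWord 9 := by
    funext p
    rw [permWord_apply]
    have h := pt_9 (Cfsg.cubeTwist.symm p)
    rw [ctf_symm] at h
    exact h.symm
  rw [this]
  repeat (first | exact qmem _ | exact onemem | apply Submodule.add_mem)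

theorem pt_10 : ∀ p : Cfsg.GolayPt, Cfsg.qrWord 0 (Cfsg.cubeTwistFun p) + Cfsg.qrWord 2 (Cfsg.cubeTwistFun p) + Cfsg.qrWord 3 (Cfsg.cubeTwistFun p) + Cfsg.qrWord 4 (Cfsg.cubeTwistFun p) + Cfsg.qrWord 7 (Cfsg.cubeTwistFun p) + Cfsg.qrWord 8 (Cfsg.cubeTwistFun p) + Cfsg.qrWord 9 (Cfsg.cubeTwistFun p) + Cfsg.qrWord 10 (Cfsg.cubeTwistFun p) = Cfsg.qrWord 10 p := by
  decide +kernel

theorem wm_10 : permWord Cfsg.cubeTwist (Cfsg.qrWord 10) ∈ Cfsg.golayCode := by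
  have : permWord Cfsg.cubeTwist (Cfsg.qrWord 10) = Cfsg.qrWord 0 + Cfsg.qrWord 2 + Cfsg.qrWord 3 + Cfsg.qrWord 4 + Cfsg.qrWord 7 + Cfsg.qrWord 8 + Cfsg.qrWord 9 + Cfsg.qrWord 10 := by
    funext p
    rw [permWord_apply]
    have h := pt_10 (Cfsg.cubeTwist.symm p)
    rw [ctf_symm] at h
    exact h.symm
  rw [this]
  repeat (first | exact qmem _ | exact onemem | apply Submodule.add_mem)

theorem pt_11 : ∀ p : Cfsg.GolayPt, Cfsg.qrWord 3 (Cfsg.cubeTwistFun p) + Cfsg.qrWord 6 (Cfsg.cubeTwistFun p) + Cfsg.qrWord 9 (Cfsg.cubeTwistFun p) + Cfsg.qrWord 10 (Cfsg.cubeTwistFun p) = Cfsg.qrWord 11 p := by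
  decide +kernel

theorem wm_11 : permWord Cfsg.cubeTwist (Cfsg.qrWord 11) ∈ Cfsg.golayCode := by
  have : permWord Cfsg.cubeTwist (Cfsg.qrWord 11) = Cfsg.qrWord 3 + Cfsg.qrWord 6 + Cfsg.qrWord 9 + Cfsg.qrWord 10 := by
    funext p
    rw [permWord_apply]
    have h := pt_11 (Cfsg.cubeTwist.symm p)
    rw [ctf_symm] at h
    exact h.symm
  rw [this]
  repeat (first | exact qmem _ | exact onemem | apply Submodule.add_mem)

theorem pt_12 : ∀ p : Cfsg.GolayPt, Cfsg.qrWord 0 (Cfsg.cubeTwistFun p) + Cfsg.qrWord 2 (Cfsg.cubeTwistFun p) + Cfsg.qrWord 5 (Cfsg.cubeTwistFun p) + Cfsg.qrWord 7 (Cfsg.cubeTwistFun p) + Cfsg.qrWord 8 (Cfsg.cubeTwistFun p) + Cfsg.qrWord 9 (Cfsg.cubeTwistFun p) + Cfsg.qrWord 10 (Cfsg.cubeTwistFun p) = Cfsg.qrWord 12 p := by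
  decide +kernel

theorem wm_12 : permWord Cfsg.cubeTwist (Cfsg.qrWord 12) ∈ Cfsg.golayCode := by
  have : permWord Cfsg.cubeTwist (Cfsg.qrWord 12) = Cfsg.qrWord 0 + Cfsg.qrWord 2 + Cfsg.qrWord 5 + Cfsg.qrWord 7 + Cfsg.qrWord 8 + Cfsg.qrWord 9 + Cfsg.qrWord 10 := by
    funext p
    rw [permWord_apply]
    have h := pt_12 (Cfsg.cubeTwist.symm p)
    rw [ctf_symm] at h
    exact h.symm
  rw [this]
  repeat (first | exact qmem _ | exact onemem | apply Submodule.add_mem)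

theorem pt_13 : ∀ p : Cfsg.GolayPt, Cfsg.qrWord 0 (Cfsg.cubeTwistFun p) + Cfsg.qrWord 2 (Cfsg.cubeTwistFun p) + Cfsg.qrWord 3 (Cfsg.cubeTwistFun p) + Cfsg.qrWord 5 (Cfsg.cubeTwistFun p) + Cfsg.qrWord 6 (Cfsg.cubeTwistFun p) + Cfsg.qrWord 7 (Cfsg.cubeTwistFun p) + Cfsg.qrWord 8 (Cfsg.cubeTwistFun p) + Cfsg.qrWord 9 (Cfsg.cubeTwistFun p) + Cfsg.qrWord 10 (Cfsg.cubeTwistFun p) = Cfsg.qrWord 13 p := by
  decide +kernel

theorem wm_13 : permWord Cfsg.cubeTwist (Cfsg.qrWord 13) ∈ Cfsg.golayCode := by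
  have : permWord Cfsg.cubeTwist (Cfsg.qrWord 13) = Cfsg.qrWord 0 + Cfsg.qrWord 2 + Cfsg.qrWord 3 + Cfsg.qrWord 5 + Cfsg.qrWord 6 + Cfsg.qrWord 7 + Cfsg.qrWord 8 + Cfsg.qrWord 9 + Cfsg.qrWord 10 := by
    funext p
    rw [permWord_apply]
    have h := pt_13 (Cfsg.cubeTwist.symm p)
    rw [ctf_symm] at h
    exact h.symm
  rw [this]
  repeat (first | exact qmem _ | exact onemem | apply Submodule.add_mem)

theorem pt_14 : ∀ p : Cfsg.GolayPt, Cfsg.qrWord 0 (Cfsg.cubeTwistFun p) + Cfsg.qrWord 1 (Cfsg.cubeTwistFun p) + Cfsg.qrWord 5 (Cfsg.cubeTwistFun p) + Cfsg.qrWord 9 (Cfsg.cubeTwistFun p) + Cfsg.qrWord 10 (Cfsg.cubeTwistFun p) = Cfsg.qrWord 14 p := by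
  decide +kernel

theorem wm_14 : permWord Cfsg.cubeTwist (Cfsg.qrWord 14) ∈ Cfsg.golayCode := by
  have : permWord Cfsg.cubeTwist (Cfsg.qrWord 14) = Cfsg.qrWord 0 + Cfsg.qrWord 1 + Cfsg.qrWord 5 + Cfsg.qrWord 9 + Cfsg.qrWord 10 := by
    funext p
    rw [permWord_apply]
    have h := pt_14 (Cfsg.cubeTwist.symm p)
    rw [ctf_symm] at h
    exact h.symm
  rw [this]
  repeat (first | exact qmem _ | exact onemem | apply Submodule.add_mem)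

theorem pt_15 : ∀ p : Cfsg.GolayPt, Cfsg.qrWord 0 (Cfsg.cubeTwistFun p) + Cfsg.qrWord 1 (Cfsg.cubeTwistFun p) + Cfsg.qrWord 2 (Cfsg.cubeTwistFun p) + Cfsg.qrWord 3 (Cfsg.cubeTwistFun p) + Cfsg.qrWord 4 (Cfsg.cubeTwistFun p) + Cfsg.qrWord 5 (Cfsg.cubeTwistFun p) + Cfsg.qrWord 6 (Cfsg.cubeTwistFun p) + Cfsg.qrWord 8 (Cfsg.cubeTwistFun p) + Cfsg.qrWord 10 (Cfsg.cubeTwistFun p) = Cfsg.qrWord 15 p := by
  decide +kernel

theorem wm_15 : permWord Cfsg.cubeTwist (Cfsg.qrWord 15) ∈ Cfsg.golayCode := by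
  have : permWord Cfsg.cubeTwist (Cfsg.qrWord 15) = Cfsg.qrWord 0 + Cfsg.qrWord 1 + Cfsg.qrWord 2 + Cfsg.qrWord 3 + Cfsg.qrWord 4 + Cfsg.qrWord 5 + Cfsg.qrWord 6 + Cfsg.qrWord 8 + Cfsg.qrWord 10 := by
    funext p
    rw [permWord_apply]
    have h := pt_15 (Cfsg.cubeTwist.symm p)
    rw [ctf_symm] at h
    exact h.symm
  rw [this]
  repeat (first | exact qmem _ | exact onemem | apply Submodule.add_mem)

theorem pt_16 : ∀ p : Cfsg.GolayPt, Cfsg.qrWord 0 (Cfsg.cubeTwistFun p) + Cfsg.qrWord 3 (Cfsg.cubeTwistFun p) + Cfsg.qrWord 5 (Cfsg.cubeTwistFun p) + Cfsg.qrWord 9 (Cfsg.cubeTwistFun p) = Cfsg.qrWord 16 p := by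
  decide +kernel

theorem wm_16 : permWord Cfsg.cubeTwist (Cfsg.qrWord 16) ∈ Cfsg.golayCode := by
  have : permWord Cfsg.cubeTwist (Cfsg.qrWord 16) = Cfsg.qrWord 0 + Cfsg.qrWord 3 + Cfsg.qrWord 5 + Cfsg.qrWord 9 := by
    funext p
    rw [permWord_apply]
    have h := pt_16 (Cfsg.cubeTwist.symm p)
    rw [ctf_symm] at h
    exact h.symm
  rw [this]
  repeat (first | exact qmem _ | exact onemem | apply Submodule.add_mem)

theorem pt_17 : ∀ p : Cfsg.GolayPt, Cfsg.qrWord 2 (Cfsg.cubeTwistFun p) + Cfsg.qrWord 3 (Cfsg.cubeTwistFun p) + Cfsg.qrWord 4 (Cfsg.cubeTwistFun p) + Cfsg.qrWord 5 (Cfsg.cubeTwistFun p) + Cfsg.qrWord 6 (Cfsg.cubeTwistFun p) + Cfsg.qrWord 7 (Cfsg.cubeTwistFun p) + Cfsg.qrWord 10 (Cfsg.cubeTwistFun p) = Cfsg.qrWord 17 p := by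
  decide +kernel

theorem wm_17 : permWord Cfsg.cubeTwist (Cfsg.qrWord 17) ∈ Cfsg.golayCode := by
  have : permWord Cfsg.cubeTwist (Cfsg.qrWord 17) = Cfsg.qrWord 2 + Cfsg.qrWord 3 + Cfsg.qrWord 4 + Cfsg.qrWord 5 + Cfsg.qrWord 6 + Cfsg.qrWord 7 + Cfsg.qrWord 10 := by
    funext p
    rw [permWord_apply]
    have h := pt_17 (Cfsg.cubeTwist.symm p)
    rw [ctf_symm] at h
    exact h.symm
  rw [this]
  repeat (first | exact qmem _ | exact onemem | apply Submodule.add_mem)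

theorem pt_18 : ∀ p : Cfsg.GolayPt, Cfsg.qrWord 1 (Cfsg.cubeTwistFun p) + Cfsg.qrWord 3 (Cfsg.cubeTwistFun p) + Cfsg.qrWord 6 (Cfsg.cubeTwistFun p) + Cfsg.qrWord 7 (Cfsg.cubeTwistFun p) + Cfsg.qrWord 9 (Cfsg.cubeTwistFun p) + Cfsg.qrWord 10 (Cfsg.cubeTwistFun p) = Cfsg.qrWord 18 p := by
  decide +kernel

theorem wm_18 : permWord Cfsg.cubeTwist (Cfsg.qrWord 18) ∈ Cfsg.golayCode := by
  have : permWord Cfsg.cubeTwist (Cfsg.qrWord 18) = Cfsg.qrWord 1 + Cfsg.qrWord 3 + Cfsg.qrWord 6 + Cfsg.qrWord 7 + Cfsg.qrWord 9 + Cfsg.qrWord 10 := by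
    funext p
    rw [permWord_apply]
    have h := pt_18 (Cfsg.cubeTwist.symm p)
    rw [ctf_symm] at h
    exact h.symm
  rw [this]
  repeat (first | exact qmem _ | exact onemem | apply Submodule.add_mem)

theorem pt_19 : ∀ p : Cfsg.GolayPt, Cfsg.qrWord 0 (Cfsg.cubeTwistFun p) + Cfsg.qrWord 2 (Cfsg.cubeTwistFun p) + Cfsg.qrWord 3 (Cfsg.cubeTwistFun p) + Cfsg.qrWord 4 (Cfsg.cubeTwistFun p) + Cfsg.qrWord 6 (Cfsg.cubeTwistFun p) + Cfsg.qrWord 7 (Cfsg.cubeTwistFun p) + Cfsg.qrWord 10 (Cfsg.cubeTwistFun p) = Cfsg.qrWord 19 p := by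
  decide +kernel

theorem wm_19 : permWord Cfsg.cubeTwist (Cfsg.qrWord 19) ∈ Cfsg.golayCode := by
  have : permWord Cfsg.cubeTwist (Cfsg.qrWord 19) = Cfsg.qrWord 0 + Cfsg.qrWord 2 + Cfsg.qrWord 3 + Cfsg.qrWord 4 + Cfsg.qrWord 6 + Cfsg.qrWord 7 + Cfsg.qrWord 10 := by
    funext p
    rw [permWord_apply]
    have h := pt_19 (Cfsg.cubeTwist.symm p)
    rw [ctf_symm] at h
    exact h.symm
  rw [this]
  repeat (first | exact qmem _ | exact onemem | apply Submodule.add_mem)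

theorem pt_20 : ∀ p : Cfsg.GolayPt, Cfsg.qrWord 0 (Cfsg.cubeTwistFun p) + Cfsg.qrWord 1 (Cfsg.cubeTwistFun p) + Cfsg.qrWord 2 (Cfsg.cubeTwistFun p) + Cfsg.qrWord 3 (Cfsg.cubeTwistFun p) + Cfsg.qrWord 4 (Cfsg.cubeTwistFun p) + Cfsg.qrWord 8 (Cfsg.cubeTwistFun p) + Cfsg.qrWord 9 (Cfsg.cubeTwistFun p) = Cfsg.qrWord 20 p := by
  decide +kernel

theorem wm_20 : permWord Cfsg.cubeTwist (Cfsg.qrWord 20) ∈ Cfsg.golayCode := by
  have : permWord Cfsg.cubeTwist (Cfsg.qrWord 20) = Cfsg.qrWord 0 + Cfsg.qrWord 1 + Cfsg.qrWord 2 + Cfsg.qrWord 3 + Cfsg.qrWord 4 + Cfsg.qrWord 8 + Cfsg.qrWord 9 := by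
    funext p
    rw [permWord_apply]
    have h := pt_20 (Cfsg.cubeTwist.symm p)
    rw [ctf_symm] at h
    exact h.symm
  rw [this]
  repeat (first | exact qmem _ | exact onemem | apply Submodule.add_mem)

theorem pt_21 : ∀ p : Cfsg.GolayPt, Cfsg.qrWord 1 (Cfsg.cubeTwistFun p) + Cfsg.qrWord 5 (Cfsg.cubeTwistFun p) + Cfsg.qrWord 7 (Cfsg.cubeTwistFun p) + Cfsg.qrWord 9 (Cfsg.cubeTwistFun p) + Cfsg.qrWord 10 (Cfsg.cubeTwistFun p) = Cfsg.qrWord 21 p := by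
  decide +kernel

theorem wm_21 : permWord Cfsg.cubeTwist (Cfsg.qrWord 21) ∈ Cfsg.golayCode := by
  have : permWord Cfsg.cubeTwist (Cfsg.qrWord 21) = Cfsg.qrWord 1 + Cfsg.qrWord 5 + Cfsg.qrWord 7 + Cfsg.qrWord 9 + Cfsg.qrWord 10 := by
    funext p
    rw [permWord_apply]
    have h := pt_21 (Cfsg.cubeTwist.symm p)
    rw [ctf_symm] at h
    exact h.symm
  rw [this]
  repeat (first | exact qmem _ | exact onemem | apply Submodule.add_mem)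

theorem pt_22 : ∀ p : Cfsg.GolayPt, Cfsg.qrWord 0 (Cfsg.cubeTwistFun p) + Cfsg.qrWord 2 (Cfsg.cubeTwistFun p) + Cfsg.qrWord 3 (Cfsg.cubeTwistFun p) + Cfsg.qrWord 5 (Cfsg.cubeTwistFun p) + Cfsg.qrWord 6 (Cfsg.cubeTwistFun p) + Cfsg.qrWord 7 (Cfsg.cubeTwistFun p) + Cfsg.qrWord 9 (Cfsg.cubeTwistFun p) = Cfsg.qrWord 22 p := by
  decide +kernel

theorem wm_22 : permWord Cfsg.cubeTwist (Cfsg.qrWord 22) ∈ Cfsg.golayCode := by
  have : permWord Cfsg.cubeTwist (Cfsg.qrWord 22) = Cfsg.qrWord 0 + Cfsg.qrWord 2 + Cfsg.qrWord 3 + Cfsg.qrWord 5 + Cfsg.qrWord 6 + Cfsg.qrWord 7 + Cfsg.qrWord 9 := by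
    funext p
    rw [permWord_apply]
    have h := pt_22 (Cfsg.cubeTwist.symm p)
    rw [ctf_symm] at h
    exact h.symm
  rw [this]
  repeat (first | exact qmem _ | exact onemem | apply Submodule.add_mem)


/-- The cube-twist permutation (squares t ↦ t^3/9, non-squares t ↦ 9t^3, extra point fixed) lies in the group of the length-24 code. -/
theorem result : Cfsg.cubeTwist ∈ Cfsg.M24 := by
  apply mem_M24_of_gens
  · intro t
    fin_cases t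
    · exact wm_0
    · exact wm_1
    · exact wm_2
    · exact wm_3
    · exact wm_4
    · exact wm_5
    · exact wm_6
    · exact wm_7
    · exact wm_8
    · exact wm_9
    · exact wm_10
    · exact wm_11
    · exact wm_12
    · exact wm_13
    · exact wm_14
    · exact wm_15
    · exact wm_16
    · exact wm_17
    · exact wm_18
    · exact wm_19
    · exact wm_20
    · exact wm_21
    · exact wm_22
  · have : permWord Cfsg.cubeTwist 1 = 1 := by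
      funext p
      rfl
    rw [this]
    exact onemem

end Cfsg.Agent.S0373
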