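import Cfsg.Statements.S0361
import Mathlib
import Cfsg.Agent.Lib.Helper1.GolayEnum

set_option autoImplicit false
open Cfsg

namespace Cfsg.Agent.S0361

open Cfsg.Agent.Lib.Helper1

theorem cnt12 : (Finset.univ.filter (fun m : Fin 4096 => popc (combo m.val) = 12)).card = 2576 := by
  decide +kernel


/-- There are exactly 2576 dodecads (supports of weight-12 words) in the length-24 code. -/
theorem result : Cfsg.dodecads.ncard = 2576 := by
  unfold Cfsg.dodecads
  rw [ncard_wordsOfWeight, cnt12]

end Cfsg.Agent.S0361
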