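import Cfsg.Statements.S0382
import Mathlib
import Cfsg.Agent.Lib.Helper1.M24Orbit
import Cfsg.Agent.S0361

set_option autoImplicit false
open scoped Pointwise
open Cfsg

namespace Cfsg.Agent.S0382

open Cfsg Cfsg.Agent.Lib.Helper1
open scoped Pointwise

theorem orbit_dodecad {d : Finset GolayPt} (hd : d ∈ dodecads) :
    MulAction.orbit M24 d = dodecads := by
  ext d'
  constructor
  · rintro ⟨g, rfl⟩
    exact smul_mem_dodecads g.2 hd
  · intro hd'
    obtain ⟨g, hg⟩ := M24_dodecad_transitive hd hd'
    exact ⟨g, hg⟩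


/-- A dodecad stabiliser in the group of the length-24 code has order 95040 = 2^6·3^3·5·11. -/
theorem result (d : Finset Cfsg.GolayPt) (hd : d ∈ Cfsg.dodecads) : Nat.card (MulAction.stabilizer Cfsg.M24 d) = 95040 := by
  have h1 := MulAction.index_stabilizer M24 d
  have h2 := Subgroup.card_mul_index (MulAction.stabilizer M24 d)
  rw [h1, orbit_dodecad hd, Cfsg.Agent.S0361.result, card_M24] at h2
  omega

end Cfsg.Agent.S0382
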