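import Cfsg.Statements.S0367
import Mathlib
import Cfsg.Agent.Lib.Helper1.M24Trans

set_option autoImplicit false
open scoped Pointwise
open Cfsg

namespace Cfsg.Agent.S0367

open Cfsg Cfsg.Agent.Lib.Helper1


/-- The permutation group preserving the length-24 code is transitive on octads. -/
theorem result (o o' : Finset Cfsg.GolayPt) (ho : o ∈ Cfsg.octads) (ho' : o' ∈ Cfsg.octads) : ∃ g : Cfsg.M24, g • o = o' := by
  classical
  obtain ⟨s, hs, hscard⟩ := Finset.exists_subset_card_eq (s := o) (n := 5) (by rw [ho.2]; norm_num)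
  obtain ⟨s', hs', hs'card⟩ := Finset.exists_subset_card_eq (s := o') (n := 5) (by rw [ho'.2]; norm_num)
  set x : Fin 5 ↪ GolayPt :=
    (Finset.equivFinOfCardEq hscard).symm.toEmbedding.trans (Function.Embedding.subtype _) with hx
  set y : Fin 5 ↪ GolayPt :=
    (Finset.equivFinOfCardEq hs'card).symm.toEmbedding.trans (Function.Embedding.subtype _) with hy
  haveI := M24_five_pretransitive
  obtain ⟨g, hg⟩ := MulAction.exists_smul_eq M24 x y
  refine ⟨g, ?_⟩
  have hgo : g • o ∈ octads := smul_mem_octads g.2 ho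
  apply Cfsg.Agent.S0363.octad_unique (g • o) o' hgo ho' s' hs'card ?_ hs'
  intro q hq
  -- q = y j for some j
  set j : Fin 5 := Finset.equivFinOfCardEq hs'card ⟨q, hq⟩ with hj
  have hyj : y j = q := by
    rw [hy, hj]
    simp
  have hxj : x j ∈ o := by
    apply hs
    rw [hx]
    simp
  have : g • x j = q := by
    rw [← hyj, ← hg]
    rfl
  rw [← this]
  exact Finset.smul_mem_smul_finset hxj

end Cfsg.Agent.S0367
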