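import Cfsg.Statements.S0138
import Cfsg.Agent.Lib.Helper8.FinOrdEnd

set_option autoImplicit false
open Cfsg

namespace Cfsg.Agent.S0138

open Cfsg.Agent.Lib.Helper8

/-- A character value has absolute value equal to the degree exactly when the group element acts by a scalar. -/
theorem result {G : Type*} [Group G] [Finite G] {V : Type*} [AddCommGroup V] [Module ℂ V] [FiniteDimensional ℂ V] (ρ : Representation ℂ G V) (g : G) : ‖ρ.character g‖ = (Module.finrank ℂ V : ℝ) ↔ ∃ ω : ℂ, ρ g = ω • (LinearMap.id : V →ₗ[ℂ] V) := by
  have hm : 0 < orderOf g := orderOf_pos g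
  have hpow := rep_pow_orderOf ρ g
  have h1 : ρ.character g = (ρ g).charpoly.roots.sum := trace_eq_roots_sum (ρ g)
  constructor
  · intro h
    rw [h1] at h
    set s := (ρ g).charpoly.roots with hs
    have hcard : Multiset.card s = Module.finrank ℂ V := card_roots_charpoly (ρ g)
    have hnorm : ∀ μ ∈ s, ‖μ‖ = 1 := fun μ hμ =>
      norm_eq_one_of_pow_eq_one' hm (root_pow_eq_one hpow hμ)
    by_cases h0 : s = 0
    · -- finrank = 0
      have hfr : Module.finrank ℂ V = 0 := by rw [← hcard, h0]; simp
      have hsub : Subsingleton V := Module.finrank_zero_iff.mp hfr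
      refine ⟨1, ?_⟩
      ext v
      exact Subsingleton.elim _ _
    · rw [← hcard] at h
      obtain ⟨u, _, hu⟩ := all_eq_of_norm_sum_eq_card s hnorm h h0
      have hss := isSemisimple_of_pow_eq_one hm hpow
      have := eq_smul_of_roots hss hu
      refine ⟨u, ?_⟩
      ext v
      rw [this v]
      rfl
  · rintro ⟨ω, hω⟩
    rw [Representation.character, hω]
    by_cases hfr : Module.finrank ℂ V = 0
    · simp [hfr]
    · have hV : Nontrivial V := Module.finrank_pos_iff.mp (Nat.pos_of_ne_zero hfr)
      obtain ⟨v, hv⟩ := exists_ne (0 : V)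
      have hωm : ω ^ orderOf g = 1 := by
        have h2 : ((ρ g) ^ orderOf g) v = (1 : Module.End ℂ V) v := by rw [hpow]
        rw [hω] at h2
        have h3 : ∀ n : ℕ, ((ω • (LinearMap.id : V →ₗ[ℂ] V)) ^ n) v = ω ^ n • v := by
          intro n
          induction n with
          | zero => simp
          | succ n ih =>
            rw [pow_succ, Module.End.mul_apply]
            simp only [LinearMap.smul_apply, LinearMap.id_coe, id_eq]
            rw [map_smul, ih, smul_smul, pow_succ]
            ring_nf
        rw [h3] at h2
        have h4 : (ω ^ orderOf g - 1) • v = 0 := by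
          rw [sub_smul, h2]; simp
        rcases smul_eq_zero.mp h4 with h5 | h5
        · exact sub_eq_zero.mp h5
        · exact absurd h5 hv
      have hn : ‖ω‖ = 1 := norm_eq_one_of_pow_eq_one' hm hωm
      simp [hn]

end Cfsg.Agent.S0138
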