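import Cfsg.Statements.S0143
import Cfsg.Agent.Lib.Helper8.CharBurnside
import Cfsg.Agent.S0138

set_option autoImplicit false
open Cfsg

namespace Cfsg.Agent.S0143

open Cfsg.Agent.Lib.Helper8
open scoped ComplexConjugate

theorem prime_card_of_comm {G : Type*} [Group G] [Finite G] [IsSimpleGroup G]
    (hab : ∀ x y : G, x * y = y * x) : (Nat.card G).Prime := by
  let _ : CommGroup G := { ‹Group G› with mul_comm := hab }
  exact IsSimpleGroup.prime_card

theorem not_isIntegral_inv_prime {p : ℕ} (hp : p.Prime) : ¬ IsIntegral ℤ ((p : ℂ)⁻¹) := by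
  intro h
  have h5 : IsIntegral ℤ (algebraMap ℚ ℂ ((p : ℚ)⁻¹)) := by
    convert h using 1
    simp
  have h6 : IsIntegral ℤ ((p : ℚ)⁻¹) :=
    (isIntegral_algebraMap_iff (algebraMap ℚ ℂ).injective).mp h5
  obtain ⟨y, hy⟩ := IsIntegrallyClosed.isIntegral_iff.mp h6
  have hpQ : (p : ℚ) ≠ 0 := Nat.cast_ne_zero.mpr hp.ne_zero
  have h7 : (y : ℚ) * (p : ℚ) = 1 := by
    have : (y : ℚ) = (p : ℚ)⁻¹ := hy
    rw [this]
    field_simp
  have h8 : y * (p : ℤ) = 1 := by exact_mod_cast h7
  have h9 : (p : ℤ) ∣ 1 := ⟨y, by rw [← h8, mul_comm]⟩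
  have h10 : p ∣ 1 := by exact_mod_cast h9
  exact hp.one_lt.ne' (Nat.dvd_one.mp h10)

theorem burnside_false {G : Type*} [Group G] [Finite G] [IsSimpleGroup G] (p k : ℕ) (hp : p.Prime)
    (g : G) (hg : g ≠ 1) (hclass : (Subgroup.centralizer ({g} : Set G)).index = p ^ k)
    (hab : ¬ ∀ x y : G, x * y = y * x) : False := by
  classical
  have : Fintype G := Fintype.ofFinite G
  have := irr_finite (G := G)
  have : Fintype (IrrCharacter G) := Fintype.ofFinite _
  have hpC : (p : ℂ) ≠ 0 := Nat.cast_ne_zero.mpr hp.ne_zero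
  -- the center is trivial
  have hcenter : Subgroup.center G = ⊥ := by
    rcases IsSimpleGroup.eq_bot_or_eq_top_of_normal (Subgroup.center G) inferInstance with h | h
    · exact h
    · exfalso
      apply hab
      intro x y
      have hx : x ∈ Subgroup.center G := by rw [h]; trivial
      exact ((Subgroup.mem_center_iff.mp hx) y).symm
  have key : ∀ χ : IrrCharacter G, χ.1 ≠ (fun _ => (1 : ℂ)) →
      IsIntegral ℤ (χ.1 1 * χ.1 g / (p : ℂ)) := by
    intro χ hχ
    obtain ⟨n, ρ, hρ, hρχ⟩ := χ.2
    have h1 : χ.1 1 = (n : ℂ) := by rw [← hρχ, Representation.char_one]; simp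
    by_cases hpn : p ∣ n
    · obtain ⟨d, hd⟩ := hpn
      have : χ.1 1 * χ.1 g / (p : ℂ) = (d : ℂ) * χ.1 g := by
        rw [h1, hd]; push_cast; field_simp
      rw [this]
      apply IsIntegral.mul
      · have := isIntegral_algebraMap (R := ℤ) (A := ℂ) (x := (d : ℤ))
        simpa using this
      · exact isCharacter_isIntegral (irr_isCharacter χ.2) g
    · have hcop : Nat.Coprime (Module.finrank ℂ (Fin n → ℂ))
          (Subgroup.centralizer ({g} : Set G)).index := by
        rw [hclass, Module.finrank_fin_fun]
        exact Nat.Coprime.pow_right k ((Nat.Prime.coprime_iff_not_dvd hp).mpr hpn).symm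
      rcases burnside_coprime hρ g hcop with h0 | hnorm
      · rw [← hρχ, h0]; simp only [mul_zero, zero_div]; exact isIntegral_zero
      · exfalso
        obtain ⟨ω, hω⟩ := (Cfsg.Agent.S0138.result ρ g).mp hnorm
        rcases IsSimpleGroup.eq_bot_or_eq_top_of_normal (MonoidHom.ker ρ) (MonoidHom.normal_ker ρ) with hk | hk
        · -- injective representation: g is central
          have hgc : g ∈ Subgroup.center G := by
            rw [Subgroup.mem_center_iff]
            intro y
            have h2 : ρ (y * g) = ρ (g * y) := by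
              rw [map_mul, map_mul, hω]
              ext v
              simp
            have h3 : (y * g) * (g * y)⁻¹ ∈ MonoidHom.ker ρ := by
              rw [MonoidHom.mem_ker, map_mul, h2, ← map_mul, mul_inv_cancel, map_one]
            rw [hk, Subgroup.mem_bot] at h3
            exact mul_inv_eq_one.mp h3
          rw [hcenter, Subgroup.mem_bot] at hgc
          exact hg hgc
        · -- trivial representation: χ is the principal character
          have htriv : ∀ x : G, ρ x = 1 := by
            intro x
            have : x ∈ MonoidHom.ker ρ := by rw [hk]; trivial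
            exact MonoidHom.mem_ker.mp this
          have hn1 : Module.finrank ℂ (Fin n → ℂ) = 1 := by
            apply finrank_eq_one_of_all_scalar hρ
            intro x
            exact ⟨1, by rw [htriv x, one_smul]; rfl⟩
          apply hχ
          rw [← hρχ]
          ext x
          simp only [Representation.character, htriv x]
          rw [Module.End.one_eq_id, LinearMap.trace_id, hn1]
          simp
  -- column orthogonality between g and 1
  have hsum := irr_sum_mul_conj g (1 : G)
  rw [if_neg (by rw [isConj_one_left]; exact hg)] at hsum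
  set χ₀ : IrrCharacter G := ⟨fun _ => (1 : ℂ), principal_isIrrCharacter⟩ with hχ₀
  rw [← Finset.add_sum_erase Finset.univ _ (Finset.mem_univ χ₀)] at hsum
  have h2 : ∀ χ ∈ Finset.univ.erase χ₀, χ.1 g * conj (χ.1 1) = (p : ℂ) * (χ.1 1 * χ.1 g / (p : ℂ)) := by
    intro χ _
    obtain ⟨n, ρ, hρ, hρχ⟩ := χ.2
    have h1 : χ.1 1 = (n : ℂ) := by rw [← hρχ, Representation.char_one]; simp
    rw [h1]
    simp only [map_natCast]
    field_simp
  rw [Finset.sum_congr rfl h2, ← Finset.mul_sum] at hsum
  have hint : IsIntegral ℤ (∑ χ ∈ Finset.univ.erase χ₀, (χ.1 1 * χ.1 g / (p : ℂ))) := by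
    apply IsIntegral.sum
    intro χ hχ
    apply key χ
    intro h
    apply (Finset.mem_erase.mp hχ).1
    exact Subtype.ext h
  have h3 : ∑ χ ∈ Finset.univ.erase χ₀, (χ.1 1 * χ.1 g / (p : ℂ)) = -(p : ℂ)⁻¹ := by
    have h4 : χ₀.1 g * conj (χ₀.1 1) = 1 := by simp [hχ₀]
    rw [h4] at hsum
    have : (p : ℂ) * ∑ χ ∈ Finset.univ.erase χ₀, (χ.1 1 * χ.1 g / (p : ℂ)) = -1 := by
      linear_combination hsum
    field_simp
    linear_combination this
  rw [h3] at hint
  exact not_isIntegral_inv_prime hp (by simpa using hint.neg)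

/-- If a finite simple group has a non-identity element whose conjugacy class has prime-power size, then the group has prime order. -/
theorem result {G : Type*} [Group G] [Finite G] [IsSimpleGroup G] (p k : ℕ) (hp : p.Prime) (g : G) (hg : g ≠ 1) (hclass : (Subgroup.centralizer ({g} : Set G)).index = p ^ k) : (Nat.card G).Prime := by
  classical
  by_cases hab : ∀ x y : G, x * y = y * x
  · exact Cfsg.Agent.S0143.prime_card_of_comm hab
  · exfalso
    exact Cfsg.Agent.S0143.burnside_false p k hp g hg hclass hab

end Cfsg.Agent.S0143
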