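import Cfsg.Statements.S0144
import Cfsg.Agent.S0143

set_option autoImplicit false
open Cfsg

namespace Cfsg.Agent.S0144

universe u

theorem form_of_dvd {p q a b d : ℕ} (hp : p.Prime) (hq : q.Prime) (h : d ∣ p ^ a * q ^ b) :
    ∃ a' b', d = p ^ a' * q ^ b' := by
  obtain ⟨d1, d2, h1, h2, rfl⟩ := (Nat.dvd_mul).mp h
  obtain ⟨a', _, rfl⟩ := (Nat.dvd_prime_pow hp).mp h1
  obtain ⟨b', _, rfl⟩ := (Nat.dvd_prime_pow hq).mp h2
  exact ⟨a', b', rfl⟩

theorem solvable_of_prime_pow_card {G : Type*} [Group G] [Finite G] {p n : ℕ} (hp : p.Prime)
    (h : Nat.card G = p ^ n) : Group.IsSolvable G := by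
  have : Fact p.Prime := ⟨hp⟩
  have hpg : IsPGroup p G := IsPGroup.of_card h
  have := hpg.isNilpotent
  infer_instance

theorem burnside_aux (p q : ℕ) (hp : p.Prime) (hq : q.Prime) :
    ∀ (n : ℕ) (G : Type u) [Group G] [Finite G], Nat.card G = n → (∃ a b, n = p ^ a * q ^ b) →
      Group.IsSolvable G := by
  intro n
  induction n using Nat.strong_induction_on with
  | _ n ih =>
    intro G _ _ hn hform
    obtain ⟨a, b, hab⟩ := hform
    by_cases hsimple : IsSimpleGroup G
    · -- simple case
      by_cases hpq : p = q
      · subst hpq
        apply solvable_of_prime_pow_card hp (n := a + b)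
        rw [hn, hab, pow_add]
      by_cases ha : a = 0
      · apply solvable_of_prime_pow_card hq (n := b)
        rw [hn, hab, ha, pow_zero, one_mul]
      -- a Sylow p-subgroup
      have : Fact p.Prime := ⟨hp⟩
      obtain ⟨P⟩ : Nonempty (Sylow p G) := inferInstance
      have hpdvd : p ∣ Nat.card G := by
        rw [hn, hab]
        exact Dvd.dvd.mul_right (dvd_pow_self p ha) _
      have hPnt : Nontrivial (P : Subgroup G) := by
        have hne : (P : Subgroup G) ≠ ⊥ := P.ne_bot_of_dvd_card hpdvd
        exact (Subgroup.nontrivial_iff_ne_bot _).mpr hne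
      have hcnt := (P.isPGroup').center_nontrivial
      obtain ⟨z, hz⟩ := exists_ne (1 : Subgroup.center (P : Subgroup G))
      set g : G := ((z : (P : Subgroup G)) : G) with hg
      have hg1 : g ≠ 1 := by
        intro h
        apply hz
        apply Subtype.ext
        apply Subtype.ext
        exact h
      have hPle : (P : Subgroup G) ≤ Subgroup.centralizer ({g} : Set G) := by
        intro x hx
        rw [Subgroup.mem_centralizer_iff]
        intro y hy
        rw [Set.mem_singleton_iff.mp hy]
        have hzc := Subgroup.mem_center_iff.mp z.2 ⟨x, hx⟩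
        have := congrArg (fun w : (P : Subgroup G) => (w : G)) hzc
        simpa [hg] using this.symm
      have hidx : (Subgroup.centralizer ({g} : Set G)).index ∣ (P : Subgroup G).index :=
        Subgroup.index_dvd_of_le hPle
      have hPidx : (P : Subgroup G).index ∣ q ^ b := by
        have h1 : (P : Subgroup G).index ∣ p ^ a * q ^ b := by
          rw [← hab, ← hn]; exact Subgroup.index_dvd_card _
        have h2 : Nat.Coprime (P : Subgroup G).index (p ^ a) := by
          apply Nat.Coprime.pow_right
          exact ((Nat.Prime.coprime_iff_not_dvd hp).mpr P.not_dvd_index).symm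
        exact h2.dvd_of_dvd_mul_left h1
      obtain ⟨k, _, hk⟩ := (Nat.dvd_prime_pow hq).mp (hidx.trans hPidx)
      have hprime := Cfsg.Agent.S0143.result q k hq g hg1 hk
      have : Fact (Nat.card G).Prime := ⟨hprime⟩
      have hcyc : IsCyclic G := isCyclic_of_prime_card rfl
      have := hcyc.commutative
      exact Group.isSolvable_of_comm (fun x y => mul_comm' x y)
    · -- non-simple case
      by_cases hnt : Nontrivial G
      · have hex : ∃ N : Subgroup G, N.Normal ∧ N ≠ ⊥ ∧ N ≠ ⊤ := by
          by_contra hcon
          push Not at hcon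
          apply hsimple
          refine { exists_pair_ne := hnt.exists_pair_ne, eq_bot_or_eq_top_of_normal := ?_ }
          intro N hN
          by_cases hNb : N = ⊥
          · left; exact hNb
          · right; exact hcon N hN hNb
        obtain ⟨N, hN, hNb, hNt⟩ := hex
        have hcard : Nat.card N * Nat.card (G ⧸ N) = n := by
          rw [← hn, ← Subgroup.card_mul_index N]; rfl
        have hNpos : 0 < Nat.card N := Nat.card_pos
        have hQpos : 0 < Nat.card (G ⧸ N) := Nat.card_pos
        have hN1 : 1 < Nat.card N := by
          rcases Nat.lt_or_ge 1 (Nat.card N) with h | h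
          · exact h
          · exfalso
            have : Nat.card N = 1 := le_antisymm h hNpos
            exact hNb (Subgroup.card_eq_one.mp this)
        have hQ1 : 1 < Nat.card (G ⧸ N) := by
          rcases Nat.lt_or_ge 1 (Nat.card (G ⧸ N)) with h | h
          · exact h
          · exfalso
            have : N.index = 1 := le_antisymm h hQpos
            exact hNt (Subgroup.index_eq_one.mp this)
        have hNlt : Nat.card N < n := by
          rw [← hcard]; nlinarith
        have hQlt : Nat.card (G ⧸ N) < n := by
          rw [← hcard]; nlinarith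
        have hNform : ∃ a' b', Nat.card N = p ^ a' * q ^ b' :=
          form_of_dvd hp hq (by rw [← hab, ← hcard]; exact Dvd.intro _ rfl)
        have hQform : ∃ a' b', Nat.card (G ⧸ N) = p ^ a' * q ^ b' :=
          form_of_dvd hp hq (by rw [← hab, ← hcard]; exact Dvd.intro_left _ rfl)
        have hNs : Group.IsSolvable N := ih _ hNlt N rfl hNform
        have hQs : Group.IsSolvable (G ⧸ N) := ih _ hQlt (G ⧸ N) rfl hQform
        exact Group.isSolvable_of_ker_le_range N.subtype (QuotientGroup.mk' N) (by
          rw [QuotientGroup.ker_mk', Subgroup.range_subtype])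
      · rw [not_nontrivial_iff_subsingleton] at hnt
        exact Group.isSolvable_of_comm (fun x y => Subsingleton.elim _ _)

/-- The Burnside two-prime Theorem: a finite group of order p ^ a * q ^ b, for primes p and q, is solvable. -/
theorem result {G : Type*} [Group G] [Finite G] (p q a b : ℕ) (hp : p.Prime) (hq : q.Prime) (hcard : Nat.card G = p ^ a * q ^ b) : Group.IsSolvable G := by
  exact burnside_aux p q hp hq _ G hcard ⟨a, b, rfl⟩

end Cfsg.Agent.S0144
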