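import Cfsg.Statements.S0376
import Mathlib
import Cfsg.Agent.Lib.Helper1.M24Trans

set_option autoImplicit false
open Cfsg

namespace Cfsg.Agent.S0376

open Cfsg Cfsg.Agent.Lib.Helper1

theorem card_pt : Nat.card GolayPt = 24 := by
  rw [Nat.card_eq_fintype_card, Fintype.card_option, ZMod.card]

theorem pretrans : MulAction.IsPretransitive M24 GolayPt := by
  haveI := M24_five_pretransitive
  exact MulAction.is_one_pretransitive_iff.1
    (MulAction.isMultiplyPretransitive_of_le (G := M24) (α := GolayPt) (m := 1) (n := 5) (by norm_num)
      (by rw [card_pt]; norm_num))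

theorem two_pretrans : MulAction.IsMultiplyPretransitive M24 GolayPt 2 := by
  haveI := M24_five_pretransitive
  exact MulAction.isMultiplyPretransitive_of_le (G := M24) (α := GolayPt) (m := 2) (n := 5) (by norm_num)
      (by rw [card_pt]; norm_num)

theorem card_stab (p : GolayPt) : Nat.card (MulAction.stabilizer M24 p) = 10200960 := by
  haveI := pretrans
  have h1 := MulAction.index_stabilizer_of_transitive M24 p
  have h2 := Subgroup.card_mul_index (MulAction.stabilizer M24 p)
  rw [h1, card_pt, Nat.card_congr (Equiv.refl _ : ↥M24 ≃ ↥M24), card_M24] at h2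
  omega


/-- A point stabiliser in the group of the length-24 code has order 10200960 = 2^7·3^2·5·7·11·23. -/
theorem result (p : Cfsg.GolayPt) : Nat.card (MulAction.stabilizer Cfsg.M24 p) = 10200960 := by
  exact card_stab p

end Cfsg.Agent.S0376
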