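import Cfsg.Statements.S1599
import Mathlib
import Cfsg.Agent.Lib.Helper1.M24QuartetsC
import Cfsg.Agent.Lib.Helper1.M24Orbits
import Cfsg.Agent.Lib.Helper1.OrbitClasses
import Cfsg.Agent.Lib.Helper1.M24Chain
import Cfsg.Agent.S0382

set_option autoImplicit false
open scoped Pointwise
open Cfsg

namespace Cfsg.Agent.S1599


open Cfsg.Agent.Lib.Helper1

/-- the pair of the base dodecad and a quartet -/
def objDQ (n : ℕ) : Finset GolayPt × Finset (Finset GolayPt) := (objO 1, objQ n)

def chkDQ (T : Fin 24 → Fin 24) (pn n w : ℕ) : Bool := chkO T 1 1 0 && chkQ T pn n w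

theorem soundDQ : SoundChk objDQ chkDQ := by
  intro g hg T hT pn n w h
  unfold chkDQ at h
  rw [Bool.and_eq_true] at h
  unfold objDQ
  rw [Prod.smul_mk, soundO g hg T hT _ _ _ h.1, soundQ g hg T hT _ _ _ h.2]

def ws : List (List ℕ) := [[4, 0, 3, 1, 3, 3, 0, 0, 0, 3, 0], [0, 2, 0, 0, 2, 0, 2, 0, 0, 2], [2, 3, 1, 2, 3, 1, 2, 0, 0, 3, 2]]

def tl : List (Fin 24 → Fin 24) := [![16, 2, 9, 0, 18, 19, 13, 20, 1, 3, 22, 5, 8, 4, 11, 14, 12, 17, 6, 21, 15, 7, 10, 23], ![0, 1, 2, 3, 4, 5, 6, 7, 8, 9, 10, 11, 12, 13, 14, 15, 16, 17, 18, 19, 20, 21, 22, 23], ![2, 16, 12, 4, 8, 14, 9, 5, 3, 18, 17, 23, 0, 1, 7, 21, 13, 22, 6, 15, 11, 19, 10, 20]]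

theorem tl_ok : ∀ l < tl.length, ∀ i : Fin 24, tl.getD l id i = evalT (ws.getD l []) i := by
  decide +kernel

theorem tl_fix : ∀ l < tl.length, chkDQ (tl.getD l id) 1237954224850713470709006616 1237954224850713470709006616 (([] : List ℕ).getD l 0) = true := by
  decide +kernel

theorem good : GoodTabs (stabX objDQ 1237954224850713470709006616) (tabOf tl) :=
  goodTabs_stabX soundDQ 1237954224850713470709006616 ws tl [] tl_ok tl_fix

def qq_c0_0 : List (ℕ × ℕ × ℕ × ℕ) :=
  [(1276927916568180602727039256, 0, 0, 0), (1547462831641468008084275221, 1, 2, 0), (1238317847123093203988774926, 1, 0, 0), (1549842903053486530857271576, 2, 2, 0), (1258491796684713480601731601, 2, 0, 0),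
    (1276701241842658763809489666, 3, 2, 0), (1240395688322357004286824466, 3, 2, 0), (1257301762618014387872465176, 3, 2, 0), (1237954225988998199418815296, 3, 0, 0), (1237954227209473630723375636, 4, 2, 0),
    (1239167873022737220693393481, 2, 0, 0)]

def qq_c0_L_0 : List ℕ := [1237954224977940084214993156]

theorem qq_c0_reach_0 : ∀ c ∈ qq_c0_L_0, ReachX objQ (stabX objDQ 1237954224850713470709006616) 1237954224977940084214993156 c := by
  intro c hc
  rw [List.mem_singleton.1 hc]
  exact ReachX.refl _ _ _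

def qq_c0_cert_0 : List (ℕ × ℕ × ℕ × ℕ) :=
  qq_c0_0

def qq_c0_L_1 : List ℕ := (qq_c0_cert_0.map (fun e => e.1)).reverse ++ qq_c0_L_0

theorem qq_c0_fold_0 : qq_c0_cert_0.foldl (stepX chkQ (tabOf tl)) (some qq_c0_L_0) = some qq_c0_L_1 := by
  decide +kernel

theorem qq_c0_reach_1 : ∀ c ∈ qq_c0_L_1, ReachX objQ (stabX objDQ 1237954224850713470709006616) 1237954224977940084214993156 c :=
  certX_sound soundQ (stabX_le _ _) good 1237954224977940084214993156 qq_c0_cert_0 qq_c0_L_0 qq_c0_L_1 qq_c0_reach_0 qq_c0_fold_0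

def qq_c0_list : List ℕ := qq_c0_L_1

theorem qq_c0_reach : ∀ c ∈ qq_c0_list, ReachX objQ (stabX objDQ 1237954224850713470709006616) 1237954224977940084214993156 c := qq_c0_reach_1

def qq_c1_0 : List (ℕ × ℕ × ℕ × ℕ) :=
  [(1239153706063463142643466266, 0, 0, 0), (1276635128699513698256945476, 1, 2, 0), (1547727283083644861367189511, 1, 0, 0), (1547443940952809302847914051, 2, 2, 0), (1257292315582302000460595536, 2, 0, 0),
    (1238020340412291399727186186, 3, 2, 0), (1240367354126837550560575756, 3, 2, 0), (1239186764790570922448781331, 3, 0, 0), (1295968497150187751300137036, 4, 2, 0), (1238053395698649269306130691, 4, 2, 0),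
    (1547434496152289573173461061, 4, 0, 0), (1276630406346541627510620436, 4, 0, 0), (1237987282551000596677132561, 5, 2, 0), (1238261178653804115705987856, 5, 2, 0), (1547429773927670083334701126, 4, 0, 0),
    (1237968391949317646393017096, 5, 2, 0), (1257287593286750824963244116, 5, 2, 0), (1240362631811020176740057176, 5, 0, 0), (1239158429581741548336316441, 6, 2, 0), (1238025060490945795033399561, 5, 0, 0),
    (1237982561354327660515295506, 4, 0, 0), (1279043535689093801865904156, 3, 0, 0), (1238251733921401266239443216, 3, 0, 0), (1238247011555199935861228056, 2, 0, 0), (1239224544874229415658127371, 1, 0, 0),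
    (1259700722490817310776885576, 1, 2, 0)]

def qq_c1_L_0 : List ℕ := [1237963669583116187300008456]

theorem qq_c1_reach_0 : ∀ c ∈ qq_c1_L_0, ReachX objQ (stabX objDQ 1237954224850713470709006616) 1237963669583116187300008456 c := by
  intro c hc
  rw [List.mem_singleton.1 hc]
  exact ReachX.refl _ _ _

def qq_c1_cert_0 : List (ℕ × ℕ × ℕ × ℕ) :=
  qq_c1_0

def qq_c1_L_1 : List ℕ := (qq_c1_cert_0.map (fun e => e.1)).reverse ++ qq_c1_L_0

theorem qq_c1_fold_0 : qq_c1_cert_0.foldl (stepX chkQ (tabOf tl)) (some qq_c1_L_0) = some qq_c1_L_1 := by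
  decide +kernel

theorem qq_c1_reach_1 : ∀ c ∈ qq_c1_L_1, ReachX objQ (stabX objDQ 1237954224850713470709006616) 1237963669583116187300008456 c :=
  certX_sound soundQ (stabX_le _ _) good 1237963669583116187300008456 qq_c1_cert_0 qq_c1_L_0 qq_c1_L_1 qq_c1_reach_0 qq_c1_fold_0

def qq_c1_list : List ℕ := qq_c1_L_1

theorem qq_c1_reach : ∀ c ∈ qq_c1_list, ReachX objQ (stabX objDQ 1237954224850713470709006616) 1237963669583116187300008456 c := qq_c1_reach_1

def qq_c2_0 : List (ℕ × ℕ × ℕ × ℕ) :=
  [(1238261179877938729173647386, 0, 0, 0), (1547727282873101586991677706, 1, 2, 0), (1238025061482019132129935436, 1, 0, 0), (1240362632908772521587769366, 2, 2, 0), (1238020337965710970844091136, 2, 0, 0),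
    (1240367354106852763041271876, 3, 2, 0), (1239153705940739991728558086, 3, 2, 0), (1547429773851671844857315356, 3, 0, 0), (1237968392007582897735209536, 4, 2, 0), (1239451216160690177432355331, 4, 0, 0),
    (1586110676633681974056190036, 5, 2, 0), (1547434497316470003985285396, 5, 0, 0), (1276630406398895964957966916, 5, 0, 0), (1237987281487025175131066896, 6, 2, 0), (1547443941023178043535917081, 6, 0, 0),
    (1238261180963306170667237641, 7, 2, 0), (1547443942031702820799906066, 7, 0, 0), (1257358428710528901760155916, 7, 0, 0), (1240433467309389122365292551, 8, 2, 0), (1276635128837999382621061201, 8, 0, 0),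
    (1237982559175148519871742276, 9, 2, 0), (1547727284020956473482805521, 9, 0, 0), (1237968394380979836800729176, 9, 0, 0), (1238247012850547705971212556, 10, 2, 0), (1257287595519410207323062346, 10, 0, 0),
    (1566767864672769412958257171, 10, 0, 0), (1238034507385639222384787971, 11, 2, 0), (1238025060401999634696770056, 11, 0, 0), (1240362631740651364950216976, 12, 2, 0), (1240376798857551494315507731, 12, 0, 0),
    (1276663464188692137680830471, 10, 0, 0), (1257320652227779574485745731, 11, 2, 0), (1257292317902781571410166021, 11, 0, 0), (1238020338052405331417367046, 11, 0, 0), (1240367356411288324491182401, 12, 2, 0),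
    (1279043536754195049566175301, 12, 0, 0), (1239186762502179429453664276, 13, 2, 0), (1238053394529120737785025026, 13, 0, 0), (1259700724793282487360946246, 14, 2, 0), (1241566835197723841799389251, 14, 0, 0),
    (1277834609780251613680631896, 15, 2, 0), (1257292315583709371166622276, 15, 0, 0), (1238280068264132193049120771, 14, 0, 0), (1238251737378758271914999836, 14, 0, 0), (1239158428290334422900671041, 14, 2, 0),
    (1295968497075033933810237706, 14, 0, 0), (1238053394743886208382795846, 15, 2, 0), (1239186762632220928840302661, 15, 0, 0), (1295968497092203910409486361, 16, 2, 0), (1238247011630072215308865546, 16, 0, 0),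
    (1547434496290775249115414856, 17, 2, 0), (1257287593374571009476133126, 17, 0, 0), (1237987281541349918566776916, 16, 0, 0), (1239153708224627884173557836, 16, 0, 0), (1276635129863694137759367181, 17, 2, 0),
    (1257585102374045712939745291, 17, 0, 0), (1547500609295434634347152136, 18, 2, 0), (1279043535600710660470604041, 16, 0, 0), (1239224541433760911655440396, 14, 0, 0), (1237996726292048508425867536, 14, 0, 0),
    (1276644573448242040521359371, 14, 0, 0), (1239158428304971061694304261, 14, 0, 0), (1276630407480322769377296466, 15, 2, 0), (1259700722503483689040609306, 13, 2, 0), (1238251733994303276768563716, 12, 2, 0),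
    (1237982559036099825273671746, 12, 2, 0), (1547429774933098635754209616, 11, 0, 0), (1237963673023303219547210056, 7, 0, 0), (1239224541417153880613982721, 3, 0, 0), (1548633977233027476802765336, 3, 0, 0),
    (1240660140829635170399158531, 1, 0, 0)]

def qq_c2_L_0 : List ℕ := [1237963669571294243378434306]

theorem qq_c2_reach_0 : ∀ c ∈ qq_c2_L_0, ReachX objQ (stabX objDQ 1237954224850713470709006616) 1237963669571294243378434306 c := by
  intro c hc
  rw [List.mem_singleton.1 hc]
  exact ReachX.refl _ _ _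

def qq_c2_cert_0 : List (ℕ × ℕ × ℕ × ℕ) :=
  qq_c2_0

def qq_c2_L_1 : List ℕ := (qq_c2_cert_0.map (fun e => e.1)).reverse ++ qq_c2_L_0

theorem qq_c2_fold_0 : qq_c2_cert_0.foldl (stepX chkQ (tabOf tl)) (some qq_c2_L_0) = some qq_c2_L_1 := by
  decide +kernel

theorem qq_c2_reach_1 : ∀ c ∈ qq_c2_L_1, ReachX objQ (stabX objDQ 1237954224850713470709006616) 1237963669571294243378434306 c :=
  certX_sound soundQ (stabX_le _ _) good 1237963669571294243378434306 qq_c2_cert_0 qq_c2_L_0 qq_c2_L_1 qq_c2_reach_0 qq_c2_fold_0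

def qq_c2_list : List ℕ := qq_c2_L_1

theorem qq_c2_reach : ∀ c ∈ qq_c2_list, ReachX objQ (stabX objDQ 1237954224850713470709006616) 1237963669571294243378434306 c := qq_c2_reach_1

def qq_c3_0 : List (ℕ × ℕ × ℕ × ℕ) :=
  [(1586110676488722370663546906, 0, 0, 0), (1237996728507819464929050706, 1, 2, 0), (1257301760314704794075791441, 1, 0, 0), (1238317847195432200123191301, 2, 2, 0), (1277834609782784880904503826, 2, 0, 0),
    (1276663462896722058802103041, 3, 2, 0), (1257320649800339512470012421, 3, 2, 0), (1276701241826333224672952581, 3, 0, 0), (1240395688379777896331350021, 4, 2, 0), (1547462830417614874005733891, 4, 0, 0),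
    (1257301760460508820334969091, 5, 2, 0), (1547434496217873230063469136, 5, 0, 0), (1276630406474894213635899406, 5, 0, 0), (1237987283707299723711873796, 6, 2, 0), (1547443940901017898442556161, 6, 0, 0),
    (1238261178799326614140227601, 7, 2, 0), (1239451215009457591019373076, 7, 0, 0), (1586110676505892339159400716, 7, 0, 0), (1237996726134704066187494146, 8, 2, 0), (1240660140831323951355400456, 8, 0, 0),
    (1548633978389608094920343626, 9, 2, 0), (1276644573570402168736842001, 9, 0, 0), (1238280069276316213360722181, 10, 2, 0), (1566767864527809807434907736, 10, 0, 0), (1238034506358818575946350666, 11, 2, 0),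
    (1547462830362727252305642256, 11, 0, 0), (1276927915630868990527537171, 11, 0, 0), (1238025062636910885338087941, 11, 0, 0), (1240362634048183154365169986, 12, 2, 0), (1257358428729950665590178561, 12, 0, 0),
    (1240433468389127067562672201, 13, 2, 0), (1548633977235560759075799121, 13, 0, 0), (1547727282870005358003225106, 13, 0, 0), (1240660141979460381442048276, 13, 2, 0), (1241566837514825712860659726, 13, 0, 0),
    (1549842904206970919986397266, 13, 0, 0), (1239167873162067257963057176, 14, 2, 0), (1240433469541204074359161156, 14, 0, 0), (1279043535603806888234319946, 14, 0, 0), (1239186763636805053309780486, 15, 2, 0),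
    (1241566835192375748757295176, 15, 0, 0), (1277834610936832224349126726, 16, 2, 0), (1238280068191511713280950801, 16, 0, 0), (1566767864602963622978650126, 15, 0, 0), (1238034505134402431667408961, 16, 2, 0),
    (1258491796810251321137430556, 16, 0, 0), (1239158430590829271325868556, 16, 2, 0), (1240395688304061126824431936, 16, 0, 0), (1258491798975919663217639431, 17, 2, 0), (1276663462964839002310443586, 17, 0, 0),
    (1257320649850160580160127506, 18, 2, 0), (1238020339115817728938607176, 18, 0, 0), (1240367355329298583540203541, 19, 2, 0), (1238034505064315222495331136, 19, 0, 0), (1240660143204157936323526681, 20, 2, 0),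
    (1238247013861605753629967106, 20, 0, 0), (1277834609941536766846566421, 20, 0, 0), (1239451217456600901388075021, 20, 0, 0), (1257292315795097074582683721, 20, 0, 0), (1241566836344452828283011156, 20, 0, 0),
    (1276927915417229491861192966, 20, 0, 0), (1549842903141869672789442571, 20, 0, 0), (1239167875325765334161424976, 21, 2, 0), (1240433467253657007384695041, 20, 0, 0), (1257585102307617613889405446, 20, 2, 0),
    (1547462830349497932611322436, 20, 0, 0), (1257301760401962024273183241, 21, 2, 0), (1566767864544979777021280521, 21, 2, 0), (1586110676563876184177246281, 21, 0, 0), (1237996727283403385208832321, 22, 2, 0),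
    (1240376799994710328302633226, 21, 0, 0), (1238251734068612674697039881, 20, 0, 0), (1547429773799317489827447556, 21, 2, 0), (1240376798909624292395192386, 21, 0, 0), (1239451215011427847220761096, 22, 2, 0),
    (1548633977394312637468114966, 22, 2, 0), (1238317849357722902394307081, 22, 2, 0), (1238053396834119252342473281, 21, 0, 0), (1259700722557808356525867021, 22, 2, 0), (1257358431087584941736722501, 21, 0, 0),
    (1258491796668106465465073746, 21, 2, 0), (1276635128765097359559361096, 21, 0, 0), (1237982560255449411599991376, 22, 2, 0), (1549842903056582758839091276, 22, 2, 0), (1257585104607268044883886101, 22, 0, 0),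
    (1547500610501273375503024141, 23, 2, 0), (1276644573500033423653208641, 23, 0, 0), (1239153707073395289623626306, 23, 0, 0), (1547500609420691000141021446, 23, 0, 0), (1237968393086195013708153361, 23, 0, 0),
    (1257287593217507977437643276, 23, 0, 0), (1240395691761981082335969361, 22, 0, 0), (1238280070425015528858845206, 21, 0, 0), (1239224541561832017519185986, 21, 0, 0), (1257358428854925555300041026, 19, 0, 0),
    (1276701243048497503958728771, 18, 0, 0)]

def qq_c3_1 : List (ℕ × ℕ × ℕ × ℕ) :=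
  [(1276927915420325712058384906, 17, 0, 0), (1276663462909951385895174676, 16, 2, 0), (1240376801143691113576530256, 16, 0, 0), (1276644574578926949356273986, 16, 0, 0), (1547500609279109094304645441, 15, 0, 0),
    (1239167874188606497204732426, 15, 0, 0), (1257585102445258873390498066, 15, 2, 0), (1257320649779510360150115136, 11, 2, 0), (1295968497219993542269599766, 8, 2, 0), (1238317848205927362135589636, 8, 0, 0),
    (1276701241967915128395399496, 6, 2, 0)]

def qq_c3_L_0 : List ℕ := [1237963669780711616555257936]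

theorem qq_c3_reach_0 : ∀ c ∈ qq_c3_L_0, ReachX objQ (stabX objDQ 1237954224850713470709006616) 1237963669780711616555257936 c := by
  intro c hc
  rw [List.mem_singleton.1 hc]
  exact ReachX.refl _ _ _

def qq_c3_cert_0 : List (ℕ × ℕ × ℕ × ℕ) :=
  qq_c3_0 ++ qq_c3_1

def qq_c3_L_1 : List ℕ := (qq_c3_cert_0.map (fun e => e.1)).reverse ++ qq_c3_L_0

theorem qq_c3_fold_0 : qq_c3_cert_0.foldl (stepX chkQ (tabOf tl)) (some qq_c3_L_0) = some qq_c3_L_1 := by
  decide +kernel

theorem qq_c3_reach_1 : ∀ c ∈ qq_c3_L_1, ReachX objQ (stabX objDQ 1237954224850713470709006616) 1237963669780711616555257936 c :=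
  certX_sound soundQ (stabX_le _ _) good 1237963669780711616555257936 qq_c3_cert_0 qq_c3_L_0 qq_c3_L_1 qq_c3_reach_0 qq_c3_fold_0

def qq_c3_list : List ℕ := qq_c3_L_1

theorem qq_c3_reach : ∀ c ∈ qq_c3_list, ReachX objQ (stabX objDQ 1237954224850713470709006616) 1237963669780711616555257936 c := qq_c3_reach_1

def qq_lists : ℕ → List ℕ
  | 0 => [1237954224850713470709006616]
  | 1 => qq_c0_list
  | 2 => qq_c1_list
  | 3 => qq_c2_list
  | 4 => qq_c3_list
  | _ => []

def qq_roots : ℕ → ℕ
  | 0 => 1237954224850713470709006616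
  | 1 => 1237954224977940084214993156
  | 2 => 1237963669583116187300008456
  | 3 => 1237963669571294243378434306
  | 4 => 1237963669780711616555257936
  | _ => 0

def qq_nF : ℕ → ℕ
  | 0 => 1
  | 1 => 12
  | 2 => 27
  | 3 => 72
  | 4 => 108
  | _ => 0

theorem qq_hreach : ∀ k < 5, ∀ c ∈ qq_lists k, ReachX objQ (stabX objDQ 1237954224850713470709006616) (qq_roots k) c := by
  intro k hk c hc
  interval_cases k
  · have : c = 1237954224850713470709006616 := by simpa [qq_lists] using hc
    rw [this]
    exact ReachX.refl _ _ _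
  · exact qq_c0_reach c hc
  · exact qq_c1_reach c hc
  · exact qq_c2_reach c hc
  · exact qq_c3_reach c hc

def qq_allL : List ℕ := (List.range 5).flatMap qq_lists

theorem qq_nodup : qq_allL.Nodup := by decide +kernel

theorem qq_len : qq_allL.length = 220 := by decide +kernel

theorem qq_lens : ∀ k < 5, (qq_lists k).length = qq_nF k := by decide +kernel

theorem qq_root_mem : ∀ k < 5, qq_roots k ∈ qq_lists k := by decide +kernel

theorem qq_sub : (∀ m ∈ qq_allL, m ∈ qList) ∧ (∀ m ∈ qList, m ∈ qq_allL) := by decide +kernel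

theorem q0_mem : 1237954224850713470709006616 ∈ qList := by decide +kernel

/-- the base pair -/
def z0 : Finset GolayPt × Finset (Finset GolayPt) := (dod0, objQ 1237954224850713470709006616)

theorem stab_prod_eq (d : Finset GolayPt) (Q : Finset (Finset GolayPt)) :
    MulAction.stabilizer ↥M24 ((d, Q) : Finset GolayPt × Finset (Finset GolayPt)) =
      MulAction.stabilizer ↥M24 d ⊓ MulAction.stabilizer ↥M24 Q := by
  ext g
  rw [Subgroup.mem_inf, MulAction.mem_stabilizer_iff, MulAction.mem_stabilizer_iff,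
    MulAction.mem_stabilizer_iff, Prod.smul_mk, Prod.mk.injEq]

theorem orbit_dod0 : MulAction.orbit ↥(MulAction.stabilizer ↥M24 dod0) (objQ 1237954224850713470709006616) =
    quartets dod0 := by
  ext Q
  constructor
  · rintro ⟨k, rfl⟩
    have hk : ((k : ↥M24) : Equiv.Perm GolayPt) • dod0 = dod0 := MulAction.mem_stabilizer_iff.1 k.2
    have h1 := smul_mem_quartets (k : ↥M24).2 (objQ_mem q0_mem)
    rw [hk] at h1
    exact h1
  · intro hQ
    obtain ⟨g, hg, hgd, hgQ⟩ := quartets_trans0 (objQ_mem q0_mem) hQ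
    exact ⟨⟨⟨g, hg⟩, MulAction.mem_stabilizer_iff.2 hgd⟩, hgQ⟩

theorem card_stab : Nat.card ↥(MulAction.stabilizer ↥M24 z0) = 432 := by
  unfold z0
  rw [stab_prod_eq]
  have h := card_eq_ncard_orbit_mul (G := ↥M24) (MulAction.stabilizer ↥M24 dod0) (objQ 1237954224850713470709006616)
  rw [Cfsg.Agent.S0382.result dod0 dod0_mem, orbit_dod0, ncard_quartets0] at h
  omega

theorem mem_stab_iff (g : ↥M24) :
    g ∈ MulAction.stabilizer ↥M24 z0 ↔ (g : Equiv.Perm GolayPt) ∈ stabX objDQ 1237954224850713470709006616 := by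
  rw [MulAction.mem_stabilizer_iff, mem_stabX]
  exact ⟨fun h => ⟨g.2, h⟩, fun h => h.2⟩

theorem qq_arith : ∀ k < 5, ∀ J ∈ (Finset.range 5).powerset, k ∈ J →
    (∑ j ∈ J, qq_nF j) ∣ 432 → J = {k} := by
  decide

theorem qq_main : (∀ k < 5, objQ (qq_roots k) ∈ quartets dod0 ∧
    (MulAction.orbit ↥(MulAction.stabilizer ↥M24 z0) (objQ (qq_roots k))).ncard = qq_nF k) ∧
    (∀ y ∈ quartets dod0, ∃ k < 5,
      y ∈ MulAction.orbit ↥(MulAction.stabilizer ↥M24 z0) (objQ (qq_roots k))) := by
  obtain ⟨c, hc4, htr, hn, hcm⟩ :=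
    classes_of_certs objQ (stabX objDQ 1237954224850713470709006616) (quartets dod0) 5 qq_lists qq_roots qq_nodup
      (fun m hm m' hm' h => objQ_injOn (qq_sub.1 m hm) (qq_sub.1 m' hm') h)
      (fun y hy => by
        obtain ⟨n, hn, rfl⟩ := exists_code_of_mem_quartets hy
        exact ⟨n, qq_sub.2 n hn, rfl⟩)
      (fun m hm => objQ_mem (qq_sub.1 m hm)) qq_hreach
  have htr' : ∀ y ∈ quartets dod0, ∀ z ∈ quartets dod0, c y = c z →
      ∃ k ∈ MulAction.stabilizer ↥M24 z0, k • y = z := by
    intro y hy z hz h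
    obtain ⟨g, hg, hgy⟩ := htr y hy z hz h
    exact ⟨⟨g, (mem_stabX.1 hg).1⟩, (mem_stab_iff _).2 hg, hgy⟩
  have hn' : ∀ j ∈ Finset.range 5, {y | y ∈ quartets dod0 ∧ c y = j}.ncard = qq_nF j := by
    intro j hj
    rw [hn j (Finset.mem_range.1 hj), qq_lens j (Finset.mem_range.1 hj)]
  have hY : ∀ k ∈ MulAction.stabilizer ↥M24 z0, ∀ y ∈ quartets dod0, k • y ∈ quartets dod0 := by
    intro k hk y hy
    have hk' : (k : Equiv.Perm GolayPt) • dod0 = dod0 := by
      have h1 := MulAction.mem_stabilizer_iff.1 hk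
      unfold z0 at h1
      rw [Prod.smul_mk, Prod.mk.injEq] at h1
      exact h1.1
    have h2 := smul_mem_quartets k.2 hy
    rw [hk'] at h2
    exact h2
  have hrootmem : ∀ k < 5, objQ (qq_roots k) ∈ quartets dod0 := fun k hk =>
    objQ_mem (qq_sub.1 _ (List.mem_flatMap.2 ⟨k, List.mem_range.2 hk, qq_root_mem k hk⟩))
  have horb : ∀ k, k < 5 →
      MulAction.orbit ↥(MulAction.stabilizer ↥M24 z0) (objQ (qq_roots k)) =
        {y | y ∈ quartets dod0 ∧ c y = k} := by
    intro k hk4
    have hck : c (objQ (qq_roots k)) = k := hcm k hk4 _ (qq_root_mem k hk4)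
    have h1 := orbit_eq_class (G := ↥M24) (MulAction.stabilizer ↥M24 z0) (quartets dod0)
      (Set.toFinite _) c (Finset.range 5) qq_nF hY
      (fun y hy => Finset.mem_range.2 (hc4 y hy)) htr' hn' (objQ (qq_roots k)) (hrootmem k hk4)
      (by
        rw [hck, card_stab]
        exact qq_arith k hk4)
    rw [hck] at h1
    exact h1
  refine ⟨fun k hk => ⟨hrootmem k hk, ?_⟩, ?_⟩
  · rw [horb k hk, hn' k (Finset.mem_range.2 hk)]
  · intro y hy
    refine ⟨c y, hc4 y hy, ?_⟩
    rw [horb (c y) (hc4 y hy)]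
    exact ⟨hy, rfl⟩


/-- A quartet stabiliser has five orbits on the quartets of its dodecad, of sizes 1, 12, 27, 72, 108. -/
theorem result (d : Finset Cfsg.GolayPt) (hd : d ∈ Cfsg.dodecads) (Q : Finset (Finset Cfsg.GolayPt)) (hQ : Q ∈ Cfsg.quartets d) : ∃ X₁ ∈ Cfsg.quartets d, ∃ X₂ ∈ Cfsg.quartets d, ∃ X₃ ∈ Cfsg.quartets d, ∃ X₄ ∈ Cfsg.quartets d, (MulAction.orbit ↥(MulAction.stabilizer Cfsg.M24 d ⊓ MulAction.stabilizer Cfsg.M24 Q) X₁).ncard = 12 ∧ (MulAction.orbit ↥(MulAction.stabilizer Cfsg.M24 d ⊓ MulAction.stabilizer Cfsg.M24 Q) X₂).ncard = 27 ∧ (MulAction.orbit ↥(MulAction.stabilizer Cfsg.M24 d ⊓ MulAction.stabilizer Cfsg.M24 Q) X₃).ncard = 72 ∧ (MulAction.orbit ↥(MulAction.stabilizer Cfsg.M24 d ⊓ MulAction.stabilizer Cfsg.M24 Q) X₄).ncard = 108 ∧ Cfsg.quartets d = {Q} ∪ MulAction.orbit ↥(MulAction.stabilizer Cfsg.M24 d ⊓ MulAction.stabilizer Cfsg.M24 Q) X₁ ∪ MulAction.orbit ↥(MulAction.stabilizer Cfsg.M24 d ⊓ MulAction.stabilizer Cfsg.M24 Q) X₂ ∪ MulAction.orbit ↥(MulAction.stabilizer Cfsg.M24 d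 ⊓ MulAction.stabilizer Cfsg.M24 Q) X₃ ∪ MulAction.orbit ↥(MulAction.stabilizer Cfsg.M24 d ⊓ MulAction.stabilizer Cfsg.M24 Q) X₄ := by
  obtain ⟨g0, hg0, rfl⟩ := exists_smul_dod0 hd
  have hQ1 : g0⁻¹ • Q ∈ quartets dod0 := inv_smul_mem_quartets hg0 hQ
  obtain ⟨h, hh, hhd, hhQ⟩ := quartets_trans0 (objQ_mem q0_mem) hQ1
  have hgM : g0 * h ∈ M24 := mul_mem hg0 hh
  have hgd : (g0 * h) • dod0 = g0 • dod0 := by rw [mul_smul, hhd]
  have hgQ : (g0 * h) • objQ 1237954224850713470709006616 = Q := by rw [mul_smul, hhQ, smul_inv_smul]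
  have hgz : (⟨g0 * h, hgM⟩ : ↥M24) • z0 = (g0 • dod0, Q) := by
    unfold z0
    rw [Prod.smul_mk]
    exact Prod.ext hgd hgQ
  have hstab : MulAction.stabilizer ↥M24 (g0 • dod0) ⊓ MulAction.stabilizer ↥M24 Q =
      MulAction.stabilizer ↥M24 ((⟨g0 * h, hgM⟩ : ↥M24) • z0) := by
    rw [hgz, stab_prod_eq]
  rw [hstab]
  obtain ⟨hm1, hm2⟩ := qq_main
  have hXmem : ∀ k < 5, (⟨g0 * h, hgM⟩ : ↥M24) • objQ (qq_roots k) ∈ quartets (g0 • dod0) := by
    intro k hk
    have h1 := smul_mem_quartets hgM (hm1 k hk).1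
    rw [hgd] at h1
    exact h1
  have hsfix : ∀ s ∈ MulAction.stabilizer ↥M24 ((⟨g0 * h, hgM⟩ : ↥M24) • z0),
      (s : Equiv.Perm GolayPt) • (g0 • dod0) = g0 • dod0 ∧ (s : Equiv.Perm GolayPt) • Q = Q := by
    intro s hs
    have h1 := MulAction.mem_stabilizer_iff.1 hs
    rw [hgz, Prod.smul_mk, Prod.mk.injEq] at h1
    exact h1
  refine ⟨(⟨g0 * h, hgM⟩ : ↥M24) • objQ (qq_roots 1), hXmem 1 (by norm_num),
    (⟨g0 * h, hgM⟩ : ↥M24) • objQ (qq_roots 2), hXmem 2 (by norm_num),
    (⟨g0 * h, hgM⟩ : ↥M24) • objQ (qq_roots 3), hXmem 3 (by norm_num),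
    (⟨g0 * h, hgM⟩ : ↥M24) • objQ (qq_roots 4), hXmem 4 (by norm_num), ?_, ?_, ?_, ?_, ?_⟩
  · rw [ncard_orbit_stabilizer_smul']; exact (hm1 1 (by norm_num)).2
  · rw [ncard_orbit_stabilizer_smul']; exact (hm1 2 (by norm_num)).2
  · rw [ncard_orbit_stabilizer_smul']; exact (hm1 3 (by norm_num)).2
  · rw [ncard_orbit_stabilizer_smul']; exact (hm1 4 (by norm_num)).2
  · ext y
    constructor
    · intro hy
      have hy1 : (⟨g0 * h, hgM⟩ : ↥M24)⁻¹ • y ∈ quartets dod0 := by
        have h1 := smul_mem_quartets (inv_mem hgM) hy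
        rw [← hgd, inv_smul_smul] at h1
        exact h1
      obtain ⟨k, hk, hmem⟩ := hm2 _ hy1
      have hmem' := (mem_orbit_stabilizer_smul' (⟨g0 * h, hgM⟩ : ↥M24) z0 (objQ (qq_roots k)) y).2 hmem
      interval_cases k
      · left; left; left; left
        obtain ⟨s, hs⟩ := hmem'
        have hs2 := (hsfix s.1 s.2).2
        have hs' : (s.1 : Equiv.Perm GolayPt) • ((g0 * h) • objQ 1237954224850713470709006616) = y := hs
        rw [hgQ, hs2] at hs'
        exact hs'.symm
      · left; left; left; right; exact hmem'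
      · left; left; right; exact hmem'
      · left; right; exact hmem'
      · right; exact hmem'
    · have hsub : ∀ k < 5, MulAction.orbit
          ↥(MulAction.stabilizer ↥M24 ((⟨g0 * h, hgM⟩ : ↥M24) • z0))
          ((⟨g0 * h, hgM⟩ : ↥M24) • objQ (qq_roots k)) ⊆ quartets (g0 • dod0) := by
        rintro k hk _ ⟨s, rfl⟩
        have h1 := smul_mem_quartets (s.1 : ↥M24).2 (hXmem k hk)
        rw [(hsfix s.1 s.2).1] at h1
        exact h1
      rintro ((((h0 | h1) | h2) | h3) | h4)
      · rw [Set.mem_singleton_iff] at h0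
        rw [h0]
        exact hQ
      · exact hsub 1 (by norm_num) h1
      · exact hsub 2 (by norm_num) h2
      · exact hsub 3 (by norm_num) h3
      · exact hsub 4 (by norm_num) h4

end Cfsg.Agent.S1599
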