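import Cfsg.Statements.S0238
import Mathlib
import Cfsg.Agent.Lib.Helper1.InvPairs

set_option autoImplicit false
open Cfsg

namespace Cfsg.Agent.S0238

open Cfsg.Agent.Lib.Helper1

/-- For every x in a finite group G, the number c of ordered pairs (u, v) of involutions with uv = x is at most |C_G(x)|; c = 0 when x is not conjugate to x⁻¹; and c + 2 ≤ |C_G(x)| when x is an involution. -/
theorem result {G : Type*} [Group G] [Finite G] (x : G) : Nat.card {p : G × G // orderOf p.1 = 2 ∧ orderOf p.2 = 2 ∧ p.1 * p.2 = x} ≤ Nat.card (Subgroup.centralizer ({x} : Set G)) ∧ (¬ IsConj x x⁻¹ → Nat.card {p : G × G // orderOf p.1 = 2 ∧ orderOf p.2 = 2 ∧ p.1 * p.2 = x} = 0) ∧ (orderOf x = 2 → Nat.card {p : G × G // orderOf p.1 = 2 ∧ orderOf p.2 = 2 ∧ p.1 * p.2 = x} + 2 ≤ Nat.card (Subgroup.centralizer ({x} : Set G))) := by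
  have hle : Nat.card (InvPairs x) ≤ Nat.card (Subgroup.centralizer ({x} : Set G)) := by
    by_cases hreal : IsConj x x⁻¹
    · rw [← card_inverters hreal]
      exact Nat.card_le_card_of_injective _ (invPairsToInverters_injective x)
    · haveI := isEmpty_inverters hreal
      haveI : IsEmpty (InvPairs x) := ⟨fun p => isEmptyElim (invPairsToInverters x p)⟩
      rw [Nat.card_of_isEmpty]
      exact Nat.zero_le _
  refine ⟨hle, ?_, ?_⟩
  · intro hreal
    haveI := isEmpty_inverters hreal
    haveI : IsEmpty (InvPairs x) := ⟨fun p => isEmptyElim (invPairsToInverters x p)⟩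
    exact Nat.card_of_isEmpty
  · intro hx
    have hx2 : x * x = 1 := sq_eq_one_of_orderOf_two hx
    have hxi : x⁻¹ = x := inv_eq_of_mul_eq_one_left hx2
    have hx1 : x ≠ 1 := ne_one_of_orderOf_two hx
    rw [Nat.card_congr (invPairsEquiv x)]
    have h1 : Nat.card {u : G // orderOf u = 2 ∧ orderOf (u * x) = 2}
        = ({u : G | orderOf u = 2 ∧ orderOf (u * x) = 2} : Set G).ncard := Nat.card_coe_set_eq _
    have h2 : Nat.card (Subgroup.centralizer ({x} : Set G))
        = ((Subgroup.centralizer ({x} : Set G) : Subgroup G) : Set G).ncard :=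
      Nat.card_coe_set_eq _
    rw [h1, h2]
    set A : Set G := {u : G | orderOf u = 2 ∧ orderOf (u * x) = 2} with hA
    have hxA : x ∉ A := by
      rintro ⟨_, h⟩
      rw [hx2, orderOf_one] at h
      exact absurd h (by decide)
    have h1A : (1 : G) ∉ insert x A := by
      rintro (h | ⟨h, _⟩)
      · exact hx1 h.symm
      · rw [orderOf_one] at h
        exact absurd h (by decide)
    have hsub : insert 1 (insert x A) ⊆ ((Subgroup.centralizer ({x} : Set G) : Subgroup G) : Set G) := by
      rintro t (rfl | rfl | ⟨ht, h⟩)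
      · exact Subgroup.one_mem _
      · exact Subgroup.mem_centralizer_singleton_iff.2 rfl
      · have := ((orderOf_mul_eq_two_iff ht).1 h).1
        rw [hxi] at this
        apply Subgroup.mem_centralizer_singleton_iff.2
        calc t * x = (t * x * t⁻¹) * t := by group
          _ = x * t := by rw [this]
    have hfin : A.Finite := Set.toFinite _
    have := Set.ncard_le_ncard hsub (Set.toFinite _)
    rw [Set.ncard_insert_of_notMem h1A (hfin.insert x), Set.ncard_insert_of_notMem hxA hfin] at this
    exact this

end Cfsg.Agent.S0238
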