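import Cfsg.Statements.S0433
import Mathlib
import Cfsg.Agent.Lib.Helper1.Leech3

set_option autoImplicit false
open Cfsg

namespace Cfsg.Agent.S0433

open Cfsg Cfsg.Agent.Lib.Helper1


/-- Sign changes on the support of a codeword preserve the lattice. -/
theorem result (c : Finset Cfsg.GolayPt) (hc : c ∈ Cfsg.supports (Cfsg.golayCode : Set (Cfsg.GolayPt → ZMod 2))) (x : Cfsg.GolayPt → ℤ) (hx : x ∈ Cfsg.leechLattice) : (fun i => if i ∈ c then -x i else x i) ∈ Cfsg.leechLattice := by
  classical
  obtain ⟨v, hv, rfl⟩ := hc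
  rw [mem_leechLattice_iff] at hx ⊢
  obtain ⟨m, a, hxa, hs, hw⟩ := hx
  refine ⟨m, fun i => if i ∈ support₂ v then -m - a i else a i, ?_, ?_, ?_⟩
  · intro i
    by_cases h : i ∈ support₂ v
    · simp only [if_pos h]
      rw [hxa i]; ring
    · simp only [if_neg h]
      rw [hxa i]
  · have h1 : ∀ i ∈ (Finset.univ : Finset GolayPt),
        (if i ∈ support₂ v then -x i else x i) = x i - 2 * (if i ∈ support₂ v then x i else 0) := by
      intro i _
      by_cases h : i ∈ support₂ v
      · simp only [if_pos h]; ring
      · simp only [if_neg h]; ring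
    rw [Finset.sum_congr rfl h1, Finset.sum_sub_distrib, ← Finset.mul_sum, Finset.sum_ite_mem,
      Finset.univ_inter]
    have h2 : ∀ i ∈ support₂ v, x i = m + 2 * a i := fun i _ => hxa i
    rw [Finset.sum_congr rfl h2, Finset.sum_add_distrib, Finset.sum_const, ← Finset.mul_sum,
      nsmul_eq_mul]
    obtain ⟨k, hk⟩ := four_dvd_card_support₂ hv
    obtain ⟨l, hl⟩ := two_dvd_sum_support₂ hv hw
    rw [hk, hl]
    push_cast
    have : ∑ i, x i - 2 * (4 * (k : ℤ) * m + 2 * (2 * l)) = ∑ i, x i + 8 * (-(k * m + l)) := by ring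
    rw [this]
    unfold Int.ModEq at hs ⊢
    rw [Int.add_mul_emod_self_left]
    exact hs
  · have : wordZ (fun i => if i ∈ support₂ v then -m - a i else a i) = wordZ a + (m : ZMod 2) • v := by
      funext i
      rw [Pi.add_apply, Pi.smul_apply, wordZ_apply, wordZ_apply, smul_eq_mul]
      by_cases h : i ∈ support₂ v
      · simp only [if_pos h]
        rw [mem_support₂_iff] at h
        push_cast
        revert h
        generalize v i = c
        generalize ((m : ℤ) : ZMod 2) = m'
        generalize ((a i : ℤ) : ZMod 2) = a'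
        revert c m' a'
        decide
      · simp only [if_neg h]
        rw [mem_support₂_iff] at h
        push Not at h
        rw [h, mul_zero, add_zero]
    rw [this]
    exact Submodule.add_mem _ hw (Submodule.smul_mem _ _ hv)

end Cfsg.Agent.S0433
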