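import Cfsg.Statements.S0394
import Mathlib
import Cfsg.Agent.Lib.Helper1.Leech
import Cfsg.Agent.Lib.Helper1.Leech2
import Cfsg.Agent.Lib.Helper1.LeechIndex
import Cfsg.Agent.Lib.Helper9.LeechTS
import Cfsg.Agent.Lib.Helper1.GolayEnum
import Cfsg.Agent.S0359
import Cfsg.Agent.S0360

set_option autoImplicit false
open Cfsg

namespace Cfsg.Agent.S0394

open Cfsg.Agent.Lib.Helper1 Cfsg.Agent.Lib.Helper9.LeechTS

/-- signed vectors: `-lam` on `e`, `lam` on the rest of `T`, zero elsewhere -/
def vecS (lam : ℤ) (T e : Finset GolayPt) : GolayPt → ℤ :=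
  fun i => if i ∈ e then -lam else if i ∈ T then lam else 0

/-- the odd vectors: signs from a word, one coordinate of absolute value three -/
def fA (c : GolayPt → ZMod 2) (j : GolayPt) : GolayPt → ℤ :=
  fun i => (if c i = 0 then 1 else -1) * (if i = j then -3 else 1)

theorem tight_sum {ι : Type*} [Fintype ι] [DecidableEq ι] (f : ι → ℤ) (hf : ∀ i, 0 ≤ f i)
    (T : Finset ι) (hT : ∀ i ∈ T, 1 ≤ f i) (hsum : ∑ i, f i = T.card) :
    (∀ i ∈ T, f i = 1) ∧ ∀ i, i ∉ T → f i = 0 := by
  have h1 : ∑ i, f i = ∑ i ∈ T, f i + ∑ i ∈ Tᶜ, f i := (Finset.sum_add_sum_compl T f).symm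
  have h2 : (T.card : ℤ) ≤ ∑ i ∈ T, f i := by
    have := Finset.card_nsmul_le_sum T f 1 hT
    simpa using this
  have h3 : 0 ≤ ∑ i ∈ Tᶜ, f i := Finset.sum_nonneg (fun i _ => hf i)
  have h4 : ∑ i ∈ Tᶜ, f i = 0 := by omega
  have h5 : ∑ i ∈ T, f i = T.card := by omega
  constructor
  · have h6 : ∑ i ∈ T, (f i - 1) = 0 := by
      rw [Finset.sum_sub_distrib, h5]
      simp
    have h7 := (Finset.sum_eq_zero_iff_of_nonneg (fun i hi => by
      have := hT i hi
      omega)).1 h6
    intro i hi
    have := h7 i hi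
    omega
  · intro i hi
    have h7 := (Finset.sum_eq_zero_iff_of_nonneg (fun i _ => hf i)).1 h4
    exact h7 i (Finset.mem_compl.2 hi)

theorem sum_one {ι : Type*} [DecidableEq ι] (s : Finset ι) (f : ι → ℤ) (hf : ∀ i ∈ s, 0 ≤ f i)
    (h : ∑ i ∈ s, f i = 1) : ∃ j ∈ s, f j = 1 ∧ ∀ i ∈ s, i ≠ j → f i = 0 := by
  have hex : ∃ j ∈ s, f j ≠ 0 := by
    by_contra hcon
    push Not at hcon
    rw [Finset.sum_eq_zero hcon] at h
    exact absurd h (by norm_num)
  obtain ⟨j, hj, hfj⟩ := hex
  have h1 := Finset.add_sum_erase s f hj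
  have h2 : 0 ≤ ∑ i ∈ s.erase j, f i :=
    Finset.sum_nonneg (fun i hi => hf i (Finset.mem_of_mem_erase hi))
  have h3 := hf j hj
  have h4 : ∑ i ∈ s.erase j, f i = 0 := by omega
  refine ⟨j, hj, by omega, ?_⟩
  intro i hi hij
  exact (Finset.sum_eq_zero_iff_of_nonneg
    (fun i hi => hf i (Finset.mem_of_mem_erase hi))).1 h4 i (Finset.mem_erase.2 ⟨hij, hi⟩)

theorem sq_eq_one {y : ℤ} (h : y ^ 2 = 1) : y = 1 ∨ y = -1 := by
  have h2 : (y - 1) * (y + 1) = 0 := by ring_nf; omega
  rcases mul_eq_zero.1 h2 with h3 | h3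
  · left; omega
  · right; omega

theorem sq_eq_nine {y : ℤ} (h : y ^ 2 = 9) : y = 3 ∨ y = -3 := by
  have h2 : (y - 3) * (y + 3) = 0 := by ring_nf; omega
  rcases mul_eq_zero.1 h2 with h3 | h3
  · left; omega
  · right; omega

theorem one_le_sq {y : ℤ} (h : y ≠ 0) : 1 ≤ y ^ 2 := by
  have := sq_nonneg y
  have h2 : y ^ 2 ≠ 0 := pow_ne_zero 2 h
  omega

/-- half of an even vector -/
def half (y : GolayPt → ℤ) : GolayPt → ℤ := fun i => y i / 2

theorem half_word_mem {y : GolayPt → ℤ} (hy : y ∈ leechLattice) (h0 : 2 ∣ y none) :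
    (∀ i, 2 ∣ y i) ∧ wordZ (half y) ∈ golayCode := by
  have hpar := leech_le_latA1 hy
  rw [mem_latA1] at hpar
  have hev : ∀ i, 2 ∣ y i := by
    intro i
    have := hpar i
    omega
  refine ⟨hev, ?_⟩
  have h1 := leech_word hy
  obtain ⟨m, hm⟩ := h0
  have e : wordZ (half y) = wordZ (halfV y) + ((m : ℤ) : ZMod 2) • (1 : GolayPt → ZMod 2) := by
    funext i
    simp only [wordZ_apply, half, halfV, Pi.add_apply, Pi.smul_apply, Pi.one_apply, smul_eq_mul,
      mul_one]
    obtain ⟨a, ha⟩ := hev i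
    have e1 : y i / 2 = (y i - y none) / 2 + m := by omega
    rw [e1]
    push_cast
    rfl
  rw [e]
  exact golayCode.add_mem h1 (golayCode.smul_mem _ one_mem_golayCode)

/-- the odd analogue: the word of `(x - 1) / 2` -/
def halfO (x : GolayPt → ℤ) : GolayPt → ℤ := fun i => (x i - 1) / 2

theorem halfO_word_mem {x : GolayPt → ℤ} (hx : x ∈ leechLattice) (h0 : ¬ 2 ∣ x none) :
    (∀ i, ¬ 2 ∣ x i) ∧ wordZ (halfO x) ∈ golayCode := by
  have hpar := leech_le_latA1 hx
  rw [mem_latA1] at hpar
  have hod : ∀ i, ¬ 2 ∣ x i := by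
    intro i
    have := hpar i
    omega
  refine ⟨hod, ?_⟩
  have h1 := leech_word hx
  have e : wordZ (halfO x) = wordZ (halfV x) +
      ((((x none - 1) / 2 : ℤ)) : ZMod 2) • (1 : GolayPt → ZMod 2) := by
    funext i
    simp only [wordZ_apply, halfO, halfV, Pi.add_apply, Pi.smul_apply, Pi.one_apply, smul_eq_mul,
      mul_one]
    have := hod i
    have e1 : (x i - 1) / 2 = (x i - x none) / 2 + (x none - 1) / 2 := by omega
    rw [e1]
    push_cast
    rfl
  rw [e]
  exact golayCode.add_mem h1 (golayCode.smul_mem _ one_mem_golayCode)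

theorem sqNorm_half {x : GolayPt → ℤ} (hev : ∀ i, 2 ∣ x i) : sqNorm x = 4 * ∑ i, half x i ^ 2 := by
  unfold sqNorm
  rw [Finset.mul_sum]
  apply Finset.sum_congr rfl
  intro i _
  obtain ⟨a, ha⟩ := hev i
  have : half x i = a := by
    unfold half
    omega
  rw [this, ha]
  ring

theorem card_le_sum_sq (y : GolayPt → ℤ) (T : Finset GolayPt) (hT : ∀ i ∈ T, y i ≠ 0) :
    (T.card : ℤ) ≤ ∑ i, y i ^ 2 := by
  have h1 : (T.card : ℤ) ≤ ∑ i ∈ T, y i ^ 2 := by
    have := Finset.card_nsmul_le_sum T (fun i => y i ^ 2) 1 (fun i hi => one_le_sq (hT i hi))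
    simpa using this
  have h2 : ∑ i ∈ T, y i ^ 2 ≤ ∑ i, y i ^ 2 :=
    Finset.sum_le_sum_of_subset_of_nonneg (Finset.subset_univ _) (fun i _ _ => sq_nonneg _)
  omega

theorem classify_even {x : GolayPt → ℤ} (hx : x ∈ leechLattice) (hn : sqNorm x = 32)
    (h0 : 2 ∣ x none) :
    (∃ O ∈ octads, ∃ e ⊆ O, Even e.card ∧ x = vecS 2 O e) ∨
    (∃ p : Finset GolayPt, p.card = 2 ∧ ∃ q ⊆ p, x = vecS 4 p q) := by
  obtain ⟨hev, hc⟩ := half_word_mem hx h0
  have hxy : ∀ i, x i = 2 * half x i := by
    intro i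
    obtain ⟨a, ha⟩ := hev i
    unfold half
    omega
  have hs8 : ∑ i, half x i ^ 2 = 8 := by
    have := sqNorm_half hev
    omega
  set y := half x with hy
  have hOd : support₂ (wordZ y) = Finset.univ.filter (fun i => y i % 2 = 1) := support₂_wordZ y
  have hmem : ∀ i, i ∈ support₂ (wordZ y) ↔ y i % 2 = 1 := by
    intro i
    rw [hOd, Finset.mem_filter]
    exact ⟨fun h => h.2, fun h => ⟨Finset.mem_univ _, h⟩⟩
  have hle : ((support₂ (wordZ y)).card : ℤ) ≤ 8 := by
    rw [← hs8]
    apply card_le_sum_sq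
    intro i hi
    have := (hmem i).1 hi
    omega
  have hw := Cfsg.Agent.S0359.result (wordZ y) hc
  have hw' : hammingNorm (wordZ y) = (support₂ (wordZ y)).card := rfl
  rw [hw'] at hw
  have hcard : (support₂ (wordZ y)).card = 8 ∨ (support₂ (wordZ y)).card = 0 := by omega
  rcases hcard with h8 | h8
  · -- the octad case
    left
    have ht := tight_sum (fun i => y i ^ 2) (fun i => sq_nonneg _) (support₂ (wordZ y))
      (fun i hi => one_le_sq (by have := (hmem i).1 hi; omega)) (by rw [hs8, h8]; rfl)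
    have hin : ∀ i ∈ support₂ (wordZ y), y i = 1 ∨ y i = -1 := fun i hi => sq_eq_one (ht.1 i hi)
    have hout : ∀ i, i ∉ support₂ (wordZ y) → y i = 0 := fun i hi => by
      have := ht.2 i hi
      exact pow_eq_zero_iff (by norm_num) |>.1 this
    refine ⟨support₂ (wordZ y), ⟨⟨wordZ y, hc, rfl⟩, h8⟩,
      (support₂ (wordZ y)).filter (fun i => y i = -1), Finset.filter_subset _ _, ?_, ?_⟩
    · -- parity of the number of minus signs
      have hsum := leech_sum hx
      have hy0 : y none = 0 ∨ y none = 1 ∨ y none = -1 := by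
        by_cases hn0 : none ∈ support₂ (wordZ y)
        · rcases hin none hn0 with h | h
          · right; left; exact h
          · right; right; exact h
        · left; exact hout none hn0
      have hsx : ∑ i, x i = 2 * ∑ i, y i := by
        rw [Finset.mul_sum]
        exact Finset.sum_congr rfl (fun i _ => hxy i)
      have hsy : ∑ i, y i = 8 - 2 * (((support₂ (wordZ y)).filter (fun i => y i = -1)).card : ℤ) := by
        have h1 : ∑ i, y i = ∑ i ∈ support₂ (wordZ y), y i := by
          symm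
          apply Finset.sum_subset (Finset.subset_univ _)
          intro i _ hi
          exact hout i hi
        rw [h1, ← Finset.sum_filter_add_sum_filter_not (support₂ (wordZ y)) (fun i => y i = -1)]
        have h2 : ∑ i ∈ (support₂ (wordZ y)).filter (fun i => y i = -1), y i =
            -(((support₂ (wordZ y)).filter (fun i => y i = -1)).card : ℤ) := by
          rw [Finset.sum_congr rfl (fun i hi => (Finset.mem_filter.1 hi).2)]
          simp
        have h3 : ∑ i ∈ (support₂ (wordZ y)).filter (fun i => ¬ y i = -1), y i =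
            (((support₂ (wordZ y)).filter (fun i => ¬ y i = -1)).card : ℤ) := by
          rw [Finset.sum_congr rfl (fun i hi => by
            have h := Finset.mem_filter.1 hi
            rcases hin i h.1 with h' | h'
            · exact h'
            · exact absurd h' h.2)]
          simp
        have h4 := Finset.card_filter_add_card_filter_not (s := support₂ (wordZ y))
          (fun i => y i = -1)
        rw [h2, h3]
        rw [h8] at h4
        omega
      have hx0 : x none = 2 * y none := hxy none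
      rw [← Int.even_coe_nat, even_iff_two_dvd]
      omega
    · funext i
      rw [hxy i]
      unfold vecS
      by_cases hi : i ∈ support₂ (wordZ y)
      · rcases hin i hi with h | h
        · have hne : i ∉ (support₂ (wordZ y)).filter (fun i => y i = -1) := by
            intro h'
            have := (Finset.mem_filter.1 h').2
            omega
          rw [if_neg hne, if_pos hi, h]
          rfl
        · have hmem' : i ∈ (support₂ (wordZ y)).filter (fun i => y i = -1) :=
            Finset.mem_filter.2 ⟨hi, h⟩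
          rw [if_pos hmem', h]
          rfl
      · have hne : i ∉ (support₂ (wordZ y)).filter (fun i => y i = -1) := fun h' =>
          hi (Finset.mem_filter.1 h').1
        rw [if_neg hne, if_neg hi, hout i hi]
        rfl
  · -- all coordinates divisible by four
    right
    have hall : ∀ i, y i % 2 = 0 := by
      intro i
      have : i ∉ support₂ (wordZ y) := by
        rw [Finset.card_eq_zero] at h8
        rw [h8]
        exact Finset.notMem_empty i
      have h2 := (hmem i).not.1 this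
      omega
    have hyz : ∀ i, y i = 2 * (y i / 2) := fun i => by have := hall i; omega
    have hs2 : ∑ i, (y i / 2) ^ 2 = 2 := by
      have : ∑ i, y i ^ 2 = 4 * ∑ i, (y i / 2) ^ 2 := by
        rw [Finset.mul_sum]
        apply Finset.sum_congr rfl
        intro i _
        have := hyz i
        generalize y i / 2 = w at this ⊢
        rw [this]
        ring
      omega
    set z : GolayPt → ℤ := fun i => y i / 2 with hz
    -- a first non-zero coordinate
    have hex : ∃ a, z a ≠ 0 := by
      by_contra hcon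
      push Not at hcon
      have : ∑ i, z i ^ 2 = 0 := Finset.sum_eq_zero (fun i _ => by rw [hcon i]; rfl)
      rw [this] at hs2
      exact absurd hs2 (by norm_num)
    obtain ⟨a, ha⟩ := hex
    have ha1 : z a ^ 2 = 1 := by
      have h1 := one_le_sq ha
      have h2 : z a ^ 2 ≤ 2 := by
        rw [← hs2]
        exact Finset.single_le_sum (f := fun i => z i ^ 2) (fun i _ => sq_nonneg _)
          (Finset.mem_univ a)
      have h3 : z a ^ 2 ≠ 2 := by
        intro h
        have h4 : z a ≤ 1 := by nlinarith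
        have h5 : -1 ≤ z a := by nlinarith
        have : z a = 0 ∨ z a = 1 ∨ z a = -1 := by omega
        rcases this with h6 | h6 | h6 <;> rw [h6] at h <;> norm_num at h
      omega
    have hrest : ∑ i ∈ Finset.univ.erase a, z i ^ 2 = 1 := by
      have := Finset.add_sum_erase Finset.univ (fun i => z i ^ 2) (Finset.mem_univ a)
      rw [hs2, ha1] at this
      omega
    obtain ⟨b, hb, hb1, hb0⟩ := sum_one (Finset.univ.erase a) (fun i => z i ^ 2)
      (fun i _ => sq_nonneg _) hrest
    have hba : b ≠ a := (Finset.mem_erase.1 hb).1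
    have hz0 : ∀ i, i ≠ a → i ≠ b → z i = 0 := by
      intro i hia hib
      have := hb0 i (Finset.mem_erase.2 ⟨hia, Finset.mem_univ _⟩) hib
      exact pow_eq_zero_iff (by norm_num) |>.1 this
    have hxz : ∀ i, x i = 4 * z i := by
      intro i
      rw [hxy i, hyz i]
      ring
    refine ⟨{a, b}, Finset.card_pair (fun h => hba h.symm),
      ({a, b} : Finset GolayPt).filter (fun i => z i = -1), Finset.filter_subset _ _, ?_⟩
    funext i
    rw [hxz i]
    unfold vecS
    by_cases hi : i ∈ ({a, b} : Finset GolayPt)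
    · have hzi : z i = 1 ∨ z i = -1 := by
        rw [Finset.mem_insert, Finset.mem_singleton] at hi
        rcases hi with rfl | rfl
        · exact sq_eq_one ha1
        · exact sq_eq_one hb1
      rcases hzi with h | h
      · have hne : i ∉ ({a, b} : Finset GolayPt).filter (fun i => z i = -1) := by
          intro h'
          have := (Finset.mem_filter.1 h').2
          omega
        rw [if_neg hne, if_pos hi, h]
        rfl
      · have hmem' : i ∈ ({a, b} : Finset GolayPt).filter (fun i => z i = -1) :=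
          Finset.mem_filter.2 ⟨hi, h⟩
        rw [if_pos hmem', h]
        rfl
    · have hne : i ∉ ({a, b} : Finset GolayPt).filter (fun i => z i = -1) := fun h' =>
        hi (Finset.mem_filter.1 h').1
      have hia : i ≠ a := fun h => hi (by rw [h]; exact Finset.mem_insert_self _ _)
      have hib : i ≠ b := fun h => hi (by rw [h]; exact Finset.mem_insert_of_mem (Finset.mem_singleton_self _))
      rw [if_neg hne, if_neg hi, hz0 i hia hib]
      rfl

theorem cast_vals : (((3 - 1 : ℤ) / 2 : ℤ) : ZMod 2) ≠ 0 ∧ (((-3 - 1 : ℤ) / 2 : ℤ) : ZMod 2) = 0 ∧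
    (((1 - 1 : ℤ) / 2 : ℤ) : ZMod 2) = 0 ∧ (((-1 - 1 : ℤ) / 2 : ℤ) : ZMod 2) ≠ 0 := by
  decide

theorem classify_odd {x : GolayPt → ℤ} (hx : x ∈ leechLattice) (hn : sqNorm x = 32)
    (h0 : ¬ 2 ∣ x none) : ∃ c ∈ golayCode, ∃ j, x = fA c j := by
  obtain ⟨hod, hc⟩ := halfO_word_mem hx h0
  have h8 : ∀ i, (8 : ℤ) ∣ x i ^ 2 - 1 := by
    intro i
    have := hod i
    obtain ⟨k, hk⟩ : ∃ k, x i = 2 * k + 1 := ⟨(x i - 1) / 2, by omega⟩
    rw [hk]
    have h2 : (2 : ℤ) ∣ k * (k + 1) := (Int.even_mul_succ_self k).two_dvd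
    obtain ⟨t, ht⟩ := h2
    exact ⟨t, by nlinarith⟩
  have hnn : ∀ i, 0 ≤ (x i ^ 2 - 1) / 8 := by
    intro i
    apply Int.ediv_nonneg _ (by norm_num)
    have : x i ≠ 0 := by
      intro h
      have := hod i
      rw [h] at this
      exact this (dvd_zero _)
    have := one_le_sq this
    omega
  have hsum : ∑ i, (x i ^ 2 - 1) / 8 = 1 := by
    have h1 : ∑ i, (x i ^ 2 - 1) = 8 := by
      rw [Finset.sum_sub_distrib]
      unfold sqNorm at hn
      rw [hn]
      simp
    have h2 : ∑ i, (x i ^ 2 - 1) = 8 * ∑ i, (x i ^ 2 - 1) / 8 := by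
      rw [Finset.mul_sum]
      exact Finset.sum_congr rfl (fun i _ => by
        obtain ⟨t, ht⟩ := h8 i
        omega)
    omega
  obtain ⟨j, _, hj1, hj0⟩ := sum_one Finset.univ (fun i => (x i ^ 2 - 1) / 8) (fun i _ => hnn i) hsum
  have hxj : x j ^ 2 = 9 := by
    obtain ⟨t, ht⟩ := h8 j
    have hj1' : (x j ^ 2 - 1) / 8 = 1 := hj1
    omega
  have hxi : ∀ i, i ≠ j → x i ^ 2 = 1 := by
    intro i hij
    have := hj0 i (Finset.mem_univ _) hij
    obtain ⟨t, ht⟩ := h8 i
    have this' : (x i ^ 2 - 1) / 8 = 0 := this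
    omega
  obtain ⟨c3, cm3, c1, cm1⟩ := cast_vals
  refine ⟨wordZ (halfO x), hc, j, ?_⟩
  funext i
  unfold fA
  rw [wordZ_apply]
  unfold halfO
  by_cases hij : i = j
  · rw [if_pos hij]
    rw [hij]
    rcases sq_eq_nine hxj with h | h
    · rw [h, if_neg c3]
      norm_num
    · rw [h, if_pos cm3]
      norm_num
  · rw [if_neg hij]
    rcases sq_eq_one (hxi i hij) with h | h
    · rw [h, if_pos c1]
      norm_num
    · rw [h, if_neg cm1]
      norm_num

/-- indicator of a set of points -/
def ind (S : Finset GolayPt) (i : GolayPt) : ℤ := if i ∈ S then 1 else 0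

theorem sum_ind (S : Finset GolayPt) : ∑ i, ind S i = S.card := by
  unfold ind
  rw [Finset.sum_boole, Finset.filter_mem_eq_inter, Finset.univ_inter]

theorem vecS_eq {lam : ℤ} {T e : Finset GolayPt} (he : e ⊆ T) (i : GolayPt) :
    vecS lam T e i = lam * (ind T i - 2 * ind e i) := by
  unfold vecS ind
  by_cases h1 : i ∈ e
  · rw [if_pos h1, if_pos (he h1), if_pos h1]
    ring
  · rw [if_neg h1, if_neg h1]
    by_cases h2 : i ∈ T
    · rw [if_pos h2, if_pos h2]
      ring
    · rw [if_neg h2, if_neg h2]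
      ring

theorem sum_vecS {lam : ℤ} {T e : Finset GolayPt} (he : e ⊆ T) :
    ∑ i, vecS lam T e i = lam * ((T.card : ℤ) - 2 * e.card) := by
  rw [Finset.sum_congr rfl (fun i _ => vecS_eq he i), ← Finset.mul_sum, Finset.sum_sub_distrib,
    ← Finset.mul_sum, sum_ind, sum_ind]

theorem sqNorm_vecS {lam : ℤ} {T e : Finset GolayPt} (he : e ⊆ T) :
    sqNorm (vecS lam T e) = lam ^ 2 * T.card := by
  unfold sqNorm
  have h : ∀ i, vecS lam T e i ^ 2 = lam ^ 2 * ind T i := by
    intro i
    rw [vecS_eq he]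
    unfold ind
    by_cases h1 : i ∈ e
    · rw [if_pos (he h1), if_pos h1]
      ring
    · rw [if_neg h1]
      by_cases h2 : i ∈ T
      · rw [if_pos h2]
        ring
      · rw [if_neg h2]
        ring
  rw [Finset.sum_congr rfl (fun i _ => h i), ← Finset.mul_sum, sum_ind]

theorem zmod2_cases : ∀ a : ZMod 2, a = 0 ∨ a = 1 := by decide

theorem vecS_mem {lam : ℤ} (hl : 2 ∣ lam) {T e : Finset GolayPt} (he : e ⊆ T)
    (hw : wordZ (fun i => lam / 2 * (ind T i - 2 * ind e i)) ∈ golayCode)
    (hs : (8 : ℤ) ∣ lam * ((T.card : ℤ) - 2 * e.card)) : vecS lam T e ∈ leechLattice := by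
  rw [mem_leechLattice_iff]
  refine ⟨0, fun i => lam / 2 * (ind T i - 2 * ind e i), ?_, ?_, hw⟩
  · intro i
    rw [vecS_eq he]
    obtain ⟨k, hk⟩ := hl
    have : lam / 2 = k := by omega
    rw [this, hk]
    ring
  · rw [sum_vecS he]
    unfold Int.ModEq
    obtain ⟨k, hk⟩ := hs
    omega

theorem memB {O e : Finset GolayPt} (hO : O ∈ octads) (he : e ⊆ O) (hev : Even e.card) :
    vecS 2 O e ∈ leechLattice ∧ sqNorm (vecS 2 O e) = 32 := by
  obtain ⟨⟨w, hw, hwO⟩, h8⟩ := hO
  constructor
  · apply vecS_mem (by norm_num) he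
    · have : wordZ (fun i => (2 : ℤ) / 2 * (ind O i - 2 * ind e i)) = w := by
        funext i
        rw [wordZ_apply]
        have hi : i ∈ O ↔ w i ≠ 0 := by
          rw [← hwO]
          exact mem_support₂_iff w i
        unfold ind
        by_cases h1 : i ∈ O
        · have hw1 : w i = 1 := by
            rcases zmod2_cases (w i) with h | h
            · exact absurd h (hi.1 h1)
            · exact h
          rw [if_pos h1, hw1]
          by_cases h2 : i ∈ e
          · rw [if_pos h2]
            decide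
          · rw [if_neg h2]
            decide
        · have hw0 : w i = 0 := by
            by_contra h
            exact h1 (hi.2 h)
          have h2 : i ∉ e := fun h => h1 (he h)
          rw [if_neg h1, if_neg h2, hw0]
          decide
      rw [this]
      exact hw
    · rw [h8]
      obtain ⟨k, hk⟩ := hev
      rw [hk]
      push_cast
      exact ⟨2 - k, by ring⟩
  · rw [sqNorm_vecS he, h8]
    norm_num

theorem memC {p q : Finset GolayPt} (hp : p.card = 2) (hq : q ⊆ p) :
    vecS 4 p q ∈ leechLattice ∧ sqNorm (vecS 4 p q) = 32 := by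
  constructor
  · apply vecS_mem (by norm_num) hq
    · have : wordZ (fun i => (4 : ℤ) / 2 * (ind p i - 2 * ind q i)) = 0 := by
        funext i
        rw [wordZ_apply]
        have h2 : ((4 : ℤ) / 2 * (ind p i - 2 * ind q i)) = 2 * (ind p i - 2 * ind q i) := by
          norm_num
        rw [h2, Int.cast_mul]
        have : ((2 : ℤ) : ZMod 2) = 0 := by decide
        rw [this, zero_mul]
        rfl
      rw [this]
      exact golayCode.zero_mem
    · rw [hp]
      push_cast
      exact ⟨1 - q.card, by ring⟩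
  · rw [sqNorm_vecS hq, hp]
    norm_num

theorem fA_eq (c : GolayPt → ZMod 2) (j i : GolayPt) :
    fA c j i = (1 - 2 * ind (support₂ c) i) - 4 * (if i = j then (1 - 2 * ind (support₂ c) j) else 0) := by
  unfold fA ind
  have hi : i ∈ support₂ c ↔ c i ≠ 0 := mem_support₂_iff c i
  by_cases h1 : c i = 0
  · have h2 : i ∉ support₂ c := fun h => hi.1 h h1
    rw [if_pos h1, if_neg h2]
    by_cases h3 : i = j
    · rw [if_pos h3, if_pos h3, ← h3, if_neg h2]
      ring
    · rw [if_neg h3, if_neg h3]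
      ring
  · have h2 : i ∈ support₂ c := hi.2 h1
    rw [if_neg h1, if_pos h2]
    by_cases h3 : i = j
    · rw [if_pos h3, if_pos h3, ← h3, if_pos h2]
      ring
    · rw [if_neg h3, if_neg h3]
      ring

theorem fA_sq (c : GolayPt → ZMod 2) (j i : GolayPt) :
    fA c j i ^ 2 = 1 + (if i = j then 8 else 0) := by
  unfold fA
  by_cases h1 : c i = 0 <;> by_cases h3 : i = j
  · rw [if_pos h1, if_pos h3, if_pos h3]; norm_num
  · rw [if_pos h1, if_neg h3, if_neg h3]; norm_num
  · rw [if_neg h1, if_pos h3, if_pos h3]; norm_num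
  · rw [if_neg h1, if_neg h3, if_neg h3]; norm_num

theorem castA : (((1 - 1 : ℤ) / 2 : ℤ) : ZMod 2) = 0 ∧ (((-3 - 1 : ℤ) / 2 : ℤ) : ZMod 2) = 0 ∧
    (((-1 - 1 : ℤ) / 2 : ℤ) : ZMod 2) = 1 ∧ (((3 - 1 : ℤ) / 2 : ℤ) : ZMod 2) = 1 := by
  decide

theorem memA {c : GolayPt → ZMod 2} (hc : c ∈ golayCode) (j : GolayPt) :
    fA c j ∈ leechLattice ∧ sqNorm (fA c j) = 32 := by
  constructor
  · rw [mem_leechLattice_iff]
    refine ⟨1, fun i => (fA c j i - 1) / 2, ?_, ?_, ?_⟩
    · intro i
      show fA c j i = 1 + 2 * ((fA c j i - 1) / 2)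
      have : fA c j i % 2 = 1 := by
        unfold fA
        by_cases h1 : c i = 0 <;> by_cases h3 : i = j
        · rw [if_pos h1, if_pos h3]; norm_num
        · rw [if_pos h1, if_neg h3]; norm_num
        · rw [if_neg h1, if_pos h3]; norm_num
        · rw [if_neg h1, if_neg h3]; norm_num
      omega
    · rw [Finset.sum_congr rfl (fun i _ => fA_eq c j i), Finset.sum_sub_distrib,
        Finset.sum_sub_distrib, ← Finset.mul_sum, ← Finset.mul_sum, sum_ind, Finset.sum_ite_eq']
      simp only [Finset.mem_univ, if_true, Finset.sum_const, Finset.card_univ, card_golayPt,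
        nsmul_eq_mul, Nat.cast_ofNat, mul_one]
      obtain ⟨k, hk⟩ := four_dvd_card_support₂ hc
      rw [hk]
      unfold Int.ModEq ind
      split_ifs <;> push_cast <;> omega
    · have : wordZ (fun i => (fA c j i - 1) / 2) = c := by
        obtain ⟨a1, a2, a3, a4⟩ := castA
        funext i
        rw [wordZ_apply]
        unfold fA
        by_cases h1 : c i = 0 <;> by_cases h3 : i = j
        · rw [if_pos h1, if_pos h3, h1]
          norm_num
          all_goals exact a2
        · rw [if_pos h1, if_neg h3, h1]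
          norm_num
        · have hc1 : c i = 1 := by
            rcases zmod2_cases (c i) with h | h
            · exact absurd h h1
            · exact h
          rw [if_neg h1, if_pos h3, hc1]
          norm_num
          all_goals exact a4
        · have hc1 : c i = 1 := by
            rcases zmod2_cases (c i) with h | h
            · exact absurd h h1
            · exact h
          rw [if_neg h1, if_neg h3, hc1]
          norm_num
          all_goals exact a3
      rw [this]
      exact hc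
  · unfold sqNorm
    rw [Finset.sum_congr rfl (fun i _ => fA_sq c j i), Finset.sum_add_distrib, Finset.sum_ite_eq']
    simp

set_option maxRecDepth 8000

theorem fA_odd (c : GolayPt → ZMod 2) (j i : GolayPt) : fA c j i % 2 = 1 := by
  unfold fA
  by_cases h1 : c i = 0 <;> by_cases h3 : i = j
  · rw [if_pos h1, if_pos h3]; norm_num
  · rw [if_pos h1, if_neg h3]; norm_num
  · rw [if_neg h1, if_pos h3]; norm_num
  · rw [if_neg h1, if_neg h3]; norm_num

theorem fA_inj {c c' : GolayPt → ZMod 2} {j j' : GolayPt} (h : fA c j = fA c' j') :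
    c = c' ∧ j = j' := by
  have hj : j = j' := by
    have h1 : fA c j j ^ 2 = fA c' j' j ^ 2 := by rw [h]
    rw [fA_sq, fA_sq, if_pos rfl] at h1
    by_contra hne
    rw [if_neg hne] at h1
    norm_num at h1
  refine ⟨?_, hj⟩
  subst hj
  funext i
  have h1 := congrFun h i
  unfold fA at h1
  have ht : (if i = j then (-3 : ℤ) else 1) ≠ 0 := by split_ifs <;> norm_num
  have h2 := mul_right_cancel₀ ht h1
  rcases zmod2_cases (c i) with h3 | h3 <;> rcases zmod2_cases (c' i) with h4 | h4
  · rw [h3, h4]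
  · rw [h3, h4] at h2
    norm_num at h2
  · rw [h3, h4] at h2
    norm_num at h2
  · rw [h3, h4]

theorem ind_cases (S : Finset GolayPt) (i : GolayPt) :
    (i ∈ S ∧ ind S i = 1) ∨ (i ∉ S ∧ ind S i = 0) := by
  unfold ind
  by_cases h : i ∈ S
  · left; exact ⟨h, if_pos h⟩
  · right; exact ⟨h, if_neg h⟩

theorem vecS_ne_zero_iff {lam : ℤ} (hl : lam ≠ 0) {T e : Finset GolayPt} (he : e ⊆ T)
    (i : GolayPt) : vecS lam T e i ≠ 0 ↔ i ∈ T := by
  rw [vecS_eq he]
  rcases ind_cases T i with ⟨h1, h2⟩ | ⟨h1, h2⟩ <;> rcases ind_cases e i with ⟨h3, h4⟩ | ⟨h3, h4⟩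
  · rw [h2, h4]
    exact ⟨fun _ => h1, fun _ => mul_ne_zero hl (by norm_num)⟩
  · rw [h2, h4]
    exact ⟨fun _ => h1, fun _ => mul_ne_zero hl (by norm_num)⟩
  · exact absurd (he h3) h1
  · rw [h2, h4]
    exact ⟨fun h => absurd (by ring) h, fun h => absurd h h1⟩

theorem vecS_eq_neg_iff {lam : ℤ} (hl : lam ≠ 0) {T e : Finset GolayPt} (he : e ⊆ T)
    (i : GolayPt) : vecS lam T e i = -lam ↔ i ∈ e := by
  rw [vecS_eq he]
  rcases ind_cases T i with ⟨h1, h2⟩ | ⟨h1, h2⟩ <;> rcases ind_cases e i with ⟨h3, h4⟩ | ⟨h3, h4⟩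
  · rw [h2, h4]
    exact ⟨fun _ => h3, fun _ => by ring⟩
  · rw [h2, h4]
    refine ⟨fun h => ?_, fun h => absurd h h3⟩
    exfalso
    have : lam = 0 := by linarith
    exact hl this
  · exact absurd (he h3) h1
  · rw [h2, h4]
    refine ⟨fun h => ?_, fun h => absurd h h3⟩
    exfalso
    have : lam = 0 := by linarith
    exact hl this

theorem vecS_inj {lam : ℤ} (hl : lam ≠ 0) {T e T' e' : Finset GolayPt} (he : e ⊆ T)
    (he' : e' ⊆ T') (h : vecS lam T e = vecS lam T' e') : T = T' ∧ e = e' := by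
  constructor
  · ext i
    rw [← vecS_ne_zero_iff hl he i, ← vecS_ne_zero_iff hl he' i, h]
  · ext i
    rw [← vecS_eq_neg_iff hl he i, ← vecS_eq_neg_iff hl he' i, h]

theorem card_even_subsets (O : Finset GolayPt) (h : O.card = 8) :
    (O.powerset.filter (fun e => Even e.card)).card = 128 := by
  have hne : O.Nonempty := by
    rw [← Finset.card_pos, h]
    norm_num
  have h1 := Finset.sum_powerset_neg_one_pow_card_of_nonempty hne
  rw [← Finset.sum_filter_add_sum_filter_not O.powerset (fun e => Even e.card)] at h1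
  have h2 : ∑ m ∈ O.powerset.filter (fun e => Even e.card), (-1 : ℤ) ^ m.card =
      ((O.powerset.filter (fun e => Even e.card)).card : ℤ) := by
    rw [Finset.sum_congr rfl (fun m hm => Even.neg_one_pow (Finset.mem_filter.1 hm).2)]
    simp
  have h3 : ∑ m ∈ O.powerset.filter (fun e => ¬ Even e.card), (-1 : ℤ) ^ m.card =
      -((O.powerset.filter (fun e => ¬ Even e.card)).card : ℤ) := by
    rw [Finset.sum_congr rfl (fun m hm =>
      Odd.neg_one_pow (Nat.not_even_iff_odd.1 (Finset.mem_filter.1 hm).2))]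
    simp
  have h4 := Finset.card_filter_add_card_filter_not (s := O.powerset) (fun e => Even e.card)
  rw [Finset.card_powerset, h] at h4
  rw [h2, h3] at h1
  omega

open Classical in
/-- the octads as a finite set -/
noncomputable def octF : Finset (Finset GolayPt) := Finset.univ.filter (fun O => O ∈ octads)

open Classical in
theorem mem_octF (O : Finset GolayPt) : O ∈ octF ↔ O ∈ octads := by
  unfold octF
  rw [Finset.mem_filter]
  exact ⟨fun h => h.2, fun h => ⟨Finset.mem_univ _, h⟩⟩

theorem card_octF : octF.card = 759 := by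
  rw [← Cfsg.Agent.S0360.result, ← Set.ncard_coe_finset]
  congr 1
  ext O
  exact mem_octF O

open Classical in
/-- the three families -/
noncomputable def FA : Finset (GolayPt → ℤ) :=
  (Finset.univ : Finset (↥golayCode × GolayPt)).image
    (fun p => fA (p.1 : GolayPt → ZMod 2) p.2)

noncomputable def FB : Finset (GolayPt → ℤ) :=
  (octF.sigma (fun O => O.powerset.filter (fun e => Even e.card))).image
    (fun p => vecS 2 p.1 p.2)

noncomputable def FC : Finset (GolayPt → ℤ) :=
  (((Finset.univ : Finset GolayPt).powersetCard 2).sigma (fun p => p.powerset)).image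
    (fun p => vecS 4 p.1 p.2)

open Classical in
theorem card_FA : FA.card = 98304 := by
  unfold FA
  rw [Finset.card_image_of_injective]
  · rw [Finset.card_univ, Fintype.card_prod, card_golayPt, Fintype.card_congr codeEquiv.symm,
      Fintype.card_fin]
  · intro p p' h
    obtain ⟨h1, h2⟩ := fA_inj h
    exact Prod.ext (Subtype.ext h1) h2

theorem card_FB : FB.card = 97152 := by
  unfold FB
  rw [Finset.card_image_of_injOn]
  · rw [Finset.card_sigma]
    rw [Finset.sum_congr rfl (fun O hO => card_even_subsets O ((mem_octF O).1 hO).2)]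
    rw [Finset.sum_const, card_octF]
    norm_num
  · intro p hp p' hp' h
    have hp1 := Finset.mem_sigma.1 hp
    have hp1' := Finset.mem_sigma.1 hp'
    have he := Finset.mem_powerset.1 (Finset.mem_filter.1 hp1.2).1
    have he' := Finset.mem_powerset.1 (Finset.mem_filter.1 hp1'.2).1
    obtain ⟨h1, h2⟩ := vecS_inj (by norm_num) he he' h
    exact Sigma.ext h1 (heq_of_eq h2)

theorem card_FC : FC.card = 1104 := by
  unfold FC
  rw [Finset.card_image_of_injOn]
  · rw [Finset.card_sigma]
    rw [Finset.sum_congr rfl (fun p hp => by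
      rw [Finset.card_powerset, (Finset.mem_powersetCard.1 hp).2])]
    rw [Finset.sum_const, Finset.card_powersetCard, Finset.card_univ, card_golayPt]
    norm_num [Nat.choose]
  · intro p hp p' hp' h
    have hp1 := Finset.mem_sigma.1 hp
    have hp1' := Finset.mem_sigma.1 hp'
    have he := Finset.mem_powerset.1 hp1.2
    have he' := Finset.mem_powerset.1 hp1'.2
    obtain ⟨h1, h2⟩ := vecS_inj (by norm_num) he he' h
    exact Sigma.ext h1 (heq_of_eq h2)

open Classical in
theorem mem_FA {x : GolayPt → ℤ} : x ∈ FA ↔ ∃ c ∈ golayCode, ∃ j, x = fA c j := by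
  unfold FA
  rw [Finset.mem_image]
  constructor
  · rintro ⟨p, _, rfl⟩
    exact ⟨_, p.1.2, p.2, rfl⟩
  · rintro ⟨c, hc, j, rfl⟩
    exact ⟨(⟨c, hc⟩, j), Finset.mem_univ _, rfl⟩

theorem mem_FB {x : GolayPt → ℤ} :
    x ∈ FB ↔ ∃ O ∈ octads, ∃ e ⊆ O, Even e.card ∧ x = vecS 2 O e := by
  unfold FB
  rw [Finset.mem_image]
  constructor
  · rintro ⟨p, hp, rfl⟩
    have hp1 := Finset.mem_sigma.1 hp
    exact ⟨p.1, (mem_octF _).1 hp1.1, p.2, Finset.mem_powerset.1 (Finset.mem_filter.1 hp1.2).1,
      (Finset.mem_filter.1 hp1.2).2, rfl⟩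
  · rintro ⟨O, hO, e, he, hev, rfl⟩
    exact ⟨⟨O, e⟩, Finset.mem_sigma.2 ⟨(mem_octF _).2 hO,
      Finset.mem_filter.2 ⟨Finset.mem_powerset.2 he, hev⟩⟩, rfl⟩

theorem mem_FC {x : GolayPt → ℤ} :
    x ∈ FC ↔ ∃ p : Finset GolayPt, p.card = 2 ∧ ∃ q ⊆ p, x = vecS 4 p q := by
  unfold FC
  rw [Finset.mem_image]
  constructor
  · rintro ⟨p, hp, rfl⟩
    have hp1 := Finset.mem_sigma.1 hp
    exact ⟨p.1, (Finset.mem_powersetCard.1 hp1.1).2, p.2, Finset.mem_powerset.1 hp1.2, rfl⟩
  · rintro ⟨p, hp, q, hq, rfl⟩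
    exact ⟨⟨p, q⟩, Finset.mem_sigma.2 ⟨Finset.mem_powersetCard.2 ⟨Finset.subset_univ _, hp⟩,
      Finset.mem_powerset.2 hq⟩, rfl⟩

theorem vecS_even {lam : ℤ} (hl : 2 ∣ lam) {T e : Finset GolayPt} (he : e ⊆ T) (i : GolayPt) :
    vecS lam T e i % 2 = 0 := by
  rw [vecS_eq he]
  obtain ⟨k, rfl⟩ := hl
  rw [mul_assoc]
  omega

theorem disj_AB : Disjoint FA FB := by
  rw [Finset.disjoint_left]
  intro x hA hB
  obtain ⟨c, _, j, hx⟩ := (mem_FA (x := x)).1 hA
  obtain ⟨O, _, e, he, _, h⟩ := (mem_FB (x := x)).1 hB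
  have h1 := fA_odd c j none
  rw [← hx, h, vecS_even (by norm_num) he] at h1
  exact absurd h1 (by norm_num)

theorem disj_AC : Disjoint FA FC := by
  rw [Finset.disjoint_left]
  intro x hA hC
  obtain ⟨c, _, j, hx⟩ := (mem_FA (x := x)).1 hA
  obtain ⟨p, _, q, hq, h⟩ := (mem_FC (x := x)).1 hC
  have h1 := fA_odd c j none
  rw [← hx, h, vecS_even (by norm_num) hq] at h1
  exact absurd h1 (by norm_num)

theorem disj_BC : Disjoint FB FC := by
  rw [Finset.disjoint_left]
  intro x hB hC
  obtain ⟨O, hO, e, he, _, rfl⟩ := mem_FB.1 hB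
  obtain ⟨p, _, q, hq, h⟩ := mem_FC.1 hC
  have hne : O.Nonempty := by
    rw [← Finset.card_pos, hO.2]
    norm_num
  obtain ⟨i, hi⟩ := hne
  have h1 := congrFun h i
  rw [vecS_eq he, vecS_eq hq] at h1
  rcases ind_cases O i with ⟨_, h2⟩ | ⟨h2, _⟩
  · rcases ind_cases e i with ⟨_, h3⟩ | ⟨_, h3⟩ <;> rcases ind_cases p i with ⟨_, h4⟩ | ⟨_, h4⟩ <;>
      rcases ind_cases q i with ⟨_, h5⟩ | ⟨_, h5⟩ <;> rw [h2, h3, h4, h5] at h1 <;> norm_num at h1
  · exact h2 hi


/-- Exactly 196560 lattice vectors have sum of squares 32. -/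
theorem result : {x : Cfsg.GolayPt → ℤ | x ∈ Cfsg.leechLattice ∧ Cfsg.sqNorm x = 32}.ncard = 196560 := by
  have h : {x : Cfsg.GolayPt → ℤ | x ∈ Cfsg.leechLattice ∧ Cfsg.sqNorm x = 32} =
      ((FA ∪ FB ∪ FC : Finset (GolayPt → ℤ)) : Set (GolayPt → ℤ)) := by
    ext x
    rw [Finset.coe_union, Finset.coe_union, Set.mem_union, Set.mem_union, Finset.mem_coe,
      Finset.mem_coe, Finset.mem_coe, mem_FA, mem_FB, mem_FC]
    constructor
    · rintro ⟨hx, hn⟩
      by_cases h0 : 2 ∣ x none
      · rcases classify_even hx hn h0 with h | h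
        · exact Or.inl (Or.inr h)
        · exact Or.inr h
      · exact Or.inl (Or.inl (classify_odd hx hn h0))
    · rintro ((⟨c, hc, j, rfl⟩ | ⟨O, hO, e, he, hev, rfl⟩) | ⟨p, hp, q, hq, rfl⟩)
      · exact memA hc j
      · exact memB hO he hev
      · exact memC hp hq
  rw [h, Set.ncard_coe_finset, Finset.card_union_of_disjoint
    (Finset.disjoint_union_left.2 ⟨disj_AC, disj_BC⟩), Finset.card_union_of_disjoint disj_AB,
    card_FA, card_FB, card_FC]

end Cfsg.Agent.S0394
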