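import Cfsg.Statements.S0358
import Mathlib
import Cfsg.Agent.Lib.Helper1.GolayEnum

set_option autoImplicit false
open Cfsg

namespace Cfsg.Agent.S0358

open Cfsg.Agent.Lib.Helper1


/-- The length-24 code built from the squares modulo 23 has dimension 12 over the field with two elements. -/
theorem result : Module.finrank (ZMod 2) Cfsg.golayCode = 12 := by
  classical
  haveI : Fintype Cfsg.golayCode := Fintype.ofFinite _
  have hcard : Fintype.card Cfsg.golayCode = 4096 := by
    rw [← Fintype.card_congr codeEquiv, Fintype.card_fin]
  have h := Module.card_eq_pow_finrank (K := ZMod 2) (V := Cfsg.golayCode)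
  rw [hcard, ZMod.card] at h
  have h2 : (2 : ℕ) ^ 12 = 2 ^ Module.finrank (ZMod 2) Cfsg.golayCode := by
    rw [← h]; norm_num
  exact (Nat.pow_right_injective (le_refl 2) h2).symm

end Cfsg.Agent.S0358
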