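import Cfsg.Statements.S0362
import Mathlib

set_option autoImplicit false
open Cfsg

namespace Cfsg.Agent.S0362

open Cfsg

theorem qq : ∀ s t : ZMod 23, ∑ p : GolayPt, qrWord s p * qrWord t p = 0 := by
  decide +kernel

theorem q1 : ∀ s : ZMod 23, ∑ p : GolayPt, qrWord s p * (1 : GolayPt → ZMod 2) p = 0 := by
  decide +kernel

theorem oneone : ∑ p : GolayPt, (1 : GolayPt → ZMod 2) p * (1 : GolayPt → ZMod 2) p = 0 := by
  decide +kernel

/-- bilinearity helper: the set of `v` orthogonal to a fixed `w` is closed under the span operations -/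
theorem orth_span (S : Set (GolayPt → ZMod 2)) (w : GolayPt → ZMod 2)
    (h : ∀ g ∈ S, ∑ p, g p * w p = 0) :
    ∀ v ∈ Submodule.span (ZMod 2) S, ∑ p, v p * w p = 0 := by
  intro v hv
  induction hv using Submodule.span_induction with
  | mem x hx => exact h x hx
  | zero => simp
  | add x y _ _ hx hy =>
    simp only [Pi.add_apply, add_mul, Finset.sum_add_distrib, hx, hy, add_zero]
  | smul c x _ hx =>
    simp only [Pi.smul_apply, smul_eq_mul, mul_assoc, ← Finset.mul_sum, hx, mul_zero]


/-- The length-24 code is self-orthogonal: the dot product over ZMod 2 of any two of its words vanishes (with dimension 12 this makes it self-dual). -/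
theorem result (v w : Cfsg.GolayPt → ZMod 2) (hv : v ∈ Cfsg.golayCode) (hw : w ∈ Cfsg.golayCode) : ∑ i, v i * w i = 0 := by
  have hcomm : ∀ a b : GolayPt → ZMod 2, ∑ p, a p * b p = ∑ p, b p * a p := by
    intro a b
    exact Finset.sum_congr rfl (fun p _ => mul_comm _ _)
  -- generators are orthogonal to the whole code
  have hgen : ∀ g ∈ (Set.range qrWord ∪ {1} : Set (GolayPt → ZMod 2)),
      ∀ w ∈ golayCode, ∑ p, g p * w p = 0 := by
    intro g hg w hw
    rw [hcomm]
    refine orth_span _ g ?_ w hw
    intro g' hg'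
    rcases hg with ⟨s, rfl⟩ | hg
    · rcases hg' with ⟨t, rfl⟩ | hg'
      · exact qq t s
      · rw [Set.mem_singleton_iff] at hg'
        rw [hg', hcomm]; exact q1 s
    · rw [Set.mem_singleton_iff] at hg
      rcases hg' with ⟨t, rfl⟩ | hg'
      · rw [hg]; exact q1 t
      · rw [Set.mem_singleton_iff] at hg'
        rw [hg, hg']; exact oneone
  exact orth_span _ w (fun g hg => hgen g hg w hw) v hv

end Cfsg.Agent.S0362
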