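import Cfsg.Statements.S5623
import Cfsg.Agent.Lib.Helper9.GolayAbs2
-- import your own Cfsg.Agent.* helpers here

set_option autoImplicit false
open Cfsg

namespace Cfsg.Agent.S5623

open Cfsg.Agent.Lib.Helper9

/-- Let C be a self-dual binary code of length 24 with minimum weight at least 8 (a 12-dimensional subspace of the 24-dimensional space over the field with two elements, any two of whose words have dot product zero, with no non-zero word of weight below 8 — an abstract extended binary Golay code). Then every coset w + C of C in the ambient space contains either exactly one word of weight at most 4, which then has weight at most 3, or exactly six words of weight at most 4, all of weight exactly 4 and with pairwise disjoint supports (a sextet). -/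
theorem result (C : Submodule (ZMod 2) (Fin 24 → ZMod 2)) (hdim : Module.finrank (ZMod 2) C = 12) (horth : ∀ v ∈ C, ∀ w ∈ C, ∑ i, v i * w i = 0) (hmin : ∀ w ∈ C, w ≠ 0 → 8 ≤ hammingNorm w) (w : Fin 24 → ZMod 2) : (∃ u : Fin 24 → ZMod 2, {u : Fin 24 → ZMod 2 | u - w ∈ C ∧ hammingNorm u ≤ 4} = {u} ∧ hammingNorm u ≤ 3) ∨ ({u : Fin 24 → ZMod 2 | u - w ∈ C ∧ hammingNorm u ≤ 4}.ncard = 6 ∧ ∀ u ∈ {u : Fin 24 → ZMod 2 | u - w ∈ C ∧ hammingNorm u ≤ 4}, hammingNorm u = 4 ∧ ∀ u' ∈ {u : Fin 24 → ZMod 2 | u - w ∈ C ∧ hammingNorm u ≤ 4}, u ≠ u' → Disjoint (Finset.univ.filter fun i => u i ≠ 0) (Finset.univ.filter fun i => u' i ≠ 0)) := by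
  rcases GolayAbs.coset_structure hmin hdim w with ⟨u0, h0, h0C⟩ | ⟨F, hF6, hF, hFall⟩
  · left
    refine ⟨u0, ?_, h0⟩
    ext u
    simp only [Set.mem_setOf_eq, Set.mem_singleton_iff]
    constructor
    · rintro ⟨huC, hu4⟩
      by_cases h4 : hammingNorm u = 4
      · exfalso
        have : u0 - u ∈ C := by
          have := C.sub_mem h0C huC
          rwa [sub_sub_sub_cancel_right] at this
        have h := GolayAbs.eq_of_small hmin this (by omega)
        rw [h] at h0
        omega
      · have : u - u0 ∈ C := by
          have := C.sub_mem huC h0C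
          rwa [sub_sub_sub_cancel_right] at this
        exact GolayAbs.eq_of_small hmin this (by omega)
    · rintro rfl
      exact ⟨h0C, by omega⟩
  · right
    have hS : {u : Fin 24 → ZMod 2 | u - w ∈ C ∧ hammingNorm u ≤ 4} = ↑F := by
      ext u
      simp only [Set.mem_setOf_eq, Finset.mem_coe]
      constructor
      · rintro ⟨huC, hu4⟩
        by_cases h4 : hammingNorm u = 4
        · exact hFall u h4 huC
        · exfalso
          have hne : F.Nonempty := by
            rw [← Finset.card_pos, hF6]; norm_num
          obtain ⟨u1, hu1⟩ := hne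
          have : u - u1 ∈ C := by
            have := C.sub_mem huC (hF u1 hu1).2
            rwa [sub_sub_sub_cancel_right] at this
          have h := GolayAbs.eq_of_small hmin this (by have := (hF u1 hu1).1; omega)
          rw [h] at h4
          exact h4 (hF u1 hu1).1
      · intro hu
        exact ⟨(hF u hu).2, by rw [(hF u hu).1]⟩
    rw [hS]
    refine ⟨by rw [Set.ncard_coe_finset]; exact hF6, ?_⟩
    intro u hu
    refine ⟨(hF u hu).1, ?_⟩
    intro u' hu' hne
    have hC : u - u' ∈ C := by
      have := C.sub_mem (hF u hu).2 (hF u' hu').2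
      rwa [sub_sub_sub_cancel_right] at this
    have := GolayAbs.disjoint_of_four hmin hC (hF u hu).1 (hF u' hu').1 hne
    rw [GolayAbs.supp_eq_filter, GolayAbs.supp_eq_filter] at this
    exact this

end Cfsg.Agent.S5623
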