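import Cfsg.Statements.S0391
import Mathlib
import Cfsg.Agent.Lib.Helper1.Leech3

set_option autoImplicit false
open Cfsg

namespace Cfsg.Agent.S0391

open Cfsg Cfsg.Agent.Lib.Helper1


/-- Nonzero lattice vectors have sum of squares ≥ 32 (no vectors of customary norm 2). -/
theorem result (x : Cfsg.GolayPt → ℤ) (hx : x ∈ Cfsg.leechLattice) (h0 : x ≠ 0) : 32 ≤ Cfsg.sqNorm x := by
  classical
  have h16 := sixteen_dvd_sqNorm hx
  suffices hlt : 16 < sqNorm x by
    obtain ⟨k, hk⟩ := h16
    omega
  have hx' := (mem_leechLattice_iff_mem_leechSet x).1 hx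
  obtain ⟨m, h2, hs, hk⟩ := hx'
  have hnn : ∀ i ∈ (Finset.univ : Finset GolayPt), 0 ≤ x i ^ 2 := fun i _ => sq_nonneg _
  rcases Int.emod_two_eq_zero_or_one m with hm | hm
  · -- even case
    obtain ⟨w, hw, hsupp⟩ := hk 2
    have hwt := Cfsg.Agent.S0359.result w hw
    have hwt' : hammingNorm w = (support₂ w).card := rfl
    rw [hwt', hsupp] at hwt
    set s := Finset.univ.filter (fun i => x i ≡ 2 [ZMOD 4]) with hsdef
    by_cases hs0 : s.card = 0
    · -- all coordinates divisible by 4
      have h4 : ∀ i, x i % 4 = 0 := by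
        intro i
        have hi : i ∉ s := by
          rw [Finset.card_eq_zero] at hs0
          rw [hs0]; exact Finset.notMem_empty _
        rw [hsdef, Finset.mem_filter] at hi
        have hi' : ¬ (x i ≡ 2 [ZMOD 4]) := fun h => hi ⟨Finset.mem_univ _, h⟩
        have := h2 i
        unfold Int.ModEq at this hi'
        omega
      -- x = 4 c
      have hc : ∀ i, x i = 4 * (x i / 4) := fun i => by have := h4 i; omega
      have hsq : sqNorm x = 16 * ∑ i, (x i / 4) ^ 2 := by
        unfold sqNorm
        rw [Finset.mul_sum]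
        apply Finset.sum_congr rfl
        intro i _
        conv_lhs => rw [hc i]
        ring
      have hsum : ∑ i, x i = 4 * ∑ i, (x i / 4) := by
        rw [Finset.mul_sum]
        exact Finset.sum_congr rfl (fun i _ => hc i)
      have hpar : (2 : ℤ) ∣ ∑ i, ((x i / 4) ^ 2 - x i / 4) := by
        apply Finset.dvd_sum
        intro i _
        have : (x i / 4) ^ 2 - x i / 4 = (x i / 4) * (x i / 4 - 1) := by ring
        rw [this]
        exact Int.even_mul_pred_self (x i / 4) |>.two_dvd
      rw [Finset.sum_sub_distrib] at hpar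
      -- some coordinate nonzero
      have hne : ∃ i, x i ≠ 0 := by
        by_contra hcon
        push Not at hcon
        exact h0 (funext hcon)
      obtain ⟨i0, hi0⟩ := hne
      have hpos : 1 ≤ ∑ i, (x i / 4) ^ 2 := by
        have h1 : (x i0 / 4) ^ 2 ≤ ∑ i, (x i / 4) ^ 2 :=
          Finset.single_le_sum (f := fun i => (x i / 4) ^ 2) (fun i _ => sq_nonneg _) (Finset.mem_univ i0)
        have h2 : x i0 / 4 ≠ 0 := by
          have := hc i0
          omega
        have h3 : 0 < (x i0 / 4) ^ 2 := by positivity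
        omega
      unfold Int.ModEq at hs
      rw [hsum] at hs
      obtain ⟨t, ht⟩ := hpar
      rw [hsq]
      omega
    · have h8 : 8 ≤ s.card := by omega
      have hge : ∀ i ∈ s, 4 ≤ x i ^ 2 := by
        intro i hi
        rw [hsdef, Finset.mem_filter] at hi
        have h := hi.2
        unfold Int.ModEq at h
        have hne : 2 ≤ |x i| := by
          rcases abs_cases (x i) with ⟨h', _⟩ | ⟨h', _⟩ <;> omega
        have : |x i| ^ 2 = x i ^ 2 := sq_abs _
        nlinarith
      have h1 : ∑ i ∈ s, (4 : ℤ) ≤ ∑ i ∈ s, x i ^ 2 := Finset.sum_le_sum hge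
      have h2 : ∑ i ∈ s, x i ^ 2 ≤ ∑ i, x i ^ 2 :=
        Finset.sum_le_univ_sum_of_nonneg (fun i => sq_nonneg _)
      rw [Finset.sum_const, nsmul_eq_mul] at h1
      unfold sqNorm
      have : (8 : ℤ) ≤ (s.card : ℤ) := by exact_mod_cast h8
      omega
  · -- odd case
    have hge : ∀ i ∈ (Finset.univ : Finset GolayPt), 1 ≤ x i ^ 2 := by
      intro i _
      have := h2 i
      unfold Int.ModEq at this
      have hne : x i ≠ 0 := by omega
      have : 0 < x i ^ 2 := by positivity
      omega
    have h1 : ∑ i : GolayPt, (1 : ℤ) ≤ ∑ i, x i ^ 2 := Finset.sum_le_sum hge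
    rw [Finset.sum_const, nsmul_eq_mul, Finset.card_univ, card_golayPt] at h1
    unfold sqNorm
    simp only [Nat.cast_ofNat, mul_one] at h1
    omega

end Cfsg.Agent.S0391
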