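import Cfsg.Statements.S0395
import Mathlib
import Cfsg.Agent.Lib.Helper1.Leech48c

set_option autoImplicit false
open Cfsg

namespace Cfsg.Agent.S0395

open Cfsg.Agent.Lib.Helper1.Leech48 in


/-- Exactly 16773120 lattice vectors have sum of squares 48. -/
theorem result : {x : Cfsg.GolayPt → ℤ | x ∈ Cfsg.leechLattice ∧ Cfsg.sqNorm x = 48}.ncard = 16773120 := by
  have h : {x : Cfsg.GolayPt → ℤ | x ∈ Cfsg.leechLattice ∧ Cfsg.sqNorm x = 48} =
      ((F1 ∪ F2 ∪ F3 ∪ F4 : Finset (GolayPt → ℤ)) : Set (GolayPt → ℤ)) := by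
    ext x
    rw [Finset.mem_coe, Finset.mem_union, Finset.mem_union, Finset.mem_union]
    constructor
    · rintro ⟨hx, hn⟩
      rcases classify48 hx hn with h | h | h | h
      · exact Or.inl (Or.inl (Or.inl h))
      · exact Or.inl (Or.inl (Or.inr h))
      · exact Or.inl (Or.inr h)
      · exact Or.inr h
    · rintro (((h | h) | h) | h)
      · exact mem48_F1 h
      · exact mem48_F2 h
      · exact mem48_F3 h
      · exact mem48_F4 h
  rw [h, Set.ncard_coe_finset, Finset.card_union_of_disjoint
    (Finset.disjoint_union_left.2 ⟨Finset.disjoint_union_left.2 ⟨disj14, disj24⟩, disj34⟩),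
    Finset.card_union_of_disjoint (Finset.disjoint_union_left.2 ⟨disj13, disj23⟩),
    Finset.card_union_of_disjoint disj12, card_F1, card_F2, card_F3, card_F4]
end Cfsg.Agent.S0395
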