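import Cfsg.Statements.S0396
import Mathlib
import Cfsg.Agent.Lib.Helper1.Leech64c

set_option autoImplicit false
open Cfsg

namespace Cfsg.Agent.S0396

open Cfsg.Agent.Lib.Helper1.Leech64 in


/-- Exactly 398034000 lattice vectors have sum of squares 64. -/
theorem result : {x : Cfsg.GolayPt → ℤ | x ∈ Cfsg.leechLattice ∧ Cfsg.sqNorm x = 64}.ncard = 398034000 := by
  have h : {x : Cfsg.GolayPt → ℤ | x ∈ Cfsg.leechLattice ∧ Cfsg.sqNorm x = 64} =
      ((E1 ∪ E2 ∪ E3 ∪ E4 ∪ E5 ∪ E6 ∪ O1 ∪ O2 : Finset (GolayPt → ℤ)) : Set (GolayPt → ℤ)) := by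
    ext x
    rw [Finset.mem_coe, Finset.mem_union, Finset.mem_union, Finset.mem_union, Finset.mem_union,
      Finset.mem_union, Finset.mem_union, Finset.mem_union]
    constructor
    · rintro ⟨hx, hn⟩
      rcases classify64 hx hn with h | h | h | h | h | h | h | h
      · exact Or.inl (Or.inl (Or.inl (Or.inl (Or.inl (Or.inl (Or.inl h))))))
      · exact Or.inl (Or.inl (Or.inl (Or.inl (Or.inl (Or.inl (Or.inr h))))))
      · exact Or.inl (Or.inl (Or.inl (Or.inl (Or.inl (Or.inr h)))))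
      · exact Or.inl (Or.inl (Or.inl (Or.inl (Or.inr h))))
      · exact Or.inl (Or.inl (Or.inl (Or.inr h)))
      · exact Or.inl (Or.inl (Or.inr h))
      · exact Or.inl (Or.inr h)
      · exact Or.inr h
    · rintro (((((((h | h) | h) | h) | h) | h) | h) | h)
      · exact (in_E1 h).1
      · exact (in_E2 h).1
      · exact (in_E3 h).1
      · exact (in_E4 h).1
      · exact (in_E5 h).1
      · exact (in_E6 h).1
      · exact (in_O1 h).1
      · exact (in_O2 h).1
  rw [h,
    Set.ncard_coe_finset,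
    Finset.card_union_of_disjoint (Finset.disjoint_union_left.2 ⟨(Finset.disjoint_union_left.2 ⟨(Finset.disjoint_union_left.2 ⟨(Finset.disjoint_union_left.2 ⟨(Finset.disjoint_union_left.2 ⟨(Finset.disjoint_union_left.2 ⟨(dj (fun x h => (in_E1 h).2) (fun x h => (in_O2 h).2) (by norm_num)), (dj (fun x h => (in_E2 h).2) (fun x h => (in_O2 h).2) (by norm_num))⟩), (dj (fun x h => (in_E3 h).2) (fun x h => (in_O2 h).2) (by norm_num))⟩), (dj (fun x h => (in_E4 h).2) (fun x h => (in_O2 h).2) (by norm_num))⟩), (dj (fun x h => (in_E5 h).2) (fun x h => (in_O2 h).2) (by norm_num))⟩), (dj (fun x h => (in_E6 h).2) (fun x h => (in_O2 h).2) (by norm_num))⟩), dj_O⟩),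
    Finset.card_union_of_disjoint (Finset.disjoint_union_left.2 ⟨(Finset.disjoint_union_left.2 ⟨(Finset.disjoint_union_left.2 ⟨(Finset.disjoint_union_left.2 ⟨(Finset.disjoint_union_left.2 ⟨(dj (fun x h => (in_E1 h).2) (fun x h => (in_O1 h).2) (by norm_num)), (dj (fun x h => (in_E2 h).2) (fun x h => (in_O1 h).2) (by norm_num))⟩), (dj (fun x h => (in_E3 h).2) (fun x h => (in_O1 h).2) (by norm_num))⟩), (dj (fun x h => (in_E4 h).2) (fun x h => (in_O1 h).2) (by norm_num))⟩), (dj (fun x h => (in_E5 h).2) (fun x h => (in_O1 h).2) (by norm_num))⟩), (dj (fun x h => (in_E6 h).2) (fun x h => (in_O1 h).2) (by norm_num))⟩),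
    Finset.card_union_of_disjoint (Finset.disjoint_union_left.2 ⟨(Finset.disjoint_union_left.2 ⟨(Finset.disjoint_union_left.2 ⟨(Finset.disjoint_union_left.2 ⟨(dj (fun x h => (in_E1 h).2) (fun x h => (in_E6 h).2) (by norm_num)), (dj (fun x h => (in_E2 h).2) (fun x h => (in_E6 h).2) (by norm_num))⟩), (dj (fun x h => (in_E3 h).2) (fun x h => (in_E6 h).2) (by norm_num))⟩), (dj (fun x h => (in_E4 h).2) (fun x h => (in_E6 h).2) (by norm_num))⟩), (dj (fun x h => (in_E5 h).2) (fun x h => (in_E6 h).2) (by norm_num))⟩),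
    Finset.card_union_of_disjoint (Finset.disjoint_union_left.2 ⟨(Finset.disjoint_union_left.2 ⟨(Finset.disjoint_union_left.2 ⟨(dj (fun x h => (in_E1 h).2) (fun x h => (in_E5 h).2) (by norm_num)), (dj (fun x h => (in_E2 h).2) (fun x h => (in_E5 h).2) (by norm_num))⟩), (dj (fun x h => (in_E3 h).2) (fun x h => (in_E5 h).2) (by norm_num))⟩), (dj (fun x h => (in_E4 h).2) (fun x h => (in_E5 h).2) (by norm_num))⟩),
    Finset.card_union_of_disjoint (Finset.disjoint_union_left.2 ⟨(Finset.disjoint_union_left.2 ⟨(dj (fun x h => (in_E1 h).2) (fun x h => (in_E4 h).2) (by norm_num)), (dj (fun x h => (in_E2 h).2) (fun x h => (in_E4 h).2) (by norm_num))⟩), (dj (fun x h => (in_E3 h).2) (fun x h => (in_E4 h).2) (by norm_num))⟩),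
    Finset.card_union_of_disjoint (Finset.disjoint_union_left.2 ⟨(dj (fun x h => (in_E1 h).2) (fun x h => (in_E3 h).2) (by norm_num)), (dj (fun x h => (in_E2 h).2) (fun x h => (in_E3 h).2) (by norm_num))⟩),
    Finset.card_union_of_disjoint (dj (fun x h => (in_E1 h).2) (fun x h => (in_E2 h).2) (by norm_num)),
    card_E1,
    card_E2,
    card_E3,
    card_E4,
    card_E5,
    card_E6,
    card_O1,
    card_O2]
end Cfsg.Agent.S0396
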