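import Cfsg.Statements.S0353
import Cfsg.Agent.Lib.Lead.Steiner

set_option autoImplicit false
open Cfsg

namespace Cfsg.Agent.S0353

open Finset in
/-- parity bookkeeping for a symmetric difference cut by a third set -/
theorem card_symmDiff_inter_aux {α : Type*} [DecidableEq α] (X Y e : Finset α) :
    ((symmDiff X Y) ∩ e).card + 2 * (X ∩ Y ∩ e).card = (X ∩ e).card + (Y ∩ e).card := by
  have h1 := Finset.card_sdiff_add_card_inter (X ∩ e) Y
  have h2 := Finset.card_sdiff_add_card_inter (Y ∩ e) X
  have e1 : (X ∩ e) ∩ Y = X ∩ Y ∩ e := by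
    ext a; simp only [mem_inter]; tauto
  have e2 : (Y ∩ e) ∩ X = X ∩ Y ∩ e := by
    ext a; simp only [mem_inter]; tauto
  have e3 : (symmDiff X Y) ∩ e = ((X ∩ e) \ Y) ∪ ((Y ∩ e) \ X) := by
    ext a; simp only [mem_inter, mem_symmDiff, mem_union, mem_sdiff]; tauto
  have hd : Disjoint ((X ∩ e) \ Y) ((Y ∩ e) \ X) := by
    rw [Finset.disjoint_left]
    intro a ha hb
    simp only [mem_sdiff, mem_inter] at ha hb
    exact hb.2 ha.1.1
  rw [e3, Finset.card_union_of_disjoint hd]
  rw [e1] at h1
  rw [e2] at h2
  omega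

/-- In an S(5, 8, 24), the symmetric difference of two blocks meeting in four points is a block. -/
theorem result {α : Type*} [Fintype α] [DecidableEq α] (hα : Fintype.card α = 24) {B : Set (Finset α)} (hB : Cfsg.IsSteinerSystem 5 8 B) {b c : Finset α} (hb : b ∈ B) (hc : c ∈ B) (h4 : (b ∩ c).card = 4) : symmDiff b c ∈ B := by
  classical
  have hbk : b.card = 8 := hB.1 b hb
  have hck : c.card = 8 := hB.1 c hc
  have hbc : b ≠ c := by
    rintro rfl
    rw [Finset.inter_self, hbk] at h4
    omega
  -- every two blocks meet evenly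
  have heven : ∀ x ∈ B, ∀ y ∈ B, Even (x ∩ y).card := by
    intro x hx y hy
    by_cases hxy : x = y
    · subst hxy
      rw [Finset.inter_self, hB.1 x hx]; decide
    · have e0 := Cfsg.Agent.Lib.Lead.Steiner.inter_equations hB hx 0 (by norm_num)
      have e1 := Cfsg.Agent.Lib.Lead.Steiner.inter_equations hB hx 1 (by norm_num)
      have e2 := Cfsg.Agent.Lib.Lead.Steiner.inter_equations hB hx 2 (by norm_num)
      have e3 := Cfsg.Agent.Lib.Lead.Steiner.inter_equations hB hx 3 (by norm_num)
      have e4 := Cfsg.Agent.Lib.Lead.Steiner.inter_equations hB hx 4 (by norm_num)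
      rw [hα] at e0 e1 e2 e3 e4
      simp only [Finset.sum_range_succ, Finset.sum_range_zero] at e0 e1 e2 e3 e4
      norm_num [Nat.choose] at e0 e1 e2 e3 e4
      have hlt := Cfsg.Agent.Lib.Lead.Steiner.card_inter_lt hB hx hy hxy
      have h1 : Cfsg.Agent.Lib.Lead.Steiner.interCount B x 1 = 0 := by omega
      have h3 : Cfsg.Agent.Lib.Lead.Steiner.interCount B x 3 = 0 := by omega
      have n1 := Cfsg.Agent.Lib.Lead.Steiner.card_inter_ne_of_interCount_eq_zero h1 hy hxy
      have n3 := Cfsg.Agent.Lib.Lead.Steiner.card_inter_ne_of_interCount_eq_zero h3 hy hxy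
      have : (x ∩ y).card = 0 ∨ (x ∩ y).card = 2 ∨ (x ∩ y).card = 4 := by omega
      rcases this with h | h | h <;> rw [h] <;> decide
  -- w = b ∆ c has 8 points and meets every block evenly
  obtain ⟨w, hw⟩ : ∃ w, w = symmDiff b c := ⟨_, rfl⟩
  rw [← hw]
  have hwcard : w.card = 8 := by
    have h := card_symmDiff_inter_aux b c Finset.univ
    simp only [Finset.inter_univ] at h
    rw [hw]; omega
  have hweven : ∀ e ∈ B, Even (w ∩ e).card := by
    intro e he
    have h := card_symmDiff_inter_aux b c e
    have h1 := heven b hb e he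
    have h2 := heven c hc e he
    rw [hw]
    obtain ⟨k1, hk1⟩ := h1
    obtain ⟨k2, hk2⟩ := h2
    exact ⟨k1 + k2 - (b ∩ c ∩ e).card, by omega⟩
  -- the block through five points of w
  obtain ⟨s, hsw, hs5⟩ := Finset.exists_subset_card_eq (show 5 ≤ w.card by omega)
  obtain ⟨d, ⟨hdB, hsd⟩, _⟩ := hB.2 s hs5
  have hdk : d.card = 8 := hB.1 d hdB
  have h5 : 5 ≤ (w ∩ d).card := by
    rw [← hs5]
    exact Finset.card_le_card (Finset.subset_inter hsw hsd)
  have h8 : (w ∩ d).card ≤ 8 := by
    rw [← hwcard]; exact Finset.card_le_card Finset.inter_subset_left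
  have hev := hweven d hdB
  have hcases : (w ∩ d).card = 6 ∨ (w ∩ d).card = 8 := by
    obtain ⟨m, hm⟩ := hev
    omega
  rcases hcases with h6 | h8'
  swap
  · -- w = d
    have : w ∩ d = w := Finset.eq_of_subset_of_card_le Finset.inter_subset_left (by rw [h8', hwcard])
    have hwd : w ⊆ d := by rw [← this]; exact Finset.inter_subset_right
    have : w = d := Finset.eq_of_subset_of_card_le hwd (by rw [hdk, hwcard])
    rw [this]; exact hdB
  · exfalso
    -- W = w ∆ d has 4 points and meets every block evenly
    obtain ⟨W, hW⟩ : ∃ W, W = symmDiff w d := ⟨_, rfl⟩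
    have hWcard : W.card = 4 := by
      have h := card_symmDiff_inter_aux w d Finset.univ
      simp only [Finset.inter_univ] at h
      rw [hW]; omega
    have hWeven : ∀ e ∈ B, Even (W ∩ e).card := by
      intro e he
      have h := card_symmDiff_inter_aux w d e
      have h1 := hweven e he
      have h2 := heven d hdB e he
      rw [hW]
      obtain ⟨k1, hk1⟩ := h1
      obtain ⟨k2, hk2⟩ := h2
      exact ⟨k1 + k2 - (w ∩ d ∩ e).card, by omega⟩
    -- a point x of W and a block through x missing the rest of W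
    obtain ⟨x, hx⟩ : W.Nonempty := Finset.card_pos.mp (by omega)
    have hNx := Cfsg.Agent.Lib.Lead.Steiner.card_blocks_superset hB {x} (by simp)
    rw [Finset.card_singleton, hα] at hNx
    norm_num [Nat.choose] at hNx
    have hNxy : ∀ y ∈ W.erase x,
        ((Cfsg.Agent.Lib.Lead.Steiner.blocks B).filter (fun e => {x, y} ⊆ e)).card = 77 := by
      intro y hy
      rw [Finset.mem_erase] at hy
      have hc2 : ({x, y} : Finset α).card = 2 := Finset.card_pair (Ne.symm hy.1)
      have := Cfsg.Agent.Lib.Lead.Steiner.card_blocks_superset hB {x, y} (by rw [hc2]; norm_num)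
      rw [hc2, hα] at this
      norm_num [Nat.choose] at this
      omega
    have hexists : ∃ e ∈ B, x ∈ e ∧ ∀ y ∈ W.erase x, y ∉ e := by
      by_contra hno
      push Not at hno
      have hsub : (Cfsg.Agent.Lib.Lead.Steiner.blocks B).filter (fun e => x ∈ e) ⊆
          (W.erase x).biUnion (fun y => (Cfsg.Agent.Lib.Lead.Steiner.blocks B).filter (fun e => {x, y} ⊆ e)) := by
        intro e he
        rw [Finset.mem_filter, Cfsg.Agent.Lib.Lead.Steiner.mem_blocks] at he
        obtain ⟨y, hy, hye⟩ := hno e he.1 he.2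
        rw [Finset.mem_biUnion]
        refine ⟨y, hy, ?_⟩
        rw [Finset.mem_filter, Cfsg.Agent.Lib.Lead.Steiner.mem_blocks]
        refine ⟨he.1, ?_⟩
        intro z hz
        rw [Finset.mem_insert, Finset.mem_singleton] at hz
        rcases hz with rfl | rfl
        · exact he.2
        · exact hye
      have h1 := Finset.card_le_card hsub
      have h2 := Finset.card_biUnion_le (s := W.erase x)
        (t := fun y => (Cfsg.Agent.Lib.Lead.Steiner.blocks B).filter (fun e => {x, y} ⊆ e))
      rw [Finset.sum_congr rfl hNxy, Finset.sum_const, Finset.card_erase_of_mem hx, hWcard,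
        smul_eq_mul] at h2
      omega
    obtain ⟨e, heB, hxe, hye⟩ := hexists
    have hone : W ∩ e = {x} := by
      ext z
      rw [Finset.mem_inter, Finset.mem_singleton]
      constructor
      · rintro ⟨hzW, hze⟩
        by_contra hzx
        exact hye z (Finset.mem_erase.mpr ⟨hzx, hzW⟩) hze
      · rintro rfl
        exact ⟨hx, hxe⟩
    have := hWeven e heB
    rw [hone, Finset.card_singleton] at this
    exact absurd this (by decide)

end Cfsg.Agent.S0353
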