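import Cfsg.Statements.S0354
import Cfsg.Agent.Lib.Lead.Steiner

set_option autoImplicit false
open Cfsg

namespace Cfsg.Agent.S0354

/-- In an S(5, 8, 24), each block is disjoint from exactly 30 blocks. -/
theorem result {α : Type*} [Fintype α] [DecidableEq α] (hα : Fintype.card α = 24) {B : Set (Finset α)} (hB : Cfsg.IsSteinerSystem 5 8 B) {b : Finset α} (hb : b ∈ B) : {c : Finset α | c ∈ B ∧ Disjoint b c}.ncard = 30 := by
  classical
  have e0 := Cfsg.Agent.Lib.Lead.Steiner.inter_equations hB hb 0 (by norm_num)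
  have e1 := Cfsg.Agent.Lib.Lead.Steiner.inter_equations hB hb 1 (by norm_num)
  have e2 := Cfsg.Agent.Lib.Lead.Steiner.inter_equations hB hb 2 (by norm_num)
  have e3 := Cfsg.Agent.Lib.Lead.Steiner.inter_equations hB hb 3 (by norm_num)
  have e4 := Cfsg.Agent.Lib.Lead.Steiner.inter_equations hB hb 4 (by norm_num)
  rw [hα] at e0 e1 e2 e3 e4
  simp only [Finset.sum_range_succ, Finset.sum_range_zero] at e0 e1 e2 e3 e4
  norm_num [Nat.choose] at e0 e1 e2 e3 e4
  have h0 : Cfsg.Agent.Lib.Lead.Steiner.interCount B b 0 = 30 := by omega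
  have hbk : b.card = 8 := hB.1 b hb
  have hset : {c : Finset α | c ∈ B ∧ Disjoint b c} =
      ↑(((Cfsg.Agent.Lib.Lead.Steiner.blocks B).erase b).filter (fun c => (b ∩ c).card = 0)) := by
    ext c
    simp only [Set.mem_ofPred_eq, Finset.coe_filter, Finset.mem_erase,
      Cfsg.Agent.Lib.Lead.Steiner.mem_blocks, Finset.card_eq_zero]
    constructor
    · rintro ⟨hcB, hd⟩
      refine ⟨⟨?_, hcB⟩, Finset.disjoint_iff_inter_eq_empty.mp hd⟩
      rintro rfl
      rw [disjoint_self, Finset.bot_eq_empty] at hd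
      rw [hd] at hbk
      simp at hbk
    · rintro ⟨⟨_, hcB⟩, hd⟩
      exact ⟨hcB, Finset.disjoint_iff_inter_eq_empty.mpr hd⟩
  rw [hset, Set.ncard_coe_finset]
  exact h0

end Cfsg.Agent.S0354
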