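import Cfsg.Statements.S1557
import Mathlib
import Cfsg.Agent.Lib.Helper1.M24Tetrads
import Cfsg.Agent.S0354
import Cfsg.Agent.S0360
import Cfsg.Agent.Lib.Helper1.Leech

set_option autoImplicit false
open scoped Pointwise
open Cfsg

namespace Cfsg.Agent.S1557


open Cfsg.Agent.Lib.Helper1

theorem one_mem_golayCode : (1 : GolayPt → ZMod 2) ∈ golayCode :=
  Submodule.subset_span (Set.mem_union_right _ rfl)

theorem support₂_add_add_one (u v : GolayPt → ZMod 2) (hd : Disjoint (support₂ u) (support₂ v)) :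
    support₂ (u + v + 1) = (support₂ u ∪ support₂ v)ᶜ := by
  ext i
  have hdi : ¬ (u i ≠ 0 ∧ v i ≠ 0) := by
    rintro ⟨h1, h2⟩
    exact Finset.disjoint_left.1 hd ((mem_support₂_iff u i).2 h1) ((mem_support₂_iff v i).2 h2)
  rw [mem_support₂_iff, Finset.mem_compl, Finset.mem_union, mem_support₂_iff, mem_support₂_iff,
    Pi.add_apply, Pi.add_apply, Pi.one_apply]
  revert hdi
  generalize u i = a
  generalize v i = b
  revert a b
  decide

theorem compl_union_mem (o o' : Finset GolayPt) (ho : o ∈ octads) (ho' : o' ∈ octads)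
    (hd : Disjoint o o') : (o ∪ o')ᶜ ∈ octads := by
  have h8 : o.card = 8 := ho.2
  have h8' : o'.card = 8 := ho'.2
  obtain ⟨⟨u, hu, rfl⟩, _⟩ := ho
  obtain ⟨⟨v, hv, rfl⟩, _⟩ := ho'
  refine ⟨⟨u + v + 1, Submodule.add_mem _ (Submodule.add_mem _ hu hv) one_mem_golayCode,
    support₂_add_add_one u v hd⟩, ?_⟩
  rw [Finset.card_compl, Finset.card_union_of_disjoint hd, h8, h8', fintype_card_golayPt]

theorem octad_nonempty {o : Finset GolayPt} (ho : o ∈ octads) : o.Nonempty := by
  rw [← Finset.card_pos, octad_card8 ho]; norm_num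

theorem ne_of_disjoint_octads {o o' : Finset GolayPt} (ho : o ∈ octads) (hd : Disjoint o o') :
    o ≠ o' := by
  rintro rfl
  obtain ⟨x, hx⟩ := octad_nonempty ho
  exact Finset.disjoint_left.1 hd hx hx

theorem disjoint_compl_union_left (o o' : Finset GolayPt) : Disjoint o (o ∪ o')ᶜ := by
  rw [Finset.disjoint_left]
  intro x hx hx'
  exact (Finset.mem_compl.1 hx') (Finset.mem_union_left _ hx)

theorem disjoint_compl_union_right (o o' : Finset GolayPt) : Disjoint o' (o ∪ o')ᶜ := by
  rw [Finset.disjoint_left]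
  intro x hx hx'
  exact (Finset.mem_compl.1 hx') (Finset.mem_union_right _ hx)

/-- the trio determined by two disjoint octads -/
def trioOf (x : (_ : Finset GolayPt) × Finset GolayPt) : Finset (Finset GolayPt) :=
  {x.1, x.2, (x.1 ∪ x.2)ᶜ}

theorem trioOf_mem (o o' : Finset GolayPt) (ho : o ∈ octads) (ho' : o' ∈ octads)
    (hd : Disjoint o o') : trioOf ⟨o, o'⟩ ∈ trios := by
  have hc := compl_union_mem o o' ho ho' hd
  have n1 : o ≠ o' := ne_of_disjoint_octads ho hd
  have n2 : o ≠ (o ∪ o')ᶜ := ne_of_disjoint_octads ho (disjoint_compl_union_left o o')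
  have n3 : o' ≠ (o ∪ o')ᶜ := ne_of_disjoint_octads ho' (disjoint_compl_union_right o o')
  refine ⟨?_, ?_, ?_⟩
  · show ({o, o', (o ∪ o')ᶜ} : Finset (Finset GolayPt)).card = 3
    rw [Finset.card_eq_three]
    exact ⟨o, o', _, n1, n2, n3, rfl⟩
  · intro a ha
    have ha' : a ∈ ({o, o', (o ∪ o')ᶜ} : Finset (Finset GolayPt)) := ha
    simp only [Finset.mem_insert, Finset.mem_singleton] at ha'
    rcases ha' with rfl | rfl | rfl
    · exact ho
    · exact ho'
    · exact hc
  · intro a ha b hb hab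
    have ha' : a ∈ ({o, o', (o ∪ o')ᶜ} : Finset (Finset GolayPt)) := ha
    have hb' : b ∈ ({o, o', (o ∪ o')ᶜ} : Finset (Finset GolayPt)) := hb
    simp only [Finset.mem_insert, Finset.mem_singleton] at ha' hb'
    rcases ha' with rfl | rfl | rfl <;> rcases hb' with rfl | rfl | rfl
    · exact absurd rfl hab
    · exact hd
    · exact disjoint_compl_union_left _ _
    · exact hd.symm
    · exact absurd rfl hab
    · exact disjoint_compl_union_right _ _
    · exact (disjoint_compl_union_left _ _).symm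
    · exact (disjoint_compl_union_right _ _).symm
    · exact absurd rfl hab

theorem trio_eq (T : Finset (Finset GolayPt)) (hT : T ∈ trios) (o o' : Finset GolayPt)
    (ho : o ∈ T) (ho' : o' ∈ T) (hne : o ≠ o') : trioOf ⟨o, o'⟩ = T := by
  obtain ⟨h3, hoct, hdis⟩ := hT
  -- the third member
  have hex : ∃ c ∈ T, c ≠ o ∧ c ≠ o' := by
    by_contra hcon
    push Not at hcon
    have hsub : T ⊆ {o, o'} := by
      intro c hc
      rw [Finset.mem_insert, Finset.mem_singleton]
      by_cases h : c = o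
      · exact Or.inl h
      · exact Or.inr (hcon c hc h)
    have := Finset.card_le_card hsub
    rw [h3, Finset.card_pair hne] at this
    omega
  obtain ⟨c, hc, hco, hco'⟩ := hex
  have hd1 : Disjoint o c := hdis o ho c hc (Ne.symm hco)
  have hd2 : Disjoint o' c := hdis o' ho' c hc (Ne.symm hco')
  have hd : Disjoint o o' := hdis o ho o' ho' hne
  have hcsub : c ⊆ (o ∪ o')ᶜ := by
    intro x hx
    rw [Finset.mem_compl, Finset.mem_union]
    rintro (h | h)
    · exact Finset.disjoint_left.1 hd1 h hx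
    · exact Finset.disjoint_left.1 hd2 h hx
  have hceq : c = (o ∪ o')ᶜ := by
    apply Finset.eq_of_subset_of_card_le hcsub
    rw [Finset.card_compl, Finset.card_union_of_disjoint hd, octad_card8 (hoct o ho),
      octad_card8 (hoct o' ho'), octad_card8 (hoct c hc), fintype_card_golayPt]
  have hsub : trioOf ⟨o, o'⟩ ⊆ T := by
    intro a ha
    have ha' : a ∈ ({o, o', (o ∪ o')ᶜ} : Finset (Finset GolayPt)) := ha
    simp only [Finset.mem_insert, Finset.mem_singleton] at ha'
    rcases ha' with rfl | rfl | rfl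
    · exact ho
    · exact ho'
    · rw [← hceq]; exact hc
  apply Finset.eq_of_subset_of_card_le hsub
  rw [h3, (trioOf_mem o o' (hoct o ho) (hoct o' ho') hd).1]

theorem count_trios : trios.ncard = 3795 := by
  classical
  have hfin : trios.Finite := Set.toFinite _
  have hofin : octads.Finite := Set.toFinite _
  rw [Set.ncard_eq_toFinset_card _ hfin]
  set O : Finset (Finset GolayPt) := hofin.toFinset with hO
  have hOcard : O.card = 759 := by
    rw [hO, ← Set.ncard_eq_toFinset_card _ hofin]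
    exact Cfsg.Agent.S0360.result
  have hOmem : ∀ o, o ∈ O ↔ o ∈ octads := fun o => Set.Finite.mem_toFinset hofin
  set D : Finset ((_ : Finset GolayPt) × Finset GolayPt) :=
    O.sigma (fun o => O.filter (fun o' => Disjoint o o')) with hD
  have h30 : ∀ o ∈ O, (O.filter (fun o' => Disjoint o o')).card = 30 := by
    intro o ho
    have h := Cfsg.Agent.S0354.result fintype_card_golayPt Cfsg.Agent.S0363.result
      ((hOmem o).1 ho)
    have hf : {c : Finset GolayPt | c ∈ octads ∧ Disjoint o c}.Finite := Set.toFinite _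
    rw [Set.ncard_eq_toFinset_card _ hf] at h
    rw [← h]
    congr 1
    ext c
    rw [Finset.mem_filter, hOmem, Set.Finite.mem_toFinset]
    rfl
  have hDcard : D.card = 22770 := by
    rw [hD, Finset.card_sigma, Finset.sum_congr rfl h30, Finset.sum_const, hOcard]
    rfl
  have hDmem : ∀ x, x ∈ D ↔ x.1 ∈ octads ∧ x.2 ∈ octads ∧ Disjoint x.1 x.2 := by
    intro x
    rw [hD, Finset.mem_sigma, Finset.mem_filter, hOmem, hOmem]
  have hsum := Finset.card_eq_sum_card_fiberwise (s := D) (t := hfin.toFinset)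
    (f := trioOf) (by
      rintro ⟨o, o'⟩ hx
      rw [Finset.mem_coe, Set.Finite.mem_toFinset]
      obtain ⟨h1, h2, h3⟩ := (hDmem _).1 hx
      exact trioOf_mem o o' h1 h2 h3)
  have hfib : ∀ T ∈ hfin.toFinset, (D.filter (fun x => trioOf x = T)).card = 6 := by
    intro T hT
    rw [Set.Finite.mem_toFinset] at hT
    have hcard : (T.offDiag).card = 6 := by
      rw [Finset.offDiag_card, hT.1]
    rw [← hcard]
    apply Finset.card_bij (fun x _ => (x.1, x.2))
    · rintro ⟨o, o'⟩ hx
      rw [Finset.mem_filter] at hx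
      obtain ⟨h1, h2, h3⟩ := (hDmem _).1 hx.1
      rw [Finset.mem_offDiag]
      have e : trioOf ⟨o, o'⟩ = T := hx.2
      refine ⟨?_, ?_, ne_of_disjoint_octads h1 h3⟩
      · rw [← e]; show o ∈ ({o, o', (o ∪ o')ᶜ} : Finset (Finset GolayPt)); simp
      · rw [← e]; show o' ∈ ({o, o', (o ∪ o')ᶜ} : Finset (Finset GolayPt)); simp
    · rintro ⟨o, o'⟩ _ ⟨p, p'⟩ _ h
      rw [Prod.mk.injEq] at h
      obtain ⟨rfl, rfl⟩ := h
      rfl
    · rintro ⟨o, o'⟩ hx
      rw [Finset.mem_offDiag] at hx
      obtain ⟨h1, h2, h3⟩ := hx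
      refine ⟨⟨o, o'⟩, ?_, rfl⟩
      rw [Finset.mem_filter, hDmem]
      exact ⟨⟨hT.2.1 o h1, hT.2.1 o' h2, hT.2.2 o h1 o' h2 h3⟩, trio_eq T hT o o' h1 h2 h3⟩
  rw [Finset.sum_congr rfl hfib, Finset.sum_const, hDcard, smul_eq_mul] at hsum
  omega


/-- The complement of the union of two disjoint octads is an octad, and the code has exactly 3795 trios of pairwise disjoint octads. -/
theorem result : (∀ o o' : Finset Cfsg.GolayPt, o ∈ Cfsg.octads → o' ∈ Cfsg.octads → Disjoint o o' → (o ∪ o')ᶜ ∈ Cfsg.octads) ∧ Cfsg.trios.ncard = 3795 := by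
  exact ⟨compl_union_mem, count_trios⟩

end Cfsg.Agent.S1557
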