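import Cfsg.Statements.S1560
import Mathlib
import Cfsg.Agent.Lib.Helper1.M24Pairs

set_option autoImplicit false
open scoped Pointwise
open Cfsg

namespace Cfsg.Agent.S1560


open Cfsg.Agent.Lib.Helper1

def ivOK (v : ℕ) : Prop := popc v = 12 → v ≠ 340831 →
    popc (340831 &&& v) = 0 ∨ popc (340831 &&& v) = 4 ∨
    popc (340831 &&& v) = 6 ∨ popc (340831 &&& v) = 8

instance : DecidablePred ivOK := fun v => by unfold ivOK; infer_instance

theorem inter_vals : ∀ a < 64, ∀ b < 64, ivOK (combo (64 * a + b)) := by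
  decide +kernel

theorem combo_one : combo 1 = 340831 := by decide +kernel

theorem cnt4 : (Finset.univ.filter (fun m : Fin 4096 =>
    popc (combo m.val) = 12 ∧ popc (340831 &&& combo m.val) = 4)).card = 495 := by
  decide +kernel

theorem cnt6 : (Finset.univ.filter (fun m : Fin 4096 =>
    popc (combo m.val) = 12 ∧ popc (340831 &&& combo m.val) = 6)).card = 1584 := by
  decide +kernel

theorem cnt8 : (Finset.univ.filter (fun m : Fin 4096 =>
    popc (combo m.val) = 12 ∧ popc (340831 &&& combo m.val) = 8)).card = 495 := by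
  decide +kernel

theorem count_dod0 (k : ℕ) :
    {d' : Finset GolayPt | d' ∈ dodecads ∧ (dod0 ∩ d').card = k}.ncard =
      (Finset.univ.filter (fun m : Fin 4096 =>
        popc (combo m.val) = 12 ∧ popc (340831 &&& combo m.val) = k)).card := by
  apply ncard_wow_pred 12 (fun b => (dod0 ∩ b).card = k) (fun v => popc (340831 &&& v) = k)
  intro w
  unfold dod0
  rw [card_inter_support₂, mask_wordOf, combo_one]

theorem count_transfer {g : Equiv.Perm GolayPt} (hg : g ∈ M24) (k : ℕ) :
    {d' : Finset GolayPt | d' ∈ dodecads ∧ (g • dod0 ∩ d').card = k}.ncard =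
    {d' : Finset GolayPt | d' ∈ dodecads ∧ (dod0 ∩ d').card = k}.ncard :=
  ncard_family_smul dodecads (fun b hb => smul_mem_dodecads hg hb)
    (fun b hb => smul_mem_dodecads (inv_mem hg) hb) (fun a b => (a ∩ b).card = k)
    (fun a b => by rw [card_inter_smul]) dod0


/-- Intersection numbers of dodecads: a dodecad meets every other dodecad in 0, 4, 6 or 8 points, meeting 495 of them in 4 points, 1584 in 6 points and 495 in 8 points. -/
theorem result (d : Finset Cfsg.GolayPt) (hd : d ∈ Cfsg.dodecads) : (∀ d' ∈ Cfsg.dodecads, d' ≠ d → (d ∩ d').card = 0 ∨ (d ∩ d').card = 4 ∨ (d ∩ d').card = 6 ∨ (d ∩ d').card = 8) ∧ {d' : Finset Cfsg.GolayPt | d' ∈ Cfsg.dodecads ∧ (d ∩ d').card = 4}.ncard = 495 ∧ {d' : Finset Cfsg.GolayPt | d' ∈ Cfsg.dodecads ∧ (d ∩ d').card = 6}.ncard = 1584 ∧ {d' : Finset Cfsg.GolayPt | d' ∈ Cfsg.dodecads ∧ (d ∩ d').card = 8}.ncard = 495 := by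
  obtain ⟨g, hg, rfl⟩ := exists_smul_dod0 hd
  refine ⟨?_, ?_, ?_, ?_⟩
  · intro d' hd' hne
    have hd'' : g⁻¹ • d' ∈ dodecads := smul_mem_dodecads (inv_mem hg) hd'
    have hcard : (g • dod0 ∩ d').card = (dod0 ∩ g⁻¹ • d').card := by
      rw [← card_inter_smul g dod0 (g⁻¹ • d'), smul_inv_smul]
    obtain ⟨m, hm, hb, h12⟩ := exists_idx_of_mem_wow hd''
    have hne' : combo m ≠ combo 1 := by
      intro h
      apply hne
      have h1 : wordOf m = wordOf 1 := by
        apply mask_injective
        rw [mask_wordOf, mask_wordOf, h]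
      have h2 : d' = g • (g⁻¹ • d') := (smul_inv_smul g d').symm
      rw [h2, hb, h1]
      rfl
    rw [hcard, hb]
    unfold dod0
    rw [card_inter_wordOf]
    have := inter_vals (m / 64) (by omega) (m % 64) (Nat.mod_lt _ (by norm_num))
    rw [Nat.div_add_mod] at this
    rw [combo_one] at hne' ⊢
    exact this h12 hne'
  · rw [count_transfer hg, count_dod0]; exact cnt4
  · rw [count_transfer hg, count_dod0]; exact cnt6
  · rw [count_transfer hg, count_dod0]; exact cnt8

end Cfsg.Agent.S1560
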