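import Cfsg.Statements.S1566
import Mathlib
import Cfsg.Agent.Lib.Helper1.CoatomOrbits2
import Cfsg.Agent.S1560
import Cfsg.Agent.S1561
import Cfsg.Agent.S1639
import Cfsg.Agent.Lib.Helper1.LeechIndex
import Cfsg.Agent.Lib.Helper1.M24Cycle

set_option autoImplicit false
open scoped Pointwise
open Cfsg

namespace Cfsg.Agent.S1566


open Cfsg.Agent.Lib.Helper1

def Phi (e : Finset GolayPt) : Finset (Finset GolayPt) := {e, eᶜ}

theorem smul_compl (g : Equiv.Perm GolayPt) (s : Finset GolayPt) : g • sᶜ = (g • s)ᶜ := by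
  ext x
  rw [Finset.mem_compl, ← Finset.inv_smul_mem_iff, ← Finset.inv_smul_mem_iff, Finset.mem_compl]

theorem smul_Phi (g : Equiv.Perm GolayPt) (e : Finset GolayPt) : g • Phi e = Phi (g • e) := by
  unfold Phi
  rw [Finset.smul_finset_insert, Finset.smul_finset_singleton, smul_compl]

theorem Phi_compl (e : Finset GolayPt) : Phi eᶜ = Phi e := by
  unfold Phi
  rw [compl_compl, Finset.pair_comm]

theorem ne_compl (e : Finset GolayPt) : e ≠ eᶜ := by
  intro h
  have h1 : e ∩ eᶜ = e := by rw [← h, Finset.inter_self]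
  rw [Finset.inter_compl] at h1
  have h2 : eᶜ = Finset.univ := by rw [← h1, Finset.compl_empty]
  rw [← h, ← h1] at h2
  have : (Finset.univ : Finset GolayPt).card = 0 := by rw [← h2, Finset.card_empty]
  rw [Finset.card_univ, fintype_card_golayPt] at this
  omega

theorem compl_mem_dodecads {e : Finset GolayPt} (he : e ∈ dodecads) : eᶜ ∈ dodecads := by
  obtain ⟨⟨w, hw, rfl⟩, hc⟩ := he
  refine ⟨⟨w + 1, Submodule.add_mem _ hw one_mem_golayCode, ?_⟩, ?_⟩
  · ext x
    rw [Finset.mem_compl, mem_support₂_iff, mem_support₂_iff, Pi.add_apply, Pi.one_apply]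
    generalize w x = a
    revert a
    decide
  · rw [Finset.card_compl, hc, fintype_card_golayPt]

theorem card_inter_compl (d e : Finset GolayPt) (hd : d.card = 12) :
    (d ∩ eᶜ).card = 12 - (d ∩ e).card := by
  have h1 := Finset.card_inter_add_card_sdiff d e
  rw [Finset.sdiff_eq_inter_compl, hd] at h1
  omega

/-- the class function -/
def cF (d : Finset GolayPt) (P : Finset (Finset GolayPt)) : ℕ := ∑ b ∈ P, (d ∩ b).card ^ 2

theorem cF_Phi (d e : Finset GolayPt) (hd : d.card = 12) :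
    cF d (Phi e) = (d ∩ e).card ^ 2 + (12 - (d ∩ e).card) ^ 2 := by
  unfold cF Phi
  rw [Finset.sum_pair (ne_compl e), card_inter_compl d e hd]

theorem cF_smul (g : Equiv.Perm GolayPt) (d : Finset GolayPt) (P : Finset (Finset GolayPt)) :
    cF (g • d) (g • P) = cF d P := by
  unfold cF
  rw [Finset.smul_finset_def, Finset.sum_image]
  · apply Finset.sum_congr rfl
    intro b _
    rw [card_inter_smul]
  · intro a _ b _ h
    exact MulAction.injective g h

def nF (k : ℕ) : ℕ := if k = 144 then 1 else if k = 80 then 495 else if k = 72 then 792 else 0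

theorem arith : ∀ S ∈ ({144, 80, 72} : Finset ℕ).powerset, 144 ∈ S →
    (∑ k ∈ S, nF k) ∣ (∑ k ∈ ({144, 80, 72} : Finset ℕ), nF k) →
    S = {144} ∨ S = ({144, 80, 72} : Finset ℕ) := by
  decide

theorem inter_vals (d e : Finset GolayPt) (hd : d ∈ dodecads) (he : e ∈ dodecads) :
    (d ∩ e).card = 0 ∨ (d ∩ e).card = 4 ∨ (d ∩ e).card = 6 ∨ (d ∩ e).card = 8 ∨ e = d := by
  by_cases h : e = d
  · exact Or.inr (Or.inr (Or.inr (Or.inr h)))
  · rcases (Cfsg.Agent.S1560.result d hd).1 e he h with h1 | h1 | h1 | h1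
    · exact Or.inl h1
    · exact Or.inr (Or.inl h1)
    · exact Or.inr (Or.inr (Or.inl h1))
    · exact Or.inr (Or.inr (Or.inr (Or.inl h1)))

theorem orbit_eq (d : Finset GolayPt) (hd : d ∈ dodecads) :
    MulAction.orbit ↥M24 (Phi d) = Phi '' dodecads := by
  ext P
  constructor
  · rintro ⟨g, rfl⟩
    refine ⟨(g : Equiv.Perm GolayPt) • d, smul_mem_dodecads g.2 hd, ?_⟩
    exact (smul_Phi (g : Equiv.Perm GolayPt) d).symm
  · rintro ⟨e, he, rfl⟩
    obtain ⟨g, hgd⟩ := M24_dodecad_transitive hd he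
    refine ⟨g, ?_⟩
    show (g : Equiv.Perm GolayPt) • Phi d = Phi e
    have hgd' : (g : Equiv.Perm GolayPt) • d = e := hgd
    rw [smul_Phi, hgd']

theorem class_vals (d e : Finset GolayPt) (hd : d ∈ dodecads) (he : e ∈ dodecads) :
    (cF d (Phi e) = 144 ∧ (e = d ∨ e = dᶜ)) ∨
    (cF d (Phi e) = 80 ∧ ((d ∩ e).card = 4 ∨ (d ∩ e).card = 8)) ∨
    (cF d (Phi e) = 72 ∧ (d ∩ e).card = 6) := by
  rw [cF_Phi d e hd.2]
  rcases inter_vals d e hd he with h | h | h | h | h
  · left
    refine ⟨by rw [h]; rfl, Or.inr ?_⟩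
    -- disjoint dodecads are complementary
    rw [Finset.card_eq_zero] at h
    apply Finset.eq_of_subset_of_card_le
    · intro x hx
      rw [Finset.mem_compl]
      intro hxd
      have : x ∈ d ∩ e := Finset.mem_inter.2 ⟨hxd, hx⟩
      rw [h] at this
      exact absurd this (Finset.notMem_empty x)
    · rw [Finset.card_compl, hd.2, he.2, fintype_card_golayPt]
  · right; left; exact ⟨by rw [h]; rfl, Or.inl h⟩
  · right; right; exact ⟨by rw [h]; rfl, h⟩
  · right; left; exact ⟨by rw [h]; rfl, Or.inr h⟩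
  · left
    subst h
    refine ⟨by rw [Finset.inter_self, he.2]; rfl, Or.inl rfl⟩

theorem Phi_inj_of_mem {x : GolayPt} {e e' : Finset GolayPt} (hx : x ∈ e) (hx' : x ∈ e')
    (h : Phi e = Phi e') : e = e' := by
  have h1 : e ∈ Phi e' := by
    rw [← h]; unfold Phi; exact Finset.mem_insert_self _ _
  unfold Phi at h1
  rw [Finset.mem_insert, Finset.mem_singleton] at h1
  rcases h1 with h1 | h1
  · exact h1
  · exfalso
    rw [h1, Finset.mem_compl] at hx
    exact hx hx'

/-- every pair is `Phi e` with `x ∈ e` -/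
theorem exists_rep (x : GolayPt) {P : Finset (Finset GolayPt)} (hP : P ∈ Phi '' dodecads) :
    ∃ e ∈ dodecads, x ∈ e ∧ Phi e = P := by
  obtain ⟨e, he, rfl⟩ := hP
  by_cases hx : x ∈ e
  · exact ⟨e, he, hx, rfl⟩
  · exact ⟨eᶜ, compl_mem_dodecads he, Finset.mem_compl.2 hx, Phi_compl e⟩

theorem count_class (d : Finset GolayPt) (hd : d ∈ dodecads) (x : GolayPt) (hx : x ∈ d)
    (Q : ℕ → Prop) :
    {P : Finset (Finset GolayPt) | P ∈ Phi '' dodecads ∧ Q (cF d P)}.ncard =
      {e : Finset GolayPt | e ∈ dodecads ∧ x ∈ e ∧ Q (cF d (Phi e))}.ncard := by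
  have himg : {P : Finset (Finset GolayPt) | P ∈ Phi '' dodecads ∧ Q (cF d P)} =
      Phi '' {e : Finset GolayPt | e ∈ dodecads ∧ x ∈ e ∧ Q (cF d (Phi e))} := by
    ext P
    constructor
    · rintro ⟨hP, hQ⟩
      obtain ⟨e, he, hxe, rfl⟩ := exists_rep x hP
      exact ⟨e, ⟨he, hxe, hQ⟩, rfl⟩
    · rintro ⟨e, ⟨he, hxe, hQ⟩, rfl⟩
      exact ⟨⟨e, he, rfl⟩, hQ⟩
  rw [himg]
  apply Set.InjOn.ncard_image
  rintro e ⟨_, hxe, _⟩ e' ⟨_, hxe', _⟩ h
  exact Phi_inj_of_mem hxe hxe' h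

theorem sq_sum_eq : ∀ k ≤ 12, ∀ l ≤ 12, k ^ 2 + (12 - k) ^ 2 = l ^ 2 + (12 - l) ^ 2 →
    k = l ∨ k = 12 - l := by
  decide

theorem sum_nF : (∑ k ∈ ({144, 80, 72} : Finset ℕ), nF k) = 1288 := by decide


/-- The setwise stabiliser of a dodecad together with its complement is a maximal proper subgroup of the group of the length-24 code. -/
theorem result (d : Finset Cfsg.GolayPt) (hd : d ∈ Cfsg.dodecads) : IsCoatom (MulAction.stabilizer Cfsg.M24 ({d, dᶜ} : Finset (Finset Cfsg.GolayPt))) := by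
  obtain ⟨x, hx⟩ : ∃ x, x ∈ d := by
    apply Finset.card_pos.1; rw [hd.2]; norm_num
  have horb : MulAction.orbit ↥M24 (Phi d) = Phi '' dodecads := orbit_eq d hd
  have hcx : cF d (Phi d) = 144 := by rw [cF_Phi d d hd.2, Finset.inter_self, hd.2]; rfl
  have h39 := Cfsg.Agent.S1639.result x d hd hx
  show IsCoatom (MulAction.stabilizer ↥M24 (Phi d))
  apply isCoatom_stabilizer_of_classes' (G := ↥M24) (Phi d) (cF d) ({144, 80, 72} : Finset ℕ) nF
  · intro P hP
    rw [horb] at hP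
    obtain ⟨e, he, rfl⟩ := hP
    rcases class_vals d e hd he with ⟨h, _⟩ | ⟨h, _⟩ | ⟨h, _⟩ <;> rw [h] <;> decide
  · intro P hP h
    rw [horb] at hP
    obtain ⟨e, he, rfl⟩ := hP
    rw [hcx] at h
    rcases class_vals d e hd he with ⟨_, h1 | h1⟩ | ⟨h2, _⟩ | ⟨h2, _⟩
    · rw [h1]
    · rw [h1, Phi_compl]
    · omega
    · omega
  · intro P hP Q hQ h
    rw [horb] at hP hQ
    obtain ⟨e, he, rfl⟩ := hP
    obtain ⟨f, hf, rfl⟩ := hQ
    have key : ∃ f' ∈ dodecads, Phi f' = Phi f ∧ (d ∩ e).card = (d ∩ f').card := by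
      rw [cF_Phi d e hd.2, cF_Phi d f hd.2] at h
      have hle : (d ∩ e).card ≤ 12 := hd.2 ▸ Finset.card_le_card Finset.inter_subset_left
      have hlf : (d ∩ f).card ≤ 12 := hd.2 ▸ Finset.card_le_card Finset.inter_subset_left
      rcases sq_sum_eq _ hle _ hlf h with h1 | h1
      · exact ⟨f, hf, rfl, h1⟩
      · exact ⟨fᶜ, compl_mem_dodecads hf, Phi_compl f, by rw [card_inter_compl d f hd.2]; exact h1⟩
    obtain ⟨f', hf', hPhi, hk⟩ := key
    obtain ⟨g, hg, hgd, hge⟩ := Cfsg.Agent.S1561.dodecad_pair_conj d e f' hd he hf' hk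
    refine ⟨⟨g, hg⟩, ?_, ?_⟩
    · rw [MulAction.mem_stabilizer_iff]
      show g • Phi d = Phi d
      rw [smul_Phi, hgd]
    · show g • Phi e = Phi f
      rw [smul_Phi, hge, hPhi]
  · intro k hk
    rw [horb]
    simp only [Finset.mem_insert, Finset.mem_singleton] at hk
    rcases hk with rfl | rfl | rfl
    · rw [count_class d hd x hx (fun v => v = 144)]
      have : {e : Finset GolayPt | e ∈ dodecads ∧ x ∈ e ∧ cF d (Phi e) = 144} = {d} := by
        ext e
        rw [Set.mem_singleton_iff]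
        constructor
        · rintro ⟨he, hxe, h⟩
          rcases class_vals d e hd he with ⟨_, h1 | h1⟩ | ⟨h2, _⟩ | ⟨h2, _⟩
          · exact h1
          · exfalso
            rw [h1, Finset.mem_compl] at hxe
            exact hxe hx
          · omega
          · omega
        · rintro rfl
          exact ⟨hd, hx, hcx⟩
      rw [this, Set.ncard_singleton]
      rfl
    · rw [count_class d hd x hx (fun v => v = 80)]
      have : {e : Finset GolayPt | e ∈ dodecads ∧ x ∈ e ∧ cF d (Phi e) = 80} =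
          {e : Finset GolayPt | e ∈ dodecads ∧ x ∈ e ∧ (d ∩ e).card = 4} ∪
          {e : Finset GolayPt | e ∈ dodecads ∧ x ∈ e ∧ (d ∩ e).card = 8} := by
        ext e
        constructor
        · rintro ⟨he, hxe, h⟩
          rcases class_vals d e hd he with ⟨h2, _⟩ | ⟨_, h1 | h1⟩ | ⟨h2, _⟩
          · omega
          · exact Or.inl ⟨he, hxe, h1⟩
          · exact Or.inr ⟨he, hxe, h1⟩
          · omega
        · rintro (⟨he, hxe, h1⟩ | ⟨he, hxe, h1⟩)
          · exact ⟨he, hxe, by rw [cF_Phi d e hd.2, h1]; rfl⟩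
          · exact ⟨he, hxe, by rw [cF_Phi d e hd.2, h1]; rfl⟩
      have hdisj : Disjoint {e : Finset GolayPt | e ∈ dodecads ∧ x ∈ e ∧ (d ∩ e).card = 4}
          {e : Finset GolayPt | e ∈ dodecads ∧ x ∈ e ∧ (d ∩ e).card = 8} := by
        rw [Set.disjoint_left]
        rintro e ⟨_, _, h1⟩ ⟨_, _, h2⟩
        omega
      rw [this, Set.ncard_union_eq hdisj (Set.toFinite _) (Set.toFinite _), h39.1, h39.2.1]
      rfl
    · rw [count_class d hd x hx (fun v => v = 72)]
      have : {e : Finset GolayPt | e ∈ dodecads ∧ x ∈ e ∧ cF d (Phi e) = 72} =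
          {e : Finset GolayPt | e ∈ dodecads ∧ x ∈ e ∧ (d ∩ e).card = 6} := by
        ext e
        constructor
        · rintro ⟨he, hxe, h⟩
          rcases class_vals d e hd he with ⟨h2, _⟩ | ⟨h2, _⟩ | ⟨_, h1⟩
          · omega
          · omega
          · exact ⟨he, hxe, h1⟩
        · rintro ⟨he, hxe, h1⟩
          exact ⟨he, hxe, by rw [cF_Phi d e hd.2, h1]; rfl⟩
      rw [this, h39.2.2.1]
      rfl
  · rw [sum_nF]; norm_num
  · rw [hcx]
    exact arith

end Cfsg.Agent.S1566
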