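import Cfsg.Statements.S1550
import Mathlib
import Cfsg.Agent.Lib.Helper1.M24Tetrads

set_option autoImplicit false
open scoped Pointwise
open Cfsg

namespace Cfsg.Agent.S1550


open Cfsg.Agent.Lib.Helper1

/-- the sextet determined by a tetrad -/
noncomputable def sextetOf (t : Finset GolayPt) : Finset (Finset GolayPt) :=
  insert t ((octThru t).image (fun o => o \ t))

theorem sdiff_injOn (t : Finset GolayPt) :
    Set.InjOn (fun o : Finset GolayPt => o \ t)
      ((octThru t : Finset (Finset GolayPt)) : Set (Finset GolayPt)) := by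
  intro o ho o' ho' h
  have h1 := (mem_octThru.1 ho).2
  have h2 := (mem_octThru.1 ho').2
  have h' : o \ t = o' \ t := h
  rw [← Finset.union_sdiff_of_subset h1, ← Finset.union_sdiff_of_subset h2, h']

theorem not_mem_image (t : Finset GolayPt) (ht : t.card = 4) :
    t ∉ (octThru t).image (fun o => o \ t) := by
  intro h
  obtain ⟨o, _, ho⟩ := Finset.mem_image.1 h
  have hne : t.Nonempty := by rw [← Finset.card_pos, ht]; norm_num
  obtain ⟨x, hx⟩ := hne
  have : x ∈ o \ t := by rw [ho]; exact hx
  exact (Finset.mem_sdiff.1 this).2 hx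

theorem card_sextetOf (t : Finset GolayPt) (ht : t.card = 4) : (sextetOf t).card = 6 := by
  unfold sextetOf
  rw [Finset.card_insert_of_notMem (not_mem_image t ht), Finset.card_image_of_injOn (sdiff_injOn t),
    card_octThru ht]

theorem self_mem_sextetOf (t : Finset GolayPt) : t ∈ sextetOf t := Finset.mem_insert_self _ _

theorem sextetOf_mem (t : Finset GolayPt) (ht : t.card = 4) : sextetOf t ∈ sextets := by
  refine ⟨card_sextetOf t ht, ?_, ?_⟩
  · intro u hu
    rcases Finset.mem_insert.1 hu with rfl | hu
    · exact ht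
    · obtain ⟨o, ho, rfl⟩ := Finset.mem_image.1 hu
      exact card_sdiff_octThru ht ho
  · intro u hu v hv huv
    rcases Finset.mem_insert.1 hu with rfl | hu
    · rcases Finset.mem_insert.1 hv with rfl | hv
      · exact absurd rfl huv
      · obtain ⟨o, ho, rfl⟩ := Finset.mem_image.1 hv
        obtain ⟨h1, h2⟩ := mem_octThru.1 ho
        rw [Finset.union_sdiff_of_subset h2]
        exact h1
    · obtain ⟨o, ho, rfl⟩ := Finset.mem_image.1 hu
      rcases Finset.mem_insert.1 hv with rfl | hv
      · obtain ⟨h1, h2⟩ := mem_octThru.1 ho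
        rw [Finset.union_comm, Finset.union_sdiff_of_subset h2]
        exact h1
      · obtain ⟨o', ho', rfl⟩ := Finset.mem_image.1 hv
        have hne : o ≠ o' := by
          rintro rfl
          exact huv rfl
        exact octThru_union_mem ht ho ho' hne

theorem eq_sextetOf (S : Finset (Finset GolayPt)) (hS : S ∈ sextets) (t : Finset GolayPt)
    (ht : t ∈ S) : S = sextetOf t := by
  obtain ⟨h6, h4, hU⟩ := hS
  have ht4 := h4 t ht
  apply Finset.eq_of_subset_of_card_le _ (by rw [h6, card_sextetOf t ht4])
  intro u hu
  by_cases hut : u = t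
  · rw [hut]; exact self_mem_sextetOf t
  · have ho : t ∪ u ∈ octads := hU t ht u hu (fun h => hut h.symm)
    have hd : Disjoint t u := by
      rw [← Finset.card_union_eq_card_add_card, octad_card8 ho, ht4, h4 u hu]
    unfold sextetOf
    rw [Finset.mem_insert]
    right
    rw [Finset.mem_image]
    refine ⟨t ∪ u, mem_octThru.2 ⟨ho, Finset.subset_union_left⟩, ?_⟩
    show (t ∪ u) \ t = u
    rw [Finset.union_sdiff_left, Finset.sdiff_eq_self_iff_disjoint]
    exact hd.symm

theorem card_univ_pt' : (Finset.univ : Finset GolayPt).card = 24 := by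
  rw [Finset.card_univ]; exact fintype_card_golayPt

theorem count_sextets : sextets.ncard = 1771 := by
  classical
  have hfin : sextets.Finite := Set.toFinite _
  rw [Set.ncard_eq_toFinset_card _ hfin]
  set P : Finset (Finset GolayPt) := Finset.powersetCard 4 Finset.univ with hP
  have hPcard : P.card = 10626 := by
    rw [hP, Finset.card_powersetCard, card_univ_pt']; rfl
  have hsum := Finset.card_eq_sum_card_fiberwise (s := P) (t := hfin.toFinset)
    (f := sextetOf) (by
      intro t ht
      rw [Finset.mem_coe, Set.Finite.mem_toFinset]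
      exact sextetOf_mem t (Finset.mem_powersetCard.1 ht).2)
  have hfib : ∀ S ∈ hfin.toFinset, (P.filter (fun t => sextetOf t = S)).card = 6 := by
    intro S hS
    rw [Set.Finite.mem_toFinset] at hS
    have : P.filter (fun t => sextetOf t = S) = S := by
      ext t
      rw [Finset.mem_filter, Finset.mem_powersetCard]
      constructor
      · rintro ⟨_, rfl⟩
        exact self_mem_sextetOf t
      · intro ht
        exact ⟨⟨Finset.subset_univ _, hS.2.1 t ht⟩, (eq_sextetOf S hS t ht).symm⟩
    rw [this]
    exact hS.1
  rw [Finset.sum_congr rfl hfib, Finset.sum_const, hPcard, smul_eq_mul] at hsum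
  omega


/-- Every 4-element set of the 24 points is a tetrad of exactly one sextet, and the sextets number 1771. -/
theorem result : (∀ t : Finset Cfsg.GolayPt, t.card = 4 → ∃! S : Finset (Finset Cfsg.GolayPt), S ∈ Cfsg.sextets ∧ t ∈ S) ∧ Cfsg.sextets.ncard = 1771 := by
  refine ⟨?_, count_sextets⟩
  intro t ht
  refine ⟨sextetOf t, ⟨sextetOf_mem t ht, self_mem_sextetOf t⟩, ?_⟩
  rintro S ⟨hS, htS⟩
  exact eq_sextetOf S hS t htS

end Cfsg.Agent.S1550
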