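import Cfsg.Statements.S0764
import Cfsg.Agent.Lib.Helper2.Symp

set_option autoImplicit false
set_option linter.style.haveILetI false
open Cfsg

namespace Cfsg.Agent.S0764

open Cfsg.Agent.Lib.Helper2 Matrix

/-- Symplectic transvections are isometries: for every vector v and scalar c the matrix of x ↦ x + c f(x, v) v lies in the symplectic group. -/
theorem result {F : Type*} [Field F] (m : ℕ) (v : Fin m ⊕ Fin m → F) (c : F) : Cfsg.sympTransvection m v c ∈ Matrix.symplecticGroup (Fin m) F := by
  rw [SymplecticGroup.mem_iff]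
  unfold Cfsg.sympTransvection
  set w := Matrix.J (Fin m) F *ᵥ v with hw
  have hT : (1 + c • Matrix.vecMulVec v w)ᵀ = 1 + c • Matrix.vecMulVec w v := by
    rw [Matrix.transpose_add, Matrix.transpose_one, Matrix.transpose_smul,
      Matrix.transpose_vecMulVec]
  rw [hT]
  have h1 : (1 + c • Matrix.vecMulVec v w) * Matrix.J (Fin m) F
      = Matrix.J (Fin m) F + c • Matrix.vecMulVec v v := by
    rw [Matrix.add_mul, Matrix.one_mul, Matrix.smul_mul, Matrix.vecMulVec_mul, hw,
      J_mulVec_vecMul_J]
  rw [h1, Matrix.mul_add, Matrix.mul_one, Matrix.add_mul, Matrix.mul_smul, Matrix.smul_mul,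
    Matrix.mul_smul, Matrix.mul_vecMulVec, Matrix.vecMulVec_mul_vecMulVec, hw,
    J_mulVec_J_mulVec, dot_J_self, zero_smul]
  have h2 : Matrix.vecMulVec (-v) v = - Matrix.vecMulVec v v := by
    ext i j
    simp [Matrix.vecMulVec_apply]
  have h3 : Matrix.vecMulVec v (0 : Fin m ⊕ Fin m → F) = 0 := by
    ext i j
    simp [Matrix.vecMulVec_apply]
  rw [h2, h3]
  simp

end Cfsg.Agent.S0764
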