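import Cfsg.Statements.S1590
import Mathlib
import Cfsg.Agent.Lib.Helper1.TernaryGolay

set_option autoImplicit false
open Cfsg

namespace Cfsg.Agent.S1590


open Cfsg.Agent.Lib.Helper1.TG

theorem weights_aux : ∀ c : Fin 6 → ZMod 3, c ≠ 0 → wtC c = 6 ∨ wtC c = 9 ∨ wtC c = 12 := by
  decide +kernel

theorem cnt6 : (Finset.univ.filter (fun c : Fin 6 → ZMod 3 => wtC c = 6)).card = 264 := by
  decide +kernel

theorem cnt9 : (Finset.univ.filter (fun c : Fin 6 → ZMod 3 => wtC c = 9)).card = 440 := by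
  decide +kernel

theorem cnt12 : (Finset.univ.filter (fun c : Fin 6 → ZMod 3 => wtC c = 12)).card = 24 := by
  decide +kernel

theorem weights {x : ArrayPt → ZMod 3} (hx : x ∈ ternaryGolayCode) (h0 : x ≠ 0) :
    (ternarySupport x).card = 6 ∨ (ternarySupport x).card = 9 ∨ (ternarySupport x).card = 12 := by
  have e := exists_genC hx
  rw [e, card_support_genC]
  apply weights_aux
  intro hc
  apply h0
  rw [e, hc, genC_zero]

theorem ncard_weight (k : ℕ) :
    {x : ArrayPt → ZMod 3 | x ∈ ternaryGolayCode ∧ (ternarySupport x).card = k}.ncard =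
      (Finset.univ.filter (fun c : Fin 6 → ZMod 3 => wtC c = k)).card :=
  ncard_code_pred (fun x => (ternarySupport x).card = k) (fun c => wtC c = k)
    (fun c => by rw [card_support_genC])


/-- The length-12 ternary code has 729 words with weight distribution 0^1 6^264 9^440 12^24. -/
theorem result : Nat.card ↥Cfsg.ternaryGolayCode = 729 ∧ (∀ x ∈ Cfsg.ternaryGolayCode, x ≠ 0 → (Cfsg.ternarySupport x).card = 6 ∨ (Cfsg.ternarySupport x).card = 9 ∨ (Cfsg.ternarySupport x).card = 12) ∧ {x : Cfsg.ArrayPt → ZMod 3 | x ∈ Cfsg.ternaryGolayCode ∧ (Cfsg.ternarySupport x).card = 6}.ncard = 264 ∧ {x : Cfsg.ArrayPt → ZMod 3 | x ∈ Cfsg.ternaryGolayCode ∧ (Cfsg.ternarySupport x).card = 9}.ncard = 440 ∧ {x : Cfsg.ArrayPt → ZMod 3 | x ∈ Cfsg.ternaryGolayCode ∧ (Cfsg.ternarySupport x).card = 12}.ncard = 24 := by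
  refine ⟨card_code, fun x hx h0 => weights hx h0, ?_, ?_, ?_⟩
  · rw [ncard_weight, cnt6]
  · rw [ncard_weight, cnt9]
  · rw [ncard_weight, cnt12]

end Cfsg.Agent.S1590
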