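import Cfsg.Statements.S1592
import Mathlib
import Cfsg.Agent.Lib.Helper1.TernaryGolay
import Cfsg.Agent.S1590

set_option autoImplicit false
open Cfsg

namespace Cfsg.Agent.S1592


open Cfsg.Agent.Lib.Helper1.TG

theorem mem_supp (x : ArrayPt → ZMod 3) (p : ArrayPt) : p ∈ ternarySupport x ↔ x p ≠ 0 := by
  unfold ternarySupport
  rw [Finset.mem_filter]
  exact ⟨fun h => h.2, fun h => ⟨Finset.mem_univ _, h⟩⟩

theorem supp_neg (x : ArrayPt → ZMod 3) : ternarySupport (-x) = ternarySupport x := by
  ext p
  rw [mem_supp, mem_supp, Pi.neg_apply, neg_ne_zero]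

theorem zmod3_aux : ∀ a b : ZMod 3, a ≠ 0 → b ≠ 0 → a ≠ b → a + b = 0 := by decide

/-- a codeword of weight at most 4 vanishes -/
theorem eq_zero_of_small {z : ArrayPt → ZMod 3} (hz : z ∈ ternaryGolayCode)
    (h : (ternarySupport z).card ≤ 4) : z = 0 := by
  by_contra h0
  rcases Cfsg.Agent.S1590.weights hz h0 with h' | h' | h' <;> omega

theorem key (x y : ArrayPt → ZMod 3) (hx : x ∈ ternaryGolayCode) (hy : y ∈ ternaryGolayCode)
    (h5 : 5 ≤ (ternarySupport x ∩ ternarySupport y).card)
    (hx6 : (ternarySupport x).card = 6) (hy6 : (ternarySupport y).card = 6) :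
    y = x ∨ y = -x := by
  classical
  set P := ternarySupport x ∩ ternarySupport y with hP
  set U := ternarySupport x ∪ ternarySupport y with hU
  have hUP : U.card + P.card = 12 := by
    rw [hU, hP, Finset.card_union_add_card_inter, hx6, hy6]
  have hsplit := Finset.card_filter_add_card_filter_not (s := P) (fun p => x p = y p)
  have hPU : P ⊆ U := fun p hp =>
    Finset.mem_union_left _ (Finset.mem_inter.1 hp).1
  have hcases : 3 ≤ (P.filter (fun p => x p = y p)).card ∨
      3 ≤ (P.filter (fun p => ¬ x p = y p)).card := by omega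
  rcases hcases with hA | hD
  · left
    have hz : x - y ∈ ternaryGolayCode := Submodule.sub_mem _ hx hy
    have hsub : ternarySupport (x - y) ⊆ U \ P.filter (fun p => x p = y p) := by
      intro p hp
      rw [mem_supp, Pi.sub_apply, sub_ne_zero] at hp
      rw [Finset.mem_sdiff, hU, Finset.mem_union, mem_supp, mem_supp, Finset.mem_filter]
      refine ⟨?_, fun h => hp h.2⟩
      by_contra hcon
      rw [not_or, not_not, not_not] at hcon
      exact hp (by rw [hcon.1, hcon.2])
    have hle := Finset.card_le_card hsub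
    rw [Finset.card_sdiff_of_subset ((Finset.filter_subset _ _).trans hPU)] at hle
    have := eq_zero_of_small hz (by omega)
    exact (sub_eq_zero.1 this).symm
  · right
    have hz : x + y ∈ ternaryGolayCode := Submodule.add_mem _ hx hy
    have hsub : ternarySupport (x + y) ⊆ U \ P.filter (fun p => ¬ x p = y p) := by
      intro p hp
      rw [mem_supp, Pi.add_apply] at hp
      rw [Finset.mem_sdiff, hU, Finset.mem_union, mem_supp, mem_supp, Finset.mem_filter]
      refine ⟨?_, fun h => ?_⟩
      · by_contra hcon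
        rw [not_or, not_not, not_not] at hcon
        exact hp (by rw [hcon.1, hcon.2, add_zero])
      · obtain ⟨hpP, hne⟩ := h
        rw [hP, Finset.mem_inter, mem_supp, mem_supp] at hpP
        exact hp (zmod3_aux _ _ hpP.1 hpP.2 hne)
    have hle := Finset.card_le_card hsub
    rw [Finset.card_sdiff_of_subset ((Finset.filter_subset _ _).trans hPU)] at hle
    have := eq_zero_of_small hz (by omega)
    exact (neg_eq_of_add_eq_zero_right this).symm ▸ rfl

/-- the hexads -/
def hexs : Set (Finset ArrayPt) :=
  {h : Finset ArrayPt | ∃ x ∈ ternaryGolayCode, ternarySupport x = h ∧ h.card = 6}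

theorem uniq (s b b' : Finset ArrayPt) (hs : s.card = 5) (hb : b ∈ hexs) (hb' : b' ∈ hexs)
    (hsb : s ⊆ b) (hsb' : s ⊆ b') : b = b' := by
  obtain ⟨x, hx, rfl, hx6⟩ := hb
  obtain ⟨y, hy, rfl, hy6⟩ := hb'
  have h5 : 5 ≤ (ternarySupport x ∩ ternarySupport y).card := by
    rw [← hs]
    exact Finset.card_le_card (Finset.subset_inter hsb hsb')
  rcases key x y hx hy h5 hx6 hy6 with rfl | rfl
  · rfl
  · rw [supp_neg]

/-- the hexads as a finite set -/
noncomputable def hexF : Finset (Finset ArrayPt) :=
  (Finset.univ.filter (fun c : Fin 6 → ZMod 3 => wtC c = 6)).image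
    (fun c => ternarySupport (genC c))

theorem coe_hexF : ((hexF : Finset (Finset ArrayPt)) : Set (Finset ArrayPt)) = hexs := by
  ext h
  unfold hexF
  rw [Finset.mem_coe, Finset.mem_image]
  constructor
  · rintro ⟨c, hc, rfl⟩
    rw [Finset.mem_filter] at hc
    exact ⟨genC c, genC_mem c, rfl, by rw [card_support_genC]; exact hc.2⟩
  · rintro ⟨x, hx, rfl, h6⟩
    refine ⟨fun l => x (posI l), ?_, by rw [← exists_genC hx]⟩
    rw [Finset.mem_filter, ← card_support_genC, ← exists_genC hx]
    exact ⟨Finset.mem_univ _, h6⟩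

theorem card_hexF : hexF.card = 132 := by
  classical
  have hsum := Finset.card_eq_sum_card_fiberwise
    (s := Finset.univ.filter (fun c : Fin 6 → ZMod 3 => wtC c = 6)) (t := hexF)
    (f := fun c => ternarySupport (genC c)) (by
      intro c hc
      exact Finset.mem_coe.2 (Finset.mem_image_of_mem _ hc))
  have hfib : ∀ b ∈ hexF, ((Finset.univ.filter (fun c : Fin 6 → ZMod 3 => wtC c = 6)).filter
      (fun c => ternarySupport (genC c) = b)).card = 2 := by
    intro b hb
    unfold hexF at hb
    obtain ⟨c0, hc0, rfl⟩ := Finset.mem_image.1 hb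
    rw [Finset.mem_filter] at hc0
    have h6 : (ternarySupport (genC c0)).card = 6 := by rw [card_support_genC]; exact hc0.2
    have hne : c0 ≠ -c0 := by
      intro h
      have h2 : ∀ l, c0 l = 0 := by
        intro l
        have := congrFun h l
        rw [Pi.neg_apply] at this
        revert this
        generalize c0 l = a
        revert a
        decide
      have : c0 = 0 := funext h2
      have hw : wtC c0 = 6 := hc0.2
      rw [this] at hw
      revert hw
      decide +kernel
    have : (Finset.univ.filter (fun c : Fin 6 → ZMod 3 => wtC c = 6)).filter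
        (fun c => ternarySupport (genC c) = ternarySupport (genC c0)) = {c0, -c0} := by
      ext c
      rw [Finset.mem_filter, Finset.mem_filter, Finset.mem_insert, Finset.mem_singleton]
      constructor
      · rintro ⟨⟨_, hw⟩, hs⟩
        have hc6 : (ternarySupport (genC c)).card = 6 := by rw [card_support_genC]; exact hw
        have h5 : 5 ≤ (ternarySupport (genC c0) ∩ ternarySupport (genC c)).card := by
          rw [hs, Finset.inter_self, h6]; norm_num
        rcases key _ _ (genC_mem c0) (genC_mem c) h5 h6 hc6 with h | h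
        · exact Or.inl (genC_injective h)
        · right
          rw [← genC_neg] at h
          exact genC_injective h
      · rintro (rfl | rfl)
        · exact ⟨⟨Finset.mem_univ _, hc0.2⟩, rfl⟩
        · have e : ternarySupport (genC (-c0)) = ternarySupport (genC c0) := by
            rw [genC_neg, supp_neg]
          refine ⟨⟨Finset.mem_univ _, ?_⟩, e⟩
          rw [← card_support_genC, e]
          exact h6
    rw [this, Finset.card_pair hne]
  rw [Finset.sum_congr rfl hfib, Finset.sum_const, Cfsg.Agent.S1590.cnt6, smul_eq_mul] at hsum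
  omega

theorem card_arrayPt : Fintype.card ArrayPt = 12 := by decide

theorem cover_of_count {α : Type*} [Fintype α] [DecidableEq α] (F : Finset (Finset α)) (k n : ℕ)
    (hk : ∀ b ∈ F, b.card = k)
    (huniq : ∀ t : Finset α, t.card = n → ∀ b ∈ F, ∀ b' ∈ F, t ⊆ b → t ⊆ b' → b = b')
    (hcount : Nat.choose (Fintype.card α) n ≤ F.card * Nat.choose k n)
    (s : Finset α) (hs : s.card = n) : ∃ b ∈ F, s ⊆ b := by
  have hpd : ((F : Finset (Finset α)) : Set (Finset α)).PairwiseDisjoint
      (fun b => Finset.powersetCard n b) := by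
    intro b hb b' hb' hne
    rw [Function.onFun, Finset.disjoint_left]
    intro t ht ht'
    rw [Finset.mem_powersetCard] at ht ht'
    exact hne (huniq t ht.2 b hb b' hb' ht.1 ht'.1)
  have hcard : (F.biUnion (fun b => Finset.powersetCard n b)).card = F.card * Nat.choose k n := by
    rw [Finset.card_biUnion hpd]
    have : ∀ b ∈ F, (Finset.powersetCard n b).card = Nat.choose k n := by
      intro b hb
      rw [Finset.card_powersetCard, hk b hb]
    rw [Finset.sum_congr rfl this, Finset.sum_const, smul_eq_mul]
  have hsub : F.biUnion (fun b => Finset.powersetCard n b) ⊆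
      Finset.powersetCard n (Finset.univ : Finset α) := by
    intro t ht
    rw [Finset.mem_biUnion] at ht
    obtain ⟨b, _, htb⟩ := ht
    rw [Finset.mem_powersetCard] at htb ⊢
    exact ⟨Finset.subset_univ _, htb.2⟩
  have heq := Finset.eq_of_subset_of_card_le hsub (by
    rw [hcard, Finset.card_powersetCard, Finset.card_univ]
    exact hcount)
  have : s ∈ F.biUnion (fun b => Finset.powersetCard n b) := by
    rw [heq, Finset.mem_powersetCard]
    exact ⟨Finset.subset_univ _, hs⟩
  rw [Finset.mem_biUnion] at this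
  obtain ⟨b, hb, hsb⟩ := this
  exact ⟨b, hb, (Finset.mem_powersetCard.1 hsb).1⟩

theorem exists_block (s : Finset ArrayPt) (hs : s.card = 5) : ∃ b ∈ hexF, s ⊆ b := by
  have hmem : ∀ b ∈ hexF, b ∈ hexs := fun b hb => by rw [← coe_hexF]; exact Finset.mem_coe.2 hb
  apply cover_of_count hexF 6 5 _ _ _ s hs
  · intro b hb
    obtain ⟨x, _, _, h6⟩ := hmem b hb
    exact h6
  · intro t ht b hb b' hb' h1 h2
    exact uniq t b b' ht (hmem b hb) (hmem b' hb') h1 h2
  · rw [card_hexF, card_arrayPt]
    decide


/-- The supports of the weight-6 words of the length-12 ternary code form a Steiner system S(5, 6, 12) with 132 blocks. -/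
theorem result : Cfsg.IsSteinerSystem 5 6 {h : Finset Cfsg.ArrayPt | ∃ x ∈ Cfsg.ternaryGolayCode, Cfsg.ternarySupport x = h ∧ h.card = 6} ∧ {h : Finset Cfsg.ArrayPt | ∃ x ∈ Cfsg.ternaryGolayCode, Cfsg.ternarySupport x = h ∧ h.card = 6}.ncard = 132 := by
  show Cfsg.IsSteinerSystem 5 6 hexs ∧ hexs.ncard = 132
  refine ⟨⟨?_, ?_⟩, ?_⟩
  · rintro b ⟨x, _, _, h6⟩
    exact h6
  · intro s hs
    obtain ⟨b, hb, hsb⟩ := exists_block s hs
    have hb' : b ∈ hexs := by rw [← coe_hexF]; exact Finset.mem_coe.2 hb
    refine ⟨b, ⟨hb', hsb⟩, ?_⟩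
    rintro b' ⟨hb'', hsb'⟩
    exact uniq s b' b hs hb'' hb' hsb' hsb
  · rw [← coe_hexF, Set.ncard_coe_finset, card_hexF]

end Cfsg.Agent.S1592
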