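import Cfsg.Statements.S1593
import Mathlib
import Cfsg.Agent.Lib.Helper1.TernaryGolay

set_option autoImplicit false
open Cfsg

namespace Cfsg.Agent.S1593


open Cfsg.Agent.Lib.Helper1.TG

/-- sign attached to a boolean -/
def sgn (b : Bool) : ZMod 3 := if b then -1 else 1

theorem signs_aux4 : ∀ s0 s1 s2 s3 : Fin 3 → Bool,
    (∀ k : Fin 6, IsTGW (fun p => sgn ((![s0, s1, s2, s3] : Fin 4 → Fin 3 → Bool) p.1 p.2) *
      Mat k p.1 p.2)) →
      (∀ i r, (![s0, s1, s2, s3] : Fin 4 → Fin 3 → Bool) i r = false) ∨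
      (∀ i r, (![s0, s1, s2, s3] : Fin 4 → Fin 3 → Bool) i r = true) := by
  decide +kernel

theorem signs_aux (s : Fin 4 → Fin 3 → Bool)
    (h : ∀ k : Fin 6, IsTGW (fun p => sgn (s p.1 p.2) * Mat k p.1 p.2)) :
      (∀ i r, s i r = false) ∨ (∀ i r, s i r = true) := by
  have e : s = ![s 0, s 1, s 2, s 3] := by
    funext i
    fin_cases i <;> rfl
  rw [e] at h ⊢
  exact signs_aux4 _ _ _ _ h

theorem unit_cases : ∀ u : (ZMod 3)ˣ, u = 1 ∨ u = -1 := by decide

theorem genC_single : ∀ (k : Fin 6) (p : ArrayPt), genC (Pi.single k 1) p = Mat k p.1 p.2 := by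
  decide +kernel


/-- The only sign changes preserving the length-12 ternary code are the identity and negation of all coordinates. -/
theorem result (c : Cfsg.ArrayPt → (ZMod 3)ˣ) (h : (∀ x ∈ Cfsg.ternaryGolayCode, Cfsg.monomialMap 1 c x ∈ Cfsg.ternaryGolayCode)) : (∀ p, c p = 1) ∨ (∀ p, c p = -1) := by
  classical
  set s : Fin 4 → Fin 3 → Bool := fun i r => decide (c (i, r) = -1) with hs
  have hc : ∀ p : ArrayPt, ((c p : (ZMod 3)ˣ) : ZMod 3) = sgn (s p.1 p.2) := by
    intro p
    show _ = sgn (decide (c (p.1, p.2) = -1))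
    have : (p.1, p.2) = p := rfl
    rw [this]
    unfold sgn
    rcases unit_cases (c p) with h1 | h1
    · rw [h1]
      have : ¬ ((1 : (ZMod 3)ˣ) = -1) := by decide
      simp [this]
    · rw [h1]
      simp
  have hk : ∀ k : Fin 6, IsTGW (fun p => sgn (s p.1 p.2) * Mat k p.1 p.2) := by
    intro k
    have h1 := h _ (genC_mem (Pi.single k 1))
    rw [mem_code_iff] at h1
    have e : Cfsg.monomialMap 1 c (genC (Pi.single k 1)) =
        fun p => sgn (s p.1 p.2) * Mat k p.1 p.2 := by
      funext p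
      unfold Cfsg.monomialMap
      rw [hc p]
      show _ * genC (Pi.single k 1) p = _
      rw [genC_single]
    rw [e] at h1
    exact h1
  rcases signs_aux s hk with h0 | h0
  · left
    intro p
    have := h0 p.1 p.2
    rw [hs] at this
    have h2 : ¬ (c (p.1, p.2) = -1) := by simpa using this
    rcases unit_cases (c p) with h1 | h1
    · exact h1
    · exact absurd h1 h2
  · right
    intro p
    have := h0 p.1 p.2
    rw [hs] at this
    have h2 : c (p.1, p.2) = -1 := by simpa using this
    exact h2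

end Cfsg.Agent.S1593
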