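import Cfsg.Statements.S0002
import Mathlib

set_option autoImplicit false
open Pointwise
open Cfsg

namespace Cfsg.Agent.S0002

/-- the class of a left transversal -/
def cls {G : Type*} [Group G] (A : Subgroup G) [IsMulCommutative A] [A.FiniteIndex]
    (T : A.LeftTransversal) : A.QuotientDiff := Quotient.mk'' T

open MulOpposite in
theorem smul_cls {G : Type*} [Group G] (A : Subgroup G) [A.Normal] [IsMulCommutative A]
    [A.FiniteIndex] (g : G) (T : A.LeftTransversal) :
    g • cls A T = cls A (op g⁻¹ • T) := rfl

open MulOpposite in
/-- a complement `K` of the abelian normal subgroup `A` is the stabilizer of its own class of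
transversals -/
theorem complement_eq_stabilizer {G : Type*} [Group G] [Finite G] (A : Subgroup G) [A.Normal]
    [IsMulCommutative A] (hA : (Nat.card A).Coprime A.index) (K : Subgroup G)
    (hK : Subgroup.IsComplement' A K) :
    K = MulAction.stabilizer G (cls A ⟨(K : Set G), hK.symm⟩) := by
  set α : A.QuotientDiff := cls A ⟨(K : Set G), hK.symm⟩ with hα
  have hle : K ≤ MulAction.stabilizer G α := by
    intro k hk
    rw [MulAction.mem_stabilizer_iff]
    have : op k⁻¹ • (⟨(K : Set G), hK.symm⟩ : A.LeftTransversal)
        = ⟨(K : Set G), hK.symm⟩ := by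
      apply Subtype.ext
      show op k⁻¹ • (K : Set G) = (K : Set G)
      ext x
      rw [Set.mem_smul_set_iff_inv_smul_mem]
      have e : (op k⁻¹)⁻¹ • x = x * k := by
        rw [← op_inv, inv_inv]; rfl
      rw [e]
      constructor
      · intro h
        have := K.mul_mem h (K.inv_mem hk)
        rwa [mul_assoc, mul_inv_cancel, mul_one] at this
      · intro h
        exact K.mul_mem h hk
    rw [hα, smul_cls, this]
  have hcompl := Subgroup.isComplement'_stabilizer_of_coprime (α := α) hA
  have h1 := hK.card_mul_card
  have h2 := hcompl.card_mul_card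
  have hApos : 0 < Nat.card A := Nat.card_pos
  have hcard : Nat.card K = Nat.card (MulAction.stabilizer G α) :=
    Nat.eq_of_mul_eq_mul_left hApos (h1.trans h2.symm)
  exact Subgroup.eq_of_le_of_card_ge hle hcard.ge


/-- Schur's Theorem, conjugacy part, for an abelian normal subgroup of coprime order and index: any two complements are conjugate by an element of the normal subgroup. -/
theorem result {G : Type*} [Group G] [Finite G] (A : Subgroup G) [A.Normal] [IsMulCommutative A]
    (hA : (Nat.card A).Coprime A.index)
    (H K : Subgroup G) (hH : Subgroup.IsComplement' A H) (hK : Subgroup.IsComplement' A K) :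
    ∃ a ∈ A, MulAut.conj a • H = K := by
  have hH' := complement_eq_stabilizer A hA H hH
  have hK' := complement_eq_stabilizer A hA K hK
  obtain ⟨a, ha⟩ := Subgroup.exists_smul_eq hA
    (cls A ⟨(H : Set G), hH.symm⟩) (cls A ⟨(K : Set G), hK.symm⟩)
  refine ⟨a.1, a.2, ?_⟩
  have ha' : (a : G) • cls A ⟨(H : Set G), hH.symm⟩ = cls A ⟨(K : Set G), hK.symm⟩ := ha
  rw [hK', ← ha', MulAction.stabilizer_smul_eq_stabilizer_map_conj, ← hH']
  rfl

end Cfsg.Agent.S0002
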