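import Cfsg.Statements.S0043
import Mathlib

set_option autoImplicit false
open Cfsg

namespace Cfsg.Agent.S0043

/-- A minimal normal subgroup of a finite solvable group is abelian, and for some prime p all of its elements have order dividing p. -/
theorem result {G : Type*} [Group G] [Finite G] [Group.IsSolvable G]
    (N : Subgroup G) [N.Normal] (hN : N ≠ ⊥) (hmin : ∀ M : Subgroup G, M.Normal → M ≤ N → M = ⊥ ∨ M = N) :
    IsMulCommutative N ∧ ∃ p : ℕ, p.Prime ∧ ∀ x ∈ N, x ^ p = 1 := by
  have hlt : ⁅N, N⁆ < N := Group.IsSolvable.commutator_lt_of_ne_bot hN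
  have hcn : (⁅N, N⁆ : Subgroup G).Normal := inferInstance
  have hbot : ⁅N, N⁆ = ⊥ := by
    rcases hmin _ hcn hlt.le with h | h
    · exact h
    · exact absurd h hlt.ne
  have hcent : N ≤ Subgroup.centralizer (N : Set G) :=
    Subgroup.commutator_eq_bot_iff_le_centralizer.1 hbot
  have hcomm : IsMulCommutative N := Subgroup.le_centralizer_iff_isMulCommutative.1 hcent
  refine ⟨hcomm, ?_⟩
  have hcomm' : ∀ x ∈ N, ∀ y ∈ N, x * y = y * x := by
    intro x hx y hy
    exact (Subgroup.mem_centralizer_iff.1 (hcent hx) y hy).symm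
  have hcard : Nat.card N ≠ 1 := by
    intro h
    exact hN (Subgroup.card_eq_one.1 h)
  obtain ⟨p, hp, hpd⟩ := Nat.exists_prime_and_dvd hcard
  refine ⟨p, hp, ?_⟩
  haveI : Fact p.Prime := ⟨hp⟩
  -- the subgroup of elements of N killed by p
  let Ω : Subgroup G :=
    { carrier := {x | x ∈ N ∧ x ^ p = 1}
      mul_mem' := by
        rintro a b ⟨ha, ha'⟩ ⟨hb, hb'⟩
        refine ⟨N.mul_mem ha hb, ?_⟩
        have hc : Commute a b := hcomm' a ha b hb
        rw [hc.mul_pow, ha', hb', one_mul]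
      one_mem' := ⟨N.one_mem, one_pow p⟩
      inv_mem' := by
        rintro a ⟨ha, ha'⟩
        exact ⟨N.inv_mem ha, by rw [inv_pow, ha', inv_one]⟩ }
  have hΩn : Ω.Normal := by
    constructor
    rintro x ⟨hx, hx'⟩ g
    refine ⟨(inferInstance : N.Normal).conj_mem x hx g, ?_⟩
    rw [conj_pow, hx', mul_one, mul_inv_cancel]
  have hΩle : Ω ≤ N := fun x hx => hx.1
  obtain ⟨y, hy⟩ := exists_prime_orderOf_dvd_card' (G := N) p hpd
  have hΩne : Ω ≠ ⊥ := by
    intro h
    have hmem : (y : G) ∈ Ω := by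
      refine ⟨y.2, ?_⟩
      have := pow_orderOf_eq_one y
      rw [hy] at this
      exact_mod_cast congrArg Subtype.val this
    rw [h, Subgroup.mem_bot] at hmem
    have hy1 : y = 1 := Subtype.ext hmem
    rw [hy1, orderOf_one] at hy
    exact hp.one_lt.ne hy
  rcases hmin Ω hΩn hΩle with h | h
  · exact absurd h hΩne
  · intro x hx
    have : x ∈ Ω := h ▸ hx
    exact this.2

end Cfsg.Agent.S0043
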