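import Cfsg.Statements.S0007
import Mathlib

set_option autoImplicit false
open Cfsg

namespace Cfsg.Agent.S0007

/-- the diagonal map on cosets -/
def diagMap {G : Type*} [Group G] (H K : Subgroup G) :
    G ⧸ (H ⊓ K) → (G ⧸ H) × (G ⧸ K) :=
  fun q => Quotient.liftOn' q (fun g => ((g : G ⧸ H), (g : G ⧸ K))) (by
    intro a b hab
    rw [QuotientGroup.leftRel_apply] at hab
    have hab' := Subgroup.mem_inf.1 hab
    exact Prod.ext (QuotientGroup.eq.2 hab'.1) (QuotientGroup.eq.2 hab'.2))

theorem diagMap_mk {G : Type*} [Group G] (H K : Subgroup G) (g : G) :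
    diagMap H K (g : G ⧸ (H ⊓ K)) = ((g : G ⧸ H), (g : G ⧸ K)) := rfl

theorem diagMap_injective {G : Type*} [Group G] (H K : Subgroup G) :
    Function.Injective (diagMap H K) := by
  intro a b
  induction a using QuotientGroup.induction_on with
  | H a =>
    induction b using QuotientGroup.induction_on with
    | H b =>
      intro h
      rw [diagMap_mk, diagMap_mk, Prod.ext_iff] at h
      rw [QuotientGroup.eq]
      exact Subgroup.mem_inf.2 ⟨QuotientGroup.eq.1 h.1, QuotientGroup.eq.1 h.2⟩


/-- Subgroups of coprime index: the intersection has index equal to the product of the indices, and every element is a product of an element of the first subgroup and an element of the second. -/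
theorem result {G : Type*} [Group G] [Finite G] (H K : Subgroup G)
    (h : H.index.Coprime K.index) :
    (H ⊓ K).index = H.index * K.index ∧ ∀ g : G, ∃ x ∈ H, ∃ y ∈ K, g = x * y := by
  have hidx : (H ⊓ K).index = H.index * K.index := by
    have h1 : H.index ∣ (H ⊓ K).index := Subgroup.index_dvd_of_le inf_le_left
    have h2 : K.index ∣ (H ⊓ K).index := Subgroup.index_dvd_of_le inf_le_right
    have h3 : H.index * K.index ∣ (H ⊓ K).index := Nat.Coprime.mul_dvd_of_dvd_of_dvd h h1 h2
    have h4 : (H ⊓ K).index ≤ H.index * K.index := Subgroup.index_inf_le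
    have hpos : 0 < (H ⊓ K).index := Nat.pos_of_ne_zero (Subgroup.index_ne_zero_of_finite)
    exact le_antisymm h4 (Nat.le_of_dvd hpos h3)
  refine ⟨hidx, ?_⟩
  have hbij : Function.Bijective (diagMap H K) := by
    apply Function.Injective.bijective_of_nat_card_le (diagMap_injective H K)
    rw [Nat.card_prod]
    show H.index * K.index ≤ (H ⊓ K).index
    rw [hidx]
  intro g
  obtain ⟨q, hq⟩ := hbij.2 (((g⁻¹ : G) : G ⧸ H), ((1 : G) : G ⧸ K))
  induction q using QuotientGroup.induction_on with
  | H x =>
    rw [diagMap_mk, Prod.ext_iff] at hq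
    have h1 : x⁻¹ * g⁻¹ ∈ H := QuotientGroup.eq.1 hq.1
    have h2 : x⁻¹ * 1 ∈ K := QuotientGroup.eq.1 hq.2
    rw [mul_one] at h2
    refine ⟨(x⁻¹ * g⁻¹)⁻¹, H.inv_mem h1, x⁻¹, h2, ?_⟩
    group

end Cfsg.Agent.S0007
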