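import Cfsg.Statements.S0543
import Cfsg.Agent.Lib.Helper2.CoprimeIndex
import Cfsg.Agent.Lib.Helper4.Hall

set_option autoImplicit false
set_option linter.style.haveILetI false
open Cfsg

namespace Cfsg.Agent.S0543

open Cfsg.Agent.Lib.Helper2
open scoped Pointwise

theorem not_dvd_index_inf {G : Type*} [Group G] [Finite G] (L : Nat.Primes → Subgroup G)
    (hL : Cfsg.IsComplementSystem L) (T : Finset Nat.Primes) :
    ∀ q : Nat.Primes, q ∉ T → ¬ (q : ℕ) ∣ (T.inf L).index := by
  classical
  induction T using Finset.induction_on with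
  | empty =>
    intro q _
    rw [Finset.inf_empty, Subgroup.index_top]
    exact q.2.not_dvd_one
  | insert p T hpT ih =>
    intro q hq
    rw [Finset.mem_insert, not_or] at hq
    rw [Finset.inf_insert]
    have hcop : (L p).index.Coprime (T.inf L).index := by
      rw [hL p]
      apply Nat.Coprime.pow_left
      exact (Nat.Prime.coprime_iff_not_dvd p.2).2 (ih p hpT)
    rw [index_inf_of_coprime _ _ hcop, hL p]
    intro hdvd
    rcases (Nat.Prime.dvd_mul q.2).1 hdvd with h | h
    · have h1 := q.2.dvd_of_dvd_pow h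
      have h2 := (Nat.prime_dvd_prime_iff_eq q.2 p.2).1 h1
      exact hq.1 (Subtype.ext h2)
    · exact ih q hq.2 h

theorem exists_conj_on {G : Type*} [Group G] [Finite G] [Group.IsSolvable G]
    (K L : Nat.Primes → Subgroup G) (hK : Cfsg.IsComplementSystem K)
    (hL : Cfsg.IsComplementSystem L) (T : Finset Nat.Primes) :
    ∃ g : G, ∀ p ∈ T, MulAut.conj g • K p = L p := by
  classical
  induction T using Finset.induction_on with
  | empty => exact ⟨1, fun p hp => absurd hp (Finset.notMem_empty p)⟩
  | insert p' T hp'T ih =>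
    obtain ⟨g, hg⟩ := ih
    have hp' : (p' : ℕ).Prime := p'.2
    set a := (Nat.card G).factorization p' with ha
    have hidxK : (MulAut.conj g • K p' : Subgroup G).index = (p' : ℕ) ^ a := by
      rw [index_conj_smul, hK p']
    have hidxL : (L p').index = (p' : ℕ) ^ a := hL p'
    have hm : Nat.card G = Nat.card (L p') * (p' : ℕ) ^ a := by
      rw [← hidxL, Subgroup.card_mul_index]
    have hpos : 0 < (p' : ℕ) ^ a := pow_pos hp'.pos a
    have hcardK : Nat.card (MulAut.conj g • K p' : Subgroup G) = Nat.card (L p') := by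
      have h1 := Subgroup.card_mul_index (MulAut.conj g • K p' : Subgroup G)
      rw [hidxK] at h1
      exact Nat.eq_of_mul_eq_mul_right hpos (h1.trans hm)
    have hcop : (Nat.card (L p')).Coprime ((p' : ℕ) ^ a) := by
      have h1 : Nat.card (L p') = Nat.card G / (p' : ℕ) ^ a :=
        (Nat.div_eq_of_eq_mul_left hpos hm).symm
      rw [h1, Nat.coprime_comm]
      apply Nat.Coprime.pow_left
      exact Nat.coprime_ordCompl hp' Nat.card_pos.ne'
    obtain ⟨x, hx⟩ := (Cfsg.Agent.Lib.Helper4.hall_all _ G rfl (Nat.card (L p')) ((p' : ℕ) ^ a) hm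
      hcop).2.1 (MulAut.conj g • K p') (L p') hcardK rfl
    have hx' : MulAut.conj x • (MulAut.conj g • K p') = L p' := hx
    set D : Subgroup G := T.inf (fun p => Subgroup.normalizer ((L p : Subgroup G) : Set G)) with hD
    set N : Subgroup G := Subgroup.normalizer ((MulAut.conj g • K p' : Subgroup G) : Set G) with hN
    have hDle : T.inf L ≤ D := Finset.inf_mono_fun (fun p _ => Subgroup.le_normalizer)
    have hDidx : ¬ (p' : ℕ) ∣ D.index := by
      intro h
      exact not_dvd_index_inf L hL T p' hp'T (h.trans (Subgroup.index_dvd_of_le hDle))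
    have hNidx : N.index ∣ (p' : ℕ) ^ a := by
      rw [← hidxK]
      exact Subgroup.index_dvd_of_le Subgroup.le_normalizer
    have hcop' : D.index.Coprime N.index := by
      obtain ⟨b, -, hb⟩ := (Nat.dvd_prime_pow hp').1 hNidx
      rw [hb]
      apply Nat.Coprime.pow_right
      rw [Nat.coprime_comm]
      exact (Nat.Prime.coprime_iff_not_dvd hp').2 hDidx
    obtain ⟨d, hd, n, hn, hxdn⟩ := exists_mul_of_coprime_index D N hcop' x
    refine ⟨d * g, ?_⟩
    intro p hp
    rw [Finset.mem_insert] at hp
    rcases hp with rfl | hp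
    · rw [map_mul, mul_smul, ← hx', hxdn, map_mul, mul_smul,
        conj_smul_eq_of_mem_normalizer hn]
    · rw [map_mul, mul_smul, hg p hp]
      have hdp : d ∈ Subgroup.normalizer ((L p : Subgroup G) : Set G) :=
        (Finset.inf_le hp : D ≤ _) hd
      exact conj_smul_eq_of_mem_normalizer hdp

/-- Any two Hall complement systems of a finite solvable group are conjugate by a single element. -/
theorem result {G : Type*} [Group G] [Finite G] [Group.IsSolvable G] (K L : Nat.Primes → Subgroup G) (hK : Cfsg.IsComplementSystem K) (hL : Cfsg.IsComplementSystem L) : ∃ g : G, ∀ p : Nat.Primes, MulAut.conj g • K p = L p := by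
  classical
  obtain ⟨g, hg⟩ := exists_conj_on K L hK hL
    (Finset.subtype Nat.Prime (Nat.card G).primeFactors)
  refine ⟨g, ?_⟩
  intro p
  by_cases hp : p ∈ Finset.subtype Nat.Prime (Nat.card G).primeFactors
  · exact hg p hp
  · have hnd : ¬ (p : ℕ) ∣ Nat.card G := fun h =>
      hp (Finset.mem_subtype.2 (Nat.mem_primeFactors.2 ⟨p.2, h, Nat.card_pos.ne'⟩))
    have h0 : (Nat.card G).factorization p = 0 := Nat.factorization_eq_zero_of_not_dvd hnd
    have hKp : K p = ⊤ := by
      have := hK p
      rw [h0, pow_zero] at this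
      exact Subgroup.index_eq_one.1 this
    have hLp : L p = ⊤ := by
      have := hL p
      rw [h0, pow_zero] at this
      exact Subgroup.index_eq_one.1 this
    rw [hKp, hLp, conj_smul_top]

end Cfsg.Agent.S0543
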