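import Cfsg.Statements.S0545
import Cfsg.Agent.Lib.Helper2.CompSysRel
import Cfsg.Agent.Lib.Helper4.SZ

set_option autoImplicit false
set_option linter.style.haveILetI false
open Cfsg

namespace Cfsg.Agent.S0545

open Cfsg.Agent.Lib.Helper2
open scoped Pointwise

/-- System normalizers pass to quotients. -/
theorem result {G : Type*} [Group G] [Finite G] [Group.IsSolvable G] (K : Nat.Primes → Subgroup G) (hK : Cfsg.IsComplementSystem K) (N : Subgroup G) [N.Normal] : Cfsg.IsComplementSystem (fun p => (K p).map (QuotientGroup.mk' N)) ∧ Cfsg.systemNormalizer (fun p => (K p).map (QuotientGroup.mk' N)) = (Cfsg.systemNormalizer K).map (QuotientGroup.mk' N) := by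
  classical
  have hsurj := QuotientGroup.mk'_surjective N
  constructor
  · intro p
    have hp : (p : ℕ).Prime := p.2
    have h1 : ((K p).map (QuotientGroup.mk' N)).index ∣
        (p : ℕ) ^ (Nat.card G).factorization p := by
      rw [← hK p]; exact Subgroup.index_map_dvd (K p) hsurj
    obtain ⟨b, -, hb⟩ := (Nat.dvd_prime_pow hp).1 h1
    have hnd : ¬ (p : ℕ) ∣ Nat.card ((K p).map (QuotientGroup.mk' N)) := fun h =>
      not_dvd_card_of_index_eq p hp (K p) (hK p) (h.trans (Subgroup.card_map_dvd _ _))
    have hcard : Nat.card (G ⧸ N) =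
        Nat.card ((K p).map (QuotientGroup.mk' N)) * (p : ℕ) ^ b := by
      rw [← hb, Subgroup.card_mul_index]
    show ((K p).map (QuotientGroup.mk' N)).index = (p : ℕ) ^ (Nat.card (G ⧸ N)).factorization p
    rw [hb, hcard, Nat.factorization_mul Nat.card_pos.ne' (pow_pos hp.pos b).ne',
      Finsupp.add_apply, Nat.factorization_eq_zero_of_not_dvd hnd, zero_add,
      Nat.Prime.factorization_pow hp, Finsupp.single_eq_same]
  · apply le_antisymm
    · intro xb hxb
      obtain ⟨x, rfl⟩ := hsurj xb
      unfold Cfsg.systemNormalizer at hxb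
      rw [Subgroup.mem_iInf] at hxb
      let L : Nat.Primes → Subgroup G := fun p => MulAut.conj x • K p
      have hL : Cfsg.IsComplementSystem L := by
        intro p
        show (MulAut.conj x • K p : Subgroup G).index = _
        rw [index_conj_smul, hK p]
      have hKL : ∀ p, K p ⊔ N = L p ⊔ N := by
        intro p
        have h1 := conj_smul_eq_of_mem_normalizer (hxb p)
        have h2 : (L p).map (QuotientGroup.mk' N) = (K p).map (QuotientGroup.mk' N) := by
          show (Cfsg.Agent.Lib.Helper4.cj x (K p)).map (QuotientGroup.mk' N) = _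
          rw [Cfsg.Agent.Lib.Helper4.map_cj]
          exact h1
        have h3 := congrArg (Subgroup.comap (QuotientGroup.mk' N)) h2
        rw [Subgroup.comap_map_eq, Subgroup.comap_map_eq, QuotientGroup.ker_mk'] at h3
        exact h3.symm
      obtain ⟨n, hnN, hn⟩ := exists_conj_rel N K L hK hL hKL
      refine ⟨n⁻¹ * x, ?_, ?_⟩
      · unfold Cfsg.systemNormalizer
        rw [SetLike.mem_coe, Subgroup.mem_iInf]
        intro p
        rw [mem_normalizer_iff_conj_smul_eq, map_mul, mul_smul]
        show (MulAut.conj n⁻¹) • L p = K p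
        rw [← hn p, map_inv, inv_smul_smul]
      · rw [map_mul, map_inv]
        have : (QuotientGroup.mk' N) n = 1 := by
          rw [QuotientGroup.mk'_apply, QuotientGroup.eq_one_iff]; exact hnN
        rw [this, inv_one, one_mul]
    · rintro _ ⟨d, hd, rfl⟩
      unfold Cfsg.systemNormalizer at hd ⊢
      rw [SetLike.mem_coe, Subgroup.mem_iInf] at hd
      rw [Subgroup.mem_iInf]
      intro p
      exact Subgroup.le_normalizer_map _ ⟨d, hd p, rfl⟩

end Cfsg.Agent.S0545
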