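import Cfsg.Statements.S0568
import Mathlib
import Cfsg.Agent.S0545
import Cfsg.Agent.S0043
import Cfsg.Agent.Lib.Helper2.Nilp
import Cfsg.Agent.Lib.Helper2.FrattiniTriv
import Cfsg.Agent.Lib.Helper2.CompSys
import Cfsg.Agent.Lib.Helper2.Index

set_option autoImplicit false
open Cfsg
open scoped commutatorElement

namespace Cfsg.Agent.S0568
set_option linter.style.haveILetI false
set_option linter.deprecated false

open Cfsg.Agent.Lib.Helper2

universe u

variable {G : Type u} [Group G]

/-- A normal subgroup whose order is coprime to the index of `Y` lies in `Y`. -/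
theorem le_of_coprime_index [Finite G] (X Y : Subgroup G) [X.Normal]
    (h : (Nat.card X).Coprime Y.index) : X ≤ Y := by
  have h1 := relIndex_sup_of_le_normalizer Y X
    (by rw [Subgroup.normalizer_eq_top]; exact le_top)
  have h2 : Y.relIndex X ∣ Nat.card X := Subgroup.relIndex_dvd_card Y X
  have h3 : Y.relIndex (Y ⊔ X) ∣ Y.index :=
    Dvd.intro _ (Subgroup.relIndex_mul_index (le_sup_left : Y ≤ Y ⊔ X))
  rw [h1] at h3
  rw [← Subgroup.relIndex_eq_one]
  exact Nat.eq_one_of_dvd_coprimes h h2 h3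

theorem isPGroup_of_exp {p : ℕ} (B : Subgroup G) (hexp : ∀ x ∈ B, x ^ p = 1) : IsPGroup p B := by
  intro b
  refine ⟨1, ?_⟩
  rw [pow_one]
  apply Subtype.ext
  simpa using hexp b b.2

theorem core [Finite G] [Group.IsSolvable G] (K : Nat.Primes → Subgroup G)
    (hK : Cfsg.IsComplementSystem K) (B : Subgroup G) [hBn : B.Normal] (hB : B ≠ ⊥)
    (hmin : ∀ N : Subgroup G, N.Normal → N ≤ B → N = ⊥ ∨ N = B) :
    ((∀ b ∈ B, ∀ g : G, b * g = g * b) → B ≤ Cfsg.systemNormalizer K) ∧
    (¬ (∀ b ∈ B, ∀ g : G, b * g = g * b) → B ⊓ Cfsg.systemNormalizer K = ⊥) := by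
  classical
  constructor
  · intro hc b hb
    unfold Cfsg.systemNormalizer
    rw [Subgroup.mem_iInf]
    intro q
    apply Subgroup.center_le_normalizer
    rw [Subgroup.mem_center_iff]
    intro g
    exact (hc b hb g).symm
  · intro hnc
    obtain ⟨hBcomm, p, hp, hexp⟩ := Cfsg.Agent.S0043.result B hB hmin
    haveI : Fact p.Prime := ⟨hp⟩
    have hBp : IsPGroup p B := isPGroup_of_exp B hexp
    obtain ⟨n, hn⟩ := IsPGroup.iff_card.mp hBp
    set Kp := K ⟨p, hp⟩ with hKp
    have hKpidx : Kp.index = p ^ (Nat.card G).factorization p := hK ⟨p, hp⟩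
    have hKpcard : ¬ p ∣ Nat.card Kp := not_dvd_card_of_index_eq p hp Kp hKpidx
    have hBK : B ⊓ Kp = ⊥ := by
      apply Subgroup.inf_eq_bot_of_coprime
      rw [hn]
      exact Nat.Coprime.pow_left n ((Nat.Prime.coprime_iff_not_dvd hp).mpr hKpcard)
    have hcent : ∀ x ∈ B, x ∈ Subgroup.normalizer (Kp : Set G) →
        ∀ k ∈ Kp, x * k = k * x := by
      intro x hxB hxN k hk
      have h1 : x * k * x⁻¹ * k⁻¹ ∈ B ⊓ Kp := by
        refine Subgroup.mem_inf.mpr ⟨?_, ?_⟩
        · have h0 : x * k * x⁻¹ * k⁻¹ = x * (k * x⁻¹ * k⁻¹) := by group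
          rw [h0]
          exact B.mul_mem hxB (hBn.conj_mem _ (B.inv_mem hxB) k)
        · have h2 : x * k * x⁻¹ ∈ Kp := (Subgroup.mem_normalizer_iff.mp hxN k).mp hk
          exact Kp.mul_mem h2 (Kp.inv_mem hk)
      rw [hBK, Subgroup.mem_bot] at h1
      calc x * k = (x * k * x⁻¹ * k⁻¹) * (k * x) := by group
        _ = k * x := by rw [h1, one_mul]
    set C := Subgroup.centralizer (B : Set G) with hC
    haveI hCn : C.Normal := Subgroup.normal_centralizer
    have hCtop : C ≠ ⊤ := by
      intro h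
      apply hnc
      intro b hb g
      have hg : g ∈ C := h ▸ Subgroup.mem_top g
      exact (Subgroup.mem_centralizer_iff.mp hg b hb)
    have hπ : Function.Surjective (QuotientGroup.mk' C) := QuotientGroup.mk'_surjective C
    have htopne : (⊤ : Subgroup (G ⧸ C)) ≠ ⊥ := by
      intro h
      apply hCtop
      rw [eq_top_iff]
      intro g _
      have h1 : QuotientGroup.mk' C g ∈ (⊤ : Subgroup (G ⧸ C)) := Subgroup.mem_top _
      rw [h, Subgroup.mem_bot] at h1
      exact (QuotientGroup.eq_one_iff g).mp h1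
    obtain ⟨Rb, hRbn, hRb1, -, hRbmin⟩ :=
      exists_minimal_normal_le (⊤ : Subgroup (G ⧸ C)) inferInstance htopne
    haveI := hRbn
    obtain ⟨-, q, hq, hqexp⟩ := Cfsg.Agent.S0043.result Rb hRb1 hRbmin
    haveI : Fact q.Prime := ⟨hq⟩
    have hRbq : IsPGroup q Rb := isPGroup_of_exp Rb hqexp
    set R := Rb.comap (QuotientGroup.mk' C) with hR
    haveI hRn : R.Normal := hRbn.comap _
    have hB1 : B ⊓ Subgroup.centralizer (R : Set G) = ⊥ := by
      rcases hmin (B ⊓ Subgroup.centralizer (R : Set G)) inferInstance inf_le_left with h | h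
      · exact h
      · exfalso
        apply hRb1
        rw [eq_bot_iff]
        intro y hy
        obtain ⟨r, rfl⟩ := hπ y
        have hrR : r ∈ R := hy
        have hrC : r ∈ C := by
          rw [hC, Subgroup.mem_centralizer_iff]
          intro b hb
          have hb0 : b ∈ B ⊓ Subgroup.centralizer (R : Set G) := by rw [h]; exact hb
          have hb' : b ∈ Subgroup.centralizer (R : Set G) := (Subgroup.mem_inf.mp hb0).2
          exact ((Subgroup.mem_centralizer_iff.mp hb') r hrR).symm
        rw [Subgroup.mem_bot]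
        exact (QuotientGroup.eq_one_iff r).mpr hrC
    have hqp : q ≠ p := by
      intro hqp
      subst hqp
      obtain ⟨P⟩ : Nonempty (Sylow q G) := inferInstance
      have hBP : B ≤ P := IsPGroup.le_sylow_of_normal hBp P
      have hRP : Rb ≤ (P.mapSurjective hπ : Subgroup (G ⧸ C)) :=
        IsPGroup.le_sylow_of_normal hRbq _
      rw [Sylow.coe_mapSurjective] at hRP
      haveI hP_nil : Group.IsNilpotent P := P.2.isNilpotent
      have hBP' : B.subgroupOf P ≠ ⊥ := by
        intro h
        apply hB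
        rw [Subgroup.subgroupOf_eq_bot, disjoint_iff, inf_eq_left.mpr hBP] at h
        exact h
      haveI : (B.subgroupOf (P : Subgroup G)).Normal := hBn.subgroupOf _
      obtain ⟨M, hMn, hM1, hMle, hMmin⟩ :=
        exists_minimal_normal_le (B.subgroupOf (P : Subgroup G)) inferInstance hBP'
      haveI := hMn
      have hcentM := nilpotent_normal_le_centralizer_minimal_normal M
        (⊤ : Subgroup (P : Subgroup G)) inferInstance hM1 hMmin
      obtain ⟨⟨m, hmM⟩, hm1⟩ := (Subgroup.ne_bot_iff_exists_ne_one).mp hM1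
      have hm1' : m ≠ 1 := fun h => hm1 (Subtype.ext h)
      have hmB : (m : G) ∈ B := Subgroup.mem_subgroupOf.mp (hMle hmM)
      have hmP : ∀ x : (P : Subgroup G), (x : G) * (m : G) = (m : G) * (x : G) := by
        intro x
        have hx : x ∈ Subgroup.centralizer (M : Set (P : Subgroup G)) :=
          hcentM (Subgroup.mem_top x)
        have h1 := (Subgroup.mem_centralizer_iff.mp hx) m hmM
        have h2 := congrArg Subtype.val h1
        simpa using h2.symm
      have hmR : (m : G) ∈ B ⊓ Subgroup.centralizer (R : Set G) := by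
        refine Subgroup.mem_inf.mpr ⟨hmB, ?_⟩
        rw [Subgroup.mem_centralizer_iff]
        intro r hr
        have hr' : QuotientGroup.mk' C r ∈ Rb := hr
        obtain ⟨x, hx, hxr⟩ := Subgroup.mem_map.mp (hRP hr')
        have hc : x⁻¹ * r ∈ C := QuotientGroup.eq.mp hxr
        have h2 : (m : G) * (x⁻¹ * r) = (x⁻¹ * r) * (m : G) :=
          Subgroup.mem_centralizer_iff.mp hc (m : G) hmB
        have h3 : x * (m : G) = (m : G) * x := hmP ⟨x, hx⟩
        calc r * (m : G) = x * ((x⁻¹ * r) * (m : G)) := by group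
          _ = x * ((m : G) * (x⁻¹ * r)) := by rw [← h2]
          _ = (x * (m : G)) * (x⁻¹ * r) := by group
          _ = ((m : G) * x) * (x⁻¹ * r) := by rw [h3]
          _ = (m : G) * r := by group
      rw [hB1, Subgroup.mem_bot] at hmR
      exact hm1' (Subtype.ext hmR)
    have hRK : Rb ≤ Kp.map (QuotientGroup.mk' C) := by
      apply le_of_coprime_index
      obtain ⟨j, hj⟩ := IsPGroup.iff_card.mp hRbq
      rw [hj]
      have h1 : (Kp.map (QuotientGroup.mk' C)).index ∣ p ^ (Nat.card G).factorization p := by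
        rw [← hKpidx]; exact Subgroup.index_map_dvd Kp hπ
      apply Nat.Coprime.coprime_dvd_right h1
      exact Nat.Coprime.pow _ _ ((Nat.coprime_primes hq hp).mpr hqp)
    rw [eq_bot_iff]
    intro x hx
    obtain ⟨hxB, hxD⟩ := Subgroup.mem_inf.mp hx
    have hxN : x ∈ Subgroup.normalizer (Kp : Set G) := by
      unfold Cfsg.systemNormalizer at hxD
      exact (Subgroup.mem_iInf.mp hxD) ⟨p, hp⟩
    have hxc := hcent x hxB hxN
    have hxR : x ∈ B ⊓ Subgroup.centralizer (R : Set G) := by
      refine Subgroup.mem_inf.mpr ⟨hxB, ?_⟩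
      rw [Subgroup.mem_centralizer_iff]
      intro r hr
      have hr' : QuotientGroup.mk' C r ∈ Rb := hr
      obtain ⟨k, hk, hkr⟩ := Subgroup.mem_map.mp (hRK hr')
      have hc : k⁻¹ * r ∈ C := QuotientGroup.eq.mp hkr
      have h2 : x * (k⁻¹ * r) = (k⁻¹ * r) * x := Subgroup.mem_centralizer_iff.mp hc x hxB
      calc r * x = k * ((k⁻¹ * r) * x) := by group
        _ = k * (x * (k⁻¹ * r)) := by rw [← h2]
        _ = (k * x) * (k⁻¹ * r) := by group
        _ = (x * k) * (k⁻¹ * r) := by rw [hxc k hk]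
        _ = x * r := by group
    rw [hB1] at hxR
    exact hxR

/-- Let D be the system normalizer of a Hall complement system of a finite solvable group G, and let A < B be normal subgroups with no normal subgroup of G strictly between them (a chief factor). If G centralizes B modulo A then B ≤ A ⊔ D (D covers the factor); otherwise B ∩ D ≤ A (D avoids it). -/
theorem result {G : Type*} [Group G] [Finite G] [Group.IsSolvable G] (K : Nat.Primes → Subgroup G) (hK : Cfsg.IsComplementSystem K) (A B : Subgroup G) [A.Normal] [B.Normal] (hAB : A < B) (hchief : ∀ N : Subgroup G, N.Normal → A ≤ N → N ≤ B → N = A ∨ N = B) : (⁅B, (⊤ : Subgroup G)⁆ ≤ A → B ≤ A ⊔ Cfsg.systemNormalizer K) ∧ (¬ ⁅B, (⊤ : Subgroup G)⁆ ≤ A → B ⊓ Cfsg.systemNormalizer K ≤ A) := by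
  classical
  have hsurj : Function.Surjective (QuotientGroup.mk' A) := QuotientGroup.mk'_surjective A
  have hker : (QuotientGroup.mk' A).ker = A := QuotientGroup.ker_mk' A
  obtain ⟨hKbar, hDbar⟩ := Cfsg.Agent.S0545.result K hK A
  set π := QuotientGroup.mk' A with hπ
  set Bb := B.map π with hBb
  haveI hBbn : Bb.Normal := Subgroup.Normal.map inferInstance π hsurj
  have hBb1 : Bb ≠ ⊥ := by
    intro h
    apply hAB.not_ge
    rw [hBb, Subgroup.map_eq_bot_iff, hker] at h
    exact h
  have hBbmin : ∀ N : Subgroup (G ⧸ A), N.Normal → N ≤ Bb → N = ⊥ ∨ N = Bb := by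
    intro N hN hNle
    have h1 : N.comap π ≤ B := by
      have h0 : N.comap π ≤ Bb.comap π := Subgroup.comap_mono hNle
      rw [hBb, Subgroup.comap_map_eq, hker, sup_eq_left.mpr hAB.le] at h0
      exact h0
    have h2 : A ≤ N.comap π := by
      have h0 := Subgroup.ker_le_comap π N
      rwa [hker] at h0
    rcases hchief (N.comap π) (hN.comap π) h2 h1 with h | h
    · left
      rw [← Subgroup.map_comap_eq_self_of_surjective hsurj N, h]
      exact (Subgroup.map_eq_bot_iff _).mpr hker.ge
    · right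
      rw [← Subgroup.map_comap_eq_self_of_surjective hsurj N, h]
  have hcentral_iff : (⁅B, (⊤ : Subgroup G)⁆ ≤ A) ↔
      (∀ b ∈ Bb, ∀ g : G ⧸ A, b * g = g * b) := by
    constructor
    · intro h b hb g
      obtain ⟨b0, hb0, rfl⟩ := Subgroup.mem_map.mp hb
      obtain ⟨g0, rfl⟩ := hsurj g
      have h1 : ⁅b0, g0⁆ ∈ A :=
        h (Subgroup.commutator_mem_commutator hb0 (Subgroup.mem_top g0))
      have h2 : π ⁅b0, g0⁆ = 1 := by rw [← MonoidHom.mem_ker, hker]; exact h1
      rw [map_commutatorElement, commutatorElement_eq_one_iff_mul_comm] at h2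
      exact h2
    · intro h
      rw [Subgroup.commutator_le]
      intro b hb g _
      have h3 : ⁅b, g⁆ ∈ π.ker := by
        rw [MonoidHom.mem_ker, map_commutatorElement,
          commutatorElement_eq_one_iff_mul_comm]
        exact h (π b) (Subgroup.mem_map_of_mem π hb) (π g)
      rwa [hker] at h3
  obtain ⟨hc1, hc2⟩ := core (fun p => (K p).map π) hKbar Bb hBb1 hBbmin
  constructor
  · intro h
    have h1 := hc1 (hcentral_iff.mp h)
    rw [hDbar] at h1
    intro b hb
    have h2 : π b ∈ (Cfsg.systemNormalizer K).map π := h1 (Subgroup.mem_map_of_mem π hb)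
    obtain ⟨d, hd, hdb⟩ := Subgroup.mem_map.mp h2
    have h3 : d⁻¹ * b ∈ A := QuotientGroup.eq.mp hdb
    have h4 : b = d * (d⁻¹ * b) := by group
    rw [h4]
    exact mul_mem (Subgroup.mem_sup_right hd) (Subgroup.mem_sup_left h3)
  · intro h
    have h1 := hc2 (fun h' => h (hcentral_iff.mpr h'))
    rw [hDbar] at h1
    intro x hx
    obtain ⟨hxB, hxD⟩ := Subgroup.mem_inf.mp hx
    have h2 : π x ∈ Bb ⊓ (Cfsg.systemNormalizer K).map π :=
      Subgroup.mem_inf.mpr ⟨Subgroup.mem_map_of_mem π hxB, Subgroup.mem_map_of_mem π hxD⟩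
    rw [h1, Subgroup.mem_bot] at h2
    have h3 : x ∈ π.ker := h2
    rwa [hker] at h3

end Cfsg.Agent.S0568
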