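import Cfsg.Statements.S0589
import Mathlib
import Cfsg.Agent.Lib.Helper2.Conj

set_option autoImplicit false
open Cfsg
open Pointwise

namespace Cfsg.Agent.S0589
set_option linter.style.haveILetI false
set_option linter.deprecated false

universe u v

section general
variable {L : Type u} {X : Type v} [Group L] [MulAction L X]

/-- The points with trivial stabilizer form a sub-action. -/
def regPts (L : Type u) (X : Type v) [Group L] [MulAction L X] : SubMulAction L X where
  carrier := {ω | MulAction.stabilizer L ω = ⊥}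
  smul_mem' := by
    intro x ω h
    simp only [Set.mem_setOf_eq] at h ⊢
    rw [MulAction.stabilizer_smul_eq_stabilizer_map_conj, h, Subgroup.map_bot]

theorem card_dvd_of_free [Finite L] [Finite X]
    (hfree : ∀ (x : L) (ω : X), x • ω = ω → x = 1) : Nat.card L ∣ Nat.card X := by
  classical
  haveI := Fintype.ofFinite L
  haveI := Fintype.ofFinite X
  have h := MulAction.sum_card_fixedBy_eq_card_orbits_mul_card_group L X
  rw [Finset.sum_eq_single (1 : L)] at h
  · simp only [← Nat.card_eq_fintype_card] at h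
    rw [MulAction.fixedBy_one_eq_univ, Nat.card_coe_set_eq, Set.ncard_univ] at h
    rw [h]
    exact dvd_mul_left _ _
  · intro x _ hx
    rw [← Nat.card_eq_fintype_card, Nat.card_coe_set_eq]
    have : MulAction.fixedBy X x = ∅ := by
      apply Set.eq_empty_of_forall_notMem
      intro ω hω
      exact hx (hfree x ω hω)
    rw [this, Set.ncard_empty]
  · intro h1
    exact absurd (Finset.mem_univ _) h1

theorem card_reg_dvd [Finite L] [Finite X] :
    Nat.card L ∣ {ω : X | MulAction.stabilizer L ω = ⊥}.ncard := by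
  have h1 : Nat.card L ∣ Nat.card (regPts L X) := by
    apply card_dvd_of_free
    intro x ω h
    have h1 : x ∈ MulAction.stabilizer L (ω : X) := by
      rw [MulAction.mem_stabilizer_iff]
      have h2 := congrArg Subtype.val h
      simpa using h2
    have h2 : MulAction.stabilizer L (ω : X) = ⊥ := ω.2
    rw [h2, Subgroup.mem_bot] at h1
    exact h1
  have h2 : Nat.card (regPts L X) = {ω : X | MulAction.stabilizer L ω = ⊥}.ncard :=
    Nat.card_coe_set_eq {ω : X | MulAction.stabilizer L ω = ⊥}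
  rwa [h2] at h1

theorem exists_fixed_point [Finite L] [Finite X] [Nonempty X]
    (huniq : ∀ x : L, x ≠ 1 → ∀ ω ω' : X, x • ω = ω → x • ω' = ω' → ω = ω')
    (hmod : Nat.card X ≡ 1 [MOD Nat.card L]) : ∃ ω : X, ∀ x : L, x • ω = ω := by
  classical
  by_cases hL1 : Nat.card L = 1
  · obtain ⟨ω⟩ := ‹Nonempty X›
    refine ⟨ω, fun x => ?_⟩
    have hx : x = 1 := by
      haveI := (Nat.card_eq_one_iff_unique.mp hL1).1
      exact Subsingleton.elim _ _
    rw [hx, one_smul]
  have hL2 : 2 ≤ Nat.card L := by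
    have := Nat.card_pos (α := L)
    omega
  set R : Set X := {ω | MulAction.stabilizer L ω = ⊥} with hR
  have hRcard : Nat.card L ∣ R.ncard := card_reg_dvd
  have hsum : R.ncard + Rᶜ.ncard = Nat.card X := Set.ncard_add_ncard_compl R
  have hTlt : Rᶜ.ncard < Nat.card L := by
    have hex : ∀ ω : (Rᶜ : Set X), ∃ x : L, x ≠ 1 ∧ x • (ω : X) = ω := by
      intro ω
      have h1 : MulAction.stabilizer L (ω : X) ≠ ⊥ := ω.2
      obtain ⟨⟨x, hx⟩, hx1⟩ := (Subgroup.ne_bot_iff_exists_ne_one).mp h1
      exact ⟨x, fun h => hx1 (Subtype.ext h), hx⟩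
    choose f hf1 hf2 using hex
    have hinj : Function.Injective f := by
      intro ω ω' h
      apply Subtype.ext
      exact huniq (f ω) (hf1 ω) _ _ (hf2 ω) (h ▸ hf2 ω')
    haveI := Fintype.ofFinite L
    haveI := Fintype.ofFinite (Rᶜ : Set X)
    have h1 : (1 : L) ∉ Set.range f := by
      rintro ⟨ω, hω⟩
      exact hf1 ω hω
    have h2 := Fintype.card_lt_of_injective_of_notMem f hinj h1
    rw [← Nat.card_eq_fintype_card, ← Nat.card_eq_fintype_card, Nat.card_coe_set_eq] at h2
    exact h2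
  have hTmod : Rᶜ.ncard % Nat.card L = 1 % Nat.card L := by
    have h1 := hmod
    unfold Nat.ModEq at h1
    rw [← hsum] at h1
    obtain ⟨c, hc⟩ := hRcard
    rw [hc, Nat.mul_add_mod] at h1
    exact h1
  rw [Nat.mod_eq_of_lt hTlt, Nat.mod_eq_of_lt (by omega)] at hTmod
  obtain ⟨ω, hω⟩ := Set.ncard_eq_one.mp hTmod
  refine ⟨ω, fun x => ?_⟩
  have hωT : ω ∈ Rᶜ := by rw [hω]; exact Set.mem_singleton ω
  have hxT : x • ω ∈ Rᶜ := by
    rw [Set.mem_compl_iff] at hωT ⊢
    intro h
    apply hωT
    show MulAction.stabilizer L ω = ⊥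
    have h' : MulAction.stabilizer L (x • ω) = ⊥ := h
    rw [MulAction.stabilizer_smul_eq_stabilizer_map_conj] at h'
    exact (Subgroup.map_eq_bot_iff_of_injective _ (MulAut.conj x).injective).mp h'
  rw [hω] at hxT
  exact hxT

end general

/-- Let H be a Frobenius complement in a finite group G and L a subgroup of G whose order divides the order of H. Then L is contained in some conjugate of H. -/
theorem result {G : Type*} [Group G] [Finite G] (H : Subgroup G) (hH : Cfsg.IsFrobeniusComplement H) (L : Subgroup G) (hL : Nat.card L ∣ Nat.card H) : ∃ x : G, L ≤ MulAut.conj x • H := by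
  classical
  obtain ⟨hHbot, hHtop, hfrob⟩ := hH
  haveI : Nonempty (G ⧸ H) := ⟨((1 : G) : G ⧸ H)⟩
  have hfix : ∀ (g a : G), g • (a : G ⧸ H) = (a : G ⧸ H) ↔ a⁻¹ * g * a ∈ H := by
    intro g a
    rw [MulAction.Quotient.smul_coe, smul_eq_mul, eq_comm, QuotientGroup.eq, mul_assoc]
  have huniqG : ∀ g : G, g ≠ 1 → ∀ ω ω' : G ⧸ H, g • ω = ω → g • ω' = ω' → ω = ω' := by
    intro g hg ω ω'
    refine QuotientGroup.induction_on ω ?_
    intro a
    refine QuotientGroup.induction_on ω' ?_
    intro b h1 h2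
    rw [hfix] at h1 h2
    by_contra hne
    have hc : a⁻¹ * b ∉ H := fun h => hne (QuotientGroup.eq.mpr h)
    have h3 := hfrob (a⁻¹ * b) hc
    have h4 : a⁻¹ * g * a ∈ H ⊓ MulAut.conj (a⁻¹ * b) • H := by
      have h5 : (a⁻¹ * b)⁻¹ * (a⁻¹ * g * a) * (a⁻¹ * b) = b⁻¹ * g * b := by group
      have h6 : a⁻¹ * g * a ∈ MulAut.conj (a⁻¹ * b) • H := by
        rw [Cfsg.Agent.Lib.Helper2.mem_conj_smul_iff, h5]; exact h2
      exact Subgroup.mem_inf.mpr ⟨h1, h6⟩
    rw [h3, Subgroup.mem_bot] at h4
    apply hg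
    have h6 : g = a * (a⁻¹ * g * a) * a⁻¹ := by group
    rw [h6, h4]; group
  have hmodH : Nat.card (G ⧸ H) ≡ 1 [MOD Nat.card H] := by
    set R : Set (G ⧸ H) := {ω | MulAction.stabilizer H ω = ⊥} with hR
    have hRcard : Nat.card H ∣ R.ncard := card_reg_dvd (L := H) (X := G ⧸ H)
    have hpt : ∀ x ∈ H, x • ((1 : G) : G ⧸ H) = ((1 : G) : G ⧸ H) := by
      intro x hx
      rw [hfix]; simpa using hx
    have hRc : Rᶜ = {((1 : G) : G ⧸ H)} := by
      ext ω
      rw [Set.mem_compl_iff, Set.mem_singleton_iff]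
      constructor
      · intro h
        by_contra hne
        apply h
        show MulAction.stabilizer H ω = ⊥
        rw [eq_bot_iff]
        intro x hx
        rw [MulAction.mem_stabilizer_iff] at hx
        have hx' : (x : G) • ω = ω := hx
        rw [Subgroup.mem_bot]
        by_contra hx1
        have hx1' : (x : G) ≠ 1 := fun h => hx1 (Subtype.ext h)
        exact hne (huniqG (x : G) hx1' ω _ hx' (hpt x x.2))
      · rintro rfl h
        have h' : MulAction.stabilizer H (((1 : G) : G ⧸ H)) = ⊥ := h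
        apply hHbot
        rw [eq_bot_iff]
        intro x hx
        have h7 : (⟨x, hx⟩ : H) ∈ MulAction.stabilizer H (((1 : G) : G ⧸ H)) := by
          rw [MulAction.mem_stabilizer_iff]
          exact hpt x hx
        rw [h', Subgroup.mem_bot] at h7
        rw [Subgroup.mem_bot]
        exact congrArg Subtype.val h7
    have hsum := Set.ncard_add_ncard_compl R
    rw [hRc, Set.ncard_singleton] at hsum
    obtain ⟨c, hc⟩ := hRcard
    unfold Nat.ModEq
    rw [← hsum, hc, Nat.mul_add_mod]
  have hmodL : Nat.card (G ⧸ H) ≡ 1 [MOD Nat.card L] := Nat.ModEq.of_dvd hL hmodH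
  obtain ⟨ω, hω⟩ := exists_fixed_point (L := L) (X := G ⧸ H)
    (fun x hx ω ω' h1 h2 => huniqG (x : G) (fun h => hx (Subtype.ext h)) ω ω' h1 h2) hmodL
  revert hω
  refine QuotientGroup.induction_on ω ?_
  intro a hω
  refine ⟨a, fun x hx => ?_⟩
  rw [Cfsg.Agent.Lib.Helper2.mem_conj_smul_iff]
  have h8 : x • (a : G ⧸ H) = (a : G ⧸ H) := hω ⟨x, hx⟩
  exact (hfix x a).mp h8

end Cfsg.Agent.S0589
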