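import Cfsg.Statements.S0769
import Mathlib

set_option autoImplicit false
set_option linter.style.haveILetI false
open Cfsg

namespace Cfsg.Agent.S0769

/-- the entry constraint -/
def entryP {F : Type*} [Field F] {n : ℕ} (i j : Fin n) (x : F) : Prop :=
  (i < j → x = 0) ∧ (i = j → x ≠ 0)

theorem det_ne_zero_iff {F : Type*} [Field F] {n : ℕ} (M : Matrix (Fin n) (Fin n) F)
    (hlow : ∀ i j : Fin n, i < j → M i j = 0) : M.det ≠ 0 ↔ ∀ i, M i i ≠ 0 := by
  have h : M.IsLowerTriangular := by
    intro i j hij
    exact hlow i j hij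
  rw [Matrix.det_of_isLowerTriangular M h, Finset.prod_ne_zero_iff]
  simp

noncomputable def borelEquiv (F : Type*) [Field F] (n : ℕ) :
    {g : Matrix.GeneralLinearGroup (Fin n) F // ∀ i j : Fin n, i < j → (g : Matrix (Fin n) (Fin n) F) i j = 0} ≃
    (∀ i j : Fin n, {x : F // entryP i j x}) where
  toFun g := fun i j => ⟨(g.1 : Matrix (Fin n) (Fin n) F) i j, ⟨fun h => g.2 i j h, fun h => by
    subst h
    exact (det_ne_zero_iff _ g.2).1 (Matrix.GeneralLinearGroup.det_ne_zero g.1) i⟩⟩
  invFun f := ⟨Matrix.GeneralLinearGroup.mkOfDetNeZero (Matrix.of fun i j => (f i j).1)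
      ((det_ne_zero_iff _ (fun i j h => (f i j).2.1 h)).2 (fun i => (f i i).2.2 rfl)),
    fun i j h => (f i j).2.1 h⟩
  left_inv g := by
    apply Subtype.ext
    apply Matrix.GeneralLinearGroup.ext
    intro i j
    rfl
  right_inv f := by
    funext i j
    apply Subtype.ext
    rfl

theorem card_entry {F : Type*} [Field F] [Fintype F] [DecidableEq F] {n : ℕ} (i j : Fin n) :
    Nat.card {x : F // entryP i j x} =
      (if j = i then Fintype.card F - 1 else 1) * (if j < i then Fintype.card F else 1) := by
  rcases lt_trichotomy i j with h | h | h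
  · have h1 : ¬ j = i := fun h' => by rw [h'] at h; exact lt_irrefl _ h
    have h2 : ¬ j < i := not_lt.2 h.le
    rw [if_neg h1, if_neg h2, mul_one]
    have : ∀ x : F, entryP i j x ↔ x = 0 := by
      intro x
      constructor
      · intro hx; exact hx.1 h
      · intro hx; exact ⟨fun _ => hx, fun h' => absurd h'.symm h1⟩
    rw [Nat.card_congr (Equiv.subtypeEquivRight this)]
    simp
  · subst h
    rw [if_pos rfl, if_neg (lt_irrefl _), mul_one]
    have : ∀ x : F, entryP i i x ↔ x ≠ 0 := by
      intro x
      constructor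
      · intro hx; exact hx.2 rfl
      · intro hx; exact ⟨fun h' => absurd h' (lt_irrefl _), fun _ => hx⟩
    rw [Nat.card_congr (Equiv.subtypeEquivRight this), Nat.card_eq_fintype_card,
      Fintype.card_subtype_compl, Fintype.card_subtype_eq]
  · have h1 : ¬ j = i := fun h' => by rw [h'] at h; exact lt_irrefl _ h
    rw [if_neg h1, if_pos h, one_mul]
    have : ∀ x : F, entryP i j x ↔ True := by
      intro x
      constructor
      · intro _; trivial
      · intro _; exact ⟨fun h' => absurd h (not_lt.2 h'.le), fun h' => absurd h'.symm h1⟩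
    rw [Nat.card_congr (Equiv.subtypeEquivRight this), Nat.card_congr (Equiv.subtypeUnivEquiv (fun _ => trivial)),
      Nat.card_eq_fintype_card]

/-- Order of the Borel subgroup of GL_n(q): the invertible lower-triangular n × n matrices over a field with q elements number q^(n(n-1)/2) (q-1)^n (unitriangular part times the diagonal torus). -/
theorem result {F : Type*} [Field F] [Fintype F] {q : ℕ} (hF : Fintype.card F = q) (n : ℕ) : Nat.card {g : Matrix.GeneralLinearGroup (Fin n) F // ∀ i j : Fin n, i < j → (g : Matrix (Fin n) (Fin n) F) i j = 0} = q ^ (n * (n - 1) / 2) * (q - 1) ^ n := by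
  classical
  subst hF
  rw [Nat.card_congr (borelEquiv F n), Nat.card_pi]
  simp_rw [Nat.card_pi, card_entry]
  have hrow : ∀ i : Fin n, ∏ j : Fin n, ((if j = i then Fintype.card F - 1 else 1) * (if j < i then Fintype.card F else 1))
      = (Fintype.card F - 1) * Fintype.card F ^ (i : ℕ) := by
    intro i
    rw [Finset.prod_mul_distrib, Finset.prod_ite_eq' Finset.univ i (fun _ => Fintype.card F - 1), if_pos (Finset.mem_univ _),
      Finset.prod_ite, Finset.prod_const_one, mul_one, Finset.prod_const]
    congr 2
    rw [← Fin.card_Iio i]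
    congr 1
    ext j
    simp
  simp_rw [hrow]
  rw [Finset.prod_mul_distrib, Finset.prod_const, Finset.prod_pow_eq_pow_sum, Finset.card_univ, Fintype.card_fin,
    Fin.sum_univ_eq_sum_range (fun i => i) n, Finset.sum_range_id, mul_comm]

end Cfsg.Agent.S0769
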