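import Cfsg.Statements.S0779
import Mathlib

set_option autoImplicit false
set_option linter.style.haveILetI false
open Cfsg

namespace Cfsg.Agent.S0779

open Matrix

section
set_option linter.unusedSectionVars false
variable {F : Type*} [Field F] [Fintype F] {q : ℕ}

/-- `q` is a power of the characteristic. -/
theorem exists_char_pow (hF : Fintype.card F = q ^ 2) :
    ∃ (p : ℕ) (_ : CharP F p) (_ : Fact p.Prime) (j : ℕ), q = p ^ j := by
  obtain ⟨p, hc, k, hp, hk⟩ := FiniteField.card' F
  have hq : q ∣ p ^ (k : ℕ) := by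
    rw [← hk, hF]; exact dvd_pow_self q (by norm_num)
  obtain ⟨j, -, hj⟩ := (Nat.dvd_prime_pow hp).1 hq
  exact ⟨p, hc, ⟨hp⟩, j, hj⟩

theorem add_pow_q (hF : Fintype.card F = q ^ 2) (a b : F) : (a + b) ^ q = a ^ q + b ^ q := by
  obtain ⟨p, hc, hp, j, rfl⟩ := exists_char_pow hF
  exact add_pow_char_pow a b p j

theorem sum_pow_q (hF : Fintype.card F = q ^ 2) {ι : Type*} (s : Finset ι) (f : ι → F) :
    (∑ i ∈ s, f i) ^ q = ∑ i ∈ s, f i ^ q := by
  obtain ⟨p, hc, hp, j, rfl⟩ := exists_char_pow hF
  exact sum_pow_char_pow _ _ s f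

theorem pow_q_q (hF : Fintype.card F = q ^ 2) (a : F) : (a ^ q) ^ q = a := by
  rw [← pow_mul, ← sq, ← hF, FiniteField.pow_card]

variable (n : ℕ)

theorem herm_add_left (x y z : Fin n → F) :
    Cfsg.hermForm n F q (x + y) z = Cfsg.hermForm n F q x z + Cfsg.hermForm n F q y z := by
  unfold Cfsg.hermForm
  rw [← Finset.sum_add_distrib]
  apply Finset.sum_congr rfl
  intro i _
  simp only [Pi.add_apply]
  ring

theorem herm_smul_left (a : F) (x z : Fin n → F) :
    Cfsg.hermForm n F q (a • x) z = a * Cfsg.hermForm n F q x z := by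
  unfold Cfsg.hermForm
  rw [Finset.mul_sum]
  apply Finset.sum_congr rfl
  intro i _
  simp only [Pi.smul_apply, smul_eq_mul]
  ring

theorem herm_add_right (hF : Fintype.card F = q ^ 2) (x y z : Fin n → F) :
    Cfsg.hermForm n F q x (y + z) = Cfsg.hermForm n F q x y + Cfsg.hermForm n F q x z := by
  unfold Cfsg.hermForm
  rw [← Finset.sum_add_distrib]
  apply Finset.sum_congr rfl
  intro i _
  simp only [Pi.add_apply]
  rw [add_pow_q hF]
  ring

theorem herm_smul_right (a : F) (x z : Fin n → F) :
    Cfsg.hermForm n F q x (a • z) = a ^ q * Cfsg.hermForm n F q x z := by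
  unfold Cfsg.hermForm
  rw [Finset.mul_sum]
  apply Finset.sum_congr rfl
  intro i _
  simp only [Pi.smul_apply, smul_eq_mul]
  rw [mul_pow]
  ring

theorem herm_pow_q (hF : Fintype.card F = q ^ 2) (x y : Fin n → F) :
    (Cfsg.hermForm n F q x y) ^ q = Cfsg.hermForm n F q y x := by
  unfold Cfsg.hermForm
  rw [sum_pow_q hF]
  apply Finset.sum_congr rfl
  intro i _
  rw [mul_pow, pow_q_q hF, mul_comm]

theorem transvection_mulVec (v x : Fin n → F) (c : F) :
    (Cfsg.unitaryTransvection n q v c).mulVec x = x + (c * Cfsg.hermForm n F q x v) • v := by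
  unfold Cfsg.unitaryTransvection
  rw [Matrix.add_mulVec, Matrix.one_mulVec, Matrix.smul_mulVec, Matrix.vecMulVec_mulVec]
  have : (fun j => v j ^ q) ⬝ᵥ x = Cfsg.hermForm n F q x v := by
    unfold Cfsg.hermForm dotProduct
    apply Finset.sum_congr rfl
    intro i _
    ring
  rw [this]
  ext i
  simp only [Pi.smul_apply, Pi.add_apply, MulOpposite.smul_eq_mul_unop, MulOpposite.unop_op,
    smul_eq_mul]
  ring

theorem key (hF : Fintype.card F = q ^ 2) (v : Fin n → F) (hv0 : Cfsg.hermForm n F q v v = 0)
    (c : F) (x y : Fin n → F) :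
    Cfsg.hermForm n F q ((Cfsg.unitaryTransvection n q v c).mulVec x)
      ((Cfsg.unitaryTransvection n q v c).mulVec y)
    = Cfsg.hermForm n F q x y
      + (c ^ q + c) * (Cfsg.hermForm n F q x v * Cfsg.hermForm n F q v y) := by
  rw [transvection_mulVec, transvection_mulVec]
  simp only [herm_add_left, herm_add_right n hF, herm_smul_left, herm_smul_right, hv0, mul_pow,
    herm_pow_q n hF]
  ring

end

/-- Unitary transvections: let |F| = q², h the standard Hermitian form Σ x_i y_i^q and v ≠ 0 with h(v, v) = 0. The linear map x ↦ x + c h(x, v) v is an isometry of h if and only if c = 0 or c^(q−1) = −1. -/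
theorem result {F : Type*} [Field F] [Fintype F] {q : ℕ} (hF : Fintype.card F = q ^ 2) (n : ℕ) (v : Fin n → F) (hv : v ≠ 0) (hv0 : Cfsg.hermForm n F q v v = 0) (c : F) : (∀ x y : Fin n → F, Cfsg.hermForm n F q ((Cfsg.unitaryTransvection n q v c).mulVec x) ((Cfsg.unitaryTransvection n q v c).mulVec y) = Cfsg.hermForm n F q x y) ↔ (c = 0 ∨ c ^ (q - 1) = -1) := by
  have hq : 1 ≤ q := by
    by_contra h
    have : q = 0 := by omega
    rw [this] at hF
    have := Fintype.one_lt_card (α := F)
    rw [hF] at this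
    norm_num at this
  have hcq : c ^ q = c * c ^ (q - 1) := by
    rw [← pow_succ', Nat.sub_add_cancel hq]
  constructor
  · intro h
    obtain ⟨i, hi⟩ : ∃ i, v i ≠ 0 := by
      by_contra hcon
      push Not at hcon
      exact hv (funext hcon)
    have h1 := h (Pi.single i 1) (Pi.single i 1)
    rw [key n hF v hv0] at h1
    have h2 : Cfsg.hermForm n F q (Pi.single i 1) v = v i ^ q := by
      unfold Cfsg.hermForm
      rw [Finset.sum_eq_single i]
      · simp
      · intro j _ hji
        simp [Pi.single_eq_of_ne hji]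
      · intro hi'
        exact absurd (Finset.mem_univ i) hi'
    have h3 : Cfsg.hermForm n F q v (Pi.single i 1) = v i := by
      unfold Cfsg.hermForm
      rw [Finset.sum_eq_single i]
      · simp
      · intro j _ hji
        have : q ≠ 0 := by omega
        simp [Pi.single_eq_of_ne hji, this]
      · intro hi'
        exact absurd (Finset.mem_univ i) hi'
    rw [h2, h3] at h1
    have h4 : (c ^ q + c) * (v i ^ q * v i) = 0 := by
      have := h1
      rwa [add_eq_left] at this
    have h5 : v i ^ q * v i ≠ 0 := mul_ne_zero (pow_ne_zero _ hi) hi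
    have h6 : c ^ q + c = 0 := (mul_eq_zero.1 h4).resolve_right h5
    rw [hcq] at h6
    have h7 : c * (c ^ (q - 1) + 1) = 0 := by rw [← h6]; ring
    rcases mul_eq_zero.1 h7 with h8 | h8
    · exact Or.inl h8
    · exact Or.inr (eq_neg_of_add_eq_zero_left h8)
  · intro h x y
    rw [key n hF v hv0]
    have : c ^ q + c = 0 := by
      rcases h with h | h
      · rw [h, zero_pow (by omega), add_zero]
      · rw [hcq, h]; ring
    rw [this, zero_mul, add_zero]

end Cfsg.Agent.S0779
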