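import Cfsg.Statements.S2569
import Mathlib

set_option autoImplicit false
open Cfsg

namespace Cfsg.Agent.S2569


open Polynomial Module

theorem exists_commuting_det {F V : Type*} [Field F] [Finite F] [AddCommGroup V] [Module F V]
    [FiniteDimensional F V] [Nontrivial V] (A : Module.End F V) {k : ℕ} (hk : (k : F) ≠ 0)
    (hAk : A ^ k = 1) (z : F) :
    ∃ c : Module.End F V, c * A = A * c ∧ LinearMap.det c = z := by
  classical
  have hss : A.IsSemisimple := by
    apply Module.End.isSemisimple_of_squarefree_aeval_eq_zero (p := X ^ k - 1)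
    · exact (X_pow_sub_one_separable_iff.2 hk).squarefree
    · rw [map_sub, map_pow, aeval_X, map_one, hAk, sub_self]
  have hex : ∃ d : ℕ, ∃ W : Submodule F V, W ∈ A.invtSubmodule ∧ W ≠ ⊥ ∧ finrank F W = d :=
    ⟨_, ⊤, by simp [Module.End.mem_invtSubmodule], top_ne_bot, rfl⟩
  obtain ⟨W, hWinv, hW0, hWd⟩ := Nat.find_spec hex
  have hWmin : ∀ W' : Submodule F V, W' ∈ A.invtSubmodule → W' ≠ ⊥ →
      finrank F W ≤ finrank F W' := by
    intro W' h1 h2
    rw [hWd]
    exact Nat.find_min' hex ⟨W', h1, h2, rfl⟩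
  obtain ⟨W', hW'inv, hcompl⟩ := (Module.End.isSemisimple_iff.1 hss) W hWinv
  obtain ⟨B, hB⟩ : ∃ B : Module.End F W, B = A.restrict hWinv := ⟨_, rfl⟩
  obtain ⟨B', hB'⟩ : ∃ B' : Module.End F W', B' = A.restrict hW'inv := ⟨_, rfl⟩
  have hBcoe : ∀ w : W, ((B w : W) : V) = A (w : V) := by
    intro w; rw [hB]; rfl
  have hB'coe : ∀ w : W', ((B' w : W') : V) = A (w : V) := by
    intro w; rw [hB']; rfl
  have hirrW : ∀ U : Submodule F W, (∀ u ∈ U, B u ∈ U) → U = ⊥ ∨ U = ⊤ := by
    intro U hU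
    by_cases hU0 : U = ⊥
    · exact Or.inl hU0
    · right
      have h1 : U.map W.subtype ∈ A.invtSubmodule := by
        rw [Module.End.mem_invtSubmodule]
        rintro _ ⟨u, hu, rfl⟩
        rw [Submodule.mem_comap]
        exact ⟨B u, hU u hu, hBcoe u⟩
      have h2 : U.map W.subtype ≠ ⊥ := by
        obtain ⟨u, hu, hu0⟩ := (Submodule.ne_bot_iff U).1 hU0
        rw [Submodule.ne_bot_iff]
        exact ⟨(u : V), ⟨u, hu, rfl⟩, fun h => hu0 (Submodule.coe_eq_zero.1 h)⟩
      have h3 := hWmin _ h1 h2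
      rw [Submodule.finrank_map_subtype_eq] at h3
      exact Submodule.eq_top_of_finrank_eq (le_antisymm (Submodule.finrank_le U) h3)
  haveI : Nontrivial W := by
    rw [Submodule.nontrivial_iff_ne_bot]; exact hW0
  obtain ⟨μ, hμ⟩ : ∃ μ : F[X], μ = minpoly F B := ⟨_, rfl⟩
  have hint : IsIntegral F B := Algebra.IsIntegral.isIntegral B
  have hmonic : μ.Monic := hμ ▸ minpoly.monic hint
  have haeval : aeval B μ = 0 := hμ ▸ minpoly.aeval F B
  have hmin : ∀ P : F[X], aeval B P = 0 → μ ∣ P := fun P hP => hμ ▸ minpoly.dvd F B hP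
  have hμ0 : μ ≠ 0 := hmonic.ne_zero
  have hcommB : ∀ c : F[X], (aeval B c) * B = B * (aeval B c) := by
    intro c
    calc (aeval B c) * B = aeval B (c * X) := by rw [map_mul, aeval_X]
      _ = aeval B (X * c) := by rw [mul_comm]
      _ = B * aeval B c := by rw [map_mul, aeval_X]
  have hker : ∀ c : F[X], ∀ u ∈ LinearMap.ker (aeval B c), B u ∈ LinearMap.ker (aeval B c) := by
    intro c u hu
    rw [LinearMap.mem_ker] at hu ⊢
    have h1 : (aeval B c) (B u) = ((aeval B c) * B) u := rfl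
    rw [h1, hcommB c, Module.End.mul_apply, hu, map_zero]
  have hirr : Irreducible μ := by
    rw [irreducible_iff]
    constructor
    · intro hu
      have h1 := hmonic.eq_one_of_isUnit hu
      rw [h1, map_one] at haeval
      exact one_ne_zero haeval
    · intro a b hab
      rcases hirrW (LinearMap.ker (aeval B a)) (hker a) with h | h
      · left
        have hb : aeval B b = 0 := by
          apply LinearMap.ext
          intro w
          have h1 : (aeval B b) w ∈ LinearMap.ker (aeval B a) := by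
            rw [LinearMap.mem_ker]
            have h2 : (aeval B a) ((aeval B b) w) = (aeval B (a * b)) w := by
              rw [map_mul]; rfl
            rw [h2, ← hab, haeval]; rfl
          rw [h] at h1
          exact (Submodule.mem_bot F).1 h1
        obtain ⟨c, hc⟩ := hmin b hb
        have h1 : μ * 1 = μ * (a * c) := by
          rw [mul_one]
          calc μ = a * b := hab
            _ = a * (μ * c) := by rw [hc]
            _ = μ * (a * c) := by ring
        have h2 := mul_left_cancel₀ hμ0 h1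
        exact isUnit_iff_exists_inv.2 ⟨c, h2.symm⟩
      · right
        have ha : aeval B a = 0 := by
          apply LinearMap.ext
          intro w
          have h1 : w ∈ LinearMap.ker (aeval B a) := by rw [h]; trivial
          exact LinearMap.mem_ker.1 h1
        obtain ⟨c, hc⟩ := hmin a ha
        have h1 : μ * 1 = μ * (b * c) := by
          rw [mul_one]
          calc μ = a * b := hab
            _ = (μ * c) * b := by rw [hc]
            _ = μ * (b * c) := by ring
        have h2 := mul_left_cancel₀ hμ0 h1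
        exact isUnit_iff_exists_inv.2 ⟨c, h2.symm⟩
  haveI : Fact (Irreducible μ) := ⟨hirr⟩
  haveI hfin : Module.Finite F (AdjoinRoot μ) := (AdjoinRoot.powerBasis hμ0).finite
  haveI : Finite (AdjoinRoot μ) := Module.finite_of_finite F
  have hkerμ : ∀ a ∈ Ideal.span {μ}, aeval B a = 0 := by
    intro a ha
    obtain ⟨c, rfl⟩ := Ideal.mem_span_singleton.1 ha
    rw [map_mul, haeval, zero_mul]
  let φ : AdjoinRoot μ →ₐ[F] Module.End F W :=
    Ideal.Quotient.liftₐ (Ideal.span {μ}) (aeval B) hkerμ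
  have hφmk : ∀ P : F[X], φ (AdjoinRoot.mk μ P) = aeval B P := fun P => rfl
  have hφroot : φ (AdjoinRoot.root μ) = B := by
    rw [← AdjoinRoot.mk_X, hφmk, aeval_X]
  obtain ⟨w₀, hw₀⟩ := exists_ne (0 : W)
  let T : AdjoinRoot μ →ₗ[F] W :=
    { toFun := fun l => φ l w₀
      map_add' := fun a b => by rw [map_add, LinearMap.add_apply]
      map_smul' := fun c a => by rw [map_smul, LinearMap.smul_apply, RingHom.id_apply] }
  have hTapp : ∀ l, T l = φ l w₀ := fun l => rfl
  have hTmul : ∀ l l', φ l (T l') = T (l * l') := by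
    intro l l'
    rw [hTapp, hTapp, map_mul]; rfl
  have hTinj : Function.Injective T := by
    rw [injective_iff_map_eq_zero]
    intro l hl
    by_contra hl0
    apply hw₀
    have h1 : φ l⁻¹ * φ l = 1 := by rw [← map_mul, inv_mul_cancel₀ hl0, map_one]
    have h2 : w₀ = (φ l⁻¹ * φ l) w₀ := by rw [h1]; rfl
    have h3 : (φ l⁻¹ * φ l) w₀ = φ l⁻¹ (T l) := rfl
    rw [h3, hl, map_zero] at h2
    exact h2
  have hTsurj : Function.Surjective T := by
    rw [← LinearMap.range_eq_top]
    rcases hirrW (LinearMap.range T) (by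
      rintro _ ⟨l, rfl⟩
      exact ⟨AdjoinRoot.root μ * l, by rw [← hTmul, hφroot]⟩) with h | h
    · exfalso
      apply hw₀
      have h1 : T 1 ∈ LinearMap.range T := ⟨1, rfl⟩
      rw [h] at h1
      have h2 : T 1 = w₀ := by rw [hTapp, map_one]; rfl
      rw [← h2]
      exact (Submodule.mem_bot F).1 h1
    · exact h
  let Te : AdjoinRoot μ ≃ₗ[F] W := LinearEquiv.ofBijective T ⟨hTinj, hTsurj⟩
  have hTe : ∀ l, Te l = T l := fun l => rfl
  obtain ⟨lam, hlam⟩ := FiniteField.norm_surjective F (AdjoinRoot μ) z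
  obtain ⟨cW, hcW⟩ : ∃ cW : Module.End F W, cW = φ lam := ⟨_, rfl⟩
  have hconj : cW = (Te : AdjoinRoot μ →ₗ[F] W) ∘ₗ (Algebra.lmul F (AdjoinRoot μ) lam) ∘ₗ
      (Te.symm : W →ₗ[F] AdjoinRoot μ) := by
    apply LinearMap.ext
    intro w
    obtain ⟨l, rfl⟩ := Te.surjective w
    rw [LinearMap.comp_apply, LinearMap.comp_apply, LinearEquiv.coe_coe, LinearEquiv.coe_coe,
      LinearEquiv.symm_apply_apply, hTe, hTe, hcW, hTmul]
    congr 1
  have hdetW : LinearMap.det cW = z := by
    rw [hconj, LinearMap.det_conj, ← Algebra.norm_apply, hlam]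
  have hcWB : cW * B = B * cW := by
    rw [hcW, ← hφroot, ← map_mul, ← map_mul, mul_comm]
  let e : (W × W') ≃ₗ[F] V := Submodule.prodEquivOfIsCompl W W' hcompl
  have he : ∀ y : W × W', e y = (y.1 : V) + (y.2 : V) := fun y => rfl
  obtain ⟨c, hc⟩ : ∃ c : Module.End F V, c = (e : (W × W') →ₗ[F] V) ∘ₗ
      (cW.prodMap (LinearMap.id : W' →ₗ[F] W')) ∘ₗ (e.symm : V →ₗ[F] W × W') := ⟨_, rfl⟩
  have hce : ∀ y : W × W', c (e y) = e (cW y.1, y.2) := by
    intro y
    rw [hc, LinearMap.comp_apply, LinearMap.comp_apply, LinearEquiv.coe_coe, LinearEquiv.coe_coe,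
      LinearEquiv.symm_apply_apply]
    rfl
  have hAe : ∀ y : W × W', A (e y) = e (B y.1, B' y.2) := by
    intro y
    rw [he, he, map_add, hBcoe, hB'coe]
  refine ⟨c, ?_, ?_⟩
  · apply LinearMap.ext
    intro v
    obtain ⟨y, rfl⟩ := e.surjective v
    rw [Module.End.mul_apply, Module.End.mul_apply, hAe, hce, hce, hAe]
    have h1 : cW (B y.1) = B (cW y.1) := by
      have := congrArg (fun f : Module.End F W => f y.1) hcWB
      exact this
    simp only [h1]
  · rw [hc, LinearMap.det_conj, LinearMap.det_prodMap, LinearMap.det_id, mul_one, hdetW]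

/-- In GL_n over a finite field of characteristic p, the conjugacy class of a semisimple element (an element of order prime to p) under the special linear group is its whole GL-conjugacy class: for every such x and every invertible g there is h of determinant one with h x h⁻¹ = g x g⁻¹. -/
theorem result {F : Type*} [Field F] [Fintype F] {p : ℕ} [Fact p.Prime] [CharP F p] {n : ℕ} (x g : GL (Fin n) F) (hx : (orderOf x).Coprime p) : ∃ h : GL (Fin n) F, (h : Matrix (Fin n) (Fin n) F).det = 1 ∧ h * x * h⁻¹ = g * x * g⁻¹ := by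
  classical
  rcases Nat.eq_zero_or_pos n with hn | hn
  · subst hn
    exact ⟨g, Matrix.det_isEmpty, rfl⟩
  haveI : Nonempty (Fin n) := ⟨⟨0, hn⟩⟩
  obtain ⟨k, hkdef⟩ : ∃ k : ℕ, k = orderOf x := ⟨_, rfl⟩
  rw [← hkdef] at hx
  have hk : (k : F) ≠ 0 := by
    intro h
    have h1 : p ∣ k := (CharP.cast_eq_zero_iff F p k).1 h
    have h2 : p ∣ Nat.gcd k p := Nat.dvd_gcd h1 dvd_rfl
    rw [hx] at h2
    exact (Fact.out : p.Prime).one_lt.ne' (Nat.dvd_one.1 h2)
  let Θ : Matrix (Fin n) (Fin n) F ≃ₐ[F] Module.End F (Fin n → F) := Matrix.toLinAlgEquiv'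
  have hXk : (x : Matrix (Fin n) (Fin n) F) ^ k = 1 := by
    have h1 : x ^ k = 1 := by rw [hkdef]; exact pow_orderOf_eq_one x
    have := congrArg (fun u : GL (Fin n) F => (u : Matrix (Fin n) (Fin n) F)) h1
    simpa using this
  have hAk : (Θ (x : Matrix (Fin n) (Fin n) F)) ^ k = 1 := by
    rw [← map_pow, hXk, map_one]
  have hz : (g : Matrix (Fin n) (Fin n) F).det ≠ 0 :=
    ((Matrix.isUnit_iff_isUnit_det _).1 g.isUnit).ne_zero
  obtain ⟨c, hcA, hcdet⟩ := exists_commuting_det (Θ (x : Matrix (Fin n) (Fin n) F)) hk hAk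
    (g : Matrix (Fin n) (Fin n) F).det
  obtain ⟨C, hC⟩ : ∃ C : Matrix (Fin n) (Fin n) F, C = Θ.symm c := ⟨_, rfl⟩
  have hΘC : Θ C = c := by rw [hC, AlgEquiv.apply_symm_apply]
  have hCx : C * (x : Matrix (Fin n) (Fin n) F) = (x : Matrix (Fin n) (Fin n) F) * C := by
    apply Θ.injective
    rw [map_mul, map_mul, hΘC, hcA]
  have hCdet : C.det = (g : Matrix (Fin n) (Fin n) F).det := by
    rw [← hcdet, ← hΘC]
    exact (LinearMap.det_toLin' C).symm
  let Cu : GL (Fin n) F := Matrix.GeneralLinearGroup.mkOfDetNeZero C (by rw [hCdet]; exact hz)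
  have hCu : (Cu : Matrix (Fin n) (Fin n) F) = C := rfl
  have hcomm : x * Cu = Cu * x := by
    apply Units.ext
    rw [Units.val_mul, Units.val_mul, hCu, hCx]
  refine ⟨g * Cu⁻¹, ?_, ?_⟩
  · have h1 : g * Cu⁻¹ * Cu = g := by rw [mul_assoc, inv_mul_cancel, mul_one]
    have h2 := congrArg (fun u : GL (Fin n) F => (u : Matrix (Fin n) (Fin n) F).det) h1
    simp only [Units.val_mul, Matrix.det_mul, hCu, hCdet] at h2
    rw [Units.val_mul, Matrix.det_mul]
    exact mul_right_cancel₀ hz (by rw [one_mul]; exact h2)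
  · have h1 : Cu⁻¹ * x * Cu = x := by
      rw [mul_assoc, hcomm, ← mul_assoc, inv_mul_cancel, one_mul]
    calc g * Cu⁻¹ * x * (g * Cu⁻¹)⁻¹ = g * (Cu⁻¹ * x * Cu) * g⁻¹ := by
          rw [mul_inv_rev, inv_inv]; simp only [mul_assoc]
      _ = g * x * g⁻¹ := by rw [h1]


end Cfsg.Agent.S2569
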