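import Cfsg.Statements.S2388
import Mathlib
import Cfsg.Agent.Lib.Helper2.SemiConj
import Cfsg.Agent.S2569

set_option autoImplicit false
open Cfsg

namespace Cfsg.Agent.S2388


open Polynomial Module

theorem semisimple_of_pow {F : Type*} [Field F] {n : ℕ} (M : Matrix (Fin n) (Fin n) F) {k : ℕ}
    (hk : (k : F) ≠ 0) (hM : M ^ k = 1) :
    Module.End.IsSemisimple (Matrix.toLinAlgEquiv' M : Module.End F (Fin n → F)) := by
  apply Module.End.isSemisimple_of_squarefree_aeval_eq_zero (p := X ^ k - 1)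
  · exact (X_pow_sub_one_separable_iff.2 hk).squarefree
  · rw [map_sub, map_pow, aeval_X, map_one, ← map_pow, hM, map_one, sub_self]

theorem charpoly_toLin {F : Type*} [Field F] {n : ℕ} (M : Matrix (Fin n) (Fin n) F) :
    LinearMap.charpoly (Matrix.toLinAlgEquiv' M : Module.End F (Fin n → F)) = M.charpoly := by
  have h1 : (Matrix.toLinAlgEquiv' M : Module.End F (Fin n → F)) = Matrix.toLin' M := rfl
  rw [h1, ← LinearMap.charpoly_toMatrix (Matrix.toLin' M) (Pi.basisFun F (Fin n)),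
    LinearMap.toMatrix_eq_toMatrix', LinearMap.toMatrix'_toLin']

theorem cast_ne_zero_of_coprime {F : Type*} [Field F] (p : ℕ) [Fact p.Prime] [CharP F p] {k : ℕ}
    (hk : k.Coprime p) : (k : F) ≠ 0 := by
  intro h
  have h1 : p ∣ k := (CharP.cast_eq_zero_iff F p k).1 h
  have h2 : p ∣ Nat.gcd k p := Nat.dvd_gcd h1 dvd_rfl
  rw [hk] at h2
  exact (Fact.out : p.Prime).one_lt.ne' (Nat.dvd_one.1 h2)

/-- semisimple matrices with the same characteristic polynomial are conjugate under `GL` -/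
theorem gl_conj {F : Type*} [Field F] {n : ℕ} (M N : Matrix (Fin n) (Fin n) F) {k l : ℕ}
    (hk : (k : F) ≠ 0) (hM : M ^ k = 1) (hl : (l : F) ≠ 0) (hN : N ^ l = 1)
    (hc : M.charpoly = N.charpoly) :
    ∃ P : GL (Fin n) F, (P : Matrix (Fin n) (Fin n) F) * M = N * (P : Matrix (Fin n) (Fin n) F) := by
  obtain ⟨e, he⟩ := Cfsg.Agent.Lib.Helper2.SemiConj.conj_of_charpoly_eq n
    (Matrix.toLinAlgEquiv' M : Module.End F (Fin n → F))
    (Matrix.toLinAlgEquiv' N : Module.End F (Fin n → F)) (Module.finrank_fin_fun F)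
    (semisimple_of_pow M hk hM) (semisimple_of_pow N hl hN)
    (by rw [charpoly_toLin, charpoly_toLin, hc])
  let Θ : Matrix (Fin n) (Fin n) F ≃ₐ[F] Module.End F (Fin n → F) := Matrix.toLinAlgEquiv'
  have h1 : (e : Module.End F (Fin n → F)) * (e.symm : Module.End F (Fin n → F)) = 1 := by
    apply LinearMap.ext; intro v; simp
  have h2 : (e.symm : Module.End F (Fin n → F)) * (e : Module.End F (Fin n → F)) = 1 := by
    apply LinearMap.ext; intro v; simp
  refine ⟨⟨Θ.symm (e : Module.End F (Fin n → F)), Θ.symm (e.symm : Module.End F (Fin n → F)),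
    by rw [← map_mul, h1, map_one], by rw [← map_mul, h2, map_one]⟩, ?_⟩
  change Θ.symm (e : Module.End F (Fin n → F)) * M = N * Θ.symm (e : Module.End F (Fin n → F))
  apply Θ.injective
  rw [map_mul, map_mul, AlgEquiv.apply_symm_apply]
  apply LinearMap.ext
  intro v
  exact he v

/-- In `SL_n(q)`, `q` a power of the prime `p`, two elements of order prime to `p` with the same characteristic polynomial are conjugate in `SL_n(q)` (not merely in `GL_n`). -/
theorem result {F : Type*} [Field F] [Fintype F] (p : ℕ) [Fact p.Prime] [CharP F p] (n : ℕ)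
    (g h : Matrix.SpecialLinearGroup (Fin n) F) (hg : (orderOf g).Coprime p) (hh : (orderOf h).Coprime p)
    (hc : (g : Matrix (Fin n) (Fin n) F).charpoly = (h : Matrix (Fin n) (Fin n) F).charpoly) : IsConj g h := by
  classical
  have hgk : ((orderOf g : ℕ) : F) ≠ 0 := cast_ne_zero_of_coprime p hg
  have hhk : ((orderOf h : ℕ) : F) ≠ 0 := cast_ne_zero_of_coprime p hh
  have hgpow : (g : Matrix (Fin n) (Fin n) F) ^ orderOf g = 1 := by
    rw [← Matrix.SpecialLinearGroup.coe_pow, pow_orderOf_eq_one, Matrix.SpecialLinearGroup.coe_one]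
  have hhpow : (h : Matrix (Fin n) (Fin n) F) ^ orderOf h = 1 := by
    rw [← Matrix.SpecialLinearGroup.coe_pow, pow_orderOf_eq_one, Matrix.SpecialLinearGroup.coe_one]
  obtain ⟨P, hP⟩ := gl_conj _ _ hgk hgpow hhk hhpow hc
  obtain ⟨x, hx⟩ : ∃ x : GL (Fin n) F, x = Matrix.SpecialLinearGroup.toGL g := ⟨_, rfl⟩
  have hxval : (x : Matrix (Fin n) (Fin n) F) = (g : Matrix (Fin n) (Fin n) F) := by
    rw [hx]; rfl
  have hxo : (orderOf x).Coprime p := by
    rw [hx, orderOf_injective _ Matrix.SpecialLinearGroup.toGL_injective]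
    exact hg
  obtain ⟨s, hsdet, hs⟩ := Cfsg.Agent.S2569.result (p := p) x P hxo
  obtain ⟨Y, hY⟩ : ∃ Y : GL (Fin n) F, Y = s * x * s⁻¹ := ⟨_, rfl⟩
  have h3 : Y * P = P * x := by rw [hY, hs]; group
  have h4 : Y * s = s * x := by rw [hY]; group
  have h5 := congrArg (fun u : GL (Fin n) F => (u : Matrix (Fin n) (Fin n) F)) h3
  have h6 := congrArg (fun u : GL (Fin n) F => (u : Matrix (Fin n) (Fin n) F)) h4
  simp only [Units.val_mul] at h5 h6
  rw [hxval] at h5 h6
  rw [hP] at h5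
  have hYval : (Y : Matrix (Fin n) (Fin n) F) = (h : Matrix (Fin n) (Fin n) F) := by
    have h7 : (Y : Matrix (Fin n) (Fin n) F) * ((P : Matrix (Fin n) (Fin n) F) *
        ((P⁻¹ : GL (Fin n) F) : Matrix (Fin n) (Fin n) F)) =
        (h : Matrix (Fin n) (Fin n) F) * ((P : Matrix (Fin n) (Fin n) F) *
        ((P⁻¹ : GL (Fin n) F) : Matrix (Fin n) (Fin n) F)) := by
      rw [← mul_assoc, ← mul_assoc, h5]
    rw [Units.mul_inv, mul_one, mul_one] at h7
    exact h7
  rw [hYval] at h6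
  obtain ⟨σ, hσ⟩ : ∃ σ : Matrix.SpecialLinearGroup (Fin n) F,
      (σ : Matrix (Fin n) (Fin n) F) = (s : Matrix (Fin n) (Fin n) F) := ⟨⟨_, hsdet⟩, rfl⟩
  rw [isConj_iff]
  refine ⟨σ, ?_⟩
  have h9 : σ * g = h * σ := by
    apply Subtype.ext
    rw [Matrix.SpecialLinearGroup.coe_mul, Matrix.SpecialLinearGroup.coe_mul, hσ]
    exact h6.symm
  rw [h9, mul_inv_cancel_right]


end Cfsg.Agent.S2388
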