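import Cfsg.Statements.S0023
import Cfsg.Agent.Lib.Helper4.CoprimeSylow

set_option autoImplicit false
open Cfsg

namespace Cfsg.Agent.S0023

open Cfsg.Agent.Lib.Helper4
open scoped Pointwise

/-- Under coprime action there is an invariant Sylow subgroup: with A normalising K, coprime orders and A or K solvable, some Sylow p-subgroup of K is normalised by A. -/
theorem result {G : Type*} [Group G] [Finite G] (A K : Subgroup G) (hAK : A ≤ Subgroup.normalizer (K : Set G))
    (hcop : (Nat.card A).Coprime (Nat.card K)) (hsolv : Group.IsSolvable A ∨ Group.IsSolvable K)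
    (p : ℕ) [Fact p.Prime] :
    ∃ P : Sylow p K, A ≤ Subgroup.normalizer ((P : Subgroup K).map K.subtype : Set G) := by
  classical
  obtain ⟨P₀⟩ : Nonempty (Sylow p K) := inferInstance
  set Q₀ : Subgroup G := (P₀ : Subgroup K).map K.subtype with hQ₀
  have hQ₀K : Q₀ ≤ K := Subgroup.map_subtype_le _
  have hQ₀p : IsPGroup p Q₀ := P₀.2.map K.subtype
  letI : MulAction G (Subgroup G) := cjAction
  have h : ∀ a ∈ A, ∃ k ∈ K, a • Q₀ = k • Q₀ := by
    intro a ha
    have h1 : cj a Q₀ ≤ K := by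
      have := cj_mono a hQ₀K
      rwa [cj_eq_of_mem_normalizer (hAK ha)] at this
    exact sylow_sub_conj K P₀ (cj a Q₀) h1 (cj_isPGroup p a hQ₀p) (card_cj' a Q₀)
  obtain ⟨k, hk, hfix⟩ := glauberman_fix A K hAK hcop hsolv Q₀ h
  refine ⟨MulAut.conj (⟨k, hk⟩ : K) • P₀, ?_⟩
  intro a ha
  rw [Subgroup.mem_normalizer_iff_map_conj_eq, sylow_map_smul]
  exact hfix a ha

end Cfsg.Agent.S0023
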