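import Cfsg.Statements.S0268
import Mathlib

set_option autoImplicit false
open Cfsg

namespace Cfsg.Agent.S0268


open Matrix

theorem two_ne_zero_of_odd_card {F : Type*} [Field F] [Fintype F] (hF : Odd (Fintype.card F)) :
    (2 : F) ≠ 0 := by
  apply Ring.two_ne_zero
  intro h
  have := FiniteField.even_card_of_char_two h
  rw [Nat.odd_iff] at hF
  omega


/-- For q odd, -1 is the unique involution of SL_2(q). -/
theorem result {F : Type*} [Field F] [Fintype F] (hF : Odd (Fintype.card F)) (g : Matrix.SpecialLinearGroup (Fin 2) F) (h1 : g ≠ 1) (h2 : g * g = 1) : (g : Matrix (Fin 2) (Fin 2) F) = -1 := by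
  have h2' := two_ne_zero_of_odd_card hF
  have hinv : g = g⁻¹ := eq_inv_of_mul_eq_one_left h2
  have hexp := Matrix.SpecialLinearGroup.SL2_inv_expl g
  rw [← hinv] at hexp
  have e00 : g.1 0 0 = g.1 1 1 := by
    have := congrArg (fun A : Matrix.SpecialLinearGroup (Fin 2) F => A.1 0 0) hexp
    simpa using this
  have e01 : g.1 0 1 = -g.1 0 1 := by
    have := congrArg (fun A : Matrix.SpecialLinearGroup (Fin 2) F => A.1 0 1) hexp
    simpa using this
  have e10 : g.1 1 0 = -g.1 1 0 := by
    have := congrArg (fun A : Matrix.SpecialLinearGroup (Fin 2) F => A.1 1 0) hexp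
    simpa using this
  have hb : g.1 0 1 = 0 := by
    have : (2 : F) * g.1 0 1 = 0 := by linear_combination e01
    rcases mul_eq_zero.1 this with h | h
    · exact absurd h h2'
    · exact h
  have hc : g.1 1 0 = 0 := by
    have : (2 : F) * g.1 1 0 = 0 := by linear_combination e10
    rcases mul_eq_zero.1 this with h | h
    · exact absurd h h2'
    · exact h
  have hdet : g.1 0 0 * g.1 1 1 - g.1 0 1 * g.1 1 0 = 1 := by
    have := g.2
    rwa [Matrix.det_fin_two] at this
  rw [hb, hc, ← e00] at hdet
  have hsq : (g.1 0 0 - 1) * (g.1 0 0 + 1) = 0 := by linear_combination hdet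
  rcases mul_eq_zero.1 hsq with h | h
  · exfalso
    apply h1
    ext i j
    have ha : g.1 0 0 = 1 := by linear_combination h
    fin_cases i <;> fin_cases j
    · simpa using ha
    · simpa using hb
    · simpa using hc
    · simp only [Fin.mk_one, Fin.isValue, Matrix.SpecialLinearGroup.coe_one, Matrix.one_apply_eq]
      rw [← e00]; exact ha
  · have ha : g.1 0 0 = -1 := by linear_combination h
    ext i j
    fin_cases i <;> fin_cases j
    · simpa using ha
    · simpa using hb
    · simpa using hc
    · simp only [Fin.mk_one, Fin.isValue, Matrix.neg_apply, Matrix.one_apply_eq]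
      rw [← e00]; exact ha

end Cfsg.Agent.S0268
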