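import Cfsg.Statements.S0800
import Mathlib

set_option autoImplicit false
set_option linter.style.haveILetI false
open Cfsg

namespace Cfsg.Agent.S0800

open Polynomial

theorem cayley_two {F : Type*} [Field F] (M : Matrix (Fin 2) (Fin 2) F) (hdet : M.det = 1) :
    M * M = (M 0 0 + M 1 1) • M - 1 := by
  rw [Matrix.det_fin_two] at hdet
  ext i j
  fin_cases i <;> fin_cases j
  · simp [Matrix.mul_apply, Fin.sum_univ_two]
    linear_combination (-1 : F) * hdet
  · simp [Matrix.mul_apply, Fin.sum_univ_two]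
    ring
  · simp [Matrix.mul_apply, Fin.sum_univ_two]
    ring
  · simp [Matrix.mul_apply, Fin.sum_univ_two]
    linear_combination (-1 : F) * hdet

theorem det_lin {F : Type*} [Field F] (M : Matrix (Fin 2) (Fin 2) F) (hdet : M.det = 1) (a b : F) :
    (a • (1 : Matrix (Fin 2) (Fin 2) F) + b • M).det = a ^ 2 + a * b * (M 0 0 + M 1 1) + b ^ 2 := by
  rw [Matrix.det_fin_two] at hdet
  rw [Matrix.det_fin_two]
  simp
  linear_combination (b ^ 2) * hdet

theorem split_case {F : Type*} [Field F] [Fintype F] (p : ℕ) [Fact p.Prime] [CharP F p]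
    (M : Matrix (Fin 2) (Fin 2) F) (t : F) (hCH : M * M = t • M - 1) (l : F) (hl : l ^ 2 - t * l + 1 = 0) :
    M ^ ((Fintype.card F - 1) * p) = 1 := by
  set q := Fintype.card F with hq
  have hl0 : l ≠ 0 := by
    rintro rfl
    simp at hl
  set m := t - l with hm
  have hlm : l * m = 1 := by rw [hm]; linear_combination (-1 : F) * hl
  have hm0 : m ≠ 0 := by
    rintro h0
    rw [h0, mul_zero] at hlm
    exact zero_ne_one hlm
  set P : F[X] := X ^ 2 - C t * X + 1 with hP
  have hPM : aeval M P = 0 := by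
    simp only [hP, map_add, map_sub, map_mul, aeval_X, aeval_C, map_one, sq, hCH]
    rw [Algebra.algebraMap_eq_smul_one, smul_mul_assoc, one_mul]
    abel
  have hfac : P = (X - C l) * (X - C m) := by
    have h1 : C t = C l + C m := by rw [← C_add, hm]; congr 1; ring
    have h2 : (1 : F[X]) = C l * C m := by rw [← C_mul, hlm, C_1]
    rw [hP, h1]
    linear_combination h2
  have hd1 : (X - C l) ∣ (X ^ (q - 1) - 1 : F[X]) := by
    rw [Polynomial.dvd_iff_isRoot]
    simp [FiniteField.pow_card_sub_one_eq_one l hl0, hq]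
  have hd2 : (X - C m) ∣ (X ^ (q - 1) - 1 : F[X]) := by
    rw [Polynomial.dvd_iff_isRoot]
    simp [FiniteField.pow_card_sub_one_eq_one m hm0, hq]
  have hd : P ∣ (X ^ (q - 1) - 1 : F[X]) ^ 2 := by
    rw [hfac, sq]
    exact mul_dvd_mul hd1 hd2
  have hd' : P ∣ (X ^ (q - 1) - 1 : F[X]) ^ p :=
    dvd_trans hd (pow_dvd_pow _ (Fact.out : p.Prime).two_le)
  have hpow : (X ^ (q - 1) - 1 : F[X]) ^ p = X ^ ((q - 1) * p) - 1 := by
    rw [sub_pow_char, one_pow, pow_mul]
  obtain ⟨Q, hQ⟩ := hd'
  have := congrArg (aeval M) hQ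
  rw [map_mul, hPM, zero_mul, hpow, map_sub, map_pow, aeval_X, map_one] at this
  exact sub_eq_zero.1 this

theorem nonsplit_case {F : Type*} [Field F] [Fintype F]
    (M : Matrix (Fin 2) (Fin 2) F) (hdet : M.det = 1) (t : F) (ht : t = M 0 0 + M 1 1)
    (hCH : M * M = t • M - 1) (hroot : ∀ l : F, l ^ 2 - t * l + 1 ≠ 0) :
    M ^ (Fintype.card F - 1) = 1 ∨ M ^ (Fintype.card F + 1) = 1 := by
  set q := Fintype.card F with hq
  have hqpos : 1 ≤ q := Fintype.card_pos
  set P : F[X] := X ^ 2 - C t * X + 1 with hP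
  have haeval : ∀ N : Matrix (Fin 2) (Fin 2) F, aeval N P = N * N - t • N + 1 := by
    intro N
    simp only [hP, map_add, map_sub, map_mul, aeval_X, aeval_C, map_one, sq]
    rw [Algebra.algebraMap_eq_smul_one, smul_mul_assoc, one_mul]
  have hPM : aeval M P = 0 := by
    rw [haeval, hCH]; abel
  have hexp : aeval (M ^ q) P = 0 := by
    rw [← Polynomial.expand_aeval, hq, FiniteField.expand_card, map_pow, hPM,
      zero_pow (by omega)]
  rw [haeval] at hexp
  have hinv : M * (t • (1 : Matrix (Fin 2) (Fin 2) F) - M) = 1 := by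
    rw [mul_sub, hCH, mul_smul_comm, mul_one]; abel
  have hinv' : (t • (1 : Matrix (Fin 2) (Fin 2) F) - M) * M = 1 := by
    rw [sub_mul, hCH, smul_mul_assoc, one_mul]; abel
  have hcomm : M ^ q * M = M * M ^ q := by rw [← pow_succ, ← pow_succ']
  have hAB : (M ^ q - M) * (M ^ q - (t • (1 : Matrix (Fin 2) (Fin 2) F) - M)) = 0 := by
    have : (M ^ q - M) * (M ^ q - (t • (1 : Matrix (Fin 2) (Fin 2) F) - M))
        = (M ^ q * M ^ q - t • M ^ q + 1) + (M ^ q * M - M * M ^ q) + (t • M - 1 - M * M) := by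
      simp only [mul_sub, sub_mul, mul_smul_comm, mul_one, smul_sub]
      abel
    rw [this, hexp, hcomm, hCH]
    abel
  have hrep : ∀ k : ℕ, ∃ a b : F, M ^ k = a • (1 : Matrix (Fin 2) (Fin 2) F) + b • M := by
    intro k
    induction k with
    | zero => exact ⟨1, 0, by simp⟩
    | succ k ih =>
      obtain ⟨a, b, h⟩ := ih
      refine ⟨-b, a + b * t, ?_⟩
      rw [pow_succ, h, add_mul, smul_mul_assoc, one_mul, smul_mul_assoc, hCH]
      module
  have hdich : ∀ a b : F, a • (1 : Matrix (Fin 2) (Fin 2) F) + b • M = 0 ∨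
      IsUnit (a • (1 : Matrix (Fin 2) (Fin 2) F) + b • M) := by
    intro a b
    by_cases hb : b = 0
    · by_cases ha : a = 0
      · left; rw [ha, hb]; simp
      · right
        rw [Matrix.isUnit_iff_isUnit_det, det_lin M hdet, hb]
        simp [ha]
    · right
      rw [Matrix.isUnit_iff_isUnit_det, det_lin M hdet, ← ht, isUnit_iff_ne_zero]
      have := hroot (-a / b)
      intro h0
      apply this
      field_simp
      linear_combination h0
  obtain ⟨a, b, hab⟩ := hrep q
  have hA : M ^ q - M = a • (1 : Matrix (Fin 2) (Fin 2) F) + (b - 1) • M := by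
    rw [hab]; module
  rcases hdich a (b - 1) with h | h
  · left
    have h1 : M ^ q = M := sub_eq_zero.1 (hA.trans h)
    have h2 : M ^ (q - 1) * M = M := by
      rw [← pow_succ, Nat.sub_add_cancel hqpos]; exact h1
    calc M ^ (q - 1) = M ^ (q - 1) * (M * (t • (1 : Matrix (Fin 2) (Fin 2) F) - M)) := by
          rw [hinv, mul_one]
      _ = (M ^ (q - 1) * M) * (t • (1 : Matrix (Fin 2) (Fin 2) F) - M) := by rw [mul_assoc]
      _ = 1 := by rw [h2, hinv]
  · right
    rw [← hA] at h
    have hB0 := (h.mul_right_eq_zero).1 hAB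
    have h1 : M ^ q = t • (1 : Matrix (Fin 2) (Fin 2) F) - M := sub_eq_zero.1 hB0
    rw [pow_succ, h1, hinv']

/-- Tori of SL_2(q): if g ∈ SL_2(q) has order coprime to the characteristic p, then the order of g divides q − 1 or q + 1. -/
theorem result {F : Type*} [Field F] [Fintype F] {q : ℕ} (hF : Fintype.card F = q) (p : ℕ) [Fact p.Prime] [CharP F p] (g : Matrix.SpecialLinearGroup (Fin 2) F) (hg : Nat.Coprime (orderOf g) p) : orderOf g ∣ q - 1 ∨ orderOf g ∣ q + 1 := by
  classical
  subst hF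
  set M : Matrix (Fin 2) (Fin 2) F := (g : Matrix (Fin 2) (Fin 2) F) with hM
  have hdet : M.det = 1 := g.2
  have hCH := cayley_two M hdet
  have key : ∀ k : ℕ, M ^ k = 1 → orderOf g ∣ k := by
    intro k hk
    apply orderOf_dvd_of_pow_eq_one
    apply Subtype.ext
    rw [Matrix.SpecialLinearGroup.coe_pow]
    exact hk
  by_cases hroot : ∃ l : F, l ^ 2 - (M 0 0 + M 1 1) * l + 1 = 0
  · obtain ⟨l, hl⟩ := hroot
    left
    have := key _ (split_case p M _ hCH l hl)
    exact Nat.Coprime.dvd_of_dvd_mul_right hg this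
  · push Not at hroot
    rcases nonsplit_case M hdet _ rfl hCH hroot with h | h
    · exact Or.inl (key _ h)
    · exact Or.inr (key _ h)

end Cfsg.Agent.S0800
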