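import Cfsg.Statements.S2471
import Cfsg.Agent.Lib.Helper4.Unipotent

set_option autoImplicit false
open Cfsg

namespace Cfsg.Agent.S2471


open Matrix

theorem sq_eq {F : Type*} [Field F] (G : Matrix (Fin 2) (Fin 2) F) (hdet : G.det = 1) :
    G * G = G.trace • G - 1 := by
  rw [Matrix.det_fin_two] at hdet
  ext i j
  fin_cases i <;> fin_cases j <;>
    simp [Matrix.mul_apply, Fin.sum_univ_two, Matrix.trace] <;>
    first | linear_combination (-1 : F) * hdet | linear_combination hdet | ring

theorem pow_four_eq {F : Type*} [Field F] (G : Matrix (Fin 2) (Fin 2) F) (hdet : G.det = 1) :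
    G ^ 4 = (G.trace ^ 3 - 2 * G.trace) • G + (1 - G.trace ^ 2) • (1 : Matrix (Fin 2) (Fin 2) F) := by
  have h2 := sq_eq G hdet
  set t := G.trace
  have h4 : G ^ 4 = (G * G) * (G * G) := by
    rw [← pow_two, ← pow_two, ← pow_mul]
  rw [h4, h2]
  have : (t • G - 1) * (t • G - 1) = (t * t) • (G * G) - (2 * t) • G + 1 := by
    rw [sub_mul, mul_sub, mul_sub, mul_one, one_mul, Matrix.smul_mul, Matrix.mul_smul, smul_smul, mul_one]
    rw [two_mul, add_smul]
    abel
  rw [this, h2]
  rw [smul_sub, smul_smul, sub_smul, sub_smul, one_smul, pow_succ, pow_two]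
  abel

/-- In PSL(2,q) with q odd, the characteristic p is isolated from 2 in the prime graph: for F a finite field of odd characteristic p with at least 5 elements, PSL(2,F) has no element of order 2p. -/
theorem result {F : Type*} [Field F] [Fintype F] (p : ℕ) [Fact p.Prime] [CharP F p] (hp : p ≠ 2) (h5 : 5 ≤ Fintype.card F) (g : Matrix.ProjectiveSpecialLinearGroup (Fin 2) F) :
    orderOf g ≠ 2 * p := by
  classical
  intro hord
  have hp' : p.Prime := Fact.out
  obtain ⟨g0, rfl⟩ := QuotientGroup.mk_surjective g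
  set G : Matrix (Fin 2) (Fin 2) F := (g0 : Matrix (Fin 2) (Fin 2) F) with hG
  have hdet : G.det = 1 := g0.det_coe
  have hmk : ∀ k : ℕ, (((g0 : Matrix.SpecialLinearGroup (Fin 2) F) :
      Matrix.ProjectiveSpecialLinearGroup (Fin 2) F) ^ k = 1) ↔
      g0 ^ k ∈ Subgroup.center (Matrix.SpecialLinearGroup (Fin 2) F) := by
    intro k
    rw [← QuotientGroup.mk_pow, QuotientGroup.eq_one_iff]
  have hcoe : ∀ k : ℕ, ((g0 ^ k : Matrix.SpecialLinearGroup (Fin 2) F) : Matrix (Fin 2) (Fin 2) F) = G ^ k := by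
    intro k
    rw [Matrix.SpecialLinearGroup.coe_pow]
  have h1 : g0 ^ (2 * p) ∈ Subgroup.center (Matrix.SpecialLinearGroup (Fin 2) F) := by
    rw [← hmk, ← hord]; exact pow_orderOf_eq_one _
  obtain ⟨r, hr, hrs⟩ := Matrix.SpecialLinearGroup.mem_center_iff.1 h1
  rw [hcoe] at hrs
  rw [Fintype.card_fin] at hr
  have hG4p : (G ^ 4) ^ p = 1 := by
    rw [← pow_mul, show 4 * p = (2 * p) * 2 by ring, pow_mul, ← hrs, ← map_pow, hr, map_one]
  set N := G ^ 4 - 1 with hN
  have hNnil : IsNilpotent N :=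
    ⟨p, by rw [hN, sub_pow_char_of_commute (p := p) (Commute.one_right _), one_pow, hG4p, sub_self]⟩
  have hN2 : N ^ 2 = 0 := by
    have := Cfsg.Agent.Lib.Helper4.nilpotent_pow_card_eq_zero N hNnil
    rwa [Fintype.card_fin] at this
  by_cases hN0 : N = 0
  · have hG4 : G ^ 4 = 1 := sub_eq_zero.1 (hN ▸ hN0)
    have h4 : g0 ^ 4 = 1 := by
      apply Subtype.ext
      rw [hcoe, hG4]
      rfl
    have h4' : ((g0 : Matrix.SpecialLinearGroup (Fin 2) F) :
      Matrix.ProjectiveSpecialLinearGroup (Fin 2) F) ^ 4 = 1 := by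
      rw [hmk, h4]; exact Subgroup.one_mem _
    have hdvd := orderOf_dvd_of_pow_eq_one h4'
    rw [hord] at hdvd
    have h2 : p ∣ 2 := by
      have : 2 * p ∣ 2 * 2 := hdvd
      exact Nat.dvd_of_mul_dvd_mul_left (by norm_num) this
    exact hp ((Nat.prime_dvd_prime_iff_eq hp' Nat.prime_two).1 h2)
  · have h4 := pow_four_eq G hdet
    set α := G.trace ^ 3 - 2 * G.trace with hα
    set β := 1 - G.trace ^ 2 with hβ
    have hNeq : N = α • G + (β - 1) • (1 : Matrix (Fin 2) (Fin 2) F) := by
      rw [hN, h4, sub_smul (β) 1, one_smul]; abel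
    have hα0 : α ≠ 0 := by
      intro h0
      rw [h0, zero_smul, zero_add] at hNeq
      apply hN0
      have h00 := congrFun (congrFun hN2 0) 0
      rw [hNeq] at h00
      simp [pow_two, Matrix.mul_apply, Fin.sum_univ_two] at h00
      rw [hNeq, h00, zero_smul]
    have hGeq : G = (-(β - 1) / α) • (1 : Matrix (Fin 2) (Fin 2) F) + α⁻¹ • N := by
      rw [hNeq, smul_add, smul_smul, smul_smul, inv_mul_cancel₀ hα0, one_smul, ← add_assoc, add_comm,
        ← add_assoc, ← add_smul]
      have : α⁻¹ * (β - 1) + -(β - 1) / α = 0 := by field_simp; ring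
      rw [this, zero_smul, zero_add]
    have hNp : N ^ p = 0 := pow_eq_zero_of_le hp'.two_le hN2
    have hGp : G ^ p = ((-(β - 1) / α) ^ p) • (1 : Matrix (Fin 2) (Fin 2) F) := by
      have hc : Commute ((-(β - 1) / α) • (1 : Matrix (Fin 2) (Fin 2) F)) (α⁻¹ • N) := by
        apply Commute.smul_left
        exact Commute.one_left _
      rw [hGeq, add_pow_char_of_commute p hc, smul_pow, smul_pow, one_pow, hNp, smul_zero, add_zero]
    have hcen : g0 ^ p ∈ Subgroup.center (Matrix.SpecialLinearGroup (Fin 2) F) := by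
      rw [Subgroup.mem_center_iff]
      intro h
      apply Subtype.ext
      rw [Matrix.SpecialLinearGroup.coe_mul, Matrix.SpecialLinearGroup.coe_mul, hcoe, hGp]
      simp
    rw [← hmk] at hcen
    have hdvd := orderOf_dvd_of_pow_eq_one hcen
    rw [hord] at hdvd
    have := Nat.le_of_dvd hp'.pos hdvd
    have := hp'.pos
    omega

end Cfsg.Agent.S2471
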