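import Cfsg.Statements.S2475
import Mathlib
import Cfsg.Agent.S0268
import Cfsg.Agent.S0800
import Cfsg.Agent.S2471
import Cfsg.Agent.Lib.Helper2.QuadExt
import Cfsg.Agent.Lib.Helper4.Unipotent

set_option autoImplicit false
open Cfsg

namespace Cfsg.Agent.S2475


open Matrix

section

variable {F : Type*} [Field F]

local notation "SL2" => Matrix.SpecialLinearGroup (Fin 2) F
local notation "PSL2" => Matrix.ProjectiveSpecialLinearGroup (Fin 2) F
local notation "M2" => Matrix (Fin 2) (Fin 2) F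

theorem ext2 {A B : M2} (h00 : A 0 0 = B 0 0) (h01 : A 0 1 = B 0 1) (h10 : A 1 0 = B 1 0)
    (h11 : A 1 1 = B 1 1) : A = B := by
  ext i j
  fin_cases i <;> fin_cases j
  · exact h00
  · exact h01
  · exact h10
  · exact h11

theorem mul2 (A B : M2) (i j : Fin 2) : (A * B) i j = A i 0 * B 0 j + A i 1 * B 1 j := by
  rw [Matrix.mul_apply, Fin.sum_univ_two]

theorem scalar_fin_two (r : F) : Matrix.scalar (Fin 2) r = !![r, 0; 0, r] := by
  apply ext2 <;> simp

theorem mk_pow_eq_one_iff (g : SL2) (k : ℕ) :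
    ((g : SL2) : PSL2) ^ k = 1 ↔ ∃ r : F, r ^ 2 = 1 ∧ Matrix.scalar (Fin 2) r = (g : M2) ^ k := by
  rw [← QuotientGroup.mk_pow, QuotientGroup.eq_one_iff, Matrix.SpecialLinearGroup.mem_center_iff,
    Fintype.card_fin, Matrix.SpecialLinearGroup.coe_pow]

theorem orderOf_of_iff {G : Type*} [Monoid G] {x : G} {N : ℕ} (hN : 0 < N)
    (h : ∀ k : ℕ, x ^ k = 1 ↔ N ∣ 2 * k) : orderOf x = N / Nat.gcd 2 N := by
  have key : ∀ k : ℕ, N ∣ 2 * k ↔ N / Nat.gcd 2 N ∣ k := by
    intro k
    rcases Nat.even_or_odd N with he | ho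
    · obtain ⟨c, hc⟩ := he
      have hN2 : N = 2 * c := by omega
      have hg : Nat.gcd 2 N = 2 := Nat.gcd_eq_left ⟨c, hN2⟩
      rw [hg, hN2, Nat.mul_div_cancel_left _ (by norm_num : 0 < 2)]
      exact Nat.mul_dvd_mul_iff_left (by norm_num : 0 < 2)
    · have hcop : Nat.Coprime N 2 := by
        rw [Nat.coprime_comm, Nat.Prime.coprime_iff_not_dvd Nat.prime_two]
        intro h2
        rcases ho with ⟨c, hc⟩
        omega
      have hg : Nat.gcd 2 N = 1 := by rw [Nat.gcd_comm]; exact hcop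
      rw [hg, Nat.div_one]
      constructor
      · intro h1
        exact hcop.dvd_of_dvd_mul_left h1
      · intro h1
        exact Dvd.dvd.mul_left h1 2
  apply Nat.dvd_antisymm
  · apply orderOf_dvd_of_pow_eq_one
    rw [h, key]
  · rw [← key, ← h]
    exact pow_orderOf_eq_one x

theorem exists_of_dvd {G : Type*} [Monoid G] {x : G} {N m : ℕ} (hx : orderOf x = N) (hN : 0 < N)
    (hm : m ∣ N) : ∃ y : G, orderOf y = m := by
  obtain ⟨c, rfl⟩ := hm
  have hc0 : c ≠ 0 := by
    rintro rfl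
    simp at hN
  have hm0 : 0 < c := Nat.pos_of_ne_zero hc0
  refine ⟨x ^ c, ?_⟩
  rw [orderOf_pow_of_dvd hc0 ⟨m, by rw [hx, mul_comm]⟩, hx, Nat.mul_div_cancel _ hm0]

/-- torus orders in the projective group -/
theorem torus_order {K : Type*} [Field K] (Mat : K →* M2)
    (hc : ∀ z : K, (∃ r : F, r ^ 2 = 1 ∧ Matrix.scalar (Fin 2) r = Mat z) ↔ z * z = 1)
    (z0 : K) (g : SL2) (hg : (g : M2) = Mat z0) (hN : 0 < orderOf z0) :
    orderOf ((g : SL2) : PSL2) = orderOf z0 / Nat.gcd 2 (orderOf z0) := by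
  apply orderOf_of_iff hN
  intro k
  rw [mk_pow_eq_one_iff, hg, ← map_pow, hc, ← pow_two, ← pow_mul, mul_comm k 2,
    orderOf_dvd_iff_pow_eq_one]

theorem trace_sq_eq_four (G N : M2) (hdet : G.det = 1) (hN2 : N * N = 0) (hN0 : N ≠ 0)
    (hcomm : G * N = N * G) : (G 0 0 + G 1 1) ^ 2 = 4 := by
  rw [Matrix.det_fin_two] at hdet
  have n00 := congrFun (congrFun hN2 0) 0
  have n01 := congrFun (congrFun hN2 0) 1
  have n10 := congrFun (congrFun hN2 1) 0
  have n11 := congrFun (congrFun hN2 1) 1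
  have c00 := congrFun (congrFun hcomm 0) 0
  have c01 := congrFun (congrFun hcomm 0) 1
  have c10 := congrFun (congrFun hcomm 1) 0
  simp only [mul2, Matrix.zero_apply] at n00 n01 n10 n11 c00 c01 c10
  have htr : N 1 1 = - N 0 0 := by
    by_cases ht : N 0 0 + N 1 1 = 0
    · linear_combination ht
    · exfalso
      have hb : N 0 1 = 0 := by
        have h : (N 0 0 + N 1 1) * N 0 1 = 0 := by linear_combination n01
        exact (mul_eq_zero.1 h).resolve_left ht
      have hc : N 1 0 = 0 := by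
        have h : (N 0 0 + N 1 1) * N 1 0 = 0 := by linear_combination n10
        exact (mul_eq_zero.1 h).resolve_left ht
      have ha : N 0 0 = 0 := by
        have h : N 0 0 * N 0 0 = 0 := by rw [hb] at n00; linear_combination n00
        exact mul_self_eq_zero.1 h
      have hd : N 1 1 = 0 := by
        have h : N 1 1 * N 1 1 = 0 := by rw [hb] at n11; linear_combination n11
        exact mul_self_eq_zero.1 h
      apply hN0
      apply ext2
      · rw [ha]; rfl
      · rw [hb]; rfl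
      · rw [hc]; rfl
      · rw [hd]; rfl
  rw [htr] at c01 c10
  have e0 : N 0 0 * N 0 0 + N 0 1 * N 1 0 = 0 := n00
  have e1 : G 0 1 * N 1 0 = N 0 1 * G 1 0 := by linear_combination c00
  have e2 : N 0 1 * (G 0 0 - G 1 1) = 2 * N 0 0 * G 0 1 := by linear_combination c01
  have e3 : N 1 0 * (G 0 0 - G 1 1) = 2 * N 0 0 * G 1 0 := by linear_combination (-1 : F) * c10
  have g1 : N 0 1 * N 0 1 * ((G 0 0 - G 1 1) ^ 2 + 4 * G 0 1 * G 1 0) = 0 := by
    linear_combination (4 * G 0 1 ^ 2) * e0 +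
      (N 0 1 * (G 0 0 - G 1 1) + 2 * N 0 0 * G 0 1) * e2 - (4 * G 0 1 * N 0 1) * e1
  have g2 : N 1 0 * N 1 0 * ((G 0 0 - G 1 1) ^ 2 + 4 * G 0 1 * G 1 0) = 0 := by
    linear_combination (4 * G 1 0 ^ 2) * e0 +
      (N 1 0 * (G 0 0 - G 1 1) + 2 * N 0 0 * G 1 0) * e3 + (4 * G 1 0 * N 1 0) * e1
  have hD : (G 0 0 - G 1 1) ^ 2 + 4 * G 0 1 * G 1 0 = 0 := by
    by_cases hb : N 0 1 = 0
    · by_cases hc : N 1 0 = 0
      · exfalso
        have ha : N 0 0 = 0 := by
          have h : N 0 0 * N 0 0 = 0 := by rw [hb] at e0; linear_combination e0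
          exact mul_self_eq_zero.1 h
        apply hN0
        apply ext2
        · rw [ha]; rfl
        · rw [hb]; rfl
        · rw [hc]; rfl
        · rw [htr, ha, neg_zero]; rfl
      · exact (mul_eq_zero.1 g2).resolve_left (mul_ne_zero hc hc)
    · exact (mul_eq_zero.1 g1).resolve_left (mul_ne_zero hb hb)
  linear_combination hD + 4 * hdet

theorem upow (k : ℕ) : (!![1, 1; 0, 1] : M2) ^ k = !![1, (k : F); 0, 1] := by
  induction k with
  | zero => simp [Matrix.one_fin_two]
  | succ k ih =>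
    rw [pow_succ, ih, Matrix.mul_fin_two]
    apply ext2 <;> simp <;> ring

end

section

variable {F : Type*} [Field F] [Fintype F]

local notation "SL2" => Matrix.SpecialLinearGroup (Fin 2) F
local notation "PSL2" => Matrix.ProjectiveSpecialLinearGroup (Fin 2) F
local notation "M2" => Matrix (Fin 2) (Fin 2) F

theorem gcd_two_of_odd {q : ℕ} (h : Odd q) : Nat.gcd 2 (q - 1) = 2 := by
  apply Nat.gcd_eq_left
  rcases h with ⟨c, hc⟩
  exact ⟨c, by omega⟩

theorem gcd_two_of_even {q : ℕ} (h : ¬ Odd q) (hq : 1 ≤ q) : Nat.gcd 2 (q - 1) = 1 := by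
  have he : Even q := Nat.not_odd_iff_even.1 h
  rcases he with ⟨c, hc⟩
  have : Nat.Coprime 2 (q - 1) := by
    rw [Nat.Prime.coprime_iff_not_dvd Nat.prime_two]
    rintro ⟨e, he⟩
    omega
  exact this

theorem lemmaA (p : ℕ) [Fact p.Prime] [CharP F p] (g : SL2) (hpg : ¬ p ∣ orderOf g) :
    orderOf ((g : SL2) : PSL2) ∣ (Fintype.card F - 1) / Nat.gcd 2 (Fintype.card F - 1) ∨
    orderOf ((g : SL2) : PSL2) ∣ (Fintype.card F + 1) / Nat.gcd 2 (Fintype.card F - 1) := by
  have hp : p.Prime := Fact.out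
  have hcop : Nat.Coprime (orderOf g) p := ((Nat.Prime.coprime_iff_not_dvd hp).2 hpg).symm
  have hq1 : 1 ≤ Fintype.card F := Fintype.card_pos
  have hmap : orderOf ((g : SL2) : PSL2) ∣ orderOf g :=
    orderOf_map_dvd (QuotientGroup.mk' (Subgroup.center SL2)) g
  by_cases hodd : Odd (Fintype.card F)
  · rw [gcd_two_of_odd hodd]
    have key : ∀ N : ℕ, Even N → orderOf g ∣ N → orderOf ((g : SL2) : PSL2) ∣ N / 2 := by
      intro N hN hdvd
      obtain ⟨c, hc⟩ := hN
      have hN2 : N = 2 * c := by omega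
      rw [hN2, Nat.mul_div_cancel_left _ (by norm_num : 0 < 2)]
      apply orderOf_dvd_of_pow_eq_one
      rw [← QuotientGroup.mk_pow, QuotientGroup.eq_one_iff]
      have hsq : g ^ c * g ^ c = 1 := by
        rw [← pow_add, ← two_mul, ← hN2]
        exact orderOf_dvd_iff_pow_eq_one.1 hdvd
      by_cases h1 : g ^ c = 1
      · rw [h1]; exact Subgroup.one_mem _
      · have hneg := Cfsg.Agent.S0268.result hodd (g ^ c) h1 hsq
        rw [Matrix.SpecialLinearGroup.mem_center_iff]
        refine ⟨-1, by simp, ?_⟩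
        rw [hneg, map_neg, map_one]
    rcases Cfsg.Agent.S0800.result rfl p g hcop with h | h
    · left
      apply key _ _ h
      rcases hodd with ⟨c, hc⟩
      exact ⟨c, by omega⟩
    · right
      apply key _ _ h
      rcases hodd with ⟨c, hc⟩
      exact ⟨c + 1, by omega⟩
  · rw [gcd_two_of_even hodd hq1, Nat.div_one, Nat.div_one]
    rcases Cfsg.Agent.S0800.result rfl p g hcop with h | h
    · left; exact hmap.trans h
    · right; exact hmap.trans h

theorem lemmaB (p : ℕ) [Fact p.Prime] [CharP F p] (g : SL2) (hpg : p ∣ orderOf g) :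
    orderOf ((g : SL2) : PSL2) ∣ p := by
  have hp : p.Prime := Fact.out
  apply orderOf_dvd_of_pow_eq_one
  rw [mk_pow_eq_one_iff]
  have hdet : (g : M2).det = 1 := g.det_coe
  have hn0 : orderOf g ≠ 0 := (orderOf_pos g).ne'
  obtain ⟨c, hc⟩ := hpg
  have hc0 : c ≠ 0 := by
    rintro rfl
    rw [mul_zero] at hc
    exact hn0 hc
  have hord : orderOf (g ^ c) = p := by
    rw [orderOf_pow_of_dvd hc0 ⟨p, by rw [hc, mul_comm]⟩, hc,
      Nat.mul_div_cancel _ (Nat.pos_of_ne_zero hc0)]
  have hHp : ((g : M2) ^ c) ^ p = 1 := by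
    have h := pow_orderOf_eq_one (g ^ c)
    rw [hord] at h
    have h2 := congrArg (fun A : SL2 => (A : M2)) h
    simp only [Matrix.SpecialLinearGroup.coe_pow, Matrix.SpecialLinearGroup.coe_one] at h2
    exact h2
  have hH1 : (g : M2) ^ c ≠ 1 := by
    intro h
    have h1 : g ^ c = 1 := by
      apply Subtype.ext
      rw [Matrix.SpecialLinearGroup.coe_pow, h]
      rfl
    rw [← orderOf_eq_one_iff, hord] at h1
    exact hp.one_lt.ne' h1
  obtain ⟨N, hN⟩ : ∃ N : M2, N = (g : M2) ^ c - 1 := ⟨_, rfl⟩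
  have hNnil : IsNilpotent N := ⟨p, by
    rw [hN, sub_pow_char_of_commute p (Commute.one_right _), one_pow, hHp, sub_self]⟩
  have hN2 : N * N = 0 := by
    have h := Cfsg.Agent.Lib.Helper4.nilpotent_pow_card_eq_zero N hNnil
    rwa [Fintype.card_fin, pow_two] at h
  have hN0 : N ≠ 0 := by
    intro h
    rw [hN] at h
    exact hH1 (sub_eq_zero.1 h)
  have hcomm : (g : M2) * N = N * (g : M2) := by
    rw [hN, mul_sub, sub_mul, mul_one, one_mul, ← pow_succ', ← pow_succ]
  have ht := trace_sq_eq_four (g : M2) N hdet hN2 hN0 hcomm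
  have hsq := Cfsg.Agent.S2471.sq_eq (g : M2) hdet
  rw [Matrix.trace_fin_two] at hsq
  obtain ⟨t, htdef⟩ : ∃ t : F, t = (g : M2) 0 0 + (g : M2) 1 1 := ⟨_, rfl⟩
  rw [← htdef] at ht hsq
  by_cases h2 : (2 : F) = 0
  · -- characteristic two
    have hp2 : p = 2 := by
      have h2' : ((2 : ℕ) : F) = 0 := by exact_mod_cast h2
      have hd : p ∣ 2 := (CharP.cast_eq_zero_iff F p 2).1 h2'
      exact (Nat.prime_dvd_prime_iff_eq hp Nat.prime_two).1 hd
    have ht0 : t = 0 := by
      have h4 : (4 : F) = 0 := by linear_combination (2 : F) * h2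
      rw [h4] at ht
      exact pow_eq_zero_iff (by norm_num) |>.1 ht
    rw [ht0, zero_smul, zero_sub] at hsq
    refine ⟨-1, by simp, ?_⟩
    rw [hp2, pow_two, hsq, map_neg, map_one]
  · obtain ⟨α, hα⟩ : ∃ α : F, α = t / 2 := ⟨_, rfl⟩
    have hα2 : 2 * α = t := by rw [hα]; field_simp
    have hαsq : α * α = 1 := by
      have h4 : (4 : F) ≠ 0 := by
        have : (4 : F) = 2 * 2 := by norm_num
        rw [this]; exact mul_ne_zero h2 h2
      apply mul_left_cancel₀ h4
      linear_combination ht + (2 * α + t) * hα2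
    obtain ⟨M, hM⟩ : ∃ M : M2, M = (g : M2) - α • (1 : M2) := ⟨_, rfl⟩
    have hMM : M * M = 0 := by
      rw [hM, sub_mul, mul_sub, mul_sub, hsq, smul_mul_assoc, one_mul, mul_smul_comm, mul_one,
        smul_mul_assoc, one_mul, smul_smul, hαsq, ← hα2]
      module
    have hG : (g : M2) = α • (1 : M2) + M := by rw [hM]; abel
    have hcm : Commute (α • (1 : M2)) M := by
      rw [Commute, SemiconjBy, smul_mul_assoc, one_mul, mul_smul_comm, mul_one]
    have hMp : M ^ p = 0 := by
      have h2le : 2 ≤ p := hp.two_le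
      have : p = 2 + (p - 2) := by omega
      rw [this, pow_add, pow_two, hMM, zero_mul]
    refine ⟨α ^ p, ?_, ?_⟩
    · rw [← pow_mul, mul_comm, pow_mul, pow_two, hαsq, one_pow]
    · rw [hG, add_pow_char_of_commute p hcm, hMp, add_zero, smul_pow, one_pow,
        Matrix.scalar_apply, Matrix.smul_one_eq_diagonal]

theorem lemmaC (p : ℕ) [Fact p.Prime] [CharP F p] : ∃ x : PSL2, orderOf x = p := by
  obtain ⟨u, hu⟩ : ∃ u : SL2, (u : M2) = !![1, 1; 0, 1] :=
    ⟨⟨!![1, 1; 0, 1], by rw [Matrix.det_fin_two_of]; ring⟩, rfl⟩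
  refine ⟨((u : SL2) : PSL2), ?_⟩
  apply orderOf_eq_prime
  · rw [mk_pow_eq_one_iff, hu, upow, CharP.cast_eq_zero]
    exact ⟨1, one_pow 2, by rw [scalar_fin_two]⟩
  · intro h
    have h1 := (mk_pow_eq_one_iff u 1).1 (by rw [pow_one]; exact h)
    obtain ⟨r, -, hr⟩ := h1
    rw [pow_one, hu, scalar_fin_two] at hr
    have h01 := congrFun (congrFun hr 0) 1
    simp at h01

theorem lemmaD (h2 : 2 ≤ Fintype.card F) : ∃ x : PSL2, orderOf x =
    (Fintype.card F - 1) / Nat.gcd 2 (Fintype.card F - 1) := by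
  obtain ⟨u, hu⟩ := IsCyclic.exists_generator (α := Fˣ)
  have hou : orderOf u = Fintype.card F - 1 := by
    rw [orderOf_eq_card_of_forall_mem_zpowers hu, Nat.card_units, Nat.card_eq_fintype_card]
  have hoz : orderOf (u : F) = Fintype.card F - 1 := by rw [orderOf_units, hou]
  let Mat : F →* M2 :=
    { toFun := fun z => !![z, 0; 0, z⁻¹]
      map_one' := by rw [inv_one, Matrix.one_fin_two]
      map_mul' := fun z w => by
        rw [Matrix.mul_fin_two, mul_inv]
        apply ext2 <;> simp }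
  have hMat : ∀ z : F, Mat z = !![z, 0; 0, z⁻¹] := fun z => rfl
  obtain ⟨g, hg⟩ : ∃ g : SL2, (g : M2) = Mat (u : F) :=
    ⟨⟨!![(u : F), 0; 0, (u : F)⁻¹], by
      rw [Matrix.det_fin_two_of, mul_inv_cancel₀ u.ne_zero]; ring⟩, rfl⟩
  refine ⟨((g : SL2) : PSL2), ?_⟩
  rw [torus_order Mat ?_ (u : F) g hg (by rw [hoz]; omega), hoz]
  intro z
  rw [hMat]
  simp only [scalar_fin_two]
  constructor
  · rintro ⟨r, hr, hrz⟩
    have h00 := congrFun (congrFun hrz 0) 0
    simp at h00
    rw [← h00, ← pow_two, hr]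
  · intro hz
    have hinv : z⁻¹ = z := inv_eq_of_mul_eq_one_left hz
    refine ⟨z, by rw [pow_two, hz], ?_⟩
    rw [hinv]

open Cfsg.Agent.Lib.Helper2.Quad in
theorem exists_aniso (h2 : 2 ≤ Fintype.card F) : ∃ a b : F, Aniso a b := by
  classical
  let φ : F × F → F × F := fun x => (x.1 + x.2, x.1 * x.2)
  have hni : ¬ Function.Injective φ := by
    intro hinj
    have h : φ (0, 1) = φ (1, 0) := by simp [φ]
    have h' := hinj h
    have h'' := congrArg Prod.fst h'
    exact zero_ne_one h''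
  have hns : ¬ Function.Surjective φ := fun hs => hni (Finite.injective_iff_surjective.2 hs)
  rw [Function.Surjective] at hns
  push Not at hns
  obtain ⟨⟨s, m⟩, hsm⟩ := hns
  refine ⟨-s, m, ?_⟩
  intro z₁ z₂ hz
  by_cases hz2 : z₂ = 0
  · rw [hz2] at hz
    have : z₁ ^ 2 = 0 := by linear_combination hz
    exact ⟨pow_eq_zero_iff (by norm_num) |>.1 this, hz2⟩
  · exfalso
    apply hsm (z₁ / z₂, s - z₁ / z₂)
    simp only [φ]
    refine Prod.ext (by simp) ?_
    simp only
    field_simp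
    linear_combination (-1 : F) * hz

open Cfsg.Agent.Lib.Helper2.Quad QuadraticAlgebra in
theorem lemmaE (h2 : 2 ≤ Fintype.card F) : ∃ x : PSL2, orderOf x =
    (Fintype.card F + 1) / Nat.gcd 2 (Fintype.card F + 1) := by
  classical
  obtain ⟨a, b, hab⟩ := exists_aniso h2
  haveI := aniso_fact hab
  haveI := qa_finite (F := F) (-b) a
  haveI : Fintype (QuadraticAlgebra F (-b) a) := Fintype.ofFinite _
  have hK : Nat.card (QuadraticAlgebra F (-b) a) = Fintype.card F ^ 2 := qa_card _ _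
  obtain ⟨u, hu⟩ := IsCyclic.exists_generator (α := (QuadraticAlgebra F (-b) a)ˣ)
  have hou : orderOf u = Fintype.card F ^ 2 - 1 := by
    rw [orderOf_eq_card_of_forall_mem_zpowers hu, Nat.card_units, hK]
  have hfac : Fintype.card F ^ 2 - 1 = (Fintype.card F - 1) * (Fintype.card F + 1) := by
    obtain ⟨r, hr⟩ : ∃ r, Fintype.card F = r + 1 := ⟨Fintype.card F - 1, by omega⟩
    rw [hr]
    simp only [Nat.add_sub_cancel]
    apply Nat.sub_eq_of_eq_add
    ring
  have hq1 : 0 < Fintype.card F - 1 := by omega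
  obtain ⟨z0, hz0⟩ : ∃ z0 : QuadraticAlgebra F (-b) a,
      z0 = ((u ^ (Fintype.card F - 1) : (QuadraticAlgebra F (-b) a)ˣ) :
        QuadraticAlgebra F (-b) a) := ⟨_, rfl⟩
  have hoz : orderOf z0 = Fintype.card F + 1 := by
    rw [hz0, orderOf_units, orderOf_pow_of_dvd hq1.ne' ⟨Fintype.card F + 1, by rw [hou, hfac]⟩,
      hou, hfac, Nat.mul_div_cancel_left _ hq1]
  have hz0pow : z0 ^ (Fintype.card F + 1) = 1 := by
    rw [← hoz]; exact pow_orderOf_eq_one z0
  have hnorm : z0.re ^ 2 + a * z0.re * z0.im + b * z0.im ^ 2 = 1 := by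
    have h1 : z0 * star z0 = 1 := by
      rw [star_eq_pow hab z0, ← pow_succ']
      exact hz0pow
    rw [← algebraMap_norm_eq_mul_star] at h1
    have h3 : QuadraticAlgebra.norm z0 = 1 := by
      apply QuadraticAlgebra.algebraMap_injective (a := -b) (b := a)
      rw [h1, map_one]
    rw [QuadraticAlgebra.norm_def] at h3
    linear_combination h3
  let Mat : QuadraticAlgebra F (-b) a →* M2 :=
    { toFun := fun z => !![z.re, -b * z.im; z.im, z.re + a * z.im]
      map_one' := by
        rw [Matrix.one_fin_two]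
        apply ext2 <;> simp
      map_mul' := fun z w => by
        rw [Matrix.mul_fin_two]
        apply ext2 <;> simp [re_mul, im_mul] <;> ring }
  have hMat : ∀ z : QuadraticAlgebra F (-b) a,
      Mat z = !![z.re, -b * z.im; z.im, z.re + a * z.im] := fun z => rfl
  obtain ⟨g, hg⟩ : ∃ g : SL2, (g : M2) = Mat z0 :=
    ⟨⟨!![z0.re, -b * z0.im; z0.im, z0.re + a * z0.im], by
      rw [Matrix.det_fin_two_of]; linear_combination hnorm⟩, rfl⟩
  refine ⟨((g : SL2) : PSL2), ?_⟩
  rw [torus_order Mat ?_ z0 g hg (by rw [hoz]; omega), hoz]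
  intro z
  rw [hMat]
  simp only [scalar_fin_two]
  constructor
  · rintro ⟨r, hr, hrz⟩
    have h00 := congrFun (congrFun hrz 0) 0
    have h10 := congrFun (congrFun hrz 1) 0
    simp at h00 h10
    apply QuadraticAlgebra.ext
    · rw [re_mul, ← h10, ← h00]
      simp
      rw [← pow_two, hr]
    · rw [im_mul, ← h10]
      simp
  · intro hz
    have h3 : (z - 1) * (z + 1) = 0 := by linear_combination hz
    rcases mul_eq_zero.1 h3 with h | h
    · have hz1 : z = 1 := sub_eq_zero.1 h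
      refine ⟨1, one_pow 2, ?_⟩
      rw [hz1]
      apply ext2 <;> simp
    · have hz1 : z = -1 := eq_neg_of_add_eq_zero_left h
      refine ⟨-1, by simp, ?_⟩
      rw [hz1]
      apply ext2 <;> simp

end
/-- The set of element orders of PSL(2,q): let F be a finite field of characteristic p with q ≥ 4 elements and d = gcd(2, q − 1). The orders of elements of PSL(2,F) are exactly the divisors of p, of (q − 1)/d and of (q + 1)/d. -/
theorem result {F : Type*} [Field F] [Fintype F] (p : ℕ) [Fact p.Prime] [CharP F p] (h4 : 4 ≤ Fintype.card F) :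
    Set.range (orderOf : Matrix.ProjectiveSpecialLinearGroup (Fin 2) F → ℕ) =
      {m : ℕ | m ∣ p ∨ m ∣ (Fintype.card F - 1) / Nat.gcd 2 (Fintype.card F - 1) ∨ m ∣ (Fintype.card F + 1) / Nat.gcd 2 (Fintype.card F - 1)} := by
  classical
  have hp : p.Prime := Fact.out
  have h2 : 2 ≤ Fintype.card F := by omega
  ext m
  simp only [Set.mem_range, Set.mem_setOf_eq]
  constructor
  · rintro ⟨x, rfl⟩
    obtain ⟨g, rfl⟩ := QuotientGroup.mk_surjective x
    by_cases hpg : p ∣ orderOf g
    · left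
      exact lemmaB p g hpg
    · right
      exact lemmaA p g hpg
  · rintro (h | h | h)
    · obtain ⟨x, hx⟩ := lemmaC (F := F) p
      exact exists_of_dvd hx hp.pos h
    · obtain ⟨x, hx⟩ := lemmaD (F := F) h2
      have hpos : 0 < (Fintype.card F - 1) / Nat.gcd 2 (Fintype.card F - 1) :=
        Nat.div_pos (le_trans (Nat.gcd_le_left _ (by norm_num)) (by omega))
          (Nat.gcd_pos_of_pos_left _ (by norm_num))
      exact exists_of_dvd hx hpos h
    · obtain ⟨x, hx⟩ := lemmaE (F := F) h2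
      have hg : Nat.gcd 2 (Fintype.card F + 1) = Nat.gcd 2 (Fintype.card F - 1) := by
        have e : Fintype.card F + 1 = (Fintype.card F - 1) + 2 := by omega
        rw [e, Nat.gcd_add_self_right]
      rw [hg] at hx
      have hpos : 0 < (Fintype.card F + 1) / Nat.gcd 2 (Fintype.card F - 1) :=
        Nat.div_pos (le_trans (Nat.gcd_le_left _ (by norm_num)) (by omega))
          (Nat.gcd_pos_of_pos_left _ (by norm_num))
      exact exists_of_dvd hx hpos h

end Cfsg.Agent.S2475
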