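import Cfsg.Statements.S1217
import Mathlib
import Cfsg.Agent.S2475
import Cfsg.Agent.S0268
import Cfsg.Agent.Lib.Helper2.QuadExt


set_option autoImplicit false
open scoped MatrixGroups
open Cfsg

namespace Cfsg.Agent.S1217

theorem qd_of_equiv {S T : Type*} [Group S] [Group T] (e : S ≃* T)
    (h : Cfsg.IsQuasiDihedral S) : Cfsg.IsQuasiDihedral T := by
  obtain ⟨n, hn, hcard, x, y, hx, hy, hyx⟩ := h
  refine ⟨n, hn, ?_, e x, e y, ?_, ?_, ?_⟩
  · rw [← Nat.card_congr e.toEquiv, hcard]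
  · rw [MulEquiv.orderOf_eq, hx]
  · rw [MulEquiv.orderOf_eq, hy]
  · rw [← map_inv, ← map_mul, ← map_mul, hyx, map_pow]

theorem wr_of_equiv {S T : Type*} [Group S] [Group T] (e : S ≃* T)
    (h : Cfsg.IsWreathed S) : Cfsg.IsWreathed T := by
  obtain ⟨n, hn, hcard, x, y, z, hx, hxy, hxyb, hz, hzx⟩ := h
  refine ⟨n, hn, ?_, e x, e y, e z, ?_, ?_, ?_, ?_, ?_⟩
  · rw [← Nat.card_congr e.toEquiv, hcard]
  · rw [MulEquiv.orderOf_eq, hx]
  · rw [← map_mul, ← map_mul, hxy]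
  · rw [Subgroup.eq_bot_iff_forall]
    intro g hg
    obtain ⟨hg1, hg2⟩ := Subgroup.mem_inf.1 hg
    obtain ⟨i, hi⟩ := Subgroup.mem_zpowers_iff.1 hg1
    obtain ⟨j, hj⟩ := Subgroup.mem_zpowers_iff.1 hg2
    have h1 : e.symm g ∈ Subgroup.zpowers x ⊓ Subgroup.zpowers y := by
      refine Subgroup.mem_inf.2 ⟨?_, ?_⟩
      · rw [← hi, ← map_zpow, e.symm_apply_apply]; exact Subgroup.zpow_mem_zpowers x i
      · rw [← hj, ← map_zpow, e.symm_apply_apply]; exact Subgroup.zpow_mem_zpowers y j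
    rw [hxyb, Subgroup.mem_bot] at h1
    have := congrArg e h1
    rwa [e.apply_symm_apply, map_one] at this
  · rw [MulEquiv.orderOf_eq, hz]
  · rw [← map_inv, ← map_mul, ← map_mul, hzx]

theorem sylow_card {G : Type*} [Group G] [Finite G] (Q : Sylow 2 G) (k m : ℕ) (hm : Odd m)
    (h : Nat.card G = 2 ^ k * m) : Nat.card (Q : Subgroup G) = 2 ^ k := by
  rw [Q.card_eq_multiplicity, h, Nat.factorization_mul (by positivity) (hm.pos.ne'),
    Finsupp.add_apply, Nat.Prime.factorization_pow Nat.prime_two, Finsupp.single_eq_same,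
    Nat.factorization_eq_zero_of_not_dvd hm.not_two_dvd_nat, add_zero]

theorem zpowers_isPGroup {G : Type*} [Group G] (x : G) (n : ℕ) (hx : orderOf x = 2 ^ n) :
    IsPGroup 2 (Subgroup.zpowers x) :=
  IsPGroup.of_card (n := n) (by rw [Nat.card_zpowers, hx])

theorem exists_sylow_of_pair {G : Type*} [Group G] [Finite G] (x y : G) (k n : ℕ)
    (hx : orderOf x = 2 ^ n) (hy : orderOf y = 2) (hyx : y * x * y⁻¹ = x ^ k) :
    ∃ Q : Sylow 2 G, x ∈ Q ∧ y ∈ Q := by
  have hPx := zpowers_isPGroup x n hx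
  have hPy := zpowers_isPGroup y 1 (by rw [hy, pow_one])
  have hnorm : Subgroup.zpowers y ≤ Subgroup.normalizer (Subgroup.zpowers x : Set G) := by
    rw [Subgroup.zpowers_le]
    apply Subgroup.mem_normalizer_fintype
    intro g hg
    obtain ⟨j, hj⟩ := Subgroup.mem_zpowers_iff.1 hg
    rw [← hj, ← conj_zpow, hyx]
    exact Subgroup.zpow_mem _ (Subgroup.pow_mem _ (Subgroup.mem_zpowers x) k) j
  obtain ⟨Q, hQ⟩ := (hPy.to_sup_of_normal_right' hPx hnorm).exists_le_sylow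
  exact ⟨Q, hQ (Subgroup.mem_sup_right (Subgroup.mem_zpowers x)),
    hQ (Subgroup.mem_sup_left (Subgroup.mem_zpowers y))⟩

theorem exists_sylow_of_triple {G : Type*} [Group G] [Finite G] (x y z : G) (n : ℕ)
    (hx : orderOf x = 2 ^ n) (hxy : x * y = y * x) (hz : orderOf z = 2)
    (hzx : z * x * z⁻¹ = y) : ∃ Q : Sylow 2 G, x ∈ Q ∧ y ∈ Q ∧ z ∈ Q := by
  have hz2 : z * z = 1 := by
    have := pow_orderOf_eq_one z
    rwa [hz, pow_two] at this
  have hzinv : z⁻¹ = z := inv_eq_of_mul_eq_one_right hz2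
  have hzy : z * y * z⁻¹ = x := by
    rw [← hzx, hzinv]
    calc z * (z * x * z) * z = (z * z) * x * (z * z) := by group
      _ = x := by rw [hz2, one_mul, mul_one]
  have hy : orderOf y = 2 ^ n := by
    rw [← hzx, ← hx]
    exact MulEquiv.orderOf_eq (MulAut.conj z) x
  have hPx := zpowers_isPGroup x n hx
  have hPy := zpowers_isPGroup y n hy
  have hPz := zpowers_isPGroup z 1 (by rw [hz, pow_one])
  have hnorm1 : Subgroup.zpowers x ≤ Subgroup.normalizer (Subgroup.zpowers y : Set G) := by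
    rw [Subgroup.zpowers_le]
    apply Subgroup.mem_normalizer_fintype
    intro g hg
    obtain ⟨j, hj⟩ := Subgroup.mem_zpowers_iff.1 hg
    have hc : x * y ^ j * x⁻¹ = y ^ j := by
      rw [← conj_zpow]
      congr 1
      rw [hxy]; group
    rw [← hj, hc]
    exact Subgroup.zpow_mem_zpowers y j
  have hPA := hPx.to_sup_of_normal_right' hPy hnorm1
  have hnorm2 : Subgroup.zpowers z ≤
      Subgroup.normalizer ((Subgroup.zpowers x ⊔ Subgroup.zpowers y : Subgroup G) : Set G) := by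
    rw [Subgroup.zpowers_le]
    apply Subgroup.mem_normalizer_fintype
    intro g hg
    have h1 := Subgroup.mem_map_of_mem (MulAut.conj z).toMonoidHom hg
    rw [Subgroup.map_sup, MonoidHom.map_zpowers, MonoidHom.map_zpowers] at h1
    have e1 : (MulAut.conj z).toMonoidHom x = y := by
      show MulAut.conj z x = y
      rw [MulAut.conj_apply, hzx]
    have e2 : (MulAut.conj z).toMonoidHom y = x := by
      show MulAut.conj z y = x
      rw [MulAut.conj_apply, hzy]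
    rw [e1, e2, sup_comm] at h1
    exact h1
  obtain ⟨Q, hQ⟩ := (hPz.to_sup_of_normal_right' hPA hnorm2).exists_le_sylow
  refine ⟨Q, ?_, ?_, ?_⟩
  · exact hQ (Subgroup.mem_sup_right (Subgroup.mem_sup_left (Subgroup.mem_zpowers x)))
  · exact hQ (Subgroup.mem_sup_right (Subgroup.mem_sup_right (Subgroup.mem_zpowers y)))
  · exact hQ (Subgroup.mem_sup_left (Subgroup.mem_zpowers z))

/-- the regular representation of the quadratic extension -/
def Mat {F : Type*} [Field F] (a b : F) :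
    QuadraticAlgebra F (-b) a →* Matrix (Fin 2) (Fin 2) F where
  toFun z := !![z.re, -b * z.im; z.im, z.re + a * z.im]
  map_one' := by
    rw [Matrix.one_fin_two]
    apply Cfsg.Agent.S2475.ext2 <;> simp [QuadraticAlgebra.re_one, QuadraticAlgebra.im_one]
  map_mul' z w := by
    rw [Matrix.mul_fin_two]
    apply Cfsg.Agent.S2475.ext2 <;> simp [QuadraticAlgebra.re_mul, QuadraticAlgebra.im_mul] <;> ring

theorem Mat_apply {F : Type*} [Field F] (a b : F) (z : QuadraticAlgebra F (-b) a) :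
    Mat a b z = !![z.re, -b * z.im; z.im, z.re + a * z.im] := rfl

theorem Mat_injective {F : Type*} [Field F] (a b : F) : Function.Injective (Mat a b) := by
  intro z w h
  rw [Mat_apply, Mat_apply] at h
  have h00 := congrFun (congrFun h 0) 0
  have h10 := congrFun (congrFun h 1) 0
  simp at h00 h10
  exact QuadraticAlgebra.ext h00 h10

theorem card_gl_two {F : Type*} [Field F] [Fintype F] :
    Nat.card (GL (Fin 2) F) =
      (Fintype.card F - 1) * (Fintype.card F + 1) * (Fintype.card F * (Fintype.card F - 1)) := by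
  rw [Matrix.card_GL_field, Fin.prod_univ_two]
  obtain ⟨r, hr⟩ : ∃ r, Fintype.card F = r + 1 := ⟨Fintype.card F - 1, by
    have := Fintype.card_pos (α := F); omega⟩
  rw [hr]
  simp only [Nat.add_sub_cancel, Fin.val_zero, Fin.val_one, pow_zero, pow_one]
  congr 1
  · apply Nat.sub_eq_of_eq_add; ring
  · apply Nat.sub_eq_of_eq_add; ring

open Cfsg.Agent.Lib.Helper2.Quad QuadraticAlgebra in
theorem qd_part {F : Type*} [Field F] [Fintype F] (h3 : Fintype.card F % 4 = 3) :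
    ∃ Q : Sylow 2 (GL (Fin 2) F), Cfsg.IsQuasiDihedral (Q : Subgroup (GL (Fin 2) F)) := by
  classical
  have hodd : Odd (Fintype.card F) := by rw [Nat.odd_iff]; omega
  have h2ne : (2 : F) ≠ 0 := Cfsg.Agent.S0268.two_ne_zero_of_odd_card hodd
  obtain ⟨a, b, hab⟩ := Cfsg.Agent.S2475.exists_aniso (F := F) (by omega)
  haveI := aniso_fact hab
  haveI := qa_finite (F := F) (-b) a
  haveI : Fintype (QuadraticAlgebra F (-b) a) := Fintype.ofFinite _
  have hK : Nat.card (QuadraticAlgebra F (-b) a) = Fintype.card F ^ 2 := qa_card _ _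
  obtain ⟨u, hu⟩ := IsCyclic.exists_generator (α := (QuadraticAlgebra F (-b) a)ˣ)
  have hou : orderOf u = Fintype.card F ^ 2 - 1 := by
    rw [orderOf_eq_card_of_forall_mem_zpowers hu, Nat.card_units, hK]
  -- arithmetic
  obtain ⟨s, t, ht, hst⟩ := Nat.exists_eq_two_pow_mul_odd (n := Fintype.card F + 1) (by omega)
  obtain ⟨c, hc⟩ := ht
  have hs2 : 2 ≤ s := by
    by_contra hcon
    have hs : s = 0 ∨ s = 1 := by omega
    rcases hs with rfl | rfl
    · rw [pow_zero, one_mul] at hst; omega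
    · rw [pow_one] at hst; omega
  obtain ⟨w, hw⟩ : ∃ w, Fintype.card F - 1 = 2 * w := ⟨(Fintype.card F - 1) / 2, by omega⟩
  have hwodd : Odd w := by rw [Nat.odd_iff]; omega
  have htodd : Odd t := ⟨c, hc⟩
  have hfac : Fintype.card F ^ 2 - 1 = (Fintype.card F - 1) * (Fintype.card F + 1) := by
    obtain ⟨r, hr⟩ : ∃ r, Fintype.card F = r + 1 := ⟨Fintype.card F - 1, by omega⟩
    rw [hr]
    simp only [Nat.add_sub_cancel]
    apply Nat.sub_eq_of_eq_add
    ring
  have hfac2 : Fintype.card F ^ 2 - 1 = 2 ^ (s + 1) * (w * t) := by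
    rw [hfac, hw, hst]; ring
  have hwt : w * t ≠ 0 := Nat.mul_ne_zero hwodd.pos.ne' htodd.pos.ne'
  obtain ⟨x0, hx0⟩ : ∃ x0 : (QuadraticAlgebra F (-b) a)ˣ, x0 = u ^ (w * t) := ⟨_, rfl⟩
  have hox0 : orderOf x0 = 2 ^ (s + 1) := by
    rw [hx0, orderOf_pow_of_dvd hwt ⟨2 ^ (s + 1), by rw [hou, hfac2]; ring⟩, hou, hfac2,
      Nat.mul_div_cancel _ (Nat.pos_of_ne_zero hwt)]
  -- the matrices
  obtain ⟨X, hX⟩ : ∃ X : GL (Fin 2) F, X = Units.map (Mat a b) x0 := ⟨_, rfl⟩
  have hXval : ∀ k : ℕ, ((X ^ k : GL (Fin 2) F) : Matrix (Fin 2) (Fin 2) F) =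
      Mat a b ((x0 : QuadraticAlgebra F (-b) a) ^ k) := by
    intro k
    rw [hX, ← map_pow, Units.coe_map, Units.val_pow_eq_pow_val]
  have hXo : orderOf X = 2 ^ (s + 1) := by
    rw [hX, orderOf_injective _ (Units.map_injective (Mat_injective a b)), hox0]
  have hYY : (!![1, a; 0, -1] : Matrix (Fin 2) (Fin 2) F) * !![1, a; 0, -1] = 1 := by
    rw [Matrix.mul_fin_two, Matrix.one_fin_two]
    apply Cfsg.Agent.S2475.ext2 <;> simp
  obtain ⟨Y, hY⟩ : ∃ Y : GL (Fin 2) F, (Y : Matrix (Fin 2) (Fin 2) F) = !![1, a; 0, -1] :=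
    ⟨⟨!![1, a; 0, -1], !![1, a; 0, -1], hYY, hYY⟩, rfl⟩
  have hY2 : Y ^ 2 = 1 := by
    apply Units.ext
    rw [pow_two, Units.val_mul, hY, hYY]
    rfl
  have hYne : Y ≠ 1 := by
    intro h
    have h1 := congrArg (fun g : GL (Fin 2) F => (g : Matrix (Fin 2) (Fin 2) F) 1 1) h
    simp only [hY] at h1
    simp at h1
    apply h2ne
    linear_combination -h1
  have hYo : orderOf Y = 2 := orderOf_eq_prime hY2 hYne
  have hstar : ∀ z : QuadraticAlgebra F (-b) a,
      (!![1, a; 0, -1] : Matrix (Fin 2) (Fin 2) F) * Mat a b z =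
        Mat a b (star z) * !![1, a; 0, -1] := by
    intro z
    rw [Mat_apply, Mat_apply, Matrix.mul_fin_two, Matrix.mul_fin_two]
    apply Cfsg.Agent.S2475.ext2 <;> simp [re_star, im_star] <;> ring
  have hYX : Y * X * Y⁻¹ = X ^ Fintype.card F := by
    have h1 : Y * X = X ^ Fintype.card F * Y := by
      apply Units.ext
      rw [Units.val_mul, Units.val_mul, hXval, hY, ← star_eq_pow hab, ← hstar]
      have := hXval 1
      rw [pow_one, pow_one] at this
      rw [this]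
    rw [h1]; group
  have hqmod : Fintype.card F = 2 ^ (s + 1) * c + (2 ^ s - 1) := by
    have h1 : Fintype.card F + 1 = 2 ^ (s + 1) * c + 2 ^ s := by
      rw [hst, hc]; ring
    have h2 : 1 ≤ 2 ^ s := Nat.one_le_two_pow
    omega
  have hXq : X ^ Fintype.card F = X ^ (2 ^ s - 1) := by
    conv_lhs => rw [hqmod]
    rw [pow_add, pow_mul, ← hXo, pow_orderOf_eq_one, one_pow, one_mul]
  obtain ⟨Q, hxQ, hyQ⟩ := exists_sylow_of_pair X Y (2 ^ s - 1) (s + 1) hXo hYo (hYX.trans hXq)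
  have hcard : Nat.card (GL (Fin 2) F) = 2 ^ (s + 2) * (w * t * Fintype.card F * w) := by
    rw [card_gl_two, hw, hst]; ring
  have hm : Odd (w * t * Fintype.card F * w) := ((hwodd.mul htodd).mul hodd).mul hwodd
  refine ⟨Q, s + 1, by omega, sylow_card Q (s + 2) _ hm hcard, ⟨X, hxQ⟩, ⟨Y, hyQ⟩, ?_, ?_, ?_⟩
  · rw [Subgroup.orderOf_mk, hXo]
  · rw [Subgroup.orderOf_mk, hYo]
  · apply Subtype.ext
    rw [Nat.add_sub_cancel]
    simp only [Subgroup.coe_mul, Subgroup.coe_inv, Subgroup.coe_pow]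
    exact hYX.trans hXq

theorem wr_part {F : Type*} [Field F] [Fintype F] (h1 : Fintype.card F % 4 = 1) :
    ∃ Q : Sylow 2 (GL (Fin 2) F), Cfsg.IsWreathed (Q : Subgroup (GL (Fin 2) F)) := by
  classical
  have hodd : Odd (Fintype.card F) := by rw [Nat.odd_iff]; omega
  have h2ne : (2 : F) ≠ 0 := Cfsg.Agent.S0268.two_ne_zero_of_odd_card hodd
  have hq1 : 1 < Fintype.card F := Fintype.one_lt_card
  obtain ⟨u, hu⟩ := IsCyclic.exists_generator (α := Fˣ)
  have hou : orderOf u = Fintype.card F - 1 := by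
    rw [orderOf_eq_card_of_forall_mem_zpowers hu, Nat.card_units, Nat.card_eq_fintype_card]
  obtain ⟨n, w, hwodd, hnw⟩ := Nat.exists_eq_two_pow_mul_odd (n := Fintype.card F - 1) (by omega)
  obtain ⟨c, hc⟩ := hwodd
  have hn2 : 2 ≤ n := by
    by_contra hcon
    have hs : n = 0 ∨ n = 1 := by omega
    rcases hs with rfl | rfl
    · rw [pow_zero, one_mul] at hnw; omega
    · rw [pow_one] at hnw; omega
  have hwodd : Odd w := ⟨c, hc⟩
  obtain ⟨t, ht⟩ : ∃ t, Fintype.card F + 1 = 2 * t := ⟨(Fintype.card F + 1) / 2, by omega⟩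
  have htodd : Odd t := by rw [Nat.odd_iff]; omega
  obtain ⟨ζ, hζ⟩ : ∃ ζ : Fˣ, ζ = u ^ w := ⟨_, rfl⟩
  have hoζ : orderOf ζ = 2 ^ n := by
    rw [hζ, orderOf_pow_of_dvd hwodd.pos.ne' ⟨2 ^ n, by rw [hou, hnw]; ring⟩, hou, hnw,
      Nat.mul_div_cancel _ hwodd.pos]
  let d1 : Fˣ →* GL (Fin 2) F :=
    { toFun := fun r => ⟨!![(r : F), 0; 0, 1], !![((r⁻¹ : Fˣ) : F), 0; 0, 1], by
        rw [Matrix.mul_fin_two, Matrix.one_fin_two]
        apply Cfsg.Agent.S2475.ext2 <;> simp, by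
        rw [Matrix.mul_fin_two, Matrix.one_fin_two]
        apply Cfsg.Agent.S2475.ext2 <;> simp⟩
      map_one' := by
        apply Units.ext
        show !![((1 : Fˣ) : F), 0; 0, 1] = (1 : Matrix (Fin 2) (Fin 2) F)
        rw [Matrix.one_fin_two]
        apply Cfsg.Agent.S2475.ext2 <;> simp
      map_mul' := fun r r' => by
        apply Units.ext
        show !![((r * r' : Fˣ) : F), 0; 0, 1] =
          (!![(r : F), 0; 0, 1] : Matrix (Fin 2) (Fin 2) F) * !![(r' : F), 0; 0, 1]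
        rw [Matrix.mul_fin_two]
        apply Cfsg.Agent.S2475.ext2 <;> simp }
  let d2 : Fˣ →* GL (Fin 2) F :=
    { toFun := fun r => ⟨!![1, 0; 0, (r : F)], !![1, 0; 0, ((r⁻¹ : Fˣ) : F)], by
        rw [Matrix.mul_fin_two, Matrix.one_fin_two]
        apply Cfsg.Agent.S2475.ext2 <;> simp, by
        rw [Matrix.mul_fin_two, Matrix.one_fin_two]
        apply Cfsg.Agent.S2475.ext2 <;> simp⟩
      map_one' := by
        apply Units.ext
        show !![1, 0; 0, ((1 : Fˣ) : F)] = (1 : Matrix (Fin 2) (Fin 2) F)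
        rw [Matrix.one_fin_two]
        apply Cfsg.Agent.S2475.ext2 <;> simp
      map_mul' := fun r r' => by
        apply Units.ext
        show !![1, 0; 0, ((r * r' : Fˣ) : F)] =
          (!![1, 0; 0, (r : F)] : Matrix (Fin 2) (Fin 2) F) * !![1, 0; 0, (r' : F)]
        rw [Matrix.mul_fin_two]
        apply Cfsg.Agent.S2475.ext2 <;> simp }
  have hd1 : ∀ r : Fˣ, ((d1 r : GL (Fin 2) F) : Matrix (Fin 2) (Fin 2) F) = !![(r : F), 0; 0, 1] :=
    fun r => rfl
  have hd2 : ∀ r : Fˣ, ((d2 r : GL (Fin 2) F) : Matrix (Fin 2) (Fin 2) F) = !![1, 0; 0, (r : F)] :=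
    fun r => rfl
  have hd1inj : Function.Injective d1 := by
    intro r r' h
    have h1 := congrArg (fun g : GL (Fin 2) F => (g : Matrix (Fin 2) (Fin 2) F) 0 0) h
    simp only [hd1] at h1
    simp at h1
    exact Units.ext h1
  have hZZ : (!![0, 1; 1, 0] : Matrix (Fin 2) (Fin 2) F) * !![0, 1; 1, 0] = 1 := by
    rw [Matrix.mul_fin_two, Matrix.one_fin_two]
    apply Cfsg.Agent.S2475.ext2 <;> simp
  obtain ⟨Z, hZ⟩ : ∃ Z : GL (Fin 2) F, (Z : Matrix (Fin 2) (Fin 2) F) = !![0, 1; 1, 0] :=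
    ⟨⟨!![0, 1; 1, 0], !![0, 1; 1, 0], hZZ, hZZ⟩, rfl⟩
  have hZ2 : Z ^ 2 = 1 := by
    apply Units.ext
    rw [pow_two, Units.val_mul, hZ, hZZ]
    rfl
  have hZne : Z ≠ 1 := by
    intro h
    have h1 := congrArg (fun g : GL (Fin 2) F => (g : Matrix (Fin 2) (Fin 2) F) 0 0) h
    simp only [hZ] at h1
    simp at h1
  have hZo : orderOf Z = 2 := orderOf_eq_prime hZ2 hZne
  have hXo : orderOf (d1 ζ) = 2 ^ n := by
    rw [orderOf_injective _ hd1inj, hoζ]
  have hcomm : d1 ζ * d2 ζ = d2 ζ * d1 ζ := by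
    apply Units.ext
    rw [Units.val_mul, Units.val_mul, hd1, hd2, Matrix.mul_fin_two, Matrix.mul_fin_two]
    apply Cfsg.Agent.S2475.ext2 <;> simp
  have hZX : Z * d1 ζ * Z⁻¹ = d2 ζ := by
    have h1 : Z * d1 ζ = d2 ζ * Z := by
      apply Units.ext
      rw [Units.val_mul, Units.val_mul, hd1, hd2, hZ, Matrix.mul_fin_two, Matrix.mul_fin_two]
      apply Cfsg.Agent.S2475.ext2 <;> simp
    rw [h1]; group
  have hinf : Subgroup.zpowers (d1 ζ) ⊓ Subgroup.zpowers (d2 ζ) = ⊥ := by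
    rw [Subgroup.eq_bot_iff_forall]
    intro g hg
    obtain ⟨hg1, hg2⟩ := Subgroup.mem_inf.1 hg
    obtain ⟨i, hi⟩ := Subgroup.mem_zpowers_iff.1 hg1
    obtain ⟨j, hj⟩ := Subgroup.mem_zpowers_iff.1 hg2
    rw [← map_zpow] at hi hj
    have h00 := congrArg (fun g : GL (Fin 2) F => (g : Matrix (Fin 2) (Fin 2) F) 0 0)
      (hi.trans hj.symm)
    simp only [hd1, hd2] at h00
    simp at h00
    have hζi : ζ ^ i = 1 := by
      apply Units.ext
      rw [Units.val_zpow_eq_zpow_val, Units.val_one]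
      exact h00
    rw [← hi, hζi, map_one]
  obtain ⟨Q, hxQ, hyQ, hzQ⟩ := exists_sylow_of_triple (d1 ζ) (d2 ζ) Z n hXo hcomm hZo hZX
  have hcard : Nat.card (GL (Fin 2) F) = 2 ^ (2 * n + 1) * (w * t * Fintype.card F * w) := by
    rw [card_gl_two, hnw, ht]; ring
  have hm : Odd (w * t * Fintype.card F * w) := ((hwodd.mul htodd).mul hodd).mul hwodd
  refine ⟨Q, n, hn2, sylow_card Q (2 * n + 1) _ hm hcard, ⟨d1 ζ, hxQ⟩, ⟨d2 ζ, hyQ⟩, ⟨Z, hzQ⟩,
    ?_, ?_, ?_, ?_, ?_⟩
  · rw [Subgroup.orderOf_mk, hXo]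
  · apply Subtype.ext
    simp only [Subgroup.coe_mul]
    exact hcomm
  · rw [Subgroup.eq_bot_iff_forall]
    intro g hg
    obtain ⟨hg1, hg2⟩ := Subgroup.mem_inf.1 hg
    obtain ⟨i, hi⟩ := Subgroup.mem_zpowers_iff.1 hg1
    obtain ⟨j, hj⟩ := Subgroup.mem_zpowers_iff.1 hg2
    have h1 : (g : GL (Fin 2) F) ∈ Subgroup.zpowers (d1 ζ) ⊓ Subgroup.zpowers (d2 ζ) := by
      refine Subgroup.mem_inf.2 ⟨?_, ?_⟩
      · rw [← hi]; simp only [Subgroup.coe_zpow]; exact Subgroup.zpow_mem_zpowers _ i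
      · rw [← hj]; simp only [Subgroup.coe_zpow]; exact Subgroup.zpow_mem_zpowers _ j
    rw [hinf, Subgroup.mem_bot] at h1
    exact Subtype.ext h1
  · rw [Subgroup.orderOf_mk, hZo]
  · apply Subtype.ext
    simp only [Subgroup.coe_mul, Subgroup.coe_inv]
    exact hZX

/-- Let F be a finite field with q elements, q odd, and P a Sylow 2-subgroup of GL(2,F). If q ≡ 3 (mod 4) then P is quasi-dihedral; if q ≡ 1 (mod 4) then P is wreathed. -/
theorem result {F : Type*} [Field F] [Fintype F] (P : Sylow 2 (GL (Fin 2) F)) : (Fintype.card F % 4 = 3 → Cfsg.IsQuasiDihedral (P : Subgroup (GL (Fin 2) F))) ∧ (Fintype.card F % 4 = 1 → Cfsg.IsWreathed (P : Subgroup (GL (Fin 2) F))) := by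
  classical
  constructor
  · intro h3
    obtain ⟨Q, hQ⟩ := qd_part (F := F) h3
    exact qd_of_equiv (Sylow.equiv Q P) hQ
  · intro h1
    obtain ⟨Q, hQ⟩ := wr_part (F := F) h1
    exact wr_of_equiv (Sylow.equiv Q P) hQ


end Cfsg.Agent.S1217
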