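import Cfsg.Statements.S2507
import Mathlib
import Cfsg.Agent.Lib.Helper2.SL2Unip
import Cfsg.Agent.Lib.Helper2.SL2Nonsplit


set_option autoImplicit false
open Cfsg

namespace Cfsg.Agent.S2507

section grp
variable {G : Type*} [Group G] [Finite G]

theorem index_of_card (g : G) (c n : ℕ)
    (hc : Nat.card (Subgroup.centralizer ({g} : Set G)) = c)
    (hG : Nat.card G = n * c) : (Subgroup.centralizer ({g} : Set G)).index = n := by
  have h2 := (Subgroup.centralizer ({g} : Set G)).index_mul_card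
  rw [hc, hG] at h2
  have hc0 : 0 < c := by rw [← hc]; exact Nat.card_pos
  exact Nat.eq_of_mul_eq_mul_right hc0 h2

theorem index_cent_eq (g : G) : (Subgroup.centralizer ({g} : Set G)).index =
    Nat.card {h : G // ConjClasses.mk h = ConjClasses.mk g} := by
  have h1 := Cfsg.Agent.Lib.Helper2.card_class_mul_card_centralizer g
  have h2 := (Subgroup.centralizer ({g} : Set G)).index_mul_card
  exact Nat.eq_of_mul_eq_mul_right Nat.card_pos (h2.trans h1.symm)

theorem index_cent_conj {g h : G} (hc : IsConj g h) :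
    (Subgroup.centralizer ({g} : Set G)).index = (Subgroup.centralizer ({h} : Set G)).index := by
  rw [index_cent_eq, index_cent_eq, ConjClasses.mk_eq_mk_iff_isConj.2 hc]

end grp

theorem index_cent_equiv {G H : Type*} [Group G] [Group H] (φ : G ≃* H) (g : G) :
    (Subgroup.centralizer ({φ g} : Set H)).index = (Subgroup.centralizer ({g} : Set G)).index := by
  have h1 : Subgroup.centralizer ({g} : Set G) =
      (Subgroup.centralizer ({φ g} : Set H)).comap φ.toMonoidHom := by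
    ext x
    rw [Subgroup.mem_comap, Subgroup.mem_centralizer_singleton_iff,
      Subgroup.mem_centralizer_singleton_iff]
    show x * g = g * x ↔ φ x * φ g = φ g * φ x
    rw [← map_mul, ← map_mul, φ.injective.eq_iff]
  rw [h1, Subgroup.index_comap_of_surjective _ φ.surjective]

section sl
variable {F : Type*} [Field F]

theorem e00 (a b c d : F) : (!![a, b; c, d] : Matrix (Fin 2) (Fin 2) F) 0 0 = a := rfl
theorem e01 (a b c d : F) : (!![a, b; c, d] : Matrix (Fin 2) (Fin 2) F) 0 1 = b := rfl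
theorem e10 (a b c d : F) : (!![a, b; c, d] : Matrix (Fin 2) (Fin 2) F) 1 0 = c := rfl
theorem e11 (a b c d : F) : (!![a, b; c, d] : Matrix (Fin 2) (Fin 2) F) 1 1 = d := rfl

theorem val_eq (g : Matrix.SpecialLinearGroup (Fin 2) F) :
    (g : Matrix (Fin 2) (Fin 2) F) = !![(g : Matrix (Fin 2) (Fin 2) F) 0 0,
      (g : Matrix (Fin 2) (Fin 2) F) 0 1; (g : Matrix (Fin 2) (Fin 2) F) 1 0,
      (g : Matrix (Fin 2) (Fin 2) F) 1 1] := by
  apply Cfsg.Agent.S2475.ext2 <;> rfl

open Cfsg.Agent.Lib.Helper2.SL2Nonsplit in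
theorem upper_conj (g : Matrix.SpecialLinearGroup (Fin 2) F) (c : F) (v : Fin 2 → F) (hv : v ≠ 0)
    (hgv : (g : Matrix (Fin 2) (Fin 2) F).mulVec v = c • v) :
    ∃ x : Matrix.SpecialLinearGroup (Fin 2) F,
      ((x * g * x⁻¹ : Matrix.SpecialLinearGroup (Fin 2) F) : Matrix (Fin 2) (Fin 2) F) 1 0 = 0 := by
  have h0 : (g : Matrix (Fin 2) (Fin 2) F) 0 0 * v 0 + (g : Matrix (Fin 2) (Fin 2) F) 0 1 * v 1 =
      c * v 0 := by
    have h := congrFun hgv 0
    rw [Matrix.mulVec, dotProduct, Fin.sum_univ_two] at h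
    simpa using h
  have h1 : (g : Matrix (Fin 2) (Fin 2) F) 1 0 * v 0 + (g : Matrix (Fin 2) (Fin 2) F) 1 1 * v 1 =
      c * v 1 := by
    have h := congrFun hgv 1
    rw [Matrix.mulVec, dotProduct, Fin.sum_univ_two] at h
    simpa using h
  by_cases hv0 : v 0 = 0
  · have hv1 : v 1 ≠ 0 := by
      intro h
      apply hv
      funext i
      fin_cases i
      · exact hv0
      · exact h
    obtain ⟨x, hx⟩ : ∃ x : Matrix.SpecialLinearGroup (Fin 2) F,
        (x : Matrix (Fin 2) (Fin 2) F) = !![0, (v 1)⁻¹; -(v 1), 0] :=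
      ⟨⟨!![0, (v 1)⁻¹; -(v 1), 0], by
        rw [Matrix.det_fin_two_of, zero_mul, zero_sub, mul_neg, neg_neg, inv_mul_cancel₀ hv1]⟩, rfl⟩
    refine ⟨x, ?_⟩
    rw [Matrix.SpecialLinearGroup.coe_mul, Matrix.SpecialLinearGroup.coe_mul,
      Matrix.SpecialLinearGroup.coe_inv, hx, Matrix.adjugate_fin_two_of, val_eq g,
      Matrix.mul_fin_two, Matrix.mul_fin_two, e10]
    rw [hv0] at h0
    linear_combination (-(v 1)) * h0
  · obtain ⟨x, hx⟩ : ∃ x : Matrix.SpecialLinearGroup (Fin 2) F,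
        (x : Matrix (Fin 2) (Fin 2) F) = !![(v 0)⁻¹, 0; -(v 1), v 0] :=
      ⟨⟨!![(v 0)⁻¹, 0; -(v 1), v 0], by
        rw [Matrix.det_fin_two_of, zero_mul, sub_zero, inv_mul_cancel₀ hv0]⟩, rfl⟩
    refine ⟨x, ?_⟩
    rw [Matrix.SpecialLinearGroup.coe_mul, Matrix.SpecialLinearGroup.coe_mul,
      Matrix.SpecialLinearGroup.coe_inv, hx, Matrix.adjugate_fin_two_of, val_eq g,
      Matrix.mul_fin_two, Matrix.mul_fin_two, e10]
    linear_combination (-(v 1)) * h0 + (v 0) * h1

open Cfsg.Agent.Lib.Helper2.SL2Unip Cfsg.Agent.Lib.Helper2.SL2Tori in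
/-- an upper triangular element with distinct eigenvalues is conjugate to a diagonal one -/
theorem diag_conj (h : Matrix.SpecialLinearGroup (Fin 2) F)
    (h10 : (h : Matrix (Fin 2) (Fin 2) F) 1 0 = 0)
    (hne : (h : Matrix (Fin 2) (Fin 2) F) 0 0 ≠ (h : Matrix (Fin 2) (Fin 2) F) 1 1) :
    ∃ d : Matrix.SpecialLinearGroup (Fin 2) F, IsConj h d ∧ d ∈ Tsp F ∧
      (d : Matrix (Fin 2) (Fin 2) F) 0 0 = (h : Matrix (Fin 2) (Fin 2) F) 0 0 := by
  obtain ⟨a, ha⟩ : ∃ a, a = (h : Matrix (Fin 2) (Fin 2) F) 0 0 := ⟨_, rfl⟩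
  obtain ⟨b, hb⟩ : ∃ b, b = (h : Matrix (Fin 2) (Fin 2) F) 0 1 := ⟨_, rfl⟩
  obtain ⟨d, hd⟩ : ∃ d, d = (h : Matrix (Fin 2) (Fin 2) F) 1 1 := ⟨_, rfl⟩
  rw [← ha, ← hd] at hne
  have hda : d - a ≠ 0 := sub_ne_zero.2 (Ne.symm hne)
  obtain ⟨y, hy⟩ : ∃ y, y = -b / (d - a) := ⟨_, rfl⟩
  have hy' : b + y * (d - a) = 0 := by rw [hy]; field_simp; ring
  have hval : ((uu y * h * (uu y)⁻¹ : Matrix.SpecialLinearGroup (Fin 2) F) :
      Matrix (Fin 2) (Fin 2) F) = !![a, 0; 0, d] := by
    rw [Matrix.SpecialLinearGroup.coe_mul, Matrix.SpecialLinearGroup.coe_mul,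
      Matrix.SpecialLinearGroup.coe_inv, uu_val, Matrix.adjugate_fin_two_of, val_eq h, h10,
      ← ha, ← hb, ← hd, Matrix.mul_fin_two, Matrix.mul_fin_two]
    apply Cfsg.Agent.S2475.ext2
    · rw [e00, e00]; ring
    · rw [e01, e01]; linear_combination hy'
    · rw [e10, e10]; ring
    · rw [e11, e11]; ring
  refine ⟨uu y * h * (uu y)⁻¹, isConj_iff.2 ⟨uu y, rfl⟩, ?_, ?_⟩
  · rw [mem_Tsp, hval]
    exact ⟨rfl, rfl⟩
  · rw [hval, ha]; rfl

end sl

section main
variable {F : Type*} [Field F] [Fintype F]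

open Cfsg.Agent.Lib.Helper2.SL2Unip in
theorem zz_eq_one [CharP F 2] : (zz : Matrix.SpecialLinearGroup (Fin 2) F) = 1 := by
  apply Subtype.ext
  rw [zz_val, Matrix.SpecialLinearGroup.coe_one]
  apply Cfsg.Agent.S2475.ext2
  · rw [e00, Matrix.one_apply_eq, CharTwo.neg_eq]
  · rw [e01, Matrix.one_apply_ne (by decide)]
  · rw [e10, Matrix.one_apply_ne (by decide)]
  · rw [e11, Matrix.one_apply_eq, CharTwo.neg_eq]

open Cfsg.Agent.Lib.Helper2.SL2Unip in
theorem card_cent_uu_two [CharP F 2] {b : F} (hb : b ≠ 0) :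
    Nat.card (Subgroup.centralizer ({uu b} : Set (Matrix.SpecialLinearGroup (Fin 2) F))) =
      Fintype.card F := by
  rw [← Nat.card_eq_fintype_card]
  symm
  apply Nat.card_congr
  refine Equiv.ofBijective (fun y : F =>
    (⟨uu y, by have := sg_uu_mem_cent false y b; simpa [sg] using this⟩ :
      Subgroup.centralizer ({uu b} : Set (Matrix.SpecialLinearGroup (Fin 2) F)))) ⟨?_, ?_⟩
  · intro y y' h
    exact uu_injective (congrArg Subtype.val h)
  · rintro ⟨h, hh⟩
    rw [Subgroup.mem_centralizer_singleton_iff] at hh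
    obtain ⟨h10, heq⟩ := cent_uu hb h hh
    obtain ⟨s, y, hsy⟩ := cent_form h10 heq
    refine ⟨y, Subtype.ext ?_⟩
    show uu y = h
    rw [hsy]
    cases s
    · simp [sg]
    · simp [sg, zz_eq_one]

theorem sq_eq_one_two [CharP F 2] {a : F} (h : a ^ 2 = 1) : a = 1 := by
  have h2 : (2 : F) = 0 := CharTwo.two_eq_zero
  have h3 : (a - 1) ^ 2 = 0 := by linear_combination h + (1 - a) * h2
  exact sub_eq_zero.1 ((pow_eq_zero_iff two_ne_zero).1 h3)

theorem neg_one_mat [CharP F 2] : (-1 : Matrix (Fin 2) (Fin 2) F) = 1 := by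
  apply Cfsg.Agent.S2475.ext2 <;> simp [CharTwo.neg_eq]

open Cfsg.Agent.Lib.Helper2.SL2Unip Cfsg.Agent.Lib.Helper2.SL2Tori
  Cfsg.Agent.Lib.Helper2.SL2Nonsplit Cfsg.Agent.Lib.Helper2.Quad in
theorem classify [CharP F 2] (h4 : 4 ≤ Fintype.card F) (g : Matrix.SpecialLinearGroup (Fin 2) F) :
    (Subgroup.centralizer ({g} : Set (Matrix.SpecialLinearGroup (Fin 2) F))).index ∈
      ({1, Fintype.card F * (Fintype.card F - 1), Fintype.card F ^ 2 - 1,
        Fintype.card F * (Fintype.card F + 1)} : Set ℕ) := by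
  classical
  obtain ⟨k, hk⟩ : ∃ k, Fintype.card F = k + 1 := ⟨Fintype.card F - 1, by omega⟩
  have hG := card_sl2 (F := F)
  by_cases hev : ∃ (c : F) (v : Fin 2 → F), v ≠ 0 ∧ (g : Matrix (Fin 2) (Fin 2) F).mulVec v = c • v
  · obtain ⟨c, v, hv, hgv⟩ := hev
    obtain ⟨x, hx⟩ := upper_conj g c v hv hgv
    obtain ⟨h, hh⟩ : ∃ h, h = x * g * x⁻¹ := ⟨_, rfl⟩
    rw [← hh] at hx
    have hconj : IsConj g h := isConj_iff.2 ⟨x, hh.symm⟩
    rw [index_cent_conj hconj]
    have hdet := h.det_coe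
    rw [Matrix.det_fin_two, hx, mul_zero, sub_zero] at hdet
    by_cases hsq : (h : Matrix (Fin 2) (Fin 2) F) 0 0 ^ 2 = 1
    · have h00 : (h : Matrix (Fin 2) (Fin 2) F) 0 0 = 1 := sq_eq_one_two hsq
      have h11 : (h : Matrix (Fin 2) (Fin 2) F) 1 1 = 1 := by rw [h00, one_mul] at hdet; exact hdet
      have hu := eq_uu h00 h11 hx
      by_cases hb : (h : Matrix (Fin 2) (Fin 2) F) 0 1 = 0
      · left
        rw [hb, uu_zero] at hu
        rw [hu, Subgroup.index_eq_one, eq_top_iff]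
        intro y _
        rw [Subgroup.mem_centralizer_singleton_iff, mul_one, one_mul]
      · right; right; left
        rw [hu]
        apply index_of_card _ _ _ (card_cent_uu_two hb)
        rw [hG, hk, Nat.add_sub_cancel]
        have e1 : (k + 1) ^ 2 - 1 = k * (k + 2) := Nat.sub_eq_of_eq_add (by ring)
        rw [e1]; ring
    · right; right; right
      have hne : (h : Matrix (Fin 2) (Fin 2) F) 0 0 ≠ (h : Matrix (Fin 2) (Fin 2) F) 1 1 := by
        intro he
        apply hsq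
        rw [← he] at hdet
        rw [pow_two]; exact hdet
      obtain ⟨d, hhd, hdT, hd00⟩ := diag_conj h hx hne
      rw [index_cent_conj hhd]
      have hcd : Subgroup.centralizer ({d} : Set (Matrix.SpecialLinearGroup (Fin 2) F)) = Tsp F :=
        cent_diag hdT (by rw [hd00]; exact hsq)
      have hc : Nat.card (Subgroup.centralizer ({d} : Set (Matrix.SpecialLinearGroup (Fin 2) F))) =
          Fintype.card F - 1 := by rw [hcd, card_Tsp]
      apply index_of_card _ _ _ hc
      rw [hG]; ring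
  · right; left
    push Not at hev
    obtain ⟨a, b, hab⟩ := Cfsg.Agent.S2475.exists_aniso (F := F) (by omega)
    obtain ⟨x, hx⟩ := conj_into hab g hev
    obtain ⟨t, ht⟩ : ∃ t, t = x * g * x⁻¹ := ⟨_, rfl⟩
    rw [← ht] at hx
    have hconj : IsConj g t := isConj_iff.2 ⟨x, ht.symm⟩
    rw [index_cent_conj hconj]
    have ht1 : (t : Matrix (Fin 2) (Fin 2) F) ≠ 1 := by
      intro h1
      have ht1' : t = 1 := Subtype.ext (by rw [h1]; rfl)
      have hg1 : g = 1 := by
        have : x * g * x⁻¹ = 1 := by rw [← ht, ht1']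
        calc g = x⁻¹ * (x * g * x⁻¹) * x := by group
          _ = 1 := by rw [this]; group
      apply hev 1 ![1, 0] (by intro h; have := congrFun h 0; simp at this)
      rw [hg1, Matrix.SpecialLinearGroup.coe_one, Matrix.one_mulVec, one_smul]
    have hc : Nat.card (Subgroup.centralizer ({t} : Set (Matrix.SpecialLinearGroup (Fin 2) F))) =
        Fintype.card F + 1 := by
      rw [cent_ns hx ht1 (by rw [neg_one_mat]; exact ht1), card_Tns hab]
    exact index_of_card _ _ _ hc hG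

open Cfsg.Agent.Lib.Helper2.SL2Unip Cfsg.Agent.Lib.Helper2.SL2Tori
  Cfsg.Agent.Lib.Helper2.SL2Nonsplit Cfsg.Agent.Lib.Helper2.Quad in
theorem attained [CharP F 2] (h4 : 4 ≤ Fintype.card F) :
    (∃ g : Matrix.SpecialLinearGroup (Fin 2) F,
      (Subgroup.centralizer ({g} : Set (Matrix.SpecialLinearGroup (Fin 2) F))).index = 1) ∧
    (∃ g : Matrix.SpecialLinearGroup (Fin 2) F,
      (Subgroup.centralizer ({g} : Set (Matrix.SpecialLinearGroup (Fin 2) F))).index =
        Fintype.card F * (Fintype.card F - 1)) ∧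
    (∃ g : Matrix.SpecialLinearGroup (Fin 2) F,
      (Subgroup.centralizer ({g} : Set (Matrix.SpecialLinearGroup (Fin 2) F))).index =
        Fintype.card F ^ 2 - 1) ∧
    (∃ g : Matrix.SpecialLinearGroup (Fin 2) F,
      (Subgroup.centralizer ({g} : Set (Matrix.SpecialLinearGroup (Fin 2) F))).index =
        Fintype.card F * (Fintype.card F + 1)) := by
  classical
  obtain ⟨k, hk⟩ : ∃ k, Fintype.card F = k + 1 := ⟨Fintype.card F - 1, by omega⟩
  have hG := card_sl2 (F := F)
  refine ⟨⟨1, ?_⟩, ?_, ⟨uu 1, ?_⟩, ?_⟩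
  · rw [Subgroup.index_eq_one, eq_top_iff]
    intro y _
    rw [Subgroup.mem_centralizer_singleton_iff, mul_one, one_mul]
  · obtain ⟨a, b, hab⟩ := Cfsg.Agent.S2475.exists_aniso (F := F) (by omega)
    obtain ⟨t, ht, ht1, ht2⟩ := exists_t0 hab (by omega)
    refine ⟨t, ?_⟩
    have hc : Nat.card (Subgroup.centralizer ({t} : Set (Matrix.SpecialLinearGroup (Fin 2) F))) =
        Fintype.card F + 1 := by
      rw [cent_ns ht ht1 ht2, card_Tns hab]
    exact index_of_card _ _ _ hc hG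
  · apply index_of_card _ _ _ (card_cent_uu_two one_ne_zero)
    rw [hG, hk, Nat.add_sub_cancel]
    have e1 : (k + 1) ^ 2 - 1 = k * (k + 2) := Nat.sub_eq_of_eq_add (by ring)
    rw [e1]; ring
  · -- an element `a ≠ 0, 1`
    have hex : ∃ a : F, a ≠ 0 ∧ a ≠ 1 := by
      by_contra hcon
      push Not at hcon
      have hinj : Function.Injective (fun a : F => decide (a = 0)) := by
        intro a a' haa
        by_cases ha : a = 0
        · have ha' : a' = 0 := by simpa [ha] using haa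
          rw [ha, ha']
        · have ha' : a' ≠ 0 := by simpa [ha] using haa
          rw [hcon a ha, hcon a' ha']
      have h1 := Fintype.card_le_of_injective _ hinj
      rw [Fintype.card_bool] at h1
      omega
    obtain ⟨a, ha0, ha1⟩ := hex
    refine ⟨dsp F (Units.mk0 a ha0), ?_⟩
    have hdT : dsp F (Units.mk0 a ha0) ∈ Tsp F := ⟨_, rfl⟩
    have hsq : ((dsp F (Units.mk0 a ha0) : Matrix.SpecialLinearGroup (Fin 2) F) :
        Matrix (Fin 2) (Fin 2) F) 0 0 ^ 2 ≠ 1 := by
      rw [dsp_val, e00]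
      intro h
      exact ha1 (sq_eq_one_two h)
    have hc : Nat.card (Subgroup.centralizer ({dsp F (Units.mk0 a ha0)} :
        Set (Matrix.SpecialLinearGroup (Fin 2) F))) = Fintype.card F - 1 := by
      rw [cent_diag hdT hsq, card_Tsp]
    apply index_of_card _ _ _ hc
    rw [hG]; ring

theorem center_bot [CharP F 2] :
    Subgroup.center (Matrix.SpecialLinearGroup (Fin 2) F) = ⊥ := by
  rw [eq_bot_iff]
  intro A hA
  rw [Matrix.SpecialLinearGroup.mem_center_iff] at hA
  obtain ⟨r, hr, hA⟩ := hA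
  rw [Fintype.card_fin] at hr
  rw [sq_eq_one_two hr, map_one] at hA
  rw [Subgroup.mem_bot]
  exact Subtype.ext hA.symm

end main

/-- Let F be a finite field with q = 2^f ≥ 4 elements. The conjugacy class sizes of PSL(2,F) are exactly 1, q(q − 1), q² − 1 and q(q + 1). -/
theorem result {F : Type*} [Field F] [Fintype F]
    (h2 : 2 ∣ Fintype.card F) (h4 : 4 ≤ Fintype.card F) :
    Set.range (fun g : (Matrix.ProjectiveSpecialLinearGroup (Fin 2) F) => (Subgroup.centralizer ({g} : Set (Matrix.ProjectiveSpecialLinearGroup (Fin 2) F))).index) =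
      {1, Fintype.card F * (Fintype.card F - 1), Fintype.card F ^ 2 - 1, Fintype.card F * (Fintype.card F + 1)} := by
  classical
  have hchar : ringChar F = 2 := FiniteField.even_card_iff_char_two.2 (Nat.mod_eq_zero_of_dvd h2)
  haveI : CharP F 2 := ringChar.of_eq hchar
  have hinj : Function.Injective
      (QuotientGroup.mk' (Subgroup.center (Matrix.SpecialLinearGroup (Fin 2) F))) := by
    rw [← MonoidHom.ker_eq_bot_iff, QuotientGroup.ker_mk', center_bot]
  obtain ⟨φ, hφ⟩ : ∃ φ : Matrix.SpecialLinearGroup (Fin 2) F ≃*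
      Matrix.ProjectiveSpecialLinearGroup (Fin 2) F, True :=
    ⟨MulEquiv.ofBijective (QuotientGroup.mk' (Subgroup.center (Matrix.SpecialLinearGroup (Fin 2) F)))
      ⟨hinj, QuotientGroup.mk'_surjective _⟩, trivial⟩
  have key : ∀ g : Matrix.SpecialLinearGroup (Fin 2) F,
      (Subgroup.centralizer ({φ g} : Set (Matrix.ProjectiveSpecialLinearGroup (Fin 2) F))).index =
      (Subgroup.centralizer ({g} : Set (Matrix.SpecialLinearGroup (Fin 2) F))).index :=
    fun g => index_cent_equiv φ g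
  obtain ⟨⟨g1, hg1⟩, ⟨g2, hg2⟩, ⟨g3, hg3⟩, ⟨g4, hg4⟩⟩ := attained (F := F) h4
  ext n
  constructor
  · rintro ⟨gb, rfl⟩
    obtain ⟨g, rfl⟩ := φ.surjective gb
    show (Subgroup.centralizer ({φ g} : Set (Matrix.ProjectiveSpecialLinearGroup (Fin 2) F))).index ∈ _
    rw [key]
    exact classify h4 g
  · intro hn
    rcases hn with rfl | rfl | rfl | rfl
    · exact ⟨φ g1, by show (Subgroup.centralizer ({φ g1} : Set _)).index = _; rw [key, hg1]⟩
    · exact ⟨φ g2, by show (Subgroup.centralizer ({φ g2} : Set _)).index = _; rw [key, hg2]⟩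
    · exact ⟨φ g3, by show (Subgroup.centralizer ({φ g3} : Set _)).index = _; rw [key, hg3]⟩
    · exact ⟨φ g4, by show (Subgroup.centralizer ({φ g4} : Set _)).index = _; rw [key, hg4]⟩


end Cfsg.Agent.S2507
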