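import Cfsg.Statements.S2508
import Mathlib
import Cfsg.Agent.S2507


set_option autoImplicit false
open Cfsg

namespace Cfsg.Agent.S2508

open Cfsg.Agent.S2507 (index_of_card index_cent_conj upper_conj diag_conj e00 e01 e10 e11 val_eq)
open Cfsg.Agent.Lib.Helper2.SL2Unip Cfsg.Agent.Lib.Helper2.SL2Tori
  Cfsg.Agent.Lib.Helper2.SL2Nonsplit Cfsg.Agent.Lib.Helper2.Quad
open Cfsg.Agent.S1217 (Mat Mat_apply Mat_injective)

section
variable {F : Type*} [Field F]

/-- the projection -/
def pr : Matrix.SpecialLinearGroup (Fin 2) F →* Matrix.ProjectiveSpecialLinearGroup (Fin 2) F :=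
  QuotientGroup.mk' (Subgroup.center (Matrix.SpecialLinearGroup (Fin 2) F))

theorem pr_surj : Function.Surjective (pr (F := F)) := QuotientGroup.mk'_surjective _

theorem mem_center (A : Matrix.SpecialLinearGroup (Fin 2) F) :
    A ∈ Subgroup.center (Matrix.SpecialLinearGroup (Fin 2) F) ↔ A = 1 ∨ A = zz := by
  rw [Matrix.SpecialLinearGroup.mem_center_iff, Fintype.card_fin]
  constructor
  · rintro ⟨r, hr, hA⟩
    have h3 : (r - 1) * (r + 1) = 0 := by linear_combination hr
    rcases mul_eq_zero.1 h3 with h | h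
    · left
      apply Subtype.ext
      rw [← hA, sub_eq_zero.1 h, map_one]; rfl
    · right
      apply Subtype.ext
      rw [← hA, eq_neg_of_add_eq_zero_left h, zz_val, Cfsg.Agent.S2475.scalar_fin_two]
  · rintro (rfl | rfl)
    · exact ⟨1, one_pow 2, by rw [map_one]; rfl⟩
    · exact ⟨-1, by ring, by rw [zz_val, Cfsg.Agent.S2475.scalar_fin_two]⟩

theorem pr_eq_iff (x y : Matrix.SpecialLinearGroup (Fin 2) F) :
    pr x = pr y ↔ x⁻¹ * y = 1 ∨ x⁻¹ * y = zz := by
  show (QuotientGroup.mk x : Matrix.SpecialLinearGroup (Fin 2) F ⧸ _) = QuotientGroup.mk y ↔ _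
  rw [QuotientGroup.eq, mem_center]

theorem zz_cancel (x : Matrix.SpecialLinearGroup (Fin 2) F) : zz * (zz * x) = x := by
  rw [← mul_assoc, zz_sq, one_mul]

theorem comm_zz (x y : Matrix.SpecialLinearGroup (Fin 2) F) : x * (zz * y) = zz * (x * y) := by
  rw [← mul_assoc, ← zz_comm, mul_assoc]

theorem mem_cst (g h : Matrix.SpecialLinearGroup (Fin 2) F) :
    pr h * pr g = pr g * pr h ↔ h * g = g * h ∨ h * g = zz * (g * h) := by
  rw [← map_mul, ← map_mul, eq_comm, pr_eq_iff, inv_mul_eq_one, inv_mul_eq_iff_eq_mul,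
    ← zz_comm]
  constructor
  · rintro (h1 | h1)
    · left; exact h1.symm
    · right; exact h1
  · rintro (h1 | h1)
    · left; exact h1.symm
    · right; exact h1

theorem zz_mul_val (g : Matrix.SpecialLinearGroup (Fin 2) F) :
    ((zz * g : Matrix.SpecialLinearGroup (Fin 2) F) : Matrix (Fin 2) (Fin 2) F) =
      -(g : Matrix (Fin 2) (Fin 2) F) := by
  rw [Matrix.SpecialLinearGroup.coe_mul, zz_val]
  apply Cfsg.Agent.S2475.ext2 <;> rw [Cfsg.Agent.S2475.mul2] <;> simp [e00, e01, e10, e11]

theorem zz_ne_one (h2 : (2 : F) ≠ 0) : (zz : Matrix.SpecialLinearGroup (Fin 2) F) ≠ 1 := by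
  intro h
  have h1 := congrArg (fun A : Matrix.SpecialLinearGroup (Fin 2) F =>
    (A : Matrix (Fin 2) (Fin 2) F) 0 0) h
  simp only [zz_val, e00, Matrix.SpecialLinearGroup.coe_one, Matrix.one_apply_eq] at h1
  apply h2
  linear_combination (-1 : F) * h1

theorem fuse_trace (h2 : (2 : F) ≠ 0) {g : Matrix.SpecialLinearGroup (Fin 2) F}
    (h : IsConj g (zz * g)) :
    (g : Matrix (Fin 2) (Fin 2) F) 0 0 + (g : Matrix (Fin 2) (Fin 2) F) 1 1 = 0 := by
  obtain ⟨x, hx⟩ := isConj_iff.1 h
  have h1 := trace_conj x g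
  rw [hx, zz_mul_val, Matrix.trace_neg, Matrix.trace_fin_two] at h1
  apply mul_left_cancel₀ h2
  linear_combination (-1 : F) * h1

theorem sq_of_trace_zero (g : Matrix.SpecialLinearGroup (Fin 2) F)
    (h : (g : Matrix (Fin 2) (Fin 2) F) 0 0 + (g : Matrix (Fin 2) (Fin 2) F) 1 1 = 0) :
    g * g = zz := by
  have hdet := g.det_coe
  rw [Matrix.det_fin_two] at hdet
  apply Subtype.ext
  rw [Matrix.SpecialLinearGroup.coe_mul, zz_val]
  apply Cfsg.Agent.S2475.ext2
  · rw [Cfsg.Agent.S2475.mul2, e00]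
    linear_combination (-1 : F) * hdet + (g : Matrix (Fin 2) (Fin 2) F) 0 0 * h
  · rw [Cfsg.Agent.S2475.mul2, e01]
    linear_combination (g : Matrix (Fin 2) (Fin 2) F) 0 1 * h
  · rw [Cfsg.Agent.S2475.mul2, e10]
    linear_combination (g : Matrix (Fin 2) (Fin 2) F) 1 0 * h
  · rw [Cfsg.Agent.S2475.mul2, e11]
    linear_combination (-1 : F) * hdet + (g : Matrix (Fin 2) (Fin 2) F) 1 1 * h

theorem inv_of_sq {t : Matrix.SpecialLinearGroup (Fin 2) F} (h : t * t = zz) : t⁻¹ = zz * t := by
  apply inv_eq_of_mul_eq_one_left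
  rw [mul_assoc, h, zz_sq]

end

section finite
variable {F : Type*} [Field F] [Fintype F]

theorem idx_central (g : Matrix.SpecialLinearGroup (Fin 2) F)
    (hg : g ∈ Subgroup.center (Matrix.SpecialLinearGroup (Fin 2) F)) :
    (Subgroup.centralizer ({pr g} : Set (Matrix.ProjectiveSpecialLinearGroup (Fin 2) F))).index =
      1 := by
  have h1 : pr g = 1 := (QuotientGroup.eq_one_iff g).2 hg
  rw [h1, Subgroup.index_eq_one, eq_top_iff]
  intro y _
  rw [Subgroup.mem_centralizer_singleton_iff, mul_one, one_mul]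

theorem idx_nofuse (g : Matrix.SpecialLinearGroup (Fin 2) F) (c n : ℕ)
    (hc : Nat.card (Subgroup.centralizer ({g} : Set (Matrix.SpecialLinearGroup (Fin 2) F))) = c)
    (hG : Nat.card (Matrix.SpecialLinearGroup (Fin 2) F) = n * c)
    (hnf : ¬ IsConj g (zz * g)) :
    (Subgroup.centralizer ({pr g} : Set (Matrix.ProjectiveSpecialLinearGroup (Fin 2) F))).index =
      n := by
  have h1 : Subgroup.centralizer ({g} : Set (Matrix.SpecialLinearGroup (Fin 2) F)) =
      (Subgroup.centralizer ({pr g} :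
        Set (Matrix.ProjectiveSpecialLinearGroup (Fin 2) F))).comap pr := by
    ext h
    rw [Subgroup.mem_comap, Subgroup.mem_centralizer_singleton_iff,
      Subgroup.mem_centralizer_singleton_iff, mem_cst]
    constructor
    · intro hh; left; exact hh
    · rintro (hh | hh)
      · exact hh
      · exfalso
        apply hnf
        rw [isConj_iff]
        exact ⟨h, by rw [hh]; group⟩
  rw [← Subgroup.index_comap_of_surjective _ pr_surj, ← h1]
  exact index_of_card g c n hc hG

theorem idx_fuse (h2 : (2 : F) ≠ 0) (g : Matrix.SpecialLinearGroup (Fin 2) F) (c n : ℕ)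
    (hc : Nat.card (Subgroup.centralizer ({g} : Set (Matrix.SpecialLinearGroup (Fin 2) F))) = c)
    (hG : Nat.card (Matrix.SpecialLinearGroup (Fin 2) F) = (2 * n) * c)
    (hf : IsConj g (zz * g)) :
    (Subgroup.centralizer ({pr g} : Set (Matrix.ProjectiveSpecialLinearGroup (Fin 2) F))).index =
      n := by
  obtain ⟨h₀, hh₀⟩ := isConj_iff.1 hf
  have hh₀' : h₀ * g = zz * (g * h₀) := by
    calc h₀ * g = (h₀ * g * h₀⁻¹) * h₀ := by group
      _ = zz * g * h₀ := by rw [hh₀]
      _ = zz * (g * h₀) := mul_assoc _ _ _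
  obtain ⟨Cst, hCst⟩ : ∃ Cst : Subgroup (Matrix.SpecialLinearGroup (Fin 2) F), Cst =
      (Subgroup.centralizer ({pr g} :
        Set (Matrix.ProjectiveSpecialLinearGroup (Fin 2) F))).comap pr := ⟨_, rfl⟩
  have hmem : ∀ h, h ∈ Cst ↔ h * g = g * h ∨ h * g = zz * (g * h) := by
    intro h
    rw [hCst, Subgroup.mem_comap, Subgroup.mem_centralizer_singleton_iff, mem_cst]
  have hle : Subgroup.centralizer ({g} : Set (Matrix.SpecialLinearGroup (Fin 2) F)) ≤ Cst := by
    intro h hh
    rw [hmem]
    left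
    exact Subgroup.mem_centralizer_singleton_iff.1 hh
  have hh₀C : h₀ ∈ Cst := by rw [hmem]; right; exact hh₀'
  have hidx : ((Subgroup.centralizer ({g} :
      Set (Matrix.SpecialLinearGroup (Fin 2) F))).subgroupOf Cst).index = 2 := by
    apply index_two_of _ ⟨h₀, hh₀C⟩
    · rw [Subgroup.mem_subgroupOf]
      intro hm
      have h3 : h₀ * g = g * h₀ := Subgroup.mem_centralizer_singleton_iff.1 hm
      rw [hh₀'] at h3
      exact zz_ne_one h2 (mul_right_cancel (h3.trans (one_mul _).symm))
    · intro b hb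
      rw [Subgroup.mem_subgroupOf] at hb ⊢
      have hbC := (hmem b.1).1 b.2
      rcases hbC with h | h
      · exact absurd (Subgroup.mem_centralizer_singleton_iff.2 h) hb
      · rw [Subgroup.mem_centralizer_singleton_iff]
        show (b.1 * h₀) * g = g * (b.1 * h₀)
        calc b.1 * h₀ * g = b.1 * (h₀ * g) := mul_assoc _ _ _
          _ = b.1 * (zz * (g * h₀)) := by rw [hh₀']
          _ = zz * (b.1 * (g * h₀)) := comm_zz _ _
          _ = zz * ((b.1 * g) * h₀) := by rw [mul_assoc]
          _ = zz * ((zz * (g * b.1)) * h₀) := by rw [h]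
          _ = zz * (zz * ((g * b.1) * h₀)) := by rw [mul_assoc zz]
          _ = (g * b.1) * h₀ := zz_cancel _
          _ = g * (b.1 * h₀) := mul_assoc _ _ _
  have h3 := Subgroup.relIndex_mul_index hle
  have h4 : (Subgroup.centralizer ({g} : Set (Matrix.SpecialLinearGroup (Fin 2) F))).index =
      2 * n := index_of_card g c (2 * n) hc hG
  rw [← Subgroup.index_comap_of_surjective _ pr_surj, ← hCst]
  have h5 : (Subgroup.centralizer ({g} : Set (Matrix.SpecialLinearGroup (Fin 2) F))).relIndex Cst =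
      2 := hidx
  rw [h5, h4] at h3
  omega

theorem idx_conj {g h : Matrix.SpecialLinearGroup (Fin 2) F} (hc : IsConj g h) :
    (Subgroup.centralizer ({pr g} : Set (Matrix.ProjectiveSpecialLinearGroup (Fin 2) F))).index =
    (Subgroup.centralizer ({pr h} : Set (Matrix.ProjectiveSpecialLinearGroup (Fin 2) F))).index :=
  index_cent_conj (pr.map_isConj hc)

/-- arithmetic facts for odd `q = 2 m + 1` -/
theorem arith (m : ℕ) :
    ((2 * m + 1) ^ 2 - 1) / 2 = 2 * m * (m + 1) ∧
    (2 * m + 1) * (2 * m + 1 + 1) / 2 = (2 * m + 1) * (m + 1) ∧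
    (2 * m + 1) * (2 * m + 1 - 1) / 2 = (2 * m + 1) * m := by
  refine ⟨?_, ?_, ?_⟩
  · have e1 : (2 * m + 1) ^ 2 - 1 = 2 * (2 * m * (m + 1)) := Nat.sub_eq_of_eq_add (by ring)
    rw [e1]; exact Nat.mul_div_cancel_left _ (by norm_num)
  · have e1 : (2 * m + 1) * (2 * m + 1 + 1) = 2 * ((2 * m + 1) * (m + 1)) := by ring
    rw [e1]; exact Nat.mul_div_cancel_left _ (by norm_num)
  · have e1 : (2 * m + 1) * (2 * m + 1 - 1) = 2 * ((2 * m + 1) * m) := by
      rw [Nat.add_sub_cancel]; ring
    rw [e1]; exact Nat.mul_div_cancel_left _ (by norm_num)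

theorem cent_sg_uu (s : Bool) (b : F) :
    Subgroup.centralizer ({sg s * uu b} : Set (Matrix.SpecialLinearGroup (Fin 2) F)) =
      Subgroup.centralizer ({uu b} : Set (Matrix.SpecialLinearGroup (Fin 2) F)) := by
  ext h
  rw [Subgroup.mem_centralizer_singleton_iff, Subgroup.mem_centralizer_singleton_iff]
  have e1 : h * (sg s * uu b) = sg s * (h * uu b) := by
    rw [← mul_assoc, ← sg_comm s h, mul_assoc]
  rw [e1, mul_assoc]
  exact mul_right_inj (sg s)

/-- type 2: `±` unipotent -/
theorem idx_unip (h2 : (2 : F) ≠ 0) (m : ℕ) (hm : Fintype.card F = 2 * m + 1) (s : Bool) {b : F}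
    (hb : b ≠ 0) :
    (Subgroup.centralizer ({pr (sg s * uu b)} :
      Set (Matrix.ProjectiveSpecialLinearGroup (Fin 2) F))).index = (Fintype.card F ^ 2 - 1) / 2 := by
  have hc : Nat.card (Subgroup.centralizer ({sg s * uu b} :
      Set (Matrix.SpecialLinearGroup (Fin 2) F))) = 2 * Fintype.card F := by
    rw [cent_sg_uu, card_cent_uu h2 hb]
  apply idx_nofuse _ _ _ hc
  · rw [card_sl2, hm, (arith m).1, Nat.add_sub_cancel]; ring
  · intro hf
    have h1 := fuse_trace h2 hf
    rw [sg_uu_val, e00, e11] at h1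
    have h3 : (es s : F) = 0 := by
      apply mul_left_cancel₀ h2
      linear_combination h1
    exact es_ne_zero s h3

/-- type 3: split semisimple -/
theorem idx_split (h2 : (2 : F) ≠ 0) (m : ℕ) (hm : Fintype.card F = 2 * m + 1)
    {d : Matrix.SpecialLinearGroup (Fin 2) F} (hd : d ∈ Tsp F)
    (hda : (d : Matrix (Fin 2) (Fin 2) F) 0 0 ^ 2 ≠ 1) :
    ((d : Matrix (Fin 2) (Fin 2) F) 0 0 ^ 2 = -1 →
      (Subgroup.centralizer ({pr d} :
        Set (Matrix.ProjectiveSpecialLinearGroup (Fin 2) F))).index =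
          Fintype.card F * (Fintype.card F + 1) / 2) ∧
    ((d : Matrix (Fin 2) (Fin 2) F) 0 0 ^ 2 ≠ -1 →
      (Subgroup.centralizer ({pr d} :
        Set (Matrix.ProjectiveSpecialLinearGroup (Fin 2) F))).index =
          Fintype.card F * (Fintype.card F + 1)) := by
  have hc : Nat.card (Subgroup.centralizer ({d} :
      Set (Matrix.SpecialLinearGroup (Fin 2) F))) = Fintype.card F - 1 := by
    rw [cent_diag hd hda, card_Tsp]
  have hdet := diag_det hd
  obtain ⟨d01, d10⟩ := mem_Tsp.1 hd
  constructor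
  · intro ha
    apply idx_fuse h2 _ _ _ hc
    · rw [card_sl2, hm, (arith m).2.1, Nat.add_sub_cancel]; ring
    · obtain ⟨w, hw⟩ : ∃ w : Matrix.SpecialLinearGroup (Fin 2) F,
          (w : Matrix (Fin 2) (Fin 2) F) = !![0, 1; -1, 0] :=
        ⟨⟨!![0, 1; -1, 0], by rw [Matrix.det_fin_two_of]; ring⟩, rfl⟩
      have hwanti : IsAnti w := by
        constructor
        · rw [hw, e00]
        · rw [hw, e11]
      have hdd : d * d = zz := by
        apply Subtype.ext
        rw [Matrix.SpecialLinearGroup.coe_mul, zz_val]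
        apply Cfsg.Agent.S2475.ext2
        · rw [Cfsg.Agent.S2475.mul2, e00, d01]; linear_combination ha
        · rw [Cfsg.Agent.S2475.mul2, e01, d01]; ring
        · rw [Cfsg.Agent.S2475.mul2, e10, d10]; ring
        · rw [Cfsg.Agent.S2475.mul2, e11, d10]
          linear_combination ((d : Matrix (Fin 2) (Fin 2) F) 1 1 ^ 2) * ha -
            ((d : Matrix (Fin 2) (Fin 2) F) 0 0 * (d : Matrix (Fin 2) (Fin 2) F) 1 1 + 1) * hdet
      rw [isConj_iff]
      exact ⟨w, by rw [anti_conj hwanti hd, inv_of_sq hdd]⟩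
  · intro ha
    apply idx_nofuse _ _ _ hc
    · rw [card_sl2]; ring
    · intro hf
      have h1 := fuse_trace h2 hf
      apply ha
      linear_combination (d : Matrix (Fin 2) (Fin 2) F) 0 0 * h1 - hdet

/-- type 4: non-split semisimple -/
theorem idx_ns (h2 : (2 : F) ≠ 0) (m : ℕ) (hm : Fintype.card F = 2 * m + 1) {a b : F}
    (hab : Aniso a b) {t : Matrix.SpecialLinearGroup (Fin 2) F} (ht : t ∈ Tns a b)
    (ht1 : (t : Matrix (Fin 2) (Fin 2) F) ≠ 1) (ht2 : (t : Matrix (Fin 2) (Fin 2) F) ≠ -1) :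
    ((t : Matrix (Fin 2) (Fin 2) F) 0 0 + (t : Matrix (Fin 2) (Fin 2) F) 1 1 = 0 →
      (Subgroup.centralizer ({pr t} :
        Set (Matrix.ProjectiveSpecialLinearGroup (Fin 2) F))).index =
          Fintype.card F * (Fintype.card F - 1) / 2 ∧ ¬ IsSquare (-1 : F)) ∧
    ((t : Matrix (Fin 2) (Fin 2) F) 0 0 + (t : Matrix (Fin 2) (Fin 2) F) 1 1 ≠ 0 →
      (Subgroup.centralizer ({pr t} :
        Set (Matrix.ProjectiveSpecialLinearGroup (Fin 2) F))).index =
          Fintype.card F * (Fintype.card F - 1)) := by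
  have hc : Nat.card (Subgroup.centralizer ({t} :
      Set (Matrix.SpecialLinearGroup (Fin 2) F))) = Fintype.card F + 1 := by
    rw [cent_ns ht ht1 ht2, card_Tns hab]
  constructor
  · intro htr
    have htt := sq_of_trace_zero t htr
    constructor
    · apply idx_fuse h2 _ _ _ hc
      · rw [card_sl2, hm, (arith m).2.2, Nat.add_sub_cancel]; ring
      · obtain ⟨g₀, hg₀⟩ := exists_anti hab
        rw [isConj_iff]
        exact ⟨g₀, by rw [ns_conj hg₀ ht, inv_of_sq htt]⟩
    · rintro ⟨i, hi⟩
      haveI := aniso_fact hab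
      obtain ⟨z, hz⟩ := mem_Tns.1 ht
      have him := im_ne_zero hz ht1 ht2
      have hzz : z * z = algebraMap F _ (-1) := by
        apply Mat_injective a b
        rw [map_mul, ← hz, ← Matrix.SpecialLinearGroup.coe_mul, htt, zz_val, Mat_algebraMap]
      have hprod : (z - algebraMap F _ i) * (z + algebraMap F _ i) = 0 := by
        have : (algebraMap F (QuadraticAlgebra F (-b) a) i) * (algebraMap F _ i) =
            algebraMap F _ (-1) := by rw [← map_mul, ← hi]
        linear_combination hzz - this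
      rcases mul_eq_zero.1 hprod with h | h
      · apply him
        rw [sub_eq_zero.1 h, QuadraticAlgebra.algebraMap_im]
      · apply him
        rw [eq_neg_of_add_eq_zero_left h, QuadraticAlgebra.im_neg, QuadraticAlgebra.algebraMap_im,
          neg_zero]
  · intro htr
    apply idx_nofuse _ _ _ hc
    · rw [card_sl2]
    · intro hf
      exact htr (fuse_trace h2 hf)

/-- the classification of the possible indices -/
theorem classify (h2 : (2 : F) ≠ 0) (m : ℕ) (hm : Fintype.card F = 2 * m + 1) (hq : 3 ≤ Fintype.card F)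
    (g : Matrix.SpecialLinearGroup (Fin 2) F) :
    (Subgroup.centralizer ({pr g} : Set (Matrix.ProjectiveSpecialLinearGroup (Fin 2) F))).index = 1 ∨
    (Subgroup.centralizer ({pr g} : Set (Matrix.ProjectiveSpecialLinearGroup (Fin 2) F))).index =
      (Fintype.card F ^ 2 - 1) / 2 ∨
    ((Subgroup.centralizer ({pr g} : Set (Matrix.ProjectiveSpecialLinearGroup (Fin 2) F))).index =
      Fintype.card F * (Fintype.card F + 1) / 2 ∧ IsSquare (-1 : F)) ∨
    (Subgroup.centralizer ({pr g} : Set (Matrix.ProjectiveSpecialLinearGroup (Fin 2) F))).index =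
      Fintype.card F * (Fintype.card F + 1) ∨
    ((Subgroup.centralizer ({pr g} : Set (Matrix.ProjectiveSpecialLinearGroup (Fin 2) F))).index =
      Fintype.card F * (Fintype.card F - 1) / 2 ∧ ¬ IsSquare (-1 : F)) ∨
    (Subgroup.centralizer ({pr g} : Set (Matrix.ProjectiveSpecialLinearGroup (Fin 2) F))).index =
      Fintype.card F * (Fintype.card F - 1) := by
  classical
  by_cases hev : ∃ (c : F) (v : Fin 2 → F), v ≠ 0 ∧ (g : Matrix (Fin 2) (Fin 2) F).mulVec v = c • v
  · obtain ⟨c, v, hv, hgv⟩ := hev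
    obtain ⟨x, hx⟩ := upper_conj g c v hv hgv
    obtain ⟨h, hh⟩ : ∃ h, h = x * g * x⁻¹ := ⟨_, rfl⟩
    rw [← hh] at hx
    have hconj : IsConj g h := isConj_iff.2 ⟨x, hh.symm⟩
    rw [idx_conj hconj]
    have hdet := h.det_coe
    rw [Matrix.det_fin_two, hx, mul_zero, sub_zero] at hdet
    by_cases hsq : (h : Matrix (Fin 2) (Fin 2) F) 0 0 ^ 2 = 1
    · have heq : (h : Matrix (Fin 2) (Fin 2) F) 0 0 = (h : Matrix (Fin 2) (Fin 2) F) 1 1 := by
        have h00 : (h : Matrix (Fin 2) (Fin 2) F) 0 0 ≠ 0 := by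
          intro h0; rw [h0] at hsq; simp at hsq
        apply mul_left_cancel₀ h00
        linear_combination hsq - hdet
      obtain ⟨s, y, hsy⟩ := cent_form hx heq
      by_cases hy : y = 0
      · left
        apply idx_central
        rw [hsy, hy, uu_zero, mul_one, mem_center]
        cases s
        · left; simp [sg]
        · right; simp [sg]
      · right; left
        rw [hsy]
        exact idx_unip h2 m hm s hy
    · have hne : (h : Matrix (Fin 2) (Fin 2) F) 0 0 ≠ (h : Matrix (Fin 2) (Fin 2) F) 1 1 := by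
        intro he
        apply hsq
        rw [← he] at hdet
        rw [pow_two]; exact hdet
      obtain ⟨d, hhd, hdT, hd00⟩ := diag_conj h hx hne
      rw [idx_conj hhd]
      have hda : (d : Matrix (Fin 2) (Fin 2) F) 0 0 ^ 2 ≠ 1 := by rw [hd00]; exact hsq
      obtain ⟨r1, r2⟩ := idx_split h2 m hm hdT hda
      by_cases ha : (d : Matrix (Fin 2) (Fin 2) F) 0 0 ^ 2 = -1
      · right; right; left
        exact ⟨r1 ha, ⟨(d : Matrix (Fin 2) (Fin 2) F) 0 0, by rw [← ha, pow_two]⟩⟩
      · right; right; right; left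
        exact r2 ha
  · push Not at hev
    obtain ⟨a, b, hab⟩ := Cfsg.Agent.S2475.exists_aniso (F := F) (by omega)
    obtain ⟨x, hx⟩ := conj_into hab g hev
    obtain ⟨t, ht⟩ : ∃ t, t = x * g * x⁻¹ := ⟨_, rfl⟩
    rw [← ht] at hx
    have hconj : IsConj g t := isConj_iff.2 ⟨x, ht.symm⟩
    rw [idx_conj hconj]
    have hgt : g = x⁻¹ * t * x := by rw [ht]; group
    have ht1 : (t : Matrix (Fin 2) (Fin 2) F) ≠ 1 := by
      intro h1
      have ht1' : t = 1 := Subtype.ext (by rw [h1]; rfl)
      have hg1 : g = 1 := by rw [hgt, ht1']; group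
      apply hev 1 ![1, 0] (by intro h; have := congrFun h 0; simp at this)
      rw [hg1, Matrix.SpecialLinearGroup.coe_one, Matrix.one_mulVec, one_smul]
    have ht2 : (t : Matrix (Fin 2) (Fin 2) F) ≠ -1 := by
      intro h1
      have ht1' : t = zz := Subtype.ext (by
        rw [h1, zz_val]; apply Cfsg.Agent.S2475.ext2 <;> simp [e00, e01, e10, e11])
      have hg1 : g = zz := by
        rw [hgt, ht1']
        calc x⁻¹ * zz * x = zz * x⁻¹ * x := by rw [zz_comm]
          _ = zz := by group
      apply hev (-1) ![1, 0] (by intro h; have := congrFun h 0; simp at this)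
      rw [hg1, zz_val]
      funext i
      fin_cases i <;> simp [Matrix.mulVec, dotProduct, Fin.sum_univ_two, e00, e01, e10, e11]
    obtain ⟨r1, r2⟩ := idx_ns h2 m hm hab hx ht1 ht2
    by_cases htr : (t : Matrix (Fin 2) (Fin 2) F) 0 0 + (t : Matrix (Fin 2) (Fin 2) F) 1 1 = 0
    · right; right; right; right; left
      exact r1 htr
    · right; right; right; right; right
      exact r2 htr

/-- a generator of the non-split torus -/
theorem exists_gen (h2 : (2 : F) ≠ 0) (hq : 7 ≤ Fintype.card F) {a b : F} (hab : Aniso a b) :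
    ∃ t ∈ Tns a b, (t : Matrix (Fin 2) (Fin 2) F) ≠ 1 ∧ (t : Matrix (Fin 2) (Fin 2) F) ≠ -1 ∧
      (t : Matrix (Fin 2) (Fin 2) F) 0 0 + (t : Matrix (Fin 2) (Fin 2) F) 1 1 ≠ 0 := by
  haveI := Tns_cyclic hab
  obtain ⟨τ, hτ⟩ := IsCyclic.exists_ofOrder_eq_natCard (α := Tns a b)
  rw [card_Tns hab, ← Subgroup.orderOf_coe] at hτ
  have key : ∀ k : ℕ, 0 < k → k ≤ 4 → (τ : Matrix.SpecialLinearGroup (Fin 2) F) ^ k ≠ 1 := by
    intro k hk0 hk4 hk
    have := Nat.le_of_dvd hk0 (orderOf_dvd_of_pow_eq_one hk)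
    omega
  refine ⟨τ.1, τ.2, ?_, ?_, ?_⟩
  · intro h1
    apply key 1 (by norm_num) (by norm_num)
    rw [pow_one]
    exact Subtype.ext (by rw [h1]; rfl)
  · intro h1
    apply key 2 (by norm_num) (by norm_num)
    have : (τ : Matrix.SpecialLinearGroup (Fin 2) F) = zz := Subtype.ext (by
      rw [h1, zz_val]; apply Cfsg.Agent.S2475.ext2 <;> simp [e00, e01, e10, e11])
    rw [pow_two, this, zz_sq]
  · intro htr
    apply key 4 (by norm_num) (by norm_num)
    have := sq_of_trace_zero _ htr
    calc (τ : Matrix.SpecialLinearGroup (Fin 2) F) ^ 4 =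
        ((τ : Matrix.SpecialLinearGroup (Fin 2) F) * τ) * ((τ : Matrix.SpecialLinearGroup (Fin 2) F) * τ) := by
          rw [show (4 : ℕ) = 2 + 2 from rfl, pow_add, pow_two]
      _ = 1 := by rw [this, zz_sq]

/-- existence of an element avoiding a small set -/
theorem exists_avoid (S : Finset F) (hS : S.card < Fintype.card F) : ∃ x : F, x ∉ S := by
  by_contra hcon
  push Not at hcon
  have h1 : Finset.univ ⊆ S := fun x _ => hcon x
  have h3 := Finset.card_le_card h1
  rw [Finset.card_univ] at h3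
  omega

end finite

/-- Let F be a finite field with q elements, q odd and q ≥ 7. If q ≡ 1 (mod 4) the conjugacy class sizes of PSL(2,F) are exactly 1, (q² − 1)/2, q(q + 1)/2, q(q − 1) and q(q + 1); if q ≡ 3 (mod 4) they are exactly 1, (q² − 1)/2, q(q − 1)/2, q(q + 1) and q(q − 1). -/
theorem result {F : Type*} [Field F] [Fintype F]
    (hodd : ¬ 2 ∣ Fintype.card F) (h7 : 7 ≤ Fintype.card F) :
    (Fintype.card F % 4 = 1 →
      Set.range (fun g : (Matrix.ProjectiveSpecialLinearGroup (Fin 2) F) => (Subgroup.centralizer ({g} : Set (Matrix.ProjectiveSpecialLinearGroup (Fin 2) F))).index) =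
        {1, (Fintype.card F ^ 2 - 1) / 2, Fintype.card F * (Fintype.card F + 1) / 2,
          Fintype.card F * (Fintype.card F - 1), Fintype.card F * (Fintype.card F + 1)}) ∧
    (Fintype.card F % 4 = 3 →
      Set.range (fun g : (Matrix.ProjectiveSpecialLinearGroup (Fin 2) F) => (Subgroup.centralizer ({g} : Set (Matrix.ProjectiveSpecialLinearGroup (Fin 2) F))).index) =
        {1, (Fintype.card F ^ 2 - 1) / 2, Fintype.card F * (Fintype.card F - 1) / 2,
          Fintype.card F * (Fintype.card F + 1), Fintype.card F * (Fintype.card F - 1)}) := by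
  classical
  have hoddq : Fintype.card F % 2 = 1 := by omega
  obtain ⟨m, hm⟩ : ∃ m, Fintype.card F = 2 * m + 1 := ⟨Fintype.card F / 2, by omega⟩
  have h2 : (2 : F) ≠ 0 :=
    Cfsg.Agent.S0268.two_ne_zero_of_odd_card (Nat.odd_iff.2 hoddq)
  have hsurj : ∀ gb : Matrix.ProjectiveSpecialLinearGroup (Fin 2) F, ∃ g, pr g = gb := pr_surj
  obtain ⟨a, b, hab⟩ := Cfsg.Agent.S2475.exists_aniso (F := F) (by omega)
  -- common witnesses
  have w1 : ∃ gb : Matrix.ProjectiveSpecialLinearGroup (Fin 2) F,
      (Subgroup.centralizer ({gb} : Set _)).index = 1 :=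
    ⟨pr 1, idx_central 1 (Subgroup.one_mem _)⟩
  have w2 : ∃ gb : Matrix.ProjectiveSpecialLinearGroup (Fin 2) F,
      (Subgroup.centralizer ({gb} : Set _)).index = (Fintype.card F ^ 2 - 1) / 2 :=
    ⟨pr (sg false * uu 1), idx_unip h2 m hm false one_ne_zero⟩
  have w6 : ∃ gb : Matrix.ProjectiveSpecialLinearGroup (Fin 2) F,
      (Subgroup.centralizer ({gb} : Set _)).index = Fintype.card F * (Fintype.card F - 1) := by
    obtain ⟨t, ht, ht1, ht2, htr⟩ := exists_gen h2 h7 hab
    exact ⟨pr t, (idx_ns h2 m hm hab ht ht1 ht2).2 htr⟩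
  have hdsp : ∀ (x : F) (hx : x ≠ 0), dsp F (Units.mk0 x hx) ∈ Tsp F ∧
      ((dsp F (Units.mk0 x hx) : Matrix.SpecialLinearGroup (Fin 2) F) :
        Matrix (Fin 2) (Fin 2) F) 0 0 = x := fun x hx => ⟨⟨_, rfl⟩, by rw [dsp_val, e00]; rfl⟩
  constructor
  · intro h41
    have hsqm : IsSquare (-1 : F) := FiniteField.isSquare_neg_one_iff.2 (by omega)
    obtain ⟨i, hi⟩ := hsqm
    have hi0 : i ≠ 0 := by rintro rfl; simp at hi
    have hi2 : i ^ 2 = -1 := by rw [pow_two, ← hi]
    have hneg1 : (-1 : F) ≠ 1 := by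
      intro h; apply h2; linear_combination (-1 : F) * h
    have w3 : ∃ gb : Matrix.ProjectiveSpecialLinearGroup (Fin 2) F,
        (Subgroup.centralizer ({gb} : Set _)).index =
          Fintype.card F * (Fintype.card F + 1) / 2 := by
      obtain ⟨hT, h00⟩ := hdsp i hi0
      refine ⟨pr (dsp F (Units.mk0 i hi0)), (idx_split h2 m hm hT ?_).1 ?_⟩
      · rw [h00, hi2]; exact hneg1
      · rw [h00, hi2]
    have w4 : ∃ gb : Matrix.ProjectiveSpecialLinearGroup (Fin 2) F,
        (Subgroup.centralizer ({gb} : Set _)).index = Fintype.card F * (Fintype.card F + 1) := by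
      obtain ⟨x, hx⟩ := exists_avoid ({0, 1, -1, i, -i} : Finset F) (by
        have := Finset.card_le_five (a := (0 : F)) (b := 1) (c := -1) (d := i) (e := -i)
        omega)
      simp only [Finset.mem_insert, Finset.mem_singleton, not_or] at hx
      obtain ⟨hx0, hx1, hxm1, hxi, hxmi⟩ := hx
      obtain ⟨hT, h00⟩ := hdsp x hx0
      refine ⟨pr (dsp F (Units.mk0 x hx0)), (idx_split h2 m hm hT ?_).2 ?_⟩
      · rw [h00]
        intro h
        have h3 : (x - 1) * (x + 1) = 0 := by linear_combination h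
        rcases mul_eq_zero.1 h3 with h | h
        · exact hx1 (sub_eq_zero.1 h)
        · exact hxm1 (eq_neg_of_add_eq_zero_left h)
      · rw [h00]
        intro h
        have h3 : (x - i) * (x + i) = 0 := by linear_combination h - hi2
        rcases mul_eq_zero.1 h3 with h | h
        · exact hxi (sub_eq_zero.1 h)
        · exact hxmi (eq_neg_of_add_eq_zero_left h)
    ext n
    constructor
    · rintro ⟨gb, rfl⟩
      obtain ⟨g, rfl⟩ := hsurj gb
      rcases classify h2 m hm (by omega) g with h | h | h | h | h | h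
      · left; exact h
      · right; left; exact h
      · right; right; left; exact h.1
      · right; right; right; right; exact h
      · exact absurd ⟨i, hi⟩ h.2
      · right; right; right; left; exact h
    · intro hn
      rcases hn with rfl | rfl | rfl | rfl | rfl
      · exact w1
      · exact w2
      · exact w3
      · exact w6
      · exact w4
  · intro h43
    have hnsq : ¬ IsSquare (-1 : F) := by
      rw [FiniteField.isSquare_neg_one_iff]; omega
    have w4 : ∃ gb : Matrix.ProjectiveSpecialLinearGroup (Fin 2) F,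
        (Subgroup.centralizer ({gb} : Set _)).index = Fintype.card F * (Fintype.card F + 1) := by
      obtain ⟨x, hx⟩ := exists_avoid ({0, 1, -1} : Finset F) (by
        have := Finset.card_le_three (a := (0 : F)) (b := 1) (c := -1)
        omega)
      simp only [Finset.mem_insert, Finset.mem_singleton, not_or] at hx
      obtain ⟨hx0, hx1, hxm1⟩ := hx
      obtain ⟨hT, h00⟩ := hdsp x hx0
      refine ⟨pr (dsp F (Units.mk0 x hx0)), (idx_split h2 m hm hT ?_).2 ?_⟩
      · rw [h00]
        intro h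
        have h3 : (x - 1) * (x + 1) = 0 := by linear_combination h
        rcases mul_eq_zero.1 h3 with h | h
        · exact hx1 (sub_eq_zero.1 h)
        · exact hxm1 (eq_neg_of_add_eq_zero_left h)
      · rw [h00]
        intro h
        exact hnsq ⟨x, by rw [← h, pow_two]⟩
    have w5 : ∃ gb : Matrix.ProjectiveSpecialLinearGroup (Fin 2) F,
        (Subgroup.centralizer ({gb} : Set _)).index =
          Fintype.card F * (Fintype.card F - 1) / 2 := by
      obtain ⟨w, hw⟩ : ∃ w : Matrix.SpecialLinearGroup (Fin 2) F,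
          (w : Matrix (Fin 2) (Fin 2) F) = !![0, 1; -1, 0] :=
        ⟨⟨!![0, 1; -1, 0], by rw [Matrix.det_fin_two_of]; ring⟩, rfl⟩
      refine ⟨pr w, ?_⟩
      have hev : ∀ (c : F) (v : Fin 2 → F), v ≠ 0 →
          (w : Matrix (Fin 2) (Fin 2) F).mulVec v ≠ c • v := by
        intro c v hv hcv
        have e0 : (0 : F) * v 0 + 1 * v 1 = c * v 0 := by
          have h := congrFun hcv 0
          rw [hw, Matrix.mulVec, dotProduct, Fin.sum_univ_two] at h
          exact h
        have e1 : (-1 : F) * v 0 + 0 * v 1 = c * v 1 := by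
          have h := congrFun hcv 1
          rw [hw, Matrix.mulVec, dotProduct, Fin.sum_univ_two] at h
          exact h
        have hv0 : v 0 ≠ 0 := by
          intro h0
          apply hv
          funext i
          fin_cases i
          · exact h0
          · show v 1 = 0
            rw [h0] at e0
            linear_combination e0
        apply hnsq
        refine ⟨c, ?_⟩
        apply mul_right_cancel₀ hv0
        linear_combination e1 + c * e0
      obtain ⟨x, hx⟩ := conj_into hab w hev
      obtain ⟨t, ht⟩ : ∃ t, t = x * w * x⁻¹ := ⟨_, rfl⟩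
      rw [← ht] at hx
      have hconj : IsConj w t := isConj_iff.2 ⟨x, ht.symm⟩
      rw [idx_conj hconj]
      have htr : (t : Matrix (Fin 2) (Fin 2) F) 0 0 + (t : Matrix (Fin 2) (Fin 2) F) 1 1 = 0 := by
        have h1 := trace_conj x w
        rw [← ht, Matrix.trace_fin_two, Matrix.trace_fin_two, hw, e00, e11] at h1
        rw [h1]; ring
      have ht1 : (t : Matrix (Fin 2) (Fin 2) F) ≠ 1 := by
        intro h1
        rw [h1, Matrix.one_apply_eq, Matrix.one_apply_eq] at htr
        apply h2; linear_combination htr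
      have ht2 : (t : Matrix (Fin 2) (Fin 2) F) ≠ -1 := by
        intro h1
        rw [h1, Matrix.neg_apply, Matrix.neg_apply, Matrix.one_apply_eq, Matrix.one_apply_eq] at htr
        apply h2; linear_combination (-1 : F) * htr
      exact ((idx_ns h2 m hm hab hx ht1 ht2).1 htr).1
    ext n
    constructor
    · rintro ⟨gb, rfl⟩
      obtain ⟨g, rfl⟩ := hsurj gb
      rcases classify h2 m hm (by omega) g with h | h | h | h | h | h
      · left; exact h
      · right; left; exact h
      · exact absurd h.2 hnsq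
      · right; right; right; left; exact h
      · right; right; left; exact h.1
      · right; right; right; right; exact h
    · intro hn
      rcases hn with rfl | rfl | rfl | rfl | rfl
      · exact w1
      · exact w2
      · exact w5
      · exact w4
      · exact w6


end Cfsg.Agent.S2508
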