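import Cfsg.Statements.S2428
import Mathlib
import Cfsg.Agent.Lib.Helper2.SL2Tori


set_option autoImplicit false
open Cfsg

namespace Cfsg.Agent.S2428

open Cfsg.Agent.Lib.Helper2.SL2Tori in
/-- Let F be a finite field with q elements, q odd, and let d be a diagonal element of SL₂ over F whose diagonal entry a has a² ≠ 1 (such d exist exactly when q > 3). Then the centraliser of d is precisely the diagonal subgroup T; the normaliser of T has order 2(q − 1) and exactly (q + 5)/2 conjugacy classes; and every element of that normaliser outside T has square equal to −1. -/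
theorem result {F : Type*} [Field F] [Fintype F] (hodd : Odd (Fintype.card F))
    (d : Matrix.SpecialLinearGroup (Fin 2) F) (hd01 : (d : Matrix (Fin 2) (Fin 2) F) 0 1 = 0) (hd10 : (d : Matrix (Fin 2) (Fin 2) F) 1 0 = 0) (hda : (d : Matrix (Fin 2) (Fin 2) F) 0 0 ^ 2 ≠ 1) :
    (∀ g : Matrix.SpecialLinearGroup (Fin 2) F, g ∈ Subgroup.centralizer ({d} : Set (Matrix.SpecialLinearGroup (Fin 2) F)) ↔ ((g : Matrix (Fin 2) (Fin 2) F) 0 1 = 0 ∧ (g : Matrix (Fin 2) (Fin 2) F) 1 0 = 0)) ∧
    Nat.card (Subgroup.normalizer ((Subgroup.centralizer ({d} : Set (Matrix.SpecialLinearGroup (Fin 2) F))) : Set (Matrix.SpecialLinearGroup (Fin 2) F))) = 2 * (Fintype.card F - 1) ∧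
    Nat.card (ConjClasses (Subgroup.normalizer ((Subgroup.centralizer ({d} : Set (Matrix.SpecialLinearGroup (Fin 2) F))) : Set (Matrix.SpecialLinearGroup (Fin 2) F)))) = (Fintype.card F + 5) / 2 ∧
    ∀ g : Matrix.SpecialLinearGroup (Fin 2) F, g ∈ Subgroup.normalizer ((Subgroup.centralizer ({d} : Set (Matrix.SpecialLinearGroup (Fin 2) F))) : Set (Matrix.SpecialLinearGroup (Fin 2) F)) →
      g ∉ Subgroup.centralizer ({d} : Set (Matrix.SpecialLinearGroup (Fin 2) F)) → ((g * g) : Matrix (Fin 2) (Fin 2) F) = -1 := by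
  classical
  have h2ne : (2 : F) ≠ 0 := Cfsg.Agent.S0268.two_ne_zero_of_odd_card hodd
  have hd : d ∈ Tsp F := mem_Tsp.2 ⟨hd01, hd10⟩
  have hC : Subgroup.centralizer ({d} : Set (Matrix.SpecialLinearGroup (Fin 2) F)) = Tsp F :=
    cent_diag hd hda
  have hex : ∃ d ∈ Tsp F, (d : Matrix (Fin 2) (Fin 2) F) 0 0 ^ 2 ≠ 1 := ⟨d, hd, hda⟩
  rw [hC]
  obtain ⟨w, hw⟩ : ∃ w : Matrix.SpecialLinearGroup (Fin 2) F,
      (w : Matrix (Fin 2) (Fin 2) F) = !![0, 1; -1, 0] :=
    ⟨⟨!![0, 1; -1, 0], by rw [Matrix.det_fin_two_of]; ring⟩, rfl⟩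
  have hwanti : IsAnti w := by
    constructor <;> simp [hw]
  obtain ⟨m, hm⟩ := hodd
  obtain ⟨z, hz⟩ : ∃ z, z = dsp F (-1) := ⟨_, rfl⟩
  have hzval : (z : Matrix (Fin 2) (Fin 2) F) = -1 := by
    rw [hz, dsp_val]
    apply Cfsg.Agent.S2475.ext2 <;> simp
  have hanti_of : ∀ g ∈ Subgroup.normalizer ((Tsp F : Subgroup
      (Matrix.SpecialLinearGroup (Fin 2) F)) : Set _), g ∉ Tsp F → IsAnti g := by
    intro g hg hgT
    rcases (norm_Tsp hex g).1 hg with h | h
    · exact absurd h hgT
    · exact h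
  have key := dic_sub (Tsp F) (Subgroup.normalizer ((Tsp F : Subgroup
      (Matrix.SpecialLinearGroup (Fin 2) F)) : Set _)) Subgroup.le_normalizer z w m
    (by rw [card_Tsp, hm]; omega)
    (by
      intro h
      have h1 := congrArg (fun g : Matrix.SpecialLinearGroup (Fin 2) F =>
        (g : Matrix (Fin 2) (Fin 2) F) 0 0) h
      simp only [hzval] at h1
      simp at h1
      apply h2ne
      linear_combination -h1)
    (by rw [hz]; exact ⟨_, rfl⟩)
    (by rw [hz, ← map_mul]; simp)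
    (fun s hs t ht => Tsp_comm s t hs ht)
    (by
      intro t _ htt
      by_cases ht1 : t = 1
      · left; exact ht1
      · right
        apply Subtype.ext
        rw [hzval]
        exact Cfsg.Agent.S0268.result ⟨m, hm⟩ t ht1 htt)
    (fun g hg hgT t ht => anti_conj (hanti_of g hg hgT) ht)
    ((norm_Tsp hex w).2 (Or.inr hwanti))
    (by
      intro h
      have := (mem_Tsp.1 h).1
      rw [hw] at this
      simp at this)
    (fun b hb hbT => anti_mul_anti (hanti_of b hb hbT) hwanti)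
  refine ⟨fun g => mem_Tsp, ?_, ?_, ?_⟩
  · rw [key.1, hm]; omega
  · rw [key.2, hm]; omega
  · intro g hg hgT
    have := anti_sq (hanti_of g hg hgT)
    rw [Matrix.SpecialLinearGroup.coe_mul] at this
    exact this


end Cfsg.Agent.S2428
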