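import Cfsg.Statements.S2429
import Mathlib
import Cfsg.Agent.Lib.Helper2.SL2Nonsplit


set_option autoImplicit false
open Cfsg

namespace Cfsg.Agent.S2429

open Cfsg.Agent.Lib.Helper2.SL2Tori Cfsg.Agent.Lib.Helper2.SL2Nonsplit Cfsg.Agent.Lib.Helper2.Quad in
/-- Let F be a finite field with q elements, q odd. Then SL₂ over F contains a cyclic subgroup T′ of order q + 1 (a non-split torus) with the following properties: T′ is its own centraliser, and indeed the centraliser of each element of T′ other than 1 and −1 is exactly T′; every element of SL₂ having no eigenvector in F² is conjugate to an element of T′; the normaliser of T′ has order 2(q + 1) and exactly (q + 7)/2 conjugacy classes; and every element of that normaliser outside T′ has square −1. -/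
theorem result {F : Type*} [Field F] [Fintype F] (hodd : Odd (Fintype.card F)) :
    ∃ T' : Subgroup (Matrix.SpecialLinearGroup (Fin 2) F), IsCyclic T' ∧ Nat.card T' = Fintype.card F + 1 ∧
      Subgroup.centralizer ((T' : Set (Matrix.SpecialLinearGroup (Fin 2) F))) = T' ∧
      (∀ g : Matrix.SpecialLinearGroup (Fin 2) F, g ∈ T' → (g : Matrix (Fin 2) (Fin 2) F) ≠ 1 → (g : Matrix (Fin 2) (Fin 2) F) ≠ -1 → Subgroup.centralizer ({g} : Set (Matrix.SpecialLinearGroup (Fin 2) F)) = T') ∧
      (∀ g : Matrix.SpecialLinearGroup (Fin 2) F, (∀ (c : F) (v : Fin 2 → F), v ≠ 0 → (g : Matrix (Fin 2) (Fin 2) F).mulVec v ≠ c • v) → ∃ h : Matrix.SpecialLinearGroup (Fin 2) F, h * g * h⁻¹ ∈ T') ∧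
      Nat.card (Subgroup.normalizer (T' : Set (Matrix.SpecialLinearGroup (Fin 2) F))) = 2 * (Fintype.card F + 1) ∧
      Nat.card (ConjClasses (Subgroup.normalizer (T' : Set (Matrix.SpecialLinearGroup (Fin 2) F)))) = (Fintype.card F + 7) / 2 ∧
      ∀ g : Matrix.SpecialLinearGroup (Fin 2) F, g ∈ Subgroup.normalizer (T' : Set (Matrix.SpecialLinearGroup (Fin 2) F)) → g ∉ T' → ((g * g) : Matrix (Fin 2) (Fin 2) F) = -1 := by
  classical
  have h2ne : (2 : F) ≠ 0 := Cfsg.Agent.S0268.two_ne_zero_of_odd_card hodd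
  have hq3 : 3 ≤ Fintype.card F := by
    have h1 : 1 < Fintype.card F := Fintype.one_lt_card
    obtain ⟨c, hc⟩ := hodd
    omega
  obtain ⟨a, b, hab⟩ := Cfsg.Agent.S2475.exists_aniso (F := F) (by omega)
  obtain ⟨t0, ht0, ht01, ht02⟩ := exists_t0 hab hq3
  have hcent : Subgroup.centralizer ((Tns a b : Subgroup (Matrix.SpecialLinearGroup (Fin 2) F)) :
      Set (Matrix.SpecialLinearGroup (Fin 2) F)) = Tns a b := by
    apply le_antisymm
    · intro g hg
      rw [← cent_ns ht0 ht01 ht02, Subgroup.mem_centralizer_singleton_iff]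
      exact (hg t0 ht0).symm
    · intro g hg
      rw [Subgroup.mem_centralizer_iff]
      intro t ht
      exact Tns_comm t g ht hg
  obtain ⟨g₀, hg₀⟩ := exists_anti hab
  obtain ⟨m, hm⟩ := hodd
  obtain ⟨z, hz⟩ : ∃ z, z = dsp F (-1) := ⟨_, rfl⟩
  have hzval : (z : Matrix (Fin 2) (Fin 2) F) = -1 := by
    rw [hz, dsp_val]
    apply Cfsg.Agent.S2475.ext2 <;> simp
  have hzT : z ∈ Tns a b := by
    rw [mem_Tns]
    refine ⟨algebraMap F _ (-1), ?_⟩
    rw [hzval, Mat_algebraMap]
    apply Cfsg.Agent.S2475.ext2 <;> simp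
  have hanti_of : ∀ g ∈ Subgroup.normalizer ((Tns a b : Subgroup
      (Matrix.SpecialLinearGroup (Fin 2) F)) : Set _), g ∉ Tns a b → IsAntiNs a b g := by
    intro g hg hgT
    rcases (norm_ns hab hq3 g).1 hg with h | h
    · exact absurd h hgT
    · exact h
  have key := dic_sub (Tns a b) (Subgroup.normalizer ((Tns a b : Subgroup
      (Matrix.SpecialLinearGroup (Fin 2) F)) : Set _)) Subgroup.le_normalizer z g₀ (m + 1)
    (by rw [card_Tns hab, hm]; omega)
    (by
      intro h
      have h1 := congrArg (fun g : Matrix.SpecialLinearGroup (Fin 2) F =>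
        (g : Matrix (Fin 2) (Fin 2) F) 0 0) h
      simp only [hzval] at h1
      simp at h1
      apply h2ne
      linear_combination -h1)
    hzT
    (by rw [hz, ← map_mul]; simp)
    (fun s hs t ht => Tns_comm s t hs ht)
    (by
      intro t _ htt
      by_cases ht1 : t = 1
      · left; exact ht1
      · right
        apply Subtype.ext
        rw [hzval]
        exact Cfsg.Agent.S0268.result ⟨m, hm⟩ t ht1 htt)
    (fun g hg hgT t ht => ns_conj (hanti_of g hg hgT) ht)
    ((norm_ns hab hq3 g₀).2 (Or.inr hg₀))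
    (anti_not_mem hab ⟨m, hm⟩ hg₀)
    (fun b' hb hbT => ns_mul_anti (hanti_of b' hb hbT) hg₀)
  refine ⟨Tns a b, Tns_cyclic hab, card_Tns hab, hcent, ?_, ?_, ?_, ?_, ?_⟩
  · intro g hg h1 h2
    exact cent_ns hg h1 h2
  · intro g hne
    exact conj_into hab g hne
  · rw [key.1, hm]; omega
  · rw [key.2, hm]; omega
  · intro g hg hgT
    have := ns_sq (hanti_of g hg hgT)
    rw [Matrix.SpecialLinearGroup.coe_mul] at this
    exact this


end Cfsg.Agent.S2429
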