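import Cfsg.Statements.S2430
import Mathlib
import Cfsg.Agent.Lib.Helper2.SL2Nonsplit
import Cfsg.Agent.Lib.Helper1.PSL2Small
import Cfsg.Agent.S2428
import Cfsg.Agent.S2429


set_option autoImplicit false
open Cfsg

namespace Cfsg.Agent.S2430

section abstract
variable {G : Type*} [Group G]

theorem map_equiv_centralizer {G' : Type*} [Group G'] (H : Subgroup G) (f : G ≃* G') :
    (Subgroup.centralizer (H : Set G)).map f.toMonoidHom =
      Subgroup.centralizer ((H.map f.toMonoidHom : Subgroup G') : Set G') := by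
  ext x
  rw [Subgroup.mem_map_equiv, Subgroup.mem_centralizer_iff, Subgroup.mem_centralizer_iff]
  constructor
  · intro h y hy
    rw [SetLike.mem_coe, Subgroup.mem_map_equiv] at hy
    have h1 := congrArg f (h _ hy)
    simpa using h1
  · intro h y hy
    have h1 := h (f y) (by rw [SetLike.mem_coe]; exact Subgroup.mem_map_of_mem _ hy)
    apply f.injective
    simpa using h1

theorem centralizer_zpowers (d : G) :
    Subgroup.centralizer ((Subgroup.zpowers d : Subgroup G) : Set G) =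
      Subgroup.centralizer ({d} : Set G) := by
  ext g
  rw [Subgroup.mem_centralizer_iff, Subgroup.mem_centralizer_singleton_iff]
  constructor
  · intro h
    exact (h d (Subgroup.mem_zpowers d)).symm
  · rintro h y ⟨k, rfl⟩
    have hc : Commute g d := h
    exact (hc.zpow_right k).eq.symm

theorem sylow_in_torus [Finite G] (ℓ : ℕ) [Fact ℓ.Prime] (hℓ2 : ℓ ≠ 2) (T : Subgroup G)
    (hTc : IsCyclic T)
    (hfac : (Nat.card G).factorization ℓ = (Nat.card T).factorization ℓ)
    (hℓT : ℓ ∣ Nat.card T)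
    (hcent : ∀ t ∈ T, t * t ≠ 1 → Subgroup.centralizer ({t} : Set G) = T) :
    ∃ Q : Sylow ℓ G, Subgroup.centralizer ((Q : Subgroup G) : Set G) = T ∧
      Subgroup.normalizer ((Q : Subgroup G) : Set G) = Subgroup.normalizer (T : Set G) := by
  classical
  have hℓp : ℓ.Prime := Fact.out
  have hℓ3 : 3 ≤ ℓ := by have := hℓp.two_le; omega
  obtain ⟨a, ha⟩ : ∃ a, a = (Nat.card T).factorization ℓ := ⟨_, rfl⟩
  have hn0 : Nat.card T ≠ 0 := Nat.card_pos.ne'
  have ha1 : 1 ≤ a := by rw [ha]; exact (hℓp.dvd_iff_one_le_factorization hn0).1 hℓT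
  have hdvd : ℓ ^ a ∣ Nat.card T := by rw [ha]; exact Nat.ordProj_dvd _ _
  obtain ⟨τ, hτ⟩ := IsCyclic.exists_ofOrder_eq_natCard (α := T)
  obtain ⟨n, hn⟩ := hdvd
  have hn0' : n ≠ 0 := by rintro rfl; rw [mul_zero] at hn; exact hn0 hn
  have hord : orderOf (τ ^ n) = ℓ ^ a := by
    rw [orderOf_pow_of_dvd hn0' (by rw [hτ, hn]; exact dvd_mul_left _ _), hτ, hn]
    exact Nat.mul_div_cancel _ (Nat.pos_of_ne_zero hn0')
  obtain ⟨d, hd⟩ : ∃ d : G, d = ((τ ^ n : T) : G) := ⟨_, rfl⟩
  have hdT : d ∈ T := by rw [hd]; exact (τ ^ n).2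
  have hordd : orderOf d = ℓ ^ a := by rw [hd, Subgroup.orderOf_coe, hord]
  have hcardQ : Nat.card (Subgroup.zpowers d) = ℓ ^ (Nat.card G).factorization ℓ := by
    rw [Nat.card_zpowers, hordd, hfac, ha]
  obtain ⟨Q, hQ⟩ : ∃ Q : Sylow ℓ G, (Q : Subgroup G) = Subgroup.zpowers d :=
    ⟨Sylow.ofCard (Subgroup.zpowers d) hcardQ, rfl⟩
  have hdd : d * d ≠ 1 := by
    intro h
    have h2 : orderOf d ∣ 2 := orderOf_dvd_of_pow_eq_one (by rw [pow_two]; exact h)
    have h3 : ℓ ∣ 2 :=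
      dvd_trans (dvd_trans (dvd_pow_self ℓ (by omega)) (dvd_of_eq hordd.symm)) h2
    have := Nat.le_of_dvd (by norm_num) h3
    omega
  have hCQ : Subgroup.centralizer ((Q : Subgroup G) : Set G) = T := by
    rw [hQ, centralizer_zpowers, hcent d hdT hdd]
  have hQT : (Q : Subgroup G) ≤ T := by rw [hQ, Subgroup.zpowers_le]; exact hdT
  have hTcomm : ∀ s ∈ T, ∀ t ∈ T, s * t = t * s := by
    intro s hs t ht
    have h1 := (IsCyclic.isMulCommutative (α := T)).is_comm.comm ⟨s, hs⟩ ⟨t, ht⟩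
    exact congrArg Subtype.val h1
  refine ⟨Q, hCQ, ?_⟩
  apply le_antisymm
  · intro g hg
    apply Subgroup.mem_normalizer_fintype
    intro x hx
    rw [SetLike.mem_coe] at hx ⊢
    have hx' : x ∈ Subgroup.centralizer ((Q : Subgroup G) : Set G) := by rw [hCQ]; exact hx
    have h4 : g * x * g⁻¹ ∈ Subgroup.centralizer ((Q : Subgroup G) : Set G) := by
      rw [Subgroup.mem_centralizer_iff] at hx' ⊢
      intro h hh
      have h1 : g⁻¹ * h * g ∈ (Q : Subgroup G) := by
        have h2 := (Subgroup.mem_normalizer_iff.1 ((Subgroup.normalizer _).inv_mem hg) h).1 hh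
        rwa [inv_inv] at h2
      have h3 := hx' _ h1
      calc h * (g * x * g⁻¹) = g * ((g⁻¹ * h * g) * x) * g⁻¹ := by group
        _ = g * (x * (g⁻¹ * h * g)) * g⁻¹ := by rw [h3]
        _ = g * x * g⁻¹ * h := by group
    rw [hCQ] at h4
    exact h4
  · intro g hg
    apply Subgroup.mem_normalizer_fintype
    intro x hx
    rw [SetLike.mem_coe] at hx ⊢
    obtain ⟨Q', hQ'⟩ : ∃ Q' : Subgroup G, Q' = (Q : Subgroup G).map (MulAut.conj g).toMonoidHom :=
      ⟨_, rfl⟩
    have hQ'T : Q' ≤ T := by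
      rw [hQ']
      rintro y ⟨x', hx', rfl⟩
      show g * x' * g⁻¹ ∈ T
      exact (Subgroup.mem_normalizer_iff.1 hg x').1 (hQT hx')
    have hQ'p : IsPGroup ℓ Q' := by rw [hQ']; exact Q.2.map _
    have hnorm : (Q : Subgroup G) ≤ Subgroup.normalizer (Q' : Set G) := by
      intro y hy
      apply Subgroup.mem_normalizer_fintype
      intro w hw
      rw [SetLike.mem_coe] at hw ⊢
      have h1 : y * w * y⁻¹ = w := by rw [hTcomm y (hQT hy) w (hQ'T hw)]; group
      rw [h1]; exact hw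
    have hsup : IsPGroup ℓ ((Q : Subgroup G) ⊔ Q' : Subgroup G) :=
      IsPGroup.to_sup_of_normal_right' Q.2 hQ'p hnorm
    have heq := Q.is_maximal' hsup le_sup_left
    have h5 : Q' ≤ (Q : Subgroup G) := by
      calc Q' ≤ (Q : Subgroup G) ⊔ Q' := le_sup_right
        _ = Q := heq
    apply h5
    rw [hQ']
    exact ⟨x, hx, rfl⟩

theorem exists_sq_ne [Finite G] (T : Subgroup G) (hTc : IsCyclic T) (h3 : 3 ≤ Nat.card T) :
    ∃ t ∈ T, t * t ≠ 1 := by
  obtain ⟨τ, hτ⟩ := IsCyclic.exists_ofOrder_eq_natCard (α := T)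
  refine ⟨τ.1, τ.2, ?_⟩
  intro h
  have h1 : τ ^ 2 = 1 := by
    apply Subtype.ext
    rw [pow_two]
    exact h
  have h2 : orderOf τ ∣ 2 := orderOf_dvd_of_pow_eq_one h1
  have := Nat.le_of_dvd (by norm_num) h2
  omega

/-- transport along Sylow conjugacy -/
theorem transport [Finite G] (ℓ : ℕ) [Fact ℓ.Prime] (T : Subgroup G) (hTc : IsCyclic T)
    (Q P : Sylow ℓ G) (hC : Subgroup.centralizer ((Q : Subgroup G) : Set G) = T)
    (hN : Subgroup.normalizer ((Q : Subgroup G) : Set G) = Subgroup.normalizer (T : Set G)) :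
    Nat.card (Subgroup.centralizer ((P : Subgroup G) : Set G)) = Nat.card T ∧
    IsCyclic (Subgroup.centralizer ((P : Subgroup G) : Set G)) ∧
    Nat.card (Subgroup.normalizer ((P : Subgroup G) : Set G)) =
      Nat.card (Subgroup.normalizer (T : Set G)) := by
  obtain ⟨c, hc⟩ := MulAction.exists_smul_eq G Q P
  have hP : (P : Subgroup G) = (Q : Subgroup G).map (MulAut.conj c).toMonoidHom := by
    rw [← hc]; rfl
  have hinj : Function.Injective (MulAut.conj c).toMonoidHom := (MulAut.conj c).injective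
  have hCP : Subgroup.centralizer ((P : Subgroup G) : Set G) =
      T.map (MulAut.conj c).toMonoidHom := by
    rw [hP, ← map_equiv_centralizer, hC]
  have hNP : Subgroup.normalizer ((P : Subgroup G) : Set G) =
      (Subgroup.normalizer (T : Set G)).map (MulAut.conj c).toMonoidHom := by
    rw [hP, ← Subgroup.map_equiv_normalizer_eq, hN]
  rw [hCP, hNP]
  refine ⟨?_, ?_, ?_⟩
  · exact (Nat.card_congr (T.equivMapOfInjective _ hinj).toEquiv).symm
  · exact isCyclic_of_surjective (T.equivMapOfInjective _ hinj) (MulEquiv.surjective _)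
  · exact (Nat.card_congr ((Subgroup.normalizer (T : Set G)).equivMapOfInjective _ hinj).toEquiv).symm

end abstract

section concrete
variable {F : Type*} [Field F] [Fintype F]

theorem card_sl2 : Nat.card (Matrix.SpecialLinearGroup (Fin 2) F) =
    Fintype.card F * (Fintype.card F - 1) * (Fintype.card F + 1) := by
  have h := Cfsg.Agent.Lib.Helper1.card_SL2 F
  have h1 : 1 < Fintype.card F := Fintype.one_lt_card
  obtain ⟨k, hk⟩ : ∃ k, Fintype.card F = k + 1 := ⟨Fintype.card F - 1, by omega⟩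
  rw [hk] at h ⊢
  have hk0 : 0 < k := by omega
  rw [Nat.add_sub_cancel] at h ⊢
  have e1 : (k + 1) ^ 2 - 1 = k * (k + 2) := Nat.sub_eq_of_eq_add (by ring)
  have e2 : (k + 1) ^ 2 - (k + 1) = k * (k + 1) := Nat.sub_eq_of_eq_add (by ring)
  rw [e1, e2] at h
  apply Nat.eq_of_mul_eq_mul_left hk0
  rw [h]; ring

theorem fac_minus (ℓ : ℕ) [Fact ℓ.Prime] (hℓ : ℓ ≠ 2) (h : ℓ ∣ Fintype.card F - 1) :
    (Nat.card (Matrix.SpecialLinearGroup (Fin 2) F)).factorization ℓ =
      (Fintype.card F - 1).factorization ℓ := by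
  have hℓp : ℓ.Prime := Fact.out
  have h1 : 1 < Fintype.card F := Fintype.one_lt_card
  obtain ⟨k, hk⟩ : ∃ k, Fintype.card F = k + 1 := ⟨Fintype.card F - 1, by omega⟩
  rw [card_sl2, hk]
  rw [hk] at h h1
  rw [Nat.add_sub_cancel] at h ⊢
  have hk0 : k ≠ 0 := by omega
  have n1 : ¬ ℓ ∣ k + 1 := by
    intro h2
    have h3 : ℓ ∣ 1 := (Nat.dvd_add_right h).1 h2
    exact hℓp.one_lt.ne' (Nat.dvd_one.1 h3)
  have n2 : ¬ ℓ ∣ k + 1 + 1 := by
    intro h2
    have h3 : ℓ ∣ 2 := (Nat.dvd_add_right h).1 (by rw [show k + 2 = k + 1 + 1 by ring]; exact h2)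
    have := Nat.le_of_dvd (by norm_num) h3
    have := hℓp.two_le
    omega
  rw [Nat.factorization_mul (by positivity) (by omega), Nat.factorization_mul (by omega) hk0,
    Finsupp.add_apply, Finsupp.add_apply, Nat.factorization_eq_zero_of_not_dvd n1,
    Nat.factorization_eq_zero_of_not_dvd n2]
  ring

theorem fac_plus (ℓ : ℕ) [Fact ℓ.Prime] (hℓ : ℓ ≠ 2) (h : ℓ ∣ Fintype.card F + 1) :
    (Nat.card (Matrix.SpecialLinearGroup (Fin 2) F)).factorization ℓ =
      (Fintype.card F + 1).factorization ℓ := by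
  have hℓp : ℓ.Prime := Fact.out
  have h1 : 1 < Fintype.card F := Fintype.one_lt_card
  obtain ⟨k, hk⟩ : ∃ k, Fintype.card F = k + 1 := ⟨Fintype.card F - 1, by omega⟩
  rw [card_sl2, hk]
  rw [hk] at h h1
  rw [Nat.add_sub_cancel]
  have hk0 : k ≠ 0 := by omega
  have n1 : ¬ ℓ ∣ k + 1 := by
    intro h2
    have h3 : ℓ ∣ 1 := (Nat.dvd_add_right h2).1 h
    exact hℓp.one_lt.ne' (Nat.dvd_one.1 h3)
  have n2 : ¬ ℓ ∣ k := by
    intro h2
    have h3 : ℓ ∣ 2 := (Nat.dvd_add_right h2).1 (by rw [show k + 2 = k + 1 + 1 by ring]; exact h)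
    have := Nat.le_of_dvd (by norm_num) h3
    have := hℓp.two_le
    omega
  rw [Nat.factorization_mul (by positivity) (by omega), Nat.factorization_mul (by omega) hk0,
    Finsupp.add_apply, Finsupp.add_apply, Nat.factorization_eq_zero_of_not_dvd n1,
    Nat.factorization_eq_zero_of_not_dvd n2]
  ring

open Cfsg.Agent.Lib.Helper2.SL2Tori in
theorem diag_sq_one {t : Matrix.SpecialLinearGroup (Fin 2) F} (ht : t ∈ Tsp F)
    (h : (t : Matrix (Fin 2) (Fin 2) F) 0 0 ^ 2 = 1) : t * t = 1 := by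
  obtain ⟨h01, h10⟩ := mem_Tsp.1 ht
  have hdet := diag_det ht
  apply Subtype.ext
  rw [Matrix.SpecialLinearGroup.coe_mul, Matrix.SpecialLinearGroup.coe_one]
  apply Cfsg.Agent.S2475.ext2
  · rw [Cfsg.Agent.S2475.mul2, h01, Matrix.one_apply_eq]; linear_combination h
  · rw [Cfsg.Agent.S2475.mul2, h01, Matrix.one_apply_ne (by decide)]; ring
  · rw [Cfsg.Agent.S2475.mul2, h10, Matrix.one_apply_ne (by decide)]; ring
  · rw [Cfsg.Agent.S2475.mul2, h10, Matrix.one_apply_eq]
    linear_combination ((t : Matrix (Fin 2) (Fin 2) F) 1 1) ^ 2 * (-1 : F) * h +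
      ((t : Matrix (Fin 2) (Fin 2) F) 0 0 * (t : Matrix (Fin 2) (Fin 2) F) 1 1 + 1) * hdet

end concrete

open Cfsg.Agent.Lib.Helper2.SL2Tori in
/-- Let F be a finite field with q elements, q odd, ℓ an odd prime, and P a Sylow ℓ-subgroup of SL₂ over F. If ℓ divides q − 1, the centraliser of P is cyclic of order q − 1 (a split torus) and the normaliser of P has order 2(q − 1); if ℓ divides q + 1, the centraliser of P is cyclic of order q + 1 (a non-split torus) and the normaliser of P has order 2(q + 1). -/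
theorem result {F : Type*} [Field F] [Fintype F] (hodd : Odd (Fintype.card F)) (ℓ : ℕ) [Fact ℓ.Prime] (hℓ : ℓ ≠ 2)
    (P : Sylow ℓ (Matrix.SpecialLinearGroup (Fin 2) F)) :
    (ℓ ∣ Fintype.card F - 1 →
      Nat.card (Subgroup.centralizer ((P : Subgroup (Matrix.SpecialLinearGroup (Fin 2) F)) : Set (Matrix.SpecialLinearGroup (Fin 2) F))) = Fintype.card F - 1 ∧
      IsCyclic (Subgroup.centralizer ((P : Subgroup (Matrix.SpecialLinearGroup (Fin 2) F)) : Set (Matrix.SpecialLinearGroup (Fin 2) F))) ∧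
      Nat.card (Subgroup.normalizer ((P : Subgroup (Matrix.SpecialLinearGroup (Fin 2) F)) : Set (Matrix.SpecialLinearGroup (Fin 2) F))) = 2 * (Fintype.card F - 1)) ∧
    (ℓ ∣ Fintype.card F + 1 →
      Nat.card (Subgroup.centralizer ((P : Subgroup (Matrix.SpecialLinearGroup (Fin 2) F)) : Set (Matrix.SpecialLinearGroup (Fin 2) F))) = Fintype.card F + 1 ∧
      IsCyclic (Subgroup.centralizer ((P : Subgroup (Matrix.SpecialLinearGroup (Fin 2) F)) : Set (Matrix.SpecialLinearGroup (Fin 2) F))) ∧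
      Nat.card (Subgroup.normalizer ((P : Subgroup (Matrix.SpecialLinearGroup (Fin 2) F)) : Set (Matrix.SpecialLinearGroup (Fin 2) F))) = 2 * (Fintype.card F + 1)) := by
  classical
  have hℓp : ℓ.Prime := Fact.out
  have hℓ3 : 3 ≤ ℓ := by have := hℓp.two_le; omega
  have h1q : 1 < Fintype.card F := Fintype.one_lt_card
  constructor
  · intro hdiv
    have hq1 : 3 ≤ Fintype.card F - 1 := by
      have := Nat.le_of_dvd (by omega) hdiv
      omega
    have hcyc : IsCyclic (Tsp F) := Tsp_cyclic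
    obtain ⟨t, htT, htt⟩ := exists_sq_ne (Tsp F) hcyc (by rw [card_Tsp]; exact hq1)
    have hta : (t : Matrix (Fin 2) (Fin 2) F) 0 0 ^ 2 ≠ 1 := fun h => htt (diag_sq_one htT h)
    obtain ⟨ht01, ht10⟩ := mem_Tsp.1 htT
    have hS := Cfsg.Agent.S2428.result hodd t ht01 ht10 hta
    rw [cent_diag htT hta] at hS
    obtain ⟨Q, hCQ, hNQ⟩ := sylow_in_torus ℓ hℓ (Tsp F) hcyc
      (by rw [card_Tsp]; exact fac_minus ℓ hℓ hdiv)
      (by rw [card_Tsp]; exact hdiv)
      (fun s hs hss => cent_diag hs (fun h => hss (diag_sq_one hs h)))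
    obtain ⟨r1, r2, r3⟩ := transport ℓ (Tsp F) hcyc Q P hCQ hNQ
    refine ⟨?_, r2, ?_⟩
    · rw [r1, card_Tsp]
    · rw [r3, hS.2.1]
  · intro hdiv
    obtain ⟨T', hcyc, hcard, -, hcent, -, hN, -, -⟩ := Cfsg.Agent.S2429.result hodd
    obtain ⟨Q, hCQ, hNQ⟩ := sylow_in_torus ℓ hℓ T' hcyc
      (by rw [hcard]; exact fac_plus ℓ hℓ hdiv)
      (by rw [hcard]; exact hdiv)
      (by
        intro s hs hss
        apply hcent s hs
        · intro h
          apply hss
          have : s = 1 := Subtype.ext (by rw [h]; rfl)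
          rw [this, mul_one]
        · intro h
          apply hss
          apply Subtype.ext
          rw [Matrix.SpecialLinearGroup.coe_mul, h, Matrix.SpecialLinearGroup.coe_one, neg_mul_neg,
            Matrix.one_mul])
    obtain ⟨r1, r2, r3⟩ := transport ℓ T' hcyc Q P hCQ hNQ
    refine ⟨?_, r2, ?_⟩
    · rw [r1, hcard]
    · rw [r3, hN]


end Cfsg.Agent.S2430
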