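import Cfsg.Statements.S2431
import Mathlib
import Cfsg.Agent.Lib.Helper2.SL2SylTwo
import Cfsg.Agent.S2430


set_option autoImplicit false
open Cfsg

namespace Cfsg.Agent.S2431

open Cfsg.Agent.Lib.Helper2.SL2Unip Cfsg.Agent.Lib.Helper2.SL2Tori
  Cfsg.Agent.Lib.Helper2.SL2SylTwo
open Cfsg.Agent.S2507 (e00 e01 e10 e11)

theorem fac_two_eq_one (n : ℕ) (h : n % 4 = 2) : n.factorization 2 = 1 := by
  have hn0 : n ≠ 0 := by rintro rfl; simp at h
  have h1 : 1 ≤ n.factorization 2 :=
    (Nat.Prime.pow_dvd_iff_le_factorization Nat.prime_two hn0).1 (by rw [pow_one]; omega)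
  have h3 : ¬ 2 ≤ n.factorization 2 := by
    rw [← Nat.Prime.pow_dvd_iff_le_factorization Nat.prime_two hn0]
    rw [show (2 : ℕ) ^ 2 = 4 from rfl]
    omega
  omega

theorem fac_odd (n : ℕ) (h : n % 2 = 1) : n.factorization 2 = 0 :=
  Nat.factorization_eq_zero_of_not_dvd (by omega)

section
variable {F : Type*} [Field F] [Fintype F]

theorem fac_sl2 (hodd : Odd (Fintype.card F)) :
    (Nat.card (Matrix.SpecialLinearGroup (Fin 2) F)).factorization 2 =
      (Fintype.card F - 1).factorization 2 + (Fintype.card F + 1).factorization 2 := by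
  have h1 : 1 < Fintype.card F := Fintype.one_lt_card
  obtain ⟨m, hm⟩ := hodd
  rw [card_sl2, Nat.factorization_mul (Nat.mul_ne_zero (by omega) (by omega)) (by omega),
    Nat.factorization_mul (by omega) (by omega), Finsupp.add_apply, Finsupp.add_apply,
    fac_odd (Fintype.card F) (by omega), zero_add]

theorem sq_eq_zz {g : Matrix.SpecialLinearGroup (Fin 2) F}
    (h : (g : Matrix (Fin 2) (Fin 2) F) * (g : Matrix (Fin 2) (Fin 2) F) = -1) : g * g = zz := by
  apply Subtype.ext
  rw [Matrix.SpecialLinearGroup.coe_mul, h, zz_val']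

open Cfsg.Agent.S2508 (exists_avoid) in
/-- the torus adapted to the prime two -/
theorem torus_data (hodd : Odd (Fintype.card F)) :
    ∃ T : Subgroup (Matrix.SpecialLinearGroup (Fin 2) F), IsCyclic T ∧
      (∀ t ∈ T, t * t ≠ 1 →
        Subgroup.centralizer ({t} : Set (Matrix.SpecialLinearGroup (Fin 2) F)) = T) ∧
      Nat.card (Subgroup.normalizer (T : Set (Matrix.SpecialLinearGroup (Fin 2) F))) =
        2 * Nat.card T ∧
      (∀ h ∈ Subgroup.normalizer (T : Set (Matrix.SpecialLinearGroup (Fin 2) F)), h ∉ T →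
        h * h = zz) ∧
      (Nat.card (Matrix.SpecialLinearGroup (Fin 2) F)).factorization 2 =
        (Nat.card T).factorization 2 + 1 ∧
      4 ∣ Nat.card T ∧
      (8 ∣ Nat.card T ↔ (Fintype.card F % 8 = 1 ∨ Fintype.card F % 8 = 7)) := by
  classical
  have h1 : 1 < Fintype.card F := Fintype.one_lt_card
  have hoddq : Fintype.card F % 2 = 1 := Nat.odd_iff.1 hodd
  have h2 : (2 : F) ≠ 0 := Cfsg.Agent.S0268.two_ne_zero_of_odd_card hodd
  by_cases h41 : Fintype.card F % 4 = 1
  · -- split torus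
    have hq5 : 5 ≤ Fintype.card F := by omega
    obtain ⟨x, hx⟩ := exists_avoid ({0, 1, -1} : Finset F) (by
      have := Finset.card_le_three (a := (0 : F)) (b := 1) (c := -1)
      omega)
    simp only [Finset.mem_insert, Finset.mem_singleton, not_or] at hx
    obtain ⟨hx0, hx1, hxm1⟩ := hx
    obtain ⟨d, hd⟩ : ∃ d, d = dsp F (Units.mk0 x hx0) := ⟨_, rfl⟩
    have hdT : d ∈ Tsp F := by rw [hd]; exact ⟨_, rfl⟩
    have hd00 : (d : Matrix (Fin 2) (Fin 2) F) 0 0 = x := by rw [hd, dsp_val, e00]; rfl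
    have hda : (d : Matrix (Fin 2) (Fin 2) F) 0 0 ^ 2 ≠ 1 := by
      rw [hd00]
      intro h
      have h3 : (x - 1) * (x + 1) = 0 := by linear_combination h
      rcases mul_eq_zero.1 h3 with h | h
      · exact hx1 (sub_eq_zero.1 h)
      · exact hxm1 (eq_neg_of_add_eq_zero_left h)
    obtain ⟨d01, d10⟩ := mem_Tsp.1 hdT
    have hS := Cfsg.Agent.S2428.result hodd d d01 d10 hda
    rw [cent_diag hdT hda] at hS
    obtain ⟨-, hcN, -, hsqN⟩ := hS
    refine ⟨Tsp F, Tsp_cyclic, ?_, ?_, ?_, ?_, ?_, ?_⟩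
    · intro t ht htt
      exact cent_diag ht (fun h => htt (Cfsg.Agent.S2430.diag_sq_one ht h))
    · rw [hcN, card_Tsp]
    · intro h hh hhT
      exact sq_eq_zz (hsqN h hh hhT)
    · rw [fac_sl2 hodd, card_Tsp, fac_two_eq_one (Fintype.card F + 1) (by omega)]
    · rw [card_Tsp]; omega
    · rw [card_Tsp]; omega
  · -- non-split torus
    have h43 : Fintype.card F % 4 = 3 := by omega
    obtain ⟨T', hcyc, hcard, -, hcent, -, hcN, -, hsqN⟩ := Cfsg.Agent.S2429.result hodd
    refine ⟨T', hcyc, ?_, ?_, ?_, ?_, ?_, ?_⟩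
    · intro t ht htt
      apply hcent t ht
      · intro h
        apply htt
        have : t = 1 := Subtype.ext (by rw [h]; rfl)
        rw [this, mul_one]
      · intro h
        apply htt
        have : t = zz := Subtype.ext (by rw [h, zz_val'])
        rw [this, zz_sq]
    · rw [hcN, hcard]
    · intro h hh hhT
      exact sq_eq_zz (hsqN h hh hhT)
    · rw [fac_sl2 hodd, hcard, fac_two_eq_one (Fintype.card F - 1) (by omega), add_comm]
    · rw [hcard]; omega
    · rw [hcard]; omega

theorem center_map (x : Matrix.SpecialLinearGroup (Fin 2) F) :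
    (Subgroup.center (Matrix.SpecialLinearGroup (Fin 2) F)).map (MulAut.conj x).toMonoidHom =
      Subgroup.center (Matrix.SpecialLinearGroup (Fin 2) F) := by
  ext y
  rw [Subgroup.mem_map_equiv]
  have h1 : (MulAut.conj x).symm y = x⁻¹ * y * x := by
    rw [MulAut.conj_symm_apply]
  rw [h1]
  constructor
  · intro h
    have h4 := Subgroup.mem_center_iff.1 h x
    have h5 : y = x⁻¹ * y * x := by
      calc y = x * (x⁻¹ * y * x) * x⁻¹ := by group
        _ = (x⁻¹ * y * x) * x * x⁻¹ := by rw [h4]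
        _ = x⁻¹ * y * x := by group
    rw [h5]; exact h
  · intro h
    have h3 : x⁻¹ * y * x = y := by
      have h4 := Subgroup.mem_center_iff.1 h x
      calc x⁻¹ * y * x = x⁻¹ * (y * x) := by group
        _ = x⁻¹ * (x * y) := by rw [h4]
        _ = y := by group
    rw [h3]; exact h

end

/-- Let F be a finite field with q elements, q odd, and S a Sylow 2-subgroup of SL₂ over F. The centraliser of S is the centre of SL₂ (of order 2); S is its own normaliser when q ≡ ±1 mod 8, and has index 3 in its normaliser when q ≡ ±3 mod 8. -/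
theorem result {F : Type*} [Field F] [Fintype F] (hodd : Odd (Fintype.card F)) (S : Sylow 2 (Matrix.SpecialLinearGroup (Fin 2) F)) :
    Subgroup.centralizer ((S : Subgroup (Matrix.SpecialLinearGroup (Fin 2) F)) : Set (Matrix.SpecialLinearGroup (Fin 2) F)) = Subgroup.center (Matrix.SpecialLinearGroup (Fin 2) F) ∧
    ((Fintype.card F % 8 = 1 ∨ Fintype.card F % 8 = 7) →
      Subgroup.normalizer ((S : Subgroup (Matrix.SpecialLinearGroup (Fin 2) F)) : Set (Matrix.SpecialLinearGroup (Fin 2) F)) = (S : Subgroup (Matrix.SpecialLinearGroup (Fin 2) F))) ∧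
    ((Fintype.card F % 8 = 3 ∨ Fintype.card F % 8 = 5) →
      Nat.card (Subgroup.normalizer ((S : Subgroup (Matrix.SpecialLinearGroup (Fin 2) F)) : Set (Matrix.SpecialLinearGroup (Fin 2) F))) = 3 * Nat.card S) := by
  classical
  obtain ⟨T, hcyc, hcent, hcN, hsqN, hfac, h4, h8⟩ := torus_data hodd
  have h2 : (2 : F) ≠ 0 := Cfsg.Agent.S0268.two_ne_zero_of_odd_card hodd
  have hoddq : Fintype.card F % 2 = 1 := Nat.odd_iff.1 hodd
  obtain ⟨S₀, g, cfg⟩ := exists_cfg hodd T hcyc hcent hcN hsqN hfac h4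
  have hT0 : Nat.card T ≠ 0 := Nat.card_pos.ne'
  have hC := cfg.center hodd
  obtain ⟨x, hx⟩ := MulAction.exists_smul_eq (Matrix.SpecialLinearGroup (Fin 2) F) S₀ S
  have hSmap : (S : Subgroup (Matrix.SpecialLinearGroup (Fin 2) F)) =
      (S₀ : Subgroup (Matrix.SpecialLinearGroup (Fin 2) F)).map (MulAut.conj x).toMonoidHom := by
    rw [← hx]; rfl
  have hinj : Function.Injective (MulAut.conj x).toMonoidHom := (MulAut.conj x).injective
  have hNmap : Subgroup.normalizer ((S : Subgroup (Matrix.SpecialLinearGroup (Fin 2) F)) :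
      Set (Matrix.SpecialLinearGroup (Fin 2) F)) =
      (Subgroup.normalizer ((S₀ : Subgroup (Matrix.SpecialLinearGroup (Fin 2) F)) :
        Set (Matrix.SpecialLinearGroup (Fin 2) F))).map (MulAut.conj x).toMonoidHom := by
    rw [hSmap, ← Subgroup.map_equiv_normalizer_eq]
  refine ⟨?_, ?_, ?_⟩
  · rw [hSmap, ← Cfsg.Agent.S2430.map_equiv_centralizer, hC, center_map]
  · intro hq
    have h3 : 3 ≤ (Nat.card T).factorization 2 :=
      (Nat.Prime.pow_dvd_iff_le_factorization Nat.prime_two hT0).1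
        (by rw [show (2 : ℕ) ^ 3 = 8 from rfl]; exact h8.2 hq)
    rw [hNmap, cfg.norm_big h3, ← hSmap]
  · intro hq
    have h3 : ¬ 8 ∣ Nat.card T := by rw [h8]; omega
    have ha : (Nat.card T).factorization 2 = 2 := by
      have h5 : ¬ 3 ≤ (Nat.card T).factorization 2 := by
        rw [← Nat.Prime.pow_dvd_iff_le_factorization Nat.prime_two hT0]
        rw [show (2 : ℕ) ^ 3 = 8 from rfl]
        exact h3
      have h6 := cfg.a2
      omega
    rw [ha] at cfg
    have h5 := cfg.norm_small hodd h2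
    rw [hNmap, ← Nat.card_congr ((Subgroup.normalizer
      ((S₀ : Subgroup (Matrix.SpecialLinearGroup (Fin 2) F)) :
        Set (Matrix.SpecialLinearGroup (Fin 2) F))).equivMapOfInjective _ hinj).toEquiv, h5]
    congr 1
    show Nat.card (S₀ : Subgroup (Matrix.SpecialLinearGroup (Fin 2) F)) =
      Nat.card (S : Subgroup (Matrix.SpecialLinearGroup (Fin 2) F))
    rw [hSmap]
    exact Nat.card_congr ((S₀ : Subgroup (Matrix.SpecialLinearGroup (Fin 2) F)).equivMapOfInjective
      _ hinj).toEquiv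


end Cfsg.Agent.S2431
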