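import Cfsg.Statements.S0766
import Cfsg.Agent.S0764
import Cfsg.Agent.Lib.Helper2.SympForm

set_option autoImplicit false
set_option linter.style.haveILetI false
open Cfsg

namespace Cfsg.Agent.S0766

open Cfsg.Agent.Lib.Helper2 Matrix

/-- the generating set of symplectic transvections -/
def gens (m : ℕ) (F : Type*) [Field F] : Set (Matrix.symplecticGroup (Fin m) F) :=
  {A : Matrix.symplecticGroup (Fin m) F | ∃ (w : Fin m ⊕ Fin m → F) (c : F), (A : Matrix (Fin m ⊕ Fin m) (Fin m ⊕ Fin m) F) = Cfsg.sympTransvection m w c}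

theorem single {F : Type*} [Field F] (m : ℕ) (x y : Fin m ⊕ Fin m → F) (hxy : Cfsg.sympForm m F x y ≠ 0) :
    ∃ A ∈ Subgroup.closure (gens m F),
      (A : Matrix (Fin m ⊕ Fin m) (Fin m ⊕ Fin m) F).mulVec x = y ∧
      ∀ u, Cfsg.sympForm m F u x = Cfsg.sympForm m F u y →
        (A : Matrix (Fin m ⊕ Fin m) (Fin m ⊕ Fin m) F).mulVec u = u := by
  refine ⟨⟨Cfsg.sympTransvection m (x - y) (Cfsg.sympForm m F x y)⁻¹, Cfsg.Agent.S0764.result m _ _⟩,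
    Subgroup.subset_closure ⟨_, _, rfl⟩, ?_, ?_⟩
  · show Cfsg.sympTransvection m (x - y) _ *ᵥ x = y
    rw [sympTransvection_mulVec, sympForm_sub_right, sympForm_self, zero_sub, mul_neg,
      inv_mul_cancel₀ hxy, neg_smul, one_smul]
    abel
  · intro u hu
    show Cfsg.sympTransvection m (x - y) _ *ᵥ u = u
    rw [sympTransvection_mulVec, sympForm_sub_right, hu, sub_self, mul_zero, zero_smul, add_zero]

theorem double {F : Type*} [Field F] (m : ℕ) (x y z : Fin m ⊕ Fin m → F)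
    (hxz : Cfsg.sympForm m F x z ≠ 0) (hzy : Cfsg.sympForm m F z y ≠ 0) :
    ∃ A ∈ Subgroup.closure (gens m F),
      (A : Matrix (Fin m ⊕ Fin m) (Fin m ⊕ Fin m) F).mulVec x = y ∧
      ∀ u, Cfsg.sympForm m F u x = Cfsg.sympForm m F u z →
        Cfsg.sympForm m F u z = Cfsg.sympForm m F u y →
        (A : Matrix (Fin m ⊕ Fin m) (Fin m ⊕ Fin m) F).mulVec u = u := by
  obtain ⟨A1, hA1, h1, h1'⟩ := single m x z hxz
  obtain ⟨A2, hA2, h2, h2'⟩ := single m z y hzy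
  refine ⟨A2 * A1, Subgroup.mul_mem _ hA2 hA1, ?_, ?_⟩
  · show ((A2 : Matrix (Fin m ⊕ Fin m) (Fin m ⊕ Fin m) F) * (A1 : Matrix (Fin m ⊕ Fin m) (Fin m ⊕ Fin m) F)) *ᵥ x = y
    rw [← Matrix.mulVec_mulVec]
    show (A2 : Matrix (Fin m ⊕ Fin m) (Fin m ⊕ Fin m) F).mulVec ((A1 : Matrix (Fin m ⊕ Fin m) (Fin m ⊕ Fin m) F).mulVec x) = y
    rw [h1, h2]
  · intro u hu1 hu2
    show ((A2 : Matrix (Fin m ⊕ Fin m) (Fin m ⊕ Fin m) F) * (A1 : Matrix (Fin m ⊕ Fin m) (Fin m ⊕ Fin m) F)) *ᵥ u = u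
    rw [← Matrix.mulVec_mulVec]
    show (A2 : Matrix (Fin m ⊕ Fin m) (Fin m ⊕ Fin m) F).mulVec ((A1 : Matrix (Fin m ⊕ Fin m) (Fin m ⊕ Fin m) F).mulVec u) = u
    rw [h1' u hu1, h2' u hu2]

theorem step1 {F : Type*} [Field F] (m : ℕ) (u v u' v' : Fin m ⊕ Fin m → F)
    (h : Cfsg.sympForm m F u v = 1) (h' : Cfsg.sympForm m F u' v' = 1) :
    ∃ A ∈ Subgroup.closure (gens m F),
      (A : Matrix (Fin m ⊕ Fin m) (Fin m ⊕ Fin m) F).mulVec u = u' := by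
  by_cases h0 : Cfsg.sympForm m F u u' ≠ 0
  · obtain ⟨A, hA, hAu, -⟩ := single m u u' h0
    exact ⟨A, hA, hAu⟩
  · push Not at h0
    have hv'u' : Cfsg.sympForm m F v' u' = -1 := by rw [sympForm_swap, h']
    obtain ⟨z, hz1, hz2⟩ : ∃ z, Cfsg.sympForm m F u z ≠ 0 ∧ Cfsg.sympForm m F z u' ≠ 0 := by
      by_cases h1 : Cfsg.sympForm m F v u' ≠ 0
      · exact ⟨v, by rw [h]; exact one_ne_zero, h1⟩
      · push Not at h1
        by_cases h2 : Cfsg.sympForm m F u v' ≠ 0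
        · exact ⟨v', h2, by rw [hv'u']; exact neg_ne_zero.2 one_ne_zero⟩
        · push Not at h2
          refine ⟨v + v', ?_, ?_⟩
          · rw [sympForm_add_right, h, h2, add_zero]; exact one_ne_zero
          · rw [sympForm_add_left, h1, hv'u', zero_add]; exact neg_ne_zero.2 one_ne_zero
    obtain ⟨A, hA, hAu, -⟩ := double m u u' z hz1 hz2
    exact ⟨A, hA, hAu⟩

theorem step2 {F : Type*} [Field F] (m : ℕ) (u v v' : Fin m ⊕ Fin m → F)
    (h : Cfsg.sympForm m F u v = 1) (h' : Cfsg.sympForm m F u v' = 1) :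
    ∃ A ∈ Subgroup.closure (gens m F),
      (A : Matrix (Fin m ⊕ Fin m) (Fin m ⊕ Fin m) F).mulVec u = u ∧
      (A : Matrix (Fin m ⊕ Fin m) (Fin m ⊕ Fin m) F).mulVec v = v' := by
  by_cases h0 : Cfsg.sympForm m F v v' ≠ 0
  · obtain ⟨A, hA, hAv, hfix⟩ := single m v v' h0
    exact ⟨A, hA, hfix u (by rw [h, h']), hAv⟩
  · push Not at h0
    have hvu : Cfsg.sympForm m F v u = -1 := by rw [sympForm_swap, h]
    have hz1 : Cfsg.sympForm m F v (u + v) ≠ 0 := by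
      rw [sympForm_add_right, hvu, sympForm_self, add_zero]; exact neg_ne_zero.2 one_ne_zero
    have hz2 : Cfsg.sympForm m F (u + v) v' ≠ 0 := by
      rw [sympForm_add_left, h', h0, add_zero]; exact one_ne_zero
    obtain ⟨A, hA, hAv, hfix⟩ := double m v v' (u + v) hz1 hz2
    refine ⟨A, hA, hfix u ?_ ?_, hAv⟩
    · rw [sympForm_add_right, sympForm_self, zero_add]
    · rw [sympForm_add_right, sympForm_self, zero_add, h, h']

/-- The subgroup generated by the symplectic transvections acts transitively on ordered pairs (u, v) with f(u, v) = 1. -/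
theorem result {F : Type*} [Field F] (m : ℕ) (u v u' v' : Fin m ⊕ Fin m → F) (h : Cfsg.sympForm m F u v = 1) (h' : Cfsg.sympForm m F u' v' = 1) : ∃ A ∈ Subgroup.closure {A : Matrix.symplecticGroup (Fin m) F | ∃ (w : Fin m ⊕ Fin m → F) (c : F), (A : Matrix (Fin m ⊕ Fin m) (Fin m ⊕ Fin m) F) = Cfsg.sympTransvection m w c}, (A : Matrix (Fin m ⊕ Fin m) (Fin m ⊕ Fin m) F).mulVec u = u' ∧ (A : Matrix (Fin m ⊕ Fin m) (Fin m ⊕ Fin m) F).mulVec v = v' := by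
  obtain ⟨A1, hA1, hA1u⟩ := step1 m u v u' v' h h'
  have hv1 : Cfsg.sympForm m F u' ((A1 : Matrix (Fin m ⊕ Fin m) (Fin m ⊕ Fin m) F).mulVec v) = 1 := by
    rw [← hA1u]
    exact (sympForm_mulVec_mulVec m _ A1.2 u v).trans h
  obtain ⟨A2, hA2, hA2u, hA2v⟩ := step2 m u' _ v' hv1 h'
  refine ⟨A2 * A1, Subgroup.mul_mem _ hA2 hA1, ?_, ?_⟩
  · show ((A2 : Matrix (Fin m ⊕ Fin m) (Fin m ⊕ Fin m) F) * (A1 : Matrix (Fin m ⊕ Fin m) (Fin m ⊕ Fin m) F)) *ᵥ u = u'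
    rw [← Matrix.mulVec_mulVec]
    show (A2 : Matrix (Fin m ⊕ Fin m) (Fin m ⊕ Fin m) F).mulVec ((A1 : Matrix (Fin m ⊕ Fin m) (Fin m ⊕ Fin m) F).mulVec u) = u'
    rw [hA1u, hA2u]
  · show ((A2 : Matrix (Fin m ⊕ Fin m) (Fin m ⊕ Fin m) F) * (A1 : Matrix (Fin m ⊕ Fin m) (Fin m ⊕ Fin m) F)) *ᵥ v = v'
    rw [← Matrix.mulVec_mulVec]
    exact hA2v

end Cfsg.Agent.S0766
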