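import Cfsg.Statements.S0765
import Mathlib
import Cfsg.Agent.S0766
import Cfsg.Agent.Lib.Helper2.SympForm
-- import your own Cfsg.Agent.* helpers here

set_option autoImplicit false
open Cfsg

namespace Cfsg.Agent.S0765

open Cfsg.Agent.Lib.Helper2 Matrix

section
variable (m : ℕ) (F : Type*) [Field F]

/-- the symplectic form as a bilinear form -/
noncomputable def Bf : LinearMap.BilinForm F (Fin m ⊕ Fin m → F) :=
  Matrix.toBilin' (Matrix.J (Fin m) F)

theorem Bf_apply (x y : Fin m ⊕ Fin m → F) : Bf m F x y = Cfsg.sympForm m F x y := by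
  unfold Bf Cfsg.sympForm
  rw [Matrix.toBilin'_apply']

theorem Bf_nondeg : (Bf m F).Nondegenerate := by
  unfold Bf
  rw [Matrix.nondegenerate_toBilin'_iff]
  exact Matrix.nondegenerate_of_det_ne_zero (Matrix.isUnit_det_J (Fin m) F).ne_zero

theorem Bf_refl : (Bf m F).IsRefl := by
  apply LinearMap.BilinForm.IsAlt.isRefl
  intro x
  rw [Bf_apply, sympForm_self]

variable {F}

theorem exists_perp (U : Submodule F (Fin m ⊕ Fin m → F)) (v : Fin m ⊕ Fin m → F) (hv : v ∉ U) :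
    ∃ y, (∀ x ∈ U, Cfsg.sympForm m F x y = 0) ∧ Cfsg.sympForm m F y v ≠ 0 := by
  by_contra hcon
  push Not at hcon
  apply hv
  rw [← LinearMap.BilinForm.orthogonal_orthogonal (Bf_nondeg m F) (Bf_refl m F) U]
  rw [LinearMap.BilinForm.mem_orthogonal_iff]
  intro y hy
  rw [Bf_apply]
  apply hcon
  intro x hx
  rw [← Bf_apply]
  exact LinearMap.BilinForm.mem_orthogonal_iff.1 hy x hx

/-- the fixed space of a matrix -/
def fixS (A : Matrix (Fin m ⊕ Fin m) (Fin m ⊕ Fin m) F) : Submodule F (Fin m ⊕ Fin m → F) where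
  carrier := {x | A *ᵥ x = x}
  add_mem' := by
    intro a b ha hb
    have ha' : A *ᵥ a = a := ha
    have hb' : A *ᵥ b = b := hb
    change A *ᵥ (a + b) = a + b
    rw [Matrix.mulVec_add, ha', hb']
  zero_mem' := by
    change A *ᵥ 0 = 0
    rw [Matrix.mulVec_zero]
  smul_mem' := by
    intro c a ha
    have ha' : A *ᵥ a = a := ha
    change A *ᵥ (c • a) = c • a
    rw [Matrix.mulVec_smul, ha']

theorem mem_fixS (A : Matrix (Fin m ⊕ Fin m) (Fin m ⊕ Fin m) F) (x : Fin m ⊕ Fin m → F) :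
    x ∈ fixS m A ↔ A *ᵥ x = x := Iff.rfl

theorem enlarge (g : Matrix.symplecticGroup (Fin m) F) (v : Fin m ⊕ Fin m → F)
    (hv : (g : Matrix (Fin m ⊕ Fin m) (Fin m ⊕ Fin m) F) *ᵥ v ≠ v) :
    ∃ t ∈ Subgroup.closure (Cfsg.Agent.S0766.gens m F),
      (∀ x, (g : Matrix (Fin m ⊕ Fin m) (Fin m ⊕ Fin m) F) *ᵥ x = x →
        ((t * g : Matrix.symplecticGroup (Fin m) F) : Matrix (Fin m ⊕ Fin m) (Fin m ⊕ Fin m) F)
          *ᵥ x = x) ∧
      ((t * g : Matrix.symplecticGroup (Fin m) F) : Matrix (Fin m ⊕ Fin m) (Fin m ⊕ Fin m) F)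
        *ᵥ v = v := by
  obtain ⟨w, hw⟩ : ∃ w, w = (g : Matrix (Fin m ⊕ Fin m) (Fin m ⊕ Fin m) F) *ᵥ v := ⟨_, rfl⟩
  have hmul : ∀ (t : Matrix.symplecticGroup (Fin m) F) (x : Fin m ⊕ Fin m → F),
      ((t * g : Matrix.symplecticGroup (Fin m) F) : Matrix (Fin m ⊕ Fin m) (Fin m ⊕ Fin m) F) *ᵥ x
        = (t : Matrix (Fin m ⊕ Fin m) (Fin m ⊕ Fin m) F) *ᵥ
          ((g : Matrix (Fin m ⊕ Fin m) (Fin m ⊕ Fin m) F) *ᵥ x) := by
    intro t x
    change ((t : Matrix (Fin m ⊕ Fin m) (Fin m ⊕ Fin m) F) *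
      (g : Matrix (Fin m ⊕ Fin m) (Fin m ⊕ Fin m) F)) *ᵥ x = _
    rw [Matrix.mulVec_mulVec]
  have hfixform : ∀ x, (g : Matrix (Fin m ⊕ Fin m) (Fin m ⊕ Fin m) F) *ᵥ x = x →
      Cfsg.sympForm m F x w = Cfsg.sympForm m F x v := by
    intro x hx
    calc Cfsg.sympForm m F x w
        = Cfsg.sympForm m F ((g : Matrix (Fin m ⊕ Fin m) (Fin m ⊕ Fin m) F) *ᵥ x)
            ((g : Matrix (Fin m ⊕ Fin m) (Fin m ⊕ Fin m) F) *ᵥ v) := by rw [hx, hw]
      _ = Cfsg.sympForm m F x v := sympForm_mulVec_mulVec m _ g.2 x v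
  by_cases h0 : Cfsg.sympForm m F w v ≠ 0
  · obtain ⟨t, ht, htw, htfix⟩ := Cfsg.Agent.S0766.single m w v h0
    refine ⟨t, ht, ?_, ?_⟩
    · intro x hx
      rw [hmul, hx]
      exact htfix x (hfixform x hx)
    · rw [hmul, ← hw]
      exact htw
  · push Not at h0
    have hinv : ((g⁻¹ : Matrix.symplecticGroup (Fin m) F) :
        Matrix (Fin m ⊕ Fin m) (Fin m ⊕ Fin m) F) *
        (g : Matrix (Fin m ⊕ Fin m) (Fin m ⊕ Fin m) F) = 1 := by
      have := congrArg Subtype.val (inv_mul_cancel g)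
      exact this
    have hinj : ∀ a b : Fin m ⊕ Fin m → F,
        (g : Matrix (Fin m ⊕ Fin m) (Fin m ⊕ Fin m) F) *ᵥ a =
        (g : Matrix (Fin m ⊕ Fin m) (Fin m ⊕ Fin m) F) *ᵥ b → a = b := by
      intro a b hab
      have ha : ((g⁻¹ : Matrix.symplecticGroup (Fin m) F) :
          Matrix (Fin m ⊕ Fin m) (Fin m ⊕ Fin m) F) *ᵥ
          ((g : Matrix (Fin m ⊕ Fin m) (Fin m ⊕ Fin m) F) *ᵥ a) = a := by
        rw [Matrix.mulVec_mulVec, hinv, Matrix.one_mulVec]
      have hb : ((g⁻¹ : Matrix.symplecticGroup (Fin m) F) :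
          Matrix (Fin m ⊕ Fin m) (Fin m ⊕ Fin m) F) *ᵥ
          ((g : Matrix (Fin m ⊕ Fin m) (Fin m ⊕ Fin m) F) *ᵥ b) = b := by
        rw [Matrix.mulVec_mulVec, hinv, Matrix.one_mulVec]
      rw [← ha, hab, hb]
    have hvU : v ∉ fixS m (g : Matrix (Fin m ⊕ Fin m) (Fin m ⊕ Fin m) F) := hv
    have hwU : w ∉ fixS m (g : Matrix (Fin m ⊕ Fin m) (Fin m ⊕ Fin m) F) := by
      intro h
      rw [mem_fixS, hw] at h
      exact hv (hinj _ _ h)
    obtain ⟨y₁, hy₁U, hy₁⟩ := exists_perp m _ v hvU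
    obtain ⟨y₂, hy₂U, hy₂⟩ := exists_perp m _ w hwU
    have hy₂' : Cfsg.sympForm m F w y₂ ≠ 0 := by
      rw [sympForm_swap]; exact neg_ne_zero.2 hy₂
    obtain ⟨y, hyU, hyv, hwy⟩ : ∃ y,
        (∀ x ∈ fixS m (g : Matrix (Fin m ⊕ Fin m) (Fin m ⊕ Fin m) F), Cfsg.sympForm m F x y = 0) ∧
        Cfsg.sympForm m F y v ≠ 0 ∧ Cfsg.sympForm m F w y ≠ 0 := by
      by_cases h1 : Cfsg.sympForm m F w y₁ ≠ 0
      · exact ⟨y₁, hy₁U, hy₁, h1⟩
      · push Not at h1
        by_cases h2 : Cfsg.sympForm m F y₂ v ≠ 0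
        · exact ⟨y₂, hy₂U, h2, hy₂'⟩
        · push Not at h2
          refine ⟨y₁ + y₂, ?_, ?_, ?_⟩
          · intro x hx
            rw [sympForm_add_right, hy₁U x hx, hy₂U x hx, add_zero]
          · rw [sympForm_add_left, h2, add_zero]; exact hy₁
          · rw [sympForm_add_right, h1, zero_add]; exact hy₂'
    have hwz : Cfsg.sympForm m F w (v + y) ≠ 0 := by
      rw [sympForm_add_right, h0, zero_add]; exact hwy
    have hzv : Cfsg.sympForm m F (v + y) v ≠ 0 := by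
      rw [sympForm_add_left, sympForm_self, zero_add]; exact hyv
    obtain ⟨t, ht, htw, htfix⟩ := Cfsg.Agent.S0766.double m w v (v + y) hwz hzv
    refine ⟨t, ht, ?_, ?_⟩
    · intro x hx
      rw [hmul, hx]
      apply htfix x
      · rw [hfixform x hx, sympForm_add_right, hyU x hx, add_zero]
      · rw [sympForm_add_right, hyU x hx, add_zero]
    · rw [hmul, ← hw]
      exact htw

theorem main : ∀ (n : ℕ) (g : Matrix.symplecticGroup (Fin m) F),
    Module.finrank F (Fin m ⊕ Fin m → F) -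
      Module.finrank F (fixS m (g : Matrix (Fin m ⊕ Fin m) (Fin m ⊕ Fin m) F)) = n →
    g ∈ Subgroup.closure (Cfsg.Agent.S0766.gens m F) := by
  intro n
  induction n using Nat.strong_induction_on with
  | _ n ih =>
    intro g hn
    by_cases htop : fixS m (g : Matrix (Fin m ⊕ Fin m) (Fin m ⊕ Fin m) F) = ⊤
    · have : g = 1 := by
        apply Subtype.ext
        apply Matrix.mulVec_injective
        funext x
        have hx : x ∈ fixS m (g : Matrix (Fin m ⊕ Fin m) (Fin m ⊕ Fin m) F) := by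
          rw [htop]; trivial
        change (g : Matrix (Fin m ⊕ Fin m) (Fin m ⊕ Fin m) F) *ᵥ x =
          (1 : Matrix (Fin m ⊕ Fin m) (Fin m ⊕ Fin m) F) *ᵥ x
        rw [Matrix.one_mulVec]
        exact hx
      rw [this]
      exact Subgroup.one_mem _
    · obtain ⟨v, hv⟩ : ∃ v, v ∉ fixS m (g : Matrix (Fin m ⊕ Fin m) (Fin m ⊕ Fin m) F) := by
        by_contra h
        push Not at h
        exact htop (Submodule.eq_top_iff'.2 h)
      obtain ⟨t, ht, hfix, htv⟩ := enlarge m g v hv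
      have hlt : fixS m (g : Matrix (Fin m ⊕ Fin m) (Fin m ⊕ Fin m) F) <
          fixS m ((t * g : Matrix.symplecticGroup (Fin m) F) :
            Matrix (Fin m ⊕ Fin m) (Fin m ⊕ Fin m) F) := by
        refine lt_of_le_of_ne (fun x hx => hfix x hx) ?_
        intro h
        apply hv
        rw [h]
        exact htv
      have hlt' := Submodule.finrank_lt_finrank_of_lt hlt
      have hle' : Module.finrank F (fixS m ((t * g : Matrix.symplecticGroup (Fin m) F) :
            Matrix (Fin m ⊕ Fin m) (Fin m ⊕ Fin m) F)) ≤ Module.finrank F (Fin m ⊕ Fin m → F) :=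
        Submodule.finrank_le _
      have h1 := ih (Module.finrank F (Fin m ⊕ Fin m → F) -
        Module.finrank F (fixS m ((t * g : Matrix.symplecticGroup (Fin m) F) :
            Matrix (Fin m ⊕ Fin m) (Fin m ⊕ Fin m) F))) (by omega) (t * g) rfl
      have h2 := Subgroup.mul_mem _ (Subgroup.inv_mem _ ht) h1
      rwa [inv_mul_cancel_left] at h2

end

/-- Generation of the symplectic group by symplectic transvections: the subgroup of Sp_2m(F) generated by all matrices of maps x ↦ x + c f(x, w) w is the whole group. -/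
theorem result {F : Type*} [Field F] (m : ℕ) : Subgroup.closure {A : Matrix.symplecticGroup (Fin m) F | ∃ (w : Fin m ⊕ Fin m → F) (c : F), (A : Matrix (Fin m ⊕ Fin m) (Fin m ⊕ Fin m) F) = Cfsg.sympTransvection m w c} = ⊤ := by
  rw [eq_top_iff]
  intro g _
  exact main m _ g rfl

end Cfsg.Agent.S0765
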