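import Cfsg.Statements.S0767
import Cfsg.Agent.Lib.Helper2.Symp

set_option autoImplicit false
set_option linter.style.haveILetI false
open Cfsg

namespace Cfsg.Agent.S0767

open Cfsg.Agent.Lib.Helper2 Matrix

theorem vecMulVec_zero_right {F : Type*} [CommRing F] {ι κ : Type*} (v : ι → F) :
    Matrix.vecMulVec v (0 : κ → F) = 0 := by
  ext i j
  simp [Matrix.vecMulVec_apply]

theorem vecMulVec_smul_smul {F : Type*} [CommRing F] {ι κ : Type*} (a b : F) (v : ι → F)
    (w : κ → F) : Matrix.vecMulVec (a • v) (b • w) = (a * b) • Matrix.vecMulVec v w := by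
  ext i j
  simp [Matrix.vecMulVec_apply]
  ring

/-- The root group of a point: T_v(c) T_v(d) = T_v(c + d), and for A in the symplectic group with A v = a v, the conjugate A T_v(c) A⁻¹ is again some T_v(d). -/
theorem result {F : Type*} [Field F] (m : ℕ) (v : Fin m ⊕ Fin m → F) : (∀ c d : F, Cfsg.sympTransvection m v c * Cfsg.sympTransvection m v d = Cfsg.sympTransvection m v (c + d)) ∧ ∀ (A : Matrix (Fin m ⊕ Fin m) (Fin m ⊕ Fin m) F) (a : F), A ∈ Matrix.symplecticGroup (Fin m) F → A.mulVec v = a • v → ∀ c : F, ∃ d : F, A * Cfsg.sympTransvection m v c * A⁻¹ = Cfsg.sympTransvection m v d := by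
  set w := Matrix.J (Fin m) F *ᵥ v with hw
  constructor
  · intro c d
    unfold Cfsg.sympTransvection
    rw [← hw, Matrix.add_mul, Matrix.one_mul, Matrix.mul_add, Matrix.mul_one, Matrix.smul_mul,
      Matrix.mul_smul, Matrix.vecMulVec_mul_vecMulVec, hw, J_dot_self, zero_smul,
      vecMulVec_zero_right, smul_zero, smul_zero, add_zero, add_smul]
    abel
  · intro A a hA hAv c
    refine ⟨c * (a * a), ?_⟩
    unfold Cfsg.sympTransvection
    rw [← hw]
    have hdet : IsUnit A.det := SymplecticGroup.symplectic_det hA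
    have hAA : A * A⁻¹ = 1 := Matrix.mul_nonsing_inv A hdet
    have hvJ : v ᵥ* Matrix.J (Fin m) F = -w := by
      have h1 : w = v ᵥ* (- Matrix.J (Fin m) F) := by
        rw [hw, ← Matrix.J_transpose, Matrix.vecMul_transpose]
      rw [h1, Matrix.vecMul_neg, neg_neg]
    have hwA : w ᵥ* A⁻¹ = a • w := by
      rw [SymplecticGroup.inv_eq_symplectic_inv A hA, ← Matrix.vecMul_vecMul,
        ← Matrix.vecMul_vecMul, Matrix.vecMul_neg, hw, J_mulVec_vecMul_J, Matrix.neg_vecMul,
        Matrix.vecMul_transpose, hAv, Matrix.neg_vecMul, Matrix.smul_vecMul, hvJ, smul_neg,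
        neg_neg]
    rw [Matrix.mul_add, Matrix.mul_one, Matrix.add_mul, hAA, Matrix.mul_smul, Matrix.smul_mul,
      Matrix.mul_vecMulVec, Matrix.vecMulVec_mul, hAv, hwA, vecMulVec_smul_smul, smul_smul]

end Cfsg.Agent.S0767
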