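import Cfsg.Statements.S0768
import Mathlib
import Cfsg.Agent.S0765
-- import your own Cfsg.Agent.* helpers here

set_option autoImplicit false
open Cfsg

namespace Cfsg.Agent.S0768

open Cfsg.Agent.Lib.Helper2 Matrix
open scoped LinearAlgebra.Projectivization Pointwise

section
variable (m : ℕ) {F : Type*} [Field F]

theorem two_functionals (U : Submodule F (Fin m ⊕ Fin m → F)) (a b : Fin m ⊕ Fin m → F)
    (ha : a ∉ U) (hb : b ∉ U) :
    ∃ z, (∀ x ∈ U, Cfsg.sympForm m F x z = 0) ∧ Cfsg.sympForm m F a z ≠ 0 ∧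
      Cfsg.sympForm m F z b ≠ 0 := by
  obtain ⟨y₁, hy₁U, hy₁⟩ := Cfsg.Agent.S0765.exists_perp m U a ha
  obtain ⟨y₂, hy₂U, hy₂⟩ := Cfsg.Agent.S0765.exists_perp m U b hb
  have hy₁' : Cfsg.sympForm m F a y₁ ≠ 0 := by rw [sympForm_swap]; exact neg_ne_zero.2 hy₁
  by_cases h1 : Cfsg.sympForm m F y₁ b ≠ 0
  · exact ⟨y₁, hy₁U, hy₁', h1⟩
  · push Not at h1
    by_cases h2 : Cfsg.sympForm m F a y₂ ≠ 0
    · exact ⟨y₂, hy₂U, h2, hy₂⟩
    · push Not at h2
      refine ⟨y₁ + y₂, ?_, ?_, ?_⟩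
      · intro x hx
        rw [sympForm_add_right, hy₁U x hx, hy₂U x hx, add_zero]
      · rw [sympForm_add_right, h2, add_zero]; exact hy₁'
      · rw [sympForm_add_left, h1, zero_add]; exact hy₂

theorem move (U : Submodule F (Fin m ⊕ Fin m → F)) (x y : Fin m ⊕ Fin m → F)
    (hx : x ∉ U) (hy : y ∉ U)
    (hU : ∀ u ∈ U, Cfsg.sympForm m F u x = Cfsg.sympForm m F u y) :
    ∃ A : Matrix.symplecticGroup (Fin m) F,
      (A : Matrix (Fin m ⊕ Fin m) (Fin m ⊕ Fin m) F) *ᵥ x = y ∧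
      ∀ u ∈ U, (A : Matrix (Fin m ⊕ Fin m) (Fin m ⊕ Fin m) F) *ᵥ u = u := by
  by_cases h0 : Cfsg.sympForm m F x y ≠ 0
  · obtain ⟨A, -, hAx, hfix⟩ := Cfsg.Agent.S0766.single m x y h0
    exact ⟨A, hAx, fun u hu => hfix u (hU u hu)⟩
  · push Not at h0
    obtain ⟨z₀, hz₀U, hxz, hzy⟩ := two_functionals m U x y hx hy
    have h1 : Cfsg.sympForm m F x (x + z₀) ≠ 0 := by
      rw [sympForm_add_right, sympForm_self, zero_add]; exact hxz
    have h2 : Cfsg.sympForm m F (x + z₀) y ≠ 0 := by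
      rw [sympForm_add_left, h0, zero_add]; exact hzy
    obtain ⟨A, -, hAx, hfix⟩ := Cfsg.Agent.S0766.double m x y (x + z₀) h1 h2
    refine ⟨A, hAx, fun u hu => hfix u ?_ ?_⟩
    · rw [sympForm_add_right, hz₀U u hu, add_zero]
    · rw [sympForm_add_right, hz₀U u hu, add_zero]; exact hU u hu

theorem mulVec_ne_zero (A : Matrix.symplecticGroup (Fin m) F) (v : Fin m ⊕ Fin m → F)
    (hv : v ≠ 0) : (A : Matrix (Fin m ⊕ Fin m) (Fin m ⊕ Fin m) F) *ᵥ v ≠ 0 := by
  intro h
  apply hv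
  have hinv : ((A⁻¹ : Matrix.symplecticGroup (Fin m) F) :
      Matrix (Fin m ⊕ Fin m) (Fin m ⊕ Fin m) F) *
      (A : Matrix (Fin m ⊕ Fin m) (Fin m ⊕ Fin m) F) = 1 := by
    have := congrArg Subtype.val (inv_mul_cancel A)
    exact this
  have h1 : ((A⁻¹ : Matrix.symplecticGroup (Fin m) F) :
      Matrix (Fin m ⊕ Fin m) (Fin m ⊕ Fin m) F) *ᵥ
      ((A : Matrix (Fin m ⊕ Fin m) (Fin m ⊕ Fin m) F) *ᵥ v) = v := by
    rw [Matrix.mulVec_mulVec, hinv, Matrix.one_mulVec]
  rw [← h1, h, Matrix.mulVec_zero]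

/-- a symplectic matrix as an element of `spGL` -/
noncomputable def mkG (A : Matrix.symplecticGroup (Fin m) F) : Cfsg.spGL m F :=
  ⟨Units.map (Matrix.symplecticGroup (Fin m) F).subtype (toUnits A), by
    intro u v
    change Cfsg.sympForm m F ((A : Matrix (Fin m ⊕ Fin m) (Fin m ⊕ Fin m) F) *ᵥ u)
      ((A : Matrix (Fin m ⊕ Fin m) (Fin m ⊕ Fin m) F) *ᵥ v) = _
    exact sympForm_mulVec_mulVec m _ A.2 u v⟩

theorem mk_congr {x y : Fin m ⊕ Fin m → F} (h : x = y) (hx : x ≠ 0) (hy : y ≠ 0) :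
    Projectivization.mk F x hx = Projectivization.mk F y hy := by
  subst h; rfl

theorem mkG_smul (A : Matrix.symplecticGroup (Fin m) F) (v : Fin m ⊕ Fin m → F) (hv : v ≠ 0)
    (hv' : (A : Matrix (Fin m ⊕ Fin m) (Fin m ⊕ Fin m) F) *ᵥ v ≠ 0) :
    mkG m A • Projectivization.mk F v hv =
      Projectivization.mk F ((A : Matrix (Fin m ⊕ Fin m) (Fin m ⊕ Fin m) F) *ᵥ v) hv' := by
  rw [Subgroup.smul_def, Projectivization.smul_mk]
  apply mk_congr
  rfl

theorem block_fix {B : Set (ℙ F (Fin m ⊕ Fin m → F))}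
    (hB : MulAction.IsBlock (Cfsg.spGL m F) B) (g : Cfsg.spGL m F)
    (p q : ℙ F (Fin m ⊕ Fin m → F)) (hp : p ∈ B) (hq : q ∈ B) (hgp : g • p = p) :
    g • q ∈ B := by
  have h1 : (g • B ∩ B).Nonempty := ⟨p, Set.mem_smul_set.2 ⟨p, hp, hgp⟩, hp⟩
  have h2 := MulAction.isBlock_iff_smul_eq_of_nonempty.1 hB h1
  rw [← h2]
  exact Set.smul_mem_smul_set hq

/-- the vector represents a point of `B` -/
def inB (B : Set (ℙ F (Fin m ⊕ Fin m → F))) (v : Fin m ⊕ Fin m → F) : Prop :=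
  ∃ hv : v ≠ 0, Projectivization.mk F v hv ∈ B

theorem inB_smul {B : Set (ℙ F (Fin m ⊕ Fin m → F))} {v : Fin m ⊕ Fin m → F}
    (h : inB m B v) (c : F) (hc : c ≠ 0) : inB m B (c • v) := by
  obtain ⟨hv, hmem⟩ := h
  refine ⟨smul_ne_zero hc hv, ?_⟩
  have : Projectivization.mk F (c • v) (smul_ne_zero hc hv) = Projectivization.mk F v hv := by
    rw [Projectivization.mk_eq_mk_iff']
    exact ⟨c, rfl⟩
  rw [this]; exact hmem

theorem inB_map {B : Set (ℙ F (Fin m ⊕ Fin m → F))}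
    (hB : MulAction.IsBlock (Cfsg.spGL m F) B) (A : Matrix.symplecticGroup (Fin m) F)
    {v x : Fin m ⊕ Fin m → F} (hv : inB m B v) (hx : inB m B x)
    (hAv : (A : Matrix (Fin m ⊕ Fin m) (Fin m ⊕ Fin m) F) *ᵥ v = v) :
    inB m B ((A : Matrix (Fin m ⊕ Fin m) (Fin m ⊕ Fin m) F) *ᵥ x) := by
  obtain ⟨hv0, hvB⟩ := hv
  obtain ⟨hx0, hxB⟩ := hx
  have hAx0 := mulVec_ne_zero m A x hx0
  refine ⟨hAx0, ?_⟩
  rw [← mkG_smul m A x hx0 hAx0]
  apply block_fix m hB (mkG m A) _ _ hvB hxB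
  have hAv0 : (A : Matrix (Fin m ⊕ Fin m) (Fin m ⊕ Fin m) F) *ᵥ v ≠ 0 := by rw [hAv]; exact hv0
  rw [mkG_smul m A v hv0 hAv0]
  exact mk_congr m hAv _ _

theorem not_mem_span_of_ne {v y : Fin m ⊕ Fin m → F} (hy : Cfsg.sympForm m F v y ≠ 0) :
    y ∉ Submodule.span F {v} := by
  intro hmem
  obtain ⟨a, rfl⟩ := Submodule.mem_span_singleton.1 hmem
  apply hy
  rw [sympForm_smul_right, sympForm_self, mul_zero]

theorem stepI {B : Set (ℙ F (Fin m ⊕ Fin m → F))}
    (hB : MulAction.IsBlock (Cfsg.spGL m F) B) {v w : Fin m ⊕ Fin m → F}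
    (hv : inB m B v) (hw : inB m B w) (hvw : Cfsg.sympForm m F v w ≠ 0)
    (w' : Fin m ⊕ Fin m → F) (hvw' : Cfsg.sympForm m F v w' ≠ 0) : inB m B w' := by
  obtain ⟨c, hc⟩ : ∃ c : F, c = Cfsg.sympForm m F v w / Cfsg.sympForm m F v w' := ⟨_, rfl⟩
  have hc0 : c ≠ 0 := by rw [hc]; exact div_ne_zero hvw hvw'
  have hfw'' : Cfsg.sympForm m F v (c • w') = Cfsg.sympForm m F v w := by
    rw [sympForm_smul_right, hc, div_mul_cancel₀ _ hvw']
  obtain ⟨A, hAw, hfix⟩ := move m (Submodule.span F {v}) w (c • w')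
    (not_mem_span_of_ne m hvw) (not_mem_span_of_ne m (by rw [hfw'']; exact hvw)) (by
      intro u hu
      obtain ⟨a, rfl⟩ := Submodule.mem_span_singleton.1 hu
      rw [sympForm_smul_left, sympForm_smul_left, hfw''])
  have hAv : (A : Matrix (Fin m ⊕ Fin m) (Fin m ⊕ Fin m) F) *ᵥ v = v :=
    hfix v (Submodule.mem_span_singleton_self v)
  have h1 := inB_map m hB A hv hw hAv
  rw [hAw] at h1
  have h2 := inB_smul m h1 c⁻¹ (inv_ne_zero hc0)
  rwa [smul_smul, inv_mul_cancel₀ hc0, one_smul] at h2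

theorem stepII {B : Set (ℙ F (Fin m ⊕ Fin m → F))}
    (hB : MulAction.IsBlock (Cfsg.spGL m F) B) {v w : Fin m ⊕ Fin m → F}
    (hv : inB m B v) (hw : inB m B w) (hvw : Cfsg.sympForm m F v w = 0)
    (hwv : w ∉ Submodule.span F {v})
    (w' : Fin m ⊕ Fin m → F) (hvw' : Cfsg.sympForm m F v w' = 0)
    (hw'v : w' ∉ Submodule.span F {v}) : inB m B w' := by
  obtain ⟨A, hAw, hfix⟩ := move m (Submodule.span F {v}) w w' hwv hw'v (by
      intro u hu
      obtain ⟨a, rfl⟩ := Submodule.mem_span_singleton.1 hu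
      rw [sympForm_smul_left, sympForm_smul_left, hvw, hvw'])
  have hAv : (A : Matrix (Fin m ⊕ Fin m) (Fin m ⊕ Fin m) F) *ᵥ v = v :=
    hfix v (Submodule.mem_span_singleton_self v)
  have h1 := inB_map m hB A hv hw hAv
  rwa [hAw] at h1

theorem sympForm_zero_left (x : Fin m ⊕ Fin m → F) : Cfsg.sympForm m F 0 x = 0 := by
  unfold Cfsg.sympForm
  rw [zero_dotProduct]

end

/-- Over a finite field the symplectic group acts primitively on the points of the projective space of its natural module: the action is transitive and admits no non-trivial blocks. -/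
theorem result {F : Type*} [Field F] [Finite F] (m : ℕ) (hm : 1 ≤ m) : MulAction.IsPreprimitive ↥(Cfsg.spGL m F) (ℙ F (Fin m ⊕ Fin m → F)) := by
  have htrans : MulAction.IsPretransitive ↥(Cfsg.spGL m F) (ℙ F (Fin m ⊕ Fin m → F)) := by
    constructor
    intro p q
    obtain ⟨v, hv, rfl⟩ : ∃ (v : Fin m ⊕ Fin m → F) (hv : v ≠ 0), p = Projectivization.mk F v hv :=
      ⟨p.rep, p.rep_nonzero, p.mk_rep.symm⟩
    obtain ⟨v', hv', rfl⟩ : ∃ (v : Fin m ⊕ Fin m → F) (hv : v ≠ 0),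
        q = Projectivization.mk F v hv := ⟨q.rep, q.rep_nonzero, q.mk_rep.symm⟩
    obtain ⟨A, hAv, -⟩ := move m ⊥ v v' (by simpa using hv) (by simpa using hv') (by
      intro u hu
      rw [Submodule.mem_bot] at hu
      rw [hu, sympForm_zero_left, sympForm_zero_left])
    refine ⟨mkG m A, ?_⟩
    rw [mkG_smul m A v hv (by rw [hAv]; exact hv')]
    exact mk_congr m hAv _ _
  refine @MulAction.IsPreprimitive.mk _ _ _ htrans ?_
  intro B hB
  by_cases hsub : B.Subsingleton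
  · exact Or.inl hsub
  right
  obtain ⟨p, hp, q, hq, hpq⟩ := Set.not_subsingleton_iff.1 hsub
  obtain ⟨v, hv0, rfl⟩ : ∃ (v : Fin m ⊕ Fin m → F) (hv : v ≠ 0), p = Projectivization.mk F v hv :=
    ⟨p.rep, p.rep_nonzero, p.mk_rep.symm⟩
  obtain ⟨w, hw0, rfl⟩ : ∃ (v : Fin m ⊕ Fin m → F) (hv : v ≠ 0),
      q = Projectivization.mk F v hv := ⟨q.rep, q.rep_nonzero, q.mk_rep.symm⟩
  have hv : inB m B v := ⟨hv0, hp⟩
  have hw : inB m B w := ⟨hw0, hq⟩
  have hwv : w ∉ Submodule.span F {v} := by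
    intro hmem
    obtain ⟨a, ha⟩ := Submodule.mem_span_singleton.1 hmem
    have ha0 : a ≠ 0 := by
      rintro rfl
      rw [zero_smul] at ha
      exact hw0 ha.symm
    apply hpq
    rw [Projectivization.mk_eq_mk_iff']
    exact ⟨a⁻¹, by rw [← ha, smul_smul, inv_mul_cancel₀ ha0, one_smul]⟩
  have hall : ∀ x : Fin m ⊕ Fin m → F, x ≠ 0 → inB m B x := by
    intro x hx
    by_cases hvw : Cfsg.sympForm m F v w ≠ 0
    · obtain ⟨y, -, hvy, hyx⟩ := two_functionals m ⊥ v x (by simpa using hv0) (by simpa using hx)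
      have hy := stepI m hB hv hw hvw y hvy
      have hyv : Cfsg.sympForm m F y v ≠ 0 := by
        rw [Cfsg.Agent.Lib.Helper2.sympForm_swap]; exact neg_ne_zero.2 hvy
      exact stepI m hB hy hv hyv x hyx
    · push Not at hvw
      by_cases hvx : Cfsg.sympForm m F v x = 0
      · by_cases hxv : x ∈ Submodule.span F {v}
        · obtain ⟨a, rfl⟩ := Submodule.mem_span_singleton.1 hxv
          have ha : a ≠ 0 := by
            rintro rfl
            exact hx (zero_smul _ _)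
          exact inB_smul m hv a ha
        · exact stepII m hB hv hw hvw hwv x hvx hxv
      · obtain ⟨y, hydef⟩ : ∃ y, y = w - (Cfsg.sympForm m F x w / Cfsg.sympForm m F x v) • v :=
          ⟨_, rfl⟩
        have hxv' : Cfsg.sympForm m F x v ≠ 0 := by
          rw [Cfsg.Agent.Lib.Helper2.sympForm_swap]; exact neg_ne_zero.2 hvx
        have hvy : Cfsg.sympForm m F v y = 0 := by
          rw [hydef, Cfsg.Agent.Lib.Helper2.sympForm_sub_right,
            Cfsg.Agent.Lib.Helper2.sympForm_smul_right, Cfsg.Agent.Lib.Helper2.sympForm_self,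
            mul_zero, sub_zero, hvw]
        have hxy : Cfsg.sympForm m F x y = 0 := by
          rw [hydef, Cfsg.Agent.Lib.Helper2.sympForm_sub_right,
            Cfsg.Agent.Lib.Helper2.sympForm_smul_right, div_mul_cancel₀ _ hxv', sub_self]
        have hyv : y ∉ Submodule.span F {v} := by
          intro hmem
          apply hwv
          have : w = y + (Cfsg.sympForm m F x w / Cfsg.sympForm m F x v) • v := by
            rw [hydef]; abel
          rw [this]
          exact Submodule.add_mem _ hmem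
            (Submodule.smul_mem _ _ (Submodule.mem_span_singleton_self v))
        have hy := stepII m hB hv hw hvw hwv y hvy hyv
        have hyv0 : Cfsg.sympForm m F y v = 0 := by
          rw [Cfsg.Agent.Lib.Helper2.sympForm_swap, hvy, neg_zero]
        have hvy' : v ∉ Submodule.span F {y} := by
          intro hmem
          obtain ⟨a, ha⟩ := Submodule.mem_span_singleton.1 hmem
          have ha0 : a ≠ 0 := by
            rintro rfl
            rw [zero_smul] at ha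
            exact hv0 ha.symm
          apply hyv
          rw [Submodule.mem_span_singleton]
          exact ⟨a⁻¹, by rw [← ha, smul_smul, inv_mul_cancel₀ ha0, one_smul]⟩
        have hyx : Cfsg.sympForm m F y x = 0 := by
          rw [Cfsg.Agent.Lib.Helper2.sympForm_swap, hxy, neg_zero]
        have hxy' : x ∉ Submodule.span F {y} := by
          intro hmem
          obtain ⟨a, rfl⟩ := Submodule.mem_span_singleton.1 hmem
          apply hvx
          rw [Cfsg.Agent.Lib.Helper2.sympForm_smul_right, hvy, mul_zero]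
        exact stepII m hB hy hv hyv0 hvy' x hyx hxy'
  rw [Set.eq_univ_iff_forall]
  intro r
  obtain ⟨x, hx, rfl⟩ : ∃ (v : Fin m ⊕ Fin m → F) (hv : v ≠ 0), r = Projectivization.mk F v hv :=
    ⟨r.rep, r.rep_nonzero, r.mk_rep.symm⟩
  exact (hall x hx).2

end Cfsg.Agent.S0768
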