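import Mathlib
import Cfsg.Statements.S1265
import Cfsg.Agent.Lib.Helper3.FStar

set_option autoImplicit false
open Cfsg
open Cfsg.Agent.Lib.Helper3

namespace Cfsg.Agent.S1265

theorem result {G : Type*} [Group G] [Finite G] : Subgroup.centralizer (Cfsg.generalizedFittingSubgroup G : Set G) ≤ Cfsg.generalizedFittingSubgroup G := by
  by_contra hC
  have hFn : (Cfsg.fittingSubgroup G).Normal := Subgroup.sSup_normal _ (fun _ h => h.1)
  have hWn : (Cfsg.generalizedFittingSubgroup G).Normal := by
    unfold Cfsg.generalizedFittingSubgroup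
    infer_instance
  have hF : Cfsg.fittingSubgroup G ≤ Cfsg.generalizedFittingSubgroup G := le_sup_right
  obtain ⟨L, hL, hLC⟩ := exists_component_le_centralizer (Cfsg.generalizedFittingSubgroup G) hF hC
  -- L ≤ F* and L centralizes F*, so L is abelian
  have hLW : L ≤ Cfsg.generalizedFittingSubgroup G := (component_le_layer hL).trans le_sup_left
  have h1 : ⁅L, L⁆ = ⊥ := by
    rw [Subgroup.commutator_eq_bot_iff_le_centralizer]
    exact hLC.trans (Subgroup.centralizer_le hLW)
  rw [component_perfect hL] at h1
  have := component_nontrivial hL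
  rw [Subgroup.nontrivial_iff_ne_bot] at this
  exact this h1

end Cfsg.Agent.S1265
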