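import Cfsg.Statements.S0648
import Mathlib
-- import your own Cfsg.Agent.* helpers here

set_option autoImplicit false
open Cfsg

namespace Cfsg.Agent.S0648

open scoped commutatorElement

section
variable {G : Type*} [Group G]

theorem comm_mul_left (x y z : G) : ⁅x * y, z⁆ = x * ⁅y, z⁆ * x⁻¹ * ⁅x, z⁆ := by
  simp only [commutatorElement_def]; group

theorem comm_mul_right (x y z : G) : ⁅x, y * z⁆ = ⁅x, y⁆ * (y * ⁅x, z⁆ * y⁻¹) := by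
  simp only [commutatorElement_def]; group

theorem conj_comm (a x y : G) : a * ⁅x, y⁆ * a⁻¹ = ⁅a * x * a⁻¹, a * y * a⁻¹⁆ := by
  simp only [commutatorElement_def]; group

theorem comm_inv_left (x z : G) : ⁅x⁻¹, z⁆ = x⁻¹ * ⁅x, z⁆⁻¹ * x := by
  simp only [commutatorElement_def]; group

theorem comm_inv_right (x z : G) : ⁅x, z⁻¹⁆ = z⁻¹ * ⁅x, z⁆⁻¹ * z := by
  simp only [commutatorElement_def]; group

theorem conj_eq_of_comm {c x : G} (h : c * x = x * c) : x * c * x⁻¹ = c :=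
  mul_inv_eq_iff_eq_mul.2 h.symm

theorem conj_inv_eq_of_comm {c x : G} (h : c * x = x * c) : x⁻¹ * c⁻¹ * x = c⁻¹ := by
  have hc : Commute c x := h
  rw [mul_assoc, hc.inv_left.eq, ← mul_assoc, inv_mul_cancel, one_mul]

/-- In a group of class at most two generated by `S`, if commutators of generators square to one
then so does every element of the derived subgroup. -/
theorem class2_exp (Y : Subgroup G) (S : Set G) (hY : Y = Subgroup.closure S)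
    (hcen : ∀ y1 ∈ Y, ∀ y2 ∈ Y, ∀ y3 ∈ Y, ⁅y1, y2⁆ * y3 = y3 * ⁅y1, y2⁆)
    (hS : ∀ s ∈ S, ∀ s' ∈ S, ⁅s, s'⁆ ^ 2 = 1) : ∀ z ∈ ⁅Y, Y⁆, z ^ 2 = 1 := by
  have hcY : ∀ y1 ∈ Y, ∀ y2 ∈ Y, ⁅y1, y2⁆ ∈ Y := fun y1 h1 y2 h2 =>
    Y.mul_mem (Y.mul_mem (Y.mul_mem h1 h2) (Y.inv_mem h1)) (Y.inv_mem h2)
  have ha : ∀ s ∈ S, ∀ y ∈ Y, ⁅s, y⁆ ^ 2 = 1 := by
    intro s hs y hy
    have hsY : s ∈ Y := by rw [hY]; exact Subgroup.subset_closure hs
    rw [hY] at hy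
    induction hy using Subgroup.closure_induction with
    | mem x hx => exact hS s hs x hx
    | one => simp
    | mul x y hx hy ihx ihy =>
      have hxY : x ∈ Y := by rw [hY]; exact hx
      have hyY : y ∈ Y := by rw [hY]; exact hy
      rw [comm_mul_right, conj_eq_of_comm (hcen s hsY y hyY x hxY)]
      have e2 : Commute ⁅s, x⁆ ⁅s, y⁆ := hcen s hsY x hxY _ (hcY s hsY y hyY)
      rw [e2.mul_pow, ihx, ihy, one_mul]
    | inv x hx ihx =>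
      have hxY : x ∈ Y := by rw [hY]; exact hx
      rw [comm_inv_right, conj_inv_eq_of_comm (hcen s hsY x hxY x hxY), inv_pow, ihx, inv_one]
  have hb : ∀ y1 ∈ Y, ∀ y ∈ Y, ⁅y1, y⁆ ^ 2 = 1 := by
    intro y1 hy1 y hy
    rw [hY] at hy1
    induction hy1 using Subgroup.closure_induction with
    | mem x hx => exact ha x hx y hy
    | one => simp
    | mul x x' hx hx' ihx ihx' =>
      have hxY : x ∈ Y := by rw [hY]; exact hx
      have hxY' : x' ∈ Y := by rw [hY]; exact hx'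
      rw [comm_mul_left, conj_eq_of_comm (hcen x' hxY' y hy x hxY)]
      have e2 : Commute ⁅x', y⁆ ⁅x, y⁆ := hcen x' hxY' y hy _ (hcY x hxY y hy)
      rw [e2.mul_pow, ihx, ihx', one_mul]
    | inv x hx ihx =>
      have hxY : x ∈ Y := by rw [hY]; exact hx
      rw [comm_inv_left, conj_inv_eq_of_comm (hcen x hxY y hy x hxY), inv_pow, ihx, inv_one]
  have hYY : ⁅Y, Y⁆ ≤ Y := Subgroup.commutator_le.2 (fun y1 h1 y2 h2 => hcY y1 h1 y2 h2)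
  have hc : ∀ z ∈ ⁅Y, Y⁆, z ^ 2 = 1 ∧ ∀ y ∈ Y, z * y = y * z := by
    intro z hz
    rw [Subgroup.commutator_def] at hz
    induction hz using Subgroup.closure_induction with
    | mem x hx =>
      obtain ⟨y1, h1, y2, h2, rfl⟩ := hx
      exact ⟨hb y1 h1 y2 h2, fun y hy => hcen y1 h1 y2 h2 y hy⟩
    | one => exact ⟨by simp, fun y _ => by simp⟩
    | mul x y hx hy ihx ihy =>
      have hxY : x ∈ Y := hYY (by rw [Subgroup.commutator_def]; exact hx)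
      have hyY : y ∈ Y := hYY (by rw [Subgroup.commutator_def]; exact hy)
      refine ⟨?_, ?_⟩
      · have e2 : Commute x y := ihx.2 y hyY
        rw [e2.mul_pow, ihx.1, ihy.1, one_mul]
      · intro w hw
        rw [mul_assoc, ihy.2 w hw, ← mul_assoc, ihx.2 w hw, mul_assoc]
    | inv x hx ihx =>
      refine ⟨by rw [inv_pow, ihx.1, inv_one], ?_⟩
      intro w hw
      have hc : Commute x w := ihx.2 w hw
      exact hc.inv_left.eq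
  exact fun z hz => (hc z hz).1

end

section
variable {G : Type*} [Group G] (A B : Subgroup G)

theorem comm_le_B (hAB : A ≤ Subgroup.normalizer (B : Set G)) : ⁅B, A⁆ ≤ B := by
  rw [Subgroup.commutator_le]
  intro b hb a ha
  have h1 : ⁅b, a⁆ = b * (a * b⁻¹ * a⁻¹) := by simp only [commutatorElement_def, mul_assoc]
  rw [h1]
  exact B.mul_mem hb ((Subgroup.mem_normalizer_iff.1 (hAB ha) b⁻¹).1 (B.inv_mem hb))

theorem X_cent_B' (hAB : A ≤ Subgroup.normalizer (B : Set G)) (hc : ⁅⁅B, B⁆, A⁆ = ⊥) :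
    ⁅⁅B, A⁆, ⁅B, B⁆⁆ = ⊥ := by
  apply Subgroup.commutator_commutator_eq_bot_of_rotate
  · rw [Subgroup.commutator_comm A, hc, Subgroup.commutator_bot_left]
  · have h1 : ⁅⁅B, B⁆, B⁆ ≤ ⁅B, B⁆ :=
      Subgroup.commutator_mono (Subgroup.commutator_le.2 (fun x hx y hy =>
        B.mul_mem (B.mul_mem (B.mul_mem hx hy) (B.inv_mem hx)) (B.inv_mem hy))) le_rfl
    have h2 := Subgroup.commutator_mono h1 (le_refl A)
    rw [hc] at h2
    exact le_bot_iff.1 h2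

theorem part1 (hAB : A ≤ Subgroup.normalizer (B : Set G)) (hc : ⁅⁅B, B⁆, A⁆ = ⊥) :
    ⁅⁅B, A⁆, ⁅B, A⁆⁆ ≤ B ⊓ Subgroup.centralizer (B : Set G) := by
  have hXB := comm_le_B A B hAB
  have hX' := X_cent_B' A B hAB hc
  refine le_inf ((Subgroup.commutator_mono hXB hXB).trans (Subgroup.commutator_le.2
    (fun x hx y hy => B.mul_mem (B.mul_mem (B.mul_mem hx hy) (B.inv_mem hx)) (B.inv_mem hy)))) ?_
  rw [← Subgroup.commutator_eq_bot_iff_le_centralizer]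
  apply Subgroup.commutator_commutator_eq_bot_of_rotate
  · have h2 := Subgroup.commutator_mono (Subgroup.commutator_mono hXB (le_refl B)) (le_refl ⁅B, A⁆)
    rw [Subgroup.commutator_comm ⁅B, B⁆, hX'] at h2
    exact le_bot_iff.1 h2
  · have h2 := Subgroup.commutator_mono (Subgroup.commutator_mono (le_refl B) hXB) (le_refl ⁅B, A⁆)
    rw [Subgroup.commutator_comm ⁅B, B⁆, hX'] at h2
    exact le_bot_iff.1 h2

end

/-- Let A normalize B and centralize [B,B]. Then the derived subgroup of [B,A] is central in B; and if A is abelian and b ∈ B has [[b,A],A,A] = 1, where [b,A] is generated by the commutators of b with elements of A, then every element of the derived subgroup of [b,A] has order at most 2. -/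
theorem result {G : Type*} [Group G] [Finite G] (A B : Subgroup G) (hAB : A ≤ Subgroup.normalizer (B : Set G)) (hc : ⁅⁅B, B⁆, A⁆ = ⊥) : ⁅⁅B, A⁆, ⁅B, A⁆⁆ ≤ B ⊓ Subgroup.centralizer (B : Set G) ∧ (IsMulCommutative A → ∀ b ∈ B, ⁅⁅(Subgroup.closure {g : G | ∃ a ∈ A, g = b⁻¹ * a * b * a⁻¹}), A⁆, A⁆ = ⊥ → ∀ w ∈ ⁅(Subgroup.closure {g : G | ∃ a ∈ A, g = b⁻¹ * a * b * a⁻¹}), (Subgroup.closure {g : G | ∃ a ∈ A, g = b⁻¹ * a * b * a⁻¹})⁆, w ^ 2 = 1) := by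
  have hP1 := part1 A B hAB hc
  refine ⟨hP1, ?_⟩
  intro hAc b hb hq
  obtain ⟨Y, hY⟩ : ∃ Y : Subgroup G,
      Y = Subgroup.closure {g : G | ∃ a ∈ A, g = b⁻¹ * a * b * a⁻¹} := ⟨_, rfl⟩
  rw [← hY] at hq ⊢
  have hXB := comm_le_B A B hAB
  have hX' := X_cent_B' A B hAB hc
  -- basic facts
  have hwY : ∀ a ∈ A, b⁻¹ * a * b * a⁻¹ ∈ Y := by
    intro a ha
    rw [hY]
    exact Subgroup.subset_closure ⟨a, ha, rfl⟩
  have hYX : Y ≤ ⁅B, A⁆ := by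
    rw [hY, Subgroup.closure_le]
    rintro _ ⟨a, ha, rfl⟩
    have h1 : b⁻¹ * a * b * a⁻¹ = ⁅b⁻¹, a⁆ := by simp only [commutatorElement_def, inv_inv]
    rw [h1]
    exact Subgroup.commutator_mem_commutator (B.inv_mem hb) ha
  have hYB : Y ≤ B := hYX.trans hXB
  have hAB' : ∀ a ∈ A, ∀ c ∈ ⁅B, B⁆, a * c * a⁻¹ = c := by
    intro a ha c hcB
    have h1 := Subgroup.commutator_eq_bot_iff_le_centralizer.1 hc hcB
    exact mul_inv_eq_iff_eq_mul.2 (Subgroup.mem_centralizer_iff.1 h1 a ha)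
  have hfix : ∀ s ∈ ⁅Y, A⁆, ∀ a ∈ A, a * s * a⁻¹ = s := by
    intro s hs a ha
    have h1 := Subgroup.commutator_eq_bot_iff_le_centralizer.1 hq hs
    exact mul_inv_eq_iff_eq_mul.2 (Subgroup.mem_centralizer_iff.1 h1 a ha)
  have hcenB : ∀ z ∈ ⁅⁅B, A⁆, ⁅B, A⁆⁆, ∀ g ∈ B, z * g = g * z := by
    intro z hz g hg
    exact (Subgroup.mem_centralizer_iff.1 (hP1 hz).2 g hg).symm
  have hYB' : ∀ y ∈ Y, ∀ c ∈ ⁅B, B⁆, y * c * y⁻¹ = c := by
    intro y hy c hcB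
    have h1 := Subgroup.commutator_eq_bot_iff_le_centralizer.1 hX' (hYX hy)
    exact mul_inv_eq_iff_eq_mul.2 (Subgroup.mem_centralizer_iff.1 h1 c hcB).symm
  have hcommY : ∀ y1 ∈ Y, ∀ y2 ∈ Y, ⁅y1, y2⁆ ∈ ⁅⁅B, A⁆, ⁅B, A⁆⁆ := fun y1 h1 y2 h2 =>
    Subgroup.commutator_mem_commutator (hYX h1) (hYX h2)
  -- (F3): fixed elements of B commute with the generators
  have F3 : ∀ s ∈ B, (∀ a ∈ A, a * s * a⁻¹ = s) → ∀ a ∈ A, ⁅b⁻¹ * a * b * a⁻¹, s⁆ = 1 := by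
    intro s hs hsfix a ha
    have h1 : a * ⁅b, s⁆ * a⁻¹ = ⁅b, s⁆ :=
      hAB' a ha _ (Subgroup.commutator_mem_commutator hb hs)
    have h2 := conj_comm a b s
    have h3 : a * b * a⁻¹ = b * (b⁻¹ * a * b * a⁻¹) := by group
    rw [h1, hsfix a ha, h3, comm_mul_left] at h2
    have h5 : b * ⁅b⁻¹ * a * b * a⁻¹, s⁆ * b⁻¹ = 1 := by
      have h6 : 1 * ⁅b, s⁆ = b * ⁅b⁻¹ * a * b * a⁻¹, s⁆ * b⁻¹ * ⁅b, s⁆ := by rw [one_mul]; exact h2
      exact (mul_right_cancel h6).symm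
    have h7 : ⁅b⁻¹ * a * b * a⁻¹, s⁆ = b⁻¹ * (b * ⁅b⁻¹ * a * b * a⁻¹, s⁆ * b⁻¹) * b := by group
    rw [h7, h5]; group
  -- d-elements commute with Y
  have hdY : ∀ y ∈ Y, ∀ a ∈ A, ∀ y' ∈ Y, ⁅y', y⁻¹ * a * y * a⁻¹⁆ = 1 := by
    intro y hy a ha y' hy'
    have hd1 : y⁻¹ * a * y * a⁻¹ ∈ ⁅Y, A⁆ := by
      have h1 : y⁻¹ * a * y * a⁻¹ = ⁅y⁻¹, a⁆ := by simp only [commutatorElement_def, inv_inv]
      rw [h1]
      exact Subgroup.commutator_mem_commutator (Y.inv_mem hy) ha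
    have hdB : y⁻¹ * a * y * a⁻¹ ∈ B := hXB (Subgroup.commutator_mono hYB (le_refl A) hd1)
    have hle : Y ≤ Subgroup.centralizer ({y⁻¹ * a * y * a⁻¹} : Set G) := by
      rw [hY, Subgroup.closure_le]
      rintro _ ⟨a', ha', rfl⟩
      rw [SetLike.mem_coe, Subgroup.mem_centralizer_iff]
      intro h hh
      rw [Set.mem_singleton_iff] at hh
      rw [hh]
      have := F3 _ hdB (fun a'' ha'' => hfix _ hd1 a'' ha'') a' ha'
      exact ((commutatorElement_eq_one_iff_commute.1 this).eq).symm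
    have := Subgroup.mem_centralizer_iff.1 (hle hy') _ rfl
    exact commutatorElement_eq_one_iff_commute.2 this.symm
  have hcB : ∀ x ∈ B, ∀ y ∈ B, ⁅x, y⁆ ∈ B := fun x hx y hy =>
    B.mul_mem (B.mul_mem (B.mul_mem hx hy) (B.inv_mem hx)) (B.inv_mem hy)
  have hdB : ∀ y ∈ Y, ∀ a ∈ A, y⁻¹ * a * y * a⁻¹ ∈ B := by
    intro y hy a ha
    have h1 : y⁻¹ * a * y * a⁻¹ = ⁅y⁻¹, a⁆ := by simp only [commutatorElement_def, inv_inv]
    rw [h1]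
    exact hXB (Subgroup.commutator_mem_commutator (hYB (Y.inv_mem hy)) ha)
  -- (E2)
  have E2 : ∀ y ∈ Y, ∀ a ∈ A, ⁅b⁻¹ * a * b * a⁻¹, y⁆ * ⁅b, y⁻¹ * a * y * a⁻¹⁆ = 1 := by
    intro y hy a ha
    obtain ⟨w, hwdef⟩ : ∃ w, w = b⁻¹ * a * b * a⁻¹ := ⟨_, rfl⟩
    obtain ⟨d, hddef⟩ : ∃ d, d = y⁻¹ * a * y * a⁻¹ := ⟨_, rfl⟩
    rw [← hwdef, ← hddef]
    have hw : w ∈ Y := by rw [hwdef]; exact hwY a ha
    have hwd : ⁅w, d⁆ = 1 := by rw [hwdef, hddef]; exact hdY y hy a ha _ (hwY a ha)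
    have hdB' : d ∈ B := by rw [hddef]; exact hdB y hy a ha
    have h1 : a * ⁅b, y⁆ * a⁻¹ = ⁅b, y⁆ :=
      hAB' a ha _ (Subgroup.commutator_mem_commutator hb (hYB hy))
    have h2 := conj_comm a b y
    have h3 : a * b * a⁻¹ = b * w := by rw [hwdef]; group
    have h4 : a * y * a⁻¹ = y * d := by rw [hddef]; group
    rw [h1, h3, h4, comm_mul_left, comm_mul_right w y d, comm_mul_right b y d, hwd] at h2
    have h5 : y * ⁅b, d⁆ * y⁻¹ = ⁅b, d⁆ :=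
      hYB' y hy _ (Subgroup.commutator_mem_commutator hb hdB')
    have h6 : b * ⁅w, y⁆ * b⁻¹ = ⁅w, y⁆ :=
      conj_eq_of_comm (hcenB _ (hcommY _ hw _ hy) b hb)
    rw [h5, mul_one, mul_inv_cancel, mul_one, h6] at h2
    have h7 : ⁅w, y⁆ * ⁅b, y⁆ = ⁅b, y⁆ * ⁅w, y⁆ :=
      hcenB _ (hcommY _ hw _ hy) _ (hcB b hb y (hYB hy))
    rw [← mul_assoc, h7, mul_assoc] at h2
    have h8 : ⁅b, y⁆ * 1 = ⁅b, y⁆ * (⁅w, y⁆ * ⁅b, d⁆) := by rw [mul_one]; exact h2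
    exact (mul_left_cancel h8).symm
  have hS : ∀ s ∈ {g : G | ∃ a ∈ A, g = b⁻¹ * a * b * a⁻¹},
      ∀ s' ∈ {g : G | ∃ a ∈ A, g = b⁻¹ * a * b * a⁻¹}, ⁅s, s'⁆ ^ 2 = 1 := by
    rintro _ ⟨a, ha, rfl⟩ _ ⟨a', ha', rfl⟩
    obtain ⟨w, hwdef⟩ : ∃ w, w = b⁻¹ * a * b * a⁻¹ := ⟨_, rfl⟩
    obtain ⟨w', hwdef'⟩ : ∃ w', w' = b⁻¹ * a' * b * a'⁻¹ := ⟨_, rfl⟩
    rw [← hwdef, ← hwdef']
    have hw : w ∈ Y := by rw [hwdef]; exact hwY a ha
    have hw' : w' ∈ Y := by rw [hwdef']; exact hwY a' ha'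
    obtain ⟨d, hd⟩ : ∃ d, d = w'⁻¹ * a * w' * a⁻¹ := ⟨_, rfl⟩
    obtain ⟨d', hd'⟩ : ∃ d', d' = w⁻¹ * a' * w * a'⁻¹ := ⟨_, rfl⟩
    have e2 : ⁅w, w'⁆ * ⁅b, d⁆ = 1 := by
      have := E2 w' hw' a ha
      rwa [← hwdef, ← hd] at this
    have e2' : ⁅w', w⁆ * ⁅b, d'⁆ = 1 := by
      have := E2 w hw a' ha'
      rwa [← hwdef', ← hd'] at this
    have hcomm : a * a' = a' * a :=
      congrArg Subtype.val (hAc.is_comm.comm ⟨a, ha⟩ ⟨a', ha'⟩)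
    have c1 : b⁻¹ * (a * a') * b * (a * a')⁻¹ = w * w' * d := by
      rw [hd, hwdef, hwdef']; group
    have c2 : b⁻¹ * (a' * a) * b * (a' * a)⁻¹ = w' * w * d' := by
      rw [hd', hwdef, hwdef']; group
    have c12 : w' * w * d' = w * w' * d := by rw [← c1, ← c2, hcomm]
    have c3 : d' = ⁅w⁻¹, w'⁻¹⁆ * d := by
      calc d' = (w' * w)⁻¹ * (w' * w * d') := by group
        _ = (w' * w)⁻¹ * (w * w' * d) := by rw [c12]
        _ = ⁅w⁻¹, w'⁻¹⁆ * d := by simp only [commutatorElement_def]; group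
    have hk : ∀ g ∈ B, ⁅w⁻¹, w'⁻¹⁆ * g = g * ⁅w⁻¹, w'⁻¹⁆ :=
      hcenB _ (hcommY _ (Y.inv_mem hw) _ (Y.inv_mem hw'))
    have hdB' : d ∈ B := by rw [hd]; exact hdB w' hw' a ha
    have c4 : ⁅b, d'⁆ = ⁅b, d⁆ := by
      rw [c3, comm_mul_right]
      have h1 : ⁅b, ⁅w⁻¹, w'⁻¹⁆⁆ = 1 :=
        commutatorElement_eq_one_iff_commute.2 (hk b hb).symm
      have h2 : ⁅w⁻¹, w'⁻¹⁆ * ⁅b, d⁆ * ⁅w⁻¹, w'⁻¹⁆⁻¹ = ⁅b, d⁆ :=
        conj_eq_of_comm (hk _ (hcB b hb d hdB')).symm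
      rw [h1, h2, one_mul]
    rw [c4] at e2'
    have c5 : ⁅w', w⁆ = ⁅w, w'⁆ := mul_right_cancel (e2'.trans e2.symm)
    have c6 : ⁅w, w'⁆⁻¹ = ⁅w, w'⁆ := by rw [commutatorElement_inv]; exact c5
    calc ⁅w, w'⁆ ^ 2 = ⁅w, w'⁆ * ⁅w, w'⁆ := pow_two _
      _ = ⁅w, w'⁆ * ⁅w, w'⁆⁻¹ := by rw [c6]
      _ = 1 := mul_inv_cancel _
  exact class2_exp Y _ hY
    (fun y1 h1 y2 h2 y3 h3 => hcenB _ (hcommY y1 h1 y2 h2) y3 (hYB h3)) hS

end Cfsg.Agent.S0648
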