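import Cfsg.Statements.S0542
import Mathlib

set_option autoImplicit false
open Cfsg

namespace Cfsg.Agent.S0542

theorem relIndex_sup_normal {K : Type*} [Group K] [Finite K] (P N : Subgroup K) [N.Normal] :
    P.relIndex (P ⊔ N) = P.relIndex N := by
  have h1 : Nat.card (P ⊓ N : Subgroup K) * N.relIndex P = Nat.card P := by
    have := Subgroup.relIndex_mul_relIndex ⊥ (P ⊓ N) P bot_le inf_le_left
    rwa [Subgroup.relIndex_bot_left, Subgroup.relIndex_bot_left, Subgroup.inf_relIndex_left] at this
  have h2 : Nat.card (P ⊓ N : Subgroup K) * P.relIndex N = Nat.card N := by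
    have := Subgroup.relIndex_mul_relIndex ⊥ (P ⊓ N) N bot_le inf_le_right
    rwa [Subgroup.relIndex_bot_left, Subgroup.relIndex_bot_left, Subgroup.inf_relIndex_right] at this
  have h3 : Nat.card N * N.relIndex P = Nat.card (P ⊔ N : Subgroup K) := by
    have := Subgroup.relIndex_mul_relIndex ⊥ N (P ⊔ N) bot_le le_sup_right
    rwa [Subgroup.relIndex_bot_left, Subgroup.relIndex_bot_left, Subgroup.relIndex_sup_right] at this
  have h4 : Nat.card P * P.relIndex (P ⊔ N) = Nat.card (P ⊔ N : Subgroup K) := by
    have := Subgroup.relIndex_mul_relIndex ⊥ P (P ⊔ N) bot_le le_sup_left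
    rwa [Subgroup.relIndex_bot_left, Subgroup.relIndex_bot_left] at this
  have hpos : 0 < Nat.card P := Nat.card_pos
  rw [← h1] at h4 hpos
  rw [← h3, ← h2] at h4
  have : Nat.card (P ⊓ N : Subgroup K) * N.relIndex P * P.relIndex (P ⊔ N)
      = Nat.card (P ⊓ N : Subgroup K) * N.relIndex P * P.relIndex N := by
    rw [h4]; ring
  exact Nat.eq_of_mul_eq_mul_left hpos this

theorem relIndex_normal_dvd_index {K : Type*} [Group K] [Finite K] (P N : Subgroup K) [N.Normal] :
    P.relIndex N ∣ P.index := by
  rw [← relIndex_sup_normal]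
  exact Subgroup.relIndex_dvd_index_of_le le_sup_left

theorem not_dvd_relIndex {G : Type*} [Group G] [Finite G] (p : ℕ) [Fact p.Prime]
    (S : Sylow p G) (H : Subgroup G) (hH : H.IsSubnormal) :
    ¬ p ∣ (S : Subgroup G).relIndex H := by
  induction hH with
  | top =>
    rw [Subgroup.relIndex_top_right]
    exact S.not_dvd_index
  | step H K h_le hSubn hN ih =>
    intro hdvd
    apply ih
    have h1 : ((S : Subgroup G).subgroupOf K).relIndex (H.subgroupOf K) = (S : Subgroup G).relIndex H :=
      Subgroup.relIndex_subgroupOf h_le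
    have h2 := relIndex_normal_dvd_index ((S : Subgroup G).subgroupOf K) (H.subgroupOf K)
    rw [h1] at h2
    exact dvd_trans hdvd h2

/-- A Sylow p-subgroup of a finite group meets every subnormal subgroup H in a Sylow p-subgroup of H. -/
theorem result {G : Type*} [Group G] [Finite G] (p : ℕ) [Fact p.Prime] (H : Subgroup G) (hH : H.IsSubnormal) (S : Sylow p G) : ∃ Q : Sylow p H, (Q : Subgroup H) = (S : Subgroup G).subgroupOf H := by
  have hP : IsPGroup p ((S : Subgroup G).subgroupOf H) := S.isPGroup'.comap_subtype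
  have hI : ¬ p ∣ ((S : Subgroup G).subgroupOf H).index := not_dvd_relIndex p S H hH
  exact ⟨hP.toSylow hI, rfl⟩

end Cfsg.Agent.S0542
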