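import Mathlib
import Cfsg.Statements.S0667
import Cfsg.Agent.Lib.Helper3.ZJ4

set_option autoImplicit false
open Cfsg
open Cfsg.Agent.Lib.Helper3
open Cfsg.Agent.Lib.Helper1
open scoped commutatorElement

namespace Cfsg.Agent.S0667

/-- Glauberman's Theorem in the p-constrained, p-stable vocabulary: for odd p such a group is the product of its largest normal subgroup of order prime to p with the normalizer of Z(J(P)), and Z(J(P)) is normal when that p'-subgroup is trivial. -/
theorem result {G : Type*} [Group G] [Finite G] {p : ℕ} [Fact p.Prime] (hp : p ≠ 2) (hc : Cfsg.IsPConstrained p G) (hs : Cfsg.IsPStable p G) (P : Sylow p G) : Cfsg.pPrimeCore p G ⊔ Subgroup.normalizer (Cfsg.centerThompsonAOf ((P : Subgroup G)) : Set G) = ⊤ ∧ (Cfsg.pPrimeCore p G = ⊥ → (Cfsg.centerThompsonAOf ((P : Subgroup G))).Normal) := by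
  classical
  rw [centerThompsonAOf_eq]
  set K := Cfsg.pPrimeCore p G with hK
  have hKn : K.Normal := pPrimeCore_normal' p
  have hKc : (Nat.card K).Coprime p := pPrimeCore_coprime p
  set Z := zq 0 (P : Subgroup G) with hZ
  let P' : Sylow p (G ⧸ K) := P.mapSurjective (ppi_surjective (X := G) p)
  have hP' : (P' : Subgroup (G ⧸ K)) = (P : Subgroup G).map (ppi p G) := rfl
  have hc' := (isPConstrained_iff p).mp hc
  have hZ'n : (zq 0 (P' : Subgroup (G ⧸ K))).Normal :=
    zq_normal_of_stable hp 0 P' hc' (fun V _ hV a ha hq => stable_quotient hs P V hV a ha hq)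
  have hinj : InjOnSub (ppi p G) (P : Subgroup G) := by
    intro x hx h1
    have hxK : x ∈ K := (QuotientGroup.eq_one_iff x).mp h1
    have : x ∈ (P : Subgroup G) ⊓ K := Subgroup.mem_inf.mpr ⟨hx, hxK⟩
    rw [inf_eq_bot_of_pgroup_coprime P.isPGroup' hKc] at this
    exact Subgroup.mem_bot.mp this
  have hmap : Z.map (ppi p G) = zq 0 (P' : Subgroup (G ⧸ K)) := by
    rw [hP', ← zq_map_injOn hinj]
  have hWn : (Z ⊔ K).Normal := by
    have h1 : (Z.map (ppi p G)).comap (ppi p G) = Z ⊔ K := by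
      rw [Subgroup.comap_map_eq, QuotientGroup.ker_mk']
    rw [← h1, hmap]
    exact hZ'n.comap _
  constructor
  · have hZW : Z ≤ Z ⊔ K := le_sup_left
    have hZp : IsPGroup p Z := P.isPGroup'.to_le ((zq_le_jq 0 _).trans (jq_le 0 _))
    have hZ'p : IsPGroup p (Z.subgroupOf (Z ⊔ K)) := hZp.comap_subtype
    have hidx : ¬ p ∣ (Z.subgroupOf (Z ⊔ K)).index := by
      have h1 := (Z.subgroupOf (Z ⊔ K)).card_mul_index
      rw [card_subgroupOf_of_le hZW] at h1
      have h2 : Nat.card (Z ⊔ K : Subgroup G) ∣ Nat.card Z * Nat.card K := card_sup_dvd_mul Z K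
      rw [← h1] at h2
      have h3 : (Z.subgroupOf (Z ⊔ K)).index ∣ Nat.card K :=
        Nat.dvd_of_mul_dvd_mul_left Nat.card_pos h2
      intro hdvd
      have h4 : p ∣ Nat.card K := hdvd.trans h3
      have h5 : p = 1 := Nat.Coprime.eq_one_of_dvd hKc.symm h4
      exact (Fact.out : p.Prime).one_lt.ne' h5
    let S' : Sylow p ↥(Z ⊔ K) := hZ'p.toSylow hidx
    have hS' : (S' : Subgroup ↥(Z ⊔ K)) = Z.subgroupOf (Z ⊔ K) := IsPGroup.toSylow_coe _ _
    have hfr := Sylow.normalizer_sup_eq_top S'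
    rw [hS', Subgroup.subgroupOf_map_subtype, inf_eq_left.mpr hZW] at hfr
    rw [eq_top_iff, ← hfr]
    exact sup_le le_sup_right (sup_le (le_trans Subgroup.le_normalizer le_sup_right) le_sup_left)
  · intro hK0
    have h1 : Z ⊔ K = Z := by rw [hK0, sup_bot_eq]
    rw [h1] at hWn
    exact hWn

end Cfsg.Agent.S0667
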