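import Mathlib
import Cfsg.Statements.S0658
import Cfsg.Agent.Lib.Helper3.ZJ4
import Cfsg.Agent.Lib.Helper3.PGroupAux
import Cfsg.Agent.Lib.Helper3.SylowAux
import Cfsg.Agent.S0667

set_option autoImplicit false
open Cfsg
open Cfsg.Agent.Lib.Helper3
open Cfsg.Agent.Lib.Helper1

namespace Cfsg.Agent.S0658

variable {G : Type*} [Group G]

lemma center_le_zq [Finite G] (R : Subgroup G) :
    R ⊓ Subgroup.centralizer (R : Set G) ≤ zq 0 R := by
  intro x hx
  obtain ⟨hxR, hxC⟩ := Subgroup.mem_inf.mp hx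
  obtain ⟨A, hA⟩ := maxFam_nonempty 0 R
  have hZle : Subgroup.zpowers x ≤ R := (Subgroup.zpowers_le).mpr hxR
  have hZqe : QE 0 (Subgroup.zpowers x) := by
    refine ⟨?_, fun a _ => pow_zero a⟩
    intro a ha b hb
    obtain ⟨i, rfl⟩ := Subgroup.mem_zpowers_iff.mp ha
    obtain ⟨j, rfl⟩ := Subgroup.mem_zpowers_iff.mp hb
    rw [← zpow_add, ← zpow_add, add_comm]
  have hmem : ∀ B ∈ maxFam (QE 0) R, x ∈ B := by
    intro B hB
    have hBc : B ≤ Subgroup.centralizer ((Subgroup.zpowers x : Subgroup G) : Set G) := by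
      apply le_centralizer_symm'
      rw [Subgroup.zpowers_le]
      exact Subgroup.centralizer_le hB.1 hxC
    exact le_of_mem_maxFam_of_qe hB hZle hZqe hBc (Subgroup.mem_zpowers x)
  exact mem_zq (le_jq hA (hmem A hA)) (Subgroup.centralizer_le (jq_le 0 R) hxC) (pow_zero x)

lemma zq_ne_bot [Finite G] {p : ℕ} [Fact p.Prime] {R : Subgroup G} (hR : IsPGroup p R)
    (hne : R ≠ ⊥) : zq 0 R ≠ ⊥ := by
  have hnt : Nontrivial ↥R := (Subgroup.nontrivial_iff_ne_bot R).mpr hne
  have hc : Nontrivial (Subgroup.center ↥R) := hR.center_nontrivial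
  obtain ⟨z, hz⟩ := exists_ne (1 : Subgroup.center ↥R)
  have hzR : ((z : ↥R) : G) ∈ R ⊓ Subgroup.centralizer (R : Set G) := by
    refine Subgroup.mem_inf.mpr ⟨(z : ↥R).2, ?_⟩
    rw [Subgroup.mem_centralizer_iff]
    intro r hr
    have := Subgroup.mem_center_iff.mp z.2 ⟨r, hr⟩
    exact congrArg Subtype.val this
  have h1 := center_le_zq R hzR
  intro hbot
  rw [hbot, Subgroup.mem_bot] at h1
  apply hz
  apply Subtype.ext
  apply Subtype.ext
  exact h1

lemma local_zj [Finite G] {p : ℕ} [Fact p.Prime] (hp : p ≠ 2)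
    (hloc : ∀ Q : Subgroup G, IsPGroup p Q → Q ≠ ⊥ → Cfsg.pPrimeCore p ↥(Subgroup.normalizer (Q : Set G)) = ⊥ ∧ Cfsg.IsPConstrained p ↥(Subgroup.normalizer (Q : Set G)) ∧ Cfsg.IsPStable p ↥(Subgroup.normalizer (Q : Set G)))
    (Q : Subgroup G) (hQp : IsPGroup p Q) (hQ1 : Q ≠ ⊥)
    (R' : Sylow p ↥(Subgroup.normalizer (Q : Set G))) :
    Subgroup.normalizer (Q : Set G) ≤ Subgroup.normalizer
      ((zq 0 ((R' : Subgroup ↥(Subgroup.normalizer (Q : Set G))).map
        (Subgroup.normalizer (Q : Set G)).subtype) : Subgroup G) : Set G) := by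
  obtain ⟨h1, h2, h3⟩ := hloc Q hQp hQ1
  have hn := (Cfsg.Agent.S0667.result hp h2 h3 R').2 h1
  rw [centerThompsonAOf_eq] at hn
  have hinj : InjOnSub (Subgroup.normalizer (Q : Set G)).subtype
      (R' : Subgroup ↥(Subgroup.normalizer (Q : Set G))) := by
    intro x _ hx
    exact Subtype.ext (by simpa using hx)
  rw [← zq_map_injOn hinj 0]
  exact le_normalizer_map_of_normal (zq 0 (R' : Subgroup ↥(Subgroup.normalizer (Q : Set G))))

lemma conj_mem_normalizer_map {Q : Subgroup G} {n : G} (m : G)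
    (hn : n ∈ Subgroup.normalizer (Q : Set G)) :
    m * n * m⁻¹ ∈ Subgroup.normalizer
      ((Q.map (MulAut.conj m).toMonoidHom : Subgroup G) : Set G) := by
  apply mem_normalizer_of_conj_mem
  · intro x hx
    rw [mem_map_conj] at hx ⊢
    have := conj_mem_of_mem_normalizer' hn hx
    have e : m⁻¹ * (m * n * m⁻¹ * x * (m * n * m⁻¹)⁻¹) * m = n * (m⁻¹ * x * m) * n⁻¹ := by group
    rw [e]; exact this
  · intro x hx
    rw [mem_map_conj] at hx ⊢
    have := conj_inv_mem_of_mem_normalizer' hn hx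
    have e : m⁻¹ * ((m * n * m⁻¹)⁻¹ * x * (m * n * m⁻¹)) * m = n⁻¹ * (m⁻¹ * x * m) * n := by group
    rw [e]; exact this

lemma case_le [Finite G] {p : ℕ} [Fact p.Prime] (hp : p ≠ 2)
    (hloc : ∀ Q : Subgroup G, IsPGroup p Q → Q ≠ ⊥ → Cfsg.pPrimeCore p ↥(Subgroup.normalizer (Q : Set G)) = ⊥ ∧ Cfsg.IsPConstrained p ↥(Subgroup.normalizer (Q : Set G)) ∧ Cfsg.IsPStable p ↥(Subgroup.normalizer (Q : Set G)))
    (P : Sylow p G) (Q : Subgroup G) (hQP : Q ≤ (P : Subgroup G)) (hQ1 : Q ≠ ⊥)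
    (hPN : (P : Subgroup G) ≤ Subgroup.normalizer (Q : Set G)) :
    Subgroup.normalizer (Q : Set G) ≤
      Subgroup.normalizer ((zq 0 (P : Subgroup G) : Subgroup G) : Set G) := by
  have hQp : IsPGroup p Q := P.isPGroup'.to_le hQP
  let R' : Sylow p ↥(Subgroup.normalizer (Q : Set G)) := P.subtype hPN
  have hR' : (R' : Subgroup ↥(Subgroup.normalizer (Q : Set G))) =
      (P : Subgroup G).subgroupOf (Subgroup.normalizer (Q : Set G)) := Sylow.coe_subtype _ _
  have h := local_zj hp hloc Q hQp hQ1 R'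
  rw [hR', Subgroup.subgroupOf_map_subtype, inf_eq_left.mpr hPN] at h
  exact h

theorem key [Finite G] {p : ℕ} [Fact p.Prime] (hp : p ≠ 2)
    (hloc : ∀ Q : Subgroup G, IsPGroup p Q → Q ≠ ⊥ → Cfsg.pPrimeCore p ↥(Subgroup.normalizer (Q : Set G)) = ⊥ ∧ Cfsg.IsPConstrained p ↥(Subgroup.normalizer (Q : Set G)) ∧ Cfsg.IsPStable p ↥(Subgroup.normalizer (Q : Set G)))
    (P : Sylow p G) :
    ∀ k : ℕ, ∀ Q : Subgroup G, Q ≤ (P : Subgroup G) → Q ≠ ⊥ →
      Nat.card (P : Subgroup G) -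
        Nat.card ((P : Subgroup G) ⊓ Subgroup.normalizer (Q : Set G) : Subgroup G) = k →
      Subgroup.normalizer (Q : Set G) ≤
        Subgroup.normalizer ((zq 0 (P : Subgroup G) : Subgroup G) : Set G) := by
  intro k
  induction k using Nat.strong_induction_on with
  | _ k ih =>
  intro Q hQP hQ1 hk
  set M := Subgroup.normalizer ((zq 0 (P : Subgroup G) : Subgroup G) : Set G) with hM
  set N := Subgroup.normalizer (Q : Set G) with hN
  set R := (P : Subgroup G) ⊓ N with hR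
  have hPp : IsPGroup p (P : Subgroup G) := P.isPGroup'
  have hQp : IsPGroup p Q := hPp.to_le hQP
  have hPM : (P : Subgroup G) ≤ M :=
    Subgroup.le_normalizer.trans (normalizer_le_normalizer_zq 0 _)
  have hQR : Q ≤ R := le_inf hQP Subgroup.le_normalizer
  have hRP : R ≤ (P : Subgroup G) := inf_le_left
  have hRN : R ≤ N := inf_le_right
  have hR1 : R ≠ ⊥ := by
    intro h
    apply hQ1
    rw [h] at hQR
    exact le_bot_iff.mp hQR
  have hRp : IsPGroup p R := hPp.to_le hRP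
  by_cases hcase : R = (P : Subgroup G)
  · have hPN : (P : Subgroup G) ≤ N := by rw [← hcase]; exact hRN
    exact case_le hp hloc P Q hQP hQ1 hPN
  -- R < P
  obtain ⟨q, hqP, hqR, hqN⟩ := exists_mem_normalizer_not_mem R (P : Subgroup G) hPp hRP hcase
  have hlt1 : R < (P : Subgroup G) ⊓ Subgroup.normalizer (R : Set G) := by
    refine lt_of_le_of_ne (le_inf hRP Subgroup.le_normalizer) ?_
    intro h
    apply hqR
    rw [h]
    exact Subgroup.mem_inf.mpr ⟨hqP, hqN⟩
  have hc1 : Nat.card R <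
      Nat.card ((P : Subgroup G) ⊓ Subgroup.normalizer (R : Set G) : Subgroup G) :=
    card_lt_card_of_lt hlt1
  have hcP : ∀ X : Subgroup G,
      Nat.card ((P : Subgroup G) ⊓ X : Subgroup G) ≤ Nat.card (P : Subgroup G) :=
    fun X => Subgroup.card_le_of_le inf_le_left
  have ihR : Subgroup.normalizer (R : Set G) ≤ M := by
    refine ih _ ?_ R hRP hR1 rfl
    have := hcP (Subgroup.normalizer (R : Set G))
    omega
  have hZR1 : zq 0 R ≠ ⊥ := zq_ne_bot hRp hR1
  have hZRR : zq 0 R ≤ R := (zq_le_jq 0 R).trans (jq_le 0 R)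
  have hNRZ : Subgroup.normalizer (R : Set G) ≤
      Subgroup.normalizer ((zq 0 R : Subgroup G) : Set G) := normalizer_le_normalizer_zq 0 R
  have ihZ : Subgroup.normalizer ((zq 0 R : Subgroup G) : Set G) ≤ M := by
    refine ih _ ?_ (zq 0 R) (hZRR.trans hRP) hZR1 rfl
    have h1 : Nat.card ((P : Subgroup G) ⊓ Subgroup.normalizer (R : Set G) : Subgroup G) ≤
        Nat.card ((P : Subgroup G) ⊓
          Subgroup.normalizer ((zq 0 R : Subgroup G) : Set G) : Subgroup G) :=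
      Subgroup.card_le_of_le (inf_le_inf_left _ hNRZ)
    have := hcP (Subgroup.normalizer ((zq 0 R : Subgroup G) : Set G))
    omega
  have hRN' : IsPGroup p (R.subgroupOf N) := hRp.comap_subtype
  obtain ⟨R'', hR''⟩ := hRN'.exists_le_sylow
  set Rs := (R'' : Subgroup ↥N).map N.subtype with hRs
  have hRsN : Rs ≤ N := by
    intro x hx
    obtain ⟨y, _, rfl⟩ := Subgroup.mem_map.mp hx
    exact y.2
  have hRRs : R ≤ Rs := by
    intro x hx
    exact Subgroup.mem_map.mpr
      ⟨⟨x, hRN hx⟩, hR'' (by simpa [Subgroup.mem_subgroupOf] using hx), rfl⟩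
  have hRsp : IsPGroup p Rs := R''.2.map _
  have hloc' : N ≤ Subgroup.normalizer ((zq 0 Rs : Subgroup G) : Set G) :=
    local_zj hp hloc Q hQp hQ1 R''
  by_cases hcase2 : R = Rs
  · rw [← hcase2] at hloc'
    exact hloc'.trans ihZ
  obtain ⟨t, htRs, htR, htN⟩ := exists_mem_normalizer_not_mem R Rs hRsp hRRs hcase2
  set T := Rs ⊓ Subgroup.normalizer (R : Set G) with hT
  have hRT : R ≤ T := le_inf hRRs Subgroup.le_normalizer
  have hRltT : R < T := by
    refine lt_of_le_of_ne hRT ?_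
    intro h
    apply htR
    rw [h]
    exact Subgroup.mem_inf.mpr ⟨htRs, htN⟩
  have hTM : T ≤ M := inf_le_right.trans ihR
  have hTp : IsPGroup p T := hRsp.to_le inf_le_left
  have hTN : T ≤ N := inf_le_left.trans hRsN
  obtain ⟨m, hmM, R₂, hR₂M, hR₂p, hPR₂, hTR₂⟩ :=
    exists_conj_le_common_pgroup M (P : Subgroup G) T hPM hTM hPp hTp
  have hR₂ : R₂ = (P : Subgroup G) := P.is_maximal' hR₂p hPR₂
  rw [hR₂] at hTR₂
  have hQ'P : Q.map (MulAut.conj m).toMonoidHom ≤ (P : Subgroup G) :=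
    (Subgroup.map_mono (hQR.trans hRT)).trans hTR₂
  have hQ'1 : Q.map (MulAut.conj m).toMonoidHom ≠ ⊥ := by
    intro h
    apply hQ1
    exact (Subgroup.map_eq_bot_iff_of_injective _ (MulAut.conj m).injective).mp h
  have hTQ' : T.map (MulAut.conj m).toMonoidHom ≤ Subgroup.normalizer
      ((Q.map (MulAut.conj m).toMonoidHom : Subgroup G) : Set G) := by
    intro x hx
    obtain ⟨t', ht', rfl⟩ := Subgroup.mem_map.mp hx
    exact conj_mem_normalizer_map m (hTN ht')
  have ihQ' : Subgroup.normalizer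
      ((Q.map (MulAut.conj m).toMonoidHom : Subgroup G) : Set G) ≤ M := by
    refine ih _ ?_ _ hQ'P hQ'1 rfl
    have h1 : Nat.card (T.map (MulAut.conj m).toMonoidHom : Subgroup G) ≤
        Nat.card ((P : Subgroup G) ⊓ Subgroup.normalizer
          ((Q.map (MulAut.conj m).toMonoidHom : Subgroup G) : Set G) : Subgroup G) :=
      Subgroup.card_le_of_le (le_inf hTR₂ hTQ')
    rw [card_map_conj] at h1
    have h2 : Nat.card R < Nat.card T := card_lt_card_of_lt hRltT
    have := hcP (Subgroup.normalizer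
      ((Q.map (MulAut.conj m).toMonoidHom : Subgroup G) : Set G))
    omega
  intro n hn
  have h1 : m * n * m⁻¹ ∈ M := ihQ' (conj_mem_normalizer_map m hn)
  have h2 : m⁻¹ * (m * n * m⁻¹) * m ∈ M := M.mul_mem (M.mul_mem (M.inv_mem hmM) h1) hmM
  have e : m⁻¹ * (m * n * m⁻¹) * m = n := by group
  rwa [e] at h2

/-- In a group of characteristic p type all of whose p-locals are p-stable (p odd), the normalizer of Z(J(P)) contains the normalizer of every nontrivial subgroup of the Sylow p-subgroup P. -/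
theorem result {G : Type*} [Group G] [Finite G] {p : ℕ} [Fact p.Prime] (hp : p ≠ 2) (hloc : ∀ Q : Subgroup G, IsPGroup p Q → Q ≠ ⊥ → Cfsg.pPrimeCore p ↥(Subgroup.normalizer (Q : Set G)) = ⊥ ∧ Cfsg.IsPConstrained p ↥(Subgroup.normalizer (Q : Set G)) ∧ Cfsg.IsPStable p ↥(Subgroup.normalizer (Q : Set G))) (P : Sylow p G) (Q : Subgroup G) (hQP : Q ≤ (P : Subgroup G)) (hQ1 : Q ≠ ⊥) : Subgroup.normalizer (Q : Set G) ≤ Subgroup.normalizer (Cfsg.centerThompsonAOf ((P : Subgroup G)) : Set G) := by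
  rw [centerThompsonAOf_eq]
  exact key hp hloc P _ Q hQP hQ1 rfl

end Cfsg.Agent.S0658
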