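import Cfsg.Statements.S0602
import Cfsg.Agent.Lib.Helper2.EA

set_option autoImplicit false
set_option linter.style.haveILetI false
open Cfsg

namespace Cfsg.Agent.S0602

open Cfsg.Agent.Lib.Helper2

/-- The Thompson subgroup is characteristic, and nontrivial as soon as p divides the group order. -/
theorem result {G : Type*} [Group G] [Finite G] {p : ℕ} [Fact p.Prime] : (Cfsg.thompsonSubgroup p G).Characteristic ∧ (p ∣ Nat.card G → Cfsg.thompsonSubgroup p G ≠ ⊥) := by
  constructor
  · rw [Subgroup.characteristic_iff_map_le]
    intro φ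
    rw [Subgroup.map_le_iff_le_comap]
    unfold Cfsg.thompsonSubgroup
    apply sSup_le
    intro A hA
    rw [← Subgroup.map_le_iff_le_comap]
    apply le_sSup
    refine ⟨ea_map hA.1 φ.toMonoidHom, ?_⟩
    intro B hB
    have : Nat.card (A.map φ.toMonoidHom) = Nat.card A :=
      Subgroup.card_map_of_injective φ.injective
    rw [this]
    exact hA.2 B hB
  · intro hp
    obtain ⟨x, hx⟩ := exists_prime_orderOf_dvd_card' p hp
    obtain ⟨A, hA⟩ := exists_maxElementaryAbelian p G
    have hxp : x ^ p = 1 := by rw [← hx]; exact pow_orderOf_eq_one x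
    have h1 : Nat.card (Subgroup.zpowers x) ≤ Nat.card A :=
      hA.2 _ (isElementaryAbelian_zpowers hxp)
    rw [Nat.card_zpowers, hx] at h1
    have hAne : A ≠ ⊥ := by
      intro h
      rw [h, Subgroup.card_bot] at h1
      have := (Fact.out : p.Prime).two_le
      omega
    intro hJ
    apply hAne
    have := le_thompsonSubgroup hA
    rw [hJ] at this
    exact le_bot_iff.1 this

end Cfsg.Agent.S0602
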