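import Cfsg.Statements.S0606
import Cfsg.Agent.Lib.Helper2.EA2
import Cfsg.Agent.Lib.Helper2.Index

set_option autoImplicit false
set_option linter.style.haveILetI false
open Cfsg

namespace Cfsg.Agent.S0606

open Cfsg.Agent.Lib.Helper2

/-- Elementary abelian p-subgroups of maximal order are best offenders on any normal elementary abelian p-subgroup. -/
theorem result {G : Type*} [Group G] [Finite G] {p : ℕ} [Fact p.Prime] (V : Subgroup G) [V.Normal] (hV : Cfsg.IsElementaryAbelian p V) (A : Subgroup G) (hA : A ∈ Cfsg.maxElementaryAbelianSubgroups p G) : Cfsg.IsBestOffenderOn p V A := by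
  have hAea := (isElementaryAbelian_iff p A).1 hA.1
  refine ⟨?_, ?_, ?_⟩
  · intro B hBA
    set W := V ⊓ Subgroup.centralizer (B : Set G) with hW
    have hBea : Cfsg.IsElementaryAbelian p B := ea_mono hA.1 hBA
    have hWea : Cfsg.IsElementaryAbelian p W := ea_mono hV inf_le_left
    have hcomm : ∀ b ∈ B, ∀ w ∈ W, b * w = w * b := by
      intro b hb w hw
      exact (Subgroup.mem_centralizer_iff.1 hw.2) b hb
    have hE := ea_sup hBea hWea hcomm
    have h1 : Nat.card (B ⊔ W : Subgroup G) ≤ Nat.card A := hA.2 _ hE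
    have h2 := card_sup_mul_card_inf B W (le_normalizer_of_commute B W hcomm)
    have h3 : B ⊓ W ≤ V ⊓ Subgroup.centralizer (A : Set G) := by
      intro x hx
      have hxc : x ∈ Subgroup.centralizer (A : Set G) := by
        rw [Subgroup.mem_centralizer_iff]
        intro a ha
        exact hAea.1 a ha x (hBA hx.1)
      exact ⟨hx.2.1, hxc⟩
    have h4 : Nat.card (B ⊓ W : Subgroup G) ≤
        Nat.card (V ⊓ Subgroup.centralizer (A : Set G) : Subgroup G) :=
      Subgroup.card_le_of_le h3
    calc Nat.card B * Nat.card W = Nat.card (B ⊔ W : Subgroup G) * Nat.card (B ⊓ W : Subgroup G) :=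
          h2.symm
      _ ≤ Nat.card A * Nat.card (V ⊓ Subgroup.centralizer (A : Set G) : Subgroup G) :=
          Nat.mul_le_mul h1 h4
  · have : ⁅A, A⁆ = ⊥ := by
      rw [Subgroup.commutator_eq_bot_iff_le_centralizer]
      intro x hx
      rw [Subgroup.mem_centralizer_iff]
      intro y hy
      exact hAea.1 y hy x hx
    rw [this]; exact bot_le
  · intro a ha
    rw [hAea.2 a ha]
    exact Subgroup.one_mem _

end Cfsg.Agent.S0606
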