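import Cfsg.Statements.S1963
import Cfsg.Agent.Lib.Helper4.ConjSub

set_option autoImplicit false
open Cfsg

namespace Cfsg.Agent.S1963

open Cfsg.Agent.Lib.Helper4

section
variable {G : Type*} [Group G] {p : ℕ}

/-- `N_S` of the `i`th tower term. -/
abbrev towerN (W : Subgroup G → Subgroup G) (S T : Subgroup G) (i : ℕ) : Subgroup G :=
  S ⊓ Subgroup.normalizer ((functorTower W S T i : Subgroup G) : Set G)

theorem tower_succ (W : Subgroup G → Subgroup G) (S T : Subgroup G) (i : ℕ) :
    functorTower W S T (i + 1) = W (towerN W S T i) := rfl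

theorem tower_le [Finite G] (W : Subgroup G → Subgroup G) (hW : IsConjugacyFunctor p W) (S : Sylow p G)
    (T : Subgroup G) (hT : T ≤ (S : Subgroup G)) (i : ℕ) : functorTower W S T i ≤ (S : Subgroup G) := by
  cases i with
  | zero => exact hT
  | succ i =>
    rw [tower_succ]
    exact ((hW _ (S.2.to_le inf_le_left)).1).trans inf_le_left

theorem towerN_le_succ (W : Subgroup G → Subgroup G) (hW : IsConjugacyFunctor p W) (S : Sylow p G)
    (T : Subgroup G) (i : ℕ) : towerN W S T i ≤ towerN W S T (i + 1) := by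
  intro x hx
  refine ⟨hx.1, ?_⟩
  show x ∈ Subgroup.normalizer ((functorTower W S T (i + 1) : Subgroup G) : Set G)
  rw [Subgroup.mem_normalizer_iff_map_conj_eq, tower_succ]
  have h1 := (hW _ (S.2.to_le (inf_le_left : towerN W S T i ≤ S))).2.2 x
  show cj x (W (towerN W S T i)) = W (towerN W S T i)
  rw [cj_def, ← h1]
  congr 1
  -- x normalizes towerN i
  have hxN : x ∈ Subgroup.normalizer ((towerN W S T i : Subgroup G) : Set G) := Subgroup.le_normalizer hx
  exact Subgroup.mem_normalizer_iff_map_conj_eq.1 hxN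

theorem towerN_mono (W : Subgroup G → Subgroup G) (hW : IsConjugacyFunctor p W) (S : Sylow p G)
    (T : Subgroup G) : Monotone (towerN W S T) :=
  monotone_nat_of_le_succ (towerN_le_succ W hW S T)

/-- Good up to level `k`. -/
def Good (p : ℕ) (W : Subgroup G → Subgroup G) (S T : Subgroup G) (k : ℕ) : Prop :=
  T ≤ S ∧ ∀ i < k, ¬ p ∣ (towerN W S T i).relIndex
    (Subgroup.normalizer ((functorTower W S T i : Subgroup G) : Set G))

theorem good_step [Finite G] [Fact p.Prime] (W : Subgroup G → Subgroup G) (hW : IsConjugacyFunctor p W) (S : Sylow p G)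
    (T : Subgroup G) (k : ℕ) (hgood : Good p W (S : Subgroup G) T k) :
    ∃ g : G, Good p W (S : Subgroup G) (cj g T) (k + 1) := by
  obtain ⟨hTS, hk⟩ := hgood
  have hNk_p : IsPGroup p (towerN W S T k) := S.2.to_le inf_le_left
  obtain ⟨g, hgS, hgidx⟩ := exists_cj_sylow_normalizer p S (functorTower W S T k) (towerN W S T k)
    inf_le_right hNk_p
  have hT0 : T ≤ towerN W S T 0 := le_inf hTS Subgroup.le_normalizer
  have hTk : T ≤ towerN W S T k := hT0.trans (towerN_mono W hW S T (Nat.zero_le k))
  have hcjT : cj g T ≤ (S : Subgroup G) := (cj_mono g hTk).trans hgS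
  -- tower of the conjugate
  have key : ∀ i ≤ k, functorTower W S (cj g T) i = cj g (functorTower W S T i) ∧
      (i < k → towerN W S (cj g T) i = cj g (towerN W S T i)) := by
    intro i
    induction i with
    | zero =>
      intro _
      refine ⟨rfl, fun h0 => ?_⟩
      have hle : cj g (towerN W S T 0) ≤ towerN W S (cj g T) 0 := by
        refine le_inf ((cj_mono g (towerN_mono W hW S T (Nat.zero_le k))).trans hgS) ?_
        show cj g (towerN W S T 0) ≤ Subgroup.normalizer ((cj g T : Subgroup G) : Set G)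
        rw [cj_normalizer]; exact cj_mono g inf_le_right
      have hidx : ¬ p ∣ (cj g (towerN W S T 0)).relIndex (Subgroup.normalizer ((cj g T : Subgroup G) : Set G)) := by
        rw [cj_normalizer, cj_relIndex]; exact hk 0 h0
      exact (eq_of_le_of_not_dvd_relIndex p hle inf_le_right (S.2.to_le inf_le_left) hidx).symm
    | succ i ih =>
      intro hi
      have hi' : i < k := hi
      obtain ⟨ih1, ih2⟩ := ih (Nat.le_of_lt hi')
      have ih2' := ih2 hi'
      have e1 : functorTower W S (cj g T) (i + 1) = cj g (functorTower W S T (i + 1)) := by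
        rw [tower_succ, tower_succ, ih2']
        exact (hW _ (S.2.to_le inf_le_left)).2.2 g
      refine ⟨e1, fun hlt => ?_⟩
      have hle : cj g (towerN W S T (i + 1)) ≤ towerN W S (cj g T) (i + 1) := by
        refine le_inf ((cj_mono g (towerN_mono W hW S T hi)).trans hgS) ?_
        show cj g (towerN W S T (i + 1)) ≤ Subgroup.normalizer ((functorTower W S (cj g T) (i + 1) : Subgroup G) : Set G)
        rw [e1, cj_normalizer]; exact cj_mono g inf_le_right
      have hidx : ¬ p ∣ (cj g (towerN W S T (i + 1))).relIndex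
          (Subgroup.normalizer ((functorTower W S (cj g T) (i + 1) : Subgroup G) : Set G)) := by
        rw [e1, cj_normalizer, cj_relIndex]; exact hk (i + 1) hlt
      exact (eq_of_le_of_not_dvd_relIndex p hle inf_le_right (S.2.to_le inf_le_left) hidx).symm
  refine ⟨g, hcjT, fun i hi => ?_⟩
  rcases Nat.lt_succ_iff_lt_or_eq.1 hi with hlt | rfl
  · obtain ⟨e1, e2⟩ := key i (Nat.le_of_lt hlt)
    rw [e2 hlt, e1, cj_normalizer, cj_relIndex]
    exact hk i hlt
  · obtain ⟨e1, -⟩ := key i le_rfl
    show ¬ p ∣ ((S : Subgroup G) ⊓ Subgroup.normalizer ((functorTower W S (cj g T) i : Subgroup G) : Set G)).relIndex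
      (Subgroup.normalizer ((functorTower W S (cj g T) i : Subgroup G) : Set G))
    rw [e1]; exact hgidx

theorem good_all [Finite G] [Fact p.Prime] (W : Subgroup G → Subgroup G) (hW : IsConjugacyFunctor p W) (S : Sylow p G)
    (T : Subgroup G) (hT : T ≤ (S : Subgroup G)) (k : ℕ) :
    ∃ g : G, Good p W (S : Subgroup G) (cj g T) k := by
  induction k with
  | zero => exact ⟨1, by rw [cj_one]; exact ⟨hT, fun i hi => absurd hi (Nat.not_lt_zero i)⟩⟩
  | succ k ih =>
    obtain ⟨g, hg⟩ := ih
    obtain ⟨g', hg'⟩ := good_step W hW S (cj g T) k hg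
    exact ⟨g' * g, by rw [cj_mul]; exact hg'⟩

end

/-- Let p be a prime, G a finite group with Sylow p-subgroup S, W a conjugacy functor for p on G and T a subgroup of S. Then some G-conjugate of T is well placed in S with respect to W. -/
theorem result {G : Type*} [Group G] [Finite G] {p : ℕ} [Fact p.Prime] (S : Sylow p G) (W : Subgroup G → Subgroup G) (hW : Cfsg.IsConjugacyFunctor p W) (T : Subgroup G) (hT : T ≤ (S : Subgroup G)) : ∃ g : G, Cfsg.IsWellPlaced p W (S : Subgroup G) (T.map (MulAut.conj g).toMonoidHom) := by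
  classical
  by_contra hcon
  push Not at hcon
  have hbad : ∀ g : G, ∃ k : ℕ, ¬ Good p W (S : Subgroup G) (cj g T) k := by
    intro g
    by_contra hall
    push Not at hall
    apply hcon g
    refine ⟨(hall 0).1, fun i => ?_⟩
    exact (hall (i + 1)).2 i (Nat.lt_succ_self i)
  choose kf hkf using hbad
  obtain ⟨g₀, hg₀⟩ := Finite.exists_max kf
  obtain ⟨g, hg⟩ := good_all W hW S T hT (kf g₀)
  apply hkf g
  exact ⟨hg.1, fun i hi => hg.2 i (lt_of_lt_of_le hi (hg₀ g))⟩

end Cfsg.Agent.S1963
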