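import Cfsg.Statements.S1961
import Cfsg.Agent.Lib.Helper4.Fusion
import Cfsg.Agent.S1963

set_option autoImplicit false
open Cfsg

namespace Cfsg.Agent.S1961


open Cfsg.Agent.Lib.Helper4

section
variable {G : Type*} [Group G] {p : ℕ}

/-- Control of strong fusion in `H` with respect to a specified Sylow subgroup `T`. -/
def CtrlAt (W : Subgroup G → Subgroup G) (H T : Subgroup G) : Prop :=
  ∀ (A : Set G) (h : G), h ∈ H → A ⊆ (T : Set G) → (fun a => h * a * h⁻¹) '' A ⊆ (T : Set G) →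
    ∃ x ∈ H ⊓ Subgroup.normalizer ((W T : Subgroup G) : Set G), ∀ a ∈ A, x * a * x⁻¹ = h * a * h⁻¹

theorem cj_self_of_mem {H : Subgroup G} {k : G} (hk : k ∈ H) : cj k H = H :=
  Subgroup.mem_normalizer_iff_map_conj_eq.1 (Subgroup.le_normalizer hk)

theorem ctrlAt_of_controls [Finite G] [Fact p.Prime] (W : Subgroup G → Subgroup G)
    (hW : IsConjugacyFunctor p W) (H T₁ : Subgroup G) (hT₁H : T₁ ≤ H) (hT₁p : IsPGroup p T₁)
    (hidx : ¬ p ∣ T₁.relIndex H) (hc : ControlsStrongFusionIn p W H) : CtrlAt W H T₁ := by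
  obtain ⟨T₀, hT₀H, hT₀p, hT₀idx, hctl⟩ := hc
  obtain ⟨k, hkH, hk⟩ := exists_conj_le_of_relIndex p H T₀ T₁ hT₀p hT₀idx hT₁H hT₁p
  have hle : cj k T₁ ≤ T₀ := by
    rintro _ ⟨q, hq, rfl⟩
    exact hk q hq
  have hidx' : ¬ p ∣ (cj k T₁).relIndex H := by
    have : (cj k T₁).relIndex H = T₁.relIndex H := by
      conv_lhs => rw [← cj_self_of_mem hkH]
      exact cj_relIndex k T₁ H
    rw [this]; exact hidx
  have heq : cj k T₁ = T₀ := eq_of_le_of_not_dvd_relIndex p hle hT₀H hT₀p hidx'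
  have hWeq : W T₀ = cj k (W T₁) := by
    rw [← heq]; exact (hW T₁ hT₁p).2.2 k
  intro A h hh hA hAh
  have hA' : (fun a => k * a * k⁻¹) '' A ⊆ (T₀ : Set G) := by
    rintro _ ⟨a, ha, rfl⟩
    exact hk a (hA ha)
  have hh' : k * h * k⁻¹ ∈ H := H.mul_mem (H.mul_mem hkH hh) (H.inv_mem hkH)
  have hAh' : (fun a => (k * h * k⁻¹) * a * (k * h * k⁻¹)⁻¹) '' ((fun a => k * a * k⁻¹) '' A) ⊆ (T₀ : Set G) := by
    rintro _ ⟨_, ⟨a, ha, rfl⟩, rfl⟩
    have h1 : h * a * h⁻¹ ∈ T₁ := hAh ⟨a, ha, rfl⟩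
    have h2 := hk _ h1
    have h3 : k * h * k⁻¹ * (k * a * k⁻¹) * (k * h * k⁻¹)⁻¹ = k * (h * a * h⁻¹) * k⁻¹ := by group
    show k * h * k⁻¹ * (k * a * k⁻¹) * (k * h * k⁻¹)⁻¹ ∈ T₀
    rw [h3]; exact h2
  obtain ⟨x', hx', hx'A⟩ := hctl _ _ hh' hA' hAh'
  refine ⟨k⁻¹ * x' * k, ⟨H.mul_mem (H.mul_mem (H.inv_mem hkH) hx'.1) hkH, ?_⟩, ?_⟩
  · have h1 : x' ∈ Subgroup.normalizer ((W T₀ : Subgroup G) : Set G) := hx'.2
    rw [hWeq, cj_normalizer, mem_cj_iff] at h1
    exact h1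
  · intro a ha
    have h1 := hx'A (k * a * k⁻¹) ⟨a, ha, rfl⟩
    have h2 : k⁻¹ * x' * k * a * (k⁻¹ * x' * k)⁻¹ = k⁻¹ * (x' * (k * a * k⁻¹) * x'⁻¹) * k := by group
    rw [h2, h1]
    group

theorem tower_shift (W : Subgroup G → Subgroup G) (S T : Subgroup G) (i : ℕ) :
    functorTower W S (W (S ⊓ Subgroup.normalizer (T : Set G))) i = functorTower W S T (i + 1) := by
  induction i with
  | zero => rfl
  | succ i ih =>
    show W (S ⊓ Subgroup.normalizer ((functorTower W S (W (S ⊓ Subgroup.normalizer (T : Set G))) i : Subgroup G) : Set G)) =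
      W (S ⊓ Subgroup.normalizer ((functorTower W S T (i + 1) : Subgroup G) : Set G))
    rw [ih]

theorem wellPlaced_next (W : Subgroup G → Subgroup G) (hW : IsConjugacyFunctor p W) (S : Sylow p G)
    (T : Subgroup G) (hT : IsWellPlaced p W (S : Subgroup G) T) :
    IsWellPlaced p W (S : Subgroup G) (W ((S : Subgroup G) ⊓ Subgroup.normalizer (T : Set G))) := by
  refine ⟨((hW _ (S.2.to_le inf_le_left)).1).trans inf_le_left, fun i => ?_⟩
  rw [tower_shift]
  exact hT.2 (i + 1)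

theorem climb [Finite G] [Fact p.Prime] (W : Subgroup G → Subgroup G) (hW : IsConjugacyFunctor p W)
    (S : Sylow p G)
    (hloc : ∀ T : Subgroup G, T ≠ ⊥ → IsWellPlaced p W (S : Subgroup G) T →
      ControlsStrongFusionIn p W (Subgroup.normalizer ((T : Subgroup G) : Set G))) :
    ∀ (k : ℕ) (T : Subgroup G), T ≠ ⊥ → IsWellPlaced p W (S : Subgroup G) T →
      Nat.card (S : Subgroup G) - Nat.card ((S : Subgroup G) ⊓ Subgroup.normalizer (T : Set G) : Subgroup G) ≤ k →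
      ∀ (A : Set G) (h : G), h ∈ Subgroup.normalizer (T : Set G) →
        A ⊆ (((S : Subgroup G) ⊓ Subgroup.normalizer (T : Set G) : Subgroup G) : Set G) →
        (fun a => h * a * h⁻¹) '' A ⊆ (((S : Subgroup G) ⊓ Subgroup.normalizer (T : Set G) : Subgroup G) : Set G) →
        ∃ x ∈ Subgroup.normalizer ((W (S : Subgroup G) : Subgroup G) : Set G), ∀ a ∈ A, x * a * x⁻¹ = h * a * h⁻¹ := by
  intro k
  induction k with
  | zero =>
    intro T hT1 hTwp hcard A h hh hA hAh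
    set S₀ : Subgroup G := (S : Subgroup G) ⊓ Subgroup.normalizer (T : Set G) with hS₀
    have hS₀S : S₀ ≤ (S : Subgroup G) := inf_le_left
    have hS₀p : IsPGroup p S₀ := S.2.to_le hS₀S
    have hctl : CtrlAt W (Subgroup.normalizer (T : Set G)) S₀ :=
      ctrlAt_of_controls W hW _ S₀ inf_le_right hS₀p (hTwp.2 0) (hloc T hT1 hTwp)
    obtain ⟨y, hy, hyA⟩ := hctl A h hh hA hAh
    have hle : Nat.card (S : Subgroup G) ≤ Nat.card S₀ := by omega
    have heq : S₀ = (S : Subgroup G) := Subgroup.eq_of_le_of_card_ge hS₀S hle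
    refine ⟨y, ?_, hyA⟩
    have := hy.2
    rwa [heq] at this
  | succ k ih =>
    intro T hT1 hTwp hcard A h hh hA hAh
    set S₀ : Subgroup G := (S : Subgroup G) ⊓ Subgroup.normalizer (T : Set G) with hS₀
    have hS₀S : S₀ ≤ (S : Subgroup G) := inf_le_left
    have hS₀p : IsPGroup p S₀ := S.2.to_le hS₀S
    have hctl : CtrlAt W (Subgroup.normalizer (T : Set G)) S₀ :=
      ctrlAt_of_controls W hW _ S₀ inf_le_right hS₀p (hTwp.2 0) (hloc T hT1 hTwp)
    obtain ⟨y, hy, hyA⟩ := hctl A h hh hA hAh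
    by_cases heq : S₀ = (S : Subgroup G)
    · refine ⟨y, ?_, hyA⟩
      have := hy.2
      rwa [heq] at this
    · set T' : Subgroup G := W S₀ with hT'
      have hTS₀ : T ≤ S₀ := le_inf hTwp.1 Subgroup.le_normalizer
      have hS₀ne : S₀ ≠ ⊥ := fun h0 => hT1 (le_bot_iff.1 (h0 ▸ hTS₀))
      have hT'ne : T' ≠ ⊥ := (hW S₀ hS₀p).2.1 hS₀ne
      have hT'wp : IsWellPlaced p W (S : Subgroup G) T' := wellPlaced_next W hW S T hTwp
      set S₁ : Subgroup G := (S : Subgroup G) ⊓ Subgroup.normalizer (T' : Set G) with hS₁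
      -- S₀ < S₁
      have hlt0 : S₀ < (S : Subgroup G) ⊓ Subgroup.normalizer (S₀ : Set G) :=
        lt_inf_normalizer_of_lt (S : Subgroup G) S.2 S₀ (lt_of_le_of_ne hS₀S heq)
      have hle1 : (S : Subgroup G) ⊓ Subgroup.normalizer (S₀ : Set G) ≤ S₁ := by
        intro x hx
        refine ⟨hx.1, ?_⟩
        show x ∈ Subgroup.normalizer ((T' : Subgroup G) : Set G)
        rw [Subgroup.mem_normalizer_iff_map_conj_eq]
        have h1 := (hW S₀ hS₀p).2.2 x
        have h2 : cj x S₀ = S₀ := Subgroup.mem_normalizer_iff_map_conj_eq.1 hx.2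
        show cj x (W S₀) = W S₀
        rw [cj_def, ← h1]
        congr 1
      have hlt1 : S₀ < S₁ := lt_of_lt_of_le hlt0 hle1
      have hcardlt : Nat.card S₀ < Nat.card S₁ := by
        by_contra hnot
        push Not at hnot
        exact hlt1.ne (Subgroup.eq_of_le_of_card_ge hlt1.le hnot)
      have hS₁S : Nat.card S₁ ≤ Nat.card (S : Subgroup G) := Subgroup.card_le_of_le inf_le_left
      have hcard' : Nat.card (S : Subgroup G) - Nat.card S₁ ≤ k := by omega
      have hyT' : y ∈ Subgroup.normalizer (T' : Set G) := hy.2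
      have hA' : A ⊆ ((S₁ : Subgroup G) : Set G) := fun a ha => hlt1.le (hA ha)
      have hAy : (fun a => y * a * y⁻¹) '' A ⊆ ((S₁ : Subgroup G) : Set G) := by
        rintro _ ⟨a, ha, rfl⟩
        show y * a * y⁻¹ ∈ S₁
        rw [hyA a ha]
        exact hlt1.le (hAh ⟨a, ha, rfl⟩)
      obtain ⟨x, hx, hxA⟩ := ih T' hT'ne hT'wp hcard' A y hyT' hA' hAy
      exact ⟨x, hx, fun a ha => (hxA a ha).trans (hyA a ha)⟩

theorem fuses_ctrl [Finite G] [Fact p.Prime] (W : Subgroup G → Subgroup G) (hW : IsConjugacyFunctor p W)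
    (S : Sylow p G)
    (hloc : ∀ T : Subgroup G, T ≠ ⊥ → IsWellPlaced p W (S : Subgroup G) T →
      ControlsStrongFusionIn p W (Subgroup.normalizer ((T : Subgroup G) : Set G)))
    (A : Set G) (g : G) (hF : Fuses {T : Subgroup G | IsWellPlaced p W (S : Subgroup G) T} A g) :
    ∃ x ∈ Subgroup.normalizer ((W (S : Subgroup G) : Subgroup G) : Set G), ∀ a ∈ A, x⁻¹ * a * x = g⁻¹ * a * g := by
  induction hF with
  | nil A => exact ⟨1, Subgroup.one_mem _, fun a _ => by simp⟩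
  | cons A T y g' hT hy hAT _ ih =>
    obtain ⟨x', hx', hx'A⟩ := ih
    have hTwp : IsWellPlaced p W (S : Subgroup G) T := hT
    -- the step
    have hstep : ∃ x₁ ∈ Subgroup.normalizer ((W (S : Subgroup G) : Subgroup G) : Set G),
        ∀ a ∈ A, x₁ * a * x₁⁻¹ = y⁻¹ * a * y⁻¹⁻¹ := by
      by_cases hT1 : T = ⊥
      · refine ⟨1, Subgroup.one_mem _, fun a ha => ?_⟩
        have : a ∈ T := hAT ha
        rw [hT1, Subgroup.mem_bot] at this
        rw [this]; simp
      · have hTS₀ : T ≤ (S : Subgroup G) ⊓ Subgroup.normalizer (T : Set G) := le_inf hTwp.1 Subgroup.le_normalizer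
        refine climb W hW S hloc _ T hT1 hTwp le_rfl A y⁻¹ (inv_mem hy) (fun a ha => hTS₀ (hAT ha)) ?_
        rintro _ ⟨a, ha, rfl⟩
        apply hTS₀
        have := (Subgroup.mem_normalizer_iff.1 (inv_mem hy) a).1 (hAT ha)
        exact this
    obtain ⟨x₁, hx₁, hx₁A⟩ := hstep
    refine ⟨x₁⁻¹ * x', Subgroup.mul_mem _ (inv_mem hx₁) hx', fun a ha => ?_⟩
    have h1 := hx₁A a ha
    have h2 : y⁻¹ * a * y ∈ rc y A := ⟨a, ha, rfl⟩
    have h3 := hx'A _ h2
    have h4 : (x₁⁻¹ * x')⁻¹ * a * (x₁⁻¹ * x') = x'⁻¹ * (x₁ * a * x₁⁻¹) * x' := by group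
    rw [h4, h1, inv_inv, h3]
    group

end

/-- Local-to-global control of strong fusion through well-placed subgroups. Let p be a prime, G a finite group with Sylow p-subgroup S, and W a conjugacy functor for p on G. If W controls strong fusion in N_G(T) for every nonidentity subgroup T of S that is well placed in S with respect to W, then W controls strong fusion in G. -/
theorem result {G : Type*} [Group G] [Finite G] {p : ℕ} [Fact p.Prime] (S : Sylow p G) (W : Subgroup G → Subgroup G) (hW : Cfsg.IsConjugacyFunctor p W) (hloc : ∀ T : Subgroup G, T ≠ ⊥ → Cfsg.IsWellPlaced p W (S : Subgroup G) T → Cfsg.ControlsStrongFusionIn p W (Subgroup.normalizer ((T : Subgroup G) : Set G))) : Cfsg.ControlsStrongFusionIn p W ⊤ := by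
  refine ⟨(S : Subgroup G), le_top, S.2, ?_, ?_⟩
  · rw [Subgroup.relIndex_top_right]
    exact S.not_dvd_index
  · intro A h _ hA hAh
    -- family hypothesis
    have hfam : ∀ T : Subgroup G, T ≤ (S : Subgroup G) →
        ∃ U ∈ {T : Subgroup G | IsWellPlaced p W (S : Subgroup G) T}, U ≤ (S : Subgroup G) ∧ (∃ g : G, cj g T = U) ∧
          ¬ p ∣ ((S : Subgroup G) ⊓ Subgroup.normalizer ((U : Subgroup G) : Set G)).relIndex
            (Subgroup.normalizer ((U : Subgroup G) : Set G)) := by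
      intro T hT
      obtain ⟨g, hg⟩ := Cfsg.Agent.S1963.result S W hW T hT
      exact ⟨_, hg, hg.1, ⟨g, rfl⟩, hg.2 0⟩
    set B := Subgroup.closure A with hB
    have hBS : B ≤ (S : Subgroup G) := (Subgroup.closure_le _).2 hA
    have hBg : cj (h⁻¹)⁻¹ B ≤ (S : Subgroup G) := by
      rw [inv_inv, cj_def, MonoidHom.map_closure, Subgroup.closure_le]
      rintro _ ⟨a, ha, rfl⟩
      have := hAh ⟨a, ha, rfl⟩
      simpa [MulAut.conj_apply] using this
    have hF := fuses_of_family S _ hfam B hBS h⁻¹ hBg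
    obtain ⟨x, hx, hxA⟩ := fuses_ctrl W hW S hloc A h⁻¹ (hF.mono Subgroup.subset_closure)
    refine ⟨x⁻¹, Subgroup.mem_inf.2 ⟨Subgroup.mem_top _, inv_mem hx⟩, fun a ha => ?_⟩
    have := hxA a ha
    rw [inv_inv] at this ⊢
    exact this

end Cfsg.Agent.S1961
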