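import Cfsg.Statements.S1962
import Cfsg.Agent.S1961

set_option autoImplicit false
open Cfsg

namespace Cfsg.Agent.S1962


open Cfsg.Agent.Lib.Helper4
open scoped commutatorElement

section
variable {G : Type*} [Group G] {p : ℕ}

theorem exists_cj_eq_of_sylow_rel [Finite G] [Fact p.Prime] (H T₀ T₁ : Subgroup G)
    (hT₀H : T₀ ≤ H) (hT₀p : IsPGroup p T₀) (hT₀idx : ¬ p ∣ T₀.relIndex H)
    (hT₁H : T₁ ≤ H) (hT₁p : IsPGroup p T₁) (hidx : ¬ p ∣ T₁.relIndex H) :
    ∃ k ∈ H, cj k T₁ = T₀ := by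
  obtain ⟨k, hkH, hk⟩ := exists_conj_le_of_relIndex p H T₀ T₁ hT₀p hT₀idx hT₁H hT₁p
  have hle : cj k T₁ ≤ T₀ := by
    rintro _ ⟨q, hq, rfl⟩
    exact hk q hq
  have hidx' : ¬ p ∣ (cj k T₁).relIndex H := by
    have : (cj k T₁).relIndex H = T₁.relIndex H := by
      conv_lhs => rw [← Cfsg.Agent.S1961.cj_self_of_mem hkH]
      exact cj_relIndex k T₁ H
    rw [this]; exact hidx
  exact ⟨k, hkH, eq_of_le_of_not_dvd_relIndex p hle hT₀H hT₀p hidx'⟩

theorem cj_commutator (g : G) (A B : Subgroup G) : cj g ⁅A, B⁆ = ⁅cj g A, cj g B⁆ :=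
  Subgroup.map_commutator A B _

theorem cj_inv_cj (g : G) (A : Subgroup G) : cj g⁻¹ (cj g A) = A := by
  rw [← cj_mul, inv_mul_cancel, cj_one]

/-- Control of transfer with respect to a specified Sylow subgroup. -/
theorem transferAt_of_controls [Finite G] [Fact p.Prime] (W : Subgroup G → Subgroup G)
    (hW : IsConjugacyFunctor p W) (H T₁ : Subgroup G) (hT₁H : T₁ ≤ H) (hT₁p : IsPGroup p T₁)
    (hidx : ¬ p ∣ T₁.relIndex H) (hc : ControlsTransferIn p W H) :
    T₁ ⊓ ⁅H, H⁆ = T₁ ⊓ ⁅H ⊓ Subgroup.normalizer ((W T₁ : Subgroup G) : Set G),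
      H ⊓ Subgroup.normalizer ((W T₁ : Subgroup G) : Set G)⁆ := by
  obtain ⟨T₀, hT₀H, hT₀p, hT₀idx, heq⟩ := hc
  obtain ⟨k, hkH, hk⟩ := exists_cj_eq_of_sylow_rel H T₀ T₁ hT₀H hT₀p hT₀idx hT₁H hT₁p hidx
  have hk' : cj k⁻¹ T₀ = T₁ := by rw [← hk, cj_inv_cj]
  have hH : cj k⁻¹ H = H := Cfsg.Agent.S1961.cj_self_of_mem (H.inv_mem hkH)
  have hWeq : cj k⁻¹ (W T₀) = W T₁ := by
    rw [← hk']; exact ((hW T₀ hT₀p).2.2 k⁻¹).symm
  have hN : cj k⁻¹ (Subgroup.normalizer ((W T₀ : Subgroup G) : Set G)) =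
      Subgroup.normalizer ((W T₁ : Subgroup G) : Set G) := by
    rw [← cj_normalizer, hWeq]
  have h1 := congrArg (cj k⁻¹) heq
  rw [cj_inf, cj_inf, cj_commutator, cj_commutator, cj_inf, hk', hH, hN] at h1
  exact h1

theorem climbT [Finite G] [Fact p.Prime] (W : Subgroup G → Subgroup G) (hW : IsConjugacyFunctor p W)
    (S : Sylow p G)
    (hloc : ∀ T : Subgroup G, T ≠ ⊥ → IsWellPlaced p W (S : Subgroup G) T →
      ControlsTransferIn p W (Subgroup.normalizer ((T : Subgroup G) : Set G))) :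
    ∀ (k : ℕ) (T : Subgroup G), T ≠ ⊥ → IsWellPlaced p W (S : Subgroup G) T →
      Nat.card (S : Subgroup G) - Nat.card ((S : Subgroup G) ⊓ Subgroup.normalizer (T : Set G) : Subgroup G) ≤ k →
      ((S : Subgroup G) ⊓ Subgroup.normalizer (T : Set G)) ⊓
          ⁅Subgroup.normalizer (T : Set G), Subgroup.normalizer (T : Set G)⁆ ≤
        (S : Subgroup G) ⊓ ⁅Subgroup.normalizer ((W (S : Subgroup G) : Subgroup G) : Set G),
          Subgroup.normalizer ((W (S : Subgroup G) : Subgroup G) : Set G)⁆ := by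
  intro k
  induction k with
  | zero =>
    intro T hT1 hTwp hcard
    set S₀ : Subgroup G := (S : Subgroup G) ⊓ Subgroup.normalizer (T : Set G) with hS₀
    have hS₀S : S₀ ≤ (S : Subgroup G) := inf_le_left
    have hS₀p : IsPGroup p S₀ := S.2.to_le hS₀S
    have htr := transferAt_of_controls W hW _ S₀ inf_le_right hS₀p (hTwp.2 0) (hloc T hT1 hTwp)
    have hle : Nat.card (S : Subgroup G) ≤ Nat.card S₀ := by omega
    have heq : S₀ = (S : Subgroup G) := Subgroup.eq_of_le_of_card_ge hS₀S hle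
    rw [htr, heq]
    exact inf_le_inf_left _ (Subgroup.commutator_mono inf_le_right inf_le_right)
  | succ k ih =>
    intro T hT1 hTwp hcard
    set S₀ : Subgroup G := (S : Subgroup G) ⊓ Subgroup.normalizer (T : Set G) with hS₀
    have hS₀S : S₀ ≤ (S : Subgroup G) := inf_le_left
    have hS₀p : IsPGroup p S₀ := S.2.to_le hS₀S
    have htr := transferAt_of_controls W hW _ S₀ inf_le_right hS₀p (hTwp.2 0) (hloc T hT1 hTwp)
    by_cases heq : S₀ = (S : Subgroup G)
    · rw [htr, heq]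
      exact inf_le_inf_left _ (Subgroup.commutator_mono inf_le_right inf_le_right)
    · set T' : Subgroup G := W S₀ with hT'
      have hTS₀ : T ≤ S₀ := le_inf hTwp.1 Subgroup.le_normalizer
      have hS₀ne : S₀ ≠ ⊥ := fun h0 => hT1 (le_bot_iff.1 (h0 ▸ hTS₀))
      have hT'ne : T' ≠ ⊥ := (hW S₀ hS₀p).2.1 hS₀ne
      have hT'wp : IsWellPlaced p W (S : Subgroup G) T' := Cfsg.Agent.S1961.wellPlaced_next W hW S T hTwp
      set S₁ : Subgroup G := (S : Subgroup G) ⊓ Subgroup.normalizer (T' : Set G) with hS₁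
      have hlt0 : S₀ < (S : Subgroup G) ⊓ Subgroup.normalizer (S₀ : Set G) :=
        lt_inf_normalizer_of_lt (S : Subgroup G) S.2 S₀ (lt_of_le_of_ne hS₀S heq)
      have hle1 : (S : Subgroup G) ⊓ Subgroup.normalizer (S₀ : Set G) ≤ S₁ := by
        intro x hx
        refine ⟨hx.1, ?_⟩
        show x ∈ Subgroup.normalizer ((T' : Subgroup G) : Set G)
        rw [Subgroup.mem_normalizer_iff_map_conj_eq]
        have h1 := (hW S₀ hS₀p).2.2 x
        have h2 : cj x S₀ = S₀ := Subgroup.mem_normalizer_iff_map_conj_eq.1 hx.2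
        show cj x (W S₀) = W S₀
        rw [cj_def, ← h1]
        congr 1
      have hlt1 : S₀ < S₁ := lt_of_lt_of_le hlt0 hle1
      have hcardlt : Nat.card S₀ < Nat.card S₁ := by
        by_contra hnot
        push Not at hnot
        exact hlt1.ne (Subgroup.eq_of_le_of_card_ge hlt1.le hnot)
      have hS₁S : Nat.card S₁ ≤ Nat.card (S : Subgroup G) := Subgroup.card_le_of_le inf_le_left
      have hcard' : Nat.card (S : Subgroup G) - Nat.card S₁ ≤ k := by omega
      have hIH := ih T' hT'ne hT'wp hcard'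
      rw [htr]
      refine le_trans ?_ hIH
      exact inf_le_inf hlt1.le (Subgroup.commutator_mono inf_le_right inf_le_right)

theorem fuses_transfer [Finite G] [Fact p.Prime] (W : Subgroup G → Subgroup G) (hW : IsConjugacyFunctor p W)
    (S : Sylow p G)
    (hloc : ∀ T : Subgroup G, T ≠ ⊥ → IsWellPlaced p W (S : Subgroup G) T →
      ControlsTransferIn p W (Subgroup.normalizer ((T : Subgroup G) : Set G)))
    (A : Set G) (g : G) (hF : Fuses {T : Subgroup G | IsWellPlaced p W (S : Subgroup G) T} A g) :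
    ∀ a ∈ A, a⁻¹ * (g⁻¹ * a * g) ∈ (S : Subgroup G) ⊓
      ⁅Subgroup.normalizer ((W (S : Subgroup G) : Subgroup G) : Set G),
        Subgroup.normalizer ((W (S : Subgroup G) : Subgroup G) : Set G)⁆ := by
  induction hF with
  | nil A => intro a _; simp
  | cons A T y g' hT hy hAT _ ih =>
    intro a ha
    have hTwp : IsWellPlaced p W (S : Subgroup G) T := hT
    have haT : a ∈ T := hAT ha
    have ha' : y⁻¹ * a * y ∈ rc y A := ⟨a, ha, rfl⟩
    have ha'T : y⁻¹ * a * y ∈ T := by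
      have := (Subgroup.mem_normalizer_iff.1 (inv_mem hy) a).1 haT
      simpa using this
    have h1 := ih _ ha'
    have h2 : a⁻¹ * ((y * g')⁻¹ * a * (y * g')) =
        (a⁻¹ * (y⁻¹ * a * y)) * ((y⁻¹ * a * y)⁻¹ * (g'⁻¹ * (y⁻¹ * a * y) * g')) := by group
    rw [h2]
    refine Subgroup.mul_mem _ ?_ h1
    by_cases hT1 : T = ⊥
    · rw [hT1, Subgroup.mem_bot] at haT
      rw [haT]; simp
    · have hTS₀ : T ≤ (S : Subgroup G) ⊓ Subgroup.normalizer (T : Set G) := le_inf hTwp.1 Subgroup.le_normalizer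
      apply climbT W hW S hloc _ T hT1 hTwp le_rfl
      refine ⟨hTS₀ (T.mul_mem (T.inv_mem haT) ha'T), ?_⟩
      have h3 : a⁻¹ * (y⁻¹ * a * y) = ⁅a⁻¹, y⁻¹⁆ := by
        rw [commutatorElement_def]; group
      rw [h3]
      exact Subgroup.commutator_mem_commutator (Subgroup.le_normalizer (T.inv_mem haT)) (inv_mem hy)

end

/-- Local-to-global control of transfer through well-placed subgroups. Let p be a prime, G a finite group with Sylow p-subgroup S, and W a conjugacy functor for p on G. If W controls transfer in N_G(T) for every nonidentity subgroup T of S that is well placed in S with respect to W, then W controls transfer in G: S ∩ G' = S ∩ (N_G(W(S)))'. -/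
theorem result {G : Type*} [Group G] [Finite G] {p : ℕ} [Fact p.Prime] (S : Sylow p G) (W : Subgroup G → Subgroup G) (hW : Cfsg.IsConjugacyFunctor p W) (hloc : ∀ T : Subgroup G, T ≠ ⊥ → Cfsg.IsWellPlaced p W (S : Subgroup G) T → Cfsg.ControlsTransferIn p W (Subgroup.normalizer ((T : Subgroup G) : Set G))) : Cfsg.ControlsTransferIn p W ⊤ := by
  refine ⟨(S : Subgroup G), le_top, S.2, ?_, ?_⟩
  · rw [Subgroup.relIndex_top_right]
    exact S.not_dvd_index
  · rw [top_inf_eq]
    apply le_antisymm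
    · -- focal subgroup theorem
      have hfam : ∀ T : Subgroup G, T ≤ (S : Subgroup G) →
          ∃ U ∈ {T : Subgroup G | IsWellPlaced p W (S : Subgroup G) T}, U ≤ (S : Subgroup G) ∧ (∃ g : G, cj g T = U) ∧
            ¬ p ∣ ((S : Subgroup G) ⊓ Subgroup.normalizer ((U : Subgroup G) : Set G)).relIndex
              (Subgroup.normalizer ((U : Subgroup G) : Set G)) := by
        intro T hT
        obtain ⟨g, hg⟩ := Cfsg.Agent.S1963.result S W hW T hT
        exact ⟨_, hg, hg.1, ⟨g, rfl⟩, hg.2 0⟩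
      have hfocal : (S : Subgroup G) ⊓ ⁅(⊤ : Subgroup G), ⊤⁆ = (S : Subgroup G).focalSubgroup := by
        rw [inf_comm]
        exact Subgroup.commutator_inf_eq_focalSubgroup S
      rw [hfocal, Subgroup.focalSubgroup_def, Subgroup.closure_le]
      rintro g ⟨hgS, x, hxS, u, rfl⟩
      -- u x u⁻¹ ∈ S
      have hux : u * x * u⁻¹ ∈ (S : Subgroup G) := by
        have h1 : x⁻¹ * ⁅x, u⁆ ∈ (S : Subgroup G) := Subgroup.mul_mem _ (Subgroup.inv_mem _ hxS) hgS
        have h2 : (x⁻¹ * ⁅x, u⁆)⁻¹ = u * x * u⁻¹ := by rw [commutatorElement_def]; group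
        rw [← h2]; exact Subgroup.inv_mem _ h1
      set B := Subgroup.zpowers x with hB
      have hBS : B ≤ (S : Subgroup G) := by
        rw [hB, Subgroup.zpowers_le]; exact hxS
      have hBg : cj (u⁻¹)⁻¹ B ≤ (S : Subgroup G) := by
        rw [inv_inv, cj_def, hB, MonoidHom.map_zpowers, Subgroup.zpowers_le]
        simpa [MulAut.conj_apply] using hux
      have hF := fuses_of_family S _ hfam B hBS u⁻¹ hBg
      have := fuses_transfer W hW S hloc _ u⁻¹ hF x⁻¹ (Subgroup.inv_mem _ (Subgroup.mem_zpowers x))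
      rw [inv_inv, inv_inv] at this
      have h3 : ⁅x, u⁆ = x * (u * x⁻¹ * u⁻¹) := by rw [commutatorElement_def]; group
      show ⁅x, u⁆ ∈ _
      rw [h3]
      exact this
    · exact inf_le_inf_left _ (Subgroup.commutator_mono le_top le_top)

end Cfsg.Agent.S1962
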