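import Cfsg.Statements.S1960
import Cfsg.Agent.S1962

set_option autoImplicit false
open Cfsg

namespace Cfsg.Agent.S1960


open Cfsg.Agent.Lib.Helper4
open scoped commutatorElement

section
variable {G : Type*} [Group G] {p : ℕ}

/-- The derived group of the `W`-local subgroup inside `H`, intersected with `T`. -/
abbrev term (W : Subgroup G → Subgroup G) (H T : Subgroup G) : Subgroup G :=
  T ⊓ ⁅H ⊓ Subgroup.normalizer ((W T : Subgroup G) : Set G), H ⊓ Subgroup.normalizer ((W T : Subgroup G) : Set G)⁆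

theorem familyTransferAt [Finite G] [Fact p.Prime] (𝓦 : Set (Subgroup G → Subgroup G))
    (h𝓦 : ∀ W ∈ 𝓦, IsConjugacyFunctor p W) (H T₁ : Subgroup G) (hT₁H : T₁ ≤ H) (hT₁p : IsPGroup p T₁)
    (hidx : ¬ p ∣ T₁.relIndex H) (hc : FamilyControlsTransferIn p 𝓦 H) :
    T₁ ⊓ ⁅H, H⁆ = ⨆ W ∈ 𝓦, term W H T₁ := by
  obtain ⟨T₀, hT₀H, hT₀p, hT₀idx, heq⟩ := hc
  obtain ⟨k, hkH, hk⟩ := Cfsg.Agent.S1962.exists_cj_eq_of_sylow_rel H T₀ T₁ hT₀H hT₀p hT₀idx hT₁H hT₁p hidx
  have hk' : cj k⁻¹ T₀ = T₁ := by rw [← hk, Cfsg.Agent.S1962.cj_inv_cj]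
  have hH : cj k⁻¹ H = H := Cfsg.Agent.S1961.cj_self_of_mem (H.inv_mem hkH)
  have h1 := congrArg (cj k⁻¹) heq
  rw [cj_inf, Cfsg.Agent.S1962.cj_commutator, hk', hH] at h1
  rw [h1, cj_def, Subgroup.map_iSup]
  apply iSup_congr
  intro W
  rw [Subgroup.map_iSup]
  apply iSup_congr
  intro hW
  have hWeq : cj k⁻¹ (W T₀) = W T₁ := by
    rw [← hk']; exact ((h𝓦 W hW T₀ hT₀p).2.2 k⁻¹).symm
  have hN : cj k⁻¹ (Subgroup.normalizer ((W T₀ : Subgroup G) : Set G)) =
      Subgroup.normalizer ((W T₁ : Subgroup G) : Set G) := by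
    rw [← cj_normalizer, hWeq]
  show cj k⁻¹ (T₀ ⊓ ⁅H ⊓ Subgroup.normalizer ((W T₀ : Subgroup G) : Set G),
    H ⊓ Subgroup.normalizer ((W T₀ : Subgroup G) : Set G)⁆) = term W H T₁
  rw [cj_inf, Cfsg.Agent.S1962.cj_commutator, cj_inf, hk', hH, hN]

/-- The family of subgroups of `S` whose normalizer in `S` is Sylow in the full normalizer. -/
def sylFam (p : ℕ) (S : Subgroup G) : Set (Subgroup G) :=
  {U | U ≤ S ∧ ¬ p ∣ (S ⊓ Subgroup.normalizer (U : Set G)).relIndex (Subgroup.normalizer (U : Set G))}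

theorem sylFam_hyp [Finite G] [Fact p.Prime] (S : Sylow p G) :
    ∀ T : Subgroup G, T ≤ (S : Subgroup G) → ∃ U ∈ sylFam p (S : Subgroup G), U ≤ (S : Subgroup G) ∧
      (∃ g : G, cj g T = U) ∧
      ¬ p ∣ ((S : Subgroup G) ⊓ Subgroup.normalizer ((U : Subgroup G) : Set G)).relIndex
        (Subgroup.normalizer ((U : Subgroup G) : Set G)) := by
  intro T hT
  obtain ⟨g, hg1, hg2⟩ := exists_cj_sylow_normalizer p S T T Subgroup.le_normalizer (S.2.to_le hT)
  exact ⟨cj g T, ⟨hg1, hg2⟩, hg1, ⟨g, rfl⟩, hg2⟩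

theorem ncard_rc (y : G) (A : Set G) : (rc y A).ncard = A.ncard := by
  apply Set.ncard_image_of_injective
  intro a b hab
  simpa using hab

theorem fuses_transfer_gen [Finite G] (𝓕 : Set (Subgroup G)) (D : Subgroup G)
    (A : Set G) (g : G) (hF : Fuses 𝓕 A g) (m : ℕ) (hm : m ≤ A.ncard)
    (hD : ∀ T ∈ 𝓕, m ≤ Nat.card T →
      T ⊓ ⁅Subgroup.normalizer (T : Set G), Subgroup.normalizer (T : Set G)⁆ ≤ D) :
    ∀ a ∈ A, a⁻¹ * (g⁻¹ * a * g) ∈ D := by
  induction hF with
  | nil A => intro a _; simp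
  | cons A T y g' hT hy hAT _ ih =>
    intro a ha
    have haT : a ∈ T := hAT ha
    have ha' : y⁻¹ * a * y ∈ rc y A := ⟨a, ha, rfl⟩
    have ha'T : y⁻¹ * a * y ∈ T := by
      have := (Subgroup.mem_normalizer_iff.1 (inv_mem hy) a).1 haT
      simpa using this
    have h1 := ih (by rw [ncard_rc]; exact hm) _ ha'
    have h2 : a⁻¹ * ((y * g')⁻¹ * a * (y * g')) =
        (a⁻¹ * (y⁻¹ * a * y)) * ((y⁻¹ * a * y)⁻¹ * (g'⁻¹ * (y⁻¹ * a * y) * g')) := by group
    rw [h2]
    refine Subgroup.mul_mem _ ?_ h1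
    have hcard : m ≤ Nat.card T := by
      have h3 : A.ncard ≤ (T : Set G).ncard := Set.ncard_le_ncard hAT (Set.toFinite _)
      have h4 : (T : Set G).ncard = Nat.card T := (Nat.card_coe_set_eq _).symm
      omega
    apply hD T hT hcard
    refine ⟨T.mul_mem (T.inv_mem haT) ha'T, ?_⟩
    have h3 : a⁻¹ * (y⁻¹ * a * y) = ⁅a⁻¹, y⁻¹⁆ := by
      rw [commutatorElement_def]; group
    rw [h3]
    exact Subgroup.commutator_mem_commutator (Subgroup.le_normalizer (T.inv_mem haT)) (inv_mem hy)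

/-- The target subgroup. -/
abbrev targetD (𝓦 : Set (Subgroup G → Subgroup G)) (S : Subgroup G) : Subgroup G :=
  ⨆ W ∈ 𝓦, S ⊓ ⁅Subgroup.normalizer ((W S : Subgroup G) : Set G), Subgroup.normalizer ((W S : Subgroup G) : Set G)⁆

theorem claim [Finite G] [Fact p.Prime] (S : Sylow p G) (𝓦 : Set (Subgroup G → Subgroup G))
    (h𝓦 : ∀ W ∈ 𝓦, IsConjugacyFunctor p W)
    (hloc : ∀ T : Subgroup G, T ≤ (S : Subgroup G) → T ≠ ⊥ →
      ¬ p ∣ ((S : Subgroup G) ⊓ Subgroup.normalizer ((T : Subgroup G) : Set G)).relIndex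
        (Subgroup.normalizer ((T : Subgroup G) : Set G)) →
      FamilyControlsTransferIn p 𝓦 (Subgroup.normalizer ((T : Subgroup G) : Set G))) :
    ∀ (d : ℕ) (T : Subgroup G), T ∈ sylFam p (S : Subgroup G) → T ≠ ⊥ →
      Nat.card (S : Subgroup G) - Nat.card ((S : Subgroup G) ⊓ Subgroup.normalizer (T : Set G) : Subgroup G) = d →
      ((S : Subgroup G) ⊓ Subgroup.normalizer (T : Set G)) ⊓
          ⁅Subgroup.normalizer (T : Set G), Subgroup.normalizer (T : Set G)⁆ ≤ targetD 𝓦 (S : Subgroup G) := by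
  intro d
  induction d using Nat.strong_induction_on with
  | _ d ih =>
    intro T hT𝓕 hT1 hcard
    set S₀ : Subgroup G := (S : Subgroup G) ⊓ Subgroup.normalizer (T : Set G) with hS₀
    have hS₀S : S₀ ≤ (S : Subgroup G) := inf_le_left
    have hS₀p : IsPGroup p S₀ := S.2.to_le hS₀S
    have hcardS : ∀ M : Subgroup G, M ≤ (S : Subgroup G) → Nat.card M ≤ Nat.card (S : Subgroup G) :=
      fun M hM => Subgroup.card_le_of_le hM
    have htr := familyTransferAt 𝓦 h𝓦 _ S₀ inf_le_right hS₀p hT𝓕.2 (hloc T hT𝓕.1 hT1 hT𝓕.2)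
    rw [htr]
    apply iSup₂_le
    intro W hW
    have hWf := h𝓦 W hW
    by_cases heq : S₀ = (S : Subgroup G)
    · refine le_trans ?_ (le_iSup₂ (f := fun W (_ : W ∈ 𝓦) => (S : Subgroup G) ⊓
        ⁅Subgroup.normalizer ((W (S : Subgroup G) : Subgroup G) : Set G),
          Subgroup.normalizer ((W (S : Subgroup G) : Subgroup G) : Set G)⁆) W hW)
      show S₀ ⊓ ⁅Subgroup.normalizer (T : Set G) ⊓ Subgroup.normalizer ((W S₀ : Subgroup G) : Set G),
        Subgroup.normalizer (T : Set G) ⊓ Subgroup.normalizer ((W S₀ : Subgroup G) : Set G)⁆ ≤ _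
      rw [heq]
      exact inf_le_inf_left _ (Subgroup.commutator_mono inf_le_right inf_le_right)
    · set T' : Subgroup G := W S₀ with hT'
      have hTS₀ : T ≤ S₀ := le_inf hT𝓕.1 Subgroup.le_normalizer
      have hS₀ne : S₀ ≠ ⊥ := fun h0 => hT1 (le_bot_iff.1 (h0 ▸ hTS₀))
      have hT'ne : T' ≠ ⊥ := (hWf S₀ hS₀p).2.1 hS₀ne
      have hT'S₀ : T' ≤ S₀ := (hWf S₀ hS₀p).1
      set S₁ : Subgroup G := (S : Subgroup G) ⊓ Subgroup.normalizer (T' : Set G) with hS₁
      have hlt0 : S₀ < (S : Subgroup G) ⊓ Subgroup.normalizer (S₀ : Set G) :=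
        lt_inf_normalizer_of_lt (S : Subgroup G) S.2 S₀ (lt_of_le_of_ne hS₀S heq)
      have hle1 : (S : Subgroup G) ⊓ Subgroup.normalizer (S₀ : Set G) ≤ S₁ := by
        intro x hx
        refine ⟨hx.1, ?_⟩
        show x ∈ Subgroup.normalizer ((T' : Subgroup G) : Set G)
        rw [Subgroup.mem_normalizer_iff_map_conj_eq]
        have h1 := (hWf S₀ hS₀p).2.2 x
        have h2 : cj x S₀ = S₀ := Subgroup.mem_normalizer_iff_map_conj_eq.1 hx.2
        show cj x (W S₀) = W S₀
        rw [cj_def, ← h1]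
        congr 1
      have hlt1 : S₀ < S₁ := lt_of_lt_of_le hlt0 hle1
      have hcardlt : Nat.card S₀ < Nat.card S₁ := by
        by_contra hnot
        push Not at hnot
        exact hlt1.ne (Subgroup.eq_of_le_of_card_ge hlt1.le hnot)
      have hS₁S : S₁ ≤ (S : Subgroup G) := inf_le_left
      have hS₁p : IsPGroup p S₁ := S.2.to_le hS₁S
      -- IH in convenient form
      have hIH : ∀ T'' : Subgroup G, T'' ∈ sylFam p (S : Subgroup G) → T'' ≠ ⊥ →
          Nat.card S₀ < Nat.card ((S : Subgroup G) ⊓ Subgroup.normalizer (T'' : Set G) : Subgroup G) →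
          ((S : Subgroup G) ⊓ Subgroup.normalizer (T'' : Set G)) ⊓
            ⁅Subgroup.normalizer (T'' : Set G), Subgroup.normalizer (T'' : Set G)⁆ ≤ targetD 𝓦 (S : Subgroup G) := by
        intro T'' hT'' hT''1 hlt
        have h1 := hcardS _ (inf_le_left : (S : Subgroup G) ⊓ Subgroup.normalizer (T'' : Set G) ≤ (S : Subgroup G))
        have h2 := hcardS _ hS₀S
        exact ih _ (by omega) T'' hT'' hT''1 rfl
      -- first reduce to S₁ ⊓ N(T')'
      refine le_trans (inf_le_inf hlt1.le (Subgroup.commutator_mono inf_le_right inf_le_right)) ?_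
      -- choose u
      obtain ⟨u, hu1, hu2⟩ := exists_cj_sylow_normalizer p S T' S₁ inf_le_right hS₁p
      set T'' : Subgroup G := cj u T' with hT''
      have hT'S₁ : T' ≤ S₁ := hT'S₀.trans hlt1.le
      have hT''S : T'' ≤ (S : Subgroup G) := (cj_mono u hT'S₁).trans hu1
      have hT''𝓕 : T'' ∈ sylFam p (S : Subgroup G) := ⟨hT''S, hu2⟩
      have hT''ne : T'' ≠ ⊥ := by
        intro h0
        apply hT'ne
        have : cj u⁻¹ T'' = T' := Cfsg.Agent.S1962.cj_inv_cj u T'
        rw [← this, h0]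
        simp [cj_def]
      have hS₁T'' : cj u S₁ ≤ (S : Subgroup G) ⊓ Subgroup.normalizer (T'' : Set G) := by
        refine le_inf hu1 ?_
        rw [hT'', cj_normalizer]
        exact cj_mono u inf_le_right
      have hcard3 : Nat.card S₀ < Nat.card ((S : Subgroup G) ⊓ Subgroup.normalizer (T'' : Set G) : Subgroup G) := by
        have h1 : Nat.card (cj u S₁) ≤ Nat.card ((S : Subgroup G) ⊓ Subgroup.normalizer (T'' : Set G) : Subgroup G) :=
          Subgroup.card_le_of_le hS₁T''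
        rw [card_cj] at h1
        omega
      have hD'' := hIH T'' hT''𝓕 hT''ne hcard3
      -- fusion of S₁ by u⁻¹
      have hBg : cj (u⁻¹)⁻¹ S₁ ≤ (S : Subgroup G) := by rw [inv_inv]; exact hu1
      have hF := fuses_of_family S _ (sylFam_hyp S) S₁ hS₁S u⁻¹ hBg
      have hgen := fuses_transfer_gen (sylFam p (S : Subgroup G)) (targetD 𝓦 (S : Subgroup G)) _ u⁻¹ hF
        (Nat.card S₁) (by rw [← Nat.card_coe_set_eq]; exact le_rfl) (by
          intro U hU hUcard
          have hU1 : U ≠ ⊥ := by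
            intro h0
            rw [h0, Subgroup.card_bot] at hUcard
            have : 0 < Nat.card S₀ := Nat.card_pos
            omega
          have hUN : U ≤ (S : Subgroup G) ⊓ Subgroup.normalizer (U : Set G) := le_inf hU.1 Subgroup.le_normalizer
          have hUc : Nat.card U ≤ Nat.card ((S : Subgroup G) ⊓ Subgroup.normalizer (U : Set G) : Subgroup G) :=
            Subgroup.card_le_of_le hUN
          exact le_trans (inf_le_inf_right _ hUN) (hIH U hU hU1 (by omega)))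
      intro x hx
      have hx1 : x ∈ S₁ := hx.1
      have h1 := hgen x hx1
      rw [inv_inv] at h1
      -- u x u⁻¹ ∈ D
      have h2 : u * x * u⁻¹ ∈ targetD 𝓦 (S : Subgroup G) := by
        apply hD''
        refine ⟨hS₁T'' (conj_mem_cj u S₁ hx1), ?_⟩
        have : u * x * u⁻¹ ∈ cj u ⁅Subgroup.normalizer (T' : Set G), Subgroup.normalizer (T' : Set G)⁆ :=
          conj_mem_cj u _ hx.2
        rw [Cfsg.Agent.S1962.cj_commutator, ← cj_normalizer] at this
        exact this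
      have h3 : x = (u * x * u⁻¹) * (x⁻¹ * (u * x * u⁻¹))⁻¹ := by group
      rw [h3]
      exact Subgroup.mul_mem _ h2 (Subgroup.inv_mem _ h1)

end

/-- Let p be a prime, G a finite group with Sylow p-subgroup S, and 𝓦 a set of conjugacy functors for p on G. Suppose that 𝓦 controls transfer in N_G(T) for every nonidentity subgroup T of S for which N_S(T) is a Sylow p-subgroup of N_G(T): for a Sylow p-subgroup T' of N_G(T), the intersection of T' with the derived subgroup of N_G(T) is generated by its intersections with the derived subgroups of the normalizers in N_G(T) of the W(T'), W ∈ 𝓦. Then 𝓦 controls transfer in G: S ∩ G' is generated by the subgroups S ∩ (N_G(W(S)))', W ∈ 𝓦. -/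
theorem result {G : Type*} [Group G] [Finite G] {p : ℕ} [Fact p.Prime] (S : Sylow p G) (𝓦 : Set (Subgroup G → Subgroup G)) (h𝓦 : ∀ W ∈ 𝓦, Cfsg.IsConjugacyFunctor p W) (hloc : ∀ T : Subgroup G, T ≤ (S : Subgroup G) → T ≠ ⊥ → ¬ p ∣ ((S : Subgroup G) ⊓ Subgroup.normalizer ((T : Subgroup G) : Set G)).relIndex (Subgroup.normalizer ((T : Subgroup G) : Set G)) → Cfsg.FamilyControlsTransferIn p 𝓦 (Subgroup.normalizer ((T : Subgroup G) : Set G))) : Cfsg.FamilyControlsTransferIn p 𝓦 ⊤ := by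
  refine ⟨(S : Subgroup G), le_top, S.2, ?_, ?_⟩
  · rw [Subgroup.relIndex_top_right]
    exact S.not_dvd_index
  · have hclaim := claim S 𝓦 h𝓦 hloc
    have hrw : (⨆ W ∈ 𝓦, (S : Subgroup G) ⊓ ⁅(⊤ : Subgroup G) ⊓ Subgroup.normalizer ((W (S : Subgroup G) : Subgroup G) : Set G),
        (⊤ : Subgroup G) ⊓ Subgroup.normalizer ((W (S : Subgroup G) : Subgroup G) : Set G)⁆) = targetD 𝓦 (S : Subgroup G) := by
      simp only [top_inf_eq]
    rw [hrw]
    apply le_antisymm
    · have hfocal : (S : Subgroup G) ⊓ ⁅(⊤ : Subgroup G), ⊤⁆ = (S : Subgroup G).focalSubgroup := by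
        rw [inf_comm]
        exact Subgroup.commutator_inf_eq_focalSubgroup S
      rw [hfocal, Subgroup.focalSubgroup_def, Subgroup.closure_le]
      rintro g ⟨hgS, x, hxS, u, rfl⟩
      have hux : u * x * u⁻¹ ∈ (S : Subgroup G) := by
        have h1 : x⁻¹ * ⁅x, u⁆ ∈ (S : Subgroup G) := Subgroup.mul_mem _ (Subgroup.inv_mem _ hxS) hgS
        have h2 : (x⁻¹ * ⁅x, u⁆)⁻¹ = u * x * u⁻¹ := by rw [commutatorElement_def]; group
        rw [← h2]; exact Subgroup.inv_mem _ h1
      set B := Subgroup.zpowers x with hB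
      have hBS : B ≤ (S : Subgroup G) := by
        rw [hB, Subgroup.zpowers_le]; exact hxS
      have hBg : cj (u⁻¹)⁻¹ B ≤ (S : Subgroup G) := by
        rw [inv_inv, cj_def, hB, MonoidHom.map_zpowers, Subgroup.zpowers_le]
        simpa [MulAut.conj_apply] using hux
      have hF := fuses_of_family S _ (sylFam_hyp S) B hBS u⁻¹ hBg
      have := fuses_transfer_gen (sylFam p (S : Subgroup G)) (targetD 𝓦 (S : Subgroup G)) _ u⁻¹ hF 0 (Nat.zero_le _) (by
        intro U hU _
        by_cases hU1 : U = ⊥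
        · rw [hU1]; simp
        · have hUN : U ≤ (S : Subgroup G) ⊓ Subgroup.normalizer (U : Set G) := le_inf hU.1 Subgroup.le_normalizer
          exact le_trans (inf_le_inf_right _ hUN) (hclaim _ U hU hU1 rfl)) x⁻¹
        (Subgroup.inv_mem _ (Subgroup.mem_zpowers x))
      rw [inv_inv, inv_inv] at this
      have h3 : ⁅x, u⁆ = x * (u * x⁻¹ * u⁻¹) := by rw [commutatorElement_def]; group
      show ⁅x, u⁆ ∈ _
      rw [h3]
      exact this
    · apply iSup₂_le
      intro W _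
      exact inf_le_inf_left _ (Subgroup.commutator_mono le_top le_top)

end Cfsg.Agent.S1960
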