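import Cfsg.Statements.S1959
import Cfsg.Agent.S1960
import Cfsg.Agent.Lib.Helper4.LChain

set_option autoImplicit false
open Cfsg

namespace Cfsg.Agent.S1959


open Cfsg.Agent.Lib.Helper4

section
variable {G : Type*} [Group G] {p : ℕ}

/-- The allowed steps: elements of `H` normalizing `W T` for some `W ∈ 𝓦`. -/
def stepSet (𝓦 : Set (Subgroup G → Subgroup G)) (H T : Subgroup G) : Set G :=
  {e | ∃ W ∈ 𝓦, e ∈ H ⊓ Subgroup.normalizer ((W T : Subgroup G) : Set G)}

theorem stepSet_inv (𝓦 : Set (Subgroup G → Subgroup G)) (H T : Subgroup G) :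
    ∀ e ∈ stepSet 𝓦 H T, e⁻¹ ∈ stepSet 𝓦 H T := by
  rintro e ⟨W, hW, he⟩
  exact ⟨W, hW, Subgroup.inv_mem _ he⟩

theorem lc_subgroup (g : G) (B : Subgroup G) : lc g (B : Set G) = ((cj g B : Subgroup G) : Set G) := by
  ext y
  rw [mem_lc_iff, SetLike.mem_coe, SetLike.mem_coe, mem_cj_iff]

theorem rc_eq_lc_inv (y : G) (A : Set G) : rc y A = lc y⁻¹ A := by
  ext z
  rw [mem_rc_iff, mem_lc_iff, inv_inv]

theorem lc_inv_lc (k : G) (A : Set G) : lc k⁻¹ (lc k A) = A := by
  rw [← lc_mul, inv_mul_cancel, lc_one]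

theorem localGood [Finite G] [Fact p.Prime] (𝓦 : Set (Subgroup G → Subgroup G))
    (h𝓦 : ∀ W ∈ 𝓦, IsConjugacyFunctor p W) (H T₁ : Subgroup G) (hT₁H : T₁ ≤ H) (hT₁p : IsPGroup p T₁)
    (hidx : ¬ p ∣ T₁.relIndex H) (hc : FamilyControlsStrongFusionIn p 𝓦 H)
    (A : Set G) (h : G) (hh : h ∈ H) (hA : A ⊆ (T₁ : Set G)) (hAh : lc h A ⊆ (T₁ : Set G)) :
    GoodPair (stepSet 𝓦 H T₁) (T₁ : Set G) A h := by
  obtain ⟨T₀, hT₀H, hT₀p, hT₀idx, hctl⟩ := hc
  obtain ⟨k, hkH, hk⟩ := Cfsg.Agent.S1962.exists_cj_eq_of_sylow_rel H T₀ T₁ hT₀H hT₀p hT₀idx hT₁H hT₁p hidx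
  have hk' : cj k⁻¹ T₀ = T₁ := by rw [← hk, Cfsg.Agent.S1962.cj_inv_cj]
  have hA' : lc k A ⊆ (T₀ : Set G) := by
    rw [← hk, ← lc_subgroup]; exact lc_mono k hA
  have hh' : k * h * k⁻¹ ∈ H := H.mul_mem (H.mul_mem hkH hh) (H.inv_mem hkH)
  have hAh' : (fun a => (k * h * k⁻¹) * a * (k * h * k⁻¹)⁻¹) '' (lc k A) ⊆ (T₀ : Set G) := by
    have h1 : lc (k * h * k⁻¹) (lc k A) = lc k (lc h A) := by
      rw [← lc_mul, ← lc_mul]
      congr 1
      group
    show lc (k * h * k⁻¹) (lc k A) ⊆ (T₀ : Set G)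
    rw [h1, ← hk, ← lc_subgroup]
    exact lc_mono k hAh
  obtain ⟨n, c, hc0, hcs, hci, hcl⟩ := hctl (lc k A) (k * h * k⁻¹) hh' hA' hAh'
  have hg0 : GoodPair (stepSet 𝓦 H T₀) (T₀ : Set G) (lc k A) (k * h * k⁻¹) :=
    goodPair_of_finChain n c hc0 hcs hci hcl
  have hg1 := hg0.conj k⁻¹
  rw [lc_inv_lc, lc_subgroup, hk'] at hg1
  have hh2 : k⁻¹ * (k * h * k⁻¹) * k⁻¹⁻¹ = h := by group
  rw [hh2] at hg1
  refine hg1.mono_NT ?_ le_rfl
  rintro _ ⟨e, ⟨W, hW, he⟩, rfl⟩
  refine ⟨W, hW, ?_⟩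
  have hWeq : cj k⁻¹ (W T₀) = W T₁ := by
    rw [← hk']; exact ((h𝓦 W hW T₀ hT₀p).2.2 k⁻¹).symm
  refine ⟨H.mul_mem (H.mul_mem (H.inv_mem hkH) he.1) (by simpa using hkH), ?_⟩
  have h1 : k⁻¹ * e * k⁻¹⁻¹ ∈ cj k⁻¹ (Subgroup.normalizer ((W T₀ : Subgroup G) : Set G)) :=
    conj_mem_cj k⁻¹ _ he.2
  rw [← cj_normalizer, hWeq] at h1
  exact h1

theorem fuses_good [Finite G] (𝓕 : Set (Subgroup G)) (N : Set G) (S : Subgroup G)
    (h𝓕S : ∀ T ∈ 𝓕, T ≤ S) (A : Set G) (g : G) (hF : Fuses 𝓕 A g) (hAS : A ⊆ (S : Set G))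
    (m : ℕ) (hm : m ≤ A.ncard)
    (hD : ∀ T ∈ 𝓕, m ≤ Nat.card T → ∀ (A' : Set G) (x : G), x ∈ Subgroup.normalizer (T : Set G) →
      A' ⊆ (T : Set G) → GoodPair N (S : Set G) A' x) :
    GoodPair N (S : Set G) A g⁻¹ := by
  induction hF with
  | nil A => rw [inv_one]; exact GoodPair.one hAS
  | cons A T y g' hT hy hAT _ ih =>
    have hcard : m ≤ Nat.card T := by
      have h3 : A.ncard ≤ (T : Set G).ncard := Set.ncard_le_ncard hAT (Set.toFinite _)
      have h4 : (T : Set G).ncard = Nat.card T := (Nat.card_coe_set_eq _).symm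
      omega
    have hstep := hD T hT hcard A y⁻¹ (inv_mem hy) hAT
    have hsub : rc y A ⊆ (S : Set G) := by
      have h1 : rc y A ⊆ rc y (T : Set G) := rc_mono y hAT
      rw [rc_normalizer hy] at h1
      exact h1.trans (h𝓕S T hT)
    have hIH := ih hsub (by rw [Cfsg.Agent.S1960.ncard_rc]; exact hm)
    rw [rc_eq_lc_inv] at hIH
    rw [mul_inv_rev]
    exact hstep.trans hIH

theorem sing [Finite G] [Fact p.Prime] (S : Sylow p G) (𝓦 : Set (Subgroup G → Subgroup G))
    (h𝓦 : ∀ W ∈ 𝓦, IsConjugacyFunctor p W)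
    (hloc : ∀ T : Subgroup G, T ≤ (S : Subgroup G) → T ≠ ⊥ →
      ¬ p ∣ ((S : Subgroup G) ⊓ Subgroup.normalizer ((T : Subgroup G) : Set G)).relIndex
        (Subgroup.normalizer ((T : Subgroup G) : Set G)) →
      FamilyControlsStrongFusionIn p 𝓦 (Subgroup.normalizer ((T : Subgroup G) : Set G))) :
    ∀ (d : ℕ) (T : Subgroup G), T ∈ Cfsg.Agent.S1960.sylFam p (S : Subgroup G) → T ≠ ⊥ →
      Nat.card (S : Subgroup G) - Nat.card ((S : Subgroup G) ⊓ Subgroup.normalizer (T : Set G) : Subgroup G) = d →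
      ∀ (A : Set G) (x : G), x ∈ Subgroup.normalizer (T : Set G) →
        A ⊆ (((S : Subgroup G) ⊓ Subgroup.normalizer (T : Set G) : Subgroup G) : Set G) →
        lc x A ⊆ (((S : Subgroup G) ⊓ Subgroup.normalizer (T : Set G) : Subgroup G) : Set G) →
        GoodPair (stepSet 𝓦 ⊤ (S : Subgroup G)) ((S : Subgroup G) : Set G) A x := by
  intro d
  induction d using Nat.strong_induction_on with
  | _ d ih =>
    intro T hT𝓕 hT1 hcard A x hx hA hAx
    set S₀ : Subgroup G := (S : Subgroup G) ⊓ Subgroup.normalizer (T : Set G) with hS₀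
    have hS₀S : S₀ ≤ (S : Subgroup G) := inf_le_left
    have hS₀p : IsPGroup p S₀ := S.2.to_le hS₀S
    have hcardS : ∀ M : Subgroup G, M ≤ (S : Subgroup G) → Nat.card M ≤ Nat.card (S : Subgroup G) :=
      fun M hM => Subgroup.card_le_of_le hM
    obtain ⟨c, hc, hch⟩ := localGood 𝓦 h𝓦 _ S₀ inf_le_right hS₀p hT𝓕.2 (hloc T hT𝓕.1 hT1 hT𝓕.2) A x hx hA hAx
    -- IH in convenient form
    have hIH : ∀ T'' : Subgroup G, T'' ∈ Cfsg.Agent.S1960.sylFam p (S : Subgroup G) → T'' ≠ ⊥ →
        Nat.card S₀ < Nat.card ((S : Subgroup G) ⊓ Subgroup.normalizer (T'' : Set G) : Subgroup G) →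
        ∀ (A : Set G) (x : G), x ∈ Subgroup.normalizer (T'' : Set G) →
          A ⊆ (((S : Subgroup G) ⊓ Subgroup.normalizer (T'' : Set G) : Subgroup G) : Set G) →
          lc x A ⊆ (((S : Subgroup G) ⊓ Subgroup.normalizer (T'' : Set G) : Subgroup G) : Set G) →
          GoodPair (stepSet 𝓦 ⊤ (S : Subgroup G)) ((S : Subgroup G) : Set G) A x := by
      intro T'' hT'' hT''1 hlt
      have h1 := hcardS _ (inf_le_left : (S : Subgroup G) ⊓ Subgroup.normalizer (T'' : Set G) ≤ (S : Subgroup G))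
      have h2 := hcardS _ hS₀S
      exact ih _ (by omega) T'' hT'' hT''1 rfl
    -- the step lemma
    have hstep : ∀ (B : Set G) (e : G), e ∈ stepSet 𝓦 (Subgroup.normalizer (T : Set G)) S₀ →
        B ⊆ (S₀ : Set G) → lc e B ⊆ (S₀ : Set G) →
        GoodPair (stepSet 𝓦 ⊤ (S : Subgroup G)) ((S : Subgroup G) : Set G) B e := by
      rintro B e ⟨W, hW, he⟩ hB hBe
      have hWf := h𝓦 W hW
      by_cases heq : S₀ = (S : Subgroup G)
      · refine ⟨e, LReach.single (fun b hb => hS₀S (hB hb)) ⟨W, hW, ⟨Subgroup.mem_top _, ?_⟩⟩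
          (fun b hb => hS₀S (hBe hb)), fun _ _ => rfl⟩
        have := he.2
        rwa [heq] at this
      · set T' : Subgroup G := W S₀ with hT'
        have hTS₀ : T ≤ S₀ := le_inf hT𝓕.1 Subgroup.le_normalizer
        have hS₀ne : S₀ ≠ ⊥ := fun h0 => hT1 (le_bot_iff.1 (h0 ▸ hTS₀))
        have hT'ne : T' ≠ ⊥ := (hWf S₀ hS₀p).2.1 hS₀ne
        have hT'S₀ : T' ≤ S₀ := (hWf S₀ hS₀p).1
        set S₁ : Subgroup G := (S : Subgroup G) ⊓ Subgroup.normalizer (T' : Set G) with hS₁
        have hlt0 : S₀ < (S : Subgroup G) ⊓ Subgroup.normalizer (S₀ : Set G) :=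
          lt_inf_normalizer_of_lt (S : Subgroup G) S.2 S₀ (lt_of_le_of_ne hS₀S heq)
        have hle1 : (S : Subgroup G) ⊓ Subgroup.normalizer (S₀ : Set G) ≤ S₁ := by
          intro z hz
          refine ⟨hz.1, ?_⟩
          show z ∈ Subgroup.normalizer ((T' : Subgroup G) : Set G)
          rw [Subgroup.mem_normalizer_iff_map_conj_eq]
          have h1 := (hWf S₀ hS₀p).2.2 z
          have h2 : cj z S₀ = S₀ := Subgroup.mem_normalizer_iff_map_conj_eq.1 hz.2
          show cj z (W S₀) = W S₀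
          rw [cj_def, ← h1]
          congr 1
        have hlt1 : S₀ < S₁ := lt_of_lt_of_le hlt0 hle1
        have hcardlt : Nat.card S₀ < Nat.card S₁ := by
          by_contra hnot
          push Not at hnot
          exact hlt1.ne (Subgroup.eq_of_le_of_card_ge hlt1.le hnot)
        have hS₁S : S₁ ≤ (S : Subgroup G) := inf_le_left
        have hS₁p : IsPGroup p S₁ := S.2.to_le hS₁S
        obtain ⟨u, hu1, hu2⟩ := exists_cj_sylow_normalizer p S T' S₁ inf_le_right hS₁p
        set T'' : Subgroup G := cj u T' with hT''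
        have hT'S₁ : T' ≤ S₁ := hT'S₀.trans hlt1.le
        have hT''S : T'' ≤ (S : Subgroup G) := (cj_mono u hT'S₁).trans hu1
        have hT''𝓕 : T'' ∈ Cfsg.Agent.S1960.sylFam p (S : Subgroup G) := ⟨hT''S, hu2⟩
        have hT''ne : T'' ≠ ⊥ := by
          intro h0
          apply hT'ne
          have : cj u⁻¹ T'' = T' := Cfsg.Agent.S1962.cj_inv_cj u T'
          rw [← this, h0]
          simp
        set S₃ : Subgroup G := (S : Subgroup G) ⊓ Subgroup.normalizer (T'' : Set G) with hS₃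
        have hS₁T'' : cj u S₁ ≤ S₃ := by
          refine le_inf hu1 ?_
          rw [hT'', cj_normalizer]
          exact cj_mono u inf_le_right
        have hcard3 : Nat.card S₀ < Nat.card S₃ := by
          have h1 : Nat.card (cj u S₁) ≤ Nat.card S₃ := Subgroup.card_le_of_le hS₁T''
          rw [card_cj] at h1
          omega
        -- (S₁, u) is good
        have hBg : cj (u⁻¹)⁻¹ S₁ ≤ (S : Subgroup G) := by rw [inv_inv]; exact hu1
        have hF := fuses_of_family S _ (Cfsg.Agent.S1960.sylFam_hyp S) S₁ hS₁S u⁻¹ hBg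
        have hgu := fuses_good (Cfsg.Agent.S1960.sylFam p (S : Subgroup G)) (stepSet 𝓦 ⊤ (S : Subgroup G))
          (S : Subgroup G) (fun U hU => hU.1) _ u⁻¹ hF hS₁S (Nat.card S₁)
          (by rw [← Nat.card_coe_set_eq]; exact le_rfl) (by
            intro U hU hUcard A' z hz hA'
            have hU1 : U ≠ ⊥ := by
              intro h0
              rw [h0, Subgroup.card_bot] at hUcard
              have : 0 < Nat.card S₀ := Nat.card_pos
              omega
            have hUN : U ≤ (S : Subgroup G) ⊓ Subgroup.normalizer (U : Set G) := le_inf hU.1 Subgroup.le_normalizer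
            have hUc : Nat.card U ≤ Nat.card ((S : Subgroup G) ⊓ Subgroup.normalizer (U : Set G) : Subgroup G) :=
              Subgroup.card_le_of_le hUN
            refine hIH U hU hU1 (by omega) A' z hz (fun a ha => hUN (hA' ha)) ?_
            rintro _ ⟨a, ha, rfl⟩
            apply hUN
            exact (Subgroup.mem_normalizer_iff.1 hz a).1 (hA' ha))
        rw [inv_inv] at hgu
        -- now assemble
        have hBS₁ : B ⊆ (S₁ : Set G) := fun b hb => hlt1.le (hB hb)
        have hg1 : GoodPair (stepSet 𝓦 ⊤ (S : Subgroup G)) ((S : Subgroup G) : Set G) B u := hgu.mono hBS₁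
        -- middle
        have he' : u * e * u⁻¹ ∈ Subgroup.normalizer (T'' : Set G) := by
          have h1 : u * e * u⁻¹ ∈ cj u (Subgroup.normalizer ((T' : Subgroup G) : Set G)) :=
            conj_mem_cj u _ he.2
          rw [← cj_normalizer] at h1
          exact h1
        have hB' : lc u B ⊆ (S₃ : Set G) := by
          intro z hz
          apply hS₁T''
          have : lc u B ⊆ lc u (S₁ : Set G) := lc_mono u hBS₁
          have h2 := this hz
          rwa [lc_subgroup] at h2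
        have hBe' : lc (u * e * u⁻¹) (lc u B) ⊆ (S₃ : Set G) := by
          have h1 : lc (u * e * u⁻¹) (lc u B) = lc u (lc e B) := by
            rw [← lc_mul, ← lc_mul]
            congr 1
            group
          rw [h1]
          intro z hz
          apply hS₁T''
          have : lc u (lc e B) ⊆ lc u (S₁ : Set G) := lc_mono u (fun b hb => hlt1.le (hBe hb))
          have h2 := this hz
          rwa [lc_subgroup] at h2
        have hg2 := hIH T'' hT''𝓕 hT''ne hcard3 (lc u B) (u * e * u⁻¹) he' hB' hBe'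
        -- back
        have hg3 : GoodPair (stepSet 𝓦 ⊤ (S : Subgroup G)) ((S : Subgroup G) : Set G) (lc u (lc e B)) u⁻¹ :=
          (hgu.mono (fun b hb => hlt1.le (hBe hb))).symm (stepSet_inv 𝓦 ⊤ (S : Subgroup G))
        have h12 := hg1.trans hg2
        have h4 : lc (u * e * u⁻¹ * u) B = lc u (lc e B) := by
          rw [← lc_mul]
          congr 1
          group
        rw [← h4] at hg3
        have h123 := h12.trans hg3
        have h5 : u⁻¹ * (u * e * u⁻¹ * u) = e := by group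
        rwa [h5] at h123
    -- convert the local chain
    have hconv : ∀ c', LReach (stepSet 𝓦 (Subgroup.normalizer (T : Set G)) S₀) (S₀ : Set G) A c' →
        GoodPair (stepSet 𝓦 ⊤ (S : Subgroup G)) ((S : Subgroup G) : Set G) A c' := by
      intro c' hc'
      induction hc' with
      | base h => exact GoodPair.one (fun a ha => hS₀S (h ha))
      | step c'' e hc'' he h3 ih' =>
        have h1 := hstep (lc c'' A) e he hc''.image_sub (by rw [← lc_mul]; exact h3)
        exact ih'.trans h1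
    exact (hconv c hc).congr hch

end

/-- Let p be a prime, G a finite group with Sylow p-subgroup S, and 𝓦 a set of conjugacy functors for p on G. Suppose that 𝓦 controls strong fusion in N_G(T) for every nonidentity subgroup T of S for which N_S(T) is a Sylow p-subgroup of N_G(T). Then 𝓦 controls strong fusion in G. (A set of functors controls strong fusion in a subgroup H when, for a Sylow p-subgroup T' of H, every conjugation of a tuple of elements of T' into T' by an element of H is a composite of conjugations inside the normalizers N_H(W(T')), W ∈ 𝓦, all intermediate tuples staying in T'.) -/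
theorem result {G : Type*} [Group G] [Finite G] {p : ℕ} [Fact p.Prime] (S : Sylow p G) (𝓦 : Set (Subgroup G → Subgroup G)) (h𝓦 : ∀ W ∈ 𝓦, Cfsg.IsConjugacyFunctor p W) (hloc : ∀ T : Subgroup G, T ≤ (S : Subgroup G) → T ≠ ⊥ → ¬ p ∣ ((S : Subgroup G) ⊓ Subgroup.normalizer ((T : Subgroup G) : Set G)).relIndex (Subgroup.normalizer ((T : Subgroup G) : Set G)) → Cfsg.FamilyControlsStrongFusionIn p 𝓦 (Subgroup.normalizer ((T : Subgroup G) : Set G))) : Cfsg.FamilyControlsStrongFusionIn p 𝓦 ⊤ := by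
  refine ⟨(S : Subgroup G), le_top, S.2, ?_, ?_⟩
  · rw [Subgroup.relIndex_top_right]
    exact S.not_dvd_index
  · intro A h _ hA hAh
    have hsing := sing S 𝓦 h𝓦 hloc
    set B := Subgroup.closure A with hB
    have hBS : B ≤ (S : Subgroup G) := (Subgroup.closure_le _).2 hA
    have hBg : cj (h⁻¹)⁻¹ B ≤ (S : Subgroup G) := by
      rw [inv_inv, cj_def, MonoidHom.map_closure, Subgroup.closure_le]
      rintro _ ⟨a, ha, rfl⟩
      have := hAh ⟨a, ha, rfl⟩
      simpa [MulAut.conj_apply] using this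
    have hF := fuses_of_family S _ (Cfsg.Agent.S1960.sylFam_hyp S) B hBS h⁻¹ hBg
    have hg := fuses_good (Cfsg.Agent.S1960.sylFam p (S : Subgroup G)) (stepSet 𝓦 ⊤ (S : Subgroup G))
      (S : Subgroup G) (fun U hU => hU.1) _ h⁻¹ hF hBS 0 (Nat.zero_le _) (by
        intro U hU _ A' z hz hA'
        by_cases hU1 : U = ⊥
        · refine (GoodPair.one (fun a ha => hU.1 (hA' ha))).congr ?_
          intro a ha
          have : a ∈ U := hA' ha
          rw [hU1, Subgroup.mem_bot] at this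
          rw [this]; simp
        · have hUN : U ≤ (S : Subgroup G) ⊓ Subgroup.normalizer (U : Set G) := le_inf hU.1 Subgroup.le_normalizer
          refine hsing _ U hU hU1 rfl A' z hz (fun a ha => hUN (hA' ha)) ?_
          rintro _ ⟨a, ha, rfl⟩
          apply hUN
          exact (Subgroup.mem_normalizer_iff.1 hz a).1 (hA' ha))
    rw [inv_inv] at hg
    have hgA := hg.mono (Subgroup.subset_closure : A ⊆ (B : Set G))
    obtain ⟨n, c, hc0, hcs, hci, hcl⟩ := finChain_of_goodPair hgA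
    exact ⟨n, c, hc0, hcs, hci, hcl⟩

end Cfsg.Agent.S1959
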