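import Mathlib
import Cfsg.Statements.S1247
import Cfsg.Agent.Lib.Helper3.Bender

set_option autoImplicit false
set_option linter.style.haveILetI false
open Cfsg
open Cfsg.Agent.Lib.Helper3
open scoped commutatorElement

namespace Cfsg.Agent.S1247

/-- Let G be a non-abelian finite simple group, A a maximal subgroup, F = F*(A) its generalized Fitting subgroup (viewed in G), and S ≤ F a subgroup subnormal in F with C_F(S) ≤ S. Let B be any subgroup of G containing S. Then (a) for every prime q not dividing |F(A)|, O_q(B) ∩ A = 1; and (b) for every prime p dividing |F(A)|, O_p(B) commutes elementwise with the subgroup of F generated by its elements of order prime to p. -/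
theorem result {G : Type*} [Group G] [Finite G] [IsSimpleGroup G] (hna : ¬ IsMulCommutative G) (A : Subgroup G) (hA : IsCoatom A) (S : Subgroup G) (hSF : S ≤ (Cfsg.generalizedFittingSubgroup ↥A).map A.subtype) (hSsn : (S.subgroupOf ((Cfsg.generalizedFittingSubgroup ↥A).map A.subtype)).IsSubnormal) (hSC : (Cfsg.generalizedFittingSubgroup ↥A).map A.subtype ⊓ Subgroup.centralizer (S : Set G) ≤ S) (B : Subgroup G) (hSB : S ≤ B) : (∀ q : ℕ, q.Prime → ¬ q ∣ Nat.card (Cfsg.fittingSubgroup ↥A) → (Cfsg.pCore q ↥B).map B.subtype ⊓ A = ⊥) ∧ (∀ p : ℕ, p.Prime → p ∣ Nat.card (Cfsg.fittingSubgroup ↥A) → ∀ x ∈ (Cfsg.pCore p ↥B).map B.subtype, ∀ y ∈ (Cfsg.pResidual p ↥(Cfsg.generalizedFittingSubgroup ↥A)).map ((Cfsg.generalizedFittingSubgroup ↥A).subtype) , x * (A.subtype y) = (A.subtype y) * x) := by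
  have hWA : (Cfsg.generalizedFittingSubgroup ↥A).map A.subtype ≤ A := Subgroup.map_subtype_le _
  have hSA : S ≤ A := hSF.trans hWA
  obtain ⟨S', hS'def⟩ : ∃ S' : Subgroup ↥A, S' = S.subgroupOf A := ⟨_, rfl⟩
  have hS'mem : ∀ s : ↥A, s ∈ S' ↔ (s : G) ∈ S := by
    intro s; rw [hS'def, Subgroup.mem_subgroupOf]
  have hS'F : S' ≤ Cfsg.generalizedFittingSubgroup ↥A := by
    intro s hs
    obtain ⟨w, hw, hws⟩ := hSF ((hS'mem s).mp hs)
    have : w = s := Subtype.ext hws
    rw [← this]; exact hw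
  haveI hFn : (Cfsg.fittingSubgroup ↥A).Normal := fitting_normal
  haveI hWn : (Cfsg.generalizedFittingSubgroup ↥A).Normal := by
    unfold Cfsg.generalizedFittingSubgroup
    infer_instance
  have hS'sn : S'.IsSubnormal := by
    apply Subgroup.IsSubnormal.trans hS'F _ hWn.isSubnormal
    have h1 := hSsn.comap ((Cfsg.generalizedFittingSubgroup ↥A).equivMapOfInjective A.subtype
      (Subgroup.subtype_injective A)).toMonoidHom
    convert h1 using 1
    ext w
    rw [Subgroup.mem_subgroupOf, Subgroup.mem_comap, Subgroup.mem_subgroupOf, hS'mem]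
    rfl
  have hS'C : Cfsg.generalizedFittingSubgroup ↥A ⊓ Subgroup.centralizer (S' : Set ↥A) ≤ S' := by
    intro x hx
    obtain ⟨hxW, hxC⟩ := Subgroup.mem_inf.mp hx
    rw [hS'mem]
    apply hSC
    refine Subgroup.mem_inf.mpr ⟨⟨x, hxW, rfl⟩, ?_⟩
    rw [Subgroup.mem_centralizer_iff]
    intro s hs
    rw [Subgroup.mem_centralizer_iff] at hxC
    have := hxC ⟨s, hSA hs⟩ ((hS'mem _).mpr hs)
    exact congrArg Subtype.val this
  have hBnorm : ∀ p : ℕ, B ≤ Subgroup.normalizer
      (((Cfsg.pCore p ↥B).map B.subtype : Subgroup G) : Set G) := by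
    intro p
    have h1 := Subgroup.le_normalizer_map (H := Cfsg.pCore p ↥B) B.subtype
    have hn : (Cfsg.pCore p ↥B).Normal := pCore_normal' p
    rw [Subgroup.normalizer_eq_top_iff.mpr hn, ← MonoidHom.range_eq_map,
      Subgroup.range_subtype] at h1
    exact h1
  have hD' : ∀ p : ℕ, p.Prime →
      IsPGroup p ↥((((Cfsg.pCore p ↥B).map B.subtype ⊓ A).subgroupOf A)) ∧
      S' ≤ Subgroup.normalizer
        ((((Cfsg.pCore p ↥B).map B.subtype ⊓ A).subgroupOf A : Subgroup ↥A) : Set ↥A) := by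
    intro p hp
    haveI : Fact p.Prime := ⟨hp⟩
    constructor
    · have h1 : IsPGroup p ↥((Cfsg.pCore p ↥B).map B.subtype) :=
        (Cfsg.Agent.Lib.Helper1.pCore_isPGroup).map _
      exact (h1.to_le inf_le_left).comap_subtype
    · intro s hs
      have hsS : (s : G) ∈ S := (hS'mem s).mp hs
      have hsN := Subgroup.mem_normalizer_iff.mp (hBnorm p (hSB hsS))
      rw [Subgroup.mem_normalizer_iff]
      intro h
      constructor
      · intro hh
        have hh' : (h : G) ∈ (Cfsg.pCore p ↥B).map B.subtype ⊓ A := Subgroup.mem_subgroupOf.mp hh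
        have h1 := (hsN (h : G)).mp (Subgroup.mem_inf.mp hh').1
        exact Subgroup.mem_subgroupOf.mpr (Subgroup.mem_inf.mpr ⟨h1, (s * h * s⁻¹).2⟩)
      · intro hh
        have hh' : ((s * h * s⁻¹ : ↥A) : G) ∈ (Cfsg.pCore p ↥B).map B.subtype ⊓ A :=
          Subgroup.mem_subgroupOf.mp hh
        have h1 := (hsN (h : G)).mpr (Subgroup.mem_inf.mp hh').1
        exact Subgroup.mem_subgroupOf.mpr (Subgroup.mem_inf.mpr ⟨h1, h.2⟩)
  refine ⟨?_, ?_⟩
  · intro q hq hqF
    haveI : Fact q.Prime := ⟨hq⟩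
    obtain ⟨hDp, hSD⟩ := hD' q hq
    have hbot := bender_trivial S' _ hS'F hS'sn hS'C hDp hSD hqF
    rw [eq_bot_iff]
    intro x hx
    have hxA : x ∈ A := (Subgroup.mem_inf.mp hx).2
    have h1 : (⟨x, hxA⟩ : ↥A) ∈ ((Cfsg.pCore q ↥B).map B.subtype ⊓ A).subgroupOf A :=
      Subgroup.mem_subgroupOf.mpr hx
    rw [hbot, Subgroup.mem_bot] at h1
    rw [Subgroup.mem_bot]
    exact congrArg Subtype.val h1
  · intro p hp hpF x hx y hy
    haveI : Fact p.Prime := ⟨hp⟩
    obtain ⟨hDp, hSD⟩ := hD' p hp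
    obtain ⟨hcE, hcr⟩ := bender_core S' _ hS'F hS'sn hS'C hDp hSD
    obtain ⟨P, hPdef⟩ : ∃ P : Subgroup G, P = (Cfsg.pCore p ↥B).map B.subtype := ⟨_, rfl⟩
    rw [← hPdef] at hx hcE hcr
    have hPp : IsPGroup p P := by
      rw [hPdef]; exact (Cfsg.Agent.Lib.Helper1.pCore_isPGroup).map _
    haveI hTn : (Cfsg.pCore p ↥A).Normal := pCore_normal' p
    have hTp : IsPGroup p (Cfsg.pCore p ↥A) := Cfsg.Agent.Lib.Helper1.pCore_isPGroup
    have hTne : Cfsg.pCore p ↥A ≠ ⊥ := by
      intro hbot
      have h1 : Cfsg.fittingSubgroup ↥A ≤ Cfsg.pPrimeCore p ↥A := by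
        rw [Cfsg.Agent.Lib.Helper1.fitting_eq_pCoreSup]
        have := Cfsg.Agent.Lib.Helper1.pCoreSup_le_sup (G := ↥A) p
        rw [hbot, bot_sup_eq] at this
        exact this
      have h2 := Subgroup.card_dvd_of_le h1
      have h3 := Cfsg.Agent.Lib.Helper1.pPrimeCore_coprime (G := ↥A) p
      exact (Nat.Prime.coprime_iff_not_dvd hp).mp h3.symm (dvd_trans hpF h2)
    have hES' : Cfsg.layer ↥A ≤ S' := layer_le_of_selfcentralizing S' hS'sn hS'C
    have hTF : Cfsg.pCore p ↥A ≤ Cfsg.fittingSubgroup ↥A := by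
      rw [Cfsg.Agent.Lib.Helper1.fitting_eq_pCoreSup]
      exact Cfsg.Agent.Lib.Helper1.pCore_le_pCoreSup hp
    have hFW : Cfsg.fittingSubgroup ↥A ≤ Cfsg.generalizedFittingSubgroup ↥A := le_sup_right
    have hcentSW : ∀ v : ↥A, v ∈ Cfsg.generalizedFittingSubgroup ↥A →
        v ∈ Subgroup.centralizer (Cfsg.generalizedFittingSubgroup ↥A : Set ↥A) → v ∈ S' := by
      intro v hv1 hv2
      apply hS'C
      exact Subgroup.mem_inf.mpr
        ⟨hv1, Subgroup.centralizer_le (SetLike.coe_subset_coe.mpr hS'F) hv2⟩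
    obtain ⟨Z', hZ'def⟩ : ∃ Z' : Subgroup ↥A, Z' = Cfsg.pCore p ↥A ⊓
        Subgroup.centralizer (Cfsg.pCore p ↥A : Set ↥A) := ⟨_, rfl⟩
    haveI hZ'n : Z'.Normal := by rw [hZ'def]; infer_instance
    have hZ'p : IsPGroup p Z' := by rw [hZ'def]; exact hTp.to_le inf_le_left
    have hZ'ne : Z' ≠ ⊥ := by rw [hZ'def]; exact pCore_inf_centralizer_ne_bot p hTne
    have hZ'T : Z' ≤ Cfsg.pCore p ↥A := by rw [hZ'def]; exact inf_le_left
    have hZ'W : Z' ≤ Subgroup.centralizer (Cfsg.generalizedFittingSubgroup ↥A : Set ↥A) :=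
      le_centralizer_genFitting Z' p hZ'T (by rw [hZ'def]; exact inf_le_right)
    have hZ'S : Z' ≤ S' := fun v hv => hcentSW v (hFW (hTF (hZ'T hv))) (hZ'W hv)
    have hNA : ∀ V' : Subgroup ↥A, V'.Normal → V' ≠ ⊥ →
        Subgroup.normalizer ((V'.map A.subtype : Subgroup G) : Set G) = A := by
      intro V' hV'n hV'ne
      have h1 : A ≤ Subgroup.normalizer ((V'.map A.subtype : Subgroup G) : Set G) := by
        have h := Subgroup.le_normalizer_map (H := V') A.subtype
        rw [Subgroup.normalizer_eq_top_iff.mpr hV'n, ← MonoidHom.range_eq_map,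
          Subgroup.range_subtype] at h
        exact h
      by_contra hne
      have hlt : A < Subgroup.normalizer ((V'.map A.subtype : Subgroup G) : Set G) :=
        lt_of_le_of_ne h1 (Ne.symm hne)
      have htop := hA.2 _ hlt
      have hn : (V'.map A.subtype).Normal := Subgroup.normalizer_eq_top_iff.mp htop
      rcases hn.eq_bot_or_eq_top with h | h
      · exact hV'ne ((Subgroup.map_eq_bot_iff_of_injective _ (Subgroup.subtype_injective A)).mp h)
      · apply hA.1
        rw [eq_top_iff, ← h]; exact Subgroup.map_subtype_le _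
    obtain ⟨Z, hZdef⟩ : ∃ Z : Subgroup G, Z = Z'.map A.subtype := ⟨_, rfl⟩
    have hZp : IsPGroup p Z := by rw [hZdef]; exact hZ'p.map _
    have hZS : Z ≤ S := by
      rw [hZdef]; rintro _ ⟨v, hv, rfl⟩; exact (hS'mem v).mp (hZ'S hv)
    have hNZ : Subgroup.normalizer (Z : Set G) = A := by rw [hZdef]; exact hNA Z' hZ'n hZ'ne
    have hSP : S ≤ Subgroup.normalizer (P : Set G) := by rw [hPdef]; exact hSB.trans (hBnorm p)
    have hkey : ∀ y' : ↥A, y' ∈ S' → (orderOf y').Coprime p → (∀ v ∈ Z', v * y' = y' * v) →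
        (∀ d : ↥A, (d : G) ∈ P → d * y' = y' * d) →
        (y' : G) ∈ Subgroup.centralizer (P : Set G) := by
      intro y' hy'S hy'ord hy'Z hy'P
      apply pq_lemma_elem (p := p) hZp (by rw [Subgroup.orderOf_coe]; exact hy'ord) ?_
        (Nat.card P) P le_rfl hPp (hZS.trans hSP) (hSP ((hS'mem y').mp hy'S)) ?_
      · rw [Subgroup.mem_centralizer_iff, hZdef]
        rintro _ ⟨v, hv, rfl⟩
        exact congrArg Subtype.val (hy'Z v hv)
      · intro u hu
        obtain ⟨huP, huZ⟩ := Subgroup.mem_inf.mp hu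
        have huA : u ∈ A := by
          rw [← hNZ]; exact Subgroup.centralizer_le_normalizer _ huZ
        have := hy'P ⟨u, huA⟩ huP
        exact (congrArg Subtype.val this).symm
    have hD'mem : ∀ d : ↥A, (d : G) ∈ P → d ∈ (P ⊓ A).subgroupOf A :=
      fun d hd => Subgroup.mem_subgroupOf.mpr (Subgroup.mem_inf.mpr ⟨hd, d.2⟩)
    have hdE : ∀ d : ↥A, (d : G) ∈ P → ∀ e ∈ Cfsg.layer ↥A, d * e = e * d := by
      intro d hd e he
      have := hcE (hD'mem d hd)
      rw [Subgroup.mem_centralizer_iff] at this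
      exact (this e he).symm
    have hdr : ∀ d : ↥A, (d : G) ∈ P → ∀ r : ℕ, r.Prime → r ≠ p →
        ∀ e ∈ Cfsg.pCore r ↥A, d * e = e * d := by
      intro d hd r hr hrp e he
      have := hcr r hr hrp (hD'mem d hd)
      rw [Subgroup.mem_centralizer_iff] at this
      exact (this e he).symm
    have hEP : (Cfsg.layer ↥A).map A.subtype ≤ Subgroup.centralizer (P : Set G) := by
      apply perfect_le_of_pprime_mem _ _ ?_ ?_ p ?_
      · rw [← Subgroup.map_commutator, layer_perfect]
      · rintro _ ⟨e, he, rfl⟩ c hc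
        have heN : (e : G) ∈ Subgroup.normalizer (P : Set G) := hSP ((hS'mem e).mp (hES' he))
        exact conj_mem_centralizer_of_mem_normalizer heN hc
      · rintro _ ⟨e, he, rfl⟩ hord
        have hord' : (orderOf ((e : ↥A) : G)).Coprime p := hord
        rw [Subgroup.orderOf_coe] at hord'
        apply hkey e (hES' he) hord' ?_ ?_
        · intro v hv
          have hvF : v ∈ Cfsg.fittingSubgroup ↥A := hTF (hZ'T hv)
          have := fitting_le_centralizer_layer hvF
          rw [Subgroup.mem_centralizer_iff] at this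
          exact (this e he).symm
        · intro d hd; exact hdE d hd e he
    have hUrP : ∀ r : ℕ, r.Prime → r ≠ p → ∀ u : ↥A, u ∈ S' → u ∈ Cfsg.pCore r ↥A →
        (u : G) ∈ Subgroup.centralizer (P : Set G) := by
      intro r hr hrp u huS huP
      haveI : Fact r.Prime := ⟨hr⟩
      apply hkey u huS ?_ ?_ ?_
      · obtain ⟨k, hk⟩ := (Cfsg.Agent.Lib.Helper1.pCore_isPGroup (p := r) (G := ↥A)) ⟨u, huP⟩
        have h1 : u ^ (r ^ k) = 1 := by
          have := congrArg Subtype.val hk
          simpa using this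
        exact Nat.Coprime.coprime_dvd_left (orderOf_dvd_of_pow_eq_one h1)
          (Nat.Coprime.pow_left k ((Nat.coprime_primes hr hp).mpr hrp))
      · intro v hv
        exact pCore_comm_pPrimeCore p (hZ'T hv) (pCore_le_pPrimeCore_of_ne (Ne.symm hrp) huP)
      · intro d hd; exact hdr d hd r hr hrp u huP
    have hclaim : P ≤ A ∨ (Cfsg.layer ↥A = ⊥ ∧
        ∀ r : ℕ, r.Prime → r ≠ p → Cfsg.pCore r ↥A = ⊥) := by
      by_cases hE : Cfsg.layer ↥A = ⊥
      · by_cases hall : ∀ r : ℕ, r.Prime → r ≠ p → Cfsg.pCore r ↥A = ⊥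
        · right; exact ⟨hE, hall⟩
        · left
          push_neg at hall
          obtain ⟨r, hr, hrp, hPr⟩ := hall
          haveI : Fact r.Prime := ⟨hr⟩
          haveI hPrn : (Cfsg.pCore r ↥A).Normal := pCore_normal' r
          obtain ⟨V', hV'def⟩ : ∃ V' : Subgroup ↥A, V' = Cfsg.pCore r ↥A ⊓
              Subgroup.centralizer (Cfsg.pCore r ↥A : Set ↥A) := ⟨_, rfl⟩
          have hV'n : V'.Normal := by rw [hV'def]; infer_instance
          have hV'ne : V' ≠ ⊥ := by rw [hV'def]; exact pCore_inf_centralizer_ne_bot r hPr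
          have hV'T : V' ≤ Cfsg.pCore r ↥A := by rw [hV'def]; exact inf_le_left
          have hV'W : V' ≤ Subgroup.centralizer
              (Cfsg.generalizedFittingSubgroup ↥A : Set ↥A) :=
            le_centralizer_genFitting V' r hV'T (by rw [hV'def]; exact inf_le_right)
          have hPrF : Cfsg.pCore r ↥A ≤ Cfsg.fittingSubgroup ↥A := by
            rw [Cfsg.Agent.Lib.Helper1.fitting_eq_pCoreSup]
            exact Cfsg.Agent.Lib.Helper1.pCore_le_pCoreSup hr
          have hV'S : V' ≤ S' := fun v hv => hcentSW v (hFW (hPrF (hV'T hv))) (hV'W hv)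
          have hVP : V'.map A.subtype ≤ Subgroup.centralizer (P : Set G) := by
            rintro _ ⟨v, hv, rfl⟩
            exact hUrP r hr hrp v (hV'S hv) (hV'T hv)
          have hPV : P ≤ Subgroup.centralizer ((V'.map A.subtype : Subgroup G) : Set G) :=
            Subgroup.le_centralizer_iff.mp hVP
          exact (hPV.trans (Subgroup.centralizer_le_normalizer _)).trans
            (le_of_eq (hNA V' hV'n hV'ne))
      · left
        have hPE : P ≤ Subgroup.centralizer
            (((Cfsg.layer ↥A).map A.subtype : Subgroup G) : Set G) :=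
          Subgroup.le_centralizer_iff.mp hEP
        exact (hPE.trans (Subgroup.centralizer_le_normalizer _)).trans
          (le_of_eq (hNA (Cfsg.layer ↥A) layer_normal hE))
    obtain ⟨w, hw, rfl⟩ := hy
    have hgen : Cfsg.pResidual p ↥(Cfsg.generalizedFittingSubgroup ↥A) ≤
        (Subgroup.centralizer ({x} : Set G)).comap
          (A.subtype.comp (Cfsg.generalizedFittingSubgroup ↥A).subtype) := by
      unfold Cfsg.pResidual
      rw [Subgroup.closure_le]
      intro f hf
      have hf' : (orderOf f).Coprime p := hf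
      rw [SetLike.mem_coe, Subgroup.mem_comap, Subgroup.mem_centralizer_iff]
      intro h hh
      rw [Set.mem_singleton_iff] at hh
      rw [hh]
      show x * ((f : ↥A) : G) = ((f : ↥A) : G) * x
      have hfQ := pprime_mem_layer_sup p (f := (f : ↥A)) f.2
        (by rw [Subgroup.orderOf_coe]; exact hf')
      rcases hclaim with hPA | ⟨hE0, hr0⟩
      · have hxA : x ∈ A := hPA hx
        have hQc : Cfsg.layer ↥A ⊔ ⨆ r : {r : Nat.Primes // (r : ℕ) ≠ p},
            Cfsg.pCore (r.1 : ℕ) ↥A ≤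
            Subgroup.centralizer ({(⟨x, hxA⟩ : ↥A)} : Set ↥A) := by
          apply sup_le
          · intro e he
            rw [Subgroup.mem_centralizer_iff]
            intro h hh
            rw [Set.mem_singleton_iff] at hh
            rw [hh]
            exact hdE ⟨x, hxA⟩ hx e he
          · apply iSup_le
            rintro ⟨r, hr⟩ e he
            rw [Subgroup.mem_centralizer_iff]
            intro h hh
            rw [Set.mem_singleton_iff] at hh
            rw [hh]
            exact hdr ⟨x, hxA⟩ hx r r.2 hr e he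
        have h1 := hQc hfQ
        rw [Subgroup.mem_centralizer_iff] at h1
        exact congrArg Subtype.val (h1 ⟨x, hxA⟩ (Set.mem_singleton _))
      · have hQbot : Cfsg.layer ↥A ⊔ ⨆ r : {r : Nat.Primes // (r : ℕ) ≠ p},
            Cfsg.pCore (r.1 : ℕ) ↥A = ⊥ := by
          rw [hE0, bot_sup_eq]
          exact iSup_eq_bot.mpr (fun i => hr0 i.1 i.1.2 i.2)
        rw [hQbot, Subgroup.mem_bot] at hfQ
        rw [hfQ]; simp
    have := hgen hw
    rw [Subgroup.mem_comap, Subgroup.mem_centralizer_iff] at this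
    exact this x (Set.mem_singleton x)

end Cfsg.Agent.S1247
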