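import Cfsg.Statements.S0024
import Cfsg.Agent.Lib.Helper4.CoprimeSylow

set_option autoImplicit false
open Pointwise
open Cfsg

namespace Cfsg.Agent.S0024

open Cfsg.Agent.Lib.Helper4
open scoped Pointwise

/-- Under coprime action (A normalising K, coprime orders, A or K solvable), any two A-invariant Sylow p-subgroups of K are conjugate by an element of the centraliser of A in K. -/
theorem result {G : Type*} [Group G] [Finite G] (A K : Subgroup G) (hAK : A ≤ Subgroup.normalizer (K : Set G))
    (hcop : (Nat.card A).Coprime (Nat.card K)) (hsolv : Group.IsSolvable A ∨ Group.IsSolvable K)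
    (p : ℕ) [Fact p.Prime] (P Q : Sylow p K)
    (hP : A ≤ Subgroup.normalizer ((P : Subgroup K).map K.subtype : Set G))
    (hQ : A ≤ Subgroup.normalizer ((Q : Subgroup K).map K.subtype : Set G)) :
    ∃ c : K, (c : G) ∈ Subgroup.centralizer (A : Set G) ∧ MulAut.conj c • P = Q := by
  classical
  set P' : Subgroup G := (P : Subgroup K).map K.subtype with hP'
  set Q' : Subgroup G := (Q : Subgroup K).map K.subtype with hQ'
  letI : MulAction G (Subgroup G) := cjAction
  obtain ⟨k, hk⟩ := MulAction.exists_smul_eq K P Q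
  have hk' : cj (k : G) P' = Q' := by
    rw [hQ', ← hk, Sylow.smul_def, sylow_map_smul]
  have hω : ∀ a ∈ A, a • P' = P' := fun a ha => Subgroup.mem_normalizer_iff_map_conj_eq.1 (hP ha)
  have hkω : ∀ a ∈ A, a • ((k : G) • P') = (k : G) • P' := by
    intro a ha
    show cj a (cj (k : G) P') = cj (k : G) P'
    rw [hk']
    exact Subgroup.mem_normalizer_iff_map_conj_eq.1 (hQ ha)
  obtain ⟨c, hc, hcP⟩ := glauberman_trans A K hAK hcop hsolv P' hω (k : G) k.2 hkω
  refine ⟨⟨c, hc.1⟩, hc.2, ?_⟩
  apply Sylow.ext
  apply Subgroup.map_injective K.subtype_injective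
  rw [sylow_map_smul]
  show cj c P' = Q'
  rw [← hk']
  exact hcP

end Cfsg.Agent.S0024
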