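import Cfsg.Statements.S0025
import Cfsg.Agent.Lib.Helper4.CoprimeSylow
import Cfsg.Agent.Lib.Helper4.Fusion
import Cfsg.Agent.S0023

set_option autoImplicit false
open Cfsg

namespace Cfsg.Agent.S0025

open Cfsg.Agent.Lib.Helper4
open scoped Pointwise

/-- Under coprime action (A normalising K, coprime orders, A or K solvable), an A-invariant p-subgroup of K is contained in an A-invariant Sylow p-subgroup of K. -/
theorem result {G : Type*} [Group G] [Finite G] (A K : Subgroup G) (hAK : A ≤ Subgroup.normalizer (K : Set G))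
    (hcop : (Nat.card A).Coprime (Nat.card K)) (hsolv : Group.IsSolvable A ∨ Group.IsSolvable K)
    (p : ℕ) [Fact p.Prime] (U : Subgroup G) (hUK : U ≤ K) (hU : IsPGroup p U) (hUA : A ≤ Subgroup.normalizer (U : Set G)) :
    ∃ P : Sylow p K, U ≤ (P : Subgroup K).map K.subtype ∧ A ≤ Subgroup.normalizer ((P : Subgroup K).map K.subtype : Set G) := by
  classical
  -- a maximal A-invariant p-subgroup containing U
  set 𝒮 : Set (Subgroup G) := {V | U ≤ V ∧ V ≤ K ∧ IsPGroup p V ∧ A ≤ Subgroup.normalizer (V : Set G)} with h𝒮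
  have hne : 𝒮.Nonempty := ⟨U, le_rfl, hUK, hU, hUA⟩
  obtain ⟨V, ⟨hUV, hVK, hVp, hVA⟩, hmax⟩ := Set.exists_max_image 𝒮 (fun V => Nat.card V)
    (Set.toFinite _) hne
  set M : Subgroup G := K ⊓ Subgroup.normalizer (V : Set G) with hM
  have hVM : V ≤ M := le_inf hVK Subgroup.le_normalizer
  have hAM : A ≤ Subgroup.normalizer (M : Set G) := by
    intro a ha
    rw [Subgroup.mem_normalizer_iff_map_conj_eq]
    show cj a M = M
    rw [hM, cj_inf, cj_eq_of_mem_normalizer (hAK ha), ← cj_normalizer,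
      cj_eq_of_mem_normalizer (hVA ha)]
  have hcardM : Nat.card M ∣ Nat.card K := Subgroup.card_dvd_of_le inf_le_left
  have hcopM : (Nat.card A).Coprime (Nat.card M) := Nat.Coprime.coprime_dvd_right hcardM hcop
  have hsolvM : Group.IsSolvable A ∨ Group.IsSolvable M := by
    rcases hsolv with hs | hs
    · exact Or.inl hs
    · right
      exact Group.isSolvable_of_isSolvable_injective
        (f := Subgroup.inclusion (inf_le_left : M ≤ K)) (Subgroup.inclusion_injective _)
  obtain ⟨S₀, hS₀A⟩ := Cfsg.Agent.S0023.result A M hAM hcopM hsolvM p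
  set S : Subgroup G := (S₀ : Subgroup M).map M.subtype with hS
  have hSM : S ≤ M := Subgroup.map_subtype_le _
  have hSp : IsPGroup p S := S₀.2.map M.subtype
  have hSidx : ¬ p ∣ S.relIndex M := sylow_map_relIndex M S₀
  -- V ≤ S
  have hVS : V ≤ S := by
    obtain ⟨n, hn, hnV⟩ := exists_conj_le_of_relIndex p M S V hSp hSidx hVM hVp
    intro v hv
    have h1 : n⁻¹ * v * n⁻¹⁻¹ ∈ V :=
      (Subgroup.mem_normalizer_iff.1 (inv_mem hn.2) v).1 hv
    have h2 := hnV _ h1
    have e : n * (n⁻¹ * v * n⁻¹⁻¹) * n⁻¹ = v := by group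
    rwa [e] at h2
  -- maximality: S = V
  have hSV : S = V := by
    have hS𝒮 : S ∈ 𝒮 := ⟨hUV.trans hVS, hSM.trans inf_le_left, hSp, hS₀A⟩
    exact (Subgroup.eq_of_le_of_card_ge hVS (hmax S hS𝒮)).symm
  have hVidx : ¬ p ∣ V.relIndex M := by rw [← hSV]; exact hSidx
  -- V is a Sylow p-subgroup of K
  obtain ⟨P, hP⟩ := (hVp.comap_subtype (K := K)).exists_le_sylow
  set P' : Subgroup G := (P : Subgroup K).map K.subtype with hP'
  have hP'p : IsPGroup p P' := P.2.map K.subtype
  have hVP' : V ≤ P' := by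
    intro v hv
    exact ⟨⟨v, hVK hv⟩, hP (Subgroup.mem_subgroupOf.2 hv), rfl⟩
  have hP'K : P' ≤ K := Subgroup.map_subtype_le _
  have heq : V = P' := by
    by_contra hne'
    have hlt : V < P' := lt_of_le_of_ne hVP' hne'
    have hlt2 := lt_inf_normalizer_of_lt P' hP'p V hlt
    have hle2 : P' ⊓ Subgroup.normalizer (V : Set G) ≤ M :=
      inf_le_inf_right _ hP'K
    have := eq_of_le_of_not_dvd_relIndex p hlt2.le hle2 (hP'p.to_le inf_le_left) hVidx
    exact hlt2.ne this
  refine ⟨P, ?_, ?_⟩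
  · rw [← hP', ← heq]; exact hUV
  · rw [← hP', ← heq]; exact hVA

end Cfsg.Agent.S0025
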