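import Cfsg.Statements.S0022
import Cfsg.Agent.Lib.Helper4.CoprimeAct

set_option autoImplicit false
open Cfsg

namespace Cfsg.Agent.S0022

open Cfsg.Agent.Lib.Helper4

/-- Under coprime action fixed points pass to quotients: with A normalising K, coprime orders, A or K solvable, and N an A-invariant normal subgroup of K, every coset of N in K fixed by conjugation by A contains an element centralised by A. -/
theorem result {G : Type*} [Group G] [Finite G] (A K : Subgroup G) (hAK : A ≤ Subgroup.normalizer (K : Set G))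
    (hcop : (Nat.card A).Coprime (Nat.card K)) (hsolv : Group.IsSolvable A ∨ Group.IsSolvable K)
    (N : Subgroup G) (hNK : N ≤ K) (hNnormal : K ≤ Subgroup.normalizer (N : Set G)) (hNA : A ≤ Subgroup.normalizer (N : Set G))
    (k : G) (hk : k ∈ K) (hfix : ∀ a ∈ A, a * k * a⁻¹ * k⁻¹ ∈ N) :
    ∃ c ∈ K ⊓ Subgroup.centralizer (A : Set G), k⁻¹ * c ∈ N := by
  have hcardN : Nat.card N ∣ Nat.card K := Subgroup.card_dvd_of_le hNK
  have hcop' : (Nat.card A).Coprime (Nat.card N) := Nat.Coprime.coprime_dvd_right hcardN hcop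
  have hsolv' : Group.IsSolvable A ∨ Group.IsSolvable N := by
    rcases hsolv with hs | hs
    · exact Or.inl hs
    · right
      exact Group.isSolvable_of_isSolvable_injective
        (f := Subgroup.inclusion hNK) (Subgroup.inclusion_injective _)
  set ω₀ : G ⧸ A := (k : G ⧸ A) with hω₀
  have h : ∀ a ∈ A, ∃ n ∈ N, a • ω₀ = n • ω₀ := by
    intro a ha
    refine ⟨a * k * a⁻¹ * k⁻¹, hfix a ha, ?_⟩
    show ((a * k : G) : G ⧸ A) = ((a * k * a⁻¹ * k⁻¹ * k : G) : G ⧸ A)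
    rw [QuotientGroup.eq]
    have : (a * k)⁻¹ * (a * k * a⁻¹ * k⁻¹ * k) = a⁻¹ := by group
    rw [this]; exact A.inv_mem ha
  obtain ⟨n, hn, hfixn⟩ := glauberman_fix A N hNA hcop' hsolv' ω₀ h
  set c : G := n * k with hc
  have hcK : c ∈ K := K.mul_mem (hNK hn) hk
  have hle : cj c⁻¹ A ≤ A := by
    rintro _ ⟨a, ha, rfl⟩
    have h1 := hfixn a⁻¹ (A.inv_mem ha)
    have h2 : ((a⁻¹ * (n * k) : G) : G ⧸ A) = ((n * k : G) : G ⧸ A) := h1
    rw [QuotientGroup.eq] at h2
    show c⁻¹ * a * c⁻¹⁻¹ ∈ A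
    have : c⁻¹ * a * c⁻¹⁻¹ = (a⁻¹ * (n * k))⁻¹ * (n * k) := by rw [hc]; group
    rw [this]; exact h2
  have heq : cj c⁻¹ A = A := Subgroup.eq_of_le_of_card_ge hle (by rw [card_cj'])
  have heq' : cj c A = A := by
    have := congrArg (cj c) heq
    rw [← cj_mul, mul_inv_cancel, cj_one] at this
    exact this.symm
  refine ⟨c, ⟨hcK, act_centralizes A K hAK hcop hcK heq'⟩, ?_⟩
  have h3 : k⁻¹ * n * k⁻¹⁻¹ ∈ N := (Subgroup.mem_normalizer_iff.1 (hNnormal (K.inv_mem hk)) n).1 hn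
  have : k⁻¹ * c = k⁻¹ * n * k⁻¹⁻¹ := by rw [hc]; group
  rw [this]; exact h3

end Cfsg.Agent.S0022
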