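import Cfsg.Statements.S0026
import Cfsg.Agent.Lib.Helper4.CoprimeComm
import Cfsg.Agent.S0022

set_option autoImplicit false
open Cfsg

namespace Cfsg.Agent.S0026

open Cfsg.Agent.Lib.Helper4
open scoped commutatorElement

/-- Under coprime action the acted-on group factorises as the commutator with A times the fixed points: K = [K, A] C_K(A). -/
theorem result {G : Type*} [Group G] [Finite G] (A K : Subgroup G) (hAK : A ≤ Subgroup.normalizer (K : Set G))
    (hcop : (Nat.card A).Coprime (Nat.card K)) (hsolv : Group.IsSolvable A ∨ Group.IsSolvable K) :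
    ⁅K, A⁆ ⊔ (K ⊓ Subgroup.centralizer (A : Set G)) = K := by
  have hNK : ⁅K, A⁆ ≤ K := commutator_le_of_le_normalizer A K hAK
  apply le_antisymm (sup_le hNK inf_le_left)
  intro k hk
  have hfix : ∀ a ∈ A, a * k * a⁻¹ * k⁻¹ ∈ ⁅K, A⁆ := by
    intro a ha
    have h1 : ⁅k, a⁆ ∈ ⁅K, A⁆ := Subgroup.commutator_mem_commutator hk ha
    have h2 : a * k * a⁻¹ * k⁻¹ = ⁅k, a⁆⁻¹ := by rw [commutatorElement_def]; group
    rw [h2]; exact Subgroup.inv_mem _ h1
  obtain ⟨c, hc, hkc⟩ := Cfsg.Agent.S0022.result A K hAK hcop hsolv ⁅K, A⁆ hNK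
    (le_normalizer_commutator_left A K) (le_normalizer_commutator_right A K hAK) k hk hfix
  have e : k = c * (k⁻¹ * c)⁻¹ := by group
  rw [e]
  exact Subgroup.mul_mem _ (le_sup_right (a := ⁅K, A⁆) hc)
    (le_sup_left (b := K ⊓ Subgroup.centralizer (A : Set G)) (Subgroup.inv_mem _ hkc))

end Cfsg.Agent.S0026
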