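import Mathlib
import Cfsg.Statements.S0028
import Cfsg.Agent.Lib.Helper3.PQ

set_option autoImplicit false
open Cfsg
open Cfsg.Agent.Lib.Helper3

namespace Cfsg.Agent.S0028

/-- Thompson's P × Q Lemma: let a p-subgroup P and a subgroup Q of order prime to p centralise each other and normalise a p-subgroup U; if every element of U fixed by P is fixed by Q, then Q centralises U. -/
theorem result {G : Type*} [Group G] [Finite G] (p : ℕ) [Fact p.Prime]
    (P Q U : Subgroup G) (hP : IsPGroup p P) (hQ : (Nat.card Q).Coprime p) (hU : IsPGroup p U)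
    (hPQ : P ≤ Subgroup.centralizer (Q : Set G))
    (hPU : P ≤ Subgroup.normalizer (U : Set G)) (hQU : Q ≤ Subgroup.normalizer (U : Set G))
    (hC : U ⊓ Subgroup.centralizer (P : Set G) ≤ Subgroup.centralizer (Q : Set G)) :
    Q ≤ Subgroup.centralizer (U : Set G) := by
  intro y hy
  have hord : (orderOf y).Coprime p := by
    have h1 : orderOf y ∣ Nat.card Q := by
      have := orderOf_dvd_natCard (⟨y, hy⟩ : Q)
      rwa [Subgroup.orderOf_mk] at this
    exact Nat.Coprime.coprime_dvd_left h1 hQ
  have hyP : y ∈ Subgroup.centralizer (P : Set G) := by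
    rw [Subgroup.mem_centralizer_iff]
    intro x hx
    exact (Subgroup.mem_centralizer_iff.mp (hPQ hx) y hy).symm
  refine pq_lemma_elem hP hord hyP _ U le_rfl hU hPU (hQU hy) ?_
  intro u hu
  exact (Subgroup.mem_centralizer_iff.mp (hC hu) y hy)

end Cfsg.Agent.S0028
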