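import Mathlib
import Cfsg.Statements.S0044
import Cfsg.Agent.Lib.Helper3.FStar

set_option autoImplicit false
open Cfsg
open Cfsg.Agent.Lib.Helper3

namespace Cfsg.Agent.S0044

/-- In a finite solvable group, the centraliser of the Fitting subgroup is contained in the Fitting subgroup. -/
theorem result {G : Type*} [Group G] [Finite G] [Group.IsSolvable G] :
    Subgroup.centralizer (Cfsg.fittingSubgroup G : Set G) ≤ Cfsg.fittingSubgroup G := by
  have hFn : (Cfsg.fittingSubgroup G).Normal := Subgroup.sSup_normal _ (fun _ h => h.1)
  by_contra hC
  obtain ⟨L, hL, -⟩ := exists_component_le_centralizer (Cfsg.fittingSubgroup G) le_rfl hC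
  exact component_not_solvable hL inferInstance

end Cfsg.Agent.S0044
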