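import Mathlib
import Cfsg.Statements.S1270
import Cfsg.Agent.Lib.Helper3.CoreNorm3
import Cfsg.Agent.Lib.Helper3.Comp

set_option autoImplicit false
open Cfsg
open Cfsg.Agent.Lib.Helper3
open Cfsg.Agent.Lib.Helper1
open scoped commutatorElement

namespace Cfsg.Agent.S1270

variable {G : Type*} [Group G]

lemma centralizer_singleton_eq (x : G) :
    Subgroup.centralizer ({x} : Set G) = Subgroup.centralizer (Subgroup.zpowers x : Set G) := by
  ext c
  constructor
  · intro hc
    rw [Subgroup.mem_centralizer_iff] at hc ⊢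
    intro y hy
    obtain ⟨k, rfl⟩ := Subgroup.mem_zpowers_iff.mp hy
    have h1 : Commute x c := hc x rfl
    exact (h1.zpow_left k)
  · intro hc
    rw [Subgroup.mem_centralizer_iff] at hc ⊢
    intro y hy
    rw [Set.mem_singleton_iff] at hy
    subst hy
    exact hc y (Subgroup.mem_zpowers y)

lemma le_normalizer_commutator_left (H K : Subgroup G) :
    H ≤ Subgroup.normalizer ((⁅H, K⁆ : Subgroup G) : Set G) := by
  have key : ∀ a ∈ H, ∀ y ∈ ⁅H, K⁆, a * y * a⁻¹ ∈ ⁅H, K⁆ := by
    intro a ha
    have h1 : ⁅H, K⁆ ≤ (⁅H, K⁆).comap (MulAut.conj a).toMonoidHom := by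
      rw [Subgroup.commutator_le]
      intro h hh k hk
      show a * ⁅h, k⁆ * a⁻¹ ∈ ⁅H, K⁆
      have e : a * ⁅h, k⁆ * a⁻¹ = ⁅a * h, k⁆ * ⁅a, k⁆⁻¹ := by
        simp only [commutatorElement_def]; group
      rw [e]
      exact Subgroup.mul_mem _ (Subgroup.commutator_mem_commutator (H.mul_mem ha hh) hk)
        (Subgroup.inv_mem _ (Subgroup.commutator_mem_commutator ha hk))
    intro y hy
    exact h1 hy
  intro a ha
  apply mem_normalizer_of_conj_mem
  · exact key a ha
  · intro y hy
    have := key a⁻¹ (H.inv_mem ha) y hy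
    simpa using this

lemma normalizer_inf_normalizer_le_sup (A B : Subgroup G) :
    Subgroup.normalizer (A : Set G) ⊓ Subgroup.normalizer (B : Set G) ≤
      Subgroup.normalizer ((A ⊔ B : Subgroup G) : Set G) := by
  have key : ∀ g : G, g ∈ Subgroup.normalizer (A : Set G) → g ∈ Subgroup.normalizer (B : Set G) →
      ∀ y ∈ A ⊔ B, g * y * g⁻¹ ∈ A ⊔ B := by
    intro g hA hB
    have h1 : A ⊔ B ≤ (A ⊔ B).comap (MulAut.conj g).toMonoidHom := by
      apply sup_le
      · intro a ha
        show g * a * g⁻¹ ∈ A ⊔ B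
        exact Subgroup.mem_sup_left (conj_mem_of_mem_normalizer' hA ha)
      · intro b hb
        show g * b * g⁻¹ ∈ A ⊔ B
        exact Subgroup.mem_sup_right (conj_mem_of_mem_normalizer' hB hb)
    intro y hy
    exact h1 hy
  rintro g ⟨hA, hB⟩
  apply mem_normalizer_of_conj_mem
  · exact key g hA hB
  · intro y hy
    have := key g⁻¹ (Subgroup.inv_mem _ hA) (Subgroup.inv_mem _ hB) y hy
    simpa using this

variable [Finite G]

/-- `O_{p'}(C_G(x)) ≤ O_{p'}(N_G(⟨x⟩))`. -/
lemma cpc_le (p : ℕ) [Fact p.Prime] (x : G) :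
    Cfsg.centralizerPPrimeCore p x ≤ normPPrimeCore p (Subgroup.zpowers x) := by
  unfold Cfsg.centralizerPPrimeCore
  have e := centralizer_singleton_eq x
  have h1 : Subgroup.centralizer ({x} : Set G) ≤ Subgroup.normalizer (Subgroup.zpowers x : Set G) := by
    rw [e]; exact Subgroup.centralizer_le_normalizer _
  have h2 : Subgroup.normalizer (Subgroup.zpowers x : Set G) ≤
      Subgroup.normalizer ((Subgroup.centralizer ({x} : Set G) : Subgroup G) : Set G) := by
    have := normalizer_le_normalizer_centralizer (Subgroup.zpowers x)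
    rw [← e] at this
    exact this
  exact le_normPPrimeCore_of_two_step (C := Subgroup.centralizer ({x} : Set G))
    (map_pPrimeCore_le p _) h1 h2 (le_normalizer_map_pPrimeCore p _) (map_pPrimeCore_coprime p _)

/-- the diagonal element `(l x⁻¹)^p = l · b` with `b` in the product of the other components -/
lemma diag_elem {p : ℕ} [Fact p.Prime] {x : G} (hx : orderOf x = p) {L : Subgroup G}
    (hL : Cfsg.IsComponent L) (hxL : x ∉ Subgroup.normalizer (L : Set G)) {l : G} (hl : l ∈ L) :
    ∃ b ∈ sSup {K : Subgroup G | Cfsg.IsComponent K ∧ K ≠ L}, (l * x⁻¹) ^ p = l * b := by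
  have hp : p.Prime := Fact.out
  set Lc := sSup {K : Subgroup G | Cfsg.IsComponent K ∧ K ≠ L} with hLc
  have hmove : ∀ k : ℕ, 1 ≤ k → k < p → L.map (MulAut.conj (x ^ k)⁻¹).toMonoidHom ≤ Lc := by
    intro k hk1 hkp
    apply le_sSup
    refine ⟨component_map_equiv hL _, ?_⟩
    intro heq
    apply hxL
    have h1 : (x ^ k)⁻¹ ∈ Subgroup.normalizer (L : Set G) :=
      Subgroup.mem_normalizer_iff_map_conj_eq.mpr heq
    have h2 : x ^ k ∈ Subgroup.normalizer (L : Set G) := by
      have := Subgroup.inv_mem _ h1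
      simpa using this
    have hcop : Nat.Coprime k (orderOf x) := by
      rw [hx]
      exact Nat.Coprime.symm ((Nat.Prime.coprime_iff_not_dvd hp).mpr
        (Nat.not_dvd_of_pos_of_lt hk1 hkp))
    obtain ⟨m, hm⟩ := exists_pow_eq_self_of_coprime hcop
    rw [← hm]
    exact Subgroup.pow_mem _ h2 _
  have key : ∀ k : ℕ, 1 ≤ k → k ≤ p → ∃ b ∈ Lc, (l * x⁻¹) ^ k * x ^ k = l * b := by
    intro k hk
    induction k, hk using Nat.le_induction with
    | base =>
      intro _
      exact ⟨1, Subgroup.one_mem _, by group⟩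
    | succ k hk ih =>
      intro hkp
      obtain ⟨b, hb, hbe⟩ := ih (by omega)
      refine ⟨b * ((x ^ k)⁻¹ * l * x ^ k), Subgroup.mul_mem _ hb ?_, ?_⟩
      · apply hmove k hk (by omega)
        rw [mem_map_conj]
        simpa [mul_assoc] using hl
      · have e : (l * x⁻¹) ^ (k + 1) * x ^ (k + 1) =
            ((l * x⁻¹) ^ k * x ^ k) * ((x ^ k)⁻¹ * l * x ^ k) := by
          rw [pow_succ, pow_succ]; group
        rw [e, hbe]; group
  obtain ⟨b, hb, hbe⟩ := key p hp.one_lt.le le_rfl
  refine ⟨b, hb, ?_⟩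
  have hxp : x ^ p = 1 := by rw [← hx]; exact pow_orderOf_eq_one x
  rw [hxp, mul_one] at hbe
  exact hbe

/-- Let G be finite with O_{p'}(G) = 1, x of order p, and L a component with ⁅L, ⟨x⟩⁆ ≠ L. Then ⁅L, O_{p'}(C_G(x))⁆ = 1. -/
theorem result {G : Type*} [Group G] [Finite G] (p : ℕ) [Fact p.Prime] (hO : Cfsg.pPrimeCore p G = ⊥) (x : G) (hx : orderOf x = p) (L : Subgroup G) (hL : Cfsg.IsComponent L) (hne : ⁅L, Subgroup.zpowers x⁆ ≠ L) : ⁅L, Cfsg.centralizerPPrimeCore p x⁆ = ⊥ := by
  have hp : p.Prime := Fact.out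
  set W' := Cfsg.centralizerPPrimeCore p x with hW'
  set C := Subgroup.centralizer ({x} : Set G) with hC
  have hxp : IsPGroup p ↥(Subgroup.zpowers x) := by
    apply IsPGroup.of_card (n := 1)
    rw [Nat.card_zpowers, hx, pow_one]
  have hWN : ∀ K : Subgroup G, Cfsg.IsComponent K → W' ≤ Subgroup.normalizer (K : Set G) :=
    fun K hK => (cpc_le p x).trans (normPPrimeCore_le_normalizer_component p hO hxp hK)
  have hWc : (Nat.card W').Coprime p := map_pPrimeCore_coprime p C
  have hCW : C ≤ Subgroup.normalizer (W' : Set G) := le_normalizer_map_pPrimeCore p C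
  have hpL : ¬ L ≤ W' := by
    intro h
    have h1 : p ∣ Nat.card ↥L := component_p_dvd_card p hO hL
    have h2 : Nat.card ↥L ∣ Nat.card ↥W' := Subgroup.card_dvd_of_le h
    have h3 := Nat.Coprime.eq_one_of_dvd hWc.symm (h1.trans h2)
    exact hp.one_lt.ne' h3
  by_cases hxL : x ∈ Subgroup.normalizer (L : Set G)
  · -- x normalizes L, hence centralizes it
    have hzL : Subgroup.zpowers x ≤ Subgroup.normalizer (L : Set G) := Subgroup.zpowers_le.mpr hxL
    have hAL : ⁅L, Subgroup.zpowers x⁆ ≤ L := Subgroup.le_normalizer_iff_commutator_le_left.mp hzL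
    have hLA := le_normalizer_commutator_left L (Subgroup.zpowers x)
    rcases component_le_or_comm hL hLA with h | h
    · exact absurd (le_antisymm hAL h) hne
    · have h1 : ⁅⁅L, Subgroup.zpowers x⁆, L⁆ = ⊥ := by rw [Subgroup.commutator_comm]; exact h
      have h2 : ⁅⁅Subgroup.zpowers x, L⁆, L⁆ = ⊥ := by
        rw [Subgroup.commutator_comm (Subgroup.zpowers x) L]; exact h1
      have h3 : ⁅⁅L, L⁆, Subgroup.zpowers x⁆ = ⊥ :=
        Subgroup.commutator_commutator_eq_bot_of_rotate h1 h2
      rw [component_perfect hL, Subgroup.commutator_eq_bot_iff_le_centralizer,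
        ← centralizer_singleton_eq] at h3
      have hLW : L ≤ Subgroup.normalizer (W' : Set G) := h3.trans hCW
      rcases component_le_or_comm hL hLW with h' | h'
      · exact absurd h' hpL
      · exact h'
  · -- x moves L
    set Lc := sSup {K : Subgroup G | Cfsg.IsComponent K ∧ K ≠ L} with hLc
    set CL := Subgroup.centralizer (L : Set G) with hCL
    have hLcC : Lc ≤ CL := by
      apply sSup_le
      rintro K ⟨hK, hKL⟩
      have := components_commute hK hL hKL
      rwa [Subgroup.commutator_eq_bot_iff_le_centralizer] at this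
    have hNLCL : Subgroup.normalizer (L : Set G) ≤ Subgroup.normalizer (CL : Set G) :=
      normalizer_le_normalizer_centralizer L
    have hWCL : W' ≤ Subgroup.normalizer (CL : Set G) := (hWN L hL).trans hNLCL
    have hLH : L ≤ Subgroup.normalizer ((W' ⊔ CL : Subgroup G) : Set G) := by
      intro l hl
      obtain ⟨b, hb, hbe⟩ := diag_elem hx hL hxL hl
      have hbCL : b ∈ CL := hLcC hb
      have hbl : Commute b l := (Subgroup.mem_centralizer_iff.mp hbCL l hl).symm
      have hδl : Commute ((l * x⁻¹) ^ p) l := by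
        rw [hbe]
        exact (Commute.refl l).mul_left hbl
      have hδlx : Commute ((l * x⁻¹) ^ p) (l * x⁻¹) := (Commute.refl (l * x⁻¹)).pow_left p
      have hδx : Commute ((l * x⁻¹) ^ p) x := by
        have h1 : Commute ((l * x⁻¹) ^ p) (l⁻¹ * (l * x⁻¹)) := hδl.inv_right.mul_right hδlx
        have e : l⁻¹ * (l * x⁻¹) = x⁻¹ := by group
        rw [e] at h1
        have := h1.inv_right
        rwa [inv_inv] at this
      have hδC : (l * x⁻¹) ^ p ∈ C := by
        rw [hC, Subgroup.mem_centralizer_iff]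
        intro y hy
        rw [Set.mem_singleton_iff] at hy
        subst hy
        exact hδx.symm
      have hδW : (l * x⁻¹) ^ p ∈ Subgroup.normalizer (W' : Set G) := hCW hδC
      have hδCL : (l * x⁻¹) ^ p ∈ Subgroup.normalizer (CL : Set G) := by
        rw [hbe]
        apply hNLCL
        exact Subgroup.mul_mem _ (Subgroup.le_normalizer hl)
          (Subgroup.centralizer_le_normalizer _ hbCL)
      have hδH := normalizer_inf_normalizer_le_sup W' CL ⟨hδW, hδCL⟩
      have hbH : b⁻¹ ∈ Subgroup.normalizer ((W' ⊔ CL : Subgroup G) : Set G) :=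
        Subgroup.le_normalizer (Subgroup.mem_sup_right (Subgroup.inv_mem _ hbCL))
      have := Subgroup.mul_mem _ hδH hbH
      rw [hbe] at this
      have e : l * b * b⁻¹ = l := by group
      rwa [e] at this
    rcases component_le_or_comm hL hLH with h | h
    · exfalso
      obtain ⟨y, hyL, hyp, hyZ⟩ := exists_pelement_not_mem_layerCenter p hO hL
      have hy1 : (y : G) ∈ ((W' ⊔ CL : Subgroup G) : Set G) := h hyL
      rw [Subgroup.coe_mul_of_left_le_normalizer_right W' CL hWCL, Set.mem_mul] at hy1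
      obtain ⟨u, hu, c, hc, huc⟩ := hy1
      have hu : u ∈ W' := hu
      have hc : c ∈ CL := hc
      have hun : ∀ z ∈ CL, u * z * u⁻¹ ∈ CL := fun z hz =>
        conj_mem_of_mem_normalizer' (hWCL hu) hz
      obtain ⟨c', hc', hpow⟩ := mul_pow_mem_of_normalizes hun (hun c hc) (Nat.card W')
      have e1 : u * c * u⁻¹ * u = y := by rw [← huc]; group
      rw [e1] at hpow
      have hu1 : u ^ Nat.card W' = 1 := by
        have : (⟨u, hu⟩ : W') ^ Nat.card W' = 1 := pow_card_eq_one'
        exact congrArg Subtype.val this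
      rw [hu1, mul_one] at hpow
      have hyo : (Nat.card W').Coprime (orderOf y) := by
        obtain ⟨k, hk⟩ := IsPGroup.iff_card.mp hyp
        rw [Nat.card_zpowers] at hk
        rw [hk]
        exact Nat.Coprime.pow_right k hWc
      obtain ⟨j, hj⟩ := exists_pow_eq_self_of_coprime hyo
      have hyCL : y ∈ CL := by
        rw [← hj, hpow]
        exact Subgroup.pow_mem _ hc' _
      apply hyZ
      apply mem_layerCenter_of_comm (component_le_layer hL hyL)
      intro K hK
      by_cases hKL : K = L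
      · rw [hKL]; exact hyCL
      · have := components_commute hL hK (Ne.symm hKL)
        rw [Subgroup.commutator_eq_bot_iff_le_centralizer] at this
        exact this hyL
    · rw [eq_bot_iff]
      calc ⁅L, W'⁆ ≤ ⁅L, W' ⊔ CL⁆ := Subgroup.commutator_mono le_rfl le_sup_left
        _ = ⊥ := h

end Cfsg.Agent.S1270
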