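import Mathlib
import Cfsg.Statements.S1280
import Cfsg.Agent.Lib.Helper3.Frattini2
import Cfsg.Agent.Lib.Helper3.Radical

set_option autoImplicit false
open Cfsg
open Cfsg.Agent.Lib.Helper3
open scoped commutatorElement

namespace Cfsg.Agent.S1280

lemma isPGroup_zpowers {G : Type*} [Group G] {p : ℕ} {a : G} (hap : a ^ p = 1) :
    IsPGroup p ↥(Subgroup.zpowers a) := by
  intro x
  obtain ⟨x, hx⟩ := x
  obtain ⟨k, rfl⟩ := Subgroup.mem_zpowers_iff.mp hx
  refine ⟨1, ?_⟩
  apply Subtype.ext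
  simp only [pow_one, Subgroup.coe_pow, Subgroup.coe_one]
  rw [← zpow_natCast, ← zpow_mul, mul_comm, zpow_mul, zpow_natCast, hap, one_zpow]

lemma mem_normalizer_of_inv {G : Type*} [Group G] {A U : Subgroup G}
    (h : ∀ b ∈ A, ∀ u ∈ U, b * u * b⁻¹ ∈ U) {b : G} (hb : b ∈ A) :
    b ∈ Subgroup.normalizer (U : Set G) := by
  apply mem_normalizer_of_conj_mem
  · intro y hy; exact h b hb y hy
  · intro y hy
    have := h b⁻¹ (A.inv_mem hb) y hy
    simpa using this

theorem result {G : Type*} [Group G] [Finite G] (p : ℕ) [Fact p.Prime] (A : Subgroup G) (hA : Cfsg.IsElementaryAbelian p A) (hA2 : p ^ 2 ≤ Nat.card ↥A) (θ : G → Subgroup G) (hθ : Cfsg.IsSolvableSignalizerFunctor p A θ) (X Y : Subgroup G) (hX : X ∈ Cfsg.signalizerFamily p A θ) (hY : Y ∈ Cfsg.signalizerFamily p A θ) (hn : Y ≤ Subgroup.normalizer (X : Set G)) : X ⊔ Y ∈ Cfsg.signalizerFamily p A θ := by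
  obtain ⟨hXs, hXp, hXA, hXθ⟩ := hX
  obtain ⟨hYs, hYp, hYA, hYθ⟩ := hY
  have hpp : p.Prime := Fact.out
  have hXc : (Nat.card ↥X).Coprime p := ((Nat.Prime.coprime_iff_not_dvd hpp).mpr hXp).symm
  have hYc : (Nat.card ↥Y).Coprime p := ((Nat.Prime.coprime_iff_not_dvd hpp).mpr hYp).symm
  refine ⟨solvable_sup_of_le_normalizer hXs hYs hn, ?_, ?_, ?_⟩
  · have h1 : Nat.card ↥(X ⊔ Y) ∣ Nat.card ↥X * Nat.card ↥Y := card_sup_dvd_mul_of_le_normalizer hn
    have h2 : (Nat.card ↥X * Nat.card ↥Y).Coprime p := Nat.Coprime.mul_left hXc hYc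
    have h3 : (Nat.card ↥(X ⊔ Y)).Coprime p := Nat.Coprime.coprime_dvd_left h1 h2
    exact (Nat.Prime.coprime_iff_not_dvd hpp).mp h3.symm
  · intro b hb u hu
    have hbX := mem_normalizer_of_inv hXA hb
    have hbY := mem_normalizer_of_inv hYA hb
    have h1 : X ⊔ Y ≤ (X ⊔ Y).comap (MulAut.conj b).toMonoidHom := by
      apply sup_le
      · intro x hx
        rw [Subgroup.mem_comap]
        apply Subgroup.mem_sup_left
        simpa using conj_mem_of_mem_normalizer' hbX hx
      · intro x hx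
        rw [Subgroup.mem_comap]
        apply Subgroup.mem_sup_right
        simpa using conj_mem_of_mem_normalizer' hbY hx
    have h2 := h1 hu
    rw [Subgroup.mem_comap] at h2
    simpa using h2
  · intro a ha ha1
    rintro g ⟨hg, hga⟩
    have hga' : g * a = a * g := by
      have := Subgroup.mem_centralizer_iff.mp hga a rfl
      exact this.symm
    obtain ⟨y, hy, x, hx, hgyx⟩ := mem_mul_of_mem_sup_left_normal hn
      (show g ∈ Y ⊔ X by rw [sup_comm]; exact hg)
    have haX := mem_normalizer_of_inv hXA ha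
    have haY := mem_normalizer_of_inv hYA ha
    set R := X ⊓ Y with hR
    have hRc : (Nat.card ↥R).Coprime p :=
      Nat.Coprime.coprime_dvd_left (Subgroup.card_dvd_of_le inf_le_left) hXc
    have hP : IsPGroup p ↥(Subgroup.zpowers a) := isPGroup_zpowers (hA.2 a ha)
    have hPR : Subgroup.zpowers a ≤ Subgroup.normalizer (R : Set G) := by
      rw [Subgroup.zpowers_le]
      apply normalizer_inf_normalizer_le
      exact ⟨haX, haY⟩
    have hyR : y ∈ Subgroup.normalizer (R : Set G) := by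
      apply normalizer_inf_normalizer_le
      exact ⟨hn hy, Subgroup.le_normalizer hy⟩
    have hd : ∀ t ∈ Subgroup.zpowers a, ⁅y, t⁆ ∈ R := by
      intro t ht
      have htX : t ∈ Subgroup.normalizer (X : Set G) := (Subgroup.zpowers_le.mpr haX) ht
      have htY : t ∈ Subgroup.normalizer (Y : Set G) := (Subgroup.zpowers_le.mpr haY) ht
      have hgt : g * t = t * g := by
        obtain ⟨k, rfl⟩ := Subgroup.mem_zpowers_iff.mp ht
        have hc : Commute g a := hga'
        exact hc.zpow_right k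
      refine ⟨?_, ?_⟩
      · show ⁅y, t⁆ ∈ X
        have hyg : y = g * x⁻¹ := by rw [hgyx]; group
        have e : ⁅y, t⁆ = g * (x⁻¹ * (t * x * t⁻¹)) * g⁻¹ := by
          rw [commutatorElement_def, hyg]
          have : g * x⁻¹ * t * (g * x⁻¹)⁻¹ * t⁻¹ = g * x⁻¹ * t * x * (g⁻¹ * t⁻¹) := by group
          rw [this]
          have h5 : g⁻¹ * t⁻¹ = t⁻¹ * g⁻¹ := by
            rw [← mul_inv_rev, ← mul_inv_rev, hgt]
          rw [h5]; group
        rw [e]
        have hgX : g ∈ Subgroup.normalizer (X : Set G) :=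
          (sup_le Subgroup.le_normalizer hn : X ⊔ Y ≤ _) hg
        apply conj_mem_of_mem_normalizer' hgX
        exact X.mul_mem (X.inv_mem hx) (conj_mem_of_mem_normalizer' htX hx)
      · show ⁅y, t⁆ ∈ Y
        rw [commutatorElement_def]
        have : y * t * y⁻¹ * t⁻¹ = y * (t * y⁻¹ * t⁻¹) := by group
        rw [this]
        exact Y.mul_mem hy (conj_mem_of_mem_normalizer' htY (Y.inv_mem hy))
    obtain ⟨n, hnR, hny⟩ := exists_mul_mem_centralizer_rel hPR hRc hP y hyR hd
    have hnya : n * y ∈ Subgroup.centralizer ({a} : Set G) := by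
      rw [Subgroup.mem_centralizer_iff]
      intro z hz
      rw [Set.mem_singleton_iff] at hz
      rw [hz]
      exact Subgroup.mem_centralizer_iff.mp hny a (Subgroup.mem_zpowers a)
    have h6 : n * y ∈ θ a := hYθ a ha ha1 ⟨Y.mul_mem hnR.2 hy, hnya⟩
    -- g = (n y) * ((n y)⁻¹ g)
    have h7 : (n * y)⁻¹ * g ∈ X := by
      have : (n * y)⁻¹ * g = y⁻¹ * n⁻¹ * y * x := by rw [hgyx]; group
      rw [this]
      apply X.mul_mem _ hx
      have := conj_inv_mem_of_mem_normalizer' (hn hy) (X.inv_mem hnR.1)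
      exact this
    have h8 : (n * y)⁻¹ * g ∈ Subgroup.centralizer ({a} : Set G) :=
      Subgroup.mul_mem _ (Subgroup.inv_mem _ hnya) hga
    have h9 : (n * y)⁻¹ * g ∈ θ a := hXθ a ha ha1 ⟨h7, h8⟩
    have : g = (n * y) * ((n * y)⁻¹ * g) := by group
    rw [this]
    exact (θ a).mul_mem h6 h9

end Cfsg.Agent.S1280
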