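import Cfsg.Statements.S3917
import Mathlib

set_option autoImplicit false
open Cfsg

namespace Cfsg.Agent.S3917

section
variable {G : Type*} [CommGroup G] [Finite G]

/-- the `n`-torsion subgroup -/
def tors (G : Type*) [CommGroup G] (n : ℕ) : Subgroup G := (powMonoidHom n : G →* G).ker

theorem mem_tors (n : ℕ) (x : G) : x ∈ tors G n ↔ x ^ n = 1 := by
  unfold tors
  rw [MonoidHom.mem_ker, powMonoidHom_apply]

theorem card_tors_mul_le (q m : ℕ) :
    Nat.card (tors G (q * m)) ≤ Nat.card (tors G q) * Nat.card (tors G m) := by
  set A := tors G (q * m) with hA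
  let g : A →* G := (powMonoidHom q).comp A.subtype
  have hg : ∀ a : A, g a = (a : G) ^ q := fun a => rfl
  have h1 : Nat.card A = Nat.card g.ker * Nat.card g.range := by
    rw [← Subgroup.index_ker, Subgroup.card_mul_index]
  have h2 : Nat.card g.range ≤ Nat.card (tors G m) := by
    apply Subgroup.card_le_of_le
    rintro _ ⟨a, rfl⟩
    rw [hg, mem_tors, ← pow_mul]
    exact (mem_tors _ _).mp a.2
  have h3 : Nat.card g.ker ≤ Nat.card (tors G q) := by
    have hmem : ∀ a : g.ker, ((a : A) : G) ∈ tors G q := by
      intro a
      rw [mem_tors, ← hg]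
      exact a.2
    apply Nat.card_le_card_of_injective (fun a : g.ker => (⟨((a : A) : G), hmem a⟩ : tors G q))
    intro a b hab
    have := congrArg Subtype.val hab
    exact Subtype.ext (Subtype.ext this)
  rw [h1]
  exact Nat.mul_le_mul h3 h2

theorem card_tors_le_of_prime (hq : ∀ q : ℕ, q.Prime → Nat.card (tors G q) ≤ q) :
    ∀ n : ℕ, 0 < n → Nat.card (tors G n) ≤ n := by
  intro n
  induction n using Nat.strong_induction_on with
  | _ n ih =>
    intro hn
    by_cases h1 : n = 1
    · subst h1
      have : tors G 1 = ⊥ := by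
        ext x; rw [mem_tors, pow_one, Subgroup.mem_bot]
      rw [this, Subgroup.card_bot]
    · have hqp : (n.minFac).Prime := Nat.minFac_prime h1
      obtain ⟨m, hm⟩ := Nat.minFac_dvd n
      have hm0 : 0 < m := by
        rcases Nat.eq_zero_or_pos m with rfl | h
        · rw [mul_zero] at hm; omega
        · exact h
      have hmlt : m < n := by
        rw [hm]
        exact lt_mul_of_one_lt_left hm0 hqp.one_lt
      calc Nat.card (tors G n) = Nat.card (tors G (n.minFac * m)) := by rw [← hm]
        _ ≤ Nat.card (tors G n.minFac) * Nat.card (tors G m) := card_tors_mul_le _ _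
        _ ≤ n.minFac * m := Nat.mul_le_mul (hq _ hqp) (ih m hmlt hm0)
        _ = n := hm.symm

theorem isCyclic_of_tors (hq : ∀ q : ℕ, q.Prime → Nat.card (tors G q) ≤ q) : IsCyclic G := by
  classical
  haveI : Fintype G := Fintype.ofFinite G
  apply isCyclic_of_card_pow_eq_one_le
  intro n hn
  have h := card_tors_le_of_prime hq n hn
  have e : Nat.card (tors G n) = (Finset.univ.filter fun a : G => a ^ n = 1).card := by
    rw [Nat.card_eq_fintype_card, ← Fintype.card_subtype]
    apply Fintype.card_congr
    exact Equiv.subtypeEquivRight (fun x => mem_tors n x)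
  rw [← e]; exact h

end

/-- Say that a group has self-centralizing non-cyclic subgroups when every non-cyclic subgroup H satisfies C_G(H) ≤ H. A finite abelian group with self-centralizing non-cyclic subgroups is cyclic or elementary abelian of order p² for a prime p. -/
theorem result {G : Type*} [CommGroup G] [Finite G] (hX : (∀ H : Subgroup G, ¬ IsCyclic ↥H → Subgroup.centralizer (H : Set G) ≤ H)) :
    IsCyclic G ∨ ∃ p : ℕ, p.Prime ∧ Nat.card G = p ^ 2 ∧ Monoid.exponent G = p := by
  -- non-cyclic subgroups are everything
  have hX' : ∀ H : Subgroup G, ¬ IsCyclic ↥H → H = ⊤ := by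
    intro H hH
    have h1 := hX H hH
    rw [eq_top_iff]
    intro x _
    apply h1
    rw [Subgroup.mem_centralizer_iff]
    intro y _
    exact mul_comm y x
  by_cases hcase : ∀ q : ℕ, q.Prime → Nat.card (tors G q) ≤ q
  · left; exact isCyclic_of_tors hcase
  · right
    push_neg at hcase
    obtain ⟨q, hq, hlt⟩ := hcase
    haveI : Fact q.Prime := ⟨hq⟩
    have hpow : ∀ x : tors G q, x ^ q = 1 := by
      intro x
      apply Subtype.ext
      simpa using (mem_tors q (x : G)).mp x.2
    have hnc : ¬ IsCyclic ↥(tors G q) := by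
      intro hc
      have h1 : Monoid.exponent ↥(tors G q) = Nat.card ↥(tors G q) := IsCyclic.exponent_eq_card
      have h2 : Monoid.exponent ↥(tors G q) ∣ q := Monoid.exponent_dvd_of_forall_pow_eq_one hpow
      rw [h1] at h2
      exact absurd (Nat.le_of_dvd hq.pos h2) (not_le.mpr hlt)
    have htop := hX' _ hnc
    have hall : ∀ x : G, x ^ q = 1 := by
      intro x
      rw [← mem_tors, htop]; exact Subgroup.mem_top x
    have hcardlt : q < Nat.card G := by
      rw [htop, Subgroup.card_top] at hlt; exact hlt
    haveI : Nontrivial G := by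
      rw [← Finite.one_lt_card_iff_nontrivial]
      exact lt_trans hq.one_lt hcardlt
    have hexp : Monoid.exponent G = q := by
      rw [Monoid.exponent_eq_prime_iff hq]
      intro g hg
      exact orderOf_eq_prime (hall g) hg
    have hpG : IsPGroup q G := by
      intro g
      exact ⟨1, by rw [pow_one]; exact hall g⟩
    obtain ⟨k, hk⟩ := IsPGroup.iff_card.mp hpG
    refine ⟨q, hq, ?_, hexp⟩
    have hk2 : 2 ≤ k := by
      by_contra hk2
      have : k ≤ 1 := by omega
      have : q ^ k ≤ q ^ 1 := Nat.pow_le_pow_right hq.pos this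
      rw [pow_one, ← hk] at this
      omega
    obtain ⟨K, hK⟩ := Sylow.exists_subgroup_card_pow_prime q (n := 2)
      (by rw [hk]; exact pow_dvd_pow q hk2)
    have hKnc : ¬ IsCyclic ↥K := by
      rw [not_isCyclic_iff_exponent_eq_prime hq hK]
      haveI : Nontrivial K := by
        rw [← Finite.one_lt_card_iff_nontrivial, hK]
        exact Nat.one_lt_pow (by norm_num) hq.one_lt
      rw [Monoid.exponent_eq_prime_iff hq]
      intro g hg
      apply orderOf_eq_prime _ hg
      apply Subtype.ext
      simpa using hall (g : G)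
    have hKtop := hX' K hKnc
    rw [← Subgroup.card_top (G := G), ← hKtop, hK]

end Cfsg.Agent.S3917
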