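import Mathlib
import Cfsg.Statements.S1282
import Cfsg.Agent.Lib.Helper3.Frattini2
import Cfsg.Agent.Lib.Helper5.CopGen2

set_option autoImplicit false
open Cfsg
open Cfsg.Agent.Lib.Helper3
open scoped commutatorElement

namespace Cfsg.Agent.S1282

lemma orderOf_eq_of_pow {G : Type*} [Group G] {p : ℕ} [hp : Fact p.Prime] {x : G}
    (hx : x ^ p = 1) (hx1 : x ≠ 1) : orderOf x = p := by
  have h1 : orderOf x ∣ p := orderOf_dvd_of_pow_eq_one hx
  rcases (Nat.dvd_prime hp.out).mp h1 with h | h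
  · exact absurd (orderOf_eq_one_iff.mp h) hx1
  · exact h

lemma mem_zpowers_of_mem_of_ne_one {G : Type*} [Group G] [Finite G] {p : ℕ} [hp : Fact p.Prime]
    {x v : G} (hx : x ^ p = 1) (hv : v ∈ Subgroup.zpowers x) (hv1 : v ≠ 1) :
    x ∈ Subgroup.zpowers v := by
  have hx1 : x ≠ 1 := by
    rintro rfl
    rw [Subgroup.zpowers_one_eq_bot, Subgroup.mem_bot] at hv
    exact hv1 hv
  have hvp : v ^ p = 1 := by
    obtain ⟨k, rfl⟩ := Subgroup.mem_zpowers_iff.mp hv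
    rw [← zpow_natCast, ← zpow_mul, mul_comm, zpow_mul, zpow_natCast, hx, one_zpow]
  have h1 : Subgroup.zpowers v ≤ Subgroup.zpowers x := Subgroup.zpowers_le.mpr hv
  have h2 : Subgroup.zpowers v = Subgroup.zpowers x := by
    apply Subgroup.eq_of_le_of_card_ge h1
    rw [Nat.card_zpowers, Nat.card_zpowers, orderOf_eq_of_pow hx hx1, orderOf_eq_of_pow hvp hv1]
  rw [h2]; exact Subgroup.mem_zpowers x

theorem exists_big_centralizer {G : Type*} [Group G] [Finite G] (p : ℕ) [hp : Fact p.Prime]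
    (A N D : Subgroup G)
    (hcomm : ∀ a ∈ A, ∀ b ∈ A, a * b = b * a) (hexp : ∀ a ∈ A, a ^ p = 1)
    (hAN : A ≤ Subgroup.normalizer (N : Set G)) (hN : ¬ p ∣ Nat.card ↥N) (hND : ¬ N ≤ D) :
    ∃ B : Subgroup G, B ≤ A ∧ Nat.card ↥A ≤ p * Nat.card ↥B ∧
      ¬ (N ⊓ Subgroup.centralizer (B : Set G) ≤ D) := by
  have hP0 : (⊥ : Subgroup G) ≤ A ∧ ¬ (N ⊓ Subgroup.centralizer ((⊥ : Subgroup G) : Set G) ≤ D) := by
    refine ⟨bot_le, ?_⟩
    rw [Subgroup.coe_bot, Subgroup.centralizer_eq_top_iff_subset.mpr (by simp), inf_top_eq]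
    exact hND
  obtain ⟨B, hB⟩ := exists_maximal_of_wellFoundedGT
    (fun B : Subgroup G => B ≤ A ∧ ¬ (N ⊓ Subgroup.centralizer (B : Set G) ≤ D)) ⟨⊥, hP0⟩
  have hBA : B ≤ A := hB.prop.1
  have hBD := hB.prop.2
  refine ⟨B, hBA, ?_, hBD⟩
  by_contra hlt
  rw [not_le] at hlt
  -- x ∈ A \ B
  have hx : ∃ x ∈ A, x ∉ B := by
    by_contra hcon
    push Not at hcon
    have h1 : Nat.card ↥A ≤ Nat.card ↥B := Nat.le_of_dvd Nat.card_pos (Subgroup.card_dvd_of_le hcon)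
    have : Nat.card ↥B ≤ p * Nat.card ↥B := Nat.le_mul_of_pos_left _ hp.out.pos
    omega
  obtain ⟨x, hxA, hxB⟩ := hx
  have hx1 : x ≠ 1 := fun h => hxB (h ▸ B.one_mem)
  have hxp := hexp x hxA
  set B₁ := B ⊔ Subgroup.zpowers x with hB₁
  have hB₁A : B₁ ≤ A := sup_le hBA (Subgroup.zpowers_le.mpr hxA)
  have hcentA : ∀ S : Subgroup G, S ≤ A → A ≤ Subgroup.centralizer (S : Set G) := by
    intro S hS a ha
    rw [Subgroup.mem_centralizer_iff]
    intro s hs
    exact hcomm s (hS hs) a ha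
  have hB₁card : Nat.card ↥B₁ ≤ Nat.card ↥B * p := by
    have h1 : Subgroup.zpowers x ≤ Subgroup.normalizer (B : Set G) :=
      ((Subgroup.zpowers_le.mpr hxA).trans (hcentA B hBA)).trans
        (Subgroup.centralizer_le_normalizer _)
    have h2 := card_sup_dvd_mul_of_le_normalizer h1
    rw [Nat.card_zpowers, orderOf_eq_of_pow hxp hx1] at h2
    exact Nat.le_of_dvd (Nat.mul_pos Nat.card_pos hp.out.pos) h2
  have hy : ∃ y ∈ A, y ∉ B₁ := by
    by_contra hcon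
    push Not at hcon
    have h1 : Nat.card ↥A ≤ Nat.card ↥B₁ := Nat.le_of_dvd Nat.card_pos (Subgroup.card_dvd_of_le hcon)
    have : Nat.card ↥B * p = p * Nat.card ↥B := mul_comm _ _
    omega
  obtain ⟨y, hyA, hyB₁⟩ := hy
  have hyp := hexp y hyA
  set E := Subgroup.zpowers x ⊔ Subgroup.zpowers y with hE
  have hEA : E ≤ A := sup_le (Subgroup.zpowers_le.mpr hxA) (Subgroup.zpowers_le.mpr hyA)
  haveI hEc : IsMulCommutative ↥E :=
    ⟨⟨fun a b => Subtype.ext (hcomm a (hEA a.2) b (hEA b.2))⟩⟩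
  have hEp : IsPGroup p ↥E := by
    intro c
    refine ⟨1, ?_⟩
    apply Subtype.ext
    simp only [pow_one, Subgroup.coe_pow, Subgroup.coe_one]
    exact hexp _ (hEA c.2)
  -- E is not cyclic
  have hEnc : ¬ IsCyclic ↥E := by
    intro hcyc
    have h1 : Monoid.exponent ↥E = Nat.card ↥E := IsCyclic.exponent_eq_card
    have h2 : Monoid.exponent ↥E ∣ p := by
      apply Monoid.exponent_dvd_of_forall_pow_eq_one
      intro c
      apply Subtype.ext
      simp only [Subgroup.coe_pow, Subgroup.coe_one]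
      exact hexp _ (hEA c.2)
    rw [h1] at h2
    have h3 : Subgroup.zpowers x = E := by
      apply Subgroup.eq_of_le_of_card_ge le_sup_left
      rw [Nat.card_zpowers, orderOf_eq_of_pow hxp hx1]
      exact Nat.le_of_dvd hp.out.pos h2
    apply hyB₁
    apply (le_sup_right : Subgroup.zpowers x ≤ B₁)
    rw [h3]
    exact (le_sup_right : Subgroup.zpowers y ≤ E) (Subgroup.mem_zpowers y)
  set N' := N ⊓ Subgroup.centralizer (B : Set G) with hN'
  have hAN' : A ≤ Subgroup.normalizer (N' : Set G) := by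
    refine le_trans ?_ (normalizer_inf_normalizer_le _ _)
    exact le_inf hAN ((hcentA B hBA).trans Subgroup.le_normalizer)
  have hcop : (Nat.card ↥E).Coprime (Nat.card ↥N') := by
    obtain ⟨k, hk⟩ := IsPGroup.iff_card.mp hEp
    rw [hk]
    apply Nat.Coprime.pow_left
    have h1 : (Nat.card ↥N).Coprime p :=
      ((Nat.Prime.coprime_iff_not_dvd hp.out).mpr hN).symm
    exact (Nat.Coprime.coprime_dvd_left (Subgroup.card_dvd_of_le inf_le_left) h1).symm
  have hgen := Cfsg.Agent.Lib.Helper5.iSup_centralizer_eq_of_not_cyclic E N' hEnc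
    (hEA.trans hAN') hcop
  have he : ∃ e ∈ E, e ≠ 1 ∧ ¬ (N' ⊓ Subgroup.centralizer {e} ≤ D) := by
    by_contra hcon
    push Not at hcon
    apply hBD
    rw [← hgen]
    apply iSup₂_le
    intro e he
    exact hcon e he.1 he.2
  obtain ⟨e, heE, he1, heD⟩ := he
  -- e ∈ B by maximality
  have heB : e ∈ B := by
    have hC : B ⊔ Subgroup.zpowers e ≤ A ∧
        ¬ (N ⊓ Subgroup.centralizer ((B ⊔ Subgroup.zpowers e : Subgroup G) : Set G) ≤ D) := by
      refine ⟨sup_le hBA (Subgroup.zpowers_le.mpr (hEA heE)), ?_⟩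
      intro hle
      apply heD
      rintro g ⟨⟨hgN, hgB⟩, hge⟩
      apply hle
      refine ⟨hgN, ?_⟩
      have h1 : B ⊔ Subgroup.zpowers e ≤ Subgroup.centralizer ({g} : Set G) := by
        apply sup_le
        · intro b hb
          rw [Subgroup.mem_centralizer_iff]
          intro z hz
          rw [Set.mem_singleton_iff] at hz
          rw [hz]
          exact (Subgroup.mem_centralizer_iff.mp hgB b hb).symm
        · rw [Subgroup.zpowers_le, Subgroup.mem_centralizer_iff]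
          intro z hz
          rw [Set.mem_singleton_iff] at hz
          rw [hz]
          exact (Subgroup.mem_centralizer_iff.mp hge e rfl).symm
      show g ∈ Subgroup.centralizer ((B ⊔ Subgroup.zpowers e : Subgroup G) : Set G)
      rw [Subgroup.mem_centralizer_iff]
      intro c hc
      exact (Subgroup.mem_centralizer_iff.mp (h1 hc) g rfl).symm
    have h2 := hB.le_of_ge hC le_sup_left
    exact h2 (le_sup_right (a := B) (Subgroup.mem_zpowers e))
  -- decompose e = u * v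
  have hxy : Subgroup.zpowers x ≤ Subgroup.normalizer ((Subgroup.zpowers y : Subgroup G) : Set G) :=
    ((Subgroup.zpowers_le.mpr hxA).trans (hcentA _ (Subgroup.zpowers_le.mpr hyA))).trans
      (Subgroup.centralizer_le_normalizer _)
  obtain ⟨u, hu, v, hv, huv⟩ := mem_mul_of_mem_sup_left_normal hxy heE
  have hv1 : v = 1 := by
    by_contra hv1
    apply hyB₁
    have h1 : v ∈ B₁ := by
      have : v = u⁻¹ * e := by rw [huv]; group
      rw [this]
      exact B₁.mul_mem (B₁.inv_mem (le_sup_right (a := B) hu)) (le_sup_left (b := Subgroup.zpowers x) heB)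
    exact (Subgroup.zpowers_le.mpr h1) (mem_zpowers_of_mem_of_ne_one hyp hv hv1)
  rw [hv1, mul_one] at huv
  apply hxB
  rw [← huv] at hu
  exact (Subgroup.zpowers_le.mpr heB) (mem_zpowers_of_mem_of_ne_one hxp hu he1)

lemma normalizer_inf_not_le {G : Type*} [Group G] [Finite G] {q : ℕ} [Fact q.Prime]
    {Q D : Subgroup G} (hQ : IsPGroup q ↥Q) (hDQ : D ≤ Q) (hne : D ≠ Q) :
    ¬ (Subgroup.normalizer (D : Set G) ⊓ Q ≤ D) := by
  intro hle
  haveI : Group.IsNilpotent ↥Q := hQ.isNilpotent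
  have hnc : NormalizerCondition ↥Q := Group.normalizerCondition_of_isNilpotent
  have hlt : D.subgroupOf Q < ⊤ := by
    rw [lt_top_iff_ne_top, Ne, Subgroup.subgroupOf_eq_top]
    intro h
    exact hne (le_antisymm hDQ h)
  have h1 := hnc _ hlt
  rw [← Subgroup.subgroupOf_normalizer_eq hDQ] at h1
  apply h1.not_ge
  intro x hx
  rw [Subgroup.mem_subgroupOf] at hx ⊢
  exact hle ⟨hx, x.2⟩

lemma inf_ne_bot_of_big {G : Type*} [Group G] [Finite G] {p : ℕ} (hp : p.Prime)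
    {A B₁ B₂ : Subgroup G} (h1 : B₁ ≤ A) (h2 : B₂ ≤ A)
    (hA3 : p ^ 3 ≤ Nat.card ↥A) (hc1 : Nat.card ↥A ≤ p * Nat.card ↥B₁)
    (hc2 : Nat.card ↥A ≤ p * Nat.card ↥B₂) : B₁ ⊓ B₂ ≠ ⊥ := by
  intro hbot
  have e1 : Nat.card ↥B₂ = B₁.relIndex B₂ := by
    rw [← Subgroup.inf_relIndex_right, hbot, Subgroup.relIndex_bot_left]
  have e2 : Nat.card ↥B₁ * B₁.relIndex A = Nat.card ↥A := by
    have := Subgroup.relIndex_mul_relIndex ⊥ B₁ A bot_le h1
    rwa [Subgroup.relIndex_bot_left, Subgroup.relIndex_bot_left] at this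
  have hne : B₁.relIndex A ≠ 0 := by
    intro h0
    rw [h0, mul_zero] at e2
    exact (Nat.card_pos (α := ↥A)).ne' e2.symm
  have e3 : B₁.relIndex B₂ ≤ B₁.relIndex A := Subgroup.relIndex_le_of_le_right h2 hne
  have e4 : Nat.card ↥B₁ * Nat.card ↥B₂ ≤ Nat.card ↥A := by
    rw [← e2, e1]
    exact Nat.mul_le_mul_left _ e3
  set a := Nat.card ↥A with ha
  set b₁ := Nat.card ↥B₁
  set b₂ := Nat.card ↥B₂
  have hapos : 0 < a := Nat.card_pos
  have e5 : a * a ≤ (p * b₁) * (p * b₂) := Nat.mul_le_mul hc1 hc2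
  have e6 : (p * b₁) * (p * b₂) = p * p * (b₁ * b₂) := by ring
  have e7 : p * p * (b₁ * b₂) ≤ p * p * a := Nat.mul_le_mul_left _ e4
  have e8 : a * a ≤ p * p * a := by rw [e6] at e5; exact e5.trans e7
  have e9 : a ≤ p * p := Nat.le_of_mul_le_mul_right e8 hapos
  have e10 : p ^ 3 = p * p * p := by ring
  rw [e10] at hA3
  have e11 : p * p * p ≤ p * p * 1 := by rw [mul_one]; exact hA3.trans e9
  have e12 : p ≤ 1 := Nat.le_of_mul_le_mul_left e11 (Nat.mul_pos hp.pos hp.pos)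
  exact absurd hp.one_lt (by omega)

theorem result {G : Type*} [Group G] [Finite G] (p : ℕ) [Fact p.Prime] (A : Subgroup G) (hA : Cfsg.IsElementaryAbelian p A) (hA3 : p ^ 3 ≤ Nat.card ↥A) (q : ℕ) [Fact q.Prime] (hqp : q ≠ p) (Q₁ Q₂ : Subgroup G) (h₁ : IsPGroup q ↥Q₁) (h₂ : IsPGroup q ↥Q₂) (hA₁ : A ≤ Subgroup.normalizer (Q₁ : Set G)) (hA₂ : A ≤ Subgroup.normalizer (Q₂ : Set G)) (hD₁ : Q₁ ⊓ Q₂ ≠ Q₁) (hD₂ : Q₁ ⊓ Q₂ ≠ Q₂) : ∃ a ∈ A, a ≠ 1 ∧ ¬ (Subgroup.normalizer ((Q₁ ⊓ Q₂ : Subgroup G) : Set G) ⊓ Q₁ ⊓ Subgroup.centralizer {a} ≤ Q₁ ⊓ Q₂) ∧ ¬ (Subgroup.normalizer ((Q₁ ⊓ Q₂ : Subgroup G) : Set G) ⊓ Q₂ ⊓ Subgroup.centralizer {a} ≤ Q₁ ⊓ Q₂) := by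
  have hpp : p.Prime := Fact.out
  have hqq : q.Prime := Fact.out
  have hcomm : ∀ a ∈ A, ∀ b ∈ A, a * b = b * a := by
    intro a ha b hb
    have hc := hA.1
    have h := hc.is_comm.comm (⟨a, ha⟩ : A) ⟨b, hb⟩
    exact congrArg Subtype.val h
  have hexp := hA.2
  set D := Q₁ ⊓ Q₂ with hD
  have hAD : A ≤ Subgroup.normalizer (D : Set G) :=
    (le_inf hA₁ hA₂).trans (normalizer_inf_normalizer_le _ _)
  have hAN : ∀ Q : Subgroup G, A ≤ Subgroup.normalizer (Q : Set G) →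
      A ≤ Subgroup.normalizer ((Subgroup.normalizer (D : Set G) ⊓ Q : Subgroup G) : Set G) := by
    intro Q hQ
    refine le_trans ?_ (normalizer_inf_normalizer_le _ _)
    exact le_inf (hAD.trans Subgroup.le_normalizer) hQ
  have hNp : ∀ Q : Subgroup G, IsPGroup q ↥Q →
      ¬ p ∣ Nat.card ↥(Subgroup.normalizer (D : Set G) ⊓ Q : Subgroup G) := by
    intro Q hQ hdvd
    obtain ⟨k, hk⟩ := IsPGroup.iff_card.mp hQ
    have h1 : p ∣ q ^ k := by
      rw [← hk]; exact hdvd.trans (Subgroup.card_dvd_of_le inf_le_right)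
    have h2 : p ∣ q := hpp.dvd_of_dvd_pow h1
    exact hqp ((Nat.prime_dvd_prime_iff_eq hpp hqq).mp h2).symm
  obtain ⟨B₁, hB₁A, hB₁c, hB₁D⟩ := exists_big_centralizer p A _ D hcomm hexp (hAN Q₁ hA₁)
    (hNp Q₁ h₁) (normalizer_inf_not_le h₁ inf_le_left hD₁)
  obtain ⟨B₂, hB₂A, hB₂c, hB₂D⟩ := exists_big_centralizer p A _ D hcomm hexp (hAN Q₂ hA₂)
    (hNp Q₂ h₂) (normalizer_inf_not_le h₂ inf_le_right hD₂)
  have hne := inf_ne_bot_of_big hpp hB₁A hB₂A hA3 hB₁c hB₂c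
  obtain ⟨⟨a, ha⟩, ha1⟩ := (Subgroup.ne_bot_iff_exists_ne_one).mp hne
  have ha1' : a ≠ 1 := fun h => ha1 (Subtype.ext h)
  have key : ∀ (N B : Subgroup G), a ∈ B → ¬ (N ⊓ Subgroup.centralizer (B : Set G) ≤ D) →
      ¬ (N ⊓ Subgroup.centralizer {a} ≤ D) := by
    intro N B haB h hle
    apply h
    refine le_trans ?_ hle
    apply inf_le_inf_left
    apply Subgroup.centralizer_le
    intro z hz
    rw [Set.mem_singleton_iff] at hz
    rw [hz]; exact haB
  exact ⟨a, hB₁A ha.1, ha1', key _ B₁ ha.1 hB₁D, key _ B₂ ha.2 hB₂D⟩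

end Cfsg.Agent.S1282
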