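import Cfsg.Statements.S0604
import Cfsg.Agent.Lib.Helper2.EA2

set_option autoImplicit false
set_option linter.style.haveILetI false
open Cfsg
open scoped Pointwise

namespace Cfsg.Agent.S0604

open Cfsg.Agent.Lib.Helper2

theorem map_equiv_mem_max {G : Type*} [Group G] {p : ℕ} {A : Subgroup G}
    (hA : A ∈ Cfsg.maxElementaryAbelianSubgroups p G) (φ : G ≃* G) :
    A.map φ.toMonoidHom ∈ Cfsg.maxElementaryAbelianSubgroups p G := by
  refine ⟨ea_map hA.1 φ.toMonoidHom, ?_⟩
  intro B hB
  have : Nat.card (A.map φ.toMonoidHom) = Nat.card A :=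
    Subgroup.card_map_of_injective φ.injective
  rw [this]
  exact hA.2 B hB

/-- The Thompson subgroup of G is the join of the Thompson subgroups of its Sylow p-subgroups. -/
theorem result {G : Type*} [Group G] [Finite G] {p : ℕ} [Fact p.Prime] : Cfsg.thompsonSubgroup p G = ⨆ S : Sylow p G, Cfsg.thompsonSubgroupOf p (S : Subgroup G) := by
  apply le_antisymm
  · unfold Cfsg.thompsonSubgroup
    apply sSup_le
    intro A hA
    obtain ⟨S, hS⟩ := (ea_isPGroup hA.1).exists_le_sylow
    exact (le_thompsonSubgroupOf hA hS).trans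
      (le_iSup (fun S : Sylow p G => Cfsg.thompsonSubgroupOf p (S : Subgroup G)) S)
  · apply iSup_le
    intro S
    obtain ⟨A₀, hA₀⟩ := exists_maxElementaryAbelian p G
    obtain ⟨S₀, hS₀⟩ := (ea_isPGroup hA₀.1).exists_le_sylow
    obtain ⟨g, hg⟩ := MulAction.exists_smul_eq G S₀ S
    have h1 := map_equiv_mem_max hA₀ (MulAut.conj g)
    have h2 : A₀.map (MulAut.conj g).toMonoidHom ≤ (S : Subgroup G) := by
      rw [← hg, Sylow.smul_def, Sylow.pointwise_smul_def, Subgroup.pointwise_smul_def]
      exact Subgroup.map_mono hS₀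
    exact thompsonSubgroupOf_le h1 h2

end Cfsg.Agent.S0604
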