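import Cfsg.Statements.S0601
import Cfsg.Agent.Lib.Helper2.EA
import Cfsg.Agent.Lib.Helper2.Index

set_option autoImplicit false
set_option linter.style.haveILetI false
open Cfsg

namespace Cfsg.Agent.S0601

open Cfsg.Agent.Lib.Helper2
open scoped Pointwise

variable {G : Type*} [Group G]

/-- Ω₁(Z(S)) -/
abbrev zS (p : ℕ) (S : Subgroup G) : Subgroup G :=
  Cfsg.omegaOne p (S ⊓ Subgroup.centralizer (S : Set G))

theorem pCore_normal (p : ℕ) : (Cfsg.pCore p G).Normal :=
  Subgroup.sSup_normal _ (fun _ hH => hH.1)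

theorem pCore_isPGroup (p : ℕ) [Fact p.Prime] [Finite G] : IsPGroup p (Cfsg.pCore p G) :=
  Sylow.sSup_of_normal _ (fun _ hH => hH.2) (fun _ hH => hH.1)

theorem mem_smul_sylow {p : ℕ} (g : G) (S : Sylow p G) (x : G) :
    x ∈ ((g • S : Sylow p G) : Subgroup G) ↔ g⁻¹ * x * g ∈ (S : Subgroup G) := by
  rw [Sylow.coe_subgroup_smul, Subgroup.mem_pointwise_smul_iff_inv_smul_mem, MulAut.smul_def, ← map_inv,
    MulAut.conj_apply, inv_inv]

theorem conj_zS_le {p : ℕ} (g : G) (S : Sylow p G) :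
    (zS p (S : Subgroup G)).map (MulAut.conj g).toMonoidHom ≤ zS p ((g • S : Sylow p G) : Subgroup G) := by
  unfold zS Cfsg.omegaOne
  rw [MonoidHom.map_closure]
  apply Subgroup.closure_mono
  rintro y ⟨x, ⟨⟨hxS, hxC⟩, hxp⟩, rfl⟩
  have hy : (MulAut.conj g).toMonoidHom x = g * x * g⁻¹ := rfl
  rw [hy]
  have hxS' : x ∈ (S : Subgroup G) := hxS
  have hxC' : x ∈ Subgroup.centralizer ((S : Subgroup G) : Set G) := hxC
  have h1 : g * x * g⁻¹ ∈ ((g • S : Sylow p G) : Subgroup G) := by
    rw [mem_smul_sylow]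
    have : g⁻¹ * (g * x * g⁻¹) * g = x := by group
    rw [this]; exact hxS'
  have h2 : g * x * g⁻¹ ∈ Subgroup.centralizer (((g • S : Sylow p G) : Subgroup G) : Set G) := by
    rw [Subgroup.mem_centralizer_iff]
    intro h hh
    rw [SetLike.mem_coe, mem_smul_sylow] at hh
    have := Subgroup.mem_centralizer_iff.1 hxC' _ hh
    calc h * (g * x * g⁻¹) = g * ((g⁻¹ * h * g) * x) * g⁻¹ := by group
      _ = g * (x * (g⁻¹ * h * g)) * g⁻¹ := by rw [this]
      _ = g * x * g⁻¹ * h := by group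
  have h3 : (g * x * g⁻¹) ^ p = 1 := by rw [conj_pow, hxp]; group
  exact ⟨⟨h1, h2⟩, h3⟩

/-- When O_p(G) contains its centralizer, the normal closure of Ω₁(Z(S)) is elementary abelian and G has no nontrivial normal p-subgroup modulo its centralizer. -/
theorem result {G : Type*} [Group G] [Finite G] {p : ℕ} [Fact p.Prime] (hc : Subgroup.centralizer (Cfsg.pCore p G : Set G) ≤ Cfsg.pCore p G) : (⨆ S : Sylow p G, Cfsg.omegaOne p (((S : Subgroup G)) ⊓ Subgroup.centralizer ((S : Subgroup G) : Set G))).Normal ∧ Cfsg.IsElementaryAbelian p (⨆ S : Sylow p G, Cfsg.omegaOne p (((S : Subgroup G)) ⊓ Subgroup.centralizer ((S : Subgroup G) : Set G))) ∧ ∀ D : Subgroup G, D.Normal → Subgroup.centralizer ((⨆ S : Sylow p G, Cfsg.omegaOne p (((S : Subgroup G)) ⊓ Subgroup.centralizer ((S : Subgroup G) : Set G)) : Subgroup G) : Set G) ≤ D → (∃ k : ℕ, (Subgroup.centralizer ((⨆ S : Sylow p G, Cfsg.omegaOne p (((S : Subgroup G)) ⊓ Subgroup.centralizer ((S : Subgroup G) : Set G)) : Subgroup G) :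 Set G)).relIndex D = p ^ k) → D = Subgroup.centralizer ((⨆ S : Sylow p G, Cfsg.omegaOne p (((S : Subgroup G)) ⊓ Subgroup.centralizer ((S : Subgroup G) : Set G)) : Subgroup G) : Set G) := by
  classical
  have hp : p.Prime := Fact.out
  set V : Subgroup G := ⨆ S : Sylow p G, zS p (S : Subgroup G) with hVdef
  show V.Normal ∧ Cfsg.IsElementaryAbelian p V ∧ ∀ D : Subgroup G, D.Normal →
    Subgroup.centralizer (V : Set G) ≤ D →
    (∃ k : ℕ, (Subgroup.centralizer (V : Set G)).relIndex D = p ^ k) →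
    D = Subgroup.centralizer (V : Set G)
  -- (1) normal
  have hVn : V.Normal := by
    constructor
    intro n hn g
    have h1 : (MulAut.conj g).toMonoidHom n ∈ V.map (MulAut.conj g).toMonoidHom := ⟨n, hn, rfl⟩
    rw [hVdef, Subgroup.map_iSup] at h1
    have h2 : (⨆ S : Sylow p G, (zS p (S : Subgroup G)).map (MulAut.conj g).toMonoidHom) ≤ V := by
      apply iSup_le
      intro S
      exact le_trans (conj_zS_le g S) (le_iSup (fun S : Sylow p G => zS p (S : Subgroup G)) (g • S))
    exact h2 h1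
  -- (2) elementary abelian
  set Q := Cfsg.pCore p G with hQ
  haveI hQn : Q.Normal := pCore_normal p
  have hQp : IsPGroup p Q := pCore_isPGroup p
  -- the subgroup E of elements of order dividing p in Z(Q)
  let E : Subgroup G :=
    { carrier := {x | x ∈ Q ⊓ Subgroup.centralizer (Q : Set G) ∧ x ^ p = 1}
      one_mem' := ⟨Subgroup.one_mem _, one_pow p⟩
      mul_mem' := by
        rintro a b ⟨ha, hap⟩ ⟨hb, hbp⟩
        refine ⟨Subgroup.mul_mem _ ha hb, ?_⟩
        have hcomm : Commute a b := Subgroup.mem_centralizer_iff.1 hb.2 a ha.1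
        rw [hcomm.mul_pow, hap, hbp, one_mul]
      inv_mem' := by
        rintro a ⟨ha, hap⟩
        exact ⟨Subgroup.inv_mem _ ha, by rw [inv_pow, hap, inv_one]⟩ }
  have hEea : Cfsg.IsElementaryAbelian p E := by
    rw [isElementaryAbelian_iff]
    constructor
    · rintro x ⟨hx, -⟩ y ⟨hy, -⟩
      exact (Subgroup.mem_centralizer_iff.1 hx.2 y hy.1).symm
    · rintro a ⟨-, hap⟩
      exact hap
  have hzE : ∀ S : Sylow p G, zS p (S : Subgroup G) ≤ E := by
    intro S
    unfold zS Cfsg.omegaOne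
    rw [Subgroup.closure_le]
    rintro x ⟨⟨hxS, hxC⟩, hxp⟩
    have hQS : Q ≤ (S : Subgroup G) := hQp.le_sylow_of_normal S
    have hxCQ : x ∈ Subgroup.centralizer (Q : Set G) :=
      Subgroup.centralizer_le (fun y hy => hQS hy) hxC
    exact ⟨⟨hc hxCQ, hxCQ⟩, hxp⟩
  have hVE : V ≤ E := iSup_le hzE
  have hVea : Cfsg.IsElementaryAbelian p V := ea_mono hEea hVE
  refine ⟨hVn, hVea, ?_⟩
  -- (3)
  intro D hDn hCD ⟨k, hk⟩
  haveI := hDn
  set C := Subgroup.centralizer (V : Set G) with hC
  apply le_antisymm _ hCD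
  have hkey : ∀ S : Sylow p G, D ≤ (S : Subgroup G) ⊔ C := by
    intro S
    rw [← Subgroup.relIndex_eq_one]
    set X := (S : Subgroup G) ⊔ C with hX
    have h1 : X.relIndex D ∣ p ^ k := by
      rw [← hk]
      exact Subgroup.relIndex_dvd_of_le_left D le_sup_right
    have h2 : X.relIndex D ∣ (S : Subgroup G).index := by
      have hn : X ≤ Subgroup.normalizer (D : Set G) := by
        rw [Subgroup.normalizer_eq_top]; exact le_top
      rw [← relIndex_sup_of_le_normalizer X D hn]
      have h3 : X.relIndex (X ⊔ D) ∣ X.index :=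
        ⟨_, (Subgroup.relIndex_mul_index (le_sup_left : X ≤ X ⊔ D)).symm⟩
      exact dvd_trans h3 (Subgroup.index_dvd_of_le le_sup_left)
    have h4 : ¬ p ∣ (S : Subgroup G).index := S.not_dvd_index
    obtain ⟨j, -, hj⟩ := (Nat.dvd_prime_pow hp).1 h1
    rcases Nat.eq_zero_or_pos j with rfl | hjpos
    · simpa using hj
    · exfalso
      apply h4
      apply dvd_trans _ h2
      rw [hj]
      exact dvd_pow_self p hjpos.ne'
  intro d hd
  rw [hC, Subgroup.mem_centralizer_iff]
  have hVd : V ≤ Subgroup.centralizer ({d} : Set G) := by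
    apply iSup_le
    intro S
    have hSC : (S : Subgroup G) ⊔ C ≤ Subgroup.centralizer (zS p (S : Subgroup G) : Set G) := by
      apply sup_le
      · rw [Subgroup.le_centralizer_iff]
        unfold zS Cfsg.omegaOne
        rw [Subgroup.closure_le]
        rintro x ⟨⟨-, hxC⟩, -⟩
        exact hxC
      · exact Subgroup.centralizer_le (fun y hy => (le_iSup (fun S : Sylow p G => zS p (S : Subgroup G)) S) hy)
    have hd' := hSC (hkey S hd)
    intro z hz
    rw [Subgroup.mem_centralizer_iff]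
    intro y hy
    rw [Set.mem_singleton_iff] at hy
    subst hy
    exact (Subgroup.mem_centralizer_iff.1 hd' z hz).symm
  intro v hv
  have := hVd hv
  rw [Subgroup.mem_centralizer_iff] at this
  exact (this d rfl).symm

end Cfsg.Agent.S0601
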