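import Cfsg.Statements.S1968
import Cfsg.Agent.Lib.Helper4.Fusion
import Cfsg.Agent.S1963
import Cfsg.Agent.S1961

set_option autoImplicit false
open Cfsg

namespace Cfsg.Agent.S1968

open Cfsg.Agent.Lib.Helper4

section
variable {G : Type*} [Group G]

theorem first_move {𝓕 : Set (Subgroup G)} {A : Set G} {g : G} (h : Fuses 𝓕 A g) :
    rc g A ≠ A → ∃ T ∈ 𝓕, A ⊆ (T : Set G) ∧ ∃ x ∈ Subgroup.normalizer (T : Set G), rc x A ≠ A := by
  induction h with
  | nil A => intro h; exact absurd (rc_one A) h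
  | cons A T x g' hT hx hAT _ ih =>
    intro hne
    by_cases hx' : rc x A = A
    · rw [rc_mul, hx'] at hne
      rw [hx'] at ih
      exact ih hne
    · exact ⟨T, hT, hAT, x, hx, hx'⟩

end

/-- Let p be a prime, G a finite group with Sylow p-subgroup S and W a conjugacy functor for p on G with Z(P) ≤ W(P) for every p-subgroup P. Let A be a subgroup of Z(S) normalized by N_G(W(S)) that is not weakly closed in S with respect to G. Then there is a subgroup T of S, well placed in S with respect to W, such that: A ≤ T; N_G(W(N_S(T))) normalizes A; N_S(T) is a Sylow p-subgroup of N_G(T); A ≤ Z(N_S(T)); and A is not weakly closed in N_S(T) with respect to N_G(T), that is, some N_G(T)-conjugate of A other than A lies in N_S(T). -/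
theorem result {G : Type*} [Group G] [Finite G] {p : ℕ} [Fact p.Prime] (S : Sylow p G) (W : Subgroup G → Subgroup G) (hW : Cfsg.IsConjugacyFunctor p W) (hWZ : ∀ P : Subgroup G, IsPGroup p ↥P → P ⊓ Subgroup.centralizer (P : Set G) ≤ W P) (A : Subgroup G) (hAZ : A ≤ (S : Subgroup G) ⊓ Subgroup.centralizer ((S : Subgroup G) : Set G)) (hAN : Subgroup.normalizer ((W (S : Subgroup G) : Subgroup G) : Set G) ≤ Subgroup.normalizer ((A : Subgroup G) : Set G)) (hnwc : ¬ Cfsg.IsWeaklyClosed A (S : Subgroup G)) : ∃ T : Subgroup G, Cfsg.IsWellPlaced p W (S : Subgroup G) T ∧ A ≤ T ∧ Subgroup.normalizer ((W ((S : Subgroup G) ⊓ Subgroup.normalizer ((T : Subgroup G) : Set G)) : Subgroup G) : Set G) ≤ Subgroup.normalizer ((A : Subgroup G) : Set G) ∧ ¬ p ∣ ((S : Subgroup G) ⊓ Subgroup.normalizer ((T : Subgroup G) : Set G)).relIndex (Subgroup.normalizer ((T : Subgroup G) : Set G)) ∧ A ≤ Subgroup.centralizer (((S : Subgroup G) ⊓ Subgroup.normalizer ((T : Subgroup G) : Set G) :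 Subgroup G) : Set G) ∧ ∃ g ∈ Subgroup.normalizer ((T : Subgroup G) : Set G), A.map (MulAut.conj g).toMonoidHom ≤ (S : Subgroup G) ⊓ Subgroup.normalizer ((T : Subgroup G) : Set G) ∧ A.map (MulAut.conj g).toMonoidHom ≠ A := by
  classical
  have hAS : A ≤ (S : Subgroup G) := hAZ.trans inf_le_left
  have hAC : A ≤ Subgroup.centralizer ((S : Subgroup G) : Set G) := hAZ.trans inf_le_right
  -- a conjugate of A in S different from A
  have hex : ∃ g : G, cj g A ≤ (S : Subgroup G) ∧ cj g A ≠ A := by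
    by_contra hcon
    push Not at hcon
    exact hnwc ⟨hAS, fun g hg => hcon g hg⟩
  obtain ⟨g, hgS, hgne⟩ := hex
  have hfam : ∀ T : Subgroup G, T ≤ (S : Subgroup G) →
      ∃ U ∈ {T : Subgroup G | IsWellPlaced p W (S : Subgroup G) T}, U ≤ (S : Subgroup G) ∧ (∃ g : G, cj g T = U) ∧
        ¬ p ∣ ((S : Subgroup G) ⊓ Subgroup.normalizer ((U : Subgroup G) : Set G)).relIndex
          (Subgroup.normalizer ((U : Subgroup G) : Set G)) := by
    intro T hT
    obtain ⟨g, hg⟩ := Cfsg.Agent.S1963.result S W hW T hT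
    exact ⟨_, hg, hg.1, ⟨g, rfl⟩, hg.2 0⟩
  have hF : Fuses {T : Subgroup G | IsWellPlaced p W (S : Subgroup G) T} (A : Set G) g⁻¹ :=
    fuses_of_family S _ hfam A hAS g⁻¹ (by rw [inv_inv]; exact hgS)
  have hmove : rc g⁻¹ (A : Set G) ≠ (A : Set G) := by
    rw [rc_subgroup, inv_inv]
    intro h
    exact hgne (SetLike.coe_injective h)
  obtain ⟨T₀, hT₀wp, hAT₀, x₀, hx₀, hx₀A⟩ := first_move hF hmove
  -- the set of candidates
  let 𝒯 : Set (Subgroup G) := {T | IsWellPlaced p W (S : Subgroup G) T ∧ A ≤ T ∧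
    ∃ y ∈ Subgroup.normalizer (T : Set G), cj y A ≠ A}
  have h𝒯ne : 𝒯.Nonempty := by
    refine ⟨T₀, hT₀wp, hAT₀, x₀⁻¹, inv_mem hx₀, ?_⟩
    intro h
    apply hx₀A
    rw [rc_subgroup, h]
  obtain ⟨T, hT𝒯, hTmax⟩ := Set.exists_max_image 𝒯
    (fun T => Nat.card ((S : Subgroup G) ⊓ Subgroup.normalizer (T : Set G) : Subgroup G))
    (Set.toFinite _) h𝒯ne
  obtain ⟨hTwp, hAT, y, hyT, hyA⟩ := hT𝒯
  set S₀ : Subgroup G := (S : Subgroup G) ⊓ Subgroup.normalizer (T : Set G) with hS₀
  have hS₀S : S₀ ≤ (S : Subgroup G) := inf_le_left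
  have hS₀p : IsPGroup p S₀ := S.2.to_le hS₀S
  have hTS₀ : T ≤ S₀ := le_inf hTwp.1 Subgroup.le_normalizer
  refine ⟨T, hTwp, hAT, ?_, hTwp.2 0, hAC.trans (Subgroup.centralizer_le hS₀S), y, hyT, ?_, hyA⟩
  · -- the key maximality argument
    show Subgroup.normalizer ((W S₀ : Subgroup G) : Set G) ≤ Subgroup.normalizer ((A : Subgroup G) : Set G)
    by_cases heq : S₀ = (S : Subgroup G)
    · rw [heq]; exact hAN
    · by_contra hnot
      obtain ⟨x, hx, hxA⟩ := SetLike.not_le_iff_exists.1 hnot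
      set T' : Subgroup G := W S₀ with hT'
      have hT'wp : IsWellPlaced p W (S : Subgroup G) T' := Cfsg.Agent.S1961.wellPlaced_next W hW S T hTwp
      have hAT' : A ≤ T' := by
        refine le_trans ?_ (hWZ S₀ hS₀p)
        exact le_inf (hAT.trans hTS₀) (hAC.trans (Subgroup.centralizer_le hS₀S))
      have hxA' : cj x A ≠ A := by
        intro h
        exact hxA (Subgroup.mem_normalizer_iff_map_conj_eq.2 h)
      have hT'𝒯 : T' ∈ 𝒯 := ⟨hT'wp, hAT', x, hx, hxA'⟩
      have hle := hTmax T' hT'𝒯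
      set S₁ : Subgroup G := (S : Subgroup G) ⊓ Subgroup.normalizer (T' : Set G) with hS₁
      have hlt0 : S₀ < (S : Subgroup G) ⊓ Subgroup.normalizer (S₀ : Set G) :=
        lt_inf_normalizer_of_lt (S : Subgroup G) S.2 S₀ (lt_of_le_of_ne hS₀S heq)
      have hle1 : (S : Subgroup G) ⊓ Subgroup.normalizer (S₀ : Set G) ≤ S₁ := by
        intro z hz
        refine ⟨hz.1, ?_⟩
        show z ∈ Subgroup.normalizer ((T' : Subgroup G) : Set G)
        rw [Subgroup.mem_normalizer_iff_map_conj_eq]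
        have h1 := (hW S₀ hS₀p).2.2 z
        have h2 : cj z S₀ = S₀ := Subgroup.mem_normalizer_iff_map_conj_eq.1 hz.2
        show cj z (W S₀) = W S₀
        rw [cj_def, ← h1]
        congr 1
      have hlt1 : S₀ < S₁ := lt_of_lt_of_le hlt0 hle1
      have hcardlt : Nat.card S₀ < Nat.card S₁ := by
        by_contra hnot'
        push Not at hnot'
        exact hlt1.ne (Subgroup.eq_of_le_of_card_ge hlt1.le hnot')
      exact absurd hle (not_le.2 hcardlt)
  · -- cj y A ≤ S₀
    have : cj y A ≤ cj y T := cj_mono y hAT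
    have h2 : cj y T = T := Subgroup.mem_normalizer_iff_map_conj_eq.1 hyT
    rw [h2] at this
    exact this.trans hTS₀

end Cfsg.Agent.S1968
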