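import Cfsg.Statements.S0027
import Cfsg.Agent.Lib.Helper4.CoprimeComm
import Cfsg.Agent.S0026

set_option autoImplicit false
open Cfsg

namespace Cfsg.Agent.S0027

open Cfsg.Agent.Lib.Helper4
open scoped commutatorElement

/-- Under coprime action the commutator subgroup with A is stable: taking the commutator with A twice gives the same subgroup as once. -/
theorem result {G : Type*} [Group G] [Finite G] (A K : Subgroup G) (hAK : A ≤ Subgroup.normalizer (K : Set G))
    (hcop : (Nat.card A).Coprime (Nat.card K)) (hsolv : Group.IsSolvable A ∨ Group.IsSolvable K) :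
    ⁅⁅K, A⁆, A⁆ = ⁅K, A⁆ := by
  have hNK : ⁅K, A⁆ ≤ K := commutator_le_of_le_normalizer A K hAK
  apply le_antisymm (Subgroup.commutator_mono hNK le_rfl)
  set N : Subgroup G := ⁅K, A⁆ with hN
  set C : Subgroup G := K ⊓ Subgroup.centralizer (A : Set G) with hC
  have hdec : N ⊔ C = K := Cfsg.Agent.S0026.result A K hAK hcop hsolv
  have hCN : C ≤ Subgroup.normalizer (N : Set G) :=
    inf_le_left.trans (le_normalizer_commutator_left A K)
  rw [hN, Subgroup.commutator_le]
  intro k hk a ha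
  have hk' : k ∈ C ⊔ N := by rw [sup_comm, hdec]; exact hk
  obtain ⟨c, hc, n, hn, rfl⟩ := Cfsg.Agent.Lib.Helper2.exists_mul_of_mem_sup_of_le_normalizer hCN hk'
  have hca : a * c = c * a := (Subgroup.mem_centralizer_iff.1 hc.2) a ha
  have e : ⁅c * n, a⁆ = c * ⁅n, a⁆ * c⁻¹ := by
    rw [commutatorElement_def, commutatorElement_def]
    have h1 : a * c⁻¹ * a⁻¹ = c⁻¹ := by
      have : a * c⁻¹ = c⁻¹ * a := by
        have h2 : c⁻¹ * (a * c) * c⁻¹ = c⁻¹ * (c * a) * c⁻¹ := by rw [hca]
        have h3 : c⁻¹ * (a * c) * c⁻¹ = c⁻¹ * a := by group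
        have h4 : c⁻¹ * (c * a) * c⁻¹ = a * c⁻¹ := by group
        rw [← h4, ← h2, h3]
      rw [this]; group
    calc c * n * a * (c * n)⁻¹ * a⁻¹ = c * (n * a * n⁻¹ * a⁻¹) * (a * c⁻¹ * a⁻¹) := by group
      _ = c * (n * a * n⁻¹ * a⁻¹) * c⁻¹ := by rw [h1]
  rw [e]
  have hmem : ⁅n, a⁆ ∈ ⁅N, A⁆ := Subgroup.commutator_mem_commutator hn ha
  have hcj : cj c ⁅N, A⁆ = ⁅N, A⁆ := by
    rw [cj_commutator', cj_eq_of_mem_normalizer (hCN hc)]
    have : cj c A = A := by
      ext x
      rw [mem_cj_iff]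
      constructor
      · intro hx
        have h5 := (Subgroup.mem_centralizer_iff.1 hc.2) _ hx
        have h6 : x = c * (c⁻¹ * x * c) * c⁻¹ := by group
        rw [h6, ← h5]
        have : c⁻¹ * x * c * c * c⁻¹ = c⁻¹ * x * c := by group
        rw [this]; exact hx
      · intro hx
        have h5 := (Subgroup.mem_centralizer_iff.1 hc.2) _ hx
        have : c⁻¹ * x * c = x := by
          have : c⁻¹ * x * c = c⁻¹ * (x * c) := by group
          rw [this, h5]; group
        rw [this]; exact hx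
    rw [this]
  rw [← hcj]
  exact conj_mem_cj c _ hmem

end Cfsg.Agent.S0027
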