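import Cfsg.Statements.S0039
import Mathlib
import Cfsg.Agent.Lib.Helper1.Frob

set_option autoImplicit false
open Cfsg

namespace Cfsg.Agent.S0039

open Cfsg.Agent.Lib.Helper1
open scoped Pointwise

/-- In a finite group that is a semidirect product of a normal subgroup K by a nontrivial subgroup H, H is a Frobenius complement exactly when each nonidentity element of H acts without nonidentity fixed points on K by conjugation. -/
theorem result {G : Type*} [Group G] [Finite G] (K H : Subgroup G) [K.Normal]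
    (hc : Subgroup.IsComplement' K H) (hK : K ≠ ⊥) (hH : H ≠ ⊥) :
    Cfsg.IsFrobeniusComplement H ↔ ∀ h ∈ H, h ≠ 1 → K ⊓ Subgroup.centralizer {h} = ⊥ := by
  have hKn : K.Normal := inferInstance
  constructor
  · rintro ⟨-, -, hF⟩ h hh hh1
    rw [eq_bot_iff]
    intro k hk
    obtain ⟨hkK, hkC⟩ := Subgroup.mem_inf.1 hk
    rw [Subgroup.mem_bot]
    by_contra hk1
    have hkH : k ∉ H := fun hkH => hk1 (inf_eq_bot_of_isComplement' hc hkK hkH)
    have := hF k hkH
    have hmem : h ∈ H ⊓ (MulAut.conj k • H) := by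
      refine Subgroup.mem_inf.2 ⟨hh, ?_⟩
      rw [mem_conj_smul_iff]
      have hcomm := Subgroup.mem_centralizer_singleton_iff.1 hkC
      have e : k⁻¹ * h * k = h := by
        calc k⁻¹ * h * k = k⁻¹ * (k * h) := by rw [hcomm]; group
          _ = h := by group
      rw [e]; exact hh
    rw [this, Subgroup.mem_bot] at hmem
    exact hh1 hmem
  · intro hfpf
    refine ⟨hH, ?_, ?_⟩
    · intro htop
      apply hK
      rw [eq_bot_iff]
      intro k hk
      rw [Subgroup.mem_bot]
      exact inf_eq_bot_of_isComplement' hc hk (htop ▸ Subgroup.mem_top k)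
    · intro g hg
      obtain ⟨k, hk, h', hh', rfl⟩ := exists_mul_of_isComplement' hc g
      rw [eq_bot_iff]
      intro x hx
      obtain ⟨hxH, hxc⟩ := Subgroup.mem_inf.1 hx
      rw [Subgroup.mem_bot]
      by_contra hx1
      rw [mem_conj_smul_iff] at hxc
      -- y := k⁻¹ x k ∈ H
      have hy : k⁻¹ * x * k ∈ H := by
        have e : k⁻¹ * x * k = h' * ((k * h')⁻¹ * x * (k * h')) * h'⁻¹ := by group
        rw [e]
        exact H.mul_mem (H.mul_mem hh' hxc) (H.inv_mem hh')
      -- x * y⁻¹ ∈ K ∩ H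
      have h1 : x * (k⁻¹ * x * k)⁻¹ ∈ K := by
        have e : x * (k⁻¹ * x * k)⁻¹ = (x * k⁻¹ * x⁻¹) * k := by group
        rw [e]
        exact K.mul_mem (hKn.conj_mem _ (K.inv_mem hk) x) hk
      have h2 : x * (k⁻¹ * x * k)⁻¹ ∈ H := H.mul_mem hxH (H.inv_mem hy)
      have h3 := inf_eq_bot_of_isComplement' hc h1 h2
      have h4 : x = k⁻¹ * x * k := mul_inv_eq_one.1 h3
      have hkc : k ∈ K ⊓ Subgroup.centralizer {x} := by
        refine Subgroup.mem_inf.2 ⟨hk, ?_⟩
        rw [Subgroup.mem_centralizer_singleton_iff]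
        calc k * x = k * (k⁻¹ * x * k) := by rw [← h4]
          _ = x * k := by group
      rw [hfpf x hxH hx1, Subgroup.mem_bot] at hkc
      apply hg
      rw [hkc, one_mul]
      exact hh'

end Cfsg.Agent.S0039
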