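import Cfsg.Statements.S0041
import Cfsg.Agent.S0058
import Cfsg.Agent.S0065
import Cfsg.Agent.Lib.Helper4.FpfAction

set_option autoImplicit false
open Cfsg

namespace Cfsg.Agent.S0041


open scoped IsMulCommutative

/-- Conjugation action of `A` on a subgroup `V` that it normalizes. -/
def theta {G : Type*} [Group G] (A V : Subgroup G)
    (hAV : A ≤ Subgroup.normalizer (V : Set G)) : A →* MulAut V where
  toFun a :=
    { toFun := fun v => ⟨(a : G) * v * (a : G)⁻¹, (Subgroup.mem_normalizer_iff.1 (hAV a.2) v).1 v.2⟩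
      invFun := fun v => ⟨(a : G)⁻¹ * v * (a : G)⁻¹⁻¹,
        (Subgroup.mem_normalizer_iff.1 (Subgroup.inv_mem _ (hAV a.2)) v).1 v.2⟩
      left_inv := by
        intro v
        apply Subtype.ext
        simp [mul_assoc]
      right_inv := by
        intro v
        apply Subtype.ext
        simp [mul_assoc]
      map_mul' := by
        intro v w
        apply Subtype.ext
        simp [mul_assoc] }
  map_one' := by
    ext v
    simp
  map_mul' := by
    intro a b
    ext v
    simp [mul_assoc]

theorem theta_coe {G : Type*} [Group G] (A V : Subgroup G)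
    (hAV : A ≤ Subgroup.normalizer (V : Set G)) (a : A) (v : V) :
    ((theta A V hAV a v : V) : G) = (a : G) * v * (a : G)⁻¹ := rfl

/-- An element of prime order `r` acting without fixed points on a commutative `V` forces `V` to
have no `r`-torsion. -/
theorem no_torsion {G : Type*} [Group G] [Finite G] (V : Subgroup G) [IsMulCommutative V]
    (a : G) (r : ℕ) [hr : Fact r.Prime]
    (haV : a ∈ Subgroup.normalizer (V : Set G)) (har : a ^ r = 1)
    (hfix : V ⊓ Subgroup.centralizer {a} = ⊥)
    (v : G) (hv : v ∈ V) (hvr : v ^ r = 1) : v = 1 := by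
  by_contra hv1
  -- the r-torsion of V
  let W : Subgroup G :=
    { carrier := {w | w ∈ V ∧ w ^ r = 1}
      one_mem' := ⟨V.one_mem, one_pow r⟩
      mul_mem' := by
        rintro x y ⟨hx, hxr⟩ ⟨hy, hyr⟩
        refine ⟨V.mul_mem hx hy, ?_⟩
        have hcomm : Commute x y := by
          have := mul_comm' (⟨x, hx⟩ : V) ⟨y, hy⟩
          exact congrArg Subtype.val this
        rw [hcomm.mul_pow, hxr, hyr, one_mul]
      inv_mem' := by
        rintro x ⟨hx, hxr⟩
        exact ⟨V.inv_mem hx, by rw [inv_pow, hxr, inv_one]⟩ }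
  have hWV : W ≤ V := fun w hw => hw.1
  have hWr : IsPGroup r W := by
    intro w
    refine ⟨1, ?_⟩
    apply Subtype.ext
    rw [pow_one]
    exact w.2.2
  have hZr : IsPGroup r (Subgroup.zpowers a) := by
    intro z
    refine ⟨1, ?_⟩
    obtain ⟨k, hk⟩ := Subgroup.mem_zpowers_iff.1 z.2
    apply Subtype.ext
    rw [pow_one]
    show (z : G) ^ r = 1
    rw [← hk, ← zpow_natCast, ← zpow_mul, mul_comm, zpow_mul, zpow_natCast, har, one_zpow]
  have haW : a ∈ Subgroup.normalizer (W : Set G) := by
    rw [Subgroup.mem_normalizer_iff]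
    intro w
    constructor
    · rintro ⟨hw, hwr⟩
      refine ⟨(Subgroup.mem_normalizer_iff.1 haV w).1 hw, ?_⟩
      rw [conj_pow, hwr]; group
    · rintro ⟨hw, hwr⟩
      refine ⟨(Subgroup.mem_normalizer_iff.1 haV w).2 hw, ?_⟩
      rw [conj_pow] at hwr
      have : w ^ r = a⁻¹ * (a * w ^ r * a⁻¹) * a := by group
      rw [this, hwr]; group
  have hZW : Subgroup.zpowers a ≤ Subgroup.normalizer (W : Set G) := Subgroup.zpowers_le.2 haW
  set T : Subgroup G := Subgroup.zpowers a ⊔ W with hT
  have hTr : IsPGroup r T := IsPGroup.to_sup_of_normal_right' hZr hWr hZW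
  haveI : Group.IsNilpotent T := hTr.isNilpotent
  have hWT : W ≤ T := le_sup_right
  have haT : a ∈ T := (le_sup_left : Subgroup.zpowers a ≤ T) (Subgroup.mem_zpowers a)
  have hWn : (W.subgroupOf T).Normal := by
    rw [Subgroup.normal_subgroupOf_iff_le_normalizer hWT]
    exact sup_le hZW Subgroup.le_normalizer
  have hWne : W.subgroupOf T ≠ ⊥ := by
    intro h
    apply hv1
    have hvW : v ∈ W := ⟨hv, hvr⟩
    have : (⟨v, hWT hvW⟩ : T) ∈ W.subgroupOf T := Subgroup.mem_subgroupOf.2 hvW
    rw [h, Subgroup.mem_bot] at this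
    exact congrArg Subtype.val this
  have h65 := Cfsg.Agent.S0065.result (W.subgroupOf T) hWne
  obtain ⟨⟨w, hw⟩, hw1⟩ := (Subgroup.ne_bot_iff_exists_ne_one).1 h65
  have hwW : (w : G) ∈ W := Subgroup.mem_subgroupOf.1 hw.1
  have hwc := Subgroup.mem_center_iff.1 hw.2 ⟨a, haT⟩
  have hwc' : a * (w : G) = (w : G) * a := congrArg Subtype.val hwc
  have : (w : G) ∈ V ⊓ Subgroup.centralizer {a} := by
    refine ⟨hWV hwW, ?_⟩
    show (w : G) ∈ Subgroup.centralizer {a}
    rw [Subgroup.mem_centralizer_iff]
    intro h hh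
    rw [Set.mem_singleton_iff] at hh
    rw [hh]; exact hwc'
  rw [hfix, Subgroup.mem_bot] at this
  apply hw1
  exact Subtype.ext (Subtype.ext this)

/-- A group acting on a nontrivial abelian group so that no nonidentity element has a nonidentity fixed point is cyclic, provided it is abelian or its order is a product of two (possibly equal) primes. -/
theorem result {G : Type*} [Group G] [Finite G] (A V : Subgroup G) [IsMulCommutative V]
    (hV : V ≠ ⊥) (hAV : A ≤ Subgroup.normalizer (V : Set G)) (hfpf : ∀ a ∈ A, a ≠ 1 → V ⊓ Subgroup.centralizer {a} = ⊥)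
    (hA : IsMulCommutative A ∨ ∃ p q : ℕ, p.Prime ∧ q.Prime ∧ Nat.card A = p * q) : IsCyclic A := by
  classical
  -- translate the fixed-point-freeness
  have hfpfθ : ∀ a : A, a ≠ 1 → ∀ v : V, theta A V hAV a v = v → v = 1 := by
    intro a ha v hv
    have h1 : (a : G) * v * (a : G)⁻¹ = v := congrArg Subtype.val hv
    have h2 : (v : G) ∈ V ⊓ Subgroup.centralizer {(a : G)} := by
      refine ⟨v.2, ?_⟩
      show (v : G) ∈ Subgroup.centralizer {(a : G)}
      rw [Subgroup.mem_centralizer_iff]
      intro h hh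
      rw [Set.mem_singleton_iff] at hh
      rw [hh]
      calc (a : G) * v = ((a : G) * v * (a : G)⁻¹) * a := by group
        _ = v * a := by rw [h1]
    rw [hfpf a a.2 (fun h => ha (Subtype.ext h)), Subgroup.mem_bot] at h2
    exact Subtype.ext h2
  -- the commutative case
  have hcomm_case : IsMulCommutative A → IsCyclic A := by
    intro hAc
    by_contra hncyc
    have hcop : (Nat.card A).Coprime (Nat.card V) := by
      by_contra hnc
      obtain ⟨r, hr, hrA, hrV⟩ := Nat.Prime.not_coprime_iff_dvd.1 hnc
      haveI : Fact r.Prime := ⟨hr⟩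
      obtain ⟨a, ha⟩ := exists_prime_orderOf_dvd_card' r hrA
      obtain ⟨v, hv⟩ := exists_prime_orderOf_dvd_card' r hrV
      have ha1 : (a : G) ≠ 1 := by
        intro h
        have : a = 1 := Subtype.ext h
        rw [this, orderOf_one] at ha
        exact hr.one_lt.ne ha
      have har : (a : G) ^ r = 1 := by
        have := pow_orderOf_eq_one a
        rw [ha] at this
        exact congrArg Subtype.val this
      have hvr : (v : G) ^ r = 1 := by
        have := pow_orderOf_eq_one v
        rw [hv] at this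
        exact congrArg Subtype.val this
      have := no_torsion V (a : G) r (hAV a.2) har (hfpf a a.2 ha1) v v.2 hvr
      have hv1 : v = 1 := Subtype.ext this
      rw [hv1, orderOf_one] at hv
      exact hr.one_lt.ne hv
    have h58 := Cfsg.Agent.S0058.result A V hncyc hAV hcop
    apply hV
    rw [← h58, eq_bot_iff]
    apply iSup₂_le
    intro a ha
    rw [hfpf a ha.1 ha.2]
  rcases hA with hAc | ⟨p, q, hp, hq, hcard⟩
  · exact hcomm_case hAc
  · by_cases hAc : IsMulCommutative A
    · exact hcomm_case hAc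
    · exfalso
      haveI : Fact p.Prime := ⟨hp⟩
      haveI : Fact q.Prime := ⟨hq⟩
      have hpq : p ≠ q := by
        rintro rfl
        apply hAc
        exact IsPGroup.isMulCommutative_of_card_eq_prime_sq (p := p) (by rw [hcard, pow_two])
      -- all elements of V have order dividing the larger prime
      have key : ∃ r : ℕ, r.Prime ∧ r ∣ Nat.card A ∧ ∀ v : V, v ^ r = 1 := by
        rcases lt_or_gt_of_ne hpq with hlt | hlt
        · exact ⟨q, hq, ⟨p, by rw [hcard, mul_comm]⟩, fun v =>
            Cfsg.Agent.Lib.Helper4.fpf_pq_pow (theta A V hAV) hfpfθ p q hp hq hlt hcard hAc v⟩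
        · exact ⟨p, hp, ⟨q, hcard⟩, fun v =>
            Cfsg.Agent.Lib.Helper4.fpf_pq_pow (theta A V hAV) hfpfθ q p hq hp hlt
              (by rw [hcard, mul_comm]) hAc v⟩
      obtain ⟨r, hr, hrA, hrV⟩ := key
      haveI : Fact r.Prime := ⟨hr⟩
      obtain ⟨a, ha⟩ := exists_prime_orderOf_dvd_card' r hrA
      have ha1 : (a : G) ≠ 1 := by
        intro h
        have : a = 1 := Subtype.ext h
        rw [this, orderOf_one] at ha
        exact hr.one_lt.ne ha
      have har : (a : G) ^ r = 1 := by
        have := pow_orderOf_eq_one a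
        rw [ha] at this
        exact congrArg Subtype.val this
      obtain ⟨⟨v, hvV'⟩, hv1⟩ := (Subgroup.ne_bot_iff_exists_ne_one).1 hV
      have hvr : v ^ r = 1 := congrArg Subtype.val (hrV ⟨v, hvV'⟩)
      have := no_torsion V (a : G) r (hAV a.2) har (hfpf a a.2 ha1) v hvV' hvr
      exact hv1 (Subtype.ext this)

end Cfsg.Agent.S0041
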