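import Cfsg.Statements.S0013
import Mathlib
import Cfsg.Agent.Lib.Helper5.Frattini

set_option autoImplicit false
open Cfsg

namespace Cfsg.Agent.S0013

/-- In a finite p-group the Frattini subgroup is the smallest normal subgroup with elementary abelian quotient: it lies below any normal subgroup containing all commutators and all p-th powers. -/
theorem result {G : Type*} [Group G] [Finite G] (p : ℕ) [Fact p.Prime]
    (hG : IsPGroup p G) (N : Subgroup G) [N.Normal] (hcomm : commutator G ≤ N) (hpow : ∀ x : G, x ^ p ∈ N) :
    frattini G ≤ N := by
  have hp : p.Prime := Fact.out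
  have hcommq : ∀ a b : G ⧸ N, a * b = b * a := by
    have := (Subgroup.Normal.quotient_commutative_iff_commutator_le (N := N)).2 hcomm
    intro a b
    exact mul_comm' a b
  have hexp : ∀ a : G ⧸ N, a ^ p = 1 := by
    intro a
    induction a using QuotientGroup.induction_on with
    | H x =>
      rw [← QuotientGroup.mk_pow, QuotientGroup.eq_one_iff]
      exact hpow x
  have := Cfsg.Agent.Lib.Helper5.frattini_le_ker_of_elem_abelian hp (QuotientGroup.mk' N) hcommq hexp
  rwa [QuotientGroup.ker_mk'] at this

end Cfsg.Agent.S0013
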