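import Cfsg.Statements.S0093
import Mathlib
import Cfsg.Agent.S0013
import Cfsg.Agent.S0065

set_option autoImplicit false
open Cfsg

namespace Cfsg.Agent.S0093

open scoped commutatorElement

/-- central elements of exponent dividing `p` -/
def omegaZ (Q : Type*) [Group Q] (p : ℕ) : Subgroup Q where
  carrier := {x | x ∈ Subgroup.center Q ∧ x ^ p = 1}
  one_mem' := ⟨Subgroup.one_mem _, one_pow _⟩
  mul_mem' := by
    rintro a b ⟨ha, ha'⟩ ⟨hb, hb'⟩
    refine ⟨Subgroup.mul_mem _ ha hb, ?_⟩
    have hc : Commute a b := (Subgroup.mem_center_iff.1 ha b).symm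
    rw [hc.mul_pow, ha', hb', one_mul]
  inv_mem' := by
    rintro a ⟨ha, ha'⟩
    exact ⟨Subgroup.inv_mem _ ha, by rw [inv_pow, ha', inv_one]⟩

theorem mem_omegaZ {Q : Type*} [Group Q] (p : ℕ) (x : Q) :
    x ∈ omegaZ Q p ↔ x ∈ Subgroup.center Q ∧ x ^ p = 1 := Iff.rfl

theorem exists_order_p {Q : Type*} [Group Q] {p : ℕ} (hQ : IsPGroup p Q) (y : Q) (hy : y ≠ 1) :
    ∃ n : ℕ, y ^ n ≠ 1 ∧ (y ^ n) ^ p = 1 := by
  classical
  have hex : ∃ k, y ^ (p ^ k) = 1 := hQ y
  have hk0 : Nat.find hex ≠ 0 := by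
    intro h0
    have := Nat.find_spec hex
    rw [h0, pow_zero, pow_one] at this
    exact hy this
  obtain ⟨k, hk⟩ := Nat.exists_eq_succ_of_ne_zero hk0
  refine ⟨p ^ k, ?_, ?_⟩
  · have := Nat.find_min hex (m := k) (by omega)
    exact this
  · rw [← pow_mul, ← pow_succ, ← Nat.succ_eq_add_one, ← hk]
    exact Nat.find_spec hex

/-- Every finite p-group has a critical subgroup: a characteristic subgroup H whose Frattini subgroup and whose commutator with the whole group lie in the centre of H, and whose centralizer is contained in H. -/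
theorem result {P : Type*} [Group P] [Finite P] {p : ℕ} [Fact p.Prime] (hP : IsPGroup p P) : ∃ H : Subgroup P, H.Characteristic ∧ (frattini H).map H.subtype ≤ Subgroup.centralizer (H : Set P) ∧ ⁅H, (⊤ : Subgroup P)⁆ ≤ H ⊓ Subgroup.centralizer (H : Set P) ∧ Subgroup.centralizer (H : Set P) ≤ H := by
  classical
  have hp : p.Prime := Fact.out
  -- maximal characteristic abelian subgroup
  obtain ⟨M, ⟨hMchar, hMab⟩, hMmax⟩ := Set.exists_max_image
    {M : Subgroup P | M.Characteristic ∧ M ≤ Subgroup.centralizer (M : Set P)}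
    (fun M => Nat.card M) (Set.toFinite _)
    ⟨⊥, Subgroup.botCharacteristic, bot_le⟩
  haveI := hMchar
  haveI hMn : M.Normal := Subgroup.normal_of_characteristic M
  obtain ⟨C, hC⟩ : ∃ C : Subgroup P, C = Subgroup.centralizer (M : Set P) := ⟨_, rfl⟩
  haveI hCchar : C.Characteristic := by rw [hC]; infer_instance
  obtain ⟨H, hH⟩ : ∃ H : Subgroup P, H = C ⊓ (omegaZ (P ⧸ M) p).comap (QuotientGroup.mk' M) := ⟨_, rfl⟩
  have memH : ∀ h : P, h ∈ H ↔ h ∈ C ∧ (∀ g : P, (g * h)⁻¹ * (h * g) ∈ M) ∧ h ^ p ∈ M := by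
    intro h
    rw [hH, Subgroup.mem_inf, Subgroup.mem_comap, mem_omegaZ, Subgroup.mem_center_iff]
    constructor
    · rintro ⟨h1, h2, h3⟩
      refine ⟨h1, ?_, ?_⟩
      · intro g
        have := h2 (QuotientGroup.mk' M g)
        rw [← map_mul, ← map_mul] at this
        exact QuotientGroup.eq.1 this
      · rw [← map_pow] at h3
        exact (QuotientGroup.eq_one_iff _).1 h3
    · rintro ⟨h1, h2, h3⟩
      refine ⟨h1, ?_, ?_⟩
      · intro g'
        obtain ⟨g, rfl⟩ := QuotientGroup.mk'_surjective M g'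
        rw [← map_mul, ← map_mul]
        exact QuotientGroup.eq.2 (h2 g)
      · rw [← map_pow]
        exact (QuotientGroup.eq_one_iff _).2 h3
  have hMfix : ∀ (φ : P ≃* P) (x : P), φ x ∈ M ↔ x ∈ M := by
    intro φ x
    have := Subgroup.characteristic_iff_comap_eq.1 hMchar φ
    constructor
    · intro hx
      rw [← this]
      exact hx
    · intro hx
      rw [← this] at hx
      exact hx
  have hCfix : ∀ (φ : P ≃* P) (x : P), φ x ∈ C ↔ x ∈ C := by
    intro φ x
    have := Subgroup.characteristic_iff_comap_eq.1 hCchar φ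
    constructor
    · intro hx
      rw [← this]
      exact hx
    · intro hx
      rw [← this] at hx
      exact hx
  have hHchar : H.Characteristic := by
    rw [Subgroup.characteristic_iff_comap_le]
    intro φ h hh
    rw [Subgroup.mem_comap] at hh
    change φ h ∈ H at hh
    rw [memH] at hh ⊢
    obtain ⟨h1, h2, h3⟩ := hh
    refine ⟨(hCfix φ h).1 h1, ?_, ?_⟩
    · intro g
      have := h2 (φ g)
      rw [← map_mul, ← map_mul, ← map_inv, ← map_mul] at this
      exact (hMfix φ _).1 this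
    · rw [← map_pow] at h3
      exact (hMfix φ _).1 h3
  haveI := hHchar
  have hMH : M ≤ H := by
    intro m hm
    rw [memH]
    refine ⟨?_, ?_, M.pow_mem hm p⟩
    · rw [hC]; exact hMab hm
    · intro g
      have : (g * m)⁻¹ * (m * g) = m⁻¹ * (g⁻¹ * m * g⁻¹⁻¹) := by group
      rw [this]
      exact M.mul_mem (M.inv_mem hm) (hMn.conj_mem m hm g⁻¹)
  have hHC : H ≤ C := by rw [hH]; exact inf_le_left
  have hMcH : M ≤ Subgroup.centralizer (H : Set P) := by
    rw [Subgroup.le_centralizer_iff, ← hC]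
    exact hHC
  -- the centre of H is M
  have hZ : H ⊓ Subgroup.centralizer (H : Set P) = M := by
    symm
    apply Subgroup.eq_of_le_of_card_ge (le_inf hMH hMcH)
    apply hMmax
    refine ⟨inferInstance, ?_⟩
    refine inf_le_right.trans ?_
    apply Subgroup.centralizer_le
    exact inf_le_left
  have hcomm : ⁅H, (⊤ : Subgroup P)⁆ ≤ M := by
    rw [Subgroup.commutator_le]
    intro h hh g _
    have hh' : h⁻¹ ∈ H := H.inv_mem hh
    rw [memH] at hh'
    have := hh'.2.1 g⁻¹
    have e : (g⁻¹ * h⁻¹)⁻¹ * (h⁻¹ * g⁻¹) = ⁅h, g⁆ := by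
      rw [commutatorElement_def]; group
    rwa [e] at this
  have hpowH : ∀ h ∈ H, h ^ p ∈ M := fun h hh => ((memH h).1 hh).2.2
  refine ⟨H, hHchar, ?_, ?_, ?_⟩
  · -- Frattini
    haveI : (M.subgroupOf H).Normal := inferInstance
    have hfr : frattini H ≤ M.subgroupOf H := by
      apply Cfsg.Agent.S0013.result p (hP.to_subgroup H) (M.subgroupOf H)
      · rw [commutator_def, Subgroup.commutator_le]
        intro a _ b _
        rw [Subgroup.mem_subgroupOf]
        apply hcomm
        have : ((⁅a, b⁆ : H) : P) = ⁅(a : P), (b : P)⁆ := by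
          simp [commutatorElement_def]
        rw [this]
        exact Subgroup.commutator_mem_commutator a.2 (Subgroup.mem_top _)
      · intro x
        rw [Subgroup.mem_subgroupOf]
        push_cast
        exact hpowH x x.2
    intro x hx
    obtain ⟨y, hy, rfl⟩ := Subgroup.mem_map.1 hx
    have := hfr hy
    rw [Subgroup.mem_subgroupOf] at this
    exact hMcH this
  · rw [hZ]; exact hcomm
  · -- self-centralizing
    by_contra hne
    obtain ⟨x, hxQ, hxH⟩ := SetLike.not_le_iff_exists.1 hne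
    obtain ⟨Q, hQ⟩ : ∃ Q : Subgroup P, Q = Subgroup.centralizer (H : Set P) := ⟨_, rfl⟩
    haveI hQchar : Q.Characteristic := by rw [hQ]; infer_instance
    haveI hQn : Q.Normal := Subgroup.normal_of_characteristic Q
    haveI hQbar : (Q.map (QuotientGroup.mk' M)).Normal :=
      hQn.map _ (QuotientGroup.mk'_surjective M)
    have hPq : IsPGroup p (P ⧸ M) := hP.to_quotient M
    haveI : Group.IsNilpotent (P ⧸ M) := hPq.isNilpotent
    have hQne : Q.map (QuotientGroup.mk' M) ≠ ⊥ := by
      intro hbot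
      have : QuotientGroup.mk' M x ∈ Q.map (QuotientGroup.mk' M) :=
        Subgroup.mem_map_of_mem _ (by rw [hQ]; exact hxQ)
      rw [hbot, Subgroup.mem_bot] at this
      exact hxH (hMH ((QuotientGroup.eq_one_iff _).1 this))
    have := Cfsg.Agent.S0065.result (Q.map (QuotientGroup.mk' M)) hQne
    obtain ⟨⟨y, hy⟩, hy1⟩ := (Subgroup.ne_bot_iff_exists_ne_one).1 this
    have hy1' : y ≠ 1 := by
      intro h
      apply hy1
      exact Subtype.ext h
    obtain ⟨n, hn1, hn2⟩ := exists_order_p hPq y hy1'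
    have hz : y ^ n ∈ Q.map (QuotientGroup.mk' M) ⊓ Subgroup.center (P ⧸ M) :=
      Subgroup.pow_mem _ hy n
    obtain ⟨hzQ, hzc⟩ := Subgroup.mem_inf.1 hz
    obtain ⟨w, hwQ, hw⟩ := Subgroup.mem_map.1 hzQ
    have hwH : w ∈ H := by
      rw [hH, Subgroup.mem_inf, Subgroup.mem_comap, mem_omegaZ]
      refine ⟨?_, ?_, ?_⟩
      · rw [hC]
        rw [hQ] at hwQ
        exact Subgroup.centralizer_le hMH hwQ
      · rw [hw]; exact hzc
      · rw [hw]; exact hn2
    have hwM : w ∈ M := by
      rw [← hZ]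
      exact ⟨hwH, by rw [hQ] at hwQ; exact hwQ⟩
    apply hn1
    rw [← hw]
    exact (QuotientGroup.eq_one_iff _).2 hwM

end Cfsg.Agent.S0093
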