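import Cfsg.Statements.S0029
import Cfsg.Agent.Lib.Helper4.CoprimeAct

set_option autoImplicit false
open Cfsg

namespace Cfsg.Agent.S0029

open Cfsg.Agent.Lib.Helper4

/-- An action that is trivial on the Frattini quotient and coprime on the Frattini subgroup is trivial: if A normalises K, the orders of A and of the Frattini subgroup of K are coprime, and every commutator of an element of A with an element of K lies in the Frattini subgroup of K, then A centralises K. -/
theorem result {G : Type*} [Group G] [Finite G] (A K : Subgroup G)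
    (hAK : A ≤ Subgroup.normalizer (K : Set G))
    (hcop : (Nat.card A).Coprime (Nat.card (frattini K)))
    (htriv : ∀ a ∈ A, ∀ k ∈ K, a * k * a⁻¹ * k⁻¹ ∈ (frattini K).map K.subtype) :
    A ≤ Subgroup.centralizer (K : Set G) := by
  classical
  set Φ : Subgroup G := (frattini K).map K.subtype with hΦ
  have hΦK : Φ ≤ K := Subgroup.map_subtype_le _
  have hcardΦ : Nat.card Φ = Nat.card (frattini K) :=
    Subgroup.card_map_of_injective K.subtype_injective
  have hcop' : (Nat.card A).Coprime (Nat.card Φ) := by rw [hcardΦ]; exact hcop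
  have hKΦ : ∀ k ∈ K, ∀ φ ∈ Φ, k * φ * k⁻¹ ∈ Φ := by
    rintro k hk _ ⟨f, hf, rfl⟩
    have hn : (frattini K).Normal := inferInstance
    refine ⟨⟨k, hk⟩ * f * (⟨k, hk⟩ : K)⁻¹, hn.conj_mem f hf _, ?_⟩
    simp
  have hAΦ : A ≤ Subgroup.normalizer (Φ : Set G) := by
    intro a ha
    rw [Subgroup.mem_normalizer_iff_map_conj_eq]
    show cj a Φ = Φ
    have hle : cj a Φ ≤ Φ := by
      rintro _ ⟨φ, hφ, rfl⟩
      have h1 := htriv a ha φ (hΦK hφ)
      have e : (MulAut.conj a).toMonoidHom φ = (a * φ * a⁻¹ * φ⁻¹) * φ := by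
        simp [MulAut.conj_apply]
      rw [e]
      exact Φ.mul_mem h1 hφ
    exact Subgroup.eq_of_le_of_card_ge hle (by rw [card_cj'])
  have hsolv' : Group.IsSolvable A ∨ Group.IsSolvable Φ := by
    right
    have h1 : Group.IsNilpotent (frattini K) := frattini_nilpotent
    have h2 : Group.IsSolvable (frattini K) := inferInstance
    exact Group.isSolvable_of_surjective (f := K.subtype.subgroupMap (frattini K))
      (K.subtype.subgroupMap_surjective (frattini K))
  have hdisj : Φ ⊓ A = ⊥ := act_inf_eq_bot A Φ hcop'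
  -- every coset of Φ in K contains a fixed element
  have hkey : ∀ k ∈ K, ∃ c ∈ K, c ∈ Subgroup.centralizer (A : Set G) ∧ c * k⁻¹ ∈ Φ := by
    intro k hk
    set ω₀ : G ⧸ A := (k : G ⧸ A) with hω₀
    have h : ∀ a ∈ A, ∃ n ∈ Φ, a • ω₀ = n • ω₀ := by
      intro a ha
      refine ⟨a * k * a⁻¹ * k⁻¹, htriv a ha k hk, ?_⟩
      show ((a * k : G) : G ⧸ A) = ((a * k * a⁻¹ * k⁻¹ * k : G) : G ⧸ A)
      rw [QuotientGroup.eq]
      have : (a * k)⁻¹ * (a * k * a⁻¹ * k⁻¹ * k) = a⁻¹ := by group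
      rw [this]; exact A.inv_mem ha
    obtain ⟨n, hn, hfixn⟩ := glauberman_fix A Φ hAΦ hcop' hsolv' ω₀ h
    set c : G := n * k with hc
    have hcK : c ∈ K := K.mul_mem (hΦK hn) hk
    have hle : cj c⁻¹ A ≤ A := by
      rintro _ ⟨a, ha, rfl⟩
      have h1 := hfixn a⁻¹ (A.inv_mem ha)
      have h2 : ((a⁻¹ * (n * k) : G) : G ⧸ A) = ((n * k : G) : G ⧸ A) := h1
      rw [QuotientGroup.eq] at h2
      show c⁻¹ * a * c⁻¹⁻¹ ∈ A
      have : c⁻¹ * a * c⁻¹⁻¹ = (a⁻¹ * (n * k))⁻¹ * (n * k) := by rw [hc]; group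
      rw [this]; exact h2
    have heq : cj c⁻¹ A = A := Subgroup.eq_of_le_of_card_ge hle (by rw [card_cj'])
    have heq' : cj c A = A := by
      have := congrArg (cj c) heq
      rw [← cj_mul, mul_inv_cancel, cj_one] at this
      exact this.symm
    refine ⟨c, hcK, ?_, ?_⟩
    · rw [Subgroup.mem_centralizer_iff]
      intro a ha
      have h1 : c * a * c⁻¹ ∈ A := by rw [← heq']; exact conj_mem_cj c A ha
      have h2 : c * a * c⁻¹ * a⁻¹ ∈ A := A.mul_mem h1 (A.inv_mem ha)
      have h3 : c * a * c⁻¹ * a⁻¹ ∈ Φ := by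
        have h4 := htriv a ha c⁻¹ (K.inv_mem hcK)
        have h5 := hKΦ c hcK _ h4
        have e : c * a * c⁻¹ * a⁻¹ = c * (a * c⁻¹ * a⁻¹ * c⁻¹⁻¹) * c⁻¹ := by group
        rw [e]; exact h5
      have h4 : c * a * c⁻¹ * a⁻¹ ∈ Φ ⊓ A := ⟨h3, h2⟩
      rw [hdisj, Subgroup.mem_bot] at h4
      have e : c * a = (c * a * c⁻¹ * a⁻¹) * (a * c) := by group
      rw [e, h4, one_mul]
    · have : c * k⁻¹ = n := by rw [hc]; group
      rw [this]; exact hn
  -- Frattini: C_K(A) = K
  set C' : Subgroup K := (Subgroup.centralizer (A : Set G)).subgroupOf K with hC'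
  have hsup : C' ⊔ frattini K = ⊤ := by
    rw [eq_top_iff]
    intro k _
    obtain ⟨c, hcK, hcC, hck⟩ := hkey (k : G) k.2
    obtain ⟨f, hf, hfe⟩ := hck
    have hk : k = f⁻¹ * (⟨c, hcK⟩ : K) := by
      apply Subtype.ext
      have : (f : G) = c * (k : G)⁻¹ := hfe
      simp only [Subgroup.coe_mul, Subgroup.coe_inv, this]
      group
    rw [hk]
    exact Subgroup.mul_mem _ (Subgroup.mem_sup_right (Subgroup.inv_mem _ hf))
      (Subgroup.mem_sup_left (Subgroup.mem_subgroupOf.2 hcC))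
  have htop : C' = ⊤ := frattini_nongenerating hsup
  intro a ha
  rw [Subgroup.mem_centralizer_iff]
  intro k hk
  have h1 : (⟨k, hk⟩ : K) ∈ C' := by rw [htop]; exact Subgroup.mem_top _
  have h2 : k ∈ Subgroup.centralizer (A : Set G) := Subgroup.mem_subgroupOf.1 h1
  exact ((Subgroup.mem_centralizer_iff.1 h2) a ha).symm

end Cfsg.Agent.S0029
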