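import Mathlib
import Cfsg.Statements.S0042
import Cfsg.Agent.S0035
import Cfsg.Agent.Lib.Helper3.ThompsonFpf

set_option autoImplicit false
open Cfsg
open Cfsg.Agent.Lib.Helper3
open scoped Pointwise

namespace Cfsg.Agent.S0042

/-- In a finite Frobenius group, the Frobenius kernel is (the carrier of) a normal subgroup which is nilpotent. -/
theorem result {G : Type*} [Group G] [Finite G] (H : Subgroup G) (hH : Cfsg.IsFrobeniusComplement H) :
    ∃ N : Subgroup G, (N : Set G) = Cfsg.frobeniusKernel H ∧ N.Normal ∧ Group.IsNilpotent N := by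
  obtain ⟨N, hNk, hNn, hNc⟩ := Cfsg.Agent.S0035.result H hH
  refine ⟨N, hNk, hNn, ?_⟩
  obtain ⟨hH1, _, hfrob⟩ := hH
  have hcard : Nat.card ↥H ≠ 1 := fun h => hH1 (Subgroup.card_eq_one.mp h)
  obtain ⟨r, hr, hrd⟩ := Nat.exists_prime_and_dvd hcard
  have : Fact r.Prime := ⟨hr⟩
  obtain ⟨h, hh⟩ := exists_prime_orderOf_dvd_card' (G := ↥H) r hrd
  have hdisj : N ⊓ H = ⊥ := hNc.disjoint.eq_bot
  have hf : Fpf (MulAut.conjNormal (H := N) (h : G)) r := by
    constructor
    · intro n hn
      by_contra hne
      have hn' : (h : G) * (n : G) * (h : G)⁻¹ = (n : G) := by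
        have := congrArg Subtype.val hn
        rwa [MulAut.conjNormal_apply] at this
      have hnH : (n : G) ∉ H := by
        intro hcon
        have : (n : G) ∈ N ⊓ H := Subgroup.mem_inf.mpr ⟨n.2, hcon⟩
        rw [hdisj, Subgroup.mem_bot] at this
        exact hne (Subtype.ext this)
      have h1 := hfrob (n : G) hnH
      have h2 : (h : G) ∈ H ⊓ (MulAut.conj (n : G) • H) := by
        refine Subgroup.mem_inf.mpr ⟨h.2, ?_⟩
        have h3 : (MulAut.conj (n : G)) • (h : G) ∈ MulAut.conj (n : G) • H :=
          Subgroup.smul_mem_pointwise_smul _ _ _ h.2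
        have h4 : (MulAut.conj (n : G)) • (h : G) = (h : G) := by
          rw [MulAut.smul_def, MulAut.conj_apply]
          have : (n : G) * (h : G) = (h : G) * (n : G) := (mul_inv_eq_iff_eq_mul.mp hn').symm
          rw [this, mul_inv_cancel_right]
        rwa [h4] at h3
      rw [h1, Subgroup.mem_bot] at h2
      have h5 : h = 1 := Subtype.ext h2
      rw [h5, orderOf_one] at hh
      exact hr.one_lt.ne hh
    · rw [← map_pow]
      have : (h : G) ^ r = 1 := by
        have h1 : h ^ r = 1 := by rw [← hh]; exact pow_orderOf_eq_one h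
        have h2 := congrArg Subtype.val h1
        simpa using h2
      rw [this, map_one]
  exact thompson_fpf hr _ ↥N rfl _ hf

end Cfsg.Agent.S0042
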