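import Cfsg.Statements.S0015
import Mathlib
import Cfsg.Agent.Lib.Helper1.NilpCenter

set_option autoImplicit false
open Cfsg

namespace Cfsg.Agent.S0015

open Cfsg.Agent.Lib.Helper1

/-- In a finite nilpotent group, an abelian normal subgroup that is maximal among abelian normal subgroups equals its own centralizer. -/
theorem result {G : Type*} [Group G] [Finite G] [Group.IsNilpotent G]
    (N : Subgroup G) [N.Normal] [IsMulCommutative N]
    (hmax : ∀ M : Subgroup G, M.Normal → IsMulCommutative M → N ≤ M → M = N) :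
    Subgroup.centralizer (N : Set G) = N := by
  apply le_antisymm _ (Subgroup.le_centralizer N)
  by_contra hnle
  obtain ⟨c, hcC, hcN⟩ := SetLike.not_le_iff_exists.1 hnle
  -- image of the centralizer in the quotient
  set Cb := (Subgroup.centralizer (N : Set G)).map (QuotientGroup.mk' N) with hCb
  haveI : Cb.Normal := Subgroup.Normal.map inferInstance _ (QuotientGroup.mk'_surjective N)
  have hCbne : Cb ≠ ⊥ := by
    intro h
    have : (QuotientGroup.mk' N) c ∈ Cb := Subgroup.mem_map_of_mem _ hcC
    rw [h, Subgroup.mem_bot] at this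
    exact hcN ((QuotientGroup.eq_one_iff c).1 this)
  obtain ⟨xb, hxbC, hxbZ, hxb1⟩ := exists_mem_center_of_isNilpotent Cb hCbne
  obtain ⟨x, hxC, rfl⟩ := hxbC
  have hxN : x ∉ N := fun h => hxb1 ((QuotientGroup.eq_one_iff x).2 h)
  have hxcomm : ∀ n ∈ N, n * x = x * n := fun n hn => Subgroup.mem_centralizer_iff.1 hxC n hn
  -- the subgroup M = N⟨x⟩ as a preimage
  have hZn : (Subgroup.zpowers ((QuotientGroup.mk' N) x)).Normal := by
    constructor
    intro n hn g
    have hcomm : g * n = n * g := by
      obtain ⟨k, rfl⟩ := hn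
      have h1 : g * (QuotientGroup.mk' N) x = (QuotientGroup.mk' N) x * g :=
        Subgroup.mem_center_iff.1 hxbZ g
      exact ((Commute.zpow_right h1 k)).eq
    rw [hcomm, mul_assoc, mul_inv_cancel, mul_one]
    exact hn
  set M := (Subgroup.zpowers ((QuotientGroup.mk' N) x)).comap (QuotientGroup.mk' N) with hM
  have hMn : M.Normal := hZn.comap _
  have hNM : N ≤ M := by
    intro n hn
    rw [hM, Subgroup.mem_comap]
    have : (QuotientGroup.mk' N) n = 1 := (QuotientGroup.eq_one_iff n).2 hn
    rw [this]; exact Subgroup.one_mem _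
  have hxM : x ∈ M := by
    rw [hM, Subgroup.mem_comap]
    exact Subgroup.mem_zpowers _
  have hdecomp : ∀ y ∈ M, ∃ k : ℤ, ∃ n ∈ N, y = x ^ k * n := by
    intro y hy
    rw [hM, Subgroup.mem_comap] at hy
    obtain ⟨k, hk⟩ := hy
    refine ⟨k, (x ^ k)⁻¹ * y, ?_, by group⟩
    rw [← QuotientGroup.eq_one_iff]
    have hk' : (QuotientGroup.mk' N) x ^ k = (QuotientGroup.mk' N) y := hk
    have h2 : (QuotientGroup.mk' N) ((x ^ k)⁻¹ * y) = 1 := by
      rw [map_mul, map_inv, map_zpow, hk', inv_mul_cancel]
    exact h2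
  have hMc : IsMulCommutative M := by
    constructor
    constructor
    rintro ⟨y, hy⟩ ⟨z, hz⟩
    apply Subtype.ext
    show y * z = z * y
    obtain ⟨k, n, hn, rfl⟩ := hdecomp y hy
    obtain ⟨l, m, hm, rfl⟩ := hdecomp z hz
    have h1 : Commute n (x ^ l) := (Commute.zpow_right (hxcomm n hn) l)
    have h2 : Commute m (x ^ k) := (Commute.zpow_right (hxcomm m hm) k)
    have h3 : n * m = m * n := by
      have := mul_comm' (⟨n, hn⟩ : N) ⟨m, hm⟩
      exact congrArg Subtype.val this
    have h4 : Commute (x ^ k) (x ^ l) := (Commute.refl x).zpow_zpow k l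
    calc x ^ k * n * (x ^ l * m) = x ^ k * (n * x ^ l) * m := by group
      _ = x ^ k * (x ^ l * n) * m := by rw [h1.eq]
      _ = (x ^ k * x ^ l) * (n * m) := by group
      _ = (x ^ l * x ^ k) * (m * n) := by rw [h4.eq, h3]
      _ = x ^ l * (x ^ k * m) * n := by group
      _ = x ^ l * (m * x ^ k) * n := by rw [h2.eq]
      _ = x ^ l * m * (x ^ k * n) := by group
  have := hmax M hMn hMc hNM
  rw [this] at hxM
  exact hxN hxM

end Cfsg.Agent.S0015
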