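import Mathlib
import Cfsg.Statements.S3977

set_option autoImplicit false

open Cfsg

namespace Cfsg.Agent.S3977

universe u

section class2
variable {G : Type*} [Group G]

lemma pow_mul_of_comm {x y e : G} (h : y * x = e * x * y) (hey : Commute e y)
    (n : ℕ) : y ^ n * x = e ^ n * x * y ^ n := by
  induction n with
  | zero => simp
  | succ n ih =>
    have h1 : y ^ (n + 1) * x = y * (y ^ n * x) := by rw [pow_succ', mul_assoc]
    rw [h1, ih]
    have hey' : Commute (e ^ n) y := hey.pow_left n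
    calc y * (e ^ n * x * y ^ n) = (y * e ^ n) * x * y ^ n := by group
      _ = (e ^ n * y) * x * y ^ n := by rw [hey'.eq]
      _ = e ^ n * (y * x) * y ^ n := by group
      _ = e ^ n * (e * x * y) * y ^ n := by rw [h]
      _ = e ^ (n + 1) * x * y ^ (n + 1) := by rw [pow_succ, pow_succ']; group

lemma mul_pow_class2 {x y e : G} (h : y * x = e * x * y) (hex : Commute e x) (hey : Commute e y)
    (n : ℕ) : (x * y) ^ n = e ^ (n * (n - 1) / 2) * x ^ n * y ^ n := by
  induction n with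
  | zero => simp
  | succ n ih =>
    rw [pow_succ, ih, Nat.triangle_succ]
    have h1 := pow_mul_of_comm h hey n
    have hex' : Commute (e ^ n) (x ^ n) := (hex.pow_left n).pow_right n
    calc e ^ (n * (n - 1) / 2) * x ^ n * y ^ n * (x * y)
        = e ^ (n * (n - 1) / 2) * x ^ n * (y ^ n * x) * y := by group
      _ = e ^ (n * (n - 1) / 2) * x ^ n * (e ^ n * x * y ^ n) * y := by rw [h1]
      _ = e ^ (n * (n - 1) / 2) * (x ^ n * e ^ n) * x * y ^ n * y := by group
      _ = e ^ (n * (n - 1) / 2) * (e ^ n * x ^ n) * x * y ^ n * y := by rw [hex'.eq]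
      _ = e ^ (n * (n - 1) / 2 + n) * x ^ (n + 1) * y ^ (n + 1) := by
        rw [pow_add, pow_succ, pow_succ]; group

end class2

section two
variable {G : Type*} [Group G] [Finite G]

lemma two_cyclic_false (p m q : ℕ) (hp : p.Prime) (hm : 2 ≤ m) (hG : Nat.card G = p ^ m)
    (M₁ M₂ : Subgroup G) (h1 : Nat.card M₁ = p ^ (m - 1)) (h2 : Nat.card M₂ = p ^ (m - 1))
    (hne : M₁ ≠ M₂) (hc1 : IsCyclic M₁) (hc2 : IsCyclic M₂)
    (hq : (p ≠ 2 ∧ q = p) ∨ (p = 2 ∧ q = 4))
    (hH : ∀ d : G, d ^ q = 1 → d ∈ M₁) : False := by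
  have hppos : 0 < p ^ (m - 1) := pow_pos hp.pos _
  have hpm : p ^ m = p * p ^ (m - 1) := by
    rw [← pow_succ']; congr 1; omega
  have hidx : ∀ M : Subgroup G, Nat.card M = p ^ (m - 1) → M.index = p := by
    intro M hM
    have := Subgroup.index_mul_card M
    rw [hM, hG, hpm] at this
    exact Nat.eq_of_mul_eq_mul_right hppos this
  have hminFac : (Nat.card G).minFac = p := by
    rw [hG]; exact hp.pow_minFac (by omega)
  haveI hn1 : M₁.Normal := Subgroup.normal_of_index_eq_minFac_card (by rw [hidx M₁ h1, hminFac])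
  haveI hn2 : M₂.Normal := Subgroup.normal_of_index_eq_minFac_card (by rw [hidx M₂ h2, hminFac])
  obtain ⟨a', ha'⟩ := IsCyclic.exists_generator (α := M₁)
  obtain ⟨b', hb'⟩ := IsCyclic.exists_generator (α := M₂)
  set a : G := (a' : G) with ha
  set b : G := (b' : G) with hb
  have haM : a ∈ M₁ := a'.2
  have hbM : b ∈ M₂ := b'.2
  have hgen1 : ∀ x ∈ M₁, x ∈ Subgroup.zpowers a := by
    intro x hx
    obtain ⟨n, hn⟩ := Subgroup.mem_zpowers_iff.1 (ha' ⟨x, hx⟩)
    refine Subgroup.mem_zpowers_iff.2 ⟨n, ?_⟩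
    have := congrArg Subtype.val hn
    simpa using this
  have hgen2 : ∀ x ∈ M₂, x ∈ Subgroup.zpowers b := by
    intro x hx
    obtain ⟨n, hn⟩ := Subgroup.mem_zpowers_iff.1 (hb' ⟨x, hx⟩)
    refine Subgroup.mem_zpowers_iff.2 ⟨n, ?_⟩
    have := congrArg Subtype.val hn
    simpa using this
  have hcomm1 : ∀ u ∈ M₁, ∀ v ∈ M₁, Commute u v := by
    intro u hu v hv
    obtain ⟨n, rfl⟩ := Subgroup.mem_zpowers_iff.1 (hgen1 u hu)
    obtain ⟨n', rfl⟩ := Subgroup.mem_zpowers_iff.1 (hgen1 v hv)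
    exact (Commute.refl a).zpow_zpow n n'
  have hcomm2 : ∀ u ∈ M₂, ∀ v ∈ M₂, Commute u v := by
    intro u hu v hv
    obtain ⟨n, rfl⟩ := Subgroup.mem_zpowers_iff.1 (hgen2 u hu)
    obtain ⟨n', rfl⟩ := Subgroup.mem_zpowers_iff.1 (hgen2 v hv)
    exact (Commute.refl b).zpow_zpow n n'
  have hoa : orderOf a = p ^ (m - 1) := by
    rw [ha, Subgroup.orderOf_coe, orderOf_eq_card_of_forall_mem_zpowers ha', h1]
  have hob : orderOf b = p ^ (m - 1) := by
    rw [hb, Subgroup.orderOf_coe, orderOf_eq_card_of_forall_mem_zpowers hb', h2]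
  have hbM₁ : b ∉ M₁ := by
    intro hb1
    apply hne
    symm
    apply Subgroup.eq_of_le_of_card_ge
    · intro y hy
      obtain ⟨n, rfl⟩ := Subgroup.mem_zpowers_iff.1 (hgen2 y hy)
      exact M₁.zpow_mem hb1 n
    · rw [h1, h2]
  have hbp : b ^ p ∈ M₁ := by
    have := Subgroup.pow_index_mem M₁ b
    rwa [hidx M₁ h1] at this
  obtain ⟨j, hj⟩ := (mem_powers_iff_mem_zpowers.2 (hgen1 _ hbp))
  have hj' : a ^ j = b ^ p := hj
  have hpj : p ∣ j := by
    have h3 : (b ^ p) ^ (p ^ (m - 2)) = 1 := by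
      rw [← pow_mul, ← pow_succ']
      have : m - 2 + 1 = m - 1 := by omega
      rw [this, ← hob]; exact pow_orderOf_eq_one b
    rw [← hj', ← pow_mul] at h3
    have h4 := orderOf_dvd_of_pow_eq_one h3
    rw [hoa] at h4
    have h5 : p ^ (m - 1) = p * p ^ (m - 2) := by
      rw [← pow_succ']; congr 1; omega
    rw [h5] at h4
    exact Nat.dvd_of_mul_dvd_mul_right (pow_pos hp.pos _) h4
  obtain ⟨k, rfl⟩ := hpj
  set x : G := (a ^ k)⁻¹ with hx
  set y : G := b with hy
  have hxM : x ∈ M₁ := M₁.inv_mem (M₁.pow_mem haM k)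
  have hxp : x ^ p = (y ^ p)⁻¹ := by
    rw [hx, inv_pow, ← pow_mul, mul_comm k p, hj']
  set e : G := y * x * y⁻¹ * x⁻¹ with he
  have he1 : e ∈ M₁ := M₁.mul_mem (hn1.conj_mem x hxM y) (M₁.inv_mem hxM)
  have he2 : e ∈ M₂ := by
    have : e = y * (x * y⁻¹ * x⁻¹) := by rw [he]; group
    rw [this]
    exact M₂.mul_mem hbM (hn2.conj_mem _ (M₂.inv_mem hbM) x)
  have hex : Commute e x := hcomm1 e he1 x hxM
  have hey : Commute e y := hcomm2 e he2 y hbM
  have hyx : y * x = e * x * y := by rw [he]; group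
  have hep : e ^ p = 1 := by
    have h3 : y * x ^ p * y⁻¹ = (y * x * y⁻¹) ^ p := conj_pow.symm
    have h4 : y * x * y⁻¹ = e * x := by rw [he]; group
    rw [h4, hex.mul_pow] at h3
    have h5 : y * x ^ p * y⁻¹ = x ^ p := by
      have hc : Commute y (x ^ p) := by
        rw [hxp]
        exact hcomm2 y hbM _ (M₂.inv_mem (M₂.pow_mem hbM p))
      rw [hc.eq, mul_inv_cancel_right]
    rw [h5] at h3
    have := mul_right_cancel (a := (1 : G)) (b := x ^ p) (c := e ^ p) (by rw [one_mul]; exact h3)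
    exact this.symm
  have hd := mul_pow_class2 hyx hex hey q
  have hdq : (x * y) ^ q = 1 := by
    rw [hd]
    rcases hq with ⟨hp2, rfl⟩ | ⟨rfl, rfl⟩
    · obtain ⟨t, ht⟩ := hp.eq_two_or_odd'.resolve_left hp2
      have h6 : q * (q - 1) / 2 = q * t := by
        have : q - 1 = 2 * t := by omega
        rw [this, ← mul_assoc, mul_comm q 2, mul_assoc, Nat.mul_div_cancel_left _ (by norm_num : 0 < 2)]
      rw [h6, pow_mul, hep, one_pow, one_mul, hxp, inv_mul_cancel]
    · have h6 : e ^ (4 * (4 - 1) / 2) = 1 := by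
        have : 4 * (4 - 1) / 2 = 2 * 3 := by norm_num
        rw [this, pow_mul, hep, one_pow]
      have h7 : x ^ 4 = (y ^ 4)⁻¹ := by
        have : x ^ 4 = (x ^ 2) ^ 2 := by rw [← pow_mul]
        rw [this, hxp, inv_pow, ← pow_mul]
      rw [h6, one_mul, h7, inv_mul_cancel]
  have hdM := hH _ hdq
  apply hbM₁
  have e1 : y = x⁻¹ * (x * y) := by group
  rw [e1]
  exact M₁.mul_mem (M₁.inv_mem hxM) hdM

end two

theorem aux (p s : ℕ) (hp : p.Prime) (hs : 1 ≤ s) (h2 : p ≠ 2 ∨ 2 ≤ s) :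
    ∀ (m : ℕ) (G : Type u) [Group G] [Finite G], Nat.card G = p ^ m → s < m →
      (∀ H K : Subgroup G, Nat.card H = p ^ s → Nat.card K = p ^ s → H = K) → IsCyclic G := by
  haveI : Fact p.Prime := ⟨hp⟩
  intro m
  induction m using Nat.strong_induction_on with
  | _ m ih =>
  intro G _ _ hG hsm huniq
  have hdvd : p ^ s ∣ Nat.card G := by rw [hG]; exact pow_dvd_pow p hsm.le
  obtain ⟨H₀, hH₀⟩ := Sylow.exists_subgroup_card_pow_prime p hdvd
  have hmemH : ∀ d : G, ∀ j ≤ s, d ^ (p ^ j) = 1 → d ∈ H₀ := by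
    intro d j hj hd
    obtain ⟨i, hij, hi⟩ := (Nat.dvd_prime_pow hp).1 (orderOf_dvd_of_pow_eq_one hd)
    have hcz : Nat.card (Subgroup.zpowers d) = p ^ i := by rw [Nat.card_zpowers, hi]
    obtain ⟨K, hK, hle⟩ := Sylow.exists_subgroup_card_pow_prime_le p hdvd (Subgroup.zpowers d) hcz
      (hij.trans hj)
    rw [huniq K H₀ hK hH₀] at hle
    exact hle (Subgroup.mem_zpowers d)
  -- a subgroup of order p^j, j < m, is proper
  have hcyc_of : ∀ x : G, Subgroup.zpowers x = ⊤ → IsCyclic G := by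
    intro x hx
    refine ⟨⟨x, fun y => ?_⟩⟩
    have : y ∈ Subgroup.zpowers x := by rw [hx]; exact Subgroup.mem_top y
    exact this
  have hcardz : ∀ x : G, Subgroup.zpowers x ≠ ⊤ →
      ∃ j, j ≤ m - 1 ∧ Nat.card (Subgroup.zpowers x) = p ^ j := by
    intro x hx
    have h3 : Nat.card (Subgroup.zpowers x) ∣ p ^ m := by
      rw [← hG]; exact Subgroup.card_subgroup_dvd_card _
    obtain ⟨j, hjm, hj⟩ := (Nat.dvd_prime_pow hp).1 h3
    refine ⟨j, ?_, hj⟩
    by_contra hcon
    have hjm' : j = m := by omega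
    apply hx
    rw [← Subgroup.card_eq_iff_eq_top, hj, hjm', hG]
  by_cases hms : m = s + 1
  · have hH₀top : H₀ ≠ ⊤ := by
      intro h
      have := (Subgroup.card_eq_iff_eq_top H₀).2 h
      rw [hH₀, hG] at this
      exact absurd (Nat.pow_right_injective hp.two_le this) (by omega)
    obtain ⟨x, -, hx⟩ := SetLike.exists_of_lt (lt_top_iff_ne_top.2 hH₀top)
    apply hcyc_of x
    by_contra hne
    obtain ⟨j, hj, hcj⟩ := hcardz x hne
    apply hx
    apply hmemH x j (by omega)
    rw [← hcj, Nat.card_zpowers]; exact pow_orderOf_eq_one x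
  · have hm2 : 2 ≤ m := by omega
    have hdvd' : p ^ (m - 1) ∣ Nat.card G := by rw [hG]; exact pow_dvd_pow p (by omega)
    have hM : ∀ M : Subgroup G, Nat.card M = p ^ (m - 1) → IsCyclic M := by
      intro M hMc
      apply ih (m - 1) (by omega) M hMc (by omega)
      intro H K hH hK
      have := huniq (H.map M.subtype) (K.map M.subtype)
        (by rw [Subgroup.card_map_of_injective M.subtype_injective, hH])
        (by rw [Subgroup.card_map_of_injective M.subtype_injective, hK])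
      exact Subgroup.map_injective M.subtype_injective this
    have hH₀M : ∀ M : Subgroup G, Nat.card M = p ^ (m - 1) → H₀ ≤ M := by
      intro M hMc
      have : p ^ s ∣ Nat.card M := by rw [hMc]; exact pow_dvd_pow p (by omega)
      obtain ⟨K', hK'⟩ := Sylow.exists_subgroup_card_pow_prime p this
      have h3 := huniq (K'.map M.subtype) H₀
        (by rw [Subgroup.card_map_of_injective M.subtype_injective, hK']) hH₀
      rw [← h3]; exact Subgroup.map_subtype_le K'
    obtain ⟨M₁, hM₁⟩ := Sylow.exists_subgroup_card_pow_prime p hdvd'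
    have hM₁top : M₁ ≠ ⊤ := by
      intro h
      have := (Subgroup.card_eq_iff_eq_top M₁).2 h
      rw [hM₁, hG] at this
      exact absurd (Nat.pow_right_injective hp.two_le this) (by omega)
    obtain ⟨x, -, hx⟩ := SetLike.exists_of_lt (lt_top_iff_ne_top.2 hM₁top)
    by_cases hxtop : Subgroup.zpowers x = ⊤
    · exact hcyc_of x hxtop
    · exfalso
      obtain ⟨j, hj, hcj⟩ := hcardz x hxtop
      obtain ⟨M₂, hM₂, hxM₂⟩ := Sylow.exists_subgroup_card_pow_prime_le p hdvd'
        (Subgroup.zpowers x) hcj hj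
      have hne : M₁ ≠ M₂ := by
        intro h
        apply hx
        rw [h]; exact hxM₂ (Subgroup.mem_zpowers x)
      by_cases hp2 : p = 2
      · have hs2 : 2 ≤ s := by
          rcases h2 with h | h
          · exact absurd hp2 h
          · exact h
        apply two_cyclic_false p m 4 hp hm2 hG M₁ M₂ hM₁ hM₂ hne (hM M₁ hM₁) (hM M₂ hM₂)
          (Or.inr ⟨hp2, rfl⟩)
        intro d hd
        apply hH₀M M₁ hM₁
        apply hmemH d 2 hs2
        rw [hp2]; exact hd
      · apply two_cyclic_false p m p hp hm2 hG M₁ M₂ hM₁ hM₂ hne (hM M₁ hM₁) (hM M₂ hM₂)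
          (Or.inl ⟨hp2, rfl⟩)
        intro d hd
        apply hH₀M M₁ hM₁
        apply hmemH d 1 hs
        rw [pow_one]; exact hd

/-- Let `p` be a prime and `G` a group of order `p ^ m` which has exactly one subgroup of order `p ^ s`, where `1 ≤ s < m`, and where `s ≥ 2` if `p = 2`. Then `G` is cyclic. (For `p = 2` and `s = 1` the generalized quaternion groups also occur; that case is the classical criterion for a unique involution.) -/
theorem result {G : Type*} [Group G] [Finite G] (p m s : ℕ) (hp : p.Prime) (hG : Nat.card G = p ^ m) (hs : 1 ≤ s) (hsm : s < m) (h2 : p ≠ 2 ∨ 2 ≤ s) (huniq : ∀ H K : Subgroup G, Nat.card H = p ^ s → Nat.card K = p ^ s → H = K) : IsCyclic G := by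
  exact aux p s hp hs h2 m G hG hsm huniq

end Cfsg.Agent.S3977
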