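import Cfsg.Statements.S0016
import Mathlib
import Cfsg.Agent.Lib.Helper6.UniqInv2
import Cfsg.Agent.S3977

set_option autoImplicit false
open Cfsg Cfsg.Agent.Lib.Helper6

namespace Cfsg.Agent.S0016

/-- A finite p-group in which only one subgroup has order p is either cyclic or (with p = 2) isomorphic to a generalized quaternion group. -/
theorem result {G : Type*} [Group G] [Finite G] (p : ℕ) [Fact p.Prime]
    (hG : IsPGroup p G) (huniq : ∀ H K : Subgroup G, Nat.card H = p → Nat.card K = p → H = K) :
    IsCyclic G ∨ (p = 2 ∧ ∃ n : ℕ, Nonempty (G ≃* QuaternionGroup (2 ^ n))) := by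
  have hpp : p.Prime := Fact.out
  by_cases hc : IsCyclic G
  · exact Or.inl hc
  by_cases hp2 : p = 2
  · right
    subst hp2
    refine ⟨rfl, ?_⟩
    obtain ⟨n, hn3, hn, a, b, hao, hb, hb2, hconj⟩ := two_group_unique_involution hG huniq hc
    refine ⟨n - 2, ?_⟩
    haveI : NeZero (2 ^ (n - 2)) := ⟨by positivity⟩
    refine nonempty_mulEquiv_quaternion (2 ^ (n - 2)) a b ?_ hb2 hconj hb ?_
    · rw [hao, ← pow_succ']; congr 1; omega
    · rw [hn, show (4 : ℕ) = 2 ^ 2 by norm_num, ← pow_add]; congr 1; omega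
  · left
    obtain ⟨m, hm⟩ := (IsPGroup.iff_card (p := p)).1 hG
    by_cases hm2 : 2 ≤ m
    · exact Cfsg.Agent.S3977.result p m 1 hpp hm le_rfl (by omega) (Or.inl hp2)
        (fun H K hH hK => huniq H K (by rw [hH, pow_one]) (by rw [hK, pow_one]))
    · exfalso
      apply hc
      have hm' : m = 0 ∨ m = 1 := by omega
      rcases hm' with h | h
      · rw [h, pow_zero] at hm
        haveI : Subsingleton G := (Nat.card_eq_one_iff_unique.1 hm).1
        exact isCyclic_of_subsingleton
      · rw [h, pow_one] at hm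
        exact isCyclic_of_prime_card hm

end Cfsg.Agent.S0016
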