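import Cfsg.Statements.S0040
import Mathlib
import Cfsg.Agent.S0016

set_option autoImplicit false
open Cfsg

namespace Cfsg.Agent.S0040

open scoped Pointwise

/-- two commuting automorphisms of order `p` of an abelian group in which `v ^ p = 1 → v = 1`,
all of whose nontrivial products act without fixed points, can only exist on the trivial group -/
theorem fpf_pair_trivial {V : Type*} [Group V] (hcomm : ∀ x y : V, x * y = y * x)
    {p : ℕ} [hp : Fact p.Prime]
    (a b : MulAut V) (hab : Commute a b) (hap : a ^ p = 1) (hbp : b ^ p = 1)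
    (hfix : ∀ i j : ℕ, (¬ p ∣ i ∨ ¬ p ∣ j) → ∀ v : V, (a ^ i * b ^ j) v = v → v = 1)
    (hV : ∀ v : V, v ^ p = 1 → v = 1) (v : V) : v = 1 := by
  classical
  letI : CommGroup V := { ‹Group V› with mul_comm := hcomm }
  have hp1 : ¬ p ∣ 1 := by
    intro h
    have := Nat.le_of_dvd one_pos h
    have := hp.out.one_lt
    omega
  have norm_one : ∀ c : MulAut V, c ^ p = 1 → (∀ w : V, c w = w → w = 1) →
      ∀ w : V, ∏ k ∈ Finset.range p, (c ^ k) w = 1 := by
    intro c hc hcf w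
    apply hcf
    rw [map_prod]
    have h1 : ∀ k, c ((c ^ k) w) = (c ^ (k + 1)) w := by
      intro k; rw [pow_succ']; rfl
    simp only [h1]
    have h2 := Finset.prod_range_succ' (fun k => (c ^ k) w) p
    have h3 := Finset.prod_range_succ (fun k => (c ^ k) w) p
    rw [h3] at h2
    simp only [hc, pow_zero] at h2
    exact (mul_right_cancel h2).symm
  apply hV
  have hb1 : ∀ w : V, ∏ k ∈ Finset.range p, (b ^ k) w = 1 :=
    norm_one b hbp (fun w hw => hfix 0 1 (Or.inr hp1) w (by simpa using hw))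
  have hi : ∀ i : ℕ, ∏ k ∈ Finset.range p, ((a * b ^ i) ^ k) v = 1 := by
    intro i
    apply norm_one
    · rw [(hab.pow_right i).mul_pow, hap, ← pow_mul, mul_comm i p, pow_mul, hbp, one_pow, one_mul]
    · intro w hw
      exact hfix 1 i (Or.inl hp1) w (by simpa using hw)
  have h1 : ∏ i ∈ Finset.range p, ∏ k ∈ Finset.range p, ((a * b ^ i) ^ k) v = 1 := by
    apply Finset.prod_eq_one; intro i _; exact hi i
  rw [Finset.prod_comm] at h1
  have hk : ∀ k ∈ Finset.range p, k ≠ 0 →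
      ∏ i ∈ Finset.range p, ((a * b ^ i) ^ k) v = 1 := by
    intro k hk hk0
    have hkp := Finset.mem_range.1 hk
    have h2 : ∀ i, ((a * b ^ i) ^ k) v = (a ^ k) ((b ^ (i * k % p)) v) := by
      intro i
      rw [(hab.pow_right i).mul_pow, ← pow_mul]
      have : b ^ (i * k) = b ^ (i * k % p) := pow_eq_pow_mod _ hbp
      rw [this]; rfl
    simp only [h2]
    rw [← map_prod]
    have hcop : Nat.Coprime k p := by
      rw [Nat.coprime_comm]
      apply (Nat.Prime.coprime_iff_not_dvd hp.out).2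
      intro hd
      have := Nat.le_of_dvd (Nat.pos_of_ne_zero hk0) hd
      omega
    have hinj : Set.InjOn (fun i => i * k % p) (Finset.range p : Set ℕ) := by
      intro i hi j hj hij
      have hi' : i < p := Finset.mem_range.1 hi
      have hj' : j < p := Finset.mem_range.1 hj
      have h4 : i * k ≡ j * k [MOD p] := hij
      have h5 := Nat.ModEq.cancel_right_of_coprime (Nat.coprime_comm.1 hcop) h4
      exact Nat.ModEq.eq_of_lt_of_lt h5 hi' hj'
    have himg : (Finset.range p).image (fun i => i * k % p) = Finset.range p := by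
      apply Finset.eq_of_subset_of_card_le
      · intro m hm
        obtain ⟨i, _, rfl⟩ := Finset.mem_image.1 hm
        exact Finset.mem_range.2 (Nat.mod_lt _ hp.out.pos)
      · rw [Finset.card_image_of_injOn hinj]
    have h3 : ∏ i ∈ Finset.range p, (b ^ (i * k % p)) v = ∏ m ∈ Finset.range p, (b ^ m) v := by
      conv_rhs => rw [← himg]
      rw [Finset.prod_image hinj]
    rw [h3, hb1, map_one]
  rw [Finset.prod_eq_single_of_mem 0 (Finset.mem_range.2 hp.out.pos)
    (fun k hk' hk0 => hk k hk' hk0)] at h1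
  simpa using h1


/-- a `p`-group with two subgroups of order `p` contains a commuting pair of independent
elements of order `p` -/
theorem exists_comm_pair {Q : Type*} [Group Q] [Finite Q] {p : ℕ} [hp : Fact p.Prime]
    (hQ : IsPGroup p Q) (H K : Subgroup Q) (hH : Nat.card H = p) (hK : Nat.card K = p)
    (hHK : H ≠ K) : ∃ a b : Q, a ≠ 1 ∧ a ^ p = 1 ∧ b ^ p = 1 ∧ a * b = b * a ∧
      b ∉ Subgroup.zpowers a := by
  haveI : Nontrivial Q := by
    apply Finite.one_lt_card_iff_nontrivial.1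
    have h1 : Nat.card H ∣ Nat.card Q := Subgroup.card_subgroup_dvd_card H
    rw [hH] at h1
    have := Nat.le_of_dvd Nat.card_pos h1
    have := hp.out.one_lt
    omega
  haveI := hQ.center_nontrivial
  have hZ2 : p ∣ Nat.card (Subgroup.center Q) := by
    obtain ⟨k, hk⟩ := (IsPGroup.iff_card (p := p)).1 (hQ.to_subgroup (Subgroup.center Q))
    have h1 : 1 < Nat.card (Subgroup.center Q) := Finite.one_lt_card
    rw [hk] at h1 ⊢
    rcases k with _ | k
    · simp at h1
    · exact dvd_pow_self p (by omega)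
  obtain ⟨z0, hz0⟩ := exists_prime_orderOf_dvd_card' (G := Subgroup.center Q) p hZ2
  obtain ⟨z, hzdef⟩ : ∃ z : Q, z = (z0 : Q) := ⟨_, rfl⟩
  have hzc : z ∈ Subgroup.center Q := by rw [hzdef]; exact z0.2
  have hzo : orderOf z = p := by rw [hzdef, Subgroup.orderOf_coe, hz0]
  have hZscard : Nat.card (Subgroup.zpowers z) = p := by rw [Nat.card_zpowers, hzo]
  obtain ⟨W, hW2, hWz⟩ : ∃ W : Subgroup Q, Nat.card W = p ∧ W ≠ Subgroup.zpowers z := by
    by_cases hHz : H = Subgroup.zpowers z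
    · exact ⟨K, hK, fun hKz => hHK (hHz.trans hKz.symm)⟩
    · exact ⟨H, hH, hHz⟩
  haveI : IsCyclic W := isCyclic_of_prime_card hW2
  obtain ⟨w0, hw0⟩ := IsCyclic.exists_generator (α := W)
  have hw0o : orderOf w0 = p := by
    rw [← hW2]; exact orderOf_eq_card_of_forall_mem_zpowers hw0
  refine ⟨z, (w0 : Q), ?_, ?_, ?_, ?_, ?_⟩
  · intro h
    rw [h, orderOf_one] at hzo
    exact hp.out.one_lt.ne hzo
  · rw [← hzo]; exact pow_orderOf_eq_one z
  · rw [← hw0o, ← Subgroup.orderOf_coe]; exact pow_orderOf_eq_one _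
  · exact (Subgroup.mem_center_iff.1 hzc _).symm
  · intro hmem
    apply hWz
    apply Subgroup.eq_of_le_of_card_ge
    · intro x hx
      obtain ⟨n, hn⟩ := Subgroup.mem_zpowers_iff.1 (hw0 ⟨x, hx⟩)
      have : x = (w0 : Q) ^ n := by
        have := congrArg Subtype.val hn
        simpa using this.symm
      rw [this]
      exact Subgroup.zpow_mem _ hmem n
    · rw [hW2, hZscard]

theorem pair_ne_one {Q : Type*} [Group Q] {p : ℕ} [hp : Fact p.Prime]
    (a b : Q) (ha1 : a ≠ 1) (hap : a ^ p = 1) (hbp : b ^ p = 1)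
    (hb : b ∉ Subgroup.zpowers a) (i j : ℕ) (hij : ¬ p ∣ i ∨ ¬ p ∣ j) : a ^ i * b ^ j ≠ 1 := by
  intro h
  by_cases hj : p ∣ j
  · have hi : ¬ p ∣ i := by tauto
    obtain ⟨t, rfl⟩ := hj
    rw [pow_mul, hbp, one_pow, mul_one] at h
    apply hi
    rw [← orderOf_eq_prime hap ha1]
    exact orderOf_dvd_of_pow_eq_one h
  · apply hb
    have hcop : Nat.Coprime j p := by
      rw [Nat.coprime_comm]
      exact (Nat.Prime.coprime_iff_not_dvd hp.out).2 hj
    obtain ⟨m, -, hm⟩ := Nat.exists_mul_mod_eq_one_of_coprime hcop hp.out.one_lt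
    have h1 : b = (b ^ j) ^ m := by
      rw [← pow_mul, pow_eq_pow_mod (j * m) hbp, hm, pow_one]
    have h2 : b ^ j = (a ^ i)⁻¹ := by
      rw [eq_inv_iff_mul_eq_one, mul_eq_one_iff_eq_inv.1 h]
      group
    rw [h1, h2]
    exact Subgroup.pow_mem _ (Subgroup.inv_mem _ (Subgroup.pow_mem _ (Subgroup.mem_zpowers a) i)) m

theorem key0040 {G : Type*} [Group G] [Finite G] (K H : Subgroup G) [K.Normal]
    (hK : K ≠ ⊥) (hfpf : ∀ h ∈ H, h ≠ 1 → K ⊓ Subgroup.centralizer {h} = ⊥)
    {p : ℕ} [hp : Fact p.Prime] (M : Subgroup G) (hM : IsPGroup p M) (hMH : M ≤ H)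
    (a b : G) (ha : a ∈ M) (hb : b ∈ M) (hab : a * b = b * a) (hap : a ^ p = 1)
    (hbp : b ^ p = 1)
    (hne : ∀ i j : ℕ, (¬ p ∣ i ∨ ¬ p ∣ j) → a ^ i * b ^ j ≠ 1) : False := by
  classical
  have hp1 : ¬ p ∣ 1 := by
    intro h
    have := Nat.le_of_dvd one_pos h
    have := hp.out.one_lt
    omega
  have ha1 : a ≠ 1 := by simpa using hne 1 0 (Or.inl hp1)
  letI actK : MulDistribMulAction M K :=
    MulDistribMulAction.compHom K ((MulAut.conjNormal (H := K)).comp M.subtype)
  have hsmulK : ∀ (m : M) (k : K), ((m • k : K) : G) = (m : G) * k * (m : G)⁻¹ := fun m k => rfl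
  have hfixK : MulAction.fixedPoints M K = {1} := by
    ext k
    simp only [MulAction.mem_fixedPoints, Set.mem_singleton_iff]
    constructor
    · intro hk
      have h1 := hk ⟨a, ha⟩
      have h2 : (k : G) ∈ K ⊓ Subgroup.centralizer {a} := by
        refine Subgroup.mem_inf.2 ⟨k.2, ?_⟩
        rw [Subgroup.mem_centralizer_singleton_iff]
        have h3 := congrArg Subtype.val h1
        rw [hsmulK] at h3
        simp only at h3
        rw [mul_inv_eq_iff_eq_mul] at h3
        exact h3.symm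
      rw [hfpf a (hMH ha) ha1] at h2
      exact Subtype.ext (by simpa using h2)
    · rintro rfl m
      exact smul_one m
  have hcardK : Nat.card K ≡ 1 [MOD p] := by
    have := hM.card_modEq_card_fixedPoints K
    rw [hfixK] at this
    simpa using this
  have hpK : ¬ p ∣ Nat.card K := by
    intro hd
    have h1 := (Nat.modEq_zero_iff_dvd.2 hd).symm.trans hcardK
    exact hp1 ((Nat.modEq_zero_iff_dvd).1 h1.symm)
  have hK1 : Nat.card K ≠ 1 := fun h => hK (Subgroup.eq_bot_of_card_eq _ h)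
  obtain ⟨q, hq, hqK⟩ := Nat.exists_prime_and_dvd hK1
  haveI : Fact q.Prime := ⟨hq⟩
  have hpS : ¬ p ∣ Nat.card (Sylow q K) := by
    intro hd
    have Q0 : Sylow q K := default
    exact hpK ((hd.trans (Q0.card_dvd_index)).trans (Subgroup.index_dvd_card _))
  obtain ⟨Q, hQ⟩ := hM.nonempty_fixed_point_of_prime_not_dvd_card (Sylow q K) hpS
  have hQne : (Q : Subgroup K) ≠ ⊥ := Q.ne_bot_of_dvd_card hqK
  obtain ⟨Q', hQ'⟩ : ∃ Q' : Subgroup G, Q' = (Q : Subgroup K).map K.subtype := ⟨_, rfl⟩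
  have hQ'K : Q' ≤ K := by rw [hQ']; exact Subgroup.map_subtype_le _
  have hQ'q : IsPGroup q Q' := by rw [hQ']; exact Q.isPGroup'.map _
  have hQ'ne : Q' ≠ ⊥ := by
    rw [hQ']; intro h
    exact hQne ((Subgroup.map_eq_bot_iff_of_injective _ K.subtype_injective).1 h)
  have hQ'norm : ∀ m ∈ M, ∀ x ∈ Q', m * x * m⁻¹ ∈ Q' := by
    intro m hm x hx
    rw [hQ'] at hx ⊢
    obtain ⟨y, hy, rfl⟩ := hx
    have h1 := hQ ⟨m, hm⟩
    have h2 : (⟨m, hm⟩ : M) • y ∈ ((⟨m, hm⟩ : M) • Q : Sylow q K) := by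
      show _ ∈ (⟨m, hm⟩ : M) • (Q : Subgroup K)
      exact Subgroup.smul_mem_pointwise_smul _ _ _ hy
    rw [h1] at h2
    exact ⟨_, h2, rfl⟩
  haveI : Nontrivial Q' := (Subgroup.nontrivial_iff_ne_bot _).2 hQ'ne
  haveI := hQ'q.center_nontrivial
  obtain ⟨z, hz⟩ := exists_ne (1 : Subgroup.center Q')
  obtain ⟨V, hV⟩ : ∃ V : Subgroup G, V = Q' ⊓ Subgroup.centralizer (Q' : Set G) := ⟨_, rfl⟩
  have hzV : ((z : Q') : G) ∈ V := by
    rw [hV]; refine Subgroup.mem_inf.2 ⟨(z : Q').2, ?_⟩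
    rw [Subgroup.mem_centralizer_iff]
    intro y hy
    have := Subgroup.mem_center_iff.1 z.2 ⟨y, hy⟩
    exact congrArg Subtype.val this
  have hz1 : ((z : Q') : G) ≠ 1 := by
    intro h; apply hz; exact Subtype.ext (Subtype.ext h)
  have hVK : V ≤ K := by rw [hV]; exact inf_le_left.trans hQ'K
  have hVcomm : ∀ x ∈ V, ∀ y ∈ V, x * y = y * x := by
    intro x hx y hy
    rw [hV] at hx hy
    exact (Subgroup.mem_centralizer_iff.1 hy.2 x hx.1)
  have hconjV : ∀ m ∈ M, ∀ x ∈ V, m * x * m⁻¹ ∈ V := by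
    intro m hm x hx
    rw [hV] at hx ⊢
    refine Subgroup.mem_inf.2 ⟨hQ'norm m hm x hx.1, ?_⟩
    rw [Subgroup.mem_centralizer_iff]
    intro y hy
    have hy' : m⁻¹ * y * m⁻¹⁻¹ ∈ Q' := hQ'norm m⁻¹ (M.inv_mem hm) y hy
    have hc := Subgroup.mem_centralizer_iff.1 hx.2 _ hy'
    have e1 : y * (m * x * m⁻¹) = m * (m⁻¹ * y * m⁻¹⁻¹ * x) * m⁻¹ := by group
    have e2 : m * x * m⁻¹ * y = m * (x * (m⁻¹ * y * m⁻¹⁻¹)) * m⁻¹ := by group
    rw [e1, e2, hc]
  have hMV : M ≤ Subgroup.normalizer (V : Set G) := by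
    intro m hm
    rw [Subgroup.mem_normalizer_iff]
    intro x
    constructor
    · exact hconjV m hm x
    · intro hx
      have := hconjV m⁻¹ (M.inv_mem hm) _ hx
      have e : m⁻¹ * (m * x * m⁻¹) * m⁻¹⁻¹ = x := by group
      rwa [e] at this
  obtain ⟨α, hα⟩ : ∃ α : MulAut V, α = V.normalizerMonoidHom ⟨a, hMV ha⟩ := ⟨_, rfl⟩
  obtain ⟨β, hβ⟩ : ∃ β : MulAut V, β = V.normalizerMonoidHom ⟨b, hMV hb⟩ := ⟨_, rfl⟩
  have hαβ : ∀ i j : ℕ, ∀ v : V,
      (((α ^ i * β ^ j) v : V) : G) = (a ^ i * b ^ j) * v * (a ^ i * b ^ j)⁻¹ := by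
    intro i j v
    rw [hα, hβ, ← map_pow, ← map_pow, ← map_mul]
    rfl
  have hcomm : Commute α β := by
    rw [hα, hβ]
    exact (show Commute (⟨a, hMV ha⟩ : Subgroup.normalizer (V : Set G)) ⟨b, hMV hb⟩ from Subtype.ext hab).map _
  have hαp : α ^ p = 1 := by
    rw [hα, ← map_pow]
    have : (⟨a, hMV ha⟩ : Subgroup.normalizer (V : Set G)) ^ p = 1 := Subtype.ext hap
    rw [this, map_one]
  have hβp : β ^ p = 1 := by
    rw [hβ, ← map_pow]
    have : (⟨b, hMV hb⟩ : Subgroup.normalizer (V : Set G)) ^ p = 1 := Subtype.ext hbp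
    rw [this, map_one]
  have hfix : ∀ i j : ℕ, (¬ p ∣ i ∨ ¬ p ∣ j) → ∀ v : V, (α ^ i * β ^ j) v = v → v = 1 := by
    intro i j hij v hv
    have h1 := hαβ i j v
    rw [hv] at h1
    have h2 : (v : G) ∈ K ⊓ Subgroup.centralizer {a ^ i * b ^ j} := by
      refine Subgroup.mem_inf.2 ⟨hVK v.2, ?_⟩
      rw [Subgroup.mem_centralizer_singleton_iff]
      rw [eq_mul_inv_iff_mul_eq] at h1
      exact h1
    rw [hfpf _ (H.mul_mem (H.pow_mem (hMH ha) i) (H.pow_mem (hMH hb) j)) (hne i j hij)] at h2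
    exact Subtype.ext (by simpa using h2)
  have hVp : ∀ v : V, v ^ p = 1 → v = 1 := by
    intro v hv
    have h1 : orderOf v ∣ p := orderOf_dvd_of_pow_eq_one hv
    have h2 : orderOf v ∣ Nat.card K := by
      rw [← Subgroup.orderOf_coe]
      exact Subgroup.orderOf_dvd_natCard K (hVK v.2)
    have hcop : Nat.Coprime p (Nat.card K) := (Nat.Prime.coprime_iff_not_dvd hp.out).2 hpK
    have h3 : orderOf v = 1 := Nat.Coprime.eq_one_of_dvd (hcop.coprime_dvd_left h1) h2
    exact orderOf_eq_one_iff.1 h3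
  have := fpf_pair_trivial (fun x y => Subtype.ext (hVcomm x x.2 y y.2)) α β hcomm hαp hβp hfix hVp
    ⟨_, hzV⟩
  exact hz1 (congrArg Subtype.val this)

theorem main0040 {G : Type*} [Group G] [Finite G] (K H : Subgroup G) [K.Normal]
    (hK : K ≠ ⊥) (hfpf : ∀ h ∈ H, h ≠ 1 → K ⊓ Subgroup.centralizer {h} = ⊥)
    (p : ℕ) [Fact p.Prime] (P : Sylow p H) :
    IsCyclic P ∨ ∃ n : ℕ, Nonempty (P ≃* QuaternionGroup (2 ^ n)) := by
  have huniq : ∀ H1 K1 : Subgroup (P : Subgroup H), Nat.card H1 = p → Nat.card K1 = p →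
      H1 = K1 := by
    by_contra hcon
    push Not at hcon
    obtain ⟨H1, K1, hH1, hK1, hne⟩ := hcon
    obtain ⟨a, b, ha1, hap, hbp, hab, hb⟩ := exists_comm_pair P.isPGroup' H1 K1 hH1 hK1 hne
    apply key0040 K H hK hfpf ((P : Subgroup H).map H.subtype) (P.isPGroup'.map _)
      (Subgroup.map_subtype_le _) ((a : H) : G) ((b : H) : G) ⟨a.1, a.2, rfl⟩ ⟨b.1, b.2, rfl⟩
    · have := congrArg (fun x : (P : Subgroup H) => ((x : H) : G)) hab
      simpa using this
    · have := congrArg (fun x : (P : Subgroup H) => ((x : H) : G)) hap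
      simpa using this
    · have := congrArg (fun x : (P : Subgroup H) => ((x : H) : G)) hbp
      simpa using this
    · intro i j hij h
      apply pair_ne_one a b ha1 hap hbp hb i j hij
      apply Subtype.ext
      apply Subtype.ext
      simpa using h
  rcases Cfsg.Agent.S0016.result p P.isPGroup' huniq with h | ⟨-, h⟩
  · left; exact h
  · right; exact h



/-- Sylow subgroups of Frobenius complements: if H complements a nontrivial normal subgroup K and every nonidentity element of H has trivial centraliser in K, then each Sylow subgroup of H is cyclic or isomorphic to a generalized quaternion group. -/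
theorem result {G : Type*} [Group G] [Finite G] (K H : Subgroup G) [K.Normal]
    (hc : Subgroup.IsComplement' K H) (hK : K ≠ ⊥) (hfpf : ∀ h ∈ H, h ≠ 1 → K ⊓ Subgroup.centralizer {h} = ⊥)
    (p : ℕ) [Fact p.Prime] (P : Sylow p H) :
    IsCyclic P ∨ ∃ n : ℕ, Nonempty (P ≃* QuaternionGroup (2 ^ n)) := by
  exact main0040 K H hK hfpf p P

end Cfsg.Agent.S0040
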