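import Cfsg.Statements.S4207
import Mathlib
import Cfsg.Agent.Lib.Lead.FrattiniGen

set_option autoImplicit false
open Cfsg

namespace Cfsg.Agent.S4207

/-- Let `P` be a group of order `p^n` whose Frattini subgroup has index `p^r`. Then any group of automorphisms of `P` each of which induces the identity on the Frattini quotient has order dividing `p^(r(n-r))`; in particular it is a `p`-group. -/
theorem result {P : Type*} [Group P] [Finite P] {p n r : ℕ} [Fact p.Prime] (hP : Nat.card P = p ^ n) (hr : (frattini P).index = p ^ r) (A : Subgroup (MulAut P)) (hA : ∀ α ∈ A, ∀ x : P, α x * x⁻¹ ∈ frattini P) : Nat.card A ∣ p ^ (r * (n - r)) := by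
  classical
  obtain ⟨y, hy⟩ := Cfsg.Agent.Lib.Lead.exists_generators_of_frattini_index p r hr
  -- the set Ω of lifts
  let Ω := {f : Fin r → P // ∀ i, f i * (y i)⁻¹ ∈ frattini P}
  -- card Ω
  have hΦ : Nat.card (frattini P) = p ^ (n - r) := by
    have h1 := Subgroup.card_mul_index (frattini P)
    rw [hr, hP] at h1
    have hp := (Fact.out : p.Prime).pos
    have hrn : r ≤ n := by
      have : p ^ r ∣ p ^ n := ⟨_, by rw [← h1, mul_comm]⟩
      exact (Nat.pow_dvd_pow_iff_le_right (Fact.out : p.Prime).one_lt).1 this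
    have h2 : p ^ n = p ^ (n - r) * p ^ r := by rw [← pow_add, Nat.sub_add_cancel hrn]
    rw [h2] at h1
    exact Nat.eq_of_mul_eq_mul_right (pow_pos hp r) h1
  let e : Ω ≃ (Fin r → frattini P) :=
    { toFun := fun f i => ⟨f.1 i * (y i)⁻¹, f.2 i⟩
      invFun := fun g => ⟨fun i => (g i : P) * y i, fun i => by simp⟩
      left_inv := fun f => by apply Subtype.ext; funext i; simp
      right_inv := fun g => by funext i; apply Subtype.ext; simp }
  have hΩ : Nat.card Ω = p ^ (r * (n - r)) := by
    rw [Nat.card_congr e, Nat.card_fun, hΦ, Nat.card_eq_fintype_card, Fintype.card_fin, ← pow_mul,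
      mul_comm]
  haveI : Finite Ω := Finite.of_equiv _ e.symm
  -- the action
  let act : MulAction A Ω :=
    { smul := fun α f => ⟨fun i => (α : MulAut P) (f.1 i), fun i => by
        have h1 := hA α α.2 (f.1 i)
        have h2 := f.2 i
        have : (α : MulAut P) (f.1 i) * (y i)⁻¹ =
            ((α : MulAut P) (f.1 i) * (f.1 i)⁻¹) * (f.1 i * (y i)⁻¹) := by group
        rw [this]
        exact Subgroup.mul_mem _ h1 h2⟩
      one_smul := fun f => by apply Subtype.ext; funext i; rfl
      mul_smul := fun α β f => by apply Subtype.ext; funext i; rfl }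
  rw [← hΩ]
  apply Cfsg.Agent.Lib.Lead.card_dvd_card_of_free
  intro f α hαf
  -- f generates P
  have hgen : Subgroup.closure (Set.range f.1) = ⊤ := by
    apply frattini_nongenerating
    rw [eq_top_iff, ← hy, Subgroup.closure_le]
    rintro _ ⟨i, rfl⟩
    have h1 : f.1 i ∈ Subgroup.closure (Set.range f.1) ⊔ frattini P :=
      (le_sup_left : _ ≤ Subgroup.closure (Set.range f.1) ⊔ frattini P)
        (Subgroup.subset_closure ⟨i, rfl⟩)
    have h2 : f.1 i * (y i)⁻¹ ∈ Subgroup.closure (Set.range f.1) ⊔ frattini P :=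
      (le_sup_right : _ ≤ Subgroup.closure (Set.range f.1) ⊔ frattini P) (f.2 i)
    have : y i = (f.1 i * (y i)⁻¹)⁻¹ * f.1 i := by group
    rw [SetLike.mem_coe, this]
    exact Subgroup.mul_mem _ (Subgroup.inv_mem _ h2) h1
  have hfix : ∀ i, (α : MulAut P) (f.1 i) = f.1 i := by
    intro i
    have := congrArg (fun g : Ω => g.1 i) hαf
    exact this
  have hhom : ((α : MulAut P) : P ≃* P).toMonoidHom = MonoidHom.id P := by
    apply MonoidHom.eq_of_eqOn_dense hgen
    rintro _ ⟨i, rfl⟩
    exact hfix i
  apply Subtype.ext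
  apply MulEquiv.ext
  intro x
  exact DFunLike.congr_fun hhom x

end Cfsg.Agent.S4207
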