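import Cfsg.Statements.S0014
import Mathlib
import Cfsg.Agent.S0012
import Cfsg.Agent.Lib.Helper1.Fitting

set_option autoImplicit false
open Cfsg

namespace Cfsg.Agent.S0014

open scoped commutatorElement
open Cfsg.Agent.Lib.Helper1


/-- Burnside's basis Theorem: in a finite p-group whose Frattini quotient has order p ^ n, every generating set contains n elements that already generate, and no set with fewer than n elements generates. -/
theorem result {G : Type*} [Group G] [Finite G] (p n : ℕ) [Fact p.Prime]
    (hG : IsPGroup p G) (hn : (frattini G).index = p ^ n) :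
    (∀ S : Finset G, Subgroup.closure (S : Set G) = ⊤ → ∃ T : Finset G, T ⊆ S ∧ T.card = n ∧ Subgroup.closure (T : Set G) = ⊤) ∧
    (∀ T : Finset G, Subgroup.closure (T : Set G) = ⊤ → n ≤ T.card) := by
  classical
  have hp := (Fact.out : p.Prime)
  obtain ⟨hcomm, hpow⟩ := Cfsg.Agent.S0012.result p hG
  set π := QuotientGroup.mk' (frattini G) with hπ
  have hVcard : Nat.card (G ⧸ frattini G) = p ^ n := by rw [← Subgroup.index_eq_card, hn]
  have hVcomm : ∀ a b : G ⧸ frattini G, a * b = b * a := by
    intro a b
    induction a using QuotientGroup.induction_on with | _ x => ?_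
    induction b using QuotientGroup.induction_on with | _ y => ?_
    rw [← QuotientGroup.mk_mul, ← QuotientGroup.mk_mul, QuotientGroup.eq]
    apply hcomm
    have : (x * y)⁻¹ * (y * x) = ⁅y⁻¹, x⁻¹⁆ := by rw [commutatorElement_def]; group
    rw [this, commutator_def]
    exact Subgroup.commutator_mem_commutator (Subgroup.mem_top _) (Subgroup.mem_top _)
  have hVpow : ∀ v : G ⧸ frattini G, v ^ p = 1 := by
    intro v
    induction v using QuotientGroup.induction_on with | _ x => ?_
    rw [← QuotientGroup.mk_pow, QuotientGroup.eq_one_iff]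
    exact hpow x
  have hnormal : ∀ K : Subgroup (G ⧸ frattini G), K.Normal := by
    intro K
    refine ⟨fun k hk g => ?_⟩
    rw [hVcomm g k, mul_inv_cancel_right]
    exact hk
  have hstep : ∀ (K : Subgroup (G ⧸ frattini G)) (v : G ⧸ frattini G),
      Nat.card (Subgroup.zpowers v ⊔ K : Subgroup (G ⧸ frattini G)) ∣ p * Nat.card K := by
    intro K v
    haveI := hnormal K
    have h1 := card_sup_dvd_mul (Subgroup.zpowers v) K
    have h2 : Nat.card (Subgroup.zpowers v) ∣ p := by
      rw [Nat.card_zpowers]
      exact orderOf_dvd_of_pow_eq_one (hVpow v)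
    exact h1.trans (Nat.mul_dvd_mul_right h2 _)
  have hsubcard : ∀ K : Subgroup (G ⧸ frattini G), ∃ j, Nat.card K = p ^ j := by
    intro K
    have := Subgroup.card_subgroup_dvd_card K
    rw [hVcard] at this
    obtain ⟨j, -, hj⟩ := (Nat.dvd_prime_pow hp).1 this
    exact ⟨j, hj⟩
  have hinsert : ∀ (a : G) (S : Finset G),
      Subgroup.closure (π '' ((insert a S : Finset G) : Set G)) =
        Subgroup.zpowers (π a) ⊔ Subgroup.closure (π '' (S : Set G)) := by
    intro a S
    rw [Finset.coe_insert, Set.image_insert_eq, Set.insert_eq, Subgroup.closure_union,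
      Subgroup.zpowers_eq_closure]
  have hmain : ∀ S : Finset G, ∃ T : Finset G, T ⊆ S ∧
      Subgroup.closure (π '' (T : Set G)) = Subgroup.closure (π '' (S : Set G)) ∧
      Nat.card (Subgroup.closure (π '' (T : Set G))) = p ^ T.card := by
    intro S
    induction S using Finset.induction_on with
    | empty => exact ⟨∅, Finset.Subset.refl _, rfl, by simp⟩
    | insert a S' ha ih =>
      obtain ⟨T', hT'S, hcl, hcardT⟩ := ih
      by_cases hmem : π a ∈ Subgroup.closure (π '' (S' : Set G))
      · refine ⟨T', hT'S.trans (Finset.subset_insert _ _), ?_, hcardT⟩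
        rw [hinsert, hcl]
        symm
        apply sup_eq_right.2
        rw [Subgroup.zpowers_le]
        exact hmem
      · have haT' : a ∉ T' := fun h => ha (hT'S h)
        refine ⟨insert a T', Finset.insert_subset_insert a hT'S, ?_, ?_⟩
        · rw [hinsert, hinsert, hcl]
        · rw [Finset.card_insert_of_notMem haT', hinsert]
          set K := Subgroup.closure (π '' (T' : Set G)) with hK
          have hmem' : π a ∉ K := by rw [hcl]; exact hmem
          have hdvd := hstep K (π a)
          obtain ⟨j, hj⟩ := hsubcard (Subgroup.zpowers (π a) ⊔ K)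
          have hlt : Nat.card K < Nat.card (Subgroup.zpowers (π a) ⊔ K : Subgroup (G ⧸ frattini G)) := by
            have hle : K ≤ Subgroup.zpowers (π a) ⊔ K := le_sup_right
            rcases (Subgroup.card_le_of_le hle).lt_or_eq with h | h
            · exact h
            · exfalso
              have : K = Subgroup.zpowers (π a) ⊔ K := Subgroup.eq_of_le_of_card_ge hle h.ge
              apply hmem'
              rw [this]
              exact (le_sup_left : Subgroup.zpowers (π a) ≤ _) (Subgroup.mem_zpowers _)
          rw [hj, hcardT] at hlt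
          rw [hj, hcardT, ← pow_succ'] at hdvd
          have h1 : T'.card < j := (Nat.pow_lt_pow_iff_right hp.one_lt).1 hlt
          have h2 : j ≤ T'.card + 1 := (Nat.pow_dvd_pow_iff_le_right hp.one_lt).1 hdvd
          rw [hj]
          congr 1
          omega
  have hmapcl : ∀ T : Finset G, Subgroup.closure (π '' (T : Set G)) =
      (Subgroup.closure (T : Set G)).map π := fun T => (MonoidHom.map_closure π _).symm
  have htop : ∀ S : Finset G, Subgroup.closure (S : Set G) = ⊤ →
      Subgroup.closure (π '' (S : Set G)) = ⊤ := by
    intro S hS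
    rw [hmapcl, hS, ← MonoidHom.range_eq_map, MonoidHom.range_eq_top]
    exact QuotientGroup.mk'_surjective _
  constructor
  · intro S hS
    obtain ⟨T, hTS, hcl, hcard⟩ := hmain S
    refine ⟨T, hTS, ?_, ?_⟩
    · rw [hcl, htop S hS, Subgroup.card_top, hVcard] at hcard
      exact (Nat.pow_right_injective hp.two_le hcard).symm
    · apply frattini_nongenerating
      have h1 : (Subgroup.closure (T : Set G)).map π = ⊤ := by rw [← hmapcl, hcl, htop S hS]
      have h2 := Subgroup.comap_map_eq π (Subgroup.closure (T : Set G))
      rw [h1, Subgroup.comap_top, QuotientGroup.ker_mk'] at h2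
      exact h2.symm
  · intro T hT
    obtain ⟨T', hT'T, hcl, hcard⟩ := hmain T
    rw [hcl, htop T hT, Subgroup.card_top, hVcard] at hcard
    have : n = T'.card := Nat.pow_right_injective hp.two_le hcard
    rw [this]
    exact Finset.card_le_card hT'T

end Cfsg.Agent.S0014
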