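import Cfsg.Statements.S4189
import Mathlib
import Cfsg.Agent.Lib.Helper6.AutTwo
import Cfsg.Agent.Lib.Helper6.MaxClass2c
import Cfsg.Agent.Lib.Helper6.QuatRec

set_option autoImplicit false
open Cfsg Cfsg.Agent.Lib.Helper6

namespace Cfsg.Agent.S4189


theorem orderOf_le_of_pow_eq_one {X : Type*} [Group X] (x : X) (m : ℕ) (hm : 0 < m)
    (h : x ^ m = 1) : orderOf x ≤ m :=
  Nat.le_of_dvd hm (orderOf_dvd_of_pow_eq_one h)

theorem main4189 {P : Type*} [Group P] [Finite P] (hP : IsPGroup 2 P)
    (hna : ¬ IsMulCommutative P) (h4 : (commutator P).index = 4)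
    (haut : ¬ IsPGroup 2 (MulAut P)) : Nonempty (P ≃* QuaternionGroup 2) := by
  haveI : Fact (Nat.Prime 2) := ⟨Nat.prime_two⟩
  obtain ⟨n, hn⟩ := (IsPGroup.iff_card (p := 2)).1 hP
  have h4d : 4 ∣ 2 ^ n := by
    rw [← hn, ← h4]; exact Subgroup.index_dvd_card _
  have hn2 : 2 ≤ n := by
    by_contra hcon
    push Not at hcon
    interval_cases n <;> omega
  have hn3 : 3 ≤ n := by
    by_contra hcon
    push Not at hcon
    have : n = 2 := by omega
    subst this
    exact hna (IsPGroup.isMulCommutative_of_card_eq_prime_sq hn)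
  have hc := maxClass_of_index_four n hn2 P hn h4
  obtain ⟨a, b, ha, hb, hrel⟩ := maxClass_two_classification n hn3 hn hc
  have hidx : (Subgroup.zpowers a).index = 2 := by
    have h1 := Subgroup.card_mul_index (Subgroup.zpowers a)
    rw [Nat.card_zpowers, ha, hn] at h1
    have h2 : 2 ^ n = 2 ^ (n - 1) * 2 := by
      rw [← pow_succ]; congr 1; omega
    rw [h2] at h1
    exact Nat.eq_of_mul_eq_mul_left (by positivity) h1
  have ha2N : a ^ (2 * 2 ^ (n - 2)) = 1 := by
    have : 2 * 2 ^ (n - 2) = 2 ^ (n - 1) := by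
      rw [← pow_succ']; congr 1; omega
    rw [this, ← ha]; exact pow_orderOf_eq_one a
  -- all elements outside have fourth power one
  have hout : ∀ x : P, x ∉ Subgroup.zpowers a → x ^ 4 = 1 := by
    intro x hx
    obtain ⟨k, rfl⟩ := exists_eq_mul_zpow_of_index_two a b hidx hb x hx
    rcases hrel with ⟨h1, h2⟩ | ⟨h1, h2⟩ | ⟨-, h1, h2⟩
    · rw [show 4 = 2 * 2 from rfl, pow_mul, sq_eq_one_of_dihedral_rel a b h1 h2, one_pow]
    · exact pow_four_eq_one_of_quaternion_rel a b _ ha2N h1 h2 k
    · exact pow_four_eq_one_of_semidihedral_rel a b _ Nat.one_le_two_pow ha2N h1 h2 k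
  by_cases hn4 : 4 ≤ n
  · exfalso
    apply haut
    apply isPGroup_mulAut_of_char_cyclic hP a hidx
    intro x hx
    by_contra hxa
    have h1 := orderOf_le_of_pow_eq_one x 4 (by norm_num) (hout x hxa)
    rw [hx, ha] at h1
    have : 2 ^ 3 ≤ 2 ^ (n - 1) := Nat.pow_le_pow_right (by norm_num) (by omega)
    omega
  · have hn3' : n = 3 := by omega
    subst hn3'
    rcases hrel with ⟨h1, h2⟩ | ⟨h1, h2⟩ | ⟨h0, -, -⟩
    · exfalso
      apply haut
      apply isPGroup_mulAut_of_char_cyclic hP a hidx
      intro x hx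
      by_contra hxa
      obtain ⟨k, rfl⟩ := exists_eq_mul_zpow_of_index_two a b hidx hb x hxa
      have h3 := orderOf_le_of_pow_eq_one _ 2 (by norm_num) (sq_eq_one_of_dihedral_rel a b h1 h2 k)
      rw [hx, ha] at h3
      norm_num at h3
    · haveI : NeZero 2 := ⟨by norm_num⟩
      exact nonempty_mulEquiv_quaternion 2 a b (by rw [ha]; norm_num) (by simpa using h1) h2 hb
        (by rw [hn]; norm_num)
    · omega



/-- Let P be a finite non-abelian 2-group whose commutator subgroup has index 4 and whose automorphism group is not a 2-group (some automorphism has order that is not a power of 2). Then P is isomorphic to the quaternion group of order 8. -/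
theorem result {P : Type*} [Group P] [Finite P] (hP : IsPGroup 2 P) (hna : ¬ IsMulCommutative P) (h4 : (commutator P).index = 4) (haut : ¬ IsPGroup 2 (MulAut P)) : Nonempty (P ≃* QuaternionGroup 2) := by
  exact main4189 hP hna h4 haut

end Cfsg.Agent.S4189
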