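import Mathlib
import Cfsg.Statements.S0634
import Cfsg.Agent.Lib.Helper3.PSolv2

set_option autoImplicit false
open Cfsg
open Cfsg.Agent.Lib.Helper3

namespace Cfsg.Agent.S0634

lemma upper_odd {G : Type*} [Group G] (p k : ℕ) :
    (Cfsg.upperPSeries p G (2 * k + 1)).1 =
      (Cfsg.pPrimeCore p (G ⧸ (Cfsg.upperPSeries p G (2 * k)).1)).comap (QuotientGroup.mk' _) := by
  rw [Cfsg.upperPSeries]
  rw [if_pos (even_two_mul k)]

lemma upper_even {G : Type*} [Group G] (p k : ℕ) :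
    (Cfsg.upperPSeries p G (2 * k + 2)).1 =
      (Cfsg.pCore p (G ⧸ (Cfsg.upperPSeries p G (2 * k + 1)).1)).comap (QuotientGroup.mk' _) := by
  rw [Cfsg.upperPSeries]
  rw [if_neg (by simp)]

lemma aux {G : Type*} [Group G] (p : ℕ) (N M : Subgroup G) [hN : N.Normal] [hM : M.Normal]
    (h : N = M) (h0 : Cfsg.pPrimeCore p (G ⧸ M) = ⊥) : Cfsg.pPrimeCore p (G ⧸ N) = ⊥ := by
  subst h; exact h0

/-- In a p-soluble group each p-factor of the upper p-series contains its own centralizer in the corresponding quotient. -/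
theorem result {G : Type*} [Group G] [Finite G] {p : ℕ} [Fact p.Prime] (hsol : Cfsg.IsPSolvable p G) (k : ℕ) : Subgroup.centralizer ((((Cfsg.upperPSeries p G (2 * k + 2)).1.map (QuotientGroup.mk' (Cfsg.upperPSeries p G (2 * k + 1)).1)) : Subgroup (G ⧸ (Cfsg.upperPSeries p G (2 * k + 1)).1)) : Set (G ⧸ (Cfsg.upperPSeries p G (2 * k + 1)).1)) ≤ (Cfsg.upperPSeries p G (2 * k + 2)).1.map (QuotientGroup.mk' (Cfsg.upperPSeries p G (2 * k + 1)).1) := by
  have h1 : (Cfsg.upperPSeries p G (2 * k + 2)).1.map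
      (QuotientGroup.mk' (Cfsg.upperPSeries p G (2 * k + 1)).1) =
      Cfsg.pCore p (G ⧸ (Cfsg.upperPSeries p G (2 * k + 1)).1) := by
    rw [upper_even]
    exact Subgroup.map_comap_eq_self_of_surjective (QuotientGroup.mk'_surjective _) _
  rw [h1]
  apply centralizer_pCore_le_of_psolvable_quotient hsol
  have h2 := pPrimeCore_quotient_comap_eq_bot p (Cfsg.upperPSeries p G (2 * k)).1
  have h3 := upper_odd (G := G) p k
  have hn : (Cfsg.pPrimeCore p (G ⧸ (Cfsg.upperPSeries p G (2 * k)).1)).Normal :=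
    pPrimeCore_normal' p
  exact aux p _ _ h3 h2

end Cfsg.Agent.S0634
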