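import Mathlib
import Cfsg.Statements.S1467

set_option autoImplicit false
open Cfsg

namespace Cfsg.Agent.S1467

variable {G : Type*} [Group G]

lemma puigStep_anti {X Y : Subgroup G} (h : X ≤ Y) : Cfsg.puigStep Y ≤ Cfsg.puigStep X := by
  unfold Cfsg.puigStep
  apply sSup_le_sSup
  rintro A ⟨hA, hY⟩
  exact ⟨hA, h.trans hY⟩

lemma puigStep_bot : Cfsg.puigStep (⊥ : Subgroup G) = ⊤ := by
  rw [eq_top_iff]
  intro g _
  unfold Cfsg.puigStep
  have : Subgroup.zpowers g ≤ sSup {A : Subgroup G | IsMulCommutative A ∧ (⊥ : Subgroup G) ≤ Subgroup.normalizer (A : Set G)} :=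
    le_sSup ⟨inferInstance, bot_le⟩
  exact this (Subgroup.mem_zpowers g)

lemma seq_succ (n : ℕ) : Cfsg.puigSeq G (n + 1) = Cfsg.puigStep (Cfsg.puigSeq G n) := rfl

lemma even_mono_odd_anti (n : ℕ) :
    Cfsg.puigSeq G (2 * n) ≤ Cfsg.puigSeq G (2 * n + 2) ∧
      Cfsg.puigSeq G (2 * n + 3) ≤ Cfsg.puigSeq G (2 * n + 1) := by
  induction n with
  | zero =>
    have h0 : Cfsg.puigSeq G 0 ≤ Cfsg.puigSeq G 2 := by
      show (⊥ : Subgroup G) ≤ _
      exact bot_le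
    refine ⟨h0, ?_⟩
    show Cfsg.puigStep (Cfsg.puigSeq G 2) ≤ Cfsg.puigStep (Cfsg.puigSeq G 0)
    exact puigStep_anti h0
  | succ n ih =>
    have h1 : Cfsg.puigSeq G (2 * (n + 1)) ≤ Cfsg.puigSeq G (2 * (n + 1) + 2) := by
      have e1 : 2 * (n + 1) = (2 * n + 1) + 1 := by ring
      have e2 : 2 * (n + 1) + 2 = (2 * n + 3) + 1 := by ring
      rw [e2, e1, seq_succ, seq_succ]
      exact puigStep_anti ih.2
    refine ⟨h1, ?_⟩
    have e1 : 2 * (n + 1) + 3 = (2 * (n + 1) + 2) + 1 := by ring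
    have e2 : 2 * (n + 1) + 1 = (2 * (n + 1)) + 1 := by ring
    rw [e1, seq_succ]
    show _ ≤ Cfsg.puigStep (Cfsg.puigSeq G (2 * (n + 1)))
    exact puigStep_anti h1

lemma even_monotone : Monotone (fun n => Cfsg.puigSeq G (2 * n)) :=
  monotone_nat_of_le_succ (fun n => (even_mono_odd_anti n).1)

lemma odd_antitone : Antitone (fun n => Cfsg.puigSeq G (2 * n + 1)) :=
  antitone_nat_of_succ_le (fun n => (even_mono_odd_anti n).2)

lemma even_le_odd_diag (n : ℕ) : Cfsg.puigSeq G (2 * n) ≤ Cfsg.puigSeq G (2 * n + 1) := by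
  induction n with
  | zero => show (⊥ : Subgroup G) ≤ _; exact bot_le
  | succ n ih =>
    have h1 : Cfsg.puigSeq G (2 * n + 2) ≤ Cfsg.puigSeq G (2 * n + 1) := by
      show Cfsg.puigStep (Cfsg.puigSeq G (2 * n + 1)) ≤ Cfsg.puigStep (Cfsg.puigSeq G (2 * n))
      exact puigStep_anti ih
    show Cfsg.puigSeq G (2 * n + 2) ≤ Cfsg.puigStep (Cfsg.puigSeq G (2 * n + 2))
    have : Cfsg.puigSeq G (2 * n + 2) = Cfsg.puigStep (Cfsg.puigSeq G (2 * n + 1)) := rfl
    rw [this]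
    exact puigStep_anti h1

lemma even_le_odd (n m : ℕ) : Cfsg.puigSeq G (2 * n) ≤ Cfsg.puigSeq G (2 * m + 1) := by
  rcases le_total n m with h | h
  · exact (even_monotone h).trans (even_le_odd_diag m)
  · exact (even_le_odd_diag n).trans (odd_antitone h)

theorem result {G : Type*} [Group G] [Finite G] :
    Cfsg.puigSeq G 0 = ⊥ ∧ Cfsg.puigSeq G 1 = ⊤ ∧
      (∀ n m : ℕ, Cfsg.puigSeq G (2 * n) ≤ Cfsg.puigSeq G (2 * n + 2) ∧ Cfsg.puigSeq G (2 * n) ≤ Cfsg.puigSeq G (2 * m + 1) ∧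
        Cfsg.puigSeq G (2 * m + 3) ≤ Cfsg.puigSeq G (2 * m + 1)) ∧
      (∃ k : ℕ, ∀ n : ℕ, k ≤ n → Cfsg.puigSeq G (2 * n) = Cfsg.puigLower G ∧ Cfsg.puigSeq G (2 * n + 1) = Cfsg.puigSubgroup G) ∧
      Cfsg.puigLower G ≤ Cfsg.puigSubgroup G ∧
      Cfsg.puigStep (Cfsg.puigLower G) = Cfsg.puigSubgroup G ∧ Cfsg.puigStep (Cfsg.puigSubgroup G) = Cfsg.puigLower G := by
  have hstab : ∃ k : ℕ, ∀ n : ℕ, k ≤ n → Cfsg.puigSeq G (2 * n) = Cfsg.puigLower G ∧
      Cfsg.puigSeq G (2 * n + 1) = Cfsg.puigSubgroup G := by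
    obtain ⟨k1, hk1⟩ := WellFoundedGT.monotone_chain_condition
      (⟨fun n => Cfsg.puigSeq G (2 * n), even_monotone⟩ : ℕ →o Subgroup G)
    obtain ⟨k2, hk2⟩ := WellFoundedLT.antitone_chain_condition (odd_antitone (G := G))
    simp only [OrderHom.coe_mk] at hk1
    refine ⟨max k1 k2, fun n hn => ?_⟩
    have hn1 : k1 ≤ n := le_trans (le_max_left _ _) hn
    have hn2 : k2 ≤ n := le_trans (le_max_right _ _) hn
    constructor
    · unfold Cfsg.puigLower
      apply le_antisymm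
      · exact le_iSup (fun n => Cfsg.puigSeq G (2 * n)) n
      · apply iSup_le
        intro m
        rcases le_total m n with h | h
        · exact even_monotone h
        · rw [← hk1 m (hn1.trans h), hk1 n hn1]
    · unfold Cfsg.puigSubgroup
      apply le_antisymm
      · apply le_iInf
        intro m
        rcases le_total m n with h | h
        · exact odd_antitone h
        · have := hk2 m (hn2.trans h)
          have h2 := hk2 n hn2
          rw [← this, h2]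
      · exact iInf_le (fun n => Cfsg.puigSeq G (2 * n + 1)) n
  refine ⟨rfl, puigStep_bot, ?_, hstab, ?_, ?_, ?_⟩
  · intro n m
    exact ⟨(even_mono_odd_anti n).1, even_le_odd n m, (even_mono_odd_anti m).2⟩
  · obtain ⟨k, hk⟩ := hstab
    rw [← (hk k le_rfl).1, ← (hk k le_rfl).2]
    exact even_le_odd_diag k
  · obtain ⟨k, hk⟩ := hstab
    rw [← (hk k le_rfl).1, ← (hk k le_rfl).2]
    rfl
  · obtain ⟨k, hk⟩ := hstab
    rw [← (hk k le_rfl).2, ← (hk (k + 1) (Nat.le_succ k)).1]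
    rfl

end Cfsg.Agent.S1467
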