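import Cfsg.Statements.S2427
import Mathlib

set_option autoImplicit false
open Cfsg

namespace Cfsg.Agent.S2427

set_option maxRecDepth 100000

open scoped commutatorElement

/-- abbreviation for `SL(2,3)` -/
abbrev G23 := Matrix.SpecialLinearGroup (Fin 2) (ZMod 3)

/-- an element of order 4 -/
def eI : G23 := ⟨!![0, 1; 2, 0], by decide⟩
/-- another element of order 4 -/
def eJ : G23 := ⟨!![1, 1; 1, 2], by decide⟩
/-- an element of order 3 -/
def eG : G23 := ⟨!![1, 1; 0, 1], by decide⟩

theorem card_G23 : Fintype.card G23 = 24 := by decide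

theorem sq_one_cases : ∀ t : G23, t * t = 1 → t = 1 ∨ t = -1 := by decide

theorem comm_pow4 : ∀ x y : G23, (x * y * x⁻¹ * y⁻¹) ^ 4 = 1 := by decide

theorem mul_pow4 : ∀ x y : G23, x ^ 4 = 1 → y ^ 4 = 1 → (x * y) ^ 4 = 1 := by decide

theorem inv_pow4 : ∀ x : G23, x ^ 4 = 1 → x⁻¹ ^ 4 = 1 := by decide

/-- the quaternion subgroup -/
def Q8 : Subgroup G23 where
  carrier := {x | x ^ 4 = 1}
  one_mem' := by decide
  mul_mem' := fun {a b} ha hb => mul_pow4 a b ha hb
  inv_mem' := fun {a} ha => inv_pow4 a ha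

theorem mem_Q8 (x : G23) : x ∈ Q8 ↔ x ^ 4 = 1 := Iff.rfl

instance : DecidablePred (· ∈ Q8) := fun x => decidable_of_iff _ (mem_Q8 x).symm

theorem card_Q8 : Nat.card Q8 = 8 := by
  rw [Nat.card_eq_fintype_card, Fintype.card_subtype]
  decide

theorem Q8_words : ∀ x : G23, x ^ 4 = 1 → x = 1 ∨ x = eI ∨ x = eI ^ 2 ∨ x = eI ^ 3 ∨ x = eJ ∨
    x = eI * eJ ∨ x = eI ^ 2 * eJ ∨ x = eI ^ 3 * eJ := by decide

theorem eI_comm : ∃ a b : G23, eI = ⁅a, b⁆ := by decide

theorem eJ_comm : ∃ a b : G23, eJ = ⁅a, b⁆ := by decide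

theorem Q8_eq_commutator : Q8 = commutator G23 := by
  apply le_antisymm
  · have hI : eI ∈ commutator G23 := by
      obtain ⟨a, b, h⟩ := eI_comm
      rw [h, commutator_def]
      exact Subgroup.commutator_mem_commutator (Subgroup.mem_top a) (Subgroup.mem_top b)
    have hJ : eJ ∈ commutator G23 := by
      obtain ⟨a, b, h⟩ := eJ_comm
      rw [h, commutator_def]
      exact Subgroup.commutator_mem_commutator (Subgroup.mem_top a) (Subgroup.mem_top b)
    intro x hx
    rcases Q8_words x hx with h | h | h | h | h | h | h | h <;> rw [h]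
    · exact one_mem _
    · exact hI
    · exact pow_mem hI 2
    · exact pow_mem hI 3
    · exact hJ
    · exact mul_mem hI hJ
    · exact mul_mem (pow_mem hI 2) hJ
    · exact mul_mem (pow_mem hI 3) hJ
  · rw [commutator_def, Subgroup.commutator_le]
    intro x _ y _
    rw [mem_Q8, commutatorElement_def]
    exact comm_pow4 x y

theorem neg_one_central : ∀ y : G23, (-1 : G23) * y = y * (-1) := by decide

theorem central_cases : ∀ x : G23, x * eI = eI * x → x * eG = eG * x → x = 1 ∨ x = -1 := by
  decide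

theorem neg_one_ne_one : (-1 : G23) ≠ 1 := by decide

theorem mem_center_iff' (x : G23) : x ∈ Subgroup.center G23 ↔ x = 1 ∨ x = -1 := by
  constructor
  · intro hx
    rw [Subgroup.mem_center_iff] at hx
    exact central_cases x (hx eI).symm (hx eG).symm
  · rintro (rfl | rfl)
    · exact one_mem _
    · rw [Subgroup.mem_center_iff]
      intro y
      exact (neg_one_central y).symm

theorem card_center : Nat.card (Subgroup.center G23) = 2 := by
  rw [Nat.card_eq_two_iff]
  refine ⟨⟨1, one_mem _⟩, ⟨-1, (mem_center_iff' _).2 (Or.inr rfl)⟩, ?_, ?_⟩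
  · intro h
    exact neg_one_ne_one (congrArg Subtype.val h).symm
  · ext x
    simp only [Set.mem_insert_iff, Set.mem_singleton_iff, Set.mem_univ, iff_true]
    rcases (mem_center_iff' x.1).1 x.2 with h | h
    · left; exact Subtype.ext h
    · right; exact Subtype.ext h


/-- the map from the quaternion group -/
def qf : QuaternionGroup 2 → G23
  | QuaternionGroup.a k => eI ^ k.val
  | QuaternionGroup.xa k => eJ * eI ^ k.val

theorem qf_mul : ∀ u v : QuaternionGroup 2, qf (u * v) = qf u * qf v := by decide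

theorem qf_inj : ∀ u : QuaternionGroup 2, qf u = 1 → u = 1 := by decide

theorem qf_mem : ∀ u : QuaternionGroup 2, (qf u) ^ 4 = 1 := by decide

/-- the homomorphism from the quaternion group -/
def qhom : QuaternionGroup 2 →* G23 := MonoidHom.mk' qf qf_mul

theorem qhom_injective : Function.Injective qhom := by
  rw [injective_iff_map_eq_one]
  intro u hu
  exact qf_inj u hu

theorem qhom_range : qhom.range = Q8 := by
  apply Subgroup.eq_of_le_of_card_ge
  · rintro _ ⟨u, rfl⟩
    exact qf_mem u
  · rw [card_Q8, Nat.card_congr (MonoidHom.ofInjective qhom_injective).symm.toEquiv,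
      Nat.card_eq_fintype_card, QuaternionGroup.card]

theorem commutator_iso : Nonempty (commutator G23 ≃* QuaternionGroup 2) := by
  have e1 := MonoidHom.ofInjective qhom_injective
  have e2 : ↥qhom.range ≃* ↥(commutator G23) :=
    MulEquiv.subgroupCongr (qhom_range.trans Q8_eq_commutator)
  exact ⟨(e1.trans e2).symm⟩


theorem sylow3_card (P : Sylow 3 G23) : Nat.card P = 3 := by
  haveI : Fact (Nat.Prime 3) := ⟨Nat.prime_three⟩
  obtain ⟨k, hk⟩ := IsPGroup.iff_card.1 P.isPGroup'
  have hidx := (P : Subgroup G23).card_mul_index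
  rw [Nat.card_eq_fintype_card (α := G23), card_G23] at hidx
  have hnd := P.not_dvd_index
  rw [hk] at hidx ⊢
  rcases k with _ | _ | k
  · exfalso
    apply hnd
    rw [pow_zero, one_mul] at hidx
    rw [hidx]
    decide
  · rfl
  · exfalso
    have h9 : 9 ∣ 24 := by
      rw [← hidx]
      apply Dvd.dvd.mul_right
      have : 3 ^ (k + 1 + 1) = 3 ^ k * 9 := by ring
      rw [this]
      exact Dvd.intro_left _ rfl
    omega

theorem sylow3_compl (P : Sylow 3 G23) :
    Subgroup.IsComplement' (commutator G23) (P : Subgroup G23) := by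
  apply Subgroup.isComplement'_of_coprime
  · rw [← Q8_eq_commutator, card_Q8, sylow3_card, Nat.card_eq_fintype_card, card_G23]
  · rw [← Q8_eq_commutator, card_Q8, sylow3_card]
    decide

/-- the words generating the quaternion subgroup from an element of order 4 -/
def good (x z : G23) : Prop :=
  z = 1 ∨ z = x ∨ z = x ^ 2 ∨ z = x ^ 3 ∨ z = eG * x * eG⁻¹ ∨ z = (eG * x * eG⁻¹) ^ 3 ∨
      z = x * (eG * x * eG⁻¹) ∨ z = (eG * x * eG⁻¹) * x

instance (x z : G23) : Decidable (good x z) := by
  unfold good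
  infer_instance

theorem ord4_gen' : ∀ x z : G23, x ^ 4 = 1 → x ^ 2 ≠ 1 → z ^ 4 = 1 → good x z := by decide

theorem ord4_gen (x z : G23) (h1 : x ^ 4 = 1) (h2 : x ^ 2 ≠ 1) (h3 : z ^ 4 = 1) :
    (z = 1 ∨ z = x ∨ z = x ^ 2 ∨ z = x ^ 3 ∨ z = eG * x * eG⁻¹ ∨ z = (eG * x * eG⁻¹) ^ 3 ∨
      z = x * (eG * x * eG⁻¹) ∨ z = (eG * x * eG⁻¹) * x) := ord4_gen' x z h1 h2 h3

theorem non_Q8_comm : ∀ x : G23, x ^ 4 ≠ 1 → ∃ y : G23, (x * y * x⁻¹ * y⁻¹) ^ 2 ≠ 1 := by decide

theorem Q8_le_of_ord4 (N : Subgroup G23) (hN : N.Normal) (x : G23) (hx : x ∈ N)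
    (hx4 : x ^ 4 = 1) (hx2 : x ^ 2 ≠ 1) : Q8 ≤ N := by
  intro z hz
  have hx' : eG * x * eG⁻¹ ∈ N := hN.conj_mem x hx eG
  rcases ord4_gen x z hx4 hx2 hz with h | h | h | h | h | h | h | h <;> rw [h]
  · exact one_mem _
  · exact hx
  · exact pow_mem hx 2
  · exact pow_mem hx 3
  · exact hx'
  · exact pow_mem hx' 3
  · exact mul_mem hx hx'
  · exact mul_mem hx' hx

theorem Q8_le_of_not_sq (N : Subgroup G23) (hN : N.Normal) (x : G23) (hx : x ∈ N)
    (hx2 : x ^ 2 ≠ 1) : Q8 ≤ N := by
  by_cases hx4 : x ^ 4 = 1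
  · exact Q8_le_of_ord4 N hN x hx hx4 hx2
  · obtain ⟨y, hy⟩ := non_Q8_comm x hx4
    have hc : x * y * x⁻¹ * y⁻¹ ∈ N := by
      have h1 : y * x⁻¹ * y⁻¹ ∈ N := hN.conj_mem _ (inv_mem hx) y
      have : x * y * x⁻¹ * y⁻¹ = x * (y * x⁻¹ * y⁻¹) := by group
      rw [this]
      exact mul_mem hx h1
    exact Q8_le_of_ord4 N hN _ hc (comm_pow4 x y) hy

theorem normal_class (N : Subgroup G23) (hN : N.Normal) :
    N = ⊥ ∨ N = ⊤ ∨ N = Subgroup.center G23 ∨ N = commutator G23 := by
  by_cases h : ∃ x ∈ N, x ^ 2 ≠ 1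
  · obtain ⟨x, hx, hx2⟩ := h
    have hle := Q8_le_of_not_sq N hN x hx hx2
    by_cases h2 : N ≤ Q8
    · right; right; right
      rw [← Q8_eq_commutator]
      exact le_antisymm h2 hle
    · right; left
      have hd1 : 8 ∣ Nat.card N := by
        rw [← card_Q8]; exact Subgroup.card_dvd_of_le hle
      have hd2 : Nat.card N ∣ 24 := by
        have := Subgroup.card_subgroup_dvd_card N
        rwa [Nat.card_eq_fintype_card (α := G23), card_G23] at this
      have hne : Nat.card N ≠ 8 := by
        intro h8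
        apply h2
        have : Q8 = N := Subgroup.eq_of_le_of_card_ge hle (by rw [h8, card_Q8])
        rw [this]
      have h24 : Nat.card N = 24 := by
        obtain ⟨a, ha⟩ := hd1
        obtain ⟨b, hb⟩ := hd2
        have hb0 : b ≠ 0 := by
          intro h0
          rw [h0] at hb
          omega
        have : a * b = 3 := by
          rw [ha] at hb
          have : 8 * 3 = 8 * (a * b) := by rw [← mul_assoc]; omega
          omega
        have ha3 : a ∣ 3 := Dvd.intro _ this
        rcases (Nat.dvd_prime Nat.prime_three).1 ha3 with h1 | h1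
        · omega
        · omega
      rw [← Subgroup.card_eq_iff_eq_top, h24, Nat.card_eq_fintype_card, card_G23]
  · push Not at h
    have hcases : ∀ x ∈ N, x = 1 ∨ x = -1 := by
      intro x hx
      apply sq_one_cases
      rw [← pow_two]
      exact h x hx
    by_cases hneg : (-1 : G23) ∈ N
    · right; right; left
      ext x
      rw [mem_center_iff']
      constructor
      · exact hcases x
      · rintro (rfl | rfl)
        · exact one_mem _
        · exact hneg
    · left
      rw [eq_bot_iff]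
      intro x hx
      rw [Subgroup.mem_bot]
      rcases hcases x hx with h1 | h1
      · exact h1
      · rw [h1] at hx
        exact absurd hx hneg

theorem main2427 :
    Nat.card (Matrix.SpecialLinearGroup (Fin 2) (ZMod 3)) = 24 ∧
    Nat.card (Subgroup.center (Matrix.SpecialLinearGroup (Fin 2) (ZMod 3))) = 2 ∧
    Nat.card (commutator (Matrix.SpecialLinearGroup (Fin 2) (ZMod 3))) = 8 ∧
    Nonempty (commutator (Matrix.SpecialLinearGroup (Fin 2) (ZMod 3)) ≃* QuaternionGroup 2) ∧
    (∀ P : Sylow 3 (Matrix.SpecialLinearGroup (Fin 2) (ZMod 3)),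
      Subgroup.IsComplement' (commutator (Matrix.SpecialLinearGroup (Fin 2) (ZMod 3)))
        (P : Subgroup (Matrix.SpecialLinearGroup (Fin 2) (ZMod 3)))) ∧
    ∀ N : Subgroup (Matrix.SpecialLinearGroup (Fin 2) (ZMod 3)), N.Normal →
      N = ⊥ ∨ N = ⊤ ∨ N = Subgroup.center (Matrix.SpecialLinearGroup (Fin 2) (ZMod 3)) ∨
        N = commutator (Matrix.SpecialLinearGroup (Fin 2) (ZMod 3)) := by
  refine ⟨?_, card_center, ?_, commutator_iso, sylow3_compl, normal_class⟩
  · rw [Nat.card_eq_fintype_card]; exact card_G23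
  · rw [← Q8_eq_commutator]; exact card_Q8


/-- The group SL₂ over the field with 3 elements has order 24 and centre of order 2; its commutator subgroup has order 8, is isomorphic to the quaternion group of order 8 and is complemented by every Sylow 3-subgroup (so the group is a semidirect product of a quaternion group of order 8 by a cyclic group of order 3); and its only normal subgroups besides the trivial subgroup and the whole group are the centre and the commutator subgroup. -/
theorem result :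
    Nat.card (Matrix.SpecialLinearGroup (Fin 2) (ZMod 3)) = 24 ∧
    Nat.card (Subgroup.center (Matrix.SpecialLinearGroup (Fin 2) (ZMod 3))) = 2 ∧
    Nat.card (commutator (Matrix.SpecialLinearGroup (Fin 2) (ZMod 3))) = 8 ∧
    Nonempty (commutator (Matrix.SpecialLinearGroup (Fin 2) (ZMod 3)) ≃* QuaternionGroup 2) ∧
    (∀ P : Sylow 3 (Matrix.SpecialLinearGroup (Fin 2) (ZMod 3)),
      Subgroup.IsComplement' (commutator (Matrix.SpecialLinearGroup (Fin 2) (ZMod 3)))
        (P : Subgroup (Matrix.SpecialLinearGroup (Fin 2) (ZMod 3)))) ∧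
    ∀ N : Subgroup (Matrix.SpecialLinearGroup (Fin 2) (ZMod 3)), N.Normal →
      N = ⊥ ∨ N = ⊤ ∨ N = Subgroup.center (Matrix.SpecialLinearGroup (Fin 2) (ZMod 3)) ∨
        N = commutator (Matrix.SpecialLinearGroup (Fin 2) (ZMod 3)) := by
  exact main2427 

end Cfsg.Agent.S2427
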