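import Cfsg.Statements.S0623
import Mathlib

set_option autoImplicit false
open Cfsg

namespace Cfsg.Agent.S0623

set_option linter.style.haveILetI false
set_option linter.unusedVariables false
open scoped commutatorElement

section aux
variable {G : Type*} [Group G]

theorem cent_iff (A : Subgroup G) (a : G) :
    ⁅A, Subgroup.zpowers a⁆ = ⊥ ↔ ∀ v ∈ A, a * v = v * a := by
  rw [Subgroup.commutator_eq_bot_iff_le_centralizer]
  constructor
  · intro h v hv
    have h1 := h hv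
    rw [Subgroup.mem_centralizer_iff] at h1
    exact h1 a (Subgroup.mem_zpowers a)
  · intro h v hv
    rw [Subgroup.mem_centralizer_iff]
    intro z hz
    obtain ⟨k, rfl⟩ := Subgroup.mem_zpowers_iff.1 hz
    exact (Commute.zpow_left (show Commute a v from h v hv) k).eq

theorem quad_iff (A : Subgroup G) (a : G) :
    ⁅⁅A, Subgroup.zpowers a⁆, Subgroup.zpowers a⁆ = ⊥ ↔
      ∀ v ∈ A, ∀ i j : ℤ, a ^ j * ⁅v, a ^ i⁆ = ⁅v, a ^ i⁆ * a ^ j := by
  rw [Subgroup.commutator_eq_bot_iff_le_centralizer, Subgroup.commutator_le]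
  constructor
  · intro h v hv i j
    have h1 := h v hv (a ^ i) (Subgroup.zpow_mem_zpowers a i)
    rw [Subgroup.mem_centralizer_iff] at h1
    exact h1 (a ^ j) (Subgroup.zpow_mem_zpowers a j)
  · intro h v hv z hz
    obtain ⟨i, rfl⟩ := Subgroup.mem_zpowers_iff.1 hz
    rw [Subgroup.mem_centralizer_iff]
    intro z' hz'
    obtain ⟨j, rfl⟩ := Subgroup.mem_zpowers_iff.1 hz'
    exact h v hv i j

end aux

theorem exists_maxEA (p : ℕ) (S : Type*) [Group S] [Finite S] :
    ∃ A, A ∈ maxElementaryAbelianSubgroups p S := by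
  classical
  have hbot : IsElementaryAbelian p (⊥ : Subgroup S) :=
    ⟨⟨⟨fun a b => Subsingleton.elim _ _⟩⟩, fun a ha => by rw [Subgroup.mem_bot.1 ha, one_pow]⟩
  haveI : Nonempty {B : Subgroup S // IsElementaryAbelian p B} := ⟨⟨⊥, hbot⟩⟩
  obtain ⟨A, hA⟩ := Finite.exists_max (fun B : {B : Subgroup S // IsElementaryAbelian p B} =>
    Nat.card (B : Subgroup S))
  exact ⟨A.1, A.2, fun B hB => hA ⟨B, hB⟩⟩

theorem central_mem_maxEA {p : ℕ} {S : Type*} [Group S] [Finite S] {A : Subgroup S}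
    (hA : A ∈ maxElementaryAbelianSubgroups p S) {x : S} (hx : x ∈ Subgroup.center S)
    (hxp : x ^ p = 1) : x ∈ A := by
  obtain ⟨⟨hAc, hAe⟩, hmax⟩ := hA
  have hxc : ∀ g : S, g * x = x * g := fun g => Subgroup.mem_center_iff.1 hx g
  have hcen : ∀ (m : ℤ) (g : S), Commute (x ^ m) g := fun m g =>
    Commute.zpow_left (show Commute g x from hxc g).symm m
  haveI : (Subgroup.zpowers x).Normal := by
    refine ⟨fun n hn g => ?_⟩
    obtain ⟨k, rfl⟩ := Subgroup.mem_zpowers_iff.1 hn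
    have h1 : g * x ^ k * g⁻¹ = x ^ k := by
      rw [← (hcen k g).eq, mul_assoc, mul_inv_cancel, mul_one]
    rw [h1]; exact hn
  have hBel : ∀ y ∈ A ⊔ Subgroup.zpowers x, ∃ a ∈ A, ∃ k : ℤ, y = a * x ^ k := by
    intro y hy
    obtain ⟨a, ha, z, hz, rfl⟩ := Subgroup.mem_sup_of_normal_right.1 hy
    obtain ⟨k, rfl⟩ := Subgroup.mem_zpowers_iff.1 hz
    exact ⟨a, ha, k, rfl⟩
  have hBea : IsElementaryAbelian p (A ⊔ Subgroup.zpowers x) := by
    constructor
    · refine ⟨⟨?_⟩⟩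
      rintro ⟨y, hy⟩ ⟨y', hy'⟩
      obtain ⟨a, ha, k, rfl⟩ := hBel y hy
      obtain ⟨a', ha', k', rfl⟩ := hBel y' hy'
      apply Subtype.ext
      have h1 : Commute a a' := congrArg Subtype.val (hAc.is_comm.comm ⟨a, ha⟩ ⟨a', ha'⟩)
      exact ((h1.mul_right (hcen k' a).symm).mul_left
        ((hcen k a').mul_right (hcen k _))).eq
    · intro y hy
      obtain ⟨a, ha, k, rfl⟩ := hBel y hy
      rw [(hcen k a).symm.mul_pow, hAe a ha, one_mul, ← zpow_natCast, ← zpow_mul,
        mul_comm k (p : ℤ), zpow_mul, zpow_natCast, hxp, one_zpow]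
  have hle : A ≤ A ⊔ Subgroup.zpowers x := le_sup_left
  have heq : A = A ⊔ Subgroup.zpowers x := Subgroup.eq_of_le_of_card_ge hle (hmax _ hBea)
  rw [heq]
  exact (le_sup_right : Subgroup.zpowers x ≤ A ⊔ Subgroup.zpowers x) (Subgroup.mem_zpowers x)

theorem omegaCenter_le (p : ℕ) (S : Type*) [Group S] [Finite S] :
    omegaOne p (Subgroup.center S) ≤ omegaCenterThompson p S := by
  unfold omegaCenterThompson omegaOne
  apply Subgroup.closure_mono
  rintro x ⟨hx, hxp⟩
  obtain ⟨A, hA⟩ := exists_maxEA p S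
  refine ⟨Subgroup.mem_inf.2 ⟨?_, ?_⟩, hxp⟩
  · exact (le_sSup hA : A ≤ thompsonSubgroup p S) (central_mem_maxEA hA hx hxp)
  · rw [Subgroup.mem_centralizer_iff]
    intro h _
    exact Subgroup.mem_center_iff.1 hx h

theorem omegaCenter_map_normal {p : ℕ} {S H : Type*} [Group S] [Group H] (τ : S →* H)
    (hinj : Function.Injective τ) (hJ : ((thompsonSubgroup p S).map τ).Normal) :
    ((omegaCenterThompson p S).map τ).Normal := by
  have key : ∀ h : H, ∀ x : S,
      (x ∈ thompsonSubgroup p S ⊓ Subgroup.centralizer (thompsonSubgroup p S : Set S) ∧ x ^ p = 1) →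
      ∃ y : S, (y ∈ thompsonSubgroup p S ⊓ Subgroup.centralizer (thompsonSubgroup p S : Set S) ∧
        y ^ p = 1) ∧ τ y = h * τ x * h⁻¹ := by
    intro h x hx
    obtain ⟨hxJC, hxp⟩ := hx
    obtain ⟨hxJ, hxC⟩ := Subgroup.mem_inf.1 hxJC
    have h1 : h * τ x * h⁻¹ ∈ (thompsonSubgroup p S).map τ :=
      hJ.conj_mem _ (Subgroup.mem_map_of_mem τ hxJ) h
    obtain ⟨y, hyJ, hy⟩ := Subgroup.mem_map.1 h1
    refine ⟨y, ⟨Subgroup.mem_inf.2 ⟨hyJ, ?_⟩, ?_⟩, hy⟩
    · rw [Subgroup.mem_centralizer_iff]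
      intro j hj
      have h2 : h⁻¹ * τ j * h⁻¹⁻¹ ∈ (thompsonSubgroup p S).map τ :=
        hJ.conj_mem _ (Subgroup.mem_map_of_mem τ hj) h⁻¹
      obtain ⟨j', hj'J, hj'⟩ := Subgroup.mem_map.1 h2
      apply hinj
      have hj2 : τ j = h * τ j' * h⁻¹ := by rw [hj']; group
      have hc : j' * x = x * j' := (Subgroup.mem_centralizer_iff.1 hxC) j' hj'J
      rw [map_mul, map_mul, hy, hj2]
      calc h * τ j' * h⁻¹ * (h * τ x * h⁻¹) = h * τ (j' * x) * h⁻¹ := by rw [map_mul]; group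
        _ = h * τ (x * j') * h⁻¹ := by rw [hc]
        _ = h * τ x * h⁻¹ * (h * τ j' * h⁻¹) := by rw [map_mul]; group
    · apply hinj
      rw [map_pow, hy, map_one, conj_pow, ← map_pow, hxp, map_one]
      group
  unfold omegaCenterThompson omegaOne
  rw [MonoidHom.map_closure]
  refine ⟨fun n hn h => ?_⟩
  refine Subgroup.closure_induction
    (p := fun n _ => h * n * h⁻¹ ∈ Subgroup.closure (τ '' {x : S | x ∈ thompsonSubgroup p S ⊓
      Subgroup.centralizer (thompsonSubgroup p S : Set S) ∧ x ^ p = 1})) ?_ ?_ ?_ ?_ hn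
  · rintro _ ⟨x0, hx0, rfl⟩
    obtain ⟨y, hy, e⟩ := key h x0 hx0
    rw [← e]
    exact Subgroup.subset_closure ⟨y, hy, rfl⟩
  · simp
  · intro a b _ _ ha hb
    have e : h * (a * b) * h⁻¹ = (h * a * h⁻¹) * (h * b * h⁻¹) := by group
    rw [e]; exact mul_mem ha hb
  · intro a _ ha
    have e : h * a⁻¹ * h⁻¹ = (h * a * h⁻¹)⁻¹ := by group
    rw [e]; exact inv_mem ha

/-- No element of a finite p-group acts quadratically and nontrivially on the stable normal closure W(S). -/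
theorem result {S : Type*} [Group S] [Finite S] {p : ℕ} [Fact p.Prime] (hS : IsPGroup p S) (x : S) (hq : ⁅⁅Cfsg.stableNormalClosure p S, Subgroup.zpowers x⁆, Subgroup.zpowers x⁆ = ⊥) : ⁅Cfsg.stableNormalClosure p S, Subgroup.zpowers x⁆ = ⊥ := by
  classical
  have hZ1cen : omegaOne p (Subgroup.center S) ≤ Subgroup.center S :=
    (Subgroup.closure_le _).2 (fun y hy => hy.1)
  have hZ1Wt : omegaOne p (Subgroup.center S) ≤ Cfsg.stableNormalClosure p S :=
    le_sInf (fun W hW => hW.1)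
  have hWtY : Cfsg.stableNormalClosure p S ≤ omegaCenterThompson p S :=
    sInf_le ⟨omegaCenter_le p S, fun H _ τ hτ => omegaCenter_map_normal τ hτ.1 hτ.2.2.2.2.1⟩
  -- the property
  let P' : Subgroup S → Prop := fun W => ∀ y : S,
    ⁅⁅W, Subgroup.zpowers y⁆, Subgroup.zpowers y⁆ = ⊥ → ⁅W, Subgroup.zpowers y⁆ = ⊥
  let PP : Subgroup S → Prop := fun W =>
    omegaOne p (Subgroup.center S) ≤ W ∧ W ≤ Cfsg.stableNormalClosure p S ∧ P' W
  have hZ1P : PP (omegaOne p (Subgroup.center S)) := by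
    refine ⟨le_rfl, hZ1Wt, fun y _ => ?_⟩
    rw [cent_iff]
    intro v hv
    exact Subgroup.mem_center_iff.1 (hZ1cen hv) y
  obtain ⟨W, hZ1W, hWmax⟩ := Finite.exists_le_maximal (p := PP) hZ1P
  have hW : PP W := hWmax.1
  -- W is in the family
  have hWF : ∀ (H : Type _) [Group H] (τ : S →* H), IsStableEmbedding p τ → (W.map τ).Normal := by
    intro H _ τ hτ
    have hinj : Function.Injective τ := hτ.1
    haveI hfin : Finite H := hτ.2.1
    obtain ⟨R, hR⟩ := hτ.2.2.1
    have hJn := hτ.2.2.2.2.1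
    haveI hYn : ((omegaCenterThompson p S).map τ).Normal := omegaCenter_map_normal τ hinj hJn
    have hWV : W.map τ ≤ Subgroup.normalClosure ((W.map τ : Subgroup H) : Set H) :=
      Subgroup.le_normalClosure
    have hVY : Subgroup.normalClosure ((W.map τ : Subgroup H) : Set H) ≤
        (omegaCenterThompson p S).map τ :=
      Subgroup.normalClosure_le_normal
        (SetLike.coe_subset_coe.2 (Subgroup.map_mono (hW.2.1.trans hWtY)))
    have hVWt : Subgroup.normalClosure ((W.map τ : Subgroup H) : Set H) ≤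
        (Cfsg.stableNormalClosure p S).map τ := by
      intro v hv
      obtain ⟨s, hsY, rfl⟩ := Subgroup.mem_map.1 (hVY hv)
      refine Subgroup.mem_map.2 ⟨s, ?_, rfl⟩
      unfold stableNormalClosure
      rw [Subgroup.mem_sInf]
      intro W' hW'
      haveI : (W'.map τ).Normal := hW'.2 H τ hτ
      have h1 : Subgroup.normalClosure ((W.map τ : Subgroup H) : Set H) ≤ W'.map τ :=
        Subgroup.normalClosure_le_normal
          (SetLike.coe_subset_coe.2 (Subgroup.map_mono (hW.2.1.trans (sInf_le hW'))))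
      obtain ⟨s', hs', e⟩ := Subgroup.mem_map.1 (h1 hv)
      rwa [← hinj e]
    -- notation
    obtain ⟨V, hVdef⟩ : ∃ V : Subgroup H, V = Subgroup.normalClosure ((W.map τ : Subgroup H) : Set H) :=
      ⟨_, rfl⟩
    rw [← hVdef] at hWV hVY hVWt
    haveI hVn : V.Normal := by rw [hVdef]; exact Subgroup.normalClosure_normal
    have hW1map : (V.comap τ).map τ = V := by
      rw [Subgroup.map_comap_eq]
      exact inf_of_le_right (hVY.trans (Subgroup.map_le_range τ _))
    have hWW1 : W ≤ V.comap τ := fun w hw =>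
      Subgroup.mem_comap.2 (hWV (Subgroup.mem_map_of_mem τ hw))
    have hW1Wt : V.comap τ ≤ Cfsg.stableNormalClosure p S := by
      intro s hs
      obtain ⟨s', hs', e⟩ := Subgroup.mem_map.1 (hVWt (Subgroup.mem_comap.1 hs))
      rwa [← hinj e]
    have hP'W1 : P' (V.comap τ) := by
      intro y hyq
      rw [cent_iff]
      rw [quad_iff] at hyq
      have haq : ∀ v ∈ V, ∀ i j : ℤ, τ y ^ j * ⁅v, τ y ^ i⁆ = ⁅v, τ y ^ i⁆ * τ y ^ j := by
        intro v hv i j
        have hv' : v ∈ (V.comap τ).map τ := by rw [hW1map]; exact hv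
        obtain ⟨s, hs, rfl⟩ := Subgroup.mem_map.1 hv'
        have h1 := congrArg τ (hyq s hs i j)
        simpa only [map_mul, map_zpow, map_commutatorElement] using h1
      have hstV : IsPStableOn p V := hτ.2.2.2.2.2 V hVY
      have haL := hstV (τ y) ((quad_iff V (τ y)).2 haq)
      obtain ⟨C, hCdef⟩ : ∃ C : Subgroup H, C = Subgroup.centralizer (V : Set H) := ⟨_, rfl⟩
      haveI hCn : C.Normal := by rw [hCdef]; infer_instance
      have hCmem : ∀ c ∈ C, ∀ v ∈ V, v * c = c * v := by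
        intro c hc v hv
        rw [hCdef] at hc
        exact (Subgroup.mem_centralizer_iff.1 hc) v hv
      have haL' : (QuotientGroup.mk (τ y) : H ⧸ C) ∈ pCore p (H ⧸ C) := by
        subst hCdef; exact haL
      have hsurj : Function.Surjective (QuotientGroup.mk' C) := QuotientGroup.mk'_surjective C
      have hcore_le : pCore p (H ⧸ C) ≤ ((R.mapSurjective hsurj : Sylow p (H ⧸ C)) : Subgroup (H ⧸ C)) := by
        apply sSup_le
        rintro N ⟨hn, hp⟩
        haveI := hn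
        exact hp.le_sylow_of_normal _
      -- main claim
      have hmain : ∀ g : H, ∀ w ∈ W.map τ, τ y * (g⁻¹ * w * g) = (g⁻¹ * w * g) * τ y := by
        intro g w hw
        have hwV : w ∈ V := hWV hw
        have ha' : (QuotientGroup.mk (g * τ y * g⁻¹) : H ⧸ C) ∈ pCore p (H ⧸ C) := by
          have h1 := (Cfsg.pCore_normal p (H ⧸ C)).conj_mem _ haL' (QuotientGroup.mk g : H ⧸ C)
          simpa using h1
        have ha'R := hcore_le ha'
        rw [Sylow.coe_mapSurjective] at ha'R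
        obtain ⟨r, hr, hre⟩ := Subgroup.mem_map.1 ha'R
        have hr' : r ∈ τ.range := by rw [← hR]; exact hr
        obtain ⟨s, rfl⟩ := MonoidHom.mem_range.1 hr'
        -- powers
        have hpow : ∀ i : ℤ, ((τ s) ^ i)⁻¹ * (g * τ y * g⁻¹) ^ i ∈ C := by
          intro i
          apply QuotientGroup.eq.1
          have h1 : (QuotientGroup.mk (τ s) : H ⧸ C) = QuotientGroup.mk (g * τ y * g⁻¹) := hre
          rw [QuotientGroup.mk_zpow, QuotientGroup.mk_zpow, h1]
        -- a' quadratic on V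
        have ha'q : ∀ v ∈ V, ∀ i j : ℤ, (g * τ y * g⁻¹) ^ j * ⁅v, (g * τ y * g⁻¹) ^ i⁆ =
            ⁅v, (g * τ y * g⁻¹) ^ i⁆ * (g * τ y * g⁻¹) ^ j := by
          intro v hv i j
          have hv' : g⁻¹ * v * g⁻¹⁻¹ ∈ V := hVn.conj_mem v hv g⁻¹
          rw [inv_inv] at hv'
          have e := haq _ hv' i j
          rw [conj_zpow, conj_zpow]
          have e2 : ⁅v, g * τ y ^ i * g⁻¹⁆ = g * ⁅g⁻¹ * v * g, τ y ^ i⁆ * g⁻¹ := by
            simp only [commutatorElement_def]; group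
          rw [e2]
          calc g * τ y ^ j * g⁻¹ * (g * ⁅g⁻¹ * v * g, τ y ^ i⁆ * g⁻¹)
              = g * (τ y ^ j * ⁅g⁻¹ * v * g, τ y ^ i⁆) * g⁻¹ := by group
            _ = g * (⁅g⁻¹ * v * g, τ y ^ i⁆ * τ y ^ j) * g⁻¹ := by rw [e]
            _ = g * ⁅g⁻¹ * v * g, τ y ^ i⁆ * g⁻¹ * (g * τ y ^ j * g⁻¹) := by group
        -- r quadratic on W.map τ
        have hrq : ∀ w' ∈ V, ∀ i j : ℤ, τ s ^ j * ⁅w', τ s ^ i⁆ = ⁅w', τ s ^ i⁆ * τ s ^ j := by
          intro w' hw' i j
          have hci := hpow i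
          have hcj := hpow j
          have hai : (g * τ y * g⁻¹) ^ i = τ s ^ i * (((τ s) ^ i)⁻¹ * (g * τ y * g⁻¹) ^ i) := by group
          have haj : (g * τ y * g⁻¹) ^ j = τ s ^ j * (((τ s) ^ j)⁻¹ * (g * τ y * g⁻¹) ^ j) := by group
          obtain ⟨ci, hcidef⟩ : ∃ ci : H, ci = ((τ s) ^ i)⁻¹ * (g * τ y * g⁻¹) ^ i := ⟨_, rfl⟩
          obtain ⟨cj, hcjdef⟩ : ∃ cj : H, cj = ((τ s) ^ j)⁻¹ * (g * τ y * g⁻¹) ^ j := ⟨_, rfl⟩
          rw [← hcidef] at hci hai
          rw [← hcjdef] at hcj haj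
          have e1 : ⁅w', (g * τ y * g⁻¹) ^ i⁆ = ⁅w', τ s ^ i⁆ := by
            rw [hai]
            have hc1 : w'⁻¹ * ci = ci * w'⁻¹ := hCmem ci hci w'⁻¹ (inv_mem hw')
            calc ⁅w', τ s ^ i * ci⁆ = w' * τ s ^ i * (ci * w'⁻¹) * ci⁻¹ * (τ s ^ i)⁻¹ := by
                  simp only [commutatorElement_def]; group
              _ = w' * τ s ^ i * (w'⁻¹ * ci) * ci⁻¹ * (τ s ^ i)⁻¹ := by rw [hc1]
              _ = ⁅w', τ s ^ i⁆ := by simp only [commutatorElement_def]; group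
          have huV : ⁅w', τ s ^ i⁆ ∈ V := by
            have h1 : τ s ^ i * w'⁻¹ * (τ s ^ i)⁻¹ ∈ V := hVn.conj_mem _ (inv_mem hw') _
            have e : ⁅w', τ s ^ i⁆ = w' * (τ s ^ i * w'⁻¹ * (τ s ^ i)⁻¹) := by
              simp only [commutatorElement_def]; group
            rw [e]; exact mul_mem hw' h1
          have e3 := ha'q w' hw' i j
          rw [e1, haj] at e3
          have hc2 : ⁅w', τ s ^ i⁆ * cj = cj * ⁅w', τ s ^ i⁆ := hCmem cj hcj _ huV
          have e4 : τ s ^ j * ⁅w', τ s ^ i⁆ * cj = ⁅w', τ s ^ i⁆ * τ s ^ j * cj := by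
            calc τ s ^ j * ⁅w', τ s ^ i⁆ * cj = τ s ^ j * (⁅w', τ s ^ i⁆ * cj) := by rw [mul_assoc]
              _ = τ s ^ j * (cj * ⁅w', τ s ^ i⁆) := by rw [hc2]
              _ = τ s ^ j * cj * ⁅w', τ s ^ i⁆ := by rw [mul_assoc]
              _ = ⁅w', τ s ^ i⁆ * (τ s ^ j * cj) := e3
              _ = ⁅w', τ s ^ i⁆ * τ s ^ j * cj := by rw [mul_assoc]
          exact mul_right_cancel e4
        -- pull back to s
        have hsq : ⁅⁅W, Subgroup.zpowers s⁆, Subgroup.zpowers s⁆ = ⊥ := by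
          rw [quad_iff]
          intro w0 hw0 i j
          apply hinj
          simp only [map_mul, map_zpow, map_commutatorElement]
          exact hrq (τ w0) (hWV (Subgroup.mem_map_of_mem τ hw0)) i j
        have hsc := (cent_iff W s).1 (hW.2.2 s hsq)
        obtain ⟨w0, hw0, rfl⟩ := Subgroup.mem_map.1 hw
        have hrw : τ s * τ w0 = τ w0 * τ s := by rw [← map_mul, ← map_mul, hsc w0 hw0]
        -- a' commutes with w
        have hc1 := hpow 1
        rw [zpow_one, zpow_one] at hc1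
        have hcw : τ w0 * ((τ s)⁻¹ * (g * τ y * g⁻¹)) = ((τ s)⁻¹ * (g * τ y * g⁻¹)) * τ w0 :=
          hCmem _ hc1 _ hwV
        have hcomm : (g * τ y * g⁻¹) * τ w0 = τ w0 * (g * τ y * g⁻¹) := by
          calc (g * τ y * g⁻¹) * τ w0 = τ s * (((τ s)⁻¹ * (g * τ y * g⁻¹)) * τ w0) := by group
            _ = τ s * (τ w0 * ((τ s)⁻¹ * (g * τ y * g⁻¹))) := by rw [hcw]
            _ = (τ s * τ w0) * ((τ s)⁻¹ * (g * τ y * g⁻¹)) := by group
            _ = (τ w0 * τ s) * ((τ s)⁻¹ * (g * τ y * g⁻¹)) := by rw [hrw]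
            _ = τ w0 * (g * τ y * g⁻¹) := by group
        calc τ y * (g⁻¹ * τ w0 * g) = g⁻¹ * ((g * τ y * g⁻¹) * τ w0) * g := by group
          _ = g⁻¹ * (τ w0 * (g * τ y * g⁻¹)) * g := by rw [hcomm]
          _ = (g⁻¹ * τ w0 * g) * τ y := by group
      -- a centralizes V
      have hVa : ∀ v ∈ V, τ y * v = v * τ y := by
        have hle : V ≤ Subgroup.centralizer ({τ y} : Set H) := by
          rw [hVdef, Subgroup.normalClosure]
          apply (Subgroup.closure_le _).2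
          intro v hv
          obtain ⟨w, hw, hconj⟩ := Group.mem_conjugatesOfSet_iff.1 hv
          obtain ⟨c, rfl⟩ := isConj_iff.1 hconj
          rw [SetLike.mem_coe, Subgroup.mem_centralizer_iff]
          intro z hz
          rw [Set.mem_singleton_iff.1 hz]
          have h1 := hmain c⁻¹ w hw
          rw [inv_inv] at h1
          exact h1
        intro v hv
        have h1 := hle hv
        rw [Subgroup.mem_centralizer_iff] at h1
        exact h1 (τ y) (Set.mem_singleton _)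
      intro s0 hs0
      apply hinj
      rw [map_mul, map_mul]
      exact hVa (τ s0) (Subgroup.mem_comap.1 hs0)
    have hW1le : V.comap τ ≤ W := hWmax.2 ⟨hW.1.trans hWW1, hW1Wt, hP'W1⟩ hWW1
    have hfinal : W.map τ = V :=
      le_antisymm hWV (by rw [← hW1map]; exact Subgroup.map_mono hW1le)
    rw [hfinal]; exact hVn
  have hWtW : Cfsg.stableNormalClosure p S ≤ W := sInf_le ⟨hW.1, hWF⟩
  have hWeq : W = Cfsg.stableNormalClosure p S := le_antisymm hW.2.1 hWtW
  have := hW.2.2 x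
  rw [hWeq] at this
  exact this hq

end Cfsg.Agent.S0623
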