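import Cfsg.Statements.S0622
import Mathlib
import Cfsg.Agent.Lib.Lead.StableW
import Cfsg.Agent.Lib.Helper5.YL4
import Cfsg.Agent.Lib.Helper3.Transport
import Cfsg.Agent.Lib.Helper2.EA

set_option autoImplicit false
universe u
open Cfsg

namespace Cfsg.Agent.S0622

set_option maxRecDepth 100000
open Cfsg

section transport
variable {A B : Type u} [Group A] [Group B] (p : ℕ)

theorem maxEA_map_equiv (e : A ≃* B) (K : Subgroup A) (hK : K ∈ maxElementaryAbelianSubgroups p A) :
    K.map e.toMonoidHom ∈ maxElementaryAbelianSubgroups p B := by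
  refine ⟨Cfsg.Agent.Lib.Helper2.ea_map hK.1 _, ?_⟩
  intro B' hB'
  rw [Cfsg.Agent.Lib.Helper3.card_map_equiv e K, ← Cfsg.Agent.Lib.Helper3.card_map_equiv e.symm B']
  exact hK.2 _ (Cfsg.Agent.Lib.Helper2.ea_map hB' _)

theorem thompson_map_equiv (e : A ≃* B) :
    (thompsonSubgroup p A).map e.toMonoidHom = thompsonSubgroup p B := by
  unfold thompsonSubgroup
  apply Cfsg.Agent.Lib.Helper3.map_sSup_equiv e
  · exact fun K hK => maxEA_map_equiv p e K hK
  · exact fun K hK => maxEA_map_equiv p e.symm K hK

theorem centralizer_map_equiv (e : A ≃* B) (K : Subgroup A) :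
    (Subgroup.centralizer (K : Set A)).map e.toMonoidHom =
      Subgroup.centralizer ((K.map e.toMonoidHom : Subgroup B) : Set B) := by
  ext y
  constructor
  · rintro ⟨x, hx, rfl⟩
    rw [Subgroup.mem_centralizer_iff]
    rintro _ ⟨k, hk, rfl⟩
    have := (Subgroup.mem_centralizer_iff.1 hx) k hk
    show e k * e x = e x * e k
    rw [← map_mul, ← map_mul, this]
  · intro hy
    refine ⟨e.symm y, ?_, by simp⟩
    rw [SetLike.mem_coe, Subgroup.mem_centralizer_iff]
    intro k hk
    have := (Subgroup.mem_centralizer_iff.1 hy) (e k) ⟨k, hk, rfl⟩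
    apply e.injective
    rw [map_mul, map_mul, MulEquiv.apply_symm_apply]
    exact this

theorem omegaCenterThompson_map_equiv (e : A ≃* B) :
    (omegaCenterThompson p A).map e.toMonoidHom = omegaCenterThompson p B := by
  unfold omegaCenterThompson
  rw [Cfsg.Agent.Lib.Helper5.map_omegaOne _ e.injective, Subgroup.map_inf _ _ _ e.injective,
    centralizer_map_equiv, thompson_map_equiv]

theorem center_map_equiv (e : A ≃* B) :
    (Subgroup.center A).map e.toMonoidHom = Subgroup.center B := by
  ext y
  constructor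
  · rintro ⟨x, hx, rfl⟩
    rw [SetLike.mem_coe, Subgroup.mem_center_iff] at hx
    rw [Subgroup.mem_center_iff]
    intro g
    obtain ⟨g', rfl⟩ := e.surjective g
    show e g' * e x = e x * e g'
    rw [← map_mul, ← map_mul, hx g']
  · intro hy
    refine ⟨e.symm y, ?_, by simp⟩
    rw [Subgroup.mem_center_iff] at hy
    rw [SetLike.mem_coe, Subgroup.mem_center_iff]
    intro g
    apply e.injective
    rw [map_mul, map_mul, MulEquiv.apply_symm_apply]
    exact hy (e g)

theorem stableEmbedding_comp {H : Type u} [Group H] (e : A ≃* B) (τ : A →* H)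
    (hτ : IsStableEmbedding p τ) : IsStableEmbedding p (τ.comp e.symm.toMonoidHom) := by
  obtain ⟨h1, h2, ⟨P, hP⟩, h4, h5, h6⟩ := hτ
  have hmap : ∀ K : Subgroup A, (K.map e.toMonoidHom).map (τ.comp e.symm.toMonoidHom) = K.map τ := by
    intro K
    rw [Subgroup.map_map]
    congr 1
    ext x
    simp
  refine ⟨h1.comp e.symm.injective, h2, ⟨P, ?_⟩, h4, ?_, ?_⟩
  · rw [hP]
    ext y
    constructor
    · rintro ⟨x, rfl⟩
      exact ⟨e x, by simp⟩
    · rintro ⟨x, rfl⟩
      exact ⟨e.symm x, rfl⟩
  · rw [← thompson_map_equiv p e, hmap]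
    exact h5
  · intro V hV hle
    rw [← omegaCenterThompson_map_equiv p e, hmap] at hle
    exact h6 V hle

end transport


theorem snc_map_le {S S' : Type u} [Group S] [Group S'] (p : ℕ) (η : S ≃* S') :
    (stableNormalClosure p S).map η.toMonoidHom ≤ stableNormalClosure p S' := by
  apply le_sInf
  intro W' hW'
  rw [Subgroup.map_le_iff_le_comap]
  apply sInf_le
  refine ⟨?_, ?_⟩
  · rw [← Subgroup.map_le_iff_le_comap, Cfsg.Agent.Lib.Helper5.map_omegaOne _ η.injective,
      center_map_equiv]
    exact hW'.1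
  · intro H _ τ hτ
    have h1 := hW'.2 H (τ.comp η.symm.toMonoidHom) (stableEmbedding_comp p η τ hτ)
    have h2 : W'.map (τ.comp η.symm.toMonoidHom) = (W'.comap η.toMonoidHom).map τ := by
      ext y
      constructor
      · rintro ⟨x, hx, rfl⟩
        refine ⟨η.symm x, ?_, rfl⟩
        show η (η.symm x) ∈ W'
        rw [MulEquiv.apply_symm_apply]; exact hx
      · rintro ⟨x, hx, rfl⟩
        refine ⟨η x, hx, ?_⟩
        show τ (η.symm (η x)) = τ x
        rw [MulEquiv.symm_apply_apply]
    rw [h2] at h1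
    exact h1

theorem snc_map_eq {S S' : Type u} [Group S] [Group S'] (p : ℕ) (η : S ≃* S') :
    (stableNormalClosure p S).map η.toMonoidHom = stableNormalClosure p S' := by
  apply le_antisymm (snc_map_le p η)
  have := snc_map_le p η.symm
  calc stableNormalClosure p S'
      = ((stableNormalClosure p S').map η.symm.toMonoidHom).map η.toMonoidHom :=
        (Cfsg.Agent.Lib.Helper3.map_symm_map η _).symm
    _ ≤ _ := Subgroup.map_mono this

theorem main0622 {S : Type u} [Group S] [Finite S] {p : ℕ} [Fact p.Prime] (hS : IsPGroup p S) : (Cfsg.stableNormalClosure p S).Characteristic ∧ Cfsg.omegaOne p (Subgroup.center S) ≤ Cfsg.stableNormalClosure p S ∧ Cfsg.stableNormalClosure p S ≤ Cfsg.omegaCenterThompson p S ∧ (Nontrivial S → Cfsg.stableNormalClosure p S ≠ ⊥) ∧ ∀ (S' : Type u) [Group S'] (η : S ≃* S'), (Cfsg.stableNormalClosure p S).map η.toMonoidHom = Cfsg.stableNormalClosure p S' := by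
  have hpp : p.Prime := Fact.out
  have hb : Cfsg.omegaOne p (Subgroup.center S) ≤ Cfsg.stableNormalClosure p S :=
    le_sInf (fun W hW => hW.1)
  refine ⟨?_, hb, Cfsg.Agent.Lib.Lead.StableW.snc_le_omega, ?_, fun S' _ η => snc_map_eq p η⟩
  · rw [Subgroup.characteristic_iff_map_eq]
    intro ϕ
    exact snc_map_eq p ϕ
  · intro hnt
    have hc : Nontrivial (Subgroup.center S) := hS.center_nontrivial
    have hcp : IsPGroup p (Subgroup.center S) := hS.to_subgroup _
    obtain ⟨k, hk⟩ := IsPGroup.iff_card.1 hcp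
    have hk0 : k ≠ 0 := by
      rintro rfl
      rw [pow_zero] at hk
      have := (Nat.card_eq_one_iff_unique.1 hk).1
      exact not_subsingleton _ this
    have hdvd : p ∣ Nat.card (Subgroup.center S) := by rw [hk]; exact dvd_pow_self p hk0
    obtain ⟨z, hz⟩ := exists_prime_orderOf_dvd_card' p hdvd
    have hz1 : (z : S) ≠ 1 := by
      intro h
      have : z = 1 := Subtype.ext h
      rw [this, orderOf_one] at hz
      exact hpp.one_lt.ne hz
    have hzp : (z : S) ^ p = 1 := by
      have := pow_orderOf_eq_one z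
      rw [hz] at this
      exact congrArg Subtype.val this
    have hzmem : (z : S) ∈ Cfsg.omegaOne p (Subgroup.center S) :=
      Subgroup.subset_closure ⟨z.2, hzp⟩
    intro hbot
    have := hb hzmem
    rw [hbot, Subgroup.mem_bot] at this
    exact hz1 this


/-- Basic properties of the stable normal closure W(S) of Ω₁(Z(S)) in a finite p-group: characteristic, squeezed between Ω₁(Z(S)) and Ω₁(Z(J(S))), nontrivial for S ≠ 1, and transported by group isomorphisms. -/
theorem result {S : Type u} [Group S] [Finite S] {p : ℕ} [Fact p.Prime] (hS : IsPGroup p S) : (Cfsg.stableNormalClosure p S).Characteristic ∧ Cfsg.omegaOne p (Subgroup.center S) ≤ Cfsg.stableNormalClosure p S ∧ Cfsg.stableNormalClosure p S ≤ Cfsg.omegaCenterThompson p S ∧ (Nontrivial S → Cfsg.stableNormalClosure p S ≠ ⊥) ∧ ∀ (S' : Type u) [Group S'] (η : S ≃* S'), (Cfsg.stableNormalClosure p S).map η.toMonoidHom = Cfsg.stableNormalClosure p S' := by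
  exact main0622 hS

end Cfsg.Agent.S0622
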