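import Cfsg.Statements.S0539
import Cfsg.Agent.Lib.Helper2.Subnormal

set_option autoImplicit false
set_option linter.style.haveILetI false
open Cfsg

namespace Cfsg.Agent.S0539

open Cfsg.Agent.Lib.Helper2
open scoped Pointwise

theorem isSubnormal_sSup {G : Type*} [Group G] [Finite G] (T : Set (Subgroup G))
    (hT : ∀ U ∈ T, U.IsSubnormal) : (sSup T : Subgroup G).IsSubnormal := by
  classical
  have hfin : T.Finite := Set.toFinite T
  have key : ∀ F : Finset (Subgroup G), (∀ U ∈ F, U.IsSubnormal) →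
      (sSup (↑F : Set (Subgroup G)) : Subgroup G).IsSubnormal := by
    intro F
    induction F using Finset.induction_on with
    | empty =>
      intro _
      rw [Finset.coe_empty, sSup_empty]
      exact Subgroup.IsSubnormal.bot
    | insert a s _ ih =>
      intro h
      rw [Finset.coe_insert, sSup_insert]
      apply isSubnormal_sup
      · exact h a (Finset.mem_insert_self a s)
      · exact ih (fun U hU => h U (Finset.mem_insert_of_mem hU))
  have := key hfin.toFinset (fun U hU => hT U (hfin.mem_toFinset.1 hU))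
  rwa [Set.Finite.coe_toFinset] at this

theorem mem_normalizer_sSup {G : Type*} [Group G] [Finite G] (S₀ : Set (Subgroup G)) (x : G)
    (h : ∀ U ∈ S₀, MulAut.conj x • U ≤ sSup S₀) :
    x ∈ Subgroup.normalizer ((sSup S₀ : Subgroup G) : Set G) := by
  rw [mem_normalizer_iff_conj_smul_eq]
  have hle : MulAut.conj x • (sSup S₀ : Subgroup G) ≤ sSup S₀ := by
    rw [Subgroup.pointwise_smul_subset_iff]
    apply sSup_le
    intro U hU
    rw [← Subgroup.pointwise_smul_subset_iff]
    exact h U hU
  apply Subgroup.eq_of_le_of_card_ge hle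
  rw [card_conj_smul]

/-- A conjugation-closed family `S` of subnormal subgroups and a proper subfamily `S₀`: some member of `S` outside `S₀` normalizes the subgroup generated by `S₀`. -/
theorem result {G : Type*} [Group G] [Finite G] (S S₀ : Set (Subgroup G)) (hS : ∀ U ∈ S, U.IsSubnormal) (hconj : ∀ U ∈ S, ∀ g : G, MulAut.conj g • U ∈ S) (h₀ : S₀ ⊂ S) : ∃ X ∈ S, X ∉ S₀ ∧ X ≤ Subgroup.normalizer ((sSup S₀ : Subgroup G) : Set G) := by
  classical
  have hsub : S₀ ⊆ S := h₀.subset
  have hH : (sSup S₀ : Subgroup G).IsSubnormal := isSubnormal_sSup S₀ (fun U hU => hS U (hsub hU))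
  by_cases hall : ∀ X ∈ S, X ≤ sSup S₀
  · obtain ⟨X, hXS, hX0⟩ := Set.exists_of_ssubset h₀
    refine ⟨X, hXS, hX0, ?_⟩
    intro x _
    apply mem_normalizer_sSup
    intro U hU
    exact hall _ (hconj U (hsub hU) x)
  · push Not at hall
    obtain ⟨X₀, hX₀S, hX₀⟩ := hall
    obtain ⟨n, f, hmono, hnorm, hf0, hfn⟩ := hH.exists_chain
    have hex : ∃ i, ∃ X ∈ S, ¬ X ≤ sSup S₀ ∧ X ≤ f i :=
      ⟨n, X₀, hX₀S, hX₀, by rw [hfn]; exact le_top⟩
    have hfind := Nat.find_spec hex
    have hmin := fun m => Nat.find_min hex (m := m)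
    set i := Nat.find hex with hi
    obtain ⟨X, hXS, hXH, hXf⟩ := hfind
    have hi0 : i ≠ 0 := by
      intro h
      rw [h, hf0] at hXf
      exact hXH hXf
    obtain ⟨j, hj⟩ := Nat.exists_eq_succ_of_ne_zero hi0
    have hPj : ∀ Y ∈ S, Y ≤ f j → Y ≤ sSup S₀ := by
      intro Y hYS hYf
      by_contra hY
      exact hmin j (by rw [hj]; exact Nat.lt_succ_self j) ⟨Y, hYS, hY, hYf⟩
    refine ⟨X, hXS, fun hX0 => hXH (le_sSup hX0), ?_⟩
    intro x hx
    apply mem_normalizer_sSup
    intro U hU
    apply hPj _ (hconj U (hsub hU) x)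
    have hxf : x ∈ f (j + 1) := by
      have := hXf hx
      rwa [hj] at this
    have hfj : MulAut.conj x • f j = f j :=
      conj_smul_eq_of_subgroupOf_normal (hmono (Nat.le_succ j)) (hnorm j) hxf
    have hUf : U ≤ f j := by
      calc U ≤ sSup S₀ := le_sSup hU
        _ = f 0 := hf0.symm
        _ ≤ f j := hmono (Nat.zero_le j)
    rw [← hfj]
    exact Subgroup.pointwise_smul_le_pointwise_smul_iff.2 hUf

end Cfsg.Agent.S0539
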