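import Cfsg.Statements.S0540
import Cfsg.Agent.S0539

set_option autoImplicit false
set_option linter.style.haveILetI false
open Cfsg

namespace Cfsg.Agent.S0540

open Cfsg.Agent.Lib.Helper2
open scoped Pointwise

/-- relative version of S0539 inside a subgroup `V`. -/
theorem rel_normalizing {G : Type*} [Group G] [Finite G] (V : Subgroup G)
    (T T₀ : Set (Subgroup G)) (hle : ∀ B ∈ T, B ≤ V)
    (hsn : ∀ B ∈ T, (B.subgroupOf V).IsSubnormal)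
    (hconj : ∀ B ∈ T, ∀ v ∈ V, MulAut.conj v • B ∈ T) (h₀ : T₀ ⊂ T) :
    ∃ X ∈ T, X ∉ T₀ ∧ X ≤ Subgroup.normalizer ((sSup T₀ : Subgroup G) : Set G) := by
  classical
  have hsub : T₀ ⊆ T := h₀.subset
  let φ : Subgroup G → Subgroup V := fun B => B.subgroupOf V
  have hφinj : ∀ B ∈ T, ∀ C ∈ T, φ B = φ C → B = C := by
    intro B hB C hC h
    have := Subgroup.subgroupOf_inj.1 h
    rwa [inf_of_le_left (hle B hB), inf_of_le_left (hle C hC)] at this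
  have hS' : ∀ U' ∈ φ '' T, U'.IsSubnormal := by
    rintro _ ⟨B, hB, rfl⟩
    exact hsn B hB
  have hconj' : ∀ U' ∈ φ '' T, ∀ g : V, MulAut.conj g • U' ∈ φ '' T := by
    rintro _ ⟨B, hB, rfl⟩ g
    refine ⟨MulAut.conj (g : G) • B, hconj B hB g g.2, ?_⟩
    exact (Subgroup.conj_smul_subgroupOf (hle B hB) g).symm
  have h₀' : φ '' T₀ ⊂ φ '' T := by
    refine ⟨Set.image_mono hsub, ?_⟩
    intro h
    obtain ⟨B, hBT, hB0⟩ := Set.exists_of_ssubset h₀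
    obtain ⟨C, hC0, hCB⟩ := h ⟨B, hBT, rfl⟩
    have := hφinj C (hsub hC0) B hBT hCB
    exact hB0 (this ▸ hC0)
  obtain ⟨X', ⟨X, hXT, rfl⟩, hX'0, hX'N⟩ := Cfsg.Agent.S0539.result (φ '' T) (φ '' T₀) hS' hconj' h₀'
  refine ⟨X, hXT, fun h => hX'0 ⟨X, h, rfl⟩, ?_⟩
  have hHV : (sSup T₀ : Subgroup G) ≤ V := sSup_le (fun B hB => hle B (hsub hB))
  have hsup : (sSup (φ '' T₀) : Subgroup V) = φ (sSup T₀) := by
    apply le_antisymm
    · apply sSup_le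
      rintro _ ⟨B, hB, rfl⟩
      exact Subgroup.comap_mono (le_sSup hB)
    · have h1 : (sSup T₀ : Subgroup G) ≤ (sSup (φ '' T₀) : Subgroup V).map V.subtype := by
        apply sSup_le
        intro B hB
        rw [← Subgroup.map_subgroupOf_eq_of_le (hle B (hsub hB))]
        apply Subgroup.map_mono
        exact le_sSup ⟨B, hB, rfl⟩
      have h2 := Subgroup.comap_mono (f := V.subtype) h1
      rwa [Subgroup.comap_map_eq_self_of_injective (Subgroup.subtype_injective V)] at h2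
  intro x hx
  have hxV : x ∈ V := hle X hXT hx
  have h3 : (⟨x, hxV⟩ : V) ∈ φ X := hx
  have h4 := hX'N h3
  rw [hsup] at h4
  have h5 : Subgroup.normalizer ((φ (sSup T₀) : Subgroup V) : Set V) =
      (Subgroup.normalizer ((sSup T₀ : Subgroup G) : Set G)).subgroupOf V :=
    (Subgroup.subgroupOf_normalizer_eq hHV).symm
  rw [h5] at h4
  exact h4

/-- Wielandt-type lemma: under closure conditions (1)–(3) on the families of subnormal conjugates of `A`, a nonempty family of subgroups has a greatest element. -/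
theorem result {G : Type*} [Group G] [Finite G] (A : Subgroup G) (U : Set (Subgroup G)) (hU : U.Nonempty) (S : Subgroup G → Set (Subgroup G)) (hS : ∀ V B : Subgroup G, B ∈ S V ↔ (∃ g : G, B = MulAut.conj g • A) ∧ B ≤ V ∧ (B.subgroupOf V).IsSubnormal) (h1 : ∀ V ∈ U, A ∈ S V) (h2 : ∀ V ∈ U, ∀ W ∈ U, ∀ B ∈ S W, B ≤ V → B ∈ S V) (h3 : ∀ V ∈ U, ∀ W ∈ U, ∃ X ∈ U, Subgroup.normalizer ((sSup (S V ∩ S W) : Subgroup G) : Set G) ≤ X) : ∃ M ∈ U, ∀ V ∈ U, V ≤ M := by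
  classical
  -- maximal elements
  have hmaxex : ∀ V ∈ U, ∃ M ∈ U, V ≤ M ∧ ∀ W ∈ U, M ≤ W → W = M := by
    intro V hV
    obtain ⟨M, ⟨hMU, hVM⟩, hM⟩ := WellFounded.has_min (wellFounded_gt (α := Subgroup G))
      {W | W ∈ U ∧ V ≤ W} ⟨V, hV, le_rfl⟩
    refine ⟨M, hMU, hVM, ?_⟩
    intro W hW hMW
    by_contra hne
    exact hM W ⟨hW, hVM.trans hMW⟩ (lt_of_le_of_ne hMW (fun h => hne h.symm))
  by_contra hno
  push Not at hno
  obtain ⟨V₀, hV₀⟩ := hU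
  obtain ⟨M₁, hM₁U, -, hM₁max⟩ := hmaxex V₀ hV₀
  obtain ⟨V₁, hV₁U, hV₁⟩ := hno M₁ hM₁U
  obtain ⟨M₂, hM₂U, hV₁M₂, hM₂max⟩ := hmaxex V₁ hV₁U
  have hM₁₂ : M₁ ≠ M₂ := by
    intro h
    apply hV₁
    rw [h]; exact hV₁M₂
  let Pairs : Set (Subgroup G × Subgroup G) :=
    {p | (p.1 ∈ U ∧ ∀ W ∈ U, p.1 ≤ W → W = p.1) ∧ (p.2 ∈ U ∧ ∀ W ∈ U, p.2 ≤ W → W = p.2) ∧
      p.1 ≠ p.2}
  have hPne : Pairs.Nonempty := ⟨(M₁, M₂), ⟨hM₁U, hM₁max⟩, ⟨hM₂U, hM₂max⟩, hM₁₂⟩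
  obtain ⟨⟨P, Q⟩, ⟨⟨hPU, hPmax⟩, ⟨hQU, hQmax⟩, hPQ⟩, hbest⟩ :=
    Set.exists_max_image Pairs (fun p => (S p.1 ∩ S p.2).ncard) (Set.toFinite _) hPne
  -- S V closed under V-conjugation
  have hSconj : ∀ V : Subgroup G, ∀ B ∈ S V, ∀ v ∈ V, MulAut.conj v • B ∈ S V := by
    intro V B hB v hv
    rw [hS] at hB ⊢
    obtain ⟨⟨g, rfl⟩, hBV, hBsn⟩ := hB
    refine ⟨⟨v * g, by rw [map_mul, mul_smul]⟩, ?_, ?_⟩
    · exact Subgroup.conj_smul_le_of_le hBV ⟨v, hv⟩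
    · rw [← Subgroup.conj_smul_subgroupOf hBV ⟨v, hv⟩]
      exact hBsn.smul _
  -- key claim
  have key : ∀ P Q : Subgroup G, (P ∈ U ∧ ∀ W ∈ U, P ≤ W → W = P) →
      (Q ∈ U ∧ ∀ W ∈ U, Q ≤ W → W = Q) →
      (∀ b ∈ Pairs, (S b.1 ∩ S b.2).ncard ≤ (S P ∩ S Q).ncard) →
      ∀ X : Subgroup G, (X ∈ U ∧ ∀ W ∈ U, X ≤ W → W = X) →
      Subgroup.normalizer ((sSup (S P ∩ S Q) : Subgroup G) : Set G) ≤ X → P = X := by
    rintro P Q ⟨hPU, hPmax⟩ ⟨hQU, hQmax⟩ hbest X ⟨hXU, hXmax⟩ hNX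
    by_cases hSig : S P ∩ S Q = S P
    · -- P normalizes
      have hPN : P ≤ Subgroup.normalizer ((sSup (S P ∩ S Q) : Subgroup G) : Set G) := by
        intro x hx
        apply Cfsg.Agent.S0539.mem_normalizer_sSup
        intro B hB
        apply le_sSup
        rw [hSig] at hB ⊢
        exact hSconj P B hB x hx
      exact (hPmax X hXU (hPN.trans hNX)).symm
    · have hss : S P ∩ S Q ⊂ S P := ⟨Set.inter_subset_left, fun h => hSig (Set.Subset.antisymm Set.inter_subset_left h)⟩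
      obtain ⟨B, hBP, hBSig, hBN⟩ := rel_normalizing P (S P) (S P ∩ S Q)
        (fun B hB => ((hS P B).1 hB).2.1) (fun B hB => ((hS P B).1 hB).2.2)
        (hSconj P) hss
      have hBX : B ∈ S X := h2 X hXU P hPU B hBP (hBN.trans hNX)
      have hSigX : S P ∩ S Q ⊆ S P ∩ S X := by
        intro C hC
        refine ⟨hC.1, ?_⟩
        apply h2 X hXU P hPU C hC.1
        exact (le_sSup hC).trans (Subgroup.le_normalizer.trans hNX)
      have hlt : S P ∩ S Q ⊂ S P ∩ S X := by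
        refine ⟨hSigX, ?_⟩
        intro h
        exact hBSig (h ⟨hBP, hBX⟩)
      have hcard := Set.ncard_lt_ncard hlt (Set.toFinite _)
      by_contra hne
      have := hbest (P, X) ⟨⟨hPU, hPmax⟩, ⟨hXU, hXmax⟩, hne⟩
      exact absurd hcard (not_lt.2 this)
  obtain ⟨X, hXU, hNX⟩ := h3 P hPU Q hQU
  obtain ⟨X', hX'U, hXX', hX'max⟩ := hmaxex X hXU
  have e1 : P = X' := key P Q ⟨hPU, hPmax⟩ ⟨hQU, hQmax⟩ hbest X' ⟨hX'U, hX'max⟩ (hNX.trans hXX')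
  have hbest' : ∀ b ∈ Pairs, (S b.1 ∩ S b.2).ncard ≤ (S Q ∩ S P).ncard := by
    intro b hb
    rw [Set.inter_comm (S Q) (S P)]
    exact hbest b hb
  have e2 : Q = X' := key Q P ⟨hQU, hQmax⟩ ⟨hPU, hPmax⟩ hbest' X' ⟨hX'U, hX'max⟩
    (by rw [Set.inter_comm (S Q) (S P)]; exact hNX.trans hXX')
  exact hPQ (e1.trans e2.symm)

end Cfsg.Agent.S0540
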