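import Cfsg.Statements.S0752
import Mathlib

set_option autoImplicit false
open Cfsg

namespace Cfsg.Agent.S0752
set_option linter.style.haveILetI false
set_option linter.deprecated false

universe u v

/-- The family version, by strong induction on the dimension. -/
theorem aux {F : Type u} [Field F] : ∀ (n : ℕ) (V : Type v) [AddCommGroup V] [Module F V]
    [FiniteDimensional F V] (B : LinearMap.BilinForm F V), B.IsAlt → Module.finrank F V = n →
    ∃ (m k : ℕ) (e f : Fin m → V) (r : Fin k → V),
      (∀ i j : Fin m, B (e i) (f j) = if i = j then 1 else 0) ∧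
      (∀ i j : Fin m, B (e i) (e j) = 0) ∧ (∀ i j : Fin m, B (f i) (f j) = 0) ∧
      (∀ (j : Fin k) (w : V), B (r j) w = 0) ∧ LinearIndependent F r ∧
      2 * m + k = Module.finrank F V := by
  intro n
  induction n using Nat.strong_induction_on with
  | _ n ih =>
  intro V _ _ _ B hA hn
  by_cases hex : ∃ u w : V, B u w ≠ 0
  · obtain ⟨u, w, huw⟩ := hex
    obtain ⟨e0, he0⟩ : ∃ e0 : V, e0 = u := ⟨_, rfl⟩
    obtain ⟨f0, hf0⟩ : ∃ f0 : V, f0 = (B u w)⁻¹ • w := ⟨_, rfl⟩
    have hef : B e0 f0 = 1 := by
      rw [hf0, he0, map_smul, smul_eq_mul, inv_mul_cancel₀ huw]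
    have hfe : B f0 e0 = -1 := by rw [← hA.neg_eq e0 f0, hef]
    have hee : B e0 e0 = 0 := hA e0
    have hff : B f0 f0 = 0 := hA f0
    obtain ⟨φ, hφ⟩ : ∃ φ : V →ₗ[F] F × F, φ = (B e0).prod (B f0) := ⟨_, rfl⟩
    have hφapp : ∀ x : V, φ x = (B e0 x, B f0 x) := fun x => by rw [hφ]; rfl
    obtain ⟨W, hW⟩ : ∃ W : Submodule F V, W = LinearMap.ker φ := ⟨_, rfl⟩
    have hWmem : ∀ x : V, x ∈ W ↔ B e0 x = 0 ∧ B f0 x = 0 := by
      intro x
      rw [hW, LinearMap.mem_ker, hφapp, Prod.mk_eq_zero]
    have hsurj : Function.Surjective φ := by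
      rintro ⟨a, b⟩
      refine ⟨a • f0 - b • e0, ?_⟩
      rw [hφapp]
      simp only [map_sub, map_smul, hef, hee, hff, hfe, smul_eq_mul]
      simp
    have hrank : Module.finrank F W + 2 = Module.finrank F V := by
      have h1 := LinearMap.finrank_range_add_finrank_ker φ
      rw [LinearMap.range_eq_top.mpr hsurj, finrank_top, Module.finrank_prod,
        Module.finrank_self, ← hW] at h1
      omega
    have hlt : Module.finrank F W < n := by omega
    obtain ⟨m', k', e', f', r', h1, h2, h3, h4, h5, h6⟩ :=
      ih (Module.finrank F W) hlt W (B.restrict W) (fun x => hA x) rfl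
    have hWe : ∀ x : W, B e0 (x : V) = 0 := fun x => ((hWmem x).mp x.2).1
    have hWf : ∀ x : W, B f0 (x : V) = 0 := fun x => ((hWmem x).mp x.2).2
    have hWe' : ∀ x : W, B (x : V) e0 = 0 := fun x => by rw [← hA.neg_eq, hWe, neg_zero]
    have hWf' : ∀ x : W, B (x : V) f0 = 0 := fun x => by rw [← hA.neg_eq, hWf, neg_zero]
    refine ⟨m' + 1, k', Fin.cons e0 (fun i => (e' i : V)), Fin.cons f0 (fun i => (f' i : V)),
      fun j => (r' j : V), ?_, ?_, ?_, ?_, ?_, ?_⟩
    · intro i j
      refine Fin.cases ?_ (fun i' => ?_) i <;> refine Fin.cases ?_ (fun j' => ?_) j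
      · simp [hef]
      · simp only [Fin.cons_zero, Fin.cons_succ]
        rw [hWe, if_neg (Fin.succ_ne_zero j').symm]
      · simp only [Fin.cons_zero, Fin.cons_succ]
        rw [hWf', if_neg (Fin.succ_ne_zero i')]
      · simp only [Fin.cons_succ]
        have h1' : B (e' i' : V) (f' j' : V) = if i' = j' then 1 else 0 := h1 i' j'
        rw [h1']
        simp only [Fin.succ_inj]
    · intro i j
      refine Fin.cases ?_ (fun i' => ?_) i <;> refine Fin.cases ?_ (fun j' => ?_) j
      · simp [hee]
      · simp only [Fin.cons_zero, Fin.cons_succ]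
        exact hWe _
      · simp only [Fin.cons_zero, Fin.cons_succ]
        exact hWe' _
      · simp only [Fin.cons_succ]
        exact (h2 i' j' : B (e' i' : V) (e' j' : V) = 0)
    · intro i j
      refine Fin.cases ?_ (fun i' => ?_) i <;> refine Fin.cases ?_ (fun j' => ?_) j
      · simp [hff]
      · simp only [Fin.cons_zero, Fin.cons_succ]
        exact hWf _
      · simp only [Fin.cons_zero, Fin.cons_succ]
        exact hWf' _
      · simp only [Fin.cons_succ]
        exact (h3 i' j' : B (f' i' : V) (f' j' : V) = 0)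
    · intro j w
      -- decompose w
      set x : V := w - (B w f0) • e0 + (B w e0) • f0 with hx
      have hxW : x ∈ W := by
        rw [hWmem]
        constructor
        · rw [hx, map_add, map_sub, map_smul, map_smul, hee, hef, smul_eq_mul, smul_eq_mul,
            mul_zero, mul_one, sub_zero, ← hA.neg_eq w e0]
          ring
        · rw [hx, map_add, map_sub, map_smul, map_smul, hfe, hff, smul_eq_mul, smul_eq_mul,
            mul_zero, add_zero, ← hA.neg_eq w f0]
          ring
      have hw : w = x + (B w f0) • e0 - (B w e0) • f0 := by rw [hx]; abel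
      have h7 : B (r' j : V) x = 0 := h4 j ⟨x, hxW⟩
      show B (r' j : V) w = 0
      rw [hw, map_sub, map_add, map_smul, map_smul, h7, hWe', hWf']
      simp
    · exact h5.map' W.subtype (Submodule.ker_subtype W)
    · omega
  · push Not at hex
    refine ⟨0, Module.finrank F V, Fin.elim0, Fin.elim0, Module.finBasis F V, ?_, ?_, ?_, ?_,
      ?_, ?_⟩
    · intro i; exact i.elim0
    · intro i; exact i.elim0
    · intro i; exact i.elim0
    · intro j w; exact hex _ _
    · exact (Module.finBasis F V).linearIndependent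
    · omega

/-- Classification of alternating forms: for an alternating bilinear form B on a finite-dimensional space over any field there is a basis indexed by (Fin m ⊕ Fin m) ⊕ Fin k such that B (e_i, f_j) = δ_ij, the e's are pairwise orthogonal, the f's are pairwise orthogonal, and the last k basis vectors are orthogonal to everything (they span the radical). -/
theorem result {F V : Type*} [Field F] [AddCommGroup V] [Module F V] [FiniteDimensional F V] (B : LinearMap.BilinForm F V) (hA : B.IsAlt) : ∃ (m k : ℕ) (b : Module.Basis ((Fin m ⊕ Fin m) ⊕ Fin k) F V), (∀ i j : Fin m, B (b (Sum.inl (Sum.inl i))) (b (Sum.inl (Sum.inr j))) = if i = j then 1 else 0) ∧ (∀ i j : Fin m, B (b (Sum.inl (Sum.inl i))) (b (Sum.inl (Sum.inl j))) = 0) ∧ (∀ i j : Fin m, B (b (Sum.inl (Sum.inr i))) (b (Sum.inl (Sum.inr j))) = 0) ∧ (∀ (j : Fin k) (v : V), B (b (Sum.inr j)) v = 0) := by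
  classical
  obtain ⟨m, k, e, f, r, h1, h2, h3, h4, h5, h6⟩ := aux (Module.finrank F V) V B hA rfl
  set g : (Fin m ⊕ Fin m) ⊕ Fin k → V := Sum.elim (Sum.elim e f) r with hg
  have hr0 : ∀ (j : Fin k) (w : V), B w (r j) = 0 := fun j w => by
    rw [← hA.neg_eq, h4, neg_zero]
  have hfe : ∀ i j : Fin m, B (f i) (e j) = if j = i then -1 else 0 := by
    intro i j
    rw [← hA.neg_eq, h1]
    split_ifs <;> simp
  have hlin : LinearIndependent F g := by
    rw [Fintype.linearIndependent_iff]
    intro c hc
    rw [Fintype.sum_sum_type, Fintype.sum_sum_type] at hc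
    simp only [hg, Sum.elim_inl, Sum.elim_inr] at hc
    have hce : ∀ i0 : Fin m, c (Sum.inl (Sum.inl i0)) = 0 := by
      intro i0
      have h7 := congrArg (fun x => B x (f i0)) hc
      simp only [map_add, LinearMap.add_apply, map_sum, LinearMap.sum_apply, map_smul,
        LinearMap.smul_apply, h1, h3, h4, smul_eq_mul, mul_zero, Finset.sum_const_zero,
        add_zero, map_zero, LinearMap.zero_apply, mul_ite, mul_one, Finset.sum_ite_eq',
        Finset.mem_univ, if_true] at h7
      exact h7
    have hcf : ∀ i0 : Fin m, c (Sum.inl (Sum.inr i0)) = 0 := by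
      intro i0
      have h7 := congrArg (fun x => B (e i0) x) hc
      simp only [map_add, map_sum, map_smul, h1, h2, hr0, smul_eq_mul, mul_zero,
        Finset.sum_const_zero, add_zero, zero_add, map_zero, mul_ite, mul_one,
        Finset.sum_ite_eq, Finset.mem_univ, if_true] at h7
      exact h7
    have hcr : ∀ j0 : Fin k, c (Sum.inr j0) = 0 := by
      simp only [hce, hcf, zero_smul, Finset.sum_const_zero, zero_add] at hc
      exact (Fintype.linearIndependent_iff.mp h5) (fun j => c (Sum.inr j)) hc
    rintro ((i | i) | j)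
    · exact hce i
    · exact hcf i
    · exact hcr j
  have hcard : Fintype.card ((Fin m ⊕ Fin m) ⊕ Fin k) = Module.finrank F V := by
    rw [Fintype.card_sum, Fintype.card_sum, Fintype.card_fin, Fintype.card_fin]
    omega
  refine ⟨m, k, basisOfLinearIndependentOfCardEqFinrank' g hlin hcard, ?_, ?_, ?_, ?_⟩
  all_goals rw [coe_basisOfLinearIndependentOfCardEqFinrank']
  · intro i j; exact h1 i j
  · intro i j; exact h2 i j
  · intro i j; exact h3 i j
  · intro j w; exact h4 j w

end Cfsg.Agent.S0752
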