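import Mathlib
import Cfsg.Statements.S2616
import Cfsg.Agent.Lib.Helper5.QF

set_option autoImplicit false
open Cfsg

namespace Cfsg.Agent.S2616

open Cfsg.Agent.Lib.Helper5 QuadraticMap

theorem result {F V : Type*} [Field F] [Finite F] [AddCommGroup V] [Module F V] [FiniteDimensional F V] {m : ℕ} (hm : 1 ≤ m) (hV : Module.finrank F V = 2 * m) (Q : QuadraticForm F V) (hQ : (QuadraticMap.polarBilin Q).Nondegenerate) : (∃ b : Module.Basis (Fin m ⊕ Fin m) F V, (∀ i, Q (b (Sum.inl i)) = 0 ∧ Q (b (Sum.inr i)) = 0) ∧ (∀ i j, QuadraticMap.polar ⇑Q (b (Sum.inl i)) (b (Sum.inr j)) = if i = j then 1 else 0) ∧ (∀ i j, QuadraticMap.polar ⇑Q (b (Sum.inl i)) (b (Sum.inl j)) = 0 ∧ QuadraticMap.polar ⇑Q (b (Sum.inr i)) (b (Sum.inr j)) = 0)) ∨ (∃ (b : Module.Basis ((Fin (m - 1) ⊕ Fin (m - 1)) ⊕ Fin 2) F V) (ζ : F), (∀ t : F, t ^ 2 + t + ζ ≠ 0) ∧ (∀ i, Q (b (Sum.inl (Sum.inl i))) = 0 ∧ Q (b (Sum.inl (Sum.inr i))) = 0) ∧ (∀ i j, QuadraticMap.polar ⇑Q (b (Sum.inl (Sum.inl i)))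 (b (Sum.inl (Sum.inr j))) = if i = j then 1 else 0) ∧ (∀ i j, QuadraticMap.polar ⇑Q (b (Sum.inl (Sum.inl i))) (b (Sum.inl (Sum.inl j))) = 0 ∧ QuadraticMap.polar ⇑Q (b (Sum.inl (Sum.inr i))) (b (Sum.inl (Sum.inr j))) = 0) ∧ (∀ i (k : Fin 2), QuadraticMap.polar ⇑Q (b (Sum.inl (Sum.inl i))) (b (Sum.inr k)) = 0 ∧ QuadraticMap.polar ⇑Q (b (Sum.inl (Sum.inr i))) (b (Sum.inr k)) = 0) ∧ Q (b (Sum.inr 0)) = 1 ∧ QuadraticMap.polar ⇑Q (b (Sum.inr 0)) (b (Sum.inr 1)) = 1 ∧ Q (b (Sum.inr 1)) = ζ) := by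
  classical
  obtain ⟨k, e, f, H, han⟩ := exists_maximal_hypFam hQ
  have hdim := finrank_perp H
  have hle := finrank_le_two_of_anisotropic Q (perp Q e f) han
  have hnd := perp_nondeg hQ H
  rcases (show Module.finrank F (perp Q e f) = 0 ∨ Module.finrank F (perp Q e f) = 2 by omega)
    with h0 | h2
  · left
    obtain rfl : k = m := by omega
    obtain ⟨b, hb⟩ := exists_basis_of_dual Q (Sum.elim e f) (Sum.elim f e) (hyp_dual H)
      (by rw [Fintype.card_sum, Fintype.card_fin]; omega)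
    refine ⟨b, ?_, ?_, ?_⟩
    · intro i
      rw [hb, hb]
      exact ⟨H.e_sing i, H.f_sing i⟩
    · intro i j
      rw [hb, hb]
      exact H.ef i j
    · intro i j
      rw [hb, hb, hb, hb]
      exact ⟨H.ee i j, H.ff i j⟩
  · right
    obtain rfl : k = m - 1 := by omega
    obtain ⟨x, hxW, y, hyW, hQx, hxy, hirr⟩ := exists_elliptic_pair Q _ han h2 hnd
    set ζ := Q y with hζ
    have hD : 4 * ζ - 1 ≠ 0 := by
      intro hcon
      have h4 : (4 : F) ≠ 0 := by
        intro h4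
        rw [h4] at hcon
        simp at hcon
      have h2' : (2 : F) ≠ 0 := by
        intro h
        apply h4
        linear_combination 2 * h
      apply hirr (-(2⁻¹))
      have ht2 : 2 * (-(2⁻¹ : F)) + 1 = 0 := by
        field_simp
        ring
      apply mul_left_cancel₀ h4
      linear_combination (2 * (-(2⁻¹ : F)) + 1) * ht2 + hcon
    have hxx : polar Q x x = 2 := by
      rw [polar_self, hQx]; simp
    have hyy : polar Q y y = 2 * ζ := by
      rw [polar_self, ← hζ]; simp [two_mul]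
    have hyx : polar Q y x = 1 := by rw [polar_comm]; exact hxy
    set x' : V := (4 * ζ - 1)⁻¹ • ((2 * ζ) • x - y) with hx'
    set y' : V := (4 * ζ - 1)⁻¹ • ((2 : F) • y - x) with hy'
    have hx'W : x' ∈ perp Q e f :=
      Submodule.smul_mem _ _ (Submodule.sub_mem _ (Submodule.smul_mem _ _ hxW) hyW)
    have hy'W : y' ∈ perp Q e f :=
      Submodule.smul_mem _ _ (Submodule.sub_mem _ (Submodule.smul_mem _ _ hyW) hxW)
    have h00 : polar Q x' x = 1 := by
      rw [hx', polar_smul_left, polar_sub_left, polar_smul_left, hxx, hyx, smul_eq_mul, smul_eq_mul]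
      field_simp
      ring
    have h01 : polar Q x' y = 0 := by
      rw [hx', polar_smul_left, polar_sub_left, polar_smul_left, hxy, hyy, smul_eq_mul, smul_eq_mul]
      ring
    have h10 : polar Q y' x = 0 := by
      rw [hy', polar_smul_left, polar_sub_left, polar_smul_left, hxx, hyx, smul_eq_mul, smul_eq_mul]
      ring
    have h11 : polar Q y' y = 1 := by
      rw [hy', polar_smul_left, polar_sub_left, polar_smul_left, hxy, hyy, smul_eq_mul, smul_eq_mul]
      field_simp
      ring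
    have hpq : ∀ i j : Fin 2, polar Q ((![x', y'] : Fin 2 → V) j) ((![x, y] : Fin 2 → V) i)
        = if i = j then 1 else 0 := by
      intro i j
      fin_cases i <;> fin_cases j
      · simpa using h00
      · simpa using h10
      · simpa using h01
      · simpa using h11
    have hp : ∀ i : Fin 2, (![x, y] : Fin 2 → V) i ∈ perp Q e f := by
      intro i
      fin_cases i
      · simpa using hxW
      · simpa using hyW
    have hq : ∀ i : Fin 2, (![x', y'] : Fin 2 → V) i ∈ perp Q e f := by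
      intro i
      fin_cases i
      · simpa using hx'W
      · simpa using hy'W
    obtain ⟨b, hb⟩ := exists_basis_of_dual Q (Sum.elim (Sum.elim e f) ![x, y])
      (Sum.elim (Sum.elim f e) ![x', y']) (hyp_dual_ext H _ _ hp hq hpq)
      (by simp only [Fintype.card_sum, Fintype.card_fin]; omega)
    refine ⟨b, ζ, hirr, ?_, ?_, ?_, ?_, ?_, ?_, ?_⟩
    · intro i
      rw [hb, hb]
      exact ⟨H.e_sing i, H.f_sing i⟩
    · intro i j
      rw [hb, hb]
      exact H.ef i j
    · intro i j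
      rw [hb, hb, hb, hb]
      exact ⟨H.ee i j, H.ff i j⟩
    · intro i k
      rw [hb, hb, hb]
      exact ⟨(hp k i).1, (hp k i).2⟩
    · rw [hb]
      exact hQx
    · rw [hb, hb]
      exact hxy
    · rw [hb]
      rfl

end Cfsg.Agent.S2616
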