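import Cfsg.Statements.S0683
import Mathlib
import Cfsg.Agent.Lib.Helper1.SharpTwoNF

set_option autoImplicit false
open Cfsg

namespace Cfsg.Agent.S0683


open Cfsg.Agent.Lib.Helper1.SharpTwoNF


/-- A finite sharply doubly transitive permutation group is the affine group of a near-field: the permuted set carries a near-field structure for which the group consists exactly of the maps `x ↦ x * a + b` with `a ≠ 0`. -/
theorem result {α : Type*} [Fintype α] [DecidableEq α] (H : Subgroup (Equiv.Perm α)) [MulAction.IsMultiplyPretransitive H α 2] (hsharp : ∀ x : Fin 2 ↪ α, MulAction.stabilizer H x = ⊥) (h2 : 2 ≤ Fintype.card α) : ∃ _ : Cfsg.NearField α, ∀ σ : Equiv.Perm α, σ ∈ H ↔ ∃ a b : α, a ≠ 0 ∧ ∀ x : α, σ x = x * a + b := by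
  classical
  have hS := s2t_of H hsharp
  obtain ⟨K, hKH, hKn, hKs, hKt⟩ := exists_regular_normal H hsharp h2
  obtain ⟨o, e, hoe⟩ := Fintype.exists_pair_of_one_lt_card (by omega : 1 < Fintype.card α)
  -- translations
  have hk : ∀ b : α, ∃ g, g ∈ K ∧ g o = b := fun b => by
    obtain ⟨g, hg, h⟩ := hKt o b; exact ⟨g, hg, h⟩
  choose k hkK hko using hk
  have hkuniq : ∀ (b : α) (g : Equiv.Perm α), g ∈ K → g o = b → g = k b := by
    intro b g hg hgo
    have h1 : ((k b)⁻¹ * g) o = o := by
      rw [Equiv.Perm.mul_apply, hgo, Equiv.Perm.inv_eq_iff_eq, hko]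
    have h2 := hKs _ (K.mul_mem (K.inv_mem (hkK b)) hg) o h1
    calc g = k b * ((k b)⁻¹ * g) := by group
      _ = k b := by rw [h2, mul_one]
  have hk0 : k o = 1 := (hkuniq o 1 K.one_mem rfl).symm
  have hkmul : ∀ y z : α, k (k z y) = k z * k y := by
    intro y z
    symm
    apply hkuniq _ _ (K.mul_mem (hkK z) (hkK y))
    rw [Equiv.Perm.mul_apply, hko]
  -- dilations
  have hh' : ∀ a : α, ∃ g, g ∈ H ∧ g o = o ∧ (a ≠ o → g e = a) := by
    intro a
    by_cases ha : a = o
    · exact ⟨1, H.one_mem, rfl, fun h => absurd ha h⟩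
    · obtain ⟨g, hg, h1, h2⟩ := hS.trans o e o a hoe (Ne.symm ha)
      exact ⟨g, hg, h1, fun _ => h2⟩
  choose hh hhH hho hhe using hh'
  have hhuniq : ∀ (a : α) (g : Equiv.Perm α), a ≠ o → g ∈ H → g o = o → g e = a → g = hh a := by
    intro a g ha hg hgo hge
    have h1 : ((hh a)⁻¹ * g) o = o := by
      rw [Equiv.Perm.mul_apply, hgo, Equiv.Perm.inv_eq_iff_eq, hho]
    have h2 : ((hh a)⁻¹ * g) e = e := by
      rw [Equiv.Perm.mul_apply, hge, Equiv.Perm.inv_eq_iff_eq, hhe a ha]
    have h3 := hS.sharp _ (H.mul_mem (H.inv_mem (hhH a)) hg) o e hoe h1 h2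
    calc g = hh a * ((hh a)⁻¹ * g) := by group
      _ = hh a := by rw [h3, mul_one]
  have hhe1 : hh e = 1 := (hhuniq e 1 (Ne.symm hoe) H.one_mem rfl rfl).symm
  have hhne : ∀ a b : α, a ≠ o → hh b a ≠ o := by
    intro a b ha h
    apply ha
    have : hh b a = hh b o := by rw [h, hho]
    exact (hh b).injective this
  have hhmul : ∀ a b : α, a ≠ o → b ≠ o → hh (hh b a) = hh b * hh a := by
    intro a b ha hb
    symm
    apply hhuniq _ _ (hhne a b ha) (H.mul_mem (hhH b) (hhH a))
    · rw [Equiv.Perm.mul_apply, hho, hho]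
    · rw [Equiv.Perm.mul_apply, hhe a ha]
  have hconj : ∀ b c : α, hh c * k b * (hh c)⁻¹ = k (hh c b) := by
    intro b c
    apply hkuniq _ _ (hKn _ (hhH c) _ (hkK b))
    rw [Equiv.Perm.mul_apply, Equiv.Perm.mul_apply]
    have : (hh c)⁻¹ o = o := by rw [Equiv.Perm.inv_eq_iff_eq, hho]
    rw [this, hko]
  letI iadd : Add α := ⟨fun x y => k y x⟩
  letI izero : Zero α := ⟨o⟩
  letI ineg : Neg α := ⟨fun x => (k x)⁻¹ o⟩
  let AG : AddGroup α := AddGroup.ofLeftAxioms
    (by
      intro x y z
      show k z (k y x) = k (k z y) x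
      rw [hkmul, Equiv.Perm.mul_apply])
    (by
      intro y
      show k y o = y
      exact hko y)
    (by
      intro x
      show k x ((k x)⁻¹ o) = o
      simp)
  letI imul : Mul α := ⟨fun x a => if a = o then o else hh a x⟩
  letI ione : One α := ⟨e⟩
  let MN : Monoid α :=
    { mul := fun x a => if a = o then o else hh a x
      npow := npowRec
      npow_zero := fun _ => rfl
      npow_succ := fun _ _ => rfl
      mul_assoc := by
        intro x a b
        show (if b = o then o else hh b (if a = o then o else hh a x)) =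
          (if (if b = o then o else hh b a) = o then o else hh (if b = o then o else hh b a) x)
        by_cases hb : b = o
        · simp [hb]
        · by_cases ha : a = o
          · simp [hb, ha, hho]
          · simp only [if_neg hb, if_neg ha, if_neg (hhne a b ha)]
            rw [hhmul a b ha hb, Equiv.Perm.mul_apply]
      one := e
      one_mul := by
        intro a
        show (if a = o then o else hh a e) = a
        by_cases ha : a = o
        · simp [ha]
        · rw [if_neg ha, hhe a ha]
      mul_one := by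
        intro x
        show (if e = o then o else hh e x) = x
        rw [if_neg (Ne.symm hoe), hhe1]; rfl }
  refine ⟨{ toAddGroup := AG
            toMonoid := MN
            right_distrib := ?_
            mul_zero := ?_
            zero_ne_one := ?_
            exists_inv := ?_ }, ?_⟩
  · intro a b c
    show (if c = o then o else hh c (k b a)) =
      k (if c = o then o else hh c b) (if c = o then o else hh c a)
    by_cases hc : c = o
    · simp [hc, hk0]
    · simp only [if_neg hc]
      rw [← hconj]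
      simp
  · intro a
    show (if o = o then o else hh o a) = o
    simp
  · exact hoe
  · intro a ha
    have ha' : a ≠ o := ha
    have hb : (hh a)⁻¹ e ≠ o := by
      intro h
      rw [Equiv.Perm.inv_eq_iff_eq, hho] at h
      exact hoe h.symm
    have hhb : hh ((hh a)⁻¹ e) = (hh a)⁻¹ := by
      symm
      apply hhuniq _ _ hb (H.inv_mem (hhH a))
      · rw [Equiv.Perm.inv_eq_iff_eq, hho]
      · rfl
    refine ⟨(hh a)⁻¹ e, ?_, ?_⟩
    · show (if (hh a)⁻¹ e = o then o else hh ((hh a)⁻¹ e) a) = e
      rw [if_neg hb, hhb, Equiv.Perm.inv_eq_iff_eq, hhe a ha']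
    · show (if a = o then o else hh a ((hh a)⁻¹ e)) = e
      rw [if_neg ha']
      simp
  · intro σ
    show σ ∈ H ↔ ∃ a b : α, a ≠ o ∧ ∀ x : α, σ x = k b (if a = o then o else hh a x)
    constructor
    · intro hσ
      have hτ : (k (σ o))⁻¹ * σ ∈ H := H.mul_mem (H.inv_mem (hKH (hkK _))) hσ
      have hτo : ((k (σ o))⁻¹ * σ) o = o := by
        rw [Equiv.Perm.mul_apply, Equiv.Perm.inv_eq_iff_eq, hko]
      have hτe : ((k (σ o))⁻¹ * σ) e ≠ o := by
        intro h
        have h' : ((k (σ o))⁻¹ * σ) e = ((k (σ o))⁻¹ * σ) o := h.trans hτo.symm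
        exact hoe ((Equiv.injective _ h').symm)
      have hτeq := hhuniq _ _ hτe hτ hτo rfl
      refine ⟨((k (σ o))⁻¹ * σ) e, σ o, hτe, fun x => ?_⟩
      rw [if_neg hτe, ← hτeq]
      simp
    · rintro ⟨a, b, ha, hσ⟩
      have : σ = k b * hh a := by
        ext x
        rw [hσ x, if_neg ha]; rfl
      rw [this]
      exact H.mul_mem (hKH (hkK b)) (hhH a)

end Cfsg.Agent.S0683
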