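import Mathlib
import Cfsg.Statements.S0495
import Cfsg.Agent.Lib.Helper1.SmallSimple
import Cfsg.Agent.Lib.Helper1.SimpleAct
import Cfsg.Agent.Lib.Helper7.Syl15Base
import Cfsg.Agent.Lib.Helper1.PSL2Small
import Cfsg.Agent.Lib.Helper7.SylCyc
import Cfsg.Agent.Lib.Helper7.Syl21Gen

set_option autoImplicit false
open Cfsg

namespace Cfsg.Agent.S0495

/-! ## Concrete permutations of the projective line over `Fin 7` -/

abbrev Pt := Option (Fin 7)

def Uperm : Equiv.Perm Pt := Equiv.optionCongr (Equiv.addRight (1 : Fin 7))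

def mul2 : Equiv.Perm (Fin 7) := ⟨fun x => 2 * x, fun x => 4 * x, by decide, by decide⟩

def Hperm : Equiv.Perm Pt := Equiv.optionCongr mul2

def Hi : Pt → Pt := Option.map (fun x => 4 * x)

def Tfun (v : Fin 7 → Pt) : Pt → Pt := fun o =>
  match o with
  | none => some 0
  | some x => v x

def T6v : Fin 7 → Pt := ![none, some 6, some 3, some 2, some 5, some 4, some 1]
def T3v : Fin 7 → Pt := ![none, some 3, some 5, some 1, some 6, some 2, some 4]
def T5v : Fin 7 → Pt := ![none, some 5, some 6, some 4, some 3, some 1, some 2]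

def T6 : Equiv.Perm Pt := ⟨Tfun T6v, Tfun T6v, by decide, by decide⟩
def T3 : Equiv.Perm Pt := ⟨Tfun T3v, Tfun T3v, by decide, by decide⟩
def T5 : Equiv.Perm Pt := ⟨Tfun T5v, Tfun T5v, by decide, by decide⟩

theorem T3_eq : T3 = Hperm * T6 * Hperm⁻¹ := by
  apply Equiv.ext
  decide

theorem T5_eq : T5 = Hperm * Hperm * T6 * (Hperm * Hperm)⁻¹ := by
  apply Equiv.ext
  decide

def Fab (a b : Pt) : Pt → Pt := Tfun ![none, a, Hi a, b, Hi (Hi a), Hi (Hi b), Hi b]

theorem Fab_cases : ∀ a b : Pt, (∀ o, Fab a b (Fab a b o) = o) → (∀ o, Fab a b o ≠ o) →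
    Fab a b = Tfun T3v ∨ Fab a b = Tfun T5v ∨ Fab a b = Tfun T6v := by
  decide

theorem Hperm_inv_apply (o : Pt) : Hperm⁻¹ o = Hi o := by
  cases o <;> rfl

theorem Hperm_fix : ∀ o : Pt, Hperm o = o → o = none ∨ o = some 0 := by
  decide

theorem lemmaD (π : Equiv.Perm Pt) (h0 : π none = some 0) (h2 : π * π = 1)
    (hrel : π * Hperm * π⁻¹ = Hperm⁻¹) (hfpf : ∀ o, π o ≠ o) :
    π = T3 ∨ π = T5 ∨ π = T6 := by
  have hrel' : ∀ x, π (Hperm x) = Hi (π x) := by
    intro x
    have h := mul_inv_eq_iff_eq_mul.1 hrel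
    have h' := DFunLike.congr_fun h x
    rw [Equiv.Perm.mul_apply, Equiv.Perm.mul_apply, Hperm_inv_apply] at h'
    exact h'
  have hinv : ∀ x, π (π x) = x := by
    intro x
    have h' := DFunLike.congr_fun h2 x
    rw [Equiv.Perm.mul_apply] at h'
    exact h'
  have h00 : π (some 0) = none := by
    have := hinv none
    rw [h0] at this
    exact this
  have e2 : π (some 2) = Hi (π (some 1)) := hrel' (some 1)
  have e4 : π (some 4) = Hi (Hi (π (some 1))) := by
    have := hrel' (some 2)
    rw [e2] at this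
    exact this
  have e6 : π (some 6) = Hi (π (some 3)) := hrel' (some 3)
  have e5 : π (some 5) = Hi (Hi (π (some 3))) := by
    have := hrel' (some 6)
    rw [e6] at this
    exact this
  have hF : ⇑π = Fab (π (some 1)) (π (some 3)) := by
    funext o
    match o with
    | none => exact h0
    | some x =>
      fin_cases x
      · exact h00
      · rfl
      · exact e2
      · rfl
      · exact e4
      · exact e5
      · exact e6
  have hc := Fab_cases (π (some 1)) (π (some 3))
    (by intro o; rw [← hF]; exact hinv o) (by intro o; rw [← hF]; exact hfpf o)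
  rcases hc with h | h | h
  · left
    apply Equiv.ext
    intro o
    rw [hF, h]; rfl
  · right; left
    apply Equiv.ext
    intro o
    rw [hF, h]; rfl
  · right; right
    apply Equiv.ext
    intro o
    rw [hF, h]; rfl

/-! ## Labelling -/

section labelling

variable {G X : Type*} [Group G] [MulAction G X]

/-- the labelling map -/
def Emap (u : G) (p q : X) : Pt → X := fun o =>
  match o with
  | none => p
  | some i => u ^ (i : ℕ) • q

theorem Emap_bij [Fintype X] (hX : Fintype.card X = 8) {u : G} {p q : X} (hup : u • p = p)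
    (hqp : q ≠ p) (hfree : ∀ i : ℕ, 0 < i → i < 7 → u ^ i • q ≠ q) :
    Function.Bijective (Emap u p q) := by
  have hupow : ∀ i : ℕ, u ^ i • p = p := by
    intro i
    induction i with
    | zero => simp
    | succ n ih => rw [pow_succ, mul_smul, hup, ih]
  have key : ∀ i j : ℕ, i < j → j < 7 → u ^ i • q ≠ u ^ j • q := by
    intro i j hij hj h
    have e : u ^ j = u ^ i * u ^ (j - i) := by
      rw [← pow_add]; congr 1; omega
    rw [e, mul_smul] at h
    have h' := smul_left_cancel _ h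
    exact hfree (j - i) (by omega) (by omega) h'.symm
  have hinj : Function.Injective (Emap u p q) := by
    intro o1 o2 h
    match o1, o2 with
    | none, none => rfl
    | none, some j =>
      exfalso
      apply hqp
      have h1 : p = u ^ (j : ℕ) • q := h
      have h2 : u ^ (j : ℕ) • q = u ^ (j : ℕ) • p := by rw [hupow]; exact h1.symm
      exact smul_left_cancel _ h2
    | some i, none =>
      exfalso
      apply hqp
      have h1 : u ^ (i : ℕ) • q = p := h
      have h2 : u ^ (i : ℕ) • q = u ^ (i : ℕ) • p := by rw [hupow]; exact h1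
      exact smul_left_cancel _ h2
    | some i, some j =>
      have h1 : u ^ (i : ℕ) • q = u ^ (j : ℕ) • q := h
      congr 1
      apply Fin.ext
      rcases lt_trichotomy (i : ℕ) (j : ℕ) with hlt | heq | hgt
      · exact absurd h1 (key _ _ hlt j.2)
      · exact heq
      · exact absurd h1.symm (key _ _ hgt i.2)
  rw [Fintype.bijective_iff_injective_and_card]
  refine ⟨hinj, ?_⟩
  rw [hX]
  rfl

/-- transport of the action to `Pt` -/
noncomputable def psi (Eq : Pt ≃ X) : G →* Equiv.Perm Pt where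
  toFun g := (Eq.trans (MulAction.toPerm g)).trans Eq.symm
  map_one' := by
    apply Equiv.ext
    intro o
    simp
  map_mul' g g' := by
    apply Equiv.ext
    intro o
    simp [mul_smul]

theorem psi_apply (Eq : Pt ≃ X) (g : G) (o : Pt) : psi Eq g o = Eq.symm (g • Eq o) := rfl

theorem psi_injective (Eq : Pt ≃ X) (hfaith : ∀ g : G, (∀ x : X, g • x = x) → g = 1) :
    Function.Injective (psi (G := G) Eq) := by
  rw [injective_iff_map_eq_one]
  intro g hg
  apply hfaith
  intro x
  have h := DFunLike.congr_fun hg (Eq.symm x)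
  rw [psi_apply, Equiv.apply_symm_apply, Equiv.Perm.one_apply] at h
  exact Eq.symm.injective h

theorem label_u (Eq : Pt ≃ X) {u : G} {p q : X} (hEq : ∀ o, Eq o = Emap u p q o)
    (hu7 : u ^ 7 = 1) (hup : u • p = p) : psi Eq u = Uperm := by
  apply Equiv.ext
  intro o
  rw [psi_apply, Equiv.symm_apply_eq, hEq, hEq]
  match o with
  | none => exact hup
  | some i =>
    show u • (u ^ (i : ℕ) • q) = u ^ ((i + 1 : Fin 7) : ℕ) • q
    rw [← mul_smul, ← pow_succ', Fin.val_add, Fin.val_one, ← pow_eq_pow_mod _ hu7]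

theorem label_h (Eq : Pt ≃ X) {u h : G} {p q : X} (hEq : ∀ o, Eq o = Emap u p q o)
    (hu7 : u ^ 7 = 1) (hhp : h • p = p) (hhq : h • q = q) (hhu : h * u * h⁻¹ = u ^ 2) :
    psi Eq h = Hperm := by
  apply Equiv.ext
  intro o
  rw [psi_apply, Equiv.symm_apply_eq, hEq, hEq]
  match o with
  | none => exact hhp
  | some i =>
    show h • (u ^ (i : ℕ) • q) = u ^ ((2 * i : Fin 7) : ℕ) • q
    have e : h * u ^ (i : ℕ) = (u ^ 2) ^ (i : ℕ) * h := by
      rw [← hhu, conj_pow, inv_mul_cancel_right]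
    rw [← mul_smul, e, mul_smul, hhq, ← pow_mul, Fin.val_mul, Fin.val_two, ← pow_eq_pow_mod _ hu7]

end labelling

/-! ## closures -/

theorem closure_T3 : Subgroup.closure ({Uperm, Hperm, T3} : Set (Equiv.Perm Pt))
    = Subgroup.closure ({Uperm, Hperm, T6} : Set (Equiv.Perm Pt)) := by
  apply le_antisymm
  · rw [Subgroup.closure_le]
    intro x hx
    simp only [Set.mem_insert_iff, Set.mem_singleton_iff] at hx
    have hH : Hperm ∈ Subgroup.closure ({Uperm, Hperm, T6} : Set (Equiv.Perm Pt)) :=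
      Subgroup.subset_closure (by simp)
    have hT : T6 ∈ Subgroup.closure ({Uperm, Hperm, T6} : Set (Equiv.Perm Pt)) :=
      Subgroup.subset_closure (by simp)
    rcases hx with rfl | rfl | rfl
    · exact Subgroup.subset_closure (by simp)
    · exact hH
    · rw [T3_eq]
      exact Subgroup.mul_mem _ (Subgroup.mul_mem _ hH hT) (Subgroup.inv_mem _ hH)
  · rw [Subgroup.closure_le]
    intro x hx
    simp only [Set.mem_insert_iff, Set.mem_singleton_iff] at hx
    have hH : Hperm ∈ Subgroup.closure ({Uperm, Hperm, T3} : Set (Equiv.Perm Pt)) :=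
      Subgroup.subset_closure (by simp)
    have hT : T3 ∈ Subgroup.closure ({Uperm, Hperm, T3} : Set (Equiv.Perm Pt)) :=
      Subgroup.subset_closure (by simp)
    rcases hx with rfl | rfl | rfl
    · exact Subgroup.subset_closure (by simp)
    · exact hH
    · have e : T6 = Hperm⁻¹ * T3 * Hperm := by rw [T3_eq]; group
      rw [e]
      exact Subgroup.mul_mem _ (Subgroup.mul_mem _ (Subgroup.inv_mem _ hH) hT) hH

theorem closure_T5 : Subgroup.closure ({Uperm, Hperm, T5} : Set (Equiv.Perm Pt))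
    = Subgroup.closure ({Uperm, Hperm, T6} : Set (Equiv.Perm Pt)) := by
  apply le_antisymm
  · rw [Subgroup.closure_le]
    intro x hx
    simp only [Set.mem_insert_iff, Set.mem_singleton_iff] at hx
    have hH : Hperm ∈ Subgroup.closure ({Uperm, Hperm, T6} : Set (Equiv.Perm Pt)) :=
      Subgroup.subset_closure (by simp)
    have hT : T6 ∈ Subgroup.closure ({Uperm, Hperm, T6} : Set (Equiv.Perm Pt)) :=
      Subgroup.subset_closure (by simp)
    rcases hx with rfl | rfl | rfl
    · exact Subgroup.subset_closure (by simp)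
    · exact hH
    · rw [T5_eq]
      exact Subgroup.mul_mem _ (Subgroup.mul_mem _ (Subgroup.mul_mem _ hH hH) hT)
        (Subgroup.inv_mem _ (Subgroup.mul_mem _ hH hH))
  · rw [Subgroup.closure_le]
    intro x hx
    simp only [Set.mem_insert_iff, Set.mem_singleton_iff] at hx
    have hH : Hperm ∈ Subgroup.closure ({Uperm, Hperm, T5} : Set (Equiv.Perm Pt)) :=
      Subgroup.subset_closure (by simp)
    have hT : T5 ∈ Subgroup.closure ({Uperm, Hperm, T5} : Set (Equiv.Perm Pt)) :=
      Subgroup.subset_closure (by simp)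
    rcases hx with rfl | rfl | rfl
    · exact Subgroup.subset_closure (by simp)
    · exact hH
    · have e : T6 = (Hperm * Hperm)⁻¹ * T5 * (Hperm * Hperm) := by rw [T5_eq]; group
      rw [e]
      exact Subgroup.mul_mem _ (Subgroup.mul_mem _ (Subgroup.inv_mem _ (Subgroup.mul_mem _ hH hH)) hT)
        (Subgroup.mul_mem _ hH hH)

/-! ## the group theory -/

section main

variable {G : Type*} [Group G] [Finite G] [IsSimpleGroup G]

instance fact7 : Fact (Nat.Prime 7) := ⟨by norm_num⟩
instance fact3 : Fact (Nat.Prime 3) := ⟨by norm_num⟩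

open Cfsg.Agent.Lib.Helper1 Cfsg.Agent.Lib.Helper7

theorem card_syl7 (hG : Nat.card G = 168) : Nat.card (Sylow 7 G) = 8 := by
  obtain ⟨P⟩ : Nonempty (Sylow 7 G) := inferInstance
  have hP : Nat.card (P : Subgroup G) = 7 :=
    Syl15.sylow_card_eq_prime (by rw [hG]; norm_num) (by rw [hG]; norm_num) P
  have h1 : Nat.card (Sylow 7 G) % 7 = 1 % 7 := card_sylow_modEq_one 7 G
  have h3 : Nat.card (Sylow 7 G) ≠ 1 :=
    card_sylow_ne_one_of_simple P
      (subgroup_ne_bot_of_card _ (by rw [hP]; norm_num))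
      (subgroup_ne_top_of_card _ (by rw [hP, hG]; norm_num))
  have h4 : Nat.card (Sylow 7 G) ∣ 24 := by
    have := Sylow.card_dvd_index P
    have hidx : (P : Subgroup G).index = 24 := by
      have := Subgroup.card_mul_index (P : Subgroup G)
      rw [hP, hG] at this
      omega
    rwa [hidx] at this
  have h5 : Nat.card (Sylow 7 G) ≤ 24 := Nat.le_of_dvd (by norm_num) h4
  generalize Nat.card (Sylow 7 G) = n at *
  interval_cases n <;> omega

end main

section main2

variable {G : Type*} [Group G] [Finite G] [IsSimpleGroup G]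

open Cfsg.Agent.Lib.Helper1 Cfsg.Agent.Lib.Helper7

set_option maxHeartbeats 1600000 in
theorem exists_iso (hG : Nat.card G = 168) :
    Nonempty (G ≃* (Subgroup.closure ({Uperm, Hperm, T6} : Set (Equiv.Perm Pt)))) := by
  classical
  letI : Fintype (Sylow 7 G) := Fintype.ofFinite _
  have hcardX : Fintype.card (Sylow 7 G) = 8 := by
    rw [← Nat.card_eq_fintype_card]; exact card_syl7 hG
  have hS7 : ∀ Q : Sylow 7 G, Nat.card (Q : Subgroup G) = 7 := fun Q =>
    Syl15.sylow_card_eq_prime (by rw [hG]; norm_num) (by rw [hG]; norm_num) Q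
  have hN21 : ∀ Q : Sylow 7 G,
      Nat.card (Subgroup.normalizer ((Q : Subgroup G) : Set G)) = 21 := by
    intro Q
    have := card_normalizer_mul_card_sylow Q
    rw [hG, card_syl7 hG] at this
    omega
  have hfix21 : ∀ (g : G) (Q : Sylow 7 G), g • Q = Q → g ^ 21 = 1 := by
    intro g Q hgQ
    have hmem : g ∈ Subgroup.normalizer ((Q : Subgroup G) : Set G) :=
      Sylow.smul_eq_iff_mem_normalizer.1 hgQ
    have := pow_card_eq_one' (G := Subgroup.normalizer ((Q : Subgroup G) : Set G)) (x := ⟨g, hmem⟩)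
    rw [hN21 Q] at this
    exact congrArg Subtype.val this
  obtain ⟨P⟩ : Nonempty (Sylow 7 G) := inferInstance
  obtain ⟨u, huP, hu1⟩ := SylCyc.exists_mem_ne_one_of_card_prime P (hS7 P)
  have hu7 : u ^ 7 = 1 := by
    have := pow_card_eq_one' (G := (P : Subgroup G)) (x := ⟨u, huP⟩)
    rw [hS7 P] at this
    exact congrArg Subtype.val this
  have horder : orderOf u = 7 := orderOf_eq_prime hu7 hu1
  have hzcard : ∀ g : G, orderOf g = 7 → ∀ Q : Sylow 7 G, g ∈ (Q : Subgroup G) →
      (Q : Subgroup G) = Subgroup.zpowers g := by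
    intro g hg Q hgQ
    symm
    apply Subgroup.eq_of_le_of_card_ge
    · rw [Subgroup.zpowers_le]; exact hgQ
    · rw [hS7 Q, Nat.card_zpowers, hg]
  have hPz := hzcard u horder P huP
  have hup : u • P = P := Sylow.smul_eq_iff_mem_normalizer.2 (Subgroup.le_normalizer huP)
  have hfree : ∀ Q : Sylow 7 G, Q ≠ P → ∀ i : ℕ, 0 < i → i < 7 → u ^ i • Q ≠ Q := by
    intro Q hQ i hi0 hi7 hfix
    have hg1 : u ^ i ≠ 1 := by
      intro h
      have := orderOf_dvd_of_pow_eq_one h
      rw [horder] at this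
      exact absurd (Nat.le_of_dvd hi0 this) (by omega)
    have hg7 : (u ^ i) ^ 7 = 1 := by rw [← pow_mul, mul_comm, pow_mul, hu7, one_pow]
    have hgo : orderOf (u ^ i) = 7 := orderOf_eq_prime hg7 hg1
    have hpg : IsPGroup 7 (Subgroup.zpowers (u ^ i)) := by
      apply IsPGroup.of_card (n := 1)
      rw [Nat.card_zpowers, hgo, pow_one]
    have hinf := hpg.inf_normalizer_sylow Q
    have hgQ : u ^ i ∈ (Q : Subgroup G) := by
      have h2 : u ^ i ∈ Subgroup.zpowers (u ^ i) ⊓ (Q : Subgroup G) := by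
        rw [← hinf]
        exact ⟨Subgroup.mem_zpowers _, Sylow.smul_eq_iff_mem_normalizer.1 hfix⟩
      exact h2.2
    apply hQ
    apply Sylow.ext
    rw [hzcard (u ^ i) hgo Q hgQ, hzcard (u ^ i) hgo P (Subgroup.pow_mem _ huP i)]
  -- an element of order 3 in N(P)
  obtain ⟨x0, hx0⟩ := exists_prime_orderOf_dvd_card'
    (G := Subgroup.normalizer ((P : Subgroup G) : Set G)) 3 (by rw [hN21 P]; norm_num)
  obtain ⟨h0, hh0⟩ : ∃ h0 : G, h0 = (x0 : G) := ⟨_, rfl⟩
  have hh0N : h0 ∈ Subgroup.normalizer ((P : Subgroup G) : Set G) := by rw [hh0]; exact x0.2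
  have hh0o : orderOf h0 = 3 := by rw [hh0, Subgroup.orderOf_coe]; exact hx0
  have hh03 : h0 ^ 3 = 1 := by rw [← hh0o]; exact pow_orderOf_eq_one h0
  have hh01 : h0 ≠ 1 := by
    intro h; rw [h, orderOf_one] at hh0o; norm_num at hh0o
  have hh0P : h0 • P = P := Sylow.smul_eq_iff_mem_normalizer.2 hh0N
  obtain ⟨Q0, hQ0fix, hQ0P⟩ : ∃ Q0 : Sylow 7 G, h0 • Q0 = Q0 ∧ Q0 ≠ P := by
    by_contra hcon
    have hall : ∀ Q : Sylow 7 G, h0 • Q = Q → Q = P := by
      intro Q hQ
      by_contra hne
      exact hcon ⟨Q, hQ, hne⟩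
    have hmod := Syl21.ncard_modEq_of_invariant (α := Sylow 7 G) (p := 3) h0
      ⟨1, by simpa using hh03⟩ Set.univ (fun _ _ => Set.mem_univ _)
    have hsub : (Set.univ ∩ {a : Sylow 7 G | h0 • a = a}) ⊆ {P} := by
      intro Q hQ
      exact hall Q hQ.2
    have hle : (Set.univ ∩ {a : Sylow 7 G | h0 • a = a}).ncard ≤ 1 := by
      calc _ ≤ ({P} : Set (Sylow 7 G)).ncard := Set.ncard_le_ncard hsub (Set.finite_singleton P)
        _ = 1 := Set.ncard_singleton P
    rw [Set.ncard_univ, card_syl7 hG] at hmod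
    unfold Nat.ModEq at hmod
    omega
  have hconjmem : h0 * u * h0⁻¹ ∈ (P : Subgroup G) :=
    ((Subgroup.mem_normalizer_iff.1 hh0N) u).1 huP
  obtain ⟨m, hm7, hm⟩ : ∃ m : ℕ, m < 7 ∧ h0 * u * h0⁻¹ = u ^ m := by
    rw [hPz, Subgroup.mem_zpowers_iff] at hconjmem
    obtain ⟨k, hk⟩ := hconjmem
    have h0' := Int.emod_nonneg k (by norm_num : (7:ℤ) ≠ 0)
    have h7' := Int.emod_lt_of_pos k (by norm_num : (0:ℤ) < 7)
    refine ⟨(k % 7).toNat, by omega, ?_⟩
    rw [← hk, ← zpow_natCast, Int.toNat_of_nonneg h0']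
    have := zpow_mod_orderOf u k
    rw [horder] at this
    exact this.symm
  have hconj_pow : ∀ j : ℕ, h0 * u ^ j * h0⁻¹ = u ^ (m * j) := by
    intro j
    rw [← conj_pow, hm, ← pow_mul]
  have hm3 : u = u ^ (m * (m * m)) := by
    have e1 : h0 * (h0 * (h0 * u * h0⁻¹) * h0⁻¹) * h0⁻¹ = u ^ (m * (m * m)) := by
      rw [hm, hconj_pow, hconj_pow]
    have e2 : h0 * (h0 * (h0 * u * h0⁻¹) * h0⁻¹) * h0⁻¹ = h0 ^ 3 * u * (h0 ^ 3)⁻¹ := by
      simp only [pow_succ, pow_zero, one_mul, mul_inv_rev, mul_assoc]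
    rw [e2, hh03] at e1
    simpa using e1
  have hmod3 : m * (m * m) % 7 = 1 % 7 := by
    have := (pow_eq_pow_iff_modEq (x := u) (n := 1) (m := m * (m * m))).1
      (by rw [pow_one]; exact hm3)
    rw [horder] at this
    exact this.symm
  have hm1 : m ≠ 1 := by
    rintro rfl
    rw [pow_one] at hm
    have hcomm : Commute h0 u := mul_inv_eq_iff_eq_mul.1 hm
    have hPC : (P : Subgroup G) ≤ Subgroup.centralizer ((P : Subgroup G) : Set G) := by
      intro x hx
      rw [Subgroup.mem_centralizer_iff]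
      intro y hy
      rw [SetLike.mem_coe, hPz, Subgroup.mem_zpowers_iff] at hy
      rw [hPz, Subgroup.mem_zpowers_iff] at hx
      obtain ⟨a, rfl⟩ := hx
      obtain ⟨b, rfl⟩ := hy
      exact zpow_mul_comm u b a
    have hh0C : h0 ∈ Subgroup.centralizer ((P : Subgroup G) : Set G) := by
      rw [Subgroup.mem_centralizer_iff]
      intro y hy
      rw [SetLike.mem_coe, hPz, Subgroup.mem_zpowers_iff] at hy
      obtain ⟨b, rfl⟩ := hy
      exact ((hcomm.zpow_right b).eq).symm
    have h7 : 7 ∣ Nat.card (Subgroup.centralizer ((P : Subgroup G) : Set G)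
        ⊓ Subgroup.normalizer ((P : Subgroup G) : Set G) : Subgroup G) := by
      have := Subgroup.card_dvd_of_le (le_inf hPC (Subgroup.le_normalizer) :
        (P : Subgroup G) ≤ Subgroup.centralizer ((P : Subgroup G) : Set G)
        ⊓ Subgroup.normalizer ((P : Subgroup G) : Set G))
      rwa [hS7 P] at this
    have h3 : 3 ∣ Nat.card (Subgroup.centralizer ((P : Subgroup G) : Set G)
        ⊓ Subgroup.normalizer ((P : Subgroup G) : Set G) : Subgroup G) := by
      have := orderOf_dvd_natCard (⟨h0, ⟨hh0C, hh0N⟩⟩ :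
        (Subgroup.centralizer ((P : Subgroup G) : Set G)
        ⊓ Subgroup.normalizer ((P : Subgroup G) : Set G) : Subgroup G))
      have e := Subgroup.orderOf_mk (H := (Subgroup.centralizer ((P : Subgroup G) : Set G)
        ⊓ Subgroup.normalizer ((P : Subgroup G) : Set G) : Subgroup G)) h0 ⟨hh0C, hh0N⟩
      rw [e, hh0o] at this
      exact this
    have h21 : 21 ∣ Nat.card (Subgroup.centralizer ((P : Subgroup G) : Set G)
        ⊓ Subgroup.normalizer ((P : Subgroup G) : Set G) : Subgroup G) := by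
      have := Nat.Coprime.mul_dvd_of_dvd_of_dvd (by norm_num : Nat.Coprime 3 7) h3 h7
      simpa using this
    have hle : Nat.card (Subgroup.normalizer ((P : Subgroup G) : Set G))
        ≤ Nat.card (Subgroup.centralizer ((P : Subgroup G) : Set G)
        ⊓ Subgroup.normalizer ((P : Subgroup G) : Set G) : Subgroup G) := by
      rw [hN21 P]
      exact Nat.le_of_dvd Nat.card_pos h21
    have heq := Subgroup.eq_of_le_of_card_ge (inf_le_right :
      Subgroup.centralizer ((P : Subgroup G) : Set G)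
        ⊓ Subgroup.normalizer ((P : Subgroup G) : Set G)
        ≤ Subgroup.normalizer ((P : Subgroup G) : Set G)) hle
    have hNC : Subgroup.normalizer ((P : Subgroup G) : Set G)
        ≤ Subgroup.centralizer ((P : Subgroup G) : Set G) := by
      rw [← heq]; exact inf_le_left
    have htop := sylow_eq_top_of_normalizer_le_centralizer P hNC
      (subgroup_ne_bot_of_card _ (by rw [hS7 P]; norm_num))
    have := hS7 P
    rw [htop, Subgroup.card_top, hG] at this
    norm_num at this
  obtain ⟨h, hh3, hh1, hhP, hhQ, hhu⟩ : ∃ h : G, h ^ 3 = 1 ∧ h ≠ 1 ∧ h • P = P ∧ h • Q0 = Q0 ∧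
      h * u * h⁻¹ = u ^ 2 := by
    have hm24 : m = 2 ∨ m = 4 := by
      interval_cases m <;> omega
    rcases hm24 with rfl | rfl
    · exact ⟨h0, hh03, hh01, hh0P, hQ0fix, hm⟩
    · refine ⟨h0 ^ 2, ?_, ?_, ?_, ?_, ?_⟩
      · rw [← pow_mul, mul_comm, pow_mul, hh03, one_pow]
      · intro h
        apply hh01
        calc h0 = h0 ^ 3 * (h0 ^ 2)⁻¹ := by group
          _ = 1 := by rw [hh03, h, inv_one, one_mul]
      · rw [pow_two, mul_smul, hh0P, hh0P]
      · rw [pow_two, mul_smul, hQ0fix, hQ0fix]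
      · have e : h0 ^ 2 * u * (h0 ^ 2)⁻¹ = h0 * (h0 * u * h0⁻¹) * h0⁻¹ := by
          simp only [pow_succ, pow_zero, one_mul, mul_inv_rev, mul_assoc]
        rw [e, hm, hconj_pow, pow_eq_pow_mod _ hu7]
  -- faithfulness
  have hfaith : ∀ g : G, (∀ Q : Sylow 7 G, g • Q = Q) → g = 1 := by
    intro g hg
    have hker : g ∈ (MulAction.toPermHom G (Sylow 7 G)).ker := by
      rw [MonoidHom.mem_ker]
      apply Equiv.ext
      intro Q
      exact hg Q
    rcases Subgroup.Normal.eq_bot_or_eq_top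
      (inferInstance : (MulAction.toPermHom G (Sylow 7 G)).ker.Normal) with hb | ht
    · rw [hb, Subgroup.mem_bot] at hker; exact hker
    · exfalso
      have hu : u ∈ (MulAction.toPermHom G (Sylow 7 G)).ker := by
        rw [ht]; exact Subgroup.mem_top u
      rw [MonoidHom.mem_ker] at hu
      have h1 : u • Q0 = Q0 := DFunLike.congr_fun hu Q0
      exact hfree Q0 hQ0P 1 (by norm_num) (by norm_num) (by rw [pow_one]; exact h1)
  -- labelling
  have hbij := Emap_bij hcardX hup hQ0P (hfree Q0 hQ0P)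
  obtain ⟨Eq, hEq⟩ : ∃ Eq : Pt ≃ Sylow 7 G, ∀ o, Eq o = Emap u P Q0 o :=
    ⟨Equiv.ofBijective _ hbij, fun o => rfl⟩
  have hψu := label_u Eq hEq hu7 hup
  have hψh := label_h Eq hEq hu7 hhP hhQ hhu
  have hψinj := psi_injective (G := G) Eq hfaith
  have hEnone : Eq none = P := by rw [hEq]; rfl
  have hE0 : Eq (some 0) = Q0 := by
    rw [hEq]
    show u ^ ((0 : Fin 7) : ℕ) • Q0 = Q0
    simp
  have hfixh : ∀ R : Sylow 7 G, h • R = R → R = P ∨ R = Q0 := by
    intro R hR
    obtain ⟨o, rfl⟩ := Eq.surjective R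
    have : Hperm o = o := by
      rw [← hψh, psi_apply, hR, Equiv.symm_apply_apply]
    rcases Hperm_fix o this with rfl | rfl
    · left; exact hEnone
    · right; exact hE0
  -- Burnside for the prime 3
  have hho : orderOf h = 3 := orderOf_eq_prime hh3 hh1
  have hpz : IsPGroup 3 (Subgroup.zpowers h) := by
    apply IsPGroup.of_card (n := 1); rw [Nat.card_zpowers, hho, pow_one]
  obtain ⟨S3, hS3⟩ := hpz.exists_le_sylow
  have hS3c : Nat.card (S3 : Subgroup G) = 3 :=
    Syl15.sylow_card_eq_prime (by rw [hG]; norm_num) (by rw [hG]; norm_num) S3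
  have hS3z : (S3 : Subgroup G) = Subgroup.zpowers h := by
    symm
    apply Subgroup.eq_of_le_of_card_ge hS3
    rw [hS3c, Nat.card_zpowers, hho]
  have hnot : ¬ (Subgroup.normalizer ((S3 : Subgroup G) : Set G)
      ≤ Subgroup.centralizer ((S3 : Subgroup G) : Set G)) := by
    intro hle
    have htop := sylow_eq_top_of_normalizer_le_centralizer S3 hle
      (subgroup_ne_bot_of_card _ (by rw [hS3c]; norm_num))
    have := hS3c
    rw [htop, Subgroup.card_top, hG] at this
    norm_num at this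
  obtain ⟨s0, hs0N, hs0C⟩ := SetLike.not_le_iff_exists.1 hnot
  have hs0h : s0 * h * s0⁻¹ = h⁻¹ := by
    have hmem : s0 * h * s0⁻¹ ∈ (S3 : Subgroup G) :=
      ((Subgroup.mem_normalizer_iff.1 hs0N) h).1 (hS3 (Subgroup.mem_zpowers h))
    rw [hS3z, Subgroup.mem_zpowers_iff] at hmem
    obtain ⟨k, hk⟩ := hmem
    have hk' : h ^ (k % 3) = s0 * h * s0⁻¹ := by
      rw [← hk]
      have := zpow_mod_orderOf h k
      rw [hho] at this
      exact this
    have h0' := Int.emod_nonneg k (by norm_num : (3:ℤ) ≠ 0)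
    have h3' := Int.emod_lt_of_pos k (by norm_num : (0:ℤ) < 3)
    have hcases : k % 3 = 0 ∨ k % 3 = 1 ∨ k % 3 = 2 := by omega
    rcases hcases with e | e | e
    · exfalso
      rw [e, zpow_zero] at hk'
      apply hh1
      have e1 : h = s0⁻¹ * (s0 * h * s0⁻¹) * s0 := by group
      rw [e1, ← hk']; group
    · exfalso
      rw [e, zpow_one] at hk'
      apply hs0C
      rw [Subgroup.mem_centralizer_iff]
      intro y hy
      rw [SetLike.mem_coe, hS3z, Subgroup.mem_zpowers_iff] at hy
      obtain ⟨b, rfl⟩ := hy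
      have hc : Commute s0 h := mul_inv_eq_iff_eq_mul.1 hk'.symm
      exact ((hc.zpow_right b).eq).symm
    · rw [e] at hk'
      rw [← hk']
      have h3z : h ^ (3:ℤ) = 1 := by exact_mod_cast hh3
      calc h ^ (2:ℤ) = h ^ (3:ℤ) * h⁻¹ := by group
        _ = h⁻¹ := by rw [h3z, one_mul]
  have hc2 : Commute (s0 ^ 2) h := by
    have : s0 ^ 2 * h * (s0 ^ 2)⁻¹ = h := by
      have e : s0 ^ 2 * h * (s0 ^ 2)⁻¹ = s0 * (s0 * h * s0⁻¹) * s0⁻¹ := by
        simp only [pow_succ, pow_zero, one_mul, mul_inv_rev, mul_assoc]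
      rw [e, hs0h]
      have e2 : s0 * h⁻¹ * s0⁻¹ = (s0 * h * s0⁻¹)⁻¹ := by group
      rw [e2, hs0h, inv_inv]
    exact mul_inv_eq_iff_eq_mul.1 this
  obtain ⟨s, hs⟩ : ∃ s : G, s = s0 ^ 21 := ⟨_, rfl⟩
  have hsh : s * h * s⁻¹ = h⁻¹ := by
    have e : s = (s0 ^ 2) ^ 10 * s0 := by rw [hs, ← pow_mul, ← pow_succ]
    have hc : Commute ((s0 ^ 2) ^ 10) h⁻¹ := (hc2.pow_left 10).inv_right
    rw [e]
    calc (s0 ^ 2) ^ 10 * s0 * h * ((s0 ^ 2) ^ 10 * s0)⁻¹
        = (s0 ^ 2) ^ 10 * (s0 * h * s0⁻¹) * ((s0 ^ 2) ^ 10)⁻¹ := by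
          simp only [mul_inv_rev, mul_assoc]
      _ = (s0 ^ 2) ^ 10 * h⁻¹ * ((s0 ^ 2) ^ 10)⁻¹ := by rw [hs0h]
      _ = h⁻¹ := by rw [hc.eq, mul_inv_cancel_right]
  have hs8 : s ^ 8 = 1 := by
    rw [hs, ← pow_mul]
    have := pow_card_eq_one' (G := G) (x := s0)
    rw [hG] at this
    exact this
  have hsh' : s⁻¹ * h * s = h⁻¹ := by
    have e1 : h = s⁻¹ * h⁻¹ * s := by rw [← hsh]; group
    calc s⁻¹ * h * s = (s⁻¹ * h⁻¹ * s)⁻¹ := by group
      _ = h⁻¹ := by rw [← e1]
  have hsFix : ∀ R : Sylow 7 G, h • R = R → h • (s • R) = s • R := by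
    intro R hR
    have e1 : h * s = s * h⁻¹ := by
      calc h * s = s * (s⁻¹ * h * s) := by group
        _ = s * h⁻¹ := by rw [hsh']
    have e2 : h⁻¹ • R = R := by rw [inv_smul_eq_iff, hR]
    rw [← mul_smul, e1, mul_smul, e2]
  have hsne1 : s ≠ 1 := by
    intro h1
    rw [h1] at hsh
    have e1 : h = h⁻¹ := by simpa using hsh
    have hh2 : h * h = 1 := mul_eq_one_iff_eq_inv.2 e1
    apply hh1
    calc h = h ^ 3 * (h * h)⁻¹ := by
          simp only [pow_succ, pow_zero, one_mul, mul_inv_rev, mul_assoc]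
          group
      _ = 1 := by rw [hh3, hh2]; simp
  have hsmove : ∀ R : Sylow 7 G, s • R ≠ R := by
    intro R hR
    have h21 := hfix21 s R hR
    apply hsne1
    calc s = (s ^ 8) ^ 8 * ((s ^ 21) ^ 3)⁻¹ := by group
      _ = 1 := by rw [hs8, h21]; simp
  have hsP : s • P = Q0 := by
    rcases hfixh (s • P) (hsFix P hhP) with h' | h'
    · exact absurd h' (hsmove P)
    · exact h'
  have hsQ : s • Q0 = P := by
    rcases hfixh (s • Q0) (hsFix Q0 hhQ) with h' | h'
    · exact h'
    · exact absurd h' (hsmove Q0)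
  have hs2 : s * s = 1 := by
    have hfix : (s * s) • P = P := by rw [mul_smul, hsP, hsQ]
    have h21 := hfix21 (s * s) P hfix
    have h21' : (s ^ 2) ^ 21 = 1 := by rw [pow_two]; exact h21
    calc s * s = s ^ 2 := (pow_two s).symm
      _ = (s ^ 2) ^ 21 * ((s ^ 8) ^ 5)⁻¹ := by group
      _ = 1 := by rw [h21', hs8]; simp
  -- the image of s
  have hπ0 : psi Eq s none = some 0 := by
    rw [psi_apply, hEnone, hsP, Equiv.symm_apply_eq, hE0]
  have hπ2 : psi Eq s * psi Eq s = 1 := by rw [← map_mul, hs2, map_one]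
  have hπrel : psi Eq s * Hperm * (psi Eq s)⁻¹ = Hperm⁻¹ := by
    rw [← hψh, ← map_inv, ← map_mul, ← map_mul, hsh, map_inv]
  have hπfpf : ∀ o, psi Eq s o ≠ o := by
    intro o ho
    rw [psi_apply, Equiv.symm_apply_eq] at ho
    exact hsmove _ ho
  have hπ := lemmaD (psi Eq s) hπ0 hπ2 hπrel hπfpf
  -- generation
  have hgen : Subgroup.closure ({u, h, s} : Set G) = ⊤ := by
    have huM : u ∈ Subgroup.closure ({u, h, s} : Set G) := Subgroup.subset_closure (by simp)
    have hhM : h ∈ Subgroup.closure ({u, h, s} : Set G) := Subgroup.subset_closure (by simp)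
    have hsM : s ∈ Subgroup.closure ({u, h, s} : Set G) := Subgroup.subset_closure (by simp)
    have hso : orderOf s = 2 := orderOf_eq_prime (by rw [pow_two]; exact hs2) hsne1
    have d7 : 7 ∣ Nat.card (Subgroup.closure ({u, h, s} : Set G)) := by
      have := orderOf_dvd_natCard (⟨u, huM⟩ : Subgroup.closure ({u, h, s} : Set G))
      have e := Subgroup.orderOf_mk (H := Subgroup.closure ({u, h, s} : Set G)) u huM
      rw [e, horder] at this
      exact this
    have d3 : 3 ∣ Nat.card (Subgroup.closure ({u, h, s} : Set G)) := by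
      have := orderOf_dvd_natCard (⟨h, hhM⟩ : Subgroup.closure ({u, h, s} : Set G))
      have e := Subgroup.orderOf_mk (H := Subgroup.closure ({u, h, s} : Set G)) h hhM
      rw [e, hho] at this
      exact this
    have d2 : 2 ∣ Nat.card (Subgroup.closure ({u, h, s} : Set G)) := by
      have := orderOf_dvd_natCard (⟨s, hsM⟩ : Subgroup.closure ({u, h, s} : Set G))
      have e := Subgroup.orderOf_mk (H := Subgroup.closure ({u, h, s} : Set G)) s hsM
      rw [e, hso] at this
      exact this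
    have hci := Subgroup.card_mul_index (Subgroup.closure ({u, h, s} : Set G))
    rw [hG] at hci
    by_contra hne
    have hfac := card_dvd_factorial_index_of_simple _ hne
    rw [hG] at hfac
    have h42 : 42 ∣ Nat.card (Subgroup.closure ({u, h, s} : Set G)) := by omega
    obtain ⟨k, hk⟩ := h42
    rw [hk] at hci
    have hki : k * (Subgroup.closure ({u, h, s} : Set G)).index = 4 := by
      have : 42 * (k * (Subgroup.closure ({u, h, s} : Set G)).index) = 42 * 4 := by
        rw [← mul_assoc]; exact hci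
      exact Nat.eq_of_mul_eq_mul_left (by norm_num) this
    have hidvd : (Subgroup.closure ({u, h, s} : Set G)).index ∣ 4 := ⟨k, by rw [mul_comm]; exact hki.symm⟩
    have hile : (Subgroup.closure ({u, h, s} : Set G)).index ≤ 4 := Nat.le_of_dvd (by norm_num) hidvd
    have hi1 : (Subgroup.closure ({u, h, s} : Set G)).index ≠ 1 := fun h1 =>
      hne (Subgroup.index_eq_one.1 h1)
    generalize (Subgroup.closure ({u, h, s} : Set G)).index = i at *
    interval_cases i
    · omega
    · omega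
    · revert hfac; decide
    · omega
    · revert hfac; decide
  have hrange : (psi (G := G) Eq).range
      = Subgroup.closure ({Uperm, Hperm, psi Eq s} : Set (Equiv.Perm Pt)) := by
    rw [MonoidHom.range_eq_map, ← hgen, MonoidHom.map_closure]
    congr 1
    rw [Set.image_insert_eq, Set.image_insert_eq, Set.image_singleton, hψu, hψh]
  have hL : Subgroup.closure ({Uperm, Hperm, psi Eq s} : Set (Equiv.Perm Pt))
      = Subgroup.closure ({Uperm, Hperm, T6} : Set (Equiv.Perm Pt)) := by
    rcases hπ with h' | h' | h'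
    · rw [h']; exact closure_T3
    · rw [h']; exact closure_T5
    · rw [h']
  exact ⟨(MonoidHom.ofInjective hψinj).trans (MulEquiv.subgroupCongr (hrange.trans hL))⟩

end main2

theorem psl27_simple_card {F : Type*} [Field F] [Fintype F] (hF : Fintype.card F = 7) :
    IsSimpleGroup (Matrix.ProjectiveSpecialLinearGroup (Fin 2) F) ∧
      Nat.card (Matrix.ProjectiveSpecialLinearGroup (Fin 2) F) = 168 := by
  constructor
  · exact Matrix.ProjectiveSpecialLinearGroup.rank_two_simple (by
      rw [Nat.card_eq_fintype_card, hF]; norm_num)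
  · have h := Cfsg.Agent.Lib.Helper1.card_PSL2 F
    rw [hF] at h
    have h2 : Nat.gcd 2 (7 - 1) = 2 := by decide
    rw [h2] at h
    omega

theorem iso_of_simple_168 {G₁ G₂ : Type*} [Group G₁] [Finite G₁] [IsSimpleGroup G₁]
    [Group G₂] [Finite G₂] [IsSimpleGroup G₂] (h₁ : Nat.card G₁ = 168) (h₂ : Nat.card G₂ = 168) :
    Nonempty (G₁ ≃* G₂) := by
  obtain ⟨e₁⟩ := exists_iso h₁
  obtain ⟨e₂⟩ := exists_iso h₂
  exact ⟨e₁.trans e₂.symm⟩

/-- Every simple group of order 168 is isomorphic to PSL(2, 7). -/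
theorem result {G : Type*} [Group G] [Finite G] [IsSimpleGroup G]
    (h : Nat.card G = 168) {F : Type*} [Field F] [Fintype F] (hF : Fintype.card F = 7) :
    Nonempty (G ≃* Matrix.ProjectiveSpecialLinearGroup (Fin 2) F) := by
  obtain ⟨hs, hc⟩ := psl27_simple_card hF
  haveI := hs
  exact iso_of_simple_168 h hc

end Cfsg.Agent.S0495
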