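import Cfsg.Statements.S1003
import Mathlib
import Cfsg.Agent.S0495
import Cfsg.Agent.Lib.Helper1.SmallSimple
import Cfsg.Agent.Lib.Helper1.SimpleAct
import Cfsg.Agent.Lib.Helper7.Syl15Base
import Cfsg.Agent.Lib.Helper7.SylCyc
import Cfsg.Agent.Lib.Helper7.Syl21Gen
import Cfsg.Agent.Lib.Helper4.ConjSub

set_option autoImplicit false
open Cfsg

namespace Cfsg.Agent.S1003

open Cfsg.Agent.Lib.Helper1 Cfsg.Agent.Lib.Helper7 Cfsg.Agent.Lib.Helper4

section gen
variable {G : Type*} [Group G] [Finite G]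

theorem mem_smul_sylow {p : ℕ} (g : G) (R : Sylow p G) (y : G) :
    y ∈ ((g • R : Sylow p G) : Subgroup G) ↔ g⁻¹ * y * g ∈ (R : Subgroup G) := by
  rw [sylow_smul_eq_cj, mem_cj_iff]

theorem gen_of_prime {p : ℕ} [hp : Fact p.Prime] (P : Sylow p G)
    (hP : Nat.card (P : Subgroup G) = p) {w : G} (hw : w ∈ (P : Subgroup G)) (hw1 : w ≠ 1) :
    ∀ y : G, y ∈ (P : Subgroup G) → y ∈ Subgroup.zpowers w := by
  intro y hy
  have h := mem_zpowers_of_prime_card (G := (P : Subgroup G)) (p := p) hP (g := ⟨w, hw⟩)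
    (g' := ⟨y, hy⟩) (by intro h; exact hw1 (congrArg Subtype.val h))
  obtain ⟨k, hk⟩ := h
  exact ⟨k, by simpa using congrArg Subtype.val hk⟩

theorem le_cent_of_prime {p : ℕ} [hp : Fact p.Prime] (P : Sylow p G)
    (hP : Nat.card (P : Subgroup G) = p) :
    (P : Subgroup G) ≤ Subgroup.centralizer ((P : Subgroup G) : Set G) := by
  obtain ⟨w, hw, hw1⟩ := SylCyc.exists_mem_ne_one_of_card_prime P hP
  intro y hy z hz
  obtain ⟨i, rfl⟩ := gen_of_prime P hP hw hw1 y hy
  obtain ⟨j, rfl⟩ := gen_of_prime P hP hw hw1 z hz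
  exact ((Commute.refl w).zpow_zpow j i).eq

theorem mem_of_commute {p : ℕ} [hp : Fact p.Prime] (P : Sylow p G)
    (hP : Nat.card (P : Subgroup G) = p)
    (hcent : Subgroup.centralizer ((P : Subgroup G) : Set G) = (P : Subgroup G))
    {w : G} (hw : w ∈ (P : Subgroup G)) (hw1 : w ≠ 1) {c : G} (hc : Commute c w) :
    c ∈ (P : Subgroup G) := by
  rw [← hcent, Subgroup.mem_centralizer_iff]
  intro y hy
  obtain ⟨i, rfl⟩ := gen_of_prime P hP hw hw1 y hy
  exact ((hc.zpow_right i).eq).symm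

theorem cent_self [IsSimpleGroup G] {p : ℕ} [hp : Fact p.Prime] (P : Sylow p G)
    (hP : Nat.card (P : Subgroup G) = p) (hlt : p ≠ Nat.card G)
    (hdiv : ∀ d : ℕ, d ∣ Nat.card (Subgroup.normalizer ((P : Subgroup G) : Set G)) → p ∣ d →
      d = p ∨ d = Nat.card (Subgroup.normalizer ((P : Subgroup G) : Set G))) :
    Subgroup.centralizer ((P : Subgroup G) : Set G) = (P : Subgroup G) := by
  have h1 := le_cent_of_prime P hP
  have h2 : Subgroup.centralizer ((P : Subgroup G) : Set G) ≤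
      Subgroup.normalizer ((P : Subgroup G) : Set G) := Subgroup.centralizer_le_normalizer _
  have h3 := Subgroup.card_dvd_of_le h2
  have h4 := Subgroup.card_dvd_of_le h1
  rw [hP] at h4
  rcases hdiv _ h3 h4 with h5 | h5
  · exact (Subgroup.eq_of_le_of_card_ge h1 (by rw [h5, hP])).symm
  · exfalso
    have h6 : Subgroup.centralizer ((P : Subgroup G) : Set G) =
        Subgroup.normalizer ((P : Subgroup G) : Set G) :=
      Subgroup.eq_of_le_of_card_ge h2 (le_of_eq h5.symm)
    have h7 := sylow_eq_top_of_normalizer_le_centralizer P (le_of_eq h6.symm)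
      (subgroup_ne_bot_of_card _ (by rw [hP]; exact hp.out.one_lt.ne'))
    rw [h7, Subgroup.card_top] at hP
    exact hlt hP.symm

theorem exists_sylow_of_dvd {p : ℕ} [hp : Fact p.Prime]
    (hcard : ∀ P : Sylow p G, Nat.card (P : Subgroup G) = p)
    (hcent : ∀ P : Sylow p G,
      Subgroup.centralizer ((P : Subgroup G) : Set G) = (P : Subgroup G))
    (g : G) (h : p ∣ orderOf g) : ∃ P : Sylow p G, g ∈ (P : Subgroup G) := by
  obtain ⟨k, hk⟩ := h
  have hpos : 0 < orderOf g := orderOf_pos g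
  have hk0 : k ≠ 0 := by
    rintro rfl
    rw [mul_zero] at hk
    omega
  have ho : orderOf (g ^ k) = p := by
    rw [orderOf_pow_of_dvd hk0 ⟨p, by rw [hk, mul_comm]⟩, hk]
    exact Nat.mul_div_cancel _ (Nat.pos_of_ne_zero hk0)
  have hpg : IsPGroup p (Subgroup.zpowers (g ^ k)) :=
    IsPGroup.of_card (n := 1) (by rw [Nat.card_zpowers, ho, pow_one])
  obtain ⟨P, hle⟩ := hpg.exists_le_sylow
  have hw : g ^ k ∈ (P : Subgroup G) := hle (Subgroup.mem_zpowers _)
  have hw1 : g ^ k ≠ 1 := by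
    intro h1
    rw [h1, orderOf_one] at ho
    exact hp.out.one_lt.ne ho
  exact ⟨P, mem_of_commute P (hcard P) (hcent P) hw hw1 ((Commute.refl g).pow_right k)⟩

theorem ncard_nonid_le {p : ℕ} [hp : Fact p.Prime] (q : ℕ)
    (hq : ∀ P : Sylow p G, Nat.card (P : Subgroup G) = q) :
    {g : G | g ≠ 1 ∧ ∃ P : Sylow p G, g ∈ (P : Subgroup G)}.ncard
      ≤ Nat.card (Sylow p G) * (q - 1) := by
  classical
  have := Fintype.ofFinite (Sylow p G)
  have := Fintype.ofFinite G
  let A : Sylow p G → Finset G := fun R =>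
    Finset.univ.filter (fun g => g ∈ (R : Subgroup G) ∧ g ≠ 1)
  have hA : ∀ R : Sylow p G, (A R).card = q - 1 := by
    intro R
    have h1 : A R = (Finset.univ.filter (fun g => g ∈ (R : Subgroup G))).erase 1 := by
      ext g
      simp [A, and_comm]
    have h2 : (Finset.univ.filter (fun g : G => g ∈ (R : Subgroup G))).card = q := by
      have h5 : ((Finset.univ.filter (fun g : G => g ∈ (R : Subgroup G)) : Finset G) : Set G)
          = ((R : Subgroup G) : Set G) := by
        ext g; simp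
      rw [← Set.ncard_coe_finset, h5, ← Nat.card_coe_set_eq]
      exact hq R
    rw [h1, Finset.card_erase_of_mem (by simp), h2]
  have hsub : {g : G | g ≠ 1 ∧ ∃ P : Sylow p G, g ∈ (P : Subgroup G)} ⊆
      (((Finset.univ : Finset (Sylow p G)).biUnion A : Finset G) : Set G) := by
    intro g hg
    obtain ⟨h1, P, hP⟩ := hg
    simp only [Finset.coe_biUnion, Finset.coe_univ, Set.mem_univ, Set.iUnion_true,
      Set.mem_iUnion, Finset.mem_coe]
    exact ⟨P, by simp [A, hP, h1]⟩
  calc {g : G | g ≠ 1 ∧ ∃ P : Sylow p G, g ∈ (P : Subgroup G)}.ncard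
      ≤ (((Finset.univ : Finset (Sylow p G)).biUnion A : Finset G) : Set G).ncard :=
        Set.ncard_le_ncard hsub (Finset.finite_toSet _)
    _ = ((Finset.univ : Finset (Sylow p G)).biUnion A).card := Set.ncard_coe_finset _
    _ ≤ ∑ R ∈ (Finset.univ : Finset (Sylow p G)), (A R).card := Finset.card_biUnion_le
    _ = Nat.card (Sylow p G) * (q - 1) := by
      rw [Finset.sum_congr rfl (fun R _ => hA R), Finset.sum_const, Finset.card_univ,
        Nat.card_eq_fintype_card, smul_eq_mul]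

end gen

section main
variable {G : Type*} [Group G] [Finite G] [IsSimpleGroup G]

theorem card7 (hG : Nat.card G = 168) (P : Sylow 7 G) : Nat.card (P : Subgroup G) = 7 :=
  Syl15.sylow_card_eq_prime (by rw [hG]; norm_num) (by rw [hG]; norm_num) P

theorem card3 (hG : Nat.card G = 168) (P : Sylow 3 G) : Nat.card (P : Subgroup G) = 3 :=
  Syl15.sylow_card_eq_prime (by rw [hG]; norm_num) (by rw [hG]; norm_num) P

theorem card2 (hG : Nat.card G = 168) (P : Sylow 2 G) : Nat.card (P : Subgroup G) = 8 := by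
  obtain ⟨k, hk⟩ := IsPGroup.iff_card.mp P.isPGroup'
  have h1 := Subgroup.card_mul_index (P : Subgroup G)
  have h2 := P.not_dvd_index
  rw [hk, hG] at h1
  have hk7 : k < 8 := by
    by_contra hcon
    push Not at hcon
    have h3 : 2 ^ 8 ≤ 2 ^ k := Nat.pow_le_pow_right (by norm_num) hcon
    have hpos : 0 < (P : Subgroup G).index := Nat.pos_of_ne_zero (by
      intro h0; rw [h0] at h1; simp at h1)
    nlinarith
  rw [hk]
  interval_cases k
  all_goals first | rfl | (exfalso; norm_num at h1; first | done | omega)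

theorem n3_ne7 (h : Nat.card G = 168)
    (hC7 : ∀ P : Sylow 7 G,
      Subgroup.centralizer ((P : Subgroup G) : Set G) = (P : Subgroup G))
    (hN7 : ∀ P : Sylow 7 G,
      Nat.card (Subgroup.normalizer ((P : Subgroup G) : Set G)) = 21) :
    Nat.card (Sylow 3 G) ≠ 7 := by
  intro hn3
  obtain ⟨P⟩ : Nonempty (Sylow 7 G) := inferInstance
  have hP := card7 h P
  have hNc : Nat.card (Subgroup.normalizer ((P : Subgroup G) : Set G)) = 21 := hN7 P
  obtain ⟨x, hx⟩ := exists_prime_orderOf_dvd_card'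
    (G := Subgroup.normalizer ((P : Subgroup G) : Set G)) 3 (by rw [hNc]; norm_num)
  have hx3 : orderOf (x : G) = 3 := by rw [Subgroup.orderOf_coe]; exact hx
  have hpg : IsPGroup 3 (Subgroup.zpowers (x : G)) :=
    IsPGroup.of_card (n := 1) (by rw [Nat.card_zpowers, hx3, pow_one])
  obtain ⟨R, hle⟩ := hpg.exists_le_sylow
  have hR := card3 h R
  have hxR : (x : G) ∈ (R : Subgroup G) := hle (Subgroup.mem_zpowers _)
  have hx1 : (x : G) ≠ 1 := by
    intro h1
    rw [h1, orderOf_one] at hx3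
    omega
  have hRN : (R : Subgroup G) ≤ Subgroup.normalizer ((P : Subgroup G) : Set G) := by
    intro y hy
    obtain ⟨k, rfl⟩ := gen_of_prime R hR hxR hx1 y hy
    exact Subgroup.zpow_mem _ x.2 k
  have hdisj : Disjoint (R : Subgroup G) (P : Subgroup G) :=
    Subgroup.disjoint_of_coprime_natCard (by rw [hR, hP]; norm_num)
  let f : ↥(P : Subgroup G) → Sylow 3 G := fun u => (u : G) • R
  have hfinj : Function.Injective f := by
    intro u v huv
    have h1 : ((v : G)⁻¹ * (u : G)) • R = R := by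
      have h0 : (u : G) • R = (v : G) • R := huv
      rw [mul_smul, h0, inv_smul_smul]
    rw [Sylow.smul_eq_iff_mem_normalizer] at h1
    have hwP : (v : G)⁻¹ * (u : G) ∈ (P : Subgroup G) :=
      Subgroup.mul_mem _ (Subgroup.inv_mem _ v.2) u.2
    by_contra hne
    have hw1 : (v : G)⁻¹ * (u : G) ≠ 1 := by
      intro hw1
      apply hne
      have h2 : (u : G) = (v : G) := by
        have h3 := congrArg (fun t => (v : G) * t) hw1
        simpa [mul_assoc] using h3
      exact Subtype.ext h2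
    generalize (v : G)⁻¹ * (u : G) = w at h1 hwP hw1
    have hcomm : ∀ r ∈ (R : Subgroup G), Commute r w := by
      intro r hr
      have hc1 : w * r * w⁻¹ * r⁻¹ ∈ (R : Subgroup G) := by
        have h2 := (Subgroup.mem_normalizer_iff.mp h1 r).mp hr
        exact Subgroup.mul_mem _ h2 (Subgroup.inv_mem _ hr)
      have hc2 : w * r * w⁻¹ * r⁻¹ ∈ (P : Subgroup G) := by
        have hrN : r ∈ Subgroup.normalizer ((P : Subgroup G) : Set G) := hRN hr
        have h2 := (Subgroup.mem_normalizer_iff.mp hrN w⁻¹).mp (Subgroup.inv_mem _ hwP)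
        have h3 := Subgroup.mul_mem _ hwP h2
        have e : w * (r * w⁻¹ * r⁻¹) = w * r * w⁻¹ * r⁻¹ := by group
        rwa [e] at h3
      have h3 := Subgroup.disjoint_def.mp hdisj hc1 hc2
      have h4 : w * r = r * w := by
        have h5 := congrArg (fun t => t * r * w) h3
        simpa [mul_assoc] using h5
      exact h4.symm
    have hRP : ∀ r ∈ (R : Subgroup G), r ∈ (P : Subgroup G) := fun r hr =>
      mem_of_commute P hP (hC7 P) hwP hw1 (hcomm r hr)
    exact hx1 (Subgroup.disjoint_def.mp hdisj hxR (hRP _ hxR))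
  have hfbij : Function.Bijective f := hfinj.bijective_of_nat_card_le (by rw [hn3, hP])
  have hall : ∀ R' : Sylow 3 G,
      (R' : Subgroup G) ≤ Subgroup.normalizer ((P : Subgroup G) : Set G) := by
    intro R' y hy
    obtain ⟨u, hu⟩ := hfbij.2 R'
    have hu' : (u : G) • R = R' := hu
    rw [← hu', mem_smul_sylow] at hy
    have huN : (u : G) ∈ Subgroup.normalizer ((P : Subgroup G) : Set G) :=
      Subgroup.le_normalizer u.2
    have h2 := Subgroup.mul_mem _ (Subgroup.mul_mem _ huN (hRN hy)) (Subgroup.inv_mem _ huN)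
    have e : (u : G) * ((u : G)⁻¹ * y * (u : G)) * (u : G)⁻¹ = y := by group
    rwa [e] at h2
  have hxcore : (x : G) ∈ (Subgroup.normalizer ((P : Subgroup G) : Set G)).normalCore := by
    show ∀ b : G, b * (x : G) * b⁻¹ ∈ Subgroup.normalizer ((P : Subgroup G) : Set G)
    intro g
    apply hall (g • R)
    rw [mem_smul_sylow]
    have e : g⁻¹ * (g * (x : G) * g⁻¹) * g = (x : G) := by group
    rw [e]
    exact hxR
  rcases Subgroup.Normal.eq_bot_or_eq_top
    (Subgroup.normalCore_normal (Subgroup.normalizer ((P : Subgroup G) : Set G))) with h0 | h0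
  · rw [h0, Subgroup.mem_bot] at hxcore
    exact hx1 hxcore
  · have h1 := Subgroup.normalCore_le (Subgroup.normalizer ((P : Subgroup G) : Set G))
    rw [h0] at h1
    have htop := top_le_iff.mp h1
    rw [htop, Subgroup.card_top, h] at hNc
    omega

theorem n3_eq (h : Nat.card G = 168)
    (hC7 : ∀ P : Sylow 7 G,
      Subgroup.centralizer ((P : Subgroup G) : Set G) = (P : Subgroup G))
    (hN7 : ∀ P : Sylow 7 G,
      Nat.card (Subgroup.normalizer ((P : Subgroup G) : Set G)) = 21) :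
    Nat.card (Sylow 3 G) = 28 := by
  obtain ⟨R0⟩ : Nonempty (Sylow 3 G) := inferInstance
  have hR0 := card3 h R0
  have h1 : Nat.card (Sylow 3 G) % 3 = 1 % 3 := card_sylow_modEq_one 3 G
  have hidx : (R0 : Subgroup G).index = 56 := by
    have h2 := Subgroup.card_mul_index (R0 : Subgroup G)
    rw [hR0, h] at h2
    omega
  have h4 : Nat.card (Sylow 3 G) ∣ 56 := by
    have h2 := Sylow.card_dvd_index R0
    rwa [hidx] at h2
  have h3 : Nat.card (Sylow 3 G) ≠ 1 :=
    card_sylow_ne_one_of_simple R0 (subgroup_ne_bot_of_card _ (by rw [hR0]; norm_num))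
      (subgroup_ne_top_of_card _ (by rw [hR0, h]; norm_num))
  have hne4 : Nat.card (Sylow 3 G) ≠ 4 := by
    intro h4'
    have hidxN : (Subgroup.normalizer ((R0 : Subgroup G) : Set G)).index = 4 := by
      have h5 := Sylow.card_eq_index_normalizer R0
      rw [h4'] at h5
      exact h5.symm
    have hne : Subgroup.normalizer ((R0 : Subgroup G) : Set G) ≠ ⊤ := by
      intro htop
      rw [htop, Subgroup.index_top] at hidxN
      omega
    have h6 := card_dvd_factorial_index_of_simple _ hne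
    rw [hidxN, h] at h6
    revert h6
    decide
  have hne7 : Nat.card (Sylow 3 G) ≠ 7 := n3_ne7 h hC7 hN7
  have h5 : Nat.card (Sylow 3 G) ≤ 56 := Nat.le_of_dvd (by norm_num) h4
  generalize Nat.card (Sylow 3 G) = n at *
  interval_cases n <;> omega

theorem main1003 (h : Nat.card G = 168) :
    Nat.card (Sylow 2 G) = 21 ∧ Nat.card (Sylow 3 G) = 28 ∧ Nat.card (Sylow 7 G) = 8 := by
  have hn7 : Nat.card (Sylow 7 G) = 8 := Cfsg.Agent.S0495.card_syl7 h
  have hN7 : ∀ P : Sylow 7 G,
      Nat.card (Subgroup.normalizer ((P : Subgroup G) : Set G)) = 21 := by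
    intro P
    have h1 := card_normalizer_mul_card_sylow P
    rw [hn7, h] at h1
    omega
  have hC7 : ∀ P : Sylow 7 G,
      Subgroup.centralizer ((P : Subgroup G) : Set G) = (P : Subgroup G) := by
    intro P
    apply cent_self P (card7 h P) (by rw [h]; norm_num)
    intro d h1 h2
    rw [hN7 P] at h1 ⊢
    have h3 := Nat.le_of_dvd (by norm_num) h1
    interval_cases d <;> omega
  have hn3 : Nat.card (Sylow 3 G) = 28 := n3_eq h hC7 hN7
  have hN3 : ∀ P : Sylow 3 G,
      Nat.card (Subgroup.normalizer ((P : Subgroup G) : Set G)) = 6 := by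
    intro P
    have h1 := card_normalizer_mul_card_sylow P
    rw [hn3, h] at h1
    omega
  have hC3 : ∀ P : Sylow 3 G,
      Subgroup.centralizer ((P : Subgroup G) : Set G) = (P : Subgroup G) := by
    intro P
    apply cent_self P (card3 h P) (by rw [h]; norm_num)
    intro d h1 h2
    rw [hN3 P] at h1 ⊢
    have h3 := Nat.le_of_dvd (by norm_num) h1
    interval_cases d <;> omega
  have hcover : ∀ g : G, g ≠ 1 → (∃ P : Sylow 7 G, g ∈ (P : Subgroup G)) ∨
      (∃ P : Sylow 3 G, g ∈ (P : Subgroup G)) ∨ (∃ P : Sylow 2 G, g ∈ (P : Subgroup G)) := by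
    intro g hg
    by_cases h7 : 7 ∣ orderOf g
    · exact Or.inl (exists_sylow_of_dvd (card7 h) hC7 g h7)
    by_cases h3 : 3 ∣ orderOf g
    · exact Or.inr (Or.inl (exists_sylow_of_dvd (card3 h) hC3 g h3))
    · right; right
      have hd : orderOf g ∣ 168 := by rw [← h]; exact orderOf_dvd_natCard g
      have hco : Nat.Coprime (orderOf g) 21 := by
        have e : (21 : ℕ) = 3 * 7 := by norm_num
        rw [e]
        exact Nat.Coprime.mul_right
          ((Nat.Prime.coprime_iff_not_dvd (by norm_num)).2 h3).symm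
          ((Nat.Prime.coprime_iff_not_dvd (by norm_num)).2 h7).symm
      have hd8 : orderOf g ∣ 2 ^ 3 := by
        have e : (168 : ℕ) = 21 * 2 ^ 3 := by norm_num
        rw [e] at hd
        exact hco.dvd_of_dvd_mul_left hd
      obtain ⟨j, -, hj⟩ := (Nat.dvd_prime_pow Nat.prime_two).1 hd8
      have hpg : IsPGroup 2 (Subgroup.zpowers g) :=
        IsPGroup.of_card (n := j) (by rw [Nat.card_zpowers, hj])
      obtain ⟨P, hle⟩ := hpg.exists_le_sylow
      exact ⟨P, hle (Subgroup.mem_zpowers g)⟩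
  have hc2 := card2 h
  have hidx2 : ∀ P : Sylow 2 G, (P : Subgroup G).index = 21 := by
    intro P
    have h1 := Subgroup.card_mul_index (P : Subgroup G)
    rw [hc2 P, h] at h1
    omega
  obtain ⟨P2⟩ : Nonempty (Sylow 2 G) := inferInstance
  have hn2d : Nat.card (Sylow 2 G) ∣ 21 := by
    have h1 := Sylow.card_dvd_index P2
    rwa [hidx2 P2] at h1
  have hb7 := ncard_nonid_le (G := G) (p := 7) 7 (card7 h)
  have hb3 := ncard_nonid_le (G := G) (p := 3) 3 (card3 h)
  have hb2 := ncard_nonid_le (G := G) (p := 2) 8 hc2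
  rw [hn7] at hb7
  rw [hn3] at hb3
  have hsub : ({1}ᶜ : Set G) ⊆
      ({g : G | g ≠ 1 ∧ ∃ P : Sylow 7 G, g ∈ (P : Subgroup G)} ∪
        {g : G | g ≠ 1 ∧ ∃ P : Sylow 3 G, g ∈ (P : Subgroup G)}) ∪
        {g : G | g ≠ 1 ∧ ∃ P : Sylow 2 G, g ∈ (P : Subgroup G)} := by
    intro g hg
    have hg1 : g ≠ 1 := hg
    rcases hcover g hg1 with h7 | h3 | h2
    · exact Or.inl (Or.inl ⟨hg1, h7⟩)
    · exact Or.inl (Or.inr ⟨hg1, h3⟩)
    · exact Or.inr ⟨hg1, h2⟩
  have hcount : ({1}ᶜ : Set G).ncard = 167 := by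
    rw [Set.ncard_compl, Set.ncard_singleton, h]
  have h5 := Set.ncard_le_ncard hsub (Set.toFinite _)
  have h6 := Set.ncard_union_le
    ({g : G | g ≠ 1 ∧ ∃ P : Sylow 7 G, g ∈ (P : Subgroup G)} ∪
        {g : G | g ≠ 1 ∧ ∃ P : Sylow 3 G, g ∈ (P : Subgroup G)})
    {g : G | g ≠ 1 ∧ ∃ P : Sylow 2 G, g ∈ (P : Subgroup G)}
  have h7 := Set.ncard_union_le
    {g : G | g ≠ 1 ∧ ∃ P : Sylow 7 G, g ∈ (P : Subgroup G)}
    {g : G | g ≠ 1 ∧ ∃ P : Sylow 3 G, g ∈ (P : Subgroup G)}
  have hle := Nat.le_of_dvd (by norm_num) hn2d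
  refine ⟨?_, hn3, hn7⟩
  rw [hcount] at h5
  generalize Nat.card (Sylow 2 G) = n at *
  interval_cases n <;> omega

end main


/-- A simple group of order 168 has exactly 21 Sylow 2-subgroups, 28 Sylow 3-subgroups and 8 Sylow 7-subgroups. -/
theorem result {G : Type*} [Group G] [Finite G] [IsSimpleGroup G] (h : Nat.card G = 168) : Nat.card (Sylow 2 G) = 21 ∧ Nat.card (Sylow 3 G) = 28 ∧ Nat.card (Sylow 7 G) = 8 := by
  exact main1003 h

end Cfsg.Agent.S1003
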