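import Cfsg.Statements.S1004
import Mathlib
import Cfsg.Agent.Lib.Helper6.Simple168
import Cfsg.Agent.Lib.Helper6.MaxClass2c

set_option autoImplicit false
open Cfsg

namespace Cfsg.Agent.S1004

open Cfsg.Agent.Lib.Helper1 Cfsg.Agent.Lib.Helper7 Cfsg.Agent.Lib.Helper4 Cfsg.Agent.S1003
  Cfsg.Agent.Lib.Helper6.Simple168

theorem zpow_cases4 {X : Type*} [Group X] (a : X) (h4 : a ^ 4 = 1) (k : ℤ) :
    a ^ k = 1 ∨ a ^ k = a ∨ a ^ k = a ^ 2 ∨ a ^ k = a⁻¹ := by
  have h4' : a ^ (4 : ℤ) = 1 := by
    rw [show (4 : ℤ) = ((4 : ℕ) : ℤ) from rfl, zpow_natCast]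
    exact h4
  have hk' : a ^ k = a ^ (k % 4) := by
    conv_lhs => rw [← Int.mul_ediv_add_emod k 4]
    rw [zpow_add, zpow_mul, h4', one_zpow, one_mul]
  have h0 : 0 ≤ k % 4 := Int.emod_nonneg k (by norm_num)
  have h1 : k % 4 < 4 := Int.emod_lt_of_pos k (by norm_num)
  rw [hk']
  obtain ⟨r, hr⟩ : ∃ r : ℤ, r = k % 4 := ⟨_, rfl⟩
  rw [← hr] at h0 h1 ⊢
  interval_cases r
  · left; simp
  · right; left; simp
  · right; right; left
    rw [show (2 : ℤ) = ((2 : ℕ) : ℤ) from rfl, zpow_natCast]
  · right; right; right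
    have h5 : a ^ (3 : ℤ) * a = 1 := by
      have h6 : a ^ (3 : ℤ) * a = a ^ (4 : ℤ) := by
        rw [show (4 : ℤ) = 3 + 1 by norm_num, zpow_add, zpow_one]
      rw [h6, h4']
    exact eq_inv_of_mul_eq_one_left h5

theorem dih_of_card8 {X : Type*} [Group X] [Finite X] (hX : Nat.card X = 8)
    (hnc : ¬ ∀ x y : X, x * y = y * x) (s t : X) (hs : orderOf s = 2) (ht : orderOf t = 2)
    (hst : s ≠ t) : Nonempty (X ≃* DihedralGroup 4) := by
  have hord : ∀ x : X, orderOf x = 1 ∨ orderOf x = 2 ∨ orderOf x = 4 ∨ orderOf x = 8 := by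
    intro x
    have h1 : orderOf x ∣ 8 := by rw [← hX]; exact orderOf_dvd_natCard x
    have h2 := Nat.le_of_dvd (by norm_num) h1
    generalize orderOf x = n at h1 h2
    interval_cases n <;> omega
  obtain ⟨a, ha⟩ : ∃ a : X, orderOf a = 4 := by
    by_contra hno
    push Not at hno
    apply hnc
    have hsq : ∀ x : X, x * x = 1 := by
      intro x
      rcases hord x with h1 | h1 | h1 | h1
      · rw [orderOf_eq_one_iff] at h1; rw [h1, one_mul]
      · rw [← pow_two, ← h1]; exact pow_orderOf_eq_one x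
      · exact absurd h1 (hno x)
      · exfalso
        have h2 : orderOf (x ^ 2) = 4 := by
          rw [orderOf_pow_of_dvd (by norm_num) (by rw [h1]; norm_num), h1]
        exact hno _ h2
    intro x y
    have h1 := hsq (x * y)
    have h2 : x * y = (x * y)⁻¹ := eq_inv_of_mul_eq_one_left h1
    rw [h2, mul_inv_rev, inv_eq_of_mul_eq_one_right (hsq x), inv_eq_of_mul_eq_one_right (hsq y)]
  have h4 : a ^ 4 = 1 := by rw [← ha]; exact pow_orderOf_eq_one a
  have hAc : Nat.card (Subgroup.zpowers a) = 4 := by rw [Nat.card_zpowers, ha]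
  have hAi : (Subgroup.zpowers a).index = 2 := by
    have h1 := Subgroup.card_mul_index (Subgroup.zpowers a)
    rw [hAc, hX] at h1
    omega
  haveI hAn : (Subgroup.zpowers a).Normal := Subgroup.normal_of_index_eq_two hAi
  have hinvA : ∀ y ∈ Subgroup.zpowers a, orderOf y = 2 → y = a ^ 2 := by
    intro y hy hy2
    obtain ⟨k, hk⟩ := hy
    have hk' : a ^ k = y := hk
    rcases zpow_cases4 a h4 k with h1 | h1 | h1 | h1
    · rw [← hk', h1, orderOf_one] at hy2; omega
    · rw [← hk', h1, ha] at hy2; omega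
    · rw [← hk', h1]
    · rw [← hk', h1, orderOf_inv, ha] at hy2; omega
  obtain ⟨b, hb2, hbA⟩ : ∃ b : X, orderOf b = 2 ∧ b ∉ Subgroup.zpowers a := by
    by_cases hsA : s ∈ Subgroup.zpowers a
    · refine ⟨t, ht, fun htA => hst ?_⟩
      rw [hinvA s hsA hs, hinvA t htA ht]
    · exact ⟨s, hs, hsA⟩
  have hbb : b * b = 1 := by rw [← pow_two, ← hb2]; exact pow_orderOf_eq_one b
  have hcA : b * a * b⁻¹ ∈ Subgroup.zpowers a := hAn.conj_mem a (Subgroup.mem_zpowers a) b
  have hco : orderOf (b * a * b⁻¹) = 4 := by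
    rw [← SemiconjBy.orderOf_eq b (SemiconjBy.conj_mk b a)]
    exact ha
  have hconj : b * a * b⁻¹ = a⁻¹ := by
    obtain ⟨k, hk⟩ := hcA
    have hk' : a ^ k = b * a * b⁻¹ := hk
    rcases zpow_cases4 a h4 k with h1 | h1 | h1 | h1
    · rw [← hk', h1, orderOf_one] at hco; omega
    · exfalso
      have hab : b * a = a * b := by
        have h5 : b * a * b⁻¹ = a := by rw [← hk', h1]
        have h6 := congrArg (fun u => u * b) h5
        simpa [mul_assoc] using h6
      apply hnc
      have hca : ∀ x : X, a * x = x * a ∧ b * x = x * b := by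
        intro x
        by_cases hx : x ∈ Subgroup.zpowers a
        · obtain ⟨j, rfl⟩ := hx
          exact ⟨((Commute.refl a).zpow_right j).eq,
            ((show Commute b a from hab).zpow_right j).eq⟩
        · have h7 : b * x ∈ Subgroup.zpowers a :=
            (Subgroup.mul_mem_iff_of_index_two hAi).2 (iff_of_false hbA hx)
          obtain ⟨j, hj⟩ := h7
          have hj' : a ^ j = b * x := hj
          have hx' : x = b * a ^ j := by rw [hj', ← mul_assoc, hbb, one_mul]
          have c1 : Commute a (b * a ^ j) :=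
            (show Commute a b from hab.symm).mul_right ((Commute.refl a).zpow_right j)
          have c2 : Commute b (b * a ^ j) :=
            (Commute.refl b).mul_right ((show Commute b a from hab).zpow_right j)
          rw [hx']
          exact ⟨c1.eq, c2.eq⟩
      intro x y
      by_cases hx : x ∈ Subgroup.zpowers a
      · obtain ⟨j, rfl⟩ := hx
        exact ((show Commute a y from (hca y).1).zpow_left j).eq
      · have h7 : b * x ∈ Subgroup.zpowers a :=
          (Subgroup.mul_mem_iff_of_index_two hAi).2 (iff_of_false hbA hx)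
        obtain ⟨j, hj⟩ := h7
        have hj' : a ^ j = b * x := hj
        have hx' : x = b * a ^ j := by rw [hj', ← mul_assoc, hbb, one_mul]
        rw [hx']
        exact ((show Commute b y from (hca y).2).mul_left
          ((show Commute a y from (hca y).1).zpow_left j)).eq
    · rw [← hk', h1] at hco
      have h5 : orderOf (a ^ 2) ∣ 2 :=
        orderOf_dvd_of_pow_eq_one (by rw [← pow_mul]; exact h4)
      rw [hco] at h5
      omega
    · rw [← hk', h1]
  exact Cfsg.Agent.Lib.Helper6.nonempty_mulEquiv_dihedral_of_rel 4 (by norm_num) a b ha hbA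
    (by rw [pow_two]; exact hbb) hconj (by rw [hX])

section main
variable {G : Type*} [Group G] [Finite G]

theorem ncard_nonid_ge_of_TI {p : ℕ} [hp : Fact p.Prime] (q : ℕ)
    (hq : ∀ P : Sylow p G, Nat.card (P : Subgroup G) = q)
    (hTI : ∀ (P P' : Sylow p G) (g : G), g ∈ (P : Subgroup G) → g ∈ (P' : Subgroup G) →
      g ≠ 1 → P = P') :
    Nat.card (Sylow p G) * (q - 1) ≤
      {g : G | g ≠ 1 ∧ ∃ P : Sylow p G, g ∈ (P : Subgroup G)}.ncard := by
  classical
  have := Fintype.ofFinite (Sylow p G)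
  have := Fintype.ofFinite G
  let A : Sylow p G → Finset G := fun R =>
    Finset.univ.filter (fun g => g ∈ (R : Subgroup G) ∧ g ≠ 1)
  have hA : ∀ R : Sylow p G, (A R).card = q - 1 := by
    intro R
    have h1 : A R = (Finset.univ.filter (fun g => g ∈ (R : Subgroup G))).erase 1 := by
      ext g
      simp [A, and_comm]
    have h2 : (Finset.univ.filter (fun g : G => g ∈ (R : Subgroup G))).card = q := by
      have h5 : ((Finset.univ.filter (fun g : G => g ∈ (R : Subgroup G)) : Finset G) : Set G)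
          = ((R : Subgroup G) : Set G) := by
        ext g; simp
      rw [← Set.ncard_coe_finset, h5, ← Nat.card_coe_set_eq]
      exact hq R
    rw [h1, Finset.card_erase_of_mem (by simp), h2]
  have hdisj : ∀ R ∈ (Finset.univ : Finset (Sylow p G)),
      ∀ R' ∈ (Finset.univ : Finset (Sylow p G)), R ≠ R' → Disjoint (A R) (A R') := by
    intro R _ R' _ hne
    rw [Finset.disjoint_left]
    intro g hg hg'
    simp only [A, Finset.mem_filter, Finset.mem_univ, true_and] at hg hg'
    exact hne (hTI R R' g hg.1 hg'.1 hg.2)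
  have hsub : (((Finset.univ : Finset (Sylow p G)).biUnion A : Finset G) : Set G) ⊆
      {g : G | g ≠ 1 ∧ ∃ P : Sylow p G, g ∈ (P : Subgroup G)} := by
    intro g hg
    simp only [Finset.coe_biUnion, Finset.coe_univ, Set.mem_univ, Set.iUnion_true,
      Set.mem_iUnion, Finset.mem_coe] at hg
    obtain ⟨R, hgR⟩ := hg
    simp only [A, Finset.mem_filter, Finset.mem_univ, true_and] at hgR
    exact ⟨hgR.2, R, hgR.1⟩
  calc Nat.card (Sylow p G) * (q - 1)
      = ((Finset.univ : Finset (Sylow p G)).biUnion A).card := by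
        rw [Finset.card_biUnion hdisj, Finset.sum_congr rfl (fun R _ => hA R), Finset.sum_const,
          Finset.card_univ, Nat.card_eq_fintype_card, smul_eq_mul]
    _ = (((Finset.univ : Finset (Sylow p G)).biUnion A : Finset G) : Set G).ncard :=
        (Set.ncard_coe_finset _).symm
    _ ≤ _ := Set.ncard_le_ncard hsub (Set.toFinite _)

variable [IsSimpleGroup G]

theorem two_invol (h : Nat.card G = 168) (T : Sylow 2 G) :
    ∃ s t : G, s ∈ (T : Subgroup G) ∧ t ∈ (T : Subgroup G) ∧ orderOf s = 2 ∧ orderOf t = 2 ∧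
      s ≠ t := by
  by_contra hcon
  have huniq : ∀ s t : G, s ∈ (T : Subgroup G) → t ∈ (T : Subgroup G) → orderOf s = 2 →
      orderOf t = 2 → s = t := by
    intro s t hs ht hs2 ht2
    by_contra hne
    exact hcon ⟨s, t, hs, ht, hs2, ht2, hne⟩
  have hconjord : ∀ g s : G, orderOf (g⁻¹ * s * g) = orderOf s := by
    intro g s
    have h1 := SemiconjBy.orderOf_eq g⁻¹ (SemiconjBy.conj_mk g⁻¹ s)
    rw [inv_inv] at h1
    exact h1.symm
  have huniq' : ∀ (T' : Sylow 2 G) (s t : G), s ∈ (T' : Subgroup G) → t ∈ (T' : Subgroup G) →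
      orderOf s = 2 → orderOf t = 2 → s = t := by
    intro T' s t hs ht hs2 ht2
    obtain ⟨g, hg⟩ := MulAction.exists_smul_eq G T T'
    rw [← hg, mem_smul_sylow] at hs ht
    have h1 := huniq _ _ hs ht (by rw [hconjord, hs2]) (by rw [hconjord, ht2])
    have h2 := congrArg (fun u => g * u * g⁻¹) h1
    simpa [mul_assoc] using h2
  have hTI : ∀ (T₁ T₂ : Sylow 2 G) (y : G), y ∈ (T₁ : Subgroup G) → y ∈ (T₂ : Subgroup G) →
      y ≠ 1 → T₁ = T₂ := by
    intro T₁ T₂ y h1 h2 hy1
    have hd : orderOf y ∣ 2 ^ 3 := by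
      have h3 := Subgroup.orderOf_dvd_natCard _ h1
      rwa [card2 h T₁] at h3
    obtain ⟨k, hk3, hk⟩ := (Nat.dvd_prime_pow Nat.prime_two).1 hd
    have hk0 : k ≠ 0 := by
      rintro rfl
      rw [pow_zero, orderOf_eq_one_iff] at hk
      exact hy1 hk
    obtain ⟨j, rfl⟩ : ∃ j, k = j + 1 := ⟨k - 1, by omega⟩
    have hw2 : orderOf (y ^ (2 ^ j)) = 2 := by
      rw [orderOf_pow_of_dvd (by positivity) (by rw [hk]; exact pow_dvd_pow 2 (by omega)), hk,
        pow_succ]
      exact Nat.mul_div_cancel_left _ (by positivity)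
    have hw1 : y ^ (2 ^ j) ∈ (T₁ : Subgroup G) := Subgroup.pow_mem _ h1 _
    have hw2' : y ^ (2 ^ j) ∈ (T₂ : Subgroup G) := Subgroup.pow_mem _ h2 _
    generalize y ^ (2 ^ j) = w at hw2 hw1 hw2'
    have hwne : w ≠ 1 := by
      intro h0
      rw [h0, orderOf_one] at hw2
      omega
    have hcen : ∀ (T' : Sylow 2 G), w ∈ (T' : Subgroup G) →
        ∀ t ∈ (T' : Subgroup G), t * w = w * t := by
      intro T' hwT t ht
      have h3 : t * w * t⁻¹ ∈ (T' : Subgroup G) :=
        Subgroup.mul_mem _ (Subgroup.mul_mem _ ht hwT) (Subgroup.inv_mem _ ht)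
      have h4 : orderOf (t * w * t⁻¹) = 2 := by
        rw [← SemiconjBy.orderOf_eq t (SemiconjBy.conj_mk t w)]
        exact hw2
      have h5 := huniq' T' _ _ h3 hwT h4 hw2
      have h6 := congrArg (fun u => u * t) h5
      simpa [mul_assoc] using h6
    have hc1 := cent_invol h T₁ hw1 hwne (hcen T₁ hw1)
    have hc2 := cent_invol h T₂ hw2' hwne (hcen T₂ hw2')
    exact Sylow.ext (hc1.symm.trans hc2)
  have hge2 := ncard_nonid_ge_of_TI (G := G) (p := 2) 8 (card2 h) hTI
  have hge7 := Syl21.card_orderOf_ge (G := G) (q := 7) (card7 h)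
  rw [n7 h] at hge7
  rw [n2 h] at hge2
  have hdisj : Disjoint {g : G | g ≠ 1 ∧ ∃ P : Sylow 2 G, g ∈ (P : Subgroup G)}
      {g : G | orderOf g = 7} := by
    rw [Set.disjoint_left]
    rintro g ⟨_, P, hP⟩ h7
    have h7' : orderOf g = 7 := h7
    have h3 := Subgroup.orderOf_dvd_natCard _ hP
    rw [card2 h P, h7'] at h3
    omega
  have hun := Set.ncard_union_eq hdisj (Set.toFinite _) (Set.toFinite _)
  have hsub : ({g : G | g ≠ 1 ∧ ∃ P : Sylow 2 G, g ∈ (P : Subgroup G)} ∪
      {g : G | orderOf g = 7}) ⊆ ({1}ᶜ : Set G) := by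
    rintro g (⟨h1, _⟩ | h7)
    · exact h1
    · intro h1
      have h1' : g = 1 := h1
      have h7' : orderOf g = 7 := h7
      rw [h1', orderOf_one] at h7'
      omega
  have hle := Set.ncard_le_ncard hsub (Set.toFinite _)
  have hcount : ({1}ᶜ : Set G).ncard = 167 := by
    rw [Set.ncard_compl, Set.ncard_singleton, h]
  omega

theorem main1004 (h : Nat.card G = 168) (T : Sylow 2 G) :
    Nonempty (↥(T : Subgroup G) ≃* DihedralGroup 4) ∧
      Subgroup.normalizer ((T : Subgroup G) : Set G) = T ∧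
      ∀ z : G, z ∈ (T : Subgroup G) → z ≠ 1 → (∀ t ∈ (T : Subgroup G), t * z = z * t) →
        Subgroup.centralizer ({z} : Set G) = T := by
  refine ⟨?_, N2 h T, fun z hz hz1 hc => cent_invol h T hz hz1 hc⟩
  obtain ⟨s, t, hs, ht, hs2, ht2, hst⟩ := two_invol h T
  apply dih_of_card8 (X := ↥(T : Subgroup G)) (card2 h T) ?_ ⟨s, hs⟩ ⟨t, ht⟩ ?_ ?_ ?_
  · intro hc
    apply not_comm2 h T
    intro x hx y hy
    exact congrArg Subtype.val (hc ⟨x, hx⟩ ⟨y, hy⟩)
  · rw [← Subgroup.orderOf_coe]; exact hs2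
  · rw [← Subgroup.orderOf_coe]; exact ht2
  · intro he; exact hst (congrArg Subtype.val he)

end main


/-- Let G be a simple group of order 168 and T a Sylow 2-subgroup. Then T is dihedral of order 8, T is its own normalizer, and T is the centralizer of any non-identity element of T that commutes with every element of T. -/
theorem result {G : Type*} [Group G] [Finite G] [IsSimpleGroup G] (h : Nat.card G = 168) (T : Sylow 2 G) : Nonempty (↥(T : Subgroup G) ≃* DihedralGroup 4) ∧ Subgroup.normalizer ((T : Subgroup G) : Set G) = T ∧ ∀ z : G, z ∈ (T : Subgroup G) → z ≠ 1 → (∀ t ∈ (T : Subgroup G), t * z = z * t) → Subgroup.centralizer ({z} : Set G) = T := by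
  exact main1004 h T

end Cfsg.Agent.S1004
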