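import Cfsg.Statements.S1236
import Mathlib

set_option autoImplicit false
open Cfsg

namespace Cfsg.Agent.S1236

set_option maxRecDepth 100000
open Cfsg

/-- a group has a "good" index-two subgroup -/
def Good (D : Type*) [Group D] (C : Subgroup D) : Prop :=
  (∀ a b, a ∉ C → b ∉ C → a * b ∈ C) ∧
  (∀ c₁ ∈ C, ∀ c₂ ∈ C, c₁ * c₁ = 1 → c₂ * c₂ = 1 → c₁ ≠ 1 → c₂ ≠ 1 → c₁ = c₂) ∧
  (∀ g, g ∉ C → ∀ c₁ ∈ C, ∀ c₂ ∈ C, c₁ ≠ 1 → c₂ ≠ 1 → c₁ * g = g * c₁ → c₂ * g = g * c₂ → c₁ = c₂)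

theorem centralizer_four {D : Type*} [Group D] (C V : Subgroup D) (hC : Good D C)
    (hV1 : ∀ v ∈ V, v * v = 1) (hV2 : ∀ v ∈ V, ∀ w ∈ V, v * w = w * v)
    (v1 v2 : D) (hv1 : v1 ∈ V) (hv2 : v2 ∈ V) (h11 : v1 ≠ 1) (h21 : v2 ≠ 1) (h12 : v1 ≠ v2) :
    Subgroup.centralizer (V : Set D) ≤ V := by
  obtain ⟨h1, h2, h3⟩ := hC
  -- find v ∈ V \ C and w ∈ V, w ≠ 1, w ≠ v
  have hvw : ∃ v ∈ V, v ∉ C ∧ ∃ w ∈ V, w ≠ 1 ∧ w ≠ v := by
    by_cases hc1 : v1 ∈ C
    · by_cases hc2 : v2 ∈ C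
      · exact absurd (h2 v1 hc1 v2 hc2 (hV1 v1 hv1) (hV1 v2 hv2) h11 h21) h12
      · exact ⟨v2, hv2, hc2, v1, hv1, h11, h12⟩
    · exact ⟨v1, hv1, hc1, v2, hv2, h21, fun h => h12 h.symm⟩
  obtain ⟨v, hv, hvC, w, hw, hw1, hwv⟩ := hvw
  have hz : ∃ z ∈ V, z ∈ C ∧ z ≠ 1 := by
    by_cases hwC : w ∈ C
    · exact ⟨w, hw, hwC, hw1⟩
    · refine ⟨w * v, V.mul_mem hw hv, h1 w v hwC hvC, ?_⟩
      intro h
      apply hwv
      have hvv := hV1 v hv
      calc w = w * (v * v) := by rw [hvv, mul_one]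
        _ = (w * v) * v := by rw [mul_assoc]
        _ = v := by rw [h, one_mul]
  obtain ⟨z, hzV, hzC, hz1⟩ := hz
  have hzv : z * v = v * z := hV2 z hzV v hv
  intro g hg
  have hgv : g * v = v * g := ((Subgroup.mem_centralizer_iff.1 hg) v hv).symm
  by_cases hgC : g ∈ C
  · by_cases hg1 : g = 1
    · rw [hg1]; exact V.one_mem
    · have := h3 v hvC g hgC z hzC hg1 hz1 hgv hzv
      rw [this]; exact hzV
  · have hc : g * v ∈ C := h1 g v hgC hvC
    have hcv : (g * v) * v = v * (g * v) := by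
      calc (g * v) * v = (v * g) * v := by rw [hgv]
        _ = v * (g * v) := mul_assoc _ _ _
    by_cases hc1 : g * v = 1
    · have : g = v⁻¹ := eq_inv_of_mul_eq_one_left hc1
      rw [this]; exact V.inv_mem hv
    · have := h3 v hvC (g * v) hc z hzC hc1 hz1 hcv hzv
      have hg' : g = z * v⁻¹ := by rw [← this, mul_inv_cancel_right]
      rw [hg']; exact V.mul_mem hzV (V.inv_mem hv)


theorem zmod_two_torsion {m : ℕ} [NeZero m] (i j : ZMod m) (hi : i + i = 0) (hj : j + j = 0)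
    (hi0 : i ≠ 0) (hj0 : j ≠ 0) : i = j := by
  have key : ∀ k : ZMod m, k + k = 0 → k ≠ 0 → 2 * k.val = m := by
    intro k hk hk0
    have h1 : ((2 * k.val : ℕ) : ZMod m) = 0 := by
      push_cast
      rw [ZMod.natCast_zmod_val, two_mul]; exact hk
    have h2 : m ∣ 2 * k.val := (ZMod.natCast_eq_zero_iff _ _).1 h1
    have h3 : k.val < m := ZMod.val_lt k
    have h4 : 0 < k.val := by
      rcases Nat.eq_zero_or_pos k.val with h | h
      · exact absurd ((ZMod.val_eq_zero k).1 h) hk0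
      · exact h
    obtain ⟨c, hc⟩ := h2
    have : c = 1 := by
      rcases c with _ | _ | c
      · omega
      · rfl
      · exfalso
        have : m * (c + 1 + 1) ≥ m * 2 := Nat.mul_le_mul_left _ (by omega)
        omega
    rw [hc, this, mul_one]
  apply ZMod.val_injective
  have := key i hi hi0
  have := key j hj hj0
  omega

def rot (m : ℕ) : Subgroup (DihedralGroup m) where
  carrier := Set.range DihedralGroup.r
  mul_mem' := by
    rintro _ _ ⟨i, rfl⟩ ⟨j, rfl⟩
    exact ⟨i + j, (DihedralGroup.r_mul_r i j).symm⟩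
  one_mem' := ⟨0, DihedralGroup.r_zero⟩
  inv_mem' := by
    rintro _ ⟨i, rfl⟩
    exact ⟨-i, (DihedralGroup.inv_r i).symm⟩

theorem mem_rot {m : ℕ} (g : DihedralGroup m) : g ∈ rot m ↔ ∃ i, DihedralGroup.r i = g := Iff.rfl

theorem not_mem_rot {m : ℕ} (g : DihedralGroup m) (h : g ∉ rot m) : ∃ i, g = DihedralGroup.sr i := by
  cases g with
  | r i => exact absurd ⟨i, rfl⟩ h
  | sr i => exact ⟨i, rfl⟩

theorem good_dihedral (m : ℕ) [NeZero m] : Good (DihedralGroup m) (rot m) := by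
  refine ⟨?_, ?_, ?_⟩
  · intro a b ha hb
    obtain ⟨i, rfl⟩ := not_mem_rot a ha
    obtain ⟨j, rfl⟩ := not_mem_rot b hb
    exact ⟨j - i, (DihedralGroup.sr_mul_sr i j).symm⟩
  · rintro _ ⟨i, rfl⟩ _ ⟨j, rfl⟩ hi hj hi1 hj1
    rw [DihedralGroup.r_mul_r, DihedralGroup.one_def] at hi hj
    have hi' : i + i = 0 := DihedralGroup.r.inj hi
    have hj' : j + j = 0 := DihedralGroup.r.inj hj
    have hi0 : i ≠ 0 := by
      rintro rfl; exact hi1 DihedralGroup.r_zero
    have hj0 : j ≠ 0 := by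
      rintro rfl; exact hj1 DihedralGroup.r_zero
    rw [zmod_two_torsion i j hi' hj' hi0 hj0]
  · intro g hg
    obtain ⟨k, rfl⟩ := not_mem_rot g hg
    rintro _ ⟨i, rfl⟩ _ ⟨j, rfl⟩ hi1 hj1 hi hj
    rw [DihedralGroup.r_mul_sr, DihedralGroup.sr_mul_r] at hi hj
    have hi' : k - i = k + i := DihedralGroup.sr.inj hi
    have hj' : k - j = k + j := DihedralGroup.sr.inj hj
    have hi'' : i + i = 0 := by
      have : (k + i) - (k - i) = 0 := by rw [hi', sub_self]
      rw [← this]; ring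
    have hj'' : j + j = 0 := by
      have : (k + j) - (k - j) = 0 := by rw [hj', sub_self]
      rw [← this]; ring
    have hi0 : i ≠ 0 := by
      rintro rfl; exact hi1 DihedralGroup.r_zero
    have hj0 : j ≠ 0 := by
      rintro rfl; exact hj1 DihedralGroup.r_zero
    rw [zmod_two_torsion i j hi'' hj'' hi0 hj0]

theorem good_of_equiv {D E : Type*} [Group D] [Group E] (e : D ≃* E) (C : Subgroup E)
    (hC : Good E C) : Good D (C.comap e.toMonoidHom) := by
  obtain ⟨h1, h2, h3⟩ := hC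
  refine ⟨?_, ?_, ?_⟩
  · intro a b ha hb
    rw [Subgroup.mem_comap] at ha hb ⊢
    rw [map_mul]
    exact h1 _ _ ha hb
  · intro c₁ hc₁ c₂ hc₂ e1 e2 n1 n2
    rw [Subgroup.mem_comap] at hc₁ hc₂
    apply e.injective
    apply h2 _ hc₁ _ hc₂
    · have := congrArg e e1
      rwa [map_mul, map_one] at this
    · have := congrArg e e2
      rwa [map_mul, map_one] at this
    · intro h; exact n1 (e.injective (h.trans (map_one e).symm))
    · intro h; exact n2 (e.injective (h.trans (map_one e).symm))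
  · intro g hg c₁ hc₁ c₂ hc₂ n1 n2 e1 e2
    rw [Subgroup.mem_comap] at hg hc₁ hc₂
    apply e.injective
    apply h3 _ hg _ hc₁ _ hc₂
    · intro h; exact n1 (e.injective (h.trans (map_one e).symm))
    · intro h; exact n2 (e.injective (h.trans (map_one e).symm))
    · have := congrArg e e1
      rwa [map_mul, map_mul] at this
    · have := congrArg e e2
      rwa [map_mul, map_mul] at this


theorem good_qd {S : Type*} [Group S] [Finite S] (h : IsQuasiDihedral S) :
    ∃ C : Subgroup S, Good S C := by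
  obtain ⟨n, hn, hcard, x, y, hx, hy, hxy⟩ := h
  obtain ⟨k, rfl⟩ : ∃ k, n = k + 3 := ⟨n - 3, by omega⟩
  obtain ⟨N, hN⟩ : ∃ N, N = 2 ^ (k + 1) := ⟨_, rfl⟩
  have hNpos : 2 ≤ N := by
    rw [hN, pow_succ]
    have : 1 ≤ 2 ^ k := Nat.one_le_two_pow
    omega
  have e1 : 2 ^ (k + 3) = 4 * N := by rw [hN]; ring
  have e2 : 2 ^ (k + 3 - 1) - 1 = 2 * N - 1 := by
    have : k + 3 - 1 = k + 2 := by omega
    rw [this, hN]; ring_nf
  have e3 : 2 ^ (k + 3 + 1) = 8 * N := by rw [hN]; ring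
  rw [e1] at hx
  rw [e2] at hxy
  rw [e3] at hcard
  have hcop : Nat.Coprime (2 * N) (N - 1) := by
    have h2N : 2 * N = 2 ^ (k + 2) := by rw [hN]; ring
    rw [h2N]
    apply Nat.Coprime.pow_left
    rw [Nat.coprime_two_left]
    refine ⟨2 ^ k - 1, ?_⟩
    have : 1 ≤ 2 ^ k := Nat.one_le_two_pow
    rw [hN, pow_succ]; omega
  have hconj : ∀ j : ℕ, y * x ^ j * y⁻¹ = x ^ ((2 * N - 1) * j) := by
    intro j
    rw [← conj_pow, hxy, pow_mul]
  -- commuting with y forces 2N | j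
  have L : ∀ j : ℕ, x ^ j * y = y * x ^ j → 2 * N ∣ j := by
    intro j hj
    have h1 : y * x ^ j * y⁻¹ = x ^ j := by rw [← hj, mul_inv_cancel_right]
    rw [hconj] at h1
    have h2 : (2 * N - 1) * j ≡ j [MOD 4 * N] := by
      rw [← hx]; exact pow_eq_pow_iff_modEq.1 h1
    have h3 : 4 * N ∣ (2 * N - 1) * j - j :=
      (Nat.modEq_iff_dvd' (by nlinarith [Nat.sub_add_cancel (show 1 ≤ 2 * N by omega)] : j ≤ (2 * N - 1) * j)).1 h2.symm
    have h4 : (2 * N - 1) * j - j = 2 * ((N - 1) * j) := by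
      obtain ⟨M, rfl⟩ : ∃ M, N = M + 1 := ⟨N - 1, by omega⟩
      have : 2 * (M + 1) - 1 = 2 * M + 1 := by omega
      rw [this, Nat.add_sub_cancel]
      have : (2 * M + 1) * j = 2 * (M * j) + j := by ring
      rw [this, Nat.add_sub_cancel]
    rw [h4] at h3
    have h5 : 2 * N ∣ (N - 1) * j := by
      have : 4 * N = 2 * (2 * N) := by ring
      rw [this] at h3
      exact Nat.dvd_of_mul_dvd_mul_left (by norm_num) h3
    exact hcop.dvd_of_dvd_mul_left h5
  have hz2 : (x ^ (2 * N)) ^ 2 = 1 := by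
    rw [← pow_mul]
    have : 2 * N * 2 = 4 * N := by ring
    rw [this, ← hx, pow_orderOf_eq_one]
  have M : ∀ j : ℕ, 2 * N ∣ j → x ^ j = 1 ∨ x ^ j = x ^ (2 * N) := by
    rintro j ⟨q, rfl⟩
    rw [pow_mul]
    rcases Nat.even_or_odd' q with ⟨r, rfl | rfl⟩
    · left
      rw [pow_mul, hz2, one_pow]
    · right
      rw [pow_succ, pow_mul, hz2, one_pow, one_mul]
  let C := Subgroup.zpowers x
  have hCcard : Nat.card C = 4 * N := by rw [Nat.card_zpowers, hx]
  have hidx : C.index = 2 := by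
    have := C.card_mul_index
    rw [hCcard, hcard] at this
    have h8 : 8 * N = 4 * N * 2 := by ring
    rw [h8] at this
    exact Nat.eq_of_mul_eq_mul_left (by omega) this
  have hpow : ∀ c ∈ C, ∃ j : ℕ, x ^ j = c := by
    intro c hc
    have : c ∈ Submonoid.powers x := mem_powers_iff_mem_zpowers.2 hc
    exact (Submonoid.mem_powers_iff _ _).1 this
  have hyC : y ∉ C := by
    intro hyC
    obtain ⟨i, hi⟩ := hpow y hyC
    have h1 : x ^ 1 * y = y * x ^ 1 := by
      rw [← hi, ← pow_add, ← pow_add, add_comm]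
    have := L 1 h1
    have := Nat.le_of_dvd (by norm_num) this
    omega
  -- centralizer of y in C
  have hcy : ∀ c ∈ C, c * y = y * c → c = 1 ∨ c = x ^ (2 * N) := by
    intro c hc hcy
    obtain ⟨j, rfl⟩ := hpow c hc
    exact M j (L j hcy)
  refine ⟨C, ?_, ?_, ?_⟩
  · intro a b ha hb
    exact (Subgroup.mul_mem_iff_of_index_two hidx).2 (iff_of_false ha hb)
  · have hsq : ∀ c ∈ C, c * c = 1 → c = 1 ∨ c = x ^ (2 * N) := by
      intro c hc hcc
      obtain ⟨j, rfl⟩ := hpow c hc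
      apply M
      rw [← pow_add] at hcc
      have h1 : 4 * N ∣ j + j := by rw [← hx]; exact orderOf_dvd_of_pow_eq_one hcc
      have h2 : 4 * N = 2 * (2 * N) := by ring
      have h3 : j + j = 2 * j := by ring
      rw [h2, h3] at h1
      exact Nat.dvd_of_mul_dvd_mul_left (by norm_num) h1
    intro c₁ hc₁ c₂ hc₂ e1 e2 n1 n2
    rcases hsq c₁ hc₁ e1 with h | h
    · exact absurd h n1
    · rcases hsq c₂ hc₂ e2 with h' | h'
      · exact absurd h' n2
      · rw [h, h']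
  · intro g hg
    have hyg : y⁻¹ * g ∈ C := by
      apply (Subgroup.mul_mem_iff_of_index_two hidx).2
      apply iff_of_false _ hg
      intro h; exact hyC (by simpa using C.inv_mem h)
    obtain ⟨i, hi⟩ := hpow _ hyg
    have hg' : g = y * x ^ i := by rw [hi, mul_inv_cancel_left]
    have hred : ∀ c ∈ C, c * g = g * c → c * y = y * c := by
      intro c hc hcg
      obtain ⟨j, rfl⟩ := hpow c hc
      rw [hg'] at hcg
      have h1 : x ^ j * y * x ^ i = y * x ^ j * x ^ i := by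
        calc x ^ j * y * x ^ i = x ^ j * (y * x ^ i) := by rw [mul_assoc]
          _ = y * x ^ i * x ^ j := hcg
          _ = y * (x ^ i * x ^ j) := by rw [mul_assoc]
          _ = y * (x ^ j * x ^ i) := by rw [← pow_add, ← pow_add, add_comm]
          _ = y * x ^ j * x ^ i := by rw [mul_assoc]
      exact mul_right_cancel h1
    intro c₁ hc₁ c₂ hc₂ n1 n2 e1 e2
    rcases hcy c₁ hc₁ (hred c₁ hc₁ e1) with h | h
    · exact absurd h n1
    · rcases hcy c₂ hc₂ (hred c₂ hc₂ e2) with h' | h'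
      · exact absurd h' n2
      · rw [h, h']


theorem exists_mem_not_mem_finset {G : Type*} [Group G] (A : Subgroup G) (S : Finset G)
    (h : S.card < Nat.card A) : ∃ a ∈ A, a ∉ S := by
  by_contra hcon
  push Not at hcon
  have hsub : (A : Set G) ⊆ (S : Set G) := fun a ha => hcon a ha
  have h1 : (A : Set G).ncard ≤ S.card := by
    calc (A : Set G).ncard ≤ (S : Set G).ncard := Set.ncard_le_ncard hsub (Finset.finite_toSet _)
      _ = S.card := Set.ncard_coe_finset _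
  rw [← Nat.card_coe_set_eq] at h1
  exact absurd h1 (not_le.2 h)

theorem main1236 {R : Type*} [Group R] [Finite R] (t : R) (ht : orderOf t = 2) (htz : t ∈ Subgroup.center R) [(Subgroup.zpowers t).Normal] (hq : (∃ m : ℕ, 2 ≤ m ∧ Nonempty (R ⧸ Subgroup.zpowers t ≃* DihedralGroup m)) ∨ Cfsg.IsQuasiDihedral (R ⧸ Subgroup.zpowers t)) (A : Subgroup R) (hA : Cfsg.IsElementaryAbelian 2 A) (hA8 : Nat.card A = 8) (htA : t ∈ A) : Subgroup.centralizer (A : Set R) = A := by
  classical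
  obtain ⟨hAcomm, hAexp⟩ := hA
  have hAc : ∀ a ∈ A, ∀ b ∈ A, a * b = b * a := by
    intro a ha b hb
    have := hAcomm.is_comm.comm ⟨a, ha⟩ ⟨b, hb⟩
    exact congrArg Subtype.val this
  apply le_antisymm _ (fun a ha => Subgroup.mem_centralizer_iff.2 (fun b hb => hAc b hb a ha))
  have hgood : ∃ C : Subgroup (R ⧸ Subgroup.zpowers t), Good (R ⧸ Subgroup.zpowers t) C := by
    rcases hq with ⟨m, hm, ⟨e⟩⟩ | hq
    · haveI : NeZero m := ⟨by omega⟩
      exact ⟨_, good_of_equiv e _ (good_dihedral m)⟩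
    · exact good_qd hq
  obtain ⟨C, hC⟩ := hgood
  let π := QuotientGroup.mk' (Subgroup.zpowers t)
  have hker : ∀ r : R, π r = 1 ↔ r = 1 ∨ r = t := by
    intro r
    rw [QuotientGroup.mk'_apply, QuotientGroup.eq_one_iff]
    constructor
    · intro h
      obtain ⟨j, rfl⟩ := (Submonoid.mem_powers_iff _ _).1 (mem_powers_iff_mem_zpowers.2 h)
      rcases Nat.even_or_odd' j with ⟨q, rfl | rfl⟩
      · left; rw [pow_mul, ← ht, pow_orderOf_eq_one, one_pow]
      · right; rw [pow_succ, pow_mul, ← ht, pow_orderOf_eq_one, one_pow, one_mul]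
    · rintro (rfl | rfl)
      · exact Subgroup.one_mem _
      · exact Subgroup.mem_zpowers _
  obtain ⟨a1, ha1, ha1'⟩ := exists_mem_not_mem_finset A {1, t}
    (by rw [hA8]; exact lt_of_le_of_lt Finset.card_le_two (by norm_num))
  obtain ⟨a2, ha2, ha2'⟩ := exists_mem_not_mem_finset A {1, t, a1, a1 * t}
    (by rw [hA8]; exact lt_of_le_of_lt Finset.card_le_four (by norm_num))
  simp only [Finset.mem_insert, Finset.mem_singleton, not_or] at ha1' ha2'
  have h11 : π a1 ≠ 1 := by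
    intro h
    rcases (hker a1).1 h with h | h
    · exact ha1'.1 h
    · exact ha1'.2 h
  have h21 : π a2 ≠ 1 := by
    intro h
    rcases (hker a2).1 h with h | h
    · exact ha2'.1 h
    · exact ha2'.2.1 h
  have h12 : π a1 ≠ π a2 := by
    intro h
    have h' : π (a1⁻¹ * a2) = 1 := by rw [map_mul, map_inv, h, inv_mul_cancel]
    rcases (hker _).1 h' with h | h
    · exact ha2'.2.2.1 (inv_mul_eq_one.1 h).symm
    · exact ha2'.2.2.2 (by rw [← h, mul_inv_cancel_left])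
  have hV1 : ∀ v ∈ A.map π, v * v = 1 := by
    rintro _ ⟨a, ha, rfl⟩
    rw [← map_mul, ← pow_two, hAexp a ha, map_one]
  have hV2 : ∀ v ∈ A.map π, ∀ w ∈ A.map π, v * w = w * v := by
    rintro _ ⟨a, ha, rfl⟩ _ ⟨b, hb, rfl⟩
    rw [← map_mul, ← map_mul, hAc a ha b hb]
  have hcen := centralizer_four C (A.map π) hC hV1 hV2 (π a1) (π a2) ⟨a1, ha1, rfl⟩ ⟨a2, ha2, rfl⟩
    h11 h21 h12
  intro x hx
  have hxV : π x ∈ Subgroup.centralizer ((A.map π : Subgroup _) : Set (R ⧸ Subgroup.zpowers t)) := by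
    rw [Subgroup.mem_centralizer_iff]
    rintro _ ⟨a, ha, rfl⟩
    rw [← map_mul, ← map_mul, (Subgroup.mem_centralizer_iff.1 hx) a ha]
  obtain ⟨a, ha, hax⟩ := hcen hxV
  have h1 : π (a⁻¹ * x) = 1 := by rw [map_mul, map_inv, hax, inv_mul_cancel]
  rcases (hker _).1 h1 with h | h
  · have : x = a := (inv_mul_eq_one.1 h).symm
    rw [this]; exact ha
  · have : x = a * t := by rw [← h, mul_inv_cancel_left]
    rw [this]; exact A.mul_mem ha htA


/-- Let R be a finite group, t a central involution of R such that R ⧸ ⟨t⟩ is dihedral (of order ≥ 4) or quasi-dihedral, and A ≤ R an elementary abelian subgroup of order 8 containing t. Then C_R(A) = A. -/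
theorem result {R : Type*} [Group R] [Finite R] (t : R) (ht : orderOf t = 2) (htz : t ∈ Subgroup.center R) [(Subgroup.zpowers t).Normal] (hq : (∃ m : ℕ, 2 ≤ m ∧ Nonempty (R ⧸ Subgroup.zpowers t ≃* DihedralGroup m)) ∨ Cfsg.IsQuasiDihedral (R ⧸ Subgroup.zpowers t)) (A : Subgroup R) (hA : Cfsg.IsElementaryAbelian 2 A) (hA8 : Nat.card A = 8) (htA : t ∈ A) : Subgroup.centralizer (A : Set R) = A := by
  exact main1236 t ht htz hq A hA hA8 htA

end Cfsg.Agent.S1236
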