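import Cfsg.Statements.S1386
import Mathlib

set_option autoImplicit false
open Cfsg

namespace Cfsg.Agent.S1386

theorem mem_sup_comm {G : Type*} [Group G] (A B : Subgroup G)
    (h : ∀ a ∈ A, ∀ b ∈ B, a * b = b * a) {x : G} (hx : x ∈ A ⊔ B) :
    ∃ a ∈ A, ∃ b ∈ B, x = a * b := by
  rw [Subgroup.sup_eq_closure] at hx
  induction hx using Subgroup.closure_induction with
  | mem x hx =>
    rcases hx with hx | hx
    · exact ⟨x, hx, 1, B.one_mem, by simp⟩
    · exact ⟨1, A.one_mem, x, hx, by simp⟩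
  | one => exact ⟨1, A.one_mem, 1, B.one_mem, by simp⟩
  | mul x y _ _ hx hy =>
    obtain ⟨a, ha, b, hb, rfl⟩ := hx
    obtain ⟨a', ha', b', hb', rfl⟩ := hy
    refine ⟨a * a', A.mul_mem ha ha', b * b', B.mul_mem hb hb', ?_⟩
    have := h a' ha' b hb
    calc a * b * (a' * b') = a * (b * a') * b' := by group
      _ = a * (a' * b) * b' := by rw [this]
      _ = a * a' * (b * b') := by group
  | inv x _ hx =>
    obtain ⟨a, ha, b, hb, rfl⟩ := hx
    refine ⟨a⁻¹, A.inv_mem ha, b⁻¹, B.inv_mem hb, ?_⟩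
    have := h a ha b hb
    rw [this, mul_inv_rev]

theorem main1386 {G : Type*} [Group G] [Finite G] (W₁ W₂ S U W₂' : Subgroup G) (hW : Cfsg.IsSelfNormalizingCyclic W₁ W₂)
    (hSW : Cfsg.IsComplIn ⁅S, S⁆ W₁ S) (hW₂S : W₂ ≤ S) (hP : Cfsg.IsTypePWith S W₁ U W₂') :
    W₂' = W₂ := by
  obtain ⟨hW1ne, hW2ne, hW12, hcomm, hcyc, hN⟩ := hW
  obtain ⟨hW1ne', hW2'ne, hW12', hcomm', hcyc', hN'⟩ := hP.selfNormalizing
  obtain ⟨hS'S, hW1S, hS'W1, hprod⟩ := hSW
  have hW1comm : ∀ x ∈ W₁, ∀ y ∈ W₁, x * y = y * x := by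
    intro x hx y hy
    haveI := hP.W₁_cyclic
    obtain ⟨g, hg⟩ := IsCyclic.exists_generator (α := W₁)
    obtain ⟨i, hi⟩ := Subgroup.mem_zpowers_iff.1 (hg ⟨x, hx⟩)
    obtain ⟨j, hj⟩ := Subgroup.mem_zpowers_iff.1 (hg ⟨y, hy⟩)
    have h := (Commute.zpow_zpow_self g i j).eq
    rw [hi, hj] at h
    exact congrArg Subtype.val h
  obtain ⟨a, haW, ha1⟩ : ∃ a ∈ W₁, a ≠ 1 := by
    by_contra hcon
    push Not at hcon
    exact hW1ne ((Subgroup.eq_bot_iff_forall _).2 hcon)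
  obtain ⟨b, hbW, hb1⟩ : ∃ b ∈ W₂, b ≠ 1 := by
    by_contra hcon
    push Not at hcon
    exact hW2ne ((Subgroup.eq_bot_iff_forall _).2 hcon)
  have hcent := hP.W₂_centralizer a haW ha1
  have hcardS : Nat.card S = Nat.card (⁅S, S⁆ : Subgroup G) * Nat.card W₁ := by
    let f : ↥(⁅S, S⁆ : Subgroup G) × ↥W₁ → ↥S := fun p => ⟨(p.1 : G) * (p.2 : G), S.mul_mem (hS'S p.1.2) (hW1S p.2.2)⟩
    have hinj : Function.Injective f := by
      rintro ⟨⟨s, hs⟩, ⟨w, hw⟩⟩ ⟨⟨s', hs'⟩, ⟨w', hw'⟩⟩ h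
      have h1 : s * w = s' * w' := congrArg Subtype.val h
      have h2 : s'⁻¹ * s = w' * w⁻¹ := by
        have : s = s' * w' * w⁻¹ := by rw [← h1]; group
        rw [this]; group
      have h3 : s'⁻¹ * s ∈ ⁅S, S⁆ ⊓ W₁ :=
        ⟨Subgroup.mul_mem _ (Subgroup.inv_mem _ hs') hs, by rw [h2]; exact Subgroup.mul_mem _ hw' (Subgroup.inv_mem _ hw)⟩
      rw [hS'W1, Subgroup.mem_bot] at h3
      have h4 : s = s' := by
        have := congrArg (fun t => s' * t) h3
        simpa using this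
      subst h4
      have h5 : w = w' := mul_left_cancel h1
      subst h5
      rfl
    have hsurj : Function.Surjective f := by
      rintro ⟨m, hm⟩
      obtain ⟨s, hs, w, hw, rfl⟩ := hprod m hm
      exact ⟨(⟨s, hs⟩, ⟨w, hw⟩), rfl⟩
    rw [← Nat.card_prod]
    exact (Nat.card_congr (Equiv.ofBijective f ⟨hinj, hsurj⟩)).symm
  have hrel : W₁.relIndex S = Nat.card (⁅S, S⁆ : Subgroup G) := by
    have h1 := Subgroup.relIndex_mul_relIndex ⊥ W₁ S bot_le hW1S
    rw [Subgroup.relIndex_bot_left, Subgroup.relIndex_bot_left, hcardS] at h1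
    have hpos : 0 < Nat.card W₁ := Nat.card_pos
    exact Nat.eq_of_mul_eq_mul_left hpos (h1.trans (mul_comm _ _))
  have hW2'S' : W₂' ≤ ⁅S, S⁆ := by
    rw [← hcent]; exact inf_le_left
  have hcop : (Nat.card W₁).Coprime (Nat.card W₂') := by
    have h1 := hP.W₁_hall
    rw [hrel] at h1
    exact Nat.Coprime.coprime_dvd_right (Subgroup.card_dvd_of_le hW2'S') h1
  have hle : W₂ ≤ W₂' := by
    intro x hx
    obtain ⟨s, hs, w, hw, hxsw⟩ := hprod x (hW₂S hx)
    have hxa : a * x = x * a := hcomm a haW x hx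
    have hwa : w * a = a * w := hW1comm w hw a haW
    have hs_eq : s = x * w⁻¹ := by rw [hxsw]; group
    have hsW2' : s ∈ W₂' := by
      rw [← hcent]
      refine ⟨hs, ?_⟩
      refine Subgroup.mem_centralizer_iff.2 ?_
      intro y hy
      rw [Set.mem_singleton_iff] at hy
      subst hy
      rw [hs_eq]
      have hwa' : w⁻¹ * y = y * w⁻¹ := by
        have h := congrArg (fun t => w⁻¹ * t * w⁻¹) hwa
        simp only [mul_assoc, inv_mul_cancel_left, mul_inv_cancel, mul_one] at h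
        exact h.symm
      calc y * (x * w⁻¹) = (y * x) * w⁻¹ := by group
        _ = (x * y) * w⁻¹ := by rw [hxa]
        _ = x * (y * w⁻¹) := by group
        _ = x * (w⁻¹ * y) := by rw [hwa']
        _ = x * w⁻¹ * y := by group
    have hsw : Commute s w := (hcomm' w hw s hsW2').symm
    have hsn : s ^ Nat.card W₂' = 1 := by
      have h := pow_card_eq_one' (G := W₂') (x := ⟨s, hsW2'⟩)
      exact congrArg Subtype.val h
    have hxn : x ^ Nat.card W₂' = w ^ Nat.card W₂' := by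
      rw [hxsw, hsw.mul_pow, hsn, one_mul]
    have hwn : w ^ Nat.card W₂' = 1 := by
      have h1 : w ^ Nat.card W₂' ∈ W₁ ⊓ W₂ := ⟨pow_mem hw _, hxn ▸ pow_mem hx _⟩
      rwa [hW12, Subgroup.mem_bot] at h1
    have hwm : w ^ Nat.card W₁ = 1 := by
      have h := pow_card_eq_one' (G := W₁) (x := ⟨w, hw⟩)
      exact congrArg Subtype.val h
    have hw1 : w = 1 := by
      have h1 : orderOf w ∣ Nat.card W₂' := orderOf_dvd_of_pow_eq_one hwn
      have h2 : orderOf w ∣ Nat.card W₁ := orderOf_dvd_of_pow_eq_one hwm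
      have h3 : orderOf w ∣ Nat.gcd (Nat.card W₁) (Nat.card W₂') := Nat.dvd_gcd h2 h1
      rw [hcop.gcd_eq_one] at h3
      exact orderOf_eq_one_iff.1 (Nat.dvd_one.1 h3)
    rw [hxsw, hw1, mul_one]; exact hsW2'
  have hab_mem : ∀ (V : Subgroup G), b ∈ V → W₁ ⊓ V = ⊥ →
      (a * b) ∈ ((↑(W₁ ⊔ V) : Set G) \ (↑W₁ ∪ ↑V)) := by
    intro V hbV hdisj
    refine ⟨Subgroup.mul_mem _ (Subgroup.mem_sup_left haW) (Subgroup.mem_sup_right hbV), ?_⟩
    rintro (h | h)
    · have hb : b ∈ W₁ := by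
        have := W₁.mul_mem (W₁.inv_mem haW) h
        simpa using this
      have : b ∈ W₁ ⊓ V := ⟨hb, hbV⟩
      rw [hdisj, Subgroup.mem_bot] at this
      exact hb1 this
    · have ha : a ∈ V := by
        have := V.mul_mem h (V.inv_mem hbV)
        simpa using this
      have : a ∈ W₁ ⊓ V := ⟨haW, ha⟩
      rw [hdisj, Subgroup.mem_bot] at this
      exact ha1 this
  have hN1 := hN {a * b} (Set.singleton_subset_iff.2 (hab_mem W₂ hbW hW12)) (Set.singleton_nonempty _)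
  have hN2 := hN' {a * b} (Set.singleton_subset_iff.2 (hab_mem W₂' (hle hbW) hW12'))
    (Set.singleton_nonempty _)
  have hsup : W₁ ⊔ W₂ = W₁ ⊔ W₂' := hN1.symm.trans hN2
  apply le_antisymm _ hle
  intro y hy
  have hy' : y ∈ W₁ ⊔ W₂ := hsup ▸ Subgroup.mem_sup_right hy
  obtain ⟨w₁, hw₁, w₂, hw₂, rfl⟩ := mem_sup_comm W₁ W₂ hcomm hy'
  have h1 : w₁ ∈ W₁ ⊓ W₂' := by
    refine ⟨hw₁, ?_⟩
    have := W₂'.mul_mem hy (W₂'.inv_mem (hle hw₂))
    simpa using this
  rw [hW12', Subgroup.mem_bot] at h1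
  rw [h1, one_mul]; exact hw₂


/-- Let G be a finite group, W₁, W₂ subgroups forming a self-normalizing cyclic pair, S a subgroup with W₂ ≤ S and W₁ a complement to S' in S, and (W₁, U, W₂') type-P data for S. Then W₂' = W₂ (that is, C_{S'}(W₁) = W₂). -/
theorem result {G : Type*} [Group G] [Finite G] (W₁ W₂ S U W₂' : Subgroup G) (hW : Cfsg.IsSelfNormalizingCyclic W₁ W₂)
    (hSW : Cfsg.IsComplIn ⁅S, S⁆ W₁ S) (hW₂S : W₂ ≤ S) (hP : Cfsg.IsTypePWith S W₁ U W₂') :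
    W₂' = W₂ := by
  exact main1386 W₁ W₂ S U W₂' hW hSW hW₂S hP

end Cfsg.Agent.S1386
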