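import Cfsg.Statements.S1203
import Mathlib
import Cfsg.Agent.S1236
import Cfsg.Agent.S1386

set_option autoImplicit false
open Cfsg

namespace Cfsg.Agent.S1203

open Cfsg Subgroup Cfsg.Agent.S1236

theorem good_qd' {S : Type*} [Group S] [Finite S] (h : IsQuasiDihedral S) :
    ∃ C : Subgroup S, Good S C ∧ ∀ a ∈ C, ∀ b ∈ C, a * b = b * a := by
  obtain ⟨n, hn, hcard, x, y, hx, hy, hxy⟩ := h
  obtain ⟨k, rfl⟩ : ∃ k, n = k + 3 := ⟨n - 3, by omega⟩
  obtain ⟨N, hN⟩ : ∃ N, N = 2 ^ (k + 1) := ⟨_, rfl⟩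
  have hNpos : 2 ≤ N := by
    rw [hN, pow_succ]
    have : 1 ≤ 2 ^ k := Nat.one_le_two_pow
    omega
  have e1 : 2 ^ (k + 3) = 4 * N := by rw [hN]; ring
  have e2 : 2 ^ (k + 3 - 1) - 1 = 2 * N - 1 := by
    have : k + 3 - 1 = k + 2 := by omega
    rw [this, hN]; ring_nf
  have e3 : 2 ^ (k + 3 + 1) = 8 * N := by rw [hN]; ring
  rw [e1] at hx
  rw [e2] at hxy
  rw [e3] at hcard
  have hcop : Nat.Coprime (2 * N) (N - 1) := by
    have h2N : 2 * N = 2 ^ (k + 2) := by rw [hN]; ring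
    rw [h2N]
    apply Nat.Coprime.pow_left
    rw [Nat.coprime_two_left]
    refine ⟨2 ^ k - 1, ?_⟩
    have : 1 ≤ 2 ^ k := Nat.one_le_two_pow
    rw [hN, pow_succ]; omega
  have hconj : ∀ j : ℕ, y * x ^ j * y⁻¹ = x ^ ((2 * N - 1) * j) := by
    intro j
    rw [← conj_pow, hxy, pow_mul]
  -- commuting with y forces 2N | j
  have L : ∀ j : ℕ, x ^ j * y = y * x ^ j → 2 * N ∣ j := by
    intro j hj
    have h1 : y * x ^ j * y⁻¹ = x ^ j := by rw [← hj, mul_inv_cancel_right]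
    rw [hconj] at h1
    have h2 : (2 * N - 1) * j ≡ j [MOD 4 * N] := by
      rw [← hx]; exact pow_eq_pow_iff_modEq.1 h1
    have h3 : 4 * N ∣ (2 * N - 1) * j - j :=
      (Nat.modEq_iff_dvd' (by nlinarith [Nat.sub_add_cancel (show 1 ≤ 2 * N by omega)] : j ≤ (2 * N - 1) * j)).1 h2.symm
    have h4 : (2 * N - 1) * j - j = 2 * ((N - 1) * j) := by
      obtain ⟨M, rfl⟩ : ∃ M, N = M + 1 := ⟨N - 1, by omega⟩
      have : 2 * (M + 1) - 1 = 2 * M + 1 := by omega
      rw [this, Nat.add_sub_cancel]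
      have : (2 * M + 1) * j = 2 * (M * j) + j := by ring
      rw [this, Nat.add_sub_cancel]
    rw [h4] at h3
    have h5 : 2 * N ∣ (N - 1) * j := by
      have : 4 * N = 2 * (2 * N) := by ring
      rw [this] at h3
      exact Nat.dvd_of_mul_dvd_mul_left (by norm_num) h3
    exact hcop.dvd_of_dvd_mul_left h5
  have hz2 : (x ^ (2 * N)) ^ 2 = 1 := by
    rw [← pow_mul]
    have : 2 * N * 2 = 4 * N := by ring
    rw [this, ← hx, pow_orderOf_eq_one]
  have M : ∀ j : ℕ, 2 * N ∣ j → x ^ j = 1 ∨ x ^ j = x ^ (2 * N) := by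
    rintro j ⟨q, rfl⟩
    rw [pow_mul]
    rcases Nat.even_or_odd' q with ⟨r, rfl | rfl⟩
    · left
      rw [pow_mul, hz2, one_pow]
    · right
      rw [pow_succ, pow_mul, hz2, one_pow, one_mul]
  let C := Subgroup.zpowers x
  have hCcard : Nat.card C = 4 * N := by rw [Nat.card_zpowers, hx]
  have hidx : C.index = 2 := by
    have := C.card_mul_index
    rw [hCcard, hcard] at this
    have h8 : 8 * N = 4 * N * 2 := by ring
    rw [h8] at this
    exact Nat.eq_of_mul_eq_mul_left (by omega) this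
  have hpow : ∀ c ∈ C, ∃ j : ℕ, x ^ j = c := by
    intro c hc
    have : c ∈ Submonoid.powers x := mem_powers_iff_mem_zpowers.2 hc
    exact (Submonoid.mem_powers_iff _ _).1 this
  have hyC : y ∉ C := by
    intro hyC
    obtain ⟨i, hi⟩ := hpow y hyC
    have h1 : x ^ 1 * y = y * x ^ 1 := by
      rw [← hi, ← pow_add, ← pow_add, add_comm]
    have := L 1 h1
    have := Nat.le_of_dvd (by norm_num) this
    omega
  -- centralizer of y in C
  have hcy : ∀ c ∈ C, c * y = y * c → c = 1 ∨ c = x ^ (2 * N) := by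
    intro c hc hcy
    obtain ⟨j, rfl⟩ := hpow c hc
    exact M j (L j hcy)
  refine ⟨C, ⟨?_, ?_, ?_⟩, ?_⟩
  · intro a b ha hb
    exact (Subgroup.mul_mem_iff_of_index_two hidx).2 (iff_of_false ha hb)
  · have hsq : ∀ c ∈ C, c * c = 1 → c = 1 ∨ c = x ^ (2 * N) := by
      intro c hc hcc
      obtain ⟨j, rfl⟩ := hpow c hc
      apply M
      rw [← pow_add] at hcc
      have h1 : 4 * N ∣ j + j := by rw [← hx]; exact orderOf_dvd_of_pow_eq_one hcc
      have h2 : 4 * N = 2 * (2 * N) := by ring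
      have h3 : j + j = 2 * j := by ring
      rw [h2, h3] at h1
      exact Nat.dvd_of_mul_dvd_mul_left (by norm_num) h1
    intro c₁ hc₁ c₂ hc₂ e1 e2 n1 n2
    rcases hsq c₁ hc₁ e1 with h | h
    · exact absurd h n1
    · rcases hsq c₂ hc₂ e2 with h' | h'
      · exact absurd h' n2
      · rw [h, h']
  · intro g hg
    have hyg : y⁻¹ * g ∈ C := by
      apply (Subgroup.mul_mem_iff_of_index_two hidx).2
      apply iff_of_false _ hg
      intro h; exact hyC (by simpa using C.inv_mem h)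
    obtain ⟨i, hi⟩ := hpow _ hyg
    have hg' : g = y * x ^ i := by rw [hi, mul_inv_cancel_left]
    have hred : ∀ c ∈ C, c * g = g * c → c * y = y * c := by
      intro c hc hcg
      obtain ⟨j, rfl⟩ := hpow c hc
      rw [hg'] at hcg
      have h1 : x ^ j * y * x ^ i = y * x ^ j * x ^ i := by
        calc x ^ j * y * x ^ i = x ^ j * (y * x ^ i) := by rw [mul_assoc]
          _ = y * x ^ i * x ^ j := hcg
          _ = y * (x ^ i * x ^ j) := by rw [mul_assoc]
          _ = y * (x ^ j * x ^ i) := by rw [← pow_add, ← pow_add, add_comm]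
          _ = y * x ^ j * x ^ i := by rw [mul_assoc]
      exact mul_right_cancel h1
    intro c₁ hc₁ c₂ hc₂ n1 n2 e1 e2
    rcases hcy c₁ hc₁ (hred c₁ hc₁ e1) with h | h
    · exact absurd h n1
    · rcases hcy c₂ hc₂ (hred c₂ hc₂ e2) with h' | h'
      · exact absurd h' n2
      · rw [h, h']
  · intro a ha b hb
    obtain ⟨i, rfl⟩ := hpow a ha
    obtain ⟨j, rfl⟩ := hpow b hb
    rw [← pow_add, ← pow_add, add_comm]

theorem exists_normalizer_not_mem {G : Type*} [Group G] [Finite G] {p : ℕ} [Fact p.Prime]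
    (S : Sylow p G) (A : Subgroup G) (hAS : A ≤ S) (hne : A ≠ S) :
    ∃ x ∈ (S : Subgroup G), x ∉ A ∧ x ∈ normalizer (A : Set G) := by
  haveI : Group.IsNilpotent (S : Subgroup G) := S.isPGroup'.isNilpotent
  have hlt : (A.subgroupOf (S : Subgroup G)) < ⊤ := by
    rw [lt_top_iff_ne_top]
    intro h
    rw [Subgroup.subgroupOf_eq_top] at h
    exact hne (le_antisymm hAS h)
  have hnc := Group.normalizerCondition_of_isNilpotent (G := (S : Subgroup G)) _ hlt
  obtain ⟨x, hxN, hxT⟩ := SetLike.exists_of_lt hnc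
  rw [Subgroup.mem_normalizer_iff] at hxN
  rw [Subgroup.mem_subgroupOf] at hxT
  have hy1 : ∀ t ∈ A, (x : G) * t * (x : G)⁻¹ ∈ A := by
    intro t ht
    have := (hxN ⟨t, hAS ht⟩).1 (Subgroup.mem_subgroupOf.2 ht)
    exact Subgroup.mem_subgroupOf.1 this
  have hy2 : ∀ t ∈ A, (x : G)⁻¹ * t * (x : G) ∈ A := by
    intro t ht
    have h1 : x * (x⁻¹ * ⟨t, hAS ht⟩ * x) * x⁻¹ = ⟨t, hAS ht⟩ := by group
    have := (hxN (x⁻¹ * ⟨t, hAS ht⟩ * x)).2 (by rw [h1]; exact Subgroup.mem_subgroupOf.2 ht)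
    exact Subgroup.mem_subgroupOf.1 this
  refine ⟨x, x.2, hxT, ?_⟩
  rw [Subgroup.mem_normalizer_iff]
  intro g
  constructor
  · exact hy1 g
  · intro hg
    have := hy2 _ hg
    have e : (x : G)⁻¹ * ((x : G) * g * (x : G)⁻¹) * (x : G) = g := by group
    rwa [e] at this

theorem index_two_or_six {N X : Type*} [Group N] [Finite X] (hX : Nat.card X ≤ 3)
    (φ : N →* Equiv.Perm X) (x : N) (m : ℕ) (hx : x ^ (2 ^ m) = 1) (hφx : φ x ≠ 1) :
    φ.ker.index = 2 ∨ φ.ker.index = 6 := by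
  have h1 : φ.ker.index = Nat.card φ.range := Subgroup.index_ker φ
  have h2 : Nat.card φ.range ∣ Nat.card (Equiv.Perm X) := Subgroup.card_subgroup_dvd_card _
  have h3 : Nat.card (Equiv.Perm X) = (Nat.card X).factorial := Nat.card_perm
  have h4 : (Nat.card X).factorial ∣ (3 : ℕ).factorial := Nat.factorial_dvd_factorial hX
  have h6 : Nat.card φ.range ∣ 6 := by
    rw [h3] at h2
    have : (3 : ℕ).factorial = 6 := by decide
    rw [this] at h4
    exact h2.trans h4
  have h5 : 2 ∣ Nat.card φ.range := by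
    have hy1 : (⟨φ x, ⟨x, rfl⟩⟩ : φ.range) ≠ 1 := fun h => hφx (congrArg Subtype.val h)
    have hy2 : (⟨φ x, ⟨x, rfl⟩⟩ : φ.range) ^ (2 ^ m) = 1 := by
      apply Subtype.ext
      show (φ x) ^ (2 ^ m) = 1
      rw [← map_pow, hx, map_one]
    have hd : orderOf (⟨φ x, ⟨x, rfl⟩⟩ : φ.range) ∣ 2 ^ m := orderOf_dvd_of_pow_eq_one hy2
    obtain ⟨k, _, hk'⟩ := (Nat.dvd_prime_pow Nat.prime_two).1 hd
    have hk0 : k ≠ 0 := by
      rintro rfl
      rw [pow_zero] at hk'
      exact hy1 (orderOf_eq_one_iff.1 hk')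
    have h2d : 2 ∣ orderOf (⟨φ x, ⟨x, rfl⟩⟩ : φ.range) := by
      rw [hk']
      exact dvd_pow_self 2 hk0
    exact h2d.trans (orderOf_dvd_natCard _)
  rw [h1]
  have hle : Nat.card φ.range ≤ 6 := Nat.le_of_dvd (by norm_num) h6
  have hpos : 0 < Nat.card φ.range := Nat.pos_of_dvd_of_pos h6 (by norm_num)
  interval_cases (Nat.card φ.range) <;> omega

section partA
variable {G : Type*} [Group G]

def conjPerm (T : Subgroup G) :
    ↥(normalizer (T : Set G)) →* Equiv.Perm {t : G // t ∈ T ∧ t ≠ 1} where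
  toFun n :=
    { toFun := fun t => ⟨n.1 * t.1 * n.1⁻¹, (Subgroup.mem_normalizer_iff.1 n.2 t.1).1 t.2.1,
        fun h => t.2.2 (conj_eq_one_iff.1 h)⟩
      invFun := fun t => ⟨n.1⁻¹ * t.1 * n.1, by
          have := (Subgroup.mem_normalizer_iff.1 (inv_mem n.2) t.1).1 t.2.1
          simpa using this,
        fun h => t.2.2 (by
          have h' : n.1⁻¹ * t.1 * n.1⁻¹⁻¹ = 1 := by simpa using h
          exact conj_eq_one_iff.1 h')⟩
      left_inv := fun t => Subtype.ext (by simp [mul_assoc])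
      right_inv := fun t => Subtype.ext (by simp [mul_assoc]) }
  map_one' := by
    ext t
    simp
  map_mul' := fun a b => by
    ext t
    simp [mul_assoc]

theorem conjPerm_apply (T : Subgroup G) (n : ↥(normalizer (T : Set G))) (t : {t : G // t ∈ T ∧ t ≠ 1}) :
    ((conjPerm T n) t).1 = n.1 * t.1 * n.1⁻¹ := rfl

theorem conjPerm_ker (T : Subgroup G) :
    (conjPerm T).ker = (centralizer (T : Set G)).subgroupOf (normalizer (T : Set G)) := by
  ext n
  rw [MonoidHom.mem_ker, Subgroup.mem_subgroupOf, Subgroup.mem_centralizer_iff]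
  constructor
  · intro h t ht
    by_cases h1 : t = 1
    · subst h1
      simp
    · have := congrArg (fun σ : Equiv.Perm {t : G // t ∈ T ∧ t ≠ 1} => (σ ⟨t, ht, h1⟩).1) h
      simp only [conjPerm_apply, Equiv.Perm.coe_one, id_eq] at this
      calc t * n.1 = (n.1 * t * n.1⁻¹) * n.1 := by rw [this]
        _ = n.1 * t := by group
  · intro h
    ext t
    rw [conjPerm_apply, Equiv.Perm.coe_one, id_eq, ← h t.1 t.2.1]
    group

theorem card_XT [Finite G] (T : Subgroup G) (hT : Nat.card T = 4) :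
    Nat.card {t : G // t ∈ T ∧ t ≠ 1} ≤ 3 := by
  have h1 : {t : G | t ∈ T ∧ t ≠ 1} = (T : Set G) \ {1} := by
    ext t
    simp
  have h2 : Nat.card {t : G // t ∈ T ∧ t ≠ 1} = ({t : G | t ∈ T ∧ t ≠ 1}).ncard :=
    Nat.card_coe_set_eq _
  have h3 : (T : Set G).ncard = 4 := by
    rw [← Nat.card_coe_set_eq]
    exact hT
  rw [h2, h1, Set.ncard_sdiff_singleton_of_mem (T.one_mem), h3]

theorem exists_two (T : Subgroup G) (hT : Nat.card T = 4) :
    ∃ a ∈ T, ∃ b ∈ T, a ≠ 1 ∧ b ≠ 1 ∧ a ≠ b := by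
  haveI : Finite T := Nat.finite_of_card_ne_zero (by omega)
  haveI := Fintype.ofFinite T
  have h2 : 2 < Fintype.card T := by
    rw [← Nat.card_eq_fintype_card]
    omega
  obtain ⟨a, b, c, hab, hac, hbc⟩ := Fintype.two_lt_card_iff.1 h2
  have key : ∀ u v : T, u ≠ 1 → v ≠ 1 → u ≠ v → ∃ a ∈ T, ∃ b ∈ T, a ≠ 1 ∧ b ≠ 1 ∧ a ≠ b := by
    intro u v hu hv huv
    exact ⟨u.1, u.2, v.1, v.2, fun h => hu (Subtype.ext h), fun h => hv (Subtype.ext h),
      fun h => huv (Subtype.ext h)⟩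
  by_cases ha : a = 1
  · subst ha
    exact key b c (Ne.symm hab) (Ne.symm hac) hbc
  · by_cases hb : b = 1
    · subst hb
      exact key a c ha (Ne.symm hbc) hac
    · exact key a b ha hb hab

theorem partA [Finite G] (S : Sylow 2 G) (hS : IsQuasiDihedral (S : Subgroup G)) (T : Subgroup G)
    (hT : IsKleinFour T) (hTS : T ≤ S) :
    (centralizer (T : Set G)).relIndex (normalizer (T : Set G)) = 2 ∨
    (centralizer (T : Set G)).relIndex (normalizer (T : Set G)) = 6 := by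
  obtain ⟨R, hR, -⟩ := good_qd' hS
  have hcardT : Nat.card T = 4 := hT.card_four
  have hcardS : 16 ≤ Nat.card (S : Subgroup G) := by
    obtain ⟨n, hn, hc, -⟩ := hS
    rw [hc]
    calc 16 = 2 ^ 4 := by norm_num
      _ ≤ 2 ^ (n + 1) := Nat.pow_le_pow_right (by norm_num) (by omega)
  have hne : T ≠ S := by
    intro h
    rw [h] at hcardT
    omega
  obtain ⟨x, hxS, hxT, hxN⟩ := exists_normalizer_not_mem S T hTS hne
  obtain ⟨m, hm⟩ := S.isPGroup' ⟨x, hxS⟩
  have hxm : (⟨x, hxN⟩ : ↥(normalizer (T : Set G))) ^ (2 ^ m) = 1 := by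
    apply Subtype.ext
    have := congrArg Subtype.val hm
    simpa using this
  have hφx : conjPerm T ⟨x, hxN⟩ ≠ 1 := by
    intro h
    have hk : (⟨x, hxN⟩ : ↥(normalizer (T : Set G))) ∈ (conjPerm T).ker := h
    rw [conjPerm_ker, Subgroup.mem_subgroupOf] at hk
    apply hxT
    obtain ⟨a, ha, b, hb, ha1, hb1, hab⟩ := exists_two T hcardT
    have hV1 : ∀ v ∈ T.subgroupOf (S : Subgroup G), v * v = 1 := by
      intro v hv
      rw [Subgroup.mem_subgroupOf] at hv
      have := IsKleinFour.mul_self (⟨v.1, hv⟩ : T)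
      have e : (v : G) * (v : G) = 1 := congrArg (Subtype.val : ↥T → G) this
      apply Subtype.ext
      exact e
    have hV2 : ∀ v ∈ T.subgroupOf (S : Subgroup G), ∀ w ∈ T.subgroupOf (S : Subgroup G),
        v * w = w * v := by
      intro v hv w hw
      rw [Subgroup.mem_subgroupOf] at hv hw
      have := mul_comm_of_exponent_two (IsKleinFour.exponent_two (G := T)) (⟨v.1, hv⟩ : T) ⟨w.1, hw⟩
      have e : (v : G) * (w : G) = (w : G) * (v : G) := congrArg (Subtype.val : ↥T → G) this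
      apply Subtype.ext
      exact e
    have h4 := centralizer_four R (T.subgroupOf (S : Subgroup G)) hR hV1 hV2
      ⟨a, hTS ha⟩ ⟨b, hTS hb⟩ (Subgroup.mem_subgroupOf.2 ha) (Subgroup.mem_subgroupOf.2 hb)
      (fun h => ha1 (congrArg Subtype.val h)) (fun h => hb1 (congrArg Subtype.val h))
      (fun h => hab (congrArg Subtype.val h))
    have hxc : (⟨x, hxS⟩ : (S : Subgroup G)) ∈ centralizer ((T.subgroupOf (S : Subgroup G) : Subgroup _) : Set _) := by
      refine Subgroup.mem_centralizer_iff.2 ?_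
      intro v hv
      apply Subtype.ext
      exact Subgroup.mem_centralizer_iff.1 hk v.1 (Subgroup.mem_subgroupOf.1 hv)
    exact Subgroup.mem_subgroupOf.1 (h4 hxc)
  have := index_two_or_six (card_XT T hcardT) (conjPerm T) ⟨x, hxN⟩ m hxm hφx
  rw [conjPerm_ker] at this
  exact this

end partA

section partB
open QuaternionGroup
variable {G : Type*} [Group G]

def three (f : QuaternionGroup 2 →* G) (A : Subgroup G) : Prop :=
  A = zpowers (f (a 1)) ∨ A = zpowers (f (xa 0)) ∨ A = zpowers (f (xa 1))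

theorem q8_list : ∀ g : QuaternionGroup 2, g * g ≠ 1 →
    g = a 1 ∨ g = (a 1)⁻¹ ∨ g = xa 0 ∨ g = (xa 0)⁻¹ ∨ g = xa 1 ∨ g = (xa 1)⁻¹ := by decide

theorem q8_conj : ∀ q g : QuaternionGroup 2, q * g * q⁻¹ = g ∨ q * g * q⁻¹ = g⁻¹ := by decide

theorem q8_gen : ∀ g : QuaternionGroup 2, ∃ l ∈ Finset.range 2, ∃ m ∈ Finset.range 4,
    g = xa 0 ^ l * a 1 ^ m := by decide

theorem q8_inner : ∀ g₁ g₂ : QuaternionGroup 2, (g₁ = a 1 ∨ g₁ = (a 1)⁻¹) →
    (g₂ = xa 0 ∨ g₂ = (xa 0)⁻¹) →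
    ∃ q : QuaternionGroup 2, q * a 1 * q⁻¹ = g₁ ∧ q * xa 0 * q⁻¹ = g₂ := by decide

theorem q8_comm1 : ∀ g : QuaternionGroup 2, g * a 1 = a 1 * g → g * g ≠ 1 →
    g = a 1 ∨ g = (a 1)⁻¹ := by decide

theorem q8_comm2 : ∀ g : QuaternionGroup 2, g * xa 0 = xa 0 * g → g * g ≠ 1 →
    g = xa 0 ∨ g = (xa 0)⁻¹ := by decide

theorem three_of_sq_ne (f : QuaternionGroup 2 →* G) (g : QuaternionGroup 2) (hg : g * g ≠ 1) :
    three f (zpowers (f g)) := by
  rcases q8_list g hg with h | h | h | h | h | h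
  · rw [h]; exact Or.inl rfl
  · rw [h, map_inv, Subgroup.zpowers_inv]; exact Or.inl rfl
  · rw [h]; exact Or.inr (Or.inl rfl)
  · rw [h, map_inv, Subgroup.zpowers_inv]; exact Or.inr (Or.inl rfl)
  · rw [h]; exact Or.inr (Or.inr rfl)
  · rw [h, map_inv, Subgroup.zpowers_inv]; exact Or.inr (Or.inr rfl)

theorem three_elim (f : QuaternionGroup 2 →* G) (A : Subgroup G) (hA : three f A) :
    ∃ u : QuaternionGroup 2, u * u ≠ 1 ∧ A = zpowers (f u) := by
  rcases hA with h | h | h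
  · exact ⟨a 1, by decide, h⟩
  · exact ⟨xa 0, by decide, h⟩
  · exact ⟨xa 1, by decide, h⟩

theorem K1 (f : QuaternionGroup 2 →* G) (Q : Subgroup G) (hfQ : ∀ g, f g ∈ Q)
    (hfs : ∀ q ∈ Q, ∃ g, f g = q) (hfi : Function.Injective f)
    (n : G) (hn : n ∈ normalizer (Q : Set G)) (g : QuaternionGroup 2) (hg : g * g ≠ 1) :
    ∃ g' : QuaternionGroup 2, g' * g' ≠ 1 ∧ n * f g * n⁻¹ = f g' := by
  obtain ⟨g', hg'⟩ := hfs _ ((Subgroup.mem_normalizer_iff.1 hn (f g)).1 (hfQ g))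
  refine ⟨g', ?_, hg'.symm⟩
  intro h
  apply hg
  apply hfi
  rw [map_one]
  have h1 : f g' * f g' = 1 := by rw [← map_mul, h, map_one]
  rw [hg'] at h1
  have h2 : n * (f g * f g) * n⁻¹ = 1 := by
    rw [← h1]
    group
  rw [map_mul]
  exact conj_eq_one_iff.1 h2

theorem smul_three (f : QuaternionGroup 2 →* G) (Q : Subgroup G) (hfQ : ∀ g, f g ∈ Q)
    (hfs : ∀ q ∈ Q, ∃ g, f g = q) (hfi : Function.Injective f)
    (n : G) (hn : n ∈ normalizer (Q : Set G)) (A : Subgroup G) (hA : three f A) :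
    three f (A.map (MulAut.conj n).toMonoidHom) := by
  obtain ⟨u, hu, rfl⟩ := three_elim f A hA
  rw [MonoidHom.map_zpowers]
  obtain ⟨g', hg', h⟩ := K1 f Q hfQ hfs hfi n hn u hu
  have : (MulAut.conj n).toMonoidHom (f u) = f g' := by
    rw [← h]
    rfl
  rw [this]
  exact three_of_sq_ne f g' hg'

theorem map_conj_map_conj_inv (n : G) (A : Subgroup G) :
    (A.map (MulAut.conj n).toMonoidHom).map (MulAut.conj n⁻¹).toMonoidHom = A := by
  rw [Subgroup.map_map]
  have : (MulAut.conj n⁻¹).toMonoidHom.comp (MulAut.conj n).toMonoidHom = MonoidHom.id G := by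
    ext x
    simp [MulAut.conj_apply, mul_assoc]
  rw [this, Subgroup.map_id]

def conjPermQ (f : QuaternionGroup 2 →* G) (Q : Subgroup G) (hfQ : ∀ g, f g ∈ Q)
    (hfs : ∀ q ∈ Q, ∃ g, f g = q) (hfi : Function.Injective f) :
    ↥(normalizer (Q : Set G)) →* Equiv.Perm {A : Subgroup G // three f A} where
  toFun n :=
    { toFun := fun A => ⟨A.1.map (MulAut.conj n.1).toMonoidHom,
        smul_three f Q hfQ hfs hfi n.1 n.2 A.1 A.2⟩
      invFun := fun A => ⟨A.1.map (MulAut.conj n.1⁻¹).toMonoidHom,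
        smul_three f Q hfQ hfs hfi n.1⁻¹ (inv_mem n.2) A.1 A.2⟩
      left_inv := fun A => Subtype.ext (map_conj_map_conj_inv n.1 A.1)
      right_inv := fun A => Subtype.ext (by
        have := map_conj_map_conj_inv n.1⁻¹ A.1
        rwa [inv_inv] at this) }
  map_one' := by
    ext A : 2
    show A.1.map (MulAut.conj (1 : G)).toMonoidHom = A.1
    rw [map_one]
    exact Subgroup.map_id _
  map_mul' := fun x y => by
    ext A : 2
    show A.1.map (MulAut.conj (x.1 * y.1)).toMonoidHom =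
      (A.1.map (MulAut.conj y.1).toMonoidHom).map (MulAut.conj x.1).toMonoidHom
    rw [Subgroup.map_map, map_mul]
    rfl

theorem conjPermQ_apply (f : QuaternionGroup 2 →* G) (Q : Subgroup G) (hfQ : ∀ g, f g ∈ Q)
    (hfs : ∀ q ∈ Q, ∃ g, f g = q) (hfi : Function.Injective f)
    (n : ↥(normalizer (Q : Set G))) (A : {A : Subgroup G // three f A}) :
    ((conjPermQ f Q hfQ hfs hfi n) A).1 = A.1.map (MulAut.conj n.1).toMonoidHom := rfl

theorem comm_all (f : QuaternionGroup 2 →* G) (c : G) (h1 : c * f (a 1) = f (a 1) * c)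
    (h2 : c * f (xa 0) = f (xa 0) * c) : ∀ g, c * f g = f g * c := by
  intro g
  obtain ⟨l, -, m, -, rfl⟩ := q8_gen g
  rw [map_mul, map_pow, map_pow]
  have c1 : Commute c (f (a 1)) := h1
  have c2 : Commute c (f (xa 0)) := h2
  exact ((c2.pow_right l).mul_right (c1.pow_right m)).eq

theorem kerQ (f : QuaternionGroup 2 →* G) (Q : Subgroup G) (hfQ : ∀ g, f g ∈ Q)
    (hfs : ∀ q ∈ Q, ∃ g, f g = q) (hfi : Function.Injective f) :
    (conjPermQ f Q hfQ hfs hfi).ker =
      (Q ⊔ centralizer (Q : Set G)).subgroupOf (normalizer (Q : Set G)) := by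
  ext n
  rw [MonoidHom.mem_ker, Subgroup.mem_subgroupOf]
  constructor
  · intro h
    have hfix : ∀ u : QuaternionGroup 2, u * u ≠ 1 →
        zpowers (n.1 * f u * n.1⁻¹) = zpowers (f u) := by
      intro u hu
      have := congrArg (fun σ : Equiv.Perm {A : Subgroup G // three f A} =>
        (σ ⟨zpowers (f u), three_of_sq_ne f u hu⟩).1) h
      simp only [conjPermQ_apply, Equiv.Perm.coe_one, id_eq, MonoidHom.map_zpowers] at this
      exact this
    obtain ⟨g₁, hg₁, e₁⟩ := K1 f Q hfQ hfs hfi n.1 n.2 (a 1) (by decide)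
    obtain ⟨g₂, hg₂, e₂⟩ := K1 f Q hfQ hfs hfi n.1 n.2 (xa 0) (by decide)
    have hc₁ : g₁ * a 1 = a 1 * g₁ := by
      apply hfi
      rw [map_mul, map_mul]
      have hm : f g₁ ∈ zpowers (f (a 1)) := by
        rw [← hfix (a 1) (by decide), e₁]
        exact Subgroup.mem_zpowers _
      obtain ⟨k, hk⟩ := Subgroup.mem_zpowers_iff.1 hm
      rw [← hk]
      exact ((Commute.refl (f (a 1))).zpow_left k).eq
    have hc₂ : g₂ * xa 0 = xa 0 * g₂ := by
      apply hfi
      rw [map_mul, map_mul]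
      have hm : f g₂ ∈ zpowers (f (xa 0)) := by
        rw [← hfix (xa 0) (by decide), e₂]
        exact Subgroup.mem_zpowers _
      obtain ⟨k, hk⟩ := Subgroup.mem_zpowers_iff.1 hm
      rw [← hk]
      exact ((Commute.refl (f (xa 0))).zpow_left k).eq
    obtain ⟨q, hq1, hq2⟩ := q8_inner g₁ g₂ (q8_comm1 g₁ hc₁ hg₁) (q8_comm2 g₂ hc₂ hg₂)
    have hcomm1 : ((f q)⁻¹ * n.1) * f (a 1) = f (a 1) * ((f q)⁻¹ * n.1) := by
      have e : n.1 * f (a 1) = f g₁ * n.1 := by
        rw [← e₁]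
        group
      have e' : f g₁ = f q * f (a 1) * (f q)⁻¹ := by
        rw [← hq1, map_mul, map_mul, map_inv]
      calc (f q)⁻¹ * n.1 * f (a 1) = (f q)⁻¹ * (n.1 * f (a 1)) := by group
        _ = (f q)⁻¹ * (f g₁ * n.1) := by rw [e]
        _ = f (a 1) * ((f q)⁻¹ * n.1) := by rw [e']; group
    have hcomm2 : ((f q)⁻¹ * n.1) * f (xa 0) = f (xa 0) * ((f q)⁻¹ * n.1) := by
      have e : n.1 * f (xa 0) = f g₂ * n.1 := by
        rw [← e₂]
        group
      have e' : f g₂ = f q * f (xa 0) * (f q)⁻¹ := by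
        rw [← hq2, map_mul, map_mul, map_inv]
      calc (f q)⁻¹ * n.1 * f (xa 0) = (f q)⁻¹ * (n.1 * f (xa 0)) := by group
        _ = (f q)⁻¹ * (f g₂ * n.1) := by rw [e]
        _ = f (xa 0) * ((f q)⁻¹ * n.1) := by rw [e']; group
    have hall := comm_all f _ hcomm1 hcomm2
    have hcC : (f q)⁻¹ * n.1 ∈ centralizer (Q : Set G) := by
      refine Subgroup.mem_centralizer_iff.2 ?_
      intro y hy
      obtain ⟨g, rfl⟩ := hfs y hy
      exact (hall g).symm
    have hn : n.1 = f q * ((f q)⁻¹ * n.1) := by group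
    rw [hn]
    exact mul_mem (Subgroup.mem_sup_left (hfQ q)) (Subgroup.mem_sup_right hcC)
  · intro h
    obtain ⟨q, hq, c, hc, hn⟩ := Cfsg.Agent.S1386.mem_sup_comm Q (centralizer (Q : Set G))
      (fun q hq c hc => (Subgroup.mem_centralizer_iff.1 hc q hq)) h
    ext A : 2
    rw [conjPermQ_apply, Equiv.Perm.coe_one, id_eq]
    obtain ⟨u, hu, hA⟩ := three_elim f A.1 A.2
    rw [hA, MonoidHom.map_zpowers]
    show zpowers (n.1 * f u * n.1⁻¹) = zpowers (f u)
    obtain ⟨gq, rfl⟩ := hfs q hq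
    have hcu : c * f u * c⁻¹ = f u := by
      have := Subgroup.mem_centralizer_iff.1 hc (f u) (hfQ u)
      rw [← this]
      group
    have e : n.1 * f u * n.1⁻¹ = f (gq * u * gq⁻¹) := by
      rw [hn, map_mul, map_mul, map_inv]
      calc f gq * c * f u * (f gq * c)⁻¹ = f gq * (c * f u * c⁻¹) * (f gq)⁻¹ := by group
        _ = f gq * f u * (f gq)⁻¹ := by rw [hcu]
    rw [e]
    rcases q8_conj gq u with h | h
    · rw [h]
    · rw [h, map_inv, Subgroup.zpowers_inv]

theorem card_XQ [Finite G] (f : QuaternionGroup 2 →* G) :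
    Nat.card {A : Subgroup G // three f A} ≤ 3 := by
  let s : Fin 3 → {A : Subgroup G // three f A} :=
    ![⟨zpowers (f (a 1)), Or.inl rfl⟩, ⟨zpowers (f (xa 0)), Or.inr (Or.inl rfl)⟩,
      ⟨zpowers (f (xa 1)), Or.inr (Or.inr rfl)⟩]
  have hs : Function.Surjective s := by
    rintro ⟨A, hA | hA | hA⟩
    · exact ⟨0, Subtype.ext hA.symm⟩
    · exact ⟨1, Subtype.ext hA.symm⟩
    · exact ⟨2, Subtype.ext hA.symm⟩
  have := Nat.card_le_card_of_surjective s hs
  simpa using this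

theorem cent_aux {D : Type*} [Group D] (R : Subgroup D) (hR : Good D R) (g c : D) (hg : g ∉ R)
    (hz : g * g ≠ 1) (hcg : c * g = g * c) :
    c = 1 ∨ c = g * g ∨ c = g⁻¹ ∨ c = (g * g) * g⁻¹ := by
  obtain ⟨h1, h2, h3⟩ := hR
  have hzR : g * g ∈ R := h1 g g hg hg
  have hzg : (g * g) * g = g * (g * g) := by group
  by_cases hc : c ∈ R
  · by_cases hc1 : c = 1
    · exact Or.inl hc1
    · right; left
      exact h3 g hg c hc (g * g) hzR hc1 hz hcg hzg
  · have hcgR : c * g ∈ R := h1 c g hc hg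
    have hcomm : (c * g) * g = g * (c * g) := by
      calc (c * g) * g = (g * c) * g := by rw [hcg]
        _ = g * (c * g) := by group
    by_cases hc1 : c * g = 1
    · right; right; left
      exact eq_inv_of_mul_eq_one_left hc1
    · right; right; right
      have := h3 g hg (c * g) hcgR (g * g) hzR hc1 hz hcomm hzg
      rw [← this]
      group

theorem q8_nc : (a 1 : QuaternionGroup 2) * xa 0 ≠ xa 0 * a 1 := by decide
theorem q8_sq1 : (a 1 : QuaternionGroup 2) * a 1 ≠ 1 := by decide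
theorem q8_sq2 : (xa 0 : QuaternionGroup 2) * xa 0 ≠ 1 := by decide

theorem partB [Finite G] (S : Sylow 2 G) (hS : IsQuasiDihedral (S : Subgroup G)) (Q : Subgroup G)
    (hQS : Q ≤ S) (eQ : Q ≃* QuaternionGroup 2) :
    (Q ⊔ centralizer (Q : Set G)).relIndex (normalizer (Q : Set G)) = 2 ∨
    (Q ⊔ centralizer (Q : Set G)).relIndex (normalizer (Q : Set G)) = 6 := by
  obtain ⟨R, hR, hRab⟩ := good_qd' hS
  have hfQ : ∀ g, (Q.subtype.comp eQ.symm.toMonoidHom) g ∈ Q := fun g => (eQ.symm g).2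
  have hfs : ∀ q ∈ Q, ∃ g, (Q.subtype.comp eQ.symm.toMonoidHom) g = q :=
    fun q hq => ⟨eQ ⟨q, hq⟩, by simp⟩
  have hfi : Function.Injective (Q.subtype.comp eQ.symm.toMonoidHom) := by
    intro g h hgh
    have : eQ.symm g = eQ.symm h := Subtype.ext hgh
    exact eQ.symm.injective this
  generalize Q.subtype.comp eQ.symm.toMonoidHom = f at hfQ hfs hfi
  have hcardQ : Nat.card Q = 8 := by
    rw [Nat.card_congr eQ.toEquiv, Nat.card_eq_fintype_card, QuaternionGroup.card]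
  have hcardS : 16 ≤ Nat.card (S : Subgroup G) := by
    obtain ⟨n, hn, hc, -⟩ := hS
    rw [hc]
    calc 16 = 2 ^ 4 := by norm_num
      _ ≤ 2 ^ (n + 1) := Nat.pow_le_pow_right (by norm_num) (by omega)
  have hne : Q ≠ S := by
    intro h
    rw [h] at hcardQ
    omega
  obtain ⟨x, hxS, hxQ, hxN⟩ := exists_normalizer_not_mem S Q hQS hne
  obtain ⟨m, hm⟩ := S.isPGroup' ⟨x, hxS⟩
  have hxm : (⟨x, hxN⟩ : ↥(normalizer (Q : Set G))) ^ (2 ^ m) = 1 := by
    apply Subtype.ext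
    have := congrArg Subtype.val hm
    simpa using this
  have hφx : conjPermQ f Q hfQ hfs hfi ⟨x, hxN⟩ ≠ 1 := by
    intro h
    have hk : (⟨x, hxN⟩ : ↥(normalizer (Q : Set G))) ∈ (conjPermQ f Q hfQ hfs hfi).ker := h
    rw [kerQ, Subgroup.mem_subgroupOf] at hk
    obtain ⟨q, hq, c, hc, hxe⟩ := Cfsg.Agent.S1386.mem_sup_comm Q (centralizer (Q : Set G))
      (fun q hq c hc => (Subgroup.mem_centralizer_iff.1 hc q hq)) hk
    have hxe' : x = q * c := hxe
    have hcS : c ∈ (S : Subgroup G) := by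
      have : c = q⁻¹ * x := by rw [hxe']; group
      rw [this]
      exact mul_mem (inv_mem (hQS hq)) hxS
    apply hxQ
    rw [hxe']
    refine mul_mem hq ?_
    have hci : (⟨c, hcS⟩ : (S : Subgroup G)) * ⟨f (a 1), hQS (hfQ _)⟩ =
        ⟨f (a 1), hQS (hfQ _)⟩ * ⟨c, hcS⟩ := by
      apply Subtype.ext
      exact (Subgroup.mem_centralizer_iff.1 hc (f (a 1)) (hfQ _)).symm
    have hcj : (⟨c, hcS⟩ : (S : Subgroup G)) * ⟨f (xa 0), hQS (hfQ _)⟩ =
        ⟨f (xa 0), hQS (hfQ _)⟩ * ⟨c, hcS⟩ := by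
      apply Subtype.ext
      exact (Subgroup.mem_centralizer_iff.1 hc (f (xa 0)) (hfQ _)).symm
    have hnot : ¬ ((⟨f (a 1), hQS (hfQ _)⟩ : (S : Subgroup G)) ∈ R ∧
        (⟨f (xa 0), hQS (hfQ _)⟩ : (S : Subgroup G)) ∈ R) := by
      rintro ⟨hi, hj⟩
      have := hRab _ hi _ hj
      have h2 : f (a 1) * f (xa 0) = f (xa 0) * f (a 1) := congrArg Subtype.val this
      rw [← map_mul, ← map_mul] at h2
      exact q8_nc (hfi h2)
    have key : ∀ g : QuaternionGroup 2, g * g ≠ 1 →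
        (⟨f g, hQS (hfQ _)⟩ : (S : Subgroup G)) ∉ R →
        (⟨c, hcS⟩ : (S : Subgroup G)) * ⟨f g, hQS (hfQ _)⟩ = ⟨f g, hQS (hfQ _)⟩ * ⟨c, hcS⟩ →
        c ∈ Q := by
      intro g hg hgR hcg
      have hz : (⟨f g, hQS (hfQ _)⟩ : (S : Subgroup G)) * ⟨f g, hQS (hfQ _)⟩ ≠ 1 := by
        intro h
        have h2 : f g * f g = 1 := congrArg Subtype.val h
        rw [← map_mul] at h2
        exact hg (hfi (by rw [h2, map_one]))
      rcases cent_aux R hR _ _ hgR hz hcg with h | h | h | h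
      · have : c = 1 := congrArg Subtype.val h
        rw [this]
        exact one_mem _
      · have : c = f g * f g := congrArg Subtype.val h
        rw [this]
        exact mul_mem (hfQ _) (hfQ _)
      · have : c = (f g)⁻¹ := congrArg Subtype.val h
        rw [this]
        exact inv_mem (hfQ _)
      · have : c = f g * f g * (f g)⁻¹ := congrArg Subtype.val h
        rw [this]
        exact mul_mem (mul_mem (hfQ _) (hfQ _)) (inv_mem (hfQ _))
    by_cases hi : (⟨f (a 1), hQS (hfQ _)⟩ : (S : Subgroup G)) ∈ R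
    · have hj : (⟨f (xa 0), hQS (hfQ _)⟩ : (S : Subgroup G)) ∉ R := fun hj => hnot ⟨hi, hj⟩
      exact key (xa 0) q8_sq2 hj hcj
    · exact key (a 1) q8_sq1 hi hci
  have := index_two_or_six (card_XQ f) (conjPermQ f Q hfQ hfs hfi) ⟨x, hxN⟩ m hxm hφx
  rw [kerQ] at this
  exact this

end partB

theorem main1203 {G : Type*} [Group G] [Finite G] (S : Sylow 2 G) (hS : Cfsg.IsQuasiDihedral (S : Subgroup G)) (T : Subgroup G) (hT : IsKleinFour T) (hTS : T ≤ S) (Q : Subgroup G) (hQS : Q ≤ S) (eQ : Q ≃* QuaternionGroup 2) : ((Subgroup.centralizer (T : Set G)).relIndex (Subgroup.normalizer (T : Set G)) = 2 ∨ (Subgroup.centralizer (T : Set G)).relIndex (Subgroup.normalizer (T : Set G)) = 6) ∧ ((Q ⊔ Subgroup.centralizer (Q : Set G)).relIndex (Subgroup.normalizer (Q : Set G)) = 2 ∨ (Q ⊔ Subgroup.centralizer (Q : Set G)).relIndex (Subgroup.normalizer (Q : Set G)) = 6) :=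
  ⟨partA S hS T hT hTS, partB S hS Q hQS eQ⟩


/-- Let G be a finite group with quasi-dihedral Sylow 2-subgroup S, T a Klein four-subgroup of S and Q a quaternion subgroup of order 8 of S. Then |N_G(T) : C_G(T)| ∈ {2, 6} and |N_G(Q) : Q C_G(Q)| ∈ {2, 6}. -/
theorem result {G : Type*} [Group G] [Finite G] (S : Sylow 2 G) (hS : Cfsg.IsQuasiDihedral (S : Subgroup G)) (T : Subgroup G) (hT : IsKleinFour T) (hTS : T ≤ S) (Q : Subgroup G) (hQS : Q ≤ S) (eQ : Q ≃* QuaternionGroup 2) : ((Subgroup.centralizer (T : Set G)).relIndex (Subgroup.normalizer (T : Set G)) = 2 ∨ (Subgroup.centralizer (T : Set G)).relIndex (Subgroup.normalizer (T : Set G)) = 6) ∧ ((Q ⊔ Subgroup.centralizer (Q : Set G)).relIndex (Subgroup.normalizer (Q : Set G)) = 2 ∨ (Q ⊔ Subgroup.centralizer (Q : Set G)).relIndex (Subgroup.normalizer (Q : Set G)) = 6) := by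
  exact main1203 S hS T hT hTS Q hQS eQ

end Cfsg.Agent.S1203
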