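import Cfsg.Statements.S1204
import Mathlib
import Cfsg.Agent.S1203
import Cfsg.Agent.Lib.Lead.KleinDih3
import Cfsg.Agent.Lib.Helper4.ConjSub

set_option autoImplicit false
open Cfsg

namespace Cfsg.Agent.S1204

open Cfsg.Agent.S1236 Cfsg.Agent.S1203 Cfsg.Agent.Lib.Lead.KleinDih Cfsg.Agent.Lib.Helper4 Subgroup

set_option linter.unusedVariables false
set_option linter.unusedSectionVars false
set_option linter.style.haveILetI false

theorem good_qd3 {S : Type*} [Group S] [Finite S] (h : IsQuasiDihedral S) :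
    ∃ (n : ℕ) (x : S), 3 ≤ n ∧ Nat.card S = 2 ^ (n + 1) ∧ orderOf x = 2 ^ n ∧
      Good S (Subgroup.zpowers x) ∧ (Subgroup.zpowers x).index = 2 := by
  obtain ⟨n, hn, hcard, x, y, hx, hy, hxy⟩ := h
  obtain ⟨k, rfl⟩ : ∃ k, n = k + 3 := ⟨n - 3, by omega⟩
  have hcard0 := hcard
  have hx0 := hx
  obtain ⟨N, hN⟩ : ∃ N, N = 2 ^ (k + 1) := ⟨_, rfl⟩
  have hNpos : 2 ≤ N := by
    rw [hN, pow_succ]
    have : 1 ≤ 2 ^ k := Nat.one_le_two_pow
    omega
  have e1 : 2 ^ (k + 3) = 4 * N := by rw [hN]; ring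
  have e2 : 2 ^ (k + 3 - 1) - 1 = 2 * N - 1 := by
    have : k + 3 - 1 = k + 2 := by omega
    rw [this, hN]; ring_nf
  have e3 : 2 ^ (k + 3 + 1) = 8 * N := by rw [hN]; ring
  rw [e1] at hx
  rw [e2] at hxy
  rw [e3] at hcard
  have hcop : Nat.Coprime (2 * N) (N - 1) := by
    have h2N : 2 * N = 2 ^ (k + 2) := by rw [hN]; ring
    rw [h2N]
    apply Nat.Coprime.pow_left
    rw [Nat.coprime_two_left]
    refine ⟨2 ^ k - 1, ?_⟩
    have : 1 ≤ 2 ^ k := Nat.one_le_two_pow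
    rw [hN, pow_succ]; omega
  have hconj : ∀ j : ℕ, y * x ^ j * y⁻¹ = x ^ ((2 * N - 1) * j) := by
    intro j
    rw [← conj_pow, hxy, pow_mul]
  -- commuting with y forces 2N | j
  have L : ∀ j : ℕ, x ^ j * y = y * x ^ j → 2 * N ∣ j := by
    intro j hj
    have h1 : y * x ^ j * y⁻¹ = x ^ j := by rw [← hj, mul_inv_cancel_right]
    rw [hconj] at h1
    have h2 : (2 * N - 1) * j ≡ j [MOD 4 * N] := by
      rw [← hx]; exact pow_eq_pow_iff_modEq.1 h1
    have h3 : 4 * N ∣ (2 * N - 1) * j - j :=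
      (Nat.modEq_iff_dvd' (by nlinarith [Nat.sub_add_cancel (show 1 ≤ 2 * N by omega)] : j ≤ (2 * N - 1) * j)).1 h2.symm
    have h4 : (2 * N - 1) * j - j = 2 * ((N - 1) * j) := by
      obtain ⟨M, rfl⟩ : ∃ M, N = M + 1 := ⟨N - 1, by omega⟩
      have : 2 * (M + 1) - 1 = 2 * M + 1 := by omega
      rw [this, Nat.add_sub_cancel]
      have : (2 * M + 1) * j = 2 * (M * j) + j := by ring
      rw [this, Nat.add_sub_cancel]
    rw [h4] at h3
    have h5 : 2 * N ∣ (N - 1) * j := by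
      have : 4 * N = 2 * (2 * N) := by ring
      rw [this] at h3
      exact Nat.dvd_of_mul_dvd_mul_left (by norm_num) h3
    exact hcop.dvd_of_dvd_mul_left h5
  have hz2 : (x ^ (2 * N)) ^ 2 = 1 := by
    rw [← pow_mul]
    have : 2 * N * 2 = 4 * N := by ring
    rw [this, ← hx, pow_orderOf_eq_one]
  have M : ∀ j : ℕ, 2 * N ∣ j → x ^ j = 1 ∨ x ^ j = x ^ (2 * N) := by
    rintro j ⟨q, rfl⟩
    rw [pow_mul]
    rcases Nat.even_or_odd' q with ⟨r, rfl | rfl⟩
    · left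
      rw [pow_mul, hz2, one_pow]
    · right
      rw [pow_succ, pow_mul, hz2, one_pow, one_mul]
  let C := Subgroup.zpowers x
  have hCcard : Nat.card C = 4 * N := by rw [Nat.card_zpowers, hx]
  have hidx : C.index = 2 := by
    have := C.card_mul_index
    rw [hCcard, hcard] at this
    have h8 : 8 * N = 4 * N * 2 := by ring
    rw [h8] at this
    exact Nat.eq_of_mul_eq_mul_left (by omega) this
  have hpow : ∀ c ∈ C, ∃ j : ℕ, x ^ j = c := by
    intro c hc
    have : c ∈ Submonoid.powers x := mem_powers_iff_mem_zpowers.2 hc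
    exact (Submonoid.mem_powers_iff _ _).1 this
  have hyC : y ∉ C := by
    intro hyC
    obtain ⟨i, hi⟩ := hpow y hyC
    have h1 : x ^ 1 * y = y * x ^ 1 := by
      rw [← hi, ← pow_add, ← pow_add, add_comm]
    have := L 1 h1
    have := Nat.le_of_dvd (by norm_num) this
    omega
  -- centralizer of y in C
  have hcy : ∀ c ∈ C, c * y = y * c → c = 1 ∨ c = x ^ (2 * N) := by
    intro c hc hcy
    obtain ⟨j, rfl⟩ := hpow c hc
    exact M j (L j hcy)
  refine ⟨k + 3, x, by omega, hcard0, hx0, ⟨?_, ?_, ?_⟩, hidx⟩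
  · intro a b ha hb
    exact (Subgroup.mul_mem_iff_of_index_two hidx).2 (iff_of_false ha hb)
  · have hsq : ∀ c ∈ C, c * c = 1 → c = 1 ∨ c = x ^ (2 * N) := by
      intro c hc hcc
      obtain ⟨j, rfl⟩ := hpow c hc
      apply M
      rw [← pow_add] at hcc
      have h1 : 4 * N ∣ j + j := by rw [← hx]; exact orderOf_dvd_of_pow_eq_one hcc
      have h2 : 4 * N = 2 * (2 * N) := by ring
      have h3 : j + j = 2 * j := by ring
      rw [h2, h3] at h1
      exact Nat.dvd_of_mul_dvd_mul_left (by norm_num) h1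
    intro c₁ hc₁ c₂ hc₂ e1 e2 n1 n2
    rcases hsq c₁ hc₁ e1 with h | h
    · exact absurd h n1
    · rcases hsq c₂ hc₂ e2 with h' | h'
      · exact absurd h' n2
      · rw [h, h']
  · intro g hg
    have hyg : y⁻¹ * g ∈ C := by
      apply (Subgroup.mul_mem_iff_of_index_two hidx).2
      apply iff_of_false _ hg
      intro h; exact hyC (by simpa using C.inv_mem h)
    obtain ⟨i, hi⟩ := hpow _ hyg
    have hg' : g = y * x ^ i := by rw [hi, mul_inv_cancel_left]
    have hred : ∀ c ∈ C, c * g = g * c → c * y = y * c := by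
      intro c hc hcg
      obtain ⟨j, rfl⟩ := hpow c hc
      rw [hg'] at hcg
      have h1 : x ^ j * y * x ^ i = y * x ^ j * x ^ i := by
        calc x ^ j * y * x ^ i = x ^ j * (y * x ^ i) := by rw [mul_assoc]
          _ = y * x ^ i * x ^ j := hcg
          _ = y * (x ^ i * x ^ j) := by rw [mul_assoc]
          _ = y * (x ^ j * x ^ i) := by rw [← pow_add, ← pow_add, add_comm]
          _ = y * x ^ j * x ^ i := by rw [mul_assoc]
      exact mul_right_cancel h1
    intro c₁ hc₁ c₂ hc₂ n1 n2 e1 e2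
    rcases hcy c₁ hc₁ (hred c₁ hc₁ e1) with h | h
    · exact absurd h n1
    · rcases hcy c₂ hc₂ (hred c₂ hc₂ e2) with h' | h'
      · exact absurd h' n2
      · rw [h, h']

theorem card_conj_mul {P : Type*} [Group P] [Fintype P] [DecidableEq P] (g : P) :
    (Finset.univ.image (fun h : P => h * g * h⁻¹)).card *
      (Finset.univ.filter (fun h : P => h * g = g * h)).card = Fintype.card P := by
  have h1 := Finset.card_eq_sum_card_fiberwise (f := fun h : P => h * g * h⁻¹)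
    (s := Finset.univ) (t := Finset.univ.image (fun h : P => h * g * h⁻¹))
    (fun h _ => Finset.mem_coe.mpr (Finset.mem_image_of_mem _ (Finset.mem_univ h)))
  have h2 : ∀ b ∈ Finset.univ.image (fun h : P => h * g * h⁻¹),
      (Finset.univ.filter (fun h : P => h * g * h⁻¹ = b)).card =
        (Finset.univ.filter (fun h : P => h * g = g * h)).card := by
    intro b hb
    obtain ⟨h₀, -, rfl⟩ := Finset.mem_image.mp hb
    apply Finset.card_bij' (fun h _ => h₀⁻¹ * h) (fun k _ => h₀ * k)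
    · intro h hh
      rw [Finset.mem_filter] at hh ⊢
      refine ⟨Finset.mem_univ _, ?_⟩
      have := hh.2
      calc h₀⁻¹ * h * g = h₀⁻¹ * (h * g * h⁻¹) * h := by group
        _ = h₀⁻¹ * (h₀ * g * h₀⁻¹) * h := by rw [this]
        _ = g * (h₀⁻¹ * h) := by group
    · intro k hk
      rw [Finset.mem_filter] at hk ⊢
      refine ⟨Finset.mem_univ _, ?_⟩
      calc h₀ * k * g * (h₀ * k)⁻¹ = h₀ * (k * g) * k⁻¹ * h₀⁻¹ := by group
        _ = h₀ * (g * k) * k⁻¹ * h₀⁻¹ := by rw [hk.2]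
        _ = h₀ * g * h₀⁻¹ := by group
    · intro h _; group
    · intro k _; group
  rw [← Finset.card_univ, h1, Finset.sum_congr rfl h2, Finset.sum_const, smul_eq_mul]

theorem qd_abstract {P : Type*} [Group P] [Finite P] (n : ℕ) (hn : 3 ≤ n)
    (hcard : Nat.card P = 2 ^ (n + 1)) (x : P) (hx : orderOf x = 2 ^ n)
    (hC : Good P (Subgroup.zpowers x)) (hidx : (Subgroup.zpowers x).index = 2) :
    ∃ z : P, z ∈ Subgroup.zpowers x ∧ z ≠ 1 ∧ z * z = 1 ∧ (∀ g, g * z = z * g) ∧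
      (∀ c ∈ Subgroup.zpowers x, c * c = 1 → c ≠ 1 → c = z) ∧
      (∀ g, g ∉ Subgroup.zpowers x → g * g = 1 ∨ g * g = z) ∧
      (∀ t u, t ∉ Subgroup.zpowers x → u ∉ Subgroup.zpowers x → t * t = 1 → ¬ u * u = 1 →
        ∀ s, s ∉ Subgroup.zpowers x →
          (s * s = 1 → ∃ h, h * t * h⁻¹ = s) ∧ (¬ s * s = 1 → ∃ h, h * u * h⁻¹ = s)) ∧
      (∀ F : Finset P, (∀ c ∈ F, c ∈ Subgroup.zpowers x ∧ c ^ 4 = 1) → F.card ≤ 4) ∧
      (∃ c₄ d, c₄ ∈ Subgroup.zpowers x ∧ orderOf c₄ = 4 ∧ c₄ = d * d) := by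
  classical
  haveI : Fintype P := Fintype.ofFinite P
  obtain ⟨ha, hb, hc⟩ := hC
  obtain ⟨C, hCdef⟩ : ∃ C : Subgroup P, C = Subgroup.zpowers x := ⟨_, rfl⟩
  rw [← hCdef] at ha hb hc hidx ⊢
  haveI hCn : C.Normal := Subgroup.normal_of_index_eq_two hidx
  have hCcard : Nat.card C = 2 ^ n := by rw [hCdef, Nat.card_zpowers, hx]
  obtain ⟨k, rfl⟩ : ∃ k, n = k + 3 := ⟨n - 3, by omega⟩
  obtain ⟨z, hzdef⟩ : ∃ z : P, z = x ^ 2 ^ (k + 2) := ⟨_, rfl⟩
  have hz_ord : orderOf z = 2 := by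
    rw [hzdef, orderOf_pow_of_dvd (pow_ne_zero _ two_ne_zero)
      (by rw [hx]; exact pow_dvd_pow 2 (by omega)), hx]
    have : 2 ^ (k + 3) = 2 ^ (k + 2) * 2 := by ring
    rw [this, Nat.mul_div_cancel_left _ (pow_pos two_pos _)]
  have hzz : z * z = 1 := by rw [← pow_two, ← hz_ord]; exact pow_orderOf_eq_one _
  have hz1 : z ≠ 1 := by
    intro h; rw [h, orderOf_one] at hz_ord; omega
  have hzC : z ∈ C := by rw [hCdef, hzdef]; exact Subgroup.pow_mem _ (Subgroup.mem_zpowers x) _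
  have hzc : ∀ g, g * z = z * g := by
    intro g
    by_cases hg : g ∈ C
    · rw [hCdef] at hg
      obtain ⟨i, rfl⟩ := Subgroup.mem_zpowers_iff.mp hg
      rw [hzdef]
      exact (((Commute.refl x).zpow_left i).pow_right _).eq
    · have h1 : g * z * g⁻¹ ∈ C := hCn.conj_mem z hzC g
      have h2 : (g * z * g⁻¹) * (g * z * g⁻¹) = 1 := by
        calc (g * z * g⁻¹) * (g * z * g⁻¹) = g * (z * z) * g⁻¹ := by group
          _ = 1 := by rw [hzz]; group
      have h3 : g * z * g⁻¹ ≠ 1 := fun h => hz1 (conj_eq_one_iff.mp h)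
      have h4 := hb _ h1 z hzC h2 hzz h3 hz1
      calc g * z = (g * z * g⁻¹) * g := by group
        _ = z * g := by rw [h4]
  have hsq : ∀ g, g ∉ C → g * g = 1 ∨ g * g = z := by
    intro g hg
    by_cases h1 : g * g = 1
    · exact Or.inl h1
    · right
      exact hc g hg (g * g) (ha g g hg hg) z hzC h1 hz1 (mul_assoc g g g) (hzc g).symm
  have hcent : ∀ g, g ∉ C → ∀ h, h * g = g * h → h = 1 ∨ h = z ∨ h = g ∨ h = g * z := by
    intro g hg h hh
    by_cases hhC : h ∈ C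
    · by_cases h1 : h = 1
      · exact Or.inl h1
      · right; left
        exact hc g hg h hhC z hzC h1 hz1 hh (hzc g).symm
    · have hginv : g⁻¹ ∉ C := fun h' => hg (by simpa using C.inv_mem h')
      have h2 : g⁻¹ * h ∈ C := ha g⁻¹ h hginv hhC
      have h3 : (g⁻¹ * h) * g = g * (g⁻¹ * h) := by
        calc g⁻¹ * h * g = g⁻¹ * (h * g) := by group
          _ = g⁻¹ * (g * h) := by rw [hh]
          _ = g * (g⁻¹ * h) := by group
      by_cases h4 : g⁻¹ * h = 1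
      · right; right; left
        calc h = g * (g⁻¹ * h) := by group
          _ = g := by rw [h4, mul_one]
      · right; right; right
        have h5 := hc g hg (g⁻¹ * h) h2 z hzC h4 hz1 h3 (hzc g).symm
        calc h = g * (g⁻¹ * h) := by group
          _ = g * z := by rw [h5]
  obtain ⟨N, hNdef⟩ : ∃ N : ℕ, N = 2 ^ (k + 2) := ⟨_, rfl⟩
  have hN1 : 2 ^ (k + 3 + 1) = 4 * N := by rw [hNdef]; ring
  have hN2 : 2 ^ (k + 3) = 2 * N := by rw [hNdef]; ring
  rw [hN1] at hcard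
  rw [hN2] at hCcard
  have hclass : ∀ g, g ∉ C → N ≤ (Finset.univ.image (fun h : P => h * g * h⁻¹)).card := by
    intro g hg
    have h1 := card_conj_mul g
    have h2 : (Finset.univ.filter (fun h : P => h * g = g * h)).card ≤ 4 := by
      calc (Finset.univ.filter (fun h : P => h * g = g * h)).card
          ≤ ({1, z, g, g * z} : Finset P).card := by
            apply Finset.card_le_card
            intro h hh
            rw [Finset.mem_filter] at hh
            simp only [Finset.mem_insert, Finset.mem_singleton]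
            exact hcent g hg h hh.2
        _ ≤ 4 := Finset.card_le_four
    rw [← Nat.card_eq_fintype_card, hcard] at h1
    have h3 := Nat.mul_le_mul_left (Finset.univ.image (fun h : P => h * g * h⁻¹)).card h2
    rw [h1] at h3
    omega
  have htwo : ∀ t u, t ∉ C → u ∉ C → t * t = 1 → ¬ u * u = 1 → ∀ s, s ∉ C →
      (s * s = 1 → ∃ h, h * t * h⁻¹ = s) ∧ (¬ s * s = 1 → ∃ h, h * u * h⁻¹ = s) := by
    intro t u ht hu htt huu
    obtain ⟨A, hA⟩ : ∃ A : Finset P, A = Finset.univ.image (fun h : P => h * t * h⁻¹) := ⟨_, rfl⟩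
    obtain ⟨B, hB⟩ : ∃ B : Finset P, B = Finset.univ.image (fun h : P => h * u * h⁻¹) := ⟨_, rfl⟩
    obtain ⟨I, hI⟩ : ∃ I : Finset P, I = Finset.univ.filter (fun g : P => g ∉ C ∧ g * g = 1) :=
      ⟨_, rfl⟩
    obtain ⟨J, hJ⟩ : ∃ J : Finset P, J = Finset.univ.filter (fun g : P => g ∉ C ∧ ¬ g * g = 1) :=
      ⟨_, rfl⟩
    have hAI : A ⊆ I := by
      intro g hg
      rw [hA] at hg
      obtain ⟨h, -, rfl⟩ := Finset.mem_image.mp hg
      rw [hI, Finset.mem_filter]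
      refine ⟨Finset.mem_univ _, ?_, ?_⟩
      · intro hmem
        apply ht
        have := hCn.conj_mem _ hmem h⁻¹
        have e : h⁻¹ * (h * t * h⁻¹) * h⁻¹⁻¹ = t := by group
        rwa [e] at this
      · calc h * t * h⁻¹ * (h * t * h⁻¹) = h * (t * t) * h⁻¹ := by group
          _ = 1 := by rw [htt]; group
    have hBJ : B ⊆ J := by
      intro g hg
      rw [hB] at hg
      obtain ⟨h, -, rfl⟩ := Finset.mem_image.mp hg
      rw [hJ, Finset.mem_filter]
      refine ⟨Finset.mem_univ _, ?_, ?_⟩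
      · intro hmem
        apply hu
        have := hCn.conj_mem _ hmem h⁻¹
        have e : h⁻¹ * (h * u * h⁻¹) * h⁻¹⁻¹ = u := by group
        rwa [e] at this
      · intro h1
        apply huu
        have e : h * (u * u) * h⁻¹ = 1 := by rw [← h1]; group
        exact conj_eq_one_iff.mp e
    have hIJ : I.card + J.card = 2 * N := by
      have h1 : (Finset.univ.filter (fun g : P => g ∈ C)).card = 2 * N := by
        rw [← Fintype.card_subtype, ← Nat.card_eq_fintype_card]; exact hCcard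
      have h2 := Finset.card_filter_add_card_filter_not (s := (Finset.univ : Finset P))
        (fun g : P => g ∈ C)
      have h3 := Finset.card_filter_add_card_filter_not
        (s := Finset.univ.filter (fun g : P => ¬ g ∈ C)) (fun g : P => g * g = 1)
      rw [Finset.filter_filter, Finset.filter_filter] at h3
      rw [Finset.card_univ, ← Nat.card_eq_fintype_card, hcard, h1] at h2
      rw [hI, hJ]
      omega
    have hAc : N ≤ A.card := by rw [hA]; exact hclass t ht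
    have hBc : N ≤ B.card := by rw [hB]; exact hclass u hu
    have hAI' := Finset.card_le_card hAI
    have hBJ' := Finset.card_le_card hBJ
    have hAeq : A = I := Finset.eq_of_subset_of_card_le hAI (by omega)
    have hBeq : B = J := Finset.eq_of_subset_of_card_le hBJ (by omega)
    intro s hs
    constructor
    · intro hss
      have : s ∈ A := by rw [hAeq, hI, Finset.mem_filter]; exact ⟨Finset.mem_univ _, hs, hss⟩
      rw [hA] at this
      obtain ⟨h, -, hh⟩ := Finset.mem_image.mp this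
      exact ⟨h, hh⟩
    · intro hss
      have : s ∈ B := by rw [hBeq, hJ, Finset.mem_filter]; exact ⟨Finset.mem_univ _, hs, hss⟩
      rw [hB] at this
      obtain ⟨h, -, hh⟩ := Finset.mem_image.mp this
      exact ⟨h, hh⟩
  have hF : ∀ F : Finset P, (∀ c ∈ F, c ∈ C ∧ c ^ 4 = 1) → F.card ≤ 4 := by
    intro F hFm
    haveI : IsCyclic ↥C := by rw [hCdef]; infer_instance
    have h1 := IsCyclic.card_pow_eq_one_le (α := ↥C) (n := 4) (by norm_num)
    refine le_trans ?_ h1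
    apply Finset.card_le_card_of_injOn (fun p : P => if h : p ∈ C then (⟨p, h⟩ : ↥C) else 1)
    · intro c hc
      have hcm := hFm c (Finset.mem_coe.mp hc)
      rw [Finset.mem_coe, Finset.mem_filter]
      refine ⟨Finset.mem_univ _, ?_⟩
      show (if h : c ∈ C then (⟨c, h⟩ : ↥C) else 1) ^ 4 = 1
      rw [dif_pos hcm.1]
      apply Subtype.ext
      rw [Subgroup.coe_pow]
      exact hcm.2
    · intro c hc d hd hcd
      have hcm := hFm c (Finset.mem_coe.mp hc)
      have hdm := hFm d (Finset.mem_coe.mp hd)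
      simp only [dif_pos hcm.1, dif_pos hdm.1] at hcd
      exact congrArg Subtype.val hcd
  refine ⟨z, hzC, hz1, hzz, hzc, ?_, hsq, htwo, hF, ?_⟩
  · intro c hcC hcc hc1
    exact hb c hcC z hzC hcc hzz hc1 hz1
  · refine ⟨x ^ 2 ^ (k + 1), x ^ 2 ^ k, ?_, ?_, ?_⟩
    · rw [hCdef]; exact Subgroup.pow_mem _ (Subgroup.mem_zpowers x) _
    · rw [orderOf_pow_of_dvd (pow_ne_zero _ two_ne_zero)
        (by rw [hx]; exact pow_dvd_pow 2 (by omega)), hx]
      have : 2 ^ (k + 3) = 2 ^ (k + 1) * 4 := by ring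
      rw [this, Nat.mul_div_cancel_left _ (pow_pos two_pos _)]
    · rw [← pow_add]
      congr 1
      ring

theorem qd_facts {G : Type*} [Group G] [Finite G] (S : Sylow 2 G)
    (hS : IsQuasiDihedral (S : Subgroup G)) :
    ∃ (Cg : Subgroup G) (z : G), Cg ≤ (S : Subgroup G) ∧ z ∈ Cg ∧ z ≠ 1 ∧ z * z = 1 ∧
      (∀ s ∈ (S : Subgroup G), s * z = z * s) ∧
      (∀ c ∈ Cg, c * c = 1 → c ≠ 1 → c = z) ∧
      (∀ a ∈ (S : Subgroup G), ∀ b ∈ (S : Subgroup G), a ∉ Cg → b ∉ Cg → a * b ∈ Cg) ∧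
      (∀ s ∈ (S : Subgroup G), s ∉ Cg → s * s = 1 ∨ s * s = z) ∧
      (∀ t ∈ (S : Subgroup G), ∀ u ∈ (S : Subgroup G), t ∉ Cg → u ∉ Cg → t * t = 1 →
        ¬ u * u = 1 → ∀ s ∈ (S : Subgroup G), s ∉ Cg →
          (s * s = 1 → ∃ h, h * t * h⁻¹ = s) ∧ (¬ s * s = 1 → ∃ h, h * u * h⁻¹ = s)) ∧
      (∀ F : Finset G, (∀ c ∈ F, c ∈ Cg ∧ c ^ 4 = 1) → F.card ≤ 4) ∧
      (∃ c₄ d, c₄ ∈ Cg ∧ orderOf c₄ = 4 ∧ c₄ = d * d) := by
  classical
  obtain ⟨n, x, hn, hcard, hx, hGood, hidx⟩ := good_qd3 hS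
  obtain ⟨z, hzC, hz1, hzz, hzc, hzu, hsq, htwo, hF, c₄, d, hc₄C, hc₄o, hc₄d⟩ :=
    qd_abstract n hn hcard x hx hGood hidx
  obtain ⟨ha, -, -⟩ := hGood
  obtain ⟨C, hCdef⟩ : ∃ C : Subgroup ↥(S : Subgroup G), C = Subgroup.zpowers x := ⟨_, rfl⟩
  rw [← hCdef] at hzC hzu hsq htwo hF hc₄C ha
  have hmem : ∀ (s : G) (hs : s ∈ (S : Subgroup G)),
      s ∈ C.map (S : Subgroup G).subtype ↔ (⟨s, hs⟩ : ↥(S : Subgroup G)) ∈ C := by
    intro s hs
    constructor
    · rintro ⟨c, hc, hcs⟩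
      have : c = ⟨s, hs⟩ := Subtype.ext hcs
      rw [← this]; exact hc
    · intro h
      exact ⟨⟨s, hs⟩, h, rfl⟩
  refine ⟨C.map (S : Subgroup G).subtype, (z : G), Subgroup.map_subtype_le _, ⟨z, hzC, rfl⟩,
    fun h => hz1 (Subtype.ext h), congrArg Subtype.val hzz, ?_, ?_, ?_, ?_, ?_, ?_, ?_⟩
  · intro s hs
    exact congrArg Subtype.val (hzc ⟨s, hs⟩)
  · rintro c ⟨c', hc', rfl⟩ hcc hc1
    have := hzu c' hc' (Subtype.ext hcc) (fun h => hc1 (congrArg Subtype.val h))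
    rw [this]; rfl
  · intro a haS b hbS haC hbC
    exact (hmem (a * b) ((S : Subgroup G).mul_mem haS hbS)).mpr
      (ha ⟨a, haS⟩ ⟨b, hbS⟩ (fun h => haC ((hmem a haS).mpr h)) (fun h => hbC ((hmem b hbS).mpr h)))
  · intro s hs hsC
    rcases hsq ⟨s, hs⟩ (fun h => hsC ((hmem s hs).mpr h)) with h | h
    · exact Or.inl (congrArg Subtype.val h)
    · exact Or.inr (congrArg Subtype.val h)
  · intro t ht u hu htC huC htt huu s hs hsC
    have := htwo ⟨t, ht⟩ ⟨u, hu⟩ (fun h => htC ((hmem t ht).mpr h)) (fun h => huC ((hmem u hu).mpr h))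
      (Subtype.ext htt) (fun h => huu (congrArg Subtype.val h)) ⟨s, hs⟩
      (fun h => hsC ((hmem s hs).mpr h))
    constructor
    · intro hss
      obtain ⟨h, hh⟩ := this.1 (Subtype.ext hss)
      exact ⟨h, congrArg Subtype.val hh⟩
    · intro hss
      obtain ⟨h, hh⟩ := this.2 (fun h => hss (congrArg Subtype.val h))
      exact ⟨h, congrArg Subtype.val hh⟩
  · intro F hFm
    have hFS : ∀ c ∈ F, c ∈ (S : Subgroup G) := fun c hc => Subgroup.map_subtype_le _ (hFm c hc).1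
    have h1 : (F.subtype (fun g => g ∈ (S : Subgroup G))).card = F.card := by
      rw [Finset.card_subtype, Finset.filter_true_of_mem hFS]
    rw [← h1]
    apply hF
    intro c hc
    rw [Finset.mem_subtype] at hc
    have := hFm c.1 hc
    refine ⟨(hmem c.1 c.2).mp this.1, ?_⟩
    apply Subtype.ext
    rw [Subgroup.coe_pow]
    exact this.2
  · refine ⟨c₄, d, ⟨c₄, hc₄C, rfl⟩, ?_, ?_⟩
    · rw [Subgroup.orderOf_coe]; exact hc₄o
    · rw [hc₄d]; rfl

theorem q8_pow4 : ∀ g : QuaternionGroup 2, g ^ 4 = 1 := by decide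
theorem q8_inv_conj : ∀ g : QuaternionGroup 2, ∃ q : QuaternionGroup 2, q * g * q⁻¹ = g⁻¹ := by
  decide
theorem q8_sq_one : ∀ g : QuaternionGroup 2, g * g = 1 →
    g = 1 ∨ g = QuaternionGroup.a 1 * QuaternionGroup.a 1 := by decide
theorem q8_sq_sq : ∀ g : QuaternionGroup 2, (g * g) * (g * g) = 1 := by decide
theorem q8_cube : ∀ g : QuaternionGroup 2, g * g * g = g⁻¹ := by decide

theorem q8_zpow_cases (w g : QuaternionGroup 2) (k : ℤ) (hk : w ^ k = g) (hg : g * g ≠ 1) :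
    g = w ∨ g = w⁻¹ := by
  have h4 : w ^ (4 : ℤ) = 1 := by
    have := q8_pow4 w
    rw [← zpow_natCast] at this
    exact_mod_cast this
  have hk' : w ^ k = w ^ (k % 4) := by
    conv_lhs => rw [← Int.mul_ediv_add_emod k 4]
    rw [zpow_add, zpow_mul, h4, one_zpow, one_mul]
  have h0 : 0 ≤ k % 4 := Int.emod_nonneg k (by norm_num)
  have h1 : k % 4 < 4 := Int.emod_lt_of_pos k (by norm_num)
  rw [hk'] at hk
  obtain ⟨r, hr⟩ : ∃ r : ℤ, r = k % 4 := ⟨_, rfl⟩
  rw [← hr] at hk h0 h1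
  interval_cases r
  · exfalso; apply hg; rw [← hk]; simp
  · left; rw [← hk]; simp
  · exfalso; apply hg; rw [← hk]
    have : w ^ (2 : ℤ) = w * w := by
      rw [show (2 : ℤ) = ((2 : ℕ) : ℤ) from rfl, zpow_natCast, pow_two]
    rw [this]; exact q8_sq_sq w
  · right; rw [← hk]
    have : w ^ (3 : ℤ) = w * w * w := by
      rw [show (3 : ℤ) = ((3 : ℕ) : ℤ) from rfl, zpow_natCast, pow_succ, pow_two]
    rw [this]; exact q8_cube w

theorem elt_conj_into_sylow {G : Type*} [Group G] [Finite G] (S : Sylow 2 G) (a : G) (k : ℕ)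
    (ha : orderOf a = 2 ^ k) : ∃ g : G, g * a * g⁻¹ ∈ (S : Subgroup G) := by
  haveI : Fact (Nat.Prime 2) := ⟨Nat.prime_two⟩
  have hz2 : IsPGroup 2 ↥(Subgroup.zpowers a) := by
    apply IsPGroup.of_card (n := k)
    rw [Nat.card_zpowers, ha]
  obtain ⟨P, hP⟩ := hz2.exists_le_sylow
  obtain ⟨x, hx⟩ := MulAction.exists_smul_eq G P S
  have hPS : cj x (P : Subgroup G) = (S : Subgroup G) := by rw [← sylow_smul_eq_cj, hx]
  refine ⟨x, ?_⟩
  rw [← hPS]
  exact conj_mem_cj x _ (hP (Subgroup.mem_zpowers a))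

theorem conj_classes_one {G : Type*} [Group G] (k : ℕ) (w : G) (hw : orderOf w = k)
    (hall : ∀ v, orderOf v = k → ∃ h, h * w * h⁻¹ = v) :
    Nat.card {C : ConjClasses G // ∃ t : G, orderOf t = k ∧ ConjClasses.mk t = C} = 1 := by
  rw [Nat.card_eq_one_iff_unique]
  constructor
  · constructor
    rintro ⟨C₁, t₁, ht₁, rfl⟩ ⟨C₂, t₂', ht₂', rfl⟩
    apply Subtype.ext
    rw [ConjClasses.mk_eq_mk_iff_isConj]
    obtain ⟨h1, hh1⟩ := hall t₁ ht₁
    obtain ⟨h2, hh2⟩ := hall t₂' ht₂'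
    have e1 : IsConj w t₁ := isConj_iff.mpr ⟨h1, hh1⟩
    have e2 : IsConj w t₂' := isConj_iff.mpr ⟨h2, hh2⟩
    exact e1.symm.trans e2
  · exact ⟨⟨ConjClasses.mk w, w, hw, rfl⟩⟩

theorem main1204 {G : Type*} [Group G] [Finite G] (S : Sylow 2 G) (hS : Cfsg.IsQuasiDihedral (S : Subgroup G)) (T : Subgroup G) (hT : IsKleinFour T) (hTS : T ≤ S) (Q : Subgroup G) (hQS : Q ≤ S) (eQ : Q ≃* QuaternionGroup 2) (h₁ : (Subgroup.centralizer (T : Set G)).relIndex (Subgroup.normalizer (T : Set G)) = 6) (h₂ : (Q ⊔ Subgroup.centralizer (Q : Set G)).relIndex (Subgroup.normalizer (Q : Set G)) = 6) : (∀ H : Subgroup G, H.index ≠ 2) ∧ Nat.card {C : ConjClasses G // ∃ t : G, orderOf t = 2 ∧ ConjClasses.mk t = C} = 1 ∧ Nat.card {C : ConjClasses G // ∃ t : G, orderOf t = 4 ∧ ConjClasses.mk t = C} = 1 := by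
  classical
  haveI : Fact (Nat.Prime 2) := ⟨Nat.prime_two⟩
  haveI := hT
  obtain ⟨Cg, z, hCgS, hzC, hz1, hzz, hzc, hzu, hprod, hsq, htwo, hF, c₄, d, hc₄C, hc₄o, hc₄d⟩ :=
    qd_facts S hS
  -- structure of T
  obtain ⟨a', ha', b', hb', ha'1, hb'1, hab'⟩ := klein_two T
  have hTinv : ∀ v ∈ T, v ∈ Cg → v ≠ 1 → v = z :=
    fun v hv hvC hv1 => hzu v hvC (klein_sq T v hv) hv1
  have hzT : z ∈ T := by
    by_cases h1 : a' ∈ Cg
    · rw [← hTinv a' ha' h1 ha'1]; exact ha'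
    · by_cases h2 : b' ∈ Cg
      · rw [← hTinv b' hb' h2 hb'1]; exact hb'
      · have h3 := hprod a' (hTS ha') b' (hTS hb') h1 h2
        have h4 := klein_mul_ne_one T ha' hb' hab'
        rw [← hTinv (a' * b') (T.mul_mem ha' hb') h3 h4]; exact T.mul_mem ha' hb'
  obtain ⟨t₂, ht₂T, ht₂C⟩ : ∃ t₂ ∈ T, t₂ ∉ Cg := by
    by_cases h1 : a' ∈ Cg
    · by_cases h2 : b' ∈ Cg
      · exact absurd ((hTinv a' ha' h1 ha'1).trans (hTinv b' hb' h2 hb'1).symm) hab'
      · exact ⟨b', hb', h2⟩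
    · exact ⟨a', ha', h1⟩
  have ht₂S : t₂ ∈ (S : Subgroup G) := hTS ht₂T
  have ht₂sq : t₂ * t₂ = 1 := klein_sq T t₂ ht₂T
  have ht₂1 : t₂ ≠ 1 := fun h => ht₂C (h ▸ Cg.one_mem)
  have hTconj : ∃ h : G, h * t₂ * h⁻¹ = z :=
    klein_all_conj T (by rw [h₁]; decide) t₂ z ht₂T hzT ht₂1 hz1
  -- structure of Q
  obtain ⟨f, hfdef⟩ : ∃ f : QuaternionGroup 2 →* G, f = Q.subtype.comp eQ.symm.toMonoidHom :=
    ⟨_, rfl⟩
  have hfQ : ∀ g, f g ∈ Q := by intro g; rw [hfdef]; exact (eQ.symm g).2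
  have hfs : ∀ q ∈ Q, ∃ g, f g = q := by
    intro q hq; exact ⟨eQ ⟨q, hq⟩, by rw [hfdef]; simp⟩
  have hfi : Function.Injective f := by
    rw [hfdef]; exact (Subgroup.subtype_injective _).comp eQ.symm.injective
  have hf4 : ∀ g, (f g) ^ 4 = 1 := by intro g; rw [← map_pow, q8_pow4 g, map_one]
  have hfS : ∀ g, f g ∈ (S : Subgroup G) := fun g => hQS (hfQ g)
  obtain ⟨QF, hQF⟩ : ∃ QF : Finset G, QF = Finset.univ.image f := ⟨_, rfl⟩
  have hQFcard : QF.card = 8 := by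
    rw [hQF, Finset.card_image_of_injective _ hfi, Finset.card_univ, QuaternionGroup.card]
  have hQFmem : ∀ q, q ∈ QF ↔ ∃ g, f g = q := by
    intro q; rw [hQF, Finset.mem_image]
    constructor
    · rintro ⟨g, -, h⟩; exact ⟨g, h⟩
    · rintro ⟨g, h⟩; exact ⟨g, Finset.mem_univ _, h⟩
  have hF1 : (QF.filter (fun q => q ∈ Cg)).card ≤ 4 := by
    apply hF
    intro c hc
    rw [Finset.mem_filter, hQFmem] at hc
    obtain ⟨⟨g, rfl⟩, hcC⟩ := hc
    exact ⟨hcC, hf4 g⟩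
  have hF12 := Finset.card_filter_add_card_filter_not (s := QF) (fun q => q ∈ Cg)
  obtain ⟨u₀, hu₀F⟩ : ∃ u₀, u₀ ∈ QF.filter (fun q => ¬ q ∈ Cg) := by
    apply Finset.card_pos.mp
    omega
  rw [Finset.mem_filter, hQFmem] at hu₀F
  obtain ⟨⟨g₀, hg₀⟩, hu₀C⟩ := hu₀F
  have hu₀S : u₀ ∈ (S : Subgroup G) := by rw [← hg₀]; exact hfS g₀
  have hu₀Q : u₀ ∈ Q := by rw [← hg₀]; exact hfQ g₀
  have hu₀inv : u₀⁻¹ ∉ Cg := fun h => hu₀C (by simpa using Cg.inv_mem h)
  have hF21 : (QF.filter (fun q => ¬ q ∈ Cg)).card ≤ (QF.filter (fun q => q ∈ Cg)).card := by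
    apply Finset.card_le_card_of_injOn (fun q => u₀⁻¹ * q)
    · intro q hq
      rw [Finset.mem_coe, Finset.mem_filter, hQFmem] at hq
      obtain ⟨⟨g, rfl⟩, hqC⟩ := hq
      rw [Finset.mem_coe, Finset.mem_filter, hQFmem]
      refine ⟨⟨g₀⁻¹ * g, by rw [map_mul, map_inv, hg₀]⟩, ?_⟩
      exact hprod u₀⁻¹ ((S : Subgroup G).inv_mem hu₀S) (f g) (hfS g) hu₀inv hqC
    · intro q _ q' _ hqq
      exact mul_left_cancel hqq
  have hF1eq : (QF.filter (fun q => q ∈ Cg)).card = 4 := by omega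
  have hCg4 : ∀ v ∈ Cg, v ^ 4 = 1 → ∃ g, f g = v := by
    intro v hvC hv4
    by_contra hcon
    have hvF : v ∉ QF.filter (fun q => q ∈ Cg) := by
      intro h
      rw [Finset.mem_filter, hQFmem] at h
      exact hcon h.1
    have h5 : (insert v (QF.filter (fun q => q ∈ Cg))).card ≤ 4 := by
      apply hF
      intro c hc
      rw [Finset.mem_insert] at hc
      rcases hc with rfl | hc
      · exact ⟨hvC, hv4⟩
      · rw [Finset.mem_filter, hQFmem] at hc
        obtain ⟨⟨g, rfl⟩, hcC⟩ := hc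
        exact ⟨hcC, hf4 g⟩
    rw [Finset.card_insert_of_notMem hvF, hF1eq] at h5
    omega
  have hu₀sq : ¬ u₀ * u₀ = 1 := by
    intro h
    rw [← hg₀, ← map_mul] at h
    have h1 : g₀ * g₀ = 1 := hfi (h.trans (map_one f).symm)
    rcases q8_sq_one g₀ h1 with h2 | h2
    · apply hu₀C; rw [← hg₀, h2, map_one]; exact Cg.one_mem
    · apply hu₀C
      rw [← hg₀, h2, map_mul]
      by_cases h3 : f (QuaternionGroup.a 1) ∈ Cg
      · exact Cg.mul_mem h3 h3
      · exact hprod _ (hfS _) _ (hfS _) h3 h3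
  -- fusion inside Q
  have hsurj : ∀ A B : {A : Subgroup G // Cfsg.Agent.S1203.three f A},
      ∃ n : ↥(Subgroup.normalizer (Q : Set G)), (conjPermQ f Q hfQ hfs hfi n) A = B := by
    have hker := kerQ f Q hfQ hfs hfi
    have hidx6 : (conjPermQ f Q hfQ hfs hfi).ker.index = 6 := by rw [hker]; exact h₂
    have hrange : Nat.card (conjPermQ f Q hfQ hfs hfi).range = 6 := by
      rw [← Subgroup.index_ker]; exact hidx6
    have hperm : Nat.card (Equiv.Perm {A : Subgroup G // Cfsg.Agent.S1203.three f A}) ≤ 6 := by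
      rw [Nat.card_perm]
      calc (Nat.card {A : Subgroup G // Cfsg.Agent.S1203.three f A}).factorial
          ≤ Nat.factorial 3 := Nat.factorial_le (card_XQ f)
        _ = 6 := rfl
    have htop : (conjPermQ f Q hfQ hfs hfi).range = ⊤ :=
      Subgroup.eq_top_of_le_card _ (by rw [hrange]; exact hperm)
    intro A B
    have : Equiv.swap A B ∈ (conjPermQ f Q hfQ hfs hfi).range := by rw [htop]; trivial
    obtain ⟨n, hn⟩ := this
    exact ⟨n, by rw [hn, Equiv.swap_apply_left]⟩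
  have hQinv : ∀ g : QuaternionGroup 2, ∃ h : G, h * f g * h⁻¹ = f g⁻¹ := by
    intro g
    obtain ⟨q, hq⟩ := q8_inv_conj g
    exact ⟨f q, by rw [← map_inv, ← map_mul, ← map_mul, hq]⟩
  have hFQ : ∀ w w' : QuaternionGroup 2, w * w ≠ 1 → w' * w' ≠ 1 →
      ∃ h : G, h * f w * h⁻¹ = f w' := by
    intro w w' hw hw'
    obtain ⟨n, hn⟩ := hsurj ⟨Subgroup.zpowers (f w), three_of_sq_ne f w hw⟩
      ⟨Subgroup.zpowers (f w'), three_of_sq_ne f w' hw'⟩
    have h1 := congrArg Subtype.val hn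
    rw [conjPermQ_apply] at h1
    simp only [] at h1
    rw [MonoidHom.map_zpowers] at h1
    obtain ⟨g', hg', hng'⟩ := K1 f Q hfQ hfs hfi n.1 n.2 w hw
    have h2 : (MulAut.conj n.1).toMonoidHom (f w) = f g' := by
      rw [← hng']; rfl
    rw [h2] at h1
    have h3 : f g' ∈ Subgroup.zpowers (f w') := by rw [← h1]; exact Subgroup.mem_zpowers _
    obtain ⟨k, hk⟩ := Subgroup.mem_zpowers_iff.mp h3
    rw [← map_zpow] at hk
    have h4 : w' ^ k = g' := hfi hk
    rcases q8_zpow_cases w' g' k h4 hg' with h5 | h5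
    · exact ⟨n.1, by rw [hng', h5]⟩
    · obtain ⟨h, hh⟩ := hQinv g'
      refine ⟨h * n.1, ?_⟩
      calc h * n.1 * f w * (h * n.1)⁻¹ = h * (n.1 * f w * n.1⁻¹) * h⁻¹ := by group
        _ = h * f g' * h⁻¹ := by rw [hng']
        _ = f g'⁻¹ := hh
        _ = f w' := by rw [h5, inv_inv]
  have hg₀sq : g₀ * g₀ ≠ 1 := by
    intro h
    apply hu₀sq
    rw [← hg₀, ← map_mul, h, map_one]
  -- all involutions are conjugate to t₂
  have hinv : ∀ v : G, orderOf v = 2 → ∃ h : G, h * t₂ * h⁻¹ = v := by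
    intro v hv
    obtain ⟨g, hg⟩ := elt_conj_into_sylow S v 1 (by rw [hv, pow_one])
    have hv2 : v * v = 1 := by rw [← pow_two, ← hv]; exact pow_orderOf_eq_one v
    have hv1 : v ≠ 1 := by intro h; rw [h, orderOf_one] at hv; omega
    have hw2 : (g * v * g⁻¹) * (g * v * g⁻¹) = 1 := by
      calc (g * v * g⁻¹) * (g * v * g⁻¹) = g * (v * v) * g⁻¹ := by group
        _ = 1 := by rw [hv2]; group
    have hw1 : g * v * g⁻¹ ≠ 1 := fun h => hv1 (conj_eq_one_iff.mp h)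
    have hw : ∃ h : G, h * t₂ * h⁻¹ = g * v * g⁻¹ := by
      by_cases hwC : g * v * g⁻¹ ∈ Cg
      · rw [hzu _ hwC hw2 hw1]; exact hTconj
      · exact (htwo t₂ ht₂S u₀ hu₀S ht₂C hu₀C ht₂sq hu₀sq _ hg hwC).1 hw2
    obtain ⟨h, hh⟩ := hw
    refine ⟨g⁻¹ * h, ?_⟩
    calc g⁻¹ * h * t₂ * (g⁻¹ * h)⁻¹ = g⁻¹ * (h * t₂ * h⁻¹) * g := by group
      _ = g⁻¹ * (g * v * g⁻¹) * g := by rw [hh]
      _ = v := by group
  -- all elements of order 4 are conjugate to u₀
  have hord4 : ∀ v : G, orderOf v = 4 → ∃ h : G, h * u₀ * h⁻¹ = v := by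
    intro v hv
    obtain ⟨g, hg⟩ := elt_conj_into_sylow S v 2 (by rw [hv]; norm_num)
    have hv4 : v ^ 4 = 1 := by rw [← hv]; exact pow_orderOf_eq_one v
    have hv2 : ¬ v * v = 1 := by
      intro h
      have := orderOf_dvd_of_pow_eq_one (show v ^ 2 = 1 by rw [pow_two]; exact h)
      rw [hv] at this
      omega
    have hw4 : (g * v * g⁻¹) ^ 4 = 1 := by rw [conj_pow, hv4]; group
    have hw2 : ¬ (g * v * g⁻¹) * (g * v * g⁻¹) = 1 := by
      intro h
      apply hv2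
      have e : g * (v * v) * g⁻¹ = 1 := by rw [← h]; group
      exact conj_eq_one_iff.mp e
    have hw : ∃ h : G, h * u₀ * h⁻¹ = g * v * g⁻¹ := by
      by_cases hwC : g * v * g⁻¹ ∈ Cg
      · obtain ⟨gw, hgw⟩ := hCg4 _ hwC hw4
        have hgw2 : gw * gw ≠ 1 := by
          intro h
          apply hw2
          rw [← hgw, ← map_mul, h, map_one]
        obtain ⟨h, hh⟩ := hFQ g₀ gw hg₀sq hgw2
        exact ⟨h, by rw [← hg₀, hh, hgw]⟩
      · exact (htwo t₂ ht₂S u₀ hu₀S ht₂C hu₀C ht₂sq hu₀sq _ hg hwC).2 hw2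
    obtain ⟨h, hh⟩ := hw
    refine ⟨g⁻¹ * h, ?_⟩
    calc g⁻¹ * h * u₀ * (g⁻¹ * h)⁻¹ = g⁻¹ * (h * u₀ * h⁻¹) * g := by group
      _ = g⁻¹ * (g * v * g⁻¹) * g := by rw [hh]
      _ = v := by group
  have ht₂o : orderOf t₂ = 2 := orderOf_eq_prime (by rw [pow_two]; exact ht₂sq) ht₂1
  have hu₀4 : u₀ ^ 4 = 1 := by rw [← hg₀]; exact hf4 g₀
  have hu₀o : orderOf u₀ = 4 := by
    have e1 : ¬ u₀ ^ 2 ^ 1 = 1 := by rw [pow_one, pow_two]; exact hu₀sq
    have e2 : u₀ ^ 2 ^ (1 + 1) = 1 := by norm_num; exact hu₀4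
    have := orderOf_eq_prime_pow e1 e2
    rw [this]; norm_num
  refine ⟨?_, conj_classes_one 2 t₂ ht₂o hinv, conj_classes_one 4 u₀ hu₀o hord4⟩
  intro H hH
  haveI hHn : H.Normal := Subgroup.normal_of_index_eq_two hH
  have hzH : z ∈ H := by
    have := Subgroup.mul_self_mem_of_index_two hH u₀
    rcases hsq u₀ hu₀S hu₀C with h | h
    · exact absurd h hu₀sq
    · rw [← h]; exact this
  have hc₄H : c₄ ∈ H := by rw [hc₄d]; exact Subgroup.mul_self_mem_of_index_two hH d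
  have hzo : orderOf z = 2 := orderOf_eq_prime (by rw [pow_two]; exact hzz) hz1
  have hinvH : ∀ v, orderOf v = 2 → v ∈ H := by
    intro v hv
    obtain ⟨h1, hh1⟩ := hinv z hzo
    obtain ⟨h2, hh2⟩ := hinv v hv
    have : v = (h2 * h1⁻¹) * z * (h2 * h1⁻¹)⁻¹ := by rw [← hh1, ← hh2]; group
    rw [this]; exact hHn.conj_mem z hzH _
  have hord4H : ∀ v, orderOf v = 4 → v ∈ H := by
    intro v hv
    obtain ⟨h1, hh1⟩ := hord4 c₄ hc₄o
    obtain ⟨h2, hh2⟩ := hord4 v hv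
    have : v = (h2 * h1⁻¹) * c₄ * (h2 * h1⁻¹)⁻¹ := by rw [← hh1, ← hh2]; group
    rw [this]; exact hHn.conj_mem c₄ hc₄H _
  have hout : ∀ s ∈ (S : Subgroup G), s ∉ Cg → s ∈ H := by
    intro s hs hsC
    rcases hsq s hs hsC with h | h
    · apply hinvH
      exact orderOf_eq_prime (by rw [pow_two]; exact h) (fun h1 => hsC (h1 ▸ Cg.one_mem))
    · apply hord4H
      have e1 : ¬ s ^ 2 ^ 1 = 1 := by rw [pow_one, pow_two, h]; exact hz1
      have e2 : s ^ 2 ^ (1 + 1) = 1 := by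
        have : s ^ 2 ^ (1 + 1) = (s * s) * (s * s) := by
          norm_num
          rw [show (4 : ℕ) = 2 + 2 from rfl, pow_add, pow_two]
        rw [this, h, hzz]
      have := orderOf_eq_prime_pow e1 e2
      rw [this]; norm_num
  have hSH : (S : Subgroup G) ≤ H := by
    intro s hs
    by_cases hsC : s ∈ Cg
    · have h1 : t₂ * s ∉ Cg := fun h => ht₂C (by
        have := Cg.mul_mem h (Cg.inv_mem hsC)
        simpa using this)
      have h2 := hout (t₂ * s) ((S : Subgroup G).mul_mem ht₂S hs) h1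
      have h3 := hout t₂ ht₂S ht₂C
      have : s = t₂⁻¹ * (t₂ * s) := by group
      rw [this]; exact H.mul_mem (H.inv_mem h3) h2
    · exact hout s hs hsC
  have hdvd := Subgroup.index_dvd_of_le hSH
  rw [hH] at hdvd
  exact S.not_dvd_index hdvd


/-- Let G be a finite group with quasi-dihedral Sylow 2-subgroup S, T a Klein four-subgroup and Q a quaternion subgroup of order 8 of S, with |N_G(T) : C_G(T)| = 6 and |N_G(Q) : Q C_G(Q)| = 6. Then G has no subgroup of index 2, exactly one conjugacy class of involutions and exactly one conjugacy class of elements of order 4. -/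
theorem result {G : Type*} [Group G] [Finite G] (S : Sylow 2 G) (hS : Cfsg.IsQuasiDihedral (S : Subgroup G)) (T : Subgroup G) (hT : IsKleinFour T) (hTS : T ≤ S) (Q : Subgroup G) (hQS : Q ≤ S) (eQ : Q ≃* QuaternionGroup 2) (h₁ : (Subgroup.centralizer (T : Set G)).relIndex (Subgroup.normalizer (T : Set G)) = 6) (h₂ : (Q ⊔ Subgroup.centralizer (Q : Set G)).relIndex (Subgroup.normalizer (Q : Set G)) = 6) : (∀ H : Subgroup G, H.index ≠ 2) ∧ Nat.card {C : ConjClasses G // ∃ t : G, orderOf t = 2 ∧ ConjClasses.mk t = C} = 1 ∧ Nat.card {C : ConjClasses G // ∃ t : G, orderOf t = 4 ∧ ConjClasses.mk t = C} = 1 := by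
  exact main1204 S hS T hT hTS Q hQS eQ h₁ h₂

end Cfsg.Agent.S1204
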