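import Cfsg.Statements.S0514
import Cfsg.Agent.Lib.Lead.KleinDih2
import Cfsg.Agent.Lib.Helper4.Frobenius3

set_option autoImplicit false
open Cfsg

namespace Cfsg.Agent.S0514

set_option linter.style.haveILetI false
set_option linter.unusedVariables false

open Cfsg.Agent.Lib.Lead.KleinDih Cfsg.Agent.Lib.Helper4

/-- In a finite group whose Sylow 2-subgroups are dihedral of order at least 4, the centralizer of any involution has a
normal subgroup of odd order whose index in the centralizer is a power of 2. -/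
theorem result {X : Type*} [Group X] [Finite X]
    (S : Sylow 2 X) (n : ℕ) (hn : 2 ≤ n) (hS : Nonempty ((S : Subgroup X) ≃* DihedralGroup n)) (t : X)
    (ht : orderOf t = 2) :
    ∃ N : Subgroup (Subgroup.centralizer ({t} : Set X)), N.Normal ∧ Odd (Nat.card N) ∧ ∃ k : ℕ, N.index = 2 ^ k := by
  classical
  haveI : Fact (Nat.Prime 2) := ⟨Nat.prime_two⟩
  haveI : NeZero n := ⟨by omega⟩
  obtain ⟨eS⟩ := hS
  obtain ⟨ρ, hρ⟩ : ∃ ρ : X, ρ = ((eS.symm (DihedralGroup.r 1) : ↥(S : Subgroup X)) : X) := ⟨_, rfl⟩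
  obtain ⟨hzp, hrk, hnotin, F1, F2, F3⟩ := dih_facts (S : Subgroup X) n eS ρ hρ
  have htt : t * t = 1 := by rw [← pow_two, ← ht, pow_orderOf_eq_one]
  have ht1 : t ≠ 1 := by
    intro h; rw [h, orderOf_one] at ht; omega
  have hF : FrobHyp 2 ↥(Subgroup.centralizer ({t} : Set X)) := by
    intro Q0 hQ0 g0 hg0 hgc0
    obtain ⟨Q1, hQ1⟩ : ∃ Q1 : Subgroup X,
        Q1 = Q0.map (Subgroup.centralizer ({t} : Set X)).subtype := ⟨_, rfl⟩
    have hQ1p : IsPGroup 2 ↥Q1 := by
      rw [hQ1]; exact hQ0.map (Subgroup.centralizer ({t} : Set X)).subtype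
    have hQ1C : Q1 ≤ Subgroup.centralizer ({t} : Set X) := by
      rw [hQ1]; exact Subgroup.map_subtype_le Q0
    have hg1N : (g0 : X) ∈ Subgroup.normalizer (Q1 : Set X) := by
      rw [hQ1]
      exact Subgroup.le_normalizer_map (Subgroup.centralizer ({t} : Set X)).subtype ⟨g0, hg0, rfl⟩
    have hord : orderOf (g0 : X) = orderOf g0 := Subgroup.orderOf_coe g0
    have hodd1 : Odd (orderOf (g0 : X)) := by
      rw [hord]; exact Nat.coprime_two_right.mp hgc0
    have hgt : t * (g0 : X) = (g0 : X) * t :=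
      (Subgroup.mem_centralizer_iff.mp g0.2) t (Set.mem_singleton t)
    obtain ⟨g, hgdef⟩ : ∃ g : X, g = (g0 : X) := ⟨_, rfl⟩
    rw [← hgdef] at hg1N hodd1 hgt
    have hgtfix : g * t * g⁻¹ = t := by
      calc g * t * g⁻¹ = (t * g) * g⁻¹ := by rw [hgt]
        _ = t := by group
    -- enlarge Q1 by t
    have htC : t ∈ Subgroup.centralizer (Q1 : Set X) := by
      rw [Subgroup.mem_centralizer_iff]
      intro q hq
      exact ((Subgroup.mem_centralizer_iff.mp (hQ1C hq)) t (Set.mem_singleton t)).symm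
    have hzt2 : IsPGroup 2 ↥(Subgroup.zpowers t) := by
      apply IsPGroup.of_card (n := 1)
      rw [Nat.card_zpowers, ht, pow_one]
    have hle : Subgroup.zpowers t ≤ Subgroup.normalizer (Q1 : Set X) := by
      rw [Subgroup.zpowers_le]
      exact Subgroup.centralizer_le_normalizer _ htC
    have hQp : IsPGroup 2 ↥(Subgroup.zpowers t ⊔ Q1) :=
      IsPGroup.to_sup_of_normal_right' hzt2 hQ1p hle
    have hE : ∀ q ∈ ((Subgroup.zpowers t : Set X) ∪ (Q1 : Set X)),
        g * q * g⁻¹ ∈ ((Subgroup.zpowers t : Set X) ∪ (Q1 : Set X)) := by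
      intro q hq
      rcases hq with hq | hq
      · left
        obtain ⟨i, rfl⟩ := Subgroup.mem_zpowers_iff.mp hq
        have h1 : g * t ^ i * g⁻¹ = t ^ i := by
          rw [← conj_zpow, hgtfix]
        rw [h1]
        exact Subgroup.zpow_mem_zpowers t i
      · right
        exact (Subgroup.mem_normalizer_iff.mp hg1N q).mp hq
    have hE' : ∀ q ∈ ((Subgroup.zpowers t : Set X) ∪ (Q1 : Set X)),
        g⁻¹ * q * g⁻¹⁻¹ ∈ ((Subgroup.zpowers t : Set X) ∪ (Q1 : Set X)) := by
      intro q hq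
      rw [inv_inv]
      rcases hq with hq | hq
      · left
        obtain ⟨i, rfl⟩ := Subgroup.mem_zpowers_iff.mp hq
        have h0 : g⁻¹ * t * g = t := by
          calc g⁻¹ * t * g = g⁻¹ * (t * g) := by group
            _ = g⁻¹ * (g * t) := by rw [hgt]
            _ = t := by group
        have h1 : g⁻¹ * t ^ i * g = t ^ i := by
          have h2 : g⁻¹ * t ^ i * g⁻¹⁻¹ = (g⁻¹ * t * g⁻¹⁻¹) ^ i := by rw [conj_zpow]
          rw [inv_inv] at h2
          rw [h2, h0]
        rw [h1]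
        exact Subgroup.zpow_mem_zpowers t i
      · right
        exact (Subgroup.mem_normalizer_iff''.mp hg1N q).mp hq
    have hgN : g ∈ Subgroup.normalizer ((Subgroup.zpowers t ⊔ Q1 : Subgroup X) : Set X) := by
      rw [Subgroup.sup_eq_closure, Subgroup.mem_normalizer_iff]
      intro y
      constructor
      · exact conj_closure_mem _ g hE y
      · intro h
        have h1 := conj_closure_mem _ g⁻¹ hE' _ h
        have e : g⁻¹ * (g * y * g⁻¹) * g⁻¹⁻¹ = y := by group
        rwa [e] at h1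
    have htQ : t ∈ Subgroup.zpowers t ⊔ Q1 := Subgroup.mem_sup_left (Subgroup.mem_zpowers t)
    -- conjugate into S
    obtain ⟨P, hQP⟩ := hQp.exists_le_sylow
    obtain ⟨x, hx⟩ := MulAction.exists_smul_eq X P S
    have hPS : cj x (P : Subgroup X) = (S : Subgroup X) := by
      rw [← sylow_smul_eq_cj, hx]
    have hQ'S : cj x (Subgroup.zpowers t ⊔ Q1) ≤ (S : Subgroup X) := by
      rw [← hPS]; exact cj_mono x hQP
    have hg' : x * g * x⁻¹ ∈
        Subgroup.normalizer ((cj x (Subgroup.zpowers t ⊔ Q1) : Subgroup X) : Set X) := by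
      rw [cj_normalizer]; exact conj_mem_cj x _ hgN
    have hodd' : Odd (orderOf (x * g * x⁻¹)) := by
      have h1 : orderOf (x * g * x⁻¹) = orderOf g := by
        have h2 := (MulAut.conj x).orderOf_eq g
        rwa [MulAut.conj_apply] at h2
      rw [h1]; exact hodd1
    have ht' : x * t * x⁻¹ ∈ cj x (Subgroup.zpowers t ⊔ Q1) := conj_mem_cj x _ htQ
    have ht'1 : x * t * x⁻¹ ≠ 1 := conj_ne_one ht1
    have hfix' : (x * g * x⁻¹) * (x * t * x⁻¹) * (x * g * x⁻¹)⁻¹ = x * t * x⁻¹ := by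
      calc (x * g * x⁻¹) * (x * t * x⁻¹) * (x * g * x⁻¹)⁻¹ = x * (g * t * g⁻¹) * x⁻¹ := by group
        _ = x * t * x⁻¹ := by rw [hgtfix]
    have hc := back_core' (S : Subgroup X) S.2 ρ F1 F2 F3 (cj x (Subgroup.zpowers t ⊔ Q1)) hQ'S _
      hg' hodd' (fun hK => by
        haveI := hK
        exact klein_odd_fix _ _ _ hg' hodd' ht' ht'1 hfix')
    have hcQ : g ∈ Subgroup.centralizer ((Subgroup.zpowers t ⊔ Q1 : Subgroup X) : Set X) := by
      rw [Subgroup.mem_centralizer_iff] at hc ⊢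
      intro q hq
      have h1 := hc (x * q * x⁻¹) (conj_mem_cj x _ hq)
      have h2 : x * (q * g) * x⁻¹ = x * (g * q) * x⁻¹ := by
        calc x * (q * g) * x⁻¹ = (x * q * x⁻¹) * (x * g * x⁻¹) := by group
          _ = (x * g * x⁻¹) * (x * q * x⁻¹) := h1
          _ = x * (g * q) * x⁻¹ := by group
      exact conj_inj h2
    rw [Subgroup.mem_centralizer_iff] at hcQ ⊢
    intro q hq
    apply Subtype.ext
    have hq1 : (q : X) ∈ Q1 := by
      rw [hQ1]; exact ⟨q, hq, rfl⟩
    have := hcQ (q : X) (Subgroup.mem_sup_right hq1)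
    rw [hgdef] at this
    simpa using this
  obtain ⟨K, hKn, hc, hq⟩ := frob_hasNormalPComplement 2
    (Nat.card ↥(Subgroup.centralizer ({t} : Set X))) ↥(Subgroup.centralizer ({t} : Set X)) rfl hF
  refine ⟨K, hKn, Nat.coprime_two_right.mp hc, ?_⟩
  obtain ⟨k, hk⟩ := (IsPGroup.iff_card).mp hq
  exact ⟨k, by rw [Subgroup.index_eq_card, hk]⟩

end Cfsg.Agent.S0514
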