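import Cfsg.Statements.S1256
import Mathlib
import Cfsg.Agent.S0514
import Cfsg.Agent.Lib.Lead.KleinDih3
import Cfsg.Agent.Lib.Helper4.ConjSub
import Cfsg.Agent.Lib.Helper4.SZ

set_option autoImplicit false
open Cfsg

namespace Cfsg.Agent.S1256

open Cfsg.Agent.Lib.Lead.KleinDih Cfsg.Agent.Lib.Helper4

set_option linter.unusedVariables false
set_option linter.unusedSectionVars false
set_option linter.style.haveILetI false

section klein
variable {X : Type*} [Group X] [Finite X] (U : Subgroup X) [IsKleinFour ↥U]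

theorem swap_lemma (t w u : X) (ht : t ∈ Subgroup.normalizer (U : Set X))
    (htC : t ∉ Subgroup.centralizer (U : Set X)) (hw : w ∈ U) (hw1 : w ≠ 1)
    (htw : t * w * t⁻¹ = w) (hu : u ∈ U) (hu1 : u ≠ 1) (huw : u ≠ w) :
    t * u * t⁻¹ = u * w := by
  have hu' : t * u * t⁻¹ ∈ U := conj_mem_of_normalizer U ht hu
  rcases klein_cases U hu hw hu1 hw1 huw _ hu' with h | h | h | h
  · exact absurd h (conj_ne_one hu1)
  · exact absurd (cent_of_two U hu hw hu1 hw1 huw t h htw) htC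
  · exfalso
    apply huw
    apply conj_inj (g := t)
    rw [h, htw]
  · exact h

end klein

theorem adjust {X : Type*} [Group X] [Finite X] (U₁ U₂ : Subgroup X) [IsKleinFour ↥U₁] [IsKleinFour ↥U₂]
    (z c : X) (hz1 : z ≠ 1) (hzU₁ : z ∈ U₁) (hzU₂ : z ∈ U₂)
    (hcN₁ : c ∈ Subgroup.normalizer (U₁ : Set X)) (hcN₂ : c ∈ Subgroup.normalizer (U₂ : Set X))
    (hcz : c * z * c⁻¹ = z)
    (hcC₁ : c ∉ Subgroup.centralizer (U₁ : Set X)) (hcC₂ : c ∉ Subgroup.centralizer (U₂ : Set X))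
    (g : X) (hg : cj g U₁ = U₂) :
    ∃ g' : X, cj g' U₁ = U₂ ∧ g' * z * g'⁻¹ = z := by
  by_cases hgz : g * z * g⁻¹ = z
  · exact ⟨g, hg, hgz⟩
  obtain ⟨w, hwdef⟩ : ∃ w, w = g * z * g⁻¹ := ⟨_, rfl⟩
  have hwU : w ∈ U₂ := by rw [hwdef, ← hg]; exact conj_mem_cj g U₁ hzU₁
  have hw1 : w ≠ 1 := by rw [hwdef]; exact conj_ne_one hz1
  have hwz : w ≠ z := by rw [hwdef]; exact hgz
  obtain ⟨d, hddef⟩ : ∃ d, d = g * c * g⁻¹ := ⟨_, rfl⟩
  have hdN : d ∈ Subgroup.normalizer (U₂ : Set X) := by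
    rw [hddef, ← hg, cj_normalizer]; exact conj_mem_cj g _ hcN₁
  have hdw : d * w * d⁻¹ = w := by
    rw [hddef, hwdef]
    calc g * c * g⁻¹ * (g * z * g⁻¹) * (g * c * g⁻¹)⁻¹ = g * (c * z * c⁻¹) * g⁻¹ := by group
      _ = g * z * g⁻¹ := by rw [hcz]
  have hdC : d ∉ Subgroup.centralizer (U₂ : Set X) := by
    intro hd
    apply hcC₁
    rw [Subgroup.mem_centralizer_iff] at hd ⊢
    intro u hu
    have h1 := hd (g * u * g⁻¹) (by rw [← hg]; exact conj_mem_cj g U₁ hu)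
    rw [hddef] at h1
    have h2 : g * (u * c) * g⁻¹ = g * (c * u) * g⁻¹ := by
      calc g * (u * c) * g⁻¹ = g * u * g⁻¹ * (g * c * g⁻¹) := by group
        _ = g * c * g⁻¹ * (g * u * g⁻¹) := h1
        _ = g * (c * u) * g⁻¹ := by group
    exact conj_inj h2
  have h1 : d * z * d⁻¹ = z * w := swap_lemma U₂ d w z hdN hdC hwU hw1 hdw hzU₂ hz1 (Ne.symm hwz)
  have h2 : c * w * c⁻¹ = w * z := swap_lemma U₂ c z w hcN₂ hcC₂ hzU₂ hz1 hcz hwU hw1 hwz
  have hww : w * w = 1 := klein_sq U₂ w hwU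
  have hzw : z * w = w * z := klein_comm U₂ z w hzU₂ hwU
  obtain ⟨n, hndef⟩ : ∃ n, n = d * c * d⁻¹ := ⟨_, rfl⟩
  have hnN : n ∈ Subgroup.normalizer (U₂ : Set X) := by
    rw [hndef]
    exact Subgroup.mul_mem _ (Subgroup.mul_mem _ hdN hcN₂) (Subgroup.inv_mem _ hdN)
  have hdw' : d⁻¹ * w * d = w := by
    calc d⁻¹ * w * d = d⁻¹ * (d * w * d⁻¹) * d := by rw [hdw]
      _ = w := by group
  have hnw : n * w * n⁻¹ = z := by
    rw [hndef]
    calc d * c * d⁻¹ * w * (d * c * d⁻¹)⁻¹ = d * (c * (d⁻¹ * w * d) * c⁻¹) * d⁻¹ := by group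
      _ = d * (c * w * c⁻¹) * d⁻¹ := by rw [hdw']
      _ = d * (w * z) * d⁻¹ := by rw [h2]
      _ = (d * w * d⁻¹) * (d * z * d⁻¹) := by group
      _ = w * (z * w) := by rw [hdw, h1]
      _ = w * (w * z) := by rw [hzw]
      _ = (w * w) * z := by group
      _ = z := by rw [hww, one_mul]
  refine ⟨n * g, ?_, ?_⟩
  · rw [cj_mul, hg]; exact Subgroup.mem_normalizer_iff_map_conj_eq.1 hnN
  · calc n * g * z * (n * g)⁻¹ = n * (g * z * g⁻¹) * n⁻¹ := by group
      _ = n * w * n⁻¹ := by rw [hwdef]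
      _ = z := hnw

theorem norm_aux {X : Type*} [Group X] [Finite X] (z u c : X) (hz : z * z = 1) (hz1 : z ≠ 1)
    (hzu : z * u = u * z) (hcz : c * z * c⁻¹ = z) (hcu : c * u * c⁻¹ = u * z) (U : Subgroup X)
    (hU : ∀ x, x ∈ U ↔ x = 1 ∨ x = z ∨ x = u ∨ x = z * u) :
    c ∈ Subgroup.normalizer (U : Set X) ∧ c ∉ Subgroup.centralizer (U : Set X) := by
  constructor
  · apply Subgroup.mem_normalizer_fintype
    intro n hn
    rw [SetLike.mem_coe, hU] at hn
    rw [SetLike.mem_coe, hU]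
    rcases hn with h | h | h | h
    · left; rw [h]; group
    · right; left; rw [h]; exact hcz
    · right; right; right; rw [h, hcu, hzu]
    · right; right; left
      rw [h]
      calc c * (z * u) * c⁻¹ = (c * z * c⁻¹) * (c * u * c⁻¹) := by group
        _ = z * (u * z) := by rw [hcz, hcu]
        _ = z * (z * u) := by rw [hzu]
        _ = (z * z) * u := by group
        _ = u := by rw [hz, one_mul]
  · intro hc
    rw [Subgroup.mem_centralizer_iff] at hc
    have h1 := hc u ((hU u).mpr (Or.inr (Or.inr (Or.inl rfl))))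
    apply hz1
    have h2 : c * u * c⁻¹ = u := by
      calc c * u * c⁻¹ = (u * c) * c⁻¹ := by rw [h1]
        _ = u := by group
    rw [hcu] at h2
    exact mul_left_cancel (h2.trans (mul_one u).symm)

theorem conj_into_sylow {X : Type*} [Group X] [Finite X] (S : Sylow 2 X) (V : Subgroup X)
    (hV : IsPGroup 2 ↥V) : ∃ x : X, cj x V ≤ (S : Subgroup X) := by
  haveI : Fact (Nat.Prime 2) := ⟨Nat.prime_two⟩
  obtain ⟨P, hP⟩ := hV.exists_le_sylow
  obtain ⟨x, hx⟩ := MulAction.exists_smul_eq X P S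
  refine ⟨x, ?_⟩
  rw [← hx, sylow_smul_eq_cj]
  exact cj_mono x hP

theorem part_a {X : Type*} [Group X] [Finite X] (S : Sylow 2 X)
    (hS : Nat.card ↥(S : Subgroup X) = 4)
    (U V : Subgroup X) (hU : IsKleinFour U) (hV : IsKleinFour V) : ∃ x : X, cj x U = V := by
  have key : ∀ W : Subgroup X, IsKleinFour W → ∃ x : X, cj x W = (S : Subgroup X) := by
    intro W hW
    have hW2 : IsPGroup 2 ↥W := IsPGroup.of_card (n := 2) (by rw [hW.card_four]; norm_num)
    obtain ⟨x, hx⟩ := conj_into_sylow S W hW2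
    refine ⟨x, Subgroup.eq_of_le_of_card_ge hx ?_⟩
    rw [cj_def, Subgroup.card_map_of_injective (conj_injective x), hW.card_four]
    exact hS.le
  obtain ⟨x, hx⟩ := key U hU
  obtain ⟨y, hy⟩ := key V hV
  refine ⟨y⁻¹ * x, ?_⟩
  rw [cj_mul, hx, ← hy, cj_inv_cj']

theorem fusion_ctrl {X : Type*} [Group X] [Finite X] (S : Sylow 2 X) (n : ℕ) (hn : 2 ≤ n)
    (eS : (S : Subgroup X) ≃* DihedralGroup n) (z : X) (hz : orderOf z = 2)
    (hzS : ∀ x ∈ (S : Subgroup X), z * x = x * z) (g : X) (hg : z * g = g * z) (v : X)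
    (hv : v ∈ (S : Subgroup X)) (hw : g * v * g⁻¹ ∈ (S : Subgroup X)) :
    ∃ s ∈ (S : Subgroup X), g * v * g⁻¹ = s * v * s⁻¹ := by
  classical
  haveI : Fact (Nat.Prime 2) := ⟨Nat.prime_two⟩
  have hmemC : ∀ x : X, z * x = x * z → x ∈ Subgroup.centralizer ({z} : Set X) := by
    intro x hx
    rw [Subgroup.mem_centralizer_iff]
    intro y hy
    rw [Set.mem_singleton_iff] at hy
    rw [hy]; exact hx
  have hSC : (S : Subgroup X) ≤ Subgroup.centralizer ({z} : Set X) := fun x hx => hmemC x (hzS x hx)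
  obtain ⟨K, hKn, hKodd, k, hk⟩ := Cfsg.Agent.S0514.result S n hn ⟨eS⟩ z hz
  obtain ⟨P', hP'def⟩ : ∃ P' : Sylow 2 ↥(Subgroup.centralizer ({z} : Set X)), P' = S.subtype hSC :=
    ⟨_, rfl⟩
  have hP'coe : (P' : Subgroup ↥(Subgroup.centralizer ({z} : Set X))) =
      (S : Subgroup X).subgroupOf (Subgroup.centralizer ({z} : Set X)) := by
    rw [hP'def]; exact Sylow.coe_subtype S hSC
  have h1 : Nat.card K * K.index = Nat.card ↥(Subgroup.centralizer ({z} : Set X)) :=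
    Subgroup.card_mul_index K
  have h2 : Nat.card (P' : Subgroup ↥(Subgroup.centralizer ({z} : Set X))) =
      2 ^ (Nat.card ↥(Subgroup.centralizer ({z} : Set X))).factorization 2 :=
    Sylow.card_eq_multiplicity P'
  have hK0 : Nat.card K ≠ 0 := Nat.card_pos.ne'
  have h3 : (Nat.card ↥(Subgroup.centralizer ({z} : Set X))).factorization 2 = k := by
    rw [← h1, hk, Nat.factorization_mul hK0 (pow_ne_zero _ two_ne_zero), Finsupp.add_apply,
      Nat.factorization_eq_zero_of_not_dvd hKodd.not_two_dvd_nat,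
      Nat.Prime.factorization_pow Nat.prime_two, Finsupp.single_eq_same, zero_add]
  have hcompl : K.IsComplement' (P' : Subgroup ↥(Subgroup.centralizer ({z} : Set X))) := by
    apply Subgroup.isComplement'_of_coprime
    · rw [h2, h3, ← hk, h1]
    · rw [h2]; exact Nat.Coprime.pow_right _ hKodd.coprime_two_right
  have hdisj : ∀ x : ↥(Subgroup.centralizer ({z} : Set X)), x ∈ K →
      x ∈ (P' : Subgroup ↥(Subgroup.centralizer ({z} : Set X))) → x = 1 :=
    fun x hx hx' => Subgroup.disjoint_def.mp hcompl.disjoint hx hx'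
  obtain ⟨⟨k0, p0⟩, hkp⟩ := (Subgroup.isComplement'_def.mp hcompl).2 ⟨g, hmemC g hg⟩
  have hkp' : (k0 : ↥(Subgroup.centralizer ({z} : Set X))) * (p0 : ↥(Subgroup.centralizer ({z} : Set X)))
      = ⟨g, hmemC g hg⟩ := hkp
  have hk0K : (k0 : ↥(Subgroup.centralizer ({z} : Set X))) ∈ K := k0.2
  have hp0P : (p0 : ↥(Subgroup.centralizer ({z} : Set X))) ∈
      (P' : Subgroup ↥(Subgroup.centralizer ({z} : Set X))) := p0.2
  obtain ⟨kk, hkk⟩ : ∃ kk : ↥(Subgroup.centralizer ({z} : Set X)), kk = k0 := ⟨_, rfl⟩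
  obtain ⟨pp, hpp⟩ : ∃ pp : ↥(Subgroup.centralizer ({z} : Set X)), pp = p0 := ⟨_, rfl⟩
  rw [← hkk] at hkp' hk0K
  rw [← hpp] at hkp' hp0P
  have hppS : (pp : X) ∈ (S : Subgroup X) := by
    rw [hP'coe, Subgroup.mem_subgroupOf] at hp0P
    exact hp0P
  obtain ⟨v', hv'⟩ : ∃ v' : ↥(Subgroup.centralizer ({z} : Set X)), v' = ⟨v, hSC hv⟩ := ⟨_, rfl⟩
  have hv'val : (v' : X) = v := by rw [hv']
  have hu'P : pp * v' * pp⁻¹ ∈ (P' : Subgroup ↥(Subgroup.centralizer ({z} : Set X))) := by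
    rw [hP'coe, Subgroup.mem_subgroupOf]
    have : ((pp * v' * pp⁻¹ : ↥(Subgroup.centralizer ({z} : Set X))) : X) = (pp : X) * v * (pp : X)⁻¹ := by
      rw [← hv'val]; rfl
    rw [this]
    exact Subgroup.mul_mem _ (Subgroup.mul_mem _ hppS hv) (Subgroup.inv_mem _ hppS)
  have hgval : ((kk * pp : ↥(Subgroup.centralizer ({z} : Set X))) : X) = g := by rw [hkp']
  have hw'P : (kk * pp) * v' * (kk * pp)⁻¹ ∈ (P' : Subgroup ↥(Subgroup.centralizer ({z} : Set X))) := by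
    rw [hP'coe, Subgroup.mem_subgroupOf]
    have : (((kk * pp) * v' * (kk * pp)⁻¹ : ↥(Subgroup.centralizer ({z} : Set X))) : X) = g * v * g⁻¹ := by
      rw [← hv'val, ← hgval]; rfl
    rw [this]
    exact hw
  have hcomm : ((kk * pp) * v' * (kk * pp)⁻¹) * (pp * v' * pp⁻¹)⁻¹ ∈ K := by
    have e : ((kk * pp) * v' * (kk * pp)⁻¹) * (pp * v' * pp⁻¹)⁻¹ =
        kk * ((pp * v' * pp⁻¹) * kk⁻¹ * (pp * v' * pp⁻¹)⁻¹) := by group
    rw [e]
    exact K.mul_mem hk0K (hKn.conj_mem _ (K.inv_mem hk0K) _)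
  have hone := hdisj _ hcomm (Subgroup.mul_mem _ hw'P (Subgroup.inv_mem _ hu'P))
  have heq : (kk * pp) * v' * (kk * pp)⁻¹ = pp * v' * pp⁻¹ := mul_inv_eq_one.mp hone
  refine ⟨(pp : X), hppS, ?_⟩
  have h5 := congrArg (Subtype.val : ↥(Subgroup.centralizer ({z} : Set X)) → X) heq
  have h6 : (((kk * pp) * v' * (kk * pp)⁻¹ : ↥(Subgroup.centralizer ({z} : Set X))) : X) = g * v * g⁻¹ := by
    rw [← hv'val, ← hgval]; rfl
  have h7 : ((pp * v' * pp⁻¹ : ↥(Subgroup.centralizer ({z} : Set X))) : X) = (pp : X) * v * (pp : X)⁻¹ := by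
    rw [← hv'val]; rfl
  rw [← h6, ← h7]
  exact h5

theorem part_b {X : Type*} [Group X] [Finite X] (S : Sylow 2 X) (m' : ℕ) (hm' : 1 ≤ m')
    (eS : (S : Subgroup X) ≃* DihedralGroup (4 * m')) :
    ∃ U₁ U₂ : Subgroup X, IsKleinFour U₁ ∧ IsKleinFour U₂ ∧ ¬ (∃ x : X, cj x U₁ = U₂) ∧
      ∀ V : Subgroup X, IsKleinFour V → (∃ x : X, cj x V = U₁) ∨ (∃ x : X, cj x V = U₂) := by
  classical
  haveI : Fact (Nat.Prime 2) := ⟨Nat.prime_two⟩
  haveI : NeZero (4 * m') := ⟨by omega⟩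
  obtain ⟨κ, hκdef⟩ : ∃ κ : ZMod (4 * m'), κ = ((m' : ℕ) : ZMod (4 * m')) := ⟨_, rfl⟩
  obtain ⟨ζ, hζdef⟩ : ∃ ζ : ZMod (4 * m'), ζ = ((2 * m' : ℕ) : ZMod (4 * m')) := ⟨_, rfl⟩
  have hζκ : ζ = κ + κ := by rw [hζdef, hκdef]; push_cast; ring
  have hζζ : ζ + ζ = 0 := by
    have h1 : ((4 * m' : ℕ) : ZMod (4 * m')) = 0 := ZMod.natCast_self _
    have h2 : 2 * m' + 2 * m' = 4 * m' := by ring
    rw [hζdef, ← Nat.cast_add, h2, h1]
  have hζ0 : ζ ≠ 0 := by
    rw [hζdef]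
    intro h
    rw [ZMod.natCast_eq_zero_iff] at h
    have := Nat.le_of_dvd (by omega) h
    omega
  have htors : ∀ k : ZMod (4 * m'), k + k = 0 → k ≠ 0 → k = ζ := by
    intro k hk hk0
    rcases zmod_two_torsion m' hm' k hk with h | h
    · exact absurd h hk0
    · rw [hζdef]; exact h
  have hdvd : 2 ∣ 4 * m' := ⟨2 * m', by ring⟩
  obtain ⟨φ, hφdef⟩ : ∃ φ : ZMod (4 * m') →+* ZMod 2, φ = ZMod.castHom hdvd (ZMod 2) := ⟨_, rfl⟩
  have hφadd : ∀ k : ZMod (4 * m'), φ (k + k) = 0 := by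
    intro k; rw [map_add]; exact CharTwo.add_self_eq_zero _
  have hφζ : φ ζ = 0 := by rw [hζκ]; exact hφadd κ
  have h01 : (0 : ZMod 2) ≠ 1 := zero_ne_one
  obtain ⟨ι, hιdef⟩ : ∃ ι : DihedralGroup (4 * m') →* X,
      ι = (S : Subgroup X).subtype.comp eS.symm.toMonoidHom := ⟨_, rfl⟩
  have hιS : ∀ d, ι d ∈ (S : Subgroup X) := by
    intro d; rw [hιdef]; exact (eS.symm d).2
  have hιinj : Function.Injective ι := by
    rw [hιdef]
    exact (Subgroup.subtype_injective _).comp eS.symm.injective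
  have hιsurj : ∀ x ∈ (S : Subgroup X), ∃ d, ι d = x := by
    intro x hx
    refine ⟨eS ⟨x, hx⟩, ?_⟩
    rw [hιdef]
    simp
  have hD1 : (DihedralGroup.r ζ : DihedralGroup (4 * m')) * DihedralGroup.r ζ = 1 := by
    rw [DihedralGroup.r_mul_r, hζζ, DihedralGroup.one_def]
  have hD3 : ∀ i : ZMod (4 * m'), (DihedralGroup.r ζ : DihedralGroup (4 * m')) * DihedralGroup.sr i =
      DihedralGroup.sr i * DihedralGroup.r ζ := by
    intro i
    rw [DihedralGroup.r_mul_sr, DihedralGroup.sr_mul_r]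
    congr 1
    linear_combination (-1 : ZMod (4 * m')) * hζζ
  have hD4 : ∀ i : ZMod (4 * m'), (DihedralGroup.r κ : DihedralGroup (4 * m')) * DihedralGroup.sr i *
      (DihedralGroup.r κ)⁻¹ = DihedralGroup.sr i * DihedralGroup.r ζ := by
    intro i
    rw [DihedralGroup.inv_r, DihedralGroup.r_mul_sr, DihedralGroup.sr_mul_r, DihedralGroup.sr_mul_r]
    congr 1
    have h := hζζ
    rw [hζκ] at h ⊢
    linear_combination (-1 : ZMod (4 * m')) * h
  have hD5 : (DihedralGroup.r κ : DihedralGroup (4 * m')) * DihedralGroup.r ζ * (DihedralGroup.r κ)⁻¹ =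
      DihedralGroup.r ζ := by
    rw [DihedralGroup.inv_r, DihedralGroup.r_mul_r, DihedralGroup.r_mul_r]
    congr 1
    ring
  obtain ⟨z, hzdef⟩ : ∃ z : X, z = ι (DihedralGroup.r ζ) := ⟨_, rfl⟩
  obtain ⟨a, hadef⟩ : ∃ a : X, a = ι (DihedralGroup.sr 0) := ⟨_, rfl⟩
  obtain ⟨b, hbdef⟩ : ∃ b : X, b = ι (DihedralGroup.sr 1) := ⟨_, rfl⟩
  obtain ⟨c, hcdef⟩ : ∃ c : X, c = ι (DihedralGroup.r κ) := ⟨_, rfl⟩
  have hzS : ∀ x ∈ (S : Subgroup X), z * x = x * z := by
    intro x hx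
    obtain ⟨d, rfl⟩ := hιsurj x hx
    rw [hzdef, ← map_mul, ← map_mul]
    congr 1
    cases d with
    | r k => rw [DihedralGroup.r_mul_r, DihedralGroup.r_mul_r, add_comm]
    | sr k => exact hD3 k
  have hzz : z * z = 1 := by rw [hzdef, ← map_mul, hD1, map_one]
  have hz1 : z ≠ 1 := by
    rw [hzdef]
    intro h
    have h1 := hιinj (h.trans (map_one ι).symm)
    rw [DihedralGroup.one_def] at h1
    exact hζ0 (DihedralGroup.r.inj h1)
  have hsr1 : ∀ i : ZMod (4 * m'), ι (DihedralGroup.sr i) ≠ 1 := by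
    intro i h
    have h1 := hιinj (h.trans (map_one ι).symm)
    rw [DihedralGroup.one_def] at h1
    cases h1
  have hsrsr : ∀ i : ZMod (4 * m'), ι (DihedralGroup.sr i) * ι (DihedralGroup.sr i) = 1 := by
    intro i; rw [← map_mul, DihedralGroup.sr_mul_self, map_one]
  have hzsr : ∀ i : ZMod (4 * m'), z ≠ ι (DihedralGroup.sr i) := by
    intro i h
    rw [hzdef] at h
    have h1 := hιinj h
    cases h1
  have hzcomm : ∀ i : ZMod (4 * m'), z * ι (DihedralGroup.sr i) = ι (DihedralGroup.sr i) * z :=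
    fun i => hzS _ (hιS _)
  have hcz : c * z * c⁻¹ = z := by
    rw [hcdef, hzdef, ← map_inv, ← map_mul, ← map_mul, hD5]
  have hcsr : ∀ i : ZMod (4 * m'), c * ι (DihedralGroup.sr i) * c⁻¹ = ι (DihedralGroup.sr i) * z := by
    intro i
    rw [hcdef, hzdef, ← map_inv, ← map_mul, ← map_mul, ← map_mul, hD4]
  have hzord : orderOf z = 2 := orderOf_eq_prime (by rw [pow_two]; exact hzz) hz1
  obtain ⟨U₁, hU₁K, hU₁mem⟩ := klein_mk z a hzz (by rw [hadef]; exact hsrsr 0)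
    (by rw [hadef]; exact hzcomm 0) hz1 (by rw [hadef]; exact hsr1 0) (by rw [hadef]; exact hzsr 0)
  obtain ⟨U₂, hU₂K, hU₂mem⟩ := klein_mk z b hzz (by rw [hbdef]; exact hsrsr 1)
    (by rw [hbdef]; exact hzcomm 1) hz1 (by rw [hbdef]; exact hsr1 1) (by rw [hbdef]; exact hzsr 1)
  haveI := hU₁K
  haveI := hU₂K
  have hzU₁ : z ∈ U₁ := (hU₁mem z).mpr (Or.inr (Or.inl rfl))
  have haU₁ : a ∈ U₁ := (hU₁mem a).mpr (Or.inr (Or.inr (Or.inl rfl)))
  have hzU₂ : z ∈ U₂ := (hU₂mem z).mpr (Or.inr (Or.inl rfl))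
  have hbU₂ : b ∈ U₂ := (hU₂mem b).mpr (Or.inr (Or.inr (Or.inl rfl)))
  have haS : a ∈ (S : Subgroup X) := by rw [hadef]; exact hιS _
  have hbS : b ∈ (S : Subgroup X) := by rw [hbdef]; exact hιS _
  have hzSm : z ∈ (S : Subgroup X) := by rw [hzdef]; exact hιS _
  have hU₂S : U₂ ≤ (S : Subgroup X) := by
    intro y hy
    rcases (hU₂mem y).mp hy with h | h | h | h
    · rw [h]; exact Subgroup.one_mem _
    · rw [h]; exact hzSm
    · rw [h]; exact hbS
    · rw [h]; exact Subgroup.mul_mem _ hzSm hbS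
  obtain ⟨hcN₁, hcC₁⟩ := norm_aux z a c hzz hz1 (by rw [hadef]; exact hzcomm 0) hcz
    (by rw [hadef]; exact hcsr 0) U₁ hU₁mem
  obtain ⟨hcN₂, hcC₂⟩ := norm_aux z b c hzz hz1 (by rw [hbdef]; exact hzcomm 1) hcz
    (by rw [hbdef]; exact hcsr 1) U₂ hU₂mem
  refine ⟨U₁, U₂, hU₁K, hU₂K, ?_, ?_⟩
  · rintro ⟨x, hx⟩
    obtain ⟨g, hgU, hgz⟩ := adjust U₁ U₂ z c hz1 hzU₁ hzU₂ hcN₁ hcN₂ hcz hcC₁ hcC₂ x hx
    have hgz' : z * g = g * z := by
      calc z * g = (g * z * g⁻¹) * g := by rw [hgz]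
        _ = g * z := by group
    have haU₂ : g * a * g⁻¹ ∈ U₂ := by rw [← hgU]; exact conj_mem_cj g U₁ haU₁
    obtain ⟨s, hsS, hs⟩ := fusion_ctrl S (4 * m') (by omega) eS z hzord hzS g hgz' a haS
      (hU₂S haU₂)
    obtain ⟨σ, hσ⟩ := hιsurj s hsS
    have hconjD : ∃ j, σ * DihedralGroup.sr 0 * σ⁻¹ = DihedralGroup.sr j ∧ φ j = 0 := by
      cases σ with
      | r k =>
        refine ⟨-(k + k), ?_, by rw [map_neg, hφadd, neg_zero]⟩
        rw [DihedralGroup.inv_r, DihedralGroup.r_mul_sr, DihedralGroup.sr_mul_r]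
        congr 1; ring
      | sr k =>
        refine ⟨k + k, ?_, hφadd k⟩
        rw [DihedralGroup.inv_sr, DihedralGroup.sr_mul_sr, DihedralGroup.r_mul_sr]
        congr 1; ring
    obtain ⟨j, hj, hφj⟩ := hconjD
    have h1 : g * a * g⁻¹ = ι (DihedralGroup.sr j) := by
      rw [hs, ← hσ, hadef, ← map_inv, ← map_mul, ← map_mul, hj]
    rw [h1, hU₂mem] at haU₂
    rcases haU₂ with h | h | h | h
    · exact hsr1 j h
    · exact hzsr j h.symm
    · rw [hbdef] at h
      have h2 := DihedralGroup.sr.inj (hιinj h)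
      rw [h2, map_one] at hφj
      exact h01 hφj.symm
    · rw [hbdef, hzdef, ← map_mul, DihedralGroup.r_mul_sr] at h
      have h2 := DihedralGroup.sr.inj (hιinj h)
      rw [h2, map_sub, map_one, hφζ, sub_zero] at hφj
      exact h01 hφj.symm
  · intro V hV
    haveI := hV
    have hV2 : IsPGroup 2 ↥V := IsPGroup.of_card (n := 2) (by rw [hV.card_four]; norm_num)
    obtain ⟨x, hxS⟩ := conj_into_sylow S V hV2
    obtain ⟨W, hWdef⟩ : ∃ W : Subgroup X, W = cj x V := ⟨_, rfl⟩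
    rw [← hWdef] at hxS
    haveI hWK : IsKleinFour ↥W := by
      rw [hWdef]
      exact kleinFour_of_equiv (V.equivMapOfInjective _ (conj_injective x)).symm
    have hrot : ∀ k : ZMod (4 * m'), ι (DihedralGroup.r k) ∈ W → ι (DihedralGroup.r k) ≠ 1 →
        ι (DihedralGroup.r k) = z := by
      intro k hk hk1
      have h1 := klein_sq W _ hk
      rw [← map_mul, DihedralGroup.r_mul_r] at h1
      have h2 := hιinj (h1.trans (map_one ι).symm)
      rw [DihedralGroup.one_def] at h2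
      have h3 : k + k = 0 := DihedralGroup.r.inj h2
      have h4 : k ≠ 0 := by
        intro h; apply hk1; rw [h, ← DihedralGroup.one_def, map_one]
      rw [htors k h3 h4, hzdef]
    have hstruct : z ∈ W ∧ ∃ i, ι (DihedralGroup.sr i) ∈ W := by
      obtain ⟨a', ha', b', hb', ha'1, hb'1, hab'⟩ := klein_two W
      obtain ⟨α, hα⟩ := hιsurj a' (hxS ha')
      obtain ⟨β, hβ⟩ := hιsurj b' (hxS hb')
      rw [← hα] at ha' ha'1 hab'
      rw [← hβ] at hb' hb'1 hab'
      cases α with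
      | r k =>
        have hk := hrot k ha' ha'1
        cases β with
        | r l =>
          have hl := hrot l hb' hb'1
          exact absurd (hk.trans hl.symm) hab'
        | sr l =>
          exact ⟨by rw [← hk]; exact ha', l, hb'⟩
      | sr k =>
        cases β with
        | r l =>
          have hl := hrot l hb' hb'1
          exact ⟨by rw [← hl]; exact hb', k, ha'⟩
        | sr l =>
          have h1 : ι (DihedralGroup.sr k) * ι (DihedralGroup.sr l) ∈ W :=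
            Subgroup.mul_mem _ ha' hb'
          have h2 := klein_mul_ne_one W ha' hb' hab'
          rw [← map_mul, DihedralGroup.sr_mul_sr] at h1 h2
          have h3 := hrot _ h1 h2
          exact ⟨by rw [← h3]; exact h1, k, ha'⟩
    obtain ⟨hzW, i, hiW⟩ := hstruct
    obtain ⟨t, htdef⟩ : ∃ t : ZMod (4 * m'), t = ((i.val / 2 : ℕ) : ZMod (4 * m')) := ⟨_, rfl⟩
    have hi : i = t + t + ((i.val % 2 : ℕ) : ZMod (4 * m')) := by
      have h1 : ((i.val : ℕ) : ZMod (4 * m')) = i := ZMod.natCast_zmod_val i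
      have h2 : 2 * (i.val / 2) + i.val % 2 = i.val := Nat.div_add_mod i.val 2
      rw [htdef]
      calc i = ((i.val : ℕ) : ZMod (4 * m')) := h1.symm
        _ = ((2 * (i.val / 2) + i.val % 2 : ℕ) : ZMod (4 * m')) := by rw [h2]
        _ = _ := by push_cast; ring
    obtain ⟨τ, hτdef⟩ : ∃ τ : X, τ = ι (DihedralGroup.r t) := ⟨_, rfl⟩
    have hτS : τ ∈ (S : Subgroup X) := by rw [hτdef]; exact hιS _
    have hτz : τ * z * τ⁻¹ = z := by
      have := hzS τ hτS
      calc τ * z * τ⁻¹ = (z * τ) * τ⁻¹ := by rw [this]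
        _ = z := by group
    have hτi : τ * ι (DihedralGroup.sr i) * τ⁻¹ =
        ι (DihedralGroup.sr ((i.val % 2 : ℕ) : ZMod (4 * m'))) := by
      rw [hτdef, ← map_inv, ← map_mul, ← map_mul, DihedralGroup.inv_r, DihedralGroup.r_mul_sr,
        DihedralGroup.sr_mul_r]
      congr 2
      linear_combination hi
    have hzW' : z ∈ cj (τ * x) V := by
      rw [cj_mul, ← hWdef, ← hτz]; exact conj_mem_cj τ W hzW
    have hiW' : ι (DihedralGroup.sr ((i.val % 2 : ℕ) : ZMod (4 * m'))) ∈ cj (τ * x) V := by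
      rw [cj_mul, ← hWdef, ← hτi]; exact conj_mem_cj τ W hiW
    have hcard : Nat.card ↥(cj (τ * x) V) ≤ 4 := by
      rw [cj_def, Subgroup.card_map_of_injective (conj_injective (τ * x)), hV.card_four]
    rcases Nat.mod_two_eq_zero_or_one i.val with hε | hε
    · left
      refine ⟨τ * x, (Subgroup.eq_of_le_of_card_ge ?_ ?_).symm⟩
      · intro y hy
        rw [hε, Nat.cast_zero, ← hadef] at hiW'
        rcases (hU₁mem y).mp hy with h | h | h | h
        · rw [h]; exact Subgroup.one_mem _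
        · rw [h]; exact hzW'
        · rw [h]; exact hiW'
        · rw [h]; exact Subgroup.mul_mem _ hzW' hiW'
      · rw [hU₁K.card_four]; exact hcard
    · right
      refine ⟨τ * x, (Subgroup.eq_of_le_of_card_ge ?_ ?_).symm⟩
      · intro y hy
        rw [hε, Nat.cast_one, ← hbdef] at hiW'
        rcases (hU₂mem y).mp hy with h | h | h | h
        · rw [h]; exact Subgroup.one_mem _
        · rw [h]; exact hzW'
        · rw [h]; exact hiW'
        · rw [h]; exact Subgroup.mul_mem _ hzW' hiW'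
      · rw [hU₂K.card_four]; exact hcard

theorem main1256 {X : Type*} [Group X] [Finite X] (S : Sylow 2 X) (m : ℕ) (hm : 2 ≤ m) (eS : (S : Subgroup X) ≃* DihedralGroup m) : (Nat.card S = 4 → ∀ U V : Subgroup X, IsKleinFour U → IsKleinFour V → (∃ x : X, U.map (MulAut.conj x).toMonoidHom = V)) ∧ (4 < Nat.card S → ∃ U₁ U₂ : Subgroup X, IsKleinFour U₁ ∧ IsKleinFour U₂ ∧ ¬ (∃ x : X, U₁.map (MulAut.conj x).toMonoidHom = U₂) ∧ ∀ V : Subgroup X, IsKleinFour V → (∃ x : X, V.map (MulAut.conj x).toMonoidHom = U₁) ∨ (∃ x : X, V.map (MulAut.conj x).toMonoidHom = U₂)) := by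
  haveI : Fact (Nat.Prime 2) := ⟨Nat.prime_two⟩
  constructor
  · intro h4 U V hU hV
    exact part_a S h4 U V hU hV
  · intro h4
    have hcardS : Nat.card ↥(S : Subgroup X) = 2 * m := by
      rw [Nat.card_congr eS.toEquiv, DihedralGroup.nat_card]
    obtain ⟨k, hk⟩ := (IsPGroup.iff_card).mp S.2
    have h4' : 4 < Nat.card ↥(S : Subgroup X) := h4
    rw [hcardS] at hk h4'
    have hm4 : ∃ m' : ℕ, 1 ≤ m' ∧ m = 4 * m' := by
      cases k with
      | zero => omega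
      | succ k =>
        cases k with
        | zero => omega
        | succ k =>
          cases k with
          | zero => omega
          | succ k =>
            refine ⟨2 ^ k, Nat.one_le_two_pow, ?_⟩
            have h1 : 2 ^ (k + 1 + 1 + 1) = 8 * 2 ^ k := by ring
            omega
    obtain ⟨m', hm', rfl⟩ := hm4
    exact part_b S m' hm' eS


/-- Let X be a finite group whose Sylow 2-subgroup S is dihedral of order 2m ≥ 4. If |S| = 4, any two Klein four-subgroups of X are conjugate; if |S| > 4, there are Klein four-subgroups U₁, U₂ of X that are not conjugate, and every Klein four-subgroup of X is conjugate to U₁ or to U₂. -/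
theorem result {X : Type*} [Group X] [Finite X] (S : Sylow 2 X) (m : ℕ) (hm : 2 ≤ m) (eS : (S : Subgroup X) ≃* DihedralGroup m) : (Nat.card S = 4 → ∀ U V : Subgroup X, IsKleinFour U → IsKleinFour V → (∃ x : X, U.map (MulAut.conj x).toMonoidHom = V)) ∧ (4 < Nat.card S → ∃ U₁ U₂ : Subgroup X, IsKleinFour U₁ ∧ IsKleinFour U₂ ∧ ¬ (∃ x : X, U₁.map (MulAut.conj x).toMonoidHom = U₂) ∧ ∀ V : Subgroup X, IsKleinFour V → (∃ x : X, V.map (MulAut.conj x).toMonoidHom = U₁) ∨ (∃ x : X, V.map (MulAut.conj x).toMonoidHom = U₂)) := by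
  exact main1256 S m hm eS

end Cfsg.Agent.S1256
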