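import Cfsg.Statements.S1205
import Mathlib
import Cfsg.Agent.S1204
import Cfsg.Agent.S1256
import Cfsg.Agent.S1003
import Cfsg.Agent.Lib.Helper6.Transfer3
import Cfsg.Agent.Lib.Helper6.QuatRec

set_option autoImplicit false
open Cfsg

namespace Cfsg.Agent.S1205

open Cfsg.Agent.S1236 Cfsg.Agent.S1203 Cfsg.Agent.S1204 Cfsg.Agent.Lib.Lead.KleinDih
  Cfsg.Agent.Lib.Helper4 Cfsg.Agent.Lib.Helper6 Subgroup

set_option linter.unusedVariables false
set_option linter.unusedSectionVars false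
set_option linter.style.haveILetI false

structure QD {G : Type*} [Group G] (S : Sylow 2 G) where
  n : ℕ
  x : G
  z : G
  Cg : Subgroup G
  hn : 3 ≤ n
  hCg : Cg = Subgroup.zpowers x
  hxo : orderOf x = 2 ^ n
  hcard : Nat.card (S : Subgroup G) = 2 ^ (n + 1)
  hrel : Cg.relIndex (S : Subgroup G) = 2
  hCgS : Cg ≤ (S : Subgroup G)
  hzC : z ∈ Cg
  hz1 : z ≠ 1
  hzz : z * z = 1
  hzc : ∀ s ∈ (S : Subgroup G), s * z = z * s
  hzu : ∀ c ∈ Cg, c * c = 1 → c ≠ 1 → c = z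
  hprod : ∀ a ∈ (S : Subgroup G), ∀ b ∈ (S : Subgroup G), a ∉ Cg → b ∉ Cg → a * b ∈ Cg
  hsq : ∀ s ∈ (S : Subgroup G), s ∉ Cg → s * s = 1 ∨ s * s = z
  htwo : ∀ t ∈ (S : Subgroup G), ∀ u ∈ (S : Subgroup G), t ∉ Cg → u ∉ Cg → t * t = 1 →
    ¬ u * u = 1 → ∀ s ∈ (S : Subgroup G), s ∉ Cg →
      (s * s = 1 → ∃ h ∈ (S : Subgroup G), h * t * h⁻¹ = s) ∧
      (¬ s * s = 1 → ∃ h ∈ (S : Subgroup G), h * u * h⁻¹ = s)
  hF : ∀ F : Finset G, (∀ c ∈ F, c ∈ Cg ∧ c ^ 4 = 1) → F.card ≤ 4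
  hc4 : ∃ c₄ d, c₄ ∈ Cg ∧ orderOf c₄ = 4 ∧ c₄ = d * d
  hgc : ∀ g ∈ (S : Subgroup G), g ∉ Cg → ∀ c₁ ∈ Cg, ∀ c₂ ∈ Cg, c₁ ≠ 1 → c₂ ≠ 1 →
    c₁ * g = g * c₁ → c₂ * g = g * c₂ → c₁ = c₂

theorem qd_data {G : Type*} [Group G] [Finite G] (S : Sylow 2 G)
    (hS : IsQuasiDihedral (S : Subgroup G)) : Nonempty (QD S) := by
  classical
  obtain ⟨n, x, hn, hcard, hx, hGood, hidx⟩ := good_qd3 hS
  obtain ⟨z, hzC, hz1, hzz, hzc, hzu, hsq, htwo, hF, c₄, d, hc₄C, hc₄o, hc₄d⟩ :=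
    qd_abstract n hn hcard x hx hGood hidx
  obtain ⟨ha, hb, hc⟩ := hGood
  obtain ⟨C, hCdef⟩ : ∃ C : Subgroup ↥(S : Subgroup G), C = Subgroup.zpowers x := ⟨_, rfl⟩
  rw [← hCdef] at hzC hzu hsq htwo hF hc₄C ha hc hidx
  have hmem : ∀ (s : G) (hs : s ∈ (S : Subgroup G)),
      s ∈ C.map (S : Subgroup G).subtype ↔ (⟨s, hs⟩ : ↥(S : Subgroup G)) ∈ C := by
    intro s hs
    constructor
    · rintro ⟨c, hc, hcs⟩
      have : c = ⟨s, hs⟩ := Subtype.ext hcs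
      rw [← this]; exact hc
    · intro h
      exact ⟨⟨s, hs⟩, h, rfl⟩
  refine ⟨⟨n, (x : G), (z : G), C.map (S : Subgroup G).subtype, hn, ?_, ?_, hcard, ?_,
    Subgroup.map_subtype_le _, ⟨z, hzC, rfl⟩, fun h => hz1 (Subtype.ext h),
    congrArg Subtype.val hzz, ?_, ?_, ?_, ?_, ?_, ?_, ?_, ?_⟩⟩
  · rw [hCdef, MonoidHom.map_zpowers]; rfl
  · rw [Subgroup.orderOf_coe]; exact hx
  · show ((C.map (S : Subgroup G).subtype).comap (S : Subgroup G).subtype).index = 2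
    rw [Subgroup.comap_map_eq_self_of_injective (Subgroup.subtype_injective _)]
    exact hidx
  · intro s hs
    exact congrArg Subtype.val (hzc ⟨s, hs⟩)
  · rintro c ⟨c', hc', rfl⟩ hcc hc1
    have := hzu c' hc' (Subtype.ext hcc) (fun h => hc1 (congrArg Subtype.val h))
    rw [this]; rfl
  · intro a haS b hbS haC hbC
    exact (hmem (a * b) ((S : Subgroup G).mul_mem haS hbS)).mpr
      (ha ⟨a, haS⟩ ⟨b, hbS⟩ (fun h => haC ((hmem a haS).mpr h)) (fun h => hbC ((hmem b hbS).mpr h)))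
  · intro s hs hsC
    rcases hsq ⟨s, hs⟩ (fun h => hsC ((hmem s hs).mpr h)) with h | h
    · exact Or.inl (congrArg Subtype.val h)
    · exact Or.inr (congrArg Subtype.val h)
  · intro t ht u hu htC huC htt huu s hs hsC
    have := htwo ⟨t, ht⟩ ⟨u, hu⟩ (fun h => htC ((hmem t ht).mpr h)) (fun h => huC ((hmem u hu).mpr h))
      (Subtype.ext htt) (fun h => huu (congrArg Subtype.val h)) ⟨s, hs⟩
      (fun h => hsC ((hmem s hs).mpr h))
    constructor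
    · intro hss
      obtain ⟨h, hh⟩ := this.1 (Subtype.ext hss)
      exact ⟨h, h.2, congrArg Subtype.val hh⟩
    · intro hss
      obtain ⟨h, hh⟩ := this.2 (fun h => hss (congrArg Subtype.val h))
      exact ⟨h, h.2, congrArg Subtype.val hh⟩
  · intro F hFm
    have hFS : ∀ c ∈ F, c ∈ (S : Subgroup G) := fun c hc => Subgroup.map_subtype_le _ (hFm c hc).1
    have h1 : (F.subtype (fun g => g ∈ (S : Subgroup G))).card = F.card := by
      rw [Finset.card_subtype, Finset.filter_true_of_mem hFS]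
    rw [← h1]
    apply hF
    intro c hc
    rw [Finset.mem_subtype] at hc
    have := hFm c.1 hc
    refine ⟨(hmem c.1 c.2).mp this.1, ?_⟩
    apply Subtype.ext
    rw [Subgroup.coe_pow]
    exact this.2
  · refine ⟨c₄, d, ⟨c₄, hc₄C, rfl⟩, ?_, ?_⟩
    · rw [Subgroup.orderOf_coe]; exact hc₄o
    · rw [hc₄d]; rfl
  · intro g hg hgC c₁ hc₁ c₂ hc₂ h1 h2 e1 e2
    have hc₁S := Subgroup.map_subtype_le _ hc₁
    have hc₂S := Subgroup.map_subtype_le _ hc₂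
    have := hc ⟨g, hg⟩ (fun h => hgC ((hmem g hg).mpr h)) ⟨c₁, hc₁S⟩ ((hmem c₁ hc₁S).mp hc₁)
      ⟨c₂, hc₂S⟩ ((hmem c₂ hc₂S).mp hc₂) (fun h => h1 (congrArg Subtype.val h))
      (fun h => h2 (congrArg Subtype.val h)) (Subtype.ext e1) (Subtype.ext e2)
    exact congrArg Subtype.val this

theorem conj_into_sub {G : Type*} [Group G] [Finite G] {p : ℕ} [Fact p.Prime] (H : Subgroup G)
    (S : Sylow p G) (hS : (S : Subgroup G) ≤ H) (A : Subgroup G) (hA : A ≤ H)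
    (hpA : IsPGroup p A) : ∃ c ∈ H, ∀ a ∈ A, c * a * c⁻¹ ∈ (S : Subgroup G) := by
  have hpA' : IsPGroup p (A.subgroupOf H) := hpA.comap_subtype
  obtain ⟨P', hP'⟩ := hpA'.exists_le_sylow
  obtain ⟨c, hc⟩ := MulAction.exists_smul_eq ↥H P' (S.subtype hS)
  refine ⟨(c : G), c.2, ?_⟩
  intro a ha
  have h1 : (⟨a, hA ha⟩ : ↥H) ∈ (P' : Subgroup ↥H) :=
    hP' (by rw [Subgroup.mem_subgroupOf]; exact ha)
  have h2 : c * ⟨a, hA ha⟩ * c⁻¹ ∈ ((c • P' : Sylow p ↥H) : Subgroup ↥H) := by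
    rw [Cfsg.Agent.S1003.mem_smul_sylow]
    have e : c⁻¹ * (c * ⟨a, hA ha⟩ * c⁻¹) * c = ⟨a, hA ha⟩ := by group
    rw [e]; exact h1
  rw [hc, Sylow.coe_subtype, Subgroup.mem_subgroupOf] at h2
  simpa using h2

theorem no_fusion {G : Type*} [Group G] [Finite G] (S : Sylow 2 G) (d : QD S) (T : Subgroup G)
    [IsKleinFour ↥T] (hTS : T ≤ (S : Subgroup G))
    (h₁ : (Subgroup.centralizer (T : Set G)).relIndex (Subgroup.normalizer (T : Set G)) = 2)
    (t₂ : G) (ht₂T : t₂ ∈ T) (ht₂C : t₂ ∉ d.Cg) (hzT : d.z ∈ T)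
    (u₀ : G) (hu₀S : u₀ ∈ (S : Subgroup G)) (hu₀C : u₀ ∉ d.Cg) (hu₀sq : ¬ u₀ * u₀ = 1) :
    ¬ ∃ g : G, g * t₂ * g⁻¹ = d.z := by
  rintro ⟨g, hg⟩
  haveI : Fact (Nat.Prime 2) := ⟨Nat.prime_two⟩
  have ht₂S := hTS ht₂T
  have ht₂sq : t₂ * t₂ = 1 := klein_sq T t₂ ht₂T
  have ht₂1 : t₂ ≠ 1 := fun h => ht₂C (h ▸ d.Cg.one_mem)
  have hzt : d.z ≠ t₂ := fun h => ht₂C (h ▸ d.hzC)
  have hTmem : ∀ v, v ∈ T ↔ v = 1 ∨ v = d.z ∨ v = t₂ ∨ v = d.z * t₂ := by
    intro v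
    constructor
    · intro hv; exact klein_cases T hzT ht₂T d.hz1 ht₂1 hzt v hv
    · rintro (h | h | h | h) <;> rw [h]
      · exact T.one_mem
      · exact hzT
      · exact ht₂T
      · exact T.mul_mem hzT ht₂T
  have hzt₂ : d.z * t₂ = t₂ * d.z := (d.hzc t₂ ht₂S).symm
  have hSC : (S : Subgroup G) ≤ Subgroup.centralizer ({d.z} : Set G) := by
    intro s hs
    rw [Subgroup.mem_centralizer_iff]
    intro y hy
    rw [Set.mem_singleton_iff] at hy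
    rw [hy]; exact (d.hzc s hs).symm
  have hA : cj g T ≤ Subgroup.centralizer ({d.z} : Set G) := by
    intro y hy
    rw [mem_cj_iff] at hy
    rw [Subgroup.mem_centralizer_iff]
    intro w hw
    rw [Set.mem_singleton_iff] at hw
    rw [hw]
    have hc := klein_comm T t₂ (g⁻¹ * y * g) ht₂T hy
    rw [← hg]
    calc g * t₂ * g⁻¹ * y = g * (t₂ * (g⁻¹ * y * g)) * g⁻¹ := by group
      _ = g * ((g⁻¹ * y * g) * t₂) * g⁻¹ := by rw [hc]
      _ = y * (g * t₂ * g⁻¹) := by group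
  have hpA : IsPGroup 2 (cj g T) :=
    cj_isPGroup 2 g (IsPGroup.of_card (n := 2) (by rw [IsKleinFour.card_four]; norm_num))
  obtain ⟨c, hcC, hcA⟩ := conj_into_sub _ S hSC (cj g T) hA hpA
  have hcz : c * d.z * c⁻¹ = d.z := by
    have h1 := Subgroup.mem_centralizer_iff.mp hcC d.z (Set.mem_singleton _)
    rw [← h1]; group
  obtain ⟨g', hg'⟩ : ∃ g', g' = c * g := ⟨_, rfl⟩
  have hg't : g' * t₂ * g'⁻¹ = d.z := by
    rw [hg']
    calc (c * g) * t₂ * (c * g)⁻¹ = c * (g * t₂ * g⁻¹) * c⁻¹ := by group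
      _ = d.z := by rw [hg, hcz]
  have hg'T : ∀ v ∈ T, g' * v * g'⁻¹ ∈ (S : Subgroup G) := by
    intro v hv
    have h1 := hcA (g * v * g⁻¹) (conj_mem_cj g T hv)
    have e : c * (g * v * g⁻¹) * c⁻¹ = g' * v * g'⁻¹ := by rw [hg']; group
    rwa [e] at h1
  have hwS := hg'T d.z hzT
  have hw2 : (g' * d.z * g'⁻¹) * (g' * d.z * g'⁻¹) = 1 := by
    calc (g' * d.z * g'⁻¹) * (g' * d.z * g'⁻¹) = g' * (d.z * d.z) * g'⁻¹ := by group
      _ = 1 := by rw [d.hzz]; group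
  have hwz : g' * d.z * g'⁻¹ ≠ d.z := by
    intro h
    have h1 : g' * d.z * g'⁻¹ = g' * t₂ * g'⁻¹ := h.trans hg't.symm
    apply hzt
    have h2 := congrArg (fun u => g'⁻¹ * u * g') h1
    simpa [mul_assoc] using h2
  have hw1 : g' * d.z * g'⁻¹ ≠ 1 := fun h => d.hz1 (conj_eq_one_iff.mp h)
  have hwC : g' * d.z * g'⁻¹ ∉ d.Cg := fun h => hwz (d.hzu _ h hw2 hw1)
  obtain ⟨s, hsS, hs⟩ :=
    (d.htwo t₂ ht₂S u₀ hu₀S ht₂C hu₀C ht₂sq hu₀sq _ hwS hwC).1 hw2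
  obtain ⟨nn, hnn⟩ : ∃ nn, nn = s⁻¹ * g' := ⟨_, rfl⟩
  have hn_z : nn * d.z * nn⁻¹ = t₂ := by
    rw [hnn]
    calc (s⁻¹ * g') * d.z * (s⁻¹ * g')⁻¹ = s⁻¹ * (g' * d.z * g'⁻¹) * s := by group
      _ = s⁻¹ * (s * t₂ * s⁻¹) * s := by rw [hs]
      _ = t₂ := by group
  have hn_t : nn * t₂ * nn⁻¹ = d.z := by
    rw [hnn]
    have h1 := d.hzc s hsS
    calc (s⁻¹ * g') * t₂ * (s⁻¹ * g')⁻¹ = s⁻¹ * (g' * t₂ * g'⁻¹) * s := by group
      _ = s⁻¹ * (d.z * s) := by rw [hg't]; group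
      _ = s⁻¹ * (s * d.z) := by rw [h1]
      _ = d.z := by group
  have hnN : nn ∈ Subgroup.normalizer (T : Set G) := by
    apply Subgroup.mem_normalizer_fintype
    intro v hv
    rcases (hTmem v).mp hv with h | h | h | h
    · rw [h]
      have e : nn * 1 * nn⁻¹ = 1 := by group
      rw [e]; exact T.one_mem
    · rw [h, hn_z]; exact ht₂T
    · rw [h, hn_t]; exact hzT
    · rw [h]
      have e : nn * (d.z * t₂) * nn⁻¹ = (nn * d.z * nn⁻¹) * (nn * t₂ * nn⁻¹) := by group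
      rw [e, hn_z, hn_t]; exact T.mul_mem ht₂T hzT
  have ht₂z_S : t₂ * d.z ∈ (S : Subgroup G) :=
    (S : Subgroup G).mul_mem ht₂S (d.hCgS d.hzC)
  have ht₂z_C : t₂ * d.z ∉ d.Cg := fun h => ht₂C (by
    have h1 := d.Cg.mul_mem h (d.Cg.inv_mem d.hzC)
    simpa using h1)
  have ht₂z_sq : (t₂ * d.z) * (t₂ * d.z) = 1 := by
    calc (t₂ * d.z) * (t₂ * d.z) = t₂ * (d.z * t₂) * d.z := by group
      _ = t₂ * (t₂ * d.z) * d.z := by rw [hzt₂]
      _ = (t₂ * t₂) * (d.z * d.z) := by group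
      _ = 1 := by rw [ht₂sq, d.hzz, one_mul]
  obtain ⟨s₁, hs₁S, hs₁⟩ :=
    (d.htwo t₂ ht₂S u₀ hu₀S ht₂C hu₀C ht₂sq hu₀sq _ ht₂z_S ht₂z_C).1 ht₂z_sq
  have hs₁z : s₁ * d.z * s₁⁻¹ = d.z := by rw [d.hzc s₁ hs₁S]; group
  obtain ⟨hs₁N, hs₁C⟩ :=
    Cfsg.Agent.S1256.norm_aux d.z t₂ s₁ d.hzz d.hz1 hzt₂ hs₁z hs₁ T hTmem
  have hnC : nn ∉ Subgroup.centralizer (T : Set G) := by
    intro h
    have h1 := Subgroup.mem_centralizer_iff.mp h t₂ ht₂T
    apply hzt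
    rw [← hn_t, ← h1]; group
  have hidx : ((Subgroup.centralizer (T : Set G)).subgroupOf
      (Subgroup.normalizer (T : Set G))).index = 2 := h₁
  have hmul := (Subgroup.mul_mem_iff_of_index_two hidx (a := ⟨s₁, hs₁N⟩) (b := ⟨nn, hnN⟩)).2
    (iff_of_false (by rw [Subgroup.mem_subgroupOf]; exact hs₁C)
      (by rw [Subgroup.mem_subgroupOf]; exact hnC))
  rw [Subgroup.mem_subgroupOf] at hmul
  have hmul' : s₁ * nn ∈ Subgroup.centralizer (T : Set G) := by simpa using hmul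
  have h5 := Subgroup.mem_centralizer_iff.mp hmul' t₂ ht₂T
  apply hzt
  calc d.z = s₁ * (nn * t₂ * nn⁻¹) * s₁⁻¹ := by rw [hn_t, hs₁z]
    _ = (s₁ * nn) * t₂ * (s₁ * nn)⁻¹ := by group
    _ = t₂ * (s₁ * nn) * (s₁ * nn)⁻¹ := by rw [h5]
    _ = t₂ := by group


theorem main1205 {G : Type*} [Group G] [Finite G] (S : Sylow 2 G) (hS : Cfsg.IsQuasiDihedral (S : Subgroup G)) (T : Subgroup G) (hT : IsKleinFour T) (hTS : T ≤ S) (Q : Subgroup G) (hQS : Q ≤ S) (eQ : Q ≃* QuaternionGroup 2) (h₁ : (Subgroup.centralizer (T : Set G)).relIndex (Subgroup.normalizer (T : Set G)) = 2) (h₂ : (Q ⊔ Subgroup.centralizer (Q : Set G)).relIndex (Subgroup.normalizer (Q : Set G)) = 6) : (∃ K : Subgroup G, K.Normal ∧ K.index = 2 ∧ (∀ P : Sylow 2 ↥K, ∃ m : ℕ, 1 ≤ m ∧ Nonempty ((P : Subgroup ↥K) ≃* QuaternionGroup (2 ^ m))) ∧ (∀ H : Subgroup ↥K, H.index ≠ 2)) ∧ Cfsg.IsWeaklyClosed ((Subgroup.center (S : Subgroup G)).map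 (S : Subgroup G).subtype) (S : Subgroup G) ∧ Nat.card {C : ConjClasses G // ∃ t : G, orderOf t = 2 ∧ ConjClasses.mk t = C} = 2 ∧ Nat.card {C : ConjClasses G // ∃ t : G, orderOf t = 4 ∧ ConjClasses.mk t = C} = 1 := by
  classical
  haveI : Fact (Nat.Prime 2) := ⟨Nat.prime_two⟩
  haveI := hT
  obtain ⟨dd⟩ := qd_data S hS
  obtain ⟨n, x, z, Cg, hn, hCg, hxo, hcard, hrel, hCgS, hzC, hz1, hzz, hzc, hzu, hprod, hsq, htwo,
    hF, ⟨c₄, d, hc₄C, hc₄o, hc₄d⟩, hgc⟩ := dd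
  -- structure of T
  obtain ⟨a', ha', b', hb', ha'1, hb'1, hab'⟩ := klein_two T
  have hTinv : ∀ v ∈ T, v ∈ Cg → v ≠ 1 → v = z :=
    fun v hv hvC hv1 => hzu v hvC (klein_sq T v hv) hv1
  have hzT : z ∈ T := by
    by_cases h1 : a' ∈ Cg
    · rw [← hTinv a' ha' h1 ha'1]; exact ha'
    · by_cases h2 : b' ∈ Cg
      · rw [← hTinv b' hb' h2 hb'1]; exact hb'
      · have h3 := hprod a' (hTS ha') b' (hTS hb') h1 h2
        have h4 := klein_mul_ne_one T ha' hb' hab'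
        rw [← hTinv (a' * b') (T.mul_mem ha' hb') h3 h4]; exact T.mul_mem ha' hb'
  obtain ⟨t₂, ht₂T, ht₂C⟩ : ∃ t₂ ∈ T, t₂ ∉ Cg := by
    by_cases h1 : a' ∈ Cg
    · by_cases h2 : b' ∈ Cg
      · exact absurd ((hTinv a' ha' h1 ha'1).trans (hTinv b' hb' h2 hb'1).symm) hab'
      · exact ⟨b', hb', h2⟩
    · exact ⟨a', ha', h1⟩
  have ht₂S : t₂ ∈ (S : Subgroup G) := hTS ht₂T
  have ht₂sq : t₂ * t₂ = 1 := klein_sq T t₂ ht₂T
  have ht₂1 : t₂ ≠ 1 := fun h => ht₂C (h ▸ Cg.one_mem)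
  -- structure of Q
  obtain ⟨f, hfdef⟩ : ∃ f : QuaternionGroup 2 →* G, f = Q.subtype.comp eQ.symm.toMonoidHom :=
    ⟨_, rfl⟩
  have hfQ : ∀ g, f g ∈ Q := by intro g; rw [hfdef]; exact (eQ.symm g).2
  have hfs : ∀ q ∈ Q, ∃ g, f g = q := by
    intro q hq; exact ⟨eQ ⟨q, hq⟩, by rw [hfdef]; simp⟩
  have hfi : Function.Injective f := by
    rw [hfdef]; exact (Subgroup.subtype_injective _).comp eQ.symm.injective
  have hf4 : ∀ g, (f g) ^ 4 = 1 := by intro g; rw [← map_pow, q8_pow4 g, map_one]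
  have hfS : ∀ g, f g ∈ (S : Subgroup G) := fun g => hQS (hfQ g)
  obtain ⟨QF, hQF⟩ : ∃ QF : Finset G, QF = Finset.univ.image f := ⟨_, rfl⟩
  have hQFcard : QF.card = 8 := by
    rw [hQF, Finset.card_image_of_injective _ hfi, Finset.card_univ, QuaternionGroup.card]
  have hQFmem : ∀ q, q ∈ QF ↔ ∃ g, f g = q := by
    intro q; rw [hQF, Finset.mem_image]
    constructor
    · rintro ⟨g, -, h⟩; exact ⟨g, h⟩
    · rintro ⟨g, h⟩; exact ⟨g, Finset.mem_univ _, h⟩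
  have hF1 : (QF.filter (fun q => q ∈ Cg)).card ≤ 4 := by
    apply hF
    intro c hc
    rw [Finset.mem_filter, hQFmem] at hc
    obtain ⟨⟨g, rfl⟩, hcC⟩ := hc
    exact ⟨hcC, hf4 g⟩
  have hF12 := Finset.card_filter_add_card_filter_not (s := QF) (fun q => q ∈ Cg)
  obtain ⟨u₀, hu₀F⟩ : ∃ u₀, u₀ ∈ QF.filter (fun q => ¬ q ∈ Cg) := by
    apply Finset.card_pos.mp
    omega
  rw [Finset.mem_filter, hQFmem] at hu₀F
  obtain ⟨⟨g₀, hg₀⟩, hu₀C⟩ := hu₀F
  have hu₀S : u₀ ∈ (S : Subgroup G) := by rw [← hg₀]; exact hfS g₀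
  have hu₀Q : u₀ ∈ Q := by rw [← hg₀]; exact hfQ g₀
  have hu₀inv : u₀⁻¹ ∉ Cg := fun h => hu₀C (by simpa using Cg.inv_mem h)
  have hF21 : (QF.filter (fun q => ¬ q ∈ Cg)).card ≤ (QF.filter (fun q => q ∈ Cg)).card := by
    apply Finset.card_le_card_of_injOn (fun q => u₀⁻¹ * q)
    · intro q hq
      rw [Finset.mem_coe, Finset.mem_filter, hQFmem] at hq
      obtain ⟨⟨g, rfl⟩, hqC⟩ := hq
      rw [Finset.mem_coe, Finset.mem_filter, hQFmem]
      refine ⟨⟨g₀⁻¹ * g, by rw [map_mul, map_inv, hg₀]⟩, ?_⟩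
      exact hprod u₀⁻¹ ((S : Subgroup G).inv_mem hu₀S) (f g) (hfS g) hu₀inv hqC
    · intro q _ q' _ hqq
      exact mul_left_cancel hqq
  have hF1eq : (QF.filter (fun q => q ∈ Cg)).card = 4 := by omega
  have hCg4 : ∀ v ∈ Cg, v ^ 4 = 1 → ∃ g, f g = v := by
    intro v hvC hv4
    by_contra hcon
    have hvF : v ∉ QF.filter (fun q => q ∈ Cg) := by
      intro h
      rw [Finset.mem_filter, hQFmem] at h
      exact hcon h.1
    have h5 : (insert v (QF.filter (fun q => q ∈ Cg))).card ≤ 4 := by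
      apply hF
      intro c hc
      rw [Finset.mem_insert] at hc
      rcases hc with rfl | hc
      · exact ⟨hvC, hv4⟩
      · rw [Finset.mem_filter, hQFmem] at hc
        obtain ⟨⟨g, rfl⟩, hcC⟩ := hc
        exact ⟨hcC, hf4 g⟩
    rw [Finset.card_insert_of_notMem hvF, hF1eq] at h5
    omega
  have hu₀sq : ¬ u₀ * u₀ = 1 := by
    intro h
    rw [← hg₀, ← map_mul] at h
    have h1 : g₀ * g₀ = 1 := hfi (h.trans (map_one f).symm)
    rcases q8_sq_one g₀ h1 with h2 | h2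
    · apply hu₀C; rw [← hg₀, h2, map_one]; exact Cg.one_mem
    · apply hu₀C
      rw [← hg₀, h2, map_mul]
      by_cases h3 : f (QuaternionGroup.a 1) ∈ Cg
      · exact Cg.mul_mem h3 h3
      · exact hprod _ (hfS _) _ (hfS _) h3 h3
  -- fusion inside Q
  have hsurj : ∀ A B : {A : Subgroup G // Cfsg.Agent.S1203.three f A},
      ∃ n : ↥(Subgroup.normalizer (Q : Set G)), (conjPermQ f Q hfQ hfs hfi n) A = B := by
    have hker := kerQ f Q hfQ hfs hfi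
    have hidx6 : (conjPermQ f Q hfQ hfs hfi).ker.index = 6 := by rw [hker]; exact h₂
    have hrange : Nat.card (conjPermQ f Q hfQ hfs hfi).range = 6 := by
      rw [← Subgroup.index_ker]; exact hidx6
    have hperm : Nat.card (Equiv.Perm {A : Subgroup G // Cfsg.Agent.S1203.three f A}) ≤ 6 := by
      rw [Nat.card_perm]
      calc (Nat.card {A : Subgroup G // Cfsg.Agent.S1203.three f A}).factorial
          ≤ Nat.factorial 3 := Nat.factorial_le (card_XQ f)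
        _ = 6 := rfl
    have htop : (conjPermQ f Q hfQ hfs hfi).range = ⊤ :=
      Subgroup.eq_top_of_le_card _ (by rw [hrange]; exact hperm)
    intro A B
    have : Equiv.swap A B ∈ (conjPermQ f Q hfQ hfs hfi).range := by rw [htop]; trivial
    obtain ⟨n, hn⟩ := this
    exact ⟨n, by rw [hn, Equiv.swap_apply_left]⟩
  have hQinv : ∀ g : QuaternionGroup 2, ∃ h : G, h * f g * h⁻¹ = f g⁻¹ := by
    intro g
    obtain ⟨q, hq⟩ := q8_inv_conj g
    exact ⟨f q, by rw [← map_inv, ← map_mul, ← map_mul, hq]⟩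
  have hFQ : ∀ w w' : QuaternionGroup 2, w * w ≠ 1 → w' * w' ≠ 1 →
      ∃ h : G, h * f w * h⁻¹ = f w' := by
    intro w w' hw hw'
    obtain ⟨n, hn⟩ := hsurj ⟨Subgroup.zpowers (f w), three_of_sq_ne f w hw⟩
      ⟨Subgroup.zpowers (f w'), three_of_sq_ne f w' hw'⟩
    have h1 := congrArg Subtype.val hn
    rw [conjPermQ_apply] at h1
    simp only [] at h1
    rw [MonoidHom.map_zpowers] at h1
    obtain ⟨g', hg', hng'⟩ := K1 f Q hfQ hfs hfi n.1 n.2 w hw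
    have h2 : (MulAut.conj n.1).toMonoidHom (f w) = f g' := by
      rw [← hng']; rfl
    rw [h2] at h1
    have h3 : f g' ∈ Subgroup.zpowers (f w') := by rw [← h1]; exact Subgroup.mem_zpowers _
    obtain ⟨k, hk⟩ := Subgroup.mem_zpowers_iff.mp h3
    rw [← map_zpow] at hk
    have h4 : w' ^ k = g' := hfi hk
    rcases q8_zpow_cases w' g' k h4 hg' with h5 | h5
    · exact ⟨n.1, by rw [hng', h5]⟩
    · obtain ⟨h, hh⟩ := hQinv g'
      refine ⟨h * n.1, ?_⟩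
      calc h * n.1 * f w * (h * n.1)⁻¹ = h * (n.1 * f w * n.1⁻¹) * h⁻¹ := by group
        _ = h * f g' * h⁻¹ := by rw [hng']
        _ = f g'⁻¹ := hh
        _ = f w' := by rw [h5, inv_inv]
  have hg₀sq : g₀ * g₀ ≠ 1 := by
    intro h
    apply hu₀sq
    rw [← hg₀, ← map_mul, h, map_one]
  -- all elements of order 4 are conjugate to u₀
  have hord4 : ∀ v : G, orderOf v = 4 → ∃ h : G, h * u₀ * h⁻¹ = v := by
    intro v hv
    obtain ⟨g, hg⟩ := elt_conj_into_sylow S v 2 (by rw [hv]; norm_num)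
    have hv4 : v ^ 4 = 1 := by rw [← hv]; exact pow_orderOf_eq_one v
    have hv2 : ¬ v * v = 1 := by
      intro h
      have := orderOf_dvd_of_pow_eq_one (show v ^ 2 = 1 by rw [pow_two]; exact h)
      rw [hv] at this
      omega
    have hw4 : (g * v * g⁻¹) ^ 4 = 1 := by rw [conj_pow, hv4]; group
    have hw2 : ¬ (g * v * g⁻¹) * (g * v * g⁻¹) = 1 := by
      intro h
      apply hv2
      have e : g * (v * v) * g⁻¹ = 1 := by rw [← h]; group
      exact conj_eq_one_iff.mp e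
    have hw : ∃ h : G, h * u₀ * h⁻¹ = g * v * g⁻¹ := by
      by_cases hwC : g * v * g⁻¹ ∈ Cg
      · obtain ⟨gw, hgw⟩ := hCg4 _ hwC hw4
        have hgw2 : gw * gw ≠ 1 := by
          intro h
          apply hw2
          rw [← hgw, ← map_mul, h, map_one]
        obtain ⟨h, hh⟩ := hFQ g₀ gw hg₀sq hgw2
        exact ⟨h, by rw [← hg₀, hh, hgw]⟩
      · obtain ⟨h, -, hh⟩ := (htwo t₂ ht₂S u₀ hu₀S ht₂C hu₀C ht₂sq hu₀sq _ hg hwC).2 hw2
        exact ⟨h, hh⟩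
    obtain ⟨h, hh⟩ := hw
    refine ⟨g⁻¹ * h, ?_⟩
    calc g⁻¹ * h * u₀ * (g⁻¹ * h)⁻¹ = g⁻¹ * (h * u₀ * h⁻¹) * g := by group
      _ = g⁻¹ * (g * v * g⁻¹) * g := by rw [hh]
      _ = v := by group
  have ht₂o : orderOf t₂ = 2 := orderOf_eq_prime (by rw [pow_two]; exact ht₂sq) ht₂1
  have hu₀4 : u₀ ^ 4 = 1 := by rw [← hg₀]; exact hf4 g₀
  have hu₀o : orderOf u₀ = 4 := by
    have e1 : ¬ u₀ ^ 2 ^ 1 = 1 := by rw [pow_one, pow_two]; exact hu₀sq
    have e2 : u₀ ^ 2 ^ (1 + 1) = 1 := by norm_num; exact hu₀4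
    have := orderOf_eq_prime_pow e1 e2
    rw [this]; norm_num
  have hzo : orderOf z = 2 := orderOf_eq_prime (by rw [pow_two]; exact hzz) hz1
  have hzS : z ∈ (S : Subgroup G) := hCgS hzC
  have hxC : x ∈ Cg := by rw [hCg]; exact Subgroup.mem_zpowers x
  have hxS : x ∈ (S : Subgroup G) := hCgS hxC
  have hnofus : ¬ ∃ g : G, g * t₂ * g⁻¹ = z :=
    no_fusion S ⟨n, x, z, Cg, hn, hCg, hxo, hcard, hrel, hCgS, hzC, hz1, hzz, hzc, hzu, hprod, hsq,
      htwo, hF, ⟨c₄, d, hc₄C, hc₄o, hc₄d⟩, hgc⟩ T hTS h₁ t₂ ht₂T ht₂C hzT u₀ hu₀S hu₀C hu₀sq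
  -- every involution is conjugate to z or t₂
  have hinv : ∀ v : G, orderOf v = 2 →
      (∃ h : G, h * z * h⁻¹ = v) ∨ (∃ h : G, h * t₂ * h⁻¹ = v) := by
    intro v hv
    obtain ⟨g, hg⟩ := elt_conj_into_sylow S v 1 (by rw [hv, pow_one])
    have hv2 : v * v = 1 := by rw [← pow_two, ← hv]; exact pow_orderOf_eq_one v
    have hv1 : v ≠ 1 := by intro h; rw [h, orderOf_one] at hv; omega
    have hw2 : (g * v * g⁻¹) * (g * v * g⁻¹) = 1 := by
      calc (g * v * g⁻¹) * (g * v * g⁻¹) = g * (v * v) * g⁻¹ := by group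
        _ = 1 := by rw [hv2]; group
    have hw1 : g * v * g⁻¹ ≠ 1 := fun h => hv1 (conj_eq_one_iff.mp h)
    by_cases hwC : g * v * g⁻¹ ∈ Cg
    · left
      have h1 := hzu _ hwC hw2 hw1
      refine ⟨g⁻¹, ?_⟩
      rw [← h1]; group
    · right
      obtain ⟨h, -, hh⟩ := (htwo t₂ ht₂S u₀ hu₀S ht₂C hu₀C ht₂sq hu₀sq _ hg hwC).1 hw2
      refine ⟨g⁻¹ * h, ?_⟩
      calc g⁻¹ * h * t₂ * (g⁻¹ * h)⁻¹ = g⁻¹ * (h * t₂ * h⁻¹) * g := by group
        _ = g⁻¹ * (g * v * g⁻¹) * g := by rw [hh]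
        _ = v := by group
  have hC : Nat.card {C : ConjClasses G // ∃ t : G, orderOf t = 2 ∧ ConjClasses.mk t = C} = 2 := by
    rw [Nat.card_eq_two_iff]
    refine ⟨⟨ConjClasses.mk z, z, hzo, rfl⟩, ⟨ConjClasses.mk t₂, t₂, ht₂o, rfl⟩, ?_, ?_⟩
    · intro heq
      have h1 : ConjClasses.mk z = ConjClasses.mk t₂ := congrArg Subtype.val heq
      rw [ConjClasses.mk_eq_mk_iff_isConj, isConj_iff] at h1
      obtain ⟨c, hc⟩ := h1
      apply hnofus
      refine ⟨c⁻¹, ?_⟩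
      rw [← hc]; group
    · apply Set.eq_univ_of_forall
      rintro ⟨C, t, ht, rfl⟩
      rcases hinv t ht with ⟨h, hh⟩ | ⟨h, hh⟩
      · left
        exact Subtype.ext ((ConjClasses.mk_eq_mk_iff_isConj).mpr
          (isConj_iff.mpr ⟨h⁻¹, by rw [← hh]; group⟩))
      · right
        exact Subtype.ext ((ConjClasses.mk_eq_mk_iff_isConj).mpr
          (isConj_iff.mpr ⟨h⁻¹, by rw [← hh]; group⟩))
  -- weak closure of the centre
  have hB : Cfsg.IsWeaklyClosed ((Subgroup.center (S : Subgroup G)).map (S : Subgroup G).subtype)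
      (S : Subgroup G) := by
    have hZ : ∀ y : G, y ∈ (Subgroup.center ↥(S : Subgroup G)).map (S : Subgroup G).subtype ↔
        y = 1 ∨ y = z := by
      intro y
      constructor
      · rintro ⟨c, hc, rfl⟩
        rw [SetLike.mem_coe, Subgroup.mem_center_iff] at hc
        have hcomm : ∀ s (hs : s ∈ (S : Subgroup G)), s * (c : G) = (c : G) * s := by
          intro s hs
          exact congrArg Subtype.val (hc ⟨s, hs⟩)
        by_cases hc1 : (c : G) = 1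
        · left; exact hc1
        right
        by_cases hcC : (c : G) ∈ Cg
        · exact hgc t₂ ht₂S ht₂C _ hcC z hzC hc1 hz1 (hcomm t₂ ht₂S).symm (hzc t₂ ht₂S).symm
        · exfalso
          have hx1 : x ≠ 1 := by
            intro h
            rw [h, orderOf_one] at hxo
            have : 2 ^ 3 ≤ 2 ^ n := Nat.pow_le_pow_right (by norm_num) hn
            omega
          have h1 := hgc (c : G) c.2 hcC x hxC z hzC hx1 hz1 (hcomm x hxS) (hcomm z hzS)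
          rw [h1, hzo] at hxo
          have : 2 ^ 3 ≤ 2 ^ n := Nat.pow_le_pow_right (by norm_num) hn
          omega
      · rintro (h | h)
        · rw [h]; exact Subgroup.one_mem _
        · rw [h]
          refine ⟨⟨z, hzS⟩, ?_, rfl⟩
          rw [SetLike.mem_coe, Subgroup.mem_center_iff]
          intro s
          exact Subtype.ext (hzc s s.2)
    have hzZ : z ∈ (Subgroup.center ↥(S : Subgroup G)).map (S : Subgroup G).subtype :=
      (hZ z).mpr (Or.inr rfl)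
    have hcj : ∀ g : G, (MulAut.conj g).toMonoidHom z = g * z * g⁻¹ := by
      intro g; simp [MulAut.conj_apply]
    refine ⟨Subgroup.map_subtype_le _, ?_⟩
    intro g hgS
    have h1 : g * z * g⁻¹ ∈ (S : Subgroup G) := hgS ⟨z, hzZ, hcj g⟩
    have h2 : g * z * g⁻¹ = z := by
      have hw2 : (g * z * g⁻¹) * (g * z * g⁻¹) = 1 := by
        calc (g * z * g⁻¹) * (g * z * g⁻¹) = g * (z * z) * g⁻¹ := by group
          _ = 1 := by rw [hzz]; group
      have hw1 : g * z * g⁻¹ ≠ 1 := fun h => hz1 (conj_eq_one_iff.mp h)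
      by_contra hne
      have hwC : g * z * g⁻¹ ∉ Cg := fun h => hne (hzu _ h hw2 hw1)
      obtain ⟨h, -, hh⟩ := (htwo t₂ ht₂S u₀ hu₀S ht₂C hu₀C ht₂sq hu₀sq _ h1 hwC).1 hw2
      apply hnofus
      refine ⟨g⁻¹ * h, ?_⟩
      calc g⁻¹ * h * t₂ * (g⁻¹ * h)⁻¹ = g⁻¹ * (h * t₂ * h⁻¹) * g := by group
        _ = g⁻¹ * (g * z * g⁻¹) * g := by rw [hh]
        _ = z := by group
    ext y
    constructor
    · rintro ⟨c, hc, rfl⟩
      rcases (hZ c).mp hc with h | h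
      · rw [h, map_one]; exact Subgroup.one_mem _
      · rw [h, hcj, h2]; exact hzZ
    · intro hy
      rcases (hZ y).mp hy with h | h
      · rw [h]; exact Subgroup.one_mem _
      · rw [h]
        exact ⟨z, hzZ, by rw [hcj, h2]⟩
  -- the transfer kernel
  have hord1 : ∀ y ∈ (S : Subgroup G), y ∉ Cg → 2 ^ (1 - 1) < orderOf y := by
    intro y hy hyC
    have hy1 : y ≠ 1 := fun h => hyC (h ▸ Cg.one_mem)
    have h1 : orderOf y ≠ 1 := fun h => hy1 (orderOf_eq_one_iff.mp h)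
    have h2 := orderOf_pos y
    simp only [Nat.sub_self, pow_zero]
    omega
  have hcon₂ : ∀ g : G, g * t₂ * g⁻¹ ∉ Cg := by
    intro g hgC
    apply hnofus
    refine ⟨g, hzu _ hgC ?_ ?_⟩
    · calc (g * t₂ * g⁻¹) * (g * t₂ * g⁻¹) = g * (t₂ * t₂) * g⁻¹ := by group
        _ = 1 := by rw [ht₂sq]; group
    · exact fun h => ht₂1 (conj_eq_one_iff.mp h)
  obtain ⟨K, hKn, hKi, ht₂K⟩ :=
    thompson_transfer_ker S Cg hrel 1 hord1 t₂ (by rw [ht₂o, pow_one]) hcon₂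
  haveI := hKn
  have hK2 : ∀ a b : G, a * b ∈ K ↔ (a ∈ K ↔ b ∈ K) :=
    fun a b => Subgroup.mul_mem_iff_of_index_two hKi
  have hKsq : ∀ g : G, g * g ∈ K := fun g => Subgroup.mul_self_mem_of_index_two hKi g
  have hIK : ∀ v ∈ (S : Subgroup G), v ∉ Cg → v * v = 1 → v ∉ K := by
    intro v hvS hvC hv2 hvK
    obtain ⟨h, -, hh⟩ := (htwo t₂ ht₂S u₀ hu₀S ht₂C hu₀C ht₂sq hu₀sq v hvS hvC).1 hv2
    apply ht₂K
    have e : t₂ = h⁻¹ * v * h⁻¹⁻¹ := by rw [← hh]; group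
    rw [e]; exact hKn.conj_mem v hvK h⁻¹
  have hc₄K : c₄ ∈ K := by rw [hc₄d]; exact hKsq d
  have h4K : ∀ v, orderOf v = 4 → v ∈ K := by
    intro v hv
    obtain ⟨h1, hh1⟩ := hord4 c₄ hc₄o
    obtain ⟨h2, hh2⟩ := hord4 v hv
    have e : v = (h2 * h1⁻¹) * c₄ * (h2 * h1⁻¹)⁻¹ := by rw [← hh1, ← hh2]; group
    rw [e]; exact hKn.conj_mem c₄ hc₄K _
  have hJ4 : ∀ s ∈ (S : Subgroup G), s ∉ Cg → ¬ s * s = 1 → orderOf s = 4 := by
    intro s hs hsC hss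
    have h : s * s = z := by
      rcases hsq s hs hsC with h | h
      · exact absurd h hss
      · exact h
    have e1 : ¬ s ^ 2 ^ 1 = 1 := by rw [pow_one, pow_two, h]; exact hz1
    have e2 : s ^ 2 ^ (1 + 1) = 1 := by
      have e3 : s ^ 2 ^ (1 + 1) = (s * s) * (s * s) := by
        norm_num
        rw [show (4 : ℕ) = 2 + 2 from rfl, pow_add, pow_two]
      rw [e3, h, hzz]
    have e4 := orderOf_eq_prime_pow e1 e2
    rw [e4]; norm_num
  have hu₀K : u₀ ∈ K := h4K u₀ hu₀o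
  have hxK : x ∉ K := by
    intro hx
    have h1 : u₀ * t₂ ∈ Cg := hprod u₀ hu₀S t₂ ht₂S hu₀C ht₂C
    have h2 : u₀ * t₂ ∈ K := by
      rw [hCg] at h1
      obtain ⟨k, hk⟩ := h1
      have hk' : x ^ k = u₀ * t₂ := hk
      rw [← hk']; exact K.zpow_mem hx k
    exact ht₂K (((hK2 u₀ t₂).mp h2).mp hu₀K)
  have hxx : ∀ j : ℤ, (x * x) ^ j = x ^ (2 * j) := by
    intro j
    rw [zpow_mul, zpow_two]
  have hxxC : x * x ∈ Cg := Cg.mul_mem hxC hxC
  have hCK : ∀ c ∈ Cg, c ∈ K → c ∈ Subgroup.zpowers (x * x) := by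
    intro c hcC hcK
    rw [hCg] at hcC
    obtain ⟨k, hk⟩ := hcC
    have hk' : x ^ k = c := hk
    rcases Int.even_or_odd' k with ⟨j, hj | hj⟩
    · refine ⟨j, ?_⟩
      show (x * x) ^ j = c
      rw [hxx, ← hj, hk']
    · exfalso
      apply hxK
      have h1 : (x * x) ^ j ∈ K := K.zpow_mem (hKsq x) j
      have h2 : x = ((x * x) ^ j)⁻¹ * c := by
        rw [← hk', hj, zpow_add_one, ← hxx]; group
      rw [h2]; exact K.mul_mem (K.inv_mem h1) hcK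
  have hzx : x ^ 2 ^ (n - 1) = z := by
    apply hzu
    · exact Cg.pow_mem hxC _
    · rw [← pow_add, ← two_mul, ← pow_succ']
      have e : n - 1 + 1 = n := by omega
      rw [e, ← hxo]; exact pow_orderOf_eq_one x
    · intro h
      have h1 := orderOf_dvd_of_pow_eq_one h
      rw [hxo] at h1
      have h2 := Nat.le_of_dvd (by positivity) h1
      have h3 : 2 ^ (n - 1) < 2 ^ n := Nat.pow_lt_pow_right (by norm_num) (by omega)
      omega
  have hu₀z : u₀ * u₀ = z := by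
    rcases hsq u₀ hu₀S hu₀C with h | h
    · exact absurd h hu₀sq
    · exact h
  -- u₀ * (x * x) facts
  have hux1 : u₀ * (x * x) ∈ (S : Subgroup G) :=
    (S : Subgroup G).mul_mem hu₀S ((S : Subgroup G).mul_mem hxS hxS)
  have hux2 : u₀ * (x * x) ∉ Cg := fun h => hu₀C (by
    have h1 := Cg.mul_mem h (Cg.inv_mem hxxC)
    have e : u₀ * (x * x) * (x * x)⁻¹ = u₀ := by group
    rwa [e] at h1)
  have hux3 : u₀ * (x * x) ∈ K := K.mul_mem hu₀K (hKsq x)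
  have hux4 : (u₀ * (x * x)) * (u₀ * (x * x)) = z := by
    rcases hsq _ hux1 hux2 with h | h
    · exact absurd hux3 (hIK _ hux1 hux2 h)
    · exact h
  have hux5 : orderOf (u₀ * (x * x)) = 4 :=
    hJ4 _ hux1 hux2 (by rw [hux4]; exact hz1)
  have hconjx : u₀ * (x * x) * u₀⁻¹ = (x * x)⁻¹ := by
    have h6 : (x * x) * u₀ * (x * x) = u₀ := by
      have h7 : u₀ * ((x * x) * u₀ * (x * x)) = u₀ * u₀ := by rw [hu₀z, ← hux4]; group
      exact mul_left_cancel h7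
    calc u₀ * (x * x) * u₀⁻¹ = (x * x)⁻¹ * ((x * x) * u₀ * (x * x)) * u₀⁻¹ := by group
      _ = (x * x)⁻¹ := by rw [h6]; group
  -- cardinalities
  have hrelK : K.relIndex (S : Subgroup G) = 2 := by
    have h1 : K.relIndex (S : Subgroup G) ∣ K.index := Subgroup.relIndex_dvd_index_of_normal K _
    rw [hKi] at h1
    rcases (Nat.dvd_prime Nat.prime_two).mp h1 with h2 | h2
    · exfalso
      rw [Subgroup.relIndex_eq_one] at h2
      exact ht₂K (h2 ht₂S)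
    · exact h2
  have hP₀card : Nat.card ↥(K ⊓ (S : Subgroup G)) = 2 ^ n := by
    have h1 := Subgroup.card_mul_index (K.subgroupOf (S : Subgroup G))
    have h2 : Nat.card (K.subgroupOf (S : Subgroup G)) = Nat.card ↥(K ⊓ (S : Subgroup G)) := by
      rw [← Subgroup.inf_subgroupOf_right]
      exact Nat.card_congr (Subgroup.subgroupOfEquivOfLe inf_le_right).toEquiv
    have h3 : (K.subgroupOf (S : Subgroup G)).index = 2 := hrelK
    rw [h2, h3, hcard, pow_succ] at h1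
    omega
  have hquat : Nonempty (↥(K ⊓ (S : Subgroup G)) ≃* QuaternionGroup (2 ^ (n - 2))) := by
    have hxxP : x * x ∈ K ⊓ (S : Subgroup G) := ⟨hKsq x, (S : Subgroup G).mul_mem hxS hxS⟩
    have hu₀P : u₀ ∈ K ⊓ (S : Subgroup G) := ⟨hu₀K, hu₀S⟩
    obtain ⟨k, rfl⟩ : ∃ k, n = k + 3 := ⟨n - 3, by omega⟩
    have ek : k + 3 - 2 = k + 1 := by omega
    have ek1 : k + 3 - 1 = k + 2 := by omega
    rw [ek]
    rw [ek1] at hzx
    apply nonempty_mulEquiv_quaternion (2 ^ (k + 1))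
      (⟨x * x, hxxP⟩ : ↥(K ⊓ (S : Subgroup G))) ⟨u₀, hu₀P⟩
    · rw [← Subgroup.orderOf_coe]
      show orderOf (x * x) = _
      rw [← pow_two, orderOf_pow_of_dvd (by norm_num)
        (by rw [hxo]; exact dvd_pow_self 2 (by omega)), hxo]
      have e : 2 ^ (k + 3) = 2 * (2 * 2 ^ (k + 1)) := by ring
      rw [e, Nat.mul_div_cancel_left _ (by norm_num)]
    · apply Subtype.ext
      rw [Subgroup.coe_pow, Subgroup.coe_pow]
      show u₀ ^ 2 = (x * x) ^ 2 ^ (k + 1)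
      rw [pow_two, hu₀z, ← pow_two, ← pow_mul, ← pow_succ', hzx]
    · apply Subtype.ext
      simp only [Subgroup.coe_mul, Subgroup.coe_inv]
      exact hconjx
    · rintro ⟨j, hj⟩
      apply hu₀C
      have h1 := congrArg Subtype.val hj
      simp only [Subgroup.coe_zpow] at h1
      rw [← h1]
      exact Cg.zpow_mem hxxC j
    · rw [hP₀card]; ring
  have hKcard : Nat.card ↥K * 2 = Nat.card G := by rw [← hKi]; exact Subgroup.card_mul_index K
  have hfacG : (Nat.card G).factorization 2 = n + 1 := by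
    have h1 := Sylow.card_eq_multiplicity S
    rw [hcard] at h1
    exact (Nat.pow_right_injective (le_refl 2) h1).symm
  have hfacK : (Nat.card ↥K).factorization 2 = n := by
    have h1 : (Nat.card ↥K * 2).factorization 2 = (Nat.card ↥K).factorization 2 + 1 := by
      rw [Nat.factorization_mul (Nat.card_pos.ne') (by norm_num)]
      simp [Nat.Prime.factorization_self Nat.prime_two]
    rw [hKcard, hfacG] at h1
    omega
  have hP₁card : Nat.card ((K ⊓ (S : Subgroup G)).subgroupOf K) =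
      2 ^ (Nat.card ↥K).factorization 2 := by
    rw [hfacK, ← hP₀card]
    exact Nat.card_congr (Subgroup.subgroupOfEquivOfLe inf_le_left).toEquiv
  obtain ⟨P₁, hP₁⟩ : ∃ P₁ : Sylow 2 ↥K,
      (P₁ : Subgroup ↥K) = (K ⊓ (S : Subgroup G)).subgroupOf K :=
    ⟨Sylow.ofCard _ hP₁card, Sylow.coe_ofCard _ _⟩
  have hA1 : ∀ P : Sylow 2 ↥K, ∃ m : ℕ, 1 ≤ m ∧
      Nonempty ((P : Subgroup ↥K) ≃* QuaternionGroup (2 ^ m)) := by
    intro P
    obtain ⟨e₁⟩ := hquat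
    refine ⟨n - 2, by omega, ⟨?_⟩⟩
    exact (Sylow.equiv P P₁).trans ((MulEquiv.subgroupCongr hP₁).trans
      ((Subgroup.subgroupOfEquivOfLe inf_le_left).trans e₁))
  have hA2 : ∀ H : Subgroup ↥K, H.index ≠ 2 := by
    intro H hH
    haveI hHn : H.Normal := Subgroup.normal_of_index_eq_two hH
    have hc₄S : c₄ ∈ (S : Subgroup G) := hCgS hc₄C
    have hcu1 : c₄ * u₀ ∈ (S : Subgroup G) := (S : Subgroup G).mul_mem hc₄S hu₀S
    have hcu2 : c₄ * u₀ ∉ Cg := fun h => hu₀C (by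
      have h1 := Cg.mul_mem (Cg.inv_mem hc₄C) h
      simpa using h1)
    have hcu3 : c₄ * u₀ ∈ K := K.mul_mem hc₄K hu₀K
    have hcu4 : orderOf (c₄ * u₀) = 4 :=
      hJ4 _ hcu1 hcu2 (fun h => hIK _ hcu1 hcu2 h hcu3)
    have hex : ∃ w : G, ∃ hw : w ∈ K, orderOf w = 4 ∧ (⟨w, hw⟩ : ↥K) ∈ H := by
      by_cases h1 : (⟨c₄, hc₄K⟩ : ↥K) ∈ H
      · exact ⟨c₄, hc₄K, hc₄o, h1⟩
      by_cases h2 : (⟨u₀, hu₀K⟩ : ↥K) ∈ H
      · exact ⟨u₀, hu₀K, hu₀o, h2⟩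
      · have h3 : (⟨c₄, hc₄K⟩ : ↥K) * ⟨u₀, hu₀K⟩ ∈ H :=
          (Subgroup.mul_mem_iff_of_index_two hH).2 (iff_of_false h1 h2)
        exact ⟨c₄ * u₀, hcu3, hcu4, h3⟩
    obtain ⟨w, hwK, hwo, hwH⟩ := hex
    have hxc : x * c₄ * x⁻¹ = c₄ := by
      have h1 := hc₄C
      rw [hCg] at h1
      obtain ⟨k, hk⟩ := h1
      have hk' : x ^ k = c₄ := hk
      rw [← hk']; group
    have hconjK : ∀ v (hv : v ∈ K), orderOf v = 4 →
        ∃ k : ↥K, k * ⟨c₄, hc₄K⟩ * k⁻¹ = ⟨v, hv⟩ := by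
      intro v hv hvo
      obtain ⟨h1, hh1⟩ := hord4 c₄ hc₄o
      obtain ⟨h2, hh2⟩ := hord4 v hvo
      have hg : (h2 * h1⁻¹) * c₄ * (h2 * h1⁻¹)⁻¹ = v := by rw [← hh1, ← hh2]; group
      by_cases hgK : h2 * h1⁻¹ ∈ K
      · exact ⟨⟨_, hgK⟩, Subtype.ext hg⟩
      · have hgx : h2 * h1⁻¹ * x ∈ K := (hK2 _ _).2 (iff_of_false hgK hxK)
        refine ⟨⟨_, hgx⟩, Subtype.ext ?_⟩
        show (h2 * h1⁻¹ * x) * c₄ * (h2 * h1⁻¹ * x)⁻¹ = v
        calc (h2 * h1⁻¹ * x) * c₄ * (h2 * h1⁻¹ * x)⁻¹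
            = (h2 * h1⁻¹) * (x * c₄ * x⁻¹) * (h2 * h1⁻¹)⁻¹ := by group
          _ = v := by rw [hxc, hg]
    have hc₄H : (⟨c₄, hc₄K⟩ : ↥K) ∈ H := by
      obtain ⟨k, hk⟩ := hconjK w hwK hwo
      have e : (⟨c₄, hc₄K⟩ : ↥K) = k⁻¹ * ⟨w, hwK⟩ * k⁻¹⁻¹ := by rw [← hk]; group
      rw [e]; exact hHn.conj_mem _ hwH _
    have h4H : ∀ v (hv : v ∈ K), orderOf v = 4 → (⟨v, hv⟩ : ↥K) ∈ H := by
      intro v hv hvo
      obtain ⟨k, hk⟩ := hconjK v hv hvo
      rw [← hk]; exact hHn.conj_mem _ hc₄H _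
    have hxxH : (⟨x * x, hKsq x⟩ : ↥K) ∈ H := by
      have h1 := h4H u₀ hu₀K hu₀o
      have h2 := h4H (u₀ * (x * x)) hux3 hux5
      have e : (⟨x * x, hKsq x⟩ : ↥K) = (⟨u₀, hu₀K⟩ : ↥K)⁻¹ * ⟨u₀ * (x * x), hux3⟩ := by
        apply Subtype.ext
        simp
      rw [e]; exact H.mul_mem (H.inv_mem h1) h2
    have hP₁H : (P₁ : Subgroup ↥K) ≤ H := by
      rw [hP₁]
      rintro ⟨w', hw'K⟩ hw'
      rw [Subgroup.mem_subgroupOf] at hw'
      have hw'S : w' ∈ (S : Subgroup G) := hw'.2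
      by_cases hw'C : w' ∈ Cg
      · obtain ⟨j, hj⟩ := hCK w' hw'C hw'K
        have hj' : (x * x) ^ j = w' := hj
        have e : (⟨w', hw'K⟩ : ↥K) = (⟨x * x, hKsq x⟩ : ↥K) ^ j := by
          apply Subtype.ext
          rw [Subgroup.coe_zpow]
          exact hj'.symm
        rw [e]; exact H.zpow_mem hxxH j
      · apply h4H
        apply hJ4 w' hw'S hw'C
        intro h
        exact hIK w' hw'S hw'C h hw'K
    have h1 := Subgroup.card_dvd_of_le hP₁H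
    have h2 := Subgroup.card_mul_index H
    rw [hH] at h2
    have h3 : Nat.card (P₁ : Subgroup ↥K) = 2 ^ n := by
      rw [hP₁, hP₁card, hfacK]
    rw [h3] at h1
    have h4 : 2 ^ (n + 1) ∣ Nat.card ↥K := by
      rw [← h2, pow_succ]
      exact Nat.mul_dvd_mul_right h1 2
    have h5 := Nat.pow_succ_factorization_not_dvd (Nat.card_pos (α := ↥K)).ne' Nat.prime_two
    rw [hfacK] at h5
    exact h5 h4
  exact ⟨⟨K, hKn, hKi, hA1, hA2⟩, hB, hC, conj_classes_one 4 u₀ hu₀o hord4⟩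


/-- Let G be a finite group with quasi-dihedral Sylow 2-subgroup S, T a Klein four-subgroup and Q a quaternion subgroup of order 8 of S, with |N_G(T) : C_G(T)| = 2 and |N_G(Q) : Q C_G(Q)| = 6. Then G has a normal subgroup K of index 2 whose Sylow 2-subgroups are generalized quaternion and which has no subgroup of index 2; the centre of S is weakly closed in S; and G has exactly two classes of involutions and one class of elements of order 4. -/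
theorem result {G : Type*} [Group G] [Finite G] (S : Sylow 2 G) (hS : Cfsg.IsQuasiDihedral (S : Subgroup G)) (T : Subgroup G) (hT : IsKleinFour T) (hTS : T ≤ S) (Q : Subgroup G) (hQS : Q ≤ S) (eQ : Q ≃* QuaternionGroup 2) (h₁ : (Subgroup.centralizer (T : Set G)).relIndex (Subgroup.normalizer (T : Set G)) = 2) (h₂ : (Q ⊔ Subgroup.centralizer (Q : Set G)).relIndex (Subgroup.normalizer (Q : Set G)) = 6) : (∃ K : Subgroup G, K.Normal ∧ K.index = 2 ∧ (∀ P : Sylow 2 ↥K, ∃ m : ℕ, 1 ≤ m ∧ Nonempty ((P : Subgroup ↥K) ≃* QuaternionGroup (2 ^ m))) ∧ (∀ H : Subgroup ↥K, H.index ≠ 2)) ∧ Cfsg.IsWeaklyClosed ((Subgroup.center (S : Subgroup G)).map (S : Subgroup G).subtype) (S : Subgroup G) ∧ Nat.card {C : ConjClasses G // ∃ t : G, orderOf t = 2 ∧ ConjClasses.mk t = C} = 2 ∧ Nat.card {C : ConjClasses G // ∃ t : G, orderOf t = 4 ∧ ConjClasses.mk t = C} = 1 := by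
  exact main1205 S hS T hT hTS Q hQS eQ h₁ h₂

end Cfsg.Agent.S1205
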