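import Cfsg.Statements.S0223
import Mathlib
import Cfsg.Agent.Lib.Helper1.StrongEmb

set_option autoImplicit false
open Cfsg

namespace Cfsg.Agent.S0223

open Cfsg.Agent.Lib.Helper1

/-- Let H be a proper subgroup of even order of the finite group G. Then H is strongly embedded if and only if (i) C_G(t) ≤ H for every involution t of H and (ii) H controls fusion of its involutions: involutions of H conjugate in G are conjugate in H. -/
theorem result {G : Type*} [Group G] [Finite G] (H : Subgroup G) (hH : H ≠ ⊤) (heven : Even (Nat.card H)) : Cfsg.IsStronglyEmbedded H ↔ ((∀ t ∈ H, orderOf t = 2 → Subgroup.centralizer ({t} : Set G) ≤ H) ∧ (∀ t ∈ H, ∀ s ∈ H, orderOf t = 2 → orderOf s = 2 → IsConj t s → ∃ h ∈ H, h * t * h⁻¹ = s)) := by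
  constructor
  · rintro ⟨-, -, hSE⟩
    constructor
    · intro t htH ht c hc
      by_contra hcH
      have hodd := hSE c hcH
      have hmem : t ∈ H ⊓ H.map (MulAut.conj c).toMonoidHom := by
        refine Subgroup.mem_inf.2 ⟨htH, ?_⟩
        rw [mem_map_conj_iff]
        have hc' := Subgroup.mem_centralizer_singleton_iff.1 hc
        have e : c⁻¹ * t * c = t := by
          calc c⁻¹ * t * c = c⁻¹ * (t * c) := by group
            _ = c⁻¹ * (c * t) := by rw [hc']
            _ = t := by group
        rw [e]; exact htH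
      exact not_odd_card_of_invol_mem hmem ht hodd
    · intro t htH s hsH ht hs hconj
      obtain ⟨g, hg⟩ := isConj_iff.1 hconj
      refine ⟨g, ?_, hg⟩
      by_contra hgH
      have hodd := hSE g hgH
      have hmem : s ∈ H ⊓ H.map (MulAut.conj g).toMonoidHom := by
        refine Subgroup.mem_inf.2 ⟨hsH, ?_⟩
        rw [mem_map_conj_iff, ← hg]
        have e : g⁻¹ * (g * t * g⁻¹) * g = t := by group
        rw [e]; exact htH
      exact not_odd_card_of_invol_mem hmem hs hodd
  · rintro ⟨hC, hF⟩
    refine ⟨hH, heven, ?_⟩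
    intro g hgH
    by_contra hnodd
    have hev : Even (Nat.card ↥(H ⊓ H.map (MulAut.conj g).toMonoidHom)) :=
      Nat.not_odd_iff_even.1 hnodd
    obtain ⟨t, htmem, ht⟩ := exists_invol_of_even_card _ hev
    obtain ⟨htH, htg⟩ := Subgroup.mem_inf.1 htmem
    rw [mem_map_conj_iff] at htg
    have ht' : orderOf (g⁻¹ * t * g) = 2 := by
      have := orderOf_conj g⁻¹ t
      rw [inv_inv] at this
      rw [this]; exact ht
    have hconj : IsConj (g⁻¹ * t * g) t := by
      rw [isConj_iff]
      exact ⟨g, by group⟩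
    obtain ⟨h, hhH, hh⟩ := hF _ htg t htH ht' ht hconj
    have hcent : h * g⁻¹ ∈ Subgroup.centralizer ({t} : Set G) := by
      rw [Subgroup.mem_centralizer_singleton_iff]
      calc h * g⁻¹ * t = (h * (g⁻¹ * t * g) * h⁻¹) * (h * g⁻¹) := by group
        _ = t * (h * g⁻¹) := by rw [hh]
    have := hC t htH ht hcent
    apply hgH
    have e : g = (h * g⁻¹)⁻¹ * h := by group
    rw [e]
    exact Subgroup.mul_mem _ (Subgroup.inv_mem _ this) hhH

end Cfsg.Agent.S0223
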