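import Cfsg.Statements.S1922
import Mathlib
import Cfsg.Agent.S1875

set_option autoImplicit false
open Cfsg

namespace Cfsg.Agent.S1922

/-! ### parity -/

theorem even_card_of_involution {α : Type*} [DecidableEq α] (s : Finset α) (f : α → α)
    (h1 : ∀ a ∈ s, f a ∈ s) (h2 : ∀ a ∈ s, f (f a) = a) (h3 : ∀ a ∈ s, f a ≠ a) :
    Even s.card := by
  rw [← ZMod.natCast_eq_zero_iff_even, Finset.card_eq_sum_ones, Nat.cast_sum]
  apply Finset.sum_involution (fun a _ => f a)
  · intro a _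
    simp only [Nat.cast_one]
    exact CharTwo.add_self_eq_zero (1 : ZMod 2)
  · intro a ha _
    exact h3 a ha
  · intro a ha
    exact h1 a ha
  · intro a ha
    exact h2 a ha

theorem odd_card_of_involution {α : Type*} [DecidableEq α] (s : Finset α) (f : α → α) (z : α)
    (hz : z ∈ s) (h1 : ∀ a ∈ s, f a ∈ s) (h2 : ∀ a ∈ s, f (f a) = a)
    (h3 : ∀ a ∈ s, f a = a → a = z) (h4 : f z = z) : Odd s.card := by
  have h5 : Even (s.erase z).card := by
    apply even_card_of_involution (s.erase z) f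
    · intro a ha
      rw [Finset.mem_erase] at ha ⊢
      refine ⟨?_, h1 a ha.2⟩
      intro h
      apply ha.1
      have := h2 a ha.2
      rw [h, h4] at this
      exact this.symm
    · intro a ha
      exact h2 a (Finset.mem_of_mem_erase ha)
    · intro a ha h
      rw [Finset.mem_erase] at ha
      exact ha.1 (h3 a ha.2 h)
  rw [Finset.card_erase_of_mem hz] at h5
  have hpos : 0 < s.card := Finset.card_pos.2 ⟨z, hz⟩
  obtain ⟨k, hk⟩ := h5
  exact ⟨k, by omega⟩

/-! ### dihedral algebra -/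

variable {G : Type*} [Group G]

theorem inv_eq_self_of_sq (a : G) (ha : a ^ 2 = 1) : a⁻¹ = a := by
  rw [pow_two] at ha
  exact inv_eq_of_mul_eq_one_right ha

/-- `a` inverts `a * b` -/
theorem conj_mul_left (a b : G) (ha : a ^ 2 = 1) (hb : b ^ 2 = 1) :
    a * (a * b) * a⁻¹ = (a * b)⁻¹ := by
  rw [mul_inv_rev, inv_eq_self_of_sq a ha, inv_eq_self_of_sq b hb, ← mul_assoc, ← pow_two, ha,
    one_mul]

theorem conj_mul_right (a b : G) (ha : a ^ 2 = 1) (hb : b ^ 2 = 1) :
    b * (a * b) * b⁻¹ = (a * b)⁻¹ := by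
  rw [mul_inv_rev, inv_eq_self_of_sq a ha, inv_eq_self_of_sq b hb, mul_assoc, mul_assoc,
    ← pow_two b, hb, mul_one]

/-- `a * r ^ i = r ^ (-i) * a` in the form `r ^ i * a * r ^ (-i) = r ^ (2 i) * a` -/
theorem pow_conj_left (a b : G) (ha : a ^ 2 = 1) (hb : b ^ 2 = 1) (i : ℕ) :
    (a * b) ^ i * a * ((a * b) ^ i)⁻¹ = (a * b) ^ (2 * i) * a := by
  have h1 : a * (a * b) ^ i * a⁻¹ = ((a * b) ^ i)⁻¹ := by
    rw [← conj_pow, conj_mul_left a b ha hb, inv_pow]
  have hai := inv_eq_self_of_sq a ha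
  rw [← h1, hai, two_mul, pow_add]
  have : (a * b) ^ i * a * (a * (a * b) ^ i * a) = (a * b) ^ i * (a * a) * (a * b) ^ i * a := by
    group
  rw [this, ← pow_two, ha, mul_one]

theorem pow_conj_right (a b : G) (ha : a ^ 2 = 1) (hb : b ^ 2 = 1) (i : ℕ) :
    (a * b) ^ i * b * ((a * b) ^ i)⁻¹ = (a * b) ^ (2 * i) * b := by
  have h1 : b * (a * b) ^ i * b⁻¹ = ((a * b) ^ i)⁻¹ := by
    rw [← conj_pow, conj_mul_right a b ha hb, inv_pow]
  have hbi := inv_eq_self_of_sq b hb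
  rw [← h1, hbi, two_mul, pow_add]
  have : (a * b) ^ i * b * (b * (a * b) ^ i * b) = (a * b) ^ i * (b * b) * (a * b) ^ i * b := by
    group
  rw [this, ← pow_two, hb, mul_one]

/-- odd order: the reflection swapping `a` and `b` -/
theorem mid_conj (a b : G) (ha : a ^ 2 = 1) (hb : b ^ 2 = 1) (k : ℕ)
    (hk : (a * b) ^ (2 * k + 1) = 1) :
    ((a * b) ^ k * a) * a * ((a * b) ^ k * a)⁻¹ = b := by
  have hai := inv_eq_self_of_sq a ha
  have hbi := inv_eq_self_of_sq b hb
  have h1 : ((a * b) ^ k * a) * a * ((a * b) ^ k * a)⁻¹ =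
      (a * b) ^ k * a * ((a * b) ^ k)⁻¹ := by
    rw [mul_inv_rev, hai]
    have : (a * b) ^ k * a * a * (a * ((a * b) ^ k)⁻¹) =
        (a * b) ^ k * (a * a) * a * ((a * b) ^ k)⁻¹ := by group
    rw [this, ← pow_two, ha, mul_one]
  rw [h1, pow_conj_left a b ha hb]
  have h5 : (a * b) ^ (2 * k) = (a * b)⁻¹ := by
    rw [eq_inv_iff_mul_eq_one, ← pow_succ]; exact hk
  rw [h5, mul_inv_rev, hai, hbi, mul_assoc, ← pow_two, ha, mul_one]

theorem mid_isConj (a b : G) (ha : a ^ 2 = 1) (hb : b ^ 2 = 1) (k : ℕ)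
    (hk : (a * b) ^ (2 * k + 1) = 1) : IsConj a ((a * b) ^ k * a) := by
  rw [isConj_iff]
  refine ⟨(a * b) ^ (k * (k + 1)), ?_⟩
  rw [pow_conj_left a b ha hb]
  congr 1
  have : 2 * (k * (k + 1)) = (2 * k + 1) * k + k := by ring
  rw [this, pow_add, pow_mul, hk, one_pow, one_mul]

/-- the reflection `s` is recovered from `a` and `s a s` -/
theorem mid_unique (a s : G) (ha : a ^ 2 = 1) (hs : s ^ 2 = 1) (k : ℕ)
    (hk : (a * s) ^ (2 * k + 1) = 1) : (a * (s * a * s⁻¹)) ^ k * a = s := by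
  have hai := inv_eq_self_of_sq a ha
  have hsi := inv_eq_self_of_sq s hs
  have h1 : a * (s * a * s⁻¹) = (a * s) ^ 2 := by
    rw [hsi, pow_two]; group
  rw [h1, ← pow_mul]
  have h5 : (a * s) ^ (2 * k) = (a * s)⁻¹ := by
    rw [eq_inv_iff_mul_eq_one, ← pow_succ]; exact hk
  rw [h5, mul_inv_rev, hai, hsi, mul_assoc, ← pow_two, ha, mul_one]

theorem central_comm_left (a b : G) (ha : a ^ 2 = 1) (hb : b ^ 2 = 1) (k : ℕ)
    (hk : (a * b) ^ (2 * k) = 1) : a * (a * b) ^ k = (a * b) ^ k * a := by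
  have hinv : ((a * b) ^ k)⁻¹ = (a * b) ^ k := by
    rw [inv_eq_iff_mul_eq_one, ← pow_add, ← two_mul]; exact hk
  have h1 : a * (a * b) ^ k * a⁻¹ = ((a * b) ^ k)⁻¹ := by
    rw [← conj_pow, conj_mul_left a b ha hb, inv_pow]
  rw [hinv] at h1
  calc a * (a * b) ^ k = (a * (a * b) ^ k * a⁻¹) * a := by group
    _ = (a * b) ^ k * a := by rw [h1]

theorem central_comm_right (a b : G) (ha : a ^ 2 = 1) (hb : b ^ 2 = 1) (k : ℕ)
    (hk : (a * b) ^ (2 * k) = 1) : b * (a * b) ^ k = (a * b) ^ k * b := by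
  have hinv : ((a * b) ^ k)⁻¹ = (a * b) ^ k := by
    rw [inv_eq_iff_mul_eq_one, ← pow_add, ← two_mul]; exact hk
  have h1 : b * (a * b) ^ k * b⁻¹ = ((a * b) ^ k)⁻¹ := by
    rw [← conj_pow, conj_mul_right a b ha hb, inv_pow]
  rw [hinv] at h1
  calc b * (a * b) ^ k = (b * (a * b) ^ k * b⁻¹) * b := by group
    _ = (a * b) ^ k * b := by rw [h1]

/-- even order: the central involution times `a` is a reflection -/
theorem central_mul_isConj (a b : G) (ha : a ^ 2 = 1) (hb : b ^ 2 = 1) (k : ℕ)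
    (hk : (a * b) ^ (2 * k) = 1) :
    IsConj a (a * (a * b) ^ k) ∨ IsConj b (a * (a * b) ^ k) := by
  have hai := inv_eq_self_of_sq a ha
  have hbi := inv_eq_self_of_sq b hb
  -- a * r ^ k = r ^ k * a
  have hinv : ((a * b) ^ k)⁻¹ = (a * b) ^ k := by
    rw [inv_eq_iff_mul_eq_one, ← pow_add, ← two_mul]; exact hk
  have hcomm : a * (a * b) ^ k = (a * b) ^ k * a := by
    have h1 : a * (a * b) ^ k * a⁻¹ = ((a * b) ^ k)⁻¹ := by
      rw [← conj_pow, conj_mul_left a b ha hb, inv_pow]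
    rw [hinv] at h1
    calc a * (a * b) ^ k = (a * (a * b) ^ k * a⁻¹) * a := by group
      _ = (a * b) ^ k * a := by rw [h1]
  rcases Nat.even_or_odd k with ⟨j, hj⟩ | ⟨j, hj⟩
  · left
    rw [isConj_iff]
    refine ⟨(a * b) ^ j, ?_⟩
    rw [pow_conj_left a b ha hb, hcomm, hj, two_mul]
  · right
    rw [isConj_iff]
    refine ⟨(a * b) ^ (j + 1), ?_⟩
    rw [pow_conj_right a b ha hb, hcomm]
    have : 2 * (j + 1) = k + 1 := by omega
    rw [this, pow_succ, mul_assoc, mul_assoc, ← pow_two, hb, mul_one]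

/-! ### unique fixed points -/

section fx

variable (H : Subgroup G) (z : G)

/-- `a` fixes the coset `g H` -/
def Fx (a g : G) : Prop := g⁻¹ * a * g ∈ H

theorem mem_map_conj_iff (a g : G) : a ∈ H.map (MulAut.conj g).toMonoidHom ↔ Fx H a g := by
  constructor
  · rintro ⟨h, hh, rfl⟩
    show g⁻¹ * (g * h * g⁻¹) * g ∈ H
    have : g⁻¹ * (g * h * g⁻¹) * g = h := by group
    rw [this]; exact hh
  · intro h
    refine ⟨g⁻¹ * a * g, h, ?_⟩
    show g * (g⁻¹ * a * g) * g⁻¹ = a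
    group

theorem fx_conj (x a g : G) : Fx H (x * a * x⁻¹) g ↔ Fx H a (x⁻¹ * g) := by
  unfold Fx
  have : g⁻¹ * (x * a * x⁻¹) * g = (x⁻¹ * g)⁻¹ * a * (x⁻¹ * g) := by group
  rw [this]

/-- the standing hypotheses -/
structure Hyp : Prop where
  hz2 : z ^ 2 = 1
  hz1 : z ≠ 1
  h0 : ∀ g : G, Fx H z g ↔ g ∈ H

variable {H z}

theorem Hyp.z_mem (h : Hyp H z) : z ∈ H := by
  have := (h.h0 1).2 H.one_mem
  unfold Fx at this
  simpa using this

theorem Hyp.cent_le (h : Hyp H z) (c : G) (hc : c * z = z * c) : c ∈ H := by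
  apply (h.h0 c).1
  unfold Fx
  have : c⁻¹ * z * c = z := by rw [mul_assoc, ← hc]; group
  rw [this]; exact h.z_mem

theorem Hyp.fx_z_conj (h : Hyp H z) (x g : G) : Fx H (x * z * x⁻¹) g ↔ x⁻¹ * g ∈ H :=
  (fx_conj H x z g).trans (h.h0 _)

theorem conj_sq (x : G) (hz2 : z ^ 2 = 1) : (x * z * x⁻¹) ^ 2 = 1 := by
  rw [conj_pow, hz2, mul_one, mul_inv_cancel]

/-- hypothesis (1), transported to a conjugate of `z` -/
theorem Hyp.h1' (_h : Hyp H z)
    (h1 : ∀ t : G, IsConj z t → t ≠ z → t * z = z * t → ∀ g : G, Fx H (z * t) g ↔ g ∈ H)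
    (x b : G) (hb : IsConj z b) (hne : b ≠ x * z * x⁻¹)
    (hcomm : b * (x * z * x⁻¹) = (x * z * x⁻¹) * b) (g : G) :
    Fx H ((x * z * x⁻¹) * b) g ↔ x⁻¹ * g ∈ H := by
  have ht : IsConj z (x⁻¹ * b * x) := by
    refine hb.trans (isConj_iff.2 ⟨x⁻¹, ?_⟩)
    rw [inv_inv]
  have hne' : x⁻¹ * b * x ≠ z := by
    intro h2
    apply hne
    rw [← h2]; group
  have hc' : x⁻¹ * b * x * z = z * (x⁻¹ * b * x) := by
    have e1 : x⁻¹ * b * x * z = x⁻¹ * (b * (x * z * x⁻¹)) * x := by group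
    have e2 : z * (x⁻¹ * b * x) = x⁻¹ * ((x * z * x⁻¹) * b) * x := by group
    rw [e1, e2, hcomm]
  have h3 := h1 _ ht hne' hc' (x⁻¹ * g)
  have e : (x * z * x⁻¹) * b = x * (z * (x⁻¹ * b * x)) * x⁻¹ := by group
  rw [e, fx_conj]
  exact h3

/-- conjugates of `z` with different fixed points have a product of odd order -/
theorem Hyp.odd_order [Finite G] (h : Hyp H z)
    (h1 : ∀ t : G, IsConj z t → t ≠ z → t * z = z * t → ∀ g : G, Fx H (z * t) g ↔ g ∈ H)
    (x y : G) (hxy : x⁻¹ * y ∉ H) : Odd (orderOf ((x * z * x⁻¹) * (y * z * y⁻¹))) := by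
  by_contra hodd
  rw [Nat.not_odd_iff_even] at hodd
  obtain ⟨k, hk⟩ := hodd
  obtain ⟨a, ha⟩ : ∃ a : G, a = x * z * x⁻¹ := ⟨_, rfl⟩
  obtain ⟨b, hb⟩ : ∃ b : G, b = y * z * y⁻¹ := ⟨_, rfl⟩
  rw [← ha, ← hb] at hk
  have ha2 : a ^ 2 = 1 := by rw [ha]; exact conj_sq x h.hz2
  have hb2 : b ^ 2 = 1 := by rw [hb]; exact conj_sq y h.hz2
  have hkpos : 0 < k := by
    have := orderOf_pos (a * b); omega
  have hk2 : (a * b) ^ (2 * k) = 1 := by
    rw [two_mul, ← hk]; exact pow_orderOf_eq_one _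
  have hc1 : (a * b) ^ k ≠ 1 := pow_ne_one_of_lt_orderOf hkpos.ne' (by omega)
  have hza : IsConj z a := by rw [ha]; exact isConj_iff.2 ⟨x, rfl⟩
  have hzb : IsConj z b := by rw [hb]; exact isConj_iff.2 ⟨y, rfl⟩
  have hconj : IsConj z (a * (a * b) ^ k) := by
    rcases central_mul_isConj a b ha2 hb2 k hk2 with h2 | h2
    · exact hza.trans h2
    · exact hzb.trans h2
  have hne : a * (a * b) ^ k ≠ x * z * x⁻¹ := by
    rw [← ha]
    intro h2
    exact hc1 (mul_eq_left.1 h2)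
  have hca := central_comm_left a b ha2 hb2 k hk2
  have hcb := central_comm_right a b ha2 hb2 k hk2
  have hcomm : a * (a * b) ^ k * (x * z * x⁻¹) = (x * z * x⁻¹) * (a * (a * b) ^ k) := by
    rw [← ha, mul_assoc, ← hca]
  have h3 := h.h1' h1 x _ hconj hne hcomm y
  rw [← ha, ← mul_assoc, ← pow_two, ha2, one_mul] at h3
  apply hxy
  apply h3.1
  unfold Fx
  apply h.cent_le
  have e1 : y⁻¹ * (a * b) ^ k * y * z = y⁻¹ * ((a * b) ^ k * b) * y := by rw [hb]; group
  have e2 : z * (y⁻¹ * (a * b) ^ k * y) = y⁻¹ * (b * (a * b) ^ k) * y := by rw [hb]; group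
  rw [e1, e2, hcb]

end fx

/-! ### counting -/

section counting

open Classical

variable [Fintype G] {H : Subgroup G} {z : G}

/-- the conjugates of `z` -/
noncomputable def cls (z : G) : Finset G := Finset.univ.filter (fun a : G => IsConj z a)

theorem mem_cls (a : G) : a ∈ cls z ↔ IsConj z a := by
  unfold cls; simp

theorem cls_sq (hz2 : z ^ 2 = 1) (a : G) (ha : a ∈ cls z) : a ^ 2 = 1 := by
  obtain ⟨c, rfl⟩ := isConj_iff.1 ((mem_cls a).1 ha)
  exact conj_sq c hz2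

/-- conjugates fixing `H` correspond to conjugates fixing `y H` -/
theorem card_fix_eq (y : G) :
    ((cls z).filter (fun a => a ∈ H)).card = ((cls z).filter (fun b => Fx H b y)).card := by
  apply Finset.card_bij' (fun a _ => y * a * y⁻¹) (fun b _ => y⁻¹ * b * y)
  · intro a ha
    rw [Finset.mem_filter, mem_cls] at ha ⊢
    refine ⟨ha.1.trans (isConj_iff.2 ⟨y, rfl⟩), ?_⟩
    rw [fx_conj]
    unfold Fx
    simpa using ha.2
  · intro b hb
    rw [Finset.mem_filter, mem_cls] at hb ⊢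
    exact ⟨hb.1.trans (isConj_iff.2 ⟨y⁻¹, by rw [inv_inv]⟩), hb.2⟩
  · intro a _; group
  · intro b _; group

/-- conjugates fixing `y H` correspond to conjugates mapping `x H` to `y H` -/
theorem card_swap_eq (h : Hyp H z)
    (h1 : ∀ t : G, IsConj z t → t ≠ z → t * z = z * t → ∀ g : G, Fx H (z * t) g ↔ g ∈ H)
    (x y : G) (hxy : x⁻¹ * y ∉ H) :
    ((cls z).filter (fun s => y⁻¹ * s * x ∈ H)).card =
      ((cls z).filter (fun b => Fx H b y)).card := by
  obtain ⟨a, ha⟩ : ∃ a : G, a = x * z * x⁻¹ := ⟨_, rfl⟩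
  have ha2 : a ^ 2 = 1 := by rw [ha]; exact conj_sq x h.hz2
  have hza : IsConj z a := by rw [ha]; exact isConj_iff.2 ⟨x, rfl⟩
  -- elements of the left side have odd order product with `a`
  have hoddL : ∀ s ∈ (cls z).filter (fun s => y⁻¹ * s * x ∈ H), Odd (orderOf (a * s)) := by
    intro s hs
    rw [Finset.mem_filter, mem_cls] at hs
    obtain ⟨w, rfl⟩ := isConj_iff.1 hs.1
    rw [ha]
    apply h.odd_order h1
    intro hxw
    apply hxy
    -- x⁻¹ w ∈ H means s fixes x H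
    have h2 : x⁻¹ * (w * z * w⁻¹) * x ∈ H := by
      have := (h.fx_z_conj w x).2 (by
        have := H.inv_mem hxw
        simpa using this)
      exact this
    have h3 := H.mul_mem h2 (H.inv_mem hs.2)
    have e : x⁻¹ * (w * z * w⁻¹) * x * (y⁻¹ * (w * z * w⁻¹) * x)⁻¹ = x⁻¹ * y := by group
    rw [e] at h3
    exact h3
  have hoddR : ∀ b ∈ (cls z).filter (fun b => Fx H b y), Odd (orderOf (a * b)) := by
    intro b hb
    rw [Finset.mem_filter, mem_cls] at hb
    obtain ⟨w, rfl⟩ := isConj_iff.1 hb.1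
    rw [ha]
    apply h.odd_order h1
    intro hxw
    apply hxy
    have h2 := (h.fx_z_conj w y).1 hb.2
    have h3 := H.mul_mem hxw h2
    have e : x⁻¹ * w * (w⁻¹ * y) = x⁻¹ * y := by group
    rw [e] at h3
    exact h3
  have hpow : ∀ g : G, Odd (orderOf g) → g ^ (2 * (orderOf g / 2) + 1) = 1 := by
    intro g hg
    obtain ⟨k, hk⟩ := hg
    have : 2 * (orderOf g / 2) + 1 = orderOf g := by omega
    rw [this]; exact pow_orderOf_eq_one _
  apply Finset.card_bij' (fun s _ => s * a * s⁻¹)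
    (fun b _ => (a * b) ^ (orderOf (a * b) / 2) * a)
  · intro s hs
    rw [Finset.mem_filter, mem_cls] at hs ⊢
    refine ⟨hza.trans (isConj_iff.2 ⟨s, rfl⟩), ?_⟩
    have e : s * a * s⁻¹ = (s * x) * z * (s * x)⁻¹ := by rw [ha]; group
    rw [e, h.fx_z_conj]
    have := H.inv_mem hs.2
    have e2 : (y⁻¹ * s * x)⁻¹ = (s * x)⁻¹ * y := by group
    rw [e2] at this
    exact this
  · intro b hb
    have hodd := hoddR b hb
    rw [Finset.mem_filter, mem_cls] at hb ⊢
    have hb2 : b ^ 2 = 1 := cls_sq h.hz2 b ((mem_cls b).2 hb.1)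
    have hk := hpow _ hodd
    obtain ⟨k, hkdef⟩ : ∃ k : ℕ, k = orderOf (a * b) / 2 := ⟨_, rfl⟩
    rw [← hkdef] at hk ⊢
    refine ⟨hza.trans (mid_isConj a b ha2 hb2 k hk), ?_⟩
    have h4 := mid_conj a b ha2 hb2 k hk
    obtain ⟨s, hs⟩ : ∃ s : G, s = (a * b) ^ k * a := ⟨_, rfl⟩
    rw [← hs] at h4 ⊢
    have e : b = (s * x) * z * (s * x)⁻¹ := by rw [← h4, ha]; group
    have h5 := hb.2
    rw [e, h.fx_z_conj] at h5
    have := H.inv_mem h5
    have e2 : ((s * x)⁻¹ * y)⁻¹ = y⁻¹ * s * x := by group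
    rw [e2] at this
    exact this
  · intro s hs
    have hodd := hoddL s hs
    rw [Finset.mem_filter, mem_cls] at hs
    have hs2 : s ^ 2 = 1 := cls_sq h.hz2 s ((mem_cls s).2 hs.1)
    have hsi := inv_eq_self_of_sq s hs2
    have e1 : a * (s * a * s⁻¹) = (a * s) ^ 2 := by rw [hsi, pow_two]; group
    have hord : orderOf (a * (s * a * s⁻¹)) = orderOf (a * s) := by
      rw [e1]
      apply Nat.Coprime.orderOf_pow
      exact Nat.Coprime.symm (Nat.coprime_two_left.2 hodd)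
    show (a * (s * a * s⁻¹)) ^ (orderOf (a * (s * a * s⁻¹)) / 2) * a = s
    rw [hord]
    exact mid_unique a s ha2 hs2 _ (hpow _ hodd)
  · intro b hb
    have hodd := hoddR b hb
    rw [Finset.mem_filter, mem_cls] at hb
    have hb2 : b ^ 2 = 1 := cls_sq h.hz2 b ((mem_cls b).2 hb.1)
    exact mid_conj a b ha2 hb2 _ (hpow _ hodd)

/-- conjugates of `z` outside `H` come in pairs -/
theorem even_card_outside (h : Hyp H z) : Even ((cls z).filter (fun s => s ∉ H)).card := by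
  apply even_card_of_involution _ (fun s => z * s * z⁻¹)
  · intro s hs
    rw [Finset.mem_filter, mem_cls] at hs ⊢
    refine ⟨hs.1.trans (isConj_iff.2 ⟨z, rfl⟩), ?_⟩
    intro h2
    apply hs.2
    have := H.mul_mem (H.mul_mem (H.inv_mem h.z_mem) h2) h.z_mem
    have e : z⁻¹ * (z * s * z⁻¹) * z = s := by group
    rw [e] at this
    exact this
  · intro s _
    have hzi := inv_eq_self_of_sq z h.hz2
    show z * (z * s * z⁻¹) * z⁻¹ = s
    rw [hzi]
    have : z * (z * s * z) * z = (z * z) * s * (z * z) := by group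
    rw [this, ← pow_two, h.hz2, one_mul, mul_one]
  · intro s hs h2
    rw [Finset.mem_filter] at hs
    apply hs.2
    apply h.cent_le
    have : z * s * z⁻¹ * z = s * z := by rw [h2]
    rw [← this]; group

/-- the conjugates of `z` mapping `x H` to `z x H` are odd in number -/
theorem odd_card_swap (h : Hyp H z)
    (h1 : ∀ t : G, IsConj z t → t ≠ z → t * z = z * t → ∀ g : G, Fx H (z * t) g ↔ g ∈ H)
    (x : G) (hx : x ∉ H) :
    Odd ((cls z).filter (fun s => (z * x)⁻¹ * s * x ∈ H)).card := by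
  have hzi := inv_eq_self_of_sq z h.hz2
  apply odd_card_of_involution _ (fun s => z * s * z⁻¹) z
  · rw [Finset.mem_filter, mem_cls]
    refine ⟨IsConj.refl z, ?_⟩
    have : (z * x)⁻¹ * z * x = 1 := by group
    rw [this]; exact H.one_mem
  · intro s hs
    rw [Finset.mem_filter, mem_cls] at hs ⊢
    refine ⟨hs.1.trans (isConj_iff.2 ⟨z, rfl⟩), ?_⟩
    have hs2 : s ^ 2 = 1 := cls_sq h.hz2 s ((mem_cls s).2 hs.1)
    have hsi := inv_eq_self_of_sq s hs2
    have := H.inv_mem hs.2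
    have e : ((z * x)⁻¹ * s * x)⁻¹ = x⁻¹ * s⁻¹ * z * x := by group
    rw [e, hsi] at this
    have e2 : (z * x)⁻¹ * (z * s * z⁻¹) * x = x⁻¹ * (z⁻¹ * z) * s * z⁻¹ * x := by group
    rw [e2, inv_mul_cancel, mul_one, hzi]
    exact this
  · intro s _
    show z * (z * s * z⁻¹) * z⁻¹ = s
    rw [hzi]
    have : z * (z * s * z) * z = (z * z) * s * (z * z) := by group
    rw [this, ← pow_two, h.hz2, one_mul, mul_one]
  · intro s hs h2
    rw [Finset.mem_filter, mem_cls] at hs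
    by_contra hne
    have hcomm : s * z = z * s := by
      have : z * s * z⁻¹ * z = s * z := by rw [h2]
      rw [← this]; group
    have h3 := (h1 s hs.1 hne hcomm x).1 (by
      unfold Fx
      have e : x⁻¹ * (z * s) * x = (z * x)⁻¹ * (z * z) * s * x := by group
      rw [e, ← pow_two, h.hz2, mul_one]
      exact hs.2)
    exact hx h3
  · show z * z * z⁻¹ = z
    group

/-- the class of `z` has odd size -/
theorem odd_card_cls (h : Hyp H z)
    (h1 : ∀ t : G, IsConj z t → t ≠ z → t * z = z * t → ∀ g : G, Fx H (z * t) g ↔ g ∈ H)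
    (hH : H ≠ ⊤) : Odd (cls z).card := by
  obtain ⟨x, hx⟩ : ∃ x : G, x ∉ H := by
    by_contra hall
    push Not at hall
    exact hH (eq_top_iff.2 (fun g _ => hall g))
  have hxy : x⁻¹ * (z * x) ∉ H := by
    intro h2
    apply hx
    apply (h.h0 x).1
    unfold Fx
    rw [mul_assoc]; exact h2
  have e1 := card_fix_eq (H := H) (z := z) (z * x)
  have e2 := card_swap_eq h h1 x (z * x) hxy
  have e3 := odd_card_swap h h1 x hx
  have e4 := even_card_outside h
  have e5 := Finset.card_filter_add_card_filter_not (s := cls z) (fun a => a ∈ H)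
  rw [← e5, e1, ← e2]
  exact Odd.add_even e3 e4

end counting

/-! ### Sylow subgroups -/

section sylow

open scoped Pointwise

variable {H : Subgroup G} {z : G}

open Classical in
theorem exists_sylow_center [Fintype G] (hz2 : z ^ 2 = 1)
    (hodd : Odd (cls z).card) :
    ∃ P : Sylow 2 G, z ∈ (Subgroup.center ↥(P : Subgroup G)).map (P : Subgroup G).subtype := by
  haveI : Fact (Nat.Prime 2) := ⟨Nat.prime_two⟩
  obtain ⟨C, hC⟩ : ∃ C : Subgroup G, C = Subgroup.centralizer ({z} : Set G) := ⟨_, rfl⟩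
  have hcard : (cls z).card * Nat.card C = Nat.card G := by
    rw [hC, Nat.card_eq_fintype_card (α := G)]
    exact Cfsg.Agent.S1875.card_class z
  have hzC : z ∈ C := by rw [hC, Subgroup.mem_centralizer_singleton_iff]
  have hpz : IsPGroup 2 ↥(Subgroup.zpowers (⟨z, hzC⟩ : ↥C)) := by
    intro g
    refine ⟨1, ?_⟩
    obtain ⟨i, hi⟩ := Subgroup.mem_zpowers_iff.1 g.2
    apply Subtype.ext
    rw [Subgroup.coe_pow, ← hi, pow_one, ← zpow_natCast, ← zpow_mul, mul_comm, zpow_mul]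
    have : (⟨z, hzC⟩ : ↥C) ^ ((2 : ℕ) : ℤ) = 1 := by
      rw [zpow_natCast]
      apply Subtype.ext
      rw [Subgroup.coe_pow]; exact hz2
    rw [this, one_zpow]; rfl
  obtain ⟨Q, hQ⟩ := IsPGroup.exists_le_sylow hpz
  obtain ⟨P₀, hP₀⟩ : ∃ P₀ : Subgroup G, P₀ = (Q : Subgroup ↥C).map C.subtype := ⟨_, rfl⟩
  have hfac : (Nat.card G).factorization 2 = (Nat.card ↥C).factorization 2 := by
    rw [← hcard, Nat.factorization_mul (Finset.card_pos.2 ⟨z, (mem_cls z).2 (IsConj.refl z)⟩).ne'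
      Nat.card_pos.ne', Finsupp.add_apply,
      Nat.factorization_eq_zero_of_not_dvd (by
        intro h2
        exact (Nat.not_even_iff_odd.2 hodd) (even_iff_two_dvd.2 h2)), zero_add]
  have hcardP : Nat.card ↥P₀ = 2 ^ (Nat.card G).factorization 2 := by
    rw [hP₀, Subgroup.card_map_of_injective C.subtype_injective, hfac]
    exact Q.card_eq_multiplicity
  refine ⟨Sylow.ofCard P₀ hcardP, ?_⟩
  rw [Sylow.coe_ofCard]
  have hzP : z ∈ P₀ := by
    rw [hP₀]
    exact ⟨⟨z, hzC⟩, hQ (Subgroup.mem_zpowers _), rfl⟩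
  refine ⟨⟨z, hzP⟩, ?_, rfl⟩
  rw [SetLike.mem_coe, Subgroup.mem_center_iff]
  rintro ⟨p, hp⟩
  apply Subtype.ext
  show p * z = z * p
  rw [hP₀] at hp
  obtain ⟨q, _, rfl⟩ := hp
  have hq : (q : G) ∈ Subgroup.centralizer ({z} : Set G) := by rw [← hC]; exact q.2
  exact Subgroup.mem_centralizer_singleton_iff.1 hq

/-- (2) implies (1) -/
theorem two_imp_one [Finite G] (h : Hyp H z) (P : Sylow 2 G)
    (hzP : z ∈ (Subgroup.center ↥(P : Subgroup G)).map (P : Subgroup G).subtype)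
    (t : G) (ht : IsConj z t) (htz : t * z = z * t)
    (hC : Subgroup.centralizer ({z * t} : Set G) ≤ H) (g : G) :
    Fx H (z * t) g ↔ g ∈ H := by
  haveI : Fact (Nat.Prime 2) := ⟨Nat.prime_two⟩
  have htH : t ∈ H := h.cent_le t htz
  have ht2 : t ^ 2 = 1 := by
    obtain ⟨c, rfl⟩ := isConj_iff.1 ht
    exact conj_sq c h.hz2
  have hu2 : (z * t) ^ 2 = 1 := by
    rw [pow_two]
    have : z * t * (z * t) = z * (t * z) * t := by group
    rw [this, htz]
    have : z * (z * t) * t = (z * z) * (t * t) := by group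
    rw [this, ← pow_two, ← pow_two, h.hz2, ht2, one_mul]
  constructor
  · intro hfx
    unfold Fx at hfx
    -- P ≤ H
    obtain ⟨zc, hzc, hzc'⟩ := hzP
    have hPH : (P : Subgroup G) ≤ H := by
      intro p hp
      apply h.cent_le
      have := Subgroup.mem_center_iff.1 hzc ⟨p, hp⟩
      have := congrArg Subtype.val this
      rw [Subgroup.coe_mul, Subgroup.coe_mul] at this
      rw [← hzc']
      exact this
    have hzcomm : ∀ p ∈ (P : Subgroup G), p * z = z * p := by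
      intro p hp
      have := Subgroup.mem_center_iff.1 hzc ⟨p, hp⟩
      have := congrArg Subtype.val this
      rw [Subgroup.coe_mul, Subgroup.coe_mul] at this
      rw [← hzc']
      exact this
    obtain ⟨u, hu⟩ : ∃ u : ↥H, u = ⟨g⁻¹ * (z * t) * g, hfx⟩ := ⟨_, rfl⟩
    have hu2' : u ^ 2 = 1 := by
      rw [hu]
      apply Subtype.ext
      rw [Subgroup.coe_pow]
      show (g⁻¹ * (z * t) * g) ^ 2 = 1
      have : g⁻¹ * (z * t) * g = g⁻¹ * (z * t) * g⁻¹⁻¹ := by rw [inv_inv]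
      rw [this, conj_pow, hu2, mul_one, inv_inv, inv_mul_cancel]
    have hpu : IsPGroup 2 ↥(Subgroup.zpowers u) := by
      intro x
      refine ⟨1, ?_⟩
      obtain ⟨i, hi⟩ := Subgroup.mem_zpowers_iff.1 x.2
      apply Subtype.ext
      rw [Subgroup.coe_pow, ← hi, pow_one, ← zpow_natCast, ← zpow_mul, mul_comm, zpow_mul,
        zpow_natCast, hu2', one_zpow]
      rfl
    obtain ⟨Q, hQ⟩ := IsPGroup.exists_le_sylow hpu
    obtain ⟨hh, hhQ⟩ := MulAction.exists_smul_eq ↥H Q (P.subtype hPH)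
    have hmem : hh * u * hh⁻¹ ∈ ((P.subtype hPH : Sylow 2 ↥H) : Subgroup ↥H) := by
      rw [← hhQ]
      have e : ((hh • Q : Sylow 2 ↥H) : Subgroup ↥H) = MulAut.conj hh • (Q : Subgroup ↥H) := by
        rw [Sylow.smul_def]
        rfl
      rw [e]
      have := Subgroup.smul_mem_pointwise_smul u (MulAut.conj hh) (Q : Subgroup ↥H)
        (hQ (Subgroup.mem_zpowers u))
      rw [MulAut.smul_def, MulAut.conj_apply] at this
      exact this
    rw [Sylow.coe_subtype, Subgroup.mem_subgroupOf] at hmem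
    have hcomm := hzcomm _ hmem
    rw [Subgroup.coe_mul, Subgroup.coe_mul, Subgroup.coe_inv, hu] at hcomm
    obtain ⟨h₀, hh₀⟩ : ∃ h₀ : G, h₀ = (hh : G) := ⟨_, rfl⟩
    rw [← hh₀] at hcomm
    have hh₀H : h₀ ∈ H := by rw [hh₀]; exact hh.2
    -- w = g h₀⁻¹
    have hw : (g * h₀⁻¹) * z * (g * h₀⁻¹)⁻¹ ∈ Subgroup.centralizer ({z * t} : Set G) := by
      rw [Subgroup.mem_centralizer_singleton_iff]
      have e1 : (g * h₀⁻¹) * z * (g * h₀⁻¹)⁻¹ * (z * t) =
          (g * h₀⁻¹) * (z * (h₀ * (g⁻¹ * (z * t) * g) * h₀⁻¹)) * (g * h₀⁻¹)⁻¹ := by group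
      have e2 : z * t * ((g * h₀⁻¹) * z * (g * h₀⁻¹)⁻¹) =
          (g * h₀⁻¹) * ((h₀ * (g⁻¹ * (z * t) * g) * h₀⁻¹) * z) * (g * h₀⁻¹)⁻¹ := by group
      rw [e1, e2]
      congr 2
      exact hcomm.symm
    have h3 := hC hw
    have h4 : (g * h₀⁻¹)⁻¹ ∈ H := by
      apply (h.h0 _).1
      unfold Fx
      rw [inv_inv]
      exact h3
    have h5 := H.mul_mem (H.inv_mem h4) hh₀H
    have e : ((g * h₀⁻¹)⁻¹)⁻¹ * h₀ = g := by group
    rw [e] at h5
    exact h5
  · intro hg
    unfold Fx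
    exact H.mul_mem (H.mul_mem (H.inv_mem hg) (H.mul_mem h.z_mem htH)) hg

end sylow

theorem main1922 {G : Type*} [Group G] [Finite G] (z : G) (hz : orderOf z = 2) (H : Subgroup G) (hH : H ≠ ⊤)
    (h0 : ∀ g : G, z ∈ H.map (MulAut.conj g).toMonoidHom ↔ g ∈ H) :
    (∀ t : G, IsConj z t → t ≠ z → t * z = z * t → ∀ g : G, z * t ∈ H.map (MulAut.conj g).toMonoidHom ↔ g ∈ H) ↔
      ((∃ P : Sylow 2 G, z ∈ (Subgroup.center ↥(P : Subgroup G)).map (P : Subgroup G).subtype) ∧
        ∀ t : G, IsConj z t → t ≠ z → t * z = z * t → Subgroup.centralizer ({z * t} : Set G) ≤ H) := by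
  have hz2 : z ^ 2 = 1 := by rw [← hz]; exact pow_orderOf_eq_one _
  have hz1 : z ≠ 1 := by
    intro h
    rw [h, orderOf_one] at hz
    omega
  have hyp : Hyp H z := ⟨hz2, hz1, fun g => (mem_map_conj_iff H z g).symm.trans (h0 g)⟩
  simp_rw [mem_map_conj_iff]
  constructor
  · intro h1
    refine ⟨?_, ?_⟩
    · haveI : Fintype G := Fintype.ofFinite G
      exact exists_sylow_center hz2 (odd_card_cls hyp h1 hH)
    · intro t ht hne htz c hc
      rw [Subgroup.mem_centralizer_singleton_iff] at hc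
      apply (h1 t ht hne htz c).1
      unfold Fx
      have : c⁻¹ * (z * t) * c = z * t := by rw [mul_assoc, ← hc, inv_mul_cancel_left]
      rw [this]
      exact H.mul_mem hyp.z_mem (hyp.cent_le t htz)
  · rintro ⟨⟨P, hP⟩, hC⟩ t ht hne htz g
    exact two_imp_one hyp P hP t ht htz (hC t ht hne htz) g


/-- Let z be an involution of a finite group G and H a proper subgroup such that z lies in gHg⁻¹ exactly when g ∈ H. Then the following are equivalent: (1) for every conjugate t ≠ z of z commuting with z, the product zt lies in gHg⁻¹ exactly when g ∈ H; (2) z lies in the centre of some Sylow 2-subgroup of G, and for every conjugate t ≠ z of z commuting with z, the centralizer of zt is contained in H. -/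
theorem result {G : Type*} [Group G] [Finite G] (z : G) (hz : orderOf z = 2) (H : Subgroup G) (hH : H ≠ ⊤)
    (h0 : ∀ g : G, z ∈ H.map (MulAut.conj g).toMonoidHom ↔ g ∈ H) :
    (∀ t : G, IsConj z t → t ≠ z → t * z = z * t → ∀ g : G, z * t ∈ H.map (MulAut.conj g).toMonoidHom ↔ g ∈ H) ↔
      ((∃ P : Sylow 2 G, z ∈ (Subgroup.center ↥(P : Subgroup G)).map (P : Subgroup G).subtype) ∧
        ∀ t : G, IsConj z t → t ≠ z → t * z = z * t → Subgroup.centralizer ({z * t} : Set G) ≤ H) := by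
  exact main1922 z hz H hH h0

end Cfsg.Agent.S1922
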