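import Cfsg.Statements.S0071
import Cfsg.Agent.Lib.Helper4.Frobenius

set_option autoImplicit false
open Cfsg

namespace Cfsg.Agent.S0071

open Cfsg.Agent.Lib.Helper4

/-- The Frobenius normal p-complement Theorem states that a Sylow p-subgroup has a normal complement exactly when, for each of its subgroups Q, every element of the normalizer of Q of order prime to p centralizes Q. -/
theorem result {G : Type*} [Group G] [Finite G] {p : ℕ} [Fact p.Prime] (P : Sylow p G) : (∃ N : Subgroup G, N.Normal ∧ N.IsComplement' (P : Subgroup G)) ↔ ∀ Q : Subgroup G, Q ≤ (P : Subgroup G) → ∀ g ∈ Subgroup.normalizer (Q : Set G), Nat.Coprime (orderOf g) p → g ∈ Subgroup.centralizer (Q : Set G) := by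
  classical
  have hp : p.Prime := Fact.out
  constructor
  · rintro ⟨N, hN, hc⟩ Q hQP g hg hgp
    -- N is a normal Hall p'-subgroup
    have hquot : IsPGroup p (G ⧸ N) := by
      have h1 : N.index = Nat.card P := hc.symm.index_eq_card
      obtain ⟨a, ha⟩ := (IsPGroup.iff_card).1 P.2
      apply IsPGroup.of_card (n := a)
      rw [← Subgroup.index_eq_card, h1, ha]
    have hgN : g ∈ N := mem_of_coprime_of_isPGroup_quotient p N hquot g hgp
    rw [Subgroup.mem_centralizer_iff]
    intro q hq
    have h1 : g * q * g⁻¹ ∈ Q := (Subgroup.mem_normalizer_iff.1 hg q).1 hq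
    have h2 : g * q * g⁻¹ * q⁻¹ ∈ N := by
      have : g * q * g⁻¹ * q⁻¹ = g * (q * g⁻¹ * q⁻¹) := by group
      rw [this]
      exact N.mul_mem hgN (hN.conj_mem _ (N.inv_mem hgN) q)
    have h3 : g * q * g⁻¹ * q⁻¹ ∈ (P : Subgroup G) := hQP (Q.mul_mem h1 (Q.inv_mem hq))
    have h4 : g * q * g⁻¹ * q⁻¹ ∈ N ⊓ (P : Subgroup G) := ⟨h2, h3⟩
    rw [hc.disjoint.eq_bot, Subgroup.mem_bot] at h4
    have : g * q = q * g := by
      have e : g * q = (g * q * g⁻¹ * q⁻¹) * (q * g) := by group
      rw [e, h4, one_mul]
    exact this.symm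
  · intro hyp
    have hF : FrobHyp p G := by
      intro Q hQ g hg hgp
      obtain ⟨k, hk⟩ : ∃ k : G, cj k Q ≤ (P : Subgroup G) := by
        obtain ⟨k, -, hk⟩ := exists_conj_le_of_relIndex p ⊤ (P : Subgroup G) Q P.2
          (by rw [Subgroup.relIndex_top_right]; exact P.not_dvd_index) le_top hQ
        refine ⟨k, ?_⟩
        rintro _ ⟨q, hq, rfl⟩
        exact hk q hq
      have hg' : k * g * k⁻¹ ∈ Subgroup.normalizer ((cj k Q : Subgroup G) : Set G) := by
        rw [cj_normalizer]
        exact conj_mem_cj k _ hg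
      have hord : orderOf (k * g * k⁻¹) = orderOf g := by
        have := orderOf_injective (MulAut.conj k).toMonoidHom (MulAut.conj k).injective g
        simpa [MulAut.conj_apply] using this
      have h1 := hyp (cj k Q) hk _ hg' (by rw [hord]; exact hgp)
      rw [Subgroup.mem_centralizer_iff] at h1 ⊢
      intro q hq
      have h2 := h1 (k * q * k⁻¹) (conj_mem_cj k Q hq)
      have e1 : q * g = k⁻¹ * (k * q * k⁻¹ * (k * g * k⁻¹)) * k := by group
      have e2 : g * q = k⁻¹ * (k * g * k⁻¹ * (k * q * k⁻¹)) * k := by group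
      rw [e1, e2, h2]
    obtain ⟨K, hKn, hKcard, hKquot⟩ := frob_hasNormalPComplement p (Nat.card G) G rfl hF
    refine ⟨K, hKn, ?_⟩
    obtain ⟨a, ha⟩ := (IsPGroup.iff_card).1 hKquot
    have hidx : K.index = p ^ a := by rw [Subgroup.index_eq_card]; exact ha
    have hcG : Nat.card G = Nat.card K * p ^ a := by
      rw [← hidx, mul_comm]; exact (Subgroup.index_mul_card K).symm
    have hKpos : Nat.card K ≠ 0 := Nat.card_pos.ne'
    have hfac : (Nat.card G).factorization p = a := by
      rw [hcG, Nat.factorization_mul hKpos (pow_pos hp.pos a).ne']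
      have h1 : (Nat.card K).factorization p = 0 := by
        apply Nat.factorization_eq_zero_of_not_dvd
        intro hdvd
        have := Nat.Coprime.eq_one_of_dvd hKcard.symm hdvd
        exact hp.ne_one this
      simp [h1, Nat.Prime.factorization_self hp]
    have hcP : Nat.card P = p ^ a := by
      rw [Sylow.card_eq_multiplicity, hfac]
    apply Subgroup.isComplement'_of_coprime
    · rw [hcP, hcG]
    · rw [hcP]; exact Nat.Coprime.pow_right a hKcard

end Cfsg.Agent.S0071
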