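import Mathlib
import Cfsg.Statements.S4242
import Cfsg.Agent.S0071
import Cfsg.Agent.Lib.Helper4.CoprimeSylow
import Cfsg.Agent.Lib.Helper4.Schmidt
import Cfsg.Agent.Lib.Helper7.NilpotentSylow
import Cfsg.Agent.Lib.Helper7.PiHall

set_option autoImplicit false
open Cfsg

namespace Cfsg.Agent.S4242

open Cfsg.Agent.Lib.Helper4 Cfsg.Agent.Lib.Helper7 Cfsg.Agent.Lib.Helper2

universe u

theorem mem_of_pow_mem_coprime {X : Type*} [Group X] [Finite X] (C : Subgroup X) (u : X) (b : ℕ)
    (hub : u ^ b ∈ C) (hcop : (orderOf u).Coprime b) : u ∈ C := by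
  rcases Nat.lt_or_ge 1 (orderOf u) with h1 | h1
  · obtain ⟨m, -, hm⟩ := Nat.exists_mul_mod_eq_one_of_coprime hcop.symm h1
    have : u = (u ^ b) ^ m := by
      rw [← pow_mul, ← pow_mod_orderOf, hm, pow_one]
    rw [this]
    exact C.pow_mem hub m
  · have : orderOf u = 1 := le_antisymm h1 (orderOf_pos u)
    rw [orderOf_eq_one_iff.1 this]
    exact C.one_mem

/-- in a finite nilpotent group a `p`-element commutes with every `p'`-element -/
theorem commute_of_coprime {X : Type*} [Group X] [Finite X] [Group.IsNilpotent X] {p : ℕ}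
    [hp : Fact p.Prime] (x y : X) (hx : ∃ k, orderOf x = p ^ k) (hy : (orderOf y).Coprime p) :
    Commute x y := by
  obtain ⟨k, hk⟩ := hx
  have hxp : IsPGroup p (Subgroup.zpowers x) :=
    IsPGroup.of_card (n := k) (by rw [Nat.card_zpowers, hk])
  obtain ⟨P, hP⟩ := hxp.exists_le_sylow
  have hxP : x ∈ (P : Subgroup X) := hP (Subgroup.mem_zpowers x)
  have hN : (Subgroup.centralizer ({x} : Set X)).subgroupOf (Subgroup.zpowers y) = ⊤ := by
    apply eq_top_of_forall_sylow_le
    intro q hq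
    obtain ⟨Qy⟩ : Nonempty (Sylow q ↥(Subgroup.zpowers y)) := inferInstance
    refine ⟨Qy, ?_⟩
    intro w hw
    rw [Subgroup.mem_subgroupOf, Subgroup.mem_centralizer_iff]
    intro h hh
    rw [Set.mem_singleton_iff] at hh
    rw [hh]
    obtain ⟨j, hj⟩ := (Qy.2 ⟨w, hw⟩)
    have h2 : orderOf w ∣ q ^ j := by
      apply orderOf_dvd_of_pow_eq_one
      have := congrArg Subtype.val hj
      simpa using this
    by_cases hqp : q = p
    · have h1 : orderOf w ∣ orderOf y := by
        have := orderOf_dvd_natCard w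
        rwa [Nat.card_zpowers] at this
      rw [hqp] at h2
      have h3 : orderOf w = 1 := by
        have hc : (orderOf w).Coprime (p ^ j) := (Nat.Coprime.coprime_dvd_left h1 hy).pow_right j
        exact hc.eq_one_of_dvd h2
      rw [orderOf_eq_one_iff.1 h3]; simp
    · have hwq : IsPGroup q (Subgroup.zpowers (w : X)) := by
        have h2' : orderOf (w : X) ∣ q ^ j := by rw [Subgroup.orderOf_coe]; exact h2
        obtain ⟨i, -, hi⟩ := (Nat.dvd_prime_pow hq.out).1 h2'
        exact IsPGroup.of_card (n := i) (by rw [Nat.card_zpowers, hi])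
      obtain ⟨Q, hQ⟩ := hwq.exists_le_sylow
      have := sylow_commute_of_ne (Ne.symm hqp) P Q x (w : X) hxP (hQ (Subgroup.mem_zpowers _))
      exact this.eq
  have hy' : (⟨y, Subgroup.mem_zpowers y⟩ : Subgroup.zpowers y) ∈
      (Subgroup.centralizer ({x} : Set X)).subgroupOf (Subgroup.zpowers y) := by
    rw [hN]; exact Subgroup.mem_top _
  rw [Subgroup.mem_subgroupOf, Subgroup.mem_centralizer_iff] at hy'
  exact hy' x (Set.mem_singleton x)

theorem commute_in_nilpotent {G : Type*} [Group G] [Finite G] (M : Subgroup G)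
    (hM : Group.IsNilpotent ↥M) {p : ℕ} [Fact p.Prime] (x y : G) (hxM : x ∈ M) (hyM : y ∈ M)
    (hx : ∃ k, orderOf x = p ^ k) (hy : (orderOf y).Coprime p) : x * y = y * x := by
  haveI := hM
  have := commute_of_coprime (p := p) (⟨x, hxM⟩ : ↥M) ⟨y, hyM⟩
    (by simpa [Subgroup.orderOf_mk] using hx) (by simpa [Subgroup.orderOf_mk] using hy)
  exact congrArg Subtype.val this.eq

theorem nil_of_le {G : Type*} [Group G] {H M : Subgroup G} (h : H ≤ M)
    (hM : Group.IsNilpotent ↥M) : Group.IsNilpotent ↥H := by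
  haveI := hM
  exact Group.nilpotent_of_mulEquiv (Subgroup.subgroupOfEquivOfLe h)

theorem zpowers_solvable {X : Type*} [Group X] (g : X) :
    Group.IsSolvable (Subgroup.zpowers g) := by
  apply Group.isSolvable_of_comm
  intro a b
  obtain ⟨i, hi⟩ := Subgroup.mem_zpowers_iff.1 a.2
  obtain ⟨j, hj⟩ := Subgroup.mem_zpowers_iff.1 b.2
  apply Subtype.ext
  rw [Subgroup.coe_mul, Subgroup.coe_mul, ← hi, ← hj, ← zpow_add, ← zpow_add, add_comm]

/-- coprime action: an `A`-invariant Sylow `q`-subgroup of the normal subgroup `N` -/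
theorem exists_invariant_sylow {X : Type u} [Group X] [Finite X] (A N : Subgroup X) [N.Normal]
    (hcop : (Nat.card A).Coprime (Nat.card N)) (hsolv : Group.IsSolvable A) (q : ℕ)
    [Fact q.Prime] :
    ∃ P1 : Sylow q ↥N,
      A ≤ Subgroup.normalizer (((P1 : Subgroup ↥N).map N.subtype : Subgroup X) : Set X) := by
  obtain ⟨P⟩ : Nonempty (Sylow q ↥N) := inferInstance
  set Q0 : Subgroup X := (P : Subgroup ↥N).map N.subtype with hQ0
  have hAN : A ≤ Subgroup.normalizer (N : Set X) := by
    rw [Subgroup.normalizer_eq_top]; exact le_top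
  letI : MulAction X (Subgroup X) := conjSubAction X
  have hkey : ∀ a ∈ A, ∃ k ∈ N, a • Q0 = k • Q0 := by
    intro a _
    have hle : cj a Q0 ≤ N := by
      have := cj_mono a (Subgroup.map_subtype_le (P : Subgroup ↥N))
      rwa [cj_self_of_normal N a] at this
    obtain ⟨k, hk, hk'⟩ := sylow_sub_conj N P (cj a Q0) hle (cj_isPGroup q a (P.2.map _))
      (card_cj' a Q0)
    exact ⟨k, hk, hk'⟩
  obtain ⟨k, hk, hfix⟩ := glauberman_fix A N hAN hcop (Or.inl hsolv) Q0 hkey
  refine ⟨MulAut.conj (⟨k, hk⟩ : ↥N) • P, ?_⟩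
  have hQ1 : ((MulAut.conj (⟨k, hk⟩ : ↥N) • P : Sylow q ↥N) : Subgroup ↥N).map N.subtype
      = cj k Q0 := sylow_map_smul N ⟨k, hk⟩ P
  rw [hQ1]
  intro a ha
  exact Subgroup.mem_normalizer_iff_map_conj_eq.2 (hfix a ha)

theorem comm_nilpotent {X : Type*} [Group X] (h : ∀ a b : X, a * b = b * a) :
    Group.IsNilpotent X := by
  letI : CommGroup X := { (inferInstance : Group X) with mul_comm := h }
  exact CommGroup.isNilpotent

theorem pdvd_card_of_ne_bot {G : Type*} [Group G] [Finite G] {p : ℕ} [Fact p.Prime]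
    {Q : Subgroup G} (hQ : IsPGroup p Q) (hne : Q ≠ ⊥) : p ∣ Nat.card Q := by
  obtain ⟨n, hn⟩ := IsPGroup.iff_card.1 hQ
  rcases Nat.eq_zero_or_pos n with rfl | hpos
  · exfalso
    apply hne
    rw [pow_zero] at hn
    exact Subgroup.card_eq_one.1 hn
  · rw [hn]; exact dvd_pow_self p (Nat.pos_iff_ne_zero.1 hpos)

theorem dir_back {G : Type u} [Group G] [Finite G] (p : ℕ) (hp : p.Prime)
    (Z K : Subgroup G) (hZn : Z.Normal) (hKn : K.Normal) (hZK : Z ⊓ K = ⊥) (hsup : Z ⊔ K = ⊤)
    (hZcard : Nat.card Z = p) (hK : IsMinimalNonNilpotent K) (hpK : ¬ p ∣ Nat.card K)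
    (M : Subgroup G) (hM : IsCoatom M) (hpM : p ∣ Nat.card M) : Group.IsNilpotent M := by
  haveI := Fact.mk hp
  have hcomm : ∀ z ∈ Z, ∀ k ∈ K, z * k = k * z := fun z hz k hk =>
    (Subgroup.commute_of_normal_of_disjoint Z K hZn hKn (disjoint_iff.2 hZK) z k hz hk).eq
  have hcardG : Nat.card G = p * Nat.card K := by
    have h1 := card_sup_mul_card_inf Z K (by rw [Subgroup.normalizer_eq_top]; exact le_top)
    rw [hsup, hZK, Subgroup.card_bot, mul_one, Subgroup.card_top, hZcard] at h1
    exact h1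
  obtain ⟨g, hg⟩ := exists_prime_orderOf_dvd_card' p hpM
  have hcop : Nat.Coprime p (Nat.card K) := (Nat.Prime.coprime_iff_not_dvd hp).2 hpK
  have hgZ : (g : G) ∈ Z := by
    have h1 : orderOf (QuotientGroup.mk' Z (g : G)) ∣ p := by
      have := orderOf_map_dvd (QuotientGroup.mk' Z) (g : G)
      rwa [Subgroup.orderOf_coe, hg] at this
    have h2 : orderOf (QuotientGroup.mk' Z (g : G)) ∣ Nat.card K := by
      have h3 : Nat.card (G ⧸ Z) = Nat.card K := by
        have h4 := Subgroup.card_eq_card_quotient_mul_card_subgroup Z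
        rw [hcardG, hZcard, mul_comm] at h4
        exact (Nat.eq_of_mul_eq_mul_right hp.pos h4).symm
      rw [← h3]; exact orderOf_dvd_natCard _
    have h5 := Nat.dvd_gcd h1 h2
    rw [hcop.gcd_eq_one] at h5
    have h6 : QuotientGroup.mk' Z (g : G) = 1 := orderOf_eq_one_iff.1 (Nat.dvd_one.1 h5)
    exact (QuotientGroup.eq_one_iff _).1 h6
  have hZM : Z ≤ M := by
    intro z hz
    have hne : (⟨(g : G), hgZ⟩ : ↥Z) ≠ 1 := by
      intro h
      have h1 : (g : G) = 1 := congrArg Subtype.val h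
      have h2 : g = 1 := Subtype.ext h1
      rw [h2, orderOf_one] at hg
      exact hp.one_lt.ne hg
    have htop := zpowers_eq_top_of_prime_card (G := ↥Z) hZcard hne
    have hmem : (⟨z, hz⟩ : ↥Z) ∈ Subgroup.zpowers (⟨(g : G), hgZ⟩ : ↥Z) := by
      rw [htop]; exact Subgroup.mem_top _
    obtain ⟨i, hi⟩ := Subgroup.mem_zpowers_iff.1 hmem
    have hz' : z = (g : G) ^ i := by
      have := congrArg Subtype.val hi
      simpa using this.symm
    rw [hz']; exact M.zpow_mem g.2 i
  have hKM : ¬ K ≤ M := fun h => hM.1 (by rw [eq_top_iff, ← hsup]; exact sup_le hZM h)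
  have hnil : Group.IsNilpotent ↥(M ⊓ K) := by
    have h1 : ((M ⊓ K).subgroupOf K) ≠ ⊤ := by
      intro h
      rw [Subgroup.subgroupOf_eq_top] at h
      exact hKM (h.trans inf_le_left)
    haveI := hK.2 _ h1
    exact Group.nilpotent_of_mulEquiv (Subgroup.subgroupOfEquivOfLe (inf_le_right : M ⊓ K ≤ K))
  have hZnil : Group.IsNilpotent ↥Z :=
    (IsPGroup.of_card (n := 1) (by rw [hZcard, pow_one])).isNilpotent
  let f : ↥Z →* ↥M := Subgroup.inclusion hZM
  let g' : ↥(M ⊓ K) →* ↥M := Subgroup.inclusion inf_le_left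
  have comm : ∀ a b, Commute (f a) (g' b) := by
    intro a b
    apply Subtype.ext
    exact hcomm a a.2 b b.2.2
  haveI := hZnil
  haveI := hnil
  apply Group.nilpotent_of_surjective (f.noncommCoprod g' comm)
  intro m
  have hm : (m : G) ∈ Z ⊔ K := by rw [hsup]; exact Subgroup.mem_top _
  haveI := hZn
  obtain ⟨z, hz, k, hk, hzk⟩ := Subgroup.mem_sup_of_normal_left.1 hm
  have hkM : k ∈ M := by
    have : k = z⁻¹ * m := by rw [← hzk]; group
    rw [this]; exact M.mul_mem (M.inv_mem (hZM hz)) m.2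
  refine ⟨(⟨z, hz⟩, ⟨k, hkM, hk⟩), ?_⟩
  apply Subtype.ext
  simp [MonoidHom.noncommCoprod_apply, f, g', hzk]

theorem dir_forward {G : Type u} [Group G] [Finite G] (p : ℕ) (hp : p.Prime)
    (hpG : p ∣ Nat.card G)
    (h : ∀ M : Subgroup G, IsCoatom M → p ∣ Nat.card M → Group.IsNilpotent M)
    (hnil : ¬ Group.IsNilpotent G) (hmin : ¬ IsMinimalNonNilpotent G) :
    ∃ Z K : Subgroup G, Z.Normal ∧ K.Normal ∧ Z ⊓ K = ⊥ ∧ Z ⊔ K = ⊤ ∧ Nat.card Z = p ∧
      IsMinimalNonNilpotent K ∧ ¬ p ∣ Nat.card K := by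
  haveI := Fact.mk hp
  -- a non-nilpotent maximal subgroup
  have hex : ∃ H : Subgroup G, H ≠ ⊤ ∧ ¬ Group.IsNilpotent H := by
    by_contra hcon
    push Not at hcon
    exact hmin ⟨hnil, hcon⟩
  obtain ⟨H, hHtop, hHnil⟩ := hex
  obtain ⟨Kc, hKc, hHK⟩ := (eq_top_or_exists_le_coatom H).resolve_left hHtop
  have hKcnil : ¬ Group.IsNilpotent Kc := fun hn => hHnil (nil_of_le hHK hn)
  have hpK : ¬ p ∣ Nat.card Kc := fun hd => hKcnil (h Kc hKc hd)
  have hcopK : Nat.Coprime p (Nat.card Kc) := (Nat.Prime.coprime_iff_not_dvd hp).2 hpK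
  obtain ⟨P⟩ : Nonempty (Sylow p G) := inferInstance
  have hPne : (P : Subgroup G) ≠ ⊥ := P.ne_bot_of_dvd_card hpG
  have hpP : p ∣ Nat.card (P : Subgroup G) := pdvd_card_of_ne_bot P.2 hPne
  obtain ⟨nP, hnP⟩ := IsPGroup.iff_card.1 P.2
  have hcopPK : Nat.Coprime (Nat.card (P : Subgroup G)) (Nat.card Kc) := by
    rw [hnP]; exact hcopK.pow_left nP
  have nil_of_proper : ∀ S : Subgroup G, S ≠ ⊤ → p ∣ Nat.card S → Group.IsNilpotent S := by
    intro S hS hpS
    obtain ⟨M, hM, hSM⟩ := (eq_top_or_exists_le_coatom S).resolve_left hS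
    exact nil_of_le hSM (h M hM (hpS.trans (Subgroup.card_dvd_of_le hSM)))
  have pelt : ∀ x ∈ (P : Subgroup G), ∃ k, orderOf x = p ^ k := by
    intro x hx
    obtain ⟨k, hk⟩ := IsPGroup.iff_orderOf.1 P.2 ⟨x, hx⟩
    exact ⟨k, by rw [← hk, Subgroup.orderOf_mk]⟩
  have p'elt : ∀ k ∈ Kc, (orderOf k).Coprime p := by
    intro k hk
    exact (Nat.Coprime.coprime_dvd_left (Subgroup.orderOf_dvd_natCard Kc hk) hcopK.symm)
  -- Claim A: P is normal
  have hPn : (P : Subgroup G).Normal := by
    by_contra hPn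
    have crit : ∀ Q : Subgroup G, Q ≤ (P : Subgroup G) →
        ∀ g ∈ Subgroup.normalizer (Q : Set G), Nat.Coprime (orderOf g) p →
          g ∈ Subgroup.centralizer (Q : Set G) := by
      intro Q hQP g hg hgp
      have hQp : IsPGroup p Q := P.2.to_le hQP
      by_cases hQbot : Q = ⊥
      · rw [Subgroup.mem_centralizer_iff]
        intro x hx
        rw [hQbot] at hx
        have : x = 1 := Subgroup.mem_bot.1 hx
        rw [this, one_mul, mul_one]
      have hpQ : p ∣ Nat.card Q := pdvd_card_of_ne_bot hQp hQbot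
      by_cases hNtop : Subgroup.normalizer (Q : Set G) = ⊤
      · exfalso
        have hQn : Q.Normal := Subgroup.normalizer_eq_top_iff.1 hNtop
        have hQK : ¬ Q ≤ Kc := fun hle => hpK (hpQ.trans (Subgroup.card_dvd_of_le hle))
        have hsup : Q ⊔ Kc = ⊤ := hKc.2 _ (right_lt_sup.2 hQK)
        have h1 := card_sup_mul_card_inf Kc Q (by rw [hNtop]; exact le_top)
        rw [sup_comm, hsup, Subgroup.card_top] at h1
        have hPQ : Nat.card (P : Subgroup G) ∣ Nat.card Q := by
          have h2 : Nat.card (P : Subgroup G) ∣ Nat.card Kc * Nat.card Q := by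
            rw [← h1]
            exact dvd_mul_of_dvd_left (Subgroup.card_subgroup_dvd_card _) _
          exact hcopPK.dvd_of_dvd_mul_left h2
        have hQeq : Q = (P : Subgroup G) :=
          Subgroup.eq_of_le_of_card_ge hQP (Nat.le_of_dvd Nat.card_pos hPQ)
        exact hPn (hQeq ▸ hQn)
      · have hQN : Q ≤ Subgroup.normalizer (Q : Set G) := Subgroup.le_normalizer
        have hpN : p ∣ Nat.card (Subgroup.normalizer (Q : Set G)) :=
          hpQ.trans (Subgroup.card_dvd_of_le hQN)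
        have hnilN := nil_of_proper _ hNtop hpN
        rw [Subgroup.mem_centralizer_iff]
        intro x hx
        exact commute_in_nilpotent _ hnilN x g (hQN hx) hg (pelt x (hQP hx)) hgp
    obtain ⟨T, hTn, hTc⟩ := (Cfsg.Agent.S0071.result P).2 crit
    haveI := hTn
    have hcardT : Nat.card T * Nat.card (P : Subgroup G) = Nat.card G := hTc.card_mul_card
    have hidxT : T.index = Nat.card (P : Subgroup G) := hTc.symm.index_eq_card
    have hidxP : (P : Subgroup G).index = Nat.card T := hTc.index_eq_card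
    have hpT : ¬ p ∣ Nat.card T := by rw [← hidxP]; exact P.not_dvd_index
    have hKT : Kc ≤ T := by
      intro k hk
      have h1 := Subgroup.pow_index_mem T k
      rw [hidxT, hnP] at h1
      exact mem_of_pow_mem_coprime T k _ h1 ((p'elt k hk).pow_right nP)
    have hTtop : T ≠ ⊤ := by
      intro hT
      apply hPne
      have : Nat.card (P : Subgroup G) = 1 := by
        rw [hT, Subgroup.card_top] at hcardT
        have hpos : 0 < Nat.card G := Nat.card_pos
        nlinarith [Nat.eq_of_mul_eq_mul_left hpos (show Nat.card G * Nat.card (P : Subgroup G) = Nat.card G * 1 by rw [hcardT, mul_one])]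
      exact Subgroup.card_eq_one.1 this
    have hTK : Kc = T := (eq_or_lt_of_le hKT).resolve_right (fun hlt => hTtop (hKc.2 T hlt))
    have hTnil : ¬ Group.IsNilpotent T := by rw [← hTK]; exact hKcnil
    have hcopPT : Nat.Coprime (Nat.card (P : Subgroup G)) (Nat.card T) := by
      rw [← hTK]; exact hcopPK
    have hPsolv : Group.IsSolvable (P : Subgroup G) := by
      haveI := P.2.isNilpotent
      infer_instance
    apply hPn
    rw [← Subgroup.normalizer_eq_top_iff]
    apply eq_top_of_forall_sylow_le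
    intro q hq
    by_cases hqp : q = p
    · subst hqp
      exact ⟨P, Subgroup.le_normalizer⟩
    obtain ⟨Q1, hQ1⟩ := exists_invariant_sylow (P : Subgroup G) T hcopPT hPsolv q
    set Qs : Subgroup G := (Q1 : Subgroup ↥T).map T.subtype with hQs
    have hQsT : Qs ≤ T := Subgroup.map_subtype_le _
    have hQsq : IsPGroup q Qs := Q1.2.map _
    have hqne : ¬ q ∣ p ^ nP := by
      intro hd
      exact hqp ((Nat.prime_dvd_prime_iff_eq hq.out hp).1 (hq.out.dvd_of_dvd_pow hd))
    have hidxQs : ¬ q ∣ Qs.index := by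
      rw [← Subgroup.relIndex_mul_index hQsT, hidxT, hnP]
      intro hd
      rcases (Nat.Prime.dvd_mul hq.out).1 hd with h1 | h1
      · exact sylow_map_relIndex T Q1 h1
      · exact hqne h1
    refine ⟨hQsq.toSylow hidxQs, ?_⟩
    rw [IsPGroup.toSylow_coe]
    have q'elt : ∀ x ∈ Qs, (orderOf x).Coprime p := by
      intro x hx
      obtain ⟨j, hj⟩ := IsPGroup.iff_orderOf.1 hQsq ⟨x, hx⟩
      rw [Subgroup.orderOf_mk] at hj
      rw [hj]
      apply Nat.Coprime.pow_left
      exact (Nat.coprime_primes hq.out hp).2 hqp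
    by_cases hS : (P : Subgroup G) ⊔ Qs = ⊤
    · exfalso
      have h1 := card_sup_mul_card_inf (P : Subgroup G) Qs hQ1
      rw [hS, Subgroup.card_top, ← hcardT] at h1
      have h2 : Nat.card T ∣ Nat.card Qs := by
        have h3 : Nat.card T * Nat.card (P : Subgroup G) ∣ Nat.card (P : Subgroup G) * Nat.card Qs :=
          Dvd.intro _ h1
        rw [mul_comm] at h3
        exact Nat.dvd_of_mul_dvd_mul_left Nat.card_pos h3
      have h4 : Qs = T := Subgroup.eq_of_le_of_card_ge hQsT (Nat.le_of_dvd Nat.card_pos h2)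
      apply hTnil
      rw [← h4]
      exact hQsq.isNilpotent
    · have hpS : p ∣ Nat.card ((P : Subgroup G) ⊔ Qs : Subgroup G) :=
        hpP.trans (Subgroup.card_dvd_of_le le_sup_left)
      have hnilS := nil_of_proper _ hS hpS
      apply le_normalizer_of_commute
      intro x hx u hu
      exact (commute_in_nilpotent _ hnilS u x (le_sup_left (a := (P : Subgroup G)) hu)
        (le_sup_right (b := Qs) hx) (pelt u hu) (q'elt x hx)).symm
  -- Case A
  haveI := hPn
  have hPK_inf : (P : Subgroup G) ⊓ Kc = ⊥ := Subgroup.inf_eq_bot_of_coprime hcopPK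
  have hPK : ¬ (P : Subgroup G) ≤ Kc := fun hle => hpK (hpP.trans (Subgroup.card_dvd_of_le hle))
  have hPK_sup : (P : Subgroup G) ⊔ Kc = ⊤ := hKc.2 _ (right_lt_sup.2 hPK)
  have hcardG : Nat.card G = Nat.card Kc * Nat.card (P : Subgroup G) := by
    have h1 := card_sup_mul_card_inf Kc (P : Subgroup G)
      (by rw [Subgroup.normalizer_eq_top]; exact le_top)
    rw [sup_comm, hPK_sup, inf_comm, hPK_inf, Subgroup.card_bot, mul_one, Subgroup.card_top] at h1
    exact h1
  have hK1 : ∀ K₁ : Subgroup G, K₁ ≤ Kc → K₁ ≠ Kc →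
      Group.IsNilpotent K₁ ∧ ∀ k ∈ K₁, ∀ u ∈ (P : Subgroup G), u * k = k * u := by
    intro K₁ hle hne
    have hlt : Nat.card K₁ < Nat.card Kc := card_lt_card_of_lt (lt_of_le_of_ne hle hne)
    have hS : (P : Subgroup G) ⊔ K₁ ≠ ⊤ := by
      intro hS
      have h1 := card_sup_mul_card_inf K₁ (P : Subgroup G)
        (by rw [Subgroup.normalizer_eq_top]; exact le_top)
      rw [sup_comm, hS, Subgroup.card_top, hcardG] at h1
      have h2 : Nat.card Kc * Nat.card (P : Subgroup G) ≤ Nat.card K₁ * Nat.card (P : Subgroup G) := by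
        rw [← h1]
        exact Nat.le_mul_of_pos_right _ Nat.card_pos
      have h3 : Nat.card Kc ≤ Nat.card K₁ := Nat.le_of_mul_le_mul_right h2 Nat.card_pos
      omega
    have hpS : p ∣ Nat.card ((P : Subgroup G) ⊔ K₁ : Subgroup G) :=
      hpP.trans (Subgroup.card_dvd_of_le le_sup_left)
    have hnilS := nil_of_proper _ hS hpS
    refine ⟨nil_of_le le_sup_right hnilS, ?_⟩
    intro k hk u hu
    exact commute_in_nilpotent _ hnilS u k (le_sup_left (a := (P : Subgroup G)) hu)
      (le_sup_right (b := K₁) hk) (pelt u hu) (p'elt k (hle hk))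
  have hKmin : IsMinimalNonNilpotent Kc := by
    refine ⟨hKcnil, fun H hH => ?_⟩
    have hle : H.map Kc.subtype ≤ Kc := Subgroup.map_subtype_le _
    have hne : H.map Kc.subtype ≠ Kc := by
      intro heq
      apply hH
      rw [eq_top_iff]
      intro k _
      have : (k : G) ∈ H.map Kc.subtype := by rw [heq]; exact k.2
      obtain ⟨k', hk', hkk⟩ := this
      have : k' = k := Subtype.ext hkk
      rw [← this]; exact hk'
    haveI := (hK1 _ hle hne).1
    exact Group.nilpotent_of_mulEquiv (H.equivMapOfInjective _ Kc.subtype_injective).symm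
  have hKcent : ∀ k ∈ Kc, ∀ u ∈ (P : Subgroup G), u * k = k * u := by
    by_contra hcon
    push Not at hcon
    obtain ⟨k, hk, u, hu, hku⟩ := hcon
    have hzle : Subgroup.zpowers k ≤ Kc := by
      rw [Subgroup.zpowers_le]; exact hk
    by_cases hz : Subgroup.zpowers k = Kc
    · apply hKcnil
      rw [← hz]
      apply comm_nilpotent
      intro a b
      obtain ⟨i, hi⟩ := Subgroup.mem_zpowers_iff.1 a.2
      obtain ⟨j, hj⟩ := Subgroup.mem_zpowers_iff.1 b.2
      apply Subtype.ext
      rw [Subgroup.coe_mul, Subgroup.coe_mul, ← hi, ← hj, ← zpow_add, ← zpow_add, add_comm]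
    · exact hku ((hK1 _ hzle hz).2 k (Subgroup.mem_zpowers k) u hu)
  have hKcn : Kc.Normal := by
    rw [← Subgroup.normalizer_eq_top_iff, eq_top_iff, ← hPK_sup]
    apply sup_le
    · apply le_normalizer_of_commute
      intro u hu k hk
      exact hKcent k hk u hu
    · exact Subgroup.le_normalizer
  haveI := hKcn
  have hcardP : Nat.card (P : Subgroup G) = p := by
    obtain ⟨z, hz⟩ := exists_prime_orderOf_dvd_card' p hpP
    set Z₁ := Subgroup.zpowers (z : G) with hZ₁
    have hZ₁card : Nat.card Z₁ = p := by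
      rw [hZ₁, Nat.card_zpowers, Subgroup.orderOf_coe, hz]
    have hZ₁K : ¬ Z₁ ≤ Kc := fun hle =>
      hpK ((hZ₁card ▸ dvd_refl _ : p ∣ Nat.card Z₁).trans (Subgroup.card_dvd_of_le hle))
    have hsup : Z₁ ⊔ Kc = ⊤ := hKc.2 _ (right_lt_sup.2 hZ₁K)
    have hinf : Z₁ ⊓ Kc = ⊥ := Subgroup.inf_eq_bot_of_coprime (by rw [hZ₁card]; exact hcopK)
    have h1 := card_sup_mul_card_inf Z₁ Kc (by rw [Subgroup.normalizer_eq_top]; exact le_top)
    rw [hsup, hinf, Subgroup.card_bot, mul_one, Subgroup.card_top, hcardG, hZ₁card, mul_comm] at h1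
    exact Nat.eq_of_mul_eq_mul_right Nat.card_pos h1
  exact ⟨P, Kc, hPn, hKcn, hPK_inf, hPK_sup, hcardP, hKmin, hpK⟩

/-- Let G be a finite group and p a prime dividing its order. Every maximal subgroup of G of order divisible by p is nilpotent if and only if G is nilpotent, or G is a minimal non-nilpotent group, or G is the internal direct product of a normal subgroup of order p and a normal minimal non-nilpotent subgroup of order prime to p. -/
theorem result {G : Type*} [Group G] [Finite G] (p : ℕ) (hp : p.Prime) (hpG : p ∣ Nat.card G) :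
    (∀ M : Subgroup G, IsCoatom M → p ∣ Nat.card M → Group.IsNilpotent M) ↔
      (Group.IsNilpotent G ∨ Cfsg.IsMinimalNonNilpotent G ∨
        ∃ Z K : Subgroup G, Z.Normal ∧ K.Normal ∧ Z ⊓ K = ⊥ ∧ Z ⊔ K = ⊤ ∧ Nat.card Z = p ∧
          Cfsg.IsMinimalNonNilpotent K ∧ ¬ p ∣ Nat.card K) := by
  constructor
  · intro h
    by_cases hnil : Group.IsNilpotent G
    · exact Or.inl hnil
    by_cases hmin : IsMinimalNonNilpotent G
    · exact Or.inr (Or.inl hmin)
    exact Or.inr (Or.inr (dir_forward p hp hpG h hnil hmin))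
  · rintro (hnil | hmin | ⟨Z, K, hZn, hKn, hZK, hsup, hZcard, hK, hpK⟩)
    · intro M _ _
      haveI := hnil
      infer_instance
    · intro M hM _
      exact hmin.2 M hM.1
    · intro M hM hpM
      exact dir_back p hp Z K hZn hKn hZK hsup hZcard hK hpK M hM hpM

end Cfsg.Agent.S4242
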