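import Mathlib
import Cfsg.Statements.S1474
import Cfsg.Agent.Lib.Helper1.Fitting2
import Cfsg.Agent.Lib.Helper1.NilpCenter
import Cfsg.Agent.Lib.Helper4.FrobConj
import Cfsg.Agent.Lib.Helper2.MinNonNilp
import Cfsg.Agent.Lib.Helper7.NilpotentSylow
import Cfsg.Agent.S4242
import Cfsg.Agent.S0039
import Cfsg.Agent.Lib.Helper7.SubnJoin

set_option autoImplicit false
set_option maxHeartbeats 800000
open Cfsg

namespace Cfsg.Agent.S1474

open Cfsg.Agent.Lib.Helper1 Cfsg.Agent.Lib.Helper7

section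
variable {G : Type*} [Group G]

theorem nilp_of_le {K H : Subgroup G} (h : K ≤ H) (hH : Group.IsNilpotent ↥H) :
    Group.IsNilpotent ↥K := by
  have e : ↥K ≃* ↥(Subgroup.inclusion h).range :=
    MonoidHom.ofInjective (Subgroup.inclusion_injective h)
  exact Group.nilpotent_of_mulEquiv e.symm

variable [Finite G]

theorem fh_nilpotent : Group.IsNilpotent ↥(fittingHall G) := by
  have hle : fittingHall G ≤ fittingSubgroup G := by
    apply sSup_le
    rintro N ⟨h1, h2, -⟩
    exact le_sSup ⟨h1, h2⟩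
  apply nilp_of_le hle
  rw [fitting_eq_pCoreSup]
  exact pCoreSup_isNilpotent

/-- a `q`-subgroup lies in every normal subgroup of index prime to `q` -/
theorem le_of_not_dvd_index {q : ℕ} [hq : Fact q.Prime] (N : Subgroup G) [N.Normal]
    (hqi : ¬ q ∣ N.index) (Q : Subgroup G) (hQ : IsPGroup q Q) : Q ≤ N := by
  have h1 : Nat.card (Q.map (QuotientGroup.mk' N)) ∣ Nat.card Q := Subgroup.card_map_dvd _ _
  have h2 : Nat.card (Q.map (QuotientGroup.mk' N)) ∣ N.index := by
    rw [Subgroup.index_eq_card]; exact Subgroup.card_subgroup_dvd_card _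
  obtain ⟨k, hk⟩ := (IsPGroup.iff_card).1 hQ
  rw [hk] at h1
  have h3 : Nat.card (Q.map (QuotientGroup.mk' N)) = 1 := by
    have hcop : (q ^ k).Coprime N.index :=
      Nat.Coprime.pow_left k ((Nat.Prime.coprime_iff_not_dvd hq.out).2 hqi)
    exact Nat.eq_one_of_dvd_coprimes hcop h1 h2
  have h4 := Subgroup.card_eq_one.1 h3
  rw [Subgroup.map_eq_bot_iff, QuotientGroup.ker_mk'] at h4
  exact h4

/-- a normal Sylow subgroup lies in `fittingHall` -/
theorem sylow_le_fh {q : ℕ} [Fact q.Prime] (Q : Sylow q G) (hQn : (Q : Subgroup G).Normal) :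
    (Q : Subgroup G) ≤ fittingHall G := by
  apply le_sSup
  exact ⟨hQn, Q.isPGroup'.isNilpotent, Q.card_coprime_index⟩

/-- a Sylow subgroup of `G` contained in a normal nilpotent subgroup is normal in `G` -/
theorem sylow_normal_of_le_nilpotent_normal {q : ℕ} [Fact q.Prime] (Q : Sylow q G)
    (N : Subgroup G) [hN : N.Normal] (hnil : Group.IsNilpotent N) (hQN : (Q : Subgroup G) ≤ N) :
    (Q : Subgroup G).Normal := by
  haveI := hnil
  have h1 : IsPGroup q ((Q : Subgroup G).subgroupOf N) := Q.isPGroup'.comap_subtype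
  obtain ⟨P, hP⟩ := h1.exists_le_sylow
  have hPn : (P : Subgroup ↥N).Normal := inferInstance
  haveI : (P : Subgroup ↥N).Characteristic := Sylow.characteristic_of_normal P hPn
  have hQ1n : ((P : Subgroup ↥N).map N.subtype).Normal :=
    ConjAct.normal_of_characteristic_of_normal
  have hQ1p : IsPGroup q ((P : Subgroup ↥N).map N.subtype) := P.isPGroup'.map _
  have hle : (Q : Subgroup G) ≤ (P : Subgroup ↥N).map N.subtype := by
    intro x hx
    refine ⟨⟨x, hQN hx⟩, hP ?_, rfl⟩
    rw [Subgroup.mem_subgroupOf]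
    exact hx
  have := Q.is_maximal' hQ1p hle
  rw [← this]
  exact hQ1n

/-- if `q` divides the order of `fittingHall G` then the Sylow `q`-subgroups are normal and
contained in it -/
theorem fh_sylow {q : ℕ} [hq : Fact q.Prime] (hqd : q ∣ Nat.card (fittingHall G)) (Q : Sylow q G) :
    (Q : Subgroup G).Normal ∧ (Q : Subgroup G) ≤ fittingHall G := by
  have hex : ∃ N : Subgroup G, N.Normal ∧ Group.IsNilpotent N ∧
      (Nat.card N).Coprime N.index ∧ q ∣ Nat.card N := by
    by_contra hno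
    push_neg at hno
    have hle : fittingHall G ≤ pPrimeCore q G := by
      apply sSup_le
      rintro N ⟨h1, h2, h3⟩
      exact le_pPrimeCore N h1
        ((Nat.Prime.coprime_iff_not_dvd hq.out).2 (hno N h1 h2 h3)).symm
    have hc := pPrimeCore_coprime (G := G) q
    have hd : q ∣ Nat.card (pPrimeCore q G) := hqd.trans (Subgroup.card_dvd_of_le hle)
    exact (Nat.Prime.coprime_iff_not_dvd hq.out).1 hc.symm hd
  obtain ⟨N, hNn, hNnil, hNc, hqN⟩ := hex
  haveI := hNn
  have hqi : ¬ q ∣ N.index := by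
    intro h
    have := Nat.eq_one_of_dvd_coprimes hNc hqN h
    exact hq.out.one_lt.ne' this
  have hQN : (Q : Subgroup G) ≤ N := le_of_not_dvd_index N hqi Q Q.isPGroup'
  have hQn := sylow_normal_of_le_nilpotent_normal Q N hNnil hQN
  exact ⟨hQn, sylow_le_fh Q hQn⟩

theorem fh_coprime : (Nat.card (fittingHall G)).Coprime (fittingHall G).index := by
  by_contra h
  obtain ⟨q, hq, h1, h2⟩ := Nat.Prime.not_coprime_iff_dvd.1 h
  haveI : Fact q.Prime := ⟨hq⟩
  obtain ⟨Q⟩ : Nonempty (Sylow q G) := inferInstance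
  obtain ⟨-, hQ⟩ := fh_sylow h1 Q
  have h3 : (fittingHall G).index ∣ (Q : Subgroup G).index := Subgroup.index_dvd_of_le hQ
  exact Q.not_dvd_index (h2.trans h3)

/-- in a nilpotent subgroup, a `q`-element commutes with every element of order prime to `q` -/
theorem commute_in_nilpotent {q : ℕ} [Fact q.Prime] (C : Subgroup G) (hC : Group.IsNilpotent C)
    (a b : G) (ha : a ∈ C) (hb : b ∈ C) (hao : ∃ k, orderOf a = q ^ k)
    (hbo : (orderOf b).Coprime q) : Commute a b := by
  haveI := hC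
  have h := Cfsg.Agent.S4242.commute_of_coprime (X := ↥C) (p := q) ⟨a, ha⟩ ⟨b, hb⟩
    (by
      obtain ⟨k, hk⟩ := hao
      exact ⟨k, by rw [← hk]; exact Subgroup.orderOf_mk a ha⟩)
    (by rw [Subgroup.orderOf_mk b hb]; exact hbo)
  exact congrArg Subtype.val h

theorem mem_centralizer_singleton {x y : G} : y ∈ Subgroup.centralizer ({x} : Set G) ↔ x * y = y * x := by
  rw [Subgroup.mem_centralizer_iff]
  constructor
  · intro h; exact h x (Set.mem_singleton x)
  · intro h z hz
    rw [Set.mem_singleton_iff] at hz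
    rw [hz]; exact h

/-- a `q`-element commuting with a nonidentity element of `fittingHall G` lies in it -/
theorem qelt_mem (hCN : IsCNGroup G) (x : G) (hx : x ∈ fittingHall G) (hx1 : x ≠ 1)
    {q : ℕ} [hq : Fact q.Prime] (y : G) (hy : ∃ k, orderOf y = q ^ k) (hxy : x * y = y * x) :
    y ∈ fittingHall G := by
  obtain ⟨k, hk⟩ := hy
  have hyp : IsPGroup q (Subgroup.zpowers y) :=
    IsPGroup.of_card (n := k) (by rw [Nat.card_zpowers, hk])
  obtain ⟨Q, hQ⟩ := hyp.exists_le_sylow
  have hyQ : y ∈ (Q : Subgroup G) := hQ (Subgroup.mem_zpowers y)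
  by_cases hqd : q ∣ Nat.card (fittingHall G)
  · exact (fh_sylow hqd Q).2 hyQ
  · -- then `y = 1`
    by_contra hyH
    have hy1 : y ≠ 1 := fun h => hyH (h ▸ Subgroup.one_mem _)
    set H := fittingHall G with hH
    have hHcop : ∀ h ∈ H, (orderOf h).Coprime q := by
      intro h hh
      have h1 : orderOf h ∣ Nat.card H := Subgroup.orderOf_dvd_natCard H hh
      have h2 : (Nat.card H).Coprime q :=
        ((Nat.Prime.coprime_iff_not_dvd hq.out).2 hqd).symm
      exact Nat.Coprime.coprime_dvd_left h1 h2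
    -- a central element of `H`
    haveI hHnil : Group.IsNilpotent ↥H := fh_nilpotent
    have hHne : (⊤ : Subgroup ↥H) ≠ ⊥ := by
      intro h
      have : (⟨x, hx⟩ : ↥H) ∈ (⊥ : Subgroup ↥H) := h ▸ Subgroup.mem_top _
      rw [Subgroup.mem_bot] at this
      exact hx1 (congrArg Subtype.val this)
    obtain ⟨z', -, hz'c, hz'1⟩ := exists_mem_center_of_isNilpotent (⊤ : Subgroup ↥H) hHne
    obtain ⟨z, hz⟩ : ∃ z : G, z = (z' : G) := ⟨_, rfl⟩
    have hzH : z ∈ H := hz ▸ z'.2
    have hz1 : z ≠ 1 := by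
      intro h
      apply hz'1
      apply Subtype.ext
      rw [← hz, h]; rfl
    have hzc : ∀ h ∈ H, z * h = h * z := by
      intro h hh
      have := Subgroup.mem_center_iff.1 hz'c ⟨h, hh⟩
      have h2 := congrArg Subtype.val this
      rw [hz]
      exact h2.symm
    -- step (i): `y` commutes with `z`
    have hyz : Commute y z := by
      apply commute_in_nilpotent (Subgroup.centralizer ({x} : Set G)) (hCN x hx1) y z
        (mem_centralizer_singleton.2 hxy) (mem_centralizer_singleton.2 (hzc x hx).symm)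
        ⟨k, hk⟩ (hHcop z hzH)
    -- step (ii): `y` centralizes `H`
    have hyH' : ∀ h ∈ H, Commute y h := by
      intro h hh
      apply commute_in_nilpotent (Subgroup.centralizer ({z} : Set G)) (hCN z hz1) y h
        (mem_centralizer_singleton.2 hyz.eq.symm) (mem_centralizer_singleton.2 (hzc h hh))
        ⟨k, hk⟩ (hHcop h hh)
    -- step (iii)
    haveI hHn : H.Normal := fittingHall_normal G
    set CH := Subgroup.centralizer (H : Set G) with hCH
    haveI hCHn : CH.Normal := Subgroup.normal_centralizer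
    have hyCH : y ∈ CH := by
      rw [hCH, Subgroup.mem_centralizer_iff]
      intro h hh
      exact (hyH' h hh).eq.symm
    haveI hQnil : Group.IsNilpotent ↥(Q : Subgroup G) := Q.isPGroup'.isNilpotent
    have hNne : CH.subgroupOf (Q : Subgroup G) ≠ ⊥ := by
      intro h
      have : (⟨y, hyQ⟩ : ↥(Q : Subgroup G)) ∈ CH.subgroupOf (Q : Subgroup G) := by
        rw [Subgroup.mem_subgroupOf]; exact hyCH
      rw [h, Subgroup.mem_bot] at this
      exact hy1 (congrArg Subtype.val this)
    obtain ⟨u', hu'N, hu'c, hu'1⟩ :=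
      exists_mem_center_of_isNilpotent (CH.subgroupOf (Q : Subgroup G)) hNne
    obtain ⟨u, hu⟩ : ∃ u : G, u = (u' : G) := ⟨_, rfl⟩
    have huCH : u ∈ CH := by
      rw [hu]; exact Subgroup.mem_subgroupOf.1 hu'N
    have hu1 : u ≠ 1 := by
      intro h
      apply hu'1
      apply Subtype.ext
      rw [← hu, h]; rfl
    have huQ : ∀ a ∈ (Q : Subgroup G), u * a = a * u := by
      intro a ha
      have := Subgroup.mem_center_iff.1 hu'c ⟨a, ha⟩
      have h2 := congrArg Subtype.val this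
      rw [hu]
      exact h2.symm
    have huH : ∀ h ∈ H, u * h = h * u := by
      intro h hh
      rw [hCH, Subgroup.mem_centralizer_iff] at huCH
      exact (huCH h hh).symm
    have hQCH : (Q : Subgroup G) ≤ CH := by
      intro a ha
      rw [hCH, Subgroup.mem_centralizer_iff]
      intro h hh
      have hao : ∃ k, orderOf a = q ^ k := by
        obtain ⟨j, hj⟩ := (IsPGroup.iff_orderOf).1 Q.isPGroup' ⟨a, ha⟩
        exact ⟨j, by rw [← hj]; exact (Subgroup.orderOf_mk a ha).symm⟩
      have := commute_in_nilpotent (Subgroup.centralizer ({u} : Set G)) (hCN u hu1) a h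
        (mem_centralizer_singleton.2 (huQ a ha)) (mem_centralizer_singleton.2 (huH h hh))
        hao (hHcop h hh)
      exact this.eq.symm
    have hCHnil : Group.IsNilpotent ↥CH := by
      apply nilp_of_le _ (hCN z hz1)
      intro c hc
      rw [hCH, Subgroup.mem_centralizer_iff] at hc
      exact mem_centralizer_singleton.2 (hc z hzH)
    have hQn := sylow_normal_of_le_nilpotent_normal Q CH hCHnil hQCH
    exact hyH (sylow_le_fh Q hQn hyQ)

theorem centralizer_le_fh (hCN : IsCNGroup G) (x : G) (hx : x ∈ fittingHall G) (hx1 : x ≠ 1) :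
    Subgroup.centralizer ({x} : Set G) ≤ fittingHall G := by
  set C := Subgroup.centralizer ({x} : Set G) with hC
  rw [← Subgroup.subgroupOf_eq_top]
  apply eq_top_of_forall_sylow_le
  intro q hq
  obtain ⟨Q⟩ : Nonempty (Sylow q ↥C) := inferInstance
  refine ⟨Q, ?_⟩
  intro y hy
  rw [Subgroup.mem_subgroupOf]
  apply qelt_mem hCN x hx hx1 (q := q) (y : G)
  · obtain ⟨j, hj⟩ := (IsPGroup.iff_orderOf).1 Q.isPGroup' ⟨y, hy⟩
    refine ⟨j, ?_⟩
    rw [← hj, Subgroup.orderOf_mk y hy, Subgroup.orderOf_coe]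
  · exact mem_centralizer_singleton.1 y.2

/-- a central element of prime order in a nontrivial `q`-subgroup -/
theorem exists_central_prime {q : ℕ} [hq : Fact q.Prime] (A : Subgroup G) (hA : IsPGroup q A)
    (hA1 : A ≠ ⊥) : ∃ w ∈ A, orderOf w = q ∧ ∀ a ∈ A, w * a = a * w := by
  haveI : Group.IsNilpotent ↥A := hA.isNilpotent
  have hne : (⊤ : Subgroup ↥A) ≠ ⊥ := by
    intro h
    apply hA1
    rw [eq_bot_iff]
    intro a ha
    have : (⟨a, ha⟩ : ↥A) ∈ (⊥ : Subgroup ↥A) := h ▸ Subgroup.mem_top _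
    rw [Subgroup.mem_bot] at this
    rw [Subgroup.mem_bot]
    exact congrArg Subtype.val this
  obtain ⟨z', -, hz'c, hz'1⟩ := exists_mem_center_of_isNilpotent (⊤ : Subgroup ↥A) hne
  obtain ⟨j, hj⟩ := (IsPGroup.iff_orderOf).1 hA z'
  have hj0 : j ≠ 0 := by
    rintro rfl
    rw [pow_zero, orderOf_eq_one_iff] at hj
    exact hz'1 hj
  obtain ⟨z, hz⟩ : ∃ z : G, z = (z' : G) := ⟨_, rfl⟩
  have hzo : orderOf z = q ^ j := by rw [hz, Subgroup.orderOf_coe]; exact hj
  have hzc : ∀ a ∈ A, z * a = a * z := by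
    intro a ha
    have := Subgroup.mem_center_iff.1 hz'c ⟨a, ha⟩
    have h2 := congrArg Subtype.val this
    rw [hz]
    exact h2.symm
  refine ⟨z ^ (q ^ (j - 1)), A.pow_mem (hz ▸ z'.2) _, ?_, ?_⟩
  · have hd : q ^ (j - 1) ∣ orderOf z := by rw [hzo]; exact pow_dvd_pow q (Nat.sub_le j 1)
    rw [orderOf_pow_of_dvd (pow_ne_zero _ hq.out.ne_zero) hd, hzo, Nat.pow_div (Nat.sub_le j 1) hq.out.pos]
    have : j - (j - 1) = 1 := by omega
    rw [this, pow_one]
  · intro a ha
    exact (Commute.pow_left (show Commute z a from hzc a ha) _).eq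

/-- a CN-group acting without fixed points on a nontrivial normal complement is nilpotent -/
theorem complement_nilpotent (hCN : IsCNGroup G) (K E : Subgroup G) [K.Normal]
    (hc : Subgroup.IsComplement' K E) (hK : K ≠ ⊥)
    (hfpf : ∀ h ∈ E, h ≠ 1 → K ⊓ Subgroup.centralizer {h} = ⊥) : Group.IsNilpotent ↥E := by
  classical
  by_contra hnn
  obtain ⟨S, ⟨hSE, hSnn⟩, hSmin⟩ := Set.exists_min_image
    {S : Subgroup G | S ≤ E ∧ ¬ Group.IsNilpotent ↥S} (fun S => Nat.card S) (Set.toFinite _)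
    ⟨E, le_refl _, hnn⟩
  have hsub : ∀ T : Subgroup ↥S, T ≠ ⊤ → Group.IsNilpotent ↥T := by
    intro T hT
    by_contra hTn
    have hT' : T.map S.subtype ≤ E := (Subgroup.map_subtype_le T).trans hSE
    have e : ↥T ≃* ↥(T.map S.subtype) := T.equivMapOfInjective S.subtype S.subtype_injective
    have hTn' : ¬ Group.IsNilpotent ↥(T.map S.subtype) := fun h => hTn (by
      haveI := h; exact Group.nilpotent_of_mulEquiv e.symm)
    have h1 : Nat.card S ≤ Nat.card ↥(T.map S.subtype) := hSmin (T.map S.subtype) ⟨hT', hTn'⟩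
    have hlt : Nat.card T < Nat.card S := Cfsg.Agent.Lib.Helper4.card_lt_of_ne_top T hT
    have h2 : Nat.card ↥(T.map S.subtype) = Nat.card T := (Nat.card_congr e.toEquiv).symm
    omega
  obtain ⟨p, q, hp, hq, hpq, P, Q, hPcyc, hQn, hPnn, hPQ⟩ :=
    Cfsg.Agent.Lib.Helper2.minNonNilp_structure hSnn hsub
  set Qg : Subgroup G := (Q : Subgroup ↥S).map S.subtype with hQg
  set Rg : Subgroup G := (P : Subgroup ↥S).map S.subtype with hRg
  have hsup : Rg ⊔ Qg = S := by
    rw [hRg, hQg, ← Subgroup.map_sup, hPQ, ← MonoidHom.range_eq_map, Subgroup.range_subtype]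
  have hQgS : Qg ≤ S := Subgroup.map_subtype_le _
  have hRgS : Rg ≤ S := Subgroup.map_subtype_le _
  have hQgp : IsPGroup q Qg := Q.isPGroup'.map _
  have hQg1 : Qg ≠ ⊥ := by
    intro h
    apply hPnn
    have hQ0 : (Q : Subgroup ↥S) = ⊥ := by
      rw [hQg, Subgroup.map_eq_bot_iff_of_injective _ S.subtype_injective] at h
      exact h
    rw [hQ0, sup_bot_eq] at hPQ
    rw [hPQ]
    infer_instance
  -- a central element of order `q` in `Qg`
  obtain ⟨w, hwQ, hwo, hwc⟩ := exists_central_prime Qg hQgp hQg1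
  have hw1 : w ≠ 1 := by
    intro h
    rw [h, orderOf_one] at hwo
    exact hq.out.one_lt.ne hwo
  set W := Subgroup.zpowers w with hW
  have hWQ : W ≤ Qg := by rw [hW, Subgroup.zpowers_le]; exact hwQ
  have hcardW : Nat.card W = q := by rw [hW, Nat.card_zpowers, hwo]
  -- a generator of `P`
  obtain ⟨g, hg⟩ := IsCyclic.exists_generator (α := ↥(P : Subgroup ↥S))
  obtain ⟨y, hy⟩ : ∃ y : G, y = ((g : ↥S) : G) := ⟨_, rfl⟩
  have hyRg : y ∈ Rg := ⟨(g : ↥S), g.2, hy.symm⟩
  have hRgy : Rg ≤ Subgroup.zpowers y := by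
    rintro _ ⟨s, hs, rfl⟩
    obtain ⟨n, hn⟩ := Subgroup.mem_zpowers_iff.1 (hg ⟨s, hs⟩)
    rw [Subgroup.mem_zpowers_iff]
    refine ⟨n, ?_⟩
    have h2 := congrArg (fun t : ↥(P : Subgroup ↥S) => ((t : ↥S) : G)) hn
    rw [hy]
    simpa using h2
  have hyo : ∃ k, orderOf y = p ^ k := by
    obtain ⟨k, hk⟩ := (IsPGroup.iff_orderOf).1 P.isPGroup' g
    refine ⟨k, ?_⟩
    rw [hy, Subgroup.orderOf_coe, Subgroup.orderOf_coe]
    exact hk
  have hy1 : y ≠ 1 := by
    intro h
    apply hPnn
    have hP0 : (P : Subgroup ↥S) = ⊥ := by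
      rw [eq_bot_iff]
      intro s hs
      have h3 : (s : G) ∈ Subgroup.zpowers y := hRgy ⟨s, hs, rfl⟩
      rw [h, Subgroup.zpowers_one_eq_bot, Subgroup.mem_bot] at h3
      rw [Subgroup.mem_bot]
      exact Subtype.ext h3
    rw [hP0]
    infer_instance
  -- `y` normalizes `Qg`
  have hyS : y ∈ S := hRgS hyRg
  have hyQg : ∀ a ∈ Qg, y * a * y⁻¹ ∈ Qg := by
    rintro _ ⟨a', ha', rfl⟩
    refine ⟨(g : ↥S) * a' * (g : ↥S)⁻¹, hQn.conj_mem a' ha' _, ?_⟩
    rw [hy]
    simp
  -- `y` normalizes `W`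
  have hyW : y ∈ Subgroup.normalizer (W : Set G) := by
    set X : Subgroup G := W.map (MulAut.conj y).toMonoidHom with hX
    have hXQ : X ≤ Qg := by
      rintro _ ⟨a, ha, rfl⟩
      exact hyQg a (hWQ ha)
    have hcardX : Nat.card X = q := by
      rw [hX, Subgroup.card_map_of_injective (MulAut.conj y).injective]
      exact hcardW
    have hXW : X = W := Cfsg.Agent.Lib.Helper4.frobcomp_unique_order_p K E hc hK hfpf Qg
      (hQgS.trans hSE) hQgp X W hXQ hWQ hcardX hcardW
    apply Cfsg.Agent.Lib.Helper7.SubnJoin.mem_normalizer_of_forall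
    intro h hh
    rw [← hXW]
    exact ⟨h, hh, rfl⟩
  -- the element of order `p` in `⟨y⟩`
  obtain ⟨k, hk⟩ := hyo
  have hk0 : k ≠ 0 := by
    rintro rfl
    rw [pow_zero, orderOf_eq_one_iff] at hk
    exact hy1 hk
  obtain ⟨y₁, hy₁⟩ : ∃ y₁ : G, y₁ = y ^ (p ^ (k - 1)) := ⟨_, rfl⟩
  have hy₁o : orderOf y₁ = p := by
    have hd : p ^ (k - 1) ∣ orderOf y := by rw [hk]; exact pow_dvd_pow p (Nat.sub_le k 1)
    rw [hy₁, orderOf_pow_of_dvd (pow_ne_zero _ hp.out.ne_zero) hd, hk,
      Nat.pow_div (Nat.sub_le k 1) hp.out.pos]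
    have : k - (k - 1) = 1 := by omega
    rw [this, pow_one]
  have hy₁1 : y₁ ≠ 1 := by
    intro h
    rw [h, orderOf_one] at hy₁o
    exact hp.out.one_lt.ne hy₁o
  have hy₁E : y₁ ∈ E := hy₁ ▸ E.pow_mem (hSE hyS) _
  have hy₁W : y₁ ∈ Subgroup.normalizer (W : Set G) := hy₁ ▸ Subgroup.pow_mem _ hyW _
  have hcent := Cfsg.Agent.Lib.Helper4.frobcomp_pq_centralizes K E hc hK hfpf hp.out hq.out hpq W y₁
    ((hWQ.trans hQgS).trans hSE) hy₁E hcardW hy₁o hy₁W
  have hy₁w : y₁ * w = w * y₁ := hcent w (Subgroup.mem_zpowers w)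
  have hyy₁ : y₁ * y = y * y₁ := by
    rw [hy₁]
    exact ((Commute.refl y).pow_left _).eq
  -- `y` commutes with `w`
  have hyw : Commute y w := by
    apply commute_in_nilpotent (q := p) (Subgroup.centralizer ({y₁} : Set G)) (hCN y₁ hy₁1) y w
      (mem_centralizer_singleton.2 hyy₁) (mem_centralizer_singleton.2 hy₁w) ⟨k, hk⟩
    rw [hwo]
    exact (Nat.coprime_primes hq.out hp.out).2 (Ne.symm hpq)
  -- `S` centralizes `w`
  have hSw : S ≤ Subgroup.centralizer ({w} : Set G) := by
    rw [← hsup]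
    apply sup_le
    · refine hRgy.trans ?_
      rw [Subgroup.zpowers_le]
      exact mem_centralizer_singleton.2 hyw.eq.symm
    · intro a ha
      exact mem_centralizer_singleton.2 (hwc a ha)
  exact hSnn (nilp_of_le hSw (hCN w hw1))

end

/-- Let G be a finite group in which every non-identity element has nilpotent centralizer, not itself nilpotent, and having a nontrivial normal Sylow p-subgroup for some prime p. Let H be the largest normal nilpotent Hall subgroup of G. Then H is a nontrivial proper normal subgroup with a complement E that is a Frobenius complement in G (no non-identity element of E centralizes a non-identity element of H), and G/H is nilpotent. -/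
theorem result {G : Type*} [Group G] [Finite G] (hCN : Cfsg.IsCNGroup G) (hnn : ¬ Group.IsNilpotent G) (p : ℕ) [Fact p.Prime] (P : Sylow p G)
    (hP1 : (P : Subgroup G) ≠ ⊥) (hPn : (P : Subgroup G).Normal) :
    Cfsg.fittingHall G ≠ ⊥ ∧ Cfsg.fittingHall G ≠ ⊤ ∧
      (∃ E : Subgroup G, Subgroup.IsComplement' (Cfsg.fittingHall G) E ∧ Cfsg.IsFrobeniusComplement E ∧
        ∀ e ∈ E, e ≠ 1 → Cfsg.fittingHall G ⊓ Subgroup.centralizer ({e} : Set G) = ⊥) ∧
      Group.IsNilpotent (G ⧸ Cfsg.fittingHall G) := by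
  have hHn : (fittingHall G).Normal := fittingHall_normal G
  have hPle : (P : Subgroup G) ≤ fittingHall G := sylow_le_fh P hPn
  have hH1 : fittingHall G ≠ ⊥ := fun h => hP1 (le_bot_iff.1 (h ▸ hPle))
  have hHt : fittingHall G ≠ ⊤ := by
    intro h
    apply hnn
    have h2 := fh_nilpotent (G := G)
    rw [h] at h2
    haveI := h2
    exact Group.nilpotent_of_mulEquiv Subgroup.topEquiv
  obtain ⟨E, hc⟩ := Subgroup.exists_right_complement'_of_coprime (fh_coprime (G := G))
  have hfpf : ∀ e ∈ E, e ≠ 1 → fittingHall G ⊓ Subgroup.centralizer ({e} : Set G) = ⊥ := by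
    intro e heE he1
    rw [eq_bot_iff]
    intro h hh
    rw [Subgroup.mem_bot]
    by_contra hh1
    obtain ⟨hhH, hhc⟩ := Subgroup.mem_inf.1 hh
    have h3 : e ∈ Subgroup.centralizer ({h} : Set G) :=
      mem_centralizer_singleton.2 (mem_centralizer_singleton.1 hhc).symm
    have heH := centralizer_le_fh hCN h hhH hh1 h3
    have h4 : e ∈ fittingHall G ⊓ E := ⟨heH, heE⟩
    rw [hc.disjoint.eq_bot, Subgroup.mem_bot] at h4
    exact he1 h4
  have hE1 : E ≠ ⊥ := by
    intro h
    apply hHt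
    have h2 := hc.card_mul_card
    rw [h, Subgroup.card_bot, mul_one] at h2
    exact (Subgroup.card_eq_iff_eq_top _).1 h2
  have hEnil := complement_nilpotent hCN (fittingHall G) E hc hH1 hfpf
  refine ⟨hH1, hHt, ⟨E, hc, (Cfsg.Agent.S0039.result _ E hc hH1 hE1).2 hfpf, hfpf⟩, ?_⟩
  haveI := hEnil
  exact Group.nilpotent_of_mulEquiv (hc.symm.QuotientMulEquiv).symm

end Cfsg.Agent.S1474
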