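import Cfsg.Statements.S1196
import Mathlib
import Cfsg.Agent.Lib.Helper6.W2

set_option autoImplicit false
open Cfsg Cfsg.Agent.Lib.Helper6

namespace Cfsg.Agent.S1196

theorem wdat_of_isWreathed {S : Type*} [Group S] (hS : Cfsg.IsWreathed S) :
    Nonempty (WDat S) := by
  obtain ⟨n, hn, hcard, x, y, z, hx, hxy, hdisj, hz, hzx⟩ := hS
  exact ⟨⟨n, hn, hcard, x, y, z, hx, hxy, hdisj, hz, hzx⟩⟩

theorem U_unique {S : Type*} [Group S] (d : WDat S) (U' : Subgroup S)
    (hc : IsMulCommutative U') (hcard : Nat.card U' = 2 ^ (2 * d.n)) : U' = d.U := by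
  haveI := d.finite
  haveI := d.U_normal
  have hn := d.hn
  by_contra hne
  have hidx' : U'.index = 2 := by
    have h1 := Subgroup.card_mul_index U'
    rw [hcard, d.card, pow_succ] at h1
    exact Nat.eq_of_mul_eq_mul_left (by positivity) h1
  obtain ⟨g, hgU', hgU⟩ : ∃ g ∈ U', g ∉ d.U := by
    by_contra hcon
    push Not at hcon
    apply hne
    apply Subgroup.eq_of_le_of_card_ge hcon
    rw [hcard, d.U_card]
  have hcomm' : ∀ a ∈ U', ∀ b ∈ U', a * b = b * a := by
    intro a ha b hb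
    exact congrArg Subtype.val (hc.is_comm.comm ⟨a, ha⟩ ⟨b, hb⟩)
  have hle : d.U ⊓ U' ≤ Subgroup.center S := by
    intro c hcm
    obtain ⟨hcU, hcU'⟩ := Subgroup.mem_inf.1 hcm
    rw [Subgroup.mem_center_iff]
    intro s
    by_cases hs : s ∈ d.U
    · exact d.U_comm s c hs hcU
    · have h1 : g⁻¹ * s ∈ d.U := by
        rw [Subgroup.mul_mem_iff_of_index_two d.U_index]
        constructor
        · intro h; exact absurd (by simpa using Subgroup.inv_mem _ h) hgU
        · intro h; exact absurd h hs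
      have h2 : (g⁻¹ * s) * c = c * (g⁻¹ * s) := d.U_comm _ _ h1 hcU
      have h3 : g * c = c * g := hcomm' g hgU' c hcU'
      calc s * c = g * ((g⁻¹ * s) * c) := by group
        _ = g * (c * (g⁻¹ * s)) := by rw [h2]
        _ = (g * c) * (g⁻¹ * s) := by group
        _ = (c * g) * (g⁻¹ * s) := by rw [h3]
        _ = c * s := by group
  have hcard_le := Subgroup.card_le_of_le hle
  rw [d.card_center] at hcard_le
  have hidx : (d.U ⊓ U').index ∣ 4 := by
    rw [← Subgroup.relIndex_mul_index (inf_le_right : d.U ⊓ U' ≤ U'), Subgroup.inf_relIndex_right,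
      hidx']
    have := Subgroup.relIndex_dvd_index_of_normal d.U U'
    rw [d.U_index] at this
    exact Nat.mul_dvd_mul this (dvd_refl 2)
  have h4 := Nat.le_of_dvd (by norm_num) hidx
  have h5 := Subgroup.card_mul_index (d.U ⊓ U')
  rw [d.card] at h5
  have h6 : 2 ^ (2 * d.n + 1) ≤ 2 ^ d.n * 4 := by
    rw [← h5]; exact Nat.mul_le_mul hcard_le h4
  have h7 : 2 ^ d.n * 4 = 2 ^ (d.n + 2) := by rw [pow_add]; norm_num
  rw [h7] at h6
  have := (Nat.pow_le_pow_iff_right (by norm_num : 1 < 2)).1 h6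
  omega

theorem U_iso {S : Type*} [Group S] (d : WDat S) :
    Nonempty (d.U ≃* Multiplicative (ZMod (2 ^ d.n) × ZMod (2 ^ d.n))) := by
  have e1 : (Subgroup.zpowers d.x × Subgroup.zpowers d.y) ≃* d.prodHom.range :=
    MonoidHom.ofInjective d.prodHom_injective
  have e2 : d.prodHom.range ≃* d.U := MulEquiv.subgroupCongr d.U_eq_range.symm
  haveI : NeZero (2 ^ d.n) := ⟨by positivity⟩
  have hcz : Nat.card (Multiplicative (ZMod (2 ^ d.n))) = 2 ^ d.n := by
    rw [Nat.card_eq_fintype_card, Fintype.card_multiplicative, ZMod.card]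
  have e3 : Subgroup.zpowers d.x ≃* Multiplicative (ZMod (2 ^ d.n)) :=
    mulEquivOfCyclicCardEq (by rw [Nat.card_zpowers, d.hx, hcz])
  have e4 : Subgroup.zpowers d.y ≃* Multiplicative (ZMod (2 ^ d.n)) :=
    mulEquivOfCyclicCardEq (by rw [Nat.card_zpowers, d.orderOf_y, hcz])
  exact ⟨(e2.symm.trans e1.symm).trans ((MulEquiv.prodCongr e3 e4).trans
    (MulEquiv.prodMultiplicative _ _).symm)⟩

theorem main1196 {S : Type*} [Group S] [Finite S] (hS : Cfsg.IsWreathed S) (n : ℕ) (hn : Nat.card S = 2 ^ (2 * n + 1)) : (∃! U : Subgroup S, IsMulCommutative U ∧ Nat.card U = 2 ^ (2 * n)) ∧ ∀ U : Subgroup S, IsMulCommutative U → Nat.card U = 2 ^ (2 * n) → Nonempty (U ≃* Multiplicative (ZMod (2 ^ n) × ZMod (2 ^ n))) := by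
  obtain ⟨d⟩ := wdat_of_isWreathed hS
  have hnn : d.n = n := by
    have h1 := d.card
    rw [hn] at h1
    have := Nat.pow_right_injective (le_refl 2) h1
    omega
  subst hnn
  refine ⟨⟨d.U, ⟨d.U_isMulCommutative, d.U_card⟩, ?_⟩, ?_⟩
  · rintro U' ⟨hc, hcard⟩
    exact U_unique d U' hc hcard
  · intro U' hc hcard
    rw [U_unique d U' hc hcard]
    exact U_iso d


/-- A wreathed 2-group S of order 2^(2n+1) has a unique commutative subgroup of order 2^(2n), and this subgroup is isomorphic to the direct product of two cyclic groups of order 2^n. -/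
theorem result {S : Type*} [Group S] [Finite S] (hS : Cfsg.IsWreathed S) (n : ℕ) (hn : Nat.card S = 2 ^ (2 * n + 1)) : (∃! U : Subgroup S, IsMulCommutative U ∧ Nat.card U = 2 ^ (2 * n)) ∧ ∀ U : Subgroup S, IsMulCommutative U → Nat.card U = 2 ^ (2 * n) → Nonempty (U ≃* Multiplicative (ZMod (2 ^ n) × ZMod (2 ^ n))) := by
  exact main1196 hS n hn

end Cfsg.Agent.S1196
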