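import Cfsg.Statements.S1225
import Mathlib
import Cfsg.Agent.Lib.Helper6.SE

set_option autoImplicit false
open Cfsg Cfsg.Agent.Lib.Helper6 Cfsg.Agent.Lib.Helper1

namespace Cfsg.Agent.S1225

theorem main1225 {G : Type*} [Group G] [Finite G] (H : Subgroup G) (hH : Cfsg.IsStronglyEmbedded H) (u : G) (hu : orderOf u = 2) (huH : u ∉ H) (s t : G) (hs : orderOf s = 2) (hsH : s ∈ H) (ht : orderOf t = 2) (htH : t ∈ H) : (∃ d ∈ (H ⊓ H.map (MulAut.conj u).toMonoidHom), d * s * d⁻¹ = t) ∧ ∀ a b : G, orderOf a = 2 → orderOf b = 2 → IsConj a b := by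
  constructor
  · obtain ⟨b, hb⟩ : ∃ b : G, b = u * t * u⁻¹ := ⟨_, rfl⟩
    have hbo : orderOf b = 2 := by rw [hb, orderOf_conj, ht]
    have hbH : b ∉ H := by
      intro h
      apply huH
      have h2 : (u⁻¹)⁻¹ * t * u⁻¹ ∈ H := by rw [inv_inv, ← hb]; exact h
      have := se_mem_of_conj_mem hH t htH ht u⁻¹ h2
      have := H.inv_mem this
      rw [inv_inv] at this
      exact this
    obtain ⟨m, hm⟩ : ∃ m : G, m = mid s b := ⟨_, rfl⟩
    have hmc : m * s * m⁻¹ = b := by rw [hm]; exact mid_conj' hH s b hsH hs hbo hbH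
    have hmo : orderOf m = 2 := by rw [hm]; exact orderOf_mid hH s b hsH hs hbo hbH
    have hmi : m⁻¹ = m := Cfsg.Agent.S1922.inv_eq_self_of_sq m (sq_of_orderOf_two m hmo)
    have hui : u⁻¹ = u := Cfsg.Agent.S1922.inv_eq_self_of_sq u (sq_of_orderOf_two u hu)
    have hconj : (u⁻¹ * m) * s * (u⁻¹ * m)⁻¹ = t := by
      have e : (u⁻¹ * m) * s * (u⁻¹ * m)⁻¹ = u⁻¹ * (m * s * m⁻¹) * u := by group
      rw [e, hmc, hb]; group
    have hdH : u⁻¹ * m ∈ H := by
      have h2 : ((u⁻¹ * m)⁻¹)⁻¹ * s * (u⁻¹ * m)⁻¹ ∈ H := by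
        rw [inv_inv, hconj]; exact htH
      have := se_mem_of_conj_mem hH s hsH hs _ h2
      have := H.inv_mem this
      rw [inv_inv] at this
      exact this
    refine ⟨u⁻¹ * m, Subgroup.mem_inf.2 ⟨hdH, ?_⟩, hconj⟩
    rw [mem_map_conj_iff]
    have e : u⁻¹ * (u⁻¹ * m) * u = (u⁻¹ * m)⁻¹ := by
      rw [mul_inv_rev, inv_inv, hmi, hui, ← mul_assoc, ← pow_two, sq_of_orderOf_two u hu, one_mul]
    rw [e]
    exact H.inv_mem hdH
  · intro a b ha hb
    by_cases haH : a ∈ H
    · by_cases hbH : b ∈ H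
      · exact (se_isConj hH a u haH ha hu huH).trans (se_isConj hH b u hbH hb hu huH).symm
      · exact se_isConj hH a b haH ha hb hbH
    · by_cases hbH : b ∈ H
      · exact (se_isConj hH b a hbH hb ha haH).symm
      · exact (se_isConj hH s a hsH hs ha haH).symm.trans (se_isConj hH s b hsH hs hb hbH)


/-- Let H be a strongly embedded subgroup of the finite group G, u an involution outside H and D = H ∩ uHu⁻¹. Then any two involutions of H are conjugate by an element of D, and any two involutions of G are conjugate in G. -/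
theorem result {G : Type*} [Group G] [Finite G] (H : Subgroup G) (hH : Cfsg.IsStronglyEmbedded H) (u : G) (hu : orderOf u = 2) (huH : u ∉ H) (s t : G) (hs : orderOf s = 2) (hsH : s ∈ H) (ht : orderOf t = 2) (htH : t ∈ H) : (∃ d ∈ (H ⊓ H.map (MulAut.conj u).toMonoidHom), d * s * d⁻¹ = t) ∧ ∀ a b : G, orderOf a = 2 → orderOf b = 2 → IsConj a b := by
  exact main1225 H hH u hu huH s t hs hsH ht htH

end Cfsg.Agent.S1225
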