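import Mathlib
import Cfsg.Statements.S1226
import Cfsg.Agent.Lib.Helper3.Conj

set_option autoImplicit false
open Cfsg
open Cfsg.Agent.Lib.Helper3

namespace Cfsg.Agent.S1226

variable {G : Type*} [Group G]

/-- An involution normalizing a Sylow 2-subgroup lies in it. -/
lemma invol_mem_of_mem_normalizer [Finite G] (T : Sylow 2 G) (u : G) (hu : orderOf u = 2)
    (huN : u ∈ Subgroup.normalizer ((T : Subgroup G) : Set G)) : u ∈ (T : Subgroup G) := by
  have hp2 : Fact (Nat.Prime 2) := ⟨Nat.prime_two⟩
  have hZ : IsPGroup 2 (Subgroup.zpowers u) := by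
    apply IsPGroup.of_card (n := 1)
    rw [Nat.card_zpowers, hu, pow_one]
  have hle : Subgroup.zpowers u ≤ Subgroup.normalizer ((T : Subgroup G) : Set G) :=
    Subgroup.zpowers_le.mpr huN
  have hsup : IsPGroup 2 (Subgroup.zpowers u ⊔ (T : Subgroup G) : Subgroup G) :=
    IsPGroup.to_sup_of_normal_right' hZ T.2 hle
  have := T.is_maximal' hsup le_sup_right
  have h2 : Subgroup.zpowers u ≤ (T : Subgroup G) := by
    rw [← this]; exact le_sup_left
  exact h2 (Subgroup.mem_zpowers u)

theorem result {G : Type*} [Group G] [Finite G] (T : Sylow 2 G) (hnc : ¬ IsCyclic (T : Subgroup G)) (hnn : ¬ (T : Subgroup G).Normal) (hC : ∀ t : G, orderOf t = 2 → IsMulCommutative (Subgroup.centralizer ({t} : Set G)) ∧ ∀ c ∈ Subgroup.centralizer ({t} : Set G), c ^ 2 = 1) : Cfsg.IsStronglyEmbedded (Subgroup.normalizer ((T : Subgroup G) : Set G)) := by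
  classical
  have hp2 : Fact (Nat.Prime 2) := ⟨Nat.prime_two⟩
  set H := Subgroup.normalizer ((T : Subgroup G) : Set G) with hH
  have hTH : (T : Subgroup G) ≤ H := Subgroup.le_normalizer
  -- T nontrivial
  have hTnt : Nontrivial (T : Subgroup G) := by
    by_contra h
    rw [not_nontrivial_iff_subsingleton] at h
    exact hnc inferInstance
  -- centralizer of an involution of T equals T
  have hcent2 : ∀ t : G, orderOf t = 2 → IsPGroup 2 (Subgroup.centralizer ({t} : Set G)) := by
    intro t ht c
    refine ⟨1, ?_⟩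
    apply Subtype.ext
    have := (hC t ht).2 c.1 c.2
    simpa using this
  -- central involution
  have hTp : IsPGroup 2 (T : Subgroup G) := T.2
  have hcnt : Nontrivial (Subgroup.center (T : Subgroup G)) := hTp.center_nontrivial
  have hcp : IsPGroup 2 (Subgroup.center (T : Subgroup G)) := hTp.to_subgroup _
  have h2dvd : 2 ∣ Nat.card (Subgroup.center (T : Subgroup G)) := by
    rcases hcp.card_eq_or_dvd with h | h
    · exfalso
      have := Finite.one_lt_card_iff_nontrivial.mpr hcnt
      omega
    · exact h
  obtain ⟨z', hz'⟩ := exists_prime_orderOf_dvd_card' 2 h2dvd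
  set z : G := ((z' : (T : Subgroup G)) : G) with hz
  have hzo : orderOf z = 2 := by
    rw [hz, Subgroup.orderOf_coe, Subgroup.orderOf_coe]; exact hz'
  have hzT : z ∈ (T : Subgroup G) := (z' : (T : Subgroup G)).2
  have hzc : ∀ t ∈ (T : Subgroup G), t * z = z * t := by
    intro t ht
    have := Subgroup.mem_center_iff.mp z'.2 ⟨t, ht⟩
    exact congrArg Subtype.val this
  have hTCz : (T : Subgroup G) ≤ Subgroup.centralizer ({z} : Set G) := by
    intro t ht
    rw [Subgroup.mem_centralizer_iff]
    intro w hw
    rw [Set.mem_singleton_iff] at hw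
    subst hw
    exact (hzc t ht).symm
  have hCzT : Subgroup.centralizer ({z} : Set G) = (T : Subgroup G) :=
    T.is_maximal' (hcent2 z hzo) hTCz
  -- T is abelian
  have hTab : ∀ a ∈ (T : Subgroup G), ∀ b ∈ (T : Subgroup G), a * b = b * a := by
    intro a ha b hb
    have hcomm := (hC z hzo).1
    have := hcomm.is_comm.comm (⟨a, hTCz ha⟩ : Subgroup.centralizer ({z} : Set G)) ⟨b, hTCz hb⟩
    exact congrArg Subtype.val this
  -- centralizer of any involution of T is T
  have hCu : ∀ u ∈ (T : Subgroup G), orderOf u = 2 → Subgroup.centralizer ({u} : Set G) = (T : Subgroup G) := by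
    intro u huT huo
    apply T.is_maximal' (hcent2 u huo)
    intro t ht
    rw [Subgroup.mem_centralizer_iff]
    intro w hw
    rw [Set.mem_singleton_iff] at hw
    subst hw
    exact hTab w huT t ht
  refine ⟨?_, ?_, ?_⟩
  · intro htop
    apply hnn
    rw [hH] at htop
    exact Subgroup.normalizer_eq_top_iff.mp htop
  · have h1 : Nat.card (T : Subgroup G) ∣ Nat.card H := Subgroup.card_dvd_of_le hTH
    have h2 : 2 ∣ Nat.card (T : Subgroup G) := by
      rcases hTp.card_eq_or_dvd with h | h
      · exfalso
        have := Finite.one_lt_card_iff_nontrivial.mpr hTnt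
        omega
      · exact h
    exact even_iff_two_dvd.mpr (dvd_trans h2 h1)
  · intro g hg
    by_contra hodd
    rw [Nat.not_odd_iff_even, even_iff_two_dvd] at hodd
    obtain ⟨u', hu'⟩ := exists_prime_orderOf_dvd_card' 2 hodd
    set u : G := (u' : G) with hu
    have huo : orderOf u = 2 := by rw [hu, Subgroup.orderOf_coe]; exact hu'
    have huH : u ∈ H := u'.2.1
    have huHg : u ∈ H.map (MulAut.conj g).toMonoidHom := u'.2.2
    have huT : u ∈ (T : Subgroup G) := invol_mem_of_mem_normalizer T u huo huH
    rw [mem_map_conj] at huHg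
    set h := g⁻¹ * u * g with hh
    have hho : orderOf h = 2 := by
      have := orderOf_injective (MulAut.conj g⁻¹).toMonoidHom (MulAut.conj g⁻¹).injective u
      simp only [MulEquiv.coe_toMonoidHom, MulAut.conj_apply, inv_inv] at this
      rw [hh, this, huo]
    have hhT : h ∈ (T : Subgroup G) := invol_mem_of_mem_normalizer T h hho huHg
    have hug : u = g * h * g⁻¹ := by rw [hh]; group
    -- T^g ≤ C(u) = T
    have hle : (T : Subgroup G).map (MulAut.conj g).toMonoidHom ≤ (T : Subgroup G) := by
      rintro _ ⟨t, ht, rfl⟩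
      rw [← hCu u huT huo, Subgroup.mem_centralizer_iff]
      intro w hw
      rw [Set.mem_singleton_iff] at hw
      subst hw
      simp only [MulEquiv.coe_toMonoidHom, MulAut.conj_apply]
      rw [hug]
      have := hTab h hhT t ht
      calc g * h * g⁻¹ * (g * t * g⁻¹) = g * (h * t) * g⁻¹ := by group
        _ = g * (t * h) * g⁻¹ := by rw [this]
        _ = g * t * g⁻¹ * (g * h * g⁻¹) := by group
    have heq : (T : Subgroup G).map (MulAut.conj g).toMonoidHom = (T : Subgroup G) :=
      Subgroup.eq_of_le_of_card_ge hle (by rw [card_map_conj])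
    apply hg
    rw [hH, Subgroup.mem_normalizer_iff_map_conj_eq]
    exact heq

end Cfsg.Agent.S1226
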