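import Cfsg.Statements.S0740
import Mathlib
import Cfsg.Agent.Lib.Helper1.Zassenhaus

set_option autoImplicit false
open Cfsg

namespace Cfsg.Agent.S0740

open Cfsg.Agent.Lib.Helper1

section
variable {G Ω : Type*} [Group G] [MulAction G Ω]

/-- conjugating an involution that moves a point to an involution swapping `a` and `b` -/
theorem exists_swap_conj (hZ : Cfsg.IsZassenhausGroup G Ω) {a b : Ω} (hab : a ≠ b) {u : G}
    (hu : orderOf u = 2) {c : Ω} (hc : u • c ≠ c) :
    ∃ h : G, orderOf (h * u * h⁻¹) = 2 ∧ (h * u * h⁻¹) • a = b ∧ (h * u * h⁻¹) • b = a ∧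
      h • c = a ∧ h • (u • c) = b := by
  obtain ⟨h, hca, hdb⟩ := zass_exists_map hZ (Ne.symm hc) hab
  have hu2 : u * u = 1 := by
    rw [← pow_two, ← hu, pow_orderOf_eq_one]
  have hud : u • (u • c) = c := by
    rw [← mul_smul, hu2, one_smul]
  refine ⟨h, ?_, ?_, ?_, hca, hdb⟩
  · have hconj : h * u * h⁻¹ = MulAut.conj h u := by
      rw [MulAut.conj_apply]
    rw [hconj, MulEquiv.orderOf_eq, hu]
  · rw [mul_smul, mul_smul, ← hca, inv_smul_smul, hdb]
  · rw [mul_smul, mul_smul, ← hdb, inv_smul_smul, hud, hca]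

theorem exists_moved (hZ : Cfsg.IsZassenhausGroup G Ω) {u : G} (hu : u ≠ 1) :
    ∃ c : Ω, u • c ≠ c := by
  by_contra hcon
  push Not at hcon
  apply hu
  apply hZ.1.eq_of_smul_eq_smul
  intro z
  rw [hcon z, one_smul]

end


/-- In a finite Zassenhaus group any two points `a ≠ b` are swapped by an involution; every such involution has exactly one fixed point when the degree is odd and 0 or 2 fixed points when the degree is even; and if the two-point stabiliser has even order, some such involution has exactly 2 fixed points. -/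
theorem result {G Ω : Type*} [Group G] [Finite G] [MulAction G Ω] [Fintype Ω] (hZ : Cfsg.IsZassenhausGroup G Ω) {a b : Ω} (hab : a ≠ b) : (∃ s : G, orderOf s = 2 ∧ s • a = b ∧ s • b = a) ∧ (∀ s : G, orderOf s = 2 → s • a = b → s • b = a → (Odd (Fintype.card Ω) → Nat.card (MulAction.fixedBy Ω s) = 1) ∧ (Even (Fintype.card Ω) → Nat.card (MulAction.fixedBy Ω s) = 0 ∨ Nat.card (MulAction.fixedBy Ω s) = 2)) ∧ (Even (Fintype.card Ω) → Even (Nat.card ↥(MulAction.stabilizer G a ⊓ MulAction.stabilizer G b)) → ∃ s : G, orderOf s = 2 ∧ s • a = b ∧ s • b = a ∧ Nat.card (MulAction.fixedBy Ω s) = 2) := by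
  classical
  haveI : Fact (Nat.Prime 2) := ⟨Nat.prime_two⟩
  have hcard3 := zass_card_ge_three hZ
  refine ⟨?_, ?_, ?_⟩
  · -- existence of an involution swapping a and b
    obtain ⟨g, hga, hgb⟩ := zass_exists_map hZ hab hab.symm
    have heven : 2 ∣ orderOf g := by
      by_contra hodd
      have hodd' : Odd (orderOf g) := Nat.odd_iff.2 (Nat.two_dvd_ne_zero.1 hodd)
      obtain ⟨k, hk⟩ := hodd'
      have hpow : ∀ n : ℕ, (g ^ (2 * n)) • a = a := by
        intro n
        induction n with
        | zero => simp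
        | succ n ih =>
          rw [Nat.mul_succ, pow_add, mul_smul, pow_two, mul_smul, hga, hgb, ih]
      have h1 : (g ^ (2 * k + 1)) • a = b := by
        rw [pow_succ, mul_smul, hga]
        have hpowb : ∀ n : ℕ, (g ^ (2 * n)) • b = b := by
          intro n
          induction n with
          | zero => simp
          | succ n ih =>
            rw [Nat.mul_succ, pow_add, mul_smul, pow_two, mul_smul, hgb, hga, ih]
        exact hpowb k
      rw [← hk, pow_orderOf_eq_one, one_smul] at h1
      exact hab h1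
    have hdvd : 2 ∣ Nat.card G := dvd_trans heven (orderOf_dvd_natCard g)
    obtain ⟨u, hu⟩ := exists_prime_orderOf_dvd_card' 2 hdvd
    have hu1 : u ≠ 1 := by
      intro h
      rw [h, orderOf_one] at hu
      omega
    obtain ⟨c, hc⟩ := exists_moved hZ hu1
    obtain ⟨h, h1, h2, h3, -, -⟩ := exists_swap_conj hZ hab hu hc
    exact ⟨_, h1, h2, h3⟩
  · intro s hs hsa hsb
    have hs1 : s ≠ 1 := by
      intro h
      rw [h, orderOf_one] at hs
      omega
    have hs2 : s ^ 2 = 1 := by rw [← hs, pow_orderOf_eq_one]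
    have hle := card_fixedBy_le_two hZ hs1
    have hmod := card_fixedBy_modEq_two (Ω := Ω) hs2
    unfold Nat.ModEq at hmod
    constructor
    · intro hodd
      rw [Nat.odd_iff] at hodd
      omega
    · intro heven
      rw [Nat.even_iff] at heven
      omega
  · intro _ hEeven
    obtain ⟨u', hu'⟩ := exists_prime_orderOf_dvd_card'
      (G := ↥(MulAction.stabilizer G a ⊓ MulAction.stabilizer G b)) 2 hEeven.two_dvd
    have hu : orderOf (u' : G) = 2 := by rw [Subgroup.orderOf_coe, hu']
    have hua : (u' : G) • a = a := u'.2.1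
    have hub : (u' : G) • b = b := u'.2.2
    have hu1 : (u' : G) ≠ 1 := by
      intro h
      rw [h, orderOf_one] at hu
      omega
    obtain ⟨c, hca, hcb⟩ := zass_exists_third hZ a b
    have hc : (u' : G) • c ≠ c := by
      intro hfix
      rcases zass_fixed_of_two hZ hu1 hua hub hfix hab with h | h
      · exact hca h
      · exact hcb h
    obtain ⟨h, h1, h2, h3, h4, h5⟩ := exists_swap_conj hZ hab hu hc
    refine ⟨_, h1, h2, h3, ?_⟩
    have hs1 : h * (u' : G) * h⁻¹ ≠ 1 := by
      intro hh
      rw [hh, orderOf_one] at h1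
      omega
    have hle := card_fixedBy_le_two hZ hs1
    have hfa : (h * (u' : G) * h⁻¹) • (h • a) = h • a := by
      rw [mul_smul, mul_smul, inv_smul_smul, hua]
    have hfb : (h * (u' : G) * h⁻¹) • (h • b) = h • b := by
      rw [mul_smul, mul_smul, inv_smul_smul, hub]
    have hge := two_le_card_fixedBy (s := h * (u' : G) * h⁻¹)
      (fun hh => hab (MulAction.injective h hh)) hfa hfb
    omega

end Cfsg.Agent.S0740
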