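import Cfsg.Statements.S0147
import Cfsg.Agent.Lib.Helper8.CharInd

set_option autoImplicit false
open Cfsg

namespace Cfsg.Agent.S0147

/-- Transitivity of induction: inducing from H to K and then from K to G is the same as inducing from H to G. -/
theorem result {G : Type*} [Group G] [Fintype G] (H K : Subgroup G) [Fintype K] (hHK : H ≤ K) (θ : H → ℂ) : Cfsg.indFun K (Cfsg.indFun (H.subgroupOf K) (fun x => θ ⟨(x : K), Subgroup.mem_subgroupOf.mp x.2⟩)) = Cfsg.indFun H θ := by
  classical
  open Cfsg.Agent.Lib.Helper8 in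
  ext g
  set θ' : H.subgroupOf K → ℂ := fun x => θ ⟨(x : K), Subgroup.mem_subgroupOf.mp x.2⟩ with hθ'
  set E : G → ℂ := extendByZero H θ with hE
  have hcardH : Nat.card (H.subgroupOf K) = Nat.card H :=
    Nat.card_congr (Subgroup.subgroupOfEquivOfLe hHK).toEquiv
  have ha : ∀ k : K, extendByZero (H.subgroupOf K) θ' k = E (k : G) := by
    intro k
    by_cases hk : k ∈ H.subgroupOf K
    · rw [extendByZero_mem _ _ hk, hE, extendByZero_mem H θ (Subgroup.mem_subgroupOf.mp hk)]
    · rw [extendByZero_not_mem _ _ hk, hE, extendByZero_not_mem H θ (fun h => hk (Subgroup.mem_subgroupOf.mpr h))]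
  have hc : ∀ z : G, extendByZero K (indFun (H.subgroupOf K) θ') z =
      (Nat.card H : ℂ)⁻¹ * ∑ y : K, E ((y : G)⁻¹ * z * (y : G)) := by
    intro z
    by_cases hz : z ∈ K
    · rw [extendByZero_mem K _ hz, indFun_apply, hcardH]
      congr 1
      apply Finset.sum_congr rfl
      intro y _
      rw [ha]
      rfl
    · rw [extendByZero_not_mem K _ hz]
      symm
      rw [mul_eq_zero]; right
      apply Finset.sum_eq_zero
      intro y _
      rw [hE]
      apply extendByZero_not_mem
      intro hmem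
      apply hz
      have h1 : (y : G)⁻¹ * z * (y : G) ∈ K := hHK hmem
      have h2 := K.mul_mem (K.mul_mem y.2 h1) (K.inv_mem y.2)
      have h3 : (y : G) * ((y : G)⁻¹ * z * (y : G)) * (y : G)⁻¹ = z := by group
      rw [h3] at h2
      exact h2
  rw [indFun_apply, indFun_apply]
  simp_rw [hc]
  rw [← Finset.mul_sum, Finset.sum_comm]
  have hd : ∀ y : K, ∑ x : G, E ((y : G)⁻¹ * (x⁻¹ * g * x) * (y : G)) = ∑ x : G, E (x⁻¹ * g * x) := by
    intro y
    apply Fintype.sum_equiv (Equiv.mulRight (y : G))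
    intro x
    simp only [Equiv.coe_mulRight]
    congr 1
    group
  simp_rw [hd]
  rw [Finset.sum_const, Finset.card_univ, nsmul_eq_mul, ← Nat.card_eq_fintype_card]
  have hKne : (Nat.card K : ℂ) ≠ 0 := Nat.cast_ne_zero.mpr Nat.card_pos.ne'
  field_simp
  rw [hE]

end Cfsg.Agent.S0147
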