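import Cfsg.Statements.S0854
import Cfsg.Agent.Lib.Helper8.CharCliffordCorr

set_option autoImplicit false
open Cfsg

namespace Cfsg.Agent.S0854

open Cfsg.Agent.Lib.Helper8

/-- Let H be a normal subgroup of the finite group G, ϑ an irreducible character of H, and T the inertia group of ϑ (the elements g with ϑ(g n g⁻¹) = ϑ(n) for all n in H). If χ is an irreducible character of G whose restriction to H has nonzero inner product with ϑ, then χ is induced from some irreducible character ψ of T, and the restrictions of ψ and of χ to H have the same inner product with ϑ. -/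
theorem result {G : Type*} [Group G] [Fintype G] (H : Subgroup G) [hN : H.Normal] [Fintype H] (ϑ : H → ℂ) (hϑ : Cfsg.IsIrrCharacter H ϑ) (T : Subgroup G) [Fintype T] (hT : ∀ g : G, g ∈ T ↔ ∀ n : H, ϑ ⟨g * n * g⁻¹, hN.conj_mem (n : G) n.2 g⟩ = ϑ n) (hHT : H ≤ T) (χ : G → ℂ) (hχ : Cfsg.IsIrrCharacter G χ) (hcon : Cfsg.classInner (fun n : H => χ n) ϑ ≠ 0) : ∃ ψ : T → ℂ, Cfsg.IsIrrCharacter T ψ ∧ Cfsg.indFun T ψ = χ ∧ Cfsg.classInner (fun n : H => ψ ⟨(n : G), hHT n.2⟩) ϑ = Cfsg.classInner (fun n : H => χ n) ϑ := by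
  classical
  have := irr_finite (G := T)
  have : Fintype (IrrCharacter T) := Fintype.ofFinite _
  have : Fintype (H.subgroupOf T) := Fintype.ofFinite _
  obtain ⟨m, hm1, hdecomp, hnorm, horth⟩ := clifford_corr_main H T ϑ hϑ hT hHT
  have hχcf : IsClassFunction G χ := isClassFunction_of_isCharacter (irr_isCharacter hχ)
  have hfrob : classInner (indFun H ϑ) χ = (starRingEnd ℂ) (classInner (fun n : H => χ n) ϑ) := by
    rw [frobenius_reciprocity H ϑ χ hχcf, classInner_conj_symm]
  have hne : classInner (indFun H ϑ) χ ≠ 0 := by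
    rw [hfrob]
    intro h0
    apply hcon
    have := congrArg (starRingEnd ℂ) h0
    simpa using this
  have hdec' : indFun H ϑ = fun g => ∑ ψ : IrrCharacter T, (m ψ : ℂ) * indFun T ψ.1 g := funext hdecomp
  have hsum : classInner (indFun H ϑ) χ = ∑ ψ : IrrCharacter T, (m ψ : ℂ) * classInner (indFun T ψ.1) χ := by
    conv_lhs => rw [hdec']
    exact classInner_sum_left _ _ _ _
  rw [hsum] at hne
  obtain ⟨ψ, -, hψne⟩ := Finset.exists_ne_zero_of_sum_ne_zero hne
  have hmψ : m ψ ≠ 0 := by
    intro h0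
    apply hψne
    rw [h0]; simp
  have hψ2 : classInner (indFun T ψ.1) χ ≠ 0 := fun h0 => hψne (by rw [h0, mul_zero])
  have hirr : IsIrrCharacter G (indFun T ψ.1) :=
    isIrrCharacter_of_norm_one (isCharacter_indFun T (irr_isCharacter ψ.2)) (hnorm ψ hmψ)
  have heq : indFun T ψ.1 = χ := by
    by_contra hne'
    apply hψ2
    rw [irr_classInner hirr hχ, if_neg hne']
  refine ⟨ψ.1, ψ.2, heq, ?_⟩
  -- multiplicities
  have hA : classInner (indFun H ϑ) χ = (m ψ : ℂ) := by
    rw [hsum, Finset.sum_eq_single ψ]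
    · rw [← heq, hnorm ψ hmψ, mul_one]
    · intro ψ' _ hne'
      by_cases h0 : m ψ' = 0
      · rw [h0]; simp
      · rw [← heq, horth ψ' ψ h0 hmψ hne', mul_zero]
    · intro h; exact absurd (Finset.mem_univ _) h
  have hB : classInner (fun n : H => χ n) ϑ = (m ψ : ℂ) := by
    have := congrArg (starRingEnd ℂ) hfrob
    rw [Complex.conj_conj, hA] at this
    rw [← this]; simp
  have hψcf : IsClassFunction T ψ.1 := isClassFunction_of_isCharacter (irr_isCharacter ψ.2)
  have hC : classInner (fun x : H.subgroupOf T => ψ.1 x) (subOfFun H T ϑ) = (m ψ : ℂ) := by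
    rw [classInner_conj_symm, ← frobenius_reciprocity (H.subgroupOf T) (subOfFun H T ϑ) ψ.1 hψcf, hm1 ψ]
    simp
  rw [hB, ← classInner_subOfFun hHT ψ.1 ϑ, hC]

end Cfsg.Agent.S0854
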