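import Cfsg.Statements.S0190
import Cfsg.Agent.Lib.Helper8.CharInd

set_option autoImplicit false
open Cfsg

namespace Cfsg.Agent.S0190

/-- For a transitive action of a finite group on X, the permutation character g ↦ (number of fixed points of g) is the function induced from the principal character of the stabilizer of any point. -/
theorem result {G : Type*} [Group G] [Fintype G] (X : Type*) [MulAction G X] [Finite X] [MulAction.IsPretransitive G X] (x : X) : (fun g : G => (Nat.card (MulAction.fixedBy X g) : ℂ)) = Cfsg.indFun (MulAction.stabilizer G x) (fun _ => 1) := by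
  classical
  open Cfsg.Agent.Lib.Helper8 in
  have : Fintype X := Fintype.ofFinite X
  ext g
  set S := MulAction.stabilizer G x with hS
  rw [indFun_apply]
  have hSne : (Nat.card S : ℂ) ≠ 0 := Nat.cast_ne_zero.mpr Nat.card_pos.ne'
  -- the extension by zero of the constant function
  have hext : ∀ y : G, extendByZero S (fun _ => (1 : ℂ)) (y⁻¹ * g * y) =
      if y • x ∈ MulAction.fixedBy X g then 1 else 0 := by
    intro y
    have hiff : y⁻¹ * g * y ∈ S ↔ y • x ∈ MulAction.fixedBy X g := by
      rw [hS, MulAction.mem_stabilizer_iff, MulAction.mem_fixedBy, mul_smul, mul_smul]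
      constructor
      · intro h
        have := congrArg (fun t => y • t) h
        simpa using this
      · intro h
        rw [h]; simp
    by_cases hy : y⁻¹ * g * y ∈ S
    · rw [extendByZero_mem S _ hy, if_pos (hiff.mp hy)]
    · rw [extendByZero_not_mem S _ hy, if_neg (fun h => hy (hiff.mpr h))]
  simp_rw [hext]
  -- count fibres
  have hfib : ∀ p : X, (Finset.univ.filter (fun y : G => y • x = p)).card = Nat.card S := by
    intro p
    obtain ⟨y₀, hy₀⟩ := MulAction.exists_smul_eq G x p
    rw [Nat.card_eq_fintype_card, ← Finset.card_univ]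
    symm
    apply Finset.card_bij (fun (s : S) _ => y₀ * (s : G))
    · intro s _
      simp only [Finset.mem_filter, Finset.mem_univ, true_and]
      rw [mul_smul, MulAction.mem_stabilizer_iff.mp s.2, hy₀]
    · intro s _ t _ hst
      exact Subtype.ext (mul_left_cancel hst)
    · intro y hy
      simp only [Finset.mem_filter, Finset.mem_univ, true_and] at hy
      refine ⟨⟨y₀⁻¹ * y, ?_⟩, Finset.mem_univ _, by simp⟩
      rw [MulAction.mem_stabilizer_iff, mul_smul, hy, ← hy₀, inv_smul_smul]
  have hsum : ∑ y : G, (if y • x ∈ MulAction.fixedBy X g then (1 : ℂ) else 0) =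
      (Nat.card (MulAction.fixedBy X g) : ℂ) * (Nat.card S : ℂ) := by
    rw [← Finset.sum_fiberwise Finset.univ (fun y : G => y • x)]
    have : ∀ p : X, ∑ y ∈ Finset.univ.filter (fun y : G => y • x = p),
        (if y • x ∈ MulAction.fixedBy X g then (1 : ℂ) else 0) =
        if p ∈ MulAction.fixedBy X g then (Nat.card S : ℂ) else 0 := by
      intro p
      by_cases hp : p ∈ MulAction.fixedBy X g
      · rw [if_pos hp]
        have : ∀ y ∈ Finset.univ.filter (fun y : G => y • x = p),
            (if y • x ∈ MulAction.fixedBy X g then (1 : ℂ) else 0) = 1 := by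
          intro y hy
          simp only [Finset.mem_filter, Finset.mem_univ, true_and] at hy
          rw [hy, if_pos hp]
        rw [Finset.sum_congr rfl this, Finset.sum_const, nsmul_eq_mul, mul_one, hfib p]
      · rw [if_neg hp]
        apply Finset.sum_eq_zero
        intro y hy
        simp only [Finset.mem_filter, Finset.mem_univ, true_and] at hy
        rw [hy, if_neg hp]
    rw [Finset.sum_congr rfl (fun p _ => this p), ← Finset.sum_filter, Finset.sum_const, nsmul_eq_mul]
    congr 1
    rw [Nat.card_eq_fintype_card, Fintype.card_subtype]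
  rw [hsum]
  field_simp

end Cfsg.Agent.S0190
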