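import Cfsg.Statements.S0157
import Cfsg.Agent.Lib.Helper8.CharDecomp
import Cfsg.Agent.Lib.Helper8.CharInd
import Cfsg.Agent.Lib.Helper8.CharBurnside
import Cfsg.Agent.S0190

set_option autoImplicit false
open Cfsg

namespace Cfsg.Agent.S0157

open Cfsg.Agent.Lib.Helper8
open scoped ComplexConjugate

theorem sum_card_stab_orbit {G Y : Type*} [Group G] [Fintype G] [DecidableEq G] [MulAction G Y]
    [DecidableEq Y] (p0 : Y) :
    ∑ p ∈ Finset.univ.image (fun g : G => g • p0),
      (Finset.univ.filter (fun g : G => g • p = p)).card = Fintype.card G := by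
  have h1 : ∀ p ∈ Finset.univ.image (fun g : G => g • p0),
      (Finset.univ.filter (fun g : G => g • p = p)).card =
      (Finset.univ.filter (fun g : G => g • p0 = p)).card := by
    intro p hp
    obtain ⟨h, -, rfl⟩ := Finset.mem_image.mp hp
    apply Finset.card_bij (fun g _ => g * h)
    · intro g hg
      simp only [Finset.mem_filter, Finset.mem_univ, true_and] at hg ⊢
      rw [mul_smul, hg]
    · intro g _ g' _ hgg
      exact mul_right_cancel hgg
    · intro g' hg'
      simp only [Finset.mem_filter, Finset.mem_univ, true_and] at hg'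
      refine ⟨g' * h⁻¹, ?_, by simp⟩
      simp only [Finset.mem_filter, Finset.mem_univ, true_and]
      rw [mul_smul, inv_smul_smul]
      exact hg'
  rw [Finset.sum_congr rfl h1, ← Finset.card_eq_sum_card_image]
  simp

theorem sum_fix_comm {G Y : Type*} [Group G] [Fintype G] [MulAction G Y] [Fintype Y] [DecidableEq Y] :
    ∑ g : G, (Finset.univ.filter (fun y : Y => g • y = y)).card =
    ∑ y : Y, (Finset.univ.filter (fun g : G => g • y = y)).card := by
  simp_rw [Finset.card_filter]
  rw [Finset.sum_comm]

theorem two_trans_count {G X : Type*} [Group G] [Fintype G] [MulAction G X] [Fintype X] [DecidableEq X]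
    [MulAction.IsPretransitive G X] (hX : 2 ≤ Fintype.card X) :
    (∑ g : G, (Finset.univ.filter (fun x : X => g • x = x)).card = Fintype.card G) ∧
    (∑ g : G, (Finset.univ.filter (fun x : X => g • x = x)).card ^ 2 = 2 * Fintype.card G ↔
      MulAction.IsMultiplyPretransitive G X 2) := by
  classical
  obtain ⟨a, b, hab⟩ := Fintype.exists_pair_of_one_lt_card (by omega : 1 < Fintype.card X)
  constructor
  · rw [sum_fix_comm]
    have := sum_card_stab_orbit (G := G) a
    have huniv : Finset.univ.image (fun g : G => g • a) = Finset.univ := by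
      apply Finset.eq_univ_of_forall
      intro x
      obtain ⟨g, hg⟩ := MulAction.exists_smul_eq G a x
      exact Finset.mem_image.mpr ⟨g, Finset.mem_univ _, hg⟩
    rw [huniv] at this
    exact this
  · have hsq : ∀ g : G, (Finset.univ.filter (fun x : X => g • x = x)).card ^ 2 =
        (Finset.univ.filter (fun p : X × X => g • p = p)).card := by
      intro g
      rw [sq, ← Finset.card_product]
      congr 1
      ext ⟨x, y⟩
      simp [Prod.ext_iff]
    simp_rw [hsq]
    rw [sum_fix_comm]
    set O1 := Finset.univ.image (fun g : G => g • ((a, a) : X × X)) with hO1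
    set O2 := Finset.univ.image (fun g : G => g • ((a, b) : X × X)) with hO2
    have hdisj : Disjoint O1 O2 := by
      rw [Finset.disjoint_left]
      intro p hp1 hp2
      obtain ⟨g, -, rfl⟩ := Finset.mem_image.mp hp1
      obtain ⟨h, -, hh⟩ := Finset.mem_image.mp hp2
      simp only [Prod.smul_mk, Prod.mk.injEq] at hh
      apply hab
      have : h • a = h • b := by rw [hh.1, hh.2]
      exact smul_left_cancel h this
    have hs1 := sum_card_stab_orbit (G := G) ((a, a) : X × X)
    have hs2 := sum_card_stab_orbit (G := G) ((a, b) : X × X)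
    rw [← hO1] at hs1
    rw [← hO2] at hs2
    have hsplit : ∑ p : X × X, (Finset.univ.filter (fun g : G => g • p = p)).card =
        2 * Fintype.card G + ∑ p ∈ (Finset.univ \ (O1 ∪ O2)), (Finset.univ.filter (fun g : G => g • p = p)).card := by
      rw [← Finset.sum_sdiff (Finset.subset_univ (O1 ∪ O2)), Finset.sum_union hdisj, hs1, hs2]
      ring
    rw [hsplit]
    have hpos : ∀ p : X × X, 0 < (Finset.univ.filter (fun g : G => g • p = p)).card := by
      intro p
      apply Finset.card_pos.mpr
      exact ⟨1, by simp⟩
    constructor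
    · intro h
      have h0 : ∑ p ∈ (Finset.univ \ (O1 ∪ O2)), (Finset.univ.filter (fun g : G => g • p = p)).card = 0 := by
        omega
      have hempty : Finset.univ \ (O1 ∪ O2) = ∅ := by
        by_contra hne
        obtain ⟨p, hp⟩ := Finset.nonempty_iff_ne_empty.mpr hne
        have := Finset.sum_eq_zero_iff.mp h0 p hp
        have := hpos p
        omega
      rw [MulAction.is_two_pretransitive_iff]
      intro c d e f hcd hef
      have hmem : ∀ x y : X, x ≠ y → ∃ g : G, g • a = x ∧ g • b = y := by
        intro x y hxy
        have hin : ((x, y) : X × X) ∈ O1 ∪ O2 := by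
          by_contra hnot
          have : ((x, y) : X × X) ∈ Finset.univ \ (O1 ∪ O2) := by
            rw [Finset.mem_sdiff]; exact ⟨Finset.mem_univ _, hnot⟩
          rw [hempty] at this
          exact absurd this (Finset.notMem_empty _)
        rcases Finset.mem_union.mp hin with h1 | h2
        · obtain ⟨g, -, hg⟩ := Finset.mem_image.mp h1
          simp only [Prod.smul_mk, Prod.mk.injEq] at hg
          exact absurd (hg.1.symm.trans hg.2) hxy
        · obtain ⟨g, -, hg⟩ := Finset.mem_image.mp h2
          simp only [Prod.smul_mk, Prod.mk.injEq] at hg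
          exact ⟨g, hg.1, hg.2⟩
      obtain ⟨g, hg1, hg2⟩ := hmem c d hcd
      obtain ⟨h, hh1, hh2⟩ := hmem e f hef
      refine ⟨h * g⁻¹, ?_, ?_⟩
      · rw [← hg1, mul_smul, inv_smul_smul, hh1]
      · rw [← hg2, mul_smul, inv_smul_smul, hh2]
    · intro h2t
      rw [MulAction.is_two_pretransitive_iff] at h2t
      have hempty : Finset.univ \ (O1 ∪ O2) = ∅ := by
        rw [Finset.sdiff_eq_empty_iff_subset]
        intro p _
        obtain ⟨x, y⟩ := p
        by_cases hxy : x = y
        · subst hxy
          obtain ⟨g, hg⟩ := MulAction.exists_smul_eq G a x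
          apply Finset.mem_union_left
          exact Finset.mem_image.mpr ⟨g, Finset.mem_univ _, by simp [hg]⟩
        · obtain ⟨g, hg1, hg2⟩ := h2t hab hxy
          apply Finset.mem_union_right
          exact Finset.mem_image.mpr ⟨g, Finset.mem_univ _, by simp [hg1, hg2]⟩
      rw [hempty, Finset.sum_empty, add_zero]

theorem perm_char_main {G : Type*} [Group G] [Fintype G] (X : Type*) [MulAction G X] [Fintype X]
    [DecidableEq X] [MulAction.IsPretransitive G X] (hX : 2 ≤ Fintype.card X) :
    Cfsg.IsIrrCharacter G (fun g => (Nat.card (MulAction.fixedBy X g) : ℂ) - 1) ↔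
      MulAction.IsMultiplyPretransitive G X 2 := by
  classical
  obtain ⟨hN1, hN2⟩ := two_trans_count (G := G) (X := X) hX
  set c : G → ℕ := fun g => (Finset.univ.filter (fun x : X => g • x = x)).card with hc
  have hcard : ∀ g : G, Nat.card (MulAction.fixedBy X g) = c g := by
    intro g
    rw [Nat.card_eq_fintype_card, hc]
    simp only
    rw [← Fintype.card_subtype]
    rfl
  have hGne : (Nat.card G : ℂ) ≠ 0 := Nat.cast_ne_zero.mpr Nat.card_pos.ne'
  have hGcard : Nat.card G = Fintype.card G := Nat.card_eq_fintype_card
  obtain ⟨a⟩ : Nonempty X := Fintype.card_pos_iff.mp (by omega)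
  have hπ : IsCharacter G (fun g : G => (Nat.card (MulAction.fixedBy X g) : ℂ)) := by
    rw [Cfsg.Agent.S0190.result X a]
    exact isCharacter_indFun _ (irr_isCharacter principal_isIrrCharacter)
  set π : G → ℂ := fun g : G => (Nat.card (MulAction.fixedBy X g) : ℂ) with hπdef
  set one : G → ℂ := fun _ => 1 with hone
  have hφ : (fun g => (Nat.card (MulAction.fixedBy X g) : ℂ) - 1) = π - one := rfl
  rw [hφ]
  have hπ1 : classInner π one = 1 := by
    unfold classInner
    have : ∑ g : G, π g * conj (one g) = ((∑ g : G, c g : ℕ) : ℂ) := by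
      push_cast
      apply Finset.sum_congr rfl
      intro g _
      simp only [hπdef, hone, hcard g, map_one, mul_one]
    rw [this, hN1, hGcard]
    field_simp
  have hnorm : classInner (π - one) (π - one) =
      ((∑ g : G, c g ^ 2 : ℕ) : ℂ) / (Nat.card G : ℂ) - 1 := by
    unfold classInner
    have : ∑ g : G, (π - one) g * conj ((π - one) g) =
        ((∑ g : G, c g ^ 2 : ℕ) : ℂ) - 2 * ((∑ g : G, c g : ℕ) : ℂ) + (Fintype.card G : ℂ) := by
      push_cast
      rw [Finset.mul_sum, ← Finset.sum_sub_distrib]
      have : (Fintype.card G : ℂ) = ∑ g : G, (1 : ℂ) := by simp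
      rw [this, ← Finset.sum_add_distrib]
      apply Finset.sum_congr rfl
      intro g _
      simp only [Pi.sub_apply, hπdef, hone, hcard g, map_sub, map_natCast, map_one]
      ring
    rw [this, hN1, hGcard]
    field_simp
    ring
  have hirr1 : IsIrrCharacter G one := principal_isIrrCharacter
  have hchar : IsCharacter G (π - one) := by
    apply isCharacter_of_classInner_nat
    · intro g h
      have := isClassFunction_of_isCharacter hπ g h
      simp only [Pi.sub_apply, hone]
      rw [this]
    · intro θ
      rw [classInner_sub_left]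
      obtain ⟨k, hk⟩ := classInner_character_irr_nat hπ θ.2
      rw [irr_classInner hirr1 θ.2]
      by_cases h1 : one = θ.1
      · rw [if_pos h1]
        refine ⟨0, ?_⟩
        rw [← h1, hπ1]; simp
      · rw [if_neg h1]
        exact ⟨k, by rw [hk]; simp⟩
  constructor
  · intro hirr
    apply hN2.mp
    have h1 := irr_classInner hirr hirr
    rw [if_pos rfl, hnorm] at h1
    have h2 : ((∑ g : G, c g ^ 2 : ℕ) : ℂ) = ((2 * Fintype.card G : ℕ) : ℂ) := by
      have h3 : ((∑ g : G, c g ^ 2 : ℕ) : ℂ) / (Nat.card G : ℂ) = 2 := by linear_combination h1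
      rw [div_eq_iff hGne] at h3
      rw [h3, hGcard]; push_cast; ring
    exact_mod_cast h2
  · intro h2t
    have h2 := hN2.mpr h2t
    apply isIrrCharacter_of_norm_one hchar
    rw [hnorm]
    have : ((∑ g : G, c g ^ 2 : ℕ) : ℂ) = ((2 * Fintype.card G : ℕ) : ℂ) := by
      rw [← h2]
    rw [this, hGcard]
    push_cast
    field_simp
    ring

/-- For a transitive action of a finite group on a finite set with at least two points: the action is 2-transitive if and only if the function sending g to (number of fixed points of g) − 1 is an irreducible character. -/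
theorem result {G : Type*} [Group G] [Finite G] (X : Type*) [MulAction G X] [Finite X] [MulAction.IsPretransitive G X] (hX : 2 ≤ Nat.card X) : Cfsg.IsIrrCharacter G (fun g => (Nat.card (MulAction.fixedBy X g) : ℂ) - 1) ↔ MulAction.IsMultiplyPretransitive G X 2 := by
  classical
  have : Fintype G := Fintype.ofFinite G
  have : Fintype X := Fintype.ofFinite X
  have hX' : 2 ≤ Fintype.card X := by rw [← Nat.card_eq_fintype_card]; exact hX
  exact perm_char_main X hX'

end Cfsg.Agent.S0157
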