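import Cfsg.Statements.S0739
import Mathlib
import Cfsg.Agent.Lib.Helper6.ZassOdd

set_option autoImplicit false
open Cfsg Cfsg.Agent.Lib.Helper6 Cfsg.Agent.Lib.Helper1 MulAction

namespace Cfsg.Agent.S0739

theorem main0739 {G Ω : Type*} [Group G] [Finite G] [MulAction G Ω] [Fintype Ω] (hZ : Cfsg.IsZassenhausGroup G Ω) {a b : Ω} (hab : a ≠ b) (hodd : Odd (Nat.card ↥(MulAction.stabilizer G a ⊓ MulAction.stabilizer G b))) (hnil : ∀ q : ℕ, q.Prime → q ∣ Nat.card ↥(MulAction.stabilizer G a ⊓ MulAction.stabilizer G b) → ¬ ∃ N : Subgroup G, N.Normal ∧ N.index = q ^ (Nat.card G).factorization q) : IsCyclic ↥(MulAction.stabilizer G a ⊓ MulAction.stabilizer G b) ∧ Subgroup.centralizer ((MulAction.stabilizer G a ⊓ MulAction.stabilizer G b : Subgroup G) : Set G) = MulAction.stabilizer G a ⊓ MulAction.stabilizer G b ∧ ∀ s : G, s • a = b → s • b = a → ∀ h ∈ MulAction.stabilizer G a ⊓ MulAction.stabilizer G b, s * h * s⁻¹ = h⁻¹ := by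
  obtain ⟨⟨t, hto, hta, htb⟩, -, -⟩ := Cfsg.Agent.S0740.result hZ hab
  have ht : t * t = 1 := by rw [← pow_two, ← hto, pow_orderOf_eq_one]
  have hO : ZOdd a b t := ⟨hZ, hab, hodd, ht, hta, htb⟩
  have htinv := hO.tinv
  have hcent := hO.cent_trivial hnil
  obtain ⟨D, hD⟩ : ∃ D : Subgroup G, D = stabilizer G a ⊓ stabilizer G b := ⟨_, rfl⟩
  rw [← hD] at hodd ⊢
  have hmemD : ∀ g, g ∈ D ↔ g • a = a ∧ g • b = b := by
    intro g; rw [hD]; exact Subgroup.mem_inf
  have htD : ∀ y ∈ D, t * y * t⁻¹ ∈ D := by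
    intro y hy
    rw [hmemD] at hy ⊢
    exact hO.conj_fix hy.1 hy.2
  have hinv : ∀ x ∈ D, t * x * t⁻¹ = x⁻¹ := by
    apply inverts_of_fpf D t ht htD
    intro x hx hxt
    rw [hmemD] at hx
    apply hcent x hx.1 hx.2
    calc t * x = (t * x * t⁻¹) * t := by group
      _ = x * t := by rw [hxt]
  have hcomm : ∀ x ∈ D, ∀ y ∈ D, x * y = y * x := by
    intro x hx y hy
    have h1 := hinv (x * y) (D.mul_mem hx hy)
    have h2 : t * (x * y) * t⁻¹ = (t * x * t⁻¹) * (t * y * t⁻¹) := by group
    rw [h2, hinv x hx, hinv y hy, mul_inv_rev] at h1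
    have h3 : (x⁻¹ * y⁻¹)⁻¹ = (y⁻¹ * x⁻¹)⁻¹ := by rw [h1]
    simpa using h3.symm
  -- a nonidentity element
  obtain ⟨x₀, hx₀D, hx₀1⟩ : ∃ x₀ ∈ D, x₀ ≠ 1 := by
    have := (zass_frobComp hZ hab).1
    rw [Ne, Subgroup.eq_bot_iff_forall] at this
    push Not at this
    obtain ⟨x, hx, hx1⟩ := this
    rw [Subgroup.mem_subgroupOf] at hx
    refine ⟨(x : G), (hmemD _).2 ⟨x.2, hx⟩, ?_⟩
    intro e
    exact hx1 (Subtype.ext e)
  refine ⟨?_, ?_, ?_⟩
  · -- cyclic
    haveI : Group.IsNilpotent D := by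
      letI : CommGroup D :=
        { (inferInstance : Group D) with
          mul_comm := fun x y => Subtype.ext (hcomm x.1 x.2 y.1 y.2) }
      exact CommGroup.isNilpotent
    haveI : IsZGroup D := by
      rw [isZGroup_iff]
      intro p hp P
      haveI := Fact.mk hp
      by_cases hp2 : p = 2
      · subst hp2
        obtain ⟨k, hk⟩ := P.2.exists_card_eq
        have hdvd : Nat.card P ∣ Nat.card D := Subgroup.card_subgroup_dvd_card _
        have : Nat.card P = 1 := by
          rcases Nat.eq_zero_or_pos k with h0 | h0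
          · rw [hk, h0, pow_zero]
          · exfalso
            have h2 : 2 ∣ Nat.card P := by rw [hk]; exact dvd_pow_self 2 (by omega)
            exact (Nat.not_even_iff_odd.2 hodd) (even_iff_two_dvd.2 (h2.trans hdvd))
        haveI := (Nat.card_eq_one_iff_unique.1 this).1
        exact isCyclic_of_subsingleton
      · have hQ : IsPGroup p ((P : Subgroup D).map D.subtype) := P.2.map _
        have hQD : (P : Subgroup D).map D.subtype ≤ stabilizer G a ⊓ stabilizer G b := by
          rw [← hD]; exact Subgroup.map_subtype_le _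
        have hcyc := zass_qsub_cyclic hZ hab hp2 _ hQD hQ
        exact ((P : Subgroup D).equivMapOfInjective D.subtype
          (Subgroup.subtype_injective _)).isCyclic.2 hcyc
    infer_instance
  · -- centralizer
    ext g
    rw [Subgroup.mem_centralizer_iff]
    constructor
    · intro hg
      have hg0 : g⁻¹ * x₀ * g = x₀ := by
        have := hg x₀ hx₀D
        rw [mul_assoc, this]; group
      have hx₀ := (hmemD x₀).1 hx₀D
      rcases hO.mem_of_conj hx₀.1 hx₀.2 hx₀1 (by rw [hg0]; exact hx₀.1) (by rw [hg0]; exact hx₀.2)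
        with h1 | h1
      · exact (hmemD g).2 h1
      · exfalso
        have hgt : g * t ∈ D := (hmemD _).2 h1
        apply hx₀1
        apply hcent x₀ hx₀.1 hx₀.2
        have e1 : x₀ * (g * t) = (g * t) * x₀ := hcomm _ hx₀D _ hgt
        have e2 : x₀ * g = g * x₀ := hg x₀ hx₀D
        have e3 : g * (x₀ * t) = g * (t * x₀) := by
          calc g * (x₀ * t) = (g * x₀) * t := by group
            _ = (x₀ * g) * t := by rw [e2]
            _ = x₀ * (g * t) := by group
            _ = (g * t) * x₀ := e1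
            _ = g * (t * x₀) := by group
        exact (mul_left_cancel e3).symm
    · intro hg y hy
      exact hcomm y hy g hg
  · intro s hsa hsb y hy
    have hst : s * t ∈ D := by
      rw [hmemD, mul_smul, mul_smul, hta, htb]
      exact ⟨hsb, hsa⟩
    have e1 : t⁻¹ * y * t = y⁻¹ := by
      have := hinv y hy
      rw [htinv] at this ⊢
      exact this
    have hyinv : y⁻¹ ∈ D := D.inv_mem hy
    calc s * y * s⁻¹ = (s * t) * (t⁻¹ * y * t) * (s * t)⁻¹ := by group
      _ = (s * t) * y⁻¹ * (s * t)⁻¹ := by rw [e1]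
      _ = y⁻¹ * (s * t) * (s * t)⁻¹ := by rw [hcomm _ hst _ hyinv]
      _ = y⁻¹ := by group


/-- In a finite Zassenhaus group whose two-point stabiliser `H = G_{a,b}` has odd order `d`, and which has no normal `q`-complement for any prime `q ∣ d`, `H` is cyclic, `C_G(H) = H`, and every element swapping `a` and `b` inverts each element of `H`. -/
theorem result {G Ω : Type*} [Group G] [Finite G] [MulAction G Ω] [Fintype Ω] (hZ : Cfsg.IsZassenhausGroup G Ω) {a b : Ω} (hab : a ≠ b) (hodd : Odd (Nat.card ↥(MulAction.stabilizer G a ⊓ MulAction.stabilizer G b))) (hnil : ∀ q : ℕ, q.Prime → q ∣ Nat.card ↥(MulAction.stabilizer G a ⊓ MulAction.stabilizer G b) → ¬ ∃ N : Subgroup G, N.Normal ∧ N.index = q ^ (Nat.card G).factorization q) : IsCyclic ↥(MulAction.stabilizer G a ⊓ MulAction.stabilizer G b) ∧ Subgroup.centralizer ((MulAction.stabilizer G a ⊓ MulAction.stabilizer G b : Subgroup G) : Set G) = MulAction.stabilizer G a ⊓ MulAction.stabilizer G b ∧ ∀ s : G, s • a = b → s • b = a →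 ∀ h ∈ MulAction.stabilizer G a ⊓ MulAction.stabilizer G b, s * h * s⁻¹ = h⁻¹ := by
  exact main0739 hZ hab hodd hnil

end Cfsg.Agent.S0739
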