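import Cfsg.Statements.S0094
import Mathlib
import Cfsg.Agent.Lib.Helper1.PGroupMax
import Cfsg.Agent.Lib.Helper1.Class2

set_option autoImplicit false
open Cfsg

namespace Cfsg.Agent.S0094


open Cfsg.Agent.Lib.Helper1
open scoped commutatorElement

theorem pow_mem_frattini {P : Type*} [Group P] [Finite P] {p : ℕ} [Fact p.Prime]
    (hP : IsPGroup p P) (x : P) : x ^ p ∈ frattini P := by
  simp only [frattini, Order.radical, Subgroup.mem_iInf]
  intro M hM
  exact pow_mem_coatom_of_isPGroup hP hM x

theorem commutator_le_frattini {P : Type*} [Group P] [Finite P] {p : ℕ} [Fact p.Prime]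
    (hP : IsPGroup p P) : commutator P ≤ frattini P := by
  intro x hx
  simp only [frattini, Order.radical, Subgroup.mem_iInf]
  intro M hM
  exact commutator_le_coatom_of_isPGroup hP hM hx

/-- in a group where commutators are central and `p`-th powers are central, the derived
subgroup has exponent dividing `p` -/
theorem pow_eq_one_of_mem_commutator {P : Type*} [Group P] (p : ℕ)
    (h1 : commutator P ≤ Subgroup.center P) (h2 : ∀ x : P, x ^ p ∈ Subgroup.center P)
    (z : P) (hz : z ∈ commutator P) : z ^ p = 1 := by
  rw [commutator_eq_closure] at hz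
  induction hz using Subgroup.closure_induction with
  | mem g hg =>
    obtain ⟨x, y, rfl⟩ := hg
    have hc : ⁅x, y⁆ ∈ Subgroup.center P := h1 (by
      rw [commutator_def]; exact Subgroup.commutator_mem_commutator trivial trivial)
    have hcx : ⁅x, y⁆ * x = x * ⁅x, y⁆ := (Subgroup.mem_center_iff.1 hc x).symm
    rw [← commutator_pow_left_of_commute y x hcx p]
    have := Subgroup.mem_center_iff.1 (h2 x) y
    rw [commutatorElement_def, ← this]; group
  | one => exact one_pow p
  | mul a b ha hb iha ihb =>
    have hac : a ∈ Subgroup.center P := h1 (by rw [commutator_eq_closure]; exact ha)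
    have : Commute a b := (Subgroup.mem_center_iff.1 hac b).symm
    rw [this.mul_pow, iha, ihb, one_mul]
  | inv a ha iha => rw [inv_pow, iha, inv_one]


/-- In a special p-group every central element has order dividing p. -/
theorem result {P : Type*} [Group P] [Finite P] {p : ℕ} [Fact p.Prime] (h : Cfsg.IsSpecial p P) (z : P) (hz : z ∈ Subgroup.center P) : z ^ p = 1 := by
  obtain ⟨hP, hΦ, hC⟩ := h
  apply pow_eq_one_of_mem_commutator p hC.le
  · intro x
    rw [← hΦ]
    exact pow_mem_frattini hP x
  · rw [hC]; exact hz

end Cfsg.Agent.S0094
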