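import Mathlib
import Cfsg.Statements.S4304
import Cfsg.Agent.Lib.Helper7.Syl15C7

set_option autoImplicit false
set_option maxHeartbeats 800000
open Cfsg

namespace Cfsg.Agent.S4304

open Cfsg.Agent.Lib.Helper7.Syl15

universe u

theorem no_min15 {G : Type u} [Group G] [Finite G] [hp : Fact (Nat.Prime 7)]
    (h15 : Nat.card (Sylow 7 G) = 15)
    (hfaith : ∀ g : G, (∀ Q : Sylow 7 G, g • Q = Q) → g = 1)
    (hnn : ∀ (P : Sylow 7 G) (N : Subgroup G), N.Normal → (P : Subgroup G) ≤ N → N = ⊤) :
    False := by
  obtain ⟨P⟩ : Nonempty (Sylow 7 G) := inferInstance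
  have hinj : Function.Injective (MulAction.toPermHom G (Sylow 7 G)) := by
    rw [injective_iff_map_eq_one]
    intro g hg
    apply hfaith
    intro Q
    have := congrArg (fun σ => σ Q) hg
    simpa using this
  have hdvd : Nat.card G ∣ Nat.factorial 15 := by
    have := Subgroup.card_dvd_of_injective _ hinj
    rwa [Nat.card_perm, h15] at this
  have hPdvd : Nat.card (P : Subgroup G) ∣ Nat.factorial 15 :=
    (Subgroup.card_subgroup_dvd_card _).trans hdvd
  obtain ⟨k, hk⟩ := IsPGroup.iff_card.mp P.isPGroup'
  have hk2 : k ≤ 2 := by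
    by_contra h
    push Not at h
    have h1 : 7 ^ 3 ∣ Nat.factorial 15 := (pow_dvd_pow 7 h).trans (hk ▸ hPdvd)
    revert h1
    decide
  have hk0 : k ≠ 0 := by
    rintro rfl
    have hbot : (P : Subgroup G) = ⊥ := Subgroup.card_eq_one.mp (by simpa using hk)
    have h1 := Sylow.card_eq_index_normalizer P
    rw [h15] at h1
    have hN : Subgroup.normalizer (P : Set G) = ⊤ := by
      rw [← Sylow.coe_coe, hbot]
      exact Subgroup.normalizer_eq_top_iff.mpr inferInstance
    rw [hN, Subgroup.index_top] at h1
    omega
  interval_cases k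
  · exact absurd rfl hk0
  · have hP : Nat.card (P : Subgroup G) = 7 := by simpa using hk
    obtain ⟨x, hxP, hx1⟩ : ∃ x : G, x ∈ P ∧ x ≠ 1 := by
      have h1 : (P : Subgroup G) ≠ ⊥ := by
        intro h
        rw [h, Subgroup.card_bot] at hP
        omega
      obtain ⟨a, ha⟩ := (Subgroup.ne_bot_iff_exists_ne_one).mp h1
      exact ⟨a, a.2, fun h => ha (Subtype.ext h)⟩
    have hC := centralizer_le_of_card7 h15 hfaith P (hnn P) hP x hxP hx1
    have hP7 : ∀ y : G, y ∈ P → y ^ 7 = 1 := by
      intro y hy
      have := pow_card_eq_one' (G := (P : Subgroup G)) (x := ⟨y, hy⟩)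
      rw [hP] at this
      exact congrArg Subtype.val this
    have hcent : Subgroup.centralizer ((P : Subgroup G) : Set G) = (P : Subgroup G) := by
      apply le_antisymm
      · intro c hc
        apply hC
        exact (hc x hxP).symm
      · intro y hy z hz
        obtain ⟨i, rfl⟩ := mem_zpowers_of_card7 P hP hxP hx1 hy
        obtain ⟨j, rfl⟩ := mem_zpowers_of_card7 P hP hxP hx1 hz
        exact ((Commute.refl x).zpow_zpow j i).eq
    have hrel := Cfsg.Agent.Lib.Helper1.relIndex_centralizer_normalizer_dvd P hP
    rw [hcent] at hrel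
    have hNcard : Nat.card (Subgroup.normalizer ((P : Subgroup G) : Set G))
        = 7 * (P : Subgroup G).relIndex (Subgroup.normalizer ((P : Subgroup G) : Set G)) := by
      have h1 := Subgroup.relIndex_mul_relIndex ⊥ (P : Subgroup G)
        (Subgroup.normalizer ((P : Subgroup G) : Set G)) bot_le Subgroup.le_normalizer
      rw [Subgroup.relIndex_bot_left, Subgroup.relIndex_bot_left, hP] at h1
      exact h1.symm
    have hG : Nat.card G
        = 105 * (P : Subgroup G).relIndex (Subgroup.normalizer ((P : Subgroup G) : Set G)) := by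
      have h1 := (Subgroup.normalizer ((P : Subgroup G) : Set G)).card_mul_index
      have h2 := Sylow.card_eq_index_normalizer P
      rw [h15] at h2
      have h3 : (Subgroup.normalizer ((P : Subgroup G) : Set G)).index = 15 := h2.symm
      rw [h3, hNcard] at h1
      omega
    generalize (P : Subgroup G).relIndex (Subgroup.normalizer ((P : Subgroup G) : Set G)) = e
      at hrel hG
    obtain ⟨r, hr, hrdvd, hr2, hco, hr7⟩ : ∃ r : ℕ, r.Prime ∧ r ∣ Nat.card G ∧
        ¬ r ^ 2 ∣ Nat.card G ∧ Nat.Coprime (Nat.card G) (r - 1) ∧ Nat.Coprime r 7 := by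
      have he : e ≤ 6 := Nat.le_of_dvd (by norm_num) hrel
      interval_cases e
      · omega
      · exact ⟨5, by norm_num, by rw [hG]; decide, by rw [hG]; decide, by rw [hG]; decide,
          by decide⟩
      · exact ⟨2, by norm_num, by rw [hG]; decide, by rw [hG]; decide, by rw [hG]; decide,
          by decide⟩
      · exact ⟨5, by norm_num, by rw [hG]; decide, by rw [hG]; decide, by rw [hG]; decide,
          by decide⟩
      · exact absurd hrel (by decide)
      · exact absurd hrel (by decide)
      · exact ⟨2, by norm_num, by rw [hG]; decide, by rw [hG]; decide, by rw [hG]; decide,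
          by decide⟩
    haveI : Fact r.Prime := ⟨hr⟩
    obtain ⟨M, hMn, hMi⟩ := exists_normal_index_prime hrdvd hr2 hco
    have hPM : (P : Subgroup G) ≤ M := by
      intro y hy
      have h1 : y ^ r ∈ M := by
        have := hMn
        rw [← hMi]
        exact Subgroup.pow_index_mem M y
      have h2 : orderOf y ∣ 7 := orderOf_dvd_of_pow_eq_one (hP7 y hy)
      have h3 : Nat.Coprime r (orderOf y) := Nat.Coprime.coprime_dvd_right h2 hr7
      obtain ⟨m, hm⟩ := exists_pow_eq_self_of_coprime h3
      rw [← hm]
      exact Subgroup.pow_mem _ h1 m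
    have hMtop := hnn P M hMn hPM
    rw [hMtop, Subgroup.index_top] at hMi
    exact hr.one_lt.ne hMi
  · exact case49 h15 hfaith P (by simpa using hk)

theorem card_sylow_ne_15 : ∀ n : ℕ, ∀ (G : Type u) [Group G] [Finite G], Nat.card G = n →
    Nat.card (Sylow 7 G) ≠ 15 := by
  intro n
  induction n using Nat.strong_induction_on with
  | _ n ih =>
    intro G _ _ hn h15
    haveI : Fact (Nat.Prime 7) := ⟨by norm_num⟩
    apply no_min15 h15
    · intro g hg
      by_contra hg1
      have hgK : g ∈ (MulAction.toPermHom G (Sylow 7 G)).ker := by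
        rw [MonoidHom.mem_ker]
        apply Equiv.ext
        intro Q
        exact hg Q
      have hKne : (MulAction.toPermHom G (Sylow 7 G)).ker ≠ ⊥ := by
        intro h
        rw [h] at hgK
        exact hg1 (Subgroup.mem_bot.mp hgK)
      have hKle : ∀ P : Sylow 7 G, (MulAction.toPermHom G (Sylow 7 G)).ker
          ≤ Subgroup.normalizer ((P : Subgroup G) : Set G) := by
        intro P k hk
        rw [MonoidHom.mem_ker] at hk
        apply Sylow.smul_eq_iff_mem_normalizer.mp
        have := congrArg (fun σ => σ P) hk
        simpa using this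
      have hcard := card_sylow_quot_eq (MulAction.toPermHom G (Sylow 7 G)).ker hKle
      have hlt : Nat.card (G ⧸ (MulAction.toPermHom G (Sylow 7 G)).ker) < n := by
        have h1 := Subgroup.card_eq_card_quotient_mul_card_subgroup
          (MulAction.toPermHom G (Sylow 7 G)).ker
        have h2 := (Subgroup.one_lt_card_iff_ne_bot (H := (MulAction.toPermHom G (Sylow 7 G)).ker)).mpr hKne
        have h3 : 0 < Nat.card (G ⧸ (MulAction.toPermHom G (Sylow 7 G)).ker) := Nat.card_pos
        rw [← hn, h1]
        nlinarith
      exact ih _ hlt (G ⧸ (MulAction.toPermHom G (Sylow 7 G)).ker) rfl (hcard.trans h15)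
    · intro P N hN hPN
      by_contra hNtop
      have := hN
      have hcard := card_sylow_normal_sub N P hPN
      have hlt : Nat.card N < n := by
        have h1 := N.card_mul_index
        have h2 : N.index ≠ 1 := fun h => hNtop (Subgroup.index_eq_one.mp h)
        have h3 : N.index ≠ 0 := Subgroup.index_ne_zero_of_finite
        have h4 : 0 < Nat.card N := Nat.card_pos
        rw [← hn, ← h1]
        have h5 : 2 ≤ N.index := by omega
        nlinarith
      exact ih _ hlt N rfl (hcard.trans h15)

/-- No finite group has exactly 15 Sylow 7-subgroups. -/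
theorem result {G : Type*} [Group G] [Finite G] : Nat.card (Sylow 7 G) ≠ 15 := by
  exact card_sylow_ne_15 _ G rfl

end Cfsg.Agent.S4304
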