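import Cfsg.Statements.S0870
import Cfsg.Agent.Lib.Helper8.BrauerPerm

set_option autoImplicit false
open Cfsg

namespace Cfsg.Agent.S0870

open Cfsg.Agent.Lib.Helper8

/-- For subgroups H and K of a finite group G, the pointwise product of the functions induced from the constant function 1 on H and on K is a sum, over subgroups U of H with natural-number coefficients, of the functions induced from the constant function 1 on U. -/
theorem result {G : Type*} [Group G] [Fintype G] (H K : Subgroup G) : ∃ a : Subgroup G → ℕ, (∀ U, a U ≠ 0 → U ≤ H) ∧ Cfsg.indFun H (fun _ => 1) * Cfsg.indFun K (fun _ => 1) = ∑ U : Subgroup G, (a U : ℂ) • Cfsg.indFun U (fun _ => 1) := by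
  classical
  have : Fintype (G ⧸ H) := Fintype.ofFinite _
  have : Fintype (G ⧸ K) := Fintype.ofFinite _
  have : Fintype (MulAction.orbitRel.Quotient G ((G ⧸ H) × (G ⧸ K))) := Fintype.ofFinite _
  set cstab : MulAction.orbitRel.Quotient G ((G ⧸ H) × (G ⧸ K)) → Subgroup G := fun O =>
    (MulAction.stabilizer G O.out).map (MulAut.conj (O.out.1.out)⁻¹).toMonoidHom with hcstab
  refine ⟨fun U => (Finset.univ.filter (fun O => cstab O = U)).card, ?_, ?_⟩
  · intro U hU
    obtain ⟨O, hO⟩ := Finset.card_pos.mp (Nat.pos_of_ne_zero hU)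
    rw [Finset.mem_filter] at hO
    rw [← hO.2]
    intro u hu
    rw [hcstab] at hu
    simp only at hu
    rw [Subgroup.mem_map_equiv, MulAut.conj_symm_apply, inv_inv] at hu
    rw [MulAction.mem_stabilizer_iff] at hu
    have h1 : (O.out.1.out * u * (O.out.1.out)⁻¹) • O.out.1 = O.out.1 :=
      congrArg Prod.fst hu
    have h2 : O.out.1 = ((O.out.1.out : G) : G ⧸ H) := (Quotient.out_eq' _).symm
    rw [h2] at h1
    rw [MulAction.Quotient.smul_coe, smul_eq_mul] at h1
    have h3 := QuotientGroup.eq.mp h1
    have h4 : u⁻¹ ∈ H := by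
      convert h3 using 1
      simp only [← h2]
      group
    have := H.inv_mem h4
    rwa [inv_inv] at this
  · ext x
    rw [Pi.mul_apply, permChar_eq_card_fixed H x, permChar_eq_card_fixed K x]
    have hprod : ((Finset.univ.filter (fun q : G ⧸ H => x • q = q)).card : ℂ) *
        ((Finset.univ.filter (fun q : G ⧸ K => x • q = q)).card : ℂ) =
        ((Finset.univ.filter (fun ω : (G ⧸ H) × (G ⧸ K) => x • ω = ω)).card : ℂ) := by
      rw [← Nat.cast_mul, ← Finset.card_product, ← Finset.filter_product, Finset.univ_product_univ]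
      congr 2
      ext ω
      simp only [Finset.mem_filter, Finset.mem_univ, true_and]
      rw [Prod.ext_iff]
      rfl
    rw [hprod, card_fixed_eq_sum_orbits x]
    rw [Finset.sum_apply]
    simp only [Pi.smul_apply, smul_eq_mul]
    have hstep : ∀ U : Subgroup G, ((Finset.univ.filter (fun O => cstab O = U)).card : ℂ) *
        Cfsg.indFun U (fun _ => (1 : ℂ)) x =
        ∑ O ∈ Finset.univ.filter (fun O => cstab O = U),
          Cfsg.indFun (MulAction.stabilizer G O.out) (fun _ => (1 : ℂ)) x := by
      intro U
      rw [← nsmul_eq_mul, ← Finset.sum_const]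
      apply Finset.sum_congr rfl
      intro O hO
      rw [Finset.mem_filter] at hO
      rw [← hO.2, hcstab]
      simp only
      rw [permChar_conj]
    rw [Finset.sum_congr rfl (fun U _ => hstep U)]
    exact (Finset.sum_fiberwise (s := Finset.univ) (g := cstab)
      (f := fun O => Cfsg.indFun (MulAction.stabilizer G O.out) (fun _ => (1 : ℂ)) x)).symm

end Cfsg.Agent.S0870
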