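import Cfsg.Statements.S0873
import Cfsg.Agent.Lib.Helper8.CharExtraspecial
import Cfsg.Agent.Lib.Helper8.CharAbelQuot

set_option autoImplicit false
open Cfsg

namespace Cfsg.Agent.S0873

open Cfsg.Agent.Lib.Helper8
theorem lemma811 {G : Type*} [Group G] [Finite G] (p : ℕ) [Fact p.Prime] (C P : Subgroup G)
    [hC : C.Normal] (hP : IsPGroup p P) (hcop : Nat.Coprime (Nat.card C) p) (lam : C → ℂ)
    (hlam : Cfsg.IsCharacter C lam ∧ lam 1 = 1)
    (hinv : ∀ (g : G) (c : C), lam ⟨g * c * g⁻¹, hC.conj_mem (c : G) c.2 g⟩ = lam c)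
    (hker : ∀ c : C, (c : G) ∈ Subgroup.centralizer (P : Set G) → lam c = 1) :
    lam = fun _ => 1 := by
  classical
  have hirr := irr_of_degree_one hlam.1 hlam.2
  have hmul : ∀ a b : C, lam (a * b) = lam a * lam b :=
    linear_char_mul ⟨lam, hirr⟩ hlam.2
  have hinvl : ∀ a : C, lam a⁻¹ * lam a = 1 := by
    intro a
    rw [← hmul, inv_mul_cancel, hlam.2]
  ext c
  letI : MulAction P {d : C // lam d = lam c} :=
    { smul := fun x d => ⟨⟨(x : G) * d.1 * (x : G)⁻¹, hC.conj_mem _ d.1.2 _⟩, by
        rw [hinv]; exact d.2⟩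
      one_smul := fun d => by
        apply Subtype.ext; apply Subtype.ext
        show ((1 : P) : G) * d.1 * ((1 : P) : G)⁻¹ = d.1
        simp
      mul_smul := fun x y d => by
        apply Subtype.ext; apply Subtype.ext
        show ((x * y : P) : G) * d.1 * ((x * y : P) : G)⁻¹ =
          (x : G) * ((y : G) * d.1 * (y : G)⁻¹) * (x : G)⁻¹
        simp [mul_assoc] }
  let K : Subgroup C :=
    { carrier := {k | lam k = 1}
      mul_mem' := fun {a b} ha hb => by
        show lam (a * b) = 1
        rw [hmul, ha, hb, mul_one]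
      one_mem' := hlam.2
      inv_mem' := fun {a} ha => by
        show lam a⁻¹ = 1
        have := hinvl a
        rw [ha, mul_one] at this
        exact this }
  have hcardF : Nat.card {d : C // lam d = lam c} = Nat.card K := by
    apply Nat.card_congr
    refine ⟨fun d => ⟨c⁻¹ * d.1, ?_⟩, fun k => ⟨c * k.1, ?_⟩, ?_, ?_⟩
    · show lam (c⁻¹ * d.1) = 1
      rw [hmul, d.2, hinvl]
    · show lam (c * k.1) = lam c
      have : lam k.1 = 1 := k.2
      rw [hmul, this, mul_one]
    · intro d; apply Subtype.ext; simp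
    · intro k; apply Subtype.ext; simp
  have hpF : ¬ p ∣ Nat.card {d : C // lam d = lam c} := by
    rw [hcardF]
    intro h
    have h1 : p ∣ Nat.card C := h.trans (Subgroup.card_subgroup_dvd_card K)
    have h2 : p ∣ Nat.gcd (Nat.card C) p := Nat.dvd_gcd h1 dvd_rfl
    rw [hcop] at h2
    exact (Fact.out : p.Prime).one_lt.ne' (Nat.dvd_one.mp h2)
  obtain ⟨d, hd⟩ := hP.nonempty_fixed_point_of_prime_not_dvd_card _ hpF
  rw [← d.2]
  apply hker
  rw [Subgroup.mem_centralizer_iff]
  intro x hx
  have h1 := hd ⟨x, hx⟩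
  have h2 : x * (d.1 : G) * x⁻¹ = d.1 := congrArg (fun z => ((z.1 : C) : G)) h1
  calc x * (d.1 : G) = x * (d.1 : G) * x⁻¹ * x := by group
    _ = (d.1 : G) * x := by rw [h2]

/-- Let C be a normal subgroup of the finite group G of order prime to p and P a p-subgroup with C ⊔ P = G. Let λ be a character of C of degree 1 invariant under conjugation by G and equal to 1 at every element of C centralized by P. Then λ is identically 1. -/
theorem result {G : Type*} [Group G] [Finite G] (p : ℕ) [Fact p.Prime] (C P : Subgroup G) [hC : C.Normal] (hP : IsPGroup p P) (hcop : Nat.Coprime (Nat.card C) p) (hCP : C ⊔ P = ⊤) (lam : C → ℂ) (hlam : Cfsg.IsCharacter C lam ∧ lam 1 = 1) (hinv : ∀ (g : G) (c : C), lam ⟨g * c * g⁻¹, hC.conj_mem (c : G) c.2 g⟩ = lam c) (hker : ∀ c : C, (c : G) ∈ Subgroup.centralizer (P : Set G) → lam c = 1) : lam = fun _ => 1 := by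
  exact lemma811 p C P hP hcop lam hlam hinv hker

end Cfsg.Agent.S0873
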