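import Cfsg.Statements.S0856
import Cfsg.Agent.Lib.Helper8.CharGallagher

set_option autoImplicit false
open Cfsg

namespace Cfsg.Agent.S0856

open Cfsg.Agent.Lib.Helper8

/-- Let N be a normal subgroup of the finite group G and φ, ϑ irreducible characters of N that are invariant under conjugation by G, such that the pointwise product φ * ϑ is irreducible and ϑ is the restriction of an irreducible character χ of G. Then multiplication by χ is a bijection from the set of irreducible characters of G having nonzero inner product with the function induced from φ onto the set of those having nonzero inner product with the function induced from φ * ϑ. -/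
theorem result {G : Type*} [Group G] [Fintype G] (N : Subgroup G) [hN : N.Normal] (φ ϑ : N → ℂ) (hφ : Cfsg.IsIrrCharacter N φ) (hϑ : Cfsg.IsIrrCharacter N ϑ) (hφinv : ∀ (g : G) (n : N), φ ⟨g * n * g⁻¹, hN.conj_mem (n : G) n.2 g⟩ = φ n) (hϑinv : ∀ (g : G) (n : N), ϑ ⟨g * n * g⁻¹, hN.conj_mem (n : G) n.2 g⟩ = ϑ n) (hprod : Cfsg.IsIrrCharacter N (φ * ϑ)) (χ : G → ℂ) (hχ : Cfsg.IsIrrCharacter G χ) (hext : ∀ n : N, χ n = ϑ n) : Set.BijOn (fun β : G → ℂ => β * χ) {β : G → ℂ | Cfsg.IsIrrCharacter G β ∧ Cfsg.classInner (Cfsg.indFun N φ) β ≠ 0} {ψ : G → ℂ | Cfsg.IsIrrCharacter G ψ ∧ Cfsg.classInner (Cfsg.indFun N (φ * ϑ)) ψ ≠ 0} := by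
  classical
  have : Fintype N := Fintype.ofFinite N
  have := irr_finite (G := G)
  have : Fintype (IrrCharacter G) := Fintype.ofFinite _
  have hφinv' : ∀ g : G, conjChar hN φ g = φ := fun g => funext (fun n => hφinv g n)
  have hprodinv : ∀ g : G, conjChar hN (φ * ϑ) g = φ * ϑ := by
    intro g
    ext n
    rw [conjChar_apply, Pi.mul_apply, Pi.mul_apply, hφinv g n, hϑinv g n]
  obtain ⟨m, hm, hdecomp, hnorm, horth⟩ :=
    gallagher_core hN hφ hφinv' hprod hprodinv ⟨χ, hχ⟩ hext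
  have hdec' : indFun N (φ * ϑ) = fun g => ∑ β : IrrCharacter G, (m β : ℂ) * (β.1 * χ) g :=
    funext hdecomp
  have hmne : ∀ β : IrrCharacter G, classInner (indFun N φ) β.1 ≠ 0 → m β ≠ 0 := by
    intro β h h0
    apply h
    rw [hm β, h0]; simp
  have hirr : ∀ β : IrrCharacter G, m β ≠ 0 → IsIrrCharacter G (β.1 * χ) := fun β hβ =>
    isIrrCharacter_of_norm_one (isCharacter_mul (irr_isCharacter β.2) (irr_isCharacter hχ))
      (hnorm β hβ)
  have hinner : ∀ ψ : G → ℂ, classInner (indFun N (φ * ϑ)) ψ =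
      ∑ β : IrrCharacter G, (m β : ℂ) * classInner (β.1 * χ) ψ := by
    intro ψ
    conv_lhs => rw [hdec']
    exact classInner_sum_left _ _ _ _
  refine ⟨?_, ?_, ?_⟩
  · rintro β ⟨hβ, hβne⟩
    have hmβ := hmne ⟨β, hβ⟩ hβne
    refine ⟨hirr ⟨β, hβ⟩ hmβ, ?_⟩
    rw [hinner, Finset.sum_eq_single ⟨β, hβ⟩]
    · have := hnorm ⟨β, hβ⟩ hmβ
      simp only at this
      rw [this, mul_one]
      exact_mod_cast hmβ
    · intro β' _ hne
      by_cases h0 : m β' = 0
      · rw [h0]; simp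
      · have := horth β' ⟨β, hβ⟩ h0 hmβ hne
        simp only at this
        rw [this, mul_zero]
    · intro h; exact absurd (Finset.mem_univ _) h
  · rintro β ⟨hβ, hβne⟩ β' ⟨hβ', hβne'⟩ heq
    simp only at heq
    by_contra hne
    have hmβ := hmne ⟨β, hβ⟩ hβne
    have hmβ' := hmne ⟨β', hβ'⟩ hβne'
    have h0 := horth ⟨β, hβ⟩ ⟨β', hβ'⟩ hmβ hmβ' (fun h => hne (congrArg Subtype.val h))
    have h1 := hnorm ⟨β, hβ⟩ hmβ
    simp only at h0 h1
    rw [← heq, h1] at h0
    exact one_ne_zero h0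
  · rintro ψ ⟨hψ, hψne⟩
    rw [hinner] at hψne
    obtain ⟨β, -, hβne⟩ := Finset.exists_ne_zero_of_sum_ne_zero hψne
    have hmβ : m β ≠ 0 := by
      intro h0
      apply hβne
      rw [h0]; simp
    have h2 : classInner (β.1 * χ) ψ ≠ 0 := fun h0 => hβne (by rw [h0, mul_zero])
    refine ⟨β.1, ⟨β.2, ?_⟩, ?_⟩
    · rw [hm β]
      exact_mod_cast hmβ
    · show β.1 * χ = ψ
      by_contra hne
      apply h2
      rw [irr_classInner (hirr β hmβ) hψ, if_neg hne]

end Cfsg.Agent.S0856
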