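import Cfsg.Statements.S0862
import Cfsg.Agent.Lib.Helper8.CharDet
import Cfsg.Agent.Lib.Helper8.CharGallExt
import Cfsg.Agent.Lib.Helper8.CharLinExt

set_option autoImplicit false
open Cfsg

namespace Cfsg.Agent.S0862

open Cfsg.Agent.Lib.Helper8
theorem eq_one_of_pow_coprime {A : Type*} [Group A] (x : A) (a b : ℕ) (hab : Nat.Coprime a b)
    (ha : x ^ a = 1) (hb : x ^ b = 1) : x = 1 := by
  have h1 : orderOf x ∣ a := orderOf_dvd_of_pow_eq_one ha
  have h2 : orderOf x ∣ b := orderOf_dvd_of_pow_eq_one hb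
  have : orderOf x = 1 := Nat.eq_one_of_dvd_coprimes hab h1 h2
  exact orderOf_eq_one_iff.mp this

/-- Core of the uniqueness/existence statement, in terms of homomorphisms. -/
theorem det_unique_core {G : Type*} [Group G] [Fintype G] (N : Subgroup G) [hN : N.Normal]
    [Fintype N] (η : G → ℂ) (hη : Cfsg.IsIrrCharacter G η)
    (hηN : Cfsg.IsIrrCharacter N (fun n : N => η n)) (d : ℕ) (hd : η 1 = d)
    (hcop : Nat.Coprime N.index d) (m : G →* ℂˣ)
    (hmN : ∀ n : N, linFun m n = Cfsg.detChar (fun n : N => η n) n) :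
    ∃! χ : G → ℂ, Cfsg.IsIrrCharacter G χ ∧ (∀ n : N, χ n = η n) ∧ Cfsg.detChar χ = linFun m := by
  classical
  have hηchar : Cfsg.IsCharacter G η := irr_isCharacter hη
  obtain ⟨δ, hδ⟩ := exists_detHom hηchar
  have hdeg : Cfsg.charDegree η = d := by
    have h1 := isCharacter_one_eq_charDegree hηchar
    rw [hd] at h1
    exact_mod_cast h1.symm
  -- the quotient hom
  have hDN : ∀ n ∈ N, (m / δ) n = 1 := by
    intro n hn
    rw [MonoidHom.div_apply, div_eq_one]
    apply Units.ext
    have h1 := hmN ⟨n, hn⟩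
    have h2 : Cfsg.detChar (fun n : N => η n) ⟨n, hn⟩ = Cfsg.detChar η n :=
      congrFun (detChar_comp N.subtype hηchar) ⟨n, hn⟩
    rw [h2, hδ] at h1
    exact h1
  have hDidx : ∀ g : G, ((m / δ) g) ^ N.index = 1 := by
    intro g
    have := hom_pow_index_eq_one N (m / δ) hDN
    rw [← MonoidHom.pow_apply, this]; rfl
  have hbez : (1 : ℤ) = (N.index : ℤ) * Int.gcdA N.index d + (d : ℤ) * Int.gcdB N.index d := by
    have := Int.gcd_eq_gcd_ab N.index d
    rw [Int.gcd_natCast_natCast, hcop.gcd_eq_one] at this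
    exact_mod_cast this
  set u := Int.gcdA N.index d with hu
  set v := Int.gcdB N.index d with hv
  set β : G →* ℂˣ := (m / δ) ^ v with hβ
  have hβN : ∀ n : N, β n = 1 := by
    intro n
    rw [hβ, MonoidHom.zpow_apply, hDN n n.2, one_zpow]
  have hβd : ∀ g : G, (β g) ^ d = (m / δ) g := by
    intro g
    rw [hβ, MonoidHom.zpow_apply, ← zpow_natCast, ← zpow_mul]
    have h3 : v * (d : ℤ) = 1 - (N.index : ℤ) * u := by linarith
    have h4 : ((m / δ) g) ^ ((N.index : ℤ) * u) = 1 := by
      rw [zpow_mul, zpow_natCast, hDidx g, one_zpow]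
    rw [h3, zpow_sub, zpow_one, h4]
    simp
  have hdetform : ∀ b : G →* ℂˣ, Cfsg.detChar (linFun b * η) = linFun m ↔
      ∀ g : G, (b g) ^ d = (m / δ) g := by
    intro b
    rw [detChar_linFun_mul b hηchar, hdeg, hδ]
    constructor
    · intro h g
      have h1 := congrFun h g
      rw [Pi.mul_apply] at h1
      rw [MonoidHom.div_apply, eq_div_iff_mul_eq']
      apply Units.ext
      rw [Units.val_mul, ← MonoidHom.pow_apply]
      exact h1
    · intro h
      ext g
      rw [Pi.mul_apply]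
      have h1 := h g
      rw [MonoidHom.div_apply, eq_div_iff_mul_eq'] at h1
      have h2 := congrArg Units.val h1
      rw [Units.val_mul, ← MonoidHom.pow_apply] at h2
      exact h2
  refine ⟨linFun β * η, ⟨irr_linFun_mul β hη, ?_, (hdetform β).mpr hβd⟩, ?_⟩
  · intro n
    rw [Pi.mul_apply]
    show ((β n : ℂˣ) : ℂ) * η n = η n
    rw [hβN n, Units.val_one, one_mul]
  · rintro χ' ⟨hχ'irr, hχ'N, hχ'det⟩
    obtain ⟨b, hbN, rfl⟩ := gallagher_extension N η χ' hη hχ'irr hηN hχ'N
    have hbd := (hdetform b).mp hχ'det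
    have hbidx : ∀ g : G, (b g) ^ N.index = 1 := by
      intro g
      have := hom_pow_index_eq_one N b (fun n hn => hbN ⟨n, hn⟩)
      rw [← MonoidHom.pow_apply, this]; rfl
    have hβidx : ∀ g : G, (β g) ^ N.index = 1 := by
      intro g
      have := hom_pow_index_eq_one N β (fun n hn => hβN ⟨n, hn⟩)
      rw [← MonoidHom.pow_apply, this]; rfl
    have hbβ : b = β := by
      apply MonoidHom.ext
      intro g
      have h1 : (b g / β g) ^ N.index = 1 := by rw [div_pow, hbidx, hβidx, div_one]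
      have h2 : (b g / β g) ^ d = 1 := by rw [div_pow, hbd, hβd, div_self']
      exact div_eq_one.mp (eq_one_of_pow_coprime _ _ _ hcop h1 h2)
    rw [hbβ]

/-- Let N be a normal subgroup of the finite group G and ϑ an irreducible character of N of degree d coprime to the index of N, which is the restriction of some irreducible character of G. Let μ be a character of G of degree 1 whose restriction to N is the determinantal character of ϑ. Then there is exactly one irreducible character χ of G restricting to ϑ whose determinantal character is μ. -/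
theorem result {G : Type*} [Group G] [Finite G] (N : Subgroup G) [N.Normal] (ϑ : N → ℂ) (hϑ : Cfsg.IsIrrCharacter N ϑ) (d : ℕ) (hd : ϑ 1 = d) (hcop : Nat.Coprime N.index d) (hext : ∃ η : G → ℂ, Cfsg.IsIrrCharacter G η ∧ (∀ n : N, η n = ϑ n)) (μ : G → ℂ) (hμ : Cfsg.IsCharacter G μ ∧ μ 1 = 1) (hμN : ∀ n : N, μ n = Cfsg.detChar ϑ n) : ∃! χ : G → ℂ, Cfsg.IsIrrCharacter G χ ∧ (∀ n : N, χ n = ϑ n) ∧ Cfsg.detChar χ = μ := by
  classical
  have : Fintype G := Fintype.ofFinite G
  have : Fintype N := Fintype.ofFinite N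
  obtain ⟨η, hη, hηN⟩ := hext
  obtain ⟨m, rfl⟩ := exists_linFun hμ.1 hμ.2
  have hηNfun : (fun n : N => η n) = ϑ := funext hηN
  have hηNirr : Cfsg.IsIrrCharacter N (fun n : N => η n) := hηNfun ▸ hϑ
  have hη1 : η 1 = d := by
    have := hηN 1
    rw [OneMemClass.coe_one] at this
    rw [this, hd]
  have hcore := det_unique_core N η hη hηNirr d hη1 hcop m (by rw [hηNfun]; exact hμN)
  obtain ⟨χ, ⟨h1, h2, h3⟩, huniq⟩ := hcore
  refine ⟨χ, ⟨h1, fun n => (h2 n).trans (hηN n), h3⟩, ?_⟩
  rintro χ' ⟨h1', h2', h3'⟩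
  exact huniq χ' ⟨h1', fun n => (h2' n).trans (hηN n).symm, h3'⟩

end Cfsg.Agent.S0862
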