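import Cfsg.Statements.S4808
import Cfsg.Agent.Lib.Helper8.CharKernel

set_option autoImplicit false
open Cfsg

namespace Cfsg.Agent.S4808

open Cfsg.Agent.Lib.Helper8
theorem cod_eq {G : Type*} [Group G] [Fintype G] (χ : Cfsg.IrrCharacter G) (K : Subgroup G)
    (hK : ∀ g, g ∈ K ↔ (χ : G → ℂ) g = (χ : G → ℂ) 1)
    (hdvd : Cfsg.charDegree (χ : G → ℂ) ∣ K.index) :
    Nat.card G = (Nat.card {g : G // (χ : G → ℂ) g = (χ : G → ℂ) 1} *
      Cfsg.charDegree (χ : G → ℂ)) * (K.index / Cfsg.charDegree (χ : G → ℂ)) ∧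
    Nat.card G / (Nat.card {g : G // (χ : G → ℂ) g = (χ : G → ℂ) 1} *
      Cfsg.charDegree (χ : G → ℂ)) = K.index / Cfsg.charDegree (χ : G → ℂ) := by
  have hcard := card_eq_card_of_iff K _ hK
  have hfpos : 0 < Cfsg.charDegree (χ : G → ℂ) := charDegree_pos χ
  have hKpos : 0 < Nat.card K := Nat.card_pos
  obtain ⟨c, hc⟩ := hdvd
  have h1 : Nat.card G = (Nat.card {g : G // (χ : G → ℂ) g = (χ : G → ℂ) 1} *
      Cfsg.charDegree (χ : G → ℂ)) * (K.index / Cfsg.charDegree (χ : G → ℂ)) := by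
    rw [hcard, hc, Nat.mul_div_cancel_left _ hfpos, ← Subgroup.card_mul_index K, hc]
    ring
  refine ⟨h1, ?_⟩
  conv_lhs => rw [h1]
  exact Nat.mul_div_cancel_left _ (Nat.mul_pos (hcard ▸ hKpos) hfpos)

/-- The codegree of an irreducible complex character χ of a finite group G is [G : ker χ] / χ(1), where ker χ is the set of elements at which χ takes the value χ(1). A prime divides the order of G if and only if it divides the codegree of some irreducible complex character of G. -/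
theorem result {G : Type*} [Group G] [Finite G] (p : ℕ) (hp : p.Prime) : p ∣ Nat.card G ↔ ∃ χ : Cfsg.IrrCharacter G, p ∣ (Nat.card G / (Nat.card {g : G // (χ : G → ℂ) g = (χ : G → ℂ) 1} * Cfsg.charDegree (χ : G → ℂ))) := by
  classical
  have : Fintype G := Fintype.ofFinite G
  have : Fact p.Prime := ⟨hp⟩
  have := irr_finite (G := G)
  have : Fintype (Cfsg.IrrCharacter G) := Fintype.ofFinite _
  constructor
  · intro hpG
    by_contra hcon
    push Not at hcon
    obtain ⟨x, hx⟩ := exists_prime_orderOf_dvd_card' p hpG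
    have hx1 : x ≠ 1 := by
      intro h
      rw [h, orderOf_one] at hx
      exact hp.one_lt.ne' hx.symm
    have hval : ∀ χ : Cfsg.IrrCharacter G, (χ : G → ℂ) x = (χ : G → ℂ) 1 ∨ (χ : G → ℂ) x = 0 := by
      intro χ
      obtain ⟨K, hKn, hK, hdvd, hvan⟩ := irr_quotient_facts χ
      by_cases hxK : x ∈ K
      · left; exact (hK x).mp hxK
      · right
        apply hvan p x _ hxK
        · rw [← hx, pow_orderOf_eq_one]; exact K.one_mem
        · rw [← (cod_eq χ K hK hdvd).2]
          exact hcon χ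
    have horth := irr_sum_mul_conj x (1 : G)
    rw [if_neg (fun h => hx1 (isConj_one_left.mp h))] at horth
    have hsum : ∑ χ : Cfsg.IrrCharacter G, (χ : G → ℂ) x * (starRingEnd ℂ) ((χ : G → ℂ) 1) =
        ((∑ χ : Cfsg.IrrCharacter G, if (χ : G → ℂ) x = (χ : G → ℂ) 1 then
          Cfsg.charDegree (χ : G → ℂ) ^ 2 else 0 : ℕ) : ℂ) := by
      push_cast
      apply Finset.sum_congr rfl
      intro χ _
      rcases hval χ with h | h
      · rw [if_pos h, h, irr_one_eq_charDegree χ]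
        simp [sq]
      · by_cases h' : (χ : G → ℂ) x = (χ : G → ℂ) 1
        · exfalso
          exact irr_one_ne_zero χ (by rw [← h', h])
        · rw [if_neg h', h, zero_mul]
    rw [hsum] at horth
    have hpos : 0 < ∑ χ : Cfsg.IrrCharacter G, if (χ : G → ℂ) x = (χ : G → ℂ) 1 then
          Cfsg.charDegree (χ : G → ℂ) ^ 2 else 0 := by
      have hle := Finset.single_le_sum (f := fun χ : Cfsg.IrrCharacter G =>
        if (χ : G → ℂ) x = (χ : G → ℂ) 1 then Cfsg.charDegree (χ : G → ℂ) ^ 2 else 0)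
        (fun _ _ => Nat.zero_le _)
        (Finset.mem_univ (⟨fun _ => (1 : ℂ), principal_isIrrCharacter⟩ : Cfsg.IrrCharacter G))
      simp only [if_true] at hle
      have h1 := charDegree_pos (⟨fun _ => (1 : ℂ), principal_isIrrCharacter⟩ : Cfsg.IrrCharacter G)
      have h2 : 0 < Cfsg.charDegree (fun _ : G => (1 : ℂ)) ^ 2 := pow_pos h1 2
      omega
    have : ((∑ χ : Cfsg.IrrCharacter G, if (χ : G → ℂ) x = (χ : G → ℂ) 1 then
          Cfsg.charDegree (χ : G → ℂ) ^ 2 else 0 : ℕ) : ℂ) ≠ 0 := Nat.cast_ne_zero.mpr hpos.ne'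
    exact this horth
  · rintro ⟨χ, hχ⟩
    obtain ⟨K, hKn, hK, hdvd, -⟩ := irr_quotient_facts χ
    obtain ⟨h1, h2⟩ := cod_eq χ K hK hdvd
    rw [h2] at hχ
    rw [h1]
    exact Dvd.dvd.mul_left hχ _

end Cfsg.Agent.S4808
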