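import Cfsg.Statements.S4797
import Cfsg.Agent.Lib.Helper8.CharKernel2
import Cfsg.Agent.Lib.Helper8.SylowPF
import Cfsg.Agent.S4808

set_option autoImplicit false
open Cfsg

namespace Cfsg.Agent.S4797

open Cfsg.Agent.Lib.Helper8
open scoped commutatorElement

/-- A non-perfect finite group has a normal subgroup of prime index. -/
theorem exists_normal_prime_index {G : Type*} [Group G] [Finite G]
    (h : commutator G ≠ ⊤) : ∃ M : Subgroup G, M.Normal ∧ M.index.Prime := by
  classical
  obtain ⟨M, hM, hle⟩ := (eq_top_or_exists_le_coatom (commutator G)).resolve_left h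
  have hMn : M.Normal := by
    constructor
    intro m hm g
    have h1 : ⁅g, m⁆ ∈ commutator G := by
      rw [commutator_def]
      exact Subgroup.commutator_mem_commutator (Subgroup.mem_top g) (Subgroup.mem_top m)
    have h2 : g * m * g⁻¹ = ⁅g, m⁆ * m := by
      rw [commutatorElement_def]; group
    rw [h2]
    exact M.mul_mem (hle h1) hm
  refine ⟨M, hMn, ?_⟩
  have hne : Nat.card (G ⧸ M) ≠ 1 := by
    intro h1
    have : M.index = 1 := h1
    exact hM.1 (Subgroup.index_eq_one.mp this)
  obtain ⟨p, hp, hpdvd⟩ := Nat.exists_prime_and_dvd hne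
  have : Fact p.Prime := ⟨hp⟩
  obtain ⟨y, hy⟩ := exists_prime_orderOf_dvd_card' p hpdvd
  have hy1 : y ≠ 1 := by
    intro h1
    rw [h1, orderOf_one] at hy
    exact hp.one_lt.ne' hy.symm
  have hzne : Subgroup.zpowers y ≠ ⊥ := by
    intro h1
    exact hy1 (Subgroup.zpowers_eq_bot.mp h1)
  have hsurj : Function.Surjective (QuotientGroup.mk' M) := QuotientGroup.mk'_surjective M
  have hge : M ≤ (Subgroup.zpowers y).comap (QuotientGroup.mk' M) := by
    intro m hm
    rw [Subgroup.mem_comap]
    have : QuotientGroup.mk' M m = 1 := (QuotientGroup.eq_one_iff m).mpr hm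
    rw [this]; exact Subgroup.one_mem _
  rcases (hM.le_iff.mp hge) with h1 | h1
  · -- comap = ⊤, hence zpowers y = ⊤
    have h2 : Subgroup.zpowers y = ⊤ := by
      apply Subgroup.comap_injective hsurj
      rw [h1, Subgroup.comap_top]
    have h3 : Nat.card (G ⧸ M) = p := by
      rw [← hy, ← Nat.card_zpowers, h2, Subgroup.card_top]
    show (Nat.card (G ⧸ M)).Prime
    rw [h3]; exact hp
  · exfalso
    apply hzne
    apply Subgroup.comap_injective hsurj
    rw [h1]
    exact (QuotientGroup.ker_mk' M).symm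

/-- A normal subgroup of prime index is the kernel of a linear character. -/
theorem exists_linear_char_of_prime_index {G : Type*} [Group G] [Finite G] (N : Subgroup G)
    [hN : N.Normal] (hp : N.index.Prime) :
    ∃ χ : Cfsg.IrrCharacter G, (χ : G → ℂ) 1 = 1 ∧ ∀ g, (χ : G → ℂ) g = (χ : G → ℂ) 1 ↔ g ∈ N := by
  classical
  have : Fintype (G ⧸ N) := Fintype.ofFinite _
  have hcardQ : Nat.card (G ⧸ N) = N.index := rfl
  have : Fact (Nat.card (G ⧸ N)).Prime := ⟨hcardQ ▸ hp⟩
  have hcyc : IsCyclic (G ⧸ N) := isCyclic_of_prime_card rfl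
  have hcomm : commutator (G ⧸ N) = ⊥ := by
    rw [eq_bot_iff, commutator_def, Subgroup.commutator_le]
    intro a _ b _
    rw [Subgroup.mem_bot, commutatorElement_eq_one_iff_commute]
    obtain ⟨c, hc⟩ := hcyc.exists_generator
    obtain ⟨i, rfl⟩ := Subgroup.mem_zpowers_iff.mp (hc a)
    obtain ⟨j, rfl⟩ := Subgroup.mem_zpowers_iff.mp (hc b)
    exact (Commute.refl c).zpow_zpow i j
  have hlin := card_linear_characters (G := G ⧸ N)
  rw [hcomm, Subgroup.index_bot, hcardQ] at hlin
  have hfin := irr_finite (G := G ⧸ N)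
  have hgt : 1 < Nat.card {χ : Cfsg.IrrCharacter (G ⧸ N) // χ.1 1 = 1} := hlin ▸ hp.one_lt
  have : Finite {χ : Cfsg.IrrCharacter (G ⧸ N) // χ.1 1 = 1} := inferInstance
  obtain ⟨a, b, hab⟩ := (Finite.one_lt_card_iff_nontrivial.mp hgt).exists_pair_ne
  -- one of them is not principal
  obtain ⟨ψ, hψ1, hψne⟩ : ∃ ψ : Cfsg.IrrCharacter (G ⧸ N), ψ.1 1 = 1 ∧ ψ.1 ≠ fun _ => (1 : ℂ) := by
    by_cases ha : a.1.1 = fun _ => (1 : ℂ)
    · refine ⟨b.1, b.2, ?_⟩
      intro hb
      apply hab
      apply Subtype.ext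
      apply Subtype.ext
      rw [ha, hb]
    · exact ⟨a.1, a.2, ha⟩
  obtain ⟨K, hKn, hK, -, -⟩ := irr_quotient_facts ψ
  have hKbot : K = ⊥ := by
    rcases Subgroup.eq_bot_or_eq_top_of_prime_card K with h | h
    · exact h
    · exfalso
      apply hψne
      funext q
      have : q ∈ K := h ▸ Subgroup.mem_top q
      rw [(hK q).mp this, hψ1]
  refine ⟨⟨ψ.1 ∘ (QuotientGroup.mk' N), isIrrCharacter_comp_surjective _
    (QuotientGroup.mk'_surjective N) ψ.2⟩, ?_, ?_⟩
  · show ψ.1 (QuotientGroup.mk' N 1) = 1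
    rw [map_one, hψ1]
  · intro g
    show ψ.1 (QuotientGroup.mk' N g) = ψ.1 (QuotientGroup.mk' N 1) ↔ g ∈ N
    rw [map_one, ← hK, hKbot, Subgroup.mem_bot]
    exact QuotientGroup.eq_one_iff g

/-- The codegree of an irreducible complex character χ of a finite group G is [G : ker χ] / χ(1), where ker χ is the set of elements at which χ takes the value χ(1). A non-trivial finite group is perfect if and only if no irreducible complex character of it has prime codegree. -/
theorem result {G : Type*} [Group G] [Finite G] [Nontrivial G] : commutator G = ⊤ ↔ ∀ χ : Cfsg.IrrCharacter G, ¬ ((Nat.card G / (Nat.card {g : G // (χ : G → ℂ) g = (χ : G → ℂ) 1} * Cfsg.charDegree (χ : G → ℂ)))).Prime := by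
  classical
  have : Fintype G := Fintype.ofFinite G
  constructor
  · intro hperf χ hprime
    obtain ⟨K, hKn, hK, hdvd, hlt⟩ := irr_degree_sq_lt_index χ
    obtain ⟨h1, h2⟩ := Cfsg.Agent.S4808.cod_eq χ K hK hdvd
    rw [h2] at hprime
    have hfpos : 0 < Cfsg.charDegree (χ : G → ℂ) := charDegree_pos χ
    rcases hlt with hKtop | hlt
    · rw [hKtop, Subgroup.index_top] at hprime
      have : 1 / Cfsg.charDegree (χ : G → ℂ) ≤ 1 := Nat.div_le_self _ _
      have h3 := hprime.one_lt
      omega
    · obtain ⟨c, hc⟩ := hdvd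
      rw [hc, Nat.mul_div_cancel_left _ hfpos] at hprime
      have : Fact c.Prime := ⟨hprime⟩
      have hfc : Cfsg.charDegree (χ : G → ℂ) < c := by
        rw [hc, sq] at hlt
        exact lt_of_mul_lt_mul_left hlt (Nat.zero_le _)
      have hcardQ : Nat.card (G ⧸ K) = c * Cfsg.charDegree (χ : G → ℂ) := by
        have : K.index = Nat.card (G ⧸ K) := rfl
        rw [← this, hc, mul_comm]
      have hperfQ : commutator (G ⧸ K) = ⊤ := by
        rw [commutator_def]
        have h3 := Subgroup.map_commutator (⊤ : Subgroup G) ⊤ (QuotientGroup.mk' K)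
        rw [Subgroup.map_top_of_surjective _ (QuotientGroup.mk'_surjective K), ← commutator_def,
          hperf, Subgroup.map_top_of_surjective _ (QuotientGroup.mk'_surjective K)] at h3
        exact h3.symm
      exact not_perfect_of_card_eq c _ hfpos hfc hcardQ hperfQ
  · intro hall
    by_contra hne
    obtain ⟨M, hMn, hMp⟩ := exists_normal_prime_index hne
    obtain ⟨χ, hχ1, hχ⟩ := exists_linear_char_of_prime_index M hMp
    apply hall χ
    have hdeg : Cfsg.charDegree (χ : G → ℂ) = 1 := by
      have := irr_one_eq_charDegree χ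
      rw [hχ1] at this
      exact_mod_cast this.symm
    have hdvd : Cfsg.charDegree (χ : G → ℂ) ∣ M.index := by rw [hdeg]; exact one_dvd _
    obtain ⟨-, h2⟩ := Cfsg.Agent.S4808.cod_eq χ M (fun g => (hχ g).symm) hdvd
    rw [h2, hdeg, Nat.div_one]
    exact hMp

end Cfsg.Agent.S4797
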