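import Cfsg.Statements.S0888
import Cfsg.Agent.Lib.Helper8.ProjLift3

set_option autoImplicit false
open Cfsg

namespace Cfsg.Agent.S0888

open Cfsg.Agent.Lib.Helper8

/-- Let N be a normal subgroup of the finite group G and ϑ an irreducible character of N invariant under conjugation by G. Suppose that for every prime p there are a subgroup P containing N, of index prime to p and with the index of N in P a power of p, and an irreducible character of P restricting to ϑ. Then ϑ is the restriction of an irreducible character of G. -/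
theorem result {G : Type*} [Group G] [Finite G] (N : Subgroup G) [hN : N.Normal] (ϑ : N → ℂ) (hϑ : Cfsg.IsIrrCharacter N ϑ) (hinv : ∀ (g : G) (n : N), ϑ ⟨g * n * g⁻¹, hN.conj_mem (n : G) n.2 g⟩ = ϑ n) (hsyl : ∀ p : ℕ, p.Prime → ∃ (P : Subgroup G) (hNP : N ≤ P) (η : P → ℂ), Nat.Coprime P.index p ∧ (∃ k : ℕ, N.relIndex P = p ^ k) ∧ Cfsg.IsIrrCharacter P η ∧ ∀ n : N, η ⟨(n : G), hNP n.2⟩ = ϑ n) : ∃ χ : G → ℂ, Cfsg.IsIrrCharacter G χ ∧ ∀ n : N, χ n = ϑ n := by
  classical
  obtain ⟨d, Y, hY, hYϑ⟩ := hϑ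
  have hinv' : ∀ (g : G) (n : N), Y.character (MulAut.conjNormal g n) = Y.character n := by
    intro g n
    rw [hYϑ]
    have h1 := hinv g n
    have h2 : (MulAut.conjNormal g n : N) = ⟨g * n * g⁻¹, hN.conj_mem (n : G) n.2 g⟩ := by
      apply Subtype.ext
      rw [MulAut.conjNormal_apply]
    rw [h2]; exact h1
  obtain ⟨Z, hZ⟩ := extends_of_sylow N Y hY hinv' (by
    intro p hp
    obtain ⟨P, hNP, η, hcop, -, hη, hηN⟩ := hsyl p hp
    obtain ⟨d', Z₀, hZ₀, hZ₀η⟩ := hη
    let Zr : Representation ℂ N (Fin d' → ℂ) := Z₀.comp (Subgroup.inclusion hNP)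
    have hchar : Zr.character = Y.character := by
      ext n
      show Z₀.character (Subgroup.inclusion hNP n) = _
      rw [hZ₀η, hYϑ]
      exact hηN n
    obtain ⟨φ⟩ := equiv_of_character_eq Zr Y hchar
    refine ⟨P, hNP, transportRep Z₀ φ.toLinearEquiv, hcop, ?_⟩
    intro n
    refine LinearMap.ext fun v => ?_
    have h1 := LinearMap.congr_fun (φ.isIntertwining' n) (φ.toLinearEquiv.symm v)
    have h2 : (transportRep Z₀ φ.toLinearEquiv ⟨(n : G), hNP n.2⟩) v =
        φ.toLinearEquiv (Z₀ ⟨(n : G), hNP n.2⟩ (φ.toLinearEquiv.symm v)) :=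
      transportRep_apply Z₀ φ.toLinearEquiv _ v
    rw [h2]
    have h3 : Y n (φ.toLinearEquiv (φ.toLinearEquiv.symm v)) = Y n v := by
      rw [LinearEquiv.apply_symm_apply]
    rw [← h3]
    exact h1)
  refine ⟨Z.character, ⟨d, Z, ?_, rfl⟩, ?_⟩
  · apply irreducible_of_comp N.subtype
    have : (Z.comp N.subtype : Representation ℂ N (Fin d → ℂ)) = Y := MonoidHom.ext hZ
    rw [this]; exact hY
  · intro n
    rw [← hYϑ]
    show LinearMap.trace ℂ _ (Z n) = LinearMap.trace ℂ _ (Y n)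
    rw [hZ n]

end Cfsg.Agent.S0888
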