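import Cfsg.Statements.S0866
import Cfsg.Agent.Lib.Helper8.CharDetExt
import Cfsg.Agent.S0863
import Cfsg.Agent.S0888

set_option autoImplicit false
open Cfsg

namespace Cfsg.Agent.S0866

open Cfsg.Agent.Lib.Helper8
/-- Sylow overgroup of a normal subgroup. -/
theorem exists_sylow_overgroup {G : Type*} [Group G] [Finite G] (N : Subgroup G) [hN : N.Normal]
    (p : ℕ) [hp : Fact p.Prime] :
    ∃ (P : Subgroup G), N ≤ P ∧ Nat.Coprime P.index p ∧ (∃ k : ℕ, N.relIndex P = p ^ k) := by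
  obtain ⟨Pbar⟩ : Nonempty (Sylow p (G ⧸ N)) := inferInstance
  refine ⟨(Pbar : Subgroup (G ⧸ N)).comap (QuotientGroup.mk' N), ?_, ?_, ?_⟩
  · intro k hk
    show QuotientGroup.mk' N k ∈ (Pbar : Subgroup (G ⧸ N))
    have : QuotientGroup.mk' N k = 1 := (QuotientGroup.eq_one_iff k).mpr hk
    rw [this]; exact Subgroup.one_mem _
  · rw [(Pbar : Subgroup (G ⧸ N)).index_comap_of_surjective (QuotientGroup.mk'_surjective N)]
    exact ((Nat.Prime.coprime_iff_not_dvd hp.out).mpr Pbar.not_dvd_index).symm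
  · obtain ⟨k, hk⟩ := IsPGroup.exists_card_eq Pbar.2
    refine ⟨k, ?_⟩
    have h1 : (⊥ : Subgroup (G ⧸ N)).comap (QuotientGroup.mk' N) = N :=
      QuotientGroup.ker_mk' N
    have h2 : ((⊥ : Subgroup (G ⧸ N)).comap (QuotientGroup.mk' N)).relIndex
        ((Pbar : Subgroup (G ⧸ N)).comap (QuotientGroup.mk' N)) = p ^ k := by
      rw [Subgroup.relIndex_comap, Subgroup.map_comap_eq_self_of_surjective
        (QuotientGroup.mk'_surjective N), Subgroup.relIndex_bot_left]
      exact hk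
    have h3 : ∀ K : Subgroup G, K = N → K.relIndex
        ((Pbar : Subgroup (G ⧸ N)).comap (QuotientGroup.mk' N)) = N.relIndex
        ((Pbar : Subgroup (G ⧸ N)).comap (QuotientGroup.mk' N)) := by
      intro K hK; rw [hK]
    rw [← h3 _ h1]
    exact h2

/-- Let N be a normal subgroup of the finite group G and ϑ an irreducible character of N, invariant under conjugation by G, of degree d coprime to the index of N. Then ϑ is the restriction of an irreducible character of G if and only if the determinantal character of ϑ is the restriction of a character of G of degree 1. -/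
theorem result {G : Type*} [Group G] [Finite G] (N : Subgroup G) [hN : N.Normal] (ϑ : N → ℂ) (hϑ : Cfsg.IsIrrCharacter N ϑ) (hinv : ∀ (g : G) (n : N), ϑ ⟨g * n * g⁻¹, hN.conj_mem (n : G) n.2 g⟩ = ϑ n) (d : ℕ) (hd : ϑ 1 = d) (hcop : Nat.Coprime N.index d) : (∃ χ : G → ℂ, Cfsg.IsIrrCharacter G χ ∧ (∀ n : N, χ n = ϑ n)) ↔ ∃ μ : G → ℂ, Cfsg.IsCharacter G μ ∧ μ 1 = 1 ∧ ∀ n : N, μ n = Cfsg.detChar ϑ n := by
  classical
  have hinv' : ∀ (g : G) (k : N), ϑ (MulAut.conjNormal g k) = ϑ k := by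
    intro g k
    rw [Cfsg.Agent.S0863.conjNormal_eq_mk]; exact hinv g k
  constructor
  · rintro ⟨χ, hχ, hres⟩
    obtain ⟨m, hm⟩ := det_extends_of_extends N ϑ χ (irr_isCharacter hχ) hres
    exact ⟨linFun m, linFun_isCharacter m, linFun_one_eq m, hm⟩
  · rintro ⟨μ, hμ, hμ1, hμN⟩
    obtain ⟨m, rfl⟩ := exists_linFun hμ hμ1
    apply Cfsg.Agent.S0888.result N ϑ hϑ hinv
    intro p hp
    have : Fact p.Prime := ⟨hp⟩
    obtain ⟨P, hNP, hcopP, k, hk⟩ := exists_sylow_overgroup N p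
    have hcard : Nat.card (P ⧸ N.subgroupOf P) = p ^ k := hk
    have hpg : IsPGroup p (P ⧸ N.subgroupOf P) := IsPGroup.of_card hcard
    have hnil : Group.IsNilpotent (P ⧸ N.subgroupOf P) := hpg.isNilpotent
    have hsolv : Group.IsSolvable (P ⧸ N.subgroupOf P) := inferInstance
    have hcop' : Nat.Coprime (N.relIndex P) d := by
      have h1 : N.relIndex P ∣ N.index := Subgroup.relIndex_dvd_index_of_normal N P
      exact Nat.Coprime.coprime_dvd_left h1 hcop
    obtain ⟨η, hη, hηN⟩ := det_extension_sub N P hNP hsolv ϑ hϑ hinv' d hd hcop' m hμN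
    exact ⟨P, hNP, η, hcopP, ⟨k, hk⟩, hη, hηN⟩

end Cfsg.Agent.S0866
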