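import Cfsg.Statements.S0867
import Cfsg.Agent.Lib.Helper8.CharDetExt
import Cfsg.Agent.S0862
import Cfsg.Agent.S0863
import Cfsg.Agent.S0866

set_option autoImplicit false
open Cfsg

namespace Cfsg.Agent.S0867

open Cfsg.Agent.Lib.Helper8

/-- Let N be a normal subgroup of the finite group G and ϑ an irreducible character of N of degree d, invariant under conjugation by G, such that the index of N is coprime to the product of d and the determinantal order of ϑ. Then there is an irreducible character χ of G restricting to ϑ whose determinantal order equals that of ϑ, and χ is the only irreducible character of G restricting to ϑ whose determinantal order is coprime to the index of N. -/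
theorem result {G : Type*} [Group G] [Finite G] (N : Subgroup G) [hN : N.Normal] (ϑ : N → ℂ) (hϑ : Cfsg.IsIrrCharacter N ϑ) (hinv : ∀ (g : G) (n : N), ϑ ⟨g * n * g⁻¹, hN.conj_mem (n : G) n.2 g⟩ = ϑ n) (d : ℕ) (hd : ϑ 1 = d) (hcop : Nat.Coprime N.index (Cfsg.detOrder ϑ * d)) : ∃ χ : G → ℂ, (Cfsg.IsIrrCharacter G χ ∧ (∀ n : N, χ n = ϑ n) ∧ Cfsg.detOrder χ = Cfsg.detOrder ϑ) ∧ ∀ χ' : G → ℂ, Cfsg.IsIrrCharacter G χ' → (∀ n : N, χ' n = ϑ n) → Nat.Coprime N.index (Cfsg.detOrder χ') → χ' = χ := by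
  classical
  have hϑchar : Cfsg.IsCharacter N ϑ := irr_isCharacter hϑ
  obtain ⟨ℓ, hℓ⟩ := exists_detHom hϑchar
  have hinv' : ∀ (g : G) (k : N), ϑ (MulAut.conjNormal g k) = ϑ k := by
    intro g k
    rw [Cfsg.Agent.S0863.conjNormal_eq_mk]; exact hinv g k
  have hord : Cfsg.detOrder ϑ = orderOf ℓ := by
    unfold Cfsg.detOrder
    rw [hℓ, orderOf_linFun]
  have hinvℓ : IsInvHom N ℓ := by
    intro g k
    apply Units.ext
    have h1 := detChar_comp (MulAut.conjNormal g : MulAut N).toMonoidHom hϑchar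
    have h2 : ϑ ∘ ⇑((MulAut.conjNormal g : MulAut N).toMonoidHom) = ϑ := by
      ext x
      exact hinv' g x
    rw [h2] at h1
    have h3 := congrFun h1 k
    rw [hℓ] at h3
    exact h3.symm
  have hcopd : Nat.Coprime N.index d := Nat.Coprime.coprime_mul_left_right hcop
  have hcopℓ : Nat.Coprime N.index (orderOf ℓ) := by
    rw [← hord]; exact Nat.Coprime.coprime_mul_right_right hcop
  obtain ⟨μ, hμN, hμo⟩ := exists_extension_coprime N ℓ hinvℓ hcopℓ
  have hμN' : ∀ n : N, linFun μ n = Cfsg.detChar ϑ n := by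
    intro n
    rw [hℓ]
    show ((μ n : ℂˣ) : ℂ) = ((ℓ n : ℂˣ) : ℂ)
    rw [hμN]
  have hext := (Cfsg.Agent.S0866.result N ϑ hϑ hinv d hd hcopd).mpr
    ⟨linFun μ, linFun_isCharacter μ, linFun_one_eq μ, hμN'⟩
  obtain ⟨χ, ⟨hχirr, hχN, hχdet⟩, huniq⟩ := Cfsg.Agent.S0862.result N ϑ hϑ d hd hcopd hext
    (linFun μ) ⟨linFun_isCharacter μ, linFun_one_eq μ⟩ hμN'
  refine ⟨χ, ⟨hχirr, hχN, ?_⟩, ?_⟩
  · unfold Cfsg.detOrder
    rw [hχdet, orderOf_linFun, hμo, hℓ, orderOf_linFun]
  · intro χ' hχ'irr hχ'N hχ'cop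
    apply huniq
    refine ⟨hχ'irr, hχ'N, ?_⟩
    obtain ⟨μ', hμ'⟩ := exists_detHom (irr_isCharacter hχ'irr)
    have hμ'N : ∀ n : N, μ' n = μ n := by
      intro n
      apply Units.ext
      have h1 := congrFun (detChar_comp N.subtype (irr_isCharacter hχ'irr)) n
      have h2 : (χ' ∘ ⇑N.subtype) = ϑ := by
        ext x
        exact hχ'N x
      rw [h2, hμ'] at h1
      have h3 := hμN' n
      rw [h1] at h3
      exact h3.symm
    have hcop' : Nat.Coprime N.index (orderOf μ') := by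
      unfold Cfsg.detOrder at hχ'cop
      rw [hμ', orderOf_linFun] at hχ'cop
      exact hχ'cop
    have := extension_unique_coprime N μ' μ hμ'N hcop' (hμo ▸ hcopℓ)
    rw [hμ', this]

end Cfsg.Agent.S0867
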