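import Cfsg.Statements.S0932
import Cfsg.Agent.Lib.Helper8.CharClassSum

set_option autoImplicit false
open Cfsg

namespace Cfsg.Agent.S0932

open Cfsg.Agent.Lib.Helper8

/-- Let H be a subgroup of the finite group G and ξ a character of H. For every g ∈ G, the sum of ξ h / ξ 1 over the elements h ∈ H that are conjugate in G to g equals the central character at g of the character of G induced from ξ (class size times value divided by degree). -/
theorem result {G : Type*} [Group G] [Fintype G] (H : Subgroup G) (ξ : H → ℂ) (hξ : Cfsg.IsCharacter H ξ) (g : G) : Cfsg.inducedCentralChar H ξ g = Cfsg.centralChar (Cfsg.indFun H ξ) g := by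
  classical
  haveI : Fintype H := Fintype.ofFinite H
  unfold inducedCentralChar centralChar
  rw [indFun_one, indFun_eq_class_sum]
  have hfin : {h : H | IsConj g (h : G)} = ↑(Finset.univ.filter (fun h : H => IsConj g (h : G))) := by
    ext h; simp
  rw [hfin, finsum_mem_coe_finset]
  have hH : (Nat.card H : ℂ) ≠ 0 := Nat.cast_ne_zero.mpr Nat.card_pos.ne'
  set C := Subgroup.centralizer ({g} : Set G) with hC
  have hCne : (Nat.card C : ℂ) ≠ 0 := Nat.cast_ne_zero.mpr Nat.card_pos.ne'
  have hidx : (H.index : ℂ) ≠ 0 := Nat.cast_ne_zero.mpr (Subgroup.index_ne_zero_of_finite)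
  have hcard : (Nat.card C : ℂ) * (C.index : ℂ) = (Nat.card H : ℂ) * (H.index : ℂ) := by
    rw [← Nat.cast_mul, ← Nat.cast_mul, Subgroup.card_mul_index, Subgroup.card_mul_index]
  rw [← Finset.sum_div]
  set S := ∑ h ∈ Finset.univ.filter (fun h : H => IsConj g (h : G)), ξ h with hS
  by_cases h1 : ξ 1 = 0
  · rw [h1]; simp
  · rw [div_eq_div_iff h1 (mul_ne_zero hidx h1)]
    have : (C.index : ℂ) * ((Nat.card H : ℂ)⁻¹ * (Nat.card C : ℂ) * S) =
        (Nat.card H : ℂ)⁻¹ * ((Nat.card C : ℂ) * (C.index : ℂ)) * S := by ring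
    rw [this, hcard]
    field_simp

end Cfsg.Agent.S0932
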