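import Cfsg.Statements.S0857
import Cfsg.Agent.Lib.Helper8.AbelChief
import Cfsg.Agent.Lib.Helper8.GlaubRefine

set_option autoImplicit false
open Cfsg

namespace Cfsg.Agent.S0857

open Cfsg.Agent.Lib.Helper8

/-- Let L < K be normal subgroups of the finite group G with no normal subgroup of G strictly between them and with K / L abelian (the commutator subgroup of K lies in L). Let ϑ be an irreducible character of K invariant under conjugation by G. Then the restriction of ϑ to L is irreducible; or it equals e times an irreducible character of L with e ^ 2 equal to the index of L in K; or it is the sum of a family of pairwise distinct irreducible characters of L indexed by a set whose size is the index of L in K. -/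
theorem result {G : Type*} [Group G] [Fintype G] (K L : Subgroup G) [hK : K.Normal] [L.Normal] (hLK : L < K) (hchief : ∀ M : Subgroup G, M.Normal → L ≤ M → M ≤ K → M = L ∨ M = K) (hab : ⁅K, K⁆ ≤ L) (ϑ : K → ℂ) (hϑ : Cfsg.IsIrrCharacter K ϑ) (hinv : ∀ (g : G) (n : K), ϑ ⟨g * n * g⁻¹, hK.conj_mem (n : G) n.2 g⟩ = ϑ n) : Cfsg.IsIrrCharacter L (fun x : L => ϑ ⟨(x : G), hLK.le x.2⟩) ∨ (∃ (φ : L → ℂ) (e : ℕ), Cfsg.IsIrrCharacter L φ ∧ (fun x : L => ϑ ⟨(x : G), hLK.le x.2⟩) = (e : ℂ) • φ ∧ e ^ 2 = L.relIndex K) ∨ (∃ F : Finset (L → ℂ), (∀ φ ∈ F, Cfsg.IsIrrCharacter L φ) ∧ F.card = L.relIndex K ∧ (fun x : L => ϑ ⟨(x : G), hLK.le x.2⟩) = ∑ φ ∈ F, φ) := by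
  classical
  haveI : Fintype ↥K := Fintype.ofFinite _
  haveI hL'n : (L.subgroupOf K).Normal := Subgroup.normal_subgroupOf
  haveI : Fintype ↥(L.subgroupOf K) := Fintype.ofFinite _
  haveI : Fintype ↥L := Fintype.ofFinite _
  have hLn : L.Normal := inferInstance
  have hab' : ∀ x y : ↥K, x * y * x⁻¹ * y⁻¹ ∈ L.subgroupOf K := by
    intro x y
    rw [Subgroup.mem_subgroupOf]
    apply hab
    have := Subgroup.commutator_mem_commutator x.2 y.2
    simpa [commutatorElement_def] using this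
  let σ : G → ↥K ≃* ↥K := fun g => MulAut.conjNormal g
  have hσcoe : ∀ (g : G) (k : ↥K), ((σ g k : ↥K) : G) = g * k * g⁻¹ :=
    fun g k => MulAut.conjNormal_apply g k
  have hσL : ∀ (g : G) (x : ↥K), x ∈ L.subgroupOf K ↔ σ g x ∈ L.subgroupOf K := by
    intro g x
    rw [Subgroup.mem_subgroupOf, Subgroup.mem_subgroupOf, hσcoe]
    constructor
    · intro h; exact hLn.conj_mem _ h g
    · intro h
      have := hLn.conj_mem _ h g⁻¹
      simpa [mul_assoc] using this
  have hσϑ : ∀ (g : G) (k : ↥K), ϑ (σ g k) = ϑ k := by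
    intro g k
    rw [← hinv g k]
    exact congrArg ϑ (Subtype.ext (hσcoe g k))
  have hchief' : ∀ M : Subgroup ↥K, L.subgroupOf K ≤ M → (∀ g : G, ∀ k ∈ M, σ g k ∈ M) →
      M = L.subgroupOf K ∨ M = ⊤ := by
    intro M hLM hMinv
    have hMn : (M.map K.subtype).Normal := by
      constructor
      intro x hx g
      obtain ⟨k, hk, rfl⟩ := Subgroup.mem_map.1 hx
      exact Subgroup.mem_map.2 ⟨σ g k, hMinv g k hk, hσcoe g k⟩
    have h1 : L ≤ M.map K.subtype := by
      intro l hl
      exact Subgroup.mem_map.2 ⟨⟨l, hLK.le hl⟩, hLM (Subgroup.mem_subgroupOf.2 hl), rfl⟩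
    have h2 : M.map K.subtype ≤ K := by
      intro x hx
      obtain ⟨k, _, rfl⟩ := Subgroup.mem_map.1 hx
      exact k.2
    rcases hchief _ hMn h1 h2 with h | h
    · left
      apply le_antisymm _ hLM
      intro k hk
      rw [Subgroup.mem_subgroupOf, ← h]
      exact Subgroup.mem_map.2 ⟨k, hk, rfl⟩
    · right
      rw [eq_top_iff]
      intro k _
      have : (k : G) ∈ M.map K.subtype := by rw [h]; exact k.2
      obtain ⟨k', hk', hkk'⟩ := Subgroup.mem_map.1 this
      have : k' = k := Subtype.ext hkk'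
      rw [← this]; exact hk'
  have hmain := abelian_chief_restrict (L.subgroupOf K) hab' hϑ σ hσL hσϑ hchief'
  let e₀ : ↥(L.subgroupOf K) ≃* ↥L := Subgroup.subgroupOfEquivOfLe hLK.le
  have he₀ : ∀ x : ↥L, ((e₀.symm x : ↥(L.subgroupOf K)) : ↥K) = ⟨(x : G), hLK.le x.2⟩ := by
    intro x; rfl
  have htr : ∀ f : ↥(L.subgroupOf K) → ℂ, IsIrrCharacter _ f →
      IsIrrCharacter ↥L (f ∘ e₀.symm) :=
    fun f hf => isIrrCharacter_comp_equiv e₀.symm hf
  have hgoal : (fun x : L => ϑ ⟨(x : G), hLK.le x.2⟩) =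
      (fun l : ↥(L.subgroupOf K) => ϑ l) ∘ e₀.symm := by
    funext x
    simp only [Function.comp_apply]
    rw [he₀]
  have hinj : Function.Injective (fun f : ↥(L.subgroupOf K) → ℂ => f ∘ e₀.symm) := by
    intro f g hfg
    funext x
    have := congrFun hfg (e₀ x)
    simpa using this
  rcases hmain with h | ⟨φ, e, hφ, hres, he⟩ | ⟨F, hF, hcard, hres⟩
  · left
    rw [hgoal]; exact htr _ h
  · right; left
    refine ⟨φ ∘ e₀.symm, e, htr _ hφ, ?_, ?_⟩
    · rw [hgoal, hres]; rfl
    · rw [he]; rfl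
  · right; right
    refine ⟨F.image (fun f => f ∘ e₀.symm), ?_, ?_, ?_⟩
    · intro ψ hψ
      obtain ⟨f, hf, rfl⟩ := Finset.mem_image.1 hψ
      exact htr _ (hF f hf)
    · rw [Finset.card_image_of_injective _ hinj, hcard]; rfl
    · rw [hgoal, hres, Finset.sum_image (fun f _ g _ hfg => hinj hfg)]
      funext x
      simp only [Function.comp_apply, Finset.sum_apply]

end Cfsg.Agent.S0857
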