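import Cfsg.Statements.S1528
import Cfsg.Agent.Lib.Helper8.CharFrobenius
import Cfsg.Agent.Lib.Helper8.CharClifford3

set_option autoImplicit false
open Cfsg

namespace Cfsg.Agent.S1528

open Cfsg.Agent.Lib.Helper8

/-- Let N be a normal subgroup of the finite group G such that every element of G commuting with a non-identity element of N lies in N. If χ is an irreducible character of G with χ n ≠ χ 1 for some n ∈ N, then χ is the function induced from some irreducible character of N. -/
theorem result {G : Type*} [Group G] [Fintype G] (N : Subgroup G) [N.Normal] (hC : ∀ n ∈ N, n ≠ 1 → Subgroup.centralizer ({n} : Set G) ≤ N) (χ : G → ℂ) (hχ : Cfsg.IsIrrCharacter G χ) (hker : ∃ n ∈ N, χ n ≠ χ 1) : ∃ φ : N → ℂ, Cfsg.IsIrrCharacter N φ ∧ χ = Cfsg.indFun N φ := by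
  classical
  have hN : N.Normal := inferInstance
  have : Fintype N := Fintype.ofFinite N
  have := irr_finite (G := N)
  have : Fintype (IrrCharacter N) := Fintype.ofFinite _
  have hχcf : IsClassFunction G χ := isClassFunction_of_isCharacter (irr_isCharacter hχ)
  obtain ⟨m, hm⟩ := isCharacter_decomp (isCharacter_restrict N (irr_isCharacter hχ))
  -- a nonprincipal constituent
  have hex : ∃ φ : IrrCharacter N, m φ ≠ 0 ∧ φ.1 ≠ fun _ => 1 := by
    by_contra hcon
    push Not at hcon
    obtain ⟨n, hn, hne⟩ := hker
    apply hne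
    have h1 := hm ⟨n, hn⟩
    have h2 := hm 1
    simp only at h1 h2
    rw [OneMemClass.coe_one] at h2
    rw [h1, h2]
    apply Finset.sum_congr rfl
    intro φ _
    by_cases h0 : m φ = 0
    · rw [h0]; simp
    · rw [hcon φ h0]
  obtain ⟨φ, hmφ, hφne⟩ := hex
  -- the stabilizer of φ is N
  have hstab : ∀ x : G, conjChar hN φ.1 x = φ.1 ↔ x ∈ N := by
    intro x
    constructor
    · intro hfix
      by_contra hx
      apply hφne
      apply fixed_irr_trivial_of_fpf N hN x _ φ hfix
      intro k hk hcomm
      by_contra hk1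
      apply hx
      apply hC k hk hk1
      rw [Subgroup.mem_centralizer_iff]
      intro z hz
      rw [Set.mem_singleton_iff] at hz
      rw [hz]
      exact hcomm.symm
    · intro hx
      ext h
      rw [conjChar_apply]
      have hφcf : IsClassFunction N φ.1 := isClassFunction_of_isCharacter (irr_isCharacter φ.2)
      exact hφcf h ⟨x, hx⟩
  have hnorm : classInner (indFun N φ.1) (indFun N φ.1) = 1 := by
    rw [classInner_indFun_indFun hN φ.2 φ.2]
    have : (Finset.univ.filter (fun x : G => conjChar hN φ.1 x = φ.1)).card = Nat.card N := by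
      rw [Nat.card_eq_fintype_card, Fintype.card_subtype]
      congr 1
      apply Finset.filter_congr
      intro x _
      exact hstab x
    rw [this]
    have hNne : (Nat.card N : ℂ) ≠ 0 := Nat.cast_ne_zero.mpr Nat.card_pos.ne'
    field_simp
  have hirr : IsIrrCharacter G (indFun N φ.1) :=
    isIrrCharacter_of_norm_one (isCharacter_indFun N (irr_isCharacter φ.2)) hnorm
  refine ⟨φ.1, φ.2, ?_⟩
  by_contra hne
  have h0 : classInner (indFun N φ.1) χ = 0 := by
    rw [irr_classInner hirr hχ, if_neg (fun h => hne h.symm)]
  rw [frobenius_reciprocity N φ.1 χ hχcf, classInner_conj_symm] at h0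
  have hres : (fun h : N => χ h) = fun g => ∑ ψ : IrrCharacter N, (m ψ : ℂ) * ψ.1 g := funext hm
  rw [hres, classInner_comb_irr (fun ψ => (m ψ : ℂ)) φ] at h0
  apply hmφ
  have := congrArg (starRingEnd ℂ) h0
  simp at this
  exact this

end Cfsg.Agent.S1528
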