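import Cfsg.Statements.S5085
import Cfsg.Agent.Lib.Helper9.Fusion

set_option autoImplicit false
open Cfsg

namespace Cfsg.Agent.S5085

open Cfsg.Agent.Lib.Helper9

theorem result {Ω : Type*} [Group Ω] {S : Subgroup Ω} (F : Cfsg.FusionSystem S) (Q U : Subgroup Ω) (hQ : F.IsNormal Q) (hUQ : U ≤ Q) (hU : (U.subgroupOf Q).Characteristic) : F.IsNormal U := by
  obtain ⟨hQS, hQext⟩ := hQ
  refine ⟨hUQ.trans hQS, ?_⟩
  intro P φ hφ
  obtain ⟨ψ, hψ, hψP, hψQ⟩ := hQext P φ hφ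
  have hle : P ⊔ U ≤ P ⊔ Q := sup_le_sup_left hUQ P
  have hψinj := F.injective_of_mem hψ
  -- the automorphism of Q induced by ψ
  have hmemQ : ∀ x : Q, ψ (Subgroup.inclusion le_sup_right x) ∈ Q := by
    intro x
    have : ψ (Subgroup.inclusion le_sup_right x) ∈ (Q.subgroupOf (P ⊔ Q)).map ψ :=
      ⟨Subgroup.inclusion le_sup_right x, Subgroup.mem_subgroupOf.mpr x.2, rfl⟩
    rw [hψQ] at this
    exact this
  let f : Q →* Q := (ψ.comp (Subgroup.inclusion le_sup_right)).codRestrict Q hmemQ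
  have hfbij : Function.Bijective f := by
    constructor
    · intro x y hxy
      have h1 : ψ (Subgroup.inclusion le_sup_right x) = ψ (Subgroup.inclusion le_sup_right y) :=
        congrArg Subtype.val hxy
      have h2 := hψinj h1
      have h3 : (x : Ω) = (y : Ω) := congrArg (fun t : ↥(P ⊔ Q) => (t : Ω)) h2
      exact Subtype.ext h3
    · intro y
      have hy : (y : Ω) ∈ (Q.subgroupOf (P ⊔ Q)).map ψ := by rw [hψQ]; exact y.2
      obtain ⟨x, hx, hxy⟩ := hy
      refine ⟨⟨x, Subgroup.mem_subgroupOf.mp hx⟩, ?_⟩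
      apply Subtype.ext
      show ψ (Subgroup.inclusion le_sup_right ⟨x, Subgroup.mem_subgroupOf.mp hx⟩) = y
      rw [← hxy]
      rfl
  let α : Q ≃* Q := MulEquiv.ofBijective f hfbij
  have hαU := (Subgroup.characteristic_iff_map_eq.mp hU) α
  refine ⟨ψ.comp (Subgroup.inclusion hle), restrict_mem F hψ hle, ?_, ?_⟩
  · intro x
    rw [← hψP x]
    rfl
  · ext y
    constructor
    · rintro ⟨x, hx, rfl⟩
      have hxU : (x : Ω) ∈ U := Subgroup.mem_subgroupOf.mp hx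
      have h1 : α ⟨x, hUQ hxU⟩ ∈ (U.subgroupOf Q).map α.toMonoidHom :=
        ⟨⟨x, hUQ hxU⟩, Subgroup.mem_subgroupOf.mpr hxU, rfl⟩
      rw [hαU] at h1
      exact Subgroup.mem_subgroupOf.mp h1
    · intro hy
      have h1 : (⟨y, hUQ hy⟩ : Q) ∈ U.subgroupOf Q := Subgroup.mem_subgroupOf.mpr hy
      rw [← hαU] at h1
      obtain ⟨x, hx, hxy⟩ := h1
      have hxU : (x : Ω) ∈ U := Subgroup.mem_subgroupOf.mp hx
      refine ⟨⟨x, (le_sup_right : U ≤ P ⊔ U) hxU⟩, Subgroup.mem_subgroupOf.mpr hxU, ?_⟩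
      have := congrArg Subtype.val hxy
      exact this

end Cfsg.Agent.S5085
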