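import Cfsg.Statements.S5087
import Cfsg.Agent.Lib.Helper9.FusionAlp4

set_option autoImplicit false
open Cfsg

namespace Cfsg.Agent.S5087

open Cfsg.Agent.Lib.Helper9 Cfsg.FusionSystem

/-- In a saturated fusion system over a finite p-group S, a subgroup Q is normal in the system if and only if every subgroup P that equals S or is essential contains Q and every element of Aut_F(P) maps Q onto itself. -/
theorem result {Ω : Type*} [Group Ω] {S : Subgroup Ω} [Finite S] (p : ℕ) [Fact p.Prime] (hS : IsPGroup p S) (F : Cfsg.FusionSystem S) (hF : F.IsSaturated p) (Q : Subgroup Ω) : F.IsNormal Q ↔ ∀ P : Subgroup Ω, (P = S ∨ F.IsEssential p P) → (Q ≤ P ∧ ∀ α ∈ F.autGroup P, (Q.subgroupOf P).map α.toMonoidHom = Q.subgroupOf P) := by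
  constructor
  · intro hQ P hP
    have hPS : P ≤ S := by
      rcases hP with rfl | hess
      · exact le_rfl
      · exact hess.1.1
    have hQP : Q ≤ P := by
      rcases hP with rfl | hess
      · exact hQ.1
      · exact le_of_isNormal_of_centric_radical p hS F hQ hess.1
          (Cfsg.Agent.S5080.result p hS F hF P hess)
    exact ⟨hQP, fun α hα => aut_map_eq_of_isNormal F hQ hPS hQP hα⟩
  · intro H
    have hQS : Q ≤ S := (H S (Or.inl rfl)).1
    have hfinQ : Finite Q := finite_of_le' hQS
    have hSN : S ≤ Subgroup.normalizer (Q : Set Ω) := by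
      intro s hs
      apply mem_normalizer_of_conj_mem_of_finite
      intro y hy
      have hmem : MulAut.conj (⟨s, hs⟩ : S) ∈ F.autGroup S := by
        apply Subgroup.subset_closure
        have h := F.conj_mem (P := S) (g := s) le_rfl hs
        have : S.subtype.comp (MulAut.conj (⟨s, hs⟩ : S)).toMonoidHom = conjHom S s := by
          ext z; rfl
        show S.subtype.comp (MulAut.conj (⟨s, hs⟩ : S)).toMonoidHom ∈ F.Hom S
        rw [this]; exact h
      have h1 := (H S (Or.inl rfl)).2 _ hmem
      have h2 : MulAut.conj (⟨s, hs⟩ : S) ⟨y, hQS hy⟩ ∈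
          (Q.subgroupOf S).map (MulAut.conj (⟨s, hs⟩ : S)).toMonoidHom :=
        ⟨⟨y, hQS hy⟩, Subgroup.mem_subgroupOf.mpr hy, rfl⟩
      rw [h1] at h2
      exact Subgroup.mem_subgroupOf.mp h2
    have hNS : normalizerIn S Q = S := le_antisymm inf_le_left (le_inf le_rfl hSN)
    have hE : ∀ P : Subgroup Ω, (P = S ∨ F.IsEssential p P) →
        F.autGroup P ≤ (castSystem hNS (normalizerSystem F Q hQS)).autGroup P := by
      intro P hP α hα
      obtain ⟨hQP, hinv⟩ := H P hP
      have hPS : P ≤ S := by
        rcases hP with rfl | hess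
        · exact le_rfl
        · exact hess.1.1
      apply Subgroup.subset_closure
      show P.subtype.comp α.toMonoidHom ∈ (castSystem hNS (normalizerSystem F Q hQS)).Hom P
      rw [castSystem_hom]
      exact aut_mem_normalizerHom F hPS hQP (by rw [hNS]; exact hPS) hα (hinv α hα)
    have hle := Cfsg.Agent.S5082.result p hS F hF _ hE
    refine ⟨hQS, ?_⟩
    intro P φ hφ
    have h1 := hle P hφ
    rw [castSystem_hom] at h1
    exact h1.2.2.2

end Cfsg.Agent.S5087
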