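import Cfsg.Statements.S5086
import Cfsg.Agent.S5087

set_option autoImplicit false
open Cfsg

namespace Cfsg.Agent.S5086

open Cfsg.Agent.Lib.Helper9 Cfsg.FusionSystem

theorem map_aut_eq_of_stronglyClosed {Ω : Type*} [Group Ω] {S : Subgroup Ω} [Finite S]
    (F : Cfsg.FusionSystem S) {P Q : Subgroup Ω} (hQ : F.StronglyClosed Q) (hPS : P ≤ S) (hQP : Q ≤ P)
    {α : MulAut P} (hα : α ∈ F.autGroup P) :
    (Q.subgroupOf P).map α.toMonoidHom = Q.subgroupOf P := by
  have hφ := (mem_autGroup_iff F hPS α).mp hα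
  have hfinP : Finite P := finite_of_le' hPS
  have hle : (Q.subgroupOf P).map α.toMonoidHom ≤ Q.subgroupOf P := by
    rintro _ ⟨x, hx, rfl⟩
    have hxQ : (x : Ω) ∈ Q := Subgroup.mem_subgroupOf.mp hx
    have h1 := hQ.2 Q le_rfl _ (restrict_mem F hφ hQP) ⟨x, hxQ⟩
    exact Subgroup.mem_subgroupOf.mpr h1
  have hcard : Nat.card ((Q.subgroupOf P).map α.toMonoidHom) = Nat.card (Q.subgroupOf P) :=
    Subgroup.card_map_of_injective (f := α.toMonoidHom) α.injective
  exact Subgroup.eq_of_le_of_card_ge hle hcard.ge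

/-- In a saturated fusion system over a finite p-group, a subgroup Q is normal in the system if and only if Q is strongly closed in the system and is contained in every centric-radical subgroup. -/
theorem result {Ω : Type*} [Group Ω] {S : Subgroup Ω} [Finite S] (p : ℕ) [Fact p.Prime] (hS : IsPGroup p S) (F : Cfsg.FusionSystem S) (hF : F.IsSaturated p) (Q : Subgroup Ω) : F.IsNormal Q ↔ (F.StronglyClosed Q ∧ ∀ P : Subgroup Ω, F.IsCentric P → F.IsRadical p P → Q ≤ P) := by
  constructor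
  · intro hQ
    refine ⟨⟨hQ.1, ?_⟩, fun P hcen hrad => le_of_isNormal_of_centric_radical p hS F hQ hcen hrad⟩
    intro R hRQ φ hφ x
    obtain ⟨ψ, -, hψP, hψQ⟩ := hQ.2 R φ hφ
    rw [map_subgroupOf_eq_iff] at hψQ
    rw [← hψP x]
    have h1 := hψQ.1 ⟨(x : Ω), hRQ x.2⟩
    have h2 : Subgroup.inclusion (le_sup_left : R ≤ R ⊔ Q) x =
        Subgroup.inclusion (le_sup_right : Q ≤ R ⊔ Q) ⟨(x : Ω), hRQ x.2⟩ := Subtype.ext rfl
    rw [h2]
    exact h1
  · rintro ⟨hsc, hcr⟩
    rw [Cfsg.Agent.S5087.result p hS F hF Q]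
    intro P hP
    have hPS : P ≤ S := by
      rcases hP with rfl | hess
      · exact le_rfl
      · exact hess.1.1
    have hQP : Q ≤ P := by
      rcases hP with rfl | hess
      · exact hsc.1
      · exact hcr P hess.1 (Cfsg.Agent.S5080.result p hS F hF P hess)
    exact ⟨hQP, fun α hα => map_aut_eq_of_stronglyClosed F hsc hPS hQP hα⟩

end Cfsg.Agent.S5086
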