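import Cfsg.Statements.S5088
import Cfsg.Agent.S5086
import Cfsg.Agent.S5085
import Cfsg.Agent.Lib.Helper9.FusionChain

set_option autoImplicit false
open Cfsg

namespace Cfsg.Agent.S5088

open Cfsg.Agent.Lib.Helper9 Cfsg.FusionSystem

/-- In a saturated fusion system over a finite p-group, a subgroup Q is normal in the system if and only if there is a chain of subgroups 1 = Q₀ ≤ Q₁ ≤ ⋯ ≤ Qₙ = Q such that each Qᵢ with i ≥ 1 is strongly closed in the system and [Q, Qᵢ] ≤ Qᵢ₋₁. -/
theorem result {Ω : Type*} [Group Ω] {S : Subgroup Ω} [Finite S] (p : ℕ) [Fact p.Prime] (hS : IsPGroup p S) (F : Cfsg.FusionSystem S) (hF : F.IsSaturated p) (Q : Subgroup Ω) : F.IsNormal Q ↔ ∃ (n : ℕ) (Qs : Fin (n + 1) → Subgroup Ω), Qs 0 = ⊥ ∧ Qs (Fin.last n) = Q ∧ Monotone Qs ∧ ∀ i : Fin n, F.StronglyClosed (Qs i.succ) ∧ ⁅Q, Qs i.succ⁆ ≤ Qs (Fin.castSucc i) := by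
  constructor
  · intro hQ
    have hQS : Q ≤ S := hQ.1
    have hfinQ : Finite Q := finite_of_le' hQS
    have hQp : IsPGroup p Q := hS.to_le hQS
    haveI : Group.IsNilpotent Q := hQp.isNilpotent
    refine ⟨Group.nilpotencyClass Q, fun i => (Subgroup.upperCentralSeries Q i).map Q.subtype, ?_, ?_, ?_, ?_⟩
    · show (Subgroup.upperCentralSeries Q ((0 : Fin (Group.nilpotencyClass Q + 1)) : ℕ)).map Q.subtype = ⊥
      rw [Fin.val_zero, Subgroup.upperCentralSeries_zero, Subgroup.map_bot]
    · show (Subgroup.upperCentralSeries Q ((Fin.last (Group.nilpotencyClass Q)) : ℕ)).map Q.subtype = Q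
      rw [Fin.val_last, Subgroup.upperCentralSeries_nilpotencyClass, ← MonoidHom.range_eq_map,
        Subgroup.range_subtype]
    · intro i j hij
      exact Subgroup.map_mono (Subgroup.upperCentralSeries_mono Q hij)
    · intro i
      have hle : (Subgroup.upperCentralSeries Q (i.succ : ℕ)).map Q.subtype ≤ Q := by
        rintro _ ⟨x, -, rfl⟩
        exact x.2
      have hchar : (((Subgroup.upperCentralSeries Q (i.succ : ℕ)).map Q.subtype).subgroupOf Q).Characteristic := by
        have : ((Subgroup.upperCentralSeries Q (i.succ : ℕ)).map Q.subtype).subgroupOf Q =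
            Subgroup.upperCentralSeries Q (i.succ : ℕ) := by
          ext x
          rw [Subgroup.mem_subgroupOf]
          constructor
          · rintro ⟨y, hy, hyx⟩
            have : y = x := Subtype.ext hyx
            rw [← this]; exact hy
          · intro hx
            exact ⟨x, hx, rfl⟩
        rw [this]
        infer_instance
      have hnorm := Cfsg.Agent.S5085.result F Q _ hQ hle hchar
      refine ⟨((Cfsg.Agent.S5086.result p hS F hF _).mp hnorm).1, ?_⟩
      rw [Subgroup.commutator_le]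
      rintro g₁ hg₁ _ ⟨z, hz, rfl⟩
      have hz' : z ∈ Subgroup.upperCentralSeries Q ((i : ℕ) + 1) := by
        simpa using hz
      rw [Subgroup.mem_upperCentralSeries_succ_iff] at hz'
      have h1 := hz' ⟨g₁, hg₁⟩
      refine ⟨(z * ⟨g₁, hg₁⟩ * z⁻¹ * (⟨g₁, hg₁⟩ : Q)⁻¹)⁻¹, Subgroup.inv_mem _ ?_, ?_⟩
      · exact h1
      · rw [commutatorElement_def]
        simp [mul_assoc]
  · rintro ⟨n, Qs, h0, hlast, -, hstep⟩
    have hQsc : F.StronglyClosed Q := by
      rw [← hlast]
      rcases Fin.eq_zero_or_eq_succ (Fin.last n) with h | ⟨i, h⟩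
      · rw [h, h0]; exact stronglyClosed_bot F
      · rw [h]; exact (hstep i).1
    rw [Cfsg.Agent.S5086.result p hS F hF Q]
    exact ⟨hQsc, fun P hcen hrad =>
      le_centric_radical_of_chain p hS F Q n Qs h0 hlast hstep hcen hrad⟩

end Cfsg.Agent.S5088
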