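import Cfsg.Statements.S5104
import Cfsg.Agent.Lib.Helper9.Fusion3

set_option autoImplicit false
open Cfsg

namespace Cfsg.Agent.S5104

open Cfsg.Agent.Lib.Helper9 Cfsg.FusionSystem

/-- In a saturated fusion system over a finite p-group S, a fully centralized subgroup U with C_S(U) ≤ U is centric. -/
theorem result {Ω : Type*} [Group Ω] {S : Subgroup Ω} [Finite S] (p : ℕ) [Fact p.Prime] (hS : IsPGroup p S) (F : Cfsg.FusionSystem S) (hF : F.IsSaturated p) (U : Subgroup Ω) (hU : F.IsFullyCentralized U) (hC : Cfsg.FusionSystem.centralizerIn S U ≤ U) : F.IsCentric U := by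
  refine ⟨hU.1, ?_⟩
  intro Q hUQ
  have h1 := hU.2 Q hUQ
  obtain ⟨φ, hφ, hφr⟩ := hUQ
  have hQS : Q ≤ S := by
    rw [← hφr]
    rintro _ ⟨x, rfl⟩
    exact (F.le_of_mem hφ).2 x
  have hφinj := F.injective_of_mem hφ
  have hCU : centralizerIn S U ≤ U ⊓ Subgroup.centralizer (U : Set Ω) := by
    intro g hg
    exact Subgroup.mem_inf.mpr ⟨hC hg, (Subgroup.mem_inf.mp hg).2⟩
  have hZQ : Q ⊓ Subgroup.centralizer (Q : Set Ω) ≤ centralizerIn S Q := by
    intro g hg
    exact Subgroup.mem_inf.mpr ⟨hQS (Subgroup.mem_inf.mp hg).1, (Subgroup.mem_inf.mp hg).2⟩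
  have hfinU : Finite U := finite_of_le' hU.1
  have hfinZU : Finite ↥(U ⊓ Subgroup.centralizer (U : Set Ω)) := finite_of_le' (inf_le_left.trans hU.1)
  have hfinZQ : Finite ↥(Q ⊓ Subgroup.centralizer (Q : Set Ω)) := finite_of_le' (inf_le_left.trans hQS)
  have hfinCQ : Finite ↥(centralizerIn S Q) := finite_of_le' (centralizerIn_le_left S Q)
  have key : ∀ z : ↥(U ⊓ Subgroup.centralizer (U : Set Ω)),
      φ ⟨z, (Subgroup.mem_inf.mp z.2).1⟩ ∈ Q ⊓ Subgroup.centralizer (Q : Set Ω) := by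
    intro z
    refine Subgroup.mem_inf.mpr ⟨?_, ?_⟩
    · rw [← hφr]; exact ⟨_, rfl⟩
    · rw [Subgroup.mem_centralizer_iff]
      intro y hy
      have hy' : y ∈ φ.range := by rw [hφr]; exact hy
      obtain ⟨x, rfl⟩ := hy'
      rw [← map_mul, ← map_mul]
      congr 1
      apply Subtype.ext
      have hz := (Subgroup.mem_centralizer_iff.mp (Subgroup.mem_inf.mp z.2).2) x x.2
      exact hz
  let f : ↥(U ⊓ Subgroup.centralizer (U : Set Ω)) → ↥(Q ⊓ Subgroup.centralizer (Q : Set Ω)) :=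
    fun z => ⟨φ ⟨z, (Subgroup.mem_inf.mp z.2).1⟩, key z⟩
  have hf : Function.Injective f := by
    intro z₁ z₂ h
    have h2 : φ ⟨z₁, (Subgroup.mem_inf.mp z₁.2).1⟩ = φ ⟨z₂, (Subgroup.mem_inf.mp z₂.2).1⟩ :=
      congrArg Subtype.val h
    have h3 := hφinj h2
    have h4 : (z₁ : Ω) = z₂ := congrArg (fun t : U => (t : Ω)) h3
    exact Subtype.ext h4
  have c1 : Nat.card ↥(centralizerIn S U) ≤ Nat.card ↥(U ⊓ Subgroup.centralizer (U : Set Ω)) :=
    Nat.card_le_card_of_injective _ (Subgroup.inclusion_injective hCU)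
  have c2 : Nat.card ↥(U ⊓ Subgroup.centralizer (U : Set Ω)) ≤ Nat.card ↥(Q ⊓ Subgroup.centralizer (Q : Set Ω)) :=
    Nat.card_le_card_of_injective f hf
  have c3 : Nat.card ↥(centralizerIn S Q) ≤ Nat.card ↥(Q ⊓ Subgroup.centralizer (Q : Set Ω)) :=
    h1.trans (c1.trans c2)
  have heq : Q ⊓ Subgroup.centralizer (Q : Set Ω) = centralizerIn S Q :=
    Subgroup.eq_of_le_of_card_ge hZQ c3
  rw [← heq]
  exact inf_le_left

end Cfsg.Agent.S5104
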