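import Cfsg.Statements.S5080
import Cfsg.Agent.Lib.Helper9.StrongEmb
import Cfsg.Agent.Lib.Helper9.Fusion3

set_option autoImplicit false
open Cfsg

namespace Cfsg.Agent.S5080

open Cfsg.Agent.Lib.Helper9 Cfsg.FusionSystem

/-- In a saturated fusion system over a finite p-group, every essential subgroup is radical (it is centric and fully normalized by definition, so it is centric-radical and fully normalized). -/
theorem result {Ω : Type*} [Group Ω] {S : Subgroup Ω} [Finite S] (p : ℕ) [Fact p.Prime] (hS : IsPGroup p S) (F : Cfsg.FusionSystem S) (hF : F.IsSaturated p) (P : Subgroup Ω) (hP : F.IsEssential p P) : F.IsRadical p P := by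
  obtain ⟨⟨hPS, -⟩, -, hn, E, hE⟩ := hP
  refine ⟨hPS, ?_⟩
  have hfinP : Finite P := finite_of_le' hPS
  have hfinA : Finite ↥(F.autGroup P) := inferInstance
  have hPp : IsPGroup p P := hS.to_le hPS
  -- Inn P ≤ Aut_F(P)
  have hInnA : Inn P ≤ F.autGroup P := by
    rintro _ ⟨x, rfl⟩
    apply Subgroup.subset_closure
    have h := F.conj_mem (P := P) (g := (x : Ω)) hPS (hPS x.2)
    have : P.subtype.comp (MulAut.conj x).toMonoidHom = conjHom P (x : Ω) := by
      ext y; rfl
    show P.subtype.comp (MulAut.conj x).toMonoidHom ∈ F.Hom P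
    rw [this]
    exact h
  have hInnp : IsPGroup p (Inn P) := by
    have : IsPGroup p (MulAut.conj : P →* MulAut P).range :=
      hPp.of_surjective (MulAut.conj : P →* MulAut P).rangeRestrict
        (MulAut.conj : P →* MulAut P).rangeRestrict_surjective
    exact this
  have hIp : IsPGroup p ((Inn P).subgroupOf (F.autGroup P)) := hInnp.comap_subtype
  have hbot := pCore_eq_bot_of_isStronglyPEmbedded p E hE
  have h1 : pCore p ↥(F.autGroup P) ≤ (Inn P).subgroupOf (F.autGroup P) := by
    have hnorm : ((pCore p ↥(F.autGroup P)).map (QuotientGroup.mk' ((Inn P).subgroupOf (F.autGroup P)))).Normal :=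
      Subgroup.Normal.map (pCore_normal' p) _ (QuotientGroup.mk'_surjective _)
    have hp : IsPGroup p ((pCore p ↥(F.autGroup P)).map (QuotientGroup.mk' ((Inn P).subgroupOf (F.autGroup P)))) :=
      pCore_isPGroup'.map _
    have hle : (pCore p ↥(F.autGroup P)).map (QuotientGroup.mk' ((Inn P).subgroupOf (F.autGroup P))) ≤
        pCore p (↥(F.autGroup P) ⧸ (Inn P).subgroupOf (F.autGroup P)) :=
      le_sSup ⟨hnorm, hp⟩
    rw [hbot] at hle
    intro x hx
    have h2 : QuotientGroup.mk' ((Inn P).subgroupOf (F.autGroup P)) x ∈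
        (pCore p ↥(F.autGroup P)).map (QuotientGroup.mk' ((Inn P).subgroupOf (F.autGroup P))) := ⟨x, hx, rfl⟩
    have h3 := Subgroup.mem_bot.mp (hle h2)
    exact (QuotientGroup.eq_one_iff x).mp h3
  have h2 : (Inn P).subgroupOf (F.autGroup P) ≤ pCore p ↥(F.autGroup P) := le_sSup ⟨hn, hIp⟩
  rw [le_antisymm h1 h2]
  exact Subgroup.map_subgroupOf_eq_of_le hInnA

end Cfsg.Agent.S5080
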