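import Cfsg.Statements.S5082
import Cfsg.Agent.Lib.Helper9.FusionAlp2

set_option autoImplicit false
open Cfsg

namespace Cfsg.Agent.S5082

open Cfsg.Agent.Lib.Helper9 Cfsg.FusionSystem

/-- A map of `F` from `P₀` onto `P₀` is a map of `E` as soon as `Aut_F(P₀) ≤ Aut_E(P₀)`. -/
theorem hom_mem_of_autGroup_le {Ω : Type*} [Group Ω] {S : Subgroup Ω} (F E : Cfsg.FusionSystem S)
    {P₀ : Subgroup Ω} (hP₀S : P₀ ≤ S) (h : F.autGroup P₀ ≤ E.autGroup P₀) {γ : P₀ →* Ω}
    (hγ : γ ∈ F.Hom P₀) (hγr : γ.range = P₀) : γ ∈ E.Hom P₀ := by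
  have hγP : ∀ y : P₀, γ y ∈ P₀ := fun y => by
    have : γ y ∈ γ.range := ⟨y, rfl⟩
    rw [hγr] at this; exact this
  have hbij : Function.Bijective (γ.codRestrict P₀ hγP) := by
    constructor
    · intro x y hxy
      exact F.injective_of_mem hγ (congrArg Subtype.val hxy)
    · intro y
      have hy : (y : Ω) ∈ γ.range := by rw [hγr]; exact y.2
      obtain ⟨x, hx⟩ := hy
      exact ⟨x, Subtype.ext hx⟩
  have hmem : MulEquiv.ofBijective (γ.codRestrict P₀ hγP) hbij ∈ F.autGroup P₀ := by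
    apply Subgroup.subset_closure
    have : P₀.subtype.comp (MulEquiv.ofBijective (γ.codRestrict P₀ hγP) hbij).toMonoidHom = γ := by
      ext y; rfl
    show P₀.subtype.comp (MulEquiv.ofBijective (γ.codRestrict P₀ hγP) hbij).toMonoidHom ∈ F.Hom P₀
    rw [this]; exact hγ
  have h2 := (mem_autGroup_iff E hP₀S _).mp (h hmem)
  have : P₀.subtype.comp (MulEquiv.ofBijective (γ.codRestrict P₀ hγP) hbij).toMonoidHom = γ := by
    ext y; rfl
  rw [this] at h2
  exact h2

theorem main {Ω : Type*} [Group Ω] {S : Subgroup Ω} [Finite S] (p : ℕ) [Fact p.Prime]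
    (hS : IsPGroup p S) (F : Cfsg.FusionSystem S) (hF : F.IsSaturated p) (E : Cfsg.FusionSystem S)
    (hE : ∀ P : Subgroup Ω, (P = S ∨ F.IsEssential p P) → F.autGroup P ≤ E.autGroup P) :
    ∀ (n : ℕ) (P : Subgroup Ω), P ≤ S → Nat.card S - Nat.card P = n → F.Hom P ⊆ E.Hom P := by
  intro n
  induction n using Nat.strong_induction_on with
  | _ n ih =>
  intro P hPS hn φ hφ
  have hcardle : ∀ R : Subgroup Ω, R ≤ S → Nat.card R ≤ Nat.card S := fun R hR =>
    Nat.card_le_card_of_injective _ (Subgroup.inclusion_injective hR)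
  have hcardlt : ∀ R : Subgroup Ω, R ≤ S → R ≠ S → Nat.card R < Nat.card S := by
    intro R hR hne
    refine lt_of_le_of_ne (hcardle R hR) ?_
    intro h
    exact hne (Subgroup.eq_of_le_of_card_ge hR h.ge)
  rcases eq_or_ne P S with hPeq | hPne
  · -- P = S
    have hφr : φ.range = P := by
      have hle : φ.range ≤ P := by
        rintro _ ⟨x, rfl⟩
        have := (F.le_of_mem hφ).2 x
        exact hPeq.symm ▸ this
      have hfinP : Finite P := finite_of_le' hPS
      have hc : Nat.card φ.range = Nat.card P :=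
        Nat.card_congr (Equiv.ofInjective φ (F.injective_of_mem hφ)).symm
      exact Subgroup.eq_of_le_of_card_ge hle hc.ge
    exact hom_mem_of_autGroup_le F E hPS (hE P (Or.inl hPeq)) hφ hφr
  -- P ≠ S
  have hPlt := hcardlt P hPS hPne
  -- key: automorphism groups of fully normalized subgroups of the same order
  have hK : ∀ P₀ : Subgroup Ω, F.IsFullyNormalized P₀ → Nat.card P₀ = Nat.card P →
      F.autGroup P₀ ≤ E.autGroup P₀ := by
    intro P₀ hP₀fn hcard
    have hP₀S := hP₀fn.1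
    have hP₀ne : P₀ ≠ S := by
      rintro rfl
      omega
    by_cases hess : F.IsEssential p P₀
    · exact hE P₀ (Or.inr hess)
    have hgen : F.autGroup P₀ ≤ Subgroup.closure (extGens F P₀) := by
      by_cases hcen : F.IsCentric P₀
      · exact autGroup_le_closure_extGens_of_centric p hS F hF hP₀fn hP₀ne hcen hess
      · intro α hα
        exact Subgroup.subset_closure (autGroup_le_extGens_of_not_centric p hS F hF hP₀fn hcen α hα)
    refine hgen.trans ?_
    rw [Subgroup.closure_le]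
    rintro α ⟨Q, hP₀Q, φ', hφ', hφ'α⟩
    have hQS : Q ≤ S := (F.le_of_mem hφ').1
    have hfinQ : Finite Q := finite_of_le' hQS
    have hlt : Nat.card P₀ < Nat.card Q := by
      have hle : Nat.card P₀ ≤ Nat.card Q :=
        Nat.card_le_card_of_injective _ (Subgroup.inclusion_injective hP₀Q.le)
      refine lt_of_le_of_ne hle ?_
      intro h
      exact absurd (Subgroup.eq_of_le_of_card_ge hP₀Q.le h.ge) hP₀Q.ne
    have hQle := hcardle Q hQS
    have hφ'E : φ' ∈ E.Hom Q := ih (Nat.card S - Nat.card Q) (by omega) Q hQS rfl hφ'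
    have h1 := restrict_mem E hφ'E hP₀Q.le
    apply Subgroup.subset_closure
    have : φ'.comp (Subgroup.inclusion hP₀Q.le) = P₀.subtype.comp α.toMonoidHom := by
      ext x; exact hφ'α x
    show P₀.subtype.comp α.toMonoidHom ∈ E.Hom P₀
    rw [← this]; exact h1
  obtain ⟨P₀, hPP₀, hP₀fn⟩ := exists_fullyNormalized_conj F hPS
  have hP₀S := hP₀fn.1
  obtain ⟨hP₀fc, hP₀fa⟩ := sat_fullyNormalized p hS F hF hP₀fn
  have hP₀rec := sat_fullyCentralized_receptive p hS F hF hP₀fc
  have hcardP₀ : Nat.card P₀ = Nat.card P := card_eq_of_isConj F hPP₀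
  have hKP₀ := hK P₀ hP₀fn hcardP₀
  -- Lemma A
  have lemA : ∀ (P' : Subgroup Ω) (ψ' : P' →* Ω), ψ' ∈ F.Hom P' → Nat.card P' = Nat.card P →
      ψ'.range = P₀ → ψ' ∈ E.Hom P' := by
    intro P' ψ' hψ' hcard hr
    have hP'S : P' ≤ S := (F.le_of_mem hψ').1
    have hP'ne : P' ≠ S := by
      rintro rfl
      omega
    have hlt := card_lt_card_normalizerIn p hS hP'S hP'ne
    have hNle := hcardle _ (normalizerIn_le_left S P')
    obtain ⟨α, hα, hαN, hαP⟩ := Cfsg.Agent.S5079.result p hS F P₀ P' hP₀fa hP₀rec ⟨ψ', hψ', hr⟩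
    have hαE : α ∈ E.Hom (normalizerIn S P') :=
      ih (Nat.card S - Nat.card (normalizerIn S P')) (by omega) _ (normalizerIn_le_left S P') rfl hα
    have hP'N : P' ≤ normalizerIn S P' := le_normalizerIn hP'S
    have hαPF := restrict_mem F hα hP'N
    have hαPE := restrict_mem E hαE hP'N
    have hαPr : (α.comp (Subgroup.inclusion hP'N)).range = P₀ := by
      rw [← hαP]
      ext y
      constructor
      · rintro ⟨x, rfl⟩
        exact ⟨Subgroup.inclusion hP'N x, Subgroup.mem_subgroupOf.mpr x.2, rfl⟩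
      · rintro ⟨x, hx, rfl⟩
        exact ⟨⟨x, Subgroup.mem_subgroupOf.mp hx⟩, rfl⟩
    obtain ⟨θ', θi, hθ', hθi, hθi', -⟩ := exists_iso_data F hαPF hαPr
    have hθiP' : ∀ y : P₀, θi y ∈ P' := fun y => by rw [hθi']; exact (θ'.symm y).2
    have hγ := F.comp_mem hθi hψ' hθiP'
    have hγr : (ψ'.comp (θi.codRestrict P' hθiP')).range = P₀ := by
      ext y
      constructor
      · rintro ⟨z, rfl⟩
        have : ψ' (θi.codRestrict P' hθiP' z) ∈ ψ'.range := ⟨_, rfl⟩
        rw [hr] at this; exact this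
      · intro hy
        have hy' : y ∈ ψ'.range := by rw [hr]; exact hy
        obtain ⟨x, rfl⟩ := hy'
        refine ⟨θ' x, ?_⟩
        show ψ' (θi.codRestrict P' hθiP' (θ' x)) = ψ' x
        congr 1
        apply Subtype.ext
        show θi (θ' x) = x
        rw [hθi', MulEquiv.symm_apply_apply]
    have hγE := hom_mem_of_autGroup_le F E hP₀S hKP₀ hγ hγr
    have hαPP₀ : ∀ x : P', (α.comp (Subgroup.inclusion hP'N)) x ∈ P₀ := fun x => by
      rw [← hθ']; exact (θ' x).2
    have hcomp := E.comp_mem hαPE hγE hαPP₀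
    have : (ψ'.comp (θi.codRestrict P' hθiP')).comp
        ((α.comp (Subgroup.inclusion hP'N)).codRestrict P₀ hαPP₀) = ψ' := by
      ext x
      show ψ' (θi.codRestrict P' hθiP' ⟨α (Subgroup.inclusion hP'N x), hαPP₀ x⟩) = ψ' x
      congr 1
      apply Subtype.ext
      show θi ⟨α (Subgroup.inclusion hP'N x), hαPP₀ x⟩ = x
      have h1 : (⟨α (Subgroup.inclusion hP'N x), hαPP₀ x⟩ : P₀) = θ' x := Subtype.ext (hθ' x).symm
      rw [h1, hθi', MulEquiv.symm_apply_apply]
    rw [this] at hcomp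
    exact hcomp
  obtain ⟨ψ, hψ, hψr⟩ := hPP₀
  have hψE := lemA P ψ hψ rfl hψr
  obtain ⟨φi, hφi, hφiφ, hφir⟩ := exists_inv_hom F hφ rfl
  have hφiP : ∀ y : φ.range, φi y ∈ P := by
    intro y
    have : φi y ∈ φi.range := ⟨y, rfl⟩
    rw [hφir] at this; exact this
  have hψQ := F.comp_mem hφi hψ hφiP
  have hφinj := F.injective_of_mem hφ
  have hcardQ : Nat.card φ.range = Nat.card P :=
    Nat.card_congr (Equiv.ofInjective φ hφinj).symm
  have hψQval : ∀ x : P, (ψ.comp (φi.codRestrict P hφiP)) ⟨φ x, ⟨x, rfl⟩⟩ = ψ x := by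
    intro x
    show ψ (φi.codRestrict P hφiP ⟨φ x, ⟨x, rfl⟩⟩) = ψ x
    congr 1
    apply Subtype.ext
    exact hφiφ x ⟨x, rfl⟩
  have hψQr : (ψ.comp (φi.codRestrict P hφiP)).range = P₀ := by
    ext z
    constructor
    · rintro ⟨y, rfl⟩
      have : ψ (φi.codRestrict P hφiP y) ∈ ψ.range := ⟨_, rfl⟩
      rw [hψr] at this
      exact this
    · intro hz
      have hz' : z ∈ ψ.range := by rw [hψr]; exact hz
      obtain ⟨x, rfl⟩ := hz'
      exact ⟨⟨φ x, x, rfl⟩, hψQval x⟩
  have hψQE := lemA φ.range _ hψQ hcardQ hψQr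
  obtain ⟨ψQ', ψQi, hψQ', hψQi, hψQi', -⟩ := exists_iso_data E hψQE hψQr
  have hψP₀ : ∀ x : P, ψ x ∈ P₀ := fun x => by
    have : ψ x ∈ ψ.range := ⟨x, rfl⟩
    rw [hψr] at this; exact this
  have hfin := E.comp_mem hψE hψQi hψP₀
  have : ψQi.comp (ψ.codRestrict P₀ hψP₀) = φ := by
    ext x
    show ψQi ⟨ψ x, hψP₀ x⟩ = φ x
    have h1 : (⟨ψ x, hψP₀ x⟩ : P₀) = ψQ' ⟨φ x, ⟨x, rfl⟩⟩ := by
      apply Subtype.ext
      rw [hψQ']
      exact (hψQval x).symm
    rw [h1, hψQi', MulEquiv.symm_apply_apply]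
  rw [this] at hfin
  exact hfin

/-- Alperin–Goldschmidt fusion Theorem for fusion systems: a saturated fusion system F over a finite p-group S is generated by the automorphism groups Aut_F(P) for P = S and for P essential — every fusion system over S whose automorphism groups of these subgroups contain those of F contains every map of F. -/
theorem result {Ω : Type*} [Group Ω] {S : Subgroup Ω} [Finite S] (p : ℕ) [Fact p.Prime] (hS : IsPGroup p S) (F : Cfsg.FusionSystem S) (hF : F.IsSaturated p) (E : Cfsg.FusionSystem S) (hE : ∀ P : Subgroup Ω, (P = S ∨ F.IsEssential p P) → F.autGroup P ≤ E.autGroup P) : F ≤ E := by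
  intro P φ hφ
  exact main p hS F hF E hE _ P (F.le_of_mem hφ).1 rfl hφ

end Cfsg.Agent.S5082
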