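import Cfsg.Statements.S5131

set_option autoImplicit false
open Cfsg

namespace Cfsg.Agent.S5131

theorem result {Ω : Type*} [Group Ω] {S : Subgroup Ω} [Finite S] (p : ℕ) [Fact p.Prime] (hS : IsPGroup p S) (F : Cfsg.FusionSystem S) {Ω' : Type*} [Group Ω'] {S' : Subgroup Ω'} (F' : Cfsg.FusionSystem S') (α : S →* Ω') (hα : F.IsMorphism F' α) : F.StronglyClosed ((α.ker).map S.subtype) := by
  refine ⟨?_, ?_⟩
  · rintro _ ⟨k, -, rfl⟩
    exact k.2
  · intro R hR φ hφ x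
    obtain ⟨φ', -, hRS, hφS, hP', hind⟩ := hα.2 R φ hφ
    refine ⟨⟨φ x, hφS x⟩, ?_, rfl⟩
    rw [SetLike.mem_coe, MonoidHom.mem_ker, ← hind x]
    obtain ⟨k, hk, hkx⟩ := hR x.2
    have hk1 : α k = 1 := hk
    have : (⟨(x : Ω), hRS x.2⟩ : S) = k := Subtype.ext hkx.symm
    have h1 : (⟨α ⟨x, hRS x.2⟩, hP' x⟩ : FusionSystem.imageAlong α R) = 1 := by
      apply Subtype.ext
      show α ⟨x, hRS x.2⟩ = 1
      rw [this, hk1]
    rw [h1, map_one]

end Cfsg.Agent.S5131
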