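import Cfsg.Statements.S5079
import Cfsg.Agent.Lib.Helper9.FusionGroup2
import Cfsg.Agent.Lib.Helper9.FusionAut

set_option autoImplicit false
open Cfsg

namespace Cfsg.Agent.S5079

open Cfsg.Agent.Lib.Helper9 Cfsg.FusionSystem

/-- In any fusion system over a finite p-group S: if P is fully automized and receptive and Q is conjugate to P in the system, then there is a map of the system with source N_S(Q) and values in N_S(P) carrying Q onto P. -/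
theorem result {Ω : Type*} [Group Ω] {S : Subgroup Ω} [Finite S] (p : ℕ) [Fact p.Prime] (hS : IsPGroup p S) (F : Cfsg.FusionSystem S) (P Q : Subgroup Ω) (h₁ : F.IsFullyAutomized p P) (h₂ : F.IsReceptive P) (hQ : F.IsConj Q P) : ∃ φ ∈ F.Hom (Cfsg.FusionSystem.normalizerIn S Q), (∀ x, φ x ∈ Cfsg.FusionSystem.normalizerIn S P) ∧ (Q.subgroupOf (Cfsg.FusionSystem.normalizerIn S Q)).map φ = P := by
  obtain ⟨hPS, R, hR⟩ := h₁
  obtain ⟨ψ, hψ, hψr⟩ := hQ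
  have hQS : Q ≤ S := (F.le_of_mem hψ).1
  have hψinj := F.injective_of_mem hψ
  have hψP : ∀ x : Q, ψ x ∈ P := fun x => by rw [← hψr]; exact ⟨x, rfl⟩
  have hbij : Function.Bijective (ψ.codRestrict P hψP) := by
    constructor
    · intro x y hxy
      exact hψinj (congrArg Subtype.val hxy)
    · intro y
      have hy : (y : Ω) ∈ ψ.range := by rw [hψr]; exact y.2
      obtain ⟨x, hx⟩ := hy
      exact ⟨x, Subtype.ext hx⟩
  obtain ⟨ψ', hψ'def⟩ : ∃ ψ' : Q ≃* P, ψ' = MulEquiv.ofBijective (ψ.codRestrict P hψP) hbij := ⟨_, rfl⟩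
  have hψ'val : ∀ x : Q, ((ψ' x : P) : Ω) = ψ x := fun x => by rw [hψ'def]; rfl
  obtain ⟨ψi, hψi, hψiψ, hψir⟩ := exists_inv_hom F hψ hψr
  have hψi' : ∀ y : P, ψi y = ((ψ'.symm y : Q) : Ω) := by
    intro y
    have h1 := hψiψ (ψ'.symm y) (hψP _)
    have h2 : (⟨ψ (ψ'.symm y), hψP _⟩ : P) = y := by
      apply Subtype.ext
      show ψ (ψ'.symm y) = y
      rw [← hψ'val, MulEquiv.apply_symm_apply]
    rw [h2] at h1
    exact h1
  have hψiQ : ∀ y : P, ψi y ∈ Q := fun y => by rw [hψi']; exact (ψ'.symm y).2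
  have hNQN : normalizerIn S Q ≤ Subgroup.normalizer (Q : Set Ω) := normalizerIn_le_normalizer S Q
  obtain ⟨θ, hθdef⟩ : ∃ θ : ↥(normalizerIn S Q) →* MulAut P,
      θ = (MulAut.congr ψ').toMonoidHom.comp ((normConj Q).comp (Subgroup.inclusion hNQN)) := ⟨_, rfl⟩
  have hθ1 : ∀ (g : ↥(normalizerIn S Q)) (x : Q),
      θ g (ψ' x) = ψ' (normConj Q (Subgroup.inclusion hNQN g) x) := by
    intro g x
    rw [hθdef]
    show ψ' (normConj Q (Subgroup.inclusion hNQN g) (ψ'.symm (ψ' x))) = _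
    rw [MulEquiv.symm_apply_apply]
  have hθ2 : ∀ (g : ↥(normalizerIn S Q)) (y : P),
      θ g y = ψ' (normConj Q (Subgroup.inclusion hNQN g) (ψ'.symm y)) := by
    intro g y
    rw [hθdef]
    rfl
  have hθmem : ∀ g : ↥(normalizerIn S Q), θ g ∈ F.autGroup P := by
    intro g
    rw [mem_autGroup_iff F hPS]
    have hgS : (g : Ω) ∈ S := normalizerIn_le_left S Q g.2
    have hc1 : ∀ y : P, (conjHom Q (g : Ω)).comp (ψi.codRestrict Q hψiQ) y ∈ Q := by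
      intro y
      show (g : Ω) * ψi y * (g : Ω)⁻¹ ∈ Q
      exact (Subgroup.mem_normalizer_iff.mp (hNQN g.2) _).mp (hψiQ y)
    have h1 := F.comp_mem hψi (F.conj_mem hQS hgS) hψiQ
    have h2 := F.comp_mem h1 hψ hc1
    have : ψ.comp (((conjHom Q (g : Ω)).comp (ψi.codRestrict Q hψiQ)).codRestrict Q hc1) =
        P.subtype.comp (θ g).toMonoidHom := by
      ext y
      show ψ ⟨(g : Ω) * ψi y * (g : Ω)⁻¹, hc1 y⟩ = ((θ g y : P) : Ω)
      rw [hθ2, hψ'val]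
      congr 1
      apply Subtype.ext
      show (g : Ω) * ψi y * (g : Ω)⁻¹ = _
      rw [normConj_apply, hψi']
      rfl
    rw [this] at h2
    exact h2
  have hNQp : IsPGroup p ↥(normalizerIn S Q) := hS.to_le (normalizerIn_le_left S Q)
  have hBp : IsPGroup p θ.range := hNQp.of_surjective θ.rangeRestrict θ.rangeRestrict_surjective
  have hB'p : IsPGroup p (θ.range.subgroupOf (F.autGroup P)) := hBp.comap_subtype
  haveI : Finite P := finite_of_le' hPS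
  haveI : Finite ↥(F.autGroup P) := inferInstance
  obtain ⟨χ, hχ⟩ := exists_conj_le_sylow p R hB'p
  -- the new isomorphism
  have hχmem := (mem_autGroup_iff F hPS (χ : MulAut P)).mp χ.2
  have hφ₀ := F.comp_mem hψ hχmem hψP
  obtain ⟨φ₀, hφ₀def⟩ : ∃ φ₀ : Q →* Ω,
      φ₀ = (P.subtype.comp (χ : MulAut P).toMonoidHom).comp (ψ.codRestrict P hψP) := ⟨_, rfl⟩
  rw [← hφ₀def] at hφ₀
  have hφ₀val : ∀ x : Q, φ₀ x = (((χ : MulAut P) (ψ' x) : P) : Ω) := by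
    intro x
    rw [hφ₀def, hψ'def]
    rfl
  have hφ₀r : φ₀.range = P := by
    ext y
    constructor
    · rintro ⟨x, rfl⟩
      rw [hφ₀val]
      exact ((χ : MulAut P) (ψ' x)).2
    · intro hy
      refine ⟨ψ'.symm ((χ : MulAut P)⁻¹ ⟨y, hy⟩), ?_⟩
      rw [hφ₀val, MulEquiv.apply_symm_apply]
      show (((χ : MulAut P) ((χ : MulAut P).symm ⟨y, hy⟩) : P) : Ω) = y
      rw [MulEquiv.apply_symm_apply]
  have hext : normalizerIn S Q ≤ extender S Q φ₀ := by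
    intro g hg
    apply Subgroup.subset_closure
    have hmem : (MulAut.conj χ).toMonoidHom ⟨θ ⟨g, hg⟩, hθmem ⟨g, hg⟩⟩ ∈ (R : Subgroup ↥(F.autGroup P)) :=
      hχ ⟨⟨θ ⟨g, hg⟩, hθmem ⟨g, hg⟩⟩, Subgroup.mem_subgroupOf.mpr ⟨⟨g, hg⟩, rfl⟩, rfl⟩
    rw [hR, Subgroup.mem_subgroupOf, autInducedBy_eq_map] at hmem
    obtain ⟨n, hnS, hn⟩ := hmem
    refine ⟨normalizerIn_le_left S Q hg, hNQN hg, (n : Ω), Subgroup.mem_subgroupOf.mp hnS, ?_⟩
    intro x hx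
    have h3 : ((MulAut.conj χ).toMonoidHom ⟨θ ⟨g, hg⟩, hθmem ⟨g, hg⟩⟩ : ↥(F.autGroup P)) =
        χ * ⟨θ ⟨g, hg⟩, hθmem ⟨g, hg⟩⟩ * χ⁻¹ := rfl
    have h4 : (((MulAut.conj χ).toMonoidHom ⟨θ ⟨g, hg⟩, hθmem ⟨g, hg⟩⟩ : ↥(F.autGroup P)) : MulAut P) =
        (χ : MulAut P) * θ ⟨g, hg⟩ * (χ : MulAut P)⁻¹ := by
      rw [h3]; rfl
    rw [h4] at hn
    have h5 : ((normConj P n ((χ : MulAut P) (ψ' x)) : P) : Ω) =
        ((((χ : MulAut P) * θ ⟨g, hg⟩ * (χ : MulAut P)⁻¹) ((χ : MulAut P) (ψ' x)) : P) : Ω) := by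
      rw [hn]
    rw [normConj_apply] at h5
    have h6 : ((χ : MulAut P) * θ ⟨g, hg⟩ * (χ : MulAut P)⁻¹) ((χ : MulAut P) (ψ' x)) =
        (χ : MulAut P) (θ ⟨g, hg⟩ (ψ' x)) := by
      show (χ : MulAut P) (θ ⟨g, hg⟩ ((χ : MulAut P).symm ((χ : MulAut P) (ψ' x)))) = _
      rw [MulEquiv.symm_apply_apply]
    rw [h6, hθ1] at h5
    rw [hφ₀val, hφ₀val, h5]
    congr 3
  obtain ⟨φ₁, hφ₁, hφ₁ext⟩ := h₂.2 Q φ₀ hφ₀ hφ₀r
  have hQN : Q ≤ normalizerIn S Q := le_normalizerIn hQS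
  have hφ₁S := (F.le_of_mem hφ₁).2
  have hagree : ∀ x : Q, φ₁ ⟨x, hext (hQN x.2)⟩ = φ₀ x := fun x => hφ₁ext x x.2 (hext (hQN x.2))
  refine ⟨φ₁.comp (Subgroup.inclusion hext), restrict_mem F hφ₁ hext, ?_, ?_⟩
  · intro g
    refine Subgroup.mem_inf.mpr ⟨hφ₁S _, ?_⟩
    have hle : (⊤ : Subgroup ↥(normalizerIn S Q)).map (φ₁.comp (Subgroup.inclusion hext)) ≤
        Subgroup.normalizer (P : Set Ω) := by
      rw [Subgroup.le_normalizer_iff]
      rintro _ ⟨k, -, rfl⟩ y hy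
      rw [← hφ₀r] at hy
      obtain ⟨x, rfl⟩ := hy
      have hkx : (k : Ω) * x * (k : Ω)⁻¹ ∈ Q := (Subgroup.mem_normalizer_iff.mp (hNQN k.2) _).mp x.2
      have h7 : (φ₁.comp (Subgroup.inclusion hext)) k * φ₀ x * ((φ₁.comp (Subgroup.inclusion hext)) k)⁻¹ =
          φ₀ ⟨(k : Ω) * x * (k : Ω)⁻¹, hkx⟩ := by
        rw [← hagree x, ← hagree ⟨_, hkx⟩]
        show φ₁ (Subgroup.inclusion hext k) * φ₁ ⟨x, _⟩ * (φ₁ (Subgroup.inclusion hext k))⁻¹ = _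
        rw [← map_inv, ← map_mul, ← map_mul]
        congr 1
      rw [h7, ← hφ₀r]
      exact ⟨_, rfl⟩
    exact hle ⟨g, Subgroup.mem_top g, rfl⟩
  · ext y
    constructor
    · rintro ⟨x, hx, rfl⟩
      have hxQ : (x : Ω) ∈ Q := Subgroup.mem_subgroupOf.mp hx
      have h8 : (φ₁.comp (Subgroup.inclusion hext)) x = φ₀ ⟨x, hxQ⟩ := by
        rw [← hagree ⟨x, hxQ⟩]
        rfl
      rw [h8, ← hφ₀r]
      exact ⟨_, rfl⟩
    · intro hy
      rw [← hφ₀r] at hy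
      obtain ⟨x, rfl⟩ := hy
      refine ⟨⟨x, hQN x.2⟩, Subgroup.mem_subgroupOf.mpr x.2, ?_⟩
      rw [← hagree x]
      rfl

end Cfsg.Agent.S5079
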