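import Cfsg.Statements.S5078
import Cfsg.Agent.Lib.Helper9.Fusion3

set_option autoImplicit false
open Cfsg

namespace Cfsg.Agent.S5078

open Cfsg.Agent.Lib.Helper9 Cfsg.FusionSystem

/-- In any fusion system over a finite subgroup S, a receptive subgroup is fully centralized. -/
theorem result {Ω : Type*} [Group Ω] {S : Subgroup Ω} [Finite S] (F : Cfsg.FusionSystem S) (P : Subgroup Ω) (hP : F.IsReceptive P) : F.IsFullyCentralized P := by
  refine ⟨hP.1, ?_⟩
  intro Q hPQ
  obtain ⟨ψ, hψ, hψr⟩ := isConj_symm F hPQ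
  have hQS : Q ≤ S := (F.le_of_mem hψ).1
  have hψS := (F.le_of_mem hψ).2
  obtain ⟨χ, hχ, hχψ⟩ := hP.2 Q ψ hψ hψr
  have hχS := (F.le_of_mem hχ).2
  have hχinj := F.injective_of_mem hχ
  have hC : centralizerIn S Q ≤ extender S Q ψ := centralizerIn_le_extender S Q ψ
  have hQe : Q ≤ extender S Q ψ := le_extender hQS ψ hψS
  have hfin : Finite (centralizerIn S P) := finite_of_le' (centralizerIn_le_left S P)
  have key : ∀ g : centralizerIn S Q, χ (Subgroup.inclusion hC g) ∈ centralizerIn S P := by
    intro g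
    rw [mem_centralizerIn]
    refine ⟨hχS _, ?_⟩
    intro y hy
    rw [← hψr] at hy
    obtain ⟨x, rfl⟩ := hy
    rw [← hχψ x x.2 (hQe x.2), ← map_mul, ← map_mul]
    congr 1
    apply Subtype.ext
    have hg := (mem_centralizerIn.mp g.2).2 x x.2
    exact hg
  let f : centralizerIn S Q → centralizerIn S P := fun g => ⟨χ (Subgroup.inclusion hC g), key g⟩
  have hf : Function.Injective f := by
    intro g₁ g₂ h
    have h1 : χ (Subgroup.inclusion hC g₁) = χ (Subgroup.inclusion hC g₂) := congrArg Subtype.val h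
    exact Subgroup.inclusion_injective hC (hχinj h1)
  exact Nat.card_le_card_of_injective f hf

end Cfsg.Agent.S5078
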