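import Cfsg.Statements.S5133
import Cfsg.Agent.Lib.Helper9.FusionMorph2
import Cfsg.Agent.Lib.Helper9.FusionSat3
-- import your own Cfsg.Agent.* helpers here

set_option autoImplicit false
open Cfsg

namespace Cfsg.Agent.S5133

open Cfsg.FusionSystem Cfsg.Agent.Lib.Helper9

/-- Let F be a saturated fusion system over a finite p-group S, F' a fusion system over S', and α : S → S' a surjective morphism of fusion systems from F to F' (α maps S onto S' and every map of F' with source P' ≤ S' is induced along α by a map of F on the full preimage of P'). Then F' is saturated. -/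
theorem result {Ω : Type*} [Group Ω] {S : Subgroup Ω} [Finite S] (p : ℕ) [Fact p.Prime] (hS : IsPGroup p S) (F : Cfsg.FusionSystem S) (hF : F.IsSaturated p) {Ω' : Type*} [Group Ω'] {S' : Subgroup Ω'} (F' : Cfsg.FusionSystem S') (α : S →* Ω') (hα : F.IsSurjectiveMorphism F' α) : F'.IsSaturated p := by
  intro P' hP'S'
  have hrange := hα.2.1
  haveI : Finite S' := finite_of_range_eq hrange
  have hT := Cfsg.Agent.S5131.result p hS F F' α hα.1
  have hPS : preimageAlong α P' ≤ S := preimageAlong_le α P'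
  obtain ⟨Q, ⟨φ₀, hφ₀, hφ₀r⟩, hfn⟩ := exists_fullyNormalized_conj F hPS
  obtain ⟨hfc, hfa⟩ := sat_fullyNormalized p hS F hF hfn
  have hrec := sat_fullyCentralized_receptive p hS F hF hfc
  have hQS : Q ≤ S := hfn.1
  have hTP : (α.ker).map S.subtype ≤ preimageAlong α P' := by
    rintro _ ⟨k, hk, rfl⟩
    show (k : Ω) ∈ preimageAlong α P'
    rw [mem_preimageAlong k.2]
    have : α ⟨(k : Ω), k.2⟩ = 1 := hk
    rw [this]; exact P'.one_mem
  have hTQ : (α.ker).map S.subtype ≤ Q := by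
    rw [← hφ₀r]
    intro t ht
    obtain ⟨x, -, hx⟩ := exists_preimage_of_stronglyClosed F hT hTP hφ₀ t ht
    exact ⟨x, hx⟩
  have hQ'S' := imageAlong_le_range α hrange Q
  refine ⟨imageAlong α Q, ?_, ?_, receptive_image p hS F F' α hα hT hQS hTQ hfa hrec⟩
  · obtain ⟨φ₀', hφ₀', hind⟩ := morph_push_preimage F F' α hα.1 hrange hP'S' hφ₀
    refine ⟨φ₀', hφ₀', ?_⟩
    ext y
    constructor
    · rintro ⟨y', rfl⟩
      obtain ⟨x, hx⟩ := exists_preimageAlong hrange hP'S' y'
      have e : y' = ⟨α ⟨x, preimageAlong_le α P' x.2⟩, map_preimageAlong_mem x⟩ :=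
        Subtype.ext hx.symm
      rw [e, hind x]
      have hxQ : φ₀ x ∈ Q := by rw [← hφ₀r]; exact ⟨x, rfl⟩
      exact mem_imageAlong hQS ⟨φ₀ x, hxQ⟩
    · rintro ⟨s, hs, rfl⟩
      have hsQ : (s : Ω) ∈ Q := Subgroup.mem_subgroupOf.mp hs
      rw [← hφ₀r] at hsQ
      obtain ⟨x, hx⟩ := hsQ
      refine ⟨⟨α ⟨x, preimageAlong_le α P' x.2⟩, map_preimageAlong_mem x⟩, ?_⟩
      rw [hind x]
      congr 1
      exact Subtype.ext hx
  · obtain ⟨π, hπ⟩ := exists_ind_hom F F' α hα hQS
    have hsurj := ind_hom_surjective F F' α hα hQS hTQ π hπ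
    obtain ⟨Rs, hRs⟩ := hfa.2
    haveI hfinQ : Finite Q := finite_of_le' hQS
    refine ⟨hQ'S', Rs.mapSurjective hsurj, ?_⟩
    rw [Sylow.coe_mapSurjective, hRs]
    exact ind_hom_map_autS F F' α hα hQS hTQ π hπ

end Cfsg.Agent.S5133
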