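import Cfsg.Statements.S5134
import Cfsg.Agent.Lib.Helper9.FusionTExt2
import Cfsg.Agent.Lib.Helper9.FusionInduced

set_option autoImplicit false
open Cfsg

namespace Cfsg.Agent.S5134

open Cfsg.Agent.Lib.Helper9 Cfsg.FusionSystem

/-- Every map of `F` induces a map of the factor system modulo a strongly closed subgroup. -/
theorem exists_induced_of_factorSystem {Ω : Type*} [Group Ω] {S : Subgroup Ω} [Finite S] (p : ℕ)
    [Fact p.Prime] (hS : IsPGroup p S) (F : Cfsg.FusionSystem S) (hF : F.IsSaturated p)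
    (S₀ : Subgroup Ω) (hS₀ : F.StronglyClosed S₀) {Ω' : Type*} [Group Ω'] {S' : Subgroup Ω'}
    (θ : S →* Ω') (E : Cfsg.FusionSystem S') (hE : F.IsFactorSystem S₀ θ E)
    (P : Subgroup Ω) (φ : P →* Ω) (hφ : φ ∈ F.Hom P) :
    ∃ φ' ∈ E.Hom (imageAlong θ P), InducedAlong θ φ φ' := by
  obtain ⟨hS₀S, hker, hrange, hhom⟩ := hE
  obtain ⟨hPS, hφS⟩ := F.le_of_mem hφ
  obtain ⟨ψ, hψ, hψx⟩ := exists_ext_mod_stronglyClosed p hS F hF hS₀ hφ
  have hPQ : P ≤ preimageAlong θ (imageAlong θ P) := by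
    intro x hx
    rw [mem_preimageAlong (hPS hx)]
    exact ⟨⟨x, hPS hx⟩, Subgroup.mem_subgroupOf.mpr hx, rfl⟩
  have hQle : preimageAlong θ (imageAlong θ P) ≤ P ⊔ S₀ := by
    intro x hx
    have hxS : x ∈ S := preimageAlong_le θ _ hx
    rw [mem_preimageAlong hxS] at hx
    obtain ⟨s, hs, hsx⟩ := hx
    have hsP : (s : Ω) ∈ P := Subgroup.mem_subgroupOf.mp hs
    have h1 : θ (s⁻¹ * ⟨x, hxS⟩) = 1 := by rw [map_mul, map_inv, hsx, inv_mul_cancel]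
    have h2 : ((s⁻¹ * ⟨x, hxS⟩ : S) : Ω) ∈ S₀ := (hker _).mp h1
    have h3 : x = (s : Ω) * ((s⁻¹ * ⟨x, hxS⟩ : S) : Ω) := by
      push_cast
      group
    rw [h3]
    exact Subgroup.mul_mem _ ((le_sup_left : P ≤ P ⊔ S₀) hsP) ((le_sup_right : S₀ ≤ P ⊔ S₀) h2)
  have hφ₂ := restrict_mem F hψ hQle
  have hQS : preimageAlong θ (imageAlong θ P) ≤ S := preimageAlong_le θ _
  have hφ₂S := (F.le_of_mem hφ₂).2
  have hsurj : ∀ y ∈ imageAlong θ P, ∃ x : ↥(preimageAlong θ (imageAlong θ P)),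
      θ ⟨x, hQS x.2⟩ = y := by
    rintro _ ⟨s, hs, rfl⟩
    exact ⟨⟨s, hPQ (Subgroup.mem_subgroupOf.mp hs)⟩, rfl⟩
  have hker₂ : ∀ x : ↥(preimageAlong θ (imageAlong θ P)), θ ⟨x, hQS x.2⟩ = 1 →
      θ ⟨(ψ.comp (Subgroup.inclusion hQle)) x, hφ₂S x⟩ = 1 := by
    intro x hx
    rw [hker]
    exact map_mem_of_stronglyClosed F hS₀ hψ _ ((hker _).mp hx)
  obtain ⟨φ', hφ'⟩ := exists_induced hQS θ (imageAlong θ P) map_preimageAlong_mem hsurj
    (ψ.comp (Subgroup.inclusion hQle)) hφ₂S hker₂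
  refine ⟨φ', ?_, hPS, hφS, fun x => ⟨⟨x, hPS x.2⟩, Subgroup.mem_subgroupOf.mpr x.2, rfl⟩, ?_⟩
  · rw [hhom]
    refine ⟨?_, _, hφ₂, hQS, hφ₂S, map_preimageAlong_mem, hφ'⟩
    rintro _ ⟨s, -, rfl⟩
    rw [← hrange]
    exact ⟨s, rfl⟩
  · intro x
    have h1 := hφ' ⟨x, hPQ x.2⟩
    have h2 : (⟨θ ⟨(x : Ω), hPS x.2⟩, ⟨⟨x, hPS x.2⟩, Subgroup.mem_subgroupOf.mpr x.2, rfl⟩⟩ :
        ↥(imageAlong θ P)) = ⟨θ ⟨((⟨x, hPQ x.2⟩ : ↥(preimageAlong θ (imageAlong θ P))) : Ω),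
          hQS (hPQ x.2)⟩, map_preimageAlong_mem _⟩ := rfl
    rw [h2, h1]
    have h3 : (ψ.comp (Subgroup.inclusion hQle)) ⟨x, hPQ x.2⟩ =
        ψ (Subgroup.inclusion le_sup_left x) := rfl
    have ht := hψx x
    have hψS := (F.le_of_mem hψ).2 (Subgroup.inclusion le_sup_left x)
    have h4 : θ ⟨(φ x)⁻¹ * ψ (Subgroup.inclusion le_sup_left x),
        S.mul_mem (S.inv_mem (hφS x)) hψS⟩ = 1 := (hker _).mpr ht
    have h5 : (⟨(ψ.comp (Subgroup.inclusion hQle)) ⟨x, hPQ x.2⟩, hφ₂S _⟩ : S) =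
        ⟨φ x, hφS x⟩ * ⟨(φ x)⁻¹ * ψ (Subgroup.inclusion le_sup_left x),
          S.mul_mem (S.inv_mem (hφS x)) hψS⟩ := by
      apply Subtype.ext
      show (ψ.comp (Subgroup.inclusion hQle)) ⟨x, hPQ x.2⟩ =
        φ x * ((φ x)⁻¹ * ψ (Subgroup.inclusion le_sup_left x))
      rw [h3]
      group
    rw [h5, map_mul, h4, mul_one]

/-- Let F be a saturated fusion system over a finite p-group S, S₀ a subgroup strongly closed in F, and E the factor system of F modulo S₀ read through θ (a homomorphism on S with kernel S₀ and image the group of E). Then θ is a surjective morphism of fusion systems from F onto E: in particular every map of F, and not only the maps whose source contains S₀, induces along θ a map of E. -/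
theorem result {Ω : Type*} [Group Ω] {S : Subgroup Ω} [Finite S] (p : ℕ) [Fact p.Prime] (hS : IsPGroup p S) (F : Cfsg.FusionSystem S) (hF : F.IsSaturated p) (S₀ : Subgroup Ω) (hS₀ : F.StronglyClosed S₀) {Ω' : Type*} [Group Ω'] {S' : Subgroup Ω'} (θ : S →* Ω') (E : Cfsg.FusionSystem S') (hE : F.IsFactorSystem S₀ θ E) : F.IsSurjectiveMorphism E θ := by
  refine ⟨⟨?_, fun P φ hφ => exists_induced_of_factorSystem p hS F hF S₀ hS₀ θ E hE P φ hφ⟩,
    hE.2.2.1, ?_⟩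
  · intro s
    rw [← hE.2.2.1]
    exact ⟨s, rfl⟩
  · intro P' _ φ' hφ'
    exact ((hE.2.2.2 P' φ').mp hφ').2

end Cfsg.Agent.S5134
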