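import Cfsg.Statements.S0111
import Mathlib

set_option autoImplicit false
open Cfsg

namespace Cfsg.Agent.S0111

/-- The Thompson transfer lemma states that an involution of a Sylow 2-subgroup P lying outside a subgroup Q of index 2 in P either lies outside some normal subgroup of index 2 in G or is conjugate to an element of Q. -/
theorem result {G : Type*} [Group G] [Finite G] (P : Sylow 2 G) (Q : Subgroup G) (hQP : Q ≤ (P : Subgroup G)) (hQi : Q.relIndex (P : Subgroup G) = 2) (u : G) (hu : orderOf u = 2) (huP : u ∈ (P : Subgroup G)) (huQ : u ∉ Q) : (∃ M : Subgroup G, M.Normal ∧ M.index = 2 ∧ u ∉ M) ∨ ∃ g : G, g * u * g⁻¹ ∈ Q := by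
  classical
  by_cases hconj : ∃ g : G, g * u * g⁻¹ ∈ Q
  · exact Or.inr hconj
  left
  push Not at hconj
  set Q' : Subgroup (P : Subgroup G) := Q.subgroupOf (P : Subgroup G) with hQ'
  have hQ'idx : Q'.index = 2 := hQi
  let ϕ : (P : Subgroup G) →* ℤˣ :=
    { toFun := fun x => if x ∈ Q' then 1 else -1
      map_one' := by simp [Q'.one_mem]
      map_mul' := by
        intro a b
        have h := Subgroup.mul_mem_iff_of_index_two hQ'idx (a := a) (b := b)
        by_cases ha : a ∈ Q' <;> by_cases hb : b ∈ Q' <;> simp [h, ha, hb] }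
  have hϕ : ∀ (y : G) (hy : y ∈ (P : Subgroup G)), ϕ ⟨y, hy⟩ = if y ∈ Q then 1 else -1 := by
    intro y hy
    show (if (⟨y, hy⟩ : (P : Subgroup G)) ∈ Q' then (1 : ℤˣ) else -1) = _
    rw [hQ', Subgroup.mem_subgroupOf]
  set V : G →* ℤˣ := MonoidHom.transfer ϕ with hV
  have hu2 : u ^ 2 = 1 := by rw [← hu]; exact pow_orderOf_eq_one u
  have key : ∀ q : Quotient (MulAction.orbitRel (Subgroup.zpowers u) (G ⧸ (P : Subgroup G))),
      ϕ ⟨q.out.out⁻¹ * u ^ Function.minimalPeriod (u • ·) q.out * q.out.out,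
        QuotientGroup.out_conj_pow_minimalPeriod_mem (P : Subgroup G) u q.out⟩ =
      (-1 : ℤˣ) ^ Function.minimalPeriod (u • ·) q.out := by
    intro q
    rw [hϕ]
    have hdvd : Function.minimalPeriod (u • ·) q.out ∣ 2 := by
      rw [← MulAction.pow_smul_eq_iff_minimalPeriod_dvd, hu2, one_smul]
    rcases (Nat.dvd_prime Nat.prime_two).1 hdvd with h1 | h2
    · rw [h1, pow_one, pow_one]
      have := hconj (q.out.out⁻¹)
      rw [inv_inv] at this
      rw [if_neg this]
    · rw [h2, hu2]
      have : q.out.out⁻¹ * 1 * q.out.out = 1 := by group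
      rw [this, if_pos Q.one_mem]
      simp
  have hVu : V u = -1 := by
    haveI : Fintype (Quotient (MulAction.orbitRel (Subgroup.zpowers u) (G ⧸ (P : Subgroup G)))) :=
      Fintype.ofFinite _
    rw [hV, MonoidHom.transfer_eq_prod_quotient_orbitRel_zpowers_quot]
    rw [Finset.prod_congr rfl (fun q _ => key q), Finset.prod_pow_eq_pow_sum,
      ← Subgroup.index_eq_sum_minimalPeriod]
    apply Odd.neg_one_pow
    rw [← Nat.not_even_iff_odd, even_iff_two_dvd]
    exact P.not_dvd_index
  refine ⟨V.ker, MonoidHom.normal_ker V, ?_, ?_⟩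
  · rw [Subgroup.index_eq_two_iff]
    refine ⟨u, fun b => ?_⟩
    rw [MonoidHom.mem_ker, MonoidHom.mem_ker, map_mul, hVu]
    rcases Int.units_eq_one_or (V b) with h | h
    · rw [h]; right; simp
    · rw [h]; left; simp
  · rw [MonoidHom.mem_ker, hVu]
    decide

end Cfsg.Agent.S0111
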