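import Cfsg.Statements.S1254
import Cfsg.Agent.Lib.Lead.KleinDih
import Cfsg.Agent.Lib.Helper4.Frobenius3

set_option autoImplicit false
open Cfsg

namespace Cfsg.Agent.S1254

set_option linter.style.haveILetI false
set_option linter.unusedVariables false

open Cfsg.Agent.Lib.Lead.KleinDih Cfsg.Agent.Lib.Helper4

theorem zmod_two_torsion_unique (m : ℕ) [NeZero m] (i j : ZMod m) (hi : i + i = 0)
    (hj : j + j = 0) (hi0 : i ≠ 0) (hj0 : j ≠ 0) : i = j := by
  have key : ∀ k : ZMod m, k + k = 0 → k ≠ 0 → 2 * k.val = m := by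
    intro k hk hk0
    have h1 : ((k.val + k.val : ℕ) : ZMod m) = 0 := by
      rw [Nat.cast_add, ZMod.natCast_zmod_val]; exact hk
    rw [ZMod.natCast_eq_zero_iff] at h1
    have h2 := ZMod.val_lt k
    have h3 : 0 < k.val := Nat.pos_of_ne_zero (fun h => hk0 ((ZMod.val_eq_zero k).mp h))
    obtain ⟨c, hc⟩ := h1
    have hc1 : c = 1 := by
      rcases Nat.lt_or_ge c 2 with h | h
      · interval_cases c
        · omega
        · rfl
      · have h4 : m * 2 ≤ m * c := Nat.mul_le_mul_left _ h
        omega
    subst hc1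
    omega
  apply ZMod.val_injective m
  have h1 := key i hi hi0
  have h2 := key j hj hj0
  omega

/-- Let X be a finite group whose Sylow 2-subgroup S is dihedral (of order at least 4). Then X has a normal 2-complement if and only if, for every Klein four-subgroup U ≤ S, the normalizer N_X(U) is generated by C_X(U) and N_S(U). -/
theorem result {X : Type*} [Group X] [Finite X] (S : Sylow 2 X) (m : ℕ) (hm : 2 ≤ m) (eS : (S : Subgroup X) ≃* DihedralGroup m) : Cfsg.HasNormalPComplement 2 X ↔ ∀ U : Subgroup X, U ≤ S → IsKleinFour U → Subgroup.normalizer (U : Set X) = Subgroup.centralizer (U : Set X) ⊔ ((S : Subgroup X) ⊓ Subgroup.normalizer (U : Set X)) := by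
  classical
  haveI : Fact (Nat.Prime 2) := ⟨Nat.prime_two⟩
  haveI : NeZero m := ⟨by omega⟩
  obtain ⟨ρ, hρ⟩ : ∃ ρ : X, ρ = ((eS.symm (DihedralGroup.r 1) : ↥(S : Subgroup X)) : X) := ⟨_, rfl⟩
  have hzp : ∀ i : ℤ, ρ ^ i = ((eS.symm (DihedralGroup.r (i : ZMod m)) : ↥(S : Subgroup X)) : X) := by
    intro i
    rw [hρ, ← Subgroup.coe_zpow, ← map_zpow, DihedralGroup.r_one_zpow]
  have hrk : ∀ k : ZMod m,
      ((eS.symm (DihedralGroup.r k) : ↥(S : Subgroup X)) : X) ∈ Subgroup.zpowers ρ := by
    intro k
    rw [Subgroup.mem_zpowers_iff]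
    refine ⟨(k.val : ℤ), ?_⟩
    rw [hzp]
    have h1 : (((k.val : ℤ)) : ZMod m) = k := by
      rw [Int.cast_natCast, ZMod.natCast_zmod_val]
    rw [h1]
  have hcases : ∀ x : ↥(S : Subgroup X), (∃ k, x = eS.symm (DihedralGroup.r k)) ∨
      (∃ k, x = eS.symm (DihedralGroup.sr k)) := by
    intro x
    cases h : eS x with
    | r k => left; exact ⟨k, by rw [← h, MulEquiv.symm_apply_apply]⟩
    | sr k => right; exact ⟨k, by rw [← h, MulEquiv.symm_apply_apply]⟩
  have hnotin : ∀ x (hx : x ∈ (S : Subgroup X)), x ∉ Subgroup.zpowers ρ →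
      ∃ k, (⟨x, hx⟩ : ↥(S : Subgroup X)) = eS.symm (DihedralGroup.sr k) := by
    intro x hx hxR
    rcases hcases ⟨x, hx⟩ with ⟨k, hk⟩ | ⟨k, hk⟩
    · exfalso
      apply hxR
      have h1 := hrk k
      rw [← hk] at h1
      exact h1
    · exact ⟨k, hk⟩
  have F1 : ∀ x ∈ (S : Subgroup X), x ∈ Subgroup.zpowers ρ ∨ x * x = 1 := by
    intro x hx
    by_cases hxR : x ∈ Subgroup.zpowers ρ
    · exact Or.inl hxR
    · right
      obtain ⟨k, hk⟩ := hnotin x hx hxR
      have h1 : (⟨x, hx⟩ : ↥(S : Subgroup X)) * ⟨x, hx⟩ = 1 := by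
        rw [hk, ← map_mul, DihedralGroup.sr_mul_self, map_one]
      exact congrArg Subtype.val h1
  have F2 : ∀ x ∈ (S : Subgroup X), ∀ y ∈ (S : Subgroup X), x ∉ Subgroup.zpowers ρ →
      y ∉ Subgroup.zpowers ρ → x⁻¹ * y ∈ Subgroup.zpowers ρ := by
    intro x hx y hy hxR hyR
    obtain ⟨i, hi⟩ := hnotin x hx hxR
    obtain ⟨j, hj⟩ := hnotin y hy hyR
    have h1 : (⟨x, hx⟩ : ↥(S : Subgroup X))⁻¹ * ⟨y, hy⟩ = eS.symm (DihedralGroup.r (j - i)) := by
      rw [hi, hj, ← map_inv, ← map_mul, DihedralGroup.inv_sr, DihedralGroup.sr_mul_sr]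
    have h2 := hrk (j - i)
    rw [← h1] at h2
    exact h2
  have F3 : ∀ x ∈ Subgroup.zpowers ρ, ∀ y ∈ Subgroup.zpowers ρ, x * x = 1 → y * y = 1 →
      x ≠ 1 → y ≠ 1 → x = y := by
    intro x hx y hy hx2 hy2 hx1 hy1
    obtain ⟨i, rfl⟩ := Subgroup.mem_zpowers_iff.mp hx
    obtain ⟨j, rfl⟩ := Subgroup.mem_zpowers_iff.mp hy
    rw [hzp] at hx2 hx1 ⊢
    rw [hzp] at hy2 hy1 ⊢
    have key : ∀ k : ZMod m,
        ((eS.symm (DihedralGroup.r k) : ↥(S : Subgroup X)) : X) *
          ((eS.symm (DihedralGroup.r k) : ↥(S : Subgroup X)) : X) = 1 →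
        ((eS.symm (DihedralGroup.r k) : ↥(S : Subgroup X)) : X) ≠ 1 → k + k = 0 ∧ k ≠ 0 := by
      intro k h2 h1
      constructor
      · have h3 : eS.symm (DihedralGroup.r k) * eS.symm (DihedralGroup.r k) = 1 :=
          Subtype.ext h2
        rw [← map_mul, DihedralGroup.r_mul_r] at h3
        have h4 : (DihedralGroup.r (k + k) : DihedralGroup m) = 1 := by
          have h5 := congrArg eS h3
          rwa [MulEquiv.apply_symm_apply, map_one] at h5
        rw [DihedralGroup.one_def] at h4
        injection h4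
      · intro hk
        apply h1
        rw [hk, ← DihedralGroup.one_def, map_one]
        rfl
    obtain ⟨hi, hi0⟩ := key _ hx2 hx1
    obtain ⟨hj, hj0⟩ := key _ hy2 hy1
    rw [zmod_two_torsion_unique m _ _ hi hj hi0 hj0]
  constructor
  · intro hnpc U hUS hUK
    haveI := hUK
    have hF : FrobHyp 2 X := frobHyp_of_hasNormalPComplement 2 hnpc
    have hoddU : ∀ g ∈ Subgroup.normalizer (U : Set X), Odd (orderOf g) →
        g ∈ Subgroup.centralizer (U : Set X) := by
      intro g hg ho
      exact hF U (S.2.to_le hUS) g hg ho.coprime_two_right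
    have hFP := fixed_point U hoddU
    apply le_antisymm
    · intro g hg
      have hcardS : Nat.card ↥(S : Subgroup X) = 2 * m := by
        rw [Nat.card_congr eS.toEquiv, DihedralGroup.nat_card]
      by_cases hm2 : m = 2
      · -- U = S
        have hUeq : U = (S : Subgroup X) := by
          apply Subgroup.eq_of_le_of_card_ge hUS
          rw [hcardS, hm2, IsKleinFour.card_four]
        apply Subgroup.mem_sup_left
        obtain ⟨e, q, hq, hn, hoq⟩ := exists_two_pow_odd g
        have h2e : g ^ 2 ^ e ∈ Subgroup.centralizer (U : Set X) := by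
          apply hoddU _ (Subgroup.pow_mem _ hg _)
          rw [hoq]; exact hq
        have hgqN : g ^ q ∈ Subgroup.normalizer (U : Set X) := Subgroup.pow_mem _ hg _
        have hgq1 : (g ^ q) ^ 2 ^ e = 1 := by
          rw [← pow_mul, mul_comm, ← hn, pow_orderOf_eq_one]
        have hzp2 : IsPGroup 2 ↥(Subgroup.zpowers (g ^ q)) := by
          have h1 : orderOf (g ^ q) ∣ 2 ^ e := orderOf_dvd_of_pow_eq_one hgq1
          obtain ⟨j, -, hj⟩ := (Nat.dvd_prime_pow Nat.prime_two).mp h1
          apply IsPGroup.of_card (n := j)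
          rw [Nat.card_zpowers, hj]
        have hle : Subgroup.zpowers (g ^ q) ≤ Subgroup.normalizer ((S : Subgroup X) : Set X) := by
          rw [Subgroup.zpowers_le, ← hUeq]; exact hgqN
        have hsup : IsPGroup 2 ↥(Subgroup.zpowers (g ^ q) ⊔ (S : Subgroup X)) :=
          IsPGroup.to_sup_of_normal_right' hzp2 S.2 hle
        have hmax := S.is_maximal' hsup le_sup_right
        have hgqU : g ^ q ∈ U := by
          rw [hUeq, ← hmax]
          exact Subgroup.mem_sup_left (Subgroup.mem_zpowers _)
        have hgqC : g ^ q ∈ Subgroup.centralizer (U : Set X) := by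
          rw [Subgroup.mem_centralizer_iff]
          intro u hu
          exact klein_comm U u (g ^ q) hu hgqU
        have hcop : Nat.Coprime q (2 ^ e) := Nat.Coprime.pow_right e hq.coprime_two_right
        exact mem_of_pow_mem_coprime _ g q (2 ^ e) hcop hgqC h2e
      · -- 4 ∣ m
        obtain ⟨k, hk⟩ := (IsPGroup.iff_card).mp S.2
        rw [hcardS] at hk
        have hm4 : ∃ m' : ℕ, 1 ≤ m' ∧ m = 4 * m' := by
          cases k with
          | zero => omega
          | succ k =>
            cases k with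
            | zero => omega
            | succ k =>
              cases k with
              | zero => omega
              | succ k =>
                refine ⟨2 ^ k, Nat.one_le_two_pow, ?_⟩
                have h1 : 2 ^ (k + 1 + 1 + 1) = 8 * 2 ^ k := by ring
                omega
        obtain ⟨m', hm', hm4⟩ := hm4
        subst hm4
        haveI : IsKleinFour ↥((U.subgroupOf (S : Subgroup X)).map eS.toMonoidHom) :=
          kleinFour_of_equiv
            (((U.subgroupOf (S : Subgroup X)).equivMapOfInjective eS.toMonoidHom eS.injective).symm.trans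
              (Subgroup.subgroupOfEquivOfLe hUS))
        obtain ⟨t', ht1, ht2, v', hv'V, hv'⟩ :=
          dih_core m' hm' ((U.subgroupOf (S : Subgroup X)).map eS.toMonoidHom)
        have hmemV : ∀ u (hu : u ∈ U), eS ⟨u, hUS hu⟩ ∈
            (U.subgroupOf (S : Subgroup X)).map eS.toMonoidHom := by
          intro u hu
          exact ⟨⟨u, hUS hu⟩, Subgroup.mem_subgroupOf.mpr hu, rfl⟩
        have htS : ((eS.symm t' : ↥(S : Subgroup X)) : X) ∈ (S : Subgroup X) := (eS.symm t').2
        have htU : ∀ u ∈ U, ((eS.symm t' : ↥(S : Subgroup X)) : X) * u *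
            ((eS.symm t' : ↥(S : Subgroup X)) : X)⁻¹ ∈ U := by
          intro u hu
          obtain ⟨w, hwU, hw⟩ := ht1 _ (hmemV u hu)
          have h1 : w = eS.symm t' * ⟨u, hUS hu⟩ * (eS.symm t')⁻¹ := by
            apply eS.injective
            rw [map_mul, map_mul, map_inv, MulEquiv.apply_symm_apply]
            exact hw
          have h2 : (w : X) ∈ U := Subgroup.mem_subgroupOf.mp hwU
          rw [h1] at h2
          exact h2
        have htU' : ∀ u ∈ U, ((eS.symm t' : ↥(S : Subgroup X)) : X)⁻¹ * u *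
            ((eS.symm t' : ↥(S : Subgroup X)) : X) ∈ U := by
          intro u hu
          obtain ⟨w, hwU, hw⟩ := ht2 _ (hmemV u hu)
          have h1 : w = (eS.symm t')⁻¹ * ⟨u, hUS hu⟩ * eS.symm t' := by
            apply eS.injective
            rw [map_mul, map_mul, map_inv, MulEquiv.apply_symm_apply]
            exact hw
          have h2 : (w : X) ∈ U := Subgroup.mem_subgroupOf.mp hwU
          rw [h1] at h2
          exact h2
        have htN : ((eS.symm t' : ↥(S : Subgroup X)) : X) ∈ Subgroup.normalizer (U : Set X) := by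
          rw [Subgroup.mem_normalizer_iff]
          intro u
          constructor
          · exact htU u
          · intro h
            have h1 := htU' _ h
            have e : ((eS.symm t' : ↥(S : Subgroup X)) : X)⁻¹ *
                (((eS.symm t' : ↥(S : Subgroup X)) : X) * u *
                  ((eS.symm t' : ↥(S : Subgroup X)) : X)⁻¹) *
                ((eS.symm t' : ↥(S : Subgroup X)) : X) = u := by group
            rwa [e] at h1
        have htC : ((eS.symm t' : ↥(S : Subgroup X)) : X) ∉ Subgroup.centralizer (U : Set X) := by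
          intro hC
          obtain ⟨w, hwU, hw⟩ := hv'V
          have hwU' : (w : X) ∈ U := Subgroup.mem_subgroupOf.mp hwU
          have h1 := (Subgroup.mem_centralizer_iff.mp hC) (w : X) hwU'
          have h2 : w * eS.symm t' = eS.symm t' * w := Subtype.ext h1
          apply hv'
          have h3 := congrArg eS h2
          rw [map_mul, map_mul, MulEquiv.apply_symm_apply] at h3
          have h4 : eS w = v' := hw
          rw [h4] at h3
          calc t' * v' * t'⁻¹ = (v' * t') * t'⁻¹ := by rw [h3]
            _ = v' := by group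
        rcases forward_core U hFP _ htN htC g hg with h | h
        · exact Subgroup.mem_sup_left h
        · have e : g = (g * ((eS.symm t' : ↥(S : Subgroup X)) : X)⁻¹) *
              ((eS.symm t' : ↥(S : Subgroup X)) : X) := by group
          rw [e]
          exact Subgroup.mul_mem _ (Subgroup.mem_sup_left h) (Subgroup.mem_sup_right ⟨htS, htN⟩)
    · exact sup_le (Subgroup.centralizer_le_normalizer _) inf_le_right
  · intro HK
    have hF : FrobHyp 2 X := by
      intro Q hQ g hg hgc
      obtain ⟨P, hQP⟩ := hQ.exists_le_sylow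
      obtain ⟨x, hx⟩ := MulAction.exists_smul_eq X P S
      have hPS : cj x (P : Subgroup X) = (S : Subgroup X) := by
        rw [← sylow_smul_eq_cj, hx]
      have hQ'S : cj x Q ≤ (S : Subgroup X) := by
        rw [← hPS]; exact cj_mono x hQP
      have hg' : x * g * x⁻¹ ∈ Subgroup.normalizer ((cj x Q : Subgroup X) : Set X) := by
        rw [cj_normalizer]; exact conj_mem_cj x _ hg
      have hodd' : Odd (orderOf (x * g * x⁻¹)) := by
        have h1 : orderOf (x * g * x⁻¹) = orderOf g := by
          have h2 := (MulAut.conj x).orderOf_eq g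
          rwa [MulAut.conj_apply] at h2
        rw [h1]; exact Nat.coprime_two_right.mp hgc
      have hc := back_core (S : Subgroup X) S.2 ρ F1 F2 F3 HK (cj x Q) hQ'S _ hg' hodd'
      rw [Subgroup.mem_centralizer_iff] at hc ⊢
      intro q hq
      have h1 := hc (x * q * x⁻¹) (conj_mem_cj x Q hq)
      have h2 : x * (q * g) * x⁻¹ = x * (g * q) * x⁻¹ := by
        calc x * (q * g) * x⁻¹ = (x * q * x⁻¹) * (x * g * x⁻¹) := by group
          _ = (x * g * x⁻¹) * (x * q * x⁻¹) := h1
          _ = x * (g * q) * x⁻¹ := by group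
      exact conj_inj h2
    obtain ⟨K, hKn, hc, hq⟩ := frob_hasNormalPComplement 2 (Nat.card X) X rfl hF
    exact hasNormalPComplement_of_normal_hall 2 K hc hq

end Cfsg.Agent.S1254
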