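import Cfsg.Statements.S1255
import Cfsg.Agent.Lib.Lead.KleinDih3
import Cfsg.Agent.S0111

set_option autoImplicit false
open Cfsg

namespace Cfsg.Agent.S1255

set_option linter.style.haveILetI false
set_option linter.unusedVariables false

open Cfsg.Agent.Lib.Lead.KleinDih Cfsg.Agent.Lib.Helper4

/-- Let X be a finite group whose Sylow 2-subgroup S is dihedral of order 2m ≥ 4. Then X has no subgroup of index 2 and no isolated involution if and only if either all involutions of X are conjugate, or for every Klein four-subgroup U ≤ S the index |N_X(U) : C_X(U)| equals 3 when |S| = 4 and equals 6 when |S| > 4. -/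
theorem result {X : Type*} [Group X] [Finite X] (S : Sylow 2 X) (m : ℕ) (hm : 2 ≤ m) (eS : (S : Subgroup X) ≃* DihedralGroup m) : ((∀ H : Subgroup X, H.index ≠ 2) ∧ (∀ z : X, ¬ Cfsg.IsIsolatedInvolution z)) ↔ ((∀ a b : X, orderOf a = 2 → orderOf b = 2 → IsConj a b) ∨ (∀ U : Subgroup X, U ≤ S → IsKleinFour U → (Subgroup.centralizer (U : Set X)).relIndex (Subgroup.normalizer (U : Set X)) = (if Nat.card S = 4 then 3 else 6))) := by
  classical
  haveI : Fact (Nat.Prime 2) := ⟨Nat.prime_two⟩
  haveI : NeZero m := ⟨by omega⟩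
  have hcardS : Nat.card ↥(S : Subgroup X) = 2 * m := by
    rw [Nat.card_congr eS.toEquiv, DihedralGroup.nat_card]
  obtain ⟨m2, hm2⟩ : ∃ m2, m = 2 * m2 := by
    obtain ⟨k, hk⟩ := (IsPGroup.iff_card).mp S.2
    rw [hcardS] at hk
    cases k with
    | zero => omega
    | succ k =>
      cases k with
      | zero => omega
      | succ k =>
        refine ⟨2 ^ k, ?_⟩
        have h1 : 2 ^ (k + 1 + 1) = 4 * 2 ^ k := by ring
        omega
  obtain ⟨ρ, hρ⟩ : ∃ ρ : X, ρ = ((eS.symm (DihedralGroup.r 1) : ↥(S : Subgroup X)) : X) := ⟨_, rfl⟩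
  obtain ⟨hzp, hrk, hnotin, F1, F2, F3⟩ := dih_facts (S : Subgroup X) m eS ρ hρ
  obtain ⟨hρS, ⟨z, hzR, hzz, hz1, hzc⟩, ⟨s, hsS, hsR⟩⟩ :=
    dih_center_facts (S : Subgroup X) m m2 hm2 eS ρ hρ
  have hRS : Subgroup.zpowers ρ ≤ (S : Subgroup X) := by
    rw [Subgroup.zpowers_le]; exact hρS
  have hzS : z ∈ (S : Subgroup X) := hRS hzR
  have hkey : (∀ u ∈ (S : Subgroup X), u * u = 1 → u ≠ 1 → ∃ h : X, h * z * h⁻¹ = u) →
      ∀ a b : X, orderOf a = 2 → orderOf b = 2 → IsConj a b := by
    intro H a b ha hb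
    have hconjz : ∀ a : X, orderOf a = 2 → IsConj z a := by
      intro a ha
      obtain ⟨g, hg⟩ := invol_conj_into_sylow S a ha
      have ha2 : a * a = 1 := by rw [← pow_two, ← ha, pow_orderOf_eq_one]
      have ha1 : a ≠ 1 := by
        intro h; rw [h, orderOf_one] at ha; omega
      have h2 : (g * a * g⁻¹) * (g * a * g⁻¹) = 1 := by
        have : (g * a * g⁻¹) * (g * a * g⁻¹) = g * (a * a) * g⁻¹ := by group
        rw [this, ha2]; group
      obtain ⟨h, hh⟩ := H _ hg h2 (conj_ne_one ha1)
      rw [isConj_iff]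
      refine ⟨g⁻¹ * h, ?_⟩
      calc g⁻¹ * h * z * (g⁻¹ * h)⁻¹ = g⁻¹ * (h * z * h⁻¹) * g := by group
        _ = a := by rw [hh]; group
    exact (hconjz a ha).symm.trans (hconjz b hb)
  have hA : (∀ a b : X, orderOf a = 2 → orderOf b = 2 → IsConj a b) →
      (∀ H : Subgroup X, H.index ≠ 2) ∧ (∀ w : X, ¬ Cfsg.IsIsolatedInvolution w) := by
    intro hA
    have hoz : orderOf z = 2 := orderOf_eq_prime (by rw [pow_two]; exact hzz) hz1
    have hs2 : s * s = 1 := by
      rcases F1 s hsS with h | h
      · exact absurd h hsR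
      · exact h
    have hs1 : s ≠ 1 := by
      intro h; apply hsR; rw [h]; exact Subgroup.one_mem _
    have hos : orderOf s = 2 := orderOf_eq_prime (by rw [pow_two]; exact hs2) hs1
    constructor
    · intro H hH
      haveI : H.Normal := Subgroup.normal_of_index_eq_two hH
      have h2H : 2 ∣ Nat.card ↥H := by
        have h1 : Nat.card ↥H * H.index = Nat.card X := H.card_mul_index
        have h4 : Nat.card ↥(S : Subgroup X) ∣ Nat.card X := Subgroup.card_subgroup_dvd_card _
        rw [hcardS, ← h1, hH, mul_comm (Nat.card ↥H) 2] at h4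
        have h5 : m ∣ Nat.card ↥H := Nat.dvd_of_mul_dvd_mul_left (by norm_num) h4
        exact Dvd.dvd.trans ⟨m2, hm2⟩ h5
      obtain ⟨h0, hh0⟩ := exists_prime_orderOf_dvd_card' 2 h2H
      have hh0' : orderOf (h0 : X) = 2 := by rw [Subgroup.orderOf_coe]; exact hh0
      have hinvH : ∀ a : X, orderOf a = 2 → a ∈ H := by
        intro a ha
        obtain ⟨c, hc⟩ := isConj_iff.mp (hA (h0 : X) a hh0' ha)
        rw [← hc]
        exact (inferInstance : H.Normal).conj_mem _ h0.2 c
      have hSH : (S : Subgroup X) ≤ H := by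
        intro x hx
        have hinv : ∀ y ∈ (S : Subgroup X), y ∉ Subgroup.zpowers ρ → y ∈ H := by
          intro y hy hyR
          apply hinvH
          have hy2 : y * y = 1 := by
            rcases F1 y hy with h | h
            · exact absurd h hyR
            · exact h
          have hy1 : y ≠ 1 := by
            intro h; apply hyR; rw [h]; exact Subgroup.one_mem _
          exact orderOf_eq_prime (by rw [pow_two]; exact hy2) hy1
        by_cases hxR : x ∈ Subgroup.zpowers ρ
        · have h1 : s * x ∉ Subgroup.zpowers ρ := by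
            intro h
            apply hsR
            have e : s = (s * x) * x⁻¹ := by group
            rw [e]
            exact Subgroup.mul_mem _ h (Subgroup.inv_mem _ hxR)
          have h2 := hinv (s * x) (Subgroup.mul_mem _ hsS hx) h1
          have h3 := hinv s hsS hsR
          have e : x = s⁻¹ * (s * x) := by group
          rw [e]
          exact H.mul_mem (H.inv_mem h3) h2
        · exact hinv x hx hxR
      have h1 : H.index ∣ (S : Subgroup X).index := Subgroup.index_dvd_of_le hSH
      rw [hH] at h1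
      exact S.not_dvd_index h1
    · intro w hw
      obtain ⟨hw2, hwiso⟩ := hw
      obtain ⟨h, hh⟩ := isConj_iff.mp (hA w z hw2 hoz)
      obtain ⟨k, hk⟩ := isConj_iff.mp (hA w s hw2 hos)
      have e1 : w = h⁻¹ * z * h := by rw [← hh]; group
      have e2 : (h⁻¹ * k) * w * (h⁻¹ * k)⁻¹ = h⁻¹ * s * h := by rw [← hk]; group
      have hcomm : Commute w ((h⁻¹ * k) * w * (h⁻¹ * k)⁻¹) := by
        rw [e2]
        show w * (h⁻¹ * s * h) = (h⁻¹ * s * h) * w
        rw [e1]
        calc h⁻¹ * z * h * (h⁻¹ * s * h) = h⁻¹ * (z * s) * h := by group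
          _ = h⁻¹ * (s * z) * h := by rw [hzc s hsS]
          _ = h⁻¹ * s * h * (h⁻¹ * z * h) := by group
      have h1 := hwiso _ hcomm
      rw [e2] at h1
      have h3 : h⁻¹ * s * h = h⁻¹ * z * h := h1.trans e1
      apply hsR
      have hsz : s = z := by
        apply conj_inj (g := h⁻¹)
        rw [inv_inv]; exact h3
      rw [hsz]; exact hzR
  have hrel : (Subgroup.zpowers ρ).relIndex (S : Subgroup X) = 2 := by
    rw [Subgroup.relIndex_eq_two_iff_exists_notMem_and']
    refine ⟨s⁻¹, Subgroup.inv_mem _ hsS, ?_, ?_⟩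
    · intro h
      apply hsR
      have h1 := Subgroup.inv_mem _ h
      rwa [inv_inv] at h1
    · intro b hb
      by_cases hbR : b ∈ Subgroup.zpowers ρ
      · exact Or.inr hbR
      · exact Or.inl (F2 s hsS b hb hsR hbR)
  constructor
  · rintro ⟨hno2, hnoiso⟩
    left
    apply hkey
    intro u hu hu2 hu1
    by_cases huR : u ∈ Subgroup.zpowers ρ
    · exact ⟨1, by rw [F3 z hzR u huR hzz hu2 hz1 hu1]; group⟩
    · have hou : orderOf u = 2 := orderOf_eq_prime (by rw [pow_two]; exact hu2) hu1
      rcases Cfsg.Agent.S0111.result S (Subgroup.zpowers ρ) hRS hrel u hou hu huR with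
        ⟨M, hMn, hMi, -⟩ | ⟨g, hg⟩
      · exact absurd hMi (hno2 M)
      · have h2 : (g * u * g⁻¹) * (g * u * g⁻¹) = 1 := by
          have : (g * u * g⁻¹) * (g * u * g⁻¹) = g * (u * u) * g⁻¹ := by group
          rw [this, hu2]; group
        have h3 := F3 z hzR _ hg hzz h2 hz1 (conj_ne_one hu1)
        refine ⟨g⁻¹, ?_⟩
        rw [h3]; group
  · rintro (hA' | hB)
    · exact hA hA'
    · apply hA
      apply hkey
      intro u hu hu2 hu1
      by_cases huR : u ∈ Subgroup.zpowers ρ
      · exact ⟨1, by rw [F3 z hzR u huR hzz hu2 hz1 hu1]; group⟩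
      · have hzu : z ≠ u := fun h => huR (h ▸ hzR)
        obtain ⟨U, hUK, hUmem⟩ := klein_mk z u hzz hu2 (hzc u hu) hz1 hu1 hzu
        haveI := hUK
        have hUS : U ≤ (S : Subgroup X) := by
          intro x hx
          rcases (hUmem x).mp hx with h | h | h | h
          · rw [h]; exact Subgroup.one_mem _
          · rw [h]; exact hzS
          · rw [h]; exact hu
          · rw [h]; exact Subgroup.mul_mem _ hzS hu
        have h3 : 3 ∣ (Subgroup.centralizer (U : Set X)).relIndex
            (Subgroup.normalizer (U : Set X)) := by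
          rw [hB U hUS hUK]
          split_ifs <;> norm_num
        exact klein_all_conj U h3 z u ((hUmem z).mpr (Or.inr (Or.inl rfl)))
          ((hUmem u).mpr (Or.inr (Or.inr (Or.inl rfl)))) hz1 hu1

end Cfsg.Agent.S1255
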