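import Cfsg.Statements.S0010
import Mathlib
import Cfsg.Agent.Lib.Helper1.SylowConj

set_option autoImplicit false
open Cfsg

namespace Cfsg.Agent.S0010

open Cfsg.Agent.Lib.Helper1

/-- The largest normal p-subgroup of a finite group is the intersection of all its Sylow p-subgroups. -/
theorem result {G : Type*} [Group G] [Finite G] (p : ℕ) [Fact p.Prime] :
    Cfsg.pCore p G = ⨅ P : Sylow p G, (P : Subgroup G) := by
  apply le_antisymm
  · unfold Cfsg.pCore
    apply sSup_le
    rintro N ⟨hN, hNp⟩
    apply le_iInf
    intro P
    haveI := hN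
    exact hNp.le_sylow_of_normal P
  · unfold Cfsg.pCore
    apply le_sSup
    constructor
    · constructor
      intro x hx g
      rw [Subgroup.mem_iInf] at hx ⊢
      intro P
      have := hx (g⁻¹ • P)
      have h' : x ∈ (g⁻¹ • P : Sylow p G) := this
      rw [mem_sylow_smul_iff, inv_inv] at h'
      exact h'
    · obtain ⟨P⟩ : Nonempty (Sylow p G) := inferInstance
      exact P.isPGroup'.to_le (iInf_le _ P)

end Cfsg.Agent.S0010
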