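import Cfsg.Statements.S0011
import Mathlib

set_option autoImplicit false
open Cfsg

namespace Cfsg.Agent.S0011

/-- If the Frattini quotient of a finite group is nilpotent then the group is nilpotent. -/
theorem result {G : Type*} [Group G] [Finite G]
    (h : Group.IsNilpotent (G ⧸ frattini G)) : Group.IsNilpotent G := by
  have q := (Group.isNilpotent_of_finite_tfae (G := G)).out 0 3
  rw [q]
  intro p hp P
  haveI := hp
  set F := frattini G with hF
  have hsurj := QuotientGroup.mk'_surjective F
  -- the image of P is a normal Sylow subgroup of the quotient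
  have hnorm : ((P.mapSurjective hsurj : Sylow p (G ⧸ F)) : Subgroup (G ⧸ F)).Normal :=
    inferInstance
  rw [Sylow.coe_mapSurjective] at hnorm
  set K := ((P : Subgroup G).map (QuotientGroup.mk' F)).comap (QuotientGroup.mk' F) with hK
  haveI hKn : K.Normal := hnorm.comap _
  have hPK : (P : Subgroup G) ≤ K := Subgroup.le_comap_map _ _
  have hKeq : K = (P : Subgroup G) ⊔ F := by
    rw [hK, Subgroup.comap_map_eq, QuotientGroup.ker_mk']
  have h1 := Sylow.normalizer_sup_eq_top' P hPK
  have h2 : Subgroup.normalizer ((P : Subgroup G) : Set G) ⊔ F = ⊤ := by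
    rw [eq_top_iff, ← h1, hKeq]
    apply sup_le le_sup_left
    apply sup_le
    · exact le_trans Subgroup.le_normalizer le_sup_left
    · exact le_sup_right
  have h3 := frattini_nongenerating h2
  exact Subgroup.normalizer_eq_top_iff.1 h3

end Cfsg.Agent.S0011
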