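import Cfsg.Statements.S0018
import Cfsg.Agent.S0017
import Cfsg.Agent.Lib.Helper1.Fitting2

set_option autoImplicit false
open Cfsg

namespace Cfsg.Agent.S0018

open Cfsg.Agent.Lib.Helper1

theorem card_comap_mk' {G : Type*} [Group G] [Finite G] (K : Subgroup G) [K.Normal]
    (N : Subgroup (G ⧸ K)) :
    Nat.card (N.comap (QuotientGroup.mk' K)) = Nat.card N * Nat.card K := by
  have h1 : (N.comap (QuotientGroup.mk' K)).index = N.index :=
    Subgroup.index_comap_of_surjective N (QuotientGroup.mk'_surjective K)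
  have h2 : Nat.card (N.comap (QuotientGroup.mk' K)) * (N.comap (QuotientGroup.mk' K)).index = Nat.card G :=
    Subgroup.card_mul_index _
  have h3 : Nat.card N * N.index = Nat.card (G ⧸ K) := Subgroup.card_mul_index _
  have h4 : Nat.card K * K.index = Nat.card G := Subgroup.card_mul_index _
  have h5 : K.index = Nat.card (G ⧸ K) := Subgroup.index_eq_card K
  have hidx : N.index ≠ 0 := Subgroup.index_ne_zero_of_finite
  rw [h1] at h2
  have : Nat.card (N.comap (QuotientGroup.mk' K)) * N.index = (Nat.card N * Nat.card K) * N.index := by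
    rw [h2, ← h4, h5, ← h3]; ring
  exact Nat.eq_of_mul_eq_mul_right (Nat.pos_of_ne_zero hidx) this

theorem pPrimeCore_quotient {G : Type*} [Group G] [Finite G] (p : ℕ) [Fact p.Prime]
    [hn : (Cfsg.pPrimeCore p G).Normal] :
    Cfsg.pPrimeCore p (G ⧸ Cfsg.pPrimeCore p G) = ⊥ := by
  rw [eq_bot_iff]
  apply sSup_le
  rintro N ⟨hN, hNc⟩
  set K := Cfsg.pPrimeCore p G with hK
  have hcomapn : (N.comap (QuotientGroup.mk' K)).Normal := hN.comap _
  have hcard : (Nat.card (N.comap (QuotientGroup.mk' K))).Coprime p := by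
    rw [card_comap_mk']
    exact Nat.Coprime.mul_left hNc (pPrimeCore_coprime p)
  have hle : N.comap (QuotientGroup.mk' K) ≤ K := le_pPrimeCore _ hcomapn hcard
  intro x hx
  obtain ⟨g, rfl⟩ := QuotientGroup.mk'_surjective K x
  have : g ∈ K := hle hx
  rw [Subgroup.mem_bot]
  exact (QuotientGroup.eq_one_iff g).2 this

/-- A finite solvable group whose Sylow p-subgroups are abelian has p-length one: a Sylow p-subgroup together with the largest normal subgroup of order prime to p generates a normal subgroup. -/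
theorem result {G : Type*} [Group G] [Finite G] [Group.IsSolvable G]
    (p : ℕ) [Fact p.Prime] (P : Sylow p G) (hP : IsMulCommutative P) :
    ((P : Subgroup G) ⊔ Cfsg.pPrimeCore p G).Normal := by
  classical
  have hKn : (Cfsg.pPrimeCore p G).Normal := pPrimeCore_normal p G
  set K := Cfsg.pPrimeCore p G with hK
  set π := QuotientGroup.mk' K with hπ
  have hπs : Function.Surjective π := QuotientGroup.mk'_surjective K
  have hbot : Cfsg.pPrimeCore p (G ⧸ K) = ⊥ := pPrimeCore_quotient p
  have hcent := Cfsg.Agent.S0017.result (G := G ⧸ K) p hbot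
  set Pbar : Sylow p (G ⧸ K) := P.mapSurjective hπs with hPbar
  have hcoe : (Pbar : Subgroup (G ⧸ K)) = (P : Subgroup G).map π := Sylow.coe_mapSurjective hπs P
  have hle : Cfsg.pCore p (G ⧸ K) ≤ (Pbar : Subgroup (G ⧸ K)) := pCore_le_sylow Pbar
  have hcomm : ∀ x ∈ (Pbar : Subgroup (G ⧸ K)), ∀ y ∈ (Pbar : Subgroup (G ⧸ K)), x * y = y * x := by
    intro x hx y hy
    rw [hcoe] at hx hy
    obtain ⟨a, ha, rfl⟩ := hx
    obtain ⟨b, hb, rfl⟩ := hy
    have hab : a * b = b * a := by
      have := hP.is_comm.comm (⟨a, ha⟩ : (P : Subgroup G)) ⟨b, hb⟩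
      exact congrArg Subtype.val this
    rw [← map_mul, ← map_mul, hab]
  have hPle : (Pbar : Subgroup (G ⧸ K)) ≤ Cfsg.pCore p (G ⧸ K) := by
    intro x hx
    apply hcent
    rw [Subgroup.mem_centralizer_iff]
    intro y hy
    exact hcomm y (hle hy) x hx
  have heq : (Pbar : Subgroup (G ⧸ K)) = Cfsg.pCore p (G ⧸ K) := le_antisymm hPle hle
  have hnorm : ((P : Subgroup G).map π).Normal := by
    rw [← hcoe, heq]; exact pCore_normal p _
  have h2 : (P : Subgroup G) ⊔ K = ((P : Subgroup G).map π).comap π := by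
    rw [Subgroup.comap_map_eq, hπ, QuotientGroup.ker_mk']
  rw [h2]
  exact hnorm.comap π

end Cfsg.Agent.S0018
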