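import Cfsg.Statements.S0019
import Cfsg.Agent.Lib.Helper4.HallConv

set_option autoImplicit false
open Cfsg

namespace Cfsg.Agent.S0019


open Cfsg.Agent.Lib.Helper4 in
theorem core_step {G : Type*} [Group G] [Finite G] (r : ℕ) [Fact r.Prime] (H K N' : Subgroup G)
    (hHK : ∀ g : G, ∃ x ∈ H, ∃ y ∈ K, g = x * y)
    (hN'r : IsPGroup r N') (hN'norm : ∀ x ∈ H, ∀ n ∈ N', x * n * x⁻¹ ∈ N')
    (hrK : ¬ r ∣ K.index) : N' ≤ K.normalCore := by
  have hKH : ∀ g : G, ∃ y ∈ K, ∃ x ∈ H, g = y * x := by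
    intro g
    obtain ⟨x, hx, y, hy, h⟩ := hHK g⁻¹
    refine ⟨y⁻¹, K.inv_mem hy, x⁻¹, H.inv_mem hx, ?_⟩
    rw [← mul_inv_rev, ← h, inv_inv]
  obtain ⟨g, hg⟩ := exists_conj_mem_of_not_dvd_index r K N' hN'r hrK
  have hN'K : N' ≤ K := by
    intro n hn
    obtain ⟨x, hx, y, hy, hgxy⟩ := hHK g
    have h1 := hg (x * n * x⁻¹) (hN'norm x hx n hn)
    rw [hgxy] at h1
    have h2 : y * ((x * y)⁻¹ * (x * n * x⁻¹) * (x * y)) * y⁻¹ = n := by group
    rw [← h2]
    exact K.mul_mem (K.mul_mem hy h1) (K.inv_mem hy)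
  intro n hn b
  obtain ⟨y, hy, x, hx, hb⟩ := hKH b
  have h2 : b * n * b⁻¹ = y * (x * n * x⁻¹) * y⁻¹ := by rw [hb]; group
  rw [h2]
  exact K.mul_mem (K.mul_mem hy (hN'K (hN'norm x hx n hn))) (K.inv_mem hy)

open Cfsg.Agent.Lib.Helper4 in
theorem three_solvable.{u} : ∀ (n : ℕ) (G : Type u) [Group G] [Finite G], Nat.card G = n →
    ∀ (H₁ H₂ H₃ : Subgroup G), Group.IsSolvable H₁ → Group.IsSolvable H₂ → Group.IsSolvable H₃ →
    (∀ g : G, ∃ x ∈ H₁, ∃ y ∈ H₂, g = x * y) → (∀ g : G, ∃ x ∈ H₁, ∃ y ∈ H₃, g = x * y) →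
    H₂.index.Coprime H₃.index → Group.IsSolvable G := by
  intro n
  induction n using Nat.strong_induction_on with
  | _ n ih =>
  intro G _ _ hn H₁ H₂ H₃ h₁ h₂ h₃ h12 h13 hcop
  by_cases hH1 : H₁ = ⊥
  · have hH2 : H₂ = ⊤ := by
      rw [eq_top_iff]
      intro g _
      obtain ⟨x, hx, y, hy, h⟩ := h12 g
      rw [hH1, Subgroup.mem_bot] at hx
      rw [h, hx, one_mul]; exact hy
    subst hH2
    exact Group.isSolvable_of_surjective (f := (Subgroup.topEquiv (G := G)).toMonoidHom)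
      (Subgroup.topEquiv (G := G)).surjective
  · haveI : Nontrivial H₁ := (Subgroup.nontrivial_iff_ne_bot H₁).2 hH1
    obtain ⟨r, hrF, N, hNn, hNb, hNr⟩ := exists_normal_pSubgroup_of_solvable (G := H₁)
    have hr : r.Prime := hrF.out
    set N' : Subgroup G := N.map H₁.subtype with hN'
    have hN'r : IsPGroup r N' := hNr.map _
    have hN'b : N' ≠ ⊥ := by
      intro hb
      apply hNb
      rw [hN', Subgroup.map_eq_bot_iff_of_injective _ H₁.subtype_injective] at hb
      exact hb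
    have hN'norm : ∀ x ∈ H₁, ∀ n ∈ N', x * n * x⁻¹ ∈ N' := by
      intro x hx n hn
      rw [hN', Subgroup.mem_map] at hn ⊢
      obtain ⟨n0, hn0, rfl⟩ := hn
      exact ⟨⟨x, hx⟩ * n0 * ⟨x, hx⟩⁻¹, hNn.conj_mem n0 hn0 ⟨x, hx⟩, rfl⟩
    -- a nontrivial solvable normal subgroup
    have hM : ∃ M : Subgroup G, M.Normal ∧ M ≠ ⊥ ∧ Group.IsSolvable M := by
      have hor : ¬ r ∣ H₂.index ∨ ¬ r ∣ H₃.index := by
        by_contra hcon
        push Not at hcon
        have := Nat.dvd_gcd hcon.1 hcon.2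
        rw [hcop.gcd_eq_one, Nat.dvd_one] at this
        exact hr.one_lt.ne' this
      rcases hor with h | h
      · have hcore := core_step r H₁ H₂ N' h12 hN'r hN'norm h
        refine ⟨H₂.normalCore, H₂.normalCore_normal, ?_, ?_⟩
        · intro hb
          rw [hb, le_bot_iff] at hcore
          exact hN'b hcore
        · exact Group.isSolvable_of_isSolvable_injective
            (f := Subgroup.inclusion H₂.normalCore_le) (Subgroup.inclusion_injective _)
      · have hcore := core_step r H₁ H₃ N' h13 hN'r hN'norm h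
        refine ⟨H₃.normalCore, H₃.normalCore_normal, ?_, ?_⟩
        · intro hb
          rw [hb, le_bot_iff] at hcore
          exact hN'b hcore
        · exact Group.isSolvable_of_isSolvable_injective
            (f := Subgroup.inclusion H₃.normalCore_le) (Subgroup.inclusion_injective _)
    obtain ⟨M, hMn, hMb, hMs⟩ := hM
    haveI := hMn
    have hsurj := QuotientGroup.mk'_surjective M
    have himg : ∀ H : Subgroup G, Group.IsSolvable H →
        Group.IsSolvable (H.map (QuotientGroup.mk' M)) := by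
      intro H hH
      exact Group.isSolvable_of_surjective (f := (QuotientGroup.mk' M).subgroupMap H)
        ((QuotientGroup.mk' M).subgroupMap_surjective H)
    have hfac : ∀ H K : Subgroup G, (∀ g : G, ∃ x ∈ H, ∃ y ∈ K, g = x * y) →
        ∀ q : G ⧸ M, ∃ x ∈ H.map (QuotientGroup.mk' M), ∃ y ∈ K.map (QuotientGroup.mk' M),
          q = x * y := by
      intro H K hHK q
      obtain ⟨g, rfl⟩ := hsurj q
      obtain ⟨x, hx, y, hy, h⟩ := hHK g
      exact ⟨_, Subgroup.mem_map_of_mem _ hx, _, Subgroup.mem_map_of_mem _ hy, by rw [h, map_mul]⟩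
    have : Group.IsSolvable (G ⧸ M) := by
      apply ih _ (hn ▸ card_quot_lt M hMb) (G ⧸ M) rfl
        (H₁.map (QuotientGroup.mk' M)) (H₂.map (QuotientGroup.mk' M))
        (H₃.map (QuotientGroup.mk' M)) (himg _ h₁) (himg _ h₂) (himg _ h₃)
        (hfac _ _ h12) (hfac _ _ h13)
      exact Nat.Coprime.coprime_dvd_left (Subgroup.index_map_dvd H₂ hsurj)
        (Nat.Coprime.coprime_dvd_right (Subgroup.index_map_dvd H₃ hsurj) hcop)
    exact Group.isSolvable_of_ker_le_range M.subtype (QuotientGroup.mk' M) (by simp)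

/-- A finite group that factorises as H₁H₂ and as H₁H₃ with all three subgroups solvable and the indices of H₂ and H₃ coprime is solvable. -/
theorem result {G : Type*} [Group G] [Finite G] (H₁ H₂ H₃ : Subgroup G)
    (h₁ : Group.IsSolvable H₁) (h₂ : Group.IsSolvable H₂) (h₃ : Group.IsSolvable H₃)
    (h12 : ∀ g : G, ∃ x ∈ H₁, ∃ y ∈ H₂, g = x * y) (h13 : ∀ g : G, ∃ x ∈ H₁, ∃ y ∈ H₃, g = x * y)
    (hcop : H₂.index.Coprime H₃.index) : Group.IsSolvable G := by
  exact three_solvable _ G rfl H₁ H₂ H₃ h₁ h₂ h₃ h12 h13 hcop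

end Cfsg.Agent.S0019
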