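import Cfsg.Statements.S0020
import Cfsg.Agent.Lib.Helper4.Hall2
import Cfsg.Agent.S0007

set_option autoImplicit false
open Pointwise
open Cfsg

namespace Cfsg.Agent.S0020

open Cfsg.Agent.Lib.Helper4

section
variable {G : Type*} [Group G] [Finite G]

/-- Hall `p`-complements exist in solvable groups. -/
theorem exists_pComplement [Group.IsSolvable G] (q : ℕ) (hq : q.Prime) :
    ∃ H : Subgroup G, H.index = q ^ (Nat.card G).factorization q := by
  have hN : Nat.card G ≠ 0 := Nat.card_pos.ne'
  have h1 : Nat.card G = (Nat.card G / q ^ (Nat.card G).factorization q) * q ^ (Nat.card G).factorization q :=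
    by rw [mul_comm]; exact (Nat.ordProj_mul_ordCompl_eq_self (Nat.card G) q).symm
  have h2 : (Nat.card G / q ^ (Nat.card G).factorization q).Coprime (q ^ (Nat.card G).factorization q) :=
    (Nat.Coprime.pow_left _ (Nat.coprime_ordCompl hq hN)).symm
  obtain ⟨H, hH⟩ := ((hall_all (Nat.card G) G rfl) _ _ h1 h2).1
  refine ⟨H, ?_⟩
  have h3 := Subgroup.index_mul_card H
  rw [hH] at h3
  have hpos : 0 < Nat.card G / q ^ (Nat.card G).factorization q := by
    rw [← hH]; exact Nat.card_pos
  apply Nat.eq_of_mul_eq_mul_right hpos
  rw [h3, mul_comm]; exact h1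

/-- Index of an intersection of subgroups whose indices are powers of distinct primes. -/
theorem index_iInf_finset (Hc : ℕ → Subgroup G) (v : ℕ → ℕ) (hHc : ∀ q : ℕ, q.Prime → (Hc q).index = q ^ v q)
    (T : Finset ℕ) (hT : ∀ q ∈ T, q.Prime) : (⨅ q ∈ T, Hc q).index = ∏ q ∈ T, q ^ v q := by
  classical
  induction T using Finset.induction_on with
  | empty => simp
  | insert r T hr ih =>
    rw [Finset.iInf_insert, Finset.prod_insert hr]
    have hrp : r.Prime := hT r (Finset.mem_insert_self r T)
    have ih' := ih (fun q hq => hT q (Finset.mem_insert_of_mem hq))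
    have hcop : (Hc r).index.Coprime (⨅ q ∈ T, Hc q).index := by
      rw [hHc r hrp, ih']
      apply Nat.Coprime.prod_right
      intro q hq
      have hqp : q.Prime := hT q (Finset.mem_insert_of_mem hq)
      have hne : r ≠ q := fun h => hr (h ▸ hq)
      exact Nat.Coprime.pow _ _ ((Nat.coprime_primes hrp hqp).2 hne)
    rw [(Cfsg.Agent.S0007.result (Hc r) (⨅ q ∈ T, Hc q) hcop).1, hHc r hrp, ih']

end

/-- A finite solvable group admits a Sylow system: Sylow subgroups, one for each prime, that pairwise permute as sets. -/
theorem result {G : Type*} [Group G] [Finite G] [Group.IsSolvable G] :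
    ∃ S : (p : Nat.Primes) → Sylow (p : ℕ) G,
      ∀ p q : Nat.Primes, (S p : Set G) * (S q : Set G) = (S q : Set G) * (S p : Set G) := by
  classical
  set N := Nat.card G with hNdef
  have hN : N ≠ 0 := Nat.card_pos.ne'
  set v : ℕ → ℕ := fun q => N.factorization q with hv
  have hex : ∀ q : ℕ, ∃ H : Subgroup G, q.Prime → H.index = q ^ v q := by
    intro q
    by_cases hq : q.Prime
    · obtain ⟨H, hH⟩ := exists_pComplement (G := G) q hq
      exact ⟨H, fun _ => hH⟩
    · exact ⟨⊤, fun h => absurd h hq⟩
  choose Hc hHc using hex
  set P : Finset ℕ := N.primeFactors with hP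
  have hPprime : ∀ q ∈ P, q.Prime := fun q hq => Nat.prime_of_mem_primeFactors hq
  have hprod : ∏ q ∈ P, q ^ v q = N := by
    have := Nat.prod_factorization_pow_eq_self hN
    rw [Finsupp.prod, Nat.support_factorization] at this
    exact this
  -- the candidate Sylow subgroups
  set T : ℕ → Subgroup G := fun p => ⨅ q ∈ P.erase p, Hc q with hT
  have hidxT : ∀ p : ℕ, (T p).index = ∏ q ∈ P.erase p, q ^ v q := by
    intro p
    exact index_iInf_finset Hc v hHc (P.erase p) (fun q hq => hPprime q (Finset.mem_of_mem_erase hq))
  have hcardT : ∀ p : ℕ, p.Prime → Nat.card (T p) = p ^ v p := by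
    intro p hp
    have h1 := Subgroup.index_mul_card (T p)
    rw [hidxT p, ← hNdef] at h1
    by_cases hpP : p ∈ P
    · have h2 : p ^ v p * ∏ q ∈ P.erase p, q ^ v q = N := by
        rw [Finset.mul_prod_erase P (fun q => q ^ v q) hpP, hprod]
      have hpos : 0 < ∏ q ∈ P.erase p, q ^ v q := by
        apply Finset.prod_pos
        intro q hq
        exact pow_pos (hPprime q (Finset.mem_of_mem_erase hq)).pos _
      apply Nat.eq_of_mul_eq_mul_left hpos
      rw [h1, ← h2]; ring
    · have h2 : P.erase p = P := Finset.erase_eq_of_notMem hpP
      rw [h2, hprod] at h1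
      have h3 : v p = 0 := by
        show N.factorization p = 0
        rw [← Finsupp.notMem_support_iff, Nat.support_factorization]
        exact hpP
      rw [h3, pow_zero]
      have hpos : 0 < N := Nat.pos_of_ne_zero hN
      apply Nat.eq_of_mul_eq_mul_left hpos
      rw [h1, mul_one]
  set S : (p : Nat.Primes) → Sylow (p : ℕ) G := fun p =>
    haveI : Fact (p : ℕ).Prime := ⟨p.2⟩
    Sylow.ofCard (T p) (hcardT p p.2) with hS
  have hScoe : ∀ p : Nat.Primes, ((S p : Sylow (p : ℕ) G) : Subgroup G) = T p := by
    intro p
    haveI : Fact (p : ℕ).Prime := ⟨p.2⟩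
    exact Sylow.coe_ofCard (T p) (hcardT p p.2)
  -- key: for p ≠ q, every element of T_{pq} is a product
  have hkey : ∀ p q : ℕ, p.Prime → q.Prime → p ≠ q →
      ((T p : Subgroup G) : Set G) * ((T q : Subgroup G) : Set G) =
        ((⨅ r ∈ (P.erase p).erase q, Hc r : Subgroup G) : Set G) := by
    intro p q hp hq hpq
    set U : Subgroup G := ⨅ r ∈ (P.erase p).erase q, Hc r with hU
    have hTpU : T p ≤ U := by
      apply le_iInf₂
      intro r hr
      exact iInf₂_le r (Finset.mem_of_mem_erase hr)
    have hTqU : T q ≤ U := by
      apply le_iInf₂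
      intro r hr
      refine iInf₂_le r ?_
      rw [Finset.mem_erase] at hr ⊢
      exact ⟨hr.1, (Finset.mem_erase.1 hr.2).2⟩
    apply Set.Subset.antisymm
    · rintro _ ⟨x, hx, y, hy, rfl⟩
      exact U.mul_mem (hTpU hx) (hTqU hy)
    · intro u hu
      -- use coprime indices inside U
      have hcardU : Nat.card U * ∏ r ∈ (P.erase p).erase q, r ^ v r = N := by
        have h1 := Subgroup.index_mul_card U
        rw [hU, index_iInf_finset Hc v hHc _ (fun r hr =>
          hPprime r (Finset.mem_of_mem_erase (Finset.mem_of_mem_erase hr)))] at h1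
        rw [mul_comm]; exact h1
      have hrel : ∀ X : Subgroup G, X ≤ U → (X.subgroupOf U).index * Nat.card X = Nat.card U := by
        intro X hX
        have h1 := Subgroup.relIndex_mul_relIndex ⊥ X U bot_le hX
        rw [Subgroup.relIndex_bot_left, Subgroup.relIndex_bot_left] at h1
        rw [mul_comm]; exact h1
      have hcop : ((T p).subgroupOf U).index.Coprime ((T q).subgroupOf U).index := by
        -- the product of the two indices times p^v q^v ... use that the indices divide card U
        -- card U = p^vp * q^vq * (unit) ; simpler: index_p * p^vp = card U = index_q * q^vq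
        have h1 := hrel (T p) hTpU
        have h2 := hrel (T q) hTqU
        rw [hcardT p hp] at h1
        rw [hcardT q hq] at h2
        -- card U divides p^vp * q^vq
        have h3 : Nat.card U ∣ p ^ v p * q ^ v q := by
          by_cases hpP : p ∈ P
          · by_cases hqP : q ∈ P
            · have hqP' : q ∈ P.erase p := Finset.mem_erase.2 ⟨hpq.symm, hqP⟩
              have e1 : p ^ v p * (q ^ v q * ∏ r ∈ (P.erase p).erase q, r ^ v r) = N := by
                rw [Finset.mul_prod_erase (P.erase p) (fun r => r ^ v r) hqP',
                  Finset.mul_prod_erase P (fun r => r ^ v r) hpP, hprod]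
              have hpos : 0 < ∏ r ∈ (P.erase p).erase q, r ^ v r := by
                apply Finset.prod_pos
                intro r hr
                exact pow_pos (hPprime r (Finset.mem_of_mem_erase (Finset.mem_of_mem_erase hr))).pos _
              have : Nat.card U = p ^ v p * q ^ v q := by
                apply Nat.eq_of_mul_eq_mul_right hpos
                rw [hcardU, ← e1]; ring
              rw [this]
            · have e0 : (P.erase p).erase q = P.erase p :=
                Finset.erase_eq_of_notMem (fun h => hqP (Finset.mem_of_mem_erase h))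
              have e1 : p ^ v p * ∏ r ∈ (P.erase p).erase q, r ^ v r = N := by
                rw [e0, Finset.mul_prod_erase P (fun r => r ^ v r) hpP, hprod]
              have hpos : 0 < ∏ r ∈ (P.erase p).erase q, r ^ v r := by
                apply Finset.prod_pos
                intro r hr
                exact pow_pos (hPprime r (Finset.mem_of_mem_erase (Finset.mem_of_mem_erase hr))).pos _
              have : Nat.card U = p ^ v p := by
                apply Nat.eq_of_mul_eq_mul_right hpos
                rw [hcardU, ← e1]
              rw [this]; exact dvd_mul_right _ _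
          · have e0 : P.erase p = P := Finset.erase_eq_of_notMem hpP
            by_cases hqP : q ∈ P
            · have e1 : q ^ v q * ∏ r ∈ (P.erase p).erase q, r ^ v r = N := by
                rw [e0, Finset.mul_prod_erase P (fun r => r ^ v r) hqP, hprod]
              have hpos : 0 < ∏ r ∈ (P.erase p).erase q, r ^ v r := by
                apply Finset.prod_pos
                intro r hr
                exact pow_pos (hPprime r (Finset.mem_of_mem_erase (Finset.mem_of_mem_erase hr))).pos _
              have : Nat.card U = q ^ v q := by
                apply Nat.eq_of_mul_eq_mul_right hpos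
                rw [hcardU, ← e1]
              rw [this]; exact dvd_mul_left _ _
            · have e1 : (P.erase p).erase q = P := by
                rw [e0]; exact Finset.erase_eq_of_notMem hqP
              have : Nat.card U = 1 := by
                rw [e1, hprod] at hcardU
                have hpos : 0 < N := Nat.pos_of_ne_zero hN
                apply Nat.eq_of_mul_eq_mul_right hpos
                rw [hcardU, one_mul]
              rw [this]; exact one_dvd _
        -- index_p divides q^vq and index_q divides p^vp
        have hpp : 0 < p ^ v p := pow_pos hp.pos _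
        have hqq : 0 < q ^ v q := pow_pos hq.pos _
        have h4 : ((T p).subgroupOf U).index ∣ q ^ v q := by
          have : ((T p).subgroupOf U).index * p ^ v p ∣ q ^ v q * p ^ v p := by
            rw [h1, mul_comm]; exact h3
          exact (Nat.mul_dvd_mul_iff_right hpp).1 this
        have h5 : ((T q).subgroupOf U).index ∣ p ^ v p := by
          have : ((T q).subgroupOf U).index * q ^ v q ∣ p ^ v p * q ^ v q := by
            rw [h2]; exact h3
          exact (Nat.mul_dvd_mul_iff_right hqq).1 this
        have h6 : (q ^ v q).Coprime (p ^ v p) :=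
          Nat.Coprime.pow _ _ ((Nat.coprime_primes hq hp).2 hpq.symm)
        exact Nat.Coprime.coprime_dvd_left h4 (Nat.Coprime.coprime_dvd_right h5 h6)
      obtain ⟨x, hx, y, hy, hxy⟩ :=
        (Cfsg.Agent.S0007.result ((T p).subgroupOf U) ((T q).subgroupOf U) hcop).2 ⟨u, hu⟩
      refine ⟨(x : G), Subgroup.mem_subgroupOf.1 hx, (y : G), Subgroup.mem_subgroupOf.1 hy, ?_⟩
      have := congrArg Subtype.val hxy
      simpa using this.symm
  refine ⟨S, fun p q => ?_⟩
  by_cases hpq : (p : ℕ) = (q : ℕ)
  · have : p = q := Subtype.ext hpq
    subst this; rfl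
  · show ((S p : Subgroup G) : Set G) * ((S q : Subgroup G) : Set G) =
      ((S q : Subgroup G) : Set G) * ((S p : Subgroup G) : Set G)
    rw [hScoe p, hScoe q, hkey p q p.2 q.2 hpq, hkey q p q.2 p.2 (Ne.symm hpq),
      Finset.erase_right_comm]

end Cfsg.Agent.S0020
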