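import Cfsg.Statements.S0021
import Cfsg.Agent.Lib.Helper4.HallConv

set_option autoImplicit false
open Pointwise
open Cfsg

namespace Cfsg.Agent.S0021


theorem coe_sup_of_perm {G : Type*} [Group G] (A B : Subgroup G)
    (h : (A : Set G) * (B : Set G) = (B : Set G) * (A : Set G)) :
    ((A ⊔ B : Subgroup G) : Set G) = (A : Set G) * (B : Set G) := by
  let T : Subgroup G :=
    { carrier := (A : Set G) * (B : Set G)
      one_mem' := ⟨1, A.one_mem, 1, B.one_mem, by simp⟩
      mul_mem' := by
        rintro _ _ ⟨a, ha, b, hb, rfl⟩ ⟨a', ha', b', hb', rfl⟩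
        have h1 : b * a' ∈ (B : Set G) * (A : Set G) := ⟨b, hb, a', ha', rfl⟩
        rw [← h] at h1
        obtain ⟨a'', ha'', b'', hb'', h2⟩ := h1
        refine ⟨a * a'', A.mul_mem ha ha'', b'' * b', B.mul_mem hb'' hb', ?_⟩
        simp only at h2 ⊢
        calc a * a'' * (b'' * b') = a * (a'' * b'') * b' := by group
          _ = a * (b * a') * b' := by rw [h2]
          _ = a * b * (a' * b') := by group
      inv_mem' := by
        rintro _ ⟨a, ha, b, hb, rfl⟩
        have h1 : b⁻¹ * a⁻¹ ∈ (B : Set G) * (A : Set G) :=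
          ⟨b⁻¹, B.inv_mem hb, a⁻¹, A.inv_mem ha, rfl⟩
        rw [← h] at h1
        simpa using h1 }
  apply Set.Subset.antisymm
  · have hle : A ⊔ B ≤ T := by
      apply sup_le
      · intro a ha
        exact ⟨a, ha, 1, B.one_mem, by simp⟩
      · intro b hb
        exact ⟨1, A.one_mem, b, hb, by simp⟩
    exact hle
  · rintro _ ⟨a, ha, b, hb, rfl⟩
    exact Subgroup.mul_mem_sup ha hb

theorem card_sup_le_of_perm {G : Type*} [Group G] [Finite G] (A B : Subgroup G)
    (h : (A : Set G) * (B : Set G) = (B : Set G) * (A : Set G)) :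
    Nat.card (A ⊔ B : Subgroup G) ≤ Nat.card A * Nat.card B := by
  rw [← Nat.card_prod]
  let f : A × B → (A ⊔ B : Subgroup G) := fun x => ⟨x.1 * x.2, Subgroup.mul_mem_sup x.1.2 x.2.2⟩
  apply Nat.card_le_card_of_surjective f
  rintro ⟨g, hg⟩
  have hg' : g ∈ ((A ⊔ B : Subgroup G) : Set G) := hg
  rw [coe_sup_of_perm A B h] at hg'
  obtain ⟨a, ha, b, hb, rfl⟩ := hg'
  exact ⟨(⟨a, ha⟩, ⟨b, hb⟩), rfl⟩

theorem sup_family {G : Type*} [Group G] [Finite G] {ι : Type*} [DecidableEq ι] (S : ι → Subgroup G)
    (hS : ∀ p q : ι, (S p : Set G) * (S q : Set G) = (S q : Set G) * (S p : Set G))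
    (s : Finset ι) :
    (∀ r : ι, ((⨆ q ∈ s, S q : Subgroup G) : Set G) * (S r : Set G) =
      (S r : Set G) * ((⨆ q ∈ s, S q : Subgroup G) : Set G)) ∧
    Nat.card (⨆ q ∈ s, S q : Subgroup G) ≤ ∏ q ∈ s, Nat.card (S q) := by
  induction s using Finset.induction_on with
  | empty =>
    refine ⟨fun r => ?_, ?_⟩
    · simp
    · simp
  | insert a s ha ih =>
    obtain ⟨ih1, ih2⟩ := ih
    rw [Finset.iSup_insert, Finset.prod_insert ha]
    have hperm := (ih1 a).symm
    refine ⟨fun r => ?_, ?_⟩
    · rw [coe_sup_of_perm _ _ hperm, mul_assoc, ih1 r, ← mul_assoc, hS a r, mul_assoc]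
    · exact (card_sup_le_of_perm _ _ hperm).trans (Nat.mul_le_mul_left _ ih2)

/-- A finite group with a family of pairwise permuting Sylow subgroups, one for each prime, is solvable (this direction rests on Burnside's two-prime Theorem). -/
theorem result {G : Type*} [Group G] [Finite G]
    (S : (p : Nat.Primes) → Sylow (p : ℕ) G)
    (hS : ∀ p q : Nat.Primes, (S p : Set G) * (S q : Set G) = (S q : Set G) * (S p : Set G)) :
    Group.IsSolvable G := by
  classical
  apply Cfsg.Agent.Lib.Helper4.hc_solvable _ G rfl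
  intro p hp
  have hG : Nat.card G ≠ 0 := Nat.card_pos.ne'
  set t : Finset ℕ := (Nat.card G).primeFactors.erase p with ht
  set s : Finset Nat.Primes := t.subtype Nat.Prime with hs
  set H : Subgroup G := ⨆ q ∈ s, (S q : Subgroup G) with hH
  have hfam := sup_family (fun q : Nat.Primes => (S q : Subgroup G)) hS s
  have hcardS : ∀ q : Nat.Primes, Nat.card (S q) = (q : ℕ) ^ (Nat.card G).factorization q := by
    intro q
    have : Fact (q : ℕ).Prime := ⟨q.2⟩
    exact (S q).card_eq_multiplicity
  have h2 : Nat.card H ≤ ∏ x ∈ t, x ^ (Nat.card G).factorization x := by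
    refine hfam.2.trans (le_of_eq ?_)
    rw [hs]
    have := Finset.prod_subtype_of_mem (s := t) (p := Nat.Prime)
      (fun x => x ^ (Nat.card G).factorization x)
      (fun x hx => Nat.prime_of_mem_primeFactors (Finset.mem_of_mem_erase hx))
    rw [← this]
    exact Finset.prod_congr rfl (fun q _ => hcardS q)
  have hprod : (∏ x ∈ t, x ^ (Nat.card G).factorization x) * p ^ (Nat.card G).factorization p
      = Nat.card G := by
    have hfull : Nat.card G = ∏ x ∈ (Nat.card G).primeFactors, x ^ (Nat.card G).factorization x := by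
      conv_lhs => rw [← Nat.prod_factorization_pow_eq_self hG]
      rw [Finsupp.prod, Nat.support_factorization]
    by_cases hpm : p ∈ (Nat.card G).primeFactors
    · rw [mul_comm, ht]
      exact (Finset.mul_prod_erase (Nat.card G).primeFactors
        (fun x => x ^ (Nat.card G).factorization x) hpm).trans hfull.symm
    · rw [ht, Finset.erase_eq_of_notMem hpm]
      have : (Nat.card G).factorization p = 0 := by
        rw [← Nat.support_factorization, Finsupp.notMem_support_iff] at hpm
        exact hpm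
      rw [this, pow_zero, mul_one]
      exact hfull.symm
  -- the index of H is a power of p
  have hidx : ∀ d : ℕ, d.Prime → d ∣ H.index → d = p := by
    intro d hd hdi
    by_contra hne
    have hdG : d ∣ Nat.card G := hdi.trans H.index_dvd_card
    have hdt : d ∈ t := by
      rw [ht, Finset.mem_erase, Nat.mem_primeFactors]
      exact ⟨hne, hd, hdG, hG⟩
    have hds : (⟨d, hd⟩ : Nat.Primes) ∈ s := Finset.mem_subtype.2 hdt
    have hle : (S ⟨d, hd⟩ : Subgroup G) ≤ H :=
      le_biSup (fun q : Nat.Primes => (S q : Subgroup G)) hds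
    have : Fact d.Prime := ⟨hd⟩
    have h3 := Subgroup.index_dvd_of_le hle
    exact (S ⟨d, hd⟩).not_dvd_index (hdi.trans h3)
  have hidx0 : H.index ≠ 0 := Subgroup.index_ne_zero_of_finite
  have hk := Nat.eq_prime_pow_of_unique_prime_dvd hidx0 (fun {d} hd hdi => hidx d hd hdi)
  set k := H.index.primeFactorsList.length with hkdef
  have hkle : k ≤ (Nat.card G).factorization p := by
    rw [← hp.pow_dvd_iff_le_factorization hG, ← hk]
    exact H.index_dvd_card
  have hmul := H.card_mul_index
  rw [hk] at hmul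
  set m := ∏ x ∈ t, x ^ (Nat.card G).factorization x with hm
  have hmpos : 0 < m := by
    rcases Nat.eq_zero_or_pos m with h0 | h0
    · rw [h0, zero_mul] at hprod; exact absurd hprod.symm hG
    · exact h0
  have hpow : p ^ (Nat.card G).factorization p ≤ p ^ k := by
    have h5 : m * p ^ (Nat.card G).factorization p ≤ m * p ^ k := by
      rw [hprod, ← hmul]
      exact Nat.mul_le_mul_right _ h2
    exact Nat.le_of_mul_le_mul_left h5 hmpos
  refine ⟨H, ?_⟩
  rw [hk]
  exact le_antisymm (Nat.pow_le_pow_right hp.pos hkle) hpow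

end Cfsg.Agent.S0021
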