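import Cfsg.Statements.S0030
import Cfsg.Agent.Lib.Helper4.CoprimeAct

set_option autoImplicit false
open Cfsg

namespace Cfsg.Agent.S0030

open Cfsg.Agent.Lib.Helper4

theorem fix_coset_centralizes {G : Type*} [Group G] [Finite G] (A K : Subgroup G)
    (hAK : A ≤ Subgroup.normalizer (K : Set G)) (hcop : (Nat.card A).Coprime (Nat.card K))
    (c : G) (hcK : c ∈ K) (h : ∀ a ∈ A, a • (c : G ⧸ A) = (c : G ⧸ A)) :
    c ∈ Subgroup.centralizer (A : Set G) := by
  have hle : cj c⁻¹ A ≤ A := by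
    rintro _ ⟨a, ha, rfl⟩
    have h1 := h a⁻¹ (A.inv_mem ha)
    have h2 : ((a⁻¹ * c : G) : G ⧸ A) = (c : G ⧸ A) := h1
    rw [QuotientGroup.eq] at h2
    show c⁻¹ * a * c⁻¹⁻¹ ∈ A
    have : c⁻¹ * a * c⁻¹⁻¹ = (a⁻¹ * c)⁻¹ * c := by group
    rw [this]; exact h2
  have heq : cj c⁻¹ A = A := Subgroup.eq_of_le_of_card_ge hle (by rw [card_cj'])
  have heq' : cj c A = A := by
    have := congrArg (cj c) heq
    rw [← cj_mul, mul_inv_cancel, cj_one] at this
    exact this.symm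
  exact act_centralizes A K hAK hcop hcK heq'

/-- Under coprime action fixed points of a product of two invariant subgroups factor: if K = X Y with X and Y normalised by A then every A-fixed element of K is a product of an A-fixed element of X and an A-fixed element of Y. -/
theorem result {G : Type*} [Group G] [Finite G] (A K : Subgroup G) (hAK : A ≤ Subgroup.normalizer (K : Set G))
    (hcop : (Nat.card A).Coprime (Nat.card K)) (hsolv : Group.IsSolvable A ∨ Group.IsSolvable K)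
    (X Y : Subgroup G) (hX : X ≤ K) (hY : Y ≤ K) (hXA : A ≤ Subgroup.normalizer (X : Set G)) (hYA : A ≤ Subgroup.normalizer (Y : Set G))
    (hXY : ∀ k ∈ K, ∃ x ∈ X, ∃ y ∈ Y, k = x * y) (k : G) (hk : k ∈ K ⊓ Subgroup.centralizer (A : Set G)) :
    ∃ x ∈ X ⊓ Subgroup.centralizer (A : Set G), ∃ y ∈ Y ⊓ Subgroup.centralizer (A : Set G), k = x * y := by
  obtain ⟨x, hx, y, hy, hkxy⟩ := hXY k hk.1
  have hkA : ∀ a ∈ A, a * k = k * a := fun a ha => ((Subgroup.mem_centralizer_iff.1 hk.2) a ha)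
  set D : Subgroup G := X ⊓ Y with hD
  have hDK : D ≤ K := inf_le_left.trans hX
  have hAD : A ≤ Subgroup.normalizer (D : Set G) := by
    intro a ha
    rw [Subgroup.mem_normalizer_iff_map_conj_eq]
    show cj a D = D
    rw [hD, cj_inf, cj_eq_of_mem_normalizer (hXA ha), cj_eq_of_mem_normalizer (hYA ha)]
  have hcardD : Nat.card D ∣ Nat.card K := Subgroup.card_dvd_of_le hDK
  have hcop' : (Nat.card A).Coprime (Nat.card D) := Nat.Coprime.coprime_dvd_right hcardD hcop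
  have hsolv' : Group.IsSolvable A ∨ Group.IsSolvable D := by
    rcases hsolv with hs | hs
    · exact Or.inl hs
    · right
      exact Group.isSolvable_of_isSolvable_injective
        (f := Subgroup.inclusion hDK) (Subgroup.inclusion_injective _)
  set u₀ : G := x⁻¹ with hu₀
  have hu₀X : u₀ ∈ X := X.inv_mem hx
  have hu₀k : u₀ * k = y := by rw [hu₀, hkxy]; group
  set ω₀ : G ⧸ A := (u₀ : G ⧸ A) with hω₀
  have h : ∀ a ∈ A, ∃ d ∈ D, a • ω₀ = d • ω₀ := by
    intro a ha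
    have hdX : a * u₀ * a⁻¹ * u₀⁻¹ ∈ X :=
      X.mul_mem ((Subgroup.mem_normalizer_iff.1 (hXA ha) u₀).1 hu₀X) (X.inv_mem hu₀X)
    have hdY : a * u₀ * a⁻¹ * u₀⁻¹ ∈ Y := by
      have h1 : a * y * a⁻¹ ∈ Y := (Subgroup.mem_normalizer_iff.1 (hYA ha) y).1 hy
      have h2 : a * u₀ * a⁻¹ * u₀⁻¹ = (a * y * a⁻¹) * y⁻¹ := by
        rw [← hu₀k]
        have e1 : a * (u₀ * k) * a⁻¹ = a * u₀ * (k * a⁻¹) := by group
        have e2 : k * a⁻¹ = a⁻¹ * k := by
          have := hkA a ha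
          have h3 : a⁻¹ * (a * k) * a⁻¹ = a⁻¹ * (k * a) * a⁻¹ := by rw [this]
          have h4 : a⁻¹ * (a * k) * a⁻¹ = k * a⁻¹ := by group
          have h5 : a⁻¹ * (k * a) * a⁻¹ = a⁻¹ * k := by group
          rw [← h4, h3, h5]
        rw [e1, e2]; group
      rw [h2]; exact Y.mul_mem h1 (Y.inv_mem hy)
    refine ⟨a * u₀ * a⁻¹ * u₀⁻¹, ⟨hdX, hdY⟩, ?_⟩
    show ((a * u₀ : G) : G ⧸ A) = ((a * u₀ * a⁻¹ * u₀⁻¹ * u₀ : G) : G ⧸ A)
    rw [QuotientGroup.eq]
    have : (a * u₀)⁻¹ * (a * u₀ * a⁻¹ * u₀⁻¹ * u₀) = a⁻¹ := by group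
    rw [this]; exact A.inv_mem ha
  obtain ⟨d, hd, hfix⟩ := glauberman_fix A D hAD hcop' hsolv' ω₀ h
  set u : G := d * u₀ with hu
  have huX : u ∈ X := X.mul_mem hd.1 hu₀X
  have huC : u ∈ Subgroup.centralizer (A : Set G) :=
    fix_coset_centralizes A K hAK hcop u (hX huX) hfix
  have hyY : u * k ∈ Y := by
    have : u * k = d * (u₀ * k) := by rw [hu]; group
    rw [this, hu₀k]; exact Y.mul_mem hd.2 hy
  refine ⟨u⁻¹, ⟨X.inv_mem huX, Subgroup.inv_mem _ huC⟩, u * k,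
    ⟨hyY, Subgroup.mul_mem _ huC hk.2⟩, by group⟩

end Cfsg.Agent.S0030
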