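import Cfsg.Statements.S0032
import Mathlib

set_option autoImplicit false
open Cfsg

namespace Cfsg.Agent.S0032

theorem psi_injective {G : Type*} [Group G] (φ : G ≃* G)
    (hφ : MonoidHom.FixedPointFree (φ : G →* G)) {a b : G}
    (h : (φ a)⁻¹ * a = (φ b)⁻¹ * b) : a = b := by
  have h1 : φ (b * a⁻¹) = b * a⁻¹ := by
    rw [map_mul, map_inv]
    calc φ b * (φ a)⁻¹ = φ b * ((φ a)⁻¹ * a) * a⁻¹ := by group
      _ = φ b * ((φ b)⁻¹ * b) * a⁻¹ := by rw [h]
      _ = b * a⁻¹ := by group
  have h2 := hφ (b * a⁻¹) h1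
  have : b = a := by
    have := mul_inv_eq_one.1 h2
    exact this
  exact this.symm

theorem psi_surjective {G : Type*} [Group G] [Finite G] (φ : G ≃* G)
    (hφ : MonoidHom.FixedPointFree (φ : G →* G)) (g : G) : ∃ x : G, (φ x)⁻¹ * x = g := by
  have hinj : Function.Injective (fun x : G => (φ x)⁻¹ * x) := fun a b h => psi_injective φ hφ h
  exact Finite.surjective_of_injective hinj g


/-- If an automorphism of a finite group fixes only the identity and maps a normal subgroup N into itself, then the only cosets of N it fixes are those in N: a fixed coset xN forces x ∈ N. -/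
theorem result {G : Type*} [Group G] [Finite G] (φ : G ≃* G)
    (hφ : MonoidHom.FixedPointFree (φ : G →* G)) (N : Subgroup G) [N.Normal] (hN : ∀ n ∈ N, φ n ∈ N)
    (x : G) (hx : (φ x)⁻¹ * x ∈ N) : x ∈ N := by
  let ψ : N → N := fun n => ⟨(φ n.1)⁻¹ * n.1, N.mul_mem (N.inv_mem (hN n.1 n.2)) n.2⟩
  have hinj : Function.Injective ψ := by
    intro a b h
    apply Subtype.ext
    exact psi_injective φ hφ (congrArg Subtype.val h)
  obtain ⟨n, hn⟩ := Finite.surjective_of_injective hinj ⟨(φ x)⁻¹ * x, hx⟩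
  have h1 : (φ n.1)⁻¹ * n.1 = (φ x)⁻¹ * x := congrArg Subtype.val hn
  have := psi_injective φ hφ h1
  rw [← this]
  exact n.2

end Cfsg.Agent.S0032
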