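import Cfsg.Statements.S0031
import Mathlib
import Cfsg.Agent.S0032
import Cfsg.Agent.Lib.Helper1.SylowConj

set_option autoImplicit false
open Cfsg

namespace Cfsg.Agent.S0031

open Cfsg.Agent.Lib.Helper1

/-- A fixed-point-free automorphism of a finite group maps some Sylow p-subgroup to itself. -/
theorem result {G : Type*} [Group G] [Finite G] (φ : G ≃* G)
    (hφ : MonoidHom.FixedPointFree (φ : G →* G)) (p : ℕ) [Fact p.Prime] :
    ∃ P : Sylow p G, (P : Subgroup G).map (φ : G →* G) = P := by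
  obtain ⟨P⟩ : Nonempty (Sylow p G) := inferInstance
  have hs : Function.Surjective ((φ : G →* G)) := φ.surjective
  obtain ⟨g, hg⟩ := MulAction.exists_smul_eq G P (P.mapSurjective hs)
  obtain ⟨x, hx⟩ := Cfsg.Agent.S0032.psi_surjective φ hφ g
  refine ⟨x • P, ?_⟩
  have hle : ((x • P : Sylow p G) : Subgroup G).map (φ : G →* G) ≤ (x • P : Sylow p G) := by
    rintro _ ⟨y, hy, rfl⟩
    have hy' : y ∈ (x • P : Sylow p G) := hy
    rw [mem_sylow_smul_iff] at hy'
    have h1 : φ (x⁻¹ * y * x) ∈ (P.mapSurjective hs : Sylow p G) := by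
      show φ (x⁻¹ * y * x) ∈ ((P.mapSurjective hs : Sylow p G) : Subgroup G)
      rw [Sylow.coe_mapSurjective]
      exact Subgroup.mem_map_of_mem _ hy'
    rw [← hg, mem_sylow_smul_iff] at h1
    show φ y ∈ (x • P : Sylow p G)
    rw [mem_sylow_smul_iff]
    have e : x⁻¹ * φ y * x = g⁻¹ * φ (x⁻¹ * y * x) * g := by
      rw [← hx, map_mul, map_mul, map_inv]
      group
    rw [e]
    exact h1
  apply Subgroup.eq_of_le_of_card_ge hle
  rw [Subgroup.card_map_of_injective]
  exact φ.injective

end Cfsg.Agent.S0031
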