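import Cfsg.Statements.S0034
import Mathlib
import Cfsg.Agent.S0035
import Cfsg.Agent.Lib.Helper2.FrobCount

set_option autoImplicit false
open Cfsg

namespace Cfsg.Agent.S0034

/-- For a Frobenius complement H, the set of elements lying in no conjugate of H, together with 1, has exactly as many elements as the index of H, and that index is congruent to 1 modulo the order of H. -/
theorem result {G : Type*} [Group G] [Finite G] (H : Subgroup G) (hH : Cfsg.IsFrobeniusComplement H) :
    Nat.card (Cfsg.frobeniusKernel H) = H.index ∧ H.index % Nat.card H = 1 % Nat.card H := by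
  obtain ⟨N, hN, -, hc⟩ := Cfsg.Agent.S0035.result H hH
  constructor
  · have h1 : Nat.card (Cfsg.frobeniusKernel H) = Nat.card N := by
      rw [← hN]
      rfl
    rw [h1]
    have h2 := hc.card_mul_card
    have h3 := Subgroup.index_mul_card H
    have hpos : 0 < Nat.card H := Nat.card_pos
    have : Nat.card N * Nat.card H = H.index * Nat.card H := by rw [h2, h3]
    exact Nat.eq_of_mul_eq_mul_right hpos this
  · have h := Cfsg.Agent.Lib.Helper2.frob_index_modEq H hH
    rw [← Subgroup.index_eq_card] at h
    exact h

end Cfsg.Agent.S0034
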