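import Cfsg.Statements.S0047
import Mathlib

set_option autoImplicit false
open Cfsg

namespace Cfsg.Agent.S0047

section
variable {G : Type*} [Group G]

/-- the commutator `a b a⁻¹ b⁻¹` -/
def cm (a b : G) : G := a * b * a⁻¹ * b⁻¹

theorem cm_conj (g a b : G) : g * cm a b * g⁻¹ = cm (g * a * g⁻¹) (g * b * g⁻¹) := by
  unfold cm; group

theorem cm_right (a v u : G) (h : a * u = u * a) : cm a (v * u) = cm a v := by
  unfold cm
  have e : u * a⁻¹ * u⁻¹ = a⁻¹ := by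
    have : u * a⁻¹ = a⁻¹ * u := by
      have h2 : a⁻¹ * (a * u) * a⁻¹ = a⁻¹ * (u * a) * a⁻¹ := by rw [h]
      have h3 : a⁻¹ * (a * u) * a⁻¹ = u * a⁻¹ := by group
      have h4 : a⁻¹ * (u * a) * a⁻¹ = a⁻¹ * u := by group
      rw [← h3, h2, h4]
    rw [this]; group
  calc a * (v * u) * a⁻¹ * (v * u)⁻¹ = a * v * (u * a⁻¹ * u⁻¹) * v⁻¹ := by group
    _ = a * v * a⁻¹ * v⁻¹ := by rw [e]

theorem cm_left (u v b : G) (h : v * b = b * v) : cm (u * v) b = cm u b := by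
  unfold cm
  have e : v * b * v⁻¹ = b := by rw [h]; group
  calc u * v * b * (u * v)⁻¹ * b⁻¹ = u * (v * b * v⁻¹) * u⁻¹ * b⁻¹ := by group
    _ = u * b * u⁻¹ * b⁻¹ := by rw [e]

theorem cm_inv (a b : G) : (cm a b)⁻¹ = cm b a := by unfold cm; group

end

/-- A finite group which is the product AB of two abelian subgroups A and B is solvable. -/
theorem result {G : Type*} [Group G] [Finite G] (A B : Subgroup G)
    [IsMulCommutative A] [IsMulCommutative B] (hAB : ∀ g : G, ∃ a ∈ A, ∃ b ∈ B, g = a * b) :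
    Group.IsSolvable G := by
  classical
  have hA : ∀ a ∈ A, ∀ a' ∈ A, a * a' = a' * a := by
    intro a ha a' ha'
    have := (inferInstance : IsMulCommutative A).is_comm.comm ⟨a, ha⟩ ⟨a', ha'⟩
    exact congrArg Subtype.val this
  have hB : ∀ b ∈ B, ∀ b' ∈ B, b * b' = b' * b := by
    intro b hb b' hb'
    have := (inferInstance : IsMulCommutative B).is_comm.comm ⟨b, hb⟩ ⟨b', hb'⟩
    exact congrArg Subtype.val this
  have hBA : ∀ g : G, ∃ b ∈ B, ∃ a ∈ A, g = b * a := by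
    intro g
    obtain ⟨a, ha, b, hb, h⟩ := hAB g⁻¹
    refine ⟨b⁻¹, inv_mem hb, a⁻¹, inv_mem ha, ?_⟩
    rw [← mul_inv_rev, ← h, inv_inv]
  -- conjugation by elements of A
  have hconjA : ∀ x ∈ A, ∀ a ∈ A, ∀ b ∈ B, ∃ b₃ ∈ B, ∃ a₃ ∈ A, x * b * x⁻¹ = b₃ * a₃ ∧
      x * cm a b * x⁻¹ = cm a b₃ := by
    intro x hx a ha b hb
    obtain ⟨b₃, hb₃, a₃, ha₃, h⟩ := hBA (x * b * x⁻¹)
    refine ⟨b₃, hb₃, a₃, ha₃, h, ?_⟩
    rw [cm_conj, h]
    have : x * a * x⁻¹ = a := by rw [hA x hx a ha]; group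
    rw [this]
    exact cm_right a b₃ a₃ (hA a ha a₃ ha₃)
  have hconjB : ∀ y ∈ B, ∀ a ∈ A, ∀ b ∈ B, ∃ a₄ ∈ A, ∃ b₄ ∈ B, y * a * y⁻¹ = a₄ * b₄ ∧
      y * cm a b * y⁻¹ = cm a₄ b := by
    intro y hy a ha b hb
    obtain ⟨a₄, ha₄, b₄, hb₄, h⟩ := hAB (y * a * y⁻¹)
    refine ⟨a₄, ha₄, b₄, hb₄, h, ?_⟩
    rw [cm_conj, h]
    have : y * b * y⁻¹ = b := by rw [hB y hy b hb]; group
    rw [this]
    exact cm_left a₄ b₄ b (hB b₄ hb₄ b hb)
  -- the key commutation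
  have hkey : ∀ x ∈ A, ∀ y ∈ B, ∀ a ∈ A, ∀ b ∈ B,
      (y * x) * cm a b * (y * x)⁻¹ = (x * y) * cm a b * (x * y)⁻¹ := by
    intro x hx y hy a ha b hb
    obtain ⟨b₃, hb₃, a₃, ha₃, h3, h3'⟩ := hconjA x hx a ha b hb
    obtain ⟨a₄, ha₄, b₄, hb₄, h4, h4'⟩ := hconjB y hy a ha b hb
    have e1 : (y * x) * cm a b * (y * x)⁻¹ = y * (x * cm a b * x⁻¹) * y⁻¹ := by group
    have e2 : (x * y) * cm a b * (x * y)⁻¹ = x * (y * cm a b * y⁻¹) * x⁻¹ := by group
    rw [e1, e2, h3', h4', cm_conj, cm_conj, h4, h3]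
    have f1 : y * b₃ * y⁻¹ = b₃ := by rw [hB y hy b₃ hb₃]; group
    have f2 : x * a₄ * x⁻¹ = a₄ := by rw [hA x hx a₄ ha₄]; group
    rw [f1, f2, cm_left a₄ b₄ b₃ (hB b₄ hb₄ b₃ hb₃), cm_right a₄ b₃ a₃ (hA a₄ ha₄ a₃ ha₃)]
  have hcomm : ∀ x ∈ A, ∀ y ∈ B, ∀ a ∈ A, ∀ b ∈ B, cm y x * cm a b = cm a b * cm y x := by
    intro x hx y hy a ha b hb
    have h := hkey x⁻¹ (inv_mem hx) y⁻¹ (inv_mem hy) a ha b hb
    have e : cm y x = (x⁻¹ * y⁻¹)⁻¹ * (y⁻¹ * x⁻¹) := by unfold cm; group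
    rw [e]
    have h' : (x⁻¹ * y⁻¹)⁻¹ * ((y⁻¹ * x⁻¹) * cm a b * (y⁻¹ * x⁻¹)⁻¹) * (x⁻¹ * y⁻¹) = cm a b := by
      rw [h]; group
    calc (x⁻¹ * y⁻¹)⁻¹ * (y⁻¹ * x⁻¹) * cm a b
        = ((x⁻¹ * y⁻¹)⁻¹ * ((y⁻¹ * x⁻¹) * cm a b * (y⁻¹ * x⁻¹)⁻¹) * (x⁻¹ * y⁻¹)) *
          ((x⁻¹ * y⁻¹)⁻¹ * (y⁻¹ * x⁻¹)) := by group
      _ = cm a b * ((x⁻¹ * y⁻¹)⁻¹ * (y⁻¹ * x⁻¹)) := by rw [h']
  -- the set of commutators and the subgroup it generates
  set C : Set G := {g | ∃ a ∈ A, ∃ b ∈ B, g = cm a b} with hC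
  set N : Subgroup G := Subgroup.closure C with hN
  have hCconj : ∀ g : G, ∀ c ∈ C, g * c * g⁻¹ ∈ C := by
    intro g c hc
    obtain ⟨a, ha, b, hb, rfl⟩ := hc
    obtain ⟨x, hx, y, hy, rfl⟩ := hAB g
    obtain ⟨a₄, ha₄, b₄, hb₄, h4, h4'⟩ := hconjB y hy a ha b hb
    obtain ⟨b₃, hb₃, a₃, ha₃, h3, h3'⟩ := hconjA x hx a₄ ha₄ b hb
    refine ⟨a₄, ha₄, b₃, hb₃, ?_⟩
    have e : (x * y) * cm a b * (x * y)⁻¹ = x * (y * cm a b * y⁻¹) * x⁻¹ := by group
    rw [e, h4', h3']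
  have hNn : N.Normal := by
    refine ⟨fun n hn g => ?_⟩
    induction hn using Subgroup.closure_induction with
    | mem c hc => exact Subgroup.subset_closure (hCconj g c hc)
    | one => simp
    | mul u v _ _ hu hv =>
      have : g * (u * v) * g⁻¹ = (g * u * g⁻¹) * (g * v * g⁻¹) := by group
      rw [this]; exact N.mul_mem hu hv
    | inv u _ hu =>
      have : g * u⁻¹ * g⁻¹ = (g * u * g⁻¹)⁻¹ := by group
      rw [this]; exact N.inv_mem hu
  have hCC : ∀ c ∈ C, ∀ d ∈ C, c * d = d * c := by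
    intro c hc d hd
    obtain ⟨x, hx, y, hy, rfl⟩ := hc
    obtain ⟨a, ha, b, hb, rfl⟩ := hd
    have h := hcomm x hx y hy a ha b hb
    -- cm x y = (cm y x)⁻¹
    rw [← cm_inv y x]
    have : (cm y x)⁻¹ * cm a b = (cm y x)⁻¹ * (cm a b * cm y x) * (cm y x)⁻¹ := by group
    rw [this, ← h]; group
  have hNcomm : N ≤ Subgroup.centralizer (N : Set G) := by
    rw [hN, Subgroup.closure_le]
    intro c hc
    rw [SetLike.mem_coe, Subgroup.mem_centralizer_iff]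
    intro n hn
    have hle : Subgroup.closure C ≤ Subgroup.centralizer {c} := by
      rw [Subgroup.closure_le]
      intro d hd
      rw [SetLike.mem_coe, Subgroup.mem_centralizer_iff]
      intro e he
      rw [Set.mem_singleton_iff] at he
      rw [he]
      exact hCC c hc d hd
    have := hle hn
    rw [Subgroup.mem_centralizer_iff] at this
    exact (this c rfl).symm
  -- G' ≤ N
  have hG' : ⁅(⊤ : Subgroup G), (⊤ : Subgroup G)⁆ ≤ N := by
    rw [Subgroup.commutator_le]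
    intro g₁ _ g₂ _
    have hq : ∀ a ∈ A, ∀ b ∈ B, (QuotientGroup.mk' N a) * (QuotientGroup.mk' N b) =
        (QuotientGroup.mk' N b) * (QuotientGroup.mk' N a) := by
      intro a ha b hb
      have : cm a b ∈ N := Subgroup.subset_closure ⟨a, ha, b, hb, rfl⟩
      have h1 : QuotientGroup.mk' N (cm a b) = 1 := (QuotientGroup.eq_one_iff _).2 this
      unfold cm at h1
      simp only [map_mul, map_inv] at h1
      have : (QuotientGroup.mk' N a) * (QuotientGroup.mk' N b) =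
        ((QuotientGroup.mk' N a) * (QuotientGroup.mk' N b) * (QuotientGroup.mk' N a)⁻¹ * (QuotientGroup.mk' N b)⁻¹) *
          ((QuotientGroup.mk' N b) * (QuotientGroup.mk' N a)) := by group
      rw [this, h1, one_mul]
    obtain ⟨a, ha, b, hb, rfl⟩ := hAB g₁
    obtain ⟨a', ha', b', hb', rfl⟩ := hAB g₂
    rw [← QuotientGroup.eq_one_iff, commutatorElement_def]
    have h1 := hq a ha b' hb'
    have h2 := hq a' ha' b hb
    have h3 : QuotientGroup.mk' N a * QuotientGroup.mk' N a' = QuotientGroup.mk' N a' * QuotientGroup.mk' N a := by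
      rw [← map_mul, ← map_mul, hA a ha a' ha']
    have h4 : QuotientGroup.mk' N b * QuotientGroup.mk' N b' = QuotientGroup.mk' N b' * QuotientGroup.mk' N b := by
      rw [← map_mul, ← map_mul, hB b hb b' hb']
    have h5 := hq a ha b hb
    have h6 := hq a' ha' b' hb'
    show QuotientGroup.mk' N (a * b * (a' * b') * (a * b)⁻¹ * (a' * b')⁻¹) = 1
    simp only [map_mul, map_inv, mul_inv_rev]
    set α := QuotientGroup.mk' N a
    set β := QuotientGroup.mk' N b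
    set α' := QuotientGroup.mk' N a'
    set β' := QuotientGroup.mk' N b'
    have e1 : α * β * (α' * β') = α' * β' * (α * β) := by
      calc α * β * (α' * β') = α * (β * α') * β' := by group
        _ = α * (α' * β) * β' := by rw [h2]
        _ = (α * α') * (β * β') := by group
        _ = (α' * α) * (β' * β) := by rw [h3, h4]
        _ = α' * (α * β') * β := by group
        _ = α' * (β' * α) * β := by rw [h1]
        _ = α' * β' * (α * β) := by group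
    calc α * β * (α' * β') * (β⁻¹ * α⁻¹) * (β'⁻¹ * α'⁻¹)
        = (α * β * (α' * β')) * (β⁻¹ * α⁻¹) * (β'⁻¹ * α'⁻¹) := by group
      _ = (α' * β' * (α * β)) * (β⁻¹ * α⁻¹) * (β'⁻¹ * α'⁻¹) := by rw [e1]
      _ = 1 := by group
  rw [Group.isSolvable_def]
  refine ⟨2, ?_⟩
  rw [eq_bot_iff]
  show ⁅derivedSeries G 1, derivedSeries G 1⁆ ≤ ⊥
  have h1 : derivedSeries G 1 ≤ N := by
    show ⁅derivedSeries G 0, derivedSeries G 0⁆ ≤ N
    exact hG'
  have h2 : ⁅N, N⁆ = ⊥ := Subgroup.commutator_eq_bot_iff_le_centralizer.2 hNcomm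
  rw [← h2]
  exact Subgroup.commutator_mono h1 h1

end Cfsg.Agent.S0047
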