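import Cfsg.Statements.S0048
import Mathlib
import Cfsg.Agent.S0043

set_option autoImplicit false
open Cfsg

namespace Cfsg.Agent.S0048

open scoped Pointwise

theorem isCoatom_map_mk_of_le {G : Type*} [Group G] (N : Subgroup G) [N.Normal] {M : Subgroup G}
    (hM : IsCoatom M) (hNM : N ≤ M) : IsCoatom (M.map (QuotientGroup.mk' N)) := by
  have hsurj := QuotientGroup.mk'_surjective N
  have hcm : (M.map (QuotientGroup.mk' N)).comap (QuotientGroup.mk' N) = M := by
    rw [Subgroup.comap_map_eq, QuotientGroup.ker_mk', sup_of_le_left hNM]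
  constructor
  · intro h
    apply hM.1
    rw [← hcm, h, Subgroup.comap_top]
  · intro K' hK'
    have h1 : M ≤ K'.comap (QuotientGroup.mk' N) := by
      rw [← hcm]; exact Subgroup.comap_mono hK'.le
    have h2 : K'.comap (QuotientGroup.mk' N) ≠ M := by
      intro h
      have := Subgroup.map_comap_eq_self_of_surjective hsurj K'
      rw [h] at this
      exact hK'.ne this
    have h3 := hM.2 _ (lt_of_le_of_ne h1 h2.symm)
    rw [← Subgroup.map_comap_eq_self_of_surjective hsurj K', h3]
    exact Subgroup.map_top_of_surjective _ hsurj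

/-- existence of a minimal normal subgroup -/
theorem exists_minimal_normal {G : Type*} [Group G] [Finite G] [Nontrivial G] :
    ∃ N : Subgroup G, N.Normal ∧ N ≠ ⊥ ∧
      ∀ K : Subgroup G, K.Normal → K ≤ N → K = ⊥ ∨ K = N := by
  have hfin : ({N : Subgroup G | N.Normal ∧ N ≠ ⊥} : Set (Subgroup G)).Finite := Set.toFinite _
  have hne : ({N : Subgroup G | N.Normal ∧ N ≠ ⊥} : Set (Subgroup G)).Nonempty :=
    ⟨⊤, inferInstance, top_ne_bot⟩
  obtain ⟨N, ⟨hNn, hN0⟩, hmin⟩ := hfin.exists_minimal hne
  refine ⟨N, hNn, hN0, ?_⟩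
  intro K hKn hKN
  by_cases hK : K = ⊥
  · left; exact hK
  · right
    exact le_antisymm hKN (hmin ⟨hKn, hK⟩ hKN)

theorem index_dvd_card_of_sup_eq_top {G : Type*} [Group G] [Finite G] (N M : Subgroup G)
    [N.Normal] (hsup : N ⊔ M = ⊤) : M.index ∣ Nat.card N := by
  have horb : MulAction.orbit N ((1 : G) : G ⧸ M) = Set.univ := by
    rw [Set.eq_univ_iff_forall]
    intro q
    induction q using QuotientGroup.induction_on with
    | H g =>
      have hg : g ∈ N ⊔ M := hsup ▸ Subgroup.mem_top g
      rw [← SetLike.mem_coe, Subgroup.normal_mul] at hg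
      obtain ⟨n, hn, m, hm, rfl⟩ := hg
      refine ⟨⟨n, hn⟩, ?_⟩
      show ((n * 1 : G) : G ⧸ M) = ((n * m : G) : G ⧸ M)
      rw [QuotientGroup.eq]
      have : (n * 1)⁻¹ * (n * m) = m := by group
      rw [this]; exact hm
  have h1 := MulAction.index_stabilizer (G := N) (x := ((1 : G) : G ⧸ M))
  rw [horb, Set.ncard_univ] at h1
  have h2 : M.index = Nat.card (G ⧸ M) := rfl
  rw [h2, ← h1]
  exact Subgroup.index_dvd_card _

theorem aux : ∀ n : ℕ, ∀ (G : Type*) [Group G] [Finite G] [Group.IsSolvable G],
    Nat.card G = n → ∀ M : Subgroup G, IsCoatom M → IsPrimePow M.index := by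
  intro n
  induction n using Nat.strong_induction_on with
  | _ n ih =>
    intro G _ _ _ hG M hM
    haveI : Nontrivial G := by
      by_contra h
      rw [not_nontrivial_iff_subsingleton] at h
      exact hM.1 (Subsingleton.elim _ _)
    obtain ⟨N, hNn, hN0, hmin⟩ := exists_minimal_normal (G := G)
    haveI := hNn
    by_cases hNM : N ≤ M
    · -- pass to the quotient
      have hcard : Nat.card (G ⧸ N) < n := by
        rw [← hG]
        have h1 := Subgroup.card_eq_card_quotient_mul_card_subgroup N
        have h2 : 1 < Nat.card N := by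
          rw [Finite.one_lt_card_iff_nontrivial]
          exact (Subgroup.nontrivial_iff_ne_bot N).2 hN0
        have h3 : 0 < Nat.card (G ⧸ N) := Nat.card_pos
        rw [h1]
        nlinarith
      have := ih _ hcard (G ⧸ N) rfl _ (isCoatom_map_mk_of_le N hM hNM)
      rwa [Subgroup.index_map_eq _ (QuotientGroup.mk'_surjective N)
        (by rw [QuotientGroup.ker_mk']; exact hNM)] at this
    · have hsup : N ⊔ M = ⊤ := by
        apply hM.2
        apply lt_of_le_of_ne le_sup_right
        intro h
        apply hNM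
        rw [h]
        exact le_sup_left
      have hdvd := index_dvd_card_of_sup_eq_top N M hsup
      obtain ⟨-, p, hp, hexp⟩ := Cfsg.Agent.S0043.result N hN0 hmin
      haveI : Fact p.Prime := ⟨hp⟩
      have hPG : IsPGroup p N := by
        intro x
        refine ⟨1, ?_⟩
        apply Subtype.ext
        rw [pow_one]
        exact_mod_cast hexp x.1 x.2
      obtain ⟨k, hk⟩ := IsPGroup.iff_card.1 hPG
      rw [hk] at hdvd
      obtain ⟨j, -, hj⟩ := (Nat.dvd_prime_pow hp).1 hdvd
      have hj0 : j ≠ 0 := by
        rintro rfl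
        rw [pow_zero] at hj
        exact hM.1 (Subgroup.index_eq_one.1 hj)
      rw [hj]
      exact ⟨p, j, hp.prime, Nat.pos_of_ne_zero hj0, rfl⟩


/-- In a finite solvable group every maximal subgroup has index a prime power. -/
theorem result {G : Type*} [Group G] [Finite G] [Group.IsSolvable G]
    (M : Subgroup G) (hM : IsCoatom M) : IsPrimePow M.index := by
  exact aux _ G rfl M hM

end Cfsg.Agent.S0048
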