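import Cfsg.Statements.S0049
import Mathlib

set_option autoImplicit false
open Cfsg

namespace Cfsg.Agent.S0049

/-- A prime divisor of the order of a finite group also divides the index of the Frattini subgroup. -/
theorem result {G : Type*} [Group G] [Finite G] (p : ℕ) (hp : p.Prime) (hdvd : p ∣ Nat.card G) :
    p ∣ (frattini G).index := by
  haveI : Fact p.Prime := ⟨hp⟩
  by_contra hnd
  set F := frattini G with hF
  obtain ⟨Q⟩ : Nonempty (Sylow p F) := inferInstance
  -- Frattini argument: the image of Q is normal in G
  have h1 := Sylow.normalizer_sup_eq_top Q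
  have h2 := frattini_nongenerating h1
  haveI hQn : ((Q : Subgroup F).map F.subtype).Normal := Subgroup.normalizer_eq_top_iff.1 h2
  set Q' := (Q : Subgroup F).map F.subtype with hQ'
  have hQ'le : Q' ≤ F := Subgroup.map_subtype_le _
  have hQ'card : Nat.card Q' = Nat.card (Q : Subgroup F) :=
    Subgroup.card_map_of_injective (Subgroup.subtype_injective F)
  obtain ⟨k, hk⟩ := IsPGroup.iff_card.1 Q.isPGroup'
  -- index of Q' in G is prime to p
  have hidx : Q'.index = (Q : Subgroup F).index * F.index := by
    have := Subgroup.relIndex_mul_index hQ'le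
    rw [← this]
    congr 1
    rw [Subgroup.relIndex, hQ', Subgroup.subgroupOf,
      Subgroup.comap_map_eq_self_of_injective (Subgroup.subtype_injective F)]
  have hcop : Nat.Coprime (Nat.card Q') Q'.index := by
    rw [hQ'card, hk, hidx]
    apply Nat.Coprime.pow_left
    rw [Nat.Prime.coprime_iff_not_dvd hp, Nat.Prime.dvd_mul hp]
    rintro (h | h)
    · exact Q.not_dvd_index h
    · exact hnd h
  obtain ⟨K, hK⟩ := Subgroup.exists_right_complement'_of_coprime hcop
  have hsup : K ⊔ F = ⊤ := by
    rw [eq_top_iff, ← hK.sup_eq_top]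
    exact sup_le (le_trans hQ'le le_sup_right) le_sup_left
  have hKtop : K = ⊤ := frattini_nongenerating hsup
  have hcm := hK.card_mul_card
  rw [hKtop, Subgroup.card_top] at hcm
  have hGpos : 0 < Nat.card G := Nat.card_pos
  have hQ'1 : Nat.card Q' = 1 := by
    have : Nat.card Q' * Nat.card G = 1 * Nat.card G := by rw [hcm, one_mul]
    exact Nat.eq_of_mul_eq_mul_right hGpos this
  -- so p does not divide |F|, nor |G|
  have hQ1 : Nat.card (Q : Subgroup F) = 1 := hQ'card ▸ hQ'1
  have hFnd : ¬ p ∣ Nat.card F := by
    have h3 := (Q : Subgroup F).card_mul_index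
    rw [hQ1, one_mul] at h3
    rw [← h3]
    exact Q.not_dvd_index
  have hG : Nat.card F * F.index = Nat.card G := F.card_mul_index
  rw [← hG, Nat.Prime.dvd_mul hp] at hdvd
  rcases hdvd with h | h
  · exact hFnd h
  · exact hnd h

end Cfsg.Agent.S0049
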