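import Cfsg.Statements.S0050
import Cfsg.Agent.Lib.Helper4.Hall2

set_option autoImplicit false
open Cfsg

namespace Cfsg.Agent.S0050

open Cfsg.Agent.Lib.Helper4

/-- Frattini argument for Hall subgroups: if L is a solvable normal subgroup and H a subgroup of L of order coprime to its index in L, then L together with the normaliser of H generates the whole group. -/
theorem result {G : Type*} [Group G] [Finite G] (L : Subgroup G) [L.Normal] (hL : Group.IsSolvable L)
    (H : Subgroup G) (hHL : H ≤ L) (hHall : (Nat.card H).Coprime (H.relIndex L)) :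
    L ⊔ Subgroup.normalizer (H : Set G) = ⊤ := by
  rw [eq_top_iff]
  intro g _
  have hgH : cj g H ≤ L := by
    have := cj_mono g hHL
    rwa [cj_self_of_normal L g] at this
  haveI := hL
  obtain ⟨l, hl, hlH⟩ := hall_conj_sub L H (cj g H) hHL hgH (card_cj' g H) hHall
  have h1 : cj (l⁻¹ * g) H = H := by
    rw [cj_mul, ← hlH, cj_inv_cj']
  have h2 : l⁻¹ * g ∈ Subgroup.normalizer (H : Set G) :=
    Subgroup.mem_normalizer_iff_map_conj_eq.2 h1
  have e : g = l * (l⁻¹ * g) := by group
  rw [e]
  exact Subgroup.mul_mem _ (Subgroup.mem_sup_left hl) (Subgroup.mem_sup_right h2)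

end Cfsg.Agent.S0050
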