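import Cfsg.Statements.S0053
import Mathlib

set_option autoImplicit false
open Cfsg

namespace Cfsg.Agent.S0053

open scoped Pointwise

/-- An abelian minimal normal subgroup N of a finite group is complemented exactly when N is not inside the Frattini subgroup. -/
theorem result {G : Type*} [Group G] [Finite G]
    (N : Subgroup G) [N.Normal] [IsMulCommutative N] (hN : N ≠ ⊥)
    (hmin : ∀ M : Subgroup G, M.Normal → M ≤ N → M = ⊥ ∨ M = N) :
    (∃ H : Subgroup G, Subgroup.IsComplement' N H) ↔ ¬ N ≤ frattini G := by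
  have hNn : N.Normal := inferInstance
  constructor
  · rintro ⟨H, hH⟩ hle
    have hsup : H ⊔ frattini G = ⊤ := by
      rw [eq_top_iff, ← hH.sup_eq_top]
      exact sup_le (le_trans hle le_sup_right) le_sup_left
    have hHtop : H = ⊤ := frattini_nongenerating hsup
    apply hN
    rw [eq_bot_iff]
    intro n hn
    have := hH.disjoint
    rw [disjoint_iff] at this
    have hmem : n ∈ N ⊓ H := Subgroup.mem_inf.2 ⟨hn, hHtop ▸ Subgroup.mem_top n⟩
    rw [this] at hmem
    exact hmem
  · intro hnle
    -- a maximal subgroup not containing N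
    have hex : ∃ M : Subgroup G, IsCoatom M ∧ ¬ N ≤ M := by
      by_contra hall
      push Not at hall
      apply hnle
      unfold frattini Order.radical
      exact le_iInf₂ hall
    obtain ⟨M, hM, hNM⟩ := hex
    have hsup : N ⊔ M = ⊤ := by
      apply hM.2
      apply lt_of_le_of_ne le_sup_right
      intro h
      apply hNM
      rw [h]
      exact le_sup_left
    have hmul : (N : Set G) * (M : Set G) = Set.univ := by
      rw [← Subgroup.normal_mul, hsup, Subgroup.coe_top]
    -- N ⊓ M is normal in G
    have hinfn : (N ⊓ M).Normal := by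
      constructor
      intro x hx g
      obtain ⟨hxN, hxM⟩ := Subgroup.mem_inf.1 hx
      obtain ⟨n, hn, m, hm, rfl⟩ := Set.eq_univ_iff_forall.1 hmul g
      have hyN : m * x * m⁻¹ ∈ N := hNn.conj_mem x hxN m
      have hyM : m * x * m⁻¹ ∈ M := M.mul_mem (M.mul_mem hm hxM) (M.inv_mem hm)
      have hcomm : n * (m * x * m⁻¹) = (m * x * m⁻¹) * n := by
        have := mul_comm' (⟨n, hn⟩ : N) ⟨m * x * m⁻¹, hyN⟩
        exact congrArg Subtype.val this
      have e : n * m * x * (n * m)⁻¹ = m * x * m⁻¹ := by
        calc n * m * x * (n * m)⁻¹ = (n * (m * x * m⁻¹)) * n⁻¹ := by group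
          _ = (m * x * m⁻¹) * n * n⁻¹ := by rw [hcomm]
          _ = m * x * m⁻¹ := by group
      rw [e]
      exact Subgroup.mem_inf.2 ⟨hyN, hyM⟩
    have hinf : N ⊓ M = ⊥ := by
      rcases hmin _ hinfn inf_le_left with h | h
      · exact h
      · exact absurd (h ▸ inf_le_right : N ≤ M) hNM
    exact ⟨M, Subgroup.isComplement'_of_disjoint_and_mul_eq_univ (disjoint_iff.2 hinf) hmul⟩

end Cfsg.Agent.S0053
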