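import Cfsg.Statements.S0054
import Mathlib

set_option autoImplicit false
open Cfsg

namespace Cfsg.Agent.S0054

/-- A regular normal subgroup of a finite 2-transitive group is elementary abelian: it is commutative and all its elements have order dividing one prime. -/
theorem result {G : Type*} [Group G] [Finite G]
    {X : Type*} [Nonempty X] [MulAction G X] (h2 : MulAction.IsMultiplyPretransitive G X 2)
    (N : Subgroup G) [N.Normal] (htrans : MulAction.IsPretransitive N X) (hreg : ∀ x : X, MulAction.stabilizer N x = ⊥) :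
    IsMulCommutative N ∧ ∃ p : ℕ, p.Prime ∧ ∀ n ∈ N, n ^ p = 1 := by
  classical
  have hNn : N.Normal := inferInstance
  obtain ⟨x⟩ : Nonempty X := inferInstance
  -- nonidentity elements of N move x
  have hmove : ∀ n ∈ N, n ≠ 1 → n • x ≠ x := by
    intro n hn hn1 h
    have hmem : (⟨n, hn⟩ : N) ∈ MulAction.stabilizer N x := by
      rw [MulAction.mem_stabilizer_iff]
      exact h
    rw [hreg x, Subgroup.mem_bot] at hmem
    exact hn1 (congrArg Subtype.val hmem)
  -- all nonidentity elements of N are conjugate in G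
  have hconj : ∀ n ∈ N, n ≠ 1 → ∀ m ∈ N, m ≠ 1 → ∃ g : G, g * n * g⁻¹ = m := by
    intro n hn hn1 m hm hm1
    have h2' : ∀ a b c d : X, a ≠ b → c ≠ d → ∃ g : G, g • a = c ∧ g • b = d :=
      fun a b c d hab hcd => (MulAction.is_two_pretransitive_iff.1 h2) hab hcd
    obtain ⟨g, hg1, hg2⟩ := h2' x (n • x) x (m • x) (hmove n hn hn1).symm (hmove m hm hm1).symm
    refine ⟨g, ?_⟩
    have hmem : (⟨m⁻¹ * (g * n * g⁻¹), N.mul_mem (N.inv_mem hm) (hNn.conj_mem n hn g)⟩ : N)
        ∈ MulAction.stabilizer N x := by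
      rw [MulAction.mem_stabilizer_iff]
      show (m⁻¹ * (g * n * g⁻¹)) • x = x
      have hgi : g⁻¹ • x = x := by
        rw [inv_smul_eq_iff, hg1]
      rw [mul_smul, mul_smul, mul_smul, hgi, hg2, inv_smul_smul]
    rw [hreg x, Subgroup.mem_bot] at hmem
    have := congrArg Subtype.val hmem
    simp only [Subgroup.coe_one] at this
    exact (inv_mul_eq_one.1 this).symm
  by_cases hN1 : N = ⊥
  · refine ⟨?_, 2, Nat.prime_two, ?_⟩
    · constructor
      constructor
      rintro ⟨a, ha⟩ ⟨b, hb⟩
      rw [hN1, Subgroup.mem_bot] at ha hb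
      subst ha; subst hb
      rfl
    · intro n hn
      rw [hN1, Subgroup.mem_bot] at hn
      rw [hn, one_pow]
  · have hcard : Nat.card N ≠ 1 := fun h => hN1 (Subgroup.card_eq_one.1 h)
    obtain ⟨p, hp, hpd⟩ := Nat.exists_prime_and_dvd hcard
    haveI : Fact p.Prime := ⟨hp⟩
    obtain ⟨y, hy⟩ := exists_prime_orderOf_dvd_card' (G := N) p hpd
    have hyo : orderOf (y : G) = p := by rw [Subgroup.orderOf_coe]; exact hy
    have hy1 : (y : G) ≠ 1 := by
      intro h
      rw [h, orderOf_one] at hyo
      exact hp.one_lt.ne hyo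
    have hexp : ∀ n ∈ N, n ^ p = 1 := by
      intro n hn
      by_cases hn1 : n = 1
      · rw [hn1, one_pow]
      · obtain ⟨g, hg⟩ := hconj y y.2 hy1 n hn hn1
        rw [← hg, conj_pow, ← hyo, pow_orderOf_eq_one]
        group
    refine ⟨?_, p, hp, hexp⟩
    -- N is a p-group, so has a nontrivial central element
    have hPG : IsPGroup p N := by
      intro n
      refine ⟨1, ?_⟩
      apply Subtype.ext
      rw [pow_one]
      exact_mod_cast hexp n.1 n.2
    haveI : Nontrivial N := (Subgroup.nontrivial_iff_ne_bot N).2 hN1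
    haveI := hPG.center_nontrivial
    obtain ⟨z, hz1⟩ := exists_ne (1 : Subgroup.center N)
    have hzc : ∀ m ∈ N, m * (z.1 : G) = (z.1 : G) * m := by
      intro m hm
      have := Subgroup.mem_center_iff.1 z.2 ⟨m, hm⟩
      exact congrArg Subtype.val this
    have hzG1 : (z.1 : G) ≠ 1 := by
      intro h
      apply hz1
      apply Subtype.ext
      apply Subtype.ext
      exact h
    constructor
    constructor
    rintro ⟨a, ha⟩ ⟨b, hb⟩
    apply Subtype.ext
    show a * b = b * a
    by_cases hb1 : b = 1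
    · rw [hb1, mul_one, one_mul]
    · obtain ⟨g, hg⟩ := hconj z.1 z.1.2 hzG1 b hb hb1
      have h1 : g⁻¹ * a * g ∈ N := by
        have := hNn.conj_mem a ha g⁻¹
        rwa [inv_inv] at this
      have h2 := hzc _ h1
      rw [← hg]
      calc a * (g * (z.1 : G) * g⁻¹) = g * ((g⁻¹ * a * g) * (z.1 : G)) * g⁻¹ := by group
        _ = g * ((z.1 : G) * (g⁻¹ * a * g)) * g⁻¹ := by rw [h2]
        _ = g * (z.1 : G) * g⁻¹ * a := by group

end Cfsg.Agent.S0054
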