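import Cfsg.Statements.S0057
import Cfsg.Agent.S0023
import Cfsg.Agent.S0026
import Cfsg.Agent.S0027
import Cfsg.Agent.S0055
import Cfsg.Agent.Lib.Helper4.CoprimeComm
import Cfsg.Agent.Lib.Helper2.Index

set_option autoImplicit false
open Cfsg

namespace Cfsg.Agent.S0057

open scoped commutatorElement


theorem pgroup_mul_of_index_prime {K₀ : Type*} [Group K₀] [Finite K₀] (p : ℕ) [hp : Fact p.Prime]
    (H P : Subgroup K₀) (hP : IsPGroup p P) (hH : H.index = p) (hPH : ¬ P ≤ H) :
    ∀ k : K₀, ∃ x ∈ P, ∃ h ∈ H, k = x * h := by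
  classical
  set b : K₀ ⧸ H := ((1 : K₀) : K₀ ⧸ H) with hb
  obtain ⟨n, hn⟩ := hP.card_orbit b
  have hcardQ : Nat.card (K₀ ⧸ H) = p := by rw [← Subgroup.index_eq_card, hH]
  have hle : Nat.card (MulAction.orbit P b) ≤ p := by
    rw [← hcardQ]; exact Finite.card_subtype_le _
  have hn0 : n ≠ 0 := by
    rintro rfl
    rw [pow_zero] at hn
    apply hPH
    intro x hx
    have h1 : (⟨x, hx⟩ : P) • b = b := by
      obtain ⟨hss, -⟩ := Nat.card_eq_one_iff_unique.1 hn
      have := hss.elim (⟨(⟨x, hx⟩ : P) • b, MulAction.mem_orbit _ _⟩ : MulAction.orbit P b)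
        ⟨b, MulAction.mem_orbit_self _⟩
      exact congrArg Subtype.val this
    have h2 : ((x * 1 : K₀) : K₀ ⧸ H) = ((1 : K₀) : K₀ ⧸ H) := h1
    rw [QuotientGroup.eq] at h2
    simpa using H.inv_mem h2
  have hn1 : n = 1 := by
    have : p ^ n ≤ p ^ 1 := by rw [pow_one, ← hn]; exact hle
    have := (Nat.pow_le_pow_iff_right hp.out.one_lt).1 this
    omega
  rw [hn1, pow_one] at hn
  have huniv : MulAction.orbit P b = Set.univ := by
    rw [Set.eq_univ_iff_ncard, ← Nat.card_coe_set_eq, hn, hcardQ]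
  intro k
  have hk : (k : K₀ ⧸ H) ∈ MulAction.orbit P b := by rw [huniv]; trivial
  obtain ⟨x, hx⟩ := MulAction.mem_orbit_iff.1 hk
  have h2 : (((x : K₀) * 1 : K₀) : K₀ ⧸ H) = (k : K₀ ⧸ H) := hx
  rw [QuotientGroup.eq] at h2
  refine ⟨x, x.2, _, h2, ?_⟩
  group

/-- Under coprime action, if the centraliser of A in K has prime index p in K then the commutator subgroup [K, A] has order exactly p. -/
theorem result {G : Type*} [Group G] [Finite G] (A K : Subgroup G) (hAK : A ≤ Subgroup.normalizer (K : Set G))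
    (hcop : (Nat.card A).Coprime (Nat.card K)) (hsolv : Group.IsSolvable A ∨ Group.IsSolvable K)
    (p : ℕ) (hp : p.Prime) (hidx : (K ⊓ Subgroup.centralizer (A : Set G)).relIndex K = p) :
    Nat.card (⁅K, A⁆ : Subgroup G) = p := by
  classical
  haveI : Fact p.Prime := ⟨hp⟩
  set C : Subgroup G := K ⊓ Subgroup.centralizer (A : Set G) with hC
  set L : Subgroup G := ⁅K, A⁆ with hL
  have hLK : L ≤ K := Cfsg.Agent.Lib.Helper4.commutator_le_of_le_normalizer A K hAK
  have hAL : A ≤ Subgroup.normalizer (L : Set G) :=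
    Cfsg.Agent.Lib.Helper4.le_normalizer_commutator_right A K hAK
  have hKL : K ≤ Subgroup.normalizer (L : Set G) :=
    Cfsg.Agent.Lib.Helper4.le_normalizer_commutator_left A K
  have hCK : C ≤ K := inf_le_left
  have hsup : C ⊔ L = K := by
    rw [sup_comm]; exact Cfsg.Agent.S0026.result A K hAK hcop hsolv
  have hLL : ⁅L, A⁆ = L := Cfsg.Agent.S0027.result A K hAK hcop hsolv
  -- card K = p * card C
  have hcardK : Nat.card K = p * Nat.card C := by
    have := Subgroup.relIndex_mul_relIndex ⊥ C K bot_le hCK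
    rw [Subgroup.relIndex_bot_left, Subgroup.relIndex_bot_left, hidx] at this
    rw [← this, mul_comm]
  -- card L = p * card (C ⊓ L)
  have hcardL : Nat.card L = p * Nat.card (C ⊓ L : Subgroup G) := by
    have h1 := Cfsg.Agent.Lib.Helper2.card_sup_mul_card_inf C L (hCK.trans hKL)
    rw [hsup, hcardK] at h1
    have hpos : 0 < Nat.card C := Nat.card_pos
    have : Nat.card C * (p * Nat.card (C ⊓ L : Subgroup G)) = Nat.card C * Nat.card L := by
      rw [← h1]; ring
    exact (Nat.eq_of_mul_eq_mul_left hpos this).symm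
  have hCL : C ⊓ L = L ⊓ Subgroup.centralizer (A : Set G) := by
    rw [hC, inf_comm, ← inf_assoc, inf_eq_left.2 hLK]
  -- an A-invariant Sylow p-subgroup of K
  obtain ⟨P, hPA⟩ := Cfsg.Agent.S0023.result A K hAK hcop hsolv p
  set P' : Subgroup G := (P : Subgroup K).map K.subtype with hP'
  have hPC : ¬ (P : Subgroup K) ≤ C.subgroupOf K := by
    intro hle
    have h1 : Nat.card (P : Subgroup K) ∣ Nat.card (C.subgroupOf K) := Subgroup.card_dvd_of_le hle
    rw [P.card_eq_multiplicity] at h1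
    have h2 : Nat.card (C.subgroupOf K) = Nat.card C :=
      Nat.card_congr (Subgroup.subgroupOfEquivOfLe hCK).toEquiv
    rw [h2] at h1
    have h3 : p ^ ((Nat.card K).factorization p + 1) ∣ Nat.card K := by
      generalize (Nat.card K).factorization p = v at h1 ⊢
      obtain ⟨t, ht⟩ := h1
      exact ⟨t, by rw [hcardK, ht]; ring⟩
    exact Nat.pow_succ_factorization_not_dvd Nat.card_pos.ne' hp h3
  have hfac := pgroup_mul_of_index_prime p (C.subgroupOf K) (P : Subgroup K) P.isPGroup' hidx hPC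
  -- L ≤ P'
  have hLP : L ≤ P' := by
    rw [hL, Subgroup.commutator_le]
    intro k hk a ha
    obtain ⟨x, hx, c, hc, hkxc⟩ := hfac ⟨k, hk⟩
    have hxP' : (x : G) ∈ P' := Subgroup.mem_map_of_mem _ hx
    have hcC : (c : G) ∈ C := Subgroup.mem_subgroupOf.1 hc
    have hca : a * (c : G) = (c : G) * a := (Subgroup.mem_centralizer_iff.1 hcC.2) a ha
    have hk' : k = (x : G) * (c : G) := by
      have := congrArg Subtype.val hkxc
      simpa using this
    have haP := (Subgroup.mem_normalizer_iff.1 (hPA ha) ((x : G)⁻¹)).1 (P'.inv_mem hxP')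
    have : ⁅k, a⁆ = (x : G) * (a * (x : G)⁻¹ * a⁻¹) := by
      rw [commutatorElement_def, hk']
      have hca' : (c : G) * a * (c : G)⁻¹ = a := by rw [← hca]; group
      calc (x : G) * (c : G) * a * ((x : G) * (c : G))⁻¹ * a⁻¹
          = (x : G) * ((c : G) * a * (c : G)⁻¹) * (x : G)⁻¹ * a⁻¹ := by group
        _ = (x : G) * a * (x : G)⁻¹ * a⁻¹ := by rw [hca']
        _ = (x : G) * (a * (x : G)⁻¹ * a⁻¹) := by group
    rw [this]
    exact P'.mul_mem hxP' haP
  have hP'p : IsPGroup p P' := P.isPGroup'.map _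
  have hLp : IsPGroup p L := hP'p.to_le hLP
  -- D = C_L(A) has index p in L
  set D : Subgroup G := L ⊓ Subgroup.centralizer (A : Set G) with hD
  have hDL : D ≤ L := inf_le_left
  rw [hCL] at hcardL
  have hDidx : (D.subgroupOf L).index = p := by
    have := Subgroup.relIndex_mul_relIndex ⊥ D L bot_le hDL
    rw [Subgroup.relIndex_bot_left, Subgroup.relIndex_bot_left, hcardL] at this
    have hpos : 0 < Nat.card D := Nat.card_pos
    have h2 : Nat.card D * D.relIndex L = Nat.card D * p := by rw [this]; ring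
    exact Nat.eq_of_mul_eq_mul_left hpos h2
  -- D is normal in L
  have hDn : (D.subgroupOf L).Normal := by
    apply Subgroup.normal_of_index_eq_minFac_card
    obtain ⟨m, hm⟩ := (IsPGroup.iff_card).1 hLp
    have hm0 : m ≠ 0 := by
      rintro rfl
      rw [pow_zero] at hm
      rw [hm] at hcardL
      have : p ∣ 1 := ⟨_, hcardL⟩
      exact hp.one_lt.ne' (Nat.dvd_one.1 this)
    rw [hDidx, hm, hp.pow_minFac hm0]
  -- [D, L] ≤ D
  have hDLcomm : ⁅D, L⁆ ≤ D := by
    rw [Subgroup.commutator_le]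
    intro d hd l hl
    have h1 := hDn.conj_mem ⟨d⁻¹, hDL (D.inv_mem hd)⟩ (Subgroup.mem_subgroupOf.2 (D.inv_mem hd)) ⟨l, hl⟩
    rw [Subgroup.mem_subgroupOf] at h1
    have h2 : ⁅d, l⁆ = d * (l * d⁻¹ * l⁻¹) := by rw [commutatorElement_def]; group
    rw [h2]
    exact D.mul_mem hd h1
  -- three subgroups lemma
  have hAD : ⁅A, D⁆ = ⊥ := by
    rw [Subgroup.commutator_comm, Subgroup.commutator_eq_bot_iff_le_centralizer]
    exact inf_le_right
  have h1 : ⁅⁅A, D⁆, L⁆ = ⊥ := by rw [hAD]; exact Subgroup.commutator_bot_left L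
  have h2 : ⁅⁅D, L⁆, A⁆ = ⊥ := by
    rw [eq_bot_iff]
    calc ⁅⁅D, L⁆, A⁆ ≤ ⁅D, A⁆ := Subgroup.commutator_mono hDLcomm le_rfl
      _ = ⊥ := by rw [Subgroup.commutator_comm]; exact hAD
  have h3 : ⁅⁅L, A⁆, D⁆ = ⊥ := Subgroup.commutator_commutator_eq_bot_of_rotate h1 h2
  rw [hLL, Subgroup.commutator_eq_bot_iff_le_centralizer] at h3
  -- L is commutative
  have hcenter : (QuotientGroup.mk' (D.subgroupOf L)).ker ≤ Subgroup.center L := by
    rw [QuotientGroup.ker_mk']
    intro x hx
    rw [Subgroup.mem_subgroupOf] at hx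
    rw [Subgroup.mem_center_iff]
    intro g
    have := (Subgroup.mem_centralizer_iff.1 (h3 g.2)) (x : G) hx
    exact Subtype.ext this.symm
  haveI : IsCyclic (L ⧸ D.subgroupOf L) := by
    apply isCyclic_of_prime_card (p := p)
    rw [← Subgroup.index_eq_card, hDidx]
  haveI : IsMulCommutative L :=
    MonoidHom.isMulCommutative_of_isCyclic_of_ker_le_center (QuotientGroup.mk' (D.subgroupOf L)) hcenter
  have hcopL : (Nat.card A).Coprime (Nat.card L) :=
    Nat.Coprime.coprime_dvd_right (Subgroup.card_dvd_of_le hLK) hcop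
  have h55 := (Cfsg.Agent.S0055.result A L hAL hcopL).1
  rw [hLL, inf_eq_left.2 (inf_le_left : L ⊓ Subgroup.centralizer (A : Set G) ≤ L)] at h55
  rw [hcardL, show D = ⊥ from h55, Subgroup.card_bot, mul_one]

end Cfsg.Agent.S0057
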