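import Cfsg.Statements.S0059
import Cfsg.Agent.Lib.Helper4.CoprimeAct

set_option autoImplicit false
open Cfsg

namespace Cfsg.Agent.S0059

open Cfsg.Agent.Lib.Helper4

/-- Let a finite group act on a set on which a normal subgroup K of coprime order and index is transitive, with K or the quotient solvable. Then any complement H of K has a fixed point, and any two H-fixed points are interchanged by an element of K centralising H. -/
theorem result {G : Type*} [Group G] [Finite G] {X : Type*} [Nonempty X] [MulAction G X]
    (K H : Subgroup G) [K.Normal] (hc : Subgroup.IsComplement' K H) (hcop : (Nat.card K).Coprime K.index)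
    (hsolv : Group.IsSolvable K ∨ Group.IsSolvable (G ⧸ K)) (htrans : MulAction.IsPretransitive K X) :
    (∃ x : X, ∀ h ∈ H, h • x = x) ∧
    ∀ x y : X, (∀ h ∈ H, h • x = x) → (∀ h ∈ H, h • y = y) → ∃ k ∈ K ⊓ Subgroup.centralizer (H : Set G), k • x = y := by
  have hHK : H ≤ Subgroup.normalizer (K : Set G) := by
    rw [Subgroup.normalizer_eq_top_iff.2 inferInstance]; exact le_top
  have hidx : K.index = Nat.card H := hc.symm.index_eq_card
  have hcop' : (Nat.card H).Coprime (Nat.card K) := by rw [← hidx]; exact hcop.symm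
  have hsolv' : Group.IsSolvable H ∨ Group.IsSolvable K := by
    rcases hsolv with hs | hs
    · exact Or.inr hs
    · left
      have e : G ⧸ K ≃* H := hc.symm.QuotientMulEquiv
      exact Group.isSolvable_of_isSolvable_injective (f := e.symm.toMonoidHom) e.symm.injective
  constructor
  · obtain ⟨ω₀⟩ : Nonempty X := inferInstance
    have h : ∀ a ∈ H, ∃ k ∈ K, a • ω₀ = k • ω₀ := by
      intro a _
      obtain ⟨k, hk⟩ := MulAction.exists_smul_eq K ω₀ (a • ω₀)
      exact ⟨(k : G), k.2, hk.symm⟩
    obtain ⟨k, _, hkfix⟩ := glauberman_fix H K hHK hcop' hsolv' ω₀ h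
    exact ⟨k • ω₀, hkfix⟩
  · intro x y hx hy
    obtain ⟨k, hk⟩ := MulAction.exists_smul_eq K x y
    have hk' : (k : G) • x = y := hk
    obtain ⟨c, hc', hcx⟩ := glauberman_trans H K hHK hcop' hsolv' x hx (k : G) k.2
      (by intro a ha; rw [hk']; exact hy a ha)
    exact ⟨c, hc', hcx.trans hk'⟩

end Cfsg.Agent.S0059
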