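import Cfsg.Statements.S0063
import Mathlib

set_option autoImplicit false
open Cfsg

namespace Cfsg.Agent.S0063

theorem class_le_aux (p : ℕ) [Fact p.Prime] : ∀ k : ℕ, ∀ (G : Type*) [Group G] [Finite G],
    Nat.card G = p ^ k → Group.nilpotencyClass G ≤ max (k - 1) 1 := by
  intro k
  induction k using Nat.strong_induction_on with
  | _ k ih =>
    intro G _ _ hG
    have hp : p.Prime := Fact.out
    have hPG : IsPGroup p G := IsPGroup.of_card hG
    haveI := hPG.isNilpotent
    by_cases hk : k ≤ 2
    · -- abelian cases
      have hcomm : IsMulCommutative G := by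
        interval_cases k
        · rw [pow_zero] at hG
          haveI := (Nat.card_eq_one_iff_unique.1 hG).1
          exact ⟨⟨fun a b => Subsingleton.elim _ _⟩⟩
        · rw [pow_one] at hG
          haveI := isCyclic_of_prime_card hG
          exact ⟨⟨fun a b => IsCyclic.commGroup.mul_comm a b⟩⟩
        · exact IsPGroup.isMulCommutative_of_card_eq_prime_sq hG
      have := (Group.IsNilpotent.nilpotencyClass_le_one_iff (G := G)).2 hcomm
      exact le_trans this (le_max_right _ _)
    · have hk3 : 3 ≤ k := by omega
      haveI : Nontrivial G := by
        rw [← Finite.one_lt_card_iff_nontrivial, hG]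
        exact Nat.one_lt_pow (by omega) hp.one_lt
      haveI := hPG.center_nontrivial
      obtain ⟨j, hj⟩ := IsPGroup.iff_card.1 (hPG.to_subgroup (Subgroup.center G))
      have hj0 : j ≠ 0 := by
        rintro rfl
        rw [pow_zero] at hj
        have := (Nat.card_eq_one_iff_unique.1 hj).1
        exact not_subsingleton _ this
      have hjk : j ≤ k := by
        have hdvd : Nat.card (Subgroup.center G) ∣ Nat.card G := Subgroup.card_subgroup_dvd_card _
        rw [hj, hG] at hdvd
        exact (Nat.pow_dvd_pow_iff_le_right hp.one_lt).1 hdvd
      have hquot : Nat.card (G ⧸ Subgroup.center G) = p ^ (k - j) := by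
        have h1 := Subgroup.card_eq_card_quotient_mul_card_subgroup (Subgroup.center G)
        rw [hG, hj] at h1
        have h2 : p ^ k = p ^ (k - j) * p ^ j := by
          rw [← pow_add]; congr 1; omega
        rw [h2] at h1
        exact (Nat.eq_of_mul_eq_mul_right (pow_pos hp.pos j) h1).symm
      have hIH := ih (k - j) (by omega) (G ⧸ Subgroup.center G) hquot
      have hcl := Group.nilpotencyClass_quotient_center (G := G)
      have hb : max (k - j - 1) 1 ≤ k - 2 := by
        apply max_le <;> omega
      have : Group.nilpotencyClass G ≤ k - 1 := by omega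
      exact le_trans this (le_max_left _ _)


/-- A finite group of prime-power order p ^ m with m > 1 is nilpotent of class at most m - 1. -/
theorem result {G : Type*} [Group G] [Finite G] (p m : ℕ) [Fact p.Prime]
    (hG : Nat.card G = p ^ m) (hm : 1 < m) : Group.nilpotencyClass G ≤ m - 1 := by
  have := class_le_aux p m G hG
  have h2 : max (m - 1) 1 = m - 1 := by
    apply max_eq_left; omega
  rwa [h2] at this

end Cfsg.Agent.S0063
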