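import Cfsg.Statements.S0064
import Mathlib

set_option autoImplicit false
open Cfsg

namespace Cfsg.Agent.S0064

/-- A finite group is nilpotent exactly when each of its subgroups is subnormal. -/
theorem result {G : Type*} [Group G] [Finite G] :
    Group.IsNilpotent G ↔ ∀ H : Subgroup G, H.IsSubnormal := by
  constructor
  · intro hnil H
    have hnc : NormalizerCondition G := Group.normalizerCondition_of_isNilpotent
    induction H using WellFoundedGT.induction with
    | ind H ih =>
      by_cases hH : H = ⊤
      · rw [hH]; exact Subgroup.IsSubnormal.top
      · have hlt : H < Subgroup.normalizer (H : Set G) := hnc H (lt_top_iff_ne_top.2 hH)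
        exact Subgroup.IsSubnormal.step H _ Subgroup.le_normalizer (ih _ hlt)
          Subgroup.normal_in_normalizer
  · intro hsub
    have q := (Group.isNilpotent_of_finite_tfae (G := G)).out 0 2
    rw [q]
    intro M hM
    rcases (hsub M).lt_normal with h | ⟨K, hK, hMK, hKt⟩
    · exact absurd h hM.1
    · have : K = M := by
        by_contra hne
        have hlt : M < K := lt_of_le_of_ne hMK (Ne.symm hne)
        exact hKt.ne (hM.2 K hlt)
      rw [← this]; exact hK

end Cfsg.Agent.S0064
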