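import Cfsg.Statements.S0067
import Mathlib
import Cfsg.Agent.Lib.Helper1.BaerSuzuki
import Cfsg.Agent.Lib.Helper1.Fitting2
import Cfsg.Agent.Lib.Helper1.Frob

set_option autoImplicit false
open Pointwise
open Cfsg

namespace Cfsg.Agent.S0067

open Cfsg.Agent.Lib.Helper1
open scoped Pointwise

/-- in a finite nilpotent group every subgroup is subnormal -/
theorem isSubnormal_of_nilpotent {F : Type*} [Group F] [Finite F] [Group.IsNilpotent F] :
    ∀ (n : ℕ) (H : Subgroup F), Nat.card F - Nat.card H = n → H.IsSubnormal := by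
  intro n
  induction n using Nat.strong_induction_on with
  | _ n ih =>
    intro H hn
    by_cases htop : H = ⊤
    · rw [htop]; exact Subgroup.IsSubnormal.top
    · have hnc : NormalizerCondition F := Group.normalizerCondition_of_isNilpotent
      have hlt : H < Subgroup.normalizer (H : Set F) := hnc H (lt_top_iff_ne_top.2 htop)
      have hcard : Nat.card H < Nat.card (Subgroup.normalizer (H : Set F)) := by
        by_contra hcon
        push Not at hcon
        exact hlt.ne (Subgroup.eq_of_le_of_card_ge hlt.le hcon)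
      have hle : Nat.card (Subgroup.normalizer (H : Set F)) ≤ Nat.card F :=
        Subgroup.card_le_card_group _
      have := ih (Nat.card F - Nat.card (Subgroup.normalizer (H : Set F))) (by omega)
        (Subgroup.normalizer (H : Set F)) rfl
      exact Subgroup.IsSubnormal.step H _ Subgroup.le_normalizer this Subgroup.normal_in_normalizer

/-- in a nilpotent subgroup, two `p`-elements generate a `p`-group -/
theorem pair_pgroup_of_nilpotent {G : Type*} [Group G] [Finite G] {p : ℕ} [hp : Fact p.Prime]
    (L : Subgroup G) (hL : Group.IsNilpotent L) (x y : G) (hx : x ∈ L) (hy : y ∈ L)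
    (hxp : ∃ k : ℕ, x ^ p ^ k = 1) (hyp : ∃ k : ℕ, y ^ p ^ k = 1) :
    IsPGroup p (Subgroup.closure ({x, y} : Set G)) := by
  obtain ⟨P⟩ : Nonempty (Sylow p L) := inferInstance
  have hPn : (P : Subgroup L).Normal := by
    have q := (Group.isNilpotent_of_finite_tfae (G := L)).out 0 3
    rw [q] at hL
    exact hL p hp P
  have hmem : ∀ z : G, ∀ hz : z ∈ L, (∃ k : ℕ, z ^ p ^ k = 1) → (⟨z, hz⟩ : L) ∈ (P : Subgroup L) := by
    intro z hz ⟨k, hk⟩
    have hzp : IsPGroup p (Subgroup.zpowers (⟨z, hz⟩ : L)) := by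
      rintro ⟨w, hw⟩
      obtain ⟨n, rfl⟩ := Subgroup.mem_zpowers_iff.1 hw
      refine ⟨k, ?_⟩
      apply Subtype.ext
      apply Subtype.ext
      simp only [Subgroup.coe_pow, Subgroup.coe_zpow, Subgroup.coe_one]
      rw [← zpow_natCast, ← zpow_mul, mul_comm, zpow_mul, zpow_natCast, hk, one_zpow]
    obtain ⟨Q, hQ⟩ := hzp.exists_le_sylow
    obtain ⟨g, hg⟩ := MulAction.exists_smul_eq L P Q
    have hQP : Q = P := by
      rw [← hg]
      exact Sylow.smul_eq_of_normal
    rw [← hQP]
    exact hQ (Subgroup.mem_zpowers _)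
  have hle : Subgroup.closure ({x, y} : Set G) ≤ (P : Subgroup L).map L.subtype := by
    rw [Subgroup.closure_le]
    intro z hz
    rcases hz with rfl | rfl
    · exact ⟨⟨z, hx⟩, hmem z hx hxp, rfl⟩
    · exact ⟨⟨z, hy⟩, hmem z hy hyp, rfl⟩
  exact (P.isPGroup'.map L.subtype).to_le hle


/-- If the join of a subgroup A with each of its conjugates is nilpotent, then A is subnormal in the finite group and contained in the Fitting subgroup. -/
theorem result {G : Type*} [Group G] [Finite G] (A : Subgroup G)
    (h : ∀ g : G, Group.IsNilpotent (A ⊔ MulAut.conj g • A : Subgroup G)) : A.IsSubnormal ∧ A ≤ Cfsg.fittingSubgroup G := by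
  classical
  have hFeq : Cfsg.fittingSubgroup G = pCoreSup G := fitting_eq_pCoreSup
  have hAF : A ≤ Cfsg.fittingSubgroup G := by
    -- every p-element of A lies in the Fitting subgroup
    have hpel : ∀ (p : ℕ) [Fact p.Prime] (x : G), x ∈ A → (∃ k : ℕ, x ^ p ^ k = 1) →
        x ∈ Cfsg.fittingSubgroup G := by
      intro p hp x hxA hxp
      have hpair : ∀ g : G, IsPGroup p (Subgroup.closure ({x, g * x * g⁻¹} : Set G)) := by
        intro g
        apply pair_pgroup_of_nilpotent (A ⊔ MulAut.conj g • A) (h g) x (g * x * g⁻¹)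
          ((le_sup_left : A ≤ A ⊔ MulAut.conj g • A) hxA)
          ((le_sup_right : MulAut.conj g • A ≤ A ⊔ MulAut.conj g • A) (conj_mem_conj_smul hxA)) hxp
        obtain ⟨k, hk⟩ := hxp
        refine ⟨k, ?_⟩
        rw [conj_pow, hk, mul_one, mul_inv_cancel]
      obtain ⟨N, hN, hNp, hxN, -⟩ := baer_suzuki_normal (p := p) x hpair
      rw [hFeq]
      exact (le_trans (le_pCore N hN hNp) (pCore_le_pCoreSup hp.out)) hxN
    -- the subgroup B = F ⊓ A of A contains all Sylow subgroups of A
    set B : Subgroup A := (Cfsg.fittingSubgroup G).subgroupOf A with hB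
    have hidx : B.index = 1 := by
      rw [Nat.eq_one_iff_not_exists_prime_dvd]
      intro p hp hdvd
      haveI : Fact p.Prime := ⟨hp⟩
      obtain ⟨P⟩ : Nonempty (Sylow p A) := inferInstance
      have hPB : (P : Subgroup A) ≤ B := by
        intro z hz
        rw [hB, Subgroup.mem_subgroupOf]
        apply hpel p (z : G) z.2
        obtain ⟨k, hk⟩ := P.isPGroup' ⟨z, hz⟩
        refine ⟨k, ?_⟩
        have := congrArg (fun w : (P : Subgroup A) => ((w : A) : G)) hk
        simpa using this
      have h1 : B.index ∣ (P : Subgroup A).index := Subgroup.index_dvd_of_le hPB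
      exact P.not_dvd_index (dvd_trans hdvd h1)
    have hBtop : B = ⊤ := Subgroup.index_eq_one.1 hidx
    rw [hB, Subgroup.subgroupOf_eq_top] at hBtop
    exact hBtop
  refine ⟨?_, hAF⟩
  have hFn : (Cfsg.fittingSubgroup G).Normal := by rw [hFeq]; exact pCoreSup_normal
  haveI hFnil : Group.IsNilpotent (Cfsg.fittingSubgroup G) := by rw [hFeq]; exact pCoreSup_isNilpotent
  exact Subgroup.IsSubnormal.trans hAF (isSubnormal_of_nilpotent _ _ rfl) hFn.isSubnormal

end Cfsg.Agent.S0067
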