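import Cfsg.Statements.S0068
import Mathlib
import Cfsg.Agent.Lib.Helper1.Invol

set_option autoImplicit false
open Cfsg

namespace Cfsg.Agent.S0068

open Cfsg.Agent.Lib.Helper1

/-- Frobenius complements of even order: if H complements a nontrivial normal subgroup K, each nonidentity element of H has trivial centraliser in K, and H has even order, then H contains a unique involution s, K is abelian, and s inverts every element of K. -/
theorem result {G : Type*} [Group G] [Finite G] (K H : Subgroup G) [K.Normal]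
    (hc : Subgroup.IsComplement' K H) (hK : K ≠ ⊥) (hfpf : ∀ h ∈ H, h ≠ 1 → K ⊓ Subgroup.centralizer {h} = ⊥)
    (heven : 2 ∣ Nat.card H) :
    (∃ s ∈ H, orderOf s = 2 ∧ (∀ t ∈ H, orderOf t = 2 → t = s) ∧ ∀ k ∈ K, s * k * s⁻¹ = k⁻¹) ∧ IsMulCommutative K := by
  haveI : Fact (Nat.Prime 2) := ⟨Nat.prime_two⟩
  have hKn : K.Normal := inferInstance
  -- an involution in H
  obtain ⟨s', hs'⟩ := exists_prime_orderOf_dvd_card' (G := H) 2 heven
  have hsH : (s' : G) ∈ H := s'.2
  have hso : orderOf (s' : G) = 2 := by rw [Subgroup.orderOf_coe]; exact hs'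
  set s : G := (s' : G) with hs
  have hs2 : s * s = 1 := sq_eq_one_of_orderOf_two hso
  have hs1 : s ≠ 1 := ne_one_of_orderOf_two hso
  have hsi : s⁻¹ = s := inv_eq_of_mul_eq_one_left hs2
  -- every involution of H acts on K as a fixed-point-free involutive automorphism
  have key : ∀ t ∈ H, orderOf t = 2 →
      (∀ k ∈ K, t * k * t⁻¹ = k⁻¹) ∧ IsMulCommutative K := by
    intro t htH hto
    have ht2 : t * t = 1 := sq_eq_one_of_orderOf_two hto
    have ht1 : t ≠ 1 := ne_one_of_orderOf_two hto
    have hti : t⁻¹ = t := inv_eq_of_mul_eq_one_left ht2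
    let φ : K →* K := (MulAut.conjNormal t : MulAut K).toMonoidHom
    have hφapp : ∀ k : K, ((φ k : K) : G) = t * k * t⁻¹ := fun k => MulAut.conjNormal_apply t k
    have hfp : MonoidHom.FixedPointFree φ := by
      intro k hk
      have h1 : t * (k : G) * t⁻¹ = k := by rw [← hφapp, hk]
      have hkc : (k : G) ∈ K ⊓ Subgroup.centralizer {t} := by
        refine Subgroup.mem_inf.2 ⟨k.2, ?_⟩
        rw [Subgroup.mem_centralizer_singleton_iff]
        calc (k : G) * t = (t * k * t⁻¹) * t := by rw [h1]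
          _ = t * k := by group
      rw [hfpf t htH ht1, Subgroup.mem_bot] at hkc
      exact Subtype.ext hkc
    have hinv : Function.Involutive φ := by
      intro k
      apply Subtype.ext
      rw [hφapp, hφapp, hti]
      calc t * (t * (k : G) * t) * t = (t * t) * k * (t * t) := by group
        _ = k := by rw [ht2, one_mul, mul_one]
    constructor
    · intro k hk
      have := hfp.coe_eq_inv_of_involutive hinv
      have h2 : φ ⟨k, hk⟩ = (⟨k, hk⟩ : K)⁻¹ := by rw [this]
      have h3 := congrArg Subtype.val h2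
      rw [hφapp] at h3
      exact h3
    · constructor
      constructor
      intro a b
      exact (hfp.commute_all_of_involutive hinv a b).eq
  obtain ⟨hsinv, hKc⟩ := key s hsH hso
  refine ⟨⟨s, hsH, hso, ?_, hsinv⟩, hKc⟩
  intro t htH hto
  obtain ⟨htinv, -⟩ := key t htH hto
  have ht2 : t * t = 1 := sq_eq_one_of_orderOf_two hto
  have hti : t⁻¹ = t := inv_eq_of_mul_eq_one_left ht2
  -- s * t centralizes K
  by_contra hne
  have hst1 : s * t ≠ 1 := by
    intro h
    apply hne
    have : t = s⁻¹ := (eq_inv_of_mul_eq_one_right h)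
    rw [this, hsi]
  obtain ⟨k, hk1⟩ := (Subgroup.ne_bot_iff_exists_ne_one (H := K)).1 hK
  have hkc : (k : G) ∈ K ⊓ Subgroup.centralizer {s * t} := by
    refine Subgroup.mem_inf.2 ⟨k.2, ?_⟩
    rw [Subgroup.mem_centralizer_singleton_iff]
    have h1 : t * (k : G) * t⁻¹ = (k : G)⁻¹ := htinv k k.2
    have h2 : s * (k : G)⁻¹ * s⁻¹ = ((k : G)⁻¹)⁻¹ := hsinv _ (K.inv_mem k.2)
    rw [inv_inv] at h2
    calc (k : G) * (s * t) = (s * (k : G)⁻¹ * s⁻¹) * (s * t) := by rw [h2]
      _ = s * ((k : G)⁻¹ * t) := by group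
      _ = s * ((t * (k : G) * t⁻¹) * t) := by rw [h1]
      _ = s * t * k := by group
  rw [hfpf (s * t) (H.mul_mem hsH htH) hst1, Subgroup.mem_bot] at hkc
  exact hk1 (Subtype.ext hkc)

end Cfsg.Agent.S0068
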