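import Cfsg.Statements.S0069
import Cfsg.Agent.S0040
import Cfsg.Agent.S0027
import Cfsg.Agent.Lib.Helper4.FrobComp

set_option autoImplicit false
open Cfsg

namespace Cfsg.Agent.S0069

open scoped commutatorElement

/-- an involution of the complement inverts `K`. -/
lemma inv_of_involution {G : Type*} [Group G] [Finite G] (K H : Subgroup G) [hKn : K.Normal]
    (hfpf : ∀ h ∈ H, h ≠ 1 → K ⊓ Subgroup.centralizer {h} = ⊥)
    (s : G) (hsH : s ∈ H) (hs2 : s * s = 1) (hs1 : s ≠ 1) (k : G) (hk : k ∈ K) :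
    s * k * s = k⁻¹ := by
  have hsinv : s⁻¹ = s := inv_eq_of_mul_eq_one_left hs2
  have hconj : ∀ m ∈ K, s * m * s ∈ K := by
    intro m hm
    have := hKn.conj_mem m hm s
    rwa [hsinv] at this
  let f : ↥K → ↥K := fun m => ⟨(m : G)⁻¹ * (s * m * s), K.mul_mem (K.inv_mem m.2) (hconj m m.2)⟩
  have hinj : Function.Injective f := by
    intro m n hmn
    have h1 : (m : G)⁻¹ * (s * m * s) = (n : G)⁻¹ * (s * n * s) := congrArg Subtype.val hmn
    have h2 : (m : G)⁻¹ * s * m = (n : G)⁻¹ * s * n := by
      have this : (m : G)⁻¹ * (s * m * s) * s = (n : G)⁻¹ * (s * n * s) * s := by rw [h1]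
      calc (m : G)⁻¹ * s * m = (m : G)⁻¹ * (s * m * s) * s := by
            rw [show (m : G)⁻¹ * (s * m * s) * s = (m : G)⁻¹ * s * m * (s * s) by group, hs2, mul_one]
        _ = (n : G)⁻¹ * (s * n * s) * s := this
        _ = (n : G)⁻¹ * s * n := by
            rw [show (n : G)⁻¹ * (s * n * s) * s = (n : G)⁻¹ * s * n * (s * s) by group, hs2, mul_one]
    have h3 : (n : G) * (m : G)⁻¹ ∈ K ⊓ Subgroup.centralizer {s} := by
      refine Subgroup.mem_inf.mpr ⟨K.mul_mem n.2 (K.inv_mem m.2), ?_⟩
      rw [Subgroup.mem_centralizer_iff]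
      intro x hx
      rw [Set.mem_singleton_iff] at hx
      subst hx
      calc x * ((n : G) * (m : G)⁻¹) = n * ((n : G)⁻¹ * x * n) * (m : G)⁻¹ := by group
        _ = n * ((m : G)⁻¹ * x * m) * (m : G)⁻¹ := by rw [h2]
        _ = (n : G) * (m : G)⁻¹ * x := by group
    rw [hfpf s hsH hs1, Subgroup.mem_bot] at h3
    apply Subtype.ext
    have : (n : G) = m := by
      calc (n : G) = (n : G) * (m : G)⁻¹ * m := by group
        _ = m := by rw [h3, one_mul]
    exact this.symm
  have hsurj : Function.Surjective f := Finite.surjective_of_injective hinj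
  obtain ⟨m, hm⟩ := hsurj ⟨k, hk⟩
  have hkm : k = (m : G)⁻¹ * (s * m * s) := (congrArg Subtype.val hm).symm
  rw [hkm]
  calc s * ((m : G)⁻¹ * (s * m * s)) * s = s * (m : G)⁻¹ * s * m * (s * s) := by group
    _ = s * (m : G)⁻¹ * s * m := by rw [hs2, mul_one]
    _ = s⁻¹ * (m : G)⁻¹ * s⁻¹ * m := by rw [hsinv]
    _ = ((m : G)⁻¹ * (s * m * s))⁻¹ := by group

/-- an involution of the complement is central in the complement. -/
lemma involution_central {G : Type*} [Group G] [Finite G] (K H : Subgroup G) [hKn : K.Normal]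
    (hK : K ≠ ⊥) (hfpf : ∀ h ∈ H, h ≠ 1 → K ⊓ Subgroup.centralizer {h} = ⊥)
    (t : G) (htH : t ∈ H) (ht2 : t * t = 1) (ht1 : t ≠ 1) (h : G) (hh : h ∈ H) :
    h * t = t * h := by
  have htinv : t⁻¹ = t := inv_eq_of_mul_eq_one_left ht2
  obtain ⟨t', ht'⟩ : ∃ t' : G, t' = h * t * h⁻¹ := ⟨_, rfl⟩
  have ht'H : t' ∈ H := ht' ▸ H.mul_mem (H.mul_mem hh htH) (H.inv_mem hh)
  have ht'2 : t' * t' = 1 := by
    rw [ht']
    calc h * t * h⁻¹ * (h * t * h⁻¹) = h * (t * t) * h⁻¹ := by group
      _ = 1 := by rw [ht2]; group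
  have ht'1 : t' ≠ 1 := by
    intro h1
    apply ht1
    rw [ht'] at h1
    calc t = h⁻¹ * (h * t * h⁻¹) * h := by group
      _ = 1 := by rw [h1]; group
  have hu : t * t' = 1 := by
    by_contra hne
    have huH : t * t' ∈ H := H.mul_mem htH ht'H
    have hKle : K ≤ K ⊓ Subgroup.centralizer {t * t'} := by
      intro k hk
      refine Subgroup.mem_inf.mpr ⟨hk, ?_⟩
      rw [Subgroup.mem_centralizer_iff]
      intro x hx
      rw [Set.mem_singleton_iff] at hx
      subst hx
      have h1 := inv_of_involution K H hfpf t' ht'H ht'2 ht'1 k hk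
      have h2 := inv_of_involution K H hfpf t htH ht2 ht1 k⁻¹ (K.inv_mem hk)
      rw [inv_inv] at h2
      have h3 : t * t' * k * (t' * t) = k := by
        calc t * t' * k * (t' * t) = t * (t' * k * t') * t := by group
          _ = k := by rw [h1, h2]
      have h4 : (t' * t) * (t * t') = 1 := by
        calc (t' * t) * (t * t') = t' * (t * t) * t' := by group
          _ = 1 := by rw [ht2, mul_one, ht'2]
      calc t * t' * k = t * t' * k * ((t' * t) * (t * t')) := by rw [h4, mul_one]
        _ = (t * t' * k * (t' * t)) * (t * t') := by group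
        _ = k * (t * t') := by rw [h3]
    rw [hfpf _ huH hne, le_bot_iff] at hKle
    exact hK hKle
  have h5 : t' = t := by
    calc t' = t⁻¹ * (t * t') := by group
      _ = t := by rw [hu, mul_one, htinv]
  rw [ht'] at h5
  calc h * t = (h * t * h⁻¹) * h := by group
    _ = t * h := by rw [h5]

/-- an element acting coprimely on a normal cyclic subgroup and centralizing its elements
of prime order centralizes it. -/
lemma cyclic_centralized {T : Type*} [Group T] [Finite T] (L : Subgroup T) [hLn : L.Normal]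
    [hLc : IsCyclic L] (b : T) (hcop : (orderOf b).Coprime (Nat.card L))
    (hpq : ∀ x ∈ L, (orderOf x).Prime → b * x = x * b) : ∀ x ∈ L, b * x = x * b := by
  classical
  have commL : ∀ x ∈ L, ∀ y ∈ L, Commute x y := by
    intro x hx y hy
    have hLL : L ≤ Subgroup.centralizer (L : Set T) :=
      Subgroup.le_centralizer_iff_isMulCommutative.mpr inferInstance
    exact (Subgroup.mem_centralizer_iff.mp (hLL hy)) x hx
  obtain ⟨A, hA⟩ : ∃ A : Subgroup T, A = Subgroup.zpowers b := ⟨_, rfl⟩
  have hAL : A ≤ Subgroup.normalizer (L : Set T) := by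
    rw [Subgroup.normalizer_eq_top_iff.mpr hLn]; exact le_top
  have hcardA : Nat.card A = orderOf b := by rw [hA, Nat.card_zpowers]
  have hsolv : Group.IsSolvable A := by rw [hA]; infer_instance
  have hstab := Cfsg.Agent.S0027.result A L hAL (by rw [hcardA]; exact hcop) (Or.inl hsolv)
  obtain ⟨M, hM⟩ : ∃ M : Subgroup T, M = ⁅L, A⁆ := ⟨_, rfl⟩
  rw [← hM] at hstab
  have hML : M ≤ L := by
    rw [hM]; exact Subgroup.le_normalizer_iff_commutator_le_left.mp hAL
  have hMbot : M = ⊥ := by
    by_contra hne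
    haveI : IsCyclic ↥M := Subgroup.isCyclic_of_le hML
    obtain ⟨g, hg⟩ := IsCyclic.exists_generator (α := ↥M)
    have hog : orderOf g = Nat.card M := orderOf_eq_card_of_forall_mem_zpowers hg
    have hn1 : Nat.card M ≠ 1 := fun h => hne (Subgroup.card_eq_one.mp h)
    obtain ⟨q, hq, hqn⟩ := Nat.exists_prime_and_dvd hn1
    obtain ⟨e, he⟩ := hqn
    have hnpos : 0 < Nat.card M := Nat.card_pos
    have hepos : 0 < e := by
      rcases Nat.eq_zero_or_pos e with h0 | h0
      · rw [h0, mul_zero] at he; omega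
      · exact h0
    have helt : e < Nat.card M := by
      rw [he]
      calc e = 1 * e := (one_mul e).symm
        _ < q * e := Nat.mul_lt_mul_of_pos_right hq.one_lt hepos
    -- every commutator has e-th power 1
    let E : Subgroup T :=
      { carrier := {z | z ∈ L ∧ z ^ e = 1}
        one_mem' := ⟨L.one_mem, one_pow e⟩
        mul_mem' := by
          rintro a c ⟨ha, ha'⟩ ⟨hc, hc'⟩
          exact ⟨L.mul_mem ha hc, by rw [(commL a ha c hc).mul_pow, ha', hc', one_mul]⟩
        inv_mem' := by
          rintro a ⟨ha, ha'⟩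
          exact ⟨L.inv_mem ha, by rw [inv_pow, ha', inv_one]⟩ }
    have hle : ⁅M, A⁆ ≤ E := by
      rw [Subgroup.commutator_le]
      intro x hx a ha
      have hxL : x ∈ L := hML hx
      have hy : Commute b (x ^ e) := by
        have hyL : x ^ e ∈ L := L.pow_mem hxL e
        have hyq : (x ^ e) ^ q = 1 := by
          rw [← pow_mul, mul_comm, ← he]
          have := pow_card_eq_one' (G := ↥M) (x := ⟨x, hx⟩)
          have h2 := congrArg Subtype.val this
          rw [Subgroup.coe_pow, Subgroup.coe_one] at h2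
          exact h2
        have hd : orderOf (x ^ e) ∣ q := orderOf_dvd_of_pow_eq_one hyq
        rcases (Nat.dvd_prime hq).mp hd with h1 | h1
        · rw [orderOf_eq_one_iff.mp h1]; exact Commute.one_right b
        · exact hpq _ hyL (h1 ▸ hq)
      have hay : Commute a (x ^ e) := by
        rw [hA] at ha
        obtain ⟨k, rfl⟩ := Subgroup.mem_zpowers_iff.mp ha
        exact hy.zpow_left k
      have hconjL : a * x⁻¹ * a⁻¹ ∈ L := hLn.conj_mem _ (L.inv_mem hxL) a
      refine ⟨?_, ?_⟩
      · have : ⁅x, a⁆ = x * (a * x⁻¹ * a⁻¹) := by rw [commutatorElement_def]; group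
        rw [this]; exact L.mul_mem hxL hconjL
      · have h1 : ⁅x, a⁆ = x * (a * x⁻¹ * a⁻¹) := by rw [commutatorElement_def]; group
        rw [h1, (commL x hxL _ hconjL).mul_pow]
        have h2 : (a * x⁻¹ * a⁻¹) ^ e = a * (x ^ e)⁻¹ * a⁻¹ := by
          rw [conj_pow, inv_pow]
        rw [h2]
        have h3 : a * (x ^ e)⁻¹ = (x ^ e)⁻¹ * a := (hay.inv_right).eq
        rw [h3]
        group
    have hgE : (g : T) ∈ E := hle (hstab.symm ▸ g.2)
    have hge : (g : T) ^ e = 1 := hgE.2
    have hge' : g ^ e = 1 := by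
      apply Subtype.ext
      rw [Subgroup.coe_pow, Subgroup.coe_one]
      exact hge
    have hdvd : orderOf g ∣ e := orderOf_dvd_of_pow_eq_one hge'
    rw [hog] at hdvd
    exact absurd (Nat.le_of_dvd hepos hdvd) (not_le.mpr helt)
  intro x hx
  have hLA : L ≤ Subgroup.centralizer (A : Set T) := by
    rw [← Subgroup.commutator_eq_bot_iff_le_centralizer, ← hM]; exact hMbot
  have hbA : b ∈ A := hA ▸ Subgroup.mem_zpowers b
  exact (Subgroup.mem_centralizer_iff.mp (hLA hx)) b hbA

/-- A Frobenius complement has nontrivial centre: if H ≠ 1 complements a nontrivial normal subgroup K and every nonidentity element of H has trivial centraliser in K, then the centre of H is nontrivial. -/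
theorem result {G : Type*} [Group G] [Finite G] (K H : Subgroup G) [K.Normal]
    (hc : Subgroup.IsComplement' K H) (hK : K ≠ ⊥) (hH : H ≠ ⊥) (hfpf : ∀ h ∈ H, h ≠ 1 → K ⊓ Subgroup.centralizer {h} = ⊥) :
    Subgroup.center H ≠ ⊥ := by
  classical
  haveI : Nontrivial ↥H := (Subgroup.nontrivial_iff_ne_bot H).mpr hH
  by_cases h2 : 2 ∣ Nat.card H
  · haveI : Fact (Nat.Prime 2) := ⟨Nat.prime_two⟩
    obtain ⟨t, ht⟩ := exists_prime_orderOf_dvd_card' (G := ↥H) 2 h2
    have ht1 : (t : G) ≠ 1 := by
      intro h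
      have h' : t = 1 := Subtype.ext h
      rw [h', orderOf_one] at ht
      norm_num at ht
    have ht2 : (t : G) * t = 1 := by
      have h' := pow_orderOf_eq_one t
      rw [ht, pow_two] at h'
      exact congrArg Subtype.val h'
    have htc : t ∈ Subgroup.center ↥H := by
      rw [Subgroup.mem_center_iff]
      intro h
      apply Subtype.ext
      exact involution_central K H hK hfpf t t.2 ht2 ht1 h h.2
    intro hbot
    rw [hbot, Subgroup.mem_bot] at htc
    exact ht1 (congrArg Subtype.val htc)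
  · haveI hZ : IsZGroup ↥H := by
      refine ⟨fun p hp P => ?_⟩
      haveI := Fact.mk hp
      rcases Cfsg.Agent.S0040.result K H hc hK hfpf p P with h | ⟨n, ⟨e⟩⟩
      · exact h
      · exfalso
        apply h2
        have hcard : Nat.card ↥(P : Subgroup ↥H) = 4 * 2 ^ n := by
          rw [Nat.card_congr e.toEquiv, Nat.card_eq_fintype_card, QuaternionGroup.card]
        have hdvd : Nat.card ↥(P : Subgroup ↥H) ∣ Nat.card ↥H := Subgroup.card_subgroup_dvd_card _
        have h2' : 2 ∣ Nat.card ↥(P : Subgroup ↥H) := by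
          rw [hcard]; exact ⟨2 * 2 ^ n, by ring⟩
        exact h2'.trans hdvd
    obtain ⟨L, hL⟩ : ∃ L : Subgroup ↥H, L = commutator ↥H := ⟨_, rfl⟩
    haveI hLn : L.Normal := hL ▸ inferInstance
    haveI hLc : IsCyclic L := hL ▸ IsZGroup.isCyclic_commutator ↥H
    have hLlt : L < ⊤ := hL ▸ IsZGroup.commutator_lt ↥H
    have hcopL : (Nat.card L).Coprime L.index := hL ▸ IsZGroup.coprime_commutator_index ↥H
    have hidx : L.index ≠ 1 := fun h => hLlt.ne (Subgroup.index_eq_one.mp h)
    obtain ⟨p, hp, hpidx⟩ := Nat.exists_prime_and_dvd hidx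
    haveI := Fact.mk hp
    have hpL : ¬ p ∣ Nat.card L := by
      intro hd
      exact hp.one_lt.ne' (Nat.eq_one_of_dvd_coprimes hcopL hd hpidx)
    have hpH : p ∣ Nat.card ↥H := hpidx.trans (Subgroup.index_dvd_card L)
    obtain ⟨b, hb⟩ := exists_prime_orderOf_dvd_card' (G := ↥H) p hpH
    have hsolvH : Group.IsSolvable ↥H := inferInstance
    obtain ⟨V, hVK, hVne, hVc, hHV⟩ :=
      Cfsg.Agent.Lib.Helper4.frobcomp_invariant_abelian K H hc hK hfpf H le_rfl hsolvH
    haveI : IsMulCommutative V := Subgroup.le_centralizer_iff_isMulCommutative.mp hVc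
    have hpq : ∀ x ∈ L, (orderOf x).Prime → b * x = x * b := by
      intro x hxL hxq
      obtain ⟨q, hq⟩ : ∃ q, q = orderOf x := ⟨_, rfl⟩
      rw [← hq] at hxq
      have hqL : q ∣ Nat.card L := by
        rw [hq]
        have := orderOf_dvd_natCard (⟨x, hxL⟩ : ↥L)
        rwa [Subgroup.orderOf_mk] at this
      have hpq' : p ≠ q := fun h => hpL (h ▸ hqL)
      obtain ⟨X, hX⟩ : ∃ X : Subgroup ↥H, X = Subgroup.zpowers x := ⟨_, rfl⟩
      obtain ⟨B, hB⟩ : ∃ B : Subgroup ↥H, B = Subgroup.zpowers b := ⟨_, rfl⟩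
      have hXL : X ≤ L := by rw [hX, Subgroup.zpowers_le]; exact hxL
      have hcX : Nat.card X = q := by rw [hX, Nat.card_zpowers, hq]
      have hcB : Nat.card B = p := by rw [hB, Nat.card_zpowers, hb]
      have hbX : b ∈ Subgroup.normalizer (X : Set ↥H) := by
        rw [Subgroup.mem_normalizer_iff_map_conj_eq]
        apply Cfsg.Agent.Lib.Helper7.eq_of_le_cyclic_of_card_eq L _ X ?_ hXL ?_
        · rintro _ ⟨y, hy, rfl⟩
          exact hLn.conj_mem y (hXL hy) b
        · exact Subgroup.card_map_of_injective (MulAut.conj b).injective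
      have hBX : B ≤ Subgroup.normalizer (X : Set ↥H) := by
        rw [hB, Subgroup.zpowers_le]; exact hbX
      have hcard : Nat.card ↥(X ⊔ B) = q * p := by
        have h1 := Cfsg.Agent.Lib.Helper2.card_sup_mul_card_inf B X hBX
        have h2 : B ⊓ X = ⊥ := disjoint_iff.mp (Subgroup.disjoint_of_coprime_natCard (by
          rw [hcB, hcX]; exact (Nat.coprime_primes hp hxq).mpr hpq'))
        rw [h2, Subgroup.card_bot, mul_one, hcB, hcX, sup_comm] at h1
        rw [h1, mul_comm]
      obtain ⟨A, hA⟩ : ∃ A : Subgroup G, A = (X ⊔ B).map H.subtype := ⟨_, rfl⟩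
      have hAH : A ≤ H := hA ▸ Subgroup.map_subtype_le _
      have hcardA : Nat.card A = q * p := by
        rw [hA, Subgroup.card_map_of_injective H.subtype_injective, hcard]
      have hcycA : IsCyclic A := Cfsg.Agent.S0041.result A V hVne (hAH.trans hHV)
        (fun a ha ha1 => by
          rw [eq_bot_iff, ← hfpf a (hAH ha) ha1]
          exact inf_le_inf_right _ hVK) (Or.inr ⟨q, p, hxq, hp, hcardA⟩)
      haveI hcycAT : IsCyclic ↥(X ⊔ B) := by
        have e := (X ⊔ B).equivMapOfInjective H.subtype H.subtype_injective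
        rw [← hA] at e
        exact isCyclic_of_surjective e.symm (MulEquiv.surjective _)
      have hcommAT : X ⊔ B ≤ Subgroup.centralizer ((X ⊔ B : Subgroup ↥H) : Set ↥H) :=
        Subgroup.le_centralizer_iff_isMulCommutative.mpr inferInstance
      have hxA : x ∈ X ⊔ B := le_sup_left (α := Subgroup ↥H) (hX ▸ Subgroup.mem_zpowers x)
      have hbA : b ∈ X ⊔ B := le_sup_right (α := Subgroup ↥H) (hB ▸ Subgroup.mem_zpowers b)
      exact (Subgroup.mem_centralizer_iff.mp (hcommAT hxA)) b hbA
    have hcent := cyclic_centralized L b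
      (by rw [hb]; exact (Nat.Prime.coprime_iff_not_dvd hp).mpr hpL) hpq
    have hbc : b ∈ Subgroup.center ↥H := by
      rw [Subgroup.mem_center_iff]
      intro h
      obtain ⟨l, hl⟩ : ∃ l, l = ⁅h, b⁆ := ⟨_, rfl⟩
      have hlL : l ∈ L := by
        rw [hl, hL, commutator_def]
        exact Subgroup.commutator_mem_commutator (Subgroup.mem_top h) (Subgroup.mem_top b)
      have hbl : Commute b l := hcent l hlL
      have hlb : l * b = h * b * h⁻¹ := by rw [hl, commutatorElement_def]; group
      have hpow : (l * b) ^ p = l ^ p := by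
        rw [(hbl.symm).mul_pow, ← hb, pow_orderOf_eq_one, mul_one]
      have hpow' : (l * b) ^ p = 1 := by
        rw [hlb, conj_pow, ← hb, pow_orderOf_eq_one]; group
      have hlp : l ^ p = 1 := by rw [← hpow]; exact hpow'
      have hd1 : orderOf l ∣ p := orderOf_dvd_of_pow_eq_one hlp
      have hd2 : orderOf l ∣ Nat.card L := by
        have := orderOf_dvd_natCard (⟨l, hlL⟩ : ↥L)
        rwa [Subgroup.orderOf_mk] at this
      have hl1 : l = 1 := by
        rcases (Nat.dvd_prime hp).mp hd1 with h1 | h1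
        · exact orderOf_eq_one_iff.mp h1
        · exact absurd (h1 ▸ hd2) hpL
      rw [hl1] at hl
      exact (commutatorElement_eq_one_iff_mul_comm.mp hl.symm)
    intro hbot
    rw [hbot, Subgroup.mem_bot] at hbc
    rw [hbc, orderOf_one] at hb
    exact hp.one_lt.ne hb

end Cfsg.Agent.S0069
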