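import Cfsg.Statements.S0070
import Mathlib
import Cfsg.Agent.Lib.Helper1.Fitting2

set_option autoImplicit false
open Cfsg

namespace Cfsg.Agent.S0070

open Cfsg.Agent.Lib.Helper1

theorem pCore_quot_le {G : Type*} [Group G] [Finite G] (p : ℕ) [hp : Fact p.Prime] :
    Cfsg.pCore p (G ⧸ frattini G) ≤ (Cfsg.pCore p G).map (QuotientGroup.mk' (frattini G)) := by
  classical
  set π := QuotientGroup.mk' (frattini G) with hπ
  have hπs : Function.Surjective π := QuotientGroup.mk'_surjective _
  set Nb : Subgroup (G ⧸ frattini G) := Cfsg.pCore p (G ⧸ frattini G) with hNb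
  haveI hNbn : Nb.Normal := pCore_normal p
  have hNbp : IsPGroup p Nb := pCore_isPGroup
  set N : Subgroup G := Nb.comap π with hN
  haveI hNn : N.Normal := Subgroup.Normal.comap hNbn π
  obtain ⟨P⟩ : Nonempty (Sylow p N) := inferInstance
  set P' : Subgroup G := (P : Subgroup N).map N.subtype with hP'
  -- the restriction N → Nb is surjective
  have hfs : Function.Surjective (π.subgroupComap Nb) :=
    MonoidHom.subgroupComap_surjective_of_surjective π Nb hπs
  have hQtop : ((P.mapSurjective hfs : Sylow p Nb) : Subgroup Nb) = ⊤ :=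
    ((P.mapSurjective hfs).is_maximal' (hNbp.to_subgroup ⊤) le_top).symm
  rw [Sylow.coe_mapSurjective] at hQtop
  have hmap : P'.map π = Nb := by
    apply le_antisymm
    · rintro _ ⟨x, ⟨y, hy, rfl⟩, rfl⟩
      exact y.2
    · intro z hz
      have : (⟨z, hz⟩ : Nb) ∈ (P : Subgroup N).map (π.subgroupComap Nb) := by
        rw [hQtop]; trivial
      obtain ⟨y, hy, hyz⟩ := this
      refine ⟨(y : G), ⟨y, hy, rfl⟩, ?_⟩
      have := congrArg Subtype.val hyz
      exact this
  have hNeq : N = P' ⊔ frattini G := by
    rw [hN, ← hmap, Subgroup.comap_map_eq, hπ, QuotientGroup.ker_mk']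
  have hfr := Sylow.normalizer_sup_eq_top P
  rw [← hP'] at hfr
  have hPle : P' ≤ Subgroup.normalizer (P' : Set G) := Subgroup.le_normalizer
  have h2 : Subgroup.normalizer (P' : Set G) ⊔ frattini G = ⊤ := by
    rw [eq_top_iff, ← hfr, hNeq, ← sup_assoc, sup_eq_left.2 hPle]
  have h3 : Subgroup.normalizer (P' : Set G) = ⊤ := frattini_nongenerating h2
  have hP'n : P'.Normal := Subgroup.normalizer_eq_top_iff.1 h3
  have hP'p : IsPGroup p P' := P.isPGroup'.map N.subtype
  rw [← hmap]
  exact Subgroup.map_mono (le_pCore P' hP'n hP'p)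


/-- The Fitting subgroup commutes with passing to the Frattini quotient: the Fitting subgroup of G modulo its Frattini subgroup is the image of the Fitting subgroup of G. -/
theorem result {G : Type*} [Group G] [Finite G] :
    Cfsg.fittingSubgroup (G ⧸ frattini G) = (Cfsg.fittingSubgroup G).map (QuotientGroup.mk' (frattini G)) := by
  classical
  set π := QuotientGroup.mk' (frattini G) with hπ
  have hπs : Function.Surjective π := QuotientGroup.mk'_surjective _
  apply le_antisymm
  · rw [fitting_eq_pCoreSup, fitting_eq_pCoreSup]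
    unfold pCoreSup
    apply iSup_le
    intro p
    haveI : Fact (p : ℕ).Prime := ⟨p.2⟩
    refine le_trans (pCore_quot_le (p : ℕ)) (Subgroup.map_mono ?_)
    exact le_iSup (fun q : Nat.Primes => Cfsg.pCore (q : ℕ) G) p
  · have hFn : (Cfsg.fittingSubgroup G).Normal := by rw [fitting_eq_pCoreSup]; exact pCoreSup_normal
    haveI hFnil : Group.IsNilpotent (Cfsg.fittingSubgroup G) := by
      rw [fitting_eq_pCoreSup]; exact pCoreSup_isNilpotent
    unfold Cfsg.fittingSubgroup
    apply le_sSup
    refine ⟨Subgroup.Normal.map hFn π hπs, ?_⟩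
    exact Group.nilpotent_of_surjective (π.subgroupMap (Cfsg.fittingSubgroup G))
      (MonoidHom.subgroupMap_surjective _ _)

end Cfsg.Agent.S0070
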