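import Cfsg.Statements.S0073
import Mathlib
import Cfsg.Agent.Lib.Helper1.NPC

set_option autoImplicit false
open Cfsg

namespace Cfsg.Agent.S0073


open Cfsg.Agent.Lib.Helper1

theorem sq_sub_one_eq (p : ℕ) (hp : 1 ≤ p) : p ^ 2 - 1 = (p - 1) * (p + 1) := by
  obtain ⟨m, rfl⟩ : ∃ m, p = m + 1 := ⟨p - 1, by omega⟩
  simp only [Nat.add_sub_cancel]
  have : (m + 1) ^ 2 = m * (m + 1 + 1) + 1 := by ring
  rw [this, Nat.add_sub_cancel]

theorem sq_sub_self_eq (p : ℕ) (hp : 1 ≤ p) : p ^ 2 - p = p * (p - 1) := by
  obtain ⟨m, rfl⟩ : ∃ m, p = m + 1 := ⟨p - 1, by omega⟩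
  simp only [Nat.add_sub_cancel]
  have : (m + 1) ^ 2 = (m + 1) * m + (m + 1) := by ring
  rw [this, Nat.add_sub_cancel]

/-- a nonabelian simple group has no Sylow subgroup (for a prime dividing the order) with
`N(P) ≤ C(P)` -/
theorem false_of_normalizer_le_centralizer {G : Type*} [Group G] [Finite G] [IsSimpleGroup G]
    (hG : ∃ x y : G, x * y ≠ y * x) {p : ℕ} [Fact p.Prime] (P : Sylow p G)
    (hp : p ∣ Nat.card G)
    (h : Subgroup.normalizer ((P : Subgroup G) : Set G) ≤ Subgroup.centralizer (P : Set G)) :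
    False := by
  have hK := MonoidHom.ker_transferSylow_isComplement' P h
  rcases Subgroup.Normal.eq_bot_or_eq_top (inferInstance : (MonoidHom.transferSylow P h).ker.Normal)
    with h0 | h1
  · rw [h0, Subgroup.isComplement'_bot_left] at hK
    obtain ⟨x, y, hxy⟩ := hG
    apply hxy
    have hx : x ∈ Subgroup.centralizer ((P : Subgroup G) : Set G) := by
      apply h
      rw [hK, Subgroup.normalizer_eq_top]
      trivial
    have hy : y ∈ (P : Subgroup G) := by rw [hK]; trivial
    exact (Subgroup.mem_centralizer_iff.1 hx y hy).symm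
  · rw [h1, Subgroup.isComplement'_top_left] at hK
    have h2 : p ∣ Nat.card (P : Subgroup G) := P.dvd_card_of_dvd_card hp
    rw [hK, Subgroup.card_bot, Nat.dvd_one] at h2
    exact (Nat.Prime.one_lt Fact.out).ne' h2


/-- For a finite non-abelian simple group, either the cube of the least prime divisor of the order divides the order, or 12 does. -/
theorem result {G : Type*} [Group G] [Finite G] [IsSimpleGroup G] (hG : ∃ x y : G, x * y ≠ y * x) : (Nat.card G).minFac ^ 3 ∣ Nat.card G ∨ 12 ∣ Nat.card G := by
  by_contra hcon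
  push Not at hcon
  obtain ⟨hcube, h12⟩ := hcon
  have hn1 : Nat.card G ≠ 1 := by
    intro h1
    obtain ⟨x, y, hxy⟩ := hG
    haveI := (Nat.card_eq_one_iff_unique.1 h1).1
    exact hxy (Subsingleton.elim _ _)
  set p := (Nat.card G).minFac with hp
  have hpp : p.Prime := Nat.minFac_prime hn1
  haveI := Fact.mk hpp
  have hpG : p ∣ Nat.card G := Nat.minFac_dvd _
  obtain ⟨P⟩ : Nonempty (Sylow p G) := inferInstance
  apply false_of_normalizer_le_centralizer hG P hpG
  obtain ⟨k, hk⟩ := (IsPGroup.iff_card).1 P.2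
  have hk' : Nat.card (P : Subgroup G) = p ^ k := hk
  have hk2 : k ≤ 2 := by
    by_contra hk3
    push Not at hk3
    apply hcube
    have h1 : p ^ 3 ∣ p ^ k := pow_dvd_pow p hk3
    rw [← hk'] at h1
    exact dvd_trans h1 (Subgroup.card_subgroup_dvd_card _)
  have hcyc : IsCyclic (P : Subgroup G) → Subgroup.normalizer ((P : Subgroup G) : Set G) ≤
      Subgroup.centralizer (P : Set G) := fun hc => IsCyclic.normalizer_le_centralizer hp.symm hc
  interval_cases k
  · apply hcyc
    rw [pow_zero] at hk'
    haveI := (Nat.card_eq_one_iff_unique.1 hk').1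
    infer_instance
  · apply hcyc
    rw [pow_one] at hk'
    exact isCyclic_of_prime_card hk'
  · haveI : IsMulCommutative (P : Subgroup G) := IsPGroup.isMulCommutative_of_card_eq_prime_sq hk'
    apply normalizer_le_centralizer_of_fixed P
    intro q hq hqp hqG F hmod
    have hpq : p < q := lt_of_le_of_ne (Nat.minFac_le_of_dvd hq.two_le hqG) (Ne.symm hqp)
    rw [← Subgroup.card_eq_iff_eq_top, hk']
    rw [hk'] at hmod
    have hd : Nat.card F ∣ p ^ 2 := hk' ▸ Subgroup.card_subgroup_dvd_card F
    obtain ⟨j, hj2, hj⟩ := (Nat.dvd_prime_pow hpp).1 hd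
    have hp2 : 2 ≤ p := hpp.two_le
    have hnot : ¬ q ∣ p - 1 := by
      intro hdv
      have := Nat.le_of_dvd (by omega) hdv
      omega
    rw [hj] at hmod ⊢
    interval_cases j
    · exfalso
      rw [pow_zero] at hmod
      have hle : 1 ≤ p ^ 2 := Nat.one_le_pow _ _ (by omega)
      have hdvd : q ∣ p ^ 2 - 1 := (Nat.modEq_iff_dvd' hle).1 hmod.symm
      have e : p ^ 2 - 1 = (p - 1) * (p + 1) := sq_sub_one_eq p (by omega)
      rw [e] at hdvd
      rcases (Nat.Prime.dvd_mul hq).1 hdvd with h | h
      · exact hnot h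
      · have hle' := Nat.le_of_dvd (by omega) h
        have hq' : q = p + 1 := by omega
        -- p and p + 1 both prime forces p = 2
        have hp2' : p = 2 := by
          rcases hpp.eq_two_or_odd with h2 | hodd
          · exact h2
          · exfalso
            have h2q : 2 ∣ q := by omega
            have := (Nat.prime_dvd_prime_iff_eq Nat.prime_two hq).1 h2q
            omega
        apply h12
        have h3 : 3 ∣ Nat.card G := by
          have : q = 3 := by omega
          rw [← this]; exact hqG
        have h4 : 4 ∣ Nat.card G := by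
          have h5 : p ^ 2 ∣ Nat.card G := by
            rw [← hk']; exact Subgroup.card_subgroup_dvd_card _
          rw [hp2'] at h5
          exact h5
        have hcop : Nat.Coprime 3 4 := by norm_num
        exact hcop.mul_dvd_of_dvd_of_dvd h3 h4
    · exfalso
      rw [pow_one] at hmod
      have hle : p ≤ p ^ 2 := by nlinarith
      have hdvd : q ∣ p ^ 2 - p := (Nat.modEq_iff_dvd' hle).1 hmod.symm
      have e : p ^ 2 - p = p * (p - 1) := sq_sub_self_eq p (by omega)
      rw [e] at hdvd
      rcases (Nat.Prime.dvd_mul hq).1 hdvd with h | h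
      · have := (Nat.prime_dvd_prime_iff_eq hq hpp).1 h
        exact hqp this
      · exact hnot h
    · rfl

end Cfsg.Agent.S0073
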