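import Cfsg.Statements.S0088
import Mathlib

set_option autoImplicit false
open Cfsg

namespace Cfsg.Agent.S0088

open scoped IsMulCommutative in
theorem aux {G : Type*} [Group G] [Finite G] (H : Subgroup G) [IsMulCommutative H]
    (hHall : Nat.Coprime (Nat.card H) H.index) (z : G) (hzH : z ∈ H)
    (hzC : z ∈ commutator G) (hzZ : z ∈ Subgroup.center G) : z = 1 := by
  have key : ∀ (k : ℕ) (g₀ : G), g₀⁻¹ * z ^ k * g₀ ∈ H → g₀⁻¹ * z ^ k * g₀ = z ^ k := by
    intro k g₀ _
    have hc : z ^ k ∈ Subgroup.center G := Subgroup.pow_mem _ hzZ k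
    have := Subgroup.mem_center_iff.1 hc g₀
    calc g₀⁻¹ * z ^ k * g₀ = g₀⁻¹ * (z ^ k * g₀) := by group
      _ = g₀⁻¹ * (g₀ * z ^ k) := by rw [this]
      _ = z ^ k := by group
  have h1 := MonoidHom.transfer_eq_pow (MonoidHom.id H) z key
  have h2 : MonoidHom.transfer (MonoidHom.id H) z = 1 := by
    have := Abelianization.commutator_subset_ker (MonoidHom.transfer (MonoidHom.id H)) hzC
    exact this
  rw [h2, MonoidHom.id_apply] at h1
  have h3 : z ^ H.index = 1 := (congrArg Subtype.val h1).symm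
  have h4 : z ^ Nat.card H = 1 := by
    have : (⟨z, hzH⟩ : H) ^ Nat.card H = 1 := pow_card_eq_one'
    have h' := congrArg Subtype.val this
    rw [Subgroup.coe_pow] at h'
    exact h'
  have h5 : orderOf z ∣ Nat.gcd (Nat.card H) H.index :=
    Nat.dvd_gcd (orderOf_dvd_of_pow_eq_one h4) (orderOf_dvd_of_pow_eq_one h3)
  rw [hHall.gcd_eq_one, Nat.dvd_one, orderOf_eq_one_iff] at h5
  exact h5


/-- An abelian Hall subgroup meets G' ∩ Z(G) trivially. -/
theorem result {G : Type*} [Group G] [Finite G] (H : Subgroup G) (hc : IsMulCommutative H) (hHall : Nat.Coprime (Nat.card H) H.index) : H ⊓ commutator G ⊓ Subgroup.center G = ⊥ := by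
  haveI := hc
  rw [eq_bot_iff]
  intro z hz
  obtain ⟨hz1, hzZ⟩ := Subgroup.mem_inf.1 hz
  obtain ⟨hzH, hzC⟩ := Subgroup.mem_inf.1 hz1
  rw [Subgroup.mem_bot]
  exact aux H hHall z hzH hzC hzZ

end Cfsg.Agent.S0088
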