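import Cfsg.Statements.S0090
import Mathlib
import Cfsg.Agent.S0088
import Cfsg.Agent.Lib.Helper1.CoprimeAbelian
import Cfsg.Agent.Lib.Helper1.Frob

set_option autoImplicit false
open Cfsg

namespace Cfsg.Agent.S0090


open Cfsg.Agent.Lib.Helper1
open scoped commutatorElement

theorem main {G : Type*} [Group G] [Finite G] (A : Subgroup G) [A.Normal] [IsMulCommutative A]
    (hHall : Nat.Coprime (Nat.card A) A.index) :
    ⁅A, (⊤ : Subgroup G)⁆ = commutator G ⊓ A ∧
    (Subgroup.center G ⊓ A) ⊔ ⁅A, (⊤ : Subgroup G)⁆ = A := by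
  obtain ⟨K, hK⟩ := Subgroup.exists_right_complement'_of_coprime hHall
  have hAV : K ≤ Subgroup.normalizer (A : Set G) := by
    rw [Subgroup.normalizer_eq_top]; exact le_top
  have hcop : (Nat.card K).Coprime (Nat.card A) := by
    rw [← hK.symm.index_eq_card]; exact hHall.symm
  have hcomm : ∀ a ∈ A, ∀ b ∈ A, a * b = b * a := by
    intro a ha b hb
    have := mul_comm' (⟨a, ha⟩ : A) ⟨b, hb⟩
    exact congrArg Subtype.val this
  have h3 := fixed_sup_commutator_eq K A hAV hcop
  -- fixed points = centre part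
  have h4 : A ⊓ Subgroup.centralizer (K : Set G) = Subgroup.center G ⊓ A := by
    apply le_antisymm
    · intro x hx
      obtain ⟨hxA, hxC⟩ := Subgroup.mem_inf.1 hx
      refine Subgroup.mem_inf.2 ⟨?_, hxA⟩
      rw [Subgroup.mem_center_iff]
      intro g
      obtain ⟨a, ha, k, hk, rfl⟩ := exists_mul_of_isComplement' hK g
      have e1 := hcomm a ha x hxA
      have e2 := Subgroup.mem_centralizer_iff.1 hxC k hk
      calc a * k * x = a * (k * x) := by group
        _ = a * (x * k) := by rw [e2]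
        _ = (a * x) * k := by group
        _ = (x * a) * k := by rw [e1]
        _ = x * (a * k) := by group
    · intro x hx
      obtain ⟨hxZ, hxA⟩ := Subgroup.mem_inf.1 hx
      refine Subgroup.mem_inf.2 ⟨hxA, ?_⟩
      exact Subgroup.center_le_centralizer _ hxZ
  have h5 : ⁅A, K⁆ = ⁅A, (⊤ : Subgroup G)⁆ := by
    apply le_antisymm
    · exact Subgroup.commutator_mono le_rfl le_top
    · rw [Subgroup.commutator_le]
      intro a ha g _
      obtain ⟨a', ha', k, hk, rfl⟩ := exists_mul_of_isComplement' hK g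
      have hck : ⁅a, k⁆ ∈ A := by
        rw [commutatorElement_def]
        have : k * a⁻¹ * k⁻¹ ∈ A := ‹A.Normal›.conj_mem _ (A.inv_mem ha) k
        have := A.mul_mem ha this
        convert this using 1
        group
      have e : ⁅a, a' * k⁆ = ⁅a, k⁆ := by
        have e1 := hcomm a ha a' ha'
        have e2 := hcomm a' ha' _ hck
        calc ⁅a, a' * k⁆ = (a * a') * k * a⁻¹ * k⁻¹ * a'⁻¹ := by
              rw [commutatorElement_def]; group
          _ = (a' * a) * k * a⁻¹ * k⁻¹ * a'⁻¹ := by rw [e1]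
          _ = (a' * ⁅a, k⁆) * a'⁻¹ := by rw [commutatorElement_def]; group
          _ = (⁅a, k⁆ * a') * a'⁻¹ := by rw [e2]
          _ = ⁅a, k⁆ := by group
      rw [e]
      exact Subgroup.commutator_mem_commutator ha hk
  rw [h4, h5] at h3
  have hBA : ⁅A, (⊤ : Subgroup G)⁆ ≤ A := Subgroup.commutator_le_left _ _
  have hBG : ⁅A, (⊤ : Subgroup G)⁆ ≤ commutator G := by
    rw [commutator_def]
    exact Subgroup.commutator_mono le_top le_rfl
  refine ⟨?_, h3⟩
  apply le_antisymm
  · exact le_inf hBG hBA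
  · intro x hx
    obtain ⟨hxG, hxA⟩ := Subgroup.mem_inf.1 hx
    have hx' : x ∈ (Subgroup.center G ⊓ A) ⊔ ⁅A, (⊤ : Subgroup G)⁆ := by rw [h3]; exact hxA
    rw [Subgroup.mem_sup_of_normal_right] at hx'
    obtain ⟨z, hz, b, hb, rfl⟩ := hx'
    obtain ⟨hzZ, hzA⟩ := Subgroup.mem_inf.1 hz
    have hzG : z ∈ commutator G := by
      have : z = (z * b) * b⁻¹ := by group
      rw [this]
      exact (commutator G).mul_mem hxG ((commutator G).inv_mem (hBG hb))
    have hz1 : z = 1 := Cfsg.Agent.S0088.aux A hHall z hzA hzG hzZ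
    rw [hz1, one_mul]
    exact hb


/-- An abelian normal Hall subgroup A splits as the internal direct product of G' ∩ A and Z(G) ∩ A, and [A, G] = G' ∩ A. -/
theorem result {G : Type*} [Group G] [Finite G] (A : Subgroup G) [A.Normal] (hc : IsMulCommutative A) (hHall : Nat.Coprime (Nat.card A) A.index) : ⁅A, (⊤ : Subgroup G)⁆ = commutator G ⊓ A ∧ (commutator G ⊓ A) ⊓ (Subgroup.center G ⊓ A) = ⊥ ∧ (commutator G ⊓ A) ⊔ (Subgroup.center G ⊓ A) = A := by
  haveI := hc
  obtain ⟨h1, h2⟩ := main A hHall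
  refine ⟨h1, ?_, ?_⟩
  · have := Cfsg.Agent.S0088.result A hc hHall
    rw [eq_bot_iff] at this ⊢
    intro x hx
    obtain ⟨hx1, hx2⟩ := Subgroup.mem_inf.1 hx
    obtain ⟨hxG, hxA⟩ := Subgroup.mem_inf.1 hx1
    obtain ⟨hxZ, _⟩ := Subgroup.mem_inf.1 hx2
    exact this (Subgroup.mem_inf.2 ⟨Subgroup.mem_inf.2 ⟨hxA, hxG⟩, hxZ⟩)
  · rw [← h1, sup_comm]
    exact h2

end Cfsg.Agent.S0090
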