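import Cfsg.Statements.S0075
import Mathlib
import Cfsg.Agent.S0074
import Cfsg.Agent.S0090
import Cfsg.Agent.Lib.Helper3.PRes

set_option autoImplicit false
open Cfsg

namespace Cfsg.Agent.S0075


open Cfsg.Agent.Lib.Helper3
open scoped commutatorElement

/-- `[T, N(T)] = N' ∩ T` for an abelian Sylow subgroup -/
theorem comm_normalizer {G : Type*} [Group G] [Finite G] {p : ℕ} [Fact p.Prime] (T : Sylow p G)
    [IsMulCommutative T] :
    ⁅(T : Subgroup G), Subgroup.normalizer (T : Set G)⁆ =
      ⁅Subgroup.normalizer (T : Set G), Subgroup.normalizer (T : Set G)⁆ ⊓ (T : Subgroup G) := by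
  set N := Subgroup.normalizer ((T : Subgroup G) : Set G) with hN
  have hTN : (T : Subgroup G) ≤ N := Subgroup.le_normalizer
  haveI : ((T : Subgroup G).subgroupOf N).Normal := Subgroup.normal_in_normalizer
  have hcardT : Nat.card ((T : Subgroup G).subgroupOf N) = Nat.card (T : Subgroup G) :=
    Nat.card_congr (Subgroup.subgroupOfEquivOfLe hTN).toEquiv
  have hHall : Nat.Coprime (Nat.card ((T : Subgroup G).subgroupOf N))
      ((T : Subgroup G).subgroupOf N).index := by
    rw [hcardT]
    obtain ⟨k, hk⟩ := (IsPGroup.iff_card).1 T.2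
    rw [hk]
    apply Nat.Coprime.pow_left
    rw [Nat.Prime.coprime_iff_not_dvd Fact.out]
    intro hdvd
    have h1 : ((T : Subgroup G).subgroupOf N).index ∣ (T : Subgroup G).index :=
      Subgroup.relIndex_dvd_index_of_le hTN
    exact T.not_dvd_index (dvd_trans hdvd h1)
  have h := (Cfsg.Agent.S0090.result ((T : Subgroup G).subgroupOf N) inferInstance hHall).1
  have h' := congrArg (Subgroup.map N.subtype) h
  rw [Subgroup.map_commutator, Subgroup.map_subgroupOf_eq_of_le hTN, ← MonoidHom.range_eq_map,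
    Subgroup.range_subtype, Subgroup.map_inf _ _ _ N.subtype_injective,
    Subgroup.map_subgroupOf_eq_of_le hTN, Subgroup.map_subtype_commutator] at h'
  exact h'


/-- For an abelian Sylow p-subgroup T, its intersection with the subgroup generated by the elements of order prime to p is the commutator of T with its normalizer. -/
theorem result {G : Type*} [Group G] [Finite G] {p : ℕ} [Fact p.Prime] (T : Sylow p G) (hT : IsMulCommutative T) : (T : Subgroup G) ⊓ Cfsg.pResidual p G = ⁅(T : Subgroup G), Subgroup.normalizer (T : Set G)⁆ := by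
  haveI := hT
  haveI hn := pRes_normal p G
  rw [comm_normalizer T, ← Cfsg.Agent.S0074.result T hT, inf_comm]
  -- G' ≤ O^p(G)
  have hsup : (T : Subgroup G) ⊔ pResidual p G = ⊤ := sup_pRes_eq_top p _ T.not_dvd_index
  have hcomm : ∀ a ∈ (T : Subgroup G), ∀ b ∈ (T : Subgroup G), a * b = b * a := by
    intro a ha b hb
    have := mul_comm' (⟨a, ha⟩ : (T : Subgroup G)) ⟨b, hb⟩
    exact congrArg Subtype.val this
  have hG' : commutator G ≤ pResidual p G := by
    rw [commutator_def, Subgroup.commutator_le]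
    intro x _ y _
    have hx : x ∈ (T : Subgroup G) ⊔ pResidual p G := by rw [hsup]; trivial
    have hy : y ∈ (T : Subgroup G) ⊔ pResidual p G := by rw [hsup]; trivial
    rw [Subgroup.mem_sup_of_normal_right] at hx hy
    obtain ⟨t₁, ht₁, r₁, hr₁, rfl⟩ := hx
    obtain ⟨t₂, ht₂, r₂, hr₂, rfl⟩ := hy
    rw [← QuotientGroup.eq_one_iff]
    show QuotientGroup.mk' (pResidual p G) ⁅t₁ * r₁, t₂ * r₂⁆ = 1
    rw [map_commutatorElement, commutatorElement_eq_one_iff_commute]
    show Commute ((t₁ * r₁ : G) : G ⧸ pResidual p G) ((t₂ * r₂ : G) : G ⧸ pResidual p G)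
    have e1 : ((t₁ * r₁ : G) : G ⧸ pResidual p G) = (t₁ : G ⧸ pResidual p G) := by
      rw [QuotientGroup.mk_mul, (QuotientGroup.eq_one_iff r₁).2 hr₁, mul_one]
    have e2 : ((t₂ * r₂ : G) : G ⧸ pResidual p G) = (t₂ : G ⧸ pResidual p G) := by
      rw [QuotientGroup.mk_mul, (QuotientGroup.eq_one_iff r₂).2 hr₂, mul_one]
    rw [e1, e2]
    show (t₁ : G ⧸ pResidual p G) * t₂ = t₂ * t₁
    rw [← QuotientGroup.mk_mul, ← QuotientGroup.mk_mul, hcomm t₁ ht₁ t₂ ht₂]
  apply le_antisymm
  · intro t ht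
    obtain ⟨htR, htT⟩ := Subgroup.mem_inf.1 ht
    refine Subgroup.mem_inf.2 ⟨?_, htT⟩
    by_contra hnot
    have hgp : ∃ k : ℕ, orderOf t = p ^ k := by
      obtain ⟨k, hk⟩ := (IsPGroup.iff_orderOf.1 T.2) ⟨t, htT⟩
      exact ⟨k, by rw [← hk, Subgroup.orderOf_mk]⟩
    exact not_mem_pRes_sup_commutator p t hgp hnot (Subgroup.mem_sup_left htR)
  · exact inf_le_inf_right _ hG'

end Cfsg.Agent.S0075
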