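import Cfsg.Statements.S0076
import Mathlib

set_option autoImplicit false
open Cfsg

namespace Cfsg.Agent.S0076

/-- conjugate of a set -/
abbrev cj {G : Type*} [Group G] (a : G) (S : Set G) : Set G := (fun y => a * y * a⁻¹) '' S

theorem cj_mul {G : Type*} [Group G] (a b : G) (S : Set G) : cj (a * b) S = cj a (cj b S) := by
  unfold cj
  rw [Set.image_image]
  congr 1
  funext y
  group

theorem cj_one {G : Type*} [Group G] (S : Set G) : cj (1 : G) S = S := by
  unfold cj
  simp

theorem mem_normalizer_iff_cj {G : Type*} [Group G] (a : G) (S : Set G) :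
    a ∈ Subgroup.normalizer S ↔ cj a S = S := by
  rw [Subgroup.mem_normalizer_iff_conj_image_eq]
  rfl


/-- Two P-invariant subsets of a Sylow p-subgroup P that are conjugate in G are conjugate under the normalizer of P. -/
theorem result {G : Type*} [Group G] [Finite G] {p : ℕ} [Fact p.Prime] (P : Sylow p G) (X Y : Set G) (hXP : X ⊆ P) (hYP : Y ⊆ P) (hX : ∀ x ∈ P, (fun y => x * y * x⁻¹) '' X = X) (hY : ∀ x ∈ P, (fun y => x * y * x⁻¹) '' Y = Y) (g : G) (hg : (fun y => g * y * g⁻¹) '' X = Y) : ∃ n ∈ Subgroup.normalizer (P : Set G), (fun y => n * y * n⁻¹) '' X = Y := by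
  have hXg : cj g⁻¹ Y = X := by
    have : cj g X = Y := hg
    rw [← this, ← cj_mul, inv_mul_cancel, cj_one]
  have h1 : (P : Subgroup G) ≤ Subgroup.normalizer Y := by
    intro x hx
    rw [mem_normalizer_iff_cj]
    exact hY x hx
  have h2 : ((g • P : Sylow p G) : Subgroup G) ≤ Subgroup.normalizer Y := by
    rintro - ⟨z, hz, rfl⟩
    rw [mem_normalizer_iff_cj]
    show cj (g * z * g⁻¹) Y = Y
    rw [cj_mul, cj_mul, hXg]
    have : cj z X = X := hX z hz
    rw [this]
    exact hg
  obtain ⟨h, hh⟩ :=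
    MulAction.exists_smul_eq (Subgroup.normalizer Y) ((g • P).subtype h2) (P.subtype h1)
  simp_rw [Sylow.smul_subtype, Subgroup.smul_def, smul_smul] at hh
  refine ⟨h * g, Sylow.smul_eq_iff_mem_normalizer.mp (Sylow.subtype_injective hh), ?_⟩
  show cj (h.1 * g) X = Y
  rw [cj_mul]
  have : cj g X = Y := hg
  rw [this]
  exact (mem_normalizer_iff_cj h.1 Y).1 h.2

end Cfsg.Agent.S0076
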