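import Cfsg.Statements.S0077
import Mathlib
import Cfsg.Agent.Lib.Helper3.SylowAux

set_option autoImplicit false
open Cfsg

namespace Cfsg.Agent.S0077

open Cfsg.Agent.Lib.Helper3
open scoped commutatorElement

/-- fusion of elements of `P` is controlled by the normalizer of a weakly closed central `Z` -/
theorem fusion_in_normalizer {G : Type*} [Group G] [Finite G] {p : ℕ} [Fact p.Prime]
    (P : Sylow p G) (Z : Subgroup G) (hZ : Z ≤ Subgroup.centralizer (P : Set G))
    (hW : Cfsg.IsWeaklyClosed Z P) (x u : G) (hx : x ∈ P) (hy : u * x * u⁻¹ ∈ P) :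
    ∃ n ∈ Subgroup.normalizer (Z : Set G), n * x * n⁻¹ = u * x * u⁻¹ := by
  obtain ⟨hZP, hwc⟩ := hW
  have hZp : IsPGroup p Z := P.isPGroup'.to_le hZP
  -- Z and u⁻¹ Z u both centralize x
  have hA : Z ≤ Subgroup.centralizer ({x} : Set G) := by
    intro z hz
    rw [Subgroup.mem_centralizer_singleton_iff]
    exact (Subgroup.mem_centralizer_iff.1 (hZ hz) x hx).symm
  have hB : Z.map (MulAut.conj u⁻¹).toMonoidHom ≤ Subgroup.centralizer ({x} : Set G) := by
    intro w hw
    rw [mem_map_conj, inv_inv] at hw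
    rw [Subgroup.mem_centralizer_singleton_iff]
    have h1 := Subgroup.mem_centralizer_iff.1 (hZ hw) _ hy
    -- h1 : (u x u⁻¹) * (u w u⁻¹) = (u w u⁻¹) * (u x u⁻¹)
    calc w * x = u⁻¹ * ((u * w * u⁻¹) * (u * x * u⁻¹)) * u := by group
      _ = u⁻¹ * ((u * x * u⁻¹) * (u * w * u⁻¹)) * u := by rw [h1]
      _ = x * w := by group
  obtain ⟨c, hc, R, -, hRp, hZR, hBR⟩ :=
    exists_conj_le_common_pgroup (Subgroup.centralizer ({x} : Set G)) Z
      (Z.map (MulAut.conj u⁻¹).toMonoidHom) hA hB hZp (hZp.map _)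
  obtain ⟨g, hg⟩ := exists_le_conj_sylow P R hRp
  -- g⁻¹ normalizes Z
  have h1 : Z.map (MulAut.conj g⁻¹).toMonoidHom = Z := by
    apply hwc
    rw [map_conj_le_iff, inv_inv]
    exact le_trans hZR hg
  have h2 : Z.map (MulAut.conj (g⁻¹ * (c * u⁻¹))).toMonoidHom = Z := by
    apply hwc
    rw [← map_conj_map_conj, ← map_conj_map_conj, map_conj_le_iff, inv_inv]
    exact le_trans hBR hg
  have hn1 : g⁻¹ ∈ Subgroup.normalizer (Z : Set G) :=
    (Subgroup.mem_normalizer_iff_map_conj_eq (H := Z)).2 h1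
  have hn2 : g⁻¹ * (c * u⁻¹) ∈ Subgroup.normalizer (Z : Set G) :=
    (Subgroup.mem_normalizer_iff_map_conj_eq (H := Z)).2 h2
  have hn3 : c * u⁻¹ ∈ Subgroup.normalizer (Z : Set G) := by
    have := Subgroup.mul_mem _ (Subgroup.inv_mem _ hn1) hn2
    have e : (g⁻¹)⁻¹ * (g⁻¹ * (c * u⁻¹)) = c * u⁻¹ := by group
    rwa [e] at this
  refine ⟨u * c⁻¹, ?_, ?_⟩
  · have := Subgroup.inv_mem _ hn3
    have e : (c * u⁻¹)⁻¹ = u * c⁻¹ := by group
    rwa [e] at this
  · have hcx := Subgroup.mem_centralizer_singleton_iff.1 hc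
    have e : c⁻¹ * x * c = x := by
      calc c⁻¹ * x * c = c⁻¹ * (x * c) := by group
        _ = c⁻¹ * (c * x) := by rw [hcx]
        _ = x := by group
    calc u * c⁻¹ * x * (u * c⁻¹)⁻¹ = u * (c⁻¹ * x * c) * u⁻¹ := by group
      _ = u * x * u⁻¹ := by rw [e]


/-- If a subgroup Z of the centre of a Sylow p-subgroup P is weakly closed in P, then P meets the derived subgroup of G exactly where it meets the derived subgroup of the normalizer of Z. -/
theorem result {G : Type*} [Group G] [Finite G] {p : ℕ} [Fact p.Prime] (P : Sylow p G) (Z : Subgroup G) (hZ : Z ≤ Subgroup.centralizer (P : Set G)) (hW : Cfsg.IsWeaklyClosed Z P) : commutator G ⊓ (P : Subgroup G) = ⁅Subgroup.normalizer (Z : Set G), Subgroup.normalizer (Z : Set G)⁆ ⊓ (P : Subgroup G) := by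
  apply le_antisymm
  · rw [Subgroup.commutator_inf_eq_focalSubgroup P]
    apply le_inf _ (Subgroup.focalSubgroup_le _)
    rw [Subgroup.focalSubgroup_def, Subgroup.closure_le]
    rintro g ⟨hgP, x, hxP, u, rfl⟩
    rw [commutatorElement_def] at hgP ⊢
    have hy : u * x * u⁻¹ ∈ (P : Subgroup G) := by
      have h2 : x⁻¹ * (x * u * x⁻¹ * u⁻¹) ∈ (P : Subgroup G) :=
        Subgroup.mul_mem _ (Subgroup.inv_mem _ hxP) hgP
      have h3 := Subgroup.inv_mem _ h2
      have e : (x⁻¹ * (x * u * x⁻¹ * u⁻¹))⁻¹ = u * x * u⁻¹ := by group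
      rwa [e] at h3
    obtain ⟨n, hn, hnx⟩ := fusion_in_normalizer P Z hZ hW x u hxP hy
    have e : x * u * x⁻¹ * u⁻¹ = ⁅x, n⁆ := by
      rw [commutatorElement_def]
      have : x * u * x⁻¹ * u⁻¹ = x * (u * x * u⁻¹)⁻¹ := by group
      rw [this, ← hnx]
      group
    rw [SetLike.mem_coe, e]
    -- x ∈ P normalizes Z since it centralizes Z
    have hxN : x ∈ Subgroup.normalizer (Z : Set G) :=
      Subgroup.centralizer_le_normalizer _ ((Subgroup.le_centralizer_iff.1 hZ) hxP)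
    exact Subgroup.commutator_mem_commutator hxN hn
  · apply inf_le_inf_right
    rw [commutator_def]
    exact Subgroup.commutator_mono le_top le_top

end Cfsg.Agent.S0077
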