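import Mathlib
import Cfsg.Statements.S0081
import Cfsg.Agent.Lib.Helper1.NilpCenter
import Cfsg.Agent.Lib.Helper5.Frattini
import Cfsg.Agent.Lib.Helper4.Frobenius2

set_option autoImplicit false
set_option maxHeartbeats 800000

open Cfsg

namespace Cfsg.Agent.S0081

/-- In a finite `p`-group, below a nontrivial normal subgroup `R` there is a normal subgroup `Q`
with `R/Q` nontrivial, central and of exponent `p`. -/
theorem exists_top_central {Pt : Type*} [Group Pt] [Finite Pt] {p : ℕ} [hp : Fact p.Prime]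
    (hP : IsPGroup p Pt) (R : Subgroup Pt) [hRn : R.Normal] (hR : R ≠ ⊥) :
    ∃ Q : Subgroup Pt, ∃ hQ : Q.Normal, Q ≤ R ∧ (∃ r0 ∈ R, r0 ∉ Q) ∧
      (∀ u ∈ R, ∀ x : Pt ⧸ Q, (QuotientGroup.mk' Q u) * x = x * (QuotientGroup.mk' Q u)) ∧
      (∀ u ∈ R, (QuotientGroup.mk' Q u) ^ p = 1) := by
  classical
  obtain ⟨Q, -, hQmax⟩ := Finite.exists_le_maximal (p := fun S : Subgroup Pt => S.Normal ∧ S < R)
    (a := ⊥) ⟨inferInstance, bot_lt_iff_ne_bot.2 hR⟩
  obtain ⟨⟨hQn, hQlt⟩, hQm⟩ := hQmax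
  haveI := hQn
  obtain ⟨r0, hr0R, hr0Q⟩ := SetLike.exists_of_lt hQlt
  refine ⟨Q, hQn, hQlt.le, ⟨r0, hr0R, hr0Q⟩, ?_⟩
  -- the quotient
  have hX : IsPGroup p (Pt ⧸ Q) := hP.to_quotient Q
  haveI : Group.IsNilpotent (Pt ⧸ Q) := hX.isNilpotent
  set Zs : Subgroup (Pt ⧸ Q) := R.map (QuotientGroup.mk' Q) with hZs
  haveI : Zs.Normal := hRn.map _ (QuotientGroup.mk'_surjective Q)
  have hZne : Zs ≠ ⊥ := by
    intro h
    have : QuotientGroup.mk' Q r0 ∈ Zs := Subgroup.mem_map_of_mem _ hr0R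
    rw [h, Subgroup.mem_bot] at this
    exact hr0Q ((QuotientGroup.eq_one_iff r0).1 this)
  obtain ⟨x, hxZ, hxc, hx1⟩ := Cfsg.Agent.Lib.Helper1.exists_mem_center_of_isNilpotent Zs hZne
  obtain ⟨k, hk⟩ := (IsPGroup.iff_orderOf.1 hX) x
  have hk0 : k ≠ 0 := by
    rintro rfl
    rw [pow_zero, orderOf_eq_one_iff] at hk
    exact hx1 hk
  obtain ⟨j, rfl⟩ : ∃ j, k = j + 1 := ⟨k - 1, by omega⟩
  set x' := x ^ (p ^ j) with hx'
  have hx'1 : x' ≠ 1 := by
    apply pow_ne_one_of_lt_orderOf (pow_pos hp.out.pos j).ne'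
    rw [hk]
    exact Nat.pow_lt_pow_right hp.out.one_lt (Nat.lt_succ_self j)
  have hx'p : x' ^ p = 1 := by
    rw [hx', ← pow_mul, ← pow_succ, ← hk, pow_orderOf_eq_one]
  have hx'Z : x' ∈ Zs := Zs.pow_mem hxZ _
  have hx'c : x' ∈ Subgroup.center (Pt ⧸ Q) := Subgroup.pow_mem _ hxc _
  -- the preimage of ⟨x'⟩
  set S : Subgroup Pt := (Subgroup.zpowers x').comap (QuotientGroup.mk' Q) with hS
  have hzn : (Subgroup.zpowers x').Normal := by
    refine ⟨fun y hy g => ?_⟩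
    obtain ⟨i, rfl⟩ := hy
    have hc : (x' ^ i) ∈ Subgroup.center (Pt ⧸ Q) := Subgroup.zpow_mem _ hx'c _
    have : g * x' ^ i * g⁻¹ = x' ^ i := by
      rw [Subgroup.mem_center_iff] at hc
      rw [hc g, mul_inv_cancel_right]
    rw [this]
    exact ⟨i, rfl⟩
  have hSn : S.Normal := hzn.comap _
  have hQS : Q ≤ S := by
    intro q hq
    rw [hS, Subgroup.mem_comap]
    have : QuotientGroup.mk' Q q = 1 := (QuotientGroup.eq_one_iff q).2 hq
    rw [this]
    exact Subgroup.one_mem _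
  have hSR : S ≤ R := by
    intro s hs
    rw [hS, Subgroup.mem_comap] at hs
    have h1 : QuotientGroup.mk' Q s ∈ Zs := by
      obtain ⟨i, hi⟩ := hs
      rw [← hi]
      exact Zs.zpow_mem hx'Z i
    obtain ⟨r, hrR, hr⟩ := h1
    have h2 : r⁻¹ * s ∈ Q := QuotientGroup.eq.1 hr
    have : s = r * (r⁻¹ * s) := by group
    rw [this]
    exact R.mul_mem hrR (hQlt.le h2)
  obtain ⟨r1, hr1R, hr1⟩ := hx'Z
  have hr1S : r1 ∈ S := by
    rw [hS, Subgroup.mem_comap, hr1]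
    exact Subgroup.mem_zpowers x'
  have hr1Q : r1 ∉ Q := by
    intro h
    apply hx'1
    rw [← hr1]
    exact (QuotientGroup.eq_one_iff r1).2 h
  have hSeq : S = R := by
    by_contra hne
    have hlt : S < R := lt_of_le_of_ne hSR hne
    exact hr1Q (hQm ⟨hSn, hlt⟩ hQS hr1S)
  have hall : ∀ u ∈ R, ∃ i : ℤ, x' ^ i = QuotientGroup.mk' Q u := by
    intro u hu
    rw [← hSeq, hS, Subgroup.mem_comap] at hu
    exact hu
  refine ⟨?_, ?_⟩
  · intro u hu y
    obtain ⟨i, hi⟩ := hall u hu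
    rw [← hi]
    have hc : (x' ^ i) ∈ Subgroup.center (Pt ⧸ Q) := Subgroup.zpow_mem _ hx'c _
    rw [Subgroup.mem_center_iff] at hc
    exact (hc y).symm
  · intro u hu
    obtain ⟨i, hi⟩ := hall u hu
    rw [← hi, ← zpow_natCast, ← zpow_mul, mul_comm, zpow_mul, zpow_natCast, hx'p, one_zpow]


open scoped IsMulCommutative in
theorem key {G : Type*} [Group G] [Finite G] {p : ℕ} [hp : Fact p.Prime] (P : Sylow p G)
    (N : Subgroup G) [hN : N.Normal]
    (hgen : Subgroup.closure {g : G | g ∈ N ∧ (orderOf g).Coprime p} = N)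
    (hΦ : N ⊓ (P : Subgroup G) ≤ (frattini P).map (P : Subgroup G).subtype) :
    N ⊓ (P : Subgroup G) = ⊥ := by
  classical
  by_contra hne
  set R' : Subgroup (P : Subgroup G) := N.subgroupOf (P : Subgroup G) with hR'
  have hR'ne : R' ≠ ⊥ := by
    intro h
    apply hne
    rw [eq_bot_iff]
    intro g hg
    have : (⟨g, hg.2⟩ : (P : Subgroup G)) ∈ R' := Subgroup.mem_subgroupOf.2 hg.1
    rw [h, Subgroup.mem_bot] at this
    exact Subgroup.mem_bot.2 (congrArg Subtype.val this)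
  haveI : R'.Normal := hN.subgroupOf _
  obtain ⟨Q, hQn, hQle, ⟨r0, hr0R, hr0Q⟩, hcent, hexp⟩ :=
    exists_top_central (p := p) P.isPGroup' R' hR'ne
  haveI := hQn
  let σ : (P : Subgroup G) →* (P : Subgroup G) ⧸ Q := QuotientGroup.mk' Q
  have hQN : Q ≤ ((QuotientGroup.mk' N).comp (P : Subgroup G).subtype).ker := by
    intro u hu
    rw [MonoidHom.mem_ker, MonoidHom.comp_apply]
    exact (QuotientGroup.eq_one_iff _).2 (Subgroup.mem_subgroupOf.1 (hQle hu))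
  let β : (P : Subgroup G) ⧸ Q →* G ⧸ N :=
    QuotientGroup.lift Q ((QuotientGroup.mk' N).comp (P : Subgroup G).subtype) hQN
  have hβσ : ∀ u : (P : Subgroup G), β (σ u) = QuotientGroup.mk' N u.1 := fun u => rfl
  have hZ : ∀ z : (P : Subgroup G) ⧸ Q, β z = 1 →
      (∀ x : (P : Subgroup G) ⧸ Q, z * x = x * z) ∧ z ^ p = 1 := by
    intro z hz
    obtain ⟨u, rfl⟩ := QuotientGroup.mk'_surjective Q z
    have huR : u ∈ R' := by
      have h1 : QuotientGroup.mk' N u.1 = 1 := hz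
      exact Subgroup.mem_subgroupOf.2 ((QuotientGroup.eq_one_iff _).1 h1)
    exact ⟨hcent u huR, hexp u huR⟩
  haveI hZc : IsMulCommutative β.ker :=
    ⟨⟨fun a b => Subtype.ext ((hZ a.1 (MonoidHom.mem_ker.1 a.2)).1 b.1)⟩⟩
  -- the pullback
  let f1 : G × ((P : Subgroup G) ⧸ Q) →* G ⧸ N :=
    (QuotientGroup.mk' N).comp (MonoidHom.fst G ((P : Subgroup G) ⧸ Q))
  let f2 : G × ((P : Subgroup G) ⧸ Q) →* G ⧸ N :=
    β.comp (MonoidHom.snd G ((P : Subgroup G) ⧸ Q))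
  let Y : Subgroup (G × ((P : Subgroup G) ⧸ Q)) := MonoidHom.eqLocus f1 f2
  have hY : ∀ y : G × ((P : Subgroup G) ⧸ Q), y ∈ Y ↔ QuotientGroup.mk' N y.1 = β y.2 :=
    fun y => Iff.rfl
  let π : Y →* G := (MonoidHom.fst G ((P : Subgroup G) ⧸ Q)).comp Y.subtype
  let S : Subgroup Y := (P : Subgroup G).comap π
  have hSmem : ∀ s : S, s.1.1.1 ∈ (P : Subgroup G) := fun s => s.2
  -- the projection of S onto the kernel
  have hϕmem : ∀ s : S, (σ ⟨s.1.1.1, hSmem s⟩)⁻¹ * s.1.1.2 ∈ β.ker := by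
    intro s
    rw [MonoidHom.mem_ker, map_mul, map_inv, hβσ]
    have := (hY s.1.1).1 s.1.2
    rw [← this]
    exact inv_mul_cancel _
  let ϕ : S →* β.ker := MonoidHom.mk' (fun s => ⟨(σ ⟨s.1.1.1, hSmem s⟩)⁻¹ * s.1.1.2, hϕmem s⟩) (by
    intro s t
    apply Subtype.ext
    show (σ ⟨(s * t).1.1.1, hSmem (s * t)⟩)⁻¹ * (s * t).1.1.2 =
      ((σ ⟨s.1.1.1, hSmem s⟩)⁻¹ * s.1.1.2) * ((σ ⟨t.1.1.1, hSmem t⟩)⁻¹ * t.1.1.2)
    have h1 : (⟨(s * t).1.1.1, hSmem (s * t)⟩ : (P : Subgroup G)) =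
        ⟨s.1.1.1, hSmem s⟩ * ⟨t.1.1.1, hSmem t⟩ := Subtype.ext rfl
    have h2 : (s * t).1.1.2 = s.1.1.2 * t.1.1.2 := rfl
    rw [h1, h2, map_mul, mul_inv_rev]
    have hc := (hZ _ (MonoidHom.mem_ker.1 (hϕmem s))).1 ((σ ⟨t.1.1.1, hSmem t⟩)⁻¹)
    calc (σ ⟨t.1.1.1, hSmem t⟩)⁻¹ * (σ ⟨s.1.1.1, hSmem s⟩)⁻¹ * (s.1.1.2 * t.1.1.2)
        = ((σ ⟨t.1.1.1, hSmem t⟩)⁻¹ * ((σ ⟨s.1.1.1, hSmem s⟩)⁻¹ * s.1.1.2)) * t.1.1.2 := by
          simp only [mul_assoc]
      _ = (((σ ⟨s.1.1.1, hSmem s⟩)⁻¹ * s.1.1.2) * (σ ⟨t.1.1.1, hSmem t⟩)⁻¹) * t.1.1.2 := by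
          rw [hc]
      _ = _ := by simp only [mul_assoc])
  have hϕapp : ∀ s : S, ((ϕ s : β.ker) : (P : Subgroup G) ⧸ Q) =
      (σ ⟨s.1.1.1, hSmem s⟩)⁻¹ * s.1.1.2 := fun s => rfl
  -- the transfer
  let T : Y →* β.ker := MonoidHom.transfer ϕ
  -- index
  have hιPmem : ∀ u : (P : Subgroup G), ((u.1, σ u) : G × ((P : Subgroup G) ⧸ Q)) ∈ Y := by
    intro u
    rw [hY]
    exact (hβσ u).symm
  have hm : (S.index).Coprime p := by
    have h1 : S.index = (P : Subgroup G).relIndex π.range := Subgroup.index_comap _ π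
    have h2 : (P : Subgroup G) ≤ π.range := by
      intro u hu
      exact ⟨⟨(u, σ ⟨u, hu⟩), hιPmem ⟨u, hu⟩⟩, rfl⟩
    have h3 : S.index ∣ (P : Subgroup G).index := h1 ▸ Subgroup.relIndex_dvd_index_of_le h2
    have h4 : ¬ p ∣ (P : Subgroup G).index := P.not_dvd_index
    have h5 : ¬ p ∣ S.index := fun h => h4 (h.trans h3)
    exact ((Nat.Prime.coprime_iff_not_dvd hp.out).2 h5).symm
  -- (1) value on the central kernel
  have hzYmem : ∀ z : β.ker, ((1, z.1) : G × ((P : Subgroup G) ⧸ Q)) ∈ Y := by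
    intro z
    rw [hY]
    show QuotientGroup.mk' N 1 = β z.1
    rw [map_one, MonoidHom.mem_ker.1 z.2]
  have hT1 : ∀ z : β.ker, ((T ⟨(1, z.1), hzYmem z⟩ : β.ker) : (P : Subgroup G) ⧸ Q) =
      z.1 ^ S.index := by
    intro z
    have hzc := (hZ z.1 (MonoidHom.mem_ker.1 z.2)).1
    have key : ∀ (k : ℕ) (g₀ : Y), g₀⁻¹ * (⟨(1, z.1), hzYmem z⟩ : Y) ^ k * g₀ ∈ S →
        g₀⁻¹ * (⟨(1, z.1), hzYmem z⟩ : Y) ^ k * g₀ = (⟨(1, z.1), hzYmem z⟩ : Y) ^ k := by
      intro k g₀ _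
      have hcomm : (⟨(1, z.1), hzYmem z⟩ : Y) * g₀ = g₀ * ⟨(1, z.1), hzYmem z⟩ := by
        apply Subtype.ext
        apply Prod.ext
        · show 1 * g₀.1.1 = g₀.1.1 * 1
          rw [one_mul, mul_one]
        · show z.1 * g₀.1.2 = g₀.1.2 * z.1
          exact hzc _
      have hcommk : (⟨(1, z.1), hzYmem z⟩ : Y) ^ k * g₀ = g₀ * (⟨(1, z.1), hzYmem z⟩ : Y) ^ k :=
        (Commute.pow_left hcomm k)
      rw [mul_assoc, hcommk, inv_mul_cancel_left]
    have h1 := MonoidHom.transfer_eq_pow ϕ (⟨(1, z.1), hzYmem z⟩ : Y) key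
    show ((MonoidHom.transfer ϕ ⟨(1, z.1), hzYmem z⟩ : β.ker) : (P : Subgroup G) ⧸ Q) = _
    rw [h1, hϕapp]
    have h2 : (((⟨(1, z.1), hzYmem z⟩ : Y) ^ S.index : Y) : G × ((P : Subgroup G) ⧸ Q)) =
        (1, z.1 ^ S.index) := by
      rw [Subgroup.coe_pow]
      apply Prod.ext
      · simp
      · simp
    have h3 : ∀ (w : G × ((P : Subgroup G) ⧸ Q)) (hw : w.1 ∈ (P : Subgroup G)),
        w = (1, z.1 ^ S.index) → (σ ⟨w.1, hw⟩)⁻¹ * w.2 = z.1 ^ S.index := by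
      rintro w hw rfl
      have : (⟨1, hw⟩ : (P : Subgroup G)) = 1 := rfl
      rw [this, map_one, inv_one, one_mul]
    exact h3 _ _ h2
  -- (2) value on N
  have hnYmem : ∀ n : N, ((n.1, 1) : G × ((P : Subgroup G) ⧸ Q)) ∈ Y := by
    intro n
    rw [hY]
    show QuotientGroup.mk' N n.1 = β 1
    rw [map_one]
    exact (QuotientGroup.eq_one_iff _).2 n.2
  let ιN : N →* Y := MonoidHom.mk' (fun n => ⟨(n.1, 1), hnYmem n⟩) (by
    intro a b
    apply Subtype.ext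
    apply Prod.ext
    · rfl
    · show (1 : (P : Subgroup G) ⧸ Q) = 1 * 1
      rw [one_mul])
  have hT2 : ∀ n : N, T (ιN n) = 1 := by
    let θ : N →* β.ker := T.comp ιN
    have hle : N ≤ θ.ker.map N.subtype := by
      refine hgen.symm.le.trans ?_
      rw [Subgroup.closure_le]
      rintro g ⟨hgN, hgc⟩
      refine ⟨⟨g, hgN⟩, ?_, rfl⟩
      show (⟨g, hgN⟩ : N) ∈ θ.ker
      rw [MonoidHom.mem_ker]
      have ha1 : (θ ⟨g, hgN⟩) ^ p = 1 := by
        apply Subtype.ext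
        rw [Subgroup.coe_pow]
        exact (hZ _ (MonoidHom.mem_ker.1 (θ ⟨g, hgN⟩).2)).2
      have ha2 : (θ ⟨g, hgN⟩) ^ (orderOf g) = 1 := by
        rw [← map_pow]
        have : (⟨g, hgN⟩ : N) ^ orderOf g = 1 := by
          apply Subtype.ext
          rw [Subgroup.coe_pow]
          exact pow_orderOf_eq_one g
        rw [this, map_one]
      have h1 := orderOf_dvd_of_pow_eq_one ha1
      have h2 := orderOf_dvd_of_pow_eq_one ha2
      have h3 : orderOf (θ ⟨g, hgN⟩) ∣ 1 := by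
        have := Nat.dvd_gcd h2 h1
        rwa [Nat.Coprime.gcd_eq_one hgc] at this
      exact orderOf_eq_one_iff.1 (Nat.dvd_one.1 h3)
    intro n
    obtain ⟨n', hn', hnn⟩ := hle n.2
    have : n' = n := Subtype.ext hnn
    rw [← this]
    exact MonoidHom.mem_ker.1 hn'
  -- (3) value on the Frattini subgroup of P
  let ιP : (P : Subgroup G) →* Y := MonoidHom.mk' (fun u => ⟨(u.1, σ u), hιPmem u⟩) (by
    intro a b
    apply Subtype.ext
    apply Prod.ext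
    · rfl
    · show σ (a * b) = σ a * σ b
      exact map_mul σ a b)
  have hT3 : ∀ u ∈ frattini (P : Subgroup G), T (ιP u) = 1 := by
    intro u hu
    have h1 := Cfsg.Agent.Lib.Helper5.frattini_le_ker_of_elem_abelian hp.out (T.comp ιP)
      (fun a b => Subtype.ext ((hZ a.1 (MonoidHom.mem_ker.1 a.2)).1 b.1))
      (fun a => Subtype.ext (by
        rw [Subgroup.coe_pow]
        exact (hZ a.1 (MonoidHom.mem_ker.1 a.2)).2))
    exact MonoidHom.mem_ker.1 (h1 hu)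
  -- (4) conclusion
  have hr0mem : r0.1 ∈ N ⊓ (P : Subgroup G) := ⟨Subgroup.mem_subgroupOf.1 hr0R, r0.2⟩
  obtain ⟨u, huΦ, hur⟩ := hΦ hr0mem
  have hu0 : u = r0 := Subtype.ext hur
  subst hu0
  have hσker : σ u ∈ β.ker := by
    rw [MonoidHom.mem_ker, hβσ]
    exact (QuotientGroup.eq_one_iff _).2 (Subgroup.mem_subgroupOf.1 hr0R)
  have hdecomp : ιP u = ιN ⟨u.1, Subgroup.mem_subgroupOf.1 hr0R⟩ *
      ⟨(1, σ u), hzYmem ⟨σ u, hσker⟩⟩ := by
    apply Subtype.ext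
    apply Prod.ext
    · show u.1 = u.1 * 1
      rw [mul_one]
    · show σ u = 1 * σ u
      rw [one_mul]
  have h5 : (σ u) ^ S.index = 1 := by
    have h6 := hT3 u huΦ
    rw [hdecomp, map_mul, hT2, one_mul] at h6
    have h7 := hT1 ⟨σ u, hσker⟩
    rw [h6] at h7
    exact h7.symm
  have h8 : (σ u) ^ p = 1 := (hZ _ (MonoidHom.mem_ker.1 hσker)).2
  have h9 : σ u = 1 := by
    have h1 := orderOf_dvd_of_pow_eq_one h5
    have h2 := orderOf_dvd_of_pow_eq_one h8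
    have h3 : orderOf (σ u) ∣ 1 := by
      have := Nat.dvd_gcd h1 h2
      rwa [Nat.Coprime.gcd_eq_one hm] at this
    exact orderOf_eq_one_iff.1 (Nat.dvd_one.1 h3)
  exact hr0Q ((QuotientGroup.eq_one_iff u).1 h9)


theorem core {G : Type*} [Group G] [Finite G] {p : ℕ} [hp : Fact p.Prime] (P : Sylow p G) :
    ∀ n : ℕ, ∀ N : Subgroup G, N.Normal → Nat.card N = n →
      N ⊓ (P : Subgroup G) ≤ (frattini P).map (P : Subgroup G).subtype →
      ∃ L : Subgroup G, L ≤ N ∧ L.Normal ∧ (Nat.card L).Coprime p ∧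
        ∀ g ∈ N, ∃ k : ℕ, g ^ (p ^ k) ∈ L := by
  intro n
  induction n using Nat.strong_induction_on with
  | _ n ih =>
  intro N hN hcard hΦ
  haveI := hN
  set K : Subgroup G := Subgroup.closure {g : G | g ∈ N ∧ (orderOf g).Coprime p} with hK
  have hKN : K ≤ N := by
    rw [hK, Subgroup.closure_le]
    exact fun g hg => hg.1
  have hKn : K.Normal := by
    refine ⟨fun x hx g => ?_⟩
    have hmap : K.map (MulAut.conj g).toMonoidHom ≤ K := by
      rw [hK, MonoidHom.map_closure, Subgroup.closure_le]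
      rintro _ ⟨y, ⟨hyN, hyc⟩, rfl⟩
      apply Subgroup.subset_closure
      refine ⟨hN.conj_mem y hyN g, ?_⟩
      have : orderOf ((MulAut.conj g) y) = orderOf y := (MulAut.conj g).orderOf_eq y
      show (orderOf ((MulAut.conj g) y)).Coprime p
      rw [this]
      exact hyc
    exact hmap (Subgroup.mem_map_of_mem _ hx)
  by_cases hKeq : K = N
  · have h1 := key P N hKeq hΦ
    refine ⟨N, le_rfl, hN, ?_, fun g hg => ⟨0, by simpa using hg⟩⟩
    rw [Nat.coprime_comm, Nat.Prime.coprime_iff_not_dvd hp.out]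
    intro hdvd
    obtain ⟨g, hg⟩ := exists_prime_orderOf_dvd_card' (G := N) p hdvd
    have hg' : orderOf g.1 = p := by rw [Subgroup.orderOf_coe]; exact hg
    have hpg : IsPGroup p (Subgroup.zpowers g.1) := by
      apply IsPGroup.of_card (n := 1)
      rw [Nat.card_zpowers, hg', pow_one]
    obtain ⟨Q', hQ'⟩ := hpg.exists_le_sylow
    obtain ⟨c, rfl⟩ := MulAction.exists_smul_eq G P Q'
    have hgc : g.1 ∈ ((c • P : Sylow p G) : Subgroup G) := hQ' (Subgroup.mem_zpowers g.1)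
    rw [Sylow.coe_subgroup_smul, Subgroup.mem_pointwise_smul_iff_inv_smul_mem] at hgc
    have hgc' : c⁻¹ * g.1 * c⁻¹⁻¹ ∈ (P : Subgroup G) := by
      have hconj : (MulAut.conj c)⁻¹ • g.1 = c⁻¹ * g.1 * c⁻¹⁻¹ := by
        rw [← map_inv, MulAut.smul_def, MulAut.conj_apply]
      rw [← hconj]
      exact hgc
    replace hgc := hgc'
    have hmemN : c⁻¹ * g.1 * c⁻¹⁻¹ ∈ N := hN.conj_mem g.1 g.2 c⁻¹
    have h2 : c⁻¹ * g.1 * c⁻¹⁻¹ ∈ N ⊓ (P : Subgroup G) := ⟨hmemN, hgc⟩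
    rw [h1, Subgroup.mem_bot] at h2
    have h3 : g.1 = 1 := by
      have : g.1 = c * (c⁻¹ * g.1 * c⁻¹⁻¹) * c⁻¹ := by group
      rw [this, h2, mul_one, mul_inv_cancel]
    rw [h3, orderOf_one] at hg'
    exact hp.out.ne_one hg'.symm
  · have hlt : Nat.card K < n := by
      rw [← hcard]
      exact lt_of_not_ge fun h => hKeq (Subgroup.eq_of_le_of_card_ge hKN h)
    obtain ⟨L, hLK, hLn, hLc, hLq⟩ := ih (Nat.card K) hlt K hKn rfl
      (le_trans (inf_le_inf_right _ hKN) hΦ)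
    refine ⟨L, hLK.trans hKN, hLn, hLc, ?_⟩
    intro g hg
    have h0 : orderOf g ≠ 0 := (orderOf_pos g).ne'
    obtain ⟨e, m, hm, hem⟩ := Nat.exists_eq_pow_mul_and_not_dvd h0 p hp.out.ne_one
    have hgK : g ^ (p ^ e) ∈ K := by
      apply Subgroup.subset_closure
      refine ⟨N.pow_mem hg _, ?_⟩
      show (orderOf (g ^ (p ^ e))).Coprime p
      rw [orderOf_pow, hem]
      have hpe : 0 < p ^ e := pow_pos hp.out.pos e
      have hgcd : (p ^ e * m).gcd (p ^ e) = p ^ e := Nat.gcd_eq_right (Dvd.intro _ rfl)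
      rw [hgcd, Nat.mul_div_cancel_left _ hpe]
      exact (Nat.Coprime.symm ((Nat.Prime.coprime_iff_not_dvd hp.out).2 hm))
    obtain ⟨k, hk⟩ := hLq _ hgK
    exact ⟨e + k, by rw [pow_add, pow_mul]; exact hk⟩

theorem main81 {G : Type*} [Group G] [Finite G] {p : ℕ} [hp : Fact p.Prime] (P : Sylow p G)
    (N : Subgroup G) [hN : N.Normal]
    (h : N ⊓ (P : Subgroup G) ≤ (frattini P).map (P : Subgroup G).subtype) :
    Cfsg.HasNormalPComplement p N := by
  obtain ⟨L, hLN, hLn, hLc, hLq⟩ := core P _ N hN rfl h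
  haveI : (L.subgroupOf N).Normal := hLn.subgroupOf N
  apply Cfsg.Agent.Lib.Helper4.hasNormalPComplement_of_normal_hall p (L.subgroupOf N)
  · rw [Nat.card_congr (Subgroup.subgroupOfEquivOfLe hLN).toEquiv]
    exact hLc
  · intro x
    induction x using QuotientGroup.induction_on with
    | H g =>
      obtain ⟨k, hk⟩ := hLq g.1 g.2
      refine ⟨k, ?_⟩
      rw [← QuotientGroup.mk_pow, QuotientGroup.eq_one_iff]
      exact Subgroup.mem_subgroupOf.2 (by simpa using hk)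

/-- If a normal subgroup meets a Sylow p-subgroup P inside the Frattini subgroup of P, then it has a normal p-complement. -/
theorem result {G : Type*} [Group G] [Finite G] {p : ℕ} [Fact p.Prime] (P : Sylow p G) (N : Subgroup G) [N.Normal] (h : N ⊓ (P : Subgroup G) ≤ (frattini P).map (P : Subgroup G).subtype) : Cfsg.HasNormalPComplement p N := by
  exact main81 P N h

end Cfsg.Agent.S0081
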