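import Mathlib
import Cfsg.Statements.S0078
import Cfsg.Agent.S0081
import Cfsg.Agent.S0077
import Cfsg.Agent.Lib.Helper4.Frobenius

set_option autoImplicit false
set_option maxHeartbeats 800000

open Cfsg

namespace Cfsg.Agent.S0078

theorem pres_normal (p : ℕ) (H : Type*) [Group H] : (Cfsg.pResidual p H).Normal := by
  refine ⟨fun x hx g => ?_⟩
  have hmap : (Cfsg.pResidual p H).map (MulAut.conj g).toMonoidHom ≤ Cfsg.pResidual p H := by
    unfold Cfsg.pResidual
    rw [MonoidHom.map_closure, Subgroup.closure_le]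
    rintro _ ⟨y, hyc, rfl⟩
    apply Subgroup.subset_closure
    have : orderOf ((MulAut.conj g) y) = orderOf y := (MulAut.conj g).orderOf_eq y
    show (orderOf ((MulAut.conj g) y)).Coprime p
    rw [this]
    exact hyc
  exact hmap (Subgroup.mem_map_of_mem _ hx)

theorem pres_mono (p : ℕ) {G : Type*} [Group G] (V : Subgroup G) :
    ∀ l ∈ Cfsg.pResidual p V, (l : G) ∈ Cfsg.pResidual p G := by
  have h : Cfsg.pResidual p V ≤ (Cfsg.pResidual p G).comap V.subtype := by
    unfold Cfsg.pResidual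
    rw [Subgroup.closure_le]
    intro v hv
    apply Subgroup.mem_comap.mpr
    apply Subgroup.subset_closure
    show (orderOf (v : G)).Coprime p
    rw [Subgroup.orderOf_coe]
    exact hv
  exact fun l hl => h hl

open scoped IsMulCommutative in
/-- The transfer lemma behind Tate's theorem (a central case of Gaschütz's theorem). -/
theorem cgt {G : Type*} [Group G] [Finite G] {p : ℕ} [hp : Fact p.Prime]
    (K : Subgroup G) [hKn : K.Normal]
    (hgen : Subgroup.closure {g : G | g ∈ K ∧ (orderOf g).Coprime p} = K)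
    (V : Subgroup G) (hidx : (V.index).Coprime p)
    {X : Type*} [Group X] [Finite X] (σ : V →* X) (β : X →* G ⧸ K)
    (hβσ : ∀ v : V, β (σ v) = QuotientGroup.mk' K v.1)
    (hZ : ∀ z : X, β z = 1 → (∀ x : X, z * x = x * z) ∧ z ^ p = 1) :
    ∃ m : ℕ, m.Coprime p ∧ ∃ lam : V →* X, (∀ v, β (lam v) = 1) ∧
      ∀ v : V, v.1 ∈ K → lam v = (σ v) ^ m := by
  classical
  haveI hZc : IsMulCommutative β.ker :=
    ⟨⟨fun a b => Subtype.ext ((hZ a.1 (MonoidHom.mem_ker.1 a.2)).1 b.1)⟩⟩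
  let f1 : G × X →* G ⧸ K := (QuotientGroup.mk' K).comp (MonoidHom.fst G X)
  let f2 : G × X →* G ⧸ K := β.comp (MonoidHom.snd G X)
  let Y : Subgroup (G × X) := MonoidHom.eqLocus f1 f2
  have hY : ∀ y : G × X, y ∈ Y ↔ QuotientGroup.mk' K y.1 = β y.2 := fun y => Iff.rfl
  let π : Y →* G := (MonoidHom.fst G X).comp Y.subtype
  let S : Subgroup Y := V.comap π
  have hSmem : ∀ s : S, s.1.1.1 ∈ V := fun s => s.2
  have hϕmem : ∀ s : S, (σ ⟨s.1.1.1, hSmem s⟩)⁻¹ * s.1.1.2 ∈ β.ker := by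
    intro s
    rw [MonoidHom.mem_ker, map_mul, map_inv, hβσ]
    have := (hY s.1.1).1 s.1.2
    rw [← this]
    exact inv_mul_cancel _
  let ϕ : S →* β.ker := MonoidHom.mk' (fun s => ⟨(σ ⟨s.1.1.1, hSmem s⟩)⁻¹ * s.1.1.2, hϕmem s⟩) (by
    intro s t
    apply Subtype.ext
    show (σ ⟨(s * t).1.1.1, hSmem (s * t)⟩)⁻¹ * (s * t).1.1.2 =
      ((σ ⟨s.1.1.1, hSmem s⟩)⁻¹ * s.1.1.2) * ((σ ⟨t.1.1.1, hSmem t⟩)⁻¹ * t.1.1.2)
    have h1 : (⟨(s * t).1.1.1, hSmem (s * t)⟩ : V) =
        ⟨s.1.1.1, hSmem s⟩ * ⟨t.1.1.1, hSmem t⟩ := Subtype.ext rfl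
    have h2 : (s * t).1.1.2 = s.1.1.2 * t.1.1.2 := rfl
    rw [h1, h2, map_mul, mul_inv_rev]
    have hc := (hZ _ (MonoidHom.mem_ker.1 (hϕmem s))).1 ((σ ⟨t.1.1.1, hSmem t⟩)⁻¹)
    calc (σ ⟨t.1.1.1, hSmem t⟩)⁻¹ * (σ ⟨s.1.1.1, hSmem s⟩)⁻¹ * (s.1.1.2 * t.1.1.2)
        = ((σ ⟨t.1.1.1, hSmem t⟩)⁻¹ * ((σ ⟨s.1.1.1, hSmem s⟩)⁻¹ * s.1.1.2)) * t.1.1.2 := by
          simp only [mul_assoc]
      _ = (((σ ⟨s.1.1.1, hSmem s⟩)⁻¹ * s.1.1.2) * (σ ⟨t.1.1.1, hSmem t⟩)⁻¹) * t.1.1.2 := by
          rw [hc]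
      _ = _ := by simp only [mul_assoc])
  have hϕapp : ∀ s : S, ((ϕ s : β.ker) : X) = (σ ⟨s.1.1.1, hSmem s⟩)⁻¹ * s.1.1.2 := fun s => rfl
  let T : Y →* β.ker := MonoidHom.transfer ϕ
  have hιVmem : ∀ u : V, ((u.1, σ u) : G × X) ∈ Y := by
    intro u
    rw [hY]
    exact (hβσ u).symm
  have hm : (S.index).Coprime p := by
    have h1 : S.index = V.relIndex π.range := Subgroup.index_comap _ π
    have h2 : V ≤ π.range := by
      intro u hu
      exact ⟨⟨(u, σ ⟨u, hu⟩), hιVmem ⟨u, hu⟩⟩, rfl⟩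
    have h3 : S.index ∣ V.index := h1 ▸ Subgroup.relIndex_dvd_index_of_le h2
    exact Nat.Coprime.coprime_dvd_left h3 hidx
  have hzYmem : ∀ z : β.ker, ((1, z.1) : G × X) ∈ Y := by
    intro z
    rw [hY]
    show QuotientGroup.mk' K 1 = β z.1
    rw [map_one, MonoidHom.mem_ker.1 z.2]
  have hT1 : ∀ z : β.ker, ((T ⟨(1, z.1), hzYmem z⟩ : β.ker) : X) = z.1 ^ S.index := by
    intro z
    have hzc := (hZ z.1 (MonoidHom.mem_ker.1 z.2)).1
    have key : ∀ (k : ℕ) (g₀ : Y), g₀⁻¹ * (⟨(1, z.1), hzYmem z⟩ : Y) ^ k * g₀ ∈ S →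
        g₀⁻¹ * (⟨(1, z.1), hzYmem z⟩ : Y) ^ k * g₀ = (⟨(1, z.1), hzYmem z⟩ : Y) ^ k := by
      intro k g₀ _
      have hcomm : (⟨(1, z.1), hzYmem z⟩ : Y) * g₀ = g₀ * ⟨(1, z.1), hzYmem z⟩ := by
        apply Subtype.ext
        apply Prod.ext
        · show 1 * g₀.1.1 = g₀.1.1 * 1
          rw [one_mul, mul_one]
        · show z.1 * g₀.1.2 = g₀.1.2 * z.1
          exact hzc _
      have hcommk : (⟨(1, z.1), hzYmem z⟩ : Y) ^ k * g₀ = g₀ * (⟨(1, z.1), hzYmem z⟩ : Y) ^ k :=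
        (Commute.pow_left hcomm k)
      rw [mul_assoc, hcommk, inv_mul_cancel_left]
    have h1 := MonoidHom.transfer_eq_pow ϕ (⟨(1, z.1), hzYmem z⟩ : Y) key
    show ((MonoidHom.transfer ϕ ⟨(1, z.1), hzYmem z⟩ : β.ker) : X) = _
    rw [h1, hϕapp]
    have h2 : (((⟨(1, z.1), hzYmem z⟩ : Y) ^ S.index : Y) : G × X) = (1, z.1 ^ S.index) := by
      rw [Subgroup.coe_pow]
      apply Prod.ext
      · simp
      · simp
    have h3 : ∀ (w : G × X) (hw : w.1 ∈ V),
        w = (1, z.1 ^ S.index) → (σ ⟨w.1, hw⟩)⁻¹ * w.2 = z.1 ^ S.index := by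
      rintro w hw rfl
      have : (⟨1, hw⟩ : V) = 1 := rfl
      rw [this, map_one, inv_one, one_mul]
    exact h3 _ _ h2
  have hnYmem : ∀ n : K, ((n.1, 1) : G × X) ∈ Y := by
    intro n
    rw [hY]
    show QuotientGroup.mk' K n.1 = β 1
    rw [map_one]
    exact (QuotientGroup.eq_one_iff _).2 n.2
  let ιN : K →* Y := MonoidHom.mk' (fun n => ⟨(n.1, 1), hnYmem n⟩) (by
    intro a b
    apply Subtype.ext
    apply Prod.ext
    · rfl
    · show (1 : X) = 1 * 1
      rw [one_mul])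
  have hT2 : ∀ n : K, T (ιN n) = 1 := by
    let θ : K →* β.ker := T.comp ιN
    have hle : K ≤ θ.ker.map K.subtype := by
      refine hgen.symm.le.trans ?_
      rw [Subgroup.closure_le]
      rintro g ⟨hgN, hgc⟩
      refine ⟨⟨g, hgN⟩, ?_, rfl⟩
      show (⟨g, hgN⟩ : K) ∈ θ.ker
      rw [MonoidHom.mem_ker]
      have ha1 : (θ ⟨g, hgN⟩) ^ p = 1 := by
        apply Subtype.ext
        rw [Subgroup.coe_pow]
        exact (hZ _ (MonoidHom.mem_ker.1 (θ ⟨g, hgN⟩).2)).2
      have ha2 : (θ ⟨g, hgN⟩) ^ (orderOf g) = 1 := by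
        rw [← map_pow]
        have : (⟨g, hgN⟩ : K) ^ orderOf g = 1 := by
          apply Subtype.ext
          rw [Subgroup.coe_pow]
          exact pow_orderOf_eq_one g
        rw [this, map_one]
      have h1 := orderOf_dvd_of_pow_eq_one ha1
      have h2 := orderOf_dvd_of_pow_eq_one ha2
      have h3 : orderOf (θ ⟨g, hgN⟩) ∣ 1 := by
        have := Nat.dvd_gcd h2 h1
        rwa [Nat.Coprime.gcd_eq_one hgc] at this
      exact orderOf_eq_one_iff.1 (Nat.dvd_one.1 h3)
    intro n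
    obtain ⟨n', hn', hnn⟩ := hle n.2
    have : n' = n := Subtype.ext hnn
    rw [← this]
    exact MonoidHom.mem_ker.1 hn'
  let ιV : V →* Y := MonoidHom.mk' (fun u => ⟨(u.1, σ u), hιVmem u⟩) (by
    intro a b
    apply Subtype.ext
    apply Prod.ext
    · rfl
    · show σ (a * b) = σ a * σ b
      exact map_mul σ a b)
  refine ⟨S.index, hm, (β.ker.subtype).comp (T.comp ιV), ?_, ?_⟩
  · intro v
    exact MonoidHom.mem_ker.1 (T (ιV v)).2
  · intro v hvK
    have hσker : σ v ∈ β.ker := by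
      rw [MonoidHom.mem_ker, hβσ]
      exact (QuotientGroup.eq_one_iff _).2 hvK
    have hdecomp : ιV v = ιN ⟨v.1, hvK⟩ * ⟨(1, σ v), hzYmem ⟨σ v, hσker⟩⟩ := by
      apply Subtype.ext
      apply Prod.ext
      · show v.1 = v.1 * 1
        rw [mul_one]
      · show σ v = 1 * σ v
        rw [one_mul]
    show ((T (ιV v) : β.ker) : X) = σ v ^ S.index
    rw [hdecomp, map_mul, hT2, one_mul]
    exact hT1 ⟨σ v, hσker⟩


/-- General form of Tate's theorem at the level of `O^p`. -/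
theorem gtate {G : Type*} [Group G] [Finite G] {p : ℕ} [hp : Fact p.Prime] (P : Sylow p G)
    (V : Subgroup G) (hPV : (P : Subgroup G) ≤ V)
    (hfoc : (P : Subgroup G) ⊓ Cfsg.pResidual p G ≤ ⁅V, V⁆) :
    ∀ v : V, v.1 ∈ Cfsg.pResidual p G → v ∈ Cfsg.pResidual p V := by
  classical
  set K : Subgroup G := Cfsg.pResidual p G with hK
  set L : Subgroup V := Cfsg.pResidual p V with hL
  have hKn : K.Normal := pres_normal p G
  haveI := hKn
  have hLn : L.Normal := pres_normal p V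
  haveI := hLn
  have hLK : ∀ l ∈ L, l.1 ∈ K := pres_mono p V
  by_contra hcon
  push_neg at hcon
  obtain ⟨v0, hv0K, hv0L⟩ := hcon
  set M' : Subgroup V := K.subgroupOf V with hM'
  haveI hM'n : M'.Normal := hKn.subgroupOf V
  have hPt : IsPGroup p (V ⧸ L) :=
    Cfsg.Agent.Lib.Helper4.isPGroup_quotient_of_coprime_mem p L
      (fun g hg => Subgroup.subset_closure hg)
  set R : Subgroup (V ⧸ L) := M'.map (QuotientGroup.mk' L) with hR
  haveI : R.Normal := hM'n.map _ (QuotientGroup.mk'_surjective L)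
  have hRne : R ≠ ⊥ := by
    intro h
    have : QuotientGroup.mk' L v0 ∈ R :=
      Subgroup.mem_map_of_mem _ (Subgroup.mem_subgroupOf.2 hv0K)
    rw [h, Subgroup.mem_bot] at this
    exact hv0L ((QuotientGroup.eq_one_iff v0).1 this)
  obtain ⟨Q, hQn, hQle, ⟨r0, hr0R, hr0Q⟩, hcent, hexp⟩ :=
    Cfsg.Agent.S0081.exists_top_central (p := p) hPt R hRne
  haveI := hQn
  let σ : V →* (V ⧸ L) ⧸ Q := (QuotientGroup.mk' Q).comp (QuotientGroup.mk' L)
  have hσsurj : Function.Surjective σ :=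
    (QuotientGroup.mk'_surjective Q).comp (QuotientGroup.mk'_surjective L)
  have hLker : L ≤ ((QuotientGroup.mk' K).comp V.subtype).ker := by
    intro l hl
    rw [MonoidHom.mem_ker, MonoidHom.comp_apply]
    exact (QuotientGroup.eq_one_iff _).2 (hLK l hl)
  let β₁ : V ⧸ L →* G ⧸ K := QuotientGroup.lift L ((QuotientGroup.mk' K).comp V.subtype) hLker
  have hQker : Q ≤ β₁.ker := by
    intro q hq
    obtain ⟨v, hvM, rfl⟩ := hQle hq
    rw [MonoidHom.mem_ker]
    show QuotientGroup.mk' K v.1 = 1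
    exact (QuotientGroup.eq_one_iff _).2 (Subgroup.mem_subgroupOf.1 hvM)
  let β : (V ⧸ L) ⧸ Q →* G ⧸ K := QuotientGroup.lift Q β₁ hQker
  have hβσ : ∀ v : V, β (σ v) = QuotientGroup.mk' K v.1 := fun v => rfl
  have hZ : ∀ z : (V ⧸ L) ⧸ Q, β z = 1 →
      (∀ x : (V ⧸ L) ⧸ Q, z * x = x * z) ∧ z ^ p = 1 := by
    intro z hz
    obtain ⟨v, rfl⟩ := hσsurj z
    have hvM : QuotientGroup.mk' L v ∈ R := by
      have h1 : QuotientGroup.mk' K v.1 = 1 := hz
      exact Subgroup.mem_map_of_mem _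
        (Subgroup.mem_subgroupOf.2 ((QuotientGroup.eq_one_iff _).1 h1))
    exact ⟨hcent _ hvM, hexp _ hvM⟩
  have hgen : Subgroup.closure {g : G | g ∈ K ∧ (orderOf g).Coprime p} = K := by
    apply le_antisymm
    · rw [Subgroup.closure_le]
      exact fun g hg => hg.1
    · have : K = Subgroup.closure {g : G | (orderOf g).Coprime p} := rfl
      rw [this, Subgroup.closure_le]
      intro g hg
      exact Subgroup.subset_closure ⟨Subgroup.subset_closure hg, hg⟩
  have hPidx : ¬ p ∣ (P : Subgroup G).index := P.not_dvd_index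
  have hidx : (V.index).Coprime p := by
    have h1 : V.index ∣ (P : Subgroup G).index := Subgroup.index_dvd_of_le hPV
    have h2 : ¬ p ∣ V.index := fun h => hPidx (h.trans h1)
    exact ((Nat.Prime.coprime_iff_not_dvd hp.out).2 h2).symm
  obtain ⟨m, hm, lam, hlamβ, hlamK⟩ := cgt K hgen V hidx σ β hβσ hZ
  -- `lam` kills `L`
  have hlamL : ∀ l ∈ L, lam l = 1 := by
    have hle : L ≤ lam.ker := by
      show Subgroup.closure {g : V | (orderOf g).Coprime p} ≤ lam.ker
      rw [Subgroup.closure_le]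
      intro g hgc
      show g ∈ lam.ker
      rw [MonoidHom.mem_ker]
      have ha1 : (lam g) ^ p = 1 := (hZ _ (hlamβ g)).2
      have ha2 : (lam g) ^ (orderOf g) = 1 := by
        rw [← map_pow, pow_orderOf_eq_one, map_one]
      have h1 := orderOf_dvd_of_pow_eq_one ha1
      have h2 := orderOf_dvd_of_pow_eq_one ha2
      have h3 : orderOf (lam g) ∣ 1 := by
        have := Nat.dvd_gcd h2 h1
        rwa [Nat.Coprime.gcd_eq_one hgc] at this
      exact orderOf_eq_one_iff.1 (Nat.dvd_one.1 h3)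
    exact fun l hl => MonoidHom.mem_ker.1 (hle hl)
  -- `lam` kills the derived subgroup
  have hlamC : ∀ w ∈ commutator V, lam w = 1 := by
    have hle : commutator V ≤ lam.ker := by
      rw [commutator_def, Subgroup.commutator_le]
      intro a _ b _
      rw [MonoidHom.mem_ker, commutatorElement_def, map_mul, map_mul, map_mul, map_inv, map_inv]
      have hc := (hZ _ (hlamβ a)).1 (lam b)
      rw [hc, mul_inv_cancel_right, mul_inv_cancel]
    exact fun w hw => MonoidHom.mem_ker.1 (hle hw)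
  -- `V = P L`
  have hVPL : ∀ v : V, ∃ u l : V, u.1 ∈ (P : Subgroup G) ∧ l ∈ L ∧ u * l = v := by
    intro v
    set PV : Subgroup V := (P : Subgroup G).subgroupOf V with hPV'
    have h1 : PV.index ∣ (P : Subgroup G).index := Subgroup.relIndex_dvd_index_of_le hPV
    have h2 : (PV ⊔ L).index ∣ PV.index := Subgroup.index_dvd_of_le le_sup_left
    have h3 : (PV ⊔ L).index ∣ L.index := Subgroup.index_dvd_of_le le_sup_right
    obtain ⟨a, ha⟩ := (IsPGroup.iff_card).1 hPt
    have h4 : L.index = p ^ a := by rw [Subgroup.index_eq_card]; exact ha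
    have h5 : (PV ⊔ L).index = 1 := by
      rw [h4] at h3
      obtain ⟨b, -, hb⟩ := (Nat.dvd_prime_pow hp.out).1 h3
      rcases Nat.eq_zero_or_pos b with rfl | hbpos
      · rw [hb, pow_zero]
      · exfalso
        apply hPidx
        have : p ∣ (PV ⊔ L).index := by rw [hb]; exact dvd_pow_self p hbpos.ne'
        exact this.trans (h2.trans h1)
    have h6 : PV ⊔ L = ⊤ := Subgroup.index_eq_one.1 h5
    have h7 : v ∈ PV ⊔ L := by rw [h6]; exact Subgroup.mem_top v
    obtain ⟨u, hu, l, hl, hul⟩ := Subgroup.mem_sup_of_normal_right.1 h7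
    exact ⟨u, l, Subgroup.mem_subgroupOf.1 hu, hl, hul⟩
  -- `lam` kills `M'`
  have hlamM : ∀ v : V, v.1 ∈ K → lam v = 1 := by
    intro v hvK
    obtain ⟨u, l, huP, hlL, hul⟩ := hVPL v
    have huK : u.1 ∈ K := by
      have : u = v * l⁻¹ := by rw [← hul, mul_inv_cancel_right]
      rw [this]
      exact K.mul_mem hvK (K.inv_mem (hLK l hlL))
    have huC : u.1 ∈ ⁅V, V⁆ := hfoc ⟨huP, huK⟩
    rw [← Subgroup.map_subtype_commutator] at huC
    obtain ⟨w, hw, hwu⟩ := huC
    have hwu' : w = u := Subtype.ext hwu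
    rw [← hul, map_mul, hlamL l hlL, mul_one, ← hwu']
    exact hlamC w hw
  -- contradiction
  obtain ⟨v1, hv1M, hv1⟩ := hr0R
  have hv1K : v1.1 ∈ K := Subgroup.mem_subgroupOf.1 hv1M
  have h5 : (σ v1) ^ m = 1 := by
    rw [← hlamK v1 hv1K]
    exact hlamM v1 hv1K
  have h8 : (σ v1) ^ p = 1 := by
    have : β (σ v1) = 1 := by
      rw [hβσ]
      exact (QuotientGroup.eq_one_iff _).2 hv1K
    exact (hZ _ this).2
  have h9 : σ v1 = 1 := by
    have h1 := orderOf_dvd_of_pow_eq_one h5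
    have h2 := orderOf_dvd_of_pow_eq_one h8
    have h3 : orderOf (σ v1) ∣ 1 := by
      have := Nat.dvd_gcd h1 h2
      rwa [Nat.Coprime.gcd_eq_one hm] at this
    exact orderOf_eq_one_iff.1 (Nat.dvd_one.1 h3)
  apply hr0Q
  rw [← hv1]
  exact (QuotientGroup.eq_one_iff _).1 h9

/-- `P ∩ O^p(G) ≤ G'`. -/
theorem inf_pres_le_commutator {G : Type*} [Group G] [Finite G] {p : ℕ} [hp : Fact p.Prime]
    (P : Sylow p G) : (P : Subgroup G) ⊓ Cfsg.pResidual p G ≤ commutator G := by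
  classical
  let B : Subgroup (Abelianization G) :=
    { carrier := {a | (orderOf a).Coprime p}
      one_mem' := by
        show (orderOf (1 : Abelianization G)).Coprime p
        rw [orderOf_one]
        exact Nat.coprime_one_left p
      mul_mem' := by
        intro a b ha hb
        show (orderOf (a * b)).Coprime p
        have h1 : orderOf (a * b) ∣ Nat.lcm (orderOf a) (orderOf b) :=
          (Commute.all a b).orderOf_mul_dvd_lcm
        have h2 : Nat.lcm (orderOf a) (orderOf b) ∣ orderOf a * orderOf b := Nat.lcm_dvd_mul _ _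
        exact Nat.Coprime.coprime_dvd_left (h1.trans h2) (Nat.Coprime.mul_left ha hb)
      inv_mem' := by
        intro a ha
        show (orderOf a⁻¹).Coprime p
        rw [orderOf_inv]
        exact ha }
  have hKB : Cfsg.pResidual p G ≤ B.comap Abelianization.of := by
    unfold Cfsg.pResidual
    rw [Subgroup.closure_le]
    intro g hg
    apply Subgroup.mem_comap.mpr
    show (orderOf (Abelianization.of g)).Coprime p
    exact Nat.Coprime.coprime_dvd_left (orderOf_map_dvd _ g) hg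
  rintro x ⟨hxP, hxK⟩
  have h1 : (orderOf (Abelianization.of x)).Coprime p := hKB hxK
  obtain ⟨k, hk⟩ := (IsPGroup.iff_orderOf.1 P.isPGroup') ⟨x, hxP⟩
  have hk' : orderOf x = p ^ k := by rw [← hk]; exact (Subgroup.orderOf_mk x hxP).symm
  have h2 : orderOf (Abelianization.of x) ∣ p ^ k := hk' ▸ orderOf_map_dvd _ x
  have h3 : orderOf (Abelianization.of x) = 1 :=
    Nat.Coprime.eq_one_of_dvd (Nat.Coprime.pow_right k h1) h2
  have h4 : Abelianization.of x = 1 := orderOf_eq_one_iff.1 h3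
  exact (QuotientGroup.eq_one_iff x).1 h4

theorem main78 {G : Type*} [Group G] [Finite G] {p : ℕ} [hp : Fact p.Prime] (P : Sylow p G)
    (hn : ∀ Q : Sylow p G, (P : Subgroup G) ⊓ Subgroup.centralizer (P : Set G) ≤ (Q : Subgroup G) →
      (Q : Subgroup G) ⊓ Subgroup.centralizer (Q : Set G) =
        (P : Subgroup G) ⊓ Subgroup.centralizer (P : Set G))
    (V : Subgroup G)
    (hV : Subgroup.normalizer (((P : Subgroup G) ⊓ Subgroup.centralizer (P : Set G) : Subgroup G) : Set G) ≤ V) :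
    (P : Subgroup G) ⊓ Cfsg.pResidual p G =
      (P : Subgroup G) ⊓ (Cfsg.pResidual p V).map V.subtype := by
  classical
  set Z : Subgroup G := (P : Subgroup G) ⊓ Subgroup.centralizer (P : Set G) with hZdef
  -- `P ≤ N_G(Z) ≤ V`
  have hPN : (P : Subgroup G) ≤ Subgroup.normalizer (Z : Set G) := by
    intro u hu
    rw [Subgroup.mem_normalizer_iff]
    intro z
    constructor
    · intro hz
      obtain ⟨hzP, hzC⟩ := Subgroup.mem_inf.1 hz
      refine Subgroup.mem_inf.2 ⟨(P : Subgroup G).mul_mem ((P : Subgroup G).mul_mem hu hzP) ((P : Subgroup G).inv_mem hu), ?_⟩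
      rw [Subgroup.mem_centralizer_iff] at hzC ⊢
      intro y hy
      have h1 : u⁻¹ * y * u ∈ (P : Set G) :=
        (P : Subgroup G).mul_mem ((P : Subgroup G).mul_mem ((P : Subgroup G).inv_mem hu) hy) hu
      have h2 := hzC _ h1
      calc y * (u * z * u⁻¹) = u * ((u⁻¹ * y * u) * z) * u⁻¹ := by group
        _ = u * (z * (u⁻¹ * y * u)) * u⁻¹ := by rw [h2]
        _ = u * z * u⁻¹ * y := by group
    · intro hz
      obtain ⟨hzP, hzC⟩ := Subgroup.mem_inf.1 hz
      have hzP' : z ∈ (P : Subgroup G) := by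
        have : z = u⁻¹ * (u * z * u⁻¹) * u := by group
        rw [this]
        exact (P : Subgroup G).mul_mem ((P : Subgroup G).mul_mem ((P : Subgroup G).inv_mem hu) hzP) hu
      refine Subgroup.mem_inf.2 ⟨hzP', ?_⟩
      rw [Subgroup.mem_centralizer_iff] at hzC ⊢
      intro y hy
      have h1 : u * y * u⁻¹ ∈ (P : Set G) :=
        (P : Subgroup G).mul_mem ((P : Subgroup G).mul_mem hu hy) ((P : Subgroup G).inv_mem hu)
      have h2 := hzC _ h1
      calc y * z = u⁻¹ * ((u * y * u⁻¹) * (u * z * u⁻¹)) * u := by group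
        _ = u⁻¹ * ((u * z * u⁻¹) * (u * y * u⁻¹)) * u := by rw [h2]
        _ = z * y := by group
  have hPV : (P : Subgroup G) ≤ V := hPN.trans hV
  -- weak closure of `Z`
  have hW : Cfsg.IsWeaklyClosed Z P := by
    refine ⟨inf_le_left, ?_⟩
    intro g hg
    -- `Z ≤ g⁻¹ • P`
    have hZQ : Z ≤ ((g⁻¹ • P : Sylow p G) : Subgroup G) := by
      intro z hz
      rw [Sylow.coe_subgroup_smul, Subgroup.mem_pointwise_smul_iff_inv_smul_mem]
      have hconj : (MulAut.conj g⁻¹)⁻¹ • z = g * z * g⁻¹ := by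
        rw [← map_inv, inv_inv, MulAut.smul_def, MulAut.conj_apply]
      rw [hconj]
      exact hg ⟨z, hz, rfl⟩
    have h1 := hn (g⁻¹ • P) hZQ
    -- describe the centre of the conjugate
    have hmemQ : ∀ x : G, x ∈ ((g⁻¹ • P : Sylow p G) : Subgroup G) ↔ g * x * g⁻¹ ∈ (P : Subgroup G) := by
      intro x
      rw [Sylow.coe_subgroup_smul, Subgroup.mem_pointwise_smul_iff_inv_smul_mem]
      have hconj : (MulAut.conj g⁻¹)⁻¹ • x = g * x * g⁻¹ := by
        rw [← map_inv, inv_inv, MulAut.smul_def, MulAut.conj_apply]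
      rw [hconj]
    have h2 : ∀ x : G, x ∈ Z → g * x * g⁻¹ ∈ Z := by
      intro x hx
      rw [← h1] at hx
      obtain ⟨hxQ, hxC⟩ := Subgroup.mem_inf.1 hx
      refine Subgroup.mem_inf.2 ⟨(hmemQ x).1 hxQ, ?_⟩
      rw [Subgroup.mem_centralizer_iff] at hxC ⊢
      intro y hy
      have hy' : g⁻¹ * y * g ∈ (((g⁻¹ • P : Sylow p G) : Subgroup G) : Set G) := by
        apply (hmemQ _).2
        have : g * (g⁻¹ * y * g) * g⁻¹ = y := by group
        rw [this]
        exact hy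
      have h3 := hxC _ hy'
      calc y * (g * x * g⁻¹) = g * ((g⁻¹ * y * g) * x) * g⁻¹ := by group
        _ = g * (x * (g⁻¹ * y * g)) * g⁻¹ := by rw [h3]
        _ = g * x * g⁻¹ * y := by group
    have hle : Z.map (MulAut.conj g).toMonoidHom ≤ Z := by
      rintro _ ⟨x, hx, rfl⟩
      exact h2 x hx
    have hcard : Nat.card (Z.map (MulAut.conj g).toMonoidHom) = Nat.card Z :=
      Subgroup.card_map_of_injective (MulAut.conj g).injective
    exact Subgroup.eq_of_le_of_card_ge hle (le_of_eq hcard.symm)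
  have hG2 := Cfsg.Agent.S0077.result P Z inf_le_right hW
  have hfoc : (P : Subgroup G) ⊓ Cfsg.pResidual p G ≤ ⁅V, V⁆ := by
    intro x hx
    have h1 : x ∈ commutator G ⊓ (P : Subgroup G) := ⟨inf_pres_le_commutator P hx, hx.1⟩
    rw [hG2] at h1
    exact Subgroup.commutator_mono hV hV h1.1
  apply le_antisymm
  · rintro x ⟨hxP, hxK⟩
    refine ⟨hxP, ?_⟩
    have := gtate P V hPV hfoc ⟨x, hPV hxP⟩ hxK
    exact ⟨⟨x, hPV hxP⟩, this, rfl⟩
  · rintro x ⟨hxP, l, hl, rfl⟩
    exact ⟨hxP, pres_mono p V l hl⟩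

/-- In a p-normal group, a Sylow p-subgroup P meets O^p(G) exactly where it meets O^p(V), for any subgroup V containing the normalizer of the centre of P. -/
theorem result {G : Type*} [Group G] [Finite G] {p : ℕ} [Fact p.Prime] (P : Sylow p G) (hn : ∀ Q : Sylow p G, (P : Subgroup G) ⊓ Subgroup.centralizer (P : Set G) ≤ (Q : Subgroup G) → (Q : Subgroup G) ⊓ Subgroup.centralizer (Q : Set G) = (P : Subgroup G) ⊓ Subgroup.centralizer (P : Set G)) (V : Subgroup G) (hV : Subgroup.normalizer (((P : Subgroup G) ⊓ Subgroup.centralizer (P : Set G) : Subgroup G) : Set G) ≤ V) : (P : Subgroup G) ⊓ Cfsg.pResidual p G = (P : Subgroup G) ⊓ (Cfsg.pResidual p V).map V.subtype := by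
  exact main78 P hn V hV

end Cfsg.Agent.S0078
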