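import Cfsg.Statements.S1946
import Cfsg.Agent.Lib.Helper4.CoprimeAutExp
import Cfsg.Agent.S0071

set_option autoImplicit false
open Cfsg

namespace Cfsg.Agent.S1946


open scoped commutatorElement

theorem comm_pow_eq_one_aux {G : Type*} [Group G] (g x : G) (k : ℕ) (hk : g ^ k = 1)
    (hc : Commute (x * g * x⁻¹ * g⁻¹) g) : (x * g * x⁻¹ * g⁻¹) ^ k = 1 := by
  have h1 : x * g * x⁻¹ = (x * g * x⁻¹ * g⁻¹) * g := by group
  have h2 : (x * g * x⁻¹) ^ k = 1 := by rw [conj_pow, hk]; group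
  rw [h1, hc.mul_pow, hk, mul_one] at h2
  exact h2

/-- Let P be a Sylow p-subgroup of the finite group G. Then G has a normal p-complement if and only if P controls the fusion of its elements of order dividing p (dividing 4 when p = 2): whenever such an element a of P has a G-conjugate g a g⁻¹ in P, that conjugate is already x a x⁻¹ for some x in P. -/
theorem result {G : Type*} [Group G] [Finite G] {p : ℕ} [Fact p.Prime] (P : Sylow p G) :
    Cfsg.HasNormalPComplement p G ↔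
      ∀ a ∈ (P : Subgroup G), (a ^ p = 1 ∨ (p = 2 ∧ a ^ 4 = 1)) → ∀ g : G, g * a * g⁻¹ ∈ (P : Subgroup G) →
        ∃ x ∈ (P : Subgroup G), g * a * g⁻¹ = x * a * x⁻¹ := by
  have hp : p.Prime := Fact.out
  constructor
  · rintro ⟨P', N, hNn, hc⟩ a ha _ g hg
    have h1 : Nat.card N * Nat.card (P' : Subgroup G) = Nat.card G := hc.card_mul_card
    obtain ⟨kk, hkdef⟩ : ∃ kk : ℕ, kk = (Nat.card G).factorization p := ⟨_, rfl⟩
    have hk : Nat.card (P' : Subgroup G) = p ^ kk := by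
      rw [hkdef]; exact Sylow.card_eq_multiplicity P'
    have hk' : Nat.card (P : Subgroup G) = p ^ kk := by
      rw [hkdef]; exact Sylow.card_eq_multiplicity P
    have hNp : ¬ p ∣ Nat.card N := by
      intro hd
      have : p ^ (kk + 1) ∣ Nat.card G := by
        rw [← h1, hk, pow_succ, mul_comm]
        exact Nat.mul_dvd_mul hd dvd_rfl
      rw [hkdef] at this
      exact Nat.pow_succ_factorization_not_dvd (Nat.card_pos.ne') hp this
    have hc' : N.IsComplement' (P : Subgroup G) := by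
      apply Subgroup.isComplement'_of_coprime
      · rw [hk', ← hk]; exact h1
      · rw [hk']
        apply Nat.Coprime.pow_right
        exact (Nat.Coprime.symm ((Nat.Prime.coprime_iff_not_dvd hp).2 hNp))
    obtain ⟨⟨⟨k, hkN⟩, ⟨x, hxP⟩⟩, hkx⟩ := hc'.2 g
    have hkx' : k * x = g := hkx
    refine ⟨x, hxP, ?_⟩
    have hb : x * a * x⁻¹ ∈ (P : Subgroup G) :=
      Subgroup.mul_mem _ (Subgroup.mul_mem _ hxP ha) (Subgroup.inv_mem _ hxP)
    have e1 : g * a * g⁻¹ = k * (x * a * x⁻¹) * k⁻¹ := by rw [← hkx']; group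
    have hcN : k * (x * a * x⁻¹) * k⁻¹ * (x * a * x⁻¹)⁻¹ ∈ N := by
      have : k * (x * a * x⁻¹) * k⁻¹ * (x * a * x⁻¹)⁻¹
          = k * ((x * a * x⁻¹) * k⁻¹ * (x * a * x⁻¹)⁻¹) := by group
      rw [this]
      exact N.mul_mem hkN (hNn.conj_mem _ (N.inv_mem hkN) _)
    have hcP : k * (x * a * x⁻¹) * k⁻¹ * (x * a * x⁻¹)⁻¹ ∈ (P : Subgroup G) := by
      rw [← e1]
      exact Subgroup.mul_mem _ hg (Subgroup.inv_mem _ hb)
    have h3 := Subgroup.disjoint_def.1 hc'.disjoint hcN hcP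
    rw [e1]
    calc k * (x * a * x⁻¹) * k⁻¹
        = (k * (x * a * x⁻¹) * k⁻¹ * (x * a * x⁻¹)⁻¹) * (x * a * x⁻¹) := by group
      _ = x * a * x⁻¹ := by rw [h3, one_mul]
  · intro hctrl
    refine ⟨P, ?_⟩
    rw [Cfsg.Agent.S0071.result P]
    intro Q hQP g hg hgp
    have hQ : IsPGroup p Q := P.isPGroup'.to_le hQP
    obtain ⟨e, he, hee⟩ : ∃ e : ℕ, ((e = p ∧ p ≠ 2) ∨ (e = 4 ∧ p = 2)) ∧
        ∀ x : G, x ^ e = 1 → (x ^ p = 1 ∨ (p = 2 ∧ x ^ 4 = 1)) := by
      by_cases hp2 : p = 2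
      · exact ⟨4, Or.inr ⟨rfl, hp2⟩, fun x hx => Or.inr ⟨hp2, hx⟩⟩
      · exact ⟨p, Or.inl ⟨rfl, hp2⟩, fun x hx => Or.inl hx⟩
    apply Cfsg.Agent.Lib.Helper4.mem_centralizer_of_centralizes_exp e he Q hQ g hg hgp
    intro R hRQ hRinv hRexp
    have key : ∀ n : ℕ, ∀ x : G, ∀ hx : x ∈ (P : Subgroup G), x ∈ R →
        (⟨x, hx⟩ : (P : Subgroup G)) ∈ Subgroup.upperCentralSeries (P : Subgroup G) n →
        g * x = x * g := by
      intro n
      induction n with
      | zero =>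
        intro x hxP _ hxZ
        rw [Subgroup.upperCentralSeries_zero, Subgroup.mem_bot] at hxZ
        have : x = 1 := congrArg Subtype.val hxZ
        rw [this, mul_one, one_mul]
      | succ n ih =>
        intro x hxP hxR hxZ
        have hgx : g * x * g⁻¹ ∈ R := hRinv x hxR
        obtain ⟨t, ht, hconj⟩ := hctrl x hxP (hee x (hRexp x hxR)) g (hQP (hRQ hgx))
        rw [Subgroup.mem_upperCentralSeries_succ_iff] at hxZ
        have hc := hxZ ⟨t, ht⟩
        have hw : x * g * x⁻¹ * g⁻¹ = x * t * x⁻¹ * t⁻¹ := by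
          have : x * g * x⁻¹ * g⁻¹ = x * (g * x * g⁻¹)⁻¹ := by group
          rw [this, hconj]; group
        have hwR : x * g * x⁻¹ * g⁻¹ ∈ R := by
          have : x * g * x⁻¹ * g⁻¹ = x * (g * x * g⁻¹)⁻¹ := by group
          rw [this]
          exact R.mul_mem hxR (R.inv_mem hgx)
        have hwP : x * g * x⁻¹ * g⁻¹ ∈ (P : Subgroup G) := hQP (hRQ hwR)
        have hwZ : (⟨x * g * x⁻¹ * g⁻¹, hwP⟩ : (P : Subgroup G)) ∈
            Subgroup.upperCentralSeries (P : Subgroup G) n := by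
          have : (⟨x * g * x⁻¹ * g⁻¹, hwP⟩ : (P : Subgroup G)) = ⁅(⟨x, hxP⟩ : (P : Subgroup G)), ⟨t, ht⟩⁆ := by
            apply Subtype.ext
            rw [commutatorElement_def]
            exact hw
          rw [this]; exact hc
        have hcomm : Commute (x * g * x⁻¹ * g⁻¹) g := (ih _ hwP hwR hwZ).symm
        have hpow := comm_pow_eq_one_aux g x (orderOf g) (pow_orderOf_eq_one g) hcomm
        obtain ⟨j, hj⟩ := P.isPGroup' ⟨_, hwP⟩
        have hj' : (x * g * x⁻¹ * g⁻¹) ^ p ^ j = 1 := by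
          have := congrArg Subtype.val hj
          simpa using this
        have hd1 : orderOf (x * g * x⁻¹ * g⁻¹) ∣ orderOf g := orderOf_dvd_of_pow_eq_one hpow
        have hd2 : orderOf (x * g * x⁻¹ * g⁻¹) ∣ p ^ j := orderOf_dvd_of_pow_eq_one hj'
        have h1 : orderOf (x * g * x⁻¹ * g⁻¹) = 1 :=
          Nat.eq_one_of_dvd_coprimes (Nat.Coprime.pow_right j hgp) hd1 hd2
        rw [orderOf_eq_one_iff] at h1
        have : x * g = (x * g * x⁻¹ * g⁻¹) * (g * x) := by group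
        rw [this, h1, one_mul]
    haveI : Group.IsNilpotent (P : Subgroup G) := P.isPGroup'.isNilpotent
    obtain ⟨n, hn⟩ := Group.IsNilpotent.nilpotent (P : Subgroup G)
    intro x hxR
    have hxP : x ∈ (P : Subgroup G) := hQP (hRQ hxR)
    exact key n x hxP hxR (by rw [hn]; trivial)

end Cfsg.Agent.S1946
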