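import Cfsg.Statements.S0079
import Cfsg.Agent.S1946
import Cfsg.Agent.Lib.Helper7.NilpotentSylow
import Cfsg.Agent.Lib.Helper2.Index

set_option autoImplicit false
open Cfsg

namespace Cfsg.Agent.S0079

/-- in a finite nilpotent group, conjugation of an element of a Sylow subgroup by any element
is induced by an element of that Sylow subgroup. -/
lemma conj_in_sylow {K : Type*} [Group K] [Finite K] [Group.IsNilpotent K] {p : ℕ} [Fact p.Prime]
    (P : Sylow p K) (a : K) (ha : a ∈ P) (h : K) : ∃ x ∈ P, h * a * h⁻¹ = x * a * x⁻¹ := by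
  haveI : (P : Subgroup K).Normal := inferInstance
  have htop : (P : Subgroup K) ⊔ Subgroup.centralizer {a} = ⊤ := by
    apply Cfsg.Agent.Lib.Helper7.eq_top_of_forall_sylow_le
    intro q hq
    by_cases hpq : q = p
    · subst hpq
      exact ⟨P, le_sup_left⟩
    · obtain ⟨Q⟩ : Nonempty (Sylow q K) := inferInstance
      refine ⟨Q, le_trans ?_ le_sup_right⟩
      intro y hy
      rw [Subgroup.mem_centralizer_iff]
      intro z hz
      rw [Set.mem_singleton_iff] at hz
      subst hz
      exact (Cfsg.Agent.Lib.Helper7.sylow_commute_of_ne (Ne.symm hpq) P Q z y ha hy).eq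
  have hmem : h⁻¹ ∈ Subgroup.centralizer {a} ⊔ (P : Subgroup K) := by
    rw [sup_comm, htop]; exact Subgroup.mem_top _
  have hnorm : Subgroup.centralizer {a} ≤ Subgroup.normalizer ((P : Subgroup K) : Set K) := by
    rw [Subgroup.normalizer_eq_top_iff.mpr inferInstance]; exact le_top
  obtain ⟨c, hc, x, hx, hcx⟩ :=
    Cfsg.Agent.Lib.Helper2.exists_mul_of_mem_sup_of_le_normalizer hnorm hmem
  have hca : a * c = c * a := Subgroup.mem_centralizer_iff.mp hc a (Set.mem_singleton a)
  refine ⟨x⁻¹, (P : Subgroup K).inv_mem hx, ?_⟩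
  have hh : h = x⁻¹ * c⁻¹ := by
    rw [← inv_inv h, hcx, mul_inv_rev]
  rw [hh]
  have hca' : c⁻¹ * a * c = a := by rw [mul_assoc, hca, ← mul_assoc, inv_mul_cancel, one_mul]
  calc x⁻¹ * c⁻¹ * a * (x⁻¹ * c⁻¹)⁻¹ = x⁻¹ * (c⁻¹ * a * c) * x⁻¹⁻¹ := by group
    _ = x⁻¹ * a * x⁻¹⁻¹ := by rw [hca']

/-- a normal complement of `H` forces `H` to control its own fusion. -/
lemma fusion_of_complement {G : Type*} [Group G] (H N : Subgroup G) [hN : N.Normal]
    (hc : N.IsComplement' H) (x y : G) (hx : x ∈ H) (hy : y ∈ H) (g : G) (hg : g * x * g⁻¹ = y) :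
    ∃ h ∈ H, h * x * h⁻¹ = y := by
  obtain ⟨⟨n, h⟩, hnh, -⟩ := Subgroup.IsComplement.existsUnique hc g
  simp only at hnh
  refine ⟨h, h.2, ?_⟩
  have hx' : (h : G) * x * (h : G)⁻¹ ∈ H := H.mul_mem (H.mul_mem h.2 hx) (H.inv_mem h.2)
  have h1 : y * ((h : G) * x * (h : G)⁻¹)⁻¹ ∈ H := H.mul_mem hy (H.inv_mem hx')
  have h2 : y * ((h : G) * x * (h : G)⁻¹)⁻¹ ∈ N := by
    have e : y * ((h : G) * x * (h : G)⁻¹)⁻¹ =
        (n : G) * (((h : G) * x * (h : G)⁻¹) * (n : G)⁻¹ * ((h : G) * x * (h : G)⁻¹)⁻¹) := by
      rw [← hg, ← hnh]; group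
    rw [e]
    exact N.mul_mem n.2 (hN.conj_mem _ (N.inv_mem n.2) _)
  have h3 : y * ((h : G) * x * (h : G)⁻¹)⁻¹ = 1 := by
    have := hc.disjoint
    rw [Subgroup.disjoint_def] at this
    exact this h2 h1
  exact (mul_inv_eq_one.mp h3).symm

/-- A nilpotent Hall subgroup has a normal complement exactly when elements of it that are conjugate in the whole group are already conjugate inside it. -/
theorem result {G : Type*} [Group G] [Finite G] (H : Subgroup G) (hH : Group.IsNilpotent H) (hHall : Nat.Coprime (Nat.card H) H.index) : (∃ N : Subgroup G, N.Normal ∧ N.IsComplement' H) ↔ ∀ x ∈ H, ∀ y ∈ H, (∃ g : G, g * x * g⁻¹ = y) → ∃ h ∈ H, h * x * h⁻¹ = y := by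
  classical
  constructor
  · rintro ⟨N, hN, hc⟩ x hx y hy ⟨g, hg⟩
    exact fusion_of_complement H N hc x y hx hy g hg
  · intro hfus
    haveI := hH
    have hGpos : Nat.card G ≠ 0 := Nat.card_pos.ne'
    have hHpos : Nat.card H ≠ 0 := Nat.card_pos.ne'
    have hcardG : Nat.card H * H.index = Nat.card G := Subgroup.card_mul_index H
    -- step 1 : normal p-complements for primes dividing |H|
    have step1 : ∀ p : ℕ, p.Prime → p ∣ Nat.card H →
        ∃ N : Subgroup G, N.Normal ∧ N.index = p ^ (Nat.card G).factorization p ∧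
          ¬ p ∣ Nat.card N := by
      intro p hp hpH
      haveI : Fact p.Prime := ⟨hp⟩
      obtain ⟨Q⟩ : Nonempty (Sylow p ↥H) := inferInstance
      have hpidx : ¬ p ∣ H.index := by
        intro hd
        have := Nat.Coprime.eq_one_of_dvd (Nat.Coprime.coprime_dvd_left hpH hHall) hd
        exact hp.one_lt.ne' this
      have hfac : (Nat.card G).factorization p = (Nat.card H).factorization p := by
        rw [← hcardG, Nat.factorization_mul hHpos (fun h0 => hpidx (by rw [h0]; exact dvd_zero p))]
        simp [Nat.factorization_eq_zero_of_not_dvd hpidx]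
      have hcardQ : Nat.card ((Q : Subgroup ↥H).map H.subtype) =
          p ^ (Nat.card G).factorization p := by
        rw [Subgroup.card_map_of_injective H.subtype_injective, hfac]
        exact Sylow.card_eq_multiplicity Q
      let P : Sylow p G := Sylow.ofCard _ hcardQ
      have hPcoe : (P : Subgroup G) = (Q : Subgroup ↥H).map H.subtype := rfl
      have hnpc : Cfsg.HasNormalPComplement p G := by
        rw [Cfsg.Agent.S1946.result P]
        intro a ha _ g hg
        rw [hPcoe] at ha hg
        obtain ⟨a', ha', rfl⟩ := ha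
        obtain ⟨b', hb', hb⟩ := hg
        obtain ⟨h, hh, hconj⟩ := hfus (H.subtype a') a'.2 (H.subtype b') b'.2 ⟨g, hb.symm⟩
        obtain ⟨x, hx, hxe⟩ := conj_in_sylow Q a' ha' ⟨h, hh⟩
        refine ⟨H.subtype x, ?_, ?_⟩
        · rw [hPcoe]; exact ⟨x, hx, rfl⟩
        · rw [← hb, ← hconj]
          have := congrArg H.subtype hxe
          simpa using this
      obtain ⟨P', N, hN, hc⟩ := hnpc
      refine ⟨N, hN, ?_, ?_⟩
      · rw [hc.symm.index_eq_card]; exact Sylow.card_eq_multiplicity P'
      · intro hd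
        have h1 : Nat.card N * Nat.card P' = Nat.card G := hc.card_mul_card
        have h1' : Nat.card P' = p ^ (Nat.card G).factorization p := Sylow.card_eq_multiplicity P'
        have h2 : p ^ ((Nat.card G).factorization p + 1) ∣ Nat.card G := by
          obtain ⟨k, hk⟩ := hd
          have : Nat.card G = p ^ ((Nat.card G).factorization p + 1) * k := by
            conv_lhs => rw [← h1, h1', hk]
            ring
          exact ⟨k, this⟩
        exact Nat.pow_succ_factorization_not_dvd hGpos hp h2
    -- step 2 : intersect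
    have step2 : ∀ s : Finset ℕ, (∀ p ∈ s, p.Prime ∧ p ∣ Nat.card H) →
        ∃ N : Subgroup G, N.Normal ∧ N.index ≤ ∏ p ∈ s, p ^ (Nat.card G).factorization p ∧
          ∀ p ∈ s, ¬ p ∣ Nat.card N := by
      intro s
      induction s using Finset.induction_on with
      | empty =>
        intro _
        refine ⟨⊤, inferInstance, ?_, ?_⟩
        · simp
        · intro p hp; exact absurd hp (Finset.notMem_empty p)
      | insert q s hqs ih =>
        intro hs
        obtain ⟨N, hN, hidx, hnd⟩ := ih (fun p hp => hs p (Finset.mem_insert_of_mem hp))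
        obtain ⟨hqp, hqH⟩ := hs q (Finset.mem_insert_self q s)
        obtain ⟨Nq, hNq, hidxq, hndq⟩ := step1 q hqp hqH
        refine ⟨N ⊓ Nq, inferInstance, ?_, ?_⟩
        · rw [Finset.prod_insert hqs, mul_comm]
          calc (N ⊓ Nq).index ≤ N.index * Nq.index := Subgroup.index_inf_le
            _ ≤ _ := Nat.mul_le_mul hidx hidxq.le
        · intro p hp
          rw [Finset.mem_insert] at hp
          rcases hp with rfl | hp
          · intro hd
            exact hndq (hd.trans (Subgroup.card_dvd_of_le inf_le_right))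
          · intro hd
            exact hnd p hp (hd.trans (Subgroup.card_dvd_of_le inf_le_left))
    obtain ⟨N, hN, hidx, hnd⟩ := step2 (Nat.card H).primeFactors
      (fun p hp => ⟨Nat.prime_of_mem_primeFactors hp, Nat.dvd_of_mem_primeFactors hp⟩)
    refine ⟨N, hN, ?_⟩
    have hprod : ∏ p ∈ (Nat.card H).primeFactors, p ^ (Nat.card G).factorization p =
        Nat.card H := by
      conv_rhs => rw [Nat.prod_primeFactors_pow_factorization hHpos]
      apply Finset.prod_congr rfl
      intro p hp
      have hpp := Nat.prime_of_mem_primeFactors hp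
      have hpH := Nat.dvd_of_mem_primeFactors hp
      have hpidx : ¬ p ∣ H.index := by
        intro hd
        have := Nat.Coprime.eq_one_of_dvd (Nat.Coprime.coprime_dvd_left hpH hHall) hd
        exact hpp.one_lt.ne' this
      rw [← hcardG, Nat.factorization_mul hHpos (fun h0 => hpidx (by rw [h0]; exact dvd_zero p))]
      simp [Nat.factorization_eq_zero_of_not_dvd hpidx]
    rw [hprod] at hidx
    have hdisj : Disjoint N H := by
      rw [Subgroup.disjoint_def]
      intro x hxN hxH
      by_contra hx1
      have hord : orderOf x ≠ 1 := fun h => hx1 (orderOf_eq_one_iff.mp h)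
      obtain ⟨q, hq, hqd⟩ := Nat.exists_prime_and_dvd hord
      have h1 : orderOf x ∣ Nat.card H := by
        have := orderOf_dvd_natCard (⟨x, hxH⟩ : ↥H)
        rwa [Subgroup.orderOf_mk] at this
      have h2 : orderOf x ∣ Nat.card N := by
        have := orderOf_dvd_natCard (⟨x, hxN⟩ : ↥N)
        rwa [Subgroup.orderOf_mk] at this
      exact hnd q (Nat.mem_primeFactors.mpr ⟨hq, hqd.trans h1, hHpos⟩) (hqd.trans h2)
    have hge : Nat.card G ≤ Nat.card N * Nat.card H := by
      rw [← Subgroup.card_mul_index N]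
      exact Nat.mul_le_mul_left _ hidx
    have hle : Nat.card N * Nat.card H ≤ Nat.card G := by
      have h1 := Cfsg.Agent.Lib.Helper2.card_sup_mul_card_inf H N
        (by rw [Subgroup.normalizer_eq_top_iff.mpr hN]; exact le_top)
      have h2 : H ⊓ N = ⊥ := by rw [inf_comm]; exact disjoint_iff.mp hdisj
      rw [h2, Subgroup.card_bot, mul_one] at h1
      rw [mul_comm, ← h1]
      exact Subgroup.card_le_card_group _
    exact Subgroup.isComplement'_of_card_mul_and_disjoint (le_antisymm hle hge) hdisj

end Cfsg.Agent.S0079
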