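import Cfsg.Statements.S0080
import Mathlib

set_option autoImplicit false
open Cfsg

namespace Cfsg.Agent.S0080


open scoped IsMulCommutative commutatorElement

theorem key {G : Type*} [Group G] [Finite G] (H : Subgroup G)
    (h : Nat.Coprime H.index (⁅H, H⁆.relIndex H)) :
    (∀ x : H, H.transferFocal (x : G) = 1 → x ∈ H.focalSubgroupOf) ∧
    (∀ g : G, ∃ x : H, H.transferFocal (x : G) = H.transferFocal g) := by
  have hcomm : ⁅H, H⁆.subgroupOf H = commutator H := by
    rw [← Subgroup.map_subtype_commutator, Subgroup.subgroupOf,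
      Subgroup.comap_map_eq_self_of_injective H.subtype_injective]
  have hQ : Nat.card (H ⧸ H.focalSubgroupOf) ∣ ⁅H, H⁆.relIndex H := by
    rw [← Subgroup.index_eq_card, Subgroup.relIndex, hcomm]
    exact Subgroup.index_dvd_of_le H.commutator_le_focalSubgroupOf
  have hcop : Nat.Coprime (Nat.card (H ⧸ H.focalSubgroupOf)) H.index :=
    (Nat.Coprime.coprime_dvd_right hQ h).symm
  constructor
  · intro x hx
    rw [Subgroup.transferFocal_eq_pow] at hx
    have h1 : ((x : H ⧸ H.focalSubgroupOf)) ^ Nat.card (H ⧸ H.focalSubgroupOf) = 1 :=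
      pow_card_eq_one'
    have h2 : orderOf (x : H ⧸ H.focalSubgroupOf) ∣
        Nat.gcd (Nat.card (H ⧸ H.focalSubgroupOf)) H.index :=
      Nat.dvd_gcd (orderOf_dvd_of_pow_eq_one h1) (orderOf_dvd_of_pow_eq_one hx)
    rw [hcop.gcd_eq_one, Nat.dvd_one, orderOf_eq_one_iff] at h2
    exact (QuotientGroup.eq_one_iff x).1 h2
  · intro g
    obtain ⟨y, hy⟩ := (powCoprime hcop).surjective (H.transferFocal g)
    obtain ⟨x, rfl⟩ := QuotientGroup.mk_surjective y
    refine ⟨x, ?_⟩
    rw [Subgroup.transferFocal_eq_pow]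
    exact hy


/-- When the index of H is prime to the order of H/H', the focal subgroup of H is G' ∩ H, and H/(G' ∩ H) has a normal complement. -/
theorem result {G : Type*} [Group G] [Finite G] (H : Subgroup G) (h : Nat.Coprime H.index (⁅H, H⁆.relIndex H)) : Subgroup.focalSubgroup H = commutator G ⊓ H ∧ ∃ N : Subgroup G, N.Normal ∧ N ⊓ H = commutator G ⊓ H ∧ N ⊔ H = ⊤ := by
  obtain ⟨k1, k2⟩ := key H h
  have hfocal : Subgroup.focalSubgroup H = commutator G ⊓ H := by
    apply le_antisymm
    · exact le_inf H.focalSubgroup_le_commutator H.focalSubgroup_le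
    · intro x hx
      obtain ⟨hxG, hxH⟩ := Subgroup.mem_inf.1 hx
      have h1 : H.transferFocal x = 1 :=
        Abelianization.commutator_subset_ker H.transferFocal hxG
      have := k1 ⟨x, hxH⟩ h1
      rw [Subgroup.focalSubgroupOf_def, Subgroup.mem_subgroupOf] at this
      exact this
  refine ⟨hfocal, H.transferFocal.ker, inferInstance, ?_, ?_⟩
  · rw [← hfocal]
    apply le_antisymm
    · intro x hx
      obtain ⟨hxK, hxH⟩ := Subgroup.mem_inf.1 hx
      have := k1 ⟨x, hxH⟩ (MonoidHom.mem_ker.1 hxK)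
      rw [Subgroup.focalSubgroupOf_def, Subgroup.mem_subgroupOf] at this
      exact this
    · rw [hfocal]
      exact inf_le_inf_right _ (Abelianization.commutator_subset_ker H.transferFocal)
  · rw [eq_top_iff]
    intro g _
    obtain ⟨x, hx⟩ := k2 g
    have h1 : g * (x : G)⁻¹ ∈ H.transferFocal.ker := by
      rw [MonoidHom.mem_ker, map_mul, map_inv, hx, mul_inv_cancel]
    have : g = (g * (x : G)⁻¹) * x := by group
    rw [this]
    exact Subgroup.mul_mem_sup h1 x.2

end Cfsg.Agent.S0080
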