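import Cfsg.Statements.S0082
import Mathlib
import Cfsg.Agent.Lib.Helper3.PRes
import Cfsg.Agent.Lib.Helper1.CyclicP
import Cfsg.Agent.Lib.Helper1.CoprimeAbelian

set_option autoImplicit false
open Cfsg

namespace Cfsg.Agent.S0082

open Cfsg.Agent.Lib.Helper1 Cfsg.Agent.Lib.Helper3

/-- if the normalizer of the cyclic Sylow subgroup `P` does not centralize it, `P ≤ G'` -/
theorem sylow_le_commutator {G : Type*} [Group G] [Finite G] {p : ℕ} [Fact p.Prime]
    (P : Sylow p G) (hP : IsCyclic P)
    (hNC : ¬ Subgroup.normalizer (P : Set G) ≤ Subgroup.centralizer (P : Set G)) :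
    (P : Subgroup G) ≤ commutator G := by
  have hp : p.Prime := Fact.out
  haveI hcomm : IsMulCommutative (P : Subgroup G) :=
    ⟨⟨fun a b => (@IsCyclic.commGroup _ _ hP).mul_comm a b⟩⟩
  obtain ⟨n, hnN, hnC⟩ := SetLike.not_le_iff_exists.1 hNC
  obtain ⟨a, b, haz, hbz, hnab, ⟨k, hak⟩, hbcop⟩ := exists_p_decomp p n
  have hzn : Subgroup.zpowers n ≤ Subgroup.normalizer (P : Set G) :=
    (Subgroup.zpowers_le).2 hnN
  have haN := hzn haz
  have hbN := hzn hbz
  -- a lies in P
  have haP : a ∈ (P : Subgroup G) := by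
    have hpa : IsPGroup p (Subgroup.zpowers a) := by
      apply IsPGroup.of_card (n := k)
      rw [Nat.card_zpowers, hak]
    have hle : Subgroup.zpowers a ≤ Subgroup.normalizer ((P : Subgroup G) : Set G) :=
      (Subgroup.zpowers_le).2 haN
    have hsup := hpa.to_sup_of_normal_right' P.isPGroup' hle
    have := P.is_maximal' hsup le_sup_right
    rw [← this]
    exact Subgroup.mem_sup_left (Subgroup.mem_zpowers a)
  have haC : a ∈ Subgroup.centralizer ((P : Subgroup G) : Set G) :=
    Subgroup.le_centralizer (P : Subgroup G) haP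
  have hbC : b ∉ Subgroup.centralizer ((P : Subgroup G) : Set G) := by
    intro hb
    apply hnC
    rw [hnab]
    exact Subgroup.mul_mem _ haC hb
  -- the p'-group K = ⟨b⟩ acts on P
  set K := Subgroup.zpowers b with hK
  have hKN : K ≤ Subgroup.normalizer ((P : Subgroup G) : Set G) := (Subgroup.zpowers_le).2 hbN
  obtain ⟨j, hj⟩ := IsPGroup.iff_card.1 P.isPGroup'
  have hcop : (Nat.card K).Coprime (Nat.card (P : Subgroup G)) := by
    rw [hK, Nat.card_zpowers, hj]
    exact Nat.Coprime.pow_right j hbcop
  have h1 := fixed_inf_commutator_eq_bot K (P : Subgroup G) hKN hcop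
  have h2 := fixed_sup_commutator_eq K (P : Subgroup G) hKN hcop
  have hcle : ⁅(P : Subgroup G), K⁆ ≤ (P : Subgroup G) :=
    commutator_le_of_normalizer K (P : Subgroup G) hKN
  have hcne : ⁅(P : Subgroup G), K⁆ ≠ ⊥ := by
    intro h
    rw [Subgroup.commutator_eq_bot_iff_le_centralizer, Subgroup.le_centralizer_iff] at h
    exact hbC (h (Subgroup.mem_zpowers b))
  rcases eq_bot_or_eq_bot_of_inf_eq_bot hP P.isPGroup' inf_le_left hcle h1 with h | h
  · rw [h, bot_sup_eq] at h2
    rw [← h2, commutator_def]
    exact Subgroup.commutator_mono le_top le_top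
  · exact absurd h hcne


/-- With a cyclic Sylow p-subgroup, either there is a normal p-complement or the elements of order prime to p generate the whole group. -/
theorem result {G : Type*} [Group G] [Finite G] {p : ℕ} [Fact p.Prime] (P : Sylow p G) (hP : IsCyclic P) : Cfsg.HasNormalPComplement p G ∨ Cfsg.pResidual p G = ⊤ := by
  by_cases hNC : Subgroup.normalizer (P : Set G) ≤ Subgroup.centralizer (P : Set G)
  · left
    exact ⟨P, _, inferInstance, MonoidHom.ker_transferSylow_isComplement' P hNC⟩
  · right
    have hle := sylow_le_commutator P hP hNC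
    have hidx : ¬ p ∣ (commutator G).index := by
      intro h
      exact P.not_dvd_index (dvd_trans h (Subgroup.index_dvd_of_le hle))
    have h1 := sup_pRes_eq_top p (commutator G) hidx
    rw [sup_comm] at h1
    exact pRes_eq_top_of_sup_commutator p h1

end Cfsg.Agent.S0082
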