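import Cfsg.Statements.S0083
import Mathlib
import Cfsg.Agent.Lib.Helper1.NPC
import Cfsg.Agent.Lib.Helper1.Frob

set_option autoImplicit false
open Cfsg

namespace Cfsg.Agent.S0083

open Cfsg.Agent.Lib.Helper1


/-- For an abelian Sylow p-subgroup P, a normal p-complement exists exactly when the normalizer of P is an internal direct product of P with some subgroup. -/
theorem result {G : Type*} [Group G] [Finite G] {p : ℕ} [Fact p.Prime] (P : Sylow p G) (hP : IsMulCommutative P) : Cfsg.HasNormalPComplement p G ↔ ∃ Q : Subgroup G, Q ≤ Subgroup.centralizer (P : Set G) ∧ Q ⊓ (P : Subgroup G) = ⊥ ∧ Q ⊔ (P : Subgroup G) = Subgroup.normalizer (P : Set G) := by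
  haveI := hP
  constructor
  · rintro ⟨P₀, K, hKn, hK₀⟩
    have hK := isComplement'_sylow_of_isComplement' P₀ P K hK₀
    refine ⟨K ⊓ Subgroup.normalizer (P : Set G), ?_, ?_, ?_⟩
    · intro x hx
      obtain ⟨hxK, hxN⟩ := Subgroup.mem_inf.1 hx
      rw [Subgroup.mem_centralizer_iff]
      intro t ht
      have ht' : t ∈ (P : Subgroup G) := ht
      have h1 : x * t * x⁻¹ * t⁻¹ ∈ (P : Subgroup G) :=
        (P : Subgroup G).mul_mem ((Subgroup.mem_normalizer_iff.1 hxN t).1 ht')
          ((P : Subgroup G).inv_mem ht')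
      have h2 : x * t * x⁻¹ * t⁻¹ ∈ K := by
        have : x * t * x⁻¹ * t⁻¹ = x * (t * x⁻¹ * t⁻¹) := by group
        rw [this]
        exact K.mul_mem hxK (hKn.conj_mem _ (K.inv_mem hxK) t)
      have h3 := inf_eq_bot_of_isComplement' hK h2 h1
      calc t * x = (x * t * x⁻¹ * t⁻¹)⁻¹ * (x * t) := by group
        _ = x * t := by rw [h3, inv_one, one_mul]
    · rw [eq_bot_iff]
      intro x hx
      obtain ⟨hx1, hxP⟩ := Subgroup.mem_inf.1 hx
      obtain ⟨hxK, -⟩ := Subgroup.mem_inf.1 hx1
      rw [Subgroup.mem_bot]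
      exact inf_eq_bot_of_isComplement' hK hxK hxP
    · apply le_antisymm
      · exact sup_le inf_le_right Subgroup.le_normalizer
      · intro n hn
        obtain ⟨k, hk, t, ht, rfl⟩ := exists_mul_of_isComplement' hK n
        have htN : t ∈ Subgroup.normalizer ((P : Subgroup G) : Set G) := Subgroup.le_normalizer ht
        have hkN : k ∈ Subgroup.normalizer ((P : Subgroup G) : Set G) := by
          have : k = (k * t) * t⁻¹ := by group
          rw [this]
          exact Subgroup.mul_mem _ hn (Subgroup.inv_mem _ htN)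
        exact Subgroup.mul_mem_sup (Subgroup.mem_inf.2 ⟨hk, hkN⟩) ht
  · rintro ⟨Q, hQC, -, hQN⟩
    apply hasNormalPComplement_of_normalizer_le_centralizer P
    have : Subgroup.normalizer ((P : Subgroup G) : Set G) = Q ⊔ (P : Subgroup G) := hQN.symm
    rw [this]
    exact sup_le hQC (Subgroup.le_centralizer _)

end Cfsg.Agent.S0083
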