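import Cfsg.Statements.S0084
import Mathlib
import Cfsg.Agent.Lib.Helper1.NPC

set_option autoImplicit false
open Cfsg

namespace Cfsg.Agent.S0084

/-- A group whose Sylow 2-subgroups are Klein four-groups and whose order is prime to 3 has a normal 2-complement. -/
theorem result {G : Type*} [Group G] [Finite G] (T : Sylow 2 G) (hT : IsKleinFour T) (h3 : ¬ 3 ∣ Nat.card G) : Cfsg.HasNormalPComplement 2 G := by
  haveI := hT
  haveI : IsMulCommutative (T : Subgroup G) := IsKleinFour.isMulCommutative
  have h4 : Nat.card (T : Subgroup G) = 4 := IsKleinFour.card_four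
  apply Cfsg.Agent.Lib.Helper1.hasNormalPComplement_of_normalizer_le_centralizer T
  apply Cfsg.Agent.Lib.Helper1.normalizer_le_centralizer_of_fixed T
  intro q hq hq2 hqG F hmod
  rw [← Subgroup.card_eq_iff_eq_top, h4]
  rw [h4] at hmod
  have hd : Nat.card F ∣ 4 := h4 ▸ Subgroup.card_subgroup_dvd_card F
  have hle : Nat.card F ≤ 4 := Nat.le_of_dvd (by norm_num) hd
  have hpos : 0 < Nat.card F := Nat.card_pos
  have hdvd : q ∣ 4 - Nat.card F := (Nat.modEq_iff_dvd' hle).1 hmod.symm
  generalize Nat.card F = c at *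
  interval_cases c
  · exfalso
    have : q = 3 := (Nat.prime_dvd_prime_iff_eq hq (by norm_num)).1 hdvd
    subst this; exact h3 hqG
  · exfalso
    have : q = 2 := (Nat.prime_dvd_prime_iff_eq hq (by norm_num)).1 hdvd
    exact hq2 this
  · norm_num at hd
  · rfl

end Cfsg.Agent.S0084
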