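import Cfsg.Statements.S0085
import Mathlib
import Cfsg.Agent.Lib.Helper1.NPC

set_option autoImplicit false
open Cfsg

namespace Cfsg.Agent.S0085

/-- A group whose Sylow 2-subgroups are elementary abelian of order 8 and whose order is prime to 3 and to 7 has a normal 2-complement. -/
theorem result {G : Type*} [Group G] [Finite G] (T : Sylow 2 G) (h8 : Nat.card T = 8) (he : ∀ x : T, x * x = 1) (h3 : ¬ 3 ∣ Nat.card G) (h7 : ¬ 7 ∣ Nat.card G) : Cfsg.HasNormalPComplement 2 G := by
  have hcomm : ∀ a b : (T : Subgroup G), a * b = b * a := by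
    intro a b
    have h1 := he (a * b)
    have h2 := he a
    have h3 := he b
    calc a * b = (b * b) * (a * b) * (a * a) := by rw [h2, h3, one_mul, mul_one]
      _ = b * (b * a) * (b * a) * a := by group
      _ = b * ((b * a) * (b * a)) * a := by group
      _ = b * a := by rw [he (b * a), mul_one]
  haveI : IsMulCommutative (T : Subgroup G) := ⟨⟨hcomm⟩⟩
  have h8' : Nat.card (T : Subgroup G) = 8 := h8
  apply Cfsg.Agent.Lib.Helper1.hasNormalPComplement_of_normalizer_le_centralizer T
  apply Cfsg.Agent.Lib.Helper1.normalizer_le_centralizer_of_fixed T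
  intro q hq hq2 hqG F hmod
  rw [← Subgroup.card_eq_iff_eq_top, h8']
  rw [h8'] at hmod
  have hd : Nat.card F ∣ 8 := h8' ▸ Subgroup.card_subgroup_dvd_card F
  have hle : Nat.card F ≤ 8 := Nat.le_of_dvd (by norm_num) hd
  have hpos : 0 < Nat.card F := Nat.card_pos
  have hdvd : q ∣ 8 - Nat.card F := (Nat.modEq_iff_dvd' hle).1 hmod.symm
  generalize Nat.card F = c at *
  interval_cases c
  · exfalso
    have : q = 7 := (Nat.prime_dvd_prime_iff_eq hq (by norm_num)).1 hdvd
    subst this; exact h7 hqG
  · exfalso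
    have h6 : q ∣ 2 * 3 := hdvd
    rcases (Nat.Prime.dvd_mul hq).1 h6 with h | h
    · exact hq2 ((Nat.prime_dvd_prime_iff_eq hq (by norm_num)).1 h)
    · have : q = 3 := (Nat.prime_dvd_prime_iff_eq hq (by norm_num)).1 h
      subst this; exact h3 hqG
  · norm_num at hd
  · exfalso
    have h4 : q ∣ 2 * 2 := hdvd
    rcases (Nat.Prime.dvd_mul hq).1 h4 with h | h
    · exact hq2 ((Nat.prime_dvd_prime_iff_eq hq (by norm_num)).1 h)
    · exact hq2 ((Nat.prime_dvd_prime_iff_eq hq (by norm_num)).1 h)
  · norm_num at hd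
  · norm_num at hd
  · norm_num at hd
  · rfl

end Cfsg.Agent.S0085
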