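import Cfsg.Statements.S0086
import Mathlib

set_option autoImplicit false
open Cfsg

namespace Cfsg.Agent.S0086

/-- A normal complement to a Sylow p-subgroup is exactly the set of elements of order prime to p. -/
theorem result {G : Type*} [Group G] [Finite G] {p : ℕ} [Fact p.Prime] (P : Sylow p G) (N : Subgroup G) [N.Normal] (hN : N.IsComplement' (P : Subgroup G)) (x : G) : x ∈ N ↔ Nat.Coprime (orderOf x) p := by
  have hp : p.Prime := Fact.out
  have h1 : Nat.card N * Nat.card (P : Subgroup G) = Nat.card G := hN.card_mul_card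
  have h2 : Nat.card N * N.index = Nat.card G := N.card_mul_index
  have h3 : Nat.card (P : Subgroup G) * (P : Subgroup G).index = Nat.card G :=
    (P : Subgroup G).card_mul_index
  have hNpos : 0 < Nat.card N := Nat.card_pos
  have hPpos : 0 < Nat.card (P : Subgroup G) := Nat.card_pos
  have hidx : N.index = Nat.card (P : Subgroup G) :=
    Nat.eq_of_mul_eq_mul_left hNpos (h2.trans h1.symm)
  have hNc : Nat.card N = (P : Subgroup G).index := by
    apply Nat.eq_of_mul_eq_mul_left hPpos
    rw [h3, mul_comm]; exact h1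
  have hcop : Nat.Coprime (Nat.card N) p := by
    rw [hNc, Nat.coprime_comm, Nat.Prime.coprime_iff_not_dvd hp]
    exact P.not_dvd_index
  constructor
  · intro hx
    exact Nat.Coprime.coprime_dvd_left (Subgroup.orderOf_dvd_natCard N hx) hcop
  · intro hx
    obtain ⟨k, hk⟩ := (IsPGroup.iff_card.1 P.isPGroup')
    have hq : orderOf (QuotientGroup.mk x : G ⧸ N) ∣ p ^ k := by
      have : Nat.card (G ⧸ N) = p ^ k := by
        rw [← hk]; exact hidx
      rw [← this]
      exact orderOf_dvd_natCard _
    have hq2 : orderOf (QuotientGroup.mk x : G ⧸ N) ∣ orderOf x :=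
      orderOf_map_dvd (QuotientGroup.mk' N) x
    have hc : Nat.Coprime (orderOf x) (p ^ k) := Nat.Coprime.pow_right k hx
    have h1' : orderOf (QuotientGroup.mk x : G ⧸ N) = 1 :=
      Nat.eq_one_of_dvd_coprimes hc hq2 hq
    rw [orderOf_eq_one_iff, QuotientGroup.eq_one_iff] at h1'
    exact h1'

end Cfsg.Agent.S0086
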