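import Cfsg.Statements.S0091
import Mathlib

set_option autoImplicit false
open Cfsg

namespace Cfsg.Agent.S0091

open scoped commutatorElement

/-- If a nontrivial Sylow p-subgroup controls its own fusion then it is not contained in the derived subgroup. -/
theorem result {G : Type*} [Group G] [Finite G] {p : ℕ} [Fact p.Prime] (P : Sylow p G) (hp : p ∣ Nat.card G) (h : ∀ x ∈ P, ∀ y ∈ P, (∃ g : G, g * x * g⁻¹ = y) → ∃ z ∈ P, z * x * z⁻¹ = y) : ¬ (P : Subgroup G) ≤ commutator G := by
  intro hle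
  have hfoc := Subgroup.commutator_inf_eq_focalSubgroup P
  rw [inf_of_le_right hle] at hfoc
  -- the focal subgroup lies in the derived subgroup of P
  have h1 : (P : Subgroup G).focalSubgroup ≤ ⁅(P : Subgroup G), (P : Subgroup G)⁆ := by
    rw [Subgroup.focalSubgroup_def, Subgroup.closure_le]
    rintro g ⟨hgP, x, hxP, u, rfl⟩
    rw [commutatorElement_def] at hgP ⊢
    have hy : u * x * u⁻¹ ∈ (P : Subgroup G) := by
      have h2 : x⁻¹ * (x * u * x⁻¹ * u⁻¹) ∈ (P : Subgroup G) :=
        Subgroup.mul_mem _ (Subgroup.inv_mem _ hxP) hgP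
      have h3 := Subgroup.inv_mem _ h2
      have e : (x⁻¹ * (x * u * x⁻¹ * u⁻¹))⁻¹ = u * x * u⁻¹ := by group
      rwa [e] at h3
    obtain ⟨z, hzP, hz⟩ := h x hxP _ hy ⟨u, rfl⟩
    have e : x * u * x⁻¹ * u⁻¹ = ⁅x, z⁆ := by
      rw [commutatorElement_def]
      have : x * u * x⁻¹ * u⁻¹ = x * (u * x * u⁻¹)⁻¹ := by group
      rw [this, ← hz]
      group
    rw [SetLike.mem_coe, e]
    exact Subgroup.commutator_mem_commutator hxP hzP
  have h2 : ⁅(P : Subgroup G), (P : Subgroup G)⁆ = (P : Subgroup G) :=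
    le_antisymm (Subgroup.commutator_le_self _) (le_trans hfoc.le h1)
  rw [← Subgroup.map_subtype_commutator] at h2
  have h3 : commutator (P : Subgroup G) = ⊤ := by
    apply Subgroup.map_injective (Subgroup.subtype_injective (P : Subgroup G))
    rw [h2, ← MonoidHom.range_eq_map, Subgroup.range_subtype]
  haveI : Nontrivial (P : Subgroup G) :=
    (Subgroup.nontrivial_iff_ne_bot _).2 (P.ne_bot_of_dvd_card hp)
  haveI := P.isPGroup'.isNilpotent
  exact (Group.IsSolvable.commutator_lt_top_of_nontrivial (P : Subgroup G)).ne h3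

end Cfsg.Agent.S0091
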