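import Cfsg.Statements.S0092
import Mathlib
import Cfsg.Agent.S0075
import Cfsg.Agent.S0055
import Cfsg.Agent.Lib.Helper4.CoprimeAct
import Cfsg.Agent.Lib.Helper4.CoprimeComm
import Cfsg.Agent.Lib.Helper4.PResidual
import Cfsg.Agent.Lib.Helper4.Schmidt

set_option autoImplicit false
open Cfsg

namespace Cfsg.Agent.S0092

open Cfsg.Agent.Lib.Helper4

open scoped commutatorElement

theorem pResidual_pResidual_eq_top (p : ℕ) (G : Type*) [Group G] :
    pResidual p ↥(pResidual p G) = ⊤ := by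
  have h1 : pResidual p G ≤ (pResidual p ↥(pResidual p G)).map (pResidual p G).subtype := by
    unfold pResidual
    rw [Subgroup.closure_le]
    intro g hg
    have hgN : g ∈ Subgroup.closure {g : G | Nat.Coprime (orderOf g) p} :=
      Subgroup.subset_closure hg
    refine ⟨⟨g, hgN⟩, Subgroup.subset_closure ?_, rfl⟩
    show Nat.Coprime (orderOf (⟨g, hgN⟩ : ↥(Subgroup.closure {g : G | Nat.Coprime (orderOf g) p}))) p
    rw [← Subgroup.orderOf_coe]
    exact hg
  rw [eq_top_iff]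
  intro x _
  obtain ⟨y, hy, hyx⟩ := h1 x.2
  have : y = x := Subtype.ext hyx
  rwa [← this]

/-- If the Sylow p-subgroups of O^p(G) are abelian then G splits over O^p(G). -/
theorem result {G : Type*} [Group G] [Finite G] {p : ℕ} [Fact p.Prime] (h : ∀ Q : Sylow p (Cfsg.pResidual p G), IsMulCommutative Q) : ∃ K : Subgroup G, K.IsComplement' (Cfsg.pResidual p G) := by
  classical
  have hp : p.Prime := Fact.out
  obtain ⟨N, hN⟩ : ∃ N : Subgroup G, N = pResidual p G := ⟨_, rfl⟩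
  rw [← hN]
  haveI hNn : N.Normal := by rw [hN]; exact pResidual_normal p G
  have hresN : pResidual p ↥N = ⊤ := by rw [hN]; exact pResidual_pResidual_eq_top p G
  have h' : ∀ Q : Sylow p ↥N, IsMulCommutative Q := by
    intro Q; subst hN; exact h Q
  -- a Sylow subgroup of N
  obtain ⟨T⟩ : Nonempty (Sylow p ↥N) := inferInstance
  have hTc := h' T
  have h75 := Cfsg.Agent.S0075.result T hTc
  rw [hresN, inf_top_eq] at h75
  obtain ⟨P₀, hP₀⟩ : ∃ P₀ : Subgroup G, P₀ = (T : Subgroup ↥N).map N.subtype := ⟨_, rfl⟩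
  obtain ⟨H, hH⟩ : ∃ H : Subgroup G, H = Subgroup.normalizer (P₀ : Set G) := ⟨_, rfl⟩
  have hP₀N : P₀ ≤ N := by rw [hP₀]; exact Subgroup.map_subtype_le _
  have hP₀H : P₀ ≤ H := by rw [hH]; exact Subgroup.le_normalizer
  have hfrat : H ⊔ N = ⊤ := by
    rw [hH, hP₀]; exact Sylow.normalizer_sup_eq_top T
  have hP₀comm : ∀ a ∈ P₀, ∀ b ∈ P₀, a * b = b * a := by
    intro a ha b hb
    rw [hP₀] at ha hb
    obtain ⟨a', ha', rfl⟩ := ha
    obtain ⟨b', hb', rfl⟩ := hb
    have := hTc.is_comm.comm ⟨a', ha'⟩ ⟨b', hb'⟩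
    have h2 : a' * b' = b' * a' := congrArg Subtype.val this
    rw [← map_mul, ← map_mul, h2]
  haveI hP₀c : IsMulCommutative P₀ := ⟨⟨fun a b => Subtype.ext (hP₀comm a.1 a.2 b.1 b.2)⟩⟩
  have hsub : (P₀.subgroupOf N) = (T : Subgroup ↥N) := by
    rw [hP₀]
    exact Subgroup.comap_map_eq_self_of_injective (Subgroup.subtype_injective N) _
  -- M = N_N(P₀)
  obtain ⟨M, hM⟩ : ∃ M : Subgroup G, M = H ⊓ N := ⟨_, rfl⟩
  have hMH : M ≤ H := by rw [hM]; exact inf_le_left
  have hMN : M ≤ N := by rw [hM]; exact inf_le_right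
  have hP₀M : P₀ ≤ M := by rw [hM]; exact le_inf hP₀H hP₀N
  have hMmap0 : (Subgroup.normalizer ((T : Subgroup ↥N) : Set ↥N)).map N.subtype = M := by
    rw [← hsub, ← Subgroup.subgroupOf_normalizer_eq hP₀N, Subgroup.subgroupOf_map_subtype, hM, hH]
  have hMmap : (Subgroup.normalizer (T : Set ↥N)).map N.subtype = M := hMmap0
  have hP₀eq : P₀ = ⁅P₀, M⁆ := by
    have := congrArg (Subgroup.map N.subtype) h75
    rw [Subgroup.map_commutator, hMmap, ← hP₀] at this
    exact this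
  -- coprimality
  have hP₀card : Nat.card P₀ = Nat.card (T : Subgroup ↥N) := by
    rw [hP₀]
    exact Subgroup.card_map_of_injective (Subgroup.subtype_injective N)
  have hP₀p : IsPGroup p P₀ := by
    rw [hP₀]; exact T.isPGroup'.map _
  have hrelN : ¬ p ∣ P₀.relIndex N := by
    rw [Subgroup.relIndex, hsub]
    exact T.not_dvd_index
  have hrelM : ¬ p ∣ P₀.relIndex M := by
    intro hdvd
    apply hrelN
    rw [← Subgroup.relIndex_mul_relIndex P₀ M N hP₀M hMN]
    exact dvd_mul_of_dvd_left hdvd _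
  obtain ⟨k₀, hk₀⟩ := (IsPGroup.iff_card).1 hP₀p
  have hcop0 : (Nat.card P₀).Coprime (P₀.relIndex M) := by
    rw [hk₀]
    exact Nat.Coprime.pow_left _ ((Nat.Prime.coprime_iff_not_dvd hp).2 hrelM)
  have hMnorm : M ≤ Subgroup.normalizer (P₀ : Set G) := by rw [← hH]; exact hMH
  have hP₀solv : Group.IsSolvable P₀ := by
    haveI := hP₀p.isNilpotent
    infer_instance
  obtain ⟨L, hLM, hLcard, hLinf⟩ := sz_exists_sub M P₀ hP₀M hMnorm hcop0
  have hLrel : Nat.card L = P₀.relIndex M := by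
    have h1 : Nat.card P₀ * P₀.relIndex M = Nat.card M := by
      have := Subgroup.relIndex_mul_relIndex ⊥ P₀ M bot_le hP₀M
      rwa [Subgroup.relIndex_bot_left, Subgroup.relIndex_bot_left] at this
    have hpos : 0 < Nat.card P₀ := Nat.card_pos
    exact Nat.eq_of_mul_eq_mul_left hpos (hLcard.trans h1.symm)
  have hLp : ¬ p ∣ Nat.card L := by rw [hLrel]; exact hrelM
  have hcopLP : (Nat.card L).Coprime (Nat.card P₀) := by
    rw [hLrel]; exact hcop0.symm
  have hLnorm : L ≤ Subgroup.normalizer (P₀ : Set G) := hLM.trans hMnorm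
  have hMsup : P₀ ⊔ L = M := by
    apply Subgroup.eq_of_le_of_card_ge (sup_le hP₀M hLM)
    rw [act_card_sup L P₀ hLnorm hcopLP, hLcard]
  -- [P₀, M] ≤ [P₀, L]
  have hcommML : ⁅P₀, M⁆ ≤ ⁅P₀, L⁆ := by
    rw [Subgroup.commutator_le]
    intro u hu m hm
    rw [← hMsup] at hm
    obtain ⟨u', hu', l, hl, rfl⟩ := act_mem_sup L P₀ hLnorm hm
    have hul : ⁅u, l⁆ ∈ P₀ := by
      rw [commutatorElement_def]
      have h1 : l * u⁻¹ * l⁻¹ ∈ P₀ :=
        (Subgroup.mem_normalizer_iff.1 (hLnorm hl) u⁻¹).1 (P₀.inv_mem hu)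
      have e : u * l * u⁻¹ * l⁻¹ = u * (l * u⁻¹ * l⁻¹) := by group
      rw [e]; exact P₀.mul_mem hu h1
    have e : ⁅u, u' * l⁆ = ⁅u, l⁆ := by
      have h1 : u * u' = u' * u := hP₀comm u hu u' hu'
      have h2 : u' * ⁅u, l⁆ = ⁅u, l⁆ * u' := hP₀comm u' hu' _ hul
      calc ⁅u, u' * l⁆ = (u * u') * l * u⁻¹ * l⁻¹ * u'⁻¹ := by
            rw [commutatorElement_def]; group
        _ = (u' * u) * l * u⁻¹ * l⁻¹ * u'⁻¹ := by rw [h1]
        _ = (u' * ⁅u, l⁆) * u'⁻¹ := by rw [commutatorElement_def]; group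
        _ = (⁅u, l⁆ * u') * u'⁻¹ := by rw [h2]
        _ = ⁅u, l⁆ := by group
    rw [e]
    exact Subgroup.commutator_mem_commutator hu hl
  have hPL : ⁅P₀, L⁆ = P₀ := by
    apply le_antisymm
    · exact commutator_le_of_le_normalizer L P₀ hLnorm
    · calc P₀ = ⁅P₀, M⁆ := hP₀eq
        _ ≤ ⁅P₀, L⁆ := hcommML
  have hfix : P₀ ⊓ Subgroup.centralizer (L : Set G) = ⊥ := by
    have := (Cfsg.Agent.S0055.result L P₀ hLnorm hcopLP).1
    rw [hPL] at this
    rw [← this]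
    apply le_antisymm
    · exact le_inf le_rfl inf_le_left
    · exact inf_le_left
  -- K₁ = N_H(L)
  obtain ⟨K₁, hK₁⟩ : ∃ K₁ : Subgroup G, K₁ = H ⊓ Subgroup.normalizer (L : Set G) := ⟨_, rfl⟩
  have hK₁H : K₁ ≤ H := by rw [hK₁]; exact inf_le_left
  have hK₁L : K₁ ≤ Subgroup.normalizer (L : Set G) := by rw [hK₁]; exact inf_le_right
  have hnormfix : ∀ u ∈ P₀, u ∈ Subgroup.normalizer (L : Set G) → u = 1 := by
    intro u hu hun
    have hc := act_centralizes L P₀ hLnorm hcopLP hu (cj_eq_of_mem_normalizer hun)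
    have : u ∈ P₀ ⊓ Subgroup.centralizer (L : Set G) := ⟨hu, hc⟩
    rwa [hfix, Subgroup.mem_bot] at this
  have hK₁P₀ : K₁ ⊓ P₀ = ⊥ := by
    rw [eq_bot_iff]
    intro u hu
    rw [Subgroup.mem_bot]
    exact hnormfix u hu.2 (hK₁L hu.1)
  have hHsup : K₁ ⊔ P₀ = H := by
    apply le_antisymm (sup_le hK₁H hP₀H)
    intro h hh
    have hcjle : cj h L ≤ P₀ ⊔ L := by
      rw [hMsup, hM]
      intro x hx
      rw [mem_cj_iff] at hx
      have hlM := hLM hx
      rw [hM] at hlM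
      have e : x = h * (h⁻¹ * x * h) * h⁻¹ := by group
      rw [e]
      exact ⟨H.mul_mem (H.mul_mem hh hlM.1) (H.inv_mem hh), hNn.conj_mem _ hlM.2 h⟩
    obtain ⟨k, hk, hkL⟩ := sz_act_conj L P₀ hLnorm hcopLP (Or.inr hP₀solv) (cj h L) hcjle
      (card_cj' h L)
    have h3 : cj (k⁻¹ * h) L = L := by
      rw [cj_mul, ← hkL, cj_inv_cj']
    have h4 : k⁻¹ * h ∈ K₁ := by
      rw [hK₁]
      exact ⟨H.mul_mem (H.inv_mem (hP₀H hk)) hh, mem_normalizer_of_cj_eq h3⟩
    have e : h = (k⁻¹ * h) * ((k⁻¹ * h)⁻¹ * k * (k⁻¹ * h)) := by group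
    rw [e]
    refine Subgroup.mul_mem_sup h4 ?_
    have hkh : k⁻¹ * h ∈ Subgroup.normalizer (P₀ : Set G) := by
      rw [← hH]; exact hK₁H h4
    have := (Subgroup.mem_normalizer_iff.1 (Subgroup.inv_mem _ hkh) k).1 hk
    simpa using this
  -- cardinalities
  have hcard1 : Nat.card G * Nat.card M = Nat.card H * Nat.card N := by
    have := Cfsg.Agent.Lib.Helper2.card_sup_mul_card_inf H N
      (by rw [Subgroup.normalizer_eq_top]; exact le_top)
    rwa [hfrat, Subgroup.card_top, ← hM] at this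
  have hcard2 : Nat.card H = Nat.card K₁ * Nat.card P₀ := by
    have := Cfsg.Agent.Lib.Helper2.card_sup_mul_card_inf K₁ P₀ (by rw [← hH]; exact hK₁H)
    rwa [hHsup, hK₁P₀, Subgroup.card_bot, mul_one] at this
  have hpq := isPGroup_quotient_pResidual p G
  obtain ⟨j, hj⟩ : ∃ j, N.index = p ^ j := by
    subst hN
    obtain ⟨j, hj⟩ := (IsPGroup.iff_card).1 hpq
    exact ⟨j, by rw [Subgroup.index_eq_card]; exact hj⟩
  have hcard3 : Nat.card N * p ^ j = Nat.card G := by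
    rw [← hj]; exact Subgroup.card_mul_index N
  have hcardK₁ : Nat.card K₁ = p ^ j * Nat.card L := by
    have hposP : 0 < Nat.card P₀ := Nat.card_pos
    have hposN : 0 < Nat.card N := Nat.card_pos
    have e1 : Nat.card G * (Nat.card P₀ * Nat.card L) = Nat.card K₁ * Nat.card P₀ * Nat.card N := by
      rw [hLcard, hcard1, hcard2]
    rw [← hcard3] at e1
    have e2 : (Nat.card N * Nat.card P₀) * (p ^ j * Nat.card L)
        = (Nat.card N * Nat.card P₀) * Nat.card K₁ := by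
      rw [show Nat.card N * Nat.card P₀ * (p ^ j * Nat.card L)
        = Nat.card N * p ^ j * (Nat.card P₀ * Nat.card L) by ring, e1]; ring
    exact (Nat.eq_of_mul_eq_mul_left (Nat.mul_pos hposN hposP) e2).symm
  -- Sylow of K₁
  obtain ⟨S⟩ : Nonempty (Sylow p ↥K₁) := inferInstance
  obtain ⟨K, hK⟩ : ∃ K : Subgroup G, K = (S : Subgroup ↥K₁).map K₁.subtype := ⟨_, rfl⟩
  have hKK₁ : K ≤ K₁ := by rw [hK]; exact Subgroup.map_subtype_le _
  have hKcard : Nat.card K = p ^ j := by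
    rw [hK, Subgroup.card_map_of_injective (Subgroup.subtype_injective K₁),
      Sylow.card_eq_multiplicity, hcardK₁]
    congr 1
    rw [Nat.factorization_mul (pow_ne_zero _ hp.ne_zero) (Nat.card_pos.ne'),
      Nat.Prime.factorization_pow hp]
    simp [Nat.factorization_eq_zero_of_not_dvd hLp]
  refine ⟨K, ?_⟩
  apply Subgroup.isComplement'_of_card_mul_and_disjoint
  · rw [hKcard, mul_comm]; exact hcard3
  · rw [disjoint_iff, eq_bot_iff]
    intro x hx
    rw [Subgroup.mem_bot]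
    obtain ⟨hxK, hxN⟩ := hx
    have hxK₁ := hKK₁ hxK
    have hxM : x ∈ P₀ ⊔ L := by
      rw [hMsup, hM]; exact ⟨hK₁H hxK₁, hxN⟩
    obtain ⟨u, hu, l, hl, rfl⟩ := act_mem_sup L P₀ hLnorm hxM
    have hun : u ∈ Subgroup.normalizer (L : Set G) := by
      have e : u = (u * l) * l⁻¹ := by group
      rw [e]
      exact Subgroup.mul_mem _ (hK₁L hxK₁) (Subgroup.inv_mem _ (Subgroup.le_normalizer hl))
    have hu1 := hnormfix u hu hun
    rw [hu1, one_mul] at hxK ⊢
    have hKL : K ⊓ L = ⊥ := by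
      apply (Subgroup.disjoint_of_coprime_natCard _).eq_bot
      rw [hKcard]
      exact Nat.Coprime.pow_left _ ((Nat.Prime.coprime_iff_not_dvd hp).2 hLp)
    have : l ∈ K ⊓ L := ⟨hxK, hl⟩
    rwa [hKL, Subgroup.mem_bot] at this

end Cfsg.Agent.S0092
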