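import Cfsg.Statements.S0095
import Mathlib

set_option autoImplicit false
open Cfsg

namespace Cfsg.Agent.S0095


open scoped commutatorElement

section class2
variable {P : Type*} [Group P] (hc : ∀ a b : P, ⁅a, b⁆ ∈ Subgroup.center P)
include hc

theorem comm_mul_right (x y z : P) : ⁅x, y * z⁆ = ⁅x, y⁆ * ⁅x, z⁆ := by
  have h1 := Subgroup.mem_center_iff.1 (hc x z)
  have h2 : ⁅x, y * z⁆ = x * y * x⁻¹ * ⁅x, z⁆ * y⁻¹ := by
    simp only [commutatorElement_def]; group
  rw [h2, mul_assoc (x * y * x⁻¹), ← h1 y⁻¹, ← mul_assoc]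
  simp only [commutatorElement_def]

theorem comm_one_right (x : P) : ⁅x, (1 : P)⁆ = 1 := by
  simp [commutatorElement_def]

theorem comm_self (x : P) : ⁅x, x⁆ = 1 := by
  simp [commutatorElement_def]

theorem comm_pow_right (x y : P) (n : ℕ) : ⁅x, y ^ n⁆ = ⁅x, y⁆ ^ n := by
  induction n with
  | zero => simp [commutatorElement_def]
  | succ n ih => rw [pow_succ, comm_mul_right hc, ih, pow_succ]

theorem comm_inv_right (x y : P) : ⁅x, y⁻¹⁆ = ⁅x, y⁆⁻¹ := by
  have h := comm_mul_right hc x y y⁻¹
  rw [mul_inv_cancel] at h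
  have h0 : ⁅x, (1 : P)⁆ = 1 := by simp [commutatorElement_def]
  rw [h0] at h
  exact (inv_eq_of_mul_eq_one_right h.symm).symm

theorem comm_self_pow (x : P) (n : ℕ) : ⁅x, x ^ n⁆ = 1 := by
  rw [comm_pow_right hc, comm_self hc, one_pow]

end class2

theorem index_center_sq.{u} (p : ℕ) [hp : Fact p.Prime] : ∀ (n : ℕ) (P : Type u) [Group P] [Finite P],
    Nat.card P = n → Nat.card (Subgroup.center P) = p →
    (∀ a b : P, ⁅a, b⁆ ∈ Subgroup.center P) → ∃ k : ℕ, (Subgroup.center P).index = p ^ (2 * k) := by
  intro n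
  induction n using Nat.strong_induction_on with
  | _ n ih =>
  intro P _ _ hn hZ hc
  classical
  set Z := Subgroup.center P with hZdef
  by_cases hZtop : Z = ⊤
  · exact ⟨0, by rw [hZtop, Subgroup.index_top]; simp⟩
  · -- pick x ∉ Z and y with [x,y] ≠ 1
    obtain ⟨x, hx⟩ : ∃ x : P, x ∉ Z := by
      by_contra hcon
      push Not at hcon
      exact hZtop (eq_top_iff.2 fun g _ => hcon g)
    obtain ⟨y, hy⟩ : ∃ y : P, ⁅x, y⁆ ≠ 1 := by
      by_contra hcon
      push Not at hcon
      apply hx
      rw [hZdef, Subgroup.mem_center_iff]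
      intro g
      have := hcon g
      rw [commutatorElement_eq_one_iff_mul_comm] at this
      exact this.symm
    set z₀ : P := ⁅x, y⁆ with hz₀
    have hz₀Z : z₀ ∈ Z := hc x y
    have hyx : ⁅y, x⁆ = z₀⁻¹ := by rw [hz₀, commutatorElement_inv]
    have hyx1 : ⁅y, x⁆ ≠ 1 := by
      rw [hyx]; exact inv_ne_one.2 hy
    -- every element of Z is a power of a nonidentity element
    have hgen : ∀ w ∈ Z, w ≠ 1 → ∀ z ∈ Z, ∃ i : ℕ, w ^ i = z := by
      intro w hw hw1 z hz
      have h1 : (⟨z, hz⟩ : Z) ∈ Submonoid.powers (⟨w, hw⟩ : Z) :=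
        mem_powers_of_prime_card hZ (fun h => hw1 (congrArg Subtype.val h))
      obtain ⟨i, hi⟩ := (Submonoid.mem_powers_iff _ _).1 h1
      exact ⟨i, by simpa using congrArg Subtype.val hi⟩
    -- the homomorphism ψ
    let ψ : P →* Z × Z :=
      { toFun := fun g => (⟨⁅x, g⁆, hc x g⟩, ⟨⁅y, g⁆, hc y g⟩)
        map_one' := by
          apply Prod.ext <;> apply Subtype.ext <;> simp [commutatorElement_def]
        map_mul' := by
          intro a b
          apply Prod.ext <;> apply Subtype.ext
          · exact comm_mul_right hc x a b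
          · exact comm_mul_right hc y a b }
    set C : Subgroup P := ψ.ker with hC
    have hCmem : ∀ g : P, g ∈ C ↔ ⁅x, g⁆ = 1 ∧ ⁅y, g⁆ = 1 := by
      intro g
      rw [hC, MonoidHom.mem_ker]
      constructor
      · intro h
        have h1 := congrArg Prod.fst h
        have h2 := congrArg Prod.snd h
        exact ⟨congrArg Subtype.val h1, congrArg Subtype.val h2⟩
      · rintro ⟨h1, h2⟩
        apply Prod.ext <;> apply Subtype.ext
        · exact h1
        · exact h2
    have hψsurj : Function.Surjective ψ := by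
      rintro ⟨⟨a, ha⟩, ⟨b, hb⟩⟩
      obtain ⟨j, hj⟩ := hgen z₀ hz₀Z hy a ha
      obtain ⟨i, hi⟩ := hgen ⁅y, x⁆ (hc y x) hyx1 b hb
      refine ⟨x ^ i * y ^ j, ?_⟩
      apply Prod.ext <;> apply Subtype.ext
      · show ⁅x, x ^ i * y ^ j⁆ = a
        rw [comm_mul_right hc, comm_self_pow hc, one_mul, comm_pow_right hc, hj]
      · show ⁅y, x ^ i * y ^ j⁆ = b
        rw [comm_mul_right hc, comm_self_pow hc, mul_one, comm_pow_right hc, hi]
    have hCidx : C.index = p ^ 2 := by
      rw [hC, Subgroup.index_ker, MonoidHom.range_eq_top.2 hψsurj, Subgroup.card_top,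
        Nat.card_prod, hZ, pow_two]
    have hZC : Z ≤ C := by
      intro z hz
      rw [hCmem]
      have h1 := Subgroup.mem_center_iff.1 hz
      constructor
      · rw [commutatorElement_eq_one_iff_mul_comm]; exact h1 x
      · rw [commutatorElement_eq_one_iff_mul_comm]; exact h1 y
    -- the centre of C
    have hcenC : ∀ c : C, c ∈ Subgroup.center C ↔ (c : P) ∈ Z := by
      intro c
      constructor
      · intro hcc
        rw [hZdef, Subgroup.mem_center_iff]
        intro g
        obtain ⟨g₀, hg₀⟩ := hψsurj (ψ g)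
        -- use the explicit preimage form
        obtain ⟨j, hj⟩ := hgen z₀ hz₀Z hy ⁅x, g⁆ (hc x g)
        obtain ⟨i, hi⟩ := hgen ⁅y, x⁆ (hc y x) hyx1 ⁅y, g⁆ (hc y g)
        set t := x ^ i * y ^ j with ht
        have htx : ⁅x, t⁆ = ⁅x, g⁆ := by
          rw [ht, comm_mul_right hc, comm_self_pow hc, one_mul, comm_pow_right hc, hj]
        have hty : ⁅y, t⁆ = ⁅y, g⁆ := by
          rw [ht, comm_mul_right hc, comm_self_pow hc, mul_one, comm_pow_right hc, hi]
        have hg' : g * t⁻¹ ∈ C := by
          rw [hCmem]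
          constructor
          · rw [comm_mul_right hc, comm_inv_right hc, htx, mul_inv_cancel]
          · rw [comm_mul_right hc, comm_inv_right hc, hty, mul_inv_cancel]
        have hcC := (hCmem c).1 c.2
        have hcx : (c : P) * x = x * c := by
          have := hcC.1
          rw [commutatorElement_eq_one_iff_mul_comm] at this
          exact this.symm
        have hcy : (c : P) * y = y * c := by
          have := hcC.2
          rw [commutatorElement_eq_one_iff_mul_comm] at this
          exact this.symm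
        have hct : (c : P) * t = t * c := by
          have h1 : Commute (c : P) x := hcx
          have h2 : Commute (c : P) y := hcy
          exact ((h1.pow_right i).mul_right (h2.pow_right j)).eq
        have hcg' : (c : P) * (g * t⁻¹) = (g * t⁻¹) * c := by
          have := Subgroup.mem_center_iff.1 hcc ⟨g * t⁻¹, hg'⟩
          exact (congrArg Subtype.val this).symm
        have hg : g = (g * t⁻¹) * t := by group
        rw [hg]
        have h3 : Commute (c : P) ((g * t⁻¹) * t) :=
          Commute.mul_right (show Commute (c : P) (g * t⁻¹) from hcg') (show Commute (c : P) t from hct)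
        exact h3.eq.symm
      · intro hcZ
        rw [Subgroup.mem_center_iff]
        intro g
        apply Subtype.ext
        exact Subgroup.mem_center_iff.1 hcZ g
    have hcenC' : Subgroup.center C = Z.subgroupOf C := by
      ext c
      rw [hcenC, Subgroup.mem_subgroupOf]
    have hcardcenC : Nat.card (Subgroup.center C) = p := by
      rw [hcenC', ← hZ]
      exact Nat.card_congr (Subgroup.subgroupOfEquivOfLe hZC).toEquiv
    have hcC : ∀ a b : C, ⁅a, b⁆ ∈ Subgroup.center C := by
      intro a b
      rw [hcenC]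
      exact hc a b
    have hlt : Nat.card C < n := by
      rw [← hn, ← C.card_mul_index, hCidx]
      have : 1 < p ^ 2 := Nat.one_lt_pow (by norm_num) hp.out.one_lt
      have hpos : 0 < Nat.card C := Nat.card_pos
      nlinarith
    obtain ⟨k, hk⟩ := ih _ hlt C rfl hcardcenC hcC
    refine ⟨k + 1, ?_⟩
    rw [← Subgroup.relIndex_mul_index hZC, hCidx, Subgroup.relIndex, ← hcenC', hk]
    ring

/-- The order of an extraspecial p-group is an odd power p^(2n+1) of p with n ≥ 1. -/
theorem result {P : Type*} [Group P] [Finite P] {p : ℕ} [Fact p.Prime] (h : Cfsg.IsExtraspecial p P) : ∃ n : ℕ, 1 ≤ n ∧ Nat.card P = p ^ (2 * n + 1) := by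
  obtain ⟨⟨hP, hfrat, hcomm⟩, hZ⟩ := h
  have hc : ∀ a b : P, ⁅a, b⁆ ∈ Subgroup.center P := by
    intro a b
    rw [← hcomm, commutator_def]
    exact Subgroup.commutator_mem_commutator (Subgroup.mem_top a) (Subgroup.mem_top b)
  obtain ⟨k, hk⟩ := index_center_sq p _ P rfl hZ hc
  have hcard : Nat.card P = p ^ (2 * k + 1) := by
    rw [← (Subgroup.center P).card_mul_index, hZ, hk, pow_succ, mul_comm]
  refine ⟨k, ?_, hcard⟩
  by_contra hk0
  have hk0' : k = 0 := by omega
  rw [hk0', mul_zero, pow_zero, Subgroup.index_eq_one] at hk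
  -- P is commutative, so its commutator subgroup is trivial
  have hcomm' : commutator P = ⊥ := by
    rw [commutator_def, Subgroup.commutator_eq_bot_iff_le_centralizer]
    intro a _
    rw [Subgroup.mem_centralizer_iff]
    intro b _
    have : a ∈ Subgroup.center P := by rw [hk]; trivial
    exact (Subgroup.mem_center_iff.1 this b)
  rw [hcomm'] at hcomm
  rw [← hcomm, Subgroup.card_bot] at hZ
  have hp1 := (Fact.out : p.Prime).one_lt
  omega

end Cfsg.Agent.S0095
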