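import Cfsg.Statements.S0096
import Mathlib
import Cfsg.Agent.Lib.Helper1.Class2

set_option autoImplicit false
open Cfsg

namespace Cfsg.Agent.S0096


open Cfsg.Agent.Lib.Helper1
open scoped commutatorElement

theorem commutator_central {P : Type*} [Group P]
    (h2 : ⁅commutator P, (⊤ : Subgroup P)⁆ = ⊥) (x y g : P) : ⁅x, y⁆ * g = g * ⁅x, y⁆ := by
  have h1 : ⁅x, y⁆ ∈ commutator P := by
    rw [commutator_def]; exact Subgroup.commutator_mem_commutator trivial trivial
  have h3 : ⁅⁅x, y⁆, g⁆ ∈ ⁅commutator P, (⊤ : Subgroup P)⁆ :=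
    Subgroup.commutator_mem_commutator h1 trivial
  rw [h2, Subgroup.mem_bot, commutatorElement_eq_one_iff_mul_comm] at h3
  exact h3

/-- in class two with `p` odd, the elements of order dividing `p` are closed under products -/
theorem mul_pow_eq_one {P : Type*} [Group P] {p : ℕ} (hp : p.Prime) (hp2 : p ≠ 2)
    (h2 : ⁅commutator P, (⊤ : Subgroup P)⁆ = ⊥) (a b : P) (ha : a ^ p = 1) (hb : b ^ p = 1) :
    (a * b) ^ p = 1 := by
  rw [mul_pow_of_commute_commutator a b (commutator_central h2 b a a) (commutator_central h2 b a b),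
    ha, hb, one_mul, one_mul]
  have hc : ⁅b, a⁆ ^ p = 1 := by
    rw [← commutator_pow_left_of_commute a b (commutator_central h2 b a b), hb]
    simp
  have hdvd : p ∣ p.choose 2 := by
    apply hp.dvd_choose_self (by norm_num)
    have := hp.two_le
    omega
  obtain ⟨k, hk⟩ := hdvd
  rw [hk, pow_mul, hc, one_pow]


/-- For odd p, in a p-group of class at most two the elements of order dividing p generate a subgroup of exponent dividing p. -/
theorem result {P : Type*} [Group P] [Finite P] {p : ℕ} [Fact p.Prime] (hp : p ≠ 2) (hP : IsPGroup p P) (h2 : ⁅commutator P, (⊤ : Subgroup P)⁆ = ⊥) (g : P) (hg : g ∈ Subgroup.closure {x : P | x ^ p = 1}) : g ^ p = 1 := by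
  have hpp : p.Prime := Fact.out
  induction hg using Subgroup.closure_induction with
  | mem x hx => exact hx
  | one => exact one_pow p
  | mul a b _ _ iha ihb => exact mul_pow_eq_one hpp hp h2 a b iha ihb
  | inv a _ iha => rw [inv_pow, iha, inv_one]

end Cfsg.Agent.S0096
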