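import Cfsg.Statements.S0097
import Mathlib
import Cfsg.Agent.S0094
import Cfsg.Agent.S0096

set_option autoImplicit false
open Cfsg

namespace Cfsg.Agent.S0097


open Cfsg.Agent.Lib.Helper1
open scoped commutatorElement

theorem class_two {E : Type*} [Group E] (hC : commutator E = Subgroup.center E) :
    ⁅commutator E, (⊤ : Subgroup E)⁆ = ⊥ := by
  rw [eq_bot_iff, Subgroup.commutator_le]
  intro c hc g _
  rw [hC] at hc
  rw [Subgroup.mem_bot, commutatorElement_eq_one_iff_mul_comm]
  exact (Subgroup.mem_center_iff.1 hc g).symm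

/-- the `p`-th power map as a homomorphism into the centre -/
noncomputable def powHom {E : Type*} [Group E] [Finite E] {p : ℕ} [Fact p.Prime] (hp : p ≠ 2)
    (h : Cfsg.IsExtraspecial p E) : E →* Subgroup.center E where
  toFun x := ⟨x ^ p, by
    rw [← h.1.2.1]
    exact Cfsg.Agent.S0094.pow_mem_frattini h.1.1 x⟩
  map_one' := by
    apply Subtype.ext
    show (1 : E) ^ p = 1
    exact one_pow p
  map_mul' x y := by
    apply Subtype.ext
    show (x * y) ^ p = x ^ p * y ^ p
    have hpp : p.Prime := Fact.out
    have h2 := class_two h.1.2.2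
    rw [mul_pow_of_commute_commutator x y (Cfsg.Agent.S0096.commutator_central h2 y x x)
      (Cfsg.Agent.S0096.commutator_central h2 y x y)]
    have hcz : ⁅y, x⁆ ∈ Subgroup.center E := by
      rw [← h.1.2.2, commutator_def]; exact Subgroup.commutator_mem_commutator trivial trivial
    have hc : ⁅y, x⁆ ^ p = 1 := by
      have : (⟨⁅y, x⁆, hcz⟩ : Subgroup.center E) ^ Nat.card (Subgroup.center E) = 1 :=
        pow_card_eq_one'
      rw [h.2] at this
      exact congrArg Subtype.val this
    have hdvd : p ∣ p.choose 2 := by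
      apply hpp.dvd_choose_self (by norm_num)
      have := hpp.two_le
      omega
    obtain ⟨k, hk⟩ := hdvd
    rw [hk, pow_mul, hc, one_pow, mul_one]


/-- For odd p and E extraspecial, the subgroup generated by the elements of order dividing p has exponent dividing p and index at most p. -/
theorem result {E : Type*} [Group E] [Finite E] {p : ℕ} [Fact p.Prime] (hp : p ≠ 2) (h : Cfsg.IsExtraspecial p E) : (Subgroup.closure {x : E | x ^ p = 1}).index ≤ p ∧ ∀ g ∈ Subgroup.closure {x : E | x ^ p = 1}, g ^ p = 1 := by
  have h2 := class_two h.1.2.2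
  refine ⟨?_, fun g hg => Cfsg.Agent.S0096.result hp h.1.1 h2 g hg⟩
  have hker : (powHom hp h).ker ≤ Subgroup.closure {x : E | x ^ p = 1} := by
    intro x hx
    apply Subgroup.subset_closure
    have := congrArg Subtype.val (MonoidHom.mem_ker.1 hx)
    exact this
  have h1 : (Subgroup.closure {x : E | x ^ p = 1}).index ∣ (powHom hp h).ker.index :=
    Subgroup.index_dvd_of_le hker
  rw [Subgroup.index_ker] at h1
  have h3 : Nat.card (powHom hp h).range ∣ p := by
    have := Subgroup.card_subgroup_dvd_card (powHom hp h).range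
    rwa [h.2] at this
  exact Nat.le_of_dvd (Nat.Prime.pos Fact.out) (dvd_trans h1 h3)

end Cfsg.Agent.S0097
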