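import Cfsg.Statements.S0130
import Mathlib
import Cfsg.Agent.S0065

set_option autoImplicit false
open Cfsg

namespace Cfsg.Agent.S0130

section
variable {G : Type*} [Group G]

theorem pow_mul_comm_aux (s t c : G) (h : t * s = s * t * c) (hcs : Commute c s)
    (hct : Commute c t) (k : ℕ) : t ^ k * s = s * t ^ k * c ^ k := by
  induction k with
  | zero => simp
  | succ k ih =>
    calc t ^ (k+1) * s = t ^ k * (t * s) := by rw [pow_succ, mul_assoc]
      _ = t ^ k * (s * t * c) := by rw [h]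
      _ = (t ^ k * s) * t * c := by simp only [mul_assoc]
      _ = (s * t ^ k * c ^ k) * t * c := by rw [ih]
      _ = s * t ^ k * (c ^ k * t) * c := by simp only [mul_assoc]
      _ = s * t ^ k * (t * c ^ k) * c := by rw [(hct.pow_left k).eq]
      _ = s * t ^ (k+1) * c ^ (k+1) := by rw [pow_succ, pow_succ]; simp only [mul_assoc]

theorem mul_pow_of_central_comm (s t c : G) (h : t * s = s * t * c) (hcs : Commute c s)
    (hct : Commute c t) (m : ℕ) : (s * t) ^ m = s ^ m * t ^ m * c ^ (m.choose 2) := by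
  induction m with
  | zero => simp
  | succ m ih =>
    have h1 := pow_mul_comm_aux s t c h hcs hct m
    have hr : (m+1).choose 2 = m + m.choose 2 := by
      rw [Nat.choose_succ_succ' m 1]; simp
    calc (s * t) ^ (m + 1) = s ^ m * t ^ m * c ^ m.choose 2 * (s * t) := by rw [pow_succ, ih]
      _ = s ^ m * t ^ m * (c ^ m.choose 2 * s) * t := by simp only [mul_assoc]
      _ = s ^ m * t ^ m * (s * c ^ m.choose 2) * t := by rw [(hcs.pow_left _).eq]
      _ = s ^ m * (t ^ m * s) * (c ^ m.choose 2 * t) := by simp only [mul_assoc]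
      _ = s ^ m * (s * t ^ m * c ^ m) * (t * c ^ m.choose 2) := by
          rw [h1, (hct.pow_left _).eq]
      _ = s ^ m * s * t ^ m * (c ^ m * t) * c ^ m.choose 2 := by simp only [mul_assoc]
      _ = s ^ m * s * t ^ m * (t * c ^ m) * c ^ m.choose 2 := by rw [(hct.pow_left _).eq]
      _ = s ^ (m+1) * t ^ (m+1) * (c ^ m * c ^ m.choose 2) := by
          rw [pow_succ, pow_succ]; simp only [mul_assoc]
      _ = s ^ (m+1) * t ^ (m+1) * c ^ (m+1).choose 2 := by rw [hr, pow_add c]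

theorem exists_pow_not_mem (A : Subgroup G) (p n : ℕ) (x : G) (hx : x ∉ A)
    (hxn : x ^ p ^ n ∈ A) : ∃ k : ℕ, x ^ p ^ k ∉ A ∧ (x ^ p ^ k) ^ p ∈ A := by
  classical
  have hex : ∃ k, x ^ p ^ k ∈ A := ⟨n, hxn⟩
  have hk0 : Nat.find hex ≠ 0 := by
    intro h0
    have := Nat.find_spec hex
    rw [h0, pow_zero, pow_one] at this
    exact hx this
  obtain ⟨k, hk⟩ := Nat.exists_eq_succ_of_ne_zero hk0
  refine ⟨k, ?_, ?_⟩
  · exact Nat.find_min hex (m := k) (by omega)
  · rw [← pow_mul, ← pow_succ, ← Nat.succ_eq_add_one, ← hk]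
    exact Nat.find_spec hex

/-- the subgroup `F₀` -/
theorem exists_F0 (A H : Subgroup G) [hAn : A.Normal] [hHn : H.Normal]
    (p n d : ℕ) (hd1 : p ∣ d) (hd2 : d ∣ (p ^ n).choose 2) :
    ∃ F : Subgroup G, F.Normal ∧ ∀ e : G, e ∈ F ↔
      (e ∈ Subgroup.centralizer (A : Set G) ∧ e ∈ H ∧ (∀ h ∈ H, e⁻¹ * h⁻¹ * e * h ∈ A) ∧
        e ^ p ^ n = 1 ∧ e ^ p ∈ A) := by
  have hmul : ∀ s t : G, (s ∈ Subgroup.centralizer (A : Set G) ∧ s ∈ H ∧
        (∀ h ∈ H, s⁻¹ * h⁻¹ * s * h ∈ A) ∧ s ^ p ^ n = 1 ∧ s ^ p ∈ A) →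
      (t ∈ Subgroup.centralizer (A : Set G) ∧ t ∈ H ∧
        (∀ h ∈ H, t⁻¹ * h⁻¹ * t * h ∈ A) ∧ t ^ p ^ n = 1 ∧ t ^ p ∈ A) →
      ((s * t) ∈ Subgroup.centralizer (A : Set G) ∧ (s * t) ∈ H ∧
        (∀ h ∈ H, (s * t)⁻¹ * h⁻¹ * (s * t) * h ∈ A) ∧ (s * t) ^ p ^ n = 1 ∧ (s * t) ^ p ∈ A) := by
    rintro s t ⟨hs1, hs2, hs3, hs4, hs5⟩ ⟨ht1, ht2, ht3, ht4, ht5⟩
    obtain ⟨c, hc⟩ : ∃ c, c = t⁻¹ * s⁻¹ * t * s := ⟨_, rfl⟩
    have hcA : c ∈ A := by rw [hc]; exact ht3 s hs2
    have hts : t * s = s * t * c := by rw [hc]; group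
    have hcs : Commute c s := (Subgroup.mem_centralizer_iff.1 hs1 c hcA)
    have hct : Commute c t := (Subgroup.mem_centralizer_iff.1 ht1 c hcA)
    have hform := mul_pow_of_central_comm s t c hts hcs hct
    refine ⟨Subgroup.mul_mem _ hs1 ht1, H.mul_mem hs2 ht2, ?_, ?_, ?_⟩
    · intro h hh
      have e : (s * t)⁻¹ * h⁻¹ * (s * t) * h
          = (t⁻¹ * (s⁻¹ * h⁻¹ * s * h) * t⁻¹⁻¹) * (t⁻¹ * h⁻¹ * t * h) := by group
      rw [e]
      exact A.mul_mem (hAn.conj_mem _ (hs3 h hh) _) (ht3 h hh)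
    · rw [hform, hs4, ht4, one_mul, one_mul]
      obtain ⟨d', rfl⟩ := hd1
      obtain ⟨r', hr'⟩ := hd2
      have htd : t ^ (p * d') ∈ A := by rw [pow_mul]; exact A.pow_mem ht5 _
      have hcomm : t ^ (p * d') * s = s * t ^ (p * d') :=
        (Subgroup.mem_centralizer_iff.1 hs1 _ htd)
      have h2 := pow_mul_comm_aux s t c hts hcs hct (p * d')
      rw [hcomm] at h2
      have hcd : c ^ (p * d') = 1 := by
        have := h2.symm
        rwa [mul_eq_left] at this
      rw [hr', pow_mul, hcd, one_pow]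
    · rw [hform]
      exact A.mul_mem (A.mul_mem hs5 ht5) (A.pow_mem hcA _)
  have hinv : ∀ s : G, (s ∈ Subgroup.centralizer (A : Set G) ∧ s ∈ H ∧
        (∀ h ∈ H, s⁻¹ * h⁻¹ * s * h ∈ A) ∧ s ^ p ^ n = 1 ∧ s ^ p ∈ A) →
      (s⁻¹ ∈ Subgroup.centralizer (A : Set G) ∧ s⁻¹ ∈ H ∧
        (∀ h ∈ H, s⁻¹⁻¹ * h⁻¹ * s⁻¹ * h ∈ A) ∧ s⁻¹ ^ p ^ n = 1 ∧ s⁻¹ ^ p ∈ A) := by
    rintro s ⟨hs1, hs2, hs3, hs4, hs5⟩
    refine ⟨Subgroup.inv_mem _ hs1, H.inv_mem hs2, ?_, ?_, ?_⟩
    · intro h hh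
      have e : s⁻¹⁻¹ * h⁻¹ * s⁻¹ * h = s * (s⁻¹ * h⁻¹ * s * h)⁻¹ * s⁻¹ := by group
      rw [e]
      exact hAn.conj_mem _ (A.inv_mem (hs3 h hh)) _
    · rw [inv_pow, hs4, inv_one]
    · rw [inv_pow]; exact A.inv_mem hs5
  refine ⟨{ carrier := {e | e ∈ Subgroup.centralizer (A : Set G) ∧ e ∈ H ∧
              (∀ h ∈ H, e⁻¹ * h⁻¹ * e * h ∈ A) ∧ e ^ p ^ n = 1 ∧ e ^ p ∈ A}
            mul_mem' := fun {s t} hs ht => hmul s t hs ht
            one_mem' := ⟨Subgroup.one_mem _, H.one_mem, fun h _ => by simp [A.one_mem],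
              one_pow _, by rw [one_pow]; exact A.one_mem⟩
            inv_mem' := fun {s} hs => hinv s hs }, ?_, fun e => Iff.rfl⟩
  constructor
  rintro e ⟨he1, he2, he3, he4, he5⟩ g
  refine ⟨?_, hHn.conj_mem e he2 g, ?_, ?_, ?_⟩
  · haveI : (Subgroup.centralizer (A : Set G)).Normal := inferInstance
    exact Subgroup.Normal.conj_mem inferInstance e he1 g
  · intro h hh
    have e' : (g * e * g⁻¹)⁻¹ * h⁻¹ * (g * e * g⁻¹) * h
        = g * (e⁻¹ * (g⁻¹ * h * g⁻¹⁻¹)⁻¹ * e * (g⁻¹ * h * g⁻¹⁻¹)) * g⁻¹ := by group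
    rw [e']
    exact hAn.conj_mem _ (he3 _ (hHn.conj_mem h hh g⁻¹)) g
  · rw [conj_pow, he4]; group
  · rw [conj_pow]; exact hAn.conj_mem _ he5 g

theorem sup_zpowers_comm (A : Subgroup G) (hA : A ≤ Subgroup.centralizer (A : Set G)) (f : G)
    (hf : f ∈ Subgroup.centralizer (A : Set G)) :
    A ⊔ Subgroup.zpowers f ≤ Subgroup.centralizer ((A ⊔ Subgroup.zpowers f : Subgroup G) : Set G) := by
  have hZA : Subgroup.zpowers f ≤ Subgroup.centralizer (A : Set G) := by
    rw [Subgroup.zpowers_le]; exact hf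
  have hAZ : A ≤ Subgroup.centralizer (Subgroup.zpowers f : Set G) :=
    Subgroup.le_centralizer_iff.1 hZA
  have hZZ : Subgroup.zpowers f ≤ Subgroup.centralizer (Subgroup.zpowers f : Set G) := by
    intro a ha b hb
    obtain ⟨i, rfl⟩ := Subgroup.mem_zpowers_iff.1 ha
    obtain ⟨j, rfl⟩ := Subgroup.mem_zpowers_iff.1 hb
    exact (zpow_mul_comm f j i)
  apply sup_le
  · rw [Subgroup.le_centralizer_iff]
    exact sup_le hA hZA
  · rw [Subgroup.le_centralizer_iff]
    exact sup_le hAZ hZZ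

theorem sup_zpowers_exp (A : Subgroup G) [hAn : A.Normal] (f : G)
    (hf : f ∈ Subgroup.centralizer (A : Set G)) (m : ℕ) (hAm : ∀ a ∈ A, a ^ m = 1)
    (hfm : f ^ m = 1) : ∀ b ∈ A ⊔ Subgroup.zpowers f, b ^ m = 1 := by
  intro b hb
  obtain ⟨a, ha, z, hz, rfl⟩ := Subgroup.mem_sup_of_normal_left.1 hb
  obtain ⟨i, rfl⟩ := Subgroup.mem_zpowers_iff.1 hz
  have hc : Commute a (f ^ i) := by
    have : Commute a f := Subgroup.mem_centralizer_iff.1 hf a ha
    exact this.zpow_right i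
  rw [hc.mul_pow, hAm a ha, one_mul, ← zpow_natCast, ← zpow_mul, mul_comm, zpow_mul, zpow_natCast,
    hfm, one_zpow]

theorem sup_zpowers_normal (A : Subgroup G) [hAn : A.Normal] (f : G)
    (hf : ∀ g : G, f⁻¹ * g⁻¹ * f * g ∈ A) : (A ⊔ Subgroup.zpowers f).Normal := by
  constructor
  intro b hb g
  obtain ⟨a, ha, z, hz, rfl⟩ := Subgroup.mem_sup_of_normal_left.1 hb
  obtain ⟨i, rfl⟩ := Subgroup.mem_zpowers_iff.1 hz
  have hfg : g * f * g⁻¹ ∈ A ⊔ Subgroup.zpowers f := by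
    have e : g * f * g⁻¹ = (g * f * g⁻¹ * f⁻¹) * f := by group
    rw [e]
    refine Subgroup.mul_mem _ (le_sup_left (a := A) ?_)
      (le_sup_right (b := Subgroup.zpowers f) (Subgroup.mem_zpowers f))
    have h1 := hAn.conj_mem _ (hf g⁻¹) f
    have e2 : f * (f⁻¹ * g⁻¹⁻¹ * f * g⁻¹) * f⁻¹ = g * f * g⁻¹ * f⁻¹ := by group
    rwa [e2] at h1
  have e3 : g * (a * f ^ i) * g⁻¹ = (g * a * g⁻¹) * (g * f * g⁻¹) ^ i := by
    rw [conj_zpow]; group
  rw [e3]
  exact Subgroup.mul_mem _ (le_sup_left (a := A) (hAn.conj_mem a ha g)) (Subgroup.zpow_mem _ hfg i)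

end

section
universe u

theorem alperin_aux (p n d : ℕ) [Fact p.Prime] (hd1 : p ∣ d) (hd2 : d ∣ (p ^ n).choose 2) :
    ∀ N : ℕ, ∀ (G : Type u) [Group G] [Finite G], Nat.card G ≤ N → IsPGroup p G →
      ∀ A : Subgroup G, A.Normal → A ≤ Subgroup.centralizer (A : Set G) →
      (∀ a ∈ A, a ^ p ^ n = 1) → ∀ x ∈ Subgroup.centralizer (A : Set G), x ^ p ^ n = 1 → x ∉ A →
      ∃ f, f ∉ A ∧ f ∈ Subgroup.centralizer (A : Set G) ∧ f ^ p ^ n = 1 ∧ f ^ p ∈ A ∧
        ∀ g : G, f⁻¹ * g⁻¹ * f * g ∈ A := by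
  intro N
  induction N with
  | zero =>
    intro G _ _ hN
    exfalso
    have := Nat.card_pos (α := G)
    omega
  | succ N ih =>
    intro G _ _ hN hG A hAn hAab hAe x₀ hx₀C hx₀n hx₀A
    haveI := hAn
    obtain ⟨k, hk1, hk2⟩ := exists_pow_not_mem A p n x₀ hx₀A (by rw [hx₀n]; exact A.one_mem)
    obtain ⟨x, hx⟩ : ∃ x, x = x₀ ^ p ^ k := ⟨_, rfl⟩
    rw [← hx] at hk1 hk2
    have hxC : x ∈ Subgroup.centralizer (A : Set G) := by
      rw [hx]; exact Subgroup.pow_mem _ hx₀C _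
    have hxn : x ^ p ^ n = 1 := by rw [hx, ← pow_mul, mul_comm, pow_mul, hx₀n, one_pow]
    by_cases hK : A ⊔ Subgroup.zpowers x = ⊤
    · refine ⟨x, hk1, hxC, hxn, hk2, ?_⟩
      intro g
      have hg : g ∈ A ⊔ Subgroup.zpowers x := by rw [hK]; trivial
      obtain ⟨a, ha, z, hz, rfl⟩ := Subgroup.mem_sup_of_normal_left.1 hg
      obtain ⟨i, rfl⟩ := Subgroup.mem_zpowers_iff.1 hz
      have h1 : Commute a x := Subgroup.mem_centralizer_iff.1 hxC a ha
      have h2 : Commute (a * x ^ i) x := h1.mul_left ((Commute.refl x).zpow_left i)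
      have : x⁻¹ * (a * x ^ i)⁻¹ * x * (a * x ^ i) = 1 := by
        rw [mul_assoc, ← h2.eq]; group
      rw [this]; exact A.one_mem
    · obtain ⟨H, hHco, hKH⟩ := (eq_top_or_exists_le_coatom _).resolve_left hK
      haveI : Group.IsNilpotent G := hG.isNilpotent
      haveI hHn : H.Normal :=
        Subgroup.NormalizerCondition.normal_of_coatom H
          (Group.normalizerCondition_of_isNilpotent (G := G)) hHco
      have hAH : A ≤ H := le_sup_left.trans hKH
      have hxH : x ∈ H := hKH (le_sup_right (a := A) (Subgroup.mem_zpowers x))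
      have hcard : Nat.card H < Nat.card G := by
        have h1 := Subgroup.card_le_card_group H
        have h2 : Nat.card H ≠ Nat.card G := fun h =>
          hHco.1 ((Subgroup.card_eq_iff_eq_top H).1 h)
        omega
      obtain ⟨f', hf'A, hf'C, hf'n, hf'p, hf'comm⟩ :=
        ih (↥H) (by omega) (hG.to_subgroup H) (A.subgroupOf H) inferInstance
          (by
            intro a ha b hb
            have hb' : b ∈ A.subgroupOf H := hb
            rw [Subgroup.mem_subgroupOf] at ha hb'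
            apply Subtype.ext
            exact hAab ha b.1 hb')
          (by
            intro a ha
            rw [Subgroup.mem_subgroupOf] at ha
            apply Subtype.ext
            rw [Subgroup.coe_pow]
            exact hAe a.1 ha)
          ⟨x, hxH⟩
          (by
            intro b hb
            have hb' : b ∈ A.subgroupOf H := hb
            rw [Subgroup.mem_subgroupOf] at hb'
            apply Subtype.ext
            exact hxC b.1 hb')
          (by
            apply Subtype.ext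
            rw [Subgroup.coe_pow]
            exact hxn)
          (by
            rw [Subgroup.mem_subgroupOf]
            exact hk1)
      rw [Subgroup.mem_subgroupOf] at hf'A hf'p
      have haC : (f' : G) ∈ Subgroup.centralizer (A : Set G) := by
        intro b hb
        have := hf'C ⟨b, hAH hb⟩ (Subgroup.mem_subgroupOf.2 hb)
        exact congrArg Subtype.val this
      have han : (f' : G) ^ p ^ n = 1 := by
        have := congrArg Subtype.val hf'n
        simpa using this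
      have hap : (f' : G) ^ p ∈ A := by simpa using hf'p
      have hacomm : ∀ h ∈ H, (f' : G)⁻¹ * h⁻¹ * (f' : G) * h ∈ A := by
        intro h hh
        have := hf'comm ⟨h, hh⟩
        rw [Subgroup.mem_subgroupOf] at this
        simpa using this
      obtain ⟨F, hFn, hFmem⟩ := exists_F0 A H p n d hd1 hd2
      haveI := hFn
      have haF : (f' : G) ∈ F := (hFmem _).2 ⟨haC, f'.2, hacomm, han, hap⟩
      have hQ : IsPGroup p (G ⧸ A) := hG.to_quotient A
      haveI : Group.IsNilpotent (G ⧸ A) := hQ.isNilpotent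
      haveI hFbar : (F.map (QuotientGroup.mk' A)).Normal :=
        hFn.map _ (QuotientGroup.mk'_surjective A)
      have hne : F.map (QuotientGroup.mk' A) ≠ ⊥ := by
        intro hbot
        have : QuotientGroup.mk' A (f' : G) ∈ F.map (QuotientGroup.mk' A) :=
          Subgroup.mem_map_of_mem _ haF
        rw [hbot, Subgroup.mem_bot] at this
        exact hf'A ((QuotientGroup.eq_one_iff _).1 this)
      have := Cfsg.Agent.S0065.result (F.map (QuotientGroup.mk' A)) hne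
      obtain ⟨⟨y, hy⟩, hy1⟩ := (Subgroup.ne_bot_iff_exists_ne_one).1 this
      have hy1' : y ≠ 1 := fun h => hy1 (Subtype.ext h)
      obtain ⟨hyF, hyc⟩ := Subgroup.mem_inf.1 hy
      obtain ⟨f, hfF, rfl⟩ := Subgroup.mem_map.1 hyF
      obtain ⟨hf1, hf2, hf3, hf4, hf5⟩ := (hFmem f).1 hfF
      refine ⟨f, ?_, hf1, hf4, hf5, ?_⟩
      · intro hfA
        exact hy1' ((QuotientGroup.eq_one_iff _).2 hfA)
      · intro g
        have := Subgroup.mem_center_iff.1 hyc (QuotientGroup.mk' A g)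
        rw [← map_mul, ← map_mul] at this
        have h3 := QuotientGroup.eq.1 this
        have e : (g * f)⁻¹ * (f * g) = f⁻¹ * g⁻¹ * f * g := by group
        rwa [e] at h3

end

/-- If A is maximal among the normal abelian subgroups of exponent dividing p^n of a p-group (p^n ≠ 2), then A contains every element of order dividing p^n in its centralizer. -/
theorem result {G : Type*} [Group G] [Finite G] {p : ℕ} [Fact p.Prime] (hG : IsPGroup p G) (n : ℕ) (hn : p ^ n ≠ 2) (A : Subgroup G) [A.Normal] (hA : IsMulCommutative A) (hAe : ∀ a ∈ A, a ^ p ^ n = 1) (hmax : ∀ B : Subgroup G, B.Normal → IsMulCommutative B → (∀ b ∈ B, b ^ p ^ n = 1) → A ≤ B → B = A) (x : G) (hx : x ∈ Subgroup.centralizer (A : Set G)) (hxn : x ^ p ^ n = 1) : x ∈ A := by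
  classical
  have hp : p.Prime := Fact.out
  rcases Nat.eq_zero_or_pos n with hn0 | hnpos
  · subst hn0
    rw [pow_zero, pow_one] at hxn
    rw [hxn]; exact A.one_mem
  have hAab : A ≤ Subgroup.centralizer (A : Set G) := by
    intro a ha b hb
    exact congrArg Subtype.val (hA.is_comm.comm ⟨b, hb⟩ ⟨a, ha⟩)
  -- the exponent d
  have hd : ∃ d : ℕ, p ∣ d ∧ d ∣ (p ^ n).choose 2 := by
    rcases hp.eq_two_or_odd with h2 | hodd
    · have hn2 : 2 ≤ n := by
        rcases Nat.lt_or_ge n 2 with h | h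
        · exfalso
          have : n = 1 := by omega
          apply hn; rw [this, h2]; norm_num
        · exact h
      refine ⟨p ^ (n - 1), dvd_pow_self p (by omega), ?_⟩
      rw [Nat.choose_two_right]
      have e : p ^ n = p * p ^ (n - 1) := by
        rw [← pow_succ', show n - 1 + 1 = n by omega]
      rw [e, h2, mul_assoc, Nat.mul_div_cancel_left _ (by norm_num : 0 < 2)]
      exact dvd_mul_right _ _
    · refine ⟨p ^ n, dvd_pow_self p (by omega), ?_⟩
      rw [Nat.choose_two_right]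
      have hodd' : (p ^ n) % 2 = 1 := by
        rw [Nat.pow_mod, hodd]; simp
      obtain ⟨k, hk⟩ : ∃ k, p ^ n - 1 = 2 * k := ⟨(p ^ n - 1) / 2, by omega⟩
      rw [hk, ← mul_assoc, mul_comm (p ^ n) 2, mul_assoc,
        Nat.mul_div_cancel_left _ (by norm_num : 0 < 2)]
      exact dvd_mul_right _ _
  obtain ⟨d, hd1, hd2⟩ := hd
  by_contra hxA
  obtain ⟨f, hfA, hfC, hfn, hfp, hfcomm⟩ :=
    alperin_aux p n d hd1 hd2 (Nat.card G) G le_rfl hG A inferInstance hAab hAe x hx hxn hxA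
  have hBab := sup_zpowers_comm A hAab f hfC
  have hBe := sup_zpowers_exp A f hfC (p ^ n) hAe hfn
  have hBn := sup_zpowers_normal A f hfcomm
  have hBA := hmax (A ⊔ Subgroup.zpowers f) hBn
    ⟨⟨fun a b => Subtype.ext (hBab b.2 a.1 a.2)⟩⟩ hBe le_sup_left
  apply hfA
  rw [← hBA]
  exact le_sup_right (a := A) (Subgroup.mem_zpowers f)

end Cfsg.Agent.S0130
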