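import Cfsg.Statements.S0100
import Mathlib
import Cfsg.Agent.S0130
import Cfsg.Agent.Lib.Helper4.PGroupNormal
import Cfsg.Agent.Lib.Helper4.CoprimeAct
import Cfsg.Agent.Lib.Helper4.Schmidt

set_option autoImplicit false
open Cfsg

namespace Cfsg.Agent.S0100

open Cfsg.Agent.Lib.Helper4

theorem card_le_mul_card_inf_centralizer {P : Type*} [Group P] [Finite P] (E Z : Subgroup P)
    (hZ : Z ≤ Subgroup.center P) (a : P) (h : ∀ e ∈ E, e * a * e⁻¹ * a⁻¹ ∈ Z) :
    Nat.card E ≤ Nat.card Z * Nat.card (E ⊓ Subgroup.centralizer ({a} : Set P) : Subgroup P) := by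
  classical
  let φ : ↥E →* ↥Z :=
    { toFun := fun e => ⟨(e : P) * a * (e : P)⁻¹ * a⁻¹, h e e.2⟩
      map_one' := by
        apply Subtype.ext
        simp
      map_mul' := by
        intro e e'
        apply Subtype.ext
        have hz : (e' : P) * a * (e' : P)⁻¹ * a⁻¹ ∈ Subgroup.center P := hZ (h e' e'.2)
        have hc := Subgroup.mem_center_iff.1 hz
        show ((e * e' : ↥E) : P) * a * ((e * e' : ↥E) : P)⁻¹ * a⁻¹ =
          ((e : P) * a * (e : P)⁻¹ * a⁻¹) * ((e' : P) * a * (e' : P)⁻¹ * a⁻¹)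
        rw [Subgroup.coe_mul]
        calc (e : P) * (e' : P) * a * ((e : P) * (e' : P))⁻¹ * a⁻¹
            = (e : P) * ((e' : P) * a * (e' : P)⁻¹ * a⁻¹) * (a * (e : P)⁻¹ * a⁻¹) := by group
          _ = ((e' : P) * a * (e' : P)⁻¹ * a⁻¹) * (e : P) * (a * (e : P)⁻¹ * a⁻¹) := by
              rw [hc (e : P)]
          _ = ((e' : P) * a * (e' : P)⁻¹ * a⁻¹) * ((e : P) * a * (e : P)⁻¹ * a⁻¹) := by group
          _ = ((e : P) * a * (e : P)⁻¹ * a⁻¹) * ((e' : P) * a * (e' : P)⁻¹ * a⁻¹) := by
              rw [← hc] }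
  have hker : φ.ker = (E ⊓ Subgroup.centralizer ({a} : Set P)).subgroupOf E := by
    ext e
    rw [MonoidHom.mem_ker, Subgroup.mem_subgroupOf, Subgroup.mem_inf,
      Subgroup.mem_centralizer_singleton_iff]
    constructor
    · intro he
      have h1 : (e : P) * a * (e : P)⁻¹ * a⁻¹ = 1 := congrArg Subtype.val he
      refine ⟨e.2, ?_⟩
      have e2 : (e : P) * a = ((e : P) * a * (e : P)⁻¹ * a⁻¹) * (a * (e : P)) := by group
      rw [e2, h1, one_mul]
    · rintro ⟨_, he⟩
      apply Subtype.ext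
      show (e : P) * a * (e : P)⁻¹ * a⁻¹ = 1
      rw [he]; group
  have h1 : Nat.card φ.ker * φ.ker.index = Nat.card E := Subgroup.card_mul_index _
  have h2 : φ.ker.index = Nat.card φ.range := Subgroup.index_ker φ
  have h3 : Nat.card φ.range ≤ Nat.card Z :=
    Nat.le_of_dvd Nat.card_pos (Subgroup.card_subgroup_dvd_card _)
  have h4 : Nat.card φ.ker = Nat.card (E ⊓ Subgroup.centralizer ({a} : Set P) : Subgroup P) := by
    rw [hker, card_subgroupOf_of_le inf_le_left]
  rw [← h1, h2, h4, mul_comm]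
  exact Nat.mul_le_mul_right _ h3

/-- For odd p, a p-group without normal elementary abelian subgroups of order p^3 has p-rank at most 2. -/
theorem result {P : Type*} [Group P] [Finite P] {p : ℕ} [Fact p.Prime] (hp : p ≠ 2) (hP : IsPGroup p P) (h : ∀ A : Subgroup P, A.Normal → IsMulCommutative A → (∀ a ∈ A, a ^ p = 1) → Nat.card A ≠ p ^ 3) (E : Subgroup P) (hE : IsMulCommutative E) (hEe : ∀ e ∈ E, e ^ p = 1) : Nat.card E ≤ p ^ 2 := by
  classical
  have hpp : p.Prime := Fact.out
  -- maximal normal elementary abelian subgroup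
  obtain ⟨A, ⟨hAn, hAab, hAe⟩, hAmax⟩ := Set.exists_max_image
    {A : Subgroup P | A.Normal ∧ IsMulCommutative A ∧ ∀ a ∈ A, a ^ p = 1}
    (fun A => Nat.card A) (Set.toFinite _)
    ⟨⊥, inferInstance, inferInstance, fun a ha => by rw [Subgroup.mem_bot.1 ha, one_pow]⟩
  haveI := hAn
  have hAp : IsPGroup p A := hP.to_subgroup A
  obtain ⟨k, hk⟩ := (IsPGroup.iff_card).1 hAp
  have hk2 : k ≤ 2 := by
    by_contra hk3
    have hk3' : 3 ≤ k := by omega
    have : p ^ 3 ≤ Nat.card A := by rw [hk]; exact Nat.pow_le_pow_right hpp.pos hk3'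
    obtain ⟨A₃, hA₃A, hA₃n, hA₃c⟩ := exists_normal_le_card_pow hP A 3 this
    refine h A₃ hA₃n ?_ (fun a ha => hAe a (hA₃A ha)) hA₃c
    refine ⟨⟨fun a b => ?_⟩⟩
    have h1 : (a : P) * (b : P) = (b : P) * (a : P) :=
      congrArg Subtype.val (hAab.is_comm.comm ⟨a.1, hA₃A a.2⟩ ⟨b.1, hA₃A b.2⟩)
    exact Subtype.ext h1
  -- Alperin
  have hAlp : ∀ x : P, x ∈ Subgroup.centralizer (A : Set P) → x ^ p = 1 → x ∈ A := by
    intro x hx hxp
    apply Cfsg.Agent.S0130.result hP 1 (by rw [pow_one]; exact hp) A hAab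
      (by intro a ha; rw [pow_one]; exact hAe a ha) ?_ x hx (by rw [pow_one]; exact hxp)
    intro B hBn hBab hBe hAB
    symm
    apply Subgroup.eq_of_le_of_card_ge hAB
    apply hAmax
    exact ⟨hBn, hBab, fun b hb => by have := hBe b hb; rwa [pow_one] at this⟩
  have hEcomm : ∀ a ∈ E, ∀ b ∈ E, a * b = b * a := by
    intro a ha b hb
    exact congrArg Subtype.val (hE.is_comm.comm ⟨a, ha⟩ ⟨b, hb⟩)
  have hEC : E ⊓ Subgroup.centralizer (A : Set P) ≤ A := by
    intro x hx
    exact hAlp x hx.2 (hEe x hx.1)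
  -- the key bound: card E ≤ p * card (E ⊓ C(A))
  have hbound : Nat.card E ≤ p * Nat.card (E ⊓ Subgroup.centralizer (A : Set P) : Subgroup P) := by
    by_cases hAbot : A = ⊥
    · have : E ⊓ Subgroup.centralizer (A : Set P) = E := by
        apply le_antisymm inf_le_left
        apply le_inf le_rfl
        intro e _ b hb
        rw [hAbot] at hb
        have hb1 : b = 1 := Subgroup.mem_bot.1 hb
        rw [hb1]; simp
      rw [this]
      exact Nat.le_mul_of_pos_left _ hpp.pos
    obtain ⟨z, hzA, hzc, hz1, hzp⟩ := exists_central_order_p hP A hAbot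
    obtain ⟨Z₁, hZ₁⟩ : ∃ Z₁ : Subgroup P, Z₁ = Subgroup.zpowers z := ⟨_, rfl⟩
    have hZ₁c : Z₁ ≤ Subgroup.center P := by
      rw [hZ₁, Subgroup.zpowers_le]; exact hzc
    have hZ₁A : Z₁ ≤ A := by
      rw [hZ₁, Subgroup.zpowers_le]; exact hzA
    have hZ₁card : Nat.card Z₁ = p := by
      rw [hZ₁, Nat.card_zpowers]; exact orderOf_eq_prime hzp hz1
    haveI hZ₁n : Z₁.Normal := by
      constructor
      intro x hx g
      have := Subgroup.mem_center_iff.1 (hZ₁c hx) g
      have e : g * x * g⁻¹ = x := by rw [this]; group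
      rw [e]; exact hx
    by_cases hAZ : A = Z₁
    · -- A central
      have : E ⊓ Subgroup.centralizer (A : Set P) = E := by
        apply le_antisymm inf_le_left
        apply le_inf le_rfl
        intro e _
        rw [hAZ]
        intro b hb
        exact (Subgroup.mem_center_iff.1 (hZ₁c hb) e).symm
      rw [this]
      exact Nat.le_mul_of_pos_left _ hpp.pos
    -- A has order p², pick a₀ ∈ A \ Z₁
    have hZ₁ltA : Z₁ < A := lt_of_le_of_ne hZ₁A (Ne.symm hAZ)
    obtain ⟨a₀, ha₀A, ha₀Z⟩ := SetLike.exists_of_lt hZ₁ltA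
    have hAsup : Z₁ ⊔ Subgroup.zpowers a₀ = A := by
      apply Subgroup.eq_of_le_of_card_ge
      · exact sup_le hZ₁A (by rw [Subgroup.zpowers_le]; exact ha₀A)
      · have hlt : Z₁ < Z₁ ⊔ Subgroup.zpowers a₀ := by
          refine lt_of_le_of_ne le_sup_left ?_
          intro heq
          apply ha₀Z
          rw [heq]
          exact le_sup_right (a := Z₁) (Subgroup.mem_zpowers a₀)
        have h1 := card_lt_card_of_lt hlt
        have hsp : IsPGroup p (Z₁ ⊔ Subgroup.zpowers a₀ : Subgroup P) := hP.to_subgroup _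
        obtain ⟨j, hj⟩ := (IsPGroup.iff_card).1 hsp
        rw [hj, hZ₁card] at h1
        have hj2 : 2 ≤ j := by
          by_contra hlt2
          have : j ≤ 1 := by omega
          have := Nat.pow_le_pow_right hpp.pos this
          rw [pow_one] at this
          omega
        rw [hj, hk]
        calc p ^ k ≤ p ^ 2 := Nat.pow_le_pow_right hpp.pos hk2
          _ ≤ p ^ j := Nat.pow_le_pow_right hpp.pos hj2
    -- A/Z₁ is central in P/Z₁
    have hcomm : ∀ g : P, g * a₀ * g⁻¹ * a₀⁻¹ ∈ Z₁ := by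
      intro g
      have hQ : IsPGroup p (P ⧸ Z₁) := hP.to_quotient Z₁
      haveI hAbar : (A.map (QuotientGroup.mk' Z₁)).Normal :=
        hAn.map _ (QuotientGroup.mk'_surjective Z₁)
      have hne : A.map (QuotientGroup.mk' Z₁) ≠ ⊥ := by
        intro hbot
        have : QuotientGroup.mk' Z₁ a₀ ∈ A.map (QuotientGroup.mk' Z₁) :=
          Subgroup.mem_map_of_mem _ ha₀A
        rw [hbot, Subgroup.mem_bot] at this
        exact ha₀Z ((QuotientGroup.eq_one_iff _).1 this)
      obtain ⟨w, hwA, hwc, hw1, -⟩ := exists_central_order_p hQ _ hne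
      obtain ⟨w₀, hw₀A, rfl⟩ := Subgroup.mem_map.1 hwA
      -- w₀ = z' * a₀^i with a₀^i ∉ Z₁... show a₀ Z₁ is a power of w₀ Z₁
      have hw₀Z : w₀ ∉ Z₁ := fun hh => hw1 ((QuotientGroup.eq_one_iff _).2 hh)
      -- Z₁ ⊔ zpowers w₀ = A as well
      have hAsup' : Z₁ ⊔ Subgroup.zpowers w₀ = A := by
        apply Subgroup.eq_of_le_of_card_ge
        · exact sup_le hZ₁A (by rw [Subgroup.zpowers_le]; exact hw₀A)
        · have hlt : Z₁ < Z₁ ⊔ Subgroup.zpowers w₀ := by
            refine lt_of_le_of_ne le_sup_left ?_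
            intro heq
            apply hw₀Z
            rw [heq]
            exact le_sup_right (a := Z₁) (Subgroup.mem_zpowers w₀)
          have h1 := card_lt_card_of_lt hlt
          have hsp : IsPGroup p (Z₁ ⊔ Subgroup.zpowers w₀ : Subgroup P) := hP.to_subgroup _
          obtain ⟨j, hj⟩ := (IsPGroup.iff_card).1 hsp
          rw [hj, hZ₁card] at h1
          have hj2 : 2 ≤ j := by
            by_contra hlt2
            have : j ≤ 1 := by omega
            have := Nat.pow_le_pow_right hpp.pos this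
            rw [pow_one] at this
            omega
          rw [hj, hk]
          calc p ^ k ≤ p ^ 2 := Nat.pow_le_pow_right hpp.pos hk2
            _ ≤ p ^ j := Nat.pow_le_pow_right hpp.pos hj2
      have ha₀' : a₀ ∈ Z₁ ⊔ Subgroup.zpowers w₀ := by rw [hAsup']; exact ha₀A
      obtain ⟨z', hz', y, hy, hzy⟩ := Subgroup.mem_sup_of_normal_left.1 ha₀'
      obtain ⟨i, rfl⟩ := Subgroup.mem_zpowers_iff.1 hy
      -- mk a₀ = (mk w₀)^i is central
      have hmk : QuotientGroup.mk' Z₁ a₀ = (QuotientGroup.mk' Z₁ w₀) ^ i := by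
        have hz1' : QuotientGroup.mk' Z₁ z' = 1 := (QuotientGroup.eq_one_iff z').2 hz'
        rw [← hzy, map_mul, map_zpow, hz1', one_mul]
      have hcen : QuotientGroup.mk' Z₁ a₀ ∈ Subgroup.center (P ⧸ Z₁) := by
        rw [hmk]; exact Subgroup.zpow_mem _ hwc i
      have h5 := Subgroup.mem_center_iff.1 hcen (QuotientGroup.mk' Z₁ g)
      rw [← map_mul, ← map_mul] at h5
      have h6 := QuotientGroup.eq.1 h5
      have h9 := hZ₁n.conj_mem _ h6 (g * a₀)
      have h10 := Z₁.inv_mem h9
      have e : ((g * a₀) * ((g * a₀)⁻¹ * (a₀ * g)) * (g * a₀)⁻¹)⁻¹ = g * a₀ * g⁻¹ * a₀⁻¹ := by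
        group
      rwa [e] at h10
    have h1 := card_le_mul_card_inf_centralizer E Z₁ hZ₁c a₀ (fun e _ => hcomm e)
    rw [hZ₁card] at h1
    have h2 : E ⊓ Subgroup.centralizer ({a₀} : Set P) ≤ E ⊓ Subgroup.centralizer (A : Set P) := by
      apply le_inf inf_le_left
      intro x hx
      have hxa : x ∈ Subgroup.centralizer ({a₀} : Set P) := hx.2
      rw [Subgroup.mem_centralizer_singleton_iff] at hxa
      have hA' : A ≤ Subgroup.centralizer ({x} : Set P) := by
        rw [← hAsup]
        apply sup_le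
        · intro b hb
          rw [Subgroup.mem_centralizer_singleton_iff]
          exact (Subgroup.mem_center_iff.1 (hZ₁c hb) x).symm
        · rw [Subgroup.zpowers_le, Subgroup.mem_centralizer_singleton_iff]
          exact hxa.symm
      intro b hb
      have := hA' hb
      rw [Subgroup.mem_centralizer_singleton_iff] at this
      exact this
    calc Nat.card E ≤ p * Nat.card (E ⊓ Subgroup.centralizer ({a₀} : Set P) : Subgroup P) := h1
      _ ≤ p * Nat.card (E ⊓ Subgroup.centralizer (A : Set P) : Subgroup P) :=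
          Nat.mul_le_mul_left _ (Subgroup.card_le_of_le h2)
  -- conclusion
  by_contra hcon
  push Not at hcon
  have hAcard2 : Nat.card A ≤ p ^ 2 := by rw [hk]; exact Nat.pow_le_pow_right hpp.pos hk2
  have h1 := Subgroup.card_le_of_le hEC
  have h3 : p ^ 2 ≤ Nat.card (E ⊓ Subgroup.centralizer (A : Set P) : Subgroup P) := by
    by_contra hlt
    push Not at hlt
    have hEp : IsPGroup p (E ⊓ Subgroup.centralizer (A : Set P) : Subgroup P) := hP.to_subgroup _
    obtain ⟨j, hj⟩ := (IsPGroup.iff_card).1 hEp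
    rw [hj] at hlt hbound
    have hj1 : j ≤ 1 := by
      by_contra hj2
      have : 2 ≤ j := by omega
      have := Nat.pow_le_pow_right hpp.pos this
      omega
    have := Nat.pow_le_pow_right hpp.pos hj1
    rw [pow_one] at this
    have : p * p ^ j ≤ p * p := Nat.mul_le_mul_left _ this
    rw [← pow_two] at this
    omega
  have hEqA : E ⊓ Subgroup.centralizer (A : Set P) = A :=
    Subgroup.eq_of_le_of_card_ge hEC (by omega)
  have hAE : A ≤ E := by rw [← hEqA]; exact inf_le_left
  have hEle : E ≤ Subgroup.centralizer (A : Set P) := by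
    intro e he a ha
    exact hEcomm a (hAE ha) e he
  have hEA : E ≤ A := by
    rw [← hEqA]; exact le_inf le_rfl hEle
  have := Subgroup.card_le_of_le hEA
  omega

end Cfsg.Agent.S0100
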