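import Cfsg.Statements.S0101
import Mathlib
import Cfsg.Agent.S0094

set_option autoImplicit false
open Cfsg

namespace Cfsg.Agent.S0101


open Cfsg.Agent.Lib.Helper1

/-- a central element of a Sylow `p`-subgroup lying in the derived subgroup lies in `P'` -/
theorem central_mem_commutator {H : Type*} [Group H] [Finite H] {p : ℕ} [Fact p.Prime]
    (P : Sylow p H) (z : H) (hzP : z ∈ (P : Subgroup H)) (hzZ : z ∈ Subgroup.center H)
    (hzC : z ∈ commutator H) : (⟨z, hzP⟩ : (P : Subgroup H)) ∈ commutator (P : Subgroup H) := by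
  have key : ∀ (k : ℕ) (g₀ : H), g₀⁻¹ * z ^ k * g₀ ∈ (P : Subgroup H) →
      g₀⁻¹ * z ^ k * g₀ = z ^ k := by
    intro k g₀ _
    have hc : z ^ k ∈ Subgroup.center H := Subgroup.pow_mem _ hzZ k
    have := Subgroup.mem_center_iff.1 hc g₀
    calc g₀⁻¹ * z ^ k * g₀ = g₀⁻¹ * (z ^ k * g₀) := by group
      _ = g₀⁻¹ * (g₀ * z ^ k) := by rw [this]
      _ = z ^ k := by group
  have h1 := MonoidHom.transfer_eq_pow (H := (P : Subgroup H))
    (Abelianization.of : (P : Subgroup H) →* Abelianization (P : Subgroup H)) z key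
  have h2 : MonoidHom.transfer (H := (P : Subgroup H))
      (Abelianization.of : (P : Subgroup H) →* Abelianization (P : Subgroup H)) z = 1 :=
    Abelianization.commutator_subset_ker _ hzC
  rw [h2] at h1
  have h3 : (⟨z, hzP⟩ : (P : Subgroup H)) ^ (P : Subgroup H).index ∈ commutator (P : Subgroup H) := by
    rw [← Abelianization.ker_of, MonoidHom.mem_ker]
    exact h1.symm
  obtain ⟨k, hk⟩ := (IsPGroup.iff_orderOf.1 P.2) ⟨z, hzP⟩
  have hcop : ((P : Subgroup H).index).Coprime (orderOf (⟨z, hzP⟩ : (P : Subgroup H))) := by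
    rw [hk]
    apply Nat.Coprime.pow_right
    rw [Nat.coprime_comm, Nat.Prime.coprime_iff_not_dvd Fact.out]
    exact P.not_dvd_index
  obtain ⟨m, hm⟩ := exists_pow_eq_self_of_coprime hcop
  rw [← hm]
  exact Subgroup.pow_mem _ h3 m


/-- In a perfect central extension, the kernel meets each Sylow p-subgroup P inside the Frattini subgroup of P. -/
theorem result {H : Type*} {G : Type*} [Group H] [Group G] [Finite H] (σ : H →* G) (hσ : Function.Surjective σ) (hc : σ.ker ≤ Subgroup.center H) (hH : commutator H = ⊤) {p : ℕ} [Fact p.Prime] (P : Sylow p H) : σ.ker ⊓ (P : Subgroup H) ≤ (frattini P).map (P : Subgroup H).subtype := by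
  intro z hz
  obtain ⟨hzK, hzP⟩ := Subgroup.mem_inf.1 hz
  have hzC : z ∈ commutator H := by rw [hH]; trivial
  have h1 := central_mem_commutator P z hzP (hc hzK) hzC
  exact ⟨⟨z, hzP⟩, Cfsg.Agent.S0094.commutator_le_frattini P.2 h1, rfl⟩

end Cfsg.Agent.S0101
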