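import Cfsg.Statements.S0102
import Mathlib
import Cfsg.Agent.S0101

set_option autoImplicit false
open Cfsg

namespace Cfsg.Agent.S0102

/-- A finite perfect group with cyclic Sylow p-subgroups has no perfect central extension whose kernel has order divisible by p. -/
theorem result {G : Type*} {H : Type*} [Group G] [Group H] [Finite G] [Finite H] (hG : commutator G = ⊤) {p : ℕ} [Fact p.Prime] (hcyc : ∀ P : Sylow p G, IsCyclic P) (σ : H →* G) (hσ : Function.Surjective σ) (hz : σ.ker ≤ Subgroup.center H) (hH : commutator H = ⊤) : ¬ p ∣ Nat.card σ.ker := by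
  intro hdvd
  haveI : Fact p.Prime := inferInstance
  obtain ⟨z, hzp⟩ := exists_prime_orderOf_dvd_card' (G := σ.ker) p hdvd
  have hzo : orderOf (z : H) = p := by rw [Subgroup.orderOf_coe]; exact hzp
  have hzK : (z : H) ∈ σ.ker := z.2
  have hpz : IsPGroup p (Subgroup.zpowers (z : H)) := by
    apply IsPGroup.of_card (n := 1)
    rw [Nat.card_zpowers, hzo, pow_one]
  obtain ⟨Q, hQ⟩ := hpz.exists_le_sylow
  have hzQ : (z : H) ∈ (Q : Subgroup H) := hQ (Subgroup.mem_zpowers _)
  -- image of Q is cyclic
  have hpm : IsPGroup p ((Q : Subgroup H).map σ) := Q.2.map σ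
  obtain ⟨P, hP⟩ := hpm.exists_le_sylow
  haveI := hcyc P
  haveI : IsCyclic ((Q : Subgroup H).map σ) := Subgroup.isCyclic_of_le hP
  have hker : (σ.subgroupMap (Q : Subgroup H)).ker ≤ Subgroup.center (Q : Subgroup H) := by
    intro x hx
    rw [MonoidHom.mem_ker] at hx
    have hx1 : σ (x : H) = 1 := by
      have := congrArg Subtype.val hx
      simpa using this
    have hxc : (x : H) ∈ Subgroup.center H := hz hx1
    rw [Subgroup.mem_center_iff]
    intro y
    apply Subtype.ext
    have := (Subgroup.mem_center_iff.1 hxc) (y : H)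
    simpa using this
  have hcomm : ∀ a b : (Q : Subgroup H), a * b = b * a :=
    fun a b => (MonoidHom.isMulCommutative_of_isCyclic_of_ker_le_center (σ.subgroupMap (Q : Subgroup H)) hker).is_comm.comm a b
  have hcQ : commutator (Q : Subgroup H) = ⊥ := by
    rw [commutator_def, Subgroup.commutator_eq_bot_iff_le_centralizer]
    intro a _ b _
    exact (hcomm a b).symm
  have hmem := Cfsg.Agent.S0101.central_mem_commutator Q (z : H) hzQ (hz hzK) (by rw [hH]; trivial)
  rw [hcQ, Subgroup.mem_bot] at hmem
  have hz1 : (z : H) = 1 := congrArg Subtype.val hmem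
  rw [hz1, orderOf_one] at hzo
  exact (Fact.out : p.Prime).one_lt.ne hzo

end Cfsg.Agent.S0102
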