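import Cfsg.Statements.S0104
import Mathlib
import Cfsg.Agent.Lib.Helper1.SylowConj

set_option autoImplicit false
open Cfsg

namespace Cfsg.Agent.S0104

open Cfsg.Agent.Lib.Helper1

/-- A subgroup Z of a Sylow p-subgroup P that is normalized by N_G(P) is weakly closed in P exactly when it is normal in every Sylow p-subgroup containing it. -/
theorem result {G : Type*} [Group G] [Finite G] {p : ℕ} [Fact p.Prime] (P : Sylow p G) (Z : Subgroup G) (hZP : Z ≤ (P : Subgroup G)) (hZN : Subgroup.normalizer (P : Set G) ≤ Subgroup.normalizer (Z : Set G)) : Cfsg.IsWeaklyClosed Z P ↔ ∀ R : Sylow p G, Z ≤ (R : Subgroup G) → (R : Subgroup G) ≤ Subgroup.normalizer (Z : Set G) := by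
  have hPfin : Finite (Sylow p G) := inferInstance
  constructor
  · rintro ⟨-, hwc⟩ R hZR
    obtain ⟨g, rfl⟩ := MulAction.exists_smul_eq G P R
    have hle : Z.map (MulAut.conj g⁻¹).toMonoidHom ≤ (P : Subgroup G) := by
      intro x hx
      rw [mem_map_conj_iff, inv_inv] at hx
      have := hZR hx
      have h' : g * x * g⁻¹ ∈ (g • P : Sylow p G) := this
      rw [mem_sylow_smul_iff] at h'
      have e : g⁻¹ * (g * x * g⁻¹) * g = x := by group
      rw [e] at h'
      exact h'
    have hginv : g⁻¹ ∈ Subgroup.normalizer (Z : Set G) := map_conj_eq_iff.1 (hwc g⁻¹ hle)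
    have hgN : g ∈ Subgroup.normalizer (Z : Set G) := by
      have := Subgroup.inv_mem _ hginv
      rwa [inv_inv] at this
    intro r hr
    have hr' : r ∈ (g • P : Sylow p G) := hr
    rw [mem_sylow_smul_iff] at hr'
    have hxN : g⁻¹ * r * g ∈ Subgroup.normalizer (Z : Set G) :=
      hZN (Subgroup.le_normalizer hr')
    have e : r = g * (g⁻¹ * r * g) * g⁻¹ := by group
    rw [e]
    exact Subgroup.mul_mem _ (Subgroup.mul_mem _ hgN hxN) hginv
  · intro h
    refine ⟨hZP, fun g hg => ?_⟩
    rw [map_conj_eq_iff]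
    have h1 : (P : Subgroup G) ≤ Subgroup.normalizer (Z : Set G) := h P hZP
    have hZR : Z ≤ ((g⁻¹ • P : Sylow p G) : Subgroup G) := by
      intro z hz
      show z ∈ (g⁻¹ • P : Sylow p G)
      rw [mem_sylow_smul_iff, inv_inv]
      apply hg
      rw [mem_map_conj_iff]
      have e : g⁻¹ * (g * z * g⁻¹) * g = z := by group
      rw [e]; exact hz
    have h2 : ((g⁻¹ • P : Sylow p G) : Subgroup G) ≤ Subgroup.normalizer (Z : Set G) :=
      h _ hZR
    obtain ⟨m, hm⟩ :=
      MulAction.exists_smul_eq (Subgroup.normalizer (Z : Set G)) (P.subtype h1)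
        ((g⁻¹ • P).subtype h2)
    simp_rw [Sylow.smul_subtype, Subgroup.smul_def] at hm
    have hm' : (m : G) • P = g⁻¹ • P := Sylow.subtype_injective hm
    have hgm : (g * (m : G)) • P = P := by
      rw [mul_smul, hm', smul_smul, mul_inv_cancel, one_smul]
    have hgmN : g * (m : G) ∈ Subgroup.normalizer (Z : Set G) :=
      hZN (Sylow.smul_eq_iff_mem_normalizer.1 hgm)
    have e : g = g * (m : G) * (m : G)⁻¹ := by group
    rw [e]
    exact Subgroup.mul_mem _ hgmN (Subgroup.inv_mem _ m.2)

end Cfsg.Agent.S0104
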