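import Cfsg.Statements.S0105
import Mathlib
import Cfsg.Agent.S0075

set_option autoImplicit false
open Cfsg

namespace Cfsg.Agent.S0105


open Cfsg.Agent.Lib.Helper3
open scoped commutatorElement

theorem decomp {G : Type*} [Group G] [Finite G] {p : ℕ} [Fact p.Prime] (P : Sylow p G)
    [IsMulCommutative P] :
    (∀ t ∈ (P : Subgroup G), ∃ d ∈ (P : Subgroup G) ⊓ pResidual p G,
      ∃ z ∈ (P : Subgroup G) ⊓ Subgroup.centralizer (Subgroup.normalizer (P : Set G) : Set G),
        t = d * z) ∧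
    (∀ z ∈ (P : Subgroup G) ⊓ Subgroup.centralizer (Subgroup.normalizer (P : Set G) : Set G),
      z ∈ pResidual p G → z = 1) := by
  set N := Subgroup.normalizer ((P : Subgroup G) : Set G) with hN
  have hPN : (P : Subgroup G) ≤ N := Subgroup.le_normalizer
  haveI : ((P : Subgroup G).subgroupOf N).Normal := Subgroup.normal_in_normalizer
  have hcardT : Nat.card ((P : Subgroup G).subgroupOf N) = Nat.card (P : Subgroup G) :=
    Nat.card_congr (Subgroup.subgroupOfEquivOfLe hPN).toEquiv
  have hHall : Nat.Coprime (Nat.card ((P : Subgroup G).subgroupOf N))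
      ((P : Subgroup G).subgroupOf N).index := by
    rw [hcardT]
    obtain ⟨k, hk⟩ := (IsPGroup.iff_card).1 P.2
    rw [hk]
    apply Nat.Coprime.pow_left
    rw [Nat.Prime.coprime_iff_not_dvd Fact.out]
    intro hdvd
    have h1 : ((P : Subgroup G).subgroupOf N).index ∣ (P : Subgroup G).index :=
      Subgroup.relIndex_dvd_index_of_le hPN
    exact P.not_dvd_index (dvd_trans hdvd h1)
  obtain ⟨-, h2, h3⟩ := Cfsg.Agent.S0090.result ((P : Subgroup G).subgroupOf N) inferInstance hHall
  have hR := Cfsg.Agent.S0075.result P inferInstance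
  rw [Cfsg.Agent.S0075.comm_normalizer P] at hR
  constructor
  · intro t ht
    have htA : (⟨t, hPN ht⟩ : N) ∈ (P : Subgroup G).subgroupOf N := by
      rw [Subgroup.mem_subgroupOf]; exact ht
    rw [← h3, Subgroup.mem_sup_of_normal_right] at htA
    obtain ⟨d', hd', z', hz', hdz⟩ := htA
    obtain ⟨hd1, hd2⟩ := Subgroup.mem_inf.1 hd'
    obtain ⟨hz1, hz2⟩ := Subgroup.mem_inf.1 hz'
    rw [Subgroup.mem_subgroupOf] at hd2 hz2
    refine ⟨d'.1, ?_, z'.1, ?_, ?_⟩
    · rw [hR]
      refine Subgroup.mem_inf.2 ⟨?_, hd2⟩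
      rw [← Subgroup.map_subtype_commutator]
      exact ⟨d', hd1, rfl⟩
    · refine Subgroup.mem_inf.2 ⟨hz2, ?_⟩
      rw [Subgroup.mem_centralizer_iff]
      intro n hn
      have := Subgroup.mem_center_iff.1 hz1 ⟨n, hn⟩
      exact congrArg Subtype.val this
    · have := congrArg Subtype.val hdz
      rw [Subgroup.coe_mul] at this
      exact this.symm
  · intro z hz hzR
    obtain ⟨hzP, hzC⟩ := Subgroup.mem_inf.1 hz
    have hz' : z ∈ (P : Subgroup G) ⊓ pResidual p G := Subgroup.mem_inf.2 ⟨hzP, hzR⟩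
    rw [hR] at hz'
    obtain ⟨hz1, -⟩ := Subgroup.mem_inf.1 hz'
    rw [← Subgroup.map_subtype_commutator] at hz1
    obtain ⟨y, hy, hyz⟩ := hz1
    have hyz' : (y : G) = z := hyz
    have hyA : y ∈ (P : Subgroup G).subgroupOf N := by
      rw [Subgroup.mem_subgroupOf, hyz']; exact hzP
    have hyZ : y ∈ Subgroup.center N := by
      refine Subgroup.mem_center_iff.2 ?_
      intro n
      apply Subtype.ext
      rw [Subgroup.coe_mul, Subgroup.coe_mul, hyz']
      exact Subgroup.mem_centralizer_iff.1 hzC n.1 n.2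
    have : y ∈ (commutator N ⊓ (P : Subgroup G).subgroupOf N) ⊓
        (Subgroup.center N ⊓ (P : Subgroup G).subgroupOf N) :=
      Subgroup.mem_inf.2 ⟨Subgroup.mem_inf.2 ⟨hy, hyA⟩, Subgroup.mem_inf.2 ⟨hyZ, hyA⟩⟩
    rw [h2, Subgroup.mem_bot] at this
    rw [← hyz', this]; rfl


/-- With an abelian Sylow p-subgroup P, some quotient of G is isomorphic to the part of P central in N_G(P). -/
theorem result {G : Type*} [Group G] [Finite G] {p : ℕ} [Fact p.Prime] (P : Sylow p G) (hP : IsMulCommutative P) : ∃ (N : Subgroup G) (hN : N.Normal), Nonempty (G ⧸ N ≃* ((P : Subgroup G) ⊓ Subgroup.centralizer (Subgroup.normalizer (P : Set G) : Set G) : Subgroup G)) := by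
  haveI := hP
  haveI hn := pRes_normal p G
  obtain ⟨h1, h2⟩ := decomp P
  refine ⟨pResidual p G, hn, ?_⟩
  set Z := (P : Subgroup G) ⊓ Subgroup.centralizer (Subgroup.normalizer (P : Set G) : Set G) with hZ
  let f : Z →* G ⧸ pResidual p G := (QuotientGroup.mk' (pResidual p G)).comp Z.subtype
  have hsup : (P : Subgroup G) ⊔ pResidual p G = ⊤ := sup_pRes_eq_top p _ P.not_dvd_index
  have hinj : Function.Injective f := by
    rw [injective_iff_map_eq_one]
    intro z hz
    have hz' : (z : G) ∈ pResidual p G := (QuotientGroup.eq_one_iff _).1 hz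
    apply Subtype.ext
    exact h2 z.1 z.2 hz'
  have hsurj : Function.Surjective f := by
    intro q
    induction q using QuotientGroup.induction_on with
    | H g =>
      have hg : g ∈ (P : Subgroup G) ⊔ pResidual p G := by rw [hsup]; trivial
      rw [Subgroup.mem_sup_of_normal_right] at hg
      obtain ⟨t, ht, r, hr, rfl⟩ := hg
      obtain ⟨d, hd, z, hz, rfl⟩ := h1 t ht
      refine ⟨⟨z, hz⟩, ?_⟩
      show ((z : G) : G ⧸ pResidual p G) = ((d * z * r : G) : G ⧸ pResidual p G)
      rw [QuotientGroup.eq]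
      have hd' : d ∈ pResidual p G := (Subgroup.mem_inf.1 hd).2
      have : z⁻¹ * (d * z * r) = (z⁻¹ * d * z⁻¹⁻¹) * r := by group
      rw [this]
      exact (pResidual p G).mul_mem (hn.conj_mem _ hd' _) hr
  exact ⟨(MulEquiv.ofBijective f ⟨hinj, hsurj⟩).symm⟩

end Cfsg.Agent.S0105
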