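import Cfsg.Statements.S0106
import Cfsg.Agent.S0071
import Cfsg.Agent.Lib.Helper4.SL23Rec
import Cfsg.Agent.Lib.Helper6.QuatSylow
import Cfsg.Agent.Lib.Helper6.QuatFacts
import Cfsg.Agent.Lib.Helper7.PSubFrattini

set_option autoImplicit false
open Cfsg

namespace Cfsg.Agent.S0106


open Subgroup in
/-- the local analysis: a subgroup of a generalized quaternion Sylow 2-subgroup not centralized
by an element of odd order normalizing it gives a section `SL(2,3)` -/
theorem main0106 {G : Type*} [Group G] [Finite G] (T : Sylow 2 G) (n : ℕ) (hn : 1 ≤ n)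
    (e : (T : Subgroup G) ≃* QuaternionGroup (2 ^ n)) (Q : Subgroup G)
    (hQT : Q ≤ (T : Subgroup G))
    (g : G) (hgN : g ∈ normalizer (Q : Set G)) (hodd : Odd (orderOf g))
    (hgC : g ∉ centralizer (Q : Set G)) :
    ∃ (H K : Subgroup G) (_ : (K.subgroupOf H).Normal),
      Nonempty ((H ⧸ K.subgroupOf H) ≃* Matrix.SpecialLinearGroup (Fin 2) (ZMod 3)) := by
  classical
  haveI : NeZero (2 ^ n) := ⟨by positivity⟩
  have hm2 : 2 ≤ 2 ^ n := by
    calc 2 = 2 ^ 1 := rfl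
      _ ≤ 2 ^ n := Nat.pow_le_pow_right (by norm_num) hn
  obtain ⟨a₀, ha₀, hstr₀⟩ := Cfsg.Agent.Lib.Helper6.quaternion_structure (2 ^ n) e
  obtain ⟨hao, hstr⟩ := Cfsg.Agent.Lib.Helper6.quaternion_structure_map
    (T : Subgroup G).subtype (Subgroup.subtype_injective _) (2 ^ n) a₀ ha₀ hstr₀
  obtain ⟨a, hadef⟩ : ∃ a : G, a = (T : Subgroup G).subtype a₀ := ⟨_, rfl⟩
  rw [← hadef] at hao hstr
  have hstrT : ∀ u ∈ (T : Subgroup G), u ∈ zpowers a ∨ (u * a * u⁻¹ = a⁻¹ ∧ u ^ 4 = 1) := by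
    intro u hu
    apply hstr
    rw [Subgroup.range_subtype]
    exact hu
  have haT : a ∈ (T : Subgroup G) := by rw [hadef]; exact a₀.2
  obtain ⟨ι₀, β₀, _, hι1, hι2, hιuniq, _, _⟩ :=
    Cfsg.Agent.Lib.Helper6.quat_structure (2 ^ n) hm2 e
  have hinv : ∀ x ∈ (T : Subgroup G), x ^ 2 = 1 → x = 1 ∨ x = (ι₀ : G) := by
    intro x hx hx2
    rcases hιuniq ⟨x, hx⟩ (Subtype.ext (by rw [Subgroup.coe_pow]; exact hx2)) with h | h
    · left; exact congrArg Subtype.val h
    · right; exact congrArg Subtype.val h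
  have ha2 : a ≠ a⁻¹ := by
    intro h
    have h1 : a ^ 2 = 1 := by
      rw [pow_two]
      nth_rewrite 2 [h]
      exact mul_inv_cancel a
    have h2 := orderOf_dvd_of_pow_eq_one h1
    rw [hao] at h2
    have := Nat.le_of_dvd (by norm_num) h2
    omega
  have hQ2 : IsPGroup 2 Q := IsPGroup.to_le T.isPGroup' hQT
  have key : ∀ x ∈ (T : Subgroup G), x ∉ zpowers a → ∀ z ∈ (T : Subgroup G), z ∉ zpowers a →
      x * z ∈ zpowers a := by
    intro x hx hxA z hz hzA
    rcases hstrT x hx with h | ⟨hxa, _⟩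
    · exact absurd h hxA
    rcases hstrT z hz with h | ⟨hza, _⟩
    · exact absurd h hzA
    rcases hstrT (x * z) ((T : Subgroup G).mul_mem hx hz) with h | ⟨hxza, _⟩
    · exact h
    exfalso
    apply ha2
    calc a = (x * a * x⁻¹)⁻¹ := by rw [hxa, inv_inv]
      _ = x * a⁻¹ * x⁻¹ := by group
      _ = x * (z * a * z⁻¹) * x⁻¹ := by rw [hza]
      _ = x * z * a * (x * z)⁻¹ := by group
      _ = a⁻¹ := hxza
  by_cases hQA : Q ≤ zpowers a
  · exfalso
    have hcyc : IsCyclic Q := Subgroup.isCyclic_of_le hQA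
    exact hgC (Cfsg.Agent.Lib.Helper6.centralizes_cyclic_two_group Q hcyc hQ2 g hgN
      (orderOf g) hodd (pow_orderOf_eq_one g))
  obtain ⟨y, hyQ, hyA⟩ := SetLike.not_le_iff_exists.1 hQA
  obtain ⟨C, hCdef⟩ : ∃ C : Subgroup G, C = Q ⊓ zpowers a := ⟨_, rfl⟩
  have hCQ : C ≤ Q := hCdef ▸ inf_le_left
  have hCA : C ≤ zpowers a := hCdef ▸ inf_le_right
  have hCcyc : IsCyclic C := Subgroup.isCyclic_of_le hCA
  have hC2 : IsPGroup 2 C := IsPGroup.to_le hQ2 hCQ
  obtain ⟨c, hcC, hCeq⟩ := Cfsg.Agent.Lib.Helper6.exists_zpowers_eq_of_isCyclic C hCcyc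
  have hcQ : c ∈ Q := hCQ hcC
  have hcA : c ∈ zpowers a := hCA hcC
  have hrel : C.relIndex Q = 2 := by
    rw [Subgroup.relIndex_eq_two_iff_exists_notMem_and]
    refine ⟨y, hyQ, fun h => hyA (hCA h), ?_⟩
    intro b hb
    by_cases hbA : b ∈ zpowers a
    · right
      rw [hCdef]
      exact ⟨hb, hbA⟩
    · left
      rw [hCdef]
      exact ⟨Q.mul_mem hb hyQ, key b (hQT hb) hbA y (hQT hyQ) hyA⟩
  have hcardQ : Nat.card Q = 2 * orderOf c := by
    have h1 := (C.subgroupOf Q).card_mul_index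
    have h2 : (C.subgroupOf Q).index = 2 := hrel
    have h3 : Nat.card (C.subgroupOf Q) = Nat.card C :=
      Nat.card_congr (Subgroup.subgroupOfEquivOfLe hCQ).toEquiv
    have h4 : Nat.card C = orderOf c := by rw [hCeq, Nat.card_zpowers]
    rw [h2, h3, h4] at h1
    omega
  have hgc : ¬ Commute g c := by
    intro h
    apply hgC
    rw [mem_centralizer_iff]
    intro v hv
    exact ((Cfsg.Agent.Lib.Helper6.commute_of_commute_index_two' Q hQ2 c hcQ hcardQ g hgN h
      (orderOf g) hodd (pow_orderOf_eq_one g)) v hv).eq.symm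
  have hjC : g * c * g⁻¹ ∉ C := by
    intro hj
    have hnormC : g ∈ normalizer (C : Set G) := by
      apply Cfsg.Agent.Lib.Helper7.mem_normalizer_of_conj_mem C g
      intro x hx
      rw [hCeq] at hx
      obtain ⟨r, rfl⟩ := mem_zpowers_iff.1 hx
      rw [← conj_zpow]
      exact C.zpow_mem hj r
    have hcentC := Cfsg.Agent.Lib.Helper6.centralizes_cyclic_two_group C hCcyc hC2 g hnormC
      (orderOf g) hodd (pow_orderOf_eq_one g)
    apply hgc
    rw [mem_centralizer_iff] at hcentC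
    exact (hcentC c hcC).symm
  obtain ⟨j, hjdef⟩ : ∃ j : G, j = g * c * g⁻¹ := ⟨_, rfl⟩
  have hjQ : j ∈ Q := by rw [hjdef]; exact (mem_normalizer_iff.1 hgN c).1 hcQ
  have hjT : j ∈ (T : Subgroup G) := hQT hjQ
  have hjA : j ∉ zpowers a := by
    intro h
    apply hjC
    rw [← hjdef, hCdef]
    exact ⟨hjQ, h⟩
  rcases hstrT j hjT with h | ⟨hja, hj4⟩
  · exact absurd h hjA
  have hjpow : ∀ r : ℕ, j ^ r = g * c ^ r * g⁻¹ := by
    intro r
    rw [hjdef, conj_pow]
  have hc4' : c ^ 4 = 1 := by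
    have h1 := hjpow 4
    rw [hj4] at h1
    exact conj_eq_one_iff.1 h1.symm
  have hc2' : c ^ 2 ≠ 1 := by
    intro h2
    have hj2 : j ^ 2 = 1 := by rw [hjpow, h2, mul_one, mul_inv_cancel]
    have hjc : j = c := by
      rcases hinv c (hQT hcQ) h2 with h | h
      · rw [hjdef, h, mul_one, mul_inv_cancel]
      · rcases hinv j hjT hj2 with h' | h'
        · have h3 : c = 1 := by
            rw [hjdef] at h'
            exact conj_eq_one_iff.1 h'
          rw [hjdef, h3, mul_one, mul_inv_cancel]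
        · rw [h', h]
    apply hjC
    rw [← hjdef, hjc]
    exact hcC
  have hc4 : orderOf c = 4 := by
    have : orderOf c = 2 ^ (1 + 1) := by
      apply orderOf_eq_prime_pow (p := 2) (n := 1)
      · norm_num
        exact hc2'
      · norm_num
        exact hc4'
    rw [this]
    norm_num
  have hcardQ8 : Nat.card Q = 8 := by rw [hcardQ, hc4]
  have hconj : j * c * j⁻¹ = c⁻¹ := by
    obtain ⟨r, rfl⟩ := mem_zpowers_iff.1 hcA
    rw [← conj_zpow, hja, inv_zpow]
  have hsq : ∀ x ∈ (T : Subgroup G), x ^ 4 = 1 → x ^ 2 ≠ 1 → x ^ 2 = (ι₀ : G) := by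
    intro x hx hx4 hx2
    have h1 : (x ^ 2) ^ 2 = 1 := by rw [← pow_mul]; exact hx4
    rcases hinv (x ^ 2) ((T : Subgroup G).pow_mem hx 2) h1 with h | h
    · exact absurd h hx2
    · exact h
  have hj2ne : j ^ 2 ≠ 1 := by
    intro h
    rw [hjpow] at h
    exact hc2' (conj_eq_one_iff.1 h)
  have hj2 : j ^ 2 = c ^ 2 := by
    rw [hsq j hjT hj4 hj2ne, hsq c (hQT hcQ) hc4' hc2']
  rw [hjdef] at hj2 hconj
  exact Cfsg.Agent.Lib.Helper4.sl23_section_main Q g c hcardQ8 hcQ hc4 hgN hodd hj2 hconj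

/-- A finite group with generalized quaternion Sylow 2-subgroups either has a normal 2-complement or has a section isomorphic to SL(2,3). -/
theorem result {G : Type*} [Group G] [Finite G] (T : Sylow 2 G) (n : ℕ) (hn : 1 ≤ n) (hT : Nonempty ((T : Subgroup G) ≃* QuaternionGroup (2 ^ n))) : Cfsg.HasNormalPComplement 2 G ∨ ∃ (H K : Subgroup G) (hK : (K.subgroupOf H).Normal), Nonempty ((H ⧸ K.subgroupOf H) ≃* Matrix.SpecialLinearGroup (Fin 2) (ZMod 3)) := by
  classical
  haveI : Fact (Nat.Prime 2) := ⟨Nat.prime_two⟩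
  by_cases hnc : Cfsg.HasNormalPComplement 2 G
  · exact Or.inl hnc
  right
  obtain ⟨e⟩ := hT
  have h1 : ¬ (∃ N : Subgroup G, N.Normal ∧ N.IsComplement' (T : Subgroup G)) := by
    rintro ⟨N, hN1, hN2⟩
    exact hnc ⟨T, N, hN1, hN2⟩
  rw [Cfsg.Agent.S0071.result (p := 2) T] at h1
  obtain ⟨Q, hQT, g, hgN, hgcop, hgC⟩ : ∃ Q : Subgroup G, Q ≤ (T : Subgroup G) ∧
      ∃ g ∈ Subgroup.normalizer (Q : Set G), Nat.Coprime (orderOf g) 2 ∧
        g ∉ Subgroup.centralizer (Q : Set G) := by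
    by_contra hcon
    apply h1
    intro Q hQ g hg hcop
    by_contra hgc
    exact hcon ⟨Q, hQ, g, hg, hcop, hgc⟩
  have hodd : Odd (orderOf g) := (Nat.coprime_two_right).1 hgcop
  exact main0106 T n hn e Q hQT g hgN hodd hgC

end Cfsg.Agent.S0106
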