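import Cfsg.Statements.S0107
import Cfsg.Agent.S0111

set_option autoImplicit false
open Cfsg

namespace Cfsg.Agent.S0107

theorem rot_involution (n : ℕ) (hn : 1 ≤ n) (i : ZMod (2 ^ n))
    (h : orderOf (DihedralGroup.r i) = 2) : i = ((2 ^ (n - 1) : ℕ) : ZMod (2 ^ n)) := by
  haveI : NeZero (2 ^ n) := ⟨by positivity⟩
  have h2 : (DihedralGroup.r i) ^ 2 = 1 := by
    have := pow_orderOf_eq_one (DihedralGroup.r i)
    rwa [h] at this
  rw [DihedralGroup.r_pow, DihedralGroup.one_def] at h2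
  have h3 : i * ((2 : ℕ) : ZMod (2 ^ n)) = 0 := DihedralGroup.r.inj h2
  have hi0 : i ≠ 0 := by
    intro h0
    rw [h0, DihedralGroup.r_zero, orderOf_one] at h
    omega
  have h4 : ((i.val * 2 : ℕ) : ZMod (2 ^ n)) = 0 := by
    push_cast
    rw [ZMod.natCast_zmod_val]
    exact h3
  rw [ZMod.natCast_eq_zero_iff] at h4
  have hpow : 2 ^ n = 2 ^ (n - 1) * 2 := by
    rw [← pow_succ]; congr 1; omega
  have h4' : 2 ^ (n - 1) * 2 ∣ i.val * 2 := by rw [← hpow]; exact h4
  have h5 : 2 ^ (n - 1) ∣ i.val := Nat.dvd_of_mul_dvd_mul_right (by norm_num) h4'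
  obtain ⟨k, hk⟩ := h5
  have hlt : i.val < 2 ^ (n - 1) * 2 := by rw [← hpow]; exact ZMod.val_lt i
  have hk0 : k ≠ 0 := by
    intro h0
    rw [h0, mul_zero] at hk
    exact hi0 ((ZMod.val_eq_zero i).mp hk)
  have hk1 : k = 1 := by
    have hpos : 0 < 2 ^ (n - 1) := by positivity
    rw [hk] at hlt
    have : k < 2 := Nat.lt_of_mul_lt_mul_left hlt
    omega
  rw [hk1, mul_one] at hk
  rw [← hk, ZMod.natCast_zmod_val]

theorem mem_of_index_two_of_odd {G : Type*} [Group G] (M : Subgroup G) (hM : M.index = 2) (g : G)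
    (hg : (orderOf g).Coprime 2) : g ∈ M := by
  have h2 : g ^ 2 ∈ M := Subgroup.sq_mem_of_index_two hM g
  obtain ⟨m, hm⟩ := exists_pow_eq_self_of_coprime hg.symm
  rw [← hm]
  exact Subgroup.pow_mem _ h2 m

theorem result {G : Type*} [Group G] [Finite G] (T : Sylow 2 G) (n : ℕ) (hn : 2 ≤ n) (hT : Nonempty ((T : Subgroup G) ≃* DihedralGroup (2 ^ n))) (hO : Cfsg.pResidual 2 G = ⊤) (x y : G) (hx : orderOf x = 2) (hy : orderOf y = 2) : ∃ g : G, g * x * g⁻¹ = y := by
  classical
  obtain ⟨e⟩ := hT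
  have hn1 : 1 ≤ n := by omega
  haveI : NeZero (2 ^ n) := ⟨by positivity⟩
  let Rot : Subgroup (DihedralGroup (2 ^ n)) :=
    { carrier := {x | ∃ i, x = DihedralGroup.r i}
      one_mem' := ⟨0, DihedralGroup.one_def⟩
      mul_mem' := by
        rintro _ _ ⟨i, rfl⟩ ⟨j, rfl⟩
        exact ⟨i + j, DihedralGroup.r_mul_r i j⟩
      inv_mem' := by
        rintro _ ⟨i, rfl⟩
        exact ⟨-i, DihedralGroup.inv_r i⟩ }
  have hRotr : ∀ i, DihedralGroup.r i ∈ Rot := fun i => ⟨i, rfl⟩
  have hRotsr : ∀ i, DihedralGroup.sr i ∉ Rot := by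
    rintro i ⟨j, hj⟩
    cases hj
  have hRot2 : Rot.index = 2 := by
    rw [Subgroup.index_eq_two_iff]
    refine ⟨DihedralGroup.sr 0, fun b => ?_⟩
    cases b with
    | r i =>
      right
      refine ⟨hRotr i, ?_⟩
      rw [DihedralGroup.r_mul_sr]
      exact hRotsr _
    | sr i =>
      left
      refine ⟨?_, hRotsr i⟩
      rw [DihedralGroup.sr_mul_sr]
      exact hRotr _
  set Q' : Subgroup ↥(T : Subgroup G) := Rot.comap e.toMonoidHom with hQ'
  have hQ'idx : Q'.index = 2 := by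
    rw [hQ', Subgroup.index_comap_of_surjective _ e.surjective]
    exact hRot2
  set Q : Subgroup G := Q'.map (T : Subgroup G).subtype with hQ
  have hQT : Q ≤ (T : Subgroup G) := Subgroup.map_subtype_le _
  have hQrel : Q.relIndex (T : Subgroup G) = 2 := by
    show (Q.subgroupOf (T : Subgroup G)).index = 2
    rw [hQ, Subgroup.subgroupOf, Subgroup.comap_map_eq_self_of_injective
      (T : Subgroup G).subtype_injective]
    exact hQ'idx
  set z' : DihedralGroup (2 ^ n) := DihedralGroup.r (((2 ^ (n - 1) : ℕ)) : ZMod (2 ^ n)) with hz'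
  set z : G := ((e.symm z' : ↥(T : Subgroup G)) : G) with hz
  -- involutions of Q are z
  have hQinv : ∀ w : G, w ∈ Q → orderOf w = 2 → w = z := by
    rintro _ ⟨w, hw, rfl⟩ hw2
    have hw' : e w ∈ Rot := hw
    obtain ⟨i, hi⟩ := hw'
    have ho : orderOf (DihedralGroup.r i) = 2 := by
      rw [← hi, MulEquiv.orderOf_eq]
      exact (Subgroup.orderOf_coe w).symm.trans hw2
    have := rot_involution n hn1 i ho
    rw [this] at hi
    have hw3 : w = e.symm z' := by
      rw [hz', ← hi, MulEquiv.symm_apply_apply]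
    rw [hz, hw3]
    rfl
  -- involutions of T are conjugate to z
  have hTinv : ∀ u : G, u ∈ (T : Subgroup G) → orderOf u = 2 → ∃ g : G, g * u * g⁻¹ = z := by
    intro u huT hu2
    by_cases huQ : u ∈ Q
    · exact ⟨1, by rw [one_mul, inv_one, mul_one]; exact hQinv u huQ hu2⟩
    · rcases Cfsg.Agent.S0111.result T Q hQT hQrel u hu2 huT huQ with ⟨M, hMn, hMi, huM⟩ | ⟨g, hg⟩
      · exfalso
        apply huM
        have hle : Cfsg.pResidual 2 G ≤ M := by
          unfold Cfsg.pResidual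
          rw [Subgroup.closure_le]
          intro g hg
          exact mem_of_index_two_of_odd M hMi g hg
        rw [hO] at hle
        exact hle (Subgroup.mem_top u)
      · refine ⟨g, hQinv _ hg ?_⟩
        have := orderOf_injective (MulAut.conj g).toMonoidHom (MulAut.conj g).injective u
        simp only [MulEquiv.coe_toMonoidHom, MulAut.conj_apply] at this
        rw [this, hu2]
  -- all involutions are conjugate to z
  have hall : ∀ x : G, orderOf x = 2 → ∃ g : G, g * x * g⁻¹ = z := by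
    intro x hx2
    have hZ2 : IsPGroup 2 (Subgroup.zpowers x) := by
      apply IsPGroup.of_card (n := 1)
      rw [Nat.card_zpowers, hx2, pow_one]
    obtain ⟨P, hP⟩ := hZ2.exists_le_sylow
    obtain ⟨h, hh⟩ := MulAction.exists_smul_eq G P T
    have hxT : h * x * h⁻¹ ∈ (T : Subgroup G) := by
      rw [← hh, Sylow.smul_def, Sylow.pointwise_smul_def]
      exact ⟨x, hP (Subgroup.mem_zpowers x), by simp [MulAut.smul_def]⟩
    have ho : orderOf (h * x * h⁻¹) = 2 := by
      have := orderOf_injective (MulAut.conj h).toMonoidHom (MulAut.conj h).injective x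
      simp only [MulEquiv.coe_toMonoidHom, MulAut.conj_apply] at this
      rw [this, hx2]
    obtain ⟨g, hg⟩ := hTinv _ hxT ho
    refine ⟨g * h, ?_⟩
    rw [← hg]; group
  obtain ⟨a, ha⟩ := hall x hx
  obtain ⟨b, hb⟩ := hall y hy
  refine ⟨b⁻¹ * a, ?_⟩
  have : y = b⁻¹ * z * b := by rw [← hb]; group
  rw [this, ← ha]; group

end Cfsg.Agent.S0107
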