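import Mathlib
import Cfsg.Statements.S0109
import Cfsg.Agent.Lib.Helper3.SolvPSolv
import Cfsg.Agent.S0618
import Cfsg.Agent.Lib.Helper1.Fitting
import Cfsg.Agent.Lib.Helper3.Transport

set_option autoImplicit false
set_option linter.style.haveILetI false
open Cfsg
open Cfsg.Agent.Lib.Helper3
open scoped commutatorElement

namespace Cfsg.Agent.S0109

/-- The Thompson factorization Theorem for solvable groups states that, with p odd (and abelian Sylow 2-subgroups when p = 3) and no nontrivial normal subgroup of order prime to p, every element of G is a product of an element normalizing J(P) and an element centralizing the elements of order dividing p in the centre of P. -/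
theorem result {G : Type*} [Group G] [Finite G] {p : ℕ} [Fact p.Prime] (hp : p ≠ 2) (hs : Group.IsSolvable G) (h3 : p = 3 → ∀ T : Sylow 2 G, IsMulCommutative T) (hF : ∀ N : Subgroup G, N.Normal → Nat.Coprime (Nat.card N) p → N = ⊥) (P : Sylow p G) (g : G) : ∃ a ∈ Subgroup.normalizer (Cfsg.thompsonSubgroupOf p (P : Subgroup G) : Set G), ∃ c ∈ Subgroup.centralizer {x : G | x ∈ (P : Subgroup G) ∧ (∀ y ∈ (P : Subgroup G), x * y = y * x) ∧ x ^ p = 1}, g = a * c := by
  classical
  have hsol : Cfsg.IsPSolvable p G := isPSolvable_of_isSolvable p _ G rfl hs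
  have hO : Cfsg.pPrimeCore p G = ⊥ :=
    hF _ (pPrimeCore_normal' p) (Cfsg.Agent.Lib.Helper1.pPrimeCore_coprime p)
  have hfac : Cfsg.IsThompsonFactorizable p G := by
    by_contra hnf
    obtain ⟨hp23, E, hCE, hEle, hnE, hn, ⟨e⟩⟩ := Cfsg.Agent.S0618.result hsol hO hnf
    have hp3 : p = 3 := by
      rcases hp23 with h | h
      · exact absurd h hp
      · exact h
    subst hp3
    haveI := hn
    exact false_of_sl23_section (h3 rfl) E _ e
  obtain ⟨x, hx, c, hc, n, hn, hg⟩ := hfac P g⁻¹
  rw [hO, Subgroup.mem_bot] at hx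
  refine ⟨n⁻¹, Subgroup.inv_mem _ hn, c⁻¹, ?_, ?_⟩
  · apply Subgroup.inv_mem
    refine Subgroup.centralizer_le ?_ hc
    intro z hz
    obtain ⟨hzP, hzc, hzp⟩ := hz
    apply Subgroup.subset_closure
    refine ⟨Subgroup.mem_inf.mpr ⟨hzP, ?_⟩, hzp⟩
    rw [Subgroup.mem_centralizer_iff]
    intro y hy
    exact (hzc y hy).symm
  · have : g = (g⁻¹)⁻¹ := (inv_inv g).symm
    rw [this, hg, hx]
    group

end Cfsg.Agent.S0109
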