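import Cfsg.Statements.S0110
import Mathlib
import Cfsg.Agent.Lib.Lead.FrattiniGen

set_option autoImplicit false
open Cfsg

namespace Cfsg.Agent.S0110

open scoped commutatorElement


/-- In a p-group G, an extraspecial subgroup E with [G, E] ≤ Z(E) satisfies G = E C_G(E). -/
theorem result {G : Type*} [Group G] [Finite G] {p : ℕ} [Fact p.Prime] (hG : IsPGroup p G) (E : Subgroup G) (hE : Cfsg.IsExtraspecial p E) (h : ⁅(⊤ : Subgroup G), E⁆ ≤ E ⊓ Subgroup.centralizer (E : Set G)) : E ⊔ Subgroup.centralizer (E : Set G) = ⊤ := by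
  classical
  obtain ⟨⟨hsp, hfr, hcomm⟩, hcard⟩ := hE
  -- the index of the centre of E
  obtain ⟨a, ha⟩ := (IsPGroup.iff_card).1 hsp
  have hp := (Fact.out : p.Prime)
  have hidx : ∃ k : ℕ, (Subgroup.center E).index = p ^ k := by
    have h1 := Subgroup.card_mul_index (Subgroup.center E)
    rw [hcard, ha] at h1
    have ha1 : a ≠ 0 := by
      intro h0
      rw [h0, pow_zero] at h1
      have := Nat.eq_one_of_mul_eq_one_right h1
      exact hp.one_lt.ne' this
    refine ⟨a - 1, ?_⟩
    have h2 : p ^ a = p * p ^ (a - 1) := by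
      rw [← pow_succ']
      congr 1
      omega
    rw [h2] at h1
    exact Nat.eq_of_mul_eq_mul_left hp.pos h1
  obtain ⟨k, hk⟩ := hidx
  obtain ⟨y, hy⟩ := Cfsg.Agent.Lib.Lead.exists_generators_of_frattini_index (P := E) p k
    (by rw [hfr]; exact hk)
  -- commutator maps
  have hψmem : ∀ (e : E) (i : Fin k), e * y i * e⁻¹ * (y i)⁻¹ ∈ Subgroup.center E := by
    intro e i
    rw [← hcomm, commutator_def, ← commutatorElement_def]
    exact Subgroup.commutator_mem_commutator (Subgroup.mem_top e) (Subgroup.mem_top (y i))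
  let ψ0 : E → (Fin k → Subgroup.center E) := fun e i => ⟨e * y i * e⁻¹ * (y i)⁻¹, hψmem e i⟩
  -- elements commuting with all generators are central
  have hcentral : ∀ c : E, (∀ i, c * y i = y i * c) → c ∈ Subgroup.center E := by
    intro c hc
    have hle : (⊤ : Subgroup E) ≤ Subgroup.centralizer ({c} : Set E) := by
      rw [← hy, Subgroup.closure_le]
      rintro _ ⟨i, rfl⟩
      rw [SetLike.mem_coe, Subgroup.mem_centralizer_iff]
      intro h hh
      rw [Set.mem_singleton_iff] at hh
      subst hh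
      exact hc i
    rw [Subgroup.mem_center_iff]
    intro g
    have := hle (Subgroup.mem_top g)
    rw [Subgroup.mem_centralizer_iff] at this
    exact (this c (Set.mem_singleton c)).symm
  have hψ0_eq : ∀ e e' : E, ψ0 e = ψ0 e' ↔ e⁻¹ * e' ∈ Subgroup.center E := by
    intro e e'
    constructor
    · intro h
      apply hcentral
      intro i
      have h1 := congrArg (fun t : Fin k → Subgroup.center E => ((t i : Subgroup.center E) : E)) h
      simp only [ψ0] at h1
      have h2 : e * y i * e⁻¹ = e' * y i * e'⁻¹ := mul_right_cancel h1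
      calc e⁻¹ * e' * y i = e⁻¹ * (e' * y i * e'⁻¹) * e' := by group
        _ = e⁻¹ * (e * y i * e⁻¹) * e' := by rw [h2]
        _ = y i * (e⁻¹ * e') := by group
    · intro h
      funext i
      apply Subtype.ext
      simp only [ψ0]
      have h1 := Subgroup.mem_center_iff.1 h (y i)
      have h2 : e' = e * (e⁻¹ * e') := by group
      rw [h2]
      calc e * y i * e⁻¹ * (y i)⁻¹ = e * (y i * (e⁻¹ * e')) * (e⁻¹ * e')⁻¹ * e⁻¹ * (y i)⁻¹ := by group
        _ = e * ((e⁻¹ * e') * y i) * (e⁻¹ * e')⁻¹ * e⁻¹ * (y i)⁻¹ := by rw [h1]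
        _ = e * (e⁻¹ * e') * y i * (e * (e⁻¹ * e'))⁻¹ * (y i)⁻¹ := by group
  let ψ : E ⧸ Subgroup.center E → (Fin k → Subgroup.center E) :=
    Quotient.lift ψ0 (fun e e' hee' => (hψ0_eq e e').2 (QuotientGroup.leftRel_apply.1 hee'))
  have hψinj : Function.Injective ψ := by
    intro q q'
    induction q using Quotient.inductionOn with | _ e => ?_
    induction q' using Quotient.inductionOn with | _ e' => ?_
    intro h
    apply Quotient.sound
    exact QuotientGroup.leftRel_apply.2 ((hψ0_eq e e').1 h)
  have hψsurj : Function.Surjective ψ := by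
    have hcards : Nat.card (Fin k → Subgroup.center E) ≤ Nat.card (E ⧸ Subgroup.center E) := by
      rw [Nat.card_fun, hcard, Nat.card_eq_fintype_card, Fintype.card_fin,
        ← Subgroup.index_eq_card, hk]
    exact (Function.Injective.bijective_of_nat_card_le hψinj hcards).2
  -- now take g in G
  rw [eq_top_iff]
  intro g _
  have hgmem : ∀ i : Fin k, g * (y i : G) * g⁻¹ * (y i : G)⁻¹ ∈
      E ⊓ Subgroup.centralizer (E : Set G) := by
    intro i
    apply h
    rw [← commutatorElement_def]
    exact Subgroup.commutator_mem_commutator (Subgroup.mem_top g) (y i).2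
  let Φ : Fin k → Subgroup.center E := fun i =>
    ⟨⟨g * (y i : G) * g⁻¹ * (y i : G)⁻¹, (hgmem i).1⟩, by
      rw [Subgroup.mem_center_iff]
      intro x
      apply Subtype.ext
      have := Subgroup.mem_centralizer_iff.1 (hgmem i).2 x x.2
      exact this⟩
  obtain ⟨q, hq⟩ := hψsurj Φ
  induction q using Quotient.inductionOn with | _ e => ?_
  have hcomm2 : ∀ i : Fin k, ((e : G)⁻¹ * g) * (y i : G) = (y i : G) * ((e : G)⁻¹ * g) := by
    intro i
    have h1 := congrArg (fun t : Fin k → Subgroup.center E => (((t i : Subgroup.center E) : E) : G)) hq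
    have h2 : (e : G) * (y i : G) * (e : G)⁻¹ * (y i : G)⁻¹ =
        g * (y i : G) * g⁻¹ * (y i : G)⁻¹ := h1
    have h3 : (e : G) * (y i : G) * (e : G)⁻¹ = g * (y i : G) * g⁻¹ := mul_right_cancel h2
    calc ((e : G)⁻¹ * g) * (y i : G) = (e : G)⁻¹ * (g * (y i : G) * g⁻¹) * g := by group
      _ = (e : G)⁻¹ * ((e : G) * (y i : G) * (e : G)⁻¹) * g := by rw [h3]
      _ = (y i : G) * ((e : G)⁻¹ * g) := by group
  have hgen : ∀ c : G, (∀ i : Fin k, c * (y i : G) = (y i : G) * c) →
      c ∈ Subgroup.centralizer (E : Set G) := by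
    intro c hc
    have hEmap : (Subgroup.closure (Set.range y)).map E.subtype = E := by
      rw [hy, ← MonoidHom.range_eq_map, Subgroup.range_subtype]
    have hsub : Subgroup.closure (E.subtype '' Set.range y) ≤
        Subgroup.centralizer ({c} : Set G) := by
      rw [Subgroup.closure_le]
      rintro _ ⟨_, ⟨i, rfl⟩, rfl⟩
      rw [SetLike.mem_coe, Subgroup.mem_centralizer_iff]
      intro h' hh
      rw [Set.mem_singleton_iff] at hh
      subst hh
      exact hc i
    rw [Subgroup.mem_centralizer_iff]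
    intro x hx
    rw [← hEmap, MonoidHom.map_closure] at hx
    have := hsub hx
    rw [Subgroup.mem_centralizer_iff] at this
    exact (this _ (Set.mem_singleton _)).symm
  have hcent : (e : G)⁻¹ * g ∈ Subgroup.centralizer (E : Set G) := hgen _ hcomm2
  have hg : g = (e : G) * ((e : G)⁻¹ * g) := by group
  rw [hg]
  exact Subgroup.mul_mem_sup e.2 hcent

end Cfsg.Agent.S0110
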