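import Cfsg.Statements.S0112
import Cfsg.Agent.Lib.Helper4.Hall

set_option autoImplicit false
open Cfsg

namespace Cfsg.Agent.S0112


open Cfsg.Agent.Lib.Helper4

theorem center_le' {X : Type*} [Group X] (A : Subgroup X)
    (hC : Subgroup.centralizer (A : Set X) = A) : Subgroup.center X ≤ A := by
  rw [← hC]; exact Subgroup.center_le_centralizer _

theorem card_center' {X : Type*} [Group X] [Finite X] {p : ℕ} [hp : Fact p.Prime]
    (n : ℕ) (hn : 3 ≤ n) (hX : Nat.card X = p ^ n) (A : Subgroup X)
    (hA : Nat.card A = p ^ 2) (hC : Subgroup.centralizer (A : Set X) = A) :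
    Nat.card (Subgroup.center X) = p := by
  have hXp : IsPGroup p X := IsPGroup.of_card hX
  have hZA := center_le' A hC
  have hdvd : Nat.card (Subgroup.center X) ∣ p ^ 2 := hA ▸ Subgroup.card_dvd_of_le hZA
  obtain ⟨k, hk2, hk⟩ := (Nat.dvd_prime_pow hp.out).1 hdvd
  haveI hnt : Nontrivial X := by
    rw [← Finite.one_lt_card_iff_nontrivial, hX]
    exact Nat.one_lt_pow (by omega) hp.out.one_lt
  haveI hZnt : Nontrivial (Subgroup.center X) := hXp.center_nontrivial
  have h1 : 1 < Nat.card (Subgroup.center X) := Finite.one_lt_card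
  have hk0 : k ≠ 0 := by
    rintro rfl
    rw [hk] at h1; simp at h1
  have hk2' : k ≠ 2 := by
    rintro rfl
    have hZeqA : Subgroup.center X = A :=
      Subgroup.eq_of_le_of_card_ge hZA (by rw [hk, hA])
    have htop : Subgroup.centralizer (A : Set X) = ⊤ := by
      rw [Subgroup.centralizer_eq_top_iff_subset, ← hZeqA]
    rw [hC] at htop
    rw [htop, Subgroup.card_top, hX] at hA
    have := Nat.pow_right_injective hp.out.two_le hA
    omega
  have : k = 1 := by omega
  rw [hk, this, pow_one]

theorem centralizer_singleton_le {X : Type*} [Group X] [Finite X] {p : ℕ} [hp : Fact p.Prime]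
    (A : Subgroup X) (hA : Nat.card A = p ^ 2) (hC : Subgroup.centralizer (A : Set X) = A)
    (hZ : Nat.card (Subgroup.center X) = p) (a : X) (haA : a ∈ A) (haZ : a ∉ Subgroup.center X)
    (x : X) (hx : x * a = a * x) : x ∈ A := by
  have hZA := center_le' A hC
  set T : Subgroup X := Subgroup.zpowers a ⊔ Subgroup.center X with hT
  have hTA : T ≤ A := sup_le (Subgroup.zpowers_le.2 haA) hZA
  have hZT : Subgroup.center X < T := by
    apply lt_of_le_of_ne le_sup_right
    intro h
    apply haZ
    rw [h]
    exact (le_sup_left : Subgroup.zpowers a ≤ T) (Subgroup.mem_zpowers a)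
  have hcardT : Nat.card T = p ^ 2 := by
    have hdvd : Nat.card T ∣ p ^ 2 := hA ▸ Subgroup.card_dvd_of_le hTA
    obtain ⟨k, hk2, hk⟩ := (Nat.dvd_prime_pow hp.out).1 hdvd
    have hlt : Nat.card (Subgroup.center X) < Nat.card T := by
      rcases (Subgroup.card_le_of_le hZT.le).lt_or_eq with h | h
      · exact h
      · exact absurd (Subgroup.eq_of_le_of_card_ge hZT.le h.ge) hZT.ne
    rw [hZ, hk] at hlt
    have : 1 < k := by
      by_contra hcon
      push Not at hcon
      have : p ^ k ≤ p ^ 1 := Nat.pow_le_pow_right hp.out.pos hcon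
      rw [pow_one] at this
      omega
    have : k = 2 := by omega
    rw [hk, this]
  have hTeq : T = A := Subgroup.eq_of_le_of_card_ge hTA (by rw [hcardT, hA])
  rw [← hC, ← hTeq]
  have hle : T ≤ Subgroup.centralizer ({x} : Set X) := by
    apply sup_le
    · rw [Subgroup.zpowers_le, Subgroup.mem_centralizer_iff]
      intro h hh
      rw [Set.mem_singleton_iff] at hh
      rw [hh]; exact hx
    · exact Subgroup.center_le_centralizer _
  rw [Subgroup.mem_centralizer_iff]
  intro t ht
  have := (Subgroup.mem_centralizer_iff.1 (hle ht)) x rfl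
  exact this.symm

/-- The commutator-with-`a` homomorphism on elements commuting with `a` modulo the centre. -/
def commHom {X : Type*} [Group X] (B : Subgroup X) (a : X)
    (h : ∀ x ∈ B, x * a * x⁻¹ * a⁻¹ ∈ Subgroup.center X) : B →* Subgroup.center X where
  toFun x := ⟨(x : X) * a * (x : X)⁻¹ * a⁻¹, h x x.2⟩
  map_one' := by
    apply Subtype.ext
    simp
  map_mul' := by
    intro x y
    apply Subtype.ext
    have hc := h y y.2
    rw [Subgroup.mem_center_iff] at hc
    show ((x : X) * (y : X)) * a * ((x : X) * (y : X))⁻¹ * a⁻¹ =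
      ((x : X) * a * (x : X)⁻¹ * a⁻¹) * ((y : X) * a * (y : X)⁻¹ * a⁻¹)
    have h1 : ((x : X) * (y : X)) * a * ((x : X) * (y : X))⁻¹ * a⁻¹ =
        (x : X) * ((y : X) * a * (y : X)⁻¹ * a⁻¹) * a * (x : X)⁻¹ * a⁻¹ := by group
    rw [h1, hc (x : X)]
    have h2 := hc ((x : X) * a * (x : X)⁻¹ * a⁻¹)
    rw [h2]
    group

theorem main.{u} {p : ℕ} [hp : Fact p.Prime] : ∀ (n : ℕ) (X : Type u) [Group X] [Finite X],
    Nat.card X = p ^ n → ∀ A : Subgroup X, Nat.card A = p ^ 2 →
    Subgroup.centralizer (A : Set X) = A → Group.nilpotencyClass X = n - 1 := by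
  intro n
  induction n with
  | zero =>
    intro X _ _ hX A hA hC
    exfalso
    have h1 : Nat.card A ∣ Nat.card X := Subgroup.card_subgroup_dvd_card A
    rw [hX, hA, pow_zero, Nat.dvd_one] at h1
    have := Nat.one_lt_pow (n := 2) (by omega) hp.out.one_lt
    omega
  | succ m ih =>
    intro X _ _ hX A hA hC
    have hXp : IsPGroup p X := IsPGroup.of_card hX
    haveI : Group.IsNilpotent X := hXp.isNilpotent
    haveI hnt : Nontrivial X := by
      rw [← Finite.one_lt_card_iff_nontrivial, hX]
      exact Nat.one_lt_pow (by omega) hp.out.one_lt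
    have hm1 : 2 ≤ m + 1 := by
      have h1 : Nat.card A ∣ Nat.card X := Subgroup.card_subgroup_dvd_card A
      rw [hX, hA] at h1
      exact (Nat.pow_dvd_pow_iff_le_right hp.out.one_lt).1 h1
    rw [Group.nilpotencyClass_eq_quotient_center_plus_one]
    have hAcomm : ∀ a ∈ A, ∀ b ∈ A, a * b = b * a := by
      intro a ha b hb
      have : b ∈ Subgroup.centralizer (A : Set X) := by rw [hC]; exact hb
      exact (Subgroup.mem_centralizer_iff.1 this) a ha
    by_cases hm2 : m + 1 = 2
    · -- X = A is abelian
      have hAtop : A = ⊤ := by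
        rw [← Subgroup.card_eq_iff_eq_top, hA, hX, hm2]
      have hcen : Subgroup.center X = ⊤ := by
        rw [eq_top_iff]
        intro x _
        rw [Subgroup.mem_center_iff]
        intro g
        exact hAcomm g (by rw [hAtop]; trivial) x (by rw [hAtop]; trivial)
      have hsub : Subsingleton (X ⧸ Subgroup.center X) := by
        rw [hcen]; exact QuotientGroup.subsingleton_quotient_top
      rw [Group.nilpotencyClass_zero_iff_subsingleton.2 hsub]
      omega
    · have hn3 : 3 ≤ m + 1 := by omega
      have hZ := card_center' (m + 1) hn3 hX A hA hC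
      have hZA := center_le' A hC
      set Z := Subgroup.center X with hZdef
      -- the quotient
      have hcardQ : Nat.card (X ⧸ Z) = p ^ m := by
        have := Subgroup.card_eq_card_quotient_mul_card_subgroup Z
        rw [hX, hZ, pow_succ] at this
        exact (Nat.eq_of_mul_eq_mul_right hp.out.pos this).symm
      have hQp : IsPGroup p (X ⧸ Z) := IsPGroup.of_card hcardQ
      set Ab : Subgroup (X ⧸ Z) := A.map (QuotientGroup.mk' Z) with hAb
      have hcardAb : Nat.card Ab = p := by
        have := card_sup_normal_eq Z A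
        rw [sup_eq_left.2 hZA, hA, hZ, pow_two] at this
        exact (Nat.eq_of_mul_eq_mul_right hp.out.pos this).symm
      set Bb : Subgroup (X ⧸ Z) := Subgroup.centralizer (Ab : Set (X ⧸ Z)) with hBb
      have hAbBb : Ab ≤ Bb := by
        intro u hu
        rw [hBb, Subgroup.mem_centralizer_iff]
        intro h hh
        obtain ⟨a, ha, rfl⟩ := Subgroup.mem_map.1 hu
        obtain ⟨a', ha', rfl⟩ := Subgroup.mem_map.1 hh
        rw [← map_mul, ← map_mul, hAcomm a' ha' a ha]
      set B : Subgroup X := Bb.comap (QuotientGroup.mk' Z) with hB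
      have hAB : A ≤ B := by
        intro a ha
        rw [hB, Subgroup.mem_comap]
        exact hAbBb (Subgroup.mem_map_of_mem _ ha)
      -- choose a ∈ A \ Z
      have hexa : ∃ a ∈ A, a ∉ Z := by
        by_contra hcon
        push Not at hcon
        have : A ≤ Z := hcon
        have := Subgroup.card_le_of_le this
        rw [hA, hZ, pow_two] at this
        have h2 := hp.out.two_le
        nlinarith
      obtain ⟨a, haA, haZ⟩ := hexa
      have hcommZ : ∀ x ∈ B, x * a * x⁻¹ * a⁻¹ ∈ Subgroup.center X := by
        intro x hx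
        rw [hB, Subgroup.mem_comap, hBb, Subgroup.mem_centralizer_iff] at hx
        have h1 := hx _ (Subgroup.mem_map_of_mem (QuotientGroup.mk' Z) haA)
        rw [← QuotientGroup.eq_one_iff]
        have h2 : ((x * a * x⁻¹ * a⁻¹ : X) : X ⧸ Z) =
            (QuotientGroup.mk' Z x) * (QuotientGroup.mk' Z a) * (QuotientGroup.mk' Z x)⁻¹ *
              (QuotientGroup.mk' Z a)⁻¹ := by
          simp
        rw [h2, ← h1]
        group
      set ψ := commHom B a hcommZ with hψ
      have hker : ψ.ker ≤ A.subgroupOf B := by
        intro x hx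
        rw [MonoidHom.mem_ker] at hx
        have h1 : (x : X) * a * (x : X)⁻¹ * a⁻¹ = 1 := congrArg Subtype.val hx
        rw [Subgroup.mem_subgroupOf]
        apply centralizer_singleton_le A hA hC hZ a haA haZ
        have h2 : (x : X) * a = ((x : X) * a * (x : X)⁻¹ * a⁻¹) * (a * (x : X)) := by group
        rw [h2, h1, one_mul]
      have hcardker : Nat.card ψ.ker ∣ p ^ 2 := by
        have h1 := Subgroup.card_dvd_of_le hker
        have h2 : Nat.card (A.subgroupOf B) = Nat.card A :=
          Nat.card_congr (Subgroup.subgroupOfEquivOfLe hAB).toEquiv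
        rwa [h2, hA] at h1
      have hcardrange : Nat.card ψ.range ∣ p := by
        have := Subgroup.card_subgroup_dvd_card ψ.range
        rwa [hZ] at this
      have hcardB : Nat.card B ∣ p ^ 3 := by
        have h1 := Subgroup.card_mul_index ψ.ker
        rw [Subgroup.index_ker] at h1
        rw [← h1, pow_succ]
        exact Nat.mul_dvd_mul hcardker hcardrange
      have hcardB' : Nat.card B = Nat.card Bb * p := by
        rw [hB, card_comap_mk_quot, hZ]
      have hcardBb_dvd : Nat.card Bb ∣ p ^ 2 := by
        rw [hcardB', pow_succ] at hcardB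
        exact Nat.dvd_of_mul_dvd_mul_right hp.out.pos hcardB
      obtain ⟨j, hj2, hj⟩ := (Nat.dvd_prime_pow hp.out).1 hcardBb_dvd
      have hj2' : j = 2 := by
        by_contra hjne
        have hj1 : j ≤ 1 := by omega
        have hle : Nat.card Bb ≤ Nat.card Ab := by
          rw [hj, hcardAb]
          calc p ^ j ≤ p ^ 1 := Nat.pow_le_pow_right hp.out.pos hj1
            _ = p := pow_one p
        have hBA : Ab = Bb := Subgroup.eq_of_le_of_card_ge hAbBb hle
        -- centre of the quotient lies in Bb = Ab
        haveI hntQ : Nontrivial (X ⧸ Z) := by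
          rw [← Finite.one_lt_card_iff_nontrivial, hcardQ]
          exact Nat.one_lt_pow (by omega) hp.out.one_lt
        haveI := hQp.center_nontrivial
        have hcen_le : Subgroup.center (X ⧸ Z) ≤ Ab := by
          rw [hBA, hBb]; exact Subgroup.center_le_centralizer _
        have h1 : 1 < Nat.card (Subgroup.center (X ⧸ Z)) := Finite.one_lt_card
        have hdvd := Subgroup.card_dvd_of_le hcen_le
        rw [hcardAb] at hdvd
        have hcp : Nat.card (Subgroup.center (X ⧸ Z)) = p := by
          rcases (Nat.dvd_prime hp.out).1 hdvd with h | h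
          · omega
          · exact h
        have hcenAb : Subgroup.center (X ⧸ Z) = Ab :=
          Subgroup.eq_of_le_of_card_ge hcen_le (by rw [hcp, hcardAb])
        have htop : Bb = ⊤ := by
          rw [hBb, Subgroup.centralizer_eq_top_iff_subset, ← hcenAb]
        rw [htop, Subgroup.card_top, hcardQ] at hj
        have := Nat.pow_right_injective hp.out.two_le hj
        omega
      rw [hj2'] at hj
      -- Bb is self-centralizing
      have hBbcomm : ∀ a b : Bb, a * b = b * a := IsPGroup.commutative_of_card_eq_prime_sq hj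
      have hCB : Subgroup.centralizer (Bb : Set (X ⧸ Z)) = Bb := by
        apply le_antisymm
        · calc Subgroup.centralizer (Bb : Set (X ⧸ Z))
              ≤ Subgroup.centralizer (Ab : Set (X ⧸ Z)) := Subgroup.centralizer_le hAbBb
            _ = Bb := rfl
        · intro u hu
          rw [Subgroup.mem_centralizer_iff]
          intro h hh
          exact congrArg Subtype.val (hBbcomm ⟨h, hh⟩ ⟨u, hu⟩)
      have := ih (X ⧸ Z) hcardQ Bb hj hCB
      rw [this]
      omega

/-- A p-group with a self-centralizing subgroup of order p^2 is of maximal class. -/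
theorem result {X : Type*} [Group X] [Finite X] {p : ℕ} [Fact p.Prime] (n : ℕ) (hX : Nat.card X = p ^ n) (A : Subgroup X) (hA : Nat.card A = p ^ 2) (hC : Subgroup.centralizer (A : Set X) = A) : Group.nilpotencyClass X = n - 1 := by
  exact main n X hX A hA hC

end Cfsg.Agent.S0112
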