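import Cfsg.Statements.S0115
import Mathlib
import Cfsg.Agent.Lib.Helper6.MaxClass2

set_option autoImplicit false
open Cfsg Cfsg.Agent.Lib.Helper6

namespace Cfsg.Agent.S0115

/-- A 2-group of order 2^n, n ≥ 3, is of maximal class exactly when its commutator quotient is a Klein four-group. -/
theorem result {X : Type*} [Group X] [Finite X] (n : ℕ) (hn : 3 ≤ n) (hX : Nat.card X = 2 ^ n) : Group.nilpotencyClass X = n - 1 ↔ IsKleinFour (X ⧸ commutator X) := by
  rw [isKleinFour_quotient_iff]
  constructor
  · intro hc
    have hcyc : ¬ IsCyclic X := fun h =>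
      not_comm_of_maxClass (p := 2) n hn hX hc IsCyclic.isMulCommutative
    exact kf_of_maxClass n (by omega) X hX hc hcyc
  · rintro ⟨h4, _⟩
    exact maxClass_of_index_four n (by omega) X hX h4

end Cfsg.Agent.S0115
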