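import Cfsg.Statements.S0116
import Mathlib
import Cfsg.Agent.Lib.Helper4.ConjSub
import Cfsg.Agent.Lib.Helper4.HallConv
import Cfsg.Agent.Lib.Helper4.Schmidt
import Cfsg.Agent.Lib.Helper4.SZ
import Cfsg.Agent.Lib.Helper4.CoprimeAct

set_option autoImplicit false
open Cfsg

namespace Cfsg.Agent.S0116

open Cfsg.Agent.Lib.Helper4

section
variable {G : Type*} [Group G]

/-- the set `x⁻¹ A x` -/
def conjSet (x : G) (A : Set G) : Set G := (fun a => x⁻¹ * a * x) '' A

theorem mem_conjSet (x : G) (A : Set G) (b : G) : b ∈ conjSet x A ↔ x * b * x⁻¹ ∈ A := by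
  constructor
  · rintro ⟨a, ha, rfl⟩
    have : x * (x⁻¹ * a * x) * x⁻¹ = a := by group
    rw [this]; exact ha
  · intro h
    exact ⟨x * b * x⁻¹, h, by group⟩

theorem conjSet_one (A : Set G) : conjSet 1 A = A := by
  ext b; simp [mem_conjSet]

theorem conjSet_mul (x y : G) (A : Set G) : conjSet (x * y) A = conjSet y (conjSet x A) := by
  ext b
  simp only [mem_conjSet]
  have : x * y * b * (x * y)⁻¹ = x * (y * b * y⁻¹) * x⁻¹ := by group
  rw [this]

theorem conjSet_mono (x : G) {A B : Set G} (h : A ⊆ B) : conjSet x A ⊆ conjSet x B :=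
  Set.image_mono h

theorem conjSet_coe (x : G) (H : Subgroup G) :
    conjSet x (H : Set G) = ((cj x⁻¹ H : Subgroup G) : Set G) := by
  ext b
  rw [mem_conjSet, SetLike.mem_coe, SetLike.mem_coe, mem_cj_iff, inv_inv]

theorem not_dvd_relIndex_of_le {p : ℕ} {A B C : Subgroup G} (hAB : A ≤ B) (hBC : B ≤ C)
    (h : ¬ p ∣ A.relIndex C) : ¬ p ∣ B.relIndex C := by
  intro hd
  apply h
  rw [← Subgroup.relIndex_mul_relIndex A B C hAB hBC]
  exact dvd_mul_of_dvd_right hd _

variable {p : ℕ} [Fact p.Prime]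

/-- tame intersection -/
def Tame (P Q : Sylow p G) : Prop :=
  (¬ p ∣ ((P : Subgroup G) ⊓ Subgroup.normalizer ((((P : Subgroup G) ⊓ (Q : Subgroup G)) : Subgroup G) : Set G)).relIndex (Subgroup.normalizer ((((P : Subgroup G) ⊓ (Q : Subgroup G)) : Subgroup G) : Set G))) ∧
  (¬ p ∣ ((Q : Subgroup G) ⊓ Subgroup.normalizer ((((P : Subgroup G) ⊓ (Q : Subgroup G)) : Subgroup G) : Set G)).relIndex (Subgroup.normalizer ((((P : Subgroup G) ⊓ (Q : Subgroup G)) : Subgroup G) : Set G)))

/-- chains of tame intersections carrying a set along -/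
def Chain (P : Sylow p G) : List (Sylow p G × G) → Set G → Prop
  | [], _ => True
  | qx :: l, A =>
    (qx.2 ∈ Subgroup.normalizer ((((P : Subgroup G) ⊓ (qx.1 : Subgroup G)) : Subgroup G) : Set G) ∧
      Tame P qx.1) ∧
    A ⊆ (((P : Subgroup G) ⊓ (qx.1 : Subgroup G) : Subgroup G) : Set G) ∧
    Chain P l (conjSet qx.2 A)

/-- product of the conjugating elements -/
def lprod (l : List (Sylow p G × G)) : G := (l.map Prod.snd).prod

theorem lprod_nil : lprod ([] : List (Sylow p G × G)) = 1 := rfl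

theorem lprod_cons (qx : Sylow p G × G) (l : List (Sylow p G × G)) :
    lprod (qx :: l) = qx.2 * lprod l := by
  simp [lprod]

theorem lprod_append (l₁ l₂ : List (Sylow p G × G)) :
    lprod (l₁ ++ l₂) = lprod l₁ * lprod l₂ := by
  simp [lprod]

theorem chain_mono (P : Sylow p G) : ∀ (l : List (Sylow p G × G)) (A A' : Set G),
    A' ⊆ A → Chain P l A → Chain P l A' := by
  intro l
  induction l with
  | nil => intro A A' _ _; trivial
  | cons qx l ih =>
    intro A A' hAA h
    exact ⟨h.1, hAA.trans h.2.1, ih _ _ (conjSet_mono _ hAA) h.2.2⟩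

theorem chain_append (P : Sylow p G) : ∀ (l₁ l₂ : List (Sylow p G × G)) (A : Set G),
    Chain P l₁ A → Chain P l₂ (conjSet (lprod l₁) A) → Chain P (l₁ ++ l₂) A := by
  intro l₁
  induction l₁ with
  | nil =>
    intro l₂ A _ h2
    rw [lprod_nil, conjSet_one] at h2
    exact h2
  | cons qx l ih =>
    intro l₂ A h1 h2
    refine ⟨h1.1, h1.2.1, ?_⟩
    apply ih l₂ _ h1.2.2
    rw [lprod_cons, conjSet_mul] at h2
    exact h2

/-- the statement proved by induction -/
def Claim (P Q : Sylow p G) : Prop :=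
  ∃ l : List (Sylow p G × G),
    Chain P l ((((P : Subgroup G) ⊓ (Q : Subgroup G)) : Subgroup G) : Set G) ∧
    cj (lprod l)⁻¹ (Q : Subgroup G) = (P : Subgroup G)

theorem claim_compose (P Q Q' : Sylow p G) (l₀ : List (Sylow p G × G))
    (hchain : Chain P l₀ ((((P : Subgroup G) ⊓ (Q : Subgroup G)) : Subgroup G) : Set G))
    (hcarry : cj (lprod l₀)⁻¹ ((P : Subgroup G) ⊓ (Q : Subgroup G)) ≤ (P : Subgroup G))
    (hQ' : (Q' : Subgroup G) = cj (lprod l₀)⁻¹ (Q : Subgroup G))
    (h : Claim P Q') : Claim P Q := by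
  obtain ⟨l', hl', hP⟩ := h
  refine ⟨l₀ ++ l', ?_, ?_⟩
  · apply chain_append P l₀ l' _ hchain
    apply chain_mono P l' _ _ _ hl'
    rw [conjSet_coe]
    intro b hb
    exact ⟨hcarry hb, by rw [hQ']; exact cj_mono _ inf_le_right hb⟩
  · rw [lprod_append, mul_inv_rev, cj_mul, ← hQ', hP]

end

section
variable {G : Type*} [Group G] [Finite G] {p : ℕ} [Fact p.Prime]

theorem card_sylow_eq (P Q : Sylow p G) : Nat.card (Q : Subgroup G) = Nat.card (P : Subgroup G) := by
  rw [Sylow.card_eq_multiplicity, Sylow.card_eq_multiplicity]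

/-- a `p`-subgroup of `K` can be conjugated by an element of `K` into a subgroup of `K` of
index prime to `p` in `K`. -/
theorem exists_rel_conj (K S X : Subgroup G) (hSK : S ≤ K) (hXK : X ≤ K) (hX : IsPGroup p X)
    (hS : ¬ p ∣ S.relIndex K) : ∃ u ∈ K, ∀ q ∈ X, u⁻¹ * q * u ∈ S := by
  have hX' : IsPGroup p (X.subgroupOf K) := hX.comap_subtype
  obtain ⟨g, hg⟩ := exists_conj_mem_of_not_dvd_index p (S.subgroupOf K) (X.subgroupOf K) hX' hS
  refine ⟨g.1, g.2, ?_⟩
  intro q hq
  have := hg ⟨q, hXK hq⟩ (by rw [Subgroup.mem_subgroupOf]; exact hq)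
  rw [Subgroup.mem_subgroupOf] at this
  simpa using this

/-- a `p`-subgroup of `K` lies in a `p`-subgroup of `K` of index prime to `p` in `K`. -/
theorem exists_rel_sylow (K X : Subgroup G) (hXK : X ≤ K) (hX : IsPGroup p X) :
    ∃ S : Subgroup G, S ≤ K ∧ X ≤ S ∧ IsPGroup p S ∧ ¬ p ∣ S.relIndex K := by
  have hX' : IsPGroup p (X.subgroupOf K) := hX.comap_subtype
  obtain ⟨R', hR'⟩ := hX'.exists_le_sylow
  refine ⟨(R' : Subgroup K).map K.subtype, ?_, ?_, R'.2.map _, ?_⟩
  · rintro _ ⟨x, _, rfl⟩; exact x.2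
  · intro m hm
    exact ⟨⟨m, hXK hm⟩, hR' (by rw [Subgroup.mem_subgroupOf]; exact hm), rfl⟩
  · have : ((R' : Subgroup K).map K.subtype).subgroupOf K = (R' : Subgroup K) :=
      Subgroup.comap_map_eq_self_of_injective (Subgroup.subtype_injective K) _
    rw [Subgroup.relIndex, this]
    exact R'.not_dvd_index

theorem step2 (P Q : Sylow p G)
    (hlt : Nat.card ((P : Subgroup G) ⊓ (Q : Subgroup G) : Subgroup G) < Nat.card (P : Subgroup G))
    (IH : ∀ R : Sylow p G, Nat.card ((P : Subgroup G) ⊓ (Q : Subgroup G) : Subgroup G)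
      < Nat.card ((P : Subgroup G) ⊓ (R : Subgroup G) : Subgroup G) → Claim P R)
    (hT : ¬ p ∣ ((P : Subgroup G) ⊓ Subgroup.normalizer ((((P : Subgroup G) ⊓ (Q : Subgroup G)) : Subgroup G) : Set G)).relIndex (Subgroup.normalizer ((((P : Subgroup G) ⊓ (Q : Subgroup G)) : Subgroup G) : Set G))) :
    Claim P Q := by
  obtain ⟨D, hD⟩ : ∃ D : Subgroup G, D = (P : Subgroup G) ⊓ (Q : Subgroup G) := ⟨_, rfl⟩
  rw [← hD] at hlt IH hT
  obtain ⟨K, hK⟩ : ∃ K : Subgroup G, K = Subgroup.normalizer (D : Set G) := ⟨_, rfl⟩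
  rw [← hK] at hT
  have hDP : D ≤ (P : Subgroup G) := by rw [hD]; exact inf_le_left
  have hDQ : D ≤ (Q : Subgroup G) := by rw [hD]; exact inf_le_right
  have hDK : D ≤ K := by rw [hK]; exact Subgroup.le_normalizer
  have hDltQ : D < (Q : Subgroup G) := by
    refine lt_of_le_of_ne hDQ ?_
    intro h
    rw [h, card_sylow_eq P Q] at hlt
    exact lt_irrefl _ hlt
  haveI : Group.IsNilpotent (Q : Subgroup G) := Q.isPGroup'.isNilpotent
  have hNQ : D < (Q : Subgroup G) ⊓ K := by
    rw [hK]; exact lt_inf_normalizer_of_lt_nil (Q : Subgroup G) inferInstance D hDltQ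
  have hNQp : IsPGroup p ((Q : Subgroup G) ⊓ K : Subgroup G) := Q.isPGroup'.to_le inf_le_left
  obtain ⟨u, huK, hu⟩ := exists_rel_conj K ((P : Subgroup G) ⊓ K) ((Q : Subgroup G) ⊓ K)
    inf_le_right inf_le_right hNQp hT
  have huinvK : u⁻¹ ∈ K := K.inv_mem huK
  have hcjK : cj u K = K := cj_self_of_mem' huK
  have hcjinvK : cj u⁻¹ K = K := cj_self_of_mem' huinvK
  have hcjD : cj u⁻¹ D = D := by
    apply cj_eq_of_mem_normalizer
    rw [← hK]; exact huinvK
  -- R = u P u⁻¹
  obtain ⟨R, hR⟩ : ∃ R : Sylow p G, (R : Subgroup G) = cj u (P : Subgroup G) :=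
    ⟨u • P, sylow_smul_eq_cj u P⟩
  have hNQT : (Q : Subgroup G) ⊓ K ≤ cj u ((P : Subgroup G) ⊓ K) := by
    intro q hq
    rw [mem_cj_iff]
    exact hu q hq
  have hT1R : cj u ((P : Subgroup G) ⊓ K) ≤ (R : Subgroup G) := by
    rw [hR]; exact cj_mono u inf_le_left
  have hT1K : cj u ((P : Subgroup G) ⊓ K) ≤ K := by
    calc cj u ((P : Subgroup G) ⊓ K) ≤ cj u K := cj_mono u inf_le_right
      _ = K := hcjK
  have hNQR : (Q : Subgroup G) ⊓ K ≤ (R : Subgroup G) := hNQT.trans hT1R
  have hDR : D ≤ (R : Subgroup G) := hNQ.le.trans hNQR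
  have hDPR : D ≤ (P : Subgroup G) ⊓ (R : Subgroup G) := le_inf hDP hDR
  have hcardNQ : Nat.card D < Nat.card ((Q : Subgroup G) ⊓ K : Subgroup G) :=
    card_lt_card_of_lt hNQ
  by_cases hcase : Nat.card D < Nat.card ((P : Subgroup G) ⊓ (R : Subgroup G) : Subgroup G)
  · -- case 2b
    obtain ⟨lR, hchR, hRP⟩ := IH R hcase
    obtain ⟨Q', hQ'⟩ : ∃ Q' : Sylow p G, (Q' : Subgroup G) = cj (lprod lR)⁻¹ (Q : Subgroup G) :=
      ⟨(lprod lR)⁻¹ • Q, sylow_smul_eq_cj _ Q⟩
    have hbig : Nat.card D < Nat.card ((P : Subgroup G) ⊓ (Q' : Subgroup G) : Subgroup G) := by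
      have h1 : cj (lprod lR)⁻¹ ((R : Subgroup G) ⊓ (Q : Subgroup G)) ≤
          (P : Subgroup G) ⊓ (Q' : Subgroup G) := by
        apply le_inf
        · rw [← hRP]; exact cj_mono _ inf_le_left
        · rw [hQ']; exact cj_mono _ inf_le_right
      have h2 := Subgroup.card_le_of_le h1
      rw [card_cj'] at h2
      have h3 : (Q : Subgroup G) ⊓ K ≤ (R : Subgroup G) ⊓ (Q : Subgroup G) :=
        le_inf hNQR inf_le_left
      have h4 := Subgroup.card_le_of_le h3
      omega
    have hcl := IH Q' hbig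
    refine claim_compose P Q Q' lR ?_ ?_ hQ' hcl
    · rw [← hD]
      exact chain_mono P lR _ _ (by exact_mod_cast hDPR) hchR
    · rw [← hD, ← hRP]
      exact cj_mono _ hDR
  · -- case 2a
    have hPR : (P : Subgroup G) ⊓ (R : Subgroup G) = D := by
      symm
      apply Subgroup.eq_of_le_of_card_ge hDPR
      omega
    obtain ⟨Q', hQ'⟩ : ∃ Q' : Sylow p G, (Q' : Subgroup G) = cj u⁻¹ (Q : Subgroup G) :=
      ⟨u⁻¹ • Q, sylow_smul_eq_cj _ Q⟩
    have hbig : Nat.card D < Nat.card ((P : Subgroup G) ⊓ (Q' : Subgroup G) : Subgroup G) := by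
      have h1 : cj u⁻¹ ((Q : Subgroup G) ⊓ K) ≤ (P : Subgroup G) ⊓ (Q' : Subgroup G) := by
        apply le_inf
        · intro x hx
          rw [mem_cj_iff, inv_inv] at hx
          have := hu _ hx
          have e : u⁻¹ * (u * x * u⁻¹) * u = x := by group
          rw [e] at this
          exact this.1
        · rw [hQ']; exact cj_mono _ inf_le_left
      have h2 := Subgroup.card_le_of_le h1
      rw [card_cj'] at h2
      omega
    have hcl := IH Q' hbig
    have htame : Tame P R := by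
      unfold Tame
      rw [hPR, ← hK]
      refine ⟨hT, ?_⟩
      have h1 : ¬ p ∣ (cj u ((P : Subgroup G) ⊓ K)).relIndex K := by
        have := cj_relIndex u ((P : Subgroup G) ⊓ K) K
        rw [hcjK] at this
        rw [this]; exact hT
      exact not_dvd_relIndex_of_le (le_inf hT1R hT1K) inf_le_right h1
    have hlp : lprod [(R, u)] = u := by simp [lprod]
    refine claim_compose P Q Q' [(R, u)] ?_ ?_ ?_ hcl
    · refine ⟨⟨?_, htame⟩, ?_, trivial⟩
      · show u ∈ Subgroup.normalizer ((((P : Subgroup G) ⊓ (R : Subgroup G)) : Subgroup G) : Set G)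
        rw [hPR, ← hK]; exact huK
      · show ((((P : Subgroup G) ⊓ (Q : Subgroup G)) : Subgroup G) : Set G) ⊆
          ((((P : Subgroup G) ⊓ (R : Subgroup G)) : Subgroup G) : Set G)
        rw [← hD, hPR]
    · rw [hlp, ← hD, hcjD]; exact hDP
    · rw [hlp]; exact hQ'

theorem main_claim (P : Sylow p G) : ∀ (m : ℕ) (Q : Sylow p G),
    Nat.card (P : Subgroup G) ≤ Nat.card ((P : Subgroup G) ⊓ (Q : Subgroup G) : Subgroup G) + m →
    Claim P Q := by
  intro m
  induction m with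
  | zero =>
    intro Q hQ
    have h1 : (P : Subgroup G) ⊓ (Q : Subgroup G) = (P : Subgroup G) :=
      Subgroup.eq_of_le_of_card_ge inf_le_left (by omega)
    have h2 : (P : Subgroup G) ≤ (Q : Subgroup G) := inf_eq_left.1 h1
    have h3 : (P : Subgroup G) = (Q : Subgroup G) :=
      Subgroup.eq_of_le_of_card_ge h2 (by rw [card_sylow_eq P Q])
    refine ⟨[], trivial, ?_⟩
    rw [lprod_nil, inv_one, cj_one, h3]
  | succ m ih =>
    intro Q hQ
    by_cases h1 : Nat.card (P : Subgroup G) ≤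
        Nat.card ((P : Subgroup G) ⊓ (Q : Subgroup G) : Subgroup G) + m
    · exact ih Q h1
    have hlt : Nat.card ((P : Subgroup G) ⊓ (Q : Subgroup G) : Subgroup G)
        < Nat.card (P : Subgroup G) := by omega
    have IH : ∀ R : Sylow p G, Nat.card ((P : Subgroup G) ⊓ (Q : Subgroup G) : Subgroup G)
        < Nat.card ((P : Subgroup G) ⊓ (R : Subgroup G) : Subgroup G) → Claim P R :=
      fun R hR => ih R (by omega)
    obtain ⟨D, hD⟩ : ∃ D : Subgroup G, D = (P : Subgroup G) ⊓ (Q : Subgroup G) := ⟨_, rfl⟩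
    obtain ⟨K, hK⟩ : ∃ K : Subgroup G, K = Subgroup.normalizer (D : Set G) := ⟨_, rfl⟩
    have hDP : D ≤ (P : Subgroup G) := by rw [hD]; exact inf_le_left
    have hDQ : D ≤ (Q : Subgroup G) := by rw [hD]; exact inf_le_right
    have hDltP : D < (P : Subgroup G) := by
      refine lt_of_le_of_ne hDP ?_
      intro h
      rw [← hD, h] at hlt
      exact lt_irrefl _ hlt
    haveI : Group.IsNilpotent (P : Subgroup G) := P.isPGroup'.isNilpotent
    have hNP : D < (P : Subgroup G) ⊓ K := by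
      rw [hK]; exact lt_inf_normalizer_of_lt_nil (P : Subgroup G) inferInstance D hDltP
    have hNPp : IsPGroup p ((P : Subgroup G) ⊓ K : Subgroup G) := P.isPGroup'.to_le inf_le_left
    obtain ⟨S₁, hS₁K, hNPS₁, hS₁p, hS₁idx⟩ :=
      exists_rel_sylow K ((P : Subgroup G) ⊓ K) inf_le_right hNPp
    obtain ⟨R, hS₁R⟩ := hS₁p.exists_le_sylow
    have hDR : D ≤ (R : Subgroup G) := hNP.le.trans (hNPS₁.trans hS₁R)
    have hcardNP : Nat.card D < Nat.card ((P : Subgroup G) ⊓ K : Subgroup G) :=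
      card_lt_card_of_lt hNP
    have hbigR : Nat.card ((P : Subgroup G) ⊓ (Q : Subgroup G) : Subgroup G)
        < Nat.card ((P : Subgroup G) ⊓ (R : Subgroup G) : Subgroup G) := by
      have h1 : (P : Subgroup G) ⊓ K ≤ (P : Subgroup G) ⊓ (R : Subgroup G) :=
        le_inf inf_le_left (hNPS₁.trans hS₁R)
      have := Subgroup.card_le_of_le h1
      rw [← hD]; omega
    obtain ⟨lR, hchR, hRP⟩ := IH R hbigR
    obtain ⟨Q', hQ'⟩ : ∃ Q' : Sylow p G, (Q' : Subgroup G) = cj (lprod lR)⁻¹ (Q : Subgroup G) :=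
      ⟨(lprod lR)⁻¹ • Q, sylow_smul_eq_cj _ Q⟩
    have hD'le : cj (lprod lR)⁻¹ D ≤ (P : Subgroup G) ⊓ (Q' : Subgroup G) := by
      apply le_inf
      · rw [← hRP]; exact cj_mono _ hDR
      · rw [hQ']; exact cj_mono _ hDQ
    have hclQ' : Claim P Q' := by
      by_cases hc : Nat.card ((P : Subgroup G) ⊓ (Q : Subgroup G) : Subgroup G)
          < Nat.card ((P : Subgroup G) ⊓ (Q' : Subgroup G) : Subgroup G)
      · exact IH Q' hc
      · have hPQ' : (P : Subgroup G) ⊓ (Q' : Subgroup G) = cj (lprod lR)⁻¹ D := by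
          symm
          apply Subgroup.eq_of_le_of_card_ge hD'le
          rw [card_cj', hD]; omega
        have hcardeq : Nat.card ((P : Subgroup G) ⊓ (Q' : Subgroup G) : Subgroup G)
            = Nat.card ((P : Subgroup G) ⊓ (Q : Subgroup G) : Subgroup G) := by
          rw [hPQ', card_cj', hD]
        apply step2 P Q'
        · rw [hcardeq]; exact hlt
        · intro R' hR'
          rw [hcardeq] at hR'
          exact IH R' hR'
        · rw [hPQ', cj_normalizer, ← hK]
          have h1 : ¬ p ∣ (cj (lprod lR)⁻¹ S₁).relIndex (cj (lprod lR)⁻¹ K) := by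
            rw [cj_relIndex]; exact hS₁idx
          refine not_dvd_relIndex_of_le (le_inf ?_ (cj_mono _ hS₁K)) inf_le_right h1
          rw [← hRP]; exact cj_mono _ hS₁R
    refine claim_compose P Q Q' lR ?_ ?_ hQ' hclQ'
    · rw [← hD]
      exact chain_mono P lR _ _ (by exact_mod_cast le_inf hDP hDR) hchR
    · rw [← hD, ← hRP]
      exact cj_mono _ hDR

end

section
variable {G : Type*} [Group G] {p : ℕ} [Fact p.Prime]

theorem chain_props (P : Sylow p G) : ∀ (L : List (Sylow p G × G)) (A : Set G), Chain P L A →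
    (∀ i : Fin L.length,
      ((L.get i).2 ∈ Subgroup.normalizer ((((P : Subgroup G) ⊓ ((L.get i).1 : Subgroup G)) : Subgroup G) : Set G) ∧
        Tame P (L.get i).1)) ∧
    (∀ (i : ℕ) (h : i < L.length), conjSet ((L.map Prod.snd).take i).prod A ⊆
      ((((P : Subgroup G) ⊓ ((L.get ⟨i, h⟩).1 : Subgroup G)) : Subgroup G) : Set G)) := by
  intro L
  induction L with
  | nil =>
    intro A _
    exact ⟨fun i => i.elim0, fun i h => absurd h (Nat.not_lt_zero _)⟩
  | cons qx L ih =>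
    intro A h
    obtain ⟨h1, h2⟩ := ih (conjSet qx.2 A) h.2.2
    constructor
    · intro i
      refine Fin.cases ?_ ?_ i
      · exact h.1
      · intro j
        exact h1 j
    · intro i hi
      cases i with
      | zero =>
        simp only [List.take_zero, List.prod_nil, conjSet_one]
        exact h.2.1
      | succ i =>
        have hi' : i < L.length := by simpa using hi
        have := h2 i hi'
        simp only [List.map_cons, List.take_succ_cons, List.prod_cons, conjSet_mul]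
        exact this

end

/-- The Alperin fusion Theorem states that conjugation between subsets of a Sylow p-subgroup P factors through normalizers of tame intersections P ∩ Q_i with other Sylow p-subgroups, carrying the subset along step by step. -/
theorem result {G : Type*} [Group G] [Finite G] {p : ℕ} [Fact p.Prime] (P : Sylow p G) (A : Set G) (g : G) (hA : A ⊆ (P : Set G)) (hAg : (fun a => g⁻¹ * a * g) '' A ⊆ (P : Set G)) : ∃ (n : ℕ) (Q : Fin n → Sylow p G) (x : Fin n → G), (List.ofFn x).prod = g ∧ (∀ i : Fin n, x i ∈ Subgroup.normalizer ((((P : Subgroup G) ⊓ (Q i : Subgroup G)) : Subgroup G) : Set G) ∧ ¬ p ∣ ((P : Subgroup G) ⊓ Subgroup.normalizer ((((P : Subgroup G) ⊓ (Q i : Subgroup G)) : Subgroup G) : Set G)).relIndex (Subgroup.normalizer ((((P : Subgroup G) ⊓ (Q i : Subgroup G)) : Subgroup G) : Set G)) ∧ ¬ p ∣ ((Q i : Subgroup G) ⊓ Subgroup.normalizer ((((P : Subgroup G) ⊓ (Q i : Subgroup G)) : Subgroup G) : Set G)).relIndex (Subgroup.normalizer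 ((((P : Subgroup G) ⊓ (Q i : Subgroup G)) : Subgroup G) : Set G))) ∧ (∀ h : 0 < n, A ⊆ (((P : Subgroup G) ⊓ (Q ⟨0, h⟩ : Subgroup G) : Subgroup G) : Set G)) ∧ ∀ i : Fin n, ∀ h : i.val + 1 < n, (fun a => (((List.ofFn x).take (i.val + 1)).prod)⁻¹ * a * ((List.ofFn x).take (i.val + 1)).prod) '' A ⊆ (((P : Subgroup G) ⊓ (Q ⟨i.val + 1, h⟩ : Subgroup G) : Subgroup G) : Set G) := by
  classical
  obtain ⟨Q, hQ⟩ : ∃ Q : Sylow p G, (Q : Subgroup G) = cj g (P : Subgroup G) :=
    ⟨g • P, sylow_smul_eq_cj g P⟩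
  have hAQ : A ⊆ ((((P : Subgroup G) ⊓ (Q : Subgroup G)) : Subgroup G) : Set G) := by
    intro a ha
    refine ⟨hA ha, ?_⟩
    show a ∈ (Q : Subgroup G)
    rw [hQ, mem_cj_iff]
    exact hAg ⟨a, ha, rfl⟩
  obtain ⟨l, hl, hlP⟩ := main_claim P (Nat.card (P : Subgroup G)) Q (Nat.le_add_left _ _)
  obtain ⟨x, hx⟩ : ∃ x, x = lprod l := ⟨_, rfl⟩
  rw [← hx] at hlP
  obtain ⟨y, hy⟩ : ∃ y, y = x⁻¹ * g := ⟨_, rfl⟩
  have hyN : y ∈ Subgroup.normalizer ((P : Subgroup G) : Set G) := by
    apply mem_normalizer_of_cj_eq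
    rw [hy, cj_mul, ← hQ, hlP]
  have hPP : (P : Subgroup G) ⊓ (P : Subgroup G) = (P : Subgroup G) := inf_idem _
  have htame : Tame P P := by
    unfold Tame
    rw [hPP, inf_eq_left.2 Subgroup.le_normalizer]
    have : ¬ p ∣ (P : Subgroup G).relIndex (Subgroup.normalizer ((P : Subgroup G) : Set G)) := by
      intro hd
      apply P.not_dvd_index
      rw [← Subgroup.relIndex_mul_index (Subgroup.le_normalizer (H := (P : Subgroup G)))]
      exact dvd_mul_of_dvd_left hd _
    exact ⟨this, this⟩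
  have hcarry : conjSet x A ⊆ ((P : Subgroup G) : Set G) := by
    calc conjSet x A ⊆ conjSet x ((((P : Subgroup G) ⊓ (Q : Subgroup G)) : Subgroup G) : Set G) :=
          conjSet_mono x hAQ
      _ = ((cj x⁻¹ ((P : Subgroup G) ⊓ (Q : Subgroup G)) : Subgroup G) : Set G) := conjSet_coe _ _
      _ ⊆ ((cj x⁻¹ (Q : Subgroup G) : Subgroup G) : Set G) := by
          exact_mod_cast cj_mono x⁻¹ (inf_le_right (a := (P : Subgroup G)))
      _ = ((P : Subgroup G) : Set G) := by rw [hlP]
  have hL : Chain P (l ++ [(P, y)]) A := by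
    apply chain_append P l [(P, y)] A (chain_mono P l _ _ hAQ hl)
    rw [← hx]
    refine ⟨⟨?_, htame⟩, ?_, trivial⟩
    · show y ∈ Subgroup.normalizer ((((P : Subgroup G) ⊓ (P : Subgroup G)) : Subgroup G) : Set G)
      rw [hPP]; exact hyN
    · show conjSet x A ⊆ ((((P : Subgroup G) ⊓ (P : Subgroup G)) : Subgroup G) : Set G)
      rw [hPP]; exact hcarry
  have hprod : lprod (l ++ [(P, y)]) = g := by
    rw [lprod_append, ← hx, hy]
    simp [lprod]
  obtain ⟨L, hLdef⟩ : ∃ L, L = l ++ [(P, y)] := ⟨_, rfl⟩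
  rw [← hLdef] at hL hprod
  obtain ⟨hp1, hp2⟩ := chain_props P L A hL
  have hofFn : List.ofFn (fun i : Fin L.length => (L.get i).2) = L.map Prod.snd := by
    have : (fun i : Fin L.length => (L.get i).2) = Prod.snd ∘ L.get := rfl
    rw [this, ← List.map_ofFn, List.ofFn_get]
  refine ⟨L.length, fun i => (L.get i).1, fun i => (L.get i).2, ?_, ?_, ?_, ?_⟩
  · rw [hofFn]; exact hprod
  · intro i
    obtain ⟨h1, h2, h3⟩ := hp1 i
    exact ⟨h1, h2, h3⟩
  · intro h
    have := hp2 0 h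
    simpa [conjSet_one] using this
  · intro i h
    have := hp2 (i.val + 1) h
    rw [hofFn]
    exact this

end Cfsg.Agent.S0116
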