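import Mathlib
import Cfsg.Statements.S0119
import Cfsg.Agent.Lib.Helper3.ClassTwo
import Cfsg.Agent.Lib.Helper5.Frattini
import Cfsg.Agent.Lib.Helper2.FrattiniTriv

set_option autoImplicit false
open Cfsg
open Cfsg.Agent.Lib.Helper3
open scoped commutatorElement

namespace Cfsg.Agent.S0119

variable {G : Type*} [Group G]

/-- Step 1: characteristic subgroups fixed elementwise by `A` are central when `G = [G, A]`. -/
lemma char_fixed_central (A : Subgroup (MulAut G))
    (hGA : Subgroup.closure {x : G | ∃ g : G, ∃ a ∈ A, x = g⁻¹ * a g} = ⊤)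
    (H : Subgroup G) (hH : H.Characteristic) (hfix : ∀ a ∈ A, ∀ h ∈ H, a h = h) :
    H ≤ Subgroup.center G := by
  have hn : H.Normal := inferInstance
  intro h hh
  have h1 : (⊤ : Subgroup G) ≤ Subgroup.centralizer ({h} : Set G) := by
    rw [← hGA, Subgroup.closure_le]
    rintro x ⟨g, a, ha, rfl⟩
    rw [SetLike.mem_coe, Subgroup.mem_centralizer_iff]
    intro y hy
    rw [Set.mem_singleton_iff.mp hy]
    have hw : g * h * g⁻¹ ∈ H := hn.conj_mem h hh g
    have h2 := hfix a ha _ hw
    rw [map_mul, map_mul, map_inv, hfix a ha h hh] at h2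
    -- a g * h * (a g)⁻¹ = g * h * g⁻¹
    calc h * (g⁻¹ * a g) = g⁻¹ * (g * h * g⁻¹) * a g := by group
      _ = g⁻¹ * (a g * h * (a g)⁻¹) * a g := by rw [h2]
      _ = g⁻¹ * a g * h := by group
  rw [Subgroup.mem_center_iff]
  intro z
  have := Subgroup.mem_centralizer_iff.mp (h1 (Subgroup.mem_top z)) h rfl
  exact this.symm

/-- Step 2: class at most two. -/
lemma commutator_le_center_of_char [Group.IsNilpotent G]
    (hcen : ∀ H : Subgroup G, H.Characteristic → IsMulCommutative H → H ≤ Subgroup.center G) :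
    commutator G ≤ Subgroup.center G := by
  classical
  have hex : ∃ n, (⊤ : Subgroup G).lowerCentralSeries n = ⊥ :=
    Subgroup.nilpotent_iff_lowerCentralSeries.mp inferInstance
  obtain ⟨n, hn⟩ : ∃ n, n = Nat.find hex := ⟨_, rfl⟩
  have hLn : (⊤ : Subgroup G).lowerCentralSeries n = ⊥ := by rw [hn]; exact Nat.find_spec hex
  have hle2 : n ≤ 2 := by
    by_contra hcon
    push Not at hcon
    obtain ⟨m, hm⟩ : ∃ m, n = m + 3 := ⟨n - 3, by omega⟩
    subst hm
    -- L (m+1) is abelian
    set L := (⊤ : Subgroup G).lowerCentralSeries (m + 1) with hL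
    have hLchar : L.Characteristic := inferInstance
    have hL1 : L ≤ (⊤ : Subgroup G).lowerCentralSeries 1 :=
      Subgroup.lowerCentralSeries_antitone _ (by omega)
    have e1 : ⁅⁅L, (⊤ : Subgroup G)⁆, (⊤ : Subgroup G)⁆ = ⊥ := by
      have : (⊤ : Subgroup G).lowerCentralSeries (m + 3) = ⁅⁅L, ⊤⁆, ⊤⁆ := rfl
      rw [← this]; exact hLn
    have e2 : ⁅⁅(⊤ : Subgroup G), L⁆, (⊤ : Subgroup G)⁆ = ⊥ := by
      rw [Subgroup.commutator_comm ⊤ L]; exact e1
    have e3 : ⁅⁅(⊤ : Subgroup G), (⊤ : Subgroup G)⁆, L⁆ = ⊥ :=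
      Subgroup.commutator_commutator_eq_bot_of_rotate e2 e1
    have hab : ⁅L, L⁆ = ⊥ := by
      rw [eq_bot_iff, ← e3]
      exact Subgroup.commutator_mono hL1 le_rfl
    have hLab : IsMulCommutative ↥L :=
      Subgroup.le_centralizer_iff_isMulCommutative.mp
        (Subgroup.commutator_eq_bot_iff_le_centralizer.mp hab)
    have hLc : L ≤ Subgroup.center G := hcen L hLchar hLab
    have hnext : (⊤ : Subgroup G).lowerCentralSeries (m + 2) = ⊥ := by
      show ⁅L, (⊤ : Subgroup G)⁆ = ⊥
      rw [Subgroup.commutator_eq_bot_iff_le_centralizer]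
      intro x hx
      rw [Subgroup.mem_centralizer_iff]
      intro y _
      exact (Subgroup.mem_center_iff.mp (hLc hx) y)
    have := Nat.find_min hex (m := m + 2) (by omega)
    exact this hnext
  have hL2 : (⊤ : Subgroup G).lowerCentralSeries 2 = ⊥ := by
    rw [eq_bot_iff, ← hLn]
    exact Subgroup.lowerCentralSeries_antitone _ hle2
  have h2 : ⁅commutator G, (⊤ : Subgroup G)⁆ = ⊥ := hL2
  rw [Subgroup.commutator_eq_bot_iff_le_centralizer] at h2
  intro x hx
  rw [Subgroup.mem_center_iff]
  intro y
  exact (Subgroup.mem_centralizer_iff.mp (h2 hx) y (Subgroup.mem_top y))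

/-- Step 3: fixed points of `A` on `G/G'` are trivial when `G = [G, A]` (coprime action). -/
lemma mem_commutator_of_fixed_mod [Finite G] {p : ℕ} [Fact p.Prime] (hG : IsPGroup p G)
    (A : Subgroup (MulAut G)) (hA : (Nat.card ↥A).Coprime p)
    (hGA : Subgroup.closure {x : G | ∃ g : G, ∃ a ∈ A, x = g⁻¹ * a g} = ⊤)
    (g : G) (hg : ∀ a ∈ A, Abelianization.of (a g) = Abelianization.of g) :
    g ∈ commutator G := by
  classical
  have hpp : p.Prime := Fact.out
  have hAfin : Finite ↥A := by
    apply Nat.finite_of_card_ne_zero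
    intro h
    rw [h, Nat.coprime_zero_left] at hA
    exact hpp.one_lt.ne' hA
  let _ : Fintype ↥A := Fintype.ofFinite _
  let N : Abelianization G →* Abelianization G :=
    ∏ a : ↥A, Abelianization.map ((a : MulAut G) : G ≃* G).toMonoidHom
  have hN : ∀ x : G, N (Abelianization.of x) = ∏ a : ↥A, Abelianization.of ((a : MulAut G) x) := by
    intro x
    show (∏ a : ↥A, Abelianization.map ((a : MulAut G) : G ≃* G).toMonoidHom) _ = _
    rw [MonoidHom.finsetProd_apply]
    apply Finset.prod_congr rfl
    intro a _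
    rw [Abelianization.map_of]; rfl
  -- N kills the generators
  have hNgen : ∀ x : G, N (Abelianization.of x) = 1 := by
    have h1 : (⊤ : Subgroup G) ≤ (N.comp Abelianization.of).ker := by
      rw [← hGA, Subgroup.closure_le]
      rintro x ⟨y, b, hb, rfl⟩
      rw [SetLike.mem_coe, MonoidHom.mem_ker, MonoidHom.comp_apply, map_mul, map_mul, map_inv]
      have h2 : N (Abelianization.of (b y)) = N (Abelianization.of y) := by
        rw [hN, hN]
        have := Equiv.prod_comp (Equiv.mulRight (⟨b, hb⟩ : ↥A))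
          (fun a : ↥A => Abelianization.of ((a : MulAut G) y))
        rw [← this]
        apply Finset.prod_congr rfl
        intro a _
        show Abelianization.of ((a : MulAut G) (b y)) =
          Abelianization.of (((a * ⟨b, hb⟩ : ↥A) : MulAut G) y)
        rfl
      rw [h2, map_inv, inv_mul_cancel]
    intro x
    exact h1 (Subgroup.mem_top x)
  have h3 : N (Abelianization.of g) = (Abelianization.of g) ^ (Nat.card ↥A) := by
    rw [hN]
    have h0 : ∀ a ∈ (Finset.univ : Finset ↥A), Abelianization.of ((a : MulAut G) g) =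
        Abelianization.of g := fun a _ => hg (a : MulAut G) a.2
    rw [Finset.prod_congr rfl h0, Finset.prod_const, Finset.card_univ, Nat.card_eq_fintype_card]
  rw [hNgen] at h3
  obtain ⟨k, hk⟩ := hG g
  have h4 : (Abelianization.of g) ^ (p ^ k) = 1 := by rw [← map_pow, hk, map_one]
  have h5 : orderOf (Abelianization.of g) ∣ Nat.card ↥A := orderOf_dvd_of_pow_eq_one h3.symm
  have h6 : orderOf (Abelianization.of g) ∣ p ^ k := orderOf_dvd_of_pow_eq_one h4
  have h7 : (Nat.card ↥A).Coprime (p ^ k) := Nat.Coprime.pow_right k hA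
  have h8 : Abelianization.of g = 1 := orderOf_eq_one_iff.mp (Nat.eq_one_of_dvd_coprimes h7 h5 h6)
  rw [← Abelianization.ker_of]
  exact h8

/-- Step 4: `G / Z(G)` has exponent `p`. -/
lemma pow_p_mem_center [Finite G] {p : ℕ} [Fact p.Prime] (hG : IsPGroup p G)
    (hc : commutator G ≤ Subgroup.center G)
    (hcen : ∀ H : Subgroup G, H.Characteristic → IsMulCommutative H → H ≤ Subgroup.center G) :
    ∀ x : G, x ^ p ∈ Subgroup.center G := by
  have hstep : ∀ k : ℕ, (∀ x : G, x ^ (p ^ (k + 2)) ∈ Subgroup.center G) →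
      ∀ x : G, x ^ (p ^ (k + 1)) ∈ Subgroup.center G := by
    intro k hk
    set m := p ^ (k + 1) with hm
    set T : Set G := {y | ∃ x : G, y = x ^ m} with hT
    have hTcomm : ∀ a ∈ T, ∀ b ∈ T, a * b = b * a := by
      rintro _ ⟨x, rfl⟩ _ ⟨y, rfl⟩
      rw [← commutatorElement_eq_one_iff_mul_comm, ct_comm_pow_pow hc]
      have h1 : ⁅x, y⁆ ^ (p ^ (k + 2)) = 1 := by
        rw [← ct_comm_pow_left hc, commutatorElement_eq_one_iff_mul_comm]
        exact ((Subgroup.mem_center_iff.mp (hk x)) y).symm
      have h2 : m * m = p ^ (k + 2) * p ^ k := by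
        rw [hm, ← pow_add, ← pow_add]; congr 1; omega
      rw [h2, pow_mul, h1, one_pow]
    have hKab : IsMulCommutative ↥(Subgroup.closure T) := Subgroup.isMulCommutative_closure hTcomm
    have hKchar : (Subgroup.closure T).Characteristic := by
      rw [Subgroup.characteristic_iff_map_le]
      intro φ
      rw [MonoidHom.map_closure, Subgroup.closure_le]
      rintro _ ⟨_, ⟨x, rfl⟩, rfl⟩
      apply Subgroup.subset_closure
      exact ⟨φ x, by simp⟩
    intro x
    exact hcen _ hKchar hKab (Subgroup.subset_closure ⟨x, rfl⟩)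
  obtain ⟨n, hn⟩ := IsPGroup.iff_card.mp hG
  have hbase : ∀ x : G, x ^ (p ^ (n + 1)) ∈ Subgroup.center G := by
    intro x
    have : x ^ (p ^ (n + 1)) = 1 := by
      rw [pow_succ, pow_mul, ← hn, pow_card_eq_one', one_pow]
    rw [this]; exact Subgroup.one_mem _
  have hdesc : ∀ j : ℕ, (∀ x : G, x ^ (p ^ (j + 1)) ∈ Subgroup.center G) →
      ∀ x : G, x ^ (p ^ 1) ∈ Subgroup.center G := by
    intro j
    induction j with
    | zero => intro h; exact h
    | succ j ih => intro h; exact ih (hstep j h)
  intro x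
  have := hdesc n hbase x
  rwa [pow_one] at this

/-- If a p'-group A of automorphisms of a p-group G satisfies G = [G, A] and acts trivially on every characteristic abelian subgroup, then G is special with centre equal to the fixed points of A. -/
theorem result {G : Type*} [Group G] [Finite G] {p : ℕ} [Fact p.Prime] (hG : IsPGroup p G) (A : Subgroup (MulAut G)) (hA : Nat.Coprime (Nat.card A) p) (hGA : Subgroup.closure {x : G | ∃ g : G, ∃ a ∈ A, x = g⁻¹ * a g} = ⊤) (hchar : ∀ H : Subgroup G, H.Characteristic → IsMulCommutative H → ∀ a ∈ A, ∀ h ∈ H, a h = h) : Cfsg.IsSpecial p G ∧ (∀ g : G, (g ∈ Subgroup.center G ↔ ∀ a ∈ A, a g = g)) := by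
  have hpp : p.Prime := Fact.out
  have hnil : Group.IsNilpotent G := hG.isNilpotent
  have hcen : ∀ H : Subgroup G, H.Characteristic → IsMulCommutative H → H ≤ Subgroup.center G :=
    fun H hH hab => char_fixed_central A hGA H hH (hchar H hH hab)
  have hc : commutator G ≤ Subgroup.center G := commutator_le_center_of_char hcen
  have hfixZ : ∀ a ∈ A, ∀ z ∈ Subgroup.center G, a z = z :=
    hchar (Subgroup.center G) inferInstance inferInstance
  have hF : ∀ g : G, (∀ a ∈ A, a g = g) → g ∈ commutator G := by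
    intro g hg
    apply mem_commutator_of_fixed_mod hG A hA hGA g
    intro a ha
    rw [hg a ha]
  have hZc : Subgroup.center G ≤ commutator G := fun z hz => hF z (fun a ha => hfixZ a ha z hz)
  have hZeq : commutator G = Subgroup.center G := le_antisymm hc hZc
  have hpow := pow_p_mem_center hG hc hcen
  refine ⟨⟨hG, ?_, hZeq⟩, ?_⟩
  · apply le_antisymm
    · have hcomm' : IsMulCommutative (G ⧸ Subgroup.center G) :=
        Subgroup.Normal.quotient_commutative_iff_commutator_le.mpr hc
      have h1 := Cfsg.Agent.Lib.Helper5.frattini_le_ker_of_elem_abelian hpp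
        (QuotientGroup.mk' (Subgroup.center G))
        (fun a b => hcomm'.is_comm.comm a b)
        (by
          intro a
          obtain ⟨x, rfl⟩ := QuotientGroup.mk'_surjective _ a
          rw [← map_pow]
          exact (QuotientGroup.eq_one_iff _).mpr (hpow x))
      rwa [QuotientGroup.ker_mk'] at h1
    · rw [← hZeq]
      show commutator G ≤ ⨅ a ∈ {H : Subgroup G | IsCoatom H}, a
      apply le_iInf₂
      intro M hM
      by_contra hcon
      have hM' : IsCoatom M := hM
      have h1 : M ⊔ commutator G = ⊤ := by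
        by_contra h2
        have h3 : M < M ⊔ commutator G := by
          refine lt_of_le_of_ne le_sup_left ?_
          intro h4
          apply hcon
          rw [h4]; exact le_sup_right
        exact h2 (hM'.2 _ h3)
      exact hM'.1 (Cfsg.Agent.Lib.Helper2.eq_top_of_sup_commutator_eq_top M h1)
  · intro g
    constructor
    · intro hg a ha
      exact hfixZ a ha g hg
    · intro hg
      exact hc (hF g hg)

end Cfsg.Agent.S0119
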