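import Cfsg.Statements.S0121
import Mathlib

set_option autoImplicit false
open Cfsg

namespace Cfsg.Agent.S0121

open scoped commutatorElement


/-- A p'-automorphism of a p-group acting trivially on a critical subgroup is trivial. -/
theorem result {G : Type*} [Group G] [Finite G] {p : ℕ} [Fact p.Prime] (hG : IsPGroup p G) (H : Subgroup G) (hH : H.Characteristic) (h1 : (frattini H).map H.subtype ≤ Subgroup.centralizer (H : Set G)) (h2 : ⁅H, (⊤ : Subgroup G)⁆ ≤ H ⊓ Subgroup.centralizer (H : Set G)) (h3 : Subgroup.centralizer (H : Set G) ≤ H) (a : MulAut G) (ha : Nat.Coprime (orderOf a) p) (h : ∀ x ∈ H, a x = x) : a = 1 := by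
  -- step 1: for every g, g⁻¹ * a g ∈ H and is fixed by a
  have hfix : ∀ g : G, g⁻¹ * a g ∈ H := by
    intro g
    apply h3
    rw [Subgroup.mem_centralizer_iff]
    intro x hx
    -- commutator ⁅x, g⁆ ∈ H ⊓ C(H), so fixed by a
    have hc : ⁅x, g⁆ ∈ H ⊓ Subgroup.centralizer (H : Set G) :=
      h2 (Subgroup.commutator_mem_commutator hx (Subgroup.mem_top g))
    have hcH : ⁅x, g⁆ ∈ H := (Subgroup.mem_inf.1 hc).1
    have hac : a ⁅x, g⁆ = ⁅x, g⁆ := h _ hcH
    rw [commutatorElement_def, map_mul, map_mul, map_mul, map_inv, map_inv, h x hx] at hac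
    -- hac : x * a g * x⁻¹ * (a g)⁻¹ = x * g * x⁻¹ * g⁻¹
    have h1' : a g * x⁻¹ * (a g)⁻¹ = g * x⁻¹ * g⁻¹ := by
      have := congrArg (fun y => x⁻¹ * y) hac
      simpa [mul_assoc] using this
    have h2' : x⁻¹ * (g⁻¹ * a g) = (g⁻¹ * a g) * x⁻¹ := by
      have := congrArg (fun y => g⁻¹ * y * a g) h1'
      simp only [mul_assoc, inv_mul_cancel_left, inv_mul_cancel, mul_one] at this
      simpa [mul_assoc] using this.symm
    have hcm : Commute x⁻¹ (g⁻¹ * a g) := h2'
    exact (Commute.inv_left_iff.1 hcm).eq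
  -- step 2: a^k g = g * (g⁻¹ * a g)^k
  have hpow : ∀ (k : ℕ) (g : G), (a ^ k) g = g * (g⁻¹ * a g) ^ k := by
    intro k
    induction k with
    | zero => intro g; simp
    | succ k ih =>
      intro g
      have e1 : (a ^ (k + 1)) g = a ((a ^ k) g) := by
        rw [pow_succ', MulAut.mul_apply]
      rw [e1, ih g, map_mul, map_pow, h _ (hfix g), pow_succ' (g⁻¹ * a g) k]
      simp only [mul_assoc, mul_inv_cancel_left]
  ext g
  have hk := hpow (orderOf a) g
  rw [pow_orderOf_eq_one, MulAut.one_apply] at hk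
  have hk' : (g⁻¹ * a g) ^ orderOf a = 1 := by
    have := congrArg (fun y => g⁻¹ * y) hk
    simpa using this.symm
  obtain ⟨j, hj⟩ := hG (g⁻¹ * a g)
  have hone : (g⁻¹ * a g) ^ 1 = 1 := by
    have hcop : Nat.Coprime (orderOf a) (p ^ j) := Nat.Coprime.pow_right j ha
    rw [← Nat.Coprime.gcd_eq_one hcop]
    exact pow_gcd_eq_one.2 ⟨hk', hj⟩
  rw [pow_one] at hone
  rw [MulAut.one_apply]
  have := congrArg (fun y => g * y) hone
  simpa using this

end Cfsg.Agent.S0121
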