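import Cfsg.Statements.S0125
import Mathlib
import Cfsg.Agent.Lib.Helper1.Frob
import Cfsg.Agent.Lib.Helper2.Index

set_option autoImplicit false
open Cfsg

namespace Cfsg.Agent.S0125


open Cfsg.Agent.Lib.Helper1

theorem normalizer_le_normalizer_centralizer {G : Type*} [Group G] (A : Subgroup G) :
    Subgroup.normalizer (A : Set G) ≤
      Subgroup.normalizer ((Subgroup.centralizer (A : Set G) : Subgroup G) : Set G) := by
  have key : ∀ r ∈ Subgroup.normalizer (A : Set G), ∀ c ∈ Subgroup.centralizer (A : Set G),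
      r * c * r⁻¹ ∈ Subgroup.centralizer (A : Set G) := by
    intro r hr c hc
    rw [Subgroup.mem_centralizer_iff]
    intro a ha
    have ha' : r⁻¹ * a * r⁻¹⁻¹ ∈ A :=
      (Subgroup.mem_normalizer_iff.1 (Subgroup.inv_mem _ hr) a).1 ha
    have := Subgroup.mem_centralizer_iff.1 hc _ ha'
    calc a * (r * c * r⁻¹) = r * ((r⁻¹ * a * r⁻¹⁻¹) * c) * r⁻¹ := by group
      _ = r * (c * (r⁻¹ * a * r⁻¹⁻¹)) * r⁻¹ := by rw [this]
      _ = r * c * r⁻¹ * a := by group
  intro r hr
  rw [Subgroup.mem_normalizer_iff]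
  intro c
  constructor
  · exact key r hr c
  · intro h
    have := key r⁻¹ (Subgroup.inv_mem _ hr) _ h
    convert this using 1
    group


/-- The centralizer of a self-centralizing normal subgroup A of a Sylow p-subgroup is the direct product of A with a normal p'-subgroup. -/
theorem result {G : Type*} [Group G] [Finite G] {p : ℕ} [Fact p.Prime] (R : Sylow p G) (A : Subgroup G) (hAR : A ≤ (R : Subgroup G)) (hAn : (R : Subgroup G) ≤ Subgroup.normalizer (A : Set G)) (hC : (R : Subgroup G) ⊓ Subgroup.centralizer (A : Set G) = A) : ∃ H : Subgroup G, H ≤ Subgroup.centralizer (A : Set G) ∧ Nat.Coprime (Nat.card H) p ∧ Subgroup.centralizer (A : Set G) ≤ Subgroup.normalizer (H : Set G) ∧ H ⊓ A = ⊥ ∧ H ⊔ A = Subgroup.centralizer (A : Set G) := by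
  set C := Subgroup.centralizer (A : Set G) with hCdef
  have hAC : A ≤ C := by
    intro a ha
    rw [← hC] at ha
    exact (Subgroup.mem_inf.1 ha).2
  have hRC : (R : Subgroup G) ≤ Subgroup.normalizer (C : Set G) :=
    le_trans hAn (normalizer_le_normalizer_centralizer A)
  -- the index of A in C divides the index of R
  have hidx : A.relIndex C ∣ (R : Subgroup G).index := by
    have h1 := Cfsg.Agent.Lib.Helper2.relIndex_sup_of_le_normalizer (R : Subgroup G) C hRC
    have h2 : (R : Subgroup G).relIndex C = A.relIndex C := by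
      rw [← Subgroup.inf_relIndex_right, hC]
    rw [← h2, ← h1]
    exact Subgroup.relIndex_dvd_index_of_le le_sup_left
  have hpp : p.Prime := Fact.out
  have hcop_idx : Nat.Coprime (A.relIndex C) p := by
    rw [Nat.coprime_comm, Nat.Prime.coprime_iff_not_dvd hpp]
    intro h
    exact R.not_dvd_index (dvd_trans h hidx)
  have hAp : IsPGroup p A := R.2.to_le hAR
  obtain ⟨j, hj⟩ := (IsPGroup.iff_card).1 hAp
  -- A is central in C
  have hcentral : ∀ a ∈ A, ∀ c ∈ C, c * a = a * c := by
    intro a ha c hc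
    exact (Subgroup.mem_centralizer_iff.1 hc a ha).symm
  haveI : (A.subgroupOf C).Normal := by
    refine ⟨fun a ha c => ?_⟩
    rw [Subgroup.mem_subgroupOf] at ha ⊢
    have := hcentral a.1 ha c.1 c.2
    have e : ((c * a * c⁻¹ : C) : G) = a.1 := by
      simp only [Subgroup.coe_mul, Subgroup.coe_inv]
      rw [this]; group
    rw [e]; exact ha
  have hcardA : Nat.card (A.subgroupOf C) = Nat.card A :=
    Nat.card_congr (Subgroup.subgroupOfEquivOfLe hAC).toEquiv
  have hHall : Nat.Coprime (Nat.card (A.subgroupOf C)) (A.subgroupOf C).index := by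
    rw [hcardA, hj]
    exact Nat.Coprime.pow_left j hcop_idx.symm
  obtain ⟨H', hH'⟩ := Subgroup.exists_right_complement'_of_coprime hHall
  have hdecomp : ∀ c ∈ C, ∃ a ∈ A, ∃ h ∈ H'.map C.subtype, c = a * h := by
    intro c hc
    obtain ⟨a, ha, h, hh, hch⟩ := exists_mul_of_isComplement' hH' ⟨c, hc⟩
    rw [Subgroup.mem_subgroupOf] at ha
    refine ⟨a.1, ha, h.1, ⟨h, hh, rfl⟩, ?_⟩
    have := congrArg Subtype.val hch
    rw [Subgroup.coe_mul] at this
    exact this
  have hHC : H'.map C.subtype ≤ C := Subgroup.map_subtype_le _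
  have hconj : ∀ c ∈ C, ∀ x ∈ H'.map C.subtype, c * x * c⁻¹ ∈ H'.map C.subtype := by
    intro c hc x hx
    obtain ⟨a, ha, h, hh, rfl⟩ := hdecomp c hc
    have hmem : h * x * h⁻¹ ∈ H'.map C.subtype :=
      Subgroup.mul_mem _ (Subgroup.mul_mem _ hh hx) (Subgroup.inv_mem _ hh)
    have := hcentral a ha (h * x * h⁻¹) (hHC hmem)
    have e : a * h * x * (a * h)⁻¹ = a * (h * x * h⁻¹) * a⁻¹ := by group
    rw [e, ← this]
    convert hmem using 1
    group
  refine ⟨H'.map C.subtype, hHC, ?_, ?_, ?_, ?_⟩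
  · have : Nat.card (H'.map C.subtype) = Nat.card H' :=
      Subgroup.card_map_of_injective C.subtype_injective
    rw [this, ← hH'.symm.index_eq_card]
    exact hcop_idx
  · intro c hc
    rw [Subgroup.mem_normalizer_iff]
    intro x
    constructor
    · exact hconj c hc x
    · intro h
      have := hconj c⁻¹ (Subgroup.inv_mem _ hc) _ h
      convert this using 1
      group
  · rw [eq_bot_iff]
    rintro x hx
    obtain ⟨hxH, hxA⟩ := Subgroup.mem_inf.1 hx
    obtain ⟨y, hy, rfl⟩ := hxH
    rw [Subgroup.mem_bot]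
    have hyA : y ∈ A.subgroupOf C := by rw [Subgroup.mem_subgroupOf]; exact hxA
    have := inf_eq_bot_of_isComplement' hH' hyA hy
    rw [this]; rfl
  · apply le_antisymm
    · exact sup_le hHC hAC
    · intro c hc
      obtain ⟨a, ha, h, hh, rfl⟩ := hdecomp c hc
      exact Subgroup.mul_mem _ (Subgroup.mem_sup_right ha) (Subgroup.mem_sup_left hh)

end Cfsg.Agent.S0125
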