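import Cfsg.Statements.S0131
import Mathlib
import Cfsg.Agent.Lib.Helper3.PRes

set_option autoImplicit false
open Cfsg

namespace Cfsg.Agent.S0131

open Cfsg.Agent.Lib.Helper3
open scoped commutatorElement


/-- P/P' has a normal complement in G exactly when the focal subgroup G' ∩ P is as small as possible, namely P'. -/
theorem result {G : Type*} [Group G] [Finite G] {p : ℕ} [Fact p.Prime] (P : Sylow p G) : (∃ N : Subgroup G, N.Normal ∧ N ⊓ (P : Subgroup G) = ⁅(P : Subgroup G), (P : Subgroup G)⁆ ∧ N ⊔ (P : Subgroup G) = ⊤) ↔ commutator G ⊓ (P : Subgroup G) = ⁅(P : Subgroup G), (P : Subgroup G)⁆ := by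
  have hP' : ⁅(P : Subgroup G), (P : Subgroup G)⁆ ≤ commutator G ⊓ (P : Subgroup G) := by
    apply le_inf
    · rw [commutator_def]; exact Subgroup.commutator_mono le_top le_top
    · exact Subgroup.commutator_le_self _
  constructor
  · rintro ⟨N, hN, hNP, hsup⟩
    apply le_antisymm _ hP'
    -- G' ≤ N
    have hG' : commutator G ≤ N := by
      rw [commutator_def, Subgroup.commutator_le]
      intro x _ y _
      have hx : x ∈ N ⊔ (P : Subgroup G) := by rw [hsup]; trivial
      have hy : y ∈ N ⊔ (P : Subgroup G) := by rw [hsup]; trivial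
      rw [Subgroup.mem_sup_of_normal_left] at hx hy
      obtain ⟨r₁, hr₁, t₁, ht₁, rfl⟩ := hx
      obtain ⟨r₂, hr₂, t₂, ht₂, rfl⟩ := hy
      rw [← QuotientGroup.eq_one_iff]
      show QuotientGroup.mk' N ⁅r₁ * t₁, r₂ * t₂⁆ = 1
      rw [map_commutatorElement]
      have e1 : QuotientGroup.mk' N (r₁ * t₁) = QuotientGroup.mk' N t₁ := by
        have : QuotientGroup.mk' N r₁ = 1 := (QuotientGroup.eq_one_iff r₁).2 hr₁
        rw [map_mul, this, one_mul]
      have e2 : QuotientGroup.mk' N (r₂ * t₂) = QuotientGroup.mk' N t₂ := by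
        have : QuotientGroup.mk' N r₂ = 1 := (QuotientGroup.eq_one_iff r₂).2 hr₂
        rw [map_mul, this, one_mul]
      rw [e1, e2, ← map_commutatorElement]
      apply (QuotientGroup.eq_one_iff _).2
      have : ⁅t₁, t₂⁆ ∈ N ⊓ (P : Subgroup G) := by
        rw [hNP]; exact Subgroup.commutator_mem_commutator ht₁ ht₂
      exact (Subgroup.mem_inf.1 this).1
    rw [← hNP]
    exact inf_le_inf_right _ hG'
  · intro hfoc
    haveI hn := pRes_normal p G
    refine ⟨pResidual p G ⊔ commutator G, inferInstance, ?_, ?_⟩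
    · apply le_antisymm
      · intro t ht
        obtain ⟨htN, htP⟩ := Subgroup.mem_inf.1 ht
        rw [← hfoc]
        refine Subgroup.mem_inf.2 ⟨?_, htP⟩
        by_contra hnot
        have hgp : ∃ k : ℕ, orderOf t = p ^ k := by
          obtain ⟨k, hk⟩ := (IsPGroup.iff_orderOf.1 P.2) ⟨t, htP⟩
          exact ⟨k, by rw [← hk, Subgroup.orderOf_mk]⟩
        exact not_mem_pRes_sup_commutator p t hgp hnot htN
      · rw [← hfoc]
        exact inf_le_inf_right _ le_sup_right
    · rw [eq_top_iff, ← sup_pRes_eq_top p _ P.not_dvd_index]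
      apply sup_le le_sup_right
      exact le_trans le_sup_left le_sup_left

end Cfsg.Agent.S0131
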