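import Cfsg.Statements.S0132
import Cfsg.Agent.Lib.Helper4.Frobenius3

set_option autoImplicit false
open Cfsg

namespace Cfsg.Agent.S0132

open Cfsg.Agent.Lib.Helper4

/-- A minimal non-p-nilpotent finite group is a minimal non-nilpotent group with a normal Sylow p-subgroup. -/
theorem result {G : Type*} [Group G] [Finite G] {p : ℕ} [Fact p.Prime] (h1 : ¬ Cfsg.HasNormalPComplement p G) (h2 : ∀ H : Subgroup G, H ≠ ⊤ → Cfsg.HasNormalPComplement p H) : (∀ H : Subgroup G, H ≠ ⊤ → Group.IsNilpotent H) ∧ ¬ Group.IsNilpotent G ∧ ∀ P : Sylow p G, (P : Subgroup G).Normal := by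
  classical
  have hp : p.Prime := Fact.out
  have hnF : ¬ FrobHyp p G := by
    intro hF
    obtain ⟨K, hKn, hc, hq⟩ := frob_hasNormalPComplement p (Nat.card G) G rfl hF
    exact h1 (hasNormalPComplement_of_normal_hall p K hc hq)
  have hex : ∃ Q : Subgroup G, IsPGroup p Q ∧ ∃ g ∈ Subgroup.normalizer (Q : Set G),
      (orderOf g).Coprime p ∧ g ∉ Subgroup.centralizer (Q : Set G) := by
    by_contra hcon
    apply hnF
    intro Q hQ g hg hgp
    by_contra hgC
    exact hcon ⟨Q, hQ, g, hg, hgp, hgC⟩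
  obtain ⟨Q, hQ, g, hg, hgp, hgC⟩ := hex
  set Z : Subgroup G := Subgroup.zpowers g with hZ
  -- Step 2: G = Q ⟨g⟩
  have htop : Q ⊔ Z = ⊤ := by
    by_contra hne
    have hH := h2 (Q ⊔ Z) hne
    have hF := frobHyp_of_hasNormalPComplement p hH
    have hgH : g ∈ Q ⊔ Z := (le_sup_right : Z ≤ Q ⊔ Z) (Subgroup.mem_zpowers g)
    have hQ' : IsPGroup p (Q.subgroupOf (Q ⊔ Z)) := hQ.comap_subtype
    have hg' : (⟨g, hgH⟩ : ↥(Q ⊔ Z)) ∈
        Subgroup.normalizer ((Q.subgroupOf (Q ⊔ Z) : Subgroup ↥(Q ⊔ Z)) : Set ↥(Q ⊔ Z)) := by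
      rw [Subgroup.mem_normalizer_iff]
      intro x
      rw [Subgroup.mem_subgroupOf, Subgroup.mem_subgroupOf]
      exact Subgroup.mem_normalizer_iff.1 hg x
    have h3 := hF _ hQ' _ hg' (by rw [Subgroup.orderOf_mk]; exact hgp)
    apply hgC
    rw [Subgroup.mem_centralizer_iff] at h3 ⊢
    intro q hq
    have h4 := h3 ⟨q, (le_sup_left : Q ≤ Q ⊔ Z) hq⟩
      (by rw [SetLike.mem_coe, Subgroup.mem_subgroupOf]; exact hq)
    exact congrArg Subtype.val h4
  -- Step 3: Q is normal
  have hQn : Q.Normal := by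
    rw [← Subgroup.normalizer_eq_top_iff, eq_top_iff, ← htop]
    exact sup_le Subgroup.le_normalizer (by rw [hZ, Subgroup.zpowers_le]; exact hg)
  -- the surjection Z → G/Q
  set ψ : Z →* G ⧸ Q := (QuotientGroup.mk' Q).comp Z.subtype with hψ
  have hψs : Function.Surjective ψ := by
    intro y
    induction y using QuotientGroup.induction_on with
    | H x =>
      have hx : x ∈ Q ⊔ Z := by rw [htop]; exact Subgroup.mem_top x
      rw [Subgroup.mem_sup_of_normal_left] at hx
      obtain ⟨q, hq, z, hz, rfl⟩ := hx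
      refine ⟨⟨z, hz⟩, ?_⟩
      show ((z : G) : G ⧸ Q) = ((q * z : G) : G ⧸ Q)
      rw [QuotientGroup.mk_mul, (QuotientGroup.eq_one_iff q).2 hq, one_mul]
  have hcyc : IsCyclic (G ⧸ Q) := isCyclic_of_surjective ψ hψs
  have hidx : ¬ p ∣ Q.index := by
    have h3 : Nat.card (G ⧸ Q) ∣ Nat.card Z := Subgroup.card_dvd_of_surjective ψ hψs
    rw [hZ, Nat.card_zpowers] at h3
    rw [Subgroup.index_eq_card]
    intro hdvd
    have := Nat.Coprime.eq_one_of_dvd hgp.symm (dvd_trans hdvd h3)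
    exact hp.ne_one this
  refine ⟨?_, fun hn => hnF (frobHyp_of_isNilpotent p), ?_⟩
  · -- proper subgroups are nilpotent
    intro H hH
    obtain ⟨K, hKn, hc, hq⟩ := exists_normal_hall_of_hasNormalPComplement p (h2 H hH)
    set f : H →* (H ⧸ K) × (G ⧸ Q) :=
      (QuotientGroup.mk' K).prod ((QuotientGroup.mk' Q).comp H.subtype) with hf
    have hfi : Function.Injective f := by
      rw [injective_iff_map_eq_one]
      intro h hh
      rw [hf, MonoidHom.prod_apply, Prod.mk_eq_one] at hh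
      obtain ⟨hh1, hh2⟩ := hh
      have hhK : h ∈ K := (QuotientGroup.eq_one_iff h).1 hh1
      have hhQ : (h : G) ∈ Q := (QuotientGroup.eq_one_iff (h : G)).1 hh2
      have h3 : (orderOf h).Coprime p := (mem_iff_coprime_of_normal_hall p K hc hq h).1 hhK
      obtain ⟨j, hj⟩ := hQ ⟨(h : G), hhQ⟩
      have hj' : (h : G) ^ (p ^ j) = 1 := by
        have := congrArg (fun z : Q => (z : G)) hj
        simpa using this
      have h4 : orderOf (h : G) ∣ p ^ j := orderOf_dvd_of_pow_eq_one hj'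
      rw [← Subgroup.orderOf_coe] at h3
      have h5 : (orderOf (h : G)).Coprime (p ^ j) := Nat.Coprime.pow_right j h3
      have h6 : orderOf (h : G) = 1 := Nat.Coprime.eq_one_of_dvd h5 h4
      exact Subtype.ext (orderOf_eq_one_iff.1 h6)
    have hn1 : Group.IsNilpotent (H ⧸ K) := hq.isNilpotent
    have hn2 : Group.IsNilpotent (G ⧸ Q) := by
      let _ : CommGroup (G ⧸ Q) := IsCyclic.commGroup
      exact CommGroup.isNilpotent
    have hn3 : Group.IsNilpotent f.range := inferInstance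
    exact (Group.isNilpotent_congr (MonoidHom.ofInjective hfi)).2 hn3
  · -- Sylow p-subgroups are normal
    intro P
    have hQP : Q ≤ (P : Subgroup G) := hQ.le_sylow_of_normal P
    have h3 : (P : Subgroup G) = ((hQ.toSylow hidx : Sylow p G) : Subgroup G) :=
      (hQ.toSylow hidx).is_maximal' P.2 hQP
    rw [h3]
    exact hQn

end Cfsg.Agent.S0132
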