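import Cfsg.Statements.S0134
import Cfsg.Agent.Lib.Helper8.CharComplete2

set_option autoImplicit false
open Cfsg

namespace Cfsg.Agent.S0134

/-- The sum of the squares of the degrees of the irreducible complex characters of a finite group is the order of the group. -/
theorem result {G : Type*} [Group G] [Finite G] : ∑ᶠ χ : Cfsg.IrrCharacter G, (χ : G → ℂ) 1 ^ 2 = (Nat.card G : ℂ) := by
  classical
  have : Fintype G := Fintype.ofFinite G
  have := Cfsg.Agent.Lib.Helper8.irr_finite (G := G)
  have : Fintype (IrrCharacter G) := Fintype.ofFinite _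
  rw [finsum_eq_sum_of_fintype]
  have key := Cfsg.Agent.Lib.Helper8.irr_sum_mul_conj (1 : G) 1
  rw [if_pos (IsConj.refl 1)] at key
  have hc : Subgroup.centralizer ({1} : Set G) = ⊤ := by
    rw [eq_top_iff]
    intro x _
    rw [Subgroup.mem_centralizer_iff]
    intro y hy
    rw [Set.mem_singleton_iff.mp hy]
    simp
  rw [hc] at key
  rw [Nat.card_congr (Subgroup.topEquiv (G := G)).toEquiv] at key
  rw [← key]
  apply Finset.sum_congr rfl
  intro χ _
  obtain ⟨n, ρ, -, hρ⟩ := χ.2
  rw [← hρ, Representation.char_one]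
  simp [sq]

end Cfsg.Agent.S0134
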