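import Cfsg.Statements.S0136
import Cfsg.Agent.Lib.Helper8.CharComplete2

set_option autoImplicit false
open Cfsg

namespace Cfsg.Agent.S0136

/-- Two elements of a finite group are conjugate if and only if no irreducible complex character separates them. -/
theorem result {G : Type*} [Group G] [Finite G] (g h : G) : IsConj g h ↔ ∀ χ : Cfsg.IrrCharacter G, (χ : G → ℂ) g = (χ : G → ℂ) h := by
  classical
  have : Fintype G := Fintype.ofFinite G
  have := Cfsg.Agent.Lib.Helper8.irr_finite (G := G)
  have : Fintype (IrrCharacter G) := Fintype.ofFinite _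
  constructor
  · intro hc χ
    exact Cfsg.Agent.Lib.Helper8.character_isConj (Cfsg.Agent.Lib.Helper8.irr_isCharacter χ.2) hc
  · intro hall
    by_contra hc
    have key := Cfsg.Agent.Lib.Helper8.irr_sum_mul_conj g h
    rw [if_neg hc] at key
    have key2 := Cfsg.Agent.Lib.Helper8.irr_sum_mul_conj h h
    rw [if_pos (IsConj.refl h)] at key2
    have : ∑ χ : IrrCharacter G, χ.1 g * (starRingEnd ℂ) (χ.1 h) = ∑ χ : IrrCharacter G, χ.1 h * (starRingEnd ℂ) (χ.1 h) := by
      apply Finset.sum_congr rfl
      intro χ _
      rw [hall χ]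
    rw [this, key2] at key
    have hne : (Nat.card (Subgroup.centralizer ({h} : Set G)) : ℂ) ≠ 0 :=
      Nat.cast_ne_zero.mpr Nat.card_pos.ne'
    exact hne key

end Cfsg.Agent.S0136
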