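import Cfsg.Statements.S0137
import Cfsg.Agent.Lib.Helper8.FinOrdEnd

set_option autoImplicit false
open Cfsg

namespace Cfsg.Agent.S0137

open Cfsg.Agent.Lib.Helper8

/-- A character value of a finite group has absolute value at most the degree of the representation. -/
theorem result {G : Type*} [Group G] [Finite G] {V : Type*} [AddCommGroup V] [Module ℂ V] [FiniteDimensional ℂ V] (ρ : Representation ℂ G V) (g : G) : ‖ρ.character g‖ ≤ (Module.finrank ℂ V : ℝ) := by
  have hm : 0 < orderOf g := orderOf_pos g
  have hpow := rep_pow_orderOf ρ g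
  have h1 : ρ.character g = (ρ g).charpoly.roots.sum := trace_eq_roots_sum (ρ g)
  rw [h1]
  calc ‖(ρ g).charpoly.roots.sum‖ ≤ ((ρ g).charpoly.roots.map (fun μ => ‖μ‖)).sum :=
        norm_multiset_sum_le _
    _ = ((ρ g).charpoly.roots.map (fun _ => (1 : ℝ))).sum := by
        congr 1
        apply Multiset.map_congr rfl
        intro μ hμ
        exact norm_eq_one_of_pow_eq_one' hm (root_pow_eq_one hpow hμ)
    _ = (Module.finrank ℂ V : ℝ) := by
        rw [Multiset.map_const', Multiset.sum_replicate, card_roots_charpoly]
        simp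

end Cfsg.Agent.S0137
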