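import Cfsg.Statements.S0139
import Cfsg.Agent.Lib.Helper8.FinOrdEnd

set_option autoImplicit false
open Cfsg

namespace Cfsg.Agent.S0139

open Cfsg.Agent.Lib.Helper8

/-- The kernel of a complex representation of a finite group is the set of elements where the character equals the degree. -/
theorem result {G : Type*} [Group G] [Finite G] {V : Type*} [AddCommGroup V] [Module ℂ V] [FiniteDimensional ℂ V] (ρ : Representation ℂ G V) (g : G) : ρ.character g = (Module.finrank ℂ V : ℂ) ↔ ρ g = LinearMap.id := by
  have hm : 0 < orderOf g := orderOf_pos g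
  have hpow := rep_pow_orderOf ρ g
  have h1 : ρ.character g = (ρ g).charpoly.roots.sum := trace_eq_roots_sum (ρ g)
  constructor
  · intro h
    rw [h1] at h
    set s := (ρ g).charpoly.roots with hs
    have hcard : Multiset.card s = Module.finrank ℂ V := card_roots_charpoly (ρ g)
    have hnorm : ∀ μ ∈ s, ‖μ‖ = 1 := fun μ hμ =>
      norm_eq_one_of_pow_eq_one' hm (root_pow_eq_one hpow hμ)
    have hsum : (s.map (fun μ => 1 - ((1 : ℂ) * μ).re)).sum = 0 := by
      rw [sum_one_sub_re, one_mul, h, hcard]
      simp
    have hnn : ∀ x ∈ s.map (fun μ => 1 - ((1 : ℂ) * μ).re), 0 ≤ x := by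
      intro x hx
      obtain ⟨μ, hμ, rfl⟩ := Multiset.mem_map.mp hx
      have h2 : ((1 : ℂ) * μ).re ≤ ‖(1 : ℂ) * μ‖ := Complex.re_le_norm _
      rw [one_mul, hnorm μ hμ] at h2
      rw [one_mul]
      linarith
    have hall := multiset_all_zero_of_sum_zero _ hnn hsum
    have hone : ∀ μ ∈ s, μ = 1 := by
      intro μ hμ
      have h0 := hall _ (Multiset.mem_map.mpr ⟨μ, hμ, rfl⟩)
      rw [one_mul] at h0
      have hre : μ.re = 1 := by linarith
      have hn := hnorm μ hμ
      have him : μ.im = 0 := by
        have h2 : μ.re ^ 2 + μ.im ^ 2 = 1 := by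
          have := Complex.sq_norm μ
          rw [hn, Complex.normSq_apply] at this
          nlinarith [this]
        rw [hre] at h2
        have : μ.im ^ 2 = 0 := by linarith
        exact pow_eq_zero_iff (by norm_num) |>.mp this
      exact Complex.ext (by simp [hre]) (by simp [him])
    have hss := isSemisimple_of_pow_eq_one hm hpow
    have := eq_smul_of_roots hss hone
    ext v
    rw [this v, one_smul]
    rfl
  · intro h
    rw [Representation.character, h]
    simp

end Cfsg.Agent.S0139
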