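import Cfsg.Statements.S0140
import Cfsg.Agent.Lib.Helper8.FinOrdEnd

set_option autoImplicit false
open Cfsg

namespace Cfsg.Agent.S0140

open Cfsg.Agent.Lib.Helper8

/-- Every value of the character of a complex representation of a finite group is an algebraic integer. -/
theorem result {G : Type*} [Group G] [Finite G] {V : Type*} [AddCommGroup V] [Module ℂ V] [FiniteDimensional ℂ V] (ρ : Representation ℂ G V) (g : G) : IsIntegral ℤ (ρ.character g) := by
  have hm : 0 < orderOf g := orderOf_pos g
  have hpow := rep_pow_orderOf ρ g
  have h1 : ρ.character g = (ρ g).charpoly.roots.sum := trace_eq_roots_sum (ρ g)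
  rw [h1]
  apply IsIntegral.multiset_sum
  intro μ hμ
  apply IsIntegral.of_pow hm
  rw [root_pow_eq_one hpow hμ]
  exact isIntegral_one

end Cfsg.Agent.S0140
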