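import Cfsg.Statements.S0145
import Cfsg.Agent.Lib.Helper8.CharComplete2

set_option autoImplicit false
open scoped ComplexConjugate
open Cfsg

namespace Cfsg.Agent.S0145

/-- Column orthogonality: the sum over the irreducible characters χ of χ g * conj (χ h) is the order of the centralizer of g if g and h are conjugate, and is 0 otherwise. -/
theorem result {G : Type*} [Group G] [Finite G] (g h : G) : (IsConj g h → ∑ᶠ χ : Cfsg.IrrCharacter G, (χ : G → ℂ) g * conj ((χ : G → ℂ) h) = (Nat.card (Subgroup.centralizer ({g} : Set G)) : ℂ)) ∧ (¬ IsConj g h → ∑ᶠ χ : Cfsg.IrrCharacter G, (χ : G → ℂ) g * conj ((χ : G → ℂ) h) = 0) := by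
  classical
  have : Fintype G := Fintype.ofFinite G
  have := Cfsg.Agent.Lib.Helper8.irr_finite (G := G)
  have : Fintype (IrrCharacter G) := Fintype.ofFinite _
  rw [finsum_eq_sum_of_fintype]
  have key := Cfsg.Agent.Lib.Helper8.irr_sum_mul_conj g h
  constructor
  · intro hc
    rw [key, if_pos hc]
    -- centralizers of conjugate elements have the same cardinality
    have h1 := Cfsg.Agent.Lib.Helper8.card_orbit_mul_card_centralizer g
    have h2 := Cfsg.Agent.Lib.Helper8.card_orbit_mul_card_centralizer h
    have horb : MulAction.orbit (ConjAct G) g = MulAction.orbit (ConjAct G) h := by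
      apply MulAction.orbit_eq_iff.mpr
      rw [ConjAct.mem_orbit_conjAct]
      exact hc
    rw [horb, ← h2] at h1
    have hpos : 0 < (MulAction.orbit (ConjAct G) h).ncard :=
      (Set.ncard_pos (Set.toFinite _)).mpr ⟨h, MulAction.mem_orbit_self h⟩
    have := Nat.eq_of_mul_eq_mul_left hpos h1
    rw [this]
  · intro hc
    rw [key, if_neg hc]

end Cfsg.Agent.S0145
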