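import Cfsg.Statements.S0151
import Cfsg.Agent.Lib.Helper8.CharBessel

set_option autoImplicit false
open Cfsg

namespace Cfsg.Agent.S0151

open Cfsg.Agent.Lib.Helper8

/-- The irreducible complex characters of a finite group are linearly independent over ℂ as functions on the group. -/
theorem result {G : Type*} [Group G] [Finite G] : LinearIndependent ℂ (fun χ : Cfsg.IrrCharacter G => (χ : G → ℂ)) := by
  classical
  have : Fintype G := Fintype.ofFinite G
  rw [linearIndependent_iff']
  intro s a hsum ψ hψ
  have hG : ∀ g : G, ∑ χ ∈ s, a χ * χ.1 g = 0 := by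
    intro g
    have h1 := congrFun hsum g
    simp only [Finset.sum_apply, Pi.smul_apply, smul_eq_mul, Pi.zero_apply] at h1
    exact h1
  have h2 : classInner (fun g => ∑ χ ∈ s, a χ * χ.1 g) ψ.1 = 0 := by
    have : (fun g => ∑ χ ∈ s, a χ * χ.1 g) = fun _ => (0 : ℂ) := funext hG
    rw [this]
    unfold classInner
    simp
  rw [classInner_sum_left] at h2
  have h3 : ∑ χ ∈ s, a χ * classInner χ.1 ψ.1 = a ψ := by
    rw [Finset.sum_eq_single ψ]
    · rw [irr_classInner ψ.2 ψ.2, if_pos rfl, mul_one]
    · intro χ _ hne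
      rw [irr_classInner χ.2 ψ.2, if_neg (fun h => hne (Subtype.ext h)), mul_zero]
    · intro h; exact absurd hψ h
  rw [h3] at h2
  exact h2

end Cfsg.Agent.S0151
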