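import Cfsg.Statements.S0156
import Cfsg.Agent.Lib.Helper8.CharComplete2
import Cfsg.Agent.S0155

set_option autoImplicit false
open Cfsg

namespace Cfsg.Agent.S0156

/-- The character of the left regular representation is the sum over the irreducible characters χ of χ 1 • χ. -/
theorem result {G : Type*} [Group G] [Fintype G] : (Representation.leftRegular ℂ G).character = ∑ᶠ χ : Cfsg.IrrCharacter G, (χ : G → ℂ) 1 • (χ : G → ℂ) := by
  classical
  have := Cfsg.Agent.Lib.Helper8.irr_finite (G := G)
  have : Fintype (IrrCharacter G) := Fintype.ofFinite _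
  rw [finsum_eq_sum_of_fintype]
  have hcf : IsClassFunction G (Representation.leftRegular ℂ G).character :=
    Cfsg.Agent.Lib.Helper8.isClassFunction_of_isCharacter
      (Cfsg.Agent.Lib.Helper8.isCharacter_of_rep _)
  have h1 := Cfsg.Agent.Lib.Helper8.classFunction_eq_sum hcf
  conv_lhs => rw [h1]
  apply Finset.sum_congr rfl
  intro χ _
  congr 1
  unfold classInner
  have hGne : (Nat.card G : ℂ) ≠ 0 := Nat.cast_ne_zero.mpr Nat.card_pos.ne'
  rw [Finset.sum_eq_single (1 : G)]
  · rw [Cfsg.Agent.S0155.result, if_pos rfl, ← mul_assoc, inv_mul_cancel₀ hGne, one_mul]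
    obtain ⟨n, ρ, -, hρ⟩ := χ.2
    rw [← hρ, Representation.char_one]
    simp
  · intro g _ hg
    rw [Cfsg.Agent.S0155.result, if_neg hg, zero_mul]
  · intro h; exact absurd (Finset.mem_univ _) h

end Cfsg.Agent.S0156
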