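import Cfsg.Statements.S0158
import Cfsg.Agent.Lib.Helper8.CharFS

set_option autoImplicit false
open Cfsg

namespace Cfsg.Agent.S0158

/-- The Frobenius–Schur indicator of an irreducible complex representation of a finite group — the average over s of the character at s * s — is 0, 1 or −1, and it vanishes exactly when some character value is not real. -/
theorem result {G : Type*} [Group G] [Fintype G] {V : Type*} [AddCommGroup V] [Module ℂ V] [FiniteDimensional ℂ V] (ρ : Representation ℂ G V) [ρ.IsIrreducible] : ((Nat.card G : ℂ)⁻¹ * ∑ s : G, ρ.character (s * s) = 0 ∨ (Nat.card G : ℂ)⁻¹ * ∑ s : G, ρ.character (s * s) = 1 ∨ (Nat.card G : ℂ)⁻¹ * ∑ s : G, ρ.character (s * s) = -1) ∧ ((Nat.card G : ℂ)⁻¹ * ∑ s : G, ρ.character (s * s) = 0 ↔ ∃ s : G, (ρ.character s).im ≠ 0) := by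
  classical
  have hρ : ρ.IsIrreducible := inferInstance
  obtain ⟨n, ρ', hρ', hchar⟩ := Cfsg.Agent.Lib.Helper8.isIrrCharacter_of_irreducible hρ
  obtain ⟨h0, h1⟩ := Cfsg.Agent.Lib.Helper8.fs_main n ρ' hρ'
  rw [hchar] at h0 h1
  by_cases hr : ∀ g : G, (ρ.character g).im = 0
  · obtain ⟨hν, -, -⟩ := h1 hr
    constructor
    · rcases hν with h | h
      · right; left; exact h
      · right; right; exact h
    · constructor
      · intro hzero
        exfalso
        rcases hν with h | h
        · rw [h] at hzero; exact one_ne_zero hzero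
        · rw [h] at hzero; exact (neg_ne_zero.mpr one_ne_zero) hzero
      · rintro ⟨s, hs⟩
        exact absurd (hr s) hs
  · obtain ⟨hν, -⟩ := h0 hr
    constructor
    · left; exact hν
    · constructor
      · intro _
        push Not at hr
        exact hr
      · intro _
        exact hν

end Cfsg.Agent.S0158
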