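import Cfsg.Statements.S0159
import Cfsg.Agent.Lib.Helper8.CharAvg

set_option autoImplicit false
open Cfsg

namespace Cfsg.Agent.S0159

/-- The number of solutions of s * s = 1 in a finite group equals the sum, over the irreducible characters χ, of (the average over s of χ (s * s)) times χ 1. -/
theorem result {G : Type*} [Group G] [Fintype G] : (Nat.card {s : G // s * s = 1} : ℂ) = ∑ᶠ χ : Cfsg.IrrCharacter G, ((Nat.card G : ℂ)⁻¹ * ∑ s : G, (χ : G → ℂ) (s * s)) * (χ : G → ℂ) 1 := by
  classical
  open Cfsg.Agent.Lib.Helper8 in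
  have := irr_finite (G := G)
  have : Fintype (IrrCharacter G) := Fintype.ofFinite _
  rw [finsum_eq_sum_of_fintype]
  have hw := card_fiber_conj (fun s : G => s * s) (fun g => (MulAut.conj g).toEquiv) (by
    intro g s
    simp only [MulEquiv.toEquiv_eq_coe, EquivLike.coe_coe, MulAut.conj_apply]
    group)
  have h1 := count_fiber_eq (fun s : G => s * s) hw 1
  rw [Nat.card_eq_fintype_card, Fintype.card_subtype, h1]
  apply Finset.sum_congr rfl
  intro ψ _
  congr 2
  rw [← Equiv.sum_comp (Equiv.inv G)]
  apply Finset.sum_congr rfl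
  intro s _
  simp only [Equiv.inv_apply]
  rw [← irr_inv]
  simp

end Cfsg.Agent.S0159
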