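import Cfsg.Statements.S0160
import Cfsg.Agent.Lib.Helper8.CharPerm

set_option autoImplicit false
open Cfsg

namespace Cfsg.Agent.S0160

/-- A finite group has as many real-valued irreducible complex characters as conjugacy classes closed under taking inverses. -/
theorem result {G : Type*} [Group G] [Finite G] : Nat.card {χ : Cfsg.IrrCharacter G // ∀ g : G, ((χ : G → ℂ) g).im = 0} = Nat.card {C : ConjClasses G // ∀ g : G, ConjClasses.mk g = C → IsConj g g⁻¹} := by
  classical
  open Cfsg.Agent.Lib.Helper8 in
  have h := perm_lemma (G := G) (fun g => g⁻¹)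
    (by
      intro g h hgh
      obtain ⟨c, hc⟩ := isConj_iff.mp hgh
      exact isConj_iff.mpr ⟨c, by rw [← hc]; group⟩)
    (fun χ => by
      have h1 := irr_conj χ.2
      have h2 : (χ.1 ∘ fun g => g⁻¹) = fun g => (starRingEnd ℂ) (χ.1 g) := by
        ext g
        simp only [Function.comp_apply]
        exact irr_inv χ g
      rw [h2]; exact h1)
  have h2 : Nat.card {C : ConjClasses G // ∀ g : G, ConjClasses.mk g = C → IsConj g g⁻¹} =
      Nat.card {C : ConjClasses G // ∀ g : G, ConjClasses.mk g = C → IsConj g⁻¹ g} := by
    apply Nat.card_congr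
    apply Equiv.subtypeEquivRight
    intro C
    exact ⟨fun hC g hg => (hC g hg).symm, fun hC g hg => (hC g hg).symm⟩
  have h3 : Nat.card {χ : IrrCharacter G // ∀ g : G, ((χ : G → ℂ) g).im = 0} =
      Nat.card {χ : IrrCharacter G // (χ.1 ∘ fun g => g⁻¹) = χ.1} := by
    apply Nat.card_congr
    apply Equiv.subtypeEquivRight
    intro χ
    constructor
    · intro hχ
      ext g
      simp only [Function.comp_apply]
      rw [irr_inv χ g]
      exact Complex.conj_eq_iff_im.mpr (hχ g)
    · intro hχ g
      have := congrFun hχ g
      simp only [Function.comp_apply] at this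
      rw [irr_inv χ g] at this
      exact Complex.conj_eq_iff_im.mp this
  rw [h2, h3, h]

end Cfsg.Agent.S0160
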