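import Cfsg.Statements.S0168
import Cfsg.Agent.Lib.Helper8.CharAvg
import Cfsg.Agent.S0139

set_option autoImplicit false
open Cfsg

namespace Cfsg.Agent.S0168

/-- The Burnside–Brauer Theorem. Let χ be the character of a faithful complex representation of a finite group, taking m distinct values. Then every irreducible character has nonzero inner product with χ ^ i for some i < m. -/
theorem result {G : Type*} [Group G] [Fintype G] {V : Type*} [AddCommGroup V] [Module ℂ V] [FiniteDimensional ℂ V] (ρ : Representation ℂ G V) (hfaithful : Function.Injective ρ) (ψ : G → ℂ) (hψ : Cfsg.IsIrrCharacter G ψ) : ∃ i : ℕ, i < Nat.card (Set.range ρ.character) ∧ Cfsg.classInner (fun g => ρ.character g ^ i) ψ ≠ 0 := by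
  classical
  open Cfsg.Agent.Lib.Helper8 Polynomial in
  by_contra hcon
  push Not at hcon
  set χ := ρ.character with hχ
  set vals : Finset ℂ := Finset.image χ Finset.univ with hvals
  have hm : Nat.card (Set.range χ) = vals.card := by
    rw [Nat.card_eq_fintype_card, ← Set.toFinset_card, Set.toFinset_range]
  set p : ℂ[X] := ∏ a ∈ vals.erase (χ 1), (X - C a) with hp
  have hdeg : p.natDegree = vals.card - 1 := by
    rw [hp, natDegree_finsetProd_X_sub_C_eq_card, Finset.card_erase_of_mem]
    exact Finset.mem_image.mpr ⟨1, Finset.mem_univ _, rfl⟩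
  have hvpos : 0 < vals.card := Finset.card_pos.mpr ⟨χ 1, Finset.mem_image.mpr ⟨1, Finset.mem_univ _, rfl⟩⟩
  have hGne : (Nat.card G : ℂ) ≠ 0 := Nat.cast_ne_zero.mpr Nat.card_pos.ne'
  -- all moments vanish
  have hmom : ∀ i : ℕ, i < vals.card → ∑ g : G, χ g ^ i * (starRingEnd ℂ) (ψ g) = 0 := by
    intro i hi
    have := hcon i (by rw [hm]; exact hi)
    unfold classInner at this
    rcases mul_eq_zero.mp this with h | h
    · exact absurd (inv_eq_zero.mp h) hGne
    · exact h
  have hsum0 : ∑ g : G, p.eval (χ g) * (starRingEnd ℂ) (ψ g) = 0 := by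
    have : ∀ g : G, p.eval (χ g) * (starRingEnd ℂ) (ψ g) =
        ∑ i ∈ Finset.range (p.natDegree + 1), p.coeff i * (χ g ^ i * (starRingEnd ℂ) (ψ g)) := by
      intro g
      rw [eval_eq_sum_range, Finset.sum_mul]
      apply Finset.sum_congr rfl
      intro i _
      ring
    simp_rw [this]
    rw [Finset.sum_comm]
    apply Finset.sum_eq_zero
    intro i hi
    rw [← Finset.mul_sum, hmom i (by rw [Finset.mem_range, hdeg] at hi; omega), mul_zero]
  -- but only g = 1 contributes
  have hone : ∀ g : G, g ≠ 1 → p.eval (χ g) = 0 := by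
    intro g hg
    rw [hp, eval_prod]
    apply Finset.prod_eq_zero (i := χ g)
    · rw [Finset.mem_erase]
      refine ⟨?_, Finset.mem_image.mpr ⟨g, Finset.mem_univ _, rfl⟩⟩
      intro heq
      apply hg
      have h1 : ρ.character g = (Module.finrank ℂ V : ℂ) := by
        rw [← Representation.char_one (ρ := ρ)]; exact heq
      have h2 := (Cfsg.Agent.S0139.result ρ g).mp h1
      apply hfaithful
      rw [h2, map_one]; rfl
    · simp
  rw [Finset.sum_eq_single (1 : G) (fun g _ hg => by rw [hone g hg, zero_mul])
    (fun h => absurd (Finset.mem_univ _) h)] at hsum0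
  rcases mul_eq_zero.mp hsum0 with h | h
  · rw [hp, eval_prod, Finset.prod_eq_zero_iff] at h
    obtain ⟨a, ha, ha0⟩ := h
    simp only [eval_sub, eval_X, eval_C] at ha0
    exact (Finset.mem_erase.mp ha).1 (sub_eq_zero.mp ha0).symm
  · have h1 := irr_one_ne_zero ⟨ψ, hψ⟩
    apply h1
    have := congrArg (starRingEnd ℂ) h
    simpa using this

end Cfsg.Agent.S0168
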