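import Cfsg.Statements.S0171
import Cfsg.Agent.Lib.Helper8.CharClifford2
import Cfsg.Agent.Lib.Helper8.CharPerm

set_option autoImplicit false
open Cfsg

namespace Cfsg.Agent.S0171

open Cfsg.Agent.Lib.Helper8

/-- In a Frobenius-type situation, a non-identity element of `H` fixes only the principal
irreducible character of `K`. -/
theorem frobenius_fixed_irr {G : Type*} [Group G] [Finite G] (K H : Subgroup G) (hKn : K.Normal)
    (hfpf : ∀ h ∈ H, h ≠ 1 → ∀ k ∈ K, h * k = k * h → k = 1) (h : G) (hh : h ∈ H) (hh1 : h ≠ 1)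
    (τ : IrrCharacter K) (hfix : conjChar hKn τ.1 h = τ.1) : τ.1 = fun _ => 1 := by
  classical
  set β : K ≃* K := @MulAut.conjNormal G _ K hKn h with hβ
  have hβapp : ∀ c : K, ((β c : K) : G) = h * c * h⁻¹ := fun c => rfl
  have hperm := perm_lemma (G := K) (fun c => β c)
    (by
      intro a b hab
      obtain ⟨c, hc⟩ := isConj_iff.mp hab
      exact isConj_iff.mpr ⟨β c, by rw [← hc]; simp⟩)
    (fun χ => isIrrCharacter_comp_surjective β.toMonoidHom β.surjective χ.2)
  -- only the trivial class is fixed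
  have hclass : ∀ c : K, IsConj (β c) c → c = 1 := by
    intro c hc
    obtain ⟨k, hk⟩ := isConj_iff.mp hc
    -- k * β c * k⁻¹ = c, so (k h) c (k h)⁻¹ = c
    have h1 : ((k : G) * h) * (c : G) * ((k : G) * h)⁻¹ = c := by
      have := congrArg (fun x : K => (x : G)) hk
      simp only [Subgroup.coe_mul, Subgroup.coe_inv, hβapp] at this
      calc ((k : G) * h) * (c : G) * ((k : G) * h)⁻¹ = (k : G) * (h * (c : G) * h⁻¹) * (k : G)⁻¹ := by group
        _ = c := this
    -- the map m ↦ m h m⁻¹ h⁻¹ is a bijection of K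
    let f : K → K := fun m => ⟨(m : G) * h * (m : G)⁻¹ * h⁻¹, by
      have h2 := hKn.conj_mem (m⁻¹ : K) (m⁻¹ : K).2 h
      have h3 := K.mul_mem m.2 h2
      simpa [mul_assoc] using h3⟩
    have hfinj : Function.Injective f := by
      intro m m' hmm
      have h2 : (m : G) * h * (m : G)⁻¹ * h⁻¹ = (m' : G) * h * (m' : G)⁻¹ * h⁻¹ := congrArg Subtype.val hmm
      have h3 : h * ((m' : G)⁻¹ * (m : G)) = ((m' : G)⁻¹ * (m : G)) * h := by
        have h4 : (m : G) * h * (m : G)⁻¹ = (m' : G) * h * (m' : G)⁻¹ := mul_right_cancel h2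
        calc h * ((m' : G)⁻¹ * (m : G)) = (m' : G)⁻¹ * ((m' : G) * h * (m' : G)⁻¹) * (m : G) := by group
          _ = (m' : G)⁻¹ * ((m : G) * h * (m : G)⁻¹) * (m : G) := by rw [h4]
          _ = ((m' : G)⁻¹ * (m : G)) * h := by group
      have h5 := hfpf h hh hh1 ((m' : G)⁻¹ * (m : G)) (K.mul_mem (K.inv_mem m'.2) m.2) h3
      apply Subtype.ext
      have := inv_mul_eq_one.mp h5
      exact this.symm
    have hfsurj : Function.Surjective f := Finite.surjective_of_injective hfinj
    obtain ⟨m, hm⟩ := hfsurj k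
    have hm' : (m : G) * h * (m : G)⁻¹ = (k : G) * h := by
      have := congrArg Subtype.val hm
      simp only [f] at this
      rw [← this]; group
    rw [← hm'] at h1
    -- m⁻¹ c m commutes with h
    have h6 : h * ((m : G)⁻¹ * (c : G) * (m : G)) = ((m : G)⁻¹ * (c : G) * (m : G)) * h := by
      have h7 : (m : G) * h * (m : G)⁻¹ * (c : G) = (c : G) * ((m : G) * h * (m : G)⁻¹) := by
        calc (m : G) * h * (m : G)⁻¹ * (c : G)
            = ((m : G) * h * (m : G)⁻¹ * (c : G) * ((m : G) * h * (m : G)⁻¹)⁻¹) * ((m : G) * h * (m : G)⁻¹) := by group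
          _ = (c : G) * ((m : G) * h * (m : G)⁻¹) := by rw [h1]
      calc h * ((m : G)⁻¹ * (c : G) * (m : G)) = (m : G)⁻¹ * ((m : G) * h * (m : G)⁻¹ * (c : G)) * (m : G) := by group
        _ = (m : G)⁻¹ * ((c : G) * ((m : G) * h * (m : G)⁻¹)) * (m : G) := by rw [h7]
        _ = ((m : G)⁻¹ * (c : G) * (m : G)) * h := by group
    have h8 := hfpf h hh hh1 _ (K.mul_mem (K.mul_mem (K.inv_mem m.2) c.2) m.2) h6
    apply Subtype.ext
    have : (c : G) = (m : G) * ((m : G)⁻¹ * (c : G) * (m : G)) * (m : G)⁻¹ := by group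
    rw [this, h8]; simp
  have hone : Nat.card {C : ConjClasses K // ∀ c : K, ConjClasses.mk c = C → IsConj (β c) c} = 1 := by
    rw [Nat.card_eq_one_iff_unique]
    refine ⟨⟨?_⟩, ⟨⟨ConjClasses.mk 1, ?_⟩⟩⟩
    · rintro ⟨C, hC⟩ ⟨D, hD⟩
      apply Subtype.ext
      obtain ⟨c, rfl⟩ := ConjClasses.mk_surjective C
      obtain ⟨d, rfl⟩ := ConjClasses.mk_surjective D
      show ConjClasses.mk c = ConjClasses.mk d
      rw [hclass c (hC c rfl), hclass d (hD d rfl)]
    · intro c hc
      have : c = 1 := by
        rw [ConjClasses.mk_eq_mk_iff_isConj, isConj_one_left] at hc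
        exact hc
      rw [this]; simp
  rw [hone] at hperm
  have hsub := (Nat.card_eq_one_iff_unique.mp hperm.symm).1
  have hprin : ((⟨fun _ => (1 : ℂ), principal_isIrrCharacter⟩ : IrrCharacter K).1 ∘ fun c => β c) =
      (⟨fun _ => (1 : ℂ), principal_isIrrCharacter⟩ : IrrCharacter K).1 := by
    ext c; rfl
  have hτfix : (τ.1 ∘ fun c => β c) = τ.1 := by
    ext c
    have h1 := congrFun hfix c
    simp only [Function.comp_apply]
    rw [← h1]
    rfl
  have := hsub.elim ⟨τ, hτfix⟩ ⟨⟨fun _ => (1 : ℂ), principal_isIrrCharacter⟩, hprin⟩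
  exact congrArg (fun x => x.1.1) this

/-- Let G = K H with K normal, K ⊓ H trivial, and no non-identity element of H commuting with a non-identity element of K (a Frobenius group with kernel K and complement H). Then every non-principal irreducible character of K induces to an irreducible character of G. -/
theorem result {G : Type*} [Group G] [Fintype G] (K H : Subgroup G) [K.Normal] (hKH : K ⊓ H = ⊥) (hKH' : K ⊔ H = ⊤) (hfpf : ∀ h ∈ H, h ≠ 1 → ∀ k ∈ K, h * k = k * h → k = 1) (τ : K → ℂ) (hτ : Cfsg.IsIrrCharacter K τ) (hτ1 : τ ≠ fun _ => 1) : Cfsg.IsIrrCharacter G (Cfsg.indFun K τ) := by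
  classical
  have hKn : K.Normal := inferInstance
  have : Fintype K := Fintype.ofFinite K
  have hchar : IsCharacter G (indFun K τ) := isCharacter_indFun K (irr_isCharacter hτ)
  apply isIrrCharacter_of_norm_one hchar
  have hKne : (Nat.card K : ℂ) ≠ 0 := Nat.cast_ne_zero.mpr Nat.card_pos.ne'
  have hcount := card_mul_norm_indFun hKn hτ
  -- the stabilizer of τ is exactly K
  have hstab : Finset.univ.filter (fun x : G => conjChar hKn τ x = τ) =
      Finset.univ.filter (fun x : G => x ∈ K) := by
    ext x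
    simp only [Finset.mem_filter, Finset.mem_univ, true_and]
    constructor
    · intro hx
      by_contra hxK
      -- write x = k * h
      have hxtop : x ∈ K ⊔ H := by rw [hKH']; trivial
      rw [← SetLike.mem_coe, Subgroup.normal_mul] at hxtop
      obtain ⟨k, hk, h, hh, rfl⟩ := Set.mem_mul.mp hxtop
      have hh1 : h ≠ 1 := by
        intro h1
        apply hxK
        rw [h1, mul_one]; exact hk
      have hfix : conjChar hKn τ h = τ := by
        have hkh : conjChar hKn τ h = conjChar hKn τ (k * h) := by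
          ext n
          simp only [conjChar]
          have hcf := isClassFunction_of_isCharacter (irr_isCharacter hτ)
          have := hcf ⟨h * n * h⁻¹, hKn.conj_mem n n.2 h⟩ ⟨k, hk⟩
          rw [← this]
          congr 1
          apply Subtype.ext
          simp only [Subgroup.coe_mul, Subgroup.coe_inv]
          group
        rw [hkh]; exact hx
      exact hτ1 (frobenius_fixed_irr K H hKn hfpf h hh hh1 ⟨τ, hτ⟩ hfix)
    · intro hx
      ext n
      simp only [conjChar]
      have hcf := isClassFunction_of_isCharacter (irr_isCharacter hτ)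
      have := hcf n ⟨x, hx⟩
      rw [← this]
      congr 1
  rw [hstab] at hcount
  have hcardK : (Finset.univ.filter (fun x : G => x ∈ K)).card = Nat.card K := by
    rw [Nat.card_eq_fintype_card, Fintype.card_subtype]
  rw [hcardK] at hcount
  exact mul_left_cancel₀ hKne (by rw [hcount, mul_one])

end Cfsg.Agent.S0171
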