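import Cfsg.Statements.S0173
import Cfsg.Agent.Lib.Helper8.CharPerm

set_option autoImplicit false
open Cfsg

namespace Cfsg.Agent.S0173

/-- Brauer's permutation lemma for a single automorphism: the number of conjugacy classes mapped to themselves equals the number of irreducible complex characters χ with χ ∘ α = χ. -/
theorem result {G : Type*} [Group G] [Finite G] (α : G ≃* G) : Nat.card {C : ConjClasses G // ConjClasses.map α.toMonoidHom C = C} = Nat.card {χ : Cfsg.IrrCharacter G // (χ : G → ℂ) ∘ α = (χ : G → ℂ)} := by
  classical
  open Cfsg.Agent.Lib.Helper8 in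
  have h := perm_lemma (G := G) (fun g => α g)
    (by
      intro g h hgh
      obtain ⟨c, hc⟩ := isConj_iff.mp hgh
      exact isConj_iff.mpr ⟨α c, by rw [← hc]; simp⟩)
    (fun χ => isIrrCharacter_comp_surjective α.toMonoidHom α.surjective χ.2)
  have h2 : Nat.card {C : ConjClasses G // ConjClasses.map α.toMonoidHom C = C} =
      Nat.card {C : ConjClasses G // ∀ g : G, ConjClasses.mk g = C → IsConj (α g) g} := by
    apply Nat.card_congr
    apply Equiv.subtypeEquivRight
    intro C
    constructor
    · intro hC g hg
      rw [← hg] at hC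
      rw [← ConjClasses.mk_eq_mk_iff_isConj, ← hC]
      rfl
    · intro hC
      obtain ⟨g₀, rfl⟩ := ConjClasses.mk_surjective C
      have := hC g₀ rfl
      rw [← ConjClasses.mk_eq_mk_iff_isConj] at this
      have h3 : ConjClasses.map α.toMonoidHom (ConjClasses.mk g₀) = ConjClasses.mk (α g₀) := rfl
      rw [h3, this]
  rw [h2, h]

end Cfsg.Agent.S0173
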