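import Cfsg.Statements.S0178
import Cfsg.Agent.Lib.Helper8.CharInd

set_option autoImplicit false
open Cfsg

namespace Cfsg.Agent.S0178

/-- The degree of an irreducible complex representation of a finite group is at most the index of any abelian subgroup. -/
theorem result {G : Type*} [Group G] [Finite G] {V : Type*} [AddCommGroup V] [Module ℂ V] [FiniteDimensional ℂ V] (ρ : Representation ℂ G V) [ρ.IsIrreducible] (A : Subgroup G) (hA : ∀ a ∈ A, ∀ b ∈ A, a * b = b * a) : Module.finrank ℂ V ≤ A.index := by
  classical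
  open Cfsg.Agent.Lib.Helper8 in
  have hρ : ρ.IsIrreducible := inferInstance
  have : Fintype G := Fintype.ofFinite G
  have : Fintype A := Fintype.ofFinite A
  have := irr_finite (G := G)
  have : Fintype (IrrCharacter G) := Fintype.ofFinite _
  have := irr_finite (G := A)
  have : Fintype (IrrCharacter A) := Fintype.ofFinite _
  have hnt : Nontrivial V := irreducible_nontrivial hρ
  have hAcomm : IsMulCommutative A := ⟨⟨fun a b => Subtype.ext (hA a a.2 b b.2)⟩⟩
  have hχirr := isIrrCharacter_of_irreducible hρ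
  set χ₀ : IrrCharacter G := ⟨ρ.character, hχirr⟩ with hχ₀
  have hθ : IsCharacter A (fun a : A => ρ.character a) := isCharacter_restrict A (isCharacter_of_rep ρ)
  obtain ⟨m, hm⟩ := isCharacter_decomp hθ
  have hex : ∃ lam, m lam ≠ 0 := by
    by_contra hcon
    push Not at hcon
    have h1 := hm 1
    simp only [hcon, Nat.cast_zero, zero_mul, Finset.sum_const_zero] at h1
    rw [Subgroup.coe_one, Representation.char_one] at h1
    have h2 : Module.finrank ℂ V = 0 := by exact_mod_cast h1
    have h3 : 0 < Module.finrank ℂ V := Module.finrank_pos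
    omega
  obtain ⟨lam, hlam⟩ := hex
  have hinner : classInner (fun a : A => ρ.character a) lam.1 = (m lam : ℂ) := by
    have : (fun a : A => ρ.character a) = fun g => ∑ ψ : IrrCharacter A, (m ψ : ℂ) * ψ.1 g := funext hm
    rw [this]
    exact classInner_comb_irr (fun ψ => (m ψ : ℂ)) lam
  have hfrob : classInner (indFun A lam.1) ρ.character = (m lam : ℂ) := by
    rw [frobenius_reciprocity A lam.1 ρ.character (isClassFunction_of_isCharacter (isCharacter_of_rep ρ)),
      classInner_conj_symm, hinner]
    simp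
  have hind : IsCharacter G (indFun A lam.1) := isCharacter_indFun A (irr_isCharacter lam.2)
  obtain ⟨n, hn⟩ := isCharacter_decomp hind
  have hnχ : (n χ₀ : ℂ) = (m lam : ℂ) := by
    have : indFun A lam.1 = fun g => ∑ ψ : IrrCharacter G, (n ψ : ℂ) * ψ.1 g := funext hn
    rw [← hfrob, this]
    exact (classInner_comb_irr (fun ψ => (n ψ : ℂ)) χ₀).symm
  have hnχ' : n χ₀ = m lam := by exact_mod_cast hnχ
  -- degrees
  have hdegex : ∀ ψ : IrrCharacter G, ∃ d : ℕ, ψ.1 1 = d := by
    intro ψ
    obtain ⟨k, σ, hσ, hσψ⟩ := ψ.2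
    exact ⟨Module.finrank ℂ (Fin k → ℂ), by rw [← hσψ, Representation.char_one]⟩
  choose d hd using hdegex
  have hdχ : d χ₀ = Module.finrank ℂ V := by
    have := hd χ₀
    simp only [hχ₀, Representation.char_one] at this
    exact_mod_cast this.symm
  -- value of the induced character at 1
  have hlam1 : lam.1 1 = 1 := by
    obtain ⟨k, σ, hσ, hσψ⟩ := lam.2
    have h1 := Representation.IsIrreducible.finrank_eq_one_of_isMulCommutative σ
    rw [← hσψ, Representation.char_one, h1]
    simp
  have hind1 : indFun A lam.1 1 = (A.index : ℂ) := by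
    rw [indFun_apply]
    have : ∀ x : G, extendByZero A lam.1 (x⁻¹ * 1 * x) = 1 := by
      intro x
      have h1 : x⁻¹ * 1 * x = ((1 : A) : G) := by simp
      rw [h1, extendByZero_coe, hlam1]
    simp_rw [this]
    rw [Finset.sum_const, Finset.card_univ, nsmul_eq_mul, mul_one, ← Nat.card_eq_fintype_card,
      ← Subgroup.card_mul_index A]
    have hAne : (Nat.card A : ℂ) ≠ 0 := Nat.cast_ne_zero.mpr Nat.card_pos.ne'
    push_cast
    field_simp
  have hsum : A.index = ∑ ψ : IrrCharacter G, n ψ * d ψ := by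
    have h1 := hn 1
    rw [hind1] at h1
    have : ((A.index : ℕ) : ℂ) = ((∑ ψ : IrrCharacter G, n ψ * d ψ : ℕ) : ℂ) := by
      rw [h1]; push_cast
      apply Finset.sum_congr rfl
      intro ψ _
      rw [hd ψ]
    exact_mod_cast this
  rw [hsum, ← hdχ]
  calc d χ₀ ≤ n χ₀ * d χ₀ := Nat.le_mul_of_pos_left _ (by rw [hnχ']; exact Nat.pos_of_ne_zero hlam)
    _ ≤ ∑ ψ : IrrCharacter G, n ψ * d ψ :=
      Finset.single_le_sum (f := fun ψ => n ψ * d ψ) (fun _ _ => Nat.zero_le _) (Finset.mem_univ χ₀)

end Cfsg.Agent.S0178
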