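import Cfsg.Statements.S0180
import Cfsg.Agent.Lib.Helper8.CharVanish
import Cfsg.Agent.Lib.Helper8.CharBessel
import Cfsg.Agent.S0136

set_option autoImplicit false
open Cfsg

namespace Cfsg.Agent.S0180

/-- Every irreducible complex character of a finite group takes only rational values if and only if g is conjugate to g ^ m for every element g and every m coprime to the group order. -/
theorem result {G : Type*} [Group G] [Finite G] : (∀ χ : Cfsg.IrrCharacter G, ∀ g : G, ∃ q : ℚ, (χ : G → ℂ) g = (q : ℂ)) ↔ ∀ m : ℕ, m.Coprime (Nat.card G) → ∀ g : G, IsConj g (g ^ m) := by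
  classical
  have : Fintype G := Fintype.ofFinite G
  have hN : NeZero (Fintype.card G) := ⟨Fintype.card_ne_zero⟩
  constructor
  · intro hrat m hm g
    rw [Nat.card_eq_fintype_card] at hm
    rw [Cfsg.Agent.S0136.result]
    intro χ
    obtain ⟨n, ρ, hρ, hρχ⟩ := χ.2
    have h1 := (Cfsg.Agent.Lib.Helper8.character_rational_iff ρ g).mp (by
      obtain ⟨q, hq⟩ := hrat χ g
      exact ⟨q, by rw [hρχ]; exact hq⟩) (ZMod.unitOfCoprime m hm)
    rw [Cfsg.Agent.Lib.Helper8.pow_unitOfCoprime g hm, hρχ] at h1
    exact h1.symm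
  · intro hconj χ g
    obtain ⟨n, ρ, hρ, hρχ⟩ := χ.2
    have h1 := (Cfsg.Agent.Lib.Helper8.character_rational_iff ρ g).mpr (by
      intro u
      have hc := hconj (u : ZMod (Fintype.card G)).val (by
        rw [Nat.card_eq_fintype_card]; exact ZMod.val_coe_unit_coprime u) g
      rw [hρχ]
      exact (Cfsg.Agent.Lib.Helper8.character_isConj (Cfsg.Agent.Lib.Helper8.irr_isCharacter χ.2) hc).symm)
    rw [hρχ] at h1
    exact h1

end Cfsg.Agent.S0180
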