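import Cfsg.Statements.S0181
import Cfsg.Agent.Lib.Helper8.CharCenter

set_option autoImplicit false
open Cfsg

namespace Cfsg.Agent.S0181

/-- Let H be a normal subgroup of a finite group G and ρ an irreducible complex representation whose kernel does not contain H. If g commutes with no non-identity element of H, then the character of ρ vanishes at g. -/
theorem result {G : Type*} [Group G] [Finite G] {V : Type*} [AddCommGroup V] [Module ℂ V] [FiniteDimensional ℂ V] (ρ : Representation ℂ G V) [ρ.IsIrreducible] (H : Subgroup G) [H.Normal] (hker : ∃ h ∈ H, ρ h ≠ LinearMap.id) (g : G) (hg : ∀ h ∈ H, h * g = g * h → h = 1) : ρ.character g = 0 := by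
  classical
  open Cfsg.Agent.Lib.Helper8 in
  have hρ : ρ.IsIrreducible := inferInstance
  have : Fintype G := Fintype.ofFinite G
  have : Fintype H := Fintype.ofFinite H
  have hnt : Nontrivial V := irreducible_nontrivial hρ
  -- S = ∑_{h ∈ H} ρ h is zero
  set S : Module.End ℂ V := ∑ h : H, ρ (h : G) with hS
  have hSk : ∀ k : H, ρ (k : G) * S = S := by
    intro k
    rw [hS, Finset.mul_sum]
    apply Fintype.sum_equiv (Equiv.mulLeft k)
    intro h
    simp only [Equiv.coe_mulLeft, Subgroup.coe_mul, map_mul]
  have hScomm : ∀ x : G, ∀ v : V, S (ρ x v) = ρ x (S v) := by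
    intro x v
    have h1 : S * ρ x = ρ x * S := by
      rw [hS, Finset.sum_mul, Finset.mul_sum]
      let e : H ≃ H := {
        toFun := fun h => ⟨x⁻¹ * h * x, by
          have := (inferInstance : H.Normal).conj_mem h h.2 x⁻¹
          simpa using this⟩
        invFun := fun h => ⟨x * h * x⁻¹, (inferInstance : H.Normal).conj_mem h h.2 x⟩
        left_inv := by intro h; apply Subtype.ext; simp; group
        right_inv := by intro h; apply Subtype.ext; simp; group }
      apply Fintype.sum_equiv e
      intro h
      simp only [e, Equiv.coe_fn_mk]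
      rw [← map_mul, ← map_mul]
      congr 1
      group
    have := congrArg (fun T : Module.End ℂ V => T v) h1
    simpa [Module.End.mul_apply] using this
  obtain ⟨c, hc⟩ := schur_scalar hρ S hScomm
  have hc0 : c = 0 := by
    by_contra hne
    obtain ⟨h, hh, hρh⟩ := hker
    apply hρh
    apply LinearMap.ext
    intro v
    have h1 := congrArg (fun T : Module.End ℂ V => T v) (hSk ⟨h, hh⟩)
    simp only [Module.End.mul_apply] at h1
    rw [hc v, map_smul] at h1
    have h2 : c • (ρ h v - v) = 0 := by rw [smul_sub, h1, sub_self]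
    rcases smul_eq_zero.mp h2 with h3 | h3
    · exact absurd h3 hne
    · simpa using sub_eq_zero.mp h3
  have hS0 : S = 0 := by
    apply LinearMap.ext
    intro v
    rw [hc v, hc0, zero_smul]; rfl
  -- χ is constant on g H
  have hconj : ∀ h : H, ρ.character (g * (h : G)) = ρ.character g := by
    -- the map k ↦ g⁻¹ k⁻¹ g k is injective on H, hence surjective
    let f : H → H := fun k => ⟨g⁻¹ * (k : G)⁻¹ * g * k, by
      have h1 := (inferInstance : H.Normal).conj_mem (k⁻¹ : H) (k⁻¹ : H).2 g⁻¹
      have h2 := H.mul_mem h1 k.2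
      simpa [mul_assoc] using h2⟩
    have hfinj : Function.Injective f := by
      intro k₁ k₂ h12
      have h1 : g⁻¹ * (k₁ : G)⁻¹ * g * k₁ = g⁻¹ * (k₂ : G)⁻¹ * g * k₂ := congrArg Subtype.val h12
      -- (k₂ k₁⁻¹) commutes with g
      have h2 : ((k₂ : G) * (k₁ : G)⁻¹) * g = g * ((k₂ : G) * (k₁ : G)⁻¹) := by
        have h3 : (k₁ : G)⁻¹ * g * k₁ = (k₂ : G)⁻¹ * g * k₂ := by
          have := congrArg (fun t => g * t) h1
          simpa [mul_assoc] using this
        calc ((k₂ : G) * (k₁ : G)⁻¹) * g = (k₂ : G) * ((k₁ : G)⁻¹ * g * k₁) * (k₁ : G)⁻¹ := by group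
          _ = (k₂ : G) * ((k₂ : G)⁻¹ * g * k₂) * (k₁ : G)⁻¹ := by rw [h3]
          _ = g * ((k₂ : G) * (k₁ : G)⁻¹) := by group
      have h4 := hg ((k₂ : G) * (k₁ : G)⁻¹) (H.mul_mem k₂.2 (H.inv_mem k₁.2)) h2
      apply Subtype.ext
      have : (k₂ : G) = k₁ := by
        have := mul_inv_eq_one.mp h4
        exact this
      exact this.symm
    have hfsurj : Function.Surjective f := Finite.surjective_of_injective hfinj
    intro h
    obtain ⟨k, hk⟩ := hfsurj h
    have h1 : g * (h : G) = (k : G)⁻¹ * g * (k : G) := by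
      have : (h : G) = g⁻¹ * (k : G)⁻¹ * g * k := (congrArg Subtype.val hk).symm
      rw [this]; group
    rw [h1]
    have := Representation.char_conj ρ g (k : G)⁻¹
    simpa using this
  have hsum : ∑ h : H, ρ.character (g * (h : G)) = 0 := by
    have h1 : ∑ h : H, ρ.character (g * (h : G)) = LinearMap.trace ℂ V (ρ g * S) := by
      rw [hS, Finset.mul_sum, map_sum]
      apply Finset.sum_congr rfl
      intro h _
      rw [← map_mul]
      rfl
    rw [h1, hS0, mul_zero, map_zero]
  rw [Finset.sum_congr rfl (fun h _ => hconj h), Finset.sum_const, Finset.card_univ, nsmul_eq_mul] at hsum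
  rcases mul_eq_zero.mp hsum with h1 | h1
  · exfalso
    have : (Fintype.card H : ℂ) ≠ 0 := Nat.cast_ne_zero.mpr Fintype.card_pos.ne'
    exact this h1
  · exact h1

end Cfsg.Agent.S0181
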