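import Cfsg.Statements.S0184
import Cfsg.Agent.Lib.Helper8.CharSmallDegree
import Cfsg.Agent.Lib.Helper8.CharBurnside
import Cfsg.Agent.Lib.Helper8.CharComplete2
import Cfsg.Agent.Lib.Helper1.NilpCenter
import Cfsg.Agent.S0136

set_option autoImplicit false
open Cfsg

namespace Cfsg.Agent.S0184

open Cfsg.Agent.Lib.Helper8

theorem mem_zpowers_of_cyclic_pgroup {Z : Type*} [Group Z] [Finite Z] [IsCyclic Z] (p : ℕ) [Fact p.Prime]
    (hZ : IsPGroup p Z) (z x : Z) (hz : orderOf z = p) (hx : x ≠ 1) : z ∈ Subgroup.zpowers x := by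
  classical
  have : Fintype Z := Fintype.ofFinite Z
  have hpp : p.Prime := Fact.out
  obtain ⟨k, hk⟩ := IsPGroup.iff_orderOf.mp hZ x
  have hk0 : k ≠ 0 := by
    rintro rfl
    rw [pow_zero, orderOf_eq_one_iff] at hk
    exact hx hk
  set w := x ^ (p ^ (k - 1)) with hw
  have hwo : orderOf w = p := by
    rw [hw, orderOf_pow_of_dvd (pow_ne_zero _ hpp.ne_zero) (by rw [hk]; exact pow_dvd_pow p (by omega)), hk]
    have : p ^ k = p ^ (k - 1) * p := by rw [← pow_succ]; congr 1; omega
    rw [this, Nat.mul_div_cancel_left _ (pow_pos hpp.pos _)]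
  have hle := IsCyclic.card_pow_eq_one_le (α := Z) hpp.pos
  have hsub : (Subgroup.zpowers w : Set Z).toFinset ⊆ Finset.univ.filter (fun a : Z => a ^ p = 1) := by
    intro y hy
    rw [Set.mem_toFinset] at hy
    rw [Finset.mem_filter]
    refine ⟨Finset.mem_univ _, ?_⟩
    obtain ⟨m, rfl⟩ := hy
    rw [← zpow_natCast, ← zpow_mul, mul_comm, zpow_mul, zpow_natCast, ← hwo, pow_orderOf_eq_one, one_zpow]
  have hcard : (Subgroup.zpowers w : Set Z).toFinset.card = p := by
    rw [Set.toFinset_card, ← Nat.card_eq_fintype_card]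
    rw [← hwo]
    exact Nat.card_zpowers w
  have heq := Finset.eq_of_subset_of_card_le hsub (by rw [hcard]; convert hle)
  have hzmem : z ∈ Finset.univ.filter (fun a : Z => a ^ p = 1) := by
    rw [Finset.mem_filter]
    exact ⟨Finset.mem_univ _, by rw [← hz, pow_orderOf_eq_one]⟩
  rw [← heq, Set.mem_toFinset] at hzmem
  have hle2 : Subgroup.zpowers w ≤ Subgroup.zpowers x := by
    rw [Subgroup.zpowers_le]
    exact Subgroup.pow_mem _ (Subgroup.mem_zpowers x) _
  exact hle2 hzmem

theorem center_cyclic_of_faithful {G : Type*} [Group G] [Finite G] (n : ℕ)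
    (ρ : Representation ℂ G (Fin n → ℂ)) (hρ : ρ.IsIrreducible) (hinj : Function.Injective ρ) :
    IsCyclic (Subgroup.center G) := by
  classical
  have hnt : Nontrivial (Fin n → ℂ) := irreducible_nontrivial hρ
  have hn : 0 < n := by
    by_contra h0
    have : n = 0 := by omega
    subst this
    exact not_subsingleton (Fin 0 → ℂ) inferInstance
  set i0 : Fin n := ⟨0, hn⟩
  set e : Fin n → ℂ := Pi.single i0 1 with he
  have hsc : ∀ z : Subgroup.center G, ∃ c : ℂ, ∀ v : Fin n → ℂ, ρ (z : G) v = c • v :=
    fun z => central_scalar hρ z.2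
  have hval : ∀ (z : Subgroup.center G) (c : ℂ), (∀ v : Fin n → ℂ, ρ (z : G) v = c • v) →
      (ρ (z : G) e) i0 = c := by
    intro z c hc
    rw [hc e, he]
    simp
  let f : Subgroup.center G →* ℂ :=
    { toFun := fun z => (ρ (z : G) e) i0
      map_one' := by simp [he]
      map_mul' := by
        intro z z'
        obtain ⟨c, hc⟩ := hsc z
        obtain ⟨c', hc'⟩ := hsc z'
        have h1 : ∀ v : Fin n → ℂ, ρ ((z * z' : Subgroup.center G) : G) v = (c * c') • v := by
          intro v
          rw [Subgroup.coe_mul, map_mul, Module.End.mul_apply, hc' v, map_smul, hc v, smul_smul, mul_comm]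
        rw [hval _ _ h1, hval _ _ hc, hval _ _ hc'] }
  apply isCyclic_of_injective_ringHom f
  intro z z' hzz
  obtain ⟨c, hc⟩ := hsc z
  obtain ⟨c', hc'⟩ := hsc z'
  have h1 : (ρ (z : G) e) i0 = (ρ (z' : G) e) i0 := hzz
  rw [hval _ _ hc, hval _ _ hc'] at h1
  apply Subtype.ext
  apply hinj
  apply LinearMap.ext
  intro v
  rw [hc v, hc' v, h1]

theorem faithful_of_center_cyclic {G : Type*} [Group G] [Finite G] (p : ℕ) [Fact p.Prime]
    (hG : IsPGroup p G) (hcyc : IsCyclic (Subgroup.center G)) :
    ∃ (n : ℕ) (ρ : Representation ℂ G (Fin n → ℂ)), ρ.IsIrreducible ∧ Function.Injective ρ := by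
  classical
  have hpp : p.Prime := Fact.out
  rcases subsingleton_or_nontrivial G with hs | hnt
  · refine ⟨1, 1, ?_, ?_⟩
    · apply irreducible_of_finrank_eq_one
      simp
    · intro a b _
      exact Subsingleton.elim a b
  · have hZnt : Nontrivial (Subgroup.center G) := hG.center_nontrivial
    have hZp : IsPGroup p (Subgroup.center G) := hG.to_subgroup _
    -- an element of order p in the center
    have hpdvd : p ∣ Nat.card (Subgroup.center G) := by
      obtain ⟨m, hm⟩ := IsPGroup.iff_card.mp hZp
      have : m ≠ 0 := by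
        rintro rfl
        rw [pow_zero] at hm
        have := Finite.one_lt_card (α := Subgroup.center G)
        omega
      rw [hm]
      exact dvd_pow_self p this
    obtain ⟨z, hz⟩ := exists_prime_orderOf_dvd_card' p hpdvd
    have hz1 : (z : G) ≠ 1 := by
      intro h
      have : z = 1 := Subtype.ext h
      rw [this, orderOf_one] at hz
      exact hpp.one_lt.ne hz
    -- an irreducible character separating z from 1
    have hnc : ¬ IsConj (z : G) 1 := by rw [isConj_one_left]; exact hz1
    rw [Cfsg.Agent.S0136.result] at hnc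
    push Not at hnc
    obtain ⟨χ, hχ⟩ := hnc
    obtain ⟨n, ρ, hρ, hρχ⟩ := χ.2
    refine ⟨n, ρ, hρ, ?_⟩
    have hzker : (z : G) ∉ MonoidHom.ker ρ := by
      intro hmem
      apply hχ
      rw [← hρχ]
      have : ρ (z : G) = ρ 1 := by rw [MonoidHom.mem_ker.mp hmem, map_one]
      simp only [Representation.character, this]
    have hnil : Group.IsNilpotent G := hG.isNilpotent
    have hker : MonoidHom.ker ρ = ⊥ := by
      by_contra hne
      obtain ⟨x, hxN, hxZ, hx1⟩ := Cfsg.Agent.Lib.Helper1.exists_mem_center_of_isNilpotent (MonoidHom.ker ρ) hne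
      have hmem := mem_zpowers_of_cyclic_pgroup p hZp z ⟨x, hxZ⟩ hz (by
        intro h
        exact hx1 (congrArg Subtype.val h))
      obtain ⟨m, hm⟩ := hmem
      apply hzker
      have : (z : G) = x ^ m := by
        have := congrArg Subtype.val hm
        simpa using this.symm
      rw [this]
      exact Subgroup.zpow_mem _ hxN m
    exact (MonoidHom.ker_eq_bot_iff ρ).mp hker

/-- A finite p-group admits a faithful irreducible complex representation if and only if its centre is cyclic. -/
theorem result {G : Type*} [Group G] [Finite G] (p : ℕ) [Fact p.Prime] (hG : IsPGroup p G) : (∃ (n : ℕ) (ρ : Representation ℂ G (Fin n → ℂ)), ρ.IsIrreducible ∧ Function.Injective ρ) ↔ IsCyclic (Subgroup.center G) := by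
  constructor
  · rintro ⟨n, ρ, hρ, hinj⟩
    exact center_cyclic_of_faithful n ρ hρ hinj
  · intro hcyc
    exact faithful_of_center_cyclic p hG hcyc

end Cfsg.Agent.S0184
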