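import Cfsg.Statements.S0185
import Cfsg.Agent.Lib.Helper8.CharLinear
import Cfsg.Agent.Lib.Helper8.CharDecomp
import Cfsg.Agent.S0139

set_option autoImplicit false
open Cfsg

namespace Cfsg.Agent.S0185

/-- If a finite group has a faithful complex representation of degree less than the smallest prime dividing its order, the group is abelian. -/
theorem result {G : Type*} [Group G] [Finite G] {V : Type*} [AddCommGroup V] [Module ℂ V] [FiniteDimensional ℂ V] (ρ : Representation ℂ G V) (hfaithful : Function.Injective ρ) (hdeg : ∀ p : ℕ, p.Prime → p ∣ Nat.card G → Module.finrank ℂ V < p) (a b : G) : a * b = b * a := by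
  classical
  open Cfsg.Agent.Lib.Helper8 in
  have : Fintype G := Fintype.ofFinite G
  have := irr_finite (G := G)
  have : Fintype (IrrCharacter G) := Fintype.ofFinite _
  obtain ⟨m, hm⟩ := character_decomp_aux _ V ρ rfl
  -- degrees
  have hdegex : ∀ ψ : IrrCharacter G, ∃ d : ℕ, 0 < d ∧ ψ.1 1 = d ∧ d ∣ Nat.card G := by
    intro ψ
    obtain ⟨n, σ, hσ, hσψ⟩ := ψ.2
    have hdvd := degree_dvd_card hσ
    have hnt : Nontrivial (Fin n → ℂ) := irreducible_nontrivial hσ
    refine ⟨Module.finrank ℂ (Fin n → ℂ), Module.finrank_pos, ?_, hdvd⟩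
    rw [← hσψ, Representation.char_one]
  choose d hdpos hd1 hddvd using hdegex
  have hsum : Module.finrank ℂ V = ∑ ψ : IrrCharacter G, m ψ * d ψ := by
    have h1 := hm 1
    rw [Representation.char_one] at h1
    have : ((Module.finrank ℂ V : ℕ) : ℂ) = ((∑ ψ : IrrCharacter G, m ψ * d ψ : ℕ) : ℂ) := by
      rw [h1]; push_cast
      apply Finset.sum_congr rfl
      intro ψ _
      rw [hd1 ψ]
    exact_mod_cast this
  have hlin : ∀ ψ : IrrCharacter G, m ψ ≠ 0 → ∀ x y : G, ψ.1 (x * y * x⁻¹ * y⁻¹) = 1 := by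
    intro ψ hmψ x y
    have hle : d ψ ≤ Module.finrank ℂ V := by
      rw [hsum]
      calc d ψ ≤ m ψ * d ψ := Nat.le_mul_of_pos_left _ (Nat.pos_of_ne_zero hmψ)
        _ ≤ ∑ ψ : IrrCharacter G, m ψ * d ψ :=
          Finset.single_le_sum (f := fun ψ => m ψ * d ψ) (fun _ _ => Nat.zero_le _) (Finset.mem_univ ψ)
    have hd : d ψ = 1 := by
      by_contra hne
      obtain ⟨p, hp, hpn⟩ := Nat.exists_prime_and_dvd hne
      have h1 := hdeg p hp (hpn.trans (hddvd ψ))
      have h3 : p ≤ d ψ := Nat.le_of_dvd (hdpos ψ) hpn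
      omega
    obtain ⟨n, σ, hσ, hσψ⟩ := ψ.2
    have hn1 : n = 1 := by
      have h1 := hd1 ψ
      rw [← hσψ, Representation.char_one, hd] at h1
      simp only [Module.finrank_fin_fun] at h1
      exact_mod_cast h1
    subst hn1
    have hle' := commutator_le_ker_of_degree_one σ
    have hmem : x * y * x⁻¹ * y⁻¹ ∈ commutator G := by
      rw [commutator_def]
      exact Subgroup.commutator_mem_commutator (Subgroup.mem_top x) (Subgroup.mem_top y)
    have h2 := hle' hmem
    rw [MonoidHom.mem_ker] at h2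
    rw [← hσψ, Representation.character, h2]
    simp
  -- character at the commutator equals the degree
  have hc : ρ.character (a * b * a⁻¹ * b⁻¹) = (Module.finrank ℂ V : ℂ) := by
    rw [hm, ← Representation.char_one (ρ := ρ), hm 1]
    apply Finset.sum_congr rfl
    intro ψ _
    by_cases hmψ : m ψ = 0
    · rw [hmψ]; simp
    · rw [hlin ψ hmψ a b]
      have := hlin ψ hmψ 1 1
      simp only [mul_one, inv_one] at this
      rw [this]
  have hid := (Cfsg.Agent.S0139.result ρ (a * b * a⁻¹ * b⁻¹)).mp hc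
  have h1 : a * b * a⁻¹ * b⁻¹ = 1 := by
    apply hfaithful
    rw [hid, map_one]; rfl
  calc a * b = (a * b * a⁻¹ * b⁻¹) * (b * a) := by group
    _ = b * a := by rw [h1, one_mul]

end Cfsg.Agent.S0185
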