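import Cfsg.Statements.S0186
import Cfsg.Agent.Lib.Helper8.CharSmallDegree
import Cfsg.Agent.Lib.Helper8.CharBurnside
import Cfsg.Agent.Lib.Helper8.CharComplete2

set_option autoImplicit false
open Cfsg
open Cfsg.Agent.Lib.Helper8

namespace Cfsg.Agent.S0186

/-- Let G be a finite simple group of order n and p a prime dividing n. If G has more than n / p^2 conjugacy classes, then every Sylow p-subgroup of G is abelian. -/
theorem result {G : Type*} [Group G] [Finite G] [IsSimpleGroup G] (p : ℕ) [Fact p.Prime] (hp : p ∣ Nat.card G) (hmany : Nat.card G < p ^ 2 * Nat.card (ConjClasses G)) (P : Sylow p G) (a b : G) (ha : a ∈ P) (hb : b ∈ P) : a * b = b * a := by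
  classical
  have : Fintype G := Fintype.ofFinite G
  have := irr_finite (G := G)
  have : Fintype (IrrCharacter G) := Fintype.ofFinite _
  have hpp : p.Prime := Fact.out
  by_contra hne
  -- p^2 divides |G|
  have hp2 : p ^ 2 ∣ Nat.card G := by
    obtain ⟨m, hm⟩ := IsPGroup.iff_card.mp P.isPGroup'
    have hdvd : Nat.card P ∣ Nat.card G := Subgroup.card_subgroup_dvd_card P.1
    have hm2 : 2 ≤ m := by
      by_contra hlt
      have hm1 : m = 0 ∨ m = 1 := by omega
      apply hne
      rcases hm1 with h0 | h1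
      · rw [h0, pow_zero] at hm
        have := (Nat.card_eq_one_iff_unique.mp hm).1
        have hab : (⟨a, ha⟩ : P) = ⟨b, hb⟩ := Subsingleton.elim _ _
        have : a = b := congrArg Subtype.val hab
        rw [this]
      · rw [h1, pow_one] at hm
        have hcyc : IsCyclic P := isCyclic_of_prime_card hm
        have hmc : IsMulCommutative P := IsCyclic.isMulCommutative
        have := hmc.is_comm.comm (⟨a, ha⟩ : P) ⟨b, hb⟩
        exact congrArg Subtype.val this
    by_cases hm2' : m = 2
    · exfalso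
      apply hne
      rw [hm2'] at hm
      have := IsPGroup.commutative_of_card_eq_prime_sq hm (⟨a, ha⟩ : P) ⟨b, hb⟩
      exact congrArg Subtype.val this
    · exact dvd_trans (dvd_trans (pow_dvd_pow p hm2) (by rw [hm])) hdvd
  -- count
  have hk : Nat.card (ConjClasses G) = Fintype.card (IrrCharacter G) := by
    rw [← Nat.card_eq_fintype_card]; exact (card_irr_eq (G := G)).symm
  have hsum := card_eq_sum_charDegree_sq (G := G)
  set χ₀ : IrrCharacter G := ⟨fun _ => (1 : ℂ), principal_isIrrCharacter⟩ with hχ₀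
  have hχ₀deg : charDegree χ₀.1 = 1 := by
    have := irr_one_eq_charDegree χ₀
    simp only [hχ₀] at this
    have h2 : ((1 : ℕ) : ℂ) = (charDegree χ₀.1 : ℂ) := by simpa using this
    exact (Nat.cast_injective h2).symm
  -- there is a nonprincipal character of degree < p
  have hex : ∃ χ : IrrCharacter G, χ ≠ χ₀ ∧ charDegree χ.1 < p := by
    by_contra hno
    push Not at hno
    have h1 : ∑ ψ ∈ Finset.univ.erase χ₀, p ^ 2 ≤ ∑ ψ ∈ Finset.univ.erase χ₀, charDegree ψ.1 ^ 2 := by
      apply Finset.sum_le_sum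
      intro ψ hψ
      exact Nat.pow_le_pow_left (hno ψ (Finset.mem_erase.mp hψ).1) 2
    rw [← Finset.add_sum_erase Finset.univ _ (Finset.mem_univ χ₀), hχ₀deg] at hsum
    rw [Finset.sum_const, Finset.card_erase_of_mem (Finset.mem_univ χ₀), Finset.card_univ,
      smul_eq_mul] at h1
    rw [hk] at hmany
    obtain ⟨c, hc⟩ := hp2
    have hkpos : 0 < Fintype.card (IrrCharacter G) := Fintype.card_pos_iff.mpr ⟨χ₀⟩
    have h3 : p ^ 2 * Fintype.card (IrrCharacter G) ≤ Nat.card G + p ^ 2 - 1 := by
      have : (Fintype.card (IrrCharacter G) - 1) * p ^ 2 + p ^ 2 = p ^ 2 * Fintype.card (IrrCharacter G) := by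
        have : Fintype.card (IrrCharacter G) = (Fintype.card (IrrCharacter G) - 1) + 1 := by omega
        conv_rhs => rw [this]
        ring
      omega
    have hppos : 0 < p ^ 2 := pow_pos hpp.pos 2
    rw [hc] at hmany h3
    have h4 : c < Fintype.card (IrrCharacter G) := lt_of_mul_lt_mul_left hmany (Nat.zero_le _)
    have h5 : p ^ 2 * (c + 1) ≤ p ^ 2 * Fintype.card (IrrCharacter G) := Nat.mul_le_mul_left _ h4
    have h6 : p ^ 2 * (c + 1) = p ^ 2 * c + p ^ 2 := by ring
    omega
  obtain ⟨χ, hχne, hχdeg⟩ := hex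
  obtain ⟨n, ρ, hρ, hρχ⟩ := χ.2
  have hn : charDegree χ.1 = n := by
    have h1 := irr_one_eq_charDegree χ
    have h2 : χ.1 1 = (n : ℂ) := by rw [← hρχ, Representation.char_one]; simp
    rw [h2] at h1
    exact (Nat.cast_injective h1).symm
  -- restrict to P
  have hcomm := commutator_acts_trivially (ρ.comp P.1.subtype : Representation ℂ P (Fin n → ℂ))
    (by
      intro q hq hqd
      rw [Module.finrank_fin_fun, ← hn]
      obtain ⟨m, hm⟩ := IsPGroup.iff_card.mp P.isPGroup'
      rw [hm] at hqd
      have : q = p := (Nat.prime_dvd_prime_iff_eq hq hpp).mp (hq.dvd_of_dvd_pow hqd)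
      rw [this]; exact hχdeg) ⟨a, ha⟩ ⟨b, hb⟩
  have hcomm' : ρ (a * b * a⁻¹ * b⁻¹) = LinearMap.id := hcomm
  rcases IsSimpleGroup.eq_bot_or_eq_top_of_normal (MonoidHom.ker ρ) (MonoidHom.normal_ker ρ) with hk' | hk'
  · have h3 : a * b * a⁻¹ * b⁻¹ ∈ MonoidHom.ker ρ := by
      rw [MonoidHom.mem_ker, hcomm']; rfl
    rw [hk', Subgroup.mem_bot] at h3
    apply hne
    have : a * b = (a * b * a⁻¹ * b⁻¹) * (b * a) := by group
    rw [this, h3, one_mul]
  · have htriv : ∀ x : G, ρ x = 1 := by
      intro x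
      have : x ∈ MonoidHom.ker ρ := by rw [hk']; trivial
      exact MonoidHom.mem_ker.mp this
    have hn1 : Module.finrank ℂ (Fin n → ℂ) = 1 := by
      apply finrank_eq_one_of_all_scalar hρ
      intro x
      exact ⟨1, by rw [htriv x, one_smul]; rfl⟩
    apply hχne
    apply Subtype.ext
    rw [← hρχ]
    ext x
    simp only [Representation.character, htriv x]
    rw [Module.End.one_eq_id, LinearMap.trace_id, hn1]
    simp [hχ₀]

end Cfsg.Agent.S0186
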