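import Cfsg.Statements.S0187
import Cfsg.Agent.Lib.Helper8.CharComplete2
import Cfsg.Agent.S0134

set_option autoImplicit false
open Cfsg

namespace Cfsg.Agent.S0187

/-- A finite group is commutative if and only if every irreducible complex character has degree 1. -/
theorem result {G : Type*} [Group G] [Finite G] : (∀ a b : G, a * b = b * a) ↔ ∀ χ : Cfsg.IrrCharacter G, (χ : G → ℂ) 1 = 1 := by
  classical
  have : Fintype G := Fintype.ofFinite G
  have := Cfsg.Agent.Lib.Helper8.irr_finite (G := G)
  have : Fintype (IrrCharacter G) := Fintype.ofFinite _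
  constructor
  · intro hab χ
    have : IsMulCommutative G := ⟨⟨hab⟩⟩
    obtain ⟨n, ρ, hρ, hρχ⟩ := χ.2
    have h1 := Representation.IsIrreducible.finrank_eq_one_of_isMulCommutative ρ
    rw [← hρχ, Representation.char_one, h1]
    simp
  · intro hdeg
    have h1 := Cfsg.Agent.S0134.result (G := G)
    rw [finsum_eq_sum_of_fintype] at h1
    have h2 : ∑ χ : IrrCharacter G, (χ : G → ℂ) 1 ^ 2 = (Fintype.card (IrrCharacter G) : ℂ) := by
      rw [Finset.sum_congr rfl (fun χ _ => by rw [hdeg χ, one_pow])]
      simp
    rw [h2] at h1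
    have h3 : Nat.card (IrrCharacter G) = Nat.card G := by
      rw [Nat.card_eq_fintype_card]
      exact_mod_cast h1
    rw [Cfsg.Agent.Lib.Helper8.card_irr_eq] at h3
    have hbij : Function.Bijective (ConjClasses.mk : G → ConjClasses G) :=
      Function.Surjective.bijective_of_nat_card_le ConjClasses.mk_surjective (le_of_eq h3.symm)
    intro a b
    have hc : ConjClasses.mk (b * a * b⁻¹) = ConjClasses.mk a := by
      rw [ConjClasses.mk_eq_mk_iff_isConj]
      exact (isConj_iff.mpr ⟨b, rfl⟩).symm
    have := hbij.1 hc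
    calc a * b = (b * a * b⁻¹) * b := by rw [this]
      _ = b * a := by group

end Cfsg.Agent.S0187
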