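import Cfsg.Statements.S0188
import Cfsg.Agent.Lib.Helper8.CharDegree
import Cfsg.Agent.Lib.Helper8.CharLinear
import Cfsg.Agent.Lib.Helper8.CharDecomp

set_option autoImplicit false
open Cfsg

namespace Cfsg.Agent.S0188

open Cfsg.Agent.Lib.Helper8
open scoped ComplexConjugate

theorem classInner_prod {G : Type*} [Group G] [Fintype G] {H : Type*} [Group H] [Fintype H]
    (φ φ' : G → ℂ) (ψ ψ' : H → ℂ) :
    classInner (fun x : G × H => φ x.1 * ψ x.2) (fun x : G × H => φ' x.1 * ψ' x.2) =
      classInner φ φ' * classInner ψ ψ' := by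
  unfold classInner
  rw [Fintype.sum_prod_type, Nat.card_prod]
  push_cast
  have : ∑ x : G, ∑ y : H, φ x * ψ y * conj (φ' x * ψ' y) =
      (∑ x : G, φ x * conj (φ' x)) * (∑ y : H, ψ y * conj (ψ' y)) := by
    rw [Finset.sum_mul_sum]
    apply Finset.sum_congr rfl
    intro x _
    apply Finset.sum_congr rfl
    intro y _
    rw [map_mul]; ring
  rw [this, mul_inv]
  ring

theorem prod_isCharacter {G : Type*} [Group G] {H : Type*} [Group H] {φ : G → ℂ} {ψ : H → ℂ}
    (hφ : IsCharacter G φ) (hψ : IsCharacter H ψ) :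
    IsCharacter (G × H) (fun x : G × H => φ x.1 * ψ x.2) := by
  have h1 := isCharacter_comp (MonoidHom.fst G H) hφ
  have h2 := isCharacter_comp (MonoidHom.snd G H) hψ
  exact isCharacter_mul h1 h2

theorem prod_isIrrCharacter {G : Type*} [Group G] [Fintype G] {H : Type*} [Group H] [Fintype H]
    {φ : G → ℂ} {ψ : H → ℂ} (hφ : IsIrrCharacter G φ) (hψ : IsIrrCharacter H ψ) :
    IsIrrCharacter (G × H) (fun x : G × H => φ x.1 * ψ x.2) := by
  apply isIrrCharacter_of_norm_one (prod_isCharacter (irr_isCharacter hφ) (irr_isCharacter hψ))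
  rw [classInner_prod, irr_classInner hφ hφ, irr_classInner hψ hψ, if_pos rfl, if_pos rfl, mul_one]

/-- The irreducible complex characters of G × H are precisely the functions (g, h) ↦ φ g * ψ h with φ, ψ irreducible characters of G and H. -/
theorem result {G : Type*} [Group G] [Finite G] {H : Type*} [Group H] [Finite H] (θ : G × H → ℂ) : Cfsg.IsIrrCharacter (G × H) θ ↔ ∃ (φ : G → ℂ) (ψ : H → ℂ), Cfsg.IsIrrCharacter G φ ∧ Cfsg.IsIrrCharacter H ψ ∧ θ = fun x => φ x.1 * ψ x.2 := by
  classical
  have : Fintype G := Fintype.ofFinite G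
  have : Fintype H := Fintype.ofFinite H
  have := irr_finite (G := G)
  have : Fintype (IrrCharacter G) := Fintype.ofFinite _
  have := irr_finite (G := H)
  have : Fintype (IrrCharacter H) := Fintype.ofFinite _
  have := irr_finite (G := G × H)
  have : Fintype (IrrCharacter (G × H)) := Fintype.ofFinite _
  constructor
  · intro hθ
    by_contra hcon
    push Not at hcon
    let P : IrrCharacter G × IrrCharacter H → IrrCharacter (G × H) := fun p =>
      ⟨fun x : G × H => p.1.1 x.1 * p.2.1 x.2, prod_isIrrCharacter p.1.2 p.2.2⟩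
    have hPinj : Function.Injective P := by
      intro p q hpq
      have h1 : classInner (P p).1 (P q).1 = 1 := by
        rw [hpq, irr_classInner (P q).2 (P q).2, if_pos rfl]
      have h2 : classInner (P p).1 (P q).1 = classInner p.1.1 q.1.1 * classInner p.2.1 q.2.1 :=
        classInner_prod _ _ _ _
      rw [h2, irr_classInner p.1.2 q.1.2, irr_classInner p.2.2 q.2.2] at h1
      by_cases ha : p.1.1 = q.1.1
      · by_cases hb : p.2.1 = q.2.1
        · exact Prod.ext (Subtype.ext ha) (Subtype.ext hb)
        · rw [if_neg hb, mul_zero] at h1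
          exact absurd h1 zero_ne_one
      · rw [if_neg ha, zero_mul] at h1
        exact absurd h1 zero_ne_one
    have hdegP : ∀ p, charDegree (P p).1 = charDegree p.1.1 * charDegree p.2.1 := by
      intro p
      have h1 := irr_one_eq_charDegree (P p)
      have h2 : (P p).1 1 = p.1.1 1 * p.2.1 1 := rfl
      rw [h2, irr_one_eq_charDegree p.1, irr_one_eq_charDegree p.2] at h1
      exact_mod_cast h1.symm
    have hθnot : (⟨θ, hθ⟩ : IrrCharacter (G × H)) ∉ Finset.image P Finset.univ := by
      intro hmem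
      obtain ⟨p, _, hp⟩ := Finset.mem_image.mp hmem
      exact hcon p.1.1 p.2.1 p.1.2 p.2.2 (congrArg Subtype.val hp).symm
    have hsumP : ∑ θ' ∈ Finset.image P Finset.univ, charDegree θ'.1 ^ 2 = Nat.card G * Nat.card H := by
      rw [Finset.sum_image (fun a _ b _ hab => hPinj hab), Fintype.sum_prod_type,
        card_eq_sum_charDegree_sq (G := G), card_eq_sum_charDegree_sq (G := H), Finset.sum_mul_sum]
      apply Finset.sum_congr rfl
      intro a _
      apply Finset.sum_congr rfl
      intro b _
      rw [hdegP (a, b)]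
      ring
    have htot := card_eq_sum_charDegree_sq (G := G × H)
    rw [Nat.card_prod] at htot
    have hle : ∑ θ' ∈ insert (⟨θ, hθ⟩ : IrrCharacter (G × H)) (Finset.image P Finset.univ), charDegree θ'.1 ^ 2 ≤
        ∑ θ' : IrrCharacter (G × H), charDegree θ'.1 ^ 2 :=
      Finset.sum_le_sum_of_subset (Finset.subset_univ _)
    rw [Finset.sum_insert hθnot, hsumP, ← htot] at hle
    have hpos : 0 < charDegree θ ^ 2 := pow_pos (charDegree_pos ⟨θ, hθ⟩) 2
    simp only at hle
    omega
  · rintro ⟨φ, ψ, hφ, hψ, rfl⟩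
    exact prod_isIrrCharacter hφ hψ

end Cfsg.Agent.S0188
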