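import Cfsg.Statements.S4665
import Cfsg.Agent.Lib.Helper8.CharBessel

set_option autoImplicit false
open Cfsg

namespace Cfsg.Agent.S4665

open Cfsg.Agent.Lib.Helper8

/-- The sum of an irreducible character over a subgroup is the subgroup order times a natural number. -/
theorem sum_subgroup_character {G : Type*} [Group G] [Finite G] (P : Subgroup G) [Fintype P] {ψ : G → ℂ}
    (hψ : IsCharacter G ψ) : ∃ m : ℕ, ∑ x : P, ψ x = (Nat.card P : ℂ) * m := by
  obtain ⟨d, ρ, rfl⟩ := hψ
  set ρP : Representation ℂ P (Fin d → ℂ) := ρ.comp P.subtype with hρP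
  have hcard : (Nat.card P : ℂ) ≠ 0 := Nat.cast_ne_zero.mpr Nat.card_pos.ne'
  have : Invertible (Nat.card P : ℂ) := invertibleOfNonzero hcard
  have h := Representation.card_inv_mul_sum_char_eq_finrank ρP
  refine ⟨Module.finrank ℂ (Representation.invariants ρP), ?_⟩
  rw [← h, ← mul_assoc, mul_inv_cancel₀ hcard, one_mul]
  rfl

theorem result {G : Type*} [Group G] [Fintype G] (p : ℕ) [Fact p.Prime] (M : Ideal Cfsg.AlgInt) (hM : Cfsg.IsPModular p M) (B : Set (Cfsg.IrrCharacter G)) (hB : Cfsg.IsPBlock M B) (χ : G → ℂ) (hχ : (∃ n : Cfsg.IrrCharacter G → ℤ, ∀ g : G, χ g = ∑ᶠ ψ ∈ B, (n ψ : ℂ) * (ψ : G → ℂ) g)) (h0 : (∃ n : Cfsg.IrrCharacter G → ℤ, ∀ g : G, Cfsg.pRegularPart p χ g = ∑ᶠ ψ ∈ B, (n ψ : ℂ) * (ψ : G → ℂ) g)) : ∃ k : ℤ, χ 1 = (p ^ (Nat.card G).factorization p : ℂ) * k := by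
  classical
  obtain ⟨n, hn⟩ := h0
  have hfin := irr_finite (G := G)
  obtain ⟨P⟩ : Nonempty (Sylow p G) := inferInstance
  have hPcard : Nat.card P = p ^ (Nat.card G).factorization p := Sylow.card_eq_multiplicity P
  have : Fintype (P : Subgroup G) := Fintype.ofFinite _
  -- the sum of θ over P is χ 1
  have hsum1 : ∑ x : (P : Subgroup G), pRegularPart p χ x = χ 1 := by
    rw [Finset.sum_eq_single (1 : (P : Subgroup G))]
    · unfold pRegularPart
      have : IsPRegular p ((1 : (P : Subgroup G)) : G) := by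
        unfold IsPRegular
        rw [Subgroup.coe_one, orderOf_one]
        exact (Fact.out : p.Prime).not_dvd_one
      rw [if_pos this, Subgroup.coe_one]
    · intro x _ hx1
      unfold pRegularPart
      have : ¬ IsPRegular p (x : G) := by
        unfold IsPRegular
        rw [not_not]
        obtain ⟨k, hk⟩ := (IsPGroup.iff_orderOf.mp P.isPGroup') x
        rw [Subgroup.orderOf_coe, hk]
        cases k with
        | zero =>
          rw [pow_zero, orderOf_eq_one_iff] at hk
          exact absurd hk hx1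
        | succ k => exact dvd_pow_self p (Nat.succ_ne_zero k)
      rw [if_neg this]
    · intro h; exact absurd (Finset.mem_univ _) h
  -- expand θ
  have hBfin : B.Finite := Set.toFinite B
  have hm : ∀ ψ : IrrCharacter G, ∃ m : ℕ, ∑ x : (P : Subgroup G), (ψ : G → ℂ) x = (Nat.card P : ℂ) * m :=
    fun ψ => sum_subgroup_character (P : Subgroup G) (irr_isCharacter ψ.2)
  choose m hm using hm
  refine ⟨∑ ψ ∈ hBfin.toFinset, n ψ * (m ψ : ℤ), ?_⟩
  rw [← hsum1]
  simp_rw [hn, finsum_mem_eq_finite_toFinset_sum _ hBfin]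
  rw [Finset.sum_comm]
  simp_rw [← Finset.mul_sum, hm]
  have hPc : (Nat.card (P : Subgroup G) : ℂ) = (p : ℂ) ^ (Nat.card G).factorization p := by
    rw [hPcard]; push_cast; rfl
  rw [← hPc]
  push_cast
  rw [Finset.mul_sum]
  apply Finset.sum_congr rfl
  intro ψ _
  ring

end Cfsg.Agent.S4665
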