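import Cfsg.Statements.S0189
import Cfsg.Agent.S4665

set_option autoImplicit false
open Cfsg

namespace Cfsg.Agent.S0189

/-- If a complex character of a finite group vanishes at every non-identity element of a Sylow p-subgroup P, then |P| divides its degree. -/
theorem result {G : Type*} [Group G] [Finite G] (p : ℕ) [Fact p.Prime] (P : Sylow p G) (χ : G → ℂ) (hχ : Cfsg.IsCharacter G χ) (hvan : ∀ g : G, g ∈ P → g ≠ 1 → χ g = 0) : ∃ k : ℕ, χ 1 = (Nat.card P : ℂ) * k := by
  classical
  have : Fintype (P : Subgroup G) := Fintype.ofFinite _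
  obtain ⟨m, hm⟩ := Cfsg.Agent.S4665.sum_subgroup_character (P : Subgroup G) hχ
  refine ⟨m, ?_⟩
  rw [← hm]
  rw [Finset.sum_eq_single (1 : (P : Subgroup G))]
  · rw [Subgroup.coe_one]
  · intro x _ hx1
    apply hvan x x.2
    intro h
    apply hx1
    exact Subtype.ext h
  · intro h; exact absurd (Finset.mem_univ _) h

end Cfsg.Agent.S0189
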