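import Cfsg.Statements.S0192
import Cfsg.Agent.Lib.Helper8.CharBurnside

set_option autoImplicit false
open Cfsg

namespace Cfsg.Agent.S0192

open Cfsg.Agent.Lib.Helper8

theorem inner_one_eq_finrank {G : Type*} [Group G] {n : ℕ} (ρ : Representation ℂ G (Fin n → ℂ))
    (K : Subgroup G) [Fintype K] :
    classInner (fun x : K => ρ.character x) (fun _ => 1) =
      (Module.finrank ℂ (Representation.invariants (ρ.comp K.subtype)) : ℂ) := by
  have hcard : (Nat.card K : ℂ) ≠ 0 := Nat.cast_ne_zero.mpr Nat.card_pos.ne'
  have : Invertible (Nat.card K : ℂ) := invertibleOfNonzero hcard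
  rw [← Representation.card_inv_mul_sum_char_eq_finrank (ρ.comp K.subtype)]
  unfold classInner
  congr 1
  apply Finset.sum_congr rfl
  intro g _
  simp
  rfl

/-- Brauer's generation criterion. Let G be a finite simple group, H₁ and H₂ subgroups, and χ a non-principal irreducible character. If the multiplicity of the principal character in χ restricted to H₁ ⊓ H₂ is less than the sum of the corresponding multiplicities for H₁ and H₂, then H₁ and H₂ do not generate G. -/
theorem result {G : Type*} [Group G] [Fintype G] [IsSimpleGroup G] (H₁ H₂ : Subgroup G) [Fintype H₁] [Fintype H₂] [Fintype ↥(H₁ ⊓ H₂)] (χ : G → ℂ) (hχ : Cfsg.IsIrrCharacter G χ) (hχ1 : χ ≠ fun _ => 1) (hlt : (Cfsg.classInner (fun x : ↥(H₁ ⊓ H₂) => χ x) (fun _ => 1)).re < (Cfsg.classInner (fun x : H₁ => χ x) (fun _ => 1)).re + (Cfsg.classInner (fun x : H₂ => χ x) (fun _ => 1)).re) : H₁ ⊔ H₂ ≠ ⊤ := by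
  classical
  intro htop
  obtain ⟨n, ρ, hρ, rfl⟩ := hχ
  rw [inner_one_eq_finrank ρ (H₁ ⊓ H₂), inner_one_eq_finrank ρ H₁, inner_one_eq_finrank ρ H₂] at hlt
  simp only [Complex.natCast_re] at hlt
  set I₁ := Representation.invariants (ρ.comp H₁.subtype) with hI₁
  set I₂ := Representation.invariants (ρ.comp H₂.subtype) with hI₂
  set I₁₂ := Representation.invariants (ρ.comp (H₁ ⊓ H₂).subtype) with hI₁₂
  have hle : I₁ ⊔ I₂ ≤ I₁₂ := by
    apply sup_le
    · intro v hv
      rw [hI₁₂, Representation.mem_invariants]
      intro g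
      rw [hI₁, Representation.mem_invariants] at hv
      exact hv ⟨g, g.2.1⟩
    · intro v hv
      rw [hI₁₂, Representation.mem_invariants]
      intro g
      rw [hI₂, Representation.mem_invariants] at hv
      exact hv ⟨g, g.2.2⟩
  have hinvG : Representation.invariants ρ = ⊥ := by
    have hW := irreducible_submodule hρ (Representation.invariants ρ) (by
      intro g v hv
      rw [Representation.mem_invariants] at hv ⊢
      intro g'
      rw [hv g, hv g'])
    rcases hW with hW | hW
    · exact hW
    · exfalso
      apply hχ1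
      have htriv : ∀ x : G, ρ x = LinearMap.id := by
        intro x
        apply LinearMap.ext
        intro v
        have : v ∈ Representation.invariants ρ := by rw [hW]; trivial
        exact (Representation.mem_invariants _ v).mp this x
      have hn1 : Module.finrank ℂ (Fin n → ℂ) = 1 := by
        apply finrank_eq_one_of_all_scalar hρ
        intro x
        exact ⟨1, by rw [htriv x, one_smul]⟩
      ext x
      simp only [Representation.character, htriv x]
      rw [LinearMap.trace_id, hn1]
      simp
  have hinf : I₁ ⊓ I₂ = ⊥ := by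
    rw [eq_bot_iff]
    intro v hv
    rw [← hinvG, Representation.mem_invariants]
    -- the stabilizer of v contains H₁ and H₂
    let S : Subgroup G := {
      carrier := {g | ρ g v = v}
      mul_mem' := by
        intro a b ha hb
        simp only [Set.mem_ofPred_eq] at ha hb ⊢
        rw [map_mul, Module.End.mul_apply, hb, ha]
      one_mem' := by simp
      inv_mem' := by
        intro a ha
        simp only [Set.mem_ofPred_eq] at ha ⊢
        have : ρ a⁻¹ (ρ a v) = v := by
          rw [← Module.End.mul_apply, ← map_mul, inv_mul_cancel, map_one, Module.End.one_apply]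
        rw [ha] at this
        exact this }
    have h1 : H₁ ≤ S := by
      intro g hg
      have := (Representation.mem_invariants _ v).mp hv.1 ⟨g, hg⟩
      exact this
    have h2 : H₂ ≤ S := by
      intro g hg
      have := (Representation.mem_invariants _ v).mp hv.2 ⟨g, hg⟩
      exact this
    have hS : S = ⊤ := by
      rw [eq_top_iff, ← htop]
      exact sup_le h1 h2
    intro g
    have : g ∈ S := by rw [hS]; trivial
    exact this
  have hdim := Submodule.finrank_sup_add_finrank_inf_eq I₁ I₂
  rw [hinf, finrank_bot, add_zero] at hdim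
  have hle' : Module.finrank ℂ ↥(I₁ ⊔ I₂) ≤ Module.finrank ℂ ↥I₁₂ := Submodule.finrank_mono hle
  have : (Module.finrank ℂ ↥I₁ : ℝ) + (Module.finrank ℂ ↥I₂ : ℝ) ≤ (Module.finrank ℂ ↥I₁₂ : ℝ) := by
    have : Module.finrank ℂ ↥I₁ + Module.finrank ℂ ↥I₂ ≤ Module.finrank ℂ ↥I₁₂ := by omega
    exact_mod_cast this
  linarith

end Cfsg.Agent.S0192
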