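import Cfsg.Statements.S0194
import Cfsg.Agent.Lib.Helper8.CharClifford2
import Cfsg.Agent.Lib.Helper8.CharOdd

set_option autoImplicit false
open scoped ComplexConjugate
open Cfsg

namespace Cfsg.Agent.S0194

/-- Let G have odd order, H be a normal subgroup and θ a non-principal irreducible character of H. Then the function induced from θ is orthogonal to its complex conjugate. -/
theorem result {G : Type*} [Group G] [Fintype G] (hodd : Odd (Nat.card G)) (H : Subgroup G) [H.Normal] (θ : H → ℂ) (hθ : Cfsg.IsIrrCharacter H θ) (hθ1 : θ ≠ fun _ => 1) : Cfsg.classInner (fun g => conj (Cfsg.indFun H θ g)) (Cfsg.indFun H θ) = 0 := by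
  classical
  open Cfsg.Agent.Lib.Helper8 in
  have hN : H.Normal := inferInstance
  have : Fintype H := Fintype.ofFinite H
  have hHne : (Nat.card H : ℂ) ≠ 0 := Nat.cast_ne_zero.mpr Nat.card_pos.ne'
  set θb : H → ℂ := fun h => (starRingEnd ℂ) (θ h) with hθb
  have hθbirr : IsIrrCharacter H θb := irr_conj hθ
  -- conj (Ind θ) = Ind (conj θ)
  have hconjind : (fun g => (starRingEnd ℂ) (indFun H θ g)) = indFun H θb := by
    ext g
    rw [indFun_apply, indFun_apply, map_mul, map_inv₀, map_natCast, map_sum]
    congr 1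
    apply Finset.sum_congr rfl
    intro x _
    by_cases hx : x⁻¹ * g * x ∈ H
    · rw [extendByZero_mem H θ hx, extendByZero_mem H θb hx]
    · rw [extendByZero_not_mem H θ hx, extendByZero_not_mem H θb hx, map_zero]
  rw [hconjind, frobenius_reciprocity H θb _ (indFun_isClassFunction H θ)]
  have h1 : (fun h : H => indFun H θ h) =
      fun h => ∑ x ∈ (Finset.univ : Finset G), (Nat.card H : ℂ)⁻¹ * conjChar hN θ x h := by
    ext h
    rw [indFun_restrict hN θ h, Finset.mul_sum]
  rw [h1, classInner_sum_right]
  apply Finset.sum_eq_zero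
  intro x _
  rw [irr_classInner hθbirr (conjChar_irr hN hθ x)]
  rw [if_neg, mul_zero]
  intro hx
  -- hx : θb = conjChar θ x
  apply hθ1
  have hodd' : Odd (Nat.card H) := Odd.of_dvd_nat hodd (Subgroup.card_subgroup_dvd_card H)
  -- conjChar θb x = conj ∘ conjChar θ x
  have h2 : conjChar hN θ (x * x) = θ := by
    rw [← conjChar_mul, ← hx]
    ext h
    simp only [conjChar, hθb]
    have := congrFun hx ⟨x * h * x⁻¹, hN.conj_mem h h.2 x⟩
    simp only [hθb, conjChar] at this
    have h3 := congrFun hx h
    simp only [hθb, conjChar] at h3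
    rw [← h3]
    simp
  have hpow : ∀ n : ℕ, conjChar hN θ ((x * x) ^ n) = θ := by
    intro n
    induction n with
    | zero => rw [pow_zero, conjChar_one]
    | succ n ih => rw [pow_succ, ← conjChar_mul, ih, h2]
  have hxodd : Odd (orderOf x) := Odd.of_dvd_nat hodd (orderOf_dvd_natCard x)
  obtain ⟨k, hk⟩ := hxodd
  have hx1 : x = (x * x) ^ (k + 1) := by
    rw [← pow_two, ← pow_mul]
    have : 2 * (k + 1) = orderOf x + 1 := by omega
    rw [this, pow_succ, pow_orderOf_eq_one, one_mul]
  have h4 : conjChar hN θ x = θ := by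
    conv_lhs => rw [hx1]
    exact hpow (k + 1)
  have hreal : ∀ h : H, (θ h).im = 0 := by
    intro h
    have := congrFun (hx.trans h4) h
    simp only [hθb] at this
    exact Complex.conj_eq_iff_im.mp this
  exact real_irr_of_odd hodd' ⟨θ, hθ⟩ hreal

end Cfsg.Agent.S0194
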