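import Cfsg.Statements.S0196
import Mathlib
import Cfsg.Agent.Lib.Helper1.Orbits

set_option autoImplicit false
open Cfsg

namespace Cfsg.Agent.S0196

open Cfsg.Agent.Lib.Helper1

/-- the non-identity elements of `A` -/
abbrev NonId {G : Type*} [Group G] (A : Subgroup G) : Type _ := {x : G // x ∈ A ∧ x ≠ 1}

/-- conjugation action of the normalizer of `A` on the non-identity elements of `A` -/
instance conjAction {G : Type*} [Group G] (A : Subgroup G) :
    MulAction (Subgroup.normalizer (A : Set G)) (NonId A) where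
  smul n x := ⟨n.1 * x.1 * n.1⁻¹, (Subgroup.mem_normalizer_iff.1 n.2 x.1).1 x.2.1, by
    intro h
    apply x.2.2
    have : x.1 = n.1⁻¹ * (n.1 * x.1 * n.1⁻¹) * n.1 := by group
    rw [this, h]; group⟩
  one_smul x := by
    apply Subtype.ext
    show (1 : G) * x.1 * (1 : G)⁻¹ = x.1
    group
  mul_smul m n x := by
    apply Subtype.ext
    show (m.1 * n.1) * x.1 * (m.1 * n.1)⁻¹ = m.1 * (n.1 * x.1 * n.1⁻¹) * m.1⁻¹
    group

theorem smul_val {G : Type*} [Group G] (A : Subgroup G)
    (n : Subgroup.normalizer (A : Set G)) (x : NonId A) :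
    (n • x).1 = n.1 * x.1 * n.1⁻¹ := rfl

theorem card_nonId {G : Type*} [Group G] [Finite G] (A : Subgroup G) :
    Nat.card (NonId A) = Nat.card A - 1 := by
  have h1 : Nat.card (NonId A) = ({x : G | x ∈ A ∧ x ≠ 1} : Set G).ncard :=
    Nat.card_coe_set_eq _
  have h2 : Nat.card A = (A : Set G).ncard := Nat.card_coe_set_eq _
  have h3 : ({x : G | x ∈ A ∧ x ≠ 1} : Set G) = (A : Set G) \ {1} := by
    ext x; simp
  rw [h1, h2, h3]
  exact Set.ncard_sdiff_singleton_of_mem (Subgroup.one_mem A)


/-- Let A be a subgroup of a finite group G that equals the centralizer of each of its non-identity elements, and let N be its normalizer. Then the index of A in N divides |A| − 1 (N/A permutes the non-identity elements of A in orbits of full length). -/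
theorem result {G : Type*} [Group G] [Finite G] (A : Subgroup G) (hA : ∀ x ∈ A, x ≠ 1 → Subgroup.centralizer ({x} : Set G) = A) : (A.subgroupOf (Subgroup.normalizer (A : Set G))).index ∣ Nat.card A - 1 := by
  rw [← card_nonId A]
  apply index_dvd_card_of_stabilizer_eq
  intro x
  ext n
  rw [MulAction.mem_stabilizer_iff, Subgroup.mem_subgroupOf]
  have e : n.1 ∈ A ↔ n.1 ∈ Subgroup.centralizer ({x.1} : Set G) := by
    rw [hA x.1 x.2.1 x.2.2]
  rw [e, Subgroup.mem_centralizer_singleton_iff]
  constructor
  · intro h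
    have h' := congrArg Subtype.val h
    rw [smul_val] at h'
    calc n.1 * x.1 = (n.1 * x.1 * n.1⁻¹) * n.1 := by group
      _ = x.1 * n.1 := by rw [h']
  · intro h
    apply Subtype.ext
    rw [smul_val, h]
    group

end Cfsg.Agent.S0196
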