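import Cfsg.Statements.S0199
import Mathlib
import Cfsg.Agent.Lib.Helper1.BaerSuzuki

set_option autoImplicit false
open Cfsg

namespace Cfsg.Agent.S0199

/-- Baer–Suzuki Theorem: a p-subgroup X of a finite group such that X and any of its conjugates generate a p-group is contained in a normal p-subgroup. -/
theorem result {G : Type*} [Group G] [Finite G] {p : ℕ} [Fact p.Prime] (X : Subgroup G) (hX : IsPGroup p X) (h : ∀ g : G, IsPGroup p ↥(X ⊔ X.map (MulAut.conj g).toMonoidHom)) : ∃ N : Subgroup G, N.Normal ∧ IsPGroup p N ∧ X ≤ N := by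
  have hx : ∀ x ∈ X, ∀ g : G, IsPGroup p (Subgroup.closure ({x, g * x * g⁻¹} : Set G)) := by
    intro x hxX g
    refine (h g).to_le ?_
    rw [Subgroup.closure_le]
    intro z hz
    rcases hz with rfl | rfl
    · exact (le_sup_left : X ≤ X ⊔ X.map (MulAut.conj g).toMonoidHom) hxX
    · exact (le_sup_right : X.map (MulAut.conj g).toMonoidHom ≤ X ⊔ X.map (MulAut.conj g).toMonoidHom)
        ⟨x, hxX, by simp [MulAut.conj_apply]⟩
  obtain ⟨N, hN, hNp, -, hall⟩ := Cfsg.Agent.Lib.Helper1.baer_suzuki_normal (p := p) (1 : G)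
    (hx 1 X.one_mem)
  exact ⟨N, hN, hNp, fun x hxX => hall x (hx x hxX)⟩

end Cfsg.Agent.S0199
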