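import Cfsg.Statements.S0200
import Mathlib
import Cfsg.Agent.Lib.Helper1.BaerSuzuki
import Cfsg.Agent.Lib.Helper1.Dih2
import Cfsg.Agent.Lib.Helper1.Invol
import Cfsg.Agent.Lib.Helper1.StrongEmb

set_option autoImplicit false
open Cfsg

namespace Cfsg.Agent.S0200

open Cfsg.Agent.Lib.Helper1


/-- An involution lying in no normal 2-subgroup of a finite group inverts a nontrivial element of odd order (a consequence of the Baer–Suzuki Theorem). -/
theorem result {G : Type*} [Group G] [Finite G] (t : G) (ht : orderOf t = 2) (hO : ∀ N : Subgroup G, N.Normal → IsPGroup 2 N → t ∉ N) : ∃ h : G, h ≠ 1 ∧ Odd (orderOf h) ∧ t * h * t⁻¹ = h⁻¹ := by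
  classical
  have ht2 : t * t = 1 := sq_eq_one_of_orderOf_two ht
  have hti : t⁻¹ = t := inv_eq_self_of_orderOf_two ht
  -- some conjugate generates a non-2-group with t
  have hex : ∃ g : G, ¬ IsPGroup 2 (Subgroup.closure ({t, g * t * g⁻¹} : Set G)) := by
    by_contra hcon
    push Not at hcon
    haveI : Fact (Nat.Prime 2) := ⟨Nat.prime_two⟩
    obtain ⟨N, hN, hNp, htN, -⟩ := baer_suzuki_normal (p := 2) t hcon
    exact hO N hN hNp htN
  obtain ⟨g, hg⟩ := hex
  set s : G := g * t * g⁻¹ with hs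
  have hso : orderOf s = 2 := by rw [hs, orderOf_conj]; exact ht
  have hs2 : s * s = 1 := sq_eq_one_of_orderOf_two hso
  have hts : t ≠ s := by
    intro h
    apply hg
    rw [← h]
    have : ({t, t} : Set G) = {t} := by simp
    rw [this, ← Subgroup.zpowers_eq_closure]
    apply IsPGroup.of_card (n := 1)
    rw [Nat.card_zpowers, ht, pow_one]
  obtain ⟨e⟩ := nonempty_mulEquiv_dihedral ht hso hts
  have hcard : Nat.card (Subgroup.closure ({t, s} : Set G)) = 2 * orderOf (t * s) := by
    rw [Nat.card_congr e.toEquiv, DihedralGroup.nat_card]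
  have hn0 : orderOf (t * s) ≠ 0 := (orderOf_pos (t * s)).ne'
  obtain ⟨k, m, hm, hn⟩ := Nat.exists_eq_two_pow_mul_odd hn0
  have hm1 : m ≠ 1 := by
    rintro rfl
    apply hg
    apply IsPGroup.of_card (n := k + 1)
    rw [hcard, hn, mul_one, pow_succ']
  refine ⟨(t * s) ^ (2 ^ k), ?_, ?_, ?_⟩
  · intro h1
    have hdvd : orderOf (t * s) ∣ 2 ^ k := orderOf_dvd_of_pow_eq_one h1
    rw [hn] at hdvd
    have h2 : m ∣ 2 ^ k := dvd_trans (dvd_mul_left m (2 ^ k)) hdvd
    have h3 : Nat.Coprime m (2 ^ k) := (Nat.Coprime.pow_right k hm.coprime_two_right)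
    exact hm1 (Nat.eq_one_of_dvd_coprimes h3 (dvd_refl m) h2)
  · have : orderOf ((t * s) ^ (2 ^ k)) = m := by
      rw [orderOf_pow_of_dvd (by positivity) (by rw [hn]; exact dvd_mul_right _ _), hn,
        Nat.mul_div_cancel_left _ (by positivity)]
    rw [this]; exact hm
  · rw [hti]
    exact conj_mul_pow ht2 hs2 (2 ^ k)

end Cfsg.Agent.S0200
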