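import Cfsg.Statements.S0208
import Cfsg.Agent.Lib.Helper1.Dih

set_option autoImplicit false
open Cfsg

namespace Cfsg.Agent.S0208

/-- If x, y are involutions and xy has odd order, then some element of the subgroup generated by x and y conjugates x to y. -/
theorem result {G : Type*} [Group G] [Finite G] (x y : G) (hx : orderOf x = 2) (hy : orderOf y = 2) (hodd : Odd (orderOf (x * y))) : ∃ d ∈ Subgroup.closure ({x, y} : Set G), d * x * d⁻¹ = y := by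
  have hx2 := Cfsg.Agent.Lib.Helper1.sq_eq_one_of_orderOf_two hx
  have hy2 := Cfsg.Agent.Lib.Helper1.sq_eq_one_of_orderOf_two hy
  have hx' : x⁻¹ = x := inv_eq_of_mul_eq_one_left hx2
  have hy' : y⁻¹ = y := inv_eq_of_mul_eq_one_left hy2
  obtain ⟨m, hm⟩ := hodd
  have hpow : (x * y) ^ ((2 * m + 1 : ℕ) : ℤ) = 1 := by
    rw [zpow_natCast, ← hm]; exact pow_orderOf_eq_one _
  refine ⟨(x * y) ^ (m : ℤ), Cfsg.Agent.Lib.Helper1.zpow_mem_closure_pair _, ?_⟩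
  -- ρ^m x ρ^{-m} = ρ^{2m} x = ρ⁻¹ x = y
  have h1 : (x * y) ^ (m : ℤ) * x = x * (x * y) ^ (-(m : ℤ)) :=
    Cfsg.Agent.Lib.Helper1.zpow_mul_x hx2 hy2 _
  rw [h1, mul_assoc, ← zpow_neg, ← zpow_add]
  have h2 : (x * y) ^ (-(m : ℤ) + -(m : ℤ)) = (x * y) ^ (1 : ℤ) := by
    have : (-(m : ℤ) + -(m : ℤ)) = 1 - ((2 * m + 1 : ℕ) : ℤ) := by push_cast; ring
    rw [this, zpow_sub, hpow, inv_one, mul_one]
  rw [h2, zpow_one, ← mul_assoc, hx2, one_mul]

end Cfsg.Agent.S0208
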