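import Cfsg.Statements.S0210
import Cfsg.Agent.Lib.Helper1.Dih

set_option autoImplicit false
open Cfsg

namespace Cfsg.Agent.S0210

/-- If x, y are involutions whose product has even order, no element of the subgroup generated by x and y conjugates x to y. -/
theorem result {G : Type*} [Group G] [Finite G] (x y : G) (hx : orderOf x = 2) (hy : orderOf y = 2) (heven : Even (orderOf (x * y))) (d : G) (hd : d ∈ Subgroup.closure ({x, y} : Set G)) : d * x * d⁻¹ ≠ y := by
  have hx2 := Cfsg.Agent.Lib.Helper1.sq_eq_one_of_orderOf_two hx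
  have hy2 := Cfsg.Agent.Lib.Helper1.sq_eq_one_of_orderOf_two hy
  have hx' : x⁻¹ = x := inv_eq_of_mul_eq_one_left hx2
  have hy' : y⁻¹ = y := inv_eq_of_mul_eq_one_left hy2
  -- y = ρ⁻¹ x
  have hyρ : y = (x * y) ^ (-1 : ℤ) * x := by
    rw [zpow_neg, zpow_one, mul_inv_rev, hx', hy', mul_assoc, hx2, mul_one]
  -- a power of ρ with odd exponent is not 1
  have hodd : ∀ j : ℤ, (x * y) ^ (2 * j + 1) ≠ 1 := by
    intro j hj
    have hdvd := (orderOf_dvd_iff_zpow_eq_one).2 hj
    obtain ⟨m, hm⟩ := heven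
    have h2 : (2 : ℤ) ∣ (orderOf (x * y) : ℤ) := ⟨m, by rw [hm]; push_cast; ring⟩
    have := dvd_trans h2 hdvd
    omega
  intro hcon
  obtain ⟨k, hk | hk⟩ := Cfsg.Agent.Lib.Helper1.mem_closure_pair hx2 hy2 hd
  · -- d = ρ^k : d x d⁻¹ = ρ^{2k} x
    have h1 : d * x * d⁻¹ = (x * y) ^ (k + k) * x := by
      rw [hk, Cfsg.Agent.Lib.Helper1.zpow_mul_x hx2 hy2, mul_assoc, ← zpow_neg, ← zpow_add]
      rw [Cfsg.Agent.Lib.Helper1.x_mul_zpow hx2 hy2]
      congr 2; ring
    rw [h1] at hcon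
    have h2 : (x * y) ^ (k + k) = (x * y) ^ (-1 : ℤ) := by
      have := hcon.trans hyρ
      exact mul_right_cancel this
    have h3 : (x * y) ^ (2 * k + 1) = 1 := by
      have : (2 * k + 1) = (k + k) - (-1) := by ring
      rw [this, zpow_sub, h2, mul_inv_cancel]
    exact hodd k h3
  · -- d = x ρ^k : d x d⁻¹ = ρ^{-2k} x
    have h1 : d * x * d⁻¹ = (x * y) ^ (-k + -k) * x := by
      rw [hk, mul_inv_rev, hx']
      calc x * (x * y) ^ k * x * (((x * y) ^ k)⁻¹ * x)
          = (x * (x * y) ^ k * x) * (((x * y) ^ k)⁻¹ * x) := by group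
        _ = (x * y) ^ (-k + -k) * x := by
          rw [Cfsg.Agent.Lib.Helper1.conj_mul_zpow hx2 hy2, ← zpow_neg, ← mul_assoc, ← zpow_add]
    rw [h1] at hcon
    have h2 : (x * y) ^ (-k + -k) = (x * y) ^ (-1 : ℤ) := by
      have := hcon.trans hyρ
      exact mul_right_cancel this
    have h3 : (x * y) ^ (2 * (-k) + 1) = 1 := by
      have : (2 * (-k) + 1) = (-k + -k) - (-1) := by ring
      rw [this, zpow_sub, h2, mul_inv_cancel]
    exact hodd (-k) h3

end Cfsg.Agent.S0210
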