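import Cfsg.Statements.S0211
import Cfsg.Agent.Lib.Helper1.Dih

set_option autoImplicit false
open Cfsg

namespace Cfsg.Agent.S0211

/-- Let x, y be involutions with xy of even order n and z = (xy)^(n/2). Then xz is conjugate to x by an element of the subgroup generated by x, y if and only if 4 divides n. -/
theorem result {G : Type*} [Group G] [Finite G] (x y : G) (hx : orderOf x = 2) (hy : orderOf y = 2) (heven : Even (orderOf (x * y))) : (∃ d ∈ Subgroup.closure ({x, y} : Set G), d * x * d⁻¹ = x * (x * y) ^ (orderOf (x * y) / 2)) ↔ 4 ∣ orderOf (x * y) := by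
  have hx2 := Cfsg.Agent.Lib.Helper1.sq_eq_one_of_orderOf_two hx
  have hy2 := Cfsg.Agent.Lib.Helper1.sq_eq_one_of_orderOf_two hy
  have hx' : x⁻¹ = x := inv_eq_of_mul_eq_one_left hx2
  obtain ⟨m, hm⟩ := heven
  have hdiv : orderOf (x * y) / 2 = m := by omega
  rw [hdiv]
  have hzz : (x * y) ^ (m : ℤ) * (x * y) ^ (m : ℤ) = 1 := by
    rw [← zpow_add, ← Nat.cast_add, zpow_natCast, ← hm]; exact pow_orderOf_eq_one _
  -- target element: x ρ^m = ρ^{-m} x
  have htarget : x * (x * y) ^ m = (x * y) ^ (-(m : ℤ)) * x := by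
    rw [← zpow_natCast]; exact Cfsg.Agent.Lib.Helper1.x_mul_zpow hx2 hy2 _
  have hkey : ∀ k : ℤ, (x * y) ^ (k + k) = (x * y) ^ (-(m : ℤ)) → 4 ∣ orderOf (x * y) := by
    intro k hj
    have h1 : (x * y) ^ (k + k + m) = 1 := by
      rw [zpow_add, hj, ← zpow_add, neg_add_cancel, zpow_zero]
    have hdvd := (orderOf_dvd_iff_zpow_eq_one).2 h1
    have h2 : (2 : ℤ) ∣ (orderOf (x * y) : ℤ) := ⟨m, by rw [hm]; push_cast; ring⟩
    have h3 := dvd_trans h2 hdvd
    omega
  constructor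
  · rintro ⟨d, hd, hcon⟩
    rw [htarget] at hcon
    obtain ⟨k, hk | hk⟩ := Cfsg.Agent.Lib.Helper1.mem_closure_pair hx2 hy2 hd
    · have h1 : d * x * d⁻¹ = (x * y) ^ (k + k) * x := by
        rw [hk, Cfsg.Agent.Lib.Helper1.zpow_mul_x hx2 hy2, mul_assoc, ← zpow_neg, ← zpow_add]
        rw [Cfsg.Agent.Lib.Helper1.x_mul_zpow hx2 hy2]
        congr 2; ring
      rw [h1] at hcon
      exact hkey k (mul_right_cancel hcon)
    · have h1 : d * x * d⁻¹ = (x * y) ^ (-k + -k) * x := by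
        rw [hk, mul_inv_rev, hx']
        calc x * (x * y) ^ k * x * (((x * y) ^ k)⁻¹ * x)
            = (x * (x * y) ^ k * x) * (((x * y) ^ k)⁻¹ * x) := by group
          _ = (x * y) ^ (-k + -k) * x := by
            rw [Cfsg.Agent.Lib.Helper1.conj_mul_zpow hx2 hy2, ← zpow_neg, ← mul_assoc, ← zpow_add]
      rw [h1] at hcon
      exact hkey (-k) (mul_right_cancel hcon)
  · rintro ⟨j, hj⟩
    have hmj : m = 2 * j := by omega
    refine ⟨(x * y) ^ (j : ℤ), Cfsg.Agent.Lib.Helper1.zpow_mem_closure_pair _, ?_⟩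
    rw [htarget]
    have h1 : (x * y) ^ (j : ℤ) * x * ((x * y) ^ (j : ℤ))⁻¹ = (x * y) ^ ((j : ℤ) + j) * x := by
      rw [Cfsg.Agent.Lib.Helper1.zpow_mul_x hx2 hy2, mul_assoc, ← zpow_neg, ← zpow_add]
      rw [Cfsg.Agent.Lib.Helper1.x_mul_zpow hx2 hy2]
      congr 2; ring
    rw [h1]
    congr 1
    have h2 : ((j : ℤ) + j) = (m : ℤ) := by rw [hmj]; push_cast; ring
    rw [h2]
    -- ρ^m = ρ^{-m}
    rw [zpow_neg]
    exact (inv_eq_of_mul_eq_one_left hzz).symm

end Cfsg.Agent.S0211
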