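import Cfsg.Statements.S0233
import Mathlib
import Cfsg.Agent.Lib.Helper1.BF

set_option autoImplicit false
open Cfsg

namespace Cfsg.Agent.S0233

open Cfsg.Agent.Lib.Helper1


/-- Let G be a finite group of even order with exactly n involutions whose centre has odd order, and put a = |G|/n. Then G has a proper subgroup H with |G : H| = 2 or |G : H| < a(a+1)/2; over ℕ the latter reads 2·|G:H|·n² < |G|·(|G| + n). -/
theorem result {G : Type*} [Group G] [Finite G] (heven : Even (Nat.card G)) (hZ : Odd (Nat.card (Subgroup.center G))) : ∃ H : Subgroup G, H ≠ ⊤ ∧ (H.index = 2 ∨ 2 * H.index * (Nat.card {t : G // orderOf t = 2}) ^ 2 < Nat.card G * (Nat.card G + Nat.card {t : G // orderOf t = 2})) := by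
  classical
  by_contra hcon
  push Not at hcon
  set g := Nat.card G with hg
  set n := Nat.card {t : G // orderOf t = 2} with hn
  have hgpos : 0 < g := Nat.card_pos
  -- an involution exists
  obtain ⟨t, ht⟩ := exists_prime_orderOf_dvd_card' (G := G) 2 (even_iff_two_dvd.1 heven)
  have hn1 : 1 ≤ n := by
    rw [hn]
    exact Nat.card_pos_iff.2 ⟨⟨⟨t, ht⟩⟩, inferInstance⟩
  have hpos : 0 < g + n := by omega
  have hA : ∀ x : G, orderOf x = 2 →
      Nat.card (Subgroup.centralizer ({x} : Set G)) ≤ 2 * n ^ 2 / (g + n) := by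
    intro x hx
    have hne : Subgroup.centralizer ({x} : Set G) ≠ ⊤ := by
      intro htop
      rw [Subgroup.centralizer_eq_top_iff_subset] at htop
      have hxZ : x ∈ Subgroup.center G := htop (Set.mem_singleton x)
      have h2 : orderOf (⟨x, hxZ⟩ : Subgroup.center G) ∣ Nat.card (Subgroup.center G) :=
        orderOf_dvd_natCard _
      rw [← Subgroup.orderOf_coe] at h2
      simp only at h2
      rw [hx] at h2
      exact (Nat.not_even_iff_odd.2 hZ) (even_iff_two_dvd.2 h2)
    obtain ⟨-, h2⟩ := hcon _ hne
    have h3 := (Subgroup.centralizer ({x} : Set G)).card_mul_index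
    rw [Nat.le_div_iff_mul_le hpos]
    have hidx : 0 < (Subgroup.centralizer ({x} : Set G)).index := by
      rcases Nat.eq_zero_or_pos (Subgroup.centralizer ({x} : Set G)).index with h0 | h0
      · rw [h0, mul_zero] at h3; omega
      · exact h0
    apply Nat.le_of_mul_le_mul_right _ hidx
    calc Nat.card (Subgroup.centralizer ({x} : Set G)) * (g + n) * (Subgroup.centralizer ({x} : Set G)).index
        = (Nat.card (Subgroup.centralizer ({x} : Set G)) * (Subgroup.centralizer ({x} : Set G)).index) * (g + n) := by ring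
      _ = g * (g + n) := by rw [h3]
      _ ≤ 2 * (Subgroup.centralizer ({x} : Set G)).index * n ^ 2 := h2
      _ = 2 * n ^ 2 * (Subgroup.centralizer ({x} : Set G)).index := by ring
  have hB : ∀ x : G, x ^ 2 ≠ 1 → IsConj x x⁻¹ →
      Nat.card (Subgroup.centralizer ({x} : Set G)) ≤ n ^ 2 / (g + n) := by
    intro x hx hreal
    have hE := card_extCentralizer hx hreal
    have h3 := (Subgroup.centralizer ({x} : Set G)).card_mul_index
    have h4 := (extCentralizer x).card_mul_index
    by_cases htop : extCentralizer x = ⊤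
    · exfalso
      rw [htop, Subgroup.card_top] at hE
      have hc : 0 < Nat.card (Subgroup.centralizer ({x} : Set G)) := Nat.card_pos
      have hidx2 : (Subgroup.centralizer ({x} : Set G)).index = 2 := by
        have : Nat.card (Subgroup.centralizer ({x} : Set G)) * (Subgroup.centralizer ({x} : Set G)).index
            = Nat.card (Subgroup.centralizer ({x} : Set G)) * 2 := by
          rw [h3, hE]; ring
        exact Nat.eq_of_mul_eq_mul_left hc this
      have hne : Subgroup.centralizer ({x} : Set G) ≠ ⊤ := by
        intro h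
        rw [h, Subgroup.index_top] at hidx2
        omega
      exact (hcon _ hne).1 hidx2
    · obtain ⟨-, h2⟩ := hcon _ htop
      rw [Nat.le_div_iff_mul_le hpos]
      have hidx : 0 < (extCentralizer x).index := by
        rcases Nat.eq_zero_or_pos (extCentralizer x).index with h0 | h0
        · rw [h0, mul_zero] at h4; omega
        · exact h0
      apply Nat.le_of_mul_le_mul_right _ (Nat.mul_pos (by norm_num : 0 < 2) hidx)
      calc Nat.card (Subgroup.centralizer ({x} : Set G)) * (g + n) * (2 * (extCentralizer x).index)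
          = (Nat.card (extCentralizer x) * (extCentralizer x).index) * (g + n) := by rw [hE]; ring
        _ = g * (g + n) := by rw [h4]
        _ ≤ 2 * (extCentralizer x).index * n ^ 2 := h2
        _ = n ^ 2 * (2 * (extCentralizer x).index) := by ring
  obtain ⟨r, hr, hmain⟩ := bf_count (G := G) _ _ hA hB
  rw [← hn, ← hg] at hr
  rw [← hn] at hmain
  have hA' : 2 * n ^ 2 / (g + n) * (g + n) ≤ 2 * n ^ 2 := Nat.div_mul_le_self _ _
  have hB' : n ^ 2 / (g + n) * (g + n) ≤ n ^ 2 := Nat.div_mul_le_self _ _
  set A := 2 * n ^ 2 / (g + n) with hAdef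
  set B := n ^ 2 / (g + n) with hBdef
  have h1 : (n * n + n) * (g + n) ≤ (n * A + r * B) * (g + n) := Nat.mul_le_mul_right _ hmain
  have h2 : (n * A + r * B) * (g + n) ≤ n * (2 * n ^ 2) + r * n ^ 2 := by
    have e1 := Nat.mul_le_mul_left n hA'
    have e2 := Nat.mul_le_mul_left r hB'
    calc (n * A + r * B) * (g + n) = n * (A * (g + n)) + r * (B * (g + n)) := by ring
      _ ≤ n * (2 * n ^ 2) + r * n ^ 2 := Nat.add_le_add e1 e2
  have hg' : g = n + 1 + r := hr.symm
  rw [hg'] at h1 h2
  nlinarith [h1, h2, hn1, Nat.zero_le r, Nat.zero_le (n * r), Nat.zero_le (n * n)]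

end Cfsg.Agent.S0233
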