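import Cfsg.Statements.S0212
import Mathlib
import Cfsg.Agent.S0233
import Cfsg.Agent.Lib.Helper1.ClassSize
import Cfsg.Agent.Lib.Helper1.SimpleAct
import Cfsg.Agent.Lib.Helper1.StrongEmb

set_option autoImplicit false
open Cfsg

namespace Cfsg.Agent.S0212

open Cfsg.Agent.Lib.Helper1


/-- The Brauer–Fowler bound: if G is a finite simple group and t an involution of G whose centralizer has order n, then |G| ≤ (2n^2)!. -/
theorem result {G : Type*} [Group G] [Finite G] [IsSimpleGroup G] (t : G) (ht : orderOf t = 2) : Nat.card G ≤ Nat.factorial (2 * (Nat.card (Subgroup.centralizer ({t} : Set G))) ^ 2) := by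
  classical
  set g := Nat.card G with hg
  set c := Nat.card (Subgroup.centralizer ({t} : Set G)) with hc
  set n := Nat.card {t : G // orderOf t = 2} with hn
  have hcpos : 0 < c := Nat.card_pos
  have hmono : ∀ m : ℕ, 0 < m → m ≤ (2 * m ^ 2).factorial := by
    intro m hm
    have h1 : m ≤ 2 * m ^ 2 := by nlinarith
    exact le_trans h1 (Nat.self_le_factorial _)
  by_cases htop : Subgroup.centralizer ({t} : Set G) = ⊤
  · have : c = g := by rw [hc, htop, Subgroup.card_top]
    rw [← this]
    exact hmono c hcpos
  · -- centre is trivial
    have hZ : Subgroup.center G = ⊥ := by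
      rcases (inferInstance : (Subgroup.center G).Normal).eq_bot_or_eq_top with h | h
      · exact h
      · exfalso
        apply htop
        rw [Subgroup.centralizer_eq_top_iff_subset, h]
        exact Set.subset_univ _
    have hZodd : Odd (Nat.card (Subgroup.center G)) := by
      rw [hZ, Subgroup.card_bot]; exact odd_one
    have heven : Even (Nat.card G) := by
      rw [even_iff_two_dvd, ← ht]
      exact orderOf_dvd_natCard t
    obtain ⟨H, hH, hidx⟩ := Cfsg.Agent.S0233.result heven hZodd
    rw [← hg, ← hn] at hidx
    -- n * c ≥ g
    have hnc : g ≤ n * c := by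
      rw [hg, ← card_conj_mul_card_centralizer t]
      apply Nat.mul_le_mul_right
      rw [hn]
      apply Nat.card_le_card_of_injective
        (fun y : {y : G // IsConj t y} => (⟨y.1, by
          obtain ⟨u, hu⟩ := isConj_iff.1 y.2
          rw [← hu, orderOf_conj]; exact ht⟩ : {y : G // orderOf y = 2}))
      intro a b hab
      apply Subtype.ext
      have := congrArg Subtype.val hab
      exact this
    have hdvd := card_dvd_factorial_index_of_simple H hH
    have hle : g ≤ H.index.factorial := Nat.le_of_dvd (Nat.factorial_pos _) hdvd
    refine le_trans hle (Nat.factorial_le ?_)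
    rcases hidx with h2 | hlt
    · rw [h2]
      nlinarith
    · -- 2 * idx * n^2 < g (g + n) ≤ n c (n c + n)
      have hn0 : 0 < n := by
        rcases Nat.eq_zero_or_pos n with h0 | h0
        · rw [h0] at hnc
          have : 0 < g := Nat.card_pos
          omega
        · exact h0
      have h3 : g * (g + n) ≤ n * c * (n * c + n) := Nat.mul_le_mul hnc (by omega)
      have h4 : 2 * H.index * n ^ 2 < n ^ 2 * (c * (c + 1)) := by
        calc 2 * H.index * n ^ 2 < g * (g + n) := hlt
          _ ≤ n * c * (n * c + n) := h3
          _ = n ^ 2 * (c * (c + 1)) := by ring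
      have h5 : 2 * H.index < c * (c + 1) := by
        have : n ^ 2 * (2 * H.index) < n ^ 2 * (c * (c + 1)) := by
          calc n ^ 2 * (2 * H.index) = 2 * H.index * n ^ 2 := by ring
            _ < n ^ 2 * (c * (c + 1)) := h4
        exact Nat.lt_of_mul_lt_mul_left this
      nlinarith

end Cfsg.Agent.S0212
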