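import Cfsg.Statements.S0213
import Mathlib
import Cfsg.Agent.Lib.Helper1.Dih3
import Cfsg.Agent.Lib.Helper1.Invol
import Cfsg.Agent.Lib.Helper1.ClassSize
import Cfsg.Agent.Lib.Helper1.StrongEmb

set_option autoImplicit false
open Cfsg

namespace Cfsg.Agent.S0213

open Cfsg.Agent.Lib.Helper1

theorem invol_unique {G : Type*} [Group G] (w z : G) (k : ℕ) (hw : orderOf w = 2 * k)
    (hz : orderOf z = 2) (hzw : z ∈ Subgroup.zpowers w) : z = w ^ k := by
  obtain ⟨j, rfl⟩ := Subgroup.mem_zpowers_iff.1 hzw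
  have h1 : (w ^ j) * (w ^ j) = 1 := sq_eq_one_of_orderOf_two hz
  have hne : w ^ j ≠ 1 := ne_one_of_orderOf_two hz
  rw [← zpow_add, ← two_mul] at h1
  have h2 : ((orderOf w : ℕ) : ℤ) ∣ 2 * j := orderOf_dvd_iff_zpow_eq_one.2 h1
  rw [hw] at h2
  push_cast at h2
  have h3 : (k : ℤ) ∣ j := by
    exact (mul_dvd_mul_iff_left (by norm_num : (2 : ℤ) ≠ 0)).1 h2
  obtain ⟨m, rfl⟩ := h3
  have hv : (w ^ k) * (w ^ k) = 1 := by
    rw [← pow_add, ← two_mul, ← hw, pow_orderOf_eq_one]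
  have e : w ^ ((k : ℤ) * m) = (w ^ k) ^ m := by
    rw [zpow_mul, zpow_natCast]
  rw [e] at hne ⊢
  rcases Int.even_or_odd m with ⟨s, hs⟩ | ⟨s, hs⟩
  · exfalso
    apply hne
    rw [hs, ← two_mul, zpow_mul, zpow_two, hv, one_zpow]
  · rw [hs, zpow_add, zpow_mul, zpow_two, hv, one_zpow, one_mul, zpow_one]

theorem conj_mem_zpowers {G : Type*} [Group G] {w z : G} (g : G) (h : z ∈ Subgroup.zpowers w) :
    g * z * g⁻¹ ∈ Subgroup.zpowers (g * w * g⁻¹) := by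
  obtain ⟨j, rfl⟩ := Subgroup.mem_zpowers_iff.1 h
  rw [Subgroup.mem_zpowers_iff]
  exact ⟨j, by rw [conj_zpow]⟩

/-- the pairs `(u, v)` of conjugates of `x₁`, `x₂` with `z ∈ ⟨uv⟩` -/
abbrev BB {G : Type*} [Group G] (x₁ x₂ z : G) : Type _ :=
  {p : G × G // IsConj x₁ p.1 ∧ IsConj x₂ p.2 ∧ z ∈ Subgroup.zpowers (p.1 * p.2)}

def bbConj {G : Type*} [Group G] (x₁ x₂ z g : G) : BB x₁ x₂ z ≃ BB x₁ x₂ (g * z * g⁻¹) where
  toFun p := ⟨(g * p.1.1 * g⁻¹, g * p.1.2 * g⁻¹),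
    p.2.1.trans (isConj_iff.2 ⟨g, rfl⟩), p.2.2.1.trans (isConj_iff.2 ⟨g, rfl⟩), by
      have := conj_mem_zpowers g p.2.2.2
      have e : g * (p.1.1 * p.1.2) * g⁻¹ = g * p.1.1 * g⁻¹ * (g * p.1.2 * g⁻¹) := by group
      rw [e] at this
      exact this⟩
  invFun p := ⟨(g⁻¹ * p.1.1 * g, g⁻¹ * p.1.2 * g),
    p.2.1.trans (isConj_iff.2 ⟨g⁻¹, by simp⟩), p.2.2.1.trans (isConj_iff.2 ⟨g⁻¹, by simp⟩), by
      have := conj_mem_zpowers g⁻¹ p.2.2.2
      have e : g⁻¹ * (p.1.1 * p.1.2) * g⁻¹⁻¹ = g⁻¹ * p.1.1 * g * (g⁻¹ * p.1.2 * g) := by group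
      have e2 : g⁻¹ * (g * z * g⁻¹) * g⁻¹⁻¹ = z := by group
      rw [e, e2] at this
      exact this⟩
  left_inv p := by
    apply Subtype.ext
    apply Prod.ext <;> simp [mul_assoc]
  right_inv p := by
    apply Subtype.ext
    apply Prod.ext <;> simp [mul_assoc]


/-- Thompson Order Formula, two-class case: if every involution of the finite group G is conjugate to exactly one of the non-conjugate involutions x₁, x₂, and nᵢ is the number of pairs (u, v) with u conjugate to x₁, v conjugate to x₂ and xᵢ in the cyclic group generated by uv, then |G| = |C(x₂)| n₁ + |C(x₁)| n₂. -/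
theorem result {G : Type*} [Group G] [Finite G] (x₁ x₂ : G) (h₁ : orderOf x₁ = 2) (h₂ : orderOf x₂ = 2) (hnc : ¬ IsConj x₁ x₂) (hall : ∀ t : G, orderOf t = 2 → IsConj x₁ t ∨ IsConj x₂ t) : Nat.card G = Nat.card (Subgroup.centralizer ({x₂} : Set G)) * Nat.card {p : G × G // IsConj x₁ p.1 ∧ IsConj x₂ p.2 ∧ x₁ ∈ Subgroup.zpowers (p.1 * p.2)} + Nat.card (Subgroup.centralizer ({x₁} : Set G)) * Nat.card {p : G × G // IsConj x₁ p.1 ∧ IsConj x₂ p.2 ∧ x₂ ∈ Subgroup.zpowers (p.1 * p.2)} := by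
  classical
  haveI := Fintype.ofFinite G
  have hx1 : x₁ * x₁ = 1 := sq_eq_one_of_orderOf_two h₁
  have hx2 : x₂ * x₂ = 1 := sq_eq_one_of_orderOf_two h₂
  -- conjugates of involutions are involutions
  have hord : ∀ (x y : G), orderOf x = 2 → IsConj x y → orderOf y = 2 := by
    intro x y hx hxy
    obtain ⟨c, rfl⟩ := isConj_iff.1 hxy
    rw [orderOf_conj]; exact hx
  -- the involution attached to a pair
  have hpair : ∀ u v : G, IsConj x₁ u → IsConj x₂ v →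
      ∃ k : ℕ, orderOf (u * v) = 2 * k ∧ orderOf ((u * v) ^ k) = 2 := by
    intro u v hu hv
    have hu2 := hord _ _ h₁ hu
    have hv2 := hord _ _ h₂ hv
    have heven : Even (orderOf (u * v)) := by
      rw [← Nat.not_odd_iff_even]
      intro hodd
      obtain ⟨g, hg⟩ := conj_of_odd_orderOf_mul (sq_eq_one_of_orderOf_two hu2)
        (sq_eq_one_of_orderOf_two hv2) hodd
      exact hnc (hu.trans ((isConj_iff.2 ⟨g, hg⟩).trans hv.symm))
    obtain ⟨k, hk⟩ := heven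
    have hk0 : k ≠ 0 := by
      rintro rfl
      have := orderOf_pos (u * v)
      omega
    refine ⟨k, by omega, ?_⟩
    rw [orderOf_pow_of_dvd hk0 ⟨2, by omega⟩, hk]
    have : (k + k) / k = 2 := by
      rw [← two_mul, Nat.mul_div_cancel _ (Nat.pos_of_ne_zero hk0)]
    exact this
  set K₁ := {y : G // IsConj x₁ y} with hK₁
  set K₂ := {y : G // IsConj x₂ y} with hK₂
  set a₁ := Nat.card (BB x₁ x₂ x₁) with ha₁
  set a₂ := Nat.card (BB x₁ x₂ x₂) with ha₂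
  -- all pairs
  have hP : Nat.card {p : G × G // IsConj x₁ p.1 ∧ IsConj x₂ p.2} = Nat.card K₁ * Nat.card K₂ := by
    rw [← Nat.card_prod]
    apply Nat.card_congr
    exact
      { toFun := fun p => (⟨p.1.1, p.2.1⟩, ⟨p.1.2, p.2.2⟩)
        invFun := fun q => ⟨(q.1.1, q.2.1), q.1.2, q.2.2⟩
        left_inv := fun p => rfl
        right_inv := fun q => rfl }
  -- decomposition by the involution
  have hdec : Nat.card {p : G × G // IsConj x₁ p.1 ∧ IsConj x₂ p.2} =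
      Nat.card ((Σ z : K₁, BB x₁ x₂ z.1) ⊕ (Σ z : K₂, BB x₁ x₂ z.1)) := by
    apply Nat.card_congr
    refine
      { toFun := fun p =>
          if h : IsConj x₁ ((p.1.1 * p.1.2) ^ (orderOf (p.1.1 * p.1.2) / 2)) then
            Sum.inl ⟨⟨_, h⟩, ⟨p.1, p.2.1, p.2.2, Subgroup.pow_mem _ (Subgroup.mem_zpowers _) _⟩⟩
          else
            Sum.inr ⟨⟨(p.1.1 * p.1.2) ^ (orderOf (p.1.1 * p.1.2) / 2), by
              obtain ⟨k, hk, hk2⟩ := hpair p.1.1 p.1.2 p.2.1 p.2.2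
              have e : orderOf (p.1.1 * p.1.2) / 2 = k := by omega
              rw [e] at h ⊢
              rcases hall _ hk2 with h' | h'
              · exact absurd h' h
              · exact h'⟩, ⟨p.1, p.2.1, p.2.2, Subgroup.pow_mem _ (Subgroup.mem_zpowers _) _⟩⟩
        invFun := fun s => match s with
          | Sum.inl q => ⟨q.2.1, q.2.2.1, q.2.2.2.1⟩
          | Sum.inr q => ⟨q.2.1, q.2.2.1, q.2.2.2.1⟩
        left_inv := ?_
        right_inv := ?_ }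
    · intro p
      by_cases h : IsConj x₁ ((p.1.1 * p.1.2) ^ (orderOf (p.1.1 * p.1.2) / 2))
      · dsimp only
        rw [dif_pos h]
      · dsimp only
        rw [dif_neg h]
    · rintro (⟨⟨z, hz⟩, ⟨p, hp1, hp2, hp3⟩⟩ | ⟨⟨z, hz⟩, ⟨p, hp1, hp2, hp3⟩⟩)
      · obtain ⟨k, hk, hk2⟩ := hpair p.1 p.2 hp1 hp2
        have e : orderOf (p.1 * p.2) / 2 = k := by omega
        have hzk : z = (p.1 * p.2) ^ k := invol_unique _ _ k hk (hord _ _ h₁ hz) hp3
        have h : IsConj x₁ ((p.1 * p.2) ^ (orderOf (p.1 * p.2) / 2)) := by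
          rw [e, ← hzk]; exact hz
        dsimp only
        rw [dif_pos h]
        subst hzk
        have aux : ∀ (j : ℕ), j = k → ∀ (h : IsConj x₁ ((p.1 * p.2) ^ j))
            (hm : IsConj x₁ p.1 ∧ IsConj x₂ p.2 ∧ (p.1 * p.2) ^ j ∈ Subgroup.zpowers (p.1 * p.2)),
            (Sum.inl ⟨⟨(p.1 * p.2) ^ j, h⟩, ⟨p, hm⟩⟩ :
              (Σ z : K₁, BB x₁ x₂ z.1) ⊕ (Σ z : K₂, BB x₁ x₂ z.1)) =
            Sum.inl ⟨⟨(p.1 * p.2) ^ k, hz⟩, ⟨p, hp1, hp2, hp3⟩⟩ := by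
          rintro j rfl h hm; rfl
        exact aux _ e _ _
      · obtain ⟨k, hk, hk2⟩ := hpair p.1 p.2 hp1 hp2
        have e : orderOf (p.1 * p.2) / 2 = k := by omega
        have hzk : z = (p.1 * p.2) ^ k := invol_unique _ _ k hk (hord _ _ h₂ hz) hp3
        have h : ¬ IsConj x₁ ((p.1 * p.2) ^ (orderOf (p.1 * p.2) / 2)) := by
          rw [e, ← hzk]
          intro h'
          exact hnc (h'.trans hz.symm)
        dsimp only
        rw [dif_neg h]
        subst hzk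
        have aux : ∀ (j : ℕ), j = k → ∀ (h : IsConj x₂ ((p.1 * p.2) ^ j))
            (hm : IsConj x₁ p.1 ∧ IsConj x₂ p.2 ∧ (p.1 * p.2) ^ j ∈ Subgroup.zpowers (p.1 * p.2)),
            (Sum.inr ⟨⟨(p.1 * p.2) ^ j, h⟩, ⟨p, hm⟩⟩ :
              (Σ z : K₁, BB x₁ x₂ z.1) ⊕ (Σ z : K₂, BB x₁ x₂ z.1)) =
            Sum.inr ⟨⟨(p.1 * p.2) ^ k, hz⟩, ⟨p, hp1, hp2, hp3⟩⟩ := by
          rintro j rfl h hm; rfl
        exact aux _ e _ _
  have hs1 : Nat.card (Σ z : K₁, BB x₁ x₂ z.1) = Nat.card K₁ * a₁ := by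
    rw [Nat.card_sigma]
    have : ∀ z : K₁, Nat.card (BB x₁ x₂ z.1) = a₁ := by
      rintro ⟨z, hz⟩
      obtain ⟨g, rfl⟩ := isConj_iff.1 hz
      exact (Nat.card_congr (bbConj x₁ x₂ x₁ g)).symm
    simp only [this, Finset.sum_const, Finset.card_univ, smul_eq_mul, Nat.card_eq_fintype_card]
  have hs2 : Nat.card (Σ z : K₂, BB x₁ x₂ z.1) = Nat.card K₂ * a₂ := by
    rw [Nat.card_sigma]
    have : ∀ z : K₂, Nat.card (BB x₁ x₂ z.1) = a₂ := by
      rintro ⟨z, hz⟩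
      obtain ⟨g, rfl⟩ := isConj_iff.1 hz
      exact (Nat.card_congr (bbConj x₁ x₂ x₂ g)).symm
    simp only [this, Finset.sum_const, Finset.card_univ, smul_eq_mul, Nat.card_eq_fintype_card]
  rw [Nat.card_sum, hs1, hs2, hP] at hdec
  have hc1 := card_conj_mul_card_centralizer x₁
  have hc2 := card_conj_mul_card_centralizer x₂
  rw [← hK₁] at hc1
  rw [← hK₂] at hc2
  set c₁ := Nat.card (Subgroup.centralizer ({x₁} : Set G)) with hc₁
  set c₂ := Nat.card (Subgroup.centralizer ({x₂} : Set G)) with hc₂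
  set g := Nat.card G with hg
  have hgpos : 0 < g := Nat.card_pos
  show g = c₂ * a₁ + c₁ * a₂
  have key : g * g = g * (c₂ * a₁ + c₁ * a₂) := by
    calc g * g = (Nat.card K₁ * c₁) * (Nat.card K₂ * c₂) := by rw [hc1, hc2]
      _ = (Nat.card K₁ * Nat.card K₂) * (c₁ * c₂) := by ring
      _ = (Nat.card K₁ * a₁ + Nat.card K₂ * a₂) * (c₁ * c₂) := by rw [hdec]
      _ = (Nat.card K₁ * c₁) * (c₂ * a₁) + (Nat.card K₂ * c₂) * (c₁ * a₂) := by ring
      _ = g * (c₂ * a₁ + c₁ * a₂) := by rw [hc1, hc2]; ring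
  exact Nat.eq_of_mul_eq_mul_left hgpos key

end Cfsg.Agent.S0213
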