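import Cfsg.Statements.S0214
import Mathlib
import Cfsg.Agent.Lib.Helper1.StrongEmb2
import Cfsg.Agent.Lib.Helper1.StrongEmb

set_option autoImplicit false
open Cfsg

namespace Cfsg.Agent.S0214

open Cfsg.Agent.Lib.Helper1
open scoped Pointwise


/-- Let H be a proper subgroup of the finite group G and P a nontrivial Sylow 2-subgroup of H. Then H is strongly embedded in G if and only if N_G(X) ≤ H for every nontrivial subgroup X of P. -/
theorem result {G : Type*} [Group G] [Finite G] (H : Subgroup G) (hH : H ≠ ⊤) (P : Sylow 2 ↥H) (hP : (P : Subgroup ↥H) ≠ ⊥) : Cfsg.IsStronglyEmbedded H ↔ (∀ X : Subgroup ↥H, X ≤ (P : Subgroup ↥H) → X ≠ ⊥ → Subgroup.normalizer ((X.map H.subtype : Subgroup G) : Set G) ≤ H) := by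
  classical
  haveI : Fact (Nat.Prime 2) := ⟨Nat.prime_two⟩
  constructor
  · rintro ⟨-, -, hSE⟩ X hXP hX n hn
    by_contra hnH
    have hodd := hSE n hnH
    -- an involution in X
    have hXp : IsPGroup 2 X := P.isPGroup'.to_le hXP
    obtain ⟨k, hk⟩ := IsPGroup.iff_card.1 hXp
    have hk0 : k ≠ 0 := by
      rintro rfl
      rw [pow_zero, Subgroup.card_eq_one] at hk
      exact hX hk
    have h2 : 2 ∣ Nat.card X := by rw [hk]; exact dvd_pow_self 2 hk0
    obtain ⟨x, hx⟩ := exists_prime_orderOf_dvd_card' (G := X) 2 h2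
    have hxo : orderOf (((x : X) : H) : G) = 2 := by
      rw [Subgroup.orderOf_coe, Subgroup.orderOf_coe]; exact hx
    have hxXG : (((x : X) : H) : G) ∈ X.map H.subtype := ⟨(x : H), x.2, rfl⟩
    have hmem : (((x : X) : H) : G) ∈ H ⊓ H.map (MulAut.conj n).toMonoidHom := by
      refine Subgroup.mem_inf.2 ⟨(x : H).2, ?_⟩
      rw [mem_map_conj_iff]
      have hn' : n⁻¹ ∈ Subgroup.normalizer ((X.map H.subtype : Subgroup G) : Set G) :=
        Subgroup.inv_mem _ hn
      have h3 := (Subgroup.mem_normalizer_iff.1 hn' _).1 hxXG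
      rw [inv_inv] at h3
      obtain ⟨y, -, hy⟩ := h3
      rw [← hy]
      exact y.2
    exact not_odd_card_of_invol_mem hmem hxo hodd
  · intro hN
    set PG : Subgroup G := (P : Subgroup H).map H.subtype with hPG
    have hPGH : PG ≤ H := by
      rintro _ ⟨y, -, rfl⟩
      exact y.2
    -- Step 1: normalizers of nontrivial 2-subgroups of H lie in H
    have step1 : ∀ Y : Subgroup G, Y ≤ H → IsPGroup 2 Y → Y ≠ ⊥ →
        Subgroup.normalizer (Y : Set G) ≤ H := by
      intro Y hYH hYp hYne n hn
      obtain ⟨h, hhH, hh⟩ := exists_conj_le_sylow_of_subgroup H P Y hYH hYp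
      set Y' : Subgroup G := MulAut.conj h⁻¹ • Y with hY'
      have hY'H : Y' ≤ H := conj_smul_le_of_mem (H.inv_mem hhH) hYH
      have hmap : (Y'.subgroupOf H).map H.subtype = Y' := Subgroup.map_subgroupOf_eq_of_le hY'H
      have hXP : Y'.subgroupOf H ≤ P := by
        intro z hz
        rw [Subgroup.mem_subgroupOf, hY', mem_conj_smul_iff, inv_inv] at hz
        have h1 := hh _ hz
        obtain ⟨w, hw, hwz⟩ := h1
        have : w = z := by
          apply Subtype.ext
          rw [Subgroup.subtype_apply] at hwz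
          rw [hwz]; group
        rw [← this]; exact hw
      have hXne : Y'.subgroupOf H ≠ ⊥ := by
        intro hbot
        apply hYne
        rw [eq_bot_iff]
        intro y hy
        have h1 : h⁻¹ * y * h ∈ Y' := by
          rw [hY', mem_conj_smul_iff, inv_inv]
          have : h * (h⁻¹ * y * h) * h⁻¹ = y := by group
          rw [this]; exact hy
        have h2 : (⟨h⁻¹ * y * h, hY'H h1⟩ : H) ∈ Y'.subgroupOf H := by
          rw [Subgroup.mem_subgroupOf]; exact h1
        rw [hbot, Subgroup.mem_bot] at h2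
        have h3 : h⁻¹ * y * h = 1 := congrArg Subtype.val h2
        rw [Subgroup.mem_bot]
        have : y = h * (h⁻¹ * y * h) * h⁻¹ := by group
        rw [this, h3]; group
      have h4 := hN _ hXP hXne
      rw [hmap] at h4
      have h5 : h⁻¹ * n * h⁻¹⁻¹ ∈ Subgroup.normalizer ((Y' : Subgroup G) : Set G) :=
        conj_mem_normalizer_conj_smul hn
      have h6 := h4 h5
      have : n = h * (h⁻¹ * n * h⁻¹⁻¹) * h⁻¹ := by group
      rw [this]
      exact H.mul_mem (H.mul_mem hhH h6) (H.inv_mem hhH)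
    have hPGp : IsPGroup 2 PG := P.isPGroup'.map H.subtype
    have hPGne : PG ≠ ⊥ := by
      intro h
      apply hP
      rw [eq_bot_iff]
      intro z hz
      have : (z : G) ∈ PG := ⟨z, hz, rfl⟩
      rw [h, Subgroup.mem_bot] at this
      rw [Subgroup.mem_bot]
      exact Subtype.ext this
    have hNP : Subgroup.normalizer (PG : Set G) ≤ H := step1 PG hPGH hPGp hPGne
    have hPmax := sylow_of_normalizer_le H P hNP
    have heven : Even (Nat.card H) := by
      rw [even_iff_two_dvd]
      by_contra hnd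
      apply hP
      have := P.card_eq_multiplicity
      rw [Nat.factorization_eq_zero_of_not_dvd hnd, pow_zero, Subgroup.card_eq_one] at this
      exact this
    refine ⟨hH, heven, ?_⟩
    intro g hgH
    by_contra hnodd
    set I : Subgroup G := H ⊓ H.map (MulAut.conj g).toMonoidHom with hI
    have hev : 2 ∣ Nat.card I := even_iff_two_dvd.1 (Nat.not_odd_iff_even.1 hnodd)
    obtain ⟨D⟩ : Nonempty (Sylow 2 I) := inferInstance
    have hDne : (D : Subgroup I) ≠ ⊥ := D.ne_bot_of_dvd_card hev
    set DG : Subgroup G := (D : Subgroup I).map I.subtype with hDG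
    have hDGI : DG ≤ I := by
      rintro _ ⟨y, -, rfl⟩
      exact y.2
    have hDGp : IsPGroup 2 DG := D.isPGroup'.map I.subtype
    have hDGne : DG ≠ ⊥ := by
      intro h
      apply hDne
      rw [eq_bot_iff]
      intro z hz
      have : (z : G) ∈ DG := ⟨z, hz, rfl⟩
      rw [h, Subgroup.mem_bot] at this
      rw [Subgroup.mem_bot]
      exact Subtype.ext this
    have hDGH : DG ≤ H := le_trans hDGI inf_le_left
    have hND1 : Subgroup.normalizer (DG : Set G) ≤ H := step1 DG hDGH hDGp hDGne
    -- the conjugate g⁻¹ D g lies in H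
    set Y₂ : Subgroup G := MulAut.conj g⁻¹ • DG with hY₂
    have hY₂H : Y₂ ≤ H := by
      intro z hz
      rw [hY₂, mem_conj_smul_iff, inv_inv] at hz
      have h1 : g * z * g⁻¹ ∈ H.map (MulAut.conj g).toMonoidHom := (le_trans hDGI inf_le_right) hz
      rw [mem_map_conj_iff] at h1
      have : g⁻¹ * (g * z * g⁻¹) * g = z := by group
      rw [this] at h1
      exact h1
    have hY₂p : IsPGroup 2 Y₂ := by
      have : Y₂ = DG.map (MulAut.conj g⁻¹).toMonoidHom := rfl
      rw [this]; exact hDGp.map _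
    have hY₂ne : Y₂ ≠ ⊥ := by
      intro h
      apply hDGne
      rw [eq_bot_iff]
      intro y hy
      have h1 : g⁻¹ * y * g ∈ Y₂ := by
        rw [hY₂, mem_conj_smul_iff, inv_inv]
        have : g * (g⁻¹ * y * g) * g⁻¹ = y := by group
        rw [this]; exact hy
      rw [h, Subgroup.mem_bot] at h1
      rw [Subgroup.mem_bot]
      have : y = g * (g⁻¹ * y * g) * g⁻¹ := by group
      rw [this, h1]; group
    have hNY₂ : Subgroup.normalizer (Y₂ : Set G) ≤ H := step1 Y₂ hY₂H hY₂p hY₂ne
    have hND2 : Subgroup.normalizer (DG : Set G) ≤ H.map (MulAut.conj g).toMonoidHom := by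
      intro n hn
      rw [mem_map_conj_iff]
      have h5 : g⁻¹ * n * g⁻¹⁻¹ ∈ Subgroup.normalizer ((Y₂ : Subgroup G) : Set G) :=
        conj_mem_normalizer_conj_smul hn
      rw [inv_inv] at h5
      exact hNY₂ h5
    have hNDI : Subgroup.normalizer (DG : Set G) ≤ I := le_inf hND1 hND2
    have hDmax := sylow_of_normalizer_le I D hNDI
    -- D_G and P_G are Sylow in G, D_G is H-conjugate into P_G
    obtain ⟨h₁, hh₁H, hh₁⟩ := exists_conj_le_sylow_of_subgroup H P DG hDGH hDGp
    obtain ⟨h₂, hh₂H, hh₂⟩ := exists_conj_le_sylow_of_subgroup H P Y₂ hY₂H hY₂p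
    -- conj h₁⁻¹ • DG ≤ PG, and conj h₁⁻¹ • DG is maximal, hence equal
    have e1 : MulAut.conj h₁⁻¹ • DG = PG := by
      have hle : MulAut.conj h₁⁻¹ • DG ≤ PG := by
        intro z hz
        rw [mem_conj_smul_iff, inv_inv] at hz
        have := hh₁ _ hz
        have e : h₁⁻¹ * (h₁ * z * h₁⁻¹) * h₁ = z := by group
        rw [e] at this
        exact this
      -- maximality of DG transported
      have hmax2 : MulAut.conj h₁ • PG = DG := by
        apply hDmax
        · have : MulAut.conj h₁ • PG = PG.map (MulAut.conj h₁).toMonoidHom := rfl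
          rw [this]; exact hPGp.map _
        · intro z hz
          rw [mem_conj_smul_iff]
          apply hle
          rw [mem_conj_smul_iff, inv_inv]
          have e : h₁ * (h₁⁻¹ * z * h₁) * h₁⁻¹ = z := by group
          rw [e]; exact hz
      rw [← hmax2, smul_smul, ← map_mul, inv_mul_cancel, map_one, one_smul]
    have e2 : MulAut.conj h₂⁻¹ • Y₂ = PG := by
      have hle : MulAut.conj h₂⁻¹ • Y₂ ≤ PG := by
        intro z hz
        rw [mem_conj_smul_iff, inv_inv] at hz
        have := hh₂ _ hz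
        have e : h₂⁻¹ * (h₂ * z * h₂⁻¹) * h₂ = z := by group
        rw [e] at this
        exact this
      have hmax2 : MulAut.conj (g * h₂) • PG = DG := by
        apply hDmax
        · have : MulAut.conj (g * h₂) • PG = PG.map (MulAut.conj (g * h₂)).toMonoidHom := rfl
          rw [this]; exact hPGp.map _
        · intro z hz
          rw [mem_conj_smul_iff]
          apply hle
          rw [mem_conj_smul_iff, inv_inv, hY₂, mem_conj_smul_iff, inv_inv]
          have e : g * (h₂ * ((g * h₂)⁻¹ * z * (g * h₂)) * h₂⁻¹) * g⁻¹ = z := by group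
          rw [e]; exact hz
      have e3 : Y₂ = MulAut.conj g⁻¹ • DG := rfl
      rw [e3, ← hmax2, smul_smul, smul_smul, ← map_mul, ← map_mul]
      have : h₂⁻¹ * g⁻¹ * (g * h₂) = 1 := by group
      rw [this, map_one, one_smul]
    -- hence a := h₁ * h₂⁻¹ * g⁻¹ normalizes DG
    have e4 : MulAut.conj (h₁ * (h₂⁻¹ * g⁻¹)) • DG = DG := by
      have : MulAut.conj (h₁ * (h₂⁻¹ * g⁻¹)) • DG = MulAut.conj h₁ • (MulAut.conj h₂⁻¹ • Y₂) := by
        rw [hY₂, smul_smul, smul_smul, ← map_mul, ← map_mul, mul_assoc]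
      rw [this, e2, ← e1, smul_smul, ← map_mul, mul_inv_cancel, map_one, one_smul]
    have ha : h₁ * (h₂⁻¹ * g⁻¹) ∈ Subgroup.normalizer (DG : Set G) := by
      rw [← map_conj_eq_iff]
      exact e4
    have haH := hND1 ha
    apply hgH
    have : g = ((h₁ * (h₂⁻¹ * g⁻¹))⁻¹ * h₁ * h₂⁻¹) := by group
    rw [this]
    exact H.mul_mem (H.mul_mem (H.inv_mem haH) hh₁H) (H.inv_mem hh₂H)

end Cfsg.Agent.S0214
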