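import Cfsg.Statements.S0216
import Mathlib
import Cfsg.Agent.Lib.Helper1.Dih3
import Cfsg.Agent.Lib.Helper1.Sylow2

set_option autoImplicit false
open Cfsg

namespace Cfsg.Agent.S0216

open Cfsg.Agent.Lib.Helper1

/-- For an involution u in a Sylow 2-subgroup P of a finite group G, the following are equivalent: no G-conjugate of u other than u lies in P; every commutator of u with an element of G has odd order. -/
theorem result {G : Type*} [Group G] [Finite G] (P : Sylow 2 G) (u : G) (hu : orderOf u = 2) (huP : u ∈ P) : (∀ g : G, g * u * g⁻¹ ∈ P → g * u * g⁻¹ = u) ↔ (∀ g : G, Odd (orderOf (u * g * u⁻¹ * g⁻¹))) := by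
  have hu2 : u * u = 1 := sq_eq_one_of_orderOf_two hu
  have hui : u⁻¹ = u := inv_eq_of_mul_eq_one_left hu2
  have hcomm_eq : ∀ g : G, u * g * u⁻¹ * g⁻¹ = u * (g * u * g⁻¹) := by
    intro g
    rw [hui]; group
  constructor
  · intro hiso g
    rw [hcomm_eq]
    set v := g * u * g⁻¹ with hv
    have hv2 : v * v = 1 := by
      rw [hv]
      calc g * u * g⁻¹ * (g * u * g⁻¹) = g * (u * u) * g⁻¹ := by group
        _ = 1 := by rw [hu2]; group
    by_contra hnodd
    have heven : Even (orderOf (u * v)) := Nat.not_odd_iff_even.1 hnodd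
    obtain ⟨k, hk⟩ := heven
    have hk' : orderOf (u * v) = 2 * k := by rw [hk]; ring
    have hpos : 0 < orderOf (u * v) := orderOf_pos _
    have hk0 : 0 < k := by omega
    obtain ⟨hzz, hz1, hcu, hcv⟩ := central_invol_of_even hu2 hv2 hk' hk0
    set z := (u * v) ^ k with hz
    -- `z * u` is a conjugate of `u`
    have hconj : ∃ h : G, h * u * h⁻¹ = z * u := by
      rcases Nat.even_or_odd' k with ⟨j, hj | hj⟩
      · refine ⟨(u * v) ^ (j : ℤ), ?_⟩
        rw [zpow_conj_left hu2 hv2, hz, hj]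
        congr 1
        rw [← zpow_natCast]
        congr 1
      · refine ⟨(u * v) ^ ((j : ℤ) + 1) * g, ?_⟩
        have e1 : (u * v) ^ ((j : ℤ) + 1) * g * u * ((u * v) ^ ((j : ℤ) + 1) * g)⁻¹
            = (u * v) ^ ((j : ℤ) + 1) * v * ((u * v) ^ ((j : ℤ) + 1))⁻¹ := by
          rw [hv]; group
        rw [e1, zpow_conj_right hu2 hv2]
        have e2 : z = (u * v) ^ (2 * ((j : ℤ) + 1)) * (u * v)⁻¹ := by
          rw [hz, hj, ← zpow_natCast, ← zpow_neg_one, ← zpow_add]
          congr 1
          push_cast; ring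
        rw [e2, mul_assoc, ← b_eq_inv_mul_a hu2 hv2]
    obtain ⟨h, hh⟩ := hconj
    obtain ⟨Q, huQ, hzQ⟩ := exists_sylow_of_commuting_invol hu2 hzz hcu.eq
    have hisoQ := isolated_of_mem_sylow P Q u hiso huQ
    have hmem : h * u * h⁻¹ ∈ Q := by
      rw [hh]; exact Subgroup.mul_mem _ hzQ huQ
    have := hisoQ h hmem
    rw [hh] at this
    apply hz1
    have e3 : z = (z * u) * u⁻¹ := by group
    rw [e3, this, mul_inv_cancel]
  · intro hodd g hg
    have h1 := hodd g
    rw [hcomm_eq] at h1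
    have hmem : u * (g * u * g⁻¹) ∈ (P : Subgroup G) := Subgroup.mul_mem _ huP hg
    obtain ⟨k, hk⟩ := (IsPGroup.iff_orderOf.1 P.isPGroup') ⟨_, hmem⟩
    rw [← Subgroup.orderOf_coe] at hk
    simp only at hk
    rw [hk] at h1
    have hk0 : k = 0 := by
      by_contra hne
      have : Even (2 ^ k) := (Nat.even_pow.2 ⟨even_two, hne⟩)
      exact (Nat.not_odd_iff_even.2 this) h1
    rw [hk0, pow_zero, orderOf_eq_one_iff] at hk
    have : g * u * g⁻¹ = u⁻¹ := (inv_eq_of_mul_eq_one_right hk).symm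
    rw [this, hui]

end Cfsg.Agent.S0216
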