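import Cfsg.Statements.S0218
import Mathlib
import Cfsg.Agent.Lib.Helper1.Invol

set_option autoImplicit false
open Cfsg

namespace Cfsg.Agent.S0218

open Cfsg.Agent.Lib.Helper1

theorem eq_a_of_orderOf_two (m : ℕ) [NeZero m] (x : QuaternionGroup m) (hx : orderOf x = 2) :
    x = QuaternionGroup.a (m : ZMod (2 * m)) := by
  have hm : 0 < m := Nat.pos_of_ne_zero (NeZero.ne m)
  haveI : NeZero (2 * m) := ⟨by omega⟩
  cases x with
  | a i =>
    obtain ⟨h1, h2⟩ := orderOf_eq_two_iff'.1 hx
    rw [QuaternionGroup.a_mul_a, QuaternionGroup.one_def, QuaternionGroup.a.injEq] at h1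
    have hi0 : i ≠ 0 := by
      intro h
      apply h2
      rw [h, QuaternionGroup.a_zero]
    congr 1
    have hival : i.val < 2 * m := ZMod.val_lt i
    have hv : (i + i).val = 0 := by rw [h1]; exact ZMod.val_zero
    rw [ZMod.val_add] at hv
    have hi0' : i.val ≠ 0 := fun h => hi0 ((ZMod.val_eq_zero i).1 h)
    have hdvd : 2 * m ∣ i.val + i.val := Nat.dvd_of_mod_eq_zero hv
    obtain ⟨k, hk⟩ := hdvd
    have hk1 : k = 1 := by
      have hk0 : k ≠ 0 := by
        rintro rfl
        omega
      have hk2 : k < 2 := by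
        by_contra hge
        have hge' : 2 ≤ k := not_lt.1 hge
        have : 2 * m * 2 ≤ 2 * m * k := Nat.mul_le_mul_left _ hge'
        omega
      omega
    have hiv : i.val = m := by
      rw [hk1] at hk; omega
    rw [← ZMod.natCast_zmod_val i, hiv]
  | xa i =>
    rw [QuaternionGroup.orderOf_xa] at hx
    exact absurd hx (by decide)

theorem orderOf_a_half (m : ℕ) [NeZero m] :
    orderOf (QuaternionGroup.a (m : ZMod (2 * m)) : QuaternionGroup m) = 2 := by
  have hm : 0 < m := Nat.pos_of_ne_zero (NeZero.ne m)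
  rw [orderOf_eq_two_iff']
  constructor
  · rw [QuaternionGroup.a_mul_a, QuaternionGroup.one_def]
    congr 1
    have : ((m : ZMod (2 * m)) + (m : ZMod (2 * m))) = ((2 * m : ℕ) : ZMod (2 * m)) := by
      push_cast; ring
    rw [this]
    exact ZMod.natCast_self _
  · rw [QuaternionGroup.one_def]
    intro h
    rw [QuaternionGroup.a.injEq] at h
    rw [ZMod.natCast_eq_zero_iff] at h
    have := Nat.le_of_dvd hm h
    omega


/-- The generalized quaternion group of order 2^(n+3) contains exactly one element of order 2. -/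
theorem result (n : ℕ) : Nat.card {x : QuaternionGroup (2 ^ (n + 1)) // orderOf x = 2} = 1 := by
  haveI : NeZero (2 ^ (n + 1)) := ⟨by positivity⟩
  rw [Nat.card_eq_one_iff_unique]
  constructor
  · constructor
    rintro ⟨x, hx⟩ ⟨y, hy⟩
    apply Subtype.ext
    show x = y
    rw [eq_a_of_orderOf_two _ x hx, eq_a_of_orderOf_two _ y hy]
  · exact ⟨⟨_, orderOf_a_half (2 ^ (n + 1))⟩⟩

end Cfsg.Agent.S0218
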