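import Cfsg.Statements.S0220
import Mathlib
import Cfsg.Agent.Lib.Helper1.IndexTwo
import Cfsg.Agent.Lib.Helper1.CyclicInvol

set_option autoImplicit false
open Cfsg

namespace Cfsg.Agent.S0220

open Cfsg.Agent.Lib.Helper1

theorem aux {G : Type*} [Group G] [Finite G] (x : G) (hx : orderOf x = 2) (C : Subgroup G)
    (hC : C = Subgroup.centralizer ({x} : Set G)) (S : Sylow 2 ↥C)
    (hS : IsCyclic (S : Subgroup ↥C)) : ∃ H : Subgroup G, H.index = 2 := by
  classical
  haveI : Fact (Nat.Prime 2) := ⟨Nat.prime_two⟩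
  have hx2 : x * x = 1 := sq_eq_one_of_orderOf_two hx
  have hx1 : x ≠ 1 := ne_one_of_orderOf_two hx
  have hxC : x ∈ C := by rw [hC]; exact Subgroup.mem_centralizer_singleton_iff.2 rfl
  -- x as an element of C lies in S
  have hxS : (⟨x, hxC⟩ : C) ∈ (S : Subgroup C) := by
    have hnorm : (Subgroup.zpowers (⟨x, hxC⟩ : C)).Normal := by
      constructor
      intro n hn g
      have hcomm : g * n = n * g := by
        obtain ⟨k, rfl⟩ := hn
        have h1 : g * (⟨x, hxC⟩ : C) = ⟨x, hxC⟩ * g := by
          apply Subtype.ext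
          have hg2 : (g : G) ∈ Subgroup.centralizer ({x} : Set G) := hC ▸ g.2
          exact Subgroup.mem_centralizer_singleton_iff.1 hg2
        exact ((Commute.zpow_right h1 k)).eq
      rw [hcomm, mul_assoc, mul_inv_cancel, mul_one]
      exact hn
    have hp : IsPGroup 2 (Subgroup.zpowers (⟨x, hxC⟩ : C)) := by
      apply IsPGroup.of_card (n := 1)
      rw [Nat.card_zpowers, pow_one, ← Subgroup.orderOf_coe]
      exact hx
    exact (hp.le_sylow_of_normal S) (Subgroup.mem_zpowers _)
  -- a Sylow 2-subgroup T of G containing the image of S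
  obtain ⟨T, hST⟩ := (S.isPGroup'.map C.subtype).exists_le_sylow
  have hxT : x ∈ T := hST ⟨⟨x, hxC⟩, hxS, rfl⟩
  -- T ∩ C, inside C, is S
  have hQ : (T : Subgroup G).subgroupOf C = (S : Subgroup C) := by
    apply S.is_maximal' (T.isPGroup'.comap_subtype)
    intro c hc
    show (c : G) ∈ T
    exact hST ⟨c, hc, rfl⟩
  -- an involution in the centre of T
  haveI : Nontrivial (T : Subgroup G) := ⟨⟨⟨x, hxT⟩, 1, fun h => hx1 (congrArg Subtype.val h)⟩⟩
  haveI := T.isPGroup'.center_nontrivial
  have hZeven : Even (Nat.card (Subgroup.center (T : Subgroup G))) := by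
    obtain ⟨k, hk⟩ := IsPGroup.iff_card.1
      (T.isPGroup'.to_subgroup (Subgroup.center (T : Subgroup G)))
    rw [hk]
    have hk0 : k ≠ 0 := by
      rintro rfl
      rw [pow_zero] at hk
      have := (Nat.card_eq_one_iff_unique.1 hk).1
      exact not_subsingleton _ this
    exact (Nat.even_pow.2 ⟨even_two, hk0⟩)
  obtain ⟨z, hz⟩ := exists_prime_orderOf_dvd_card' (G := Subgroup.center (T : Subgroup G)) 2
    (even_iff_two_dvd.1 hZeven)
  -- z as an element of G
  have hzT : (z.1.1 : G) ∈ T := z.1.2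
  have hzo : orderOf (z.1.1 : G) = 2 := by
    rw [Subgroup.orderOf_coe, Subgroup.orderOf_coe]; exact hz
  have hzcomm : ∀ t : G, t ∈ T → t * z.1.1 = z.1.1 * t := by
    intro t ht
    have := Subgroup.mem_center_iff.1 z.2 ⟨t, ht⟩
    exact congrArg Subtype.val this
  have hzC : (z.1.1 : G) ∈ C := by
    rw [hC, Subgroup.mem_centralizer_singleton_iff]
    exact (hzcomm x hxT).symm
  have hzS : (⟨z.1.1, hzC⟩ : C) ∈ (S : Subgroup C) := by
    rw [← hQ, Subgroup.mem_subgroupOf]
    exact hzT
  -- x = z by uniqueness of involutions in the cyclic group S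
  have hxz : x = z.1.1 := by
    haveI := hS
    have h1 : orderOf (⟨⟨x, hxC⟩, hxS⟩ : (S : Subgroup C)) = 2 := by
      rw [← Subgroup.orderOf_coe, ← Subgroup.orderOf_coe]; exact hx
    have h2 : orderOf (⟨⟨z.1.1, hzC⟩, hzS⟩ : (S : Subgroup C)) = 2 := by
      rw [← Subgroup.orderOf_coe, ← Subgroup.orderOf_coe]; exact hzo
    have := eq_of_orderOf_two_of_isCyclic h1 h2
    exact congrArg (fun s : (S : Subgroup C) => (s.1.1 : G)) this
  -- so T ≤ C
  have hTC : (T : Subgroup G) ≤ C := by
    intro t ht
    rw [hC, Subgroup.mem_centralizer_singleton_iff, hxz]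
    exact hzcomm t ht
  -- T is cyclic
  have hTcyc : IsCyclic (T : Subgroup G) := by
    have e := Subgroup.subgroupOfEquivOfLe hTC
    rw [hQ] at e
    exact (e.isCyclic).1 hS
  have heven : Even (Nat.card G) := by
    rw [even_iff_two_dvd, ← hx]
    exact orderOf_dvd_natCard x
  exact exists_index_two_of_cyclic_sylow heven T hTcyc


/-- If x is an involution of a finite group G and a Sylow 2-subgroup of the centralizer of x is cyclic, then G has a subgroup of index 2; in particular G is not simple unless it has order 2. -/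
theorem result {G : Type*} [Group G] [Finite G] (x : G) (hx : orderOf x = 2) (S : Sylow 2 ↥(Subgroup.centralizer ({x} : Set G))) (hS : IsCyclic (S : Subgroup ↥(Subgroup.centralizer ({x} : Set G)))) : ∃ H : Subgroup G, H.index = 2 := by
  exact aux x hx _ rfl S hS

end Cfsg.Agent.S0220
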