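import Cfsg.Statements.S0519
import Mathlib
import Cfsg.Agent.Lib.Helper6.NNF2
import Cfsg.Agent.Lib.Helper6.NormalEA
import Cfsg.Agent.Lib.Helper6.QuatRec
import Cfsg.Agent.Lib.Helper6.MaxClass2c
import Cfsg.Agent.Lib.Helper6.QD
import Cfsg.Agent.S0015

set_option autoImplicit false
open Cfsg Cfsg.Agent.Lib.Helper6

namespace Cfsg.Agent.S0519

/-- self-centralizing of a cyclic subgroup of index two in a non-abelian situation -/
theorem centralizer_zpowers_of_index_two {G : Type*} [Group G] (a b : G)
    (hidx : (Subgroup.zpowers a).index = 2) (hb : b ∉ Subgroup.zpowers a)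
    (hne : b * a * b⁻¹ ≠ a) :
    Subgroup.centralizer ((Subgroup.zpowers a : Subgroup G) : Set G) = Subgroup.zpowers a := by
  apply le_antisymm
  · intro g hg
    by_contra hgA
    obtain ⟨k, rfl⟩ := exists_eq_mul_zpow_of_index_two a b hidx hb g hgA
    rw [Subgroup.mem_centralizer_iff] at hg
    have h1 := hg a (Subgroup.mem_zpowers a)
    apply hne
    have h2 : a * b = b * a := by
      have e : a * (b * a ^ k) = a * b * a ^ k := by group
      have e2 : b * a ^ k * a = b * a * a ^ k := by
        rw [mul_assoc, mul_assoc, ← zpow_add_one, ← zpow_one_add, add_comm]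
      rw [e, e2] at h1
      exact mul_right_cancel h1
    rw [← h2]; group
  · intro g hg
    rw [Subgroup.mem_centralizer_iff]
    intro c hc
    obtain ⟨i, rfl⟩ := Subgroup.mem_zpowers_iff.1 hg
    obtain ⟨j, rfl⟩ := Subgroup.mem_zpowers_iff.1 hc
    rw [← zpow_add, ← zpow_add, add_comm]

theorem main0519 {P : Type*} [Group P] [Finite P] (p : ℕ) [Fact p.Prime]
    (hP : IsPGroup p P) (hn : ∀ A : Subgroup P, A.Normal → IsMulCommutative A → IsCyclic A)
    (hm : ∃ B : Subgroup P, IsMulCommutative B ∧ ¬ IsCyclic B) :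
    p = 2 ∧ ((∃ n : ℕ, Nonempty (P ≃* QuaternionGroup n)) ∨ (∃ n : ℕ, 8 ≤ n ∧ Nonempty (P ≃* DihedralGroup n)) ∨
      Cfsg.IsQuasiDihedral P) := by
  classical
  obtain ⟨B, hBc, hBnc⟩ := hm
  have hnc : ¬ IsCyclic P := fun h => hBnc inferInstance
  have hp2 : p = 2 := by
    by_contra hp2
    obtain ⟨A, hAn, hAe, hAcard⟩ := exists_normal_ea_sq hp2 (Nat.card P) P rfl hP hnc
    have hcyc := hn A hAn hAe.1
    obtain ⟨g, hg⟩ := hcyc.exists_generator
    have ho : orderOf g = p ^ 2 := by rw [orderOf_eq_card_of_forall_mem_zpowers hg, hAcard]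
    have hgp : g ^ p = 1 := Subtype.ext (by simpa using hAe.2 g g.2)
    have h1 := orderOf_dvd_of_pow_eq_one hgp
    rw [ho] at h1
    have hpp : p.Prime := Fact.out
    have h2 := Nat.le_of_dvd hpp.pos h1
    have : p < p ^ 2 := by
      have := hpp.one_lt
      nlinarith
    omega
  subst hp2
  refine ⟨rfl, ?_⟩
  haveI : Group.IsNilpotent P := hP.isNilpotent
  obtain ⟨n, hcard⟩ := (IsPGroup.iff_card (p := 2)).1 hP
  obtain ⟨A, hAmax⟩ := Set.Finite.exists_maximal
    (s := {M : Subgroup P | M.Normal ∧ IsMulCommutative M}) (Set.toFinite _)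
    ⟨⊥, inferInstance, inferInstance⟩
  obtain ⟨⟨hAn, hAc⟩, hAm⟩ := hAmax
  haveI := hAn
  haveI := hAc
  have hCA : Subgroup.centralizer (A : Set P) = A :=
    Cfsg.Agent.S0015.result A (fun M hMn hMc hle => le_antisymm (hAm ⟨hMn, hMc⟩ hle) hle)
  have hAcyc : IsCyclic A := hn A hAn hAc
  obtain ⟨g0, hg0⟩ := hAcyc.exists_generator
  obtain ⟨a, ha⟩ : ∃ a : P, a = (g0 : P) := ⟨_, rfl⟩
  have hAz : A = Subgroup.zpowers a := by
    ext x
    constructor
    · intro hx
      obtain ⟨k, hk⟩ := Subgroup.mem_zpowers_iff.1 (hg0 ⟨x, hx⟩)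
      rw [ha]
      refine Subgroup.mem_zpowers_iff.2 ⟨k, ?_⟩
      have := congrArg Subtype.val hk
      simpa using this
    · intro hx
      obtain ⟨k, hk⟩ := Subgroup.mem_zpowers_iff.1 hx
      rw [← hk, ha]
      exact A.zpow_mem g0.2 k
  have haA : a ∈ A := by rw [hAz]; exact Subgroup.mem_zpowers a
  have hApow : ∀ c ∈ A, ∃ j : ℕ, a ^ j = c := by
    intro c hc
    rw [hAz] at hc
    exact (Submonoid.mem_powers_iff _ _).1 (mem_powers_iff_mem_zpowers.2 hc)
  obtain ⟨k, hk⟩ := (IsPGroup.iff_card (p := 2)).1 (hP.to_subgroup A)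
  have hao : orderOf a = 2 ^ k := by rw [← Nat.card_zpowers, ← hAz, hk]
  have hAtop : A ≠ ⊤ := by
    intro h
    apply hnc
    refine ⟨a, fun x => ?_⟩
    show x ∈ Subgroup.zpowers a
    rw [← hAz, h]
    exact Subgroup.mem_top x
  -- index at most two
  have hidx : ∀ g h : P, g ∉ A → h ∉ A → g⁻¹ * h ∈ A := by
    by_cases hk2 : 2 ≤ k
    swap
    · -- A central
      exfalso
      apply hAtop
      rw [Subgroup.eq_top_iff']
      intro g
      rw [← hCA, Subgroup.mem_centralizer_iff]
      have ha2 : a ^ 2 = 1 := by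
        rw [← orderOf_dvd_iff_pow_eq_one, hao]
        exact (pow_dvd_pow 2 (show k ≤ 1 by omega)).trans (by norm_num)
      have hcomm : g * a * g⁻¹ = a := by
        obtain ⟨j, hj⟩ := hApow (g * a * g⁻¹) (hAn.conj_mem a haA g)
        have hj2 : a ^ j = a ^ (j % 2) := by
          conv_lhs => rw [← Nat.mod_add_div j 2]
          rw [pow_add, pow_mul, ha2, one_pow, mul_one]
        rw [hj2] at hj
        have hlt : j % 2 < 2 := Nat.mod_lt _ (by norm_num)
        obtain ⟨r, hr⟩ : ∃ r, r = j % 2 := ⟨_, rfl⟩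
        rw [← hr] at hj hlt
        interval_cases r
        · rw [pow_zero] at hj
          have ha1 : a = 1 := by
            have : a = g⁻¹ * (g * a * g⁻¹) * g := by group
            rw [this, ← hj]; group
          rw [ha1]; group
        · rw [pow_one] at hj; exact hj.symm
      intro c hc
      obtain ⟨j, rfl⟩ := hApow c hc
      have hcomm' : Commute g a := by
        have : g * a = a * g := by
          calc g * a = (g * a * g⁻¹) * g := by group
            _ = a * g := by rw [hcomm]
        exact this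
      exact (hcomm'.pow_right j).eq.symm
    obtain ⟨c, hc⟩ : ∃ c, c = a ^ 2 ^ (k - 2) := ⟨_, rfl⟩
    have hcA : c ∈ A := by rw [hc]; exact A.pow_mem haA _
    have hc4 : c ^ 4 = 1 := by
      rw [hc, ← pow_mul, ← orderOf_dvd_iff_pow_eq_one, hao]
      rw [show (4 : ℕ) = 2 ^ 2 by norm_num, ← pow_add]
      exact pow_dvd_pow 2 (by omega)
    have hc2 : c ^ 2 ≠ 1 := by
      rw [hc, ← pow_mul]
      intro h
      have := orderOf_dvd_of_pow_eq_one h
      rw [hao, ← pow_succ] at this
      have := Nat.pow_dvd_pow_iff_le_right (show 1 < 2 by norm_num) |>.1 this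
      omega
    have hconjc : ∀ g : P, g * c * g⁻¹ = c ∨ g * c * g⁻¹ = c⁻¹ := by
      intro g
      rw [hc]
      apply eq_or_eq_inv_of_pow_four a k hk2 hao
      · rw [← hAz, ← hc]; exact hAn.conj_mem c hcA g
      · rw [← hc, conj_pow, hc4]; group
      · rw [← hc, conj_pow]
        intro h
        apply hc2
        have : c ^ 2 = g⁻¹ * (g * c ^ 2 * g⁻¹) * g := by group
        rw [this, h]; group
    have hkey : ∀ g : P, g * c * g⁻¹ = c → g ∈ A := by
      intro g hgc
      by_contra hgA
      have hex : ∃ j : ℕ, g ^ 2 ^ j ∈ A := ⟨n, by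
        rw [← hcard, pow_card_eq_one']; exact A.one_mem⟩
      have hj0 : Nat.find hex ≠ 0 := by
        intro h
        have := Nat.find_spec hex
        rw [h, pow_zero, pow_one] at this
        exact hgA this
      obtain ⟨j, hj⟩ : ∃ j, Nat.find hex = j + 1 := ⟨Nat.find hex - 1, by omega⟩
      have h1 : g ^ 2 ^ j ∉ A := Nat.find_min hex (by omega)
      have h2 : g ^ 2 ^ j * g ^ 2 ^ j ∈ A := by
        have := Nat.find_spec hex
        rw [hj, pow_succ, pow_mul, pow_two] at this
        exact this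
      have hcent : g ^ 2 ^ j * a ^ 2 ^ (k - 2) * (g ^ 2 ^ j)⁻¹ = a ^ 2 ^ (k - 2) := by
        rw [← hc]
        have hcomm : Commute g c := by
          have : g * c = c * g := by
            calc g * c = (g * c * g⁻¹) * g := by group
              _ = c * g := by rw [hgc]
          exact this
        rw [(hcomm.pow_left _).eq, mul_inv_cancel_right]
      obtain ⟨hk3, t, htA, ht2, hta⟩ :=
        exists_modular_involution A hCA a hAz k hk2 hao (g ^ 2 ^ j) h1 h2 hcent
      obtain ⟨V, hVn, hVc, hVnc⟩ := normal_four_of_modular A hCA a hAz k hk3 hao t htA ht2 hta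
      exact hVnc (hn V hVn hVc)
    intro g h hg hh
    apply hkey
    have hg' : g * c * g⁻¹ = c⁻¹ := by
      rcases hconjc g with h1 | h1
      · exact absurd (hkey g h1) hg
      · exact h1
    have hh' : h * c * h⁻¹ = c⁻¹ := by
      rcases hconjc h with h1 | h1
      · exact absurd (hkey h h1) hh
      · exact h1
    have hg'' : g⁻¹ * c⁻¹ * g = c := by
      rw [← hg']; group
    calc g⁻¹ * h * c * (g⁻¹ * h)⁻¹ = g⁻¹ * (h * c * h⁻¹) * g := by group
      _ = c := by rw [hh', hg'']
  obtain ⟨t, ht⟩ : ∃ t : P, t ∉ A := by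
    by_contra hcon
    push Not at hcon
    exact hAtop ((Subgroup.eq_top_iff' A).2 hcon)
  have hAi : A.index = 2 := by
    rw [Subgroup.index_eq_two_iff]
    refine ⟨t, fun b => ?_⟩
    by_cases hb : b ∈ A
    · right
      refine ⟨hb, fun h => ht ?_⟩
      have := A.mul_mem (A.inv_mem hb) h
      simpa using this
    · left
      refine ⟨?_, hb⟩
      have := hidx b⁻¹ t (fun h => hb (by simpa using A.inv_mem h)) ht
      simpa using this
  have hna : ∃ x y : P, x * y ≠ y * x := by
    by_contra hcon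
    push Not at hcon
    apply hAtop
    rw [Subgroup.eq_top_iff']
    intro g
    rw [← hCA, Subgroup.mem_centralizer_iff]
    intro c _
    exact hcon c g
  have hn3 : 3 ≤ n := by
    by_contra hcon
    push Not at hcon
    obtain ⟨x, y, hxy⟩ := hna
    apply hxy
    have hcomm : IsMulCommutative P := by
      interval_cases n
      · haveI : Subsingleton P := (Nat.card_eq_one_iff_unique.1 (by rw [hcard]; rfl)).1
        exact ⟨⟨fun a b => Subsingleton.elim _ _⟩⟩
      · haveI : IsCyclic P := isCyclic_of_prime_card (p := 2) (by rw [hcard]; rfl)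
        exact IsCyclic.isMulCommutative
      · exact IsPGroup.isMulCommutative_of_card_eq_prime_sq (p := 2) hcard
    exact hcomm.is_comm.comm x y
  obtain ⟨a', b', hao', hb', hcases⟩ := cyclic_max_two_classification n hn3 hcard A hAcyc hAi hna
  have hidx' : (Subgroup.zpowers a').index = 2 := by
    have h1 := Subgroup.card_mul_index (Subgroup.zpowers a')
    rw [Nat.card_zpowers, hao', hcard] at h1
    have h2 : 2 ^ n = 2 ^ (n - 1) * 2 := by rw [← pow_succ]; congr 1; omega
    rw [h2] at h1
    exact Nat.eq_of_mul_eq_mul_left (by positivity) h1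
  have hq1 : (a' ^ 2 ^ (n - 2)) ^ 2 = 1 := by
    rw [← pow_mul, ← pow_succ, show n - 2 + 1 = n - 1 by omega, ← hao']
    exact pow_orderOf_eq_one a'
  have hq2 : a' ^ 2 ^ (n - 2) ≠ 1 := by
    intro h
    have := orderOf_dvd_of_pow_eq_one h
    rw [hao'] at this
    have := Nat.pow_dvd_pow_iff_le_right (show 1 < 2 by norm_num) |>.1 this
    omega
  have hb1 : b' ≠ 1 := fun h => hb' (h ▸ Subgroup.one_mem _)
  rcases hcases with ⟨h1, h2⟩ | ⟨h1, h2⟩ | ⟨h4, h1, h2⟩ | ⟨h4, h1, h2⟩
  · -- dihedral
    by_cases hn4 : 4 ≤ n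
    · right; left
      refine ⟨2 ^ (n - 1), ?_, ?_⟩
      · calc 8 = 2 ^ 3 := by norm_num
          _ ≤ 2 ^ (n - 1) := Nat.pow_le_pow_right (by norm_num) (by omega)
      · apply nonempty_mulEquiv_dihedral_of_rel (2 ^ (n - 1)) _ a' b' hao' hb' h1 h2
        · rw [hcard, ← pow_succ']; congr 1; omega
        · calc 2 = 2 ^ 1 := by norm_num
            _ ≤ 2 ^ (n - 1) := Nat.pow_le_pow_right (by norm_num) (by omega)
    · exfalso
      have hn3' : n = 3 := by omega
      subst hn3'
      -- the four-group generated by a'^2 and b' has index two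
      obtain ⟨z, hz⟩ : ∃ z, z = a' ^ 2 := ⟨_, rfl⟩
      have hz2 : z ^ 2 = 1 := by rw [hz]; simpa using hq1
      have hz1 : z ≠ 1 := by rw [hz]; simpa using hq2
      have hzo : orderOf z = 2 := orderOf_eq_prime hz2 hz1
      have hbo : orderOf b' = 2 := orderOf_eq_prime h1 hb1
      have hzc : ∀ s : P, s * z * s⁻¹ = z := by
        intro s
        have hza : a' * z * a'⁻¹ = z := by rw [hz]; group
        have hzb : b' * z * b'⁻¹ = z := by
          rw [hz, ← conj_pow, h2, inv_pow, ← hz]
          exact inv_eq_of_mul_eq_one_right (by rw [← pow_two]; exact hz2)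
        by_cases hs : s ∈ Subgroup.zpowers a'
        · obtain ⟨i, rfl⟩ := Subgroup.mem_zpowers_iff.1 hs
          rw [hz]
          have : Commute (a' ^ i) (a' ^ 2) := ((Commute.refl a').zpow_left i).pow_right 2
          rw [this.eq, mul_inv_cancel_right]
        · obtain ⟨i, rfl⟩ := exists_eq_mul_zpow_of_index_two a' b' hidx' hb' s hs
          have : Commute (a' ^ i) z := by
            rw [hz]; exact ((Commute.refl a').zpow_left i).pow_right 2
          calc b' * a' ^ i * z * (b' * a' ^ i)⁻¹ = b' * (a' ^ i * z * (a' ^ i)⁻¹) * b'⁻¹ := by group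
            _ = b' * z * b'⁻¹ := by rw [this.eq, mul_inv_cancel_right]
            _ = z := hzb
      have hzb' : z ≠ b' := by
        intro h
        apply hb'
        rw [← h, hz]
        exact Subgroup.pow_mem _ (Subgroup.mem_zpowers a') _
      have hcomm : z * b' = b' * z := by
        have := hzc b'
        calc z * b' = (b' * z * b'⁻¹) * b' := by rw [this]
          _ = b' * z := by group
      have hbinv : b'⁻¹ = b' := by
        rw [pow_two] at h1; exact inv_eq_of_mul_eq_one_right h1
      have htc : ∀ s : P, s * b' * s⁻¹ = b' ∨ s * b' * s⁻¹ = b' * z := by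
        have hab : ∀ i : ℤ, a' ^ i * b' * (a' ^ i)⁻¹ = b' * (a' ^ i)⁻¹ * (a' ^ i)⁻¹ := by
          intro i
          have e : b' * a' ^ i * b'⁻¹ = (a' ^ i)⁻¹ := by
            rw [← conj_zpow, h2, inv_zpow]
          have e' : a' ^ i * b' = b' * (a' ^ i)⁻¹ := by
            have e2 : b' * (a' ^ i)⁻¹ * b'⁻¹ = a' ^ i := by
              rw [← inv_zpow, ← conj_zpow]
              have : b' * a'⁻¹ * b'⁻¹ = a' := by
                have : b' * a'⁻¹ * b'⁻¹ = (b' * a' * b'⁻¹)⁻¹ := by group
                rw [this, h2, inv_inv]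
              rw [this]
            calc a' ^ i * b' = (b' * (a' ^ i)⁻¹ * b'⁻¹) * b' := by rw [e2]
              _ = b' * (a' ^ i)⁻¹ := by group
          rw [e']
        have ha4 : a' ^ 4 = 1 := by
          have := hao'
          rw [show 2 ^ (3 - 1) = 4 by norm_num] at this
          rw [← this]; exact pow_orderOf_eq_one a'
        have hsq : ∀ i : ℤ, (a' ^ i)⁻¹ * (a' ^ i)⁻¹ = 1 ∨ (a' ^ i)⁻¹ * (a' ^ i)⁻¹ = z := by
          intro i
          have e : (a' ^ i)⁻¹ * (a' ^ i)⁻¹ = z ^ (-i) := by
            rw [hz, ← zpow_natCast, ← zpow_mul, ← zpow_neg, ← zpow_add]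
            congr 1; push_cast; ring
          rw [e]
          rcases Int.even_or_odd (-i) with ⟨m, hm⟩ | ⟨m, hm⟩
          · left
            rw [hm, ← two_mul, zpow_mul, zpow_ofNat, hz2, one_zpow]
          · right
            rw [hm, zpow_add, zpow_mul, zpow_ofNat, hz2, one_zpow, one_mul, zpow_one]
        intro s
        by_cases hs : s ∈ Subgroup.zpowers a'
        · obtain ⟨i, rfl⟩ := Subgroup.mem_zpowers_iff.1 hs
          rw [hab i, mul_assoc]
          rcases hsq i with h | h
          · left; rw [h, mul_one]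
          · right; rw [h]
        · obtain ⟨i, rfl⟩ := exists_eq_mul_zpow_of_index_two a' b' hidx' hb' s hs
          have e : b' * a' ^ i * b' * (b' * a' ^ i)⁻¹ = b' * (a' ^ i * b' * (a' ^ i)⁻¹) * b'⁻¹ := by
            group
          rw [e, hab i, mul_assoc b' ((a' ^ i)⁻¹)]
          rcases hsq i with h | h
          · left; rw [h, mul_one]; group
          · right
            rw [h]
            calc b' * (b' * z) * b'⁻¹ = b' * (b' * z * b'⁻¹) := by group
              _ = b' * z := by
                have : b' * z * b'⁻¹ = z := hzc b'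
                rw [this]
      obtain ⟨V, hVn, hVc, hVnc⟩ := normal_four_of_involutions z b' hzo hbo hzb' hcomm hzc htc
      exact hVnc (hn V hVn hVc)
  · -- quaternion
    left
    have hm0 : 2 ^ (n - 2) ≠ 0 := by positivity
    haveI : NeZero (2 ^ (n - 2)) := ⟨hm0⟩
    refine ⟨2 ^ (n - 2), ?_⟩
    apply nonempty_mulEquiv_quaternion (2 ^ (n - 2)) a' b' _ h1 h2 hb'
    · rw [hcard, show (4 : ℕ) = 2 ^ 2 by norm_num, ← pow_add]; congr 1; omega
    · rw [hao', ← pow_succ']; congr 1; omega
  · -- modular: excluded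
    exfalso
    haveI hAn' : (Subgroup.zpowers a').Normal := Subgroup.normal_of_index_eq_two hidx'
    have hne : b' * a' * b'⁻¹ ≠ a' := by
      rw [h2, pow_add, pow_one]
      intro h
      apply hq2
      have := mul_left_cancel (a := a') (b := a' ^ 2 ^ (n - 2)) (c := 1) (by rw [mul_one]; exact h)
      exact this
    have hCA' := centralizer_zpowers_of_index_two a' b' hidx' hb' hne
    have h2' : b' * a' * b'⁻¹ = a' ^ (2 ^ (n - 1 - 1) + 1) := by
      rw [h2, show n - 1 - 1 = n - 2 by omega, add_comm]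
    obtain ⟨V, hVn, hVc, hVnc⟩ := normal_four_of_modular (Subgroup.zpowers a') hCA' a' rfl
      (n - 1) (by omega) hao' b' hb' h1 h2'
    exact hVnc (hn V hVn hVc)
  · -- quasi-dihedral
    right; right
    refine ⟨n - 1, by omega, ?_, a', b', hao', orderOf_eq_prime h1 hb1, ?_⟩
    · rw [hcard]; congr 1; omega
    · rw [h2, show n - 1 - 1 = n - 2 by omega]


/-- Let P be a finite p-group in which every abelian normal subgroup is cyclic, but which has a non-cyclic abelian
subgroup. Then p = 2 and P is generalized quaternion, dihedral of order at least 16, or quasi-dihedral. -/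
theorem result {P : Type*} [Group P] [Finite P] (p : ℕ) [Fact p.Prime]
    (hP : IsPGroup p P) (hn : ∀ A : Subgroup P, A.Normal → IsMulCommutative A → IsCyclic A)
    (hm : ∃ B : Subgroup P, IsMulCommutative B ∧ ¬ IsCyclic B) :
    p = 2 ∧ ((∃ n : ℕ, Nonempty (P ≃* QuaternionGroup n)) ∨ (∃ n : ℕ, 8 ≤ n ∧ Nonempty (P ≃* DihedralGroup n)) ∨
      Cfsg.IsQuasiDihedral P) := by
  exact main0519 p hP hn hm

end Cfsg.Agent.S0519
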