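import Mathlib
import Cfsg.Statements.S0221
import Cfsg.Agent.S0519
import Cfsg.Agent.S0111
import Cfsg.Agent.Lib.Helper1.NilpCenter
import Cfsg.Agent.Lib.Helper6.UniqInv
import Cfsg.Agent.Lib.Helper6.Four

set_option autoImplicit false
set_option maxHeartbeats 800000

open Cfsg

namespace Cfsg.Agent.S0221

theorem comm_of_sq {X : Type*} [Group X] (A : Subgroup X) (h : ∀ x ∈ A, x ^ 2 = 1) :
    ∀ x ∈ A, ∀ y ∈ A, x * y = y * x := by
  intro x hx y hy
  have hxy := h (x * y) (A.mul_mem hx hy)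
  have hx2 := h x hx
  have hy2 := h y hy
  rw [pow_two] at hxy hx2 hy2
  have hxi : x⁻¹ = x := inv_eq_of_mul_eq_one_left hx2
  have hyi : y⁻¹ = y := inv_eq_of_mul_eq_one_left hy2
  have h3 : x * y = (x * y)⁻¹ := (inv_eq_of_mul_eq_one_left hxy).symm
  rw [h3, mul_inv_rev, hxi, hyi]

theorem card_le_four_of_cyclic_index_two {X : Type*} [Group X] [Finite X] (c : X)
    (hc : Nat.card X = 2 * orderOf c) (E : Subgroup X) (hE : ∀ e ∈ E, e ^ 2 = 1) :
    Nat.card E ≤ 4 := by
  classical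
  obtain ⟨C, hC⟩ : ∃ C : Subgroup X, C = Subgroup.zpowers c := ⟨_, rfl⟩
  have hCcard : Nat.card C = orderOf c := by rw [hC]; exact Nat.card_zpowers c
  have hidx : C.index = 2 := by
    have h1 := Subgroup.card_mul_index C
    rw [hCcard, hc] at h1
    have hpos : 0 < orderOf c := orderOf_pos c
    have : orderOf c * C.index = orderOf c * 2 := by rw [h1]; ring
    exact Nat.eq_of_mul_eq_mul_left hpos this
  haveI : C.Normal := Subgroup.normal_of_index_eq_two hidx
  have hrel : C.relIndex E ∣ 2 := by rw [← hidx]; exact Subgroup.relIndex_dvd_index_of_normal C E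
  have hrel2 : C.relIndex E ≤ 2 := Nat.le_of_dvd (by norm_num) hrel
  haveI : IsCyclic C := by rw [hC]; infer_instance
  haveI : Fintype C := Fintype.ofFinite C
  have h1 := IsCyclic.card_pow_eq_one_le (α := C) (n := 2) (by norm_num)
  have hsub : Nat.card (C.subgroupOf E) ≤ 2 := by
    have h2 : Nat.card (C.subgroupOf E) ≤ Nat.card {a : C // a ^ 2 = 1} := by
      refine Nat.card_le_card_of_injective
        (fun e => ⟨⟨(e : E), Subgroup.mem_subgroupOf.mp e.2⟩, ?_⟩) ?_
      · apply Subtype.ext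
        exact hE _ (e : E).2
      · intro a b hab
        have := congrArg (fun u => ((u : {a : C // a ^ 2 = 1}) : C).1) hab
        exact Subtype.ext (Subtype.ext this)
    have h5 : Nat.card {a : C // a ^ 2 = 1} = (Finset.univ.filter (fun a : C => a ^ 2 = 1)).card := by
      rw [Nat.card_eq_fintype_card, Fintype.card_subtype]
    rw [h5] at h2
    exact h2.trans h1
  have h3 := Subgroup.card_mul_index (C.subgroupOf E)
  have h4 : (C.subgroupOf E).index = C.relIndex E := rfl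
  rw [h4] at h3
  calc Nat.card E = Nat.card (C.subgroupOf E) * C.relIndex E := h3.symm
    _ ≤ 2 * 2 := Nat.mul_le_mul hsub hrel2

theorem mem_zpowers_of_sq {X : Type*} [Group X] (z : X) (hz : z ^ 2 = 1) (x : X) :
    x ∈ Subgroup.zpowers z ↔ x = 1 ∨ x = z := by
  constructor
  · intro hx
    obtain ⟨k, rfl⟩ := Subgroup.mem_zpowers_iff.mp hx
    have hz' : z ^ (2 : ℤ) = 1 := by rw [zpow_two, ← pow_two, hz]
    rcases Int.even_or_odd' k with ⟨m, rfl | rfl⟩
    · left; rw [zpow_mul, hz', one_zpow]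
    · right; rw [zpow_add, zpow_mul, hz', one_zpow, one_mul, zpow_one]
  · rintro (rfl | rfl)
    · exact Subgroup.one_mem _
    · exact Subgroup.mem_zpowers _

theorem exists_normal_four {S : Type*} [Group S] [Finite S] (hS : IsPGroup 2 S)
    (E : Subgroup S) (hE8 : Nat.card E = 8) (hE : ∀ e ∈ E, e ^ 2 = 1) :
    ∃ z t : S, z ^ 2 = 1 ∧ z ≠ 1 ∧ t ^ 2 = 1 ∧ t ≠ 1 ∧ t ≠ z ∧ (∀ s : S, s * z * s⁻¹ = z) ∧
      ∀ s : S, s * t * s⁻¹ = t ∨ s * t * s⁻¹ = t * z := by
  classical
  have hEc := comm_of_sq E hE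
  by_cases hn : ∀ A : Subgroup S, A.Normal → IsMulCommutative A → IsCyclic A
  · exfalso
    have hEcomm : IsMulCommutative E := ⟨⟨fun a b => Subtype.ext (hEc a a.2 b b.2)⟩⟩
    have hEnc : ¬ IsCyclic E := by
      intro hcyc
      obtain ⟨g, hg⟩ := hcyc.exists_generator
      have h1 : orderOf g = Nat.card E := orderOf_eq_card_of_forall_mem_zpowers hg
      have hg2 : g ^ 2 = 1 := Subtype.ext (hE g g.2)
      have h2 := orderOf_le_of_pow_eq_one (by norm_num) hg2
      omega
    obtain ⟨-, h | h | h⟩ := Cfsg.Agent.S0519.result 2 hS hn ⟨E, hEcomm, hEnc⟩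
    · obtain ⟨n, ⟨e⟩⟩ := h
      have ho : orderOf (e.symm (QuaternionGroup.a 1)) = 2 * n := by
        rw [MulEquiv.orderOf_eq, QuaternionGroup.orderOf_a_one]
      have hpos : 0 < orderOf (e.symm (QuaternionGroup.a 1)) := orderOf_pos _
      have hn0 : n ≠ 0 := by intro h0; rw [ho, h0] at hpos; omega
      haveI : NeZero n := ⟨hn0⟩
      have hcard : Nat.card S = 2 * orderOf (e.symm (QuaternionGroup.a 1)) := by
        rw [ho, Nat.card_congr e.toEquiv, Nat.card_eq_fintype_card, QuaternionGroup.card]; ring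
      have := card_le_four_of_cyclic_index_two _ hcard E hE
      omega
    · obtain ⟨n, -, ⟨e⟩⟩ := h
      have ho : orderOf (e.symm (DihedralGroup.r 1)) = n := by
        rw [MulEquiv.orderOf_eq, DihedralGroup.orderOf_r_one]
      have hcard : Nat.card S = 2 * orderOf (e.symm (DihedralGroup.r 1)) := by
        rw [ho, Nat.card_congr e.toEquiv, DihedralGroup.nat_card]
      have := card_le_four_of_cyclic_index_two _ hcard E hE
      omega
    · obtain ⟨n, -, hcard, x, y, hx, -, -⟩ := h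
      have hcard' : Nat.card S = 2 * orderOf x := by rw [hcard, hx, pow_succ]; ring
      have := card_le_four_of_cyclic_index_two _ hcard' E hE
      omega
  · push Not at hn
    obtain ⟨A, hAn, hAc, hAnc⟩ := hn
    have hAcomm : ∀ a ∈ A, ∀ b ∈ A, a * b = b * a := fun a ha b hb =>
      congrArg Subtype.val (hAc.is_comm.comm ⟨a, ha⟩ ⟨b, hb⟩)
    have hmany : ∀ z0 : S, ∃ x ∈ A, x ^ 2 = 1 ∧ x ≠ 1 ∧ x ≠ z0 := by
      intro z0
      by_contra hcon
      push Not at hcon
      apply hAnc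
      by_cases hz0 : z0 ∈ A
      · refine Cfsg.Agent.Lib.Helper6.isCyclic_of_comm_of_unique_involution (hS.to_subgroup A)
          (fun a b => Subtype.ext (hAcomm a a.2 b b.2)) ⟨z0, hz0⟩ (fun x hx => ?_)
        by_cases h1 : x = 1
        · left; exact h1
        · right
          apply Subtype.ext
          have hx' : (x : S) ^ 2 = 1 := by
            have := congrArg Subtype.val hx
            simpa using this
          exact hcon x x.2 hx' (fun h => h1 (Subtype.ext h))
      · refine Cfsg.Agent.Lib.Helper6.isCyclic_of_comm_of_unique_involution (hS.to_subgroup A)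
          (fun a b => Subtype.ext (hAcomm a a.2 b b.2)) 1 (fun x hx => ?_)
        left
        by_contra h1
        have hx' : (x : S) ^ 2 = 1 := by
          have := congrArg Subtype.val hx
          simpa using this
        have := hcon x x.2 hx' (fun h => h1 (Subtype.ext h))
        exact hz0 (this ▸ x.2)
    let N : Subgroup S :=
      { carrier := {a | a ∈ A ∧ a ^ 2 = 1}
        one_mem' := ⟨A.one_mem, one_pow 2⟩
        mul_mem' := fun {a b} ha hb => ⟨A.mul_mem ha.1 hb.1, by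
          rw [(show Commute a b from hAcomm a ha.1 b hb.1).mul_pow, ha.2, hb.2, one_mul]⟩
        inv_mem' := fun {a} ha => ⟨A.inv_mem ha.1, by rw [inv_pow, ha.2, inv_one]⟩ }
    have hNmem : ∀ a, a ∈ N ↔ a ∈ A ∧ a ^ 2 = 1 := fun a => Iff.rfl
    haveI hNn : N.Normal := ⟨fun a ha s => (hNmem _).mpr ⟨hAn.conj_mem a ((hNmem a).mp ha).1 s, by
      rw [conj_pow, ((hNmem a).mp ha).2]; group⟩⟩
    haveI : Group.IsNilpotent S := hS.isNilpotent
    obtain ⟨x0, hx0A, hx02, hx01, -⟩ := hmany 1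
    have hNbot : N ≠ ⊥ := by
      intro h
      have : x0 ∈ N := (hNmem _).mpr ⟨hx0A, hx02⟩
      rw [h, Subgroup.mem_bot] at this
      exact hx01 this
    obtain ⟨z, hzN, hzZ, hz1⟩ := Cfsg.Agent.Lib.Helper1.exists_mem_center_of_isNilpotent N hNbot
    have hz2 : z ^ 2 = 1 := ((hNmem z).mp hzN).2
    have hzZ' : ∀ g : S, g * z = z * g := Subgroup.mem_center_iff.mp hzZ
    have hzc : ∀ s : S, s * z * s⁻¹ = z := by
      intro s; rw [hzZ' s]; group
    obtain ⟨Z, hZ⟩ : ∃ Z : Subgroup S, Z = Subgroup.zpowers z := ⟨_, rfl⟩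
    have hZmem : ∀ x, x ∈ Z ↔ x = 1 ∨ x = z := by
      intro x; rw [hZ]; exact mem_zpowers_of_sq z hz2 x
    haveI hZn : Z.Normal := ⟨fun a ha s => by
      rcases (hZmem a).mp ha with rfl | rfl
      · rw [mul_one, mul_inv_cancel]; exact Z.one_mem
      · rw [hzc s]; exact ha⟩
    obtain ⟨x1, hx1A, hx12, hx11, hx1z⟩ := hmany z
    obtain ⟨N', hN'⟩ : ∃ N' : Subgroup (S ⧸ Z), N' = N.map (QuotientGroup.mk' Z) := ⟨_, rfl⟩
    haveI : N'.Normal := by
      rw [hN']; exact Subgroup.Normal.map hNn _ (QuotientGroup.mk'_surjective Z)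
    have hN'bot : N' ≠ ⊥ := by
      intro h
      have h1 : (QuotientGroup.mk' Z) x1 ∈ N' := by
        rw [hN']; exact Subgroup.mem_map_of_mem _ ((hNmem _).mpr ⟨hx1A, hx12⟩)
      rw [h, Subgroup.mem_bot, QuotientGroup.mk'_apply, QuotientGroup.eq_one_iff] at h1
      rcases (hZmem x1).mp h1 with h | h
      exacts [hx11 h, hx1z h]
    obtain ⟨tb, htbN, htbZ, htb1⟩ :=
      Cfsg.Agent.Lib.Helper1.exists_mem_center_of_isNilpotent N' hN'bot
    rw [hN'] at htbN
    obtain ⟨t, htN, rfl⟩ := Subgroup.mem_map.mp htbN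
    have htZ : t ∉ Z := fun h => htb1 ((QuotientGroup.eq_one_iff t).mpr h)
    refine ⟨z, t, hz2, hz1, ((hNmem t).mp htN).2, ?_, ?_, hzc, ?_⟩
    · intro h; apply htZ; rw [h]; exact Z.one_mem
    · intro h; apply htZ; rw [h, hZ]; exact Subgroup.mem_zpowers z
    · intro s
      have h1 : (QuotientGroup.mk' Z) (s * t * s⁻¹ * t⁻¹) = 1 := by
        have h2 := (Subgroup.mem_center_iff.mp htbZ) ((QuotientGroup.mk' Z) s)
        simp only [map_mul, map_inv]
        rw [h2]
        group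
      rw [QuotientGroup.mk'_apply, QuotientGroup.eq_one_iff] at h1
      rcases (hZmem _).mp h1 with h | h
      · left; exact mul_inv_eq_one.mp h
      · right
        have h5 : s * t * s⁻¹ = z * t := by rw [← h]; group
        rw [h5]; exact (hzZ' t).symm

theorem ea_closure {X : Type*} [Group X] (s : Set X) (hc : ∀ x ∈ s, ∀ y ∈ s, x * y = y * x)
    (h2 : ∀ x ∈ s, x ^ 2 = 1) : ∀ x ∈ Subgroup.closure s, x ^ 2 = 1 := by
  have hcomm : IsMulCommutative (Subgroup.closure s) := Subgroup.isMulCommutative_closure hc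
  intro x hx
  induction hx using Subgroup.closure_induction with
  | mem x hx => exact h2 x hx
  | one => exact one_pow 2
  | mul x y hx hy ihx ihy =>
    have : x * y = y * x := congrArg Subtype.val (hcomm.is_comm.comm ⟨x, hx⟩ ⟨y, hy⟩)
    rw [(show Commute x y from this).mul_pow, ihx, ihy, one_mul]
  | inv x hx ih => rw [inv_pow, ih, inv_one]

theorem ea_sup' {X : Type*} [Group X] (A B : Subgroup X) (hA : ∀ a ∈ A, a ^ 2 = 1)
    (hB : ∀ b ∈ B, b ^ 2 = 1) (hAB : ∀ a ∈ A, ∀ b ∈ B, a * b = b * a) :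
    ∀ w ∈ A ⊔ B, w ^ 2 = 1 := by
  rw [Subgroup.sup_eq_closure]
  apply ea_closure
  · rintro x (hx | hx) y (hy | hy)
    · exact comm_of_sq A hA x hx y hy
    · exact hAB x hx y hy
    · exact (hAB y hy x hx).symm
    · exact comm_of_sq B hB x hx y hy
  · rintro x (hx | hx)
    · exact hA x hx
    · exact hB x hx

theorem exists_card_eight {X : Type*} [Group X] [Finite X] (W : Subgroup X)
    (hW : ∀ w ∈ W, w ^ 2 = 1) (h8 : 8 ≤ Nat.card W) :
    ∃ E : Subgroup X, E ≤ W ∧ Nat.card E = 8 := by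
  have hp : IsPGroup 2 W := fun w => ⟨1, by rw [pow_one]; exact Subtype.ext (hW w w.2)⟩
  obtain ⟨n, hn⟩ := IsPGroup.iff_card.mp hp
  have h3 : 3 ≤ n := by
    by_contra hlt
    push Not at hlt
    have : 2 ^ n ≤ 2 ^ 2 := Nat.pow_le_pow_right (by norm_num) (by omega)
    omega
  have hdvd : 2 ^ 3 ∣ Nat.card W := by rw [hn]; exact pow_dvd_pow 2 h3
  obtain ⟨E', hE'⟩ := Sylow.exists_subgroup_card_pow_prime 2 hdvd
  refine ⟨E'.map W.subtype, Subgroup.map_subtype_le E', ?_⟩
  rw [Subgroup.card_map_of_injective W.subtype_injective, hE']; norm_num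

theorem card_ge_of_lt {X : Type*} [Group X] [Finite X] (H W : Subgroup X) (hHW : H ≤ W)
    (hne : H ≠ W) : 2 * Nat.card H ≤ Nat.card W := by
  obtain ⟨k, hk⟩ := Subgroup.card_dvd_of_le hHW
  have hpos : 0 < Nat.card W := Nat.card_pos
  have hposH : 0 < Nat.card H := Nat.card_pos
  have hk1 : k ≠ 1 := by
    intro h1
    apply hne
    exact Subgroup.eq_of_le_of_card_ge hHW (by rw [hk, h1, mul_one])
  have hk0 : k ≠ 0 := by intro h0; rw [h0, mul_zero] at hk; omega
  have : 2 ≤ k := by omega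
  rw [hk, mul_comm]
  exact Nat.mul_le_mul_left _ this

theorem conj_invariant {G : Type*} [Group G] [Finite G] (x h : G) (E : Subgroup G)
    (hE : E ≤ Subgroup.centralizer ({h * x * h⁻¹} : Set G)) (h8 : Nat.card E = 8)
    (h2 : ∀ e ∈ E, e ^ 2 = 1) :
    ∃ E' : Subgroup G, E' ≤ Subgroup.centralizer ({x} : Set G) ∧ Nat.card E' = 8 ∧
      ∀ e ∈ E', e ^ 2 = 1 := by
  refine ⟨E.map (MulAut.conj h⁻¹).toMonoidHom, ?_, ?_, ?_⟩
  · rintro _ ⟨e, he, rfl⟩
    have h1 := Subgroup.mem_centralizer_singleton_iff.mp (hE he)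
    rw [Subgroup.mem_centralizer_singleton_iff]
    show (MulAut.conj h⁻¹) e * x = x * (MulAut.conj h⁻¹) e
    rw [MulAut.conj_apply, inv_inv]
    calc h⁻¹ * e * h * x = h⁻¹ * (e * (h * x * h⁻¹)) * h := by group
      _ = h⁻¹ * ((h * x * h⁻¹) * e) * h := by rw [h1]
      _ = x * (h⁻¹ * e * h) := by group
  · rw [Subgroup.card_map_of_injective (MulAut.conj h⁻¹).injective, h8]
  · rintro _ ⟨e, he, rfl⟩
    show ((MulAut.conj h⁻¹) e) ^ 2 = 1
    rw [← map_pow, h2 e he, map_one]

open Cfsg.Agent.Lib.Helper6 in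
theorem main0221 {G : Type*} [Group G] [Finite G] (hno : ∀ H : Subgroup G, H.index ≠ 2) (hrank : ∃ E : Subgroup G, Nat.card E = 8 ∧ ∀ e ∈ E, e ^ 2 = 1) (x : G) (hx : orderOf x = 2) : ∃ E : Subgroup G, E ≤ Subgroup.centralizer ({x} : Set G) ∧ Nat.card E = 8 ∧ ∀ e ∈ E, e ^ 2 = 1 := by
  classical
  obtain ⟨E, hE8, hE2⟩ := hrank
  have hEp : IsPGroup 2 E := fun e => ⟨1, by rw [pow_one]; exact Subtype.ext (hE2 e e.2)⟩
  obtain ⟨S, hES⟩ := hEp.exists_le_sylow
  have hcardE' : Nat.card (E.subgroupOf (S : Subgroup G)) = 8 := by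
    rw [Nat.card_congr (Subgroup.subgroupOfEquivOfLe hES).toEquiv, hE8]
  obtain ⟨z, t, hz2, hz1, ht2, ht1, htz, hzc, htc⟩ := exists_normal_four S.isPGroup'
    (E.subgroupOf (S : Subgroup G)) hcardE'
    (fun e he => Subtype.ext (hE2 _ (Subgroup.mem_subgroupOf.mp he)))
  obtain ⟨z0, hz0⟩ : ∃ z0 : G, z0 = (z : G) := ⟨_, rfl⟩
  obtain ⟨t0, ht0⟩ : ∃ t0 : G, t0 = (t : G) := ⟨_, rfl⟩
  have hz0S : z0 ∈ (S : Subgroup G) := by rw [hz0]; exact z.2
  have ht0S : t0 ∈ (S : Subgroup G) := by rw [ht0]; exact t.2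
  have hz02 : z0 ^ 2 = 1 := by
    have := congrArg Subtype.val hz2
    rw [hz0]; simpa using this
  have ht02 : t0 ^ 2 = 1 := by
    have := congrArg Subtype.val ht2
    rw [ht0]; simpa using this
  have hz01 : z0 ≠ 1 := by rw [hz0]; exact fun h => hz1 (Subtype.ext h)
  have ht01 : t0 ≠ 1 := by rw [ht0]; exact fun h => ht1 (Subtype.ext h)
  have htz0 : t0 ≠ z0 := by rw [ht0, hz0]; exact fun h => htz (Subtype.ext h)
  have hzc0 : ∀ s ∈ (S : Subgroup G), s * z0 * s⁻¹ = z0 := by
    intro s hs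
    have := congrArg Subtype.val (hzc ⟨s, hs⟩)
    rw [hz0]; simpa using this
  have htc0 : ∀ s ∈ (S : Subgroup G), s * t0 * s⁻¹ = t0 ∨ s * t0 * s⁻¹ = t0 * z0 := by
    intro s hs
    rcases htc ⟨s, hs⟩ with h | h
    · left
      have := congrArg Subtype.val h
      rw [ht0]; simpa using this
    · right
      have := congrArg Subtype.val h
      rw [ht0, hz0]; simpa using this
  have hzcomm : ∀ s ∈ (S : Subgroup G), s * z0 = z0 * s := by
    intro s hs
    have := hzc0 s hs
    calc s * z0 = (s * z0 * s⁻¹) * s := by group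
      _ = z0 * s := by rw [this]
  have hzo : orderOf z0 = 2 := orderOf_eq_prime hz02 hz01
  have hto : orderOf t0 = 2 := orderOf_eq_prime ht02 ht01
  have hzt : z0 * t0 = t0 * z0 := (hzcomm t0 ht0S).symm
  -- T
  obtain ⟨T, hT⟩ : ∃ T : Subgroup G, T = (S : Subgroup G) ⊓ Subgroup.centralizer ({t0} : Set G) :=
    ⟨_, rfl⟩
  have memT : ∀ g, g ∈ T ↔ g ∈ (S : Subgroup G) ∧ g * t0 = t0 * g := by
    intro g
    rw [hT, Subgroup.mem_inf, Subgroup.mem_centralizer_singleton_iff]
  have hTS : T ≤ (S : Subgroup G) := by rw [hT]; exact inf_le_left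
  have memT' : ∀ g ∈ (S : Subgroup G), g ∉ T → g * t0 * g⁻¹ = t0 * z0 := by
    intro g hg hgT
    rcases htc0 g hg with h | h
    · exfalso
      apply hgT
      rw [memT]
      refine ⟨hg, ?_⟩
      calc g * t0 = (g * t0 * g⁻¹) * g := by group
        _ = t0 * g := by rw [h]
    · exact h
  have hcos : ∀ a ∈ (S : Subgroup G), a ∉ T → ∀ b ∈ (S : Subgroup G), b ∉ T → b * a ∈ T := by
    intro a ha haT b hb hbT
    rw [memT]
    refine ⟨Subgroup.mul_mem _ hb ha, ?_⟩
    have h1 := memT' a ha haT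
    have h2 := memT' b hb hbT
    have h3 : b * a * t0 * (b * a)⁻¹ = t0 := by
      calc b * a * t0 * (b * a)⁻¹ = b * (a * t0 * a⁻¹) * b⁻¹ := by group
        _ = b * (t0 * z0) * b⁻¹ := by rw [h1]
        _ = (b * t0 * b⁻¹) * (b * z0 * b⁻¹) := by group
        _ = t0 * z0 * z0 := by rw [h2, hzc0 b hb]
        _ = t0 := by rw [mul_assoc, ← pow_two, hz02, mul_one]
    calc b * a * t0 = (b * a * t0 * (b * a)⁻¹) * (b * a) := by group
      _ = t0 * (b * a) := by rw [h3]
  have hxor : ∀ a ∈ (S : Subgroup G), a ∉ T → ∀ b ∈ (S : Subgroup G), Xor' (b * a ∈ T) (b ∈ T) := by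
    intro a ha haT b hb
    by_cases hbT : b ∈ T
    · right
      refine ⟨hbT, fun h => haT ?_⟩
      have := T.mul_mem (T.inv_mem hbT) h
      simpa using this
    · left
      exact ⟨hcos a ha haT b hb hbT, hbT⟩
  -- Thompson transfer
  have key : ∀ x' ∈ (S : Subgroup G), orderOf x' = 2 → ∃ g : G, g * x' * g⁻¹ ∈ T := by
    intro x' hx'S hx'
    by_cases hx'T : x' ∈ T
    · exact ⟨1, by simpa using hx'T⟩
    · have hrel : T.relIndex (S : Subgroup G) = 2 :=
        Subgroup.relIndex_eq_two_iff.mpr ⟨x', hx'S, fun b hb => hxor x' hx'S hx'T b hb⟩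
      rcases Cfsg.Agent.S0111.result S T hTS hrel x' hx' hx'S hx'T with ⟨M, -, hMi, -⟩ | h
      · exact absurd hMi (hno M)
      · exact h
  -- move x into S
  have hxp : IsPGroup 2 (Subgroup.zpowers x) := by
    refine IsPGroup.of_card (n := 1) ?_
    rw [Nat.card_zpowers, hx, pow_one]
  obtain ⟨Q, hQ⟩ := hxp.exists_le_sylow
  obtain ⟨g, hg⟩ := MulAction.exists_smul_eq G S Q
  obtain ⟨x1, hx1⟩ : ∃ x1 : G, x1 = g⁻¹ * x * g := ⟨_, rfl⟩
  have hx1S : x1 ∈ (S : Subgroup G) := by
    have h1 : x ∈ (Q : Subgroup G) := hQ (Subgroup.mem_zpowers x)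
    rw [← hg, Sylow.coe_subgroup_smul, Subgroup.mem_pointwise_smul_iff_inv_smul_mem] at h1
    rw [MulAut.smul_def, ← map_inv, MulAut.conj_apply, inv_inv] at h1
    rw [hx1]; exact h1
  have hx1o : orderOf x1 = 2 := by
    have : x1 = (MulAut.conj g⁻¹) x := by rw [hx1, MulAut.conj_apply, inv_inv]
    rw [this, MulEquiv.orderOf_eq, hx]
  obtain ⟨g2, hg2⟩ := key x1 hx1S hx1o
  obtain ⟨x2, hx2⟩ : ∃ x2 : G, x2 = g2 * x1 * g2⁻¹ := ⟨_, rfl⟩
  rw [← hx2] at hg2
  have hx2conj : x2 = (g2 * g⁻¹) * x * (g2 * g⁻¹)⁻¹ := by rw [hx2, hx1]; group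
  have hx2S : x2 ∈ (S : Subgroup G) := hTS hg2
  have hx2t : x2 * t0 = t0 * x2 := ((memT x2).mp hg2).2
  have hx2z : x2 * z0 = z0 * x2 := hzcomm x2 hx2S
  have hx22 : x2 ^ 2 = 1 := by
    have : x2 = (MulAut.conj (g2 * g⁻¹)) x := by rw [hx2conj, MulAut.conj_apply]
    have ho : orderOf x2 = 2 := by rw [this, MulEquiv.orderOf_eq, hx]
    rw [← ho]; exact pow_orderOf_eq_one x2
  suffices hsuff : ∃ W : Subgroup G, W ≤ Subgroup.centralizer ({x2} : Set G) ∧
      (∀ w ∈ W, w ^ 2 = 1) ∧ 8 ≤ Nat.card W by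
    obtain ⟨W, hWc, hW2, hW8⟩ := hsuff
    obtain ⟨E8, hE8W, hE88⟩ := exists_card_eight W hW2 hW8
    rw [hx2conj] at hWc
    exact conj_invariant x (g2 * g⁻¹) E8 (hE8W.trans hWc) hE88 (fun e he => hW2 e (hE8W he))
  -- the four-group
  obtain ⟨U, hU⟩ : ∃ U : Subgroup G, U = fourGroup z0 t0 := ⟨_, rfl⟩
  have hUcard : Nat.card U = 4 := by rw [hU]; exact fourGroup_card z0 t0 hzo hto hzt htz0.symm
  have hU2 : ∀ u ∈ U, u ^ 2 = 1 := by
    intro u hu; rw [hU] at hu; exact fourGroup_sq z0 t0 hzo hto hzt u hu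
  have hUle : ∀ b : G, z0 * b = b * z0 → t0 * b = b * t0 →
      U ≤ Subgroup.centralizer ({b} : Set G) := by
    intro b hbz hbt
    rw [hU, fourGroup]
    apply sup_le
    · rw [Subgroup.zpowers_le, Subgroup.mem_centralizer_singleton_iff]; exact hbz
    · rw [Subgroup.zpowers_le, Subgroup.mem_centralizer_singleton_iff]; exact hbt
  have hUx2 : U ≤ Subgroup.centralizer ({x2} : Set G) := hUle x2 hx2z.symm hx2t.symm
  have hzU : z0 ∈ U := by rw [hU]; exact left_mem_fourGroup z0 t0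
  have htU : t0 ∈ U := by rw [hU]; exact right_mem_fourGroup z0 t0
  by_cases hx2U : x2 ∈ U
  · -- case B
    obtain ⟨B, hB⟩ : ∃ B : Subgroup G, B = E ⊓ T := ⟨_, rfl⟩
    have hBE : B ≤ E := by rw [hB]; exact inf_le_left
    have hBT : B ≤ T := by rw [hB]; exact inf_le_right
    have hBcomm : ∀ b ∈ B, U ≤ Subgroup.centralizer ({b} : Set G) := by
      intro b hb
      have hbT := (memT b).mp (hBT hb)
      exact hUle b (hzcomm b hbT.1).symm hbT.2.symm
    have hEc := comm_of_sq E hE2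
    have hB4 : 4 ≤ Nat.card B := by
      by_cases hET : E ≤ T
      · have : B = E := by rw [hB]; exact inf_eq_left.mpr hET
        rw [this, hE8]; norm_num
      · obtain ⟨e0, he0E, he0T⟩ := SetLike.not_le_iff_exists.mp hET
        have hrel : T.relIndex E = 2 :=
          Subgroup.relIndex_eq_two_iff.mpr
            ⟨e0, he0E, fun b hb => hxor e0 (hES he0E) he0T b (hES hb)⟩
        have h1 := Subgroup.relIndex_mul_relIndex ⊥ B E bot_le hBE
        rw [Subgroup.relIndex_bot_left, Subgroup.relIndex_bot_left, hB,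
          Subgroup.inf_relIndex_left, hrel, hE8] at h1
        rw [hB]; omega
    refine ⟨U ⊔ B, ?_, ?_, ?_⟩
    · apply sup_le hUx2
      intro b hb
      rw [Subgroup.mem_centralizer_singleton_iff]
      exact (Subgroup.mem_centralizer_singleton_iff.mp (hBcomm b hb hx2U)).symm
    · apply ea_sup' U B hU2 (fun b hb => hE2 b (hBE hb))
      intro a ha b hb
      exact Subgroup.mem_centralizer_singleton_iff.mp (hBcomm b hb ha)
    · by_cases hWB : B = U ⊔ B
      · have htE : t0 ∈ E := hBE (by rw [hWB]; exact (le_sup_left : U ≤ _) htU)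
        have hET : E ≤ T := by
          intro e he
          rw [memT]
          exact ⟨hES he, hEc e he t0 htE⟩
        have : B = E := by rw [hB]; exact inf_eq_left.mpr hET
        rw [← hWB, this, hE8]
      · have h1 := card_ge_of_lt B (U ⊔ B) le_sup_right hWB
        omega
  · -- case A
    refine ⟨U ⊔ Subgroup.zpowers x2, ?_, ?_, ?_⟩
    · apply sup_le hUx2
      rw [Subgroup.zpowers_le, Subgroup.mem_centralizer_singleton_iff]
    · apply ea_sup' U (Subgroup.zpowers x2) hU2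
      · intro b hb
        rcases (mem_zpowers_of_sq x2 hx22 b).mp hb with rfl | rfl
        · exact one_pow 2
        · exact hx22
      · intro a ha b hb
        have h1 := Subgroup.mem_centralizer_singleton_iff.mp (hUx2 ha)
        rcases (mem_zpowers_of_sq x2 hx22 b).mp hb with rfl | rfl
        · rw [mul_one, one_mul]
        · exact h1
    · have h1 := card_ge_of_lt U (U ⊔ Subgroup.zpowers x2) le_sup_left (by
        intro h
        apply hx2U
        rw [h]
        exact (le_sup_right : Subgroup.zpowers x2 ≤ _) (Subgroup.mem_zpowers x2))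
      rw [hUcard] at h1
      exact h1

/-- Let G be a finite group with no subgroup of index 2 whose 2-rank is at least 3 (it contains an elementary abelian subgroup of order 8). Then the centralizer of every involution of G also contains an elementary abelian subgroup of order 8. -/
theorem result {G : Type*} [Group G] [Finite G] (hno : ∀ H : Subgroup G, H.index ≠ 2) (hrank : ∃ E : Subgroup G, Nat.card E = 8 ∧ ∀ e ∈ E, e ^ 2 = 1) (x : G) (hx : orderOf x = 2) : ∃ E : Subgroup G, E ≤ Subgroup.centralizer ({x} : Set G) ∧ Nat.card E = 8 ∧ ∀ e ∈ E, e ^ 2 = 1 := by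
  exact main0221 hno hrank x hx

end Cfsg.Agent.S0221
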