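import Cfsg.Statements.S0224
import Mathlib
import Cfsg.Agent.Lib.Helper1.StrongEmb

set_option autoImplicit false
open Cfsg

namespace Cfsg.Agent.S0224

open Cfsg.Agent.Lib.Helper1

theorem smul_mk_eq_iff {G : Type*} [Group G] (H : Subgroup G) (t g : G) :
    t • (QuotientGroup.mk g : G ⧸ H) = QuotientGroup.mk g ↔ g⁻¹ * t * g ∈ H := by
  rw [MulAction.Quotient.smul_mk, QuotientGroup.eq, smul_eq_mul]
  have e : (t * g)⁻¹ * g = (g⁻¹ * t * g)⁻¹ := by group
  rw [e, Subgroup.inv_mem_iff]


/-- Let H be a proper subgroup of even order of the finite group G. Then H is strongly embedded if and only if each involution of H fixes exactly one point (namely the coset H) in the action of G on the cosets of H. -/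
theorem result {G : Type*} [Group G] [Finite G] (H : Subgroup G) (hH : H ≠ ⊤) (heven : Even (Nat.card H)) : Cfsg.IsStronglyEmbedded H ↔ ∀ t ∈ H, orderOf t = 2 → Nat.card {c : G ⧸ H // t • c = c} = 1 := by
  constructor
  · rintro ⟨-, -, hSE⟩ t htH ht
    have hfix1 : t • (QuotientGroup.mk 1 : G ⧸ H) = QuotientGroup.mk 1 := by
      rw [smul_mk_eq_iff]
      simpa using htH
    have hall : ∀ c : G ⧸ H, t • c = c → c = QuotientGroup.mk 1 := by
      intro c hc
      induction c using QuotientGroup.induction_on with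
      | H g =>
        rw [smul_mk_eq_iff] at hc
        have hgH : g ∈ H := by
          by_contra hgH
          have hodd := hSE g hgH
          have hmem : t ∈ H ⊓ H.map (MulAut.conj g).toMonoidHom :=
            Subgroup.mem_inf.2 ⟨htH, mem_map_conj_iff.2 hc⟩
          exact not_odd_card_of_invol_mem hmem ht hodd
        rw [QuotientGroup.eq]
        simpa using hgH
    rw [Nat.card_eq_one_iff_unique]
    constructor
    · constructor
      rintro ⟨c, hc⟩ ⟨d, hd⟩
      apply Subtype.ext
      show c = d
      rw [hall c hc, hall d hd]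
    · exact ⟨⟨_, hfix1⟩⟩
  · intro h
    refine ⟨hH, heven, ?_⟩
    intro g hgH
    by_contra hnodd
    have hev : Even (Nat.card ↥(H ⊓ H.map (MulAut.conj g).toMonoidHom)) :=
      Nat.not_odd_iff_even.1 hnodd
    obtain ⟨t, htmem, ht⟩ := exists_invol_of_even_card _ hev
    obtain ⟨htH, htg⟩ := Subgroup.mem_inf.1 htmem
    rw [mem_map_conj_iff] at htg
    have h1 := h t htH ht
    rw [Nat.card_eq_one_iff_unique] at h1
    obtain ⟨hsub, -⟩ := h1
    have hfix1 : t • (QuotientGroup.mk 1 : G ⧸ H) = QuotientGroup.mk 1 := by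
      rw [smul_mk_eq_iff]
      simpa using htH
    have hfixg : t • (QuotientGroup.mk g : G ⧸ H) = QuotientGroup.mk g := by
      rw [smul_mk_eq_iff]
      exact htg
    have heq := hsub.elim (⟨_, hfix1⟩ : {c : G ⧸ H // t • c = c}) ⟨_, hfixg⟩
    have heq' : (QuotientGroup.mk 1 : G ⧸ H) = QuotientGroup.mk g := congrArg Subtype.val heq
    rw [QuotientGroup.eq] at heq'
    apply hgH
    simpa using heq'

end Cfsg.Agent.S0224
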