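import Cfsg.Statements.S0226
import Mathlib

set_option autoImplicit false
open Cfsg

namespace Cfsg.Agent.S0226

/-- the number of solutions of `g⁻¹ = g` has the parity of the group order -/
theorem card_modEq_card_inv_fixed {G : Type*} [Group G] [Finite G] :
    Nat.card G ≡ ({g : G | g⁻¹ = g} : Set G).ncard [MOD 2] := by
  classical
  haveI : Fintype G := Fintype.ofFinite G
  haveI : Fact (Nat.Prime 2) := ⟨Nat.prime_two⟩
  let f : Function.End G := fun g => g⁻¹
  have hf : f ^ 2 ^ 1 = 1 := by
    rw [pow_one, pow_two]
    funext g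
    show (g⁻¹)⁻¹ = g
    exact inv_inv g
  have := Equiv.Perm.card_fixedPoints_modEq (f := f) (p := 2) (n := 1) hf
  have e : ({g : G | g⁻¹ = g} : Set G) = Function.fixedPoints f := by
    ext g; rfl
  rw [e, Nat.card_eq_fintype_card, ← Nat.card_coe_set_eq, Nat.card_eq_fintype_card]
  exact this

theorem inv_fixed_eq_insert {G : Type*} [Group G] :
    {g : G | g⁻¹ = g} = insert 1 {t : G | orderOf t = 2} := by
  ext g
  simp only [Set.mem_ofPred_eq, Set.mem_insert_iff]
  constructor
  · intro h
    by_cases h1 : g = 1
    · left; exact h1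
    · right
      have h2 : g * g = 1 := by
        nth_rewrite 1 [← h]
        exact inv_mul_cancel g
      have : orderOf g ∣ 2 := orderOf_dvd_of_pow_eq_one (by rw [pow_two]; exact h2)
      rcases (Nat.dvd_prime Nat.prime_two).1 this with h | h
      · exact absurd (orderOf_eq_one_iff.1 h) h1
      · exact h
  · rintro (rfl | h)
    · exact inv_one
    · have := pow_orderOf_eq_one g
      rw [h, pow_two] at this
      exact inv_eq_of_mul_eq_one_left this

theorem card_inv_fixed {G : Type*} [Group G] [Finite G] :
    ({g : G | g⁻¹ = g} : Set G).ncard = Nat.card {t : G // orderOf t = 2} + 1 := by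
  have h2 : Nat.card {t : G // orderOf t = 2} = ({t : G | orderOf t = 2} : Set G).ncard :=
    Nat.card_coe_set_eq _
  rw [h2, inv_fixed_eq_insert]
  apply Set.ncard_insert_of_notMem
  · simp
  · exact Set.toFinite _


/-- A finite group of even order has an odd number of involutions. -/
theorem result {G : Type*} [Group G] [Finite G] (heven : Even (Nat.card G)) : Odd (Nat.card {t : G // orderOf t = 2}) := by
  have h1 := card_modEq_card_inv_fixed (G := G)
  rw [card_inv_fixed] at h1
  have h2 : Nat.card G % 2 = 0 := Nat.even_iff.1 heven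
  unfold Nat.ModEq at h1
  rw [Nat.odd_iff]
  omega

end Cfsg.Agent.S0226
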