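import Cfsg.Statements.S0228
import Mathlib

set_option autoImplicit false
open Cfsg

namespace Cfsg.Agent.S0228

/-- A group of order 12 in which no involution is central is isomorphic to the alternating group on four letters. -/
theorem result {G : Type*} [Group G] [Finite G] (hG : Nat.card G = 12) (hz : ∀ z : G, orderOf z = 2 → z ∉ Subgroup.center G) : Nonempty (G ≃* alternatingGroup (Fin 4)) := by
  classical
  haveI : Fact (Nat.Prime 3) := ⟨by norm_num⟩
  haveI : Fact (Nat.Prime 2) := ⟨Nat.prime_two⟩
  obtain ⟨P⟩ : Nonempty (Sylow 3 G) := inferInstance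
  have hP3 : Nat.card (P : Subgroup G) = 3 ∧ (P : Subgroup G).index = 4 := by
    obtain ⟨k, hk⟩ := (IsPGroup.iff_card).1 P.2
    have hk' : Nat.card (P : Subgroup G) = 3 ^ k := hk
    have h1 := Subgroup.card_mul_index (P : Subgroup G)
    rw [hG, hk'] at h1
    have h2 := P.not_dvd_index
    have hk3 : k < 3 := by
      by_contra hk6
      push Not at hk6
      have : 3 ^ 3 ≤ 3 ^ k := Nat.pow_le_pow_right (by norm_num) hk6
      have hpos : 0 < (P : Subgroup G).index :=
        Nat.pos_of_ne_zero (fun h0 => by rw [h0] at h1; omega)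
      nlinarith
    rw [hk']
    interval_cases k <;> omega
  obtain ⟨hP3, hPidx⟩ := hP3
  obtain ⟨Q⟩ : Nonempty (Sylow 2 G) := inferInstance
  have hQ4 : Nat.card (Q : Subgroup G) = 4 := by
    obtain ⟨k, hk⟩ := (IsPGroup.iff_card).1 Q.2
    have hk' : Nat.card (Q : Subgroup G) = 2 ^ k := hk
    have h1 := Subgroup.card_mul_index (Q : Subgroup G)
    rw [hG, hk'] at h1
    have h2 := Q.not_dvd_index
    have hk3 : k < 4 := by
      by_contra hk6
      push Not at hk6
      have : 2 ^ 4 ≤ 2 ^ k := Nat.pow_le_pow_right (by norm_num) hk6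
      have hpos : 0 < (Q : Subgroup G).index :=
        Nat.pos_of_ne_zero (fun h0 => by rw [h0] at h1; omega)
      nlinarith
    rw [hk']
    interval_cases k <;> omega
  have hn3 : Nat.card (Sylow 3 G) = 1 ∨ Nat.card (Sylow 3 G) = 4 := by
    have h1 := card_sylow_modEq_one 3 G
    have h2 := Sylow.card_dvd_index P
    rw [hPidx] at h2
    unfold Nat.ModEq at h1
    have hle : Nat.card (Sylow 3 G) ≤ 4 := Nat.le_of_dvd (by norm_num) h2
    generalize Nat.card (Sylow 3 G) = n at *
    interval_cases n <;> omega
  rcases hn3 with h1 | h4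
  · -- a central involution
    exfalso
    have hPn : (P : Subgroup G).Normal := by
      rw [← Subgroup.normalizer_eq_top_iff, ← Subgroup.index_eq_one]
      have h5 := Sylow.card_eq_index_normalizer P
      rw [h1] at h5
      exact h5.symm
    haveI := hPn
    let f : (Q : Subgroup G) →* MulAut (P : Subgroup G) :=
      (MulAut.conjNormal (H := (P : Subgroup G))).comp (Q : Subgroup G).subtype
    haveI : IsCyclic (P : Subgroup G) := isCyclic_of_prime_card hP3
    have hAut : Nat.card (MulAut (P : Subgroup G)) = 2 := by
      rw [IsCyclic.card_mulAut, hP3]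
      decide
    have hker2 : 2 ∣ Nat.card f.ker := by
      have h2 := Subgroup.card_mul_index f.ker
      rw [Subgroup.index_ker, hQ4] at h2
      have h3 : Nat.card f.range ∣ 2 := by
        have h30 := Subgroup.card_subgroup_dvd_card f.range
        rwa [hAut] at h30
      have h5 : Nat.card f.range ≤ 2 := Nat.le_of_dvd (by norm_num) h3
      have h6 : 0 < Nat.card f.range := Nat.card_pos
      generalize Nat.card f.range = r at *
      generalize Nat.card f.ker = c at *
      interval_cases r
      · exact ⟨2, by omega⟩
      · exact ⟨1, by omega⟩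
    obtain ⟨z', hz'⟩ := exists_prime_orderOf_dvd_card' (G := f.ker) 2 hker2
    set z : G := ((z' : (Q : Subgroup G)) : G) with hzdef
    have hzord : orderOf z = 2 := by
      rw [hzdef, Subgroup.orderOf_coe, Subgroup.orderOf_coe, hz']
    apply hz z hzord
    have hQcomm := IsPGroup.commutative_of_card_eq_prime_sq (p := 2) (G := (Q : Subgroup G)) hQ4
    have hcentQ : (Q : Subgroup G) ≤ Subgroup.centralizer ({z} : Set G) := by
      intro q hq
      rw [Subgroup.mem_centralizer_iff]
      intro h hh
      rw [Set.mem_singleton_iff] at hh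
      subst hh
      have := hQcomm (z' : (Q : Subgroup G)) ⟨q, hq⟩
      exact congrArg Subtype.val this
    have hcentP : (P : Subgroup G) ≤ Subgroup.centralizer ({z} : Set G) := by
      intro x hx
      rw [Subgroup.mem_centralizer_iff]
      intro h hh
      rw [Set.mem_singleton_iff] at hh
      subst hh
      have h3 : f (z' : (Q : Subgroup G)) = 1 := z'.2
      have h4 := congrArg (fun a : MulAut (P : Subgroup G) => ((a ⟨x, hx⟩ : (P : Subgroup G)) : G)) h3
      simp only [f, MonoidHom.comp_apply, Subgroup.coe_subtype, MulAut.conjNormal_apply,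
        MulAut.one_apply] at h4
      -- h4 : z * x * z⁻¹ = x
      calc ((z' : (Q : Subgroup G)) : G) * x = (((z' : (Q : Subgroup G)) : G) * x * ((z' : (Q : Subgroup G)) : G)⁻¹) * ((z' : (Q : Subgroup G)) : G) := by group
        _ = x * ((z' : (Q : Subgroup G)) : G) := by rw [h4]
    have hcomp : Subgroup.IsComplement' (P : Subgroup G) (Q : Subgroup G) :=
      Subgroup.isComplement'_of_coprime (by rw [hP3, hQ4, hG]) (by rw [hP3, hQ4]; decide)
    have htop : Subgroup.centralizer ({z} : Set G) = ⊤ := by
      rw [eq_top_iff, ← hcomp.sup_eq_top]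
      exact sup_le hcentP hcentQ
    rw [Subgroup.mem_center_iff]
    intro g
    have hg : g ∈ Subgroup.centralizer ({z} : Set G) := by rw [htop]; trivial
    rw [Subgroup.mem_centralizer_iff] at hg
    exact (hg z (Set.mem_singleton z)).symm
  · -- action on the four Sylow 3-subgroups
    have hnorm : ∀ P' : Sylow 3 G, Subgroup.normalizer ((P' : Subgroup G) : Set G) = (P' : Subgroup G) := by
      intro P'
      have h5 : (Subgroup.normalizer ((P' : Subgroup G) : Set G)).index = 4 := by
        have h50 := Sylow.card_eq_index_normalizer P'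
        rw [h4] at h50
        exact h50.symm
      have h6 := Subgroup.card_mul_index (Subgroup.normalizer ((P' : Subgroup G) : Set G))
      rw [h5, hG] at h6
      have h7 : Nat.card (P' : Subgroup G) = 3 := by
        rw [Sylow.card_eq_multiplicity, ← Sylow.card_eq_multiplicity P, hP3]
      symm
      apply Subgroup.eq_of_le_of_card_ge Subgroup.le_normalizer
      rw [h7]
      omega
    have hinj : Function.Injective (MulAction.toPermHom G (Sylow 3 G)) := by
      rw [injective_iff_map_eq_one]
      intro g hg
      have hmem : ∀ P' : Sylow 3 G, g ∈ (P' : Subgroup G) := by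
        intro P'
        have h5 : g • P' = P' := by
          have := congrArg (fun σ : Equiv.Perm (Sylow 3 G) => σ P') hg
          exact this
        rw [Sylow.smul_eq_iff_mem_normalizer] at h5
        have h6 : g ∈ Subgroup.normalizer ((P' : Subgroup G) : Set G) := h5
        rw [hnorm P'] at h6
        exact h6
      -- two distinct Sylow subgroups
      haveI : Nontrivial (Sylow 3 G) := by
        rw [← Finite.one_lt_card_iff_nontrivial, h4]; norm_num
      obtain ⟨P', hP'⟩ := exists_ne P
      by_contra hg1
      have hinf : (P : Subgroup G) ⊓ (P' : Subgroup G) ≠ ⊥ := by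
        intro h
        have : g ∈ (P : Subgroup G) ⊓ (P' : Subgroup G) := ⟨hmem P, hmem P'⟩
        rw [h, Subgroup.mem_bot] at this
        exact hg1 this
      have h5 : Nat.card ((P : Subgroup G) ⊓ (P' : Subgroup G) : Subgroup G) ∣ 3 := by
        have h50 := Subgroup.card_dvd_of_le
          (inf_le_left : (P : Subgroup G) ⊓ (P' : Subgroup G) ≤ (P : Subgroup G))
        rwa [hP3] at h50
      rcases (Nat.dvd_prime (by norm_num : Nat.Prime 3)).1 h5 with h6 | h6
      · exact hinf (Subgroup.card_eq_one.1 h6)
      · have h7 : (P : Subgroup G) ⊓ (P' : Subgroup G) = (P : Subgroup G) :=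
          Subgroup.eq_of_le_of_card_ge inf_le_left (by rw [h6, hP3])
        have h8 : Nat.card (P' : Subgroup G) = 3 := by
          rw [Sylow.card_eq_multiplicity, ← Sylow.card_eq_multiplicity P, hP3]
        have h9 : (P : Subgroup G) ⊓ (P' : Subgroup G) = (P' : Subgroup G) :=
          Subgroup.eq_of_le_of_card_ge inf_le_right (by rw [h6, h8])
        apply hP'
        apply Sylow.ext
        rw [← h9, h7]
    letI : Fintype (Sylow 3 G) := Fintype.ofFinite _
    set ψ := MulAction.toPermHom G (Sylow 3 G) with hψ
    have hrange : Nat.card ψ.range = Nat.card G :=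
      (Nat.card_congr (MonoidHom.ofInjective hinj).toEquiv).symm
    have hidx : ψ.range.index = 2 := by
      have h1 := Subgroup.card_mul_index ψ.range
      rw [hrange, Nat.card_perm, h4, hG] at h1
      have : (4 : ℕ).factorial = 24 := by decide
      rw [this] at h1
      omega
    have halt := Equiv.Perm.eq_alternatingGroup_of_index_eq_two hidx
    let e : Sylow 3 G ≃ Fin 4 := Finite.equivFinOfCardEq h4
    exact ⟨((MonoidHom.ofInjective hinj).trans (MulEquiv.subgroupCongr halt)).trans
      (Equiv.altCongrHom e)⟩

end Cfsg.Agent.S0228
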