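import Cfsg.Statements.S0229
import Mathlib
import Cfsg.Agent.Lib.Helper1.Dih3
import Cfsg.Agent.Lib.Helper1.Sylow2

set_option autoImplicit false
open Cfsg

namespace Cfsg.Agent.S0229

open Cfsg.Agent.Lib.Helper1

/-- Let t be an involution of a Sylow 2-subgroup S of a finite group G, conjugate in G to no other element of S, and let s be an involution of G not conjugate to t. Then the order of st is twice an odd number. -/
theorem result {G : Type*} [Group G] [Finite G] (S : Sylow 2 G) (t : G) (ht : orderOf t = 2) (htS : t ∈ S) (hiso : ∀ g : G, g * t * g⁻¹ ∈ S → g * t * g⁻¹ = t) (s : G) (hs : orderOf s = 2) (hns : ¬ IsConj s t) : orderOf (s * t) % 4 = 2 := by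
  have hs2 : s * s = 1 := sq_eq_one_of_orderOf_two hs
  have ht2 : t * t = 1 := sq_eq_one_of_orderOf_two ht
  have heven : Even (orderOf (s * t)) := by
    by_contra hne
    have hodd : Odd (orderOf (s * t)) := Nat.not_even_iff_odd.1 hne
    obtain ⟨g, hg⟩ := conj_of_odd_orderOf_mul hs2 ht2 hodd
    exact hns (isConj_iff.2 ⟨g, hg⟩)
  obtain ⟨k, hk⟩ := heven
  have hk' : orderOf (s * t) = 2 * k := by rw [hk]; ring
  have hpos : 0 < orderOf (s * t) := orderOf_pos _
  have hk0 : 0 < k := by omega
  obtain ⟨hzz, hz1, hcs, hct⟩ := central_invol_of_even hs2 ht2 hk' hk0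
  rcases Nat.even_or_odd' k with ⟨j, hj | hj⟩
  · exfalso
    set z := (s * t) ^ k with hz
    have hconj : (s * t) ^ (j : ℤ) * t * ((s * t) ^ (j : ℤ))⁻¹ = z * t := by
      rw [zpow_conj_right hs2 ht2, hz, hj]
      congr 1
      rw [← zpow_natCast]
      congr 1
    obtain ⟨Q, htQ, hzQ⟩ := exists_sylow_of_commuting_invol ht2 hzz hct.eq
    have hisoQ := isolated_of_mem_sylow S Q t hiso htQ
    have hmem : (s * t) ^ (j : ℤ) * t * ((s * t) ^ (j : ℤ))⁻¹ ∈ Q := by
      rw [hconj]; exact Subgroup.mul_mem _ hzQ htQ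
    have := hisoQ _ hmem
    rw [hconj] at this
    apply hz1
    have e3 : z = (z * t) * t⁻¹ := by group
    rw [e3, this, mul_inv_cancel]
  · rw [hk', hj]
    omega

end Cfsg.Agent.S0229
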