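import Cfsg.Statements.S0230
import Mathlib
import Cfsg.Agent.Lib.Helper1.Dih3
import Cfsg.Agent.Lib.Helper1.ClassSize

set_option autoImplicit false
open Cfsg

namespace Cfsg.Agent.S0230

open Cfsg.Agent.Lib.Helper1

/-- Let G be a finite group with two non-conjugate involutions, and let t be an involution whose centralizer has maximal order among centralizers of involutions. Then |G| < |C_G(t)|^3. -/
theorem result {G : Type*} [Group G] [Finite G] (s t : G) (hs : orderOf s = 2) (ht : orderOf t = 2) (hnc : ¬ IsConj s t) (hmax : ∀ u : G, orderOf u = 2 → Nat.card (Subgroup.centralizer ({u} : Set G)) ≤ Nat.card (Subgroup.centralizer ({t} : Set G))) : Nat.card G < Nat.card (Subgroup.centralizer ({t} : Set G)) ^ 3 := by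
  classical
  haveI : Fintype G := Fintype.ofFinite G
  have hs2 : s * s = 1 := sq_eq_one_of_orderOf_two hs
  set m := Nat.card (Subgroup.centralizer ({t} : Set G)) with hm
  have hmpos : 0 < m := Nat.card_pos
  -- cardinalities of centralizers as finset cards
  have hcard : ∀ z : G, Nat.card (Subgroup.centralizer ({z} : Set G))
      = (Finset.univ.filter (fun y : G => y ∈ Subgroup.centralizer ({z} : Set G))).card := by
    intro z
    rw [Nat.card_eq_fintype_card, ← Fintype.card_subtype]
  -- the class of t
  set K : Finset G := Finset.univ.filter (fun y : G => IsConj t y) with hK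
  have hKcard : K.card * m = Nat.card G := by
    rw [← card_conj_mul_card_centralizer t, Nat.card_eq_fintype_card, Fintype.card_subtype]
  -- the involutions of C(s)
  set I : Finset G := Finset.univ.filter
    (fun z : G => orderOf z = 2 ∧ z ∈ Subgroup.centralizer ({s} : Set G)) with hI
  have hIlt : I.card < Nat.card (Subgroup.centralizer ({s} : Set G)) := by
    rw [hcard s]
    apply Finset.card_lt_card
    constructor
    · intro z hz
      rw [hI, Finset.mem_filter] at hz
      rw [Finset.mem_filter]
      exact ⟨Finset.mem_univ _, hz.2.2⟩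
    · intro hsub
      have h1 : (1 : G) ∈ Finset.univ.filter
          (fun y : G => y ∈ Subgroup.centralizer ({s} : Set G)) := by
        rw [Finset.mem_filter]
        exact ⟨Finset.mem_univ _, Subgroup.one_mem _⟩
      have := hsub h1
      rw [hI, Finset.mem_filter, orderOf_one] at this
      exact absurd this.2.1 (by decide)
  -- the class of t is covered by centralizers of involutions of C(s)
  have hcover : K ⊆ I.biUnion
      (fun z => Finset.univ.filter (fun y : G => y ∈ Subgroup.centralizer ({z} : Set G))) := by
    intro y hy
    rw [hK, Finset.mem_filter] at hy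
    have hty : IsConj t y := hy.2
    obtain ⟨g, hg⟩ := isConj_iff.1 hty
    have hy2o : orderOf y = 2 := by
      have : y = MulAut.conj g t := by rw [← hg]; simp [MulAut.conj_apply]
      rw [this, MulEquiv.orderOf_eq]; exact ht
    have hy2 : y * y = 1 := sq_eq_one_of_orderOf_two hy2o
    have hns : ¬ IsConj s y := fun h => hnc (h.trans hty.symm)
    have heven : Even (orderOf (s * y)) := by
      by_contra hne
      have hodd : Odd (orderOf (s * y)) := Nat.not_even_iff_odd.1 hne
      obtain ⟨g', hg'⟩ := conj_of_odd_orderOf_mul hs2 hy2 hodd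
      exact hns (isConj_iff.2 ⟨g', hg'⟩)
    obtain ⟨k, hk⟩ := heven
    have hk' : orderOf (s * y) = 2 * k := by rw [hk]; ring
    have hpos : 0 < orderOf (s * y) := orderOf_pos _
    have hk0 : 0 < k := by omega
    obtain ⟨hzz, hz1, hcs, hcy⟩ := central_invol_of_even hs2 hy2 hk' hk0
    rw [Finset.mem_biUnion]
    refine ⟨(s * y) ^ k, ?_, ?_⟩
    · rw [hI, Finset.mem_filter]
      refine ⟨Finset.mem_univ _, orderOf_eq_two_iff'.2 ⟨hzz, hz1⟩, ?_⟩
      exact Subgroup.mem_centralizer_singleton_iff.2 hcs.eq.symm
    · rw [Finset.mem_filter]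
      exact ⟨Finset.mem_univ _, Subgroup.mem_centralizer_singleton_iff.2 hcy.eq⟩
  have h1 : K.card ≤ I.card * m := by
    calc K.card ≤ (I.biUnion
          (fun z => Finset.univ.filter
            (fun y : G => y ∈ Subgroup.centralizer ({z} : Set G)))).card :=
          Finset.card_le_card hcover
      _ ≤ ∑ z ∈ I, (Finset.univ.filter
            (fun y : G => y ∈ Subgroup.centralizer ({z} : Set G))).card :=
          Finset.card_biUnion_le
      _ ≤ ∑ _z ∈ I, m := by
          apply Finset.sum_le_sum
          intro z hz
          rw [hI, Finset.mem_filter] at hz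
          rw [← hcard z]
          exact hmax z hz.2.1
      _ = I.card * m := by rw [Finset.sum_const, smul_eq_mul]
  have h2 : Nat.card (Subgroup.centralizer ({s} : Set G)) ≤ m := hmax s hs
  have h3 : K.card < m * m := by
    calc K.card ≤ I.card * m := h1
      _ < Nat.card (Subgroup.centralizer ({s} : Set G)) * m :=
          Nat.mul_lt_mul_of_pos_right hIlt hmpos
      _ ≤ m * m := Nat.mul_le_mul_right m h2
  rw [← hKcard]
  calc K.card * m < (m * m) * m := Nat.mul_lt_mul_of_pos_right h3 hmpos
    _ = m ^ 3 := by ring

end Cfsg.Agent.S0230
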