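import Cfsg.Statements.S0231
import Mathlib
import Cfsg.Agent.Lib.Helper1.Dih3
import Cfsg.Agent.Lib.Helper1.Sylow2

set_option autoImplicit false
open scoped Pointwise
open Cfsg

namespace Cfsg.Agent.S0231

open Cfsg.Agent.Lib.Helper1

/-- Let T be a Sylow 2-subgroup of the finite group G which is not normal and which intersects every other Sylow 2-subgroup trivially. Then G has a single conjugacy class of involutions. -/
theorem result {G : Type*} [Group G] [Finite G] (T : Sylow 2 G) (hnn : ¬ (T : Subgroup G).Normal) (hTI : ∀ g : G, MulAut.conj g • (T : Subgroup G) ≠ T → MulAut.conj g • (T : Subgroup G) ⊓ T = ⊥) (s t : G) (hs : orderOf s = 2) (ht : orderOf t = 2) : IsConj s t := by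
  classical
  -- Step 1: trivial intersection for all pairs of Sylow 2-subgroups
  have hTIall : ∀ Q₁ Q₂ : Sylow 2 G, ∀ x : G, x ≠ 1 → x ∈ Q₁ → x ∈ Q₂ → Q₁ = Q₂ := by
    intro Q₁ Q₂ x hx1 hx₁ hx₂
    obtain ⟨a, rfl⟩ := MulAction.exists_smul_eq G T Q₁
    obtain ⟨b, rfl⟩ := MulAction.exists_smul_eq G T Q₂
    rw [mem_sylow_smul_iff] at hx₁ hx₂
    have hy1 : a⁻¹ * x * a ≠ 1 := by
      intro h
      apply hx1
      have : x = a * (a⁻¹ * x * a) * a⁻¹ := by group
      rw [this, h]; group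
    have hgT : ((a⁻¹ * b) • T : Sylow 2 G) = T := by
      by_contra hne
      have hne' : MulAut.conj (a⁻¹ * b) • (T : Subgroup G) ≠ T := by
        intro h
        apply hne
        apply Sylow.ext
        rw [Sylow.coe_subgroup_smul]
        exact h
      have hbot := hTI _ hne'
      have hmem : a⁻¹ * x * a ∈ MulAut.conj (a⁻¹ * b) • (T : Subgroup G) ⊓ T := by
        refine ⟨?_, hx₁⟩
        rw [← Sylow.coe_subgroup_smul]
        show a⁻¹ * x * a ∈ ((a⁻¹ * b) • T : Sylow 2 G)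
        rw [mem_sylow_smul_iff]
        have e : (a⁻¹ * b)⁻¹ * (a⁻¹ * x * a) * (a⁻¹ * b) = b⁻¹ * x * b := by group
        rw [e]; exact hx₂
      rw [hbot, Subgroup.mem_bot] at hmem
      exact hy1 hmem
    have : b • T = a • ((a⁻¹ * b) • T) := by
      rw [smul_smul, mul_inv_cancel_left]
    rw [this, hgT]
  -- Step 2: non-conjugate involutions lie in a common Sylow 2-subgroup
  have hcommon : ∀ s t : G, orderOf s = 2 → orderOf t = 2 → ¬ IsConj s t →
      ∃ Q : Sylow 2 G, s ∈ Q ∧ t ∈ Q := by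
    intro s t hs ht hns
    have hs2 : s * s = 1 := sq_eq_one_of_orderOf_two hs
    have ht2 : t * t = 1 := sq_eq_one_of_orderOf_two ht
    have heven : Even (orderOf (s * t)) := by
      by_contra hne
      have hodd : Odd (orderOf (s * t)) := Nat.not_even_iff_odd.1 hne
      obtain ⟨g, hg⟩ := conj_of_odd_orderOf_mul hs2 ht2 hodd
      exact hns (isConj_iff.2 ⟨g, hg⟩)
    obtain ⟨k, hk⟩ := heven
    have hk' : orderOf (s * t) = 2 * k := by rw [hk]; ring
    have hpos : 0 < orderOf (s * t) := orderOf_pos _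
    have hk0 : 0 < k := by omega
    obtain ⟨hzz, hz1, hcs, hct⟩ := central_invol_of_even hs2 ht2 hk' hk0
    obtain ⟨Q₁, hsQ, hzQ₁⟩ := exists_sylow_of_commuting_invol hs2 hzz hcs.eq
    obtain ⟨Q₂, htQ, hzQ₂⟩ := exists_sylow_of_commuting_invol ht2 hzz hct.eq
    have := hTIall Q₁ Q₂ _ hz1 hzQ₁ hzQ₂
    subst this
    exact ⟨Q₁, hsQ, htQ⟩
  by_contra hns
  obtain ⟨Q, hsQ, htQ⟩ := hcommon s t hs ht hns
  -- Step 3: some conjugate of Q differs from Q
  have hex : ∃ g : G, g • Q ≠ Q := by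
    by_contra hall
    push Not at hall
    have hQT : Q = T := by
      obtain ⟨h, hh⟩ := MulAction.exists_smul_eq G Q T
      rw [hall h] at hh
      exact hh
    apply hnn
    rw [← Subgroup.normalizer_eq_top_iff]
    rw [Subgroup.eq_top_iff']
    intro g
    have := hall g
    rw [hQT] at this
    exact Sylow.smul_eq_iff_mem_normalizer.1 this
  obtain ⟨g, hg⟩ := hex
  apply hg
  have hs1 : s ≠ 1 := ne_one_of_orderOf_two hs
  have ht1 : t ≠ 1 := ne_one_of_orderOf_two ht
  have hs' : orderOf (g * s * g⁻¹) = 2 := by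
    have : g * s * g⁻¹ = MulAut.conj g s := by simp [MulAut.conj_apply]
    rw [this, MulEquiv.orderOf_eq]
    exact hs
  have hs'1 : g * s * g⁻¹ ≠ 1 := ne_one_of_orderOf_two hs'
  have hns' : ¬ IsConj (g * s * g⁻¹) t := by
    intro h
    apply hns
    have h0 : IsConj s (g * s * g⁻¹) := isConj_iff.2 ⟨g, rfl⟩
    exact h0.trans h
  obtain ⟨Q', hs'Q', htQ'⟩ := hcommon _ t hs' ht hns'
  have h1 : Q' = Q := hTIall Q' Q t ht1 htQ' htQ
  have hs'gQ : g * s * g⁻¹ ∈ (g • Q : Sylow 2 G) := by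
    rw [mem_sylow_smul_iff]
    have e : g⁻¹ * (g * s * g⁻¹) * g = s := by group
    rw [e]; exact hsQ
  have h2 : Q' = g • Q := hTIall Q' (g • Q) _ hs'1 hs'Q' hs'gQ
  rw [← h2, h1]

end Cfsg.Agent.S0231
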