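import Cfsg.Statements.S0232
import Mathlib
import Cfsg.Agent.Lib.Helper1.BF
import Cfsg.Agent.Lib.Helper1.ClassSize
import Cfsg.Agent.Lib.Helper1.StrongEmb
import Cfsg.Agent.Lib.Helper1.IndexTwo
import Cfsg.Agent.Lib.Helper1.GLSylow

set_option autoImplicit false
open Cfsg

namespace Cfsg.Agent.S0232

open Cfsg.Agent.Lib.Helper1

theorem card_le_invol_mul_centralizer {G : Type*} [Group G] [Finite G] (t : G)
    (ht : orderOf t = 2) :
    Nat.card G ≤ Nat.card {t : G // orderOf t = 2} *
      Nat.card (Subgroup.centralizer ({t} : Set G)) := by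
  rw [← card_conj_mul_card_centralizer t]
  apply Nat.mul_le_mul_right
  apply Nat.card_le_card_of_injective
    (fun y : {y : G // IsConj t y} => (⟨y.1, by
      obtain ⟨u, hu⟩ := isConj_iff.1 y.2
      rw [← hu, orderOf_conj]; exact ht⟩ : {y : G // orderOf y = 2}))
  intro a b hab
  apply Subtype.ext
  have := congrArg Subtype.val hab
  exact this

theorem arith_aux (n r g A B : ℕ) (h1 : n * n + n ≤ n * A + r * B) (h2 : n + 1 + r = g)
    (h3 : g ≤ n * A) (h4 : A ^ 3 ≤ g) (h5 : 2 * B ≤ A) (hA : 1 ≤ A) (hn : 1 ≤ n) : False := by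
  have hnA : A ^ 2 ≤ n := by
    have : A ^ 2 * A ≤ n * A := by
      calc A ^ 2 * A = A ^ 3 := by ring
        _ ≤ g := h4
        _ ≤ n * A := h3
    exact Nat.le_of_mul_le_mul_right this hA
  have e1 : 2 * (n * n) + 2 * n ≤ 2 * (n * A) + r * A := by
    have : r * (2 * B) ≤ r * A := Nat.mul_le_mul_left r h5
    nlinarith
  have e2 : r * A + n * A + A ≤ n * A * A := by
    have : (n + 1 + r) * A ≤ n * A * A := by
      rw [h2]; exact Nat.mul_le_mul_right A h3
    nlinarith
  have e3 : n * A ^ 2 ≤ n * n := Nat.mul_le_mul_left n hnA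
  have e4 : n * A ≤ n * A * A := Nat.le_mul_of_pos_right _ hA
  nlinarith

/-- the Brauer–Fowler core: centre of odd order -/
theorem bf_cube {G : Type*} [Group G] [Finite G] (heven : Even (Nat.card G))
    (hZ : Odd (Nat.card (Subgroup.center G))) (hgt : 2 < Nat.card G)
    (hall : ∀ H : Subgroup G, H ≠ ⊤ → (Nat.card H) ^ 3 ≤ Nat.card G) : False := by
  classical
  set g := Nat.card G with hg
  set n := Nat.card {t : G // orderOf t = 2} with hn
  set A := Nat.findGreatest (fun k => k ^ 3 ≤ g) g with hAdef
  have hA3 : A ^ 3 ≤ g :=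
    Nat.findGreatest_spec (P := fun k => k ^ 3 ≤ g) (m := 1) (by omega) (by simp; omega)
  have hAle : ∀ k : ℕ, k ^ 3 ≤ g → k ≤ A := by
    intro k hk
    apply Nat.le_findGreatest (P := fun k => k ^ 3 ≤ g) _ hk
    rcases Nat.eq_zero_or_pos k with h0 | h0
    · omega
    · calc k = k ^ 1 := (pow_one k).symm
        _ ≤ k ^ 3 := Nat.pow_le_pow_right h0 (by norm_num)
        _ ≤ g := hk
  have hA1 : 1 ≤ A := hAle 1 (by simp; omega)
  have hno2 : ∀ H : Subgroup G, H.index ≠ 2 := by
    intro H h2
    have hne : H ≠ ⊤ := by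
      intro h; rw [h, Subgroup.index_top] at h2; omega
    have h3 := hall H hne
    have h4 := H.card_mul_index
    rw [h2, ← hg] at h4
    have h5 : 2 ≤ Nat.card H := by omega
    have : Nat.card H * 4 ≤ Nat.card H ^ 3 := by
      calc Nat.card H * 4 ≤ Nat.card H * (Nat.card H * Nat.card H) :=
            Nat.mul_le_mul_left _ (by nlinarith)
        _ = Nat.card H ^ 3 := by ring
    omega
  obtain ⟨t, ht⟩ := exists_prime_orderOf_dvd_card' (G := G) 2 (even_iff_two_dvd.1 heven)
  have hn1 : 1 ≤ n := by
    rw [hn]
    exact Nat.card_pos_iff.2 ⟨⟨⟨t, ht⟩⟩, inferInstance⟩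
  have hcne : ∀ x : G, orderOf x = 2 → Subgroup.centralizer ({x} : Set G) ≠ ⊤ := by
    intro x hx htop
    rw [Subgroup.centralizer_eq_top_iff_subset] at htop
    have hxZ : x ∈ Subgroup.center G := htop (Set.mem_singleton x)
    have h2 : orderOf (⟨x, hxZ⟩ : Subgroup.center G) ∣ Nat.card (Subgroup.center G) :=
      orderOf_dvd_natCard _
    rw [← Subgroup.orderOf_coe] at h2
    simp only at h2
    rw [hx] at h2
    exact (Nat.not_even_iff_odd.2 hZ) (even_iff_two_dvd.2 h2)
  have hA : ∀ x : G, orderOf x = 2 → Nat.card (Subgroup.centralizer ({x} : Set G)) ≤ A :=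
    fun x hx => hAle _ (hall _ (hcne x hx))
  have hB : ∀ x : G, x ^ 2 ≠ 1 → IsConj x x⁻¹ →
      Nat.card (Subgroup.centralizer ({x} : Set G)) ≤ A / 2 := by
    intro x hx hreal
    have hE := card_extCentralizer hx hreal
    have hne : extCentralizer x ≠ ⊤ := by
      intro htop
      rw [htop, Subgroup.card_top] at hE
      have h3 := (Subgroup.centralizer ({x} : Set G)).card_mul_index
      have hc : 0 < Nat.card (Subgroup.centralizer ({x} : Set G)) := Nat.card_pos
      have hidx2 : (Subgroup.centralizer ({x} : Set G)).index = 2 := by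
        have : Nat.card (Subgroup.centralizer ({x} : Set G)) * (Subgroup.centralizer ({x} : Set G)).index
            = Nat.card (Subgroup.centralizer ({x} : Set G)) * 2 := by
          rw [h3, hE]; ring
        exact Nat.eq_of_mul_eq_mul_left hc this
      exact hno2 _ hidx2
    have h1 := hAle _ (hall _ hne)
    rw [hE] at h1
    rw [Nat.le_div_iff_mul_le (by norm_num)]
    omega
  obtain ⟨r, hr, hmain⟩ := bf_count (G := G) _ _ hA hB
  rw [← hn] at hr hmain
  have h3 : g ≤ n * A :=
    le_trans (card_le_invol_mul_centralizer t ht) (Nat.mul_le_mul_left _ (hA t ht))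
  exact arith_aux n r g A (A / 2) hmain hr h3 hA3 (Nat.mul_div_le A 2) hA1 hn1

universe u

theorem main_aux : ∀ (N : ℕ) (G : Type u) [Group G] [Finite G], Nat.card G = N → Even N → 2 < N →
    ∃ H : Subgroup G, H ≠ ⊤ ∧ N < (Nat.card H) ^ 3 := by
  intro N
  induction N using Nat.strong_induction_on with
  | _ N ih =>
    intro G _ _ hN heven hgt
    classical
    -- a subgroup of index 2 suffices
    have hidx2 : ∀ H : Subgroup G, H.index = 2 → ∃ H : Subgroup G, H ≠ ⊤ ∧ N < (Nat.card H) ^ 3 := by
      intro H h2
      refine ⟨H, ?_, ?_⟩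
      · intro h; rw [h, Subgroup.index_top] at h2; omega
      · have h4 := H.card_mul_index
        rw [h2, hN] at h4
        have h5 : 2 ≤ Nat.card H := by omega
        have : Nat.card H * 4 ≤ Nat.card H ^ 3 := by
          calc Nat.card H * 4 ≤ Nat.card H * (Nat.card H * Nat.card H) :=
                Nat.mul_le_mul_left _ (by nlinarith)
            _ = Nat.card H ^ 3 := by ring
        omega
    by_cases hZ : Even (Nat.card (Subgroup.center G))
    · -- central involution
      obtain ⟨z, hz⟩ := exists_prime_orderOf_dvd_card' (G := Subgroup.center G) 2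
        (even_iff_two_dvd.1 hZ)
      have hzo : orderOf (z : G) = 2 := by rw [Subgroup.orderOf_coe]; exact hz
      set Z : Subgroup G := Subgroup.zpowers (z : G) with hZdef
      haveI hZn : Z.Normal := by
        constructor
        intro x hx y
        have hxc : x ∈ Subgroup.center G := by
          obtain ⟨k, rfl⟩ := Subgroup.mem_zpowers_iff.1 hx
          exact Subgroup.zpow_mem _ z.2 k
        have : y * x * y⁻¹ = x := by
          rw [(Subgroup.mem_center_iff.1 hxc y)]; group
        rw [this]; exact hx
      have hZcard : Nat.card Z = 2 := by rw [hZdef, Nat.card_zpowers, hzo]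
      have hq := Subgroup.card_eq_card_quotient_mul_card_subgroup Z
      rw [hZcard, hN] at hq
      set q := Nat.card (G ⧸ Z) with hqdef
      by_cases hq2 : q = 2
      · refine ⟨Z, ?_, ?_⟩
        · intro h
          rw [h, Subgroup.card_top, hN] at hZcard
          omega
        · rw [hZcard]; omega
      by_cases hqodd : Odd q
      · -- Sylow 2-subgroup of order 2, cyclic
        haveI : Fact (Nat.Prime 2) := ⟨Nat.prime_two⟩
        obtain ⟨T⟩ : Nonempty (Sylow 2 G) := inferInstance
        have hT : Nat.card T = 2 := by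
          have := sylow_card_of_card_eq T 1 q (by rw [hN, hq]; ring) (by
            intro h; exact (Nat.not_even_iff_odd.2 hqodd) (even_iff_two_dvd.2 h))
          simpa using this
        have hTc : IsCyclic (T : Subgroup G) := by
          haveI : Fact (Nat.Prime 2) := ⟨Nat.prime_two⟩
          exact isCyclic_of_prime_card hT
        obtain ⟨H, hH⟩ := exists_index_two_of_cyclic_sylow (hN ▸ heven) T hTc
        exact hidx2 H hH
      · have hqeven : Even q := Nat.not_odd_iff_even.1 hqodd
        have hq2' : 2 < q := by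
          rcases hqeven with ⟨k, hk⟩
          omega
        obtain ⟨Hb, hHb, hlt⟩ := ih q (by omega) (G ⧸ Z) rfl hqeven hq2'
        set π := QuotientGroup.mk' Z with hπ
        have hπs : Function.Surjective π := QuotientGroup.mk'_surjective _
        refine ⟨Hb.comap π, ?_, ?_⟩
        · intro h
          apply hHb
          have := Subgroup.map_comap_eq_self_of_surjective hπs Hb
          rw [h, Subgroup.map_top_of_surjective π hπs] at this
          exact this.symm
        · have hi : (Hb.comap π).index = Hb.index := Subgroup.index_comap_of_surjective Hb hπs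
          have h1 := (Hb.comap π).card_mul_index
          have h2 := Hb.card_mul_index
          rw [hi, hN] at h1
          rw [← hqdef] at h2
          have hipos : 0 < Hb.index := by
            rcases Nat.eq_zero_or_pos Hb.index with h0 | h0
            · rw [h0, mul_zero] at h2; omega
            · exact h0
          have h3 : Nat.card (Hb.comap π) = 2 * Nat.card Hb := by
            apply Nat.eq_of_mul_eq_mul_right hipos
            rw [h1, hq, ← h2]; ring
          rw [h3]
          calc N = q * 2 := hq
            _ < (Nat.card Hb) ^ 3 * 2 := by omega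
            _ ≤ (2 * Nat.card Hb) ^ 3 := by nlinarith [Nat.zero_le ((Nat.card Hb) ^ 3)]
    · by_contra hcon
      push Not at hcon
      have hall : ∀ H : Subgroup G, H ≠ ⊤ → (Nat.card H) ^ 3 ≤ Nat.card G := by
        intro H hH
        rw [hN]
        exact hcon H hH
      exact bf_cube (hN ▸ heven) (Nat.not_even_iff_odd.1 hZ) (hN ▸ hgt) hall


/-- A finite group G of even order greater than 2 has a proper subgroup H with |G| < |H|^3. -/
theorem result {G : Type*} [Group G] [Finite G] (heven : Even (Nat.card G)) (hgt : 2 < Nat.card G) : ∃ H : Subgroup G, H ≠ ⊤ ∧ Nat.card G < (Nat.card H) ^ 3 := by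
  exact main_aux (Nat.card G) G rfl heven hgt

end Cfsg.Agent.S0232
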