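import Cfsg.Statements.S0493
import Mathlib
import Cfsg.Agent.S0144
import Cfsg.Agent.S0073
import Cfsg.Agent.Lib.Helper1.GLSylow

set_option autoImplicit false
open Cfsg

namespace Cfsg.Agent.S0493

theorem key (n : ℕ) (hn : n ≤ 100) (hpos : 0 < n)
    (hpq : ∀ p q a b : ℕ, p.Prime → q.Prime → n ≠ p ^ a * q ^ b)
    (h73 : n.minFac ^ 3 ∣ n ∨ 12 ∣ n) : n = 60 ∨ n = 84 := by
  interval_cases n
  · exact absurd (by norm_num) (hpq 2 3 0 0 (by norm_num) (by norm_num))
  · exact absurd (by norm_num) (hpq 2 3 1 0 (by norm_num) (by norm_num))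
  · exact absurd (by norm_num) (hpq 3 2 1 0 (by norm_num) (by norm_num))
  · exact absurd (by norm_num) (hpq 2 3 2 0 (by norm_num) (by norm_num))
  · exact absurd (by norm_num) (hpq 5 2 1 0 (by norm_num) (by norm_num))
  · exact absurd (by norm_num) (hpq 2 3 1 1 (by norm_num) (by norm_num))
  · exact absurd (by norm_num) (hpq 7 2 1 0 (by norm_num) (by norm_num))
  · exact absurd (by norm_num) (hpq 2 3 3 0 (by norm_num) (by norm_num))
  · exact absurd (by norm_num) (hpq 3 2 2 0 (by norm_num) (by norm_num))
  · exact absurd (by norm_num) (hpq 2 5 1 1 (by norm_num) (by norm_num))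
  · exact absurd (by norm_num) (hpq 11 2 1 0 (by norm_num) (by norm_num))
  · exact absurd (by norm_num) (hpq 2 3 2 1 (by norm_num) (by norm_num))
  · exact absurd (by norm_num) (hpq 13 2 1 0 (by norm_num) (by norm_num))
  · exact absurd (by norm_num) (hpq 2 7 1 1 (by norm_num) (by norm_num))
  · exact absurd (by norm_num) (hpq 3 5 1 1 (by norm_num) (by norm_num))
  · exact absurd (by norm_num) (hpq 2 3 4 0 (by norm_num) (by norm_num))
  · exact absurd (by norm_num) (hpq 17 2 1 0 (by norm_num) (by norm_num))
  · exact absurd (by norm_num) (hpq 2 3 1 2 (by norm_num) (by norm_num))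
  · exact absurd (by norm_num) (hpq 19 2 1 0 (by norm_num) (by norm_num))
  · exact absurd (by norm_num) (hpq 2 5 2 1 (by norm_num) (by norm_num))
  · exact absurd (by norm_num) (hpq 3 7 1 1 (by norm_num) (by norm_num))
  · exact absurd (by norm_num) (hpq 2 11 1 1 (by norm_num) (by norm_num))
  · exact absurd (by norm_num) (hpq 23 2 1 0 (by norm_num) (by norm_num))
  · exact absurd (by norm_num) (hpq 2 3 3 1 (by norm_num) (by norm_num))
  · exact absurd (by norm_num) (hpq 5 2 2 0 (by norm_num) (by norm_num))
  · exact absurd (by norm_num) (hpq 2 13 1 1 (by norm_num) (by norm_num))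
  · exact absurd (by norm_num) (hpq 3 2 3 0 (by norm_num) (by norm_num))
  · exact absurd (by norm_num) (hpq 2 7 2 1 (by norm_num) (by norm_num))
  · exact absurd (by norm_num) (hpq 29 2 1 0 (by norm_num) (by norm_num))
  · exfalso; rcases h73 with h | h <;> norm_num at h
  · exact absurd (by norm_num) (hpq 31 2 1 0 (by norm_num) (by norm_num))
  · exact absurd (by norm_num) (hpq 2 3 5 0 (by norm_num) (by norm_num))
  · exact absurd (by norm_num) (hpq 3 11 1 1 (by norm_num) (by norm_num))
  · exact absurd (by norm_num) (hpq 2 17 1 1 (by norm_num) (by norm_num))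
  · exact absurd (by norm_num) (hpq 5 7 1 1 (by norm_num) (by norm_num))
  · exact absurd (by norm_num) (hpq 2 3 2 2 (by norm_num) (by norm_num))
  · exact absurd (by norm_num) (hpq 37 2 1 0 (by norm_num) (by norm_num))
  · exact absurd (by norm_num) (hpq 2 19 1 1 (by norm_num) (by norm_num))
  · exact absurd (by norm_num) (hpq 3 13 1 1 (by norm_num) (by norm_num))
  · exact absurd (by norm_num) (hpq 2 5 3 1 (by norm_num) (by norm_num))
  · exact absurd (by norm_num) (hpq 41 2 1 0 (by norm_num) (by norm_num))
  · exfalso; rcases h73 with h | h <;> norm_num at h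
  · exact absurd (by norm_num) (hpq 43 2 1 0 (by norm_num) (by norm_num))
  · exact absurd (by norm_num) (hpq 2 11 2 1 (by norm_num) (by norm_num))
  · exact absurd (by norm_num) (hpq 3 5 2 1 (by norm_num) (by norm_num))
  · exact absurd (by norm_num) (hpq 2 23 1 1 (by norm_num) (by norm_num))
  · exact absurd (by norm_num) (hpq 47 2 1 0 (by norm_num) (by norm_num))
  · exact absurd (by norm_num) (hpq 2 3 4 1 (by norm_num) (by norm_num))
  · exact absurd (by norm_num) (hpq 7 2 2 0 (by norm_num) (by norm_num))
  · exact absurd (by norm_num) (hpq 2 5 1 2 (by norm_num) (by norm_num))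
  · exact absurd (by norm_num) (hpq 3 17 1 1 (by norm_num) (by norm_num))
  · exact absurd (by norm_num) (hpq 2 13 2 1 (by norm_num) (by norm_num))
  · exact absurd (by norm_num) (hpq 53 2 1 0 (by norm_num) (by norm_num))
  · exact absurd (by norm_num) (hpq 2 3 1 3 (by norm_num) (by norm_num))
  · exact absurd (by norm_num) (hpq 5 11 1 1 (by norm_num) (by norm_num))
  · exact absurd (by norm_num) (hpq 2 7 3 1 (by norm_num) (by norm_num))
  · exact absurd (by norm_num) (hpq 3 19 1 1 (by norm_num) (by norm_num))
  · exact absurd (by norm_num) (hpq 2 29 1 1 (by norm_num) (by norm_num))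
  · exact absurd (by norm_num) (hpq 59 2 1 0 (by norm_num) (by norm_num))
  · left; rfl
  · exact absurd (by norm_num) (hpq 61 2 1 0 (by norm_num) (by norm_num))
  · exact absurd (by norm_num) (hpq 2 31 1 1 (by norm_num) (by norm_num))
  · exact absurd (by norm_num) (hpq 3 7 2 1 (by norm_num) (by norm_num))
  · exact absurd (by norm_num) (hpq 2 3 6 0 (by norm_num) (by norm_num))
  · exact absurd (by norm_num) (hpq 5 13 1 1 (by norm_num) (by norm_num))
  · exfalso; rcases h73 with h | h <;> norm_num at h
  · exact absurd (by norm_num) (hpq 67 2 1 0 (by norm_num) (by norm_num))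
  · exact absurd (by norm_num) (hpq 2 17 2 1 (by norm_num) (by norm_num))
  · exact absurd (by norm_num) (hpq 3 23 1 1 (by norm_num) (by norm_num))
  · exfalso; rcases h73 with h | h <;> norm_num at h
  · exact absurd (by norm_num) (hpq 71 2 1 0 (by norm_num) (by norm_num))
  · exact absurd (by norm_num) (hpq 2 3 3 2 (by norm_num) (by norm_num))
  · exact absurd (by norm_num) (hpq 73 2 1 0 (by norm_num) (by norm_num))
  · exact absurd (by norm_num) (hpq 2 37 1 1 (by norm_num) (by norm_num))
  · exact absurd (by norm_num) (hpq 3 5 1 2 (by norm_num) (by norm_num))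
  · exact absurd (by norm_num) (hpq 2 19 2 1 (by norm_num) (by norm_num))
  · exact absurd (by norm_num) (hpq 7 11 1 1 (by norm_num) (by norm_num))
  · exfalso; rcases h73 with h | h <;> norm_num at h
  · exact absurd (by norm_num) (hpq 79 2 1 0 (by norm_num) (by norm_num))
  · exact absurd (by norm_num) (hpq 2 5 4 1 (by norm_num) (by norm_num))
  · exact absurd (by norm_num) (hpq 3 2 4 0 (by norm_num) (by norm_num))
  · exact absurd (by norm_num) (hpq 2 41 1 1 (by norm_num) (by norm_num))
  · exact absurd (by norm_num) (hpq 83 2 1 0 (by norm_num) (by norm_num))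
  · right; rfl
  · exact absurd (by norm_num) (hpq 5 17 1 1 (by norm_num) (by norm_num))
  · exact absurd (by norm_num) (hpq 2 43 1 1 (by norm_num) (by norm_num))
  · exact absurd (by norm_num) (hpq 3 29 1 1 (by norm_num) (by norm_num))
  · exact absurd (by norm_num) (hpq 2 11 3 1 (by norm_num) (by norm_num))
  · exact absurd (by norm_num) (hpq 89 2 1 0 (by norm_num) (by norm_num))
  · exfalso; rcases h73 with h | h <;> norm_num at h
  · exact absurd (by norm_num) (hpq 7 13 1 1 (by norm_num) (by norm_num))
  · exact absurd (by norm_num) (hpq 2 23 2 1 (by norm_num) (by norm_num))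
  · exact absurd (by norm_num) (hpq 3 31 1 1 (by norm_num) (by norm_num))
  · exact absurd (by norm_num) (hpq 2 47 1 1 (by norm_num) (by norm_num))
  · exact absurd (by norm_num) (hpq 5 19 1 1 (by norm_num) (by norm_num))
  · exact absurd (by norm_num) (hpq 2 3 5 1 (by norm_num) (by norm_num))
  · exact absurd (by norm_num) (hpq 97 2 1 0 (by norm_num) (by norm_num))
  · exact absurd (by norm_num) (hpq 2 7 1 2 (by norm_num) (by norm_num))
  · exact absurd (by norm_num) (hpq 3 11 2 1 (by norm_num) (by norm_num))
  · exact absurd (by norm_num) (hpq 2 5 2 2 (by norm_num) (by norm_num))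

theorem not_84 {G : Type*} [Group G] [Finite G] [IsSimpleGroup G] (h : Nat.card G = 84) : False := by
  haveI : Fact (Nat.Prime 7) := ⟨by norm_num⟩
  obtain ⟨P⟩ : Nonempty (Sylow 7 G) := inferInstance
  have hP : Nat.card P = 7 := by
    have := Cfsg.Agent.Lib.Helper1.sylow_card_of_card_eq P 1 12 (by rw [h]; norm_num) (by norm_num)
    simpa using this
  have hidx : (P : Subgroup G).index = 12 := by
    have h1 := (P : Subgroup G).card_mul_index
    rw [hP, h] at h1
    omega
  have hdvd : Nat.card (Sylow 7 G) ∣ 12 := by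
    rw [← hidx]; exact P.card_dvd_index
  have hmod : Nat.card (Sylow 7 G) ≡ 1 [MOD 7] := card_sylow_modEq_one 7 G
  have hle : Nat.card (Sylow 7 G) ≤ 12 := Nat.le_of_dvd (by norm_num) hdvd
  have h1 : Nat.card (Sylow 7 G) = 1 := by
    unfold Nat.ModEq at hmod
    interval_cases (Nat.card (Sylow 7 G)) <;> simp_all
  haveI : Subsingleton (Sylow 7 G) := (Nat.card_eq_one_iff_unique.1 h1).1
  have hn : (P : Subgroup G).Normal := Sylow.normal_of_subsingleton P
  rcases hn.eq_bot_or_eq_top with hb | ht
  · rw [hb, Subgroup.card_bot] at hP; omega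
  · rw [ht, Subgroup.card_top, h] at hP; omega


/-- A finite simple group of order at most 100 that is not cyclic has order 60. -/
theorem result {G : Type*} [Group G] [Finite G] [IsSimpleGroup G]
    (hG : ¬ IsCyclic G) (h : Nat.card G ≤ 100) : Nat.card G = 60 := by
  have hnc : ∃ x y : G, x * y ≠ y * x := by
    by_contra hcon
    push Not at hcon
    letI : CommGroup G := { ‹Group G› with mul_comm := hcon }
    exact hG inferInstance
  have hnonsolv : ¬ Group.IsSolvable G := by
    intro hs
    obtain ⟨x, y, hxy⟩ := hnc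
    exact hxy ((IsSimpleGroup.comm_iff_isSolvable.2 hs) x y)
  have hpq : ∀ p q a b : ℕ, p.Prime → q.Prime → Nat.card G ≠ p ^ a * q ^ b := by
    intro p q a b hp hq hc
    exact hnonsolv (Cfsg.Agent.S0144.result p q a b hp hq hc)
  have h73 := Cfsg.Agent.S0073.result hnc
  rcases key (Nat.card G) h Nat.card_pos hpq h73 with h60 | h84
  · exact h60
  · exact (not_84 h84).elim

end Cfsg.Agent.S0493
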