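import Cfsg.Statements.S0494
import Mathlib
import Cfsg.Agent.S0073
import Cfsg.Agent.Lib.Helper1.SimpleAct

set_option autoImplicit false
open Cfsg

namespace Cfsg.Agent.S0494


open Cfsg.Agent.Lib.Helper1


/-- A simple group of order 60 is isomorphic to the alternating group of degree 5. -/
theorem result {G : Type*} [Group G] [Finite G] [IsSimpleGroup G]
    (h : Nat.card G = 60) : Nonempty (G ≃* alternatingGroup (Fin 5)) := by
  haveI : Fact (Nat.Prime 2) := ⟨Nat.prime_two⟩
  obtain ⟨P⟩ : Nonempty (Sylow 2 G) := inferInstance
  have hidxP : (P : Subgroup G).index = 15 ∧ Nat.card (P : Subgroup G) = 4 := by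
    obtain ⟨k, hk⟩ := (IsPGroup.iff_card).1 P.2
    have hk' : Nat.card (P : Subgroup G) = 2 ^ k := hk
    have h1 := Subgroup.card_mul_index (P : Subgroup G)
    rw [h, hk'] at h1
    have h2 := P.not_dvd_index
    have hk3 : k < 6 := by
      by_contra hk6
      push Not at hk6
      have : 2 ^ 6 ≤ 2 ^ k := Nat.pow_le_pow_right (by norm_num) hk6
      have hpos : 0 < (P : Subgroup G).index := Nat.pos_of_ne_zero (fun h0 => by rw [h0] at h1; omega)
      nlinarith
    rw [hk']
    interval_cases k <;> omega
  obtain ⟨hidx15, hP4⟩ := hidxP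
  have hG : ∃ x y : G, x * y ≠ y * x := by
    by_contra hcomm
    push Not at hcomm
    have hn : (P : Subgroup G).Normal := ⟨fun n hn g => by rw [hcomm g n]; simpa using hn⟩
    rcases hn.eq_bot_or_eq_top with h0 | h1
    · rw [h0, Subgroup.card_bot] at hP4; omega
    · rw [h1, Subgroup.card_top, h] at hP4; omega
  set N := Subgroup.normalizer ((P : Subgroup G) : Set G) with hN
  have hPN : (P : Subgroup G) ≤ N := Subgroup.le_normalizer
  have hdvd : N.index ∣ 15 := by
    rw [← hidx15]; exact Subgroup.index_dvd_of_le hPN
  have hcases : N.index = 1 ∨ N.index = 3 ∨ N.index = 5 ∨ N.index = 15 := by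
    have hle : N.index ≤ 15 := Nat.le_of_dvd (by norm_num) hdvd
    have hpos : 0 < N.index := Nat.pos_of_ne_zero (fun h0 => by rw [h0] at hdvd; omega)
    generalize N.index = m at *
    interval_cases m <;> omega
  rcases hcases with h1 | h3 | h5 | h15
  · exfalso
    rw [Subgroup.index_eq_one, hN, Subgroup.normalizer_eq_top_iff] at h1
    rcases h1.eq_bot_or_eq_top with h0 | h1
    · rw [h0, Subgroup.card_bot] at hP4; omega
    · rw [h1, Subgroup.card_top, h] at hP4; omega
  · exfalso
    have hne : N ≠ ⊤ := by
      intro htop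
      rw [← Subgroup.index_eq_one] at htop
      omega
    have := card_dvd_factorial_index_of_simple N hne
    rw [h3, h] at this
    have h6 : (3 : ℕ).factorial = 6 := by decide
    rw [h6] at this
    omega
  · have hne : N ≠ ⊤ := by
      intro htop
      rw [← Subgroup.index_eq_one] at htop
      omega
    apply nonempty_mulEquiv_alternatingGroup_of_index N 5 h5 hne
    rw [h]
    decide
  · exfalso
    have hNcard : Nat.card N = 4 := by
      have := Subgroup.card_mul_index N
      rw [h15, h] at this
      omega
    have hNP : N = (P : Subgroup G) := by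
      symm
      apply Subgroup.eq_of_le_of_card_ge hPN
      rw [hNcard, hP4]
    haveI : IsMulCommutative (P : Subgroup G) :=
      IsPGroup.isMulCommutative_of_card_eq_prime_sq (p := 2) hP4
    apply Cfsg.Agent.S0073.false_of_normalizer_le_centralizer hG P (by rw [h]; norm_num)
    rw [← hN, hNP]
    exact Subgroup.le_centralizer _

end Cfsg.Agent.S0494
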