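import Cfsg.Statements.S0234
import Mathlib
import Cfsg.Agent.S0233
import Cfsg.Agent.S0493
import Cfsg.Agent.S0494
import Cfsg.Agent.Lib.Helper1.SimpleAct
import Cfsg.Agent.Lib.Helper1.Invol

set_option autoImplicit false
open Cfsg

namespace Cfsg.Agent.S0234

open Cfsg.Agent.Lib.Helper1

set_option maxRecDepth 100000 in
theorem a5inv : (Finset.univ.filter (fun σ : Equiv.Perm (Fin 5) =>
    σ * σ = 1 ∧ σ ≠ 1 ∧ Equiv.Perm.sign σ = 1)).card = 15 := by
  decide

theorem card_invol_A5 : Nat.card {s : alternatingGroup (Fin 5) // orderOf s = 2} = 15 := by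
  classical
  rw [← a5inv, ← Fintype.card_subtype, ← Nat.card_eq_fintype_card]
  apply Nat.card_congr
  refine
    { toFun := fun s => ⟨(s.1 : Equiv.Perm (Fin 5)), ?_⟩
      invFun := fun σ => ⟨⟨σ.1, Equiv.Perm.mem_alternatingGroup.2 σ.2.2.2⟩, ?_⟩
      left_inv := fun s => rfl
      right_inv := fun σ => rfl }
  · have h := s.2
    rw [← Subgroup.orderOf_coe, orderOf_eq_two_iff'] at h
    exact ⟨h.1, h.2, Equiv.Perm.mem_alternatingGroup.1 s.1.2⟩
  · rw [← Subgroup.orderOf_coe, orderOf_eq_two_iff']
    exact ⟨σ.2.1, σ.2.2.1⟩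

/-- a simple group of order `> 2` with a proper subgroup of index `b` has `2|G| ≤ b!` -/
theorem two_mul_card_le_factorial {G : Type*} [Group G] [Finite G] [IsSimpleGroup G]
    (hgt : 2 < Nat.card G) (H : Subgroup G) (hH : H ≠ ⊤) :
    2 * Nat.card G ≤ H.index.factorial := by
  classical
  haveI : Fintype (G ⧸ H) := Fintype.ofFinite _
  have hinj := toPermHom_injective_of_simple H hH
  set ρ := MulAction.toPermHom G (G ⧸ H) with hρ
  set φ : G →* ℤˣ := (Equiv.Perm.sign).comp ρ with hφ
  rcases (inferInstance : φ.ker.Normal).eq_bot_or_eq_top with hb | ht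
  · exfalso
    have hφinj : Function.Injective φ := (MonoidHom.ker_eq_bot_iff φ).1 hb
    have := Nat.card_le_card_of_injective φ hφinj
    rw [Nat.card_eq_fintype_card (α := ℤˣ), Fintype.card_units_int] at this
    omega
  · have hrange : ρ.range ≤ alternatingGroup (G ⧸ H) := by
      rintro _ ⟨x, rfl⟩
      rw [Equiv.Perm.mem_alternatingGroup]
      have : x ∈ φ.ker := by rw [ht]; trivial
      exact this
    have h1 : Nat.card G = Nat.card ρ.range :=
      Nat.card_congr (MonoidHom.ofInjective hinj).toEquiv
    have h2 : Nat.card ρ.range ≤ Nat.card (alternatingGroup (G ⧸ H)) :=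
      Subgroup.card_le_of_le hrange
    haveI : Nontrivial (G ⧸ H) := by
      rw [← Finite.one_lt_card_iff_nontrivial]
      have h3 : H.index ≠ 1 := fun h => hH (Subgroup.index_eq_one.1 h)
      have h4 : H.index ≠ 0 := Subgroup.index_ne_zero_of_finite
      have : Nat.card (G ⧸ H) = H.index := rfl
      omega
    have h3 := two_mul_nat_card_alternatingGroup (α := G ⧸ H)
    rw [Nat.card_perm] at h3
    have h4 : Nat.card (G ⧸ H) = H.index := rfl
    rw [h4] at h3
    omega


/-- In a finite simple group G of even order greater than 2, the number n of involutions satisfies 3n < |G|. -/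
theorem result {G : Type*} [Group G] [Finite G] [IsSimpleGroup G] (heven : Even (Nat.card G)) (hgt : 2 < Nat.card G) : 3 * Nat.card {t : G // orderOf t = 2} < Nat.card G := by
  classical
  by_contra hcon
  push Not at hcon
  set g := Nat.card G with hg
  set n := Nat.card {t : G // orderOf t = 2} with hn
  -- G is not cyclic
  have hnc : ¬ IsCyclic G := by
    intro hcyc
    letI : CommGroup G := IsCyclic.commGroup
    have hp := IsSimpleGroup.prime_card (α := G)
    rw [← hg] at hp
    have : g = 2 := (Nat.prime_dvd_prime_iff_eq Nat.prime_two hp).1 (even_iff_two_dvd.1 heven) |>.symm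
    omega
  have hnab : ∃ x y : G, x * y ≠ y * x := by
    by_contra hc
    push Not at hc
    letI : CommGroup G := { ‹Group G› with mul_comm := hc }
    exact hnc inferInstance
  have hZ : Subgroup.center G = ⊥ := by
    rcases (inferInstance : (Subgroup.center G).Normal).eq_bot_or_eq_top with h | h
    · exact h
    · exfalso
      obtain ⟨x, y, hxy⟩ := hnab
      have hx : x ∈ Subgroup.center G := by rw [h]; trivial
      exact hxy ((Subgroup.mem_center_iff.1 hx y).symm)
  have hZodd : Odd (Nat.card (Subgroup.center G)) := by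
    rw [hZ, Subgroup.card_bot]; exact odd_one
  obtain ⟨H, hH, hidx⟩ := Cfsg.Agent.S0233.result heven hZodd
  rw [← hg, ← hn] at hidx
  have hidx2 : H.index ≠ 2 := by
    intro h2
    haveI := Subgroup.normal_of_index_eq_two h2
    rcases (inferInstance : H.Normal).eq_bot_or_eq_top with hb | ht
    · rw [hb, Subgroup.index_bot, ← hg] at h2
      omega
    · exact hH ht
  have hlt : 2 * H.index * n ^ 2 < g * (g + n) := by
    rcases hidx with h | h
    · exact absurd h hidx2
    · exact h
  have hn0 : 0 < n := by
    rcases Nat.eq_zero_or_pos n with h0 | h0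
    · rw [h0] at hcon; omega
    · exact h0
  have hb6 : H.index < 6 := by
    have h1 : g * (g + n) ≤ 3 * n * (3 * n + n) := Nat.mul_le_mul hcon (by omega)
    have h2 : n ^ 2 * (2 * H.index) < n ^ 2 * 12 := by
      calc n ^ 2 * (2 * H.index) = 2 * H.index * n ^ 2 := by ring
        _ < g * (g + n) := hlt
        _ ≤ 3 * n * (3 * n + n) := h1
        _ = n ^ 2 * 12 := by ring
    have := Nat.lt_of_mul_lt_mul_left h2
    omega
  have h2g := two_mul_card_le_factorial hgt H hH
  rw [← hg] at h2g
  have hfac : H.index.factorial ≤ 120 := by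
    have : H.index.factorial ≤ (5 : ℕ).factorial := Nat.factorial_le (by omega)
    simpa [Nat.factorial] using this
  have hg60 : g = 60 := Cfsg.Agent.S0493.result hnc (by omega)
  obtain ⟨e⟩ := Cfsg.Agent.S0494.result hg60
  have hn15 : n = 15 := by
    rw [hn, ← card_invol_A5]
    apply Nat.card_congr
    exact
      { toFun := fun t => ⟨e t.1, by rw [MulEquiv.orderOf_eq]; exact t.2⟩
        invFun := fun s => ⟨e.symm s.1, by rw [MulEquiv.orderOf_eq]; exact s.2⟩
        left_inv := fun t => by simp
        right_inv := fun s => by simp }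
  omega

end Cfsg.Agent.S0234
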