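import Cfsg.Statements.S0235
import Mathlib
import Cfsg.Agent.Lib.Helper1.InvPairs

set_option autoImplicit false
open Cfsg

namespace Cfsg.Agent.S0235

open Cfsg.Agent.Lib.Helper1

/-- If x² ≠ 1, the ordered pairs (u, v) of involutions with uv = x correspond bijectively to the involutions t with t x t⁻¹ = x⁻¹ (via (u, v) ↦ u), so the two counts agree. -/
theorem result {G : Type*} [Group G] [Finite G] (x : G) (hx : x ^ 2 ≠ 1) : Nat.card {p : G × G // orderOf p.1 = 2 ∧ orderOf p.2 = 2 ∧ p.1 * p.2 = x} = Nat.card {t : G // orderOf t = 2 ∧ t * x * t⁻¹ = x⁻¹} := by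
  refine Nat.card_congr ((invPairsEquiv x).trans (Equiv.subtypeEquivRight ?_))
  intro t
  constructor
  · rintro ⟨ht, h⟩
    exact ⟨ht, ((orderOf_mul_eq_two_iff ht).1 h).1⟩
  · rintro ⟨ht, h⟩
    refine ⟨ht, (orderOf_mul_eq_two_iff ht).2 ⟨h, ?_⟩⟩
    intro he
    apply hx
    have h2 := sq_eq_one_of_orderOf_two ht
    rw [he] at h2
    have : (x ^ 2)⁻¹ = 1 := by
      rw [pow_two, mul_inv_rev]; exact h2
    exact inv_eq_one.1 this

end Cfsg.Agent.S0235
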