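import Cfsg.Statements.S0236
import Mathlib
import Cfsg.Agent.Lib.Helper1.InvPairs

set_option autoImplicit false
open Cfsg

namespace Cfsg.Agent.S0236

open Cfsg.Agent.Lib.Helper1

/-- If x is an involution, the number of ordered pairs (u, v) of involutions with uv = x, plus one, equals the number of involutions in the centralizer of x. -/
theorem result {G : Type*} [Group G] [Finite G] (x : G) (hx : orderOf x = 2) : Nat.card {p : G × G // orderOf p.1 = 2 ∧ orderOf p.2 = 2 ∧ p.1 * p.2 = x} + 1 = Nat.card {t : G // orderOf t = 2 ∧ Commute t x} := by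
  have hx2 : x * x = 1 := sq_eq_one_of_orderOf_two hx
  have hxi : x⁻¹ = x := inv_eq_of_mul_eq_one_left hx2
  rw [Nat.card_congr (invPairsEquiv x)]
  have h1 : Nat.card {u : G // orderOf u = 2 ∧ orderOf (u * x) = 2}
      = ({u : G | orderOf u = 2 ∧ orderOf (u * x) = 2} : Set G).ncard := Nat.card_coe_set_eq _
  have h2 : Nat.card {t : G // orderOf t = 2 ∧ Commute t x}
      = ({t : G | orderOf t = 2 ∧ Commute t x} : Set G).ncard := Nat.card_coe_set_eq _
  have hset : ({t : G | orderOf t = 2 ∧ Commute t x} : Set G)
      = insert x {u : G | orderOf u = 2 ∧ orderOf (u * x) = 2} := by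
    ext t
    simp only [Set.mem_ofPred_eq, Set.mem_insert_iff]
    constructor
    · rintro ⟨ht, hc⟩
      by_cases htx : t = x
      · left; exact htx
      · right
        refine ⟨ht, (orderOf_mul_eq_two_iff ht).2 ⟨?_, ?_⟩⟩
        · rw [hxi, hc.eq, mul_assoc, mul_inv_cancel, mul_one]
        · rw [hxi]; exact htx
    · rintro (rfl | ⟨ht, h⟩)
      · exact ⟨hx, Commute.refl _⟩
      · refine ⟨ht, ?_⟩
        have := ((orderOf_mul_eq_two_iff ht).1 h).1
        rw [hxi] at this
        show t * x = x * t
        calc t * x = (t * x * t⁻¹) * t := by group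
          _ = x * t := by rw [this]
  rw [h1, h2, hset]
  symm
  apply Set.ncard_insert_of_notMem
  · simp only [Set.mem_ofPred_eq, not_and]
    intro _
    rw [hx2, orderOf_one]
    decide
  · exact Set.toFinite _

end Cfsg.Agent.S0236
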