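import Cfsg.Statements.S0239
import Mathlib

set_option autoImplicit false
open Cfsg

namespace Cfsg.Agent.S0239

/-- in a group of odd order an element conjugate to its inverse is trivial -/
theorem eq_one_of_conj_inv_of_odd {G : Type*} [Group G] [Finite G] (hodd : Odd (Nat.card G))
    {x g : G} (h : g * x * g⁻¹ = x⁻¹) : x = 1 := by
  have hog : Odd (orderOf g) := hodd.of_dvd_nat (orderOf_dvd_natCard g)
  obtain ⟨k, hk⟩ := hog
  have h1 : g * x = x⁻¹ * g := by
    rw [← h]; group
  have h2 : g * x⁻¹ = x * g := by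
    have e : x * g = x * (g * x) * x⁻¹ := by group
    rw [e, h1]; group
  have hc2 : Commute (g ^ 2) x := by
    show g ^ 2 * x = x * g ^ 2
    rw [pow_two]
    calc g * g * x = g * (g * x) := by group
      _ = g * (x⁻¹ * g) := by rw [h1]
      _ = (g * x⁻¹) * g := by group
      _ = x * g * g := by rw [h2]
      _ = x * (g * g) := by group
  have hg : g = (g ^ 2) ^ (k + 1) := by
    rw [← pow_mul]
    have : 2 * (k + 1) = orderOf g + 1 := by omega
    rw [this, pow_succ, pow_orderOf_eq_one, one_mul]
  have hc : Commute g x := by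
    rw [hg]; exact hc2.pow_left _
  have hxx : x = x⁻¹ := by
    rw [← h, hc.eq]; group
  have hx2 : x ^ 2 = 1 := by
    rw [pow_two]
    nth_rewrite 1 [hxx]
    exact inv_mul_cancel x
  have hox : orderOf x ∣ 2 := orderOf_dvd_of_pow_eq_one hx2
  have hox' : Odd (orderOf x) := hodd.of_dvd_nat (orderOf_dvd_natCard x)
  rcases (Nat.dvd_prime Nat.prime_two).1 hox with h | h
  · exact orderOf_eq_one_iff.1 h
  · rw [h] at hox'; exact absurd hox' (by decide)


/-- If some nontrivial element x of a finite group G is conjugate to x⁻¹, then |G| is even. -/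
theorem result {G : Type*} [Group G] [Finite G] (x : G) (hx : x ≠ 1) (hreal : IsConj x x⁻¹) : Even (Nat.card G) := by
  by_contra hne
  have hodd : Odd (Nat.card G) := Nat.not_even_iff_odd.1 hne
  obtain ⟨g, hg⟩ := isConj_iff.1 hreal
  exact hx (eq_one_of_conj_inv_of_odd hodd hg)

end Cfsg.Agent.S0239
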