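import Cfsg.Statements.S0240
import Mathlib
import Cfsg.Agent.Lib.Helper1.Invol
import Cfsg.Agent.S0226

set_option autoImplicit false
open Cfsg

namespace Cfsg.Agent.S0240

open Cfsg.Agent.Lib.Helper1

/-- Let G be a finite group with n involutions and H a subgroup with |H|·(n+1) > |G|. Then some nontrivial h ∈ H is strongly real in G: an involution t of G satisfies t h t⁻¹ = h⁻¹. -/
theorem result {G : Type*} [Group G] [Finite G] (H : Subgroup G) (hH : Nat.card G < Nat.card H * (Nat.card {t : G // orderOf t = 2} + 1)) : ∃ h : G, h ∈ H ∧ h ≠ 1 ∧ ∃ t : G, orderOf t = 2 ∧ t * h * t⁻¹ = h⁻¹ := by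
  classical
  have hI : Nat.card {g : G // g⁻¹ = g} = Nat.card {t : G // orderOf t = 2} + 1 := by
    rw [← Cfsg.Agent.S0226.card_inv_fixed]
    exact Nat.card_coe_set_eq _
  have hidx : Nat.card (G ⧸ H) < Nat.card {g : G // g⁻¹ = g} := by
    rw [hI]
    have := Subgroup.card_eq_card_quotient_mul_card_subgroup H
    rw [this, mul_comm] at hH
    exact lt_of_mul_lt_mul_left hH (Nat.zero_le _)
  have hninj : ¬ Function.Injective
      (fun g : {g : G // g⁻¹ = g} => (QuotientGroup.mk g.1 : G ⧸ H)) := by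
    intro hinj
    exact absurd (Nat.card_le_card_of_injective _ hinj) (not_le.2 hidx)
  unfold Function.Injective at hninj
  push Not at hninj
  obtain ⟨⟨s, hs⟩, ⟨t, ht⟩, heq, hne⟩ := hninj
  have hne' : s ≠ t := fun h => hne (Subtype.ext h)
  have hmem : s⁻¹ * t ∈ H := QuotientGroup.eq.1 heq
  have hss : s * s = 1 := by
    nth_rewrite 1 [← hs]; exact inv_mul_cancel s
  have htt : t * t = 1 := by
    nth_rewrite 1 [← ht]; exact inv_mul_cancel t
  have hh1 : s⁻¹ * t ≠ 1 := by
    intro h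
    apply hne'
    have := eq_of_inv_mul_eq_one h
    exact this
  have hhinv : (s⁻¹ * t)⁻¹ = t * s := by
    rw [mul_inv_rev, inv_inv, ht]
  refine ⟨s⁻¹ * t, hmem, hh1, ?_⟩
  by_cases hs1 : s = 1
  · refine ⟨t, orderOf_eq_two_iff'.2 ⟨htt, fun h => hne' (hs1.trans h.symm)⟩, ?_⟩
    rw [hhinv, hs1, inv_one, one_mul, mul_one, ht, htt, one_mul]
  · refine ⟨s, orderOf_eq_two_iff'.2 ⟨hss, hs1⟩, ?_⟩
    rw [hhinv, hs]
    calc s * (s * t) * s = (s * s) * t * s := by group
      _ = t * s := by rw [hss, one_mul]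

end Cfsg.Agent.S0240
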