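import Cfsg.Statements.S0241
import Mathlib
import Cfsg.Agent.Lib.Helper1.Invol

set_option autoImplicit false
open Cfsg

namespace Cfsg.Agent.S0241

open Cfsg.Agent.Lib.Helper1

/-- If x ≠ 1 is conjugate to x⁻¹ in a finite group G and |C_G(x)| is odd, then some involution t satisfies t x t⁻¹ = x⁻¹. -/
theorem result {G : Type*} [Group G] [Finite G] (x : G) (hx : x ≠ 1) (hreal : IsConj x x⁻¹) (hodd : Odd (Nat.card (Subgroup.centralizer ({x} : Set G)))) : ∃ t : G, orderOf t = 2 ∧ t * x * t⁻¹ = x⁻¹ := by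
  obtain ⟨g, hg⟩ := isConj_iff.1 hreal
  have hg2 : Commute (g ^ 2) x := by
    show g ^ 2 * x = x * g ^ 2
    have h1 : g * x = x⁻¹ * g := by
      rw [← hg]; group
    have h2 : g * x⁻¹ = x * g := by
      have e : x * g = x * (g * x) * x⁻¹ := by group
      rw [e, h1]; group
    rw [pow_two]
    calc g * g * x = g * (g * x) := by group
      _ = g * (x⁻¹ * g) := by rw [h1]
      _ = (g * x⁻¹) * g := by group
      _ = x * g * g := by rw [h2]
      _ = x * (g * g) := by group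
  have hmem : g ^ 2 ∈ Subgroup.centralizer ({x} : Set G) :=
    Subgroup.mem_centralizer_singleton_iff.2 hg2.eq
  have hk : Odd (orderOf (g ^ 2)) := hodd.of_dvd_nat (Subgroup.orderOf_dvd_natCard _ hmem)
  obtain ⟨j, hj⟩ := hk
  set t := g ^ (orderOf (g ^ 2)) with ht
  have ht1 : t = (g ^ 2) ^ j * g := by
    rw [ht, hj, ← pow_mul, pow_succ]
  have htt : t * t = 1 := by
    rw [ht, ← pow_add, ← two_mul, pow_mul, pow_orderOf_eq_one]
  have hinv : t * x * t⁻¹ = x⁻¹ := by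
    have hc : Commute ((g ^ 2) ^ j) x⁻¹ := (hg2.pow_left j).inv_right
    rw [ht1]
    calc (g ^ 2) ^ j * g * x * ((g ^ 2) ^ j * g)⁻¹
        = (g ^ 2) ^ j * (g * x * g⁻¹) * ((g ^ 2) ^ j)⁻¹ := by group
      _ = (g ^ 2) ^ j * x⁻¹ * ((g ^ 2) ^ j)⁻¹ := by rw [hg]
      _ = x⁻¹ := by rw [hc.eq, mul_assoc, mul_inv_cancel, mul_one]
  refine ⟨t, ?_, hinv⟩
  rw [orderOf_eq_two_iff']
  refine ⟨htt, ?_⟩
  intro h1
  rw [h1, one_mul, inv_one, mul_one] at hinv
  have hxx : x * x = 1 := by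
    nth_rewrite 1 [hinv]
    exact inv_mul_cancel x
  have hox : orderOf x = 2 := orderOf_eq_two_iff'.2 ⟨hxx, hx⟩
  have hxmem : x ∈ Subgroup.centralizer ({x} : Set G) :=
    Subgroup.mem_centralizer_singleton_iff.2 rfl
  have hdvd := Subgroup.orderOf_dvd_natCard _ hxmem
  rw [hox] at hdvd
  have := hodd.of_dvd_nat hdvd
  exact absurd this (by decide)

end Cfsg.Agent.S0241
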