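import Cfsg.Statements.S0245
import Mathlib
import Cfsg.Agent.S0768
import Cfsg.Agent.Lib.Helper2.Symp
import Cfsg.Agent.Lib.Helper2.SympForm

set_option autoImplicit false
set_option linter.style.haveILetI false
set_option linter.deprecated false
open Cfsg

namespace Cfsg.Agent.S0245

open Cfsg.Agent.Lib.Helper2 Matrix

section
variable (m : ℕ) (F : Type*) [Field F]

/-- Vectors supported on `S`. -/
def US (S : Set (Fin m ⊕ Fin m)) : Submodule F (Fin m ⊕ Fin m → F) where
  carrier := {y | ∀ t, t ∉ S → y t = 0}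
  add_mem' := by
    intro a b ha hb t ht
    rw [Pi.add_apply, ha t ht, hb t ht, add_zero]
  zero_mem' := by intro t _; rfl
  smul_mem' := by
    intro c a ha t ht
    rw [Pi.smul_apply, ha t ht, smul_zero]

theorem mem_US {S : Set (Fin m ⊕ Fin m)} {y : Fin m ⊕ Fin m → F} :
    y ∈ US m F S ↔ ∀ t, t ∉ S → y t = 0 := Iff.rfl

/-- The pointwise stabilizer of `US S` in the symplectic group. -/
def StabS (S : Set (Fin m ⊕ Fin m)) : Subgroup (Matrix.symplecticGroup (Fin m) F) where
  carrier := {A | ∀ u ∈ US m F S, (A : Matrix (Fin m ⊕ Fin m) (Fin m ⊕ Fin m) F) *ᵥ u = u}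
  one_mem' := by
    intro u _
    show (1 : Matrix (Fin m ⊕ Fin m) (Fin m ⊕ Fin m) F) *ᵥ u = u
    exact Matrix.one_mulVec u
  mul_mem' := by
    intro A B hA hB u hu
    show ((A * B : Matrix.symplecticGroup (Fin m) F) :
      Matrix (Fin m ⊕ Fin m) (Fin m ⊕ Fin m) F) *ᵥ u = u
    rw [Submonoid.coe_mul, ← Matrix.mulVec_mulVec, hB u hu, hA u hu]
  inv_mem' := by
    intro A hA u hu
    have h1 : ((A⁻¹ * A : Matrix.symplecticGroup (Fin m) F) :
        Matrix (Fin m ⊕ Fin m) (Fin m ⊕ Fin m) F) *ᵥ u = u := by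
      rw [inv_mul_cancel]
      show (1 : Matrix (Fin m ⊕ Fin m) (Fin m ⊕ Fin m) F) *ᵥ u = u
      exact Matrix.one_mulVec u
    rw [Submonoid.coe_mul, ← Matrix.mulVec_mulVec, hA u hu] at h1
    exact h1

theorem mem_StabS {S : Set (Fin m ⊕ Fin m)} {A : Matrix.symplecticGroup (Fin m) F} :
    A ∈ StabS m F S ↔
      ∀ u ∈ US m F S, (A : Matrix (Fin m ⊕ Fin m) (Fin m ⊕ Fin m) F) *ᵥ u = u := Iff.rfl

/-- The natural action on vectors. -/
@[instance_reducible] def actV : MulAction (Matrix.symplecticGroup (Fin m) F) (Fin m ⊕ Fin m → F) where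
  smul A v := (A : Matrix (Fin m ⊕ Fin m) (Fin m ⊕ Fin m) F) *ᵥ v
  one_smul v := Matrix.one_mulVec v
  mul_smul A B v := by
    show ((A * B : Matrix.symplecticGroup (Fin m) F) :
      Matrix (Fin m ⊕ Fin m) (Fin m ⊕ Fin m) F) *ᵥ v = A.1 *ᵥ (B.1 *ᵥ v)
    rw [Submonoid.coe_mul, Matrix.mulVec_mulVec]

theorem single_mem_US {S : Set (Fin m ⊕ Fin m)} {s : Fin m ⊕ Fin m} (hs : s ∈ S) :
    (Pi.single s 1 : Fin m ⊕ Fin m → F) ∈ US m F S := by
  intro t ht
  have hts : t ≠ s := fun h => ht (h ▸ hs)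
  exact Pi.single_eq_of_ne hts 1

theorem US_mono {S S' : Set (Fin m ⊕ Fin m)} (h : S ⊆ S') : US m F S ≤ US m F S' := by
  intro y hy t ht
  exact hy t (fun h' => ht (h h'))

theorem J_apply_eq_form (s : Fin m ⊕ Fin m) (y : Fin m ⊕ Fin m → F) :
    (Matrix.J (Fin m) F *ᵥ y) s = Cfsg.sympForm m F (Pi.single s 1) y := by
  unfold Cfsg.sympForm
  rw [single_one_dotProduct]

theorem mem_StabS_insert {S : Set (Fin m ⊕ Fin m)} {a : Fin m ⊕ Fin m}
    {A : Matrix.symplecticGroup (Fin m) F} :
    A ∈ StabS m F (insert a S) ↔ A ∈ StabS m F S ∧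
      (A : Matrix (Fin m ⊕ Fin m) (Fin m ⊕ Fin m) F) *ᵥ (Pi.single a 1) = Pi.single a 1 := by
  constructor
  · intro h
    refine ⟨fun u hu => h u (US_mono m F (Set.subset_insert a S) hu), ?_⟩
    exact h _ (single_mem_US m F (Set.mem_insert a S))
  · rintro ⟨h1, h2⟩ u hu
    have hu' : u - u a • (Pi.single a 1 : Fin m ⊕ Fin m → F) ∈ US m F S := by
      intro t ht
      by_cases hta : t = a
      · rw [hta, Pi.sub_apply, Pi.smul_apply, Pi.single_eq_same, smul_eq_mul, mul_one, sub_self]
      · have ht' : t ∉ insert a S := by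
          intro h
          rcases Set.mem_insert_iff.1 h with h | h
          · exact hta h
          · exact ht h
        rw [Pi.sub_apply, Pi.smul_apply, Pi.single_eq_of_ne hta, smul_zero, sub_zero]
        exact hu t ht'
    have e : u = (u - u a • (Pi.single a 1 : Fin m ⊕ Fin m → F)) +
        u a • (Pi.single a 1 : Fin m ⊕ Fin m → F) := by
      rw [sub_add_cancel]
    rw [e, Matrix.mulVec_add, Matrix.mulVec_smul, h1 _ hu', h2]

theorem step [Finite F] (S : Set (Fin m ⊕ Fin m)) (a : Fin m ⊕ Fin m) (ha : a ∉ S) :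
    Nat.card (StabS m F S) = Nat.card (StabS m F (insert a S)) *
      Nat.card {y : Fin m ⊕ Fin m → F // (∃ t, t ∉ S ∧ y t ≠ 0) ∧
        ∀ s ∈ S, (Matrix.J (Fin m) F *ᵥ y) s =
          (Matrix.J (Fin m) F *ᵥ (Pi.single a 1 : Fin m ⊕ Fin m → F)) s} := by
  classical
  letI := actV m F
  have hsmul : ∀ (A : Matrix.symplecticGroup (Fin m) F) (v : Fin m ⊕ Fin m → F),
      A • v = (A : Matrix (Fin m ⊕ Fin m) (Fin m ⊕ Fin m) F) *ᵥ v := fun _ _ => rfl
  set δ : Fin m ⊕ Fin m → F := Pi.single a 1 with hδ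
  have hδa : δ a = 1 := Pi.single_eq_same a 1
  have hδS : δ ∉ US m F S := by
    intro h
    have := h a ha
    rw [hδa] at this
    exact one_ne_zero this
  have h1 := MulAction.index_stabilizer (↥(StabS m F S)) δ
  have h2 := (MulAction.stabilizer (↥(StabS m F S)) δ).card_mul_index
  have h3 : Nat.card (MulAction.stabilizer (↥(StabS m F S)) δ) =
      Nat.card (StabS m F (insert a S)) := by
    apply Nat.card_congr
    refine
      { toFun := fun X => ⟨X.1.1, (mem_StabS_insert m F).2 ⟨X.1.2, ?_⟩⟩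
        invFun := fun A => ⟨⟨A.1, ((mem_StabS_insert m F).1 A.2).1⟩, ?_⟩
        left_inv := fun X => rfl
        right_inv := fun A => rfl }
    · have := X.2
      rw [MulAction.mem_stabilizer_iff] at this
      exact this
    · rw [MulAction.mem_stabilizer_iff]
      exact ((mem_StabS_insert m F).1 A.2).2
  have h4 : MulAction.orbit (↥(StabS m F S)) δ =
      {y : Fin m ⊕ Fin m → F | (∃ t, t ∉ S ∧ y t ≠ 0) ∧
        ∀ s ∈ S, (Matrix.J (Fin m) F *ᵥ y) s = (Matrix.J (Fin m) F *ᵥ δ) s} := by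
    ext y
    constructor
    · rintro ⟨⟨A, hA⟩, rfl⟩
      have hy : (⟨A, hA⟩ : ↥(StabS m F S)) • δ =
          (A : Matrix (Fin m ⊕ Fin m) (Fin m ⊕ Fin m) F) *ᵥ δ := rfl
      show (∃ t, t ∉ S ∧ ((⟨A, hA⟩ : ↥(StabS m F S)) • δ) t ≠ 0) ∧
        ∀ s ∈ S, (Matrix.J (Fin m) F *ᵥ ((⟨A, hA⟩ : ↥(StabS m F S)) • δ)) s =
          (Matrix.J (Fin m) F *ᵥ δ) s
      rw [hy]
      constructor
      · by_contra hcon
        push Not at hcon
        have hmem : (A : Matrix (Fin m ⊕ Fin m) (Fin m ⊕ Fin m) F) *ᵥ δ ∈ US m F S :=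
          fun t ht => hcon t ht
        have hAinv : A⁻¹ ∈ StabS m F S := (StabS m F S).inv_mem hA
        have h5 := hAinv _ hmem
        rw [Matrix.mulVec_mulVec, ← Submonoid.coe_mul, inv_mul_cancel] at h5
        have h6 : δ = (A : Matrix (Fin m ⊕ Fin m) (Fin m ⊕ Fin m) F) *ᵥ δ := by
          rw [← h5]
          show δ = (1 : Matrix (Fin m ⊕ Fin m) (Fin m ⊕ Fin m) F) *ᵥ δ
          rw [Matrix.one_mulVec]
        exact hδS (h6 ▸ hmem)
      · intro s hs
        rw [J_apply_eq_form, J_apply_eq_form]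
        have h7 := hA _ (single_mem_US m F hs)
        have h8 := sympForm_mulVec_mulVec m A.1 A.2 (Pi.single s 1) δ
        rw [h7] at h8
        exact h8
    · rintro ⟨⟨t, htS, hyt⟩, hcond⟩
      have hyS : y ∉ US m F S := fun h => hyt (h t htS)
      have hU : ∀ u ∈ US m F S, Cfsg.sympForm m F u δ = Cfsg.sympForm m F u y := by
        intro u hu
        unfold Cfsg.sympForm
        unfold dotProduct
        apply Finset.sum_congr rfl
        intro s _
        by_cases hs : s ∈ S
        · rw [hcond s hs]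
        · rw [hu s hs, zero_mul, zero_mul]
      obtain ⟨A, hAδ, hAfix⟩ := Cfsg.Agent.S0768.move m (US m F S) δ y hδS hyS hU
      exact ⟨⟨A, hAfix⟩, hAδ⟩
  have h5 : (MulAction.orbit (↥(StabS m F S)) δ).ncard =
      Nat.card {y : Fin m ⊕ Fin m → F // (∃ t, t ∉ S ∧ y t ≠ 0) ∧
        ∀ s ∈ S, (Matrix.J (Fin m) F *ᵥ y) s = (Matrix.J (Fin m) F *ᵥ δ) s} := by
    rw [← Nat.card_coe_set_eq]
    exact Nat.card_congr (Equiv.setCongr h4)
  rw [← h2, h3, h1]
  exact congrArg _ h5

end


section count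
variable (m : ℕ) (F : Type*) [Field F] [Fintype F]

def idx : Fin m ⊕ Fin m → ℕ := Sum.elim (fun i => i.val) (fun i => i.val)

@[simp] theorem idx_inl (i : Fin m) : idx m (Sum.inl i) = i.val := rfl
@[simp] theorem idx_inr (i : Fin m) : idx m (Sum.inr i) = i.val := rfl

def T (j : ℕ) : Set (Fin m ⊕ Fin m) := {t | idx m t < j}

theorem mem_T {j : ℕ} {t : Fin m ⊕ Fin m} : t ∈ T m j ↔ idx m t < j := Iff.rfl

theorem prod_ite_lt (q j : ℕ) (hj : j ≤ m) :
    ∏ i : Fin m, (if i.val < j then 1 else q) = q ^ (m - j) := by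
  rw [Fin.prod_univ_eq_prod_range (fun i => if i < j then 1 else q) m]
  obtain ⟨k, rfl⟩ := Nat.exists_eq_add_of_le hj
  rw [Finset.prod_range_add]
  have h1 : ∏ x ∈ Finset.range j, (if x < j then 1 else q) = 1 := by
    apply Finset.prod_eq_one
    intro x hx
    rw [if_pos (Finset.mem_range.1 hx)]
  have h2 : ∏ x ∈ Finset.range k, (if j + x < j then 1 else q) = q ^ k := by
    rw [Finset.prod_congr rfl (fun x _ => if_neg (by omega)), Finset.prod_const, Finset.card_range]
  rw [h1, h2, one_mul, Nat.add_sub_cancel_left]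

theorem count_even (j : ℕ) (hj : j < m) :
    Nat.card {y : Fin m ⊕ Fin m → F // (∃ t, t ∉ T m j ∧ y t ≠ 0) ∧
        ∀ s ∈ T m j, (Matrix.J (Fin m) F *ᵥ y) s =
          (Matrix.J (Fin m) F *ᵥ (Pi.single (Sum.inl ⟨j, hj⟩) 1 : Fin m ⊕ Fin m → F)) s} =
      (Fintype.card F) ^ (2 * (m - j)) - 1 := by
  classical
  set sE : Fin m ⊕ Fin m → Finset F := fun t => if idx m t < j then {0} else Finset.univ with hsE
  have hmemE : ∀ (y : Fin m ⊕ Fin m → F), (∀ t, y t ∈ sE t) ↔ ∀ t, idx m t < j → y t = 0 := by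
    intro y
    constructor
    · intro h t ht
      have := h t
      rw [hsE] at this
      simp only [if_pos ht, Finset.mem_singleton] at this
      exact this
    · intro h t
      rw [hsE]
      by_cases ht : idx m t < j
      · simp only [if_pos ht, Finset.mem_singleton]; exact h t ht
      · simp only [if_neg ht, Finset.mem_univ]
  have hiff : ∀ y : Fin m ⊕ Fin m → F,
      ((∃ t, t ∉ T m j ∧ y t ≠ 0) ∧
        ∀ s ∈ T m j, (Matrix.J (Fin m) F *ᵥ y) s =
          (Matrix.J (Fin m) F *ᵥ (Pi.single (Sum.inl ⟨j, hj⟩) 1 : Fin m ⊕ Fin m → F)) s) ↔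
      y ∈ (Fintype.piFinset sE).erase 0 := by
    intro y
    rw [Finset.mem_erase, Fintype.mem_piFinset, hmemE]
    constructor
    · rintro ⟨⟨t, -, hyt⟩, hcond⟩
      refine ⟨fun h => hyt (by rw [h]; rfl), ?_⟩
      intro t ht
      rcases t with i | i
      · have h1 := hcond (Sum.inr i) (by show idx m (Sum.inr i) < j; exact ht)
        rw [J_mulVec_inr, J_mulVec_inr, Pi.single_eq_of_ne] at h1
        · exact h1
        · intro h
          have h2 := Sum.inl.inj h
          rw [h2] at ht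
          exact absurd ht (lt_irrefl _)
      · have h1 := hcond (Sum.inl i) (by show idx m (Sum.inl i) < j; exact ht)
        rw [J_mulVec_inl, J_mulVec_inl, Pi.single_eq_of_ne (by simp), neg_zero, neg_eq_zero] at h1
        exact h1
    · rintro ⟨hy0, hy⟩
      constructor
      · obtain ⟨t, ht⟩ := Function.ne_iff.1 hy0
        refine ⟨t, fun h => ht ?_, ht⟩
        rw [hy t h]; rfl
      · intro s hs
        rcases s with i | i
        · rw [J_mulVec_inl, J_mulVec_inl, Pi.single_eq_of_ne (by simp), hy (Sum.inr i) hs]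
        · rw [J_mulVec_inr, J_mulVec_inr, hy (Sum.inl i) hs, Pi.single_eq_of_ne]
          intro h
          have h2 := Sum.inl.inj h
          have hs' : idx m (Sum.inr i) < j := hs
          rw [idx_inr, h2] at hs'
          exact absurd hs' (lt_irrefl _)
  rw [Nat.card_congr (Equiv.subtypeEquivRight hiff), Nat.card_eq_fintype_card, Fintype.card_coe,
    Finset.card_erase_of_mem, Fintype.card_piFinset]
  · congr 1
    rw [Fintype.prod_sum_type]
    have h1 : ∀ i : Fin m, (sE (Sum.inl i)).card = if i.val < j then 1 else Fintype.card F := by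
      intro i
      rw [hsE]
      by_cases h : i.val < j
      · simp [h]
      · simp [h]
    have h2 : ∀ i : Fin m, (sE (Sum.inr i)).card = if i.val < j then 1 else Fintype.card F := by
      intro i
      rw [hsE]
      by_cases h : i.val < j
      · simp [h]
      · simp [h]
    rw [Finset.prod_congr rfl (fun i _ => h1 i), Finset.prod_congr rfl (fun i _ => h2 i),
      prod_ite_lt m _ j hj.le, ← pow_add, two_mul]
  · rw [Fintype.mem_piFinset, hmemE]
    intro t _; rfl

theorem count_odd (j : ℕ) (hj : j < m) :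
    Nat.card {y : Fin m ⊕ Fin m → F //
        (∃ t, t ∉ insert (Sum.inl ⟨j, hj⟩) (T m j) ∧ y t ≠ 0) ∧
        ∀ s ∈ insert (Sum.inl ⟨j, hj⟩) (T m j), (Matrix.J (Fin m) F *ᵥ y) s =
          (Matrix.J (Fin m) F *ᵥ (Pi.single (Sum.inr ⟨j, hj⟩) 1 : Fin m ⊕ Fin m → F)) s} =
      (Fintype.card F) ^ (2 * (m - j) - 1) := by
  classical
  set sO : Fin m ⊕ Fin m → Finset F := fun t =>
    if idx m t < j then {0} else if t = Sum.inr ⟨j, hj⟩ then {1} else Finset.univ with hsO
  have hmemO : ∀ (y : Fin m ⊕ Fin m → F), (∀ t, y t ∈ sO t) ↔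
      (∀ t, idx m t < j → y t = 0) ∧ y (Sum.inr ⟨j, hj⟩) = 1 := by
    intro y
    constructor
    · intro h
      constructor
      · intro t ht
        have := h t
        rw [hsO] at this
        simp only [if_pos ht, Finset.mem_singleton] at this
        exact this
      · have := h (Sum.inr ⟨j, hj⟩)
        rw [hsO] at this
        have hn : ¬ idx m (Sum.inr (⟨j, hj⟩ : Fin m)) < j := by simp
        simp only [if_neg hn, if_true, Finset.mem_singleton] at this
        exact this
    · rintro ⟨h1, h2⟩ t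
      rw [hsO]
      by_cases ht : idx m t < j
      · simp only [if_pos ht, Finset.mem_singleton]; exact h1 t ht
      · by_cases ht2 : t = Sum.inr ⟨j, hj⟩
        · simp only [if_neg ht, if_pos ht2, Finset.mem_singleton]; rw [ht2]; exact h2
        · simp only [if_neg ht, if_neg ht2, Finset.mem_univ]
  have hiff : ∀ y : Fin m ⊕ Fin m → F,
      ((∃ t, t ∉ insert (Sum.inl ⟨j, hj⟩) (T m j) ∧ y t ≠ 0) ∧
        ∀ s ∈ insert (Sum.inl ⟨j, hj⟩) (T m j), (Matrix.J (Fin m) F *ᵥ y) s =
          (Matrix.J (Fin m) F *ᵥ (Pi.single (Sum.inr ⟨j, hj⟩) 1 : Fin m ⊕ Fin m → F)) s) ↔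
      y ∈ Fintype.piFinset sO := by
    intro y
    rw [Fintype.mem_piFinset, hmemO]
    constructor
    · rintro ⟨-, hcond⟩
      constructor
      · intro t ht
        rcases t with i | i
        · have h1 := hcond (Sum.inr i) (Set.mem_insert_of_mem _ ht)
          rw [J_mulVec_inr, J_mulVec_inr, Pi.single_eq_of_ne (by simp)] at h1
          exact h1
        · have h1 := hcond (Sum.inl i) (Set.mem_insert_of_mem _ ht)
          rw [J_mulVec_inl, J_mulVec_inl, Pi.single_eq_of_ne, neg_zero, neg_eq_zero] at h1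
          · exact h1
          · intro h
            have h2 := Sum.inr.inj h
            have ht' : idx m (Sum.inr i) < j := ht
            rw [idx_inr, h2] at ht'
            exact absurd ht' (lt_irrefl _)
      · have h1 := hcond (Sum.inl ⟨j, hj⟩) (Set.mem_insert _ _)
        rw [J_mulVec_inl, J_mulVec_inl, Pi.single_eq_same, neg_inj] at h1
        exact h1
    · rintro ⟨hy0, hy1⟩
      constructor
      · refine ⟨Sum.inr ⟨j, hj⟩, ?_, by rw [hy1]; exact one_ne_zero⟩
        intro h
        rcases Set.mem_insert_iff.1 h with h | h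
        · exact absurd h (by simp)
        · have h' : idx m (Sum.inr (⟨j, hj⟩ : Fin m)) < j := h
          simp at h'
      · intro s hs
        rcases Set.mem_insert_iff.1 hs with hs | hs
        · rw [hs, J_mulVec_inl, J_mulVec_inl, Pi.single_eq_same, hy1]
        · rcases s with i | i
          · rw [J_mulVec_inl, J_mulVec_inl, hy0 (Sum.inr i) hs, Pi.single_eq_of_ne]
            intro h
            have h2 := Sum.inr.inj h
            have hs' : idx m (Sum.inl i) < j := hs
            rw [idx_inl, h2] at hs'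
            exact absurd hs' (lt_irrefl _)
          · rw [J_mulVec_inr, J_mulVec_inr, hy0 (Sum.inl i) hs, Pi.single_eq_of_ne (by simp)]
  rw [Nat.card_congr (Equiv.subtypeEquivRight hiff), Nat.card_eq_fintype_card, Fintype.card_coe,
    Fintype.card_piFinset, Fintype.prod_sum_type]
  have h1 : ∀ i : Fin m, (sO (Sum.inl i)).card = if i.val < j then 1 else Fintype.card F := by
    intro i
    rw [hsO]
    by_cases h : i.val < j
    · simp [h]
    · simp [h]
  have h2 : ∀ i : Fin m, (sO (Sum.inr i)).card = if i.val < j + 1 then 1 else Fintype.card F := by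
    intro i
    rw [hsO]
    by_cases h : i.val < j
    · have h' : i.val < j + 1 := by omega
      simp [h, h']
    · by_cases h3 : i = ⟨j, hj⟩
      · have h' : i.val < j + 1 := by rw [h3]; simp
        simp [h, h', h3]
      · have h' : ¬ i.val < j + 1 := by
          intro h4
          apply h3
          apply Fin.ext
          show i.val = j
          omega
        simp [h, h', h3]
  rw [Finset.prod_congr rfl (fun i _ => h1 i), Finset.prod_congr rfl (fun i _ => h2 i),
    prod_ite_lt m _ j hj.le, prod_ite_lt m _ (j + 1) hj, ← pow_add]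
  congr 1
  omega

theorem T_succ (j : ℕ) (hj : j < m) :
    insert (Sum.inr (⟨j, hj⟩ : Fin m)) (insert (Sum.inl (⟨j, hj⟩ : Fin m)) (T m j)) = T m (j + 1) := by
  ext t
  rw [Set.mem_insert_iff, Set.mem_insert_iff, mem_T, mem_T]
  rcases t with i | i
  · simp only [idx_inl, Sum.inl.injEq, reduceCtorEq, false_or, Fin.ext_iff]
    omega
  · simp only [idx_inr, Sum.inr.injEq, reduceCtorEq, false_or, Fin.ext_iff]
    omega

theorem StabS_univ : StabS m F (T m m) = ⊥ := by
  classical
  rw [eq_bot_iff]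
  intro A hA
  rw [Subgroup.mem_bot]
  apply Subtype.ext
  show (A : Matrix (Fin m ⊕ Fin m) (Fin m ⊕ Fin m) F) = 1
  ext i k
  have hk : k ∈ T m m := by
    rcases k with k | k
    · exact k.2
    · exact k.2
  have hu : (Pi.single k 1 : Fin m ⊕ Fin m → F) ∈ US m F (T m m) := single_mem_US m F hk
  have h1 := congrFun (hA _ hu) i
  rw [Matrix.mulVec_single_one] at h1
  rw [Matrix.one_apply]
  rw [Pi.single_apply] at h1
  exact h1

theorem card_StabS_T (j : ℕ) (hj : j ≤ m) :
    Nat.card (StabS m F (T m (m - j))) = (Fintype.card F) ^ (j ^ 2) *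
      ∏ i ∈ Finset.range j, ((Fintype.card F) ^ (2 * (i + 1)) - 1) := by
  induction j with
  | zero =>
    rw [Nat.sub_zero, StabS_univ, Subgroup.card_bot]
    simp
  | succ j ih =>
    have hj' : j ≤ m := by omega
    have ih' := ih hj'
    have hkm : m - (j + 1) < m := by omega
    have hk1 : m - j = (m - (j + 1)) + 1 := by omega
    rw [hk1] at ih'
    have hn1 : (Sum.inl (⟨m - (j + 1), hkm⟩ : Fin m)) ∉ T m (m - (j + 1)) := by
      intro h
      have h' : idx m (Sum.inl (⟨m - (j + 1), hkm⟩ : Fin m)) < m - (j + 1) := h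
      simp at h'
    have hn2 : (Sum.inr (⟨m - (j + 1), hkm⟩ : Fin m)) ∉
        insert (Sum.inl (⟨m - (j + 1), hkm⟩ : Fin m)) (T m (m - (j + 1))) := by
      intro h
      rcases Set.mem_insert_iff.1 h with h | h
      · exact absurd h (by simp)
      · have h' : idx m (Sum.inr (⟨m - (j + 1), hkm⟩ : Fin m)) < m - (j + 1) := h
        simp at h'
    have s1 := step m F (T m (m - (j + 1))) (Sum.inl ⟨m - (j + 1), hkm⟩) hn1
    have s2 := step m F (insert (Sum.inl ⟨m - (j + 1), hkm⟩) (T m (m - (j + 1))))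
      (Sum.inr ⟨m - (j + 1), hkm⟩) hn2
    rw [T_succ m _ hkm] at s2
    rw [count_even m F _ hkm] at s1
    rw [count_odd m F _ hkm] at s2
    have hmk : m - (m - (j + 1)) = j + 1 := by omega
    rw [hmk] at s1 s2
    rw [s1, s2, ih', Finset.prod_range_succ]
    have e1 : 2 * (j + 1) - 1 = 2 * j + 1 := by omega
    have e2 : (j + 1) ^ 2 = j ^ 2 + (2 * j + 1) := by ring
    rw [e1, e2, pow_add]
    ring

end count

/-- Order of the finite symplectic group: |Sp_{2m}(q)| = q^(m^2) * prod_{i=1}^{m} (q^(2i) - 1). -/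
theorem result {F : Type*} [Field F] [Fintype F] {q : ℕ} (hF : Fintype.card F = q) (m : ℕ) : Nat.card (Matrix.symplecticGroup (Fin m) F) = q ^ (m ^ 2) * ∏ i ∈ Finset.range m, (q ^ (2 * (i + 1)) - 1) := by
  classical
  have h := card_StabS_T m F m le_rfl
  rw [Nat.sub_self] at h
  have h0 : StabS m F (T m 0) = ⊤ := by
    rw [eq_top_iff]
    intro A _ u hu
    have hu0 : u = 0 := by
      ext t
      exact hu t (by intro h; exact absurd (show idx m t < 0 from h) (Nat.not_lt_zero _))
    rw [hu0, Matrix.mulVec_zero]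
  rw [h0, Subgroup.card_top] at h
  rw [h, hF]

end Cfsg.Agent.S0245
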