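import Cfsg.Statements.S0246
import Mathlib
import Cfsg.Agent.Lib.Helper1.SympTrans

set_option autoImplicit false
open Cfsg

namespace Cfsg.Agent.S0246

open Matrix Cfsg.Agent.Lib.Helper1 Cfsg.Agent.Lib.Helper2

/-- a central element of the symplectic group is `1` or `-1` -/
theorem central_eq {F : Type*} [Field F] (m : ℕ) (hm : 1 ≤ m)
    (z : Matrix.symplecticGroup (Fin m) F) (hz : z ∈ Subgroup.center (Matrix.symplecticGroup (Fin m) F)) :
    (z : Matrix (Fin m ⊕ Fin m) (Fin m ⊕ Fin m) F) = 1 ∨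
      (z : Matrix (Fin m ⊕ Fin m) (Fin m ⊕ Fin m) F) = -1 := by
  classical
  set Z : Matrix (Fin m ⊕ Fin m) (Fin m ⊕ Fin m) F := z.1 with hZ
  -- commuting with transvections
  have h1 : ∀ w x : Fin m ⊕ Fin m → F,
      Cfsg.sympForm m F x w • (Z *ᵥ w) = Cfsg.sympForm m F (Z *ᵥ x) w • w := by
    intro w x
    have hc := Subgroup.mem_center_iff.1 hz
      ⟨Cfsg.sympTransvection m w 1, Cfsg.Agent.S0764.result m w 1⟩
    have hc' : Cfsg.sympTransvection m w 1 * Z = Z * Cfsg.sympTransvection m w 1 :=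
      congrArg Subtype.val hc
    have h2 := congrArg (fun M : Matrix (Fin m ⊕ Fin m) (Fin m ⊕ Fin m) F => M *ᵥ x) hc'
    simp only [← Matrix.mulVec_mulVec, sympTransvection_mulVec, one_mul, Matrix.mulVec_add,
      Matrix.mulVec_smul] at h2
    exact (add_left_cancel h2).symm
  have heig : ∀ w : Fin m ⊕ Fin m → F, ∃ μ : F, Z *ᵥ w = μ • w := by
    intro w
    by_cases hw : w = 0
    · exact ⟨1, by rw [hw, Matrix.mulVec_zero, smul_zero]⟩
    · obtain ⟨x, hx⟩ := exists_sympForm_ne_zero m w hw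
      have hx' := sympForm_ne_zero_swap m hx
      refine ⟨(Cfsg.sympForm m F x w)⁻¹ * Cfsg.sympForm m F (Z *ᵥ x) w, ?_⟩
      have := h1 w x
      rw [mul_smul, ← this, smul_smul, inv_mul_cancel₀ hx', one_smul]
  -- scalar
  let i0 : Fin m ⊕ Fin m := Sum.inl ⟨0, by omega⟩
  obtain ⟨μ0, hμ0⟩ := heig (Pi.single i0 1)
  have hcol : ∀ i : Fin m ⊕ Fin m, Z *ᵥ Pi.single i 1 = μ0 • Pi.single i 1 := by
    intro i
    by_cases hi : i = i0
    · rw [hi]; exact hμ0
    · obtain ⟨μi, hμi⟩ := heig (Pi.single i 1)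
      obtain ⟨ν, hν⟩ := heig (Pi.single i 1 + Pi.single i0 1)
      rw [Matrix.mulVec_add, hμi, hμ0, smul_add] at hν
      have e1 := congrFun hν i
      have e2 := congrFun hν i0
      simp only [Pi.add_apply, Pi.smul_apply, Pi.single_eq_same, smul_eq_mul, mul_one,
        Pi.single_eq_of_ne hi, Pi.single_eq_of_ne (Ne.symm hi), mul_zero, add_zero, zero_add]
        at e1 e2
      rw [hμi, e1, ← e2]
  have hZ' : Z = μ0 • (1 : Matrix (Fin m ⊕ Fin m) (Fin m ⊕ Fin m) F) := by
    ext k i
    have := congrFun (hcol i) k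
    rw [Matrix.mulVec_single_one] at this
    simp only [Matrix.col_apply, Pi.smul_apply, smul_eq_mul] at this
    rw [Matrix.smul_apply, Matrix.one_apply, smul_eq_mul]
    rw [show Z k i = Zᵀ i k from rfl] at *
    rw [this, Pi.single_apply]
  -- μ0 ^ 2 = 1
  obtain ⟨y, hy⟩ := exists_sympForm_ne_zero m (Pi.single i0 (1 : F)) (by
    intro h
    have := congrFun h i0
    simp at this)
  have hpres := sympForm_mulVec_mulVec m Z z.2 (Pi.single i0 1) y
  rw [hZ', Matrix.smul_mulVec, Matrix.smul_mulVec, Matrix.one_mulVec, Matrix.one_mulVec,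
    sympForm_smul_left, sympForm_smul_right] at hpres
  have hμ2 : μ0 * μ0 = 1 := by
    have : (μ0 * μ0 - 1) * Cfsg.sympForm m F (Pi.single i0 1) y = 0 := by
      linear_combination hpres
    rcases mul_eq_zero.1 this with h | h
    · exact sub_eq_zero.1 h
    · exact absurd h hy
  rcases mul_self_eq_one_iff.1 hμ2 with h | h
  · left; rw [hZ', h, one_smul]
  · right; rw [hZ', h, neg_smul, one_smul]


/-- The centre of Sp_{2m}(q), m at least 1, is {1, -1}: it has order gcd(2, q-1). -/
theorem result {F : Type*} [Field F] [Fintype F] {q : ℕ} (hF : Fintype.card F = q) (m : ℕ) (hm : 1 ≤ m) : Nat.card (Subgroup.center (Matrix.symplecticGroup (Fin m) F)) = Nat.gcd 2 (q - 1) := by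
  classical
  -- the element -1
  have hneg : (-1 : Matrix (Fin m ⊕ Fin m) (Fin m ⊕ Fin m) F) ∈ Matrix.symplecticGroup (Fin m) F :=
    SymplecticGroup.neg_mem (one_mem _)
  have hnegc : (⟨-1, hneg⟩ : Matrix.symplecticGroup (Fin m) F) ∈
      Subgroup.center (Matrix.symplecticGroup (Fin m) F) := by
    rw [Subgroup.mem_center_iff]
    intro g
    apply Subtype.ext
    show (g : Matrix (Fin m ⊕ Fin m) (Fin m ⊕ Fin m) F) * (-1) = (-1) * (g : Matrix (Fin m ⊕ Fin m) (Fin m ⊕ Fin m) F)
    rw [mul_neg, mul_one, neg_mul, one_mul]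
  have hall : ∀ z : Subgroup.center (Matrix.symplecticGroup (Fin m) F),
      z = 1 ∨ z = ⟨⟨-1, hneg⟩, hnegc⟩ := by
    intro z
    rcases central_eq m hm z.1 z.2 with h | h
    · left
      apply Subtype.ext
      apply Subtype.ext
      exact h
    · right
      apply Subtype.ext
      apply Subtype.ext
      exact h
  have hq2 : 2 ≤ q := by rw [← hF]; exact Fintype.one_lt_card
  by_cases h2 : ringChar F = 2
  · -- characteristic 2: centre trivial
    have heven := FiniteField.even_card_of_char_two h2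
    rw [hF] at heven
    have hgcd : Nat.gcd 2 (q - 1) = 1 := by
      have h3 : Nat.gcd 2 (q - 1) ∣ 2 := Nat.gcd_dvd_left _ _
      rcases (Nat.dvd_prime Nat.prime_two).1 h3 with h | h
      · exact h
      · exfalso
        have h4 : Nat.gcd 2 (q - 1) ∣ q - 1 := Nat.gcd_dvd_right _ _
        rw [h] at h4
        omega
    rw [hgcd, Nat.card_eq_one_iff_unique]
    haveI : CharP F 2 := by rw [← h2]; exact ringChar.charP F
    have h11 : (-1 : F) = 1 := CharTwo.neg_eq 1
    refine ⟨⟨fun a b => ?_⟩, ⟨1⟩⟩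
    have key : ∀ z : Subgroup.center (Matrix.symplecticGroup (Fin m) F), z = 1 := by
      intro z
      rcases hall z with h | h
      · exact h
      · rw [h]
        apply Subtype.ext
        apply Subtype.ext
        show (-1 : Matrix (Fin m ⊕ Fin m) (Fin m ⊕ Fin m) F) = 1
        ext i j
        rw [Matrix.neg_apply, Matrix.one_apply]
        split_ifs
        · exact h11
        · simp
    rw [key a, key b]
  · have hodd := FiniteField.odd_card_of_char_ne_two h2
    rw [hF] at hodd
    have hgcd : Nat.gcd 2 (q - 1) = 2 := by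
      have h3 : 2 ∣ Nat.gcd 2 (q - 1) := Nat.dvd_gcd dvd_rfl (by omega)
      exact Nat.dvd_antisymm (Nat.gcd_dvd_left _ _) h3
    rw [hgcd, Nat.card_eq_two_iff]
    refine ⟨1, ⟨⟨-1, hneg⟩, hnegc⟩, ?_, ?_⟩
    · intro h
      have h3 := congrArg (fun z : Subgroup.center (Matrix.symplecticGroup (Fin m) F) =>
        ((z : Matrix.symplecticGroup (Fin m) F) : Matrix (Fin m ⊕ Fin m) (Fin m ⊕ Fin m) F)
          (Sum.inl ⟨0, by omega⟩) (Sum.inl ⟨0, by omega⟩)) h
      simp only [Subgroup.coe_one, Matrix.neg_apply] at h3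
      have h4 : (1 : F) = -1 := by simpa using h3
      apply h2
      have h5 : (2 : F) = 0 := by linear_combination h4
      have h6 := (CharP.cast_eq_zero_iff F (ringChar F) 2).1 (by exact_mod_cast h5)
      rcases (Nat.dvd_prime Nat.prime_two).1 h6 with h7 | h7
      · exact absurd h7 (CharP.ringChar_ne_one)
      · exact h7
    · apply Set.eq_univ_of_forall
      intro z
      rcases hall z with h | h
      · left; exact h
      · right; rw [Set.mem_singleton_iff]; exact h

end Cfsg.Agent.S0246
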