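import Mathlib
import Cfsg.Statements.S0826
import Cfsg.Agent.Lib.Helper5.SpEmbed

set_option autoImplicit false
open Cfsg

namespace Cfsg.Agent.S0826

section
variable (n : ℕ)

def Lmap (l : Fin (2 * n)) : (Fin (2 * n) → ZMod 2) →ₗ[ZMod 2] (ZMod 2 × ZMod 2) :=
  LinearMap.prod (∑ i, LinearMap.proj i) (LinearMap.proj l)

theorem Lmap_apply (l : Fin (2 * n)) (v : Fin (2 * n) → ZMod 2) :
    Lmap n l v = (∑ i, v i, v l) := by
  simp [Lmap, LinearMap.sum_apply]

def Wsub (l : Fin (2 * n)) : Submodule (ZMod 2) (Fin (2 * n) → ZMod 2) := LinearMap.ker (Lmap n l)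

theorem mem_Wsub {l : Fin (2 * n)} {v : Fin (2 * n) → ZMod 2} :
    v ∈ Wsub n l ↔ ∑ i, v i = 0 ∧ v l = 0 := by
  rw [Wsub, LinearMap.mem_ker, Lmap_apply, Prod.mk_eq_zero]

theorem two_n_zero : ((2 * n : ℕ) : ZMod 2) = 0 := by
  rw [Nat.cast_mul]
  have : ((2 : ℕ) : ZMod 2) = 0 := by decide
  rw [this, zero_mul]

def rhoFun (l : Fin (2 * n)) (σ : Equiv.Perm (Fin (2 * n))) (w : Fin (2 * n) → ZMod 2) :
    Fin (2 * n) → ZMod 2 := fun i => w (σ.symm i) + w (σ.symm l)

theorem rhoFun_mem (l : Fin (2 * n)) (σ : Equiv.Perm (Fin (2 * n))) {w : Fin (2 * n) → ZMod 2}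
    (hw : w ∈ Wsub n l) : rhoFun n l σ w ∈ Wsub n l := by
  rw [mem_Wsub] at hw ⊢
  constructor
  · unfold rhoFun
    rw [Finset.sum_add_distrib, Equiv.sum_comp σ.symm w, hw.1, Finset.sum_const, Finset.card_univ,
      Fintype.card_fin, nsmul_eq_mul, two_n_zero, zero_mul, add_zero]
  · unfold rhoFun
    exact CharTwo.add_self_eq_zero _

def rhoLin (l : Fin (2 * n)) (σ : Equiv.Perm (Fin (2 * n))) :
    Wsub n l →ₗ[ZMod 2] Wsub n l where
  toFun w := ⟨rhoFun n l σ w.1, rhoFun_mem n l σ w.2⟩
  map_add' := by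
    intro x y
    apply Subtype.ext
    funext i
    simp only [rhoFun, Submodule.coe_add, Pi.add_apply]
    ring
  map_smul' := by
    intro c x
    apply Subtype.ext
    funext i
    simp only [rhoFun, Submodule.coe_smul, Pi.smul_apply, smul_eq_mul, RingHom.id_apply]
    ring

theorem rhoLin_apply (l : Fin (2 * n)) (σ : Equiv.Perm (Fin (2 * n))) (w : Wsub n l)
    (i : Fin (2 * n)) : (rhoLin n l σ w : Fin (2 * n) → ZMod 2) i
      = w.1 (σ.symm i) + w.1 (σ.symm l) := rfl

def rhoHom (l : Fin (2 * n)) : Equiv.Perm (Fin (2 * n)) →* Module.End (ZMod 2) (Wsub n l) where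
  toFun σ := rhoLin n l σ
  map_one' := by
    apply LinearMap.ext
    intro w
    apply Subtype.ext
    funext i
    have h := (mem_Wsub n).1 w.2
    rw [rhoLin_apply]
    simp only [Equiv.Perm.one_symm, Equiv.Perm.coe_one, id_eq]
    rw [h.2, add_zero]
    rfl
  map_mul' := by
    intro σ τ
    apply LinearMap.ext
    intro w
    apply Subtype.ext
    funext i
    rw [Module.End.mul_apply, rhoLin_apply, rhoLin_apply, rhoLin_apply, rhoLin_apply]
    have e1 : ∀ j, (σ * τ).symm j = τ.symm (σ.symm j) := fun j => rfl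
    rw [e1, e1]
    have h := CharTwo.add_self_eq_zero (w.1 (τ.symm l))
    linear_combination -h

end

section
variable (n : ℕ)

def rhoEquiv (l : Fin (2 * n)) : Equiv.Perm (Fin (2 * n)) →* (Wsub n l ≃ₗ[ZMod 2] Wsub n l) :=
  (LinearMap.GeneralLinearGroup.generalLinearEquiv (ZMod 2) (Wsub n l)).toMonoidHom.comp
    (MonoidHom.toHomUnits (rhoHom n l))

theorem rhoEquiv_apply (l : Fin (2 * n)) (σ : Equiv.Perm (Fin (2 * n))) (w : Wsub n l)
    (i : Fin (2 * n)) : (rhoEquiv n l σ w : Fin (2 * n) → ZMod 2) i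
      = w.1 (σ.symm i) + w.1 (σ.symm l) := rfl

def Bform (l : Fin (2 * n)) : LinearMap.BilinForm (ZMod 2) (Wsub n l) :=
  (Matrix.toBilin' (1 : Matrix (Fin (2 * n)) (Fin (2 * n)) (ZMod 2))).restrict (Wsub n l)

theorem Bform_apply (l : Fin (2 * n)) (u v : Wsub n l) :
    Bform n l u v = ∑ i, u.1 i * v.1 i := by
  unfold Bform
  rw [LinearMap.BilinForm.restrict_apply, LinearMap.domRestrict_apply, Matrix.toBilin'_apply',
    Matrix.one_mulVec]
  rfl

theorem zmod2_sq (a : ZMod 2) : a * a = a := by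
  revert a; decide

theorem Bform_alt (l : Fin (2 * n)) : (Bform n l).IsAlt := by
  intro u
  rw [Bform_apply]
  have h := (mem_Wsub n).1 u.2
  rw [← h.1]
  apply Finset.sum_congr rfl
  intro i _
  exact zmod2_sq _

theorem Bform_pres (l : Fin (2 * n)) (σ : Equiv.Perm (Fin (2 * n))) (u v : Wsub n l) :
    Bform n l (rhoEquiv n l σ u) (rhoEquiv n l σ v) = Bform n l u v := by
  rw [Bform_apply, Bform_apply]
  simp only [rhoEquiv_apply]
  have hu := (mem_Wsub n).1 u.2
  have hv := (mem_Wsub n).1 v.2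
  have e : ∀ i, (u.1 (σ.symm i) + u.1 (σ.symm l)) * (v.1 (σ.symm i) + v.1 (σ.symm l))
      = u.1 (σ.symm i) * v.1 (σ.symm i) + u.1 (σ.symm i) * v.1 (σ.symm l)
        + u.1 (σ.symm l) * v.1 (σ.symm i) + u.1 (σ.symm l) * v.1 (σ.symm l) := by
    intro i; ring
  simp only [e]
  rw [Finset.sum_add_distrib, Finset.sum_add_distrib, Finset.sum_add_distrib,
    ← Finset.sum_mul, ← Finset.mul_sum, Equiv.sum_comp σ.symm (fun i => u.1 i),
    Equiv.sum_comp σ.symm (fun i => v.1 i), Equiv.sum_comp σ.symm (fun i => u.1 i * v.1 i),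
    hu.1, hv.1, Finset.sum_const, Finset.card_univ, Fintype.card_fin, nsmul_eq_mul, two_n_zero]
  ring

end

section
variable (n : ℕ)

def pairVec (i k : Fin (2 * n)) : Fin (2 * n) → ZMod 2 := fun t =>
  (if t = i then 1 else 0) + (if t = k then 1 else 0)

theorem pairVec_mem {l i k : Fin (2 * n)} (hi : i ≠ l) (hk : k ≠ l) :
    pairVec n i k ∈ Wsub n l := by
  rw [mem_Wsub]
  constructor
  · unfold pairVec
    rw [Finset.sum_add_distrib, Finset.sum_ite_eq', Finset.sum_ite_eq']
    simp only [Finset.mem_univ, if_true]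
    decide
  · unfold pairVec
    rw [if_neg (Ne.symm hi), if_neg (Ne.symm hk), add_zero]

theorem sum_mul_pairVec (u : Fin (2 * n) → ZMod 2) (i k : Fin (2 * n)) :
    ∑ t, u t * pairVec n i k t = u i + u k := by
  unfold pairVec
  simp only [mul_add, mul_ite, mul_one, mul_zero]
  rw [Finset.sum_add_distrib, Finset.sum_ite_eq', Finset.sum_ite_eq']
  simp

theorem odd_cast (hn : 1 ≤ n) : ((2 * n - 1 : ℕ) : ZMod 2) = 1 := by
  have h : 2 * n - 1 = 2 * (n - 1) + 1 := by omega
  rw [h, Nat.cast_add, two_n_zero, zero_add, Nat.cast_one]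

theorem Bform_sep (hn : 3 ≤ n) (l : Fin (2 * n)) (u : Wsub n l)
    (hu : ∀ v, Bform n l u v = 0) : u = 0 := by
  classical
  have hul := (mem_Wsub n).1 u.2
  have heq : ∀ i k, i ≠ l → k ≠ l → u.1 i = u.1 k := by
    intro i k hi hk
    have h := hu ⟨pairVec n i k, pairVec_mem n hi hk⟩
    rw [Bform_apply, sum_mul_pairVec] at h
    exact CharTwo.add_eq_zero.1 h
  -- a point different from l
  obtain ⟨i0, hi0⟩ : ∃ i0 : Fin (2 * n), i0 ≠ l := by
    by_cases h : l = ⟨0, by omega⟩
    · refine ⟨⟨1, by omega⟩, ?_⟩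
      rw [h]
      intro h'
      have := congrArg Fin.val h'
      simp at this
    · exact ⟨⟨0, by omega⟩, fun h' => h h'.symm⟩
  have hsum : ∑ t, u.1 t = u.1 i0 := by
    rw [← Finset.add_sum_erase Finset.univ u.1 (Finset.mem_univ l), hul.2, zero_add]
    have h1 : ∀ t ∈ Finset.univ.erase l, u.1 t = u.1 i0 := by
      intro t ht
      exact heq t i0 (Finset.ne_of_mem_erase ht) hi0
    rw [Finset.sum_congr rfl h1, Finset.sum_const, Finset.card_erase_of_mem (Finset.mem_univ l),
      Finset.card_univ, Fintype.card_fin, nsmul_eq_mul, odd_cast n (by omega), one_mul]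
  have hc : u.1 i0 = 0 := by rw [← hsum]; exact hul.1
  apply Subtype.ext
  funext t
  by_cases ht : t = l
  · rw [ht]; exact hul.2
  · rw [heq t i0 ht hi0, hc]; rfl

theorem Bform_nondeg (hn : 3 ≤ n) (l : Fin (2 * n)) : (Bform n l).Nondegenerate := by
  constructor
  · intro u hu
    exact Bform_sep n hn l u hu
  · intro u hu
    apply Bform_sep n hn l u
    intro v
    rw [Bform_apply]
    have h := hu v
    rw [Bform_apply] at h
    rw [← h]
    apply Finset.sum_congr rfl
    intro i _
    ring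

theorem finrank_Wsub (hn : 3 ≤ n) (l : Fin (2 * n)) :
    Module.finrank (ZMod 2) (Wsub n l) = 2 * (n - 1) := by
  classical
  have hsurj : Function.Surjective (Lmap n l) := by
    obtain ⟨j, hj⟩ : ∃ j : Fin (2 * n), j ≠ l := by
      by_cases h : l = ⟨0, by omega⟩
      · refine ⟨⟨1, by omega⟩, ?_⟩
        rw [h]
        intro h'
        have := congrArg Fin.val h'
        simp at this
      · exact ⟨⟨0, by omega⟩, fun h' => h h'.symm⟩
    rintro ⟨a, b⟩
    refine ⟨Pi.single l b + Pi.single j (a + b), ?_⟩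
    rw [Lmap_apply]
    apply Prod.ext
    · simp only [Pi.add_apply]
      rw [Finset.sum_add_distrib, Finset.sum_pi_single', Finset.sum_pi_single']
      simp only [Finset.mem_univ, if_true]
      have h := CharTwo.add_self_eq_zero b
      linear_combination h
    · simp [Pi.single_apply, hj.symm]
  have h1 := LinearMap.finrank_range_add_finrank_ker (Lmap n l)
  rw [LinearMap.range_eq_top.2 hsurj, finrank_top, Module.finrank_prod, Module.finrank_self,
    Module.finrank_fintype_fun_eq_card, Fintype.card_fin] at h1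
  have h2 : Module.finrank (ZMod 2) (Wsub n l) = Module.finrank (ZMod 2) (LinearMap.ker (Lmap n l)) :=
    rfl
  omega

end

section
variable (n : ℕ)

theorem rho_faithful (hn : 3 ≤ n) (l : Fin (2 * n)) : Function.Injective (rhoEquiv n l) := by
  classical
  rw [injective_iff_map_eq_one]
  intro σ hσ
  -- key identity
  have key : ∀ w : Wsub n l, ∀ t, w.1 (σ.symm t) + w.1 (σ.symm l) = w.1 t := by
    intro w t
    have h := congrArg (fun g : Wsub n l ≃ₗ[ZMod 2] Wsub n l => ((g w : Wsub n l) :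
      Fin (2 * n) → ZMod 2) t) hσ
    exact h
  have hcard : ∀ S : Finset (Fin (2 * n)), S.card ≤ 4 → ∃ t, t ∉ S := by
    intro S hS
    by_contra hne
    have hall : ∀ t, t ∈ S := fun t => by
      by_contra h
      exact hne ⟨t, h⟩
    have h := Finset.eq_univ_iff_forall.2 hall
    rw [h, Finset.card_univ, Fintype.card_fin] at hS
    omega
  have hstep : ∀ i k, i ≠ l → k ≠ l → i ≠ k → σ.symm i = i ∨ σ.symm i = k := by
    intro i k hi hk hik
    have hw := key ⟨pairVec n i k, pairVec_mem n hi hk⟩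
    simp only at hw
    obtain ⟨t, ht⟩ := hcard {i, k, σ i, σ k} Finset.card_le_four
    simp only [Finset.mem_insert, Finset.mem_singleton, not_or] at ht
    obtain ⟨ht1, ht2, ht3, ht4⟩ := ht
    have h1 := hw t
    have e1 : pairVec n i k t = 0 := by
      unfold pairVec
      rw [if_neg ht1, if_neg ht2, add_zero]
    have e2 : pairVec n i k (σ.symm t) = 0 := by
      unfold pairVec
      have a1 : σ.symm t ≠ i := by
        intro h; apply ht3; rw [← h]; simp
      have a2 : σ.symm t ≠ k := by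
        intro h; apply ht4; rw [← h]; simp
      rw [if_neg a1, if_neg a2, add_zero]
    rw [e1, e2, zero_add] at h1
    have h2 := hw i
    rw [h1, add_zero] at h2
    have e3 : pairVec n i k i = 1 := by
      unfold pairVec
      rw [if_pos rfl, if_neg hik, add_zero]
    rw [e3] at h2
    by_contra hcon
    rw [not_or] at hcon
    unfold pairVec at h2
    rw [if_neg hcon.1, if_neg hcon.2, add_zero] at h2
    exact zero_ne_one h2
  have hfix : ∀ i, i ≠ l → σ.symm i = i := by
    intro i hi
    obtain ⟨k, hk⟩ := hcard {i, l} (le_trans Finset.card_le_two (by omega))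
    simp only [Finset.mem_insert, Finset.mem_singleton, not_or] at hk
    obtain ⟨k', hk'⟩ := hcard {i, l, k} (le_trans Finset.card_le_three (by omega))
    simp only [Finset.mem_insert, Finset.mem_singleton, not_or] at hk'
    rcases hstep i k hi hk.2 (Ne.symm hk.1) with h | h
    · exact h
    · rcases hstep i k' hi hk'.2.1 (Ne.symm hk'.1) with h' | h'
      · exact h'
      · exfalso
        exact hk'.2.2 (h'.symm.trans h)
  have hall : ∀ i, σ.symm i = i := by
    intro i
    by_cases hi : i = l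
    · subst hi
      by_contra hcon
      have h1 := hfix (σ.symm i) hcon
      exact hcon (σ.symm.injective h1)
    · exact hfix i hi
  apply Equiv.ext
  intro i
  have h := hall (σ i)
  rw [Equiv.symm_apply_apply] at h
  exact h.symm

end

theorem result (n : ℕ) (hn : 3 ≤ n) : ∃ f : Equiv.Perm (Fin (2 * n)) →* Matrix.symplecticGroup (Fin (n - 1)) (ZMod 2), Function.Injective f := by
  have h0 : 0 < 2 * n := by omega
  let l : Fin (2 * n) := ⟨0, h0⟩
  haveI : FiniteDimensional (ZMod 2) (Wsub n l) := inferInstance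
  exact Cfsg.Agent.Lib.Helper5.exists_embedding_symplectic (Bform n l) (Bform_nondeg n hn l)
    (Bform_alt n l) (finrank_Wsub n hn l) (rhoEquiv n l) (rho_faithful n hn l)
    (fun σ u v => Bform_pres n l σ u v)

end Cfsg.Agent.S0826
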