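import Mathlib
import Cfsg.Statements.S0247
import Cfsg.Agent.S0826
import Cfsg.Agent.S0245

set_option autoImplicit false
open Cfsg

namespace Cfsg.Agent.S0247

theorem map_mem_symp {R S : Type*} [CommRing R] [CommRing S] (e : R →+* S) (N : ℕ)
    (A : Matrix (Fin N ⊕ Fin N) (Fin N ⊕ Fin N) R) (hA : A ∈ Matrix.symplecticGroup (Fin N) R) :
    A.map e ∈ Matrix.symplecticGroup (Fin N) S := by
  rw [SymplecticGroup.mem_iff] at hA ⊢
  have h := congrArg (fun M : Matrix (Fin N ⊕ Fin N) (Fin N ⊕ Fin N) R => M.map e) hA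
  simp only [Matrix.map_mul] at h
  rw [Matrix.transpose_map, Matrix.map_J] at h
  exact h

noncomputable def muHom {R S : Type*} [CommRing R] [CommRing S] (e : R →+* S) (N : ℕ) :
    Matrix.symplecticGroup (Fin N) R →* Matrix.symplecticGroup (Fin N) S :=
  MonoidHom.mk' (fun A => ⟨A.1.map e, map_mem_symp e N A.1 A.2⟩) (by
    intro A B
    apply Subtype.ext
    show (A.1 * B.1).map e = A.1.map e * B.1.map e
    rw [Matrix.map_mul])

theorem muHom_inj {R S : Type*} [CommRing R] [CommRing S] (e : R →+* S)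
    (he : Function.Injective e) (N : ℕ) : Function.Injective (muHom e N) := by
  intro A B hAB
  apply Subtype.ext
  have h := congrArg Subtype.val hAB
  exact Matrix.map_injective he h

theorem s826 : ∃ f : Equiv.Perm (Fin 6) →* Matrix.symplecticGroup (Fin 2) (ZMod 2),
    Function.Injective f := Cfsg.Agent.S0826.result 3 (le_refl 3)

theorem card_sp {F : Type*} [Field F] [Fintype F] (hF : Fintype.card F = 2) :
    Nat.card (Matrix.symplecticGroup (Fin 2) F) = 720 := by
  rw [Cfsg.Agent.S0245.result hF 2]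
  norm_num [Finset.prod_range_succ]

theorem card_s6 : Nat.card (Equiv.Perm (Fin 6)) = 720 := by
  rw [Nat.card_eq_fintype_card, Fintype.card_perm, Fintype.card_fin]
  norm_num [Nat.factorial]

theorem result {F : Type*} [Field F] [Fintype F] (hF : Fintype.card F = 2) : Nonempty (Matrix.symplecticGroup (Fin 2) F ≃* Equiv.Perm (Fin 6)) := by
  classical
  obtain ⟨f, hf⟩ := s826
  haveI : Fact (Nat.Prime 2) := ⟨Nat.prime_two⟩
  let e : ZMod 2 ≃+* F := ZMod.ringEquivOfPrime F Nat.prime_two hF
  let g : Equiv.Perm (Fin 6) →* Matrix.symplecticGroup (Fin 2) F :=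
    (muHom (e : ZMod 2 →+* F) 2).comp f
  have hg : Function.Injective g := (muHom_inj (e : ZMod 2 →+* F) e.injective 2).comp hf
  have hcard := card_sp hF
  haveI : Finite (Matrix.symplecticGroup (Fin 2) F) :=
    Nat.finite_of_card_ne_zero (by rw [hcard]; norm_num)
  have hbij : Function.Bijective g := by
    rw [Nat.bijective_iff_injective_and_card]
    exact ⟨hg, by rw [hcard, card_s6]⟩
  exact ⟨(MulEquiv.ofBijective g hbij).symm⟩

end Cfsg.Agent.S0247
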