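import Cfsg.Statements.S0250
import Mathlib
import Cfsg.Agent.Lib.Helper1.PSL2Small

set_option autoImplicit false
open Cfsg

namespace Cfsg.Agent.S0250


open Matrix Projectivization Cfsg.Agent.Lib.Helper1
open scoped LinearAlgebra.Projectivization


/-- SL_2(2) is isomorphic to S_3. -/
theorem result {F : Type*} [Field F] [Fintype F] (hF : Fintype.card F = 2) : Nonempty (Matrix.SpecialLinearGroup (Fin 2) F ≃* Equiv.Perm (Fin 3)) := by
  have hP : Nat.card (ℙ F (Fin 2 → F)) = 3 := by rw [card_proj_two, hF]
  have hSL : Nat.card (SpecialLinearGroup (Fin 2) F) = 6 := by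
    have := card_SL2 F
    rw [hF] at this
    norm_num at this
    exact this
  have hZ : Nat.card (Subgroup.center (SpecialLinearGroup (Fin 2) F)) = 1 := by
    rw [card_center_SL_field 2 (by norm_num), hF]
    decide
  haveI : Finite (ℙ F (Fin 2 → F)) := Nat.finite_of_card_ne_zero (by rw [hP]; norm_num)
  set φ := MulAction.toPermHom (SpecialLinearGroup (Fin 2) F) (ℙ F (Fin 2 → F)) with hφ
  have hker : φ.ker = ⊥ := by
    rw [hφ, Projectivization.SL_mulAction_ker]
    exact Subgroup.card_eq_one.1 hZ
  have hinj : Function.Injective φ := (MonoidHom.ker_eq_bot_iff φ).1 hker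
  have hbij : Function.Bijective φ := by
    apply hinj.bijective_of_nat_card_le
    rw [Nat.card_perm, hP, hSL]
    decide
  let e : ℙ F (Fin 2 → F) ≃ Fin 3 := Finite.equivFinOfCardEq hP
  exact ⟨(MulEquiv.ofBijective φ hbij).trans e.permCongrHom⟩

end Cfsg.Agent.S0250
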