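import Cfsg.Statements.S0251
import Mathlib
import Cfsg.Agent.Lib.Helper1.PSL2Small

set_option autoImplicit false
open Cfsg

namespace Cfsg.Agent.S0251


open Matrix Projectivization Cfsg.Agent.Lib.Helper1
open scoped LinearAlgebra.Projectivization


/-- PSL_2(3) is isomorphic to A_4. -/
theorem result {F : Type*} [Field F] [Fintype F] (hF : Fintype.card F = 3) : Nonempty (Matrix.ProjectiveSpecialLinearGroup (Fin 2) F ≃* alternatingGroup (Fin 4)) := by
  classical
  have hP : Nat.card (ℙ F (Fin 2 → F)) = 4 := by rw [card_proj_two, hF]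
  have hPSL : Nat.card (ProjectiveSpecialLinearGroup (Fin 2) F) = 12 := by
    have := card_PSL2 F
    rw [hF] at this
    have h2 : Nat.gcd 2 (3 - 1) = 2 := by decide
    rw [h2] at this
    omega
  haveI : Finite (ℙ F (Fin 2 → F)) := Nat.finite_of_card_ne_zero (by rw [hP]; norm_num)
  letI : Fintype (ℙ F (Fin 2 → F)) := Fintype.ofFinite _
  set ψ := PSLAction.toPermHom (K := F) (ι := Fin 2) with hψ
  have hinj : Function.Injective ψ := Matrix.ProjectiveSpecialLinearGroup.toPermHom_injective
  have hrange : Nat.card ψ.range = 12 := by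
    rw [← hPSL]
    exact (Nat.card_congr (MonoidHom.ofInjective hinj).toEquiv).symm
  have hidx : ψ.range.index = 2 := by
    have h1 := Subgroup.card_mul_index ψ.range
    rw [hrange, Nat.card_perm, hP] at h1
    have : (4 : ℕ).factorial = 24 := by decide
    rw [this] at h1
    omega
  have halt := Equiv.Perm.eq_alternatingGroup_of_index_eq_two hidx
  let e : ℙ F (Fin 2 → F) ≃ Fin 4 := Finite.equivFinOfCardEq hP
  exact ⟨((MonoidHom.ofInjective hinj).trans (MulEquiv.subgroupCongr halt)).trans
    (Equiv.altCongrHom e)⟩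

end Cfsg.Agent.S0251
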