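import Cfsg.Statements.S0809
import Mathlib
import Cfsg.Agent.S0268
import Cfsg.Agent.S2388
import Cfsg.Agent.Lib.Helper1.ClassSize
import Cfsg.Agent.Lib.Helper1.SLCard

set_option autoImplicit false
open Cfsg

namespace Cfsg.Agent.S0809


open Matrix Polynomial

section

variable {F : Type*} [Field F]

local notation "SL2" => Matrix.SpecialLinearGroup (Fin 2) F
local notation "M2" => Matrix (Fin 2) (Fin 2) F

theorem ext2 {A B : M2} (h00 : A 0 0 = B 0 0) (h01 : A 0 1 = B 0 1) (h10 : A 1 0 = B 1 0)
    (h11 : A 1 1 = B 1 1) : A = B := by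
  ext i j
  fin_cases i <;> fin_cases j
  · exact h00
  · exact h01
  · exact h10
  · exact h11

def negOne (F : Type*) [Field F] : Matrix.SpecialLinearGroup (Fin 2) F :=
  ⟨-1, by rw [Matrix.det_neg, Matrix.det_one]; simp⟩

theorem coe_negOne : ((negOne F : SL2) : M2) = -1 := rfl

theorem negOne_mul_self : negOne F * negOne F = 1 := by
  apply Subtype.ext
  rw [Matrix.SpecialLinearGroup.coe_mul, coe_negOne, neg_mul_neg, one_mul]
  rfl

theorem negOne_ne_one (h2 : (2 : F) ≠ 0) : negOne F ≠ 1 := by
  intro h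
  have h1 := congrArg (fun A : SL2 => (A : M2) 0 0) h
  simp only [coe_negOne, Matrix.SpecialLinearGroup.coe_one, Matrix.neg_apply,
    Matrix.one_apply_eq] at h1
  apply h2
  linear_combination (-1 : F) * h1

theorem negOne_comm (g : SL2) : negOne F * g = g * negOne F := by
  apply Subtype.ext
  rw [Matrix.SpecialLinearGroup.coe_mul, Matrix.SpecialLinearGroup.coe_mul, coe_negOne, neg_mul,
    one_mul, mul_neg, mul_one]

def IsJ (x : SL2) : Prop := x * x = negOne F

theorem det_entries (x : SL2) :
    (x : M2) 0 0 * (x : M2) 1 1 - (x : M2) 0 1 * (x : M2) 1 0 = 1 := by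
  have := x.2
  rwa [Matrix.det_fin_two] at this

theorem mul_entries (x y : SL2) (i j : Fin 2) :
    ((x * y : SL2) : M2) i j = (x : M2) i 0 * (y : M2) 0 j + (x : M2) i 1 * (y : M2) 1 j := by
  rw [Matrix.SpecialLinearGroup.coe_mul, Matrix.mul_apply, Fin.sum_univ_two]

theorem isJ_iff (x : SL2) : IsJ x ↔ ((x : M2) 1 1 = - (x : M2) 0 0 ∧
    (x : M2) 0 0 * (x : M2) 0 0 + (x : M2) 0 1 * (x : M2) 1 0 = -1) := by
  have hdet := det_entries x
  constructor
  · intro h
    have hm : ((x * x : SL2) : M2) = -1 := by rw [show x * x = negOne F from h]; rfl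
    have h00 : ((x * x : SL2) : M2) 0 0 = -1 := by rw [hm]; simp
    have h01 : ((x * x : SL2) : M2) 0 1 = 0 := by rw [hm]; simp
    have h10 : ((x * x : SL2) : M2) 1 0 = 0 := by rw [hm]; simp
    have h11 : ((x * x : SL2) : M2) 1 1 = -1 := by rw [hm]; simp
    rw [mul_entries] at h00 h01 h10 h11
    have hs1 : ((x : M2) 0 0 + (x : M2) 1 1) * (x : M2) 0 0 = 0 := by
      linear_combination h00 + hdet
    have hs2 : ((x : M2) 0 0 + (x : M2) 1 1) * (x : M2) 1 1 = 0 := by
      linear_combination h11 + hdet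
    have hs3 : ((x : M2) 0 0 + (x : M2) 1 1) * (x : M2) 0 1 = 0 := by
      linear_combination h01
    have hs4 : ((x : M2) 0 0 + (x : M2) 1 1) * (x : M2) 1 0 = 0 := by
      linear_combination h10
    by_cases ht : (x : M2) 0 0 + (x : M2) 1 1 = 0
    · exact ⟨by linear_combination ht, h00⟩
    · exfalso
      have ha := (mul_eq_zero.1 hs1).resolve_left ht
      have hd := (mul_eq_zero.1 hs2).resolve_left ht
      rw [ha, hd] at ht
      exact ht (add_zero 0)
  · rintro ⟨h11, h00⟩
    apply Subtype.ext
    rw [coe_negOne]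
    apply ext2
    · rw [mul_entries, Matrix.neg_apply, Matrix.one_apply_eq]; exact h00
    · rw [mul_entries, Matrix.neg_apply, Matrix.one_apply_ne (by decide), h11]; ring
    · rw [mul_entries, Matrix.neg_apply, Matrix.one_apply_ne (by decide), h11]; ring
    · rw [mul_entries, Matrix.neg_apply, Matrix.one_apply_eq, h11]; linear_combination h00

theorem isJ_conj {x : SL2} (hx : IsJ x) (g : SL2) : IsJ (g * x * g⁻¹) := by
  unfold IsJ at *
  have h1 : g * x * g⁻¹ * (g * x * g⁻¹) = g * (x * x) * g⁻¹ := by group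
  rw [h1, hx, ← negOne_comm, mul_inv_cancel_right]

theorem isJ_inv {x : SL2} (hx : IsJ x) : IsJ x⁻¹ := by
  unfold IsJ at *
  rw [← _root_.mul_inv_rev, hx]
  exact inv_eq_of_mul_eq_one_left negOne_mul_self

theorem J_order (h2 : (2 : F) ≠ 0) {x : SL2} (hx : IsJ x) : orderOf x = 4 := by
  have hz1 : negOne F ≠ 1 := negOne_ne_one h2
  have h1 : ¬ x ^ 2 ^ 1 = 1 := by
    rw [pow_one, pow_two, show x * x = negOne F from hx]; exact hz1
  have e4 : x ^ 4 = (x * x) * (x * x) := by rw [show (4 : ℕ) = 2 + 2 from rfl, pow_add, pow_two]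
  have h3 : x ^ 2 ^ (1 + 1) = 1 := by
    show x ^ 4 = 1
    rw [e4, show x * x = negOne F from hx, negOne_mul_self]
  have := orderOf_eq_prime_pow h1 h3
  simpa using this

theorem J_charpoly {x : SL2} (hx : IsJ x) :
    (x : M2).charpoly = X ^ 2 - C (0 : F) * X + C 1 := by
  obtain ⟨h11, -⟩ := (isJ_iff x).1 hx
  rw [Matrix.charpoly_fin_two, Matrix.trace_fin_two, h11, add_neg_cancel,
    Matrix.SpecialLinearGroup.det_coe]

theorem J_conj [Fintype F] (hF : Odd (Fintype.card F)) {x y : SL2} (hx : IsJ x) (hy : IsJ y) :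
    IsConj x y := by
  have h2 := Cfsg.Agent.S0268.two_ne_zero_of_odd_card hF
  obtain ⟨p, hpc⟩ := CharP.exists F
  haveI := hpc
  haveI : Fact p.Prime := ⟨CharP.char_is_prime F p⟩
  have hp2 : p ≠ 2 := by
    rintro rfl
    apply h2
    have := CharP.cast_eq_zero F 2
    exact_mod_cast this
  have hcop : Nat.Coprime 4 p := by
    have h : Nat.Coprime 2 p := (Nat.coprime_primes Nat.prime_two (Fact.out)).2 (Ne.symm hp2)
    exact (Nat.Coprime.pow_left 2 h : Nat.Coprime (2 ^ 2) p)
  apply Cfsg.Agent.S2388.result p 2 x y (by rw [J_order h2 hx]; exact hcop)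
    (by rw [J_order h2 hy]; exact hcop)
  rw [J_charpoly hx, J_charpoly hy]

theorem J_in_zpowers [Fintype F] (hF : Odd (Fintype.card F)) {x y : SL2} (hx : IsJ x) (hy : IsJ y)
    (hyx : y ∈ Subgroup.zpowers x) : y = x ∨ y = x⁻¹ := by
  obtain ⟨k, rfl⟩ := Subgroup.mem_zpowers_iff.1 hyx
  have hc : Commute (x ^ k) x := (Commute.refl x).zpow_left k
  have hc' : Commute (x ^ k) x⁻¹ := hc.inv_right
  have hw : (x ^ k * x⁻¹) * (x ^ k * x⁻¹) = 1 := by
    have h1 : (x ^ k * x⁻¹) * (x ^ k * x⁻¹) = (x ^ k * x ^ k) * (x⁻¹ * x⁻¹) := by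
      rw [mul_assoc, ← mul_assoc x⁻¹, ← hc'.eq, mul_assoc, ← mul_assoc]
    rw [h1, show x ^ k * x ^ k = negOne F from hy, show x⁻¹ * x⁻¹ = negOne F from isJ_inv hx,
      negOne_mul_self]
  by_cases h1 : x ^ k * x⁻¹ = 1
  · left
    exact mul_inv_eq_one.1 h1
  · right
    have h3 : x ^ k * x⁻¹ = negOne F := by
      apply Subtype.ext
      rw [coe_negOne]
      exact Cfsg.Agent.S0268.result hF _ h1 hw
    have h4 : x ^ k = negOne F * x := by rw [← h3, inv_mul_cancel_right]
    rw [h4]
    apply eq_inv_of_mul_eq_one_left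
    rw [mul_assoc, show x * x = negOne F from hx, negOne_mul_self]

theorem exists_J_gen [Fintype F] (hF : Odd (Fintype.card F)) (A : Subgroup SL2)
    (hA : Nat.card A = 4) : ∃ x, IsJ x ∧ A = Subgroup.zpowers x := by
  classical
  have h2 := Cfsg.Agent.S0268.two_ne_zero_of_odd_card hF
  by_contra hcon
  push Not at hcon
  have hall : ∀ a ∈ A, a * a = 1 := by
    intro a ha
    by_contra hne
    have h4 : a ^ 4 = 1 := by
      have h := pow_card_eq_one' (G := A) (x := ⟨a, ha⟩)
      rw [hA] at h
      have h' := congrArg Subtype.val h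
      simpa using h'
    have e4 : a ^ 4 = (a * a) * (a * a) := by rw [show (4 : ℕ) = 2 + 2 from rfl, pow_add, pow_two]
    have hsq : (a * a) * (a * a) = 1 := by rw [← e4, h4]
    have hJ : IsJ a := by
      apply Subtype.ext
      rw [coe_negOne]
      exact Cfsg.Agent.S0268.result hF (a * a) hne hsq
    apply hcon a hJ
    symm
    apply Subgroup.eq_of_le_of_card_ge (Subgroup.zpowers_le.2 ha)
    rw [hA, Nat.card_zpowers, J_order h2 hJ]
  have hle : Nat.card A ≤ 2 := by
    let f : A → Fin 2 := fun a => if a = 1 then 0 else 1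
    have hf : Function.Injective f := by
      intro a b hab
      by_cases ha : a = 1
      · by_cases hb : b = 1
        · exact ha.trans hb.symm
        · exfalso
          simp [f, ha, hb] at hab
      · by_cases hb : b = 1
        · exfalso
          simp [f, ha, hb] at hab
        · have ha' : (a : SL2) ≠ 1 := fun h => ha (Subtype.ext h)
          have hb' : (b : SL2) ≠ 1 := fun h => hb (Subtype.ext h)
          apply Subtype.ext
          apply Subtype.ext
          rw [Cfsg.Agent.S0268.result hF a ha' (hall a a.2),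
            Cfsg.Agent.S0268.result hF b hb' (hall b b.2)]
    have h := Nat.card_le_card_of_injective f hf
    simpa using h
  omega

theorem card_T [Fintype F] [DecidableEq F] :
    (Finset.univ.filter (fun t : F × F × F => t.1 * t.1 + t.2.1 * t.2.2 = -1)).card =
      Fintype.card F * (Fintype.card F - 1) +
        Fintype.card F * (Finset.univ.filter (fun a : F => a * a = -1)).card := by
  rw [Finset.card_filter, Fintype.sum_prod_type]
  have key : ∀ a : F, (∑ y : F × F,
      if (a, y).1 * (a, y).1 + (a, y).2.1 * (a, y).2.2 = -1 then 1 else 0) =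
      (Fintype.card F - 1) + (if a * a = -1 then Fintype.card F else 0) := by
    intro a
    rw [Fintype.sum_prod_type]
    dsimp only
    rw [← Finset.add_sum_erase Finset.univ _ (Finset.mem_univ (0 : F))]
    have h0 : (∑ c : F, if a * a + 0 * c = -1 then 1 else 0) =
        if a * a = -1 then Fintype.card F else 0 := by
      simp only [zero_mul, add_zero]
      split_ifs with h
      · simp
      · simp
    have h1 : ∀ b ∈ (Finset.univ : Finset F).erase 0,
        (∑ c : F, if a * a + b * c = -1 then 1 else 0) = 1 := by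
      intro b hb
      have hb0 : b ≠ 0 := Finset.ne_of_mem_erase hb
      have hbc : b * ((-1 - a * a) / b) = -1 - a * a := by field_simp
      rw [Finset.sum_eq_single ((-1 - a * a) / b)]
      · rw [if_pos]
        rw [hbc]; ring
      · intro c _ hc
        rw [if_neg]
        intro h
        apply hc
        rw [eq_div_iff hb0]
        linear_combination h
      · intro h
        exact absurd (Finset.mem_univ _) h
    rw [h0, Finset.sum_congr rfl h1, Finset.sum_const, Finset.card_erase_of_mem (Finset.mem_univ _),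
      Finset.card_univ, smul_eq_mul, mul_one, add_comm]
  rw [Finset.sum_congr rfl (fun a _ => key a)]
  rw [Finset.sum_add_distrib, Finset.sum_const, Finset.card_univ, smul_eq_mul, Finset.sum_ite,
    Finset.sum_const, Finset.sum_const_zero, add_zero, smul_eq_mul,
    mul_comm (Finset.card _) (Fintype.card F)]

theorem card_sqrt_neg_one [Fintype F] [DecidableEq F] (h2 : (2 : F) ≠ 0) :
    (Fintype.card F % 4 ≠ 3 → (Finset.univ.filter (fun a : F => a * a = -1)).card = 2) ∧
    (Fintype.card F % 4 = 3 → (Finset.univ.filter (fun a : F => a * a = -1)).card = 0) := by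
  constructor
  · intro h
    obtain ⟨i, hi⟩ := FiniteField.isSquare_neg_one_iff.2 h
    have hne : i ≠ -i := by
      intro hii
      have h3 : (2 : F) * i = 0 := by linear_combination hii
      rcases mul_eq_zero.1 h3 with h4 | h4
      · exact h2 h4
      · rw [h4] at hi
        simp at hi
    rw [← Finset.card_pair hne]
    congr 1
    ext a
    simp only [Finset.mem_filter, Finset.mem_univ, true_and, Finset.mem_insert,
      Finset.mem_singleton]
    constructor
    · intro ha
      have h5 : (a - i) * (a + i) = 0 := by linear_combination ha + hi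
      rcases mul_eq_zero.1 h5 with h6 | h6
      · left; linear_combination h6
      · right; linear_combination h6
    · rintro (rfl | rfl)
      · exact hi.symm
      · rw [neg_mul_neg]; exact hi.symm
  · intro h
    rw [Finset.card_eq_zero, Finset.filter_eq_empty_iff]
    intro a _ ha
    exact FiniteField.isSquare_neg_one_iff.1 ⟨a, ha.symm⟩ h

def mkJ (a b c : F) (h : a * a + b * c = -1) : SL2 :=
  ⟨!![a, b; c, -a], by rw [Matrix.det_fin_two_of]; linear_combination (-1 : F) * h⟩

theorem coe_mkJ (a b c : F) (h : a * a + b * c = -1) : (mkJ a b c h : M2) = !![a, b; c, -a] := rfl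

theorem isJ_mkJ (a b c : F) (h : a * a + b * c = -1) : IsJ (mkJ a b c h) := by
  rw [isJ_iff, coe_mkJ]
  exact ⟨by simp, by simpa using h⟩

theorem card_J [Fintype F] [DecidableEq F] :
    Nat.card {x : SL2 // IsJ x} = Fintype.card F * (Fintype.card F - 1) +
        Fintype.card F * (Finset.univ.filter (fun a : F => a * a = -1)).card := by
  rw [← card_T, ← Fintype.card_subtype, ← Nat.card_eq_fintype_card]
  apply Nat.card_congr
  refine ⟨fun x => ⟨((x.1 : M2) 0 0, (x.1 : M2) 0 1, (x.1 : M2) 1 0), ((isJ_iff x.1).1 x.2).2⟩,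
    fun t => ⟨mkJ t.1.1 t.1.2.1 t.1.2.2 t.2, isJ_mkJ _ _ _ _⟩, ?_, ?_⟩
  · intro x
    apply Subtype.ext
    apply Subtype.ext
    rw [coe_mkJ]
    apply ext2
    · simp
    · simp
    · simp
    · simp only [Matrix.of_apply, Matrix.cons_val', Matrix.cons_val_one, Matrix.cons_val_fin_one]
      exact (((isJ_iff x.1).1 x.2).1).symm
  · intro t
    apply Subtype.ext
    simp [coe_mkJ]

end
/-- In SL_2(q), q odd: any two subgroups of order 4 are conjugate, and the normaliser of a subgroup of order 4 has order 2(q − 1) if q ≡ 1 (mod 4) and 2(q + 1) if q ≡ 3 (mod 4); consequently all involutions of PSL_2(q) are conjugate. -/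
theorem result {F : Type*} [Field F] [Fintype F] {q : ℕ} (hF : Fintype.card F = q) (hodd : Odd q) (A : Subgroup (Matrix.SpecialLinearGroup (Fin 2) F)) (hA : Nat.card A = 4) : (∀ B : Subgroup (Matrix.SpecialLinearGroup (Fin 2) F), Nat.card B = 4 → ∃ g : Matrix.SpecialLinearGroup (Fin 2) F, B = A.map (MulAut.conj g).toMonoidHom) ∧ (q % 4 = 1 → Nat.card ↥(Subgroup.normalizer (A : Set (Matrix.SpecialLinearGroup (Fin 2) F))) = 2 * (q - 1)) ∧ (q % 4 = 3 → Nat.card ↥(Subgroup.normalizer (A : Set (Matrix.SpecialLinearGroup (Fin 2) F))) = 2 * (q + 1)) ∧ (∀ x y : Matrix.ProjectiveSpecialLinearGroup (Fin 2) F, orderOf x = 2 → orderOf y = 2 → IsConj x y) := by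
  classical
  subst hF
  have hF : Odd (Fintype.card F) := hodd
  have h2 := Cfsg.Agent.S0268.two_ne_zero_of_odd_card hF
  obtain ⟨x, hxJ, hAx⟩ := exists_J_gen hF A hA
  have hxinv : IsJ x⁻¹ := isJ_inv hxJ
  have hxne : x ≠ x⁻¹ := by
    intro h
    have h1 : x * x = 1 := by
      have := mul_inv_cancel x
      rw [← h] at this
      exact this
    exact negOne_ne_one h2 ((show x * x = negOne F from hxJ).symm.trans h1)
  -- cardinalities
  have hq3 : 3 ≤ Fintype.card F := by
    have h1 : 1 < Fintype.card F := Fintype.one_lt_card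
    rcases hF with ⟨k, hk⟩
    omega
  obtain ⟨r, hr⟩ : ∃ r, Fintype.card F = r + 1 := ⟨Fintype.card F - 1, by omega⟩
  have hr2 : 2 ≤ r := by omega
  have hSL : Nat.card (Matrix.SpecialLinearGroup (Fin 2) F) = (r + 2) * (r + 1) * r := by
    have h := Cfsg.Agent.Lib.Helper1.card_SL_field (F := F) 2 (by norm_num)
    rw [Fin.prod_univ_two, hr] at h
    simp only [Fin.val_zero, Fin.val_one, pow_zero, pow_one, Nat.add_sub_cancel] at h
    have e1 : (r + 1) ^ 2 - 1 = r * (r + 2) := Nat.sub_eq_of_eq_add (by ring)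
    have e2 : (r + 1) ^ 2 - (r + 1) = (r + 1) * r := Nat.sub_eq_of_eq_add (by ring)
    rw [e1, e2] at h
    have hr0 : 0 < r := by omega
    apply Nat.eq_of_mul_eq_mul_left hr0
    rw [h]; ring
  have hclass : Nat.card {y : Matrix.SpecialLinearGroup (Fin 2) F // IsConj x y} =
      Nat.card {y : Matrix.SpecialLinearGroup (Fin 2) F // IsJ y} := by
    apply Nat.card_congr
    apply Equiv.subtypeEquivRight
    intro y
    constructor
    · intro h
      obtain ⟨c, rfl⟩ := isConj_iff.1 h
      exact isJ_conj hxJ c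
    · intro h
      exact J_conj hF hxJ h
  have hCC := Cfsg.Agent.Lib.Helper1.card_conj_mul_card_centralizer x
  rw [hclass, card_J, hSL, hr] at hCC
  simp only [Nat.add_sub_cancel] at hCC
  obtain ⟨hs1, hs3⟩ := card_sqrt_neg_one (F := F) h2
  -- the normalizer
  have hN : ∀ g : Matrix.SpecialLinearGroup (Fin 2) F,
      g ∈ Subgroup.normalizer (A : Set (Matrix.SpecialLinearGroup (Fin 2) F)) ↔
        (g * x * g⁻¹ = x ∨ g * x * g⁻¹ = x⁻¹) := by
    intro g
    constructor
    · intro hg
      have h1 : g * x * g⁻¹ ∈ A := (Subgroup.mem_normalizer_iff.1 hg x).1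
        (by rw [hAx]; exact Subgroup.mem_zpowers x)
      rw [hAx] at h1
      exact J_in_zpowers hF hxJ (isJ_conj hxJ g) h1
    · intro hg
      haveI : Finite (A : Set (Matrix.SpecialLinearGroup (Fin 2) F)) := by
        have : Finite A := Nat.finite_of_card_ne_zero (by rw [hA]; norm_num)
        exact this
      apply Subgroup.mem_normalizer_fintype
      intro n hn
      have hn' : n ∈ Subgroup.zpowers x := by rw [← hAx]; exact hn
      obtain ⟨k, rfl⟩ := Subgroup.mem_zpowers_iff.1 hn'
      show g * x ^ k * g⁻¹ ∈ A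
      rw [← conj_zpow, hAx]
      apply Subgroup.zpow_mem
      rcases hg with hg | hg
      · rw [hg]; exact Subgroup.mem_zpowers x
      · rw [hg]; exact Subgroup.inv_mem _ (Subgroup.mem_zpowers x)
  have hCN : Subgroup.centralizer ({x} : Set (Matrix.SpecialLinearGroup (Fin 2) F)) ≤
      Subgroup.normalizer (A : Set (Matrix.SpecialLinearGroup (Fin 2) F)) := by
    intro g hg
    rw [hN]
    left
    rw [Subgroup.mem_centralizer_singleton_iff] at hg
    rw [hg, mul_inv_cancel_right]
  have hCmem : ∀ g : Matrix.SpecialLinearGroup (Fin 2) F,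
      g ∈ Subgroup.centralizer ({x} : Set (Matrix.SpecialLinearGroup (Fin 2) F)) ↔
        g * x * g⁻¹ = x := by
    intro g
    rw [Subgroup.mem_centralizer_singleton_iff]
    constructor
    · intro h; rw [h, mul_inv_cancel_right]
    · intro h
      have : g * x * g⁻¹ * g = x * g := by rw [h]
      rw [inv_mul_cancel_right] at this
      exact this
  obtain ⟨g0, hg0⟩ := isConj_iff.1 (J_conj hF hxJ hxinv)
  have hg0N : g0 ∈ Subgroup.normalizer (A : Set (Matrix.SpecialLinearGroup (Fin 2) F)) :=
    (hN g0).2 (Or.inr hg0)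
  have hidx : ((Subgroup.centralizer ({x} : Set (Matrix.SpecialLinearGroup (Fin 2) F))).subgroupOf
      (Subgroup.normalizer (A : Set (Matrix.SpecialLinearGroup (Fin 2) F)))).index = 2 := by
    rw [Subgroup.index_eq_two_iff]
    refine ⟨⟨g0, hg0N⟩, ?_⟩
    intro b
    rw [Subgroup.mem_subgroupOf, Subgroup.mem_subgroupOf, hCmem, hCmem]
    have hb := (hN b.1).1 b.2
    have e : (↑(b * ⟨g0, hg0N⟩) : Matrix.SpecialLinearGroup (Fin 2) F) * x *
        (↑(b * ⟨g0, hg0N⟩) : Matrix.SpecialLinearGroup (Fin 2) F)⁻¹ =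
        ((b : Matrix.SpecialLinearGroup (Fin 2) F) * x *
          (b : Matrix.SpecialLinearGroup (Fin 2) F)⁻¹)⁻¹ := by
      have e1 : (↑(b * ⟨g0, hg0N⟩) : Matrix.SpecialLinearGroup (Fin 2) F) = b.1 * g0 := rfl
      rw [e1]
      have e2 : b.1 * g0 * x * (b.1 * g0)⁻¹ = b.1 * (g0 * x * g0⁻¹) * b.1⁻¹ := by group
      rw [e2, hg0]
      group
    rw [e]
    rcases hb with hb | hb
    · right
      refine ⟨hb, ?_⟩
      rw [hb]
      exact fun h => hxne h.symm
    · left
      refine ⟨by rw [hb, inv_inv], ?_⟩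
      rw [hb]
      exact fun h => hxne h.symm
  have hNcard : Nat.card (Subgroup.normalizer (A : Set (Matrix.SpecialLinearGroup (Fin 2) F))) =
      Nat.card (Subgroup.centralizer ({x} : Set (Matrix.SpecialLinearGroup (Fin 2) F))) * 2 := by
    rw [← Subgroup.card_mul_index ((Subgroup.centralizer
      ({x} : Set (Matrix.SpecialLinearGroup (Fin 2) F))).subgroupOf
      (Subgroup.normalizer (A : Set (Matrix.SpecialLinearGroup (Fin 2) F)))), hidx,
      Nat.card_congr (Subgroup.subgroupOfEquivOfLe hCN).toEquiv]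
  -- PSL lifting
  have hlift : ∀ u : Matrix.SpecialLinearGroup (Fin 2) F,
      orderOf (QuotientGroup.mk u : Matrix.ProjectiveSpecialLinearGroup (Fin 2) F) = 2 → IsJ u := by
    intro u hu
    have hpow := pow_orderOf_eq_one (QuotientGroup.mk u : Matrix.ProjectiveSpecialLinearGroup (Fin 2) F)
    rw [hu, ← QuotientGroup.mk_pow, QuotientGroup.eq_one_iff] at hpow
    have hne1 : (QuotientGroup.mk u : Matrix.ProjectiveSpecialLinearGroup (Fin 2) F) ≠ 1 := by
      intro h
      rw [h, orderOf_one] at hu
      norm_num at hu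
    rw [Ne, QuotientGroup.eq_one_iff] at hne1
    obtain ⟨c, hc1, hc2⟩ := Matrix.SpecialLinearGroup.mem_center_iff.1 hpow
    rw [Fintype.card_fin] at hc1
    have hc3 : (c - 1) * (c + 1) = 0 := by linear_combination hc1
    rcases mul_eq_zero.1 hc3 with hc | hc
    · exfalso
      have hc' : c = 1 := by linear_combination hc
      rw [hc', map_one] at hc2
      have huu : u * u = 1 := by
        apply Subtype.ext
        rw [← pow_two, ← hc2]
        rfl
      apply hne1
      by_cases hu1 : u = 1
      · rw [hu1]; exact Subgroup.one_mem _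
      · have huz : u = negOne F := by
          apply Subtype.ext
          rw [coe_negOne]
          exact Cfsg.Agent.S0268.result hF u hu1 huu
        rw [huz, Subgroup.mem_center_iff]
        intro g
        exact (negOne_comm g).symm
    · have hc' : c = -1 := by linear_combination hc
      rw [hc', map_neg, map_one] at hc2
      apply Subtype.ext
      rw [coe_negOne, ← pow_two, ← hc2]
  refine ⟨?_, ?_, ?_, ?_⟩
  · intro B hB
    obtain ⟨y, hyJ, hBy⟩ := exists_J_gen hF B hB
    obtain ⟨g, hg⟩ := isConj_iff.1 (J_conj hF hxJ hyJ)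
    refine ⟨g, ?_⟩
    rw [hBy, hAx, MonoidHom.map_zpowers]
    congr 1
    exact hg.symm
  · intro hq1
    rw [hNcard]
    have hs := hs1 (by omega)
    rw [hs] at hCC
    have hpos : 0 < (r + 1) * (r + 2) := by positivity
    have : Nat.card (Subgroup.centralizer ({x} : Set (Matrix.SpecialLinearGroup (Fin 2) F))) = r := by
      apply Nat.eq_of_mul_eq_mul_left hpos
      have e : (r + 1) * (r + 2) * Nat.card (Subgroup.centralizer
          ({x} : Set (Matrix.SpecialLinearGroup (Fin 2) F))) =
          ((r + 1) * r + (r + 1) * 2) * Nat.card (Subgroup.centralizer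
          ({x} : Set (Matrix.SpecialLinearGroup (Fin 2) F))) := by ring
      rw [e, hCC]; ring
    rw [this, hr]
    simp only [Nat.add_sub_cancel]
    ring
  · intro hq3'
    rw [hNcard]
    have hs := hs3 hq3'
    rw [hs] at hCC
    have hpos : 0 < (r + 1) * r := by positivity
    have : Nat.card (Subgroup.centralizer ({x} : Set (Matrix.SpecialLinearGroup (Fin 2) F))) =
        r + 2 := by
      apply Nat.eq_of_mul_eq_mul_left hpos
      have e : (r + 1) * r * Nat.card (Subgroup.centralizer
          ({x} : Set (Matrix.SpecialLinearGroup (Fin 2) F))) =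
          ((r + 1) * r + (r + 1) * 0) * Nat.card (Subgroup.centralizer
          ({x} : Set (Matrix.SpecialLinearGroup (Fin 2) F))) := by ring
      rw [e, hCC]; ring
    rw [this, hr]
    ring
  · intro X Y hX hY
    obtain ⟨u, rfl⟩ := QuotientGroup.mk_surjective X
    obtain ⟨v, rfl⟩ := QuotientGroup.mk_surjective Y
    have huJ := hlift u hX
    have hvJ := hlift v hY
    exact MonoidHom.map_isConj (QuotientGroup.mk' _) (J_conj hF huJ hvJ)

end Cfsg.Agent.S0809
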