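import Mathlib
import Cfsg.Statements.S0807
import Cfsg.Agent.S0809
import Cfsg.Agent.Lib.Helper1.ClassSize

set_option autoImplicit false
open Cfsg

namespace Cfsg.Agent.S0807

open Cfsg.Agent.S0809

/-! ### general lemmas -/

theorem card_preimage {G Q : Type*} [Group G] [Group Q] (π : G →* Q)
    (hπ : Function.Surjective π) (S : Set Q) :
    Nat.card {g : G // π g ∈ S} = Nat.card S * Nat.card π.ker := by
  rw [← Nat.card_prod]
  apply Nat.card_congr
  have hσ : ∀ q, π (Function.surjInv hπ q) = q := Function.surjInv_eq hπ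
  refine ⟨fun g => (⟨π g.1, g.2⟩, ⟨(Function.surjInv hπ (π g.1))⁻¹ * g.1, ?_⟩),
    fun p => ⟨Function.surjInv hπ p.1.1 * p.2.1, ?_⟩, ?_, ?_⟩
  · rw [MonoidHom.mem_ker, map_mul, map_inv, hσ, inv_mul_cancel]
  · rw [map_mul, hσ, MonoidHom.mem_ker.1 p.2.2, mul_one]; exact p.1.2
  · intro g
    apply Subtype.ext
    show Function.surjInv hπ (π g.1) * ((Function.surjInv hπ (π g.1))⁻¹ * g.1) = g.1
    rw [mul_inv_cancel_left]
  · rintro ⟨⟨q, hq⟩, ⟨k, hk⟩⟩
    have hk' : π k = 1 := MonoidHom.mem_ker.1 hk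
    have h1 : π (Function.surjInv hπ q * k) = q := by rw [map_mul, hσ, hk', mul_one]
    apply Prod.ext
    · exact Subtype.ext h1
    · apply Subtype.ext
      show (Function.surjInv hπ (π (Function.surjInv hπ q * k)))⁻¹ *
        (Function.surjInv hπ q * k) = k
      rw [h1, inv_mul_cancel_left]

theorem card_Q (K : Type*) [Group K] [IsKleinFour K] :
    Nat.card {p : K × K // p.1 ≠ 1 ∧ p.2 ≠ 1 ∧ p.1 ≠ p.2} = 6 := by
  obtain ⟨e⟩ := IsKleinFour.nonempty_mulEquiv (G₁ := K) (G₂ := Multiplicative (ZMod 2 × ZMod 2))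
  have h6 : Nat.card {p : Multiplicative (ZMod 2 × ZMod 2) × Multiplicative (ZMod 2 × ZMod 2) //
      p.1 ≠ 1 ∧ p.2 ≠ 1 ∧ p.1 ≠ p.2} = 6 := by
    rw [Nat.card_eq_fintype_card]; decide
  rw [← h6]
  apply Nat.card_congr
  refine Equiv.subtypeEquiv (Equiv.prodCongr e.toEquiv e.toEquiv) (fun p => ?_)
  show (p.1 ≠ 1 ∧ p.2 ≠ 1 ∧ p.1 ≠ p.2) ↔ (e p.1 ≠ 1 ∧ e p.2 ≠ 1 ∧ e p.1 ≠ e p.2)
  rw [Ne, Ne, Ne, Ne, Ne, Ne, e.map_eq_one_iff, e.map_eq_one_iff, e.injective.eq_iff]

def kl {G : Type*} [Group G] (s t : G) (hs : s * s = 1) (ht : t * t = 1) (hst : s * t = t * s) :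
    Subgroup G where
  carrier := {1, s, t, s * t}
  one_mem' := by simp
  mul_mem' := by
    have h1 : ∀ x : G, s * (s * x) = x := fun x => by rw [← mul_assoc, hs, one_mul]
    have h3 : ∀ x : G, t * (s * x) = s * (t * x) := fun x => by
      rw [← mul_assoc, ← hst, mul_assoc]
    have h3' : t * s = s * t := hst.symm
    rintro a b (rfl | rfl | rfl | rfl) (rfl | rfl | rfl | rfl) <;>
      simp [mul_assoc, hs, ht, h1, h3, h3']
  inv_mem' := by
    have is : s⁻¹ = s := inv_eq_of_mul_eq_one_right hs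
    have it : t⁻¹ = t := inv_eq_of_mul_eq_one_right ht
    rintro a (rfl | rfl | rfl | rfl) <;> simp [is, it, hst]

theorem mem_kl {G : Type*} [Group G] (s t : G) (hs : s * s = 1) (ht : t * t = 1)
    (hst : s * t = t * s) (x : G) : x ∈ kl s t hs ht hst ↔ x = 1 ∨ x = s ∨ x = t ∨ x = s * t :=
  Iff.rfl

theorem kl_klein {G : Type*} [Group G] (s t : G) (hs : s * s = 1) (ht : t * t = 1)
    (hst : s * t = t * s) (hs1 : s ≠ 1) (ht1 : t ≠ 1) (hne : s ≠ t) :
    IsKleinFour (kl s t hs ht hst) := by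
  classical
  have hcard : Nat.card (kl s t hs ht hst) = 4 := by
    have hset : ((kl s t hs ht hst : Subgroup G) : Set G) =
        (({1, s, t, s * t} : Finset G) : Set G) := by
      ext x
      simp [mem_kl]
    rw [← SetLike.coe_sort_coe, Nat.card_coe_set_eq, hset, Set.ncard_coe_finset]
    rw [Finset.card_insert_of_notMem, Finset.card_insert_of_notMem, Finset.card_insert_of_notMem,
      Finset.card_singleton]
    · simp only [Finset.mem_singleton]
      intro h
      apply hs1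
      have h2 : 1 * t = s * t := by rw [one_mul]; exact h
      exact (mul_right_cancel h2).symm
    · simp only [Finset.mem_insert, Finset.mem_singleton, not_or]
      refine ⟨hne, ?_⟩
      intro h
      apply ht1
      have : s * 1 = s * t := by rw [mul_one]; exact h
      exact (mul_left_cancel this).symm
    · simp only [Finset.mem_insert, Finset.mem_singleton, not_or]
      refine ⟨Ne.symm hs1, Ne.symm ht1, ?_⟩
      intro h
      apply hne
      have h2 : s * s = s * t := by rw [hs]; exact h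
      exact mul_left_cancel h2
  have : Nontrivial (kl s t hs ht hst) := by
    refine ⟨⟨⟨s, ?_⟩, 1, ?_⟩⟩
    · rw [mem_kl]; right; left; rfl
    · intro h; exact hs1 (congrArg Subtype.val h)
  refine ⟨hcard, ?_⟩
  rw [Monoid.exponent_eq_prime_iff Nat.prime_two]
  rintro ⟨g, hg⟩ hg1
  apply orderOf_eq_prime
  · apply Subtype.ext
    rw [mem_kl] at hg
    have h3 : t * s = s * t := hst.symm
    rcases hg with rfl | rfl | rfl | rfl
    · simp
    · simpa [pow_two] using hs
    · simpa [pow_two] using ht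
    · show (s * t) ^ 2 = 1
      rw [pow_two, mul_assoc, ← mul_assoc t s t, h3, mul_assoc, ht, mul_one, hs]
  · exact hg1

/-- ordered pairs of distinct commuting involutions -/
def PTbar {G : Type*} [Group G] (p : G × G) : Prop :=
  p.1 ≠ 1 ∧ p.2 ≠ 1 ∧ p.1 ≠ p.2 ∧ p.1 * p.1 = 1 ∧ p.2 * p.2 = 1 ∧ p.1 * p.2 = p.2 * p.1

theorem card_pairs {G : Type*} [Group G] [Finite G] :
    Nat.card {p : G × G // PTbar p} = 6 * Nat.card {V : Subgroup G // IsKleinFour V} := by
  classical
  haveI : Fintype {V : Subgroup G // IsKleinFour V} := Fintype.ofFinite _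
  let Vof : {p : G × G // PTbar p} → {V : Subgroup G // IsKleinFour V} := fun p =>
    ⟨kl p.1.1 p.1.2 p.2.2.2.2.1 p.2.2.2.2.2.1 p.2.2.2.2.2.2,
      kl_klein _ _ _ _ _ p.2.1 p.2.2.1 p.2.2.2.1⟩
  rw [Nat.card_congr (Equiv.sigmaFiberEquiv Vof).symm, Nat.card_sigma]
  have hfib : ∀ V : {V : Subgroup G // IsKleinFour V}, Nat.card {p // Vof p = V} = 6 := by
    rintro ⟨V, hV⟩
    haveI := hV
    rw [← card_Q ↥V]
    apply Nat.card_congr
    have hiff : ∀ p : {p : G × G // PTbar p}, Vof p = ⟨V, hV⟩ ↔ (p.1.1 ∈ V ∧ p.1.2 ∈ V) := by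
      intro p
      constructor
      · intro h
        have h' : kl p.1.1 p.1.2 p.2.2.2.2.1 p.2.2.2.2.2.1 p.2.2.2.2.2.2 = V :=
          congrArg Subtype.val h
        rw [← h']
        exact ⟨by rw [mem_kl]; right; left; rfl, by rw [mem_kl]; right; right; left; rfl⟩
      · rintro ⟨h1, h2⟩
        apply Subtype.ext
        show kl p.1.1 p.1.2 p.2.2.2.2.1 p.2.2.2.2.2.1 p.2.2.2.2.2.2 = V
        apply Subgroup.eq_of_le_of_card_ge
        · intro x hx
          rw [mem_kl] at hx
          rcases hx with rfl | rfl | rfl | rfl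
          · exact V.one_mem
          · exact h1
          · exact h2
          · exact V.mul_mem h1 h2
        · rw [(kl_klein _ _ _ _ _ p.2.1 p.2.2.1 p.2.2.2.1).card_four, hV.card_four]
    refine ⟨fun p => ⟨(⟨p.1.1.1, ((hiff p.1).1 p.2).1⟩, ⟨p.1.1.2, ((hiff p.1).1 p.2).2⟩), ?_⟩,
      fun p => ⟨⟨(p.1.1.1, p.1.2.1), ?_⟩, ?_⟩, ?_, ?_⟩
    · obtain ⟨⟨⟨s, t⟩, h⟩, hp⟩ := p
      exact ⟨fun h1 => h.1 (congrArg Subtype.val h1), fun h1 => h.2.1 (congrArg Subtype.val h1),
        fun h1 => h.2.2.1 (congrArg Subtype.val h1)⟩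
    · obtain ⟨⟨a, b⟩, h1, h2, h3⟩ := p
      refine ⟨fun h => h1 (Subtype.ext h), fun h => h2 (Subtype.ext h),
        fun h => h3 (Subtype.ext h), ?_, ?_, ?_⟩
      · exact congrArg Subtype.val (IsKleinFour.mul_self a)
      · exact congrArg Subtype.val (IsKleinFour.mul_self b)
      · have := (IsKleinFour.isMulCommutative (G := ↥V)).is_comm.comm a b
        exact congrArg Subtype.val this
    · rw [hiff]; exact ⟨p.1.1.2, p.1.2.2⟩
    · intro p; rfl
    · intro p; rfl
  rw [Finset.sum_congr rfl (fun V _ => hfib V), Finset.sum_const, Finset.card_univ, smul_eq_mul,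
    mul_comm, Nat.card_eq_fintype_card]

section

variable {F : Type*} [Field F]

local notation "SL2" => Matrix.SpecialLinearGroup (Fin 2) F
local notation "M2" => Matrix (Fin 2) (Fin 2) F
local notation "PSL2" => Matrix.ProjectiveSpecialLinearGroup (Fin 2) F

theorem mem_center_iff' (z : SL2) : z ∈ Subgroup.center SL2 ↔ z = 1 ∨ z = negOne F := by
  rw [Matrix.SpecialLinearGroup.mem_center_iff]
  constructor
  · rintro ⟨r, hr, hz⟩
    rw [Fintype.card_fin] at hr
    have h1 : (r - 1) * (r + 1) = 0 := by linear_combination hr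
    rcases mul_eq_zero.1 h1 with h | h
    · left
      apply Subtype.ext
      rw [← hz, show r = 1 by linear_combination h]
      simp
    · right
      apply Subtype.ext
      rw [← hz, show r = -1 by linear_combination h, coe_negOne]
      ext i j
      by_cases hij : i = j <;> simp [Matrix.diagonal_apply, Matrix.one_apply, hij]
  · rintro (rfl | rfl)
    · exact ⟨1, by simp, by simp⟩
    · refine ⟨-1, by simp, ?_⟩
      rw [coe_negOne]
      ext i j
      by_cases hij : i = j <;> simp [Matrix.diagonal_apply, Matrix.one_apply, hij]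

theorem card_center (h2 : (2 : F) ≠ 0) : Nat.card (Subgroup.center SL2) = 2 := by
  rw [Nat.card_eq_two_iff]
  refine ⟨⟨1, (mem_center_iff' 1).2 (Or.inl rfl)⟩,
    ⟨negOne F, (mem_center_iff' _).2 (Or.inr rfl)⟩, ?_, ?_⟩
  · intro h
    exact negOne_ne_one h2 (congrArg Subtype.val h).symm
  · ext ⟨z, hz⟩
    simp only [Set.mem_insert_iff, Set.mem_singleton_iff, Set.mem_univ, iff_true]
    rcases (mem_center_iff' z).1 hz with rfl | rfl
    · left; rfl
    · right; rfl

def PT (p : SL2 × SL2) : Prop := IsJ p.1 ∧ IsJ p.2 ∧ p.1 * p.2 = negOne F * (p.2 * p.1)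

theorem PT_iff [Fintype F] (hF : Odd (Fintype.card F)) (x y : SL2) :
    PT (x, y) ↔ PTbar ((QuotientGroup.mk' (Subgroup.center SL2)) x,
      (QuotientGroup.mk' (Subgroup.center SL2)) y) := by
  have h2 := Cfsg.Agent.S0268.two_ne_zero_of_odd_card hF
  have hn1 : negOne F ≠ 1 := negOne_ne_one h2
  have hnn : negOne F * negOne F = 1 := negOne_mul_self
  have hnc : ∀ g : SL2, negOne F * g = g * negOne F := negOne_comm
  have hZ := mem_center_iff' (F := F)
  have k1 : ∀ x : SL2, (QuotientGroup.mk' (Subgroup.center SL2)) x = 1 ↔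
      x ∈ Subgroup.center SL2 := fun x => QuotientGroup.eq_one_iff x
  have k2 : ∀ x y : SL2, (QuotientGroup.mk' (Subgroup.center SL2)) x =
      (QuotientGroup.mk' (Subgroup.center SL2)) y ↔ x⁻¹ * y ∈ Subgroup.center SL2 :=
    fun x y => QuotientGroup.eq
  have hnZ : negOne F ∈ Subgroup.center SL2 := (hZ _).2 (Or.inr rfl)
  have hsq : ∀ w : SL2, w * w = 1 → w ∈ Subgroup.center SL2 := by
    intro w hw
    by_cases h1 : w = 1
    · rw [h1]; exact Subgroup.one_mem _
    · rw [hZ]; right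
      apply Subtype.ext
      rw [coe_negOne]
      exact Cfsg.Agent.S0268.result hF w h1 hw
  have hJnZ : ∀ w : SL2, IsJ w → w ∉ Subgroup.center SL2 := by
    intro w hw h
    rcases (hZ w).1 h with rfl | rfl
    · exact hn1 ((show (1 : SL2) * 1 = negOne F from hw).symm.trans (mul_one 1))
    · exact hn1 ((show negOne F * negOne F = negOne F from hw).symm.trans hnn)
  unfold PT PTbar
  dsimp only
  constructor
  · rintro ⟨hx, hy, hxy⟩
    refine ⟨?_, ?_, ?_, ?_, ?_, ?_⟩
    · rw [Ne, k1]; exact hJnZ x hx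
    · rw [Ne, k1]; exact hJnZ y hy
    · rw [Ne, k2]
      intro h
      have hc : x * y = y * x := by
        have hz := Subgroup.mem_center_iff.1 h
        have e1 : y = x * (x⁻¹ * y) := by group
        have h3 := hz x
        calc x * y = x * (x * (x⁻¹ * y)) := by rw [← e1]
          _ = x * ((x⁻¹ * y) * x) := by rw [h3]
          _ = y * x := by group
      rw [hc] at hxy
      apply hn1
      have h4 : 1 * (y * x) = negOne F * (y * x) := by rw [one_mul]; exact hxy
      exact (mul_right_cancel h4).symm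
    · rw [← map_mul, show x * x = negOne F from hx, k1]; exact hnZ
    · rw [← map_mul, show y * y = negOne F from hy, k1]; exact hnZ
    · rw [← map_mul, ← map_mul, hxy, map_mul, (k1 _).2 hnZ, one_mul]
  · rintro ⟨hx1, hy1, hne, hxx, hyy, hxy⟩
    rw [Ne, k1] at hx1 hy1
    rw [Ne, k2] at hne
    rw [← map_mul, k1] at hxx hyy
    rw [← map_mul, ← map_mul, k2] at hxy
    have hJ : ∀ w : SL2, w ∉ Subgroup.center SL2 → w * w ∈ Subgroup.center SL2 → IsJ w := by
      intro w hw hww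
      rcases (hZ _).1 hww with h | h
      · exact absurd (hsq w h) hw
      · exact h
    have hxJ : x * x = negOne F := hJ x hx1 hxx
    have hyJ : y * y = negOne F := hJ y hy1 hyy
    refine ⟨hxJ, hyJ, ?_⟩
    rcases (hZ _).1 hxy with h | h
    · exfalso
      have hc : x * y = y * x := inv_mul_eq_one.1 h
      have hcm : Commute x y := hc
      have hww : (x⁻¹ * y) * (x⁻¹ * y) = 1 := by
        calc (x⁻¹ * y) * (x⁻¹ * y) = x⁻¹ * (y * x⁻¹) * y := by group
          _ = x⁻¹ * (x⁻¹ * y) * y := by rw [← hcm.inv_left.eq]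
          _ = (x * x)⁻¹ * (y * y) := by group
          _ = 1 := by rw [hxJ, hyJ, inv_mul_cancel]
      exact hne (hsq _ hww)
    · have h' : y * x = x * y * negOne F := inv_mul_eq_iff_eq_mul.1 h
      rw [h', hnc, mul_assoc, hnn, mul_one]

/-! ### counting in `SL₂` -/

def x0 (F : Type*) [Field F] : Matrix.SpecialLinearGroup (Fin 2) F := mkJ 0 1 (-1) (by ring)

theorem x0_J : IsJ (x0 F) := isJ_mkJ _ _ _ _

theorem mul_x0 (g : SL2) : ((g * x0 F : SL2) : M2) =
    !![-(g : M2) 0 1, (g : M2) 0 0; -(g : M2) 1 1, (g : M2) 1 0] := by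
  apply ext2 <;> rw [mul_entries] <;> simp [x0, coe_mkJ]

theorem x0_mul (g : SL2) : ((x0 F * g : SL2) : M2) =
    !![(g : M2) 1 0, (g : M2) 1 1; -(g : M2) 0 0, -(g : M2) 0 1] := by
  apply ext2 <;> rw [mul_entries] <;> simp [x0, coe_mkJ]

theorem neg_coe (A : SL2) : ((negOne F * A : SL2) : M2) = -(A : M2) := by
  rw [Matrix.SpecialLinearGroup.coe_mul, coe_negOne, neg_mul, one_mul]

theorem comm_x0_iff (g : SL2) : g * x0 F = x0 F * g ↔
    ((g : M2) 1 1 = (g : M2) 0 0 ∧ (g : M2) 1 0 = -(g : M2) 0 1) := by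
  constructor
  · intro h
    have h := congrArg (fun A : SL2 => (A : M2)) h
    rw [mul_x0, x0_mul] at h
    have h00 := congrFun (congrFun h 0) 0
    have h01 := congrFun (congrFun h 0) 1
    simp at h00 h01
    exact ⟨h01.symm, h00.symm⟩
  · rintro ⟨h1, h2⟩
    apply Subtype.ext
    rw [mul_x0, x0_mul, h1, h2]

theorem anti_x0_iff (y : SL2) : x0 F * y = negOne F * (y * x0 F) ↔
    ((y : M2) 1 1 = -(y : M2) 0 0 ∧ (y : M2) 1 0 = (y : M2) 0 1) := by
  constructor
  · intro h
    have h := congrArg (fun A : SL2 => (A : M2)) h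
    rw [neg_coe, mul_x0, x0_mul] at h
    have h00 := congrFun (congrFun h 0) 0
    have h01 := congrFun (congrFun h 0) 1
    simp at h00 h01
    exact ⟨h01, h00⟩
  · rintro ⟨h1, h2⟩
    apply Subtype.ext
    rw [neg_coe, mul_x0, x0_mul, h1, h2]
    apply ext2 <;> simp

def mkC (a b : F) (h : a * a + b * b = 1) : SL2 :=
  ⟨!![a, b; -b, a], by rw [Matrix.det_fin_two_of]; linear_combination h⟩

theorem coe_mkC (a b : F) (h : a * a + b * b = 1) : (mkC a b h : M2) = !![a, b; -b, a] := rfl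

theorem card_cent_x0 : Nat.card (Subgroup.centralizer ({x0 F} : Set SL2)) =
    Nat.card {ab : F × F // ab.1 * ab.1 + ab.2 * ab.2 = 1} := by
  apply Nat.card_congr
  refine ⟨fun g => ⟨((g.1 : M2) 0 0, (g.1 : M2) 0 1), ?_⟩,
    fun ab => ⟨mkC ab.1.1 ab.1.2 ab.2, ?_⟩, ?_, ?_⟩
  · obtain ⟨g, hg⟩ := g
    rw [Subgroup.mem_centralizer_singleton_iff] at hg
    obtain ⟨h1, h2⟩ := (comm_x0_iff g).1 hg
    have hd := det_entries g
    dsimp only
    rw [h1, h2] at hd
    linear_combination hd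
  · rw [Subgroup.mem_centralizer_singleton_iff, comm_x0_iff, coe_mkC]; simp
  · rintro ⟨g, hg⟩
    rw [Subgroup.mem_centralizer_singleton_iff] at hg
    obtain ⟨h1, h2⟩ := (comm_x0_iff g).1 hg
    apply Subtype.ext; apply Subtype.ext
    rw [coe_mkC]
    apply ext2 <;> simp [h1, h2]
  · rintro ⟨⟨a, b⟩, h⟩
    apply Subtype.ext
    simp [coe_mkC]

theorem card_anti_x0 :
    Nat.card {y : SL2 // IsJ y ∧ x0 F * y = negOne F * (y * x0 F)} =
      Nat.card {de : F × F // de.1 * de.1 + de.2 * de.2 = -1} := by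
  apply Nat.card_congr
  refine ⟨fun y => ⟨((y.1 : M2) 0 0, (y.1 : M2) 0 1), ?_⟩,
    fun de => ⟨mkJ de.1.1 de.1.2 de.1.2 de.2, isJ_mkJ _ _ _ _, ?_⟩, ?_, ?_⟩
  · obtain ⟨y, hy, hya⟩ := y
    obtain ⟨h1, h2⟩ := (isJ_iff y).1 hy
    obtain ⟨h3, h4⟩ := (anti_x0_iff y).1 hya
    dsimp only
    rw [h4] at h2
    exact h2
  · rw [anti_x0_iff, coe_mkJ]; simp
  · rintro ⟨y, hy, hya⟩
    obtain ⟨h3, h4⟩ := (anti_x0_iff y).1 hya
    apply Subtype.ext; apply Subtype.ext
    rw [coe_mkJ]
    apply ext2 <;> simp [h3, h4]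
  · rintro ⟨⟨d, e⟩, h⟩
    apply Subtype.ext
    simp [coe_mkJ]

theorem card_anti_conj (x g : SL2) :
    Nat.card {y : SL2 // IsJ y ∧ (g * x * g⁻¹) * y = negOne F * (y * (g * x * g⁻¹))} =
      Nat.card {y : SL2 // IsJ y ∧ x * y = negOne F * (y * x)} := by
  have hnc : ∀ g : SL2, negOne F * g = g * negOne F := negOne_comm
  apply Nat.card_congr
  refine ⟨fun y => ⟨g⁻¹ * y.1 * g, ?_, ?_⟩, fun y => ⟨g * y.1 * g⁻¹, isJ_conj y.2.1 g, ?_⟩, ?_, ?_⟩
  · have := isJ_conj y.2.1 g⁻¹
    rwa [inv_inv] at this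
  · have h := y.2.2
    have e1 : x * (g⁻¹ * y.1 * g) = g⁻¹ * ((g * x * g⁻¹) * y.1) * g := by group
    have e2 : negOne F * (g⁻¹ * y.1 * g * x) =
        g⁻¹ * (negOne F * (y.1 * (g * x * g⁻¹))) * g := by
      rw [← mul_assoc g⁻¹ (negOne F), ← hnc g⁻¹]
      group
    rw [e1, e2, h]
  · have h := y.2.2
    have e1 : (g * x * g⁻¹) * (g * y.1 * g⁻¹) = g * (x * y.1) * g⁻¹ := by group
    have e2 : negOne F * (g * y.1 * g⁻¹ * (g * x * g⁻¹)) =
        g * (negOne F * (y.1 * x)) * g⁻¹ := by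
      rw [← mul_assoc g (negOne F), ← hnc g]
      group
    rw [e1, e2, h]
  · intro y; apply Subtype.ext; show g * (g⁻¹ * y.1 * g) * g⁻¹ = y.1; group
  · intro y; apply Subtype.ext; show g⁻¹ * (g * y.1 * g⁻¹) * g = y.1; group

theorem card_circle [Fintype F] (hF : Odd (Fintype.card F)) :
    Nat.card {ab : F × F // ab.1 * ab.1 + ab.2 * ab.2 = 1} =
      Nat.card {de : F × F // de.1 * de.1 + de.2 * de.2 = -1} := by
  obtain ⟨d0, e0, h0⟩ : ∃ d0 e0 : F, d0 * d0 + e0 * e0 = -1 := by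
    have hR : Fintype.card F % 2 = 1 := Nat.odd_iff.1 hF
    obtain ⟨a, b, hab⟩ := FiniteField.exists_root_sum_quadratic
      (f := (Polynomial.X : Polynomial F) ^ 2) (g := Polynomial.X ^ 2 + Polynomial.C 1)
      (Polynomial.degree_X_pow 2) (Polynomial.degree_X_pow_add_C (by norm_num) 1) hR
    refine ⟨a, b, ?_⟩
    simp at hab
    linear_combination hab
  apply Nat.card_congr
  refine ⟨fun ab => ⟨(ab.1.1 * d0 - ab.1.2 * e0, ab.1.1 * e0 + ab.1.2 * d0), ?_⟩,
    fun de => ⟨(-(de.1.1 * d0 + de.1.2 * e0), -(de.1.2 * d0 - de.1.1 * e0)), ?_⟩, ?_, ?_⟩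
  · have := ab.2
    dsimp only
    linear_combination (d0 * d0 + e0 * e0) * this + h0
  · have := de.2
    dsimp only
    linear_combination (d0 * d0 + e0 * e0) * this - h0
  · rintro ⟨⟨a, b⟩, h⟩
    apply Subtype.ext
    apply Prod.ext
    · show -((a * d0 - b * e0) * d0 + (a * e0 + b * d0) * e0) = a
      linear_combination (-a) * h0
    · show -((a * e0 + b * d0) * d0 - (a * d0 - b * e0) * e0) = b
      linear_combination (-b) * h0
  · rintro ⟨⟨d, e⟩, h⟩
    apply Subtype.ext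
    apply Prod.ext
    · show -(d * d0 + e * e0) * d0 - -(e * d0 - d * e0) * e0 = d
      linear_combination (-d) * h0
    · show -(d * d0 + e * e0) * e0 + -(e * d0 - d * e0) * d0 = e
      linear_combination (-e) * h0

theorem card_T [Fintype F] (hF : Odd (Fintype.card F)) :
    Nat.card {p : SL2 × SL2 // PT p} = Nat.card SL2 := by
  classical
  haveI : Fintype {x : SL2 // IsJ x} := Fintype.ofFinite _
  have e : {p : SL2 × SL2 // PT p} ≃
      Σ x : {x : SL2 // IsJ x}, {y : SL2 // IsJ y ∧ x.1 * y = negOne F * (y * x.1)} :=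
    ⟨fun p => ⟨⟨p.1.1, p.2.1⟩, ⟨p.1.2, p.2.2.1, p.2.2.2⟩⟩,
      fun s => ⟨(s.1.1, s.2.1), s.1.2, s.2.2.1, s.2.2.2⟩, fun _ => rfl, fun _ => rfl⟩
  rw [Nat.card_congr e, Nat.card_sigma]
  have hx0 := x0_J (F := F)
  have hfib : ∀ x : {x : SL2 // IsJ x},
      Nat.card {y : SL2 // IsJ y ∧ x.1 * y = negOne F * (y * x.1)} =
        Nat.card (Subgroup.centralizer ({x0 F} : Set SL2)) := by
    rintro ⟨x, hx⟩
    obtain ⟨g, hg⟩ := isConj_iff.1 (J_conj hF hx0 hx)
    dsimp only
    rw [← hg, card_anti_conj, card_anti_x0, ← card_circle hF, card_cent_x0]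
  rw [Finset.sum_congr rfl (fun x _ => hfib x), Finset.sum_const, Finset.card_univ, smul_eq_mul,
    ← Nat.card_eq_fintype_card]
  rw [← Cfsg.Agent.Lib.Helper1.card_conj_mul_card_centralizer (x0 F)]
  congr 1
  apply Nat.card_congr
  exact Equiv.subtypeEquivRight (fun y => ⟨fun h => J_conj hF hx0 h, fun h => by
    obtain ⟨c, hc⟩ := isConj_iff.1 h; rw [← hc]; exact isJ_conj hx0 c⟩)

end

/-- For q odd, twelve times the number of Klein four-subgroups of PSL_2(q) equals the order of PSL_2(q). -/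
theorem result {F : Type*} [Field F] [Fintype F] {q : ℕ} (hF : Fintype.card F = q) (hodd : Odd q) : 12 * Nat.card {V : Subgroup (Matrix.ProjectiveSpecialLinearGroup (Fin 2) F) // IsKleinFour V} = Nat.card (Matrix.ProjectiveSpecialLinearGroup (Fin 2) F) := by
  classical
  subst hF
  have hF : Odd (Fintype.card F) := hodd
  have h2 := Cfsg.Agent.S0268.two_ne_zero_of_odd_card hF
  let π : Matrix.SpecialLinearGroup (Fin 2) F × Matrix.SpecialLinearGroup (Fin 2) F →*
      Matrix.ProjectiveSpecialLinearGroup (Fin 2) F × Matrix.ProjectiveSpecialLinearGroup (Fin 2) F :=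
    MonoidHom.prodMap (QuotientGroup.mk' (Subgroup.center (Matrix.SpecialLinearGroup (Fin 2) F)))
      (QuotientGroup.mk' (Subgroup.center (Matrix.SpecialLinearGroup (Fin 2) F)))
  have hπ : Function.Surjective π := by
    show Function.Surjective (Prod.map _ _)
    exact Function.Surjective.prodMap (QuotientGroup.mk'_surjective _)
      (QuotientGroup.mk'_surjective _)
  have hpre := card_preimage π hπ {p | PTbar p}
  have hker : Nat.card π.ker = 4 := by
    rw [MonoidHom.ker_prodMap, QuotientGroup.ker_mk',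
      Nat.card_congr (Subgroup.prodEquiv _ _).toEquiv, Nat.card_prod, card_center h2]
  have hT : Nat.card {g : Matrix.SpecialLinearGroup (Fin 2) F ×
      Matrix.SpecialLinearGroup (Fin 2) F // π g ∈ {p | PTbar p}} =
      Nat.card (Matrix.SpecialLinearGroup (Fin 2) F) := by
    rw [← card_T hF]
    apply Nat.card_congr
    exact Equiv.subtypeEquivRight (fun p => (PT_iff hF p.1 p.2).symm)
  have hbar : Nat.card ↥{p : Matrix.ProjectiveSpecialLinearGroup (Fin 2) F ×
      Matrix.ProjectiveSpecialLinearGroup (Fin 2) F | PTbar p} =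
      6 * Nat.card {V : Subgroup (Matrix.ProjectiveSpecialLinearGroup (Fin 2) F) //
        IsKleinFour V} := card_pairs
  have hSL : Nat.card (Matrix.SpecialLinearGroup (Fin 2) F) =
      Nat.card (Matrix.ProjectiveSpecialLinearGroup (Fin 2) F) *
        Nat.card (Subgroup.center (Matrix.SpecialLinearGroup (Fin 2) F)) :=
    Subgroup.card_eq_card_quotient_mul_card_subgroup _
  rw [card_center h2] at hSL
  rw [hT, hker, hbar, hSL] at hpre
  omega

end Cfsg.Agent.S0807
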