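import Mathlib
import Cfsg.Statements.S0808
import Cfsg.Agent.S0807
import Cfsg.Agent.S0809
import Cfsg.Agent.Lib.Helper1.PSL2Small

set_option autoImplicit false
open Cfsg

namespace Cfsg.Agent.S0808

open Cfsg.Agent.S0809 Cfsg.Agent.S0807

/-! ### general lemmas -/

open Pointwise in
theorem card_orbit_normalizer {G : Type*} [Group G] [Finite G] (V : Subgroup G) :
    Nat.card {W : Subgroup G // ∃ g : G, W = V.map (MulAut.conj g).toMonoidHom} *
      Nat.card (Subgroup.normalizer (V : Set G)) = Nat.card G := by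
  letI : MulAction G (Subgroup G) := MulAction.compHom _ (MulAut.conj : G →* MulAut G)
  have h1 := Nat.card_congr (MulAction.orbitProdStabilizerEquivGroup G V)
  rw [Nat.card_prod] at h1
  have h2 : MulAction.stabilizer G V = Subgroup.normalizer (V : Set G) := by
    ext g
    rw [MulAction.mem_stabilizer_iff, Subgroup.mem_normalizer_iff_map_conj_eq]
    rfl
  have h3 : Nat.card (MulAction.orbit G V) =
      Nat.card {W : Subgroup G // ∃ g : G, W = V.map (MulAut.conj g).toMonoidHom} := by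
    apply Nat.card_congr
    refine Equiv.subtypeEquivRight (fun W => ?_)
    constructor
    · rintro ⟨g, rfl⟩; exact ⟨g, rfl⟩
    · rintro ⟨g, rfl⟩; exact ⟨g, rfl⟩
  rw [← h3, ← h2]; exact h1

theorem sylow_conj_of_card {G : Type*} [Group G] [Finite G] (p : ℕ) [Fact p.Prime]
    (V W : Subgroup G) (hV : Nat.card V = p ^ (Nat.card G).factorization p)
    (hW : Nat.card W = p ^ (Nat.card G).factorization p) :
    ∃ g : G, W = V.map (MulAut.conj g).toMonoidHom := by
  obtain ⟨g, hg⟩ := MulAction.exists_smul_eq G (Sylow.ofCard V hV) (Sylow.ofCard W hW)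
  refine ⟨g, ?_⟩
  have h := congrArg (fun S : Sylow p G => (S : Subgroup G)) hg
  simp only [Sylow.coe_ofCard] at h
  rw [← h]
  rfl

theorem two_orbits {G X : Type*} [Group G] [MulAction G X] [Finite X] [Nonempty X]
    (h : ∀ x : X, Nat.card (MulAction.orbit G x) * 2 = Nat.card X) :
    ∃ x₁ x₂ : X, ∀ x, x ∈ MulAction.orbit G x₁ ∨ x ∈ MulAction.orbit G x₂ := by
  obtain ⟨x₁⟩ := ‹Nonempty X›
  by_cases hall : ∀ x, x ∈ MulAction.orbit G x₁
  · exact ⟨x₁, x₁, fun x => Or.inl (hall x)⟩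
  · obtain ⟨x₂, hx₂⟩ := not_forall.1 hall
    refine ⟨x₁, x₂, ?_⟩
    have hdisj : Disjoint (MulAction.orbit G x₁) (MulAction.orbit G x₂) := by
      rw [Set.disjoint_left]
      intro y hy1 hy2
      apply hx₂
      have e1 := MulAction.orbit_eq_iff.2 hy1
      have e2 := MulAction.orbit_eq_iff.2 hy2
      rw [← e1, e2]
      exact MulAction.mem_orbit_self x₂
    have hun : MulAction.orbit G x₁ ∪ MulAction.orbit G x₂ = Set.univ := by
      apply Set.eq_of_subset_of_ncard_le (Set.subset_univ _)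
      rw [Set.ncard_union_eq hdisj, Set.ncard_univ, ← Nat.card_coe_set_eq, ← Nat.card_coe_set_eq]
      have h1 := h x₁
      have h2 := h x₂
      omega
    intro x
    have hx : x ∈ MulAction.orbit G x₁ ∪ MulAction.orbit G x₂ := by rw [hun]; trivial
    exact hx

theorem fact_four_odd (N u : ℕ) (hN : N = 4 * u) (hu : Odd u) : N.factorization 2 = 2 := by
  subst hN
  have hu0 : u ≠ 0 := by
    rintro rfl
    exact absurd hu (by decide)
  rw [Nat.factorization_mul (by norm_num) hu0]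
  have h4 : (4 : ℕ).factorization 2 = 2 := by
    rw [show (4 : ℕ) = 2 ^ 2 by norm_num, Nat.Prime.factorization_pow Nat.prime_two]
    simp
  have hu2 : u.factorization 2 = 0 :=
    Nat.factorization_eq_zero_of_not_dvd hu.not_two_dvd_nat
  rw [Finsupp.add_apply, h4, hu2]

section

variable {F : Type*} [Field F]

local notation "SL2" => Matrix.SpecialLinearGroup (Fin 2) F
local notation "M2" => Matrix (Fin 2) (Fin 2) F
local notation "PSL2" => Matrix.ProjectiveSpecialLinearGroup (Fin 2) F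
local notation "mk" => (QuotientGroup.mk' (Subgroup.center (Matrix.SpecialLinearGroup (Fin 2) F)))

theorem card_PSL2' [Fintype F] (hF : Odd (Fintype.card F)) :
    ∃ m : ℕ, Fintype.card F = 2 * m + 1 ∧ Nat.card PSL2 = (2 * m + 1) * m * (2 * m + 2) := by
  obtain ⟨m, hm⟩ := hF
  refine ⟨m, hm, ?_⟩
  have hm1 : 1 ≤ m := by
    have := Fintype.one_lt_card (α := F)
    omega
  have h := Cfsg.Agent.Lib.Helper1.card_PSL2 F
  rw [hm] at h
  have e0 : 2 * m + 1 - 1 = 2 * m := by omega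
  have e1 : (2 * m + 1) ^ 2 - 1 = 2 * m * (2 * m + 2) := by
    apply Nat.sub_eq_of_eq_add; ring
  have e2 : (2 * m + 1) ^ 2 - (2 * m + 1) = (2 * m + 1) * (2 * m) := by
    apply Nat.sub_eq_of_eq_add; ring
  have e3 : Nat.gcd 2 (2 * m) = 2 := Nat.gcd_eq_left (dvd_mul_right 2 m)
  rw [e0, e1, e2, e3] at h
  have hpos : 0 < 2 * (2 * m) := by omega
  apply Nat.eq_of_mul_eq_mul_left hpos
  calc 2 * (2 * m) * Nat.card PSL2 = 2 * (2 * m * Nat.card PSL2) := by ring
    _ = 2 * m * (2 * m + 2) * ((2 * m + 1) * (2 * m)) := h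
    _ = 2 * (2 * m) * ((2 * m + 1) * m * (2 * m + 2)) := by ring

/-! ### the centralizer of a pair -/

theorem core0 (h2 : (2 : F) ≠ 0) (γ y : SL2) (hy : IsJ y)
    (hya : x0 F * y = negOne F * (y * x0 F))
    (h1 : γ * x0 F = x0 F * γ) (h3 : γ * y = y * γ) : γ ∈ Subgroup.center SL2 := by
  obtain ⟨hy1, hy2⟩ := (isJ_iff y).1 hy
  obtain ⟨-, hy4⟩ := (anti_x0_iff y).1 hya
  obtain ⟨hg1, hg2⟩ := (comm_x0_iff γ).1 h1
  have e00 := congrArg (fun A : SL2 => (A : M2) 0 0) h3
  have e01 := congrArg (fun A : SL2 => (A : M2) 0 1) h3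
  simp only [mul_entries] at e00 e01
  rw [hy4, hg2] at e00
  rw [hy1, hg1] at e01
  rw [hy4] at hy2
  have hb1 : (γ : M2) 0 1 * (y : M2) 0 1 = 0 := by
    have h : (2 : F) * ((γ : M2) 0 1 * (y : M2) 0 1) = 0 := by linear_combination e00
    exact (mul_eq_zero.1 h).resolve_left h2
  have hb2 : (γ : M2) 0 1 * (y : M2) 0 0 = 0 := by
    have h : (2 : F) * ((γ : M2) 0 1 * (y : M2) 0 0) = 0 := by linear_combination (-1 : F) * e01
    exact (mul_eq_zero.1 h).resolve_left h2
  have hb : (γ : M2) 0 1 = 0 := by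
    linear_combination (γ : M2) 0 1 * hy2 - (y : M2) 0 0 * hb2 - (y : M2) 0 1 * hb1
  have hdet := det_entries γ
  rw [hg1, hg2, hb] at hdet
  have ha : ((γ : M2) 0 0 - 1) * ((γ : M2) 0 0 + 1) = 0 := by linear_combination hdet
  rw [mem_center_iff']
  rcases mul_eq_zero.1 ha with h | h
  · left
    apply Subtype.ext
    apply ext2
    · show (γ : M2) 0 0 = (1 : M2) 0 0
      rw [Matrix.one_apply_eq]; linear_combination h
    · show (γ : M2) 0 1 = (1 : M2) 0 1
      rw [Matrix.one_apply_ne (by decide)]; exact hb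
    · show (γ : M2) 1 0 = (1 : M2) 1 0
      rw [Matrix.one_apply_ne (by decide), hg2, hb, neg_zero]
    · show (γ : M2) 1 1 = (1 : M2) 1 1
      rw [Matrix.one_apply_eq, hg1]; linear_combination h
  · right
    apply Subtype.ext
    rw [coe_negOne]
    apply ext2
    · rw [Matrix.neg_apply, Matrix.one_apply_eq]; linear_combination h
    · rw [Matrix.neg_apply, Matrix.one_apply_ne (by decide), neg_zero]; exact hb
    · rw [Matrix.neg_apply, Matrix.one_apply_ne (by decide), neg_zero, hg2, hb, neg_zero]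
    · rw [Matrix.neg_apply, Matrix.one_apply_eq, hg1]; linear_combination h

theorem core [Fintype F] (hF : Odd (Fintype.card F)) (x y γ : SL2) (hp : PT (x, y))
    (h1 : γ * x = x * γ) (h3 : γ * y = y * γ) : γ ∈ Subgroup.center SL2 := by
  have h2 := Cfsg.Agent.S0268.two_ne_zero_of_odd_card hF
  have hx : IsJ x := hp.1
  have hy : IsJ y := hp.2.1
  have hxy : x * y = negOne F * (y * x) := hp.2.2
  obtain ⟨h, hh⟩ := isConj_iff.1 (J_conj hF (x0_J (F := F)) hx)
  have hnc := negOne_comm (F := F)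
  have hyJ : IsJ (h⁻¹ * y * h) := by
    have := isJ_conj hy h⁻¹
    rwa [inv_inv] at this
  have hx0 : x0 F = h⁻¹ * x * h := by rw [← hh]; group
  have hya : x0 F * (h⁻¹ * y * h) = negOne F * ((h⁻¹ * y * h) * x0 F) := by
    rw [hx0]
    calc h⁻¹ * x * h * (h⁻¹ * y * h) = h⁻¹ * (x * y) * h := by group
      _ = h⁻¹ * (negOne F * (y * x)) * h := by rw [hxy]
      _ = negOne F * (h⁻¹ * y * h * (h⁻¹ * x * h)) := by
          rw [← mul_assoc h⁻¹ (negOne F), ← hnc h⁻¹]; group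
  have hc1 : (h⁻¹ * γ * h) * x0 F = x0 F * (h⁻¹ * γ * h) := by
    rw [hx0]
    calc h⁻¹ * γ * h * (h⁻¹ * x * h) = h⁻¹ * (γ * x) * h := by group
      _ = h⁻¹ * (x * γ) * h := by rw [h1]
      _ = h⁻¹ * x * h * (h⁻¹ * γ * h) := by group
  have hc2 : (h⁻¹ * γ * h) * (h⁻¹ * y * h) = (h⁻¹ * y * h) * (h⁻¹ * γ * h) := by
    calc (h⁻¹ * γ * h) * (h⁻¹ * y * h) = h⁻¹ * (γ * y) * h := by group
      _ = h⁻¹ * (y * γ) * h := by rw [h3]
      _ = (h⁻¹ * y * h) * (h⁻¹ * γ * h) := by group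
  have hmem := core0 h2 _ _ hyJ hya hc1 hc2
  have h5 : h * (h⁻¹ * γ * h) * h⁻¹ = γ := by group
  rw [← h5]
  exact (inferInstance : (Subgroup.center SL2).Normal).conj_mem _ hmem h

/-! ### the conjugation action on pairs -/

theorem PT_conj (γ : SL2) (p : SL2 × SL2) (hp : PT p) : PT (γ * p.1 * γ⁻¹, γ * p.2 * γ⁻¹) := by
  have hnc := negOne_comm (F := F)
  refine ⟨isJ_conj hp.1 γ, isJ_conj hp.2.1 γ, ?_⟩
  have h : p.1 * p.2 = negOne F * (p.2 * p.1) := hp.2.2
  show (γ * p.1 * γ⁻¹) * (γ * p.2 * γ⁻¹) = negOne F * ((γ * p.2 * γ⁻¹) * (γ * p.1 * γ⁻¹))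
  calc (γ * p.1 * γ⁻¹) * (γ * p.2 * γ⁻¹) = γ * (p.1 * p.2) * γ⁻¹ := by group
    _ = γ * (negOne F * (p.2 * p.1)) * γ⁻¹ := by rw [h]
    _ = negOne F * ((γ * p.2 * γ⁻¹) * (γ * p.1 * γ⁻¹)) := by
        rw [← mul_assoc γ (negOne F), ← hnc γ]; group

def conjT (γ : SL2) (p : {p : SL2 × SL2 // PT p}) : {p : SL2 × SL2 // PT p} :=
  ⟨(γ * p.1.1 * γ⁻¹, γ * p.1.2 * γ⁻¹), PT_conj γ p.1 p.2⟩

@[reducible] def actT : MulAction SL2 {p : SL2 × SL2 // PT p} where
  smul := conjT
  one_smul p := by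
    apply Subtype.ext
    apply Prod.ext
    · show 1 * p.1.1 * 1⁻¹ = p.1.1
      group
    · show 1 * p.1.2 * 1⁻¹ = p.1.2
      group
  mul_smul a b p := by
    apply Subtype.ext
    apply Prod.ext
    · show a * b * p.1.1 * (a * b)⁻¹ = a * (b * p.1.1 * b⁻¹) * a⁻¹
      group
    · show a * b * p.1.2 * (a * b)⁻¹ = a * (b * p.1.2 * b⁻¹) * a⁻¹
      group

theorem exists_two_reps [Fintype F] (hF : Odd (Fintype.card F)) :
    ∃ p₁ p₂ : {p : SL2 × SL2 // PT p}, ∀ p,
      (∃ γ, conjT γ p₁ = p) ∨ (∃ γ, conjT γ p₂ = p) := by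
  letI := actT (F := F)
  have h2 := Cfsg.Agent.S0268.two_ne_zero_of_odd_card hF
  haveI : Nonempty {p : SL2 × SL2 // PT p} := by
    have h0 : 0 < Nat.card {p : SL2 × SL2 // PT p} := by rw [card_T hF]; exact Nat.card_pos
    exact (Nat.card_pos_iff.1 h0).1
  have horb : ∀ p : {p : SL2 × SL2 // PT p},
      Nat.card (MulAction.orbit SL2 p) * 2 = Nat.card {p : SL2 × SL2 // PT p} := by
    intro p
    have h1 := Nat.card_congr (MulAction.orbitProdStabilizerEquivGroup SL2 p)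
    rw [Nat.card_prod] at h1
    have hst : MulAction.stabilizer SL2 p = Subgroup.center SL2 := by
      ext γ
      rw [MulAction.mem_stabilizer_iff]
      constructor
      · intro h
        have ha : γ * p.1.1 * γ⁻¹ = p.1.1 :=
          congrArg (fun q : {p : SL2 × SL2 // PT p} => q.1.1) h
        have hb : γ * p.1.2 * γ⁻¹ = p.1.2 :=
          congrArg (fun q : {p : SL2 × SL2 // PT p} => q.1.2) h
        exact core hF p.1.1 p.1.2 γ p.2 (mul_inv_eq_iff_eq_mul.1 ha) (mul_inv_eq_iff_eq_mul.1 hb)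
      · intro h
        have hc := Subgroup.mem_center_iff.1 h
        apply Subtype.ext
        apply Prod.ext
        · show γ * p.1.1 * γ⁻¹ = p.1.1
          rw [← hc p.1.1, mul_inv_cancel_right]
        · show γ * p.1.2 * γ⁻¹ = p.1.2
          rw [← hc p.1.2, mul_inv_cancel_right]
    rw [hst, card_center h2] at h1
    rw [card_T hF]
    exact h1
  obtain ⟨p₁, p₂, h⟩ := two_orbits horb
  exact ⟨p₁, p₂, fun p => (h p).imp (fun h' => MulAction.mem_orbit_iff.1 h')
    (fun h' => MulAction.mem_orbit_iff.1 h')⟩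

/-! ### the Klein four-group of a pair -/

theorem PTbar_of_PT [Fintype F] (hF : Odd (Fintype.card F)) (p : {p : SL2 × SL2 // PT p}) :
    PTbar (mk p.1.1, mk p.1.2) := (PT_iff hF p.1.1 p.1.2).1 p.2

def VT [Fintype F] (hF : Odd (Fintype.card F)) (p : {p : SL2 × SL2 // PT p}) : Subgroup PSL2 :=
  kl (mk p.1.1) (mk p.1.2) (PTbar_of_PT hF p).2.2.2.1 (PTbar_of_PT hF p).2.2.2.2.1
    (PTbar_of_PT hF p).2.2.2.2.2

theorem mem_VT [Fintype F] (hF : Odd (Fintype.card F)) (p : {p : SL2 × SL2 // PT p}) (w : PSL2) :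
    w ∈ VT hF p ↔ w = 1 ∨ w = mk p.1.1 ∨ w = mk p.1.2 ∨ w = mk p.1.1 * mk p.1.2 := Iff.rfl

theorem VT_klein [Fintype F] (hF : Odd (Fintype.card F)) (p : {p : SL2 × SL2 // PT p}) :
    IsKleinFour (VT hF p) :=
  kl_klein _ _ _ _ _ (PTbar_of_PT hF p).1 (PTbar_of_PT hF p).2.1 (PTbar_of_PT hF p).2.2.1

theorem VT_conj [Fintype F] (hF : Odd (Fintype.card F)) (γ : SL2)
    (p : {p : SL2 × SL2 // PT p}) :
    VT hF (conjT γ p) = (VT hF p).map (MulAut.conj (mk γ)).toMonoidHom := by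
  symm
  apply Subgroup.eq_of_le_of_card_ge
  · rintro w ⟨v, hv, rfl⟩
    have hv' := (mem_VT hF p v).1 hv
    rw [mem_VT]
    rcases hv' with rfl | rfl | rfl | rfl
    · left
      exact map_one _
    · right; left
      show mk γ * mk p.1.1 * (mk γ)⁻¹ = mk (γ * p.1.1 * γ⁻¹)
      rw [map_mul, map_mul, map_inv]
    · right; right; left
      show mk γ * mk p.1.2 * (mk γ)⁻¹ = mk (γ * p.1.2 * γ⁻¹)
      rw [map_mul, map_mul, map_inv]
    · right; right; right
      show mk γ * (mk p.1.1 * mk p.1.2) * (mk γ)⁻¹ =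
        mk (γ * p.1.1 * γ⁻¹) * mk (γ * p.1.2 * γ⁻¹)
      rw [map_mul, map_mul, map_inv, map_mul, map_mul, map_inv]
      group
  · rw [(VT_klein hF _).card_four,
      Subgroup.card_map_of_injective (MulAut.conj (mk γ)).injective, (VT_klein hF p).card_four]

theorem exists_VT [Fintype F] (hF : Odd (Fintype.card F)) (W : Subgroup PSL2)
    (hW : IsKleinFour W) : ∃ p, VT hF p = W := by
  haveI := hW
  have h6 := card_Q ↥W
  have hne : Nonempty {p : ↥W × ↥W // p.1 ≠ 1 ∧ p.2 ≠ 1 ∧ p.1 ≠ p.2} := by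
    have h0 : 0 < Nat.card {p : ↥W × ↥W // p.1 ≠ 1 ∧ p.2 ≠ 1 ∧ p.1 ≠ p.2} := by
      rw [h6]; norm_num
    exact (Nat.card_pos_iff.1 h0).1
  obtain ⟨⟨⟨a, b⟩, h1, h2, h3⟩⟩ := hne
  obtain ⟨x, hx⟩ := QuotientGroup.mk'_surjective (Subgroup.center SL2) a.1
  obtain ⟨y, hy⟩ := QuotientGroup.mk'_surjective (Subgroup.center SL2) b.1
  have hbar : PTbar (mk x, mk y) := by
    rw [hx, hy]
    exact ⟨fun h => h1 (Subtype.ext h), fun h => h2 (Subtype.ext h), fun h => h3 (Subtype.ext h),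
      congrArg Subtype.val (IsKleinFour.mul_self a), congrArg Subtype.val (IsKleinFour.mul_self b),
      congrArg Subtype.val ((IsKleinFour.isMulCommutative (G := ↥W)).is_comm.comm a b)⟩
  have hp : PT (x, y) := (PT_iff hF x y).2 hbar
  refine ⟨⟨(x, y), hp⟩, ?_⟩
  apply Subgroup.eq_of_le_of_card_ge
  · intro w hw
    rcases (mem_VT hF _ w).1 hw with rfl | rfl | rfl | rfl
    · exact W.one_mem
    · show mk x ∈ W
      rw [hx]; exact a.2
    · show mk y ∈ W
      rw [hy]; exact b.2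
    · show mk x * mk y ∈ W
      rw [hx, hy]; exact W.mul_mem a.2 b.2
  · rw [hW.card_four, (VT_klein hF _).card_four]

end

theorem result {F : Type*} [Field F] [Fintype F] {q : ℕ} (hF : Fintype.card F = q) (hodd : Odd q) : ((q % 8 = 3 ∨ q % 8 = 5) → ∀ V W : Subgroup (Matrix.ProjectiveSpecialLinearGroup (Fin 2) F), IsKleinFour V → IsKleinFour W → ∃ g : Matrix.ProjectiveSpecialLinearGroup (Fin 2) F, W = V.map (MulAut.conj g).toMonoidHom) ∧ ((q % 8 = 1 ∨ q % 8 = 7) → ∃ V₁ V₂ : Subgroup (Matrix.ProjectiveSpecialLinearGroup (Fin 2) F), IsKleinFour V₁ ∧ IsKleinFour V₂ ∧ (¬ ∃ g : Matrix.ProjectiveSpecialLinearGroup (Fin 2) F, V₂ = V₁.map (MulAut.conj g).toMonoidHom) ∧ ∀ W : Subgroup (Matrix.ProjectiveSpecialLinearGroup (Fin 2) F), IsKleinFour W → (∃ g : Matrix.ProjectiveSpecialLinearGroup (Fin 2) F, W = V₁.map (MulAut.conj g).toMonoidHom) ∨ (∃ g : Matrix.ProjectiveSpecialLinearGroup (Fin 2) F, W = V₂.map (MulAut.conj g).toMonoidHom)) := by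
  classical
  subst hF
  have hF : Odd (Fintype.card F) := hodd
  obtain ⟨m, hm, hN⟩ := card_PSL2' hF
  constructor
  · intro h8 V W hV hW
    have hfac : (Nat.card (Matrix.ProjectiveSpecialLinearGroup (Fin 2) F)).factorization 2 = 2 := by
      rcases h8 with h8 | h8
      · obtain ⟨k, hk⟩ : ∃ k, m = 4 * k + 1 := ⟨m / 4, by omega⟩
        apply fact_four_odd _ ((8 * k + 3) * (4 * k + 1) * (2 * k + 1))
        · rw [hN, hk]; ring
        · exact (Odd.mul (Odd.mul ⟨4 * k + 1, by ring⟩ ⟨2 * k, by ring⟩) ⟨k, by ring⟩)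
      · obtain ⟨k, hk⟩ : ∃ k, m = 4 * k + 2 := ⟨m / 4, by omega⟩
        apply fact_four_odd _ ((8 * k + 5) * (2 * k + 1) * (4 * k + 3))
        · rw [hN, hk]; ring
        · exact (Odd.mul (Odd.mul ⟨4 * k + 2, by ring⟩ ⟨k, by ring⟩) ⟨2 * k + 1, by ring⟩)
    haveI : Fact (Nat.Prime 2) := ⟨Nat.prime_two⟩
    exact sylow_conj_of_card 2 V W (by rw [hV.card_four, hfac]; norm_num)
      (by rw [hW.card_four, hfac]; norm_num)
  · intro h8
    have h8dvd : 8 ∣ Nat.card (Matrix.ProjectiveSpecialLinearGroup (Fin 2) F) := by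
      rcases h8 with h8 | h8
      · obtain ⟨k, hk⟩ : ∃ k, m = 4 * k := ⟨m / 4, by omega⟩
        exact ⟨(8 * k + 1) * k * (4 * k + 1), by rw [hN, hk]; ring⟩
      · obtain ⟨k, hk⟩ : ∃ k, m = 4 * k + 3 := ⟨m / 4, by omega⟩
        exact ⟨(8 * k + 7) * (4 * k + 3) * (k + 1), by rw [hN, hk]; ring⟩
    obtain ⟨p₁, p₂, hp⟩ := exists_two_reps hF
    refine ⟨VT hF p₁, VT hF p₂, VT_klein hF p₁, VT_klein hF p₂, ?_, ?_⟩
    · rintro ⟨g, hg⟩
      have hall : ∀ W : Subgroup (Matrix.ProjectiveSpecialLinearGroup (Fin 2) F), IsKleinFour W →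
          ∃ g : Matrix.ProjectiveSpecialLinearGroup (Fin 2) F,
            W = (VT hF p₁).map (MulAut.conj g).toMonoidHom := by
        intro W hW
        obtain ⟨p, rfl⟩ := exists_VT hF W hW
        rcases hp p with ⟨γ, rfl⟩ | ⟨γ, rfl⟩
        · exact ⟨_, VT_conj hF γ p₁⟩
        · refine ⟨QuotientGroup.mk' (Subgroup.center (Matrix.SpecialLinearGroup (Fin 2) F)) γ * g, ?_⟩
          rw [VT_conj hF γ p₂, hg, Subgroup.map_map]
          congr 1
          ext v
          show QuotientGroup.mk' (Subgroup.center (Matrix.SpecialLinearGroup (Fin 2) F)) γ *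
              (g * v * g⁻¹) *
              (QuotientGroup.mk' (Subgroup.center (Matrix.SpecialLinearGroup (Fin 2) F)) γ)⁻¹ =
            (QuotientGroup.mk' (Subgroup.center (Matrix.SpecialLinearGroup (Fin 2) F)) γ * g) * v *
              (QuotientGroup.mk' (Subgroup.center (Matrix.SpecialLinearGroup (Fin 2) F)) γ * g)⁻¹
          group
      have hos := card_orbit_normalizer (VT hF p₁)
      have hK : Nat.card {W : Subgroup (Matrix.ProjectiveSpecialLinearGroup (Fin 2) F) //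
          ∃ g : Matrix.ProjectiveSpecialLinearGroup (Fin 2) F,
            W = (VT hF p₁).map (MulAut.conj g).toMonoidHom} =
          Nat.card {V : Subgroup (Matrix.ProjectiveSpecialLinearGroup (Fin 2) F) //
            IsKleinFour V} := by
        apply Nat.card_congr
        refine Equiv.subtypeEquivRight (fun W => ⟨?_, hall W⟩)
        rintro ⟨g, rfl⟩
        obtain ⟨γ, rfl⟩ := QuotientGroup.mk'_surjective
          (Subgroup.center (Matrix.SpecialLinearGroup (Fin 2) F)) g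
        rw [← VT_conj hF γ p₁]
        exact VT_klein hF _
      have h12 := Cfsg.Agent.S0807.result (F := F) rfl hodd
      have h8n := Sylow.prime_pow_dvd_card_normalizer (p := 2) (n := 2)
        (G := Matrix.ProjectiveSpecialLinearGroup (Fin 2) F) (by rw [show (2 : ℕ) ^ (2 + 1) = 8 by norm_num]; exact h8dvd)
        (H := VT hF p₁) (by rw [(VT_klein hF p₁).card_four]; norm_num)
      rw [hK, ← h12] at hos
      have hKpos : 0 < Nat.card {V : Subgroup (Matrix.ProjectiveSpecialLinearGroup (Fin 2) F) //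
          IsKleinFour V} := by
        apply Nat.pos_of_ne_zero
        intro h0
        rw [h0] at h12
        have := Nat.card_pos (α := Matrix.ProjectiveSpecialLinearGroup (Fin 2) F)
        omega
      have hN12 : Nat.card (Subgroup.normalizer
          ((VT hF p₁ : Subgroup (Matrix.ProjectiveSpecialLinearGroup (Fin 2) F)) :
            Set (Matrix.ProjectiveSpecialLinearGroup (Fin 2) F))) = 12 :=
        Nat.eq_of_mul_eq_mul_left hKpos (hos.trans (mul_comm 12 _))
      rw [hN12] at h8n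
      norm_num at h8n
    · intro W hW
      obtain ⟨p, rfl⟩ := exists_VT hF W hW
      rcases hp p with ⟨γ, rfl⟩ | ⟨γ, rfl⟩
      · left; exact ⟨_, VT_conj hF γ p₁⟩
      · right; exact ⟨_, VT_conj hF γ p₂⟩

end Cfsg.Agent.S0808
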