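import Mathlib
import Cfsg.Statements.S0802
import Cfsg.Agent.S0807
import Cfsg.Agent.S0808
import Cfsg.Agent.S0809
import Cfsg.Agent.S0228
import Cfsg.Agent.S0268

set_option autoImplicit false
open Cfsg

namespace Cfsg.Agent.S0802

open Cfsg.Agent.S0809 Cfsg.Agent.S0807 Cfsg.Agent.S0808

/-! ### an abstract criterion -/

def prodSub {G : Type*} [Group G] (V C : Subgroup G)
    (h : ∀ k ∈ C, ∀ v ∈ V, k * v * k⁻¹ ∈ V) : Subgroup G where
  carrier := {g | ∃ v ∈ V, ∃ k ∈ C, g = v * k}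
  one_mem' := ⟨1, V.one_mem, 1, C.one_mem, (mul_one 1).symm⟩
  mul_mem' := by
    rintro _ _ ⟨v, hv, k, hk, rfl⟩ ⟨v', hv', k', hk', rfl⟩
    exact ⟨v * (k * v' * k⁻¹), V.mul_mem hv (h k hk v' hv'), k * k', C.mul_mem hk hk', by group⟩
  inv_mem' := by
    rintro _ ⟨v, hv, k, hk, rfl⟩
    exact ⟨k⁻¹ * v⁻¹ * (k⁻¹)⁻¹, h k⁻¹ (C.inv_mem hk) v⁻¹ (V.inv_mem hv), k⁻¹, C.inv_mem hk,
      by group⟩

theorem mem_prodSub {G : Type*} [Group G] (V C : Subgroup G)
    (h : ∀ k ∈ C, ∀ v ∈ V, k * v * k⁻¹ ∈ V) (g : G) :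
    g ∈ prodSub V C h ↔ ∃ v ∈ V, ∃ k ∈ C, g = v * k := Iff.rfl

theorem card_prodSub {G : Type*} [Group G] (V C : Subgroup G)
    (h : ∀ k ∈ C, ∀ v ∈ V, k * v * k⁻¹ ∈ V) [Finite V] [Finite C]
    (hcop : Nat.Coprime (Nat.card V) (Nat.card C)) :
    Finite (prodSub V C h) ∧ Nat.card (prodSub V C h) = Nat.card V * Nat.card C := by
  have hVH : V ≤ prodSub V C h := fun v hv => ⟨v, hv, 1, C.one_mem, (mul_one v).symm⟩
  have hCH : C ≤ prodSub V C h := fun k hk => ⟨1, V.one_mem, k, hk, (one_mul k).symm⟩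
  let f : V × C → prodSub V C h := fun p => ⟨p.1.1 * p.2.1, p.1.1, p.1.2, p.2.1, p.2.2, rfl⟩
  have hf : Function.Surjective f := by
    rintro ⟨g, v, hv, k, hk, rfl⟩
    exact ⟨(⟨v, hv⟩, ⟨k, hk⟩), rfl⟩
  haveI : Finite (prodSub V C h) := Finite.of_surjective f hf
  refine ⟨inferInstance, ?_⟩
  have hle : Nat.card (prodSub V C h) ≤ Nat.card V * Nat.card C := by
    rw [← Nat.card_prod]; exact Nat.card_le_card_of_surjective f hf
  have hdvd : Nat.card V * Nat.card C ∣ Nat.card (prodSub V C h) :=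
    Nat.Coprime.mul_dvd_of_dvd_of_dvd hcop (Subgroup.card_dvd_of_le hVH)
      (Subgroup.card_dvd_of_le hCH)
  exact le_antisymm hle (Nat.le_of_dvd Nat.card_pos hdvd)

theorem exists_A4 {G : Type*} [Group G] (a b c : G) (ha : a * a = 1) (hb : b * b = 1)
    (hab : a * b = b * a) (ha1 : a ≠ 1) (hb1 : b ≠ 1) (hne : a ≠ b)
    (hca : c * a * c⁻¹ = b) (hcb : c * b * c⁻¹ = a * b) (hc3 : c ^ 3 = 1) :
    ∃ H : Subgroup G, Nonempty (H ≃* alternatingGroup (Fin 4)) := by
  classical
  have hVk : IsKleinFour (kl a b ha hb hab) := kl_klein a b ha hb hab ha1 hb1 hne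
  haveI : Finite (kl a b ha hb hab) :=
    Nat.finite_of_card_ne_zero (by rw [hVk.card_four]; norm_num)
  have hc1 : c ≠ 1 := by
    rintro rfl
    apply hne
    simpa using hca
  haveI : Fact (Nat.Prime 3) := ⟨by norm_num⟩
  have hoc : orderOf c = 3 := orderOf_eq_prime hc3 hc1
  have hCcard : Nat.card (Subgroup.zpowers c) = 3 := by rw [Nat.card_zpowers, hoc]
  haveI : Finite (Subgroup.zpowers c) :=
    Nat.finite_of_card_ne_zero (by rw [hCcard]; norm_num)
  have hcab : c * (a * b) * c⁻¹ = a := by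
    have h1 : c * (a * b) * c⁻¹ = (c * a * c⁻¹) * (c * b * c⁻¹) := by group
    rw [h1, hca, hcb, ← mul_assoc, ← hab, mul_assoc, hb, mul_one]
  have hVsq : ∀ v ∈ kl a b ha hb hab, v * v = 1 := by
    intro v hv
    exact congrArg Subtype.val (IsKleinFour.mul_self (⟨v, hv⟩ : kl a b ha hb hab))
  have hmap : (kl a b ha hb hab).map (MulAut.conj c).toMonoidHom = kl a b ha hb hab := by
    apply Subgroup.eq_of_le_of_card_ge
    · rintro w ⟨v, hv, rfl⟩
      have hv' := (mem_kl a b ha hb hab v).1 hv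
      show c * v * c⁻¹ ∈ kl a b ha hb hab
      rcases hv' with h | h | h | h
      · rw [h, mul_one, mul_inv_cancel]; exact Subgroup.one_mem _
      · rw [h, hca]; exact (mem_kl a b ha hb hab _).2 (Or.inr (Or.inr (Or.inl rfl)))
      · rw [h, hcb]; exact (mem_kl a b ha hb hab _).2 (Or.inr (Or.inr (Or.inr rfl)))
      · rw [h, hcab]; exact (mem_kl a b ha hb hab _).2 (Or.inr (Or.inl rfl))
    · rw [Subgroup.card_map_of_injective (MulAut.conj c).injective]
  have hcN : c ∈ Subgroup.normalizer ((kl a b ha hb hab : Subgroup G) : Set G) := by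
    rw [Subgroup.mem_normalizer_iff_map_conj_eq]
    exact hmap
  have hnorm : ∀ k ∈ Subgroup.zpowers c, ∀ v ∈ kl a b ha hb hab, k * v * k⁻¹ ∈ kl a b ha hb hab :=
    Subgroup.le_normalizer_iff.1 (Subgroup.zpowers_le.2 hcN)
  obtain ⟨hfin, hcard⟩ := card_prodSub (kl a b ha hb hab) (Subgroup.zpowers c) hnorm
    (by rw [hVk.card_four, hCcard]; norm_num)
  rw [hVk.card_four, hCcard] at hcard
  haveI := hfin
  have hcH : c ∈ prodSub (kl a b ha hb hab) (Subgroup.zpowers c) hnorm :=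
    ⟨1, Subgroup.one_mem _, c, Subgroup.mem_zpowers c, (one_mul c).symm⟩
  have hz : ∀ z : prodSub (kl a b ha hb hab) (Subgroup.zpowers c) hnorm,
      orderOf z = 2 → z ∉ Subgroup.center (prodSub (kl a b ha hb hab) (Subgroup.zpowers c) hnorm) := by
    intro z hz2 hzc
    have hz1 : z.1 ≠ 1 := by
      intro h
      have : z = 1 := Subtype.ext h
      rw [this] at hz2
      simp at hz2
    have hzz : z.1 * z.1 = 1 := by
      have h := pow_orderOf_eq_one z
      rw [hz2, pow_two] at h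
      exact congrArg Subtype.val h
    have hcomm : c * z.1 = z.1 * c := by
      have h := Subgroup.mem_center_iff.1 hzc ⟨c, hcH⟩
      exact congrArg Subtype.val h
    obtain ⟨v, hv, k, hk, hzk⟩ := z.2
    have hk3 : k * k * k = 1 := by
      obtain ⟨i, rfl⟩ := Subgroup.mem_zpowers_iff.1 hk
      have h3 : (c ^ i) ^ 3 = 1 := by
        rw [← zpow_natCast, ← zpow_mul, mul_comm, zpow_mul, zpow_natCast, hc3, one_zpow]
      rw [← h3, pow_three']
    have e : v * k * (v * k) = v * (k * v * k⁻¹) * (k * k) := by group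
    rw [hzk, e] at hzz
    have hkk : k * k = (v * (k * v * k⁻¹))⁻¹ := eq_inv_of_mul_eq_one_right hzz
    have hkkV : k * k ∈ kl a b ha hb hab := by
      rw [hkk]; exact Subgroup.inv_mem _ (Subgroup.mul_mem _ hv (hnorm k hk v hv))
    have hk4 : (k * k) * (k * k) = 1 := hVsq _ hkkV
    have hk1 : k = 1 := by
      calc k = k * (k * k * k) := by rw [hk3, mul_one]
        _ = (k * k) * (k * k) := by group
        _ = 1 := hk4
    rw [hk1, mul_one] at hzk
    rw [hzk] at hz1 hcomm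
    have hcv : c * v * c⁻¹ = v := by rw [hcomm, mul_inv_cancel_right]
    rcases (mem_kl a b ha hb hab v).1 hv with h | h | h | h
    · exact hz1 h
    · rw [h] at hcv
      exact hne (hcv.symm.trans hca)
    · rw [h] at hcv
      apply ha1
      have h5 : a * b = 1 * b := by rw [one_mul]; exact hcb.symm.trans hcv
      exact mul_right_cancel h5
    · rw [h] at hcv
      apply hb1
      have h5 : a * b = a * 1 := by rw [mul_one]; exact hcv.symm.trans hcab
      exact mul_left_cancel h5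
  obtain ⟨e⟩ := Cfsg.Agent.S0228.result hcard hz
  exact ⟨_, ⟨e⟩⟩

section

variable {F : Type*} [Field F]

local notation "SL2" => Matrix.SpecialLinearGroup (Fin 2) F
local notation "M2" => Matrix (Fin 2) (Fin 2) F
local notation "PSL2" => Matrix.ProjectiveSpecialLinearGroup (Fin 2) F
local notation "mk" => (QuotientGroup.mk' (Subgroup.center (Matrix.SpecialLinearGroup (Fin 2) F)))

/-! ### odd characteristic -/

def omg (r d e : F) (hr : 2 * r = 1) (h : d * d + e * e = -1) : SL2 :=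
  ⟨!![r * (1 + d + e), r * (1 + e - d); r * (-1 + e - d), r * (1 - d - e)], by
    rw [Matrix.det_fin_two_of]
    linear_combination (-2 * r ^ 2) * h + (2 * r + 1) * hr⟩

theorem omg_R1 (r d e : F) (hr : 2 * r = 1) (h : d * d + e * e = -1) :
    omg r d e hr h * x0 F = mkJ d e e h * omg r d e hr h := by
  apply Subtype.ext
  rw [mul_x0]
  apply ext2
  · rw [mul_entries]
    show -(r * (1 + e - d)) = d * (r * (1 + d + e)) + e * (r * (-1 + e - d))
    linear_combination (-r) * h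
  · rw [mul_entries]
    show r * (1 + d + e) = d * (r * (1 + e - d)) + e * (r * (1 - d - e))
    linear_combination r * h
  · rw [mul_entries]
    show -(r * (1 - d - e)) = e * (r * (1 + d + e)) + (-d) * (r * (-1 + e - d))
    linear_combination (-r) * h
  · rw [mul_entries]
    show r * (-1 + e - d) = e * (r * (1 + e - d)) + (-d) * (r * (1 - d - e))
    linear_combination (-r) * h

theorem omg_R2 (r d e : F) (hr : 2 * r = 1) (h : d * d + e * e = -1) :
    omg r d e hr h * mkJ d e e h = x0 F * mkJ d e e h * omg r d e hr h := by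
  apply Subtype.ext
  apply ext2
  · rw [mul_entries, mul_entries (x0 F * mkJ d e e h), x0_mul]
    show r * (1 + d + e) * d + r * (1 + e - d) * e =
      e * (r * (1 + d + e)) + (-d) * (r * (-1 + e - d))
    ring
  · rw [mul_entries, mul_entries (x0 F * mkJ d e e h), x0_mul]
    show r * (1 + d + e) * e + r * (1 + e - d) * (-d) =
      e * (r * (1 + e - d)) + (-d) * (r * (1 - d - e))
    ring
  · rw [mul_entries, mul_entries (x0 F * mkJ d e e h), x0_mul]
    show r * (-1 + e - d) * d + r * (1 - d - e) * e =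
      (-d) * (r * (1 + d + e)) + (-e) * (r * (-1 + e - d))
    ring
  · rw [mul_entries, mul_entries (x0 F * mkJ d e e h), x0_mul]
    show r * (-1 + e - d) * e + r * (1 - d - e) * (-d) =
      (-d) * (r * (1 + e - d)) + (-e) * (r * (1 - d - e))
    ring

theorem exists_A4_odd [Fintype F] (hF : Odd (Fintype.card F)) :
    ∃ H : Subgroup PSL2, Nonempty (H ≃* alternatingGroup (Fin 4)) := by
  have h2 := Cfsg.Agent.S0268.two_ne_zero_of_odd_card hF
  obtain ⟨d, e, h⟩ : ∃ d e : F, d * d + e * e = -1 := by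
    have hR : Fintype.card F % 2 = 1 := Nat.odd_iff.1 hF
    obtain ⟨a, b, hab⟩ := FiniteField.exists_root_sum_quadratic
      (f := (Polynomial.X : Polynomial F) ^ 2) (g := Polynomial.X ^ 2 + Polynomial.C 1)
      (Polynomial.degree_X_pow 2) (Polynomial.degree_X_pow_add_C (by norm_num) 1) hR
    refine ⟨a, b, ?_⟩
    simp at hab
    linear_combination hab
  have hr : (2 : F) * 2⁻¹ = 1 := mul_inv_cancel₀ h2
  obtain ⟨ω, hω⟩ : ∃ ω : SL2, ω = omg (2⁻¹ : F) d e hr h := ⟨_, rfl⟩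
  obtain ⟨Y, hY⟩ : ∃ Y : SL2, Y = mkJ d e e h := ⟨_, rfl⟩
  have hYJ : IsJ Y := by rw [hY]; exact isJ_mkJ _ _ _ _
  have hYa : x0 F * Y = negOne F * (Y * x0 F) := by
    rw [anti_x0_iff, hY, coe_mkJ]; simp
  have hPT : PT (x0 F, Y) := ⟨x0_J, hYJ, hYa⟩
  have hbar := (PT_iff hF (x0 F) Y).1 hPT
  have R1 : ω * x0 F = Y * ω := by rw [hω, hY]; exact omg_R1 _ d e hr h
  have R2 : ω * Y = x0 F * Y * ω := by rw [hω, hY]; exact omg_R2 _ d e hr h
  have hnn := negOne_mul_self (F := F)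
  have hnc := negOne_comm (F := F)
  have hYY : Y * Y = negOne F := hYJ
  have hA : Y * x0 F = negOne F * (x0 F * Y) := by
    rw [hYa, ← mul_assoc, hnn, one_mul]
  have hYxY : Y * x0 F * Y = x0 F := by
    calc Y * x0 F * Y = negOne F * (x0 F * Y) * Y := by rw [hA]
      _ = negOne F * (x0 F * (Y * Y)) := by simp only [mul_assoc]
      _ = negOne F * (x0 F * negOne F) := by rw [hYY]
      _ = negOne F * (negOne F * x0 F) := by rw [hnc (x0 F)]
      _ = x0 F := by rw [← mul_assoc, hnn, one_mul]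
  have R3 : ω * (x0 F * Y) = x0 F * ω := by
    calc ω * (x0 F * Y) = (ω * x0 F) * Y := by rw [mul_assoc]
      _ = Y * (ω * Y) := by rw [R1, mul_assoc]
      _ = Y * (x0 F * Y * ω) := by rw [R2]
      _ = (Y * x0 F * Y) * ω := by simp only [mul_assoc]
      _ = x0 F * ω := by rw [hYxY]
  have e1 : ω * ω * ω * x0 F = x0 F * (ω * ω * ω) := by
    calc ω * ω * ω * x0 F = ω * ω * (ω * x0 F) := by simp only [mul_assoc]
      _ = ω * ω * (Y * ω) := by rw [R1]
      _ = ω * (ω * Y) * ω := by simp only [mul_assoc]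
      _ = ω * (x0 F * Y * ω) * ω := by rw [R2]
      _ = (ω * (x0 F * Y)) * ω * ω := by simp only [mul_assoc]
      _ = (x0 F * ω) * ω * ω := by rw [R3]
      _ = x0 F * (ω * ω * ω) := by simp only [mul_assoc]
  have e2 : ω * ω * ω * Y = Y * (ω * ω * ω) := by
    calc ω * ω * ω * Y = ω * ω * (ω * Y) := by simp only [mul_assoc]
      _ = ω * ω * (x0 F * Y * ω) := by rw [R2]
      _ = ω * (ω * (x0 F * Y)) * ω := by simp only [mul_assoc]
      _ = ω * (x0 F * ω) * ω := by rw [R3]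
      _ = (ω * x0 F) * ω * ω := by simp only [mul_assoc]
      _ = (Y * ω) * ω * ω := by rw [R1]
      _ = Y * (ω * ω * ω) := by simp only [mul_assoc]
  have hmem := core hF (x0 F) Y (ω * ω * ω) hPT e1 e2
  apply exists_A4 (mk (x0 F)) (mk Y) (mk ω) hbar.2.2.2.1 hbar.2.2.2.2.1 hbar.2.2.2.2.2 hbar.1
    hbar.2.1 hbar.2.2.1
  · rw [← map_inv, ← map_mul, ← map_mul, mul_inv_eq_iff_eq_mul.2 R1]
  · rw [← map_inv, ← map_mul, ← map_mul, ← map_mul, mul_inv_eq_iff_eq_mul.2 R2]
  · rw [← map_pow, pow_three']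
    exact (QuotientGroup.eq_one_iff _).2 hmem

/-! ### characteristic two -/

theorem negOne_eq_one (h2 : (2 : F) = 0) : negOne F = 1 := by
  apply Subtype.ext
  rw [coe_negOne]
  ext i j
  show -((1 : M2) i j) = (1 : M2) i j
  linear_combination (-((1 : M2) i j)) * h2

theorem center_trivial (h2 : (2 : F) = 0) (z : SL2) (hz : z ∈ Subgroup.center SL2) : z = 1 := by
  rcases (mem_center_iff' z).1 hz with h | h
  · exact h
  · rw [h, negOne_eq_one h2]

theorem mk_inj (h2 : (2 : F) = 0) {x y : SL2} (h : mk x = mk y) : x = y := by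
  have h1 : x⁻¹ * y ∈ Subgroup.center SL2 := QuotientGroup.eq.1 h
  have h3 := center_trivial h2 _ h1
  exact inv_mul_eq_one.1 h3

def uu (t : F) : SL2 := ⟨!![1, t; 0, 1], by rw [Matrix.det_fin_two_of]; ring⟩

def dd (s s' : F) (h : s * s' = 1) : SL2 :=
  ⟨!![s, 0; 0, s'], by rw [Matrix.det_fin_two_of]; linear_combination h⟩

theorem uu_mul (s t : F) : uu s * uu t = uu (s + t) := by
  apply Subtype.ext
  apply ext2
  · rw [mul_entries]
    show (1 : F) * 1 + s * 0 = 1
    ring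
  · rw [mul_entries]
    show (1 : F) * t + s * 1 = s + t
    ring
  · rw [mul_entries]
    show (0 : F) * 1 + 1 * 0 = 0
    ring
  · rw [mul_entries]
    show (0 : F) * t + 1 * 1 = 1
    ring

theorem uu_zero : uu (0 : F) = 1 := by
  apply Subtype.ext
  apply ext2
  · show (1 : F) = (1 : M2) 0 0
    rw [Matrix.one_apply_eq]
  · show (0 : F) = (1 : M2) 0 1
    rw [Matrix.one_apply_ne (by decide)]
  · show (0 : F) = (1 : M2) 1 0
    rw [Matrix.one_apply_ne (by decide)]
  · show (1 : F) = (1 : M2) 1 1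
    rw [Matrix.one_apply_eq]

theorem uu_inj {s t : F} (h : uu s = uu t) : s = t :=
  congrArg (fun A : SL2 => (A : M2) 0 1) h

theorem dd_uu (s s' : F) (h : s * s' = 1) (t t' : F) (ht : s * t = t' * s') :
    dd s s' h * uu t = uu t' * dd s s' h := by
  apply Subtype.ext
  apply ext2
  · rw [mul_entries, mul_entries]
    show s * 1 + 0 * 0 = 1 * s + t' * 0
    ring
  · rw [mul_entries, mul_entries]
    show s * t + 0 * 1 = 1 * 0 + t' * s'
    linear_combination ht
  · rw [mul_entries, mul_entries]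
    show (0 : F) * 1 + s' * 0 = 0 * s + 1 * 0
    ring
  · rw [mul_entries, mul_entries]
    show (0 : F) * t + s' * 1 = 0 * 0 + 1 * s'
    ring

theorem dd_cube (s s' : F) (h : s * s' = 1) (hs : s * s * s = 1) (hs' : s' * s' * s' = 1) :
    dd s s' h * dd s s' h * dd s s' h = 1 := by
  apply Subtype.ext
  apply ext2
  · simp only [mul_entries]
    show (s * s + 0 * 0) * s + (s * 0 + 0 * s') * 0 = (1 : M2) 0 0
    rw [Matrix.one_apply_eq]
    linear_combination hs
  · simp only [mul_entries]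
    show (s * s + 0 * 0) * 0 + (s * 0 + 0 * s') * s' = (1 : M2) 0 1
    rw [Matrix.one_apply_ne (by decide)]
    ring
  · simp only [mul_entries]
    show (0 * s + s' * 0) * s + (0 * 0 + s' * s') * 0 = (1 : M2) 1 0
    rw [Matrix.one_apply_ne (by decide)]
    ring
  · simp only [mul_entries]
    show (0 * s + s' * 0) * 0 + (0 * 0 + s' * s') * s' = (1 : M2) 1 1
    rw [Matrix.one_apply_eq]
    linear_combination hs'

theorem exists_zeta [Fintype F] (k : ℕ) (hF : Fintype.card F = 2 ^ (k + k)) :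
    ∃ ζ : F, ζ * ζ + ζ + 1 = 0 := by
  classical
  have h3 : 3 ∣ Fintype.card Fˣ := by
    rw [Fintype.card_units, hF, pow_add, ← mul_pow]
    have h4 : (2 * 2) ^ k % 3 = 1 := by
      rw [Nat.pow_mod]; norm_num
    have h5 : 1 ≤ (2 * 2) ^ k := Nat.one_le_pow _ _ (by norm_num)
    omega
  haveI : Fact (Nat.Prime 3) := ⟨by norm_num⟩
  obtain ⟨x, hx⟩ := exists_prime_orderOf_dvd_card 3 h3
  have hx3 : (x : F) ^ 3 = 1 := by
    have h := pow_orderOf_eq_one x
    rw [hx] at h
    have h' := congrArg (fun u : Fˣ => (u : F)) h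
    simpa using h'
  have hx1 : (x : F) ≠ 1 := by
    intro h
    have h' : x = 1 := Units.ext h
    rw [h', orderOf_one] at hx
    norm_num at hx
  refine ⟨x, ?_⟩
  have h0 : ((x : F) - 1) * ((x : F) * x + x + 1) = 0 := by linear_combination hx3
  exact (mul_eq_zero.1 h0).resolve_left (sub_ne_zero.2 hx1)

theorem exists_A4_even [Fintype F] (h2 : (2 : F) = 0) (k : ℕ)
    (hF : Fintype.card F = 2 ^ (k + k)) :
    ∃ H : Subgroup PSL2, Nonempty (H ≃* alternatingGroup (Fin 4)) := by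
  obtain ⟨ζ, hζ⟩ := exists_zeta k hF
  have hζ3 : ζ * ζ * ζ = 1 := by linear_combination (ζ - 1) * hζ
  have hζ0 : ζ ≠ 0 := by
    rintro rfl
    simp at hζ
  have hζ1 : ζ ≠ 1 := by
    rintro rfl
    have h10 : (1 : F) = 0 := by linear_combination hζ - h2
    exact one_ne_zero h10
  obtain ⟨D, hD⟩ : ∃ D : SL2, D = dd (ζ * ζ) ζ hζ3 := ⟨_, rfl⟩
  have hu1 : uu (1 : F) * uu 1 = 1 := by
    rw [uu_mul, show (1 : F) + 1 = 0 by linear_combination h2, uu_zero]
  have huz : uu ζ * uu ζ = 1 := by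
    rw [uu_mul, show ζ + ζ = 0 by linear_combination ζ * h2, uu_zero]
  have hcomm : uu (1 : F) * uu ζ = uu ζ * uu 1 := by rw [uu_mul, uu_mul, add_comm]
  have hD1 : D * uu 1 = uu ζ * D := by
    rw [hD]; exact dd_uu _ _ _ 1 ζ (by ring)
  have hDz : D * uu ζ = uu (1 + ζ) * D := by
    rw [hD]
    exact dd_uu _ _ _ ζ (1 + ζ) (by linear_combination ζ * hζ - (ζ * (ζ + 1)) * h2)
  have hD3 : D * D * D = 1 := by
    rw [hD]
    exact dd_cube _ _ _ (by linear_combination (ζ * ζ * ζ + 1) * hζ3) hζ3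
  apply exists_A4 (mk (uu 1)) (mk (uu ζ)) (mk D)
  · rw [← map_mul, hu1, map_one]
  · rw [← map_mul, huz, map_one]
  · rw [← map_mul, ← map_mul, hcomm]
  · intro h
    have h' := mk_inj h2 (h.trans (map_one _).symm)
    rw [← uu_zero] at h'
    exact one_ne_zero (uu_inj h')
  · intro h
    have h' := mk_inj h2 (h.trans (map_one _).symm)
    rw [← uu_zero] at h'
    exact hζ0 (uu_inj h')
  · intro h
    exact hζ1 (uu_inj (mk_inj h2 h)).symm
  · rw [← map_inv, ← map_mul, ← map_mul, mul_inv_eq_iff_eq_mul.2 hD1]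
  · rw [← map_inv, ← map_mul, ← map_mul, ← map_mul, mul_inv_eq_iff_eq_mul.2 hDz, uu_mul]
  · rw [← map_pow, pow_three', hD3, map_one]

theorem fixed_line (h2 : (2 : F) = 0) (G : M2) (hGG : G * G = 1) (hG1 : G ≠ 1) :
    ∃ v₀ : Fin 2 → F, v₀ ≠ 0 ∧ G.mulVec v₀ = v₀ ∧
      ∀ v : Fin 2 → F, G.mulVec v = v → ∃ t : F, v = t • v₀ := by
  classical
  have hNN : (G - 1) * (G - 1) = 0 := by
    have e : (G - 1) * (G - 1) = G * G - G - G + 1 := by noncomm_ring
    rw [e, hGG]
    ext i j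
    simp only [Matrix.sub_apply, Matrix.add_apply, Matrix.zero_apply]
    linear_combination ((1 : M2) i j - G i j) * h2
  have hN0 : G - 1 ≠ 0 := sub_ne_zero.2 hG1
  obtain ⟨i, j, hij⟩ : ∃ i j, (G - 1) i j ≠ 0 := by
    by_contra hcon
    apply hN0
    ext i j
    by_contra h
    exact hcon ⟨i, j, h⟩
  obtain ⟨v₀, hv₀⟩ : ∃ v₀ : Fin 2 → F, v₀ = fun i' => (G - 1) i' j := ⟨_, rfl⟩
  have hv₀ne : v₀ ≠ 0 := by
    intro h
    apply hij
    have h' := congrFun h i
    rw [hv₀] at h'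
    exact h'
  have hNv : (G - 1).mulVec v₀ = 0 := by
    funext i'
    have h' := congrFun (congrFun hNN i') j
    rw [Matrix.mul_apply] at h'
    rw [hv₀]
    exact h'
  have hfix : G.mulVec v₀ = v₀ := by
    have e : G.mulVec v₀ = (G - 1).mulVec v₀ + v₀ := by
      rw [Matrix.sub_mulVec, Matrix.one_mulVec]; abel
    rw [e, hNv, zero_add]
  refine ⟨v₀, hv₀ne, hfix, ?_⟩
  intro v hv
  have hdet : v₀ 0 * v 1 - v 0 * v₀ 1 = 0 := by
    by_contra hne
    apply hG1
    obtain ⟨B, hB⟩ : ∃ B : M2, B = !![v₀ 0, v 0; v₀ 1, v 1] := ⟨_, rfl⟩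
    have hBdet : B.det = v₀ 0 * v 1 - v 0 * v₀ 1 := by rw [hB, Matrix.det_fin_two_of]
    have hunit : IsUnit B.det := by rw [hBdet]; exact isUnit_iff_ne_zero.2 hne
    have hGB : G * B = B := by
      have h00 := congrFun hfix 0
      have h01 := congrFun hfix 1
      have h10 := congrFun hv 0
      have h11 := congrFun hv 1
      simp only [Matrix.mulVec, dotProduct, Fin.sum_univ_two] at h00 h01 h10 h11
      rw [hB]
      apply ext2
      · rw [Matrix.mul_apply, Fin.sum_univ_two]; exact h00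
      · rw [Matrix.mul_apply, Fin.sum_univ_two]; exact h10
      · rw [Matrix.mul_apply, Fin.sum_univ_two]; exact h01
      · rw [Matrix.mul_apply, Fin.sum_univ_two]; exact h11
    calc G = G * (B * B⁻¹) := by rw [Matrix.mul_nonsing_inv B hunit, mul_one]
      _ = (G * B) * B⁻¹ := by rw [Matrix.mul_assoc]
      _ = 1 := by rw [hGB, Matrix.mul_nonsing_inv B hunit]
  by_cases h0 : v₀ 0 = 0
  · have h1 : v₀ 1 ≠ 0 := by
      intro h1
      apply hv₀ne
      funext a
      revert a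
      rw [Fin.forall_fin_two]
      exact ⟨h0, h1⟩
    have hv0 : v 0 = 0 := by
      rw [h0] at hdet
      have h3 : v 0 * v₀ 1 = 0 := by linear_combination -hdet
      exact (mul_eq_zero.1 h3).resolve_right h1
    refine ⟨v 1 / v₀ 1, ?_⟩
    funext a
    revert a
    rw [Fin.forall_fin_two]
    constructor
    · show v 0 = v 1 / v₀ 1 * v₀ 0
      rw [hv0, h0, mul_zero]
    · show v 1 = v 1 / v₀ 1 * v₀ 1
      rw [div_mul_cancel₀ _ h1]
  · refine ⟨v 0 / v₀ 0, ?_⟩
    funext a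
    revert a
    rw [Fin.forall_fin_two]
    constructor
    · show v 0 = v 0 / v₀ 0 * v₀ 0
      rw [div_mul_cancel₀ _ h0]
    · show v 1 = v 0 / v₀ 0 * v₀ 1
      rw [div_mul_eq_mul_div, eq_div_iff h0]
      linear_combination hdet

theorem no_A4_core (h2 : (2 : F) = 0) (hno3 : ∀ μ : F, μ * μ * μ = 1 → μ = 1)
    (x w : SL2) (hx : x * x = 1) (hx1 : x ≠ 1) (hw : w * w * w = 1)
    (hc : x * (w * x * w⁻¹) = (w * x * w⁻¹) * x) (hne : w * x * w⁻¹ ≠ x) : False := by
  obtain ⟨X, hX⟩ : ∃ X : M2, X = (x : M2) := ⟨_, rfl⟩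
  obtain ⟨W, hW⟩ : ∃ W : M2, W = (w : M2) := ⟨_, rfl⟩
  obtain ⟨W', hW'⟩ : ∃ W' : M2, W' = ((w⁻¹ : SL2) : M2) := ⟨_, rfl⟩
  have hXX : X * X = 1 := by
    rw [hX, ← Matrix.SpecialLinearGroup.coe_mul, hx]; rfl
  have hX1 : X ≠ 1 := by
    intro h
    apply hx1
    apply Subtype.ext
    rw [← hX, h]; rfl
  have hWW' : W * W' = 1 := by
    rw [hW, hW', ← Matrix.SpecialLinearGroup.coe_mul, mul_inv_cancel]; rfl
  have hW'W : W' * W = 1 := by
    rw [hW, hW', ← Matrix.SpecialLinearGroup.coe_mul, inv_mul_cancel]; rfl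
  have hW3 : W * W * W = 1 := by
    rw [hW, ← Matrix.SpecialLinearGroup.coe_mul, ← Matrix.SpecialLinearGroup.coe_mul, hw]; rfl
  have hcM : X * (W * X * W') = (W * X * W') * X := by
    have h' := congrArg (fun A : SL2 => (A : M2)) hc
    simp only [Matrix.SpecialLinearGroup.coe_mul] at h'
    rw [← hX, ← hW, ← hW'] at h'
    exact h'
  obtain ⟨v₀, hv₀ne, hfix, huniq⟩ := fixed_line h2 X hXX hX1
  obtain ⟨Y, hY⟩ : ∃ Y : M2, Y = W * X * W' := ⟨_, rfl⟩
  have hYY : Y * Y = 1 := by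
    rw [hY]
    calc W * X * W' * (W * X * W') = W * X * (W' * W) * X * W' := by
          simp only [Matrix.mul_assoc]
      _ = W * (X * X) * W' := by rw [hW'W, Matrix.mul_one]; simp only [Matrix.mul_assoc]
      _ = 1 := by rw [hXX, Matrix.mul_one, hWW']
  have hXY : X * Y = Y * X := by rw [hY]; exact hcM
  have h1 : X.mulVec (Y.mulVec v₀) = Y.mulVec v₀ := by
    rw [Matrix.mulVec_mulVec, hXY, ← Matrix.mulVec_mulVec, hfix]
  obtain ⟨t, ht⟩ := huniq _ h1
  have htt : t * t = 1 := by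
    have h3 : Y.mulVec (Y.mulVec v₀) = v₀ := by
      rw [Matrix.mulVec_mulVec, hYY, Matrix.one_mulVec]
    rw [ht, Matrix.mulVec_smul, ht, smul_smul] at h3
    by_contra hne1
    apply hv₀ne
    have h4 : (t * t - 1) • v₀ = 0 := by rw [sub_smul, h3, one_smul, sub_self]
    exact (smul_eq_zero.1 h4).resolve_left (sub_ne_zero.2 hne1)
  have ht1 : t = 1 := by
    have h5 : (t - 1) * (t - 1) = 0 := by linear_combination htt + (1 - t) * h2
    have h6 := mul_self_eq_zero.1 h5
    linear_combination h6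
  rw [ht1, one_smul] at ht
  have hXW' : X * W' = W' * Y := by
    rw [hY]
    simp only [← Matrix.mul_assoc]
    rw [hW'W, Matrix.one_mul]
  have h6 : X.mulVec (W'.mulVec v₀) = W'.mulVec v₀ := by
    rw [Matrix.mulVec_mulVec, hXW', ← Matrix.mulVec_mulVec, ht]
  obtain ⟨μ, hμ⟩ := huniq _ h6
  have h7 : v₀ = μ • W.mulVec v₀ := by
    have h' : W.mulVec (W'.mulVec v₀) = v₀ := by
      rw [Matrix.mulVec_mulVec, hWW', Matrix.one_mulVec]
    rw [hμ, Matrix.mulVec_smul] at h'
    exact h'.symm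
  have hμ0 : μ ≠ 0 := by
    rintro rfl
    apply hv₀ne
    rw [h7, zero_smul]
  obtain ⟨ν, hν⟩ : ∃ ν : F, ν = μ⁻¹ := ⟨_, rfl⟩
  have h8 : W.mulVec v₀ = ν • v₀ := by
    calc W.mulVec v₀ = (μ⁻¹ * μ) • W.mulVec v₀ := by rw [inv_mul_cancel₀ hμ0, one_smul]
      _ = μ⁻¹ • (μ • W.mulVec v₀) := by rw [smul_smul]
      _ = ν • v₀ := by rw [← h7, hν]
  have a1 : W.mulVec (W.mulVec v₀) = (ν * ν) • v₀ := by
    rw [h8, Matrix.mulVec_smul, h8, smul_smul]
  have a2 : W.mulVec (W.mulVec (W.mulVec v₀)) = (ν * ν * ν) • v₀ := by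
    rw [a1, Matrix.mulVec_smul, h8, smul_smul]
  have a3 : W.mulVec (W.mulVec (W.mulVec v₀)) = v₀ := by
    rw [Matrix.mulVec_mulVec, Matrix.mulVec_mulVec, hW3, Matrix.one_mulVec]
  have h9 : (ν * ν * ν) • v₀ = v₀ := a2.symm.trans a3
  have hν1 : ν = 1 := by
    apply hno3
    by_contra hne1
    apply hv₀ne
    have h4 : (ν * ν * ν - 1) • v₀ = 0 := by rw [sub_smul, h9, one_smul, sub_self]
    exact (smul_eq_zero.1 h4).resolve_left (sub_ne_zero.2 hne1)
  rw [hν1, one_smul] at h8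
  have e1 := congrFun h8 0
  have e2 := congrFun h8 1
  simp only [Matrix.mulVec, dotProduct, Fin.sum_univ_two] at e1 e2
  have hdetW : W 0 0 * W 1 1 - W 0 1 * W 1 0 = 1 := by rw [hW]; exact det_entries w
  have hDp : ((W 0 0 - 1) * (W 1 1 - 1) - W 0 1 * W 1 0) * v₀ 0 = 0 := by
    linear_combination (W 1 1 - 1) * e1 - W 0 1 * e2
  have hDq : ((W 0 0 - 1) * (W 1 1 - 1) - W 0 1 * W 1 0) * v₀ 1 = 0 := by
    linear_combination (W 0 0 - 1) * e2 - W 1 0 * e1
  have hD : (W 0 0 - 1) * (W 1 1 - 1) - W 0 1 * W 1 0 = 0 := by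
    by_contra hD0
    apply hv₀ne
    funext a
    revert a
    rw [Fin.forall_fin_two]
    exact ⟨(mul_eq_zero.1 hDp).resolve_left hD0, (mul_eq_zero.1 hDq).resolve_left hD0⟩
  have htr : W 0 0 + W 1 1 = 0 := by linear_combination hdetW - hD + h2
  have hww : w * w = 1 := by
    apply Subtype.ext
    apply ext2
    · rw [mul_entries]
      show (w : M2) 0 0 * (w : M2) 0 0 + (w : M2) 0 1 * (w : M2) 1 0 = (1 : M2) 0 0
      rw [Matrix.one_apply_eq, ← hW]
      linear_combination W 0 0 * htr - hdetW - h2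
    · rw [mul_entries]
      show (w : M2) 0 0 * (w : M2) 0 1 + (w : M2) 0 1 * (w : M2) 1 1 = (1 : M2) 0 1
      rw [Matrix.one_apply_ne (by decide), ← hW]
      linear_combination W 0 1 * htr
    · rw [mul_entries]
      show (w : M2) 1 0 * (w : M2) 0 0 + (w : M2) 1 1 * (w : M2) 1 0 = (1 : M2) 1 0
      rw [Matrix.one_apply_ne (by decide), ← hW]
      linear_combination W 1 0 * htr
    · rw [mul_entries]
      show (w : M2) 1 0 * (w : M2) 0 1 + (w : M2) 1 1 * (w : M2) 1 1 = (1 : M2) 1 1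
      rw [Matrix.one_apply_eq, ← hW]
      linear_combination W 1 1 * htr - hdetW - h2
  rw [hww, one_mul] at hw
  apply hne
  rw [hw]
  group

theorem no_cube_root [Fintype F] (n : ℕ) (hn : Odd n) (hF : Fintype.card F = 2 ^ n) (μ : F)
    (h : μ * μ * μ = 1) : μ = 1 := by
  have hμ0 : μ ≠ 0 := by
    rintro rfl
    simp at h
  have h1 : μ ^ (Fintype.card F - 1) = 1 := FiniteField.pow_card_sub_one_eq_one μ hμ0
  have h3 : μ ^ 3 = 1 := by rw [pow_three']; exact h
  have hd1 : orderOf μ ∣ 3 := orderOf_dvd_of_pow_eq_one h3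
  have hd2 : orderOf μ ∣ Fintype.card F - 1 := orderOf_dvd_of_pow_eq_one h1
  have hcop : Nat.gcd 3 (Fintype.card F - 1) = 1 := by
    rw [hF]
    obtain ⟨k, rfl⟩ := hn
    have h4 : 2 ^ (2 * k + 1) % 3 = 2 := by
      rw [pow_succ, pow_mul, Nat.mul_mod, Nat.pow_mod]; norm_num
    have h5 : 1 ≤ 2 ^ (2 * k + 1) := Nat.one_le_pow _ _ (by norm_num)
    have h6 : Nat.Coprime 3 (2 ^ (2 * k + 1) - 1) := by
      rw [Nat.Prime.coprime_iff_not_dvd (by norm_num)]
      omega
    exact h6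
  have h7 := Nat.dvd_gcd hd1 hd2
  rw [hcop] at h7
  exact orderOf_eq_one_iff.1 (Nat.dvd_one.1 h7)

end

theorem mem1 : Equiv.swap (0 : Fin 4) 1 * Equiv.swap 2 3 ∈ alternatingGroup (Fin 4) := by
  rw [Equiv.Perm.mem_alternatingGroup, map_mul, Equiv.Perm.sign_swap (by decide),
    Equiv.Perm.sign_swap (by decide)]; rfl

theorem mem2 : Equiv.swap (0 : Fin 4) 1 * Equiv.swap 1 2 ∈ alternatingGroup (Fin 4) := by
  rw [Equiv.Perm.mem_alternatingGroup, map_mul, Equiv.Perm.sign_swap (by decide),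
    Equiv.Perm.sign_swap (by decide)]; rfl

theorem A4_elems : ∃ a c : alternatingGroup (Fin 4), a * a = 1 ∧ a ≠ 1 ∧ c * c * c = 1 ∧
    a * (c * a * c⁻¹) = (c * a * c⁻¹) * a ∧ c * a * c⁻¹ ≠ a := by
  refine ⟨⟨Equiv.swap 0 1 * Equiv.swap 2 3, mem1⟩,
    ⟨Equiv.swap 0 1 * Equiv.swap 1 2, mem2⟩, ?_⟩
  decide

theorem result {F : Type*} [Field F] [Fintype F] (p n : ℕ) [Fact p.Prime] [CharP F p] (hF : Fintype.card F = p ^ n) : (∃ H : Subgroup (Matrix.ProjectiveSpecialLinearGroup (Fin 2) F), Nonempty (H ≃* alternatingGroup (Fin 4))) ↔ ¬ (p = 2 ∧ Odd n) := by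
  classical
  constructor
  · rintro ⟨H, ⟨e⟩⟩ ⟨rfl, hn⟩
    have h2 : (2 : F) = 0 := by
      have h' := CharP.cast_eq_zero F 2
      exact_mod_cast h'
    obtain ⟨a', c', r1, r2, r3, r4, r5⟩ := A4_elems
    let φ : alternatingGroup (Fin 4) →* Matrix.ProjectiveSpecialLinearGroup (Fin 2) F :=
      H.subtype.comp e.symm.toMonoidHom
    have hφ : Function.Injective φ := by
      intro u v huv
      have h' : e.symm u = e.symm v := Subtype.ext huv
      exact e.symm.injective h'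
    obtain ⟨x, hx⟩ := QuotientGroup.mk'_surjective
      (Subgroup.center (Matrix.SpecialLinearGroup (Fin 2) F)) (φ a')
    obtain ⟨w, hw⟩ := QuotientGroup.mk'_surjective
      (Subgroup.center (Matrix.SpecialLinearGroup (Fin 2) F)) (φ c')
    apply no_A4_core h2 (no_cube_root n hn hF) x w
    · apply mk_inj h2
      simp only [map_mul, map_one, hx]
      have h' := congrArg φ r1
      simpa only [map_mul, map_one] using h'
    · rintro rfl
      apply r2
      apply hφ
      rw [← hx, map_one, map_one]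
    · apply mk_inj h2
      simp only [map_mul, map_one, hw]
      have h' := congrArg φ r3
      simpa only [map_mul, map_one] using h'
    · apply mk_inj h2
      simp only [map_mul, map_inv, hx, hw]
      have h' := congrArg φ r4
      simpa only [map_mul, map_inv] using h'
    · intro h
      apply r5
      apply hφ
      have h' := congrArg (QuotientGroup.mk'
        (Subgroup.center (Matrix.SpecialLinearGroup (Fin 2) F))) h
      simp only [map_mul, map_inv, hx, hw] at h'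
      simpa only [map_mul, map_inv] using h'
  · intro h
    by_cases hp : p = 2
    · subst hp
      have h2 : (2 : F) = 0 := by
        have h' := CharP.cast_eq_zero F 2
        exact_mod_cast h'
      have hev : Even n := by
        rcases Nat.even_or_odd n with h' | h'
        · exact h'
        · exact absurd ⟨rfl, h'⟩ h
      obtain ⟨k, rfl⟩ := hev
      exact exists_A4_even h2 k hF
    · have hodd : Odd (Fintype.card F) := by
        rw [hF]
        exact Odd.pow ((Fact.out : p.Prime).odd_of_ne_two hp)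
      exact exists_A4_odd hodd

end Cfsg.Agent.S0802
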