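import Cfsg.Statements.S3377
import Mathlib
import Cfsg.Agent.Lib.Helper6.A5Pres

set_option autoImplicit false
open Cfsg

namespace Cfsg.Agent.S3377

open Equiv in
/-- image of the first generator -/
def a5a : alternatingGroup (Fin 5) := ⟨c[(0 : Fin 5), 4, 2], by rw [Equiv.Perm.mem_alternatingGroup]; decide⟩

open Equiv in
/-- image of the second generator -/
def a5b : alternatingGroup (Fin 5) := ⟨c[(0 : Fin 5), 1, 2, 3, 4], by rw [Equiv.Perm.mem_alternatingGroup]; decide⟩

/-- the generator assignment -/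
def a5f : Fin 2 → alternatingGroup (Fin 5) := ![a5a, a5b]

/-- spanning tree words -/
def a5words : List (List (Fin 2)) :=
  [[], [0], [1], [0, 0], [0, 1], [1, 0], [1, 1], [0, 0, 1], [0, 1, 0], [0, 1, 1], [1, 0, 0], [1, 1, 0], [1, 1, 1], [0, 0, 1, 0], [0, 0, 1, 1], [0, 1, 0, 0], [0, 1, 1, 0], [0, 1, 1, 1], [1, 0, 0, 1], [1, 1, 0, 0], [1, 1, 1, 0], [0, 0, 1, 0, 0], [0, 0, 1, 1, 0], [0, 0, 1, 1, 1], [0, 1, 0, 0, 1], [0, 1, 1, 0, 0], [0, 1, 1, 1, 0], [1, 0, 0, 1, 1], [1, 1, 0, 0, 1], [0, 0, 1, 0, 0, 1], [0, 0, 1, 1, 0, 0], [0, 0, 1, 1, 1, 0], [0, 1, 0, 0, 1, 1], [0, 1, 1, 0, 0, 1], [1, 0, 0, 1, 1, 0], [1, 0, 0, 1, 1, 1], [1, 1, 0, 0, 1, 1], [0, 0, 1, 0, 0, 1, 1], [0, 0, 1, 1, 0, 0, 1], [0, 1, 0, 0, 1, 1, 0], [0, 1, 0, 0, 1, 1, 1], [0, 1, 1, 0, 0, 1, 1], [1, 0, 0, 1, 1, 0, 0], [1, 0, 0, 1, 1, 1, 0], [1, 1, 0, 0, 1, 1, 0], [0, 0, 1, 0, 0, 1, 1, 0], [0, 0, 1, 0, 0, 1, 1, 1], [0, 0, 1, 1, 0, 0, 1, 1], [0, 1, 0, 0, 1, 1, 0, 0], [0, 1, 0, 0, 1, 1, 1, 0], [0, 1,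 1, 0, 0, 1, 1, 0], [1, 0, 0, 1, 1, 0, 0, 1], [1, 1, 0, 0, 1, 1, 0, 0], [0, 0, 1, 0, 0, 1, 1, 0, 0], [0, 0, 1, 0, 0, 1, 1, 1, 0], [0, 0, 1, 1, 0, 0, 1, 1, 0], [0, 1, 1, 0, 0, 1, 1, 0, 0], [1, 0, 0, 1, 1, 0, 0, 1, 1], [1, 1, 0, 0, 1, 1, 0, 0, 1], [0, 1, 1, 0, 0, 1, 1, 0, 0, 1]]

set_option maxRecDepth 1000000 in
set_option maxHeartbeats 4000000 in
theorem a5_surj : ∀ g : alternatingGroup (Fin 5), ∃ w ∈ a5words, (w.map a5f).prod = g := by
  decide

set_option maxRecDepth 100000 in
theorem a5_rel1 : a5a ^ 3 = 1 := by decide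
set_option maxRecDepth 100000 in
theorem a5_rel2 : a5b ^ 5 = 1 := by decide
set_option maxRecDepth 100000 in
theorem a5_rel3 : (a5a * a5b) ^ 2 = 1 := by decide


/-- The alternating group of degree 5 has the presentation ⟨x, y | x³ = 1, y⁵ = 1, (xy)² = 1⟩: the group so presented is isomorphic to Alt(5). -/
theorem result :
    Nonempty (PresentedGroup ({FreeGroup.of (0 : Fin 2) ^ 3, FreeGroup.of (1 : Fin 2) ^ 5,
        (FreeGroup.of (0 : Fin 2) * FreeGroup.of 1) ^ 2} : Set (FreeGroup (Fin 2))) ≃* alternatingGroup (Fin 5)) := by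
  classical
  set rels : Set (FreeGroup (Fin 2)) := {FreeGroup.of (0 : Fin 2) ^ 3, FreeGroup.of (1 : Fin 2) ^ 5,
        (FreeGroup.of (0 : Fin 2) * FreeGroup.of 1) ^ 2} with hrels
  let X : PresentedGroup rels := PresentedGroup.of 0
  let Y : PresentedGroup rels := PresentedGroup.of 1
  have hx : X ^ 3 = 1 := by
    have : PresentedGroup.mk rels (FreeGroup.of 0 ^ 3) = 1 :=
      PresentedGroup.one_of_mem (by simp [hrels])
    rw [map_pow] at this; exact this
  have hy : Y ^ 5 = 1 := by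
    have : PresentedGroup.mk rels (FreeGroup.of 1 ^ 5) = 1 :=
      PresentedGroup.one_of_mem (by simp [hrels])
    rw [map_pow] at this; exact this
  have hxy : (X * Y) ^ 2 = 1 := by
    have : PresentedGroup.mk rels ((FreeGroup.of 0 * FreeGroup.of 1) ^ 2) = 1 :=
      PresentedGroup.one_of_mem (by simp [hrels])
    rw [map_pow, map_mul] at this; exact this
  obtain ⟨l, hl, h1, hX, hY⟩ := Cfsg.Agent.Lib.Helper6.a5_table X Y hx hy hxy
  -- the submonoid of elements preserving l under right multiplication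
  let T : Submonoid (PresentedGroup rels) :=
    { carrier := {g | ∀ u ∈ l, u * g ∈ l}
      one_mem' := fun u hu => by simpa using hu
      mul_mem' := fun {g h} hg hh u hu => by
        have := hh _ (hg u hu)
        simpa [mul_assoc] using this }
  have hXT : X ∈ T := hX
  have hYT : Y ∈ T := hY
  have hXi : X⁻¹ ∈ T := by
    have : X⁻¹ = X * X := by
      rw [inv_eq_iff_mul_eq_one, ← hx]; simp [pow_succ, mul_assoc]
    rw [this]; exact T.mul_mem hXT hXT
  have hYi : Y⁻¹ ∈ T := by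
    have : Y⁻¹ = Y * Y * Y * Y := by
      rw [inv_eq_iff_mul_eq_one, ← hy]; simp [pow_succ, mul_assoc]
    rw [this]; exact T.mul_mem (T.mul_mem (T.mul_mem hYT hYT) hYT) hYT
  have hTtop : ∀ g : PresentedGroup rels, g ∈ T := by
    intro g
    have hg : g ∈ Subgroup.closure (Set.range (PresentedGroup.of : Fin 2 → PresentedGroup rels)) := by
      rw [PresentedGroup.closure_range_of]; trivial
    induction hg using Subgroup.closure_induction'' with
    | mem x hx =>
      obtain ⟨i, rfl⟩ := hx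
      fin_cases i
      · exact hXT
      · exact hYT
    | inv_mem x hx =>
      obtain ⟨i, rfl⟩ := hx
      fin_cases i
      · exact hXi
      · exact hYi
    | one => exact T.one_mem
    | mul x y _ _ hx hy => exact T.mul_mem hx hy
  have hall : ∀ g : PresentedGroup rels, g ∈ l := by
    intro g
    have := hTtop g 1 h1
    simpa using this
  have hfin : Finite (PresentedGroup rels) := by
    apply Set.finite_univ_iff.mp
    apply Set.Finite.subset l.finite_toSet
    intro g _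
    exact hall g
  have hcard : Nat.card (PresentedGroup rels) ≤ 60 := by
    have : Fintype (PresentedGroup rels) := Fintype.ofFinite _
    rw [Nat.card_eq_fintype_card, ← Finset.card_univ]
    calc Finset.univ.card ≤ l.toFinset.card := by
          apply Finset.card_le_card
          intro g _
          simpa using hall g
      _ ≤ l.length := List.toFinset_card_le l
      _ = 60 := hl
  -- the hom to A5
  have hf : ∀ r ∈ rels, FreeGroup.lift a5f r = 1 := by
    intro r hr
    simp only [hrels, Set.mem_insert_iff, Set.mem_singleton_iff] at hr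
    rcases hr with rfl | rfl | rfl
    · simpa [a5f] using a5_rel1
    · simpa [a5f] using a5_rel2
    · simpa [a5f] using a5_rel3
  let φ : PresentedGroup rels →* alternatingGroup (Fin 5) := PresentedGroup.toGroup hf
  have hsurj : Function.Surjective φ := by
    intro g
    obtain ⟨w, _, hw⟩ := a5_surj g
    refine ⟨(w.map (PresentedGroup.of : Fin 2 → PresentedGroup rels)).prod, ?_⟩
    rw [map_list_prod, List.map_map, ← hw]
    congr 1
  have hA5 : Nat.card (alternatingGroup (Fin 5)) = 60 := by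
    rw [Nat.card_eq_fintype_card]; decide
  have hbij : Function.Bijective φ := by
    apply Function.Surjective.bijective_of_nat_card_le hsurj
    rw [hA5]; exact hcard
  exact ⟨MulEquiv.ofBijective φ hbij⟩

end Cfsg.Agent.S3377
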