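import Mathlib
import Cfsg.Statements.S0804
import Cfsg.Agent.S0807
import Cfsg.Agent.S0809
import Cfsg.Agent.S0802
import Cfsg.Agent.S3377
import Cfsg.Agent.S0268
import Cfsg.Agent.Lib.Helper1.PSL2Small

set_option autoImplicit false
open Cfsg

namespace Cfsg.Agent.S0804

open Cfsg.Agent.S0809 Cfsg.Agent.S0807

/-! ### recognising `A₅` from the presentation -/

theorem exists_A5 {G : Type*} [Group G] (x y : G) (hx : x ^ 3 = 1) (hy : y ^ 5 = 1)
    (hxy : (x * y) ^ 2 = 1) (hne : x ≠ 1) :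
    ∃ H : Subgroup G, Nonempty (H ≃* alternatingGroup (Fin 5)) := by
  obtain ⟨e⟩ := Cfsg.Agent.S3377.result
  obtain ⟨rels, hrels⟩ : ∃ rels : Set (FreeGroup (Fin 2)),
      rels = {FreeGroup.of (0 : Fin 2) ^ 3, FreeGroup.of (1 : Fin 2) ^ 5,
        (FreeGroup.of (0 : Fin 2) * FreeGroup.of 1) ^ 2} := ⟨_, rfl⟩
  rw [← hrels] at e
  let f : Fin 2 → G := ![x, y]
  have hf : ∀ r ∈ rels, FreeGroup.lift f r = 1 := by
    intro r hr
    rw [hrels] at hr
    rcases hr with rfl | rfl | rfl
    · rw [map_pow, FreeGroup.lift_apply_of]; exact hx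
    · rw [map_pow, FreeGroup.lift_apply_of]; exact hy
    · rw [map_pow, map_mul, FreeGroup.lift_apply_of, FreeGroup.lift_apply_of]; exact hxy
  let ψ₀ : PresentedGroup rels →* G := PresentedGroup.toGroup hf
  let ψ : alternatingGroup (Fin 5) →* G := ψ₀.comp e.symm.toMonoidHom
  have hsimple : IsSimpleGroup (alternatingGroup (Fin 5)) := alternatingGroup.isSimpleGroup_five
  rcases hsimple.eq_bot_or_eq_top_of_normal ψ.ker inferInstance with h | h
  · have hinj : Function.Injective ψ := (MonoidHom.ker_eq_bot_iff ψ).1 h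
    exact ⟨ψ.range, ⟨(MonoidHom.ofInjective hinj).symm⟩⟩
  · exfalso
    apply hne
    have h1 : e (PresentedGroup.of 0) ∈ ψ.ker := by rw [h]; exact Subgroup.mem_top _
    have h2 : ψ (e (PresentedGroup.of 0)) = 1 := MonoidHom.mem_ker.1 h1
    have h3 : ψ (e (PresentedGroup.of 0)) = x := by
      show ψ₀ (e.symm (e (PresentedGroup.of 0))) = x
      rw [e.symm_apply_apply]
      exact PresentedGroup.toGroup.of hf
    rw [← h3]; exact h2

/-! ### the golden ratio in a finite field -/

instance fact_prime_five : Fact (Nat.Prime 5) := ⟨by norm_num⟩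

theorem zmod5_key : ∀ z : ZMod 5, z * (z ^ 2 - 1) = 0 →
    quadraticChar (ZMod 5) z ≠ -1 ∧ quadraticChar (ZMod 5) (-z) ≠ -1 := by decide

theorem zmod5_key2 : ∀ z : ZMod 5, z * (z ^ 2 - 1) = 0 → z ≠ 2 ∧ z ≠ -2 := by decide

theorem cast_key (q : ℕ) (hq : 1 ≤ q) (h : 5 ∣ q * (q ^ 2 - 1)) :
    (q : ZMod 5) * ((q : ZMod 5) ^ 2 - 1) = 0 := by
  have h1 : ((q * (q ^ 2 - 1) : ℕ) : ZMod 5) = 0 := (ZMod.natCast_eq_zero_iff _ _).2 h
  rw [Nat.cast_mul, Nat.cast_sub (Nat.one_le_pow _ _ hq), Nat.cast_pow, Nat.cast_one] at h1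
  exact h1

section

variable {F : Type*} [Field F]

local notation "SL2" => Matrix.SpecialLinearGroup (Fin 2) F
local notation "M2" => Matrix (Fin 2) (Fin 2) F
local notation "PSL2" => Matrix.ProjectiveSpecialLinearGroup (Fin 2) F
local notation "mk" => (QuotientGroup.mk' (Subgroup.center (Matrix.SpecialLinearGroup (Fin 2) F)))

theorem exists_phi [Fintype F] (h : 5 ∣ Fintype.card F * (Fintype.card F ^ 2 - 1)) :
    ∃ φ : F, φ * φ = φ + 1 := by
  classical
  have hq1 : 1 ≤ Fintype.card F := Fintype.card_pos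
  have hz := cast_key _ hq1 h
  by_cases hodd : Odd (Fintype.card F)
  · have h2 : (2 : F) ≠ 0 := Cfsg.Agent.S0268.two_ne_zero_of_odd_card hodd
    have hch : ringChar F ≠ 2 := by
      intro hc
      have := FiniteField.even_card_iff_char_two.1 hc
      have := Nat.odd_iff.1 hodd
      omega
    have hsq : IsSquare ((5 : ℕ) : F) := by
      rw [FiniteField.isSquare_odd_prime_iff hch (by norm_num)]
      obtain ⟨k1, k2⟩ := zmod5_key _ hz
      rcases Nat.odd_mod_four_iff.1 (Nat.odd_iff.1 hodd) with h4 | h4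
      · rw [ZMod.χ₄_nat_one_mod_four h4, Int.cast_one, one_mul]; exact k1
      · rw [ZMod.χ₄_nat_three_mod_four h4, Int.cast_neg, Int.cast_one, neg_one_mul]; exact k2
    obtain ⟨r, hr⟩ := hsq
    have hr' : (5 : F) = r * r := by exact_mod_cast hr
    refine ⟨(1 + r) / 2, ?_⟩
    field_simp
    linear_combination (-1 : F) * hr'
  · have hch : ringChar F = 2 := by
      rw [FiniteField.even_card_iff_char_two]
      rcases Nat.even_or_odd (Fintype.card F) with h' | h'
      · exact Nat.even_iff.1 h'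
      · exact absurd h' hodd
    have h2 : (2 : F) = 0 := by
      have h' := ringChar.Nat.cast_ringChar (R := F)
      rw [hch] at h'
      exact_mod_cast h'
    obtain ⟨n, -, hn⟩ := FiniteField.card F (ringChar F)
    rw [hch] at hn
    rcases Nat.even_or_odd (n : ℕ) with ⟨k, hk⟩ | ⟨j, hj⟩
    · rw [hk] at hn
      obtain ⟨ζ, hζ⟩ := Cfsg.Agent.S0802.exists_zeta k hn
      refine ⟨ζ, ?_⟩
      linear_combination hζ - (ζ + 1) * h2
    · exfalso
      rw [hn, hj] at hz
      obtain ⟨k1, k2⟩ := zmod5_key2 _ hz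
      have e : ((2 ^ (2 * j + 1) : ℕ) : ZMod 5) = 2 * (-1) ^ j := by
        rw [pow_succ, pow_mul, Nat.cast_mul, Nat.cast_pow, mul_comm]
        congr 1
      rw [e] at k1 k2
      rcases neg_one_pow_eq_or (ZMod 5) j with h' | h'
      · rw [h', mul_one] at k1; exact k1 rfl
      · rw [h', mul_neg, mul_one] at k2; exact k2 rfl

end

section

variable {F : Type*} [Field F]

local notation "SL2" => Matrix.SpecialLinearGroup (Fin 2) F
local notation "M2" => Matrix (Fin 2) (Fin 2) F
local notation "PSL2" => Matrix.ProjectiveSpecialLinearGroup (Fin 2) F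
local notation "mk" => (QuotientGroup.mk' (Subgroup.center (Matrix.SpecialLinearGroup (Fin 2) F)))

open Polynomial

theorem aeval_charpoly_mul (A : SL2) (t : F) (ht : (A : M2).trace = t) (p r : F[X])
    (h : p = r * (X ^ 2 - C t * X + 1)) : aeval (A : M2) p = 0 := by
  have hchar : (A : M2).charpoly = X ^ 2 - C t * X + 1 := by
    rw [Matrix.charpoly_fin_two, ht, A.2, C_1]
  rw [h, ← hchar, map_mul, Matrix.aeval_self_charpoly, mul_zero]

theorem pow3_of_trace (A : SL2) (ht : (A : M2).trace = 1) : A ^ 3 = negOne F := by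
  have h := aeval_charpoly_mul A 1 ht (X ^ 3 + 1) (X + 1) (by rw [C_1]; ring)
  simp only [map_add, map_pow, aeval_X, map_one] at h
  apply Subtype.ext
  rw [Matrix.SpecialLinearGroup.coe_pow, coe_negOne]
  exact eq_neg_of_add_eq_zero_left h

theorem pow2_of_trace (A : SL2) (ht : (A : M2).trace = 0) : A ^ 2 = negOne F := by
  have h := aeval_charpoly_mul A 0 ht (X ^ 2 + 1) 1 (by rw [C_0]; ring)
  simp only [map_add, map_pow, aeval_X, map_one] at h
  apply Subtype.ext
  rw [Matrix.SpecialLinearGroup.coe_pow, coe_negOne]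
  exact eq_neg_of_add_eq_zero_left h

theorem pow5_of_trace (A : SL2) (φ : F) (hφ : φ * φ = φ + 1) (ht : (A : M2).trace = φ) :
    A ^ 5 = negOne F := by
  have hc : (C φ : F[X]) * C φ = C φ + 1 := by rw [← C_mul, hφ, C_add, C_1]
  have h := aeval_charpoly_mul A φ ht (X ^ 5 + 1) (X ^ 3 + C φ * X ^ 2 + C φ * X + 1)
    (by linear_combination (X ^ 3 + X ^ 2) * hc)
  simp only [map_add, map_pow, aeval_X, map_one] at h
  apply Subtype.ext
  rw [Matrix.SpecialLinearGroup.coe_pow, coe_negOne]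
  exact eq_neg_of_add_eq_zero_left h

theorem exists_conic [Fintype F] (φ : F) (hφ : φ * φ = φ + 1) :
    ∃ u w : F, u * u + u * w + w * w - φ * u + 1 = 0 := by
  by_cases h2 : (2 : F) = 0
  · exact ⟨0, 1, by linear_combination h2⟩
  by_cases h3 : (3 : F) = 0
  · exact ⟨φ - 1, φ - 1, by linear_combination (φ - 1) ^ 2 * h3 - hφ⟩
  have hch : ringChar F ≠ 2 := by
    intro hc
    have h' := ringChar.Nat.cast_ringChar (R := F)
    rw [hc] at h'
    exact h2 (by exact_mod_cast h')
  have hodd := FiniteField.odd_card_of_char_ne_two hch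
  obtain ⟨s, t, hst⟩ := FiniteField.exists_root_sum_quadratic
    (f := C (1 : F) * X ^ 2 + C (-φ) * X + C 1) (g := C (3 : F) * X ^ 2 + C φ * X + C 0)
    (degree_quadratic one_ne_zero) (degree_quadratic h3) hodd
  refine ⟨s - t, 2 * t, ?_⟩
  simp only [eval_add, eval_mul, eval_C, eval_pow, eval_X] at hst
  linear_combination hst

def mX (F : Type*) [Field F] : Matrix.SpecialLinearGroup (Fin 2) F :=
  ⟨!![1, 1; -1, 0], by rw [Matrix.det_fin_two_of]; ring⟩

def mY (u w φ : F) (h : u * u + u * w + w * w - φ * u + 1 = 0) : SL2 :=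
  ⟨!![u, u + w; w, φ - u], by rw [Matrix.det_fin_two_of]; linear_combination (-1 : F) * h⟩

theorem mX_not_center : mX F ∉ Subgroup.center SL2 := by
  rw [mem_center_iff']
  rintro (h | h)
  · have h1 := congrArg (fun A : SL2 => (A : M2) 0 1) h
    change (1 : F) = ((1 : SL2) : M2) 0 1 at h1
    rw [Matrix.SpecialLinearGroup.coe_one, Matrix.one_apply_ne (by decide)] at h1
    exact one_ne_zero h1
  · have h1 := congrArg (fun A : SL2 => (A : M2) 0 1) h
    change (1 : F) = ((negOne F : SL2) : M2) 0 1 at h1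
    rw [coe_negOne, Matrix.neg_apply, Matrix.one_apply_ne (by decide), neg_zero] at h1
    exact one_ne_zero h1

theorem exists_A5_PSL [Fintype F] (h : 5 ∣ Fintype.card F * (Fintype.card F ^ 2 - 1)) :
    ∃ H : Subgroup PSL2, Nonempty (H ≃* alternatingGroup (Fin 5)) := by
  obtain ⟨φ, hφ⟩ := exists_phi h
  obtain ⟨u, w, hc⟩ := exists_conic φ hφ
  have hX : ((mX F : SL2) : M2).trace = 1 := by
    show (!![1, 1; -1, 0] : M2).trace = 1
    rw [Matrix.trace_fin_two_of]; ring
  have hY : ((mY u w φ hc : SL2) : M2).trace = φ := by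
    show (!![u, u + w; w, φ - u] : M2).trace = φ
    rw [Matrix.trace_fin_two_of]; ring
  have hXY : ((mX F * mY u w φ hc : SL2) : M2).trace = 0 := by
    rw [Matrix.trace_fin_two, mul_entries, mul_entries]
    show (1 : F) * u + 1 * w + ((-1) * (u + w) + 0 * (φ - u)) = 0
    ring
  have hnZ : negOne F ∈ Subgroup.center SL2 := (mem_center_iff' _).2 (Or.inr rfl)
  have hmk1 : mk (negOne F) = 1 := (QuotientGroup.eq_one_iff _).2 hnZ
  apply exists_A5 (mk (mX F)) (mk (mY u w φ hc))
  · rw [← map_pow, pow3_of_trace _ hX]; exact hmk1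
  · rw [← map_pow, pow5_of_trace _ φ hφ hY]; exact hmk1
  · rw [← map_mul, ← map_pow, pow2_of_trace _ hXY]; exact hmk1
  · intro h1; exact mX_not_center ((QuotientGroup.eq_one_iff _).1 h1)

end

/-- PSL_2(q) has a subgroup isomorphic to A_5 iff 5 ∣ q(q² - 1). -/
theorem result {F : Type*} [Field F] [Fintype F] {q : ℕ} (hF : Fintype.card F = q) : (∃ H : Subgroup (Matrix.ProjectiveSpecialLinearGroup (Fin 2) F), Nonempty (H ≃* alternatingGroup (Fin 5))) ↔ 5 ∣ q * (q ^ 2 - 1) := by
  constructor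
  · rintro ⟨H, ⟨e⟩⟩
    have h60 : Nat.card H = 60 := by
      rw [Nat.card_congr e.toEquiv, nat_card_alternatingGroup, Nat.card_fin]
      rfl
    have hdvd : 5 ∣ Nat.card (Matrix.ProjectiveSpecialLinearGroup (Fin 2) F) :=
      Dvd.dvd.trans ⟨12, h60⟩ (Subgroup.card_subgroup_dvd_card H)
    have hc := Cfsg.Agent.Lib.Helper1.card_PSL2 F
    rw [hF] at hc
    have h5 : 5 ∣ (q ^ 2 - 1) * (q ^ 2 - q) := by
      rw [← hc]; exact Dvd.dvd.mul_left (Dvd.dvd.mul_left hdvd _) _
    have hp5 : Nat.Prime 5 := by norm_num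
    have hq1 : 1 ≤ q := by rw [← hF]; exact Fintype.card_pos
    rcases (Nat.Prime.dvd_mul hp5).1 h5 with h | h
    · exact Dvd.dvd.mul_left h q
    · have e1 : q ^ 2 - q = q * (q - 1) := by rw [Nat.mul_sub, mul_one, sq]
      rw [e1] at h
      rcases (Nat.Prime.dvd_mul hp5).1 h with h' | h'
      · exact Dvd.dvd.mul_right h' _
      · have e2 : q ^ 2 - 1 = (q + 1) * (q - 1) := by
          have := Nat.sq_sub_sq q 1
          rwa [one_pow] at this
        rw [e2]
        exact Dvd.dvd.mul_left (Dvd.dvd.mul_left h' _) _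
  · intro h
    apply exists_A5_PSL
    rw [hF]; exact h

end Cfsg.Agent.S0804
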