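import Mathlib
import Cfsg.Statements.S0254
import Cfsg.Agent.S0804
import Cfsg.Agent.Lib.Helper1.PSL2Small

set_option autoImplicit false
open Cfsg

namespace Cfsg.Agent.S0254

/-- a simple group of order `n!/2` with a subgroup of index `n` is alternating -/
theorem simple_index_alt {G : Type*} [Group G] [Finite G] [IsSimpleGroup G] (H : Subgroup G)
    (n : ℕ) (hidx : H.index = n) (hn : 2 ≤ n) (hcard : 2 * Nat.card G = n.factorial) :
    Nonempty (G ≃* alternatingGroup (Fin n)) := by
  classical
  haveI : Fintype (G ⧸ H) := Fintype.ofFinite _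
  let φ : G →* Equiv.Perm (G ⧸ H) := MulAction.toPermHom G (G ⧸ H)
  have hker : φ.ker = H.normalCore := (Subgroup.normalCore_eq_ker H).symm
  have hinj : Function.Injective φ := by
    rcases IsSimpleGroup.eq_bot_or_eq_top_of_normal φ.ker inferInstance with h | h
    · exact (MonoidHom.ker_eq_bot_iff φ).1 h
    · exfalso
      have hH : H = ⊤ := by
        rw [eq_top_iff, ← h, hker]
        exact Subgroup.normalCore_le H
      rw [hH, Subgroup.index_top] at hidx
      omega
  have hR : Nat.card φ.range = Nat.card G :=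
    (Nat.card_congr (MonoidHom.ofInjective hinj).toEquiv).symm
  have hP : Nat.card (Equiv.Perm (G ⧸ H)) = n.factorial := by
    rw [Nat.card_perm, ← hidx]; rfl
  have hGpos : 0 < Nat.card G := Nat.card_pos
  have hidx2 : φ.range.index = 2 := by
    have h1 := Subgroup.index_mul_card φ.range
    rw [hR, hP, ← hcard] at h1
    exact Nat.eq_of_mul_eq_mul_right hGpos h1
  have hrange : φ.range = alternatingGroup (G ⧸ H) :=
    Equiv.Perm.eq_alternatingGroup_of_index_eq_two hidx2
  have hc : Fintype.card (G ⧸ H) = n := by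
    rw [← Nat.card_eq_fintype_card, ← hidx]; rfl
  exact ⟨((MonoidHom.ofInjective hinj).trans (MulEquiv.subgroupCongr hrange)).trans
    (Equiv.altCongrHom (Fintype.equivFinOfCardEq hc))⟩

/-- PSL_2(9) is isomorphic to A_6. -/
theorem result {F : Type*} [Field F] [Fintype F] (hF : Fintype.card F = 9) : Nonempty (Matrix.ProjectiveSpecialLinearGroup (Fin 2) F ≃* alternatingGroup (Fin 6)) := by
  have hG : Nat.card (Matrix.ProjectiveSpecialLinearGroup (Fin 2) F) = 360 := by
    have h := Cfsg.Agent.Lib.Helper1.card_PSL2 F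
    rw [hF] at h
    have h2 : Nat.gcd 2 (9 - 1) = 2 := by decide
    rw [h2] at h
    omega
  haveI : IsSimpleGroup (Matrix.ProjectiveSpecialLinearGroup (Fin 2) F) :=
    Matrix.ProjectiveSpecialLinearGroup.rank_two_simple (by
      rw [Nat.card_eq_fintype_card, hF]; norm_num)
  obtain ⟨H, ⟨e⟩⟩ := (Cfsg.Agent.S0804.result hF).2 (by norm_num)
  have hH : Nat.card H = 60 := by
    rw [Nat.card_congr e.toEquiv, nat_card_alternatingGroup, Nat.card_fin]
    rfl
  have hidx : H.index = 6 := by
    have h1 := Subgroup.index_mul_card H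
    rw [hH, hG] at h1
    omega
  exact simple_index_alt H 6 hidx (by norm_num) (by rw [hG]; rfl)

end Cfsg.Agent.S0254
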