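import Mathlib
import Cfsg.Statements.S0255
import Cfsg.Agent.S0495
import Cfsg.Agent.S0249
import Cfsg.Agent.Lib.Helper1.SLCard

set_option autoImplicit false
open Cfsg

namespace Cfsg.Agent.S0255

theorem psl32_card {K : Type*} [Field K] [Fintype K] (hK : Fintype.card K = 2) :
    Nat.card (Matrix.ProjectiveSpecialLinearGroup (Fin 3) K) = 168 := by
  have h := Cfsg.Agent.Lib.Helper1.card_PSL_field (F := K) 3 (by norm_num)
  rw [hK, Fin.prod_univ_three] at h
  norm_num at h
  omega

/-- PSL_2 over the field with 7 elements is isomorphic to PSL_3 over the field with 2 elements. -/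
theorem result {F K : Type*} [Field F] [Fintype F] [Field K] [Fintype K] (hF : Fintype.card F = 7) (hK : Fintype.card K = 2) : Nonempty (Matrix.ProjectiveSpecialLinearGroup (Fin 2) F ≃* Matrix.ProjectiveSpecialLinearGroup (Fin 3) K) := by
  obtain ⟨hs, hc⟩ := Cfsg.Agent.S0495.psl27_simple_card hF
  haveI := hs
  haveI : IsSimpleGroup (Matrix.ProjectiveSpecialLinearGroup (Fin 3) K) :=
    Cfsg.Agent.S0249.result 3 (by norm_num)
  exact Cfsg.Agent.S0495.iso_of_simple_168 hc (psl32_card hK)

end Cfsg.Agent.S0255
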