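import Cfsg.Statements.S0287
import Mathlib
import Cfsg.Agent.Lib.Helper2.QuadPlus
-- import your own Cfsg.Agent.* helpers here

set_option autoImplicit false
open Cfsg

namespace Cfsg.Agent.S0287

open Cfsg.Agent.Lib.Helper2.Quad

theorem Zp_sub_one (q : ℕ) (hq : 0 < q) (i : ℕ) :
    Zp q (i + 1) - 1 = (q ^ (i + 1) - 1) * (q ^ i + 1) := by
  obtain ⟨b, hb⟩ : ∃ b, q ^ (i + 1) = b + 1 :=
    ⟨q ^ (i + 1) - 1, by have := Nat.one_le_pow (i + 1) q hq; omega⟩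
  show q ^ (i + 1) + (q ^ (i + 1) - 1) * q ^ i - 1 = _
  rw [hb, Nat.add_sub_cancel]
  apply Nat.sub_eq_of_eq_add
  ring

theorem prodP (q : ℕ) (hq : 0 < q) (n : ℕ) :
    ∏ i ∈ Finset.range (n + 1), ((Zp q (i + 1) - 1) * q ^ (2 * i)) =
      2 * q ^ ((n + 1) * n) * (q ^ (n + 1) - 1) *
        ∏ i ∈ Finset.range n, (q ^ (2 * (i + 1)) - 1) := by
  induction n with
  | zero =>
    rw [Finset.prod_range_one, Finset.prod_range_zero, Zp_sub_one q hq 0]
    simp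
    ring
  | succ n ih =>
    rw [Finset.prod_range_succ, ih, Finset.prod_range_succ (fun i => q ^ (2 * (i + 1)) - 1),
      Zp_sub_one q hq (n + 1)]
    have hsq : q ^ (2 * (n + 1)) - 1 = (q ^ (n + 1) - 1) * (q ^ (n + 1) + 1) := by
      obtain ⟨b, hb⟩ : ∃ b, q ^ (n + 1) = b + 1 :=
        ⟨q ^ (n + 1) - 1, by have := Nat.one_le_pow (n + 1) q hq; omega⟩
      have : q ^ (2 * (n + 1)) = (q ^ (n + 1)) ^ 2 := by rw [← pow_mul]; congr 1; ring
      rw [this, hb, Nat.add_sub_cancel]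
      apply Nat.sub_eq_of_eq_add
      ring
    have hpow : q ^ ((n + 1 + 1) * (n + 1)) = q ^ ((n + 1) * n) * q ^ (2 * (n + 1)) := by
      rw [← pow_add]; congr 1; ring
    rw [hsq, hpow]
    ring

theorem prod_reflect (q m : ℕ) :
    ∏ j ∈ Finset.range m, ((Zp q (m - j) - 1) * q ^ (2 * (m - j - 1) + 0)) =
      ∏ i ∈ Finset.range m, ((Zp q (i + 1) - 1) * q ^ (2 * i)) := by
  rw [← Finset.prod_range_reflect (fun i => (Zp q (i + 1) - 1) * q ^ (2 * i)) m]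
  apply Finset.prod_congr rfl
  intro j hj
  have hj' := Finset.mem_range.1 hj
  have e1 : m - j = m - 1 - j + 1 := by omega
  have e2 : m - j - 1 = m - 1 - j := by omega
  rw [e2, e1, add_zero]

/-- |GO^+_{2m}(q)| = 2 q^(m(m-1)) (q^m - 1) prod_{i=1}^{m-1} (q^(2i) - 1), m at least 1, all q. -/
theorem result {F : Type*} [Field F] [Fintype F] {q : ℕ} (hF : Fintype.card F = q) (m : ℕ) (hm : 1 ≤ m) : Nat.card (Cfsg.isometryGroup F (Cfsg.quadFormPlus m F)) = 2 * q ^ (m * (m - 1)) * (q ^ m - 1) * ∏ i ∈ Finset.range (m - 1), (q ^ (2 * (i + 1)) - 1) := by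
  subst hF
  have hq : 0 < Fintype.card F := Fintype.card_pos
  rw [card_isom_plus m, card_Fr (plusQS m F) 0 (Zp (Fintype.card F)) 0 (Zp (Fintype.card F))
    (Zp_rec _ hq) rfl (Zp_rec _ hq) m (plus_QStd m) (plus_ND m) m le_rfl, prod_reflect]
  obtain ⟨n, rfl⟩ : ∃ n, m = n + 1 := ⟨m - 1, by omega⟩
  rw [prodP _ hq n, Nat.add_sub_cancel]

end Cfsg.Agent.S0287
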