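import Mathlib
import Cfsg.Statements.S0825
import Cfsg.Agent.S0826
import Cfsg.Agent.S0287
import Cfsg.Agent.Lib.Helper5.OEmbed
import Cfsg.Agent.Lib.Helper5.QF2

set_option autoImplicit false
open Cfsg

namespace Cfsg.Agent.S0825

open Cfsg.Agent.S0826 Cfsg.Agent.Lib.Helper5 QuadraticMap

section
variable (n : ℕ)

def wt (x : Fin (2 * n) → ZMod 2) : ℕ := ∑ i, (x i).val

theorem wt_add (x y : Fin (2 * n) → ZMod 2) :
    wt n (x + y) + 2 * wt n (x * y) = wt n x + wt n y := by
  unfold wt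
  rw [Finset.mul_sum, ← Finset.sum_add_distrib, ← Finset.sum_add_distrib]
  apply Finset.sum_congr rfl
  intro i _
  simp only [Pi.add_apply, Pi.mul_apply]
  generalize x i = a
  generalize y i = b
  revert a b
  decide

theorem wt_cast (x : Fin (2 * n) → ZMod 2) : ((wt n x : ℕ) : ZMod 2) = ∑ i, x i := by
  unfold wt
  rw [Nat.cast_sum]
  apply Finset.sum_congr rfl
  intro i _
  rw [ZMod.natCast_val, ZMod.cast_id]

theorem wt_perm (σ : Equiv.Perm (Fin (2 * n))) (x : Fin (2 * n) → ZMod 2) :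
    wt n (fun i => x (σ.symm i)) = wt n x := by
  unfold wt
  exact Equiv.sum_comp σ.symm (fun i => (x i).val)

theorem wt_compl (x : Fin (2 * n) → ZMod 2) :
    wt n (fun i => x i + 1) + wt n x = 2 * n := by
  unfold wt
  rw [← Finset.sum_add_distrib]
  have h : ∀ i ∈ (Finset.univ : Finset (Fin (2 * n))), (x i + 1).val + (x i).val = 1 := by
    intro i _
    generalize x i = a
    revert a
    decide
  rw [Finset.sum_congr rfl h, Finset.sum_const, Finset.card_univ, Fintype.card_fin, smul_eq_mul,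
    mul_one]

theorem wt_zero : wt n 0 = 0 := by
  unfold wt
  simp

theorem wt_even {l : Fin (2 * n)} {x : Fin (2 * n) → ZMod 2} (hx : x ∈ Wsub n l) :
    2 ∣ wt n x := by
  have h := ((mem_Wsub n).1 hx).1
  rw [← wt_cast] at h
  exact (ZMod.natCast_eq_zero_iff _ _).1 h

def Qfun (x : Fin (2 * n) → ZMod 2) : ZMod 2 := ((wt n x / 2 : ℕ) : ZMod 2)

theorem Qfun_add {l : Fin (2 * n)} {x y : Fin (2 * n) → ZMod 2} (hx : x ∈ Wsub n l)
    (hy : y ∈ Wsub n l) : Qfun n (x + y) = Qfun n x + Qfun n y + ∑ i, x i * y i := by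
  obtain ⟨a, ha⟩ := wt_even n hx
  obtain ⟨b, hb⟩ := wt_even n hy
  obtain ⟨c, hc⟩ := wt_even n ((Wsub n l).add_mem hx hy)
  have h := wt_add n x y
  have h2 : c + wt n (x * y) = a + b := by omega
  have h3 : ∑ i, x i * y i = ((wt n (x * y) : ℕ) : ZMod 2) := by
    rw [wt_cast]; rfl
  unfold Qfun
  rw [ha, hb, hc, h3, Nat.mul_div_cancel_left _ (by norm_num : 0 < 2),
    Nat.mul_div_cancel_left _ (by norm_num : 0 < 2),
    Nat.mul_div_cancel_left _ (by norm_num : 0 < 2)]
  have h4 : ((c : ℕ) : ZMod 2) + ((wt n (x * y) : ℕ) : ZMod 2) = (a : ZMod 2) + (b : ZMod 2) := by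
    rw [← Nat.cast_add, h2, Nat.cast_add]
  have h5 := CharTwo.add_self_eq_zero ((wt n (x * y) : ℕ) : ZMod 2)
  linear_combination h4 - h5

theorem Qfun_rho (hn : Even n) (l : Fin (2 * n)) (σ : Equiv.Perm (Fin (2 * n))) (w : Wsub n l) :
    Qfun n (rhoEquiv n l σ w : Wsub n l).1 = Qfun n w.1 := by
  have hfun : (rhoEquiv n l σ w : Wsub n l).1 = fun i => w.1 (σ.symm i) + w.1 (σ.symm l) := by
    funext i
    exact rhoEquiv_apply n l σ w i
  rw [hfun]
  have hc : w.1 (σ.symm l) = 0 ∨ w.1 (σ.symm l) = 1 := by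
    generalize w.1 (σ.symm l) = a
    revert a
    decide
  rcases hc with hc | hc
  · rw [hc]
    simp only [add_zero]
    unfold Qfun
    rw [wt_perm]
  · rw [hc]
    unfold Qfun
    have h1 := wt_compl n (fun i => w.1 (σ.symm i))
    rw [wt_perm] at h1
    obtain ⟨a, ha⟩ := wt_even n w.2
    obtain ⟨k, hk⟩ := hn
    have h2 : wt n (fun i => w.1 (σ.symm i) + 1) = 2 * (2 * k - a) := by omega
    rw [h2, ha, Nat.mul_div_cancel_left _ (by norm_num : 0 < 2),
      Nat.mul_div_cancel_left _ (by norm_num : 0 < 2)]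
    have h3 : a ≤ 2 * k := by omega
    rw [Nat.cast_sub h3, Nat.cast_mul]
    have h4 : ((2 : ℕ) : ZMod 2) = 0 := by decide
    rw [h4, zero_mul, zero_sub, CharTwo.neg_eq]

end

section
variable (n : ℕ)

theorem Qfun_polar (l : Fin (2 * n)) (x y : Wsub n l) :
    polar (fun w : Wsub n l => Qfun n w.1) x y = Bform n l x y := by
  unfold polar
  simp only [Submodule.coe_add]
  rw [Qfun_add n x.2 y.2, Bform_apply]
  ring

/-- the quadratic form `wt/2 mod 2` on the heart of the permutation module -/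
def Qform (l : Fin (2 * n)) : QuadraticForm (ZMod 2) (Wsub n l) :=
  QuadraticMap.ofPolar (fun w : Wsub n l => Qfun n w.1)
    (by
      intro a x
      have ha : a = 0 ∨ a = 1 := by revert a; decide
      rcases ha with ha | ha
      · subst ha
        simp only [zero_smul, ZeroMemClass.coe_zero, mul_zero]
        unfold Qfun
        rw [wt_zero]
        simp
      · subst ha
        simp)
    (by
      intro x x' y
      rw [Qfun_polar, Qfun_polar, Qfun_polar, map_add, LinearMap.add_apply])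
    (by
      intro a x y
      rw [Qfun_polar, Qfun_polar, map_smul, LinearMap.smul_apply])

theorem Qform_apply (l : Fin (2 * n)) (w : Wsub n l) : Qform n l w = Qfun n w.1 := rfl

theorem Qform_polar (l : Fin (2 * n)) (x y : Wsub n l) :
    polar (Qform n l) x y = Bform n l x y := Qfun_polar n l x y

theorem Qform_nondeg (hn : 3 ≤ n) (l : Fin (2 * n)) :
    (QuadraticMap.polarBilin (Qform n l)).Nondegenerate := by
  have h := Bform_nondeg n hn l
  constructor
  · intro x hx
    apply h.1 x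
    intro y
    rw [← Qform_polar]
    exact hx y
  · intro x hx
    apply h.2 x
    intro y
    rw [← Qform_polar]
    exact hx y

end

section
variable {F V : Type*} [Field F] [AddCommGroup V] [Module F V]

theorem hypFam_iso_plus [FiniteDimensional F V] {Q : QuadraticForm F V} {m : ℕ}
    {e f : Fin m → V} (H : HypFam Q m e f) (hdim : Module.finrank F V = 2 * m) :
    ∃ g : V ≃ₗ[F] (Fin m ⊕ Fin m → F), ∀ v, Q v = Cfsg.quadFormPlus m F (g v) := by
  classical
  obtain ⟨b, hb⟩ := exists_basis_of_dual Q (Sum.elim e f) (Sum.elim f e) (hyp_dual H)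
    (by rw [hdim, Fintype.card_sum, Fintype.card_fin]; ring)
  refine ⟨b.equivFun, ?_⟩
  intro v
  have hv : v = ∑ i : Fin m, (b.equivFun v (Sum.inl i) • e i
      + b.equivFun v (Sum.inr i) • f i) := by
    conv_lhs => rw [← b.sum_equivFun v]
    rw [Fintype.sum_sum_type, Finset.sum_add_distrib]
    simp only [hb, Sum.elim_inl, Sum.elim_inr]
  conv_lhs => rw [hv]
  rw [Q_hyp_sum H (fun i => b.equivFun v (Sum.inl i)) (fun i => b.equivFun v (Sum.inr i))
    Finset.univ]
  rfl

end

section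

def l4 : Fin (2 * 4) := ⟨0, by norm_num⟩

def vecOf (S : List ℕ) : Fin (2 * 4) → ZMod 2 := fun i => if i.val ∈ S then 1 else 0

theorem vecOf_mem (S : List ℕ) (h : (∑ i : Fin (2 * 4), vecOf S i = 0) ∧ vecOf S l4 = 0) :
    vecOf S ∈ Wsub 4 l4 := (mem_Wsub 4).2 h

def ee : Fin 3 → Wsub 4 l4 :=
  ![⟨vecOf [1, 2, 3, 4], vecOf_mem _ (by decide)⟩, ⟨vecOf [1, 2, 6, 7], vecOf_mem _ (by decide)⟩,
    ⟨vecOf [1, 4, 5, 6], vecOf_mem _ (by decide)⟩]

def ff : Fin 3 → Wsub 4 l4 :=
  ![⟨vecOf [1, 2, 3, 5], vecOf_mem _ (by decide)⟩, ⟨vecOf [1, 3, 6, 7], vecOf_mem _ (by decide)⟩,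
    ⟨vecOf [1, 4, 5, 7], vecOf_mem _ (by decide)⟩]

theorem hyp4 : HypFam (Qform 4 l4) 3 ee ff where
  e_sing := by
    intro i
    rw [Qform_apply]
    fin_cases i <;> decide
  f_sing := by
    intro i
    rw [Qform_apply]
    fin_cases i <;> decide
  ef := by
    intro i j
    rw [Qform_polar, Bform_apply]
    fin_cases i <;> fin_cases j <;> decide
  ee := by
    intro i j
    rw [Qform_polar, Bform_apply]
    fin_cases i <;> fin_cases j <;> decide
  ff := by
    intro i j
    rw [Qform_polar, Bform_apply]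
    fin_cases i <;> fin_cases j <;> decide

end

section

theorem emb8 : ∃ φ : Equiv.Perm (Fin 8) →*
    Cfsg.isometryGroup (ZMod 2) (Cfsg.quadFormPlus 3 (ZMod 2)), Function.Injective φ := by
  obtain ⟨g, hg⟩ := hypFam_iso_plus hyp4 (finrank_Wsub 4 (by norm_num) l4)
  exact exists_embedding_isometryGroup (fun w => Qform 4 l4 w) (Cfsg.quadFormPlus 3 (ZMod 2)) g hg
    (rhoEquiv 4 l4) (rho_faithful 4 (by norm_num) l4) (fun σ w => Qfun_rho 4 ⟨2, rfl⟩ l4 σ w)

theorem plus_map {R S : Type*} [Field R] [Field S] (e : R →+* S) (m : ℕ)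
    (x : Fin m ⊕ Fin m → R) :
    Cfsg.quadFormPlus m S (e ∘ x) = e (Cfsg.quadFormPlus m R x) := by
  unfold Cfsg.quadFormPlus
  rw [map_sum]
  apply Finset.sum_congr rfl
  intro i _
  rw [map_mul]
  rfl

theorem iso_transport {R S : Type*} [Field R] [Field S] (e : R ≃+* S) (m : ℕ) :
    ∃ μ : Cfsg.isometryGroup R (Cfsg.quadFormPlus m R) →*
      Cfsg.isometryGroup S (Cfsg.quadFormPlus m S), Function.Injective μ := by
  classical
  let μ0 : Matrix.GeneralLinearGroup (Fin m ⊕ Fin m) R →*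
      Matrix.GeneralLinearGroup (Fin m ⊕ Fin m) S :=
    Matrix.GeneralLinearGroup.map (e : R →+* S)
  have hval : ∀ A : Matrix.GeneralLinearGroup (Fin m ⊕ Fin m) R,
      (μ0 A).val = A.val.map (e : R →+* S) := fun A => rfl
  have hmem : ∀ A : Cfsg.isometryGroup R (Cfsg.quadFormPlus m R),
      μ0 A.1 ∈ Cfsg.isometryGroup S (Cfsg.quadFormPlus m S) := by
    intro A u _
    show Cfsg.quadFormPlus m S ((μ0 A.1).val.mulVec u) = Cfsg.quadFormPlus m S u
    have hu : u = (e : R →+* S) ∘ (fun i => e.symm (u i)) := by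
      funext i
      simp
    have h1 : (μ0 A.1).val.mulVec u =
        (e : R →+* S) ∘ (A.1.val.mulVec (fun i => e.symm (u i))) := by
      funext i
      rw [hval]
      conv_lhs => rw [hu]
      exact (RingHom.map_mulVec (e : R →+* S) A.1.val _ i).symm
    rw [h1, plus_map]
    conv_rhs => rw [hu, plus_map]
    congr 1
    exact A.2 _ (fun i => e.symm (u i))
  refine ⟨MonoidHom.codRestrict (μ0.comp (Cfsg.isometryGroup R (Cfsg.quadFormPlus m R)).subtype)
    (Cfsg.isometryGroup S (Cfsg.quadFormPlus m S)) hmem, ?_⟩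
  intro A B hAB
  have h1 : μ0 A.1 = μ0 B.1 := congrArg Subtype.val hAB
  apply Subtype.ext
  apply Units.ext
  have h2 : (μ0 A.1).val = (μ0 B.1).val := by rw [h1]
  rw [hval, hval] at h2
  exact Matrix.map_injective e.injective h2

theorem card_s8 : Nat.card (Equiv.Perm (Fin 8)) = 40320 := by
  rw [Nat.card_eq_fintype_card, Fintype.card_perm, Fintype.card_fin]
  norm_num [Nat.factorial]

theorem card_o6 {F : Type*} [Field F] [Fintype F] (hF : Fintype.card F = 2) :
    Nat.card (Cfsg.isometryGroup F (Cfsg.quadFormPlus 3 F)) = 40320 := by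
  rw [Cfsg.Agent.S0287.result hF 3 (by norm_num)]
  norm_num [Finset.prod_range_succ]

end

theorem result {F : Type*} [Field F] [Fintype F] (hF : Fintype.card F = 2) : Nonempty (↥(Cfsg.isometryGroup F (Cfsg.quadFormPlus 3 F)) ≃* Equiv.Perm (Fin 8)) := by
  classical
  obtain ⟨f, hf⟩ := emb8
  haveI : Fact (Nat.Prime 2) := ⟨Nat.prime_two⟩
  let e : ZMod 2 ≃+* F := ZMod.ringEquivOfPrime F Nat.prime_two hF
  obtain ⟨μ, hμ⟩ := iso_transport e 3
  let g : Equiv.Perm (Fin 8) →* Cfsg.isometryGroup F (Cfsg.quadFormPlus 3 F) := μ.comp f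
  have hg : Function.Injective g := hμ.comp hf
  have hcard := card_o6 hF
  haveI : Finite (Cfsg.isometryGroup F (Cfsg.quadFormPlus 3 F)) :=
    Nat.finite_of_card_ne_zero (by rw [hcard]; norm_num)
  have hbij : Function.Bijective g := by
    rw [Nat.bijective_iff_injective_and_card]
    exact ⟨hg, by rw [hcard, card_s8]⟩
  exact ⟨(MulEquiv.ofBijective g hbij).symm⟩

end Cfsg.Agent.S0825
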