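import Mathlib
import Cfsg.Statements.S0256
import Cfsg.Agent.S0825
import Cfsg.Agent.S0242

set_option autoImplicit false
open Cfsg

namespace Cfsg.Agent.S0256

section
variable {R : Type*} [CommRing R]

/-- the pairs of indices -/
def pr : Fin 3 ⊕ Fin 3 → Fin 4 × Fin 4
  | Sum.inl i => ![(0, 1), (0, 2), (0, 3)] i
  | Sum.inr i => ![(2, 3), (1, 3), (1, 2)] i

def mnr (g : Matrix (Fin 4) (Fin 4) R) (i j k l : Fin 4) : R := g i k * g j l - g i l * g j k

def Lam (g : Matrix (Fin 4) (Fin 4) R) : Matrix (Fin 3 ⊕ Fin 3) (Fin 3 ⊕ Fin 3) R :=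
  Matrix.of fun s t => mnr g (pr s).1 (pr s).2 (pr t).1 (pr t).2

theorem Lam_apply (g : Matrix (Fin 4) (Fin 4) R) (s t : Fin 3 ⊕ Fin 3) :
    Lam g s t = mnr g (pr s).1 (pr s).2 (pr t).1 (pr t).2 := rfl

theorem cauchy_binet (g h : Matrix (Fin 4) (Fin 4) R) (i j k l : Fin 4) :
    mnr (g * h) i j k l =
      ∑ u : Fin 3 ⊕ Fin 3, mnr g i j (pr u).1 (pr u).2 * mnr h (pr u).1 (pr u).2 k l := by
  rw [Fintype.sum_sum_type, Fin.sum_univ_three, Fin.sum_univ_three]
  simp only [pr, mnr, Matrix.mul_apply, Fin.sum_univ_four, Matrix.cons_val_zero,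
    Matrix.cons_val_one, Matrix.cons_val_two]
  simp
  ring

theorem Lam_mul (g h : Matrix (Fin 4) (Fin 4) R) : Lam (g * h) = Lam g * Lam h := by
  ext s t
  rw [Matrix.mul_apply, Lam_apply, cauchy_binet]
  rfl

theorem Lam_one : Lam (1 : Matrix (Fin 4) (Fin 4) R) = 1 := by
  ext s t
  rcases s with i | i <;> rcases t with j | j <;> fin_cases i <;> fin_cases j <;>
    simp [Lam, mnr, pr, Matrix.one_apply]

def LamHom : Matrix (Fin 4) (Fin 4) R →* Matrix (Fin 3 ⊕ Fin 3) (Fin 3 ⊕ Fin 3) R where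
  toFun := Lam
  map_one' := Lam_one
  map_mul' := Lam_mul

def klein (ω : Fin 3 ⊕ Fin 3 → R) : R :=
  ω (Sum.inl 0) * ω (Sum.inr 0) - ω (Sum.inl 1) * ω (Sum.inr 1) + ω (Sum.inl 2) * ω (Sum.inr 2)

def cdet (g : Matrix (Fin 4) (Fin 4) R) : R :=
  mnr g 0 1 0 1 * mnr g 2 3 2 3 - mnr g 0 1 0 2 * mnr g 2 3 1 3 + mnr g 0 1 0 3 * mnr g 2 3 1 2
  + mnr g 0 1 1 2 * mnr g 2 3 0 3 - mnr g 0 1 1 3 * mnr g 2 3 0 2 + mnr g 0 1 2 3 * mnr g 2 3 0 1

theorem klein_Lam (g : Matrix (Fin 4) (Fin 4) R) (ω : Fin 3 ⊕ Fin 3 → R) :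
    klein ((Lam g).mulVec ω) = cdet g * klein ω := by
  unfold klein cdet
  simp only [Matrix.mulVec, dotProduct, Fintype.sum_sum_type, Fin.sum_univ_three, Lam,
    Matrix.of_apply, pr, mnr]
  simp
  ring

theorem cdet_one : cdet (1 : Matrix (Fin 4) (Fin 4) R) = 1 := by
  simp [cdet, mnr, Matrix.one_apply]

theorem cdet_mul (g h : Matrix (Fin 4) (Fin 4) R) : cdet (g * h) = cdet g * cdet h := by
  classical
  let ω : Fin 3 ⊕ Fin 3 → R := Pi.single (Sum.inl 0) 1 + Pi.single (Sum.inr 0) 1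
  have hω : klein ω = 1 := by
    simp [klein, ω, Pi.single_apply]
  have h1 := klein_Lam (g * h) ω
  rw [Lam_mul, ← Matrix.mulVec_mulVec, klein_Lam, klein_Lam, hω] at h1
  rw [mul_one, mul_one] at h1
  exact h1.symm

end

section
variable {R : Type*} [CommRing R]

theorem pr_surj : ∀ i j : Fin 4, i < j → ∃ s : Fin 3 ⊕ Fin 3, pr s = (i, j) := by
  decide

theorem pr_inj : ∀ s t : Fin 3 ⊕ Fin 3, pr s = pr t → s = t := by
  decide

theorem mnr_swap_rows (g : Matrix (Fin 4) (Fin 4) R) (i j k l : Fin 4) :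
    mnr g j i k l = - mnr g i j k l := by
  unfold mnr; ring

theorem mnr_swap_cols (g : Matrix (Fin 4) (Fin 4) R) (i j k l : Fin 4) :
    mnr g i j l k = - mnr g i j k l := by
  unfold mnr; ring

/-- the minors of a matrix with trivial exterior square, ordered pairs -/
theorem mnr_ordered (g : Matrix (Fin 4) (Fin 4) R) (hg : Lam g = 1) (i j k l : Fin 4)
    (hij : i < j) (hkl : k < l) :
    mnr g i j k l = if i = k ∧ j = l then 1 else 0 := by
  obtain ⟨s, hs⟩ := pr_surj i j hij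
  obtain ⟨t, ht⟩ := pr_surj k l hkl
  have h := congrFun (congrFun hg s) t
  rw [Lam_apply, hs, ht, Matrix.one_apply] at h
  rw [h]
  by_cases hst : s = t
  · subst hst
    rw [hs] at ht
    have h1 : i = k := (Prod.mk.inj ht).1
    have h2 : j = l := (Prod.mk.inj ht).2
    rw [if_pos rfl, if_pos ⟨h1, h2⟩]
  · rw [if_neg hst, if_neg]
    rintro ⟨h1, h2⟩
    apply hst
    apply pr_inj
    rw [hs, ht, h1, h2]

theorem mnr_general (g : Matrix (Fin 4) (Fin 4) R) (hg : Lam g = 1) (i j k l : Fin 4)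
    (hij : i ≠ j) (hkl : k ≠ l) :
    mnr g i j k l = (if i = k ∧ j = l then 1 else 0) - (if i = l ∧ j = k then 1 else 0) := by
  rcases lt_or_gt_of_ne hij with h1 | h1 <;> rcases lt_or_gt_of_ne hkl with h2 | h2
  · rw [mnr_ordered g hg i j k l h1 h2]
    have : ¬ (i = l ∧ j = k) := by
      rintro ⟨rfl, rfl⟩
      exact absurd h1 (not_lt.2 h2.le)
    rw [if_neg this, sub_zero]
  · rw [mnr_swap_cols, mnr_ordered g hg i j l k h1 h2]
    have : ¬ (i = k ∧ j = l) := by
      rintro ⟨rfl, rfl⟩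
      exact absurd h1 (not_lt.2 h2.le)
    rw [if_neg this, zero_sub]
  · rw [mnr_swap_rows, mnr_ordered g hg j i k l h1 h2]
    have : ¬ (i = k ∧ j = l) := by
      rintro ⟨rfl, rfl⟩
      exact absurd h1 (not_lt.2 h2.le)
    rw [if_neg this, zero_sub]
    congr 1
    by_cases h : j = k ∧ i = l
    · rw [if_pos h, if_pos ⟨h.2, h.1⟩]
    · rw [if_neg h, if_neg (fun h' => h ⟨h'.2, h'.1⟩)]
  · rw [mnr_swap_rows, mnr_swap_cols, neg_neg, mnr_ordered g hg j i l k h1 h2]
    have : ¬ (i = l ∧ j = k) := by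
      rintro ⟨rfl, rfl⟩
      exact absurd h1 (not_lt.2 h2.le)
    rw [if_neg this, sub_zero]
    by_cases h : j = l ∧ i = k
    · rw [if_pos h, if_pos ⟨h.2, h.1⟩]
    · rw [if_neg h, if_neg (fun h' => h ⟨h'.2, h'.1⟩)]

theorem offdiag_zero (g : Matrix (Fin 4) (Fin 4) R) (hg : Lam g = 1) (i k : Fin 4)
    (hik : i ≠ k) : g k i = 0 := by
  obtain ⟨j, hji, hjk⟩ : ∃ j : Fin 4, j ≠ i ∧ j ≠ k := by
    revert i k; decide
  have hid : g k i * mnr g i j i j = g i i * mnr g k j i j - g j i * mnr g k i i j := by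
    unfold mnr; ring
  rw [mnr_general g hg i j i j (Ne.symm hji) (Ne.symm hji),
    mnr_general g hg k j i j (Ne.symm hjk) (Ne.symm hji),
    mnr_general g hg k i i j (Ne.symm hik) (Ne.symm hji)] at hid
  rw [if_pos ⟨rfl, rfl⟩, if_neg (fun h => hji h.2), if_neg (fun h => hik h.1.symm),
    if_neg (fun h => hji h.2), if_neg (fun h => hik h.1.symm), if_neg (fun h => hjk h.1.symm)]
    at hid
  simpa using hid

theorem diag_mul (g : Matrix (Fin 4) (Fin 4) R) (hg : Lam g = 1) (i j : Fin 4) (hij : i ≠ j) :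
    g i i * g j j = 1 := by
  have h := mnr_general g hg i j i j hij hij
  rw [if_pos ⟨rfl, rfl⟩, if_neg (fun h => hij h.1)] at h
  unfold mnr at h
  rw [offdiag_zero g hg j i (Ne.symm hij), zero_mul] at h
  simpa using h

end

section
variable {F : Type*} [Field F] [Fintype F]

theorem eq_one_of_ne_zero (hF : Fintype.card F = 2) (x : F) (hx : x ≠ 0) : x = 1 := by
  classical
  have h1 : Fintype.card Fˣ = 1 := by
    rw [Fintype.card_units, hF]
  haveI : Subsingleton Fˣ := Fintype.card_le_one_iff_subsingleton.1 (le_of_eq h1)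
  have h2 : Units.mk0 x hx = 1 := Subsingleton.elim _ _
  exact congrArg Units.val h2

theorem neg_eq_self (hF : Fintype.card F = 2) (x : F) : -x = x := by
  have h2 : (1 : F) + 1 = 0 := by
    by_contra h
    have h3 := eq_one_of_ne_zero hF _ h
    have h4 : (1 : F) = 0 := by linear_combination h3
    exact one_ne_zero h4
  have h5 : x + x = 0 := by linear_combination x * h2
  linear_combination -h5

theorem plus_eq_klein (hneg : ∀ x : F, -x = x) (ω : Fin 3 ⊕ Fin 3 → F) :
    Cfsg.quadFormPlus 3 F ω = klein ω := by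
  unfold Cfsg.quadFormPlus klein
  rw [Fin.sum_univ_three, sub_eq_add_neg, hneg]

theorem card_sl4 (hF : Fintype.card F = 2) :
    Nat.card (Matrix.SpecialLinearGroup (Fin 4) F) = 20160 := by
  have h := Cfsg.Agent.S0242.result hF 4 (by norm_num)
  rw [Fin.prod_univ_four] at h
  norm_num at h
  exact h

theorem card_s8' : Nat.card (Equiv.Perm (Fin 8)) = 40320 := by
  rw [Nat.card_eq_fintype_card, Fintype.card_perm, Fintype.card_fin]
  norm_num [Nat.factorial]

end

theorem result {F : Type*} [Field F] [Fintype F] (hF : Fintype.card F = 2) : Nonempty (Matrix.ProjectiveSpecialLinearGroup (Fin 4) F ≃* alternatingGroup (Fin 8)) := by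
  classical
  have h1 := eq_one_of_ne_zero hF
  have hneg := neg_eq_self hF
  let Λ : Matrix.SpecialLinearGroup (Fin 4) F →* Matrix.GeneralLinearGroup (Fin 3 ⊕ Fin 3) F :=
    (Units.map (LamHom (R := F))).comp Matrix.SpecialLinearGroup.toGL
  have hΛval : ∀ A : Matrix.SpecialLinearGroup (Fin 4) F, (Λ A).val = Lam A.1 := fun A => rfl
  have hcd : ∀ A : Matrix.SpecialLinearGroup (Fin 4) F, cdet A.1 = 1 := by
    intro A
    apply h1
    intro h0
    have h := cdet_mul A.1 (A⁻¹).1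
    rw [← Matrix.SpecialLinearGroup.coe_mul, mul_inv_cancel, Matrix.SpecialLinearGroup.coe_one,
      cdet_one, h0, zero_mul] at h
    exact one_ne_zero h
  have hmem : ∀ A, Λ A ∈ Cfsg.isometryGroup F (Cfsg.quadFormPlus 3 F) := by
    intro A u _
    show Cfsg.quadFormPlus 3 F ((Λ A).val.mulVec u) = Cfsg.quadFormPlus 3 F u
    rw [hΛval, plus_eq_klein hneg, plus_eq_klein hneg, klein_Lam, hcd, one_mul]
  let Λ' : Matrix.SpecialLinearGroup (Fin 4) F →*
      Cfsg.isometryGroup F (Cfsg.quadFormPlus 3 F) := Λ.codRestrict _ hmem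
  have hinj : Function.Injective Λ' := by
    rw [injective_iff_map_eq_one]
    intro A hA
    have hL : Lam A.1 = 1 := by
      have h := congrArg (fun x : Cfsg.isometryGroup F (Cfsg.quadFormPlus 3 F) =>
        (x.1 : Matrix.GeneralLinearGroup (Fin 3 ⊕ Fin 3) F).val) hA
      exact h
    apply Subtype.ext
    ext i k
    rw [Matrix.SpecialLinearGroup.coe_one, Matrix.one_apply]
    by_cases hik : i = k
    · subst hik
      rw [if_pos rfl]
      obtain ⟨j, hj⟩ : ∃ j : Fin 4, i ≠ j := by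
        revert i; decide
      have h := diag_mul A.1 hL i j hj
      apply h1
      intro h0
      rw [h0, zero_mul] at h
      exact zero_ne_one h
    · rw [if_neg hik]
      exact offdiag_zero A.1 hL k i (Ne.symm hik)
  obtain ⟨ψ⟩ := Cfsg.Agent.S0825.result hF
  let ι : Matrix.SpecialLinearGroup (Fin 4) F →* Equiv.Perm (Fin 8) := ψ.toMonoidHom.comp Λ'
  have hι : Function.Injective ι := ψ.injective.comp hinj
  have hrange : ι.range.index = 2 := by
    have h2 : Nat.card ι.range = 20160 := by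
      rw [← Nat.card_congr (MonoidHom.ofInjective hι).toEquiv]
      exact card_sl4 hF
    have h3 := ι.range.card_mul_index
    rw [h2, card_s8'] at h3
    omega
  have hA := Equiv.Perm.eq_alternatingGroup_of_index_eq_two hrange
  have hcenter : Subgroup.center (Matrix.SpecialLinearGroup (Fin 4) F) = ⊥ := by
    rw [eq_bot_iff]
    intro A hAc
    rw [Matrix.SpecialLinearGroup.mem_center_iff] at hAc
    obtain ⟨r, hr, hrA⟩ := hAc
    have hr0 : r ≠ 0 := by
      intro h0
      rw [h0] at hr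
      simp at hr
    rw [h1 r hr0] at hrA
    rw [Subgroup.mem_bot]
    apply Subtype.ext
    rw [← hrA]
    simp
  exact ⟨(QuotientGroup.quotientMulEquivOfEq hcenter).trans
    (QuotientGroup.quotientBot.trans
      ((MonoidHom.ofInjective hι).trans (MulEquiv.subgroupCongr hA)))⟩

end Cfsg.Agent.S0256
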