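import Mathlib
import Cfsg.Statements.S0257
import Cfsg.Agent.S2427

set_option autoImplicit false
set_option maxHeartbeats 800000

open Cfsg

namespace Cfsg.Agent.S0257

/-- a ring isomorphism induces an isomorphism of special linear groups -/
def slEquiv {n : Type*} [DecidableEq n] [Fintype n] {R S : Type*} [CommRing R] [CommRing S]
    (r : R ≃+* S) : Matrix.SpecialLinearGroup n R ≃* Matrix.SpecialLinearGroup n S where
  toFun := Matrix.SpecialLinearGroup.map (r : R →+* S)
  invFun := Matrix.SpecialLinearGroup.map (r.symm : S →+* R)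
  left_inv A := by
    apply Subtype.ext
    ext i j
    exact r.symm_apply_apply _
  right_inv A := by
    apply Subtype.ext
    ext i j
    exact r.apply_symm_apply _
  map_mul' A B := map_mul _ A B

theorem main0257 {F : Type*} [Field F] [Fintype F] (hF : Fintype.card F = 3) :
    (∃ Q : Subgroup (Matrix.SpecialLinearGroup (Fin 2) F), Q.Normal ∧ Q.index = 3 ∧
      Nonempty (Q ≃* QuaternionGroup 2)) ∧
    Nat.card (Subgroup.center (Matrix.SpecialLinearGroup (Fin 2) F)) = 2 := by
  classical
  have : Fact (Nat.Prime 3) := ⟨Nat.prime_three⟩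
  let r : ZMod 3 ≃+* F := ZMod.ringEquivOfPrime F Nat.prime_three hF
  let e : Matrix.SpecialLinearGroup (Fin 2) (ZMod 3) ≃* Matrix.SpecialLinearGroup (Fin 2) F :=
    slEquiv r
  obtain ⟨h24, hc2, h8, ⟨eq8⟩, -, -⟩ := Cfsg.Agent.S2427.result
  refine ⟨⟨(commutator (Matrix.SpecialLinearGroup (Fin 2) (ZMod 3))).map (e : _ →* _), ?_, ?_, ?_⟩, ?_⟩
  · exact Subgroup.Normal.map inferInstance _ e.surjective
  · rw [Subgroup.index_map_equiv]
    have := Subgroup.card_mul_index (commutator (Matrix.SpecialLinearGroup (Fin 2) (ZMod 3)))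
    rw [h24, h8] at this
    omega
  · exact ⟨(e.subgroupMap _).symm.trans eq8⟩
  · exact (Nat.card_congr (Subgroup.centerCongr e).symm.toEquiv).trans hc2

/-- SL_2(3) has a normal subgroup of index 3 isomorphic to the quaternion group of order 8, and its centre has order 2. -/
theorem result {F : Type*} [Field F] [Fintype F] (hF : Fintype.card F = 3) : (∃ Q : Subgroup (Matrix.SpecialLinearGroup (Fin 2) F), Q.Normal ∧ Q.index = 3 ∧ Nonempty (Q ≃* QuaternionGroup 2)) ∧ Nat.card (Subgroup.center (Matrix.SpecialLinearGroup (Fin 2) F)) = 2 := by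
  exact main0257 hF

end Cfsg.Agent.S0257
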