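import Cfsg.Statements.S0261
import Mathlib
import Cfsg.Agent.S0016
import Cfsg.Agent.S0268


set_option autoImplicit false
open Cfsg

namespace Cfsg.Agent.S0261

theorem exists_noncomm {F : Type*} [Field F] [Fintype F] (hF : Odd (Fintype.card F)) :
    ∃ H : Subgroup (Matrix.SpecialLinearGroup (Fin 2) F), IsPGroup 2 H ∧
      ∃ x ∈ H, ∃ y ∈ H, x * y ≠ y * x := by
  classical
  have h2 : (2 : F) ≠ 0 := Cfsg.Agent.S0268.two_ne_zero_of_odd_card hF
  obtain ⟨p, hp⟩ := CharP.exists F
  haveI := hp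
  haveI : NeZero p := ⟨CharP.char_ne_zero_of_finite F p⟩
  obtain ⟨a', b', hab⟩ := CharP.sq_add_sq F p (-1)
  obtain ⟨a, ha⟩ : ∃ a : F, a = (a' : F) := ⟨_, rfl⟩
  obtain ⟨b, hb⟩ : ∃ b : F, b = (b' : F) := ⟨_, rfl⟩
  rw [← ha, ← hb] at hab
  have hab' : a ^ 2 + b ^ 2 = -1 := by rw [hab]; simp
  obtain ⟨x, hx⟩ : ∃ x : Matrix.SpecialLinearGroup (Fin 2) F,
      (x : Matrix (Fin 2) (Fin 2) F) = !![0, 1; -1, 0] :=
    ⟨⟨!![0, 1; -1, 0], by rw [Matrix.det_fin_two_of]; ring⟩, rfl⟩
  obtain ⟨x', hx'⟩ : ∃ x : Matrix.SpecialLinearGroup (Fin 2) F,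
      (x : Matrix (Fin 2) (Fin 2) F) = !![0, -1; 1, 0] :=
    ⟨⟨!![0, -1; 1, 0], by rw [Matrix.det_fin_two_of]; ring⟩, rfl⟩
  obtain ⟨y, hy⟩ : ∃ y : Matrix.SpecialLinearGroup (Fin 2) F,
      (y : Matrix (Fin 2) (Fin 2) F) = !![a, b; b, -a] :=
    ⟨⟨!![a, b; b, -a], by rw [Matrix.det_fin_two_of]; linear_combination -hab'⟩, rfl⟩
  have hxx' : x * x' = 1 := by
    apply Subtype.ext
    rw [Matrix.SpecialLinearGroup.coe_mul, hx, hx', Matrix.SpecialLinearGroup.coe_one,
      Matrix.mul_fin_two, Matrix.one_fin_two]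
    simp
  have hxinv : x⁻¹ = x' := inv_eq_of_mul_eq_one_right hxx'
  have hx4 : x ^ 4 = 1 := by
    apply Subtype.ext
    rw [Matrix.SpecialLinearGroup.coe_pow, hx, Matrix.SpecialLinearGroup.coe_one,
      show (4 : ℕ) = 2 + 2 from rfl, pow_add, pow_two, Matrix.mul_fin_two, Matrix.mul_fin_two,
      Matrix.one_fin_two]
    simp
  have hy4 : y ^ 4 = 1 := by
    apply Subtype.ext
    rw [Matrix.SpecialLinearGroup.coe_pow, hy, Matrix.SpecialLinearGroup.coe_one,
      show (4 : ℕ) = 2 + 2 from rfl, pow_add, pow_two, Matrix.mul_fin_two, Matrix.mul_fin_two,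
      Matrix.one_fin_two]
    have e1 : a * a + b * b = -1 := by rw [← hab']; ring
    have e2 : b * b + -a * -a = -1 := by rw [← hab']; ring
    have e3 : a * b + b * -a = 0 := by ring
    have e4 : b * a + -a * b = 0 := by ring
    rw [e1, e2, e3, e4]
    simp
  have hyx : y * x = x' * y := by
    apply Subtype.ext
    rw [Matrix.SpecialLinearGroup.coe_mul, Matrix.SpecialLinearGroup.coe_mul, hx, hx', hy,
      Matrix.mul_fin_two, Matrix.mul_fin_two]
    simp
  have hconj : y * x * y⁻¹ = x⁻¹ := by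
    rw [hyx, hxinv]; group
  have hPx : IsPGroup 2 (Subgroup.zpowers x) := by
    intro g
    refine ⟨2, ?_⟩
    obtain ⟨k, hk⟩ := Subgroup.mem_zpowers_iff.1 g.2
    apply Subtype.ext
    rw [Subgroup.coe_pow, ← hk, Subgroup.coe_one, ← zpow_natCast, ← zpow_mul, mul_comm,
      zpow_mul, zpow_natCast]
    norm_num
    rw [hx4, one_zpow]
  have hPy : IsPGroup 2 (Subgroup.zpowers y) := by
    intro g
    refine ⟨2, ?_⟩
    obtain ⟨k, hk⟩ := Subgroup.mem_zpowers_iff.1 g.2
    apply Subtype.ext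
    rw [Subgroup.coe_pow, ← hk, Subgroup.coe_one, ← zpow_natCast, ← zpow_mul, mul_comm,
      zpow_mul, zpow_natCast]
    norm_num
    rw [hy4, one_zpow]
  have hnorm : Subgroup.zpowers y ≤ Subgroup.normalizer (Subgroup.zpowers x : Set _) := by
    rw [Subgroup.zpowers_le]
    apply Subgroup.mem_normalizer_fintype
    intro n hn
    obtain ⟨k, hk⟩ := Subgroup.mem_zpowers_iff.1 hn
    rw [← hk, ← conj_zpow, hconj]
    exact Subgroup.zpow_mem _ (Subgroup.inv_mem _ (Subgroup.mem_zpowers x)) k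
  refine ⟨Subgroup.zpowers y ⊔ Subgroup.zpowers x, hPy.to_sup_of_normal_right' hPx hnorm,
    x, Subgroup.mem_sup_right (Subgroup.mem_zpowers x),
    y, Subgroup.mem_sup_left (Subgroup.mem_zpowers y), ?_⟩
  intro hcomm
  rw [hyx] at hcomm
  have h3 := congrArg (fun g : Matrix.SpecialLinearGroup (Fin 2) F =>
    (g : Matrix (Fin 2) (Fin 2) F)) hcomm
  simp only [Matrix.SpecialLinearGroup.coe_mul, hx, hx', hy, Matrix.mul_fin_two] at h3
  have e00 := congrFun (congrFun h3 0) 0
  have e01 := congrFun (congrFun h3 0) 1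
  simp at e00 e01
  -- e00 : b = -b ; e01 : -a = a
  have hb0 : b = 0 := by
    have : (2 : F) * b = 0 := by linear_combination e00
    rcases mul_eq_zero.1 this with h | h
    · exact absurd h h2
    · exact h
  have ha0 : a = 0 := by
    have : (2 : F) * a = 0 := by linear_combination -e01
    rcases mul_eq_zero.1 this with h | h
    · exact absurd h h2
    · exact h
  rw [ha0, hb0] at hab'
  have : (0 : F) = -1 := by rw [← hab']; ring
  have : (1 : F) = 0 := by linear_combination this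
  exact one_ne_zero this

/-- For q odd, the Sylow 2-subgroups of SL_2(q) are generalised quaternion. -/
theorem result {F : Type*} [Field F] [Fintype F] (hF : Odd (Fintype.card F)) (P : Sylow 2 (Matrix.SpecialLinearGroup (Fin 2) F)) : ∃ k : ℕ, 1 ≤ k ∧ Nonempty ((P : Subgroup (Matrix.SpecialLinearGroup (Fin 2) F)) ≃* QuaternionGroup (2 ^ k)) := by
  classical
  have h2 : (2 : F) ≠ 0 := Cfsg.Agent.S0268.two_ne_zero_of_odd_card hF
  -- elements of `P` of order dividing two
  have hinvol : ∀ g : (P : Subgroup (Matrix.SpecialLinearGroup (Fin 2) F)), g * g = 1 → g ≠ 1 →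
      ((g : Matrix.SpecialLinearGroup (Fin 2) F) : Matrix (Fin 2) (Fin 2) F) = -1 := by
    intro g hg hg1
    apply Cfsg.Agent.S0268.result hF
    · intro h
      apply hg1
      exact Subtype.ext h
    · have := congrArg Subtype.val hg
      simpa using this
  have hsub : ∀ H : Subgroup (P : Subgroup (Matrix.SpecialLinearGroup (Fin 2) F)),
      Nat.card H = 2 → ∀ g ∈ H, g * g = 1 := by
    intro H hH g hg
    have h1 : orderOf (⟨g, hg⟩ : H) ∣ Nat.card H := orderOf_dvd_natCard _
    rw [hH] at h1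
    have h3 : (⟨g, hg⟩ : H) ^ 2 = 1 := orderOf_dvd_iff_pow_eq_one.1 h1
    have h4 := congrArg Subtype.val h3
    rw [pow_two] at h4
    simpa using h4
  have hne : ∀ H : Subgroup (P : Subgroup (Matrix.SpecialLinearGroup (Fin 2) F)),
      Nat.card H = 2 → ∃ k ∈ H, k ≠ 1 := by
    intro H hH
    by_contra hcon
    push Not at hcon
    have : H = ⊥ := by
      rw [Subgroup.eq_bot_iff_forall]
      exact hcon
    rw [this, Subgroup.card_bot] at hH
    omega
  have hle : ∀ H K : Subgroup (P : Subgroup (Matrix.SpecialLinearGroup (Fin 2) F)),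
      Nat.card H = 2 → Nat.card K = 2 → H ≤ K := by
    intro H K hH hK g hg
    by_cases hg1 : g = 1
    · rw [hg1]; exact K.one_mem
    · obtain ⟨k, hkK, hk1⟩ := hne K hK
      have e1 := hinvol g (hsub H hH g hg) hg1
      have e2 := hinvol k (hsub K hK k hkK) hk1
      have : g = k := by
        apply Subtype.ext
        apply Subtype.ext
        rw [e1, e2]
      rw [this]
      exact hkK
  have huniq : ∀ H K : Subgroup (P : Subgroup (Matrix.SpecialLinearGroup (Fin 2) F)),
      Nat.card H = 2 → Nat.card K = 2 → H = K :=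
    fun H K hH hK => le_antisymm (hle H K hH hK) (hle K H hK hH)
  -- `P` is not commutative
  have hnc : ¬ ∀ a b : (P : Subgroup (Matrix.SpecialLinearGroup (Fin 2) F)), a * b = b * a := by
    intro hcomm
    obtain ⟨H, hH, x, hx, y, hy, hxy⟩ := exists_noncomm hF
    obtain ⟨Q, hQ⟩ := hH.exists_le_sylow
    let e := Sylow.equiv Q P
    have h1 := hcomm (e ⟨x, hQ hx⟩) (e ⟨y, hQ hy⟩)
    rw [← map_mul, ← map_mul] at h1
    have h3 := e.injective h1
    apply hxy
    have h4 := congrArg Subtype.val h3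
    simpa using h4
  rcases Cfsg.Agent.S0016.result 2 P.isPGroup' huniq with hc | ⟨-, n, hn⟩
  · exfalso
    apply hnc
    haveI := hc
    haveI : IsMulCommutative (P : Subgroup (Matrix.SpecialLinearGroup (Fin 2) F)) :=
      IsCyclic.isMulCommutative
    intro a b
    exact IsMulCommutative.is_comm.comm a b
  · refine ⟨n, ?_, hn⟩
    by_contra hn0
    have hn0' : n = 0 := by omega
    subst hn0'
    obtain ⟨e⟩ := hn
    have hcard : Nat.card (P : Subgroup (Matrix.SpecialLinearGroup (Fin 2) F)) = 2 ^ 2 := by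
      rw [Nat.card_congr e.toEquiv, Nat.card_eq_fintype_card, QuaternionGroup.card]
      norm_num
    apply hnc
    haveI : IsMulCommutative (P : Subgroup (Matrix.SpecialLinearGroup (Fin 2) F)) :=
      IsPGroup.isMulCommutative_of_card_eq_prime_sq hcard
    intro a b
    exact IsMulCommutative.is_comm.comm a b


end Cfsg.Agent.S0261
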