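import Cfsg.Statements.S0262
import Mathlib

set_option autoImplicit false
open Cfsg

namespace Cfsg.Agent.S0262

open Matrix

theorem one_add_pow_of_sq_zero {F : Type*} [Field F]
    (N : Matrix (Fin 2) (Fin 2) F) (hN : N * N = 0) (k : ℕ) : (1 + N) ^ k = 1 + k • N := by
  induction k with
  | zero => simp
  | succ k ih =>
    rw [pow_succ, ih, add_mul, mul_add, mul_add]
    simp only [one_mul, mul_one, smul_mul_assoc, hN, smul_zero, add_zero, succ_nsmul]
    abel

/-- a `2 × 2` matrix `1 + N` with `N² = 0` in characteristic `p` has `p`-th power one -/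
theorem pow_char_of_sq_zero {F : Type*} [Field F] (p : ℕ) [CharP F p]
    (A : Matrix (Fin 2) (Fin 2) F) (hN : (A - 1) * (A - 1) = 0) : A ^ p = 1 := by
  have hA : A = 1 + (A - 1) := by abel
  rw [hA, one_add_pow_of_sq_zero _ hN p]
  have : (p : ℕ) • (A - 1) = 0 := by
    rw [← Nat.cast_smul_eq_nsmul F, CharP.cast_eq_zero F p, zero_smul]
  rw [this, add_zero]


/-- For an odd prime r different from the characteristic, the Sylow r-subgroups of SL_2(q) are cyclic. -/
theorem result {F : Type*} [Field F] [Fintype F] (p : ℕ) [Fact p.Prime] [CharP F p] (r : ℕ) [Fact r.Prime] (hr : r ≠ 2) (hrp : r ≠ p) (R : Sylow r (Matrix.SpecialLinearGroup (Fin 2) F)) : IsCyclic (R : Subgroup (Matrix.SpecialLinearGroup (Fin 2) F)) := by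
  classical
  by_cases hsub : Subsingleton (R : Subgroup (Matrix.SpecialLinearGroup (Fin 2) F))
  · exact isCyclic_of_subsingleton
  rw [not_subsingleton_iff_nontrivial] at hsub
  haveI := hsub
  have hcn : Nontrivial (Subgroup.center (R : Subgroup (Matrix.SpecialLinearGroup (Fin 2) F))) :=
    IsPGroup.center_nontrivial R.isPGroup'
  obtain ⟨z, hz⟩ := exists_ne (1 : Subgroup.center (R : Subgroup (Matrix.SpecialLinearGroup (Fin 2) F)))
  have hrodd : ∀ k : ℕ, r ^ k ∣ 2 → r ^ k = 1 := by
    intro k hk
    rcases (Nat.dvd_prime Nat.prime_two).1 hk with h | h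
    · exact h
    · exfalso
      have h2 : r ∣ 2 := by
        have hk0 : k ≠ 0 := by
          intro h0; rw [h0, pow_zero] at h; omega
        exact (dvd_pow_self r hk0).trans (h ▸ dvd_rfl)
      exact hr ((Nat.prime_dvd_prime_iff_eq (Fact.out : r.Prime) Nat.prime_two).1 h2)
  -- orders of elements of R
  have hord : ∀ g : Matrix.SpecialLinearGroup (Fin 2) F, g ∈ (R : Subgroup _) →
      ∃ k : ℕ, orderOf g = r ^ k := by
    intro g hg
    obtain ⟨k, hk⟩ := IsPGroup.iff_orderOf.1 R.isPGroup' ⟨g, hg⟩
    exact ⟨k, by rw [← hk, Subgroup.orderOf_mk]⟩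
  set x : Matrix.SpecialLinearGroup (Fin 2) F :=
    ((z : (R : Subgroup (Matrix.SpecialLinearGroup (Fin 2) F))) : Matrix.SpecialLinearGroup (Fin 2) F)
    with hx
  have hxR : x ∈ (R : Subgroup (Matrix.SpecialLinearGroup (Fin 2) F)) := by
    rw [hx]; exact SetLike.coe_mem _
  have hx1 : x ≠ 1 := by
    intro h
    apply hz
    apply Subtype.ext
    apply Subtype.ext
    exact h
  have hxc : ∀ g ∈ (R : Subgroup (Matrix.SpecialLinearGroup (Fin 2) F)), g * x = x * g := by
    intro g hg
    have := Subgroup.mem_center_iff.1 z.2 ⟨g, hg⟩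
    exact congrArg Subtype.val this
  have hxsq : x * x ≠ 1 := by
    intro h
    obtain ⟨k, hk⟩ := hord x hxR
    have h2 : orderOf x ∣ 2 := orderOf_dvd_of_pow_eq_one (by rw [pow_two]; exact h)
    rw [hk] at h2
    have := hrodd k h2
    rw [← hk, orderOf_eq_one_iff] at this
    exact hx1 this
  -- pass to the algebraic closure
  let φ : F →+* AlgebraicClosure F := algebraMap F (AlgebraicClosure F)
  have hφ : Function.Injective φ := (algebraMap F (AlgebraicClosure F)).injective
  let M : Matrix.SpecialLinearGroup (Fin 2) F → Matrix (Fin 2) (Fin 2) (AlgebraicClosure F) :=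
    fun g => (g : Matrix (Fin 2) (Fin 2) F).map φ
  have hMmul : ∀ g h, M (g * h) = M g * M h := fun g h => by
    show ((g * h : Matrix.SpecialLinearGroup (Fin 2) F) : Matrix (Fin 2) (Fin 2) F).map φ = _
    rw [Matrix.SpecialLinearGroup.coe_mul, Matrix.map_mul]
  have hMone : M 1 = 1 := by
    show ((1 : Matrix.SpecialLinearGroup (Fin 2) F) : Matrix (Fin 2) (Fin 2) F).map φ = 1
    rw [Matrix.SpecialLinearGroup.coe_one, Matrix.map_one _ (map_zero φ) (map_one φ)]
  have hMapp : ∀ g i j, M g i j = φ ((g : Matrix (Fin 2) (Fin 2) F) i j) := fun g i j => rfl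
  obtain ⟨lam, hlam⟩ := Module.End.exists_eigenvalue (Matrix.toLin' (M x))
  obtain ⟨v, hv⟩ := hlam.exists_hasEigenvector
  have hv0 : v ≠ 0 := hv.2
  have hxv : M x *ᵥ v = lam • v := by
    have := hv.apply_eq_smul
    rwa [Matrix.toLin'_apply] at this
  -- one-dimensionality of the eigenspace
  have hdim : ∀ w : Fin 2 → AlgebraicClosure F, M x *ᵥ w = lam • w → ∃ c : AlgebraicClosure F, w = c • v := by
    intro w hw
    have e1 := congrFun hxv 0
    have e2 := congrFun hxv 1
    have e3 := congrFun hw 0
    have e4 := congrFun hw 1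
    simp only [Matrix.mulVec, dotProduct, Fin.sum_univ_two, Pi.smul_apply, smul_eq_mul] at e1 e2 e3 e4
    by_cases hD : v 0 * w 1 - v 1 * w 0 = 0
    · by_cases hv00 : v 0 = 0
      · have hv1 : v 1 ≠ 0 := by
          intro h
          apply hv0
          funext i
          fin_cases i
          · exact hv00
          · exact h
        refine ⟨w 1 / v 1, ?_⟩
        funext i
        fin_cases i
        · simp only [Fin.zero_eta, Pi.smul_apply, smul_eq_mul]
          rw [hv00, mul_zero]
          rw [hv00, zero_mul, zero_sub, neg_eq_zero] at hD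
          exact (mul_eq_zero.1 hD).resolve_left hv1
        · simp only [Fin.mk_one, Pi.smul_apply, smul_eq_mul]
          field_simp
      · refine ⟨w 0 / v 0, ?_⟩
        funext i
        fin_cases i
        · simp only [Fin.zero_eta, Pi.smul_apply, smul_eq_mul]
          field_simp
        · simp only [Fin.mk_one, Pi.smul_apply, smul_eq_mul]
          field_simp
          linear_combination hD
    · exfalso
      have ha : M x 0 0 = lam := by
        have : (M x 0 0 - lam) * (v 0 * w 1 - v 1 * w 0) = 0 := by
          linear_combination w 1 * e1 - v 1 * e3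
        rcases mul_eq_zero.1 this with h | h
        · exact sub_eq_zero.1 h
        · exact absurd h hD
      have hb : M x 0 1 = 0 := by
        have : (M x 0 1) * (v 0 * w 1 - v 1 * w 0) = 0 := by
          linear_combination (-w 0) * e1 + v 0 * e3
        rcases mul_eq_zero.1 this with h | h
        · exact h
        · exact absurd h hD
      have hc : M x 1 0 = 0 := by
        have : (M x 1 0) * (v 0 * w 1 - v 1 * w 0) = 0 := by
          linear_combination w 1 * e2 - v 1 * e4
        rcases mul_eq_zero.1 this with h | h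
        · exact h
        · exact absurd h hD
      have hd : M x 1 1 = lam := by
        have : (M x 1 1 - lam) * (v 0 * w 1 - v 1 * w 0) = 0 := by
          linear_combination (-w 0) * e2 + v 0 * e4
        rcases mul_eq_zero.1 this with h | h
        · exact sub_eq_zero.1 h
        · exact absurd h hD
      -- x is scalar
      have h01 : (x : Matrix (Fin 2) (Fin 2) F) 0 1 = 0 := by
        apply hφ; rw [map_zero]; exact hb
      have h10 : (x : Matrix (Fin 2) (Fin 2) F) 1 0 = 0 := by
        apply hφ; rw [map_zero]; exact hc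
      have h0011 : (x : Matrix (Fin 2) (Fin 2) F) 0 0 = (x : Matrix (Fin 2) (Fin 2) F) 1 1 := by
        apply hφ
        show M x 0 0 = M x 1 1
        rw [ha, hd]
      have hdet := x.2
      rw [Matrix.det_fin_two, h01, h10, mul_zero, sub_zero, ← h0011] at hdet
      apply hxsq
      apply Subtype.ext
      rw [Matrix.SpecialLinearGroup.coe_mul, Matrix.SpecialLinearGroup.coe_one]
      ext i j
      fin_cases i <;> fin_cases j <;>
        simp [Matrix.mul_apply, Fin.sum_univ_two, h01, h10, ← h0011, hdet]
  -- the character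
  have hchi : ∀ g ∈ (R : Subgroup (Matrix.SpecialLinearGroup (Fin 2) F)),
      ∃ c : AlgebraicClosure F, M g *ᵥ v = c • v := by
    intro g hg
    apply hdim
    rw [Matrix.mulVec_mulVec, ← hMmul, ← hxc g hg, hMmul, ← Matrix.mulVec_mulVec, hxv,
      Matrix.mulVec_smul]
  have hcancel : ∀ a b : AlgebraicClosure F, a • v = b • v → a = b := by
    intro a b h
    have h1 : (a - b) • v = 0 := by rw [sub_smul, h, sub_self]
    rcases smul_eq_zero.1 h1 with h2 | h2
    · exact sub_eq_zero.1 h2
    · exact absurd h2 hv0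
  let χf : ↥(R : Subgroup (Matrix.SpecialLinearGroup (Fin 2) F)) → AlgebraicClosure F :=
    fun g => Classical.choose (hchi g.1 g.2)
  have hχ : ∀ g : ↥(R : Subgroup (Matrix.SpecialLinearGroup (Fin 2) F)),
      M g.1 *ᵥ v = χf g • v := fun g => Classical.choose_spec (hchi g.1 g.2)
  let χ : ↥(R : Subgroup (Matrix.SpecialLinearGroup (Fin 2) F)) →* AlgebraicClosure F :=
    { toFun := χf
      map_one' := by
        apply hcancel
        rw [← hχ 1, one_smul]
        show M 1 *ᵥ v = v
        rw [hMone, Matrix.one_mulVec]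
      map_mul' := by
        intro g h
        apply hcancel
        rw [← hχ (g * h)]
        show M (g.1 * h.1) *ᵥ v = _
        rw [hMmul, ← Matrix.mulVec_mulVec, hχ h, Matrix.mulVec_smul, hχ g, smul_smul, mul_comm] }
  have hinj : Function.Injective χ := by
    rw [injective_iff_map_eq_one]
    intro g hg
    have hg' : χf g = 1 := hg
    have hgv : M g.1 *ᵥ v = v := by rw [hχ g, hg', one_smul]
    -- det (g - 1) = 0
    have hdet0 : (M g.1 - 1).det = 0 := by
      rw [← Matrix.exists_mulVec_eq_zero_iff]
      refine ⟨v, hv0, ?_⟩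
      rw [Matrix.sub_mulVec, hgv, Matrix.one_mulVec, sub_self]
    have hdetF : ((g.1 : Matrix (Fin 2) (Fin 2) F) - 1).det = 0 := by
      apply hφ
      rw [map_zero, RingHom.map_det]
      have : φ.mapMatrix ((g.1 : Matrix (Fin 2) (Fin 2) F) - 1) = M g.1 - 1 := by
        rw [map_sub, map_one]
        rfl
      rw [this]
      exact hdet0
    have hdetg := g.1.2
    rw [Matrix.det_fin_two] at hdetF hdetg
    simp only [Matrix.sub_apply, Matrix.one_apply_eq, Matrix.one_apply_ne, ne_eq, zero_ne_one,
      one_ne_zero, not_false_eq_true, sub_zero, Fin.isValue] at hdetF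
    have hN : ((g.1 : Matrix (Fin 2) (Fin 2) F) - 1) * ((g.1 : Matrix (Fin 2) (Fin 2) F) - 1) = 0 := by
      ext i j
      fin_cases i <;> fin_cases j <;>
        simp only [Matrix.mul_apply, Fin.sum_univ_two, Matrix.sub_apply, Matrix.one_apply_eq,
          Matrix.one_apply_ne, ne_eq, zero_ne_one, one_ne_zero, not_false_eq_true, sub_zero,
          Fin.isValue, Fin.zero_eta, Fin.mk_one, Matrix.zero_apply]
      · linear_combination ((g.1 : Matrix (Fin 2) (Fin 2) F) 0 0) * (hdetg - hdetF) - hdetg
      · linear_combination ((g.1 : Matrix (Fin 2) (Fin 2) F) 0 1) * (hdetg - hdetF)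
      · linear_combination ((g.1 : Matrix (Fin 2) (Fin 2) F) 1 0) * (hdetg - hdetF)
      · linear_combination ((g.1 : Matrix (Fin 2) (Fin 2) F) 1 1) * (hdetg - hdetF) - hdetg
    have hpow : (g.1 : Matrix (Fin 2) (Fin 2) F) ^ p = 1 := pow_char_of_sq_zero p _ hN
    have hpow' : g.1 ^ p = 1 := by
      apply Subtype.ext
      rw [Matrix.SpecialLinearGroup.coe_pow, hpow, Matrix.SpecialLinearGroup.coe_one]
    obtain ⟨k, hk⟩ := hord g.1 g.2
    have h1 : orderOf g.1 ∣ p := orderOf_dvd_of_pow_eq_one hpow'
    rw [hk] at h1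
    have h2 : r ^ k = 1 := by
      rcases (Nat.dvd_prime (Fact.out : p.Prime)).1 h1 with h | h
      · exact h
      · exfalso
        have hk0 : k ≠ 0 := by
          intro h0
          rw [h0, pow_zero] at h
          exact (Fact.out : p.Prime).one_lt.ne h
        have : r ∣ p := (dvd_pow_self r hk0).trans (h ▸ dvd_rfl)
        exact hrp ((Nat.prime_dvd_prime_iff_eq (Fact.out : r.Prime) (Fact.out : p.Prime)).1 this)
    rw [← hk, orderOf_eq_one_iff] at h2
    exact Subtype.ext h2
  exact isCyclic_of_subgroup_isDomain χ hinj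

end Cfsg.Agent.S0262
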