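import Cfsg.Statements.S0265
import Mathlib
import Cfsg.Agent.Lib.Helper1.SLCard

set_option autoImplicit false
open Cfsg

namespace Cfsg.Agent.S0265


open Matrix Cfsg.Agent.Lib.Helper1

theorem scalar_injective {n : Type*} [DecidableEq n] [Fintype n] [Nonempty n] {R : Type*}
    [CommRing R] : Function.Injective (GeneralLinearGroup.scalar n : Rˣ →* GL n R) := by
  intro u v h
  obtain ⟨i⟩ := ‹Nonempty n›
  have h1 := congrArg (fun g : GL n R => (g : Matrix n n R) i i) h
  simp only [GeneralLinearGroup.coe_scalar, Matrix.scalar_apply, Matrix.diagonal_apply_eq] at h1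
  exact Units.ext h1


/-- |PGL_n(q)| = |SL_n(q)|: GL_n modulo its centre (the q-1 non-zero scalars) has the same order as the kernel of det. -/
theorem result {F : Type*} [Field F] [Fintype F] (n : ℕ) : Nat.card (Matrix.ProjGenLinGroup (Fin n) F) = Nat.card (Matrix.SpecialLinearGroup (Fin n) F) := by
  rcases Nat.eq_zero_or_pos n with rfl | hn
  · haveI : Subsingleton (Matrix.GeneralLinearGroup (Fin 0) F) :=
      ⟨fun a b => Units.ext (Subsingleton.elim _ _)⟩
    haveI : Subsingleton (Matrix.ProjGenLinGroup (Fin 0) F) :=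
      Matrix.ProjGenLinGroup.mk_surjective.subsingleton
    haveI : Subsingleton (Matrix.SpecialLinearGroup (Fin 0) F) :=
      ⟨fun a b => Subtype.ext (Subsingleton.elim _ _)⟩
    rw [Nat.card_unique, Nat.card_unique]
  · haveI : Nonempty (Fin n) := ⟨⟨0, hn⟩⟩
    have h1 := card_GL_eq_card_SL_mul (n := Fin n) (R := F)
    have h2 := Subgroup.card_eq_card_quotient_mul_card_subgroup
      (Subgroup.center (GL (Fin n) F))
    have h3 : Nat.card (Subgroup.center (GL (Fin n) F)) = Nat.card Fˣ := by
      rw [GeneralLinearGroup.center_eq_range_scalar]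
      exact (Nat.card_congr (MonoidHom.ofInjective scalar_injective).toEquiv).symm
    rw [h3, h1] at h2
    have hpos : 0 < Nat.card Fˣ := Nat.card_pos
    exact (Nat.eq_of_mul_eq_mul_right hpos h2).symm

end Cfsg.Agent.S0265
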