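import Cfsg.Statements.S0266


set_option autoImplicit false
open scoped MatrixGroups
open Cfsg

namespace Cfsg.Agent.S0266


open Matrix
open scoped LinearAlgebra.Projectivization

section
variable {F : Type*} [Field F]

/-- the determinant of the matrix with columns `u`, `v` -/
def dt (u v : Fin 2 → F) : F := u 0 * v 1 - u 1 * v 0

theorem vec_eq_zero (v : Fin 2 → F) (h0 : v 0 = 0) (h1 : v 1 = 0) : v = 0 := by
  funext i
  fin_cases i
  · exact h0
  · exact h1

theorem prop_of_dt_zero (u v : Fin 2 → F) (hu : u ≠ 0) (hv : v ≠ 0) (h : dt u v = 0) :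
    ∃ a : Fˣ, a • v = u := by
  unfold dt at h
  have h' : u 0 * v 1 = u 1 * v 0 := sub_eq_zero.1 h
  by_cases hv0 : v 0 = 0
  · have hv1 : v 1 ≠ 0 := fun h1 => hv (vec_eq_zero v hv0 h1)
    have hu0 : u 0 = 0 := by
      rw [hv0, mul_zero] at h'
      rcases mul_eq_zero.1 h' with h2 | h2
      · exact h2
      · exact absurd h2 hv1
    have hu1 : u 1 ≠ 0 := fun h1 => hu (vec_eq_zero u hu0 h1)
    refine ⟨Units.mk0 (u 1 / v 1) (div_ne_zero hu1 hv1), ?_⟩
    funext i
    fin_cases i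
    · show u 1 / v 1 * v 0 = u 0
      rw [hv0, hu0, mul_zero]
    · show u 1 / v 1 * v 1 = u 1
      rw [div_mul_cancel₀ _ hv1]
  · have hu0 : u 0 ≠ 0 := by
      intro h0
      rw [h0, zero_mul] at h'
      rcases mul_eq_zero.1 h'.symm with h2 | h2
      · exact hu (vec_eq_zero u h0 h2)
      · exact hv0 h2
    refine ⟨Units.mk0 (u 0 / v 0) (div_ne_zero hu0 hv0), ?_⟩
    funext i
    fin_cases i
    · show u 0 / v 0 * v 0 = u 0
      rw [div_mul_cancel₀ _ hv0]
    · show u 0 / v 0 * v 1 = u 1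
      rw [div_mul_eq_mul_div, h', mul_div_assoc, div_self hv0, mul_one]

theorem gl_smul (g : GL (Fin 2) F) (v : Fin 2 → F) (i : Fin 2) :
    (g • v) i = (g : Matrix (Fin 2) (Fin 2) F) i 0 * v 0 +
      (g : Matrix (Fin 2) (Fin 2) F) i 1 * v 1 := by
  show ((g : Matrix (Fin 2) (Fin 2) F) *ᵥ v) i = _
  simp only [Matrix.mulVec, dotProduct, Fin.sum_univ_two]

/-- the three standard points -/
def E0 : ℙ F (Fin 2 → F) :=
  Projectivization.mk F ![1, 0] (fun h => one_ne_zero (congrFun h 0))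

def E1 : ℙ F (Fin 2 → F) :=
  Projectivization.mk F ![0, 1] (fun h => one_ne_zero (congrFun h 1))

def E01 : ℙ F (Fin 2 → F) :=
  Projectivization.mk F ![1, 1] (fun h => one_ne_zero (congrFun h 0))

theorem exists_gl (u v w : Fin 2 → F) (hu : u ≠ 0) (hv : v ≠ 0) (hw : w ≠ 0)
    (huv : Projectivization.mk F u hu ≠ Projectivization.mk F v hv)
    (huw : Projectivization.mk F u hu ≠ Projectivization.mk F w hw)
    (hvw : Projectivization.mk F v hv ≠ Projectivization.mk F w hw) :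
    ∃ g : GL (Fin 2) F,
      (ProjGenLinGroup.mk g : Matrix.ProjGenLinGroup (Fin 2) F) • (E0 : ℙ F (Fin 2 → F)) =
        Projectivization.mk F u hu ∧
      (ProjGenLinGroup.mk g : Matrix.ProjGenLinGroup (Fin 2) F) • (E1 : ℙ F (Fin 2 → F)) =
        Projectivization.mk F v hv ∧
      (ProjGenLinGroup.mk g : Matrix.ProjGenLinGroup (Fin 2) F) • (E01 : ℙ F (Fin 2 → F)) =
        Projectivization.mk F w hw := by
  have hD : dt u v ≠ 0 := fun h =>
    huv ((Projectivization.mk_eq_mk_iff F u v hu hv).2 (prop_of_dt_zero u v hu hv h))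
  have hA : dt w v ≠ 0 := fun h =>
    hvw.symm ((Projectivization.mk_eq_mk_iff F w v hw hv).2 (prop_of_dt_zero w v hw hv h))
  have hB : dt u w ≠ 0 := fun h =>
    huw ((Projectivization.mk_eq_mk_iff F u w hu hw).2 (prop_of_dt_zero u w hu hw h))
  have hdet : (!![dt w v * u 0, dt u w * v 0; dt w v * u 1, dt u w * v 1] :
      Matrix (Fin 2) (Fin 2) F).det ≠ 0 := by
    rw [Matrix.det_fin_two_of]
    have e : dt w v * u 0 * (dt u w * v 1) - dt u w * v 0 * (dt w v * u 1) =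
        dt w v * dt u w * dt u v := by
      unfold dt; ring
    rw [e]
    exact mul_ne_zero (mul_ne_zero hA hB) hD
  refine ⟨Matrix.GeneralLinearGroup.mkOfDetNeZero _ hdet, ?_, ?_, ?_⟩
  · unfold E0
    rw [Projectivization.PGL.mk_smul_mk, Projectivization.mk_eq_mk_iff]
    refine ⟨Units.mk0 (dt w v) hA, ?_⟩
    funext i
    rw [gl_smul]
    fin_cases i
    · show dt w v * u 0 = dt w v * u 0 * 1 + dt u w * v 0 * 0
      ring
    · show dt w v * u 1 = dt w v * u 1 * 1 + dt u w * v 1 * 0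
      ring
  · unfold E1
    rw [Projectivization.PGL.mk_smul_mk, Projectivization.mk_eq_mk_iff]
    refine ⟨Units.mk0 (dt u w) hB, ?_⟩
    funext i
    rw [gl_smul]
    fin_cases i
    · show dt u w * v 0 = dt w v * u 0 * 0 + dt u w * v 0 * 1
      ring
    · show dt u w * v 1 = dt w v * u 1 * 0 + dt u w * v 1 * 1
      ring
  · unfold E01
    rw [Projectivization.PGL.mk_smul_mk, Projectivization.mk_eq_mk_iff]
    refine ⟨Units.mk0 (dt u v) hD, ?_⟩
    funext i
    rw [gl_smul]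
    fin_cases i
    · show dt u v * w 0 = dt w v * u 0 * 1 + dt u w * v 0 * 1
      unfold dt; ring
    · show dt u v * w 1 = dt w v * u 1 * 1 + dt u w * v 1 * 1
      unfold dt; ring

theorem exists_gl' (a b c : ℙ F (Fin 2 → F)) (hab : a ≠ b) (hac : a ≠ c) (hbc : b ≠ c) :
    ∃ g : GL (Fin 2) F,
      (ProjGenLinGroup.mk g : Matrix.ProjGenLinGroup (Fin 2) F) • (E0 : ℙ F (Fin 2 → F)) = a ∧
      (ProjGenLinGroup.mk g : Matrix.ProjGenLinGroup (Fin 2) F) • (E1 : ℙ F (Fin 2 → F)) = b ∧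
      (ProjGenLinGroup.mk g : Matrix.ProjGenLinGroup (Fin 2) F) • (E01 : ℙ F (Fin 2 → F)) = c := by
  obtain ⟨u, hu, rfl⟩ : ∃ (u : Fin 2 → F) (hu : u ≠ 0), a = Projectivization.mk F u hu :=
    ⟨a.rep, a.rep_nonzero, (Projectivization.mk_rep a).symm⟩
  obtain ⟨v, hv, rfl⟩ : ∃ (v : Fin 2 → F) (hv : v ≠ 0), b = Projectivization.mk F v hv :=
    ⟨b.rep, b.rep_nonzero, (Projectivization.mk_rep b).symm⟩
  obtain ⟨w, hw, rfl⟩ : ∃ (w : Fin 2 → F) (hw : w ≠ 0), c = Projectivization.mk F w hw :=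
    ⟨c.rep, c.rep_nonzero, (Projectivization.mk_rep c).symm⟩
  exact exists_gl u v w hu hv hw hab hac hbc

theorem scalar_of_fix (k : GL (Fin 2) F)
    (h0 : (ProjGenLinGroup.mk k : Matrix.ProjGenLinGroup (Fin 2) F) • (E0 : ℙ F (Fin 2 → F)) = E0)
    (h1 : (ProjGenLinGroup.mk k : Matrix.ProjGenLinGroup (Fin 2) F) • (E1 : ℙ F (Fin 2 → F)) = E1)
    (h01 : (ProjGenLinGroup.mk k : Matrix.ProjGenLinGroup (Fin 2) F) • (E01 : ℙ F (Fin 2 → F)) =
      E01) :
    (ProjGenLinGroup.mk k : Matrix.ProjGenLinGroup (Fin 2) F) = 1 := by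
  unfold E0 at h0
  unfold E1 at h1
  unfold E01 at h01
  rw [Projectivization.PGL.mk_smul_mk, Projectivization.mk_eq_mk_iff] at h0 h1 h01
  obtain ⟨a, ha⟩ := h0
  obtain ⟨b, hb⟩ := h1
  obtain ⟨c, hc⟩ := h01
  have ha0 : (a : F) * 1 = (k : Matrix (Fin 2) (Fin 2) F) 0 0 * 1 +
      (k : Matrix (Fin 2) (Fin 2) F) 0 1 * 0 := by
    have := congrFun ha 0; rw [gl_smul] at this; exact this
  have ha1 : (a : F) * 0 = (k : Matrix (Fin 2) (Fin 2) F) 1 0 * 1 +
      (k : Matrix (Fin 2) (Fin 2) F) 1 1 * 0 := by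
    have := congrFun ha 1; rw [gl_smul] at this; exact this
  have hb0 : (b : F) * 0 = (k : Matrix (Fin 2) (Fin 2) F) 0 0 * 0 +
      (k : Matrix (Fin 2) (Fin 2) F) 0 1 * 1 := by
    have := congrFun hb 0; rw [gl_smul] at this; exact this
  have hb1 : (b : F) * 1 = (k : Matrix (Fin 2) (Fin 2) F) 1 0 * 0 +
      (k : Matrix (Fin 2) (Fin 2) F) 1 1 * 1 := by
    have := congrFun hb 1; rw [gl_smul] at this; exact this
  have hc0 : (c : F) * 1 = (k : Matrix (Fin 2) (Fin 2) F) 0 0 * 1 +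
      (k : Matrix (Fin 2) (Fin 2) F) 0 1 * 1 := by
    have := congrFun hc 0; rw [gl_smul] at this; exact this
  have hc1 : (c : F) * 1 = (k : Matrix (Fin 2) (Fin 2) F) 1 0 * 1 +
      (k : Matrix (Fin 2) (Fin 2) F) 1 1 * 1 := by
    have := congrFun hc 1; rw [gl_smul] at this; exact this
  have e00 : (k : Matrix (Fin 2) (Fin 2) F) 0 0 = a := by linear_combination (-1 : F) * ha0
  have e10 : (k : Matrix (Fin 2) (Fin 2) F) 1 0 = 0 := by linear_combination (-1 : F) * ha1
  have e01 : (k : Matrix (Fin 2) (Fin 2) F) 0 1 = 0 := by linear_combination (-1 : F) * hb0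
  have e11 : (k : Matrix (Fin 2) (Fin 2) F) 1 1 = a := by
    linear_combination (-1 : F) * hc1 + hc0 + e00 + e01 - e10
  have hk : (k : Matrix (Fin 2) (Fin 2) F) = (a : F) • (1 : Matrix (Fin 2) (Fin 2) F) := by
    ext i j
    fin_cases i <;> fin_cases j
    all_goals simp [e00, e01, e10, e11]
  rw [ProjGenLinGroup.mk_eq_one, Subgroup.mem_center_iff]
  intro x
  apply Units.ext
  rw [Units.val_mul, Units.val_mul, hk, Matrix.mul_smul, Matrix.smul_mul, Matrix.mul_one,
    Matrix.one_mul]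

end
/-- PGL_2(F) is sharply 3-transitive on the projective line: it is 3-transitive and the stabiliser of three distinct points is trivial. -/
theorem result {F : Type*} [Field F] : MulAction.IsMultiplyPretransitive (Matrix.ProjGenLinGroup (Fin 2) F) (Projectivization F (Fin 2 → F)) 3 ∧ ∀ (g : Matrix.ProjGenLinGroup (Fin 2) F) (a b c : Projectivization F (Fin 2 → F)), a ≠ b → a ≠ c → b ≠ c → g • a = a → g • b = b → g • c = c → g = 1 := by
  constructor
  · rw [MulAction.isMultiplyPretransitive_iff]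
    intro x y
    obtain ⟨gx, hx0, hx1, hx2⟩ := exists_gl' (x 0) (x 1) (x 2)
      (x.injective.ne (by decide)) (x.injective.ne (by decide)) (x.injective.ne (by decide))
    obtain ⟨gy, hy0, hy1, hy2⟩ := exists_gl' (y 0) (y 1) (y 2)
      (y.injective.ne (by decide)) (y.injective.ne (by decide)) (y.injective.ne (by decide))
    refine ⟨Matrix.ProjGenLinGroup.mk gy * (Matrix.ProjGenLinGroup.mk gx)⁻¹, ?_⟩
    ext i
    rw [Function.Embedding.smul_apply]
    fin_cases i
    · show (Matrix.ProjGenLinGroup.mk gy * (Matrix.ProjGenLinGroup.mk gx)⁻¹) • x 0 = y 0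
      rw [← hx0, mul_smul, inv_smul_smul, hy0]
    · show (Matrix.ProjGenLinGroup.mk gy * (Matrix.ProjGenLinGroup.mk gx)⁻¹) • x 1 = y 1
      rw [← hx1, mul_smul, inv_smul_smul, hy1]
    · show (Matrix.ProjGenLinGroup.mk gy * (Matrix.ProjGenLinGroup.mk gx)⁻¹) • x 2 = y 2
      rw [← hx2, mul_smul, inv_smul_smul, hy2]
  · intro g a b c hab hac hbc ha hb hc
    obtain ⟨h, h0, h1, h2⟩ := exists_gl' a b c hab hac hbc
    obtain ⟨g₀, rfl⟩ := Matrix.ProjGenLinGroup.mk_surjective g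
    have hk := scalar_of_fix (h⁻¹ * g₀ * h)
      (by rw [map_mul, map_mul, map_inv, mul_smul, mul_smul, h0, ha, ← h0, inv_smul_smul])
      (by rw [map_mul, map_mul, map_inv, mul_smul, mul_smul, h1, hb, ← h1, inv_smul_smul])
      (by rw [map_mul, map_mul, map_inv, mul_smul, mul_smul, h2, hc, ← h2, inv_smul_smul])
    rw [map_mul, map_mul, map_inv] at hk
    have e : Matrix.ProjGenLinGroup.mk g₀ = Matrix.ProjGenLinGroup.mk h *
        ((Matrix.ProjGenLinGroup.mk h)⁻¹ * Matrix.ProjGenLinGroup.mk g₀ *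
          Matrix.ProjGenLinGroup.mk h) * (Matrix.ProjGenLinGroup.mk h)⁻¹ := by group
    rw [e, hk, mul_one, mul_inv_cancel]

end Cfsg.Agent.S0266
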