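import Cfsg.Statements.S0267
import Mathlib
import Cfsg.Agent.S0266

set_option autoImplicit false
open Cfsg

namespace Cfsg.Agent.S0267


open Matrix Cfsg.Agent.S0266
open scoped LinearAlgebra.Projectivization

section
variable {F : Type*} [Field F]

theorem sl_smul_eq (σ : Matrix.SpecialLinearGroup (Fin 2) F) (g : GL (Fin 2) F) (s : Fˣ)
    (h : (σ : Matrix (Fin 2) (Fin 2) F) = (s : F) • (g : Matrix (Fin 2) (Fin 2) F))
    (p : ℙ F (Fin 2 → F)) :
    σ • p = (ProjGenLinGroup.mk g : Matrix.ProjGenLinGroup (Fin 2) F) • p := by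
  obtain ⟨v, hv, rfl⟩ : ∃ (v : Fin 2 → F) (hv : v ≠ 0), p = Projectivization.mk F v hv :=
    ⟨p.rep, p.rep_nonzero, (Projectivization.mk_rep p).symm⟩
  rw [Projectivization.smul_mk, Projectivization.PGL.mk_smul_mk, Projectivization.mk_eq_mk_iff]
  refine ⟨s, ?_⟩
  show (s : F) • ((g : Matrix (Fin 2) (Fin 2) F) *ᵥ v) = (σ : Matrix (Fin 2) (Fin 2) F) *ᵥ v
  rw [h, Matrix.smul_mulVec]

theorem sl_smul (σ : Matrix.SpecialLinearGroup (Fin 2) F) (v : Fin 2 → F) (i : Fin 2) :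
    (σ • v) i = (σ : Matrix (Fin 2) (Fin 2) F) i 0 * v 0 +
      (σ : Matrix (Fin 2) (Fin 2) F) i 1 * v 1 := by
  show ((σ : Matrix (Fin 2) (Fin 2) F) *ᵥ v) i = _
  simp only [Matrix.mulVec, dotProduct, Fin.sum_univ_two]

/-- an embedding of `Fin 3` from three distinct points -/
def emb3 {α : Type*} (p0 p1 p2 : α) (h01 : p0 ≠ p1) (h02 : p0 ≠ p2) (h12 : p1 ≠ p2) :
    Fin 3 ↪ α :=
  ⟨![p0, p1, p2], by
    intro i j h
    fin_cases i <;> fin_cases j
    · rfl
    · exact absurd h h01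
    · exact absurd h h02
    · exact absurd h.symm h01
    · rfl
    · exact absurd h h12
    · exact absurd h.symm h02
    · exact absurd h.symm h12
    · rfl⟩

theorem trans_of_char_two [Fintype F] (h2 : ringChar F = 2) :
    MulAction.IsMultiplyPretransitive (Matrix.SpecialLinearGroup (Fin 2) F)
      (ℙ F (Fin 2 → F)) 3 := by
  rw [MulAction.isMultiplyPretransitive_iff]
  intro x y
  obtain ⟨gx, hx0, hx1, hx2⟩ := exists_gl' (x 0) (x 1) (x 2)
    (x.injective.ne (by decide)) (x.injective.ne (by decide)) (x.injective.ne (by decide))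
  obtain ⟨gy, hy0, hy1, hy2⟩ := exists_gl' (y 0) (y 1) (y 2)
    (y.injective.ne (by decide)) (y.injective.ne (by decide)) (y.injective.ne (by decide))
  obtain ⟨g, hg⟩ : ∃ g : GL (Fin 2) F, g = gy * gx⁻¹ := ⟨_, rfl⟩
  have hdet0 : (g : Matrix (Fin 2) (Fin 2) F).det ≠ 0 := by
    rw [← Matrix.GeneralLinearGroup.val_det_apply]
    exact Units.ne_zero _
  obtain ⟨s, hs⟩ := FiniteField.isSquare_of_char_two h2 (g : Matrix (Fin 2) (Fin 2) F).det
  have hs0 : s ≠ 0 := by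
    intro h
    rw [h, mul_zero] at hs
    exact hdet0 hs
  have hdetσ : ((s⁻¹ : F) • (g : Matrix (Fin 2) (Fin 2) F)).det = 1 := by
    rw [Matrix.det_smul, Fintype.card_fin, hs]
    field_simp
  obtain ⟨σ, hσv⟩ : ∃ σ : Matrix.SpecialLinearGroup (Fin 2) F,
      (σ : Matrix (Fin 2) (Fin 2) F) = (s⁻¹ : F) • (g : Matrix (Fin 2) (Fin 2) F) :=
    ⟨⟨_, hdetσ⟩, rfl⟩
  have hσ : ∀ p : ℙ F (Fin 2 → F),
      σ • p = (ProjGenLinGroup.mk g : Matrix.ProjGenLinGroup (Fin 2) F) • p :=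
    sl_smul_eq σ g (Units.mk0 s⁻¹ (inv_ne_zero hs0)) hσv
  refine ⟨σ, ?_⟩
  ext i
  rw [Function.Embedding.smul_apply, hσ, hg, map_mul, map_inv]
  fin_cases i
  · show (Matrix.ProjGenLinGroup.mk gy * (Matrix.ProjGenLinGroup.mk gx)⁻¹) • x 0 = y 0
    rw [← hx0, mul_smul, inv_smul_smul, hy0]
  · show (Matrix.ProjGenLinGroup.mk gy * (Matrix.ProjGenLinGroup.mk gx)⁻¹) • x 1 = y 1
    rw [← hx1, mul_smul, inv_smul_smul, hy1]
  · show (Matrix.ProjGenLinGroup.mk gy * (Matrix.ProjGenLinGroup.mk gx)⁻¹) • x 2 = y 2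
    rw [← hx2, mul_smul, inv_smul_smul, hy2]

theorem char_two_of_trans [Fintype F]
    (h : MulAction.IsMultiplyPretransitive (Matrix.SpecialLinearGroup (Fin 2) F)
      (ℙ F (Fin 2 → F)) 3) : ringChar F = 2 := by
  by_contra hne
  obtain ⟨d, hd⟩ := FiniteField.exists_nonsquare hne
  have hd0 : d ≠ 0 := by
    intro h0
    apply hd
    rw [h0]
    exact ⟨0, by rw [mul_zero]⟩
  have hv : (![1, d] : Fin 2 → F) ≠ 0 := fun h => one_ne_zero (congrFun h 0)
  have n01 : (E0 : ℙ F (Fin 2 → F)) ≠ E1 := by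
    unfold E0 E1
    rw [Ne, Projectivization.mk_eq_mk_iff]
    rintro ⟨a, ha⟩
    have h' : (a : F) * 0 = 1 := congrFun ha 0
    rw [mul_zero] at h'
    exact zero_ne_one h'
  have n0d : (E0 : ℙ F (Fin 2 → F)) ≠ Projectivization.mk F ![1, d] hv := by
    unfold E0
    rw [Ne, Projectivization.mk_eq_mk_iff]
    rintro ⟨a, ha⟩
    have h' : (a : F) * d = 0 := congrFun ha 1
    rcases mul_eq_zero.1 h' with h1 | h1
    · exact a.ne_zero h1
    · exact hd0 h1
  have n1d : (E1 : ℙ F (Fin 2 → F)) ≠ Projectivization.mk F ![1, d] hv := by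
    unfold E1
    rw [Ne, Projectivization.mk_eq_mk_iff]
    rintro ⟨a, ha⟩
    have h' : (a : F) * 1 = 0 := congrFun ha 0
    rw [mul_one] at h'
    exact a.ne_zero h'
  have n0e : (E0 : ℙ F (Fin 2 → F)) ≠ E01 := by
    unfold E0 E01
    rw [Ne, Projectivization.mk_eq_mk_iff]
    rintro ⟨a, ha⟩
    have h' : (a : F) * 1 = 0 := congrFun ha 1
    rw [mul_one] at h'
    exact a.ne_zero h'
  have n1e : (E1 : ℙ F (Fin 2 → F)) ≠ E01 := by
    unfold E1 E01
    rw [Ne, Projectivization.mk_eq_mk_iff]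
    rintro ⟨a, ha⟩
    have h' : (a : F) * 1 = 0 := congrFun ha 0
    rw [mul_one] at h'
    exact a.ne_zero h'
  rw [MulAction.isMultiplyPretransitive_iff] at h
  obtain ⟨σ, hσ⟩ := h (emb3 E0 E1 E01 n01 n0e n1e)
    (emb3 E0 E1 (Projectivization.mk F ![1, d] hv) n01 n0d n1d)
  have h0 : σ • (E0 : ℙ F (Fin 2 → F)) = E0 := by
    have := DFunLike.congr_fun hσ 0
    rw [Function.Embedding.smul_apply] at this
    exact this
  have h1 : σ • (E1 : ℙ F (Fin 2 → F)) = E1 := by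
    have := DFunLike.congr_fun hσ 1
    rw [Function.Embedding.smul_apply] at this
    exact this
  have h2 : σ • (E01 : ℙ F (Fin 2 → F)) = Projectivization.mk F ![1, d] hv := by
    have := DFunLike.congr_fun hσ 2
    rw [Function.Embedding.smul_apply] at this
    exact this
  unfold E0 at h0
  unfold E1 at h1
  unfold E01 at h2
  rw [Projectivization.smul_mk, Projectivization.mk_eq_mk_iff] at h0 h1 h2
  obtain ⟨a, ha⟩ := h0
  obtain ⟨b, hb⟩ := h1
  obtain ⟨c, hc⟩ := h2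
  have A1 : (a : F) * 0 = (σ : Matrix (Fin 2) (Fin 2) F) 1 0 * 1 +
      (σ : Matrix (Fin 2) (Fin 2) F) 1 1 * 0 := by
    have := congrFun ha 1; rw [sl_smul] at this; exact this
  have B0 : (b : F) * 0 = (σ : Matrix (Fin 2) (Fin 2) F) 0 0 * 0 +
      (σ : Matrix (Fin 2) (Fin 2) F) 0 1 * 1 := by
    have := congrFun hb 0; rw [sl_smul] at this; exact this
  have C0 : (c : F) * 1 = (σ : Matrix (Fin 2) (Fin 2) F) 0 0 * 1 +
      (σ : Matrix (Fin 2) (Fin 2) F) 0 1 * 1 := by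
    have := congrFun hc 0; rw [sl_smul] at this; exact this
  have C1 : (c : F) * d = (σ : Matrix (Fin 2) (Fin 2) F) 1 0 * 1 +
      (σ : Matrix (Fin 2) (Fin 2) F) 1 1 * 1 := by
    have := congrFun hc 1; rw [sl_smul] at this; exact this
  have e10 : (σ : Matrix (Fin 2) (Fin 2) F) 1 0 = 0 := by linear_combination (-1 : F) * A1
  have e01 : (σ : Matrix (Fin 2) (Fin 2) F) 0 1 = 0 := by linear_combination (-1 : F) * B0
  have ec : (c : F) = (σ : Matrix (Fin 2) (Fin 2) F) 0 0 := by linear_combination C0 + e01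
  have ecd : (c : F) * d = (σ : Matrix (Fin 2) (Fin 2) F) 1 1 := by linear_combination C1 + e10
  have hdet : (σ : Matrix (Fin 2) (Fin 2) F) 0 0 * (σ : Matrix (Fin 2) (Fin 2) F) 1 1 -
      (σ : Matrix (Fin 2) (Fin 2) F) 0 1 * (σ : Matrix (Fin 2) (Fin 2) F) 1 0 = 1 := by
    have := σ.property
    rwa [Matrix.det_fin_two] at this
  have hdet' : (σ : Matrix (Fin 2) (Fin 2) F) 0 0 * (σ : Matrix (Fin 2) (Fin 2) F) 1 1 = 1 := by
    rw [e01, zero_mul, sub_zero] at hdet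
    exact hdet
  have key : (c : F) * ((c : F) * d) = 1 := by
    rw [ecd, ec]
    exact hdet'
  apply hd
  refine ⟨(c : F)⁻¹, ?_⟩
  have hc0 : (c : F) ≠ 0 := c.ne_zero
  field_simp
  linear_combination key

end
/-- SL_2(q) is 3-transitive on the q+1 points of the projective line if and only if q is even. -/
theorem result {F : Type*} [Field F] [Fintype F] : MulAction.IsMultiplyPretransitive (Matrix.SpecialLinearGroup (Fin 2) F) (Projectivization F (Fin 2 → F)) 3 ↔ ringChar F = 2 := by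
  exact ⟨char_two_of_trans, trans_of_char_two⟩

end Cfsg.Agent.S0267
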