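import Cfsg.Statements.S1463
import Cfsg.Agent.Lib.Lead.OddSL2

set_option autoImplicit false
open scoped MatrixGroups
open Cfsg

namespace Cfsg.Agent.S1463


section s1463lin

variable {F : Type*} [Field F]

theorem s1463_nilp2 (X : Matrix (Fin 2) (Fin 2) F) {n : ℕ}
    (hX : X ^ n = 0) : X ^ 2 = 0 := by
  have hCH : X ^ 2 = X.trace • X - X.det • (1 : Matrix (Fin 2) (Fin 2) F) := by
    ext i j
    fin_cases i <;> fin_cases j <;>
      simp [pow_two, Matrix.mul_apply, Fin.sum_univ_two, Matrix.det_fin_two,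
        Matrix.trace_fin_two] <;> ring
  have hdet : X.det = 0 := by
    have h1 : X.det ^ n = 0 := by rw [← Matrix.det_pow, hX, Matrix.det_zero]
    exact IsNilpotent.eq_zero ⟨n, h1⟩
  have h2 : X ^ 2 = X.trace • X := by rw [hCH, hdet, zero_smul, sub_zero]
  have h3 : ∀ k : ℕ, X ^ (k + 1) = X.trace ^ k • X := by
    intro k
    induction k with
    | zero => simp
    | succ k ih =>
      rw [pow_succ, ih, Matrix.smul_mul, ← pow_two, h2, smul_smul, ← pow_succ]
  rcases n with _ | k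
  · have h1 : (1 : Matrix (Fin 2) (Fin 2) F) = 0 := by simp at hX
    calc X ^ 2 = X ^ 2 * 1 := (mul_one _).symm
      _ = 0 := by rw [h1, mul_zero]
  · rw [h3 k] at hX
    rcases smul_eq_zero.mp hX with h | h
    · have ht : X.trace = 0 := IsNilpotent.eq_zero ⟨k, h⟩
      rw [h2, ht, zero_smul]
    · rw [h]; simp

theorem s1463_ker2 (A : Matrix (Fin 2) (Fin 2) F) (hA : A ≠ 0) (a b : Fin 2 → F)
    (ha : A.mulVec a = 0) (hb : A.mulVec b = 0) : a 0 * b 1 - a 1 * b 0 = 0 := by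
  have ha0 := congrFun ha 0
  have ha1 := congrFun ha 1
  have hb0 := congrFun hb 0
  have hb1 := congrFun hb 1
  simp only [Matrix.mulVec, dotProduct, Fin.sum_univ_two, Pi.zero_apply] at ha0 ha1 hb0 hb1
  by_contra hD
  apply hA
  have e00 : A 0 0 * (a 0 * b 1 - a 1 * b 0) = 0 := by linear_combination b 1 * ha0 - a 1 * hb0
  have e01 : A 0 1 * (a 0 * b 1 - a 1 * b 0) = 0 := by linear_combination a 0 * hb0 - b 0 * ha0
  have e10 : A 1 0 * (a 0 * b 1 - a 1 * b 0) = 0 := by linear_combination b 1 * ha1 - a 1 * hb1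
  have e11 : A 1 1 * (a 0 * b 1 - a 1 * b 0) = 0 := by linear_combination a 0 * hb1 - b 0 * ha1
  have f00 : A 0 0 = 0 := (mul_eq_zero.mp e00).resolve_right hD
  have f01 : A 0 1 = 0 := (mul_eq_zero.mp e01).resolve_right hD
  have f10 : A 1 0 = 0 := (mul_eq_zero.mp e10).resolve_right hD
  have f11 : A 1 1 = 0 := (mul_eq_zero.mp e11).resolve_right hD
  ext i j
  fin_cases i <;> fin_cases j
  · simpa using f00
  · simpa using f01
  · simpa using f10
  · simpa using f11

theorem s1463_dep2 (a b : Fin 2 → F) (ha : a ≠ 0) (hD : a 0 * b 1 - a 1 * b 0 = 0) :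
    ∃ c : F, b = c • a := by
  by_cases h0 : a 0 = 0
  · have h1 : a 1 ≠ 0 := by
      intro h1
      apply ha
      ext i
      fin_cases i
      · simpa using h0
      · simpa using h1
    have hb0 : b 0 = 0 := by
      have : a 1 * b 0 = 0 := by rw [h0] at hD; linear_combination -hD
      exact (mul_eq_zero.mp this).resolve_left h1
    refine ⟨b 1 / a 1, ?_⟩
    ext i
    fin_cases i
    · show b 0 = b 1 / a 1 * a 0
      rw [h0, hb0, mul_zero]
    · show b 1 = b 1 / a 1 * a 1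
      exact (div_mul_cancel₀ (b 1) h1).symm
  · refine ⟨b 0 / a 0, ?_⟩
    ext i
    fin_cases i
    · show b 0 = b 0 / a 0 * a 0
      exact (div_mul_cancel₀ (b 0) h0).symm
    · show b 1 = b 0 / a 0 * a 1
      rw [div_mul_eq_mul_div, eq_div_iff h0]
      linear_combination hD

theorem s1463_exists_fixed (N : Matrix (Fin 2) (Fin 2) F) (hN2 : N * N = 0) (hN0 : N ≠ 0) :
    ∃ w : Fin 2 → F, w ≠ 0 ∧ N.mulVec w = 0 := by
  have hex : ∃ i j, N i j ≠ 0 := by
    by_contra hcon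
    push_neg at hcon
    exact hN0 (by ext i j; exact hcon i j)
  obtain ⟨i, j, hij⟩ := hex
  refine ⟨fun i' => N i' j, ?_, ?_⟩
  · intro hw0
    exact hij (congrFun hw0 i)
  · ext i'
    have := congrFun (congrFun hN2 i') j
    simpa [Matrix.mulVec, dotProduct, Matrix.mul_apply] using this

theorem s1463_key (N G Gi N' : Matrix (Fin 2) (Fin 2) F) (hN' : N' = G * N * Gi)
    (hN2 : N * N = 0) (hN0 : N ≠ 0)
    (hG1 : G * Gi = 1) (hG2 : Gi * G = 1)
    (hcomm : N * N' = N' * N)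
    (w : Fin 2 → F) (hw : w ≠ 0) (hNw : N.mulVec w = 0) : ∃ c : F, G.mulVec w = c • w := by
  have hN'0 : N' ≠ 0 := by
    intro h
    apply hN0
    have e : Gi * N' * G = N := by
      rw [hN']
      calc Gi * (G * N * Gi) * G = (Gi * G) * N * (Gi * G) := by simp only [Matrix.mul_assoc]
        _ = N := by rw [hG2, Matrix.one_mul, Matrix.mul_one]
    rw [← e, h, Matrix.mul_zero, Matrix.zero_mul]
  have hN'u : N'.mulVec (G.mulVec w) = 0 := by
    rw [hN', Matrix.mulVec_mulVec]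
    have e : G * N * Gi * G = G * N := by rw [Matrix.mul_assoc, hG2, Matrix.mul_one]
    rw [e, ← Matrix.mulVec_mulVec, hNw, Matrix.mulVec_zero]
  have h1 : N.mulVec (N.mulVec (G.mulVec w)) = 0 := by
    rw [Matrix.mulVec_mulVec, hN2, Matrix.zero_mulVec]
  have h2 : N'.mulVec (N.mulVec (G.mulVec w)) = 0 := by
    rw [Matrix.mulVec_mulVec, ← hcomm, ← Matrix.mulVec_mulVec, hN'u, Matrix.mulVec_zero]
  have d1 := s1463_ker2 N hN0 w (N.mulVec (G.mulVec w)) hNw h1
  have d2 := s1463_ker2 N' hN'0 (G.mulVec w) (N.mulVec (G.mulVec w)) hN'u h2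
  have d3 : w 0 * (G.mulVec w) 1 - w 1 * (G.mulVec w) 0 = 0 := by
    by_cases hz : N.mulVec (G.mulVec w) = 0
    · exact s1463_ker2 N hN0 w (G.mulVec w) hNw hz
    · by_contra hD
      apply hz
      have e0 : (N.mulVec (G.mulVec w)) 0 * (w 0 * (G.mulVec w) 1 - w 1 * (G.mulVec w) 0) = 0 := by
        linear_combination (G.mulVec w) 0 * d1 - w 0 * d2
      have e1 : (N.mulVec (G.mulVec w)) 1 * (w 0 * (G.mulVec w) 1 - w 1 * (G.mulVec w) 0) = 0 := by
        linear_combination (G.mulVec w) 1 * d1 - w 1 * d2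
      have f0 := (mul_eq_zero.mp e0).resolve_right hD
      have f1 := (mul_eq_zero.mp e1).resolve_right hD
      ext i
      fin_cases i
      · simpa using f0
      · simpa using f1
  exact s1463_dep2 w (G.mulVec w) hw d3

theorem s1463_keyM (M G Gi : Matrix (Fin 2) (Fin 2) F) (hN2 : (M - 1) * (M - 1) = 0)
    (hM1 : M ≠ 1) (hG1 : G * Gi = 1) (hG2 : Gi * G = 1)
    (hcomm : M * (G * M * Gi) = (G * M * Gi) * M)
    (w : Fin 2 → F) (hw : w ≠ 0) (hNw : (M - 1).mulVec w = 0) :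
    ∃ c : F, G.mulVec w = c • w := by
  have hN0 : M - 1 ≠ 0 := fun h => hM1 (sub_eq_zero.mp h)
  have e : G * (M - 1) * Gi = G * M * Gi - 1 := by
    rw [Matrix.mul_sub, Matrix.sub_mul, Matrix.mul_one, hG1]
  have hc : (M - 1) * (G * (M - 1) * Gi) = (G * (M - 1) * Gi) * (M - 1) := by
    rw [e]
    have e1 : (M - 1) * (G * M * Gi - 1) = M * (G * M * Gi) - M - G * M * Gi + 1 := by
      simp only [mul_sub, sub_mul, mul_one, one_mul]; abel
    have e2 : (G * M * Gi - 1) * (M - 1) = G * M * Gi * M - M - G * M * Gi + 1 := by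
      simp only [mul_sub, sub_mul, mul_one, one_mul]; abel
    rw [e1, e2, hcomm]
  exact s1463_key (M - 1) G Gi (G * (M - 1) * Gi) rfl hN2 hN0 hG1 hG2 hc w hw hNw

end s1463lin

/-- Let F be a field of odd characteristic p and H a finite subgroup of odd order of GL(2, F) that leaves no 1-dimensional subspace of F² invariant. Then p does not divide the order of H. -/
theorem result {F : Type*} [Field F] (p : ℕ) [Fact p.Prime] [CharP F p] (hp : p ≠ 2)
    (H : Subgroup (GL (Fin 2) F)) [Finite H] (hodd : Odd (Nat.card H))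
    (hirr : ∀ v : Fin 2 → F, v ≠ 0 → ∃ g ∈ H, (g : Matrix (Fin 2) (Fin 2) F).mulVec v ∉ Submodule.span F {v}) :
    ¬ p ∣ Nat.card H := by
  intro hdvd
  have hpp : p.Prime := Fact.out
  obtain ⟨h, hh⟩ := exists_prime_orderOf_dvd_card' (G := H) p hdvd
  have hhp : h ^ p = 1 := by rw [← hh]; exact pow_orderOf_eq_one h
  have hh1 : h ≠ 1 := by
    intro e
    rw [e, orderOf_one] at hh
    exact hpp.one_lt.ne hh
  obtain ⟨k, hk⟩ : ∃ k : GL (Fin 2) F, k = h.1 := ⟨_, rfl⟩
  have hkH : k ∈ H := by rw [hk]; exact h.2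
  have hkp : k ^ p = 1 := by
    have := congrArg Subtype.val hhp
    rw [hk]
    simpa using this
  have hk1 : k ≠ 1 := by
    intro e
    apply hh1
    apply Subtype.ext
    rw [← hk, e]
    rfl
  -- determinants
  have hMp : ∀ k : GL (Fin 2) F, k ^ p = 1 → (k : Matrix (Fin 2) (Fin 2) F) ^ p = 1 := by
    intro k hk
    rw [← Units.val_pow_eq_pow_val, hk, Units.val_one]
  have key_det : ∀ k : GL (Fin 2) F, k ^ p = 1 → (k : Matrix (Fin 2) (Fin 2) F).det = 1 := by
    intro k hk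
    have h2 : (k : Matrix (Fin 2) (Fin 2) F).det ^ p = 1 := by
      rw [← Matrix.det_pow, hMp k hk, Matrix.det_one]
    have h3 : ((k : Matrix (Fin 2) (Fin 2) F).det - 1) ^ p = 0 := by
      rw [sub_pow_char_of_commute p (Commute.one_right _), one_pow, h2, sub_self]
    exact sub_eq_zero.mp ((pow_eq_zero_iff hpp.ne_zero).mp h3)
  have lift : ∀ k : GL (Fin 2) F, k ^ p = 1 →
      ∃ x : Matrix.SpecialLinearGroup (Fin 2) F, Matrix.SpecialLinearGroup.toGL x = k := by
    intro k hk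
    exact ⟨⟨(k : Matrix (Fin 2) (Fin 2) F), key_det k hk⟩, Units.ext rfl⟩
  have hxp : ∀ x : Matrix.SpecialLinearGroup (Fin 2) F,
      (Matrix.SpecialLinearGroup.toGL x) ^ p = 1 → x ^ p = 1 := by
    intro x hx
    apply Matrix.SpecialLinearGroup.toGL_injective
    rw [map_pow, hx, map_one]
  -- the subgroup of SL
  obtain ⟨L, hL⟩ : ∃ L : Subgroup (Matrix.SpecialLinearGroup (Fin 2) F),
      L = H.comap Matrix.SpecialLinearGroup.toGL := ⟨_, rfl⟩
  have hmemL : ∀ x : Matrix.SpecialLinearGroup (Fin 2) F,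
      x ∈ L ↔ Matrix.SpecialLinearGroup.toGL x ∈ H := by
    intro x; rw [hL]; exact Subgroup.mem_comap
  let φ : L →* H := (Matrix.SpecialLinearGroup.toGL.comp L.subtype).codRestrict H
    (fun x => (hmemL x.1).mp x.2)
  have hφ : Function.Injective φ := by
    intro a b hab
    have e : Matrix.SpecialLinearGroup.toGL a.1 = Matrix.SpecialLinearGroup.toGL b.1 :=
      congrArg Subtype.val hab
    exact Subtype.ext (Matrix.SpecialLinearGroup.toGL_injective e)
  haveI : Finite L := Finite.of_injective φ hφ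
  have hLodd : Odd (Nat.card L) := hodd.of_dvd_nat (Subgroup.card_dvd_of_injective φ hφ)
  -- the element x
  obtain ⟨x, hx⟩ := lift k hkp
  have hxL : x ∈ L := (hmemL x).mpr (by rw [hx]; exact hkH)
  have hxM : (x : Matrix (Fin 2) (Fin 2) F) = (k : Matrix (Fin 2) (Fin 2) F) :=
    congrArg (fun z : GL (Fin 2) F => (z : Matrix (Fin 2) (Fin 2) F)) hx
  -- the matrix
  obtain ⟨M, hM⟩ : ∃ M : Matrix (Fin 2) (Fin 2) F, M = (k : Matrix (Fin 2) (Fin 2) F) := ⟨_, rfl⟩
  have hM1 : M ≠ 1 := by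
    intro e
    apply hk1
    apply Units.ext
    rw [← hM, e, Units.val_one]
  have hMpow : M ^ p = 1 := by rw [hM]; exact hMp k hkp
  have hNp : (M - 1) ^ p = 0 := by
    rw [sub_pow_char_of_commute p (Commute.one_right M), one_pow, hMpow, sub_self]
  have hN2 : (M - 1) * (M - 1) = 0 := by
    rw [← pow_two]; exact s1463_nilp2 _ hNp
  have hN0 : M - 1 ≠ 0 := fun e => hM1 (sub_eq_zero.mp e)
  obtain ⟨w, hw, hNw⟩ := s1463_exists_fixed (M - 1) hN2 hN0
  obtain ⟨g, hgH, hgw⟩ := hirr w hw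
  -- the conjugate
  have hk'H : g * k * g⁻¹ ∈ H := H.mul_mem (H.mul_mem hgH hkH) (H.inv_mem hgH)
  have hk'p : (g * k * g⁻¹) ^ p = 1 := by
    rw [conj_pow, hkp, mul_one, mul_inv_cancel]
  obtain ⟨x', hx'⟩ := lift (g * k * g⁻¹) hk'p
  have hx'L : x' ∈ L := (hmemL x').mpr (by rw [hx']; exact hk'H)
  have hx'M : (x' : Matrix (Fin 2) (Fin 2) F) = ((g * k * g⁻¹ : GL (Fin 2) F) : Matrix (Fin 2) (Fin 2) F) :=
    congrArg (fun z : GL (Fin 2) F => (z : Matrix (Fin 2) (Fin 2) F)) hx'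
  have hup : (⟨x, hxL⟩ : L) ^ p = 1 := by
    apply Subtype.ext
    rw [Subgroup.coe_pow, Subgroup.coe_one]
    exact hxp x (by rw [hx]; exact hkp)
  have hu'p : (⟨x', hx'L⟩ : L) ^ p = 1 := by
    apply Subtype.ext
    rw [Subgroup.coe_pow, Subgroup.coe_one]
    exact hxp x' (by rw [hx']; exact hk'p)
  have hcommL := Cfsg.Agent.Lib.Lead.oddsl2_pelements_commute p hp hLodd L.subtype
    (Subgroup.subtype_injective L) ⟨x, hxL⟩ ⟨x', hx'L⟩ hup hu'p
  have hcommSL : x * x' = x' * x := congrArg Subtype.val hcommL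
  have hcommM : (x : Matrix (Fin 2) (Fin 2) F) * (x' : Matrix (Fin 2) (Fin 2) F)
      = (x' : Matrix (Fin 2) (Fin 2) F) * (x : Matrix (Fin 2) (Fin 2) F) := by
    rw [← Matrix.SpecialLinearGroup.coe_mul, ← Matrix.SpecialLinearGroup.coe_mul, hcommSL]
  have hG1 : (g : Matrix (Fin 2) (Fin 2) F) * ((g⁻¹ : GL (Fin 2) F) : Matrix (Fin 2) (Fin 2) F) = 1 := by
    rw [← Units.val_mul, mul_inv_cancel, Units.val_one]
  have hG2 : ((g⁻¹ : GL (Fin 2) F) : Matrix (Fin 2) (Fin 2) F) * (g : Matrix (Fin 2) (Fin 2) F) = 1 := by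
    rw [← Units.val_mul, inv_mul_cancel, Units.val_one]
  have hcomm : M * ((g : Matrix (Fin 2) (Fin 2) F) * M * ((g⁻¹ : GL (Fin 2) F) : Matrix (Fin 2) (Fin 2) F))
      = ((g : Matrix (Fin 2) (Fin 2) F) * M * ((g⁻¹ : GL (Fin 2) F) : Matrix (Fin 2) (Fin 2) F)) * M := by
    rw [hxM, hx'M, Units.val_mul, Units.val_mul, ← hM] at hcommM
    exact hcommM
  obtain ⟨c, hc⟩ := s1463_keyM M (g : Matrix (Fin 2) (Fin 2) F)
    ((g⁻¹ : GL (Fin 2) F) : Matrix (Fin 2) (Fin 2) F) hN2 hM1 hG1 hG2 hcomm w hw hNw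
  apply hgw
  rw [hc]
  exact Submodule.smul_mem _ c (Submodule.mem_span_singleton_self w)

end Cfsg.Agent.S1463
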