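import Cfsg.Statements.S0275
import Cfsg.Agent.Lib.Lead.OddSL2
import Cfsg.Agent.S1463
import Cfsg.Agent.S0016
import Cfsg.Agent.S0268

set_option autoImplicit false
open Cfsg

namespace Cfsg.Agent.S0275


theorem s0275_ppow {F : Type*} [Field F] (p : ℕ) [Fact p.Prime] [CharP F p]
    (x : Matrix.SpecialLinearGroup (Fin 2) F) (k : ℕ) (hx : x ^ (p ^ k) = 1) : x ^ p = 1 := by
  have hpp : p.Prime := Fact.out
  obtain ⟨M, hM⟩ : ∃ M : Matrix (Fin 2) (Fin 2) F, M = (x : Matrix (Fin 2) (Fin 2) F) := ⟨_, rfl⟩
  have h1 : M ^ (p ^ k) = 1 := by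
    rw [hM, ← Matrix.SpecialLinearGroup.coe_pow, hx, Matrix.SpecialLinearGroup.coe_one]
  have h2 : (M - 1) ^ (p ^ k) = 0 := by
    rw [sub_pow_char_pow_of_commute p k (Commute.one_right M), one_pow, h1, sub_self]
  have h3 : (M - 1) ^ 2 = 0 := Cfsg.Agent.S1463.s1463_nilp2 _ h2
  have h4 : (M - 1) ^ p = 0 := by
    have e : (M - 1) ^ p = (M - 1) ^ 2 * (M - 1) ^ (p - 2) := by
      rw [← pow_add]; congr 1; have := hpp.two_le; omega
    rw [e, h3, zero_mul]
  have h5 : M ^ p = 1 := by
    rw [sub_pow_char_of_commute p (Commute.one_right M), one_pow, sub_eq_zero] at h4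
    exact h4
  apply Subtype.ext
  rw [Matrix.SpecialLinearGroup.coe_pow, ← hM, h5, Matrix.SpecialLinearGroup.coe_one]

/-- If p is odd and H is a subgroup of SL_2(q), q a power of p, with more than one Sylow p-subgroup, then the Sylow 2-subgroups of H are generalised quaternion. -/
theorem result {F : Type*} [Field F] [Fintype F] (p : ℕ) [Fact p.Prime] [CharP F p] (hp : p ≠ 2) (H : Subgroup (Matrix.SpecialLinearGroup (Fin 2) F)) (hH : 1 < Nat.card (Sylow p H)) (S : Sylow 2 H) : ∃ k : ℕ, 1 ≤ k ∧ Nonempty ((S : Subgroup H) ≃* QuaternionGroup (2 ^ k)) := by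
  classical
  have hpp : p.Prime := Fact.out
  have hFodd : Odd (Fintype.card F) := by
    obtain ⟨n, -, hn⟩ := FiniteField.card F p
    rw [hn]
    exact (hpp.eq_two_or_odd'.resolve_left hp).pow
  -- a cyclic Sylow 2-subgroup is impossible
  have hcyc : ¬ IsCyclic (S : Subgroup H) := by
    intro hS
    have hcomm : ∀ u u' : H, u ^ p = 1 → u' ^ p = 1 → u * u' = u' * u := by
      by_cases h2 : 2 ∣ Nat.card H
      · have hmf : (Nat.card H).minFac = 2 := (Nat.minFac_eq_two_iff _).mpr h2
        have hNC := IsCyclic.normalizer_le_centralizer hmf hS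
        have hcompl := IsCyclic.isComplement' hmf hS
        obtain ⟨N, hN⟩ : ∃ N : Subgroup H, N = (MonoidHom.transferSylow S hNC).ker := ⟨_, rfl⟩
        rw [← hN] at hcompl
        have hNodd : Odd (Nat.card N) := by
          rw [← hcompl.index_eq_card]
          have := S.not_dvd_index
          exact Nat.odd_iff.mpr (Nat.two_dvd_ne_zero.mp this)
        have hmemN : ∀ u : H, u ^ p = 1 → u ∈ N := by
          intro u hu
          rw [hN, MonoidHom.mem_ker]
          apply Cfsg.Agent.Lib.Lead.pgroup_elt_eq_one Nat.prime_two hpp (Ne.symm hp) S.isPGroup'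
          rw [← map_pow, hu, map_one]
        intro u u' hu hu'
        have hinj : Function.Injective (H.subtype.comp N.subtype) := by
          rw [MonoidHom.coe_comp]
          exact (Subgroup.subtype_injective H).comp (Subgroup.subtype_injective N)
        have hup : (⟨u, hmemN u hu⟩ : N) ^ p = 1 := by
          apply Subtype.ext
          rw [Subgroup.coe_pow, Subgroup.coe_one]; exact hu
        have hu'p : (⟨u', hmemN u' hu'⟩ : N) ^ p = 1 := by
          apply Subtype.ext
          rw [Subgroup.coe_pow, Subgroup.coe_one]; exact hu'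
        have := Cfsg.Agent.Lib.Lead.oddsl2_pelements_commute p hp hNodd
          (H.subtype.comp N.subtype) hinj ⟨u, hmemN u hu⟩ ⟨u', hmemN u' hu'⟩ hup hu'p
        exact congrArg Subtype.val this
      · have hHodd : Odd (Nat.card H) := Nat.odd_iff.mpr (Nat.two_dvd_ne_zero.mp h2)
        intro u u' hu hu'
        exact Cfsg.Agent.Lib.Lead.oddsl2_pelements_commute p hp hHodd H.subtype
          (Subgroup.subtype_injective H) u u' hu hu'
    have hpel : ∀ (R : Sylow p H) (u : H), u ∈ (R : Subgroup H) → u ^ p = 1 := by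
      intro R u hu
      obtain ⟨k, hk⟩ := R.isPGroup' ⟨u, hu⟩
      have hk' : u ^ (p ^ k) = 1 := by
        have := congrArg Subtype.val hk
        simpa using this
      have h3 : (u : Matrix.SpecialLinearGroup (Fin 2) F) ^ (p ^ k) = 1 := by
        have := congrArg Subtype.val hk'
        simpa using this
      have h4 := s0275_ppow p (u : Matrix.SpecialLinearGroup (Fin 2) F) k h3
      apply Subtype.ext
      rw [Subgroup.coe_pow, Subgroup.coe_one]; exact h4
    have hsub : Subsingleton (Sylow p H) := by
      constructor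
      intro P Q
      have hQP : (Q : Subgroup H) ≤ Subgroup.normalizer ((P : Subgroup H) : Set H) := by
        intro q hq
        rw [Subgroup.mem_normalizer_iff]
        intro h
        constructor
        · intro hh
          have e : q * h * q⁻¹ = h := by
            rw [hcomm q h (hpel Q q hq) (hpel P h hh), mul_inv_cancel_right]
          rw [e]; exact hh
        · intro hh
          have e : q * (q * h * q⁻¹) = (q * h * q⁻¹) * q :=
            hcomm q _ (hpel Q q hq) (hpel P _ hh)
          have e2 : h = q * h * q⁻¹ := by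
            calc h = q⁻¹ * (q * h * q⁻¹) * q := by group
              _ = q⁻¹ * ((q * h * q⁻¹) * q) := by rw [mul_assoc]
              _ = q⁻¹ * (q * (q * h * q⁻¹)) := by rw [← e]
              _ = q * h * q⁻¹ := by group
          rw [e2]; exact hh
      have hsup : IsPGroup p ((Q : Subgroup H) ⊔ (P : Subgroup H) : Subgroup H) :=
        Q.isPGroup'.to_sup_of_normal_right' P.isPGroup' hQP
      have h1 : (P : Subgroup H) = (Q : Subgroup H) ⊔ P := (P.is_maximal' hsup le_sup_right).symm
      have h2 : (Q : Subgroup H) = (Q : Subgroup H) ⊔ P := (Q.is_maximal' hsup le_sup_left).symm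
      exact Sylow.ext (h1.trans h2.symm)
    have := Finite.card_le_one_iff_subsingleton.mpr hsub
    omega
  -- the unique involution
  have hinvol : ∀ g : (S : Subgroup H), g * g = 1 → g ≠ 1 →
      (((g : H) : Matrix.SpecialLinearGroup (Fin 2) F) : Matrix (Fin 2) (Fin 2) F) = -1 := by
    intro g hg hg1
    apply Cfsg.Agent.S0268.result hFodd
    · intro h
      apply hg1
      exact Subtype.ext (Subtype.ext h)
    · have := congrArg (fun z : (S : Subgroup H) =>
        ((z : H) : Matrix.SpecialLinearGroup (Fin 2) F)) hg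
      simpa using this
  have hsubg : ∀ K : Subgroup (S : Subgroup H), Nat.card K = 2 → ∀ g ∈ K, g * g = 1 := by
    intro K hK g hg
    have h1 : orderOf (⟨g, hg⟩ : K) ∣ Nat.card K := orderOf_dvd_natCard _
    rw [hK] at h1
    have h3 : (⟨g, hg⟩ : K) ^ 2 = 1 := orderOf_dvd_iff_pow_eq_one.1 h1
    have h4 := congrArg Subtype.val h3
    rw [pow_two] at h4
    simpa using h4
  have hne : ∀ K : Subgroup (S : Subgroup H), Nat.card K = 2 → ∃ k ∈ K, k ≠ 1 := by
    intro K hK
    by_contra hcon
    push Not at hcon
    have : K = ⊥ := by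
      rw [Subgroup.eq_bot_iff_forall]
      exact hcon
    rw [this, Subgroup.card_bot] at hK
    omega
  have hle : ∀ K K' : Subgroup (S : Subgroup H), Nat.card K = 2 → Nat.card K' = 2 → K ≤ K' := by
    intro K K' hK hK' g hg
    by_cases hg1 : g = 1
    · rw [hg1]; exact K'.one_mem
    · obtain ⟨k, hkK, hk1⟩ := hne K' hK'
      have e1 := hinvol g (hsubg K hK g hg) hg1
      have e2 := hinvol k (hsubg K' hK' k hkK) hk1
      have : g = k := by
        apply Subtype.ext
        apply Subtype.ext
        apply Subtype.ext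
        rw [e1, e2]
      rw [this]
      exact hkK
  have huniq : ∀ K K' : Subgroup (S : Subgroup H), Nat.card K = 2 → Nat.card K' = 2 → K = K' :=
    fun K K' hK hK' => le_antisymm (hle K K' hK hK') (hle K' K hK' hK)
  rcases Cfsg.Agent.S0016.result 2 S.isPGroup' huniq with hc | ⟨-, n, hn⟩
  · exact absurd hc hcyc
  · refine ⟨n, ?_, hn⟩
    by_contra hn0
    have hn0' : n = 0 := by omega
    subst hn0'
    obtain ⟨e⟩ := hn
    apply hcyc
    haveI : IsCyclic (QuaternionGroup (2 ^ 0)) := by
      show IsCyclic (QuaternionGroup 1)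
      exact QuaternionGroup.quaternionGroup_one_isCyclic
    exact isCyclic_of_surjective e.symm e.symm.surjective

end Cfsg.Agent.S0275
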