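import Cfsg.Statements.S0276
import Mathlib
import Cfsg.Agent.Lib.Helper1.PSL2Small
import Cfsg.Agent.Lib.Helper1.GLSylow

set_option autoImplicit false
open Cfsg

namespace Cfsg.Agent.S0276

open Matrix

theorem card_arith (q c : ℕ) (h : Nat.gcd 2 (q - 1) * ((q - 1) * c) = (q ^ 2 - 1) * (q ^ 2 - q))
    (hq : q % 8 = 3 ∨ q % 8 = 5) : ∃ m, c = 2 ^ 2 * m ∧ ¬ 2 ∣ m := by
  rcases hq with hq | hq
  · obtain ⟨k, rfl⟩ : ∃ k, q = 8 * k + 3 := ⟨q / 8, by omega⟩
    have h1 : 8 * k + 3 - 1 = 8 * k + 2 := by omega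
    have h2 : (8 * k + 3) ^ 2 - 1 = (8 * k + 2) * (8 * k + 4) :=
      Nat.sub_eq_of_eq_add (by ring)
    have h3 : (8 * k + 3) ^ 2 - (8 * k + 3) = (8 * k + 3) * (8 * k + 2) :=
      Nat.sub_eq_of_eq_add (by ring)
    have h4 : Nat.gcd 2 (8 * k + 2) = 2 := Nat.gcd_eq_left (by omega)
    rw [h1, h2, h3, h4] at h
    refine ⟨(4 * k + 1) * (2 * k + 1) * (8 * k + 3), ?_, ?_⟩
    · have : 2 * (8 * k + 2) * c = 2 * (8 * k + 2) * (2 ^ 2 * ((4 * k + 1) * (2 * k + 1) * (8 * k + 3))) := by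
        rw [mul_assoc, h]; ring
      exact Nat.eq_of_mul_eq_mul_left (by positivity) this
    · have hodd : Odd ((4 * k + 1) * (2 * k + 1) * (8 * k + 3)) :=
        Odd.mul (Odd.mul ⟨2 * k, by ring⟩ ⟨k, by ring⟩) ⟨4 * k + 1, by ring⟩
      exact fun hd => (Nat.not_even_iff_odd.2 hodd) (even_iff_two_dvd.2 hd)
  · obtain ⟨k, rfl⟩ : ∃ k, q = 8 * k + 5 := ⟨q / 8, by omega⟩
    have h1 : 8 * k + 5 - 1 = 8 * k + 4 := by omega
    have h2 : (8 * k + 5) ^ 2 - 1 = (8 * k + 4) * (8 * k + 6) :=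
      Nat.sub_eq_of_eq_add (by ring)
    have h3 : (8 * k + 5) ^ 2 - (8 * k + 5) = (8 * k + 5) * (8 * k + 4) :=
      Nat.sub_eq_of_eq_add (by ring)
    have h4 : Nat.gcd 2 (8 * k + 4) = 2 := Nat.gcd_eq_left (by omega)
    rw [h1, h2, h3, h4] at h
    refine ⟨(2 * k + 1) * (4 * k + 3) * (8 * k + 5), ?_, ?_⟩
    · have : 2 * (8 * k + 4) * c = 2 * (8 * k + 4) * (2 ^ 2 * ((2 * k + 1) * (4 * k + 3) * (8 * k + 5))) := by
        rw [mul_assoc, h]; ring
      exact Nat.eq_of_mul_eq_mul_left (by positivity) this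
    · have hodd : Odd ((2 * k + 1) * (4 * k + 3) * (8 * k + 5)) :=
        Odd.mul (Odd.mul ⟨k, by ring⟩ ⟨2 * k + 1, by ring⟩) ⟨4 * k + 2, by ring⟩
      exact fun hd => (Nat.not_even_iff_odd.2 hodd) (even_iff_two_dvd.2 hd)

/-- Cayley–Hamilton for `SL₂`. -/
theorem sq_eq {F : Type*} [Field F] (g : SpecialLinearGroup (Fin 2) F) :
    (g : Matrix (Fin 2) (Fin 2) F) * (g : Matrix (Fin 2) (Fin 2) F) =
      (g.1 0 0 + g.1 1 1) • (g : Matrix (Fin 2) (Fin 2) F) - 1 := by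
  have hdet : g.1 0 0 * g.1 1 1 - g.1 0 1 * g.1 1 0 = 1 := by
    have := g.2
    rwa [Matrix.det_fin_two] at this
  ext i j
  fin_cases i <;> fin_cases j <;>
    simp [Matrix.mul_apply, Fin.sum_univ_two] <;>
    first | linear_combination (-1 : F) * hdet | linear_combination (1 : F) * hdet | ring

theorem quartic {F : Type*} [Field F] (M : Matrix (Fin 2) (Fin 2) F) (t : F)
    (hsq : M * M = t • M - 1) :
    (M * M) * (M * M) = (t ^ 3 - 2 * t) • M + (1 - t ^ 2) • (1 : Matrix (Fin 2) (Fin 2) F) := by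
  have e1 : (t • M - 1) * (t • M - 1) = (t * t) • (M * M) - t • M - t • M + 1 := by
    simp only [sub_mul, mul_sub, Matrix.smul_mul, Matrix.mul_smul, smul_smul, mul_one, one_mul]
    abel
  rw [hsq, e1, hsq]
  module

theorem scalar_of_smul {F : Type*} [Field F] (M : Matrix (Fin 2) (Fin 2) F) (u r w : F) (hu : u ≠ 0)
    (h : r • (1 : Matrix (Fin 2) (Fin 2) F) = u • M + w • (1 : Matrix (Fin 2) (Fin 2) F)) :
    M = (u⁻¹ * (r - w)) • (1 : Matrix (Fin 2) (Fin 2) F) := by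
  have e : u • M = (r - w) • (1 : Matrix (Fin 2) (Fin 2) F) := by
    calc u • M = (u • M + w • (1 : Matrix (Fin 2) (Fin 2) F)) - w • (1 : Matrix (Fin 2) (Fin 2) F) := by abel
      _ = r • (1 : Matrix (Fin 2) (Fin 2) F) - w • (1 : Matrix (Fin 2) (Fin 2) F) := by rw [← h]
      _ = (r - w) • (1 : Matrix (Fin 2) (Fin 2) F) := by rw [sub_smul]
  rw [← smul_smul, ← e, smul_smul, inv_mul_cancel₀ hu, one_smul]

/-- if `g ^ 4` is central in `SL₂(F)` and `2` is not a square, then `g ^ 2` is central. -/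
theorem sq_mem_center {F : Type*} [Field F] (h2 : ¬ IsSquare (2 : F))
    (g : SpecialLinearGroup (Fin 2) F)
    (h4 : g ^ 4 ∈ Subgroup.center (SpecialLinearGroup (Fin 2) F)) :
    g ^ 2 ∈ Subgroup.center (SpecialLinearGroup (Fin 2) F) := by
  rw [Matrix.SpecialLinearGroup.mem_center_iff] at h4 ⊢
  obtain ⟨r, hr, hrg⟩ := h4
  have hsq := sq_eq g
  have hg2 : ((g ^ 2 : SpecialLinearGroup (Fin 2) F) : Matrix (Fin 2) (Fin 2) F) =
      (g : Matrix (Fin 2) (Fin 2) F) * (g : Matrix (Fin 2) (Fin 2) F) := by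
    rw [pow_two]; rfl
  have hg4 : ((g ^ 4 : SpecialLinearGroup (Fin 2) F) : Matrix (Fin 2) (Fin 2) F) =
      ((g : Matrix (Fin 2) (Fin 2) F) * (g : Matrix (Fin 2) (Fin 2) F)) *
        ((g : Matrix (Fin 2) (Fin 2) F) * (g : Matrix (Fin 2) (Fin 2) F)) := by
    have : g ^ 4 = g ^ 2 * g ^ 2 := by rw [← pow_add]
    rw [this, Matrix.SpecialLinearGroup.coe_mul, hg2]
  have h4' := quartic _ _ hsq
  rw [hg4, h4'] at hrg
  have hsc : (Matrix.scalar (Fin 2)) r = r • (1 : Matrix (Fin 2) (Fin 2) F) := by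
    rw [Matrix.scalar_apply, ← Matrix.smul_one_eq_diagonal]
  rw [hsc] at hrg
  generalize htdef : g.1 0 0 + g.1 1 1 = t at *
  generalize hMdef : (g : Matrix (Fin 2) (Fin 2) F) = M at *
  by_cases hu : t ^ 3 - 2 * t = 0
  · have ht' : t = 0 ∨ t ^ 2 = 2 := by
      have : t * (t ^ 2 - 2) = 0 := by rw [← hu]; ring
      rcases mul_eq_zero.1 this with h | h
      · exact Or.inl h
      · exact Or.inr (sub_eq_zero.1 h)
    rcases ht' with h0 | h2'
    · refine ⟨-1, by simp, ?_⟩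
      rw [hg2, hsq, h0, zero_smul, zero_sub, map_neg, map_one]
    · exact absurd ⟨t, by rw [← h2']; ring⟩ h2
  · -- M is a scalar
    have hMs := scalar_of_smul M _ r _ hu hrg
    set s : F := (t ^ 3 - 2 * t)⁻¹ * (r - (1 - t ^ 2)) with hs
    have hdet : s * s = 1 := by
      have := g.2
      rw [hMdef, hMs, Matrix.det_smul, Matrix.det_one, Fintype.card_fin, mul_one] at this
      rw [← pow_two]; exact this
    refine ⟨s * s, by rw [hdet]; simp, ?_⟩
    rw [hg2, hMs, Matrix.smul_mul, Matrix.mul_smul, smul_smul, Matrix.one_mul,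
      Matrix.scalar_apply, ← Matrix.smul_one_eq_diagonal]


/-- For q = 3 or 5 mod 8 the Sylow 2-subgroups of PSL_2(q) are elementary abelian of order 4. -/
theorem result {F : Type*} [Field F] [Fintype F] {q : ℕ} (hF : Fintype.card F = q) (hq : q % 8 = 3 ∨ q % 8 = 5) (P : Sylow 2 (Matrix.ProjectiveSpecialLinearGroup (Fin 2) F)) : IsKleinFour (P : Subgroup (Matrix.ProjectiveSpecialLinearGroup (Fin 2) F)) := by
  classical
  have h2 : ¬ IsSquare (2 : F) := by
    rw [FiniteField.isSquare_two_iff, hF]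
    rcases hq with h | h <;> omega
  have hcard := Cfsg.Agent.Lib.Helper1.card_PSL2 F
  rw [hF] at hcard
  obtain ⟨m, hm, hm2⟩ := card_arith q _ hcard hq
  have hP4 : Nat.card P = 4 := by
    have := Cfsg.Agent.Lib.Helper1.sylow_card_of_card_eq P 2 m hm hm2
    simpa using this
  have hsq : ∀ y : (P : Subgroup (Matrix.ProjectiveSpecialLinearGroup (Fin 2) F)), y ^ 2 = 1 := by
    intro y
    have hy4 : (y : Matrix.ProjectiveSpecialLinearGroup (Fin 2) F) ^ 4 = 1 := by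
      have : y ^ 4 = 1 := by rw [← hP4]; exact pow_card_eq_one'
      have := congrArg Subtype.val this
      simpa using this
    obtain ⟨g, hg⟩ := QuotientGroup.mk_surjective (y : Matrix.ProjectiveSpecialLinearGroup (Fin 2) F)
    rw [← hg] at hy4
    have h4 : g ^ 4 ∈ Subgroup.center (Matrix.SpecialLinearGroup (Fin 2) F) := by
      rw [← QuotientGroup.eq_one_iff]
      exact hy4
    have h2' := sq_mem_center h2 g h4
    rw [← QuotientGroup.eq_one_iff] at h2'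
    apply Subtype.ext
    rw [Subgroup.coe_pow, ← hg]
    exact h2'
  refine ⟨hP4, ?_⟩
  have hdvd : Monoid.exponent (P : Subgroup (Matrix.ProjectiveSpecialLinearGroup (Fin 2) F)) ∣ 2 :=
    Monoid.exponent_dvd_of_forall_pow_eq_one hsq
  rcases (Nat.dvd_prime Nat.prime_two).1 hdvd with h1 | h1
  · rw [Monoid.exp_eq_one_iff] at h1
    have : Nat.card (P : Subgroup (Matrix.ProjectiveSpecialLinearGroup (Fin 2) F)) = 1 :=
      Nat.card_unique
    rw [hP4] at this
    omega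
  · exact h1

end Cfsg.Agent.S0276
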