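import Cfsg.Statements.S0285
import Mathlib
import Cfsg.Agent.Lib.Helper2.HermLines
-- import your own Cfsg.Agent.* helpers here

set_option autoImplicit false
open Cfsg

namespace Cfsg.Agent.S0285

open Cfsg.Agent.Lib.Helper2.Herm

def ff (q n : ℕ) : ℕ :=
  (if Even n then (q ^ n - 1) * (q ^ (n - 1) + 1) else (q ^ n + 1) * (q ^ (n - 1) - 1)) + 1

theorem ff_zero (q : ℕ) : ff q 0 = 1 := by simp [ff]

theorem ff_rec (q : ℕ) (hq : 0 < q) (n : ℕ) :
    ff q (n + 1) + q * ff q n = (q + 1) * q ^ (2 * n) := by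
  rcases Nat.even_or_odd' n with ⟨k, rfl | rfl⟩
  · have h1 : Even (2 * k) := even_two_mul k
    have h2 : ¬ Even (2 * k + 1) := by
      rw [Nat.not_even_iff_odd]; exact odd_two_mul_add_one k
    unfold ff
    rw [if_pos h1, if_neg h2, Nat.add_sub_cancel]
    rcases k with _ | j
    · simp
      ring
    · have e1 : 2 * (j + 1) - 1 = 2 * j + 1 := by omega
      rw [e1]
      obtain ⟨b, hb⟩ : ∃ b, q ^ (2 * (j + 1)) = b + 1 :=
        ⟨q ^ (2 * (j + 1)) - 1, by have := pow_pos hq (2 * (j + 1)); omega⟩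
      have e2 : q ^ (2 * (j + 1) + 1) = q * (b + 1) := by rw [pow_succ, hb]; ring
      have e3 : q * q ^ (2 * j + 1) = b + 1 := by rw [← hb]; ring
      have e4 : q ^ (2 * (2 * (j + 1))) = (b + 1) ^ 2 := by rw [← hb]; ring
      rw [e2, hb, e4, Nat.add_sub_cancel]
      generalize q ^ (2 * j + 1) = a at e3 ⊢
      have h3 : b * (q * a) = b * (b + 1) := by rw [e3]
      nlinarith [h3]
  · have h1 : ¬ Even (2 * k + 1) := by
      rw [Nat.not_even_iff_odd]; exact odd_two_mul_add_one k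
    have h2 : Even (2 * k + 1 + 1) := ⟨k + 1, by ring⟩
    unfold ff
    rw [if_pos h2, if_neg h1, Nat.add_sub_cancel, Nat.add_sub_cancel]
    obtain ⟨c, hc⟩ : ∃ c, q ^ (2 * k) = c + 1 :=
      ⟨q ^ (2 * k) - 1, by have := pow_pos hq (2 * k); omega⟩
    obtain ⟨s, hs⟩ : ∃ s, q ^ 2 = s + 1 :=
      ⟨q ^ 2 - 1, by have := pow_pos hq 2; omega⟩
    have e1 : q ^ (2 * k + 1) = q * (c + 1) := by rw [pow_succ, hc]; ring
    have e2 : q ^ (2 * k + 1 + 1) = q ^ 2 * c + s + 1 := by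
      rw [pow_succ, pow_succ, hc, add_assoc, ← hs]; ring
    have e3 : q ^ (2 * (2 * k + 1)) = (q * (c + 1)) ^ 2 := by rw [← e1]; ring
    rw [e2, e1, e3, hc, Nat.add_sub_cancel, Nat.add_sub_cancel]
    have h3 : q ^ 2 * (q * (c + 1) + 1) = (s + 1) * (q * (c + 1) + 1) := by rw [hs]
    nlinarith [h3]


theorem Z_eq {F : Type*} [Field F] [Fintype F] {q : ℕ} (hF : Fintype.card F = q ^ 2) :
    ∀ n : ℕ, Nat.card {v : Fin n → F // Cfsg.hermForm n F q v v = 0} = ff q n
  | 0 => by rw [cnt_zero_zero, ff_zero]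
  | n + 1 => by
    have h1 := z_rec hF n
    have h2 := ff_rec q (by have := one_lt_q hF; omega) n
    rw [Z_eq hF n] at h1
    exact Nat.add_right_cancel (h1.trans h2.symm)

/-- The standard Hermitian form on F^n, |F| = q^2, has exactly (q^n - (-1)^n)(q^(n-1) + (-1)^n) non-zero isotropic vectors; counting the zero vector too: -/
theorem result {F : Type*} [Field F] [Fintype F] {q : ℕ} (hF : Fintype.card F = q ^ 2) (n : ℕ) : Nat.card {v : Fin n → F // Cfsg.hermForm n F q v v = 0} = (if Even n then (q ^ n - 1) * (q ^ (n - 1) + 1) else (q ^ n + 1) * (q ^ (n - 1) - 1)) + 1 := by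
  exact Z_eq hF n

end Cfsg.Agent.S0285
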