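import Cfsg.Statements.S0284
import Mathlib
import Cfsg.Agent.Lib.Helper2.HermLines
import Cfsg.Agent.S0285
-- import your own Cfsg.Agent.* helpers here

set_option autoImplicit false
open Cfsg

namespace Cfsg.Agent.S0284

open Cfsg.Agent.Lib.Helper2.Herm Cfsg.Agent.S0285

def gg (q n : ℕ) : ℕ :=
  (if Even n then q ^ (n - 1) * (q ^ n - 1) else q ^ (n - 1) * (q ^ n + 1))

theorem gg_ff (q : ℕ) (hq : 0 < q) (n : ℕ) :
    (q - 1) * gg q n + ff q n = q ^ (2 * n) := by
  obtain ⟨r, rfl⟩ : ∃ r, q = r + 1 := ⟨q - 1, by omega⟩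
  rw [Nat.add_sub_cancel]
  rcases Nat.even_or_odd' n with ⟨k, rfl | rfl⟩
  · have h1 : Even (2 * k) := even_two_mul k
    unfold ff gg
    rw [if_pos h1, if_pos h1]
    rcases k with _ | j
    · simp
    · have e1 : 2 * (j + 1) - 1 = 2 * j + 1 := by omega
      rw [e1]
      obtain ⟨b, hb⟩ : ∃ b, (r + 1) ^ (2 * (j + 1)) = b + 1 :=
        ⟨(r + 1) ^ (2 * (j + 1)) - 1, by have := pow_pos hq (2 * (j + 1)); omega⟩
      have e3 : (r + 1) * (r + 1) ^ (2 * j + 1) = b + 1 := by rw [← hb]; ring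
      have e4 : (r + 1) ^ (2 * (2 * (j + 1))) = (b + 1) ^ 2 := by rw [← hb]; ring
      rw [hb, e4, Nat.add_sub_cancel]
      generalize (r + 1) ^ (2 * j + 1) = a at e3 ⊢
      have h3 : b * ((r + 1) * a) = b * (b + 1) := by rw [e3]
      nlinarith [h3]
  · have h1 : ¬ Even (2 * k + 1) := by
      rw [Nat.not_even_iff_odd]; exact odd_two_mul_add_one k
    unfold ff gg
    rw [if_neg h1, if_neg h1, Nat.add_sub_cancel]
    obtain ⟨c, hc⟩ : ∃ c, (r + 1) ^ (2 * k) = c + 1 :=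
      ⟨(r + 1) ^ (2 * k) - 1, by have := pow_pos hq (2 * k); omega⟩
    have e1 : (r + 1) ^ (2 * k + 1) = (r + 1) * (c + 1) := by rw [pow_succ, hc]; ring
    have e3 : (r + 1) ^ (2 * (2 * k + 1)) = ((r + 1) * (c + 1)) ^ 2 := by rw [← e1]; ring
    rw [e1, e3, hc, Nat.add_sub_cancel]
    ring

/-- The standard Hermitian form on F^n, |F| = q^2, has exactly q^(n-1) (q^n - (-1)^n) vectors of norm 1. -/
theorem result {F : Type*} [Field F] [Fintype F] {q : ℕ} (hF : Fintype.card F = q ^ 2) (n : ℕ) : Nat.card {v : Fin n → F // Cfsg.hermForm n F q v v = 1} = (if Even n then q ^ (n - 1) * (q ^ n - 1) else q ^ (n - 1) * (q ^ n + 1)) := by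
  have hq := one_lt_q hF
  have h1 := cnt_total hF n
  have h2 := gg_ff q (by omega) n
  rw [Z_eq hF n] at h1
  have h3 : (q - 1) * Nat.card {v : Fin n → F // Cfsg.hermForm n F q v v = 1} =
      (q - 1) * gg q n := by omega
  exact Nat.eq_of_mul_eq_mul_left (by omega) h3

end Cfsg.Agent.S0284
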