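import Cfsg.Statements.S0277
import Mathlib
import Cfsg.Agent.Lib.Helper2.HermFrame2
import Cfsg.Agent.S0284
-- import your own Cfsg.Agent.* helpers here

set_option autoImplicit false
open Cfsg

namespace Cfsg.Agent.S0277

open Cfsg.Agent.Lib.Helper2.Herm

theorem prod_formula (q n : ℕ) :
    ∏ j ∈ Finset.range n, (if Even (n - j) then q ^ (n - j - 1) * (q ^ (n - j) - 1)
      else q ^ (n - j - 1) * (q ^ (n - j) + 1)) =
    q ^ (n * (n - 1) / 2) * ∏ i ∈ Finset.range n,
      (if Even i then q ^ (i + 1) + 1 else q ^ (i + 1) - 1) := by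
  have h1 : ∀ j ∈ Finset.range n, (if Even (n - j) then q ^ (n - j - 1) * (q ^ (n - j) - 1)
      else q ^ (n - j - 1) * (q ^ (n - j) + 1)) =
      (fun i => q ^ i * (if Even i then q ^ (i + 1) + 1 else q ^ (i + 1) - 1)) (n - 1 - j) := by
    intro j hj
    have hj' := Finset.mem_range.1 hj
    have e1 : n - j = (n - 1 - j) + 1 := by omega
    have e2 : n - j - 1 = n - 1 - j := by omega
    show _ = q ^ (n - 1 - j) *
      (if Even (n - 1 - j) then q ^ (n - 1 - j + 1) + 1 else q ^ (n - 1 - j + 1) - 1)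
    rw [e2, e1]
    by_cases he : Even (n - 1 - j)
    · have : ¬ Even (n - 1 - j + 1) := by
        rw [Nat.even_add_one]; exact not_not.2 he
      rw [if_neg this, if_pos he]
    · have : Even (n - 1 - j + 1) := by
        rw [Nat.even_add_one]; exact he
      rw [if_pos this, if_neg he]
  rw [Finset.prod_congr rfl h1,
    Finset.prod_range_reflect
      (fun i => q ^ i * (if Even i then q ^ (i + 1) + 1 else q ^ (i + 1) - 1)) n,
    Finset.prod_mul_distrib, Finset.prod_pow_eq_pow_sum, Finset.sum_range_id]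

/-- Order of the general unitary group: |GU_n(q)| = q^(n(n-1)/2) * prod_{i=1}^{n} (q^i - (-1)^i). -/
theorem result {F : Type*} [Field F] [Fintype F] {q : ℕ} (hF : Fintype.card F = q ^ 2) (n : ℕ) : Nat.card (Cfsg.GU n F q) = q ^ (n * (n - 1) / 2) * ∏ i ∈ Finset.range n, (if Even i then q ^ (i + 1) + 1 else q ^ (i + 1) - 1) := by
  rw [card_GU_eq_frames hF n, card_frames hF n n,
    Finset.prod_congr rfl (fun j _ => Cfsg.Agent.S0284.result hF (n - j))]
  exact prod_formula q n

end Cfsg.Agent.S0277
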