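import Mathlib
import Cfsg.Statements.S0281
import Cfsg.Agent.S0779
import Cfsg.Agent.Lib.Helper2.HermField
import Cfsg.Agent.Lib.Helper5.SpEmbed
import Cfsg.Agent.S0278
import Cfsg.Agent.S0242

set_option autoImplicit false
open Cfsg

namespace Cfsg.Agent.S0281

open Cfsg.Agent.S0779 Cfsg.Agent.Lib.Helper2.Herm

section
variable {F : Type*} [Field F] [Fintype F] {q : ℕ}

theorem herm2 (u v : Fin 2 → F) :
    Cfsg.hermForm 2 F q u v = u 0 * v 0 ^ q + u 1 * v 1 ^ q := by
  unfold Cfsg.hermForm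
  rw [Fin.sum_univ_two]

theorem mulVec2 (P : Matrix (Fin 2) (Fin 2) F) (u : Fin 2 → F) :
    P.mulVec u 0 = P 0 0 * u 0 + P 0 1 * u 1 ∧ P.mulVec u 1 = P 1 0 * u 0 + P 1 1 * u 1 := by
  constructor <;> simp [Matrix.mulVec, dotProduct, Fin.sum_univ_two]

/-- existence of a hyperbolic-type Gram matrix for the standard hermitian plane -/
theorem exists_gram (hF : Fintype.card F = q ^ 2) :
    ∃ (P : Matrix (Fin 2) (Fin 2) F) (ε : F), ε ≠ 0 ∧
      ∀ u v : Fin 2 → F, Cfsg.hermForm 2 F q (P.mulVec u) (P.mulVec v)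
        = ε * (u 0 * v 1 ^ q - u 1 * v 0 ^ q) := by
  classical
  have hq := one_lt_q hF
  -- ε
  obtain ⟨a, ha⟩ : ∃ a : F, a ^ q ≠ a := by
    by_contra hcon
    have hall : ∀ a : F, a ^ q = a := by
      intro a
      by_contra h
      exact hcon ⟨a, h⟩
    have h1 := card_fix hF
    have h2 : Nat.card {a : F // a ^ q = a} = Nat.card F :=
      Nat.card_congr (Equiv.subtypeUnivEquiv hall)
    rw [h1, Nat.card_eq_fintype_card, hF] at h2
    nlinarith
  obtain ⟨ε, hε⟩ : ∃ ε : F, ε = a - a ^ q := ⟨_, rfl⟩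
  have hε0 : ε ≠ 0 := by
    rw [hε]
    intro h
    exact ha (sub_eq_zero.1 h).symm
  have hεq : ε ^ q = -ε := by
    rw [hε, sub_eq_add_neg, add_pow_q hF, neg_pow_q hF, pow_q_q hF]
    ring
  -- t with t t^q = -1
  obtain ⟨t, ht⟩ := norm_surj hF (-1 : F) (by rw [neg_pow_q hF, one_pow])
  -- s with s + s^q = -1
  have hs : ∃ s : F, s + s ^ q = -1 := by
    have h := card_trace_fiber hF (-1 : F) (by rw [neg_pow_q hF, one_pow])
    have hpos : 0 < Nat.card {s : F // s + s ^ q = -1} := by omega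
    obtain ⟨s⟩ := (Nat.card_pos_iff.1 hpos).1
    exact ⟨s.1, s.2⟩
  obtain ⟨s, hs⟩ := hs
  refine ⟨!![1, -ε * (1 + s); t, -ε * (s * t)], ε, hε0, ?_⟩
  intro u v
  rw [herm2, (mulVec2 _ u).1, (mulVec2 _ u).2, (mulVec2 _ v).1, (mulVec2 _ v).2]
  simp only [Matrix.of_apply, Matrix.cons_val', Matrix.cons_val_zero, Matrix.cons_val_one,
    Matrix.cons_val_fin_one]
  simp only [add_pow_q hF, mul_pow, neg_pow_q hF, hεq, one_pow]
  generalize v 0 ^ q = V0
  generalize v 1 ^ q = V1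
  generalize hT : t ^ q = T at *
  generalize hS : s ^ q = S at *
  linear_combination (u 0 * V0 + u 0 * V1 * ε * S - u 1 * V0 * ε * s - u 1 * V1 * ε * ε * s * S) * ht
    - (u 1 * V1 * ε * ε) * hs

theorem gram_det_ne_zero (P : Matrix (Fin 2) (Fin 2) F) (ε : F) (hε : ε ≠ 0)
    (hq : 0 < q)
    (hP : ∀ u v : Fin 2 → F, Cfsg.hermForm 2 F q (P.mulVec u) (P.mulVec v)
        = ε * (u 0 * v 1 ^ q - u 1 * v 0 ^ q)) : IsUnit P.det := by
  rw [isUnit_iff_ne_zero]
  intro hdet
  obtain ⟨u, hu0, hu⟩ := Matrix.exists_mulVec_eq_zero_iff.2 hdet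
  have h1 := hP u ![0, 1]
  have h2 := hP u ![1, 0]
  rw [hu, (show ∀ y : Fin 2 → F, Cfsg.hermForm 2 F q 0 y = 0 from fun y => by unfold Cfsg.hermForm; simp)] at h1 h2
  simp only [Matrix.cons_val_zero, Matrix.cons_val_one, Matrix.cons_val_fin_one, one_pow,
    zero_pow (Nat.pos_iff_ne_zero.1 hq), mul_one, mul_zero, sub_zero, zero_sub] at h1 h2
  apply hu0
  funext i
  fin_cases i
  · exact ((mul_eq_zero.1 h1.symm).resolve_left hε)
  · have := (mul_eq_zero.1 h2.symm).resolve_left hε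
    exact neg_eq_zero.1 this

end

section
variable {F : Type*} [Field F] [Fintype F] {q : ℕ}

theorem omega_pres (hF : Fintype.card F = q ^ 2) (A : Matrix (Fin 2) (Fin 2) F)
    (hdet : A.det = 1) (hfix : ∀ i j, A i j ^ q = A i j) (u v : Fin 2 → F) :
    (A.mulVec u) 0 * (A.mulVec v) 1 ^ q - (A.mulVec u) 1 * (A.mulVec v) 0 ^ q
      = u 0 * v 1 ^ q - u 1 * v 0 ^ q := by
  rw [(mulVec2 A u).1, (mulVec2 A u).2, (mulVec2 A v).1, (mulVec2 A v).2]
  simp only [add_pow_q hF, mul_pow, hfix]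
  rw [Matrix.det_fin_two] at hdet
  linear_combination (u 0 * v 1 ^ q - u 1 * v 0 ^ q) * hdet

theorem conj_pres (hF : Fintype.card F = q ^ 2) (P : Matrix (Fin 2) (Fin 2) F) (ε : F)
    (hP : ∀ u v : Fin 2 → F, Cfsg.hermForm 2 F q (P.mulVec u) (P.mulVec v)
        = ε * (u 0 * v 1 ^ q - u 1 * v 0 ^ q))
    (hPdet : IsUnit P.det) (A : Matrix (Fin 2) (Fin 2) F)
    (hdet : A.det = 1) (hfix : ∀ i j, A i j ^ q = A i j) (u v : Fin 2 → F) :
    Cfsg.hermForm 2 F q ((P * A * P⁻¹).mulVec u) ((P * A * P⁻¹).mulVec v)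
      = Cfsg.hermForm 2 F q u v := by
  have hu : u = P.mulVec (P⁻¹.mulVec u) := by
    rw [Matrix.mulVec_mulVec, Matrix.mul_nonsing_inv _ hPdet, Matrix.one_mulVec]
  have hv : v = P.mulVec (P⁻¹.mulVec v) := by
    rw [Matrix.mulVec_mulVec, Matrix.mul_nonsing_inv _ hPdet, Matrix.one_mulVec]
  have e1 : ∀ w, (P * A * P⁻¹).mulVec w = P.mulVec (A.mulVec (P⁻¹.mulVec w)) := by
    intro w
    simp only [Matrix.mulVec_mulVec, Matrix.mul_assoc]
  rw [e1, e1, hP, omega_pres hF A hdet hfix, ← hP, ← hu, ← hv]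

end

theorem result {F K : Type*} [Field F] [Fintype F] [Field K] [Fintype K] {q : ℕ} (hF : Fintype.card F = q ^ 2) (hK : Fintype.card K = q) : Nonempty (Cfsg.SU 2 F q ≃* Matrix.SpecialLinearGroup (Fin 2) K) := by
  classical
  obtain ⟨alg, _⟩ := Cfsg.Agent.Lib.Helper5.exists_algebra_of_card_sq (F := K) (K := F)
    (by rw [hF, hK])
  letI := alg
  have hq := one_lt_q hF
  have hfixK : ∀ c : K, (algebraMap K F c) ^ q = algebraMap K F c := by
    intro c
    rw [← map_pow, ← hK, FiniteField.pow_card]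
  obtain ⟨P, ε, hε, hP⟩ := exists_gram hF
  have hPdet := gram_det_ne_zero P ε hε (by omega) hP
  have hdetA : ∀ A : Matrix.SpecialLinearGroup (Fin 2) K,
      (A.1.map (algebraMap K F)).det = 1 := by
    intro A
    have h := RingHom.map_det (algebraMap K F) A.1
    rw [A.2, map_one] at h
    exact h.symm
  have hdetc : ∀ A : Matrix.SpecialLinearGroup (Fin 2) K,
      (P * (A.1.map (algebraMap K F)) * P⁻¹).det = 1 := by
    intro A
    rw [Matrix.det_mul, Matrix.det_mul, mul_right_comm, ← Matrix.det_mul,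
      Matrix.mul_nonsing_inv _ hPdet, Matrix.det_one, one_mul, hdetA]
  let ψ : Matrix.SpecialLinearGroup (Fin 2) K →* Matrix.SpecialLinearGroup (Fin 2) F :=
    MonoidHom.mk' (fun A => ⟨P * (A.1.map (algebraMap K F)) * P⁻¹, hdetc A⟩) (by
      intro A B
      apply Subtype.ext
      show P * ((A.1 * B.1).map (algebraMap K F)) * P⁻¹ =
        (P * (A.1.map (algebraMap K F)) * P⁻¹) * (P * (B.1.map (algebraMap K F)) * P⁻¹)
      rw [Matrix.map_mul]
      calc P * (A.1.map (algebraMap K F) * B.1.map (algebraMap K F)) * P⁻¹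
          = P * A.1.map (algebraMap K F) * (1 : Matrix (Fin 2) (Fin 2) F) *
              B.1.map (algebraMap K F) * P⁻¹ := by
            simp only [Matrix.mul_one, Matrix.mul_assoc]
        _ = _ := by
            rw [← Matrix.nonsing_inv_mul _ hPdet]
            simp only [Matrix.mul_assoc])
  have hψval : ∀ A, (ψ A).1 = P * (A.1.map (algebraMap K F)) * P⁻¹ := fun A => rfl
  have hmem : ∀ A, ψ A ∈ Cfsg.SU 2 F q := by
    intro A u v
    show Cfsg.hermForm 2 F q ((ψ A).1.mulVec u) ((ψ A).1.mulVec v) = Cfsg.hermForm 2 F q u v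
    rw [hψval]
    exact conj_pres hF P ε hP hPdet _ (hdetA A) (fun i j => hfixK _) u v
  let φ : Matrix.SpecialLinearGroup (Fin 2) K →* Cfsg.SU 2 F q := ψ.codRestrict _ hmem
  have hφ : Function.Injective φ := by
    intro A B hAB
    have h1 : (ψ A).1 = (ψ B).1 := by
      have := congrArg (fun x : Cfsg.SU 2 F q => (x.1 : Matrix.SpecialLinearGroup (Fin 2) F).1) hAB
      exact this
    rw [hψval, hψval] at h1
    have h2 : A.1.map (algebraMap K F) = B.1.map (algebraMap K F) := by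
      have h3 : P⁻¹ * (P * A.1.map (algebraMap K F) * P⁻¹) * P =
          P⁻¹ * (P * B.1.map (algebraMap K F) * P⁻¹) * P := by rw [h1]
      have e : ∀ M : Matrix (Fin 2) (Fin 2) F, P⁻¹ * (P * M * P⁻¹) * P = M := by
        intro M
        calc P⁻¹ * (P * M * P⁻¹) * P = (P⁻¹ * P) * M * (P⁻¹ * P) := by
              simp only [Matrix.mul_assoc]
          _ = M := by rw [Matrix.nonsing_inv_mul _ hPdet, Matrix.one_mul, Matrix.mul_one]
      rw [e, e] at h3
      exact h3
    apply Subtype.ext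
    exact Matrix.map_injective (algebraMap K F).injective h2
  have hc1 := Cfsg.Agent.S0242.result hK 2 (by norm_num)
  have hc2 := Cfsg.Agent.S0278.result hF 2 (by norm_num)
  have hcard : Nat.card (Matrix.SpecialLinearGroup (Fin 2) K) = Nat.card (Cfsg.SU 2 F q) := by
    rw [Fin.prod_univ_two] at hc1
    simp only [Fin.val_zero, Fin.val_one, pow_zero, pow_one] at hc1
    have e1 : q ^ 2 - q = q * (q - 1) := by
      rw [Nat.mul_sub_one, sq]
    rw [e1] at hc1
    have h1 : Nat.card (Matrix.SpecialLinearGroup (Fin 2) K) = (q ^ 2 - 1) * q := by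
      apply Nat.eq_of_mul_eq_mul_left (show 0 < q - 1 by omega)
      rw [hc1]; ring
    have e2 : ∏ i ∈ Finset.range 2, (if Even i then q ^ (i + 1) + 1 else q ^ (i + 1) - 1)
        = (q + 1) * (q ^ 2 - 1) := by
      rw [Finset.prod_range_succ, Finset.prod_range_succ, Finset.prod_range_zero]
      simp
    rw [e2] at hc2
    have h2 : Nat.card (Cfsg.SU 2 F q) = (q ^ 2 - 1) * q := by
      apply Nat.eq_of_mul_eq_mul_left (show 0 < q + 1 by omega)
      rw [hc2]
      norm_num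
      ring
    rw [h1, h2]
  have hbij : Function.Bijective φ := by
    rw [Nat.bijective_iff_injective_and_card]
    exact ⟨hφ, hcard⟩
  exact ⟨(MulEquiv.ofBijective φ hbij).symm⟩

end Cfsg.Agent.S0281
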