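import Cfsg.Statements.S0286
import Mathlib
import Cfsg.Agent.Lib.Helper2.QuadOdd2
-- import your own Cfsg.Agent.* helpers here

set_option autoImplicit false
open Cfsg

namespace Cfsg.Agent.S0286

open Cfsg.Agent.Lib.Helper2.Quad

theorem sum_odd (m : ℕ) : ∑ i ∈ Finset.range m, (2 * i + 1) = m ^ 2 := by
  induction m with
  | zero => simp
  | succ m ih => rw [Finset.sum_range_succ, ih]; ring

theorem prod_reflect (q m : ℕ) :
    ∏ j ∈ Finset.range m, ((q ^ (2 * (m - j)) - 1) * q ^ (2 * (m - j - 1) + 1)) =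
      ∏ i ∈ Finset.range m, ((q ^ (2 * (i + 1)) - 1) * q ^ (2 * i + 1)) := by
  rw [← Finset.prod_range_reflect (fun i => (q ^ (2 * (i + 1)) - 1) * q ^ (2 * i + 1)) m]
  apply Finset.prod_congr rfl
  intro j hj
  have hj' := Finset.mem_range.1 hj
  have e1 : m - j = m - 1 - j + 1 := by omega
  have e2 : m - j - 1 = m - 1 - j := by omega
  rw [e2, e1]

/-- |GO_{2m+1}(q)| = 2 q^(m^2) prod_{i=1}^{m} (q^(2i) - 1) for q odd. -/
theorem result {F : Type*} [Field F] [Fintype F] {q : ℕ} (hF : Fintype.card F = q) (hodd : Odd q) (m : ℕ) : Nat.card (Cfsg.isometryGroup F (Cfsg.quadFormOdd m F)) = 2 * q ^ (m ^ 2) * ∏ i ∈ Finset.range m, (q ^ (2 * (i + 1)) - 1) := by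
  subst hF
  have hq : 0 < Fintype.card F := Fintype.card_pos
  have h2 : (2 : F) ≠ 0 := two_ne_zero_of_odd hodd
  rw [card_isom_odd h2 m, card_T_odd h2 m,
    card_Fr (oddQS m F) 1 (fun j => Fintype.card F ^ (2 * j)) 1
      (fun j => Fintype.card F ^ (2 * j) + Fintype.card F ^ j)
      (odd_hZ _ hq) (by simp) (odd_hZ1 _ hq) m (odd_QStd h2 m) (odd_ND h2 m) m le_rfl]
  show (∏ j ∈ Finset.range m, ((Fintype.card F ^ (2 * (m - j)) - 1) *
    Fintype.card F ^ (2 * (m - j - 1) + 1))) * 2 = _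
  rw [prod_reflect, Finset.prod_mul_distrib, Finset.prod_pow_eq_pow_sum, sum_odd]
  ring

end Cfsg.Agent.S0286
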