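import Cfsg.Statements.S0288
import Mathlib
import Cfsg.Agent.Lib.Helper2.QuadMinus2

set_option autoImplicit false
open Cfsg

namespace Cfsg.Agent.S0288

open Cfsg.Agent.Lib.Helper2.Quad

theorem Zm_sub_one (q : ℕ) (hq : 0 < q) (j : ℕ) :
    Zm q j - 1 = (q ^ (j + 1) + 1) * (q ^ j - 1) := by
  have h := Zm_add q hq j
  obtain ⟨t, ht⟩ : ∃ t, q ^ j = t + 1 :=
    ⟨q ^ j - 1, by have := Nat.one_le_pow j q hq; omega⟩
  have e1 : q ^ (2 * j + 1) = q ^ (j + 1) * (t + 1) := by rw [← ht]; ring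
  rw [ht, Nat.add_sub_cancel]
  rw [e1, ht] at h
  have h3 : Zm q j = (q ^ (j + 1) + 1) * t + 1 := by
    have h' : Zm q j + q ^ (j + 1) = ((q ^ (j + 1) + 1) * t + 1) + q ^ (j + 1) := by
      rw [h]; ring
    exact Nat.add_right_cancel h'
  rw [h3, Nat.add_sub_cancel]

theorem prodM (q : ℕ) (hq : 0 < q) (n : ℕ) :
    (∏ i ∈ Finset.range n, ((Zm q (i + 1) - 1) * q ^ (2 * i + 2))) * (q + 1) =
      q ^ ((n + 1) * n) * (q ^ (n + 1) + 1) *
        ∏ i ∈ Finset.range n, (q ^ (2 * (i + 1)) - 1) := by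
  induction n with
  | zero => simp
  | succ n ih =>
    rw [Finset.prod_range_succ, Finset.prod_range_succ (fun i => q ^ (2 * (i + 1)) - 1),
      Zm_sub_one q hq (n + 1)]
    have hsq : q ^ (2 * (n + 1)) - 1 = (q ^ (n + 1) - 1) * (q ^ (n + 1) + 1) := by
      obtain ⟨b, hb⟩ : ∃ b, q ^ (n + 1) = b + 1 :=
        ⟨q ^ (n + 1) - 1, by have := Nat.one_le_pow (n + 1) q hq; omega⟩
      have : q ^ (2 * (n + 1)) = (q ^ (n + 1)) ^ 2 := by rw [← pow_mul]; congr 1; ring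
      rw [this, hb, Nat.add_sub_cancel]
      apply Nat.sub_eq_of_eq_add
      ring
    have hpow : q ^ ((n + 1 + 1) * (n + 1)) = q ^ ((n + 1) * n) * q ^ (2 * n + 2) := by
      rw [← pow_add]; congr 1; ring
    have hre : ∀ P X : ℕ, P * X * (q + 1) = P * (q + 1) * X := fun P X => by ring
    rw [hre, ih, hsq, hpow]
    ring

theorem prod_reflect (q m : ℕ) :
    ∏ j ∈ Finset.range m, ((Zm q (m - j) - 1) * q ^ (2 * (m - j - 1) + 2)) =
      ∏ i ∈ Finset.range m, ((Zm q (i + 1) - 1) * q ^ (2 * i + 2)) := by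
  rw [← Finset.prod_range_reflect (fun i => (Zm q (i + 1) - 1) * q ^ (2 * i + 2)) m]
  apply Finset.prod_congr rfl
  intro j hj
  have hj' := Finset.mem_range.1 hj
  have e1 : m - j = m - 1 - j + 1 := by omega
  have e2 : m - j - 1 = m - 1 - j := by omega
  rw [e2, e1]

/-- |GO^-_{2m}(q)| = 2 q^(m(m-1)) (q^m + 1) prod_{i=1}^{m-1} (q^(2i) - 1), m at least 1, all q; the form is quadFormMinus (m-1) with an anisotropic binary part. -/
theorem result {F : Type*} [Field F] [Fintype F] {q : ℕ} (hF : Fintype.card F = q) (m : ℕ) (hm : 1 ≤ m) (a b : F) (hab : ∀ z₁ z₂ : F, z₁ ^ 2 + a * z₁ * z₂ + b * z₂ ^ 2 = 0 → z₁ = 0 ∧ z₂ = 0) : Nat.card (Cfsg.isometryGroup F (Cfsg.quadFormMinus (m - 1) F a b)) = 2 * q ^ (m * (m - 1)) * (q ^ m + 1) * ∏ i ∈ Finset.range (m - 1), (q ^ (2 * (i + 1)) - 1) := by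
  subst hF
  have hq : 0 < Fintype.card F := Fintype.card_pos
  have hab' : Aniso a b := hab
  rw [card_isom_minus (m - 1) hab', card_T_minus (m - 1) hab',
    card_Fr (minusQS (m - 1) F a b) 2 (Zm (Fintype.card F)) 1
      (fun j => Fintype.card F ^ (2 * j + 1) + Fintype.card F ^ j)
      (Zm_succ _) rfl (Z1m_succ _ hq) (m - 1) (minus_QStd (m - 1) hab')
      (minus_ND (m - 1) hab') (m - 1) le_rfl,
    prod_reflect]
  obtain ⟨n, rfl⟩ : ∃ n, m = n + 1 := ⟨m - 1, by omega⟩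
  rw [Nat.add_sub_cancel]
  have h := prodM (Fintype.card F) hq n
  have h2 : ∀ P : ℕ, P * ((Fintype.card F + 1) * 2) = P * (Fintype.card F + 1) * 2 :=
    fun P => by ring
  rw [h2, h]
  ring

end Cfsg.Agent.S0288
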