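import Cfsg.Statements.S0289
import Mathlib
import Cfsg.Agent.Lib.Helper1.CountForms

set_option autoImplicit false
open Cfsg

namespace Cfsg.Agent.S0289

open Cfsg.Agent.Lib.Helper1


/-- The hyperbolic quadratic form on F^(2m), m at least 1, has q^(2m-1) + q^m - q^(m-1) zeros (that is, (q^m - 1)(q^(m-1) + 1) non-zero isotropic vectors). -/
theorem result {F : Type*} [Field F] [Fintype F] {q : ℕ} (hF : Fintype.card F = q) (m : ℕ) (hm : 1 ≤ m) : Nat.card {v : Fin m ⊕ Fin m → F // Cfsg.quadFormPlus m F v = 0} = q ^ (2 * m - 1) + q ^ m - q ^ (m - 1) := by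
  classical
  obtain ⟨k, rfl⟩ : ∃ k, m = k + 1 := ⟨m - 1, by omega⟩
  let e : {v : Fin (k + 1) ⊕ Fin (k + 1) → F // Cfsg.quadFormPlus (k + 1) F v = 0} ≃
      {p : (Fin (k + 1) → F) × (Fin (k + 1) → F) // ∑ i, p.1 i * p.2 i = (0 : F)} :=
    { toFun := fun v => ⟨(fun i => v.1 (Sum.inl i), fun i => v.1 (Sum.inr i)), v.2⟩
      invFun := fun p => ⟨Sum.elim p.1.1 p.1.2, p.2⟩
      left_inv := fun v => by
        apply Subtype.ext
        funext x
        cases x <;> rfl
      right_inv := fun p => rfl }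
  rw [Nat.card_congr e, card_pairs_dot k (0 : F), if_pos rfl, hF]
  have hq : 0 < q := by rw [← hF]; exact Fintype.card_pos
  have hA : 0 < q ^ k := pow_pos hq k
  have e1 : q ^ (k + 1) = q ^ k * q := pow_succ q k
  have e2 : q ^ (2 * (k + 1) - 1) = q ^ k * q ^ k * q := by
    have : 2 * (k + 1) - 1 = k + k + 1 := by omega
    rw [this, pow_succ, pow_add]
  have e3 : k + 1 - 1 = k := by omega
  rw [e1, e2, e3, Nat.sub_mul, one_mul]
  have e4 : q ^ k * q * q ^ k = q ^ k * q ^ k * q := by ring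
  rw [e4]
  have h5 : q ^ k ≤ q ^ k * q ^ k * q := by
    calc q ^ k = q ^ k * 1 := (mul_one _).symm
      _ ≤ q ^ k * (q ^ k * q) := Nat.mul_le_mul_left _ (Nat.mul_pos hA hq)
      _ = q ^ k * q ^ k * q := by ring
  generalize q ^ k * q ^ k * q = X at *
  generalize q ^ k * q = Y at *
  generalize q ^ k = A at *
  omega

end Cfsg.Agent.S0289
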