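import Cfsg.Statements.S0290
import Mathlib
import Cfsg.Agent.Lib.Helper1.CountForms

set_option autoImplicit false
open Cfsg

namespace Cfsg.Agent.S0290

open Cfsg.Agent.Lib.Helper1


/-- The minus-type quadratic form on F^(2m), m at least 1, has q^(2m-1) + q^(m-1) - q^m zeros (that is, (q^m + 1)(q^(m-1) - 1) non-zero isotropic vectors). -/
theorem result {F : Type*} [Field F] [Fintype F] {q : ℕ} (hF : Fintype.card F = q) (m : ℕ) (hm : 1 ≤ m) (a b : F) (hab : ∀ z₁ z₂ : F, z₁ ^ 2 + a * z₁ * z₂ + b * z₂ ^ 2 = 0 → z₁ = 0 ∧ z₂ = 0) : Nat.card {v : (Fin (m - 1) ⊕ Fin (m - 1)) ⊕ Fin 2 → F // Cfsg.quadFormMinus (m - 1) F a b v = 0} = q ^ (2 * m - 1) + q ^ (m - 1) - q ^ m := by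
  classical
  have hq : 0 < q := by rw [← hF]; exact Fintype.card_pos
  have hfilter : (Finset.univ.filter (fun z : Fin 2 → F =>
      -(z 0 ^ 2 + a * z 0 * z 1 + b * z 1 ^ 2) = 0)).card = 1 := by
    rw [Finset.card_eq_one]
    refine ⟨0, ?_⟩
    ext z
    simp only [Finset.mem_filter, Finset.mem_univ, true_and, Finset.mem_singleton, neg_eq_zero]
    constructor
    · intro h
      obtain ⟨h0, h1⟩ := hab _ _ h
      funext j
      fin_cases j
      · exact h0
      · exact h1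
    · intro h
      rw [h]
      simp
  have hT : Fintype.card (Fin 2 → F) = q ^ 2 := by
    rw [Fintype.card_fun, Fintype.card_fin, hF]
  rcases Nat.eq_or_lt_of_le hm with h1 | h2
  · subst h1
    let e : {v : (Fin (1 - 1) ⊕ Fin (1 - 1)) ⊕ Fin 2 → F //
          Cfsg.quadFormMinus (1 - 1) F a b v = 0} ≃
        (Σ z : Fin 2 → F, {p : (Fin 0 → F) × (Fin 0 → F) // ∑ i, p.1 i * p.2 i =
          -(z 0 ^ 2 + a * z 0 * z 1 + b * z 1 ^ 2)}) :=
      { toFun := fun v => ⟨fun j => v.1 (Sum.inr j), ⟨(fun i => v.1 (Sum.inl (Sum.inl i)),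
          fun i => v.1 (Sum.inl (Sum.inr i))), eq_neg_of_add_eq_zero_left v.2⟩⟩
        invFun := fun s => ⟨Sum.elim (Sum.elim s.2.1.1 s.2.1.2) s.1, by
          have := s.2.2
          show ∑ i, s.2.1.1 i * s.2.1.2 i + (s.1 0 ^ 2 + a * s.1 0 * s.1 1 + b * s.1 1 ^ 2) = 0
          rw [this]; ring⟩
        left_inv := fun v => by
          apply Subtype.ext
          funext x
          rcases x with (x | x) | x <;> rfl
        right_inv := fun s => rfl }
    rw [Nat.card_congr e, card_sigma_pairs_zero, hfilter]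
    simp
  · obtain ⟨k, rfl⟩ : ∃ k, m = k + 2 := ⟨m - 2, by omega⟩
    have hk : k + 2 - 1 = k + 1 := by omega
    rw [hk]
    let e : {v : (Fin (k + 1) ⊕ Fin (k + 1)) ⊕ Fin 2 → F //
          Cfsg.quadFormMinus (k + 1) F a b v = 0} ≃
        (Σ z : Fin 2 → F, {p : (Fin (k + 1) → F) × (Fin (k + 1) → F) //
          ∑ i, p.1 i * p.2 i = -(z 0 ^ 2 + a * z 0 * z 1 + b * z 1 ^ 2)}) :=
      { toFun := fun v => ⟨fun j => v.1 (Sum.inr j), ⟨(fun i => v.1 (Sum.inl (Sum.inl i)),
          fun i => v.1 (Sum.inl (Sum.inr i))), eq_neg_of_add_eq_zero_left v.2⟩⟩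
        invFun := fun s => ⟨Sum.elim (Sum.elim s.2.1.1 s.2.1.2) s.1, by
          have := s.2.2
          show ∑ i, s.2.1.1 i * s.2.1.2 i + (s.1 0 ^ 2 + a * s.1 0 * s.1 1 + b * s.1 1 ^ 2) = 0
          rw [this]; ring⟩
        left_inv := fun v => by
          apply Subtype.ext
          funext x
          rcases x with (x | x) | x <;> rfl
        right_inv := fun s => rfl }
    rw [Nat.card_congr e, card_sigma_pairs, hfilter, hT, hF, one_mul]
    have hA : 0 < q ^ k := pow_pos hq k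
    have e1 : q ^ (k + 1) = q ^ k * q := pow_succ q k
    have e2 : q ^ (2 * (k + 2) - 1) = q ^ k * q ^ k * (q * q * q) := by
      have : 2 * (k + 2) - 1 = k + k + 3 := by omega
      rw [this, pow_add, pow_add]; ring
    have e3 : q ^ (k + 2) = q ^ k * (q * q) := by rw [pow_add]; ring
    rw [e1, e2, e3, Nat.sub_mul, one_mul, Nat.mul_sub]
    have e4 : q ^ 2 * (q ^ k * q * q ^ k) = q ^ k * q ^ k * (q * q * q) := by ring
    have e5 : q ^ 2 * q ^ k = q ^ k * (q * q) := by ring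
    rw [e4, e5]
    have h5 : q ^ k * (q * q) ≤ q ^ k * q ^ k * (q * q * q) := by
      calc q ^ k * (q * q) = 1 * (q ^ k * (q * q)) := (one_mul _).symm
        _ ≤ (q ^ k * q) * (q ^ k * (q * q)) := Nat.mul_le_mul_right _ (Nat.mul_pos hA hq)
        _ = q ^ k * q ^ k * (q * q * q) := by ring
    generalize q ^ k * q ^ k * (q * q * q) = X at *
    generalize q ^ k * (q * q) = Y at *
    generalize q ^ k * q = W at *
    omega

end Cfsg.Agent.S0290
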