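import Cfsg.Statements.S0291
import Mathlib
import Cfsg.Agent.Lib.Helper1.CountForms

set_option autoImplicit false
open Cfsg

namespace Cfsg.Agent.S0291

open Cfsg.Agent.Lib.Helper1


/-- For q odd, the form x_0^2 + sum_{i<m} x_i y_i on F^(2m+1) has exactly q^(2m) zeros. -/
theorem result {F : Type*} [Field F] [Fintype F] {q : ℕ} (hF : Fintype.card F = q) (hodd : Odd q) (m : ℕ) : Nat.card {v : Unit ⊕ (Fin m ⊕ Fin m) → F // Cfsg.quadFormOdd m F v = 0} = q ^ (2 * m) := by
  classical
  have hq : 0 < q := by rw [← hF]; exact Fintype.card_pos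
  have hfilter : (Finset.univ.filter (fun t : F => -(t ^ 2) = 0)).card = 1 := by
    rw [Finset.card_eq_one]
    refine ⟨0, ?_⟩
    ext t
    simp
  rcases Nat.eq_zero_or_pos m with rfl | hm
  · let e : {v : Unit ⊕ (Fin 0 ⊕ Fin 0) → F // Cfsg.quadFormOdd 0 F v = 0} ≃
        (Σ t : F, {p : (Fin 0 → F) × (Fin 0 → F) // ∑ i, p.1 i * p.2 i = -(t ^ 2)}) :=
      { toFun := fun v => ⟨v.1 (Sum.inl ()), ⟨(fun i => v.1 (Sum.inr (Sum.inl i)),
          fun i => v.1 (Sum.inr (Sum.inr i))), eq_neg_of_add_eq_zero_right v.2⟩⟩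
        invFun := fun s => ⟨Sum.elim (fun _ => s.1) (Sum.elim s.2.1.1 s.2.1.2), by
          have := s.2.2
          show s.1 ^ 2 + ∑ i, s.2.1.1 i * s.2.1.2 i = 0
          rw [this]; ring⟩
        left_inv := fun v => by
          apply Subtype.ext
          funext x
          rcases x with x | x | x <;> rfl
        right_inv := fun s => rfl }
    rw [Nat.card_congr e, card_sigma_pairs_zero, hfilter]
    simp
  · obtain ⟨k, rfl⟩ : ∃ k, m = k + 1 := ⟨m - 1, by omega⟩
    let e : {v : Unit ⊕ (Fin (k + 1) ⊕ Fin (k + 1)) → F // Cfsg.quadFormOdd (k + 1) F v = 0} ≃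
        (Σ t : F, {p : (Fin (k + 1) → F) × (Fin (k + 1) → F) //
          ∑ i, p.1 i * p.2 i = -(t ^ 2)}) :=
      { toFun := fun v => ⟨v.1 (Sum.inl ()), ⟨(fun i => v.1 (Sum.inr (Sum.inl i)),
          fun i => v.1 (Sum.inr (Sum.inr i))), eq_neg_of_add_eq_zero_right v.2⟩⟩
        invFun := fun s => ⟨Sum.elim (fun _ => s.1) (Sum.elim s.2.1.1 s.2.1.2), by
          have := s.2.2
          show s.1 ^ 2 + ∑ i, s.2.1.1 i * s.2.1.2 i = 0
          rw [this]; ring⟩
        left_inv := fun v => by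
          apply Subtype.ext
          funext x
          rcases x with x | x | x <;> rfl
        right_inv := fun s => rfl }
    rw [Nat.card_congr e, card_sigma_pairs, hfilter, hF, one_mul]
    have hA : 0 < q ^ k := pow_pos hq k
    have e1 : q ^ (k + 1) = q ^ k * q := pow_succ q k
    have e2 : q ^ (2 * (k + 1)) = q ^ k * q * (q ^ k * q) := by
      rw [← e1, ← pow_add]; congr 1; omega
    rw [e1, e2, Nat.sub_mul, one_mul, Nat.mul_sub]
    have e4 : q * (q ^ k * q * q ^ k) = q ^ k * q * (q ^ k * q) := by ring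
    have e5 : q * q ^ k = q ^ k * q := by ring
    rw [e4, e5]
    have h5 : q ^ k * q ≤ q ^ k * q * (q ^ k * q) :=
      Nat.le_mul_of_pos_right _ (Nat.mul_pos hA hq)
    generalize q ^ k * q * (q ^ k * q) = X at *
    generalize q ^ k * q = Y at *
    omega

end Cfsg.Agent.S0291
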