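import Mathlib
import Cfsg.Statements.S0304

set_option autoImplicit false
open Cfsg

namespace Cfsg.Agent.S0304

section
variable {F : Type*} [Field F] (m : ℕ)

/-- polar form of `quadFormPlus` -/
def Bp (v w : Fin m ⊕ Fin m → F) : F :=
  ∑ i : Fin m, (v (Sum.inl i) * w (Sum.inr i) + v (Sum.inr i) * w (Sum.inl i))

theorem Qp_add (v w : Fin m ⊕ Fin m → F) :
    Cfsg.quadFormPlus m F (v + w) =
      Cfsg.quadFormPlus m F v + Cfsg.quadFormPlus m F w + Bp m v w := by
  unfold Cfsg.quadFormPlus Bp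
  rw [← Finset.sum_add_distrib, ← Finset.sum_add_distrib]
  apply Finset.sum_congr rfl
  intro i _
  simp only [Pi.add_apply]
  ring

theorem Qp_smul (c : F) (v : Fin m ⊕ Fin m → F) :
    Cfsg.quadFormPlus m F (c • v) = c ^ 2 * Cfsg.quadFormPlus m F v := by
  unfold Cfsg.quadFormPlus
  rw [Finset.mul_sum]
  apply Finset.sum_congr rfl
  intro i _
  simp only [Pi.smul_apply, smul_eq_mul]
  ring

theorem Qp_zero : Cfsg.quadFormPlus m F (0 : Fin m ⊕ Fin m → F) = 0 := by
  unfold Cfsg.quadFormPlus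
  simp

theorem Bp_zero_left (w : Fin m ⊕ Fin m → F) : Bp m (0 : Fin m ⊕ Fin m → F) w = 0 := by
  unfold Bp
  simp

theorem Bp_single_inr (x : Fin m ⊕ Fin m → F) (i : Fin m) :
    Bp m x (Pi.single (Sum.inr i) 1) = x (Sum.inl i) := by
  classical
  unfold Bp
  rw [Finset.sum_eq_single i]
  · simp
  · intro j _ hj
    simp [Pi.single_apply, hj]
  · intro h; exact absurd (Finset.mem_univ _) h

theorem Bp_single_inl (x : Fin m ⊕ Fin m → F) (i : Fin m) :
    Bp m x (Pi.single (Sum.inl i) 1) = x (Sum.inr i) := by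
  classical
  unfold Bp
  rw [Finset.sum_eq_single i]
  · simp
  · intro j _ hj
    simp [Pi.single_apply, hj]
  · intro h; exact absurd (Finset.mem_univ _) h

theorem Bp_J [CharP F 2] (v w : Fin m ⊕ Fin m → F) :
    Bp m v w = dotProduct v ((Matrix.J (Fin m) F).mulVec w) := by
  have hJ : ∀ s, (Matrix.J (Fin m) F).mulVec w s =
      Sum.elim (fun i => - w (Sum.inr i)) (fun i => w (Sum.inl i)) s := by
    intro s
    unfold Matrix.J
    rw [Matrix.fromBlocks_mulVec]
    rcases s with i | i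
    · simp [Matrix.neg_mulVec]
    · simp
  unfold Bp
  rw [dotProduct, Fintype.sum_sum_type]
  simp only [hJ, Sum.elim_inl, Sum.elim_inr]
  rw [← Finset.sum_add_distrib]
  apply Finset.sum_congr rfl
  intro i _
  rw [CharTwo.neg_eq]

theorem dot_J_eq [CharP F 2] (S : Matrix (Fin m ⊕ Fin m) (Fin m ⊕ Fin m) F)
    (v w : Fin m ⊕ Fin m → F) :
    Bp m (S.mulVec v) (S.mulVec w) =
      dotProduct v ((S.transpose * Matrix.J (Fin m) F * S).mulVec w) := by
  rw [Bp_J, ← Matrix.mulVec_mulVec, ← Matrix.mulVec_mulVec,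
    Matrix.dotProduct_mulVec v S.transpose, Matrix.vecMul_transpose]

theorem mem_symplectic_iff_Bp [CharP F 2] (S : Matrix (Fin m ⊕ Fin m) (Fin m ⊕ Fin m) F) :
    S ∈ Matrix.symplecticGroup (Fin m) F ↔
      ∀ v w, Bp m (S.mulVec v) (S.mulVec w) = Bp m v w := by
  classical
  rw [SymplecticGroup.mem_iff']
  constructor
  · intro h v w
    rw [dot_J_eq, h, Bp_J]
  · intro h
    ext s t
    have h1 := h (Pi.single s 1) (Pi.single t 1)
    rw [dot_J_eq, Bp_J, Matrix.mulVec_single_one, Matrix.mulVec_single_one,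
      single_one_dotProduct, single_one_dotProduct] at h1
    exact h1

end

section
variable {F : Type*} [Field F] [CharP F 2] (m : ℕ)

theorem Qo_eq (u : Unit ⊕ (Fin m ⊕ Fin m) → F) :
    Cfsg.quadFormOdd m F u = u (Sum.inl ()) ^ 2 + Cfsg.quadFormPlus m F (u ∘ Sum.inr) := rfl

theorem Qo_add (u w : Unit ⊕ (Fin m ⊕ Fin m) → F) :
    Cfsg.quadFormOdd m F (u + w) = Cfsg.quadFormOdd m F u + Cfsg.quadFormOdd m F w
      + Bp m (u ∘ Sum.inr) (w ∘ Sum.inr) := by
  rw [Qo_eq, Qo_eq, Qo_eq]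
  have h : (u + w) ∘ Sum.inr = u ∘ Sum.inr + w ∘ Sum.inr := rfl
  rw [h, Qp_add, Pi.add_apply, CharTwo.add_sq]
  ring

theorem sq_inj2 {x y : F} (h : x ^ 2 = y ^ 2) : x = y := by
  have h1 : (x + y) ^ 2 = 0 := by
    rw [CharTwo.add_sq, h, CharTwo.add_self_eq_zero]
  have h2 : x + y = 0 := by
    exact pow_eq_zero_iff (two_ne_zero) |>.1 h1
  exact CharTwo.add_eq_zero.1 h2

theorem iso_apply (g : Matrix.GeneralLinearGroup (Unit ⊕ (Fin m ⊕ Fin m)) F)
    (hg : g ∈ Cfsg.isometryGroup F (Cfsg.quadFormOdd m F)) (u : Unit ⊕ (Fin m ⊕ Fin m) → F) :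
    Cfsg.quadFormOdd m F (g.val.mulVec u) = Cfsg.quadFormOdd m F u := hg u u

theorem iso_Bp (g : Matrix.GeneralLinearGroup (Unit ⊕ (Fin m ⊕ Fin m)) F)
    (hg : g ∈ Cfsg.isometryGroup F (Cfsg.quadFormOdd m F)) (u w : Unit ⊕ (Fin m ⊕ Fin m) → F) :
    Bp m ((g.val.mulVec u) ∘ Sum.inr) ((g.val.mulVec w) ∘ Sum.inr)
      = Bp m (u ∘ Sum.inr) (w ∘ Sum.inr) := by
  have h1 := iso_apply m g hg (u + w)
  rw [Matrix.mulVec_add, Qo_add, Qo_add, iso_apply m g hg u, iso_apply m g hg w] at h1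
  exact add_left_cancel h1

theorem iso_e0 (g : Matrix.GeneralLinearGroup (Unit ⊕ (Fin m ⊕ Fin m)) F)
    (hg : g ∈ Cfsg.isometryGroup F (Cfsg.quadFormOdd m F)) (s : Fin m ⊕ Fin m) :
    g.val (Sum.inr s) (Sum.inl ()) = 0 := by
  classical
  have key : ∀ y : Fin m ⊕ Fin m → F,
      Bp m ((g.val.mulVec (Pi.single (Sum.inl ()) 1)) ∘ Sum.inr) y = 0 := by
    intro y
    have h := iso_Bp m g hg (Pi.single (Sum.inl ()) 1) ((g⁻¹).val.mulVec (Sum.elim 0 y))
    rw [Matrix.mulVec_mulVec, ← Units.val_mul, mul_inv_cancel, Units.val_one,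
      Matrix.one_mulVec] at h
    have h0 : (Pi.single (Sum.inl ()) (1:F) : Unit ⊕ (Fin m ⊕ Fin m) → F) ∘ Sum.inr = 0 := by
      ext t; simp
    rw [h0, Bp_zero_left, Sum.elim_comp_inr] at h
    exact h
  rcases s with i | i
  · have h := key (Pi.single (Sum.inr i) 1)
    rw [Bp_single_inr, Matrix.mulVec_single_one] at h
    exact h
  · have h := key (Pi.single (Sum.inl i) 1)
    rw [Bp_single_inl, Matrix.mulVec_single_one] at h
    exact h

theorem mulVec_inr (g : Matrix.GeneralLinearGroup (Unit ⊕ (Fin m ⊕ Fin m)) F)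
    (hg : g ∈ Cfsg.isometryGroup F (Cfsg.quadFormOdd m F)) (u : Unit ⊕ (Fin m ⊕ Fin m) → F) :
    (g.val.mulVec u) ∘ Sum.inr = (g.val.toBlocks₂₂).mulVec (u ∘ Sum.inr) := by
  ext t
  simp only [Function.comp, Matrix.mulVec, dotProduct, Fintype.sum_sum_type, iso_e0 m g hg,
    zero_mul, Finset.sum_const_zero, zero_add, Matrix.toBlocks₂₂, Matrix.of_apply]

theorem toBlocks_mul (g h : Matrix.GeneralLinearGroup (Unit ⊕ (Fin m ⊕ Fin m)) F)
    (hg : g ∈ Cfsg.isometryGroup F (Cfsg.quadFormOdd m F)) :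
    (g * h).val.toBlocks₂₂ = g.val.toBlocks₂₂ * h.val.toBlocks₂₂ := by
  ext s t
  simp only [Units.val_mul, Matrix.toBlocks₂₂, Matrix.of_apply, Matrix.mul_apply,
    Fintype.sum_sum_type, iso_e0 m g hg, zero_mul, Finset.sum_const_zero, zero_add]

theorem toBlocks_mem (g : Matrix.GeneralLinearGroup (Unit ⊕ (Fin m ⊕ Fin m)) F)
    (hg : g ∈ Cfsg.isometryGroup F (Cfsg.quadFormOdd m F)) :
    g.val.toBlocks₂₂ ∈ Matrix.symplecticGroup (Fin m) F := by
  rw [mem_symplectic_iff_Bp]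
  intro x y
  have h := iso_Bp m g hg (Sum.elim 0 x) (Sum.elim 0 y)
  rw [mulVec_inr m g hg, mulVec_inr m g hg, Sum.elim_comp_inr, Sum.elim_comp_inr] at h
  exact h

theorem iso_inl (g : Matrix.GeneralLinearGroup (Unit ⊕ (Fin m ⊕ Fin m)) F)
    (hg : g ∈ Cfsg.isometryGroup F (Cfsg.quadFormOdd m F)) (u : Unit ⊕ (Fin m ⊕ Fin m) → F) :
    (g.val.mulVec u) (Sum.inl ()) ^ 2 + Cfsg.quadFormPlus m F ((g.val.toBlocks₂₂).mulVec (u ∘ Sum.inr))
      = u (Sum.inl ()) ^ 2 + Cfsg.quadFormPlus m F (u ∘ Sum.inr) := by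
  have h := iso_apply m g hg u
  rw [Qo_eq, Qo_eq, mulVec_inr m g hg] at h
  exact h

end

theorem result {F : Type*} [Field F] [Fintype F] [CharP F 2] (m : ℕ) : Nonempty (Cfsg.isometryGroup F (Cfsg.quadFormOdd m F) ≃* Matrix.symplecticGroup (Fin m) F) := by
  classical
  haveI : Fact (Nat.Prime 2) := ⟨Nat.prime_two⟩
  let Φ : Cfsg.isometryGroup F (Cfsg.quadFormOdd m F) →* Matrix.symplecticGroup (Fin m) F :=
    MonoidHom.mk' (fun g => ⟨g.1.val.toBlocks₂₂, toBlocks_mem m g.1 g.2⟩) (by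
      intro g h
      apply Subtype.ext
      exact toBlocks_mul m g.1 h.1 g.2)
  have hinj : Function.Injective Φ := by
    rw [injective_iff_map_eq_one]
    intro g hg
    have hS : g.1.val.toBlocks₂₂ = 1 := congrArg Subtype.val hg
    have hfix : ∀ u, g.1.val.mulVec u = u := by
      intro u
      have h1 := iso_inl m g.1 g.2 u
      rw [hS, Matrix.one_mulVec] at h1
      have h2 := sq_inj2 (add_right_cancel h1)
      have h3 := mulVec_inr m g.1 g.2 u
      rw [hS, Matrix.one_mulVec] at h3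
      ext s
      rcases s with ⟨⟩ | t
      · exact h2
      · exact congrFun h3 t
    apply Subtype.ext
    apply Units.ext
    ext s t
    have h := congrFun (hfix (Pi.single t 1)) s
    rw [Matrix.mulVec_single_one] at h
    simpa [Matrix.one_apply, Pi.single_apply] using h
  have hsurj : Function.Surjective Φ := by
    rintro ⟨S, hS⟩
    have hSB := (mem_symplectic_iff_Bp m S).1 hS
    let D : (Fin m ⊕ Fin m → F) →+ F := AddMonoidHom.mk'
      (fun x => Cfsg.quadFormPlus m F x + Cfsg.quadFormPlus m F (S.mulVec x)) (by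
        intro x y
        rw [Qp_add, Matrix.mulVec_add, Qp_add, hSB]
        have h := CharTwo.add_self_eq_zero (Bp m x y)
        linear_combination h)
    have hDdef : ∀ x, D x = Cfsg.quadFormPlus m F x + Cfsg.quadFormPlus m F (S.mulVec x) :=
      fun x => rfl
    have hDsmul : ∀ (c : F) x, D (c • x) = c ^ 2 * D x := by
      intro c x
      rw [hDdef, hDdef, Matrix.mulVec_smul, Qp_smul, Qp_smul]; ring
    have hsq : ∀ a : F, ∃ b, b ^ 2 = a := by
      intro a
      obtain ⟨b, hb⟩ := FiniteField.isSquare_of_char_two (ringChar.eq F 2) a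
      exact ⟨b, by rw [hb, sq]⟩
    choose lam hlam using fun t => hsq (D (Pi.single t 1))
    have hD : ∀ x, D x = (∑ t, lam t * x t) ^ 2 := by
      intro x
      have hx : ∑ t, x t • (Pi.single t (1:F) : Fin m ⊕ Fin m → F) = x := by
        conv_rhs => rw [← Finset.univ_sum_single x]
        apply Finset.sum_congr rfl
        intro t _
        ext s
        simp [Pi.single_apply]
      conv_lhs => rw [← hx]
      rw [map_sum, sum_pow_char 2]
      apply Finset.sum_congr rfl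
      intro t _
      rw [hDsmul, mul_pow, hlam]; ring
    let A : Matrix (Unit ⊕ (Fin m ⊕ Fin m)) (Unit ⊕ (Fin m ⊕ Fin m)) F :=
      Matrix.fromBlocks 1 (Matrix.of fun _ t => lam t) 0 S
    have hA : A = Matrix.fromBlocks 1 (Matrix.of fun _ t => lam t) 0 S := rfl
    have hdet : A.det ≠ 0 := by
      rw [hA, Matrix.det_fromBlocks_zero₂₁, Matrix.det_one, one_mul]
      exact (SymplecticGroup.symplectic_det hS).ne_zero
    let g : Matrix.GeneralLinearGroup (Unit ⊕ (Fin m ⊕ Fin m)) F :=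
      Matrix.GeneralLinearGroup.mkOfDetNeZero A hdet
    have hg : g ∈ Cfsg.isometryGroup F (Cfsg.quadFormOdd m F) := by
      intro u _
      show Cfsg.quadFormOdd m F (A.mulVec u) = Cfsg.quadFormOdd m F u
      rw [Qo_eq, Qo_eq]
      have h1 : (A.mulVec u) ∘ Sum.inr = S.mulVec (u ∘ Sum.inr) := by
        rw [hA, Matrix.fromBlocks_mulVec]; simp
      have h2 : (A.mulVec u) (Sum.inl ()) = u (Sum.inl ()) + ∑ t, lam t * u (Sum.inr t) := by
        rw [hA, Matrix.fromBlocks_mulVec]; simp [Matrix.mulVec, dotProduct]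
      have h3 : ∑ t, lam t * u (Sum.inr t) = ∑ t, lam t * (u ∘ Sum.inr) t := rfl
      rw [h1, h2, CharTwo.add_sq, h3, ← hD (u ∘ Sum.inr), hDdef]
      have h := CharTwo.add_self_eq_zero (Cfsg.quadFormPlus m F (S.mulVec (u ∘ Sum.inr)))
      linear_combination h
    refine ⟨⟨g, hg⟩, ?_⟩
    apply Subtype.ext
    show A.toBlocks₂₂ = S
    exact Matrix.toBlocks_fromBlocks₂₂ _ _ _ _
  exact ⟨MulEquiv.ofBijective Φ ⟨hinj, hsurj⟩⟩

end Cfsg.Agent.S0304
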