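import Cfsg.Statements.S0305
import Mathlib
import Cfsg.Agent.S0287
import Cfsg.Agent.Lib.Helper6.MaxClass2c

set_option autoImplicit false
open Cfsg

namespace Cfsg.Agent.S0305

open Matrix

section
variable {F : Type*} [Field F]

/-- diagonal hyperbolic rotations -/
def rotM (c : F) : Matrix (Fin 1 ⊕ Fin 1) (Fin 1 ⊕ Fin 1) F :=
  Matrix.fromBlocks (c • (1 : Matrix (Fin 1) (Fin 1) F)) 0 0 (c⁻¹ • (1 : Matrix (Fin 1) (Fin 1) F))

/-- the swap -/
def swapM : Matrix (Fin 1 ⊕ Fin 1) (Fin 1 ⊕ Fin 1) F :=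
  Matrix.fromBlocks 0 (1 : Matrix (Fin 1) (Fin 1) F) (1 : Matrix (Fin 1) (Fin 1) F) 0

theorem rotM_mul (c d : F) : rotM c * rotM d = rotM (c * d) := by
  unfold rotM
  rw [Matrix.fromBlocks_multiply]
  simp [smul_smul, mul_comm]

theorem rotM_one : rotM (1 : F) = 1 := by
  unfold rotM
  simp

theorem swapM_mul : (swapM : Matrix (Fin 1 ⊕ Fin 1) (Fin 1 ⊕ Fin 1) F) * swapM = 1 := by
  unfold swapM
  rw [Matrix.fromBlocks_multiply]
  simp

theorem swap_rot_swap (c : F) : swapM * rotM c * swapM = rotM c⁻¹ := by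
  unfold swapM rotM
  rw [Matrix.fromBlocks_multiply, Matrix.fromBlocks_multiply]
  simp

theorem rotM_apply (c : F) : rotM c (Sum.inl 0) (Sum.inl 0) = c := by
  unfold rotM
  simp

theorem swapM_apply : (swapM : Matrix (Fin 1 ⊕ Fin 1) (Fin 1 ⊕ Fin 1) F) (Sum.inl 0) (Sum.inl 0) = 0 := by
  unfold swapM
  simp

theorem rotM_pres (c : F) (hc : c ≠ 0) (v : Fin 1 ⊕ Fin 1 → F) :
    Cfsg.quadFormPlus 1 F (rotM c *ᵥ v) = Cfsg.quadFormPlus 1 F v := by
  unfold Cfsg.quadFormPlus rotM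
  rw [Matrix.fromBlocks_mulVec]
  simp only [Finset.univ_unique, Finset.sum_singleton, Sum.elim_inl, Sum.elim_inr,
    Matrix.zero_mulVec, add_zero, zero_add, Matrix.smul_mulVec, Matrix.one_mulVec,
    Pi.smul_apply, Function.comp_apply, smul_eq_mul]
  have h : c * c⁻¹ = 1 := mul_inv_cancel₀ hc
  linear_combination (v (Sum.inl default) * v (Sum.inr default)) * h

theorem swapM_pres (v : Fin 1 ⊕ Fin 1 → F) :
    Cfsg.quadFormPlus 1 F (swapM *ᵥ v) = Cfsg.quadFormPlus 1 F v := by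
  unfold Cfsg.quadFormPlus swapM
  rw [Matrix.fromBlocks_mulVec]
  simp only [Finset.univ_unique, Finset.sum_singleton, Sum.elim_inl, Sum.elim_inr,
    Matrix.zero_mulVec, add_zero, zero_add, Matrix.one_mulVec, Function.comp_apply]
  ring

/-- the torus as a homomorphism into the isometry group -/
def rotHom : Fˣ →* ↥(Cfsg.isometryGroup F (Cfsg.quadFormPlus 1 F)) where
  toFun c := ⟨⟨rotM (c : F), rotM ((c⁻¹ : Fˣ) : F),
    by rw [rotM_mul, Units.mul_inv, rotM_one], by rw [rotM_mul, Units.inv_mul, rotM_one]⟩,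
    fun u _ => rotM_pres (c : F) c.ne_zero u⟩
  map_one' := by
    apply Subtype.ext
    apply Units.ext
    exact rotM_one
  map_mul' c d := by
    apply Subtype.ext
    apply Units.ext
    show rotM ((c * d : Fˣ) : F) = rotM (c : F) * rotM (d : F)
    rw [rotM_mul, Units.val_mul]

theorem rotHom_val (c : Fˣ) :
    ((rotHom c).1 : Matrix (Fin 1 ⊕ Fin 1) (Fin 1 ⊕ Fin 1) F) = rotM (c : F) := rfl

/-- the reflection -/
def swapG : ↥(Cfsg.isometryGroup F (Cfsg.quadFormPlus 1 F)) :=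
  ⟨⟨swapM, swapM, swapM_mul, swapM_mul⟩, fun u _ => swapM_pres u⟩

end

/-- GO^+_2(q) is dihedral of order 2(q-1). -/
theorem result {F : Type*} [Field F] [Fintype F] {q : ℕ} (hF : Fintype.card F = q) : Nonempty (Cfsg.isometryGroup F (Cfsg.quadFormPlus 1 F) ≃* DihedralGroup (q - 1)) := by
  classical
  have hG : Nat.card ↥(Cfsg.isometryGroup F (Cfsg.quadFormPlus 1 F)) = 2 * (q - 1) := by
    have h := Cfsg.Agent.S0287.result hF 1 le_rfl
    simpa using h
  have hq1 : 1 < q := by rw [← hF]; exact Fintype.one_lt_card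
  by_cases hq2 : q = 2
  · subst hq2
    have : Fact (Nat.Prime 2) := ⟨Nat.prime_two⟩
    exact ⟨mulEquivOfPrimeCardEq (p := 2) (by rw [hG]) (by rw [DihedralGroup.nat_card])⟩
  · have hN : 2 ≤ q - 1 := by omega
    obtain ⟨c₀, hc₀⟩ := IsCyclic.exists_generator (α := Fˣ)
    have hord : orderOf c₀ = q - 1 := by
      rw [orderOf_eq_card_of_forall_mem_zpowers hc₀, Nat.card_units, Nat.card_eq_fintype_card, hF]
    have hinj : Function.Injective (rotHom (F := F)) := by
      intro c d h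
      have h1 : rotM (c : F) = rotM (d : F) := by
        rw [← rotHom_val, ← rotHom_val, h]
      have h2 := congrFun (congrFun h1 (Sum.inl 0)) (Sum.inl 0)
      rw [rotM_apply, rotM_apply] at h2
      exact Units.ext h2
    have hbb : (swapG : ↥(Cfsg.isometryGroup F (Cfsg.quadFormPlus 1 F))) * swapG = 1 := by
      apply Subtype.ext
      apply Units.ext
      exact swapM_mul
    have hbinv : (swapG : ↥(Cfsg.isometryGroup F (Cfsg.quadFormPlus 1 F)))⁻¹ = swapG :=
      inv_eq_of_mul_eq_one_right hbb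
    apply Cfsg.Agent.Lib.Helper6.nonempty_mulEquiv_dihedral_of_rel (q - 1) hN (rotHom c₀) swapG
    · rw [orderOf_injective rotHom hinj, hord]
    · intro hmem
      obtain ⟨k, hk⟩ := Subgroup.mem_zpowers_iff.1 hmem
      rw [← map_zpow] at hk
      have h1 : rotM ((c₀ ^ k : Fˣ) : F) = swapM := by
        rw [← rotHom_val, hk]
        rfl
      have h2 := congrFun (congrFun h1 (Sum.inl 0)) (Sum.inl 0)
      rw [rotM_apply, swapM_apply] at h2
      exact (c₀ ^ k).ne_zero h2
    · rw [pow_two]; exact hbb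
    · rw [hbinv, ← map_inv]
      apply Subtype.ext
      apply Units.ext
      show swapM * rotM (c₀ : F) * swapM = rotM ((c₀⁻¹ : Fˣ) : F)
      rw [swap_rot_swap, Units.val_inv_eq_inv_val]
    · exact hG

end Cfsg.Agent.S0305
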