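import Mathlib
import Cfsg.Statements.S0306
import Cfsg.Agent.Lib.Helper5.OEmbed4

set_option autoImplicit false
open Cfsg

namespace Cfsg.Agent.S0306

open Cfsg.Agent.Lib.Helper5

theorem result {F : Type*} [Field F] [Fintype F] {q : ℕ} (hF : Fintype.card F = q) (a b : F) (hab : ∀ z₁ z₂ : F, z₁ ^ 2 + a * z₁ * z₂ + b * z₂ ^ 2 = 0 → z₁ = 0 ∧ z₂ = 0) : Nonempty (Cfsg.isometryGroup F (Cfsg.quadFormMinus 0 F a b) ≃* DihedralGroup (q + 1)) := by
  classical
  subst hF
  obtain ⟨f, hfdef⟩ : ∃ f : Polynomial F,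
      f = Polynomial.X ^ 2 + (Polynomial.C a * Polynomial.X + Polynomial.C b) := ⟨_, rfl⟩
  have hdeg : (Polynomial.C a * Polynomial.X + Polynomial.C b).degree < ((2 : ℕ) : WithBot ℕ) :=
    lt_of_le_of_lt (Polynomial.degree_linear_le) (by norm_num)
  have hmon : f.Monic := by rw [hfdef]; exact Polynomial.monic_X_pow_add hdeg
  have hnat : f.natDegree = 2 := by
    rw [hfdef, Polynomial.natDegree_add_eq_left_of_degree_lt
      (by rw [Polynomial.degree_X_pow]; exact hdeg), Polynomial.natDegree_X_pow]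
  have heval : ∀ x : F, f.eval x = x ^ 2 + a * x + b := by
    intro x
    rw [hfdef]
    simp only [Polynomial.eval_add, Polynomial.eval_pow, Polynomial.eval_X, Polynomial.eval_mul,
      Polynomial.eval_C]
    ring
  have hirr : Irreducible f := by
    rw [Polynomial.Monic.irreducible_iff_roots_eq_zero_of_degree_le_three hmon
      (by rw [hnat]) (by rw [hnat]; norm_num)]
    apply Multiset.eq_zero_of_forall_notMem
    intro x hx
    have hx' := (Polynomial.mem_roots hmon.ne_zero).1 hx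
    rw [Polynomial.IsRoot.def, heval] at hx'
    have := hab x 1 (by rw [← hx']; ring)
    exact one_ne_zero this.2
  haveI : Fact (Irreducible f) := ⟨hirr⟩
  have hfin : Module.finrank F (AdjoinRoot f) = 2 := by
    rw [(AdjoinRoot.powerBasis hmon.ne_zero).finrank, AdjoinRoot.powerBasis_dim, hnat]
  haveI : Module.Finite F (AdjoinRoot f) := Module.finite_of_finrank_pos (by rw [hfin]; norm_num)
  haveI : Finite (AdjoinRoot f) := Module.finite_of_finite F
  haveI : Fintype (AdjoinRoot f) := Fintype.ofFinite _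
  obtain ⟨t, ht⟩ := exists_norm_iso (K := AdjoinRoot f) hfin a b hab
  let e' : Fin 2 ≃ (Fin 0 ⊕ Fin 0) ⊕ Fin 2 := (Equiv.emptySum (Fin 0 ⊕ Fin 0) (Fin 2)).symm
  let e₀ : ((Fin 0 ⊕ Fin 0) ⊕ Fin 2 → F) ≃ₗ[F] (Fin 2 → F) := LinearEquiv.funCongrLeft F F e'
  let e : AdjoinRoot f ≃ₗ[F] ((Fin 0 ⊕ Fin 0) ⊕ Fin 2 → F) := (e₀.trans t).symm
  let Q : AdjoinRoot f → F := fun x => Cfsg.quadFormMinus 0 F a b (e x)
  have hQ : ∀ x : AdjoinRoot f, algebraMap F (AdjoinRoot f) (Q x) = x * x ^ Fintype.card F := by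
    intro x
    have h1 := ht (t.symm x)
    rw [LinearEquiv.apply_symm_apply] at h1
    rw [← h1]
    congr 1
    show Cfsg.quadFormMinus 0 F a b (e x) = _
    unfold Cfsg.quadFormMinus
    have h2 : ∀ i : Fin 2, e x (Sum.inr i) = t.symm x i := by
      intro i
      have h3 : e₀ (e x) = t.symm x := by
        show e₀ ((e₀.trans t).symm x) = t.symm x
        rw [LinearEquiv.trans_symm, LinearEquiv.trans_apply, LinearEquiv.apply_symm_apply]
      exact congrFun h3 i
    rw [h2, h2]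
    simp
  obtain ⟨ψ⟩ := nonempty_isometryGroup_equiv Q (Cfsg.quadFormMinus 0 F a b) e (fun v => rfl)
  haveI : Finite ↥(isoSub Q) := Finite.of_equiv _ ψ.toEquiv
  obtain ⟨δ⟩ := normForm_dihedral hfin Q hQ
  exact ⟨ψ.trans δ⟩

end Cfsg.Agent.S0306
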