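import Cfsg.Statements.S0307
import Mathlib
import Cfsg.Agent.Lib.Helper1.SLCard

set_option autoImplicit false
open Cfsg

namespace Cfsg.Agent.S0307


open Matrix Cfsg.Agent.Lib.Helper1
open scoped MatrixGroups

section
variable {F : Type*} [Field F] [Fintype F] (n : ℕ)

/-- the `n`-th powers in `Fˣ` -/
abbrev powRange : Subgroup Fˣ := (powMonoidHom n : Fˣ →* Fˣ).range

/-- `det` modulo `n`-th powers -/
noncomputable def detBar : GL (Fin n) F →* Fˣ ⧸ powRange (F := F) n :=
  (QuotientGroup.mk' (powRange (F := F) n)).comp GeneralLinearGroup.det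

theorem detBar_scalar : (detBar (F := F) n).comp (GeneralLinearGroup.scalar (Fin n)) = 1 := by
  ext u
  show ((GeneralLinearGroup.det (GeneralLinearGroup.scalar (Fin n) u) : Fˣ) :
    Fˣ ⧸ powRange (F := F) n) = 1
  rw [QuotientGroup.eq_one_iff, GeneralLinearGroup.det_scalar, Fintype.card_fin]
  exact ⟨u, rfl⟩

/-- the induced map on `PGL` -/
noncomputable def detPGL : PGL(Fin n, F) →* Fˣ ⧸ powRange (F := F) n :=
  ProjGenLinGroup.lift (detBar n) (detBar_scalar n)

theorem detPGL_surjective (hn : 1 ≤ n) : Function.Surjective (detPGL (F := F) n) := by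
  haveI : Nonempty (Fin n) := ⟨⟨0, hn⟩⟩
  intro x
  obtain ⟨u, rfl⟩ := QuotientGroup.mk_surjective x
  obtain ⟨g, hg⟩ := GeneralLinearGroup.det_surjective (n := Fin n) (R := F) u
  refine ⟨ProjGenLinGroup.mk g, ?_⟩
  show ((GeneralLinearGroup.det g : Fˣ) : Fˣ ⧸ powRange (F := F) n) = _
  rw [hg]

theorem detPGL_ker :
    (detPGL (F := F) n).ker = (Matrix.ProjectiveSpecialLinearGroup.toPGL :
      Matrix.ProjectiveSpecialLinearGroup (Fin n) F →* PGL(Fin n, F)).range := by
  ext x
  constructor
  · intro hx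
    induction x using ProjGenLinGroup.induction_on with
    | mk g =>
      rw [MonoidHom.mem_ker] at hx
      have hx' : ((GeneralLinearGroup.det g : Fˣ) : Fˣ ⧸ powRange (F := F) n) = 1 := hx
      rw [QuotientGroup.eq_one_iff] at hx'
      obtain ⟨u, hu⟩ := hx'
      have hu' : u ^ n = GeneralLinearGroup.det g := hu
      have hker : g * GeneralLinearGroup.scalar (Fin n) u⁻¹ ∈
          (GeneralLinearGroup.det : GL (Fin n) F →* Fˣ).ker := by
        rw [MonoidHom.mem_ker, map_mul, GeneralLinearGroup.det_scalar, Fintype.card_fin, ← hu',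
          inv_pow, mul_inv_cancel]
      rw [← range_toGL_eq_ker_det] at hker
      obtain ⟨A, hA⟩ := hker
      refine ⟨(A : Matrix.ProjectiveSpecialLinearGroup (Fin n) F), ?_⟩
      rw [ProjectiveSpecialLinearGroup.toPGL_mk, hA, map_mul, ProjGenLinGroup.mk_scalar, mul_one]
  · rintro ⟨y, rfl⟩
    induction y using QuotientGroup.induction_on with
    | H A =>
      rw [MonoidHom.mem_ker, ProjectiveSpecialLinearGroup.toPGL_mk]
      show ((GeneralLinearGroup.det (SpecialLinearGroup.toGL A) : Fˣ) :
        Fˣ ⧸ powRange (F := F) n) = 1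
      rw [SpecialLinearGroup.coeToGL_det]
      rfl

theorem card_quot : Nat.card (Fˣ ⧸ powRange (F := F) n) = Nat.gcd n (Fintype.card F - 1) := by
  rw [← Subgroup.index_eq_card, IsCyclic.index_powMonoidHom_range, Nat.card_units,
    Nat.card_eq_fintype_card (α := F), Nat.gcd_comm]

end


/-- PSL_n(q) is normal in PGL_n(q) with cyclic quotient of order gcd(n, q-1): the image of the natural map PSL_n → PGL_n is the kernel of a surjective homomorphism onto the cyclic group of that order. -/
theorem result {F : Type*} [Field F] [Fintype F] {q : ℕ} (hF : Fintype.card F = q) (n : ℕ) (hn : 1 ≤ n) : ∃ g : Matrix.ProjGenLinGroup (Fin n) F →* Multiplicative (ZMod (Nat.gcd n (q - 1))), Function.Surjective g ∧ g.ker = (Matrix.ProjectiveSpecialLinearGroup.toPGL : Matrix.ProjectiveSpecialLinearGroup (Fin n) F →* Matrix.ProjGenLinGroup (Fin n) F).range := by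
  subst hF
  have hcyc : IsCyclic (Fˣ ⧸ powRange (F := F) n) := inferInstance
  let e1 : Multiplicative (ZMod (Nat.card (Fˣ ⧸ powRange (F := F) n))) ≃* (Fˣ ⧸ powRange (F := F) n) :=
    zmodCyclicMulEquiv hcyc
  let e2 : Multiplicative (ZMod (Nat.card (Fˣ ⧸ powRange (F := F) n))) ≃*
      Multiplicative (ZMod (Nat.gcd n (Fintype.card F - 1))) :=
    AddEquiv.toMultiplicative (ZMod.ringEquivCongr (card_quot n)).toAddEquiv
  let e : (Fˣ ⧸ powRange (F := F) n) ≃* Multiplicative (ZMod (Nat.gcd n (Fintype.card F - 1))) :=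
    e1.symm.trans e2
  refine ⟨e.toMonoidHom.comp (detPGL n), ?_, ?_⟩
  · exact e.surjective.comp (detPGL_surjective n hn)
  · rw [← detPGL_ker]
    ext x
    simp only [MonoidHom.mem_ker, MonoidHom.comp_apply]
    constructor
    · intro hx
      exact e.injective (by rw [map_one]; exact hx)
    · intro hx
      rw [hx, map_one]

end Cfsg.Agent.S0307
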