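import Cfsg.Statements.S0313
import Cfsg.Agent.Lib.Helper1.BN

set_option autoImplicit false
open Cfsg

namespace Cfsg.Agent.S0313

/-- Two standard parabolic subgroups of a group with a (B,N)-pair which are conjugate in `G` coincide. -/
theorem result {G : Type*} [Group G] (P : Cfsg.BNPair G) {J K : Set G}
    (hJ : J ⊆ P.S) (hK : K ⊆ P.S) (g : G)
    (h : (P.parabolic J).map (MulAut.conj g).toMonoidHom = P.parabolic K) :
    P.parabolic J = P.parabolic K := by
  have hT := Cfsg.Agent.Lib.Helper1.titsData_of_BNPair P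
  have key : ∀ (J K : Set G) (g : G),
      (P.parabolic J).map (MulAut.conj g).toMonoidHom = P.parabolic K →
      P.parabolic J ≤ P.parabolic K := by
    intro J K g h
    have hg : g ∈ P.parabolic K := by
      apply hT.mem_of_conj_le P.sup_eq_top (P.parabolic K) le_sup_left
      intro b hb
      rw [← h]
      exact ⟨b, (le_sup_left : P.B ≤ P.parabolic J) hb, rfl⟩
    intro x hx
    have hx' : g * x * g⁻¹ ∈ P.parabolic K := by
      rw [← h]
      exact ⟨x, hx, rfl⟩
    have e : x = g⁻¹ * (g * x * g⁻¹) * g := by group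
    rw [e]
    exact Subgroup.mul_mem _ (Subgroup.mul_mem _ (Subgroup.inv_mem _ hg) hx') hg
  apply le_antisymm (key J K g h)
  apply key K J g⁻¹
  rw [← h]
  ext x
  constructor
  · rintro ⟨y, ⟨z, hz, rfl⟩, rfl⟩
    have e : (MulAut.conj g⁻¹).toMonoidHom ((MulAut.conj g).toMonoidHom z) = z := by
      simp [mul_assoc]
    rw [e]; exact hz
  · intro hx
    exact ⟨g * x * g⁻¹, ⟨x, hx, rfl⟩, by simp [mul_assoc]⟩

end Cfsg.Agent.S0313
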