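import Cfsg.Statements.S0319
import Cfsg.Agent.Lib.Helper1.BN2

set_option autoImplicit false
open Cfsg

namespace Cfsg.Agent.S0319

/-- Simplicity criterion for groups with a (B,N)-pair: if the distinguished generators admit no
splitting into two non-empty mutually commuting parts, `B` is solvable, `G` is perfect and the intersection
of all conjugates of `B` is trivial, then `G` is simple. -/
theorem result {G : Type*} [Group G] [Nontrivial G]
    (P : Cfsg.BNPair G) (hirr : P.Irreducible) (hsolv : Group.IsSolvable P.B) (hperf : commutator G = ⊤)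
    (hcore : P.B.normalCore = ⊥) : IsSimpleGroup G := by
  have hT := Cfsg.Agent.Lib.Helper1.titsData_of_BNPair P
  refine { eq_bot_or_eq_top_of_normal := fun H hH => ?_ }
  have := hH
  set M : Subgroup G := H ⊔ P.B with hMdef
  set X : Set G := {s | s ∈ P.S ∧ s ∈ M} with hXdef
  have hXS : X ⊆ P.S := fun s hs => hs.1
  have hM : M = P.B ⊔ Subgroup.closure X :=
    hT.overgroup_eq_parabolic P.sup_eq_top M le_sup_right
  by_cases hXne : X.Nonempty
  · by_cases hXc : (P.S \ X).Nonempty
    · exfalso
      obtain ⟨s, hs, s', hs', hcomm⟩ := hirr X hXS hXne hXc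
      exact hcomm (hT.comm_of_normal P.inj H hXS hM hs hs'.1 hs'.2)
    · right
      have hXeq : X = P.S := by
        apply Set.Subset.antisymm hXS
        intro s hs
        by_contra hsX
        exact hXc ⟨s, hs, hsX⟩
      have htop : M = ⊤ := by
        rw [hM, hXeq, eq_top_iff, ← P.sup_eq_top, ← P.closure_sup]
        refine sup_le le_sup_left (sup_le le_sup_right ?_)
        exact le_trans inf_le_left le_sup_left
      -- the quotient is solvable and perfect
      let φ : P.B →* G ⧸ H := (QuotientGroup.mk' H).comp P.B.subtype
      have hφ : Function.Surjective φ := by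
        intro q
        obtain ⟨g, rfl⟩ := QuotientGroup.mk_surjective q
        have hg : g ∈ H ⊔ P.B := by rw [← hMdef, htop]; trivial
        obtain ⟨y, hy, z, hz, rfl⟩ := Subgroup.mem_sup_of_normal_left.1 hg
        refine ⟨⟨z, hz⟩, ?_⟩
        show ((z : G) : G ⧸ H) = ((y * z : G) : G ⧸ H)
        rw [QuotientGroup.mk_mul]
        have : ((y : G) : G ⧸ H) = 1 := (QuotientGroup.eq_one_iff y).2 hy
        rw [this, one_mul]
      have : Group.IsSolvable (G ⧸ H) := Group.isSolvable_of_surjective hφ
      have hperf' : commutator (G ⧸ H) = ⊤ := by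
        have h1 := _root_.map_commutator_eq (G := G) (QuotientGroup.mk' H)
        rw [hperf, MonoidHom.range_eq_top.2 (QuotientGroup.mk'_surjective H)] at h1
        rw [commutator_def, ← h1, ← MonoidHom.range_eq_map,
          MonoidHom.range_eq_top.2 (QuotientGroup.mk'_surjective H)]
      have hsub : Subsingleton (G ⧸ H) := by
        by_contra hns
        rw [not_subsingleton_iff_nontrivial] at hns
        have := Group.IsSolvable.commutator_lt_top_of_nontrivial (G := G ⧸ H)
        rw [hperf'] at this
        exact lt_irrefl _ this
      exact QuotientGroup.subgroup_eq_top_of_subsingleton H hsub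
  · left
    have hXeq : X = ∅ := Set.not_nonempty_iff_eq_empty.1 hXne
    have hMB : M = P.B := by
      rw [hM, hXeq, Subgroup.closure_empty, sup_bot_eq]
    have hHB : H ≤ P.B := by
      rw [← hMB]; exact le_sup_left
    have := (Subgroup.normal_le_normalCore (H := P.B) (N := H)).2 hHB
    rw [hcore] at this
    exact le_bot_iff.1 this

end Cfsg.Agent.S0319
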