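import Cfsg.Statements.S0321
import Cfsg.Agent.Lib.Helper1.BN2

set_option autoImplicit false
open Cfsg

namespace Cfsg.Agent.S0321

/-- For `n ∈ N` not in `B`, the union `B ∪ B n B` is (the underlying set of) a subgroup exactly when `n` agrees
modulo `B ⊓ N` with one of the distinguished representatives; thus the distinguished involutions are
determined by `B` and `N`. -/
theorem result {G : Type*} [Group G] (P : Cfsg.BNPair G) {n : G}
    (hn : n ∈ P.N) (hnB : n ∉ P.B) :
    (∃ H : Subgroup G, (H : Set G) = (P.B : Set G) ∪ DoubleCoset.doubleCoset n (P.B : Set G) P.B) ↔ ∃ s ∈ P.S, s⁻¹ * n ∈ P.B := by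
  have hT := Cfsg.Agent.Lib.Helper1.titsData_of_BNPair P
  constructor
  · rintro ⟨H, hH⟩
    have hBH : P.B ≤ H := by
      intro b hb
      have : b ∈ (H : Set G) := by rw [hH]; exact Or.inl hb
      exact this
    have hHpar := hT.overgroup_eq_parabolic P.sup_eq_top H hBH
    have hnH : n ∈ H := by
      have : n ∈ (H : Set G) := by
        rw [hH]; exact Or.inr (Cfsg.Agent.Lib.Helper1.TitsData.self_mem_dc n)
      exact this
    have hne : ({s | s ∈ P.S ∧ s ∈ H} : Set G).Nonempty := by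
      by_contra hemp
      rw [Set.not_nonempty_iff_eq_empty] at hemp
      rw [hemp, Subgroup.closure_empty, sup_bot_eq] at hHpar
      rw [hHpar] at hnH
      exact hnB hnH
    obtain ⟨s, hsS, hsH⟩ := hne
    refine ⟨s, hsS, ?_⟩
    have hs' : s ∈ (H : Set G) := hsH
    rw [hH] at hs'
    rcases hs' with hs' | hs'
    · exact absurd hs' (hT.not_mem_B hsS)
    · exact hT.bruhat_unique (hT.mem_N hsS) hn
        (Cfsg.Agent.Lib.Helper1.TitsData.dc_eq_of_mem hs')
  · rintro ⟨s, hsS, hrel⟩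
    refine ⟨P.B ⊔ Subgroup.closure {s}, ?_⟩
    have hdc : Cfsg.Agent.Lib.Helper1.TitsData.dc P.B n = Cfsg.Agent.Lib.Helper1.TitsData.dc P.B s :=
      Cfsg.Agent.Lib.Helper1.TitsData.dc_eq_of_rel hrel
    ext g
    rw [SetLike.mem_coe, hT.mem_sup_closure_singleton hsS g]
    show _ ↔ g ∈ (P.B : Set G) ∨ g ∈ Cfsg.Agent.Lib.Helper1.TitsData.dc P.B n
    rw [hdc]
    rfl

end Cfsg.Agent.S0321
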