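import Cfsg.Statements.S0322
import Cfsg.Agent.Lib.Helper1.BN2

set_option autoImplicit false
open Cfsg

namespace Cfsg.Agent.S0322

/-- A group with a (B,N)-pair of rank one acts doubly transitively on the left cosets of `B`. -/
theorem result {G : Type*} [Group G] (P : Cfsg.BNPair G) (h : P.rank = 1) : MulAction.IsMultiplyPretransitive G (G ⧸ P.B) 2 := by
  have hT := Cfsg.Agent.Lib.Helper1.titsData_of_BNPair P
  unfold Cfsg.BNPair.rank at h
  obtain ⟨⟨s, hsS⟩, hs⟩ := Nat.card_eq_one_iff_exists.1 h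
  have hSeq : P.S = {s} := by
    ext y
    constructor
    · intro hy
      have := hs ⟨y, hy⟩
      exact congrArg Subtype.val this
    · intro hy
      rw [Set.mem_singleton_iff] at hy
      subst hy; exact hsS
  have htop : P.B ⊔ Subgroup.closure {s} = ⊤ := by
    rw [eq_top_iff, ← P.sup_eq_top, ← P.closure_sup, hSeq]
    refine sup_le le_sup_left (sup_le le_sup_right ?_)
    exact le_trans inf_le_left le_sup_left
  have hcases : ∀ g : G, g ∈ P.B ∨ g ∈ Cfsg.Agent.Lib.Helper1.TitsData.dc P.B s := by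
    intro g
    rw [← hT.mem_sup_closure_singleton hsS g, htop]
    trivial
  rw [MulAction.is_two_pretransitive_iff]
  intro a b c d hab hcd
  obtain ⟨x, rfl⟩ := QuotientGroup.mk_surjective a
  obtain ⟨y, rfl⟩ := QuotientGroup.mk_surjective b
  obtain ⟨z, rfl⟩ := QuotientGroup.mk_surjective c
  obtain ⟨w, rfl⟩ := QuotientGroup.mk_surjective d
  have hxy : x⁻¹ * y ∉ P.B := fun hmem => hab (QuotientGroup.eq.2 hmem)
  have hzw : z⁻¹ * w ∉ P.B := fun hmem => hcd (QuotientGroup.eq.2 hmem)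
  have h1 := (hcases (x⁻¹ * y)).resolve_left hxy
  have h2 := (hcases (z⁻¹ * w)).resolve_left hzw
  obtain ⟨b1, hb1, b2, hb2, e1⟩ := Cfsg.Agent.Lib.Helper1.TitsData.mem_dc.1 h1
  obtain ⟨c1, hc1, c2, hc2, e2⟩ := Cfsg.Agent.Lib.Helper1.TitsData.mem_dc.1 h2
  refine ⟨z * c1 * b1⁻¹ * x⁻¹, ?_, ?_⟩
  · rw [MulAction.Quotient.smul_mk]
    apply QuotientGroup.eq.2
    have e : (z * c1 * b1⁻¹ * x⁻¹ * x)⁻¹ * z = b1 * c1⁻¹ := by group
    rw [smul_eq_mul, e]
    exact P.B.mul_mem hb1 (P.B.inv_mem hc1)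
  · rw [MulAction.Quotient.smul_mk]
    apply QuotientGroup.eq.2
    have hy : y = x * (b1 * s * b2) := by rw [← e1]; group
    have hw : w = z * (c1 * s * c2) := by rw [← e2]; group
    have e : (z * c1 * b1⁻¹ * x⁻¹ * y)⁻¹ * w = b2⁻¹ * c2 := by
      rw [hy, hw]; group
    rw [smul_eq_mul, e]
    exact P.B.mul_mem (P.B.inv_mem hb2) hc2

end Cfsg.Agent.S0322
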