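import Cfsg.Statements.S0323

set_option autoImplicit false
open scoped Pointwise
open Cfsg

namespace Cfsg.Agent.S0323

/-- A doubly transitive action on a set with at least three points yields a (B,N)-pair of rank one:
`B` is the stabiliser of a point `x`, `N` the setwise stabiliser of a pair `{x, y}`. -/
theorem result {G Ω : Type*} [Group G] [MulAction G Ω]
    (h2 : MulAction.IsMultiplyPretransitive G Ω 2) {x y z : Ω} (hxy : x ≠ y) (hyz : y ≠ z) (hxz : x ≠ z) :
    ∃ P : Cfsg.BNPair G, P.B = MulAction.stabilizer G x ∧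
      P.N = MulAction.stabilizer G ({x, y} : Set Ω) ∧ P.rank = 1 := by
  have tw : ∀ {a b c d : Ω}, a ≠ b → c ≠ d → ∃ g : G, g • a = c ∧ g • b = d := by
    intro a b c d hab hcd
    exact (MulAction.is_two_pretransitive_iff (G := G) (α := Ω)).1 h2 hab hcd
  obtain ⟨s, hsx, hsy⟩ := tw hxy hxy.symm
  have memN : ∀ g : G, g ∈ MulAction.stabilizer G ({x, y} : Set Ω) ↔
      (g • x = x ∧ g • y = y) ∨ (g • x = y ∧ g • y = x) := by
    intro g
    rw [MulAction.mem_stabilizer_iff, Set.smul_set_insert, Set.smul_set_singleton,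
      Set.pair_eq_pair_iff]
  have hsN : s ∈ MulAction.stabilizer G ({x, y} : Set Ω) := (memN s).2 (Or.inr ⟨hsx, hsy⟩)
  -- key lemma
  have key : ∀ g n : G, g • x ≠ x → n • x ≠ x →
      g ∈ DoubleCoset.doubleCoset n (MulAction.stabilizer G x : Set G) (MulAction.stabilizer G x) := by
    intro g n hg hn
    obtain ⟨b, hbx, hbg⟩ := tw (Ne.symm hg) (Ne.symm hn)
    rw [DoubleCoset.mem_doubleCoset]
    refine ⟨b⁻¹, ?_, n⁻¹ * b * g, ?_, by group⟩
    · exact (MulAction.stabilizer G x).inv_mem (MulAction.mem_stabilizer_iff.2 hbx)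
    · rw [SetLike.mem_coe, MulAction.mem_stabilizer_iff, mul_smul, mul_smul, hbg, inv_smul_smul]
  have hfix : ∀ t : G, t • x = x → t ∈ MulAction.stabilizer G ({x, y} : Set Ω) → t • y = y := by
    intro t htx htN
    rcases (memN t).1 htN with h | h
    · exact h.2
    · exact absurd (htx.symm.trans h.1) hxy
  refine ⟨{ B := MulAction.stabilizer G x
            N := MulAction.stabilizer G ({x, y} : Set Ω)
            S := {s}
            sup_eq_top := ?_
            conj_mem := ?_
            subset := ?_
            sq_mem := ?_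
            inj := ?_
            closure_sup := ?_
            mul_mem_union := ?_
            conj_ne := ?_ }, rfl, rfl, ?_⟩
  · -- sup_eq_top
    rw [eq_top_iff]
    intro g _
    by_cases hg : g • x = x
    · exact (le_sup_left : MulAction.stabilizer G x ≤ _) (MulAction.mem_stabilizer_iff.2 hg)
    · have := key g s hg (by rw [hsx]; exact hxy.symm)
      obtain ⟨b, hb, b', hb', rfl⟩ := DoubleCoset.mem_doubleCoset.1 this
      exact Subgroup.mul_mem _ (Subgroup.mul_mem _ ((le_sup_left : MulAction.stabilizer G x ≤ _) hb)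
        ((le_sup_right : MulAction.stabilizer G ({x, y} : Set Ω) ≤ _) hsN))
        ((le_sup_left : MulAction.stabilizer G x ≤ _) hb')
  · -- conj_mem
    intro n hn t ht
    have htx : t • x = x := MulAction.mem_stabilizer_iff.1 ht.1
    have hty : t • y = y := hfix t htx ht.2
    have hn' : n⁻¹ ∈ MulAction.stabilizer G ({x, y} : Set Ω) := Subgroup.inv_mem _ hn
    rw [MulAction.mem_stabilizer_iff, mul_smul, mul_smul]
    rcases (memN n⁻¹).1 hn' with h | h
    · rw [h.1, htx]; exact (inv_smul_eq_iff.1 h.1).symm
    · rw [h.1, hty]; exact (inv_smul_eq_iff.1 h.1).symm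
  · -- subset
    intro s' hs'
    rw [Set.mem_singleton_iff] at hs'
    subst hs'
    exact hsN
  · -- sq_mem
    intro s' hs'
    rw [Set.mem_singleton_iff] at hs'
    subst hs'
    rw [MulAction.mem_stabilizer_iff, mul_smul, hsx, hsy]
  · -- inj
    intro s1 hs1 s2 hs2 _
    rw [Set.mem_singleton_iff] at hs1 hs2
    rw [hs1, hs2]
  · -- closure_sup
    apply le_antisymm
    · refine sup_le ?_ inf_le_right
      rw [Subgroup.closure_le]
      intro s' hs'
      rw [Set.mem_singleton_iff] at hs'
      subst hs'
      exact hsN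
    · intro n hn
      rcases (memN n).1 hn with h | h
      · exact (le_sup_right : _ ≤ Subgroup.closure {s} ⊔ _) ⟨MulAction.mem_stabilizer_iff.2 h.1, hn⟩
      · have e : n = s⁻¹ * (s * n) := by group
        rw [e]
        refine Subgroup.mul_mem _ ((le_sup_left : Subgroup.closure {s} ≤ _)
          (Subgroup.inv_mem _ (Subgroup.subset_closure rfl))) ((le_sup_right : _ ≤ Subgroup.closure {s} ⊔ _)
            ⟨(MulAction.mem_stabilizer_iff.2 ?_ : s * n ∈ MulAction.stabilizer G x), ?_⟩)
        · rw [mul_smul, h.1, hsy]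
        · exact Subgroup.mul_mem _ hsN hn
  · -- mul_mem_union
    intro s' hs' n hn b hb
    rw [Set.mem_singleton_iff] at hs'
    subst hs'
    have hbx : b • x = x := MulAction.mem_stabilizer_iff.1 hb
    rcases (memN n).1 hn with h | h
    · left
      rw [DoubleCoset.mem_doubleCoset]
      refine ⟨1, Subgroup.one_mem _, n⁻¹ * b * n, ?_, by group⟩
      rw [SetLike.mem_coe, MulAction.mem_stabilizer_iff, mul_smul, mul_smul, h.1, hbx, ← h.1,
        inv_smul_smul, h.1]
    · by_cases hby : b • y = y
      · left
        rw [DoubleCoset.mem_doubleCoset]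
        refine ⟨s' * b * n * (s' * n)⁻¹, ?_, 1, Subgroup.one_mem _, by group⟩
        have h1 : (s' * n)⁻¹ • x = x := by
          rw [inv_smul_eq_iff, mul_smul, h.1, hsy]
        rw [SetLike.mem_coe, MulAction.mem_stabilizer_iff, mul_smul, h1, mul_smul, mul_smul, h.1,
          hby, hsy]
      · right
        apply key
        · rw [mul_smul, mul_smul, h.1]
          intro hcon
          apply hby
          have : s' • (b • y) = s' • y := by rw [hcon, hsy]
          exact MulAction.injective s' this
        · rw [h.1]; exact hxy.symm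
  · -- conj_ne
    intro s' hs'
    rw [Set.mem_singleton_iff] at hs'
    subst hs'
    obtain ⟨b0, hb0x, hb0y⟩ := tw hxy hxz
    intro himg
    have hmem : s' * b0 * s' ∈ (fun b : G => s' * b * s') '' (MulAction.stabilizer G x : Set G) :=
      ⟨b0, MulAction.mem_stabilizer_iff.2 hb0x, rfl⟩
    rw [himg, SetLike.mem_coe, MulAction.mem_stabilizer_iff, mul_smul, mul_smul, hsx, hb0y] at hmem
    have : s' • z = s' • y := by rw [hmem, hsy]
    exact hyz (MulAction.injective s' this).symm
  · -- rank
    unfold Cfsg.BNPair.rank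
    simp

end Cfsg.Agent.S0323
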