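import Cfsg.Statements.S0338
import Mathlib
import Cfsg.Agent.Lib.Helper6.ZassFrob
import Cfsg.Agent.S0740

set_option autoImplicit false
open Cfsg Cfsg.Agent.Lib.Helper6 Cfsg.Agent.Lib.Helper1 MulAction

namespace Cfsg.Agent.S0338

theorem main0338 {G Ω : Type*} [Group G] [MulAction G Ω] [Fintype Ω]
    (hZ : Cfsg.IsZassenhausGroup G Ω) (hodd : Odd (Fintype.card Ω)) : IsSimpleGroup G := by
  classical
  haveI : Finite G := by
    apply Finite.of_injective (MulAction.toPermHom G Ω)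
    intro g h hgh
    apply hZ.1.eq_of_smul_eq_smul
    intro z
    exact congrArg (fun p : Equiv.Perm Ω => p z) hgh
  haveI : Nontrivial G := by
    obtain ⟨g, hg1, -⟩ := hZ.2.2.2.1
    exact ⟨⟨g, 1, hg1⟩⟩
  refine ⟨fun N hNn => ?_⟩
  by_cases hN : N = ⊥
  · left; exact hN
  right
  have hinvN : ∀ s : G, orderOf s = 2 → (∃ c : Ω, ∀ x : Ω, s • x = x ↔ x = c) → s ∈ N := by
    rintro s hs ⟨c, hc⟩
    obtain ⟨Kc, hKc⟩ := exists_zkernel hZ c
    apply (hKc.le_normal hZ N hN).1
    apply hKc.mem s ((hc c).2 rfl)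
    intro x hxc hsx
    exact hxc ((hc x).1 hsx)
  have hPa : ∀ a : Ω, stabilizer G a ≤ N := by
    intro a
    obtain ⟨b, hba, -⟩ := zass_exists_third hZ a a
    have hab : a ≠ b := Ne.symm hba
    obtain ⟨K, hK⟩ := exists_zkernel hZ a
    have hKN := (hK.le_normal hZ N hN).1
    obtain ⟨⟨t, ht2, htab, htba⟩, hfix, -⟩ := Cfsg.Agent.S0740.result hZ hab
    have hcard1 := (hfix t ht2 htab htba).1 hodd
    obtain ⟨c, hc⟩ : ∃ c : Ω, ∀ x : Ω, t • x = x ↔ x = c := by
      rw [Nat.card_eq_one_iff_unique] at hcard1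
      obtain ⟨hsub, ⟨c, hc⟩⟩ := hcard1
      refine ⟨c, fun x => ⟨fun hx => ?_, fun hx => ?_⟩⟩
      · have := @Subsingleton.elim _ hsub (⟨x, hx⟩ : fixedBy Ω t) ⟨c, hc⟩
        exact congrArg Subtype.val this
      · rw [hx]; exact hc
    have htt : t * t = 1 := by rw [← pow_two, ← ht2, pow_orderOf_eq_one]
    have htinv : t⁻¹ = t := inv_eq_of_mul_eq_one_right htt
    have htN : t ∈ N := hinvN t ht2 ⟨c, hc⟩
    have hca : c ≠ a := by
      intro h
      have := (hc a).2 h.symm
      rw [htab] at this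
      exact hba this
    have hcb : c ≠ b := by
      intro h
      have := (hc b).2 h.symm
      rw [htba] at this
      exact hab this
    intro g hg
    obtain ⟨k, hk, hga, hgb⟩ := hK.exists_factor hab g hg
    suffices hD : ∀ δ : G, δ • a = a → δ • b = b → δ ∈ N by
      have := N.mul_mem (hKN hk) (hD _ hga hgb)
      rwa [mul_inv_cancel_left] at this
    -- conjugation by `t` on the two point stabilizer
    have hnorm : ∀ δ : G, δ ∈ stabilizer G a ⊓ stabilizer G b →
        t * δ * t⁻¹ ∈ stabilizer G a ⊓ stabilizer G b := by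
      intro δ hδ
      rw [Subgroup.mem_inf] at hδ ⊢
      have h1 : δ • a = a := hδ.1
      have h2 : δ • b = b := hδ.2
      constructor
      · show (t * δ * t⁻¹) • a = a
        rw [htinv, mul_smul, mul_smul, htab, h2, htba]
      · show (t * δ * t⁻¹) • b = b
        rw [htinv, mul_smul, mul_smul, htba, h1, htab]
    let φ : (stabilizer G a ⊓ stabilizer G b : Subgroup G) →*
        (stabilizer G a ⊓ stabilizer G b : Subgroup G) :=
      MonoidHom.mk' (fun δ => ⟨t * δ.1 * t⁻¹, hnorm δ.1 δ.2⟩) (by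
        intro x y
        apply Subtype.ext
        show t * (x.1 * y.1) * t⁻¹ = (t * x.1 * t⁻¹) * (t * y.1 * t⁻¹)
        group)
    have hφ : ∀ δ, ((φ δ : (stabilizer G a ⊓ stabilizer G b : Subgroup G)) : G) = t * δ.1 * t⁻¹ :=
      fun δ => rfl
    have hfpf : MonoidHom.FixedPointFree φ := by
      intro δ hδ
      have h1 : t * δ.1 * t⁻¹ = δ.1 := by rw [← hφ, hδ]
      have h2 : t * δ.1 = δ.1 * t := by
        calc t * δ.1 = (t * δ.1 * t⁻¹) * t := by group
          _ = δ.1 * t := by rw [h1]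
      have h3 : t • (δ.1 • c) = δ.1 • c := by
        rw [← mul_smul, h2, mul_smul, (hc c).2 rfl]
      have h4 : δ.1 • c = c := (hc _).1 h3
      have hδ' := Subgroup.mem_inf.1 δ.2
      apply Subtype.ext
      exact hZ.2.2.1 δ.1 a b c hab (Ne.symm hcb) (Ne.symm hca) hδ'.1 hδ'.2 h4
    have hinv : Function.Involutive φ := by
      intro δ
      apply Subtype.ext
      rw [hφ, hφ, htinv]
      calc t * (t * δ.1 * t) * t = (t * t) * δ.1 * (t * t) := by group
        _ = δ.1 := by rw [htt, one_mul, mul_one]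
    have hodd' : Odd (Nat.card (stabilizer G a ⊓ stabilizer G b : Subgroup G)) :=
      hfpf.odd_card_of_involutive hinv
    have hinverts := hfpf.coe_eq_inv_of_involutive hinv
    intro δ hδa hδb
    have hδD : δ ∈ stabilizer G a ⊓ stabilizer G b := Subgroup.mem_inf.2 ⟨hδa, hδb⟩
    have h1 : t * δ * t⁻¹ = δ⁻¹ := by
      have := congrFun hinverts ⟨δ, hδD⟩
      exact congrArg Subtype.val this
    -- the conjugate involution
    have hs2 : orderOf (δ⁻¹ * t * δ⁻¹⁻¹) = 2 := by
      have := (MulAut.conj δ⁻¹).orderOf_eq t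
      rw [MulAut.conj_apply] at this
      rw [this, ht2]
    have hsN : δ⁻¹ * t * δ⁻¹⁻¹ ∈ N := by
      apply hinvN _ hs2
      refine ⟨δ⁻¹ • c, fun x => ?_⟩
      rw [mul_smul, mul_smul, inv_inv, inv_smul_eq_iff, hc, eq_inv_smul_iff]
    have hsq : δ⁻¹ * δ⁻¹ ∈ N := by
      have := N.mul_mem hsN (N.inv_mem htN)
      have e : δ⁻¹ * t * δ⁻¹⁻¹ * t⁻¹ = δ⁻¹ * (t * δ * t⁻¹) := by group
      rw [e, h1] at this
      exact this
    have hsq' : δ ^ 2 ∈ N := by
      have := N.inv_mem hsq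
      have e : (δ⁻¹ * δ⁻¹)⁻¹ = δ ^ 2 := by group
      rwa [e] at this
    have hoδ : Odd (orderOf δ) := by
      have hdvd : orderOf δ ∣ Nat.card (stabilizer G a ⊓ stabilizer G b : Subgroup G) := by
        have := orderOf_dvd_natCard (⟨δ, hδD⟩ : (stabilizer G a ⊓ stabilizer G b : Subgroup G))
        rwa [Subgroup.orderOf_mk] at this
      exact hodd'.of_dvd_nat hdvd
    obtain ⟨j, hj⟩ := hoδ
    have : δ = (δ ^ 2) ^ (j + 1) := by
      rw [← pow_mul]
      have e : 2 * (j + 1) = orderOf δ + 1 := by omega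
      rw [e, pow_succ, pow_orderOf_eq_one, one_mul]
    rw [this]
    exact N.pow_mem hsq' _
  rw [eq_top_iff]
  intro g _
  obtain ⟨a, -, -⟩ := zass_exists_three hZ
  obtain ⟨n, hn, hna⟩ := zass_normal_trans hZ N hN a (g • a)
  have : n⁻¹ * g ∈ N := by
    apply hPa a
    show (n⁻¹ * g) • a = a
    rw [mul_smul, inv_smul_eq_iff, hna]
  have := N.mul_mem hn this
  rwa [mul_inv_cancel_left] at this


/-- A Zassenhaus group of odd degree is a simple group. -/
theorem result {G Ω : Type*} [Group G] [MulAction G Ω] [Fintype Ω]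
    (hZ : Cfsg.IsZassenhausGroup G Ω) (hodd : Odd (Fintype.card Ω)) : IsSimpleGroup G := by
  exact main0338 hZ hodd

end Cfsg.Agent.S0338
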