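import Cfsg.Statements.S0339
import Mathlib
import Cfsg.Agent.Lib.Helper6.ZassFrob
import Cfsg.Agent.Lib.Helper6.RegNorm

set_option autoImplicit false
open Cfsg Cfsg.Agent.Lib.Helper6 Cfsg.Agent.Lib.Helper1 MulAction

namespace Cfsg.Agent.S0339

theorem main0339 {G Ω : Type*} [Group G] [MulAction G Ω] [Finite Ω]
    (hZ : Cfsg.IsZassenhausGroup G Ω) (N : Subgroup G) [hNn : N.Normal] (hN : N ≠ ⊥) :
    Cfsg.IsZassenhausGroup N Ω := by
  classical
  haveI : Finite G := by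
    apply Finite.of_injective (MulAction.toPermHom G Ω)
    intro g h hgh
    apply hZ.1.eq_of_smul_eq_smul
    intro z
    exact congrArg (fun p : Equiv.Perm Ω => p z) hgh
  haveI hfaith : FaithfulSMul G Ω := hZ.1
  -- double transitivity of `N`
  have h2 : ∀ a b c e : Ω, a ≠ b → c ≠ e → ∃ n ∈ N, n • a = c ∧ n • b = e := by
    intro a b c e hab hce
    obtain ⟨n₁, hn₁, hn₁a⟩ := zass_normal_trans hZ N hN a c
    obtain ⟨Kc, hKc⟩ := exists_zkernel hZ c
    have hKN := (hKc.le_normal hZ N hN).1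
    have hb' : n₁ • b ≠ c := by
      intro h
      rw [← hn₁a] at h
      exact hab (MulAction.injective _ h).symm
    obtain ⟨k, hk, hkb⟩ := hKc.trans (n₁ • b) e hb' (Ne.symm hce)
    refine ⟨k * n₁, N.mul_mem (hKN hk) hn₁, ?_, ?_⟩
    · rw [mul_smul, hn₁a]; exact hKc.le hk
    · rw [mul_smul, hkb]
  obtain ⟨a₀, b₀, -, hab₀, -, -⟩ := zass_exists_three hZ
  refine ⟨?_, ?_, ?_, ?_, ?_⟩
  · exact ⟨fun {n₁ n₂} h => Subtype.ext (hZ.1.eq_of_smul_eq_smul h)⟩
  · rw [is_two_pretransitive_iff]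
    intro a b c e hab hce
    obtain ⟨n, hn, h1, h2'⟩ := h2 a b c e hab hce
    exact ⟨⟨n, hn⟩, h1, h2'⟩
  · intro g a b c hab hbc hac ha hb hc
    apply Subtype.ext
    exact hZ.2.2.1 g.1 a b c hab hbc hac ha hb hc
  · obtain ⟨K, hK⟩ := exists_zkernel hZ a₀
    have h := (hK.le_normal hZ N hN).2
    obtain ⟨g, hg, hgK⟩ := SetLike.not_le_iff_exists.1 h
    obtain ⟨hgN, hga⟩ := Subgroup.mem_inf.1 hg
    have hga' : g • a₀ = a₀ := hga
    obtain ⟨c, hca, hgc⟩ : ∃ c, c ≠ a₀ ∧ g • c = c := by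
      by_contra hcon
      push Not at hcon
      exact hgK (hK.mem g hga hcon)
    refine ⟨⟨g, hgN⟩, ?_, a₀, c, Ne.symm hca, hga', hgc⟩
    intro h1
    apply hgK
    have : g = 1 := congrArg Subtype.val h1
    rw [this]; exact K.one_mem
  · intro M hMn hMt
    by_contra hcon
    push Not at hcon
    -- the image of `M` in `G`
    have hfree : ∀ m ∈ M.map N.subtype, ∀ x : Ω, m • x = x → m = 1 := by
      rintro _ ⟨m, hm, rfl⟩ x hx
      have hmem : (⟨m, hm⟩ : M) ∈ stabilizer M x := hx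
      rw [hcon x, Subgroup.mem_bot] at hmem
      have : m = 1 := congrArg Subtype.val hmem
      rw [this]; rfl
    have hreg : RegNormIn Ω N (M.map N.subtype) := by
      refine ⟨?_, ?_, ?_, hfree⟩
      · rintro _ ⟨m, -, rfl⟩
        exact m.2
      · rintro n hn _ ⟨m, hm, rfl⟩
        exact ⟨⟨n, hn⟩ * m * ⟨n, hn⟩⁻¹, hMn.conj_mem m hm ⟨n, hn⟩, rfl⟩
      · intro x y
        obtain ⟨m, hm⟩ := MulAction.exists_smul_eq M x y
        exact ⟨(m : N), ⟨m.1, m.2, rfl⟩, hm⟩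
    have hnorm : (M.map N.subtype).Normal := by
      constructor
      intro m hm g
      -- the conjugate subgroup
      have hreg' : RegNormIn Ω N ((M.map N.subtype).map (MulAut.conj g).toMonoidHom) := by
        refine ⟨?_, ?_, ?_, ?_⟩
        · rintro _ ⟨m', hm', rfl⟩
          exact hNn.conj_mem m' (hreg.1 hm') g
        · rintro n hn _ ⟨m', hm', rfl⟩
          refine ⟨(g⁻¹ * n * g) * m' * (g⁻¹ * n * g)⁻¹, ?_, ?_⟩
          · apply hreg.2.1 _ _ m' hm'
            have := hNn.conj_mem n hn g⁻¹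
            rwa [inv_inv] at this
          · show g * ((g⁻¹ * n * g) * m' * (g⁻¹ * n * g)⁻¹) * g⁻¹ = n * (g * m' * g⁻¹) * n⁻¹
            group
        · intro x y
          obtain ⟨m', hm', hxy⟩ := hreg.2.2.1 (g⁻¹ • x) (g⁻¹ • y)
          refine ⟨g * m' * g⁻¹, ⟨m', hm', rfl⟩, ?_⟩
          rw [mul_smul, mul_smul, hxy, smul_inv_smul]
        · rintro _ ⟨m', hm', rfl⟩ x hx
          have hx' : (g * m' * g⁻¹) • x = x := hx
          have : m' • (g⁻¹ • x) = g⁻¹ • x := by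
            rw [mul_smul, mul_smul] at hx'
            exact eq_inv_smul_iff.2 hx'
          have := hreg.2.2.2 m' hm' _ this
          show g * m' * g⁻¹ = 1
          rw [this]; group
      have := RegNormIn.unique h2 ⟨a₀, b₀, hab₀⟩ hreg' hreg
      rw [← this]
      exact ⟨m, hm, rfl⟩
    haveI : IsPretransitive (M.map N.subtype) Ω := by
      refine ⟨fun x y => ?_⟩
      obtain ⟨m, hm, hxy⟩ := hreg.2.2.1 x y
      exact ⟨⟨m, hm⟩, hxy⟩
    obtain ⟨c, hc⟩ := hZ.2.2.2.2 _ hnorm inferInstance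
    apply hc
    rw [eq_bot_iff]
    rintro ⟨m, hm⟩ hmc
    rw [Subgroup.mem_bot]
    apply Subtype.ext
    exact hfree m hm c hmc


/-- A non-trivial normal subgroup of a Zassenhaus group is itself a Zassenhaus group on the same set. -/
theorem result {G Ω : Type*} [Group G] [MulAction G Ω] [Finite Ω]
    (hZ : Cfsg.IsZassenhausGroup G Ω) (N : Subgroup G) [N.Normal] (hN : N ≠ ⊥) :
    Cfsg.IsZassenhausGroup N Ω := by
  exact main0339 hZ N hN

end Cfsg.Agent.S0339
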