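import Cfsg.Statements.S0341
import Mathlib
import Cfsg.Agent.Lib.Helper6.WeakZass
import Cfsg.Agent.Lib.Helper6.NFField
import Cfsg.Agent.S0683
import Cfsg.Agent.S0040

set_option autoImplicit false
open Cfsg Cfsg.Agent.Lib.Helper6 MulAction Cfsg.Agent.Lib.Helper1.NearFieldBasic

namespace Cfsg.Agent.S0341

/-- Artin's theorem applied to a field automorphism of prime order with fixed field `{0,1}` -/
theorem artin_step {F : Type*} [Field F] [Fintype F] (σ : RingAut F) (p : ℕ)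
    (hσp : orderOf σ = p)
    (hfix : ∀ x : F, σ x = x → x = 0 ∨ x = 1) : Fintype.card F = 2 ^ p := by
  classical
  haveI : Finite (RingAut F) :=
    Finite.of_injective (fun σ : F ≃+* F => (σ : F → F)) DFunLike.coe_injective
  letI : Fintype (RingAut F) := Fintype.ofFinite _
  have hmem : ∀ x : F, x ∈ FixedPoints.subfield (Subgroup.zpowers σ) F ↔ σ x = x := by
    intro x
    constructor
    · intro h
      exact h ⟨σ, Subgroup.mem_zpowers σ⟩
    · intro h
      rintro ⟨τ, hτ⟩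
      obtain ⟨k, rfl⟩ := Subgroup.mem_zpowers_iff.1 hτ
      show (σ ^ k) • x = x
      have h1 : σ ∈ MulAction.stabilizer (RingAut F) x := h
      exact Subgroup.zpow_mem _ h1 k
  have hcard0 : Fintype.card (FixedPoints.subfield (Subgroup.zpowers σ) F) = 2 := by
    rw [← Nat.card_eq_fintype_card, Nat.card_eq_two_iff]
    refine ⟨⟨0, zero_mem _⟩, ⟨1, one_mem _⟩, ?_, ?_⟩
    · intro h
      exact zero_ne_one (congrArg Subtype.val h)
    · rw [Set.eq_univ_iff_forall]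
      rintro ⟨x, hx⟩
      rcases hfix x ((hmem x).1 hx) with h | h
      · left; exact Subtype.ext h
      · right; exact Subtype.ext h
  have hfin := FixedPoints.finrank_eq_card (Subgroup.zpowers σ) F
  rw [Fintype.card_zpowers, hσp] at hfin
  rw [Module.card_eq_pow_finrank (K := FixedPoints.subfield (Subgroup.zpowers σ) F) (V := F),
    hcard0, hfin]

section grp
variable {G Ω : Type*} [Group G] [MulAction G Ω]

/-- data: weak Zassenhaus conditions, a regular normal subgroup and a kernel -/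
structure Setup (N : Subgroup G) (a₀ : Ω) (K : Subgroup G) : Prop where
  wz : IsWeakZass G Ω
  nN : N.Normal
  trans : ∀ x y : Ω, ∃ n ∈ N, n • x = y
  reg : ∀ n ∈ N, ∀ x : Ω, n • x = x → n = 1
  ker : ZKernel a₀ K

/-- the product `N K` -/
def Lsub (N K : Subgroup G) (hN : N.Normal) : Subgroup G where
  carrier := {g | ∃ n ∈ N, ∃ k ∈ K, g = n * k}
  one_mem' := ⟨1, N.one_mem, 1, K.one_mem, by simp⟩
  mul_mem' := by
    rintro _ _ ⟨n, hn, k, hk, rfl⟩ ⟨n', hn', k', hk', rfl⟩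
    refine ⟨n * (k * n' * k⁻¹), N.mul_mem hn (hN.conj_mem n' hn' k), k * k', K.mul_mem hk hk', ?_⟩
    group
  inv_mem' := by
    rintro _ ⟨n, hn, k, hk, rfl⟩
    refine ⟨k⁻¹ * n⁻¹ * k⁻¹⁻¹, hN.conj_mem n⁻¹ (N.inv_mem hn) k⁻¹, k⁻¹, K.inv_mem hk, ?_⟩
    group

variable {N K : Subgroup G} {a₀ : Ω}

theorem Setup.N_le (S : Setup N a₀ K) : N ≤ Lsub N K S.nN := by
  intro n hn
  exact ⟨n, hn, 1, K.one_mem, by simp⟩

theorem Setup.K_le (S : Setup N a₀ K) : K ≤ Lsub N K S.nN := by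
  intro k hk
  exact ⟨1, N.one_mem, k, hk, by simp⟩

theorem Setup.mem_K_of_fix (S : Setup N a₀ K) {g : G} (hg : g ∈ Lsub N K S.nN)
    (hga : g • a₀ = a₀) : g ∈ K := by
  obtain ⟨n, hn, k, hk, rfl⟩ := hg
  have hka : k • a₀ = a₀ := S.ker.le hk
  rw [mul_smul, hka] at hga
  rw [S.reg n hn a₀ hga, one_mul]
  exact hk

theorem Setup.eq_one_of_fix_two (S : Setup N a₀ K) {g : G} (hg : g ∈ Lsub N K S.nN)
    {x y : Ω} (hxy : x ≠ y) (hx : g • x = x) (hy : g • y = y) : g = 1 := by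
  obtain ⟨n, hn, hnx⟩ := S.trans x a₀
  have hg' : n * g * n⁻¹ ∈ Lsub N K S.nN :=
    (Lsub N K S.nN).mul_mem ((Lsub N K S.nN).mul_mem (S.N_le hn) hg)
      ((Lsub N K S.nN).inv_mem (S.N_le hn))
  have h1 : (n * g * n⁻¹) • a₀ = a₀ := by
    rw [mul_smul, mul_smul, ← hnx, inv_smul_smul, hx]
  have h2 : (n * g * n⁻¹) • (n • y) = n • y := by
    rw [mul_smul, mul_smul, inv_smul_smul, hy]
  have h3 : n • y ≠ a₀ := by
    rw [← hnx]
    intro h
    exact hxy (MulAction.injective n h).symm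
  have := S.ker.free _ (S.mem_K_of_fix hg' h1) (n • y) h3 h2
  have e : g = n⁻¹ * (n * g * n⁻¹) * n := by group
  rw [e, this]
  group

theorem Setup.exists_map (S : Setup N a₀ K) {x y x' y' : Ω} (hxy : x ≠ y) (hxy' : x' ≠ y') :
    ∃ g ∈ Lsub N K S.nN, g • x = x' ∧ g • y = y' := by
  obtain ⟨n, hn, hnx⟩ := S.trans x a₀
  obtain ⟨n', hn', hnx'⟩ := S.trans x' a₀
  have h3 : n • y ≠ a₀ := by
    rw [← hnx]
    intro h
    exact hxy (MulAction.injective n h).symm
  have h3' : n' • y' ≠ a₀ := by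
    rw [← hnx']
    intro h
    exact hxy' (MulAction.injective n' h).symm
  obtain ⟨k, hk, hky⟩ := S.ker.trans (n • y) (n' • y') h3 h3'
  refine ⟨n'⁻¹ * k * n, ?_, ?_, ?_⟩
  · exact (Lsub N K S.nN).mul_mem ((Lsub N K S.nN).mul_mem
      ((Lsub N K S.nN).inv_mem (S.N_le hn')) (S.K_le hk)) (S.N_le hn)
  · rw [mul_smul, mul_smul, hnx, S.ker.le hk, ← hnx', inv_smul_smul]
  · rw [mul_smul, mul_smul, hky, inv_smul_smul]

theorem Setup.L_normal (S : Setup N a₀ K) (h : G) {g : G} (hg : g ∈ Lsub N K S.nN) :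
    h * g * h⁻¹ ∈ Lsub N K S.nN := by
  obtain ⟨n, hn, k, hk, rfl⟩ := hg
  obtain ⟨n₁, hn₁, hn₁a⟩ := S.trans a₀ (h • a₀)
  have hh₁ : (n₁⁻¹ * h) • a₀ = a₀ := by
    rw [mul_smul, ← hn₁a, inv_smul_smul]
  have hk' : (n₁⁻¹ * h) * k * (n₁⁻¹ * h)⁻¹ ∈ K := S.ker.normal _ hh₁ k hk
  have e : h * (n * k) * h⁻¹ = (h * n * h⁻¹) * (n₁ * ((n₁⁻¹ * h) * k * (n₁⁻¹ * h)⁻¹) * n₁⁻¹) := by
    group
  rw [e]
  apply (Lsub N K S.nN).mul_mem (S.N_le (S.nN.conj_mem n hn h))
  exact (Lsub N K S.nN).mul_mem ((Lsub N K S.nN).mul_mem (S.N_le hn₁) (S.K_le hk'))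
    ((Lsub N K S.nN).inv_mem (S.N_le hn₁))

theorem Setup.card_N [Finite G] (S : Setup N a₀ K) : Nat.card N = Nat.card Ω := by
  apply Nat.card_congr
  refine Equiv.ofBijective (fun n : N => (n : G) • a₀) ⟨?_, ?_⟩
  · intro n n' h
    have h0 : (n : G) • a₀ = (n' : G) • a₀ := h
    have h1 : ((n'⁻¹ * n : N) : G) • a₀ = a₀ := by
      show ((n' : G)⁻¹ * (n : G)) • a₀ = a₀
      rw [mul_smul, h0, inv_smul_smul]
    have := S.reg _ (n'⁻¹ * n).2 a₀ h1
    have h2 : n'⁻¹ * n = 1 := Subtype.ext this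
    exact (inv_mul_eq_one.1 h2).symm
  · intro y
    obtain ⟨n, hn, hny⟩ := S.trans a₀ y
    exact ⟨⟨n, hn⟩, hny⟩

theorem Setup.card_K [Finite G] [Finite Ω] (S : Setup N a₀ K) :
    Nat.card K + 1 = Nat.card Ω := by
  classical
  obtain ⟨b₀, hb₀, -⟩ := wz_exists_third S.wz a₀ a₀
  have h1 : Nat.card K = Nat.card {c : Ω // c ≠ a₀} := by
    apply Nat.card_congr
    refine Equiv.ofBijective (fun k : K => (⟨(k : G) • b₀, ?_⟩ : {c : Ω // c ≠ a₀})) ⟨?_, ?_⟩
    · intro h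
      have hka : (k : G) • a₀ = a₀ := S.ker.le k.2
      rw [← hka] at h
      exact hb₀ (MulAction.injective _ h)
    · intro k k' h
      have h0 : (k : G) • b₀ = (k' : G) • b₀ := congrArg Subtype.val h
      have h1 : ((k'⁻¹ * k : K) : G) • b₀ = b₀ := by
        show ((k' : G)⁻¹ * (k : G)) • b₀ = b₀
        rw [mul_smul, h0, inv_smul_smul]
      have := S.ker.free _ (k'⁻¹ * k).2 b₀ hb₀ h1
      have h2 : k'⁻¹ * k = 1 := Subtype.ext this
      exact (inv_mul_eq_one.1 h2).symm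
    · rintro ⟨c, hc⟩
      obtain ⟨k, hk, hkc⟩ := S.ker.trans b₀ c hb₀ hc
      exact ⟨⟨k, hk⟩, Subtype.ext hkc⟩
  haveI : Fintype Ω := Fintype.ofFinite Ω
  rw [h1, Nat.card_eq_fintype_card, Nat.card_eq_fintype_card, Fintype.card_subtype_compl,
    Fintype.card_subtype_eq]
  have : 0 < Fintype.card Ω := Fintype.card_pos_iff.2 ⟨a₀⟩
  omega

theorem Setup.K_comm [Finite G] [Finite Ω] (S : Setup N a₀ K) (heven : Even (Nat.card N)) :
    ∀ k ∈ K, ∀ k' ∈ K, k * k' = k' * k := by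
  classical
  obtain ⟨L, hL⟩ : ∃ L : Subgroup G, L = Lsub N K S.nN := ⟨_, rfl⟩
  have hNL : N ≤ L := hL ▸ S.N_le
  have hKL : K ≤ L := hL ▸ S.K_le
  haveI hN'n : (N.subgroupOf L).Normal := S.nN.subgroupOf L
  have hodd : Odd (Nat.card K) := by
    have h1 := S.card_K
    have h2 := S.card_N
    rw [← h2] at h1
    obtain ⟨m, hm⟩ := heven
    have hpos : 0 < Nat.card N := Nat.card_pos
    refine ⟨m - 1, ?_⟩
    omega
  have hc : Subgroup.IsComplement' (N.subgroupOf L) (K.subgroupOf L) := by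
    apply Subgroup.isComplement'_of_disjoint_and_mul_eq_univ
    · rw [disjoint_iff, eq_bot_iff]
      rintro ⟨x, hxL⟩ ⟨hx1, hx2⟩
      rw [Subgroup.mem_bot]
      apply Subtype.ext
      have hxN : x ∈ N := hx1
      have hxK : x ∈ K := hx2
      exact S.reg x hxN a₀ (S.ker.le hxK)
    · rw [Set.eq_univ_iff_forall]
      rintro ⟨g, hg⟩
      have hg' := hg
      rw [hL] at hg'
      obtain ⟨n, hn, k, hk, hgnk⟩ := hg'
      refine ⟨⟨n, hNL hn⟩, hn, ⟨k, hKL hk⟩, hk, ?_⟩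
      exact Subtype.ext hgnk.symm
  have hNne : N.subgroupOf L ≠ ⊥ := by
    intro h
    obtain ⟨b₀, hb₀, -⟩ := wz_exists_third S.wz a₀ a₀
    obtain ⟨n, hn, hnb⟩ := S.trans a₀ b₀
    have : (⟨n, hNL hn⟩ : L) ∈ N.subgroupOf L := hn
    rw [h, Subgroup.mem_bot] at this
    have hn1 : n = 1 := congrArg Subtype.val this
    rw [hn1, one_smul] at hnb
    exact hb₀ hnb.symm
  have hfpf : ∀ h ∈ K.subgroupOf L, h ≠ 1 →
      N.subgroupOf L ⊓ Subgroup.centralizer {h} = ⊥ := by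
    rintro ⟨k, hkL⟩ hk hk1
    have hkK : k ∈ K := hk
    rw [eq_bot_iff]
    rintro ⟨n, hnL⟩ ⟨hn1, hn2⟩
    have hnN : n ∈ N := hn1
    rw [Subgroup.mem_bot]
    apply Subtype.ext
    show n = 1
    have hn2' : (⟨n, hnL⟩ : L) ∈ Subgroup.centralizer {(⟨k, hkL⟩ : L)} := hn2
    rw [Subgroup.mem_centralizer_singleton_iff] at hn2'
    have hcomm : n * k = k * n := congrArg Subtype.val hn2'
    have hfix : k • (n • a₀) = n • a₀ := by
      rw [← mul_smul, ← hcomm, mul_smul, S.ker.le hkK]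
    by_contra hn1'
    have hne : n • a₀ ≠ a₀ := fun h => hn1' (S.reg n hnN a₀ h)
    have := S.ker.free k hkK (n • a₀) hne hfix
    apply hk1
    exact Subtype.ext this
  have hcardK' : Nat.card (K.subgroupOf L) = Nat.card K :=
    Nat.card_congr (Subgroup.subgroupOfEquivOfLe hKL).toEquiv
  have hZ : IsZGroup (K.subgroupOf L) := by
    rw [isZGroup_iff]
    intro p hp P
    haveI : Fact p.Prime := ⟨hp⟩
    rcases Cfsg.Agent.S0040.result (N.subgroupOf L) (K.subgroupOf L) hc hNne hfpf p P with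
      h | ⟨n, ⟨e⟩⟩
    · exact h
    · exfalso
      have h1 : Nat.card P = 4 * 2 ^ n := by
        rw [Nat.card_congr e.toEquiv, Nat.card_eq_fintype_card, QuaternionGroup.card]
      have h2 : Nat.card P ∣ Nat.card (K.subgroupOf L) := Subgroup.card_subgroup_dvd_card _
      rw [h1, hcardK'] at h2
      have h3 : 2 ∣ Nat.card K := dvd_trans ⟨2 * 2 ^ n, by ring⟩ h2
      obtain ⟨m, hm⟩ := hodd
      omega
  haveI := hZ
  haveI : Group.IsNilpotent K := S.ker.nilp
  haveI : Group.IsNilpotent (K.subgroupOf L) :=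
    Group.nilpotent_of_mulEquiv (Subgroup.subgroupOfEquivOfLe hKL).symm
  have hcyc : IsCyclic (K.subgroupOf L) := inferInstance
  intro k hk k' hk'
  obtain ⟨g₀, hg₀⟩ := hcyc.exists_generator
  have hm : (⟨⟨k, hKL hk⟩, hk⟩ : K.subgroupOf L) ∈ Subgroup.zpowers g₀ := hg₀ _
  have hm' : (⟨⟨k', hKL hk'⟩, hk'⟩ : K.subgroupOf L) ∈ Subgroup.zpowers g₀ := hg₀ _
  obtain ⟨i, hi⟩ := Subgroup.mem_zpowers_iff.1 hm
  obtain ⟨j, hj⟩ := Subgroup.mem_zpowers_iff.1 hm'
  have e : (⟨⟨k, hKL hk⟩, hk⟩ : K.subgroupOf L) * ⟨⟨k', hKL hk'⟩, hk'⟩ =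
      ⟨⟨k', hKL hk'⟩, hk'⟩ * ⟨⟨k, hKL hk⟩, hk⟩ := by
    rw [← hi, ← hj, ← zpow_add, ← zpow_add, add_comm]
  exact congrArg (fun x : K.subgroupOf L => ((x : L) : G)) e

end grp

section core
variable {G Ω : Type*} [Group G] [MulAction G Ω]

theorem nf_fixed_point [Finite Ω] [NearField Ω] (m b : Ω) (hm : m ≠ 1) :
    ∃ x : Ω, x * m + b = x := by
  have hinj : Function.Injective (fun x : Ω => -(x * m) + x) := by
    intro x y h
    have h' : -(x * m) + x = -(y * m) + y := h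
    have h1 : y * m + (-(x * m) + x) = y := by
      rw [h', add_neg_cancel_left]
    have h2 : y * m - x * m = y - x := by
      rw [sub_eq_add_neg, eq_sub_iff_add_eq, add_assoc]
      exact h1
    rw [← nf_sub_mul] at h2
    by_contra hxy
    have hz : y - x ≠ 0 := fun h0 => hxy (sub_eq_zero.1 h0).symm
    obtain ⟨w, -, -, hw⟩ := nf_exists_inv hz
    apply hm
    have h3 : w * ((y - x) * m) = w * (y - x) := by rw [h2]
    rw [← mul_assoc, hw, one_mul] at h3
    exact h3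
  obtain ⟨x, hx⟩ := (Finite.injective_iff_surjective.1 hinj) b
  refine ⟨x, ?_⟩
  have hx' : -(x * m) + x = b := hx
  rw [← hx', add_neg_cancel_left]

theorem nf_core [Fintype Ω] [Finite G] [FaithfulSMul G Ω] [nf : NearField Ω] (N L : Subgroup G)
    (hNL : N ≤ L)
    (hNn : ∀ g : G, ∀ n ∈ N, g * n * g⁻¹ ∈ N) (hLn : ∀ g : G, ∀ l ∈ L, g * l * g⁻¹ ∈ L)
    (hreg : ∀ n ∈ N, ∀ x : Ω, n • x = x → n = 1) (htrans : ∀ x y : Ω, ∃ n ∈ N, n • x = y)
    (hmap : ∀ {x y x' y' : Ω}, x ≠ y → x' ≠ y' → ∃ g ∈ L, g • x = x' ∧ g • y = y')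
    (haff : ∀ g ∈ L, ∃ m b : Ω, m ≠ 0 ∧ ∀ x, g • x = x * m + b)
    (hcomm0 : ∀ g ∈ L, ∀ g' ∈ L, g • (0 : Ω) = 0 → g' • (0 : Ω) = 0 → g * g' = g' * g)
    (h3 : ∀ g : G, ∀ a b c : Ω, a ≠ b → b ≠ c → a ≠ c → g • a = a → g • b = b → g • c = c → g = 1)
    (d : G) (hd1 : d ≠ 1) (hd0 : d • (0 : Ω) = 0) (hd1' : d • (1 : Ω) = 1) :
    ∃ p : ℕ, p.Prime ∧ Fintype.card Ω = 2 ^ p := by
  classical
  have h01 : (0 : Ω) ≠ 1 := NearField.zero_ne_one
  -- translations
  have hT : ∀ n ∈ N, ∃ b : Ω, ∀ x, n • x = x + b := by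
    intro n hn
    obtain ⟨m, b, hm, hx⟩ := haff n (hNL hn)
    by_cases hm1 : m = 1
    · refine ⟨b, fun x => ?_⟩
      rw [hx, hm1, mul_one]
    · exfalso
      obtain ⟨x, hxx⟩ := nf_fixed_point m b hm1
      have hn1 : n = 1 := hreg n hn x (by rw [hx, hxx])
      have e0 := hx 0
      rw [hn1, one_smul, nf_zero_mul, zero_add] at e0
      have e1 := hx 1
      rw [hn1, one_smul, one_mul, ← e0, add_zero] at e1
      exact hm1 e1.symm
  have hT' : ∀ b : Ω, ∃ n ∈ N, ∀ x, n • x = x + b := by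
    intro b
    obtain ⟨n, hn, hnb⟩ := htrans 0 b
    obtain ⟨b', hb'⟩ := hT n hn
    have : b' = b := by
      have := hb' 0
      rw [hnb, zero_add] at this
      exact this.symm
    exact ⟨n, hn, fun x => by rw [hb', this]⟩
  -- multiplications
  have hM : ∀ g ∈ L, g • (0 : Ω) = 0 → ∃ m : Ω, m ≠ 0 ∧ ∀ x, g • x = x * m := by
    intro g hg hg0
    obtain ⟨m, b, hm, hx⟩ := haff g hg
    have hb : b = 0 := by
      have := hx 0
      rw [hg0, nf_zero_mul, zero_add] at this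
      exact this.symm
    exact ⟨m, hm, fun x => by rw [hx, hb, add_zero]⟩
  have hM' : ∀ m : Ω, m ≠ 0 → ∃ g ∈ L, g • (0 : Ω) = 0 ∧ ∀ x, g • x = x * m := by
    intro m hm
    obtain ⟨g, hg, hg0, hg1⟩ := hmap h01 (Ne.symm hm)
    obtain ⟨m', hm', hx⟩ := hM g hg hg0
    have : m' = m := by
      have := hx 1
      rw [hg1, one_mul] at this
      exact this.symm
    exact ⟨g, hg, hg0, fun x => by rw [hx, this]⟩
  -- commutativity
  have hc : ∀ a b : Ω, a * b = b * a := by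
    intro a b
    by_cases ha : a = 0
    · rw [ha, nf_zero_mul, NearField.mul_zero]
    by_cases hb : b = 0
    · rw [hb, nf_zero_mul, NearField.mul_zero]
    obtain ⟨ga, hga, hga0, hgax⟩ := hM' a ha
    obtain ⟨gb, hgb, hgb0, hgbx⟩ := hM' b hb
    have h := hcomm0 ga hga gb hgb hga0 hgb0
    have e1 : (ga * gb) • (1 : Ω) = b * a := by
      rw [mul_smul, hgbx, one_mul, hgax]
    have e2 : (gb * ga) • (1 : Ω) = a * b := by
      rw [mul_smul, hgax, one_mul, hgbx]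
    rw [h] at e1
    rw [← e1, ← e2]
  -- elements fixing 0 and 1 are automorphisms
  have hadd : ∀ g : G, g • (0 : Ω) = 0 → ∀ x b : Ω, g • (x + b) = g • x + g • b := by
    intro g hg0 x b
    obtain ⟨n, hn, hnx⟩ := hT' b
    obtain ⟨b'', hb''⟩ := hT (g * n * g⁻¹) (hNn g n hn)
    have hginv : g⁻¹ • (0 : Ω) = 0 := by rw [inv_smul_eq_iff, hg0]
    have e1 : b'' = g • b := by
      have := hb'' 0
      rw [mul_smul, mul_smul, hginv, hnx, zero_add, zero_add] at this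
      exact this.symm
    have e2 := hb'' (g • x)
    rw [mul_smul, mul_smul, inv_smul_smul, hnx, e1] at e2
    exact e2
  have hmul : ∀ g : G, g • (0 : Ω) = 0 → g • (1 : Ω) = 1 → ∀ x m : Ω,
      g • (x * m) = g • x * g • m := by
    intro g hg0 hg1 x m
    by_cases hm : m = 0
    · rw [hm, NearField.mul_zero, hg0, NearField.mul_zero]
    obtain ⟨k, hk, hk0, hkx⟩ := hM' m hm
    have hginv : g⁻¹ • (0 : Ω) = 0 := by rw [inv_smul_eq_iff, hg0]
    have hginv1 : g⁻¹ • (1 : Ω) = 1 := by rw [inv_smul_eq_iff, hg1]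
    have hk' : (g * k * g⁻¹) • (0 : Ω) = 0 := by
      rw [mul_smul, mul_smul, hginv, hk0, hg0]
    obtain ⟨m'', hm'', hx''⟩ := hM (g * k * g⁻¹) (hLn g k hk) hk'
    have e1 : m'' = g • m := by
      have := hx'' 1
      rw [mul_smul, mul_smul, hginv1, hkx, one_mul, one_mul] at this
      exact this.symm
    have e2 := hx'' (g • x)
    rw [mul_smul, mul_smul, inv_smul_smul, hkx, e1] at e2
    exact e2
  -- an element of prime order
  obtain ⟨p, hp, hpd⟩ := Nat.exists_prime_and_dvd (orderOf_eq_one_iff.not.2 hd1)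
  obtain ⟨d', hd'⟩ : ∃ d' : G, d' = d ^ (orderOf d / p) := ⟨_, rfl⟩
  have hd'ord : orderOf d' = p := by
    rw [hd']
    exact orderOf_pow_orderOf_div (orderOf_pos d).ne' hpd
  have hd'0 : d' • (0 : Ω) = 0 := by
    rw [hd']
    have h1 : d ∈ MulAction.stabilizer G (0 : Ω) := hd0
    exact Subgroup.pow_mem _ h1 _
  have hd'1 : d' • (1 : Ω) = 1 := by
    rw [hd']
    have h1 : d ∈ MulAction.stabilizer G (1 : Ω) := hd1'
    exact Subgroup.pow_mem _ h1 _
  have hd'ne : d' ≠ 1 := by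
    intro h
    rw [h, orderOf_one] at hd'ord
    exact hp.one_lt.ne hd'ord
  refine ⟨p, hp, ?_⟩
  letI fld : Field Ω := fieldOfNF nf hc
  let σ : RingAut Ω :=
    { toFun := fun x => d' • x
      invFun := fun x => d'⁻¹ • x
      left_inv := fun x => inv_smul_smul d' x
      right_inv := fun x => smul_inv_smul d' x
      map_mul' := fun x y => hmul d' hd'0 hd'1 x y
      map_add' := fun x y => hadd d' hd'0 x y }
  have hσ : ∀ x, σ x = d' • x := fun _ => rfl
  have hσpow : ∀ (k : ℕ) (x : Ω), (σ ^ k) x = d' ^ k • x := by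
    intro k
    induction k with
    | zero => intro x; simp
    | succ k ih =>
      intro x
      rw [pow_succ, pow_succ, RingAut.mul_apply, hσ, ih, ← mul_smul]
  have hσord : orderOf σ = p := by
    haveI : Fact p.Prime := ⟨hp⟩
    apply orderOf_eq_prime
    · ext x
      rw [hσpow, ← hd'ord, pow_orderOf_eq_one, one_smul]
      rfl
    · intro h
      apply hd'ne
      apply FaithfulSMul.eq_of_smul_eq_smul (α := Ω)
      intro x
      rw [one_smul, ← hσ, h]
      rfl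
  apply artin_step σ p hσord
  intro x hx
  by_contra hcon
  push Not at hcon
  exact hd'ne (h3 d' 0 1 x h01 (Ne.symm hcon.2) (Ne.symm hcon.1) hd'0 hd'1 hx)

end core

theorem main0341 {G Ω : Type*} [Group G]
    [MulAction G Ω] [Fintype Ω] [FaithfulSMul G Ω] (h2 : MulAction.IsMultiplyPretransitive G Ω 2)
    (h3 : ∀ g : G, ∀ a b c : Ω, a ≠ b → b ≠ c → a ≠ c → g • a = a → g • b = b → g • c = c → g = 1)
    (hfix : ∃ g : G, g ≠ 1 ∧ ∃ a b : Ω, a ≠ b ∧ g • a = a ∧ g • b = b)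
    (N : Subgroup G) [hNnormal : N.Normal] (hNt : MulAction.IsPretransitive N Ω)
    (hNr : ∀ a : Ω, MulAction.stabilizer N a = ⊥) :
    ∃ p : ℕ, p.Prime ∧ Fintype.card Ω = 2 ^ p := by
  classical
  have hwz : IsWeakZass G Ω := ⟨inferInstance, h2, h3, hfix, trivial⟩
  haveI : Finite G :=
    Finite.of_injective (MulAction.toPermHom G Ω) MulAction.toPerm_injective
  obtain ⟨x₀, y₀, z₀, hxy₀, -⟩ := wz_exists_three hwz
  obtain ⟨K, hK⟩ := wz_exists_zkernel hwz x₀
  have htrans : ∀ x y : Ω, ∃ n ∈ N, n • x = y := by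
    intro x y
    obtain ⟨n, hn⟩ := MulAction.exists_smul_eq N x y
    exact ⟨n.1, n.2, hn⟩
  have hreg : ∀ n ∈ N, ∀ x : Ω, n • x = x → n = 1 := by
    intro n hn x hx
    have : (⟨n, hn⟩ : N) ∈ MulAction.stabilizer N x := hx
    rw [hNr, Subgroup.mem_bot] at this
    exact congrArg Subtype.val this
  have S : Setup N x₀ K := ⟨hwz, hNnormal, htrans, hreg, hK⟩
  -- the order of N is even
  have heven : Even (Nat.card N) := by
    obtain ⟨g, hg1, a, b, hab, hga, hgb⟩ := hfix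
    obtain ⟨n, hn, hnab⟩ := htrans a b
    have hginv : g⁻¹ • a = a := by rw [inv_smul_eq_iff, hga]
    have h1 : g * n * g⁻¹ = n := by
      have hmem : g * n * g⁻¹ ∈ N := hNnormal.conj_mem n hn g
      have e : (n⁻¹ * (g * n * g⁻¹)) • a = a := by
        rw [mul_smul, mul_smul, mul_smul, hginv, hnab, hgb, ← hnab, inv_smul_smul]
      have := hreg _ (N.mul_mem (N.inv_mem hn) hmem) a e
      exact (inv_mul_eq_one.1 this).symm
    have hgn : g * n = n * g := by
      have : g * n = (g * n * g⁻¹) * g := by group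
      rw [this, h1]
    have hnb : n • b = a := by
      have hfixnb : g • (n • b) = n • b := by
        rw [← mul_smul, hgn, mul_smul, hgb]
      by_contra hne
      have hne2 : n • b ≠ b := by
        intro h
        have := hreg n hn b h
        rw [this, one_smul] at hnab
        exact hab hnab
      exact hg1 (h3 g a b (n • b) hab (Ne.symm hne2) (Ne.symm hne) hga hgb hfixnb)
    have hn2 : n * n = 1 := hreg _ (N.mul_mem hn hn) a (by rw [mul_smul, hnab, hnb])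
    have hn1 : n ≠ 1 := by
      rintro rfl
      rw [one_smul] at hnab
      exact hab hnab
    have hord : orderOf (⟨n, hn⟩ : N) = 2 := by
      haveI : Fact (Nat.Prime 2) := ⟨Nat.prime_two⟩
      apply orderOf_eq_prime
      · apply Subtype.ext
        show n ^ 2 = 1
        rw [pow_two, hn2]
      · intro h
        exact hn1 (congrArg Subtype.val h)
    rw [even_iff_two_dvd, ← hord]
    exact orderOf_dvd_natCard _
  have hKc := S.K_comm heven
  obtain ⟨L, hL⟩ : ∃ L : Subgroup G, L = Lsub N K S.nN := ⟨_, rfl⟩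
  obtain ⟨H₀, hH₀⟩ : ∃ H₀ : Subgroup (Equiv.Perm Ω), H₀ = L.map (MulAction.toPermHom G Ω) :=
    ⟨_, rfl⟩
  have hmemH : ∀ σ : Equiv.Perm Ω, σ ∈ H₀ ↔ ∃ g ∈ L, ∀ x, σ x = g • x := by
    intro σ
    rw [hH₀, Subgroup.mem_map]
    constructor
    · rintro ⟨g, hg, rfl⟩
      exact ⟨g, hg, fun x => rfl⟩
    · rintro ⟨g, hg, h⟩
      refine ⟨g, hg, ?_⟩
      ext x
      rw [h]
      rfl
  haveI : MulAction.IsMultiplyPretransitive H₀ Ω 2 := by
    rw [MulAction.is_two_pretransitive_iff]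
    intro a b c d hab hcd
    obtain ⟨g, hg, h1, h2⟩ := S.exists_map hab hcd
    refine ⟨⟨MulAction.toPermHom G Ω g, ?_⟩, h1, h2⟩
    rw [hH₀]
    exact Subgroup.mem_map_of_mem _ (hL ▸ hg)
  have hsharp : ∀ x : Fin 2 ↪ Ω, MulAction.stabilizer H₀ x = ⊥ := by
    intro x
    rw [eq_bot_iff]
    rintro ⟨σ, hσ⟩ hmem
    rw [MulAction.mem_stabilizer_iff] at hmem
    obtain ⟨g, hg, hgσ⟩ := (hmemH σ).1 hσ
    have h0 : g • x 0 = x 0 := by
      rw [← hgσ]
      exact DFunLike.congr_fun hmem 0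
    have h1 : g • x 1 = x 1 := by
      rw [← hgσ]
      exact DFunLike.congr_fun hmem 1
    have hne : x 0 ≠ x 1 := fun h => by
      have := x.injective h
      simp at this
    have hg1 := S.eq_one_of_fix_two (hL ▸ hg) hne h0 h1
    rw [Subgroup.mem_bot]
    apply Subtype.ext
    ext y
    show σ y = y
    rw [hgσ, hg1, one_smul]
  have hcard2 : 2 ≤ Fintype.card Ω :=
    Fintype.one_lt_card_iff_nontrivial.2 ⟨⟨x₀, y₀, hxy₀⟩⟩
  obtain ⟨nf, hH⟩ := Cfsg.Agent.S0683.result H₀ hsharp hcard2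
  -- the element fixing 0 and 1
  obtain ⟨g, hg1, a, b, hab, hga, hgb⟩ := hfix
  obtain ⟨h, hha, hhb⟩ := wz_exists_map hwz hab (NearField.zero_ne_one (F := Ω))
  have hhinv0 : h⁻¹ • (0 : Ω) = a := by rw [inv_smul_eq_iff, hha]
  have hhinv1 : h⁻¹ • (1 : Ω) = b := by rw [inv_smul_eq_iff, hhb]
  refine nf_core N L (hL ▸ S.N_le) (fun g n hn => hNnormal.conj_mem n hn g)
    (fun g l hl => by
      have hl' : l ∈ Lsub N K S.nN := hL ▸ hl
      have := S.L_normal g hl'
      rw [hL]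
      exact this) hreg htrans
    (fun {x y x' y'} hxy hxy' => by
      obtain ⟨g, hg, h1, h2⟩ := S.exists_map hxy hxy'
      exact ⟨g, hL ▸ hg, h1, h2⟩)
    (fun g hg => by
      have hmem : MulAction.toPermHom G Ω g ∈ H₀ := by
        rw [hH₀]
        exact Subgroup.mem_map_of_mem _ hg
      obtain ⟨m, b, hm, hx⟩ := (hH _).1 hmem
      exact ⟨m, b, hm, hx⟩)
    (fun g hg g' hg' hg0 hg0' => by
      obtain ⟨n, hn, hno⟩ := htrans x₀ (0 : Ω)
      have hnL : n ∈ Lsub N K S.nN := S.N_le hn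
      have hgL : g ∈ Lsub N K S.nN := hL ▸ hg
      have hgL' : g' ∈ Lsub N K S.nN := hL ▸ hg'
      have hninv : n⁻¹ • (0 : Ω) = x₀ := by rw [inv_smul_eq_iff, hno]
      have hk : n⁻¹ * g * n ∈ K := by
        apply S.mem_K_of_fix
        · exact (Lsub N K S.nN).mul_mem ((Lsub N K S.nN).mul_mem
            ((Lsub N K S.nN).inv_mem hnL) hgL) hnL
        · rw [mul_smul, mul_smul, hno, hg0, hninv]
      have hk' : n⁻¹ * g' * n ∈ K := by
        apply S.mem_K_of_fix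
        · exact (Lsub N K S.nN).mul_mem ((Lsub N K S.nN).mul_mem
            ((Lsub N K S.nN).inv_mem hnL) hgL') hnL
        · rw [mul_smul, mul_smul, hno, hg0', hninv]
      have hcomm := hKc _ hk _ hk'
      have e1 : g * g' = n * ((n⁻¹ * g * n) * (n⁻¹ * g' * n)) * n⁻¹ := by group
      have e2 : g' * g = n * ((n⁻¹ * g' * n) * (n⁻¹ * g * n)) * n⁻¹ := by group
      rw [e1, e2, hcomm])
    h3 (h * g * h⁻¹) ?_ ?_ ?_
  · intro hcon
    apply hg1
    have : g = h⁻¹ * (h * g * h⁻¹) * h := by group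
    rw [this, hcon]
    group
  · rw [mul_smul, mul_smul, hhinv0, hga, hha]
  · rw [mul_smul, mul_smul, hhinv1, hgb, hhb]


/-- If a finite group acts faithfully and doubly transitively, no non-identity element fixes three points, some
non-identity element fixes two points, and some normal subgroup acts regularly, then the number of points
is `2^p` with `p` prime. -/
theorem result {G Ω : Type*} [Group G]
    [MulAction G Ω] [Fintype Ω] [FaithfulSMul G Ω] (h2 : MulAction.IsMultiplyPretransitive G Ω 2)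
    (h3 : ∀ g : G, ∀ a b c : Ω, a ≠ b → b ≠ c → a ≠ c → g • a = a → g • b = b → g • c = c → g = 1)
    (hfix : ∃ g : G, g ≠ 1 ∧ ∃ a b : Ω, a ≠ b ∧ g • a = a ∧ g • b = b)
    (N : Subgroup G) [N.Normal] (hNt : MulAction.IsPretransitive N Ω)
    (hNr : ∀ a : Ω, MulAction.stabilizer N a = ⊥) :
    ∃ p : ℕ, p.Prime ∧ Fintype.card Ω = 2 ^ p := by
  exact main0341 h2 h3 hfix N hNt hNr

end Cfsg.Agent.S0341
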