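import Cfsg.Statements.S0355
import Cfsg.Agent.Lib.Lead.Steiner

set_option autoImplicit false
open Cfsg

namespace Cfsg.Agent.S0355

/-- In a Steiner system S(4, 7, 23), two distinct blocks intersect in 1 or 3 points. -/
theorem result {α : Type*} [Fintype α] [DecidableEq α] (hα : Fintype.card α = 23) {B : Set (Finset α)} (hB : Cfsg.IsSteinerSystem 4 7 B) {b c : Finset α} (hb : b ∈ B) (hc : c ∈ B) (hbc : b ≠ c) : (b ∩ c).card = 1 ∨ (b ∩ c).card = 3 := by
  classical
  have e0 := Cfsg.Agent.Lib.Lead.Steiner.inter_equations hB hb 0 (by norm_num)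
  have e1 := Cfsg.Agent.Lib.Lead.Steiner.inter_equations hB hb 1 (by norm_num)
  have e2 := Cfsg.Agent.Lib.Lead.Steiner.inter_equations hB hb 2 (by norm_num)
  have e3 := Cfsg.Agent.Lib.Lead.Steiner.inter_equations hB hb 3 (by norm_num)
  rw [hα] at e0 e1 e2 e3
  simp only [Finset.sum_range_succ, Finset.sum_range_zero] at e0 e1 e2 e3
  norm_num [Nat.choose] at e0 e1 e2 e3
  have hlt := Cfsg.Agent.Lib.Lead.Steiner.card_inter_lt hB hb hc hbc
  have h0 : Cfsg.Agent.Lib.Lead.Steiner.interCount B b 0 = 0 := by omega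
  have h2 : Cfsg.Agent.Lib.Lead.Steiner.interCount B b 2 = 0 := by omega
  have n0 := Cfsg.Agent.Lib.Lead.Steiner.card_inter_ne_of_interCount_eq_zero h0 hc hbc
  have n2 := Cfsg.Agent.Lib.Lead.Steiner.card_inter_ne_of_interCount_eq_zero h2 hc hbc
  omega

end Cfsg.Agent.S0355
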