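import Cfsg.Statements.S0357
import Cfsg.Agent.Lib.Lead.Steiner

set_option autoImplicit false
open Cfsg

namespace Cfsg.Agent.S0357

/-- In a Steiner system S(5, 6, 12), the complement of every block is again a block. -/
theorem result {α : Type*} [Fintype α] [DecidableEq α] (hα : Fintype.card α = 12) {B : Set (Finset α)} (hB : Cfsg.IsSteinerSystem 5 6 B) {b : Finset α} (hb : b ∈ B) : bᶜ ∈ B := by
  classical
  have e0 := Cfsg.Agent.Lib.Lead.Steiner.inter_equations hB hb 0 (by norm_num)
  have e1 := Cfsg.Agent.Lib.Lead.Steiner.inter_equations hB hb 1 (by norm_num)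
  have e2 := Cfsg.Agent.Lib.Lead.Steiner.inter_equations hB hb 2 (by norm_num)
  have e3 := Cfsg.Agent.Lib.Lead.Steiner.inter_equations hB hb 3 (by norm_num)
  have e4 := Cfsg.Agent.Lib.Lead.Steiner.inter_equations hB hb 4 (by norm_num)
  rw [hα] at e0 e1 e2 e3 e4
  simp only [Finset.sum_range_succ, Finset.sum_range_zero] at e0 e1 e2 e3 e4
  norm_num [Nat.choose] at e0 e1 e2 e3 e4
  have h0 : Cfsg.Agent.Lib.Lead.Steiner.interCount B b 0 = 1 := by omega
  have hbk : b.card = 6 := hB.1 b hb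
  rw [Cfsg.Agent.Lib.Lead.Steiner.interCount, Finset.card_eq_one] at h0
  obtain ⟨c, hc⟩ := h0
  have hcmem : c ∈ ((Cfsg.Agent.Lib.Lead.Steiner.blocks B).erase b).filter (fun c => (b ∩ c).card = 0) := by
    rw [hc]; exact Finset.mem_singleton_self c
  rw [Finset.mem_filter, Finset.mem_erase, Cfsg.Agent.Lib.Lead.Steiner.mem_blocks,
    Finset.card_eq_zero] at hcmem
  obtain ⟨⟨_, hcB⟩, hdis⟩ := hcmem
  have hck : c.card = 6 := hB.1 c hcB
  have hsub : c ⊆ bᶜ := by
    intro x hx
    rw [Finset.mem_compl]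
    intro hxb
    have : x ∈ b ∩ c := Finset.mem_inter.mpr ⟨hxb, hx⟩
    rw [hdis] at this
    exact absurd this (Finset.notMem_empty _)
  have hcard : bᶜ.card ≤ c.card := by
    rw [Finset.card_compl, hα, hbk, hck]
  have := Finset.eq_of_subset_of_card_le hsub hcard
  rw [← this]
  exact hcB

end Cfsg.Agent.S0357
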