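import Cfsg.Statements.S0365
import Mathlib
import Cfsg.Agent.Lib.Helper1.M23Simple

set_option autoImplicit false
open Cfsg

namespace Cfsg.Agent.S0365

open Cfsg Cfsg.Agent.Lib.Helper1


/-- The permutation group preserving the length-24 code is simple. -/
theorem result : IsSimpleGroup Cfsg.M24 := by
  haveI h2t := Cfsg.Agent.S0376.two_pretrans
  haveI : MulAction.IsPreprimitive M24 GolayPt := MulAction.isPreprimitive_of_is_two_pretransitive h2t
  haveI : FaithfulSMul M24 GolayPt := by
    constructor
    intro g1 g2 h
    apply Subtype.ext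
    apply Equiv.ext
    intro x
    exact h x
  haveI : Nontrivial M24 := by
    refine ⟨⟨⟨gA, H0_le_M24 gA_mem⟩, 1, fun h => gA_ne_one (congrArg Subtype.val h)⟩⟩
  apply isSimpleGroup_of_stabilizer (X := GolayPt) (gpt 23) (stabilizer_point_simple (gpt 23))
  have hdiv : ∀ N : Subgroup M24, N.Normal → N ≠ ⊥ → 2 ^ 3 * 3 ^ 1 ∣ Nat.card N := by
    intro N hN hbot
    haveI := hN
    have := card_dvd_card_of_normal_of_preprimitive (X := GolayPt) N hbot
    rw [card_golayPt_nat] at this
    exact this
  have := no_normal_of_card (G := M24) 2 3 3 1 (by norm_num) (by norm_num) (by norm_num) (by norm_num)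
    (by norm_num) hdiv
  intro N hN
  rw [card_golayPt_nat]
  exact this N hN

end Cfsg.Agent.S0365
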