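import Cfsg.Statements.S0371
import Mathlib
import Cfsg.Agent.Lib.Helper1.Golay

set_option autoImplicit false
open Cfsg

namespace Cfsg.Agent.S0371

open Cfsg.Agent.Lib.Helper1


/-- Multiplication by a nonzero square residue modulo 23, fixing the extra point, lies in the group of the length-24 code. -/
theorem result (u : (ZMod 23)ˣ) (hu : IsSquare u) : Equiv.optionCongr (Units.mulLeft u) ∈ Cfsg.M24 := by
  obtain ⟨s, hs⟩ := hu
  apply mem_M24_of_gens
  · intro t
    have : permWord (Equiv.optionCongr (Units.mulLeft u)) (Cfsg.qrWord t) =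
        Cfsg.qrWord ((u : ZMod 23) * t) := by
      funext p
      rw [permWord_apply]
      cases p with
      | none => rfl
      | some x =>
        have hsym : (Equiv.optionCongr (Units.mulLeft u)).symm (some x) =
            some (((u⁻¹ : (ZMod 23)ˣ) : ZMod 23) * x) := by
          rw [Equiv.symm_apply_eq]
          simp [Equiv.optionCongr_apply]
        rw [hsym]
        unfold Cfsg.qrWord
        simp only
        have hu1 : (u : ZMod 23) * ((u⁻¹ : (ZMod 23)ˣ) : ZMod 23) = 1 := by
          rw [← Units.val_mul, mul_inv_cancel, Units.val_one]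
        have hu2 : ((u⁻¹ : (ZMod 23)ˣ) : ZMod 23) * (u : ZMod 23) = 1 := by
          rw [← Units.val_mul, inv_mul_cancel, Units.val_one]
        have hus : (u : ZMod 23) = (s : ZMod 23) * (s : ZMod 23) := by
          rw [hs, Units.val_mul]
        have hs1 : (s : ZMod 23) * ((s⁻¹ : (ZMod 23)ˣ) : ZMod 23) = 1 := by
          rw [← Units.val_mul, mul_inv_cancel, Units.val_one]
        have hiff : (∃ r : ZMod 23, ((u⁻¹ : (ZMod 23)ˣ) : ZMod 23) * x = r ^ 2 + t) ↔
            (∃ r : ZMod 23, x = r ^ 2 + (u : ZMod 23) * t) := by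
          constructor
          · rintro ⟨r, hr⟩
            refine ⟨(s : ZMod 23) * r, ?_⟩
            have : x = (u : ZMod 23) * (((u⁻¹ : (ZMod 23)ˣ) : ZMod 23) * x) := by
              rw [← mul_assoc, hu1, one_mul]
            rw [this, hr, hus]; ring
          · rintro ⟨r, hr⟩
            refine ⟨((s⁻¹ : (ZMod 23)ˣ) : ZMod 23) * r, ?_⟩
            have hsi : ((u⁻¹ : (ZMod 23)ˣ) : ZMod 23) =
                ((s⁻¹ : (ZMod 23)ˣ) : ZMod 23) * ((s⁻¹ : (ZMod 23)ˣ) : ZMod 23) := by
              rw [hs, mul_inv_rev, Units.val_mul]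
            rw [hr, mul_add, ← mul_assoc, hu2, one_mul, hsi]; ring
        by_cases h : ∃ r : ZMod 23, ((u⁻¹ : (ZMod 23)ˣ) : ZMod 23) * x = r ^ 2 + t
        · rw [if_pos h, if_pos (hiff.1 h)]
        · rw [if_neg h, if_neg (fun h' => h (hiff.2 h'))]
    rw [this]
    exact Submodule.subset_span (Or.inl ⟨(u : ZMod 23) * t, rfl⟩)
  · have : permWord (Equiv.optionCongr (Units.mulLeft u)) 1 = 1 := by
      funext p
      rfl
    rw [this]
    exact Submodule.subset_span (Or.inr rfl)

end Cfsg.Agent.S0371
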