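import Cfsg.Statements.S0378
import Mathlib
import Cfsg.Agent.Lib.Helper1.M24Trans
import Cfsg.Agent.S0376

set_option autoImplicit false
open Cfsg

namespace Cfsg.Agent.S0378

open Cfsg Cfsg.Agent.Lib.Helper1


/-- A two-point stabiliser in the group of the length-24 code has order 443520 = 2^7·3^2·5·7·11. -/
theorem result (p q : Cfsg.GolayPt) (hpq : p ≠ q) : Nat.card ↥(MulAction.stabilizer Cfsg.M24 p ⊓ MulAction.stabilizer Cfsg.M24 q) = 443520 := by
  have h := card_eq_ncard_orbit_mul (G := M24) (X := GolayPt) (MulAction.stabilizer M24 p) q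
  rw [Cfsg.Agent.S0376.card_stab p] at h
  have horb : MulAction.orbit (MulAction.stabilizer M24 p) q = ({p} : Set GolayPt)ᶜ := by
    ext q'
    rw [mem_orbit_subgroup_iff, Set.mem_compl_iff, Set.mem_singleton_iff]
    constructor
    · rintro ⟨g, hg, rfl⟩ hgp
      rw [MulAction.mem_stabilizer_iff] at hg
      have : g • q = g • p := by rw [hgp, hg]
      exact hpq (smul_left_cancel g this).symm
    · intro hq'
      haveI := Cfsg.Agent.S0376.two_pretrans
      obtain ⟨g, hg1, hg2⟩ := (MulAction.is_two_pretransitive_iff (G := M24) (α := GolayPt)).1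
        inferInstance hpq (Ne.symm hq')
      exact ⟨g, MulAction.mem_stabilizer_iff.2 hg1, hg2⟩
  rw [horb, Set.ncard_compl, Set.ncard_singleton, Cfsg.Agent.S0376.card_pt] at h
  omega

end Cfsg.Agent.S0378
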