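import Cfsg.Statements.S0384
import Mathlib
import Cfsg.Agent.Lib.Helper1.M12Trans

set_option autoImplicit false
open scoped Pointwise
open Cfsg

namespace Cfsg.Agent.S0384

open Cfsg Cfsg.Agent.Lib.Helper1
open scoped Pointwise


/-- A dodecad stabiliser is sharply 5-transitive on the dodecad. -/
theorem result (d : Finset Cfsg.GolayPt) (hd : d ∈ Cfsg.dodecads) (x y : Fin 5 ↪ Cfsg.GolayPt) (hx : ∀ i, x i ∈ d) (hy : ∀ i, y i ∈ d) : ∃! g : MulAction.stabilizer Cfsg.M24 d, ∀ i, ((g : Cfsg.M24) : Equiv.Perm Cfsg.GolayPt) (x i) = y i := by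
  obtain ⟨⟨g, hg, hgd, hgx⟩, huniq⟩ := dodecad_sharp5 d hd x y hx hy
  have hstab : (⟨g, hg⟩ : M24) ∈ MulAction.stabilizer M24 d := by
    rw [MulAction.mem_stabilizer_iff]
    exact hgd
  refine ⟨⟨⟨g, hg⟩, hstab⟩, hgx, ?_⟩
  intro g' hg'
  have h1 : ((g' : M24) : Equiv.Perm GolayPt) • d = d := MulAction.mem_stabilizer_iff.1 g'.2
  have hk : g⁻¹ * ((g' : M24) : Equiv.Perm GolayPt) = 1 := by
    apply huniq
    · exact mul_mem (inv_mem hg) (g' : M24).2
    · rw [mul_smul, h1]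
      rw [inv_smul_eq_iff, hgd]
    · intro i
      rw [Equiv.Perm.mul_apply, hg' i, Equiv.Perm.inv_eq_iff_eq, hgx i]
  apply Subtype.ext
  apply Subtype.ext
  show ((g' : M24) : Equiv.Perm GolayPt) = g
  rw [inv_mul_eq_one] at hk
  exact hk.symm

end Cfsg.Agent.S0384
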