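import Cfsg.Statements.S0385
import Mathlib
import Cfsg.Agent.Lib.Helper1.Leech2
import Cfsg.Agent.S0363

set_option autoImplicit false
open Cfsg

namespace Cfsg.Agent.S0385

open Cfsg Cfsg.Agent.Lib.Helper1

theorem card_inter_eq_six {o d : Finset GolayPt} (ho : o ∈ octads) (hd : d ∈ dodecads)
    (h5 : 5 ≤ (o ∩ d).card) : (o ∩ d).card = 6 := by
  classical
  obtain ⟨⟨u, hu, rfl⟩, hcu⟩ := ho
  obtain ⟨⟨v, hv, rfl⟩, hcv⟩ := hd
  have h1 := card_support₂_add u v
  have h2 := Cfsg.Agent.S0359.result (u + v) (Submodule.add_mem _ hu hv)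
  have h2' : hammingNorm (u + v) = (support₂ (u + v)).card := rfl
  rw [h2'] at h2
  have h3 : (support₂ u ∩ support₂ v).card ≤ (support₂ u).card :=
    Finset.card_le_card Finset.inter_subset_left
  rw [hcu, hcv] at h1
  rw [hcu] at h3
  omega


/-- The 6-point intersections of octads with a fixed dodecad form a Steiner system S(5, 6, 12) on the dodecad. -/
theorem result (d : Finset Cfsg.GolayPt) (hd : d ∈ Cfsg.dodecads) : Cfsg.IsSteinerSystem 5 6 {h : Finset {p : Cfsg.GolayPt // p ∈ d} | ∃ o ∈ Cfsg.octads, (o ∩ d).card = 6 ∧ h = Finset.subtype (fun p => p ∈ d) o} := by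
  classical
  constructor
  · rintro b ⟨o, ho, h6, rfl⟩
    rw [Finset.card_subtype, Finset.filter_mem_eq_inter]
    exact h6
  · intro s hs
    set s' : Finset GolayPt := s.map (Function.Embedding.subtype _) with hs'
    have hs'card : s'.card = 5 := by rw [hs', Finset.card_map]; exact hs
    have hs'd : s' ⊆ d := by
      intro x hx
      obtain ⟨y, _, rfl⟩ := Finset.mem_map.1 hx
      exact y.2
    obtain ⟨o, ⟨ho, hso⟩, huniq⟩ := Cfsg.Agent.S0363.result.2 s' hs'card
    have h5 : 5 ≤ (o ∩ d).card := by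
      rw [← hs'card]
      exact Finset.card_le_card (Finset.subset_inter hso hs'd)
    have h6 := card_inter_eq_six ho hd h5
    refine ⟨Finset.subtype (fun p => p ∈ d) o, ⟨⟨o, ho, h6, rfl⟩, ?_⟩, ?_⟩
    · intro x hx
      rw [Finset.mem_subtype]
      apply hso
      rw [hs']
      exact Finset.mem_map_of_mem _ hx
    · rintro b' ⟨⟨o', ho', h6', rfl⟩, hsb'⟩
      have : o' = o := by
        apply huniq
        refine ⟨ho', ?_⟩
        intro x hx
        obtain ⟨y, hy, rfl⟩ := Finset.mem_map.1 hx
        have := hsb' hy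
        rw [Finset.mem_subtype] at this
        exact this
      rw [this]

end Cfsg.Agent.S0385
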