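import Cfsg.Statements.S0419
import Mathlib
import Cfsg.Agent.Lib.Helper1.Sharp2

set_option autoImplicit false
open Cfsg

namespace Cfsg.Agent.S0419

open Cfsg.Agent.Lib.Helper1


/-- A sharply 5-transitive group of degree 12 is simple of order 95040. -/
theorem result {α : Type*} [Fintype α] [DecidableEq α] (hα : Fintype.card α = 12) (G : Subgroup (Equiv.Perm α)) [MulAction.IsMultiplyPretransitive G α 5] (hsharp : ∀ x : Fin 5 ↪ α, MulAction.stabilizer G x = ⊥) : Cfsg.IsM12 G := by
  have hα' : Nat.card α = 12 := by rw [Nat.card_eq_fintype_card, hα]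
  have hcard : Nat.card G = 95040 := by
    rw [card_of_sharp (G := G) (α := α) 5 (by rw [hα']; norm_num) hsharp,
      Nat.card_eq_fintype_card, Fintype.card_embedding_eq, Fintype.card_fin, hα]
    decide
  haveI : MulAction.IsMultiplyPretransitive G α 2 :=
    MulAction.isMultiplyPretransitive_of_le (G := G) (α := α) (m := 2) (n := 5) (by norm_num)
      (by rw [hα']; norm_num)
  exact ⟨simple_of_card_95040 hα G hcard, hcard⟩

end Cfsg.Agent.S0419
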