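import Mathlib
import Cfsg.Statements.S0427
import Cfsg.Agent.Lib.Lead.Steiner
import Cfsg.Agent.S0356

set_option autoImplicit false

open Cfsg

namespace Cfsg.Agent.S0427

open Finset Cfsg.Agent.Lib.Lead.Steiner

section counting

variable {α : Type*} [Fintype α] [DecidableEq α]

omit [Fintype α] in
lemma sum_inter_mul (Bk : Finset (Finset α)) (b c : Finset α) :
    ∑ d ∈ Bk, (b ∩ d).card * (c ∩ d).card =
      ∑ p ∈ b, ∑ q ∈ c, (Bk.filter (fun d => p ∈ d ∧ q ∈ d)).card := by
  have h1 : ∀ d : Finset α, (b ∩ d).card * (c ∩ d).card =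
      ∑ p ∈ b, ∑ q ∈ c, if (p ∈ d ∧ q ∈ d) then 1 else 0 := by
    intro d
    rw [← Finset.filter_mem_eq_inter, ← Finset.filter_mem_eq_inter, Finset.card_filter,
      Finset.card_filter, Finset.sum_mul_sum]
    apply Finset.sum_congr rfl; intro p _; apply Finset.sum_congr rfl; intro q _
    by_cases hp : p ∈ d <;> by_cases hq : q ∈ d <;> simp [hp, hq]
  simp_rw [h1]
  rw [Finset.sum_comm]
  apply Finset.sum_congr rfl; intro p _
  rw [Finset.sum_comm]
  apply Finset.sum_congr rfl; intro q _
  rw [Finset.card_filter]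

variable (hα : Fintype.card α = 22) {B : Set (Finset α)} (hB : Cfsg.IsSteinerSystem 3 6 B)

include hα hB

lemma card_blocks : (blocks B).card = 77 := by
  have h := card_blocks_superset hB ∅ (by simp)
  simp only [Finset.card_empty, Nat.sub_zero, Finset.empty_subset, Finset.filter_true, hα] at h
  norm_num [Nat.choose] at h
  omega

lemma card_through_point (p : α) : ((blocks B).filter (fun d => p ∈ d)).card = 21 := by
  have h := card_blocks_superset hB {p} (by simp)
  simp only [Finset.card_singleton, Finset.singleton_subset_iff, hα] at h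
  norm_num [Nat.choose] at h
  omega

lemma card_through_pair {p q : α} (hpq : p ≠ q) :
    ((blocks B).filter (fun d => p ∈ d ∧ q ∈ d)).card = 5 := by
  have h := card_blocks_superset hB {p, q} (by rw [Finset.card_pair hpq]; norm_num)
  simp only [Finset.card_pair hpq, Finset.insert_subset_iff, Finset.singleton_subset_iff, hα] at h
  norm_num [Nat.choose] at h
  omega

lemma sum_inter_mul_eval {b c : Finset α} (hb : b ∈ B) (hc : c ∈ B) :
    ∑ d ∈ blocks B, (b ∩ d).card * (c ∩ d).card = 180 + 16 * (b ∩ c).card := by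
  rw [sum_inter_mul]
  have h1 : ∀ p ∈ b, ∀ q ∈ c, ((blocks B).filter (fun d => p ∈ d ∧ q ∈ d)).card =
      5 + (if p = q then 16 else 0) := by
    intro p _ q _
    by_cases hpq : p = q
    · subst hpq
      simp only [and_self, if_true]
      exact card_through_point hα hB p
    · rw [if_neg hpq, card_through_pair hα hB hpq]
  rw [Finset.sum_congr rfl (fun p hp => Finset.sum_congr rfl (fun q hq => h1 p hp q hq))]
  simp only [Finset.sum_add_distrib, Finset.sum_const, smul_eq_mul, Finset.sum_ite_eq, hB.1 b hb,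
    hB.1 c hc]
  rw [← Finset.sum_filter, Finset.sum_const, Finset.filter_mem_eq_inter, smul_eq_mul]
  ring

lemma inter_zero_or_two {b c : Finset α} (hb : b ∈ B) (hc : c ∈ B) (hbc : b ≠ c) :
    (b ∩ c).card = 0 ∨ (b ∩ c).card = 2 :=
  Cfsg.Agent.S0356.result hα hB hb hc hbc

lemma sum_inter_erase {b : Finset α} (hb : b ∈ B) :
    ∑ d ∈ (blocks B).erase b, (b ∩ d).card = 120 := by
  have h := sum_inter_mul_eval hα hB hb hb
  rw [← Finset.add_sum_erase _ _ (mem_blocks.mpr hb), Finset.inter_self, hB.1 b hb] at h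
  have h2 : ∀ d ∈ (blocks B).erase b, (b ∩ d).card * (b ∩ d).card = 2 * (b ∩ d).card := by
    intro d hd
    rw [Finset.mem_erase, mem_blocks] at hd
    rcases inter_zero_or_two hα hB hb hd.2 (Ne.symm hd.1) with h0 | h0 <;> rw [h0]
  rw [Finset.sum_congr rfl h2, ← Finset.mul_sum] at h
  omega

/-- the number of blocks disjoint from two distinct blocks -/
lemma card_disjoint_both {b c : Finset α} (hb : b ∈ B) (hc : c ∈ B) (hbc : b ≠ c) :
    ((((blocks B).erase b).erase c).filter
      (fun d => (b ∩ d).card = 0 ∧ (c ∩ d).card = 0)).card = 2 * (b ∩ c).card := by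
  set D' := ((blocks B).erase b).erase c with hD'
  have hcmem : c ∈ (blocks B).erase b := Finset.mem_erase.mpr ⟨Ne.symm hbc, mem_blocks.mpr hc⟩
  have hbmem : b ∈ (blocks B).erase c := Finset.mem_erase.mpr ⟨hbc, mem_blocks.mpr hb⟩
  have hD'card : D'.card = 75 := by
    rw [hD', Finset.card_erase_of_mem hcmem, Finset.card_erase_of_mem (mem_blocks.mpr hb),
      card_blocks hα hB]
  -- pointwise identity
  have hpt : ∀ d ∈ D', 4 * (if ((b ∩ d).card = 0 ∧ (c ∩ d).card = 0) then 1 else 0) +
      2 * (b ∩ d).card + 2 * (c ∩ d).card = 4 + (b ∩ d).card * (c ∩ d).card := by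
    intro d hd
    rw [hD', Finset.mem_erase, Finset.mem_erase, mem_blocks] at hd
    rcases inter_zero_or_two hα hB hb hd.2.2 (Ne.symm hd.2.1) with h0 | h0 <;>
    rcases inter_zero_or_two hα hB hc hd.2.2 (Ne.symm hd.1) with h1 | h1 <;>
    simp [h0, h1]
  have hsum := Finset.sum_congr (rfl : D' = D') hpt
  simp only [Finset.sum_add_distrib, ← Finset.mul_sum, Finset.sum_const, smul_eq_mul,
    Finset.sum_boole] at hsum
  -- the sums
  have hsb : ∑ d ∈ D', (b ∩ d).card = 120 - (b ∩ c).card := by
    have h := sum_inter_erase hα hB hb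
    rw [← Finset.add_sum_erase _ _ hcmem] at h
    rw [hD']
    omega
  have hsc : ∑ d ∈ D', (c ∩ d).card = 120 - (b ∩ c).card := by
    have h := sum_inter_erase hα hB hc
    rw [← Finset.add_sum_erase _ _ hbmem, Finset.inter_comm c b] at h
    have : ((blocks B).erase c).erase b = D' := by
      rw [hD']; exact Finset.erase_right_comm
    rw [this] at h
    omega
  have hle : (b ∩ c).card ≤ 6 := by
    have := Finset.card_le_card (Finset.inter_subset_left : b ∩ c ⊆ b)
    rw [hB.1 b hb] at this
    exact this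
  have hsbc : ∑ d ∈ D', (b ∩ d).card * (c ∩ d).card = 180 + 4 * (b ∩ c).card := by
    have h := sum_inter_mul_eval hα hB hb hc
    rw [← Finset.add_sum_erase _ _ (mem_blocks.mpr hb), ← Finset.add_sum_erase _ _ hcmem,
      Finset.inter_self, Finset.inter_self, hB.1 b hb, hB.1 c hc, Finset.inter_comm c b] at h
    rw [hD']
    omega
  rw [hsb, hsc, hsbc, hD'card] at hsum
  simp only [Nat.cast_id] at hsum
  omega

/-- the number of blocks disjoint from a block -/
lemma card_disjoint_one {b : Finset α} (hb : b ∈ B) :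
    (((blocks B).erase b).filter (fun d => (b ∩ d).card = 0)).card = 16 := by
  have hpt : ∀ d ∈ (blocks B).erase b, 2 * (if (b ∩ d).card = 0 then 1 else 0) + (b ∩ d).card = 2 := by
    intro d hd
    rw [Finset.mem_erase, mem_blocks] at hd
    rcases inter_zero_or_two hα hB hb hd.2 (Ne.symm hd.1) with h0 | h0 <;> simp [h0]
  have hsum := Finset.sum_congr (rfl : (blocks B).erase b = (blocks B).erase b) hpt
  simp only [Finset.sum_add_distrib, ← Finset.mul_sum, Finset.sum_const, smul_eq_mul,
    Finset.sum_boole] at hsum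
  rw [sum_inter_erase hα hB hb, Finset.card_erase_of_mem (mem_blocks.mpr hb), card_blocks hα hB] at hsum
  simp only [Nat.cast_id] at hsum
  omega

end counting


lemma natcard_set {α : Type*} [Fintype α] [DecidableEq α] {B : Set (Finset α)}
    (P : Finset α → Prop) [DecidablePred P]
    (s : Set ↥B) (hs : ∀ x : ↥B, x ∈ s ↔ P x.val) :
    Nat.card s = ((blocks B).filter P).card := by
  rw [← Fintype.card_coe, ← Nat.card_eq_fintype_card]
  apply Nat.card_congr
  exact {
    toFun := fun x => ⟨x.1.1, Finset.mem_filter.mpr ⟨mem_blocks.mpr x.1.2, (hs _).mp x.2⟩⟩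
    invFun := fun c => ⟨⟨c.1, mem_blocks.mp (Finset.mem_filter.mp c.2).1⟩,
      (hs _).mpr (Finset.mem_filter.mp c.2).2⟩
    left_inv := fun x => rfl
    right_inv := fun c => rfl }

lemma adj_iff {α : Type*} [DecidableEq α] {B : Set (Finset α)} (v x : ↥B) :
    (Cfsg.blockGraph B).Adj v x ↔ (x.val ≠ v.val ∧ (v.val ∩ x.val).card = 0) := by
  unfold Cfsg.blockGraph
  rw [SimpleGraph.fromRel_adj, Finset.card_eq_zero, ← Finset.disjoint_iff_inter_eq_empty]
  constructor
  · rintro ⟨hne, h | h⟩
    · exact ⟨fun h' => hne (Subtype.ext h'.symm), h⟩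
    · exact ⟨fun h' => hne (Subtype.ext h'.symm), h.symm⟩
  · rintro ⟨hne, h⟩
    exact ⟨fun h' => hne (congrArg Subtype.val h'.symm), Or.inl h⟩

theorem result {α : Type*} [Fintype α] (hα : Fintype.card α = 22) {B : Set (Finset α)} (hB : Cfsg.IsSteinerSystem 3 6 B) [Fintype B] [DecidableRel (Cfsg.blockGraph B).Adj] : (Cfsg.blockGraph B).IsSRGWith 77 16 0 4 := by
  classical
  refine ⟨?_, ?_, ?_, ?_⟩
  · rw [← Nat.card_eq_fintype_card,
      Nat.card_congr (Equiv.subtypeEquivRight (fun c => (mem_blocks (B := B) (b := c)).symm)),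
      Nat.card_eq_fintype_card, Fintype.card_coe]
    exact card_blocks hα hB
  · intro v
    rw [← SimpleGraph.card_neighborSet_eq_degree, ← Nat.card_eq_fintype_card,
      natcard_set (fun d => d ≠ v.val ∧ (v.val ∩ d).card = 0) _ (fun x => by
        rw [SimpleGraph.mem_neighborSet]; exact adj_iff v x)]
    have : (blocks B).filter (fun d => d ≠ v.val ∧ (v.val ∩ d).card = 0) =
        ((blocks B).erase v.val).filter (fun d => (v.val ∩ d).card = 0) := by
      ext d
      simp only [Finset.mem_filter, Finset.mem_erase]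
      tauto
    rw [this]
    exact card_disjoint_one hα hB v.2
  · intro v w hvw
    have hvw' := (adj_iff v w).mp hvw
    rw [← Nat.card_eq_fintype_card,
      natcard_set (fun d => (d ≠ v.val ∧ (v.val ∩ d).card = 0) ∧ (d ≠ w.val ∧ (w.val ∩ d).card = 0)) _
        (fun x => by
          rw [SimpleGraph.mem_commonNeighbors]
          exact and_congr (adj_iff v x) (adj_iff w x))]
    have : (blocks B).filter (fun d => (d ≠ v.val ∧ (v.val ∩ d).card = 0) ∧
        (d ≠ w.val ∧ (w.val ∩ d).card = 0)) =
        (((blocks B).erase v.val).erase w.val).filter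
          (fun d => (v.val ∩ d).card = 0 ∧ (w.val ∩ d).card = 0) := by
      ext d
      simp only [Finset.mem_filter, Finset.mem_erase]
      tauto
    rw [this, card_disjoint_both hα hB v.2 w.2 (Ne.symm hvw'.1), hvw'.2]
  · intro v w hne hnadj
    have hne' : v.val ≠ w.val := fun h => hne (Subtype.ext h)
    have hcard : (v.val ∩ w.val).card = 2 := by
      rcases inter_zero_or_two hα hB v.2 w.2 hne' with h0 | h0
      · exact absurd ((adj_iff v w).mpr ⟨Ne.symm hne', h0⟩) hnadj
      · exact h0
    rw [← Nat.card_eq_fintype_card,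
      natcard_set (fun d => (d ≠ v.val ∧ (v.val ∩ d).card = 0) ∧ (d ≠ w.val ∧ (w.val ∩ d).card = 0)) _
        (fun x => by
          rw [SimpleGraph.mem_commonNeighbors]
          exact and_congr (adj_iff v x) (adj_iff w x))]
    have : (blocks B).filter (fun d => (d ≠ v.val ∧ (v.val ∩ d).card = 0) ∧
        (d ≠ w.val ∧ (w.val ∩ d).card = 0)) =
        (((blocks B).erase v.val).erase w.val).filter
          (fun d => (v.val ∩ d).card = 0 ∧ (w.val ∩ d).card = 0) := by
      ext d
      simp only [Finset.mem_filter, Finset.mem_erase]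
      tauto
    rw [this, card_disjoint_both hα hB v.2 w.2 hne', hcard]

end Cfsg.Agent.S0427
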