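import Mathlib
import Cfsg.Statements.S0428
import Cfsg.Agent.Lib.Lead.Steiner
import Cfsg.Agent.S0427

set_option autoImplicit false

open Cfsg

namespace Cfsg.Agent.S0428

open Finset Cfsg.Agent.Lib.Lead.Steiner Cfsg.Agent.S0427

section general

variable {α : Type*} [Fintype α] [DecidableEq α] {B : Set (Finset α)}

/-- counting a set of vertices of the point-block graph by kinds -/
lemma natcard_option_sum (s : Set (Option (α ⊕ ↥B))) (P0 : Prop) [Decidable P0]
    (P1 : α → Prop) [DecidablePred P1] (P2 : Finset α → Prop) [DecidablePred P2]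
    (h0 : none ∈ s ↔ P0) (h1 : ∀ a, some (Sum.inl a) ∈ s ↔ P1 a)
    (h2 : ∀ x : ↥B, some (Sum.inr x) ∈ s ↔ P2 x.val) :
    Nat.card s = (if P0 then 1 else 0) + (Finset.univ.filter P1).card +
      ((blocks B).filter P2).card := by
  have e : s ≃ ({u : Unit // P0} ⊕ {a : α // P1 a}) ⊕ {x : ↥B // P2 x.val} :=
    { toFun := fun v =>
        match v with
        | ⟨none, h⟩ => Sum.inl (Sum.inl ⟨(), h0.mp h⟩)
        | ⟨some (Sum.inl a), h⟩ => Sum.inl (Sum.inr ⟨a, (h1 a).mp h⟩)
        | ⟨some (Sum.inr x), h⟩ => Sum.inr ⟨x, (h2 x).mp h⟩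
      invFun := fun w =>
        match w with
        | Sum.inl (Sum.inl u) => ⟨none, h0.mpr u.2⟩
        | Sum.inl (Sum.inr a) => ⟨some (Sum.inl a.1), (h1 a.1).mpr a.2⟩
        | Sum.inr x => ⟨some (Sum.inr x.1), (h2 x.1).mpr x.2⟩
      left_inv := by
        rintro ⟨_ | (a | x), h⟩ <;> rfl
      right_inv := by
        rintro ((u | a) | x) <;> rfl }
  haveI : Finite ↥B := Finite.of_injective (fun x : ↥B => x.val) Subtype.val_injective
  rw [Nat.card_congr e, Nat.card_sum, Nat.card_sum]
  congr 1
  · congr 1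
    · by_cases hP : P0
      · rw [if_pos hP]
        haveI : Unique {u : Unit // P0} := ⟨⟨⟨(), hP⟩⟩, fun x => Subtype.ext rfl⟩
        exact Nat.card_unique
      · rw [if_neg hP]
        haveI : IsEmpty {u : Unit // P0} := ⟨fun x => hP x.2⟩
        exact Nat.card_of_isEmpty
    · rw [Nat.card_eq_fintype_card, Fintype.card_subtype]
  · exact natcard_set P2 {x : ↥B | P2 x.val} (fun x => Iff.rfl)

variable (B)

@[simp] lemma adj_nn : ¬ (Cfsg.pointBlockGraph B).Adj none none := by
  simp [Cfsg.pointBlockGraph, Cfsg.pointBlockRel]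
@[simp] lemma adj_np (a : α) : (Cfsg.pointBlockGraph B).Adj none (some (Sum.inl a)) := by
  simp [Cfsg.pointBlockGraph, Cfsg.pointBlockRel]
@[simp] lemma adj_nb (b : ↥B) : ¬ (Cfsg.pointBlockGraph B).Adj none (some (Sum.inr b)) := by
  simp [Cfsg.pointBlockGraph, Cfsg.pointBlockRel]
@[simp] lemma adj_pn (a : α) : (Cfsg.pointBlockGraph B).Adj (some (Sum.inl a)) none := by
  simp [Cfsg.pointBlockGraph, Cfsg.pointBlockRel]
@[simp] lemma adj_pp (a a' : α) :
    ¬ (Cfsg.pointBlockGraph B).Adj (some (Sum.inl a)) (some (Sum.inl a')) := by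
  simp [Cfsg.pointBlockGraph, Cfsg.pointBlockRel]
@[simp] lemma adj_pb (a : α) (b : ↥B) :
    (Cfsg.pointBlockGraph B).Adj (some (Sum.inl a)) (some (Sum.inr b)) ↔ a ∈ b.val := by
  simp [Cfsg.pointBlockGraph, Cfsg.pointBlockRel]
@[simp] lemma adj_bn (b : ↥B) : ¬ (Cfsg.pointBlockGraph B).Adj (some (Sum.inr b)) none := by
  simp [Cfsg.pointBlockGraph, Cfsg.pointBlockRel]
@[simp] lemma adj_bp (a : α) (b : ↥B) :
    (Cfsg.pointBlockGraph B).Adj (some (Sum.inr b)) (some (Sum.inl a)) ↔ a ∈ b.val := by
  simp [Cfsg.pointBlockGraph, Cfsg.pointBlockRel]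
lemma adj_bb (b c : ↥B) :
    (Cfsg.pointBlockGraph B).Adj (some (Sum.inr b)) (some (Sum.inr c)) ↔
      (c.val ≠ b.val ∧ (b.val ∩ c.val).card = 0) := by
  unfold Cfsg.pointBlockGraph
  rw [SimpleGraph.fromRel_adj, Finset.card_eq_zero, ← Finset.disjoint_iff_inter_eq_empty]
  constructor
  · rintro ⟨hne, h | h⟩
    · exact ⟨fun h' => hne (by rw [Subtype.ext h'.symm]), h⟩
    · exact ⟨fun h' => hne (by rw [Subtype.ext h'.symm]), h.symm⟩
  · rintro ⟨hne, h⟩
    refine ⟨fun h' => hne ?_, Or.inl h⟩
    have := Sum.inr_injective (Option.some_injective _ h')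
    exact congrArg Subtype.val this.symm

end general


section counting

variable {α : Type*} [Fintype α] [DecidableEq α] (hα : Fintype.card α = 22)
  {B : Set (Finset α)} (hB : Cfsg.IsSteinerSystem 3 6 B)

include hα hB

/-- blocks through a point outside `b` that are disjoint from `b` -/
lemma card_through_disjoint {a : α} {b : Finset α} (hb : b ∈ B) (hab : a ∉ b) :
    ((blocks B).filter (fun d => a ∈ d ∧ (d ≠ b ∧ (b ∩ d).card = 0))).card = 6 := by
  have h := sum_inter_mul (blocks B) {a} b
  rw [Finset.sum_singleton] at h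
  have h1 : ∀ q ∈ b, ((blocks B).filter (fun d => a ∈ d ∧ q ∈ d)).card = 5 := by
    intro q hq
    exact card_through_pair hα hB (fun h' => hab (h' ▸ hq))
  rw [Finset.sum_congr rfl h1, Finset.sum_const, hB.1 b hb, smul_eq_mul] at h
  have h2 : ∀ d ∈ blocks B, ({a} ∩ d).card * (b ∩ d).card =
      if a ∈ d then (b ∩ d).card else 0 := by
    intro d _
    by_cases had : a ∈ d
    · rw [if_pos had, Finset.singleton_inter_of_mem had, Finset.card_singleton, one_mul]
    · rw [if_neg had, Finset.singleton_inter_of_notMem had, Finset.card_empty, zero_mul]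
  rw [Finset.sum_congr rfl h2, ← Finset.sum_filter] at h
  have hpt : ∀ d ∈ (blocks B).filter (fun d => a ∈ d),
      2 * (if (d ≠ b ∧ (b ∩ d).card = 0) then 1 else 0) + (b ∩ d).card = 2 := by
    intro d hd
    rw [Finset.mem_filter, mem_blocks] at hd
    have hdb : d ≠ b := fun h' => hab (h' ▸ hd.2)
    rcases inter_zero_or_two hα hB hb hd.1 (Ne.symm hdb) with h0 | h0 <;> simp [h0, hdb]
  have hsum := Finset.sum_congr (rfl : (blocks B).filter (fun d => a ∈ d) = _) hpt
  simp only [Finset.sum_add_distrib, ← Finset.mul_sum, Finset.sum_const, smul_eq_mul,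
    Finset.sum_boole] at hsum
  rw [h, card_through_point hα hB a, Finset.filter_filter] at hsum
  simp only [Nat.cast_id] at hsum
  omega

lemma card_disjoint_one' {b : Finset α} (hb : b ∈ B) :
    ((blocks B).filter (fun d => d ≠ b ∧ (b ∩ d).card = 0)).card = 16 := by
  have : (blocks B).filter (fun d => d ≠ b ∧ (b ∩ d).card = 0) =
      ((blocks B).erase b).filter (fun d => (b ∩ d).card = 0) := by
    ext d
    simp only [Finset.mem_filter, Finset.mem_erase]
    tauto
  rw [this]
  exact card_disjoint_one hα hB hb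

lemma card_disjoint_both' {b c : Finset α} (hb : b ∈ B) (hc : c ∈ B) (hbc : b ≠ c) :
    ((blocks B).filter (fun d => (d ≠ b ∧ (b ∩ d).card = 0) ∧
      (d ≠ c ∧ (c ∩ d).card = 0))).card = 2 * (b ∩ c).card := by
  have : (blocks B).filter (fun d => (d ≠ b ∧ (b ∩ d).card = 0) ∧
      (d ≠ c ∧ (c ∩ d).card = 0)) =
      (((blocks B).erase b).erase c).filter
        (fun d => (b ∩ d).card = 0 ∧ (c ∩ d).card = 0) := by
    ext d
    simp only [Finset.mem_filter, Finset.mem_erase]
    tauto
  rw [this]
  exact card_disjoint_both hα hB hb hc hbc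

omit hα hB in
lemma cn_np (a : α) :
    Nat.card ((Cfsg.pointBlockGraph B).commonNeighbors none (some (Sum.inl a))) = 0 := by
  rw [natcard_option_sum _ False (fun _ => False) (fun _ => False)
    (by simp [SimpleGraph.mem_commonNeighbors]) (by simp [SimpleGraph.mem_commonNeighbors])
    (by simp [SimpleGraph.mem_commonNeighbors])]
  simp

lemma cn_nb (x : ↥B) :
    Nat.card ((Cfsg.pointBlockGraph B).commonNeighbors none (some (Sum.inr x))) = 6 := by
  rw [natcard_option_sum _ False (fun a => a ∈ x.val) (fun _ => False)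
    (by simp [SimpleGraph.mem_commonNeighbors]) (by simp [SimpleGraph.mem_commonNeighbors])
    (by simp [SimpleGraph.mem_commonNeighbors])]
  simp [hB.1 x.val x.2]

lemma cn_pp {a a' : α} (h : a ≠ a') :
    Nat.card ((Cfsg.pointBlockGraph B).commonNeighbors (some (Sum.inl a)) (some (Sum.inl a'))) = 6 := by
  rw [natcard_option_sum _ True (fun _ => False) (fun d => a ∈ d ∧ a' ∈ d)
    (by simp [SimpleGraph.mem_commonNeighbors]) (by simp [SimpleGraph.mem_commonNeighbors])
    (by simp [SimpleGraph.mem_commonNeighbors])]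
  simp [card_through_pair hα hB h]

omit hα hB in
lemma cn_pb (a : α) (x : ↥B) :
    Nat.card ((Cfsg.pointBlockGraph B).commonNeighbors (some (Sum.inl a)) (some (Sum.inr x))) =
      ((blocks B).filter (fun d => a ∈ d ∧ (d ≠ x.val ∧ (x.val ∩ d).card = 0))).card := by
  rw [natcard_option_sum _ False (fun _ => False)
    (fun d => a ∈ d ∧ (d ≠ x.val ∧ (x.val ∩ d).card = 0))
    (by simp [SimpleGraph.mem_commonNeighbors]) (by simp [SimpleGraph.mem_commonNeighbors])
    (by intro y; rw [SimpleGraph.mem_commonNeighbors, adj_pb, adj_bb])]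
  simp

lemma cn_bb {x y : ↥B} (h : x.val ≠ y.val) :
    Nat.card ((Cfsg.pointBlockGraph B).commonNeighbors (some (Sum.inr x)) (some (Sum.inr y))) =
      3 * (x.val ∩ y.val).card := by
  rw [natcard_option_sum _ False (fun a => a ∈ x.val ∧ a ∈ y.val)
    (fun d => (d ≠ x.val ∧ (x.val ∩ d).card = 0) ∧ (d ≠ y.val ∧ (y.val ∩ d).card = 0))
    (by simp [SimpleGraph.mem_commonNeighbors]) (by simp [SimpleGraph.mem_commonNeighbors])
    (by intro z; rw [SimpleGraph.mem_commonNeighbors, adj_bb, adj_bb])]
  rw [card_disjoint_both' hα hB x.2 y.2 h]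
  have : (Finset.univ.filter (fun a => a ∈ x.val ∧ a ∈ y.val)) = x.val ∩ y.val := by
    ext a; simp
  rw [this]
  simp
  ring

end counting

theorem result {α : Type*} [Fintype α] (hα : Fintype.card α = 22) {B : Set (Finset α)} (hB : Cfsg.IsSteinerSystem 3 6 B) [Fintype B] [DecidableRel (Cfsg.pointBlockGraph B).Adj] : (Cfsg.pointBlockGraph B).IsSRGWith 100 22 0 6 := by
  classical
  refine ⟨?_, ?_, ?_, ?_⟩
  · have h77 : Fintype.card ↥B = 77 := by
      rw [← Nat.card_eq_fintype_card,
        Nat.card_congr (Equiv.subtypeEquivRight (fun c => (mem_blocks (B := B) (b := c)).symm)),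
        Nat.card_eq_fintype_card, Fintype.card_coe]
      exact card_blocks hα hB
    rw [Fintype.card_option, Fintype.card_sum, hα, h77]
  · intro v
    rw [← SimpleGraph.card_neighborSet_eq_degree, ← Nat.card_eq_fintype_card]
    rcases v with _ | (a | b)
    · rw [natcard_option_sum _ False (fun _ => True) (fun _ => False)
        (by simp) (by simp) (by simp)]
      simp [hα]
    · rw [natcard_option_sum _ True (fun _ => False) (fun d => a ∈ d)
        (by simp) (by simp) (by simp)]
      simp [card_through_point hα hB a]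
    · rw [natcard_option_sum _ False (fun a => a ∈ b.val)
        (fun d => d ≠ b.val ∧ (b.val ∩ d).card = 0)
        (by simp) (by simp) (by intro x; rw [SimpleGraph.mem_neighborSet, adj_bb])]
      rw [card_disjoint_one' hα hB b.2]
      simp [hB.1 b.val b.2]
  · intro v w hvw
    rw [← Nat.card_eq_fintype_card]
    rcases v with _ | (a | x) <;> rcases w with _ | (a' | y)
    · exact absurd hvw (adj_nn B)
    · exact cn_np a'
    · exact absurd hvw (adj_nb B y)
    · rw [SimpleGraph.commonNeighbors_symm]; exact cn_np a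
    · exact absurd hvw (adj_pp B a a')
    · rw [cn_pb, Finset.card_eq_zero, Finset.filter_eq_empty_iff]
      rintro d _ ⟨had, _, h0⟩
      rw [Finset.card_eq_zero] at h0
      have : a ∈ y.val ∩ d := Finset.mem_inter.mpr ⟨(adj_pb B a y).mp hvw, had⟩
      rw [h0] at this
      exact absurd this (Finset.notMem_empty _)
    · exact absurd hvw (adj_bn B x)
    · rw [SimpleGraph.commonNeighbors_symm, cn_pb, Finset.card_eq_zero, Finset.filter_eq_empty_iff]
      rintro d _ ⟨had, _, h0⟩
      rw [Finset.card_eq_zero] at h0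
      have : a' ∈ x.val ∩ d := Finset.mem_inter.mpr ⟨(adj_bp B a' x).mp hvw, had⟩
      rw [h0] at this
      exact absurd this (Finset.notMem_empty _)
    · have h := (adj_bb B x y).mp hvw
      rw [cn_bb hα hB (Ne.symm h.1), h.2]
  · intro v w hne hnadj
    rw [← Nat.card_eq_fintype_card]
    rcases v with _ | (a | x) <;> rcases w with _ | (a' | y)
    · exact absurd rfl hne
    · exact absurd (adj_np B a') hnadj
    · exact cn_nb hα hB y
    · exact absurd (adj_pn B a) hnadj
    · exact cn_pp hα hB (fun h => hne (by rw [h]))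
    · rw [cn_pb]
      exact card_through_disjoint hα hB y.2 (fun h => hnadj ((adj_pb B a y).mpr h))
    · rw [SimpleGraph.commonNeighbors_symm]; exact cn_nb hα hB x
    · rw [SimpleGraph.commonNeighbors_symm, cn_pb]
      exact card_through_disjoint hα hB x.2 (fun h => hnadj ((adj_bp B a' x).mpr h))
    · have hxy : x.val ≠ y.val := fun h => hne (by rw [Subtype.ext h])
      have hcard : (x.val ∩ y.val).card = 2 := by
        rcases inter_zero_or_two hα hB x.2 y.2 hxy with h0 | h0
        · exact absurd ((adj_bb B x y).mpr ⟨Ne.symm hxy, h0⟩) hnadj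
        · exact h0
      rw [cn_bb hα hB hxy, hcard]

end Cfsg.Agent.S0428
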