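import Cfsg.Statements.S0436
import Cfsg.Agent.Lib.Helper1.Invol

set_option autoImplicit false
open Cfsg

namespace Cfsg.Agent.S0436

open Cfsg.Agent.Lib.Helper1 in
/-- core computation: if `e` commutes with `a * b`, `a` and `b` commute, and both `e a` and `e b`
have order three, then `a = b`. -/
theorem core {G : Type*} [Group G] {a b e : G} (ha : a * a = 1) (hb : b * b = 1) (he : e * e = 1)
    (hab : Commute a b) (hc : Commute e (a * b)) (h3a : (e * a) ^ 3 = 1) (h3b : (e * b) ^ 3 = 1) :
    a = b := by
  have ha' : a⁻¹ = a := inv_eq_of_mul_eq_one_left ha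
  have hb' : b⁻¹ = b := inv_eq_of_mul_eq_one_left hb
  have he' : e⁻¹ = e := inv_eq_of_mul_eq_one_left he
  have h1 : a * e * a = e * a * e := braid_of_mul_cube he ha h3a
  have h2 : b * e * b = e * b * e := braid_of_mul_cube he hb h3b
  -- (ab) e (ab)⁻¹ = e
  have h3 : a * b * e * (b * a) = e := by
    have : (a * b) * e * (a * b)⁻¹ = e := by
      rw [← hc.eq]; group
    rw [mul_inv_rev, ha', hb'] at this
    exact this
  have h4 : a * (b * e * b) * a = e := by
    rw [show a * (b * e * b) * a = a * b * e * (b * a) by group]; exact h3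
  rw [h2] at h4
  -- e b e = a e a = e a e
  have h5 : e * b * e = a * e * a := by
    have : e * b * e = a⁻¹ * (a * (e * b * e) * a) * a⁻¹ := by group
    rw [this, h4, ha']
  rw [h1] at h5
  have h6 : b = e⁻¹ * (e * b * e) * e⁻¹ := by group
  rw [h6, h5]; group


/-- For distinct commuting members a, b of a set of 3-transpositions E, a member e of E centralises the product a * b if and only if it centralises both a and b. -/
theorem result {G : Type*} [Group G] {E : Set G} (hE : Cfsg.IsThreeTranspositionSet E) {a b e : G} (ha : a ∈ E) (hb : b ∈ E) (he : e ∈ E) (hab : a ≠ b) (hcomm : Commute a b) : Commute e (a * b) ↔ (Commute e a ∧ Commute e b) := by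
  obtain ⟨hE2, hE3⟩ := hE
  have ha2 := Cfsg.Agent.Lib.Helper1.sq_eq_one_of_orderOf_two (hE2 a ha)
  have hb2 := Cfsg.Agent.Lib.Helper1.sq_eq_one_of_orderOf_two (hE2 b hb)
  have he2 := Cfsg.Agent.Lib.Helper1.sq_eq_one_of_orderOf_two (hE2 e he)
  have ha' : a⁻¹ = a := inv_eq_of_mul_eq_one_left ha2
  have hb' : b⁻¹ = b := inv_eq_of_mul_eq_one_left hb2
  constructor
  · intro hc
    have hea : Commute e a := by
      rcases hE3 e he a ha with h | h
      · exact Cfsg.Agent.Lib.Helper1.commute_of_mul_sq he2 ha2 h
      · rcases hE3 e he b hb with h' | h'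
        · have hcb := Cfsg.Agent.Lib.Helper1.commute_of_mul_sq he2 hb2 h'
          have := hc.mul_right hcb.inv_right
          rw [hb', mul_assoc, hb2, mul_one] at this
          exact this
        · exact absurd (core ha2 hb2 he2 hcomm hc h h') hab
    refine ⟨hea, ?_⟩
    have := hea.inv_right.mul_right hc
    rw [ha', ← mul_assoc, ha2, one_mul] at this
    exact this
  · rintro ⟨h1, h2⟩
    exact h1.mul_right h2

end Cfsg.Agent.S0436
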