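import Cfsg.Statements.S0437
import Cfsg.Agent.Lib.Helper1.Invol
import Cfsg.Agent.S0436

set_option autoImplicit false
open Cfsg

namespace Cfsg.Agent.S0437

open Cfsg.Agent.Lib.Helper1 in
/-- core computation: if `e` commutes with `a * b * c` (pairwise commuting involutions) and satisfies
the braid relation with each of them, then `c = e`. -/
theorem core3 {G : Type*} [Group G] {a b c e : G} (ha : a * a = 1) (hb : b * b = 1) (hc : c * c = 1)
    (he : e * e = 1) (hab : Commute a b) (hac : Commute a c) (hbc : Commute b c)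
    (h1 : a * e * a = e * a * e) (h2 : b * e * b = e * b * e) (h3 : c * e * c = e * c * e)
    (hcomm : Commute e (a * b * c)) : c = e := by
  have ha' : a⁻¹ = a := inv_eq_of_mul_eq_one_left ha
  have hb' : b⁻¹ = b := inv_eq_of_mul_eq_one_left hb
  have hc' : c⁻¹ = c := inv_eq_of_mul_eq_one_left hc
  have he' : e⁻¹ = e := inv_eq_of_mul_eq_one_left he
  have hA : a * b * c * e * (c * (b * a)) = e := by
    have : (a * b * c) * e * (a * b * c)⁻¹ = e := by rw [← hcomm.eq]; group
    rwa [mul_inv_rev, mul_inv_rev, ha', hb', hc'] at this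
  have hB : a * b * (e * c * e) * (b * a) = e := by
    rw [← h3, show a * b * (c * e * c) * (b * a) = a * b * c * e * (c * (b * a)) by group]
    exact hA
  have hb3 : b * (e * c * e) * b = (e * b * e) * c * (e * b * e) := by
    have : b * (e * c * e) * b⁻¹ = (b * e * b⁻¹) * (b * c * b⁻¹) * (b * e * b⁻¹) := by group
    rw [hb'] at this
    rw [this, h2]
    have : b * c * b = c := by rw [hbc.eq, mul_assoc, hb, mul_one]
    rw [this]
  have hC : a * ((e * b * e) * c * (e * b * e)) * a = e := by
    rw [← hb3, show a * (b * (e * c * e) * b) * a = a * b * (e * c * e) * (b * a) by group]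
    exact hB
  have hb4 : a * b * a = b := by rw [hab.eq, mul_assoc, ha, mul_one]
  have hc4 : a * c * a = c := by rw [hac.eq, mul_assoc, ha, mul_one]
  have hC2 : (a * e * a) * b * (a * e * a) * c * (a * e * a) * b * (a * e * a) = e := by
    have : a * ((e * b * e) * c * (e * b * e)) * a⁻¹ =
        (a * e * a⁻¹) * (a * b * a⁻¹) * (a * e * a⁻¹) * (a * c * a⁻¹) * (a * e * a⁻¹) *
          (a * b * a⁻¹) * (a * e * a⁻¹) := by group
    rw [ha', hb4, hc4] at this
    rw [← this]; exact hC
  have hu2 : (a * e * a) * (a * e * a) = 1 := by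
    calc (a * e * a) * (a * e * a) = a * e * (a * a) * e * a := by group
      _ = 1 := by rw [ha, mul_one, mul_assoc a e e, he, mul_one, ha]
  have hD : (a * e * a) * e * (a * e * a) = a := by
    calc (a * e * a) * e * (a * e * a) = (e * a * e) * e * (e * a * e) := by rw [h1]
      _ = e * a * (e * e) * (e * a * e) := by group
      _ = (e * a * e) * a * e := by rw [he]; group
      _ = (a * e * a) * a * e := by rw [h1]
      _ = a * e * (a * a) * e := by group
      _ = a := by rw [ha, mul_one, mul_assoc, he, mul_one]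
  have hw : ((a * e * a) * b * (a * e * a))⁻¹ = (a * e * a) * b * (a * e * a) := by
    apply inv_eq_of_mul_eq_one_left
    calc (a * e * a) * b * (a * e * a) * ((a * e * a) * b * (a * e * a))
        = (a * e * a) * b * ((a * e * a) * (a * e * a)) * b * (a * e * a) := by group
      _ = (a * e * a) * (b * b) * (a * e * a) := by rw [hu2]; group
      _ = 1 := by rw [hb, mul_one, hu2]
  have hE : c = ((a * e * a) * b * (a * e * a)) * e * ((a * e * a) * b * (a * e * a)) := by
    have : c = ((a * e * a) * b * (a * e * a))⁻¹ *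
        ((a * e * a) * b * (a * e * a) * c * (a * e * a) * b * (a * e * a)) *
        ((a * e * a) * b * (a * e * a))⁻¹ := by group
    rw [this, hC2, hw]
  rw [hE]
  calc (a * e * a) * b * (a * e * a) * e * ((a * e * a) * b * (a * e * a))
      = (a * e * a) * b * ((a * e * a) * e * (a * e * a)) * b * (a * e * a) := by group
    _ = (a * e * a) * (b * a * b) * (a * e * a) := by rw [hD]; group
    _ = (a * e * a) * a * (a * e * a) := by
        rw [show b * a * b = a by rw [← hab.eq, mul_assoc, hb, mul_one]]
    _ = a * e * (a * a) * a * e * a := by group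
    _ = (a * e * a) * e * a := by rw [ha]; group
    _ = (e * a * e) * e * a := by rw [h1]
    _ = e * a * (e * e) * a := by group
    _ = e := by rw [he, mul_one, mul_assoc, ha, mul_one]


/-- For three distinct, pairwise commuting members a, b, c of a set of 3-transpositions E, a member e of E centralises a * b * c if and only if it centralises each of a, b and c. -/
theorem result {G : Type*} [Group G] {E : Set G} (hE : Cfsg.IsThreeTranspositionSet E) {a b c e : G} (ha : a ∈ E) (hb : b ∈ E) (hc : c ∈ E) (he : e ∈ E) (hab : a ≠ b) (hac : a ≠ c) (hbc : b ≠ c) (h₁ : Commute a b) (h₂ : Commute a c) (h₃ : Commute b c) : Commute e (a * b * c) ↔ (Commute e a ∧ Commute e b ∧ Commute e c) := by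
  obtain ⟨hE2, hE3⟩ := hE
  have ha2 := Cfsg.Agent.Lib.Helper1.sq_eq_one_of_orderOf_two (hE2 a ha)
  have hb2 := Cfsg.Agent.Lib.Helper1.sq_eq_one_of_orderOf_two (hE2 b hb)
  have hc2 := Cfsg.Agent.Lib.Helper1.sq_eq_one_of_orderOf_two (hE2 c hc)
  have he2 := Cfsg.Agent.Lib.Helper1.sq_eq_one_of_orderOf_two (hE2 e he)
  have ha' : a⁻¹ = a := inv_eq_of_mul_eq_one_left ha2
  have hb' : b⁻¹ = b := inv_eq_of_mul_eq_one_left hb2
  have hc' : c⁻¹ = c := inv_eq_of_mul_eq_one_left hc2
  constructor
  · intro hcomm
    -- reductions to the two-element statement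
    have redc : Commute e c → Commute e a ∧ Commute e b ∧ Commute e c := by
      intro hec
      have h12 : Commute e (a * b) := by
        have := hcomm.mul_right hec.inv_right
        rw [hc', mul_assoc (a * b) c c, hc2, mul_one] at this
        exact this
      have := (Cfsg.Agent.S0436.result ⟨hE2, hE3⟩ ha hb he hab h₁).1 h12
      exact ⟨this.1, this.2, hec⟩
    have reda : Commute e a → Commute e a ∧ Commute e b ∧ Commute e c := by
      intro hea
      have h23 : Commute e (b * c) := by
        have := hea.inv_right.mul_right hcomm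
        rw [ha', ← mul_assoc, ← mul_assoc, ha2, one_mul] at this
        exact this
      have := (Cfsg.Agent.S0436.result ⟨hE2, hE3⟩ hb hc he hbc h₃).1 h23
      exact ⟨hea, this.1, this.2⟩
    have redb : Commute e b → Commute e a ∧ Commute e b ∧ Commute e c := by
      intro heb
      have h13 : Commute e (a * c) := by
        have e1 : a * b * c = b * (a * c) := by rw [h₁.eq, mul_assoc]
        rw [e1] at hcomm
        have := heb.inv_right.mul_right hcomm
        rw [hb', ← mul_assoc, hb2, one_mul] at this
        exact this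
      have := (Cfsg.Agent.S0436.result ⟨hE2, hE3⟩ ha hc he hac h₂).1 h13
      exact ⟨this.1, heb, this.2⟩
    rcases hE3 e he a ha with ha3 | ha3
    · exact reda (Cfsg.Agent.Lib.Helper1.commute_of_mul_sq he2 ha2 ha3)
    rcases hE3 e he b hb with hb3 | hb3
    · exact redb (Cfsg.Agent.Lib.Helper1.commute_of_mul_sq he2 hb2 hb3)
    rcases hE3 e he c hc with hc3 | hc3
    · exact redc (Cfsg.Agent.Lib.Helper1.commute_of_mul_sq he2 hc2 hc3)
    have hce : c = e := core3 ha2 hb2 hc2 he2 h₁ h₂ h₃
      (Cfsg.Agent.Lib.Helper1.braid_of_mul_cube he2 ha2 ha3)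
      (Cfsg.Agent.Lib.Helper1.braid_of_mul_cube he2 hb2 hb3)
      (Cfsg.Agent.Lib.Helper1.braid_of_mul_cube he2 hc2 hc3) hcomm
    apply redc
    rw [hce]
  · rintro ⟨h1, h2, h3⟩
    exact (h1.mul_right h2).mul_right h3

end Cfsg.Agent.S0437
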