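import Cfsg.Statements.S0439
import Mathlib

set_option autoImplicit false
open Cfsg

namespace Cfsg.Agent.S0439

open Equiv Equiv.Perm

theorem swap_mul_swap_pow {α : Type*} [DecidableEq α] [Fintype α] (a b c d : α) (hab : a ≠ b) (hcd : c ≠ d) :
    (swap a b * swap c d) ^ 2 = 1 ∨ (swap a b * swap c d) ^ 3 = 1 := by
  -- three-cycle case helper
  have h3 : ∀ x y z : α, x ≠ y → x ≠ z → y ≠ z → (swap x y * swap x z) ^ 3 = 1 := by
    intro x y z hxy hxz hyz
    have := (isThreeCycle_swap_mul_swap_same hxy hxz hyz).orderOf
    rw [← this]; exact pow_orderOf_eq_one _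
  by_cases hac : a = c
  · subst hac
    by_cases hbd : b = d
    · subst hbd
      left
      rw [swap_mul_self, one_pow]
    · right
      exact h3 a b d hab hcd hbd
  · by_cases had : a = d
    · subst had
      by_cases hbc : b = c
      · subst hbc
        left
        rw [swap_comm b a, swap_mul_self, one_pow]
      · right
        rw [swap_comm c a]
        exact h3 a b c hab (Ne.symm hcd) hbc
    · by_cases hbc : b = c
      · subst hbc
        right
        rw [swap_comm a b]
        exact h3 b a d (Ne.symm hab) hcd had
      · by_cases hbd : b = d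
        · subst hbd
          right
          rw [swap_comm a b, swap_comm c b]
          exact h3 b a c (Ne.symm hab) (Ne.symm hcd) hac
        · -- disjoint: commute
          left
          have hdis : Disjoint (swap a b) (swap c d) := by
            rw [disjoint_iff_disjoint_support, support_swap hab, support_swap hcd]
            simp only [Finset.disjoint_insert_left, Finset.disjoint_insert_right,
              Finset.disjoint_singleton, Finset.mem_insert, Finset.mem_singleton]
            tauto
          have hcomm := hdis.commute
          rw [hcomm.mul_pow, pow_two, pow_two, swap_mul_self, swap_mul_self, one_mul]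


/-- In the symmetric group of degree n ≥ 2, the set of transpositions is a conjugacy class of 3-transpositions which generates the group. -/
theorem result (n : ℕ) (hn : 2 ≤ n) : Cfsg.IsThreeTranspositionClass {σ : Equiv.Perm (Fin n) | σ.IsSwap} := by
  classical
  have h01 : (⟨0, by omega⟩ : Fin n) ≠ ⟨1, by omega⟩ := by
    intro h
    have := congrArg Fin.val h
    simp at this
  refine ⟨⟨?_, ?_⟩, ⟨Equiv.swap (⟨0, by omega⟩ : Fin n) ⟨1, by omega⟩, ⟨_, _, h01, rfl⟩, ?_⟩, ?_⟩
  · intro d hd
    exact Equiv.Perm.IsSwap.orderOf hd
  · rintro d ⟨a, b, hab, rfl⟩ e ⟨c, d', hcd, rfl⟩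
    exact swap_mul_swap_pow a b c d' hab hcd
  · ext σ
    show σ.IsSwap ↔ IsConj _ σ
    constructor
    · rintro ⟨a, b, hab, rfl⟩
      exact Equiv.Perm.isConj_swap h01 hab
    · intro h
      obtain ⟨c, hc⟩ := isConj_iff.1 h
      rw [← hc, ← Equiv.swap_apply_apply]
      exact ⟨_, _, fun h' => h01 (c.injective h'), rfl⟩
  · exact Equiv.Perm.closure_isSwap

end Cfsg.Agent.S0439
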