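import Cfsg.Statements.S0440
import Mathlib
import Cfsg.Agent.Lib.Helper2.SympForm
import Cfsg.Agent.Lib.Helper1.SympTrans
import Cfsg.Agent.S0764
import Cfsg.Agent.S0765
import Cfsg.Agent.S0767

set_option autoImplicit false
open Cfsg

namespace Cfsg.Agent.S0440


open Matrix Cfsg.Agent.Lib.Helper2 Cfsg.Agent.Lib.Helper1

section
variable (n : ℕ)

theorem zmod2_cases (c : ZMod 2) : c = 0 ∨ c = 1 := by
  revert c; decide

/-- the transvection as a group element -/
noncomputable def tv (w : Fin n ⊕ Fin n → ZMod 2) : Matrix.symplecticGroup (Fin n) (ZMod 2) :=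
  ⟨sympTransvection n w 1, Cfsg.Agent.S0764.result n w 1⟩

theorem tv_mulVec (w x : Fin n ⊕ Fin n → ZMod 2) :
    (tv n w : Matrix (Fin n ⊕ Fin n) (Fin n ⊕ Fin n) (ZMod 2)) *ᵥ x
      = x + sympForm n (ZMod 2) x w • w := by
  show sympTransvection n w 1 *ᵥ x = _
  rw [sympTransvection_mulVec, one_mul]

theorem coe_mul' (g h : Matrix.symplecticGroup (Fin n) (ZMod 2)) :
    ((g * h : Matrix.symplecticGroup (Fin n) (ZMod 2)) :
      Matrix (Fin n ⊕ Fin n) (Fin n ⊕ Fin n) (ZMod 2)) =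
    (g : Matrix (Fin n ⊕ Fin n) (Fin n ⊕ Fin n) (ZMod 2)) *
      (h : Matrix (Fin n ⊕ Fin n) (Fin n ⊕ Fin n) (ZMod 2)) := rfl

theorem conj_tv (g : Matrix.symplecticGroup (Fin n) (ZMod 2)) (w : Fin n ⊕ Fin n → ZMod 2) :
    g * tv n w * g⁻¹ = tv n ((g : Matrix (Fin n ⊕ Fin n) (Fin n ⊕ Fin n) (ZMod 2)) *ᵥ w) := by
  rw [mul_inv_eq_iff_eq_mul]
  apply Subtype.ext
  rw [coe_mul', coe_mul', Matrix.ext_iff_mulVec]
  intro x
  rw [← Matrix.mulVec_mulVec, ← Matrix.mulVec_mulVec, tv_mulVec, tv_mulVec, Matrix.mulVec_add,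
    Matrix.mulVec_smul, sympForm_mulVec_mulVec n _ g.2]

theorem tv_zero : tv n 0 = 1 := by
  apply Subtype.ext
  show sympTransvection n 0 1 = 1
  rw [Matrix.ext_iff_mulVec]
  intro x
  rw [sympTransvection_mulVec, smul_zero, add_zero, Matrix.one_mulVec]

theorem tv_mul_self (w : Fin n ⊕ Fin n → ZMod 2) : tv n w * tv n w = 1 := by
  apply Subtype.ext
  show sympTransvection n w 1 * sympTransvection n w 1 = 1
  rw [(Cfsg.Agent.S0767.result n w).1 1 1]
  have : (1 : ZMod 2) + 1 = 0 := by decide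
  rw [this]
  unfold sympTransvection
  rw [zero_smul, add_zero]

theorem rank_tv_sub_one (w : Fin n ⊕ Fin n → ZMod 2) (hw : w ≠ 0) :
    ((tv n w : Matrix (Fin n ⊕ Fin n) (Fin n ⊕ Fin n) (ZMod 2)) - 1).rank = 1 := by
  obtain ⟨z, hz⟩ := exists_sympForm_ne_zero n w hw
  have hz' : sympForm n (ZMod 2) z w = 1 := by
    rcases zmod2_cases (sympForm n (ZMod 2) z w) with h | h
    · exact absurd h (sympForm_ne_zero_swap n hz)
    · exact h
  have hmv : ∀ x, ((tv n w : Matrix (Fin n ⊕ Fin n) (Fin n ⊕ Fin n) (ZMod 2)) - 1) *ᵥ x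
      = sympForm n (ZMod 2) x w • w := by
    intro x
    rw [Matrix.sub_mulVec, tv_mulVec, Matrix.one_mulVec, add_sub_cancel_left]
  unfold Matrix.rank
  have hwmem : w ∈ LinearMap.range
      ((tv n w : Matrix (Fin n ⊕ Fin n) (Fin n ⊕ Fin n) (ZMod 2)) - 1).mulVecLin := by
    refine ⟨z, ?_⟩
    rw [Matrix.mulVecLin_apply, hmv, hz', one_smul]
  rw [finrank_eq_one_iff_of_nonzero' (⟨w, hwmem⟩ : LinearMap.range
      ((tv n w : Matrix (Fin n ⊕ Fin n) (Fin n ⊕ Fin n) (ZMod 2)) - 1).mulVecLin)]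
  · rintro ⟨u, x, rfl⟩
    refine ⟨sympForm n (ZMod 2) x w, ?_⟩
    apply Subtype.ext
    show sympForm n (ZMod 2) x w • w =
      ((tv n w : Matrix (Fin n ⊕ Fin n) (Fin n ⊕ Fin n) (ZMod 2)) - 1).mulVecLin x
    rw [Matrix.mulVecLin_apply, hmv]
  · intro h
    apply hw
    exact congrArg Subtype.val h

theorem exists_tv_of_rank (g : Matrix.symplecticGroup (Fin n) (ZMod 2))
    (hg : ((g : Matrix (Fin n ⊕ Fin n) (Fin n ⊕ Fin n) (ZMod 2)) - 1).rank = 1) :
    ∃ w : Fin n ⊕ Fin n → ZMod 2, w ≠ 0 ∧ g = tv n w := by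
  have hne : (g : Matrix (Fin n ⊕ Fin n) (Fin n ⊕ Fin n) (ZMod 2)) - 1 ≠ 0 := by
    intro h
    rw [h, Matrix.rank_zero] at hg
    exact zero_ne_one hg
  have : ∃ y0, ((g : Matrix (Fin n ⊕ Fin n) (Fin n ⊕ Fin n) (ZMod 2)) - 1) *ᵥ y0 ≠ 0 := by
    by_contra hcon
    push Not at hcon
    apply hne
    rw [Matrix.ext_iff_mulVec]
    intro v
    rw [hcon v, Matrix.zero_mulVec]
  obtain ⟨y0, hy0⟩ := this
  obtain ⟨a, ha⟩ : ∃ a, a = ((g : Matrix (Fin n ⊕ Fin n) (Fin n ⊕ Fin n) (ZMod 2)) - 1) *ᵥ y0 :=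
    ⟨_, rfl⟩
  rw [← ha] at hy0
  have hamem : a ∈ LinearMap.range
      ((g : Matrix (Fin n ⊕ Fin n) (Fin n ⊕ Fin n) (ZMod 2)) - 1).mulVecLin := ⟨y0, ha.symm⟩
  have hspan := (finrank_eq_one_iff_of_nonzero' (⟨a, hamem⟩ : LinearMap.range
      ((g : Matrix (Fin n ⊕ Fin n) (Fin n ⊕ Fin n) (ZMod 2)) - 1).mulVecLin)
      (by intro h; exact hy0 (congrArg Subtype.val h))).1 hg
  have hφ : ∀ x : Fin n ⊕ Fin n → ZMod 2, ∃ c : ZMod 2,
      ((g : Matrix (Fin n ⊕ Fin n) (Fin n ⊕ Fin n) (ZMod 2)) - 1) *ᵥ x = c • a := by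
    intro x
    obtain ⟨c, hc⟩ := hspan ⟨((g : Matrix (Fin n ⊕ Fin n) (Fin n ⊕ Fin n) (ZMod 2)) - 1) *ᵥ x,
      ⟨x, rfl⟩⟩
    refine ⟨c, ?_⟩
    have := congrArg Subtype.val hc
    exact this.symm
  choose φ hφ using hφ
  have hgx : ∀ x : Fin n ⊕ Fin n → ZMod 2,
      (g : Matrix (Fin n ⊕ Fin n) (Fin n ⊕ Fin n) (ZMod 2)) *ᵥ x = x + φ x • a := by
    intro x
    have := hφ x
    rw [Matrix.sub_mulVec, Matrix.one_mulVec, sub_eq_iff_eq_add] at this
    rw [this, add_comm]
  have hφy0 : φ y0 = 1 := by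
    rcases zmod2_cases (φ y0) with h | h
    · exfalso
      apply hy0
      rw [ha, hφ y0, h, zero_smul]
    · exact h
  have hsymp : ∀ x y : Fin n ⊕ Fin n → ZMod 2,
      φ y * sympForm n (ZMod 2) x a = φ x * sympForm n (ZMod 2) y a := by
    intro x y
    have h := sympForm_mulVec_mulVec n
      (g : Matrix (Fin n ⊕ Fin n) (Fin n ⊕ Fin n) (ZMod 2)) g.2 x y
    rw [hgx x, hgx y] at h
    simp only [sympForm_add_left, sympForm_add_right, sympForm_smul_left, sympForm_smul_right,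
      sympForm_self] at h
    rw [sympForm_swap n a y] at h
    linear_combination h
  have hB : ∀ x, sympForm n (ZMod 2) x a = φ x * sympForm n (ZMod 2) y0 a := by
    intro x
    have := hsymp x y0
    rw [hφy0, one_mul] at this
    exact this
  obtain ⟨z, hz⟩ := exists_sympForm_ne_zero n a hy0
  have hz2 := sympForm_ne_zero_swap n hz
  have hl : sympForm n (ZMod 2) y0 a = 1 := by
    rcases zmod2_cases (sympForm n (ZMod 2) y0 a) with h | h
    · exfalso
      apply hz2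
      rw [hB z, h, mul_zero]
    · exact h
  refine ⟨a, hy0, ?_⟩
  apply Subtype.ext
  rw [Matrix.ext_iff_mulVec]
  intro x
  rw [tv_mulVec, hgx, hB x, hl, mul_one]

theorem cube_of_braid {G : Type*} [Group G] (a b : G) (ha : a * a = 1) (hb : b * b = 1)
    (h : a * b * a = b * a * b) : (a * b) ^ 3 = 1 := by
  have h3 : (a * b) ^ 3 = (a * b * a) * (b * a * b) := by
    simp only [pow_succ, pow_zero, one_mul, mul_assoc]
  rw [h3, h]
  calc b * a * b * (b * a * b) = b * a * (b * b) * a * b := by simp only [mul_assoc]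
    _ = b * (a * a) * b := by rw [hb]; simp only [mul_one, mul_assoc]
    _ = 1 := by rw [ha, mul_one, hb]

end


/-- In the symplectic group in dimension 2n ≥ 2 over the field with two elements, the elements g for which g - 1 has rank one (the symplectic transvections) form a conjugacy class of 3-transpositions generating the group. -/
theorem result (n : ℕ) (hn : 1 ≤ n) : Cfsg.IsThreeTranspositionClass {g : Matrix.symplecticGroup (Fin n) (ZMod 2) | ((g : Matrix (Fin n ⊕ Fin n) (Fin n ⊕ Fin n) (ZMod 2)) - 1).rank = 1} := by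
  have hD : ∀ g : Matrix.symplecticGroup (Fin n) (ZMod 2),
      g ∈ {g : Matrix.symplecticGroup (Fin n) (ZMod 2) |
        ((g : Matrix (Fin n ⊕ Fin n) (Fin n ⊕ Fin n) (ZMod 2)) - 1).rank = 1} ↔
      ∃ w : Fin n ⊕ Fin n → ZMod 2, w ≠ 0 ∧ g = tv n w := by
    intro g
    constructor
    · intro hg
      exact exists_tv_of_rank n g hg
    · rintro ⟨w, hw, rfl⟩
      exact rank_tv_sub_one n w hw
  have hneg : (-1 : ZMod 2) = 1 := by decide
  refine ⟨⟨?_, ?_⟩, ?_, ?_⟩
  · intro d hd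
    obtain ⟨w, hw, rfl⟩ := (hD d).1 hd
    apply orderOf_eq_prime
    · rw [pow_two]
      exact tv_mul_self n w
    · intro h
      have := rank_tv_sub_one n w hw
      rw [h] at this
      have h1 : ((1 : Matrix.symplecticGroup (Fin n) (ZMod 2)) :
          Matrix (Fin n ⊕ Fin n) (Fin n ⊕ Fin n) (ZMod 2)) - 1 = 0 := sub_self _
      rw [h1, Matrix.rank_zero] at this
      exact zero_ne_one this
  · intro d hd e he
    obtain ⟨v, hv, rfl⟩ := (hD d).1 hd
    obtain ⟨w, hw, rfl⟩ := (hD e).1 he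
    have hvi : (tv n v)⁻¹ = tv n v := inv_eq_of_mul_eq_one_right (tv_mul_self n v)
    have hwi : (tv n w)⁻¹ = tv n w := inv_eq_of_mul_eq_one_right (tv_mul_self n w)
    have h1 := conj_tv n (tv n v) w
    have h2 := conj_tv n (tv n w) v
    rw [tv_mulVec, hvi] at h1
    rw [tv_mulVec, hwi] at h2
    rcases zmod2_cases (sympForm n (ZMod 2) v w) with h | h
    · left
      rw [sympForm_swap, h, neg_zero, zero_smul, add_zero] at h1
      rw [pow_two]
      calc tv n v * tv n w * (tv n v * tv n w)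
          = (tv n v * tv n w * tv n v) * tv n w := by simp only [mul_assoc]
        _ = 1 := by rw [h1, tv_mul_self]
    · right
      rw [sympForm_swap, h, hneg, one_smul] at h1
      rw [h, one_smul, add_comm] at h2
      exact cube_of_braid _ _ (tv_mul_self n v) (tv_mul_self n w) (h1.trans h2.symm)
  · have he0 : (Pi.single (Sum.inl ⟨0, hn⟩) 1 : Fin n ⊕ Fin n → ZMod 2) ≠ 0 := by
      intro h
      have := congrFun h (Sum.inl ⟨0, hn⟩)
      rw [Pi.single_eq_same] at this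
      exact one_ne_zero this
    refine ⟨tv n (Pi.single (Sum.inl ⟨0, hn⟩) 1), (hD _).2 ⟨_, he0, rfl⟩, ?_⟩
    ext x
    show _ ↔ IsConj _ x
    rw [isConj_iff]
    constructor
    · intro hx
      obtain ⟨w, hw, rfl⟩ := (hD x).1 hx
      obtain ⟨g, hg⟩ := symp_transitive n _ w he0 hw
      exact ⟨g, by rw [conj_tv, hg]⟩
    · rintro ⟨c, rfl⟩
      rw [conj_tv]
      apply (hD _).2
      refine ⟨_, ?_, rfl⟩
      intro h0
      apply he0
      have h1 : ((c⁻¹ * c : Matrix.symplecticGroup (Fin n) (ZMod 2)) :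
          Matrix (Fin n ⊕ Fin n) (Fin n ⊕ Fin n) (ZMod 2)) *ᵥ
          (Pi.single (Sum.inl ⟨0, hn⟩) 1 : Fin n ⊕ Fin n → ZMod 2) = Pi.single (Sum.inl ⟨0, hn⟩) 1 := by
        rw [inv_mul_cancel]
        exact Matrix.one_mulVec _
      rw [coe_mul', ← Matrix.mulVec_mulVec, h0, Matrix.mulVec_zero] at h1
      exact h1.symm
  · have h765 := Cfsg.Agent.S0765.result (F := ZMod 2) n
    rw [eq_top_iff, ← h765]
    apply (Subgroup.closure_le _).2
    rintro A ⟨w, c, hA⟩
    rcases zmod2_cases c with rfl | rfl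
    · have : A = 1 := by
        apply Subtype.ext
        rw [hA]
        unfold sympTransvection
        rw [zero_smul, add_zero]
        rfl
      rw [this]
      exact Subgroup.one_mem _
    · by_cases hw : w = 0
      · have : A = 1 := by
          rw [← tv_zero n]
          apply Subtype.ext
          rw [hA, hw]
          rfl
        rw [this]
        exact Subgroup.one_mem _
      · apply Subgroup.subset_closure
        apply (hD A).2
        exact ⟨w, hw, Subtype.ext hA⟩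

end Cfsg.Agent.S0440
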