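import Cfsg.Statements.S0442
import Cfsg.Agent.Lib.Helper1.Invol

set_option autoImplicit false
open Cfsg

namespace Cfsg.Agent.S0442

/-- A standard trick for producing elements of an involution centraliser: for an involution a and an element g, let b be the conjugate g⁻¹ * a * g. If a * b has odd order 2m + 1 then g * (a * b) ^ m commutes with a; if a * b has even order 2m then (a * b) ^ m and (a * (g * a * g⁻¹)) ^ m commute with a. -/
theorem result {G : Type*} [Group G] (a g : G) (ha : orderOf a = 2) : (∀ m : ℕ, orderOf (a * (g⁻¹ * a * g)) = 2 * m + 1 → Commute (g * (a * (g⁻¹ * a * g)) ^ m) a) ∧ (∀ m : ℕ, orderOf (a * (g⁻¹ * a * g)) = 2 * m → Commute ((a * (g⁻¹ * a * g)) ^ m) a ∧ Commute ((a * (g * a * g⁻¹)) ^ m) a) := by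
  have ha2 := Cfsg.Agent.Lib.Helper1.sq_eq_one_of_orderOf_two ha
  have ha' : a⁻¹ = a := inv_eq_of_mul_eq_one_left ha2
  have hb2 : ∀ h : G, (h⁻¹ * a * h) * (h⁻¹ * a * h) = 1 := by
    intro h
    calc (h⁻¹ * a * h) * (h⁻¹ * a * h) = h⁻¹ * (a * a) * h := by group
      _ = 1 := by rw [ha2]; group
  constructor
  · intro m hm
    have hbinv : (g⁻¹ * a * g)⁻¹ = g⁻¹ * a * g := inv_eq_of_mul_eq_one_left (hb2 g)
    have hpow : (a * (g⁻¹ * a * g)) ^ (2 * m + 1) = 1 := by rw [← hm]; exact pow_orderOf_eq_one _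
    have hinv := Cfsg.Agent.Lib.Helper1.conj_mul_pow ha2 (hb2 g) m
    generalize hR : (a * (g⁻¹ * a * g)) ^ m = R at hinv ⊢
    have hRR : R * R = (a * (g⁻¹ * a * g))⁻¹ := by
      apply eq_inv_of_mul_eq_one_left
      rw [← hR, ← pow_add, ← pow_succ, ← hpow]
      congr 1; ring
    -- R a R⁻¹ = b
    have h1 : R * a * R⁻¹ = g⁻¹ * a * g := by
      rw [← hinv]
      calc R * a * (a * R * a) = R * (a * a) * R * a := by group
        _ = (R * R) * a := by rw [ha2, mul_one]
        _ = g⁻¹ * a * g := by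
          rw [hRR, mul_inv_rev, ha', hbinv, mul_assoc, ha2, mul_one]
    have h2 : R * a = g⁻¹ * a * g * R := mul_inv_eq_iff_eq_mul.1 h1
    show (g * R) * a = a * (g * R)
    calc g * R * a = g * (R * a) := by group
      _ = g * (g⁻¹ * a * g * R) := by rw [h2]
      _ = a * (g * R) := by group
  · intro m hm
    have key : ∀ h : G, orderOf (a * (h⁻¹ * a * h)) = 2 * m →
        Commute ((a * (h⁻¹ * a * h)) ^ m) a := by
      intro h hm'
      have hpow : (a * (h⁻¹ * a * h)) ^ (2 * m) = 1 := by rw [← hm']; exact pow_orderOf_eq_one _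
      have hinv := Cfsg.Agent.Lib.Helper1.conj_mul_pow ha2 (hb2 h) m
      have e3 : ((a * (h⁻¹ * a * h)) ^ m)⁻¹ = (a * (h⁻¹ * a * h)) ^ m := by
        apply inv_eq_of_mul_eq_one_left
        rw [← pow_add, ← two_mul]; exact hpow
      rw [e3] at hinv
      generalize (a * (h⁻¹ * a * h)) ^ m = R at hinv ⊢
      show R * a = a * R
      calc R * a = (a * a) * R * a := by rw [ha2, one_mul]
        _ = a * (a * R * a) := by group
        _ = a * R := by rw [hinv]
    refine ⟨key g hm, ?_⟩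
    have hord : orderOf (a * (g⁻¹⁻¹ * a * g⁻¹)) = 2 * m := by
      rw [← hm]
      have e : a * (g⁻¹⁻¹ * a * g⁻¹) = g * (a * (g⁻¹ * a * g))⁻¹ * g⁻¹ := by
        rw [mul_inv_rev, mul_inv_rev, mul_inv_rev, ha', inv_inv]; group
      rw [e, ← orderOf_inv (a * (g⁻¹ * a * g))]
      symm
      apply SemiconjBy.orderOf_eq g
      show g * (a * (g⁻¹ * a * g))⁻¹ = g * (a * (g⁻¹ * a * g))⁻¹ * g⁻¹ * g
      group
    have := key g⁻¹ hord
    rwa [inv_inv] at this

end Cfsg.Agent.S0442
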