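import Cfsg.Statements.S0443

set_option autoImplicit false
open Cfsg

namespace Cfsg.Agent.S0443

/-- an element of `2`-power order centralising a Sylow `2`-subgroup lies in it -/
theorem mem_sylow_of_centralizes {G : Type*} [Group G] {p : ℕ} [Fact p.Prime] (P : Sylow p G) (t : G)
    (ht : IsPGroup p (Subgroup.zpowers t))
    (hP : (P : Subgroup G) ≤ Subgroup.centralizer ({t} : Set G)) : t ∈ P := by
  have hnorm : Subgroup.zpowers t ≤ Subgroup.normalizer ((P : Subgroup G) : Set G) := by
    rw [Subgroup.zpowers_le]
    rw [Subgroup.mem_normalizer_iff]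
    intro x
    constructor
    · intro hx
      have hc := hP hx
      rw [Subgroup.mem_centralizer_iff] at hc
      have := hc t rfl
      have e : t * x * t⁻¹ = x := by rw [this]; group
      rw [e]; exact hx
    · intro hx
      have hc := hP hx
      rw [Subgroup.mem_centralizer_iff] at hc
      have := hc t rfl
      have e : x = t⁻¹ * (t * x * t⁻¹) * t := by group
      have e2 : t⁻¹ * (t * x * t⁻¹) * t = t * x * t⁻¹ := by
        calc t⁻¹ * (t * x * t⁻¹) * t = t⁻¹ * ((t * x * t⁻¹) * t) := by group
          _ = t⁻¹ * (t * (t * x * t⁻¹)) := by rw [this]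
          _ = t * x * t⁻¹ := by group
      rw [e, e2]; exact hx
  have hsup : IsPGroup p (Subgroup.zpowers t ⊔ (P : Subgroup G) : Subgroup G) :=
    IsPGroup.to_sup_of_normal_right' ht P.2 hnorm
  have := P.is_maximal' hsup le_sup_right
  have ht' : t ∈ Subgroup.zpowers t ⊔ (P : Subgroup G) :=
    (le_sup_left : Subgroup.zpowers t ≤ _) (Subgroup.mem_zpowers t)
  rw [this] at ht'
  exact ht'


/-- Two definitions of a 2-central involution agree: an element t of order 2 of a finite group lies in the centre of some Sylow 2-subgroup if and only if its centraliser contains some Sylow 2-subgroup. -/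
theorem result {G : Type*} [Group G] [Finite G] (t : G) (ht : orderOf t = 2) : Cfsg.IsTwoCentralInvolution t ↔ ∃ P : Sylow 2 G, (P : Subgroup G) ≤ Subgroup.centralizer ({t} : Set G) := by
  constructor
  · rintro ⟨_, P, htP, hcomm⟩
    refine ⟨P, ?_⟩
    intro x hx
    rw [Subgroup.mem_centralizer_iff]
    intro y hy
    rw [Set.mem_singleton_iff] at hy
    subst hy
    exact (hcomm x hx).symm
  · rintro ⟨P, hP⟩
    refine ⟨ht, P, ?_, ?_⟩
    · apply mem_sylow_of_centralizes P t _ hP
      apply IsPGroup.of_card (n := 1)
      rw [Nat.card_zpowers, ht, pow_one]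
    · intro x hx
      have hc := hP hx
      rw [Subgroup.mem_centralizer_iff] at hc
      exact (hc t rfl).symm

end Cfsg.Agent.S0443
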