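import Cfsg.Statements.S0444
import Cfsg.Agent.Lib.Helper1.Dih2

set_option autoImplicit false
open Cfsg

namespace Cfsg.Agent.S0444

/-- the symmetric group on three letters is dihedral of order six -/
theorem perm3_dihedral : Nonempty (Equiv.Perm (Fin 3) ≃* DihedralGroup 3) := by
  let s1 : Equiv.Perm (Fin 3) := Equiv.swap 0 1
  let s2 : Equiv.Perm (Fin 3) := Equiv.swap 1 2
  have h1 : orderOf s1 = 2 := by
    rw [Cfsg.Agent.Lib.Helper1.orderOf_eq_two_iff']
    constructor <;> decide
  have h2 : orderOf s2 = 2 := by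
    rw [Cfsg.Agent.Lib.Helper1.orderOf_eq_two_iff']
    constructor <;> decide
  have h12 : s1 ≠ s2 := by decide
  have h3 : orderOf (s1 * s2) = 3 := by
    haveI : Fact (Nat.Prime 3) := ⟨Nat.prime_three⟩
    apply orderOf_eq_prime
    · decide
    · decide
  obtain ⟨e⟩ := Cfsg.Agent.Lib.Helper1.nonempty_mulEquiv_dihedral h1 h2 h12
  rw [h3] at e
  have hcard : Nat.card (Subgroup.closure ({s1, s2} : Set (Equiv.Perm (Fin 3)))) = 6 := by
    rw [Nat.card_congr e.toEquiv, DihedralGroup.nat_card]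
  have htop : Subgroup.closure ({s1, s2} : Set (Equiv.Perm (Fin 3))) = ⊤ := by
    apply Subgroup.eq_top_of_card_eq
    rw [hcard, Nat.card_eq_fintype_card, Fintype.card_perm, Fintype.card_fin]
    rfl
  rw [htop] at e
  exact ⟨Subgroup.topEquiv.symm.trans e⟩


/-- Two members of a set of 3-transpositions which do not commute generate a subgroup isomorphic to the symmetric group on three letters. -/
theorem result {G : Type*} [Group G] {E : Set G} (hE : Cfsg.IsThreeTranspositionSet E) {d e : G} (hd : d ∈ E) (he : e ∈ E) (h : ¬ Commute d e) : Nonempty (Subgroup.closure ({d, e} : Set G) ≃* Equiv.Perm (Fin 3)) := by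
  obtain ⟨hE2, hE3⟩ := hE
  have hd2 := Cfsg.Agent.Lib.Helper1.sq_eq_one_of_orderOf_two (hE2 d hd)
  have he2 := Cfsg.Agent.Lib.Helper1.sq_eq_one_of_orderOf_two (hE2 e he)
  have hne : d ≠ e := by
    intro heq
    apply h
    rw [heq]
  have h3 : orderOf (d * e) = 3 := by
    haveI : Fact (Nat.Prime 3) := ⟨Nat.prime_three⟩
    apply orderOf_eq_prime
    · rcases hE3 d hd e he with h2 | h3
      · exact absurd (Cfsg.Agent.Lib.Helper1.commute_of_mul_sq hd2 he2 h2) h
      · exact h3
    · intro h1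
      apply hne
      have : d = e⁻¹ := eq_inv_of_mul_eq_one_left h1
      rw [this, inv_eq_of_mul_eq_one_left he2]
  obtain ⟨f⟩ := Cfsg.Agent.Lib.Helper1.nonempty_mulEquiv_dihedral (hE2 d hd) (hE2 e he) hne
  rw [h3] at f
  obtain ⟨g⟩ := perm3_dihedral
  exact ⟨f.trans g.symm⟩

end Cfsg.Agent.S0444
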