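import Cfsg.Statements.S0445
import Mathlib
import Cfsg.Agent.Lib.Helper1.SLCard

set_option autoImplicit false
open Cfsg

namespace Cfsg.Agent.S0445


open Matrix

/-- the conditions on a matrix commuting with the transvection -/
def Cond (g : Matrix (Fin 5) (Fin 5) (ZMod 2)) : Prop :=
  g 0 0 = 1 ∧ (∀ i : Fin 4, g i.succ 0 = 0) ∧ g 1 1 = 1 ∧ (∀ j : Fin 3, g 1 j.succ.succ = 0)

def f3 : Fin 3 → Fin 5 := fun i => i.succ.succ

theorem zmod2_cases (c : ZMod 2) : c = 0 ∨ c = 1 := by
  revert c; decide

theorem commute_iff (g : Matrix (Fin 5) (Fin 5) (ZMod 2)) (hdet : g.det = 1) :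
    Matrix.transvection 0 1 1 * g = g * Matrix.transvection 0 1 1 ↔ Cond g := by
  unfold Matrix.transvection
  rw [Matrix.add_mul, Matrix.mul_add, Matrix.one_mul, Matrix.mul_one, add_right_inj]
  constructor
  · intro h
    have hent : ∀ i j : Fin 5, (Matrix.single (0 : Fin 5) (1 : Fin 5) (1 : ZMod 2) * g) i j =
        (g * Matrix.single (0 : Fin 5) (1 : Fin 5) (1 : ZMod 2)) i j := fun i j => by rw [h]
    have hcol : ∀ i : Fin 4, g i.succ 0 = 0 := by
      intro i
      have := hent i.succ 1
      rw [Matrix.single_mul_apply_of_ne (h := Fin.succ_ne_zero i),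
        Matrix.mul_single_apply_same, mul_one] at this
      exact this.symm
    have hrow : ∀ j : Fin 3, g 1 j.succ.succ = 0 := by
      intro j
      have := hent 0 j.succ.succ
      rw [Matrix.single_mul_apply_same, one_mul,
        Matrix.mul_single_apply_of_ne (hbj := by
          intro h
          exact Fin.succ_ne_zero j (Fin.succ_injective _ h))] at this
      exact this
    have h01 : g 1 1 = g 0 0 := by
      have := hent 0 1
      rw [Matrix.single_mul_apply_same, one_mul, Matrix.mul_single_apply_same, mul_one] at this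
      exact this
    have h00 : g 0 0 = 1 := by
      rcases zmod2_cases (g 0 0) with h0 | h0
      · exfalso
        have : g.det = 0 := by
          apply Matrix.det_eq_zero_of_column_eq_zero 0
          intro i
          refine Fin.cases ?_ (fun i' => ?_) i
          · exact h0
          · exact hcol i'
        rw [hdet] at this
        exact one_ne_zero this
      · exact h0
    exact ⟨h00, hcol, h01.trans h00, hrow⟩
  · rintro ⟨h00, hcol, h11, hrow⟩
    ext i j
    by_cases hi : i = 0
    · subst hi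
      rw [Matrix.single_mul_apply_same, one_mul]
      by_cases hj : j = 1
      · subst hj
        rw [Matrix.mul_single_apply_same, mul_one, h00, h11]
      · rw [Matrix.mul_single_apply_of_ne (hbj := hj)]
        revert hj
        refine Fin.cases ?_ (fun j' => ?_) j
        · intro _
          exact hcol 0
        · refine Fin.cases ?_ (fun j'' => ?_) j'
          · intro hj
            exact absurd rfl hj
          · intro _
            exact hrow j''
    · rw [Matrix.single_mul_apply_of_ne (h := hi)]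
      by_cases hj : j = 1
      · subst hj
        rw [Matrix.mul_single_apply_same, mul_one]
        obtain ⟨i', rfl⟩ := Fin.exists_succ_eq.2 hi
        exact (hcol i').symm
      · rw [Matrix.mul_single_apply_of_ne (hbj := hj)]

theorem det_eq (g : Matrix (Fin 5) (Fin 5) (ZMod 2)) (hg : Cond g) :
    g.det = (g.submatrix f3 f3).det := by
  obtain ⟨h00, hcol, h11, hrow⟩ := hg
  rw [Matrix.det_succ_column_zero, Fin.sum_univ_succ]
  have hz : ∑ i : Fin 4, (-1 : ZMod 2) ^ ((i.succ : Fin 5) : ℕ) * g i.succ 0 *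
      (g.submatrix i.succ.succAbove Fin.succ).det = 0 := by
    apply Finset.sum_eq_zero
    intro i _
    rw [hcol i, mul_zero, zero_mul]
  rw [hz, add_zero, h00, Fin.val_zero, pow_zero, one_mul, one_mul, Fin.succAbove_zero]
  rw [Matrix.det_succ_row_zero, Fin.sum_univ_succ]
  have hz2 : ∑ j : Fin 3, (-1 : ZMod 2) ^ ((j.succ : Fin 4) : ℕ) *
      (g.submatrix Fin.succ Fin.succ) 0 j.succ *
      ((g.submatrix Fin.succ Fin.succ).submatrix Fin.succ j.succ.succAbove).det = 0 := by
    apply Finset.sum_eq_zero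
    intro j _
    have : (g.submatrix Fin.succ Fin.succ) 0 j.succ = 0 := hrow j
    rw [this, mul_zero, zero_mul]
  rw [hz2, add_zero]
  have h1 : (g.submatrix Fin.succ Fin.succ) 0 0 = 1 := h11
  rw [h1, Fin.val_zero, pow_zero, one_mul, one_mul, Fin.succAbove_zero]
  rfl

/-- the matrix built from the free entries -/
def build (c : ZMod 2) (a b : Fin 3 → ZMod 2) (A : Matrix (Fin 3) (Fin 3) (ZMod 2)) :
    Matrix (Fin 5) (Fin 5) (ZMod 2) :=
  Matrix.of (Fin.cons (Fin.cons 1 (Fin.cons c a))
    (Fin.cons (Fin.cons 0 (Fin.cons 1 0)) (fun k => Fin.cons 0 (Fin.cons (b k) (A k)))))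

theorem cond_build (c : ZMod 2) (a b : Fin 3 → ZMod 2) (A : Matrix (Fin 3) (Fin 3) (ZMod 2)) :
    Cond (build c a b A) := by
  refine ⟨rfl, ?_, rfl, ?_⟩
  · intro i
    refine Fin.cases ?_ (fun i' => ?_) i
    · rfl
    · rfl
  · intro j
    rfl

theorem build_sub (c : ZMod 2) (a b : Fin 3 → ZMod 2) (A : Matrix (Fin 3) (Fin 3) (ZMod 2)) :
    (build c a b A).submatrix f3 f3 = A := by
  ext i j
  rfl

theorem build_eq (g : Matrix (Fin 5) (Fin 5) (ZMod 2)) (hg : Cond g) :
    build (g 0 1) (fun j => g 0 (f3 j)) (fun i => g (f3 i) 1) (g.submatrix f3 f3) = g := by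
  obtain ⟨h00, hcol, h11, hrow⟩ := hg
  ext i j
  refine Fin.cases ?_ (fun i' => Fin.cases ?_ (fun i'' => ?_) i') i
  · refine Fin.cases ?_ (fun j' => Fin.cases ?_ (fun j'' => ?_) j') j
    · exact h00.symm
    · rfl
    · rfl
  · refine Fin.cases ?_ (fun j' => Fin.cases ?_ (fun j'' => ?_) j') j
    · exact (hcol 0).symm
    · exact h11.symm
    · exact (hrow j'').symm
  · refine Fin.cases ?_ (fun j' => Fin.cases ?_ (fun j'' => ?_) j') j
    · exact (hcol i''.succ).symm
    · rfl
    · rfl

/-- the parametrisation -/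
noncomputable def paramEquiv :
    {g : Matrix (Fin 5) (Fin 5) (ZMod 2) // Cond g ∧ g.det = 1} ≃
      ZMod 2 × (Fin 3 → ZMod 2) × (Fin 3 → ZMod 2) ×
        Matrix.SpecialLinearGroup (Fin 3) (ZMod 2) where
  toFun g := (g.1 0 1, fun j => g.1 0 (f3 j), fun i => g.1 (f3 i) 1,
    ⟨g.1.submatrix f3 f3, by rw [← det_eq g.1 g.2.1]; exact g.2.2⟩)
  invFun x := ⟨build x.1 x.2.1 x.2.2.1 x.2.2.2.1, cond_build _ _ _ _, by
    rw [det_eq _ (cond_build _ _ _ _), build_sub]; exact x.2.2.2.2⟩
  left_inv g := by
    apply Subtype.ext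
    exact build_eq g.1 g.2.1
  right_inv x := by
    obtain ⟨c, a, b, A, hA⟩ := x
    rfl

theorem card_SL3 : Nat.card (Matrix.SpecialLinearGroup (Fin 3) (ZMod 2)) = 168 := by
  have := Cfsg.Agent.Lib.Helper1.card_SL_field (F := ZMod 2) 3 (by norm_num)
  rw [ZMod.card 2, Fin.prod_univ_three] at this
  have h0 : ((0 : Fin 3) : ℕ) = 0 := rfl
  have h1 : ((1 : Fin 3) : ℕ) = 1 := rfl
  have h2 : ((2 : Fin 3) : ℕ) = 2 := rfl
  rw [h0, h1, h2] at this
  omega


/-- In the special linear group of dimension 5 over the field with two elements, the centraliser of a transvection has order 21504 = 2 ^ 7 · 168 (it is an extension of an extraspecial group of order 2 ^ 7 by the simple group of order 168). -/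
theorem result (s : Matrix.SpecialLinearGroup (Fin 5) (ZMod 2)) (hs : (s : Matrix (Fin 5) (Fin 5) (ZMod 2)) = Matrix.transvection 0 1 1) : Nat.card (Subgroup.centralizer ({s} : Set (Matrix.SpecialLinearGroup (Fin 5) (ZMod 2)))) = 21504 := by
  have hmem : ∀ g : Matrix.SpecialLinearGroup (Fin 5) (ZMod 2),
      g ∈ Subgroup.centralizer ({s} : Set (Matrix.SpecialLinearGroup (Fin 5) (ZMod 2))) ↔
        Cond (g : Matrix (Fin 5) (Fin 5) (ZMod 2)) := by
    intro g
    rw [Subgroup.mem_centralizer_iff, ← commute_iff _ g.2, ← hs]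
    constructor
    · intro h
      have := h s rfl
      exact congrArg Subtype.val this
    · intro h x hx
      rw [Set.mem_singleton_iff] at hx
      subst hx
      exact Subtype.ext h
  have e1 : ↥(Subgroup.centralizer ({s} : Set (Matrix.SpecialLinearGroup (Fin 5) (ZMod 2)))) ≃
      {g : Matrix (Fin 5) (Fin 5) (ZMod 2) // Cond g ∧ g.det = 1} :=
    { toFun := fun g => ⟨(g.1 : Matrix (Fin 5) (Fin 5) (ZMod 2)), (hmem g.1).1 g.2, g.1.2⟩
      invFun := fun m => ⟨⟨m.1, m.2.2⟩, (hmem _).2 m.2.1⟩
      left_inv := fun g => rfl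
      right_inv := fun m => rfl }
  rw [Nat.card_congr (e1.trans paramEquiv), Nat.card_prod, Nat.card_prod, Nat.card_prod, card_SL3,
    Nat.card_eq_fintype_card, Nat.card_eq_fintype_card, ZMod.card, Fintype.card_fun, ZMod.card,
    Fintype.card_fin]
  rfl

end Cfsg.Agent.S0445
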