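import Cfsg.Statements.S0481
import Mathlib

set_option autoImplicit false
open Cfsg

namespace Cfsg.Agent.S0481

/-- Large extraspecial subgroups: let z be an involution of a finite group G whose centraliser C contains a normal 2-subgroup Q with centre of order 2 and all squares central, such that every element of G centralising Q lies in Q. Then C contains a Sylow 2-subgroup of G, and any involution of G whose centraliser contains a Sylow 2-subgroup of G is conjugate to z. -/
theorem result {G : Type*} [Group G] [Finite G] (z : G) (hz : orderOf z = 2) (Q : Subgroup G) (hQC : Q ≤ Subgroup.centralizer ({z} : Set G)) (hQn : ∀ g ∈ Subgroup.centralizer ({z} : Set G), ∀ q ∈ Q, g * q * g⁻¹ ∈ Q) (hQ2 : IsPGroup 2 Q) (hZ : Nat.card (Subgroup.center Q) = 2) (hsq : ∀ x : Q, x ^ 2 ∈ Subgroup.center Q) (hlarge : Subgroup.centralizer (Q : Set G) ≤ Q) : (∃ P : Sylow 2 G, (P : Subgroup G) ≤ Subgroup.centralizer ({z} : Set G)) ∧ ∀ u : G, orderOf u = 2 → (∃ P : Sylow 2 G, (P : Subgroup G) ≤ Subgroup.centralizer ({u} : Set G))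 → IsConj z u := by
  classical
  haveI : Fact (Nat.Prime 2) := ⟨Nat.prime_two⟩
  have hz1 : z ≠ 1 := by
    intro h; rw [h, orderOf_one] at hz; norm_num at hz
  have hz2 : z ^ 2 = 1 := by rw [← hz]; exact pow_orderOf_eq_one z
  have hzQ : z ∈ Q := by
    apply hlarge
    rw [Subgroup.mem_centralizer_iff]
    intro q hq
    have := hQC hq
    rw [Subgroup.mem_centralizer_iff] at this
    exact (this z (Set.mem_singleton z)).symm
  have hzc : (⟨z, hzQ⟩ : Q) ∈ Subgroup.center Q := by
    rw [Subgroup.mem_center_iff]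
    intro g
    apply Subtype.ext
    have := hQC g.2
    rw [Subgroup.mem_centralizer_iff] at this
    exact (this z (Set.mem_singleton z)).symm
  have key : ∀ x : G, (∀ q ∈ Q, q * x = x * q) → x = 1 ∨ x = z := by
    intro x hx
    have hxQ : x ∈ Q := hlarge (Subgroup.mem_centralizer_iff.2 hx)
    have hxc : (⟨x, hxQ⟩ : Q) ∈ Subgroup.center Q := by
      rw [Subgroup.mem_center_iff]
      intro g
      apply Subtype.ext
      exact hx g g.2
    have hzc1 : (⟨⟨z, hzQ⟩, hzc⟩ : Subgroup.center Q) ≠ 1 := by
      intro h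
      apply hz1
      have := congrArg (fun t : Subgroup.center Q => ((t : Q) : G)) h
      exact this
    have hmem := mem_zpowers_of_prime_card (G := Subgroup.center Q) hZ hzc1
      (g' := ⟨⟨x, hxQ⟩, hxc⟩)
    obtain ⟨k, hk⟩ := Subgroup.mem_zpowers_iff.1 hmem
    have hk' : z ^ k = x := by
      have := congrArg (fun t : Subgroup.center Q => ((t : Q) : G)) hk
      simpa using this
    rcases Int.even_or_odd' k with ⟨j, rfl | rfl⟩
    · left; rw [← hk', zpow_mul, zpow_ofNat, hz2, one_zpow]
    · right; rw [← hk', zpow_add, zpow_mul, zpow_ofNat, hz2, one_zpow, one_mul, zpow_one]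
  obtain ⟨P, hQP⟩ := hQ2.exists_le_sylow
  have hzP : z ∈ (P : Subgroup G) := hQP hzQ
  haveI : Nontrivial (P : Subgroup G) :=
    ⟨⟨⟨z, hzP⟩, 1, by intro h; exact hz1 (congrArg Subtype.val h)⟩⟩
  have hcn : Nontrivial (Subgroup.center (P : Subgroup G)) :=
    IsPGroup.center_nontrivial P.isPGroup'
  obtain ⟨c, hc⟩ := exists_ne (1 : Subgroup.center (P : Subgroup G))
  have hcz : ((c : (P : Subgroup G)) : G) = z := by
    have h1 := key ((c : (P : Subgroup G)) : G) (fun q hq => by
      have hcc := Subgroup.mem_center_iff.1 c.2 ⟨q, hQP hq⟩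
      exact congrArg Subtype.val hcc)
    rcases h1 with h | h
    · exfalso
      apply hc
      apply Subtype.ext
      apply Subtype.ext
      exact h
    · exact h
  refine ⟨⟨P, ?_⟩, ?_⟩
  · intro g hg
    rw [Subgroup.mem_centralizer_iff]
    intro h hh
    rw [Set.mem_singleton_iff] at hh
    subst hh
    have hcc := Subgroup.mem_center_iff.1 c.2 ⟨g, hg⟩
    have h2 := congrArg Subtype.val hcc
    simp only [Subgroup.coe_mul] at h2
    rw [hcz] at h2
    exact h2.symm
  · rintro u hu ⟨P', hP'⟩
    obtain ⟨g, hg⟩ := MulAction.exists_smul_eq G P' P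
    have hu1 : u ≠ 1 := by
      intro h; rw [h, orderOf_one] at hu; norm_num at hu
    have h1 := key (g * u * g⁻¹) (fun q hq => by
      have hqP : q ∈ (P : Subgroup G) := hQP hq
      rw [← hg, Sylow.coe_subgroup_smul, Subgroup.mem_pointwise_smul_iff_inv_smul_mem] at hqP
      have h3 := hP' hqP
      rw [Subgroup.mem_centralizer_iff] at h3
      have h4 := h3 u (Set.mem_singleton u)
      simp only [MulAut.smul_def, MulAut.conj_inv_apply] at h4
      have e1 : q * (g * u * g⁻¹) = g * (g⁻¹ * q * g * u) * g⁻¹ := by group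
      have e2 : g * u * g⁻¹ * q = g * (u * (g⁻¹ * q * g)) * g⁻¹ := by group
      rw [e1, e2, h4])
    rcases h1 with h | h
    · exfalso
      apply hu1
      have e : u = g⁻¹ * (g * u * g⁻¹) * g := by group
      rw [e, h]; group
    · rw [isConj_iff]
      refine ⟨g⁻¹, ?_⟩
      rw [← h]; group

end Cfsg.Agent.S0481
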