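import Mathlib
import Cfsg.Statements.S0498
import Cfsg.Agent.Lib.Helper1.SmallSimple
import Cfsg.Agent.Lib.Helper1.SimpleAct
import Cfsg.Agent.Lib.Helper1.PSL2Small
import Cfsg.Agent.Lib.Helper7.Syl15Base
import Cfsg.Agent.Lib.Helper7.SylCyc

set_option autoImplicit false
open Cfsg

namespace Cfsg.Agent.S0498.P11

/-! ## Concrete permutations of the projective line over `Fin 11` -/

abbrev Pt := Option (Fin 11)

def Uperm : Equiv.Perm Pt := Equiv.optionCongr (Equiv.addRight (1 : Fin 11))

def mulm : Equiv.Perm (Fin 11) := ⟨fun x => 4 * x, fun x => 3 * x, by decide, by decide⟩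

def Hperm : Equiv.Perm Pt := Equiv.optionCongr mulm

def Tfun (v : Fin 11 → Pt) : Pt → Pt := fun o =>
  match o with
  | none => some 0
  | some x => v x

def Tcv0 : Fin 11 → Pt := ![none, some 10, some 5, some 7, some 8, some 2, some 9, some 3, some 4, some 6, some 1]
def Tcv1 : Fin 11 → Pt := ![none, some 7, some 9, some 6, some 10, some 8, some 3, some 1, some 5, some 2, some 4]
def Tcv2 : Fin 11 → Pt := ![none, some 6, some 3, some 2, some 7, some 10, some 1, some 4, some 9, some 8, some 5]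
def Tcv3 : Fin 11 → Pt := ![none, some 2, some 1, some 8, some 6, some 7, some 4, some 5, some 3, some 10, some 9]
def Tcv4 : Fin 11 → Pt := ![none, some 8, some 4, some 10, some 2, some 6, some 5, some 9, some 1, some 7, some 3]

def Tc0 : Equiv.Perm Pt := ⟨Tfun Tcv0, Tfun Tcv0, by decide, by decide⟩
def Tc1 : Equiv.Perm Pt := ⟨Tfun Tcv1, Tfun Tcv1, by decide, by decide⟩
def Tc2 : Equiv.Perm Pt := ⟨Tfun Tcv2, Tfun Tcv2, by decide, by decide⟩
def Tc3 : Equiv.Perm Pt := ⟨Tfun Tcv3, Tfun Tcv3, by decide, by decide⟩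
def Tc4 : Equiv.Perm Pt := ⟨Tfun Tcv4, Tfun Tcv4, by decide, by decide⟩

theorem Tc1_eq : Tc1 = Hperm ^ 1 * Tc0 := by
  apply Equiv.ext
  decide

theorem Tc2_eq : Tc2 = Hperm ^ 2 * Tc0 := by
  apply Equiv.ext
  decide

theorem Tc3_eq : Tc3 = Hperm ^ 3 * Tc0 := by
  apply Equiv.ext
  decide

theorem Tc4_eq : Tc4 = Hperm ^ 4 * Tc0 := by
  apply Equiv.ext
  decide

def Fab (c a b : Fin 11) : Pt → Pt := Tfun ![none, some (a), some (b), some (c * (c * (c * (c * a)))), some (c * a), some (c * (c * a)), some (c * (c * (c * (c * b)))), some (c * (c * (c * b))), some (c * b), some (c * (c * (c * a))), some (c * (c * b))]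

def sqs : List (Fin 11) := [1, 4, 5, 9, 3]

def Wf (F : Pt → Pt) (i a : Fin 11) (x : Pt) : Pt :=
  F (Option.map (fun y => y - a) (F (Option.map (fun y => y + i) (F x))))

def getv (o : Pt) : Fin 11 := o.getD 0

abbrev CondAux (F : Pt → Pt) (i a e c : Fin 11) : Prop :=
  c ∈ sqs ∧ ∀ x : Pt, Wf F i a x = Option.map (fun y => c * y + e) x

abbrev Cond (F : Pt → Pt) (i a : Fin 11) : Prop :=
  CondAux F i a (getv (Wf F i a (some 0))) (getv (Wf F i a (some 1)) - getv (Wf F i a (some 0)))

set_option synthInstance.maxHeartbeats 400000 in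
set_option synthInstance.maxSize 1024 in
set_option maxRecDepth 100000 in
theorem Fab_cases : ∀ c a b : Fin 11, c ∈ sqs → Cond (Fab c a b) 1 (getv (Fab c a b (some 1))) → Cond (Fab c a b) 2 (getv (Fab c a b (some 2))) →
    Fab c a b = Tfun Tcv0 ∨ Fab c a b = Tfun Tcv1 ∨ Fab c a b = Tfun Tcv2 ∨ Fab c a b = Tfun Tcv3 ∨ Fab c a b = Tfun Tcv4 := by
  decide


open Fin.CommRing

theorem U_apply (o : Pt) : Uperm o = Option.map (fun y => y + 1) o := by
  cases o <;> rfl

theorem H_apply (o : Pt) : Hperm o = Option.map (fun y => 4 * y) o := by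
  cases o <;> rfl

theorem Upow_apply (n : ℕ) (o : Pt) :
    (Uperm ^ n) o = Option.map (fun y => y + (n : Fin 11)) o := by
  induction n generalizing o with
  | zero => cases o <;> simp
  | succ n ih =>
    rw [pow_succ, Equiv.Perm.mul_apply, U_apply, ih]
    cases o with
    | none => rfl
    | some y =>
      show some (y + 1 + (n : Fin 11)) = some (y + ((n + 1 : ℕ) : Fin 11))
      rw [Nat.cast_succ]
      congr 1
      ring

theorem Hpow_apply (n : ℕ) (o : Pt) :
    (Hperm ^ n) o = Option.map (fun y => (4 : Fin 11) ^ n * y) o := by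
  induction n generalizing o with
  | zero => cases o <;> simp
  | succ n ih =>
    rw [pow_succ, Equiv.Perm.mul_apply, H_apply, ih]
    cases o with
    | none => rfl
    | some y =>
      show some ((4 : Fin 11) ^ n * (4 * y)) = some ((4 : Fin 11) ^ (n + 1) * y)
      congr 1
      ring

theorem Upow_inv_apply (n : ℕ) (o : Pt) :
    (Uperm ^ n)⁻¹ o = Option.map (fun y => y - (n : Fin 11)) o := by
  rw [Equiv.Perm.inv_eq_iff_eq, Upow_apply]
  cases o with
  | none => rfl
  | some y =>
    show some y = some (y - (n : Fin 11) + (n : Fin 11))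
    congr 1
    ring

theorem pow_mem_sqs (z : ℕ) : (4 : Fin 11) ^ z ∈ sqs := by
  have hd : (4 : Fin 11) ^ 5 = 1 := by decide
  have key : ∀ r : Fin 5, (4 : Fin 11) ^ (r : ℕ) ∈ sqs := by decide
  rw [pow_eq_pow_mod z hd]
  exact key ⟨z % 5, Nat.mod_lt _ (by norm_num)⟩

theorem Cond_of_aff (F : Pt → Pt) (i a c e : Fin 11) (hc : c ∈ sqs)
    (hW : ∀ x, Wf F i a x = Option.map (fun y => c * y + e) x) : Cond F i a := by
  have h0 : getv (Wf F i a (some 0)) = e := by
    rw [hW]
    show c * 0 + e = e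
    ring
  have h1 : getv (Wf F i a (some 1)) - getv (Wf F i a (some 0)) = c := by
    rw [h0, hW]
    show c * 1 + e - e = c
    ring
  unfold Cond
  rw [h1, h0]
  exact ⟨hc, hW⟩

theorem lemmaD (π : Equiv.Perm Pt) (h0 : π none = some 0) (h00 : π (some 0) = none)
    (k : ℕ) (hrel : π * Hperm * π⁻¹ = Hperm ^ k)
    (hbr : ∀ i a : Fin 11, i ≠ 0 → π (some i) = some a → ∃ b z : ℕ,
      π * (Uperm ^ (a : ℕ))⁻¹ * π * Uperm ^ (i : ℕ) * π = Uperm ^ b * Hperm ^ z) :
    ∃ j : ℕ, π = Hperm ^ j * Tc0 := by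
  obtain ⟨c, hcdef⟩ : ∃ c : Fin 11, c = (4 : Fin 11) ^ k := ⟨_, rfl⟩
  have hrel' : ∀ x y : Fin 11, π (some x) = some y → π (some (4 * x)) = some (c * y) := by
    intro x y hxy
    have h := mul_inv_eq_iff_eq_mul.1 hrel
    have h' := DFunLike.congr_fun h (some x)
    rw [Equiv.Perm.mul_apply, Equiv.Perm.mul_apply, H_apply, hxy, Hpow_apply, ← hcdef] at h'
    exact h'
  have hsome : ∀ x : Fin 11, x ≠ 0 → ∃ y : Fin 11, π (some x) = some y := by
    intro x hx
    cases hπx : π (some x) with
    | none =>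
      exfalso
      have := π.injective (hπx.trans h00.symm)
      exact hx (Option.some_injective _ this)
    | some y => exact ⟨y, rfl⟩
  obtain ⟨a, ha⟩ := hsome 1 (by decide)
  obtain ⟨b, hb⟩ := hsome 2 (by decide)
  have es0 : π (some 1) = some a := ha
  have es1 : π (some 4) = some (c * a) := hrel' 1 _ es0
  have es2 : π (some 5) = some (c * (c * a)) := hrel' 4 _ es1
  have es3 : π (some 9) = some (c * (c * (c * a))) := hrel' 5 _ es2
  have es4 : π (some 3) = some (c * (c * (c * (c * a)))) := hrel' 9 _ es3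
  have en0 : π (some 2) = some b := hb
  have en1 : π (some 8) = some (c * b) := hrel' 2 _ en0
  have en2 : π (some 10) = some (c * (c * b)) := hrel' 8 _ en1
  have en3 : π (some 7) = some (c * (c * (c * b))) := hrel' 10 _ en2
  have en4 : π (some 6) = some (c * (c * (c * (c * b)))) := hrel' 7 _ en3
  have hF : ⇑π = Fab c a b := by
    funext o
    match o with
    | none => exact h0
    | some x =>
      fin_cases x
      · exact h00
      · exact es0
      · exact en0
      · exact es4
      · exact es1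
      · exact es2
      · exact en4
      · exact en3
      · exact en1
      · exact es3
      · exact en2
  have hCond : ∀ i : Fin 11, i ≠ 0 → Cond (Fab c a b) i (getv (Fab c a b (some i))) := by
    intro i hi
    obtain ⟨ai, hai⟩ := hsome i hi
    have hgv : getv (Fab c a b (some i)) = ai := by
      rw [← hF, hai]
      rfl
    rw [hgv]
    obtain ⟨b', z, hbz⟩ := hbr i ai hi hai
    apply Cond_of_aff (Fab c a b) i ai ((4 : Fin 11) ^ z) (b' : Fin 11) (pow_mem_sqs z)
    intro x
    have h' := DFunLike.congr_fun hbz x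
    simp only [Equiv.Perm.mul_apply] at h'
    rw [Upow_inv_apply, Upow_apply, Upow_apply, Hpow_apply, Fin.cast_val_eq_self,
      Fin.cast_val_eq_self, Option.map_map] at h'
    rw [← hF]
    exact h'
  have hcs : c ∈ sqs := by
    rw [hcdef]
    exact pow_mem_sqs k
  rcases Fab_cases c a b hcs (hCond 1 (by decide)) (hCond 2 (by decide)) with h | h | h | h | h
  · refine ⟨0, ?_⟩
    rw [pow_zero, one_mul]
    apply Equiv.ext
    intro o
    rw [hF, h]; rfl
  · refine ⟨1, ?_⟩
    rw [← Tc1_eq]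
    apply Equiv.ext
    intro o
    rw [hF, h]; rfl
  · refine ⟨2, ?_⟩
    rw [← Tc2_eq]
    apply Equiv.ext
    intro o
    rw [hF, h]; rfl
  · refine ⟨3, ?_⟩
    rw [← Tc3_eq]
    apply Equiv.ext
    intro o
    rw [hF, h]; rfl
  · refine ⟨4, ?_⟩
    rw [← Tc4_eq]
    apply Equiv.ext
    intro o
    rw [hF, h]; rfl

theorem closure_mulpow {Γ : Type*} [Group Γ] (a b t : Γ) (j : ℕ) :
    Subgroup.closure ({a, b, b ^ j * t} : Set Γ) = Subgroup.closure ({a, b, t} : Set Γ) := by
  apply le_antisymm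
  · rw [Subgroup.closure_le]
    intro x hx
    simp only [Set.mem_insert_iff, Set.mem_singleton_iff] at hx
    have hb : b ∈ Subgroup.closure ({a, b, t} : Set Γ) := Subgroup.subset_closure (by simp)
    have ht : t ∈ Subgroup.closure ({a, b, t} : Set Γ) := Subgroup.subset_closure (by simp)
    rcases hx with rfl | rfl | rfl
    · exact Subgroup.subset_closure (by simp)
    · exact hb
    · exact Subgroup.mul_mem _ (Subgroup.pow_mem _ hb j) ht
  · rw [Subgroup.closure_le]
    intro x hx
    simp only [Set.mem_insert_iff, Set.mem_singleton_iff] at hx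
    have hb : b ∈ Subgroup.closure ({a, b, b ^ j * t} : Set Γ) :=
      Subgroup.subset_closure (by simp)
    have ht : b ^ j * t ∈ Subgroup.closure ({a, b, b ^ j * t} : Set Γ) :=
      Subgroup.subset_closure (by simp)
    rcases hx with rfl | rfl | rfl
    · exact Subgroup.subset_closure (by simp)
    · exact hb
    · have e : (b ^ j)⁻¹ * (b ^ j * x) = x := by group
      have hmem := Subgroup.mul_mem _ (Subgroup.inv_mem _ (Subgroup.pow_mem _ hb j)) ht
      rw [e] at hmem
      exact hmem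

theorem card_le_of_fibers' {A B : Type*} [Finite A] [Finite B] (f : A → B) (k : ℕ)
    (h : ∀ b, Nat.card {a // f a = b} ≤ k) : Nat.card A ≤ Nat.card B * k := by
  classical
  haveI := Fintype.ofFinite B
  rw [← Nat.card_congr (Equiv.sigmaFiberEquiv f), Nat.card_sigma]
  calc ∑ b, Nat.card {a // f a = b} ≤ ∑ _b : B, k := Finset.sum_le_sum (fun b _ => h b)
    _ = Nat.card B * k := by
        rw [Finset.sum_const, Finset.card_univ, smul_eq_mul, Nat.card_eq_fintype_card]

/-! ## Labelling -/

section labelling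

variable {G X : Type*} [Group G] [MulAction G X]

def Emap (u : G) (p q : X) : Pt → X := fun o =>
  match o with
  | none => p
  | some i => u ^ (i : ℕ) • q

theorem Emap_bij [Fintype X] (hX : Fintype.card X = 12) {u : G} {p q : X} (hup : u • p = p)
    (hqp : q ≠ p) (hfree : ∀ i : ℕ, 0 < i → i < 11 → u ^ i • q ≠ q) :
    Function.Bijective (Emap u p q) := by
  have hupow : ∀ i : ℕ, u ^ i • p = p := by
    intro i
    induction i with
    | zero => simp
    | succ n ih => rw [pow_succ, mul_smul, hup, ih]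
  have key : ∀ i j : ℕ, i < j → j < 11 → u ^ i • q ≠ u ^ j • q := by
    intro i j hij hj h
    have e : u ^ j = u ^ i * u ^ (j - i) := by
      rw [← pow_add]; congr 1; omega
    rw [e, mul_smul] at h
    have h' := smul_left_cancel _ h
    exact hfree (j - i) (by omega) (by omega) h'.symm
  have hinj : Function.Injective (Emap u p q) := by
    intro o1 o2 h
    match o1, o2 with
    | none, none => rfl
    | none, some j =>
      exfalso
      apply hqp
      have h1 : p = u ^ (j : ℕ) • q := h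
      have h2 : u ^ (j : ℕ) • q = u ^ (j : ℕ) • p := by rw [hupow]; exact h1.symm
      exact smul_left_cancel _ h2
    | some i, none =>
      exfalso
      apply hqp
      have h1 : u ^ (i : ℕ) • q = p := h
      have h2 : u ^ (i : ℕ) • q = u ^ (i : ℕ) • p := by rw [hupow]; exact h1
      exact smul_left_cancel _ h2
    | some i, some j =>
      have h1 : u ^ (i : ℕ) • q = u ^ (j : ℕ) • q := h
      congr 1
      apply Fin.ext
      rcases lt_trichotomy (i : ℕ) (j : ℕ) with hlt | heq | hgt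
      · exact absurd h1 (key _ _ hlt j.2)
      · exact heq
      · exact absurd h1.symm (key _ _ hgt i.2)
  rw [Fintype.bijective_iff_injective_and_card]
  refine ⟨hinj, ?_⟩
  rw [hX]
  rfl

noncomputable def psi (Eq : Pt ≃ X) : G →* Equiv.Perm Pt where
  toFun g := (Eq.trans (MulAction.toPerm g)).trans Eq.symm
  map_one' := by
    apply Equiv.ext
    intro o
    simp
  map_mul' g g' := by
    apply Equiv.ext
    intro o
    simp [mul_smul]

theorem psi_apply (Eq : Pt ≃ X) (g : G) (o : Pt) : psi Eq g o = Eq.symm (g • Eq o) := rfl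

theorem psi_injective (Eq : Pt ≃ X) (hfaith : ∀ g : G, (∀ x : X, g • x = x) → g = 1) :
    Function.Injective (psi (G := G) Eq) := by
  rw [injective_iff_map_eq_one]
  intro g hg
  apply hfaith
  intro x
  have h := DFunLike.congr_fun hg (Eq.symm x)
  rw [psi_apply, Equiv.apply_symm_apply, Equiv.Perm.one_apply] at h
  exact Eq.symm.injective h

theorem label_u (Eq : Pt ≃ X) {u : G} {p q : X} (hEq : ∀ o, Eq o = Emap u p q o)
    (hu7 : u ^ 11 = 1) (hup : u • p = p) : psi Eq u = Uperm := by
  apply Equiv.ext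
  intro o
  rw [psi_apply, Equiv.symm_apply_eq, hEq, hEq]
  match o with
  | none => exact hup
  | some i =>
    show u • (u ^ (i : ℕ) • q) = u ^ ((i + 1 : Fin 11) : ℕ) • q
    rw [← mul_smul, ← pow_succ', Fin.val_add, Fin.val_one, ← pow_eq_pow_mod _ hu7]

theorem label_h (Eq : Pt ≃ X) {u h : G} {p q : X} (hEq : ∀ o, Eq o = Emap u p q o)
    (hu7 : u ^ 11 = 1) (hhp : h • p = p) (hhq : h • q = q) (hhu : h * u * h⁻¹ = u ^ 4) :
    psi Eq h = Hperm := by
  apply Equiv.ext
  intro o
  rw [psi_apply, Equiv.symm_apply_eq, hEq, hEq]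
  match o with
  | none => exact hhp
  | some i =>
    show h • (u ^ (i : ℕ) • q) = u ^ ((4 * i : Fin 11) : ℕ) • q
    have e : h * u ^ (i : ℕ) = (u ^ 4) ^ (i : ℕ) * h := by
      rw [← hhu, conj_pow, inv_mul_cancel_right]
    have h4 : ((4 : Fin 11) : ℕ) = 4 := rfl
    rw [← mul_smul, e, mul_smul, hhq, ← pow_mul, Fin.val_mul, h4, ← pow_eq_pow_mod _ hu7]

end labelling


/-! ## the group theory -/

section main

variable {G : Type*} [Group G] [Finite G] [IsSimpleGroup G]

instance factP : Fact (Nat.Prime 11) := ⟨by norm_num⟩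

open Cfsg.Agent.Lib.Helper1 Cfsg.Agent.Lib.Helper7

set_option maxRecDepth 100000 in
theorem card_sylP (hG : Nat.card G = 660) : Nat.card (Sylow 11 G) = 12 := by
  obtain ⟨P⟩ : Nonempty (Sylow 11 G) := inferInstance
  have hP : Nat.card (P : Subgroup G) = 11 :=
    Syl15.sylow_card_eq_prime (by rw [hG]; norm_num) (by rw [hG]; norm_num) P
  have h1 : Nat.card (Sylow 11 G) % 11 = 1 % 11 := card_sylow_modEq_one 11 G
  have h3 : Nat.card (Sylow 11 G) ≠ 1 :=
    card_sylow_ne_one_of_simple P
      (subgroup_ne_bot_of_card _ (by rw [hP]; norm_num))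
      (subgroup_ne_top_of_card _ (by rw [hP, hG]; norm_num))
  have h4 : Nat.card (Sylow 11 G) ∣ 60 := by
    have := Sylow.card_dvd_index P
    have hidx : (P : Subgroup G).index = 60 := by
      have := Subgroup.card_mul_index (P : Subgroup G)
      rw [hP, hG] at this
      omega
    rwa [hidx] at this
  have h5 : Nat.card (Sylow 11 G) ≤ 60 := Nat.le_of_dvd (by norm_num) h4
  have key : ∀ n ≤ 60, n ∣ 60 → n % 11 = 1 % 11 → n ≠ 1 → n = 12 := by decide
  exact key _ h5 h4 h1 h3

theorem arithO : ∀ q ≤ 5, 1 < q → q ∣ 5 → ¬ (4 ^ (5 / q) % 11 = 1 % 11) := by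
  decide

theorem arithK : ∀ c ≤ 10, c ∣ 55 → 55 ≤ 12 * c → c = 5 := by
  decide

set_option maxHeartbeats 3200000 in
theorem exists_iso (hG : Nat.card G = 660) :
    Nonempty (G ≃* (Subgroup.closure ({Uperm, Hperm, Tc0} : Set (Equiv.Perm Pt)))) := by
  classical
  letI : Fintype (Sylow 11 G) := Fintype.ofFinite _
  have hcardX : Fintype.card (Sylow 11 G) = 12 := by
    rw [← Nat.card_eq_fintype_card]; exact card_sylP hG
  have hS7 : ∀ Q : Sylow 11 G, Nat.card (Q : Subgroup G) = 11 := fun Q =>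
    Syl15.sylow_card_eq_prime (by rw [hG]; norm_num) (by rw [hG]; norm_num) Q
  have hN21 : ∀ Q : Sylow 11 G,
      Nat.card (Subgroup.normalizer ((Q : Subgroup G) : Set G)) = 55 := by
    intro Q
    have := card_normalizer_mul_card_sylow Q
    rw [hG, card_sylP hG] at this
    omega
  obtain ⟨P⟩ : Nonempty (Sylow 11 G) := inferInstance
  obtain ⟨u, huP, hu1⟩ := SylCyc.exists_mem_ne_one_of_card_prime P (hS7 P)
  have hu7 : u ^ 11 = 1 := by
    have := pow_card_eq_one' (G := (P : Subgroup G)) (x := ⟨u, huP⟩)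
    rw [hS7 P] at this
    exact congrArg Subtype.val this
  have horder : orderOf u = 11 := orderOf_eq_prime hu7 hu1
  have hzcard : ∀ g : G, orderOf g = 11 → ∀ Q : Sylow 11 G, g ∈ (Q : Subgroup G) →
      (Q : Subgroup G) = Subgroup.zpowers g := by
    intro g hg Q hgQ
    symm
    apply Subgroup.eq_of_le_of_card_ge
    · rw [Subgroup.zpowers_le]; exact hgQ
    · rw [hS7 Q, Nat.card_zpowers, hg]
  have hPz := hzcard u horder P huP
  have hup : u • P = P := Sylow.smul_eq_iff_mem_normalizer.2 (Subgroup.le_normalizer huP)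
  have hupow : ∀ i : ℕ, u ^ i • P = P := fun i =>
    Sylow.smul_eq_iff_mem_normalizer.2 (Subgroup.le_normalizer (Subgroup.pow_mem _ huP i))
  have hfree : ∀ Q : Sylow 11 G, Q ≠ P → ∀ i : ℕ, 0 < i → i < 11 → u ^ i • Q ≠ Q := by
    intro Q hQ i hi0 hi7 hfix
    have hg1 : u ^ i ≠ 1 := by
      intro h
      have := orderOf_dvd_of_pow_eq_one h
      rw [horder] at this
      exact absurd (Nat.le_of_dvd hi0 this) (by omega)
    have hg7 : (u ^ i) ^ 11 = 1 := by rw [← pow_mul, mul_comm, pow_mul, hu7, one_pow]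
    have hgo : orderOf (u ^ i) = 11 := orderOf_eq_prime hg7 hg1
    have hpg : IsPGroup 11 (Subgroup.zpowers (u ^ i)) := by
      apply IsPGroup.of_card (n := 1)
      rw [Nat.card_zpowers, hgo, pow_one]
    have hinf := hpg.inf_normalizer_sylow Q
    have hgQ : u ^ i ∈ (Q : Subgroup G) := by
      have h2 : u ^ i ∈ Subgroup.zpowers (u ^ i) ⊓ (Q : Subgroup G) := by
        rw [← hinf]
        exact ⟨Subgroup.mem_zpowers _, Sylow.smul_eq_iff_mem_normalizer.1 hfix⟩
      exact h2.2
    apply hQ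
    apply Sylow.ext
    rw [hzcard (u ^ i) hgo Q hgQ, hzcard (u ^ i) hgo P (Subgroup.pow_mem _ huP i)]
  -- a second point
  obtain ⟨Q0, hQ0P⟩ : ∃ Q0 : Sylow 11 G, Q0 ≠ P := by
    by_contra hcon
    have hall : ∀ Q : Sylow 11 G, Q = P := by
      intro Q
      by_contra hne
      exact hcon ⟨Q, hne⟩
    have h1 : Fintype.card (Sylow 11 G) ≤ 1 :=
      Fintype.card_le_one_iff.2 (fun a b => by rw [hall a, hall b])
    omega
  -- faithfulness
  have hfaith : ∀ g : G, (∀ Q : Sylow 11 G, g • Q = Q) → g = 1 := by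
    intro g hg
    have hker : g ∈ (MulAction.toPermHom G (Sylow 11 G)).ker := by
      rw [MonoidHom.mem_ker]
      apply Equiv.ext
      intro Q
      exact hg Q
    rcases Subgroup.Normal.eq_bot_or_eq_top
      (inferInstance : (MulAction.toPermHom G (Sylow 11 G)).ker.Normal) with hb | ht
    · rw [hb, Subgroup.mem_bot] at hker; exact hker
    · exfalso
      have hu : u ∈ (MulAction.toPermHom G (Sylow 11 G)).ker := by
        rw [ht]; exact Subgroup.mem_top u
      rw [MonoidHom.mem_ker] at hu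
      have h1 : u • Q0 = Q0 := DFunLike.congr_fun hu Q0
      exact hfree Q0 hQ0P 1 (by norm_num) (by norm_num) (by rw [pow_one]; exact h1)
  -- labelling
  have hbij := Emap_bij hcardX hup hQ0P (hfree Q0 hQ0P)
  obtain ⟨Eq, hEq⟩ : ∃ Eq : Pt ≃ Sylow 11 G, ∀ o, Eq o = Emap u P Q0 o :=
    ⟨Equiv.ofBijective _ hbij, fun o => rfl⟩
  have hψu := label_u Eq hEq hu7 hup
  have hψinj := psi_injective (G := G) Eq hfaith
  have hEnone : Eq none = P := by rw [hEq]; rfl
  have hE0 : Eq (some 0) = Q0 := by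
    rw [hEq]
    show u ^ ((0 : Fin 11) : ℕ) • Q0 = Q0
    simp
  -- the two-point stabilizer
  obtain ⟨K, hKdef⟩ : ∃ K : Subgroup G,
      K = MulAction.stabilizer G P ⊓ MulAction.stabilizer G Q0 := ⟨_, rfl⟩
  have hKmem : ∀ t : G, t ∈ K ↔ t • P = P ∧ t • Q0 = Q0 := by
    intro t
    rw [hKdef, Subgroup.mem_inf, MulAction.mem_stabilizer_iff, MulAction.mem_stabilizer_iff]
  have hTP : ∀ t ∈ K, t • P = P := fun t ht => ((hKmem t).1 ht).1
  have hQ0fix : ∀ t ∈ K, t • Q0 = Q0 := fun t ht => ((hKmem t).1 ht).2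
  have hTN : K ≤ Subgroup.normalizer ((P : Subgroup G) : Set G) := by
    intro t ht
    exact Sylow.smul_eq_iff_mem_normalizer.1 (hTP t ht)
  -- the conjugation exponents of the elements of K
  have hconj_gen : ∀ (x : G) (m : ℕ), x * u * x⁻¹ = u ^ m →
      ∀ j : ℕ, x ^ j * u * (x ^ j)⁻¹ = u ^ (m ^ j) := by
    intro x m hx j
    induction j with
    | zero => simp
    | succ j ih =>
      have e : x ^ (j + 1) * u * (x ^ (j + 1))⁻¹ = x * (x ^ j * u * (x ^ j)⁻¹) * x⁻¹ := by
        rw [pow_succ']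
        simp only [mul_inv_rev, mul_assoc]
      rw [e, ih, ← conj_pow, hx, ← pow_mul, pow_succ']
  have hTex : ∀ t : K, ∃ m : ℕ, m < 11 ∧ (t : G) * u * (t : G)⁻¹ = u ^ m := by
    intro t
    have hmem : (t : G) * u * (t : G)⁻¹ ∈ (P : Subgroup G) :=
      ((Subgroup.mem_normalizer_iff.1 (hTN t.2)) u).1 huP
    rw [hPz, Subgroup.mem_zpowers_iff] at hmem
    obtain ⟨k, hk⟩ := hmem
    have h0' := Int.emod_nonneg k (by norm_num : (11:ℤ) ≠ 0)
    have h7' := Int.emod_lt_of_pos k (by norm_num : (0:ℤ) < 11)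
    refine ⟨(k % 11).toNat, by omega, ?_⟩
    rw [← hk, ← zpow_natCast, Int.toNat_of_nonneg h0']
    have := zpow_mod_orderOf u k
    rw [horder] at this
    exact this.symm
  choose mf hmf_lt hmf using hTex
  have hmf_pos : ∀ t : K, mf t ≠ 0 := by
    intro t h0
    have e := hmf t
    rw [h0, pow_zero] at e
    apply hu1
    have e2 : u = (t : G)⁻¹ * ((t : G) * u * (t : G)⁻¹) * (t : G) := by group
    rw [e2, e]
    group
  have hmf_inj : Function.Injective mf := by
    intro t1 t2 h12
    have hc : Commute ((t1 : G)⁻¹ * (t2 : G)) u := by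
      have h1 := hmf t1
      have h2 := hmf t2
      rw [h12] at h1
      have h3 : (t1 : G) * u * (t1 : G)⁻¹ = (t2 : G) * u * (t2 : G)⁻¹ := by rw [h1, h2]
      show (t1 : G)⁻¹ * (t2 : G) * u = u * ((t1 : G)⁻¹ * (t2 : G))
      calc (t1 : G)⁻¹ * (t2 : G) * u = (t1 : G)⁻¹ * ((t2 : G) * u * (t2 : G)⁻¹) * (t2 : G) := by group
        _ = (t1 : G)⁻¹ * ((t1 : G) * u * (t1 : G)⁻¹) * (t2 : G) := by rw [h3]
        _ = u * ((t1 : G)⁻¹ * (t2 : G)) := by group
    have hc1 : (t1 : G)⁻¹ * (t2 : G) = 1 := by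
      apply hfaith
      intro Q
      have hcP : ((t1 : G)⁻¹ * (t2 : G)) • P = P := by
        rw [mul_smul, hTP _ t2.2, inv_smul_eq_iff, hTP _ t1.2]
      have hcQ : ((t1 : G)⁻¹ * (t2 : G)) • Q0 = Q0 := by
        rw [mul_smul, hQ0fix _ t2.2, inv_smul_eq_iff, hQ0fix _ t1.2]
      obtain ⟨o, rfl⟩ := Eq.surjective Q
      rw [hEq]
      match o with
      | none => exact hcP
      | some i =>
        show ((t1 : G)⁻¹ * (t2 : G)) • (u ^ (i : ℕ) • Q0) = u ^ (i : ℕ) • Q0
        rw [← mul_smul, (hc.pow_right (i : ℕ)).eq, mul_smul, hcQ]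
    apply Subtype.ext
    exact inv_mul_eq_one.1 hc1
  haveI : Fintype K := Fintype.ofFinite _
  -- the order of K
  have hKle : Nat.card K ≤ 10 := by
    have himg0 : Finset.univ.image mf ⊆ Finset.Ico 1 11 := by
      intro m hm
      rw [Finset.mem_image] at hm
      obtain ⟨t, -, rfl⟩ := hm
      rw [Finset.mem_Ico]
      exact ⟨Nat.pos_of_ne_zero (hmf_pos t), hmf_lt t⟩
    have h1 := Finset.card_le_card himg0
    rw [Finset.card_image_of_injective _ hmf_inj, Finset.card_univ, Nat.card_Ico,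
      ← Nat.card_eq_fintype_card] at h1
    omega
  have hKge : 55 ≤ 12 * Nat.card K := by
    have hfib : ∀ Q : Sylow 11 G,
        Nat.card {x : Subgroup.normalizer ((P : Subgroup G) : Set G) // (x : G) • Q0 = Q}
          ≤ Nat.card K := by
      intro Q
      by_cases hne : Nonempty
          {x : Subgroup.normalizer ((P : Subgroup G) : Set G) // (x : G) • Q0 = Q}
      · obtain ⟨x0⟩ := hne
        have hmemK : ∀ x : {x : Subgroup.normalizer ((P : Subgroup G) : Set G) //
            (x : G) • Q0 = Q}, ((x0.1 : G))⁻¹ * (x.1 : G) ∈ K := by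
          intro x
          rw [hKmem]
          constructor
          · rw [mul_smul, Sylow.smul_eq_iff_mem_normalizer.2 x.1.2, inv_smul_eq_iff,
              Sylow.smul_eq_iff_mem_normalizer.2 x0.1.2]
          · rw [mul_smul, x.2, inv_smul_eq_iff, x0.2]
        apply Nat.card_le_card_of_injective (fun x => (⟨_, hmemK x⟩ : K))
        intro x y hxy
        have h1 : ((x0.1 : G))⁻¹ * (x.1 : G) = ((x0.1 : G))⁻¹ * (y.1 : G) :=
          congrArg Subtype.val hxy
        exact Subtype.ext (Subtype.ext (mul_left_cancel h1))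
      · rw [not_nonempty_iff] at hne
        rw [Nat.card_of_isEmpty]
        exact Nat.zero_le _
    have := card_le_of_fibers'
      (fun x : Subgroup.normalizer ((P : Subgroup G) : Set G) => (x : G) • Q0) (Nat.card K) hfib
    rw [hN21 P, card_sylP hG] at this
    exact this
  have hKdvd : Nat.card K ∣ 55 := by
    have := Subgroup.card_dvd_of_le hTN
    rwa [hN21 P] at this
  have hKcard : Nat.card K = 5 := arithK _ hKle hKdvd hKge
  have hTpow : ∀ t ∈ K, t ^ 5 = 1 := by
    intro t ht
    have := pow_card_eq_one' (G := K) (x := ⟨t, ht⟩)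
    rw [hKcard] at this
    exact congrArg Subtype.val this
  have hmfD : ∀ t : K, mf t ^ 5 % 11 = 1 % 11 := by
    intro t
    have e := hconj_gen (t : G) (mf t) (hmf t) 5
    rw [hTpow t t.2, one_mul, inv_one, mul_one] at e
    have := (pow_eq_pow_iff_modEq (x := u) (n := 1) (m := mf t ^ 5)).1
      (by rw [pow_one]; exact e)
    rw [horder] at this
    exact this.symm
  have hS9 : ((Finset.range 11).filter (fun m => m ^ 5 % 11 = 1 % 11)).card = 5 := by
    decide
  have himg : Finset.univ.image mf ⊆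
      (Finset.range 11).filter (fun m => m ^ 5 % 11 = 1 % 11) := by
    intro m hm
    rw [Finset.mem_image] at hm
    obtain ⟨t, -, rfl⟩ := hm
    rw [Finset.mem_filter, Finset.mem_range]
    exact ⟨hmf_lt t, hmfD t⟩
  have hcardimg : (Finset.univ.image mf).card = 5 := by
    rw [Finset.card_image_of_injective _ hmf_inj, Finset.card_univ, ← Nat.card_eq_fintype_card,
      hKcard]
  have himgeq := Finset.eq_of_subset_of_card_le himg (by rw [hcardimg, hS9])
  have h4mem : 4 ∈ (Finset.range 11).filter (fun m => m ^ 5 % 11 = 1 % 11) := by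
    decide
  rw [← himgeq, Finset.mem_image] at h4mem
  obtain ⟨t, -, ht⟩ := h4mem
  obtain ⟨h, hhdef⟩ : ∃ h : G, h = (t : G) := ⟨_, rfl⟩
  have hhT : h ∈ K := by rw [hhdef]; exact t.2
  have hhu : h * u * h⁻¹ = u ^ 4 := by rw [hhdef, hmf t, ht]
  have hh3 : h ^ 5 = 1 := hTpow h hhT
  have hhP : h • P = P := hTP h hhT
  have hhQ : h • Q0 = Q0 := hQ0fix h hhT
  have hhconj_iter : ∀ j : ℕ, h ^ j * u * (h ^ j)⁻¹ = u ^ (4 ^ j) :=
    hconj_gen h 4 hhu
  have hho : orderOf h = 5 := by
    apply orderOf_eq_of_pow_and_pow_div_prime (by norm_num) hh3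
    intro q hq hqd h1
    have hqle : q ≤ 5 := Nat.le_of_dvd (by norm_num) hqd
    have e := hhconj_iter (5 / q)
    rw [h1, one_mul, inv_one, mul_one] at e
    have := (pow_eq_pow_iff_modEq (x := u) (n := 1) (m := 4 ^ (5 / q))).1
      (by rw [pow_one]; exact e)
    rw [horder] at this
    exact arithO q hqle hq.one_lt hqd this.symm
  have hψh := label_h Eq hEq hu7 hhP hhQ hhu
  have hKz : K = Subgroup.zpowers h := by
    symm
    apply Subgroup.eq_of_le_of_card_ge
    · rw [Subgroup.zpowers_le]; exact hhT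
    · rw [hKcard, Nat.card_zpowers, hho]
  have hKpow : ∀ t ∈ K, ∃ j : ℕ, t = h ^ j := by
    intro t ht
    rw [hKz, Subgroup.mem_zpowers_iff] at ht
    obtain ⟨z, hz⟩ := ht
    have h0' := Int.emod_nonneg z (by norm_num : (5:ℤ) ≠ 0)
    refine ⟨(z % 5).toNat, ?_⟩
    rw [← hz, ← zpow_natCast, Int.toNat_of_nonneg h0']
    have := zpow_mod_orderOf h z
    rw [hho] at this
    exact this.symm
  -- the stabilizer of P is P K
  have hstar : ∀ x : G, x • P = P → ∃ b j : ℕ, x = u ^ b * h ^ j := by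
    intro x hx
    obtain ⟨o, ho⟩ := Eq.surjective (x • Q0)
    rw [hEq] at ho
    match o, ho with
    | none, ho =>
      exfalso
      apply hQ0P
      have ho' : P = x • Q0 := ho
      have e : x • Q0 = x • P := by rw [hx]; exact ho'.symm
      exact smul_left_cancel _ e
    | some i, ho =>
      have ho' : u ^ (i : ℕ) • Q0 = x • Q0 := ho
      have hK : (u ^ (i : ℕ))⁻¹ * x ∈ K := by
        rw [hKmem]
        constructor
        · rw [mul_smul, hx, inv_smul_eq_iff, hupow]
        · rw [mul_smul, ← ho', inv_smul_smul]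
      obtain ⟨j, hj⟩ := hKpow _ hK
      refine ⟨i, j, ?_⟩
      rw [← hj]
      group
  -- an element interchanging P and Q0
  obtain ⟨g0, hg0⟩ := MulAction.exists_smul_eq G Q0 P
  have hg0P : g0 • P ≠ P := by
    intro hcon
    apply hQ0P
    have e : g0 • Q0 = g0 • P := by rw [hg0, hcon]
    exact smul_left_cancel _ e
  obtain ⟨s0, hs0Q, hs0P⟩ : ∃ s0 : G, s0 • Q0 = P ∧ s0 • P = Q0 := by
    obtain ⟨o, ho⟩ := Eq.surjective (g0 • P)
    rw [hEq] at ho
    match o, ho with
    | none, ho =>
      have ho' : P = g0 • P := ho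
      exact absurd ho'.symm hg0P
    | some i, ho =>
      have ho' : u ^ (i : ℕ) • Q0 = g0 • P := ho
      refine ⟨(u ^ (i : ℕ))⁻¹ * g0, ?_, ?_⟩
      · rw [mul_smul, hg0, inv_smul_eq_iff, hupow]
      · rw [mul_smul, ← ho', inv_smul_smul]
  have e1 : s0⁻¹ • P = Q0 := by rw [inv_smul_eq_iff, hs0Q]
  have e2 : s0⁻¹ • Q0 = P := by rw [inv_smul_eq_iff, hs0P]
  obtain ⟨kn, hs0k⟩ : ∃ kn : ℕ, s0 * h * s0⁻¹ = h ^ kn := by
    apply hKpow
    rw [hKmem]
    constructor
    · rw [mul_smul, mul_smul, e1, hhQ, hs0Q]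
    · rw [mul_smul, mul_smul, e2, hhP, hs0P]
  -- the image of s0
  have hπ0 : psi Eq s0 none = some 0 := by
    rw [psi_apply, hEnone, hs0P, Equiv.symm_apply_eq, hE0]
  have hπ00 : psi Eq s0 (some 0) = none := by
    rw [psi_apply, hE0, hs0Q, Equiv.symm_apply_eq, hEnone]
  have hπrel : psi Eq s0 * Hperm * (psi Eq s0)⁻¹ = Hperm ^ kn := by
    rw [← hψh, ← map_inv, ← map_mul, ← map_mul, hs0k, map_pow]
  have hbr : ∀ i a : Fin 11, i ≠ 0 → psi Eq s0 (some i) = some a → ∃ b z : ℕ,
      psi Eq s0 * (Uperm ^ (a : ℕ))⁻¹ * psi Eq s0 * Uperm ^ (i : ℕ) * psi Eq s0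
        = Uperm ^ b * Hperm ^ z := by
    intro i a _ ha
    have h1 : s0 • (u ^ (i : ℕ) • Q0) = u ^ (a : ℕ) • Q0 := by
      rw [psi_apply, Equiv.symm_apply_eq, hEq, hEq] at ha
      exact ha
    have hfixP : (s0 * (u ^ (a : ℕ))⁻¹ * s0 * u ^ (i : ℕ) * s0) • P = P := by
      rw [mul_smul, mul_smul, mul_smul, mul_smul, hs0P, h1, inv_smul_smul, hs0Q]
    obtain ⟨b, z, hbz⟩ := hstar _ hfixP
    refine ⟨b, z, ?_⟩
    have e := congrArg (psi (G := G) Eq) hbz
    simp only [map_mul, map_inv, map_pow, hψu, hψh] at e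
    exact e
  obtain ⟨jj, hπ⟩ := lemmaD (psi Eq s0) hπ0 hπ00 kn hπrel hbr
  -- generation
  have hgen : Subgroup.closure ({u, h, s0} : Set G) = ⊤ := by
    have huM : u ∈ Subgroup.closure ({u, h, s0} : Set G) := Subgroup.subset_closure (by simp)
    have hhM : h ∈ Subgroup.closure ({u, h, s0} : Set G) := Subgroup.subset_closure (by simp)
    have hsM : s0 ∈ Subgroup.closure ({u, h, s0} : Set G) := Subgroup.subset_closure (by simp)
    have hNle : Subgroup.normalizer ((P : Subgroup G) : Set G)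
        ≤ Subgroup.closure ({u, h, s0} : Set G) := by
      intro x hx
      obtain ⟨b, j, rfl⟩ := hstar x (Sylow.smul_eq_iff_mem_normalizer.2 hx)
      exact Subgroup.mul_mem _ (Subgroup.pow_mem _ huM b) (Subgroup.pow_mem _ hhM j)
    have hdvd := Subgroup.card_dvd_of_le hNle
    rw [hN21 P] at hdvd
    have hcne : Nat.card (Subgroup.closure ({u, h, s0} : Set G)) ≠ 55 := by
      intro hc
      have heq : Subgroup.normalizer ((P : Subgroup G) : Set G)
          = Subgroup.closure ({u, h, s0} : Set G) := by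
        apply Subgroup.eq_of_le_of_card_ge hNle
        rw [hc, hN21 P]
      have hmem : s0 ∈ Subgroup.normalizer ((P : Subgroup G) : Set G) := by
        rw [heq]; exact hsM
      have hfix := Sylow.smul_eq_iff_mem_normalizer.2 hmem
      rw [hs0P] at hfix
      exact hQ0P hfix
    have hci := Subgroup.card_mul_index (Subgroup.closure ({u, h, s0} : Set G))
    rw [hG] at hci
    by_contra hne
    have hfac := card_dvd_factorial_index_of_simple _ hne
    rw [hG] at hfac
    obtain ⟨c, hc⟩ := hdvd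
    rw [hc] at hci hcne
    have hki : c * (Subgroup.closure ({u, h, s0} : Set G)).index = 12 := by
      have : 55 * (c * (Subgroup.closure ({u, h, s0} : Set G)).index) = 55 * 12 := by
        rw [← mul_assoc]; exact hci
      exact Nat.eq_of_mul_eq_mul_left (by norm_num) this
    have hc1 : c ≠ 1 := by
      rintro rfl
      exact hcne (mul_one _)
    have hc0 : c ≠ 0 := by
      rintro rfl
      rw [zero_mul] at hki
      norm_num at hki
    have h2le : 2 * (Subgroup.closure ({u, h, s0} : Set G)).index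
        ≤ c * (Subgroup.closure ({u, h, s0} : Set G)).index :=
      Nat.mul_le_mul_right _ (by omega)
    have hpd : 11 ∣ ((Subgroup.closure ({u, h, s0} : Set G)).index).factorial :=
      Dvd.dvd.trans (by norm_num) hfac
    have := (Nat.Prime.dvd_factorial (by norm_num : Nat.Prime 11)).1 hpd
    omega
  have hrange : (psi (G := G) Eq).range
      = Subgroup.closure ({Uperm, Hperm, psi Eq s0} : Set (Equiv.Perm Pt)) := by
    rw [MonoidHom.range_eq_map, ← hgen, MonoidHom.map_closure]
    congr 1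
    rw [Set.image_insert_eq, Set.image_insert_eq, Set.image_singleton, hψu, hψh]
  have hL : Subgroup.closure ({Uperm, Hperm, psi Eq s0} : Set (Equiv.Perm Pt))
      = Subgroup.closure ({Uperm, Hperm, Tc0} : Set (Equiv.Perm Pt)) := by
    rw [hπ]
    exact closure_mulpow Uperm Hperm Tc0 jj
  exact ⟨(MonoidHom.ofInjective hψinj).trans (MulEquiv.subgroupCongr (hrange.trans hL))⟩

end main

theorem psl_simple_card {F : Type*} [Field F] [Fintype F] (hF : Fintype.card F = 11) :
    IsSimpleGroup (Matrix.ProjectiveSpecialLinearGroup (Fin 2) F) ∧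
      Nat.card (Matrix.ProjectiveSpecialLinearGroup (Fin 2) F) = 660 := by
  constructor
  · exact Matrix.ProjectiveSpecialLinearGroup.rank_two_simple (by
      rw [Nat.card_eq_fintype_card, hF]; norm_num)
  · have h := Cfsg.Agent.Lib.Helper1.card_PSL2 F
    rw [hF] at h
    have h2 : Nat.gcd 2 (11 - 1) = 2 := by decide
    rw [h2] at h
    omega

theorem iso_of_simple {G₁ G₂ : Type*} [Group G₁] [Finite G₁] [IsSimpleGroup G₁]
    [Group G₂] [Finite G₂] [IsSimpleGroup G₂] (h₁ : Nat.card G₁ = 660)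
    (h₂ : Nat.card G₂ = 660) : Nonempty (G₁ ≃* G₂) := by
  obtain ⟨e₁⟩ := exists_iso h₁
  obtain ⟨e₂⟩ := exists_iso h₂
  exact ⟨e₁.trans e₂.symm⟩

theorem iso_psl {G : Type*} [Group G] [Finite G] [IsSimpleGroup G] (h : Nat.card G = 660)
    {F : Type*} [Field F] [Fintype F] (hF : Fintype.card F = 11) :
    Nonempty (G ≃* Matrix.ProjectiveSpecialLinearGroup (Fin 2) F) := by
  obtain ⟨hs, hc⟩ := psl_simple_card hF
  haveI := hs
  exact iso_of_simple h hc

end Cfsg.Agent.S0498.P11

namespace Cfsg.Agent.S0498.P13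

/-! ## Concrete permutations of the projective line over `Fin 13` -/

abbrev Pt := Option (Fin 13)

def Uperm : Equiv.Perm Pt := Equiv.optionCongr (Equiv.addRight (1 : Fin 13))

def mulm : Equiv.Perm (Fin 13) := ⟨fun x => 4 * x, fun x => 10 * x, by decide, by decide⟩

def Hperm : Equiv.Perm Pt := Equiv.optionCongr mulm

def Tfun (v : Fin 13 → Pt) : Pt → Pt := fun o =>
  match o with
  | none => some 0
  | some x => v x

def Tcv0 : Fin 13 → Pt := ![none, some 12, some 6, some 4, some 3, some 5, some 2, some 11, some 8, some 10, some 9, some 7, some 1]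
def Tcv1 : Fin 13 → Pt := ![none, some 9, some 11, some 3, some 12, some 7, some 8, some 5, some 6, some 1, some 10, some 2, some 4]
def Tcv2 : Fin 13 → Pt := ![none, some 10, some 5, some 12, some 9, some 2, some 6, some 7, some 11, some 4, some 1, some 8, some 3]
def Tcv3 : Fin 13 → Pt := ![none, some 1, some 7, some 9, some 10, some 8, some 11, some 2, some 5, some 3, some 4, some 6, some 12]
def Tcv4 : Fin 13 → Pt := ![none, some 4, some 2, some 10, some 1, some 6, some 5, some 8, some 7, some 12, some 3, some 11, some 9]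
def Tcv5 : Fin 13 → Pt := ![none, some 3, some 8, some 1, some 4, some 11, some 7, some 6, some 2, some 9, some 12, some 5, some 10]

def Tc0 : Equiv.Perm Pt := ⟨Tfun Tcv0, Tfun Tcv0, by decide, by decide⟩
def Tc1 : Equiv.Perm Pt := ⟨Tfun Tcv1, Tfun Tcv1, by decide, by decide⟩
def Tc2 : Equiv.Perm Pt := ⟨Tfun Tcv2, Tfun Tcv2, by decide, by decide⟩
def Tc3 : Equiv.Perm Pt := ⟨Tfun Tcv3, Tfun Tcv3, by decide, by decide⟩
def Tc4 : Equiv.Perm Pt := ⟨Tfun Tcv4, Tfun Tcv4, by decide, by decide⟩
def Tc5 : Equiv.Perm Pt := ⟨Tfun Tcv5, Tfun Tcv5, by decide, by decide⟩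

theorem Tc1_eq : Tc1 = Hperm ^ 1 * Tc0 := by
  apply Equiv.ext
  decide

theorem Tc2_eq : Tc2 = Hperm ^ 2 * Tc0 := by
  apply Equiv.ext
  decide

theorem Tc3_eq : Tc3 = Hperm ^ 3 * Tc0 := by
  apply Equiv.ext
  decide

theorem Tc4_eq : Tc4 = Hperm ^ 4 * Tc0 := by
  apply Equiv.ext
  decide

theorem Tc5_eq : Tc5 = Hperm ^ 5 * Tc0 := by
  apply Equiv.ext
  decide

def Fab (c a b : Fin 13) : Pt → Pt := Tfun ![none, some (a), some (b), some (c * (c * a)), some (c * a), some (c * (c * (c * (c * b)))), some (c * (c * b)), some (c * (c * (c * (c * (c * b))))), some (c * b), some (c * (c * (c * (c * a)))), some (c * (c * (c * (c * (c * a))))), some (c * (c * (c * b))), some (c * (c * (c * a)))]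

def sqs : List (Fin 13) := [1, 4, 3, 12, 9, 10]

def Wf (F : Pt → Pt) (i a : Fin 13) (x : Pt) : Pt :=
  F (Option.map (fun y => y - a) (F (Option.map (fun y => y + i) (F x))))

def getv (o : Pt) : Fin 13 := o.getD 0

abbrev CondAux (F : Pt → Pt) (i a e c : Fin 13) : Prop :=
  c ∈ sqs ∧ ∀ x : Pt, Wf F i a x = Option.map (fun y => c * y + e) x

abbrev Cond (F : Pt → Pt) (i a : Fin 13) : Prop :=
  CondAux F i a (getv (Wf F i a (some 0))) (getv (Wf F i a (some 1)) - getv (Wf F i a (some 0)))

set_option synthInstance.maxHeartbeats 400000 in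
set_option synthInstance.maxSize 1024 in
set_option maxRecDepth 100000 in
theorem Fab_cases : ∀ c a b : Fin 13, c ∈ sqs → Cond (Fab c a b) 1 (getv (Fab c a b (some 1))) →
    Fab c a b = Tfun Tcv0 ∨ Fab c a b = Tfun Tcv1 ∨ Fab c a b = Tfun Tcv2 ∨ Fab c a b = Tfun Tcv3 ∨ Fab c a b = Tfun Tcv4 ∨ Fab c a b = Tfun Tcv5 := by
  decide


open Fin.CommRing

theorem U_apply (o : Pt) : Uperm o = Option.map (fun y => y + 1) o := by
  cases o <;> rfl

theorem H_apply (o : Pt) : Hperm o = Option.map (fun y => 4 * y) o := by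
  cases o <;> rfl

theorem Upow_apply (n : ℕ) (o : Pt) :
    (Uperm ^ n) o = Option.map (fun y => y + (n : Fin 13)) o := by
  induction n generalizing o with
  | zero => cases o <;> simp
  | succ n ih =>
    rw [pow_succ, Equiv.Perm.mul_apply, U_apply, ih]
    cases o with
    | none => rfl
    | some y =>
      show some (y + 1 + (n : Fin 13)) = some (y + ((n + 1 : ℕ) : Fin 13))
      rw [Nat.cast_succ]
      congr 1
      ring

theorem Hpow_apply (n : ℕ) (o : Pt) :
    (Hperm ^ n) o = Option.map (fun y => (4 : Fin 13) ^ n * y) o := by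
  induction n generalizing o with
  | zero => cases o <;> simp
  | succ n ih =>
    rw [pow_succ, Equiv.Perm.mul_apply, H_apply, ih]
    cases o with
    | none => rfl
    | some y =>
      show some ((4 : Fin 13) ^ n * (4 * y)) = some ((4 : Fin 13) ^ (n + 1) * y)
      congr 1
      ring

theorem Upow_inv_apply (n : ℕ) (o : Pt) :
    (Uperm ^ n)⁻¹ o = Option.map (fun y => y - (n : Fin 13)) o := by
  rw [Equiv.Perm.inv_eq_iff_eq, Upow_apply]
  cases o with
  | none => rfl
  | some y =>
    show some y = some (y - (n : Fin 13) + (n : Fin 13))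
    congr 1
    ring

theorem pow_mem_sqs (z : ℕ) : (4 : Fin 13) ^ z ∈ sqs := by
  have hd : (4 : Fin 13) ^ 6 = 1 := by decide
  have key : ∀ r : Fin 6, (4 : Fin 13) ^ (r : ℕ) ∈ sqs := by decide
  rw [pow_eq_pow_mod z hd]
  exact key ⟨z % 6, Nat.mod_lt _ (by norm_num)⟩

theorem Cond_of_aff (F : Pt → Pt) (i a c e : Fin 13) (hc : c ∈ sqs)
    (hW : ∀ x, Wf F i a x = Option.map (fun y => c * y + e) x) : Cond F i a := by
  have h0 : getv (Wf F i a (some 0)) = e := by
    rw [hW]
    show c * 0 + e = e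
    ring
  have h1 : getv (Wf F i a (some 1)) - getv (Wf F i a (some 0)) = c := by
    rw [h0, hW]
    show c * 1 + e - e = c
    ring
  unfold Cond
  rw [h1, h0]
  exact ⟨hc, hW⟩

theorem lemmaD (π : Equiv.Perm Pt) (h0 : π none = some 0) (h00 : π (some 0) = none)
    (k : ℕ) (hrel : π * Hperm * π⁻¹ = Hperm ^ k)
    (hbr : ∀ i a : Fin 13, i ≠ 0 → π (some i) = some a → ∃ b z : ℕ,
      π * (Uperm ^ (a : ℕ))⁻¹ * π * Uperm ^ (i : ℕ) * π = Uperm ^ b * Hperm ^ z) :
    ∃ j : ℕ, π = Hperm ^ j * Tc0 := by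
  obtain ⟨c, hcdef⟩ : ∃ c : Fin 13, c = (4 : Fin 13) ^ k := ⟨_, rfl⟩
  have hrel' : ∀ x y : Fin 13, π (some x) = some y → π (some (4 * x)) = some (c * y) := by
    intro x y hxy
    have h := mul_inv_eq_iff_eq_mul.1 hrel
    have h' := DFunLike.congr_fun h (some x)
    rw [Equiv.Perm.mul_apply, Equiv.Perm.mul_apply, H_apply, hxy, Hpow_apply, ← hcdef] at h'
    exact h'
  have hsome : ∀ x : Fin 13, x ≠ 0 → ∃ y : Fin 13, π (some x) = some y := by
    intro x hx
    cases hπx : π (some x) with
    | none =>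
      exfalso
      have := π.injective (hπx.trans h00.symm)
      exact hx (Option.some_injective _ this)
    | some y => exact ⟨y, rfl⟩
  obtain ⟨a, ha⟩ := hsome 1 (by decide)
  obtain ⟨b, hb⟩ := hsome 2 (by decide)
  have es0 : π (some 1) = some a := ha
  have es1 : π (some 4) = some (c * a) := hrel' 1 _ es0
  have es2 : π (some 3) = some (c * (c * a)) := hrel' 4 _ es1
  have es3 : π (some 12) = some (c * (c * (c * a))) := hrel' 3 _ es2
  have es4 : π (some 9) = some (c * (c * (c * (c * a)))) := hrel' 12 _ es3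
  have es5 : π (some 10) = some (c * (c * (c * (c * (c * a))))) := hrel' 9 _ es4
  have en0 : π (some 2) = some b := hb
  have en1 : π (some 8) = some (c * b) := hrel' 2 _ en0
  have en2 : π (some 6) = some (c * (c * b)) := hrel' 8 _ en1
  have en3 : π (some 11) = some (c * (c * (c * b))) := hrel' 6 _ en2
  have en4 : π (some 5) = some (c * (c * (c * (c * b)))) := hrel' 11 _ en3
  have en5 : π (some 7) = some (c * (c * (c * (c * (c * b))))) := hrel' 5 _ en4
  have hF : ⇑π = Fab c a b := by
    funext o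
    match o with
    | none => exact h0
    | some x =>
      fin_cases x
      · exact h00
      · exact es0
      · exact en0
      · exact es2
      · exact es1
      · exact en4
      · exact en2
      · exact en5
      · exact en1
      · exact es4
      · exact es5
      · exact en3
      · exact es3
  have hCond : ∀ i : Fin 13, i ≠ 0 → Cond (Fab c a b) i (getv (Fab c a b (some i))) := by
    intro i hi
    obtain ⟨ai, hai⟩ := hsome i hi
    have hgv : getv (Fab c a b (some i)) = ai := by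
      rw [← hF, hai]
      rfl
    rw [hgv]
    obtain ⟨b', z, hbz⟩ := hbr i ai hi hai
    apply Cond_of_aff (Fab c a b) i ai ((4 : Fin 13) ^ z) (b' : Fin 13) (pow_mem_sqs z)
    intro x
    have h' := DFunLike.congr_fun hbz x
    simp only [Equiv.Perm.mul_apply] at h'
    rw [Upow_inv_apply, Upow_apply, Upow_apply, Hpow_apply, Fin.cast_val_eq_self,
      Fin.cast_val_eq_self, Option.map_map] at h'
    rw [← hF]
    exact h'
  have hcs : c ∈ sqs := by
    rw [hcdef]
    exact pow_mem_sqs k
  rcases Fab_cases c a b hcs (hCond 1 (by decide)) with h | h | h | h | h | h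
  · refine ⟨0, ?_⟩
    rw [pow_zero, one_mul]
    apply Equiv.ext
    intro o
    rw [hF, h]; rfl
  · refine ⟨1, ?_⟩
    rw [← Tc1_eq]
    apply Equiv.ext
    intro o
    rw [hF, h]; rfl
  · refine ⟨2, ?_⟩
    rw [← Tc2_eq]
    apply Equiv.ext
    intro o
    rw [hF, h]; rfl
  · refine ⟨3, ?_⟩
    rw [← Tc3_eq]
    apply Equiv.ext
    intro o
    rw [hF, h]; rfl
  · refine ⟨4, ?_⟩
    rw [← Tc4_eq]
    apply Equiv.ext
    intro o
    rw [hF, h]; rfl
  · refine ⟨5, ?_⟩
    rw [← Tc5_eq]
    apply Equiv.ext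
    intro o
    rw [hF, h]; rfl

theorem closure_mulpow {Γ : Type*} [Group Γ] (a b t : Γ) (j : ℕ) :
    Subgroup.closure ({a, b, b ^ j * t} : Set Γ) = Subgroup.closure ({a, b, t} : Set Γ) := by
  apply le_antisymm
  · rw [Subgroup.closure_le]
    intro x hx
    simp only [Set.mem_insert_iff, Set.mem_singleton_iff] at hx
    have hb : b ∈ Subgroup.closure ({a, b, t} : Set Γ) := Subgroup.subset_closure (by simp)
    have ht : t ∈ Subgroup.closure ({a, b, t} : Set Γ) := Subgroup.subset_closure (by simp)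
    rcases hx with rfl | rfl | rfl
    · exact Subgroup.subset_closure (by simp)
    · exact hb
    · exact Subgroup.mul_mem _ (Subgroup.pow_mem _ hb j) ht
  · rw [Subgroup.closure_le]
    intro x hx
    simp only [Set.mem_insert_iff, Set.mem_singleton_iff] at hx
    have hb : b ∈ Subgroup.closure ({a, b, b ^ j * t} : Set Γ) :=
      Subgroup.subset_closure (by simp)
    have ht : b ^ j * t ∈ Subgroup.closure ({a, b, b ^ j * t} : Set Γ) :=
      Subgroup.subset_closure (by simp)
    rcases hx with rfl | rfl | rfl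
    · exact Subgroup.subset_closure (by simp)
    · exact hb
    · have e : (b ^ j)⁻¹ * (b ^ j * x) = x := by group
      have hmem := Subgroup.mul_mem _ (Subgroup.inv_mem _ (Subgroup.pow_mem _ hb j)) ht
      rw [e] at hmem
      exact hmem

theorem card_le_of_fibers' {A B : Type*} [Finite A] [Finite B] (f : A → B) (k : ℕ)
    (h : ∀ b, Nat.card {a // f a = b} ≤ k) : Nat.card A ≤ Nat.card B * k := by
  classical
  haveI := Fintype.ofFinite B
  rw [← Nat.card_congr (Equiv.sigmaFiberEquiv f), Nat.card_sigma]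
  calc ∑ b, Nat.card {a // f a = b} ≤ ∑ _b : B, k := Finset.sum_le_sum (fun b _ => h b)
    _ = Nat.card B * k := by
        rw [Finset.sum_const, Finset.card_univ, smul_eq_mul, Nat.card_eq_fintype_card]

/-! ## Labelling -/

section labelling

variable {G X : Type*} [Group G] [MulAction G X]

def Emap (u : G) (p q : X) : Pt → X := fun o =>
  match o with
  | none => p
  | some i => u ^ (i : ℕ) • q

theorem Emap_bij [Fintype X] (hX : Fintype.card X = 14) {u : G} {p q : X} (hup : u • p = p)
    (hqp : q ≠ p) (hfree : ∀ i : ℕ, 0 < i → i < 13 → u ^ i • q ≠ q) :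
    Function.Bijective (Emap u p q) := by
  have hupow : ∀ i : ℕ, u ^ i • p = p := by
    intro i
    induction i with
    | zero => simp
    | succ n ih => rw [pow_succ, mul_smul, hup, ih]
  have key : ∀ i j : ℕ, i < j → j < 13 → u ^ i • q ≠ u ^ j • q := by
    intro i j hij hj h
    have e : u ^ j = u ^ i * u ^ (j - i) := by
      rw [← pow_add]; congr 1; omega
    rw [e, mul_smul] at h
    have h' := smul_left_cancel _ h
    exact hfree (j - i) (by omega) (by omega) h'.symm
  have hinj : Function.Injective (Emap u p q) := by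
    intro o1 o2 h
    match o1, o2 with
    | none, none => rfl
    | none, some j =>
      exfalso
      apply hqp
      have h1 : p = u ^ (j : ℕ) • q := h
      have h2 : u ^ (j : ℕ) • q = u ^ (j : ℕ) • p := by rw [hupow]; exact h1.symm
      exact smul_left_cancel _ h2
    | some i, none =>
      exfalso
      apply hqp
      have h1 : u ^ (i : ℕ) • q = p := h
      have h2 : u ^ (i : ℕ) • q = u ^ (i : ℕ) • p := by rw [hupow]; exact h1
      exact smul_left_cancel _ h2
    | some i, some j =>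
      have h1 : u ^ (i : ℕ) • q = u ^ (j : ℕ) • q := h
      congr 1
      apply Fin.ext
      rcases lt_trichotomy (i : ℕ) (j : ℕ) with hlt | heq | hgt
      · exact absurd h1 (key _ _ hlt j.2)
      · exact heq
      · exact absurd h1.symm (key _ _ hgt i.2)
  rw [Fintype.bijective_iff_injective_and_card]
  refine ⟨hinj, ?_⟩
  rw [hX]
  rfl

noncomputable def psi (Eq : Pt ≃ X) : G →* Equiv.Perm Pt where
  toFun g := (Eq.trans (MulAction.toPerm g)).trans Eq.symm
  map_one' := by
    apply Equiv.ext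
    intro o
    simp
  map_mul' g g' := by
    apply Equiv.ext
    intro o
    simp [mul_smul]

theorem psi_apply (Eq : Pt ≃ X) (g : G) (o : Pt) : psi Eq g o = Eq.symm (g • Eq o) := rfl

theorem psi_injective (Eq : Pt ≃ X) (hfaith : ∀ g : G, (∀ x : X, g • x = x) → g = 1) :
    Function.Injective (psi (G := G) Eq) := by
  rw [injective_iff_map_eq_one]
  intro g hg
  apply hfaith
  intro x
  have h := DFunLike.congr_fun hg (Eq.symm x)
  rw [psi_apply, Equiv.apply_symm_apply, Equiv.Perm.one_apply] at h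
  exact Eq.symm.injective h

theorem label_u (Eq : Pt ≃ X) {u : G} {p q : X} (hEq : ∀ o, Eq o = Emap u p q o)
    (hu7 : u ^ 13 = 1) (hup : u • p = p) : psi Eq u = Uperm := by
  apply Equiv.ext
  intro o
  rw [psi_apply, Equiv.symm_apply_eq, hEq, hEq]
  match o with
  | none => exact hup
  | some i =>
    show u • (u ^ (i : ℕ) • q) = u ^ ((i + 1 : Fin 13) : ℕ) • q
    rw [← mul_smul, ← pow_succ', Fin.val_add, Fin.val_one, ← pow_eq_pow_mod _ hu7]

theorem label_h (Eq : Pt ≃ X) {u h : G} {p q : X} (hEq : ∀ o, Eq o = Emap u p q o)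
    (hu7 : u ^ 13 = 1) (hhp : h • p = p) (hhq : h • q = q) (hhu : h * u * h⁻¹ = u ^ 4) :
    psi Eq h = Hperm := by
  apply Equiv.ext
  intro o
  rw [psi_apply, Equiv.symm_apply_eq, hEq, hEq]
  match o with
  | none => exact hhp
  | some i =>
    show h • (u ^ (i : ℕ) • q) = u ^ ((4 * i : Fin 13) : ℕ) • q
    have e : h * u ^ (i : ℕ) = (u ^ 4) ^ (i : ℕ) * h := by
      rw [← hhu, conj_pow, inv_mul_cancel_right]
    have h4 : ((4 : Fin 13) : ℕ) = 4 := rfl
    rw [← mul_smul, e, mul_smul, hhq, ← pow_mul, Fin.val_mul, h4, ← pow_eq_pow_mod _ hu7]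

end labelling


/-! ## the group theory -/

section main

variable {G : Type*} [Group G] [Finite G] [IsSimpleGroup G]

instance factP : Fact (Nat.Prime 13) := ⟨by norm_num⟩

open Cfsg.Agent.Lib.Helper1 Cfsg.Agent.Lib.Helper7

set_option maxRecDepth 100000 in
theorem card_sylP (hG : Nat.card G = 1092) : Nat.card (Sylow 13 G) = 14 := by
  obtain ⟨P⟩ : Nonempty (Sylow 13 G) := inferInstance
  have hP : Nat.card (P : Subgroup G) = 13 :=
    Syl15.sylow_card_eq_prime (by rw [hG]; norm_num) (by rw [hG]; norm_num) P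
  have h1 : Nat.card (Sylow 13 G) % 13 = 1 % 13 := card_sylow_modEq_one 13 G
  have h3 : Nat.card (Sylow 13 G) ≠ 1 :=
    card_sylow_ne_one_of_simple P
      (subgroup_ne_bot_of_card _ (by rw [hP]; norm_num))
      (subgroup_ne_top_of_card _ (by rw [hP, hG]; norm_num))
  have h4 : Nat.card (Sylow 13 G) ∣ 84 := by
    have := Sylow.card_dvd_index P
    have hidx : (P : Subgroup G).index = 84 := by
      have := Subgroup.card_mul_index (P : Subgroup G)
      rw [hP, hG] at this
      omega
    rwa [hidx] at this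
  have h5 : Nat.card (Sylow 13 G) ≤ 84 := Nat.le_of_dvd (by norm_num) h4
  have key : ∀ n ≤ 84, n ∣ 84 → n % 13 = 1 % 13 → n ≠ 1 → n = 14 := by decide
  exact key _ h5 h4 h1 h3

theorem arithO : ∀ q ≤ 6, 1 < q → q ∣ 6 → ¬ (4 ^ (6 / q) % 13 = 1 % 13) := by
  decide

theorem arithK : ∀ c ≤ 12, c ∣ 78 → 78 ≤ 14 * c → c = 6 := by
  decide

set_option maxHeartbeats 3200000 in
theorem exists_iso (hG : Nat.card G = 1092) :
    Nonempty (G ≃* (Subgroup.closure ({Uperm, Hperm, Tc0} : Set (Equiv.Perm Pt)))) := by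
  classical
  letI : Fintype (Sylow 13 G) := Fintype.ofFinite _
  have hcardX : Fintype.card (Sylow 13 G) = 14 := by
    rw [← Nat.card_eq_fintype_card]; exact card_sylP hG
  have hS7 : ∀ Q : Sylow 13 G, Nat.card (Q : Subgroup G) = 13 := fun Q =>
    Syl15.sylow_card_eq_prime (by rw [hG]; norm_num) (by rw [hG]; norm_num) Q
  have hN21 : ∀ Q : Sylow 13 G,
      Nat.card (Subgroup.normalizer ((Q : Subgroup G) : Set G)) = 78 := by
    intro Q
    have := card_normalizer_mul_card_sylow Q
    rw [hG, card_sylP hG] at this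
    omega
  obtain ⟨P⟩ : Nonempty (Sylow 13 G) := inferInstance
  obtain ⟨u, huP, hu1⟩ := SylCyc.exists_mem_ne_one_of_card_prime P (hS7 P)
  have hu7 : u ^ 13 = 1 := by
    have := pow_card_eq_one' (G := (P : Subgroup G)) (x := ⟨u, huP⟩)
    rw [hS7 P] at this
    exact congrArg Subtype.val this
  have horder : orderOf u = 13 := orderOf_eq_prime hu7 hu1
  have hzcard : ∀ g : G, orderOf g = 13 → ∀ Q : Sylow 13 G, g ∈ (Q : Subgroup G) →
      (Q : Subgroup G) = Subgroup.zpowers g := by
    intro g hg Q hgQ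
    symm
    apply Subgroup.eq_of_le_of_card_ge
    · rw [Subgroup.zpowers_le]; exact hgQ
    · rw [hS7 Q, Nat.card_zpowers, hg]
  have hPz := hzcard u horder P huP
  have hup : u • P = P := Sylow.smul_eq_iff_mem_normalizer.2 (Subgroup.le_normalizer huP)
  have hupow : ∀ i : ℕ, u ^ i • P = P := fun i =>
    Sylow.smul_eq_iff_mem_normalizer.2 (Subgroup.le_normalizer (Subgroup.pow_mem _ huP i))
  have hfree : ∀ Q : Sylow 13 G, Q ≠ P → ∀ i : ℕ, 0 < i → i < 13 → u ^ i • Q ≠ Q := by
    intro Q hQ i hi0 hi7 hfix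
    have hg1 : u ^ i ≠ 1 := by
      intro h
      have := orderOf_dvd_of_pow_eq_one h
      rw [horder] at this
      exact absurd (Nat.le_of_dvd hi0 this) (by omega)
    have hg7 : (u ^ i) ^ 13 = 1 := by rw [← pow_mul, mul_comm, pow_mul, hu7, one_pow]
    have hgo : orderOf (u ^ i) = 13 := orderOf_eq_prime hg7 hg1
    have hpg : IsPGroup 13 (Subgroup.zpowers (u ^ i)) := by
      apply IsPGroup.of_card (n := 1)
      rw [Nat.card_zpowers, hgo, pow_one]
    have hinf := hpg.inf_normalizer_sylow Q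
    have hgQ : u ^ i ∈ (Q : Subgroup G) := by
      have h2 : u ^ i ∈ Subgroup.zpowers (u ^ i) ⊓ (Q : Subgroup G) := by
        rw [← hinf]
        exact ⟨Subgroup.mem_zpowers _, Sylow.smul_eq_iff_mem_normalizer.1 hfix⟩
      exact h2.2
    apply hQ
    apply Sylow.ext
    rw [hzcard (u ^ i) hgo Q hgQ, hzcard (u ^ i) hgo P (Subgroup.pow_mem _ huP i)]
  -- a second point
  obtain ⟨Q0, hQ0P⟩ : ∃ Q0 : Sylow 13 G, Q0 ≠ P := by
    by_contra hcon
    have hall : ∀ Q : Sylow 13 G, Q = P := by
      intro Q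
      by_contra hne
      exact hcon ⟨Q, hne⟩
    have h1 : Fintype.card (Sylow 13 G) ≤ 1 :=
      Fintype.card_le_one_iff.2 (fun a b => by rw [hall a, hall b])
    omega
  -- faithfulness
  have hfaith : ∀ g : G, (∀ Q : Sylow 13 G, g • Q = Q) → g = 1 := by
    intro g hg
    have hker : g ∈ (MulAction.toPermHom G (Sylow 13 G)).ker := by
      rw [MonoidHom.mem_ker]
      apply Equiv.ext
      intro Q
      exact hg Q
    rcases Subgroup.Normal.eq_bot_or_eq_top
      (inferInstance : (MulAction.toPermHom G (Sylow 13 G)).ker.Normal) with hb | ht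
    · rw [hb, Subgroup.mem_bot] at hker; exact hker
    · exfalso
      have hu : u ∈ (MulAction.toPermHom G (Sylow 13 G)).ker := by
        rw [ht]; exact Subgroup.mem_top u
      rw [MonoidHom.mem_ker] at hu
      have h1 : u • Q0 = Q0 := DFunLike.congr_fun hu Q0
      exact hfree Q0 hQ0P 1 (by norm_num) (by norm_num) (by rw [pow_one]; exact h1)
  -- labelling
  have hbij := Emap_bij hcardX hup hQ0P (hfree Q0 hQ0P)
  obtain ⟨Eq, hEq⟩ : ∃ Eq : Pt ≃ Sylow 13 G, ∀ o, Eq o = Emap u P Q0 o :=
    ⟨Equiv.ofBijective _ hbij, fun o => rfl⟩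
  have hψu := label_u Eq hEq hu7 hup
  have hψinj := psi_injective (G := G) Eq hfaith
  have hEnone : Eq none = P := by rw [hEq]; rfl
  have hE0 : Eq (some 0) = Q0 := by
    rw [hEq]
    show u ^ ((0 : Fin 13) : ℕ) • Q0 = Q0
    simp
  -- the two-point stabilizer
  obtain ⟨K, hKdef⟩ : ∃ K : Subgroup G,
      K = MulAction.stabilizer G P ⊓ MulAction.stabilizer G Q0 := ⟨_, rfl⟩
  have hKmem : ∀ t : G, t ∈ K ↔ t • P = P ∧ t • Q0 = Q0 := by
    intro t
    rw [hKdef, Subgroup.mem_inf, MulAction.mem_stabilizer_iff, MulAction.mem_stabilizer_iff]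
  have hTP : ∀ t ∈ K, t • P = P := fun t ht => ((hKmem t).1 ht).1
  have hQ0fix : ∀ t ∈ K, t • Q0 = Q0 := fun t ht => ((hKmem t).1 ht).2
  have hTN : K ≤ Subgroup.normalizer ((P : Subgroup G) : Set G) := by
    intro t ht
    exact Sylow.smul_eq_iff_mem_normalizer.1 (hTP t ht)
  -- the conjugation exponents of the elements of K
  have hconj_gen : ∀ (x : G) (m : ℕ), x * u * x⁻¹ = u ^ m →
      ∀ j : ℕ, x ^ j * u * (x ^ j)⁻¹ = u ^ (m ^ j) := by
    intro x m hx j
    induction j with
    | zero => simp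
    | succ j ih =>
      have e : x ^ (j + 1) * u * (x ^ (j + 1))⁻¹ = x * (x ^ j * u * (x ^ j)⁻¹) * x⁻¹ := by
        rw [pow_succ']
        simp only [mul_inv_rev, mul_assoc]
      rw [e, ih, ← conj_pow, hx, ← pow_mul, pow_succ']
  have hTex : ∀ t : K, ∃ m : ℕ, m < 13 ∧ (t : G) * u * (t : G)⁻¹ = u ^ m := by
    intro t
    have hmem : (t : G) * u * (t : G)⁻¹ ∈ (P : Subgroup G) :=
      ((Subgroup.mem_normalizer_iff.1 (hTN t.2)) u).1 huP
    rw [hPz, Subgroup.mem_zpowers_iff] at hmem
    obtain ⟨k, hk⟩ := hmem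
    have h0' := Int.emod_nonneg k (by norm_num : (13:ℤ) ≠ 0)
    have h7' := Int.emod_lt_of_pos k (by norm_num : (0:ℤ) < 13)
    refine ⟨(k % 13).toNat, by omega, ?_⟩
    rw [← hk, ← zpow_natCast, Int.toNat_of_nonneg h0']
    have := zpow_mod_orderOf u k
    rw [horder] at this
    exact this.symm
  choose mf hmf_lt hmf using hTex
  have hmf_pos : ∀ t : K, mf t ≠ 0 := by
    intro t h0
    have e := hmf t
    rw [h0, pow_zero] at e
    apply hu1
    have e2 : u = (t : G)⁻¹ * ((t : G) * u * (t : G)⁻¹) * (t : G) := by group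
    rw [e2, e]
    group
  have hmf_inj : Function.Injective mf := by
    intro t1 t2 h12
    have hc : Commute ((t1 : G)⁻¹ * (t2 : G)) u := by
      have h1 := hmf t1
      have h2 := hmf t2
      rw [h12] at h1
      have h3 : (t1 : G) * u * (t1 : G)⁻¹ = (t2 : G) * u * (t2 : G)⁻¹ := by rw [h1, h2]
      show (t1 : G)⁻¹ * (t2 : G) * u = u * ((t1 : G)⁻¹ * (t2 : G))
      calc (t1 : G)⁻¹ * (t2 : G) * u = (t1 : G)⁻¹ * ((t2 : G) * u * (t2 : G)⁻¹) * (t2 : G) := by group
        _ = (t1 : G)⁻¹ * ((t1 : G) * u * (t1 : G)⁻¹) * (t2 : G) := by rw [h3]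
        _ = u * ((t1 : G)⁻¹ * (t2 : G)) := by group
    have hc1 : (t1 : G)⁻¹ * (t2 : G) = 1 := by
      apply hfaith
      intro Q
      have hcP : ((t1 : G)⁻¹ * (t2 : G)) • P = P := by
        rw [mul_smul, hTP _ t2.2, inv_smul_eq_iff, hTP _ t1.2]
      have hcQ : ((t1 : G)⁻¹ * (t2 : G)) • Q0 = Q0 := by
        rw [mul_smul, hQ0fix _ t2.2, inv_smul_eq_iff, hQ0fix _ t1.2]
      obtain ⟨o, rfl⟩ := Eq.surjective Q
      rw [hEq]
      match o with
      | none => exact hcP
      | some i =>
        show ((t1 : G)⁻¹ * (t2 : G)) • (u ^ (i : ℕ) • Q0) = u ^ (i : ℕ) • Q0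
        rw [← mul_smul, (hc.pow_right (i : ℕ)).eq, mul_smul, hcQ]
    apply Subtype.ext
    exact inv_mul_eq_one.1 hc1
  haveI : Fintype K := Fintype.ofFinite _
  -- the order of K
  have hKle : Nat.card K ≤ 12 := by
    have himg0 : Finset.univ.image mf ⊆ Finset.Ico 1 13 := by
      intro m hm
      rw [Finset.mem_image] at hm
      obtain ⟨t, -, rfl⟩ := hm
      rw [Finset.mem_Ico]
      exact ⟨Nat.pos_of_ne_zero (hmf_pos t), hmf_lt t⟩
    have h1 := Finset.card_le_card himg0
    rw [Finset.card_image_of_injective _ hmf_inj, Finset.card_univ, Nat.card_Ico,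
      ← Nat.card_eq_fintype_card] at h1
    omega
  have hKge : 78 ≤ 14 * Nat.card K := by
    have hfib : ∀ Q : Sylow 13 G,
        Nat.card {x : Subgroup.normalizer ((P : Subgroup G) : Set G) // (x : G) • Q0 = Q}
          ≤ Nat.card K := by
      intro Q
      by_cases hne : Nonempty
          {x : Subgroup.normalizer ((P : Subgroup G) : Set G) // (x : G) • Q0 = Q}
      · obtain ⟨x0⟩ := hne
        have hmemK : ∀ x : {x : Subgroup.normalizer ((P : Subgroup G) : Set G) //
            (x : G) • Q0 = Q}, ((x0.1 : G))⁻¹ * (x.1 : G) ∈ K := by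
          intro x
          rw [hKmem]
          constructor
          · rw [mul_smul, Sylow.smul_eq_iff_mem_normalizer.2 x.1.2, inv_smul_eq_iff,
              Sylow.smul_eq_iff_mem_normalizer.2 x0.1.2]
          · rw [mul_smul, x.2, inv_smul_eq_iff, x0.2]
        apply Nat.card_le_card_of_injective (fun x => (⟨_, hmemK x⟩ : K))
        intro x y hxy
        have h1 : ((x0.1 : G))⁻¹ * (x.1 : G) = ((x0.1 : G))⁻¹ * (y.1 : G) :=
          congrArg Subtype.val hxy
        exact Subtype.ext (Subtype.ext (mul_left_cancel h1))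
      · rw [not_nonempty_iff] at hne
        rw [Nat.card_of_isEmpty]
        exact Nat.zero_le _
    have := card_le_of_fibers'
      (fun x : Subgroup.normalizer ((P : Subgroup G) : Set G) => (x : G) • Q0) (Nat.card K) hfib
    rw [hN21 P, card_sylP hG] at this
    exact this
  have hKdvd : Nat.card K ∣ 78 := by
    have := Subgroup.card_dvd_of_le hTN
    rwa [hN21 P] at this
  have hKcard : Nat.card K = 6 := arithK _ hKle hKdvd hKge
  have hTpow : ∀ t ∈ K, t ^ 6 = 1 := by
    intro t ht
    have := pow_card_eq_one' (G := K) (x := ⟨t, ht⟩)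
    rw [hKcard] at this
    exact congrArg Subtype.val this
  have hmfD : ∀ t : K, mf t ^ 6 % 13 = 1 % 13 := by
    intro t
    have e := hconj_gen (t : G) (mf t) (hmf t) 6
    rw [hTpow t t.2, one_mul, inv_one, mul_one] at e
    have := (pow_eq_pow_iff_modEq (x := u) (n := 1) (m := mf t ^ 6)).1
      (by rw [pow_one]; exact e)
    rw [horder] at this
    exact this.symm
  have hS9 : ((Finset.range 13).filter (fun m => m ^ 6 % 13 = 1 % 13)).card = 6 := by
    decide
  have himg : Finset.univ.image mf ⊆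
      (Finset.range 13).filter (fun m => m ^ 6 % 13 = 1 % 13) := by
    intro m hm
    rw [Finset.mem_image] at hm
    obtain ⟨t, -, rfl⟩ := hm
    rw [Finset.mem_filter, Finset.mem_range]
    exact ⟨hmf_lt t, hmfD t⟩
  have hcardimg : (Finset.univ.image mf).card = 6 := by
    rw [Finset.card_image_of_injective _ hmf_inj, Finset.card_univ, ← Nat.card_eq_fintype_card,
      hKcard]
  have himgeq := Finset.eq_of_subset_of_card_le himg (by rw [hcardimg, hS9])
  have h4mem : 4 ∈ (Finset.range 13).filter (fun m => m ^ 6 % 13 = 1 % 13) := by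
    decide
  rw [← himgeq, Finset.mem_image] at h4mem
  obtain ⟨t, -, ht⟩ := h4mem
  obtain ⟨h, hhdef⟩ : ∃ h : G, h = (t : G) := ⟨_, rfl⟩
  have hhT : h ∈ K := by rw [hhdef]; exact t.2
  have hhu : h * u * h⁻¹ = u ^ 4 := by rw [hhdef, hmf t, ht]
  have hh3 : h ^ 6 = 1 := hTpow h hhT
  have hhP : h • P = P := hTP h hhT
  have hhQ : h • Q0 = Q0 := hQ0fix h hhT
  have hhconj_iter : ∀ j : ℕ, h ^ j * u * (h ^ j)⁻¹ = u ^ (4 ^ j) :=
    hconj_gen h 4 hhu
  have hho : orderOf h = 6 := by
    apply orderOf_eq_of_pow_and_pow_div_prime (by norm_num) hh3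
    intro q hq hqd h1
    have hqle : q ≤ 6 := Nat.le_of_dvd (by norm_num) hqd
    have e := hhconj_iter (6 / q)
    rw [h1, one_mul, inv_one, mul_one] at e
    have := (pow_eq_pow_iff_modEq (x := u) (n := 1) (m := 4 ^ (6 / q))).1
      (by rw [pow_one]; exact e)
    rw [horder] at this
    exact arithO q hqle hq.one_lt hqd this.symm
  have hψh := label_h Eq hEq hu7 hhP hhQ hhu
  have hKz : K = Subgroup.zpowers h := by
    symm
    apply Subgroup.eq_of_le_of_card_ge
    · rw [Subgroup.zpowers_le]; exact hhT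
    · rw [hKcard, Nat.card_zpowers, hho]
  have hKpow : ∀ t ∈ K, ∃ j : ℕ, t = h ^ j := by
    intro t ht
    rw [hKz, Subgroup.mem_zpowers_iff] at ht
    obtain ⟨z, hz⟩ := ht
    have h0' := Int.emod_nonneg z (by norm_num : (6:ℤ) ≠ 0)
    refine ⟨(z % 6).toNat, ?_⟩
    rw [← hz, ← zpow_natCast, Int.toNat_of_nonneg h0']
    have := zpow_mod_orderOf h z
    rw [hho] at this
    exact this.symm
  -- the stabilizer of P is P K
  have hstar : ∀ x : G, x • P = P → ∃ b j : ℕ, x = u ^ b * h ^ j := by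
    intro x hx
    obtain ⟨o, ho⟩ := Eq.surjective (x • Q0)
    rw [hEq] at ho
    match o, ho with
    | none, ho =>
      exfalso
      apply hQ0P
      have ho' : P = x • Q0 := ho
      have e : x • Q0 = x • P := by rw [hx]; exact ho'.symm
      exact smul_left_cancel _ e
    | some i, ho =>
      have ho' : u ^ (i : ℕ) • Q0 = x • Q0 := ho
      have hK : (u ^ (i : ℕ))⁻¹ * x ∈ K := by
        rw [hKmem]
        constructor
        · rw [mul_smul, hx, inv_smul_eq_iff, hupow]
        · rw [mul_smul, ← ho', inv_smul_smul]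
      obtain ⟨j, hj⟩ := hKpow _ hK
      refine ⟨i, j, ?_⟩
      rw [← hj]
      group
  -- an element interchanging P and Q0
  obtain ⟨g0, hg0⟩ := MulAction.exists_smul_eq G Q0 P
  have hg0P : g0 • P ≠ P := by
    intro hcon
    apply hQ0P
    have e : g0 • Q0 = g0 • P := by rw [hg0, hcon]
    exact smul_left_cancel _ e
  obtain ⟨s0, hs0Q, hs0P⟩ : ∃ s0 : G, s0 • Q0 = P ∧ s0 • P = Q0 := by
    obtain ⟨o, ho⟩ := Eq.surjective (g0 • P)
    rw [hEq] at ho
    match o, ho with
    | none, ho =>
      have ho' : P = g0 • P := ho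
      exact absurd ho'.symm hg0P
    | some i, ho =>
      have ho' : u ^ (i : ℕ) • Q0 = g0 • P := ho
      refine ⟨(u ^ (i : ℕ))⁻¹ * g0, ?_, ?_⟩
      · rw [mul_smul, hg0, inv_smul_eq_iff, hupow]
      · rw [mul_smul, ← ho', inv_smul_smul]
  have e1 : s0⁻¹ • P = Q0 := by rw [inv_smul_eq_iff, hs0Q]
  have e2 : s0⁻¹ • Q0 = P := by rw [inv_smul_eq_iff, hs0P]
  obtain ⟨kn, hs0k⟩ : ∃ kn : ℕ, s0 * h * s0⁻¹ = h ^ kn := by
    apply hKpow
    rw [hKmem]
    constructor
    · rw [mul_smul, mul_smul, e1, hhQ, hs0Q]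
    · rw [mul_smul, mul_smul, e2, hhP, hs0P]
  -- the image of s0
  have hπ0 : psi Eq s0 none = some 0 := by
    rw [psi_apply, hEnone, hs0P, Equiv.symm_apply_eq, hE0]
  have hπ00 : psi Eq s0 (some 0) = none := by
    rw [psi_apply, hE0, hs0Q, Equiv.symm_apply_eq, hEnone]
  have hπrel : psi Eq s0 * Hperm * (psi Eq s0)⁻¹ = Hperm ^ kn := by
    rw [← hψh, ← map_inv, ← map_mul, ← map_mul, hs0k, map_pow]
  have hbr : ∀ i a : Fin 13, i ≠ 0 → psi Eq s0 (some i) = some a → ∃ b z : ℕ,
      psi Eq s0 * (Uperm ^ (a : ℕ))⁻¹ * psi Eq s0 * Uperm ^ (i : ℕ) * psi Eq s0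
        = Uperm ^ b * Hperm ^ z := by
    intro i a _ ha
    have h1 : s0 • (u ^ (i : ℕ) • Q0) = u ^ (a : ℕ) • Q0 := by
      rw [psi_apply, Equiv.symm_apply_eq, hEq, hEq] at ha
      exact ha
    have hfixP : (s0 * (u ^ (a : ℕ))⁻¹ * s0 * u ^ (i : ℕ) * s0) • P = P := by
      rw [mul_smul, mul_smul, mul_smul, mul_smul, hs0P, h1, inv_smul_smul, hs0Q]
    obtain ⟨b, z, hbz⟩ := hstar _ hfixP
    refine ⟨b, z, ?_⟩
    have e := congrArg (psi (G := G) Eq) hbz
    simp only [map_mul, map_inv, map_pow, hψu, hψh] at e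
    exact e
  obtain ⟨jj, hπ⟩ := lemmaD (psi Eq s0) hπ0 hπ00 kn hπrel hbr
  -- generation
  have hgen : Subgroup.closure ({u, h, s0} : Set G) = ⊤ := by
    have huM : u ∈ Subgroup.closure ({u, h, s0} : Set G) := Subgroup.subset_closure (by simp)
    have hhM : h ∈ Subgroup.closure ({u, h, s0} : Set G) := Subgroup.subset_closure (by simp)
    have hsM : s0 ∈ Subgroup.closure ({u, h, s0} : Set G) := Subgroup.subset_closure (by simp)
    have hNle : Subgroup.normalizer ((P : Subgroup G) : Set G)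
        ≤ Subgroup.closure ({u, h, s0} : Set G) := by
      intro x hx
      obtain ⟨b, j, rfl⟩ := hstar x (Sylow.smul_eq_iff_mem_normalizer.2 hx)
      exact Subgroup.mul_mem _ (Subgroup.pow_mem _ huM b) (Subgroup.pow_mem _ hhM j)
    have hdvd := Subgroup.card_dvd_of_le hNle
    rw [hN21 P] at hdvd
    have hcne : Nat.card (Subgroup.closure ({u, h, s0} : Set G)) ≠ 78 := by
      intro hc
      have heq : Subgroup.normalizer ((P : Subgroup G) : Set G)
          = Subgroup.closure ({u, h, s0} : Set G) := by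
        apply Subgroup.eq_of_le_of_card_ge hNle
        rw [hc, hN21 P]
      have hmem : s0 ∈ Subgroup.normalizer ((P : Subgroup G) : Set G) := by
        rw [heq]; exact hsM
      have hfix := Sylow.smul_eq_iff_mem_normalizer.2 hmem
      rw [hs0P] at hfix
      exact hQ0P hfix
    have hci := Subgroup.card_mul_index (Subgroup.closure ({u, h, s0} : Set G))
    rw [hG] at hci
    by_contra hne
    have hfac := card_dvd_factorial_index_of_simple _ hne
    rw [hG] at hfac
    obtain ⟨c, hc⟩ := hdvd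
    rw [hc] at hci hcne
    have hki : c * (Subgroup.closure ({u, h, s0} : Set G)).index = 14 := by
      have : 78 * (c * (Subgroup.closure ({u, h, s0} : Set G)).index) = 78 * 14 := by
        rw [← mul_assoc]; exact hci
      exact Nat.eq_of_mul_eq_mul_left (by norm_num) this
    have hc1 : c ≠ 1 := by
      rintro rfl
      exact hcne (mul_one _)
    have hc0 : c ≠ 0 := by
      rintro rfl
      rw [zero_mul] at hki
      norm_num at hki
    have h2le : 2 * (Subgroup.closure ({u, h, s0} : Set G)).index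
        ≤ c * (Subgroup.closure ({u, h, s0} : Set G)).index :=
      Nat.mul_le_mul_right _ (by omega)
    have hpd : 13 ∣ ((Subgroup.closure ({u, h, s0} : Set G)).index).factorial :=
      Dvd.dvd.trans (by norm_num) hfac
    have := (Nat.Prime.dvd_factorial (by norm_num : Nat.Prime 13)).1 hpd
    omega
  have hrange : (psi (G := G) Eq).range
      = Subgroup.closure ({Uperm, Hperm, psi Eq s0} : Set (Equiv.Perm Pt)) := by
    rw [MonoidHom.range_eq_map, ← hgen, MonoidHom.map_closure]
    congr 1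
    rw [Set.image_insert_eq, Set.image_insert_eq, Set.image_singleton, hψu, hψh]
  have hL : Subgroup.closure ({Uperm, Hperm, psi Eq s0} : Set (Equiv.Perm Pt))
      = Subgroup.closure ({Uperm, Hperm, Tc0} : Set (Equiv.Perm Pt)) := by
    rw [hπ]
    exact closure_mulpow Uperm Hperm Tc0 jj
  exact ⟨(MonoidHom.ofInjective hψinj).trans (MulEquiv.subgroupCongr (hrange.trans hL))⟩

end main

theorem psl_simple_card {F : Type*} [Field F] [Fintype F] (hF : Fintype.card F = 13) :
    IsSimpleGroup (Matrix.ProjectiveSpecialLinearGroup (Fin 2) F) ∧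
      Nat.card (Matrix.ProjectiveSpecialLinearGroup (Fin 2) F) = 1092 := by
  constructor
  · exact Matrix.ProjectiveSpecialLinearGroup.rank_two_simple (by
      rw [Nat.card_eq_fintype_card, hF]; norm_num)
  · have h := Cfsg.Agent.Lib.Helper1.card_PSL2 F
    rw [hF] at h
    have h2 : Nat.gcd 2 (13 - 1) = 2 := by decide
    rw [h2] at h
    omega

theorem iso_of_simple {G₁ G₂ : Type*} [Group G₁] [Finite G₁] [IsSimpleGroup G₁]
    [Group G₂] [Finite G₂] [IsSimpleGroup G₂] (h₁ : Nat.card G₁ = 1092)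
    (h₂ : Nat.card G₂ = 1092) : Nonempty (G₁ ≃* G₂) := by
  obtain ⟨e₁⟩ := exists_iso h₁
  obtain ⟨e₂⟩ := exists_iso h₂
  exact ⟨e₁.trans e₂.symm⟩

theorem iso_psl {G : Type*} [Group G] [Finite G] [IsSimpleGroup G] (h : Nat.card G = 1092)
    {F : Type*} [Field F] [Fintype F] (hF : Fintype.card F = 13) :
    Nonempty (G ≃* Matrix.ProjectiveSpecialLinearGroup (Fin 2) F) := by
  obtain ⟨hs, hc⟩ := psl_simple_card hF
  haveI := hs
  exact iso_of_simple h hc

end Cfsg.Agent.S0498.P13

namespace Cfsg.Agent.S0498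

/-- A simple group of order 660, respectively 1092, is isomorphic to the projective special linear group of dimension 2
over the field with 11, respectively 13, elements. -/
theorem result {G : Type*} [Group G] [Finite G] [IsSimpleGroup G] (p : ℕ)
    (hp : p = 11 ∨ p = 13) (h : 2 * Nat.card G = p * (p ^ 2 - 1)) {F : Type*} [Field F] [Fintype F]
    (hF : Fintype.card F = p) : Nonempty (G ≃* Matrix.ProjectiveSpecialLinearGroup (Fin 2) F) := by
  rcases hp with rfl | rfl
  · have hG : Nat.card G = 660 := by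
      norm_num at h
      omega
    exact P11.iso_psl hG hF
  · have hG : Nat.card G = 1092 := by
      norm_num at h
      omega
    exact P13.iso_psl hG hF

end Cfsg.Agent.S0498
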