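import Cfsg.Statements.S0499
import Mathlib
import Cfsg.Agent.S0071
import Cfsg.Agent.Lib.Helper1.AutFixed

set_option autoImplicit false
open Cfsg

namespace Cfsg.Agent.S0499


open Cfsg.Agent.Lib.Helper1

/-- a nonabelian simple group has no normal complement to a nontrivial Sylow subgroup -/
theorem false_of_normal_complement {G : Type*} [Group G] [Finite G] [IsSimpleGroup G]
    (hG : ¬ IsMulCommutative G) {p : ℕ} [Fact p.Prime] (P : Sylow p G) (hp : p ∣ Nat.card G)
    (K : Subgroup G) (hKn : K.Normal) (hK : K.IsComplement' (P : Subgroup G)) : False := by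
  rcases hKn.eq_bot_or_eq_top with h0 | h1
  · rw [h0, Subgroup.isComplement'_bot_left] at hK
    have hpG : IsPGroup p G := by
      have := P.2
      rw [hK] at this
      exact this.of_equiv Subgroup.topEquiv
    haveI : Nontrivial (Subgroup.center G) := hpG.center_nontrivial
    rcases (inferInstance : (Subgroup.center G).Normal).eq_bot_or_eq_top with hc | hc
    · have : Subsingleton (Subgroup.center G) := by rw [hc]; infer_instance
      exact not_nontrivial _ ‹Nontrivial (Subgroup.center G)›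
    · apply hG
      refine ⟨⟨fun a b => ?_⟩⟩
      have ha : a ∈ Subgroup.center G := by rw [hc]; trivial
      exact (Subgroup.mem_center_iff.1 ha b).symm
  · rw [h1, Subgroup.isComplement'_top_left] at hK
    have h2 : p ∣ Nat.card (P : Subgroup G) := P.dvd_card_of_dvd_card hp
    rw [hK, Subgroup.card_bot, Nat.dvd_one] at h2
    exact (Nat.Prime.one_lt Fact.out).ne' h2


/-- A non-abelian finite simple group of even order has order divisible by 12, 16 or 56. -/
theorem result {G : Type*} [Group G] [Finite G] [IsSimpleGroup G]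
    (hG : ¬ IsMulCommutative G) (h2 : Even (Nat.card G)) :
    12 ∣ Nat.card G ∨ 16 ∣ Nat.card G ∨ 56 ∣ Nat.card G := by
  by_contra hcon
  push Not at hcon
  obtain ⟨h12, h16, h56⟩ := hcon
  haveI : Fact (Nat.Prime 2) := ⟨Nat.prime_two⟩
  obtain ⟨P⟩ : Nonempty (Sylow 2 G) := inferInstance
  have h2G : 2 ∣ Nat.card G := h2.two_dvd
  obtain ⟨k, hk⟩ := IsPGroup.iff_card.1 P.2
  have hk' : Nat.card (P : Subgroup G) = 2 ^ k := hk
  have hPdvd : 2 ^ k ∣ Nat.card G := by rw [← hk']; exact Subgroup.card_subgroup_dvd_card _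
  have hk3 : k ≤ 3 := by
    by_contra hk4
    push Not at hk4
    exact h16 (dvd_trans (pow_dvd_pow 2 hk4 : 2 ^ 4 ∣ 2 ^ k) hPdvd)
  have hfrob : ∀ Q : Subgroup G, Q ≤ (P : Subgroup G) →
      ∀ g ∈ Subgroup.normalizer (Q : Set G), Nat.Coprime (orderOf g) 2 →
      g ∈ Subgroup.centralizer (Q : Set G) := by
    intro Q hQ g hg hcop
    apply mem_centralizer_of_fixed Q g hg
    intro q hq hqg F hmod
    have hq2 : q ≠ 2 := by
      rintro rfl
      have := Nat.Coprime.eq_one_of_dvd hcop.symm hqg
      omega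
    have hqG : q ∣ Nat.card G := dvd_trans hqg (orderOf_dvd_natCard g)
    have hQp : IsPGroup 2 Q := P.2.to_le hQ
    obtain ⟨i, hi⟩ := IsPGroup.iff_card.1 hQp
    obtain ⟨j, hj⟩ := IsPGroup.iff_card.1 (hQp.to_subgroup F)
    have hik : i ≤ k := by
      have : 2 ^ i ∣ 2 ^ k := by rw [← hi, ← hk']; exact Subgroup.card_dvd_of_le hQ
      exact (Nat.pow_dvd_pow_iff_le_right (by norm_num)).1 this
    have hji : j ≤ i := by
      have : 2 ^ j ∣ 2 ^ i := by rw [← hi, ← hj]; exact Subgroup.card_subgroup_dvd_card F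
      exact (Nat.pow_dvd_pow_iff_le_right (by norm_num)).1 this
    have hiG : 2 ^ i ∣ Nat.card G := dvd_trans (pow_dvd_pow 2 hik) hPdvd
    rw [← Subgroup.card_eq_iff_eq_top, hi, hj]
    rw [hi, hj] at hmod
    by_contra hne
    have hlt : j < i := lt_of_le_of_ne hji (fun h => hne (by rw [h]))
    have hle : 2 ^ j ≤ 2 ^ i := Nat.pow_le_pow_right (by norm_num) hji
    have hdvd : q ∣ 2 ^ i - 2 ^ j := (Nat.modEq_iff_dvd' hle).1 hmod.symm
    have hi3 : i ≤ 3 := le_trans hik hk3
    have hq3 : q ∣ 3 → False := by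
      intro h3
      have hq3' : q = 3 := (Nat.prime_dvd_prime_iff_eq hq (by norm_num)).1 h3
      subst hq3'
      have h4 : 4 ∣ Nat.card G := by
        have : 2 ≤ i := by
          by_contra hcon
          have : i ≤ 1 := by omega
          interval_cases i <;> interval_cases j <;> norm_num at hdvd
        exact dvd_trans (pow_dvd_pow 2 this : 2 ^ 2 ∣ 2 ^ i) hiG
      exact h12 ((by norm_num : Nat.Coprime 3 4).mul_dvd_of_dvd_of_dvd hqG h4)
    have hq2' : q ∣ 2 → False := fun h => hq2 ((Nat.prime_dvd_prime_iff_eq hq Nat.prime_two).1 h)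
    interval_cases i <;> interval_cases j
    · norm_num at hdvd; exact hq.one_lt.ne' hdvd
    · exact hq3 hdvd
    · exact hq2' hdvd
    · have hq7 : q = 7 := (Nat.prime_dvd_prime_iff_eq hq (by norm_num)).1 hdvd
      subst hq7
      exact h56 ((by norm_num : Nat.Coprime 7 8).mul_dvd_of_dvd_of_dvd hqG hiG)
    · have h6 : q ∣ 2 * 3 := hdvd
      rcases (Nat.Prime.dvd_mul hq).1 h6 with h | h
      · exact hq2' h
      · exact hq3 h
    · have h4 : q ∣ 2 * 2 := hdvd
      rcases (Nat.Prime.dvd_mul hq).1 h4 with h | h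
      · exact hq2' h
      · exact hq2' h
  obtain ⟨K, hKn, hK⟩ := (Cfsg.Agent.S0071.result P).2 hfrob
  exact false_of_normal_complement hG P h2G K hKn hK

end Cfsg.Agent.S0499
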