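import Cfsg.Statements.S0502
import Mathlib
import Cfsg.Agent.Lib.Helper1.NilpCenter

set_option autoImplicit false
open Cfsg

namespace Cfsg.Agent.S0502

open Cfsg.Agent.Lib.Helper1

theorem exists_kleinFour {P : Type*} [Group P] (a b : P) (ha : a ≠ 1) (hb : b ≠ 1) (hab : a ≠ b)
    (ha2 : a * a = 1) (hb2 : b * b = 1) (hc : b * a = a * b) :
    ∃ W : Subgroup P, IsKleinFour W ∧ ∀ x, x ∈ W ↔ (x = 1 ∨ x = a ∨ x = b ∨ x = a * b) := by
  classical
  have ha2' : ∀ x, a * (a * x) = x := fun x => by rw [← mul_assoc, ha2, one_mul]
  have hb2' : ∀ x, b * (b * x) = x := fun x => by rw [← mul_assoc, hb2, one_mul]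
  have hc' : ∀ x, b * (a * x) = a * (b * x) := fun x => by rw [← mul_assoc, hc, mul_assoc]
  have hainv : a⁻¹ = a := inv_eq_of_mul_eq_one_right ha2
  have hbinv : b⁻¹ = b := inv_eq_of_mul_eq_one_right hb2
  let W : Subgroup P :=
    { carrier := {x | x = 1 ∨ x = a ∨ x = b ∨ x = a * b}
      one_mem' := Or.inl rfl
      mul_mem' := by
        intro x y hx hy
        rcases hx with h | h | h | h <;> rcases hy with h' | h' | h' | h' <;> rw [h, h'] <;>
          simp only [Set.mem_ofPred_eq, mul_assoc, one_mul, mul_one, ha2, hb2, hc, ha2', hb2', hc'] <;>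
          simp
      inv_mem' := by
        intro x hx
        rcases hx with h | h | h | h <;> rw [h] <;>
          simp only [Set.mem_ofPred_eq, mul_inv_rev, inv_one, hainv, hbinv, hc] <;> simp }
  have hmem : ∀ x, x ∈ W ↔ (x = 1 ∨ x = a ∨ x = b ∨ x = a * b) := fun x => Iff.rfl
  have h1ab : (1 : P) ≠ a * b := by
    intro h
    apply hab
    have : a * a = a * b := by rw [ha2, h]
    exact mul_left_cancel this
  have haab : a ≠ a * b := by
    intro h
    apply hb
    have : a * 1 = a * b := by rw [mul_one]; exact h
    exact (mul_left_cancel this).symm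
  have hbab : b ≠ a * b := by
    intro h
    apply ha
    have : 1 * b = a * b := by rw [one_mul]; exact h
    exact (mul_right_cancel this).symm
  refine ⟨W, ⟨?_, ?_⟩, hmem⟩
  · have hset : (W : Set P) = (({1, a, b, a * b} : Finset P) : Set P) := by
      ext x
      simp only [SetLike.mem_coe, hmem, Finset.coe_insert, Finset.coe_singleton,
        Set.mem_insert_iff, Set.mem_singleton_iff]
    have hcard : Nat.card W = (W : Set P).ncard := rfl
    rw [hcard, hset, Set.ncard_coe_finset]
    rw [Finset.card_insert_of_notMem, Finset.card_insert_of_notMem, Finset.card_insert_of_notMem,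
      Finset.card_singleton]
    · simp only [Finset.mem_singleton]; exact hbab
    · simp only [Finset.mem_insert, Finset.mem_singleton, not_or]; exact ⟨hab, haab⟩
    · simp only [Finset.mem_insert, Finset.mem_singleton, not_or]
      exact ⟨fun h => ha h.symm, fun h => hb h.symm, h1ab⟩
  · haveI : Nontrivial W := ⟨⟨⟨a, (hmem a).2 (Or.inr (Or.inl rfl))⟩, 1, fun h => ha (congrArg Subtype.val h)⟩⟩
    rw [Monoid.exponent_eq_prime_iff Nat.prime_two]
    intro g hg
    apply orderOf_eq_prime
    · apply Subtype.ext
      rw [pow_two]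
      have hg' := (hmem g.1).1 g.2
      show (g : P) * (g : P) = 1
      rcases hg' with h | h | h | h <;> rw [h] <;>
        simp only [mul_assoc, one_mul, mul_one, ha2, hb2, hc, ha2', hb2', hc']
    · exact hg


/-- If a finite 2-group has a normal elementary abelian subgroup of order at least 8, then any two of its Klein
four-subgroups are joined by a chain of Klein four-subgroups with consecutive members commuting elementwise. -/
theorem result {P : Type*} [Group P] [Finite P] (hP : IsPGroup 2 P)
    (E : Subgroup P) [E.Normal] (hE : IsMulCommutative E) (hE2 : ∀ e ∈ E, e ^ 2 = 1) (hE8 : 8 ≤ Nat.card E) :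
    Cfsg.IsFourConnected P := by
  classical
  haveI : Fact (Nat.Prime 2) := ⟨Nat.prime_two⟩
  haveI : Group.IsNilpotent P := hP.isNilpotent
  have hEcomm : ∀ x ∈ E, ∀ y ∈ E, x * y = y * x := by
    intro x hx y hy
    have := hE.is_comm.comm (⟨x, hx⟩ : E) ⟨y, hy⟩
    exact congrArg Subtype.val this
  have hEsq : ∀ x ∈ E, x * x = 1 := fun x hx => by rw [← pow_two]; exact hE2 x hx
  have hex : ∀ S : Finset P, S.card < 8 → ∃ y ∈ E, y ∉ S := by
    intro S hS
    by_contra hcon
    push Not at hcon
    have h1 : Nat.card E ≤ S.card := by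
      have hsub : (E : Set P) ⊆ (S : Set P) := fun y hy => hcon y hy
      have h2 := Set.ncard_le_ncard hsub (Finset.finite_toSet S)
      rw [Set.ncard_coe_finset] at h2
      exact h2
    omega
  -- a fixed four-group in E
  obtain ⟨a0, ha0E, ha0⟩ := hex {1} (by simp)
  obtain ⟨b0, hb0E, hb0⟩ := hex {1, a0} (lt_of_le_of_lt (Finset.card_insert_le _ _) (by simp))
  simp only [Finset.mem_singleton] at ha0
  simp only [Finset.mem_insert, Finset.mem_singleton, not_or] at hb0
  obtain ⟨F0, hF0K, hF0mem⟩ := exists_kleinFour a0 b0 ha0 hb0.1 (fun h => hb0.2 h.symm)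
    (hEsq a0 ha0E) (hEsq b0 hb0E) (hEcomm b0 hb0E a0 ha0E)
  have hF0E : ∀ x ∈ F0, x ∈ E := by
    intro x hx
    rcases (hF0mem x).1 hx with h | h | h | h <;> rw [h]
    · exact E.one_mem
    · exact ha0E
    · exact hb0E
    · exact E.mul_mem ha0E hb0E
  have hEne : E ≠ ⊥ := by
    intro h
    rw [h, Subgroup.mem_bot] at ha0E
    exact ha0 ha0E
  obtain ⟨e, heE, heZ, he1⟩ := exists_mem_center_of_isNilpotent E hEne
  have hec : ∀ x : P, x * e = e * x := fun x => (Subgroup.mem_center_iff.1 heZ x)
  have he2 : e * e = 1 := hEsq e heE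
  have hsymm : ∀ A B : Subgroup P, (IsKleinFour A ∧ IsKleinFour B ∧
      ∀ a ∈ A, ∀ b ∈ B, a * b = b * a) → (IsKleinFour B ∧ IsKleinFour A ∧
      ∀ a ∈ B, ∀ b ∈ A, a * b = b * a) := by
    rintro A B ⟨hA, hB, hAB⟩
    exact ⟨hB, hA, fun b hb a ha => (hAB a ha b hb).symm⟩
  have hrev : ∀ A B : Subgroup P, Relation.ReflTransGen
      (fun A B : Subgroup P => IsKleinFour A ∧ IsKleinFour B ∧
        ∀ a ∈ A, ∀ b ∈ B, a * b = b * a) A B → Relation.ReflTransGen
      (fun A B : Subgroup P => IsKleinFour A ∧ IsKleinFour B ∧
        ∀ a ∈ A, ∀ b ∈ B, a * b = b * a) B A := by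
    intro A B h
    induction h with
    | refl => exact Relation.ReflTransGen.refl
    | tail _ hbc ih => exact Relation.ReflTransGen.head (hsymm _ _ hbc) ih
  have main : ∀ U : Subgroup P, IsKleinFour U → Relation.ReflTransGen
      (fun A B : Subgroup P => IsKleinFour A ∧ IsKleinFour B ∧
        ∀ a ∈ A, ∀ b ∈ B, a * b = b * a) U F0 := by
    intro U hU
    -- choose t in U different from 1 and e
    have hUcard : Nat.card U = 4 := hU.card_four
    have hexU : ∃ t ∈ U, t ∉ ({1, e} : Finset P) := by
      by_contra hcon
      push Not at hcon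
      have h1 : Nat.card U ≤ ({1, e} : Finset P).card := by
        have hsub : (U : Set P) ⊆ (({1, e} : Finset P) : Set P) := fun y hy => hcon y hy
        have h2 := Set.ncard_le_ncard hsub (Finset.finite_toSet _)
        rw [Set.ncard_coe_finset] at h2
        exact h2
      have h3 : ({1, e} : Finset P).card ≤ 2 := Finset.card_insert_le _ _
      omega
    obtain ⟨t, htU, hte⟩ := hexU
    simp only [Finset.mem_insert, Finset.mem_singleton, not_or] at hte
    have ht2 : t * t = 1 := by
      have := IsKleinFour.mul_self (⟨t, htU⟩ : U)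
      exact congrArg Subtype.val this
    have htinv : t⁻¹ = t := inv_eq_of_mul_eq_one_right ht2
    have hUcomm : ∀ u ∈ U, u * t = t * u := by
      intro u hu
      haveI := hU
      have := (IsKleinFour.isMulCommutative (G := U)).is_comm.comm (⟨u, hu⟩ : U) ⟨t, htU⟩
      exact congrArg Subtype.val this
    obtain ⟨W, hWK, hWmem⟩ := exists_kleinFour t e hte.1 he1 hte.2 ht2 he2 (hec t).symm
    -- the element f
    have hcx : ∀ x ∈ E, t * x * t ∈ E := by
      intro x hx
      have := ‹E.Normal›.conj_mem x hx t
      rwa [htinv] at this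
    have hf : ∃ f ∈ E, f * t = t * f ∧ f ≠ 1 ∧ f ≠ e := by
      by_contra hcon
      push Not at hcon
      have hfix : ∀ x ∈ E, x * t = t * x → x = 1 ∨ x = e := by
        intro x hx hxt
        by_cases h1 : x = 1
        · exact Or.inl h1
        · exact Or.inr (hcon x hx hxt h1)
      have hphi : ∀ x ∈ E, x ≠ 1 → x ≠ e → t * x * t = x * e := by
        intro x hx h1 h2
        have hc := hcx x hx
        have hm : x * (t * x * t) ∈ E := E.mul_mem hx hc
        have e1 : x * (t * x * t) = (t * x * t) * x := hEcomm x hx _ hc
        have hcomm : (x * (t * x * t)) * t = t * (x * (t * x * t)) := by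
          calc x * (t * x * t) * t = x * t * x * (t * t) := by simp only [mul_assoc]
            _ = x * t * x := by rw [ht2, mul_one]
            _ = (t * t) * x * t * x := by rw [ht2, one_mul]
            _ = t * ((t * x * t) * x) := by simp only [mul_assoc]
            _ = t * (x * (t * x * t)) := by rw [← e1]
        rcases hfix _ hm hcomm with h | h
        · exfalso
          have h3 : t * x * t = x := by
            have : x * (t * x * t) = x * x := by rw [h, hEsq x hx]
            exact mul_left_cancel this
          have h4 : x * t = t * x := by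
            calc x * t = (t * x * t) * t := by rw [h3]
              _ = t * x * (t * t) := by simp only [mul_assoc]
              _ = t * x := by rw [ht2, mul_one]
          rcases hfix x hx h4 with h5 | h5
          · exact h1 h5
          · exact h2 h5
        · have : x * (t * x * t) = x * (x * e) := by rw [h, ← mul_assoc, hEsq x hx, one_mul]
          exact mul_left_cancel this
      obtain ⟨x, hxE, hx⟩ := hex {1, e} (lt_of_le_of_lt (Finset.card_insert_le _ _) (by simp))
      simp only [Finset.mem_insert, Finset.mem_singleton, not_or] at hx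
      obtain ⟨y, hyE, hy⟩ := hex {1, e, x, x * e} (by
        have h1 : ({1, e, x, x * e} : Finset P).card ≤ 4 := by
          refine (Finset.card_insert_le _ _).trans ?_
          refine Nat.succ_le_succ ((Finset.card_insert_le _ _).trans ?_)
          exact Nat.succ_le_succ ((Finset.card_insert_le _ _).trans (by simp))
        omega)
      simp only [Finset.mem_insert, Finset.mem_singleton, not_or] at hy
      have hx' := hphi x hxE hx.1 hx.2
      have hy' := hphi y hyE hy.1 hy.2.1
      have hxy : t * (x * y) * t = x * y := by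
        calc t * (x * y) * t = (t * x * t) * (t * y * t) := by
              have : (t * x * t) * (t * y * t) = t * x * (t * t) * y * t := by
                simp only [mul_assoc]
              rw [this, ht2, mul_one]; simp only [mul_assoc]
          _ = (x * e) * (y * e) := by rw [hx', hy']
          _ = x * y * (e * e) := by
              have : (x * e) * (y * e) = x * (e * y) * e := by simp only [mul_assoc]
              rw [this, ← hec y]; simp only [mul_assoc]
          _ = x * y := by rw [he2, mul_one]
      have hxyc : (x * y) * t = t * (x * y) := by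
        calc (x * y) * t = (t * (x * y) * t) * t := by rw [hxy]
          _ = t * (x * y) * (t * t) := by simp only [mul_assoc]
          _ = t * (x * y) := by rw [ht2, mul_one]
      rcases hfix (x * y) (E.mul_mem hxE hyE) hxyc with h | h
      · apply hy.2.2.1
        have : x * y = x * x := by rw [h, hEsq x hxE]
        exact mul_left_cancel this
      · apply hy.2.2.2
        have : x * y = x * (x * e) := by rw [h, ← mul_assoc, hEsq x hxE, one_mul]
        exact mul_left_cancel this
    obtain ⟨f, hfE, hft, hf1, hfe⟩ := hf
    obtain ⟨F, hFK, hFmem⟩ := exists_kleinFour e f he1 hf1 (fun h => hfe h.symm) he2 (hEsq f hfE)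
      (hec f)
    have hFE : ∀ x ∈ F, x ∈ E := by
      intro x hx
      rcases (hFmem x).1 hx with h | h | h | h <;> rw [h]
      · exact E.one_mem
      · exact heE
      · exact hfE
      · exact E.mul_mem heE hfE
    have hUW : ∀ a ∈ U, ∀ b ∈ W, a * b = b * a := by
      intro a ha b hb
      rcases (hWmem b).1 hb with h | h | h | h <;> rw [h]
      · rw [mul_one, one_mul]
      · exact hUcomm a ha
      · exact hec a
      · rw [← mul_assoc, hUcomm a ha, mul_assoc, hec a, mul_assoc]
    have hFt : ∀ x ∈ F, x * t = t * x := by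
      intro x hx
      rcases (hFmem x).1 hx with h | h | h | h <;> rw [h]
      · rw [mul_one, one_mul]
      · exact (hec t).symm
      · exact hft
      · rw [mul_assoc, hft, ← mul_assoc, ← hec t, mul_assoc]
    have hWF : ∀ a ∈ W, ∀ b ∈ F, a * b = b * a := by
      intro a ha b hb
      rcases (hWmem a).1 ha with h | h | h | h <;> rw [h]
      · rw [mul_one, one_mul]
      · exact (hFt b hb).symm
      · exact (hec b).symm
      · rw [mul_assoc, ← hec b, ← mul_assoc, ← hFt b hb, mul_assoc]
    have hFF0 : ∀ a ∈ F, ∀ b ∈ F0, a * b = b * a := fun a ha b hb =>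
      hEcomm a (hFE a ha) b (hF0E b hb)
    exact Relation.ReflTransGen.head ⟨hU, hWK, hUW⟩
      (Relation.ReflTransGen.head ⟨hWK, hFK, hWF⟩
        (Relation.ReflTransGen.single ⟨hFK, hF0K, hFF0⟩))
  intro U V hU hV
  exact (main U hU).trans (hrev _ _ (main V hV))

end Cfsg.Agent.S0502
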