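import Mathlib
import Cfsg.Statements.S0505
import Cfsg.Agent.Lib.Helper3.PQ
import Cfsg.Agent.Lib.Helper3.Subn
import Cfsg.Agent.Lib.Helper3.PRes
import Cfsg.Agent.Lib.Helper3.FStar2
import Cfsg.Agent.Lib.Helper3.Transport

set_option autoImplicit false
set_option linter.style.haveILetI false
open Cfsg
open Cfsg.Agent.Lib.Helper3
open scoped commutatorElement

namespace Cfsg.Agent.S0505

/-- Let G be a finite group of even order in which the centralizer of every involution is solvable and has trivial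
core (no nontrivial normal subgroup of odd order). Then G is of characteristic 2 type. -/
theorem result {G : Type*} [Group G] [Finite G]
    (h2 : Even (Nat.card G))
    (hs : ∀ t : G, orderOf t = 2 → Group.IsSolvable (Subgroup.centralizer ({t} : Set G)))
    (hc : ∀ t : G, orderOf t = 2 → Cfsg.oddCore (Subgroup.centralizer ({t} : Set G)) = ⊥) :
    Cfsg.IsCharacteristicTwoType G := by
  refine ⟨h2, ?_⟩
  intro T hT2 hTne
  haveI : Fact (Nat.Prime 2) := ⟨Nat.prime_two⟩
  generalize hHdef : Subgroup.normalizer (T : Set G) = H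
  unfold Cfsg.IsOfCharacteristicTwo
  have hTH : T ≤ H := by rw [← hHdef]; exact Subgroup.le_normalizer
  haveI hTnt : Nontrivial ↥T := (Subgroup.nontrivial_iff_ne_bot T).mpr hTne
  haveI hZnt : Nontrivial (Subgroup.center ↥T) := hT2.center_nontrivial
  have h2dvd : 2 ∣ Nat.card (Subgroup.center ↥T) := by
    have hZ2 : IsPGroup 2 (Subgroup.center ↥T) := hT2.to_subgroup _
    obtain ⟨k, hk⟩ := IsPGroup.iff_card.mp hZ2
    have h1 : 1 < Nat.card (Subgroup.center ↥T) := Finite.one_lt_card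
    rw [hk] at h1
    have hk0 : k ≠ 0 := by rintro rfl; simp at h1
    rw [hk]; exact dvd_pow_self 2 hk0
  obtain ⟨z', hz'⟩ := exists_prime_orderOf_dvd_card' 2 h2dvd
  obtain ⟨z, hzT, hz2, hzc⟩ : ∃ z : G, z ∈ T ∧ orderOf z = 2 ∧ ∀ t ∈ T, t * z = z * t := by
    refine ⟨((z' : ↥T) : G), (z' : ↥T).2, ?_, ?_⟩
    · rw [Subgroup.orderOf_coe, Subgroup.orderOf_coe]; exact hz'
    · intro t ht
      have := Subgroup.mem_center_iff.mp z'.2 ⟨t, ht⟩
      exact congrArg Subtype.val this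
  obtain ⟨C, hCdef⟩ : ∃ C : Subgroup G, C = Subgroup.centralizer ({z} : Set G) := ⟨_, rfl⟩
  haveI hCs : Group.IsSolvable ↥C := by rw [hCdef]; exact hs z hz2
  have hCc : Cfsg.pPrimeCore 2 ↥C = ⊥ := by rw [hCdef]; exact hc z hz2
  have hmemC : ∀ x : G, x * z = z * x → x ∈ C := by
    intro x hx
    rw [hCdef, Subgroup.mem_centralizer_iff]
    intro h hh
    rw [Set.mem_singleton_iff] at hh
    rw [hh]; exact hx.symm
  haveI hQn' : (Cfsg.pCore 2 ↥C).Normal := pCore_normal' 2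
  have hF1 : Subgroup.centralizer (Cfsg.pCore 2 ↥C : Set ↥C) ≤ Cfsg.pCore 2 ↥C := by
    have hFle : Cfsg.fittingSubgroup ↥C ≤ Cfsg.pCore 2 ↥C := by
      rw [Cfsg.Agent.Lib.Helper1.fitting_eq_pCoreSup]
      have := Cfsg.Agent.Lib.Helper1.pCoreSup_le_sup (G := ↥C) 2
      rw [hCc, sup_bot_eq] at this
      exact this
    have hDn : (Subgroup.centralizer (Cfsg.pCore 2 ↥C : Set ↥C)).Normal := inferInstance
    have hDs : Group.IsSolvable ↥(Subgroup.centralizer (Cfsg.pCore 2 ↥C : Set ↥C)) :=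
      inferInstance
    have hDC : Subgroup.centralizer (Cfsg.pCore 2 ↥C : Set ↥C) ≤
        Subgroup.centralizer (Cfsg.fittingSubgroup ↥C : Set ↥C) :=
      Subgroup.centralizer_le (SetLike.coe_subset_coe.mpr hFle)
    exact (solvable_normal_le_fitting _ hDn hDs hDC).trans hFle
  have hTC : T ≤ C := fun t ht => hmemC t (hzc t ht)
  obtain ⟨Q, hQdef⟩ : ∃ Q : Subgroup G, Q = (Cfsg.pCore 2 ↥C).map C.subtype := ⟨_, rfl⟩
  have hQ2 : IsPGroup 2 Q := by
    rw [hQdef]; exact (Cfsg.Agent.Lib.Helper1.pCore_isPGroup).map _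
  have hCQ : C ≤ Subgroup.normalizer (Q : Set G) := by
    have h1 := Subgroup.le_normalizer_map (H := Cfsg.pCore 2 ↥C) C.subtype
    rw [Subgroup.normalizer_eq_top_iff.mpr hQn', ← MonoidHom.range_eq_map,
      Subgroup.range_subtype] at h1
    rw [hQdef]; exact h1
  have hcn : Subgroup.centralizer (T : Set G) ≤ H := by
    rw [← hHdef]; exact Subgroup.centralizer_le_normalizer _
  have hTR : T.subgroupOf H ≤ Cfsg.pCore 2 ↥H := by
    apply Cfsg.Agent.Lib.Helper1.le_pCore
    · rw [← hHdef]; exact Subgroup.normal_in_normalizer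
    · exact hT2.comap_subtype
  -- the subgroup W = Q ∩ C(T) lies in O_2(H)
  have hWR : ∀ u ∈ Q ⊓ Subgroup.centralizer (T : Set G), ∃ hu : u ∈ H,
      (⟨u, hu⟩ : ↥H) ∈ Cfsg.pCore 2 ↥H := by
    intro u hu
    obtain ⟨huQ, huT⟩ := Subgroup.mem_inf.mp hu
    obtain ⟨W', hW'def⟩ : ∃ W' : Subgroup ↥H,
        W' = (Q ⊓ Subgroup.centralizer (T : Set G)).subgroupOf H := ⟨_, rfl⟩
    obtain ⟨CT', hCT'def⟩ : ∃ CT' : Subgroup ↥H,
        CT' = (Subgroup.centralizer (T : Set G)).subgroupOf H := ⟨_, rfl⟩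
    have hCT'n : CT'.Normal := by
      rw [hCT'def, ← hHdef]
      exact Subgroup.normal_subgroupOf_centralizer_normalizer _
    have hW'le : W' ≤ CT' := by
      rw [hW'def, hCT'def]
      intro w hw
      rw [Subgroup.mem_subgroupOf] at hw ⊢
      exact (Subgroup.mem_inf.mp hw).2
    have hCT'mem : ∀ y : ↥H, y ∈ CT' → (y : G) ∈ Subgroup.centralizer (T : Set G) := by
      intro y hy
      rw [hCT'def, Subgroup.mem_subgroupOf] at hy
      exact hy
    have hW'n : (W'.subgroupOf CT').Normal := by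
      refine ⟨fun n hn g => ?_⟩
      rw [Subgroup.mem_subgroupOf] at hn ⊢
      rw [hW'def, Subgroup.mem_subgroupOf] at hn ⊢
      have hgT : ((g : ↥H) : G) ∈ Subgroup.centralizer (T : Set G) := hCT'mem g g.2
      have hgC : ((g : ↥H) : G) ∈ C := by
        apply hmemC
        rw [Subgroup.mem_centralizer_iff] at hgT
        exact (hgT z hzT).symm
      obtain ⟨hnQ, hnT⟩ := Subgroup.mem_inf.mp hn
      refine Subgroup.mem_inf.mpr ⟨?_, ?_⟩
      · have := (Subgroup.mem_normalizer_iff.mp (hCQ hgC)) ((n : ↥H) : G)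
        exact this.mp hnQ
      · exact mul_mem (mul_mem hgT hnT) (inv_mem hgT)
    have hW'sn : W'.IsSubnormal :=
      Subgroup.IsSubnormal.trans hW'le hW'n.isSubnormal hCT'n.isSubnormal
    have hW'2 : IsPGroup 2 ↥W' := by
      rw [hW'def]
      exact (hQ2.to_le inf_le_left).comap_subtype
    have hle := subnormal_pgroup_le_pCore 2 hW'sn hW'2
    have huH : u ∈ H := hcn huT
    refine ⟨huH, hle ?_⟩
    rw [hW'def, Subgroup.mem_subgroupOf]; exact hu
  have hkey : ∀ x : G, x ∈ H →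
      (∀ r : ↥H, r ∈ Cfsg.pCore 2 ↥H → x * (r : G) = (r : G) * x) →
      (orderOf x).Coprime 2 → x = 1 := by
    intro x hxH hxR hxodd
    have hxT : ∀ t ∈ T, x * t = t * x := by
      intro t ht
      exact hxR ⟨t, hTH ht⟩ (hTR (Subgroup.mem_subgroupOf.mpr ht))
    have hxC : x ∈ C := hmemC x (hxT z hzT)
    have hxQ : x ∈ Subgroup.centralizer (Q : Set G) := by
      apply pq_lemma_elem (p := 2) hT2 hxodd ?_ (Nat.card Q) Q le_rfl hQ2 (hTC.trans hCQ)
        (hCQ hxC) ?_
      · rw [Subgroup.mem_centralizer_iff]; intro t ht; exact (hxT t ht).symm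
      · intro u hu
        obtain ⟨huH, hu'⟩ := hWR u hu
        exact hxR ⟨u, huH⟩ hu'
    have hx2 : ∃ k : ℕ, x ^ (2 ^ k) = 1 := by
      have hmem : (⟨x, hxC⟩ : ↥C) ∈ Cfsg.pCore 2 ↥C := by
        apply hF1
        rw [Subgroup.mem_centralizer_iff]
        intro r hr
        apply Subtype.ext
        have hrQ : (r : G) ∈ Q := by rw [hQdef]; exact ⟨r, hr, rfl⟩
        rw [Subgroup.mem_centralizer_iff] at hxQ
        exact hxQ (r : G) hrQ
      obtain ⟨k, hk⟩ := (Cfsg.Agent.Lib.Helper1.pCore_isPGroup (p := 2) (G := ↥C))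
        ⟨⟨x, hxC⟩, hmem⟩
      refine ⟨k, ?_⟩
      have h1 := congrArg Subtype.val hk
      have h2 := congrArg Subtype.val h1
      simpa using h2
    obtain ⟨k, hk⟩ := hx2
    have h1 : orderOf x ∣ 2 ^ k := orderOf_dvd_of_pow_eq_one hk
    have h2 : orderOf x = 1 := Nat.Coprime.eq_one_of_dvd (Nat.Coprime.pow_right k hxodd) h1
    exact orderOf_eq_one_iff.mp h2
  haveI : (Cfsg.pCore 2 ↥H).Normal := pCore_normal' 2
  apply Cfsg.Agent.Lib.Helper1.le_pCore _ inferInstance
  rintro ⟨x, hx⟩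
  obtain ⟨a, b, ha, hb, hxab, ⟨k, hak⟩, hbc⟩ := exists_p_decomp 2 x
  have hbX : b ∈ Subgroup.centralizer (Cfsg.pCore 2 ↥H : Set ↥H) :=
    (Subgroup.zpowers_le.mpr hx) hb
  have hb1 : (b : G) = 1 := by
    apply hkey (b : G) b.2 _ _
    · intro r hr
      rw [Subgroup.mem_centralizer_iff] at hbX
      exact (congrArg Subtype.val (hbX r hr)).symm
    · rw [Subgroup.orderOf_coe]; exact hbc
  have hb1' : b = 1 := Subtype.ext hb1
  refine ⟨k, Subtype.ext ?_⟩
  show x ^ 2 ^ k = 1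
  rw [hxab, hb1', mul_one, ← hak, pow_orderOf_eq_one]

end Cfsg.Agent.S0505
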