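import Mathlib
import Cfsg.Statements.S0520

set_option autoImplicit false
set_option maxHeartbeats 800000

open Cfsg

namespace Cfsg.Agent.S0520

variable {G : Type*} [Group G]

theorem kf_iff (A : Subgroup G) : IsKleinFour A ↔ Nat.card A = 4 ∧ ∀ a ∈ A, a * a = 1 := by
  constructor
  · intro h
    refine ⟨h.card_four, ?_⟩
    intro a ha
    have h1 := Monoid.pow_exponent_eq_one (⟨a, ha⟩ : A)
    rw [h.exponent_two, sq] at h1
    exact congrArg Subtype.val h1
  · rintro ⟨hc, hsq⟩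
    refine ⟨hc, ?_⟩
    have hdvd : Monoid.exponent A ∣ 2 := Monoid.exponent_dvd_of_forall_pow_eq_one (fun a => by
      apply Subtype.ext
      rw [sq]
      exact hsq a a.2)
    rcases (Nat.dvd_prime Nat.prime_two).1 hdvd with h1 | h2
    · exfalso
      have hs : Subsingleton A := Monoid.exp_eq_one_iff.1 h1
      have : Nat.card A = 1 := Nat.card_unique
      omega
    · exact h2

/-- adjacency in the commuting graph of four-subgroups -/
def Adj (A B : Subgroup G) : Prop :=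
  IsKleinFour A ∧ IsKleinFour B ∧ ∀ a ∈ A, ∀ b ∈ B, a * b = b * a

theorem fc_iff (X : Type*) [Group X] : Cfsg.IsFourConnected X ↔
    ∀ U V : Subgroup X, IsKleinFour U → IsKleinFour V → Relation.ReflTransGen Adj U V := Iff.rfl

/-- conjugate of a subgroup -/
def cj (g : G) (A : Subgroup G) : Subgroup G := A.map (MulAut.conj g).toMonoidHom

theorem mem_cj (g x : G) (A : Subgroup G) : x ∈ cj g A ↔ g⁻¹ * x * g ∈ A := by
  constructor
  · rintro ⟨a, ha, rfl⟩
    show g⁻¹ * (g * a * g⁻¹) * g ∈ A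
    have : g⁻¹ * (g * a * g⁻¹) * g = a := by group
    rw [this]; exact ha
  · intro h
    refine ⟨g⁻¹ * x * g, h, ?_⟩
    show g * (g⁻¹ * x * g) * g⁻¹ = x
    group

theorem conj_mem_cj (g a : G) (A : Subgroup G) (ha : a ∈ A) : g * a * g⁻¹ ∈ cj g A :=
  ⟨a, ha, rfl⟩

theorem cj_one (A : Subgroup G) : cj 1 A = A := by
  ext x
  rw [mem_cj]
  simp

theorem cj_mul (g h : G) (A : Subgroup G) : cj (g * h) A = cj g (cj h A) := by
  ext x
  rw [mem_cj, mem_cj, mem_cj]
  have : (g * h)⁻¹ * x * (g * h) = h⁻¹ * (g⁻¹ * x * g) * h := by group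
  rw [this]

theorem cj_inv_cj (g : G) (A : Subgroup G) : cj g⁻¹ (cj g A) = A := by
  rw [← cj_mul, inv_mul_cancel, cj_one]

theorem cj_cj_inv (g : G) (A : Subgroup G) : cj g (cj g⁻¹ A) = A := by
  rw [← cj_mul, mul_inv_cancel, cj_one]

theorem cj_mono (g : G) {A B : Subgroup G} (h : A ≤ B) : cj g A ≤ cj g B :=
  Subgroup.map_mono h

theorem cj_le_iff (g : G) (A B : Subgroup G) : cj g A ≤ B ↔ A ≤ cj g⁻¹ B := by
  constructor
  · intro h
    have := cj_mono g⁻¹ h
    rwa [cj_inv_cj] at this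
  · intro h
    have := cj_mono g h
    rwa [cj_cj_inv] at this

theorem card_cj (g : G) (A : Subgroup G) : Nat.card (cj g A) = Nat.card A :=
  Subgroup.card_map_of_injective (MulAut.conj g).injective

theorem cj_inf (g : G) (A B : Subgroup G) : cj g (A ⊓ B) = cj g A ⊓ cj g B := by
  ext x
  rw [Subgroup.mem_inf, mem_cj, mem_cj, mem_cj, Subgroup.mem_inf]

theorem kf_cj (g : G) (A : Subgroup G) (h : IsKleinFour A) : IsKleinFour (cj g A) := by
  rw [kf_iff] at h ⊢
  refine ⟨by rw [card_cj]; exact h.1, ?_⟩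
  rintro _ ⟨a, ha, rfl⟩
  show g * a * g⁻¹ * (g * a * g⁻¹) = 1
  have : g * a * g⁻¹ * (g * a * g⁻¹) = g * (a * a) * g⁻¹ := by group
  rw [this, h.2 a ha]; group

theorem adj_cj (g : G) {A B : Subgroup G} (h : Adj A B) : Adj (cj g A) (cj g B) := by
  refine ⟨kf_cj g A h.1, kf_cj g B h.2.1, ?_⟩
  rintro _ ⟨a, ha, rfl⟩ _ ⟨b, hb, rfl⟩
  show g * a * g⁻¹ * (g * b * g⁻¹) = g * b * g⁻¹ * (g * a * g⁻¹)
  have e1 : g * a * g⁻¹ * (g * b * g⁻¹) = g * (a * b) * g⁻¹ := by group
  have e2 : g * b * g⁻¹ * (g * a * g⁻¹) = g * (b * a) * g⁻¹ := by group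
  rw [e1, e2, h.2.2 a ha b hb]

theorem adj_symm {A B : Subgroup G} (h : Adj A B) : Adj B A :=
  ⟨h.2.1, h.1, fun b hb a ha => (h.2.2 a ha b hb).symm⟩

theorem conn_cj (g : G) {A B : Subgroup G} (h : Relation.ReflTransGen Adj A B) :
    Relation.ReflTransGen Adj (cj g A) (cj g B) :=
  Relation.ReflTransGen.lift (cj g) (fun _ _ hab => adj_cj g hab) _ _ h

theorem conn_symm {A B : Subgroup G} (h : Relation.ReflTransGen Adj A B) :
    Relation.ReflTransGen Adj B A := by
  induction h with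
  | refl => exact Relation.ReflTransGen.refl
  | tail _ hbc ih => exact Relation.ReflTransGen.head (adj_symm hbc) ih

theorem kf_subgroupOf (S W : Subgroup G) (hW : W ≤ S) (h : IsKleinFour W) :
    IsKleinFour (W.subgroupOf S) := by
  rw [kf_iff] at h ⊢
  refine ⟨?_, ?_⟩
  · rw [← h.1]; exact Nat.card_congr (Subgroup.subgroupOfEquivOfLe hW).toEquiv
  · intro a ha
    apply Subtype.ext
    exact h.2 a.1 (Subgroup.mem_subgroupOf.1 ha)

theorem kf_map_subtype (S : Subgroup G) (W : Subgroup S) (h : IsKleinFour W) :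
    IsKleinFour (W.map S.subtype) := by
  rw [kf_iff] at h ⊢
  refine ⟨?_, ?_⟩
  · rw [Subgroup.card_subtype]; exact h.1
  · rintro _ ⟨a, ha, rfl⟩
    have := h.2 a ha
    exact congrArg Subtype.val this

theorem adj_map_subtype (S : Subgroup G) (A B : Subgroup S) (hab : Adj A B) :
    Adj (A.map S.subtype) (B.map S.subtype) := by
  refine ⟨kf_map_subtype S A hab.1, kf_map_subtype S B hab.2.1, ?_⟩
  rintro _ ⟨a, ha, rfl⟩ _ ⟨b, hb, rfl⟩
  exact congrArg Subtype.val (hab.2.2 a ha b hb)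

theorem conn_of_le (S : Subgroup G) (hS : Cfsg.IsFourConnected S) (U V : Subgroup G)
    (hU : IsKleinFour U) (hV : IsKleinFour V) (hUS : U ≤ S) (hVS : V ≤ S) :
    Relation.ReflTransGen Adj U V := by
  have h := (fc_iff S).1 hS _ _ (kf_subgroupOf S U hUS hU) (kf_subgroupOf S V hVS hV)
  have h2 := Relation.ReflTransGen.lift (fun W : Subgroup S => W.map S.subtype) (p := Adj)
    (fun A B hab => adj_map_subtype S A B hab) _ _ h
  have e1 : (U.subgroupOf S).map S.subtype = U := Subgroup.map_subgroupOf_eq_of_le hUS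
  have e2 : (V.subgroupOf S).map S.subtype = V := Subgroup.map_subgroupOf_eq_of_le hVS
  show Relation.ReflTransGen Adj U V
  have h3 : Relation.ReflTransGen Adj ((U.subgroupOf S).map S.subtype)
      ((V.subgroupOf S).map S.subtype) := h2
  rwa [e1, e2] at h3

/-- fours inside a conjugate of `S` are connected -/
theorem conn_of_le_cj (S : Subgroup G) (hS : Cfsg.IsFourConnected S) (g : G) (U V : Subgroup G)
    (hU : IsKleinFour U) (hV : IsKleinFour V) (hUS : U ≤ cj g S) (hVS : V ≤ cj g S) :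
    Relation.ReflTransGen Adj U V := by
  have h1 : cj g⁻¹ U ≤ S := by
    have := cj_mono g⁻¹ hUS
    rwa [cj_inv_cj] at this
  have h2 : cj g⁻¹ V ≤ S := by
    have := cj_mono g⁻¹ hVS
    rwa [cj_inv_cj] at this
  have h3 := conn_of_le S hS _ _ (kf_cj g⁻¹ U hU) (kf_cj g⁻¹ V hV) h1 h2
  have h4 := conn_cj g h3
  rwa [cj_cj_inv, cj_cj_inv] at h4

/-- rank at least two means containing a four-group -/
theorem exists_four_of_rank [Finite G] (Q : Subgroup G) (h : ¬ Cfsg.PRankLE 2 1 Q) :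
    ∃ U : Subgroup G, IsKleinFour U ∧ U ≤ Q := by
  unfold Cfsg.PRankLE at h
  push Not at h
  obtain ⟨A, hAc, hA2, hAcard⟩ := h
  haveI : Fact (Nat.Prime 2) := ⟨Nat.prime_two⟩
  have hAp : IsPGroup 2 A := by
    intro a
    refine ⟨1, ?_⟩
    rw [pow_one]
    apply Subtype.ext
    have := hA2 a.1 a.2
    rw [Subgroup.coe_pow, this]; rfl
  obtain ⟨m, hm⟩ := IsPGroup.exists_card_eq hAp
  have hm2 : 2 ≤ m := by
    by_contra hlt
    push Not at hlt
    have : m = 0 ∨ m = 1 := by omega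
    rcases this with rfl | rfl
    · rw [hm] at hAcard; norm_num at hAcard
    · rw [hm] at hAcard; norm_num at hAcard
  have hdvd : 2 ^ 2 ∣ Nat.card A := by
    rw [hm]; exact pow_dvd_pow 2 hm2
  obtain ⟨K, hK⟩ := Sylow.exists_subgroup_card_pow_prime 2 hdvd
  refine ⟨(K.map A.subtype).map Q.subtype, ?_, ?_⟩
  · rw [kf_iff]
    refine ⟨?_, ?_⟩
    · rw [Subgroup.card_subtype, Subgroup.card_subtype, hK]; norm_num
    · rintro _ ⟨_, ⟨k, hk, rfl⟩, rfl⟩
      have := hA2 k.1 k.2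
      have h2 : ((k.1 : Q) : G) * ((k.1 : Q) : G) = 1 := by
        rw [← Subgroup.coe_mul, ← sq, this]; rfl
      exact h2
  · rintro _ ⟨q, _, rfl⟩
    exact q.2

theorem rank_of_four (Q U : Subgroup G) (hU : IsKleinFour U) (hUQ : U ≤ Q) :
    ¬ Cfsg.PRankLE 2 1 Q := by
  intro h
  have hk := (kf_iff U).1 hU
  have hc : ∀ a ∈ U, ∀ b ∈ U, a * b = b * a := by
    intro a ha b hb
    have h1 := hk.2 a ha
    have h2 := hk.2 b hb
    have h3 := hk.2 (a * b) (U.mul_mem ha hb)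
    calc a * b = a * (a * b * (a * b)) * b := by rw [h3, mul_one]
      _ = (a * a) * (b * a) * (b * b) := by group
      _ = b * a := by rw [h1, h2, one_mul, mul_one]
  have := h (U.subgroupOf Q)
    ⟨⟨fun a b => Subtype.ext (Subtype.ext (hc a.1.1 (Subgroup.mem_subgroupOf.1 a.2) b.1.1
      (Subgroup.mem_subgroupOf.1 b.2)))⟩⟩
    (fun a ha => by
      apply Subtype.ext
      rw [Subgroup.coe_pow, sq]
      exact hk.2 a.1 (Subgroup.mem_subgroupOf.1 ha))
  have hcard : Nat.card (U.subgroupOf Q) = 4 := by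
    rw [← hk.1]; exact Nat.card_congr (Subgroup.subgroupOfEquivOfLe hUQ).toEquiv
  rw [hcard] at this
  norm_num at this

theorem exists_cj_ge [Finite G] (S : Sylow 2 G) (R : Subgroup G) (hR : IsPGroup 2 R) :
    ∃ a : G, R ≤ cj a (S : Subgroup G) := by
  haveI : Fact (Nat.Prime 2) := ⟨Nat.prime_two⟩
  obtain ⟨P, hP⟩ := hR.exists_le_sylow
  obtain ⟨a, ha⟩ := MulAction.exists_smul_eq G S P
  refine ⟨a, ?_⟩
  have h1 : ((a • S : Sylow 2 G) : Subgroup G) = cj a (S : Subgroup G) := by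
    rw [Sylow.coe_subgroup_smul]; rfl
  rw [← h1, ha]; exact hP

theorem isPGroup_of_kf (U : Subgroup G) (hU : IsKleinFour U) : IsPGroup 2 U := by
  have hk := (kf_iff U).1 hU
  intro a
  refine ⟨1, ?_⟩
  rw [pow_one]
  apply Subtype.ext
  rw [Subgroup.coe_pow, sq]
  exact hk.2 a.1 a.2

/-- normalizers grow in `p`-groups -/
theorem exists_normalizer_not_mem [Finite G] (P D : Subgroup G) (hP : IsPGroup 2 P) (hDP : D ≤ P)
    (hne : D ≠ P) : ∃ x ∈ P, x ∈ Subgroup.normalizer (D : Set G) ∧ x ∉ D := by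
  haveI : Fact (Nat.Prime 2) := ⟨Nat.prime_two⟩
  haveI : Group.IsNilpotent P := hP.isNilpotent
  have hnc : NormalizerCondition P := Group.normalizerCondition_of_isNilpotent
  have hlt : D.subgroupOf P < ⊤ := by
    rw [lt_top_iff_ne_top]
    intro h
    apply hne
    apply le_antisymm hDP
    intro x hx
    have : (⟨x, hx⟩ : P) ∈ D.subgroupOf P := by rw [h]; exact Subgroup.mem_top _
    exact Subgroup.mem_subgroupOf.1 this
  have h2 := hnc _ hlt
  obtain ⟨x, hxN, hxD⟩ := SetLike.exists_of_lt h2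
  refine ⟨x.1, x.2, ?_, fun h => hxD (Subgroup.mem_subgroupOf.2 h)⟩
  rw [Subgroup.mem_normalizer_iff] at hxN ⊢
  intro h
  constructor
  · intro hh
    have := (hxN ⟨h, hDP hh⟩).1 (Subgroup.mem_subgroupOf.2 hh)
    exact Subgroup.mem_subgroupOf.1 this
  · intro hh
    have hhP : h ∈ P := by
      have : h = x.1⁻¹ * (x.1 * h * x.1⁻¹) * x.1 := by group
      rw [this]
      exact P.mul_mem (P.mul_mem (P.inv_mem x.2) (hDP hh)) x.2
    have := (hxN ⟨h, hhP⟩).2 (Subgroup.mem_subgroupOf.2 hh)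
    exact Subgroup.mem_subgroupOf.1 this

/-- The 2-generated core. -/
def Gam (S : Subgroup G) : Subgroup G :=
  ⨆ Q : {Q : Subgroup G // Q ≤ S ∧ ¬ Cfsg.PRankLE 2 1 Q},
    Subgroup.normalizer ((Q : Subgroup G) : Set G)

theorem normalizer_le_Gam (S Q : Subgroup G) (hQ : Q ≤ S) (hr : ¬ Cfsg.PRankLE 2 1 Q) :
    Subgroup.normalizer (Q : Set G) ≤ Gam S :=
  le_iSup (fun Q : {Q : Subgroup G // Q ≤ S ∧ ¬ Cfsg.PRankLE 2 1 Q} =>
    Subgroup.normalizer ((Q : Subgroup G) : Set G)) ⟨Q, hQ, hr⟩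

theorem cj_le_of_mem_normalizer (g : G) (Q U : Subgroup G)
    (hg : g ∈ Subgroup.normalizer (Q : Set G)) (hU : U ≤ Q) : cj g U ≤ Q := by
  intro x hx
  rw [mem_cj] at hx
  have h1 := (Subgroup.mem_normalizer_iff.1 hg (g⁻¹ * x * g)).1 (hU hx)
  have : g * (g⁻¹ * x * g) * g⁻¹ = x := by group
  rwa [this] at h1

/-- if the core is everything, the commuting graph is connected -/
theorem connected_of_top [Finite G] (S : Sylow 2 G) (hS : Cfsg.IsFourConnected (S : Subgroup G))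
    (U₀ : Subgroup G) (hU₀ : IsKleinFour U₀) (hU₀S : U₀ ≤ (S : Subgroup G))
    (htop : Gam (S : Subgroup G) = ⊤) : Cfsg.IsFourConnected G := by
  let H : Subgroup G :=
    { carrier := {g | Relation.ReflTransGen Adj (cj g U₀) U₀}
      one_mem' := by
        show Relation.ReflTransGen Adj (cj 1 U₀) U₀
        rw [cj_one]
      mul_mem' := by
        intro g h hg hh
        show Relation.ReflTransGen Adj (cj (g * h) U₀) U₀
        rw [cj_mul]
        exact (conn_cj g hh).trans hg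
      inv_mem' := by
        intro g hg
        show Relation.ReflTransGen Adj (cj g⁻¹ U₀) U₀
        have := conn_cj g⁻¹ hg
        rw [cj_inv_cj] at this
        exact conn_symm this }
  have hH : ∀ g, g ∈ H ↔ Relation.ReflTransGen Adj (cj g U₀) U₀ := fun g => Iff.rfl
  have hle : Gam (S : Subgroup G) ≤ H := by
    unfold Gam
    apply iSup_le
    rintro ⟨Q, hQS, hQr⟩ g hg
    rw [hH]
    obtain ⟨U₁, hU₁, hU₁Q⟩ := exists_four_of_rank Q hQr
    have h1 : cj g U₁ ≤ (S : Subgroup G) := (cj_le_of_mem_normalizer g Q U₁ hg hU₁Q).trans hQS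
    have h2 := conn_cj g (conn_of_le _ hS U₀ U₁ hU₀ hU₁ hU₀S (hU₁Q.trans hQS))
    have h3 := conn_of_le _ hS (cj g U₁) U₀ (kf_cj g U₁ hU₁) hU₀ h1 hU₀S
    exact h2.trans h3
  have hHtop : ∀ g : G, Relation.ReflTransGen Adj (cj g U₀) U₀ := by
    intro g
    rw [← hH]
    have : H = ⊤ := eq_top_iff.2 (htop ▸ hle)
    rw [this]; exact Subgroup.mem_top g
  rw [fc_iff]
  intro U V hU hV
  obtain ⟨a, ha⟩ := exists_cj_ge S U (isPGroup_of_kf U hU)
  obtain ⟨b, hb⟩ := exists_cj_ge S V (isPGroup_of_kf V hV)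
  have h1 := conn_of_le_cj _ hS a U (cj a U₀) hU (kf_cj a U₀ hU₀) ha (cj_mono a hU₀S)
  have h2 := hHtop a
  have h3 := conn_symm (hHtop b)
  have h4 := conn_of_le_cj _ hS b (cj b U₀) V (kf_cj b U₀ hU₀) hV (cj_mono b hU₀S) hb
  exact ((h1.trans h2).trans h3).trans h4

/-- conjugation inside a subgroup vs. in the group -/
theorem map_cj_subtype (M : Subgroup G) (n : M) (R : Subgroup M) :
    (cj n R).map M.subtype = cj (n : G) (R.map M.subtype) := by
  ext x
  constructor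
  · rintro ⟨_, ⟨r, hr, rfl⟩, rfl⟩
    exact ⟨(r : G), ⟨r, hr, rfl⟩, rfl⟩
  · rintro ⟨_, ⟨r, hr, rfl⟩, rfl⟩
    exact ⟨n * r * n⁻¹, ⟨r, hr, rfl⟩, rfl⟩

theorem card_lt_of_lt [Finite G] {D E : Subgroup G} (hDE : D ≤ E) (x : G) (hxE : x ∈ E)
    (hxD : x ∉ D) : Nat.card D < Nat.card E := by
  have hne : D ≠ E := fun h => hxD (h ▸ hxE)
  rcases Nat.lt_or_ge (Nat.card D) (Nat.card E) with h | h
  · exact h
  · exact absurd (Subgroup.eq_of_le_of_card_ge hDE h) hne

/-- Alperin-type lemma: if `S ∩ gSg⁻¹` has rank at least two then `g` lies in the core. -/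
theorem mem_of_four [Finite G] (S : Sylow 2 G) (Γ : Subgroup G)
    (hΓ : ∀ Q : Subgroup G, Q ≤ (S : Subgroup G) → ¬ Cfsg.PRankLE 2 1 Q →
      Subgroup.normalizer (Q : Set G) ≤ Γ) :
    ∀ d : ℕ, ∀ g : G, Nat.card (S : Subgroup G)
        - Nat.card ((S : Subgroup G) ⊓ cj g (S : Subgroup G) : Subgroup G) = d →
      (∃ U : Subgroup G, IsKleinFour U ∧ U ≤ (S : Subgroup G) ⊓ cj g (S : Subgroup G)) →
      g ∈ Γ := by
  haveI : Fact (Nat.Prime 2) := ⟨Nat.prime_two⟩
  intro d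
  induction d using Nat.strong_induction_on with
  | _ d ih =>
  rintro g hd ⟨U, hU, hUD⟩
  obtain ⟨D, hDdef⟩ : ∃ D : Subgroup G, D = (S : Subgroup G) ⊓ cj g (S : Subgroup G) := ⟨_, rfl⟩
  rw [← hDdef] at hd hUD
  have hDS : D ≤ (S : Subgroup G) := hDdef ▸ inf_le_left
  have hDS' : D ≤ cj g (S : Subgroup G) := hDdef ▸ inf_le_right
  have hDr : ¬ Cfsg.PRankLE 2 1 D := rank_of_four D U hU hUD
  have hM : Subgroup.normalizer (D : Set G) ≤ Γ := hΓ D hDS hDr
  have hSp : IsPGroup 2 (S : Subgroup G) := S.isPGroup'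
  have hSgp : IsPGroup 2 (cj g (S : Subgroup G)) := hSp.map _
  by_cases hDeq : D = (S : Subgroup G)
  · have h1 : (S : Subgroup G) ≤ cj g (S : Subgroup G) := hDeq ▸ hDS'
    have h2 : (S : Subgroup G) = cj g (S : Subgroup G) :=
      Subgroup.eq_of_le_of_card_ge h1 (by rw [card_cj])
    apply hΓ (S : Subgroup G) le_rfl (rank_of_four _ U hU (hUD.trans hDS))
    rw [Subgroup.mem_normalizer_iff]
    intro h
    constructor
    · intro hh
      have := conj_mem_cj g h _ hh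
      rwa [← h2] at this
    · intro hh
      rw [h2, mem_cj] at hh
      have e : g⁻¹ * (g * h * g⁻¹) * g = h := by group
      rwa [e] at hh
  · have hcardS : Nat.card D < Nat.card (S : Subgroup G) := by
      rcases Nat.lt_or_ge (Nat.card D) (Nat.card (S : Subgroup G)) with h | h
      · exact h
      · exact absurd (Subgroup.eq_of_le_of_card_ge hDS h) hDeq
    have hDne' : D ≠ cj g (S : Subgroup G) := by
      intro h
      have : Nat.card D = Nat.card (S : Subgroup G) := by rw [h, card_cj]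
      omega
    obtain ⟨x, hxS, hxN, hxD⟩ := exists_normalizer_not_mem _ D hSp hDS hDeq
    obtain ⟨y, hyS, hyN, hyD⟩ := exists_normalizer_not_mem _ D hSgp hDS' hDne'
    obtain ⟨M, hMdef⟩ : ∃ M : Subgroup G, M = Subgroup.normalizer (D : Set G) := ⟨_, rfl⟩
    rw [← hMdef] at hM hxN hyN
    have hDM : D ≤ M := hMdef ▸ Subgroup.le_normalizer
    have hR0 : IsPGroup 2 (((S : Subgroup G) ⊓ M).subgroupOf M) :=
      (hSp.to_le inf_le_left).comap_subtype
    obtain ⟨R', hR'⟩ := hR0.exists_le_sylow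
    obtain ⟨R, hRdef⟩ : ∃ R : Subgroup G, R = (R' : Subgroup M).map M.subtype := ⟨_, rfl⟩
    have hRp : IsPGroup 2 R := by rw [hRdef]; exact R'.isPGroup'.map _
    have hSMR : (S : Subgroup G) ⊓ M ≤ R := by
      intro z hz
      rw [hRdef]
      exact ⟨⟨z, hz.2⟩, hR' (Subgroup.mem_subgroupOf.2 hz), rfl⟩
    obtain ⟨a, ha⟩ := exists_cj_ge S R hRp
    have haΓ : a ∈ Γ := by
      have hD1 : D ≤ (S : Subgroup G) ⊓ cj a (S : Subgroup G) :=
        le_inf hDS ((le_inf hDS hDM).trans (hSMR.trans ha))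
      have hx1 : x ∈ (S : Subgroup G) ⊓ cj a (S : Subgroup G) := ⟨hxS, ha (hSMR ⟨hxS, hxN⟩)⟩
      have hlt := card_lt_of_lt hD1 x hx1 hxD
      have hle2 : Nat.card ((S : Subgroup G) ⊓ cj a (S : Subgroup G) : Subgroup G)
          ≤ Nat.card (S : Subgroup G) := Subgroup.card_le_of_le inf_le_left
      exact ih (Nat.card (S : Subgroup G)
        - Nat.card ((S : Subgroup G) ⊓ cj a (S : Subgroup G) : Subgroup G)) (by omega) a rfl
        ⟨U, hU, hUD.trans hD1⟩
    have hR1 : IsPGroup 2 ((cj g (S : Subgroup G) ⊓ M).subgroupOf M) :=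
      (hSgp.to_le inf_le_left).comap_subtype
    obtain ⟨n, hn⟩ := exists_cj_ge R' _ hR1
    have hnR : cj g (S : Subgroup G) ⊓ M ≤ cj (n : G) R := by
      intro z hz
      have h1 : (⟨z, hz.2⟩ : M) ∈ cj n (R' : Subgroup M) := hn (Subgroup.mem_subgroupOf.2 hz)
      have h2 : z ∈ (cj n (R' : Subgroup M)).map M.subtype := ⟨⟨z, hz.2⟩, h1, rfl⟩
      rw [map_cj_subtype, ← hRdef] at h2
      exact h2
    have hnΓ : (n : G) ∈ Γ := hM n.2
    have hna : cj g (S : Subgroup G) ⊓ M ≤ cj ((n : G) * a) (S : Subgroup G) := by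
      rw [cj_mul]
      exact hnR.trans (cj_mono _ ha)
    have hgna : g⁻¹ * ((n : G) * a) ∈ Γ := by
      have hD2 : D ≤ cj g (S : Subgroup G) ⊓ cj ((n : G) * a) (S : Subgroup G) :=
        le_inf hDS' ((le_inf hDS' hDM).trans hna)
      have hy1 : y ∈ cj g (S : Subgroup G) ⊓ cj ((n : G) * a) (S : Subgroup G) :=
        ⟨hyS, hna ⟨hyS, hyN⟩⟩
      have hlt := card_lt_of_lt hD2 y hy1 hyD
      have heq : (S : Subgroup G) ⊓ cj (g⁻¹ * ((n : G) * a)) (S : Subgroup G)
          = cj g⁻¹ (cj g (S : Subgroup G) ⊓ cj ((n : G) * a) (S : Subgroup G)) := by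
        rw [cj_inf, cj_inv_cj, ← cj_mul]
      have hcard : Nat.card ((S : Subgroup G) ⊓ cj (g⁻¹ * ((n : G) * a)) (S : Subgroup G) :
          Subgroup G) = Nat.card (cj g (S : Subgroup G) ⊓ cj ((n : G) * a) (S : Subgroup G) :
          Subgroup G) := by
        rw [heq, card_cj]
      have hle2 : Nat.card ((S : Subgroup G) ⊓ cj (g⁻¹ * ((n : G) * a)) (S : Subgroup G) :
          Subgroup G) ≤ Nat.card (S : Subgroup G) := Subgroup.card_le_of_le inf_le_left
      refine ih _ (by omega) (g⁻¹ * ((n : G) * a)) rfl ⟨cj g⁻¹ U, kf_cj _ U hU, ?_⟩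
      rw [heq]
      exact cj_mono _ (hUD.trans hD2)
    have : g = ((n : G) * a) * (g⁻¹ * ((n : G) * a))⁻¹ := by group
    rw [this]
    exact Γ.mul_mem (Γ.mul_mem hnΓ haΓ) (Γ.inv_mem hgna)

/-- if the commuting graph is connected, the core is everything -/
theorem top_of_connected [Finite G] (S : Sylow 2 G)
    (U₀ : Subgroup G) (hU₀ : IsKleinFour U₀) (hU₀S : U₀ ≤ (S : Subgroup G))
    (hconn : Cfsg.IsFourConnected G) : Gam (S : Subgroup G) = ⊤ := by
  obtain ⟨Γ, hΓdef⟩ : ∃ Γ : Subgroup G, Γ = Gam (S : Subgroup G) := ⟨_, rfl⟩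
  rw [← hΓdef]
  have hΓ : ∀ Q : Subgroup G, Q ≤ (S : Subgroup G) → ¬ Cfsg.PRankLE 2 1 Q →
      Subgroup.normalizer (Q : Set G) ≤ Γ := by
    intro Q hQ hr
    rw [hΓdef]
    exact normalizer_le_Gam _ Q hQ hr
  have key : ∀ x y : G, (∃ U : Subgroup G, IsKleinFour U ∧
      U ≤ cj x (S : Subgroup G) ⊓ cj y (S : Subgroup G)) → x⁻¹ * y ∈ Γ := by
    rintro x y ⟨U, hU, hUle⟩
    have heq : (S : Subgroup G) ⊓ cj (x⁻¹ * y) (S : Subgroup G)
        = cj x⁻¹ (cj x (S : Subgroup G) ⊓ cj y (S : Subgroup G)) := by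
      rw [cj_inf, cj_inv_cj, ← cj_mul]
    refine mem_of_four S Γ hΓ _ (x⁻¹ * y) rfl ⟨cj x⁻¹ U, kf_cj _ U hU, ?_⟩
    rw [heq]
    exact cj_mono _ hUle
  have chain : ∀ V : Subgroup G, Relation.ReflTransGen Adj U₀ V →
      ∃ x ∈ Γ, V ≤ cj x (S : Subgroup G) := by
    intro V hV
    induction hV with
    | refl => exact ⟨1, Γ.one_mem, by rw [cj_one]; exact hU₀S⟩
    | @tail B C _ hbc ih =>
      obtain ⟨x, hxΓ, hBx⟩ := ih
      have hBp : IsPGroup 2 B := isPGroup_of_kf B hbc.1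
      have hCp : IsPGroup 2 C := isPGroup_of_kf C hbc.2.1
      have hBC : B ≤ Subgroup.normalizer (C : Set G) := by
        intro b hb
        rw [Subgroup.mem_normalizer_iff]
        intro c
        constructor
        · intro hc
          have := hbc.2.2 b hb c hc
          rw [this, mul_assoc, mul_inv_cancel, mul_one]; exact hc
        · intro hc
          have h1 := hbc.2.2 b hb _ hc
          have h2 : c = b * c * b⁻¹ := by
            calc c = b⁻¹ * ((b * c * b⁻¹) * b) := by group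
              _ = b⁻¹ * (b * (b * c * b⁻¹)) := by rw [h1]
              _ = b * c * b⁻¹ := by group
          rw [h2]; exact hc
      have hsup : IsPGroup 2 (B ⊔ C : Subgroup G) := IsPGroup.to_sup_of_normal_right' hBp hCp hBC
      obtain ⟨y, hy⟩ := exists_cj_ge S _ hsup
      have hmem := key x y ⟨B, hbc.1, le_inf hBx (le_sup_left.trans hy)⟩
      refine ⟨y, ?_, le_sup_right.trans hy⟩
      have : y = x * (x⁻¹ * y) := by group
      rw [this]
      exact Γ.mul_mem hxΓ hmem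
  rw [eq_top_iff]
  intro g _
  have h1 := (fc_iff G).1 hconn U₀ (cj g U₀) hU₀ (kf_cj g U₀ hU₀)
  obtain ⟨x, hxΓ, hx⟩ := chain _ h1
  have hmem := key x g ⟨cj g U₀, kf_cj g U₀ hU₀, le_inf hx (cj_mono g hU₀S)⟩
  have : g = x * (x⁻¹ * g) := by group
  rw [this]
  exact Γ.mul_mem hxΓ hmem

theorem exists_four_of_rank_top [Finite G] (h : ¬ Cfsg.PRankLE 2 1 G) :
    ∃ U : Subgroup G, IsKleinFour U := by
  unfold Cfsg.PRankLE at h
  push Not at h
  obtain ⟨A, hAc, hA2, hAcard⟩ := h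
  haveI : Fact (Nat.Prime 2) := ⟨Nat.prime_two⟩
  have hAp : IsPGroup 2 A := by
    intro a
    refine ⟨1, ?_⟩
    rw [pow_one]
    apply Subtype.ext
    have := hA2 a.1 a.2
    rw [Subgroup.coe_pow, this]; rfl
  obtain ⟨m, hm⟩ := IsPGroup.exists_card_eq hAp
  have hm2 : 2 ≤ m := by
    by_contra hlt
    push Not at hlt
    have : m = 0 ∨ m = 1 := by omega
    rcases this with rfl | rfl
    · rw [hm] at hAcard; norm_num at hAcard
    · rw [hm] at hAcard; norm_num at hAcard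
  have hdvd : 2 ^ 2 ∣ Nat.card A := by
    rw [hm]; exact pow_dvd_pow 2 hm2
  obtain ⟨K, hK⟩ := Sylow.exists_subgroup_card_pow_prime 2 hdvd
  refine ⟨K.map A.subtype, ?_⟩
  rw [kf_iff]
  refine ⟨?_, ?_⟩
  · rw [Subgroup.card_subtype, hK]; norm_num
  · rintro _ ⟨k, hk, rfl⟩
    have := hA2 k.1 k.2
    rw [sq] at this
    exact this

theorem main0520 [Finite G] (h2 : ¬ Cfsg.PRankLE 2 1 G)
    (S : Sylow 2 G) (hS : Cfsg.IsFourConnected (S : Subgroup G)) :
    ¬ Cfsg.IsFourConnected G ↔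
      (⨆ Q : {Q : Subgroup G // Q ≤ (S : Subgroup G) ∧ ¬ Cfsg.PRankLE 2 1 Q},
          Subgroup.normalizer ((Q : Subgroup G) : Set G)) ≠ ⊤ := by
  obtain ⟨U, hU⟩ := exists_four_of_rank_top h2
  obtain ⟨a, ha⟩ := exists_cj_ge S U (isPGroup_of_kf U hU)
  have hU₀ : IsKleinFour (cj a⁻¹ U) := kf_cj _ U hU
  have hU₀S : cj a⁻¹ U ≤ (S : Subgroup G) := by
    have := cj_mono a⁻¹ ha
    rwa [cj_inv_cj] at this
  show ¬ Cfsg.IsFourConnected G ↔ Gam (S : Subgroup G) ≠ ⊤
  rw [not_iff_not]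
  exact ⟨top_of_connected S _ hU₀ hU₀S, connected_of_top S hS _ hU₀ hU₀S⟩

/-- Let G be a finite group of 2-rank at least 2 and S a Sylow 2-subgroup whose commuting graph of Klein four-subgroups is
connected. Then the commuting graph of Klein four-subgroups of G is disconnected if and only if the 2-generated core — the
subgroup generated by the normalizers N_G(Q) of the subgroups Q of S that contain a Klein four-group — is a proper
subgroup of G. -/
theorem result {G : Type*} [Group G] [Finite G] (h2 : ¬ Cfsg.PRankLE 2 1 G)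
    (S : Sylow 2 G) (hS : Cfsg.IsFourConnected (S : Subgroup G)) :
    ¬ Cfsg.IsFourConnected G ↔
      (⨆ Q : {Q : Subgroup G // Q ≤ (S : Subgroup G) ∧ ¬ Cfsg.PRankLE 2 1 Q},
          Subgroup.normalizer ((Q : Subgroup G) : Set G)) ≠ ⊤ := by
  exact main0520 h2 S hS

end Cfsg.Agent.S0520
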