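import Cfsg.Statements.S0521
import Cfsg.Agent.Lib.Helper4.PStabSection
import Cfsg.Agent.Lib.Helper4.PStabNormal
import Cfsg.Agent.Lib.Helper3.PSolv2
import Cfsg.Agent.Lib.Helper3.PComp
import Cfsg.Agent.Lib.Helper3.SolvPSolv
import Cfsg.Agent.Lib.Helper7.PSolvable

set_option autoImplicit false
open Cfsg

namespace Cfsg.Agent.S0521

/-- Let X be a finite solvable group of odd order, p a prime and S a Sylow p-subgroup of X whose commutator subgroup is
cyclic. Then the product of the largest normal subgroup of X of order prime to p with S is a normal subgroup of X. -/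
theorem result {X : Type*} [Group X] [Finite X] [Group.IsSolvable X]
    (hX : Odd (Nat.card X)) (p : ℕ) [Fact p.Prime] (S : Sylow p X) (hS : IsCyclic (commutator (S : Subgroup X))) :
    (Cfsg.pPrimeCore p X ⊔ (S : Subgroup X)).Normal := by
  classical
  have hpp := (Fact.out : p.Prime)
  haveI hNn : (Cfsg.pPrimeCore p X).Normal := inferInstance
  by_cases hp2 : p = 2
  · subst hp2
    have hSbot : (S : Subgroup X) = ⊥ := by
      rw [eq_bot_iff]
      intro a ha
      obtain ⟨k, hk⟩ := S.2 ⟨a, ha⟩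
      have h1 : a ^ (2 ^ k) = 1 := by
        have := congrArg Subtype.val hk
        rw [Subgroup.coe_pow, Subgroup.coe_one] at this
        exact this
      have h2 : a ^ (Nat.card X) = 1 := pow_card_eq_one'
      have h3 : a ^ (Nat.gcd (2 ^ k) (Nat.card X)) = 1 := pow_gcd_eq_one.2 ⟨h1, h2⟩
      have h4 : Nat.gcd (2 ^ k) (Nat.card X) = 1 :=
        Nat.Coprime.pow_left k (Nat.coprime_two_left.2 hX)
      rw [h4, pow_one] at h3
      rw [Subgroup.mem_bot]
      exact h3
    rw [hSbot, sup_bot_eq]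
    exact hNn
  · have hsolG : Cfsg.IsPSolvable p X :=
      Cfsg.Agent.Lib.Helper3.isPSolvable_of_isSolvable p _ X rfl inferInstance
    have hsol : Cfsg.IsPSolvable p (X ⧸ Cfsg.pPrimeCore p X) :=
      Cfsg.Agent.Lib.Helper7.isPSolvable_quotient hpp hsolG _
    have hF1 : Cfsg.pPrimeCore p (X ⧸ Cfsg.pPrimeCore p X) = ⊥ :=
      Cfsg.Agent.Lib.Helper3.pPrimeCore_quotient_eq_bot p
    have hHH := Cfsg.Agent.Lib.Helper3.centralizer_pCore_le_of_psolvable_quotient hsolG
      (Cfsg.pPrimeCore p X) hF1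
    have hoddq : Odd (Nat.card (X ⧸ Cfsg.pPrimeCore p X)) :=
      Odd.of_dvd_nat hX (Subgroup.card_quotient_dvd_card _)
    have hno := Cfsg.Agent.Lib.Helper4.psn_odd_no_sl23 (X := X ⧸ Cfsg.pPrimeCore p X) hoddq p
    set N := Cfsg.pPrimeCore p X with hNdef
    obtain ⟨Sb, hSbdef⟩ : ∃ Sb : Subgroup (X ⧸ N), Sb = (S : Subgroup X).map (QuotientGroup.mk' N) :=
      ⟨_, rfl⟩
    have hSbp : IsPGroup p Sb := hSbdef ▸ S.2.map _
    have hTS : Cfsg.pCore p (X ⧸ N) ≤ Sb := by
      have := Cfsg.Agent.Lib.Helper4.pCore_le_sylow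
        (S.mapSurjective (QuotientGroup.mk'_surjective N))
      rw [hSbdef]
      exact this
    haveI hTn : (Cfsg.pCore p (X ⧸ N)).Normal := Cfsg.Agent.Lib.Helper4.pCore_normal p
    have hTp : IsPGroup p (Cfsg.pCore p (X ⧸ N)) := Cfsg.Agent.Lib.Helper4.pCore_isPGroup
    -- the cyclic derived subgroup
    have hC0 : ⁅Sb, Sb⁆ = ((commutator ↥(S : Subgroup X)).map (S : Subgroup X).subtype).map
        (QuotientGroup.mk' N) := by
      rw [hSbdef, commutator_def, Subgroup.map_commutator, ← MonoidHom.range_eq_map,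
        Subgroup.range_subtype, Subgroup.map_commutator]
    obtain ⟨g₀, hg₀⟩ := hS.exists_generator
    obtain ⟨g, hgdef⟩ : ∃ g : X ⧸ N, g = QuotientGroup.mk' N ((g₀ : ↥(S : Subgroup X)) : X) :=
      ⟨_, rfl⟩
    have hgen : ∀ c ∈ ⁅Sb, Sb⁆, ∃ e : ℤ, c = g ^ e := by
      intro c hc
      rw [hC0] at hc
      obtain ⟨c₁, hc₁, rfl⟩ := Subgroup.mem_map.1 hc
      obtain ⟨c₂, hc₂, rfl⟩ := Subgroup.mem_map.1 hc₁
      obtain ⟨e, he⟩ := Subgroup.mem_zpowers_iff.1 (hg₀ ⟨c₂, hc₂⟩)
      refine ⟨e, ?_⟩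
      have h1 : ((g₀ : ↥(S : Subgroup X)) : X) ^ e = (c₂ : X) := by
        have := congrArg (fun z : ↥(commutator ↥(S : Subgroup X)) => ((z : ↥(S : Subgroup X)) : X)) he
        simpa using this
      rw [hgdef, ← map_zpow, h1]
      rfl
    have hgC0 : g ∈ ⁅Sb, Sb⁆ := by
      rw [hC0, hgdef]
      exact Subgroup.mem_map.2 ⟨_, Subgroup.mem_map.2 ⟨_, g₀.2, rfl⟩, rfl⟩
    have hC0le : ⁅Sb, Sb⁆ ≤ Sb := by
      rw [Subgroup.commutator_le]
      intro a ha b hb
      rw [commutatorElement_def]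
      exact Subgroup.mul_mem _ (Subgroup.mul_mem _ (Subgroup.mul_mem _ ha hb)
        (Subgroup.inv_mem _ ha)) (Subgroup.inv_mem _ hb)
    have hgp : ∃ i : ℕ, g ^ (p ^ i) = 1 := by
      obtain ⟨i, hi⟩ := hSbp ⟨g, hC0le hgC0⟩
      refine ⟨i, ?_⟩
      have := congrArg Subtype.val hi
      rw [Subgroup.coe_pow, Subgroup.coe_one] at this
      exact this
    have hSbT : Sb ≤ Cfsg.pCore p (X ⧸ N) := by
      intro x hx
      apply Cfsg.Agent.Lib.Helper4.pss_mem_pCore_of_section p hp2 hsol hno hHH x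
      rw [Subgroup.commutator_le]
      intro c hc y hy
      have hzx : Subgroup.zpowers x ≤ Sb := by rw [Subgroup.zpowers_le]; exact hx
      have hcT : c ∈ Cfsg.pCore p (X ⧸ N) := Subgroup.commutator_le_left _ _ hc
      have hcC0 : c ∈ ⁅Sb, Sb⁆ := Subgroup.commutator_mono hTS hzx hc
      have hySb : y ∈ Sb := hzx hy
      obtain ⟨j, hj⟩ := hSbp ⟨y, hySb⟩
      have hyj : y ^ (p ^ j) = 1 := by
        have := congrArg Subtype.val hj
        rw [Subgroup.coe_pow, Subgroup.coe_one] at this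
        exact this
      obtain ⟨e, hce⟩ := hgen c hcC0
      have hconj : y * g * y⁻¹ ∈ ⁅Sb, Sb⁆ := by
        have h1 : y * g * y⁻¹ = (y * g * y⁻¹ * g⁻¹) * g := by group
        rw [h1]
        have h0 := Subgroup.commutator_mem_commutator hySb (hC0le hgC0)
        rw [commutatorElement_def] at h0
        exact Subgroup.mul_mem _ h0 hgC0
      obtain ⟨k, hk⟩ := hgen _ hconj
      have hcp : c ^ p ∈ (frattini ↥(Cfsg.pCore p (X ⧸ N))).map (Cfsg.pCore p (X ⧸ N)).subtype :=
        (Cfsg.Agent.Lib.Helper4.qp_frattini_facts p _ hTp).2 c hcT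
      rcases Cfsg.Agent.Lib.Helper4.pss_cyclic_conj p g y j hyj hgp k hk with hg1 | ⟨m, hkm⟩
      · have hc1 : c = 1 := by rw [hce, hg1, one_zpow]
        rw [hc1, commutatorElement_def]
        have h0 : (1 : X ⧸ N) * y * 1⁻¹ * y⁻¹ = 1 := by group
        rw [h0]
        exact Subgroup.one_mem _
      · have hyc : y * c * y⁻¹ = c ^ k := by
          rw [hce]
          have h1 : y * g ^ e * y⁻¹ = (y * g * y⁻¹) ^ e := by
            have := map_zpow (MulAut.conj y) g e
            simpa [MulAut.conj_apply] using this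
          rw [h1, hk, ← zpow_mul, ← zpow_mul, mul_comm]
        rw [commutatorElement_def]
        have h2 : c * y * c⁻¹ * y⁻¹ = (c ^ p) ^ (-m) := by
          have h1 : c * y * c⁻¹ * y⁻¹ = c * (y * c * y⁻¹)⁻¹ := by group
          rw [h1, hyc]
          calc c * (c ^ k)⁻¹ = c ^ (1 : ℤ) * (c ^ k)⁻¹ := by rw [zpow_one]
            _ = c ^ ((1 : ℤ) - k) := (zpow_sub c 1 k).symm
            _ = c ^ ((p : ℤ) * (-m)) := by
                congr 1
                rw [hkm]; ring
            _ = (c ^ (p : ℤ)) ^ (-m) := zpow_mul c p (-m)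
            _ = (c ^ p) ^ (-m) := by rw [zpow_natCast]
        rw [h2]
        exact Subgroup.zpow_mem _ hcp _
    have hSbeq : Sb = Cfsg.pCore p (X ⧸ N) := le_antisymm hSbT hTS
    have hSbn : Sb.Normal := hSbeq ▸ hTn
    have hcomap : Sb.comap (QuotientGroup.mk' N) = N ⊔ (S : Subgroup X) := by
      rw [hSbdef, Subgroup.comap_map_eq, QuotientGroup.ker_mk', sup_comm]
    rw [← hcomap]
    exact hSbn.comap _

end Cfsg.Agent.S0521
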