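import Cfsg.Statements.S0526
import Cfsg.Agent.Lib.Helper2.Supersolvable4
import Cfsg.Agent.Lib.Helper2.CyclicNormal

set_option autoImplicit false
set_option linter.style.haveILetI false
open Cfsg

namespace Cfsg.Agent.S0526

open Cfsg.Agent.Lib.Helper2

universe u

theorem aux (n : ℕ) : ∀ (G : Type u) [Group G] [Finite G], Nat.card G = n →
    Cfsg.IsSupersolvable G → Group.IsNilpotent (commutator G) := by
  induction n using Nat.strong_induction_on with
  | _ n ih =>
    intro G _ _ hn hG
    rcases subsingleton_or_nontrivial G with hsub | hnt
    · infer_instance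
    · obtain ⟨N, hNn, hNp⟩ := exists_normal_prime_of_isSupersolvable hG
      haveI := hNn
      haveI : Fact (Nat.card N).Prime := ⟨hNp⟩
      haveI : IsCyclic N := isCyclic_of_prime_card rfl
      let π := QuotientGroup.mk' N
      have hcard : Nat.card (G ⧸ N) < n := by
        rw [← hn, Subgroup.card_eq_card_quotient_mul_card_subgroup N]
        have h2 : 0 < Nat.card (G ⧸ N) := Nat.card_pos
        nlinarith [hNp.two_le]
      have hQ := isSupersolvable_quotient hG N
      haveI hnil : Group.IsNilpotent (commutator (G ⧸ N)) := ih _ hcard (G ⧸ N) rfl hQ
      have hmap : ∀ x : commutator G, π x ∈ commutator (G ⧸ N) := by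
        intro x
        have h1 : (commutator G).map π ≤ commutator (G ⧸ N) := by
          rw [commutator_def, commutator_def, Subgroup.map_commutator]
          exact Subgroup.commutator_mono le_top le_top
        exact h1 ⟨x, x.2, rfl⟩
      let f : commutator G →* commutator (G ⧸ N) :=
        (π.comp (commutator G).subtype).codRestrict (commutator (G ⧸ N)) hmap
      apply Subgroup.isNilpotent_of_ker_le_center f
      intro x hx
      have hx1 : π (x : G) = 1 := by
        have := MonoidHom.mem_ker.1 hx
        have h2 : ((f x : commutator (G ⧸ N)) : G ⧸ N) = 1 := by rw [this]; rfl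
        exact h2
      have hxN : (x : G) ∈ N := by
        rw [← QuotientGroup.ker_mk' N]; exact MonoidHom.mem_ker.2 hx1
      rw [Subgroup.mem_center_iff]
      intro y
      have hy : (y : G) ∈ Subgroup.centralizer (N : Set G) :=
        commutator_le_centralizer_of_cyclic_normal N y.2
      rw [Subgroup.mem_centralizer_iff] at hy
      apply Subtype.ext
      have := hy (x : G) hxN
      simp only [Subgroup.coe_mul]
      exact this.symm

/-- In a finite supersolvable group the commutator subgroup is nilpotent. -/
theorem result {G : Type*} [Group G] [Finite G] (hG : Cfsg.IsSupersolvable G) : Group.IsNilpotent (commutator G) := by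
  exact aux _ G rfl hG

end Cfsg.Agent.S0526
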