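import Cfsg.Statements.S0527
import Cfsg.Agent.Lib.Helper2.Supersolvable4
import Cfsg.Agent.S0542

set_option autoImplicit false
set_option linter.style.haveILetI false
open Cfsg

namespace Cfsg.Agent.S0527

open Cfsg.Agent.Lib.Helper2

universe u

theorem aux (n : ℕ) : ∀ (G : Type u) [Group G] [Finite G], Nat.card G = n →
    Cfsg.IsSupersolvable G → ∀ M : Subgroup G, IsCoatom M → M.index.Prime := by
  induction n using Nat.strong_induction_on with
  | _ n ih =>
    intro G _ _ hn hG M hM
    haveI : Nontrivial G := by
      by_contra h
      rw [not_nontrivial_iff_subsingleton] at h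
      exact hM.1 (Subsingleton.elim _ _)
    obtain ⟨N, hNn, hNp⟩ := exists_normal_prime_of_isSupersolvable hG
    haveI := hNn
    by_cases hNM : N ≤ M
    · -- pass to the quotient
      let π := QuotientGroup.mk' N
      have hπ : Function.Surjective π := QuotientGroup.mk'_surjective N
      have hker : π.ker ≤ M := by rw [QuotientGroup.ker_mk']; exact hNM
      have hcm : (M.map π).comap π = M := Subgroup.comap_map_eq_self hker
      have hco : IsCoatom (M.map π) := by
        constructor
        · intro h
          apply hM.1
          rw [← hcm, h, Subgroup.comap_top]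
        · intro L hL
          have h1 : M ≤ L.comap π := by
            rw [← hcm]; exact Subgroup.comap_mono hL.le
          have h2 : M ≠ L.comap π := by
            intro h
            apply hL.ne
            rw [h, Subgroup.map_comap_eq_self_of_surjective hπ]
          have h3 := hM.2 _ (lt_of_le_of_ne h1 h2)
          rw [← Subgroup.map_comap_eq_self_of_surjective hπ L, h3,
            Subgroup.map_top_of_surjective π hπ]
      have hidx : (M.map π).index = M.index := by
        rw [← Subgroup.index_comap_of_surjective (M.map π) hπ, hcm]
      have hcard : Nat.card (G ⧸ N) < n := by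
        have h1 := Subgroup.card_eq_card_quotient_mul_card_subgroup N
        rw [← hn, h1]
        have h2 : 0 < Nat.card (G ⧸ N) := Nat.card_pos
        nlinarith [hNp.two_le]
      rw [← hidx]
      exact ih _ hcard (G ⧸ N) rfl (isSupersolvable_quotient hG N) _ hco
    · have htop : M ⊔ N = ⊤ := hM.2 _ (lt_of_le_of_ne le_sup_left
        (fun h => hNM (by rw [h]; exact le_sup_right)))
      have h1 : M.relIndex (M ⊔ N) = M.relIndex N := Cfsg.Agent.S0542.relIndex_sup_normal M N
      rw [htop, Subgroup.relIndex_top_right] at h1
      have h2 : M.relIndex N ∣ Nat.card N := Subgroup.relIndex_dvd_card M N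
      rcases (Nat.dvd_prime hNp).1 h2 with h3 | h3
      · exact absurd (Subgroup.relIndex_eq_one.1 h3) hNM
      · rw [h1, h3]; exact hNp

/-- In a finite supersolvable group the index of any maximal subgroup is a prime number. -/
theorem result {G : Type*} [Group G] [Finite G] (hG : Cfsg.IsSupersolvable G) (M : Subgroup G) (hM : IsCoatom M) : M.index.Prime := by
  exact aux _ G rfl hG M hM

end Cfsg.Agent.S0527
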