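import Cfsg.Statements.S0528
import Cfsg.Agent.Lib.Helper2.Supersolvable3

set_option autoImplicit false
open Cfsg

namespace Cfsg.Agent.S0528

/-- An extension of a cyclic normal subgroup by a supersolvable group is supersolvable: if N is a cyclic normal subgroup of a finite group G and G modulo N is supersolvable, then G is supersolvable. -/
theorem result {G : Type*} [Group G] [Finite G] (N : Subgroup G) [N.Normal] [IsCyclic N] (h : Cfsg.IsSupersolvable (G ⧸ N)) : Cfsg.IsSupersolvable G := by
  obtain ⟨g0, hg0⟩ := (N.isCyclic_iff_exists_zpowers_eq_top).1 inferInstance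
  rw [Cfsg.Agent.Lib.Helper2.isSupersolvable_iff_ssReach] at h ⊢
  have := Cfsg.Agent.Lib.Helper2.SSReach.comap_of_cyclic_ker (QuotientGroup.mk' N)
    (QuotientGroup.mk'_surjective N) g0 (by rw [QuotientGroup.ker_mk', hg0]) h
  rwa [Subgroup.comap_top] at this

end Cfsg.Agent.S0528
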