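import Cfsg.Statements.S0531
import Cfsg.Agent.Lib.Helper2.Supersolvable4

set_option autoImplicit false
set_option linter.style.haveILetI false
open Cfsg

namespace Cfsg.Agent.S0531

open Cfsg.Agent.Lib.Helper2

universe u

theorem card_comap_mk' {G : Type u} [Group G] [Finite G] (N : Subgroup G) [N.Normal]
    (L : Subgroup (G ⧸ N)) :
    Nat.card (L.comap (QuotientGroup.mk' N)) = Nat.card L * Nat.card N := by
  have h1 : (L.comap (QuotientGroup.mk' N)).index = L.index :=
    Subgroup.index_comap_of_surjective L (QuotientGroup.mk'_surjective N)
  have h2 := (L.comap (QuotientGroup.mk' N)).card_mul_index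
  have h3 := L.card_mul_index
  have h4 := Subgroup.card_eq_card_quotient_mul_card_subgroup N
  have hpos : 0 < L.index := Nat.pos_of_ne_zero Subgroup.index_ne_zero_of_finite
  rw [h1] at h2
  rw [h4, ← h3] at h2
  have : L.index * Nat.card (L.comap (QuotientGroup.mk' N)) = L.index * (Nat.card L * Nat.card N) := by
    rw [mul_comm, h2]; ring
  exact Nat.eq_of_mul_eq_mul_left hpos this

theorem aux (n : ℕ) : ∀ (G : Type u) [Group G] [Finite G], Nat.card G = n →
    Cfsg.IsSupersolvable G → ∀ d : ℕ, d ∣ Nat.card G → ∃ H : Subgroup G, Nat.card H = d := by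
  induction n using Nat.strong_induction_on with
  | _ n ih =>
    intro G _ _ hn hG d hd
    rcases subsingleton_or_nontrivial G with hsub | hnt
    · refine ⟨⊥, ?_⟩
      rw [Nat.card_of_subsingleton (1 : G)] at hd
      rw [Nat.dvd_one.1 hd]
      exact Subgroup.card_bot
    · obtain ⟨N, hNn, hNp⟩ := exists_normal_prime_of_isSupersolvable hG
      haveI := hNn
      set p := Nat.card N with hp
      let π := QuotientGroup.mk' N
      have hcardG : Nat.card G = Nat.card (G ⧸ N) * p :=
        Subgroup.card_eq_card_quotient_mul_card_subgroup N
      have hcard : Nat.card (G ⧸ N) < n := by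
        rw [← hn, hcardG]
        have h2 : 0 < Nat.card (G ⧸ N) := Nat.card_pos
        nlinarith [hNp.two_le]
      have hQ := isSupersolvable_quotient hG N
      by_cases hpd : p ∣ d
      · obtain ⟨e, rfl⟩ := hpd
        have he : e ∣ Nat.card (G ⧸ N) := by
          rw [hcardG, mul_comm] at hd
          exact Nat.dvd_of_mul_dvd_mul_right hNp.pos hd
        obtain ⟨L, hL⟩ := ih _ hcard (G ⧸ N) rfl hQ e he
        refine ⟨L.comap π, ?_⟩
        rw [card_comap_mk', hL, mul_comm]
      · have hcop : Nat.Coprime d p := ((Nat.Prime.coprime_iff_not_dvd hNp).2 hpd).symm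
        have hd' : d ∣ Nat.card (G ⧸ N) := by
          rw [hcardG] at hd
          exact hcop.dvd_of_dvd_mul_right hd
        obtain ⟨L, hL⟩ := ih _ hcard (G ⧸ N) rfl hQ d hd'
        set H := L.comap π with hH
        have hHcard : Nat.card H = d * p := by rw [hH, card_comap_mk', hL]
        have hNH : N ≤ H := by
          intro x hx
          rw [hH, Subgroup.mem_comap]
          have : π x = 1 := by
            rw [← MonoidHom.mem_ker, QuotientGroup.ker_mk']; exact hx
          rw [this]; exact L.one_mem
        let N' : Subgroup H := N.subgroupOf H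
        haveI : N'.Normal := inferInstance
        have hN'card : Nat.card N' = p :=
          Nat.card_congr (Subgroup.subgroupOfEquivOfLe hNH).toEquiv
        have hN'idx : N'.index = d := by
          have := N'.card_mul_index
          rw [hN'card, hHcard, mul_comm] at this
          exact Nat.eq_of_mul_eq_mul_right hNp.pos this
        have hcop' : Nat.Coprime (Nat.card N') N'.index := by
          rw [hN'card, hN'idx]; exact hcop.symm
        obtain ⟨K, hK⟩ := Subgroup.exists_right_complement'_of_coprime hcop'
        have hKcard : Nat.card K = d := by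
          have := hK.card_mul_card
          rw [hN'card, hHcard, mul_comm] at this
          exact Nat.eq_of_mul_eq_mul_right hNp.pos this
        exact ⟨K.map H.subtype, by rw [Subgroup.card_subtype, hKcard]⟩

/-- A finite supersolvable group has a subgroup of each order dividing its order. -/
theorem result {G : Type*} [Group G] [Finite G] (hG : Cfsg.IsSupersolvable G) : Cfsg.HasSubgroupOfEveryOrder G := by
  intro d hd
  exact aux _ G rfl hG d hd

end Cfsg.Agent.S0531
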