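import Cfsg.Statements.S0532
import Mathlib

set_option autoImplicit false
set_option linter.style.haveILetI false
open Cfsg

namespace Cfsg.Agent.S0532

universe u v

theorem hasSubgroupOfEveryOrder_of_mulEquiv {A : Type u} {B : Type v} [Group A] [Group B]
    (e : A ≃* B) (hA : Cfsg.HasSubgroupOfEveryOrder A) : Cfsg.HasSubgroupOfEveryOrder B := by
  intro d hd
  rw [← Nat.card_congr e.toEquiv] at hd
  obtain ⟨H, hH⟩ := hA d hd
  refine ⟨H.map e.toMonoidHom, ?_⟩
  rw [Subgroup.card_map_of_injective e.injective, hH]

theorem aux (n : ℕ) : ∀ (G : Type u) [Group G] [Finite G], Nat.card G = n →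
    (∀ H : Subgroup G, Cfsg.HasSubgroupOfEveryOrder H) → ∀ (p : ℕ) [Fact p.Prime],
    p ∣ Nat.card G → (∀ q : ℕ, q.Prime → q ∣ Nat.card G → q ≤ p) →
    ∀ P : Sylow p G, (P : Subgroup G).Normal := by
  induction n using Nat.strong_induction_on with
  | _ n ih =>
    intro G _ _ hn h p hp hdvd hmax P
    have hpp : p.Prime := hp.out
    have hcard1 : Nat.card G ≠ 1 := by
      intro h1; rw [h1] at hdvd; exact hpp.one_lt.ne' (Nat.dvd_one.1 hdvd)
    set q := (Nat.card G).minFac with hq
    have hqp : q.Prime := Nat.minFac_prime hcard1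
    have hqd : q ∣ Nat.card G := Nat.minFac_dvd _
    by_cases hpq : p = q
    · -- G is a p-group
      have hall : ∀ {d : ℕ}, d.Prime → d ∣ Nat.card G → d = p := by
        intro d hd hdd
        apply le_antisymm (hmax d hd hdd)
        rw [hpq]
        exact Nat.minFac_le_of_dvd hd.two_le hdd
      have hpow := Nat.eq_prime_pow_of_unique_prime_dvd (Nat.card_pos (α := G)).ne' hall
      have hidx : (P : Subgroup G).index ∣ p ^ (Nat.card G).primeFactorsList.length := by
        rw [← hpow]; exact Subgroup.index_dvd_card _
      obtain ⟨j, -, hj⟩ := (Nat.dvd_prime_pow hpp).1 hidx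
      have hj0 : j = 0 := by
        by_contra hne
        apply P.not_dvd_index
        rw [hj]; exact dvd_pow_self p hne
      rw [hj0, pow_zero, Subgroup.index_eq_one] at hj
      rw [hj]; infer_instance
    · -- a normal subgroup M of index q
      have hGall : Cfsg.HasSubgroupOfEveryOrder G :=
        hasSubgroupOfEveryOrder_of_mulEquiv Subgroup.topEquiv (h ⊤)
      have hdq : Nat.card G / q ∣ Nat.card G := Nat.div_dvd_of_dvd hqd
      obtain ⟨M, hM⟩ := hGall _ hdq
      have hMq : Nat.card M * q = Nat.card G := by
        rw [hM]; exact Nat.div_mul_cancel hqd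
      have hMidx : M.index = q := by
        have := M.card_mul_index
        rw [← hMq] at this
        exact Nat.eq_of_mul_eq_mul_left Nat.card_pos this
      haveI hMn : M.Normal := Subgroup.normal_of_index_eq_minFac_card hMidx
      have hMlt : Nat.card M < n := by
        rw [← hn, ← hMq]
        have : 0 < Nat.card M := Nat.card_pos
        nlinarith [hqp.two_le]
      have hMall : ∀ H : Subgroup M, Cfsg.HasSubgroupOfEveryOrder H := by
        intro H
        exact hasSubgroupOfEveryOrder_of_mulEquiv
          (Subgroup.equivMapOfInjective H M.subtype M.subtype_injective).symm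
          (h (H.map M.subtype))
      have hcop : Nat.Coprime p q := (Nat.coprime_primes hpp hqp).2 hpq
      have hpM : p ∣ Nat.card M := by
        rw [← hMq] at hdvd
        exact hcop.dvd_of_dvd_mul_right hdvd
      have hmaxM : ∀ r : ℕ, r.Prime → r ∣ Nat.card M → r ≤ p := by
        intro r hr hrd
        exact hmax r hr (hMq ▸ Dvd.dvd.mul_right hrd q)
      let Q : Sylow p M := default
      haveI hQn : (Q : Subgroup M).Normal := ih _ hMlt M rfl hMall p hpM hmaxM Q
      haveI hQc : (Q : Subgroup M).Characteristic := Q.characteristic_of_normal hQn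
      let R : Subgroup G := (Q : Subgroup M).map M.subtype
      haveI hRn : R.Normal := ConjAct.normal_of_characteristic_of_normal
      have hRp : IsPGroup p R := Q.isPGroup'.map M.subtype
      have hRidx : ¬ p ∣ R.index := by
        rw [Subgroup.index_map_subtype, hMidx]
        intro hd
        rcases (Nat.Prime.dvd_mul hpp).1 hd with h1 | h1
        · exact Q.not_dvd_index h1
        · exact hpq ((Nat.prime_dvd_prime_iff_eq hpp hqp).1 h1)
      have hRP : R ≤ P := hRp.le_sylow_of_normal P
      have : (P : Subgroup G) = R :=
        (hRp.toSylow hRidx).is_maximal' P.isPGroup' hRP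
      rw [this]; exact hRn

/-- If each subgroup of a finite group satisfies the converse of Lagrange's theorem, then a Sylow subgroup for the largest prime dividing the group order is normal. -/
theorem result {G : Type*} [Group G] [Finite G] (h : ∀ H : Subgroup G, Cfsg.HasSubgroupOfEveryOrder H) (p : ℕ) [Fact p.Prime] (hdvd : p ∣ Nat.card G) (hmax : ∀ q : ℕ, q.Prime → q ∣ Nat.card G → q ≤ p) (P : Sylow p G) : (P : Subgroup G).Normal := by
  exact aux _ G rfl h p hdvd hmax P

end Cfsg.Agent.S0532
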