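import Cfsg.Statements.S0529
import Cfsg.Agent.Lib.Helper2.Supersolvable5
import Cfsg.Agent.S0531
import Cfsg.Agent.S0532

set_option autoImplicit false
set_option linter.style.haveILetI false
open Cfsg

namespace Cfsg.Agent.S0529

open Cfsg.Agent.Lib.Helper2

universe u

/-- `PChain K q`: there is a chain of normal subgroups from `⊥` to `K` whose steps have prime
index, non-increasing going up, all at least `q`. -/
inductive PChain {G : Type u} [Group G] : Subgroup G → ℕ → Prop
  | bot (q : ℕ) : PChain ⊥ q
  | step {K K' : Subgroup G} {q : ℕ} : PChain K (K.relIndex K') → K ≤ K' → K'.Normal →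
      (K.relIndex K').Prime → q ≤ K.relIndex K' → PChain K' q

variable {G : Type u} [Group G]

theorem PChain.mono {K : Subgroup G} {q q' : ℕ} (h : PChain K q) (hq : q' ≤ q) : PChain K q' := by
  cases h with
  | bot => exact PChain.bot q'
  | step h1 h2 h3 h4 h5 => exact PChain.step h1 h2 h3 h4 (hq.trans h5)

theorem PChain.toChain {K : Subgroup G} {q : ℕ} (h : PChain K q) :
    ∃ (n : ℕ) (H : Fin (n + 1) → Subgroup G), H 0 = ⊥ ∧ H (Fin.last n) = K ∧
      (∀ i, (H i).Normal) ∧
      (∀ i : Fin n, H i.castSucc ≤ H i.succ ∧ ((H i.castSucc).relIndex (H i.succ)).Prime) ∧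
      (∀ i j : Fin n, i ≤ j →
        (H j.castSucc).relIndex (H j.succ) ≤ (H i.castSucc).relIndex (H i.succ)) ∧
      (∀ i : Fin n, q ≤ (H i.castSucc).relIndex (H i.succ)) := by
  induction h with
  | bot q =>
    exact ⟨0, fun _ => ⊥, rfl, rfl, fun _ => inferInstance, fun i => i.elim0, fun i => i.elim0,
      fun i => i.elim0⟩
  | @step K K' q _ hle hK'n hprime hq ih =>
    obtain ⟨n, H, h0, hl, hn, hs, hmono, hge⟩ := ih
    have e1 : ∀ j : Fin n, (Fin.snoc H K' : Fin (n + 2) → Subgroup G) (Fin.castSucc j).succ
        = H j.succ := by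
      intro j
      have h1 : (Fin.castSucc j).succ = Fin.castSucc j.succ := rfl
      rw [h1, Fin.snoc_castSucc]
    have e2 : ∀ j : Fin (n + 1), (Fin.snoc H K' : Fin (n + 2) → Subgroup G) (Fin.castSucc j)
        = H j := by
      intro j; rw [Fin.snoc_castSucc]
    have e3 : (Fin.snoc H K' : Fin (n + 2) → Subgroup G) (Fin.last n).succ = K' := by
      have h1 : (Fin.last n).succ = Fin.last (n + 1) := rfl
      rw [h1, Fin.snoc_last]
    refine ⟨n + 1, Fin.snoc H K', ?_, ?_, ?_, ?_, ?_, ?_⟩
    · have : (0 : Fin (n + 1 + 1)) = Fin.castSucc (0 : Fin (n + 1)) := rfl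
      rw [this, Fin.snoc_castSucc]; exact h0
    · rw [Fin.snoc_last]
    · intro i
      refine Fin.lastCases ?_ (fun j => ?_) i
      · rw [Fin.snoc_last]; exact hK'n
      · rw [Fin.snoc_castSucc]; exact hn j
    · intro i
      refine Fin.lastCases ?_ (fun j => ?_) i
      · rw [e3, e2, hl]; exact ⟨hle, hprime⟩
      · rw [e1, e2]; exact hs j
    · intro i j
      refine Fin.lastCases ?_ (fun j' => ?_) j
      · intro _
        rw [e3, e2, hl]
        refine Fin.lastCases ?_ (fun i' => ?_) i
        · rw [e3, e2, hl]
        · rw [e1, e2]; exact hge i'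
      · refine Fin.lastCases ?_ (fun i' => ?_) i
        · intro hij
          exfalso
          have h1 : (Fin.last n : Fin (n + 1)).val ≤ (Fin.castSucc j').val := hij
          simp at h1
          omega
        · intro hij
          rw [e1, e2, e1, e2]
          exact hmono i' j' (by simpa using hij)
    · intro i
      refine Fin.lastCases ?_ (fun i' => ?_) i
      · rw [e3, e2, hl]; exact hq
      · rw [e1, e2]; exact hq.trans (hge i')

/-- Pull back a chain along the quotient by a normal subgroup of prime order `p`, where `p`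
bounds all primes dividing the group order. -/
theorem PChain.comap_mk' [Finite G] (N : Subgroup G) [N.Normal] (hNp : (Nat.card N).Prime)
    (hmax : ∀ r : ℕ, r.Prime → r ∣ Nat.card G → r ≤ Nat.card N)
    {L : Subgroup (G ⧸ N)} {q : ℕ} (h : PChain L q) :
    PChain (L.comap (QuotientGroup.mk' N)) (min q (Nat.card N)) := by
  induction h with
  | bot q =>
    have h1 : (⊥ : Subgroup (G ⧸ N)).comap (QuotientGroup.mk' N) = N := by
      rw [MonoidHom.comap_bot, QuotientGroup.ker_mk']
    rw [h1]
    have h2 : (⊥ : Subgroup G).relIndex N = Nat.card N := Subgroup.relIndex_bot_left N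
    refine PChain.step (K := ⊥) ?_ bot_le inferInstance ?_ ?_
    · exact PChain.bot _
    · rw [h2]; exact hNp
    · rw [h2]; exact min_le_right _ _
  | @step K K' q _ hle hK'n hprime hq ih =>
    have hsurj := QuotientGroup.mk'_surjective N
    have h1 : (K.comap (QuotientGroup.mk' N)).relIndex (K'.comap (QuotientGroup.mk' N))
        = K.relIndex K' := by
      rw [Subgroup.relIndex_comap, Subgroup.map_comap_eq_self_of_surjective hsurj]
    have h2 : K.relIndex K' ≤ Nat.card N := by
      apply hmax _ hprime
      have h3 : K.relIndex K' ∣ Nat.card (G ⧸ N) :=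
        (Subgroup.relIndex_dvd_card K K').trans (Subgroup.card_subgroup_dvd_card K')
      exact h3.trans ⟨Nat.card N, Subgroup.card_eq_card_quotient_mul_card_subgroup N⟩
    rw [min_eq_left h2] at ih
    refine PChain.step (K := K.comap (QuotientGroup.mk' N)) ?_ (Subgroup.comap_mono hle)
      (hK'n.comap _) ?_ ?_
    · rw [h1]; exact ih
    · rw [h1]; exact hprime
    · rw [h1]; exact (min_le_left _ _).trans hq

theorem exists_pchain (n : ℕ) : ∀ (G : Type u) [Group G] [Finite G], Nat.card G = n →
    Cfsg.IsSupersolvable G → ∃ q : ℕ, PChain (⊤ : Subgroup G) q := by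
  induction n using Nat.strong_induction_on with
  | _ n ih =>
    intro G _ _ hn hG
    rcases subsingleton_or_nontrivial G with hsub | hnt
    · refine ⟨0, ?_⟩
      rw [Subsingleton.elim (⊤ : Subgroup G) ⊥]
      exact PChain.bot 0
    · -- the largest prime divisor `p` of the order
      have hcard1 : Nat.card G ≠ 1 := by
        intro h
        have := (Nat.card_eq_one_iff_unique.1 h).1
        exact not_subsingleton G this
      have hpf : (Nat.card G).primeFactors.Nonempty :=
        Nat.nonempty_primeFactors.2 (by
          have : 0 < Nat.card G := Nat.card_pos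
          omega)
      set p := (Nat.card G).primeFactors.max' hpf with hp
      have hpmem : p ∈ (Nat.card G).primeFactors := Finset.max'_mem _ _
      have hpp : p.Prime := Nat.prime_of_mem_primeFactors hpmem
      have hpd : p ∣ Nat.card G := Nat.dvd_of_mem_primeFactors hpmem
      have hmax : ∀ r : ℕ, r.Prime → r ∣ Nat.card G → r ≤ p := by
        intro r hr hrd
        apply Finset.le_max'
        exact Nat.mem_primeFactors.2 ⟨hr, hrd, Nat.card_pos.ne'⟩
      haveI : Fact p.Prime := ⟨hpp⟩
      -- the Sylow p-subgroup is normal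
      have hall : ∀ H : Subgroup G, Cfsg.HasSubgroupOfEveryOrder H := fun H =>
        Cfsg.Agent.S0531.result (isSupersolvable_subgroup hG H)
      let P : Sylow p G := default
      haveI hPn : (P : Subgroup G).Normal := Cfsg.Agent.S0532.result hall p hpd hmax P
      have hPne : (P : Subgroup G) ≠ ⊥ := P.ne_bot_of_dvd_card hpd
      obtain ⟨N, hNP, hNn, hNp⟩ := exists_normal_prime_le_of_isSupersolvable hG P hPne
      haveI := hNn
      have hNcard : Nat.card N = p := by
        have h1 : IsPGroup p N := P.isPGroup'.to_le hNP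
        obtain ⟨k, hk⟩ := h1.exists_card_eq
        rw [hk] at hNp ⊢
        have hk1 : k = 1 := Nat.Prime.eq_one_of_pow hNp
        rw [hk1, pow_one]
      have hNne : N ≠ ⊥ := by
        intro h
        rw [h, Subgroup.card_bot] at hNp
        exact Nat.not_prime_one hNp
      have hlt := card_quotient_lt_of_ne_bot N hNne
      rw [hn] at hlt
      obtain ⟨q, hq⟩ := ih _ hlt (G ⧸ N) rfl (isSupersolvable_quotient hG N)
      have := hq.comap_mk' N hNp (by rw [hNcard]; exact hmax)
      rw [Subgroup.comap_top] at this
      exact ⟨_, this⟩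

/-- A finite supersolvable group has a chain of normal subgroups, from the trivial subgroup to the whole group, in which every step has prime index and the primes occurring are non-increasing as one goes up the chain. -/
theorem result {G : Type*} [Group G] [Finite G] (hG : Cfsg.IsSupersolvable G) : ∃ (n : ℕ) (H : Fin (n + 1) → Subgroup G), H 0 = ⊥ ∧ H (Fin.last n) = ⊤ ∧ (∀ i, (H i).Normal) ∧ (∀ i : Fin n, H i.castSucc ≤ H i.succ ∧ ((H i.castSucc).relIndex (H i.succ)).Prime) ∧ ∀ i j : Fin n, i ≤ j → (H j.castSucc).relIndex (H j.succ) ≤ (H i.castSucc).relIndex (H i.succ) := by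
  obtain ⟨q, hq⟩ := exists_pchain _ G rfl hG
  obtain ⟨n, H, h0, hl, hn, hs, hmono, -⟩ := hq.toChain
  exact ⟨n, H, h0, hl, hn, hs, hmono⟩

end Cfsg.Agent.S0529
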