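import Cfsg.Statements.S0530
import Cfsg.Agent.Lib.Helper2.Supersolvable5

set_option autoImplicit false
set_option linter.style.haveILetI false
open Cfsg

namespace Cfsg.Agent.S0530

open Cfsg.Agent.Lib.Helper2

universe u

/-- A subgroup containing an index-2 subgroup and an element outside it is everything. -/
theorem eq_top_of_index_two {G : Type u} [Group G] (P K : Subgroup G) (hidx : P.index = 2)
    (hPK : P ≤ K) (t : G) (htK : t ∈ K) (htP : t ∉ P) : K = ⊤ := by
  have h1 : K.index ∣ 2 := hidx ▸ Subgroup.index_dvd_of_le hPK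
  rcases (Nat.dvd_prime Nat.prime_two).1 h1 with h2 | h2
  · exact Subgroup.index_eq_one.1 h2
  · exfalso
    have h3 := Subgroup.relIndex_mul_index hPK
    rw [h2, hidx] at h3
    have h4 : P.relIndex K = 1 := by omega
    exact htP (Subgroup.relIndex_eq_one.1 h4 htK)

theorem exists_cyclic_normal_of_index_two {G : Type u} [Group G] [Finite G] (P : Subgroup G)
    (hidx : P.index = 2) (z : G) (hzP : z ∈ P) (hz1 : z ≠ 1)
    (hzc : ∀ x ∈ P, x * z = z * x) :
    ∃ c : G, c ≠ 1 ∧ c ∈ P ∧ (Subgroup.zpowers c).Normal := by
  haveI hPn : P.Normal := Subgroup.normal_of_index_eq_two hidx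
  obtain ⟨t, ht⟩ := Subgroup.index_eq_two_iff.1 hidx
  have htP : t ∉ P := by
    have := ht 1
    rw [one_mul] at this
    intro h
    rcases this with ⟨_, h2⟩ | ⟨_, h2⟩
    · exact h2 P.one_mem
    · exact h2 h
  have httP : t * t ∈ P := by
    rcases ht t with ⟨h1, _⟩ | ⟨h1, _⟩
    · exact h1
    · exact absurd h1 htP
  set z' := t * z * t⁻¹ with hz'
  have hz'P : z' ∈ P := hPn.conj_mem z hzP t
  have hz'c : ∀ x ∈ P, x * z' = z' * x := by
    intro x hx
    have hy : t⁻¹ * x * t ∈ P := by
      have := hPn.conj_mem x hx t⁻¹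
      rwa [inv_inv] at this
    have h1 := hzc _ hy
    calc x * z' = t * ((t⁻¹ * x * t) * z) * t⁻¹ := by rw [hz']; group
      _ = t * (z * (t⁻¹ * x * t)) * t⁻¹ := by rw [h1]
      _ = z' * x := by rw [hz']; group
  by_cases hw : z * z' = 1
  · -- z' = z⁻¹
    have hz'inv : z' = z⁻¹ := eq_inv_of_mul_eq_one_right hw
    refine ⟨z, hz1, hzP, ?_⟩
    rw [← Subgroup.normalizer_eq_top_iff]
    apply eq_top_of_index_two P _ hidx _ t _ htP
    · intro x hx
      apply Subgroup.mem_normalizer_fintype
      intro n hn
      have hn' : n ∈ Subgroup.zpowers z := hn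
      obtain ⟨k, rfl⟩ := Subgroup.mem_zpowers_iff.1 hn'
      have hc : Commute x z := hzc x hx
      have : x * z ^ k * x⁻¹ = z ^ k := by
        rw [(hc.zpow_right k).eq, mul_inv_cancel_right]
      rw [this]; exact hn
    · apply Subgroup.mem_normalizer_fintype
      intro n hn
      have hn' : n ∈ Subgroup.zpowers z := hn
      obtain ⟨k, rfl⟩ := Subgroup.mem_zpowers_iff.1 hn'
      have : t * z ^ k * t⁻¹ = (z⁻¹) ^ k := by
        rw [← hz'inv, hz', conj_zpow]
      rw [this]
      exact Subgroup.zpow_mem _ (Subgroup.inv_mem _ (Subgroup.mem_zpowers z)) k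
  · refine ⟨z * z', hw, P.mul_mem hzP hz'P, ?_⟩
    apply zpowers_normal_of_mem_center
    have hcent : Subgroup.centralizer {z * z'} = ⊤ := by
      apply eq_top_of_index_two P _ hidx _ t _ htP
      · intro x hx
        rw [Subgroup.mem_centralizer_iff]
        intro y hy
        rw [Set.mem_singleton_iff] at hy
        subst hy
        rw [mul_assoc, ← hz'c x hx, ← mul_assoc, ← hzc x hx, mul_assoc]
      · rw [Subgroup.mem_centralizer_iff]
        intro y hy
        rw [Set.mem_singleton_iff] at hy
        subst hy
        have h1 : t * z = z' * t := by rw [hz']; group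
        have h2 : t * z' = z * t := by
          have := hzc _ httP
          calc t * z' = (t * t) * z * t⁻¹ := by rw [hz']; group
            _ = z * (t * t) * t⁻¹ := by rw [this]
            _ = z * t := by group
        have h3 : z' * z = z * z' := hzc z' hz'P
        calc z * z' * t = z * (z' * t) := by rw [mul_assoc]
          _ = z * (t * z) := by rw [h1]
          _ = (z * t) * z := by rw [mul_assoc]
          _ = t * z' * z := by rw [h2]
          _ = t * (z * z') := by rw [mul_assoc, h3]
    rw [Subgroup.mem_center_iff]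
    intro g
    have hg : g ∈ Subgroup.centralizer {z * z'} := by rw [hcent]; trivial
    rw [Subgroup.mem_centralizer_iff] at hg
    exact (hg _ rfl).symm

theorem aux (p : ℕ) [hp : Fact p.Prime] (m : ℕ) : ∀ (G : Type u) [Group G] [Finite G],
    Nat.card G = m → ∀ P : Subgroup G, IsPGroup p P → P.index ∣ 2 → Cfsg.IsSupersolvable G := by
  induction m using Nat.strong_induction_on with
  | _ m ih =>
    intro G _ _ hm P hP hidx
    rcases (Nat.dvd_prime Nat.prime_two).1 hidx with h1 | h2
    · rw [Subgroup.index_eq_one] at h1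
      subst h1
      have hG : IsPGroup p G :=
        hP.of_surjective (Subgroup.topEquiv : (⊤ : Subgroup G) ≃* G).toMonoidHom
          (Subgroup.topEquiv : (⊤ : Subgroup G) ≃* G).surjective
      exact isSupersolvable_of_isPGroup p hG
    · by_cases hPbot : P = ⊥
      · subst hPbot
        have hcard : Nat.card G = 2 ^ 1 := by
          rw [← Subgroup.index_bot, h2, pow_one]
        haveI : Fact (Nat.Prime 2) := ⟨Nat.prime_two⟩
        exact isSupersolvable_of_isPGroup 2 (IsPGroup.of_card hcard)
      · haveI : Nontrivial P := (Subgroup.nontrivial_iff_ne_bot P).2 hPbot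
        haveI := hP.center_nontrivial
        obtain ⟨z, hz⟩ := exists_ne (1 : Subgroup.center P)
        have hzc : ∀ x ∈ P, x * ((z : P) : G) = ((z : P) : G) * x := by
          intro x hx
          have := Subgroup.mem_center_iff.1 z.2 ⟨x, hx⟩
          exact congrArg Subtype.val this
        have hz1 : ((z : P) : G) ≠ 1 := by
          intro h
          apply hz
          apply Subtype.ext
          apply Subtype.ext
          exact h
        obtain ⟨c, hc1, hcP, hcn⟩ :=
          exists_cyclic_normal_of_index_two P h2 ((z : P) : G) (z : P).2 hz1 hzc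
        haveI := hcn
        have hne : Subgroup.zpowers c ≠ ⊥ := by
          intro h
          rw [Subgroup.zpowers_eq_bot] at h
          exact hc1 h
        have hlt := card_quotient_lt_of_ne_bot (Subgroup.zpowers c) hne
        rw [hm] at hlt
        let π := QuotientGroup.mk' (Subgroup.zpowers c)
        have hker : π.ker ≤ P := by
          rw [QuotientGroup.ker_mk', Subgroup.zpowers_le]; exact hcP
        have hidx' : (P.map π).index ∣ 2 := by
          rw [Subgroup.index_map_eq P (QuotientGroup.mk'_surjective _) hker]; exact hidx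
        have := ih _ hlt (G ⧸ Subgroup.zpowers c) rfl (P.map π) (hP.map π) hidx'
        exact isSupersolvable_of_quotient_zpowers c this

/-- A finite group whose order is twice a prime power is supersolvable. -/
theorem result {G : Type*} [Group G] [Finite G] (p n : ℕ) (hp : p.Prime) (hG : Nat.card G = 2 * p ^ n) : Cfsg.IsSupersolvable G := by
  haveI : Fact p.Prime := ⟨hp⟩
  let P : Sylow p G := default
  have h1 : (P : Subgroup G).index ∣ 2 * p ^ n := hG ▸ Subgroup.index_dvd_card _
  have h2 : Nat.Coprime (P : Subgroup G).index (p ^ n) :=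
    Nat.Coprime.pow_right n ((Nat.Prime.coprime_iff_not_dvd hp).2 P.not_dvd_index).symm
  have h3 : (P : Subgroup G).index ∣ 2 := h2.dvd_of_dvd_mul_right h1
  exact aux p _ G rfl P P.isPGroup' h3

end Cfsg.Agent.S0530
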