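import Cfsg.Statements.S0580
import Cfsg.Agent.Lib.Helper2.MaxPrimeIndex
import Cfsg.Agent.Lib.Helper2.Supersolvable5

set_option autoImplicit false
set_option linter.style.haveILetI false
open Cfsg

namespace Cfsg.Agent.S0580

open Cfsg.Agent.Lib.Helper2

universe u

theorem aux (n : ℕ) : ∀ (G : Type u) [Group G] [Finite G], Nat.card G = n →
    (∀ M : Subgroup G, IsCoatom M → M.index.Prime) → Group.IsSolvable G := by
  induction n using Nat.strong_induction_on with
  | _ n ih =>
    intro G _ _ hn h
    rcases subsingleton_or_nontrivial G with hsub | hnt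
    · infer_instance
    · obtain ⟨p, hpp, hpd, hmax⟩ := exists_largest_prime_dvd (Nat.card G) Finite.one_lt_card
      haveI : Fact p.Prime := ⟨hpp⟩
      let P : Sylow p G := default
      haveI hPn : (P : Subgroup G).Normal := sylow_normal_of_max_prime_index h p hmax P
      have hPne : (P : Subgroup G) ≠ ⊥ := P.ne_bot_of_dvd_card hpd
      have hlt := card_quotient_lt_of_ne_bot (P : Subgroup G) hPne
      rw [hn] at hlt
      haveI hQ : Group.IsSolvable (G ⧸ (P : Subgroup G)) :=
        ih _ hlt (G ⧸ (P : Subgroup G)) rfl (max_prime_index_quotient h _)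
      haveI hPnil : Group.IsNilpotent (P : Subgroup G) := P.isPGroup'.isNilpotent
      haveI hPs : Group.IsSolvable (P : Subgroup G) := inferInstance
      apply Group.isSolvable_of_ker_le_range (P : Subgroup G).subtype (QuotientGroup.mk' (P : Subgroup G))
      rw [QuotientGroup.ker_mk', Subgroup.range_subtype]

/-- If every maximal subgroup of a finite group has prime index, then the group is solvable. -/
theorem result {G : Type*} [Group G] [Finite G] (h : ∀ M : Subgroup G, IsCoatom M → M.index.Prime) : Group.IsSolvable G := by
  exact aux _ G rfl h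

end Cfsg.Agent.S0580
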