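import Cfsg.Statements.S0579
import Mathlib
import Cfsg.Agent.S0043
import Cfsg.Agent.S0580
import Cfsg.Agent.S0568
import Cfsg.Agent.Lib.Helper2.EigenP
import Cfsg.Agent.Lib.Helper2.MaxPrimeIndex
import Cfsg.Agent.Lib.Helper2.Supersolvable5
import Cfsg.Agent.Lib.Helper2.CyclicNormal
import Cfsg.Agent.Lib.Helper2.Nilp
import Cfsg.Agent.Lib.Helper2.Index
import Cfsg.Agent.Lib.Helper2.Conj
import Cfsg.Agent.Lib.Helper2.CompSys
import Cfsg.Agent.Lib.Helper2.FrattiniTriv
import Cfsg.Agent.Lib.Helper4.Hall2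
import Cfsg.Agent.Lib.Helper4.SZ
import Cfsg.Agent.Lib.Helper4.Schmidt

set_option autoImplicit false
open Cfsg

namespace Cfsg.Agent.S0579
open Cfsg.Agent.Lib.Helper2 Cfsg.Agent.Lib.Helper4
open scoped Pointwise commutatorElement
set_option linter.style.haveILetI false
set_option linter.deprecated false
set_option linter.unusedVariables false

universe u

theorem ss_of_two {G : Type u} [Group G] (K₁ K₂ : Subgroup G) [K₁.Normal] [K₂.Normal]
    (h : K₁ ⊓ K₂ = ⊥) (h₁ : Cfsg.IsSupersolvable (G ⧸ K₁)) (h₂ : Cfsg.IsSupersolvable (G ⧸ K₂)) :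
    Cfsg.IsSupersolvable G := by
  let f : G →* (G ⧸ K₁) × (G ⧸ K₂) := (QuotientGroup.mk' K₁).prod (QuotientGroup.mk' K₂)
  have hf : Function.Injective f := by
    rw [← MonoidHom.ker_eq_bot_iff, MonoidHom.ker_prod, QuotientGroup.ker_mk',
      QuotientGroup.ker_mk', h]
  have h3 := isSupersolvable_subgroup (isSupersolvable_prod h₁ h₂) f.range
  exact isSupersolvable_of_surjective (MonoidHom.ofInjective hf).symm.toMonoidHom
    (MonoidHom.ofInjective hf).symm.surjective h3

theorem card_eq_index_of_not_le {G : Type u} [Group G] [Finite G] (N : Subgroup G)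
    [hNn : N.Normal] (hNab : ∀ a ∈ N, ∀ b ∈ N, a * b = b * a)
    (hmin : ∀ K : Subgroup G, K.Normal → K ≤ N → K = ⊥ ∨ K = N)
    (M : Subgroup G) (hM : IsCoatom M) (hNM : ¬ N ≤ M) : Nat.card N = M.index := by
  have hsup : M ⊔ N = ⊤ := by
    apply hM.2
    apply lt_of_le_of_ne le_sup_left
    intro h
    apply hNM
    rw [h]; exact le_sup_right
  have hMN : M ≤ Subgroup.normalizer (N : Set G) := by
    rw [Subgroup.normalizer_eq_top]; exact le_top
  have hdecomp : ∀ g : G, ∃ m ∈ M, ∃ x ∈ N, g = m * x := fun g =>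
    exists_mul_of_mem_sup_of_le_normalizer hMN (hsup ▸ Subgroup.mem_top g)
  have hinfn : (M ⊓ N).Normal := by
    constructor
    intro x hx g
    obtain ⟨m, hm, y, hy, rfl⟩ := hdecomp g
    have hxN : x ∈ N := hx.2
    have h1 : m * y * x * (m * y)⁻¹ = m * x * m⁻¹ := by
      have := hNab y hy x hxN
      calc m * y * x * (m * y)⁻¹ = m * (y * x) * y⁻¹ * m⁻¹ := by group
        _ = m * (x * y) * y⁻¹ * m⁻¹ := by rw [this]
        _ = m * x * m⁻¹ := by group
    rw [h1]
    exact Subgroup.mem_inf.2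
      ⟨M.mul_mem (M.mul_mem hm hx.1) (M.inv_mem hm), hNn.conj_mem x hxN m⟩
  have hinf : M ⊓ N = ⊥ := by
    rcases hmin (M ⊓ N) hinfn inf_le_right with h | h
    · exact h
    · exfalso; apply hNM; rw [← h]; exact inf_le_left
  have h1 := relIndex_sup_of_le_normalizer M N hMN
  rw [hsup, Subgroup.relIndex_top_right, ← Subgroup.inf_relIndex_right, hinf,
    Subgroup.relIndex_bot_left] at h1
  exact h1.symm

theorem comm_mem_coatom {G : Type u} [Group G] [Finite G] (P : Subgroup G) [hPn : P.Normal]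
    {p : ℕ} [hp : Fact p.Prime] (hP : IsPGroup p P) (M : Subgroup G) (hM : IsCoatom M)
    (hidx : M.index.Prime) (hPM : ¬ P ≤ M) :
    ∀ y : G, ((∃ g : G, y = g ^ (p - 1)) ∨ (∃ g h : G, y = ⁅g, h⁆)) →
      ∀ x ∈ P, y * x * y⁻¹ * x⁻¹ ∈ M := by
  have hsup : M ⊔ P = ⊤ := by
    apply hM.2
    apply lt_of_le_of_ne le_sup_left
    intro h
    apply hPM
    rw [h]; exact le_sup_right
  obtain ⟨D, hD⟩ : ∃ D : Subgroup G, D = P ⊓ M := ⟨_, rfl⟩
  have hDP : D ≤ P := hD ▸ inf_le_left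
  have hDM : D ≤ M := hD ▸ inf_le_right
  have hMP : M ≤ Subgroup.normalizer (P : Set G) := by
    rw [Subgroup.normalizer_eq_top]; exact le_top
  have hrel : D.relIndex P = M.index := by
    rw [hD, Subgroup.inf_relIndex_left]
    have h1 := relIndex_sup_of_le_normalizer M P hMP
    rw [hsup, Subgroup.relIndex_top_right] at h1
    exact h1.symm
  obtain ⟨k, hk⟩ := (IsPGroup.iff_card).1 hP
  have hidxp : M.index = p := by
    have h1 : M.index ∣ p ^ k := by
      rw [← hrel, ← hk]; exact Subgroup.relIndex_dvd_card D P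
    exact (Nat.prime_dvd_prime_iff_eq hidx hp.out).1 (hidx.dvd_of_dvd_pow h1)
  have hk0 : k ≠ 0 := by
    intro h0
    rw [h0, pow_zero] at hk
    apply hPM
    rw [Subgroup.card_eq_one.1 hk]; exact bot_le
  haveI hDPn : (D.subgroupOf P).Normal := by
    apply Subgroup.normal_of_index_eq_minFac_card
    rw [hk, Nat.Prime.pow_minFac hp.out hk0]
    show D.relIndex P = p
    rw [hrel, hidxp]
  have hPD : P ≤ Subgroup.normalizer (D : Set G) := le_normalizer_of_subgroupOf_normal hDP hDPn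
  have hMD : M ≤ Subgroup.normalizer (D : Set G) := by
    intro m hm
    rw [Subgroup.mem_normalizer_iff]
    intro x
    rw [hD]
    constructor
    · intro hx
      exact Subgroup.mem_inf.2 ⟨hPn.conj_mem x (Subgroup.mem_inf.1 hx).1 m,
        M.mul_mem (M.mul_mem hm (Subgroup.mem_inf.1 hx).2) (M.inv_mem hm)⟩
    · intro hx
      have h1 : x = m⁻¹ * (m * x * m⁻¹) * m⁻¹⁻¹ := by group
      rw [h1]
      exact Subgroup.mem_inf.2 ⟨hPn.conj_mem _ (Subgroup.mem_inf.1 hx).1 m⁻¹,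
        M.mul_mem (M.mul_mem (M.inv_mem hm) (Subgroup.mem_inf.1 hx).2)
          (M.inv_mem (M.inv_mem hm))⟩
  haveI hDn : D.Normal := by
    rw [← Subgroup.normalizer_eq_top_iff, eq_top_iff, ← hsup]
    exact sup_le hMD hPD
  have hπ : Function.Surjective (QuotientGroup.mk' D) := QuotientGroup.mk'_surjective D
  obtain ⟨Z, hZ⟩ : ∃ Z : Subgroup (G ⧸ D), Z = P.map (QuotientGroup.mk' D) := ⟨_, rfl⟩
  haveI hZn : Z.Normal := hZ ▸ Subgroup.Normal.map hPn _ hπ
  have hZcard : Nat.card Z = p := by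
    have h1 : Z.index = P.index := by
      rw [hZ]; exact Subgroup.index_map_eq P hπ (by rw [QuotientGroup.ker_mk']; exact hDP)
    have h2 := Z.card_mul_index
    have h3 : Nat.card (G ⧸ D) = D.index := (Subgroup.index_eq_card D).symm
    have h4 := Subgroup.relIndex_mul_index hDP
    rw [h1, h3, ← h4, hrel, hidxp] at h2
    exact Nat.eq_of_mul_eq_mul_right (Nat.pos_of_ne_zero P.index_ne_zero_of_finite) h2
  have hcent : ∀ y : G, QuotientGroup.mk' D y ∈ Subgroup.centralizer (Z : Set (G ⧸ D)) →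
      ∀ x ∈ P, y * x * y⁻¹ * x⁻¹ ∈ M := by
    intro y hy x hx
    apply hDM
    have hxZ : QuotientGroup.mk' D x ∈ Z := hZ ▸ Subgroup.mem_map_of_mem _ hx
    have h1 : QuotientGroup.mk' D x * QuotientGroup.mk' D y =
        QuotientGroup.mk' D y * QuotientGroup.mk' D x := Subgroup.mem_centralizer_iff.1 hy _ hxZ
    have h2 : QuotientGroup.mk' D (y * x * y⁻¹ * x⁻¹) = 1 := by
      rw [map_mul, map_mul, map_mul, map_inv, map_inv, ← h1]; group
    exact (QuotientGroup.eq_one_iff _).1 h2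
  rintro y (⟨g, rfl⟩ | ⟨g, h, rfl⟩)
  · apply hcent
    rw [map_pow]
    exact pow_mem_centralizer_of_card_prime Z hZcard _
  · apply hcent
    haveI : IsCyclic Z := isCyclic_of_prime_card hZcard
    apply commutator_le_centralizer_of_cyclic_normal Z
    rw [map_commutatorElement, commutator_def]
    exact Subgroup.commutator_mem_commutator (Subgroup.mem_top _) (Subgroup.mem_top _)

theorem mem_frattini_iff {G : Type u} [Group G] (x : G) :
    x ∈ frattini G ↔ ∀ M : Subgroup G, IsCoatom M → x ∈ M := by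
  unfold frattini Order.radical
  rw [Subgroup.mem_iInf]
  constructor
  · intro h M hM
    have := h M
    rw [Subgroup.mem_iInf] at this
    exact this hM
  · intro h M
    rw [Subgroup.mem_iInf]
    exact h M

theorem comm_mem_frattini {G : Type u} [Group G] [Finite G]
    (h : ∀ M : Subgroup G, IsCoatom M → M.index.Prime) (P : Subgroup G) [hPn : P.Normal]
    {p : ℕ} [hp : Fact p.Prime] (hP : IsPGroup p P) :
    ∀ y : G, ((∃ g : G, y = g ^ (p - 1)) ∨ (∃ g h : G, y = ⁅g, h⁆)) →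
      ∀ x ∈ P, y * x * y⁻¹ * x⁻¹ ∈ frattini G := by
  intro y hy x hx
  rw [mem_frattini_iff]
  intro M hM
  by_cases hPM : P ≤ M
  · apply hPM
    have : y * x * y⁻¹ * x⁻¹ = (y * x * y⁻¹) * x⁻¹ := by group
    rw [this]; exact P.mul_mem (hPn.conj_mem x hx y) (P.inv_mem hx)
  · exact comm_mem_coatom P hP M hM (h M hM) hPM y hy x hx

theorem hall_trivial {G : Type u} [Group G] [Finite G] [Group.IsSolvable G] (P : Subgroup G)
    [hPn : P.Normal] {p : ℕ} [hp : Fact p.Prime] (hP : IsPGroup p P) (A : Subgroup G)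
    (hdec : ∀ g : G, ∃ a ∈ A, ∃ x ∈ P, g = a * x) (hAcard : ¬ p ∣ Nat.card A)
    (hcore : ∀ K : Subgroup G, K.Normal → ¬ p ∣ Nat.card K → K = ⊥)
    (A₀ : Subgroup G) (hA₀A : A₀ ≤ A) (hA₀n : ∀ a ∈ A, ∀ a' ∈ A₀, a * a' * a⁻¹ ∈ A₀)
    (hA₀ : ∀ a' ∈ A₀, ∀ x ∈ P, a' * x * a'⁻¹ * x⁻¹ ∈ frattini G) : A₀ = ⊥ := by
  obtain ⟨D₀, hD₀⟩ : ∃ D₀ : Subgroup G, D₀ = frattini G ⊓ P := ⟨_, rfl⟩
  haveI hD₀n : D₀.Normal := by rw [hD₀]; infer_instance
  have hD₀Φ : D₀ ≤ frattini G := hD₀ ▸ inf_le_left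
  have hD₀P : D₀ ≤ P := hD₀ ▸ inf_le_right
  obtain ⟨E, hE⟩ : ∃ E : Subgroup G, E = D₀ ⊔ A₀ := ⟨_, rfl⟩
  have hD₀E : D₀ ≤ E := hE ▸ le_sup_left
  have hA₀E : A₀ ≤ E := hE ▸ le_sup_right
  have hEP : ∀ x ∈ P, ∀ e ∈ E, x * e * x⁻¹ ∈ E := by
    intro x hx
    have h1 : D₀ ⊔ A₀ ≤ E.comap (MulAut.conj x).toMonoidHom := by
      apply sup_le
      · intro d hd
        show x * d * x⁻¹ ∈ E
        exact hD₀E (hD₀n.conj_mem d hd x)
      · intro a' ha'
        show x * a' * x⁻¹ ∈ E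
        have hw : a' * x⁻¹ * a'⁻¹ * x⁻¹⁻¹ ∈ D₀ := by
          rw [hD₀]
          refine Subgroup.mem_inf.2 ⟨hA₀ a' ha' x⁻¹ (P.inv_mem hx), ?_⟩
          exact P.mul_mem (hPn.conj_mem _ (P.inv_mem hx) a') (P.inv_mem (P.inv_mem hx))
        have h2 : x * a' * x⁻¹ = (x * (a' * x⁻¹ * a'⁻¹ * x⁻¹⁻¹) * x⁻¹) * a' := by group
        rw [h2]
        exact E.mul_mem (hD₀E (hD₀n.conj_mem _ hw x)) (hA₀E ha')
    intro e he
    rw [hE] at he
    exact h1 he
  have hEA : ∀ a ∈ A, ∀ e ∈ E, a * e * a⁻¹ ∈ E := by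
    intro a ha
    have h1 : D₀ ⊔ A₀ ≤ E.comap (MulAut.conj a).toMonoidHom := by
      apply sup_le
      · intro d hd
        show a * d * a⁻¹ ∈ E
        exact hD₀E (hD₀n.conj_mem d hd a)
      · intro a' ha'
        show a * a' * a⁻¹ ∈ E
        exact hA₀E (hA₀n a ha a' ha')
    intro e he
    rw [hE] at he
    exact h1 he
  have hEn : E.Normal := by
    constructor
    intro e he g
    obtain ⟨a, ha, x, hx, rfl⟩ := hdec g
    have h1 := hEA a ha _ (hEP x hx e he)
    have h2 : a * x * e * (a * x)⁻¹ = a * (x * e * x⁻¹) * a⁻¹ := by group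
    rw [h2]; exact h1
  have hA₀card : ¬ p ∣ Nat.card A₀ := fun hd => hAcard (hd.trans (Subgroup.card_dvd_of_le hA₀A))
  obtain ⟨k, hk⟩ := (IsPGroup.iff_card).1 hP
  have hcop : (Nat.card A₀).Coprime (A₀.relIndex E) := by
    have h1 : A₀.relIndex (A₀ ⊔ D₀) = A₀.relIndex D₀ :=
      relIndex_sup_of_le_normalizer A₀ D₀ (by rw [Subgroup.normalizer_eq_top]; exact le_top)
    have h2 : A₀.relIndex D₀ ∣ p ^ k := by
      rw [← hk]
      exact (Subgroup.relIndex_dvd_card A₀ D₀).trans (Subgroup.card_dvd_of_le hD₀P)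
    rw [hE, sup_comm, h1]
    apply Nat.Coprime.coprime_dvd_right h2
    exact Nat.Coprime.pow_right k ((Nat.Prime.coprime_iff_not_dvd hp.out).2 hA₀card).symm
  have hNtop : Subgroup.normalizer (A₀ : Set G) = ⊤ := by
    apply frattini_nongenerating
    rw [eq_top_iff]
    intro g _
    have hgE : cj g A₀ ≤ E := by
      intro z hz
      rw [mem_cj_iff] at hz
      have h1 : z = g * (g⁻¹ * z * g) * g⁻¹ := by group
      rw [h1]
      exact hEn.conj_mem _ (hA₀E hz) g
    obtain ⟨l, hl, hlg⟩ := hall_conj_sub E A₀ (cj g A₀) hA₀E hgE (card_cj' g A₀) hcop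
    have h3 : cj (l⁻¹ * g) A₀ = A₀ := by
      rw [cj_mul, ← hlg, cj_inv_cj']
    have h4 : l⁻¹ * g ∈ Subgroup.normalizer (A₀ : Set G) := mem_normalizer_of_cj_eq h3
    have h5 : g = l * (l⁻¹ * g) := by group
    rw [h5]
    rw [hE] at hl
    -- l ∈ D₀ ⊔ A₀ ≤ normalizer ⊔ frattini
    have h6 : D₀ ⊔ A₀ ≤ Subgroup.normalizer (A₀ : Set G) ⊔ frattini G :=
      sup_le (hD₀Φ.trans le_sup_right) (Subgroup.le_normalizer.trans le_sup_left)
    exact Subgroup.mul_mem _ (h6 hl) ((le_sup_left : Subgroup.normalizer (A₀ : Set G) ≤ _) h4)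
  have hA₀normal : A₀.Normal := Subgroup.normalizer_eq_top_iff.1 hNtop
  exact hcore A₀ hA₀normal hA₀card

theorem aux : ∀ (n : ℕ) (G : Type u) [Group G] [Finite G], Nat.card G = n →
    (∀ M : Subgroup G, IsCoatom M → M.index.Prime) → Cfsg.IsSupersolvable G := by
  intro n
  induction n using Nat.strong_induction_on with
  | _ n ih =>
  intro G _ _ hn h
  by_cases hsub : Subsingleton G
  · exact isSupersolvable_of_subsingleton
  haveI : Nontrivial G := not_subsingleton_iff_nontrivial.1 hsub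
  haveI : Group.IsSolvable G := Cfsg.Agent.S0580.result h
  have hquot : ∀ (K : Subgroup G) [K.Normal], K ≠ ⊥ → Cfsg.IsSupersolvable (G ⧸ K) := by
    intro K _ hK
    exact ih _ (hn ▸ card_quotient_lt_of_ne_bot K hK) (G ⧸ K) rfl (max_prime_index_quotient h K)
  have hcyc : ∀ c : G, c ≠ 1 → (Subgroup.zpowers c).Normal → Cfsg.IsSupersolvable G := by
    intro c hc hcn
    haveI := hcn
    exact isSupersolvable_of_quotient_zpowers c (hquot _ (Subgroup.zpowers_ne_bot.2 hc))
  have htop : (⊤ : Subgroup G) ≠ ⊥ := by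
    intro h'
    obtain ⟨x, hx⟩ := exists_ne (1 : G)
    have hxt : x ∈ (⊤ : Subgroup G) := Subgroup.mem_top x
    rw [h', Subgroup.mem_bot] at hxt
    exact hx hxt
  obtain ⟨N, hNn, hN1, -, hNmin⟩ := exists_minimal_normal_le (⊤ : Subgroup G) inferInstance htop
  haveI := hNn
  obtain ⟨hNcomm, p, hp, hexp⟩ := Cfsg.Agent.S0043.result N hN1 hNmin
  haveI : Fact p.Prime := ⟨hp⟩
  have hNab : ∀ a ∈ N, ∀ b ∈ N, a * b = b * a := by
    intro a ha b hb
    have h' := hNcomm.is_comm.comm (⟨a, ha⟩ : N) ⟨b, hb⟩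
    exact congrArg Subtype.val h'
  -- uniqueness of the minimal normal subgroup
  by_cases huniq : ∀ K : Subgroup G, K.Normal → K ≠ ⊥ → N ≤ K
  swap
  · have : ∃ K : Subgroup G, K.Normal ∧ K ≠ ⊥ ∧ ¬ N ≤ K := by
      by_contra hno
      apply huniq
      intro K hKn hK1
      by_contra hNK
      exact hno ⟨K, hKn, hK1, hNK⟩
    obtain ⟨K, hKn, hK1, hNK⟩ := this
    haveI := hKn
    have hinf : N ⊓ K = ⊥ := by
      rcases hNmin (N ⊓ K) inferInstance inf_le_left with h' | h'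
      · exact h'
      · exfalso; apply hNK; rw [← h']; exact inf_le_right
    exact ss_of_two N K hinf (hquot N hN1) (hquot K hK1)
  -- `N` lies in the Frattini subgroup
  by_cases hNΦ : N ≤ frattini G
  swap
  · have : ∃ M : Subgroup G, IsCoatom M ∧ ¬ N ≤ M := by
      by_contra hno
      apply hNΦ
      intro x hx
      rw [mem_frattini_iff]
      intro M hM
      by_contra hxM
      exact hno ⟨M, hM, fun hle => hxM (hle hx)⟩
    obtain ⟨M, hM, hNM⟩ := this
    have hcard : Nat.card N = M.index := card_eq_index_of_not_le N hNab hNmin M hM hNM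
    have hprime : (Nat.card N).Prime := hcard ▸ h M hM
    haveI : Fact (Nat.card N).Prime := ⟨hprime⟩
    haveI : IsCyclic N := isCyclic_of_prime_card rfl
    obtain ⟨⟨c, hcN⟩, hgen⟩ := IsCyclic.exists_generator (α := N)
    have hz : Subgroup.zpowers c = N := by
      apply le_antisymm
      · rw [Subgroup.zpowers_le]; exact hcN
      · intro x hx
        obtain ⟨k, hk⟩ := Subgroup.mem_zpowers_iff.1 (hgen ⟨x, hx⟩)
        rw [Subgroup.mem_zpowers_iff]
        refine ⟨k, ?_⟩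
        have := congrArg Subtype.val hk
        simpa using this
    have hc1 : c ≠ 1 := by
      intro hc; apply hN1; rw [← hz, hc, Subgroup.zpowers_one_eq_bot]
    exact hcyc c hc1 (hz ▸ hNn)
  -- a nontrivial element of `N`
  obtain ⟨v, hvN, hv1⟩ : ∃ v ∈ N, v ≠ 1 := by
    by_contra hno
    apply hN1
    rw [eq_bot_iff]
    intro x hx
    rw [Subgroup.mem_bot]
    by_contra hx1
    exact hno ⟨x, hx, hx1⟩
  have hov : orderOf v = p := orderOf_eq_prime (hexp v hvN) hv1
  -- the largest prime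
  obtain ⟨q, hq, hqd, hqmax⟩ := exists_largest_prime_dvd (Nat.card G) one_lt_card_of_nontrivial
  haveI : Fact q.Prime := ⟨hq⟩
  obtain ⟨Q⟩ : Nonempty (Sylow q G) := inferInstance
  have hQn : (Q : Subgroup G).Normal := sylow_normal_of_max_prime_index h q hqmax Q
  have hQ1 : (Q : Subgroup G) ≠ ⊥ := by
    intro hQ
    have h1 := Q.card_eq_multiplicity
    rw [hQ, Subgroup.card_bot] at h1
    have h2 : (Nat.card G).factorization q ≠ 0 :=
      (hq.factorization_pos_of_dvd Nat.card_pos.ne' hqd).ne'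
    have := Nat.one_lt_pow h2 hq.one_lt
    omega
  have hNQ : N ≤ Q := huniq Q hQn hQ1
  have hqp : q = p := by
    have hdvd : orderOf v ∣ Nat.card Q := by
      have := orderOf_dvd_natCard (⟨v, hNQ hvN⟩ : (Q : Subgroup G))
      rwa [Subgroup.orderOf_mk] at this
    rw [hov, Q.card_eq_multiplicity] at hdvd
    exact ((Nat.prime_dvd_prime_iff_eq hp hq).1 (hp.dvd_of_dvd_pow hdvd)).symm
  obtain ⟨P, hPdef⟩ : ∃ P : Subgroup G, P = (Q : Subgroup G) := ⟨_, rfl⟩
  haveI hPn : P.Normal := hPdef ▸ hQn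
  have hPp : IsPGroup p P := by rw [hPdef, ← hqp]; exact Q.isPGroup'
  have hPidx : ¬ p ∣ P.index := by rw [hPdef, ← hqp]; exact Q.not_dvd_index
  have hPcop : (Nat.card P).Coprime P.index := by rw [hPdef]; exact Q.card_coprime_index
  have hNP : N ≤ P := hPdef ▸ hNQ
  -- normal `p'`-subgroups are trivial
  have hcore : ∀ K : Subgroup G, K.Normal → ¬ p ∣ Nat.card K → K = ⊥ := by
    intro K hKn hpK
    by_contra hK1
    apply hpK
    have hvK : v ∈ K := huniq K hKn hK1 hvN
    have := orderOf_dvd_natCard (⟨v, hvK⟩ : K)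
    rwa [Subgroup.orderOf_mk, hov] at this
  -- a complement
  obtain ⟨A, hA⟩ := Subgroup.exists_right_complement'_of_coprime hPcop
  have hPA : P ⊔ A = ⊤ := hA.sup_eq_top
  have hAcard : ¬ p ∣ Nat.card A := by
    have h1 := hA.card_mul_card
    have h2 := P.card_mul_index
    have h3 : Nat.card A = P.index := Nat.eq_of_mul_eq_mul_left Nat.card_pos (h1.trans h2.symm)
    rw [h3]; exact hPidx
  have hAnormP : A ≤ Subgroup.normalizer (P : Set G) := by
    rw [Subgroup.normalizer_eq_top]; exact le_top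
  have hdec : ∀ g : G, ∃ a ∈ A, ∃ x ∈ P, g = a * x := fun g =>
    exists_mul_of_mem_sup_of_le_normalizer hAnormP (by rw [sup_comm, hPA]; exact Subgroup.mem_top g)
  -- the subgroup `Y` of elements acting trivially on `P` modulo the Frattini subgroup
  obtain ⟨Y, hY⟩ : ∃ Y : Subgroup G, Y = (Subgroup.centralizer
      ((P.map (QuotientGroup.mk' (frattini G)) : Subgroup (G ⧸ frattini G)) :
        Set (G ⧸ frattini G))).comap (QuotientGroup.mk' (frattini G)) := ⟨_, rfl⟩
  haveI hYn : Y.Normal := by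
    rw [hY]
    haveI : (P.map (QuotientGroup.mk' (frattini G))).Normal :=
      Subgroup.Normal.map hPn _ (QuotientGroup.mk'_surjective _)
    exact Subgroup.Normal.comap Subgroup.normal_centralizer _
  have hYmem : ∀ y : G, y ∈ Y ↔ ∀ x ∈ P, y * x * y⁻¹ * x⁻¹ ∈ frattini G := by
    intro y
    rw [hY, Subgroup.mem_comap, Subgroup.mem_centralizer_iff]
    constructor
    · intro hy x hx
      have h1 := hy _ (Subgroup.mem_map_of_mem (QuotientGroup.mk' (frattini G)) hx)
      have h2 : QuotientGroup.mk' (frattini G) (y * x * y⁻¹ * x⁻¹) = 1 := by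
        rw [map_mul, map_mul, map_mul, map_inv, map_inv, ← h1]; group
      exact (QuotientGroup.eq_one_iff _).1 h2
    · intro hy z hz
      obtain ⟨x, hx, rfl⟩ := hz
      have h1 : QuotientGroup.mk' (frattini G) (y * x * y⁻¹ * x⁻¹) = 1 :=
        (QuotientGroup.eq_one_iff _).2 (hy x hx)
      rw [map_mul, map_mul, map_mul, map_inv, map_inv] at h1
      calc QuotientGroup.mk' (frattini G) x * QuotientGroup.mk' (frattini G) y
          = (QuotientGroup.mk' (frattini G) y * QuotientGroup.mk' (frattini G) x *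
              (QuotientGroup.mk' (frattini G) y)⁻¹ * (QuotientGroup.mk' (frattini G) x)⁻¹)⁻¹ *
              (QuotientGroup.mk' (frattini G) y * QuotientGroup.mk' (frattini G) x) := by group
        _ = QuotientGroup.mk' (frattini G) y * QuotientGroup.mk' (frattini G) x := by
            rw [h1]; simp
  have hA₀ : A ⊓ Y = ⊥ := by
    apply hall_trivial P hPp A hdec hAcard hcore (A ⊓ Y) inf_le_left
    · intro a ha a' ha'
      exact Subgroup.mem_inf.2 ⟨A.mul_mem (A.mul_mem ha (Subgroup.mem_inf.1 ha').1) (A.inv_mem ha),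
        hYn.conj_mem a' (Subgroup.mem_inf.1 ha').2 a⟩
    · intro a' ha' x hx
      exact (hYmem a').1 (Subgroup.mem_inf.1 ha').2 x hx
  have hAab : ∀ a ∈ A, ∀ b ∈ A, a * b = b * a := by
    intro a ha b hb
    have h1 : ⁅a, b⁆ ∈ A ⊓ Y := by
      refine Subgroup.mem_inf.2 ⟨?_, ?_⟩
      · rw [commutatorElement_def]
        exact A.mul_mem (A.mul_mem (A.mul_mem ha hb) (A.inv_mem ha)) (A.inv_mem hb)
      · rw [hYmem]
        exact comm_mem_frattini h P hPp _ (Or.inr ⟨a, b, rfl⟩)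
    rw [hA₀, Subgroup.mem_bot, commutatorElement_eq_one_iff_mul_comm] at h1
    exact h1
  have hAexp : ∀ a ∈ A, a ^ (p - 1) = 1 := by
    intro a ha
    have h1 : a ^ (p - 1) ∈ A ⊓ Y := by
      refine Subgroup.mem_inf.2 ⟨A.pow_mem ha _, ?_⟩
      rw [hYmem]
      exact comm_mem_frattini h P hPp _ (Or.inl ⟨a, rfl⟩)
    rwa [hA₀, Subgroup.mem_bot] at h1
  -- `P` centralizes `N`
  have hPN : P ≤ Subgroup.centralizer (N : Set G) :=
    nilpotent_normal_le_centralizer_minimal_normal N P hPp.isNilpotent hN1 hNmin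
  have hPNc : ∀ x ∈ P, ∀ w ∈ N, x * w * x⁻¹ = w := by
    intro x hx w hw
    have h1 : w * x = x * w := Subgroup.mem_centralizer_iff.1 (hPN hx) w hw
    rw [← h1]; group
  -- every element of `A` acts on `N` as a power map
  have hpow : ∀ a ∈ A, ∃ r : ℕ, ∀ w ∈ N, a * w * a⁻¹ = w ^ r := by
    intro a ha
    obtain ⟨r, v', hv'N, hv'1, hav'⟩ := exists_eigen_conj N hN1 hNab hexp a (by
      intro x _
      rw [hAexp a ha, one_mul, mul_one])
    refine ⟨r, ?_⟩
    let E : Subgroup G :=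
      { carrier := {w | w ∈ N ∧ a * w * a⁻¹ = w ^ r}
        one_mem' := ⟨N.one_mem, by simp⟩
        mul_mem' := by
          rintro w₁ w₂ ⟨h₁, e₁⟩ ⟨h₂, e₂⟩
          refine ⟨N.mul_mem h₁ h₂, ?_⟩
          have hc : Commute w₁ w₂ := hNab w₁ h₁ w₂ h₂
          rw [hc.mul_pow, ← e₁, ← e₂]; group
        inv_mem' := by
          rintro w ⟨h₁, e₁⟩
          refine ⟨N.inv_mem h₁, ?_⟩
          rw [inv_pow, ← e₁]; group }
    have hEN : E ≤ N := fun w hw => hw.1
    have hEn : E.Normal := by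
      constructor
      intro w hw g
      obtain ⟨b, hb, x, hx, rfl⟩ := hdec g
      have hwN : w ∈ N := hw.1
      have h1 : b * x * w * (b * x)⁻¹ = b * w * b⁻¹ := by
        have := hPNc x hx w hwN
        calc b * x * w * (b * x)⁻¹ = b * (x * w * x⁻¹) * b⁻¹ := by group
          _ = b * w * b⁻¹ := by rw [this]
      rw [h1]
      refine ⟨hNn.conj_mem w hwN b, ?_⟩
      have hab := hAab a ha b hb
      calc a * (b * w * b⁻¹) * a⁻¹ = (a * b) * w * (a * b)⁻¹ := by group
        _ = (b * a) * w * (b * a)⁻¹ := by rw [hab]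
        _ = b * (a * w * a⁻¹) * b⁻¹ := by group
        _ = b * w ^ r * b⁻¹ := by rw [hw.2]
        _ = (b * w * b⁻¹) ^ r := (conj_pow).symm
    have hE1 : E ≠ ⊥ := by
      intro hE
      have : v' ∈ E := ⟨hv'N, hav'⟩
      rw [hE, Subgroup.mem_bot] at this
      exact hv'1 this
    have hEeq : E = N := (hNmin E hEn hEN).resolve_left hE1
    intro w hw
    have : w ∈ E := hEeq ▸ hw
    exact this.2
  -- `zpowers v` is normal
  apply hcyc v hv1
  constructor
  intro z hz g
  obtain ⟨b, hb, x, hx, rfl⟩ := hdec g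
  have hzN : z ∈ N := (Subgroup.zpowers_le.2 hvN) hz
  obtain ⟨r, hr⟩ := hpow b hb
  have h1 : b * x * z * (b * x)⁻¹ = z ^ r := by
    have := hPNc x hx z hzN
    calc b * x * z * (b * x)⁻¹ = b * (x * z * x⁻¹) * b⁻¹ := by group
      _ = b * z * b⁻¹ := by rw [this]
      _ = z ^ r := hr z hzN
  rw [h1]
  exact Subgroup.pow_mem _ hz r

/-- Huppert's supersolvability criterion: if every maximal subgroup of a finite group has prime index, then the group is supersolvable. -/
theorem result {G : Type*} [Group G] [Finite G] (h : ∀ M : Subgroup G, IsCoatom M → M.index.Prime) : Cfsg.IsSupersolvable G := by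
  exact aux _ G rfl h

end Cfsg.Agent.S0579
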