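import Cfsg.Statements.S0533
import Mathlib
import Cfsg.Agent.S0527
import Cfsg.Agent.S0532
import Cfsg.Agent.S0579
import Cfsg.Agent.Lib.Helper2.Coatom
import Cfsg.Agent.Lib.Helper2.MaxPrimeIndex
import Cfsg.Agent.Lib.Helper2.Supersolvable5
import Cfsg.Agent.Lib.Helper2.Index
import Cfsg.Agent.Lib.Helper2.Conj
import Cfsg.Agent.Lib.Helper2.FrattiniTriv
import Cfsg.Agent.Lib.Helper4.Hall
import Cfsg.Agent.Lib.Helper4.CoprimeAct

set_option autoImplicit false
open Cfsg

namespace Cfsg.Agent.S0533
open Cfsg.Agent.Lib.Helper2 Cfsg.Agent.Lib.Helper4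
open scoped Pointwise commutatorElement
set_option linter.style.haveILetI false
set_option linter.deprecated false
set_option linter.unusedVariables false

universe u

/-- A subgroup normalized elementwise (one direction) by a subgroup is normalized by it. -/
theorem le_normalizer_of_conj_mem {G : Type u} [Group G] (K X : Subgroup G)
    (h : ∀ k ∈ K, ∀ y ∈ X, k * y * k⁻¹ ∈ X) : K ≤ Subgroup.normalizer (X : Set G) := by
  intro k hk
  rw [Subgroup.mem_normalizer_iff]
  intro y
  constructor
  · exact h k hk y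
  · intro hy
    have h1 := h k⁻¹ (K.inv_mem hk) _ hy
    have h2 : k⁻¹ * (k * y * k⁻¹) * k⁻¹⁻¹ = y := by group
    rwa [h2] at h1

theorem index_prime_of_not_le {G : Type u} [Group G] [Finite G] {p : ℕ} [hp : Fact p.Prime]
    (P : Subgroup G) [hPn : P.Normal] (hP : IsPGroup p P) (hPidx : ¬ p ∣ P.index)
    (hprop : ∀ S : Subgroup G, S ≠ ⊤ → Cfsg.IsSupersolvable S)
    (L : Subgroup G) (hL : Nat.card L * p = Nat.card G)
    (M : Subgroup G) (hM : IsCoatom M) (hPM : ¬ P ≤ M) : M.index.Prime := by
  have hpp := hp.out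
  have hsup : M ⊔ P = ⊤ := by
    apply hM.2
    apply lt_of_le_of_ne le_sup_left
    intro h
    apply hPM
    rw [h]; exact le_sup_right
  obtain ⟨T, hT⟩ : ∃ T : Subgroup G, T = P ⊓ M := ⟨_, rfl⟩
  have hTP : T ≤ P := hT ▸ inf_le_left
  have hTM : T ≤ M := hT ▸ inf_le_right
  have htopP : ∀ K : Subgroup G, K ≤ Subgroup.normalizer (P : Set G) := by
    intro K; rw [Subgroup.normalizer_eq_top]; exact le_top
  have hrel : T.relIndex P = M.index := by
    rw [hT, Subgroup.inf_relIndex_left]
    have h1 := relIndex_sup_of_le_normalizer M P (htopP M)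
    rw [hsup, Subgroup.relIndex_top_right] at h1
    exact h1.symm
  rw [← hrel]
  obtain ⟨n, hn⟩ := (IsPGroup.iff_card).1 hP
  have hTne : ¬ P ≤ T := fun h => hPM (h.trans hTM)
  have hrel1 : T.relIndex P ≠ 1 := fun h => hTne (Subgroup.relIndex_eq_one.1 h)
  have hn0 : n ≠ 0 := by
    intro h0
    rw [h0, pow_zero] at hn
    apply hPM
    rw [Subgroup.card_eq_one.1 hn]; exact bot_le
  -- the subgroup `D = L ⊓ P`
  have hLidx : L.index = p := by
    have h1 := L.card_mul_index
    rw [← hL] at h1
    exact Nat.eq_of_mul_eq_mul_left Nat.card_pos h1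
  obtain ⟨D, hD⟩ : ∃ D : Subgroup G, D = L ⊓ P := ⟨_, rfl⟩
  have hDL : D ≤ L := hD ▸ inf_le_left
  have hDP : D ≤ P := hD ▸ inf_le_right
  have hLrel : L.relIndex (L ⊔ P) = D.relIndex P := by
    rw [relIndex_sup_of_le_normalizer L P (htopP L), hD, Subgroup.inf_relIndex_right]
  have hLP := Subgroup.relIndex_mul_index (le_sup_left : L ≤ L ⊔ P)
  rw [hLidx, hLrel] at hLP
  have hDne1 : D.relIndex P ≠ 1 := by
    intro h1
    have hPL : P ≤ L := (Subgroup.relIndex_eq_one.1 h1).trans hDL
    have h2 : Nat.card P ∣ Nat.card L := Subgroup.card_dvd_of_le hPL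
    have h3 := P.card_mul_index
    rw [← hL] at h3
    obtain ⟨c, hc⟩ := h2
    rw [hc] at h3
    have h4 : P.index = c * p := by
      have : Nat.card P * P.index = Nat.card P * (c * p) := by rw [h3]; ring
      exact Nat.eq_of_mul_eq_mul_left Nat.card_pos this
    exact hPidx ⟨c, by rw [h4]; ring⟩
  have hDrel : D.relIndex P = p := by
    rcases (Nat.dvd_prime hpp).1 (Dvd.intro _ hLP) with h | h
    · exact absurd h hDne1
    · exact h
  have hLPtop : L ⊔ P = ⊤ := by
    rw [hDrel] at hLP
    have h1 : (L ⊔ P).index = 1 := by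
      have : p * (L ⊔ P).index = p * 1 := by rw [hLP, mul_one]
      exact Nat.eq_of_mul_eq_mul_left hpp.pos this
    exact Subgroup.index_eq_one.1 h1
  have hPminFac : (Nat.card P).minFac = p := by rw [hn, Nat.Prime.pow_minFac hpp hn0]
  have hDn : D.Normal := by
    have h1 : L ≤ Subgroup.normalizer (D : Set G) := by
      apply le_normalizer_of_conj_mem
      intro l hl y hy
      rw [hD] at hy ⊢
      exact Subgroup.mem_inf.2 ⟨L.mul_mem (L.mul_mem hl (Subgroup.mem_inf.1 hy).1) (L.inv_mem hl),
        hPn.conj_mem y (Subgroup.mem_inf.1 hy).2 l⟩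
    have h2 : P ≤ Subgroup.normalizer (D : Set G) := by
      apply le_normalizer_of_subgroupOf_normal hDP
      apply Subgroup.normal_of_index_eq_minFac_card
      rw [hPminFac]
      exact hDrel
    rw [← Subgroup.normalizer_eq_top_iff, eq_top_iff, ← hLPtop]
    exact sup_le h1 h2
  -- `T` is normal
  have hMT : M ≤ Subgroup.normalizer (T : Set G) := by
    apply le_normalizer_of_conj_mem
    intro m hm y hy
    rw [hT] at hy ⊢
    exact Subgroup.mem_inf.2 ⟨hPn.conj_mem y (Subgroup.mem_inf.1 hy).1 m,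
      M.mul_mem (M.mul_mem hm (Subgroup.mem_inf.1 hy).2) (M.inv_mem hm)⟩
  have hTn : T.Normal := by
    haveI : Group.IsNilpotent P := hP.isNilpotent
    have hnc : NormalizerCondition P := Group.normalizerCondition_of_isNilpotent
    have hlt : T.subgroupOf P < ⊤ := by
      rw [lt_top_iff_ne_top]
      intro h
      exact hTne (Subgroup.subgroupOf_eq_top.1 h)
    have h1 := hnc _ hlt
    rw [← Subgroup.subgroupOf_normalizer_eq hTP] at h1
    obtain ⟨x, hxN, hxT⟩ := SetLike.exists_of_lt h1
    have hxN' : (x : G) ∈ Subgroup.normalizer (T : Set G) := Subgroup.mem_subgroupOf.1 hxN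
    have hxT' : (x : G) ∉ T := fun h => hxT (Subgroup.mem_subgroupOf.2 h)
    have hxM : (x : G) ∉ M := fun h => hxT' (hT ▸ Subgroup.mem_inf.2 ⟨x.2, h⟩)
    have h2 : Subgroup.normalizer (T : Set G) = ⊤ := by
      apply hM.2
      apply lt_of_le_of_ne hMT
      intro h
      exact hxM (h ▸ hxN')
    exact Subgroup.normalizer_eq_top_iff.1 h2
  -- `P / T` is a chief factor
  have hchief : ∀ R : Subgroup G, R.Normal → T ≤ R → R ≤ P → R = T ∨ R = P := by
    intro R hRn hTR hRP
    by_cases hRM : R ≤ M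
    · left
      exact le_antisymm (hT ▸ le_inf hRP hRM) hTR
    · right
      have hsupR : M ⊔ R = ⊤ := by
        apply hM.2
        apply lt_of_le_of_ne le_sup_left
        intro h
        apply hRM
        rw [h]; exact le_sup_right
      have h1 := relIndex_sup_of_le_normalizer M R
        (by rw [Subgroup.normalizer_eq_top]; exact le_top)
      rw [hsupR, Subgroup.relIndex_top_right, ← Subgroup.inf_relIndex_right] at h1
      have h2 : M ⊓ R = T := by
        apply le_antisymm
        · rw [hT]; exact le_inf (inf_le_right.trans hRP) inf_le_left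
        · exact le_inf hTM hTR
      rw [h2, ← hrel] at h1
      have h3 := Subgroup.relIndex_mul_relIndex T R P hTR hRP
      rw [h1] at h3
      have h4 : R.relIndex P = 1 := by
        have hpos : 0 < T.relIndex R := by
          rw [← h1]
          exact Nat.pos_of_ne_zero (Subgroup.index_ne_zero_of_finite : (T.subgroupOf P).index ≠ 0)
        have : T.relIndex R * R.relIndex P = T.relIndex R * 1 := by rw [h3, mul_one]
        exact Nat.eq_of_mul_eq_mul_left hpos this
      exact le_antisymm hRP (Subgroup.relIndex_eq_one.1 h4)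
  by_cases hTD : T ≤ D
  · rcases hchief D hDn hTD hDP with h | h
    · rw [← h, hDrel]; exact hpp
    · exfalso
      rw [h, Subgroup.relIndex_self] at hDrel
      exact hpp.one_lt.ne hDrel
  by_cases hDT : D ≤ T
  · have h1 := Subgroup.relIndex_mul_relIndex D T P hDT hTP
    rw [hDrel] at h1
    rcases (Nat.dvd_prime hpp).1 (Dvd.intro_left _ h1) with h | h
    · exact absurd h hrel1
    · rw [h]; exact hpp
  -- the main case
  have hcomm : ⁅P, P⁆ ≤ T := by
    haveI : (⁅P, P⁆).Normal := Subgroup.commutator_normal P P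
    have hR : (⁅P, P⁆ ⊔ T).Normal := inferInstance
    rcases hchief (⁅P, P⁆ ⊔ T) hR le_sup_right
      (sup_le (Subgroup.commutator_le_left P P) hTP) with h | h
    · rw [← h]; exact le_sup_left
    · exfalso
      haveI : Group.IsNilpotent P := hP.isNilpotent
      have h1 : T.subgroupOf P ⊔ commutator P = ⊤ := by
        apply Subgroup.map_injective P.subtype_injective
        rw [Subgroup.map_sup, Subgroup.map_subtype_commutator, Subgroup.subgroupOf_map_subtype,
          inf_of_le_left hTP, sup_comm, h, ← MonoidHom.range_eq_map, Subgroup.range_subtype]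
      have h2 := eq_top_of_sup_commutator_eq_top (T.subgroupOf P) h1
      exact hTne (Subgroup.subgroupOf_eq_top.1 h2)
  obtain ⟨S, hS⟩ : ∃ S : Subgroup G, S = D ⊓ T := ⟨_, rfl⟩
  have hSD : S ≤ D := hS ▸ inf_le_left
  have hST : S ≤ T := hS ▸ inf_le_right
  have hSL : S ≤ L := hSD.trans hDL
  haveI hSn : S.Normal := by rw [hS]; infer_instance
  have hLtop : L ≠ ⊤ := by
    intro h
    rw [h, Subgroup.index_top] at hLidx
    exact hpp.one_lt.ne hLidx
  have hLss : Cfsg.IsSupersolvable L := hprop L hLtop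
  haveI hS'n : (S.subgroupOf L).Normal := hSn.subgroupOf L
  have hQss : Cfsg.IsSupersolvable (L ⧸ S.subgroupOf L) := isSupersolvable_quotient hLss _
  haveI hD'n : (D.subgroupOf L).Normal := hDn.subgroupOf L
  have hπ : Function.Surjective (QuotientGroup.mk' (S.subgroupOf L)) :=
    QuotientGroup.mk'_surjective _
  haveI hDbarn : ((D.subgroupOf L).map (QuotientGroup.mk' (S.subgroupOf L))).Normal :=
    Subgroup.Normal.map hD'n _ hπ
  have hDbar1 : (D.subgroupOf L).map (QuotientGroup.mk' (S.subgroupOf L)) ≠ ⊥ := by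
    intro h
    rw [Subgroup.map_eq_bot_iff, QuotientGroup.ker_mk'] at h
    apply hDT
    intro y hy
    have hyL : y ∈ L := hDL hy
    have h1 : (⟨y, hyL⟩ : L) ∈ S.subgroupOf L := h (Subgroup.mem_subgroupOf.2 hy)
    exact hST (Subgroup.mem_subgroupOf.1 h1)
  obtain ⟨Nb, hNbD, hNbn, hNbp⟩ := exists_normal_prime_le_of_isSupersolvable hQss _ hDbar1
  obtain ⟨X', hX'⟩ : ∃ X' : Subgroup L, X' = Nb.comap (QuotientGroup.mk' (S.subgroupOf L)) :=
    ⟨_, rfl⟩
  haveI hX'n : X'.Normal := hX' ▸ hNbn.comap _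
  have hSX' : S.subgroupOf L ≤ X' := by
    rw [hX']
    intro y hy
    rw [Subgroup.mem_comap]
    have : QuotientGroup.mk' (S.subgroupOf L) y = 1 := (QuotientGroup.eq_one_iff y).2 hy
    rw [this]; exact Nb.one_mem
  have hX'D : X' ≤ D.subgroupOf L := by
    rw [hX']
    have h1 := Subgroup.comap_mono (f := QuotientGroup.mk' (S.subgroupOf L)) hNbD
    rw [Subgroup.comap_map_eq, QuotientGroup.ker_mk'] at h1
    refine h1.trans (sup_le le_rfl ?_)
    intro y hy
    exact Subgroup.mem_subgroupOf.2 (hSD (Subgroup.mem_subgroupOf.1 hy))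
  have hX'card : Nat.card X' = Nat.card Nb * Nat.card S := by
    rw [hX', card_comap_mk_quot, card_subgroupOf_of_le hSL]
  obtain ⟨X, hX⟩ : ∃ X : Subgroup G, X = X'.map L.subtype := ⟨_, rfl⟩
  have hXL : X ≤ L := hX ▸ Subgroup.map_subtype_le X'
  have hXcard : Nat.card X = Nat.card Nb * Nat.card S := by
    rw [hX, Subgroup.card_map_of_injective L.subtype_injective, hX'card]
  have hSX : S ≤ X := by
    intro y hy
    rw [hX]
    exact ⟨⟨y, hSL hy⟩, hSX' (Subgroup.mem_subgroupOf.2 hy), rfl⟩
  have hXD : X ≤ D := by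
    rw [hX]
    rintro _ ⟨y, hy, rfl⟩
    exact Subgroup.mem_subgroupOf.1 (hX'D hy)
  have hXsub : X.subgroupOf L = X' := by
    rw [hX, Subgroup.subgroupOf]
    exact Subgroup.comap_map_eq_self_of_injective L.subtype_injective X'
  have hLX : L ≤ Subgroup.normalizer (X : Set G) :=
    le_normalizer_of_subgroupOf_normal hXL (hXsub ▸ hX'n)
  have hPX : P ≤ Subgroup.normalizer (X : Set G) := by
    apply le_normalizer_of_conj_mem
    intro x hx y hy
    have hyP : y ∈ P := hDP (hXD hy)
    have h1 : x * y * x⁻¹ * y⁻¹ ∈ S := by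
      rw [hS]
      refine Subgroup.mem_inf.2 ⟨?_, ?_⟩
      · exact D.mul_mem (hDn.conj_mem y (hXD hy) x) (D.inv_mem (hXD hy))
      · apply hcomm
        have := Subgroup.commutator_mem_commutator hx hyP
        rwa [commutatorElement_def] at this
    have h2 : x * y * x⁻¹ = (x * y * x⁻¹ * y⁻¹) * y := by group
    rw [h2]
    exact X.mul_mem (hSX h1) hy
  haveI hXn : X.Normal := by
    rw [← Subgroup.normalizer_eq_top_iff, eq_top_iff, ← hLPtop]
    exact sup_le hLX hPX
  have hNb2 : 2 ≤ Nat.card Nb := hNbp.two_le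
  have hXT : ¬ X ≤ T := by
    intro h
    have h1 : X ≤ S := hS ▸ le_inf hXD h
    have h2 := Nat.le_of_dvd Nat.card_pos (Subgroup.card_dvd_of_le h1)
    rw [hXcard] at h2
    have h3 : 0 < Nat.card S := Nat.card_pos
    nlinarith
  have hR : (X ⊔ T).Normal := inferInstance
  rcases hchief (X ⊔ T) hR le_sup_right (sup_le (hXD.trans hDP) hTP) with h | h
  · exfalso
    apply hXT
    rw [← h]; exact le_sup_left
  · have h1 := relIndex_sup_of_le_normalizer T X
      (by rw [Subgroup.normalizer_eq_top]; exact le_top)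
    rw [sup_comm, h] at h1
    have h1' : T.relIndex X = (T ⊓ X).relIndex X := (Subgroup.inf_relIndex_right T X).symm
    rw [h1'] at h1
    have h2 : T ⊓ X = S := by
      apply le_antisymm
      · rw [hS]; exact le_inf (inf_le_right.trans hXD) inf_le_left
      · exact le_inf hST hSX
    rw [h2] at h1
    have h3 : S.relIndex X = Nat.card Nb := by
      have h4 := Subgroup.relIndex_mul_relIndex ⊥ S X bot_le hSX
      rw [Subgroup.relIndex_bot_left, Subgroup.relIndex_bot_left, hXcard] at h4
      have hpos : 0 < Nat.card S := Nat.card_pos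
      have : Nat.card S * S.relIndex X = Nat.card S * Nat.card Nb := by rw [h4]; ring
      exact Nat.eq_of_mul_eq_mul_left hpos this
    rw [h1, h3]
    exact hNbp

theorem hyp_subgroup {G : Type u} [Group G]
    (h : ∀ H : Subgroup G, Cfsg.HasSubgroupOfEveryOrder H) (S : Subgroup G) :
    ∀ H' : Subgroup S, Cfsg.HasSubgroupOfEveryOrder H' := by
  intro H'
  have h1 := h (H'.map S.subtype)
  exact Cfsg.Agent.S0532.hasSubgroupOfEveryOrder_of_mulEquiv
    (H'.equivMapOfInjective S.subtype S.subtype_injective).symm h1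

theorem aux : ∀ (n : ℕ) (G : Type u) [Group G] [Finite G], Nat.card G = n →
    (∀ H : Subgroup G, Cfsg.HasSubgroupOfEveryOrder H) → Cfsg.IsSupersolvable G := by
  intro n
  induction n using Nat.strong_induction_on with
  | _ n ih =>
  intro G _ _ hn h
  by_cases hsub : Subsingleton G
  · exact isSupersolvable_of_subsingleton
  haveI : Nontrivial G := not_subsingleton_iff_nontrivial.1 hsub
  have hprop : ∀ S : Subgroup G, S ≠ ⊤ → Cfsg.IsSupersolvable S := by
    intro S hS
    exact ih _ (hn ▸ card_lt_of_ne_top S hS) S rfl (hyp_subgroup h S)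
  obtain ⟨p, hp, hpd, hpmax⟩ := exists_largest_prime_dvd (Nat.card G) one_lt_card_of_nontrivial
  haveI : Fact p.Prime := ⟨hp⟩
  obtain ⟨Q⟩ : Nonempty (Sylow p G) := inferInstance
  have hQn : (Q : Subgroup G).Normal := Cfsg.Agent.S0532.result h p hpd hpmax Q
  obtain ⟨P, hPdef⟩ : ∃ P : Subgroup G, P = (Q : Subgroup G) := ⟨_, rfl⟩
  haveI hPn : P.Normal := hPdef ▸ hQn
  have hPp : IsPGroup p P := by rw [hPdef]; exact Q.isPGroup'
  have hPidx : ¬ p ∣ P.index := by rw [hPdef]; exact Q.not_dvd_index
  -- the whole group has subgroups of all orders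
  have hG : Cfsg.HasSubgroupOfEveryOrder G :=
    Cfsg.Agent.S0532.hasSubgroupOfEveryOrder_of_mulEquiv Subgroup.topEquiv (h ⊤)
  -- `P ≠ ⊥`
  have hP1 : P ≠ ⊥ := by
    intro hP
    have h1 := Q.card_eq_multiplicity
    rw [← hPdef, hP, Subgroup.card_bot] at h1
    have h2 : (Nat.card G).factorization p ≠ 0 :=
      (hp.factorization_pos_of_dvd Nat.card_pos.ne' hpd).ne'
    have := Nat.one_lt_pow h2 hp.one_lt
    omega
  -- a complement `K` of `P`
  obtain ⟨K, hK⟩ := hG P.index (Subgroup.index_dvd_card P)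
  have hKtop : K ≠ ⊤ := by
    intro hKt
    rw [hKt, Subgroup.card_top] at hK
    have h1 := P.card_mul_index
    rw [← hK] at h1
    have h2 : Nat.card P = 1 := by
      have : Nat.card P * Nat.card G = 1 * Nat.card G := by rw [h1, one_mul]
      exact Nat.eq_of_mul_eq_mul_right Nat.card_pos this
    exact hP1 (Subgroup.card_eq_one.1 h2)
  have hKss : Cfsg.IsSupersolvable K := hprop K hKtop
  have hKP : K ⊔ P = ⊤ := by
    have hinf : K ⊓ P = ⊥ := by
      apply Subgroup.inf_eq_bot_of_coprime
      rw [hK]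
      obtain ⟨k, hk⟩ := (IsPGroup.iff_card).1 hPp
      rw [hk]
      exact Nat.Coprime.pow_right k ((Nat.Prime.coprime_iff_not_dvd hp).2 hPidx).symm
    have h1 := card_sup_mul_card_inf K P (by rw [Subgroup.normalizer_eq_top]; exact le_top)
    rw [hinf, Subgroup.card_bot, mul_one, hK, mul_comm, P.card_mul_index] at h1
    exact (Subgroup.card_eq_iff_eq_top _).1 h1
  have hquot : Cfsg.IsSupersolvable (G ⧸ P) := by
    apply isSupersolvable_of_surjective ((QuotientGroup.mk' P).comp K.subtype) _ hKss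
    intro y
    obtain ⟨g, rfl⟩ := QuotientGroup.mk'_surjective P y
    have hg : g ∈ K ⊔ P := hKP ▸ Subgroup.mem_top g
    obtain ⟨k, hk, x, hx, rfl⟩ := exists_mul_of_mem_sup_of_le_normalizer
      (by rw [Subgroup.normalizer_eq_top]; exact le_top : K ≤ Subgroup.normalizer (P : Set G)) hg
    refine ⟨⟨k, hk⟩, ?_⟩
    show QuotientGroup.mk' P k = QuotientGroup.mk' P (k * x)
    have hx1 : QuotientGroup.mk' P x = 1 := (QuotientGroup.eq_one_iff x).2 hx
    rw [map_mul, hx1, mul_one]
  -- a subgroup of index `p`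
  obtain ⟨c, hc⟩ := hpd
  obtain ⟨L, hL⟩ := hG c ⟨p, by rw [hc]; ring⟩
  have hL' : Nat.card L * p = Nat.card G := by rw [hL, hc]; ring
  apply Cfsg.Agent.S0579.result
  intro M hM
  by_cases hPM : P ≤ M
  · have h1 : (M.map (QuotientGroup.mk' P)).index = M.index :=
      Subgroup.index_map_eq M (QuotientGroup.mk'_surjective P)
        (by rw [QuotientGroup.ker_mk']; exact hPM)
    rw [← h1]
    exact Cfsg.Agent.S0527.result hquot _ (isCoatom_map_mk' P hM hPM)
  · exact index_prime_of_not_le P hPp hPidx hprop L hL' M hM hPM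

/-- If every subgroup of a finite group has subgroups of all orders dividing its order, then the group is supersolvable. -/
theorem result {G : Type*} [Group G] [Finite G] (h : ∀ H : Subgroup G, Cfsg.HasSubgroupOfEveryOrder H) : Cfsg.IsSupersolvable G := by
  exact aux _ G rfl h

end Cfsg.Agent.S0533
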