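import Cfsg.Statements.S0534
import Mathlib
import Cfsg.Agent.S0531
import Cfsg.Agent.Lib.Helper2.Supersolvable5
import Cfsg.Agent.Lib.Helper4.Hall
-- import your own Cfsg.Agent.* helpers here

set_option autoImplicit false
open Cfsg

namespace Cfsg.Agent.S0534

universe u

theorem ss_of_comm_aux (n : ℕ) : ∀ (A : Type u) [CommGroup A] [Finite A], Nat.card A = n →
    Cfsg.IsSupersolvable A := by
  induction n using Nat.strong_induction_on with
  | _ n ih =>
    intro A _ _ hn
    rcases subsingleton_or_nontrivial A with hsub | hnt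
    · exact Lib.Helper2.isSupersolvable_of_subsingleton
    · obtain ⟨c, hc⟩ := exists_ne (1 : A)
      have hne : Subgroup.zpowers c ≠ ⊥ := by
        intro h
        rw [Subgroup.zpowers_eq_bot] at h
        exact hc h
      have hlt := Lib.Helper2.card_quotient_lt_of_ne_bot (Subgroup.zpowers c) hne
      rw [hn] at hlt
      have := ih _ hlt (A ⧸ Subgroup.zpowers c) rfl
      exact Lib.Helper2.isSupersolvable_of_quotient_zpowers c this

theorem arith (N a d : ℕ) (hN : N ≠ 0) (ha : a ≠ 0) (hd : d ∣ N * a)
    (hexp : ∀ p : ℕ, p.Prime → p ∣ N → a.factorization p + 1 = N.factorization p) :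
    ∃ m : ℕ, m ∣ N ∧ m.Coprime (N / m) ∧ m ∣ d ∧ d / m ∣ a := by
  classical
  have hd0 : d ≠ 0 := by
    rintro rfl
    rw [zero_dvd_iff] at hd
    exact (mul_ne_zero hN ha) hd
  obtain ⟨g, hg⟩ : ∃ g : ℕ →₀ ℕ, g = N.factorization.filter
      (fun p => N.factorization p ≤ d.factorization p) := ⟨_, rfl⟩
  have hgpos : ∀ p, N.factorization p ≤ d.factorization p → g p = N.factorization p := by
    intro p hp
    rw [hg]
    exact Finsupp.filter_apply_pos _ _ hp
  have hgneg : ∀ p, ¬ N.factorization p ≤ d.factorization p → g p = 0 := by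
    intro p hp
    rw [hg]
    exact Finsupp.filter_apply_neg _ _ hp
  have hgprime : ∀ p ∈ g.support, p.Prime := by
    intro p hp
    rw [Finsupp.mem_support_iff] at hp
    by_contra hnp
    apply hp
    by_cases h : N.factorization p ≤ d.factorization p
    · rw [hgpos p h, Nat.factorization_eq_zero_of_not_prime N hnp]
    · exact hgneg p h
  obtain ⟨m, hm⟩ : ∃ m, m = g.prod (· ^ ·) := ⟨_, rfl⟩
  have hmf : m.factorization = g := by
    rw [hm]; exact Nat.prod_pow_factorization_eq_self hgprime
  have hm0 : m ≠ 0 := by
    rw [hm, Finsupp.prod]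
    exact Finset.prod_ne_zero_iff.2 (fun p hp => pow_ne_zero _ (hgprime p hp).ne_zero)
  have hmpos : ∀ p, N.factorization p ≤ d.factorization p →
      m.factorization p = N.factorization p := by
    intro p hp; rw [hmf]; exact hgpos p hp
  have hmneg : ∀ p, ¬ N.factorization p ≤ d.factorization p → m.factorization p = 0 := by
    intro p hp; rw [hmf]; exact hgneg p hp
  have hmN : m ∣ N := by
    rw [← Nat.factorization_le_iff_dvd hm0 hN]
    intro p
    by_cases h : N.factorization p ≤ d.factorization p
    · rw [hmpos p h]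
    · rw [hmneg p h]; exact Nat.zero_le _
  have hmd : m ∣ d := by
    rw [← Nat.factorization_le_iff_dvd hm0 hd0]
    intro p
    by_cases h : N.factorization p ≤ d.factorization p
    · rw [hmpos p h]; exact h
    · rw [hmneg p h]; exact Nat.zero_le _
  have hNm0 : N / m ≠ 0 :=
    (Nat.div_pos (Nat.le_of_dvd (Nat.pos_of_ne_zero hN) hmN) (Nat.pos_of_ne_zero hm0)).ne'
  have hdm0 : d / m ≠ 0 :=
    (Nat.div_pos (Nat.le_of_dvd (Nat.pos_of_ne_zero hd0) hmd) (Nat.pos_of_ne_zero hm0)).ne'
  have hcop : m.Coprime (N / m) := by
    apply Nat.coprime_of_dvd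
    intro p hp hpm hpNm
    have h1 : 0 < m.factorization p := hp.factorization_pos_of_dvd hm0 hpm
    have h2 : 0 < (N / m).factorization p := hp.factorization_pos_of_dvd hNm0 hpNm
    rw [Nat.factorization_div hmN, Finsupp.tsub_apply] at h2
    by_cases h : N.factorization p ≤ d.factorization p
    · rw [hmpos p h] at h2
      omega
    · rw [hmneg p h] at h1
      omega
  have hdma : d / m ∣ a := by
    rw [← Nat.factorization_le_iff_dvd hdm0 ha]
    intro p
    rw [Nat.factorization_div hmd, Finsupp.tsub_apply]
    have hdNa : d.factorization p ≤ N.factorization p + a.factorization p := by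
      have := (Nat.factorization_le_iff_dvd hd0 (mul_ne_zero hN ha)).2 hd p
      rw [Nat.factorization_mul hN ha, Finsupp.add_apply] at this
      exact this
    by_cases h : N.factorization p ≤ d.factorization p
    · rw [hmpos p h]
      omega
    · rw [hmneg p h]
      have hlt : d.factorization p < N.factorization p := not_le.1 h
      by_cases hp : p.Prime
      · by_cases hpN : p ∣ N
        · have := hexp p hp hpN
          omega
        · rw [Nat.factorization_eq_zero_of_not_dvd hpN] at hlt
          omega
      · rw [Nat.factorization_eq_zero_of_not_prime N hp] at hlt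
        omega
  exact ⟨m, hmN, hcop, hmd, hdma⟩

/-- Let G be a finite solvable group and A a finite abelian group such that every prime dividing the order of A divides the order of G and, for each prime p dividing the order of G, the exponent of p in the order of A is one less than its exponent in the order of G. Then G × A has a subgroup of every order dividing its order. -/
theorem result {G A : Type*} [Group G] [CommGroup A] [Finite G] [Finite A] [Group.IsSolvable G] (hA : ∀ p : ℕ, p.Prime → p ∣ Nat.card A → p ∣ Nat.card G) (hexp : ∀ p : ℕ, p.Prime → p ∣ Nat.card G → (Nat.card A).factorization p + 1 = (Nat.card G).factorization p) : Cfsg.HasSubgroupOfEveryOrder (G × A) := by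
  intro d hd
  rw [Nat.card_prod] at hd
  obtain ⟨m, hmN, hcop, hmd, hdma⟩ := arith (Nat.card G) (Nat.card A) d Nat.card_pos.ne'
    Nat.card_pos.ne' hd hexp
  obtain ⟨⟨G₁, hG₁⟩, -, -⟩ := Cfsg.Agent.Lib.Helper4.hall_all (Nat.card G) G rfl m
    (Nat.card G / m) (Nat.mul_div_cancel' hmN).symm hcop
  obtain ⟨A₁, hA₁⟩ := Cfsg.Agent.S0531.result (ss_of_comm_aux _ A rfl) (d / m) hdma
  refine ⟨G₁.prod A₁, ?_⟩
  rw [Nat.card_congr (Subgroup.prodEquiv G₁ A₁).toEquiv, Nat.card_prod, hG₁, hA₁]
  exact Nat.mul_div_cancel' hmd

end Cfsg.Agent.S0534
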