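import Mathlib
import Cfsg.Statements.S0535
import Cfsg.Agent.Lib.Helper4.HallConv

set_option autoImplicit false
open Cfsg

namespace Cfsg.Agent.S0535

universe u

/-- The hereditary hypothesis. -/
def Hyp (G : Type u) [Group G] : Prop :=
  ∀ H : Subgroup G, H ≠ ⊥ → ∀ p : ℕ, p.Prime → p ∣ Nat.card H →
    ∃ K : Subgroup H, K ≠ ⊤ ∧ ∃ k : ℕ, K.index = p ^ k

theorem hyp_sub {G : Type u} [Group G] [Finite G] (h : Hyp G) (M : Subgroup G) : Hyp M := by
  intro H hH p hp hdvd
  have e : H ≃* H.map M.subtype := H.equivMapOfInjective M.subtype M.subtype_injective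
  have hcard : Nat.card (H.map M.subtype) = Nat.card H := (Nat.card_congr e.toEquiv).symm
  have hne : H.map M.subtype ≠ ⊥ := by
    intro hb
    exact hH ((Subgroup.map_eq_bot_iff_of_injective H M.subtype_injective).1 hb)
  obtain ⟨K', hK', k, hk⟩ := h (H.map M.subtype) hne p hp (hcard ▸ hdvd)
  refine ⟨K'.comap e.toMonoidHom, ?_, k, ?_⟩
  · intro htop
    have h1 : (K'.comap e.toMonoidHom).index = 1 := by rw [htop]; exact Subgroup.index_top
    rw [Subgroup.index_comap_of_surjective K' e.surjective] at h1
    exact hK' (Subgroup.index_eq_one.1 h1)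
  · rw [Subgroup.index_comap_of_surjective K' e.surjective]; exact hk

theorem pcompl : ∀ (n : ℕ) (G : Type u) [Group G] [Finite G], Nat.card G = n → Hyp G →
    ∀ p : ℕ, p.Prime → ∃ H : Subgroup G, H.index = p ^ (Nat.card G).factorization p := by
  intro n
  induction n using Nat.strong_induction_on with
  | _ n ih =>
  intro G _ _ hn h p hp
  by_cases hdvd : p ∣ Nat.card G
  · have htop : (⊤ : Subgroup G) ≠ ⊥ := by
      intro hb
      have : Nat.card (⊤ : Subgroup G) = 1 := by rw [hb]; exact Subgroup.card_bot
      rw [Subgroup.card_top] at this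
      rw [this] at hdvd
      exact hp.one_lt.ne' (Nat.dvd_one.1 hdvd)
    obtain ⟨K, hK, k, hk⟩ := h ⊤ htop p hp (by rw [Subgroup.card_top]; exact hdvd)
    -- K : Subgroup (⊤ : Subgroup G)
    set K' : Subgroup G := K.map (⊤ : Subgroup G).subtype with hK'def
    have hidx : K'.index = p ^ k := by
      have h1 : K'.relIndex ⊤ = K.index := by
        rw [hK'def]
        have := Subgroup.relIndex_map_map_of_injective K ⊤ (f := (⊤ : Subgroup G).subtype)
          (Subgroup.subtype_injective _)
        rw [← Subgroup.relIndex_top_right K]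
        rw [← this]
        congr 1
        ext x; simp
      rw [Subgroup.relIndex_top_right] at h1
      rw [h1, hk]
    have hk1 : 1 ≤ k := by
      rcases Nat.eq_zero_or_pos k with h0 | h0
      · exfalso
        rw [h0, pow_zero] at hk
        exact hK (Subgroup.index_eq_one.1 hk)
      · exact h0
    have hcard : Nat.card G = p ^ k * Nat.card K' := by
      rw [← hidx, mul_comm]; exact (Subgroup.card_mul_index K').symm
    have hK'pos : 0 < Nat.card K' := Nat.card_pos
    have hlt : Nat.card K' < n := by
      rw [← hn, hcard]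
      have : 2 ≤ p ^ k := by
        calc 2 ≤ p := hp.two_le
          _ = p ^ 1 := (pow_one p).symm
          _ ≤ p ^ k := Nat.pow_le_pow_right hp.pos hk1
      nlinarith
    obtain ⟨L, hL⟩ := ih _ hlt K' rfl (hyp_sub h K') p hp
    refine ⟨L.map K'.subtype, ?_⟩
    have h2 : (L.map K'.subtype).index = L.index * K'.index := by
      have h3 : (L.map K'.subtype).relIndex K' = L.index := by
        have := Subgroup.relIndex_map_map_of_injective L ⊤ (f := K'.subtype)
          (Subgroup.subtype_injective _)
        rw [Subgroup.relIndex_top_right] at this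
        rw [← this]
        congr 1
        ext x; simp
      have hle : L.map K'.subtype ≤ K' := by
        intro x hx
        obtain ⟨y, _, rfl⟩ := Subgroup.mem_map.1 hx
        exact y.2
      rw [← h3]
      exact (Subgroup.relIndex_mul_index hle).symm
    rw [h2, hL, hidx, hcard]
    have hpk : (p ^ k).factorization p = k := by
      rw [Nat.Prime.factorization_pow hp]; simp
    rw [Nat.factorization_mul (pow_pos hp.pos k).ne' hK'pos.ne']
    simp only [Finsupp.coe_add, Pi.add_apply]
    rw [hpk, ← pow_add, add_comm]
  · refine ⟨⊤, ?_⟩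
    rw [Subgroup.index_top, Nat.factorization_eq_zero_of_not_dvd hdvd, pow_zero]

/-- Suppose that for every nontrivial subgroup H of a finite group and every prime p dividing the order of H there is a proper subgroup of H whose index in H is a power of p. Then the group is solvable. -/
theorem result {G : Type*} [Group G] [Finite G] (h : ∀ H : Subgroup G, H ≠ ⊥ → ∀ p : ℕ, p.Prime → p ∣ Nat.card H → ∃ K : Subgroup H, K ≠ ⊤ ∧ ∃ k : ℕ, K.index = p ^ k) : Group.IsSolvable G := by
  exact Cfsg.Agent.Lib.Helper4.hc_solvable _ G rfl (fun p hp => pcompl _ G rfl h p hp)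

end Cfsg.Agent.S0535
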