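import Cfsg.Statements.S0537
import Mathlib
import Cfsg.Agent.Lib.Helper2.MinNonNilp
import Cfsg.Agent.Lib.Helper2.CoprimeOmega

set_option autoImplicit false
open Cfsg

namespace Cfsg.Agent.S0537
set_option linter.style.haveILetI false
set_option linter.deprecated false

open Cfsg.Agent.Lib.Helper2

open scoped IsMulCommutative in
theorem nilpotent_of_comm {G : Type*} [Group G] (N : Subgroup G) (h : IsMulCommutative N) :
    Group.IsNilpotent N := by
  infer_instance

/-- A finite non-abelian group in which every proper subgroup is abelian is either of prime-power order, or is generated by a cyclic Sylow p-subgroup and a normal Sylow q-subgroup that is elementary abelian, for distinct primes p and q. -/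
theorem result {G : Type*} [Group G] [Finite G] (hna : ¬ IsMulCommutative G) (h : ∀ H : Subgroup G, H ≠ ⊤ → IsMulCommutative H) : (∃ p : ℕ, p.Prime ∧ IsPGroup p G) ∨ ∃ p q : ℕ, p.Prime ∧ q.Prime ∧ p ≠ q ∧ ∃ (P : Sylow p G) (Q : Sylow q G), IsCyclic P ∧ (Q : Subgroup G).Normal ∧ Cfsg.IsElementaryAbelian q (Q : Subgroup G) ∧ (P : Subgroup G) ⊔ Q = ⊤ := by
  classical
  by_cases hnil : Group.IsNilpotent G
  · left
    by_contra hcon
    apply hna
    have hS : ∀ (p : ℕ) [Fact p.Prime] (P : Sylow p G), IsMulCommutative P := by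
      intro p hp P
      apply h
      intro htop
      apply hcon
      refine ⟨p, hp.out, ?_⟩
      intro g
      obtain ⟨k, hk⟩ := P.isPGroup' ⟨g, htop ▸ Subgroup.mem_top g⟩
      exact ⟨k, by simpa using congrArg Subtype.val hk⟩
    obtain ⟨e⟩ := ((Group.isNilpotent_of_finite_tfae (G := G)).out 0 4).mp hnil
    refine ⟨⟨fun a b => ?_⟩⟩
    have h1 : e.symm a * e.symm b = e.symm b * e.symm a := by
      funext p P
      haveI : Fact (p : ℕ).Prime := ⟨Nat.prime_of_mem_primeFactors p.2⟩
      exact (hS p P).is_comm.comm _ _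
    calc a * b = e (e.symm a * e.symm b) := by simp
      _ = e (e.symm b * e.symm a) := by rw [h1]
      _ = b * a := by simp
  · right
    have hsub : ∀ H : Subgroup G, H ≠ ⊤ → Group.IsNilpotent H :=
      fun H hH => nilpotent_of_comm H (h H hH)
    obtain ⟨p, q, hp, hq, hpq, P, Q, hc, hQn, hPn, hPQ⟩ := minNonNilp_structure hnil hsub
    haveI := hQn
    have hQtop : (Q : Subgroup G) ≠ ⊤ := by
      intro htop
      apply hnil
      have hG : IsPGroup q G := by
        intro g
        obtain ⟨k, hk⟩ := Q.isPGroup' ⟨g, htop ▸ Subgroup.mem_top g⟩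
        exact ⟨k, by simpa using congrArg Subtype.val hk⟩
      exact hG.isNilpotent
    have hQc : IsMulCommutative (Q : Subgroup G) := h _ hQtop
    have hcomm : ∀ a ∈ (Q : Subgroup G), ∀ b ∈ (Q : Subgroup G), a * b = b * a := by
      intro a ha b hb
      have h0 := hQc.is_comm.comm (⟨a, ha⟩ : (Q : Subgroup G)) ⟨b, hb⟩
      exact congrArg Subtype.val h0
    have hPQbot : (P : Subgroup G) ⊓ Q = ⊥ := by
      apply Subgroup.inf_eq_bot_of_coprime
      obtain ⟨a, ha⟩ := IsPGroup.iff_card.mp P.isPGroup'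
      obtain ⟨b, hb⟩ := IsPGroup.iff_card.mp Q.isPGroup'
      rw [ha, hb]
      exact Nat.Coprime.pow _ _ ((Nat.coprime_primes hp.out hq.out).mpr hpq)
    refine ⟨p, q, hp.out, hq.out, hpq, P, Q, hc, hQn, ⟨hQc, ?_⟩, hPQ⟩
    by_contra hexp
    push Not at hexp
    obtain ⟨y0, hy0Q, hy0⟩ := hexp
    let Ω : Subgroup G :=
      { carrier := {y | y ∈ (Q : Subgroup G) ∧ y ^ q = 1}
        one_mem' := ⟨(Q : Subgroup G).one_mem, one_pow q⟩
        mul_mem' := by
          rintro a b ⟨ha, ha'⟩ ⟨hb, hb'⟩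
          refine ⟨(Q : Subgroup G).mul_mem ha hb, ?_⟩
          have hcab : Commute a b := hcomm a ha b hb
          rw [hcab.mul_pow, ha', hb', one_mul]
        inv_mem' := by
          rintro a ⟨ha, ha'⟩
          exact ⟨(Q : Subgroup G).inv_mem ha, by rw [inv_pow, ha', inv_one]⟩ }
    have hΩmem : ∀ y, y ∈ Ω ↔ y ∈ (Q : Subgroup G) ∧ y ^ q = 1 := fun y => Iff.rfl
    haveI hΩn : Ω.Normal := by
      constructor
      intro y hy g
      rw [hΩmem] at hy ⊢
      refine ⟨hQn.conj_mem y hy.1 g, ?_⟩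
      rw [conj_pow, hy.2, mul_one, mul_inv_cancel]
    have hne : (P : Subgroup G) ⊔ Ω ≠ ⊤ := by
      intro htop
      have hy' : y0 ∈ (P : Subgroup G) ⊔ Ω := htop ▸ Subgroup.mem_top y0
      obtain ⟨a, ha, b, hb, hab⟩ := Subgroup.mem_sup_of_normal_right.mp hy'
      have hbQ : b ∈ (Q : Subgroup G) := ((hΩmem b).mp hb).1
      have haQ : a ∈ (Q : Subgroup G) := by
        have h0 : a = y0 * b⁻¹ := by rw [← hab]; group
        rw [h0]; exact mul_mem hy0Q (inv_mem hbQ)
      have ha1 : a ∈ (P : Subgroup G) ⊓ Q := Subgroup.mem_inf.mpr ⟨ha, haQ⟩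
      rw [hPQbot, Subgroup.mem_bot] at ha1
      rw [ha1, one_mul] at hab
      rw [← hab] at hy0
      exact hy0 ((hΩmem b).mp hb).2
    have hab := h _ hne
    have hPΩ : ∀ x ∈ (P : Subgroup G), ∀ y ∈ Ω, x * y = y * x := by
      intro x hx y hy
      have hx' : x ∈ (P : Subgroup G) ⊔ Ω := Subgroup.mem_sup_left hx
      have hy' : y ∈ (P : Subgroup G) ⊔ Ω := Subgroup.mem_sup_right hy
      have h0 := hab.is_comm.comm (⟨x, hx'⟩ : ((P : Subgroup G) ⊔ Ω : Subgroup G)) ⟨y, hy'⟩
      exact congrArg Subtype.val h0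
    have hPQc : ∀ x ∈ (P : Subgroup G), ∀ y ∈ (Q : Subgroup G), x * y = y * x := by
      intro x hx
      apply commute_of_commute_omega (Q : Subgroup G) hQc Q.isPGroup' x
      · obtain ⟨k, hk⟩ := (IsPGroup.iff_orderOf.mp P.isPGroup') ⟨x, hx⟩
        rw [Subgroup.orderOf_mk] at hk
        rw [hk]
        exact Nat.Coprime.pow_left k ((Nat.coprime_primes hp.out hq.out).mpr hpq)
      · intro y hy hyq
        exact hPΩ x hx y ((hΩmem y).mpr ⟨hy, hyq⟩)
    apply hPn
    rw [← Subgroup.normalizer_eq_top_iff, eq_top_iff, ← hPQ]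
    apply sup_le Subgroup.le_normalizer
    intro g hg
    rw [Subgroup.mem_normalizer_iff]
    intro x
    constructor
    · intro hx
      have h0 : g * x * g⁻¹ = x := by
        rw [← hPQc x hx g hg]; group
      rw [h0]; exact hx
    · intro hx
      have h0 : x * g = g * x := by
        have h1 := hPQc (g * x * g⁻¹) hx g hg
        -- g x g⁻¹ g = g (g x g⁻¹)
        have h2 : g * x = g * (g * x * g⁻¹) := by
          rw [← h1]; group
        have h3 := mul_left_cancel h2
        calc x * g = (g * x * g⁻¹) * g := by rw [← h3]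
          _ = g * x := by group
      have h4 : g * x * g⁻¹ = x := by rw [← h0]; group
      rw [h4] at hx; exact hx

end Cfsg.Agent.S0537
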