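import Cfsg.Statements.S0541
import Cfsg.Agent.S0540

set_option autoImplicit false
set_option linter.style.haveILetI false
open Cfsg

namespace Cfsg.Agent.S0541

open Cfsg.Agent.Lib.Helper2
open scoped Pointwise

theorem isSubnormal_of_normalizerCondition {G : Type*} [Group G] [Finite G]
    (hnc : NormalizerCondition G) (H : Subgroup G) : H.IsSubnormal := by
  induction H using WellFoundedGT.induction with
  | ind H ih =>
    by_cases hH : H = ⊤
    · rw [hH]; exact Subgroup.IsSubnormal.top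
    · have hlt : H < Subgroup.normalizer (H : Set G) := hnc H (lt_top_iff_ne_top.2 hH)
      exact Subgroup.IsSubnormal.step H _ hlt.le (ih _ hlt) Subgroup.normal_in_normalizer

theorem conj_smul_sSup_le {G : Type*} [Group G] (T : Set (Subgroup G)) (x : G)
    (h : ∀ B ∈ T, MulAut.conj x • B ∈ T) :
    MulAut.conj x • (sSup T : Subgroup G) ≤ sSup T := by
  rw [Subgroup.pointwise_smul_subset_iff]
  apply sSup_le
  intro B hB
  rw [← Subgroup.pointwise_smul_subset_iff]
  exact le_sSup (h B hB)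

/-- Matsuyama's lemma. -/
theorem result {G : Type*} [Group G] [Finite G] (p : ℕ) [Fact p.Prime] (Z Y : Subgroup G) (h : ∀ g : G, IsPGroup p ↥(⨆ y ∈ Y, MulAut.conj (y * g) • Z)) : ∃ P : Sylow p G, Y ≤ Subgroup.normalizer ((⨆ g ∈ {g : G | MulAut.conj g • Z ≤ (P : Subgroup G)}, MulAut.conj g • Z : Subgroup G) : Set G) := by
  classical
  let 𝔉 : Set (Set (Subgroup G)) := {T | (∀ B ∈ T, ∃ g : G, B = MulAut.conj g • Z) ∧
    IsPGroup p (sSup T : Subgroup G) ∧ ∀ B ∈ T, ∀ y ∈ Y, MulAut.conj y • B ∈ T}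
  have h𝔉 : 𝔉.Nonempty := by
    refine ⟨∅, ?_, ?_, ?_⟩
    · intro B hB; exact (Set.notMem_empty B hB).elim
    · rw [sSup_empty]; exact IsPGroup.of_bot
    · intro B hB; exact (Set.notMem_empty B hB).elim
  obtain ⟨T, ⟨hTZ, hTp, hTY⟩, hTmax⟩ := Set.exists_max_image 𝔉 Set.ncard (Set.toFinite _) h𝔉
  obtain ⟨P, hP⟩ := hTp.exists_le_sylow
  refine ⟨P, ?_⟩
  let TP : Set (Subgroup G) := {B | (∃ g : G, B = MulAut.conj g • Z) ∧ B ≤ (P : Subgroup G)}
  have hW : (⨆ g ∈ {g : G | MulAut.conj g • Z ≤ (P : Subgroup G)}, MulAut.conj g • Z : Subgroup G)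
      = sSup TP := by
    apply le_antisymm
    · apply iSup₂_le
      intro g hg
      exact le_sSup ⟨⟨g, rfl⟩, hg⟩
    · apply sSup_le
      rintro _ ⟨⟨g, rfl⟩, hg⟩
      exact le_iSup₂ (f := fun g (_ : g ∈ {g : G | MulAut.conj g • Z ≤ (P : Subgroup G)}) =>
        MulAut.conj g • Z) g hg
  rw [hW]
  have hTTP : T ⊆ TP := fun B hB => ⟨hTZ B hB, (le_sSup hB).trans hP⟩
  have hTeq : T = TP := by
    by_contra hne
    have hss : T ⊂ TP := ⟨hTTP, fun h' => hne (Set.Subset.antisymm hTTP h')⟩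
    -- subgroups of P are subnormal in P
    haveI : Group.IsNilpotent (P : Subgroup G) := P.2.isNilpotent
    have hnc : NormalizerCondition (P : Subgroup G) := Group.normalizerCondition_of_isNilpotent
    obtain ⟨X, ⟨⟨g, rfl⟩, hXP⟩, hXT, hXN⟩ := Cfsg.Agent.S0540.rel_normalizing (P : Subgroup G) TP T
      (fun B hB => hB.2) (fun B _ => isSubnormal_of_normalizerCondition hnc _)
      (by
        rintro _ ⟨⟨g, rfl⟩, hB⟩ v hv
        refine ⟨⟨v * g, by rw [map_mul, mul_smul]⟩, ?_⟩
        exact Subgroup.conj_smul_le_of_le hB ⟨v, hv⟩) hss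
    -- the enlarged family
    let T' : Set (Subgroup G) := T ∪ {B | ∃ y ∈ Y, B = MulAut.conj (y * g) • Z}
    have hH : ∀ y ∈ Y, MulAut.conj y • (sSup T : Subgroup G) = sSup T := by
      intro y hy
      apply Subgroup.eq_of_le_of_card_ge (conj_smul_sSup_le T y (fun B hB => hTY B hB y hy))
      rw [card_conj_smul]
    have hK : IsPGroup p ↥(⨆ y ∈ Y, MulAut.conj (y * g) • Z) := h g
    have hKN : (⨆ y ∈ Y, MulAut.conj (y * g) • Z) ≤
        Subgroup.normalizer ((sSup T : Subgroup G) : Set G) := by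
      apply iSup₂_le
      intro y hy x hx
      rw [map_mul, mul_smul, mem_conj_smul_iff] at hx
      have h1 := hXN hx
      rw [mem_normalizer_iff_conj_smul_eq] at h1 ⊢
      have e : x = y * (y⁻¹ * x * y) * y⁻¹ := by group
      rw [e, map_mul, map_mul, mul_smul, mul_smul, map_inv]
      have h2 : (MulAut.conj y)⁻¹ • (sSup T : Subgroup G) = sSup T := by
        conv_lhs => rw [← hH y hy]
        rw [inv_smul_smul]
      rw [h2, h1, hH y hy]
    have hT'𝔉 : T' ∈ 𝔉 := by
      refine ⟨?_, ?_, ?_⟩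
      · rintro B (hB | ⟨y, _, rfl⟩)
        · exact hTZ B hB
        · exact ⟨y * g, rfl⟩
      · have hle : (sSup T' : Subgroup G) ≤ sSup T ⊔ ⨆ y ∈ Y, MulAut.conj (y * g) • Z := by
          apply sSup_le
          rintro B (hB | ⟨y, hy, rfl⟩)
          · exact (le_sSup hB).trans le_sup_left
          · exact le_trans (le_iSup₂ (f := fun y (_ : y ∈ Y) => MulAut.conj (y * g) • Z) y hy)
              le_sup_right
        exact (IsPGroup.to_sup_of_normal_left' hTp hK hKN).to_le hle
      · rintro B (hB | ⟨y, hy, rfl⟩) y' hy'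
        · exact Or.inl (hTY B hB y' hy')
        · right
          refine ⟨y' * y, Y.mul_mem hy' hy, ?_⟩
          rw [← mul_smul, ← map_mul, mul_assoc]
    have hlt : T ⊂ T' := by
      refine ⟨Set.subset_union_left, ?_⟩
      intro h'
      apply hXT
      apply h'
      right
      exact ⟨1, Y.one_mem, by rw [one_mul]⟩
    have := hTmax T' hT'𝔉
    exact absurd (Set.ncard_lt_ncard hlt (Set.toFinite _)) (not_lt.2 this)
  rw [← hTeq]
  intro y hy
  apply Cfsg.Agent.S0539.mem_normalizer_sSup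
  intro B hB
  exact le_sSup (hTY B hB y hy)

end Cfsg.Agent.S0541
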