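import Cfsg.Statements.S0546
import Cfsg.Agent.S0545

set_option autoImplicit false
set_option linter.style.haveILetI false
open Cfsg

namespace Cfsg.Agent.S0546

/-- In a finite solvable group the normal closure of a system normalizer is the whole group. -/
theorem result {G : Type*} [Group G] [Finite G] [Group.IsSolvable G] (K : Nat.Primes → Subgroup G) (hK : Cfsg.IsComplementSystem K) : Subgroup.normalClosure ((Cfsg.systemNormalizer K : Subgroup G) : Set G) = ⊤ := by
  classical
  by_contra hne
  set M := Subgroup.normalClosure ((Cfsg.systemNormalizer K : Subgroup G) : Set G) with hM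
  haveI hMn : M.Normal := Subgroup.normalClosure_normal
  haveI : Nontrivial (G ⧸ M) := by
    rw [← Finite.one_lt_card_iff_nontrivial, ← Subgroup.index_eq_card]
    by_contra h'
    have h1 : M.index = 1 := by
      have : M.index ≠ 0 := Subgroup.index_ne_zero_of_finite
      omega
    exact hne (Subgroup.index_eq_one.1 h1)
  have hlt := Group.IsSolvable.commutator_lt_top_of_nontrivial (G ⧸ M)
  set M' : Subgroup G := (commutator (G ⧸ M)).comap (QuotientGroup.mk' M) with hM'
  haveI hM'n : M'.Normal := by rw [hM']; infer_instance
  have hMM' : M ≤ M' := by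
    intro x hx
    rw [hM', Subgroup.mem_comap, QuotientGroup.mk'_apply, (QuotientGroup.eq_one_iff x).2 hx]
    exact Subgroup.one_mem _
  have hM'top : M' ≠ ⊤ := by
    intro h
    apply hlt.ne
    apply Subgroup.comap_injective (QuotientGroup.mk'_surjective M)
    rw [← hM', h, Subgroup.comap_top]
  have hcomm : commutator G ≤ M' := by
    rw [hM', ← Subgroup.map_le_iff_le_comap, commutator_def, Subgroup.map_commutator,
      Subgroup.map_top_of_surjective _ (QuotientGroup.mk'_surjective M), ← commutator_def]
  have hab : IsMulCommutative (G ⧸ M') :=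
    Subgroup.Normal.quotient_commutative_iff_commutator_le.2 hcomm
  obtain ⟨-, h2⟩ := Cfsg.Agent.S0545.result K hK M'
  have hD : Cfsg.systemNormalizer K ≤ M' := Subgroup.le_normalClosure.trans hMM'
  have h3 : (Cfsg.systemNormalizer K).map (QuotientGroup.mk' M') = ⊥ := by
    rw [Subgroup.map_eq_bot_iff, QuotientGroup.ker_mk']
    exact hD
  have h4 : Cfsg.systemNormalizer (fun p => (K p).map (QuotientGroup.mk' M')) = ⊤ := by
    unfold Cfsg.systemNormalizer
    rw [eq_top_iff]
    intro x _
    rw [Subgroup.mem_iInf]
    intro p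
    rw [Subgroup.mem_normalizer_iff]
    intro h
    have e : x * h * x⁻¹ = h := by
      rw [hab.is_comm.comm x h, mul_assoc, mul_inv_cancel, mul_one]
    rw [e]
  rw [h4, h3] at h2
  apply hM'top
  have h5 : M' = (⊥ : Subgroup (G ⧸ M')).comap (QuotientGroup.mk' M') := by
    rw [MonoidHom.comap_bot, QuotientGroup.ker_mk']
  rw [h5, ← h2, Subgroup.comap_top]

end Cfsg.Agent.S0546
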