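import Cfsg.Statements.S0547
import Cfsg.Agent.Lib.Helper2.PrimAction
import Cfsg.Agent.S0043

set_option autoImplicit false
set_option linter.style.haveILetI false
open Cfsg

namespace Cfsg.Agent.S0547

open Cfsg.Agent.Lib.Helper2

/-- In a finite solvable group acting faithfully and primitively, a minimal normal subgroup acts regularly, and the degree equals its order, a prime power. -/
theorem result {G : Type*} [Group G] [Finite G] [Group.IsSolvable G] {Ω : Type*} [Nonempty Ω] [MulAction G Ω] [FaithfulSMul G Ω] (hprim : MulAction.IsPreprimitive G Ω) (M : Subgroup G) [M.Normal] (hM : M ≠ ⊥) (hmin : ∀ K : Subgroup G, K.Normal → K ≤ M → K = ⊥ ∨ K = M) : MulAction.IsPretransitive M Ω ∧ (∀ ω : Ω, MulAction.stabilizer M ω = ⊥) ∧ ∃ p d : ℕ, p.Prime ∧ 0 < d ∧ Nat.card Ω = p ^ d ∧ Nat.card M = p ^ d := by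
  haveI : Nontrivial G := by
    by_contra h
    rw [not_nontrivial_iff_subsingleton] at h
    apply hM
    rw [Subgroup.eq_bot_iff_forall]
    intro x _
    exact Subsingleton.elim x 1
  have hNX : MulAction.fixedPoints M Ω ≠ Set.univ := by
    intro h
    apply hM
    rw [Subgroup.eq_bot_iff_forall]
    intro k hk
    apply FaithfulSMul.eq_of_smul_eq_smul (α := Ω)
    intro y
    rw [one_smul]
    have : y ∈ MulAction.fixedPoints M Ω := by rw [h]; trivial
    exact this ⟨k, hk⟩
  haveI htr : MulAction.IsPretransitive M Ω :=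
    MulAction.IsQuasiPreprimitive.isPretransitive_of_normal hNX
  obtain ⟨hMc, p, hp, hexp⟩ := Cfsg.Agent.S0043.result M hM hmin
  have hMab : ∀ x ∈ M, ∀ y ∈ M, x * y = y * x := by
    intro x hx y hy
    have := hMc.is_comm.comm (⟨x, hx⟩ : M) ⟨y, hy⟩
    exact congrArg Subtype.val this
  have hstab : ∀ ω : Ω, MulAction.stabilizer M ω = ⊥ := by
    intro ω
    obtain ⟨hU, hcore⟩ := stabilizer_coatom_corefree hprim ω
    obtain ⟨-, hinf, -⟩ := corefree_coatom_facts (MulAction.stabilizer G ω) M hU hcore hM hMab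
    rw [Subgroup.eq_bot_iff_forall]
    intro m hm
    have h1 : (m : G) ∈ M ⊓ MulAction.stabilizer G ω := ⟨m.2, hm⟩
    rw [hinf, Subgroup.mem_bot] at h1
    exact Subtype.ext h1
  refine ⟨htr, hstab, ?_⟩
  haveI : Fact p.Prime := ⟨hp⟩
  have hMp : IsPGroup p M := by
    intro x
    refine ⟨1, ?_⟩
    rw [pow_one]
    exact Subtype.ext (hexp x x.2)
  obtain ⟨d, hd⟩ := (IsPGroup.iff_card).1 hMp
  obtain ⟨ω⟩ := (inferInstance : Nonempty Ω)
  refine ⟨p, d, hp, ?_, ?_, hd⟩
  · rcases Nat.eq_zero_or_pos d with h0 | h0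
    · exfalso
      rw [h0, pow_zero] at hd
      exact hM (Subgroup.card_eq_one.1 hd)
    · exact h0
  · rw [← MulAction.index_stabilizer_of_transitive M ω, hstab ω, Subgroup.index_bot, hd]

end Cfsg.Agent.S0547
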