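import Cfsg.Statements.S0548
import Cfsg.Agent.Lib.Helper2.PrimAction
import Cfsg.Agent.S0043

set_option autoImplicit false
set_option linter.style.haveILetI false
open Cfsg

namespace Cfsg.Agent.S0548

open Cfsg.Agent.Lib.Helper2

/-- In a finite solvable primitive permutation group with minimal normal subgroup `M`, a point stabilizer complements `M`, acts faithfully on `M`, and leaves invariant no subgroup of `M` other than `1` and `M`. -/
theorem result {G : Type*} [Group G] [Finite G] [Group.IsSolvable G] {Ω : Type*} [MulAction G Ω] [FaithfulSMul G Ω] (hprim : MulAction.IsPreprimitive G Ω) (M : Subgroup G) [M.Normal] (hM : M ≠ ⊥) (hmin : ∀ K : Subgroup G, K.Normal → K ≤ M → K = ⊥ ∨ K = M) (ω : Ω) : Subgroup.IsComplement' M (MulAction.stabilizer G ω) ∧ MulAction.stabilizer G ω ⊓ Subgroup.centralizer (M : Set G) = ⊥ ∧ ∀ K : Subgroup G, K ≤ M → MulAction.stabilizer G ω ≤ Subgroup.normalizer (K : Set G) → K = ⊥ ∨ K = M := by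
  haveI : Nontrivial G := by
    by_contra h
    rw [not_nontrivial_iff_subsingleton] at h
    apply hM
    rw [Subgroup.eq_bot_iff_forall]
    intro x _
    exact Subsingleton.elim x 1
  obtain ⟨hU, hcore⟩ := stabilizer_coatom_corefree hprim ω
  obtain ⟨hMc, -⟩ := Cfsg.Agent.S0043.result M hM hmin
  have hMab : ∀ x ∈ M, ∀ y ∈ M, x * y = y * x := by
    intro x hx y hy
    have := hMc.is_comm.comm (⟨x, hx⟩ : M) ⟨y, hy⟩
    exact congrArg Subtype.val this
  obtain ⟨hsup, hinf, hC⟩ := corefree_coatom_facts (MulAction.stabilizer G ω) M hU hcore hM hMab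
  refine ⟨?_, ?_, ?_⟩
  · apply Subgroup.isComplement'_of_disjoint_and_mul_eq_univ (disjoint_iff.2 hinf)
    rw [← Subgroup.normal_mul, hsup, Subgroup.coe_top]
  · rw [hC, inf_comm]; exact hinf
  · intro K hKM hK
    have hKn : K.Normal := by
      rw [← Subgroup.normalizer_eq_top_iff, eq_top_iff, ← hsup]
      apply sup_le _ hK
      intro m hm
      rw [Subgroup.mem_normalizer_iff]
      intro k
      constructor
      · intro hk
        have := hMab m hm k (hKM hk)
        have e : m * k * m⁻¹ = k := by rw [this]; group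
        rw [e]; exact hk
      · intro hk
        have hkM : k ∈ M := by
          have h1 : m * k * m⁻¹ ∈ M := hKM hk
          have h2 := M.mul_mem (M.mul_mem (M.inv_mem hm) h1) hm
          have e : m⁻¹ * (m * k * m⁻¹) * m = k := by group
          rwa [e] at h2
        have := hMab m hm k hkM
        have e : m * k * m⁻¹ = k := by rw [this]; group
        rwa [e] at hk
    exact hmin K hKn hKM

end Cfsg.Agent.S0548
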