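import Cfsg.Statements.S0549
import Mathlib

set_option autoImplicit false
set_option linter.style.haveILetI false
open Cfsg
open scoped Pointwise

namespace Cfsg.Agent.S0549

universe u

theorem exists_mul_of_sup_eq_top {G : Type u} [Group G] (N U : Subgroup G) [N.Normal]
    (h : N ⊔ U = ⊤) (g : G) : ∃ n ∈ N, ∃ u ∈ U, g = n * u := by
  have hg : g ∈ ((N ⊔ U : Subgroup G) : Set G) := by rw [h]; trivial
  rw [Subgroup.normal_mul] at hg
  obtain ⟨n, hn, u, hu, rfl⟩ := hg
  exact ⟨n, hn, u, hu, rfl⟩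

theorem not_le_of_core {G : Type u} [Group G] (U : Subgroup G) (hcore : U.normalCore = ⊥)
    (N : Subgroup G) [N.Normal] (hN : N ≠ ⊥) : ¬ N ≤ U := by
  intro h
  have : N ≤ U.normalCore := Subgroup.normal_le_normalCore.2 h
  rw [hcore, le_bot_iff] at this
  exact hN this

/-- Let U be a maximal subgroup of a finite group G whose normal core is trivial, and N a nontrivial normal subgroup with centralizer C. Then C ∩ U = 1, and either C = 1 or C is a minimal normal subgroup of G. -/
theorem result {G : Type*} [Group G] [Finite G] (U : Subgroup G) (hU : IsCoatom U) (hcore : U.normalCore = ⊥) (N : Subgroup G) [N.Normal] (hN : N ≠ ⊥) : Subgroup.centralizer (N : Set G) ⊓ U = ⊥ ∧ (Subgroup.centralizer (N : Set G) = ⊥ ∨ (Subgroup.centralizer (N : Set G) ≠ ⊥ ∧ ∀ K : Subgroup G, K.Normal → K ≤ Subgroup.centralizer (N : Set G) → K = ⊥ ∨ K = Subgroup.centralizer (N : Set G))) := by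
  have hsup : ∀ K : Subgroup G, K.Normal → K ≠ ⊥ → K ⊔ U = ⊤ := by
    intro K hKn hK
    haveI := hKn
    have h1 : ¬ K ≤ U := not_le_of_core U hcore K hK
    exact hU.2 _ (lt_of_le_of_ne le_sup_right (fun h => h1 (by rw [h]; exact le_sup_left)))
  have hCn : (Subgroup.centralizer (N : Set G)).Normal := by
    constructor
    intro c hc g
    rw [Subgroup.mem_centralizer_iff] at hc ⊢
    intro n hn
    have h1 : g⁻¹ * n * g ∈ N := by
      have := (inferInstance : N.Normal).conj_mem n hn g⁻¹
      rwa [inv_inv] at this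
    have h2 := hc _ h1
    calc n * (g * c * g⁻¹) = g * ((g⁻¹ * n * g) * c) * g⁻¹ := by group
      _ = g * (c * (g⁻¹ * n * g)) * g⁻¹ := by rw [h2]
      _ = g * c * g⁻¹ * n := by group
  have hD : Subgroup.centralizer (N : Set G) ⊓ U = ⊥ := by
    have hDn : (Subgroup.centralizer (N : Set G) ⊓ U).Normal := by
      constructor
      intro d hd g
      obtain ⟨n, hn, u, hu, rfl⟩ := exists_mul_of_sup_eq_top N U (hsup N inferInstance hN) g
      have h1 : u * d * u⁻¹ ∈ Subgroup.centralizer (N : Set G) := hCn.conj_mem d hd.1 u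
      have h2 : u * d * u⁻¹ ∈ U := U.mul_mem (U.mul_mem hu hd.2) (U.inv_mem hu)
      have h3 : n * (u * d * u⁻¹) = (u * d * u⁻¹) * n :=
        (Subgroup.mem_centralizer_iff.1 h1) n hn
      have h4 : n * u * d * (n * u)⁻¹ = u * d * u⁻¹ := by
        calc n * u * d * (n * u)⁻¹ = (n * (u * d * u⁻¹)) * n⁻¹ := by group
          _ = (u * d * u⁻¹) * n * n⁻¹ := by rw [h3]
          _ = u * d * u⁻¹ := by group
      rw [h4]
      exact ⟨h1, h2⟩
    have h1 : Subgroup.centralizer (N : Set G) ⊓ U ≤ U.normalCore :=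
      Subgroup.normal_le_normalCore.2 inf_le_right
    rw [hcore, le_bot_iff] at h1
    exact h1
  refine ⟨hD, ?_⟩
  by_cases hC : Subgroup.centralizer (N : Set G) = ⊥
  · exact Or.inl hC
  · refine Or.inr ⟨hC, ?_⟩
    intro K hKn hKC
    by_cases hK : K = ⊥
    · exact Or.inl hK
    · refine Or.inr (le_antisymm hKC ?_)
      intro c hc
      haveI := hKn
      obtain ⟨k, hk, u, hu, rfl⟩ := exists_mul_of_sup_eq_top K U (hsup K hKn hK) c
      have hu' : u ∈ Subgroup.centralizer (N : Set G) ⊓ U := by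
        refine ⟨?_, hu⟩
        have : u = k⁻¹ * (k * u) := by group
        rw [this]
        exact Subgroup.mul_mem _ (Subgroup.inv_mem _ (hKC hk)) hc
      rw [hD, Subgroup.mem_bot] at hu'
      rw [hu', mul_one]; exact hk

end Cfsg.Agent.S0549
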