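import Cfsg.Statements.S0550
import Cfsg.Agent.Lib.Helper2.CoreFree

set_option autoImplicit false
set_option linter.style.haveILetI false
open Cfsg

namespace Cfsg.Agent.S0550

open Cfsg.Agent.Lib.Helper2

theorem half {G : Type*} [Group G] (U : Subgroup G) (hU : IsCoatom U) (hcore : U.normalCore = ⊥)
    (A B : Subgroup G) [A.Normal] [B.Normal] (hA : A ≠ ⊥)
    (hinf : A ⊓ B = ⊥) (hcomm : ∀ a ∈ A, ∀ b ∈ B, a * b = b * a) (hBU : B ⊔ U = ⊤) :
    A ⊔ U = ⊤ ∧ A ⊓ U = ⊥ ∧ Subgroup.centralizer (A : Set G) = B ∧ Subgroup.IsComplement' A U ∧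
      ¬ IsMulCommutative A ∧ Nonempty (A ≃* ↥((A ⊔ B) ⊓ U)) := by
  have hAU : A ⊔ U = ⊤ := by
    apply hU.2
    apply lt_of_le_of_ne le_sup_right
    intro h
    have hle : A ≤ U := by rw [h]; exact le_sup_left
    have : A ≤ U.normalCore := (Subgroup.normal_le_normalCore).2 hle
    rw [hcore] at this
    exact hA (le_bot_iff.1 this)
  have hAU' : A ⊓ U = ⊥ := inf_eq_bot_of_corefree U A B hBU hcomm hcore
  have hCU : Subgroup.centralizer (A : Set G) ⊓ U = ⊥ := by
    apply inf_eq_bot_of_corefree U (Subgroup.centralizer (A : Set G)) A hAU _ hcore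
    intro x hx a ha
    rw [Subgroup.mem_centralizer_iff] at hx
    exact (hx a ha).symm
  have hCA : Subgroup.centralizer (A : Set G) = B := by
    apply le_antisymm
    · intro c hc
      have hg : c ∈ B ⊔ U := by rw [hBU]; exact Subgroup.mem_top c
      obtain ⟨b, hb, u, hu, rfl⟩ := Subgroup.mem_sup_of_normal_left.1 hg
      have hbC : b ∈ Subgroup.centralizer (A : Set G) := by
        rw [Subgroup.mem_centralizer_iff]
        intro a ha
        exact hcomm a ha b hb
      have huC : u ∈ Subgroup.centralizer (A : Set G) := by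
        have := (Subgroup.centralizer (A : Set G)).mul_mem
          ((Subgroup.centralizer (A : Set G)).inv_mem hbC) hc
        simpa using this
      have : u ∈ Subgroup.centralizer (A : Set G) ⊓ U := ⟨huC, hu⟩
      rw [hCU, Subgroup.mem_bot] at this
      rw [this, mul_one]; exact hb
    · intro b hb
      rw [Subgroup.mem_centralizer_iff]
      intro a ha
      exact hcomm a ha b hb
  refine ⟨hAU, hAU', hCA, ?_, ?_, ?_⟩
  · apply Subgroup.isComplement'_of_disjoint_and_mul_eq_univ (disjoint_iff.2 hAU')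
    rw [← Subgroup.normal_mul, hAU, Subgroup.coe_top]
  · intro hab
    apply hA
    rw [Subgroup.eq_bot_iff_forall]
    intro a ha
    have : a ∈ Subgroup.centralizer (A : Set G) := by
      rw [Subgroup.mem_centralizer_iff]
      intro a' ha'
      have := hab.is_comm.comm (⟨a', ha'⟩ : A) ⟨a, ha⟩
      exact congrArg Subtype.val this
    rw [hCA] at this
    have h2 : a ∈ A ⊓ B := ⟨ha, this⟩
    rwa [hinf, Subgroup.mem_bot] at h2
  · apply nonempty_mulEquiv_of_common_complement B A ((A ⊔ B) ⊓ U) hinf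
    · have hBU' : B ⊓ U = ⊥ := by
        apply inf_eq_bot_of_corefree U B A hAU _ hcore
        intro b hb a ha
        exact (hcomm a ha b hb).symm
      apply le_bot_iff.1
      rw [← hBU']
      intro x hx
      exact ⟨hx.2, hx.1.2⟩
    · apply le_antisymm
      · intro x hx
        have hg : x ∈ B ⊔ U := by rw [hBU]; exact Subgroup.mem_top x
        obtain ⟨b, hb, u, hu, rfl⟩ := Subgroup.mem_sup_of_normal_left.1 hg
        have hbAB : b ∈ A ⊔ B := (le_sup_right : B ≤ A ⊔ B) hb
        have hu' : u ∈ A ⊔ B := by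
          have := (A ⊔ B).mul_mem ((A ⊔ B).inv_mem hbAB) hx
          simpa using this
        have h1 : b ∈ (A ⊔ B) ⊓ U ⊔ B := (le_sup_right : B ≤ _) hb
        have h2 : u ∈ (A ⊔ B) ⊓ U ⊔ B := (le_sup_left : (A ⊔ B) ⊓ U ≤ _) ⟨hu', hu⟩
        exact Subgroup.mul_mem _ h1 h2
      · apply sup_le
        · exact inf_le_left
        · exact le_sup_right

/-- If a finite group has a core-free maximal subgroup `U` and two distinct minimal normal subgroups `A`, `B`, then `C_G(A) = B`, `C_G(B) = A`, both are complemented by `U`, both are non-abelian, and `A ≅ B ≅ (AB) ∩ U`. -/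
theorem result {G : Type*} [Group G] [Finite G] (U : Subgroup G) (hU : IsCoatom U) (hcore : U.normalCore = ⊥) (A B : Subgroup G) [A.Normal] [B.Normal] (hA : A ≠ ⊥) (hB : B ≠ ⊥) (hAmin : ∀ K : Subgroup G, K.Normal → K ≤ A → K = ⊥ ∨ K = A) (hBmin : ∀ K : Subgroup G, K.Normal → K ≤ B → K = ⊥ ∨ K = B) (hAB : A ≠ B) : Subgroup.centralizer (B : Set G) = A ∧ Subgroup.centralizer (A : Set G) = B ∧ Subgroup.IsComplement' A U ∧ Subgroup.IsComplement' B U ∧ ¬ IsMulCommutative A ∧ Nonempty (A ≃* B) ∧ Nonempty (A ≃* ↥((A ⊔ B) ⊓ U)) := by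
  have hinf : A ⊓ B = ⊥ := by
    rcases hAmin (A ⊓ B) inferInstance inf_le_left with h | h
    · exact h
    · exfalso
      have hle : A ≤ B := by rw [← h]; exact inf_le_right
      rcases hBmin A inferInstance hle with h' | h'
      · exact hA h'
      · exact hAB h'
  have hdis : Disjoint A B := disjoint_iff.2 hinf
  have hcomm : ∀ a ∈ A, ∀ b ∈ B, a * b = b * a := fun a ha b hb =>
    (Subgroup.commute_of_normal_of_disjoint A B inferInstance inferInstance hdis a b ha hb).eq
  have hcomm' : ∀ b ∈ B, ∀ a ∈ A, b * a = a * b := fun b hb a ha => (hcomm a ha b hb).symm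
  have hBU : B ⊔ U = ⊤ := by
    apply hU.2
    apply lt_of_le_of_ne le_sup_right
    intro h
    have hle : B ≤ U := by rw [h]; exact le_sup_left
    have : B ≤ U.normalCore := (Subgroup.normal_le_normalCore).2 hle
    rw [hcore] at this
    exact hB (le_bot_iff.1 this)
  obtain ⟨hAU, -, hCA, hcA, hnA, ⟨eA⟩⟩ := half U hU hcore A B hA hinf hcomm hBU
  have hinf' : B ⊓ A = ⊥ := by rw [inf_comm]; exact hinf
  obtain ⟨-, -, hCB, hcB, -, ⟨eB⟩⟩ := half U hU hcore B A hB hinf' hcomm' hAU
  refine ⟨hCB, hCA, hcA, hcB, hnA, ?_, ⟨eA⟩⟩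
  have hsw : (B ⊔ A) ⊓ U = (A ⊔ B) ⊓ U := by rw [sup_comm]
  exact ⟨eA.trans ((MulEquiv.subgroupCongr hsw).symm.trans eB.symm)⟩

end Cfsg.Agent.S0550
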