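import Cfsg.Statements.S0551
import Cfsg.Agent.Lib.Helper2.PrimSolv
import Cfsg.Agent.Lib.Helper2.FrattiniTriv
import Cfsg.Agent.Lib.Helper2.Nilp
import Cfsg.Agent.Lib.Helper4.SZ
import Cfsg.Agent.Lib.Helper4.Hall

set_option autoImplicit false
set_option linter.style.haveILetI false
open Cfsg

namespace Cfsg.Agent.S0551

open Cfsg.Agent.Lib.Helper2
open scoped Pointwise

/-- the part depending on a single core-free maximal subgroup -/
theorem side {G : Type*} [Group G] [Finite G] (U A B : Subgroup G) [hAn : A.Normal] [hBn : B.Normal]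
    (hU : IsCoatom U) (hcore : U.normalCore = ⊥)
    (hAU : A ⊔ U = ⊤) (hAU' : A ⊓ U = ⊥) (hAB : A ≤ B) (hBA : B ≠ A) :
    Nat.card (B ⊓ U : Subgroup G) * Nat.card A = Nat.card B ∧
    Subgroup.normalizer ((B ⊓ U : Subgroup G) : Set G) = U ∧
    Nat.card U * Nat.card A = Nat.card G := by
  have hBsup : (B ⊓ U) ⊔ A = B := by
    apply le_antisymm
    · exact sup_le inf_le_left hAB
    · intro b hb
      have hg : b ∈ A ⊔ U := by rw [hAU]; exact Subgroup.mem_top b
      obtain ⟨a, ha, u, hu, rfl⟩ := Subgroup.mem_sup_of_normal_left.1 hg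
      have huB : u ∈ B := by
        have : u = a⁻¹ * (a * u) := by group
        rw [this]
        exact B.mul_mem (B.inv_mem (hAB ha)) hb
      exact Subgroup.mul_mem _ (Subgroup.mem_sup_right ha) (Subgroup.mem_sup_left ⟨huB, hu⟩)
  have hBinf : (B ⊓ U) ⊓ A = ⊥ := by
    apply le_bot_iff.1
    rw [← hAU']
    intro x hx
    exact ⟨hx.2, hx.1.2⟩
  have hnormA : ∀ X : Subgroup G, X ≤ Subgroup.normalizer (A : Set G) := by
    intro X
    rw [Subgroup.normalizer_eq_top]; exact le_top
  have hc1 : Nat.card (B ⊓ U : Subgroup G) * Nat.card A = Nat.card B := by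
    have := card_sup_mul_card_inf (B ⊓ U) A (hnormA _)
    rw [hBsup, hBinf, Subgroup.card_bot, mul_one] at this
    exact this.symm
  have hc2 : Nat.card U * Nat.card A = Nat.card G := by
    have := card_sup_mul_card_inf U A (hnormA _)
    rw [sup_comm, hAU, inf_comm, hAU', Subgroup.card_bot, mul_one, Subgroup.card_top] at this
    exact this.symm
  refine ⟨hc1, ?_, hc2⟩
  -- normalizer
  have hUN : U ≤ Subgroup.normalizer ((B ⊓ U : Subgroup G) : Set G) := by
    intro u hu
    rw [Subgroup.mem_normalizer_iff]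
    intro x
    constructor
    · rintro ⟨hxB, hxU⟩
      exact ⟨hBn.conj_mem x hxB u, U.mul_mem (U.mul_mem hu hxU) (U.inv_mem hu)⟩
    · rintro ⟨hxB, hxU⟩
      have e : x = u⁻¹ * (u * x * u⁻¹) * u⁻¹⁻¹ := by group
      constructor
      · rw [e]; exact hBn.conj_mem _ hxB u⁻¹
      · rw [e]; exact U.mul_mem (U.mul_mem (U.inv_mem hu) hxU) (U.inv_mem (U.inv_mem hu))
  rcases hU.le_iff.1 hUN with h | h
  · exfalso
    have hn : (B ⊓ U).Normal := Subgroup.normalizer_eq_top_iff.1 h
    have hle : B ⊓ U ≤ U.normalCore := (Subgroup.normal_le_normalCore).2 inf_le_right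
    rw [hcore] at hle
    have h0 : B ⊓ U = ⊥ := le_bot_iff.1 hle
    rw [h0, Subgroup.card_bot, one_mul] at hc1
    apply hBA
    exact (Subgroup.eq_of_le_of_card_ge hAB hc1.symm.le).symm
  · exact h

/-- In a finite solvable group, any two core-free maximal subgroups are conjugate. -/
theorem result {G : Type*} [Group G] [Finite G] [Group.IsSolvable G] (U V : Subgroup G) (hU : IsCoatom U) (hV : IsCoatom V) (hUc : U.normalCore = ⊥) (hVc : V.normalCore = ⊥) : ∃ g : G, MulAut.conj g • U = V := by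
  classical
  have htop : (⊤ : Subgroup G) ≠ ⊥ := by
    intro h
    apply hU.1
    rw [h]
    exact le_bot_iff.1 (by rw [← h]; exact le_top)
  obtain ⟨A, hAn, hA1, -, hAmin⟩ := exists_minimal_normal_le (⊤ : Subgroup G) inferInstance htop
  haveI := hAn
  obtain ⟨hAc, p, hp, hAexp⟩ := Cfsg.Agent.S0043.result A hA1 hAmin
  haveI : Fact p.Prime := ⟨hp⟩
  have hAab : ∀ x ∈ A, ∀ y ∈ A, x * y = y * x := by
    intro x hx y hy
    have := hAc.is_comm.comm (⟨x, hx⟩ : A) ⟨y, hy⟩
    exact congrArg Subtype.val this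
  obtain ⟨hAU, hAU', hCA⟩ := corefree_coatom_facts U A hU hUc hA1 hAab
  obtain ⟨hAV, hAV', -⟩ := corefree_coatom_facts V A hV hVc hA1 hAab
  have hAp : IsPGroup p A := by
    intro x
    refine ⟨1, ?_⟩
    rw [pow_one]
    exact Subtype.ext (hAexp x x.2)
  by_cases hAtop : A = ⊤
  · refine ⟨1, ?_⟩
    have hU0 : U = ⊥ := by rw [← hAU', hAtop, top_inf_eq]
    have hV0 : V = ⊥ := by rw [← hAV', hAtop, top_inf_eq]
    rw [hU0, hV0, Subgroup.smul_bot]
  -- a normal q-subgroup of G/A
  haveI : Nontrivial (G ⧸ A) := by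
    rw [← Finite.one_lt_card_iff_nontrivial, ← Subgroup.index_eq_card]
    by_contra h
    have h1 : A.index = 1 := by
      have : A.index ≠ 0 := Subgroup.index_ne_zero_of_finite
      omega
    exact hAtop (Subgroup.index_eq_one.1 h1)
  obtain ⟨q, hq, R, hRn, hR1, hRq⟩ :=
    Cfsg.Agent.Lib.Helper4.exists_normal_pSubgroup_of_solvable (G := G ⧸ A)
  haveI := hRn
  set B : Subgroup G := R.comap (QuotientGroup.mk' A) with hB
  haveI hBn : B.Normal := by rw [hB]; infer_instance
  have hAB : A ≤ B := by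
    intro a ha
    rw [hB, Subgroup.mem_comap, QuotientGroup.mk'_apply, (QuotientGroup.eq_one_iff a).2 ha]
    exact R.one_mem
  have hBA : B ≠ A := by
    intro h
    apply hR1
    have h1 : B.map (QuotientGroup.mk' A) = R := by
      rw [hB, Subgroup.map_comap_eq_self_of_surjective (QuotientGroup.mk'_surjective A)]
    rw [← h1, h, QuotientGroup.map_mk'_self]
  have hBcard : Nat.card B = Nat.card R * Nat.card A :=
    Cfsg.Agent.Lib.Helper4.card_comap_mk_quot A R
  -- q ≠ p
  have hqp : q ≠ p := by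
    intro hqp
    subst hqp
    have hBp : IsPGroup q B := by
      obtain ⟨a, ha⟩ := (IsPGroup.iff_card).1 hRq
      obtain ⟨b, hb⟩ := (IsPGroup.iff_card).1 hAp
      apply IsPGroup.of_card (n := a + b)
      rw [hBcard, ha, hb, pow_add]
    have hBnil : Group.IsNilpotent B := hBp.isNilpotent
    have := nilpotent_normal_le_centralizer_minimal_normal A B hBnil hA1 hAmin
    rw [hCA] at this
    exact hBA (le_antisymm this hAB)
  obtain ⟨hcU, hNU, hGU⟩ := side U A B hU hUc hAU hAU' hAB hBA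
  obtain ⟨hcV, hNV, hGV⟩ := side V A B hV hVc hAV hAV' hAB hBA
  have hApos : 0 < Nat.card A := Nat.card_pos
  have hQUcard : Nat.card (B ⊓ U : Subgroup G) = Nat.card R := by
    have : Nat.card (B ⊓ U : Subgroup G) * Nat.card A = Nat.card R * Nat.card A := by
      rw [hcU, hBcard]
    exact Nat.eq_of_mul_eq_mul_right hApos this
  have hQVcard : Nat.card (B ⊓ V : Subgroup G) = Nat.card R := by
    have : Nat.card (B ⊓ V : Subgroup G) * Nat.card A = Nat.card R * Nat.card A := by
      rw [hcV, hBcard]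
    exact Nat.eq_of_mul_eq_mul_right hApos this
  obtain ⟨a, ha⟩ := (IsPGroup.iff_card).1 hRq
  have hQUq : IsPGroup q (B ⊓ U : Subgroup G) := IsPGroup.of_card (n := a) (by rw [hQUcard, ha])
  have hQVq : IsPGroup q (B ⊓ V : Subgroup G) := IsPGroup.of_card (n := a) (by rw [hQVcard, ha])
  obtain ⟨S, hS⟩ := hQVq.exists_le_sylow
  obtain ⟨S', hS'⟩ := hQUq.exists_le_sylow
  obtain ⟨g, hg⟩ := MulAction.exists_smul_eq G S' S
  -- S ⊓ B has order at most |R|
  have hSB : Nat.card (↑S ⊓ B : Subgroup G) ∣ Nat.card R := by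
    have h1 : Nat.card (↑S ⊓ B : Subgroup G) ∣ Nat.card B := Subgroup.card_dvd_of_le inf_le_right
    rw [hBcard] at h1
    have h2 : IsPGroup q (↑S ⊓ B : Subgroup G) := S.2.to_le inf_le_left
    obtain ⟨c, hc⟩ := (IsPGroup.iff_card).1 h2
    obtain ⟨b, hb⟩ := (IsPGroup.iff_card).1 hAp
    have hcop : (Nat.card (↑S ⊓ B : Subgroup G)).Coprime (Nat.card A) := by
      rw [hc, hb]
      exact Nat.Coprime.pow _ _ ((Nat.coprime_primes hq.out hp).2 hqp)
    exact hcop.dvd_of_dvd_mul_right h1
  have hRpos : 0 < Nat.card R := Nat.card_pos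
  have hSBle : Nat.card (↑S ⊓ B : Subgroup G) ≤ Nat.card R := Nat.le_of_dvd hRpos hSB
  have e1 : B ⊓ V = ↑S ⊓ B := by
    apply Subgroup.eq_of_le_of_card_ge (le_inf hS inf_le_left)
    rw [hQVcard]; exact hSBle
  have e2 : MulAut.conj g • (B ⊓ U) = ↑S ⊓ B := by
    apply Subgroup.eq_of_le_of_card_ge
    · apply le_inf
      · rw [← hg, Sylow.coe_subgroup_smul]
        exact Subgroup.pointwise_smul_le_pointwise_smul_iff.2 hS'
      · intro x hx
        rw [mem_conj_smul_iff] at hx
        have := hBn.conj_mem _ hx.1 g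
        have e : g * (g⁻¹ * x * g) * g⁻¹ = x := by group
        rwa [e] at this
    · rw [card_conj_smul, hQUcard]; exact hSBle
  refine ⟨g, ?_⟩
  apply Subgroup.eq_of_le_of_card_ge
  · have h1 := conj_smul_le_normalizer_conj_smul U (B ⊓ U) hNU.ge g
    rw [e2, ← e1, hNV] at h1
    exact h1
  · rw [card_conj_smul]
    have : Nat.card V * Nat.card A = Nat.card U * Nat.card A := by rw [hGU, hGV]
    exact (Nat.eq_of_mul_eq_mul_right hApos this).le

end Cfsg.Agent.S0551
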