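import Cfsg.Statements.S0553
import Cfsg.Agent.Lib.Helper2.FrattiniTriv
import Cfsg.Agent.Lib.Helper2.Coatom
import Cfsg.Agent.Lib.Helper2.Index
import Cfsg.Agent.Lib.Helper4.Hall
import Cfsg.Agent.S0043

set_option autoImplicit false
set_option linter.style.haveILetI false
open Cfsg

namespace Cfsg.Agent.S0553

open Cfsg.Agent.Lib.Helper2

universe u

theorem aux : ∀ (n : ℕ) (G : Type u) [Group G] [Finite G] [Group.IsSolvable G] [Nontrivial G],
    Nat.card G = n → (∀ M : Subgroup G, IsCoatom M → (Nat.card M).Coprime M.index) →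
    ∃ p : ℕ, p.Prime ∧ p ∣ Nat.card G ∧ ∀ P : Sylow p G, (P : Subgroup G).Normal := by
  intro n
  induction n using Nat.strong_induction_on with
  | _ n ih =>
  intro G _ _ _ _ hn h
  classical
  obtain ⟨N, hNn, hN1, -, hNmin⟩ := exists_minimal_normal_le (⊤ : Subgroup G) inferInstance
    top_ne_bot
  haveI := hNn
  obtain ⟨hNc, p, hp, hNexp⟩ := Cfsg.Agent.S0043.result N hN1 hNmin
  haveI : Fact p.Prime := ⟨hp⟩
  have hNab : ∀ x ∈ N, ∀ y ∈ N, x * y = y * x := by
    intro x hx y hy
    have := hNc.is_comm.comm (⟨x, hx⟩ : N) ⟨y, hy⟩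
    exact congrArg Subtype.val this
  have hNp : IsPGroup p N := by
    intro x
    refine ⟨1, ?_⟩
    rw [pow_one]
    exact Subtype.ext (hNexp x x.2)
  obtain ⟨k, hk⟩ := (IsPGroup.iff_card).1 hNp
  have hk0 : k ≠ 0 := by
    intro h0
    rw [h0, pow_zero] at hk
    exact hN1 (Subgroup.card_eq_one.1 hk)
  have hpN : p ∣ Nat.card N := by rw [hk]; exact dvd_pow_self p hk0
  by_cases hcase : ∃ M : Subgroup G, IsCoatom M ∧ ¬ N ≤ M
  · -- N is a normal Sylow p-subgroup
    obtain ⟨M, hM, hNM⟩ := hcase
    have hsup : N ⊔ M = ⊤ := by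
      apply hM.2
      apply lt_of_le_of_ne le_sup_right
      intro h'
      apply hNM
      rw [h']; exact le_sup_left
    have hinfn : (N ⊓ M).Normal := by
      refine ⟨?_⟩
      intro x hx g
      have hg : g ∈ N ⊔ M := by rw [hsup]; exact Subgroup.mem_top g
      obtain ⟨a, ha, m, hm, rfl⟩ := Subgroup.mem_sup_of_normal_left.1 hg
      have h1 : m * x * m⁻¹ ∈ N := hNn.conj_mem x hx.1 m
      have h2 : m * x * m⁻¹ ∈ M := M.mul_mem (M.mul_mem hm hx.2) (M.inv_mem hm)
      have h3 : a * m * x * (a * m)⁻¹ = m * x * m⁻¹ := by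
        have := hNab a ha _ h1
        calc a * m * x * (a * m)⁻¹ = a * (m * x * m⁻¹) * a⁻¹ := by group
          _ = (m * x * m⁻¹) * a * a⁻¹ := by rw [this]
          _ = m * x * m⁻¹ := by group
      rw [h3]
      exact ⟨h1, h2⟩
    have hinf : N ⊓ M = ⊥ := by
      rcases hNmin (N ⊓ M) hinfn inf_le_left with h' | h'
      · exact h'
      · exfalso; apply hNM; rw [← h']; exact inf_le_right
    have hcard : Nat.card M * Nat.card N = Nat.card G := by
      have := card_sup_mul_card_inf M N (by rw [Subgroup.normalizer_eq_top]; exact le_top)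
      rw [sup_comm, hsup, inf_comm, hinf, Subgroup.card_bot, mul_one, Subgroup.card_top] at this
      exact this.symm
    have hidx : M.index = Nat.card N := by
      have h1 := Subgroup.card_mul_index M
      rw [← hcard] at h1
      exact Nat.eq_of_mul_eq_mul_left Nat.card_pos h1
    have hcop : (Nat.card M).Coprime (Nat.card N) := by
      rw [← hidx]; exact h M hM
    refine ⟨p, hp, hpN.trans (Subgroup.card_subgroup_dvd_card N), ?_⟩
    intro P
    have hNP : N ≤ (P : Subgroup G) := hNp.le_sylow_of_normal P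
    have hPN : (P : Subgroup G) = N := by
      symm
      apply Subgroup.eq_of_le_of_card_ge hNP
      obtain ⟨j, hj⟩ := (IsPGroup.iff_card).1 P.2
      have h1 : Nat.card (P : Subgroup G) ∣ Nat.card M * Nat.card N := by
        rw [hcard]; exact Subgroup.card_subgroup_dvd_card _
      have h2 : (Nat.card (P : Subgroup G)).Coprime (Nat.card M) := by
        have e : Nat.card (P : Subgroup G) = Nat.card P := rfl
        rw [e, hj]
        apply Nat.Coprime.pow_left
        rw [Nat.coprime_comm]
        apply Nat.Coprime.coprime_dvd_right hpN hcop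
      exact Nat.le_of_dvd Nat.card_pos (h2.dvd_of_dvd_mul_left h1)
    rw [hPN]; exact hNn
  · -- N ≤ Φ(G)
    push Not at hcase
    have hNΦ : N ≤ frattini G := by
      show N ≤ ⨅ a ∈ {H : Subgroup G | IsCoatom H}, a
      exact le_iInf₂ (fun M hM => hcase M hM)
    have hNtop : N ≠ ⊤ := by
      intro h'
      rcases eq_top_or_exists_le_coatom (⊥ : Subgroup G) with h0 | ⟨M, hM, -⟩
      · exact bot_ne_top h0
      · have := hcase M hM
        rw [h'] at this
        exact hM.1 (top_le_iff.1 this)
    haveI : Nontrivial (G ⧸ N) := by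
      rw [← Finite.one_lt_card_iff_nontrivial, ← Subgroup.index_eq_card]
      by_contra h'
      have h1 : N.index = 1 := by
        have : N.index ≠ 0 := Subgroup.index_ne_zero_of_finite
        omega
      exact hNtop (Subgroup.index_eq_one.1 h1)
    have hcardlt : Nat.card (G ⧸ N) < n := by
      rw [← hn]; exact Cfsg.Agent.Lib.Helper4.card_quot_lt N hN1
    have hquot : ∀ M : Subgroup (G ⧸ N), IsCoatom M → (Nat.card M).Coprime M.index := by
      intro M hM
      have h1 := h _ (isCoatom_comap_mk' N hM)
      rw [index_comap_mk', Cfsg.Agent.Lib.Helper4.card_comap_mk_quot] at h1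
      exact Nat.Coprime.coprime_dvd_left (Dvd.intro _ rfl) h1
    obtain ⟨q, hq, hqd, hqn⟩ := ih _ hcardlt (G ⧸ N) rfl hquot
    haveI : Fact q.Prime := ⟨hq⟩
    refine ⟨q, hq, ?_, ?_⟩
    · apply hqd.trans
      rw [Subgroup.card_eq_card_quotient_mul_card_subgroup N]
      exact Dvd.intro _ rfl
    · intro P
      have hsurj := QuotientGroup.mk'_surjective N
      have h1 := hqn (P.mapSurjective hsurj)
      rw [Sylow.coe_mapSurjective] at h1
      have h2 : (((P : Subgroup G).map (QuotientGroup.mk' N)).comap (QuotientGroup.mk' N)).Normal :=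
        h1.comap _
      rw [Subgroup.comap_map_eq, QuotientGroup.ker_mk'] at h2
      haveI := h2
      have h3 := Sylow.normalizer_sup_eq_top' P (le_sup_left : (P : Subgroup G) ≤ (P : Subgroup G) ⊔ N)
      have h4 : Subgroup.normalizer ((P : Subgroup G) : Set G) ⊔ frattini G = ⊤ := by
        rw [eq_top_iff, ← h3]
        apply sup_le le_sup_left
        apply sup_le
        · exact le_sup_of_le_left Subgroup.le_normalizer
        · exact le_sup_of_le_right hNΦ
      exact Subgroup.normalizer_eq_top_iff.1 (frattini_nongenerating h4)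

/-- If every maximal subgroup of a nontrivial finite solvable group has order coprime to its index, then some Sylow subgroup for a prime dividing the order is normal. -/
theorem result {G : Type*} [Group G] [Finite G] [Group.IsSolvable G] [Nontrivial G] (h : ∀ M : Subgroup G, IsCoatom M → (Nat.card M).Coprime M.index) : ∃ p : ℕ, p.Prime ∧ p ∣ Nat.card G ∧ ∀ P : Sylow p G, (P : Subgroup G).Normal := by
  exact aux _ G rfl h

end Cfsg.Agent.S0553
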