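import Mathlib
import Cfsg.Statements.S0554
import Cfsg.Agent.Lib.Helper4.SZ

set_option autoImplicit false
open Cfsg

namespace Cfsg.Agent.S0554

universe u

/-- Absorb an element of a normal subgroup at position `j` of an ordered product. -/
theorem insert_normal {G : Type*} [Group G] (N : Subgroup G) [hN : N.Normal] :
    ∀ (t : ℕ) (s : Fin t → G) (j : Fin t) (n : G), n ∈ N →
      ∃ s' : Fin t → G, (∀ i, i ≠ j → s' i = s i) ∧ (∃ n' ∈ N, s' j = s j * n') ∧
        (List.ofFn s).prod * n = (List.ofFn s').prod := by
  intro t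
  induction t with
  | zero => intro s j; exact j.elim0
  | succ t ih =>
    intro s j n hn
    induction j using Fin.cases with
    | zero =>
      set P : G := (List.ofFn (fun i : Fin t => s i.succ)).prod with hP
      refine ⟨Fin.cons (s 0 * (P * n * P⁻¹)) (fun i : Fin t => s i.succ), ?_, ?_, ?_⟩
      · intro i hi
        induction i using Fin.cases with
        | zero => exact absurd rfl hi
        | succ k => simp
      · exact ⟨P * n * P⁻¹, hN.conj_mem n hn P, by simp⟩
      · rw [List.ofFn_succ, List.ofFn_succ, List.prod_cons, List.prod_cons]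
        simp only [Fin.cons_zero, Fin.cons_succ]
        rw [← hP]
        group
    | succ j' =>
      obtain ⟨s'', h1, ⟨n', hn', h2⟩, h3⟩ := ih (fun i : Fin t => s i.succ) j' n hn
      refine ⟨Fin.cons (s 0) s'', ?_, ?_, ?_⟩
      · intro i hi
        induction i using Fin.cases with
        | zero => simp
        | succ k =>
          simp only [Fin.cons_succ]
          exact h1 k (fun h => hi (by rw [h]))
      · exact ⟨n', hn', by simp [h2]⟩
      · rw [List.ofFn_succ, List.ofFn_succ, List.prod_cons, List.prod_cons]
        simp only [Fin.cons_zero, Fin.cons_succ]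
        rw [mul_assoc, h3]

theorem main : ∀ (n : ℕ) (G : Type u) [Group G] [Finite G] [Group.IsSolvable G],
    Nat.card G = n → ∀ (t : ℕ) (p : Fin t → ℕ) (_ : ∀ i, (p i).Prime)
    (_ : ∀ q : ℕ, q.Prime → q ∣ Nat.card G → ∃ i, p i = q)
    (S : (i : Fin t) → Sylow (p i) G), ∀ g : G, ∃ s : (i : Fin t) → G,
      (∀ i, s i ∈ (S i : Subgroup G)) ∧ g = (List.ofFn s).prod := by
  intro n
  induction n using Nat.strong_induction_on with
  | _ n ih =>
  intro G _ _ _ hn t p hp hall S g
  rcases subsingleton_or_nontrivial G with hsub | hnt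
  · refine ⟨fun _ => 1, fun i => Subgroup.one_mem _, ?_⟩
    exact Subsingleton.elim _ _
  · obtain ⟨q, hqF, R, hRn, hRne, hRp⟩ :=
      Cfsg.Agent.Lib.Helper4.exists_normal_pSubgroup_of_solvable (G := G)
    haveI := hRn
    have hq : q.Prime := hqF.out
    -- q divides |G|
    have hqdvd : q ∣ Nat.card G := by
      obtain ⟨k, hk⟩ := IsPGroup.iff_card.1 hRp
      have hk0 : k ≠ 0 := by
        intro h0
        rw [h0, pow_zero] at hk
        exact hRne (Subgroup.card_eq_one.1 hk)
      have : q ∣ Nat.card R := by rw [hk]; exact dvd_pow_self q hk0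
      exact this.trans (Subgroup.card_subgroup_dvd_card R)
    obtain ⟨j, hj⟩ := hall q hq hqdvd
    subst hj
    haveI : ∀ i, Fact (p i).Prime := fun i => ⟨hp i⟩
    have hRS : R ≤ (S j : Subgroup G) := hRp.le_sylow_of_normal (S j)
    -- the quotient
    have hlt : Nat.card (G ⧸ R) < n := by
      rw [← hn, ← Subgroup.index_eq_card]
      have h1 : 1 < Nat.card R := by
        rcases Nat.lt_or_ge 1 (Nat.card R) with h | h
        · exact h
        · exfalso
          have : Nat.card R = 1 := le_antisymm h Nat.card_pos
          exact hRne (Subgroup.card_eq_one.1 this)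
      have h2 := Subgroup.card_mul_index R
      have h3 : 0 < R.index := Nat.pos_of_ne_zero Subgroup.index_ne_zero_of_finite
      nlinarith
    have hsurj : Function.Surjective (QuotientGroup.mk' R) := QuotientGroup.mk'_surjective R
    have hall' : ∀ q' : ℕ, q'.Prime → q' ∣ Nat.card (G ⧸ R) → ∃ i, p i = q' := by
      intro q' hq' hd
      refine hall q' hq' (hd.trans ?_)
      rw [← Subgroup.index_eq_card]
      exact Subgroup.index_dvd_card R
    obtain ⟨sb, hsb, hprod⟩ := ih _ hlt (G ⧸ R) rfl t p hp hall'
      (fun i => (S i).mapSurjective hsurj) (QuotientGroup.mk' R g)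
    have hex : ∀ i, ∃ x : G, x ∈ (S i : Subgroup G) ∧ QuotientGroup.mk' R x = sb i := by
      intro i
      have := hsb i
      rw [Sylow.coe_mapSurjective] at this
      obtain ⟨x, hx, hxe⟩ := Subgroup.mem_map.1 this
      exact ⟨x, hx, hxe⟩
    choose s hs hse using hex
    have hmap : QuotientGroup.mk' R (List.ofFn s).prod = (List.ofFn sb).prod := by
      rw [map_list_prod, List.map_ofFn]
      have : (⇑(QuotientGroup.mk' R) ∘ s) = sb := funext hse
      rw [this]
    have hmem : ((List.ofFn s).prod)⁻¹ * g ∈ R := by
      rw [← QuotientGroup.ker_mk' R, MonoidHom.mem_ker, map_mul, map_inv, hmap, ← hprod]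
      group
    obtain ⟨s', h1, ⟨n', hn', h2⟩, h3⟩ := insert_normal R t s j _ hmem
    refine ⟨s', ?_, ?_⟩
    · intro i
      by_cases hij : i = j
      · subst hij
        rw [h2]
        exact Subgroup.mul_mem _ (hs i) (hRS hn')
      · rw [h1 i hij]; exact hs i
    · rw [← h3]; group

/-- Let G be a finite solvable group and let S assign to each of t distinct primes, including every prime divisor of the order of G, a Sylow subgroup of G. Then every element of G is a product s_0 s_1 ⋯ s_(t-1) with s_i in S i, the factors taken in the given order. -/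
theorem result {G : Type*} [Group G] [Finite G] [Group.IsSolvable G] (t : ℕ) (p : Fin t → ℕ) (hp : ∀ i, (p i).Prime) (hinj : Function.Injective p) (hall : ∀ q : ℕ, q.Prime → q ∣ Nat.card G → ∃ i, p i = q) (S : (i : Fin t) → Sylow (p i) G) : ∀ g : G, ∃ s : (i : Fin t) → G, (∀ i, s i ∈ (S i : Subgroup G)) ∧ g = (List.ofFn s).prod := by
  exact main _ G rfl t p hp hall S

end Cfsg.Agent.S0554
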