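import Cfsg.Statements.S0555
import Cfsg.Agent.Lib.Helper2.CyclicNormal

set_option autoImplicit false
set_option linter.style.haveILetI false
open Cfsg

namespace Cfsg.Agent.S0555

open Cfsg.Agent.Lib.Helper2

universe u

/-- A cyclic quotient `K / (L ∩ K)` yields a generator modulo `L`. -/
theorem exists_gen_mod {G : Type u} [Group G] (K L : Subgroup G) [hn : (L.subgroupOf K).Normal]
    (h : IsCyclic (↥K ⧸ L.subgroupOf K)) :
    ∃ c ∈ K, ∀ x ∈ K, ∃ k : ℤ, (c ^ k)⁻¹ * x ∈ L := by
  obtain ⟨g, hg⟩ := h.exists_generator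
  obtain ⟨c', rfl⟩ := QuotientGroup.mk_surjective g
  refine ⟨(c' : G), c'.2, ?_⟩
  intro x hx
  obtain ⟨k, hk⟩ := Subgroup.mem_zpowers_iff.1 (hg (QuotientGroup.mk (⟨x, hx⟩ : K)))
  refine ⟨k, ?_⟩
  have h1 : ((c' ^ k : K) : ↥K ⧸ L.subgroupOf K) = ((⟨x, hx⟩ : K) : ↥K ⧸ L.subgroupOf K) := by
    rw [← hk]; rfl
  rw [QuotientGroup.eq] at h1
  have h2 : ((c' ^ k)⁻¹ * (⟨x, hx⟩ : K) : K) ∈ L.subgroupOf K := h1
  rw [Subgroup.mem_subgroupOf] at h2
  simpa using h2

/-- Let i ≥ 1. If in the derived series of a group the quotient of the i-th term by the (i+1)-st and the quotient of the (i+1)-st by the (i+2)-nd are both cyclic, then the (i+1)-st and (i+2)-nd terms coincide. -/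
theorem result {G : Type*} [Group G] (i : ℕ) (hi : 1 ≤ i) (h₁ : IsCyclic (↥(derivedSeries G i) ⧸ (derivedSeries G (i + 1)).subgroupOf (derivedSeries G i))) (h₂ : IsCyclic (↥(derivedSeries G (i + 1)) ⧸ (derivedSeries G (i + 2)).subgroupOf (derivedSeries G (i + 1)))) : derivedSeries G (i + 1) = derivedSeries G (i + 2) := by
  apply le_antisymm _ (derivedSeries_antitone G (by omega))
  haveI hDn : (derivedSeries G (i + 2)).Normal := derivedSeries_normal G (i + 2)
  let π := QuotientGroup.mk' (derivedSeries G (i + 2))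
  have hπ : Function.Surjective π := QuotientGroup.mk'_surjective _
  have hker : π.ker = derivedSeries G (i + 2) := QuotientGroup.ker_mk' _
  obtain ⟨c, hc, hcgen⟩ := exists_gen_mod _ _ h₂
  obtain ⟨b, hb, hbgen⟩ := exists_gen_mod _ _ h₁
  set Q := G ⧸ derivedSeries G (i + 2) with hQ
  have hmapC : (derivedSeries G (i + 1)).map π = derivedSeries Q (i + 1) :=
    map_derivedSeries_eq hπ (i + 1)
  have hmapB : (derivedSeries G i).map π = derivedSeries Q i := map_derivedSeries_eq hπ i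
  -- C̄ is cyclic
  have hCz : derivedSeries Q (i + 1) = Subgroup.zpowers (π c) := by
    apply le_antisymm
    · rw [← hmapC]
      rintro _ ⟨x, hx, rfl⟩
      obtain ⟨k, hk⟩ := hcgen x hx
      rw [Subgroup.mem_zpowers_iff]
      refine ⟨k, ?_⟩
      have : π ((c ^ k)⁻¹ * x) = 1 := by
        rw [← MonoidHom.mem_ker, hker]; exact hk
      rw [map_mul, map_inv, map_zpow, inv_mul_eq_one] at this
      exact this
    · rw [Subgroup.zpowers_le, ← hmapC]
      exact ⟨c, hc, rfl⟩
  haveI hCn : (derivedSeries Q (i + 1)).Normal := derivedSeries_normal Q (i + 1)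
  haveI hCc : IsCyclic (derivedSeries Q (i + 1)) := by
    rw [hCz]; infer_instance
  have hcent : derivedSeries Q i ≤ Subgroup.centralizer (derivedSeries Q (i + 1) : Set Q) := by
    refine le_trans ?_ (commutator_le_centralizer_of_cyclic_normal (derivedSeries Q (i + 1)))
    rw [← derivedSeries_one]
    exact derivedSeries_antitone Q hi
  -- B̄ is commutative
  have hdecomp : ∀ x ∈ derivedSeries Q i, ∃ (k : ℤ) (y : Q), y ∈ derivedSeries Q (i + 1) ∧
      x = (π b) ^ k * y := by
    intro x hx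
    rw [← hmapB] at hx
    obtain ⟨x0, hx0, rfl⟩ := hx
    obtain ⟨k, hk⟩ := hbgen x0 hx0
    refine ⟨k, π ((b ^ k)⁻¹ * x0), ?_, ?_⟩
    · rw [← hmapC]; exact ⟨_, hk, rfl⟩
    · rw [map_mul, map_inv, map_zpow, mul_inv_cancel_left]
  have hbB : π b ∈ derivedSeries Q i := by rw [← hmapB]; exact ⟨b, hb, rfl⟩
  have hcomm : ∀ x ∈ derivedSeries Q i, ∀ y ∈ derivedSeries Q i, Commute x y := by
    intro x hx y hy
    obtain ⟨k, y1, hy1, rfl⟩ := hdecomp x hx
    obtain ⟨l, y2, hy2, rfl⟩ := hdecomp y hy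
    have hb1 : ∀ z ∈ derivedSeries Q (i + 1), Commute (π b) z := by
      intro z hz
      have := (Subgroup.mem_centralizer_iff.1 (hcent hbB)) z hz
      exact this.symm
    have hyy : Commute y1 y2 := by
      rw [hCz] at hy1 hy2
      obtain ⟨m1, rfl⟩ := Subgroup.mem_zpowers_iff.1 hy1
      obtain ⟨m2, rfl⟩ := Subgroup.mem_zpowers_iff.1 hy2
      exact (Commute.refl (π c)).zpow_zpow m1 m2
    have h1 : Commute (π b ^ k) (π b ^ l) := (Commute.refl (π b)).zpow_zpow k l
    have h2 : Commute (π b ^ k) y2 := (hb1 y2 hy2).zpow_left k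
    have h3 : Commute y1 (π b ^ l) := ((hb1 y1 hy1).zpow_left l).symm
    exact (h1.mul_right h2).mul_left (h3.mul_right hyy)
  have hbot : derivedSeries Q (i + 1) = ⊥ := by
    have hs : derivedSeries Q (i + 1) = ⁅derivedSeries Q i, derivedSeries Q i⁆ :=
      derivedSeries_succ Q i
    rw [hs, Subgroup.commutator_eq_bot_iff_le_centralizer]
    intro x hx
    rw [Subgroup.mem_centralizer_iff]
    intro y hy
    exact (hcomm y hy x hx).eq
  rw [← hmapC, Subgroup.map_eq_bot_iff, hker] at hbot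
  exact hbot

end Cfsg.Agent.S0555
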