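import Cfsg.Statements.S0557
import Mathlib
import Cfsg.Agent.Lib.Helper2.Index

set_option autoImplicit false
open Cfsg
open scoped commutatorElement

namespace Cfsg.Agent.S0557
set_option linter.style.haveILetI false

universe u

/-- Transfer into `H/H*` for a Hall subgroup `H`: the kernel `K` satisfies
`K ⊓ H = H*` and `K ⊔ H = ⊤`. -/
theorem hall_transfer {G : Type u} [Group G] [Finite G] (H : Subgroup G)
    (hHall : (Nat.card H).Coprime H.index) :
    ∃ K : Subgroup G, K.Normal ∧ K ⊓ H = H.focalSubgroup ∧ K ⊔ H = ⊤ := by
  classical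
  have hcop : (Nat.card (H ⧸ H.focalSubgroupOf)).Coprime H.index :=
    Nat.Coprime.coprime_dvd_left (Subgroup.card_quotient_dvd_card _) hHall
  have hbij := Nat.Coprime.pow_left_bijective hcop
  refine ⟨H.transferFocal.ker, inferInstance, ?_, ?_⟩
  · ext g
    constructor
    · rintro ⟨hgK, hgH⟩
      have h1 : H.transferFocal ((⟨g, hgH⟩ : H) : G) = 1 := hgK
      rw [Subgroup.transferFocal_eq_pow] at h1
      have h2 : ((⟨g, hgH⟩ : H) : H ⧸ H.focalSubgroupOf) = 1 := by
        apply hbij.injective
        simpa using h1
      rw [QuotientGroup.eq_one_iff] at h2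
      exact h2
    · intro hg
      have hgH := H.focalSubgroup_le hg
      refine ⟨?_, hgH⟩
      show H.transferFocal g = 1
      have h1 := Subgroup.transferFocal_eq_pow H ⟨g, hgH⟩
      have h2 : ((⟨g, hgH⟩ : H) : H ⧸ H.focalSubgroupOf) = 1 := by
        rw [QuotientGroup.eq_one_iff]
        exact hg
      rw [h2, one_pow] at h1
      exact h1
  · rw [eq_top_iff]
    intro g _
    obtain ⟨y, hy⟩ := hbij.surjective (H.transferFocal g)
    obtain ⟨h, rfl⟩ := QuotientGroup.mk_surjective y
    have h3 : H.transferFocal (h : G) = H.transferFocal g := by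
      rw [Subgroup.transferFocal_eq_pow]; exact hy
    have hk : g * (h : G)⁻¹ ∈ H.transferFocal.ker := by
      rw [MonoidHom.mem_ker, map_mul, map_inv, h3, mul_inv_cancel]
    have h4 : g = (g * (h : G)⁻¹) * h := by group
    rw [h4]
    exact mul_mem (Subgroup.mem_sup_left hk) (Subgroup.mem_sup_right h.2)

/-- Monotonicity of the focal subgroup under inclusion of ambient groups. -/
theorem map_focal_le {G : Type u} [Group G] (K : Subgroup G) (A : Subgroup K) (B : Subgroup G)
    (h : A.map K.subtype ≤ B) : (A.focalSubgroup).map K.subtype ≤ B.focalSubgroup := by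
  rw [Subgroup.map_le_iff_le_comap, Subgroup.focalSubgroup_def, Subgroup.closure_le]
  rintro g ⟨hgA, x, hxA, u, rfl⟩
  show K.subtype ⁅x, u⁆ ∈ B.focalSubgroup
  apply Subgroup.subset_closure
  refine ⟨h (Subgroup.mem_map_of_mem _ hgA), (x : G), h (Subgroup.mem_map_of_mem _ hxA), (u : G), ?_⟩
  simp [commutatorElement_def]

theorem map_iter_focal_le {G : Type u} [Group G] (K : Subgroup G) (n : ℕ) (A : Subgroup K)
    (B : Subgroup G) (h : A.map K.subtype ≤ B) :
    (((fun L : Subgroup K => Subgroup.focalSubgroup L)^[n]) A).map K.subtype ≤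
      ((fun L : Subgroup G => Subgroup.focalSubgroup L)^[n]) B := by
  induction n with
  | zero => simpa using h
  | succ n ih =>
    rw [Function.iterate_succ_apply', Function.iterate_succ_apply']
    exact map_focal_le K _ _ ih

theorem main (n : ℕ) : ∀ (G : Type u) [Group G] [Finite G] (H : Subgroup G),
    (Nat.card H).Coprime H.index →
    (fun K : Subgroup G => Subgroup.focalSubgroup K)^[n] H = ⊥ →
    ∃ N : Subgroup G, N.Normal ∧ Subgroup.IsComplement' N H := by
  induction n with
  | zero =>
    intro G _ _ H _ hfoc
    have hH : H = ⊥ := by simpa using hfoc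
    subst hH
    exact ⟨⊤, inferInstance, Subgroup.isComplement'_top_bot⟩
  | succ n ih =>
    intro G _ _ H hHall hfoc
    rw [Function.iterate_succ_apply] at hfoc
    obtain ⟨K, hKn, hKH, hKsup⟩ := hall_transfer H hHall
    haveI := hKn
    have hFK : H.focalSubgroup ≤ K := hKH ▸ inf_le_left
    have hFH : H.focalSubgroup ≤ H := H.focalSubgroup_le
    -- the subgroup of `K`
    set H' : Subgroup K := (H.focalSubgroup).subgroupOf K with hH'
    have hmapH' : H'.map K.subtype = H.focalSubgroup := by
      rw [hH', Subgroup.map_subgroupOf_eq_of_le hFK]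
    have hcardH' : Nat.card H' = Nat.card H.focalSubgroup := by
      rw [← hmapH']
      exact (Subgroup.card_map_of_injective K.subtype_injective).symm
    -- index of H' in K equals index of H in G
    have hidx : H'.index = H.index := by
      have h1 : H'.index = (K ⊓ H).relIndex K := by
        rw [hH', hKH]; rfl
      rw [h1, inf_comm, Subgroup.inf_relIndex_right]
      have h2 := Cfsg.Agent.Lib.Helper2.relIndex_sup_of_le_normalizer H K
        (by rw [Subgroup.normalizer_eq_top]; exact le_top)
      rw [sup_comm, hKsup, Subgroup.relIndex_top_right] at h2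
      exact h2.symm
    have hdvd : Nat.card H' ∣ Nat.card H := by
      rw [hcardH']; exact Subgroup.card_dvd_of_le hFH
    have hcop' : (Nat.card H').Coprime H'.index := by
      rw [hidx]; exact Nat.Coprime.coprime_dvd_left hdvd hHall
    have hfoc' : (fun L : Subgroup K => Subgroup.focalSubgroup L)^[n] H' = ⊥ := by
      have h1 := map_iter_focal_le K n H' H.focalSubgroup hmapH'.le
      rw [hfoc, le_bot_iff] at h1
      exact (Subgroup.map_eq_bot_iff_of_injective _ K.subtype_injective).mp h1
    obtain ⟨M, hMn, hMc⟩ := ih K H' hcop' hfoc'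
    haveI := hMn
    have hMcard : Nat.card M * Nat.card H' = Nat.card K := hMc.card_mul_card
    have hMidx : M.index = Nat.card H' := by
      have h1 := M.card_mul_index
      rw [← hMcard] at h1
      have hpos : 0 < Nat.card M := Nat.card_pos
      exact Nat.eq_of_mul_eq_mul_left hpos h1
    have hMcard' : Nat.card M = H.index := by
      have h1 := H'.card_mul_index
      rw [hidx, ← hMcard, mul_comm] at h1
      have hpos : 0 < Nat.card H' := Nat.card_pos
      exact (Nat.eq_of_mul_eq_mul_right hpos h1).symm
    have hcopM : (Nat.card M).Coprime M.index := by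
      rw [hMidx, hMcard']
      exact (Nat.Coprime.coprime_dvd_left hdvd hHall).symm
    -- any element of K whose order divides |M| lies in M
    have hmemM : ∀ k : K, orderOf k ∣ Nat.card M → k ∈ M := by
      intro k hk
      have h1 : orderOf ((k : K ⧸ M)) ∣ orderOf k := orderOf_map_dvd (QuotientGroup.mk' M) k
      have h2 : orderOf ((k : K ⧸ M)) ∣ M.index := by
        rw [Subgroup.index_eq_card]; exact orderOf_dvd_natCard _
      have h3 : orderOf ((k : K ⧸ M)) = 1 :=
        Nat.eq_one_of_dvd_coprimes hcopM (h1.trans hk) h2
      rw [orderOf_eq_one_iff, QuotientGroup.eq_one_iff] at h3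
      exact h3
    let N : Subgroup G := M.map K.subtype
    have hNcard : Nat.card N = H.index := by
      rw [← hMcard']
      exact Subgroup.card_map_of_injective K.subtype_injective
    have hNn : N.Normal := by
      constructor
      rintro _ ⟨m, hm, rfl⟩ g
      have hkK : g * (m : G) * g⁻¹ ∈ K := hKn.conj_mem _ m.2 g
      refine ⟨⟨g * (m : G) * g⁻¹, hkK⟩, ?_, rfl⟩
      apply hmemM
      have h1 : orderOf (⟨g * (m : G) * g⁻¹, hkK⟩ : K) = orderOf m := by
        rw [← Subgroup.orderOf_coe, ← Subgroup.orderOf_coe]
        have hsc : SemiconjBy g (m : G) (g * (m : G) * g⁻¹) := by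
          unfold SemiconjBy; group
        exact (hsc.orderOf_eq).symm
      rw [h1]
      exact Subgroup.orderOf_dvd_natCard M hm
    refine ⟨N, hNn, ?_⟩
    apply Subgroup.isComplement'_of_coprime
    · rw [hNcard, mul_comm]; exact H.card_mul_index
    · rw [hNcard]; exact hHall.symm

/-- Let H be a subgroup of a finite group G with order coprime to its index. If iterating the focal-subgroup construction starting from H reaches the trivial subgroup after finitely many steps, then H has a normal complement in G. -/
theorem result {G : Type*} [Group G] [Finite G] (H : Subgroup G) (hHall : (Nat.card H).Coprime H.index) (n : ℕ) (hfoc : (fun K : Subgroup G => Subgroup.focalSubgroup K)^[n] H = ⊥) : ∃ N : Subgroup G, N.Normal ∧ Subgroup.IsComplement' N H := by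
  exact main n G H hHall hfoc

end Cfsg.Agent.S0557
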