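import Cfsg.Statements.S0556
import Mathlib
import Cfsg.Agent.Lib.Helper2.FrobCount
import Cfsg.Agent.Lib.Helper2.Coatom
import Cfsg.Agent.Lib.Helper2.Nilp
import Cfsg.Agent.Lib.Helper2.Index
import Cfsg.Agent.S0557
import Cfsg.Agent.S0023

set_option autoImplicit false
open Cfsg
open scoped commutatorElement
open Pointwise

namespace Cfsg.Agent.S0556
set_option linter.style.haveILetI false
set_option linter.deprecated false

open Cfsg.Agent.Lib.Helper2

universe u

open scoped IsMulCommutative in
theorem solvable_of_comm {G : Type*} [Group G] (N : Subgroup G) (h : IsMulCommutative N) :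
    Group.IsSolvable N := by
  infer_instance

theorem comm_of_isMulCommutative {G : Type*} [Group G] (N : Subgroup G) (h : IsMulCommutative N) :
    ∀ a ∈ N, ∀ b ∈ N, a * b = b * a := by
  intro a ha b hb
  have h0 := h.is_comm.comm (⟨a, ha⟩ : N) ⟨b, hb⟩
  exact congrArg Subtype.val h0

theorem commutator_self_eq_bot {G : Type*} [Group G] (N : Subgroup G) (h : IsMulCommutative N) :
    ⁅N, N⁆ = ⊥ := by
  rw [Subgroup.commutator_eq_bot_iff_le_centralizer]
  intro a ha
  rw [Subgroup.mem_centralizer_iff]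
  intro b hb
  exact comm_of_isMulCommutative N h b hb a ha

/-- The quotient by a normal coatom is commutative. -/
theorem commutator_le_of_normal_coatom {N : Type*} [Group N] (L : Subgroup N) (hL : IsCoatom L)
    [hLn : L.Normal] : commutator N ≤ L := by
  have hsub : ∀ K' : Subgroup (N ⧸ L), K' = ⊥ ∨ K' = ⊤ := by
    intro K'
    have h1 : L ≤ K'.comap (QuotientGroup.mk' L) := by
      intro x hx
      rw [Subgroup.mem_comap, QuotientGroup.mk'_apply, (QuotientGroup.eq_one_iff x).2 hx]
      exact K'.one_mem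
    rcases hL.le_iff.1 h1 with h2 | h2
    · right
      apply Subgroup.comap_injective (QuotientGroup.mk'_surjective L)
      rw [h2, Subgroup.comap_top]
    · left
      apply Subgroup.comap_injective (QuotientGroup.mk'_surjective L)
      rw [h2, MonoidHom.comap_bot, QuotientGroup.ker_mk']
  have hcomm : IsMulCommutative (N ⧸ L) := by
    refine ⟨⟨fun x y => ?_⟩⟩
    by_cases hx : x = 1
    · rw [hx, one_mul, mul_one]
    · rcases hsub (Subgroup.zpowers x) with h | h
      · exact (hx (Subgroup.zpowers_eq_bot.1 h)).elim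
      · have hy : y ∈ Subgroup.zpowers x := by rw [h]; exact Subgroup.mem_top y
        obtain ⟨k, rfl⟩ := Subgroup.mem_zpowers_iff.1 hy
        exact ((Commute.refl x).zpow_right k).eq
  exact Subgroup.Normal.quotient_commutative_iff_commutator_le.1 hcomm

theorem ds2_of_normal {G : Type*} [Group G] (A : Subgroup G) (hA : IsCoatom A)
    (hAc : IsMulCommutative A) (hAn : A.Normal) : derivedSeries G 2 = ⊥ := by
  have h1 : derivedSeries G 1 ≤ A := by
    rw [derivedSeries_one]; exact commutator_le_of_normal_coatom A hA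
  rw [derivedSeries_succ, eq_bot_iff, ← commutator_self_eq_bot A hAc]
  exact Subgroup.commutator_mono h1 h1

theorem frob_abelian_coatom {Γ : Type u} [Group Γ] [Finite Γ] (H : Subgroup Γ)
    (hH : IsCoatom H) (hHc : IsMulCommutative H) (hHn : ¬ H.Normal)
    (hTI : ∀ g : Γ, g ∉ H → H ⊓ (MulAut.conj g • H) = ⊥) : derivedSeries Γ 2 = ⊥ := by
  classical
  have hHbot : H ≠ ⊥ := by
    intro h
    apply hHn
    rw [h]
    infer_instance
  have hFC : Cfsg.IsFrobeniusComplement H := ⟨hHbot, hH.1, hTI⟩
  have hHall : (Nat.card H).Coprime H.index := frob_coprime_index H hFC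
  have hcomm := comm_of_isMulCommutative H hHc
  have hfoc : H.focalSubgroup = ⊥ := by
    rw [Subgroup.focalSubgroup_def, Subgroup.closure_eq_bot_iff]
    rintro g ⟨hgH, x, hxH, v, rfl⟩
    rw [Set.mem_singleton_iff, commutatorElement_eq_one_iff_mul_comm]
    by_cases hv : v ∈ H
    · exact hcomm x hxH v hv
    · have hy : v * x⁻¹ * v⁻¹ ∈ H := by
        have h0 : v * x⁻¹ * v⁻¹ = x⁻¹ * ⁅x, v⁆ := by rw [commutatorElement_def]; group
        rw [h0]; exact H.mul_mem (H.inv_mem hxH) hgH
      have hy' : v * x⁻¹ * v⁻¹ ∈ MulAut.conj v • H := by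
        rw [mem_conj_smul_iff]
        have h0 : v⁻¹ * (v * x⁻¹ * v⁻¹) * v = x⁻¹ := by group
        rw [h0]; exact H.inv_mem hxH
      have h1 : v * x⁻¹ * v⁻¹ ∈ H ⊓ MulAut.conj v • H := Subgroup.mem_inf.mpr ⟨hy, hy'⟩
      rw [hTI v hv, Subgroup.mem_bot] at h1
      have hx1 : x = 1 := by
        have h2 : x⁻¹ = v⁻¹ * (v * x⁻¹ * v⁻¹) * v := by group
        rw [h1] at h2
        have h3 : x⁻¹ = 1 := by rw [h2]; group
        exact inv_eq_one.mp h3
      rw [hx1, one_mul, mul_one]
  obtain ⟨K, hKn, hKH, hKsup⟩ := Cfsg.Agent.S0557.hall_transfer H hHall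
  rw [hfoc] at hKH
  haveI := hKn
  have hcomK : commutator Γ ≤ K :=
    Subgroup.Normal.commutator_le_of_self_sup_commutative_eq_top hKsup hHc
  have hsub : ∀ X : Subgroup Γ, X ≤ K → H ≤ Subgroup.normalizer (X : Set Γ) → X ≠ ⊥ → K ≤ X := by
    intro X hXK hHX hX
    have hlt : H < H ⊔ X := by
      refine lt_of_le_of_ne le_sup_left (fun h => hX ?_)
      have hXH : X ≤ H := le_sup_right.trans h.ge
      rw [eq_bot_iff, ← hKH]
      exact le_inf hXK hXH
    have htop : H ⊔ X = ⊤ := hH.2 _ hlt
    intro k hk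
    have hk' : k ∈ H ⊔ X := htop ▸ Subgroup.mem_top k
    obtain ⟨h, hh, x, hx, hkx⟩ := exists_mul_of_mem_sup_of_le_normalizer hHX hk'
    have hhK : h ∈ K := by
      have h0 : h = k * x⁻¹ := by rw [hkx]; group
      rw [h0]; exact K.mul_mem hk (K.inv_mem (hXK hx))
    have h1 : h ∈ K ⊓ H := Subgroup.mem_inf.mpr ⟨hhK, hh⟩
    rw [hKH, Subgroup.mem_bot] at h1
    rw [hkx, h1, one_mul]; exact hx
  have hKbot : K ≠ ⊥ := by
    intro h
    apply hH.1
    rw [h, bot_sup_eq] at hKsup
    exact hKsup
  have hKcard : Nat.card K = H.index := by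
    have h1 := card_sup_mul_card_inf H K
      (by rw [Subgroup.normalizer_eq_top]; exact le_top)
    rw [sup_comm, hKsup, inf_comm, hKH, Subgroup.card_top, Subgroup.card_bot, mul_one,
      ← H.card_mul_index] at h1
    exact (Nat.eq_of_mul_eq_mul_left Nat.card_pos h1).symm
  have hcop : (Nat.card H).Coprime (Nat.card K) := by rw [hKcard]; exact hHall
  have hK1 : Nat.card K ≠ 1 := fun h => hKbot (Subgroup.card_eq_one.mp h)
  obtain ⟨r, hr, hrK⟩ := Nat.exists_prime_and_dvd hK1
  haveI : Fact r.Prime := ⟨hr⟩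
  have hHK : H ≤ Subgroup.normalizer (K : Set Γ) := by
    rw [Subgroup.normalizer_eq_top]; exact le_top
  obtain ⟨R, hR⟩ := Cfsg.Agent.S0023.result H K hHK hcop (Or.inl (solvable_of_comm H hHc)) r
  have hRbot : (R : Subgroup K).map K.subtype ≠ ⊥ := by
    intro h
    rw [Subgroup.map_eq_bot_iff_of_injective _ K.subtype_injective] at h
    exact R.ne_bot_of_dvd_card hrK h
  have hKR : K ≤ (R : Subgroup K).map K.subtype :=
    hsub _ (Subgroup.map_subtype_le _) hR hRbot
  have hKp : IsPGroup r K := (R.isPGroup'.map K.subtype).to_le hKR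
  have hKnil : Group.IsNilpotent K := hKp.isNilpotent
  have hK' : ⁅K, K⁆ = ⊥ := by
    by_contra hne
    have hnorm : H ≤ Subgroup.normalizer ((⁅K, K⁆ : Subgroup Γ) : Set Γ) := by
      rw [Subgroup.normalizer_eq_top]; exact le_top
    have h1 := hsub ⁅K, K⁆ (Subgroup.commutator_le_self K) hnorm hne
    have h2 : K = ⁅K, K⁆ := le_antisymm h1 (Subgroup.commutator_le_self K)
    exact hKbot (eq_bot_of_eq_commutator_of_nilpotent le_rfl hKnil h2)
  have h1 : derivedSeries Γ 1 ≤ K := by rw [derivedSeries_one]; exact hcomK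
  rw [derivedSeries_succ, eq_bot_iff, ← hK']
  exact Subgroup.commutator_mono h1 h1

/-- If a finite group has a maximal subgroup that is abelian, then the third term of its derived series is trivial (so the group is solvable of derived length at most three). -/
theorem result {G : Type*} [Group G] [Finite G] (A : Subgroup G) (hA : IsCoatom A) [IsMulCommutative A] : derivedSeries G 3 = ⊥ := by
  classical
  have hAc : IsMulCommutative A := inferInstance
  have hcomm := comm_of_isMulCommutative A hAc
  by_cases hAn : A.Normal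
  · have h2 := ds2_of_normal A hA hAc hAn
    rw [derivedSeries_succ, h2, Subgroup.commutator_bot_left]
  · set Z := Subgroup.center G with hZ
    have hZA : Z ≤ A := by
      by_contra hZA
      apply hAn
      have hlt : A < A ⊔ Z := by
        exact lt_of_le_of_ne le_sup_left (fun h => hZA (le_sup_right.trans h.ge))
      have htop : A ⊔ Z = ⊤ := hA.2 _ hlt
      constructor
      intro n hn g
      have hg : g ∈ A ⊔ Z := htop ▸ Subgroup.mem_top g
      obtain ⟨a, ha, z, hz, rfl⟩ := Subgroup.mem_sup_of_normal_right.mp hg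
      have hz' := Subgroup.mem_center_iff.mp hz
      have h0 : a * z * n * (a * z)⁻¹ = a * n * a⁻¹ := by
        have h1 : z * n = n * z := (hz' n).symm
        calc a * z * n * (a * z)⁻¹ = a * (z * n) * z⁻¹ * a⁻¹ := by group
          _ = a * (n * z) * z⁻¹ * a⁻¹ := by rw [h1]
          _ = a * n * a⁻¹ := by group
      rw [h0]
      exact A.mul_mem (A.mul_mem ha hn) (A.inv_mem ha)
    have hNA : Subgroup.normalizer (A : Set G) = A := by
      rcases hA.le_iff.mp (Subgroup.le_normalizer : A ≤ Subgroup.normalizer (A : Set G)) with h | h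
      · exact absurd (Subgroup.normalizer_eq_top_iff.mp h) hAn
      · exact h
    have hTI : ∀ g : G, g ∉ A → A ⊓ MulAut.conj g • A ≤ Z := by
      intro g hg x hx
      obtain ⟨hxA, hxg⟩ := Subgroup.mem_inf.mp hx
      have hAC : A ≤ Subgroup.centralizer ({x} : Set G) := by
        intro a ha
        rw [Subgroup.mem_centralizer_iff]
        intro y hy
        rw [Set.mem_singleton_iff] at hy
        rw [hy]; exact hcomm x hxA a ha
      have hgAC : MulAut.conj g • A ≤ Subgroup.centralizer ({x} : Set G) := by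
        intro b hb
        rw [Subgroup.mem_centralizer_iff]
        intro y hy
        rw [Set.mem_singleton_iff] at hy
        rw [hy]
        rw [mem_conj_smul_iff] at hb hxg
        have h1 := hcomm _ hxg _ hb
        -- g⁻¹ x g * g⁻¹ b g = g⁻¹ b g * g⁻¹ x g
        have h2 : x * b = g * ((g⁻¹ * x * g) * (g⁻¹ * b * g)) * g⁻¹ := by group
        have h3 : b * x = g * ((g⁻¹ * b * g) * (g⁻¹ * x * g)) * g⁻¹ := by group
        rw [h2, h3, h1]
      have hnle : ¬ MulAut.conj g • A ≤ A := by
        intro hle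
        apply hg
        have heq : MulAut.conj g • A = A := by
          apply Subgroup.eq_of_le_of_card_ge hle
          rw [card_conj_smul]
        have hgN : g ∈ Subgroup.normalizer (A : Set G) :=
          (mem_normalizer_iff_conj_smul_eq A g).mpr heq
        rw [hNA] at hgN
        exact hgN
      have hlt : A < A ⊔ MulAut.conj g • A := by
        exact lt_of_le_of_ne le_sup_left (fun h => hnle (le_sup_right.trans h.ge))
      have htop : A ⊔ MulAut.conj g • A = ⊤ := hA.2 _ hlt
      have hC : (⊤ : Subgroup G) ≤ Subgroup.centralizer ({x} : Set G) := by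
        rw [← htop]; exact sup_le hAC hgAC
      rw [hZ, Subgroup.mem_center_iff]
      intro y
      have hy := hC (Subgroup.mem_top y)
      rw [Subgroup.mem_centralizer_iff] at hy
      exact (hy x (Set.mem_singleton x)).symm
    have hπ : Function.Surjective (QuotientGroup.mk' Z) := QuotientGroup.mk'_surjective Z
    have hcoat : IsCoatom (A.map (QuotientGroup.mk' Z)) := isCoatom_map_mk' Z hA hZA
    have hcommQ : IsMulCommutative (A.map (QuotientGroup.mk' Z)) := by
      refine ⟨⟨?_⟩⟩
      rintro ⟨a, ha⟩ ⟨b, hb⟩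
      apply Subtype.ext
      obtain ⟨a0, ha0, rfl⟩ := Subgroup.mem_map.mp ha
      obtain ⟨b0, hb0, rfl⟩ := Subgroup.mem_map.mp hb
      show QuotientGroup.mk' Z a0 * QuotientGroup.mk' Z b0 =
        QuotientGroup.mk' Z b0 * QuotientGroup.mk' Z a0
      rw [← map_mul, ← map_mul, hcomm a0 ha0 b0 hb0]
    have hmemA : ∀ y : G, QuotientGroup.mk' Z y ∈ A.map (QuotientGroup.mk' Z) → y ∈ A := by
      intro y hy
      obtain ⟨a, ha, hay⟩ := Subgroup.mem_map.mp hy
      have h1 : a⁻¹ * y ∈ Z := QuotientGroup.eq.mp hay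
      have h2 : y = a * (a⁻¹ * y) := by group
      rw [h2]; exact A.mul_mem ha (hZA h1)
    have hnn : ¬ (A.map (QuotientGroup.mk' Z)).Normal := by
      intro h
      apply hAn
      constructor
      intro n hn g
      apply hmemA
      rw [map_mul, map_mul, map_inv]
      exact h.conj_mem _ (Subgroup.mem_map_of_mem _ hn) _
    have hTI' : ∀ g : G ⧸ Z, g ∉ A.map (QuotientGroup.mk' Z) →
        A.map (QuotientGroup.mk' Z) ⊓ MulAut.conj g • A.map (QuotientGroup.mk' Z) = ⊥ := by
      intro gb hgb
      obtain ⟨g, rfl⟩ := hπ gb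
      have hg : g ∉ A := fun h => hgb (Subgroup.mem_map_of_mem _ h)
      rw [eq_bot_iff]
      intro xb hxb
      obtain ⟨hx1, hx2⟩ := Subgroup.mem_inf.mp hxb
      obtain ⟨a, ha, rfl⟩ := Subgroup.mem_map.mp hx1
      rw [mem_conj_smul_iff, ← map_inv, ← map_mul, ← map_mul] at hx2
      have h1 : g⁻¹ * a * g ∈ A := hmemA _ hx2
      have h2 : a ∈ MulAut.conj g • A := by rw [mem_conj_smul_iff]; exact h1
      have h3 : a ∈ Z := hTI g hg (Subgroup.mem_inf.mpr ⟨ha, h2⟩)
      rw [Subgroup.mem_bot]
      exact (QuotientGroup.eq_one_iff a).mpr h3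
    have h2 := frob_abelian_coatom (A.map (QuotientGroup.mk' Z)) hcoat hcommQ hnn hTI'
    have h3 : derivedSeries G 2 ≤ Z := by
      have h4 := map_derivedSeries_le_derivedSeries (QuotientGroup.mk' Z) 2
      rw [h2, le_bot_iff, Subgroup.map_eq_bot_iff, QuotientGroup.ker_mk'] at h4
      exact h4
    rw [derivedSeries_succ, eq_bot_iff]
    calc ⁅derivedSeries G 2, derivedSeries G 2⁆ ≤ ⁅Z, Z⁆ := Subgroup.commutator_mono h3 h3
      _ = ⊥ := by
        rw [Subgroup.commutator_eq_bot_iff_le_centralizer]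
        exact Subgroup.center_le_centralizer _

end Cfsg.Agent.S0556
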