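import Cfsg.Statements.S0581
import Mathlib
import Cfsg.Agent.Lib.Helper4.Schmidt
import Cfsg.Agent.Lib.Helper4.Frobenius3
import Cfsg.Agent.Lib.Helper4.CoprimeSylow
import Cfsg.Agent.Lib.Helper2.Conj
import Cfsg.Agent.Lib.Helper2.CoprimeIndex

set_option autoImplicit false
open Cfsg
open Pointwise

namespace Cfsg.Agent.S0581
set_option linter.style.haveILetI false
set_option linter.deprecated false

open Cfsg.Agent.Lib.Helper2

universe u

variable {G : Type u} [Group G]

/-- Sylow's theorem relative to a subgroup `N` containing a Sylow subgroup of `G`. -/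
theorem rel_sylow [Finite G] {p : ℕ} [Fact p.Prime] (N : Subgroup G) (P : Sylow p G)
    (hPN : (P : Subgroup G) ≤ N) (Q : Subgroup G) (hQ : IsPGroup p Q) (hQN : Q ≤ N) :
    ∃ n ∈ N, Q ≤ MulAut.conj n • (P : Subgroup G) := by
  let P' : Sylow p N := P.subtype hPN
  have hQ' : IsPGroup p (Q.subgroupOf N) := hQ.comap_subtype
  obtain ⟨R, hR⟩ := hQ'.exists_le_sylow
  obtain ⟨n, hn⟩ := MulAction.exists_smul_eq N P' R
  refine ⟨(n : G), n.2, ?_⟩
  intro y hy
  have h1 : (⟨y, hQN hy⟩ : N) ∈ (R : Subgroup N) := hR (Subgroup.mem_subgroupOf.mpr hy)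
  rw [← hn, Sylow.smul_def, Sylow.pointwise_smul_def, mem_conj_smul_iff] at h1
  rw [mem_conj_smul_iff]
  have h2 : n⁻¹ * ⟨y, hQN hy⟩ * n ∈ (P : Subgroup G).subgroupOf N := h1
  exact Subgroup.mem_subgroupOf.mp h2

theorem map_subtype_lt_of_ne_top (K : Subgroup G) (M1 : Subgroup K) (h : M1 ≠ ⊤) :
    M1.map K.subtype < K := by
  refine lt_of_le_of_ne (Subgroup.map_subtype_le _) (fun heq => h ?_)
  rw [eq_top_iff]
  intro y _
  have hy : (y : G) ∈ M1.map K.subtype := by rw [heq]; exact y.2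
  obtain ⟨z, hz, hzy⟩ := hy
  have h0 : z = y := Subtype.ext hzy
  rw [← h0]; exact hz

theorem step [Finite G] (H : Subgroup G) (hH : Group.IsNilpotent H)
    (hHall : (Nat.card H).Coprime H.index) (K M : Subgroup G) (p : ℕ) [hp : Fact p.Prime]
    (hMK : M ≤ K) (hMn : K ≤ Subgroup.normalizer (M : Set G)) (hMH : M ≤ H)
    (hidx : ∃ k, M.relIndex K = p ^ k) (hpH : p ∣ Nat.card H) :
    ∃ x : G, K ≤ MulAut.conj x • H := by
  classical
  haveI := hH
  obtain ⟨C, hCn, hCcard, hCq⟩ := Cfsg.Agent.Lib.Helper4.frob_hasNormalPComplement p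
    (Nat.card H) H rfl (Cfsg.Agent.Lib.Helper4.frobHyp_of_isNilpotent p)
  haveI := hCn
  have hCmem : ∀ g : H, g ∈ C ↔ (orderOf g).Coprime p :=
    Cfsg.Agent.Lib.Helper4.mem_iff_coprime_of_normal_hall p C hCcard hCq
  obtain ⟨S⟩ : Nonempty (Sylow p H) := inferInstance
  have hSn : (S : Subgroup H).Normal := inferInstance
  set S' : Subgroup G := (S : Subgroup H).map H.subtype with hS'
  set C' : Subgroup G := C.map H.subtype with hC'
  have hS'p : IsPGroup p S' := S.isPGroup'.map H.subtype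
  have hS'idx : ¬ p ∣ S'.index := by
    rw [hS', Subgroup.index_map_subtype]
    intro h
    rcases (Nat.Prime.dvd_mul hp.out).mp h with h1 | h1
    · exact S.not_dvd_index h1
    · exact (Nat.Prime.not_coprime_iff_dvd.mpr ⟨p, hp.out, hpH, h1⟩) hHall
  let P0 : Sylow p G := hS'p.toSylow hS'idx
  have hSC : ∀ s ∈ S', ∀ c ∈ C', s * c = c * s := by
    rintro _ ⟨s, hs, rfl⟩ _ ⟨c, hc, rfl⟩
    have hdisj : Disjoint (S : Subgroup H) C := by
      rw [disjoint_iff]
      apply Subgroup.inf_eq_bot_of_coprime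
      obtain ⟨a, ha⟩ := IsPGroup.iff_card.mp S.isPGroup'
      rw [ha]
      exact Nat.Coprime.pow_left a hCcard.symm
    have h1 := Subgroup.commute_of_normal_of_disjoint _ _ hSn hCn hdisj s c hs hc
    have h2 := congrArg Subtype.val h1.eq
    simpa using h2
  set T : Subgroup G := M ⊓ C' with hT
  have hTmem : ∀ x : G, x ∈ T ↔ x ∈ M ∧ (orderOf x).Coprime p := by
    intro x
    rw [hT, Subgroup.mem_inf]
    constructor
    · rintro ⟨hxM, hxC⟩
      refine ⟨hxM, ?_⟩
      obtain ⟨c, hc, rfl⟩ := hxC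
      rw [Subgroup.subtype_apply, Subgroup.orderOf_coe]
      exact (hCmem c).mp hc
    · rintro ⟨hxM, hx⟩
      refine ⟨hxM, ⟨⟨x, hMH hxM⟩, ?_, rfl⟩⟩
      rw [SetLike.mem_coe, hCmem, Subgroup.orderOf_mk]
      exact hx
  have hKT : ∀ k ∈ K, ∀ x ∈ T, k * x * k⁻¹ ∈ T := by
    intro k hk x hx
    rw [hTmem] at hx ⊢
    refine ⟨(Subgroup.mem_normalizer_iff.mp (hMn hk) x).mp hx.1, ?_⟩
    have hsc : SemiconjBy k x (k * x * k⁻¹) := by unfold SemiconjBy; group
    rw [← hsc.orderOf_eq]; exact hx.2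
  have hKN : K ≤ Subgroup.normalizer (T : Set G) := by
    intro k hk
    rw [Subgroup.mem_normalizer_iff]
    intro x
    constructor
    · exact hKT k hk x
    · intro hx
      have h1 := hKT k⁻¹ (K.inv_mem hk) _ hx
      have h2 : k⁻¹ * (k * x * k⁻¹) * k⁻¹⁻¹ = x := by group
      rwa [h2] at h1
  have hSN : S' ≤ Subgroup.normalizer (T : Set G) := by
    intro s hs
    rw [Subgroup.mem_normalizer_iff]
    intro x
    constructor
    · intro hx
      have h1 := hSC s hs x (Subgroup.mem_inf.mp hx).2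
      have h2 : s * x * s⁻¹ = x := by rw [h1]; group
      rw [h2]; exact hx
    · intro hx
      have h1 := hSC s⁻¹ (S'.inv_mem hs) _ (Subgroup.mem_inf.mp hx).2
      have h2 : x = s⁻¹ * (s * x * s⁻¹) * s := by group
      rw [h2, h1]
      have h3 : s * x * s⁻¹ * s⁻¹ * s = s * x * s⁻¹ := by group
      rw [h3]; exact hx
  obtain ⟨Q1⟩ : Nonempty (Sylow p K) := inferInstance
  set Q1' : Subgroup G := (Q1 : Subgroup K).map K.subtype with hQ1'
  have hQ1p : IsPGroup p Q1' := Q1.isPGroup'.map K.subtype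
  have hQ1K : Q1' ≤ K := Subgroup.map_subtype_le _
  obtain ⟨n, hnN, hnQ⟩ := rel_sylow (Subgroup.normalizer (T : Set G)) P0 hSN Q1' hQ1p
    (hQ1K.trans hKN)
  refine ⟨n, ?_⟩
  have hKle : K ≤ T ⊔ Q1' := by
    have hJK : T ⊔ Q1' ≤ K := sup_le (inf_le_left.trans hMK) hQ1K
    rw [← Subgroup.relIndex_eq_one]
    have h1 : (T ⊔ Q1').relIndex K ∣ T.relIndex K :=
      Subgroup.relIndex_dvd_of_le_left K (le_sup_left : T ≤ T ⊔ Q1')
    have h2 : (T ⊔ Q1').relIndex K ∣ Q1'.relIndex K :=
      Subgroup.relIndex_dvd_of_le_left K (le_sup_right : Q1' ≤ T ⊔ Q1')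
    have h3 : ∃ j, T.relIndex K = p ^ j := by
      obtain ⟨k, hk⟩ := hidx
      have h4 : T.relIndex M * M.relIndex K = T.relIndex K :=
        Subgroup.relIndex_mul_relIndex T M K inf_le_left hMK
      let φ : M →* H ⧸ C := (QuotientGroup.mk' C).comp (Subgroup.inclusion hMH)
      have hker : T.subgroupOf M = φ.ker := by
        ext x
        rw [Subgroup.mem_subgroupOf, MonoidHom.mem_ker]
        show (x : G) ∈ T ↔ QuotientGroup.mk' C (Subgroup.inclusion hMH x) = 1
        rw [QuotientGroup.mk'_apply, QuotientGroup.eq_one_iff, hT, Subgroup.mem_inf]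
        constructor
        · rintro ⟨-, c, hc, hcx⟩
          have h0 : c = Subgroup.inclusion hMH x := Subtype.ext hcx
          rw [← h0]; exact hc
        · intro h
          exact ⟨x.2, ⟨Subgroup.inclusion hMH x, h, rfl⟩⟩
      have h5 : T.relIndex M ∣ Nat.card (H ⧸ C) := by
        rw [Subgroup.relIndex, hker, Subgroup.index_ker]
        exact Subgroup.card_subgroup_dvd_card _
      obtain ⟨j, hj⟩ := IsPGroup.iff_card.mp hCq
      rw [hj] at h5
      obtain ⟨i, -, hi⟩ := (Nat.dvd_prime_pow hp.out).mp h5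
      exact ⟨i + k, by rw [← h4, hi, hk, pow_add]⟩
    obtain ⟨j, hj⟩ := h3
    rw [hj] at h1
    obtain ⟨t, -, ht⟩ := (Nat.dvd_prime_pow hp.out).mp h1
    have h6 : ¬ p ∣ Q1'.relIndex K := Cfsg.Agent.Lib.Helper4.sylow_map_relIndex K Q1
    have ht0 : t = 0 := by
      by_contra h0
      apply h6
      refine dvd_trans ?_ h2
      rw [ht]; exact dvd_pow_self p h0
    rw [ht, ht0, pow_zero]
  refine hKle.trans (sup_le ?_ ?_)
  · intro x hx
    rw [mem_conj_smul_iff]
    have hn' : n⁻¹ ∈ Subgroup.normalizer (T : Set G) := inv_mem hnN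
    have h1 := (Subgroup.mem_normalizer_iff.mp hn' x).mp hx
    rw [inv_inv] at h1
    exact hMH (Subgroup.mem_inf.mp h1).1
  · intro y hy
    have h1 := hnQ hy
    rw [mem_conj_smul_iff] at h1 ⊢
    have h2 : n⁻¹ * y * n ∈ S' := h1
    exact (Subgroup.map_subtype_le _) h2

theorem main [Finite G] (H : Subgroup G) (hH : Group.IsNilpotent H)
    (hHall : (Nat.card H).Coprime H.index) : ∀ (n : ℕ) (K : Subgroup G), Nat.card K = n →
    (∀ p : ℕ, p.Prime → p ∣ Nat.card K → p ∣ Nat.card H) →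
    ∃ x : G, K ≤ MulAut.conj x • H := by
  intro n
  induction n using Nat.strong_induction_on with
  | _ n ih =>
  intro K hKn hK
  classical
  by_cases hKbot : K = ⊥
  · exact ⟨1, by rw [hKbot]; exact bot_le⟩
  have hIH : ∀ L : Subgroup G, L < K → ∃ x : G, L ≤ MulAut.conj x • H := by
    intro L hL
    have hcard : Nat.card L < Nat.card K := Cfsg.Agent.Lib.Helper4.card_lt_card_of_lt hL
    apply ih (Nat.card L) (hKn ▸ hcard) L rfl
    intro p hp hpL
    exact hK p hp (hpL.trans (Subgroup.card_dvd_of_le hL.le))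
  have hnilconj : ∀ x : G, Group.IsNilpotent (MulAut.conj x • H : Subgroup G) := by
    intro x
    haveI := hH
    exact Group.nilpotent_of_mulEquiv (Subgroup.equivSMul (MulAut.conj x) H)
  have hnil_of_lt : ∀ L : Subgroup G, L < K → Group.IsNilpotent L := by
    intro L hL
    obtain ⟨x, hx⟩ := hIH L hL
    haveI := hnilconj x
    exact Group.nilpotent_of_mulEquiv (Subgroup.subgroupOfEquivOfLe hx)
  haveI hKsolv : Group.IsSolvable K := by
    apply Cfsg.Agent.Lib.Helper4.schmidt _ K rfl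
    intro M1 hM1
    have hlt := map_subtype_lt_of_ne_top K M1 hM1.1
    haveI := hnil_of_lt _ hlt
    exact Group.nilpotent_of_mulEquiv (M1.equivMapOfInjective K.subtype K.subtype_injective).symm
  haveI : Nontrivial K := (Subgroup.nontrivial_iff_ne_bot K).mpr hKbot
  obtain ⟨M0, hM0, hcM0⟩ := (eq_top_or_exists_le_coatom (commutator K)).resolve_left
    (Group.IsSolvable.commutator_lt_top_of_nontrivial K).ne
  haveI hM0n : M0.Normal := Subgroup.Normal.of_commutator_le (h := hcM0)
  have hidx1 : M0.index ≠ 1 := fun h => hM0.1 (Subgroup.index_eq_one.mp h)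
  obtain ⟨p, hp, hpidx⟩ := Nat.exists_prime_and_dvd hidx1
  haveI : Fact p.Prime := ⟨hp⟩
  obtain ⟨Q⟩ : Nonempty (Sylow p K) := inferInstance
  have hQM : ¬ (Q : Subgroup K) ≤ M0 := by
    intro h
    exact Q.not_dvd_index (hpidx.trans (Subgroup.index_dvd_of_le h))
  have hsup : M0 ⊔ Q = ⊤ :=
    hM0.2 _ (lt_of_le_of_ne le_sup_left (fun h => hQM (le_sup_right.trans h.ge)))
  have hidx : ∃ k, M0.index = p ^ k := by
    have h2 : M0.index = M0.relIndex Q := by
      rw [← Subgroup.relIndex_top_right, ← hsup, Subgroup.relIndex_sup_left]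
    obtain ⟨b, hb⟩ := IsPGroup.iff_card.mp Q.isPGroup'
    have h3 : M0.index ∣ p ^ b := by rw [h2, ← hb]; exact Subgroup.relIndex_dvd_card M0 Q
    obtain ⟨i, -, hi⟩ := (Nat.dvd_prime_pow hp).mp h3
    exact ⟨i, hi⟩
  set M : Subgroup G := M0.map K.subtype with hM
  have hMK : M ≤ K := Subgroup.map_subtype_le _
  have hMsub : M.subgroupOf K = M0 :=
    Subgroup.comap_map_eq_self_of_injective K.subtype_injective M0
  have hMn : K ≤ Subgroup.normalizer (M : Set G) :=
    le_normalizer_of_subgroupOf_normal hMK (by rw [hMsub]; exact hM0n)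
  have hMlt : M < K := map_subtype_lt_of_ne_top K M0 hM0.1
  obtain ⟨y, hy⟩ := hIH M hMlt
  have hpK : p ∣ Nat.card K := hpidx.trans (Subgroup.index_dvd_card M0)
  have hpH : p ∣ Nat.card H := hK p hp hpK
  have hH'card : Nat.card (MulAut.conj y • H : Subgroup G) = Nat.card H := card_conj_smul y H
  have hH'idx : (MulAut.conj y • H : Subgroup G).index = H.index := index_conj_smul y H
  have hidx' : ∃ k, M.relIndex K = p ^ k := by
    obtain ⟨k, hk⟩ := hidx
    exact ⟨k, by rw [Subgroup.relIndex, hMsub]; exact hk⟩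
  obtain ⟨x, hx⟩ := step (MulAut.conj y • H) (hnilconj y)
    (by rw [hH'card, hH'idx]; exact hHall) K M p hMK hMn hy hidx' (by rw [hH'card]; exact hpH)
  refine ⟨x * y, ?_⟩
  rw [map_mul, mul_smul]
  exact hx

/-- Let H be a nilpotent subgroup of a finite group G whose order is coprime to its index, and K a subgroup every prime divisor of whose order divides the order of H. Then K lies in some conjugate of H. -/
theorem result {G : Type*} [Group G] [Finite G] (H K : Subgroup G) (hH : Group.IsNilpotent H) (hHall : (Nat.card H).Coprime H.index) (hK : ∀ p : ℕ, p.Prime → p ∣ Nat.card K → p ∣ Nat.card H) : ∃ x : G, K ≤ MulAut.conj x • H := by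
  exact main H hH hHall (Nat.card K) K rfl hK

end Cfsg.Agent.S0581
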