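import Cfsg.Statements.S0558
import Mathlib
import Cfsg.Agent.S0581
import Cfsg.Agent.Lib.Helper2.Conj
import Cfsg.Agent.Lib.Helper2.Index
import Cfsg.Agent.Lib.Helper2.CarterSys
import Cfsg.Agent.Lib.Helper4.Frobenius3

set_option autoImplicit false
open Cfsg

namespace Cfsg.Agent.S0558
open Cfsg.Agent.Lib.Helper2 Cfsg.Agent.Lib.Helper4
open scoped Pointwise
set_option linter.style.haveILetI false
set_option linter.deprecated false
set_option linter.unusedVariables false

universe u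

/-- Normal subgroups of coprime orders centralize each other. -/
theorem le_centralizer_of_normal_coprime {X : Type u} [Group X] [Finite X] (A B : Subgroup X)
    [hA : A.Normal] [hB : B.Normal] (h : (Nat.card A).Coprime (Nat.card B)) :
    B ≤ Subgroup.centralizer (A : Set X) := by
  have hinf : A ⊓ B = ⊥ := Subgroup.inf_eq_bot_of_coprime h
  intro b hb
  rw [Subgroup.mem_centralizer_iff]
  intro a ha
  have h1 : a * b * a⁻¹ * b⁻¹ ∈ A ⊓ B := by
    refine Subgroup.mem_inf.2 ⟨?_, ?_⟩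
    · have : a * b * a⁻¹ * b⁻¹ = a * (b * a⁻¹ * b⁻¹) := by group
      rw [this]
      exact A.mul_mem ha (hA.conj_mem _ (A.inv_mem ha) b)
    · exact B.mul_mem (hB.conj_mem b hb a) (B.inv_mem hb)
  rw [hinf, Subgroup.mem_bot] at h1
  calc a * b = (a * b * a⁻¹ * b⁻¹) * (b * a) := by group
    _ = b * a := by rw [h1, one_mul]

/-- If a normal Sylow `p`-subgroup `P` is centralized by a Sylow `r`-subgroup for every other
prime `r`, then the group is `P` times the centralizer of `P`. -/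
theorem exists_mul_centralizer {X : Type u} [Group X] [Finite X] {p : ℕ} [hp : Fact p.Prime]
    (P : Sylow p X) [hPn : (P : Subgroup X).Normal]
    (hall : ∀ r : ℕ, r.Prime → r ≠ p → r ∣ Nat.card X →
      ∃ R : Sylow r X, (R : Subgroup X) ≤ Subgroup.centralizer ((P : Subgroup X) : Set X)) :
    ∀ h : X, ∃ x ∈ (P : Subgroup X),
      ∃ k ∈ Subgroup.centralizer ((P : Subgroup X) : Set X), h = x * k := by
  obtain ⟨C, hC⟩ : ∃ C : Subgroup X, C = Subgroup.centralizer ((P : Subgroup X) : Set X) :=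
    ⟨_, rfl⟩
  haveI hCn : C.Normal := hC ▸ Subgroup.normal_centralizer
  have htop : (P : Subgroup X) ⊔ C = ⊤ := by
    rw [← Subgroup.index_eq_one, Nat.eq_one_iff_not_exists_prime_dvd]
    intro r hr hdvd
    by_cases hrp : r = p
    · subst hrp
      have h1 : ((P : Subgroup X) ⊔ C).index ∣ (P : Subgroup X).index :=
        Subgroup.index_dvd_of_le le_sup_left
      exact P.not_dvd_index (hdvd.trans h1)
    · have hrX : r ∣ Nat.card X := hdvd.trans (Subgroup.index_dvd_card _)
      obtain ⟨R, hR⟩ := hall r hr hrp hrX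
      haveI : Fact r.Prime := ⟨hr⟩
      have h1 : ((P : Subgroup X) ⊔ C).index ∣ (R : Subgroup X).index :=
        Subgroup.index_dvd_of_le ((hC ▸ hR).trans le_sup_right)
      exact R.not_dvd_index (hdvd.trans h1)
  intro h
  have hh : h ∈ (P : Subgroup X) ⊔ C := htop ▸ Subgroup.mem_top h
  obtain ⟨x, hx, k, hk, e⟩ := exists_mul_of_mem_sup_of_le_normalizer
    (by rw [Subgroup.normalizer_eq_top]; exact le_top :
      (P : Subgroup X) ≤ Subgroup.normalizer (C : Set X)) hh
  exact ⟨x, hx, k, hC ▸ hk, e⟩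

/-- Frobenius' hypothesis from control of fusion. -/
theorem frobHyp_of {G : Type u} [Group G] [Finite G] {p q : ℕ} [hp : Fact p.Prime]
    [hq : Fact q.Prime] (H : Subgroup G) (P : Sylow p G) (Q : Sylow q G)
    (hNQ : Subgroup.normalizer ((Q : Subgroup G) : Set G) = H)
    (hQP : (Q : Subgroup G) ≤ Subgroup.centralizer ((P : Subgroup G) : Set G))
    (hdec : ∀ h ∈ H, ∃ x ∈ (P : Subgroup G),
      ∃ k ∈ Subgroup.centralizer ((P : Subgroup G) : Set G), h = x * k) : FrobHyp p G := by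
  -- first the case `Q₀ ≤ P`
  have key : ∀ Q₀ : Subgroup G, Q₀ ≤ (P : Subgroup G) →
      ∀ g ∈ Subgroup.normalizer (Q₀ : Set G), (orderOf g).Coprime p →
      g ∈ Subgroup.centralizer (Q₀ : Set G) := by
    intro Q₀ hQ₀P g hg hgp
    obtain ⟨C, hC⟩ : ∃ C : Subgroup G, C = Subgroup.centralizer (Q₀ : Set G) := ⟨_, rfl⟩
    have hCmem : ∀ z : G, z ∈ C ↔ ∀ y ∈ Q₀, y * z = z * y := by
      intro z; rw [hC, Subgroup.mem_centralizer_iff]; rfl
    have hQC : (Q : Subgroup G) ≤ C := by
      rw [hC]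
      exact hQP.trans (Subgroup.centralizer_le hQ₀P)
    have hginv : g⁻¹ ∈ Subgroup.normalizer (Q₀ : Set G) := Subgroup.inv_mem _ hg
    have hQ'C : MulAut.conj g • (Q : Subgroup G) ≤ C := by
      intro z hz
      rw [mem_conj_smul_iff] at hz
      rw [hCmem]
      intro y hy
      have hy' : g⁻¹ * y * g ∈ Q₀ := by
        have := (Subgroup.mem_normalizer_iff.1 hginv y).1 hy
        simpa using this
      have h1 := (hCmem _).1 (hQC hz) _ hy'
      calc y * z = g * ((g⁻¹ * y * g) * (g⁻¹ * z * g)) * g⁻¹ := by group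
        _ = g * ((g⁻¹ * z * g) * (g⁻¹ * y * g)) * g⁻¹ := by rw [h1]
        _ = z * y := by group
    have hQ'p : IsPGroup q (MulAut.conj g • (Q : Subgroup G) : Subgroup G) :=
      Q.isPGroup'.of_equiv (Subgroup.equivSMul (MulAut.conj g) (Q : Subgroup G))
    obtain ⟨c, hcC, hc⟩ := Cfsg.Agent.S0581.rel_sylow C Q hQC _ hQ'p hQ'C
    -- `h = c⁻¹ g` normalizes `Q`
    have hle : MulAut.conj (c⁻¹ * g) • (Q : Subgroup G) ≤ (Q : Subgroup G) := by
      intro z hz
      rw [mem_conj_smul_iff] at hz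
      have h1 : c * z * c⁻¹ ∈ MulAut.conj g • (Q : Subgroup G) := by
        rw [mem_conj_smul_iff]
        have : g⁻¹ * (c * z * c⁻¹) * g = (c⁻¹ * g)⁻¹ * z * (c⁻¹ * g) := by group
        rw [this]; exact hz
      have h2 := hc h1
      rw [mem_conj_smul_iff] at h2
      have : c⁻¹ * (c * z * c⁻¹) * c = z := by group
      rwa [this] at h2
    have heq : MulAut.conj (c⁻¹ * g) • (Q : Subgroup G) = (Q : Subgroup G) :=
      Subgroup.eq_of_le_of_card_ge hle (by rw [card_conj_smul])
    have hhH : c⁻¹ * g ∈ H := by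
      rw [← hNQ, mem_normalizer_iff_conj_smul_eq]; exact heq
    obtain ⟨x, hx, k, hk, e⟩ := hdec _ hhH
    -- conjugation by `g` and by `x` agree on `Q₀`
    have hgx : ∀ y ∈ Q₀, g * y * g⁻¹ = x * y * x⁻¹ := by
      intro y hy
      have hge : g = c * (x * k) := by rw [← e]; group
      have hky : y * k = k * y := Subgroup.mem_centralizer_iff.1 hk y (hQ₀P hy)
      have hgy : g * y * g⁻¹ ∈ Q₀ := (Subgroup.mem_normalizer_iff.1 hg y).1 hy
      have hcy : (g * y * g⁻¹) * c = c * (g * y * g⁻¹) := (hCmem c).1 hcC _ hgy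
      have h1 : g * y * g⁻¹ = c * (x * y * x⁻¹) * c⁻¹ := by
        have : k * y * k⁻¹ = y := by rw [← hky]; group
        calc g * y * g⁻¹ = c * (x * (k * y * k⁻¹) * x⁻¹) * c⁻¹ := by rw [hge]; group
          _ = c * (x * y * x⁻¹) * c⁻¹ := by rw [this]
      calc g * y * g⁻¹ = c⁻¹ * (c * (g * y * g⁻¹)) := by group
        _ = c⁻¹ * ((g * y * g⁻¹) * c) := by rw [hcy]
        _ = c⁻¹ * ((c * (x * y * x⁻¹) * c⁻¹) * c) := by rw [← h1]
        _ = x * y * x⁻¹ := by group
    have hiter : ∀ (j : ℕ), ∀ y ∈ Q₀, g ^ j * y * (g ^ j)⁻¹ = x ^ j * y * (x ^ j)⁻¹ ∧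
        g ^ j * y * (g ^ j)⁻¹ ∈ Q₀ := by
      intro j
      induction j with
      | zero => intro y hy; simpa using hy
      | succ j ih =>
        intro y hy
        obtain ⟨e1, m1⟩ := ih y hy
        have h1 : g ^ (j + 1) * y * (g ^ (j + 1))⁻¹ = g * (g ^ j * y * (g ^ j)⁻¹) * g⁻¹ := by
          rw [pow_succ']; group
        have h2 : x ^ (j + 1) * y * (x ^ (j + 1))⁻¹ = x * (x ^ j * y * (x ^ j)⁻¹) * x⁻¹ := by
          rw [pow_succ']; group
        refine ⟨?_, ?_⟩
        · rw [h1, h2, hgx _ m1, e1]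
        · rw [h1]
          exact (Subgroup.mem_normalizer_iff.1 hg _).1 m1
    obtain ⟨e', he'⟩ := (P.isPGroup' ⟨x, hx⟩)
    have hxe : x ^ p ^ e' = 1 := by
      have := congrArg Subtype.val he'
      simpa using this
    have hgpow : g ^ p ^ e' ∈ C := by
      rw [hCmem]
      intro y hy
      have h1 := (hiter (p ^ e') y hy).1
      rw [hxe] at h1
      have h2 : g ^ p ^ e' * y * (g ^ p ^ e')⁻¹ = y := by rw [h1]; group
      calc y * g ^ p ^ e' = (g ^ p ^ e' * y * (g ^ p ^ e')⁻¹) * g ^ p ^ e' := by rw [h2]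
        _ = g ^ p ^ e' * y := by group
    obtain ⟨m, hm⟩ := exists_pow_eq_self_of_coprime (Nat.Coprime.pow_left e' hgp.symm)
    rw [← hC, ← hm]
    exact C.pow_mem hgpow m
  -- the general case
  intro Q₀ hQ₀ g hg hgp
  obtain ⟨S, hS⟩ := hQ₀.exists_le_sylow
  obtain ⟨u, hu⟩ := MulAction.exists_smul_eq G S P
  have hQ₁P : MulAut.conj u • Q₀ ≤ (P : Subgroup G) := by
    rw [← hu, Sylow.smul_def, Sylow.pointwise_smul_def]
    exact Subgroup.pointwise_smul_le_pointwise_smul_iff.2 hS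
  have hg₁ : u * g * u⁻¹ ∈ Subgroup.normalizer ((MulAut.conj u • Q₀ : Subgroup G) : Set G) := by
    rw [mem_normalizer_conj_smul_iff]
    have : u⁻¹ * (u * g * u⁻¹) * u = g := by group
    rw [this]; exact hg
  have hord : orderOf (u * g * u⁻¹) = orderOf g := by
    have := MulEquiv.orderOf_eq (MulAut.conj u) g
    rwa [MulAut.conj_apply] at this
  have h1 := key _ hQ₁P _ hg₁ (hord ▸ hgp)
  rw [Subgroup.mem_centralizer_iff] at h1 ⊢
  intro y hy
  have hy' : u * y * u⁻¹ ∈ MulAut.conj u • Q₀ := by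
    rw [mem_conj_smul_iff]
    have : u⁻¹ * (u * y * u⁻¹) * u = y := by group
    rw [this]; exact hy
  have h2 := h1 _ hy'
  calc y * g = u⁻¹ * ((u * y * u⁻¹) * (u * g * u⁻¹)) * u := by group
    _ = u⁻¹ * ((u * g * u⁻¹) * (u * y * u⁻¹)) * u := by rw [h2]
    _ = g * y := by group

theorem coprime_card_of_isPGroup {X : Type u} [Group X] [Finite X] {p r : ℕ} [hp : Fact p.Prime]
    [hr : Fact r.Prime] {A B : Subgroup X} (hA : IsPGroup p A) (hB : IsPGroup r B) (hne : p ≠ r) :
    (Nat.card A).Coprime (Nat.card B) := by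
  obtain ⟨a, ha⟩ := (IsPGroup.iff_card).1 hA
  obtain ⟨b, hb⟩ := (IsPGroup.iff_card).1 hB
  rw [ha, hb]
  exact Nat.Coprime.pow _ _ ((Nat.coprime_primes hp.out hr.out).2 hne)

theorem sylow_facts {G : Type u} [Group G] [Finite G] (H : Subgroup G)
    (hnorm : ∀ p : ℕ, p.Prime → p ∣ Nat.card H → ∀ P : Sylow p H,
      Subgroup.normalizer (((P : Subgroup H).map H.subtype : Subgroup G) : Set G) = H)
    (p : ℕ) [hp : Fact p.Prime] (hpH : p ∣ Nat.card H) (P' : Sylow p H) :
    (P' : Subgroup H).Normal ∧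
      ∃ Ps : Sylow p G, (Ps : Subgroup G) = (P' : Subgroup H).map H.subtype := by
  obtain ⟨Pt, hPt⟩ : ∃ Pt : Subgroup G, Pt = (P' : Subgroup H).map H.subtype := ⟨_, rfl⟩
  have hle : Pt ≤ H := hPt ▸ Subgroup.map_subtype_le _
  have hNPt : Subgroup.normalizer (Pt : Set G) = H := hPt ▸ hnorm p hp.out hpH P'
  have hsub : Pt.subgroupOf H = (P' : Subgroup H) := by
    rw [hPt, Subgroup.subgroupOf]
    exact Subgroup.comap_map_eq_self_of_injective H.subtype_injective _
  have hPtp : IsPGroup p Pt := hPt ▸ P'.isPGroup'.map H.subtype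
  constructor
  · have h1 := Subgroup.subgroupOf_normalizer_eq hle
    rw [hNPt, hsub, Subgroup.subgroupOf_self] at h1
    exact Subgroup.normalizer_eq_top_iff.1 h1.symm
  · have hmax : ∀ {Q : Subgroup G}, IsPGroup p Q → Pt ≤ Q → Q = Pt := by
      intro Q hQ hPQ
      by_contra hne
      haveI : Group.IsNilpotent Q := hQ.isNilpotent
      have hnc : NormalizerCondition Q := Group.normalizerCondition_of_isNilpotent
      have hlt : Pt.subgroupOf Q < ⊤ := by
        rw [lt_top_iff_ne_top]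
        intro h
        exact hne (le_antisymm (Subgroup.subgroupOf_eq_top.1 h) hPQ)
      have h1 := hnc _ hlt
      rw [← Subgroup.subgroupOf_normalizer_eq hPQ] at h1
      obtain ⟨y, hyN, hyP⟩ := SetLike.exists_of_lt h1
      have hyN' : (y : G) ∈ Subgroup.normalizer (Pt : Set G) := Subgroup.mem_subgroupOf.1 hyN
      have hyP' : (y : G) ∉ Pt := fun h => hyP (Subgroup.mem_subgroupOf.2 h)
      rw [hNPt] at hyN'
      obtain ⟨K, hK⟩ : ∃ K : Subgroup G, K = Pt ⊔ Subgroup.zpowers (y : G) := ⟨_, rfl⟩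
      have hKQ : K ≤ Q := hK ▸ sup_le hPQ (by rw [Subgroup.zpowers_le]; exact y.2)
      have hKH : K ≤ H := hK ▸ sup_le hle (by rw [Subgroup.zpowers_le]; exact hyN')
      have hKp : IsPGroup p K := hQ.to_le hKQ
      have hK'p : IsPGroup p (K.subgroupOf H) := hKp.comap_subtype
      have hP'K : (P' : Subgroup H) ≤ K.subgroupOf H := by
        rw [← hsub]
        intro z hz
        exact Subgroup.mem_subgroupOf.2 (hK ▸ (le_sup_left : Pt ≤ _) (Subgroup.mem_subgroupOf.1 hz))
      have h2 := P'.is_maximal' hK'p hP'K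
      have hyK : (y : G) ∈ K := hK ▸ (le_sup_right : Subgroup.zpowers (y : G) ≤ _)
        (Subgroup.mem_zpowers _)
      have h3 : (⟨(y : G), hyN'⟩ : H) ∈ K.subgroupOf H := Subgroup.mem_subgroupOf.2 hyK
      rw [h2, ← hsub] at h3
      exact hyP' (Subgroup.mem_subgroupOf.1 h3)
    exact ⟨⟨Pt, hPtp, hmax⟩, hPt⟩

/-- Let H be a subgroup of a finite group G that is not a Sylow subgroup of G for any prime, and suppose that for every prime p dividing the order of H and every Sylow p-subgroup P of H the normalizer of P in G is exactly H. Then some normal subgroup of G is a complement to H. -/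
theorem result {G : Type*} [Group G] [Finite G] (H : Subgroup G) (hnot : ∀ p : ℕ, p.Prime → ∀ P : Sylow p G, (P : Subgroup G) ≠ H) (hnorm : ∀ p : ℕ, p.Prime → p ∣ Nat.card H → ∀ P : Sylow p H, Subgroup.normalizer (((P : Subgroup H).map H.subtype : Subgroup G) : Set G) = H) : ∃ N : Subgroup G, N.Normal ∧ Subgroup.IsComplement' N H := by
  classical
  have hNp : ∀ p : ℕ, ∃ K : Subgroup G, K.Normal ∧ (p.Prime → p ∣ Nat.card H →
      (Nat.card K).Coprime p ∧ ∃ k, K.index = p ^ k) := by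
    intro p
    by_cases hp : p.Prime ∧ p ∣ Nat.card H
    swap
    · exact ⟨⊤, inferInstance, fun h1 h2 => absurd ⟨h1, h2⟩ hp⟩
    obtain ⟨hpp, hpH⟩ := hp
    haveI : Fact p.Prime := ⟨hpp⟩
    obtain ⟨P'⟩ : Nonempty (Sylow p H) := inferInstance
    obtain ⟨hP'n, Ps, hPs⟩ := sylow_facts H hnorm p hpH P'
    haveI := hP'n
    have hq : ∃ q : ℕ, q.Prime ∧ q ≠ p ∧ q ∣ Nat.card H := by
      by_contra hno
      have hpow : Nat.card H = p ^ (Nat.card H).primeFactorsList.length := by
        apply Nat.eq_prime_pow_of_unique_prime_dvd Nat.card_pos.ne'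
        intro d hd hdH
        by_contra hne
        exact hno ⟨d, hd, hne, hdH⟩
      have hHp : IsPGroup p H := IsPGroup.of_card hpow
      have hP'top : (P' : Subgroup H) = ⊤ := (P'.is_maximal' (hHp.to_subgroup ⊤) le_top).symm
      apply hnot p hpp Ps
      rw [hPs, hP'top, ← MonoidHom.range_eq_map, Subgroup.range_subtype]
    obtain ⟨q, hqq, hqp, hqH⟩ := hq
    haveI : Fact q.Prime := ⟨hqq⟩
    obtain ⟨Q'⟩ : Nonempty (Sylow q H) := inferInstance
    obtain ⟨hQ'n, Qs, hQs⟩ := sylow_facts H hnorm q hqH Q'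
    haveI := hQ'n
    have hNQ : Subgroup.normalizer ((Qs : Subgroup G) : Set G) = H := by
      rw [hQs]; exact hnorm q hqq hqH Q'
    have hQP' : (Q' : Subgroup H) ≤ Subgroup.centralizer ((P' : Subgroup H) : Set H) :=
      le_centralizer_of_normal_coprime _ _
        (coprime_card_of_isPGroup P'.isPGroup' Q'.isPGroup' (Ne.symm hqp))
    have hQP : (Qs : Subgroup G) ≤ Subgroup.centralizer ((Ps : Subgroup G) : Set G) := by
      rw [hQs, hPs]
      rintro _ ⟨z, hz, rfl⟩
      rw [Subgroup.mem_centralizer_iff]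
      rintro _ ⟨y, hy, rfl⟩
      exact congrArg Subtype.val (Subgroup.mem_centralizer_iff.1 (hQP' hz) y hy)
    have hdecH := exists_mul_centralizer P' (by
      intro r hr hrp hrH
      haveI : Fact r.Prime := ⟨hr⟩
      obtain ⟨R'⟩ : Nonempty (Sylow r H) := inferInstance
      obtain ⟨hR'n, -, -⟩ := sylow_facts H hnorm r hrH R'
      haveI := hR'n
      exact ⟨R', le_centralizer_of_normal_coprime _ _
        (coprime_card_of_isPGroup P'.isPGroup' R'.isPGroup' (Ne.symm hrp))⟩)
    have hdec : ∀ h ∈ H, ∃ x ∈ (Ps : Subgroup G),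
        ∃ k ∈ Subgroup.centralizer ((Ps : Subgroup G) : Set G), h = x * k := by
      intro h hh
      obtain ⟨x, hx, k, hk, e⟩ := hdecH ⟨h, hh⟩
      refine ⟨x, ?_, k, ?_, congrArg Subtype.val e⟩
      · rw [hPs]; exact ⟨x, hx, rfl⟩
      · rw [hPs, Subgroup.mem_centralizer_iff]
        rintro _ ⟨y, hy, rfl⟩
        exact congrArg Subtype.val (Subgroup.mem_centralizer_iff.1 hk y hy)
    have hF : FrobHyp p G := frobHyp_of H Ps Qs hNQ hQP hdec
    obtain ⟨K, hKn, hKc, hKp⟩ := frob_hasNormalPComplement p _ G rfl hF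
    refine ⟨K, hKn, fun _ _ => ⟨hKc, ?_⟩⟩
    obtain ⟨k, hk⟩ := (IsPGroup.iff_card).1 hKp
    exact ⟨k, by rw [Subgroup.index_eq_card]; exact hk⟩
  choose Np hNpn hNpc using hNp
  obtain ⟨N, hN⟩ : ∃ N : Subgroup G, N = ⨅ p ∈ (Nat.card H).primeFactors, Np p := ⟨_, rfl⟩
  have hNn : N.Normal := by
    rw [hN]
    apply Subgroup.normal_iInf_normal; intro p
    apply Subgroup.normal_iInf_normal; intro _
    exact hNpn p
  have hNle : ∀ p ∈ (Nat.card H).primeFactors, N ≤ Np p := by
    intro p hp; rw [hN]; exact iInf₂_le p hp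
  have hmem : ∀ p, p ∈ (Nat.card H).primeFactors ↔ p.Prime ∧ p ∣ Nat.card H := by
    intro p
    rw [Nat.mem_primeFactors]
    constructor
    · rintro ⟨a, b, -⟩; exact ⟨a, b⟩
    · rintro ⟨a, b⟩; exact ⟨a, b, Nat.card_pos.ne'⟩
  have hdisj : N ⊓ H = ⊥ := by
    rw [← Subgroup.card_eq_one, Nat.eq_one_iff_not_exists_prime_dvd]
    intro r hr hdvd
    have hrH : r ∣ Nat.card H := hdvd.trans (Subgroup.card_dvd_of_le inf_le_right)
    have h1 : Nat.card (N ⊓ H : Subgroup G) ∣ Nat.card (Np r) :=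
      Subgroup.card_dvd_of_le (inf_le_left.trans (hNle r ((hmem r).2 ⟨hr, hrH⟩)))
    have h2 := (hNpc r hr hrH).1
    exact hr.one_lt.ne' (Nat.Coprime.eq_one_of_dvd h2.symm (hdvd.trans h1))
  have hidx : ∀ t : Finset ℕ, t ⊆ (Nat.card H).primeFactors → ∀ r : ℕ, r.Prime →
      r ∣ (⨅ p ∈ t, Np p).index → r ∈ t := by
    intro t
    induction t using Finset.induction_on with
    | empty =>
      intro _ r hr hdvd
      simp at hdvd
      exact absurd hdvd hr.one_lt.ne'
    | insert a t ha ih =>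
      intro hsub r hr hdvd
      rw [Finset.iInf_insert] at hdvd
      have hat : a ∈ (Nat.card H).primeFactors := hsub (Finset.mem_insert_self a t)
      obtain ⟨hap, haH⟩ := (hmem a).1 hat
      haveI := hNpn a
      obtain ⟨B, hB⟩ : ∃ B : Subgroup G, B = ⨅ p ∈ t, Np p := ⟨_, rfl⟩
      rw [← hB] at hdvd
      have h1 : (Np a ⊓ B).index = (Np a).relIndex B * B.index := by
        rw [← Subgroup.inf_relIndex_right (Np a) B]
        exact (Subgroup.relIndex_mul_index inf_le_right).symm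
      rw [h1] at hdvd
      rcases (Nat.Prime.dvd_mul hr).1 hdvd with h | h
      · have h2 : r ∣ (Np a).index :=
          h.trans (Subgroup.relIndex_dvd_index_of_normal (Np a) B)
        obtain ⟨k, hk⟩ := (hNpc a hap haH).2
        rw [hk] at h2
        have : r = a := (Nat.prime_dvd_prime_iff_eq hr hap).1 (hr.dvd_of_dvd_pow h2)
        rw [this]; exact Finset.mem_insert_self a t
      · rw [hB] at h
        exact Finset.mem_insert_of_mem
          (ih (fun x hx => hsub (Finset.mem_insert_of_mem hx)) r hr h)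
  have hsup : N ⊔ H = ⊤ := by
    rw [← Subgroup.index_eq_one, Nat.eq_one_iff_not_exists_prime_dvd]
    intro r hr hdvd
    by_cases hrH : r ∣ Nat.card H
    · haveI : Fact r.Prime := ⟨hr⟩
      obtain ⟨R'⟩ : Nonempty (Sylow r H) := inferInstance
      obtain ⟨-, Rs, hRs⟩ := sylow_facts H hnorm r hrH R'
      have hRH : (Rs : Subgroup G) ≤ N ⊔ H := by
        rw [hRs]; exact (Subgroup.map_subtype_le _).trans le_sup_right
      exact Rs.not_dvd_index (hdvd.trans (Subgroup.index_dvd_of_le hRH))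
    · have h1 : r ∣ N.index := hdvd.trans (Subgroup.index_dvd_of_le le_sup_left)
      rw [hN] at h1
      have h2 := hidx _ (Finset.Subset.refl _) r hr h1
      exact hrH ((hmem r).1 h2).2
  refine ⟨N, hNn, ?_⟩
  apply Subgroup.isComplement'_of_disjoint_and_mul_eq_univ (disjoint_iff.2 hdisj)
  haveI := hNn
  rw [← Subgroup.normal_mul, hsup, Subgroup.coe_top]

end Cfsg.Agent.S0558
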