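import Cfsg.Statements.S0560
import Cfsg.Agent.Lib.Helper2.ProdCard

set_option autoImplicit false
set_option linter.style.haveILetI false
open Cfsg

namespace Cfsg.Agent.S0560

open Cfsg.Agent.Lib.Helper2
open scoped Pointwise

theorem mem_smul_sylow {G : Type*} [Group G] {p : ℕ} (g : G) (S : Sylow p G) (x : G) :
    x ∈ ((g • S : Sylow p G) : Subgroup G) ↔ g⁻¹ * x * g ∈ (S : Subgroup G) := by
  rw [Sylow.coe_subgroup_smul, Subgroup.mem_pointwise_smul_iff_inv_smul_mem, MulAut.smul_def, ← map_inv,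
    MulAut.conj_apply, inv_inv]

/-- Let the finite group G be the product HK of two subgroups and p a prime. Then there are Sylow p-subgroups P of H and Q of K and a Sylow p-subgroup R of G whose underlying set is the product set of P and Q. -/
theorem result {G : Type*} [Group G] [Finite G] (H K : Subgroup G) (hHK : ∀ g : G, ∃ h ∈ H, ∃ k ∈ K, g = h * k) (p : ℕ) [Fact p.Prime] : ∃ (P : Sylow p H) (Q : Sylow p K) (R : Sylow p G), ((R : Subgroup G) : Set G) = (((P : Subgroup H).map H.subtype : Subgroup G) : Set G) * (((Q : Subgroup K).map K.subtype : Subgroup G) : Set G) := by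
  classical
  have hp : p.Prime := Fact.out
  have hKH : ∀ g : G, ∃ k ∈ K, ∃ h ∈ H, g = k * h := by
    intro g
    obtain ⟨h, hh, k, hk, hg⟩ := hHK g⁻¹
    refine ⟨k⁻¹, K.inv_mem hk, h⁻¹, H.inv_mem hh, ?_⟩
    rw [← mul_inv_rev, ← hg, inv_inv]
  obtain ⟨P1⟩ := (inferInstance : Nonempty (Sylow p H))
  obtain ⟨Q1⟩ := (inferInstance : Nonempty (Sylow p K))
  have hP1 : IsPGroup p ((P1 : Subgroup H).map H.subtype) := P1.2.map _
  have hQ1 : IsPGroup p ((Q1 : Subgroup K).map K.subtype) := Q1.2.map _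
  obtain ⟨R1, hR1⟩ := hP1.exists_le_sylow
  obtain ⟨R2, hR2⟩ := hQ1.exists_le_sylow
  obtain ⟨g, hg⟩ := MulAction.exists_smul_eq G R1 R2
  obtain ⟨k', hk', h, hh, hgkh⟩ := hKH g
  refine ⟨(⟨h, hh⟩ : H) • P1, (⟨k'⁻¹, K.inv_mem hk'⟩ : K) • Q1, h • R1, ?_⟩
  set P : Sylow p H := (⟨h, hh⟩ : H) • P1 with hP
  set Q : Sylow p K := (⟨k'⁻¹, K.inv_mem hk'⟩ : K) • Q1 with hQ
  set R : Sylow p G := h • R1 with hR
  set Pg : Subgroup G := (P : Subgroup H).map H.subtype with hPg
  set Qg : Subgroup G := (Q : Subgroup K).map K.subtype with hQg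
  have hPR : Pg ≤ R := by
    rintro x ⟨y, hy, rfl⟩
    rw [SetLike.mem_coe, hP, mem_smul_sylow] at hy
    rw [hR, mem_smul_sylow]
    exact hR1 ⟨_, hy, rfl⟩
  have hQR : Qg ≤ R := by
    rintro x ⟨y, hy, rfl⟩
    rw [SetLike.mem_coe, hQ, mem_smul_sylow] at hy
    have h1 : (k' : G) * (K.subtype y) * (k' : G)⁻¹ ∈ (R2 : Subgroup G) := by
      have := hR2 ⟨_, hy, rfl⟩
      simpa using this
    rw [← hg, mem_smul_sylow] at h1
    rw [hR, mem_smul_sylow]
    have h2 : g⁻¹ * (k' * K.subtype y * k'⁻¹) * g = h⁻¹ * K.subtype y * h := by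
      rw [hgkh]; group
    rw [← h2]
    exact h1
  have hsub : ((Pg : Set G) * (Qg : Set G)) ⊆ ((R : Subgroup G) : Set G) := by
    rintro x ⟨a, ha, b, hb, rfl⟩
    exact (R : Subgroup G).mul_mem (hPR ha) (hQR hb)
  -- cardinalities
  have hcardPg : Nat.card Pg = p ^ (Nat.card H).factorization p := by
    rw [hPg, Subgroup.card_map_of_injective H.subtype_injective]
    exact P.card_eq_multiplicity
  have hcardQg : Nat.card Qg = p ^ (Nat.card K).factorization p := by
    rw [hQg, Subgroup.card_map_of_injective K.subtype_injective]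
    exact Q.card_eq_multiplicity
  have hcardR : Nat.card (R : Subgroup G) = p ^ (Nat.card G).factorization p := R.card_eq_multiplicity
  have huniv : ((H : Set G) * (K : Set G)) = Set.univ := by
    rw [Set.eq_univ_iff_forall]
    intro x
    obtain ⟨a, ha, b, hb, rfl⟩ := hHK x
    exact Set.mul_mem_mul ha hb
  have hf1 := card_mul_card_eq_card_mul_mul_card_inf H K
  rw [huniv, Nat.card_congr (Equiv.Set.univ G)] at hf1
  have hf2 := card_mul_card_eq_card_mul_mul_card_inf Pg Qg
  -- the intersection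
  have hinfp : IsPGroup p (Pg ⊓ Qg : Subgroup G) := (P.2.map H.subtype).to_le inf_le_left
  obtain ⟨c, hc⟩ := IsPGroup.iff_card.1 hinfp
  have hinfle : (Pg ⊓ Qg : Subgroup G) ≤ H ⊓ K :=
    inf_le_inf (Subgroup.map_subtype_le _) (Subgroup.map_subtype_le _)
  have hdvd : p ^ c ∣ Nat.card (H ⊓ K : Subgroup G) := by
    rw [← hc]; exact Subgroup.card_dvd_of_le hinfle
  have hcd : c ≤ (Nat.card (H ⊓ K : Subgroup G)).factorization p :=
    (hp.pow_dvd_iff_le_factorization Nat.card_pos.ne').1 hdvd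
  have hfact : (Nat.card H).factorization p + (Nat.card K).factorization p =
      (Nat.card G).factorization p + (Nat.card (H ⊓ K : Subgroup G)).factorization p := by
    have : (Nat.card H * Nat.card K).factorization p =
        (Nat.card G * Nat.card (H ⊓ K : Subgroup G)).factorization p := by rw [hf1]
    rw [Nat.factorization_mul Nat.card_pos.ne' Nat.card_pos.ne',
      Nat.factorization_mul Nat.card_pos.ne' Nat.card_pos.ne'] at this
    exact this
  rw [hcardPg, hcardQg, hc, ← pow_add] at hf2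
  -- card of product set
  set n := (Nat.card G).factorization p with hn
  set d := (Nat.card (H ⊓ K : Subgroup G)).factorization p with hd
  have hle : p ^ n ≤ Nat.card ((Pg : Set G) * (Qg : Set G) : Set G) := by
    have h1 : p ^ (n + d - c) * p ^ c = Nat.card ((Pg : Set G) * (Qg : Set G) : Set G) * p ^ c := by
      rw [← pow_add, ← hf2, hfact]
      congr 1
      omega
    have h2 := Nat.eq_of_mul_eq_mul_right (pow_pos hp.pos c) h1
    rw [← h2]
    exact Nat.pow_le_pow_right hp.pos (by omega)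
  symm
  apply Set.eq_of_subset_of_ncard_le hsub
  rw [← Nat.card_coe_set_eq, ← Nat.card_coe_set_eq]
  calc Nat.card ((R : Subgroup G) : Set G) = p ^ n := hcardR
    _ ≤ _ := hle

end Cfsg.Agent.S0560
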