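import Cfsg.Statements.S0566
import Mathlib
import Cfsg.Agent.Lib.Helper2.Conj

set_option autoImplicit false
open Cfsg

namespace Cfsg.Agent.S0566
open Cfsg.Agent.Lib.Helper2
open scoped Pointwise
set_option linter.style.haveILetI false
set_option linter.unusedVariables false

variable {G : Type*} [Group G]

/-- `C * A ⊆ A * C`, elementwise. -/
def PermProp (A C : Subgroup G) : Prop :=
  ∀ a ∈ A, ∀ c ∈ C, ∃ a' ∈ A, ∃ c' ∈ C, c * a = a' * c'

/-- `A * C` is not everything. -/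
def Proper (A C : Subgroup G) : Prop :=
  ∃ g : G, ∀ a ∈ A, ∀ c ∈ C, g ≠ a * c

theorem permProp_of_eq {A C S : Subgroup G} (hS : (S : Set G) = (A : Set G) * (C : Set G)) :
    PermProp A C := by
  intro a ha c hc
  have h1 : a⁻¹ * c⁻¹ ∈ S := by
    rw [← SetLike.mem_coe, hS]
    exact Set.mul_mem_mul (A.inv_mem ha) (C.inv_mem hc)
  have h2 := S.inv_mem h1
  rw [← SetLike.mem_coe, hS, Set.mem_mul] at h2
  obtain ⟨a', ha', c', hc', e⟩ := h2
  refine ⟨a', ha', c', hc', ?_⟩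
  rw [e]; group

/-- The product of two permuting subgroups, as a subgroup. -/
def prodSubgroup (A C : Subgroup G) (h : PermProp A C) : Subgroup G where
  carrier := {g | ∃ a ∈ A, ∃ c ∈ C, g = a * c}
  one_mem' := ⟨1, A.one_mem, 1, C.one_mem, by simp⟩
  mul_mem' := by
    rintro _ _ ⟨a, ha, c, hc, rfl⟩ ⟨a', ha', c', hc', rfl⟩
    obtain ⟨a'', ha'', c'', hc'', e⟩ := h a' ha' c hc
    refine ⟨a * a'', A.mul_mem ha ha'', c'' * c', C.mul_mem hc'' hc', ?_⟩
    calc a * c * (a' * c') = a * (c * a') * c' := by group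
      _ = a * (a'' * c'') * c' := by rw [e]
      _ = a * a'' * (c'' * c') := by group
  inv_mem' := by
    rintro _ ⟨a, ha, c, hc, rfl⟩
    obtain ⟨a'', ha'', c'', hc'', e⟩ := h a⁻¹ (A.inv_mem ha) c⁻¹ (C.inv_mem hc)
    refine ⟨a'', ha'', c'', hc'', ?_⟩
    rw [← e]; group

theorem permProp_sup [Finite G] {A A' C : Subgroup G} (h : PermProp A C) (h' : PermProp A' C) :
    PermProp (A ⊔ A') C := by
  let R : Submonoid G :=
    { carrier := {g | ∀ c ∈ C, ∃ u ∈ A ⊔ A', ∃ c' ∈ C, c * g = u * c'}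
      one_mem' := fun c hc => ⟨1, Subgroup.one_mem _, c, hc, by simp⟩
      mul_mem' := by
        intro g₁ g₂ h₁ h₂ c hc
        obtain ⟨u₁, hu₁, c₁, hc₁, e₁⟩ := h₁ c hc
        obtain ⟨u₂, hu₂, c₂, hc₂, e₂⟩ := h₂ c₁ hc₁
        refine ⟨u₁ * u₂, Subgroup.mul_mem _ hu₁ hu₂, c₂, hc₂, ?_⟩
        calc c * (g₁ * g₂) = (c * g₁) * g₂ := by group
          _ = u₁ * (c₁ * g₂) := by rw [e₁]; group
          _ = u₁ * u₂ * c₂ := by rw [e₂]; group }
  let R' : Subgroup G :=
    { R with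
      inv_mem' := by
        intro g hg
        have h1 : g⁻¹ ∈ Subgroup.zpowers g := Subgroup.inv_mem _ (Subgroup.mem_zpowers g)
        have h2 : g⁻¹ ∈ Submonoid.powers g := mem_powers_iff_mem_zpowers.2 h1
        exact (Submonoid.powers_le.2 hg) h2 }
  have hA : A ≤ R' := by
    intro a ha c hc
    obtain ⟨a', ha', c', hc', e⟩ := h a ha c hc
    exact ⟨a', (le_sup_left : A ≤ A ⊔ A') ha', c', hc', e⟩
  have hA' : A' ≤ R' := by
    intro a ha c hc
    obtain ⟨a', ha', c', hc', e⟩ := h' a ha c hc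
    exact ⟨a', (le_sup_right : A' ≤ A ⊔ A') ha', c', hc', e⟩
  intro u hu c hc
  exact (sup_le hA hA' hu) c hc

theorem permProp_conj {A C : Subgroup G} (h : PermProp A C) (g : G) :
    PermProp (MulAut.conj g • A) (MulAut.conj g • C) := by
  intro a ha c hc
  rw [mem_conj_smul_iff] at ha hc
  obtain ⟨a', ha', c', hc', e⟩ := h _ ha _ hc
  refine ⟨g * a' * g⁻¹, ?_, g * c' * g⁻¹, ?_, ?_⟩
  · rw [mem_conj_smul_iff]
    have : g⁻¹ * (g * a' * g⁻¹) * g = a' := by group
    rw [this]; exact ha'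
  · rw [mem_conj_smul_iff]
    have : g⁻¹ * (g * c' * g⁻¹) * g = c' := by group
    rw [this]; exact hc'
  · calc c * a = g * ((g⁻¹ * c * g) * (g⁻¹ * a * g)) * g⁻¹ := by group
      _ = g * (a' * c') * g⁻¹ := by rw [e]
      _ = g * a' * g⁻¹ * (g * c' * g⁻¹) := by group

theorem kegel_core [Finite G] (B : Subgroup G)
    (hcB : ∀ N : Subgroup G, N.Normal → B ≤ N → N = ⊤) :
    ∀ n : ℕ, ∀ A : Subgroup G, Nat.card G - Nat.card A = n →
      (∀ x : G, PermProp A (MulAut.conj x • B)) → (∀ x : G, Proper A (MulAut.conj x • B)) →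
      (∀ N : Subgroup G, N.Normal → A ≤ N → N = ⊤) → False := by
  intro n
  induction n using Nat.strong_induction_on with
  | _ n ih =>
  intro A hn hperm hprop hcA
  have hAtop : A ≠ ⊤ := by
    intro h
    obtain ⟨g, hg⟩ := hprop 1
    exact hg g (h ▸ Subgroup.mem_top g) 1 (Subgroup.one_mem _) (by simp)
  have h2 : ∃ y : G, ∃ b ∈ MulAut.conj y • B, MulAut.conj b • A ≠ A := by
    by_contra hno
    have hno' : ∀ y : G, ∀ b ∈ MulAut.conj y • B, MulAut.conj b • A = A := by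
      intro y b hb
      by_contra hne
      exact hno ⟨y, b, hb, hne⟩
    have hle : Subgroup.normalClosure (B : Set G) ≤ Subgroup.normalizer (A : Set G) := by
      unfold Subgroup.normalClosure
      rw [Subgroup.closure_le]
      intro x hx
      rw [Group.mem_conjugatesOfSet_iff] at hx
      obtain ⟨b, hb, hconj⟩ := hx
      rw [isConj_iff] at hconj
      obtain ⟨c, rfl⟩ := hconj
      rw [SetLike.mem_coe, mem_normalizer_iff_conj_smul_eq]
      apply hno' c
      rw [mem_conj_smul_iff]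
      have : c⁻¹ * (c * b * c⁻¹) * c = b := by group
      rw [this]; exact hb
    have h3 : Subgroup.normalClosure (B : Set G) = ⊤ :=
      hcB _ inferInstance Subgroup.le_normalClosure
    rw [h3, top_le_iff] at hle
    have hAn : A.Normal := Subgroup.normalizer_eq_top_iff.1 hle
    exact hAtop (hcA A hAn le_rfl)
  obtain ⟨y, b, hb, hbA⟩ := h2
  obtain ⟨A', hA'⟩ : ∃ A' : Subgroup G, A' = MulAut.conj b • A := ⟨_, rfl⟩
  obtain ⟨U, hU⟩ : ∃ U : Subgroup G, U = A ⊔ A' := ⟨_, rfl⟩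
  have hAU : A ≤ U := hU ▸ le_sup_left
  have hA'U : A' ≤ U := hU ▸ le_sup_right
  have hlt : Nat.card A < Nat.card U := by
    have hne : A ≠ U := by
      intro h
      have h1 : A' ≤ A := by rw [h]; exact hA'U
      have h2 : A' = A := Subgroup.eq_of_le_of_card_ge h1 (by rw [hA', card_conj_smul])
      exact hbA (hA' ▸ h2)
    exact lt_of_not_ge (fun hge => hne (Subgroup.eq_of_le_of_card_ge hAU hge))
  have hpermU : ∀ x : G, PermProp U (MulAut.conj x • B) := by
    intro x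
    rw [hU]
    apply permProp_sup (hperm x)
    have h1 := permProp_conj (hperm (b⁻¹ * x)) b
    have h2 : MulAut.conj b • (MulAut.conj (b⁻¹ * x) • B) = MulAut.conj x • B := by
      rw [smul_smul, ← map_mul, mul_inv_cancel_left]
    rw [h2] at h1
    rw [hA']; exact h1
  have hcU : ∀ N : Subgroup G, N.Normal → U ≤ N → N = ⊤ :=
    fun N hN hUN => hcA N hN (hAU.trans hUN)
  have hcardU : Nat.card G - Nat.card U < n := by
    have : Nat.card U ≤ Nat.card G := Nat.le_of_dvd Nat.card_pos (Subgroup.card_subgroup_dvd_card U)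
    omega
  have h3 : ¬ ∀ x : G, Proper U (MulAut.conj x • B) :=
    fun hp => ih _ hcardU U rfl hpermU hp hcU
  have h3' : ∃ g : G, ∀ w : G, ∃ u ∈ U, ∃ c ∈ MulAut.conj g • B, w = u * c := by
    by_contra hno
    apply h3
    intro x
    by_contra hx
    apply hno
    refine ⟨x, ?_⟩
    intro w
    by_contra hw
    apply hx
    refine ⟨w, ?_⟩
    intro u hu c hc e
    exact hw ⟨u, hu, c, hc, e⟩
  obtain ⟨g, hg⟩ := h3'
  obtain ⟨H, hH⟩ : ∃ H : Subgroup G, H = prodSubgroup A (MulAut.conj y • B) (hperm y) := ⟨_, rfl⟩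
  have hAH : A ≤ H := fun a ha => hH ▸ ⟨a, ha, 1, Subgroup.one_mem _, by simp⟩
  have hBH : MulAut.conj y • B ≤ H := fun c hc => hH ▸ ⟨1, A.one_mem, c, hc, by simp⟩
  have hbH : b ∈ H := hBH hb
  have hA'H : A' ≤ H := by
    intro a ha
    rw [hA', mem_conj_smul_iff] at ha
    have h1 : a = b * (b⁻¹ * a * b) * b⁻¹ := by group
    rw [h1]
    exact H.mul_mem (H.mul_mem hbH (hAH ha)) (H.inv_mem hbH)
  have hUH : U ≤ H := hU ▸ sup_le hAH hA'H
  obtain ⟨u, hu, c, hc, e⟩ := hg (y * g⁻¹)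
  have hgBH : MulAut.conj g • B ≤ H := by
    intro z hz
    rw [mem_conj_smul_iff] at hz hc
    have hy : y = u * c * g := by rw [← e]; group
    have hβ : (g⁻¹ * c * g)⁻¹ * (g⁻¹ * z * g) * (g⁻¹ * c * g) ∈ B :=
      B.mul_mem (B.mul_mem (B.inv_mem hc) hz) hc
    have h1 : y * ((g⁻¹ * c * g)⁻¹ * (g⁻¹ * z * g) * (g⁻¹ * c * g)) * y⁻¹ ∈
        MulAut.conj y • B := by
      rw [mem_conj_smul_iff]
      have : y⁻¹ * (y * ((g⁻¹ * c * g)⁻¹ * (g⁻¹ * z * g) * (g⁻¹ * c * g)) * y⁻¹) * y =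
          (g⁻¹ * c * g)⁻¹ * (g⁻¹ * z * g) * (g⁻¹ * c * g) := by group
      rw [this]; exact hβ
    have h2 := hBH h1
    have h3 : y * ((g⁻¹ * c * g)⁻¹ * (g⁻¹ * z * g) * (g⁻¹ * c * g)) * y⁻¹ = u * z * u⁻¹ := by
      rw [hy]; group
    rw [h3] at h2
    have h4 : z = u⁻¹ * (u * z * u⁻¹) * u := by group
    rw [h4]
    exact H.mul_mem (H.mul_mem (H.inv_mem (hUH hu)) h2) (hUH hu)
  obtain ⟨w₀, hw₀⟩ := hprop y
  obtain ⟨u', hu', c', hc', e'⟩ := hg w₀
  have hw₀H : w₀ ∈ H := by rw [e']; exact H.mul_mem (hUH hu') (hgBH hc')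
  rw [hH] at hw₀H
  obtain ⟨a, ha, c'', hc'', e''⟩ := hw₀H
  exact hw₀ a ha c'' hc'' e''

/-- Let A and B be nontrivial subgroups of a finite group G such that for every x the product set of A and xBx⁻¹ is a proper subgroup of G. Then there is a proper normal subgroup of G containing A or containing B. -/
theorem result {G : Type*} [Group G] [Finite G] (A B : Subgroup G) (hA : A ≠ ⊥) (hB : B ≠ ⊥) (h : ∀ x : G, ∃ S : Subgroup G, S ≠ ⊤ ∧ (S : Set G) = (A : Set G) * ((MulAut.conj x • B : Subgroup G) : Set G)) : ∃ N : Subgroup G, N.Normal ∧ N ≠ ⊤ ∧ (A ≤ N ∨ B ≤ N) := by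
  by_contra hcon
  have hcA : ∀ N : Subgroup G, N.Normal → A ≤ N → N = ⊤ := by
    intro N hN hAN
    by_contra hne
    exact hcon ⟨N, hN, hne, Or.inl hAN⟩
  have hcB : ∀ N : Subgroup G, N.Normal → B ≤ N → N = ⊤ := by
    intro N hN hBN
    by_contra hne
    exact hcon ⟨N, hN, hne, Or.inr hBN⟩
  have hperm : ∀ x : G, PermProp A (MulAut.conj x • B) := by
    intro x
    obtain ⟨S, -, hS⟩ := h x
    exact permProp_of_eq hS
  have hprop : ∀ x : G, Proper A (MulAut.conj x • B) := by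
    intro x
    obtain ⟨S, hne, hS⟩ := h x
    obtain ⟨g, hg⟩ : ∃ g, g ∉ S := by
      by_contra hall
      apply hne
      rw [eq_top_iff]
      intro g _
      by_contra hgS
      exact hall ⟨g, hgS⟩
    refine ⟨g, fun a ha c hc e => hg ?_⟩
    rw [← SetLike.mem_coe, hS, e]
    exact Set.mul_mem_mul ha hc
  exact kegel_core B hcB _ A rfl hperm hprop hcA

end Cfsg.Agent.S0566
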