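import Cfsg.Statements.S0561
import Mathlib
import Cfsg.Agent.S0566
import Cfsg.Agent.Lib.Helper2.Conj
import Cfsg.Agent.Lib.Helper2.CoprimeIndex
import Cfsg.Agent.Lib.Helper4.Hall
import Cfsg.Agent.Lib.Helper4.SZ

set_option autoImplicit false
open Cfsg

namespace Cfsg.Agent.S0561
open Cfsg.Agent.Lib.Helper2 Cfsg.Agent.Lib.Helper4 Cfsg.Agent.S0566
open scoped Pointwise
set_option linter.style.haveILetI false
set_option linter.deprecated false
set_option linter.unusedVariables false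

universe u

theorem not_dvd_compl {N c r : ℕ} (hN : N ≠ 0) (hr : r.Prime) (hrc : r ∣ c) :
    ¬ r ∣ N / Nat.gcd N (c ^ N) := by
  intro hrn
  obtain ⟨m, hm⟩ : ∃ m, m = Nat.gcd N (c ^ N) := ⟨_, rfl⟩
  rw [← hm] at hrn
  have hmN : m ∣ N := hm ▸ Nat.gcd_dvd_left _ _
  have hmn : m * (N / m) = N := Nat.mul_div_cancel' hmN
  obtain ⟨e, he⟩ : ∃ e, e = N.factorization r := ⟨_, rfl⟩
  have h1 : r ^ e ∣ N := he ▸ Nat.ordProj_dvd N r
  have heN : e ≤ N := by
    have h2 : r ^ e ≤ N := Nat.le_of_dvd (Nat.pos_of_ne_zero hN) h1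
    have h3 : e < r ^ e := Nat.lt_pow_self hr.one_lt
    omega
  have h4 : r ^ e ∣ c ^ N := (pow_dvd_pow_of_dvd hrc e).trans (pow_dvd_pow c heN)
  have h5 : r ^ e ∣ m := hm ▸ Nat.dvd_gcd h1 h4
  have h6 : r ^ (e + 1) ∣ N := by
    rw [← hmn, pow_succ]
    exact Nat.mul_dvd_mul h5 hrn
  rw [he] at h6
  exact Nat.pow_succ_factorization_not_dvd hN hr h6

theorem cj_eq_conj_smul {G : Type u} [Group G] (g : G) (S : Subgroup G) :
    cj g S = MulAut.conj g • S := by
  ext z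
  rw [mem_cj_iff, mem_conj_smul_iff]

theorem permProp_AB {G : Type u} [Group G] [Finite G] [Group.IsSolvable G] (H K A B : Subgroup G)
    (hHK : ∀ g : G, ∃ h ∈ H, ∃ k ∈ K, g = h * k) (hA : A ≤ H) (hAn : (A.subgroupOf H).Normal)
    (hB : B ≤ K) (hBn : (B.subgroupOf K).Normal) (hAh : (Nat.card A).Coprime A.index)
    (hBh : (Nat.card B).Coprime B.index) : PermProp A B := by
  have hN0 : Nat.card G ≠ 0 := Nat.card_pos.ne'
  obtain ⟨c, hc⟩ : ∃ c, c = Nat.card A * Nat.card B := ⟨_, rfl⟩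
  obtain ⟨m, hm⟩ : ∃ m, m = Nat.gcd (Nat.card G) (c ^ Nat.card G) := ⟨_, rfl⟩
  obtain ⟨n, hn⟩ : ∃ n, n = Nat.card G / m := ⟨_, rfl⟩
  have hmG : m ∣ Nat.card G := hm ▸ Nat.gcd_dvd_left _ _
  have hmn : Nat.card G = m * n := by rw [hn]; exact (Nat.mul_div_cancel' hmG).symm
  have hkey : ∀ r : ℕ, r.Prime → r ∣ c → ¬ r ∣ n := by
    intro r hr hrc
    rw [hn, hm]
    exact not_dvd_compl hN0 hr hrc
  have hmc : ∀ r : ℕ, r.Prime → r ∣ m → r ∣ c := by
    intro r hr hrm
    have h1 : r ∣ c ^ Nat.card G := hrm.trans (hm ▸ Nat.gcd_dvd_right _ _)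
    exact hr.dvd_of_dvd_pow h1
  have hcop : m.Coprime n := Nat.coprime_of_dvd fun r hr hrm => hkey r hr (hmc r hr hrm)
  have hAn' : (Nat.card A).Coprime n :=
    Nat.coprime_of_dvd fun r hr hrA => hkey r hr (hc ▸ Dvd.dvd.mul_right hrA _)
  have hBn' : (Nat.card B).Coprime n :=
    Nat.coprime_of_dvd fun r hr hrB => hkey r hr (hc ▸ Dvd.dvd.mul_left hrB _)
  obtain ⟨-, hconj, hcont⟩ := hall_all _ G rfl m n hmn hcop
  obtain ⟨S, hSc, hAS⟩ := hcont A hAn'
  obtain ⟨S₂, hS₂c, hBS₂⟩ := hcont B hBn'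
  obtain ⟨g, hg⟩ := hconj S S₂ hSc hS₂c
  obtain ⟨h₀, hh₀, k₀, hk₀, e⟩ := hHK g⁻¹
  have hHA : H ≤ Subgroup.normalizer (A : Set G) := le_normalizer_of_subgroupOf_normal hA hAn
  have hKB : K ≤ Subgroup.normalizer (B : Set G) := le_normalizer_of_subgroupOf_normal hB hBn
  obtain ⟨S', hS'⟩ : ∃ S' : Subgroup G, S' = MulAut.conj h₀⁻¹ • S := ⟨_, rfl⟩
  have hAS' : A ≤ S' := by
    have h1 : MulAut.conj h₀⁻¹ • A = A :=
      conj_smul_eq_of_mem_normalizer (hHA (H.inv_mem hh₀))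
    rw [hS', ← h1]
    exact Subgroup.pointwise_smul_le_pointwise_smul_iff.2 hAS
  have hBS' : B ≤ S' := by
    have h1 : MulAut.conj k₀ • B = B := conj_smul_eq_of_mem_normalizer (hKB hk₀)
    have h2 : MulAut.conj k₀ • S₂ = S' := by
      rw [hS', ← hg, cj_eq_conj_smul, smul_smul, ← map_mul]
      congr 2
      have : g = k₀⁻¹ * h₀⁻¹ := by
        have h3 : g = (g⁻¹)⁻¹ := (inv_inv g).symm
        rw [h3, e]; group
      rw [this]; group
    rw [← h2, ← h1]
    exact Subgroup.pointwise_smul_le_pointwise_smul_iff.2 hBS₂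
  have hS'c : Nat.card S' = m := by rw [hS', card_conj_smul, hSc]
  -- coprime indices inside `S'`
  have hidx : ((A.subgroupOf S').index).Coprime ((B.subgroupOf S').index) := by
    apply Nat.coprime_of_dvd
    intro r hr hrA hrB
    have hrm : r ∣ m := by
      rw [← hS'c]
      exact hrA.trans (Subgroup.index_dvd_card _)
    have hrc := hmc r hr hrm
    rw [hc] at hrc
    rcases (Nat.Prime.dvd_mul hr).1 hrc with h | h
    · have h1 : r ∣ A.index := hrA.trans (Subgroup.relIndex_dvd_index_of_le hAS')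
      exact hr.one_lt.ne' (Nat.Coprime.eq_one_of_dvd
        (Nat.Coprime.coprime_dvd_left h (Nat.Coprime.coprime_dvd_right h1 hAh)) dvd_rfl)
    · have h1 : r ∣ B.index := hrB.trans (Subgroup.relIndex_dvd_index_of_le hBS')
      exact hr.one_lt.ne' (Nat.Coprime.eq_one_of_dvd
        (Nat.Coprime.coprime_dvd_left h (Nat.Coprime.coprime_dvd_right h1 hBh)) dvd_rfl)
  intro a ha b hb
  have hba : b * a ∈ S' := S'.mul_mem (hBS' hb) (hAS' ha)
  obtain ⟨a', ha', b', hb', e'⟩ := exists_mul_of_coprime_index _ _ hidx (⟨b * a, hba⟩ : S')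
  refine ⟨a', Subgroup.mem_subgroupOf.1 ha', b', Subgroup.mem_subgroupOf.1 hb', ?_⟩
  exact congrArg Subtype.val e'

/-- Let the finite solvable group G be the product HK of subgroups, and let A be normal in H and B normal in K, where A and B are Hall subgroups of G (order coprime to index). Then for all x, y the product set of xAx⁻¹ and yBy⁻¹ is a subgroup of G. -/
theorem result {G : Type*} [Group G] [Finite G] [Group.IsSolvable G] (H K A B : Subgroup G) (hHK : ∀ g : G, ∃ h ∈ H, ∃ k ∈ K, g = h * k) (hA : A ≤ H) (hAn : (A.subgroupOf H).Normal) (hB : B ≤ K) (hBn : (B.subgroupOf K).Normal) (hAh : (Nat.card A).Coprime A.index) (hBh : (Nat.card B).Coprime B.index) (x y : G) : ∃ S : Subgroup G, (S : Set G) = ((MulAut.conj x • A : Subgroup G) : Set G) * ((MulAut.conj y • B : Subgroup G) : Set G) := by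
  have hperm := permProp_AB H K A B hHK hA hAn hB hBn hAh hBh
  obtain ⟨h, hh, k, hk, e⟩ := hHK (x⁻¹ * y)
  have hHA : H ≤ Subgroup.normalizer (A : Set G) := le_normalizer_of_subgroupOf_normal hA hAn
  have hKB : K ≤ Subgroup.normalizer (B : Set G) := le_normalizer_of_subgroupOf_normal hB hBn
  have h1 : MulAut.conj (x * h) • A = MulAut.conj x • A := by
    rw [map_mul, mul_smul, conj_smul_eq_of_mem_normalizer (hHA hh)]
  have h2 : MulAut.conj (x * h) • B = MulAut.conj y • B := by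
    have hy : y = (x * h) * k := by
      have : y = x * (x⁻¹ * y) := by group
      rw [this, e]; group
    rw [hy, map_mul (MulAut.conj) (x * h) k, mul_smul, conj_smul_eq_of_mem_normalizer (hKB hk)]
  have hperm' := permProp_conj hperm (x * h)
  rw [h1, h2] at hperm'
  refine ⟨prodSubgroup _ _ hperm', ?_⟩
  ext z
  rw [Set.mem_mul]
  constructor
  · rintro ⟨a, ha, c, hc, rfl⟩
    exact ⟨a, ha, c, hc, rfl⟩
  · rintro ⟨a, ha, c, hc, rfl⟩
    exact ⟨a, ha, c, hc, rfl⟩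

end Cfsg.Agent.S0561
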