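import Cfsg.Statements.S0562
import Cfsg.Agent.Lib.Helper2.Conj

set_option autoImplicit false
open Cfsg
open Pointwise Cfsg.Agent.Lib.Helper2

namespace Cfsg.Agent.S0562

/-- Let the finite group G be the product HK of subgroups, A normal in H, B normal in K, and L the normalizer of the subgroup generated by A and B. Then every element of L is a product of an element of L ∩ H and an element of L ∩ K. -/
theorem result {G : Type*} [Group G] [Finite G] (H K A B : Subgroup G) (hHK : ∀ g : G, ∃ h ∈ H, ∃ k ∈ K, g = h * k) (hA : A ≤ H) (hAn : (A.subgroupOf H).Normal) (hB : B ≤ K) (hBn : (B.subgroupOf K).Normal) : ∀ g ∈ Subgroup.normalizer ((A ⊔ B : Subgroup G) : Set G), ∃ h ∈ Subgroup.normalizer ((A ⊔ B : Subgroup G) : Set G) ⊓ H, ∃ k ∈ Subgroup.normalizer ((A ⊔ B : Subgroup G) : Set G) ⊓ K, g = h * k := by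
  intro g hg
  obtain ⟨h, hh, k, hk, rfl⟩ := hHK g
  have hgJ : MulAut.conj (h * k) • (A ⊔ B) = A ⊔ B := conj_smul_eq_of_mem_normalizer hg
  -- conj k • J = conj h⁻¹ • J
  have hkh : MulAut.conj k • (A ⊔ B) = MulAut.conj h⁻¹ • (A ⊔ B) := by
    have : MulAut.conj h⁻¹ • (MulAut.conj (h * k) • (A ⊔ B)) = MulAut.conj k • (A ⊔ B) := by
      rw [smul_smul, ← map_mul]; simp
    rw [← this, hgJ]
  have hBk : B ≤ MulAut.conj k • (A ⊔ B) := by
    have h1 : MulAut.conj k • B = B := conj_smul_eq_of_subgroupOf_normal hB hBn hk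
    calc B = MulAut.conj k • B := h1.symm
      _ ≤ MulAut.conj k • (A ⊔ B) := Subgroup.pointwise_smul_le_pointwise_smul_iff.2 le_sup_right
  have hAk : A ≤ MulAut.conj k • (A ⊔ B) := by
    rw [hkh]
    have h1 : MulAut.conj h⁻¹ • A = A := conj_smul_eq_of_subgroupOf_normal hA hAn (H.inv_mem hh)
    calc A = MulAut.conj h⁻¹ • A := h1.symm
      _ ≤ MulAut.conj h⁻¹ • (A ⊔ B) := Subgroup.pointwise_smul_le_pointwise_smul_iff.2 le_sup_left
  have hk' : MulAut.conj k • (A ⊔ B) = A ⊔ B := conj_smul_eq_of_le (sup_le hAk hBk)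
  have hkN : k ∈ Subgroup.normalizer ((A ⊔ B : Subgroup G) : Set G) :=
    (mem_normalizer_iff_conj_smul_eq _ _).2 hk'
  have hhN : h ∈ Subgroup.normalizer ((A ⊔ B : Subgroup G) : Set G) := by
    have := (Subgroup.normalizer ((A ⊔ B : Subgroup G) : Set G)).mul_mem hg
      ((Subgroup.normalizer ((A ⊔ B : Subgroup G) : Set G)).inv_mem hkN)
    simpa using this
  exact ⟨h, ⟨hhN, hh⟩, k, ⟨hkN, hk⟩, rfl⟩

end Cfsg.Agent.S0562
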