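import Cfsg.Statements.S0567
import Mathlib

set_option autoImplicit false
set_option linter.style.haveILetI false
open Cfsg
open scoped commutatorElement

namespace Cfsg.Agent.S0567

universe u

variable {G : Type u} [Group G]

theorem comm_mul_left (x y z : G) : ⁅x * y, z⁆ = (x * ⁅y, z⁆ * x⁻¹) * ⁅x, z⁆ := by
  simp only [commutatorElement_def]; group

theorem comm_mul_right (x y z : G) : ⁅x, y * z⁆ = ⁅x, y⁆ * (y * ⁅x, z⁆ * y⁻¹) := by
  simp only [commutatorElement_def]; group

theorem le_normalizer_of_conj_mem (X Y : Subgroup G)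
    (h : ∀ x ∈ X, ∀ y ∈ Y, x * y * x⁻¹ ∈ Y) : X ≤ Subgroup.normalizer (Y : Set G) := by
  intro x hx
  rw [Subgroup.mem_normalizer_iff]
  intro y
  constructor
  · exact h x hx y
  · intro hy
    have := h x⁻¹ (X.inv_mem hx) _ hy
    simpa [mul_assoc] using this

/-- `H ⊔ ⁅K, H⁆` is normalized by `H ⊔ K`. -/
theorem sup_le_normalizer (H K : Subgroup G) :
    H ⊔ K ≤ Subgroup.normalizer ((H ⊔ ⁅K, H⁆ : Subgroup G) : Set G) := by
  set T := H ⊔ ⁅K, H⁆ with hT
  have hHT : H ≤ T := le_sup_left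
  have hCT : ⁅K, H⁆ ≤ T := le_sup_right
  apply sup_le
  · apply le_normalizer_of_conj_mem
    intro h₀ hh₀
    have : T ≤ T.comap (MulAut.conj h₀).toMonoidHom := by
      apply sup_le
      · intro h hh
        rw [Subgroup.mem_comap]
        change h₀ * h * h₀⁻¹ ∈ T
        exact hHT (H.mul_mem (H.mul_mem hh₀ hh) (H.inv_mem hh₀))
      · rw [Subgroup.commutator_le]
        intro k hk h hh
        rw [Subgroup.mem_comap]
        change h₀ * ⁅k, h⁆ * h₀⁻¹ ∈ T
        have e : h₀ * ⁅k, h⁆ * h₀⁻¹ = ⁅k, h₀⁆⁻¹ * ⁅k, h₀ * h⁆ := by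
          rw [comm_mul_right]; group
        rw [e]
        apply hCT
        exact Subgroup.mul_mem _ (Subgroup.inv_mem _ (Subgroup.commutator_mem_commutator hk hh₀))
          (Subgroup.commutator_mem_commutator hk (H.mul_mem hh₀ hh))
    intro y hy
    exact this hy
  · apply le_normalizer_of_conj_mem
    intro k₀ hk₀
    have : T ≤ T.comap (MulAut.conj k₀).toMonoidHom := by
      apply sup_le
      · intro h hh
        rw [Subgroup.mem_comap]
        change k₀ * h * k₀⁻¹ ∈ T
        have e : k₀ * h * k₀⁻¹ = ⁅k₀, h⁆ * h := by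
          simp only [commutatorElement_def]; group
        rw [e]
        exact T.mul_mem (hCT (Subgroup.commutator_mem_commutator hk₀ hh)) (hHT hh)
      · rw [Subgroup.commutator_le]
        intro k hk h hh
        rw [Subgroup.mem_comap]
        change k₀ * ⁅k, h⁆ * k₀⁻¹ ∈ T
        have e : k₀ * ⁅k, h⁆ * k₀⁻¹ = ⁅k₀ * k, h⁆ * ⁅k₀, h⁆⁻¹ := by
          rw [comm_mul_left]; group
        rw [e]
        apply hCT
        exact Subgroup.mul_mem _ (Subgroup.commutator_mem_commutator (K.mul_mem hk₀ hk) hh)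
          (Subgroup.inv_mem _ (Subgroup.commutator_mem_commutator hk₀ hh))
    intro y hy
    exact this hy

theorem commutator_le_sup (H K : Subgroup G) : ⁅K, H⁆ ≤ H ⊔ K := by
  rw [Subgroup.commutator_le]
  intro k hk h hh
  have hk' : k ∈ H ⊔ K := (le_sup_right : K ≤ H ⊔ K) hk
  have hh' : h ∈ H ⊔ K := (le_sup_left : H ≤ H ⊔ K) hh
  rw [commutatorElement_def]
  exact Subgroup.mul_mem _ (Subgroup.mul_mem _ (Subgroup.mul_mem _ hk' hh')
    (Subgroup.inv_mem _ hk')) (Subgroup.inv_mem _ hh')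

theorem subnormal_of_iterate (H : Subgroup G) (m : ℕ) :
    ∀ K : Subgroup G, (H ⊔ K).IsSubnormal → (fun K : Subgroup G => ⁅K, H⁆)^[m] K ≤ H →
      H.IsSubnormal := by
  induction m with
  | zero =>
    intro K hK hle
    rw [Function.iterate_zero, id] at hle
    rwa [sup_eq_left.2 hle] at hK
  | succ m ih =>
    intro K hK hle
    rw [Function.iterate_succ_apply] at hle
    apply ih ⁅K, H⁆ _ hle
    have h1 : H ⊔ ⁅K, H⁆ ≤ H ⊔ K := sup_le le_sup_left (commutator_le_sup H K)
    refine Subgroup.IsSubnormal.step _ _ h1 hK ?_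
    rw [Subgroup.normal_subgroupOf_iff_le_normalizer h1]
    exact sup_le_normalizer H K

theorem iterate_mono {H K : Subgroup G} (hHK : H ≤ K) (m : ℕ) (L : Subgroup G) :
    (fun X : Subgroup G => ⁅X, H⁆)^[m] L ≤ (fun X : Subgroup G => ⁅X, K⁆)^[m] L := by
  induction m with
  | zero => exact le_rfl
  | succ m ih =>
    rw [Function.iterate_succ_apply', Function.iterate_succ_apply']
    exact Subgroup.commutator_mono ih hHK

/-- A subgroup H of a group G is subnormal exactly when, for some m, the subgroup obtained from G by taking the commutator with H m times in succession is contained in H. -/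
theorem result {G : Type*} [Group G] (H : Subgroup G) : H.IsSubnormal ↔ ∃ m : ℕ, (fun K : Subgroup G => ⁅K, H⁆)^[m] ⊤ ≤ H := by
  constructor
  · intro h
    induction h with
    | top => exact ⟨0, le_rfl⟩
    | step H K h_le hK hN ih =>
      obtain ⟨m, hm⟩ := ih
      refine ⟨m + 1, ?_⟩
      rw [Function.iterate_succ_apply']
      have h1 : (fun X : Subgroup G => ⁅X, H⁆)^[m] ⊤ ≤ K := (iterate_mono h_le m ⊤).trans hm
      refine (Subgroup.commutator_mono h1 le_rfl).trans ?_
      rw [Subgroup.commutator_le]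
      intro k hk h hh
      have h2 : (⟨k, hk⟩ : K) * ⟨h, h_le hh⟩ * (⟨k, hk⟩ : K)⁻¹ ∈ H.subgroupOf K :=
        hN.conj_mem ⟨h, h_le hh⟩ (by rw [Subgroup.mem_subgroupOf]; exact hh) ⟨k, hk⟩
      rw [Subgroup.mem_subgroupOf] at h2
      have h3 : k * h * k⁻¹ ∈ H := by simpa using h2
      rw [commutatorElement_def]
      exact H.mul_mem h3 (H.inv_mem hh)
  · rintro ⟨m, hm⟩
    apply subnormal_of_iterate H m ⊤ _ hm
    rw [sup_top_eq]
    exact Subgroup.IsSubnormal.top

end Cfsg.Agent.S0567
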