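import Cfsg.Statements.S0569
import Mathlib
import Cfsg.Agent.Lib.Helper2.CarterSys

set_option autoImplicit false
open Cfsg

namespace Cfsg.Agent.S0569
open Cfsg.Agent.Lib.Helper2 Cfsg.Agent.Lib.Helper4
open scoped Pointwise

theorem result {G : Type*} [Group G] [Finite G] [Group.IsSolvable G] : (∀ C : Subgroup G, Cfsg.IsCarterSubgroup C → ∃ K : Nat.Primes → Subgroup G, Cfsg.IsComplementSystem K ∧ Cfsg.systemNormalizer K ≤ C) ∧ ∀ K : Nat.Primes → Subgroup G, Cfsg.IsComplementSystem K → ∃ C : Subgroup G, Cfsg.IsCarterSubgroup C ∧ Cfsg.systemNormalizer K ≤ C := by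
  have hA : ∀ C : Subgroup G, Cfsg.IsCarterSubgroup C → ∃ K : Nat.Primes → Subgroup G,
      Cfsg.IsComplementSystem K ∧ Cfsg.systemNormalizer K ≤ C := by
    intro C hC
    obtain ⟨K, hK, hred⟩ := exists_reducesInto C hC.1
    exact ⟨K, hK, sysNorm_le_of_reducesInto _ G rfl C K hC hK hred⟩
  refine ⟨hA, ?_⟩
  intro K hK
  obtain ⟨⟨C₀, hC₀⟩, -⟩ := carter_main _ G rfl
  obtain ⟨K₀, hK₀, hle⟩ := hA C₀ hC₀
  obtain ⟨g, hg⟩ := Cfsg.Agent.S0543.result K₀ K hK₀ hK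
  refine ⟨MulAut.conj g • C₀, isCarterSubgroup_conj hC₀ g, ?_⟩
  have hKeq : K = fun p => MulAut.conj g • K₀ p := funext fun p => (hg p).symm
  rw [hKeq, systemNormalizer_conj]
  exact Subgroup.pointwise_smul_le_pointwise_smul_iff.2 hle

end Cfsg.Agent.S0569
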