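import Cfsg.Statements.S0570
import Mathlib
import Cfsg.Agent.Lib.Helper2.CarterSys

set_option autoImplicit false
open Cfsg

namespace Cfsg.Agent.S0570
open Cfsg.Agent.Lib.Helper2 Cfsg.Agent.Lib.Helper4
open scoped Pointwise
set_option linter.style.haveILetI false
set_option linter.deprecated false

universe u

theorem carter_le_sysNorm {G : Type u} [Group G] [Finite G] [Group.IsSolvable G]
    (F : Subgroup G) [hFn : F.Normal] (hF : Group.IsNilpotent F)
    (hGF : Group.IsNilpotent (G ⧸ F)) (C : Subgroup G) (hC : Cfsg.IsCarterSubgroup C)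
    (K : Nat.Primes → Subgroup G) (hK : Cfsg.IsComplementSystem K) (hred : ReducesInto K C) :
    C ≤ Cfsg.systemNormalizer K := by
  have hCar : IsCarter C := hC
  have hsub : ∀ L : Subgroup G, L ≠ ⊤ → ConjP L := fun L _ => (carter_main _ L rfl).2
  haveI := hGF
  have hCF : C ⊔ F = ⊤ := by
    have := carter_sup_ker_eq_top hsub (QuotientGroup.mk' F) (QuotientGroup.mk'_surjective F) hCar
    rwa [QuotientGroup.ker_mk'] at this
  unfold Cfsg.systemNormalizer
  intro c hc
  rw [Subgroup.mem_iInf]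
  intro p
  have hp := p.2
  haveI : Fact (p : ℕ).Prime := ⟨hp⟩
  obtain ⟨Q, hQC, hCQ, hQcop, ⟨α, hα⟩, -⟩ := exists_normal_pcompl C hC.1 (p : ℕ)
  obtain ⟨R, hRF, -, hRcop, ⟨β, hβ⟩, hRall⟩ := exists_normal_pcompl F hF (p : ℕ)
  have hRn : R.Normal := by
    constructor
    intro x hx g
    apply hRall _ (hFn.conj_mem x (hRF hx) g)
    have h1 : orderOf (g * x * g⁻¹) = orderOf x := by
      have := MulEquiv.orderOf_eq (MulAut.conj g) x
      rwa [MulAut.conj_apply] at this
    rw [h1]
    have h2 : orderOf x ∣ Nat.card R := by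
      have := orderOf_dvd_natCard (⟨x, hx⟩ : R)
      rwa [Subgroup.orderOf_mk] at this
    exact Nat.Coprime.coprime_dvd_left h2 hRcop
  haveI := hRn
  have hQK : Q ≤ K p := le_of_reducesInto hred p hQC hQcop
  have hRK : R ≤ K p := by
    apply Cfsg.Agent.S0568.le_of_coprime_index R (K p)
    rw [hK p]
    exact Nat.Coprime.pow_right _ hRcop
  have hHK : Q ⊔ R ≤ K p := sup_le hQK hRK
  have hQR : Q ≤ Subgroup.normalizer (R : Set G) := by
    rw [Subgroup.normalizer_eq_top]; exact le_top
  have hCFn : C ≤ Subgroup.normalizer (F : Set G) := by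
    rw [Subgroup.normalizer_eq_top]; exact le_top
  have e1 := card_sup_mul_card_inf C F hCFn
  have e2 := card_sup_mul_card_inf Q R hQR
  have e3 : Nat.card Q * (p : ℕ) ^ α = Nat.card C := by
    have := Subgroup.relIndex_mul_relIndex ⊥ Q C bot_le hQC
    rwa [Subgroup.relIndex_bot_left, Subgroup.relIndex_bot_left, hα] at this
  have e4 : Nat.card R * (p : ℕ) ^ β = Nat.card F := by
    have := Subgroup.relIndex_mul_relIndex ⊥ R F bot_le hRF
    rwa [Subgroup.relIndex_bot_left, Subgroup.relIndex_bot_left, hβ] at this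
  obtain ⟨e, he⟩ : Nat.card (Q ⊓ R : Subgroup G) ∣ Nat.card (C ⊓ F : Subgroup G) :=
    Subgroup.card_dvd_of_le (inf_le_inf hQC hRF)
  have e6 := (Q ⊔ R).card_mul_index
  rw [hCF, Subgroup.card_top] at e1
  have hidx : (Q ⊔ R).index ∣ (p : ℕ) ^ (α + β) := by
    have hpos : 0 < Nat.card (Q ⊔ R : Subgroup G) * Nat.card (Q ⊓ R : Subgroup G) :=
      Nat.mul_pos Nat.card_pos Nat.card_pos
    have : (Nat.card (Q ⊔ R : Subgroup G) * Nat.card (Q ⊓ R : Subgroup G)) *
        ((Q ⊔ R).index * e) =
        (Nat.card (Q ⊔ R : Subgroup G) * Nat.card (Q ⊓ R : Subgroup G)) * (p : ℕ) ^ (α + β) := by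
      calc (Nat.card (Q ⊔ R : Subgroup G) * Nat.card (Q ⊓ R : Subgroup G)) *
            ((Q ⊔ R).index * e)
          = (Nat.card (Q ⊔ R : Subgroup G) * (Q ⊔ R).index) *
              (Nat.card (Q ⊓ R : Subgroup G) * e) := by ring
        _ = Nat.card G * Nat.card (C ⊓ F : Subgroup G) := by rw [e6, he]
        _ = Nat.card C * Nat.card F := e1
        _ = (Nat.card Q * Nat.card R) * (p : ℕ) ^ (α + β) := by
            rw [← e3, ← e4, pow_add]; ring
        _ = (Nat.card (Q ⊔ R : Subgroup G) * Nat.card (Q ⊓ R : Subgroup G)) *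
              (p : ℕ) ^ (α + β) := by rw [e2]
    exact Dvd.intro _ (Nat.eq_of_mul_eq_mul_left hpos this)
  have hnd : ¬ (p : ℕ) ∣ Nat.card (K p) := not_dvd_card_of_index_eq (p : ℕ) hp _ (hK p)
  have hKeq : K p = Q ⊔ R := le_antisymm (le_of_index_dvd_pow hp hHK hidx hnd) hHK
  rw [hKeq, mem_normalizer_iff_conj_smul_eq, Subgroup.smul_sup,
    conj_smul_eq_of_mem_normalizer (hCQ hc),
    conj_smul_eq_of_mem_normalizer
      (by rw [Subgroup.normalizer_eq_top]; exact Subgroup.mem_top c : c ∈ Subgroup.normalizer (R : Set G))]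

/-- Let G be a finite group with a nilpotent normal subgroup F such that G modulo F is nilpotent (nilpotent length at most two). Then a subgroup of G is a Carter subgroup if and only if it is the system normalizer of some Hall complement system. -/
theorem result {G : Type*} [Group G] [Finite G] (F : Subgroup G) [F.Normal] (hF : Group.IsNilpotent F) (hGF : Group.IsNilpotent (G ⧸ F)) (C : Subgroup G) : Cfsg.IsCarterSubgroup C ↔ ∃ K : Nat.Primes → Subgroup G, Cfsg.IsComplementSystem K ∧ C = Cfsg.systemNormalizer K := by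
  haveI : Group.IsSolvable G := by
    haveI := hF
    haveI := hGF
    exact solvable_of_ker_le_range F.subtype (QuotientGroup.mk' F)
      (by rw [QuotientGroup.ker_mk', Subgroup.range_subtype])
  have key : ∀ C : Subgroup G, Cfsg.IsCarterSubgroup C → ∃ K : Nat.Primes → Subgroup G,
      Cfsg.IsComplementSystem K ∧ C = Cfsg.systemNormalizer K := by
    intro C hC
    obtain ⟨K, hK, hred⟩ := exists_reducesInto C hC.1
    exact ⟨K, hK, le_antisymm (carter_le_sysNorm F hF hGF C hC K hK hred)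
      (sysNorm_le_of_reducesInto _ G rfl C K hC hK hred)⟩
  constructor
  · exact key C
  · rintro ⟨K, hK, rfl⟩
    obtain ⟨⟨C₀, hC₀⟩, -⟩ := carter_main _ G rfl
    obtain ⟨K₀, hK₀, hC₀eq⟩ := key C₀ hC₀
    obtain ⟨g, hg⟩ := Cfsg.Agent.S0543.result K₀ K hK₀ hK
    have hKeq : K = fun p => MulAut.conj g • K₀ p := funext fun p => (hg p).symm
    rw [hKeq, systemNormalizer_conj, ← hC₀eq]
    exact isCarterSubgroup_conj hC₀ g

end Cfsg.Agent.S0570
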