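import Cfsg.Statements.S0572
import Mathlib

set_option autoImplicit false
set_option linter.style.haveILetI false
open Cfsg
open scoped commutatorElement

namespace Cfsg.Agent.S0572

universe u

variable {G : Type u} [Group G]

theorem comm_mul_left (x y z : G) : ⁅x * y, z⁆ = (x * ⁅y, z⁆ * x⁻¹) * ⁅x, z⁆ := by
  simp only [commutatorElement_def]; group

theorem comm_mul_right (x y z : G) : ⁅x, y * z⁆ = ⁅x, y⁆ * (y * ⁅x, z⁆ * y⁻¹) := by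
  simp only [commutatorElement_def]; group

theorem conj_comm (g x y : G) : g * ⁅x, y⁆ * g⁻¹ = ⁅g * x * g⁻¹, g * y * g⁻¹⁆ := by
  simp only [commutatorElement_def]; group

theorem comm_eq_one_of_commute {x y : G} (h : x * y = y * x) : ⁅x, y⁆ = 1 := by
  rw [commutatorElement_eq_one_iff_mul_comm]; exact h

section
variable (A B : Subgroup G) (hAc : ∀ x ∈ A, ∀ y ∈ A, x * y = y * x)
  (hBc : ∀ x ∈ B, ∀ y ∈ B, x * y = y * x)
  (hAB : ∀ g : G, ∃ a ∈ A, ∃ b ∈ B, g = a * b)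

include hAB in
theorem exists_BA (g : G) : ∃ b ∈ B, ∃ a ∈ A, g = b * a := by
  obtain ⟨a, ha, b, hb, h⟩ := hAB g⁻¹
  refine ⟨b⁻¹, B.inv_mem hb, a⁻¹, A.inv_mem ha, ?_⟩
  rw [← mul_inv_rev, ← h, inv_inv]

include hAc hBc hAB in
theorem key {a a₁ b b₁ : G} (ha : a ∈ A) (ha₁ : a₁ ∈ A) (hb : b ∈ B) (hb₁ : b₁ ∈ B) :
    (a₁ * b₁) * ⁅a, b⁆ * (a₁ * b₁)⁻¹ = (b₁ * a₁) * ⁅a, b⁆ * (b₁ * a₁)⁻¹ := by
  obtain ⟨a₄, ha₄, b₄, hb₄, h4⟩ := hAB (b₁ * a * b₁⁻¹)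
  obtain ⟨b₃, hb₃, a₃, ha₃, h3⟩ := exists_BA A B hAB (a₁ * b * a₁⁻¹)
  have e1 : b₁ * b * b₁⁻¹ = b := by rw [hBc b₁ hb₁ b hb, mul_inv_cancel_right]
  have e2 : a₁ * a * a₁⁻¹ = a := by rw [hAc a₁ ha₁ a ha, mul_inv_cancel_right]
  have e3 : a₁ * a₄ * a₁⁻¹ = a₄ := by rw [hAc a₁ ha₁ a₄ ha₄, mul_inv_cancel_right]
  have e4 : b₁ * b₃ * b₁⁻¹ = b₃ := by rw [hBc b₁ hb₁ b₃ hb₃, mul_inv_cancel_right]
  have hL : (a₁ * b₁) * ⁅a, b⁆ * (a₁ * b₁)⁻¹ = ⁅a₄, b₃⁆ := by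
    have s1 : (a₁ * b₁) * ⁅a, b⁆ * (a₁ * b₁)⁻¹ = a₁ * (b₁ * ⁅a, b⁆ * b₁⁻¹) * a₁⁻¹ := by group
    rw [s1, conj_comm b₁, e1, h4, comm_mul_left, comm_eq_one_of_commute (hBc b₄ hb₄ b hb)]
    simp only [mul_one, mul_inv_cancel, one_mul]
    rw [conj_comm a₁, e3, h3, comm_mul_right, comm_eq_one_of_commute (hAc a₄ ha₄ a₃ ha₃)]
    simp only [mul_one, mul_inv_cancel]
  have hR : (b₁ * a₁) * ⁅a, b⁆ * (b₁ * a₁)⁻¹ = ⁅a₄, b₃⁆ := by
    have s1 : (b₁ * a₁) * ⁅a, b⁆ * (b₁ * a₁)⁻¹ = b₁ * (a₁ * ⁅a, b⁆ * a₁⁻¹) * b₁⁻¹ := by group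
    rw [s1, conj_comm a₁, e2, h3, comm_mul_right, comm_eq_one_of_commute (hAc a ha a₃ ha₃)]
    simp only [mul_one, mul_inv_cancel]
    rw [conj_comm b₁, e4, h4, comm_mul_left, comm_eq_one_of_commute (hBc b₄ hb₄ b₃ hb₃)]
    simp only [mul_one, mul_inv_cancel, one_mul]
  rw [hL, hR]

include hAc hBc hAB in
theorem comm_commute {a a₁ b b₁ : G} (ha : a ∈ A) (ha₁ : a₁ ∈ A) (hb : b ∈ B) (hb₁ : b₁ ∈ B) :
    ⁅a₁, b₁⁆ * ⁅a, b⁆ = ⁅a, b⁆ * ⁅a₁, b₁⁆ := by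
  have h := key A B hAc hBc hAB ha (A.inv_mem ha₁) hb (B.inv_mem hb₁)
  have h2 : ⁅a₁, b₁⁆ = (b₁⁻¹ * a₁⁻¹)⁻¹ * (a₁⁻¹ * b₁⁻¹) := by
    simp only [commutatorElement_def]; group
  rw [h2]
  set u := a₁⁻¹ * b₁⁻¹ with hu
  set v := b₁⁻¹ * a₁⁻¹ with hv
  set c := ⁅a, b⁆ with hc
  calc v⁻¹ * u * c = v⁻¹ * (u * c * u⁻¹) * u := by group
    _ = v⁻¹ * (v * c * v⁻¹) * u := by rw [h]
    _ = c * (v⁻¹ * u) := by group
end

/-- Itô's Theorem: if a group G is the product AB of two abelian subgroups, then the commutator subgroup of G is abelian, i.e. the second term of the derived series is trivial. -/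
theorem result {G : Type*} [Group G] (A B : Subgroup G) [IsMulCommutative A] [IsMulCommutative B] (hAB : ∀ g : G, ∃ a ∈ A, ∃ b ∈ B, g = a * b) : derivedSeries G 2 = ⊥ := by
  have hAc : ∀ x ∈ A, ∀ y ∈ A, x * y = y * x := by
    intro x hx y hy
    have := mul_comm' (⟨x, hx⟩ : A) ⟨y, hy⟩
    exact congrArg Subtype.val this
  have hBc : ∀ x ∈ B, ∀ y ∈ B, x * y = y * x := by
    intro x hx y hy
    have := mul_comm' (⟨x, hx⟩ : B) ⟨y, hy⟩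
    exact congrArg Subtype.val this
  let S : Set G := {c | ∃ a ∈ A, ∃ b ∈ B, c = ⁅a, b⁆}
  let N : Subgroup G := Subgroup.closure S
  have hSN : ∀ {a b : G}, a ∈ A → b ∈ B → ⁅a, b⁆ ∈ N := fun ha hb =>
    Subgroup.subset_closure ⟨_, ha, _, hb, rfl⟩
  -- conjugation by A preserves generators
  have hconjA : ∀ {a' a b : G}, a' ∈ A → a ∈ A → b ∈ B → a' * ⁅a, b⁆ * a'⁻¹ ∈ N := by
    intro a' a b ha' ha hb
    have h1 := comm_mul_left a' a b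
    have h2 : a' * ⁅a, b⁆ * a'⁻¹ = ⁅a' * a, b⁆ * ⁅a', b⁆⁻¹ := by
      rw [h1]; group
    rw [h2]
    exact N.mul_mem (hSN (A.mul_mem ha' ha) hb) (N.inv_mem (hSN ha' hb))
  have hcommG : commutator G ≤ N := by
    rw [commutator_def, Subgroup.commutator_le]
    intro g _ h _
    obtain ⟨a, ha, b, hb, rfl⟩ := hAB g
    obtain ⟨a', ha', b', hb', rfl⟩ := hAB h
    have e1 : ⁅a * b, a' * b'⁆ = (a * ⁅b, a' * b'⁆ * a⁻¹) * ⁅a, a' * b'⁆ := comm_mul_left _ _ _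
    have e2 : ⁅a, a' * b'⁆ = a' * ⁅a, b'⁆ * a'⁻¹ := by
      rw [comm_mul_right, comm_eq_one_of_commute (hAc a ha a' ha'), one_mul]
    have e3 : ⁅b, a' * b'⁆ = ⁅a', b⁆⁻¹ := by
      rw [comm_mul_right, comm_eq_one_of_commute (hBc b hb b' hb'), mul_one, mul_inv_cancel,
        mul_one, commutatorElement_inv]
    rw [e1, e2, e3]
    refine N.mul_mem ?_ (hconjA ha' ha hb')
    have : a * ⁅a', b⁆⁻¹ * a⁻¹ = (a * ⁅a', b⁆ * a⁻¹)⁻¹ := by group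
    rw [this]
    exact N.inv_mem (hconjA ha ha' hb)
  have hNcomm : N ≤ Subgroup.centralizer (N : Set G) := by
    have h1 : N ≤ Subgroup.centralizer S := by
      rw [Subgroup.closure_le]
      rintro x ⟨a, ha, b, hb, rfl⟩
      rw [SetLike.mem_coe, Subgroup.mem_centralizer_iff]
      rintro y ⟨a₁, ha₁, b₁, hb₁, rfl⟩
      exact comm_commute A B hAc hBc hAB ha ha₁ hb hb₁
    rw [Subgroup.closure_le]
    intro x hx
    rw [SetLike.mem_coe, Subgroup.mem_centralizer_iff]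
    intro y hy
    have := (Subgroup.mem_centralizer_iff.1 (h1 hy)) x hx
    exact this.symm
  have h2 : derivedSeries G 2 = ⁅derivedSeries G 1, derivedSeries G 1⁆ := derivedSeries_succ G 1
  rw [h2, derivedSeries_one, eq_bot_iff]
  calc ⁅commutator G, commutator G⁆ ≤ ⁅N, N⁆ := Subgroup.commutator_mono hcommG hcommG
    _ = ⊥ := by rw [Subgroup.commutator_eq_bot_iff_le_centralizer]; exact hNcomm

end Cfsg.Agent.S0572
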