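import Cfsg.Statements.S0573
import Cfsg.Agent.S0572

set_option autoImplicit false
open Cfsg

namespace Cfsg.Agent.S0573

open scoped commutatorElement

theorem exists_min_normal {G : Type*} [Group G] [Finite G] [Nontrivial G] :
    ∃ N : Subgroup G, N.Normal ∧ N ≠ ⊥ ∧
      ∀ K : Subgroup G, K.Normal → K ≤ N → K = ⊥ ∨ K = N := by
  have hfin : ({N : Subgroup G | N.Normal ∧ N ≠ ⊥} : Set (Subgroup G)).Finite := Set.toFinite _
  have hne : ({N : Subgroup G | N.Normal ∧ N ≠ ⊥} : Set (Subgroup G)).Nonempty :=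
    ⟨⊤, inferInstance, top_ne_bot⟩
  obtain ⟨N, ⟨hNn, hN0⟩, hmin⟩ := hfin.exists_minimal hne
  refine ⟨N, hNn, hN0, ?_⟩
  intro K hKn hKN
  by_cases hK : K = ⊥
  · left; exact hK
  · right
    exact le_antisymm hKN (hmin ⟨hKn, hK⟩ hKN)

theorem key_identity {G : Type*} [Group G] (A B : Subgroup G)
    (hA : ∀ x ∈ A, ∀ y ∈ A, x * y = y * x) (hB : ∀ x ∈ B, ∀ y ∈ B, x * y = y * x)
    (hAB : ∀ g : G, ∃ a ∈ A, ∃ b ∈ B, g = a * b)
    (a₀ : G) (ha₀ : a₀ ∈ A) (n : G) (b : G) (hb : b ∈ B) :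
    ∃ a' ∈ A, n * (b * (n⁻¹ * a₀ * n * a₀⁻¹) * b⁻¹) = a' * n * a'⁻¹ := by
  obtain ⟨an, han, bn, hbn, hn⟩ := hAB n
  obtain ⟨a', ha', b', hb', hg⟩ := hAB (b * a₀)
  refine ⟨a', ha', ?_⟩
  have e1 : a₀ * an = an * a₀ := hA _ ha₀ _ han
  have e2 : a' * an = an * a' := hA _ ha' _ han
  have e3 : b * bn = bn * b := hB _ hb _ hbn
  have e4 : b' * bn = bn * b' := hB _ hb' _ hbn
  have h1 : (b * a₀) * bn * (b * a₀)⁻¹ = (a' * b') * bn * (a' * b')⁻¹ := by rw [hg]
  have c1 : bn * b * bn⁻¹ = b := by rw [← e3, mul_inv_cancel_right]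
  have c2 : an⁻¹ * a₀ * an = a₀ := by rw [mul_assoc, e1, inv_mul_cancel_left]
  have c3 : an * a' * an⁻¹ = a' := by rw [← e2, mul_inv_cancel_right]
  have c4 : b' * bn * b'⁻¹ = bn := by rw [e4, mul_inv_cancel_right]
  subst hn
  have s1 : an * bn * (b * ((an * bn)⁻¹ * a₀ * (an * bn) * a₀⁻¹) * b⁻¹) =
      an * (bn * b * bn⁻¹) * (an⁻¹ * a₀ * an) * bn * a₀⁻¹ * b⁻¹ := by group
  have s2 : an * ((a' * b') * bn * (a' * b')⁻¹) =
      (an * a' * an⁻¹) * an * (b' * bn * b'⁻¹) * a'⁻¹ := by group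
  calc an * bn * (b * ((an * bn)⁻¹ * a₀ * (an * bn) * a₀⁻¹) * b⁻¹)
      = an * b * a₀ * bn * a₀⁻¹ * b⁻¹ := by rw [s1, c1, c2]
    _ = an * ((b * a₀) * bn * (b * a₀)⁻¹) := by group
    _ = an * ((a' * b') * bn * (a' * b')⁻¹) := by rw [h1]
    _ = a' * an * bn * a'⁻¹ := by rw [s2, c3, c4]
    _ = a' * (an * bn) * a'⁻¹ := by group

def cAct {G : Type*} [Group G] (X : Subgroup G) : MulAction ↥X G where
  smul x g := (x : G) * g * (x : G)⁻¹
  one_smul g := by
    show ((1 : ↥X) : G) * g * ((1 : ↥X) : G)⁻¹ = g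
    simp
  mul_smul x y g := by
    show ((x * y : ↥X) : G) * g * ((x * y : ↥X) : G)⁻¹ =
      (x : G) * ((y : G) * g * (y : G)⁻¹) * (x : G)⁻¹
    simp [mul_assoc]

def orb {G : Type*} [Group G] (X : Subgroup G) (n : G) : Set G :=
  {y | ∃ x ∈ X, y = x * n * x⁻¹}

theorem orb_ncard {G : Type*} [Group G] (X N C : Subgroup G)
    (hsemi : ∀ g : G, g ∉ C → ∀ n ∈ N, g * n * g⁻¹ = n → n = 1)
    (hC : ∀ g ∈ C, ∀ n ∈ N, g * n * g⁻¹ = n) (n : G) (hn : n ∈ N) (hn1 : n ≠ 1) :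
    (orb X n).ncard = (C.subgroupOf X).index := by
  letI : MulAction ↥X G := cAct X
  have h1 : orb X n = MulAction.orbit ↥X n := by
    ext y
    constructor
    · rintro ⟨x, hx, rfl⟩
      exact ⟨⟨x, hx⟩, rfl⟩
    · rintro ⟨x, rfl⟩
      exact ⟨x.1, x.2, rfl⟩
  have h2 : MulAction.stabilizer ↥X n = C.subgroupOf X := by
    ext x
    rw [MulAction.mem_stabilizer_iff, Subgroup.mem_subgroupOf]
    constructor
    · intro h
      by_contra hx
      exact hn1 (hsemi _ hx n hn h)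
    · intro hx
      exact hC _ hx n hn
  rw [h1, ← MulAction.index_stabilizer, h2]

theorem count_lemma {G : Type*} [Group G] [Finite G] (A B : Subgroup G)
    (hA : ∀ x ∈ A, ∀ y ∈ A, x * y = y * x) (hB : ∀ x ∈ B, ∀ y ∈ B, x * y = y * x)
    (hAB : ∀ g : G, ∃ a ∈ A, ∃ b ∈ B, g = a * b)
    (N C : Subgroup G) (hNn : ∀ g : G, ∀ n ∈ N, g * n * g⁻¹ ∈ N)
    (hsemi : ∀ g : G, g ∉ C → ∀ n ∈ N, g * n * g⁻¹ = n → n = 1)
    (hC : ∀ g ∈ C, ∀ n ∈ N, g * n * g⁻¹ = n)
    (a₀ : G) (ha₀ : a₀ ∈ A) (ha₀C : a₀ ∉ C) (n₀ : G) (hn₀ : n₀ ∈ N) (hn₀1 : n₀ ≠ 1) :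
    (C.subgroupOf B).index ≤ (C.subgroupOf A).index ∧
      ¬ (C.subgroupOf A).index ≤ (C.subgroupOf B).index := by
  have hw : n₀⁻¹ * a₀ * n₀ * a₀⁻¹ ∈ N := by
    have : n₀⁻¹ * a₀ * n₀ * a₀⁻¹ = n₀⁻¹ * (a₀ * n₀ * a₀⁻¹) := by group
    rw [this]; exact N.mul_mem (N.inv_mem hn₀) (hNn a₀ n₀ hn₀)
  have hw1 : n₀⁻¹ * a₀ * n₀ * a₀⁻¹ ≠ 1 := by
    intro h
    apply hn₀1
    apply hsemi a₀ ha₀C n₀ hn₀
    have : a₀ * n₀ * a₀⁻¹ = n₀ * (n₀⁻¹ * a₀ * n₀ * a₀⁻¹) := by group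
    rw [this, h, mul_one]
  have hsub : (fun x => n₀ * x) '' (orb B (n₀⁻¹ * a₀ * n₀ * a₀⁻¹)) ⊆ orb A n₀ := by
    rintro _ ⟨y, ⟨b, hb, rfl⟩, rfl⟩
    obtain ⟨a', ha', h⟩ := key_identity A B hA hB hAB a₀ ha₀ n₀ b hb
    exact ⟨a', ha', h⟩
  have hinj : Function.Injective (fun x : G => n₀ * x) := mul_right_injective n₀
  have hcA := orb_ncard A N C hsemi hC n₀ hn₀ hn₀1
  have hcB := orb_ncard B N C hsemi hC _ hw hw1
  have himg : ((fun x => n₀ * x) '' (orb B (n₀⁻¹ * a₀ * n₀ * a₀⁻¹))).ncard =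
      (C.subgroupOf B).index := by
    rw [Set.ncard_image_of_injective _ hinj, hcB]
  constructor
  · rw [← himg, ← hcA]
    exact Set.ncard_le_ncard hsub (Set.toFinite _)
  · intro hle
    have heq : (fun x => n₀ * x) '' (orb B (n₀⁻¹ * a₀ * n₀ * a₀⁻¹)) = orb A n₀ := by
      apply Set.eq_of_subset_of_ncard_le hsub _ (Set.toFinite _)
      rw [himg, hcA]; exact hle
    have hmem : n₀ ∈ orb A n₀ := ⟨1, A.one_mem, by simp⟩
    rw [← heq] at hmem
    obtain ⟨y, ⟨b, hb, rfl⟩, hy⟩ := hmem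
    have hy' : n₀ * (b * (n₀⁻¹ * a₀ * n₀ * a₀⁻¹) * b⁻¹) = n₀ * 1 := by rw [mul_one]; exact hy
    have h1 : b * (n₀⁻¹ * a₀ * n₀ * a₀⁻¹) * b⁻¹ = 1 := mul_left_cancel hy'
    apply hw1
    have : n₀⁻¹ * a₀ * n₀ * a₀⁻¹ = b⁻¹ * (b * (n₀⁻¹ * a₀ * n₀ * a₀⁻¹) * b⁻¹) * b := by group
    rw [this, h1]; group

/-- If a nontrivial finite group G is the product AB of abelian subgroups A and B, then some nontrivial normal subgroup of G is contained in A or in B. -/
theorem result {G : Type*} [Group G] [Finite G] [Nontrivial G] (A B : Subgroup G) [IsMulCommutative A] [IsMulCommutative B] (hAB : ∀ g : G, ∃ a ∈ A, ∃ b ∈ B, g = a * b) : ∃ N : Subgroup G, N.Normal ∧ N ≠ ⊥ ∧ (N ≤ A ∨ N ≤ B) := by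
  classical
  by_contra hcon
  have hno : ∀ N : Subgroup G, N.Normal → N ≠ ⊥ → ¬ (N ≤ A ∨ N ≤ B) :=
    fun N h1 h2 h3 => hcon ⟨N, h1, h2, h3⟩
  have hA : ∀ x ∈ A, ∀ y ∈ A, x * y = y * x := fun x hx y hy =>
    congrArg Subtype.val (IsMulCommutative.is_comm.comm (⟨x, hx⟩ : ↥A) ⟨y, hy⟩)
  have hB : ∀ x ∈ B, ∀ y ∈ B, x * y = y * x := fun x hx y hy =>
    congrArg Subtype.val (IsMulCommutative.is_comm.comm (⟨x, hx⟩ : ↥B) ⟨y, hy⟩)
  have hcen : ∀ x : G, (∀ a ∈ A, x * a = a * x) → (∀ b ∈ B, x * b = b * x) →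
      ∀ g : G, g * x = x * g := by
    intro x h1 h2 g
    obtain ⟨a, ha, b, hb, rfl⟩ := hAB g
    rw [mul_assoc, ← h2 b hb, ← mul_assoc, ← h1 a ha, mul_assoc]
  have hZA : ∀ a ∈ A, (∀ g : G, g * a = a * g) → a = 1 := by
    intro a ha hc
    by_contra ha1
    have hnorm : (Subgroup.center G ⊓ A).Normal := by
      refine ⟨fun n hn g => ?_⟩
      have hnc : n ∈ Subgroup.center G := (Subgroup.mem_inf.1 hn).1
      have : g * n * g⁻¹ = n := by
        rw [Subgroup.mem_center_iff] at hnc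
        rw [hnc g, mul_inv_cancel_right]
      rw [this]; exact hn
    refine hno _ hnorm ?_ (Or.inl inf_le_right)
    intro hbot
    have : a ∈ Subgroup.center G ⊓ A := Subgroup.mem_inf.2 ⟨Subgroup.mem_center_iff.2 hc, ha⟩
    rw [hbot, Subgroup.mem_bot] at this
    exact ha1 this
  have hZB : ∀ b ∈ B, (∀ g : G, g * b = b * g) → b = 1 := by
    intro b hb hc
    by_contra hb1
    have hnorm : (Subgroup.center G ⊓ B).Normal := by
      refine ⟨fun n hn g => ?_⟩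
      have hnc : n ∈ Subgroup.center G := (Subgroup.mem_inf.1 hn).1
      have : g * n * g⁻¹ = n := by
        rw [Subgroup.mem_center_iff] at hnc
        rw [hnc g, mul_inv_cancel_right]
      rw [this]; exact hn
    refine hno _ hnorm ?_ (Or.inr inf_le_right)
    intro hbot
    have : b ∈ Subgroup.center G ⊓ B := Subgroup.mem_inf.2 ⟨Subgroup.mem_center_iff.2 hc, hb⟩
    rw [hbot, Subgroup.mem_bot] at this
    exact hb1 this
  have hZ : ∀ z : G, (∀ g : G, g * z = z * g) → z = 1 := by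
    intro z hz
    obtain ⟨a, ha, b, hb, rfl⟩ := hAB z
    have hac : ∀ g : G, g * a = a * g := by
      apply hcen
      · intro a1 ha1; exact hA a ha a1 ha1
      · intro b1 hb1
        have h1 := hz b1
        have h2 := hB b hb b1 hb1
        have : a * b1 * b = b1 * a * b := by
          rw [mul_assoc, ← h2, ← mul_assoc, ← h1, mul_assoc]
        exact mul_right_cancel this
    have hbc : ∀ g : G, g * b = b * g := by
      apply hcen
      · intro a1 ha1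
        have h1 := hz a1
        have h2 := hA a ha a1 ha1
        have : a * (b * a1) = a * (a1 * b) := by
          rw [← mul_assoc, ← h1, ← mul_assoc, ← h2, mul_assoc]
        exact mul_left_cancel this
      · intro b1 hb1; exact hB b hb b1 hb1
    rw [hZA a ha hac, hZB b hb hbc, mul_one]
  have hIto : derivedSeries G 2 = ⊥ := Cfsg.Agent.S0572.result A B hAB
  have hW : ∀ x ∈ commutator G, ∀ y ∈ commutator G, x * y = y * x := by
    have h1 : ⁅commutator G, commutator G⁆ = ⊥ := by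
      have : derivedSeries G 2 = ⁅commutator G, commutator G⁆ := by
        rw [show (2 : ℕ) = 1 + 1 from rfl, derivedSeries_succ, derivedSeries_one]
      rw [← this]; exact hIto
    rw [Subgroup.commutator_eq_bot_iff_le_centralizer] at h1
    intro x hx y hy
    have := Subgroup.mem_centralizer_iff.1 (h1 hx) y hy
    exact this.symm
  obtain ⟨N, hNn, hN1, hNmin⟩ := exists_min_normal (G := G)
  haveI := hNn
  have hNW : N ≤ commutator G := by
    have hK : (⁅N, (⊤ : Subgroup G)⁆).Normal := inferInstance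
    have hKN : ⁅N, (⊤ : Subgroup G)⁆ ≤ N := Subgroup.commutator_le_left N ⊤
    rcases hNmin _ hK hKN with h0 | h1
    · exfalso
      apply hN1
      rw [Subgroup.eq_bot_iff_forall]
      intro n hn
      apply hZ
      intro g
      have hmem : ⁅n, g⁆ ∈ ⁅N, (⊤ : Subgroup G)⁆ :=
        Subgroup.commutator_mem_commutator hn (Subgroup.mem_top g)
      rw [h0, Subgroup.mem_bot, commutatorElement_eq_one_iff_mul_comm] at hmem
      exact hmem.symm
    · rw [← h1, commutator_def]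
      exact Subgroup.commutator_mono le_top le_rfl
  obtain ⟨C, hCdef⟩ : ∃ C : Subgroup G, C = Subgroup.centralizer (N : Set G) := ⟨_, rfl⟩
  have hCmem : ∀ g : G, g ∈ C ↔ ∀ n ∈ N, n * g = g * n := by
    intro g
    simp only [hCdef, Subgroup.mem_centralizer_iff, SetLike.mem_coe]
  have hC : ∀ g ∈ C, ∀ n ∈ N, g * n * g⁻¹ = n := fun g hg n hn => by
    rw [← (hCmem g).1 hg n hn, mul_inv_cancel_right]
  have hWC : ∀ w ∈ commutator G, w ∈ C := fun w hw =>
    (hCmem w).2 (fun n hn => hW n (hNW hn) w hw)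
  have hNn' : ∀ g : G, ∀ n ∈ N, g * n * g⁻¹ ∈ N := fun g n hn => hNn.conj_mem n hn g
  have hsemi : ∀ g : G, g ∉ C → ∀ n ∈ N, g * n * g⁻¹ = n → n = 1 := by
    intro g hg n hn hgn
    have hDn : (N ⊓ Subgroup.centralizer ({g} : Set G)).Normal := by
      refine ⟨fun m hm h => ?_⟩
      obtain ⟨hmN, hmg⟩ := Subgroup.mem_inf.1 hm
      rw [Subgroup.mem_centralizer_singleton_iff] at hmg
      refine Subgroup.mem_inf.2 ⟨hNn.conj_mem m hmN h, ?_⟩
      rw [Subgroup.mem_centralizer_singleton_iff]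
      have hc : m * (g⁻¹ * h⁻¹ * g * h) = (g⁻¹ * h⁻¹ * g * h) * m := by
        have hcW : g⁻¹ * h⁻¹ * g * h ∈ commutator G := by
          have : g⁻¹ * h⁻¹ * g * h = ⁅g⁻¹, h⁻¹⁆ := by rw [commutatorElement_def]; group
          rw [this, commutator_def]
          exact Subgroup.commutator_mem_commutator (Subgroup.mem_top _) (Subgroup.mem_top _)
        exact (hCmem _).1 (hWC _ hcW) m hmN
      calc h * m * h⁻¹ * g = h * (m * g) * (g⁻¹ * h⁻¹ * g * h) * h⁻¹ := by group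
        _ = h * (g * m) * (g⁻¹ * h⁻¹ * g * h) * h⁻¹ := by rw [hmg]
        _ = h * g * (m * (g⁻¹ * h⁻¹ * g * h)) * h⁻¹ := by group
        _ = h * g * ((g⁻¹ * h⁻¹ * g * h) * m) * h⁻¹ := by rw [hc]
        _ = g * (h * m * h⁻¹) := by group
    rcases hNmin _ hDn inf_le_left with h0 | h1
    · have : n ∈ N ⊓ Subgroup.centralizer ({g} : Set G) := by
        refine Subgroup.mem_inf.2 ⟨hn, ?_⟩
        rw [Subgroup.mem_centralizer_singleton_iff]
        exact (mul_inv_eq_iff_eq_mul.1 hgn).symm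
      rw [h0, Subgroup.mem_bot] at this
      exact this
    · exfalso
      apply hg
      rw [hCmem]
      intro m hm
      have : m ∈ N ⊓ Subgroup.centralizer ({g} : Set G) := by rw [h1]; exact hm
      have h2 := (Subgroup.mem_inf.1 this).2
      rw [Subgroup.mem_centralizer_singleton_iff] at h2
      exact h2
  have hBA : ∀ g : G, ∃ b ∈ B, ∃ a ∈ A, g = b * a := by
    intro g
    obtain ⟨a, ha, b, hb, h⟩ := hAB g⁻¹
    refine ⟨b⁻¹, B.inv_mem hb, a⁻¹, A.inv_mem ha, ?_⟩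
    rw [← mul_inv_rev, ← h, inv_inv]
  by_cases hAC : A ≤ C
  · apply hno N hNn hN1
    left
    intro n hn
    obtain ⟨a, ha, b, hb, rfl⟩ := hAB n
    have hbc : ∀ g : G, g * b = b * g := by
      apply hcen
      · intro a1 ha1
        have h1 := hA a ha a1 ha1
        have h2 := (hCmem a1).1 (hAC ha1) (a * b) hn
        have : a * (b * a1) = a * (a1 * b) := by
          rw [← mul_assoc, h2, ← mul_assoc, ← h1, mul_assoc]
        exact mul_left_cancel this
      · intro b1 hb1; exact hB b hb b1 hb1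
    rw [hZB b hb hbc, mul_one]; exact ha
  · by_cases hBC : B ≤ C
    · apply hno N hNn hN1
      right
      intro n hn
      obtain ⟨a, ha, b, hb, rfl⟩ := hAB n
      have hac : ∀ g : G, g * a = a * g := by
        apply hcen
        · intro a1 ha1; exact hA a ha a1 ha1
        · intro b1 hb1
          have h1 := hB b hb b1 hb1
          have h2 := (hCmem b1).1 (hBC hb1) (a * b) hn
          have : a * b1 * b = b1 * a * b := by
            rw [mul_assoc, ← h1, ← mul_assoc, h2, mul_assoc]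
          exact mul_right_cancel this
      rw [hZA a ha hac, one_mul]; exact hb
    · obtain ⟨a₀, ha₀, ha₀C⟩ := SetLike.not_le_iff_exists.1 hAC
      obtain ⟨b₀, hb₀, hb₀C⟩ := SetLike.not_le_iff_exists.1 hBC
      obtain ⟨n₀, hn₀, hn₀1⟩ : ∃ n ∈ N, n ≠ 1 := by
        by_contra h
        push Not at h
        exact hN1 ((Subgroup.eq_bot_iff_forall N).2 h)
      have h1 := count_lemma A B hA hB hAB N C hNn' hsemi hC a₀ ha₀ ha₀C n₀ hn₀ hn₀1
      have h2 := count_lemma B A hB hA hBA N C hNn' hsemi hC b₀ hb₀ hb₀C n₀ hn₀ hn₀1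
      exact h1.2 h2.1

end Cfsg.Agent.S0573
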