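import Cfsg.Statements.S0571
import Cfsg.Agent.S0573

set_option autoImplicit false
open Cfsg

namespace Cfsg.Agent.S0571

universe u

theorem isMulComm_of_cyclic {H : Type*} [Group H] [IsCyclic H] : IsMulCommutative H := by
  letI : CommGroup H := IsCyclic.commGroup
  exact ⟨⟨fun a b => mul_comm a b⟩⟩

theorem cyclic_of_le {G : Type*} [Group G] (A N : Subgroup G) [IsCyclic A] (h : N ≤ A) :
    ∃ g : G, Subgroup.zpowers g = N := by
  have h1 : IsCyclic ↥(N.subgroupOf A) := inferInstance
  have h2 : IsCyclic ↥N :=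
    isCyclic_of_surjective (Subgroup.subgroupOfEquivOfLe h) (Subgroup.subgroupOfEquivOfLe h).surjective
  exact (Subgroup.isCyclic_iff_exists_zpowers_eq_top N).1 h2

theorem comap_sup_zpowers {G : Type*} [Group G] (N : Subgroup G) [N.Normal]
    (K : Subgroup (G ⧸ N)) (g : G) :
    (K ⊔ Subgroup.zpowers (QuotientGroup.mk' N g)).comap (QuotientGroup.mk' N) =
      K.comap (QuotientGroup.mk' N) ⊔ Subgroup.zpowers g := by
  rw [← Subgroup.comap_sup_eq (QuotientGroup.mk' N) _ _ (QuotientGroup.mk'_surjective N)]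
  have h1 : (Subgroup.zpowers (QuotientGroup.mk' N g)).comap (QuotientGroup.mk' N) =
      Subgroup.zpowers g ⊔ N := by
    rw [← MonoidHom.map_zpowers, Subgroup.comap_map_eq, QuotientGroup.ker_mk']
  have h2 : N ≤ K.comap (QuotientGroup.mk' N) := by
    intro x hx
    rw [Subgroup.mem_comap]
    have : QuotientGroup.mk' N x = 1 := (QuotientGroup.eq_one_iff x).2 hx
    rw [this]; exact K.one_mem
  rw [h1]
  apply le_antisymm
  · exact sup_le le_sup_left (sup_le le_sup_right (h2.trans le_sup_left))
  · exact sup_le le_sup_left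
      ((le_sup_left : Subgroup.zpowers g ≤ Subgroup.zpowers g ⊔ N).trans le_sup_right)

theorem aux : ∀ (n : ℕ) (G : Type u) [Group G] [Finite G] (A B : Subgroup G) [IsCyclic A]
    [IsCyclic B], (∀ g : G, ∃ a ∈ A, ∃ b ∈ B, g = a * b) → Nat.card G = n →
    Cfsg.IsSupersolvable G := by
  intro n
  induction n using Nat.strong_induction_on with
  | _ n ih =>
    intro G _ _ A B _ _ hAB hn
    by_cases hG : Nontrivial G
    · haveI : IsMulCommutative ↥A := isMulComm_of_cyclic
      haveI : IsMulCommutative ↥B := isMulComm_of_cyclic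
      obtain ⟨N, hNn, hN1, hNAB⟩ := Cfsg.Agent.S0573.result A B hAB
      haveI := hNn
      obtain ⟨g₀, hg₀⟩ : ∃ g : G, Subgroup.zpowers g = N := by
        rcases hNAB with h | h
        · exact cyclic_of_le A N h
        · exact cyclic_of_le B N h
      have hcard : Nat.card (G ⧸ N) < n := by
        have h1 := Subgroup.card_eq_card_quotient_mul_card_subgroup N
        have h2 : 1 < Nat.card N := (Subgroup.one_lt_card_iff_ne_bot N).2 hN1
        have h3 : 0 < Nat.card (G ⧸ N) := Nat.card_pos
        rw [← hn, h1]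
        nlinarith
      haveI : IsCyclic ↥(A.map (QuotientGroup.mk' N)) :=
        isCyclic_of_surjective ((QuotientGroup.mk' N).subgroupMap A)
          ((QuotientGroup.mk' N).subgroupMap_surjective A)
      haveI : IsCyclic ↥(B.map (QuotientGroup.mk' N)) :=
        isCyclic_of_surjective ((QuotientGroup.mk' N).subgroupMap B)
          ((QuotientGroup.mk' N).subgroupMap_surjective B)
      have hAB' : ∀ q : G ⧸ N, ∃ a ∈ A.map (QuotientGroup.mk' N),
          ∃ b ∈ B.map (QuotientGroup.mk' N), q = a * b := by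
        intro q
        obtain ⟨g, rfl⟩ := QuotientGroup.mk'_surjective N q
        obtain ⟨a, ha, b, hb, rfl⟩ := hAB g
        exact ⟨_, Subgroup.mem_map_of_mem _ ha, _, Subgroup.mem_map_of_mem _ hb, map_mul _ a b⟩
      obtain ⟨m, K, hK0, hKm, hKn, hKs⟩ :=
        ih _ hcard (G ⧸ N) (A.map (QuotientGroup.mk' N)) (B.map (QuotientGroup.mk' N)) hAB' rfl
      refine ⟨m + 1, Fin.cons ⊥ (fun i => (K i).comap (QuotientGroup.mk' N)), ?_, ?_, ?_, ?_⟩
      · rfl
      · rw [← Fin.succ_last, Fin.cons_succ, hKm, Subgroup.comap_top]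
      · intro i
        refine Fin.cases ?_ (fun j => ?_) i
        · rw [Fin.cons_zero]; infer_instance
        · rw [Fin.cons_succ]; exact (hKn j).comap _
      · intro i
        refine Fin.cases ?_ (fun j => ?_) i
        · refine ⟨g₀, ?_⟩
          rw [Fin.cons_succ, Fin.castSucc_zero, Fin.cons_zero, hK0, hg₀, bot_sup_eq,
            MonoidHom.comap_bot, QuotientGroup.ker_mk']
        · obtain ⟨q, hq⟩ := hKs j
          obtain ⟨g, rfl⟩ := QuotientGroup.mk'_surjective N q
          refine ⟨g, ?_⟩
          rw [Fin.cons_succ, ← Fin.succ_castSucc, Fin.cons_succ, hq]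
          exact comap_sup_zpowers N _ g
    · rw [not_nontrivial_iff_subsingleton] at hG
      refine ⟨0, fun _ => ⊥, rfl, ?_, fun _ => inferInstance, fun i => i.elim0⟩
      exact (Subgroup.subsingleton_iff.2 hG).elim _ _

/-- If a finite group G is the product AB of two cyclic subgroups (every element is a product ab), then G is supersolvable. -/
theorem result {G : Type*} [Group G] [Finite G] (A B : Subgroup G) [IsCyclic A] [IsCyclic B] (hAB : ∀ g : G, ∃ a ∈ A, ∃ b ∈ B, g = a * b) : Cfsg.IsSupersolvable G := by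
  exact aux _ G A B hAB rfl

end Cfsg.Agent.S0571
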