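import Cfsg.Statements.S0575
import Mathlib

set_option autoImplicit false
set_option linter.style.haveILetI false
open Cfsg

namespace Cfsg.Agent.S0575

/-- If H is a normal subgroup of a finite group G, then the Frattini subgroup of H, viewed in G, lies in the Frattini subgroup of G. -/
theorem result {G : Type*} [Group G] [Finite G] (H : Subgroup G) [H.Normal] : (frattini ↥H).map H.subtype ≤ frattini G := by
  haveI hFn : ((frattini ↥H).map H.subtype).Normal := ConjAct.normal_of_characteristic_of_normal
  have hFH : (frattini ↥H).map H.subtype ≤ H := Subgroup.map_subtype_le _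
  unfold frattini Order.radical
  rw [le_iInf₂_iff]
  intro M hM
  change (frattini ↥H).map H.subtype ≤ M
  by_contra hnot
  have htop : M ⊔ (frattini ↥H).map H.subtype = ⊤ := by
    apply hM.2
    exact lt_of_le_of_ne le_sup_left (fun h => hnot (h ▸ le_sup_right))
  have hgen : (M.subgroupOf H) ⊔ frattini ↥H = ⊤ := by
    rw [eq_top_iff]
    intro h _
    have hh : (h : G) ∈ M ⊔ (frattini ↥H).map H.subtype := by rw [htop]; exact Subgroup.mem_top _
    rw [Subgroup.mem_sup_of_normal_right] at hh
    obtain ⟨m, hm, f, hf, hmf⟩ := hh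
    obtain ⟨f', hf', rfl⟩ := hf
    have hmH : m ∈ H := by
      have : m = (h : G) * (f' : G)⁻¹ := by rw [← hmf]; simp
      rw [this]
      exact H.mul_mem h.2 (H.inv_mem f'.2)
    have : h = ⟨m, hmH⟩ * f' := Subtype.ext hmf.symm
    rw [this]
    exact Subgroup.mul_mem_sup (by simpa [Subgroup.mem_subgroupOf] using hm) hf'
  have hK : M.subgroupOf H = ⊤ := frattini_nongenerating hgen
  rw [Subgroup.subgroupOf_eq_top] at hK
  exact hnot (hFH.trans hK)

end Cfsg.Agent.S0575
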