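import Cfsg.Statements.S0576
import Mathlib

set_option autoImplicit false
set_option linter.style.haveILetI false
open Cfsg

namespace Cfsg.Agent.S0576

theorem conj_range_normal (H : Type*) [Group H] :
    ((MulAut.conj : H →* MulAut H).range).Normal := by
  refine ⟨?_⟩
  rintro _ ⟨h, rfl⟩ φ
  refine ⟨φ h, ?_⟩
  ext x
  simp [MulAut.conj_apply]

/-- If `H` is a normal subgroup of a finite group `G` contained in the Frattini subgroup of `G`, then every inner automorphism of `H` lies in the Frattini subgroup of `Aut(H)`. -/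
theorem result {G : Type*} [Group G] [Finite G] (H : Subgroup G) [H.Normal] (hH : H ≤ frattini G) : (MulAut.conj : ↥H →* MulAut ↥H).range ≤ frattini (MulAut ↥H) := by
  classical
  show (MulAut.conj : ↥H →* MulAut ↥H).range ≤ ⨅ a ∈ {K : Subgroup (MulAut ↥H) | IsCoatom K}, a
  apply le_iInf₂
  intro M hM
  by_contra hnot
  haveI hIn := conj_range_normal ↥H
  have hsup : (MulAut.conj : ↥H →* MulAut ↥H).range ⊔ M = ⊤ := by
    apply hM.2
    apply lt_of_le_of_ne le_sup_right
    intro h'
    apply hnot
    rw [h']; exact le_sup_left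
  let f : G →* MulAut ↥H := MulAut.conjNormal
  have hf : ∀ h : H, f (h : G) = MulAut.conj h := by
    intro h
    ext x
    simp [f, MulAut.conjNormal_apply, MulAut.conj_apply]
  have htop : H ⊔ M.comap f = ⊤ := by
    rw [eq_top_iff]
    intro g _
    have hg : f g ∈ (MulAut.conj : ↥H →* MulAut ↥H).range ⊔ M := by
      rw [hsup]; exact Subgroup.mem_top _
    obtain ⟨_, ⟨h, rfl⟩, m, hm, hmg⟩ := Subgroup.mem_sup_of_normal_left.1 hg
    have h1 : f ((h : G)⁻¹ * g) = m := by
      rw [map_mul, map_inv, hf, ← hmg, inv_mul_cancel_left]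
    have h2 : (h : G)⁻¹ * g ∈ M.comap f := by
      rw [Subgroup.mem_comap, h1]; exact hm
    have e : g = (h : G) * ((h : G)⁻¹ * g) := by group
    rw [e]
    exact Subgroup.mul_mem _ (Subgroup.mem_sup_left h.2) (Subgroup.mem_sup_right h2)
  have h3 : M.comap f ⊔ frattini G = ⊤ := by
    rw [eq_top_iff, ← htop, sup_comm]
    exact sup_le_sup_left hH _
  have h4 : M.comap f = ⊤ := frattini_nongenerating h3
  apply hnot
  rintro _ ⟨h, rfl⟩
  have : (h : G) ∈ M.comap f := by rw [h4]; exact Subgroup.mem_top _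
  rw [Subgroup.mem_comap, hf] at this
  exact this

end Cfsg.Agent.S0576
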