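import Cfsg.Statements.S0577
import Mathlib
import Cfsg.Agent.Lib.Helper2.MinNonNilp
import Cfsg.Agent.Lib.Helper2.FrattiniTriv

set_option autoImplicit false
open Cfsg
open scoped commutatorElement

namespace Cfsg.Agent.S0577
set_option linter.style.haveILetI false
set_option linter.deprecated false

open Cfsg.Agent.Lib.Helper2

/-- If `H` has an abelian normal Sylow `q`-subgroup containing the derived subgroup, then every
nilpotent subgroup of `H` is abelian. -/
theorem comm_of_nilpotent_of_abelian_sylow {H : Type*} [Group H] [Finite H] {q : ℕ}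
    [hq : Fact q.Prime] (S : Sylow q H) (hSn : (S : Subgroup H).Normal)
    (hSc : ∀ a ∈ (S : Subgroup H), ∀ b ∈ (S : Subgroup H), a * b = b * a)
    (hcom : commutator H ≤ S) (K : Subgroup H) (hK : Group.IsNilpotent K) :
    IsMulCommutative K := by
  classical
  haveI := hK
  rw [commutator_def] at hcom
  have hr : ∀ (r : ℕ) [Fact r.Prime] (R : Subgroup H), IsPGroup r R →
      ∀ a ∈ R, ∀ b ∈ R, a * b = b * a := by
    intro r hr R hR a ha b hb
    by_cases hrq : r = q
    · subst hrq
      obtain ⟨S', hS'⟩ := hR.exists_le_sylow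
      haveI := Sylow.unique_of_normal S hSn
      have h0 : S' = S := Subsingleton.elim _ _
      rw [h0] at hS'
      exact hSc a (hS' ha) b (hS' hb)
    · have hdisj : R ⊓ S = ⊥ := by
        apply Subgroup.inf_eq_bot_of_coprime
        obtain ⟨i, hi⟩ := IsPGroup.iff_card.mp hR
        obtain ⟨j, hj⟩ := IsPGroup.iff_card.mp S.isPGroup'
        rw [hi, hj]
        exact Nat.Coprime.pow _ _ ((Nat.coprime_primes hr.out hq.out).mpr hrq)
      have h1 : ⁅a, b⁆ ∈ R ⊓ S := by
        refine Subgroup.mem_inf.mpr ⟨?_, hcom (Subgroup.commutator_mem_commutator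
          (Subgroup.mem_top a) (Subgroup.mem_top b))⟩
        rw [commutatorElement_def]
        exact R.mul_mem (R.mul_mem (R.mul_mem ha hb) (R.inv_mem ha)) (R.inv_mem hb)
      rw [hdisj, Subgroup.mem_bot, commutatorElement_eq_one_iff_mul_comm] at h1
      exact h1
  obtain ⟨e⟩ := ((Group.isNilpotent_of_finite_tfae (G := K)).out 0 4).mp hK
  refine ⟨⟨fun a b => ?_⟩⟩
  have h1 : e.symm a * e.symm b = e.symm b * e.symm a := by
    funext r R
    haveI : Fact (r : ℕ).Prime := ⟨Nat.prime_of_mem_primeFactors r.2⟩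
    have hR' : IsPGroup r ((R : Subgroup K).map K.subtype) := R.isPGroup'.map K.subtype
    have h2 := hr r _ hR' ((e.symm a r R : K) : H) (Subgroup.mem_map_of_mem _ (e.symm a r R).2)
      ((e.symm b r R : K) : H) (Subgroup.mem_map_of_mem _ (e.symm b r R).2)
    apply Subtype.ext
    apply Subtype.ext
    exact h2
  calc a * b = e (e.symm a * e.symm b) := by simp
    _ = e (e.symm b * e.symm a) := by rw [h1]
    _ = b * a := by simp

/-- Let G be a finite minimal non-nilpotent group and Q a normal Sylow q-subgroup of G, and let D be the commutator subgroup of Q regarded in G (a normal subgroup). Then G modulo D is non-abelian and all its proper subgroups are abelian. -/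
theorem result {G : Type*} [Group G] [Finite G] (hG : Cfsg.IsMinimalNonNilpotent G) (q : ℕ) [Fact q.Prime] (hq : q ∣ Nat.card G) (Q : Sylow q G) (hQ : (Q : Subgroup G).Normal) (D : Subgroup G) [D.Normal] (hD : D = (commutator ↥(Q : Subgroup G)).map (Q : Subgroup G).subtype) : ¬ IsMulCommutative (G ⧸ D) ∧ ∀ K : Subgroup (G ⧸ D), K ≠ ⊤ → IsMulCommutative K := by
  classical
  have hqprime : q.Prime := Fact.out
  obtain ⟨p, q0, hp, hq0, hpq, P, Q0, hc, hQ0n, hPn, hPQ⟩ := minNonNilp_structure hG.1 hG.2
  haveI := hQ0n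
  have hqq : q = q0 := by
    have hcard : Nat.card G ∣ Nat.card P * Nat.card Q0 := by
      have h1 := card_sup_mul_card_inf (P : Subgroup G) (Q0 : Subgroup G)
        (by rw [Subgroup.normalizer_eq_top]; exact le_top)
      rw [hPQ, Subgroup.card_top] at h1
      exact Dvd.intro _ h1
    obtain ⟨a, ha⟩ := IsPGroup.iff_card.mp P.isPGroup'
    obtain ⟨b, hb⟩ := IsPGroup.iff_card.mp Q0.isPGroup'
    rw [ha, hb] at hcard
    have h2 : q ∣ p ^ a * q0 ^ b := hq.trans hcard
    rcases (Nat.Prime.dvd_mul hqprime).mp h2 with h3 | h3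
    · exfalso
      have h4 := (Nat.prime_dvd_prime_iff_eq hqprime hp.out).mp
        (Nat.Prime.dvd_of_dvd_pow hqprime h3)
      subst h4
      haveI := Sylow.unique_of_normal Q hQ
      have h5 : P = Q := Subsingleton.elim _ _
      exact hPn (h5 ▸ hQ)
    · exact (Nat.prime_dvd_prime_iff_eq hqprime hq0.out).mp
        (Nat.Prime.dvd_of_dvd_pow hqprime h3)
  subst hqq
  have hQQ : Q0 = Q := by
    haveI := Sylow.unique_of_normal Q hQ
    exact Subsingleton.elim _ _
  subst hQQ
  have hD' : D = ⁅(Q0 : Subgroup G), (Q0 : Subgroup G)⁆ := by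
    rw [hD, Subgroup.map_subtype_commutator]
  have hDQ : D ≤ Q0 := by rw [hD']; exact Subgroup.commutator_le_self _
  haveI hPc : IsMulCommutative (P : Subgroup G) := IsCyclic.commutative
  have hcomQ : commutator G ≤ Q0 :=
    Subgroup.Normal.commutator_le_of_self_sup_commutative_eq_top
      (N := (Q0 : Subgroup G)) (H := (P : Subgroup G)) (by rw [sup_comm]; exact hPQ) hPc
  have hπ := QuotientGroup.mk'_surjective D
  constructor
  · intro hab
    have hcomD : commutator G ≤ D :=
      Subgroup.Normal.quotient_commutative_iff_commutator_le.mp hab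
    set N := (P : Subgroup G) ⊔ D with hN
    haveI hNn : N.Normal := Subgroup.Normal.of_commutator_le (h := hcomD.trans le_sup_right)
    have hfr := Sylow.normalizer_sup_eq_top' P (le_sup_left : (P : Subgroup G) ≤ N)
    set Hn := Subgroup.normalizer ((P : Subgroup G) : Set G) with hHn
    have hHD : Hn ⊔ D = ⊤ := by
      have hfr' : Hn ⊔ ((P : Subgroup G) ⊔ D) = ⊤ := hfr
      rw [← sup_assoc,
        sup_eq_left.mpr (Subgroup.le_normalizer : (P : Subgroup G) ≤ Hn)] at hfr'
      exact hfr'
    haveI : Group.IsNilpotent (Q0 : Subgroup G) := Q0.isPGroup'.isNilpotent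
    have hKq : (Hn.subgroupOf (Q0 : Subgroup G)) ⊔ commutator (Q0 : Subgroup G) = ⊤ := by
      rw [eq_top_iff]
      intro y _
      have hy : (y : G) ∈ Hn ⊔ D := hHD ▸ Subgroup.mem_top _
      obtain ⟨h, hh, d, hd, hhd⟩ := Subgroup.mem_sup_of_normal_right.mp hy
      have hdQ := hDQ hd
      have hhQ : h ∈ (Q0 : Subgroup G) := by
        have h0 : h = (y : G) * d⁻¹ := by rw [← hhd]; group
        rw [h0]; exact mul_mem y.2 (inv_mem hdQ)
      have hd' : (⟨d, hdQ⟩ : (Q0 : Subgroup G)) ∈ commutator (Q0 : Subgroup G) := by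
        rw [hD] at hd
        obtain ⟨d', hd'c, hd'e⟩ := Subgroup.mem_map.mp hd
        have h0 : d' = ⟨d, hdQ⟩ := Subtype.ext hd'e
        rw [← h0]; exact hd'c
      have hy' : y = (⟨h, hhQ⟩ : (Q0 : Subgroup G)) * ⟨d, hdQ⟩ := Subtype.ext hhd.symm
      rw [hy']
      exact mul_mem (Subgroup.mem_sup_left (Subgroup.mem_subgroupOf.mpr hh))
        (Subgroup.mem_sup_right hd')
    have hKtop := eq_top_of_sup_commutator_eq_top _ hKq
    have hQH : (Q0 : Subgroup G) ≤ Hn := by
      intro y hy
      have h0 : (⟨y, hy⟩ : (Q0 : Subgroup G)) ∈ Hn.subgroupOf (Q0 : Subgroup G) :=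
        hKtop ▸ Subgroup.mem_top _
      exact Subgroup.mem_subgroupOf.mp h0
    apply hPn
    rw [← Subgroup.normalizer_eq_top_iff, eq_top_iff, ← hPQ]
    exact sup_le Subgroup.le_normalizer hQH
  · intro K hK
    have hKnil : Group.IsNilpotent K := by
      have hne : K.comap (QuotientGroup.mk' D) ≠ ⊤ := by
        intro h
        apply hK
        rw [← Subgroup.map_comap_eq_self_of_surjective hπ K, h,
          Subgroup.map_top_of_surjective _ hπ]
      haveI := hG.2 _ hne
      exact Group.nilpotent_of_surjective ((QuotientGroup.mk' D).subgroupComap K)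
        (MonoidHom.subgroupComap_surjective_of_surjective _ _ hπ)
    apply comm_of_nilpotent_of_abelian_sylow (Q0.mapSurjective hπ) ?_ ?_ ?_ K hKnil
    · rw [Sylow.coe_mapSurjective]; exact hQ.map _ hπ
    · intro a ha b hb
      rw [Sylow.coe_mapSurjective] at ha hb
      obtain ⟨x, hx, rfl⟩ := Subgroup.mem_map.mp ha
      obtain ⟨y, hy, rfl⟩ := Subgroup.mem_map.mp hb
      rw [← map_mul, ← map_mul]
      apply QuotientGroup.eq.mpr
      have h0 : (x * y)⁻¹ * (y * x) = ⁅y⁻¹, x⁻¹⁆ := by
        rw [commutatorElement_def]; group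
      rw [h0, hD']
      exact Subgroup.commutator_mem_commutator (inv_mem hy) (inv_mem hx)
    · rw [Sylow.coe_mapSurjective, commutator_def, Subgroup.commutator_le]
      intro a _ b _
      obtain ⟨x, rfl⟩ := hπ a
      obtain ⟨y, rfl⟩ := hπ b
      rw [← map_commutatorElement]
      apply Subgroup.mem_map_of_mem
      exact hcomQ (by
        rw [commutator_def]
        exact Subgroup.commutator_mem_commutator (Subgroup.mem_top x) (Subgroup.mem_top y))

end Cfsg.Agent.S0577
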