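import Cfsg.Statements.S0578
import Mathlib

set_option autoImplicit false
set_option linter.style.haveILetI false
open Cfsg
open scoped commutatorElement Pointwise

namespace Cfsg.Agent.S0578

universe u

/-- A nilpotent group in which every commutative normal subgroup is central is commutative. -/
theorem comm_of_nilpotent {H : Type u} [Group H] [hn : Group.IsNilpotent H]
    (h : ∀ A : Subgroup H, IsMulCommutative A → A.Normal → A ≤ Subgroup.center H) :
    ∀ x y : H, x * y = y * x := by
  have key : ∀ n : ℕ, Subgroup.upperCentralSeries H n ≤ Subgroup.center H := by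
    intro n
    induction n with
    | zero => rw [Subgroup.upperCentralSeries_zero]; exact bot_le
    | succ n ih =>
      intro x hx
      rw [Subgroup.mem_upperCentralSeries_succ_iff] at hx
      have hxc : ∀ y : H, ⁅x, y⁆ ∈ Subgroup.center H := fun y => ih (hx y)
      let K : Subgroup H := Subgroup.zpowers x ⊔ Subgroup.center H
      have hKset : (K : Set H) = (Subgroup.zpowers x : Set H) * (Subgroup.center H : Set H) :=
        Subgroup.mul_normal _ _
      have hKcomm : IsMulCommutative K := by
        rw [← Subgroup.le_centralizer_iff_isMulCommutative]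
        have h1 : Subgroup.center H ≤ Subgroup.centralizer (K : Set H) :=
          Subgroup.center_le_centralizer _
        have h2 : K ≤ Subgroup.centralizer {x} := by
          apply sup_le
          · rw [Subgroup.zpowers_le, Subgroup.mem_centralizer_iff]
            intro y hy
            rw [Set.mem_singleton_iff] at hy
            rw [hy]
          · exact Subgroup.center_le_centralizer _
        have h3 : x ∈ Subgroup.centralizer (K : Set H) := by
          rw [Subgroup.mem_centralizer_iff]
          intro k hk
          have := (Subgroup.mem_centralizer_iff.1 (h2 hk)) x rfl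
          exact this.symm
        exact sup_le ((Subgroup.zpowers_le).2 h3) h1
      have hKn : K.Normal := by
        constructor
        intro k hk g
        have hk' : k ∈ (K : Set H) := hk
        rw [hKset] at hk'
        obtain ⟨y, hy, z, hz, rfl⟩ := hk'
        obtain ⟨m, rfl⟩ := Subgroup.mem_zpowers_iff.1 hy
        have hz' : z ∈ Subgroup.center H := hz
        have e1 : g * x * g⁻¹ = (⁅x, g⁆)⁻¹ * x := by
          simp only [commutatorElement_def]; group
        have hc : (⁅x, g⁆)⁻¹ ∈ Subgroup.center H := Subgroup.inv_mem _ (hxc g)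
        have e2 : g * (x ^ m * z) * g⁻¹ = (g * x * g⁻¹) ^ m * z := by
          rw [conj_zpow]
          have := (Subgroup.mem_center_iff.1 hz') g⁻¹
          calc g * (x ^ m * z) * g⁻¹ = g * x ^ m * (z * g⁻¹) := by group
            _ = g * x ^ m * (g⁻¹ * z) := by rw [this]
            _ = g * x ^ m * g⁻¹ * z := by group
        rw [e2, e1]
        have e3 : ((⁅x, g⁆)⁻¹ * x) ^ m = ((⁅x, g⁆)⁻¹) ^ m * x ^ m := by
          have hcm : Commute (⁅x, g⁆)⁻¹ x := (Subgroup.mem_center_iff.1 hc x).symm
          exact hcm.mul_zpow m
        rw [e3]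
        have hc2 : ((⁅x, g⁆)⁻¹) ^ m ∈ K :=
          (le_sup_right : Subgroup.center H ≤ K) (Subgroup.zpow_mem _ hc m)
        have hx2 : x ^ m ∈ K :=
          (le_sup_left : Subgroup.zpowers x ≤ K) (Subgroup.zpow_mem _ (Subgroup.mem_zpowers x) m)
        have hz2 : z ∈ K := (le_sup_right : Subgroup.center H ≤ K) hz'
        exact K.mul_mem (K.mul_mem hc2 hx2) hz2
      exact h K hKcomm hKn ((le_sup_left : Subgroup.zpowers x ≤ K) (Subgroup.mem_zpowers x))
  obtain ⟨n, hn'⟩ := hn.nilpotent'
  intro x y
  have hx : x ∈ Subgroup.center H := key n (by rw [hn']; trivial)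
  exact ((Subgroup.mem_center_iff.1 hx) y).symm

/-- If in a finite group the normalizer of each abelian subgroup coincides with its centralizer, then the group is abelian. -/
theorem result {G : Type*} [Group G] [Finite G] (h : ∀ A : Subgroup G, IsMulCommutative A → Subgroup.normalizer (A : Set G) = Subgroup.centralizer (A : Set G)) : IsMulCommutative G := by
  -- every Sylow subgroup is commutative
  have hSyl : ∀ (p : ℕ) [Fact p.Prime] (P : Sylow p G), ∀ x y : (P : Subgroup G), x * y = y * x := by
    intro p _ P
    haveI : Group.IsNilpotent (P : Subgroup G) := P.isPGroup'.isNilpotent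
    apply comm_of_nilpotent
    intro A hAc hAn
    let A' : Subgroup G := A.map (P : Subgroup G).subtype
    have hA'c : IsMulCommutative A' := inferInstance
    have h1 := h A' hA'c
    have h2 : (P : Subgroup G) ≤ Subgroup.normalizer (A' : Set G) := by
      intro g hg
      rw [Subgroup.mem_normalizer_iff]
      intro k
      constructor
      · rintro ⟨a, ha, rfl⟩
        refine ⟨⟨g, hg⟩ * a * ⟨g, hg⟩⁻¹, hAn.conj_mem a ha ⟨g, hg⟩, ?_⟩
        simp
      · rintro ⟨a, ha, hak⟩
        refine ⟨⟨g, hg⟩⁻¹ * a * ⟨g, hg⟩, ?_, ?_⟩
        · have := hAn.conj_mem a ha ⟨g, hg⟩⁻¹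
          rwa [inv_inv] at this
        · simp only [Subgroup.subtype_apply, Subgroup.coe_mul, Subgroup.coe_inv]
          have : (a : G) = g * k * g⁻¹ := hak
          rw [this]; group
    rw [h1] at h2
    intro a ha
    rw [Subgroup.mem_center_iff]
    intro g
    have h3 := h2 g.2
    rw [Subgroup.mem_centralizer_iff] at h3
    have h4 := h3 (a : G) ⟨a, ha, rfl⟩
    apply Subtype.ext
    simp only [Subgroup.coe_mul]
    exact h4.symm
  rw [isMulCommutative_iff]
  intro x y
  -- the commutator has trivial order
  have hc : ⁅x, y⁆ = 1 := by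
    rw [← orderOf_eq_one_iff]
    by_contra hne
    obtain ⟨p, hp, hpd⟩ := Nat.exists_prime_and_dvd hne
    haveI : Fact p.Prime := ⟨hp⟩
    let P : Sylow p G := default
    have hPc : IsMulCommutative (P : Subgroup G) := isMulCommutative_iff.2 (hSyl p P)
    have hP : Subgroup.normalizer ((P : Subgroup G) : Set G) ≤
        Subgroup.centralizer ((P : Subgroup G) : Set G) := (h P hPc).le
    have hcompl := MonoidHom.ker_transferSylow_isComplement' P hP
    set f := MonoidHom.transferSylow P hP with hf
    have hker : ⁅x, y⁆ ∈ f.ker := by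
      rw [MonoidHom.mem_ker, map_commutatorElement, commutatorElement_eq_one_iff_mul_comm]
      exact hSyl p P _ _
    have h1 : orderOf ⁅x, y⁆ ∣ Nat.card f.ker := by
      have := orderOf_dvd_natCard (⟨⁅x, y⁆, hker⟩ : f.ker)
      rwa [Subgroup.orderOf_mk] at this
    have h2 := hcompl.card_mul_card
    have h3 := (P : Subgroup G).card_mul_index
    have h4 : Nat.card f.ker = (P : Subgroup G).index := by
      have h5 : Nat.card (P : Subgroup G) * Nat.card f.ker = Nat.card (P : Subgroup G) * (P : Subgroup G).index := by
        rw [h3, mul_comm, h2]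
      exact Nat.eq_of_mul_eq_mul_left Nat.card_pos h5
    rw [h4] at h1
    exact P.not_dvd_index (hpd.trans h1)
  rw [commutatorElement_eq_one_iff_mul_comm] at hc
  exact hc

end Cfsg.Agent.S0578
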