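import Cfsg.Statements.S0582
import Mathlib
import Cfsg.Agent.S0527
import Cfsg.Agent.Lib.Helper2.MaxPrimeIndex
import Cfsg.Agent.Lib.Helper2.Supersolvable2
import Cfsg.Agent.Lib.Helper2.Conj
import Cfsg.Agent.Lib.Helper2.PrimSolv
import Cfsg.Agent.Lib.Helper2.CoprimeIndex
import Cfsg.Agent.Lib.Helper4.Hall

set_option autoImplicit false
open Cfsg
open Pointwise

namespace Cfsg.Agent.S0582
set_option linter.style.haveILetI false
set_option linter.deprecated false

open Cfsg.Agent.Lib.Helper2

universe u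

theorem exists_sylow_normal {G : Type u} [Group G] [Finite G] (H : Subgroup G)
    (hH : Cfsg.IsSupersolvable H) (hHall : (Nat.card H).Coprime H.index) (p : ℕ)
    [hp : Fact p.Prime] (hpH : p ∣ Nat.card H)
    (hmax : ∀ q : ℕ, q.Prime → q ∣ Nat.card H → q ≤ p) :
    ∃ P : Sylow p G, (P : Subgroup G) ≤ H ∧ H ≤ Subgroup.normalizer ((P : Subgroup G) : Set G) := by
  obtain ⟨S⟩ : Nonempty (Sylow p H) := inferInstance
  have hSn : (S : Subgroup H).Normal :=
    sylow_normal_of_max_prime_index (fun M hM => Cfsg.Agent.S0527.result hH M hM) p hmax S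
  set S' : Subgroup G := (S : Subgroup H).map H.subtype with hS'
  have hS'p : IsPGroup p S' := S.isPGroup'.map H.subtype
  have hS'idx : ¬ p ∣ S'.index := by
    rw [hS', Subgroup.index_map_subtype]
    intro h
    rcases (Nat.Prime.dvd_mul hp.out).mp h with h1 | h1
    · exact S.not_dvd_index h1
    · exact (Nat.Prime.not_coprime_iff_dvd.mpr ⟨p, hp.out, hpH, h1⟩) hHall
  refine ⟨hS'p.toSylow hS'idx, Subgroup.map_subtype_le _, ?_⟩
  have hsub : S'.subgroupOf H = S :=
    Subgroup.comap_map_eq_self_of_injective H.subtype_injective _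
  show H ≤ Subgroup.normalizer (S' : Set G)
  exact le_normalizer_of_subgroupOf_normal (A := S') (Subgroup.map_subtype_le _)
    (by rw [hsub]; exact hSn)

theorem main : ∀ (n : ℕ) (G : Type u) [Group G] [Finite G] (H K : Subgroup G),
    Nat.card H = n → Cfsg.IsSupersolvable H → Cfsg.IsSupersolvable K →
    Nat.card H = Nat.card K → (Nat.card H).Coprime H.index →
    ∃ x : G, MulAut.conj x • H = K := by
  intro n
  induction n using Nat.strong_induction_on with
  | _ n ih =>
  intro G _ _ H K hn hH hK hcard hHall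
  classical
  by_cases h1 : Nat.card H = 1
  · refine ⟨1, ?_⟩
    have hHb : H = ⊥ := Subgroup.card_eq_one.mp h1
    have hKb : K = ⊥ := Subgroup.card_eq_one.mp (hcard ▸ h1)
    rw [hHb, hKb, map_one, one_smul]
  have h1' : 1 < Nat.card H := by
    have := Nat.card_pos (α := H)
    omega
  obtain ⟨p, hp, hpH, hmax⟩ := exists_largest_prime_dvd (Nat.card H) h1'
  haveI : Fact p.Prime := ⟨hp⟩
  have hKidx : K.index = H.index := by
    have h2 := H.card_mul_index
    have h3 := K.card_mul_index
    rw [← hcard] at h3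
    exact Nat.eq_of_mul_eq_mul_left Nat.card_pos (h3.trans h2.symm)
  have hKall : (Nat.card K).Coprime K.index := by
    rw [← hcard, hKidx]; exact hHall
  obtain ⟨PH, hPHle, hPHn⟩ := exists_sylow_normal H hH hHall p hpH hmax
  obtain ⟨PK, hPKle, hPKn⟩ := exists_sylow_normal K hK hKall p (hcard ▸ hpH)
    (fun q hq hqK => hmax q hq (hcard ▸ hqK))
  obtain ⟨g, hg⟩ := MulAction.exists_smul_eq G PH PK
  have hg' : MulAut.conj g • (PH : Subgroup G) = PK := by
    rw [← hg, Sylow.smul_def, Sylow.pointwise_smul_def]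
  set H1 := MulAut.conj g • H with hH1
  have hH1s : Cfsg.IsSupersolvable H1 :=
    isSupersolvable_of_surjective (Subgroup.equivSMul (MulAut.conj g) H).toMonoidHom
      (Subgroup.equivSMul (MulAut.conj g) H).surjective hH
  have hH1card : Nat.card H1 = Nat.card H := card_conj_smul g H
  obtain ⟨P, hP⟩ : ∃ P : Subgroup G, P = (PK : Subgroup G) := ⟨_, rfl⟩
  rw [← hP] at hPKle hPKn hg'
  have hPH1 : P ≤ H1 := by
    rw [← hg', hH1]
    exact Subgroup.pointwise_smul_le_pointwise_smul_iff.mpr hPHle
  have hH1N : H1 ≤ Subgroup.normalizer (P : Set G) := by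
    rw [← hg']; exact conj_smul_le_normalizer_conj_smul H PH hPHn g
  set N := Subgroup.normalizer (P : Set G) with hN
  have hPN : P ≤ N := Subgroup.le_normalizer
  haveI hPNn : (P.subgroupOf N).Normal := Subgroup.normal_in_normalizer
  have hπ : Function.Surjective (QuotientGroup.mk' (P.subgroupOf N)) :=
    QuotientGroup.mk'_surjective _
  set Hb := (H1.subgroupOf N).map (QuotientGroup.mk' (P.subgroupOf N)) with hHb
  set Kb := (K.subgroupOf N).map (QuotientGroup.mk' (P.subgroupOf N)) with hKb
  have hcomapH : Hb.comap (QuotientGroup.mk' (P.subgroupOf N)) = H1.subgroupOf N := by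
    rw [hHb, Subgroup.comap_map_eq, QuotientGroup.ker_mk', sup_eq_left]
    exact fun x hx => Subgroup.mem_subgroupOf.mpr (hPH1 (Subgroup.mem_subgroupOf.mp hx))
  have hcomapK : Kb.comap (QuotientGroup.mk' (P.subgroupOf N)) = K.subgroupOf N := by
    rw [hKb, Subgroup.comap_map_eq, QuotientGroup.ker_mk', sup_eq_left]
    exact fun x hx => Subgroup.mem_subgroupOf.mpr (hPKle (Subgroup.mem_subgroupOf.mp hx))
  have hcH : Nat.card (H1.subgroupOf N) = Nat.card H :=
    (Nat.card_congr (Subgroup.subgroupOfEquivOfLe hH1N).toEquiv).trans hH1card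
  have hcK : Nat.card (K.subgroupOf N) = Nat.card K :=
    Nat.card_congr (Subgroup.subgroupOfEquivOfLe hPKn).toEquiv
  have hcP : Nat.card (P.subgroupOf N) = Nat.card P :=
    Nat.card_congr (Subgroup.subgroupOfEquivOfLe hPN).toEquiv
  have hmulH : Nat.card Hb * Nat.card P = Nat.card H := by
    rw [← hcP, ← Cfsg.Agent.Lib.Helper4.card_comap_mk_quot, hcomapH, hcH]
  have hmulK : Nat.card Kb * Nat.card P = Nat.card H := by
    rw [← hcP, ← Cfsg.Agent.Lib.Helper4.card_comap_mk_quot, hcomapK, hcK, hcard]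
  have hPpos : 0 < Nat.card P := Nat.card_pos
  have hcardb : Nat.card Hb = Nat.card Kb :=
    Nat.eq_of_mul_eq_mul_right hPpos (hmulH.trans hmulK.symm)
  have hP1 : 1 < Nat.card P := by
    have hne : (PK : Subgroup G) ≠ ⊥ :=
      PK.ne_bot_of_dvd_card (hpH.trans (Subgroup.card_subgroup_dvd_card H))
    rw [hP, Finite.one_lt_card_iff_nontrivial]
    exact (Subgroup.nontrivial_iff_ne_bot _).mpr hne
  have hlt : Nat.card Hb < n := by
    rw [← hn, ← hmulH]
    have hpos : 0 < Nat.card Hb := Nat.card_pos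
    nlinarith
  have hHbs : Cfsg.IsSupersolvable Hb := by
    have h2 : Cfsg.IsSupersolvable (H1.subgroupOf N) :=
      isSupersolvable_of_surjective (Subgroup.subgroupOfEquivOfLe hH1N).symm.toMonoidHom
        (Subgroup.subgroupOfEquivOfLe hH1N).symm.surjective hH1s
    exact isSupersolvable_of_surjective
      ((QuotientGroup.mk' (P.subgroupOf N)).subgroupMap (H1.subgroupOf N))
      (MonoidHom.subgroupMap_surjective _ _) h2
  have hKbs : Cfsg.IsSupersolvable Kb := by
    have h2 : Cfsg.IsSupersolvable (K.subgroupOf N) :=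
      isSupersolvable_of_surjective (Subgroup.subgroupOfEquivOfLe hPKn).symm.toMonoidHom
        (Subgroup.subgroupOfEquivOfLe hPKn).symm.surjective hK
    exact isSupersolvable_of_surjective
      ((QuotientGroup.mk' (P.subgroupOf N)).subgroupMap (K.subgroupOf N))
      (MonoidHom.subgroupMap_surjective _ _) h2
  have hHallb : (Nat.card Hb).Coprime Hb.index := by
    have h2 : Hb.index ∣ H.index := by
      rw [← Subgroup.index_comap_of_surjective Hb hπ, hcomapH, ← index_conj_smul g H]
      exact Subgroup.relIndex_dvd_index_of_le hH1N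
    have h3 : Nat.card Hb ∣ Nat.card H := Dvd.intro _ hmulH
    exact Nat.Coprime.coprime_dvd_left h3 (Nat.Coprime.coprime_dvd_right h2 hHall)
  obtain ⟨xb, hxb⟩ := ih (Nat.card Hb) hlt (N ⧸ P.subgroupOf N) Hb Kb rfl hHbs hKbs hcardb hHallb
  obtain ⟨x, rfl⟩ := hπ xb
  refine ⟨(x : G) * g, ?_⟩
  rw [map_mul, mul_smul]
  symm
  apply Subgroup.eq_of_le_of_card_ge
  · intro k hk
    have hkN : k ∈ N := hPKn hk
    have h2 : QuotientGroup.mk' (P.subgroupOf N) ⟨k, hkN⟩ ∈ Kb :=
      Subgroup.mem_map_of_mem _ (Subgroup.mem_subgroupOf.mpr hk)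
    rw [← hxb, mem_conj_smul_iff, ← map_inv, ← map_mul, ← map_mul, ← Subgroup.mem_comap,
      hcomapH, Subgroup.mem_subgroupOf] at h2
    rw [mem_conj_smul_iff]
    exact h2
  · rw [card_conj_smul, hH1card, hcard]

/-- Let H and K be supersolvable subgroups of a finite group G of the same order, that order being coprime to their index. Then H and K are conjugate in G. -/
theorem result {G : Type*} [Group G] [Finite G] (H K : Subgroup G) (hH : Cfsg.IsSupersolvable H) (hK : Cfsg.IsSupersolvable K) (hcard : Nat.card H = Nat.card K) (hHall : (Nat.card H).Coprime H.index) : ∃ x : G, MulAut.conj x • H = K := by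
  exact main (Nat.card H) G H K rfl hH hK hcard hHall

end Cfsg.Agent.S0582
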