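import Cfsg.Statements.S0584
import Cfsg.Agent.Lib.Helper2.Frattini

set_option autoImplicit false
set_option linter.style.haveILetI false
open Cfsg

namespace Cfsg.Agent.S0584

/-- Let B ≤ A be normal subgroups of a finite group G with B contained in the Frattini subgroup of G. If A modulo B is nilpotent then A is nilpotent. -/
theorem result {G : Type*} [Group G] [Finite G] (A B : Subgroup G) [A.Normal] [B.Normal] (hBA : B ≤ A) (hB : B ≤ frattini G) (h : Group.IsNilpotent (↥A ⧸ B.subgroupOf A)) : Group.IsNilpotent A := by
  have q := (Group.isNilpotent_of_finite_tfae (G := A)).out 0 3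
  rw [q]; clear q
  intro p hp P
  have hX := Cfsg.Agent.Lib.Helper2.normalizer_sup_eq_top_of_quotient_nilpotent
    (B.subgroupOf A) h p P
  have hF := Sylow.normalizer_sup_eq_top P
  -- A ≤ N_G(P') ⊔ B
  have hA : A ≤ Subgroup.normalizer (((P : Subgroup A).map A.subtype : Subgroup G) : Set G) ⊔ B := by
    have h1 : A = (⊤ : Subgroup A).map A.subtype := by
      rw [← MonoidHom.range_eq_map, Subgroup.range_subtype]
    refine le_of_eq_of_le h1 ?_
    rw [← hX, Subgroup.map_sup]
    apply sup_le_sup
    · exact Subgroup.le_normalizer_map _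
    · rw [Subgroup.subgroupOf_map_subtype]; exact inf_le_left
  have htop : Subgroup.normalizer (((P : Subgroup A).map A.subtype : Subgroup G) : Set G) ⊔ frattini G = ⊤ := by
    rw [eq_top_iff, ← hF]
    apply sup_le
    · exact le_sup_left
    · exact hA.trans (sup_le_sup le_rfl hB)
  have hN := frattini_nongenerating htop
  have hPn : ((P : Subgroup A).map A.subtype).Normal := Subgroup.normalizer_eq_top_iff.mp hN
  exact hPn.of_map_subtype

end Cfsg.Agent.S0584
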