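import Cfsg.Statements.S0585
import Mathlib

set_option autoImplicit false
set_option linter.style.haveILetI false
open Cfsg
open scoped Pointwise

namespace Cfsg.Agent.S0585

universe u

theorem exists_mul_of_sup_eq_top {G : Type u} [Group G] (N U : Subgroup G) [N.Normal]
    (h : N ⊔ U = ⊤) (g : G) : ∃ n ∈ N, ∃ u ∈ U, g = n * u := by
  have hg : g ∈ ((N ⊔ U : Subgroup G) : Set G) := by rw [h]; trivial
  rw [Subgroup.normal_mul] at hg
  obtain ⟨n, hn, u, hu, rfl⟩ := hg
  exact ⟨n, hn, u, hu, rfl⟩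

/-- If the Frattini subgroup of a finite group G is trivial, then every abelian normal subgroup of G has a complement in G. -/
theorem result {G : Type*} [Group G] [Finite G] (hΦ : frattini G = ⊥) (A : Subgroup G) [A.Normal] [IsMulCommutative A] : ∃ H : Subgroup G, Subgroup.IsComplement' A H := by
  have hAc : ∀ x ∈ A, ∀ y ∈ A, x * y = y * x := by
    intro x hx y hy
    have := mul_comm' (⟨x, hx⟩ : A) ⟨y, hy⟩
    exact congrArg Subtype.val this
  obtain ⟨H, hH⟩ := exists_minimal_of_wellFoundedLT (fun H : Subgroup G => A ⊔ H = ⊤)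
    ⟨⊤, sup_top_eq A⟩
  have hAH : A ⊔ H = ⊤ := hH.1
  have hmin : ∀ K : Subgroup G, A ⊔ K = ⊤ → K ≤ H → H ≤ K := fun K hK hKH => hH.2 hK hKH
  refine ⟨H, ?_⟩
  -- D = A ⊓ H is normal
  have hDn : (A ⊓ H).Normal := by
    constructor
    intro d hd g
    obtain ⟨a, ha, h', hh', rfl⟩ := exists_mul_of_sup_eq_top A H hAH g
    have h1 : h' * d * h'⁻¹ ∈ A := (inferInstance : A.Normal).conj_mem d hd.1 h'
    have h2 : h' * d * h'⁻¹ ∈ H := H.mul_mem (H.mul_mem hh' hd.2) (H.inv_mem hh')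
    have h3 : a * (h' * d * h'⁻¹) = (h' * d * h'⁻¹) * a := hAc a ha _ h1
    have h4 : a * h' * d * (a * h')⁻¹ = h' * d * h'⁻¹ := by
      calc a * h' * d * (a * h')⁻¹ = (a * (h' * d * h'⁻¹)) * a⁻¹ := by group
        _ = (h' * d * h'⁻¹) * a * a⁻¹ := by rw [h3]
        _ = h' * d * h'⁻¹ := by group
    rw [h4]
    exact ⟨h1, h2⟩
  have hD : A ⊓ H = ⊥ := by
    by_contra hne
    -- some maximal subgroup does not contain D
    have h1 : ∃ M : Subgroup G, IsCoatom M ∧ ¬ A ⊓ H ≤ M := by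
      by_contra hcon
      push Not at hcon
      apply hne
      rw [eq_bot_iff, ← hΦ]
      unfold frattini Order.radical
      exact le_iInf₂ (fun M hM => hcon M hM)
    obtain ⟨M, hM, hDM⟩ := h1
    have hDMtop : (A ⊓ H) ⊔ M = ⊤ :=
      hM.2 _ (lt_of_le_of_ne le_sup_right (fun h => hDM (by rw [h]; exact le_sup_left)))
    have hH' : A ⊔ (H ⊓ M) = ⊤ := by
      rw [eq_top_iff, ← hAH]
      apply sup_le le_sup_left
      intro h hh
      haveI := hDn
      obtain ⟨d, hd, m, hm, rfl⟩ := exists_mul_of_sup_eq_top (A ⊓ H) M hDMtop h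
      have hmH : m ∈ H := by
        have : m = d⁻¹ * (d * m) := by group
        rw [this]
        exact H.mul_mem (H.inv_mem hd.2) hh
      exact Subgroup.mul_mem _ ((le_sup_left : A ≤ A ⊔ (H ⊓ M)) hd.1)
        ((le_sup_right : H ⊓ M ≤ A ⊔ (H ⊓ M)) ⟨hmH, hm⟩)
    have hHM : H ≤ H ⊓ M := hmin _ hH' inf_le_left
    exact hDM (inf_le_right.trans (hHM.trans inf_le_right))
  apply Subgroup.isComplement'_of_disjoint_and_mul_eq_univ
  · rw [disjoint_iff]; exact hD
  · rw [← Subgroup.normal_mul, hAH]; rfl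

end Cfsg.Agent.S0585
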