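import Cfsg.Statements.S0586
import Cfsg.Agent.Lib.Helper2.FrattiniTriv

set_option autoImplicit false
set_option linter.style.haveILetI false
open Cfsg

namespace Cfsg.Agent.S0586

open Cfsg.Agent.Lib.Helper2

open scoped IsMulCommutative in
theorem nilpotent_of_comm {G : Type*} [Group G] (N : Subgroup G) (h : IsMulCommutative N) :
    Group.IsNilpotent N := by
  infer_instance

/-- In a finite group with trivial Frattini subgroup, the Fitting subgroup is generated by the abelian minimal normal subgroups. -/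
theorem result {G : Type*} [Group G] [Finite G] (hΦ : frattini G = ⊥) : Cfsg.fittingSubgroup G = sSup {N : Subgroup G | N.Normal ∧ N ≠ ⊥ ∧ IsMulCommutative N ∧ ∀ K : Subgroup G, K.Normal → K ≤ N → K = ⊥ ∨ K = N} := by
  classical
  apply le_antisymm
  · unfold Cfsg.fittingSubgroup
    apply sSup_le
    rintro N ⟨hNn, hNnil⟩
    haveI := hNn
    haveI := hNnil
    have hab := commute_of_normal_nilpotent hΦ N
    -- the abelian minimal normal subgroups inside N
    let 𝒯 : Set (Subgroup G) := {K | (K.Normal ∧ K ≠ ⊥ ∧ IsMulCommutative K ∧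
      ∀ L : Subgroup G, L.Normal → L ≤ K → L = ⊥ ∨ L = K) ∧ K ≤ N}
    have hN₀N : sSup 𝒯 ≤ N := sSup_le (fun K hK => hK.2)
    have hN₀A : sSup 𝒯 ≤ sSup {N : Subgroup G | N.Normal ∧ N ≠ ⊥ ∧ IsMulCommutative N ∧
        ∀ K : Subgroup G, K.Normal → K ≤ N → K = ⊥ ∨ K = N} :=
      sSup_le_sSup (fun K hK => hK.1)
    haveI hN₀n : (sSup 𝒯).Normal := Subgroup.sSup_normal 𝒯 (fun K hK => hK.1.1)
    have hN₀ab : ∀ x ∈ sSup 𝒯, ∀ y ∈ sSup 𝒯, x * y = y * x :=
      fun x hx y hy => hab x (hN₀N hx) y (hN₀N hy)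
    obtain ⟨H, hsup, hinf⟩ := exists_complement_of_abelian_normal hΦ (sSup 𝒯) hN₀ab
    have hNHn : (N ⊓ H).Normal := by
      refine ⟨?_⟩
      intro x hx g
      have hg : g ∈ sSup 𝒯 ⊔ H := by rw [hsup]; exact Subgroup.mem_top g
      obtain ⟨a, ha, h, hh, rfl⟩ := Subgroup.mem_sup_of_normal_left.1 hg
      have h1 : h * x * h⁻¹ ∈ N := hNn.conj_mem x hx.1 h
      have h2 : h * x * h⁻¹ ∈ H := H.mul_mem (H.mul_mem hh hx.2) (H.inv_mem hh)
      have h3 : a * h * x * (a * h)⁻¹ = h * x * h⁻¹ := by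
        have := hab a (hN₀N ha) _ h1
        calc a * h * x * (a * h)⁻¹ = a * (h * x * h⁻¹) * a⁻¹ := by group
          _ = (h * x * h⁻¹) * a * a⁻¹ := by rw [this]
          _ = h * x * h⁻¹ := by group
      rw [h3]
      exact ⟨h1, h2⟩
    have hNH : N ⊓ H = ⊥ := by
      by_contra hne
      obtain ⟨K₀, hK₀n, hK₀1, hK₀le, hK₀min⟩ := exists_minimal_normal_le (N ⊓ H) hNHn hne
      have hK₀N : K₀ ≤ N := hK₀le.trans inf_le_left
      have hK₀comm : IsMulCommutative K₀ :=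
        ⟨⟨fun a b => Subtype.ext (hab a (hK₀N a.2) b (hK₀N b.2))⟩⟩
      have hK₀T : K₀ ∈ 𝒯 := ⟨⟨hK₀n, hK₀1, hK₀comm, hK₀min⟩, hK₀N⟩
      have h1 : K₀ ≤ sSup 𝒯 ⊓ H := le_inf (le_sSup hK₀T) (hK₀le.trans inf_le_right)
      rw [hinf] at h1
      exact hK₀1 (le_bot_iff.1 h1)
    apply le_trans _ hN₀A
    intro n hn
    have hg : n ∈ sSup 𝒯 ⊔ H := by rw [hsup]; exact Subgroup.mem_top n
    obtain ⟨a, ha, h, hh, rfl⟩ := Subgroup.mem_sup_of_normal_left.1 hg
    have hhN : h ∈ N := by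
      have : h = a⁻¹ * (a * h) := by group
      rw [this]
      exact N.mul_mem (N.inv_mem (hN₀N ha)) hn
    have : h ∈ N ⊓ H := ⟨hhN, hh⟩
    rw [hNH, Subgroup.mem_bot] at this
    rw [this, mul_one]; exact ha
  · apply sSup_le
    rintro N ⟨hNn, -, hNc, -⟩
    unfold Cfsg.fittingSubgroup
    exact le_sSup ⟨hNn, nilpotent_of_comm N hNc⟩

end Cfsg.Agent.S0586
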