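import Cfsg.Statements.S0587
import Cfsg.Agent.Lib.Helper2.PrimSolv
import Cfsg.Agent.Lib.Helper2.FrattiniTriv
import Cfsg.Agent.Lib.Helper2.Nilp
import Cfsg.Agent.Lib.Helper2.FPF
import Cfsg.Agent.Lib.Helper1.Fitting

set_option autoImplicit false
set_option linter.style.haveILetI false
open Cfsg

namespace Cfsg.Agent.S0587

open Cfsg.Agent.Lib.Helper2
open scoped Pointwise

/-- If `O_p(G) ≠ 1` and `G` has a core-free maximal subgroup `M`, then `O_p(G)` is an elementary abelian, self-centralizing minimal normal subgroup complemented by `M`, with `|O_p(G)| ≡ 1 (mod q)` and `q ≠ p` whenever `O_q(M) ≠ 1`. -/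
theorem result {G : Type*} [Group G] [Finite G] (p : ℕ) [Fact p.Prime] (hL : Cfsg.pCore p G ≠ ⊥) (M : Subgroup G) (hM : IsCoatom M) (hcore : M.normalCore = ⊥) : Cfsg.IsElementaryAbelian p (Cfsg.pCore p G) ∧ Subgroup.IsComplement' (Cfsg.pCore p G) M ∧ (∀ K : Subgroup G, K.Normal → K ≤ Cfsg.pCore p G → K = ⊥ ∨ K = Cfsg.pCore p G) ∧ Subgroup.centralizer ((Cfsg.pCore p G : Subgroup G) : Set G) = Cfsg.pCore p G ∧ ∀ (q : ℕ) [Fact q.Prime], Cfsg.pCore q ↥M ≠ ⊥ → Nat.card (Cfsg.pCore p G) % q = 1 % q ∧ q ≠ p := by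
  classical
  have hp : p.Prime := Fact.out
  haveI hLn : (Cfsg.pCore p G).Normal := Cfsg.Agent.Lib.Helper1.pCore_normal p
  have hLp : IsPGroup p (Cfsg.pCore p G) := Cfsg.Agent.Lib.Helper1.pCore_isPGroup
  obtain ⟨A, hAn, hA1, hAL, hAmin⟩ := exists_minimal_normal_le (Cfsg.pCore p G) hLn hL
  haveI := hAn
  have hAp : IsPGroup p A := hLp.to_le hAL
  have hAnil : Group.IsNilpotent A := hAp.isNilpotent
  have hAcent := nilpotent_normal_le_centralizer_minimal_normal A A hAnil hA1 hAmin
  have hAab : ∀ x ∈ A, ∀ y ∈ A, x * y = y * x := by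
    intro x hx y hy
    have := hAcent hx
    rw [Subgroup.mem_centralizer_iff] at this
    exact (this y hy).symm
  obtain ⟨hsup, hinf, hC⟩ := corefree_coatom_facts M A hM hcore hA1 hAab
  have hLnil : Group.IsNilpotent (Cfsg.pCore p G) := hLp.isNilpotent
  have hLA : Cfsg.pCore p G ≤ A := by
    have := nilpotent_normal_le_centralizer_minimal_normal A (Cfsg.pCore p G) hLnil hA1 hAmin
    rwa [hC] at this
  have hAeq : A = Cfsg.pCore p G := le_antisymm hAL hLA
  subst hAeq
  -- exponent p
  have hexp : ∀ a ∈ Cfsg.pCore p G, a ^ p = 1 := by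
    let Ω : Subgroup G :=
      { carrier := {x | x ∈ Cfsg.pCore p G ∧ x ^ p = 1}
        mul_mem' := by
          rintro a b ⟨ha, ha'⟩ ⟨hb, hb'⟩
          refine ⟨Subgroup.mul_mem _ ha hb, ?_⟩
          have hc : Commute a b := hAab a ha b hb
          rw [hc.mul_pow, ha', hb', one_mul]
        one_mem' := ⟨Subgroup.one_mem _, one_pow p⟩
        inv_mem' := by
          rintro a ⟨ha, ha'⟩
          exact ⟨Subgroup.inv_mem _ ha, by rw [inv_pow, ha', inv_one]⟩ }
    have hΩn : Ω.Normal := by
      constructor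
      rintro x ⟨hx, hx'⟩ g
      refine ⟨hLn.conj_mem x hx g, ?_⟩
      rw [conj_pow, hx', mul_one, mul_inv_cancel]
    have hΩle : Ω ≤ Cfsg.pCore p G := fun x hx => hx.1
    have hcard : Nat.card (Cfsg.pCore p G) ≠ 1 := fun h => hA1 (Subgroup.card_eq_one.1 h)
    obtain ⟨k, hk⟩ := (IsPGroup.iff_card).1 hAp
    have hpd : p ∣ Nat.card (Cfsg.pCore p G) := by
      rw [hk]
      rcases Nat.eq_zero_or_pos k with h0 | h0
      · rw [h0, pow_zero] at hk; exact absurd hk hcard
      · exact dvd_pow_self p h0.ne'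
    obtain ⟨y, hy⟩ := exists_prime_orderOf_dvd_card' (G := Cfsg.pCore p G) p hpd
    have hΩne : Ω ≠ ⊥ := by
      intro h
      have hmem : (y : G) ∈ Ω := by
        refine ⟨y.2, ?_⟩
        have := pow_orderOf_eq_one y
        rw [hy] at this
        exact_mod_cast congrArg Subtype.val this
      rw [h, Subgroup.mem_bot] at hmem
      have hy1 : y = 1 := Subtype.ext hmem
      rw [hy1, orderOf_one] at hy
      exact hp.one_lt.ne hy
    rcases hAmin Ω hΩn hΩle with h | h
    · exact absurd h hΩne
    · intro x hx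
      have : x ∈ Ω := h ▸ hx
      exact this.2
  have hcomm : IsMulCommutative (Cfsg.pCore p G) :=
    ⟨⟨fun a b => Subtype.ext (hAab a a.2 b b.2)⟩⟩
  refine ⟨⟨hcomm, hexp⟩, ?_, hAmin, hC, ?_⟩
  · apply Subgroup.isComplement'_of_disjoint_and_mul_eq_univ (disjoint_iff.2 hinf)
    rw [← Subgroup.normal_mul, hsup, Subgroup.coe_top]
  · intro q hq hQ1
    set Q : Subgroup G := (Cfsg.pCore q ↥M).map M.subtype with hQdef
    have hQM : Q ≤ M := by
      rintro _ ⟨y, _, rfl⟩
      exact y.2
    have hQne : Q ≠ ⊥ := by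
      intro h
      apply hQ1
      rwa [hQdef, Subgroup.map_eq_bot_iff_of_injective _ (Subgroup.subtype_injective M)] at h
    have hQq : IsPGroup q Q := by
      have : IsPGroup q (Cfsg.pCore q ↥M) := Cfsg.Agent.Lib.Helper1.pCore_isPGroup
      exact this.map M.subtype
    have hQMn : (Cfsg.pCore q ↥M).Normal := Cfsg.Agent.Lib.Helper1.pCore_normal q
    have hMQ : ∀ m ∈ M, ∀ x ∈ Q, m * x * m⁻¹ ∈ Q := by
      rintro m hm _ ⟨y, hy, rfl⟩
      exact ⟨⟨m, hm⟩ * y * ⟨m, hm⟩⁻¹, hQMn.conj_mem y hy ⟨m, hm⟩, rfl⟩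
    have hQL : ¬ Q ≤ Cfsg.pCore p G := by
      intro h
      apply hQne
      apply le_bot_iff.1
      rw [← hinf]
      exact le_inf h hQM
    -- fixed points
    have hfix : ∀ l ∈ Cfsg.pCore p G, (∀ x ∈ Q, x * l * x⁻¹ = l) → l = 1 := by
      let D : Subgroup G := Cfsg.pCore p G ⊓ Subgroup.centralizer (Q : Set G)
      have hDn : D.Normal := by
        refine ⟨?_⟩
        rintro d ⟨hdL', hdC'⟩ g
        have hdL : d ∈ Cfsg.pCore p G := hdL'
        have hdC : d ∈ Subgroup.centralizer (Q : Set G) := hdC'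
        have hg : g ∈ Cfsg.pCore p G ⊔ M := by rw [hsup]; exact Subgroup.mem_top g
        obtain ⟨l, hl, m, hm, rfl⟩ := Subgroup.mem_sup_of_normal_left.1 hg
        have h1 : m * d * m⁻¹ ∈ Cfsg.pCore p G := hLn.conj_mem d hdL m
        have h2 : m * d * m⁻¹ ∈ Subgroup.centralizer (Q : Set G) := by
          rw [Subgroup.mem_centralizer_iff] at hdC ⊢
          intro x hx
          have hx' : m⁻¹ * x * m⁻¹⁻¹ ∈ Q := hMQ m⁻¹ (M.inv_mem hm) x hx
          have := hdC _ hx'
          calc x * (m * d * m⁻¹) = m * ((m⁻¹ * x * m⁻¹⁻¹) * d) * m⁻¹ := by group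
            _ = m * (d * (m⁻¹ * x * m⁻¹⁻¹)) * m⁻¹ := by rw [this]
            _ = m * d * m⁻¹ * x := by group
        have h3 : l * m * d * (l * m)⁻¹ = m * d * m⁻¹ := by
          have := hAab l hl _ h1
          calc l * m * d * (l * m)⁻¹ = l * (m * d * m⁻¹) * l⁻¹ := by group
            _ = (m * d * m⁻¹) * l * l⁻¹ := by rw [this]
            _ = m * d * m⁻¹ := by group
        rw [h3]
        exact ⟨h1, h2⟩
      have hD0 : D = ⊥ := by
        rcases hAmin D hDn inf_le_left with h | h
        · exact h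
        · exfalso
          apply hQL
          have hLC : Cfsg.pCore p G ≤ Subgroup.centralizer (Q : Set G) := by
            rw [← h]; exact inf_le_right
          rw [← hC]
          intro x hx
          rw [Subgroup.mem_centralizer_iff]
          intro l hl
          have := hLC hl
          rw [Subgroup.mem_centralizer_iff] at this
          exact (this x hx).symm
      intro l hl hfixl
      have hlC : l ∈ Subgroup.centralizer (Q : Set G) := by
        rw [Subgroup.mem_centralizer_iff]
        intro x hx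
        have := hfixl x hx
        calc x * l = (x * l * x⁻¹) * x := by group
          _ = l * x := by rw [this]
      have hlD : l ∈ D := ⟨hl, hlC⟩
      rw [hD0, Subgroup.mem_bot] at hlD
      exact hlD
    constructor
    · exact card_modEq_one_of_fixedPointFree (Cfsg.pCore p G) Q hQq hfix
    · intro hqp
      subst hqp
      apply hQL
      have hsupp : IsPGroup q (Cfsg.pCore q G ⊔ Q : Subgroup G) :=
        IsPGroup.to_sup_of_normal_left hLp hQq
      have hsupn : (Cfsg.pCore q G ⊔ Q : Subgroup G).Normal := by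
        rw [← Subgroup.normalizer_eq_top_iff, eq_top_iff, ← hsup]
        apply sup_le
        · exact le_sup_left.trans Subgroup.le_normalizer
        · intro m hm
          rw [mem_normalizer_iff_conj_smul_eq, Subgroup.smul_sup]
          have e1 : MulAut.conj m • Cfsg.pCore q G = Cfsg.pCore q G := by
            rw [← mem_normalizer_iff_conj_smul_eq, Subgroup.normalizer_eq_top]
            exact Subgroup.mem_top m
          have e2 : MulAut.conj m • Q = Q := by
            apply Subgroup.eq_of_le_of_card_ge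
            · intro x hx
              rw [mem_conj_smul_iff] at hx
              have := hMQ m hm _ hx
              have e : m * (m⁻¹ * x * m) * m⁻¹ = x := by group
              rwa [e] at this
            · rw [card_conj_smul]
          rw [e1, e2]
      exact le_sup_right.trans (Cfsg.Agent.Lib.Helper1.le_pCore _ hsupn hsupp)

end Cfsg.Agent.S0587
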