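import Cfsg.Statements.S0588
import Mathlib

set_option autoImplicit false
open Cfsg

namespace Cfsg.Agent.S0588

/-- If a subgroup H of a finite group G contains the centralizer of every non-identity element of H, then the order of H is coprime to its index. -/
theorem result {G : Type*} [Group G] [Finite G] (H : Subgroup G) (h : ∀ x ∈ H, x ≠ 1 → Subgroup.centralizer ({x} : Set G) ≤ H) : (Nat.card H).Coprime H.index := by
  rw [Nat.coprime_iff_gcd_eq_one]
  by_contra hne
  obtain ⟨p, hp, hpd⟩ := Nat.exists_prime_and_dvd hne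
  haveI : Fact p.Prime := ⟨hp⟩
  have hpH : p ∣ Nat.card H := hpd.trans (Nat.gcd_dvd_left _ _)
  have hpI : p ∣ H.index := hpd.trans (Nat.gcd_dvd_right _ _)
  obtain ⟨x, hx⟩ := exists_prime_orderOf_dvd_card' p hpH
  have hx' : orderOf (x : G) = p := by rw [Subgroup.orderOf_coe]; exact hx
  have hx1 : (x : G) ≠ 1 := by
    intro h1
    rw [h1, orderOf_one] at hx'
    exact hp.one_lt.ne hx'
  have hPg : IsPGroup p (Subgroup.zpowers (x : G)) := by
    apply IsPGroup.of_card (n := 1)
    rw [Nat.card_zpowers, hx', pow_one]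
  obtain ⟨Q, hQ⟩ := hPg.exists_le_sylow
  have hxQ : (x : G) ∈ (Q : Subgroup G) := hQ (Subgroup.mem_zpowers _)
  haveI : Nontrivial (Q : Subgroup G) := by
    refine ⟨⟨⟨(x : G), hxQ⟩, 1, ?_⟩⟩
    intro heq
    exact hx1 (congrArg Subtype.val heq)
  haveI := IsPGroup.center_nontrivial (Q.isPGroup')
  obtain ⟨z, hz⟩ := exists_ne (1 : Subgroup.center (Q : Subgroup G))
  have hzc : ∀ g : (Q : Subgroup G), g * (z : (Q : Subgroup G)) = (z : (Q : Subgroup G)) * g :=
    fun g => Subgroup.mem_center_iff.1 z.2 g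
  have hz1 : ((z : (Q : Subgroup G)) : G) ≠ 1 := by
    intro h1
    apply hz
    apply Subtype.ext
    apply Subtype.ext
    exact h1
  -- z centralizes x
  have hzx : ((z : (Q : Subgroup G)) : G) ∈ Subgroup.centralizer ({(x : G)} : Set G) := by
    rw [Subgroup.mem_centralizer_iff]
    intro y hy
    rw [Set.mem_singleton_iff] at hy
    subst hy
    have := hzc ⟨(x : G), hxQ⟩
    exact congrArg Subtype.val this
  have hzH : ((z : (Q : Subgroup G)) : G) ∈ H := h (x : G) x.2 hx1 hzx
  have hQH : (Q : Subgroup G) ≤ H := by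
    intro q hq
    apply h _ hzH hz1
    rw [Subgroup.mem_centralizer_iff]
    intro y hy
    rw [Set.mem_singleton_iff] at hy
    subst hy
    have := hzc ⟨q, hq⟩
    exact (congrArg Subtype.val this).symm
  have hdvd : H.index ∣ (Q : Subgroup G).index := Subgroup.index_dvd_of_le hQH
  exact Q.not_dvd_index (hpI.trans hdvd)

end Cfsg.Agent.S0588
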