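import Cfsg.Statements.S0590
import Cfsg.Agent.Lib.Helper2.EA

set_option autoImplicit false
set_option linter.style.haveILetI false
open Cfsg
open scoped commutatorElement

namespace Cfsg.Agent.S0590

open Cfsg.Agent.Lib.Helper2

universe u

variable {G : Type u} [Group G]

theorem comm_mul_right (x y z : G) : ⁅x, y * z⁆ = ⁅x, y⁆ * (y * ⁅x, z⁆ * y⁻¹) := by
  simp only [commutatorElement_def]; group

/-- Data of a quadratic action. -/
structure Quad (p : ℕ) (V H : Subgroup G) : Prop where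
  comm : ∀ x ∈ V, ∀ y ∈ V, x * y = y * x
  exp : ∀ a ∈ V, a ^ p = 1
  norm : ∀ h ∈ H, ∀ v ∈ V, h * v * h⁻¹ ∈ V
  quad : ∀ v ∈ V, ∀ h ∈ H, ∀ h' ∈ H, ⁅v, h⁆ * h' = h' * ⁅v, h⁆

theorem Quad.comm_mem {p : ℕ} {V H : Subgroup G} (q : Quad p V H) {v h : G} (hv : v ∈ V)
    (hh : h ∈ H) : ⁅v, h⁆ ∈ V := by
  rw [commutatorElement_def]
  have : v * h * v⁻¹ * h⁻¹ = v * (h * v⁻¹ * h⁻¹) := by group
  rw [this]
  exact V.mul_mem hv (q.norm h hh _ (V.inv_mem hv))

theorem Quad.comm_mul {p : ℕ} {V H : Subgroup G} (q : Quad p V H) {v h h' : G} (hv : v ∈ V)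
    (hh : h ∈ H) (hh' : h' ∈ H) : ⁅v, h * h'⁆ = ⁅v, h⁆ * ⁅v, h'⁆ := by
  rw [comm_mul_right]
  have := q.quad v hv h' hh' h hh
  rw [← this, mul_inv_cancel_right]

theorem Quad.comm_pow {p : ℕ} {V H : Subgroup G} (q : Quad p V H) {v a : G} (hv : v ∈ V)
    (ha : a ∈ H) (n : ℕ) : ⁅v, a ^ n⁆ = ⁅v, a⁆ ^ n := by
  induction n with
  | zero => simp
  | succ n ih =>
    rw [pow_succ, q.comm_mul hv (H.pow_mem ha n) ha, ih, pow_succ]

theorem mem_centralizer_of_comm_eq_one {V : Subgroup G} {x : G} (h : ∀ v ∈ V, ⁅v, x⁆ = 1) :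
    x ∈ Subgroup.centralizer (V : Set G) := by
  rw [Subgroup.mem_centralizer_iff]
  intro v hv
  exact (commutatorElement_eq_one_iff_mul_comm.1 (h v hv))

/-- Quadratic action on an elementary abelian p-group forces the acting group modulo the kernel of the action to be elementary abelian. -/
theorem result {G : Type*} [Group G] [Finite G] {p : ℕ} [Fact p.Prime] (V H : Subgroup G) (hV : Cfsg.IsElementaryAbelian p V) (hHV : H ≤ Subgroup.normalizer (V : Set G)) (hq : ⁅⁅V, H⁆, H⁆ = ⊥) : ⁅H, H⁆ ≤ Subgroup.centralizer (V : Set G) ∧ ∀ a ∈ H, a ^ p ∈ Subgroup.centralizer (V : Set G) := by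
  have hVea := (isElementaryAbelian_iff p V).1 hV
  have q : Quad p V H := by
    refine ⟨hVea.1, hVea.2, ?_, ?_⟩
    · intro h hh v hv
      exact ((Subgroup.mem_normalizer_iff.1 (hHV hh)) v).1 hv
    · intro v hv h hh h' hh'
      have h1 : ⁅⁅v, h⁆, h'⁆ ∈ ⁅⁅V, H⁆, H⁆ :=
        Subgroup.commutator_mem_commutator (Subgroup.commutator_mem_commutator hv hh) hh'
      rw [hq, Subgroup.mem_bot] at h1
      exact commutatorElement_eq_one_iff_mul_comm.1 h1
  constructor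
  · rw [Subgroup.commutator_le]
    intro h hh h' hh'
    -- ⁅h, h'⁆ = (h' h)⁻¹⁻¹ ... we show it fixes each v
    apply mem_centralizer_of_comm_eq_one
    intro v hv
    have hinv : h⁻¹ ∈ H := H.inv_mem hh
    have hinv' : h'⁻¹ ∈ H := H.inv_mem hh'
    -- ⁅h,h'⁆ = (h * h') * (h' * h)⁻¹
    have e1 : ⁅h, h'⁆ = (h * h') * (h' * h)⁻¹ := by
      simp only [commutatorElement_def]; group
    have hhh' : h * h' ∈ H := H.mul_mem hh hh'
    have hh'h : (h' * h)⁻¹ ∈ H := H.inv_mem (H.mul_mem hh' hh)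
    rw [e1, q.comm_mul hv hhh' hh'h]
    -- ⁅v, (h' h)⁻¹⁆ is the inverse of ⁅v, h' h⁆
    have e2 : ⁅v, h' * h⁆ * ⁅v, (h' * h)⁻¹⁆ = 1 := by
      rw [← q.comm_mul hv (H.mul_mem hh' hh) hh'h, mul_inv_cancel]
      simp
    have e3 : ⁅v, h * h'⁆ = ⁅v, h' * h⁆ := by
      rw [q.comm_mul hv hh hh', q.comm_mul hv hh' hh]
      exact q.comm _ (q.comm_mem hv hh) _ (q.comm_mem hv hh')
    rw [e3, e2]
  · intro a ha
    apply mem_centralizer_of_comm_eq_one
    intro v hv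
    rw [q.comm_pow hv ha p]
    exact q.exp _ (q.comm_mem hv ha)

end Cfsg.Agent.S0590
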