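import Cfsg.Statements.S0591
import Cfsg.Agent.Lib.Helper2.EA2

set_option autoImplicit false
set_option linter.style.haveILetI false
open Cfsg
open scoped commutatorElement

namespace Cfsg.Agent.S0591

open Cfsg.Agent.Lib.Helper2

universe u

variable {G : Type u} [Group G]

theorem comm_mul_left (x y z : G) : ⁅x * y, z⁆ = (x * ⁅y, z⁆ * x⁻¹) * ⁅x, z⁆ := by
  simp only [commutatorElement_def]; group

theorem mem_centralizer_zpowers_iff {a x : G} :
    x ∈ Subgroup.centralizer (Subgroup.zpowers a : Set G) ↔ a * x = x * a := by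
  rw [Subgroup.mem_centralizer_iff]
  constructor
  · intro h
    exact h a (Subgroup.mem_zpowers a)
  · intro h y hy
    obtain ⟨m, rfl⟩ := Subgroup.mem_zpowers_iff.1 hy
    have hc : Commute a x := h
    exact (hc.zpow_left m).eq

/-- For a quadratically acting element a on an elementary abelian p-group V, the fixed points C_V(a) have order at least the square root of the order of V. -/
theorem result {G : Type*} [Group G] [Finite G] {p : ℕ} [Fact p.Prime] (V : Subgroup G) (hV : Cfsg.IsElementaryAbelian p V) (a : G) (ha : a ∈ Subgroup.normalizer (V : Set G)) (hq : ⁅⁅V, Subgroup.zpowers a⁆, Subgroup.zpowers a⁆ = ⊥) : Nat.card V ≤ Nat.card ↥(V ⊓ Subgroup.centralizer (Subgroup.zpowers a : Set G)) ^ 2 := by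
  have hVea := (isElementaryAbelian_iff p V).1 hV
  have hmem : ∀ v ∈ V, ⁅v, a⁆ ∈ V := by
    intro v hv
    rw [commutatorElement_def]
    have : v * a * v⁻¹ * a⁻¹ = v * (a * v⁻¹ * a⁻¹) := by group
    rw [this]
    exact V.mul_mem hv (((Subgroup.mem_normalizer_iff.1 ha) _).1 (V.inv_mem hv))
  have hmul : ∀ v ∈ V, ∀ w ∈ V, ⁅v * w, a⁆ = ⁅v, a⁆ * ⁅w, a⁆ := by
    intro v hv w hw
    rw [comm_mul_left]
    have h1 : v * ⁅w, a⁆ * v⁻¹ = ⁅w, a⁆ := by
      rw [hVea.1 v hv _ (hmem w hw), mul_inv_cancel_right]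
    rw [h1]
    exact hVea.1 _ (hmem w hw) _ (hmem v hv)
  let φ : V →* V :=
    { toFun := fun v => ⟨⁅(v : G), a⁆, hmem v v.2⟩
      map_one' := by
        apply Subtype.ext
        simp
      map_mul' := by
        intro v w
        apply Subtype.ext
        exact hmul v v.2 w w.2 }
  set C : Subgroup G := V ⊓ Subgroup.centralizer (Subgroup.zpowers a : Set G) with hC
  have hCV : C ≤ V := inf_le_left
  have hcardC : Nat.card (C.subgroupOf V) = Nat.card C := card_subgroupOf_of_le hCV
  -- kernel and range of φ lie in C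
  have hker : φ.ker ≤ C.subgroupOf V := by
    intro v hv
    rw [MonoidHom.mem_ker] at hv
    have h1 : ⁅(v : G), a⁆ = 1 := congrArg Subtype.val hv
    rw [Subgroup.mem_subgroupOf]
    have hx : (v : G) ∈ Subgroup.centralizer (Subgroup.zpowers a : Set G) :=
      mem_centralizer_zpowers_iff.2 (commutatorElement_eq_one_iff_mul_comm.1 h1).symm
    exact ⟨v.2, hx⟩
  have hrange : φ.range ≤ C.subgroupOf V := by
    rintro _ ⟨v, rfl⟩
    rw [Subgroup.mem_subgroupOf]
    have h1 : ⁅⁅(v : G), a⁆, a⁆ ∈ ⁅⁅V, Subgroup.zpowers a⁆, Subgroup.zpowers a⁆ :=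
      Subgroup.commutator_mem_commutator
        (Subgroup.commutator_mem_commutator v.2 (Subgroup.mem_zpowers a)) (Subgroup.mem_zpowers a)
    rw [hq, Subgroup.mem_bot] at h1
    have hx : ⁅(v : G), a⁆ ∈ Subgroup.centralizer (Subgroup.zpowers a : Set G) :=
      mem_centralizer_zpowers_iff.2 (commutatorElement_eq_one_iff_mul_comm.1 h1).symm
    exact ⟨hmem v v.2, hx⟩
  have h1 : Nat.card V = Nat.card (V ⧸ φ.ker) * Nat.card φ.ker :=
    Subgroup.card_eq_card_quotient_mul_card_subgroup φ.ker
  have h2 : Nat.card (V ⧸ φ.ker) = Nat.card φ.range :=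
    Nat.card_congr (QuotientGroup.quotientKerEquivRange φ).toEquiv
  rw [h1, h2, sq, ← hcardC]
  exact Nat.mul_le_mul (Subgroup.card_le_of_le hrange) (Subgroup.card_le_of_le hker)

end Cfsg.Agent.S0591
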