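import Cfsg.Statements.S0593
import Cfsg.Agent.Lib.Helper4.QuadSylow2
import Cfsg.Agent.Lib.Helper4.QuadPair6

set_option autoImplicit false
open Cfsg

namespace Cfsg.Agent.S0593

/-- For odd p, a faithful group on an elementary abelian p-group generated by two quadratically acting elements is a p-group or has non-abelian Sylow 2-subgroups. -/
theorem result {G : Type*} [Group G] [Finite G] {p : ℕ} [Fact p.Prime] (hp : p ≠ 2) (V H : Subgroup G) (hV : Cfsg.IsElementaryAbelian p V) (hHV : H ≤ Subgroup.normalizer (V : Set G)) (hf : H ⊓ Subgroup.centralizer (V : Set G) = ⊥) (a b : G) (hab : H = Subgroup.closure {a, b}) (ha : ⁅⁅V, Subgroup.zpowers a⁆, Subgroup.zpowers a⁆ = ⊥) (hb : ⁅⁅V, Subgroup.zpowers b⁆, Subgroup.zpowers b⁆ = ⊥) (hnp : ¬ IsPGroup p H) (T : Sylow 2 H) : ¬ IsMulCommutative T := by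
  classical
  obtain ⟨W, _, _, _, ρ, hρ, hquad⟩ := Cfsg.Agent.Lib.Helper4.qp_internal_rep p V H hV hHV hf
  have haH : a ∈ H := hab ▸ Subgroup.subset_closure (Set.mem_insert _ _)
  have hbH : b ∈ H := hab ▸ Subgroup.subset_closure (Set.mem_insert_of_mem _ rfl)
  intro hcomm
  have hcl : Subgroup.closure ({(⟨a, haH⟩ : ↥H), ⟨b, hbH⟩} : Set ↥H) = ⊤ := by
    apply Subgroup.map_injective H.subtype_injective
    rw [MonoidHom.map_closure, ← MonoidHom.range_eq_map, Subgroup.range_subtype]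
    have : (H.subtype '' ({⟨a, haH⟩, ⟨b, hbH⟩} : Set ↥H)) = {a, b} := by
      rw [Set.image_pair]; rfl
    rw [this, ← hab]
  have hnp' : ¬ IsPGroup p (Subgroup.closure ({(⟨a, haH⟩ : ↥H), ⟨b, hbH⟩} : Set ↥H)) := by
    rw [hcl]
    intro h
    apply hnp
    intro x
    obtain ⟨k, hk⟩ := h ⟨x, Subgroup.mem_top x⟩
    refine ⟨k, ?_⟩
    have := congrArg Subtype.val hk
    rw [Subgroup.coe_pow, Subgroup.coe_one] at this
    exact this
  refine Cfsg.Agent.Lib.Helper4.qp_sylow2_nonabelian p hp ρ hρ ⟨a, haH⟩ ⟨b, hbH⟩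
    (hquad _ ha) (hquad _ hb) hnp' T ?_
  intro x y
  exact hcomm.is_comm.comm x y

end Cfsg.Agent.S0593
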