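import Cfsg.Statements.S0594
import Cfsg.Agent.Lib.Helper4.QuadPair5
import Cfsg.Agent.Lib.Helper4.QuadPair6

set_option autoImplicit false
open Cfsg

namespace Cfsg.Agent.S0594

/-- For odd p, two quadratic generators of a faithful group that is not a p-group, one of which acts nontrivially on a normal subgroup of order prime to p, force p = 3 and a section isomorphic to SL(2,3). -/
theorem result {G : Type*} [Group G] [Finite G] {p : ℕ} [Fact p.Prime] (hp : p ≠ 2) (V H : Subgroup G) (hV : Cfsg.IsElementaryAbelian p V) (hHV : H ≤ Subgroup.normalizer (V : Set G)) (hf : H ⊓ Subgroup.centralizer (V : Set G) = ⊥) (a b : G) (hab : H = Subgroup.closure {a, b}) (ha : ⁅⁅V, Subgroup.zpowers a⁆, Subgroup.zpowers a⁆ = ⊥) (hb : ⁅⁅V, Subgroup.zpowers b⁆, Subgroup.zpowers b⁆ = ⊥) (hnp : ¬ IsPGroup p H) (Q : Subgroup G) (hQH : Q ≤ H) (hQn : H ≤ Subgroup.normalizer (Q : Set G)) (hQ : (Nat.card Q).Coprime p) (hQa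 : ⁅Q, Subgroup.zpowers a⁆ ≠ ⊥) : p = 3 ∧ ∃ (K L : Subgroup G) (hL : (L.subgroupOf K).Normal), K ≤ H ∧ Nonempty ((K ⧸ L.subgroupOf K) ≃* Matrix.SpecialLinearGroup (Fin 2) (ZMod 3)) := by
  classical
  obtain ⟨W, _, _, _, ρ, hρ, hquad⟩ := Cfsg.Agent.Lib.Helper4.qp_internal_rep p V H hV hHV hf
  have haH : a ∈ H := hab ▸ Subgroup.subset_closure (Set.mem_insert _ _)
  -- an element of Q not commuting with a
  have hex : ∃ x ∈ Q, x * a ≠ a * x := by
    by_contra hno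
    apply hQa
    rw [Subgroup.commutator_eq_bot_iff_le_centralizer]
    intro x hx
    rw [Subgroup.mem_centralizer_iff]
    intro y hy
    obtain ⟨k, rfl⟩ := Subgroup.mem_zpowers_iff.1 hy
    have hc : Commute x a := by
      by_contra hc
      exact hno ⟨x, hx, hc⟩
    exact (hc.zpow_right k).eq.symm
  obtain ⟨x, hxQ, hxa⟩ := hex
  have hxH : x ∈ H := hQH hxQ
  have hcard : (Nat.card (Q.subgroupOf H)).Coprime p := by
    rw [Nat.card_congr (Subgroup.subgroupOfEquivOfLe hQH).toEquiv]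
    exact hQ
  have hnorm : ∀ q : ↥H, q ∈ Q.subgroupOf H ↔
      (⟨a, haH⟩ : ↥H) * q * (⟨a, haH⟩ : ↥H)⁻¹ ∈ Q.subgroupOf H := by
    intro q
    rw [Subgroup.mem_subgroupOf, Subgroup.mem_subgroupOf]
    exact (Subgroup.mem_normalizer_iff.1 (hQn haH)) q
  have hxa' : (⟨x, hxH⟩ : ↥H) * ⟨a, haH⟩ ≠ ⟨a, haH⟩ * ⟨x, hxH⟩ := by
    intro h
    exact hxa (congrArg Subtype.val h)
  obtain ⟨h3, hinv⟩ := Cfsg.Agent.Lib.Helper4.qp_a594 p hp ρ hρ ⟨a, haH⟩ (hquad ⟨a, haH⟩ ha)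
    (Q.subgroupOf H) hcard hnorm ⟨x, hxH⟩ (Subgroup.mem_subgroupOf.2 hxQ) hxa'
  exact ⟨h3, Cfsg.Agent.Lib.Helper4.qp_involves_explicit H hinv⟩

end Cfsg.Agent.S0594
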