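import Mathlib
import Cfsg.Statements.S0597
import Cfsg.Agent.Lib.Helper2.Subnormal
import Cfsg.Agent.Lib.Helper3.Subn
import Cfsg.Agent.Lib.Helper3.NormAux

set_option autoImplicit false
open Cfsg
open Cfsg.Agent.Lib.Helper3
open scoped commutatorElement

namespace Cfsg.Agent.S0597

variable {G : Type*} [Group G]

lemma pow_conj (x v u : G) (hu : x * v * x⁻¹ = u * v) (hxu : x * u = u * x) (k : ℕ) :
    x ^ k * v * (x ^ k)⁻¹ = u ^ k * v := by
  induction k with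
  | zero => simp
  | succ k ih =>
    have hc : Commute x (u ^ k) := Commute.pow_right hxu k
    have h1 : x ^ (k + 1) * v * (x ^ (k + 1))⁻¹ = x * (x ^ k * v * (x ^ k)⁻¹) * x⁻¹ := by
      rw [pow_succ']; group
    rw [h1, ih]
    have h2 : x * (u ^ k * v) * x⁻¹ = (x * u ^ k) * x⁻¹ * (x * v * x⁻¹) := by group
    rw [h2, hc.eq, hu, pow_succ]
    group

/-- the stability group of the chain `V ≥ U ≥ 1` -/
def stab (V U : Subgroup G) : Subgroup G where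
  carrier := {x | x ∈ Subgroup.centralizer (U : Set G) ∧ ∀ v ∈ V, ⁅x, v⁆ ∈ U}
  one_mem' := ⟨Subgroup.one_mem _, fun v _ => by
    rw [commutatorElement_one_left]; exact Subgroup.one_mem _⟩
  mul_mem' := by
    rintro x y ⟨hx1, hx2⟩ ⟨hy1, hy2⟩
    refine ⟨Subgroup.mul_mem _ hx1 hy1, fun v hv => ?_⟩
    have h1 : ⁅x * y, v⁆ = x * ⁅y, v⁆ * x⁻¹ * ⁅x, v⁆ := by
      simp only [commutatorElement_def]; group
    have h2 : x * ⁅y, v⁆ = ⁅y, v⁆ * x := (Subgroup.mem_centralizer_iff.mp hx1 _ (hy2 v hv)).symm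
    rw [h1, h2, mul_inv_cancel_right]
    exact Subgroup.mul_mem _ (hy2 v hv) (hx2 v hv)
  inv_mem' := by
    rintro x ⟨hx1, hx2⟩
    refine ⟨Subgroup.inv_mem _ hx1, fun v hv => ?_⟩
    have h1 : ⁅x⁻¹, v⁆ = x⁻¹ * ⁅x, v⁆⁻¹ * x := by
      simp only [commutatorElement_def]; group
    have h2 : ⁅x, v⁆⁻¹ * x = x * ⁅x, v⁆⁻¹ :=
      Subgroup.mem_centralizer_iff.mp hx1 _ (Subgroup.inv_mem _ (hx2 v hv))
    rw [h1, mul_assoc, h2, inv_mul_cancel_left]
    exact Subgroup.inv_mem _ (hx2 v hv)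

lemma stab_pow {p : ℕ} {V U : Subgroup G} (hUV : U ≤ V) (hV : ∀ a ∈ V, a ^ p = 1) {x : G}
    (hx : x ∈ stab V U) : x ^ p ∈ Subgroup.centralizer (V : Set G) := by
  obtain ⟨hx1, hx2⟩ := hx
  rw [Subgroup.mem_centralizer_iff]
  intro v hv
  have hu : x * v * x⁻¹ = ⁅x, v⁆ * v := by simp only [commutatorElement_def]; group
  have hxu : x * ⁅x, v⁆ = ⁅x, v⁆ * x := (Subgroup.mem_centralizer_iff.mp hx1 _ (hx2 v hv)).symm
  have h1 := pow_conj x v ⁅x, v⁆ hu hxu p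
  rw [hV _ (hUV (hx2 v hv)), one_mul] at h1
  have h2 : x ^ p * v = (x ^ p * v * (x ^ p)⁻¹) * x ^ p := by group
  rw [h2, h1]

lemma le_normalizer_commutator_left (A B : Subgroup G) :
    A ≤ Subgroup.normalizer ((⁅A, B⁆ : Subgroup G) : Set G) := by
  have key : ∀ a ∈ A, ∀ x ∈ ⁅A, B⁆, a * x * a⁻¹ ∈ ⁅A, B⁆ := by
    intro a ha
    have h1 : ⁅A, B⁆ ≤ (⁅A, B⁆).comap (MulAut.conj a).toMonoidHom := by
      rw [Subgroup.commutator_le]
      intro a' ha' b hb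
      show a * ⁅a', b⁆ * a⁻¹ ∈ ⁅A, B⁆
      have h2 : a * ⁅a', b⁆ * a⁻¹ = ⁅a * a', b⁆ * ⁅a, b⁆⁻¹ := by
        simp only [commutatorElement_def]; group
      rw [h2]
      exact Subgroup.mul_mem _ (Subgroup.commutator_mem_commutator (Subgroup.mul_mem _ ha ha') hb)
        (Subgroup.inv_mem _ (Subgroup.commutator_mem_commutator ha hb))
    intro x hx
    exact h1 hx
  intro a ha
  apply mem_normalizer_of_conj_mem
  · exact key a ha
  · intro x hx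
    have := key a⁻¹ (Subgroup.inv_mem _ ha) x hx
    simpa using this

lemma sup_le_normalizer_commutator (A B : Subgroup G) :
    A ⊔ B ≤ Subgroup.normalizer ((⁅A, B⁆ : Subgroup G) : Set G) := by
  apply sup_le (le_normalizer_commutator_left A B)
  have := le_normalizer_commutator_left B A
  rwa [Subgroup.commutator_comm] at this

/-- If two subnormal subgroups of a faithful group on an elementary abelian p-group satisfy [V, E₁, E₂] = 1, then their commutator lies in the largest normal p-subgroup. -/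
theorem result {G : Type*} [Group G] [Finite G] {p : ℕ} [Fact p.Prime] (V H : Subgroup G) (hV : Cfsg.IsElementaryAbelian p V) (hHV : H ≤ Subgroup.normalizer (V : Set G)) (hf : H ⊓ Subgroup.centralizer (V : Set G) = ⊥) (E₁ E₂ : Subgroup G) (h₁ : E₁ ≤ H) (h₂ : E₂ ≤ H) (hs₁ : (E₁.subgroupOf H).IsSubnormal) (hs₂ : (E₂.subgroupOf H).IsSubnormal) (hc : ⁅⁅V, E₁⁆, E₂⁆ = ⊥) : ⁅E₁, E₂⁆ ≤ (Cfsg.pCore p H).map H.subtype := by
  set U := ⁅V, E₁⁆ with hU
  have hUV : U ≤ V := by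
    rw [hU, Subgroup.commutator_le]
    intro v hv e he
    have h1 : ⁅v, e⁆ = v * (e * v⁻¹ * e⁻¹) := by simp only [commutatorElement_def]; group
    rw [h1]
    exact Subgroup.mul_mem _ hv
      (conj_mem_of_mem_normalizer' (hHV (h₁ he)) (Subgroup.inv_mem _ hv))
  have hE2 : E₂ ≤ Subgroup.centralizer (U : Set G) := by
    have := Subgroup.commutator_eq_bot_iff_le_centralizer.mp (by rw [Subgroup.commutator_comm]; exact hc : ⁅E₂, U⁆ = ⊥)
    exact this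
  have hE1N : ∀ e ∈ E₁, ∀ u ∈ U, e * u * e⁻¹ ∈ U := by
    intro e he u hu
    have h1 : (MulAut.conj e).toMonoidHom u ∈ U.map (MulAut.conj e).toMonoidHom := ⟨u, hu, rfl⟩
    rw [hU, Subgroup.map_commutator] at h1
    have h2 : V.map (MulAut.conj e).toMonoidHom ≤ V := by
      rintro _ ⟨v, hv, rfl⟩
      exact conj_mem_of_mem_normalizer' (hHV (h₁ he)) hv
    have h3 : E₁.map (MulAut.conj e).toMonoidHom ≤ E₁ := by
      rintro _ ⟨x, hx, rfl⟩
      exact Subgroup.mul_mem _ (Subgroup.mul_mem _ he hx) (Subgroup.inv_mem _ he)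
    exact Subgroup.commutator_mono h2 h3 h1
  have hE1V : ∀ e ∈ E₁, ∀ v ∈ V, ⁅e, v⁆ ∈ U := by
    intro e he v hv
    have h1 : ⁅e, v⁆ = ⁅v, e⁆⁻¹ := (commutatorElement_inv v e).symm
    rw [h1]
    exact Subgroup.inv_mem _ (Subgroup.commutator_mem_commutator hv he)
  have hD : ⁅E₁, E₂⁆ ≤ stab V U := by
    rw [Subgroup.commutator_le]
    intro e₁ he₁ e₂ he₂
    have hc2 : ∀ u ∈ U, e₂ * u = u * e₂ := fun u hu =>
      (Subgroup.mem_centralizer_iff.mp (hE2 he₂) u hu).symm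
    refine ⟨?_, ?_⟩
    · rw [Subgroup.mem_centralizer_iff]
      intro u hu
      have hu' : e₁⁻¹ * u * e₁ ∈ U := by
        have := hE1N e₁⁻¹ (Subgroup.inv_mem _ he₁) u hu
        simpa using this
      have h1 := hc2 _ hu'
      have h1' : e₂⁻¹ * u = u * e₂⁻¹ := by
        have := hc2 u hu
        calc e₂⁻¹ * u = e₂⁻¹ * (u * e₂) * e₂⁻¹ := by group
          _ = e₂⁻¹ * (e₂ * u) * e₂⁻¹ := by rw [this]
          _ = u * e₂⁻¹ := by group
      calc u * ⁅e₁, e₂⁆ = e₁ * ((e₁⁻¹ * u * e₁) * e₂) * e₁⁻¹ * e₂⁻¹ := by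
            simp only [commutatorElement_def]; group
        _ = e₁ * (e₂ * (e₁⁻¹ * u * e₁)) * e₁⁻¹ * e₂⁻¹ := by rw [h1]
        _ = e₁ * e₂ * e₁⁻¹ * (u * e₂⁻¹) := by group
        _ = e₁ * e₂ * e₁⁻¹ * (e₂⁻¹ * u) := by rw [h1']
        _ = ⁅e₁, e₂⁆ * u := by simp only [commutatorElement_def]; group
    · intro v hv
      set w := e₂⁻¹ * v * e₂ with hw
      have hwV : w ∈ V := conj_inv_mem_of_mem_normalizer' (hHV (h₂ he₂)) hv
      set u₁ := ⁅e₁⁻¹, w⁆ with hu₁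
      have hu₁U : u₁ ∈ U := hE1V _ (Subgroup.inv_mem _ he₁) w hwV
      have hid : ⁅⁅e₁, e₂⁆, v⁆ = e₁ * (e₂ * u₁ * e₂⁻¹) * e₁⁻¹ * ⁅e₁, v⁆ := by
        simp only [commutatorElement_def, hu₁, hw]; group
      rw [hid]
      have h3 : e₂ * u₁ * e₂⁻¹ = u₁ := by rw [hc2 u₁ hu₁U]; group
      rw [h3]
      exact Subgroup.mul_mem _ (hE1N e₁ he₁ u₁ hu₁U) (hE1V e₁ he₁ v hv)
  set E₁' := E₁.subgroupOf H with hE₁'
  set E₂' := E₂.subgroupOf H with hE₂'
  have hK : (E₁' ⊔ E₂').IsSubnormal := Cfsg.Agent.Lib.Helper2.isSubnormal_sup E₁' E₂' hs₁ hs₂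
  have hDK : ⁅E₁', E₂'⁆ ≤ E₁' ⊔ E₂' := by
    rw [Subgroup.commutator_le]
    intro a ha b hb
    have ha' : a ∈ E₁' ⊔ E₂' := (le_sup_left : E₁' ≤ E₁' ⊔ E₂') ha
    have hb' : b ∈ E₁' ⊔ E₂' := (le_sup_right : E₂' ≤ E₁' ⊔ E₂') hb
    exact Subgroup.mul_mem _ (Subgroup.mul_mem _ (Subgroup.mul_mem _ ha' hb')
      (Subgroup.inv_mem _ ha')) (Subgroup.inv_mem _ hb')
  have hDn : ((⁅E₁', E₂'⁆ : Subgroup ↥H).subgroupOf (E₁' ⊔ E₂')).Normal :=
    Subgroup.normal_subgroupOf_of_le_normalizer (sup_le_normalizer_commutator E₁' E₂')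
  have hDsub : (⁅E₁', E₂'⁆ : Subgroup ↥H).IsSubnormal :=
    Subgroup.IsSubnormal.step _ _ hDK hK hDn
  have hmap : (⁅E₁', E₂'⁆ : Subgroup ↥H).map H.subtype = ⁅E₁, E₂⁆ := by
    rw [Subgroup.map_commutator, hE₁', hE₂', Subgroup.subgroupOf_map_subtype,
      Subgroup.subgroupOf_map_subtype, inf_eq_left.mpr h₁, inf_eq_left.mpr h₂]
  have hDp : IsPGroup p ↥(⁅E₁', E₂'⁆ : Subgroup ↥H) := by
    rintro ⟨d, hd⟩
    refine ⟨1, ?_⟩
    have h1 : (d : G) ∈ ⁅E₁, E₂⁆ := by rw [← hmap]; exact ⟨d, hd, rfl⟩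
    have h2 := stab_pow hUV hV.2 (hD h1)
    have h3 : (d : G) ^ p ∈ H ⊓ Subgroup.centralizer (V : Set G) :=
      ⟨Subgroup.pow_mem _ d.2 p, h2⟩
    rw [hf, Subgroup.mem_bot] at h3
    apply Subtype.ext
    apply Subtype.ext
    simpa using h3
  have hle := subnormal_pgroup_le_pCore p hDsub hDp
  rw [← hmap]
  exact Subgroup.map_mono hle

end Cfsg.Agent.S0597
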