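import Cfsg.Statements.S0599
import Cfsg.Agent.Lib.Helper4.Replacement

set_option autoImplicit false
open Cfsg

namespace Cfsg.Agent.S0599

/-- The Timmesfeld replacement Theorem: replacing a best offender A by C_A([U, A]) gives a best offender with fixed points [U, A]C_V(A), still nontrivial on V if A was. -/
theorem result {G : Type*} [Group G] [Finite G] {p : ℕ} [Fact p.Prime] (V A : Subgroup G) (hV : Cfsg.IsElementaryAbelian p V) (hAV : A ≤ Subgroup.normalizer (V : Set G)) (hA : Cfsg.IsBestOffenderOn p V A) (U : Subgroup G) (hU : U ≤ V) : Cfsg.IsBestOffenderOn p V (A ⊓ Subgroup.centralizer ((⁅U, A⁆ : Subgroup G) : Set G)) ∧ V ⊓ Subgroup.centralizer ((A ⊓ Subgroup.centralizer ((⁅U, A⁆ : Subgroup G) : Set G) : Subgroup G) : Set G) = ⁅U, A⁆ ⊔ (V ⊓ Subgroup.centralizer (A : Set G)) ∧ (⁅V, A⁆ ≠ ⊥ → ⁅V, A ⊓ Subgroup.centralizer ((⁅U, A⁆ : Subgroup G) : Set G)⁆ ≠ ⊥) := by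
  have hp : p.Prime := Fact.out
  have hVc : V ≤ Subgroup.centralizer (V : Set G) :=
    Subgroup.le_centralizer_iff_isMulCommutative.mpr hV.1
  obtain ⟨hbest, hab, hpow⟩ := hA
  obtain ⟨h1, h2⟩ := Cfsg.Agent.Lib.Helper4.replacement_main hVc hAV hab hbest U hU
  obtain ⟨B, hB⟩ : ∃ B : Subgroup G,
    B = A ⊓ Subgroup.centralizer ((⁅U, A⁆ : Subgroup G) : Set G) := ⟨_, rfl⟩
  rw [← hB] at h1 h2 ⊢
  have hBA : B ≤ A := hB ▸ inf_le_left
  refine ⟨⟨?_, (Subgroup.commutator_mono hBA hBA).trans hab, fun a ha => hpow a (hBA ha)⟩,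
    h2, ?_⟩
  · intro D hD
    rw [h1]
    exact hbest D (hD.trans hBA)
  · intro hne hbot
    apply hne
    have hVp : IsPGroup p V := by
      intro v
      refine ⟨1, ?_⟩
      rw [pow_one]
      apply Subtype.ext
      rw [Subgroup.coe_pow, Subgroup.coe_one]
      exact hV.2 v v.2
    apply Cfsg.Agent.Lib.Helper4.repl_commutator_eq_bot hVc hVp hAV hpow
    have hVB : V ≤ Subgroup.centralizer (B : Set G) :=
      (Subgroup.commutator_eq_bot_iff_le_centralizer).mp hbot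
    have hVfix : V ≤ V ⊓ Subgroup.centralizer (B : Set G) := le_inf le_rfl hVB
    rw [h2] at hVfix
    exact hVfix.trans (sup_le_sup_right (Subgroup.commutator_mono hU le_rfl) _)

end Cfsg.Agent.S0599
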