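import Cfsg.Statements.S0600
import Mathlib

set_option autoImplicit false
set_option linter.style.haveILetI false
open Cfsg

namespace Cfsg.Agent.S0600

/-- A normal elementary abelian p-subgroup generated by the fixed points of the Sylow p-subgroups admits no nontrivial normal p-subgroup of G modulo its centralizer. -/
theorem result {G : Type*} [Group G] [Finite G] {p : ℕ} [Fact p.Prime] (V : Subgroup G) [V.Normal] (hV : Cfsg.IsElementaryAbelian p V) (hgen : V = ⨆ S : Sylow p G, V ⊓ Subgroup.centralizer ((S : Subgroup G) : Set G)) : Cfsg.pCore p (G ⧸ Subgroup.centralizer (V : Set G)) = ⊥ := by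
  classical
  set C := Subgroup.centralizer (V : Set G) with hC
  rw [eq_bot_iff]
  unfold Cfsg.pCore
  apply sSup_le
  rintro N ⟨hNn, hNp⟩
  haveI := hNn
  intro xbar hx
  obtain ⟨x, rfl⟩ := QuotientGroup.mk'_surjective C xbar
  rw [Subgroup.mem_bot]
  show (QuotientGroup.mk' C) x = 1
  rw [QuotientGroup.mk'_apply, QuotientGroup.eq_one_iff]
  -- x centralizes V
  have hxc : V ≤ Subgroup.centralizer ({x} : Set G) := by
    rw [hgen]
    apply iSup_le
    intro S
    -- N ≤ image of S
    have hsurj : Function.Surjective (QuotientGroup.mk' C) := QuotientGroup.mk'_surjective C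
    have hle : N ≤ (S.mapSurjective hsurj : Sylow p (G ⧸ C)) := hNp.le_sylow_of_normal _
    have hxS : (QuotientGroup.mk' C) x ∈ (S : Subgroup G).map (QuotientGroup.mk' C) := hle hx
    obtain ⟨s, hs, hsx⟩ := hxS
    -- x = s * c
    have hc : s⁻¹ * x ∈ C := by
      rw [← QuotientGroup.eq]
      exact hsx
    intro v hv
    obtain ⟨hvV, hvS⟩ := hv
    rw [Subgroup.mem_centralizer_iff]
    intro y hy
    rw [Set.mem_singleton_iff] at hy
    subst hy
    -- v commutes with s and with s⁻¹ * y
    have h1 : s * v = v * s := (Subgroup.mem_centralizer_iff.1 hvS s hs)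
    have h2 : v * (s⁻¹ * y) = (s⁻¹ * y) * v := (Subgroup.mem_centralizer_iff.1 hc v hvV)
    calc y * v = s * ((s⁻¹ * y) * v) := by group
      _ = s * (v * (s⁻¹ * y)) := by rw [h2]
      _ = (s * v) * (s⁻¹ * y) := by group
      _ = (v * s) * (s⁻¹ * y) := by rw [h1]
      _ = v * y := by group
  rw [hC, Subgroup.mem_centralizer_iff]
  intro v hv
  have := hxc hv
  rw [Subgroup.mem_centralizer_iff] at this
  exact (this x rfl).symm

end Cfsg.Agent.S0600
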