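import Cfsg.Statements.S0607
import Cfsg.Agent.Lib.Helper4.Replacement

set_option autoImplicit false
open Cfsg

namespace Cfsg.Agent.S0607

open scoped commutatorElement

lemma le_centralizer_self_of_ea {G : Type*} [Group G] {p : ℕ} {X : Subgroup G}
    (h : Cfsg.IsElementaryAbelian p X) : X ≤ Subgroup.centralizer (X : Set G) :=
  Subgroup.le_centralizer_iff_isMulCommutative.mpr h.1

lemma ea_of_le {G : Type*} [Group G] {p : ℕ} {X Y : Subgroup G}
    (hX : Cfsg.IsElementaryAbelian p X) (hYX : Y ≤ X) : Cfsg.IsElementaryAbelian p Y :=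
  ⟨Subgroup.le_centralizer_iff_isMulCommutative.mp
    (hYX.trans ((le_centralizer_self_of_ea hX).trans
      (Subgroup.centralizer_le (by exact_mod_cast hYX)))), fun a ha => hX.2 a (hYX ha)⟩

lemma ea_sup {G : Type*} [Group G] {p : ℕ} {X Y : Subgroup G}
    (hX : Cfsg.IsElementaryAbelian p X) (hY : Cfsg.IsElementaryAbelian p Y)
    (hXY : X ≤ Subgroup.centralizer (Y : Set G)) : Cfsg.IsElementaryAbelian p (X ⊔ Y) := by
  have hYX : Y ≤ Subgroup.centralizer (X : Set G) := Subgroup.le_centralizer_iff.mp hXY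
  refine ⟨Subgroup.le_centralizer_iff_isMulCommutative.mp ?_, ?_⟩
  · rw [Cfsg.Agent.Lib.Helper4.repl_centralizer_sup]
    exact sup_le (le_inf (le_centralizer_self_of_ea hX) hXY)
      (le_inf hYX (le_centralizer_self_of_ea hY))
  · intro g hg
    obtain ⟨x, hx, y, hy, rfl⟩ :=
      Cfsg.Agent.Lib.Helper2.exists_mul_of_mem_sup_of_le_normalizer
        (hXY.trans (Subgroup.centralizer_le_normalizer _)) hg
    have hc : Commute x y := (Subgroup.mem_centralizer_iff.mp (hXY hx) y hy).symm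
    rw [hc.mul_pow, hX.2 x hx, hY.2 y hy, one_mul]

/-- The replacement Theorem for the Thompson subgroup: from A of maximal order among elementary abelian p-subgroups one obtains A₀ = [V, A] C_A([V, A]) of the same kind, quadratic on V and nontrivial on V when A is. -/
theorem result {G : Type*} [Group G] [Finite G] {p : ℕ} [Fact p.Prime] (V : Subgroup G) [V.Normal] (hV : Cfsg.IsElementaryAbelian p V) (A : Subgroup G) (hA : A ∈ Cfsg.maxElementaryAbelianSubgroups p G) : (⁅V, A⁆ ⊔ (A ⊓ Subgroup.centralizer ((⁅V, A⁆ : Subgroup G) : Set G))) ∈ Cfsg.maxElementaryAbelianSubgroups p G ∧ ⁅⁅V, ⁅V, A⁆ ⊔ (A ⊓ Subgroup.centralizer ((⁅V, A⁆ : Subgroup G) : Set G))⁆, ⁅V, A⁆ ⊔ (A ⊓ Subgroup.centralizer ((⁅V, A⁆ : Subgroup G) : Set G))⁆ = ⊥ ∧ (⁅V, A⁆ ≠ ⊥ → ⁅V, ⁅V, A⁆ ⊔ (A ⊓ Subgroup.centralizer ((⁅V, A⁆ : Subgroup G) : Set G))⁆ ≠ ⊥) := by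
  have hp : p.Prime := Fact.out
  obtain ⟨hAea, hAmax⟩ := hA
  have hVc := le_centralizer_self_of_ea hV
  have hAc := le_centralizer_self_of_ea hAea
  have commV : ∀ x ∈ V, ∀ y ∈ V, x * y = y * x := fun x hx y hy =>
    ((Subgroup.mem_centralizer_iff.mp (hVc hy)) x hx)
  have hAV : A ≤ Subgroup.normalizer (V : Set G) := by
    rw [Subgroup.normalizer_eq_top_iff.mpr inferInstance]; exact le_top
  have hab : ⁅A, A⁆ ≤ Subgroup.centralizer (V : Set G) := by
    rw [(Subgroup.commutator_eq_bot_iff_le_centralizer).mpr hAc]; exact bot_le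
  have hfixA : V ⊓ Subgroup.centralizer (A : Set G) = V ⊓ A := by
    apply le_antisymm
    · refine le_inf inf_le_left ?_
      have hF : Cfsg.IsElementaryAbelian p (V ⊓ Subgroup.centralizer (A : Set G)) :=
        ea_of_le hV inf_le_left
      have hsup : Cfsg.IsElementaryAbelian p (A ⊔ (V ⊓ Subgroup.centralizer (A : Set G))) :=
        ea_sup hAea hF (Subgroup.le_centralizer_iff.mp inf_le_right)
      have hcard := hAmax _ hsup
      have e : A = A ⊔ (V ⊓ Subgroup.centralizer (A : Set G)) :=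
        Subgroup.eq_of_le_of_card_ge le_sup_left hcard
      exact le_sup_right.trans e.ge
    · exact inf_le_inf_left _ hAc
  have hbest : ∀ B : Subgroup G, B ≤ A →
      Nat.card B * Nat.card ↥(V ⊓ Subgroup.centralizer (B : Set G)) ≤
        Nat.card A * Nat.card ↥(V ⊓ Subgroup.centralizer (A : Set G)) := by
    intro B hB
    obtain ⟨F, hF⟩ : ∃ F : Subgroup G, F = V ⊓ Subgroup.centralizer (B : Set G) := ⟨_, rfl⟩
    rw [← hF, hfixA]
    have hFea : Cfsg.IsElementaryAbelian p F := ea_of_le hV (hF ▸ inf_le_left)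
    have hBea := ea_of_le hAea hB
    have hBF : B ≤ Subgroup.centralizer (F : Set G) :=
      Subgroup.le_centralizer_iff.mp (hF ▸ inf_le_right)
    have hsup := ea_sup hBea hFea hBF
    have h1 := hAmax _ hsup
    have h2 := Cfsg.Agent.Lib.Helper2.card_sup_mul_card_inf B F
      (hBF.trans (Subgroup.centralizer_le_normalizer _))
    have h3 : B ⊓ F ≤ V ⊓ A := by
      rw [hF]; exact le_inf (inf_le_right.trans inf_le_left) (inf_le_left.trans hB)
    rw [← h2]
    exact Nat.mul_le_mul h1 (Subgroup.card_le_of_le h3)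
  obtain ⟨h1, h2⟩ := Cfsg.Agent.Lib.Helper4.replacement_main hVc hAV hab hbest V le_rfl
  obtain ⟨W, hW⟩ : ∃ W : Subgroup G, W = ⁅V, A⁆ := ⟨_, rfl⟩
  rw [← hW] at h1 h2 ⊢
  obtain ⟨B, hB⟩ : ∃ B : Subgroup G, B = A ⊓ Subgroup.centralizer (W : Set G) := ⟨_, rfl⟩
  rw [← hB] at h1 h2 ⊢
  have hWV : W ≤ V := by
    rw [hW]; exact Subgroup.le_normalizer_iff_commutator_le_left.mp hAV
  have hBA : B ≤ A := hB ▸ inf_le_left
  have hBW : B ≤ Subgroup.centralizer (W : Set G) := hB ▸ inf_le_right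
  have hVW : V ≤ Subgroup.centralizer (W : Set G) :=
    hVc.trans (Subgroup.centralizer_le (by exact_mod_cast hWV))
  rw [hfixA] at h1 h2
  have hVA_B : V ⊓ A ≤ B := by
    rw [hB]; exact le_inf inf_le_right (inf_le_left.trans hVW)
  obtain ⟨F, hF⟩ : ∃ F : Subgroup G, F = V ⊓ Subgroup.centralizer (B : Set G) := ⟨_, rfl⟩
  rw [← hF] at h1 h2
  have hA0 : W ⊔ B = B ⊔ F := by
    rw [h2]
    apply le_antisymm
    · exact sup_le (le_sup_of_le_right le_sup_left) le_sup_left
    · exact sup_le le_sup_right (sup_le le_sup_left (hVA_B.trans le_sup_right))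
  have hFea : Cfsg.IsElementaryAbelian p F := ea_of_le hV (hF ▸ inf_le_left)
  have hBea := ea_of_le hAea hBA
  have hBF : B ≤ Subgroup.centralizer (F : Set G) :=
    Subgroup.le_centralizer_iff.mp (hF ▸ inf_le_right)
  have hA0ea : Cfsg.IsElementaryAbelian p (W ⊔ B) := hA0 ▸ ea_sup hBea hFea hBF
  have hcard : Nat.card ↥(W ⊔ B) = Nat.card A := by
    have e1 := Cfsg.Agent.Lib.Helper2.card_sup_mul_card_inf B F
      (hBF.trans (Subgroup.centralizer_le_normalizer _))
    have e2 : B ⊓ F = V ⊓ A := by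
      apply le_antisymm
      · rw [hF]; exact le_inf (inf_le_right.trans inf_le_left) (inf_le_left.trans hBA)
      · refine le_inf hVA_B ?_
        rw [hF]
        exact le_inf inf_le_left (inf_le_right.trans
          (hAc.trans (Subgroup.centralizer_le (by exact_mod_cast hBA))))
    rw [e2, h1, ← hA0] at e1
    exact Nat.eq_of_mul_eq_mul_right Nat.card_pos e1
  have hWB : W ≤ Subgroup.centralizer (B : Set G) := Subgroup.le_centralizer_iff.mp hBW
  have hVA0 : ⁅V, W ⊔ B⁆ ≤ W := by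
    rw [Subgroup.commutator_le]
    intro v hv g hg
    obtain ⟨w, hw, b, hb, rfl⟩ :=
      Cfsg.Agent.Lib.Helper2.exists_mul_of_mem_sup_of_le_normalizer
        (hWB.trans (Subgroup.centralizer_le_normalizer _)) hg
    have hvb : ⁅v, b⁆ ∈ V := Cfsg.Agent.Lib.Helper4.repl_commutator_mem hAV hv (hBA hb)
    have hwV := hWV hw
    have e : ⁅v, w * b⁆ = ⁅v, b⁆ := by
      have c1 : v * w = w * v := commV v hv w hwV
      have c2 : w * ⁅v, b⁆ = ⁅v, b⁆ * w := commV w hwV _ hvb
      calc ⁅v, w * b⁆ = (v * w) * b * v⁻¹ * b⁻¹ * w⁻¹ := by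
            rw [commutatorElement_def]; group
        _ = (w * v) * b * v⁻¹ * b⁻¹ * w⁻¹ := by rw [c1]
        _ = (w * ⁅v, b⁆) * w⁻¹ := by rw [commutatorElement_def]; group
        _ = (⁅v, b⁆ * w) * w⁻¹ := by rw [c2]
        _ = ⁅v, b⁆ := by group
    rw [e, hW]
    exact Subgroup.commutator_mem_commutator hv (hBA hb)
  refine ⟨⟨hA0ea, fun D hD => (hAmax D hD).trans hcard.ge⟩, ?_, ?_⟩
  · rw [Subgroup.commutator_eq_bot_iff_le_centralizer]
    refine hVA0.trans ?_
    rw [Cfsg.Agent.Lib.Helper4.repl_centralizer_sup]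
    exact le_inf (hWV.trans hVW) hWB
  · intro hne hbot
    apply hne
    rw [hW]
    have hVp : IsPGroup p V := by
      intro v
      refine ⟨1, ?_⟩
      rw [pow_one]
      apply Subtype.ext
      rw [Subgroup.coe_pow, Subgroup.coe_one]
      exact hV.2 v v.2
    apply Cfsg.Agent.Lib.Helper4.repl_commutator_eq_bot hVc hVp hAV
      (fun a ha => by rw [hAea.2 a ha]; exact Subgroup.one_mem _)
    have hVB : V ≤ Subgroup.centralizer (B : Set G) := by
      have hle : ⁅V, B⁆ ≤ ⁅V, W ⊔ B⁆ := Subgroup.commutator_mono le_rfl le_sup_right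
      rw [hbot, le_bot_iff] at hle
      exact Subgroup.commutator_eq_bot_iff_le_centralizer.mp hle
    have hVF : V ≤ F := hF ▸ le_inf le_rfl hVB
    rw [h2] at hVF
    rw [hfixA, ← hW]
    exact hVF

end Cfsg.Agent.S0607
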