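import Mathlib
import Cfsg.Statements.S0614
import Cfsg.Agent.Lib.Helper3.FF6

set_option autoImplicit false
set_option linter.style.haveILetI false
open Cfsg
open Cfsg.Agent.Lib.Helper3
open scoped commutatorElement

namespace Cfsg.Agent.S0614

/-- The commutator of the p'-core with a minimal nontrivially-acting best offender is a 3-group (when p = 2) or a non-abelian 2-group (when p = 3). -/
theorem result {G : Type*} [Group G] [Finite G] {p : ℕ} [Fact p.Prime] (V H : Subgroup G) (hV : Cfsg.IsElementaryAbelian p V) (hHV : H ≤ Subgroup.normalizer (V : Set G)) (hf : H ⊓ Subgroup.centralizer (V : Set G) = ⊥) (hS1 : Subgroup.centralizer (Cfsg.pPrimeCore p ↥H : Set ↥H) ≤ Cfsg.pPrimeCore p ↥H) (hS3 : H = ⨆ A : {A : Subgroup G // A ≤ H ∧ Cfsg.IsBestOffenderOn p V A}, (A : Subgroup G)) (hH1 : H ≠ ⊥) (A : Subgroup G) (hAH : A ≤ H) (hA : Cfsg.IsBestOffenderOn p V A) (hAV : ⁅V, A⁆ ≠ ⊥) (hmin : ∀ B : Subgroup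 G, B ≤ A → Cfsg.IsBestOffenderOn p V B → ⁅V, B⁆ ≠ ⊥ → B = A) : (p = 2 ∧ IsPGroup 3 ↥(⁅((Cfsg.pPrimeCore p ↥H).map H.subtype), A⁆)) ∨ (p = 3 ∧ IsPGroup 2 ↥(⁅((Cfsg.pPrimeCore p ↥H).map H.subtype), A⁆) ∧ ¬ IsMulCommutative ↥(⁅((Cfsg.pPrimeCore p ↥H).map H.subtype), A⁆)) := by
  have s : FFSetup p V H := ⟨hV, hHV, hf, hS1⟩
  have m : MinBO p V H A := ⟨hAH, hA, hAV, hmin⟩
  obtain ⟨a, ha, ha1⟩ := m.exists_gen
  obtain ⟨x, hx, hxA⟩ := m.exists_x s
  have P := m.pair s (x := x) hx hxA ha ha1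
  have hy' : x * a * x⁻¹ * a⁻¹ ∈ ⁅qp p H, A⁆ := by
    rw [← commutatorElement_def]
    exact Subgroup.commutator_mem_commutator hx ha
  rcases P.prime_le_three s with h2 | h3
  · subst h2
    left
    refine ⟨rfl, ?_⟩
    intro g
    refine ⟨1, ?_⟩
    rw [pow_one]
    exact Subtype.ext (P.exp_two s g g.2)
  · subst h3
    right
    refine ⟨rfl, ?_, P.not_comm_three s hy'⟩
    intro g
    refine ⟨2, ?_⟩
    exact Subtype.ext (P.exp_three s g g.2)

end Cfsg.Agent.S0614
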