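import Cfsg.Statements.S0625
import Cfsg.Agent.Lib.Helper4.QuadPair9

set_option autoImplicit false
open Cfsg

namespace Cfsg.Agent.S0625

/-- A p-separable group with p at least 5 is p-stable in the action sense. -/
theorem result {G : Type*} [Group G] [Finite G] {p : ℕ} [Fact p.Prime] (hp : 5 ≤ p) (hsep : Cfsg.IsPSolvable p G) : Cfsg.IsActionPStable p G := by
  classical
  have hpp := (Fact.out : p.Prime)
  have hp2 : p ≠ 2 := by omega
  have hno : ∀ {X : Type _} [Group X], ¬ (p = 3 ∧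
      Cfsg.Involves (Matrix.SpecialLinearGroup (Fin 2) (ZMod 3)) X) := by
    intro X _ h
    omega
  -- general first part
  have part1 : ∀ {X : Type _} [Group X] [Finite X], Cfsg.IsPSolvable p X →
      ∀ (V : Subgroup X) [V.Normal], Cfsg.IsElementaryAbelian p V → Cfsg.IsPStableOn p V := by
    intro X _ _ hX V _ hV a ha
    by_contra hna
    obtain ⟨h3, -⟩ := Cfsg.Agent.Lib.Helper4.qp_pstable_on p hp2 hX V hV a ha hna
    omega
  refine ⟨fun V _ hV => part1 hsep V hV, ?_, ?_⟩
  · exact Cfsg.Agent.Lib.Helper4.qp_pstable_section p hp2 hsep hno (Cfsg.pCore p G)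
      Cfsg.Agent.Lib.Helper4.pCore_isPGroup
  · intro S V _ hle
    apply part1 (Cfsg.Agent.Lib.Helper7.isPSolvable_subgroup hpp hsep _) V
    -- V is elementary abelian
    obtain ⟨J, hJ⟩ : ∃ J : Subgroup ↥(S : Subgroup G), J = Cfsg.thompsonSubgroup p ↥(S : Subgroup G) :=
      ⟨_, rfl⟩
    have hZ : Cfsg.omegaCenterThompson p ↥(S : Subgroup G) =
        Subgroup.closure {x : ↥(S : Subgroup G) |
          x ∈ J ⊓ Subgroup.centralizer (J : Set ↥(S : Subgroup G)) ∧ x ^ p = 1} := by
      rw [hJ]; rfl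
    obtain ⟨hc, hpw⟩ := Cfsg.Agent.Lib.Helper4.qp_closure_elemAb p
      {x : ↥(S : Subgroup G) | x ∈ J ⊓ Subgroup.centralizer (J : Set ↥(S : Subgroup G)) ∧ x ^ p = 1}
      (by
        rintro x ⟨hx, -⟩ y ⟨hy, -⟩
        have h1 : y ∈ Subgroup.centralizer (J : Set ↥(S : Subgroup G)) := hy.2
        rw [Subgroup.mem_centralizer_iff] at h1
        exact h1 x hx.1)
      (fun x hx => hx.2)
    rw [← hZ] at hc hpw
    apply Cfsg.Agent.Lib.Helper4.qp_isElementaryAbelian_of
    · intro x hx y hy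
      obtain ⟨x', hx', hxx⟩ := Subgroup.mem_map.1 (hle (Subgroup.mem_map.2 ⟨x, hx, rfl⟩))
      obtain ⟨y', hy', hyy⟩ := Subgroup.mem_map.1 (hle (Subgroup.mem_map.2 ⟨y, hy, rfl⟩))
      apply Subtype.ext
      have h1 := congrArg (fun z : ↥(S : Subgroup G) => (z : G)) (hc x' hx' y' hy')
      simp only [Subgroup.coe_mul] at h1
      have hxx' : (x' : G) = (x : G) := hxx
      have hyy' : (y' : G) = (y : G) := hyy
      rw [hxx', hyy'] at h1
      simpa using h1
    · intro x hx
      obtain ⟨x', hx', hxx⟩ := Subgroup.mem_map.1 (hle (Subgroup.mem_map.2 ⟨x, hx, rfl⟩))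
      apply Subtype.ext
      have h1 := congrArg (fun z : ↥(S : Subgroup G) => (z : G)) (hpw x' hx')
      simp only [Subgroup.coe_pow, Subgroup.coe_one] at h1
      have hxx' : (x' : G) = (x : G) := hxx
      rw [hxx'] at h1
      simpa using h1

end Cfsg.Agent.S0625
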