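import Cfsg.Statements.S0627
import Cfsg.Agent.S0625
import Cfsg.Agent.S0624
import Cfsg.Agent.S0622
import Cfsg.Agent.Lib.Helper3.PSolv2
import Cfsg.Agent.Lib.Helper3.PComp

set_option autoImplicit false
open Cfsg

namespace Cfsg.Agent.S0627

/-- In a p-separable group with p at least 5, the normalizer of W(S) supplements the largest normal subgroup of order prime to p. -/
theorem result {G : Type*} [Group G] [Finite G] {p : ℕ} [Fact p.Prime] (hp : 5 ≤ p) (hsep : Cfsg.IsPSolvable p G) (S : Sylow p G) : Cfsg.pPrimeCore p G ⊔ Subgroup.normalizer (((Cfsg.stableNormalClosure p ↥(S : Subgroup G)).map (S : Subgroup G).subtype) : Set G) = ⊤ := by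
  classical
  have hpp := (Fact.out : p.Prime)
  have h0 : Cfsg.pPrimeCore p (G ⧸ Cfsg.pPrimeCore p G) = ⊥ :=
    Cfsg.Agent.Lib.Helper3.pPrimeCore_quotient_eq_bot p
  have hc := Cfsg.Agent.Lib.Helper3.centralizer_pCore_le_of_psolvable_quotient hsep
    (Cfsg.pPrimeCore p G) h0
  have hsolq : Cfsg.IsPSolvable p (G ⧸ Cfsg.pPrimeCore p G) :=
    Cfsg.Agent.Lib.Helper7.isPSolvable_quotient hpp hsep _
  have hst : Cfsg.IsActionPStable p (G ⧸ Cfsg.pPrimeCore p G) :=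
    Cfsg.Agent.S0625.result hp hsolq
  obtain ⟨π, hπ⟩ : ∃ π : G →* G ⧸ Cfsg.pPrimeCore p G, π = QuotientGroup.mk' _ := ⟨_, rfl⟩
  have hπs : Function.Surjective π := hπ ▸ QuotientGroup.mk'_surjective _
  have hπk : π.ker = Cfsg.pPrimeCore p G := hπ ▸ QuotientGroup.ker_mk' _
  have hNc : (Nat.card (Cfsg.pPrimeCore p G)).Coprime p :=
    Cfsg.Agent.Lib.Helper1.pPrimeCore_coprime p
  -- p-subgroups meet the p'-core trivially
  have hdisj : ∀ (Q : Subgroup G), IsPGroup p Q → ∀ x ∈ Q, x ∈ Cfsg.pPrimeCore p G → x = 1 := by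
    intro Q hQ x hxQ hxN
    obtain ⟨k, hk⟩ := hQ ⟨x, hxQ⟩
    have hk' : x ^ (p ^ k) = 1 := by simpa using congrArg Subtype.val hk
    have h1 : orderOf x ∣ p ^ k := orderOf_dvd_of_pow_eq_one hk'
    have h2 : orderOf x ∣ Nat.card (Cfsg.pPrimeCore p G) := by
      have := orderOf_dvd_natCard (⟨x, hxN⟩ : Cfsg.pPrimeCore p G)
      rwa [Subgroup.orderOf_mk] at this
    have h3 : orderOf x = 1 :=
      Nat.eq_one_of_dvd_coprimes (Nat.Coprime.pow_right k hNc) h2 h1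
    exact orderOf_eq_one_iff.1 h3
  obtain ⟨Sb, hSb⟩ : ∃ Sb : Sylow p (G ⧸ Cfsg.pPrimeCore p G),
      (Sb : Subgroup (G ⧸ Cfsg.pPrimeCore p G)) = (S : Subgroup G).map π :=
    ⟨S.mapSurjective hπs, Sylow.coe_mapSurjective hπs S⟩
  have hnorm := Cfsg.Agent.S0624.result hst hc Sb
  -- the isomorphism S ≃ Sb
  have hmem : ∀ x : ↥(S : Subgroup G), π (x : G) ∈ (Sb : Subgroup (G ⧸ Cfsg.pPrimeCore p G)) := by
    intro x
    rw [hSb]
    exact Subgroup.mem_map.2 ⟨x, x.2, rfl⟩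
  obtain ⟨φ, hφ⟩ : ∃ φ : ↥(S : Subgroup G) →* ↥(Sb : Subgroup (G ⧸ Cfsg.pPrimeCore p G)),
      ∀ x, ((φ x : ↥(Sb : Subgroup (G ⧸ Cfsg.pPrimeCore p G))) : G ⧸ Cfsg.pPrimeCore p G) = π x :=
    ⟨(π.comp (S : Subgroup G).subtype).codRestrict _ hmem, fun x => rfl⟩
  have hφbij : Function.Bijective φ := by
    constructor
    · refine (injective_iff_map_eq_one φ).2 ?_
      intro x hx
      have h1 : π (x : G) = 1 := by rw [← hφ, hx]; rfl
      have h2 : (x : G) ∈ Cfsg.pPrimeCore p G := by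
        rw [← hπk]; exact h1
      exact Subtype.ext (hdisj _ S.isPGroup' _ x.2 h2)
    · rintro ⟨y, hy⟩
      rw [hSb] at hy
      obtain ⟨x, hx, rfl⟩ := Subgroup.mem_map.1 hy
      exact ⟨⟨x, hx⟩, Subtype.ext (hφ _)⟩
  obtain ⟨η, hη⟩ : ∃ η : ↥(S : Subgroup G) ≃* ↥(Sb : Subgroup (G ⧸ Cfsg.pPrimeCore p G)),
      η.toMonoidHom = φ := ⟨MulEquiv.ofBijective φ hφbij, rfl⟩
  have hW := (Cfsg.Agent.S0622.result (p := p) S.isPGroup').2.2.2.2
    ↥(Sb : Subgroup (G ⧸ Cfsg.pPrimeCore p G)) η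
  obtain ⟨WG, hWG⟩ : ∃ WG : Subgroup G,
      WG = (Cfsg.stableNormalClosure p ↥(S : Subgroup G)).map (S : Subgroup G).subtype := ⟨_, rfl⟩
  have hWGS : WG ≤ S := by rw [hWG]; exact Subgroup.map_subtype_le _
  have hWGp : IsPGroup p WG := S.isPGroup'.to_le hWGS
  have hmap : WG.map π = (Cfsg.stableNormalClosure p
      ↥(Sb : Subgroup (G ⧸ Cfsg.pPrimeCore p G))).map
        (Sb : Subgroup (G ⧸ Cfsg.pPrimeCore p G)).subtype := by
    rw [← hW, hη, hWG, Subgroup.map_map, Subgroup.map_map]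
    congr 1
    ext x
    exact (hφ x).symm
  rw [← hmap] at hnorm
  -- the preimage
  obtain ⟨M, hM⟩ : ∃ M : Subgroup G, M = (WG.map π).comap π := ⟨_, rfl⟩
  haveI hMn : M.Normal := hM ▸ hnorm.comap π
  have hMeq : M = WG ⊔ Cfsg.pPrimeCore p G := by
    rw [hM, Subgroup.comap_map_eq, hπk]
  have hWM : WG ≤ M := by rw [hMeq]; exact le_sup_left
  -- WG is a Sylow p-subgroup of M
  obtain ⟨P, hP⟩ := (hWGp.comap_of_injective M.subtype M.subtype_injective :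
    IsPGroup p (WG.subgroupOf M)).exists_le_sylow
  have hPle : (P : Subgroup ↥M) ≤ WG.subgroupOf M := by
    intro x hx
    rw [Subgroup.mem_subgroupOf]
    have hMle : M ≤ (WG.map π).comap π := hM.le
    have hxM : π (x : G) ∈ WG.map π := hMle x.2
    obtain ⟨w, hw, hwx⟩ := Subgroup.mem_map.1 hxM
    have hwM : w ∈ M := hWM hw
    have hwP : (⟨w, hwM⟩ : ↥M) ∈ (P : Subgroup ↥M) := hP (Subgroup.mem_subgroupOf.2 hw)
    have h1 : (⟨w, hwM⟩ : ↥M)⁻¹ * x ∈ (P : Subgroup ↥M) := mul_mem (inv_mem hwP) hx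
    have h2 : w⁻¹ * (x : G) ∈ Cfsg.pPrimeCore p G := by
      rw [← hπk, MonoidHom.mem_ker, map_mul, map_inv, hwx, inv_mul_cancel]
    have h3 : w⁻¹ * (x : G) ∈ (P : Subgroup ↥M).map M.subtype :=
      Subgroup.mem_map.2 ⟨_, h1, rfl⟩
    have h4 := hdisj _ (P.isPGroup'.map M.subtype) _ h3 h2
    have h5 : (x : G) = w := by
      have := congrArg (fun z => w * z) h4
      simpa using this
    rw [h5]; exact hw
  have hPeq : (P : Subgroup ↥M) = WG.subgroupOf M := le_antisymm hPle hP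
  have hfr := Sylow.normalizer_sup_eq_top P
  rw [hPeq, Subgroup.subgroupOf_map_subtype, inf_of_le_left hWM] at hfr
  rw [← hWG, sup_comm]
  rw [hMeq, ← sup_assoc, sup_eq_left.2 (Subgroup.le_normalizer)] at hfr
  exact hfr

end Cfsg.Agent.S0627
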