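import Mathlib
import Cfsg.Statements.S0629
import Cfsg.Agent.Lib.Helper3.PConstr2
import Cfsg.Agent.Lib.Helper3.PSolv
import Cfsg.Agent.Lib.Helper3.FStar

set_option autoImplicit false
open Cfsg
open Cfsg.Agent.Lib.Helper3
open Cfsg.Agent.Lib.Helper1
open scoped commutatorElement

namespace Cfsg.Agent.S0629

/-- A group in which the centralizer of a Sylow p-subgroup of O_{p',p}(G) is p-solvable is p-constrained. -/
theorem result {G : Type*} [Group G] [Finite G] {p : ℕ} [Fact p.Prime] (P : Sylow p ↥(Cfsg.pPrimePCore p G)) (hsol : Cfsg.IsPSolvable p ↥(Subgroup.centralizer (((P : Subgroup ↥(Cfsg.pPrimePCore p G)).map (Cfsg.pPrimePCore p G).subtype : Subgroup G) : Set G))) : Cfsg.IsPConstrained p G := by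
  rw [isPConstrained_iff]
  set N := Cfsg.pPrimeCore p G with hN
  have hNn : N.Normal := pPrimeCore_normal' p
  have hNc : (Nat.card ↥N).Coprime p := pPrimeCore_coprime p
  set Q := G ⧸ N with hQ
  set D := Cfsg.pCore p Q with hDdef
  have hDn : D.Normal := pCore_normal' p
  set P' := (P : Subgroup ↥(Cfsg.pPrimePCore p G)).map (Cfsg.pPrimePCore p G).subtype with hP'
  have hP'p : IsPGroup p ↥P' := P.isPGroup'.map _
  have hP'map : P'.map (ppi p G) = D := sylow_pPrimePCore_map_eq p P
  set C := Subgroup.centralizer (P' : Set G) with hC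
  by_contra hnot
  have hQ0 : Cfsg.pPrimeCore p Q = ⊥ := pPrimeCore_quotient_eq_bot p
  have hfit : Cfsg.fittingSubgroup Q ≤ D := by
    rw [fitting_eq_pCoreSup]
    unfold pCoreSup
    apply iSup_le
    intro q
    by_cases hq : (q : ℕ) = p
    · rw [hq]
    · have : Fact (q : ℕ).Prime := ⟨q.2⟩
      have h1 : Cfsg.pCore (q : ℕ) Q ≤ Cfsg.pPrimeCore p Q := by
        apply le_pPrimeCore _ (pCore_normal' _)
        obtain ⟨k, hk⟩ := IsPGroup.iff_card.1 (pCore_isPGroup (p := (q : ℕ)) (G := Q))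
        rw [hk]
        apply Nat.Coprime.pow_left
        exact (Nat.coprime_primes q.2 Fact.out).2 hq
      rw [hQ0] at h1
      exact h1.trans bot_le
  obtain ⟨L, hL, hLC⟩ := exists_component_le_centralizer D hfit hnot
  -- the section
  set Y : Subgroup ↥C := (L.comap (ppi p G)).subgroupOf C with hY
  let f : ↥Y →* ↥L :=
    (((ppi p G).comp C.subtype).comp Y.subtype).codRestrict L (fun y => y.2)
  have hf : Function.Surjective f := by
    rintro ⟨lbar, hl⟩
    obtain ⟨l, rfl⟩ := ppi_surjective p lbar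
    have hd : ∀ x ∈ P', ⁅l, x⁆ ∈ N := by
      intro x hx
      rw [← ppi_eq_one_iff, map_commutatorElement, commutatorElement_eq_one_iff_mul_comm]
      have hxD : ppi p G x ∈ D := by rw [← hP'map]; exact ⟨x, hx, rfl⟩
      exact (Subgroup.mem_centralizer_iff.mp (hLC hl) _ hxD).symm
    obtain ⟨n, hn, hnl⟩ := exists_mul_mem_centralizer hNn hNc hP'p l hd
    have hpi : ppi p G (n * l) = ppi p G l := by
      rw [map_mul, (ppi_eq_one_iff p n).mpr hn, one_mul]
    have hmem : (⟨n * l, hnl⟩ : ↥C) ∈ Y := by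
      show ppi p G (n * l) ∈ L
      rw [hpi]; exact hl
    refine ⟨⟨⟨n * l, hnl⟩, hmem⟩, ?_⟩
    apply Subtype.ext
    exact hpi
  have h1 : (Nat.card ↥L).Coprime p := coprime_card_of_psolvable_section hsol Y hL.2 f hf
  have h2 : p ∣ Nat.card ↥L := component_p_dvd_card p hQ0 hL
  have h3 : p ∣ Nat.gcd (Nat.card ↥L) p := Nat.dvd_gcd h2 dvd_rfl
  rw [h1] at h3
  exact (Fact.out : p.Prime).one_lt.ne' (Nat.dvd_one.mp h3)

end Cfsg.Agent.S0629
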