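import Mathlib
import Cfsg.Statements.S0630
import Cfsg.Agent.Lib.Helper3.PConstr2

set_option autoImplicit false
open Cfsg
open Cfsg.Agent.Lib.Helper3

namespace Cfsg.Agent.S0630

theorem result {G : Type*} [Group G] [Finite G] {p : ℕ} [Fact p.Prime] : Cfsg.IsPConstrained p G ↔ Cfsg.IsPConstrained p (G ⧸ Cfsg.pPrimeCore p G) := by
  rw [isPConstrained_iff, isPConstrained_iff]
  have h0 : Cfsg.pPrimeCore p (G ⧸ Cfsg.pPrimeCore p G) = ⊥ := pPrimeCore_quotient_eq_bot p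
  have e : (G ⧸ Cfsg.pPrimeCore p G) ⧸ Cfsg.pPrimeCore p (G ⧸ Cfsg.pPrimeCore p G) ≃*
      G ⧸ Cfsg.pPrimeCore p G :=
    (QuotientGroup.quotientMulEquivOfEq h0).trans QuotientGroup.quotientBot
  exact ⟨charp_of_equiv p e.symm, charp_of_equiv p e⟩

end Cfsg.Agent.S0630
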