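import Mathlib
import Cfsg.Statements.S0631
import Cfsg.Agent.Lib.Helper3.PConstr2

set_option autoImplicit false
open Cfsg
open Cfsg.Agent.Lib.Helper3

namespace Cfsg.Agent.S0631

theorem result {G : Type*} [Group G] [Finite G] {p : ℕ} [Fact p.Prime] (hG : Cfsg.IsPConstrained p G) (P : Subgroup G) (hP : IsPGroup p P) : Cfsg.IsPConstrained p ↥(Subgroup.normalizer (P : Set G)) ∧ Cfsg.IsPConstrained p ↥(Subgroup.centralizer (P : Set G)) := by
  constructor
  · exact (pconstrained_local hG hP (le_refl (Subgroup.normalizer (P : Set G)))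
      (Subgroup.centralizer_le_normalizer _) (Or.inl Subgroup.le_normalizer)).1
  · exact (pconstrained_local hG hP (Subgroup.centralizer_le_normalizer _)
      (le_refl (Subgroup.centralizer (P : Set G))) (Or.inr le_rfl)).1

end Cfsg.Agent.S0631
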