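import Cfsg.Statements.S0632
import Cfsg.Agent.Lib.Helper4.PStabQuot
import Cfsg.Agent.Lib.Helper3.PComp

set_option autoImplicit false
open Cfsg

namespace Cfsg.Agent.S0632

/-- For a group with a nontrivial normal p-subgroup, p-stability passes to and from the quotient by the largest normal subgroup of order prime to p. -/
theorem result {G : Type*} [Group G] [Finite G] {p : ℕ} [Fact p.Prime] (hO : Cfsg.pCore p G ≠ ⊥) : Cfsg.IsPStable p G ↔ Cfsg.IsPStable p (G ⧸ Cfsg.pPrimeCore p G) := by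
  classical
  haveI hNn : (Cfsg.pPrimeCore p G).Normal := inferInstance
  have hN : (Nat.card (Cfsg.pPrimeCore p G)).Coprime p :=
    Cfsg.Agent.Lib.Helper1.pPrimeCore_coprime p
  have hF1 : Cfsg.pPrimeCore p (G ⧸ Cfsg.pPrimeCore p G) = ⊥ :=
    Cfsg.Agent.Lib.Helper3.pPrimeCore_quotient_eq_bot p
  set N := Cfsg.pPrimeCore p G with hNdef
  constructor
  · rintro ⟨hodd, -, hst⟩
    refine ⟨hodd, ?_, ?_⟩
    · intro hbot
      apply hO
      rw [eq_bot_iff]
      intro x hx
      have h1 : (Cfsg.pCore p G).map (QuotientGroup.mk' N) ≤ Cfsg.pCore p (G ⧸ N) := by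
        apply le_sSup
        exact ⟨(Cfsg.Agent.Lib.Helper4.pCore_normal p).map _ (QuotientGroup.mk'_surjective _),
          Cfsg.Agent.Lib.Helper4.pCore_isPGroup.map _⟩
      have h2 : QuotientGroup.mk' N x ∈ Cfsg.pCore p (G ⧸ N) :=
        h1 (Subgroup.mem_map.2 ⟨x, hx, rfl⟩)
      rw [hbot, Subgroup.mem_bot, QuotientGroup.mk'_apply, QuotientGroup.eq_one_iff] at h2
      rw [Subgroup.mem_bot]
      exact Cfsg.Agent.Lib.Helper4.psq_inf_eq_one (Cfsg.pCore p G) N
        Cfsg.Agent.Lib.Helper4.pCore_isPGroup hN x hx h2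
    · intro Ab Pb hAb hPb hnorm hle hsupn hquad
      have hPbn : Pb.Normal := by
        rw [hF1, bot_sup_eq] at hsupn
        exact hsupn
      obtain ⟨P, hP, hPmap, hsup⟩ := Cfsg.Agent.Lib.Helper4.psq_lift_P N Pb hPb
      subst hPmap
      have hPle : P ≤ Cfsg.pPrimePCore p G := by
        unfold Cfsg.pPrimePCore
        rw [← Subgroup.map_le_iff_le_comap]
        exact le_sSup ⟨hPbn, hPb⟩
      intro y hy
      obtain ⟨ab, hab, rfl⟩ := Subgroup.mem_map.1 hy
      have habA : (ab : G ⧸ N) ∈ Ab := Subgroup.mem_subgroupOf.1 hab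
      obtain ⟨g, hg⟩ := QuotientGroup.mk'_surjective N (ab : G ⧸ N)
      obtain ⟨h, hh, n, hn, rfl⟩ := Cfsg.Agent.Lib.Helper4.psq_frattini N P hN hP hsup g
      have hgh : QuotientGroup.mk' N h = (ab : G ⧸ N) := by
        rw [← hg, map_mul, QuotientGroup.mk'_apply N n, (QuotientGroup.eq_one_iff n).2 hn,
          mul_one]
      obtain ⟨k, hk⟩ := hAb ⟨(ab : G ⧸ N), habA⟩
      have hk' : (QuotientGroup.mk' N h) ^ (p ^ k) = 1 := by
        rw [hgh]
        have := congrArg Subtype.val hk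
        rw [Subgroup.coe_pow, Subgroup.coe_one] at this
        exact this
      obtain ⟨a, ha, haπ, hapow⟩ := Cfsg.Agent.Lib.Helper4.psq_lift_elt N P hN h hh k hk'
      have hzA : IsPGroup p (Subgroup.zpowers a) := by
        rintro ⟨y, hy⟩
        obtain ⟨z, rfl⟩ := Subgroup.mem_zpowers_iff.1 hy
        refine ⟨k, Subtype.ext ?_⟩
        rw [Subgroup.coe_pow, Subgroup.coe_one]
        show (a ^ z) ^ (p ^ k) = 1
        rw [← zpow_natCast, ← zpow_mul, mul_comm, zpow_mul, zpow_natCast, hapow, one_zpow]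
      have hzn : Subgroup.zpowers a ≤ Subgroup.normalizer (P : Set G) := by
        rw [Subgroup.zpowers_le]; exact ha
      have hznorm : ∀ b ∈ Subgroup.zpowers a, ∀ x ∈ P, b * x * b⁻¹ ∈ P := by
        intro b hb x hx
        exact (Subgroup.mem_normalizer_iff.1 (hzn hb) x).1 hx
      have hzq : ⁅⁅P, Subgroup.zpowers a⁆, Subgroup.zpowers a⁆ = ⊥ := by
        rw [eq_bot_iff]
        intro w hw
        have h1 : ⁅P, Subgroup.zpowers a⁆ ≤ P := by
          rw [Subgroup.commutator_le]
          intro x hx b hb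
          rw [commutatorElement_def]
          have : x * b * x⁻¹ * b⁻¹ = x * (b * x⁻¹ * b⁻¹) := by group
          rw [this]
          exact Subgroup.mul_mem _ hx (hznorm b hb _ (Subgroup.inv_mem _ hx))
        have h2 : ⁅⁅P, Subgroup.zpowers a⁆, Subgroup.zpowers a⁆ ≤ ⁅P, Subgroup.zpowers a⁆ :=
          Subgroup.commutator_mono h1 le_rfl
        have hwP : w ∈ P := h1 (h2 hw)
        have hwN : w ∈ N := by
          have h3 : (⁅⁅P, Subgroup.zpowers a⁆, Subgroup.zpowers a⁆).map (QuotientGroup.mk' N)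
              = ⊥ := by
            rw [Subgroup.map_commutator, Subgroup.map_commutator, MonoidHom.map_zpowers,
              eq_bot_iff, ← hquad]
            have h4 : Subgroup.zpowers (QuotientGroup.mk' N a) ≤ Ab := by
              rw [Subgroup.zpowers_le, haπ, hgh]; exact habA
            exact Subgroup.commutator_mono (Subgroup.commutator_mono le_rfl h4) h4
          have h5 := (Subgroup.map_eq_bot_iff _).1 h3
          rw [QuotientGroup.ker_mk'] at h5
          exact h5 hw
        rw [Subgroup.mem_bot]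
        exact Cfsg.Agent.Lib.Helper4.psq_inf_eq_one P N hP hN w hwP hwN
      have hres := hst (Subgroup.zpowers a) P hzA hP hznorm hPle hsup hzq
      have hmem := hres (Subgroup.mem_map.2 ⟨⟨a, ha⟩,
        Subgroup.mem_subgroupOf.2 (Subgroup.mem_zpowers a), rfl⟩)
      have ha' : QuotientGroup.mk' N a ∈ Subgroup.normalizer
          ((P.map (QuotientGroup.mk' N) : Subgroup (G ⧸ N)) : Set (G ⧸ N)) := by
        rw [haπ, hgh]; exact ab.2
      have htl := (Cfsg.Agent.Lib.Helper4.psq_TL N P hN hP hsup a ha ha').1 hmem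
      have heq : ab = ⟨QuotientGroup.mk' N a, ha'⟩ := by
        apply Subtype.ext
        show (ab : G ⧸ N) = QuotientGroup.mk' N a
        rw [haπ, hgh]
      rw [heq]
      exact htl
  · rintro ⟨hodd, -, hst⟩
    refine ⟨hodd, hO, ?_⟩
    intro A P hA hP hnorm hle hsupn hquad
    have hPbn : (P.map (QuotientGroup.mk' N)).Normal := by
      have : (N ⊔ P).map (QuotientGroup.mk' N) = P.map (QuotientGroup.mk' N) := by
        rw [Subgroup.map_sup, QuotientGroup.map_mk'_self, bot_sup_eq]
      rw [← this]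
      exact hsupn.map _ (QuotientGroup.mk'_surjective _)
    have hres := hst (A.map (QuotientGroup.mk' N)) (P.map (QuotientGroup.mk' N)) (hA.map _)
      (hP.map _) ?_ (Cfsg.Agent.Lib.Helper4.psq_normal_le_pPrimePCore p _ (hP.map _)) ?_ ?_
    · intro y hy
      obtain ⟨a', ha', rfl⟩ := Subgroup.mem_map.1 hy
      have haA : (a' : G) ∈ A := Subgroup.mem_subgroupOf.1 ha'
      have han : QuotientGroup.mk' N (a' : G) ∈ Subgroup.normalizer
          ((P.map (QuotientGroup.mk' N) : Subgroup (G ⧸ N)) : Set (G ⧸ N)) :=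
        Subgroup.le_normalizer_map (QuotientGroup.mk' N) (Subgroup.mem_map.2 ⟨a', a'.2, rfl⟩)
      have hmem := hres (Subgroup.mem_map.2 ⟨⟨QuotientGroup.mk' N (a' : G), han⟩,
        Subgroup.mem_subgroupOf.2 (Subgroup.mem_map.2 ⟨a', haA, rfl⟩), rfl⟩)
      exact (Cfsg.Agent.Lib.Helper4.psq_TL N P hN hP hsupn (a' : G) a'.2 han).2 hmem
    · intro ab hab xb hxb
      obtain ⟨a, ha, rfl⟩ := Subgroup.mem_map.1 hab
      obtain ⟨x, hx, rfl⟩ := Subgroup.mem_map.1 hxb
      rw [← map_inv, ← map_mul, ← map_mul]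
      exact Subgroup.mem_map.2 ⟨_, hnorm a ha x hx, rfl⟩
    · haveI : (Cfsg.pPrimeCore p (G ⧸ N)).Normal := inferInstance
      haveI := hPbn
      exact inferInstance
    · rw [← Subgroup.map_commutator, ← Subgroup.map_commutator, hquad, Subgroup.map_bot]

end Cfsg.Agent.S0632
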