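import Mathlib
import Cfsg.Statements.S0635
import Cfsg.Agent.Lib.Helper3.PSolv2
import Cfsg.Agent.S0634

set_option autoImplicit false
open Cfsg
open Cfsg.Agent.Lib.Helper3
open Cfsg.Agent.Lib.Helper1
open scoped commutatorElement

namespace Cfsg.Agent.S0635

variable {G : Type*} [Group G]

lemma upper_le_succ (p n : ℕ) :
    (Cfsg.upperPSeries p G n).1 ≤ (Cfsg.upperPSeries p G (n + 1)).1 := by
  intro x hx
  have h1 : (QuotientGroup.mk' (Cfsg.upperPSeries p G n).1) x = 1 :=
    (QuotientGroup.eq_one_iff x).mpr hx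
  rw [Cfsg.upperPSeries]
  split_ifs
  · show (QuotientGroup.mk' (Cfsg.upperPSeries p G n).1) x ∈
      Cfsg.pPrimeCore p (G ⧸ (Cfsg.upperPSeries p G n).1)
    rw [h1]; exact Subgroup.one_mem _
  · show (QuotientGroup.mk' (Cfsg.upperPSeries p G n).1) x ∈
      Cfsg.pCore p (G ⧸ (Cfsg.upperPSeries p G n).1)
    rw [h1]; exact Subgroup.one_mem _

lemma upper_mono (p : ℕ) {m n : ℕ} (h : m ≤ n) :
    (Cfsg.upperPSeries p G m).1 ≤ (Cfsg.upperPSeries p G n).1 := by
  induction n, h using Nat.le_induction with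
  | base => exact le_rfl
  | succ n _ ih => exact ih.trans (upper_le_succ p n)

/-- the key step -/
lemma center_le [Finite G] {p : ℕ} [Fact p.Prime] (hsol : Cfsg.IsPSolvable p G) (S : Sylow p G)
    (j : ℕ) (x : G) (_hxS : x ∈ (S : Subgroup G))
    (hx : ∀ s ∈ (S : Subgroup G), ⁅x, s⁆ ∈ (Cfsg.upperPSeries p G (2 * j)).1) :
    x ∈ (Cfsg.upperPSeries p G (2 * j + 2)).1 := by
  set N := (Cfsg.upperPSeries p G (2 * j + 1)).1 with hN
  have hle : (Cfsg.upperPSeries p G (2 * j)).1 ≤ N := upper_le_succ p (2 * j)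
  have hle2 : N ≤ (Cfsg.upperPSeries p G (2 * j + 2)).1 := upper_le_succ p (2 * j + 1)
  have hD : (Cfsg.upperPSeries p G (2 * j + 2)).1.map (QuotientGroup.mk' N) =
      Cfsg.pCore p (G ⧸ N) := by
    rw [Cfsg.Agent.S0634.upper_even]
    exact Subgroup.map_comap_eq_self_of_surjective (QuotientGroup.mk'_surjective _) _
  have hcen := Cfsg.Agent.S0634.result hsol j
  have hmem : (QuotientGroup.mk' N) x ∈
      (Cfsg.upperPSeries p G (2 * j + 2)).1.map (QuotientGroup.mk' N) := by
    apply hcen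
    rw [Subgroup.mem_centralizer_iff]
    intro d hd
    have hd' : d ∈ Cfsg.pCore p (G ⧸ N) := by rw [← hD]; exact hd
    have hDn : (Cfsg.pCore p (G ⧸ N)).Normal := pCore_normal' p
    have hDp : IsPGroup p ↥(Cfsg.pCore p (G ⧸ N)) := pCore_isPGroup
    have hdS : d ∈ ((S.mapSurjective (QuotientGroup.mk'_surjective N) : Sylow p (G ⧸ N)) :
        Subgroup (G ⧸ N)) := hDp.le_sylow_of_normal _ hd'
    rw [Sylow.coe_mapSurjective] at hdS
    obtain ⟨s, hs, rfl⟩ := hdS
    have h1 := hle (hx s hs)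
    have h2 : (QuotientGroup.mk' N) ⁅x, s⁆ = 1 := (QuotientGroup.eq_one_iff _).mpr h1
    rw [map_commutatorElement, commutatorElement_eq_one_iff_mul_comm] at h2
    exact h2.symm
  obtain ⟨y, hy, hyx⟩ := hmem
  have h3 : y⁻¹ * x ∈ N := by
    rw [← QuotientGroup.eq_one_iff, ← QuotientGroup.mk'_apply, map_mul, map_inv, hyx]
    simp
  have h4 : x = y * (y⁻¹ * x) := by group
  rw [h4]
  exact Subgroup.mul_mem _ hy (hle2 h3)

lemma step [Finite G] {p : ℕ} [Fact p.Prime] (hsol : Cfsg.IsPSolvable p G) (S : Sylow p G)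
    (j c : ℕ) (hc : Group.nilpotencyClass
      ↥((S : Subgroup G).map (QuotientGroup.mk' (Cfsg.upperPSeries p G (2 * j)).1)) ≤ c + 1) :
    Group.nilpotencyClass
      ↥((S : Subgroup G).map (QuotientGroup.mk' (Cfsg.upperPSeries p G (2 * j + 2)).1)) ≤ c := by
  set U0 := (Cfsg.upperPSeries p G (2 * j)).1 with hU0
  set U2 := (Cfsg.upperPSeries p G (2 * j + 2)).1 with hU2
  have hle : U0 ≤ U2 := upper_mono p (by omega)
  set S0 := (S : Subgroup G).map (QuotientGroup.mk' U0) with hS0
  set S2 := (S : Subgroup G).map (QuotientGroup.mk' U2) with hS2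
  have hp : IsPGroup p ↥S0 := S.isPGroup'.map _
  have hnil : Group.IsNilpotent ↥S0 := hp.isNilpotent
  let φ : G ⧸ U0 →* G ⧸ U2 := QuotientGroup.map U0 U2 (MonoidHom.id G) hle
  have hφ : ∀ x : G, φ (QuotientGroup.mk' U0 x) = QuotientGroup.mk' U2 x := fun x => rfl
  let f : ↥S0 →* ↥S2 := (φ.comp S0.subtype).codRestrict S2 (by
    rintro ⟨y, s, hs, rfl⟩
    exact ⟨s, hs, rfl⟩)
  have hf : Function.Surjective f := by
    rintro ⟨z, s, hs, rfl⟩
    exact ⟨⟨QuotientGroup.mk' U0 s, s, hs, rfl⟩, rfl⟩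
  have hker : Subgroup.center ↥S0 ≤ f.ker := by
    rintro ⟨z, x, hxS, rfl⟩ hz
    rw [MonoidHom.mem_ker]
    apply Subtype.ext
    show φ (QuotientGroup.mk' U0 x) = 1
    rw [hφ]
    apply (QuotientGroup.eq_one_iff x).mpr
    apply center_le hsol S j x hxS
    intro s hs
    rw [Subgroup.mem_center_iff] at hz
    have h1 := hz ⟨QuotientGroup.mk' U0 s, s, hs, rfl⟩
    have h2 : QuotientGroup.mk' U0 s * QuotientGroup.mk' U0 x =
        QuotientGroup.mk' U0 x * QuotientGroup.mk' U0 s := congrArg Subtype.val h1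
    apply (QuotientGroup.eq_one_iff _).mp
    rw [← QuotientGroup.mk'_apply, map_commutatorElement,
      commutatorElement_eq_one_iff_mul_comm]
    exact h2.symm
  let g : ↥S0 ⧸ Subgroup.center ↥S0 →* ↥S2 := QuotientGroup.lift (Subgroup.center ↥S0) f hker
  have hg : Function.Surjective g := by
    intro z
    obtain ⟨y, rfl⟩ := hf z
    exact ⟨QuotientGroup.mk' _ y, rfl⟩
  have h1 := Group.nilpotencyClass_le_of_surjective g hg
  rw [Group.nilpotencyClass_quotient_center] at h1
  exact h1.trans (Nat.sub_le_iff_le_add.mpr hc)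

theorem main [Finite G] {p : ℕ} [Fact p.Prime] (hsol : Cfsg.IsPSolvable p G) (S : Sylow p G) :
    ∀ c j : ℕ, Group.nilpotencyClass
      ↥((S : Subgroup G).map (QuotientGroup.mk' (Cfsg.upperPSeries p G (2 * j)).1)) ≤ c →
      (Cfsg.upperPSeries p G (2 * j + 2 * c + 1)).1 = ⊤ := by
  intro c
  induction c with
  | zero =>
    intro j hc
    set U := (Cfsg.upperPSeries p G (2 * j)).1 with hU
    have hp : IsPGroup p ↥((S : Subgroup G).map (QuotientGroup.mk' U)) := S.isPGroup'.map _
    have hnil : Group.IsNilpotent ↥((S : Subgroup G).map (QuotientGroup.mk' U)) := hp.isNilpotent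
    have h0 : Group.nilpotencyClass ↥((S : Subgroup G).map (QuotientGroup.mk' U)) = 0 :=
      Nat.le_zero.mp hc
    rw [Group.nilpotencyClass_zero_iff_subsingleton] at h0
    have hbot : (S : Subgroup G).map (QuotientGroup.mk' U) = ⊥ := by
        rw [eq_bot_iff]
        intro y hy
        have := Subsingleton.elim (⟨y, hy⟩ : ↥((S : Subgroup G).map (QuotientGroup.mk' U))) 1
        rw [Subgroup.mem_bot]
        exact congrArg Subtype.val this
    have hSU : (S : Subgroup G) ≤ U := by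
      intro s hs
      have h1 : (QuotientGroup.mk' U) s ∈ (S : Subgroup G).map (QuotientGroup.mk' U) :=
        ⟨s, hs, rfl⟩
      rw [hbot, Subgroup.mem_bot] at h1
      exact (QuotientGroup.eq_one_iff s).mp h1
    have hcard : (Nat.card (G ⧸ U)).Coprime p := by
      have h1 : Nat.card (G ⧸ U) = U.index := rfl
      rw [h1]
      have h2 : U.index ∣ (S : Subgroup G).index := Subgroup.index_dvd_of_le hSU
      have h3 : ¬ p ∣ U.index := fun h => S.not_dvd_index (h.trans h2)
      exact (Nat.coprime_comm.mp ((Nat.Prime.coprime_iff_not_dvd Fact.out).mpr h3))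
    have htop : Cfsg.pPrimeCore p (G ⧸ U) = ⊤ := by
      rw [eq_top_iff]
      apply le_pPrimeCore _ inferInstance
      rw [Subgroup.card_top]; exact hcard
    have h5 : 2 * j + 2 * 0 + 1 = 2 * j + 1 := by ring
    rw [h5, Cfsg.Agent.S0634.upper_odd, htop, Subgroup.comap_top]
  | succ c ih =>
    intro j hc
    have h1 := step hsol S j c hc
    have h2 := ih (j + 1) h1
    have h3 : 2 * (j + 1) + 2 * c + 1 = 2 * j + 2 * (c + 1) + 1 := by ring
    rw [← h3]; exact h2

/-- The p-length of a p-soluble group is at most the nilpotency class of its Sylow p-subgroups. -/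
theorem result {G : Type*} [Group G] [Finite G] {p : ℕ} [Fact p.Prime] (hsol : Cfsg.IsPSolvable p G) (S : Sylow p G) : Cfsg.PLengthLE p (Group.nilpotencyClass ↥(S : Subgroup G)) G := by
  unfold Cfsg.PLengthLE
  have h1 : Group.nilpotencyClass
      ↥((S : Subgroup G).map (QuotientGroup.mk' (Cfsg.upperPSeries p G (2 * 0)).1)) ≤
      Group.nilpotencyClass ↥(S : Subgroup G) := by
    have hnil : Group.IsNilpotent ↥(S : Subgroup G) := S.isPGroup'.isNilpotent
    exact Group.nilpotencyClass_le_of_surjective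
      ((QuotientGroup.mk' (Cfsg.upperPSeries p G (2 * 0)).1).subgroupMap (S : Subgroup G))
      (MonoidHom.subgroupMap_surjective _ _)
  have h2 := main hsol S _ 0 h1
  have h3 : 2 * 0 + 2 * Group.nilpotencyClass ↥(S : Subgroup G) + 1 =
      2 * Group.nilpotencyClass ↥(S : Subgroup G) + 1 := by ring
  rw [← h3]; exact h2

end Cfsg.Agent.S0635
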