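import Mathlib
import Cfsg.Statements.S0636
import Cfsg.Agent.Lib.Helper6.NormalEA
import Cfsg.Agent.Lib.Helper4.PGroupNormal
import Cfsg.Agent.Lib.Helper2.Index
import Cfsg.Agent.Lib.Helper1.Class2

set_option autoImplicit false
open Cfsg
open scoped commutatorElement

namespace Cfsg.Agent.S0636

/-- In a group of order `p³`, `p` odd, products of elements of order dividing `p` have order dividing `p`. -/
theorem pow_mul_of_card_cube {H : Type*} [Group H] [Finite H] {p : ℕ} [Fact p.Prime] (hp2 : p ≠ 2)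
    (hH : Nat.card H = p ^ 3) (a b : H) (ha : a ^ p = 1) (hb : b ^ p = 1) : (a * b) ^ p = 1 := by
  have hp : p.Prime := Fact.out
  have hP : IsPGroup p H := IsPGroup.of_card hH
  haveI : Nontrivial H := by
    rw [← Finite.one_lt_card_iff_nontrivial, hH]
    exact Nat.one_lt_pow (by norm_num) hp.one_lt
  haveI := hP.center_nontrivial
  have hdvd : p ∣ Nat.card (Subgroup.center H) := by
    obtain ⟨k, hk⟩ := IsPGroup.iff_card.1 (hP.to_subgroup (Subgroup.center H))
    have hk0 : k ≠ 0 := by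
      intro h0
      rw [h0, pow_zero] at hk
      have := Finite.one_lt_card (α := Subgroup.center H)
      omega
    rw [hk]; exact dvd_pow_self p hk0
  obtain ⟨z0, hz0⟩ := exists_prime_orderOf_dvd_card' p hdvd
  obtain ⟨z, hz⟩ : ∃ z : H, z = (z0 : H) := ⟨_, rfl⟩
  have hzc : z ∈ Subgroup.center H := by rw [hz]; exact z0.2
  have hzo : orderOf z = p := by rw [hz, Subgroup.orderOf_coe, hz0]
  haveI hZn : (Subgroup.zpowers z).Normal := Cfsg.Agent.Lib.Helper6.normal_zpowers_of_mem_center z hzc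
  have hZcard : Nat.card (Subgroup.zpowers z) = p := by rw [Nat.card_zpowers, hzo]
  have hQcard : Nat.card (H ⧸ Subgroup.zpowers z) = p ^ 2 := by
    have h4 : Nat.card H = Nat.card (H ⧸ Subgroup.zpowers z) * Nat.card (Subgroup.zpowers z) :=
      Subgroup.card_eq_card_quotient_mul_card_subgroup _
    rw [hZcard, hH] at h4
    have : p ^ 2 * p = Nat.card (H ⧸ Subgroup.zpowers z) * p := by rw [← h4]; ring
    exact (Nat.eq_of_mul_eq_mul_right hp.pos this).symm
  have hQcomm := IsPGroup.isMulCommutative_of_card_eq_prime_sq hQcard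
  have hcZ : ⁅b, a⁆ ∈ Subgroup.zpowers z := by
    rw [← QuotientGroup.eq_one_iff]
    rw [commutatorElement_def]
    simp only [QuotientGroup.mk_mul, QuotientGroup.mk_inv]
    have := hQcomm.is_comm.comm (b : H ⧸ Subgroup.zpowers z) (a : H ⧸ Subgroup.zpowers z)
    rw [this]; group
  have hcc : ⁅b, a⁆ ∈ Subgroup.center H := (Subgroup.zpowers_le.2 hzc) hcZ
  have hcp : ⁅b, a⁆ ^ p = 1 := by
    obtain ⟨k, hk⟩ := Subgroup.mem_zpowers_iff.1 hcZ
    rw [← hk, ← zpow_natCast, ← zpow_mul, mul_comm, zpow_mul, zpow_natCast, ← hzo, pow_orderOf_eq_one, one_zpow]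
  have h1 := Cfsg.Agent.Lib.Helper1.mul_pow_of_commute_commutator a b
    ((Subgroup.mem_center_iff.1 hcc a).symm) ((Subgroup.mem_center_iff.1 hcc b).symm) p
  rw [h1, ha, hb]
  obtain ⟨m, hm⟩ := hp.dvd_choose_self (k := 2) (by norm_num) (lt_of_le_of_ne hp.two_le (Ne.symm hp2))
  rw [hm, pow_mul, hcp]; simp

/-- For odd p, every non-cyclic normal subgroup of a p-group contains a normal elementary abelian subgroup of the whole group of order p². -/
theorem result {R : Type*} [Group R] [Finite R] {p : ℕ} [Fact p.Prime] (hp : p ≠ 2) (hR : IsPGroup p R) (S : Subgroup R) [S.Normal] (hS : ¬ IsCyclic S) : ∃ A : Subgroup R, A ≤ S ∧ A.Normal ∧ Cfsg.IsElementaryAbelian p A ∧ Nat.card A = p ^ 2 := by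
  classical
  have hpp : p.Prime := Fact.out
  obtain ⟨N, hNS', hNmin⟩ := Finite.exists_le_minimal (p := fun N : Subgroup R => N ≤ S ∧ N.Normal ∧ ¬ IsCyclic N) (a := S) ⟨le_rfl, inferInstance, hS⟩
  obtain ⟨⟨hNS, hNn, hNnc⟩, hNmin'⟩ := (minimal_iff.1 hNmin)
  haveI := hNn
  obtain ⟨n, hn⟩ := IsPGroup.iff_card.1 (hR.to_subgroup N)
  have hn2 : 2 ≤ n := by
    by_contra hlt
    push Not at hlt
    apply hNnc
    interval_cases n
    · rw [pow_zero] at hn
      haveI : Subsingleton N := (Nat.card_eq_one_iff_unique.1 hn).1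
      exact isCyclic_of_subsingleton
    · rw [pow_one] at hn
      exact isCyclic_of_prime_card hn
  obtain ⟨M, hMN, hMn, hMcard⟩ := Cfsg.Agent.Lib.Helper4.exists_normal_le_card_pow hR N (n - 1) (by rw [hn]; exact Nat.pow_le_pow_right hpp.pos (Nat.sub_le n 1))
  haveI := hMn
  have hMcyc : IsCyclic M := by
    by_contra hnc
    have hNM := hNmin' ⟨hMN.trans hNS, hMn, hnc⟩ hMN
    rw [← hNM, hn] at hMcard
    have : n = n - 1 := Nat.pow_right_injective hpp.two_le hMcard
    omega
  obtain ⟨A', hA'n, hA'e, hA'c⟩ := Cfsg.Agent.Lib.Helper6.exists_normal_ea_sq hp (Nat.card N) N rfl (hR.to_subgroup N) hNnc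
  set A : Subgroup R := A'.map N.subtype with hA
  have hAN : A ≤ N := Subgroup.map_subtype_le A'
  have hAcard : Nat.card A = p ^ 2 := by
    rw [hA, Subgroup.card_map_of_injective N.subtype_injective]; exact hA'c
  have hAexp : ∀ a ∈ A, a ^ p = 1 := by
    rintro _ ⟨a, ha, rfl⟩
    have := hA'e.2 a ha
    simpa using congrArg N.subtype this
  have hAcomm : ∀ a ∈ A, ∀ b ∈ A, a * b = b * a := by
    rintro _ ⟨a, ha, rfl⟩ _ ⟨b, hb, rfl⟩
    have := hA'e.1.is_comm.comm (⟨a, ha⟩ : A') ⟨b, hb⟩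
    have := congrArg (fun t : A' => ((t : N) : R)) this
    simpa using this
  have hAnormN : N ≤ Subgroup.normalizer (A : Set R) := by
    intro g hg
    rw [Subgroup.mem_normalizer_iff]
    intro h
    constructor
    · rintro ⟨a, ha, rfl⟩
      exact ⟨⟨g, hg⟩ * a * ⟨g, hg⟩⁻¹, hA'n.conj_mem a ha ⟨g, hg⟩, by simp⟩
    · rintro ⟨a, ha, hah⟩
      refine ⟨⟨g, hg⟩⁻¹ * a * ⟨g, hg⟩, ?_, ?_⟩
      · have := hA'n.conj_mem a ha (⟨g, hg⟩⁻¹); simpa using this
      · simp only [Subgroup.subtype_apply, Subgroup.coe_mul, Subgroup.coe_inv] at hah ⊢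
        rw [hah]; group
  have hclaim : ∀ x ∈ N, x ^ p = 1 → x ∈ A := by
    intro x hxN hxp
    by_contra hxA
    have hx1 : x ≠ 1 := fun h => hxA (h ▸ A.one_mem)
    have hxo : orderOf x = p := orderOf_eq_prime hxp hx1
    set X := Subgroup.zpowers x with hX
    have hXcard : Nat.card X = p := by rw [Nat.card_zpowers, hxo]
    have hXN : X ≤ N := Subgroup.zpowers_le.2 hxN
    have hXA : X ⊓ A = ⊥ := by
      have hdvd : Nat.card (X ⊓ A : Subgroup R) ∣ p := hXcard ▸ Subgroup.card_dvd_of_le inf_le_left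
      rcases (Nat.dvd_prime hpp).1 hdvd with h1 | h1
      · exact Subgroup.card_eq_one.1 h1
      · exfalso
        have : X ⊓ A = X := Subgroup.eq_of_le_of_card_ge inf_le_left (by rw [h1, hXcard])
        exact hxA ((inf_eq_left.1 this) (Subgroup.mem_zpowers x))
    set H := X ⊔ A with hH
    have hHcard : Nat.card H = p ^ 3 := by
      have := Cfsg.Agent.Lib.Helper2.card_sup_mul_card_inf X A (hXN.trans hAnormN)
      rw [hXA, Subgroup.card_bot, mul_one, hXcard, hAcard] at this
      rw [this]; ring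
    have hHN : H ≤ N := sup_le hXN hAN
    have hHexp : ∀ h ∈ H, h ^ p = 1 := by
      let Ω : Subgroup H :=
        { carrier := {h | h ^ p = 1}
          one_mem' := one_pow p
          mul_mem' := fun {a b} ha hb => pow_mul_of_card_cube hp hHcard a b ha hb
          inv_mem' := fun {a} ha => by
            simp only [Set.mem_ofPred_eq] at ha ⊢; rw [inv_pow, ha, inv_one] }
      have hΩ : H ≤ Ω.map H.subtype := by
        apply sup_le
        · rw [Subgroup.zpowers_le]
          refine ⟨⟨x, le_sup_left (b := A) (Subgroup.mem_zpowers x)⟩, ?_, rfl⟩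
          show (⟨x, _⟩ : H) ^ p = 1
          exact Subtype.ext (by simpa using hxp)
        · intro a ha
          refine ⟨⟨a, le_sup_right (a := X) ha⟩, ?_, rfl⟩
          show (⟨a, _⟩ : H) ^ p = 1
          exact Subtype.ext (by simpa using hAexp a ha)
      intro h hh
      obtain ⟨h', hh', rfl⟩ := hΩ hh
      have : h' ^ p = 1 := hh'
      simpa using congrArg H.subtype this
    have hHM : p ^ 2 ≤ Nat.card (H ⊓ M : Subgroup R) := by
      have h1 := Cfsg.Agent.Lib.Helper2.card_sup_mul_card_inf H M (by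
        intro g _
        rw [Subgroup.normalizer_eq_top]; exact Subgroup.mem_top g)
      have h2 : Nat.card (H ⊔ M : Subgroup R) ≤ p ^ n := hn ▸ Subgroup.card_le_of_le (sup_le hHN hMN)
      rw [hHcard, hMcard] at h1
      have h3 : p ^ 3 * p ^ (n - 1) = p ^ n * p ^ 2 := by
        rw [← pow_add, ← pow_add]; congr 1; omega
      rw [h3] at h1
      by_contra hlt
      push Not at hlt
      have : Nat.card (H ⊔ M : Subgroup R) * Nat.card (H ⊓ M : Subgroup R) < p ^ n * p ^ 2 := by
        calc _ ≤ p ^ n * Nat.card (H ⊓ M : Subgroup R) := Nat.mul_le_mul_right _ h2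
          _ < p ^ n * p ^ 2 := Nat.mul_lt_mul_of_pos_left hlt (pow_pos hpp.pos n)
      omega
    haveI : IsCyclic (H ⊓ M : Subgroup R) := by
      have hle : (H ⊓ M : Subgroup R) ≤ M := inf_le_right
      haveI := hMcyc
      haveI : IsCyclic ((H ⊓ M).subgroupOf M) := Subgroup.isCyclic _
      exact isCyclic_of_surjective (Subgroup.subgroupOfEquivOfLe hle).toMonoidHom (Subgroup.subgroupOfEquivOfLe hle).surjective
    obtain ⟨g, hg⟩ := IsCyclic.exists_generator (α := (H ⊓ M : Subgroup R))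
    have hgo : orderOf g = Nat.card (H ⊓ M : Subgroup R) := orderOf_eq_card_of_forall_mem_zpowers hg
    have hgp : g ^ p = 1 := Subtype.ext (by simpa using hHexp g g.2.1)
    have hle := orderOf_le_of_pow_eq_one hpp.pos hgp
    rw [hgo] at hle
    have : p ^ 2 ≤ p := hHM.trans hle
    nlinarith [hpp.one_lt]
  have hAnormal : A.Normal := by
    constructor
    intro a ha g
    apply hclaim
    · exact hNn.conj_mem a (hAN ha) g
    · rw [conj_pow, hAexp a ha]; simp
  refine ⟨A, hAN.trans hNS, hAnormal, ⟨?_, hAexp⟩, hAcard⟩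
  exact ⟨⟨fun a b => Subtype.ext (hAcomm a a.2 b b.2)⟩⟩

end Cfsg.Agent.S0636
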