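import Mathlib
import Cfsg.Statements.S0638
import Cfsg.Agent.S0636
import Cfsg.Agent.Lib.Lead.Metacyclic

set_option autoImplicit false
open Cfsg
open scoped commutatorElement

namespace Cfsg.Agent.S0638

/-- If `A` has order `p²` and exponent `p`, and `x ∉ A` of order `p` normalizes `A`, then `⟨x⟩A` has
order `p³` and exponent `p` (p odd). -/
theorem sup_exp {R : Type*} [Group R] [Finite R] {p : ℕ} [Fact p.Prime] (hp : p ≠ 2)
    (A : Subgroup R) (hAcard : Nat.card A = p ^ 2) (hAexp : ∀ a ∈ A, a ^ p = 1)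
    (x : R) (hxN : x ∈ Subgroup.normalizer (A : Set R)) (hxp : x ^ p = 1) (hxA : x ∉ A) :
    Nat.card (Subgroup.zpowers x ⊔ A : Subgroup R) = p ^ 3 ∧
      ∀ h ∈ (Subgroup.zpowers x ⊔ A : Subgroup R), h ^ p = 1 := by
  have hpp : p.Prime := Fact.out
  have hx1 : x ≠ 1 := fun h => hxA (h ▸ A.one_mem)
  have hxo : orderOf x = p := orderOf_eq_prime hxp hx1
  set X := Subgroup.zpowers x with hX
  have hXcard : Nat.card X = p := by rw [Nat.card_zpowers, hxo]
  have hXA : X ⊓ A = ⊥ := by
    have hdvd : Nat.card (X ⊓ A : Subgroup R) ∣ p := hXcard ▸ Subgroup.card_dvd_of_le inf_le_left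
    rcases (Nat.dvd_prime hpp).1 hdvd with h1 | h1
    · exact Subgroup.card_eq_one.1 h1
    · exfalso
      have : X ⊓ A = X := Subgroup.eq_of_le_of_card_ge inf_le_left (by rw [h1, hXcard])
      exact hxA ((inf_eq_left.1 this) (Subgroup.mem_zpowers x))
  set H := X ⊔ A with hH
  have hHcard : Nat.card H = p ^ 3 := by
    have := Cfsg.Agent.Lib.Helper2.card_sup_mul_card_inf X A (Subgroup.zpowers_le.2 hxN)
    rw [hXA, Subgroup.card_bot, mul_one, hXcard, hAcard] at this
    rw [this]; ring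
  refine ⟨hHcard, ?_⟩
  let Ω : Subgroup H :=
    { carrier := {h | h ^ p = 1}
      one_mem' := one_pow p
      mul_mem' := fun {a b} ha hb => Cfsg.Agent.S0636.pow_mul_of_card_cube hp hHcard a b ha hb
      inv_mem' := fun {a} ha => by
        simp only [Set.mem_ofPred_eq] at ha ⊢; rw [inv_pow, ha, inv_one] }
  have hΩ : H ≤ Ω.map H.subtype := by
    apply sup_le
    · rw [Subgroup.zpowers_le]
      refine ⟨⟨x, le_sup_left (b := A) (Subgroup.mem_zpowers x)⟩, ?_, rfl⟩
      show (⟨x, _⟩ : H) ^ p = 1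
      exact Subtype.ext (by simpa using hxp)
    · intro a ha
      refine ⟨⟨a, le_sup_right (a := X) ha⟩, ?_, rfl⟩
      show (⟨a, _⟩ : H) ^ p = 1
      exact Subtype.ext (by simpa using hAexp a ha)
  intro h hh
  obtain ⟨h', hh', rfl⟩ := hΩ hh
  have : h' ^ p = 1 := hh'
  simpa using congrArg H.subtype this

/-- A metacyclic group of exponent dividing `p` has order dividing `p²`. -/
theorem card_dvd_of_metacyclic_exp {H : Type*} [Group H] [Finite H] (p : ℕ) (hm : Cfsg.IsMetacyclic H)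
    (hexp : ∀ h : H, h ^ p = 1) : Nat.card H ∣ p ^ 2 := by
  obtain ⟨K, hKn, hKc, hQc⟩ := hm
  haveI := hKn
  have h1 : Nat.card K ∣ p := by
    haveI := hKc
    apply Cfsg.Agent.Lib.Lead.Metacyclic.card_dvd_of_cyclic_of_exp p
    intro k
    exact Subtype.ext (by simpa using hexp (k : H))
  have h2 : Nat.card (H ⧸ K) ∣ p := by
    haveI := hQc
    apply Cfsg.Agent.Lib.Lead.Metacyclic.card_dvd_of_cyclic_of_exp p
    intro k
    induction k using QuotientGroup.induction_on with
    | H a => rw [← QuotientGroup.mk_pow, hexp a]; rfl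
  rw [Subgroup.card_eq_card_quotient_mul_card_subgroup K, pow_two]
  exact Nat.mul_dvd_mul h2 h1

/-- For odd p, in a non-cyclic metacyclic p-group the elements of order dividing p generate an elementary abelian subgroup of order p². -/
theorem result {R : Type*} [Group R] [Finite R] {p : ℕ} [Fact p.Prime] (hp : p ≠ 2) (hR : IsPGroup p R) (hm : Cfsg.IsMetacyclic R) (hnc : ¬ IsCyclic R) : Cfsg.IsElementaryAbelian p (Cfsg.omegaOne p (⊤ : Subgroup R)) ∧ Nat.card ↥(Cfsg.omegaOne p (⊤ : Subgroup R)) = p ^ 2 := by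
  classical
  have hpp : p.Prime := Fact.out
  obtain ⟨A, hAn, hAe, hAc⟩ := Cfsg.Agent.Lib.Helper6.exists_normal_ea_sq hp (Nat.card R) R rfl hR hnc
  haveI := hAn
  have hclaim : ∀ x : R, x ^ p = 1 → x ∈ A := by
    intro x hxp
    by_contra hxA
    obtain ⟨hHcard, hHexp⟩ := sup_exp hp A hAc hAe.2 x (by rw [Subgroup.normalizer_eq_top]; exact Subgroup.mem_top x) hxp hxA
    have hHm := Cfsg.Agent.Lib.Lead.Metacyclic.isMetacyclic_subgroup hm (Subgroup.zpowers x ⊔ A)
    have := card_dvd_of_metacyclic_exp p hHm (fun h => Subtype.ext (by simpa using hHexp h h.2))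
    rw [hHcard] at this
    have h3 : 3 ≤ 2 := (Nat.pow_dvd_pow_iff_le_right hpp.one_lt).1 this
    omega
  have hΩ : Cfsg.omegaOne p (⊤ : Subgroup R) = A := by
    unfold Cfsg.omegaOne
    apply le_antisymm
    · rw [Subgroup.closure_le]
      rintro x ⟨-, hx⟩
      exact hclaim x hx
    · intro a ha
      exact Subgroup.subset_closure ⟨Subgroup.mem_top a, hAe.2 a ha⟩
  rw [hΩ]
  exact ⟨hAe, hAc⟩

end Cfsg.Agent.S0638
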