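import Cfsg.Statements.S0641
import Mathlib

set_option autoImplicit false
set_option linter.style.haveILetI false
open Cfsg

namespace Cfsg.Agent.S0641

universe u v

theorem map_powerClosure_le {G : Type u} {G' : Type v} [Group G] [Group G'] (f : G →* G')
    (p n : ℕ) (H : Subgroup G) :
    (Cfsg.powerClosure p n H).map f ≤ Cfsg.powerClosure p n (H.map f) := by
  rw [Subgroup.map_le_iff_le_comap]
  unfold Cfsg.powerClosure
  rw [Subgroup.closure_le]
  rintro y ⟨x, hx, rfl⟩
  rw [SetLike.mem_coe, Subgroup.mem_comap, map_pow]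
  apply Subgroup.subset_closure
  exact ⟨f x, ⟨x, hx, rfl⟩, rfl⟩

theorem map_comm_closure_pair {G : Type u} {G' : Type v} [Group G] [Group G'] (f : G →* G')
    (a b : G) :
    (⁅Subgroup.closure ({a, b} : Set G), Subgroup.closure ({a, b} : Set G)⁆).map f =
      ⁅Subgroup.closure ({f a, f b} : Set G'), Subgroup.closure ({f a, f b} : Set G')⁆ := by
  rw [Subgroup.map_commutator, MonoidHom.map_closure, Set.image_pair]

/-- Regularity of a p-group passes to quotient groups. -/
theorem result {G : Type*} [Group G] {p : ℕ} [Fact p.Prime] (hG : Cfsg.IsRegularPGroup p G) (N : Subgroup G) [N.Normal] : Cfsg.IsRegularPGroup p (G ⧸ N) := by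
  refine ⟨hG.1.to_quotient N, ?_⟩
  intro a' b' n
  obtain ⟨a, rfl⟩ := QuotientGroup.mk_surjective a'
  obtain ⟨b, rfl⟩ := QuotientGroup.mk_surjective b'
  obtain ⟨c, hc, hcab⟩ := hG.2 a b n
  let π := QuotientGroup.mk' N
  refine ⟨π c, ?_, ?_⟩
  · have h1 : π c ∈ (Cfsg.powerClosure p n
        ⁅Subgroup.closure ({a, b} : Set G), Subgroup.closure ({a, b} : Set G)⁆).map π :=
      ⟨c, hc, rfl⟩
    have h2 := map_powerClosure_le π p n _ h1
    rw [map_comm_closure_pair] at h2
    exact h2
  · have := congrArg π hcab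
    simpa [π] using this

end Cfsg.Agent.S0641
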