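import Cfsg.Statements.S0642
import Cfsg.Agent.S0641
import Cfsg.Agent.Lib.Helper2.Supersolvable5

set_option autoImplicit false
set_option linter.style.haveILetI false
open Cfsg
open scoped commutatorElement

namespace Cfsg.Agent.S0642

open Cfsg.Agent.Lib.Helper2

universe u

theorem aux (n : ℕ) : ∀ (G : Type u) [Group G] [Finite G], Nat.card G = n → IsPGroup 2 G →
    Cfsg.IsRegularPGroup 2 G → ∀ a b : G, a * b = b * a := by
  induction n using Nat.strong_induction_on with
  | _ n ih =>
    intro G _ _ hn hG hreg a b
    haveI : Fact (Nat.Prime 2) := ⟨Nat.prime_two⟩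
    rcases subsingleton_or_nontrivial G with hsub | hnt
    · exact Subsingleton.elim _ _
    · haveI := hG.center_nontrivial
      -- an element of order 2 in the centre
      have hZ : IsPGroup 2 (Subgroup.center G) := hG.to_subgroup _
      obtain ⟨k, hk⟩ := hZ.exists_card_eq
      have hk0 : k ≠ 0 := by
        intro h0
        rw [h0, pow_zero] at hk
        have : Subsingleton (Subgroup.center G) := (Nat.card_eq_one_iff_unique.1 hk).1
        exact not_subsingleton _ this
      have h2dvd : 2 ∣ Nat.card (Subgroup.center G) := by rw [hk]; exact dvd_pow_self 2 hk0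
      obtain ⟨z, hz⟩ := exists_prime_orderOf_dvd_card' 2 h2dvd
      have hzc : (z : G) ∈ Subgroup.center G := z.2
      have hzo : orderOf (z : G) = 2 := by rw [Subgroup.orderOf_coe]; exact hz
      have hz2 : (z : G) ^ 2 = 1 := by rw [← hzo]; exact pow_orderOf_eq_one _
      have hz1 : (z : G) ≠ 1 := by
        intro h
        rw [h, orderOf_one] at hzo
        omega
      set N := Subgroup.zpowers (z : G) with hN
      haveI hNn : N.Normal := zpowers_normal_of_mem_center hzc
      have hNne : N ≠ ⊥ := by
        intro h
        rw [hN, Subgroup.zpowers_eq_bot] at h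
        exact hz1 h
      have hlt := card_quotient_lt_of_ne_bot N hNne
      rw [hn] at hlt
      have hQ := ih _ hlt (G ⧸ N) rfl (hG.to_quotient N) (Cfsg.Agent.S0641.result hreg N)
      have hsq : ∀ x ∈ N, x ^ 2 = 1 := by
        intro x hx
        obtain ⟨m, rfl⟩ := Subgroup.mem_zpowers_iff.1 hx
        rw [← zpow_natCast, ← zpow_mul, mul_comm, zpow_mul, zpow_natCast, hz2, one_zpow]
      have hcomm : commutator G ≤ N := by
        rw [commutator_def, Subgroup.commutator_le]
        intro x _ y _
        rw [← QuotientGroup.ker_mk' N, MonoidHom.mem_ker, map_commutatorElement,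
          commutatorElement_eq_one_iff_mul_comm]
        exact hQ _ _
      obtain ⟨c, hc, hcab⟩ := hreg.2 a b 1
      have hc1 : c = 1 := by
        have : Cfsg.powerClosure 2 1
            ⁅Subgroup.closure ({a, b} : Set G), Subgroup.closure ({a, b} : Set G)⁆ ≤ ⊥ := by
          unfold Cfsg.powerClosure
          rw [Subgroup.closure_le]
          rintro y ⟨x, hx, rfl⟩
          have hxN : x ∈ N := by
            apply hcomm
            rw [commutator_def]
            exact Subgroup.commutator_mono le_top le_top hx
          rw [pow_one, hsq x hxN]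
          exact Subgroup.one_mem _
        exact (Subgroup.mem_bot.1 (this hc))
      rw [hc1, mul_one, pow_one] at hcab
      -- (ab)^2 = a^2 b^2
      have h1 : a * b * (a * b) = a * a * (b * b) := by
        rw [← sq, hcab, sq, sq]
      have h2 : a * (b * a) * b = a * (a * b) * b := by
        calc a * (b * a) * b = a * b * (a * b) := by group
          _ = a * a * (b * b) := h1
          _ = a * (a * b) * b := by group
      exact (mul_left_cancel (mul_right_cancel h2)).symm

/-- Among finite 2-groups the regular ones are exactly the abelian ones. -/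
theorem result {G : Type*} [Group G] [Finite G] (hG : IsPGroup 2 G) : Cfsg.IsRegularPGroup 2 G ↔ ∀ a b : G, a * b = b * a := by
  constructor
  · intro hreg
    exact aux _ G rfl hG hreg
  · intro hab
    refine ⟨hG, ?_⟩
    intro a b n
    refine ⟨1, Subgroup.one_mem _, ?_⟩
    rw [mul_one]
    have hc : Commute a b := hab a b
    exact hc.mul_pow _

end Cfsg.Agent.S0642
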