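import Mathlib
import Cfsg.Statements.S0643
import Cfsg.Agent.Lib.Helper7.RegularP2
import Cfsg.Agent.Lib.Helper7.RegularLevel

set_option autoImplicit false
open Cfsg
open scoped commutatorElement

namespace Cfsg.Agent.S0643

open Cfsg.Agent.Lib.Helper7 Cfsg.Agent.Lib.Helper7.RegularLevel

universe u

theorem gen_mem {G : Type u} [Group G] (p n : ℕ) (K : Subgroup G) (x : G) (hx : x ∈ K) :
    x ^ (p ^ n) ∈ powerClosure p n K := by
  unfold powerClosure
  exact Subgroup.subset_closure ⟨x, hx, rfl⟩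

theorem reglevel_all {G : Type u} [Group G] [Finite G] {p : ℕ} [Fact p.Prime] (hGp : IsPGroup p G)
    (hK : ∀ a b : G, ∃ c ∈ ⁅Subgroup.closure ({a, b} : Set G), Subgroup.closure ({a, b} : Set G)⁆,
      (a * b) ^ p = a ^ p * b ^ p * c ^ p) : ∀ n : ℕ, RegLevel p n G := by
  have hG1 : RegLevel p 1 G := by
    intro a b
    obtain ⟨c, hc, hab⟩ := hK a b
    refine ⟨c ^ (p ^ 1), gen_mem p 1 _ c hc, ?_⟩
    simpa using hab
  intro n
  induction n with
  | zero =>
    intro a b
    exact ⟨1, Subgroup.one_mem _, by simp⟩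
  | succ n ih =>
    intro a b
    obtain ⟨c, hc, hab⟩ := hK a b
    set L := Subgroup.closure ({a, b} : Set G) with hL
    have haL : a ∈ L := Subgroup.subset_closure (by simp)
    have hbL : b ∈ L := Subgroup.subset_closure (by simp)
    have hcL : c ∈ L := Subgroup.commutator_le_self L hc
    obtain ⟨e₁, he₁, h1⟩ := ih (a ^ p) (b ^ p * c ^ p)
    obtain ⟨e₂, he₂, h2⟩ := ih (b ^ p) (c ^ p)
    -- V = ℧_1(L')
    have hVle : powerClosure p n (powerClosure p 1 ⁅L, L⁆) ≤ powerClosure p (n + 1) ⁅L, L⁆ := by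
      unfold powerClosure
      rw [Subgroup.closure_le]
      rintro y ⟨v, hv, rfl⟩
      obtain ⟨f, hf, rfl⟩ := agemo_eq_pows p 1 hGp hG1 ⁅L, L⁆ v hv
      rw [← pow_mul, pow_one, ← pow_succ']
      exact Subgroup.subset_closure ⟨f, hf, rfl⟩
    have hUV : ⁅powerClosure p 1 L, powerClosure p 1 L⁆ ≤ powerClosure p 1 ⁅L, L⁆ :=
      commutator_agemo_le p 1 hGp hG1 L
    have hpU : ∀ x ∈ L, x ^ p ∈ powerClosure p 1 L := by
      intro x hx
      have := gen_mem p 1 L x hx
      simpa using this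
    have hle1 : Subgroup.closure ({a ^ p, b ^ p * c ^ p} : Set G) ≤ powerClosure p 1 L := by
      rw [Subgroup.closure_le]
      intro z hz
      rcases hz with rfl | rfl
      · exact hpU a haL
      · exact Subgroup.mul_mem _ (hpU b hbL) (hpU c hcL)
    have hle2 : Subgroup.closure ({b ^ p, c ^ p} : Set G) ≤ powerClosure p 1 L := by
      rw [Subgroup.closure_le]
      intro z hz
      rcases hz with rfl | rfl
      · exact hpU b hbL
      · exact hpU c hcL
    have he₁' : e₁ ∈ powerClosure p (n + 1) ⁅L, L⁆ :=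
      hVle (RegularP.powerClosure_mono p n
        ((Subgroup.commutator_mono hle1 hle1).trans hUV) he₁)
    have he₂' : e₂ ∈ powerClosure p (n + 1) ⁅L, L⁆ :=
      hVle (RegularP.powerClosure_mono p n
        ((Subgroup.commutator_mono hle2 hle2).trans hUV) he₂)
    refine ⟨c ^ (p ^ (n + 1)) * e₂ * e₁, ?_, ?_⟩
    · exact Subgroup.mul_mem _ (Subgroup.mul_mem _ (gen_mem p (n + 1) _ c hc) he₂') he₁'
    · have e1 : (a * b) ^ (p ^ (n + 1)) = ((a * b) ^ p) ^ (p ^ n) := by
        rw [← pow_mul, ← pow_succ']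
      rw [e1, hab, mul_assoc (a ^ p), h1, h2]
      have e2 : ∀ x : G, (x ^ p) ^ (p ^ n) = x ^ (p ^ (n + 1)) := by
        intro x
        rw [← pow_mul, ← pow_succ']
      rw [e2, e2, e2]
      group

/-- Kemhadze's criterion: a finite p-group is regular exactly when (ab)^p = a^p b^p c^p always holds for some c in the derived subgroup of the subgroup generated by a and b. -/
theorem result {G : Type*} [Group G] [Finite G] {p : ℕ} [Fact p.Prime] (hG : IsPGroup p G) : Cfsg.IsRegularPGroup p G ↔ ∀ a b : G, ∃ c ∈ ⁅Subgroup.closure ({a, b} : Set G), Subgroup.closure ({a, b} : Set G)⁆, (a * b) ^ p = a ^ p * b ^ p * c ^ p := by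
  constructor
  · intro hR a b
    obtain ⟨c₀, hc₀, hab⟩ := hR.2 a b 1
    obtain ⟨d, hd, rfl⟩ := RegularP.powerClosure_eq_pows p 1 _ (RegularP.pows_closed p 1 hR _) c₀ hc₀
    refine ⟨d, hd, ?_⟩
    simpa using hab
  · intro hK
    refine ⟨hG, ?_⟩
    intro a b n
    exact reglevel_all hG hK n a b

end Cfsg.Agent.S0643
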