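import Mathlib
import Cfsg.Statements.S0644
import Cfsg.Agent.Lib.Helper7.RegularP2

set_option autoImplicit false
open Cfsg
open scoped commutatorElement
open Cfsg.Agent.Lib.Helper7.RegularP

namespace Cfsg.Agent.S0644

/-- In a regular p-group the p^n-th powers of the elements of any subgroup H form a subgroup, whose derived subgroup is contained in the subgroup generated by the p^n-th powers of elements of the derived subgroup of H. -/
theorem result {G : Type*} [Group G] [Finite G] {p : ℕ} [Fact p.Prime] (hG : Cfsg.IsRegularPGroup p G) (H : Subgroup G) (n : ℕ) : {y : G | ∃ x ∈ H, y = x ^ (p ^ n)} = (Cfsg.powerClosure p n H : Set G) ∧ ⁅Cfsg.powerClosure p n H, Cfsg.powerClosure p n H⁆ ≤ Cfsg.powerClosure p n ⁅H, H⁆ := by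
  have hpows := powerClosure_eq_pows p n H (pows_closed p n hG H)
  have hgen : ∀ K : Subgroup G, ∀ x ∈ K, x ^ (p ^ n) ∈ Cfsg.powerClosure p n K := by
    intro K x hx
    unfold Cfsg.powerClosure
    exact Subgroup.subset_closure ⟨x, hx, rfl⟩
  constructor
  · ext y
    constructor
    · rintro ⟨x, hx, rfl⟩
      exact hgen H x hx
    · intro hy
      obtain ⟨d, hd, rfl⟩ := hpows y hy
      exact ⟨d, hd, rfl⟩
  · rw [Subgroup.commutator_le]
    intro g₁ hg₁ g₂ hg₂
    obtain ⟨a, ha, rfl⟩ := hpows g₁ hg₁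
    obtain ⟨b₀, hb₀, rfl⟩ := hpows g₂ hg₂
    obtain ⟨b, hbdef⟩ : ∃ b, b = b₀ ^ (p ^ n) := ⟨_, rfl⟩
    rw [← hbdef]
    have hb : b ∈ H := by rw [hbdef]; exact H.pow_mem hb₀ _
    -- a' = b a⁻¹ b⁻¹
    have ha' : b * a⁻¹ * b⁻¹ ∈ H := H.mul_mem (H.mul_mem hb (H.inv_mem ha)) (H.inv_mem hb)
    obtain ⟨c, hc, hac⟩ := hG.2 a (b * a⁻¹ * b⁻¹) n
    have hle : Subgroup.closure ({a, b * a⁻¹ * b⁻¹} : Set G) ≤ H := by
      rw [Subgroup.closure_le]
      intro z hz
      rcases hz with rfl | rfl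
      · exact ha
      · exact ha'
    have hc' : c ∈ Cfsg.powerClosure p n ⁅H, H⁆ :=
      powerClosure_mono p n (Subgroup.commutator_mono hle hle) hc
    have h1 : ⁅a ^ (p ^ n), b⁆ = a ^ (p ^ n) * (b * a⁻¹ * b⁻¹) ^ (p ^ n) := by
      rw [commutatorElement_def, conj_pow, inv_pow]
      group
    have h2 : a ^ (p ^ n) * (b * a⁻¹ * b⁻¹) ^ (p ^ n) = (a * (b * a⁻¹ * b⁻¹)) ^ (p ^ n) * c⁻¹ := by
      rw [hac]; group
    rw [h1, h2]
    apply Subgroup.mul_mem _ _ (Subgroup.inv_mem _ hc')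
    apply hgen
    have : a * (b * a⁻¹ * b⁻¹) = ⁅a, b⁆ := by rw [commutatorElement_def]; group
    rw [this]
    exact Subgroup.commutator_mem_commutator ha hb

end Cfsg.Agent.S0644
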