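import Cfsg.Statements.S0645
import Mathlib
import Cfsg.Agent.Lib.Helper1.Class2

set_option autoImplicit false
open Cfsg

namespace Cfsg.Agent.S0645


/-- number theory: `p` odd, `p^(m+1) ∣ r^p - 1` implies `p^m ∣ r - 1` -/
theorem nt_lemma {p : ℕ} [hp : Fact p.Prime] (hp2 : p ≠ 2) (r m : ℕ) (hr : 2 ≤ r)
    (h : p ^ (m + 1) ∣ r ^ p - 1) : p ^ m ∣ r - 1 := by
  have hpp : p.Prime := hp.out
  have hodd : Odd p := hpp.odd_of_ne_two hp2
  have hrp : 1 < r ^ p := Nat.one_lt_pow hpp.ne_zero (by omega)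
  have h1 : p ∣ r ^ p - 1 := dvd_trans (dvd_pow_self p (by omega)) h
  -- r ≡ 1 mod p
  have h2 : ((r : ZMod p)) = 1 := by
    have h3 : ((r ^ p - 1 : ℕ) : ZMod p) = 0 := (ZMod.natCast_eq_zero_iff _ _).2 h1
    rw [Nat.cast_sub hrp.le, Nat.cast_pow, ZMod.pow_card, Nat.cast_one, sub_eq_zero] at h3
    exact h3
  have h4 : p ∣ r - 1 := by
    rw [← ZMod.natCast_eq_zero_iff, Nat.cast_sub (by omega), h2]; simp
  have h5 : ¬ p ∣ r := by
    intro hd
    have : ((r : ZMod p)) = 0 := (ZMod.natCast_eq_zero_iff _ _).2 hd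
    rw [h2] at this
    exact one_ne_zero this
  have h6 := padicValNat.pow_sub_pow hodd (show 1 < r by omega) h4 h5 hpp.ne_zero
  rw [one_pow, padicValNat_self] at h6
  have h7 : m + 1 ≤ padicValNat p (r ^ p - 1) :=
    (padicValNat_dvd_iff_le (by omega)).1 h
  have h8 : m ≤ padicValNat p (r - 1) := by omega
  exact (padicValNat_dvd_iff_le (by omega)).2 h8


open Cfsg.Agent.Lib.Helper1
open scoped commutatorElement Pointwise

theorem main0645 {G : Type*} [Group G] [Finite G] {p : ℕ} [Fact p.Prime] (hp : p ≠ 2) (n : ℕ) (hn : 3 ≤ n) (hG : Nat.card G = p ^ n) (C : Subgroup G) (hC : IsCyclic C) (hCi : C.index = p) (hna : ∃ x y : G, x * y ≠ y * x) : ∃ a b : G, orderOf a = p ^ (n - 1) ∧ orderOf b = p ∧ b ∉ Subgroup.zpowers a ∧ b * a * b⁻¹ = a ^ (1 + p ^ (n - 2)) := by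
  have hpp : p.Prime := Fact.out
  have hCcard : Nat.card C = p ^ (n - 1) := by
    have h1 := Subgroup.card_mul_index C
    rw [hCi, hG] at h1
    have h2 : p ^ n = p ^ (n - 1) * p := by rw [← pow_succ]; congr 1; omega
    rw [h2] at h1
    exact Nat.eq_of_mul_eq_mul_right hpp.pos h1
  obtain ⟨g0, hg0⟩ := hC.exists_generator
  obtain ⟨a, ha⟩ : ∃ a : G, a = (g0 : G) := ⟨_, rfl⟩
  have hCz : C = Subgroup.zpowers a := by
    ext x
    constructor
    · intro hx
      obtain ⟨k, hk⟩ := Subgroup.mem_zpowers_iff.1 (hg0 ⟨x, hx⟩)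
      rw [ha]
      refine Subgroup.mem_zpowers_iff.2 ⟨k, ?_⟩
      have := congrArg Subtype.val hk
      simpa using this
    · intro hx
      obtain ⟨k, hk⟩ := Subgroup.mem_zpowers_iff.1 hx
      rw [← hk, ha]
      exact C.zpow_mem g0.2 k
  have hao : orderOf a = p ^ (n - 1) := by
    rw [← Nat.card_zpowers, ← hCz, hCcard]
  haveI hCn : C.Normal := by
    apply Subgroup.normal_of_index_eq_minFac_card
    rw [hCi, hG]
    exact (Nat.Prime.pow_minFac hpp (by omega)).symm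
  -- choose y ∉ C
  have hCtop : C ≠ ⊤ := by
    intro h
    rw [h, Subgroup.index_top] at hCi
    exact hpp.one_lt.ne hCi
  obtain ⟨y, -, hyC⟩ := SetLike.exists_of_lt (lt_top_iff_ne_top.2 hCtop)
  -- C ⊔ zpowers y = ⊤
  have hsup : ∀ w : G, w ∉ C → C ⊔ Subgroup.zpowers w = ⊤ := by
    intro w hw
    have hle : C ≤ C ⊔ Subgroup.zpowers w := le_sup_left
    have h1 := Subgroup.relIndex_mul_index hle
    rw [hCi] at h1
    have h2 : C.relIndex (C ⊔ Subgroup.zpowers w) ≠ 1 := by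
      intro h
      rw [Subgroup.relIndex_eq_one] at h
      exact hw (h (le_sup_right (a := C) (Subgroup.mem_zpowers w)))
    have h3 : C.relIndex (C ⊔ Subgroup.zpowers w) ∣ p := Dvd.intro _ h1
    rcases (Nat.dvd_prime hpp).1 h3 with h4 | h4
    · exact absurd h4 h2
    · rw [h4] at h1
      have h5 : (C ⊔ Subgroup.zpowers w).index = 1 := by
        have := hpp.pos
        nlinarith
      exact Subgroup.index_eq_one.1 h5
  have hdecomp : ∀ w : G, w ∉ C → ∀ g : G, ∃ c ∈ C, ∃ i : ℤ, g = c * w ^ i := by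
    intro w hw g
    have hg : g ∈ C ⊔ Subgroup.zpowers w := by rw [hsup w hw]; exact Subgroup.mem_top g
    have : (g : G) ∈ ((C ⊔ Subgroup.zpowers w : Subgroup G) : Set G) := hg
    rw [Subgroup.normal_mul] at this
    obtain ⟨c, hc, v, hv, hcv⟩ := Set.mem_mul.1 this
    obtain ⟨i, hi⟩ := Subgroup.mem_zpowers_iff.1 hv
    exact ⟨c, hc, i, by rw [hi, hcv]⟩
  -- if w ∉ C commutes with a then G abelian
  have hnocomm : ∀ w : G, w ∉ C → ¬ Commute w a := by
    intro w hw hcomm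
    obtain ⟨x, y', hxy⟩ := hna
    apply hxy
    obtain ⟨c1, hc1, i1, rfl⟩ := hdecomp w hw x
    obtain ⟨c2, hc2, i2, rfl⟩ := hdecomp w hw y'
    rw [hCz] at hc1 hc2
    obtain ⟨k1, rfl⟩ := Subgroup.mem_zpowers_iff.1 hc1
    obtain ⟨k2, rfl⟩ := Subgroup.mem_zpowers_iff.1 hc2
    have e1 : Commute (a ^ k1) (w ^ i2) := (hcomm.symm.zpow_zpow k1 i2)
    have e2 : Commute (w ^ i1) (a ^ k2) := (hcomm.zpow_zpow i1 k2)
    have e3 : Commute (a ^ k1) (a ^ k2) := (Commute.refl a).zpow_zpow k1 k2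
    have e4 : Commute (w ^ i1) (w ^ i2) := (Commute.refl w).zpow_zpow i1 i2
    exact ((e3.mul_right e1).mul_left (e2.mul_right e4)).eq
  -- conjugation exponent
  have hyaC : y * a * y⁻¹ ∈ Subgroup.zpowers a := by
    rw [← hCz]
    exact hCn.conj_mem a (by rw [hCz]; exact Subgroup.mem_zpowers a) y
  obtain ⟨r, hr⟩ : ∃ r : ℕ, a ^ r = y * a * y⁻¹ :=
    (Submonoid.mem_powers_iff _ _).1 (mem_powers_iff_mem_zpowers.2 hyaC)
  have ha1 : a ≠ 1 := by
    intro h
    rw [h, orderOf_one] at hao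
    have : 1 < p ^ (n - 1) := Nat.one_lt_pow (by omega) hpp.one_lt
    omega
  have hr2 : 2 ≤ r := by
    by_contra hcon
    push Not at hcon
    interval_cases r
    · rw [pow_zero] at hr
      apply ha1
      have : a = y⁻¹ * (y * a * y⁻¹) * y := by group
      rw [this, ← hr]; group
    · rw [pow_one] at hr
      apply hnocomm y hyC
      have : y * a = (y * a * y⁻¹) * y := by group
      rw [Commute, SemiconjBy, this, ← hr]
  -- y^j a y^-j = a^(r^j)
  have hpowconj : ∀ j : ℕ, y ^ j * a * (y ^ j)⁻¹ = a ^ (r ^ j) := by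
    intro j
    induction j with
    | zero => simp
    | succ j ih =>
      have : y ^ (j + 1) * a * (y ^ (j + 1))⁻¹ = y * (y ^ j * a * (y ^ j)⁻¹) * y⁻¹ := by
        rw [pow_succ']; group
      rw [this, ih, ← conj_pow, ← hr, ← pow_mul, pow_succ']
  -- y^p ∈ C
  have hypC : ∀ w : G, w ^ p ∈ C := by
    intro w
    have h1 : ((w : G ⧸ C)) ^ p = 1 := by
      have : Nat.card (G ⧸ C) = p := by rw [← Subgroup.index_eq_card, hCi]
      rw [← this]; exact pow_card_eq_one'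
    rw [← QuotientGroup.mk_pow, QuotientGroup.eq_one_iff] at h1
    exact h1
  have hrp : p ^ ((n - 2) + 1) ∣ r ^ p - 1 := by
    have h1 : n - 2 + 1 = n - 1 := by omega
    rw [h1, ← hao]
    apply orderOf_dvd_of_pow_eq_one
    have h2 : y ^ p * a * (y ^ p)⁻¹ = a := by
      have hc : y ^ p ∈ Subgroup.zpowers a := by rw [← hCz]; exact hypC y
      obtain ⟨i, hi⟩ := Subgroup.mem_zpowers_iff.1 hc
      rw [← hi]
      have : Commute (a ^ i) a := (Commute.refl a).zpow_left i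
      rw [this.eq]; group
    rw [hpowconj p] at h2
    have h3 : 1 ≤ r ^ p := Nat.one_le_pow _ _ (by omega)
    have h4 : a ^ (r ^ p - 1) * a = a := by
      rw [← pow_succ, Nat.sub_add_cancel h3, h2]
    exact mul_eq_right.1 h4
  have hk := nt_lemma hp r (n - 2) hr2 hrp
  obtain ⟨k, hk⟩ := hk
  obtain ⟨z, hz⟩ : ∃ z, z = a ^ (p ^ (n - 2)) := ⟨_, rfl⟩
  have hzo : orderOf z = p := by
    rw [hz, orderOf_pow' _ (pow_ne_zero _ hpp.ne_zero), hao,
      Nat.gcd_eq_right (pow_dvd_pow p (by omega)), Nat.pow_div (by omega) hpp.pos]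
    have : n - 1 - (n - 2) = 1 := by omega
    rw [this, pow_one]
  have hzp : z ^ p = 1 := by rw [← hzo, pow_orderOf_eq_one]
  have hza : Commute z a := by rw [hz]; exact (Commute.refl a).pow_left _
  have hyaz : y * a * y⁻¹ = a * z ^ k := by
    rw [← hr, hz, ← pow_mul, ← hk]
    have : r = 1 + (r - 1) := by omega
    conv_lhs => rw [this]
    rw [pow_add, pow_one]
  have hn2 : p ∣ p ^ (n - 2) := dvd_pow_self p (by omega)
  have hzpn : z ^ (p ^ (n - 2)) = 1 := by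
    obtain ⟨q, hq⟩ := hn2
    rw [hq, pow_mul, hzp, one_pow]
  have hyz : y * z * y⁻¹ = z := by
    have h1 : y * z * y⁻¹ = (y * a * y⁻¹) ^ (p ^ (n - 2)) := by rw [conj_pow, hz]
    rw [h1, hyaz, (hza.symm.pow_right k).mul_pow, ← hz, ← pow_mul, mul_comm, pow_mul, hzpn, one_pow, mul_one]
  have hyzc : Commute y z := by
    have : y * z = (y * z * y⁻¹) * y := by group
    rw [Commute, SemiconjBy, this, hyz]
  have hpk : ¬ p ∣ k := by
    rintro ⟨q, hq⟩
    apply hnocomm y hyC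
    rw [hq, pow_mul, hzp, one_pow, mul_one] at hyaz
    have : y * a = (y * a * y⁻¹) * y := by group
    rw [Commute, SemiconjBy, this, hyaz]
  have hcop : Nat.Coprime k p := (Nat.Coprime.symm ((Nat.Prime.coprime_iff_not_dvd hpp).2 hpk))
  obtain ⟨j, -, hj⟩ := Nat.exists_mul_mod_eq_one_of_coprime hcop hpp.one_lt
  have hpowconj2 : ∀ i : ℕ, y ^ i * a * (y ^ i)⁻¹ = a * z ^ (k * i) := by
    intro i
    induction i with
    | zero => simp
    | succ i ih =>
      have : y ^ (i + 1) * a * (y ^ (i + 1))⁻¹ = y * (y ^ i * a * (y ^ i)⁻¹) * y⁻¹ := by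
        rw [pow_succ']; group
      rw [this, ih]
      have h2 : y * (a * z ^ (k * i)) * y⁻¹ = (y * a * y⁻¹) * (y * z * y⁻¹) ^ (k * i) := by
        rw [conj_pow]; group
      rw [h2, hyaz, hyz, mul_assoc, ← pow_add, mul_add, mul_one, add_comm]
  obtain ⟨y₁, hy₁⟩ : ∃ y₁, y₁ = y ^ j := ⟨_, rfl⟩
  have hzmod : z ^ (k * j) = z := by
    rw [← pow_mod_orderOf, hzo, hj, pow_one]
  have hy₁a : y₁ * a * y₁⁻¹ = a * z := by
    rw [hy₁, hpowconj2 j, hzmod]
  have hz1 : z ≠ 1 := by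
    intro h
    rw [h, orderOf_one] at hzo
    exact hpp.one_lt.ne hzo
  have hy₁nc : ¬ Commute y₁ a := by
    intro hc
    have : y₁ * a * y₁⁻¹ = a := by rw [hc.eq]; group
    rw [hy₁a] at this
    exact hz1 (mul_eq_left.1 this)
  have hy₁C : y₁ ∉ C := by
    intro h
    apply hy₁nc
    rw [hCz] at h
    obtain ⟨i, hi⟩ := Subgroup.mem_zpowers_iff.1 h
    rw [← hi]
    exact (Commute.refl a).zpow_left i
  have hy₁z : Commute y₁ z := by rw [hy₁]; exact hyzc.pow_left j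
  obtain ⟨t, ht⟩ : ∃ t : ℕ, a ^ t = y₁ ^ p :=
    (Submonoid.mem_powers_iff _ _).1 (mem_powers_iff_mem_zpowers.2 (by rw [← hCz]; exact hypC y₁))
  have hpt : p ∣ t := by
    by_contra hcon
    apply hy₁nc
    have hcop2 : Nat.Coprime t (p ^ (n - 1)) :=
      Nat.Coprime.pow_right _ (Nat.Coprime.symm ((Nat.Prime.coprime_iff_not_dvd hpp).2 hcon))
    obtain ⟨u, -, hu⟩ := Nat.exists_mul_mod_eq_one_of_coprime hcop2 (Nat.one_lt_pow (by omega) hpp.one_lt)
    have h1 : a = (y₁ ^ p) ^ u := by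
      rw [← ht, ← pow_mul, ← pow_mod_orderOf, hao, hu, pow_one]
    rw [h1]
    exact ((Commute.refl y₁).pow_right p).pow_right u
  obtain ⟨t', ht'⟩ := hpt
  obtain ⟨d, hd⟩ : ∃ d, d = (a ^ t')⁻¹ := ⟨_, rfl⟩
  have hda : Commute d a := by rw [hd]; exact ((Commute.refl a).pow_left t').inv_left
  have hdz : Commute d z := by rw [hz]; exact hda.pow_right _
  have hdC : d ∈ C := by
    rw [hCz, hd]; exact Subgroup.inv_mem _ (Subgroup.pow_mem _ (Subgroup.mem_zpowers a) _)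
  obtain ⟨b, hb⟩ : ∃ b, b = d * y₁ := ⟨_, rfl⟩
  have hbC : b ∉ Subgroup.zpowers a := by
    rw [← hCz]
    intro h
    apply hy₁C
    have : y₁ = d⁻¹ * b := by rw [hb]; group
    rw [this]
    exact C.mul_mem (C.inv_mem hdC) h
  have hbab : b * a * b⁻¹ = a ^ (1 + p ^ (n - 2)) := by
    have h1 : b * a * b⁻¹ = d * (y₁ * a * y₁⁻¹) * d⁻¹ := by rw [hb]; group
    rw [h1, hy₁a, pow_add, pow_one, ← hz]
    have h2 : d * (a * z) = (a * z) * d := (hda.mul_right hdz).eq
    rw [h2]; group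
  -- the commutator
  obtain ⟨e, he⟩ : ∃ e, e = (z ^ t')⁻¹ := ⟨_, rfl⟩
  have hcomm : ⁅y₁, d⁆ = e := by
    have h1 : y₁ * d * y₁⁻¹ = ((a * z) ^ t')⁻¹ := by
      rw [hd, ← hy₁a, conj_pow]; group
    have h2 : ⁅y₁, d⁆ = (y₁ * d * y₁⁻¹) * d⁻¹ := by rw [commutatorElement_def]
    rw [h2, h1, (hza.symm).mul_pow, hd, he, inv_inv, mul_inv_rev]
    have h3 : Commute (a ^ t') (z ^ t') := (hza.symm.pow_pow t' t')
    rw [mul_assoc, inv_mul_cancel, mul_one]
  have hed : ⁅y₁, d⁆ * d = d * ⁅y₁, d⁆ := by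
    rw [hcomm, he]
    exact ((hdz.pow_right t').inv_right).eq.symm
  have hey : ⁅y₁, d⁆ * y₁ = y₁ * ⁅y₁, d⁆ := by
    rw [hcomm, he]
    exact ((hy₁z.pow_right t').inv_right).eq.symm
  have hbp : b ^ p = 1 := by
    rw [hb, mul_pow_of_commute_commutator d y₁ hed hey p, hcomm]
    have hdvd : p ∣ p.choose 2 := hpp.dvd_choose_self (by norm_num) (by
      have := hpp.two_le; omega)
    obtain ⟨q, hq⟩ := hdvd
    have hep : e ^ p = 1 := by
      rw [he, inv_pow, ← pow_mul, mul_comm, pow_mul, hzp, one_pow, inv_one]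
    rw [hq, pow_mul, hep, one_pow, mul_one, ← ht, hd, inv_pow, ← pow_mul, ht', mul_comm t' p,
      inv_mul_cancel]
  have hb1 : b ≠ 1 := by
    intro h
    apply hbC
    rw [h]; exact Subgroup.one_mem _
  exact ⟨a, b, hao, orderOf_eq_prime hbp hb1, hbC, hbab⟩





/-- Classification of p-groups with a cyclic maximal subgroup, odd p: a non-abelian one of order p^n has generators a of order p^(n-1) and b of order p, b outside the cyclic subgroup generated by a, with b a b⁻¹ = a^(1 + p^(n-2)). -/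
theorem result {G : Type*} [Group G] [Finite G] {p : ℕ} [Fact p.Prime] (hp : p ≠ 2) (n : ℕ) (hn : 3 ≤ n) (hG : Nat.card G = p ^ n) (C : Subgroup G) (hC : IsCyclic C) (hCi : C.index = p) (hna : ∃ x y : G, x * y ≠ y * x) : ∃ a b : G, orderOf a = p ^ (n - 1) ∧ orderOf b = p ∧ b ∉ Subgroup.zpowers a ∧ b * a * b⁻¹ = a ^ (1 + p ^ (n - 2)) := by
  exact main0645 hp n hn hG C hC hCi hna

end Cfsg.Agent.S0645
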