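import Cfsg.Statements.S0647
import Cfsg.Agent.Lib.Helper2.EA

set_option autoImplicit false
set_option linter.style.haveILetI false
open Cfsg

namespace Cfsg.Agent.S0647

open Cfsg.Agent.Lib.Helper2

universe u

variable {G : Type u} [Group G]

/-- Adjoining a centralizing element to a commutative subgroup keeps it commutative. -/
theorem isMulCommutative_sup_zpowers (A : Subgroup G) (hA : IsMulCommutative A) (x : G)
    (hx : x ∈ Subgroup.centralizer (A : Set G)) : IsMulCommutative (A ⊔ Subgroup.zpowers x : Subgroup G) := by
  rw [isMulCommutative_iff_forall_mem] at hA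
  rw [← Subgroup.le_centralizer_iff_isMulCommutative]
  set E := A ⊔ Subgroup.zpowers x with hE
  have hxE : x ∈ Subgroup.centralizer (E : Set G) := by
    have : E ≤ Subgroup.centralizer {x} := by
      apply sup_le
      · intro a ha
        rw [Subgroup.mem_centralizer_iff]
        intro y hy
        rw [Set.mem_singleton_iff] at hy
        subst hy
        exact ((Subgroup.mem_centralizer_iff.1 hx) a ha).symm
      · rw [Subgroup.zpowers_le, Subgroup.mem_centralizer_iff]
        intro y hy
        rw [Set.mem_singleton_iff] at hy
        rw [hy]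
    rw [Subgroup.mem_centralizer_iff]
    intro e he
    exact ((Subgroup.mem_centralizer_iff.1 (this he)) x rfl).symm
  have hAE : A ≤ Subgroup.centralizer (E : Set G) := by
    rw [Subgroup.le_centralizer_iff]
    apply sup_le
    · intro a ha
      rw [Subgroup.mem_centralizer_iff]
      intro b hb
      exact hA b hb a ha
    · rw [Subgroup.zpowers_le]
      exact hx
  exact sup_le hAE ((Subgroup.zpowers_le).2 hxE)

/-- For a nonempty family of maximal abelian subgroups of a finite group, the intersection of the family is the centre of the subgroup it generates, which is also the full centralizer of that subgroup. -/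
theorem result {S : Type*} [Group S] [Finite S] (𝒜 : Set (Subgroup S)) (hne : 𝒜.Nonempty) (hab : ∀ A ∈ 𝒜, IsMulCommutative A) (hmax : ∀ A ∈ 𝒜, ∀ B : Subgroup S, IsMulCommutative B → A ≤ B → B = A) : sInf 𝒜 = sSup 𝒜 ⊓ Subgroup.centralizer ((sSup 𝒜 : Subgroup S) : Set S) ∧ sInf 𝒜 = Subgroup.centralizer ((sSup 𝒜 : Subgroup S) : Set S) := by
  have hself : ∀ A ∈ 𝒜, ∀ x ∈ Subgroup.centralizer (A : Set S), x ∈ A := by
    intro A hA x hx
    have h1 := isMulCommutative_sup_zpowers A (hab A hA) x hx
    have h2 := hmax A hA _ h1 le_sup_left
    rw [← h2]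
    exact (le_sup_right : Subgroup.zpowers x ≤ A ⊔ Subgroup.zpowers x) (Subgroup.mem_zpowers x)
  have h2 : sInf 𝒜 = Subgroup.centralizer ((sSup 𝒜 : Subgroup S) : Set S) := by
    apply le_antisymm
    · intro x hx
      rw [Subgroup.mem_sInf] at hx
      have : sSup 𝒜 ≤ Subgroup.centralizer {x} := by
        apply sSup_le
        intro A hA a ha
        rw [Subgroup.mem_centralizer_iff]
        intro y hy
        rw [Set.mem_singleton_iff] at hy
        subst hy
        have hAc := (isMulCommutative_iff_forall_mem A).1 (hab A hA)
        exact hAc y (hx A hA) a ha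
      rw [Subgroup.mem_centralizer_iff]
      intro e he
      exact ((Subgroup.mem_centralizer_iff.1 (this he)) x rfl).symm
    · intro x hx
      rw [Subgroup.mem_sInf]
      intro A hA
      apply hself A hA
      exact Subgroup.centralizer_le (show (A : Set S) ⊆ ((sSup 𝒜 : Subgroup S) : Set S) from
        (le_sSup hA : A ≤ sSup 𝒜)) hx
  refine ⟨?_, h2⟩
  rw [← h2]
  obtain ⟨A, hA⟩ := hne
  exact (inf_eq_right.2 ((sInf_le hA).trans (le_sSup hA))).symm

end Cfsg.Agent.S0647
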