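import Mathlib
import Cfsg.Statements.S0650
import Cfsg.Agent.Lib.Helper3.Replacement

set_option autoImplicit false
open Cfsg
open Cfsg.Agent.Lib.Helper3
open scoped commutatorElement

namespace Cfsg.Agent.S0650

/-- The Glauberman replacement Theorem: from an abelian A ⊇ [B, B] not normalized by the normal subgroup B and a suitable b ∈ B one gets the abelian subgroup A* = (A ∩ b⁻¹Ab)[A, b] of the same order, containing [B, B], meeting B strictly more than A does but not containing B, mutually normalizing with A, with strictly larger normalizer containing b, and (p odd) of no larger exponent. -/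
theorem result {S : Type*} [Group S] [Finite S] {p : ℕ} [Fact p.Prime] (hS : IsPGroup p S) (B : Subgroup S) [B.Normal] (hB2 : p = 2 → IsMulCommutative B) (A : Subgroup S) (hA : IsMulCommutative A) (hBA : ⁅B, B⁆ ≤ A) (hnot : ¬ B ≤ Subgroup.normalizer (A : Set S)) (b : S) (hb : b ∈ B) (hbN : b ∈ Subgroup.normalizer ((Subgroup.normalizer (A : Set S)) : Set S)) (hbA : b ∉ Subgroup.normalizer (A : Set S)) : Nat.card ↥((A ⊓ A.map (MulAut.conj (b⁻¹)).toMonoidHom) ⊔ Subgroup.closure {g : S | ∃ a ∈ A, g = a * b⁻¹ * a⁻¹ * b}) = Nat.card A ∧ IsMulCommutative ↥((A ⊓ A.map (MulAut.conj (b⁻¹)).toMonoidHom) ⊔ Subgroup.closure {g : S | ∃ a ∈ A, g = a * b⁻¹ * a⁻¹ * b}) ∧ ⁅B, B⁆ ≤ ((A ⊓ A.map (MulAut.conj (b⁻¹)).toMonoidHom) ⊔ Subgroup.closure {g : S | ∃ a ∈ A, g = a * b⁻¹ * a⁻¹ * b}) ∧ A ⊓ B < ((A ⊓ A.map (MulAut.conj (b⁻¹)).toMonoidHom) ⊔ Subgroup.closure {g : S | ∃ a ∈ A, g = a * b⁻¹ * a⁻¹ * b}) ⊓ B ∧ ((A ⊓ A.map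 (MulAut.conj (b⁻¹)).toMonoidHom) ⊔ Subgroup.closure {g : S | ∃ a ∈ A, g = a * b⁻¹ * a⁻¹ * b}) ⊓ B < B ∧ A ≤ Subgroup.normalizer (((A ⊓ A.map (MulAut.conj (b⁻¹)).toMonoidHom) ⊔ Subgroup.closure {g : S | ∃ a ∈ A, g = a * b⁻¹ * a⁻¹ * b} : Subgroup S) : Set S) ∧ ((A ⊓ A.map (MulAut.conj (b⁻¹)).toMonoidHom) ⊔ Subgroup.closure {g : S | ∃ a ∈ A, g = a * b⁻¹ * a⁻¹ * b}) ≤ Subgroup.normalizer (A : Set S) ∧ b ∈ Subgroup.normalizer (((A ⊓ A.map (MulAut.conj (b⁻¹)).toMonoidHom) ⊔ Subgroup.closure {g : S | ∃ a ∈ A, g = a * b⁻¹ * a⁻¹ * b} : Subgroup S) : Set S) ∧ Subgroup.normalizer (A : Set S) < Subgroup.normalizer (((A ⊓ A.map (MulAut.conj (b⁻¹)).toMonoidHom) ⊔ Subgroup.closure {g : S | ∃ a ∈ A, g = a * b⁻¹ * a⁻¹ * b} : Subgroup S) : Set S) ∧ (p ≠ 2 → Monoid.exponent ↥((A ⊓ A.map (MulAut.conj (b⁻¹)).toMonoidHom) ⊔ Subgroup.closure {g : S | ∃ a ∈ A, g = a * b⁻¹ * a⁻¹ * b}) ∣ Monoid.exponent A) := by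
  have hAc := Subgroup.le_centralizer_iff_isMulCommutative.mpr hA
  have h : RepHyp A B b :=
    { comm := fun x hx y hy => (Subgroup.mem_centralizer_iff.mp (hAc hy) x hx)
      normal := inferInstance
      der := hBA
      hb := hb
      hbN := hbN }
  have hX : ∀ u ∈ rX A b, ∀ v ∈ rX A b, u * v = v * u := by
    by_cases hp : p = 2
    · have hBc := Subgroup.le_centralizer_iff_isMulCommutative.mpr (hB2 hp)
      intro u hu v hv
      exact (Subgroup.mem_centralizer_iff.mp (hBc (h.rX_le hv)) u (h.rX_le hu))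
    · exact h.rX_comm_of_odd hS hp
  have hcomm := h.rStar_comm hX
  show Nat.card ↥(rStar A b) = Nat.card A ∧ IsMulCommutative ↥(rStar A b) ∧
    ⁅B, B⁆ ≤ rStar A b ∧ A ⊓ B < rStar A b ⊓ B ∧ rStar A b ⊓ B < B ∧
    A ≤ Subgroup.normalizer ((rStar A b : Subgroup S) : Set S) ∧
    rStar A b ≤ Subgroup.normalizer (A : Set S) ∧
    b ∈ Subgroup.normalizer ((rStar A b : Subgroup S) : Set S) ∧
    Subgroup.normalizer (A : Set S) < Subgroup.normalizer ((rStar A b : Subgroup S) : Set S) ∧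
    (p ≠ 2 → Monoid.exponent ↥(rStar A b) ∣ Monoid.exponent A)
  refine ⟨h.card_rStar, ⟨⟨fun x y => Subtype.ext (hcomm x x.2 y y.2)⟩⟩,
    h.der_le_rD.trans (rD_le_rStar A b), h.inf_lt hbA, h.inf_lt_right hnot,
    h.le_normalizer_rStar, h.rStar_le_normalizer, h.b_mem_normalizer_rStar,
    h.normalizer_lt hbA, ?_⟩
  intro hp
  apply Monoid.exponent_dvd_of_forall_pow_eq_one
  intro x
  apply Subtype.ext
  have := h.pow_eq_one_of_mem_rStar hS hp x.2
  simpa using this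

end Cfsg.Agent.S0650
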