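import Cfsg.Statements.S0655
import Cfsg.Agent.Lib.Helper2.EA2

set_option autoImplicit false
set_option linter.style.haveILetI false
open Cfsg

namespace Cfsg.Agent.S0655

open Cfsg.Agent.Lib.Helper2

/-- In a p-group the intersection of all elementary abelian subgroups of largest order is the subgroup generated by the elements of order dividing p in the centre (equivalently the centralizer) of the elementary-version Thompson subgroup. -/
theorem result {S : Type*} [Group S] [Finite S] {p : ℕ} [Fact p.Prime] (hS : IsPGroup p S) : sInf (Cfsg.maxElementaryAbelianSubgroups p S) = Cfsg.omegaCenterThompson p S ∧ Cfsg.omegaCenterThompson p S = Cfsg.omegaOne p (Subgroup.centralizer (Cfsg.thompsonSubgroup p S : Set S)) := by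
  set J := Cfsg.thompsonSubgroup p S with hJ
  obtain ⟨A₀, hA₀⟩ := exists_maxElementaryAbelian p S
  have ha : sInf (Cfsg.maxElementaryAbelianSubgroups p S) ≤ Cfsg.omegaCenterThompson p S := by
    intro x hx
    rw [Subgroup.mem_sInf] at hx
    unfold Cfsg.omegaCenterThompson Cfsg.omegaOne
    apply Subgroup.subset_closure
    have hxJ : x ∈ J := le_thompsonSubgroup hA₀ (hx A₀ hA₀)
    have hxC : x ∈ Subgroup.centralizer (J : Set S) := by
      have : J ≤ Subgroup.centralizer {x} := by
        apply sSup_le
        intro A hA a ha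
        rw [Subgroup.mem_centralizer_iff]
        intro y hy
        rw [Set.mem_singleton_iff] at hy
        subst hy
        have hAc := ((isElementaryAbelian_iff p A).1 hA.1).1
        exact hAc y (hx A hA) a ha
      rw [Subgroup.mem_centralizer_iff]
      intro e he
      exact ((Subgroup.mem_centralizer_iff.1 (this he)) x rfl).symm
    exact ⟨⟨hxJ, hxC⟩, ((isElementaryAbelian_iff p A₀).1 hA₀.1).2 x (hx A₀ hA₀)⟩
  have hb : Cfsg.omegaCenterThompson p S ≤
      Cfsg.omegaOne p (Subgroup.centralizer (J : Set S)) := by
    unfold Cfsg.omegaCenterThompson Cfsg.omegaOne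
    apply Subgroup.closure_mono
    rintro x ⟨hx1, hx2⟩
    exact ⟨hx1.2, hx2⟩
  have hc : Cfsg.omegaOne p (Subgroup.centralizer (J : Set S)) ≤
      sInf (Cfsg.maxElementaryAbelianSubgroups p S) := by
    unfold Cfsg.omegaOne
    rw [Subgroup.closure_le]
    rintro x ⟨hx1, hx2⟩
    rw [SetLike.mem_coe, Subgroup.mem_sInf]
    intro A hA
    apply mem_of_mem_max_of_commute hA hx2
    intro a ha'
    exact (Subgroup.mem_centralizer_iff.1 hx1) a (le_thompsonSubgroup hA ha')
  exact ⟨le_antisymm ha (hb.trans hc), le_antisymm hb (hc.trans ha)⟩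

end Cfsg.Agent.S0655
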