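import Cfsg.Statements.S0660
import Cfsg.Agent.Lib.Helper2.Maschke
import Cfsg.Agent.Lib.Helper2.Index

set_option autoImplicit false
set_option linter.style.haveILetI false
open Cfsg

namespace Cfsg.Agent.S0660

open Cfsg.Agent.Lib.Helper2
open scoped IsMulCommutative

/-- conjugation action of a normalising subgroup -/
def conjAct {G : Type*} [Group G] (V A : Subgroup G) (hAV : A ≤ Subgroup.normalizer (V : Set G)) :
    A →* MulAut V where
  toFun a :=
    { toFun := fun v => ⟨(a : G) * v * (a : G)⁻¹, (Subgroup.mem_normalizer_iff.1 (hAV a.2) v).1 v.2⟩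
      invFun := fun v => ⟨(a : G)⁻¹ * v * (a : G), by
        have := (Subgroup.mem_normalizer_iff.1 (hAV a.2) ((a : G)⁻¹ * v * (a : G))).2
        apply this
        have h : (a : G) * ((a : G)⁻¹ * v * (a : G)) * (a : G)⁻¹ = v := by group
        rw [h]; exact v.2⟩
      left_inv := fun v => by apply Subtype.ext; simp only []; group
      right_inv := fun v => by apply Subtype.ext; simp only []; group
      map_mul' := fun v w => by apply Subtype.ext; simp only [Subgroup.coe_mul]; group }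
  map_one' := by
    apply MulEquiv.ext
    intro v
    apply Subtype.ext
    simp
  map_mul' a b := by
    apply MulEquiv.ext
    intro v
    apply Subtype.ext
    simp only [Subgroup.coe_mul, MulAut.mul_apply, MulEquiv.coe_mk, Equiv.coe_fn_mk]
    group

theorem conjAct_coe {G : Type*} [Group G] (V A : Subgroup G) (hAV : A ≤ Subgroup.normalizer (V : Set G))
    (a : A) (v : V) : ((conjAct V A hAV a v : V) : G) = (a : G) * v * (a : G)⁻¹ := rfl

/-- Under a coprime action on an abelian group, an invariant subgroup that is complemented admits an invariant complement. -/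
theorem result {G : Type*} [Group G] [Finite G] (V A U : Subgroup G) (hVab : IsMulCommutative V) (hAV : A ≤ Subgroup.normalizer (V : Set G)) (hcop : (Nat.card A).Coprime (Nat.card V)) (hUV : U ≤ V) (hAU : A ≤ Subgroup.normalizer (U : Set G)) (W : Subgroup G) (hWV : W ≤ V) (hUW : U ⊓ W = ⊥) (hUWV : U ⊔ W = V) : ∃ W' : Subgroup G, W' ≤ V ∧ A ≤ Subgroup.normalizer (W' : Set G) ∧ U ⊓ W' = ⊥ ∧ U ⊔ W' = V := by
  classical
  set φ := conjAct V A hAV with hφ
  have hU' : ∀ a : A, ∀ u ∈ U.subgroupOf V, φ a u ∈ U.subgroupOf V := by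
    intro a u hu
    rw [Subgroup.mem_subgroupOf] at hu ⊢
    rw [conjAct_coe]
    exact (Subgroup.mem_normalizer_iff.1 (hAU a.2) u).1 hu
  have hinf : U.subgroupOf V ⊓ W.subgroupOf V = ⊥ := by
    rw [eq_bot_iff]
    intro x hx
    have h1 : (x : G) ∈ U ⊓ W := ⟨Subgroup.mem_subgroupOf.1 hx.1, Subgroup.mem_subgroupOf.1 hx.2⟩
    rw [hUW, Subgroup.mem_bot] at h1
    rw [Subgroup.mem_bot]
    exact Subtype.ext h1
  have hsup : U.subgroupOf V ⊔ W.subgroupOf V = ⊤ := by
    rw [eq_top_iff]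
    intro x _
    have hx : (x : G) ∈ U ⊔ W := by rw [hUWV]; exact x.2
    -- decompose using commutativity inside V
    have hcomm : ∀ u ∈ U, ∀ w ∈ W, u * w = w * u := by
      intro u hu w hw
      have := mul_comm' (⟨u, hUV hu⟩ : V) ⟨w, hWV hw⟩
      exact congrArg Subtype.val this
    have hdec : ∀ g ∈ U ⊔ W, ∃ u ∈ U, ∃ w ∈ W, g = u * w := fun g hg =>
      exists_mul_of_mem_sup_of_le_normalizer (le_normalizer_of_commute U W hcomm) hg
    obtain ⟨u, hu, w, hw, huw⟩ := hdec _ hx
    have : x = (⟨u, hUV hu⟩ : V) * ⟨w, hWV hw⟩ := Subtype.ext huw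
    rw [this]
    exact Subgroup.mul_mem_sup (Subgroup.mem_subgroupOf.2 hu) (Subgroup.mem_subgroupOf.2 hw)
  obtain ⟨W', hW'inv, hW'inf, hW'sup⟩ :=
    exists_invariant_complement φ hcop (U.subgroupOf V) (W.subgroupOf V) hU' hinf hsup
  refine ⟨W'.map V.subtype, ?_, ?_, ?_, ?_⟩
  · exact Subgroup.map_subtype_le W'
  · intro a ha
    rw [Subgroup.mem_normalizer_iff]
    intro g
    constructor
    · rintro ⟨w, hw, rfl⟩
      exact ⟨φ ⟨a, ha⟩ w, hW'inv ⟨a, ha⟩ w hw, rfl⟩
    · rintro ⟨w, hw, hwg⟩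
      refine ⟨φ ⟨a, ha⟩⁻¹ w, hW'inv _ w hw, ?_⟩
      show ((φ ⟨a, ha⟩⁻¹ w : V) : G) = g
      rw [conjAct_coe]
      have : ((w : V) : G) = a * g * a⁻¹ := hwg
      rw [this]
      simp only [Subgroup.coe_inv, inv_inv]
      group
  · rw [eq_bot_iff]
    rintro g ⟨hgU, w, hw, rfl⟩
    have h1 : w ∈ U.subgroupOf V ⊓ W' := ⟨Subgroup.mem_subgroupOf.2 hgU, hw⟩
    rw [hW'inf, Subgroup.mem_bot] at h1
    rw [h1]
    simp
  · apply le_antisymm
    · exact sup_le hUV (Subgroup.map_subtype_le W')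
    · intro v hv
      have hx : (⟨v, hv⟩ : V) ∈ U.subgroupOf V ⊔ W' := by rw [hW'sup]; trivial
      obtain ⟨u, hu, w, hw, huw⟩ := Subgroup.mem_sup.1 hx
      have : v = (u : G) * (w : G) := by
        have := congrArg Subtype.val huw
        simpa using this.symm
      rw [this]
      exact Subgroup.mul_mem_sup (Subgroup.mem_subgroupOf.1 hu) ⟨w, hw, rfl⟩

end Cfsg.Agent.S0660
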