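import Cfsg.Statements.S0662
import Mathlib
import Cfsg.Agent.Lib.Helper9.ExtraSub

set_option autoImplicit false
open Cfsg

namespace Cfsg.Agent.S0662

set_option maxRecDepth 100000
open Cfsg

section pgroup
variable {Q : Type*} [Group Q] [Finite Q] {p : ℕ} [Fact p.Prime]

theorem comm_of_cyclic_ab (hQ : IsPGroup p Q) (x : Q)
    (hx : ∀ g : Q, ∃ k : ℤ, (x ^ k)⁻¹ * g ∈ commutator Q) : ∀ a b : Q, a * b = b * a := by
  have h1 : Subgroup.zpowers x ⊔ frattini Q = ⊤ := by
    rw [eq_top_iff]
    intro g _
    obtain ⟨k, hk⟩ := hx g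
    have : g = x ^ k * ((x ^ k)⁻¹ * g) := by group
    rw [this]
    exact Subgroup.mul_mem _ (Subgroup.mem_sup_left (Subgroup.zpow_mem _ (Subgroup.mem_zpowers x) k))
      (Subgroup.mem_sup_right (Cfsg.Agent.Lib.Helper9.commutator_le_frattini_of_isPGroup p hQ hk))
  have h2 : Subgroup.zpowers x = ⊤ := frattini_nongenerating h1
  intro a b
  have ha : a ∈ Subgroup.zpowers x := h2 ▸ Subgroup.mem_top a
  have hb : b ∈ Subgroup.zpowers x := h2 ▸ Subgroup.mem_top b
  obtain ⟨i, rfl⟩ := Subgroup.mem_zpowers_iff.1 ha
  obtain ⟨j, rfl⟩ := Subgroup.mem_zpowers_iff.1 hb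
  rw [← zpow_add, ← zpow_add, add_comm]

theorem commutator_eq_bot_of_comm (h : ∀ a b : Q, a * b = b * a) : commutator Q = ⊥ := by
  rw [commutator_def, Subgroup.commutator_eq_bot_iff_le_centralizer]
  intro a _
  rw [Subgroup.mem_centralizer_iff]
  intro b _
  exact h b a

theorem index_commutator (hQ : IsPGroup p Q) (r : ℕ) (hr : 2 ≤ r) (hcard : Nat.card Q = p ^ r) :
    ∃ j, 2 ≤ j ∧ (commutator Q).index = p ^ j := by
  have hpp : p.Prime := Fact.out
  have hdvd : (commutator Q).index ∣ p ^ r := by rw [← hcard]; exact Subgroup.index_dvd_card _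
  obtain ⟨j, hj, hj'⟩ := (Nat.dvd_prime_pow hpp).1 hdvd
  refine ⟨j, ?_, hj'⟩
  by_contra hcon
  push Not at hcon
  have hcomm : ∀ a b : Q, a * b = b * a := by
    have hj1 : j = 0 ∨ j = 1 := by omega
    rcases hj1 with rfl | rfl
    · rw [pow_zero, Subgroup.index_eq_one] at hj'
      apply comm_of_cyclic_ab hQ 1
      intro g
      exact ⟨0, by rw [hj']; exact Subgroup.mem_top _⟩
    · rw [pow_one] at hj'
      have hc : Nat.card (Q ⧸ commutator Q) = p := by rw [← Subgroup.index_eq_card]; exact hj'
      haveI : IsCyclic (Q ⧸ commutator Q) := isCyclic_of_prime_card hc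
      obtain ⟨g₀, hg₀⟩ := IsCyclic.exists_generator (α := Q ⧸ commutator Q)
      obtain ⟨x, rfl⟩ := QuotientGroup.mk_surjective g₀
      apply comm_of_cyclic_ab hQ x
      intro g
      obtain ⟨k, hk⟩ := Subgroup.mem_zpowers_iff.1 (hg₀ (QuotientGroup.mk g))
      refine ⟨k, ?_⟩
      rw [← QuotientGroup.eq]
      rw [← hk]; rfl
  have hbot := commutator_eq_bot_of_comm hcomm
  rw [hbot, Subgroup.index_bot, hcard] at hj'
  have := Nat.pow_right_injective hpp.two_le hj'
  omega

theorem lcs_data (hQ : IsPGroup p Q) (r : ℕ) (hr : 2 ≤ r) (hcard : Nat.card Q = p ^ r) :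
    ∃ a : ℕ → ℕ, (∀ i, Nat.card ((⊤ : Subgroup Q).lowerCentralSeries i) = p ^ (a i)) ∧ a 0 = r ∧
      (∀ i, a (i + 1) ≤ a i) ∧ (∀ i, a i ≠ 0 → a (i + 1) < a i) ∧ a 1 + 2 ≤ r := by
  have hpp : p.Prime := Fact.out
  haveI : Group.IsNilpotent Q := hQ.isNilpotent
  have hcards : ∀ i, ∃ k, Nat.card ((⊤ : Subgroup Q).lowerCentralSeries i) = p ^ k :=
    fun i => IsPGroup.iff_card.1 (hQ.to_subgroup _)
  choose a ha using hcards
  have hmono : ∀ i, a (i + 1) ≤ a i := by
    intro i
    have h1 : (⊤ : Subgroup Q).lowerCentralSeries (i + 1) ≤ (⊤ : Subgroup Q).lowerCentralSeries i :=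
      Subgroup.lowerCentralSeries_antitone _ (Nat.le_succ i)
    have h2 := Subgroup.card_dvd_of_le h1
    rw [ha, ha] at h2
    exact (Nat.pow_dvd_pow_iff_le_right hpp.one_lt).1 h2
  refine ⟨a, ha, ?_, hmono, ?_, ?_⟩
  · have h1 := ha 0
    rw [Subgroup.lowerCentralSeries_zero, Subgroup.card_top, hcard] at h1
    exact (Nat.pow_right_injective hpp.two_le h1).symm
  · intro i hi
    rcases Nat.lt_or_ge (a (i + 1)) (a i) with h | h
    · exact h
    · exfalso
      have heq : (⊤ : Subgroup Q).lowerCentralSeries (i + 1) = (⊤ : Subgroup Q).lowerCentralSeries i := by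
        apply Subgroup.eq_of_le_of_card_ge (Subgroup.lowerCentralSeries_antitone _ (Nat.le_succ i))
        rw [ha, ha]
        exact Nat.pow_le_pow_right hpp.pos h
      have hstat : ∀ m, (⊤ : Subgroup Q).lowerCentralSeries (i + m) =
          (⊤ : Subgroup Q).lowerCentralSeries i := by
        intro m
        induction m with
        | zero => rfl
        | succ m ih =>
          rw [← add_assoc, Subgroup.lowerCentralSeries_succ, ih, ← Subgroup.lowerCentralSeries_succ, heq]
      have hne : (⊤ : Subgroup Q).lowerCentralSeries i ≠ ⊥ := by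
        intro hb
        have := ha i
        rw [hb, Subgroup.card_bot] at this
        have h1 : 1 < p ^ a i := Nat.one_lt_pow hi hpp.one_lt
        omega
      have hc := Subgroup.lowerCentralSeries_nilpotencyClass (G := Q)
      rcases Nat.le_total i (Group.nilpotencyClass Q) with hle | hle
      · obtain ⟨m, hm⟩ := Nat.exists_eq_add_of_le hle
        rw [hm, hstat] at hc
        exact hne hc
      · have := Subgroup.lowerCentralSeries_antitone (⊤ : Subgroup Q) hle
        rw [hc, le_bot_iff] at this
        exact hne this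
  · obtain ⟨j, hj, hj'⟩ := index_commutator hQ r hr hcard
    have h1 := (commutator Q).card_mul_index
    have h2 : Nat.card (commutator Q) = p ^ a 1 := ha 1
    rw [h2, hj', hcard, ← pow_add] at h1
    have := Nat.pow_right_injective hpp.two_le h1
    omega

/-- arithmetic: the bound `a i ≤ r - 1 - i` -/
theorem bound_A (a : ℕ → ℕ) (r : ℕ) (h0 : a 0 = r) (hs : ∀ i, a i ≠ 0 → a (i + 1) < a i)
    (hm : ∀ i, a (i + 1) ≤ a i) (h1 : a 1 + 2 ≤ r) : ∀ i, 1 ≤ i → a i ≤ r - 1 - i := by
  intro i hi
  induction i with
  | zero => omega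
  | succ i ih =>
    rcases Nat.eq_zero_or_pos i with rfl | hpos
    · simp only [zero_add]; omega
    · have := ih hpos
      by_cases h : a i = 0
      · have := hm i; omega
      · have := hs i h; omega

/-- arithmetic: maximal class forces equality -/
theorem bound_B (a : ℕ → ℕ) (r : ℕ) (h0 : a 0 = r) (hs : ∀ i, a i ≠ 0 → a (i + 1) < a i)
    (hm : ∀ i, a (i + 1) ≤ a i) (h1 : a 1 + 2 ≤ r) (hr : 3 ≤ r) (hmax : a (r - 2) ≠ 0) :
    ∀ i, 1 ≤ i → i ≤ r - 1 → a i = r - 1 - i := by
  have hA := bound_A a r h0 hs hm h1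
  have key : ∀ t, t + 3 ≤ r → t + 1 ≤ a (r - 2 - t) := by
    intro t
    induction t with
    | zero => intro _; simp only [Nat.sub_zero]; omega
    | succ t ih =>
      intro ht
      have h2 := ih (by omega)
      have e : r - 2 - t = (r - 2 - (t + 1)) + 1 := by omega
      rw [e] at h2
      by_cases h : a (r - 2 - (t + 1)) = 0
      · have := hm (r - 2 - (t + 1)); omega
      · have := hs _ h; omega
  intro i hi hir
  have hle := hA i hi
  rcases Nat.eq_or_lt_of_le hir with rfl | hlt
  · omega
  · have := key (r - 2 - i) (by omega)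
    have e : r - 2 - (r - 2 - i) = i := by omega
    rw [e] at this
    omega

end pgroup


theorem count_subgroups {A : Type*} [Group A] [Finite A] (p : ℕ) [Fact p.Prime]
    (hA : Nat.card A = p ^ 2) (hexp : ∀ x : A, x ^ p = 1) :
    Nat.card {H : Subgroup A // Nat.card H = p} = p + 1 := by
  classical
  have hpp : p.Prime := Fact.out
  haveI : Fintype A := Fintype.ofFinite A
  haveI : Fintype (Subgroup A) := Fintype.ofFinite _
  let s : Finset A := Finset.univ.filter (fun x => x ≠ 1)
  let t : Finset (Subgroup A) := Finset.univ.filter (fun H => Nat.card H = p)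
  have hs : s.card = p ^ 2 - 1 := by
    have : s = Finset.univ.erase 1 := by
      ext x; simp [s]
    rw [this, Finset.card_erase_of_mem (Finset.mem_univ _), Finset.card_univ,
      ← Nat.card_eq_fintype_card, hA]
  have key := Finset.sum_card_bipartiteAbove_eq_sum_card_bipartiteBelow (s := s) (t := t)
    (fun (x : A) (H : Subgroup A) => x ∈ H)
  have hL : ∀ x ∈ s, (t.bipartiteAbove (fun (x : A) (H : Subgroup A) => x ∈ H) x).card = 1 := by
    intro x hx
    have hx1 : x ≠ 1 := (Finset.mem_filter.1 hx).2
    rw [Finset.card_eq_one]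
    refine ⟨Subgroup.zpowers x, ?_⟩
    ext H
    simp only [Finset.bipartiteAbove, Finset.mem_filter, Finset.mem_singleton, t, Finset.mem_univ,
      true_and]
    constructor
    · rintro ⟨hH, hxH⟩
      symm
      apply Subgroup.eq_of_le_of_card_ge (Subgroup.zpowers_le.2 hxH)
      rw [hH, Nat.card_zpowers, orderOf_eq_prime (hexp x) hx1]
    · rintro rfl
      exact ⟨by rw [Nat.card_zpowers, orderOf_eq_prime (hexp x) hx1], Subgroup.mem_zpowers x⟩
  have hR : ∀ H ∈ t, (s.bipartiteBelow (fun (x : A) (H : Subgroup A) => x ∈ H) H).card = p - 1 := by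
    intro H hH
    have hHc : Nat.card H = p := (Finset.mem_filter.1 hH).2
    have : s.bipartiteBelow (fun (x : A) (H : Subgroup A) => x ∈ H) H =
        (Finset.univ.filter (fun x => x ∈ H)).erase 1 := by
      ext x
      simp only [Finset.bipartiteBelow, Finset.mem_filter, s, Finset.mem_univ, true_and,
        Finset.mem_erase]
    rw [this, Finset.card_erase_of_mem (by simp [H.one_mem])]
    have h2 : (Finset.univ.filter (fun x => x ∈ H)).card = Nat.card H := by
      rw [Nat.card_eq_fintype_card, Fintype.card_subtype]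
    rw [h2, hHc]
  rw [Finset.sum_congr rfl hL, Finset.sum_congr rfl hR, Finset.sum_const, Finset.sum_const,
    smul_eq_mul, smul_eq_mul, mul_one, hs] at key
  have ht : Nat.card {H : Subgroup A // Nat.card H = p} = t.card := by
    rw [Nat.card_eq_fintype_card, Fintype.card_subtype]
  rw [ht]
  have h3 : p ^ 2 - 1 = (p + 1) * (p - 1) := by
    obtain ⟨q, rfl⟩ : ∃ q, p = q + 1 := ⟨p - 1, by have := hpp.pos; omega⟩
    simp only [Nat.add_sub_cancel]
    have : (q + 1) ^ 2 = (q + 1 + 1) * q + 1 := by ring
    rw [this, Nat.add_sub_cancel]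
  rw [h3] at key
  have hp1 : 0 < p - 1 := by have := hpp.two_le; omega
  exact (Nat.eq_of_mul_eq_mul_right hp1 key).symm


theorem comm_of_prime_card {Q : Type*} [Group Q] {p : ℕ} [Fact p.Prime] (h : Nat.card Q = p) :
    ∀ a b : Q, a * b = b * a := by
  haveI : IsCyclic Q := isCyclic_of_prime_card h
  obtain ⟨g₀, hg₀⟩ := IsCyclic.exists_generator (α := Q)
  intro a b
  obtain ⟨i, rfl⟩ := Subgroup.mem_zpowers_iff.1 (hg₀ a)
  obtain ⟨j, rfl⟩ := Subgroup.mem_zpowers_iff.1 (hg₀ b)
  rw [← zpow_add, ← zpow_add, add_comm]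

theorem main0662 {G : Type*} [Group G] [Finite G] {p : ℕ} [Fact p.Prime] (n : ℕ) (hG : Nat.card G = p ^ n) (hcl : Group.nilpotencyClass G = n - 1) (hn : 3 ≤ n) : (∀ (N : Subgroup G) [N.Normal] (r : ℕ), 2 ≤ r → N.index = p ^ r → N = (⊤ : Subgroup G).lowerCentralSeries (r - 1)) ∧ Nat.card {N : Subgroup G // N.Normal ∧ N.index = p} = p + 1 := by
  have hpp : p.Prime := Fact.out
  have hPG : IsPGroup p G := IsPGroup.of_card hG
  haveI : Group.IsNilpotent G := hPG.isNilpotent
  obtain ⟨a, ha, ha0, ham, has, ha1⟩ := lcs_data hPG n (by omega) hG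
  have hmax : a (n - 2) ≠ 0 := by
    intro h0
    have h1 := ha (n - 2)
    rw [h0, pow_zero, Subgroup.card_eq_one, Subgroup.lowerCentralSeries_eq_bot_iff_nilpotencyClass_le,
      hcl] at h1
    omega
  have hB := bound_B a n ha0 has ham ha1 hn hmax
  have hidx : ∀ i, 1 ≤ i → i ≤ n - 1 →
      ((⊤ : Subgroup G).lowerCentralSeries i).index = p ^ (i + 1) := by
    intro i hi hin
    have h1 := ((⊤ : Subgroup G).lowerCentralSeries i).card_mul_index
    rw [ha, hB i hi hin, hG] at h1
    have h2 : p ^ n = p ^ (n - 1 - i) * p ^ (i + 1) := by rw [← pow_add]; congr 1; omega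
    rw [h2] at h1
    exact Nat.eq_of_mul_eq_mul_left (pow_pos hpp.pos _) h1
  constructor
  · intro N hN r hr hNr
    have hrn : r ≤ n := by
      have : p ^ r ∣ p ^ n := by rw [← hNr, ← hG]; exact Subgroup.index_dvd_card N
      exact (Nat.pow_dvd_pow_iff_le_right hpp.one_lt).1 this
    have hQc : Nat.card (G ⧸ N) = p ^ r := by rw [← Subgroup.index_eq_card]; exact hNr
    have hQ : IsPGroup p (G ⧸ N) := IsPGroup.of_card hQc
    obtain ⟨b, hb, hb0, hbm, hbs, hb1⟩ := lcs_data hQ r hr hQc
    have hA := bound_A b r hb0 hbs hbm hb1 (r - 1) (by omega)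
    have hb' : b (r - 1) = 0 := by omega
    have h1 := hb (r - 1)
    rw [hb', pow_zero, Subgroup.card_eq_one] at h1
    have h2 : ((⊤ : Subgroup G).lowerCentralSeries (r - 1)).map (QuotientGroup.mk' N) = ⊥ := by
      rw [Subgroup.map_lowerCentralSeries,
        Subgroup.map_top_of_surjective _ (QuotientGroup.mk'_surjective N)]
      exact h1
    have hle : (⊤ : Subgroup G).lowerCentralSeries (r - 1) ≤ N := by
      have := (Subgroup.map_eq_bot_iff _).1 h2
      rwa [QuotientGroup.ker_mk'] at this
    have hidxL := hidx (r - 1) (by omega) (by omega)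
    have e : r - 1 + 1 = r := by omega
    rw [e] at hidxL
    have h3 := Subgroup.relIndex_mul_index hle
    rw [hNr, hidxL] at h3
    have h4 : ((⊤ : Subgroup G).lowerCentralSeries (r - 1)).relIndex N = 1 := by
      have : ((⊤ : Subgroup G).lowerCentralSeries (r - 1)).relIndex N * p ^ r = 1 * p ^ r := by
        rw [h3, one_mul]
      exact Nat.eq_of_mul_eq_mul_right (pow_pos hpp.pos _) this
    exact le_antisymm (Subgroup.relIndex_eq_one.1 h4) hle
  · -- the abelianization
    have hker : (Abelianization.of : G →* Abelianization G).ker = commutator G := Abelianization.ker_of G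
    have hsurj : Function.Surjective (Abelianization.of : G →* Abelianization G) :=
      QuotientGroup.mk_surjective
    have hAc : Nat.card (Abelianization G) = p ^ 2 := by
      have h1 := hidx 1 (by omega) (by omega)
      rw [Subgroup.top_lowerCentralSeries_one, Subgroup.index_eq_card] at h1
      exact h1
    have hncomm : ¬ ∀ a b : G, a * b = b * a := by
      intro hc
      have h1 := hidx 1 (by omega) (by omega)
      rw [Subgroup.top_lowerCentralSeries_one, commutator_eq_bot_of_comm hc, Subgroup.index_bot, hG]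
        at h1
      have := Nat.pow_right_injective hpp.two_le h1
      omega
    have hexp : ∀ x : Abelianization G, x ^ p = 1 := by
      intro x
      by_contra hx
      have h1 : orderOf x ∣ p ^ 2 := by rw [← hAc]; exact orderOf_dvd_natCard x
      obtain ⟨j, hj, hj'⟩ := (Nat.dvd_prime_pow hpp).1 h1
      have hj2 : j = 2 := by
        by_contra hne
        have hj1 : j ≤ 1 := by omega
        apply hx
        have : orderOf x ∣ p := by
          rw [hj']
          calc p ^ j ∣ p ^ 1 := pow_dvd_pow p hj1
            _ = p := pow_one p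
        exact orderOf_dvd_iff_pow_eq_one.1 this
      rw [hj2] at hj'
      have htop : Subgroup.zpowers x = ⊤ := by
        apply Subgroup.eq_top_of_card_eq
        rw [Nat.card_zpowers, hj', hAc]
      apply hncomm
      obtain ⟨x₀, rfl⟩ := hsurj x
      apply comm_of_cyclic_ab hPG x₀
      intro g
      have hg : Abelianization.of g ∈ Subgroup.zpowers (Abelianization.of x₀) := by
        rw [htop]; exact Subgroup.mem_top _
      obtain ⟨k, hk⟩ := Subgroup.mem_zpowers_iff.1 hg
      refine ⟨k, ?_⟩
      rw [← hker, MonoidHom.mem_ker, map_mul, map_inv, map_zpow, hk, inv_mul_cancel]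
    rw [← count_subgroups p hAc hexp]
    have hcomle : ∀ N : Subgroup G, N.Normal → N.index = p → commutator G ≤ N := by
      intro N hN hNp
      haveI := hN
      have hc : Nat.card (G ⧸ N) = p := by rw [← Subgroup.index_eq_card]; exact hNp
      have hcomm := comm_of_prime_card hc
      rw [commutator_def, Subgroup.commutator_le]
      intro a _ b _
      rw [← QuotientGroup.eq_one_iff]
      have := map_commutatorElement (QuotientGroup.mk' N) a b
      rw [QuotientGroup.mk'_apply] at this
      rw [this, commutatorElement_eq_one_iff_mul_comm]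
      exact hcomm _ _
    have hcardmap : ∀ N : Subgroup G, N.Normal → N.index = p →
        Nat.card (N.map (Abelianization.of : G →* Abelianization G)) = p := by
      intro N hN hNp
      have h1 : (N.map (Abelianization.of : G →* Abelianization G)).index = p := by
        rw [Subgroup.index_map_eq _ hsurj (by rw [hker]; exact hcomle N hN hNp)]; exact hNp
      have h2 := (N.map (Abelianization.of : G →* Abelianization G)).card_mul_index
      rw [h1, hAc] at h2
      have : Nat.card (N.map (Abelianization.of : G →* Abelianization G)) * p = p * p := by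
        rw [h2, pow_two]
      exact Nat.eq_of_mul_eq_mul_right hpp.pos this
    let f : {N : Subgroup G // N.Normal ∧ N.index = p} →
        {H : Subgroup (Abelianization G) // Nat.card H = p} :=
      fun N => ⟨N.1.map (Abelianization.of : G →* Abelianization G), hcardmap N.1 N.2.1 N.2.2⟩
    apply Nat.card_congr (Equiv.ofBijective f ⟨?_, ?_⟩)
    · intro N₁ N₂ h
      have h' : N₁.1.map (Abelianization.of : G →* Abelianization G) =
          N₂.1.map (Abelianization.of : G →* Abelianization G) := congrArg Subtype.val h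
      apply Subtype.ext
      have e1 := Subgroup.comap_map_eq_self (f := (Abelianization.of : G →* Abelianization G))
        (H := N₁.1) (by rw [hker]; exact hcomle _ N₁.2.1 N₁.2.2)
      have e2 := Subgroup.comap_map_eq_self (f := (Abelianization.of : G →* Abelianization G))
        (H := N₂.1) (by rw [hker]; exact hcomle _ N₂.2.1 N₂.2.2)
      rw [← e1, ← e2, h']
    · rintro ⟨H, hH⟩
      refine ⟨⟨H.comap (Abelianization.of : G →* Abelianization G), ?_, ?_⟩, ?_⟩
      · exact Subgroup.Normal.comap inferInstance _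
      · rw [Subgroup.index_comap_of_surjective _ hsurj]
        have h2 := H.card_mul_index
        rw [hH, hAc] at h2
        have : p * H.index = p * p := by rw [h2, pow_two]
        exact Nat.eq_of_mul_eq_mul_left hpp.pos this
      · apply Subtype.ext
        exact Subgroup.map_comap_eq_self_of_surjective hsurj H


/-- In a p-group of maximal class of order at least p³ the normal subgroups of index at least p² are exactly the terms of the lower central series, and there are exactly p + 1 normal subgroups of index p. -/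
theorem result {G : Type*} [Group G] [Finite G] {p : ℕ} [Fact p.Prime] (n : ℕ) (hG : Nat.card G = p ^ n) (hcl : Group.nilpotencyClass G = n - 1) (hn : 3 ≤ n) : (∀ (N : Subgroup G) [N.Normal] (r : ℕ), 2 ≤ r → N.index = p ^ r → N = (⊤ : Subgroup G).lowerCentralSeries (r - 1)) ∧ Nat.card {N : Subgroup G // N.Normal ∧ N.index = p} = p + 1 := by
  exact main0662 n hG hcl hn

end Cfsg.Agent.S0662
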