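import Cfsg.Statements.S0663
import Mathlib
import Cfsg.Agent.Lib.Helper2.Nilp
import Cfsg.Agent.Lib.Helper2.Index
-- import your own Cfsg.Agent.* helpers here

set_option autoImplicit false
open Cfsg

namespace Cfsg.Agent.S0663

open scoped commutatorElement

section
variable {L : Type*} [Group L]

theorem card_mul_relIndex {H K : Subgroup L} (h : H ≤ K) :
    Nat.card H * H.relIndex K = Nat.card K := by
  rw [← Subgroup.relIndex_bot_left, ← Subgroup.relIndex_bot_left,
    Subgroup.relIndex_mul_relIndex _ _ _ bot_le h]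

theorem le_normalizer_inf {K H₁ H₂ : Subgroup L} (h1 : K ≤ Subgroup.normalizer (H₁ : Set L))
    (h2 : K ≤ Subgroup.normalizer (H₂ : Set L)) :
    K ≤ Subgroup.normalizer ((H₁ ⊓ H₂ : Subgroup L) : Set L) := by
  intro k hk
  rw [Subgroup.mem_normalizer_iff]
  intro x
  rw [Subgroup.mem_inf, Subgroup.mem_inf, ← Subgroup.mem_normalizer_iff.1 (h1 hk) x,
    ← Subgroup.mem_normalizer_iff.1 (h2 hk) x]

theorem le_normalizer_commutator {K H₁ H₂ : Subgroup L}
    (h1 : K ≤ Subgroup.normalizer (H₁ : Set L)) (h2 : K ≤ Subgroup.normalizer (H₂ : Set L)) :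
    K ≤ Subgroup.normalizer ((⁅H₁, H₂⁆ : Subgroup L) : Set L) := by
  intro k hk
  rw [Subgroup.mem_normalizer_iff_map_conj_eq, Subgroup.map_commutator,
    Subgroup.mem_normalizer_iff_map_conj_eq.1 (h1 hk),
    Subgroup.mem_normalizer_iff_map_conj_eq.1 (h2 hk)]

theorem comm_le_left {H G : Subgroup L} (hGH : G ≤ Subgroup.normalizer (H : Set L)) :
    ⁅H, G⁆ ≤ H := by
  rw [Subgroup.commutator_le]
  intro b hb a ha
  have h1 : ⁅b, a⁆ = b * (a * b⁻¹ * a⁻¹) := by simp only [commutatorElement_def, mul_assoc]
  rw [h1]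
  exact H.mul_mem hb ((Subgroup.mem_normalizer_iff.1 (hGH ha) b⁻¹).1 (H.inv_mem hb))

theorem eq_or_eq_of_relIndex_prime {p : ℕ} (hp : p.Prime) {A T M : Subgroup L} (hAT : A ≤ T)
    (hTM : T ≤ M) (hidx : A.relIndex M = p) : T = A ∨ T = M := by
  have h1 := Subgroup.relIndex_mul_relIndex A T M hAT hTM
  rw [hidx] at h1
  have h2 : A.relIndex T ∣ p := ⟨_, h1.symm⟩
  rcases (Nat.dvd_prime hp).1 h2 with h | h
  · left
    exact le_antisymm (Subgroup.relIndex_eq_one.1 h) hAT
  · right
    rw [h] at h1
    have h3 : T.relIndex M = 1 := by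
      have := hp.pos
      nlinarith
    exact le_antisymm hTM (Subgroup.relIndex_eq_one.1 h3)

theorem comm_ne_self [Finite L] {p : ℕ} [Fact p.Prime] {H G : Subgroup L} (hH : IsPGroup p H)
    (hG : IsPGroup p G) (hGH : G ≤ Subgroup.normalizer (H : Set L)) (hne : H ≠ ⊥) :
    ⁅H, G⁆ ≠ H := by
  intro h
  apply hne
  have hP : IsPGroup p (G ⊔ H : Subgroup L) := IsPGroup.to_sup_of_normal_right' hG hH hGH
  have hnil : Group.IsNilpotent (G ⊔ H : Subgroup L) := hP.isNilpotent
  apply Lib.Helper2.eq_bot_of_eq_commutator_of_nilpotent (le_sup_right) hnil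
  apply le_antisymm
  · calc H = ⁅H, G⁆ := h.symm
      _ ≤ ⁅H, G ⊔ H⁆ := Subgroup.commutator_mono le_rfl le_sup_left
  · exact comm_le_left (sup_le hGH Subgroup.le_normalizer)

end

section
variable {L : Type*} [Group L] [Finite L] {p : ℕ} [Fact p.Prime] (N G : Subgroup L)

theorem chain_inv (hGN : G ≤ Subgroup.normalizer (N : Set L)) (i : ℕ) :
    Cfsg.iterCommutator N G i ≤ N ∧
      G ≤ Subgroup.normalizer ((Cfsg.iterCommutator N G i : Subgroup L) : Set L) := by
  induction i with
  | zero => exact ⟨le_rfl, hGN⟩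
  | succ i ih =>
    refine ⟨?_, ?_⟩
    · exact (comm_le_left ih.2).trans ih.1
    · exact le_normalizer_commutator ih.2 Subgroup.le_normalizer

theorem chain_anti (hGN : G ≤ Subgroup.normalizer (N : Set L)) :
    Antitone (Cfsg.iterCommutator N G) :=
  antitone_nat_of_succ_le (fun i => comm_le_left (chain_inv N G hGN i).2)

/-- The structural consequences of the chain having the expected orders. -/
theorem structure_of_CH (hN : IsPGroup p N) (hG : IsPGroup p G)
    (hGN : G ≤ Subgroup.normalizer (N : Set L)) (n : ℕ)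
    (CH : ∀ i ≤ n, Nat.card (Cfsg.iterCommutator N G i) = p ^ (n - i)) :
    ∀ H : Subgroup L, H ≤ N → G ≤ Subgroup.normalizer (H : Set L) →
      (∃ i ≤ n, H = Cfsg.iterCommutator N G i) ∧ N ≤ Subgroup.normalizer (H : Set L) := by
  have hp : p.Prime := Fact.out
  obtain ⟨Ni, hNi⟩ : ∃ Ni : ℕ → Subgroup L, Ni = Cfsg.iterCommutator N G := ⟨_, rfl⟩
  rw [← hNi] at CH ⊢
  have hsucc : ∀ i, Ni (i + 1) = ⁅Ni i, G⁆ := by intro i; rw [hNi]; rfl
  have hzero : Ni 0 = N := by rw [hNi]; rfl
  have hinv : ∀ i, Ni i ≤ N ∧ G ≤ Subgroup.normalizer ((Ni i : Subgroup L) : Set L) := by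
    intro i; rw [hNi]; exact chain_inv N G hGN i
  have hanti : Antitone Ni := by rw [hNi]; exact chain_anti N G hGN
  have hbotn : Ni n = ⊥ := by
    have := CH n le_rfl
    rw [Nat.sub_self, pow_zero] at this
    exact Subgroup.card_eq_one.1 this
  have hbot : ∀ i, n ≤ i → Ni i = ⊥ := fun i hi => le_bot_iff.1 (hbotn ▸ hanti hi)
  have hidx : ∀ i < n, (Ni (i + 1)).relIndex (Ni i) = p := by
    intro i hi
    have h1 := card_mul_relIndex (hanti (Nat.le_succ i))
    rw [CH i hi.le, CH (i + 1) hi] at h1
    have h2 : p ^ (n - i) = p ^ (n - (i + 1)) * p := by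
      rw [← pow_succ]; congr 1; omega
    rw [h2] at h1
    exact Nat.eq_of_mul_eq_mul_left (pow_pos hp.pos _) h1
  have hne : ∀ i < n, Ni i ≠ ⊥ := by
    intro i hi h
    have := CH i hi.le
    rw [h, Subgroup.card_bot] at this
    have h3 : 1 < p ^ (n - i) := Nat.one_lt_pow (by omega) hp.one_lt
    omega
  -- (S1) the whole of N ⊔ G normalizes each term
  have hP : ∀ i, N ⊔ G ≤ Subgroup.normalizer ((Ni i : Subgroup L) : Set L) := by
    intro i
    induction i with
    | zero => rw [hzero]; exact sup_le Subgroup.le_normalizer hGN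
    | succ i ih =>
      by_cases hi : i < n
      · -- ⁅Ni i, G⁆ = ⁅Ni i, N ⊔ G⁆
        have hlt : ⁅Ni i, N ⊔ G⁆ ≠ Ni i := by
          have hPp : IsPGroup p (N ⊔ G : Subgroup L) :=
            IsPGroup.to_sup_of_normal_left' hN hG hGN
          exact comm_ne_self (hN.to_le (hinv i).1) hPp ih (hne i hi)
        have h1 : ⁅Ni i, G⁆ ≤ ⁅Ni i, N ⊔ G⁆ := Subgroup.commutator_mono le_rfl le_sup_right
        have h2 : ⁅Ni i, N ⊔ G⁆ ≤ Ni i := comm_le_left ih
        have h3 := hidx i hi
        rw [hsucc] at h3
        rcases eq_or_eq_of_relIndex_prime hp h1 h2 h3 with h | h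
        · rw [hsucc, ← h]
          exact le_normalizer_commutator ih Subgroup.le_normalizer
        · exact absurd h hlt
      · rw [hbot (i + 1) (by omega)]
        intro x _
        rw [Subgroup.mem_normalizer_iff]
        intro y
        simp [Subgroup.mem_bot]
  -- (S2)
  have S2 : ∀ k j, j + k = n → ∀ H : Subgroup L, H ≤ N →
      G ≤ Subgroup.normalizer (H : Set L) → H ≤ Ni j → ¬ H ≤ Ni (j + 1) → H = Ni j := by
    intro k
    induction k with
    | zero =>
      intro j hj H _ _ hHj hHj1
      exfalso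
      apply hHj1
      rw [hbot (j + 1) (by omega)]
      rw [hbot j (by omega)] at hHj
      exact hHj
    | succ k ih =>
      intro j hj H hHN hGH hHj hHj1
      have hjn : j < n := by omega
      have hsand : H ⊔ Ni (j + 1) = Ni j := by
        have h1 : Ni (j + 1) ≤ H ⊔ Ni (j + 1) := le_sup_right
        have h2 : H ⊔ Ni (j + 1) ≤ Ni j := sup_le hHj (hanti (Nat.le_succ j))
        rcases eq_or_eq_of_relIndex_prime hp h1 h2 (hidx j hjn) with h | h
        · exfalso
          apply hHj1
          rw [← h]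
          exact le_sup_left
        · exact h
      have hle : Ni (j + 1) ≤ H := by
        by_cases hb : Ni (j + 1) = ⊥
        · rw [hb]; exact bot_le
        · have hj1n : j + 1 < n := by
            by_contra hcon
            exact hb (hbot (j + 1) (by omega))
          have hH'inv : G ≤ Subgroup.normalizer ((H ⊓ Ni (j + 1) : Subgroup L) : Set L) :=
            le_normalizer_inf hGH (hinv (j + 1)).2
          have hnot : ¬ (H ⊓ Ni (j + 1) ≤ Ni (j + 1 + 1)) := by
            intro hcon
            -- then Ni (j+1) ≤ Ni (j+2)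
            have hle2 : Ni (j + 1) ≤ Ni (j + 1 + 1) := by
              rw [hsucc j, ← hsand, Subgroup.commutator_le]
              intro x hx g hg
              -- x = h * m
              have hHnorm : H ≤ Subgroup.normalizer ((Ni (j + 1) : Subgroup L) : Set L) :=
                (hHN.trans le_sup_left).trans (hP (j + 1))
              obtain ⟨h, hh, m, hm, rfl⟩ : ∃ h ∈ H, ∃ m ∈ Ni (j + 1), x = h * m :=
                Lib.Helper2.exists_mul_of_mem_sup_of_le_normalizer hHnorm hx
              have e1 : ⁅h * m, g⁆ = h * ⁅m, g⁆ * h⁻¹ * ⁅h, g⁆ := by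
                simp only [commutatorElement_def]; group
              rw [e1]
              have hmg : ⁅m, g⁆ ∈ Ni (j + 1 + 1) := by
                rw [hsucc (j + 1)]
                exact Subgroup.commutator_mem_commutator hm hg
              have hhn : h ∈ Subgroup.normalizer ((Ni (j + 1 + 1) : Subgroup L) : Set L) :=
                hP (j + 1 + 1) (Subgroup.mem_sup_left (hHN hh))
              have h2 : h * ⁅m, g⁆ * h⁻¹ ∈ Ni (j + 1 + 1) :=
                (Subgroup.mem_normalizer_iff.1 hhn _).1 hmg
              have h3 : ⁅h, g⁆ ∈ Ni (j + 1 + 1) := by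
                apply hcon
                refine Subgroup.mem_inf.2 ⟨?_, ?_⟩
                · exact comm_le_left hGH (Subgroup.commutator_mem_commutator hh hg)
                · rw [hsucc j]
                  exact Subgroup.commutator_mem_commutator (hHj hh) hg
              exact (Ni (j + 1 + 1)).mul_mem h2 h3
            have h4 := hidx (j + 1) hj1n
            rw [Subgroup.relIndex_eq_one.2 hle2] at h4
            exact hp.one_lt.ne h4
          have := ih (j + 1) (by omega) (H ⊓ Ni (j + 1)) (inf_le_left.trans hHN) hH'inv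
            inf_le_right hnot
          rw [← this]
          exact inf_le_left
      rcases eq_or_eq_of_relIndex_prime hp hle hHj (hidx j hjn) with h | h
      · exfalso
        apply hHj1
        rw [h]
      · exact h
  intro H hHN hGH
  have first : ∃ i ≤ n, H = Ni i := by
    by_cases hHb : H = ⊥
    · exact ⟨n, le_rfl, by rw [hHb, hbotn]⟩
    · classical
      obtain ⟨j, hjdef⟩ : ∃ j, j = Nat.findGreatest (fun j => H ≤ Ni j) n := ⟨_, rfl⟩
      have h0 : H ≤ Ni 0 := by rw [hzero]; exact hHN
      have hspec : H ≤ Ni j := by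
        rw [hjdef]
        exact Nat.findGreatest_spec (P := fun j => H ≤ Ni j) (Nat.zero_le n) h0
      have hjle : j ≤ n := by rw [hjdef]; exact Nat.findGreatest_le n
      have hjn : j ≠ n := by
        intro h
        apply hHb
        rw [h, hbotn] at hspec
        exact le_bot_iff.1 hspec
      have hnot : ¬ H ≤ Ni (j + 1) := by
        apply Nat.findGreatest_is_greatest (P := fun j => H ≤ Ni j) (n := n)
        · rw [← hjdef]; omega
        · omega
      exact ⟨j, hjle, S2 (n - j) j (by omega) H hHN hGH hspec hnot⟩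
  refine ⟨first, ?_⟩
  obtain ⟨i, _, rfl⟩ := first
  exact le_sup_left.trans (hP i)

theorem CH_of_U (hN : IsPGroup p N) (hGN : G ≤ Subgroup.normalizer (N : Set L)) (n : ℕ)
    (hn : Nat.card N = p ^ n)
    (hU : ∀ H : Subgroup L, H ≤ N → G ≤ Subgroup.normalizer (H : Set L) → H ≠ ⊥ →
      (⁅H, G⁆).relIndex H = p) :
    ∀ i ≤ n, Nat.card (Cfsg.iterCommutator N G i) = p ^ (n - i) := by
  have hp : p.Prime := Fact.out
  intro i
  induction i with
  | zero => intro _; exact hn
  | succ i ih =>
    intro hi
    have h1 := ih (by omega)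
    have hne : Cfsg.iterCommutator N G i ≠ ⊥ := by
      intro h
      rw [h, Subgroup.card_bot] at h1
      have h3 : 1 < p ^ (n - i) := Nat.one_lt_pow (by omega) hp.one_lt
      omega
    have hinv := chain_inv N G hGN i
    have h2 := hU _ hinv.1 hinv.2 hne
    have h3 := card_mul_relIndex (comm_le_left hinv.2)
    rw [h2, h1] at h3
    have h4 : p ^ (n - i) = p ^ (n - (i + 1)) * p := by
      rw [← pow_succ]; congr 1; omega
    rw [h4] at h3
    exact Nat.eq_of_mul_eq_mul_right hp.pos h3

theorem CH_of_ne (hN : IsPGroup p N) (hG : IsPGroup p G)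
    (hGN : G ≤ Subgroup.normalizer (N : Set L)) (n : ℕ)
    (hn : Nat.card N = p ^ n) (hn0 : n ≠ 0) (hne : Cfsg.iterCommutator N G (n - 1) ≠ ⊥) :
    ∀ i ≤ n, Nat.card (Cfsg.iterCommutator N G i) = p ^ (n - i) := by
  have hp : p.Prime := Fact.out
  obtain ⟨Ni, hNi⟩ : ∃ Ni : ℕ → Subgroup L, Ni = Cfsg.iterCommutator N G := ⟨_, rfl⟩
  rw [← hNi] at hne ⊢
  have hsucc : ∀ i, Ni (i + 1) = ⁅Ni i, G⁆ := by intro i; rw [hNi]; rfl
  have hzero : Ni 0 = N := by rw [hNi]; rfl
  have hinv : ∀ i, Ni i ≤ N ∧ G ≤ Subgroup.normalizer ((Ni i : Subgroup L) : Set L) := by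
    intro i; rw [hNi]; exact chain_inv N G hGN i
  have hanti : Antitone Ni := by rw [hNi]; exact chain_anti N G hGN
  have hne' : ∀ i < n, Ni i ≠ ⊥ := by
    intro i hi h
    apply hne
    have := hanti (show i ≤ n - 1 by omega)
    rw [h] at this
    exact le_bot_iff.1 this
  choose e he using fun i => (hN.to_le (hinv i).1).exists_card_eq
  have he0 : e 0 = n := by
    have := he 0
    rw [hzero, hn] at this
    exact (Nat.pow_right_injective hp.two_le this).symm
  have hstrict : ∀ i j, j = i + 1 → i < n → e j < e i := by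
    intro i j hj hi
    subst hj
    have h1 : Ni (i + 1) ≠ Ni i := by
      rw [hsucc]
      exact comm_ne_self (hN.to_le (hinv i).1) hG (hinv i).2 (hne' i hi)
    have h2 : Nat.card (Ni (i + 1)) < Nat.card (Ni i) := by
      by_contra hcon
      exact h1 (Subgroup.eq_of_le_of_card_ge (hanti (Nat.le_succ i)) (not_lt.1 hcon))
    rw [he, he] at h2
    exact (Nat.pow_lt_pow_iff_right hp.one_lt).1 h2
  have hupper : ∀ i ≤ n, e i + i ≤ n := by
    intro i
    induction i with
    | zero => intro _; omega
    | succ i ih =>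
      intro hi
      have := ih (by omega)
      have := hstrict i (i + 1) rfl (by omega)
      omega
  have hlower : ∀ k, k + 1 ≤ n → k + 1 ≤ e (n - 1 - k) := by
    intro k
    induction k with
    | zero =>
      intro _
      have h1 : e (n - 1) ≠ 0 := by
        intro h
        apply hne
        have := he (n - 1)
        rw [h, pow_zero] at this
        exact Subgroup.card_eq_one.1 this
      have : n - 1 - 0 = n - 1 := by omega
      rw [this]
      omega
    | succ k ih =>
      intro hk
      have h1 := ih (by omega)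
      have h2 := hstrict (n - 1 - (k + 1)) (n - 1 - k) (by omega) (by omega)
      omega
  intro i hi
  rw [he]
  congr 1
  by_cases hin : i = n
  · have := hupper i hi
    omega
  · have h1 := hupper i hi
    have h2 := hlower (n - 1 - i) (by omega)
    have h3 : n - 1 - (n - 1 - i) = i := by omega
    rw [h3] at h2
    omega

end

/-- A finite p-group G acting on a p-group N of order p^n acts uniserially iff the chain N > [N,G] > [N,G,G] > … has a nontrivial n-th term; then the n+1 terms of the chain are exactly the G-invariant subgroups of N, each normal in N. -/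
theorem result {L : Type*} [Group L] [Finite L] {p : ℕ} [Fact p.Prime] (N G : Subgroup L) (hN : IsPGroup p N) (hG : IsPGroup p G) (hGN : G ≤ Subgroup.normalizer (N : Set L)) (n : ℕ) (hn : Nat.card N = p ^ n) : ((∀ H : Subgroup L, H ≤ N → G ≤ Subgroup.normalizer (H : Set L) → H ≠ ⊥ → (⁅H, G⁆).relIndex H = p) ↔ Cfsg.iterCommutator N G (n - 1) ≠ ⊥ ∨ n = 0) ∧ ((∀ H : Subgroup L, H ≤ N → G ≤ Subgroup.normalizer (H : Set L) → H ≠ ⊥ → (⁅H, G⁆).relIndex H = p) → ∀ H : Subgroup L, H ≤ N → G ≤ Subgroup.normalizer (H : Set L) → (∃ i ≤ n, H = Cfsg.iterCommutator N G i) ∧ N ≤ Subgroup.normalizer (H : Set L)) := by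
  have hp : p.Prime := Fact.out
  refine ⟨⟨?_, ?_⟩, ?_⟩
  · intro hU
    have CH := CH_of_U N G hN hGN n hn hU
    by_cases hn0 : n = 0
    · exact Or.inr hn0
    · left
      intro h
      have := CH (n - 1) (by omega)
      rw [h, Subgroup.card_bot] at this
      have h3 : 1 < p ^ (n - (n - 1)) := Nat.one_lt_pow (by omega) hp.one_lt
      omega
  · intro h
    have CH : ∀ i ≤ n, Nat.card (Cfsg.iterCommutator N G i) = p ^ (n - i) := by
      by_cases hn0 : n = 0
      · intro i hi
        have hi0 : i = 0 := by omega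
        subst hi0
        exact hn
      · rcases h with h | h
        · exact CH_of_ne N G hN hG hGN n hn hn0 h
        · exact absurd h hn0
    intro H hHN hGH hHne
    obtain ⟨⟨i, hi, rfl⟩, _⟩ := structure_of_CH N G hN hG hGN n CH H hHN hGH
    have hin : i < n := by
      by_contra hcon
      have hi' : i = n := by omega
      apply hHne
      have := CH i hi
      rw [hi', Nat.sub_self, pow_zero] at this
      rw [hi']
      exact Subgroup.card_eq_one.1 this
    have h1 := card_mul_relIndex (comm_le_left (chain_inv N G hGN i).2)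
    have h2 : ⁅Cfsg.iterCommutator N G i, G⁆ = Cfsg.iterCommutator N G (i + 1) := rfl
    rw [h2] at h1 ⊢
    rw [CH i hi, CH (i + 1) hin] at h1
    have h4 : p ^ (n - i) = p ^ (n - (i + 1)) * p := by
      rw [← pow_succ]; congr 1; omega
    rw [h4] at h1
    exact Nat.eq_of_mul_eq_mul_left (pow_pos hp.pos _) h1
  · intro hU
    exact structure_of_CH N G hN hG hGN n (CH_of_U N G hN hGN n hn hU)

end Cfsg.Agent.S0663
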