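import Cfsg.Statements.S0666
import Mathlib
import Cfsg.Agent.Lib.Helper8.CharFrobThm
-- import your own Cfsg.Agent.* helpers here

set_option autoImplicit false
open Cfsg

namespace Cfsg.Agent.S0666

open scoped IsMulCommutative Pointwise

section psi
variable {F' : Type*} [Group F']

theorem aux1 (H N : Subgroup F') (hN : (N : Set F') = frobeniusKernel H)
    (k x : N) (h : {h : H // h ≠ 1}) :
    (k : F') ≠ (x : F') * ((h.1 : H) : F') * (x : F')⁻¹ := by
  intro heq
  have hk : (k : F') ∈ frobeniusKernel H := by rw [← hN]; exact k.2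
  rcases hk with hk | hk
  · rw [hk] at heq
    apply h.2
    have : ((h.1 : H) : F') = 1 := by
      calc ((h.1 : H) : F')
          = (x : F')⁻¹ * ((x : F') * ((h.1 : H) : F') * (x : F')⁻¹) * (x : F') := by group
        _ = 1 := by rw [← heq]; group
    exact Subtype.ext this
  · apply hk (x : F')
    rw [heq]
    have := Subgroup.smul_mem_pointwise_smul _ (MulAut.conj (x : F')) H h.1.2
    simpa [MulAut.smul_def] using this

theorem aux2 (H N : Subgroup F') (hH : IsFrobeniusComplement H)
    (hc : Subgroup.IsComplement' N H) (x x' : N) (h h' : {h : H // h ≠ 1})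
    (heq : (x : F') * ((h.1 : H) : F') * (x : F')⁻¹ = (x' : F') * ((h'.1 : H) : F') * (x' : F')⁻¹) :
    x = x' ∧ h = h' := by
  have h1 : ((h.1 : H) : F') ≠ 1 := fun e => h.2 (Subtype.ext e)
  have hg : ((x : F')⁻¹ * x')⁻¹ * ((h.1 : H) : F') * ((x : F')⁻¹ * x') = ((h'.1 : H) : F') := by
    calc ((x : F')⁻¹ * x')⁻¹ * ((h.1 : H) : F') * ((x : F')⁻¹ * x')
        = (x' : F')⁻¹ * ((x : F') * ((h.1 : H) : F') * (x : F')⁻¹) * x' := by group
      _ = ((h'.1 : H) : F') := by rw [heq]; group
  have hgH : (x : F')⁻¹ * x' ∈ H :=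
    Cfsg.Agent.Lib.Helper8.frobenius_conj_mem hH h.1.2 h1 (by rw [hg]; exact h'.1.2)
  have hgN : (x : F')⁻¹ * x' ∈ N := N.mul_mem (N.inv_mem x.2) x'.2
  have hg1 : (x : F')⁻¹ * x' = 1 := Subgroup.disjoint_def.1 hc.disjoint hgN hgH
  have hxx : (x : F') = x' := inv_mul_eq_one.1 hg1
  refine ⟨Subtype.ext hxx, ?_⟩
  rw [hxx] at heq
  have : ((h.1 : H) : F') = ((h'.1 : H) : F') := by
    have := mul_right_cancel heq
    exact mul_left_cancel this
  exact Subtype.ext (Subtype.ext this)

theorem psi_bij (H N : Subgroup F') (hH : IsFrobeniusComplement H)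
    (hN : (N : Set F') = frobeniusKernel H) (hc : Subgroup.IsComplement' N H) :
    Function.Bijective (Sum.elim (fun k : N => (k : F'))
      (fun p : N × {h : H // h ≠ 1} => (p.1 : F') * ((p.2.1 : H) : F') * (p.1 : F')⁻¹)) := by
  constructor
  · rintro (k | ⟨x, h⟩) (k' | ⟨x', h'⟩) heq
    · simp only [Sum.elim_inl] at heq
      rw [Subtype.ext heq]
    · exfalso
      simp only [Sum.elim_inl, Sum.elim_inr] at heq
      exact aux1 H N hN k x' h' heq
    · exfalso
      simp only [Sum.elim_inl, Sum.elim_inr] at heq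
      exact aux1 H N hN k' x h heq.symm
    · simp only [Sum.elim_inr] at heq
      obtain ⟨e1, e2⟩ := aux2 H N hH hc x x' h h' heq
      rw [e1, e2]
  · intro f
    by_cases hf : f ∈ N
    · exact ⟨Sum.inl ⟨f, hf⟩, rfl⟩
    · have hf' : f ∉ frobeniusKernel H := by rw [← hN]; exact hf
      have hf'' : ¬ (f = 1 ∨ ∀ g : F', f ∉ MulAut.conj g • H) := hf'
      push Not at hf''
      obtain ⟨hf1, g, hg⟩ := hf''
      obtain ⟨⟨k, h⟩, hkh, -⟩ := (Subgroup.isComplement'_def.1 hc).existsUnique g
      have hkh' : (k : F') * (h : F') = g := hkh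
      rw [Subgroup.mem_pointwise_smul_iff_inv_smul_mem] at hg
      have hg' : g⁻¹ * f * g ∈ H := by simpa [MulAut.smul_def] using hg
      have h2 : (k : F')⁻¹ * f * k ∈ H := by
        have h3 : (k : F')⁻¹ * f * k = (h : F') * (g⁻¹ * f * g) * (h : F')⁻¹ := by
          rw [← hkh']; group
        rw [h3]
        exact H.mul_mem (H.mul_mem h.2 hg') (H.inv_mem h.2)
      have h4 : (⟨(k : F')⁻¹ * f * k, h2⟩ : H) ≠ 1 := by
        intro e
        have e' : (k : F')⁻¹ * f * k = 1 := congrArg Subtype.val e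
        apply hf1
        calc f = (k : F') * ((k : F')⁻¹ * f * k) * (k : F')⁻¹ := by group
          _ = 1 := by rw [e']; group
      refine ⟨Sum.inr (⟨k.1, k.2⟩, ⟨⟨(k : F')⁻¹ * f * k, h2⟩, h4⟩), ?_⟩
      simp only [Sum.elim_inr]
      group

end psi

section act
set_option linter.unusedSectionVars false
variable {G : Type*} [Group G] (V F : Subgroup G) [IsMulCommutative V]
  (hFV : F ≤ Subgroup.normalizer (V : Set G))

/-- conjugation by an element of `F` on `V` -/
def cj (f : F) : V →* V where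
  toFun v := ⟨(f : G) * v * (f : G)⁻¹,
    ((Subgroup.mem_normalizer_iff.1 (hFV f.2)) (v : G)).1 v.2⟩
  map_one' := by ext; simp
  map_mul' a b := by ext; simp [mul_assoc]

theorem cj_coe (f : F) (v : V) : ((cj V F hFV f v : V) : G) = (f : G) * v * (f : G)⁻¹ := rfl

theorem cj_mul (f g : F) (v : V) : cj V F hFV (f * g) v = cj V F hFV f (cj V F hFV g v) := by
  apply Subtype.ext
  simp only [cj_coe, Subgroup.coe_mul, mul_inv_rev, mul_assoc]

theorem cj_one (v : V) : cj V F hFV 1 v = v := by
  apply Subtype.ext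
  simp [cj_coe]

theorem cj_prod_fixed (S : Subgroup F) [Fintype S] (s : S) (v : V) :
    cj V F hFV (s : F) (∏ s' : S, cj V F hFV (s' : F) v) = ∏ s' : S, cj V F hFV (s' : F) v := by
  rw [map_prod]
  apply Fintype.prod_equiv (Equiv.mulLeft s)
  intro s'
  rw [← cj_mul]
  rfl

theorem mem_centralizer_of_fixed (T : Set G) (t : V)
    (h : ∀ y : G, y ∈ T → ∃ s : F, (s : G) = y ∧ cj V F hFV s t = t) :
    (t : G) ∈ V ⊓ Subgroup.centralizer T := by
  refine Subgroup.mem_inf.2 ⟨t.2, ?_⟩
  rw [Subgroup.mem_centralizer_iff]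
  intro y hy
  obtain ⟨s, rfl, hs⟩ := h y hy
  have h1 : (s : G) * (t : G) * (s : G)⁻¹ = (t : G) := congrArg Subtype.val hs
  calc (s : G) * (t : G) = ((s : G) * (t : G) * (s : G)⁻¹) * (s : G) := by group
    _ = (t : G) * (s : G) := by rw [h1]

end act

/-- Let a Frobenius group F with complement H and kernel K act on a nontrivial abelian group V (inside a common finite group) with gcd(card V, card K) = 1 and C_V(K) = 1. Then C_V(H) ≠ 1. -/
theorem result {G : Type*} [Group G] [Finite G] (V F : Subgroup G) (hVab : IsMulCommutative V) (hV1 : V ≠ ⊥) (hFV : F ≤ Subgroup.normalizer (V : Set G)) (H : Subgroup ↥F) (hH : Cfsg.IsFrobeniusComplement H) (hcop : (Nat.card V).Coprime (Nat.card (Cfsg.frobeniusKernel H))) (hCK : V ⊓ Subgroup.centralizer (Subtype.val '' Cfsg.frobeniusKernel H : Set G) = ⊥) : V ⊓ Subgroup.centralizer ((H.map F.subtype : Subgroup G) : Set G) ≠ ⊥ := by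
  classical
  intro hcon
  obtain ⟨N, hN, -, hc⟩ := Cfsg.Agent.Lib.Helper8.frobenius_kernel_thm H hH
  have : Fintype F := Fintype.ofFinite F
  have : Fintype N := Fintype.ofFinite N
  have : Fintype H := Fintype.ofFinite H
  -- the trace over H is trivial
  have hA : ∀ v : V, ∏ h : H, cj V F hFV (h : F) v = 1 := by
    intro v
    have hmem := mem_centralizer_of_fixed V F hFV ((H.map F.subtype : Subgroup G) : Set G)
      (∏ h : H, cj V F hFV (h : F) v) (by
        intro y hy
        obtain ⟨s, hs, rfl⟩ := Subgroup.mem_map.1 hy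
        exact ⟨s, rfl, cj_prod_fixed V F hFV H ⟨s, hs⟩ v⟩)
    rw [hcon, Subgroup.mem_bot] at hmem
    exact Subtype.ext hmem
  have hB : ∀ v : V, ∏ k : N, cj V F hFV (k : F) v = 1 := by
    intro v
    have hmem := mem_centralizer_of_fixed V F hFV (Subtype.val '' Cfsg.frobeniusKernel H : Set G)
      (∏ k : N, cj V F hFV (k : F) v) (by
        rintro y ⟨s, hs, rfl⟩
        have hs' : s ∈ N := by
          have : s ∈ (N : Set F) := by rw [hN]; exact hs
          exact this
        exact ⟨s, rfl, cj_prod_fixed V F hFV N ⟨s, hs'⟩ v⟩)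
    rw [hCK, Subgroup.mem_bot] at hmem
    exact Subtype.ext hmem
  -- the product over all of F, first way
  have hC : ∀ v : V, ∏ f : F, cj V F hFV f v = 1 := by
    intro v
    have hbij : Function.Bijective (fun x : N × H => (x.1 : F) * (x.2 : F)) :=
      Subgroup.isComplement'_def.1 hc
    rw [← Fintype.prod_bijective _ hbij (fun x : N × H => cj V F hFV ((x.1 : F) * (x.2 : F)) v)
      (fun f => cj V F hFV f v) (fun _ => rfl)]
    rw [Fintype.prod_prod_type]
    have : ∀ k : N, ∏ h : H, cj V F hFV ((k : F) * (h : F)) v = 1 := by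
      intro k
      have : ∀ h : H, cj V F hFV ((k : F) * (h : F)) v
          = cj V F hFV (k : F) (cj V F hFV (h : F) v) := fun h => cj_mul V F hFV _ _ v
      simp only [this]
      rw [← map_prod, hA v, map_one]
    simp only [this]
    exact Finset.prod_const_one
  -- second way
  have hD : ∀ v : V, ∏ f : F, cj V F hFV f v = (v⁻¹) ^ (Fintype.card N) := by
    intro v
    have hbij := psi_bij H N hH hN hc
    rw [← Fintype.prod_bijective _ hbij
      (fun s => cj V F hFV (Sum.elim (fun k : N => (k : F))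
      (fun p : N × {h : H // h ≠ 1} => (p.1 : F) * ((p.2.1 : H) : F) * (p.1 : F)⁻¹) s) v)
      (fun f => cj V F hFV f v) (fun _ => rfl)]
    rw [Fintype.prod_sum_type]
    simp only [Sum.elim_inl, Sum.elim_inr]
    rw [hB v, one_mul, Fintype.prod_prod_type]
    have hx : ∀ x : N, ∏ h : {h : H // h ≠ 1},
        cj V F hFV ((x : F) * ((h.1 : H) : F) * (x : F)⁻¹) v = v⁻¹ := by
      intro x
      have h1 : ∏ h : H, cj V F hFV ((x : F) * (h : F) * (x : F)⁻¹) v = 1 := by
        have : ∀ h : H, cj V F hFV ((x : F) * (h : F) * (x : F)⁻¹) v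
            = cj V F hFV (x : F) (cj V F hFV (h : F) (cj V F hFV (x : F)⁻¹ v)) := by
          intro h
          rw [cj_mul, cj_mul]
        simp only [this]
        rw [← map_prod, hA, map_one]
      have h2 := Finset.mul_prod_erase (Finset.univ : Finset H)
        (fun h : H => cj V F hFV ((x : F) * (h : F) * (x : F)⁻¹) v) (Finset.mem_univ (1 : H))
      rw [h1] at h2
      have h3 : ∏ h ∈ (Finset.univ : Finset H).erase 1,
          cj V F hFV ((x : F) * (h : F) * (x : F)⁻¹) v
          = ∏ h : {h : H // h ≠ 1}, cj V F hFV ((x : F) * ((h.1 : H) : F) * (x : F)⁻¹) v :=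
        Finset.prod_subtype ((Finset.univ : Finset H).erase 1) (by simp)
          (fun h : H => cj V F hFV ((x : F) * (h : F) * (x : F)⁻¹) v)
      rw [← h3]
      have h4 : cj V F hFV ((x : F) * ((1 : H) : F) * (x : F)⁻¹) v = v := by
        have : (x : F) * ((1 : H) : F) * (x : F)⁻¹ = 1 := by simp
        rw [this, cj_one]
      rw [h4] at h2
      exact eq_inv_of_mul_eq_one_right h2
    simp only [hx]
    rw [Finset.prod_const, Finset.card_univ]
  -- conclusion
  apply hV1
  rw [Subgroup.eq_bot_iff_forall]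
  intro x hx
  have hpow : (⟨x, hx⟩ : V) ^ (Fintype.card N) = 1 := by
    have := (hD ⟨x, hx⟩).symm.trans (hC ⟨x, hx⟩)
    rw [inv_pow, inv_eq_one] at this
    exact this
  have hd1 : orderOf (⟨x, hx⟩ : V) ∣ Fintype.card N := orderOf_dvd_of_pow_eq_one hpow
  have hd2 : orderOf (⟨x, hx⟩ : V) ∣ Nat.card V := _root_.orderOf_dvd_natCard _
  have hcardN : Nat.card (Cfsg.frobeniusKernel H) = Fintype.card N := by
    rw [← hN, ← Nat.card_eq_fintype_card]
    rfl
  rw [hcardN] at hcop
  have h1 : orderOf (⟨x, hx⟩ : V) = 1 := Nat.eq_one_of_dvd_coprimes hcop hd2 hd1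
  have h2 : (⟨x, hx⟩ : V) = 1 := orderOf_eq_one_iff.1 h1
  exact congrArg Subtype.val h2

end Cfsg.Agent.S0666
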