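import Cfsg.Statements.S0668
import Mathlib

set_option autoImplicit false
open Cfsg

namespace Cfsg.Agent.S0668




/-- The equivariant linear maps between the permutation modules of two finite `G`-sets form a space whose dimension is the number of `G`-orbits on the product of the two sets. -/
theorem result {G : Type*} [Group G] {K : Type*} [Field K] {Ω₁ Ω₂ : Type*} [Fintype Ω₁] [Fintype Ω₂] [MulAction G Ω₁] [MulAction G Ω₂] : Module.finrank K ((Cfsg.permRep K G Ω₁).linHom (Cfsg.permRep K G Ω₂)).invariants = Nat.card (MulAction.orbitRel.Quotient G (Ω₁ × Ω₂)) := by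
  classical
  haveI : Fintype (MulAction.orbitRel.Quotient G (Ω₁ × Ω₂)) := Fintype.ofFinite _
  let Φ : (MulAction.orbitRel.Quotient G (Ω₁ × Ω₂) → K) →ₗ[K] ((Ω₁ → K) →ₗ[K] (Ω₂ → K)) :=
    { toFun := fun c => Matrix.toLin' (Matrix.of fun (y : Ω₂) (x : Ω₁) =>
        c (Quotient.mk'' (x, y)))
      map_add' := by
        intro c c'
        rw [← map_add]
        congr 1
      map_smul' := by
        intro r c
        rw [RingHom.id_apply, ← map_smul]
        congr 1 }
  have hΦapp : ∀ (c : MulAction.orbitRel.Quotient G (Ω₁ × Ω₂) → K) (f : Ω₁ → K) (y : Ω₂),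
      Φ c f y = ∑ x, c (Quotient.mk'' (x, y)) * f x := by
    intro c f y
    show (Matrix.toLin' (Matrix.of fun (y : Ω₂) (x : Ω₁) => c (Quotient.mk'' (x, y)))) f y = _
    rw [Matrix.toLin'_apply]
    rfl
  have hinj : Function.Injective Φ := by
    intro c c' h
    have h1 : (Matrix.of fun (y : Ω₂) (x : Ω₁) => c (Quotient.mk'' (x, y))) =
        (Matrix.of fun (y : Ω₂) (x : Ω₁) => c' (Quotient.mk'' (x, y))) :=
      Matrix.toLin'.injective h
    funext q
    induction q using Quotient.inductionOn' with | _ xy => ?_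
    obtain ⟨x, y⟩ := xy
    exact congrFun (congrFun h1 y) x
  have hrange : ((Cfsg.permRep K G Ω₁).linHom (Cfsg.permRep K G Ω₂)).invariants =
      LinearMap.range Φ := by
    apply le_antisymm
    · intro T hT
      rw [Representation.mem_invariants] at hT
      have hT' : ∀ (g : G) (f : Ω₁ → K) (y : Ω₂),
          T (fun z => f (g • z)) (g⁻¹ • y) = T f y := by
        intro g f y
        have := hT g
        rw [Representation.linHom_apply] at this
        have h2 := congrFun (LinearMap.congr_fun this f) y
        simp only [LinearMap.comp_apply] at h2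
        have h3 : (Cfsg.permRep K G Ω₁) g⁻¹ f = fun z => f (g • z) := by
          funext z
          show f ((g⁻¹)⁻¹ • z) = f (g • z)
          rw [inv_inv]
        rw [h3] at h2
        exact h2
      have hwd : ∀ a b : Ω₁ × Ω₂, (MulAction.orbitRel G (Ω₁ × Ω₂)) a b →
          T (Pi.single a.1 1) a.2 = T (Pi.single b.1 1) b.2 := by
        intro a b hab
        have hab' : a ∈ MulAction.orbit G b := hab
        obtain ⟨g, hg⟩ := hab'
        have ha1 : a.1 = g • b.1 := by rw [← hg]; rfl
        have ha2 : a.2 = g • b.2 := by rw [← hg]; rfl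
        rw [← hT' g (Pi.single a.1 1) a.2, ha2, inv_smul_smul]
        have hfun : (fun z => (Pi.single a.1 (1 : K) : Ω₁ → K) (g • z)) = Pi.single b.1 1 := by
          funext z
          rw [ha1]
          by_cases hz : z = b.1
          · rw [hz, Pi.single_eq_same, Pi.single_eq_same]
          · rw [Pi.single_eq_of_ne hz, Pi.single_eq_of_ne]
            intro h
            exact hz (MulAction.injective g h)
        rw [hfun]
      refine ⟨Quotient.lift (fun a : Ω₁ × Ω₂ => T (Pi.single a.1 1) a.2) hwd, ?_⟩
      show Matrix.toLin' (Matrix.of fun (y : Ω₂) (x : Ω₁) =>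
        (Quotient.lift (fun a : Ω₁ × Ω₂ => T (Pi.single a.1 1) a.2) hwd) (Quotient.mk'' (x, y))) = T
      have : (Matrix.of fun (y : Ω₂) (x : Ω₁) =>
          (Quotient.lift (fun a : Ω₁ × Ω₂ => T (Pi.single a.1 1) a.2) hwd) (Quotient.mk'' (x, y)))
          = LinearMap.toMatrix' T := by
        ext y x
        rw [LinearMap.toMatrix'_apply]
        show T (Pi.single x 1) y = _
        congr 2
      rw [this, Matrix.toLin'_toMatrix']
    · rintro _ ⟨c, rfl⟩
      rw [Representation.mem_invariants]
      intro g
      rw [Representation.linHom_apply]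
      apply LinearMap.ext
      intro f
      funext y
      simp only [LinearMap.comp_apply]
      show Φ c ((Cfsg.permRep K G Ω₁) g⁻¹ f) (g⁻¹ • y) = Φ c f y
      rw [hΦapp, hΦapp]
      apply Fintype.sum_equiv (MulAction.toPerm g)
      intro x
      have h3 : (Cfsg.permRep K G Ω₁) g⁻¹ f x = f (g • x) := by
        show f ((g⁻¹)⁻¹ • x) = f (g • x)
        rw [inv_inv]
      rw [h3]
      show _ = c (Quotient.mk'' (g • x, y)) * f (g • x)
      congr 2
      apply Quotient.sound'
      show (x, g⁻¹ • y) ∈ MulAction.orbit G (g • x, y)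
      refine ⟨g⁻¹, ?_⟩
      show (g⁻¹ • g • x, g⁻¹ • y) = (x, g⁻¹ • y)
      rw [inv_smul_smul]
  rw [hrange, LinearMap.finrank_range_of_inj hinj, Module.finrank_fintype_fun_eq_card,
    Nat.card_eq_fintype_card]

end Cfsg.Agent.S0668
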