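import Cfsg.Statements.S0669
import Mathlib

set_option autoImplicit false
set_option linter.style.haveILetI false
open Cfsg

namespace Cfsg.Agent.S0669

/-- The rank of a transitive action: orbits on ordered pairs correspond to orbits of a point stabiliser. -/
theorem result {G : Type*} [Group G] {Ω : Type*} [Finite Ω] [MulAction G Ω] [MulAction.IsPretransitive G Ω] (a : Ω) : Nat.card (MulAction.orbitRel.Quotient G (Ω × Ω)) = Nat.card (MulAction.orbitRel.Quotient (MulAction.stabilizer G a) Ω) := by
  symm
  let f : MulAction.orbitRel.Quotient (MulAction.stabilizer G a) Ω →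
      MulAction.orbitRel.Quotient G (Ω × Ω) :=
    Quotient.lift (fun b => (Quotient.mk'' (a, b) : MulAction.orbitRel.Quotient G (Ω × Ω))) (by
      intro b b' hbb'
      apply Quotient.sound'
      change (a, b) ∈ MulAction.orbit G (a, b')
      have h1 : b ∈ MulAction.orbit (MulAction.stabilizer G a) b' := hbb'
      obtain ⟨h, hh⟩ := h1
      refine ⟨(h : G), ?_⟩
      have h2 : (h : G) • a = a := h.2
      have h3 : (h : G) • b' = b := hh
      change ((h : G) • a, (h : G) • b') = (a, b)
      rw [h2, h3])
  apply Nat.card_congr (Equiv.ofBijective f ⟨?_, ?_⟩)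
  · intro q q'
    induction q using Quotient.inductionOn' with | _ b => ?_
    induction q' using Quotient.inductionOn' with | _ b' => ?_
    intro hq
    have h1 : (Quotient.mk'' (a, b) : MulAction.orbitRel.Quotient G (Ω × Ω)) =
        Quotient.mk'' (a, b') := hq
    have h2 : (a, b) ∈ MulAction.orbit G (a, b') := Quotient.exact' h1
    obtain ⟨g, hg⟩ := h2
    have h3 : (g • a, g • b') = (a, b) := hg
    have h4 : g • a = a := (Prod.mk.inj h3).1
    have h5 : g • b' = b := (Prod.mk.inj h3).2
    apply Quotient.sound'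
    change b ∈ MulAction.orbit (MulAction.stabilizer G a) b'
    exact ⟨⟨g, h4⟩, h5⟩
  · intro q
    induction q using Quotient.inductionOn' with | _ xy => ?_
    obtain ⟨x, y⟩ := xy
    obtain ⟨g, hg⟩ := MulAction.exists_smul_eq G a x
    refine ⟨Quotient.mk'' (g⁻¹ • y), ?_⟩
    change (Quotient.mk'' (a, g⁻¹ • y) : MulAction.orbitRel.Quotient G (Ω × Ω)) =
      Quotient.mk'' (x, y)
    apply Quotient.sound'
    change (a, g⁻¹ • y) ∈ MulAction.orbit G (x, y)
    refine ⟨g⁻¹, ?_⟩
    change (g⁻¹ • x, g⁻¹ • y) = (a, g⁻¹ • y)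
    rw [← hg, inv_smul_smul]

end Cfsg.Agent.S0669
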