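import Cfsg.Statements.S0670
import Mathlib

set_option autoImplicit false
open Cfsg

namespace Cfsg.Agent.S0670


/-- a finite `p`-group acting linearly in characteristic `p` has a nonzero fixed vector in every
nonzero invariant subspace -/
theorem fixed_vec {P : Type*} [Group P] [Finite P] {p : ℕ} [Fact p.Prime] (hP : IsPGroup p P)
    {K : Type*} [Field K] [CharP K p] {V : Type*} [AddCommGroup V] [Module K V]
    (ρ : Representation K P V) (W : Submodule K V) (hinv : ∀ g, ∀ v ∈ W, ρ g v ∈ W)
    (hW : W ≠ ⊥) : ∃ v ∈ W, v ≠ 0 ∧ ∀ g, ρ g v = v := by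
  classical
  obtain ⟨w, hwW, hw0⟩ := Submodule.exists_mem_ne_zero_of_ne_bot hW
  have hpV : ∀ v : V, p • v = 0 := by
    intro v
    have : (p : K) = 0 := CharP.cast_eq_zero K p
    rw [← Nat.cast_smul_eq_nsmul K, this, zero_smul]
  set S : AddSubgroup V := AddSubgroup.closure (Set.range fun g : P => ρ g w) with hS
  have hSW : S ≤ W.toAddSubgroup := by
    rw [hS, AddSubgroup.closure_le]
    rintro _ ⟨g, rfl⟩
    exact hinv g w hwW
  have hSinv : ∀ g : P, ∀ v ∈ S, ρ g v ∈ S := by
    intro g v hv
    have h1 : S.map (ρ g).toAddMonoidHom ≤ S := by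
      rw [hS, AddMonoidHom.map_closure, AddSubgroup.closure_le]
      rintro _ ⟨_, ⟨h, rfl⟩, rfl⟩
      apply AddSubgroup.subset_closure
      refine ⟨g * h, ?_⟩
      show ρ (g * h) w = ρ g (ρ h w)
      rw [map_mul]; rfl
    exact h1 ⟨v, hv, rfl⟩
  have hwS : w ∈ S := by
    apply AddSubgroup.subset_closure
    exact ⟨1, by simp⟩
  haveI : AddGroup.FG S := by
    rw [hS]; infer_instance
  haveI hfin : Finite S := by
    apply AddCommGroup.finite_of_fg_isAddTorsion
    intro v
    rw [isOfFinAddOrder_iff_nsmul_eq_zero]
    refine ⟨p, (Fact.out : p.Prime).pos, ?_⟩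
    apply Subtype.ext
    rw [AddSubgroup.coe_nsmul]
    exact hpV _
  letI : MulAction P S :=
    { smul := fun g v => ⟨ρ g v.1, hSinv g v.1 v.2⟩
      one_smul := by
        intro v
        apply Subtype.ext
        show ρ 1 v.1 = v.1
        simp
      mul_smul := by
        intro g h v
        apply Subtype.ext
        show ρ (g * h) v.1 = ρ g (ρ h v.1)
        rw [map_mul]; rfl }
  have hpS : p ∣ Nat.card S := by
    have h1 : addOrderOf (⟨w, hwS⟩ : S) = p := by
      apply addOrderOf_eq_prime
      · apply Subtype.ext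
        rw [AddSubgroup.coe_nsmul]
        exact hpV _
      · intro h
        exact hw0 (congrArg Subtype.val h)
    rw [← h1]
    exact addOrderOf_dvd_natCard _
  have h0 : (0 : S) ∈ MulAction.fixedPoints P S := by
    intro g
    apply Subtype.ext
    show ρ g (0 : V) = 0
    simp
  obtain ⟨b, hb, hb0⟩ := hP.exists_fixed_point_of_prime_dvd_card_of_fixed_point S hpS h0
  refine ⟨b.1, hSW b.2, ?_, ?_⟩
  · intro h
    apply hb0
    apply Subtype.ext
    exact h.symm
  · intro g
    have := hb g
    exact congrArg Subtype.val this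

/-- a Sylow `p`-subgroup of a transitive group of degree `p ^ f` is transitive -/
theorem sylow_trans {G : Type*} [Group G] [Finite G] {p f : ℕ} [Fact p.Prime] {Ω : Type*}
    [Fintype Ω] [MulAction G Ω] [MulAction.IsPretransitive G Ω]
    (hcard : Fintype.card Ω = p ^ f) (P : Sylow p G) (a b : Ω) :
    ∃ g : (P : Subgroup G), (g : G) • a = b := by
  classical
  have hpp : p.Prime := Fact.out
  have h1 : Nat.card G = p ^ f * Nat.card (MulAction.stabilizer G a) := by
    rw [← hcard, ← Nat.card_eq_fintype_card, ← MulAction.index_stabilizer_of_transitive G a,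
      Subgroup.index_mul_card]
  have h2 : Nat.card (MulAction.orbit (P : Subgroup G) a) *
      Nat.card (MulAction.stabilizer (P : Subgroup G) a) = Nat.card (P : Subgroup G) := by
    rw [Nat.card_coe_set_eq, ← MulAction.index_stabilizer, Subgroup.index_mul_card]
  -- the stabilizer in P
  obtain ⟨c, hc⟩ := IsPGroup.iff_card.1 (P.isPGroup'.to_subgroup (MulAction.stabilizer (P : Subgroup G) a))
  have h3 : Nat.card (MulAction.stabilizer (P : Subgroup G) a) ∣ Nat.card (MulAction.stabilizer G a) := by
    have hle : (MulAction.stabilizer (P : Subgroup G) a).map (P : Subgroup G).subtype ≤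
        MulAction.stabilizer G a := by
      rintro _ ⟨x, hx, rfl⟩
      exact hx
    have := Subgroup.card_dvd_of_le hle
    rwa [Subgroup.card_map_of_injective (Subgroup.subtype_injective _)] at this
  have h4 := P.card_eq_multiplicity
  have hspos : 0 < Nat.card (MulAction.stabilizer G a) := Nat.card_pos
  have hfac : (Nat.card G).factorization p = f + (Nat.card (MulAction.stabilizer G a)).factorization p := by
    rw [h1, Nat.factorization_mul (pow_ne_zero _ hpp.ne_zero) hspos.ne', Nat.factorization_pow]
    simp [hpp.factorization_self]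
  have hcle : c ≤ (Nat.card (MulAction.stabilizer G a)).factorization p := by
    rw [hc] at h3
    exact (hpp.pow_dvd_iff_le_factorization hspos.ne').1 h3
  have horb : p ^ f ≤ Nat.card (MulAction.orbit (P : Subgroup G) a) := by
    rw [hc] at h2
    have h5 : Nat.card (MulAction.orbit (P : Subgroup G) a) * p ^ c = p ^ (f + (Nat.card (MulAction.stabilizer G a)).factorization p) := by
      rw [← hfac, ← h4]
      exact h2
    set v := (Nat.card (MulAction.stabilizer G a)).factorization p with hv
    have h6 : p ^ (f + v) = p ^ (f + (v - c)) * p ^ c := by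
      rw [← pow_add]; congr 1; omega
    rw [h6] at h5
    have h7 := Nat.eq_of_mul_eq_mul_right (pow_pos hpp.pos c) h5
    rw [h7]
    exact Nat.pow_le_pow_right hpp.pos (by omega)
  have huniv : MulAction.orbit (P : Subgroup G) a = Set.univ := by
    apply Set.eq_univ_of_forall
    by_contra hcon
    push Not at hcon
    obtain ⟨x, hx⟩ := hcon
    have : Nat.card (MulAction.orbit (P : Subgroup G) a) < Nat.card Ω := by
      rw [Nat.card_coe_set_eq, ← Set.ncard_univ]
      apply Set.ncard_lt_ncard
      · exact ⟨Set.subset_univ _, fun h => hx (h (Set.mem_univ x))⟩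
      · exact Set.finite_univ
    rw [Nat.card_eq_fintype_card (α := Ω), hcard] at this
    omega
  have : b ∈ MulAction.orbit (P : Subgroup G) a := by rw [huniv]; exact Set.mem_univ _
  obtain ⟨g, hg⟩ := this
  exact ⟨g, hg⟩


/-- In characteristic `p`, the permutation module of a transitive action of degree `p ^ f` has the line of constant functions as its only irreducible submodule: every non-zero subrepresentation contains it. -/
theorem result {G : Type*} [Group G] [Finite G] {K : Type*} [Field K] {p f : ℕ} [Fact p.Prime] [CharP K p] {Ω : Type*} [Fintype Ω] [MulAction G Ω] [MulAction.IsPretransitive G Ω] (hf : 1 ≤ f) (hcard : Fintype.card Ω = p ^ f) (W : Subrepresentation (Cfsg.permRep K G Ω)) (hW : W.toSubmodule ≠ ⊥) : (Cfsg.permConstants K G Ω).toSubmodule ≤ W.toSubmodule := by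
  classical
  obtain ⟨P⟩ : Nonempty (Sylow p G) := inferInstance
  have hfix := fixed_vec (p := p) (P.isPGroup') (K := K)
    ((Cfsg.permRep K G Ω).comp (P : Subgroup G).subtype) W.toSubmodule
    (fun g v hv => W.apply_mem_toSubmodule (g : G) hv) hW
  obtain ⟨b, hbW, hb0, hbfix⟩ := hfix
  -- b is constant
  have hconst : ∀ x y : Ω, b x = b y := by
    intro x y
    obtain ⟨g, hg⟩ := sylow_trans hcard P x y
    have := congrFun (hbfix g) y
    have h2 : b ((g : G)⁻¹ • y) = b y := this
    rw [← hg, inv_smul_smul] at h2
    rw [← hg]; exact h2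
  obtain ⟨ω, hω⟩ : ∃ ω : Ω, b ω ≠ 0 := by
    by_contra hcon
    push Not at hcon
    exact hb0 (funext hcon)
  show Submodule.span K {fun _ => 1} ≤ W.toSubmodule
  rw [Submodule.span_le, Set.singleton_subset_iff]
  have : (fun _ : Ω => (1 : K)) = (b ω)⁻¹ • b := by
    ext x
    rw [Pi.smul_apply, smul_eq_mul, hconst x ω, inv_mul_cancel₀ hω]
  rw [this]
  exact W.toSubmodule.smul_mem _ hbW

end Cfsg.Agent.S0670
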