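import Cfsg.Statements.S0673
import Mathlib

set_option autoImplicit false
open Cfsg

namespace Cfsg.Agent.S0673

open Polynomial Module

variable {p : ℕ} [hp : Fact p.Prime] {K : Type*} [Field K] [CharP K p]

theorem cast_inj : Function.Injective (ZMod.cast : ZMod p → K) :=
  ZMod.castHom_injective (n := p) K

theorem cast_sub_one (j : ZMod p) : (ZMod.cast (j - 1) : K) = ZMod.cast j - 1 := by
  have := map_sub (ZMod.castHom (dvd_refl p) K) j 1
  rw [map_one] at this
  exact this

/-- evaluation of polynomials on the prime field -/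
noncomputable def ev : K[X] →ₗ[K] (ZMod p → K) where
  toFun P := fun j => P.eval (ZMod.cast j : K)
  map_add' P Q := by funext j; simp
  map_smul' c P := by funext j; simp

theorem ev_apply (P : K[X]) (j : ZMod p) : ev P j = P.eval (ZMod.cast j : K) := rfl

/-- polynomial functions of degree less than `r` -/
noncomputable def PP (r : ℕ) : Submodule K (ZMod p → K) := (degreeLT K r).map (ev (p := p))

theorem mem_PP (r : ℕ) (f : ZMod p → K) :
    f ∈ PP r ↔ ∃ P : K[X], P.degree < r ∧ ∀ j : ZMod p, f j = P.eval (ZMod.cast j : K) := by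
  unfold PP
  rw [Submodule.mem_map]
  constructor
  · rintro ⟨P, hP, rfl⟩
    exact ⟨P, mem_degreeLT.1 hP, fun j => rfl⟩
  · rintro ⟨P, hP, h⟩
    exact ⟨P, mem_degreeLT.2 hP, by funext j; rw [h j]; rfl⟩

theorem ev_inj_on (r : ℕ) (hr : r ≤ p) (P : K[X]) (hP : P.degree < r) (h0 : ev (p := p) P = 0) :
    P = 0 := by
  by_contra hne
  apply hne
  apply eq_zero_of_natDegree_lt_card_of_eval_eq_zero P (cast_inj (p := p) (K := K))
  · intro j
    have := congrFun h0 j
    exact this
  · rw [ZMod.card]
    have := (natDegree_lt_iff_degree_lt hne).2 hP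
    omega

theorem finrank_PP (r : ℕ) (hr : r ≤ p) : finrank K (PP (p := p) (K := K) r) = r := by
  have hinj : Function.Injective ((ev (p := p) (K := K)).domRestrict (degreeLT K r)) := by
    rw [← LinearMap.ker_eq_bot, LinearMap.ker_eq_bot']
    intro P hP
    apply Subtype.ext
    exact ev_inj_on r hr P.1 (mem_degreeLT.1 P.2) hP
  have h1 := LinearMap.finrank_range_of_inj hinj
  rw [LinearMap.range_domRestrict] at h1
  unfold PP
  rw [h1, LinearEquiv.finrank_eq (degreeLTEquiv K r), Module.finrank_fin_fun]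


/-- the difference operator -/
noncomputable def Dl : (ZMod p → K) →ₗ[K] (ZMod p → K) where
  toFun f := fun j => f j - f (j - 1)
  map_add' f g := by funext j; simp only [Pi.add_apply]; ring
  map_smul' c f := by funext j; simp only [Pi.smul_apply, smul_eq_mul, RingHom.id_apply]; ring

theorem Dl_apply (f : ZMod p → K) (j : ZMod p) : Dl f j = f j - f (j - 1) := rfl

theorem degree_diff (P : K[X]) (r : ℕ) (hP : P.degree < (r + 1 : ℕ)) :
    (P - P.comp (X - C 1)).degree < r := by
  by_cases h0 : P = 0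
  · rw [h0, zero_comp, sub_zero, degree_zero]
    exact WithBot.bot_lt_coe r
  have hnd : (X - C (1 : K)).natDegree = 1 := natDegree_X_sub_C 1
  have hlc : (P.comp (X - C 1)).leadingCoeff = P.leadingCoeff := by
    rw [leadingCoeff_comp (by rw [hnd]; norm_num), leadingCoeff_X_sub_C, one_pow, mul_one]
  have hne : P.comp (X - C 1) ≠ 0 := by
    intro h
    rw [h, leadingCoeff_zero] at hlc
    exact h0 (leadingCoeff_eq_zero.1 hlc.symm)
  have hdeg : P.degree = (P.comp (X - C 1)).degree := by
    rw [degree_eq_natDegree h0, degree_eq_natDegree hne, natDegree_comp, hnd, mul_one]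
  have h1 := degree_sub_lt_left hdeg h0 hlc.symm
  have h2 : P.natDegree < r + 1 := (natDegree_lt_iff_degree_lt h0).2 hP
  rw [degree_eq_natDegree h0] at h1
  refine lt_of_lt_of_le h1 ?_
  exact_mod_cast Nat.lt_succ_iff.1 h2

theorem Dl_ev (P : K[X]) : Dl (ev (p := p) P) = ev (p := p) (P - P.comp (X - C 1)) := by
  funext j
  rw [Dl_apply, ev_apply, ev_apply, ev_apply, eval_sub, eval_comp, eval_sub, eval_X, eval_C,
    cast_sub_one]

theorem Dl_PP (r : ℕ) (f : ZMod p → K) (hf : f ∈ PP (p := p) (K := K) (r + 1)) :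
    Dl f ∈ PP (p := p) (K := K) r := by
  unfold PP at hf ⊢
  obtain ⟨P, hP, rfl⟩ := hf
  rw [Dl_ev]
  exact Submodule.mem_map_of_mem (mem_degreeLT.2 (degree_diff P r (mem_degreeLT.1 hP)))

theorem Dl_pow_PP : ∀ (r : ℕ) (f : ZMod p → K), f ∈ PP (p := p) (K := K) r →
    ((Dl (p := p) (K := K)) ^ r) f = 0 := by
  intro r
  induction r with
  | zero =>
    intro f hf
    rw [mem_PP] at hf
    obtain ⟨P, hP, h⟩ := hf
    have : P = 0 := by
      rw [← degree_eq_bot]
      have : P.degree < (0 : ℕ) := hP
      rw [Nat.cast_zero, Nat.WithBot.lt_zero_iff] at this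
      exact this
    rw [pow_zero, Module.End.one_apply]
    funext j
    rw [h j, this, eval_zero]
    rfl
  | succ r ih =>
    intro f hf
    rw [pow_succ, Module.End.mul_apply]
    exact ih _ (Dl_PP r f hf)


theorem finrank_ker_pow_succ {V : Type*} [AddCommGroup V] [Module K V] [FiniteDimensional K V]
    (N : Module.End K V) (k : ℕ) :
    finrank K (LinearMap.ker (N ^ (k + 1))) ≤
      finrank K (LinearMap.ker (N ^ k)) + finrank K (LinearMap.ker N) := by
  obtain ⟨g, hg⟩ : ∃ g : LinearMap.ker (N ^ (k + 1)) →ₗ[K] V,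
      g = (N ^ k).domRestrict (LinearMap.ker (N ^ (k + 1))) := ⟨_, rfl⟩
  have hg_apply : ∀ a : LinearMap.ker (N ^ (k + 1)), g a = (N ^ k) a.1 := by
    intro a; rw [hg]; rfl
  have h1 := LinearMap.finrank_range_add_finrank_ker g
  have h2 : LinearMap.range g ≤ LinearMap.ker N := by
    rintro _ ⟨a, rfl⟩
    rw [LinearMap.mem_ker, hg_apply, ← Module.End.mul_apply, ← pow_succ']
    exact a.2
  have h3 : finrank K (LinearMap.range g) ≤ finrank K (LinearMap.ker N) :=
    Submodule.finrank_mono h2
  have h4 : finrank K (LinearMap.ker g) ≤ finrank K (LinearMap.ker (N ^ k)) := by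
    have e := LinearEquiv.finrank_eq (Submodule.equivMapOfInjective
      (LinearMap.ker (N ^ (k + 1))).subtype (Submodule.injective_subtype _) (LinearMap.ker g))
    rw [e]
    apply Submodule.finrank_mono
    rintro _ ⟨a, ha, rfl⟩
    have ha' : g a = 0 := LinearMap.mem_ker.1 ha
    rw [hg_apply] at ha'
    rw [LinearMap.mem_ker]
    exact ha'
  omega

theorem finrank_ker_pow_le {V : Type*} [AddCommGroup V] [Module K V] [FiniteDimensional K V]
    (N : Module.End K V) (h1 : finrank K (LinearMap.ker N) ≤ 1) :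
    ∀ k : ℕ, finrank K (LinearMap.ker (N ^ k)) ≤ k := by
  intro k
  induction k with
  | zero =>
    rw [pow_zero]
    have : LinearMap.ker (1 : Module.End K V) = ⊥ := by
      rw [LinearMap.ker_eq_bot']
      intro m hm
      exact hm
    rw [this, finrank_bot]
  | succ k ih =>
    have := finrank_ker_pow_succ N k
    omega

theorem ker_Dl : finrank K (LinearMap.ker (Dl (p := p) (K := K))) ≤ 1 := by
  have hle : LinearMap.ker (Dl (p := p) (K := K)) ≤ Submodule.span K {fun _ => (1 : K)} := by
    intro f hf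
    rw [LinearMap.mem_ker] at hf
    have hstep : ∀ j : ZMod p, f j = f (j - 1) := by
      intro j
      have := congrFun hf j
      rw [Dl_apply] at this
      exact sub_eq_zero.1 this
    have hnat : ∀ n : ℕ, f (n : ZMod p) = f 0 := by
      intro n
      induction n with
      | zero => rw [Nat.cast_zero]
      | succ n ih =>
        rw [hstep, Nat.cast_succ, add_sub_cancel_right, ih]
    rw [Submodule.mem_span_singleton]
    refine ⟨f 0, ?_⟩
    funext j
    rw [Pi.smul_apply, smul_eq_mul, mul_one]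
    have := hnat j.val
    rw [ZMod.natCast_zmod_val] at this
    exact this.symm
  refine le_trans (Submodule.finrank_mono hle) ?_
  exact (finrank_span_le_card _).trans (by simp)


theorem main0673 {p : ℕ} [Fact p.Prime] {K : Type*} [Field K] [CharP K p] (W : Submodule K (ZMod p → K)) (hW : ∀ f ∈ W, (fun j => f (j - 1)) ∈ W) : ∃ r : ℕ, r ≤ p ∧ Module.finrank K W = r ∧ ∀ f : ZMod p → K, f ∈ W ↔ ∃ P : Polynomial K, P.degree < r ∧ ∀ j : ZMod p, f j = P.eval (ZMod.cast j : K) := by
  have hfinV : finrank K (ZMod p → K) = p := by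
    rw [Module.finrank_fintype_fun_eq_card, ZMod.card]
  have hPtop : PP (p := p) (K := K) p = ⊤ :=
    Submodule.eq_top_of_finrank_eq (by rw [finrank_PP p le_rfl, hfinV])
  have hDp : ∀ f : ZMod p → K, ((Dl (p := p) (K := K)) ^ p) f = 0 :=
    fun f => Dl_pow_PP p f (by rw [hPtop]; trivial)
  have hWD : ∀ f ∈ W, Dl f ∈ W := by
    intro f hf
    have : Dl f = f - fun j => f (j - 1) := by funext j; rfl
    rw [this]
    exact W.sub_mem hf (hW f hf)
  obtain ⟨r, hr⟩ : ∃ r, r = finrank K W := ⟨_, rfl⟩
  have hrp : r ≤ p := by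
    rw [hr]
    exact (Submodule.finrank_le W).trans hfinV.le
  have hres : ∀ w : W, (((Dl (p := p) (K := K)).restrict hWD) ^ p) w = 0 := by
    intro w
    rw [Module.End.pow_restrict p hWD]
    apply Subtype.ext
    rw [LinearMap.coe_restrict_apply]
    exact hDp w.1
  have hker : ∀ w : W, (((Dl (p := p) (K := K)).restrict hWD) ^ r) w = 0 := by
    intro w
    have h1 := Module.End.ker_pow_le_ker_pow_finrank ((Dl (p := p) (K := K)).restrict hWD) p
    have hw : w ∈ LinearMap.ker (((Dl (p := p) (K := K)).restrict hWD) ^ p) :=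
      LinearMap.mem_ker.2 (hres w)
    have h2 := h1 hw
    rw [← hr] at h2
    exact LinearMap.mem_ker.1 h2
  have hWker : W ≤ LinearMap.ker ((Dl (p := p) (K := K)) ^ r) := by
    intro f hf
    have h1 := hker ⟨f, hf⟩
    rw [Module.End.pow_restrict r hWD] at h1
    have h2 := congrArg Subtype.val h1
    rw [LinearMap.coe_restrict_apply] at h2
    exact LinearMap.mem_ker.2 h2
  have hPker : PP (p := p) (K := K) r ≤ LinearMap.ker ((Dl (p := p) (K := K)) ^ r) :=
    fun f hf => LinearMap.mem_ker.2 (Dl_pow_PP r f hf)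
  have hkr := finrank_ker_pow_le (Dl (p := p) (K := K)) ker_Dl r
  have e1 : W = LinearMap.ker ((Dl (p := p) (K := K)) ^ r) :=
    Submodule.eq_of_le_of_finrank_le hWker (by rw [← hr]; exact hkr)
  have e2 : PP (p := p) (K := K) r = LinearMap.ker ((Dl (p := p) (K := K)) ^ r) :=
    Submodule.eq_of_le_of_finrank_le hPker (by rw [finrank_PP r hrp]; exact hkr)
  refine ⟨r, hrp, hr.symm, fun f => ?_⟩
  rw [e1, ← e2, mem_PP]


/-- In characteristic `p`, the translation-invariant subspaces of the space of functions on `ZMod p` are exactly the spaces of polynomial functions of degree less than `r`, one for each `r ≤ p`, of dimension `r`. -/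
theorem result {p : ℕ} [Fact p.Prime] {K : Type*} [Field K] [CharP K p] (W : Submodule K (ZMod p → K)) (hW : ∀ f ∈ W, (fun j => f (j - 1)) ∈ W) : ∃ r : ℕ, r ≤ p ∧ Module.finrank K W = r ∧ ∀ f : ZMod p → K, f ∈ W ↔ ∃ P : Polynomial K, P.degree < r ∧ ∀ j : ZMod p, f j = P.eval (ZMod.cast j : K) := by
  exact main0673 W hW

end Cfsg.Agent.S0673
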