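import Cfsg.Statements.S0674
import Cfsg.Agent.Lib.Helper4.PrimeDeg4

set_option autoImplicit false
open Cfsg

namespace Cfsg.Agent.S0674

/-- Let `G` be a non-solvable transitive permutation group of prime degree `p` and `K` a field of characteristic `p`. Then the heart of the permutation module is irreducible: an invariant subspace containing the constants and contained in the sum-zero functions is one or the other. -/
theorem result {α : Type*} [Fintype α] [DecidableEq α] {p : ℕ} [Fact p.Prime] (hα : Fintype.card α = p) (G : Subgroup (Equiv.Perm α)) [MulAction.IsPretransitive G α] (hG : ¬ Group.IsSolvable G) {K : Type*} [Field K] [CharP K p] (W : Subrepresentation (Cfsg.permRep K G α)) (h₁ : (Cfsg.permConstants K G α).toSubmodule ≤ W.toSubmodule) (h₂ : W.toSubmodule ≤ (Cfsg.permSumZero K G α).toSubmodule) : W = Cfsg.permConstants K G α ∨ W = Cfsg.permSumZero K G α := by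
  classical
  have hinv : Cfsg.Agent.Lib.Helper4.PdInv (K := K) G W.toSubmodule := by
    intro g f hf
    exact W.apply_mem_toSubmodule g hf
  have hone : (fun _ : α => (1 : K)) ∈ W.toSubmodule :=
    h₁ (Submodule.mem_span_singleton_self _)
  haveI : Nonempty α := by
    rw [← Fintype.card_pos_iff, hα]
    exact (Fact.out : p.Prime).pos
  obtain ⟨x₀⟩ := (inferInstance : Nonempty α)
  rcases Cfsg.Agent.Lib.Helper4.pd_main (G := G) p hα (K := K) hG W.toSubmodule hinv with h | h | h | h
  · exfalso
    rw [h, Submodule.mem_bot] at hone
    have := congrFun hone x₀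
    simp at this
  · left
    apply Subrepresentation.toSubmodule_injective
    ext f
    rw [h f]
    change _ ↔ f ∈ Submodule.span K {fun _ => (1 : K)}
    rw [Submodule.mem_span_singleton]
    constructor
    · rintro ⟨a, rfl⟩
      exact ⟨a, by funext x; simp⟩
    · rintro ⟨a, rfl⟩
      exact ⟨a, by funext x; simp⟩
  · right
    apply Subrepresentation.toSubmodule_injective
    ext f
    rw [h f]
    rfl
  · exfalso
    have h1 : (Pi.single x₀ (1 : K) : α → K) ∈ W.toSubmodule := by
      rw [h]
      exact Submodule.mem_top
    have h2 : ∑ x, (Pi.single x₀ (1 : K) : α → K) x = 0 := h₂ h1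
    rw [Finset.sum_pi_single' x₀ (1 : K)] at h2
    simp at h2

end Cfsg.Agent.S0674
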