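import Cfsg.Statements.S0680
import Mathlib

set_option autoImplicit false
open Cfsg

namespace Cfsg.Agent.S0680

section Helpers0680
open MulAction

variable {α : Type*} [Fintype α] [DecidableEq α]

theorem sharp_eq_one (G : Subgroup (Equiv.Perm α))
    (hsharp : ∀ x : Fin 2 ↪ α, stabilizer G x = ⊥)
    (g : G) (a b : α) (hab : a ≠ b) (ha : g • a = a) (hb : g • b = b) : g = 1 := by
  let x : Fin 2 ↪ α := ⟨![a, b], by
    intro i j hij
    fin_cases i <;> fin_cases j <;> simp_all⟩
  have h1 : g ∈ stabilizer G x := by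
    rw [mem_stabilizer_iff]
    ext i
    fin_cases i
    · exact ha
    · exact hb
  rw [hsharp x] at h1
  exact Subgroup.mem_bot.1 h1

theorem card_G (G : Subgroup (Equiv.Perm α)) [IsMultiplyPretransitive G α 2]
    (hsharp : ∀ x : Fin 2 ↪ α, stabilizer G x = ⊥) (h2 : 2 ≤ Fintype.card α) :
    Nat.card G = Fintype.card α * (Fintype.card α - 1) := by
  obtain ⟨a, b, hab⟩ := Fintype.exists_pair_of_one_lt_card (show 1 < Fintype.card α by omega)
  let x : Fin 2 ↪ α := ⟨![a, b], by
    intro i j hij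
    fin_cases i <;> fin_cases j <;> simp_all⟩
  have h1 := Subgroup.card_mul_index (stabilizer G x)
  have hpre : IsPretransitive G (Fin 2 ↪ α) := by
    have h0 : IsMultiplyPretransitive G α 2 := inferInstance
    exact h0
  rw [MulAction.index_stabilizer, hsharp x, Subgroup.card_bot, one_mul,
    @MulAction.orbit_eq_univ G _ _ _ hpre x, Set.ncard_univ, Nat.card_eq_fintype_card,
    Fintype.card_embedding_eq, Fintype.card_fin] at h1
  rw [← h1]
  simp [Nat.descFactorial, mul_comm]


theorem card_Nset (G : Subgroup (Equiv.Perm α)) [IsPretransitive G α]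
    (hs : ∀ (g : G) (a b : α), a ≠ b → g • a = a → g • b = b → g = 1)
    (h2 : 2 ≤ Fintype.card α) :
    {g : G | g = 1 ∨ ∀ a : α, g • a ≠ a}.ncard = Fintype.card α := by
  classical
  haveI : Fintype G := Fintype.ofFinite _
  have hB := MulAction.sum_card_fixedBy_eq_card_orbits_mul_card_group G α
  have hq : Fintype.card (Quotient (orbitRel G α)) = 1 := by
    haveI : Subsingleton (orbitRel.Quotient G α) :=
      (pretransitive_iff_subsingleton_quotient G α).1 inferInstance
    haveI : Nonempty α := Fintype.card_pos_iff.1 (by omega)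
    rw [Fintype.card_eq_one_iff]
    exact ⟨Quotient.mk'' (Classical.arbitrary α), fun y => Subsingleton.elim _ _⟩
  rw [hq, one_mul] at hB
  have hterm : ∀ g : G, Fintype.card (fixedBy α g) =
      (if g = 1 then Fintype.card α else 0) +
        (if (g = 1 ∨ ∀ a : α, g • a ≠ a) then 0 else 1) := by
    intro g
    by_cases hg : g = 1
    · subst hg
      rw [if_pos rfl, if_pos (Or.inl rfl), add_zero]
      exact Fintype.card_congr (Equiv.subtypeUnivEquiv (fun a => by simp [mem_fixedBy]))
    · by_cases hf : ∀ a : α, g • a ≠ a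
      · rw [if_neg hg, if_pos (Or.inr hf), add_zero, Fintype.card_eq_zero_iff]
        exact ⟨fun ⟨a, ha⟩ => hf a ha⟩
      · rw [if_neg hg, if_neg (by tauto), zero_add, Fintype.card_eq_one_iff]
        push Not at hf
        obtain ⟨a, ha⟩ := hf
        refine ⟨⟨a, ha⟩, fun ⟨b, hb⟩ => ?_⟩
        by_contra hne
        exact hg (hs g b a (fun h => hne (Subtype.ext h)) hb ha)
  have hsum : ∑ g : G, Fintype.card (fixedBy α g) = Fintype.card α +
      (Finset.univ.filter (fun g : G => ¬ (g = 1 ∨ ∀ a : α, g • a ≠ a))).card := by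
    rw [Finset.sum_congr rfl (fun g _ => hterm g), Finset.sum_add_distrib,
      Finset.sum_ite_eq' Finset.univ (1 : G) (fun _ => Fintype.card α), if_pos (Finset.mem_univ _),
      Finset.card_filter]
    congr 1
    apply Finset.sum_congr rfl
    intro g _
    by_cases h : (g = 1 ∨ ∀ a : α, g • a ≠ a) <;> simp [h]
  have hcard := Finset.card_filter_add_card_filter_not
    (s := (Finset.univ : Finset G)) (fun g : G => (g = 1 ∨ ∀ a : α, g • a ≠ a))
  rw [Finset.card_univ] at hcard
  have hset : {g : G | g = 1 ∨ ∀ a : α, g • a ≠ a} =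
      ↑(Finset.univ.filter (fun g : G => (g = 1 ∨ ∀ a : α, g • a ≠ a))) := by
    ext g; simp
  rw [hset, Set.ncard_coe_finset]
  omega


theorem main0680 (G : Subgroup (Equiv.Perm α)) [IsMultiplyPretransitive G α 2]
    (hsharp : ∀ x : Fin 2 ↪ α, stabilizer G x = ⊥) (h2 : 2 ≤ Fintype.card α) :
    ∃ p j : ℕ, p.Prime ∧ 1 ≤ j ∧ Fintype.card α = p ^ j ∧
      ∀ (hp : Fact p.Prime) (P : Sylow p G),
      (P : Subgroup G).Normal ∧ IsMulCommutative (P : Subgroup G) ∧
      (∀ x ∈ (P : Subgroup G), x ^ p = 1) ∧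
      IsPretransitive (P : Subgroup G) α ∧ (∀ a : α, stabilizer (P : Subgroup G) a = ⊥) ∧
      ∀ g : G, g ∈ (P : Subgroup G) ↔ g = 1 ∨ ∀ a : α, g • a ≠ a := by
  classical
  obtain ⟨n, hn⟩ : ∃ n, n = Fintype.card α := ⟨_, rfl⟩
  rw [← hn] at h2 ⊢
  have hs := sharp_eq_one G hsharp
  have hG := card_G G hsharp (hn ▸ h2)
  rw [← hn] at hG
  haveI htr : IsPretransitive G α := isPretransitive_of_is_two_pretransitive
  have hN := card_Nset G hs (hn ▸ h2)
  rw [← hn] at hN
  obtain ⟨p, hp, hpn⟩ := Nat.exists_prime_and_dvd (show n ≠ 1 by omega)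
  haveI : Fact p.Prime := ⟨hp⟩
  obtain ⟨x, hx⟩ := exists_prime_orderOf_dvd_card' (G := G) p
    (by rw [hG]; exact Dvd.dvd.mul_right hpn _)
  have hx1 : x ≠ 1 := by
    intro h
    rw [h, orderOf_one] at hx
    exact hp.one_lt.ne hx
  have hstab : ∀ a : α, Nat.card (stabilizer G a) = n - 1 := by
    intro a
    have h1 := Subgroup.card_mul_index (stabilizer G a)
    rw [MulAction.index_stabilizer, MulAction.orbit_eq_univ G a, Set.ncard_univ,
      Nat.card_eq_fintype_card (α := α), hG, ← hn] at h1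
    exact Nat.eq_of_mul_eq_mul_right (show 0 < n by omega) (by rw [h1, mul_comm])
  have hpn1 : ¬ p ∣ n - 1 := by
    intro h
    have h3 : p ∣ n - (n - 1) := Nat.dvd_sub hpn h
    rw [show n - (n - 1) = 1 by omega] at h3
    exact hp.one_lt.ne' (Nat.dvd_one.1 h3)
  have hxf : ∀ a : α, x • a ≠ a := by
    intro a ha
    have h1 : x ∈ stabilizer G a := ha
    have h2 : orderOf (⟨x, h1⟩ : stabilizer G a) ∣ Nat.card (stabilizer G a) :=
      orderOf_dvd_natCard _
    rw [Subgroup.orderOf_mk, hx, hstab a] at h2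
    exact hpn1 h2
  obtain ⟨Nset, hNset⟩ : ∃ Nset : Set G, Nset = {g : G | g = 1 ∨ ∀ a : α, g • a ≠ a} :=
    ⟨_, rfl⟩
  rw [← hNset] at hN
  have hNfin : Nset.Finite := Set.toFinite _
  -- centralizer inside Nset
  have hC : ((Subgroup.centralizer {x} : Subgroup G) : Set G) ⊆ Nset := by
    intro y hy
    rw [SetLike.mem_coe, Subgroup.mem_centralizer_singleton_iff] at hy
    rw [hNset]
    by_cases hy1 : y = 1
    · exact Or.inl hy1
    · right
      intro a ha
      apply hy1
      refine hs y a (x • a) (fun h => hxf a h.symm) ha ?_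
      rw [← mul_smul, hy, mul_smul, ha]
  have hCcard : Nat.card (Subgroup.centralizer {x} : Subgroup G) ≤ n := by
    rw [← hN]
    have := Set.ncard_le_ncard hC hNfin
    rwa [← Nat.card_coe_set_eq] at this
  -- orbit inside Nset \ {1}
  have hO : orbit (ConjAct G) x ⊆ Nset \ {1} := by
    intro z hz
    rw [ConjAct.mem_orbit_conjAct, isConj_iff] at hz
    obtain ⟨c, hc⟩ := hz
    have hz1 : z ≠ 1 := by
      intro h
      rw [h, mul_one, mul_inv_cancel] at hc
      exact hx1 hc.symm
    refine ⟨?_, hz1⟩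
    rw [hNset]
    right
    intro a ha
    apply hxf (c • a)
    rw [← hc, mul_smul, mul_smul, inv_smul_smul, ha]
  have hOcard : (orbit (ConjAct G) x).ncard ≤ n - 1 := by
    have h1 := Set.ncard_le_ncard hO (hNfin.subset Set.sdiff_subset)
    rwa [Set.ncard_sdiff_singleton_of_mem (by rw [hNset]; exact Or.inl rfl), hN] at h1
  -- orbit-stabilizer
  have hOS : Nat.card (Subgroup.centralizer {x} : Subgroup G) * (orbit (ConjAct G) x).ncard
      = n * (n - 1) := by
    have h1 := Subgroup.card_mul_index (stabilizer (ConjAct G) x)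
    rw [MulAction.index_stabilizer] at h1
    have h2 : Nat.card (ConjAct G) = Nat.card G := rfl
    have h3 : Nat.card (stabilizer (ConjAct G) x)
        = Nat.card (Subgroup.centralizer {x} : Subgroup G) := by
      apply Nat.card_congr
      refine Equiv.subtypeEquiv ConjAct.ofConjAct.toEquiv (fun g => ?_)
      rw [mem_stabilizer_iff, ConjAct.smul_def, Subgroup.mem_centralizer_singleton_iff,
        mul_inv_eq_iff_eq_mul]
      rfl
    rw [h2, h3, hG] at h1
    exact h1
  have hCn : Nat.card (Subgroup.centralizer {x} : Subgroup G) = n := by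
    by_contra hne
    have hlt : Nat.card (Subgroup.centralizer {x} : Subgroup G) < n := lt_of_le_of_ne hCcard hne
    have h1 : Nat.card (Subgroup.centralizer {x} : Subgroup G) * (orbit (ConjAct G) x).ncard
        ≤ Nat.card (Subgroup.centralizer {x} : Subgroup G) * (n - 1) :=
      Nat.mul_le_mul_left _ hOcard
    have h2 : Nat.card (Subgroup.centralizer {x} : Subgroup G) * (n - 1) < n * (n - 1) :=
      Nat.mul_lt_mul_of_pos_right hlt (by omega)
    omega
  have hOn : (orbit (ConjAct G) x).ncard = n - 1 := by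
    rw [hCn] at hOS
    exact Nat.eq_of_mul_eq_mul_left (show 0 < n by omega) hOS
  have hCeq : ((Subgroup.centralizer {x} : Subgroup G) : Set G) = Nset := by
    apply Set.eq_of_subset_of_ncard_le hC _ hNfin
    rw [hN, ← hCn, ← Nat.card_coe_set_eq]
    rfl
  have hOeq : orbit (ConjAct G) x = Nset \ {1} := by
    apply Set.eq_of_subset_of_ncard_le hO _ (hNfin.subset Set.sdiff_subset)
    rw [Set.ncard_sdiff_singleton_of_mem (by rw [hNset]; exact Or.inl rfl), hN, hOn]
  obtain ⟨N, hNdef⟩ : ∃ N : Subgroup G, N = Subgroup.centralizer {x} := ⟨_, rfl⟩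
  rw [← hNdef] at hCeq hCn
  have hmemN : ∀ g : G, g ∈ N ↔ g = 1 ∨ ∀ a : α, g • a ≠ a := by
    intro g
    rw [← SetLike.mem_coe, hCeq, hNset]
    rfl
  have hNnorm : N.Normal := by
    constructor
    intro y hy g
    rw [hmemN] at hy ⊢
    rcases hy with rfl | hy
    · left; simp
    · right
      intro a ha
      apply hy (g⁻¹ • a)
      rw [mul_smul, mul_smul] at ha
      have := congrArg (g⁻¹ • ·) ha
      simpa using this
  have hconj : ∀ y ∈ N, y ≠ 1 → ∃ c : G, c * y * c⁻¹ = x := by
    intro y hy hy1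
    have h1 : y ∈ orbit (ConjAct G) x := by
      rw [hOeq]
      exact ⟨by rw [← hCeq]; exact hy, hy1⟩
    rw [ConjAct.mem_orbit_conjAct, isConj_iff] at h1
    exact h1
  have hexp : ∀ y ∈ N, y ^ p = 1 := by
    intro y hy
    by_cases hy1 : y = 1
    · rw [hy1, one_pow]
    · obtain ⟨c, hc⟩ := hconj y hy hy1
      have h1 : x ^ p = 1 := by rw [← hx]; exact pow_orderOf_eq_one x
      rw [← hc, conj_pow] at h1
      have h3 := mul_inv_eq_one.1 h1
      exact mul_left_cancel (a := c) (by rw [h3, mul_one])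
  have hcomm : ∀ y ∈ N, ∀ z ∈ N, y * z = z * y := by
    intro y hy z hz
    by_cases hy1 : y = 1
    · rw [hy1, one_mul, mul_one]
    · obtain ⟨c, hc⟩ := hconj y hy hy1
      have h1 : c * z * c⁻¹ ∈ N := hNnorm.conj_mem z hz c
      rw [hNdef, Subgroup.mem_centralizer_singleton_iff, ← hc] at h1
      have h4 : c * (z * y) * c⁻¹ = c * (y * z) * c⁻¹ := by simpa [mul_assoc] using h1
      exact (mul_left_cancel (mul_right_cancel h4)).symm
  have hNp : IsPGroup p N := by
    intro y
    refine ⟨1, Subtype.ext ?_⟩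
    rw [pow_one]
    exact hexp y y.2
  obtain ⟨j, hj⟩ := IsPGroup.iff_card.1 hNp
  rw [hCn] at hj
  refine ⟨p, j, hp, ?_, hj, ?_⟩
  · rcases Nat.eq_zero_or_pos j with h0 | h0
    · rw [h0, pow_zero] at hj; omega
    · exact h0
  intro hpF P
  have hNP : N ≤ P := by
    haveI := hNnorm
    have h1 : IsPGroup p (N ⊔ P : Subgroup G) := IsPGroup.to_sup_of_normal_left hNp P.2
    have h3 := P.is_maximal' h1 le_sup_right
    rw [← h3]
    exact le_sup_left
  have hPN : (P : Subgroup G) = N := by
    symm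
    apply Subgroup.eq_of_le_of_card_ge hNP
    obtain ⟨e, he⟩ := IsPGroup.iff_card.1 P.2
    have h1 : Nat.card (P : Subgroup G) ∣ Nat.card G := Subgroup.card_subgroup_dvd_card _
    rw [hG, he] at h1
    have h3 : (p ^ e).Coprime (n - 1) :=
      Nat.Coprime.pow_left _ ((Nat.Prime.coprime_iff_not_dvd hp).2 hpn1)
    have h4 : p ^ e ∣ n := h3.dvd_of_dvd_mul_right h1
    rw [he, hCn]
    exact Nat.le_of_dvd (by omega) h4
  rw [hPN]
  have hstabN : ∀ a : α, stabilizer N a = ⊥ := by
    intro a
    rw [Subgroup.eq_bot_iff_forall]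
    intro y hy
    rcases (hmemN y).1 y.2 with h | h
    · exact Subtype.ext h
    · exact absurd hy (h a)
  refine ⟨hNnorm, ⟨⟨fun a b => Subtype.ext (hcomm a a.2 b b.2)⟩⟩, hexp, ?_, hstabN, hmemN⟩
  constructor
  intro a b
  have h1 := Subgroup.card_mul_index (stabilizer N a)
  rw [MulAction.index_stabilizer, hstabN a, Subgroup.card_bot, one_mul, hCn] at h1
  have h3 : orbit N a = Set.univ := by
    apply Set.eq_of_subset_of_ncard_le (Set.subset_univ _) _ (Set.toFinite _)
    rw [Set.ncard_univ, Nat.card_eq_fintype_card, h1, hn]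
  have h4 : b ∈ orbit N a := by rw [h3]; trivial
  exact h4

end Helpers0680


/-- A finite sharply doubly transitive permutation group has degree a prime power `p ^ j`; a Sylow `p`-subgroup is normal, elementary abelian and regular, and consists of the identity together with the elements without fixed points. (Frobenius' Theorem is not needed.) -/
theorem result {α : Type*} [Fintype α] [DecidableEq α] (G : Subgroup (Equiv.Perm α)) [MulAction.IsMultiplyPretransitive G α 2] (hsharp : ∀ x : Fin 2 ↪ α, MulAction.stabilizer G x = ⊥) (h2 : 2 ≤ Fintype.card α) : ∃ p j : ℕ, p.Prime ∧ 1 ≤ j ∧ Fintype.card α = p ^ j ∧ ∀ (hp : Fact p.Prime) (P : Sylow p G), (P : Subgroup G).Normal ∧ IsMulCommutative (P : Subgroup G) ∧ (∀ x ∈ (P : Subgroup G), x ^ p = 1) ∧ MulAction.IsPretransitive (P : Subgroup G) α ∧ (∀ a : α, MulAction.stabilizer (P : Subgroup G) a = ⊥) ∧ ∀ g : G, g ∈ (P : Subgroup G) ↔ g = 1 ∨ ∀ a : α, g • a ≠ a := by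
  exact main0680 G hsharp h2

end Cfsg.Agent.S0680
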