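import Cfsg.Statements.S0681
import Mathlib
import Cfsg.Agent.Lib.Helper1.NearFieldBasic

set_option autoImplicit false
open Cfsg

namespace Cfsg.Agent.S0681


open Cfsg.Agent.Lib.Helper1.NearFieldBasic

/-- the affine permutation group of a near-field -/
def affH (F : Type*) [Cfsg.NearField F] : Subgroup (Equiv.Perm F) where
  carrier := {σ | ∃ a b : F, a ≠ 0 ∧ ∀ x : F, σ x = x * a + b}
  one_mem' := ⟨1, 0, fun h => NearField.zero_ne_one h.symm, fun x => by simp⟩
  mul_mem' := by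
    rintro σ τ ⟨a, b, ha, hσ⟩ ⟨c, d, hc, hτ⟩
    refine ⟨c * a, d * a + b, nf_mul_ne_zero hc ha, fun x => ?_⟩
    rw [Equiv.Perm.mul_apply, hτ, hσ, NearField.right_distrib, mul_assoc, add_assoc]
  inv_mem' := by
    rintro σ ⟨a, b, ha, hσ⟩
    obtain ⟨c, hc, h1, h2⟩ := nf_exists_inv ha
    refine ⟨c, (-b) * c, hc, fun x => ?_⟩
    rw [Equiv.Perm.inv_eq_iff_eq, hσ, NearField.right_distrib, mul_assoc, mul_assoc, h2, mul_one,
      mul_one, add_assoc, neg_add_cancel, add_zero]


/-- The affine maps `x ↦ x * a + b`, `a ≠ 0`, of a near-field form a sharply doubly transitive permutation group. -/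
theorem result {F : Type*} [Cfsg.NearField F] : ∃ H : Subgroup (Equiv.Perm F), (∀ σ : Equiv.Perm F, σ ∈ H ↔ ∃ a b : F, a ≠ 0 ∧ ∀ x : F, σ x = x * a + b) ∧ MulAction.IsMultiplyPretransitive H F 2 ∧ ∀ x : Fin 2 ↪ F, MulAction.stabilizer H x = ⊥ := by
  refine ⟨affH F, fun σ => Iff.rfl, ?_, ?_⟩
  · rw [MulAction.is_two_pretransitive_iff]
    intro x1 x2 y1 y2 hx hy
    have hx' : x1 - x2 ≠ 0 := sub_ne_zero.2 hx
    have hy' : y1 - y2 ≠ 0 := sub_ne_zero.2 hy
    obtain ⟨c, hc, h1, h2⟩ := nf_exists_inv hx'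
    have ha : c * (y1 - y2) ≠ 0 := nf_mul_ne_zero hc hy'
    obtain ⟨d, hd, h3, h4⟩ := nf_exists_inv ha
    have hmem : (⟨fun x => x * (c * (y1 - y2)) + (-(x1 * (c * (y1 - y2))) + y1),
        fun y => (y - (-(x1 * (c * (y1 - y2))) + y1)) * d, by
          intro x
          show (x * (c * (y1 - y2)) + (-(x1 * (c * (y1 - y2))) + y1) - (-(x1 * (c * (y1 - y2))) + y1)) * d = x
          rw [add_sub_cancel_right, mul_assoc, h3, mul_one], by
          intro y
          show (y - (-(x1 * (c * (y1 - y2))) + y1)) * d * (c * (y1 - y2)) + (-(x1 * (c * (y1 - y2))) + y1) = y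
          rw [mul_assoc, h4, mul_one, sub_add_cancel]⟩ : Equiv.Perm F) ∈ affH F :=
      ⟨c * (y1 - y2), -(x1 * (c * (y1 - y2))) + y1, ha, fun x => rfl⟩
    refine ⟨⟨_, hmem⟩, ?_, ?_⟩
    · show x1 * (c * (y1 - y2)) + (-(x1 * (c * (y1 - y2))) + y1) = y1
      rw [← add_assoc, add_neg_cancel, zero_add]
    · show x2 * (c * (y1 - y2)) + (-(x1 * (c * (y1 - y2))) + y1) = y2
      rw [← add_assoc, ← sub_eq_add_neg, ← nf_sub_mul]
      have : x2 - x1 = -(x1 - x2) := by rw [neg_sub]
      rw [this, nf_neg_mul, ← mul_assoc, h1, one_mul, neg_sub, sub_add_cancel]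
  · intro x
    rw [eq_bot_iff]
    intro g hg
    rw [MulAction.mem_stabilizer_iff] at hg
    rw [Subgroup.mem_bot]
    obtain ⟨σ, a, b, ha, hσ⟩ := g
    have h0 : σ (x 0) = x 0 := by
      have := congrArg (fun e : Fin 2 ↪ F => e 0) hg
      exact this
    have h1 : σ (x 1) = x 1 := by
      have := congrArg (fun e : Fin 2 ↪ F => e 1) hg
      exact this
    rw [hσ] at h0 h1
    have hne : x 0 - x 1 ≠ 0 := by
      rw [sub_ne_zero]
      intro h
      have := x.injective h
      exact absurd this (by decide)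
    have h3 : (x 0 - x 1) * a = (x 0 - x 1) * 1 := by
      rw [nf_sub_mul, mul_one]
      have e0 : x 0 * a = x 0 - b := by rw [eq_sub_iff_add_eq]; exact h0
      have e1 : x 1 * a = x 1 - b := by rw [eq_sub_iff_add_eq]; exact h1
      rw [e0, e1, sub_sub_sub_cancel_right]
    obtain ⟨c, hc, h4, h5⟩ := nf_exists_inv hne
    have ha1 : a = 1 := by
      calc a = (c * (x 0 - x 1)) * a := by rw [h5, one_mul]
        _ = c * ((x 0 - x 1) * a) := by rw [mul_assoc]
        _ = c * ((x 0 - x 1) * 1) := by rw [h3]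
        _ = 1 := by rw [mul_one, h5]
    have hb : b = 0 := by
      rw [ha1, mul_one] at h0
      exact left_eq_add.1 h0.symm
    apply Subtype.ext
    ext y
    show σ y = y
    rw [hσ, ha1, hb, mul_one, add_zero]

end Cfsg.Agent.S0681
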