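import Cfsg.Statements.S0682
import Mathlib
import Cfsg.Agent.Lib.Helper1.NearFieldBasic

set_option autoImplicit false
open Cfsg

namespace Cfsg.Agent.S0682


open Cfsg.Agent.Lib.Helper1.NearFieldBasic


/-- A finite near-field has prime-power order; its additive group is commutative of prime exponent. -/
theorem result {F : Type*} [Cfsg.NearField F] [Finite F] : ∃ p j : ℕ, p.Prime ∧ 1 ≤ j ∧ Nat.card F = p ^ j ∧ (∀ x y : F, x + y = y + x) ∧ ∀ x : F, p • x = 0 := by
  classical
  have hnt : Nontrivial F := ⟨⟨0, 1, NearField.zero_ne_one⟩⟩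
  have hcard : 1 < Nat.card F := Finite.one_lt_card
  set p := (Nat.card F).minFac with hp
  have hpp : p.Prime := Nat.minFac_prime (by omega)
  have hpd : p ∣ Nat.card F := Nat.minFac_dvd _
  haveI : Fact p.Prime := ⟨hpp⟩
  obtain ⟨x, hx⟩ := exists_prime_addOrderOf_dvd_card' p hpd
  have hx0 : x ≠ 0 := by
    intro h
    rw [h, addOrderOf_zero] at hx
    exact hpp.one_lt.ne' hx.symm
  have hpx : p • x = 0 := by rw [← hx]; exact addOrderOf_nsmul_eq_zero x
  have hall : ∀ y : F, p • y = 0 := by
    intro y
    obtain ⟨c, hc, h1, h2⟩ := nf_exists_inv hx0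
    have : y = x * (c * y) := by rw [← mul_assoc, h1, one_mul]
    rw [this, ← nf_nsmul_mul, hpx, nf_zero_mul]
  have hpg : IsPGroup p (Multiplicative F) := by
    intro g
    refine ⟨1, ?_⟩
    rw [pow_one]
    have := hall (Multiplicative.toAdd g)
    rw [← toAdd_pow] at this
    exact Multiplicative.toAdd.injective this
  obtain ⟨j, hj⟩ := IsPGroup.iff_card.1 hpg
  have hj' : Nat.card F = p ^ j := by
    rw [← hj]; exact (Nat.card_congr Multiplicative.toAdd).symm
  have hj1 : 1 ≤ j := by
    rcases Nat.eq_zero_or_pos j with h | h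
    · rw [h, pow_zero] at hj'; omega
    · exact h
  refine ⟨p, j, hpp, hj1, hj', ?_, hall⟩
  -- commutativity
  haveI : Nontrivial (Multiplicative F) := ⟨⟨Multiplicative.ofAdd 0, Multiplicative.ofAdd 1, fun h => NearField.zero_ne_one (Multiplicative.ofAdd.injective h)⟩⟩
  haveI : Finite (Multiplicative F) := Finite.of_equiv F Multiplicative.ofAdd
  have hcn : Nontrivial (Subgroup.center (Multiplicative F)) := hpg.center_nontrivial
  obtain ⟨⟨z, hz⟩, hz1⟩ := exists_ne (1 : Subgroup.center (Multiplicative F))
  have hz0 : Multiplicative.toAdd z ≠ 0 := by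
    intro h
    apply hz1
    apply Subtype.ext
    exact Multiplicative.toAdd.injective h
  have hzc : ∀ y : F, Multiplicative.toAdd z + y = y + Multiplicative.toAdd z := by
    intro y
    have := Subgroup.mem_center_iff.1 hz (Multiplicative.ofAdd y)
    have h2 := congrArg Multiplicative.toAdd this
    simp only [toAdd_mul, toAdd_ofAdd] at h2
    exact h2.symm
  intro x y
  by_cases hx0' : x = 0
  · rw [hx0', zero_add, add_zero]
  · obtain ⟨zi, hzi, h1, h2⟩ := nf_exists_inv hz0
    have hc0 : zi * x ≠ 0 := nf_mul_ne_zero hzi hx0'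
    obtain ⟨d, hd, h3, h4⟩ := nf_exists_inv hc0
    have ex : x = Multiplicative.toAdd z * (zi * x) := by rw [← mul_assoc, h1, one_mul]
    have ey : y = (y * d) * (zi * x) := by rw [mul_assoc, h4, mul_one]
    calc x + y = Multiplicative.toAdd z * (zi * x) + (y * d) * (zi * x) := by rw [← ex, ← ey]
      _ = (Multiplicative.toAdd z + y * d) * (zi * x) := by rw [NearField.right_distrib]
      _ = (y * d + Multiplicative.toAdd z) * (zi * x) := by rw [hzc]
      _ = (y * d) * (zi * x) + Multiplicative.toAdd z * (zi * x) := by rw [NearField.right_distrib]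
      _ = y + x := by rw [← ex, ← ey]

end Cfsg.Agent.S0682
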