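import Cfsg.Statements.S0691
import Mathlib
import Cfsg.Agent.Lib.Helper1.Mat2Tables

set_option autoImplicit false
open Cfsg

namespace Cfsg.Agent.S0691


open Cfsg.Agent.Lib.Helper1.Mat2Tables

set_option maxHeartbeats 8000000 in
set_option maxRecDepth 1000000 in
/-- the tables -/
def tabQ : Tables where
  n := 24
  L := [
    (1, 0, 0, 1), (2, 0, 0, 3), (0, 4, 1, 0), (1, 2, 1, 3), (4, 0, 0, 4), (0, 3, 3, 0), (2, 4, 3, 4), (0, 2, 2, 0),
    (4, 2, 1, 2), (2, 1, 2, 4), (3, 3, 4, 1), (3, 0, 0, 2), (0, 1, 4, 0), (4, 3, 4, 2), (3, 4, 3, 1), (1, 1, 2, 3),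
    (3, 1, 2, 1), (1, 4, 3, 3), (1, 3, 4, 3), (3, 2, 1, 1), (2, 2, 1, 4), (2, 3, 4, 4), (4, 4, 3, 2), (4, 1, 2, 2)]
  gens := [(2, 0, 0, 3), (0, 4, 1, 0), (1, 2, 1, 3)]
  nxt := [
   [
    1, 4, 7, 9, 11, 2, 8, 12, 16, 13, 17, 0, 5, 14, 3, 21, 18, 20, 6, 15,
    23, 22, 19, 10],
   [
    2, 5, 4, 6, 12, 11, 13, 1, 9, 18, 19, 7, 0, 16, 8, 17, 3, 22, 14, 20,
    21, 10, 23, 15],
   [
    3, 6, 8, 10, 13, 14, 15, 9, 17, 19, 0, 16, 18, 20, 21, 1, 22, 2, 23, 7,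
    4, 5, 11, 12]]
  par := [
    (0, 0), (0, 0), (0, 1), (0, 2), (1, 0), (1, 1), (1, 2), (2, 0), (2, 2), (3, 0), (3, 2), (4, 0),
    (4, 1), (4, 2), (5, 2), (6, 2), (8, 0), (8, 2), (9, 1), (9, 2), (13, 2), (14, 2), (16, 2), (18, 2)]
  wit := [
    0, 0, 1, 11, 4, 2, 3, 20, 19, 8, 7, 15, 9, 16, 23, 5, 17, 6, 14, 22,
    12, 18, 21, 10, 13]

set_option maxRecDepth 100000 in

theorem tabQ_valid : tabQ.Valid 5 := by decide +kernel


/-- An exceptional sharply doubly transitive group of degree 5^2: the listed matrices generate a subgroup of GL(2,5) of order 24 acting regularly on the non-zero vectors. -/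
theorem result (A : Matrix.GeneralLinearGroup (Fin 2) (ZMod 5)) (B : Matrix.GeneralLinearGroup (Fin 2) (ZMod 5)) (C : Matrix.GeneralLinearGroup (Fin 2) (ZMod 5)) (hA : (A : Matrix (Fin 2) (Fin 2) (ZMod 5)) = !![2, 0; 0, -2]) (hB : (B : Matrix (Fin 2) (Fin 2) (ZMod 5)) = !![0, -1; 1, 0]) (hC : (C : Matrix (Fin 2) (Fin 2) (ZMod 5)) = !![1, 2; 1, -2]) : Nat.card (Subgroup.closure ({A, B, C} : Set (Matrix.GeneralLinearGroup (Fin 2) (ZMod 5)))) = 24 ∧ ∀ v w : Fin 2 → ZMod 5, v ≠ 0 → w ≠ 0 → ∃! h : Subgroup.closure ({A, B, C} : Set (Matrix.GeneralLinearGroup (Fin 2) (ZMod 5))), Matrix.mulVec ((h : Matrix.GeneralLinearGroup (Fin 2) (ZMod 5)) : Matrix (Fin 2) (Fin 2) (ZMod 5)) v = w := by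
  haveI : Fact (Nat.Prime 5) := ⟨by norm_num⟩
  have hm := main 5 tabQ tabQ_valid ({A, B, C} : Set (Matrix.GeneralLinearGroup (Fin 2) (ZMod 5))) ?_ ?_
  · refine ⟨?_, hm.2⟩
    rw [hm.1]; norm_num
  · intro g hg
    simp only [Set.mem_insert_iff, Set.mem_singleton_iff] at hg
    rcases hg with rfl | rfl | rfl
    · exact ⟨0, by decide, by rw [hA]; decide⟩
    · exact ⟨1, by decide, by rw [hB]; decide⟩
    · exact ⟨2, by decide, by rw [hC]; decide⟩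
  · intro k hk
    have hlen : tabQ.gens.length = 3 := rfl
    rw [hlen] at hk
    interval_cases k
    · exact ⟨A, by simp, by rw [hA]; decide⟩
    · exact ⟨B, by simp, by rw [hB]; decide⟩
    · exact ⟨C, by simp, by rw [hC]; decide⟩

end Cfsg.Agent.S0691
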