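import Cfsg.Statements.S0694
import Mathlib

set_option autoImplicit false
open Cfsg

namespace Cfsg.Agent.S0694

def S (q : ℕ) : ℕ → ℕ
  | 0 => 0
  | (i+1) => S q i + q ^ i

theorem S_succ (q i : ℕ) : S q (i+1) = S q i + q ^ i := rfl

theorem S_rec (q i : ℕ) : S q (i+1) = q * S q i + 1 := by
  induction i with
  | zero => simp [S]
  | succ i ih =>
    calc S q (i+1+1) = S q (i+1) + q^(i+1) := rfl
      _ = (q * S q i + 1) + q^(i+1) := by rw [ih]
      _ = q * (S q i + q^i) + 1 := by ring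
      _ = q * S q (i+1) + 1 := rfl

theorem S_eq (k i : ℕ) : k * S (k+1) i + 1 = (k+1)^i := by
  induction i with
  | zero => simp [S]
  | succ i ih =>
    calc k * S (k+1) (i+1) + 1 = k * (S (k+1) i + (k+1)^i) + 1 := rfl
      _ = (k * S (k+1) i + 1) + k * (k+1)^i := by ring
      _ = (k+1)^i + k * (k+1)^i := by rw [ih]
      _ = (k+1)^(i+1) := by ring

theorem S_add (q j i : ℕ) : S q (j + i) = S q j + q^j * S q i := by
  induction i with
  | zero => simp [S]
  | succ i ih =>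
    calc S q (j + (i+1)) = S q (j+i) + q^(j+i) := rfl
      _ = S q j + q^j * S q i + q^(j+i) := by rw [ih]
      _ = S q j + q^j * (S q i + q^i) := by ring
      _ = S q j + q^j * S q (i+1) := rfl

theorem S_ne_zero (q i : ℕ) (hi : i ≠ 0) : S q i ≠ 0 := by
  obtain ⟨j, rfl⟩ : ∃ j, i = j + 1 := ⟨i - 1, by omega⟩
  rw [S_rec]; omega

theorem modeq_iff (k n i : ℕ) (hk : 0 < k) : (k+1)^i ≡ 1 [MOD n * k] ↔ n ∣ S (k+1) i := by
  rw [Nat.ModEq.comm]
  have h1 : 1 ≤ (k+1)^i := Nat.one_le_pow _ _ (Nat.succ_pos k)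
  rw [Nat.modEq_iff_dvd' h1, ← S_eq k i, Nat.add_sub_cancel, mul_comm n k]
  exact mul_dvd_mul_iff_left hk.ne'

theorem S_mod2 (q : ℕ) (hq : q % 2 = 1) (i : ℕ) : S q i % 2 = i % 2 := by
  induction i with
  | zero => rfl
  | succ i ih =>
    have h1 : q^i % 2 = 1 := by rw [Nat.pow_mod, hq, one_pow]; norm_num
    rw [S_succ]; omega

theorem S_mod4 (q : ℕ) (hq : q % 4 = 3) (i : ℕ) : S q i % 4 = 0 ∨ S q i % 4 = 1 := by
  induction i with
  | zero => left; rfl
  | succ i ih =>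
    rw [S_rec]
    have h : (q * S q i + 1) % 4 = ((q % 4) * (S q i % 4) + 1) % 4 :=
      Nat.ModEq.add_right 1 (Nat.ModEq.mul (Nat.mod_modEq q 4).symm (Nat.mod_modEq (S q i) 4).symm)
    rw [h, hq]
    rcases ih with h0 | h1
    · rw [h0]; right; rfl
    · rw [h1]; left; rfl

theorem val_S (k r i : ℕ) (hk : 0 < k) (hr : r.Prime) (hrk : r ∣ k) (h2 : r = 2 → 4 ∣ k)
    (hi : i ≠ 0) : padicValNat r (S (k+1) i) = padicValNat r i := by
  haveI : Fact r.Prime := ⟨hr⟩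
  have hS0 : S (k+1) i ≠ 0 := S_ne_zero _ _ hi
  have hq1 : 1 < k + 1 := by omega
  have hrq : ¬ r ∣ k + 1 := by
    intro h
    have := (Nat.dvd_add_right hrk).1 h
    exact hr.one_lt.ne' (Nat.dvd_one.1 this)
  have hmul : padicValNat r ((k+1)^i - 1) = padicValNat r k + padicValNat r (S (k+1) i) := by
    rw [← S_eq k i, Nat.add_sub_cancel, padicValNat.mul hk.ne' hS0]
  rcases hr.eq_two_or_odd' with h | hodd
  · subst h
    have h4 := h2 rfl
    rcases Nat.even_or_odd i with he | ho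
    · have := padicValNat.pow_two_sub_one hq1 hrq hi he
      have hv : padicValNat 2 (k + 1 + 1) = 1 := by
        obtain ⟨c, hc⟩ := h4
        have : k + 1 + 1 = 2 * (2 * c + 1) := by omega
        rw [this, padicValNat.mul (by norm_num) (by omega), padicValNat.self (by norm_num),
          padicValNat.eq_zero_of_not_dvd (by omega)]
      rw [hv, Nat.add_sub_cancel, hmul] at this
      omega
    · have h1 : padicValNat 2 i = 0 :=
        padicValNat.eq_zero_of_not_dvd (by rcases ho with ⟨c, hc⟩; omega)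
      have h2' : S (k+1) i % 2 = i % 2 := S_mod2 (k+1) (by obtain ⟨c, hc⟩ := h4; omega) i
      have h3 : padicValNat 2 (S (k+1) i) = 0 :=
        padicValNat.eq_zero_of_not_dvd (by rcases ho with ⟨c, hc⟩; omega)
      rw [h1, h3]
  · have := padicValNat.pow_sub_pow (p := r) hodd (x := k+1) (y := 1) hq1 (by simpa using hrk) hrq hi
    rw [one_pow, Nat.add_sub_cancel, hmul] at this
    omega

theorem dvd_S_iff (k n i : ℕ) (hk : 0 < k) (hn : 0 < n)
    (hr : ∀ r : ℕ, r.Prime → r ∣ n → r ∣ k) (h4 : 4 ∣ n → 4 ∣ k) (hi : i ≠ 0) :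
    n ∣ S (k+1) i ↔ n ∣ i := by
  have hS0 : S (k+1) i ≠ 0 := S_ne_zero _ _ hi
  rw [← Nat.factorization_prime_le_iff_dvd hn.ne' hS0,
    ← Nat.factorization_prime_le_iff_dvd hn.ne' hi]
  apply forall_congr'; intro p
  apply imp_congr_right; intro hp
  rw [Nat.factorization_def _ hp, Nat.factorization_def _ hp, Nat.factorization_def _ hp]
  haveI : Fact p.Prime := ⟨hp⟩
  by_cases hpn : p ∣ n
  · have hpk := hr p hp hpn
    by_cases hcase : p = 2 ∧ ¬ 4 ∣ k
    · obtain ⟨rfl, h4k⟩ := hcase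
      have h4n : ¬ 4 ∣ n := fun h => h4k (h4 h)
      have hv : padicValNat 2 n = 1 := by
        have h1 : 1 ≤ padicValNat 2 n := one_le_padicValNat_of_dvd hn.ne' hpn
        have h2 : ¬ 2 ≤ padicValNat 2 n := by
          intro h
          apply h4n
          have := (padicValNat_dvd_iff_le (p := 2) hn.ne').2 h
          simpa using this
        omega
      rw [hv]
      have hq : (k+1) % 2 = 1 := by obtain ⟨c, hc⟩ := hpk; omega
      have hpar := S_mod2 (k+1) hq i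
      constructor
      · intro h
        have h5 : 2 ∣ S (k+1) i := dvd_of_one_le_padicValNat h
        have h6 : 2 ∣ i := by omega
        exact one_le_padicValNat_of_dvd hi h6
      · intro h
        have h5 : 2 ∣ i := dvd_of_one_le_padicValNat h
        have h6 : 2 ∣ S (k+1) i := by omega
        exact one_le_padicValNat_of_dvd hS0 h6
    · rw [val_S k p i hk hp hpk (fun h => by by_contra h'; exact hcase ⟨h, h'⟩) hi]
  · rw [padicValNat.eq_zero_of_not_dvd hpn]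
    simp

theorem forward (k n : ℕ) (hk : 0 < k) (hn : 1 < n)
    (hr : ∀ r : ℕ, r.Prime → r ∣ n → r ∣ k) (h4 : 4 ∣ n → 4 ∣ k) :
    n ∣ S (k+1) n ∧ ∀ i, 0 < i → i < n → ¬ n ∣ S (k+1) i := by
  refine ⟨(dvd_S_iff k n n hk (by omega) hr h4 (by omega)).2 dvd_rfl, ?_⟩
  intro i hi hin h
  have := (dvd_S_iff k n i hk (by omega) hr h4 hi.ne').1 h
  exact absurd (Nat.le_of_dvd hi this) (by omega)

theorem backward (k n : ℕ) (hk : 0 < k) (hn : 1 < n) (h1 : n ∣ S (k+1) n)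
    (h2 : ∀ i, 0 < i → i < n → ¬ n ∣ S (k+1) i) :
    (∀ r : ℕ, r.Prime → r ∣ n → r ∣ k) ∧ (4 ∣ n → 4 ∣ k) := by
  have hn0 : 0 < n := by omega
  have hcop : Nat.Coprime n (k+1) := by
    by_contra hc
    obtain ⟨p, hp, hpn, hpq⟩ := Nat.Prime.not_coprime_iff_dvd.1 hc
    obtain ⟨n', rfl⟩ : ∃ n', n = n' + 1 := ⟨n - 1, by omega⟩
    have h3 : p ∣ S (k+1) (n'+1) := hpn.trans h1
    rw [S_rec] at h3
    have h4 : p ∣ (k+1) * S (k+1) n' := Dvd.dvd.mul_right hpq _
    have := (Nat.dvd_add_right h4).1 h3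
    exact hp.one_lt.ne' (Nat.dvd_one.1 this)
  have hinj_aux : ∀ i j, j < i → i < n → ¬ (S (k+1) i ≡ S (k+1) j [MOD n]) := by
    intro i j hji hin hmod
    obtain ⟨d, rfl⟩ : ∃ d, i = j + d := ⟨i - j, by omega⟩
    rw [S_add] at hmod
    have hle : S (k+1) j ≤ S (k+1) j + (k+1)^j * S (k+1) d := Nat.le_add_right _ _
    have h3 := (Nat.modEq_iff_dvd' hle).1 hmod.symm
    rw [Nat.add_sub_cancel_left] at h3
    have h4 : n ∣ S (k+1) d := (Nat.Coprime.pow_right j hcop).dvd_of_dvd_mul_left h3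
    exact h2 d (by omega) (by omega) h4
  let f : Fin n → Fin n := fun i => ⟨S (k+1) i % n, Nat.mod_lt _ hn0⟩
  have hinj : Function.Injective f := by
    intro a b hab
    have hab' : S (k+1) a % n = S (k+1) b % n := congrArg Fin.val hab
    rcases lt_trichotomy (a : ℕ) (b : ℕ) with h | h | h
    · exact absurd (show S (k+1) b ≡ S (k+1) a [MOD n] from hab'.symm) (hinj_aux b a h b.2)
    · exact Fin.ext h
    · exact absurd (show S (k+1) a ≡ S (k+1) b [MOD n] from hab') (hinj_aux a b h a.2)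
  have hsurj : Function.Surjective f := Finite.injective_iff_surjective.1 hinj
  have hsurj' : ∀ c : ℕ, ∃ i, S (k+1) i ≡ c [MOD n] := by
    intro c
    obtain ⟨i, hi⟩ := hsurj ⟨c % n, Nat.mod_lt _ hn0⟩
    refine ⟨i, ?_⟩
    have : S (k+1) i % n = c % n := congrArg Fin.val hi
    exact this
  have hD : ∀ r : ℕ, r.Prime → r ∣ n → r ∣ k := by
    intro r hr hrn
    by_contra hrk
    have hcop' : Nat.Coprime k r := ((Nat.Prime.coprime_iff_not_dvd hr).2 hrk).symm
    obtain ⟨m, -, hm⟩ := Nat.exists_mul_mod_eq_one_of_coprime hcop' hr.one_lt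
    have hkm : k * m ≡ 1 [MOD r] := by
      show k * m % r = 1 % r
      rw [hm, Nat.mod_eq_of_lt hr.one_lt]
    obtain ⟨i, hi⟩ := hsurj' ((r - 1) * m)
    have hi' : S (k+1) i ≡ (r-1) * m [MOD r] := hi.of_dvd hrn
    have h5 : (k+1)^i ≡ 0 [MOD r] := by
      rw [← S_eq k i]
      have h6 : k * S (k+1) i + 1 ≡ k * ((r-1) * m) + 1 [MOD r] := (hi'.mul_left k).add_right 1
      have h7 : k * ((r-1) * m) + 1 ≡ (r - 1) * 1 + 1 [MOD r] := by
        have : k * ((r-1) * m) = (r-1) * (k * m) := by ring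
        rw [this]
        exact (hkm.mul_left (r-1)).add_right 1
      have h8 : (r - 1) * 1 + 1 = r := by have := hr.one_lt; omega
      rw [h8] at h7
      exact (h6.trans h7).trans (by show r % r = 0 % r; simp)
    have h9 : r ∣ (k+1)^i := (Nat.modEq_zero_iff_dvd).1 h5
    have h10 : r ∣ k + 1 := hr.dvd_of_dvd_pow h9
    have : ¬ Nat.Coprime n (k+1) := Nat.Prime.not_coprime_iff_dvd.2 ⟨r, hr, hrn, h10⟩
    exact this hcop
  refine ⟨hD, ?_⟩
  intro h4n
  by_contra h4k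
  have h2k : 2 ∣ k := hD 2 Nat.prime_two (Dvd.dvd.trans (by norm_num) h4n)
  have hq4 : (k+1) % 4 = 3 := by obtain ⟨c, hc⟩ := h2k; omega
  obtain ⟨i, hi⟩ := hsurj' 2
  have hi' : S (k+1) i ≡ 2 [MOD 4] := hi.of_dvd h4n
  have h' : S (k+1) i % 4 = 2 % 4 := hi'
  rcases S_mod4 (k+1) hq4 i with h | h <;> omega

theorem main0694 (q n : ℕ) (hq : IsPrimePow q) (hn : 1 < n) : ((∀ r : ℕ, r.Prime → r ∣ n → r ∣ q - 1) ∧ (4 ∣ n → 4 ∣ q - 1)) ↔ (q ^ n ≡ 1 [MOD n * (q - 1)] ∧ ∀ i : ℕ, 0 < i → i < n → ¬ q ^ i ≡ 1 [MOD n * (q - 1)]) := by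
  have hq2 : 2 ≤ q := hq.two_le
  obtain ⟨k, rfl⟩ : ∃ k, q = k + 1 := ⟨q - 1, by omega⟩
  have hk : 0 < k := by omega
  rw [Nat.add_sub_cancel]
  simp only [fun i => modeq_iff k n i hk]
  constructor
  · rintro ⟨hr, h4⟩; exact forward k n hk hn hr h4
  · rintro ⟨h1, h2⟩; exact backward k n hk hn h1 h2


/-- The Dickson pair condition: for a prime power `q` and `n > 1`, (every prime factor of `n` divides `q - 1`, and `4 ∣ n → 4 ∣ q - 1`) holds exactly when `q ^ n ≡ 1` modulo `n * (q - 1)` but `q ^ i` is not, for `0 < i < n`. -/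
theorem result (q n : ℕ) (hq : IsPrimePow q) (hn : 1 < n) : ((∀ r : ℕ, r.Prime → r ∣ n → r ∣ q - 1) ∧ (4 ∣ n → 4 ∣ q - 1)) ↔ (q ^ n ≡ 1 [MOD n * (q - 1)] ∧ ∀ i : ℕ, 0 < i → i < n → ¬ q ^ i ≡ 1 [MOD n * (q - 1)]) := by
  exact main0694 q n hq hn

end Cfsg.Agent.S0694
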