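import Cfsg.Statements.S0695
import Mathlib
import Cfsg.Agent.Lib.Helper1.RegNormal

set_option autoImplicit false
open Cfsg

namespace Cfsg.Agent.S0695

open MulAction Cfsg.Agent.Lib.Helper1
open scoped Pointwise

section
variable {G X : Type*} [Group G] [MulAction G X] (N : Subgroup G)

theorem conj_inv_cases {n k : G} (hc : k * n * k⁻¹ = n ∨ k * n * k⁻¹ = n⁻¹) :
    k⁻¹ * n * k⁻¹⁻¹ = n ∨ k⁻¹ * n * k⁻¹⁻¹ = n⁻¹ := by
  rcases hc with hc | hc
  · left
    calc k⁻¹ * n * k⁻¹⁻¹ = k⁻¹ * (k * n * k⁻¹) * k⁻¹⁻¹ := by rw [hc]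
      _ = n := by group
  · right
    have h2 : k * n⁻¹ * k⁻¹ = n := by
      have : k * n⁻¹ * k⁻¹ = (k * n * k⁻¹)⁻¹ := by group
      rw [this, hc, inv_inv]
    calc k⁻¹ * n * k⁻¹⁻¹ = k⁻¹ * (k * n⁻¹ * k⁻¹) * k⁻¹⁻¹ := by rw [h2]
      _ = n⁻¹ := by group

theorem block_step [N.Normal] (htrans : IsPretransitive N X)
    (hreg : ∀ x : X, stabilizer N x = ⊥) {x0 : X} {n k : G} (hk : k • x0 = x0)
    (hc : k * n * k⁻¹ = n ∨ k * n * k⁻¹ = n⁻¹) (z : X)
    (hz : nu N htrans x0 z = n ∨ nu N htrans x0 z = n⁻¹) :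
    nu N htrans x0 (k • z) = n ∨ nu N htrans x0 (k • z) = n⁻¹ := by
  rw [nu_conj N htrans hreg hk z]
  rcases hz with hz | hz
  · rw [hz]
    exact hc
  · rw [hz]
    have : k * n⁻¹ * k⁻¹ = (k * n * k⁻¹)⁻¹ := by group
    rw [this]
    rcases hc with hc | hc
    · right; rw [hc]
    · left; rw [hc, inv_inv]

end


/-- A regular normal subgroup of a doubly primitive group of finite degree at least 2 is an elementary abelian 2-group (and the degree is a power of 2), unless the degree is 3. -/
theorem result {G : Type*} [Group G] {X : Type*} [Fintype X] [MulAction G X] (hX : 2 ≤ Fintype.card X) (h2 : MulAction.IsMultiplyPreprimitive G X 2) (N : Subgroup G) [N.Normal] (htrans : MulAction.IsPretransitive N X) (hreg : ∀ x : X, MulAction.stabilizer N x = ⊥) : Fintype.card X = 3 ∨ (IsMulCommutative N ∧ (∀ n ∈ N, n ^ 2 = 1) ∧ ∃ m : ℕ, Fintype.card X = 2 ^ m) := by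
  classical
  by_cases h3 : Fintype.card X = 3
  · exact Or.inl h3
  right
  haveI : Fact (Nat.Prime 2) := ⟨Nat.prime_two⟩
  have hne : Nonempty X := by
    rw [← Fintype.card_pos_iff]
    omega
  obtain ⟨x0⟩ := hne
  have hcardN := card_regular N htrans hreg x0
  rw [Nat.card_eq_fintype_card (α := X)] at hcardN
  haveI : Finite N := Nat.finite_of_card_ne_zero (by rw [hcardN]; omega)
  have hprim : IsPreprimitive (fixingSubgroup G ({x0} : Set X))
      (SubMulAction.ofFixingSubgroup G ({x0} : Set X)) :=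
    IsMultiplyPreprimitive.isPreprimitive_ofFixingSubgroup G 2 (by
      rw [Set.encard_singleton]; rfl)
  have hkfix : ∀ k : fixingSubgroup G ({x0} : Set X), (k : G) • x0 = x0 :=
    fun k => (mem_fixingSubgroup_iff G).1 k.2 x0 rfl
  have hsq : ∀ n ∈ N, n ^ 2 = 1 := by
    intro n hn
    by_cases hn1 : n = 1
    · rw [hn1, one_pow]
    have hy0 : n • x0 ≠ x0 := by
      intro h
      exact hn1 (regular_unique N hreg hn N.one_mem (h.trans (one_smul _ _).symm))
    have hw0 : n⁻¹ • x0 ≠ x0 := by
      intro h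
      apply hy0
      rw [inv_smul_eq_iff] at h
      exact h.symm
    have hB : IsBlock (fixingSubgroup G ({x0} : Set X))
        {y : SubMulAction.ofFixingSubgroup G ({x0} : Set X) |
          nu N htrans x0 (y : X) = n ∨ nu N htrans x0 (y : X) = n⁻¹} := by
      rw [isBlock_iff_smul_eq_of_mem]
      intro k y hy hky
      have hy' : nu N htrans x0 (y : X) = n ∨ nu N htrans x0 (y : X) = n⁻¹ := hy
      have hky' : nu N htrans x0 ((k : G) • (y : X)) = n ∨
          nu N htrans x0 ((k : G) • (y : X)) = n⁻¹ := hky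
      have hc : (k : G) * n * (k : G)⁻¹ = n ∨ (k : G) * n * (k : G)⁻¹ = n⁻¹ := by
        rw [nu_conj N htrans hreg (hkfix k)] at hky'
        rcases hy' with hy' | hy'
        · rw [hy'] at hky'
          exact hky'
        · rw [hy'] at hky'
          have h2 : (k : G) * n * (k : G)⁻¹ = ((k : G) * n⁻¹ * (k : G)⁻¹)⁻¹ := by group
          rcases hky' with hky' | hky'
          · right; rw [h2, hky']
          · left; rw [h2, hky', inv_inv]
      ext z
      rw [Set.mem_smul_set_iff_inv_smul_mem]
      constructor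
      · intro hz
        have hz' : nu N htrans x0 ((k : G)⁻¹ • (z : X)) = n ∨
            nu N htrans x0 ((k : G)⁻¹ • (z : X)) = n⁻¹ := hz
        have := block_step N htrans hreg (hkfix k) hc _ hz'
        rw [smul_inv_smul] at this
        exact this
      · intro hz
        have hz' : nu N htrans x0 (z : X) = n ∨ nu N htrans x0 (z : X) = n⁻¹ := hz
        have hk' : (k : G)⁻¹ • x0 = x0 := by rw [inv_smul_eq_iff, hkfix k]
        exact block_step N htrans hreg hk' (conj_inv_cases hc) _ hz'
    have hyB : (⟨n • x0, fun h => hy0 (Set.mem_singleton_iff.1 h)⟩ :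
        SubMulAction.ofFixingSubgroup G ({x0} : Set X)) ∈
        {y : SubMulAction.ofFixingSubgroup G ({x0} : Set X) |
          nu N htrans x0 (y : X) = n ∨ nu N htrans x0 (y : X) = n⁻¹} :=
      Or.inl (nu_eq N htrans hreg hn rfl)
    have hwB : (⟨n⁻¹ • x0, fun h => hw0 (Set.mem_singleton_iff.1 h)⟩ :
        SubMulAction.ofFixingSubgroup G ({x0} : Set X)) ∈
        {y : SubMulAction.ofFixingSubgroup G ({x0} : Set X) |
          nu N htrans x0 (y : X) = n ∨ nu N htrans x0 (y : X) = n⁻¹} :=
      Or.inr (nu_eq N htrans hreg (N.inv_mem hn) rfl)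
    rcases hprim.isTrivialBlock_of_isBlock hB with hsub | huniv
    · have := hsub hyB hwB
      have h1 : n • x0 = n⁻¹ • x0 := congrArg Subtype.val this
      have h2 : n = n⁻¹ := regular_unique N hreg hn (N.inv_mem hn) h1
      rw [pow_two]
      nth_rewrite 2 [h2]
      exact mul_inv_cancel n
    · have hsub3 : (Finset.univ : Finset X) ⊆ {x0, n • x0, n⁻¹ • x0} := by
        intro x _
        rw [Finset.mem_insert, Finset.mem_insert, Finset.mem_singleton]
        by_cases hx : x = x0
        · exact Or.inl hx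
        · right
          have hz : (⟨x, fun h => hx (Set.mem_singleton_iff.1 h)⟩ :
              SubMulAction.ofFixingSubgroup G ({x0} : Set X)) ∈
              {y : SubMulAction.ofFixingSubgroup G ({x0} : Set X) |
                nu N htrans x0 (y : X) = n ∨ nu N htrans x0 (y : X) = n⁻¹} := by
            rw [huniv]; exact Set.mem_univ _
          have hz' : nu N htrans x0 x = n ∨ nu N htrans x0 x = n⁻¹ := hz
          rcases hz' with hz' | hz'
          · left; rw [← hz', nu_smul]
          · right; rw [← hz', nu_smul]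
      have hle := Finset.card_le_card hsub3
      rw [Finset.card_univ] at hle
      have hle3 : ({x0, n • x0, n⁻¹ • x0} : Finset X).card ≤ 3 := Finset.card_le_three
      have h2 : Nat.card N = 2 := by omega
      have := pow_card_eq_one' (G := ↥N) (x := ⟨n, hn⟩)
      rw [h2] at this
      exact congrArg Subtype.val this
  refine ⟨⟨⟨?_⟩⟩, hsq, ?_⟩
  · intro a b
    have ha2 : a * a = 1 := by
      apply Subtype.ext
      have := hsq a.1 a.2
      rwa [pow_two] at this
    have hb2 : b * b = 1 := by
      apply Subtype.ext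
      have := hsq b.1 b.2
      rwa [pow_two] at this
    have hab2 : (a * b) * (a * b) = 1 := by
      apply Subtype.ext
      have := hsq (a * b).1 (a * b).2
      rwa [pow_two] at this
    calc a * b = (a * b)⁻¹ := (inv_eq_of_mul_eq_one_right hab2).symm
      _ = b⁻¹ * a⁻¹ := mul_inv_rev a b
      _ = b * a := by rw [inv_eq_of_mul_eq_one_right hb2, inv_eq_of_mul_eq_one_right ha2]
  · have hp : IsPGroup 2 N := by
      intro g
      refine ⟨1, ?_⟩
      apply Subtype.ext
      rw [pow_one]
      exact hsq g.1 g.2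
    obtain ⟨m, hm⟩ := (IsPGroup.iff_card).1 hp
    exact ⟨m, by rw [← hcardN, hm]⟩

end Cfsg.Agent.S0695
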