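import Cfsg.Statements.S0696
import Mathlib
import Cfsg.Agent.Lib.Helper1.RegNormal
import Cfsg.Agent.S0695

set_option autoImplicit false
open Cfsg

namespace Cfsg.Agent.S0696

open MulAction Cfsg.Agent.Lib.Helper1
open scoped Pointwise


/-- A triply primitive group of degree at least 3 having a regular normal subgroup has degree 3 or 4. -/
theorem result {G : Type*} [Group G] {X : Type*} [Fintype X] [MulAction G X] (hX : 3 ≤ Fintype.card X) (h3 : MulAction.IsMultiplyPreprimitive G X 3) (N : Subgroup G) [N.Normal] (htrans : MulAction.IsPretransitive N X) (hreg : ∀ x : X, MulAction.stabilizer N x = ⊥) : Fintype.card X = 3 ∨ Fintype.card X = 4 := by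
  classical
  have h2 : MulAction.IsMultiplyPreprimitive G X 2 := by
    apply MulAction.isMultiplyPreprimitive_of_le G X h3 (by norm_num)
    rw [ENat.card_eq_coe_fintype_card]
    exact_mod_cast hX
  rcases Cfsg.Agent.S0695.result (by omega) h2 N htrans hreg with h | ⟨_, hsq, m, hm⟩
  · exact Or.inl h
  right
  have hne : Nonempty X := by
    rw [← Fintype.card_pos_iff]
    omega
  obtain ⟨x0⟩ := hne
  have hcardN := card_regular N htrans hreg x0
  rw [Nat.card_eq_fintype_card (α := X)] at hcardN
  have h4 : 4 ≤ Fintype.card X := by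
    rw [hm] at hX ⊢
    rcases m with _ | _ | m
    · norm_num at hX
    · norm_num at hX
    · have : 2 ^ (m + 1 + 1) = 4 * 2 ^ m := by ring
      rw [this]
      have := Nat.one_le_two_pow (n := m)
      omega
  haveI : Finite N := Nat.finite_of_card_ne_zero (by rw [hcardN]; omega)
  -- a nonidentity element of N
  have hNne : ∃ n ∈ N, n ≠ 1 := by
    have : 1 < Nat.card N := by omega
    rw [Subgroup.one_lt_card_iff_ne_bot] at this
    obtain ⟨u, hu⟩ := (Subgroup.ne_bot_iff_exists_ne_one).1 this
    exact ⟨u.1, u.2, fun h => hu (Subtype.ext h)⟩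
  obtain ⟨n, hn, hn1⟩ := hNne
  have hnn : n * n = 1 := by
    have := hsq n hn
    rwa [pow_two] at this
  have hninv : n⁻¹ = n := inv_eq_of_mul_eq_one_right hnn
  have hmove : ∀ x : X, n • x ≠ x := by
    intro x h
    exact hn1 (regular_unique N hreg hn N.one_mem (h.trans (one_smul _ _).symm))
  have hprim : IsPreprimitive (fixingSubgroup G ({x0, n • x0} : Set X))
      (SubMulAction.ofFixingSubgroup G ({x0, n • x0} : Set X)) :=
    IsMultiplyPreprimitive.isPreprimitive_ofFixingSubgroup G 3 (by
      rw [Set.encard_pair (Ne.symm (hmove x0))]; rfl)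
  have hkfix : ∀ k : fixingSubgroup G ({x0, n • x0} : Set X),
      (k : G) • x0 = x0 ∧ (k : G) • (n • x0) = n • x0 := by
    intro k
    have := (mem_fixingSubgroup_iff G).1 k.2
    exact ⟨this x0 (Set.mem_insert _ _), this _ (Set.mem_insert_of_mem _ rfl)⟩
  -- elements of the fixing subgroup commute with n
  have hcomm : ∀ k : fixingSubgroup G ({x0, n • x0} : Set X), ∀ x : X,
      (k : G) • (n • x) = n • ((k : G) • x) := by
    intro k x
    have h1 := nu_conj N htrans hreg (hkfix k).1 (n • x0)
    rw [(hkfix k).2, nu_eq N htrans hreg hn rfl] at h1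
    have h2 : (k : G) * n = n * (k : G) := by
      have : n * (k : G) = ((k : G) * n * (k : G)⁻¹) * (k : G) := by rw [← h1]
      rw [this]
      group
    rw [← mul_smul, h2, mul_smul]
  -- a third point
  have hex : ∃ z : X, z ≠ x0 ∧ z ≠ n • x0 := by
    by_contra hcon
    push Not at hcon
    have : (Finset.univ : Finset X) ⊆ {x0, n • x0} := by
      intro z _
      rw [Finset.mem_insert, Finset.mem_singleton]
      by_cases hz : z = x0
      · exact Or.inl hz
      · exact Or.inr (hcon z hz)
    have h1 := Finset.card_le_card this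
    have h2' : ({x0, n • x0} : Finset X).card ≤ 2 := Finset.card_le_two
    rw [Finset.card_univ] at h1
    omega
  obtain ⟨z, hz0, hz1⟩ := hex
  have hnz0 : n • z ≠ x0 := by
    intro h
    apply hz1
    rw [← h, ← mul_smul, hnn, one_smul]
  have hnz1 : n • z ≠ n • x0 := fun h => hz0 (MulAction.injective n h)
  have hzmem : z ∉ ({x0, n • x0} : Set X) := by
    intro h
    rcases h with h | h
    · exact hz0 h
    · exact hz1 h
  have hnzmem : n • z ∉ ({x0, n • x0} : Set X) := by
    intro h
    rcases h with h | h
    · exact hnz0 h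
    · exact hnz1 h
  have hB : IsBlock (fixingSubgroup G ({x0, n • x0} : Set X))
      {w : SubMulAction.ofFixingSubgroup G ({x0, n • x0} : Set X) |
        (w : X) = z ∨ (w : X) = n • z} := by
    rw [isBlock_iff_smul_eq_of_mem]
    intro k w hw hkw
    have hw' : (w : X) = z ∨ (w : X) = n • z := hw
    have hkw' : (k : G) • (w : X) = z ∨ (k : G) • (w : X) = n • z := hkw
    -- k preserves the pair
    have hP : ((k : G) • z = z ∧ (k : G) • (n • z) = n • z) ∨
        ((k : G) • z = n • z ∧ (k : G) • (n • z) = z) := by
      rcases hw' with hw' | hw'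
      · rw [hw'] at hkw'
        rcases hkw' with h | h
        · left
          exact ⟨h, by rw [hcomm, h]⟩
        · right
          exact ⟨h, by rw [hcomm, h, ← mul_smul, hnn, one_smul]⟩
      · rw [hw', hcomm] at hkw'
        rcases hkw' with h | h
        · right
          have hkz : (k : G) • z = n • z := by
            calc (k : G) • z = n • (n • ((k : G) • z)) := by rw [← mul_smul, hnn, one_smul]
              _ = n • z := by rw [h]
          exact ⟨hkz, by rw [hcomm, hkz, ← mul_smul, hnn, one_smul]⟩
        · left
          have hkz : (k : G) • z = z := MulAction.injective n h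
          exact ⟨hkz, by rw [hcomm, hkz]⟩
    ext v
    rw [Set.mem_smul_set_iff_inv_smul_mem]
    constructor
    · intro hv
      have hv' : (k : G)⁻¹ • (v : X) = z ∨ (k : G)⁻¹ • (v : X) = n • z := hv
      show (v : X) = z ∨ (v : X) = n • z
      rcases hP with ⟨p1, p2⟩ | ⟨p1, p2⟩
      · rcases hv' with h | h
        · left; rw [inv_smul_eq_iff, p1] at h; exact h
        · right; rw [inv_smul_eq_iff, p2] at h; exact h
      · rcases hv' with h | h
        · right; rw [inv_smul_eq_iff, p1] at h; exact h
        · left; rw [inv_smul_eq_iff, p2] at h; exact h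
    · intro hv
      have hv' : (v : X) = z ∨ (v : X) = n • z := hv
      show (k : G)⁻¹ • (v : X) = z ∨ (k : G)⁻¹ • (v : X) = n • z
      rcases hP with ⟨p1, p2⟩ | ⟨p1, p2⟩
      · rcases hv' with h | h
        · left; rw [inv_smul_eq_iff, p1, h]
        · right; rw [inv_smul_eq_iff, p2, h]
      · rcases hv' with h | h
        · right; rw [inv_smul_eq_iff, p2, h]
        · left; rw [inv_smul_eq_iff, p1, h]
  have hzB : (⟨z, hzmem⟩ : SubMulAction.ofFixingSubgroup G ({x0, n • x0} : Set X)) ∈
      {w : SubMulAction.ofFixingSubgroup G ({x0, n • x0} : Set X) |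
        (w : X) = z ∨ (w : X) = n • z} := Or.inl rfl
  have hnzB : (⟨n • z, hnzmem⟩ : SubMulAction.ofFixingSubgroup G ({x0, n • x0} : Set X)) ∈
      {w : SubMulAction.ofFixingSubgroup G ({x0, n • x0} : Set X) |
        (w : X) = z ∨ (w : X) = n • z} := Or.inr rfl
  rcases hprim.isTrivialBlock_of_isBlock hB with hsub | huniv
  · exfalso
    have := hsub hzB hnzB
    exact hmove z (congrArg Subtype.val this).symm
  · have hsub4 : (Finset.univ : Finset X) ⊆ {x0, n • x0, z, n • z} := by
      intro x _
      simp only [Finset.mem_insert, Finset.mem_singleton]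
      by_cases hx0 : x = x0
      · exact Or.inl hx0
      by_cases hx1 : x = n • x0
      · exact Or.inr (Or.inl hx1)
      right; right
      have hxmem : x ∉ ({x0, n • x0} : Set X) := by
        intro h
        rcases h with h | h
        · exact hx0 h
        · exact hx1 h
      have hv : (⟨x, hxmem⟩ : SubMulAction.ofFixingSubgroup G ({x0, n • x0} : Set X)) ∈
          {w : SubMulAction.ofFixingSubgroup G ({x0, n • x0} : Set X) |
            (w : X) = z ∨ (w : X) = n • z} := by
        rw [huniv]; exact Set.mem_univ _
      exact hv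
    have hle := Finset.card_le_card hsub4
    rw [Finset.card_univ] at hle
    have hle4 : ({x0, n • x0, z, n • z} : Finset X).card ≤ 4 := Finset.card_le_four
    omega

end Cfsg.Agent.S0696
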