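import Cfsg.Statements.S0701
import Mathlib

set_option autoImplicit false
open Cfsg

namespace Cfsg.Agent.S0701

/-- The centraliser in the full symmetric group of a transitive permutation group `G` is semiregular, and it is transitive if and only if `G` is regular. -/
theorem result {α : Type*} (G : Subgroup (Equiv.Perm α)) [MulAction.IsPretransitive G α] : (∀ c ∈ Subgroup.centralizer (G : Set (Equiv.Perm α)), ∀ a : α, c a = a → c = 1) ∧ (MulAction.IsPretransitive (Subgroup.centralizer (G : Set (Equiv.Perm α))) α ↔ ∀ a : α, MulAction.stabilizer G a = ⊥) := by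
  have htr : ∀ x y : α, ∃ g : G, (g : Equiv.Perm α) x = y := fun x y => by
    obtain ⟨g, hg⟩ := MulAction.exists_smul_eq G x y
    exact ⟨g, hg⟩
  have hcomm : ∀ c ∈ Subgroup.centralizer (G : Set (Equiv.Perm α)), ∀ g : G, ∀ x : α,
      c ((g : Equiv.Perm α) x) = (g : Equiv.Perm α) (c x) := by
    intro c hc g x
    have h := Subgroup.mem_centralizer_iff.1 hc (g : Equiv.Perm α) g.2
    have := congrArg (fun f : Equiv.Perm α => f x) h
    simpa [Equiv.Perm.mul_apply] using this.symm
  refine ⟨?_, ?_, ?_⟩
  · intro c hc a hca
    ext b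
    obtain ⟨g, rfl⟩ := htr a b
    rw [hcomm c hc g a, hca]; rfl
  · intro hC a
    rw [eq_bot_iff]
    intro g hg
    rw [Subgroup.mem_bot]
    have hga : (g : Equiv.Perm α) a = a := hg
    apply Subtype.ext
    ext b
    obtain ⟨c, hc⟩ := hC.exists_smul_eq a b
    have hcb : (c : Equiv.Perm α) a = b := hc
    rw [← hcb, ← hcomm c c.2 g a, hga]; rfl
  · intro hreg
    have hinj : ∀ (x : α) (g h : G), (g : Equiv.Perm α) x = (h : Equiv.Perm α) x → g = h := by
      intro x g h hgh
      have : h⁻¹ * g ∈ MulAction.stabilizer G x := by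
        rw [MulAction.mem_stabilizer_iff]
        change ((h⁻¹ * g : G) : Equiv.Perm α) x = x
        simp [hgh]
      rw [hreg x, Subgroup.mem_bot] at this
      exact (inv_mul_eq_one.1 this).symm
    refine ⟨fun a b => ?_⟩
    classical
    let f : α → G := fun x => (htr a x).choose
    have hf : ∀ x, (f x : Equiv.Perm α) a = x := fun x => (htr a x).choose_spec
    let f' : α → G := fun y => (htr b y).choose
    have hf' : ∀ y, (f' y : Equiv.Perm α) b = y := fun y => (htr b y).choose_spec
    let c : Equiv.Perm α :=
      { toFun := fun x => (f x : Equiv.Perm α) b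
        invFun := fun y => (f' y : Equiv.Perm α) a
        left_inv := by
          intro x
          have : f' ((f x : Equiv.Perm α) b) = f x := hinj b _ _ (hf' _)
          simp only [this, hf]
        right_inv := by
          intro y
          have : f ((f' y : Equiv.Perm α) a) = f' y := hinj a _ _ (hf _)
          simp only [this, hf'] }
    have hcdef : ∀ x, c x = (f x : Equiv.Perm α) b := fun x => rfl
    have hcC : c ∈ Subgroup.centralizer (G : Set (Equiv.Perm α)) := by
      rw [Subgroup.mem_centralizer_iff]
      intro g hg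
      ext x
      simp only [Equiv.Perm.mul_apply, hcdef]
      have : f (g x) = ⟨g, hg⟩ * f x := by
        apply hinj a
        rw [hf]
        change g x = g ((f x : Equiv.Perm α) a)
        rw [hf]
      rw [this]; rfl
    refine ⟨⟨c, hcC⟩, ?_⟩
    change c a = b
    rw [hcdef]
    have : f a = 1 := hinj a _ _ (by rw [hf]; rfl)
    rw [this]; rfl

end Cfsg.Agent.S0701
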