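import Cfsg.Statements.S0702
import Mathlib

set_option autoImplicit false
open Cfsg

namespace Cfsg.Agent.S0702

open MulAction

section
variable {α : Type*} (G : Subgroup (Equiv.Perm α)) [MulAction.IsPretransitive G α] (a : α)

/-- a chosen element of `G` moving `a` to `x` -/
noncomputable def sec (x : α) : G := Classical.choose (exists_smul_eq G a x)

theorem sec_smul (x : α) : sec G a x • a = x := Classical.choose_spec (exists_smul_eq G a x)

/-- the map `g • a ↦ g n⁻¹ • a` -/
noncomputable def fmap (n : G) (x : α) : α := (sec G a x * n⁻¹) • a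

theorem fmap_smul (n : G)
    (hn : n ∈ Subgroup.normalizer ((MulAction.stabilizer G a : Subgroup G) : Set G)) (g : G) :
    fmap G a n (g • a) = (g * n⁻¹) • a := by
  unfold fmap
  have hs := sec_smul G a (g • a)
  have h1 : g⁻¹ * sec G a (g • a) ∈ MulAction.stabilizer G a := by
    rw [MulAction.mem_stabilizer_iff, mul_smul, hs, inv_smul_smul]
  have h2 := (Subgroup.mem_normalizer_iff.1 hn _).1 h1
  rw [MulAction.mem_stabilizer_iff] at h2
  have h3 : sec G a (g • a) * n⁻¹ = (g * n⁻¹) * (n * (g⁻¹ * sec G a (g • a)) * n⁻¹) := by group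
  rw [h3, mul_smul, h2]

theorem fmap_one (x : α) : fmap G a 1 x = x := by
  unfold fmap
  rw [inv_one, mul_one, sec_smul]

theorem fmap_mul (n m : G)
    (hn : n ∈ Subgroup.normalizer ((MulAction.stabilizer G a : Subgroup G) : Set G)) (x : α) :
    fmap G a (n * m) x = fmap G a n (fmap G a m x) := by
  have h1 : fmap G a m x = (sec G a x * m⁻¹) • a := rfl
  rw [h1, fmap_smul G a n hn]
  unfold fmap
  rw [mul_inv_rev, mul_assoc]

theorem fmap_comm (n : G)
    (hn : n ∈ Subgroup.normalizer ((MulAction.stabilizer G a : Subgroup G) : Set G)) (k : G)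
    (x : α) : fmap G a n (k • x) = k • fmap G a n x := by
  have hx : x = sec G a x • a := (sec_smul G a x).symm
  have h1 : k • x = (k * sec G a x) • a := by rw [mul_smul, ← hx]
  rw [h1, fmap_smul G a n hn]
  unfold fmap
  rw [mul_assoc, mul_smul]

/-- the permutation attached to an element of the normalizer -/
noncomputable def fperm
    (n : Subgroup.normalizer ((MulAction.stabilizer G a : Subgroup G) : Set G)) :
    Equiv.Perm α where
  toFun := fmap G a n.1
  invFun := fmap G a (n⁻¹).1
  left_inv x := by
    rw [← fmap_mul G a _ _ (n⁻¹).2]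
    have : ((n⁻¹ : Subgroup.normalizer ((MulAction.stabilizer G a : Subgroup G) : Set G)) : G) *
        (n : G) = 1 := by
      rw [← Subgroup.coe_mul, inv_mul_cancel, Subgroup.coe_one]
    rw [this, fmap_one]
  right_inv x := by
    rw [← fmap_mul G a _ _ n.2]
    have : (n : G) *
        ((n⁻¹ : Subgroup.normalizer ((MulAction.stabilizer G a : Subgroup G) : Set G)) : G)
        = 1 := by
      rw [← Subgroup.coe_mul, mul_inv_cancel, Subgroup.coe_one]
    rw [this, fmap_one]

theorem fperm_mem
    (n : Subgroup.normalizer ((MulAction.stabilizer G a : Subgroup G) : Set G)) :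
    fperm G a n ∈ Subgroup.centralizer (G : Set (Equiv.Perm α)) := by
  rw [Subgroup.mem_centralizer_iff]
  intro k hk
  ext x
  show k (fmap G a n.1 x) = fmap G a n.1 (k x)
  have := fmap_comm G a n.1 n.2 ⟨k, hk⟩ x
  exact this.symm

/-- the homomorphism from the normalizer of the stabilizer to the centralizer -/
noncomputable def fhom :
    Subgroup.normalizer ((MulAction.stabilizer G a : Subgroup G) : Set G) →*
      Subgroup.centralizer (G : Set (Equiv.Perm α)) where
  toFun n := ⟨fperm G a n, fperm_mem G a n⟩
  map_one' := by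
    apply Subtype.ext
    ext x
    exact fmap_one G a x
  map_mul' n m := by
    apply Subtype.ext
    ext x
    exact fmap_mul G a n.1 m.1 n.2 x

theorem fhom_apply
    (n : Subgroup.normalizer ((MulAction.stabilizer G a : Subgroup G) : Set G)) (x : α) :
    ((fhom G a n : Subgroup.centralizer (G : Set (Equiv.Perm α))) : Equiv.Perm α) x =
      fmap G a n.1 x := rfl

theorem central_comm (c : Equiv.Perm α) (hc : c ∈ Subgroup.centralizer (G : Set (Equiv.Perm α)))
    (k : G) (x : α) : c (k • x) = k • c x := by
  rw [Subgroup.mem_centralizer_iff] at hc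
  have := hc k.1 k.2
  have h2 := congrArg (fun p : Equiv.Perm α => p x) this
  exact h2.symm

end


/-- For a transitive permutation group `G` on a finite set, the centraliser of `G` in the symmetric group is isomorphic to `N_G(G_ω)/G_ω`, and its orbit of `ω` is the set of fixed points of `G_ω`. -/
theorem result {α : Type*} [Finite α] (G : Subgroup (Equiv.Perm α)) [MulAction.IsPretransitive G α] (a : α) : Nonempty (Subgroup.centralizer (G : Set (Equiv.Perm α)) ≃* Subgroup.normalizer ((MulAction.stabilizer G a : Subgroup G) : Set G) ⧸ (MulAction.stabilizer G a).subgroupOf (Subgroup.normalizer ((MulAction.stabilizer G a : Subgroup G) : Set G))) ∧ MulAction.orbit (Subgroup.centralizer (G : Set (Equiv.Perm α))) a = MulAction.fixedPoints (MulAction.stabilizer G a) α := by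
  classical
  haveI : Finite (Equiv.Perm α) := inferInstance
  -- membership in the normalizer from fixing property
  have hnorm : ∀ g0 : G, (∀ h ∈ MulAction.stabilizer G a, h • (g0 • a) = g0 • a) →
      g0⁻¹ ∈ Subgroup.normalizer ((MulAction.stabilizer G a : Subgroup G) : Set G) := by
    intro g0 hfix
    have hsub : ∀ h ∈ MulAction.stabilizer G a, g0⁻¹ * h * g0 ∈ MulAction.stabilizer G a := by
      intro h hh
      rw [MulAction.mem_stabilizer_iff, mul_smul, mul_smul, hfix h hh, inv_smul_smul]
    -- the conjugation map is a bijection of the finite stabilizer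
    let ψ : MulAction.stabilizer G a → MulAction.stabilizer G a :=
      fun h => ⟨g0⁻¹ * h.1 * g0, hsub h.1 h.2⟩
    have hinj : Function.Injective ψ := by
      intro h1 h2 h12
      have := congrArg Subtype.val h12
      apply Subtype.ext
      have h3 : g0⁻¹ * h1.1 * g0 = g0⁻¹ * h2.1 * g0 := this
      have h4 := mul_right_cancel h3
      exact mul_left_cancel h4
    have hsurj : Function.Surjective ψ := Finite.surjective_of_injective hinj
    rw [Subgroup.mem_normalizer_iff]
    intro h
    rw [inv_inv]
    constructor
    · intro hh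
      exact hsub h hh
    · intro hh
      obtain ⟨h', hh'⟩ := hsurj ⟨_, hh⟩
      have := congrArg Subtype.val hh'
      have h3 : g0⁻¹ * h'.1 * g0 = g0⁻¹ * h * g0 := this
      have h4 := mul_left_cancel (mul_right_cancel h3)
      rw [← h4]
      exact h'.2
  have hsurj : Function.Surjective (fhom G a) := by
    rintro ⟨c, hc⟩
    have hfix : ∀ h ∈ MulAction.stabilizer G a, h • (sec G a (c a) • a) = sec G a (c a) • a := by
      intro h hh
      rw [sec_smul, ← central_comm G c hc h a]
      rw [MulAction.mem_stabilizer_iff] at hh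
      rw [hh]
    refine ⟨⟨(sec G a (c a))⁻¹, hnorm _ hfix⟩, ?_⟩
    apply Subtype.ext
    ext x
    rw [fhom_apply]
    show fmap G a (sec G a (c a))⁻¹ x = c x
    unfold fmap
    rw [inv_inv, mul_smul, sec_smul, ← central_comm G c hc, sec_smul]
  have hker : (fhom G a).ker = (MulAction.stabilizer G a).subgroupOf
      (Subgroup.normalizer ((MulAction.stabilizer G a : Subgroup G) : Set G)) := by
    ext n
    rw [MonoidHom.mem_ker, Subgroup.mem_subgroupOf, MulAction.mem_stabilizer_iff]
    constructor
    · intro h
      have h1 := congrArg (fun c : Subgroup.centralizer (G : Set (Equiv.Perm α)) =>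
        (c : Equiv.Perm α) a) h
      have h2 : fmap G a n.1 a = a := h1
      have h3 := fmap_smul G a n.1 n.2 1
      rw [one_smul, one_mul] at h3
      rw [h3] at h2
      rw [inv_smul_eq_iff] at h2
      exact h2.symm
    · intro h
      apply Subtype.ext
      ext x
      rw [fhom_apply]
      show fmap G a n.1 x = x
      unfold fmap
      have : (n.1)⁻¹ • a = a := by rw [inv_smul_eq_iff, h]
      rw [mul_smul, this, sec_smul]
  constructor
  · exact ⟨((QuotientGroup.quotientMulEquivOfEq hker).symm.trans
      (QuotientGroup.quotientKerEquivOfSurjective (fhom G a) hsurj)).symm⟩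
  · ext x
    rw [MulAction.mem_orbit_iff, MulAction.mem_fixedPoints]
    constructor
    · rintro ⟨c, rfl⟩ h
      show (h : G) • ((c : Equiv.Perm α) a) = (c : Equiv.Perm α) a
      rw [← central_comm G c.1 c.2 (h : G) a]
      have : (h : G) • a = a := h.2
      rw [this]
    · intro hx
      have hfix : ∀ h ∈ MulAction.stabilizer G a, h • (sec G a x • a) = sec G a x • a := by
        intro h hh
        rw [sec_smul]
        exact hx ⟨h, hh⟩
      refine ⟨fhom G a ⟨(sec G a x)⁻¹, hnorm _ hfix⟩, ?_⟩
      show fmap G a (sec G a x)⁻¹ a = x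
      have h3 := fmap_smul G a (sec G a x)⁻¹ (hnorm _ hfix) 1
      rw [one_smul, one_mul, inv_inv, sec_smul] at h3
      exact h3

end Cfsg.Agent.S0702
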