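import Cfsg.Statements.S0703
import Cfsg.Agent.Lib.Helper2.TransCent

set_option autoImplicit false
set_option linter.style.haveILetI false
open Cfsg

namespace Cfsg.Agent.S0703

open Cfsg.Agent.Lib.Helper2

/-- An abelian transitive minimal normal subgroup `M` of a permutation group on a finite set is self-centralising in the symmetric group, regular, elementary abelian, and is the unique minimal normal subgroup. -/
theorem result {α : Type*} [Finite α] (G : Subgroup (Equiv.Perm α)) (M : Subgroup G) [M.Normal] (hM : M ≠ ⊥) (hmin : ∀ L : Subgroup G, L.Normal → L ≤ M → L = ⊥ ∨ L = M) (hab : IsMulCommutative M) (htrans : MulAction.IsPretransitive M α) : Subgroup.centralizer ((M.map G.subtype : Subgroup (Equiv.Perm α)) : Set (Equiv.Perm α)) = M.map G.subtype ∧ (∀ a : α, MulAction.stabilizer M a = ⊥) ∧ (∃ p : ℕ, p.Prime ∧ ∀ m ∈ M, m ^ p = 1) ∧ ∀ L : Subgroup G, L.Normal → L ≠ ⊥ → (∀ L' : Subgroup G, L'.Normal → L' ≤ L → L' = ⊥ ∨ L' = L) → L = M := by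
  classical
  set M' : Subgroup (Equiv.Perm α) := M.map G.subtype with hM'
  have hX : ∀ a b : α, ∃ x ∈ (M' : Set (Equiv.Perm α)), x a = b := by
    intro a b
    obtain ⟨m, hm⟩ := MulAction.exists_smul_eq M a b
    exact ⟨((m : G) : Equiv.Perm α), ⟨m.1, m.2, rfl⟩, hm⟩
  have hcommM : ∀ g h : G, g ∈ M → h ∈ M → g * h = h * g := by
    intro g h hg hh
    have := hab.is_comm.comm (⟨g, hg⟩ : M) ⟨h, hh⟩
    exact congrArg Subtype.val this
  have hcomm' : ∀ x ∈ (M' : Set (Equiv.Perm α)), ∀ y ∈ (M' : Set (Equiv.Perm α)), x * y = y * x := by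
    rintro x ⟨g, hg, rfl⟩ y ⟨h, hh, rfl⟩
    have := hcommM g h hg hh
    exact congrArg Subtype.val this
  -- a point
  obtain ⟨a0⟩ : Nonempty α := by
    by_contra hne
    rw [not_nonempty_iff] at hne
    apply hM
    rw [Subgroup.eq_bot_iff_forall]
    intro g _
    apply Subtype.ext
    ext b
    exact (hne.false b).elim
  have hcent : Subgroup.centralizer ((M' : Subgroup (Equiv.Perm α)) : Set (Equiv.Perm α)) = M' := by
    apply le_antisymm
    · intro c hc
      rw [Subgroup.mem_centralizer_iff] at hc
      obtain ⟨x, hx, hxa⟩ := hX a0 (c a0)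
      have : c = x := by
        apply perm_eq_of_commute_of_apply_eq hX c x hc _ a0 hxa.symm
        intro y hy
        exact hcomm' y hy x hx
      rw [this]; exact hx
    · intro c hc
      rw [Subgroup.mem_centralizer_iff]
      intro y hy
      exact hcomm' y hy c hc
  refine ⟨hcent, ?_, ?_, ?_⟩
  · intro a
    rw [Subgroup.eq_bot_iff_forall]
    intro m hm
    rw [MulAction.mem_stabilizer_iff] at hm
    have h1 : ((m : G) : Equiv.Perm α) = 1 := by
      apply perm_eq_one_of_commute_of_fixed hX _ _ a hm
      intro x hx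
      exact hcomm' x hx _ ⟨m.1, m.2, rfl⟩
    apply Subtype.ext
    apply Subtype.ext
    exact h1
  · have hcard : Nat.card M ≠ 1 := by
      intro h
      exact hM (Subgroup.card_eq_one.1 h)
    obtain ⟨p, hp, hpd⟩ := Nat.exists_prime_and_dvd hcard
    haveI : Fact p.Prime := ⟨hp⟩
    obtain ⟨x, hx⟩ := exists_prime_orderOf_dvd_card' p hpd
    refine ⟨p, hp, ?_⟩
    let L : Subgroup G :=
      { carrier := {g | g ∈ M ∧ g ^ p = 1}
        one_mem' := ⟨M.one_mem, one_pow _⟩
        mul_mem' := by
          rintro g h ⟨hg, hgp⟩ ⟨hh, hhp⟩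
          refine ⟨M.mul_mem hg hh, ?_⟩
          have : Commute g h := hcommM g h hg hh
          rw [this.mul_pow, hgp, hhp, one_mul]
        inv_mem' := by
          rintro g ⟨hg, hgp⟩
          exact ⟨M.inv_mem hg, by rw [inv_pow, hgp, inv_one]⟩ }
    have hLn : L.Normal := by
      refine ⟨?_⟩
      rintro g ⟨hg, hgp⟩ k
      refine ⟨Subgroup.Normal.conj_mem inferInstance g hg k, ?_⟩
      rw [conj_pow, hgp]; group
    have hLM : L ≤ M := fun g hg => hg.1
    rcases hmin L hLn hLM with h | h
    · exfalso
      have hxL : (x : G) ∈ L := by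
        refine ⟨x.2, ?_⟩
        have : x ^ p = 1 := by rw [← hx]; exact pow_orderOf_eq_one x
        have := congrArg Subtype.val this
        simpa using this
      rw [h, Subgroup.mem_bot] at hxL
      have hx1 : x = 1 := Subtype.ext hxL
      rw [hx1, orderOf_one] at hx
      exact hp.one_lt.ne hx
    · intro m hm
      have : m ∈ L := by rw [h]; exact hm
      exact this.2
  · intro L hLn hL hLmin
    have hinf : (L ⊓ M).Normal := inferInstance
    rcases hmin (L ⊓ M) inferInstance inf_le_right with h | h
    · have hdis : Disjoint L M := disjoint_iff.2 h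
      have hle : L.map G.subtype ≤ M' := by
        rw [← hcent]
        rintro c ⟨l, hl, rfl⟩
        rw [Subgroup.mem_centralizer_iff]
        rintro y ⟨m, hm, rfl⟩
        have := Subgroup.commute_of_normal_of_disjoint L M hLn inferInstance hdis l m hl hm
        have h2 : m * l = l * m := this.eq.symm
        exact congrArg Subtype.val h2
      have hLM : L ≤ M := by
        rwa [hM', Subgroup.map_le_map_iff_of_injective (Subgroup.subtype_injective G)] at hle
      rcases hmin L hLn hLM with h' | h'
      · exact (hL h').elim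
      · exact h'
    · have hML : M ≤ L := by rw [← h]; exact inf_le_left
      rcases hLmin M inferInstance hML with h' | h'
      · exact (hM h').elim
      · exact h'.symm

end Cfsg.Agent.S0703
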