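import Cfsg.Statements.S0704
import Cfsg.Agent.Lib.Helper2.TransCent

set_option autoImplicit false
set_option linter.style.haveILetI false
open Cfsg

namespace Cfsg.Agent.S0704

open Cfsg.Agent.Lib.Helper2

theorem trans_set {α : Type*} (G : Subgroup (Equiv.Perm α)) (M : Subgroup G)
    (hMt : MulAction.IsPretransitive M α) :
    ∀ a b : α, ∃ x ∈ ((M.map G.subtype : Subgroup (Equiv.Perm α)) : Set (Equiv.Perm α)), x a = b := by
  intro a b
  obtain ⟨m, hm⟩ := MulAction.exists_smul_eq M a b
  exact ⟨((m : G) : Equiv.Perm α), ⟨m.1, m.2, rfl⟩, hm⟩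

theorem half {α : Type*} (G : Subgroup (Equiv.Perm α)) (M N : Subgroup G)
    (hcomm : ∀ m ∈ M, ∀ n ∈ N, m * n = n * m)
    (hMt : MulAction.IsPretransitive M α) (hNt : MulAction.IsPretransitive N α) (a0 : α) :
    (∀ a : α, MulAction.stabilizer N a = ⊥) ∧
    Subgroup.centralizer ((M.map G.subtype : Subgroup (Equiv.Perm α)) : Set (Equiv.Perm α)) =
      N.map G.subtype := by
  have hXM := trans_set G M hMt
  have hXN := trans_set G N hNt
  have hNc : ∀ y ∈ ((N.map G.subtype : Subgroup (Equiv.Perm α)) : Set (Equiv.Perm α)),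
      ∀ x ∈ ((M.map G.subtype : Subgroup (Equiv.Perm α)) : Set (Equiv.Perm α)), x * y = y * x := by
    rintro y ⟨n, hn, rfl⟩ x ⟨m, hm, rfl⟩
    exact congrArg Subtype.val (hcomm m hm n hn)
  constructor
  · intro a
    rw [Subgroup.eq_bot_iff_forall]
    intro n hn
    rw [MulAction.mem_stabilizer_iff] at hn
    have h1 : ((n : G) : Equiv.Perm α) = 1 := by
      apply perm_eq_one_of_commute_of_fixed hXM _ _ a hn
      exact hNc _ ⟨n.1, n.2, rfl⟩
    apply Subtype.ext
    apply Subtype.ext
    exact h1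
  · apply le_antisymm
    · intro c hc
      rw [Subgroup.mem_centralizer_iff] at hc
      obtain ⟨x, hx, hxa⟩ := hXN a0 (c a0)
      have : c = x := by
        apply perm_eq_of_commute_of_apply_eq hXM c x _ _ a0 hxa.symm
        · intro y hy
          exact hc y hy
        · exact hNc x hx
      rw [this]; exact hx
    · intro c hc
      rw [Subgroup.mem_centralizer_iff]
      intro y hy
      exact hNc c hc y hy

/-- Two distinct transitive minimal normal subgroups `M`, `N` of a permutation group are regular, non-abelian, isomorphic, each is the centraliser of the other in the symmetric group, and there are no further minimal normal subgroups. -/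
theorem result {α : Type*} (G : Subgroup (Equiv.Perm α)) (M N : Subgroup G) [M.Normal] [N.Normal] (hM : M ≠ ⊥) (hN : N ≠ ⊥) (hMmin : ∀ L : Subgroup G, L.Normal → L ≤ M → L = ⊥ ∨ L = M) (hNmin : ∀ L : Subgroup G, L.Normal → L ≤ N → L = ⊥ ∨ L = N) (hMN : M ≠ N) (hMt : MulAction.IsPretransitive M α) (hNt : MulAction.IsPretransitive N α) : (∀ a : α, MulAction.stabilizer M a = ⊥) ∧ (∀ a : α, MulAction.stabilizer N a = ⊥) ∧ ¬ IsMulCommutative M ∧ Nonempty (M ≃* N) ∧ Subgroup.centralizer ((M.map G.subtype : Subgroup (Equiv.Perm α)) : Set (Equiv.Perm α)) = N.map G.subtype ∧ Subgroup.centralizer ((N.map G.subtype : Subgroup (Equiv.Perm α)) : Set (Equiv.Perm α)) = M.map G.subtype ∧ ∀ L : Subgroup G, L.Normal → L ≠ ⊥ → (∀ L' : Subgroup G, L'.Normal → L' ≤ L → L' = ⊥ ∨ L' = L) → L = M ∨ L = N := by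
  classical
  have hinf : M ⊓ N = ⊥ := by
    rcases hMmin (M ⊓ N) inferInstance inf_le_left with h | h
    · exact h
    · exfalso
      have hle : M ≤ N := by rw [← h]; exact inf_le_right
      rcases hNmin M inferInstance hle with h' | h'
      · exact hM h'
      · exact hMN h'
  have hdis : Disjoint M N := disjoint_iff.2 hinf
  have hcomm : ∀ m ∈ M, ∀ n ∈ N, m * n = n * m := fun m hm n hn =>
    (Subgroup.commute_of_normal_of_disjoint M N inferInstance inferInstance hdis m n hm hn).eq
  have hcomm' : ∀ n ∈ N, ∀ m ∈ M, n * m = m * n := fun n hn m hm => (hcomm m hm n hn).symm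
  obtain ⟨a0⟩ : Nonempty α := by
    by_contra hne
    rw [not_nonempty_iff] at hne
    apply hM
    rw [Subgroup.eq_bot_iff_forall]
    intro g _
    apply Subtype.ext
    ext b
    exact (hne.false b).elim
  obtain ⟨hNst, hCM⟩ := half G M N hcomm hMt hNt a0
  obtain ⟨hMst, hCN⟩ := half G N M hcomm' hNt hMt a0
  have hXM := trans_set G M hMt
  have hXN := trans_set G N hNt
  have hNcM : ∀ n : N, ∀ x ∈ ((M.map G.subtype : Subgroup (Equiv.Perm α)) : Set (Equiv.Perm α)),
      x * ((n : G) : Equiv.Perm α) = ((n : G) : Equiv.Perm α) * x := by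
    rintro n x ⟨m, hm, rfl⟩
    exact congrArg Subtype.val (hcomm m hm n.1 n.2)
  have hMcN : ∀ m : M, ∀ x ∈ ((N.map G.subtype : Subgroup (Equiv.Perm α)) : Set (Equiv.Perm α)),
      x * ((m : G) : Equiv.Perm α) = ((m : G) : Equiv.Perm α) * x := by
    rintro m x ⟨n, hn, rfl⟩
    exact congrArg Subtype.val (hcomm' n hn m.1 m.2)
  -- regularity as equalities
  have hNreg : ∀ n n' : N, ((n : G) : Equiv.Perm α) a0 = ((n' : G) : Equiv.Perm α) a0 → n = n' := by
    intro n n' h
    have := perm_eq_of_commute_of_apply_eq hXM _ _ (hNcM n) (hNcM n') a0 h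
    exact Subtype.ext (Subtype.ext this)
  have hMreg : ∀ m m' : M, ((m : G) : Equiv.Perm α) a0 = ((m' : G) : Equiv.Perm α) a0 → m = m' := by
    intro m m' h
    have := perm_eq_of_commute_of_apply_eq hXN _ _ (hMcN m) (hMcN m') a0 h
    exact Subtype.ext (Subtype.ext this)
  refine ⟨hMst, hNst, ?_, ?_, hCM, hCN, ?_⟩
  · intro hab
    apply hM
    rw [Subgroup.eq_bot_iff_forall]
    intro m hm
    obtain ⟨n, hn⟩ := MulAction.exists_smul_eq N a0 (((m : G) : Equiv.Perm α) a0)
    have hMM : ∀ x ∈ ((M.map G.subtype : Subgroup (Equiv.Perm α)) : Set (Equiv.Perm α)),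
        x * ((m : G) : Equiv.Perm α) = ((m : G) : Equiv.Perm α) * x := by
      rintro x ⟨m', hm', rfl⟩
      have := hab.is_comm.comm (⟨m', hm'⟩ : M) ⟨m, hm⟩
      exact congrArg Subtype.val (congrArg Subtype.val this)
    have h1 : ((m : G) : Equiv.Perm α) = ((n : G) : Equiv.Perm α) :=
      perm_eq_of_commute_of_apply_eq hXM _ _ hMM (hNcM n) a0 hn.symm
    have h2 : m = (n : G) := Subtype.ext h1
    have h3 : m ∈ M ⊓ N := ⟨hm, by rw [h2]; exact n.2⟩
    rw [hinf, Subgroup.mem_bot] at h3
    exact h3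
  · -- the isomorphism
    have hex : ∀ m : M, ∃ n : N, ((n : G) : Equiv.Perm α) a0 = ((m : G) : Equiv.Perm α) a0 := by
      intro m
      obtain ⟨n, hn⟩ := MulAction.exists_smul_eq N a0 (((m : G) : Equiv.Perm α) a0)
      exact ⟨n, hn⟩
    choose φ hφ using hex
    have hφmul : ∀ m m' : M, φ (m * m') = φ m' * φ m := by
      intro m m'
      apply hNreg
      rw [hφ]
      have e1 : (((m * m' : M) : G) : Equiv.Perm α) a0 =
          ((m : G) : Equiv.Perm α) (((m' : G) : Equiv.Perm α) a0) := rfl
      have e2 : (((φ m' * φ m : N) : G) : Equiv.Perm α) a0 =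
          ((φ m' : G) : Equiv.Perm α) (((φ m : G) : Equiv.Perm α) a0) := rfl
      rw [e1, e2, hφ m, ← hφ m']
      have := hNcM (φ m') _ ⟨m.1, m.2, rfl⟩
      have h3 := congrArg (fun f : Equiv.Perm α => f a0) this
      simpa using h3
    let ψ : M →* N := MonoidHom.mk' (fun m => (φ m)⁻¹) (by
      intro m m'
      rw [hφmul, mul_inv_rev])
    refine ⟨MulEquiv.ofBijective ψ ⟨?_, ?_⟩⟩
    · intro m m' h
      have h1 : φ m = φ m' := inv_injective h
      apply hMreg
      rw [← hφ m, ← hφ m', h1]
    · intro n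
      obtain ⟨m, hm⟩ := MulAction.exists_smul_eq M a0 ((((n⁻¹ : N) : G) : Equiv.Perm α) a0)
      refine ⟨m, ?_⟩
      have : φ m = n⁻¹ := by
        apply hNreg
        rw [hφ]
        exact hm
      show (φ m)⁻¹ = n
      rw [this, inv_inv]
  · intro L hLn hL hLmin
    rcases hMmin (L ⊓ M) inferInstance inf_le_right with h | h
    · right
      have hdis' : Disjoint L M := disjoint_iff.2 h
      have hle : L.map G.subtype ≤ N.map G.subtype := by
        rw [← hCM]
        rintro c ⟨l, hl, rfl⟩
        rw [Subgroup.mem_centralizer_iff]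
        rintro y ⟨m, hm, rfl⟩
        have := Subgroup.commute_of_normal_of_disjoint L M hLn inferInstance hdis' l m hl hm
        have h2 : m * l = l * m := this.eq.symm
        exact congrArg Subtype.val h2
      have hLN : L ≤ N := by
        rwa [Subgroup.map_le_map_iff_of_injective (Subgroup.subtype_injective G)] at hle
      rcases hNmin L hLn hLN with h' | h'
      · exact (hL h').elim
      · exact h'
    · left
      have hML : M ≤ L := by rw [← h]; exact inf_le_left
      rcases hLmin M inferInstance hML with h' | h'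
      · exact (hM h').elim
      · exact h'.symm

end Cfsg.Agent.S0704
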