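import Cfsg.Statements.S0705
import Mathlib

set_option autoImplicit false
open scoped Pointwise
open Cfsg

namespace Cfsg.Agent.S0705


theorem move {α : Type*} [Fintype α] [DecidableEq α] (G : Subgroup (Equiv.Perm α)) {k : ℕ}
    (hgen : ∀ s : Finset α, s.card = k + 1 → ∀ σ : Equiv.Perm ↥s, ∃ g ∈ G, ∀ x : ↥s, g (x : α) = σ x)
    (u : Finset α) (hu : u.card = k + 1) (f : Equiv.Perm α) (hf : ∀ x, f x ∈ u ↔ x ∈ u) :
    ∃ g ∈ G, ∀ x ∈ u, g x = f x := by
  obtain ⟨g, hg, h⟩ := hgen u hu (f.subtypePerm hf)
  refine ⟨g, hg, fun x hx => ?_⟩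
  have := h ⟨x, hx⟩
  simpa using this

theorem exists_superset {α : Type*} [Fintype α] [DecidableEq α] {k : ℕ} (hk : k < Fintype.card α)
    (S : Finset α) (hS : S.card = k) (a : α) : ∃ u : Finset α, S ⊆ u ∧ a ∈ u ∧ u.card = k + 1 := by
  by_cases ha : a ∈ S
  · have : ∃ z, z ∉ S := by
      by_contra hcon
      push Not at hcon
      have : S = Finset.univ := Finset.eq_univ_iff_forall.2 hcon
      rw [this, Finset.card_univ] at hS
      omega
    obtain ⟨z, hz⟩ := this
    exact ⟨insert z S, Finset.subset_insert _ _, Finset.mem_insert_of_mem ha,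
      by rw [Finset.card_insert_of_notMem hz, hS]⟩
  · exact ⟨insert a S, Finset.subset_insert _ _, Finset.mem_insert_self _ _,
      by rw [Finset.card_insert_of_notMem ha, hS]⟩

theorem trans_aux {α : Type*} [Fintype α] [DecidableEq α] (G : Subgroup (Equiv.Perm α)) {k : ℕ}
    (hk : k < Fintype.card α)
    (hgen : ∀ s : Finset α, s.card = k + 1 → ∀ σ : Equiv.Perm ↥s, ∃ g ∈ G, ∀ x : ↥s, g (x : α) = σ x) :
    ∀ n : ℕ, ∀ x y : Fin k ↪ α, (Finset.univ.filter (fun i => x i ≠ y i)).card = n →
      ∃ g ∈ G, ∀ l, g (x l) = y l := by
  intro n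
  induction n using Nat.strong_induction_on with
  | _ n ih =>
    intro x y hn
    by_cases h0 : n = 0
    · subst h0
      rw [Finset.card_eq_zero, Finset.filter_eq_empty_iff] at hn
      refine ⟨1, G.one_mem, ?_⟩
      intro i
      have := hn (Finset.mem_univ i)
      push Not at this
      exact this
    · have hne : (Finset.univ.filter (fun i => x i ≠ y i)).Nonempty := by
        rw [← Finset.card_pos]; omega
      obtain ⟨i, hi⟩ := hne
      rw [Finset.mem_filter] at hi
      have hi := hi.2
      have hScard : (Finset.univ.image x).card = k := by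
        rw [Finset.card_image_of_injective _ x.injective, Finset.card_univ, Fintype.card_fin]
      obtain ⟨u, hSu, hau, hucard⟩ := exists_superset hk (Finset.univ.image x) hScard (y i)
      have hxu : ∀ l, x l ∈ u := fun l => hSu (Finset.mem_image_of_mem _ (Finset.mem_univ _))
      have hxi : x i ∈ u := hxu i
      obtain ⟨g, hg, hgf⟩ := move G hgen u hucard (Equiv.swap (x i) (y i)) (by
        intro z
        by_cases h1 : z = x i
        · subst h1; simp [hxi, hau]
        · by_cases h2 : z = y i
          · subst h2; simp [hxi, hau]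
          · rw [Equiv.swap_apply_of_ne_of_ne h1 h2])
      have hlt : (Finset.univ.filter (fun l => (x.trans g.toEmbedding) l ≠ y l)).card < n := by
        rw [← hn]
        apply Finset.card_lt_card
        rw [Finset.ssubset_iff_of_subset]
        · refine ⟨i, by simp [hi], ?_⟩
          simp only [Finset.mem_filter, Finset.mem_univ, true_and, not_not]
          show g (x i) = y i
          rw [hgf _ hxi, Equiv.swap_apply_left]
        · intro l hl
          simp only [Finset.mem_filter, Finset.mem_univ, true_and] at hl ⊢
          intro hxl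
          apply hl
          show g (x l) = y l
          rw [hgf _ (hxu l), Equiv.swap_apply_of_ne_of_ne, hxl]
          · intro h
            have := x.injective h
            subst this
            exact hi hxl
          · intro h
            rw [hxl] at h
            have := y.injective h
            subst this
            exact hi hxl
      obtain ⟨g', hg', hg'2⟩ := ih _ hlt (x.trans g.toEmbedding) y rfl
      refine ⟨g' * g, G.mul_mem hg' hg, ?_⟩
      intro l
      rw [Equiv.Perm.mul_apply]
      exact hg'2 l


/-- A generously `k`-transitive permutation group (every `(k+1)`-subset has its full symmetric group induced by the setwise stabiliser) of degree greater than `k` is `k`-transitive, and for a `k`-subset the setwise and pointwise stabilisers have the same orbits outside it. -/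
theorem result {α : Type*} [Fintype α] [DecidableEq α] (G : Subgroup (Equiv.Perm α)) {k : ℕ} (hk : k < Fintype.card α) (hgen : ∀ s : Finset α, s.card = k + 1 → ∀ σ : Equiv.Perm ↥s, ∃ g ∈ G, ∀ x : ↥s, g (x : α) = σ x) : MulAction.IsMultiplyPretransitive G α k ∧ ∀ s : Finset α, s.card = k → ∀ a b : α, a ∉ s → b ∉ s → (∃ g ∈ G, g • s = s ∧ g a = b) → ∃ g ∈ G, (∀ x ∈ s, g x = x) ∧ g a = b := by
  refine ⟨?_, ?_⟩
  · rw [MulAction.isMultiplyPretransitive_iff]
    intro x y
    obtain ⟨g, hg, h⟩ := trans_aux G hk hgen _ x y rfl
    refine ⟨⟨g, hg⟩, ?_⟩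
    ext l
    exact h l
  · intro s hs a b ha hb hex
    obtain ⟨g, hg, hgs, hgab⟩ := hex
    have hinv : ∀ x, g⁻¹ x ∈ s ↔ x ∈ s := by
      intro x
      have h1 : g⁻¹ • x ∈ s ↔ x ∈ g • s := Finset.inv_smul_mem_iff
      rw [hgs] at h1
      exact h1
    have hcard : (insert a s).card = k + 1 := by rw [Finset.card_insert_of_notMem ha, hs]
    set c := g⁻¹ a with hc
    set f : Equiv.Perm α := Equiv.swap a c * g⁻¹ with hfdef
    have hfs : ∀ x ∈ s, f x = g⁻¹ x := by
      intro x hx
      rw [hfdef, Equiv.Perm.mul_apply, Equiv.swap_apply_of_ne_of_ne]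
      · intro h
        apply ha
        rw [← h]
        exact (hinv x).2 hx
      · intro h
        rw [hc] at h
        have := (g⁻¹).injective h
        subst this
        exact ha hx
    have hfa : f a = a := by
      rw [hfdef, Equiv.Perm.mul_apply, ← hc, Equiv.swap_apply_right]
    have hmaps : ∀ x ∈ insert a s, f x ∈ insert a s := by
      intro x hx
      rw [Finset.mem_insert] at hx
      rcases hx with rfl | hx
      · rw [hfa]; exact Finset.mem_insert_self _ _
      · rw [hfs x hx]
        exact Finset.mem_insert_of_mem ((hinv x).2 hx)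
    have hmapeq : (insert a s).map f.toEmbedding = insert a s := by
      apply Finset.eq_of_subset_of_card_le
      · intro y hy
        rw [Finset.mem_map] at hy
        obtain ⟨x, hx, rfl⟩ := hy
        exact hmaps x hx
      · rw [Finset.card_map]
    have hf : ∀ x, f x ∈ insert a s ↔ x ∈ insert a s := by
      intro x
      constructor
      · intro h
        rw [← hmapeq, Finset.mem_map] at h
        obtain ⟨y, hy, hyx⟩ := h
        have : y = x := f.injective hyx
        rw [← this]; exact hy
      · exact hmaps x
    obtain ⟨g1, hg1, hg1f⟩ := move G hgen (insert a s) hcard f hf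
    refine ⟨g * g1, G.mul_mem hg hg1, ?_, ?_⟩
    · intro x hx
      rw [Equiv.Perm.mul_apply, hg1f x (Finset.mem_insert_of_mem hx), hfs x hx]
      simp
    · rw [Equiv.Perm.mul_apply, hg1f a (Finset.mem_insert_self _ _), hfa, hgab]

end Cfsg.Agent.S0705
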