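import Mathlib
import Cfsg.Statements.S0706
import Cfsg.Agent.Lib.Helper3.Conj

set_option autoImplicit false
set_option linter.style.haveILetI false
open Cfsg
open Cfsg.Agent.Lib.Helper3
open scoped commutatorElement

namespace Cfsg.Agent.S0706

theorem perm_inv_apply_self {α : Type*} (g : Equiv.Perm α) (x : α) : g⁻¹ (g x) = x :=
  g.symm_apply_apply x

theorem perm_apply_inv_self {α : Type*} (g : Equiv.Perm α) (x : α) : g (g⁻¹ x) = x :=
  g.apply_symm_apply x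

/-- The subgroup of permutations mapping the finset `T` into itself. -/
def mapsStab {α : Type*} [Fintype α] [DecidableEq α] (T : Finset α) : Subgroup (Equiv.Perm α) where
  carrier := {g | ∀ a ∈ T, g a ∈ T}
  one_mem' := fun a ha => ha
  mul_mem' := fun {g h} hg hh a ha => hg _ (hh a ha)
  inv_mem' := fun {g} hg a ha => Equiv.Perm.perm_symm_on_of_perm_on_finset hg ha

theorem mem_mapsStab {α : Type*} [Fintype α] [DecidableEq α] (T : Finset α) (g : Equiv.Perm α) :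
    g ∈ mapsStab T ↔ ∀ a ∈ T, g a ∈ T := Iff.rfl

theorem homog {α : Type*} [Fintype α] [DecidableEq α] (G : Subgroup (Equiv.Perm α)) {k : ℕ}
    (hgen : ∀ s : Finset α, s.card = k + 1 → ∀ σ : Equiv.Perm ↥s, ∃ g ∈ G, ∀ x : ↥s, g (x : α) = σ x) :
    ∀ (m : ℕ) (Γ Δ : Finset α), Γ.card = k → Δ.card = k → (Γ \ Δ).card = m →
      ∃ g ∈ G, ∀ a ∈ Γ, g a ∈ Δ := by
  intro m
  induction m with
  | zero =>
    intro Γ Δ hΓ hΔ h0
    refine ⟨1, G.one_mem, ?_⟩
    intro a ha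
    have : Γ \ Δ = ∅ := Finset.card_eq_zero.mp h0
    have hsub : Γ ⊆ Δ := Finset.sdiff_eq_empty_iff_subset.mp this
    exact hsub ha
  | succ m ih =>
    intro Γ Δ hΓ hΔ hm
    have h1 : (Γ \ Δ).Nonempty := by
      rw [← Finset.card_pos]; omega
    obtain ⟨a, ha⟩ := h1
    have h2 : (Δ \ Γ).card = m + 1 := by
      rw [← hm]; exact Finset.card_sdiff_comm (hΔ.trans hΓ.symm)
    have h3 : (Δ \ Γ).Nonempty := by
      rw [← Finset.card_pos]; omega
    obtain ⟨b, hb⟩ := h3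
    obtain ⟨haΓ, haΔ⟩ := Finset.mem_sdiff.mp ha
    obtain ⟨hbΔ, hbΓ⟩ := Finset.mem_sdiff.mp hb
    have hs : (insert b Γ).card = k + 1 := by
      rw [Finset.card_insert_of_notMem hbΓ, hΓ]
    have hpres : ∀ x, x ∈ insert b Γ → (Equiv.swap a b) x ∈ insert b Γ := by
      intro x hx
      by_cases hxa : x = a
      · rw [hxa, Equiv.swap_apply_left]; exact Finset.mem_insert_self _ _
      · by_cases hxb : x = b
        · rw [hxb, Equiv.swap_apply_right]; exact Finset.mem_insert_of_mem haΓ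
        · rw [Equiv.swap_apply_of_ne_of_ne hxa hxb]; exact hx
    obtain ⟨g₁, hg₁, hg₁s⟩ := hgen (insert b Γ) hs ((Equiv.swap a b).subtypePermOfFintype hpres)
    have hg₁' : ∀ x ∈ insert b Γ, g₁ x = Equiv.swap a b x := by
      intro x hx
      have := hg₁s ⟨x, hx⟩
      rw [Equiv.Perm.subtypePermOfFintype_apply] at this
      exact this
    obtain ⟨Γ', hΓ'def⟩ : ∃ Γ' : Finset α, Γ' = insert b (Γ.erase a) := ⟨_, rfl⟩
    have hbE : b ∉ Γ.erase a := fun h => hbΓ (Finset.mem_of_mem_erase h)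
    have hΓ'card : Γ'.card = k := by
      rw [hΓ'def, Finset.card_insert_of_notMem hbE, Finset.card_erase_of_mem haΓ, hΓ]
      have : 0 < k := by rw [← hΓ]; exact Finset.card_pos.mpr ⟨a, haΓ⟩
      omega
    have hΓ'sd : (Γ' \ Δ).card = m := by
      rw [hΓ'def, Finset.insert_sdiff_of_mem _ hbΔ, Finset.erase_sdiff_comm,
        Finset.card_erase_of_mem ha]
      omega
    obtain ⟨g₂, hg₂, hg₂s⟩ := ih Γ' Δ hΓ'card hΔ hΓ'sd
    refine ⟨g₂ * g₁, G.mul_mem hg₂ hg₁, ?_⟩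
    intro x hx
    rw [Equiv.Perm.mul_apply]
    apply hg₂s
    rw [hg₁' x (Finset.mem_insert_of_mem hx), hΓ'def]
    by_cases hxa : x = a
    · rw [hxa, Equiv.swap_apply_left]; exact Finset.mem_insert_self _ _
    · have hxb : x ≠ b := fun h => hbΓ (by rw [← h]; exact hx)
      rw [Equiv.swap_apply_of_ne_of_ne hxa hxb]
      exact Finset.mem_insert_of_mem (Finset.mem_erase.mpr ⟨hxa, hx⟩)

theorem claimA {α : Type*} [Fintype α] [DecidableEq α] (G : Subgroup (Equiv.Perm α)) {k : ℕ}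
    (hgen : ∀ s : Finset α, s.card = k + 1 → ∀ σ : Equiv.Perm ↥s, ∃ g ∈ G, ∀ x : ↥s, g (x : α) = σ x)
    (Γ : Finset α) (hΓ : Γ.card = k) (g : Equiv.Perm α) (hg : g ∈ G)
    (hgΓ : ∀ a ∈ Γ, g a ∈ Γ) (x : α) (hx : x ∉ Γ) :
    ∃ h ∈ G, (∀ c ∈ Γ, h c = c) ∧ h x = g x := by
  have hginv : ∀ a ∈ Γ, g⁻¹ a ∈ Γ := fun a ha => Equiv.Perm.perm_symm_on_of_perm_on_finset hgΓ ha
  have hgx : g x ∉ Γ := by
    intro h
    have := hginv _ h
    rw [perm_inv_apply_self] at this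
    exact hx this
  have hs : (insert (g x) Γ).card = k + 1 := by
    rw [Finset.card_insert_of_notMem hgx, hΓ]
  obtain ⟨τ, hτ⟩ : ∃ τ : Equiv.Perm α, τ = Equiv.swap x (g x) * g⁻¹ := ⟨_, rfl⟩
  have hτΓ : ∀ a ∈ Γ, τ (g a) = a := by
    intro a ha
    rw [hτ, Equiv.Perm.mul_apply, perm_inv_apply_self]
    have h1 : a ≠ x := fun h => hx (by rw [← h]; exact ha)
    have h2 : a ≠ g x := fun h => hgx (by rw [← h]; exact ha)
    exact Equiv.swap_apply_of_ne_of_ne h1 h2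
  have hτx : τ (g x) = g x := by
    rw [hτ, Equiv.Perm.mul_apply, perm_inv_apply_self, Equiv.swap_apply_left]
  have hpres : ∀ y, y ∈ insert (g x) Γ → τ y ∈ insert (g x) Γ := by
    intro y hy
    rcases Finset.mem_insert.mp hy with hy1 | hyΓ
    · rw [hy1, hτx]; exact Finset.mem_insert_self _ _
    · have h1 := hτΓ (g⁻¹ y) (hginv y hyΓ)
      rw [perm_apply_inv_self] at h1
      rw [h1]; exact Finset.mem_insert_of_mem (hginv y hyΓ)
  obtain ⟨h₀, hh₀, hh₀s⟩ := hgen (insert (g x) Γ) hs (τ.subtypePermOfFintype hpres)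
  have hh₀' : ∀ y ∈ insert (g x) Γ, h₀ y = τ y := by
    intro y hy
    have := hh₀s ⟨y, hy⟩
    rw [Equiv.Perm.subtypePermOfFintype_apply] at this
    exact this
  refine ⟨h₀ * g, G.mul_mem hh₀ hg, ?_, ?_⟩
  · intro c hc
    rw [Equiv.Perm.mul_apply, hh₀' _ (Finset.mem_insert_of_mem (hgΓ c hc)), hτΓ c hc]
  · rw [Equiv.Perm.mul_apply, hh₀' _ (Finset.mem_insert_self _ _), hτx]

/-- In a generously `k`-transitive permutation group, for a prime `p ≤ k` and a `k`-set `Γ`, there are no `p` points outside `Γ` lying in distinct orbits of the pointwise stabiliser of `Γ` all of length prime to `p` (at most `p - 1` such orbits). -/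
theorem result {α : Type*} [Fintype α] [DecidableEq α] (G : Subgroup (Equiv.Perm α)) {k : ℕ} (hk : k < Fintype.card α) (hgen : ∀ s : Finset α, s.card = k + 1 → ∀ σ : Equiv.Perm ↥s, ∃ g ∈ G, ∀ x : ↥s, g (x : α) = σ x) {p : ℕ} (hp : p.Prime) (hpk : p ≤ k) (Γ : Finset α) (hΓ : Γ.card = k) (f : Fin p → α) (hf : ∀ i, f i ∉ Γ) (hdist : ∀ i j, i ≠ j → f j ∉ MulAction.orbit (fixingSubgroup G (Γ : Set α)) (f i)) : ∃ i, p ∣ Nat.card (MulAction.orbit (fixingSubgroup G (Γ : Set α)) (f i)) := by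
  classical
  by_contra hcon
  push Not at hcon
  haveI : Fact p.Prime := ⟨hp⟩
  have horb : ∀ a x : α, x ∈ MulAction.orbit (fixingSubgroup G (Γ : Set α)) a ↔
      ∃ g ∈ G, (∀ c ∈ Γ, g c = c) ∧ g a = x := by
    intro a x
    constructor
    · rintro ⟨h, rfl⟩
      refine ⟨((h : ↥G) : Equiv.Perm α), (h : ↥G).2, ?_, rfl⟩
      intro c hc
      exact (mem_fixingSubgroup_iff ↥G).mp h.2 c (Finset.mem_coe.mpr hc)
    · rintro ⟨g, hg, hfix, rfl⟩
      refine ⟨⟨⟨g, hg⟩, ?_⟩, rfl⟩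
      rw [mem_fixingSubgroup_iff]
      intro c hc
      exact hfix c (Finset.mem_coe.mp hc)
  have hout : ∀ i, ∀ y ∈ MulAction.orbit (fixingSubgroup G (Γ : Set α)) (f i), y ∉ Γ := by
    intro i y hy hyΓ
    obtain ⟨g, hg, hfix, rfl⟩ := (horb _ _).mp hy
    have h1 : g (g (f i)) = g (f i) := hfix _ hyΓ
    have h2 : g (f i) = f i := g.injective h1
    rw [h2] at hyΓ
    exact hf i hyΓ
  obtain ⟨Γ₁, hΓ₁sub, hΓ₁card⟩ := Finset.exists_subset_card_eq (by rw [hΓ]; exact hpk : p ≤ Γ.card)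
  obtain ⟨Γ₀, hΓ₀def⟩ : ∃ Γ₀ : Finset α, Γ₀ = Γ \ Γ₁ := ⟨_, rfl⟩
  have hΓ₀card : Γ₀.card = k - p := by
    rw [hΓ₀def, Finset.card_sdiff_of_subset hΓ₁sub, hΓ, hΓ₁card]
  have hΓsplit : ∀ a, a ∈ Γ ↔ a ∈ Γ₀ ∨ a ∈ Γ₁ := by
    intro a
    rw [hΓ₀def, Finset.mem_sdiff]
    constructor
    · intro ha
      by_cases h : a ∈ Γ₁
      · exact Or.inr h
      · exact Or.inl ⟨ha, h⟩
    · rintro (⟨ha, _⟩ | ha)
      · exact ha
      · exact hΓ₁sub ha
  have hdisj : ∀ a, a ∈ Γ₀ → a ∉ Γ₁ := by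
    intro a ha
    rw [hΓ₀def, Finset.mem_sdiff] at ha
    exact ha.2
  have hΓ₁ne : Γ₁.Nonempty := by
    rw [← Finset.card_pos, hΓ₁card]; exact hp.pos
  obtain ⟨γ₁, hγ₁⟩ := hΓ₁ne
  obtain ⟨K, hKdef⟩ : ∃ K : Subgroup (Equiv.Perm α),
      K = G ⊓ fixingSubgroup (Equiv.Perm α) (Γ₀ : Set α) ⊓ mapsStab Γ₁ := ⟨_, rfl⟩
  have hKmem : ∀ g, g ∈ K ↔ g ∈ G ∧ (∀ a ∈ Γ₀, g a = a) ∧ (∀ a ∈ Γ₁, g a ∈ Γ₁) := by
    intro g
    rw [hKdef, Subgroup.mem_inf, Subgroup.mem_inf, mem_fixingSubgroup_iff, mem_mapsStab]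
    constructor
    · rintro ⟨⟨h1, h2⟩, h3⟩
      exact ⟨h1, fun a ha => h2 a (Finset.mem_coe.mpr ha), h3⟩
    · rintro ⟨h1, h2, h3⟩
      exact ⟨⟨h1, fun a ha => h2 a (Finset.mem_coe.mp ha)⟩, h3⟩
  have hKΓ : ∀ g ∈ K, ∀ a ∈ Γ, g a ∈ Γ := by
    intro g hg a ha
    obtain ⟨_, h2, h3⟩ := (hKmem g).mp hg
    rcases (hΓsplit a).mp ha with h | h
    · rw [h2 a h]; exact ha
    · exact hΓ₁sub (h3 a h)
  have hKorb : ∀ g ∈ K, ∀ i, ∀ y ∈ MulAction.orbit (fixingSubgroup G (Γ : Set α)) (f i),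
      g y ∈ MulAction.orbit (fixingSubgroup G (Γ : Set α)) (f i) := by
    intro g hg i y hy
    have hgG := ((hKmem g).mp hg).1
    obtain ⟨h, hh, hhfix, hhx⟩ := claimA G hgen Γ hΓ g hgG (hKΓ g hg) y (hout i y hy)
    obtain ⟨h', hh', hh'fix, hh'x⟩ := (horb _ _).mp hy
    rw [horb]
    refine ⟨h * h', G.mul_mem hh hh', ?_, ?_⟩
    · intro c hc
      rw [Equiv.Perm.mul_apply, hh'fix c hc, hhfix c hc]
    · rw [Equiv.Perm.mul_apply, hh'x, hhx]
  have hswap : ∀ γ ∈ Γ₁, ∀ γ' ∈ Γ₁, ∃ g ∈ K, g γ = γ' := by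
    intro γ hγ γ' hγ'
    obtain ⟨β, hβdef⟩ : ∃ β : α, β = f ⟨0, hp.pos⟩ := ⟨_, rfl⟩
    have hβ : β ∉ Γ := by rw [hβdef]; exact hf _
    have hs : (insert β Γ).card = k + 1 := by
      rw [Finset.card_insert_of_notMem hβ, hΓ]
    have hsw : ∀ x, x ∈ Γ₁ → Equiv.swap γ γ' x ∈ Γ₁ := by
      intro x hx
      by_cases hxa : x = γ
      · rw [hxa, Equiv.swap_apply_left]; exact hγ'
      · by_cases hxb : x = γ'
        · rw [hxb, Equiv.swap_apply_right]; exact hγ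
        · rw [Equiv.swap_apply_of_ne_of_ne hxa hxb]; exact hx
    have hsw0 : ∀ x, x ∉ Γ₁ → Equiv.swap γ γ' x = x := by
      intro x hx
      have hxa : x ≠ γ := fun h => hx (by rw [h]; exact hγ)
      have hxb : x ≠ γ' := fun h => hx (by rw [h]; exact hγ')
      exact Equiv.swap_apply_of_ne_of_ne hxa hxb
    have hpres : ∀ x, x ∈ insert β Γ → Equiv.swap γ γ' x ∈ insert β Γ := by
      intro x hx
      by_cases hx1 : x ∈ Γ₁
      · exact Finset.mem_insert_of_mem (hΓ₁sub (hsw x hx1))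
      · rw [hsw0 x hx1]; exact hx
    obtain ⟨g, hg, hgs⟩ := hgen (insert β Γ) hs ((Equiv.swap γ γ').subtypePermOfFintype hpres)
    have hg' : ∀ x ∈ insert β Γ, g x = Equiv.swap γ γ' x := by
      intro x hx
      have := hgs ⟨x, hx⟩
      rw [Equiv.Perm.subtypePermOfFintype_apply] at this
      exact this
    refine ⟨g, (hKmem g).mpr ⟨hg, ?_, ?_⟩, ?_⟩
    · intro a ha
      have haΓ : a ∈ Γ := (hΓsplit a).mpr (Or.inl ha)
      rw [hg' a (Finset.mem_insert_of_mem haΓ), hsw0 a (hdisj a ha)]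
    · intro a ha
      rw [hg' a (Finset.mem_insert_of_mem (hΓ₁sub ha))]
      exact hsw a ha
    · rw [hg' γ (Finset.mem_insert_of_mem (hΓ₁sub hγ)), Equiv.swap_apply_left]
  have horbK : MulAction.orbit ↥K γ₁ = (Γ₁ : Set α) := by
    ext y
    constructor
    · rintro ⟨g, rfl⟩
      exact Finset.mem_coe.mpr (((hKmem g.1).mp g.2).2.2 γ₁ hγ₁)
    · intro hy
      obtain ⟨g, hg, hgy⟩ := hswap γ₁ hγ₁ y (Finset.mem_coe.mp hy)
      exact ⟨⟨g, hg⟩, hgy⟩
  have hidx : (MulAction.stabilizer ↥K γ₁).index = p := by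
    rw [MulAction.index_stabilizer, horbK, Set.ncard_coe_finset, hΓ₁card]
  obtain ⟨Hs, hHsdef⟩ : ∃ Hs : Subgroup (Equiv.Perm α),
      Hs = G ⊓ fixingSubgroup (Equiv.Perm α) (Γ : Set α) := ⟨_, rfl⟩
  have hHsmem : ∀ g, g ∈ Hs ↔ g ∈ G ∧ ∀ a ∈ Γ, g a = a := by
    intro g
    rw [hHsdef, Subgroup.mem_inf, mem_fixingSubgroup_iff]
    constructor
    · rintro ⟨h1, h2⟩
      exact ⟨h1, fun a ha => h2 a (Finset.mem_coe.mpr ha)⟩
    · rintro ⟨h1, h2⟩
      exact ⟨h1, fun a ha => h2 a (Finset.mem_coe.mp ha)⟩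
  have hHsK : Hs ≤ K := by
    intro g hg
    obtain ⟨h1, h2⟩ := (hHsmem g).mp hg
    refine (hKmem g).mpr ⟨h1, fun a ha => h2 a ((hΓsplit a).mpr (Or.inl ha)), fun a ha => ?_⟩
    rw [h2 a (hΓ₁sub ha)]; exact ha
  have hHsStab : Hs.subgroupOf K ≤ MulAction.stabilizer ↥K γ₁ := by
    intro g hg
    rw [Subgroup.mem_subgroupOf] at hg
    rw [MulAction.mem_stabilizer_iff]
    exact ((hHsmem _).mp hg).2 γ₁ (hΓ₁sub hγ₁)
  have hcardHs : Nat.card Hs ∣ Nat.card (MulAction.stabilizer ↥K γ₁) := by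
    have h1 := Subgroup.card_dvd_of_le hHsStab
    have h2 : Nat.card (Hs.subgroupOf K) = Nat.card Hs :=
      Nat.card_congr (Subgroup.subgroupOfEquivOfLe hHsK).toEquiv
    rwa [h2] at h1
  obtain ⟨P₁⟩ : Nonempty (Sylow p ↥K) := inferInstance
  obtain ⟨R, hRdef⟩ : ∃ R : Subgroup (Equiv.Perm α), R = (P₁ : Subgroup ↥K).map K.subtype :=
    ⟨_, rfl⟩
  have hRK : R ≤ K := by rw [hRdef]; exact Subgroup.map_subtype_le _
  have hRp : IsPGroup p R := by rw [hRdef]; exact P₁.isPGroup'.map _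
  have hRcard : Nat.card R = Nat.card (P₁ : Subgroup ↥K) := by
    rw [hRdef]; exact Subgroup.card_map_of_injective (Subgroup.subtype_injective K)
  have hfixpt : ∀ i, ∃ b ∈ MulAction.orbit (fixingSubgroup G (Γ : Set α)) (f i),
      ∀ r ∈ R, r b = b := by
    intro i
    let T : SubMulAction ↥R α :=
      { carrier := MulAction.orbit (fixingSubgroup G (Γ : Set α)) (f i)
        smul_mem' := fun r {y} hy => hKorb r.1 (hRK r.2) i y hy }
    have hcardT : Nat.card ↥T = Nat.card (MulAction.orbit (fixingSubgroup G (Γ : Set α)) (f i)) :=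
      rfl
    have hnd : ¬ p ∣ Nat.card ↥T := by rw [hcardT]; exact hcon i
    obtain ⟨⟨b, hbT⟩, hb⟩ := hRp.nonempty_fixed_point_of_prime_not_dvd_card ↥T hnd
    refine ⟨b, hbT, ?_⟩
    intro r hr
    have := hb ⟨r, hr⟩
    exact congrArg Subtype.val this
  choose β hβorb hβfix using hfixpt
  have hβinj : Function.Injective β := by
    intro i j hij
    by_contra hne
    apply hdist i j hne
    have h1 := hβorb i
    have h2 := hβorb j
    rw [← hij] at h2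
    obtain ⟨g1, hg1, hg1fix, hg1x⟩ := (horb _ _).mp h1
    obtain ⟨g2, hg2, hg2fix, hg2x⟩ := (horb _ _).mp h2
    rw [horb]
    refine ⟨g2⁻¹ * g1, G.mul_mem (G.inv_mem hg2) hg1, ?_, ?_⟩
    · intro c hc
      rw [Equiv.Perm.mul_apply, hg1fix c hc, Equiv.Perm.inv_eq_iff_eq, hg2fix c hc]
    · rw [Equiv.Perm.mul_apply, hg1x, ← hg2x, perm_inv_apply_self]
  obtain ⟨Δ, hΔdef⟩ : ∃ Δ : Finset α, Δ = Γ₀ ∪ Finset.univ.image β := ⟨_, rfl⟩
  have hΔcard : Δ.card = k := by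
    rw [hΔdef, Finset.card_union_of_disjoint, hΓ₀card, Finset.card_image_of_injective _ hβinj,
      Finset.card_univ, Fintype.card_fin]
    · omega
    · rw [Finset.disjoint_left]
      intro a ha ha'
      obtain ⟨i, _, rfl⟩ := Finset.mem_image.mp ha'
      exact hout i _ (hβorb i) ((hΓsplit _).mpr (Or.inl ha))
  have hRfixΔ : ∀ r ∈ R, ∀ a ∈ Δ, r a = a := by
    intro r hr a ha
    rw [hΔdef, Finset.mem_union] at ha
    rcases ha with ha | ha
    · exact ((hKmem r).mp (hRK hr)).2.1 a ha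
    · obtain ⟨i, _, rfl⟩ := Finset.mem_image.mp ha
      exact hβfix i r hr
  obtain ⟨g, hg, hgΔ⟩ := homog G hgen _ Γ Δ hΓ hΔcard rfl
  have hRG : R ≤ G := fun r hr => ((hKmem r).mp (hRK hr)).1
  have hconj : R.map (MulAut.conj g⁻¹).toMonoidHom ≤ Hs := by
    intro x hx
    rw [mem_map_conj, inv_inv] at hx
    rw [hHsmem]
    constructor
    · have h1 : g * x * g⁻¹ ∈ G := hRG hx
      have h2 : x = g⁻¹ * (g * x * g⁻¹) * g := by group
      rw [h2]
      exact G.mul_mem (G.mul_mem (G.inv_mem hg) h1) hg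
    · intro a ha
      have h1 := hRfixΔ _ hx (g a) (hgΔ a ha)
      rw [Equiv.Perm.mul_apply, Equiv.Perm.mul_apply, perm_inv_apply_self] at h1
      exact g.injective h1
  have hdvd1 : Nat.card R ∣ Nat.card Hs := by
    have := Subgroup.card_dvd_of_le hconj
    rwa [card_map_conj] at this
  have hdvd2 : Nat.card (P₁ : Subgroup ↥K) ∣ Nat.card (MulAction.stabilizer ↥K γ₁) := by
    rw [← hRcard]; exact hdvd1.trans hcardHs
  obtain ⟨d, hd⟩ := hdvd2
  have h1 := Subgroup.card_mul_index (P₁ : Subgroup ↥K)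
  have h2 := Subgroup.card_mul_index (MulAction.stabilizer ↥K γ₁)
  rw [hidx] at h2
  have hpos : 0 < Nat.card (P₁ : Subgroup ↥K) := Nat.card_pos
  have h3 : (P₁ : Subgroup ↥K).index = d * p := by
    have : Nat.card (P₁ : Subgroup ↥K) * (P₁ : Subgroup ↥K).index =
        Nat.card (P₁ : Subgroup ↥K) * (d * p) := by
      rw [h1, ← h2, hd, mul_assoc]
    exact Nat.eq_of_mul_eq_mul_left hpos this
  exact P₁.not_dvd_index ⟨d, by rw [h3, mul_comm]⟩

end Cfsg.Agent.S0706
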