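import Cfsg.Statements.S0707
import Mathlib

set_option autoImplicit false
set_option linter.style.haveILetI false
open Cfsg

namespace Cfsg.Agent.S0707

universe u

/-- A group in which the trivial subgroup is maximal has prime order. -/
theorem prime_card_of_isCoatom_bot {G : Type u} [Group G] (h : IsCoatom (⊥ : Subgroup G)) :
    (Nat.card G).Prime := by
  have hall : ∀ H : Subgroup G, H = ⊥ ∨ H = ⊤ := by
    intro H
    by_cases hH : H = ⊥
    · exact Or.inl hH
    · exact Or.inr (h.2 H (bot_lt_iff_ne_bot.2 hH))
  haveI : Nontrivial G := by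
    by_contra hnt
    rw [not_nontrivial_iff_subsingleton] at hnt
    exact h.1 (Subsingleton.elim _ _)
  obtain ⟨x, hx⟩ := exists_ne (1 : G)
  have hxtop : Subgroup.zpowers x = ⊤ := by
    rcases hall (Subgroup.zpowers x) with h1 | h1
    · rw [Subgroup.zpowers_eq_bot] at h1
      exact absurd h1 hx
    · exact h1
  haveI : IsCyclic G := ⟨⟨x, fun y => by
    have : y ∈ Subgroup.zpowers x := by rw [hxtop]; trivial
    exact this⟩⟩
  letI : CommGroup G := IsCyclic.commGroup
  haveI : IsSimpleGroup G := ⟨fun H _ => hall H⟩
  exact IsSimpleGroup.prime_card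

/-- In a primitive permutation group, distinct points have distinct stabilisers unless the group is regular of prime degree. -/
theorem result {α : Type*} (G : Subgroup (Equiv.Perm α)) [MulAction.IsPreprimitive G α] (h : ¬ (Nat.card α).Prime ∨ ∃ a : α, MulAction.stabilizer G a ≠ ⊥) {a b : α} (hab : a ≠ b) : MulAction.stabilizer G a ≠ MulAction.stabilizer G b := by
  intro heq
  haveI : Nontrivial α := ⟨⟨a, b, hab⟩⟩
  set K := MulAction.stabilizer G a with hK
  have hco : IsCoatom K :=
    MulAction.IsPreprimitive.isCoatom_stabilizer_of_isPreprimitive (G := G) (X := α) a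
  obtain ⟨g, hg⟩ := MulAction.exists_smul_eq G a b
  have h1 : K.map (MulAut.conj g).toMonoidHom = K := by
    rw [hK, ← MulAction.stabilizer_smul_eq_stabilizer_map_conj, hg, ← heq]
  have hgN : g ∈ Subgroup.normalizer (K : Set G) :=
    Subgroup.mem_normalizer_iff_map_conj_eq.2 h1
  have hgK : g ∉ K := by
    intro hgK
    have : g • a = a := hgK
    rw [hg] at this
    exact hab this.symm
  have hNtop : Subgroup.normalizer (K : Set G) = ⊤ :=
    hco.2 _ (lt_of_le_of_ne Subgroup.le_normalizer (fun h' => hgK (by rw [h']; exact hgN)))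
  have hKn : K.Normal := Subgroup.normalizer_eq_top_iff.1 hNtop
  -- K fixes every point
  have hKbot : K = ⊥ := by
    rw [eq_bot_iff]
    intro k hk
    rw [Subgroup.mem_bot]
    apply Subtype.ext
    apply Equiv.ext
    intro x
    obtain ⟨g', hg'⟩ := MulAction.exists_smul_eq G a x
    have h2 : g'⁻¹ * k * g' ∈ K := by
      have := hKn.conj_mem k hk g'⁻¹
      rwa [inv_inv] at this
    have h3 : (g'⁻¹ * k * g') • a = a := h2
    have h4 : k • x = x := by
      rw [← hg']
      have : k • g' • a = g' • ((g'⁻¹ * k * g') • a) := by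
        simp only [smul_smul]
        congr 1
        group
      rw [this, h3]
    exact h4
  have hall : ∀ x : α, MulAction.stabilizer G x = ⊥ := by
    intro x
    obtain ⟨g', hg'⟩ := MulAction.exists_smul_eq G a x
    rw [← hg', MulAction.stabilizer_smul_eq_stabilizer_map_conj, ← hK, hKbot, Subgroup.map_bot]
  rcases h with h | ⟨x, hx⟩
  · apply h
    have hcard : Nat.card G = Nat.card α := by
      apply Nat.card_congr (Equiv.ofBijective (fun g : G => g • a) ⟨?_, ?_⟩)
      · intro g1 g2 h12
        have h5 : (g2⁻¹ * g1) • a = a := by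
          rw [mul_smul]
          change g2⁻¹ • (g1 • a) = a
          rw [show g1 • a = g2 • a from h12, inv_smul_smul]
        have h6 : g2⁻¹ * g1 ∈ K := h5
        rw [hKbot, Subgroup.mem_bot] at h6
        exact (inv_mul_eq_one.1 h6).symm
      · intro x
        exact MulAction.exists_smul_eq G a x
    rw [← hcard]
    apply prime_card_of_isCoatom_bot
    rw [← hKbot]
    exact hco
  · exact hx (hall x)

end Cfsg.Agent.S0707
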