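import Cfsg.Statements.S0710
import Cfsg.Agent.Lib.Helper2.SymSylow

set_option autoImplicit false
set_option linter.style.haveILetI false
open Cfsg

namespace Cfsg.Agent.S0710

open Cfsg.Agent.Lib.Helper2

/-- No transitive permutation group on 13 points has order `13 * 12 * 11 * 10 * 9 * 8`. -/
theorem result {α : Type*} [Fintype α] [DecidableEq α] (hα : Fintype.card α = 13) (G : Subgroup (Equiv.Perm α)) [MulAction.IsPretransitive G α] : Nat.card G ≠ 13 * 12 * 11 * 10 * 9 * 8 := by
  classical
  intro hG
  haveI : Fact (Nat.Prime 13) := ⟨by norm_num⟩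
  obtain ⟨P0⟩ := (inferInstance : Nonempty (Sylow 13 G))
  -- order of P0
  have hfac : (Nat.card G).factorization 13 = 1 := by
    rw [hG]
    have h1 : (13 * 12 * 11 * 10 * 9 * 8 : ℕ) = 13 * 95040 := by norm_num
    rw [h1, Nat.factorization_mul (by norm_num) (by norm_num)]
    simp only [Finsupp.coe_add, Pi.add_apply]
    rw [Nat.Prime.factorization_self (by norm_num),
      Nat.factorization_eq_zero_of_not_dvd (by norm_num)]
  have hP0 : Nat.card (P0 : Subgroup G) = 13 := by
    rw [P0.card_eq_multiplicity, hfac, pow_one]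
  -- image in Sym
  set P : Subgroup (Equiv.Perm α) := (P0 : Subgroup G).map G.subtype with hP
  have hPcard : Nat.card P = 13 := by
    rw [hP, Subgroup.card_map_of_injective G.subtype_injective, hP0]
  have hSfac : (Nat.card (Equiv.Perm α)).factorization 13 = 1 := by
    rw [Nat.card_eq_fintype_card, Fintype.card_perm, hα]
    exact factorization_factorial_prime 13 13 (Or.inl rfl)
  let PS : Sylow 13 (Equiv.Perm α) := Sylow.ofCard P (by rw [hPcard, hSfac, pow_one])
  have hPS : (PS : Subgroup (Equiv.Perm α)) = P := Sylow.coe_ofCard _ _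
  have hNS := card_normalizer_sylow_perm 13 (Or.inl hα) PS
  rw [hPS] at hNS
  -- normalizer in G
  set N0 := Subgroup.normalizer ((P0 : Subgroup G) : Set G) with hN0
  have hle : N0.map G.subtype ≤ Subgroup.normalizer (P : Set (Equiv.Perm α)) := by
    rintro x ⟨g, hg, rfl⟩
    rw [Subgroup.mem_normalizer_iff]
    intro y
    have hg' := Subgroup.mem_normalizer_iff.1 hg
    constructor
    · rintro ⟨z, hz, rfl⟩
      exact ⟨g * z * g⁻¹, (hg' z).1 hz, by simp⟩
    · rintro ⟨z, hz, hzy⟩
      -- y = g⁻¹ z g
      have hy : y = G.subtype (g⁻¹ * z * g) := by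
        have : G.subtype z = G.subtype g * y * (G.subtype g)⁻¹ := hzy
        simp only [map_mul, map_inv, this]
        group
      rw [hy]
      refine ⟨g⁻¹ * z * g, ?_, rfl⟩
      apply (hg' (g⁻¹ * z * g)).2
      have : g * (g⁻¹ * z * g) * g⁻¹ = z := by group
      rw [this]; exact hz
  have hd : Nat.card N0 ∣ 156 := by
    have h1 := Subgroup.card_dvd_of_le hle
    rw [Subgroup.card_map_of_injective G.subtype_injective, hNS] at h1
    exact h1
  have h13 : 13 ∣ Nat.card N0 := by
    rw [← hP0]
    exact Subgroup.card_dvd_of_le Subgroup.le_normalizer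
  have hmul : Nat.card (Sylow 13 G) * Nat.card N0 = 13 * 12 * 11 * 10 * 9 * 8 := by
    have h3 : Nat.card (Sylow 13 G) = N0.index := Sylow.card_eq_index_normalizer P0
    rw [h3, mul_comm, Subgroup.card_mul_index, hG]
  have hmod : Nat.card (Sylow 13 G) % 13 = 1 := by
    have := card_sylow_modEq_one 13 G
    exact this
  have hdle : Nat.card N0 ≤ 156 := Nat.le_of_dvd (by norm_num) hd
  generalize Nat.card N0 = d at *
  generalize Nat.card (Sylow 13 G) = n at *
  obtain ⟨e, rfl⟩ := h13
  have he : e ≤ 12 := by omega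
  interval_cases e <;> omega

end Cfsg.Agent.S0710
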