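import Cfsg.Statements.S0711
import Mathlib

set_option autoImplicit false
open Cfsg

namespace Cfsg.Agent.S0711

section Helpers0711
open Equiv Equiv.Perm MulAction

variable {α : Type*} [Fintype α] [DecidableEq α]

theorem exists_mem_agree (G : Subgroup (Perm α)) {k : ℕ} (hkn : k ≤ Fintype.card α)
    (hG : IsMultiplyPretransitive G α k) (B : Finset α) (φ : α → α) (hB : B.card ≤ k)
    (hφ : Set.InjOn φ B) : ∃ h ∈ G, ∀ b ∈ B, h b = φ b := by
  have hj : IsMultiplyPretransitive G α B.card :=
    isMultiplyPretransitive_of_le hB (by simpa using hkn)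
  let x : Fin B.card ↪ α := B.equivFin.symm.toEmbedding.trans (Function.Embedding.subtype _)
  let y : Fin B.card ↪ α := ⟨fun i => φ (x i), fun i j hij => by
    have h1 : x i = x j := hφ (by simp [x]) (by simp [x]) hij
    exact x.injective h1⟩
  obtain ⟨g, hg⟩ := hj.exists_smul_eq x y
  refine ⟨g, g.2, fun b hb => ?_⟩
  have h2 := DFunLike.congr_fun hg (B.equivFin ⟨b, hb⟩)
  have h3 : g • b = φ b := by simpa [x, y] using h2
  exact h3

theorem fix_map (G : Subgroup (Perm α)) {k : ℕ} (hkn : k ≤ Fintype.card α)
    (hG : IsMultiplyPretransitive G α k) (A : Finset α) (u v : α) (hA : A.card + 1 ≤ k)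
    (hu : u ∉ A) (hv : v ∉ A) : ∃ h ∈ G, (∀ a ∈ A, h a = a) ∧ h u = v := by
  obtain ⟨h, hh, hh2⟩ := exists_mem_agree G hkn hG (insert u A) (swap u v)
    (by rw [Finset.card_insert_of_notMem hu]; exact hA) (swap u v).injective.injOn
  refine ⟨h, hh, fun a ha => ?_, ?_⟩
  · rw [hh2 a (Finset.mem_insert_of_mem ha)]
    exact swap_apply_of_ne_of_ne (fun h => hu (h ▸ ha)) (fun h => hv (h ▸ ha))
  · rw [hh2 u (Finset.mem_insert_self _ _)]
    exact swap_apply_left u v

theorem supp_comm (x h : Perm α) (A : Finset α) (hA : ∀ a ∈ A, h a = a) :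
    (x⁻¹ * (h * x * h⁻¹)).support ⊆
      (x.support ∪ x.support.image h) \ A.filter (fun a => x a ∈ A) := by
  intro z hz
  rw [Perm.mem_support] at hz
  simp only [Finset.mem_sdiff, Finset.mem_union, Finset.mem_image, Finset.mem_filter,
    Perm.mem_support, not_and]
  constructor
  · by_contra hcon
    push Not at hcon
    obtain ⟨h1, h2⟩ := hcon
    apply hz
    have h3 : x (h⁻¹ z) = h⁻¹ z := by
      by_contra h3
      exact h2 (h⁻¹ z) h3 (by simp)
    have e1 : h (h⁻¹ z) = z := by simp
    rw [Perm.mul_apply, Perm.mul_apply, Perm.mul_apply, h3, e1, Perm.inv_eq_iff_eq, h1]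
  · intro hzA hxz
    apply hz
    have h1 : h⁻¹ z = z := by rw [Perm.inv_eq_iff_eq]; exact (hA z hzA).symm
    have e1 : x⁻¹ (x z) = z := by simp
    rw [Perm.mul_apply, Perm.mul_apply, Perm.mul_apply, h1, hA _ hxz, e1]

theorem exists_good_subset (x : Perm α) (j : ℕ) (hj : j ≤ x.support.card) :
    ∃ A ⊆ x.support, A.card = j ∧
      ∀ b₁ ∈ A, ∀ b₂ ∈ A, x b₁ ∉ A → x b₂ ∉ A → b₁ = b₂ := by
  induction j with
  | zero => exact ⟨∅, by simp, by simp, by simp⟩
  | succ j ih =>
    obtain ⟨A, hAS, hAc, hAP⟩ := ih (by omega)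
    by_cases hE : ∃ a ∈ A, x a ∉ A
    · obtain ⟨a, haA, hxa⟩ := hE
      refine ⟨insert (x a) A, ?_, ?_, ?_⟩
      · intro z hz
        rcases Finset.mem_insert.1 hz with rfl | hz
        · exact Perm.apply_mem_support.2 (hAS haA)
        · exact hAS hz
      · rw [Finset.card_insert_of_notMem hxa, hAc]
      · have key : ∀ b ∈ insert (x a) A, x b ∉ insert (x a) A → b = x a := by
          intro b hb hxb
          rcases Finset.mem_insert.1 hb with rfl | hb
          · rfl
          · exfalso
            have h1 : x b ∉ A := fun h => hxb (Finset.mem_insert_of_mem h)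
            have h2 : b = a := hAP b hb a haA h1 hxa
            exact hxb (h2 ▸ Finset.mem_insert_self _ _)
        intro b₁ hb₁ b₂ hb₂ h1 h2
        rw [key b₁ hb₁ h1, key b₂ hb₂ h2]
    · push Not at hE
      obtain ⟨s, hsS, hsA⟩ := Finset.exists_mem_notMem_of_card_lt_card (s := A) (t := x.support) (by omega)
      refine ⟨insert s A, ?_, ?_, ?_⟩
      · intro z hz
        rcases Finset.mem_insert.1 hz with rfl | hz
        · exact hsS
        · exact hAS hz
      · rw [Finset.card_insert_of_notMem hsA, hAc]
      · have key : ∀ b ∈ insert s A, x b ∉ insert s A → b = s := by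
          intro b hb hxb
          rcases Finset.mem_insert.1 hb with rfl | hb
          · rfl
          · exact absurd (Finset.mem_insert_of_mem (hE b hb)) hxb
        intro b₁ hb₁ b₂ hb₂ h1 h2
        rw [key b₁ hb₁ h1, key b₂ hb₂ h2]


theorem comm_ne_one (x h : Perm α) (a : α) (h1 : h (x a) ≠ x (h a)) :
    x⁻¹ * (h * x * h⁻¹) ≠ 1 := by
  intro hc
  apply h1
  have h3 : h * x = x * h := mul_inv_eq_iff_eq_mul.1 (inv_mul_eq_one.1 hc).symm
  have := DFunLike.congr_fun h3 a
  simpa [Perm.mul_apply] using this

theorem descent (G : Subgroup (Perm α)) {k : ℕ} (hk : 3 ≤ k) (hkn : k + 1 ≤ Fintype.card α)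
    (hG : IsMultiplyPretransitive G α k) (x : Perm α) (hx : x ∈ G)
    (h4 : 4 ≤ x.support.card) (hm : x.support.card + 3 ≤ 2 * k) :
    ∃ c ∈ G, c ≠ 1 ∧ c.support.card < x.support.card := by
  have hkn' : k ≤ Fintype.card α := by omega
  have hmem : ∀ h ∈ G, x⁻¹ * (h * x * h⁻¹) ∈ G := fun h hhG =>
    G.mul_mem (G.inv_mem hx) (G.mul_mem (G.mul_mem hhG hx) (G.inv_mem hhG))
  by_cases hS : x.support = Finset.univ
  · -- fixed-point-free case
    have hne : Nonempty α := Fintype.card_pos_iff.1 (by omega)
    obtain ⟨p⟩ := hne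
    have hp : x p ≠ p := Perm.mem_support.1 (hS ▸ Finset.mem_univ p)
    obtain ⟨B, hpB, hBq, hBc⟩ := Finset.exists_subsuperset_card_eq (s := {p})
      (t := Finset.univ.erase (x p)) (n := k - 1)
      (by
        intro z hz
        rw [Finset.mem_singleton] at hz
        subst hz
        exact Finset.mem_erase.2 ⟨hp.symm, Finset.mem_univ _⟩)
      (by rw [Finset.card_singleton]; omega)
      (by rw [Finset.card_erase_of_mem (Finset.mem_univ _), Finset.card_univ]; omega)
    have hqB : x p ∉ B := fun h => (Finset.mem_erase.1 (hBq h)).1 rfl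
    obtain ⟨v, -, hv⟩ := Finset.exists_mem_notMem_of_card_lt_card (s := insert (x p) B)
      (t := Finset.univ)
      (by rw [Finset.card_insert_of_notMem hqB, hBc, Finset.card_univ]; omega)
    have hvq : v ≠ x p := fun h => hv (h ▸ Finset.mem_insert_self _ _)
    have hvB : v ∉ B := fun h => hv (Finset.mem_insert_of_mem h)
    obtain ⟨h, hhG, hhB, hhq⟩ := fix_map G hkn' hG B (x p) v (by omega) hqB hvB
    refine ⟨x⁻¹ * (h * x * h⁻¹), hmem h hhG, ?_, ?_⟩
    · apply comm_ne_one x h p
      rw [hhq, hhB p (hpB (Finset.mem_singleton_self p))]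
      exact hvq
    · refine lt_of_le_of_lt (Finset.card_le_card (supp_comm x h B hhB)) ?_
      have h1 : (B.filter (fun a => x a ∉ B)).card ≤ (Finset.univ \ B).card := by
        apply Finset.card_le_card_of_injOn x
        · intro a ha
          simp only [Finset.coe_filter, Set.mem_ofPred_eq] at ha
          simp only [Finset.coe_sdiff, Finset.coe_univ, Set.mem_sdiff, Set.mem_univ, true_and,
            Finset.mem_coe]
          exact ha.2
        · exact x.injective.injOn
      have h2 : (B.filter (fun a => x a ∈ B)).card + (B.filter (fun a => ¬ x a ∈ B)).card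
          = B.card := Finset.card_filter_add_card_filter_not _
      have h3 : (Finset.univ \ B).card = Fintype.card α - B.card := by
        rw [Finset.card_sdiff_of_subset (Finset.subset_univ _), Finset.card_univ]
      have h4' : ((x.support ∪ x.support.image h) \ B.filter (fun a => x a ∈ B)).card
          = Fintype.card α - (B.filter (fun a => x a ∈ B)).card := by
        rw [hS, Finset.union_eq_left.2 (Finset.subset_univ _),
          Finset.card_sdiff_of_subset (Finset.subset_univ _), Finset.card_univ]
      have h5 : x.support.card = Fintype.card α := by rw [hS, Finset.card_univ]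
      have h6 : B.card ≤ Fintype.card α := Finset.card_le_univ _
      omega
  · obtain ⟨v₀, hv₀⟩ : ∃ v₀, v₀ ∉ x.support := by
      by_contra hcon
      push Not at hcon
      exact hS (Finset.eq_univ_iff_forall.2 hcon)
    obtain ⟨j, hj⟩ : ∃ j, j = min (x.support.card - 1) (k - 1) := ⟨_, rfl⟩
    have hj1 : j ≤ x.support.card - 1 := hj ▸ min_le_left _ _
    have hj2 : j ≤ k - 1 := hj ▸ min_le_right _ _
    have hj3 : j = x.support.card - 1 ∨ j = k - 1 := by
      rcases min_choice (x.support.card - 1) (k - 1) with h | h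
      · left; rw [hj, h]
      · right; rw [hj, h]
    obtain ⟨A, hAS, hAc, hAP⟩ := exists_good_subset x j (by omega)
    obtain ⟨T, hT⟩ : ∃ T, T = x.support \ A := ⟨_, rfl⟩
    have hTc : T.card = x.support.card - j := by
      rw [hT, Finset.card_sdiff_of_subset hAS, hAc]
    have hE1 : (A.filter (fun a => x a ∉ A)).card ≤ 1 := by
      rw [Finset.card_le_one]
      intro a ha b hb
      rw [Finset.mem_filter] at ha hb
      exact hAP a ha.1 b hb.1 ha.2 hb.2
    have hsub : ∀ h : Perm α, (∀ a ∈ A, h a = a) →
        (x⁻¹ * (h * x * h⁻¹)).support ⊆ A.filter (fun a => x a ∉ A) ∪ (T ∪ T.image h) := by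
      intro h hh z hz
      have := supp_comm x h A hh hz
      simp only [Finset.mem_sdiff, Finset.mem_union, Finset.mem_image, Finset.mem_filter,
        not_and] at this ⊢
      obtain ⟨h1, h2⟩ := this
      by_cases hzA : z ∈ A
      · left; exact ⟨hzA, h2 hzA⟩
      · right
        rcases h1 with h1 | ⟨s, hs, rfl⟩
        · left; rw [hT]; exact Finset.mem_sdiff.2 ⟨h1, hzA⟩
        · right
          refine ⟨s, ?_, rfl⟩
          rw [hT]
          refine Finset.mem_sdiff.2 ⟨hs, fun hsA => hzA ?_⟩
          rw [hh s hsA]; exact hsA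
    by_cases hE : (∃ a ∈ A, x a ∉ A) ∧ 2 ≤ T.card
    · obtain ⟨⟨a, haA, hxa⟩, hT2⟩ := hE
      have huT : x a ∈ T := by
        rw [hT]; exact Finset.mem_sdiff.2 ⟨Perm.apply_mem_support.2 (hAS haA), hxa⟩
      obtain ⟨v, hvT, hvu⟩ : ∃ v ∈ T, v ≠ x a := by
        obtain ⟨v, hv⟩ := Finset.card_pos.1 (show 0 < (T.erase (x a)).card by
          rw [Finset.card_erase_of_mem huT]; omega)
        exact ⟨v, Finset.mem_of_mem_erase hv, Finset.ne_of_mem_erase hv⟩
      have hvA : v ∉ A := by rw [hT] at hvT; exact (Finset.mem_sdiff.1 hvT).2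
      obtain ⟨h, hhG, hhA, hhu⟩ := fix_map G hkn' hG A (x a) v (by omega) hxa hvA
      refine ⟨x⁻¹ * (h * x * h⁻¹), hmem h hhG, ?_, ?_⟩
      · apply comm_ne_one x h a
        rw [hhu, hhA a haA]; exact hvu
      · refine lt_of_le_of_lt (Finset.card_le_card (hsub h hhA)) ?_
        have h5 : T ∪ T.image h = T ∪ (T.erase (x a)).image h := by
          ext z
          simp only [Finset.mem_union, Finset.mem_image, Finset.mem_erase]
          constructor
          · rintro (hz | ⟨s, hs, rfl⟩)
            · left; exact hz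
            · by_cases hsu : s = x a
              · left; rw [hsu, hhu]; exact hvT
              · right; exact ⟨s, ⟨hsu, hs⟩, rfl⟩
          · rintro (hz | ⟨s, ⟨_, hs⟩, rfl⟩)
            · left; exact hz
            · right; exact ⟨s, hs, rfl⟩
        have h6 : (T ∪ (T.erase (x a)).image h).card ≤ T.card + (T.card - 1) := by
          refine (Finset.card_union_le _ _).trans ?_
          have := Finset.card_image_le (s := T.erase (x a)) (f := h)
          rw [Finset.card_erase_of_mem huT] at this
          omega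
        have h7 := Finset.card_union_le (A.filter (fun a => x a ∉ A)) (T ∪ T.image h)
        rw [h5] at h7 ⊢
        omega
    · have hTpos : 0 < T.card := by omega
      obtain ⟨u, huT⟩ := Finset.card_pos.1 hTpos
      have huS : u ∈ x.support := by rw [hT] at huT; exact (Finset.mem_sdiff.1 huT).1
      have huA : u ∉ A := by rw [hT] at huT; exact (Finset.mem_sdiff.1 huT).2
      have hv₀A : v₀ ∉ A := fun h => hv₀ (hAS h)
      obtain ⟨h, hhG, hhA, hhu⟩ := fix_map G hkn' hG A u v₀ (by omega) huA hv₀A
      refine ⟨x⁻¹ * (h * x * h⁻¹), hmem h hhG, ?_, ?_⟩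
      · apply comm_ne_one x h u
        rw [hhu, Perm.notMem_support.1 hv₀]
        intro hcon
        rw [← hhu] at hcon
        exact (Perm.mem_support.1 huS) (h.injective hcon)
      · refine lt_of_le_of_lt (Finset.card_le_card (hsub h hhA)) ?_
        have h7 := Finset.card_union_le (A.filter (fun a => x a ∉ A)) (T ∪ T.image h)
        have h8 := Finset.card_union_le T (T.image h)
        have h9 := Finset.card_image_le (s := T) (f := h)
        rcases not_and_or.1 hE with hE' | hE'
        · have h10 : A.filter (fun a => x a ∉ A) = ∅ := by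
            apply Finset.filter_eq_empty_iff.2
            intro a ha
            push Not at hE'
            simpa using hE' a ha
          rw [h10, Finset.empty_union]
          omega
        · omega

theorem small_elt (G : Subgroup (Perm α)) {k : ℕ} (hk : 3 ≤ k) (hkn : k + 1 ≤ Fintype.card α)
    (hG : IsMultiplyPretransitive G α k) :
    ∀ m, ∀ x ∈ G, x ≠ 1 → x.support.card = m → m + 3 ≤ 2 * k →
      ∃ c ∈ G, c ≠ 1 ∧ c.support.card ≤ 3 := by
  intro m
  induction m using Nat.strong_induction_on with
  | _ m ih =>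
    intro x hx hx1 hxm hm
    by_cases h3 : m ≤ 3
    · exact ⟨x, hx, hx1, hxm ▸ h3⟩
    · obtain ⟨c, hc, hc1, hcl⟩ := descent G hk hkn hG x hx (by omega) (by omega)
      exact ih c.support.card (by omega) c hc hc1 rfl (by omega)

theorem main0711 (G : Subgroup (Perm α)) {k : ℕ} (hk : 3 ≤ k) (hkn : k ≤ Fintype.card α)
    (hG : IsMultiplyPretransitive G α k) (g : Perm α) (hg : g ∈ G) (hg1 : g ≠ 1)
    (hsupp : g.support.card < 2 * k - 2) :
    (∃ h : Perm α, h ∈ G ∧ h ≠ 1 ∧ h.support.card ≤ 3) ∧ alternatingGroup α ≤ G := by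
  have hA : alternatingGroup α ≤ G := by
    rcases hkn.eq_or_lt with heq | hlt
    · apply IsMultiplyPretransitive.alternatingGroup_le α G
      exact isMultiplyPretransitive_of_le (n := k) (by rw [Nat.card_eq_fintype_card]; omega)
        (by rw [Nat.card_eq_fintype_card]; exact hkn)
    · obtain ⟨c, hc, hc1, hc3⟩ := small_elt G hk hlt hG _ g hg hg1 rfl (by omega)
      have hprim : IsPreprimitive G α := isPreprimitive_of_is_two_pretransitive
        (isMultiplyPretransitive_of_le (n := k) (by omega) (by simpa using hkn))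
      have h2 := Perm.two_le_card_support_of_ne_one hc1
      rcases (show c.support.card = 2 ∨ c.support.card = 3 by omega) with h | h
      · have := subgroup_eq_top_of_isPreprimitive_of_isSwap_mem hprim c
          (card_support_eq_two.1 h) hc
        rw [this]; exact le_top
      · exact alternatingGroup_le_of_isPreprimitive_of_isThreeCycle_mem hprim
          (card_support_eq_three_iff.1 h) hc
  refine ⟨?_, hA⟩
  obtain ⟨a, b, c, hab, hac, hbc⟩ := Fintype.two_lt_card_iff.1
    (show 2 < Fintype.card α by omega)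
  have h3 := isThreeCycle_swap_mul_swap_same hab hac hbc
  refine ⟨_, hA h3.mem_alternatingGroup, fun h => ?_, h3.card_support.le⟩
  have := h3.card_support
  rw [h] at this
  simp at this

end Helpers0711


/-- A `k`-transitive permutation group (`k ≥ 3`) with a non-identity element of support smaller than `2k - 2` contains a non-identity element of support at most 3, and therefore contains the alternating group. -/
theorem result {α : Type*} [Fintype α] [DecidableEq α] (G : Subgroup (Equiv.Perm α)) {k : ℕ} (hk : 3 ≤ k) (hkn : k ≤ Fintype.card α) (hG : MulAction.IsMultiplyPretransitive G α k) (g : Equiv.Perm α) (hg : g ∈ G) (hg1 : g ≠ 1) (hsupp : g.support.card < 2 * k - 2) : (∃ h : Equiv.Perm α, h ∈ G ∧ h ≠ 1 ∧ h.support.card ≤ 3) ∧ alternatingGroup α ≤ G := by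
  exact main0711 G hk hkn hG g hg hg1 hsupp

end Cfsg.Agent.S0711
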