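import Cfsg.Statements.S0712
import Mathlib

set_option autoImplicit false
open Cfsg

namespace Cfsg.Agent.S0712


open MulAction SubMulAction

theorem jordan_two_transitive {G α : Type*} [Group G] [MulAction G α]
    (hG : IsPreprimitive G α) {s : Set α} {n : ℕ} (hsn : s.ncard = n)
    (hsn' : n + 2 ≤ Nat.card α)
    (h2 : IsMultiplyPretransitive (fixingSubgroup G s) (ofFixingSubgroup G s) 2) :
    IsMultiplyPretransitive G α (n + 2) := by
  have hα : Finite α := Or.resolve_right (finite_or_infinite α) (fun _ ↦ by
    simp [Nat.card_eq_zero_of_infinite] at hsn')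
  induction n generalizing α G with
  | zero =>
    have hs : s = ∅ := by
      rwa [Set.ncard_eq_zero (Set.toFinite s)] at hsn
    subst hs
    exact IsPretransitive.of_embedding
      (f := ofFixingSubgroup_equivariantMap G (∅ : Set α))
      (ofFixingSubgroupEmpty_equivariantMap_bijective).surjective
  | succ n hrec =>
    have hprim : IsPreprimitive (fixingSubgroup G s) (ofFixingSubgroup G s) :=
      isPreprimitive_of_is_two_pretransitive h2
    have hlt : n + 2 < Nat.card α := by omega
    have hG2 : IsMultiplyPreprimitive G α 2 := hG.is_two_preprimitive hsn hlt hprim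
    have hne : s.Nonempty := by
      rw [← Set.ncard_pos, hsn]
      exact Nat.succ_pos n
    obtain ⟨a, ha⟩ := hne
    have hst : s = insert a (Subtype.val '' (Subtype.val ⁻¹' s : Set (ofStabilizer G a))) := by
      ext x
      by_cases hx : x = a <;> simp [hx, mem_ofStabilizer_iff, ha]
    obtain ⟨t, ht⟩ : ∃ t : Set (ofStabilizer G a), t = Subtype.val ⁻¹' s := ⟨_, rfl⟩
    rw [← ht] at hst
    have ha' : a ∉ Subtype.val '' t := by
      intro h
      rw [Set.mem_image] at h
      obtain ⟨x, hx⟩ := h
      apply x.prop
      rw [hx.right]
      exact Set.mem_singleton a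
    have ht_prim : IsPreprimitive (stabilizer G a) (ofStabilizer G a) := by
      rw [← is_one_preprimitive_iff]
      rw [← isMultiplyPreprimitive_succ_iff_ofStabilizer]
      · exact hG2
      · norm_num
    have h2' : IsMultiplyPretransitive ↥(fixingSubgroup G (insert a (Subtype.val '' t)))
        (ofFixingSubgroup G (insert a (Subtype.val '' t))) 2 :=
      IsPretransitive.of_embedding (ofFixingSubgroup_of_eq_bijective (hst := hst)).surjective
    have h2'' : IsMultiplyPretransitive (fixingSubgroup (stabilizer G a) t)
        (ofFixingSubgroup (stabilizer G a) t) 2 :=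
      IsPretransitive.of_embedding ofFixingSubgroup_insert_map_bijective.surjective
    haveI : IsPretransitive G α := hG.toIsPretransitive
    show IsMultiplyPretransitive G α (n + 2).succ
    rw [ofStabilizer.isMultiplyPretransitive (a := a)]
    refine hrec ht_prim ?_ ?_ h2'' Subtype.finite
    · rw [← Set.ncard_image_of_injective t Subtype.val_injective]
      apply Nat.add_right_cancel
      rw [← Set.ncard_insert_of_notMem ha', ← hst, hsn]
    · have := nat_card_ofStabilizer_add_one_eq (G := G) a
      omega


/-- Jordan: a primitive group in which the pointwise stabiliser of a set `s` is doubly transitive on the complement of `s` (which has at least 2 points) is `(|s| + 2)`-transitive. -/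
theorem result {α : Type*} [Fintype α] [DecidableEq α] (G : Subgroup (Equiv.Perm α)) (hG : MulAction.IsPreprimitive G α) (s : Set α) {m : ℕ} (hsm : s.ncard = m) (hm : m + 2 ≤ Fintype.card α) (h2 : MulAction.IsMultiplyPretransitive (fixingSubgroup G s) (SubMulAction.ofFixingSubgroup G s) 2) : MulAction.IsMultiplyPretransitive G α (m + 2) := by
  apply jordan_two_transitive hG hsm _ h2
  rw [Nat.card_eq_fintype_card]
  exact hm

end Cfsg.Agent.S0712
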