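import Cfsg.Statements.S0714
import Mathlib
-- import your own Cfsg.Agent.* helpers here

set_option autoImplicit false
open Cfsg

namespace Cfsg.Agent.S0714

section
variable {α : Type*} [Fintype α] [DecidableEq α] {K : Type*} [Field K]

/-- the three-cycle a → b → c → a -/
theorem three_cycle (a b c : α) (hab : a ≠ b) (hbc : b ≠ c) (hac : a ≠ c) :
    ∃ g : Equiv.Perm α, g ∈ alternatingGroup α ∧ g⁻¹ a = c ∧ g⁻¹ b = a ∧ g⁻¹ c = b ∧
      ∀ x, x ≠ a → x ≠ b → x ≠ c → g⁻¹ x = x := by
  refine ⟨Equiv.swap a b * Equiv.swap b c, ?_, ?_, ?_, ?_, ?_⟩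
  · rw [Equiv.Perm.mem_alternatingGroup, map_mul, Equiv.Perm.sign_swap hab,
      Equiv.Perm.sign_swap hbc]
    rfl
  · rw [mul_inv_rev, Equiv.swap_inv, Equiv.swap_inv, Equiv.Perm.mul_apply, Equiv.swap_apply_left,
      Equiv.swap_apply_left]
  · rw [mul_inv_rev, Equiv.swap_inv, Equiv.swap_inv, Equiv.Perm.mul_apply, Equiv.swap_apply_right,
      Equiv.swap_apply_of_ne_of_ne hab hac]
  · rw [mul_inv_rev, Equiv.swap_inv, Equiv.swap_inv, Equiv.Perm.mul_apply,
      Equiv.swap_apply_of_ne_of_ne hac.symm hbc.symm, Equiv.swap_apply_right]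
  · intro x hxa hxb hxc
    rw [mul_inv_rev, Equiv.swap_inv, Equiv.swap_inv, Equiv.Perm.mul_apply,
      Equiv.swap_apply_of_ne_of_ne hxa hxb, Equiv.swap_apply_of_ne_of_ne hxb hxc]

theorem rho_apply (g : Equiv.Perm α) (hg : g ∈ alternatingGroup α) (f : α → K) (x : α) :
    (permRep K (alternatingGroup α) α ⟨g, hg⟩) f x = f (g⁻¹ x) := rfl

theorem exists_not_mem (s : Finset α) (h : s.card < Fintype.card α) : ∃ w, w ∉ s := by
  by_contra hcon
  push Not at hcon
  have : s = Finset.univ := Finset.eq_univ_iff_forall.2 hcon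
  rw [this, Finset.card_univ] at h
  exact lt_irrefl _ h

theorem sub_mem_of (W : Subrepresentation (permRep K (alternatingGroup α) α))
    (g : Equiv.Perm α) (hg : g ∈ alternatingGroup α) (f : α → K) (hf : f ∈ W.toSubmodule) :
    (fun x => f x - f (g⁻¹ x)) ∈ W.toSubmodule := by
  have h1 := W.apply_mem_toSubmodule ⟨g, hg⟩ hf
  have h2 := W.toSubmodule.sub_mem hf h1
  have : (fun x => f x - f (g⁻¹ x)) = f - (permRep K (alternatingGroup α) α ⟨g, hg⟩) f := by
    funext x; rfl
  rw [this]; exact h2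

theorem exists_diff (hα : 5 ≤ Fintype.card α)
    (W : Subrepresentation (permRep K (alternatingGroup α) α))
    (f : α → K) (hf : f ∈ W.toSubmodule) (i j : α) (hij : f i ≠ f j) :
    ∃ x y : α, x ≠ y ∧ (Pi.single x 1 - Pi.single y 1 : α → K) ∈ W.toSubmodule := by
  have hne : i ≠ j := fun h => hij (by rw [h])
  obtain ⟨k, hk⟩ := exists_not_mem ({i, j} : Finset α)
    (lt_of_le_of_lt Finset.card_le_two (by omega))
  simp only [Finset.mem_insert, Finset.mem_singleton, not_or] at hk
  obtain ⟨hki, hkj⟩ := hk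
  obtain ⟨l, hl⟩ := exists_not_mem ({i, j, k} : Finset α)
    (lt_of_le_of_lt Finset.card_le_three (by omega))
  simp only [Finset.mem_insert, Finset.mem_singleton, not_or] at hl
  obtain ⟨hli, hlj, hlk⟩ := hl
  obtain ⟨m, hm⟩ := exists_not_mem ({i, j, k, l} : Finset α)
    (lt_of_le_of_lt Finset.card_le_four (by omega))
  simp only [Finset.mem_insert, Finset.mem_singleton, not_or] at hm
  obtain ⟨hmi, hmj, hmk, hml⟩ := hm
  obtain ⟨g, hg, g1, g2, g3, g4⟩ := three_cycle i j k hne (Ne.symm hkj) (Ne.symm hki)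
  obtain ⟨u, hu⟩ : ∃ u : α → K, u = fun x => f x - f (g⁻¹ x) := ⟨_, rfl⟩
  have huM : u ∈ W.toSubmodule := by rw [hu]; exact sub_mem_of W g hg f hf
  have huj : u j ≠ 0 := by
    rw [hu]
    simp only
    rw [g2]
    exact sub_ne_zero.2 (Ne.symm hij)
  have hul : u l = 0 := by
    rw [hu]; simp only; rw [g4 l hli hlj hlk, sub_self]
  have hum : u m = 0 := by
    rw [hu]; simp only; rw [g4 m hmi hmj hmk, sub_self]
  obtain ⟨g', hg', g1', g2', g3', g4'⟩ := three_cycle j l m (Ne.symm hlj) (Ne.symm hml) (Ne.symm hmj)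
  have hvM := sub_mem_of W g' hg' u huM
  have hv : (fun x => u x - u (g'⁻¹ x)) = (u j) • (Pi.single j 1 - Pi.single l 1 : α → K) := by
    funext x
    simp only [Pi.smul_apply, Pi.sub_apply, smul_eq_mul, Pi.single_apply]
    by_cases hxj : x = j
    · rw [hxj, g1', hum, if_pos rfl, if_neg (Ne.symm hlj)]; ring
    · by_cases hxl : x = l
      · rw [hxl, g2', hul, if_neg hlj, if_pos rfl]; ring
      · by_cases hxm : x = m
        · rw [hxm, g3', hul, hum, if_neg hmj, if_neg hml]; ring
        · rw [g4' x hxj hxl hxm, if_neg hxj, if_neg hxl]; ring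
  refine ⟨j, l, Ne.symm hlj, ?_⟩
  have h3 := W.toSubmodule.smul_mem (u j)⁻¹ hvM
  rw [hv, smul_smul, inv_mul_cancel₀ huj, one_smul] at h3
  exact h3

theorem move (hα : 5 ≤ Fintype.card α)
    (W : Subrepresentation (permRep K (alternatingGroup α) α)) (x y z : α)
    (hxy : x ≠ y) (hxz : x ≠ z) (hyz : y ≠ z)
    (h : (Pi.single x 1 - Pi.single y 1 : α → K) ∈ W.toSubmodule) :
    (Pi.single x 1 - Pi.single z 1 : α → K) ∈ W.toSubmodule := by
  obtain ⟨w, hw⟩ := exists_not_mem ({x, y, z} : Finset α)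
    (lt_of_le_of_lt Finset.card_le_three (by omega))
  simp only [Finset.mem_insert, Finset.mem_singleton, not_or] at hw
  obtain ⟨hwx, hwy, hwz⟩ := hw
  obtain ⟨g, hg, g1, g2, g3, g4⟩ := three_cycle y z w hyz (Ne.symm hwz) (Ne.symm hwy)
  have h1 := W.apply_mem_toSubmodule ⟨g, hg⟩ h
  have : (permRep K (alternatingGroup α) α ⟨g, hg⟩) (Pi.single x 1 - Pi.single y 1) =
      (Pi.single x 1 - Pi.single z 1 : α → K) := by
    funext t
    rw [rho_apply]
    simp only [Pi.sub_apply, Pi.single_apply]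
    have hx : x = g x := Equiv.Perm.inv_eq_iff_eq.1 (g4 x hxy hxz (Ne.symm hwx))
    have hz : z = g y := Equiv.Perm.inv_eq_iff_eq.1 g2
    have e1 : g⁻¹ t = x ↔ t = x := by
      rw [Equiv.Perm.inv_eq_iff_eq, ← hx]
    have e2 : g⁻¹ t = y ↔ t = z := by
      rw [Equiv.Perm.inv_eq_iff_eq, ← hz]
    simp only [e1, e2]
  rw [this] at h1
  exact h1

theorem all_diff (hα : 5 ≤ Fintype.card α)
    (W : Subrepresentation (permRep K (alternatingGroup α) α)) (x₀ y₀ : α) (hne : x₀ ≠ y₀)
    (h : (Pi.single x₀ 1 - Pi.single y₀ 1 : α → K) ∈ W.toSubmodule) (a : α) :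
    (Pi.single a 1 - Pi.single x₀ 1 : α → K) ∈ W.toSubmodule := by
  have key : (Pi.single x₀ 1 - Pi.single a 1 : α → K) ∈ W.toSubmodule := by
    by_cases h1 : a = x₀
    · rw [h1, sub_self]; exact W.toSubmodule.zero_mem
    · by_cases h2 : a = y₀
      · rw [h2]; exact h
      · exact move hα W x₀ y₀ a hne (Ne.symm h1) (Ne.symm h2) h
  have := W.toSubmodule.neg_mem key
  rw [neg_sub] at this
  exact this

theorem sumZero_le (W : Subrepresentation (permRep K (alternatingGroup α) α)) (x₀ : α)
    (h : ∀ a, (Pi.single a 1 - Pi.single x₀ 1 : α → K) ∈ W.toSubmodule) :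
    (permSumZero K (alternatingGroup α) α).toSubmodule ≤ W.toSubmodule := by
  intro f hf
  have hf' : ∑ x, f x = 0 := hf
  have hf2 : f = ∑ a, f a • (Pi.single a 1 - Pi.single x₀ 1 : α → K) := by
    funext t
    rw [Finset.sum_apply]
    simp only [Pi.smul_apply, Pi.sub_apply, Pi.single_apply, smul_eq_mul, mul_sub, mul_ite,
      mul_one, mul_zero]
    rw [Finset.sum_sub_distrib, Finset.sum_ite_eq Finset.univ t (fun a => f a)]
    by_cases ht : t = x₀
    · simp [ht, hf']
    · simp [ht]
  rw [hf2]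
  exact W.toSubmodule.sum_mem (fun a _ => W.toSubmodule.smul_mem _ (h a))

end

/-- Over any field, the permutation module of the alternating group of degree at least 5 has exactly four invariant subspaces: zero, the constant functions, the functions with coordinate sum zero, and everything. -/
theorem result {α : Type*} [Fintype α] [DecidableEq α] (hα : 5 ≤ Fintype.card α) {K : Type*} [Field K] (W : Subrepresentation (Cfsg.permRep K (alternatingGroup α) α)) : W.toSubmodule = ⊥ ∨ W = Cfsg.permConstants K (alternatingGroup α) α ∨ W = Cfsg.permSumZero K (alternatingGroup α) α ∨ W.toSubmodule = ⊤ := by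
  have : Nonempty α := Fintype.card_pos_iff.1 (by omega)
  obtain ⟨x₀⟩ := ‹Nonempty α›
  by_cases hconst : ∀ f ∈ W.toSubmodule, ∀ i j : α, f i = f j
  · by_cases hbot : W.toSubmodule = ⊥
    · exact Or.inl hbot
    · right; left
      apply Subrepresentation.toSubmodule_injective
      obtain ⟨f, hf, hf0⟩ := Submodule.exists_mem_ne_zero_of_ne_bot hbot
      obtain ⟨c, hcdef⟩ : ∃ c : K, c = f x₀ := ⟨_, rfl⟩
      have hfc : f = c • (fun _ => (1 : K)) := by
        funext t
        simp only [Pi.smul_apply, smul_eq_mul, mul_one]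
        rw [hcdef]
        exact hconst f hf t x₀
      have hc : c ≠ 0 := by
        intro h0
        apply hf0
        rw [hfc, h0, zero_smul]
      have hone : (fun _ => (1 : K)) ∈ W.toSubmodule := by
        have := W.toSubmodule.smul_mem c⁻¹ hf
        rw [hfc, smul_smul, inv_mul_cancel₀ hc, one_smul] at this
        exact this
      apply le_antisymm
      · intro g hg
        change g ∈ Submodule.span K {fun _ => (1 : K)}
        rw [Submodule.mem_span_singleton]
        refine ⟨g x₀, ?_⟩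
        funext t
        simp only [Pi.smul_apply, smul_eq_mul, mul_one]
        exact (hconst g hg t x₀).symm
      · change Submodule.span K {fun _ => (1 : K)} ≤ W.toSubmodule
        rw [Submodule.span_le]
        intro g hg
        rw [Set.mem_singleton_iff] at hg
        rw [hg]; exact hone
  · right; right
    push Not at hconst
    obtain ⟨f, hf, i, j, hij⟩ := hconst
    obtain ⟨x, y, hxy, hd⟩ := Cfsg.Agent.S0714.exists_diff hα W f hf i j hij
    have hle := Cfsg.Agent.S0714.sumZero_le W x (Cfsg.Agent.S0714.all_diff hα W x y hxy hd)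
    by_cases hall : ∀ g ∈ W.toSubmodule, ∑ t, g t = 0
    · left
      apply Subrepresentation.toSubmodule_injective
      apply le_antisymm
      · intro g hg
        exact hall g hg
      · exact hle
    · right
      push Not at hall
      obtain ⟨g, hg, hs⟩ := hall
      rw [eq_top_iff]
      intro e _
      have h1 : e - ((∑ t, e t) / (∑ t, g t)) • g ∈ W.toSubmodule := by
        apply hle
        change ∑ t, (e - ((∑ t, e t) / (∑ t, g t)) • g) t = 0
        simp only [Pi.sub_apply, Pi.smul_apply, smul_eq_mul]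
        rw [Finset.sum_sub_distrib, ← Finset.mul_sum, div_mul_cancel₀ _ hs, sub_self]
      have h2 := W.toSubmodule.add_mem h1 (W.toSubmodule.smul_mem ((∑ t, e t) / (∑ t, g t)) hg)
      rw [sub_add_cancel] at h2
      exact h2

end Cfsg.Agent.S0714
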