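import Cfsg.Statements.S0721
import Cfsg.Agent.Lib.Helper2.Conj

set_option autoImplicit false
set_option linter.style.haveILetI false
open Cfsg

namespace Cfsg.Agent.S0721

open Cfsg.Agent.Lib.Helper2
open scoped Pointwise

/-- `T × T^m ≃* T^(m+1)`. -/
def prodPiEquiv (T : Type*) [Group T] (m : ℕ) : T × (Fin m → T) ≃* (Fin (m + 1) → T) :=
  { toEquiv := Fin.consEquiv (fun _ => T)
    map_mul' := by
      intro x y; funext i; refine Fin.cases ?_ ?_ i <;> simp [Fin.consEquiv] }

/-- Internal direct product of two commuting subgroups with trivial intersection. -/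
theorem nonempty_sup_equiv_prod {H : Type*} [Group H] (M X : Subgroup H)
    (hcomm : ∀ m ∈ M, ∀ x ∈ X, m * x = x * m) (hdis : M ⊓ X = ⊥) :
    Nonempty (↥(M ⊔ X) ≃* M × X) := by
  have comm : ∀ (m : M) (x : X), Commute (M.subtype m) (X.subtype x) := fun m x =>
    hcomm m.1 m.2 x.1 x.2
  let f := MonoidHom.noncommCoprod M.subtype X.subtype comm
  have hf : Function.Injective f := by
    rw [MonoidHom.noncommCoprod_injective]
    refine ⟨Subgroup.subtype_injective M, Subgroup.subtype_injective X, ?_⟩
    rw [Subgroup.range_subtype, Subgroup.range_subtype, disjoint_iff, hdis]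
  have hr : f.range = M ⊔ X := by
    rw [MonoidHom.noncommCoprod_range, Subgroup.range_subtype, Subgroup.range_subtype]
  exact ⟨((MonoidHom.ofInjective hf).trans (MulEquiv.subgroupCongr hr)).symm⟩

theorem inv_smul' {H : Type*} [Group H] (N : Subgroup H) [N.Normal] (T : Subgroup H)
    (hT : N ≤ Subgroup.normalizer (T : Set H)) (g : H) :
    N ≤ Subgroup.normalizer ((MulAut.conj g • T : Subgroup H) : Set H) := by
  intro n hn
  rw [mem_normalizer_iff_conj_smul_eq]
  have h1 : g⁻¹ * n * g ∈ N := by
    have := Subgroup.Normal.conj_mem (inferInstance : N.Normal) n hn g⁻¹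
    simpa using this
  have h2 := (mem_normalizer_iff_conj_smul_eq T (g⁻¹ * n * g)).1 (hT h1)
  have h3 : MulAut.conj n * MulAut.conj g = MulAut.conj g * MulAut.conj (g⁻¹ * n * g) := by
    rw [← map_mul, ← map_mul]
    congr 1
    group
  rw [← mul_smul, h3, mul_smul, h2]

/-- A minimal normal subgroup of a finite group is isomorphic to a direct product of finitely many copies of a simple group. -/
theorem result {H : Type*} [Group H] [Finite H] (N : Subgroup H) [N.Normal] (hN : N ≠ ⊥) (hmin : ∀ M : Subgroup H, M.Normal → M ≤ N → M = ⊥ ∨ M = N) : ∃ (T : Type) (_ : Group T) (m : ℕ), IsSimpleGroup T ∧ 0 < m ∧ Nonempty (N ≃* (Fin m → T)) := by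
  classical
  -- choose S minimal
  let 𝒮 : Set (Subgroup H) := {X | X ≠ ⊥ ∧ X ≤ N ∧ N ≤ Subgroup.normalizer (X : Set H)}
  have h𝒮 : 𝒮.Nonempty := ⟨N, hN, le_rfl, Subgroup.le_normalizer⟩
  obtain ⟨S, hS𝒮, hSmin'⟩ := WellFounded.has_min (wellFounded_lt (α := Subgroup H)) 𝒮 h𝒮
  obtain ⟨hS1, hSN, hSinv⟩ := hS𝒮
  have hSmin : ∀ Y : Subgroup H, Y ≤ S → N ≤ Subgroup.normalizer (Y : Set H) → Y = ⊥ ∨ Y = S := by
    intro Y hYS hY
    by_cases hY1 : Y = ⊥
    · exact Or.inl hY1
    · right
      by_contra hne
      exact hSmin' Y ⟨hY1, hYS.trans hSN, hY⟩ (lt_of_le_of_ne hYS hne)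
  -- conjugates
  have hXmin : ∀ g : H, ∀ Y : Subgroup H, Y ≤ MulAut.conj g • S →
      N ≤ Subgroup.normalizer (Y : Set H) → Y = ⊥ ∨ Y = MulAut.conj g • S := by
    intro g Y hYX hY
    have h1 : (MulAut.conj g)⁻¹ • Y ≤ S := by
      rw [← Subgroup.pointwise_smul_le_pointwise_smul_iff (a := MulAut.conj g), smul_inv_smul]
      exact hYX
    have h2 : N ≤ Subgroup.normalizer (((MulAut.conj g)⁻¹ • Y : Subgroup H) : Set H) := by
      rw [← map_inv]
      exact inv_smul' N Y hY g⁻¹
    rcases hSmin _ h1 h2 with h | h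
    · left
      have := congrArg (fun Z => MulAut.conj g • Z) h
      simpa using this
    · right
      have := congrArg (fun Z => MulAut.conj g • Z) h
      simpa using this
  -- the property
  let P : Subgroup H → Prop := fun M => M ≤ N ∧ N ≤ Subgroup.normalizer (M : Set H) ∧ S ≤ M ∧
    M ≤ S ⊔ Subgroup.centralizer (S : Set H) ∧ ∃ m : ℕ, 0 < m ∧ Nonempty (M ≃* (Fin m → S))
  have hPS : P S := ⟨hSN, hSinv, le_rfl, le_sup_left, 1, Nat.one_pos,
    ⟨(MulEquiv.funUnique (Fin 1) S).symm⟩⟩
  obtain ⟨M, hPM, hMmax⟩ := WellFounded.has_min (wellFounded_gt (α := Subgroup H)) {M | P M} ⟨S, hPS⟩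
  obtain ⟨hMN, hMinv, hSM, hMSC, m, hm, ⟨e⟩⟩ := hPM
  have hMeq : M = N := by
    by_contra hne
    -- normal closure of S is N
    have hJ : Subgroup.normalClosure (S : Set H) = N := by
      rcases hmin (Subgroup.normalClosure (S : Set H)) inferInstance
        (Subgroup.normalClosure_le_normal hSN) with h | h
      · exfalso
        apply hS1
        apply le_bot_iff.1
        rw [← h]
        exact Subgroup.subset_normalClosure
      · exact h
    -- some conjugate not in M
    have hex : ∃ g : H, ¬ MulAut.conj g • S ≤ M := by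
      by_contra hall
      push Not at hall
      apply hne
      apply le_antisymm hMN
      rw [← hJ, Subgroup.normalClosure, Subgroup.closure_le]
      intro x hx
      rw [Group.mem_conjugatesOfSet_iff] at hx
      obtain ⟨s, hs, hsx⟩ := hx
      rw [isConj_iff] at hsx
      obtain ⟨c, rfl⟩ := hsx
      apply hall c
      rw [mem_conj_smul_iff]
      have e5 : c⁻¹ * (c * s * c⁻¹) * c = s := by group
      rw [e5]; exact hs
    obtain ⟨g, hg⟩ := hex
    set X : Subgroup H := MulAut.conj g • S with hX
    have hXN : X ≤ N := by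
      intro x hx
      rw [hX, mem_conj_smul_iff] at hx
      have h1 := Subgroup.Normal.conj_mem (inferInstance : N.Normal) _ (hSN hx) g
      simpa [mul_assoc] using h1
    have hXinv : N ≤ Subgroup.normalizer (X : Set H) := inv_smul' N S hSinv g
    have hXM : M ⊓ X = ⊥ := by
      have hinv : N ≤ Subgroup.normalizer ((M ⊓ X : Subgroup H) : Set H) := by
        intro n hn
        have h1 := hMinv hn
        have h2 := hXinv hn
        rw [Subgroup.mem_normalizer_iff] at h1 h2 ⊢
        intro h
        rw [Subgroup.mem_inf, Subgroup.mem_inf, ← h1 h, ← h2 h]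
      rcases hXmin g (M ⊓ X) inf_le_right hinv with h | h
      · exact h
      · exfalso
        apply hg
        rw [← hX] at h
        rw [← h]
        exact inf_le_left
    have hcomm : ∀ y ∈ M, ∀ x ∈ X, y * x = x * y := by
      intro y hy x hx
      have h1 : y * x * y⁻¹ * x⁻¹ ∈ M ⊓ X := by
        constructor
        · have := (Subgroup.mem_normalizer_iff.1 (hMinv (hXN hx)) y⁻¹).1 (M.inv_mem hy)
          have h3 := M.mul_mem hy this
          have e3 : y * (x * y⁻¹ * x⁻¹) = y * x * y⁻¹ * x⁻¹ := by group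
          rwa [e3] at h3
        · have := (Subgroup.mem_normalizer_iff.1 (hXinv (hMN hy)) x).1 hx
          exact X.mul_mem this (X.inv_mem hx)
      rw [hXM, Subgroup.mem_bot] at h1
      calc y * x = (y * x * y⁻¹ * x⁻¹) * x * y := by group
        _ = x * y := by rw [h1, one_mul]
    obtain ⟨e2⟩ := nonempty_sup_equiv_prod M X hcomm hXM
    have eX : X ≃* S := (Subgroup.equivSMul (MulAut.conj g) S).symm
    have hP' : P (M ⊔ X) := by
      refine ⟨sup_le hMN hXN, ?_, hSM.trans le_sup_left, sup_le hMSC ?_, m + 1, Nat.succ_pos m, ?_⟩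
      · intro n hn
        have h1 := hMinv hn
        have h2 := hXinv hn
        rw [mem_normalizer_iff_conj_smul_eq] at h1 h2 ⊢
        rw [Subgroup.smul_sup, h1, h2]
      · apply le_trans _ (le_sup_right : Subgroup.centralizer (S : Set H) ≤ _)
        intro x hx
        rw [Subgroup.mem_centralizer_iff]
        intro s hs
        exact hcomm s (hSM hs) x hx
      · exact ⟨e2.trans ((MulEquiv.prodComm).trans
          ((MulEquiv.prodCongr eX e).trans (prodPiEquiv S m)))⟩
    have hlt : M < M ⊔ X := by
      apply lt_of_le_of_ne le_sup_left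
      intro h
      apply hg
      rw [h]
      exact le_sup_right
    exact hMmax (M ⊔ X) hP' hlt
  subst hMeq
  -- S is simple
  haveI : Nontrivial S := (Subgroup.nontrivial_iff_ne_bot S).2 hS1
  have hsimple : IsSimpleGroup S := by
    refine ⟨?_⟩
    intro L' hL'
    have hLS : L'.map S.subtype ≤ S := by
      rintro _ ⟨l, _, rfl⟩
      exact l.2
    have hLinv : M ≤ Subgroup.normalizer ((L'.map S.subtype : Subgroup H) : Set H) := by
      apply hMSC.trans
      apply sup_le
      · intro s hs
        rw [Subgroup.mem_normalizer_iff]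
        intro h
        constructor
        · rintro ⟨l, hl, rfl⟩
          exact ⟨⟨s, hs⟩ * l * ⟨s, hs⟩⁻¹, hL'.conj_mem l hl ⟨s, hs⟩, rfl⟩
        · rintro ⟨l, hl, hlh⟩
          have hh : h = s⁻¹ * (l : H) * s := by
            have : (S.subtype l : H) = (l : H) := rfl
            rw [this] at hlh
            rw [hlh]; group
          refine ⟨⟨s, hs⟩⁻¹ * l * ⟨s, hs⟩, ?_, ?_⟩
          · have := hL'.conj_mem l hl (⟨s, hs⟩⁻¹ : S)
            simpa using this
          · rw [hh]; rfl
      · intro c hc
        rw [Subgroup.mem_centralizer_iff] at hc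
        rw [Subgroup.mem_normalizer_iff]
        intro h
        constructor
        · rintro ⟨l, hl, rfl⟩
          refine ⟨l, hl, ?_⟩
          have := hc l l.2
          show (l : H) = c * (l : H) * c⁻¹
          rw [← this]; group
        · rintro ⟨l, hl, hlh⟩
          refine ⟨l, hl, ?_⟩
          have := hc l l.2
          have h5 : (S.subtype l : H) = (l : H) := rfl
          rw [h5] at hlh ⊢
          have h6 : h = c⁻¹ * (l : H) * c := by rw [hlh]; group
          rw [h6, mul_assoc, this]; group
    rcases hSmin _ hLS hLinv with h | h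
    · left
      rw [Subgroup.eq_bot_iff_forall]
      intro l hl
      have : (l : H) ∈ L'.map S.subtype := ⟨l, hl, rfl⟩
      rw [h, Subgroup.mem_bot] at this
      exact Subtype.ext this
    · right
      rw [Subgroup.eq_top_iff']
      intro s
      have : (s : H) ∈ L'.map S.subtype := by rw [h]; exact s.2
      obtain ⟨l, hl, hls⟩ := this
      have : l = s := Subtype.ext hls
      rwa [← this]
  -- transport to Type
  let eq0 : {i : ℕ // i < Nat.card S} ≃ S := ((Finite.equivFin S).trans Fin.equivSubtype).symm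
  letI : Group {i : ℕ // i < Nat.card S} := eq0.group
  let eq1 : {i : ℕ // i < Nat.card S} ≃* S := eq0.mulEquiv
  haveI : IsSimpleGroup {i : ℕ // i < Nat.card S} := eq1.isSimpleGroup
  refine ⟨{i : ℕ // i < Nat.card S}, inferInstance, m, inferInstance, hm, ?_⟩
  exact ⟨e.trans (MulEquiv.piCongrRight (fun _ => eq1.symm))⟩

end Cfsg.Agent.S0721
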