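import Cfsg.Statements.S0724
import Mathlib

set_option autoImplicit false
set_option linter.style.haveILetI false
open Cfsg

namespace Cfsg.Agent.S0724

open scoped Classical in
theorem card_fixedBy_pi {α : Type*} [Fintype α] [DecidableEq α] (G : Subgroup (Equiv.Perm α))
    (k : ℕ) (g : G) :
    Nat.card (MulAction.fixedBy (Fin k → α) g) =
      Nat.card (MulAction.fixedBy α (g : Equiv.Perm α)) ^ k := by
  have e : MulAction.fixedBy (Fin k → α) g ≃ (Fin k → MulAction.fixedBy α (g : Equiv.Perm α)) :=
    { toFun := fun v i => ⟨v.1 i, by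
        have h := v.2
        rw [MulAction.mem_fixedBy] at h ⊢
        exact congrFun h i⟩
      invFun := fun w => ⟨fun i => (w i).1, by
        rw [MulAction.mem_fixedBy]
        funext i
        exact (w i).2⟩
      left_inv := fun v => rfl
      right_inv := fun w => rfl }
  rw [Nat.card_congr e, Nat.card_fun, Nat.card_fin]

open scoped Classical in
theorem claimA {α : Type*} [Fintype α] [DecidableEq α] (G : Subgroup (Equiv.Perm α)) (k : ℕ) :
    (Nat.card G : ℤ) ∣
      ∑ g : G, ((Nat.card (MulAction.fixedBy α (g : Equiv.Perm α)) : ℕ) : ℤ) ^ k := by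
  have h := MulAction.sum_card_fixedBy_eq_card_orbits_mul_card_group G (Fin k → α)
  have h2 : ∑ g : G, ((Nat.card (MulAction.fixedBy α (g : Equiv.Perm α)) : ℕ) : ℤ) ^ k
      = ((∑ g : G, Fintype.card (MulAction.fixedBy (Fin k → α) g) : ℕ) : ℤ) := by
    rw [Nat.cast_sum]
    apply Finset.sum_congr rfl
    intro g _
    rw [← Nat.card_eq_fintype_card, card_fixedBy_pi, Nat.cast_pow]
  rw [h2, h, Nat.cast_mul, Nat.card_eq_fintype_card]
  exact dvd_mul_left _ _

open scoped Classical in
theorem claimB {α : Type*} [Fintype α] [DecidableEq α] (G : Subgroup (Equiv.Perm α))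
    (L : Finset ℕ) : ∀ k : ℕ, (Nat.card G : ℤ) ∣
      ∑ g : G, ((Nat.card (MulAction.fixedBy α (g : Equiv.Perm α)) : ℕ) : ℤ) ^ k *
        ∏ l ∈ L, (((Nat.card (MulAction.fixedBy α (g : Equiv.Perm α)) : ℕ) : ℤ) - (l : ℤ)) := by
  induction L using Finset.induction_on with
  | empty =>
    intro k
    simp only [Finset.prod_empty, mul_one]
    exact claimA G k
  | insert l L hl ih =>
    intro k
    have h1 : ∀ g : G, ((Nat.card (MulAction.fixedBy α (g : Equiv.Perm α)) : ℕ) : ℤ) ^ k *
        ∏ l' ∈ insert l L, (((Nat.card (MulAction.fixedBy α (g : Equiv.Perm α)) : ℕ) : ℤ) - (l' : ℤ))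
        = ((Nat.card (MulAction.fixedBy α (g : Equiv.Perm α)) : ℕ) : ℤ) ^ (k + 1) *
          ∏ l' ∈ L, (((Nat.card (MulAction.fixedBy α (g : Equiv.Perm α)) : ℕ) : ℤ) - (l' : ℤ))
        - (l : ℤ) * (((Nat.card (MulAction.fixedBy α (g : Equiv.Perm α)) : ℕ) : ℤ) ^ k *
          ∏ l' ∈ L, (((Nat.card (MulAction.fixedBy α (g : Equiv.Perm α)) : ℕ) : ℤ) - (l' : ℤ))) := by
      intro g
      rw [Finset.prod_insert hl]
      ring
    simp only [h1]
    rw [Finset.sum_sub_distrib, ← Finset.mul_sum]
    exact dvd_sub (ih (k + 1)) (Dvd.dvd.mul_left (ih k) _)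

/-- Blichfeldt's Theorem: if a finite set `L` of natural numbers contains the number of fixed points of every non-identity element of a permutation group `G` of degree `n`, then the order of `G` divides `∏ (n - l)` over `l ∈ L`. -/
theorem result {α : Type*} [Fintype α] [DecidableEq α] (G : Subgroup (Equiv.Perm α)) (L : Finset ℕ) (hL : ∀ g ∈ G, g ≠ 1 → Nat.card (MulAction.fixedBy α g) ∈ L) : Nat.card G ∣ ∏ l ∈ L, (Fintype.card α - l) := by
  classical
  by_cases hbig : ∃ l ∈ L, Fintype.card α ≤ l
  · obtain ⟨l, hl, hle⟩ := hbig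
    have : ∏ l ∈ L, (Fintype.card α - l) = 0 := by
      apply Finset.prod_eq_zero hl
      omega
    rw [this]
    exact dvd_zero _
  · push Not at hbig
    have hB := claimB G L 0
    simp only [pow_zero, one_mul] at hB
    -- only the identity contributes
    have hsum : ∑ g : G,
        ∏ l ∈ L, (((Nat.card (MulAction.fixedBy α (g : Equiv.Perm α)) : ℕ) : ℤ) - (l : ℤ))
        = ∏ l ∈ L, (((Fintype.card α : ℕ) : ℤ) - (l : ℤ)) := by
      rw [Finset.sum_eq_single (1 : G)]
      · have : Nat.card (MulAction.fixedBy α ((1 : G) : Equiv.Perm α)) = Fintype.card α := by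
          rw [← Nat.card_eq_fintype_card]
          apply Nat.card_congr
          refine ⟨fun x => x.1, fun x => ⟨x, by simp [MulAction.mem_fixedBy]⟩, fun x => rfl,
            fun x => rfl⟩
        rw [this]
      · intro g _ hg
        have hg' : (g : Equiv.Perm α) ≠ 1 := by
          intro h
          apply hg
          exact Subtype.ext h
        have hmem := hL (g : Equiv.Perm α) g.2 hg'
        apply Finset.prod_eq_zero hmem
        ring
      · intro h
        exact absurd (Finset.mem_univ _) h
    rw [hsum] at hB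
    have hcast : ((∏ l ∈ L, (Fintype.card α - l) : ℕ) : ℤ)
        = ∏ l ∈ L, (((Fintype.card α : ℕ) : ℤ) - (l : ℤ)) := by
      rw [Nat.cast_prod]
      apply Finset.prod_congr rfl
      intro l hl
      rw [Nat.cast_sub (hbig l hl).le]
    rw [← hcast] at hB
    exact Int.natCast_dvd_natCast.1 hB

end Cfsg.Agent.S0724
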