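import Cfsg.Statements.S0726
import Mathlib

set_option autoImplicit false
open Cfsg

namespace Cfsg.Agent.S0726

/-- The left and right regular permutation representations of a group are each other's centralisers in the symmetric group: the centraliser of the left regular image is the right regular image, and a transitive subgroup centralising the left regular image is the whole right regular image. -/
theorem result {G : Type*} [Group G] : Subgroup.centralizer ((MulAction.toPermHom G G).range : Set (Equiv.Perm G)) = (MulAction.toPermHom Gᵐᵒᵖ G).range ∧ ∀ H : Subgroup (Equiv.Perm G), H ≤ Subgroup.centralizer ((MulAction.toPermHom G G).range : Set (Equiv.Perm G)) → MulAction.IsPretransitive H G → H = (MulAction.toPermHom Gᵐᵒᵖ G).range := by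
  have hL : ∀ g x : G, (MulAction.toPermHom G G g) x = g * x := fun g x => rfl
  have hR : ∀ g x : G, (MulAction.toPermHom Gᵐᵒᵖ G (MulOpposite.op g)) x = x * g := fun g x => rfl
  -- key: elements of the centralizer are right multiplications
  have key : ∀ c ∈ Subgroup.centralizer ((MulAction.toPermHom G G).range : Set (Equiv.Perm G)),
      c = MulAction.toPermHom Gᵐᵒᵖ G (MulOpposite.op (c 1)) := by
    intro c hc
    ext x
    rw [hR]
    have h := Subgroup.mem_centralizer_iff.1 hc (MulAction.toPermHom G G x) ⟨x, rfl⟩
    have := congrArg (fun f : Equiv.Perm G => f 1) h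
    simp only [Equiv.Perm.mul_apply, hL, mul_one] at this
    exact this.symm
  have h1 : Subgroup.centralizer ((MulAction.toPermHom G G).range : Set (Equiv.Perm G)) = (MulAction.toPermHom Gᵐᵒᵖ G).range := by
    apply le_antisymm
    · intro c hc
      exact ⟨MulOpposite.op (c 1), (key c hc).symm⟩
    · rintro _ ⟨g, rfl⟩
      rw [Subgroup.mem_centralizer_iff]
      rintro _ ⟨h, rfl⟩
      ext x
      simp only [Equiv.Perm.mul_apply, hL]
      rw [← MulOpposite.op_unop g, hR, hR, mul_assoc]
  refine ⟨h1, ?_⟩
  intro H hH htr
  apply le_antisymm
  · rw [← h1]; exact hH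
  · rintro _ ⟨g, rfl⟩
    obtain ⟨h, hh⟩ := htr.exists_smul_eq (1 : G) (MulOpposite.unop g)
    have hh' : (h : Equiv.Perm G) 1 = MulOpposite.unop g := hh
    have := key (h : Equiv.Perm G) (hH h.2)
    rw [hh', MulOpposite.op_unop] at this
    rw [← this]
    exact h.2

end Cfsg.Agent.S0726
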