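import Cfsg.Statements.S0727
import Cfsg.Agent.Lib.Helper6.PGLRec

set_option autoImplicit false
open Cfsg Cfsg.Agent.Lib.Helper6

namespace Cfsg.Agent.S0727

/-- A sharply triply transitive permutation group of degree `2^f + 1` is isomorphic to the projective general linear group of degree 2 over the field with `2^f` elements. -/
theorem result {α : Type*} [Fintype α] [DecidableEq α] {f : ℕ} (hf : 1 ≤ f) (hα : Fintype.card α = 2 ^ f + 1) (G : Subgroup (Equiv.Perm α)) (h3 : MulAction.IsMultiplyPretransitive G α 3) (hsharp : ∀ x : Fin 3 ↪ α, MulAction.stabilizer G x = ⊥) : ∃ (F : Type) (_ : Field F) (_ : Fintype F), Fintype.card F = 2 ^ f ∧ Nonempty (G ≃* Matrix.ProjGenLinGroup (Fin 2) F) := by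
  obtain ⟨inf, fld, hcard, ⟨e⟩⟩ := pgl2_of_sharp3_even hf hα G h3 hsharp
  haveI : Fact (Nat.Prime 2) := ⟨Nat.prime_two⟩
  obtain ⟨F, i1, i2, hF, ⟨e'⟩⟩ := pgl2_transport {x : α // x ≠ inf} 2 f (by omega) hcard
  exact ⟨F, i1, i2, hF, ⟨e.trans e'⟩⟩

end Cfsg.Agent.S0727
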