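import Cfsg.Statements.S0733
import Mathlib

set_option autoImplicit false
open Cfsg

namespace Cfsg.Agent.S0733

open scoped Pointwise


/-- A permutation group of affine type — generated by the translations of a finite vector space `V` over `ZMod p` together with a group `G₀` of linear automorphisms — is primitive on `V` if and only if `G₀` is irreducible on `V`. -/
theorem result {p : ℕ} [Fact p.Prime] {V : Type*} [AddCommGroup V] [Module (ZMod p) V] [Finite V] [Nontrivial V] (G₀ : Subgroup (V ≃ₗ[ZMod p] V)) (G : Subgroup (Equiv.Perm V)) (hG : ∀ σ : Equiv.Perm V, σ ∈ G ↔ ∃ g ∈ G₀, ∃ b : V, ∀ x : V, σ x = (g : V ≃ₗ[ZMod p] V) x + b) : MulAction.IsPreprimitive G V ↔ ∀ W : Submodule (ZMod p) V, (∀ g ∈ G₀, ∀ v ∈ W, (g : V ≃ₗ[ZMod p] V) v ∈ W) → W = ⊥ ∨ W = ⊤ := by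
  classical
  -- elements of G
  have hmemG : ∀ (g : V ≃ₗ[ZMod p] V), g ∈ G₀ → ∀ b : V,
      ∃ σ : G, ∀ x : V, σ • x = g x + b := by
    intro g hg b
    have hmem : (g.toEquiv.trans (Equiv.addRight b) : Equiv.Perm V) ∈ G := by
      rw [hG]
      exact ⟨g, hg, b, fun x => rfl⟩
    exact ⟨⟨_, hmem⟩, fun x => rfl⟩
  have hformG : ∀ σ : G, ∃ g ∈ G₀, ∃ b : V, ∀ x : V, σ • x = (g : V ≃ₗ[ZMod p] V) x + b := by
    intro σ
    exact (hG σ.1).1 σ.2
  have hone : ∀ x : V, (1 : V ≃ₗ[ZMod p] V) x = x := fun x => rfl
  constructor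
  · intro hprim W hW
    have hblock : MulAction.IsBlock G (W : Set V) := by
      rw [MulAction.isBlock_iff_smul_eq_of_mem]
      intro σ x hx hσx
      obtain ⟨g, hg, b, hσ⟩ := hformG σ
      have hb : b ∈ W := by
        have h1 : g x + b ∈ W := by rw [← hσ]; exact hσx
        have h2 : g x ∈ W := hW g hg x hx
        have := W.sub_mem h1 h2
        rwa [add_sub_cancel_left] at this
      ext z
      rw [Set.mem_smul_set]
      constructor
      · rintro ⟨w, hw, rfl⟩
        rw [hσ]
        exact W.add_mem (hW g hg w hw) hb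
      · intro hz
        refine ⟨(g⁻¹ : V ≃ₗ[ZMod p] V) (z - b), ?_, ?_⟩
        · exact hW g⁻¹ (G₀.inv_mem hg) _ (W.sub_mem hz hb)
        · rw [hσ]
          have : g ((g⁻¹ : V ≃ₗ[ZMod p] V) (z - b)) = z - b := by
            have h1 : (g * g⁻¹ : V ≃ₗ[ZMod p] V) (z - b) = z - b := by
              rw [mul_inv_cancel]; rfl
            exact h1
          rw [this, sub_add_cancel]
    rcases hprim.isTrivialBlock_of_isBlock hblock with hsub | huniv
    · left
      rw [Submodule.eq_bot_iff]
      intro x hx
      exact hsub hx W.zero_mem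
    · right
      rw [Submodule.eq_top_iff']
      intro x
      have : x ∈ (W : Set V) := by rw [huniv]; exact Set.mem_univ x
      exact this
  · intro hirr
    haveI : MulAction.IsPretransitive G V := by
      constructor
      intro x y
      obtain ⟨σ, hσ⟩ := hmemG 1 G₀.one_mem (y - x)
      refine ⟨σ, ?_⟩
      rw [hσ, hone, add_sub_cancel]
    refine ⟨?_⟩
    intro B hB
    rw [MulAction.isBlock_iff_smul_eq_of_mem] at hB
    by_cases hsub : B.Subsingleton
    · exact Or.inl hsub
    · right
      rw [Set.not_subsingleton_iff] at hsub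
      obtain ⟨b0, hb0, b1, hb1, hb01⟩ := hsub
      -- translation property
      have htrans : ∀ u : V, u + b0 ∈ B → ∀ v : V, v ∈ B → v + u ∈ B := by
        intro u hu v hv
        obtain ⟨σ, hσ⟩ := hmemG 1 G₀.one_mem u
        have hσB : σ • B = B := hB hb0 (by rw [hσ, hone, add_comm]; exact hu)
        rw [← hσB]
        have : v + u = σ • v := by rw [hσ, hone]
        rw [this]
        exact Set.smul_mem_smul_set hv
      have htrans' : ∀ u : V, u + b0 ∈ B → ∀ v : V, v + u ∈ B → v ∈ B := by
        intro u hu v hv
        obtain ⟨σ, hσ⟩ := hmemG 1 G₀.one_mem u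
        have hσB : σ • B = B := hB hb0 (by rw [hσ, hone, add_comm]; exact hu)
        have h1 : σ • v ∈ σ • B := by
          rw [hσB, hσ, hone]
          exact hv
        exact (Set.smul_mem_smul_set_iff).1 h1
      let W0 : AddSubgroup V :=
        { carrier := {v | v + b0 ∈ B}
          zero_mem' := by
            show (0 : V) + b0 ∈ B
            rw [zero_add]; exact hb0
          add_mem' := by
            intro u v hu hv
            show u + v + b0 ∈ B
            have := htrans u hu (v + b0) hv
            rwa [add_comm v b0, add_assoc, add_comm b0, add_comm v u] at this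
          neg_mem' := by
            intro u hu
            show -u + b0 ∈ B
            apply htrans' u hu
            rw [add_comm (-u) b0, add_assoc, neg_add_cancel, add_zero]
            exact hb0 }
      have hW0 : ∀ v : V, v ∈ AddSubgroup.toZModSubmodule p W0 ↔ v + b0 ∈ B := fun v => Iff.rfl
      have hinv : ∀ g ∈ G₀, ∀ v ∈ AddSubgroup.toZModSubmodule p W0,
          (g : V ≃ₗ[ZMod p] V) v ∈ AddSubgroup.toZModSubmodule p W0 := by
        intro g hg v hv
        rw [hW0] at hv ⊢
        obtain ⟨σ, hσ⟩ := hmemG g hg (b0 - g b0)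
        have hσb0 : σ • b0 = b0 := by rw [hσ, add_sub_cancel]
        have hσB : σ • B = B := hB hb0 (by rw [hσb0]; exact hb0)
        have h1 : σ • (v + b0) ∈ σ • B := Set.smul_mem_smul_set hv
        rw [hσB, hσ, map_add] at h1
        have h2 : g v + g b0 + (b0 - g b0) = g v + b0 := by abel
        rwa [h2] at h1
      rcases hirr _ hinv with hbot | htop
      · exfalso
        have h0 : ∀ x ∈ B, x = b0 := by
          intro x hx
          have : x - b0 ∈ AddSubgroup.toZModSubmodule p W0 := by
            rw [hW0, sub_add_cancel]; exact hx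
          rw [hbot, Submodule.mem_bot, sub_eq_zero] at this
          exact this
        exact hb01 (h0 b1 hb1).symm
      · rw [Set.eq_univ_iff_forall]
        intro z
        have : z - b0 ∈ AddSubgroup.toZModSubmodule p W0 := by
          rw [htop]; exact Submodule.mem_top
        rw [hW0, sub_add_cancel] at this
        exact this

end Cfsg.Agent.S0733
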