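import Cfsg.Statements.S0734
import Mathlib

set_option autoImplicit false
open Cfsg

namespace Cfsg.Agent.S0734

open MulAction
open scoped Pointwise

section
variable {G : Type*} [Group G] {Ω : Type*} [MulAction G Ω]

/-- the orbital graph -/
abbrev orbGraph (a b : Ω) : SimpleGraph Ω :=
  SimpleGraph.fromRel fun x y : Ω => ∃ g : G, g • a = x ∧ g • b = y

theorem orbGraph_adj_smul (a b : Ω) (g : G) {x y : Ω} (h : (orbGraph (G := G) a b).Adj x y) :
    (orbGraph (G := G) a b).Adj (g • x) (g • y) := by
  rw [SimpleGraph.fromRel_adj] at h ⊢
  obtain ⟨hne, h | h⟩ := h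
  · refine ⟨fun hh => hne (MulAction.injective g hh), Or.inl ?_⟩
    obtain ⟨k, hk1, hk2⟩ := h
    exact ⟨g * k, by rw [mul_smul, hk1], by rw [mul_smul, hk2]⟩
  · refine ⟨fun hh => hne (MulAction.injective g hh), Or.inr ?_⟩
    obtain ⟨k, hk1, hk2⟩ := h
    exact ⟨g * k, by rw [mul_smul, hk1], by rw [mul_smul, hk2]⟩

theorem orbGraph_reachable_smul (a b : Ω) (g : G) {x y : Ω}
    (h : (orbGraph (G := G) a b).Reachable x y) :
    (orbGraph (G := G) a b).Reachable (g • x) (g • y) := by
  rw [SimpleGraph.reachable_iff_reflTransGen] at h ⊢
  induction h with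
  | refl => exact Relation.ReflTransGen.refl
  | tail _ hadj ih => exact Relation.ReflTransGen.tail ih (orbGraph_adj_smul a b g hadj)

end


/-- Higman's criterion for primitivity: a transitive action on a finite set is primitive if and only if every non-trivial orbital graph (edges = images of a fixed pair of distinct points) is connected. -/
theorem result {G : Type*} [Group G] {Ω : Type*} [Finite Ω] [MulAction G Ω] [MulAction.IsPretransitive G Ω] [Nontrivial Ω] : MulAction.IsPreprimitive G Ω ↔ ∀ a b : Ω, a ≠ b → (SimpleGraph.fromRel fun x y : Ω => ∃ g : G, g • a = x ∧ g • b = y).Connected := by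
  constructor
  · intro hprim a b hab
    have hblock : IsBlock G {x : Ω | (orbGraph (G := G) a b).Reachable a x} := by
      rw [isBlock_iff_smul_eq_of_mem]
      intro g x hx hgx
      have hx' : (orbGraph (G := G) a b).Reachable a x := hx
      have hgx' : (orbGraph (G := G) a b).Reachable a (g • x) := hgx
      have h1 : (orbGraph (G := G) a b).Reachable a (g • a) :=
        hgx'.trans (orbGraph_reachable_smul a b g hx').symm
      ext z
      rw [Set.mem_smul_set_iff_inv_smul_mem]
      constructor
      · intro hz
        have hz' : (orbGraph (G := G) a b).Reachable a (g⁻¹ • z) := hz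
        have := orbGraph_reachable_smul a b g hz'
        rw [smul_inv_smul] at this
        exact h1.trans this
      · intro hz
        have hz' : (orbGraph (G := G) a b).Reachable a z := hz
        have h2 : (orbGraph (G := G) a b).Reachable (g • a) z := h1.symm.trans hz'
        have := orbGraph_reachable_smul a b g⁻¹ h2
        rw [inv_smul_smul] at this
        exact this
    have hadj : (orbGraph (G := G) a b).Adj a b := by
      rw [SimpleGraph.fromRel_adj]
      exact ⟨hab, Or.inl ⟨1, one_smul _ _, one_smul _ _⟩⟩
    rcases hprim.isTrivialBlock_of_isBlock hblock with hsub | huniv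
    · exfalso
      exact hab (hsub (SimpleGraph.Reachable.refl a) hadj.reachable)
    · rw [SimpleGraph.connected_iff]
      refine ⟨?_, ⟨a⟩⟩
      intro x y
      have hx : x ∈ {x : Ω | (orbGraph (G := G) a b).Reachable a x} := by
        rw [huniv]; exact Set.mem_univ x
      have hy : y ∈ {x : Ω | (orbGraph (G := G) a b).Reachable a x} := by
        rw [huniv]; exact Set.mem_univ y
      exact (SimpleGraph.Reachable.symm hx).trans hy
  · intro hconn
    refine ⟨?_⟩
    intro B hB
    rw [isBlock_iff_smul_eq_of_mem] at hB
    by_cases hsub : B.Subsingleton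
    · exact Or.inl hsub
    · right
      rw [Set.not_subsingleton_iff] at hsub
      obtain ⟨a, ha, b, hb, hab⟩ := hsub
      have hadj : ∀ x y : Ω, (orbGraph (G := G) a b).Adj x y → (x ∈ B ↔ y ∈ B) := by
        intro x y h
        rw [SimpleGraph.fromRel_adj] at h
        obtain ⟨-, ⟨g, hg1, hg2⟩ | ⟨g, hg1, hg2⟩⟩ := h
        · constructor
          · intro hx
            have hgB : g • B = B := hB ha (by rw [hg1]; exact hx)
            rw [← hgB, ← hg2]
            exact Set.smul_mem_smul_set hb
          · intro hy
            have hgB : g • B = B := hB hb (by rw [hg2]; exact hy)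
            rw [← hgB, ← hg1]
            exact Set.smul_mem_smul_set ha
        · constructor
          · intro hx
            have hgB : g • B = B := hB hb (by rw [hg2]; exact hx)
            rw [← hgB, ← hg1]
            exact Set.smul_mem_smul_set ha
          · intro hy
            have hgB : g • B = B := hB ha (by rw [hg1]; exact hy)
            rw [← hgB, ← hg2]
            exact Set.smul_mem_smul_set hb
      rw [Set.eq_univ_iff_forall]
      intro z
      have hreach := (hconn a b hab).preconnected a z
      rw [SimpleGraph.reachable_iff_reflTransGen] at hreach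
      induction hreach with
      | refl => exact ha
      | tail _ hadj' ih => exact (hadj _ _ hadj').1 ih

end Cfsg.Agent.S0734
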