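import Cfsg.Statements.S0735
import Mathlib

set_option autoImplicit false
open Cfsg

namespace Cfsg.Agent.S0735

open MulAction
open scoped Pointwise

section
variable {α : Type*} [Fintype α] [DecidableEq α] (G : Subgroup (Equiv.Perm α))

theorem pair_map (h2 : IsPretransitive G (Set.powersetCard α 2)) {x y x' y' : α}
    (hxy : x ≠ y) (hxy' : x' ≠ y') :
    ∃ g : G, (g • x = x' ∧ g • y = y') ∨ (g • x = y' ∧ g • y = x') := by
  obtain ⟨g, hg⟩ := h2.exists_smul_eq (⟨{x, y}, Finset.card_pair hxy⟩ : Set.powersetCard α 2)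
    (⟨{x', y'}, Finset.card_pair hxy'⟩ : Set.powersetCard α 2)
  have hg' : g • ({x, y} : Finset α) = {x', y'} := by
    have := congrArg Subtype.val hg
    exact this
  have hx : g • x ∈ ({x', y'} : Finset α) := by
    rw [← hg']
    exact Finset.smul_mem_smul_finset (by simp)
  have hy : g • y ∈ ({x', y'} : Finset α) := by
    rw [← hg']
    exact Finset.smul_mem_smul_finset (by simp)
  have hne : g • x ≠ g • y := fun h => hxy (MulAction.injective g h)
  rw [Finset.mem_insert, Finset.mem_singleton] at hx hy
  refine ⟨g, ?_⟩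
  rcases hx with hx | hx
  · rcases hy with hy | hy
    · exact absurd (hx.trans hy.symm) hne
    · exact Or.inl ⟨hx, hy⟩
  · rcases hy with hy | hy
    · exact Or.inr ⟨hx, hy⟩
    · exact absurd (hx.trans hy.symm) hne

end


/-- A 2-homogeneous permutation group (transitive on 2-subsets) of even order is doubly transitive; a non-trivial 2-homogeneous group is primitive. -/
theorem result {α : Type*} [Fintype α] [DecidableEq α] (G : Subgroup (Equiv.Perm α)) (h2 : MulAction.IsPretransitive G (Set.powersetCard α 2)) (hα : 3 ≤ Fintype.card α) : (Even (Nat.card G) → MulAction.IsMultiplyPretransitive G α 2) ∧ (G ≠ ⊥ → MulAction.IsPreprimitive G α) := by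
  classical
  have hex3 : ∀ x y : α, ∃ z : α, z ≠ x ∧ z ≠ y := by
    intro x y
    by_contra hcon
    push Not at hcon
    have : (Finset.univ : Finset α) ⊆ {x, y} := by
      intro z _
      rw [Finset.mem_insert, Finset.mem_singleton]
      by_cases hz : z = x
      · exact Or.inl hz
      · exact Or.inr (hcon z hz)
    have h1 := Finset.card_le_card this
    have h2' : ({x, y} : Finset α).card ≤ 2 := Finset.card_le_two
    rw [Finset.card_univ] at h1
    omega
  constructor
  · intro heven
    haveI : Fact (Nat.Prime 2) := ⟨Nat.prime_two⟩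
    obtain ⟨t, ht⟩ := exists_prime_orderOf_dvd_card' (G := ↥G) 2 heven.two_dvd
    have ht1 : t ≠ 1 := by
      intro h
      rw [h, orderOf_one] at ht
      omega
    have ht2 : t * t = 1 := by
      rw [← pow_two, ← ht, pow_orderOf_eq_one]
    have : ∃ c : α, t • c ≠ c := by
      by_contra hcon
      push Not at hcon
      apply ht1
      apply Subtype.ext
      ext z
      exact hcon z
    obtain ⟨c, hc⟩ := this
    have htd : t • (t • c) = c := by rw [← mul_smul, ht2, one_smul]
    have key : ∀ x y : α, x ≠ y → ∃ k : G, k • c = x ∧ k • (t • c) = y := by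
      intro x y hxy
      obtain ⟨g, hg | hg⟩ := pair_map G h2 (Ne.symm hc) hxy
      · exact ⟨g, hg.1, hg.2⟩
      · refine ⟨g * t, ?_, ?_⟩
        · rw [mul_smul, hg.2]
        · rw [mul_smul, htd, hg.1]
    rw [MulAction.is_two_pretransitive_iff]
    intro x y x' y' hxy hxy'
    obtain ⟨k, hk1, hk2⟩ := key x y hxy
    obtain ⟨k', hk1', hk2'⟩ := key x' y' hxy'
    refine ⟨k' * k⁻¹, ?_, ?_⟩
    · rw [mul_smul, ← hk1, inv_smul_smul, hk1']
    · rw [mul_smul, ← hk2, inv_smul_smul, hk2']
  · intro _
    haveI : IsPretransitive G α := by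
      constructor
      intro x y
      by_cases hxy : x = y
      · exact ⟨1, by rw [one_smul, hxy]⟩
      · obtain ⟨z, hzx, hzy⟩ := hex3 x y
        obtain ⟨g, hg | hg⟩ := pair_map G h2 (Ne.symm hzx) (Ne.symm hzy)
        · exact ⟨g, hg.1⟩
        · refine ⟨g * g, ?_⟩
          rw [mul_smul, hg.1, hg.2]
    refine ⟨?_⟩
    intro B hB
    rw [MulAction.isBlock_iff_smul_eq_of_mem] at hB
    by_cases hsub : B.Subsingleton
    · exact Or.inl hsub
    · right
      rw [Set.not_subsingleton_iff] at hsub
      obtain ⟨x, hx, y, hy, hxy⟩ := hsub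
      rw [Set.eq_univ_iff_forall]
      intro z
      by_cases hzx : z = x
      · rw [hzx]; exact hx
      · obtain ⟨g, hg | hg⟩ := pair_map G h2 hxy (Ne.symm hzx)
        · have hgB : g • B = B := hB hx (by rw [hg.1]; exact hx)
          rw [← hgB, ← hg.2]
          exact Set.smul_mem_smul_set hy
        · have hgB : g • B = B := hB hy (by rw [hg.2]; exact hx)
          rw [← hgB, ← hg.1]
          exact Set.smul_mem_smul_set hx

end Cfsg.Agent.S0735
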