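import Cfsg.Statements.S0738
import Mathlib
import Cfsg.Agent.Lib.Helper6.ZassFrob2

set_option autoImplicit false
open Cfsg Cfsg.Agent.Lib.Helper6 Cfsg.Agent.Lib.Helper1 MulAction

namespace Cfsg.Agent.S0738

theorem main0738 {G Ω : Type*} [Group G] [Finite G] [MulAction G Ω] [Fintype Ω] (hZ : Cfsg.IsZassenhausGroup G Ω) {a b : Ω} (hab : a ≠ b) (hd : Fintype.card Ω - 2 ≤ 2 * Nat.card ↥(MulAction.stabilizer G a ⊓ MulAction.stabilizer G b)) (F : Subgroup G) (hFle : F ≤ MulAction.stabilizer G a) (hFn : (F.subgroupOf (MulAction.stabilizer G a)).Normal) (hreg : ∀ y z : Ω, y ≠ a → z ≠ a → ∃! u : F, (u : G) • y = z) : IsMulCommutative F ∧ ∃ p f : ℕ, p.Prime ∧ (∀ u ∈ F, u ^ p = 1) ∧ Fintype.card Ω = p ^ f + 1 := by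
  classical
  obtain ⟨K, hK⟩ := exists_zkernel hZ a
  have hba : b ≠ a := Ne.symm hab
  -- `F` is free
  have hFfree : ∀ u ∈ F, ∀ c : Ω, c ≠ a → u • c = c → u = 1 := by
    intro u hu c hca huc
    obtain ⟨v, -, hv⟩ := hreg c c hca hca
    have h1 := hv ⟨u, hu⟩ huc
    have h2 := hv 1 (one_smul _ _)
    have : (⟨u, hu⟩ : F) = 1 := h1.trans h2.symm
    exact congrArg Subtype.val this
  -- `F = K`
  have hFK : F = K := by
    apply le_antisymm
    · intro u hu
      by_cases hu1 : u = 1
      · rw [hu1]; exact K.one_mem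
      apply hK.mem u (hFle hu)
      intro c hca huc
      exact hu1 (hFfree u hu c hca huc)
    · intro k hk
      have hkb : k • b ≠ a := by
        intro h
        have hka : k • a = a := hK.le hk
        have : k • b = k • a := h.trans hka.symm
        exact hba (MulAction.injective _ this)
      obtain ⟨u, hu, -⟩ := hreg b (k • b) hba hkb
      have huK : (u : G) ∈ K := by
        by_cases hu1 : (u : G) = 1
        · rw [hu1]; exact K.one_mem
        apply hK.mem u (hFle u.2)
        intro c hca huc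
        exact hu1 (hFfree u u.2 c hca huc)
      have h1 : ((u : G)⁻¹ * k) • b = b := by
        rw [mul_smul, inv_smul_eq_iff, hu]
      have h2 := hK.free _ (K.mul_mem (K.inv_mem huK) hk) b hba h1
      have : k = (u : G) := by
        calc k = (u : G) * ((u : G)⁻¹ * k) := by group
          _ = (u : G) := by rw [h2, mul_one]
      rw [this]; exact u.2
  haveI hnil : Group.IsNilpotent F := by rw [hFK]; exact hK.nilp
  -- cardinality of `F`
  have hcardF : Nat.card F + 1 = Fintype.card Ω := by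
    have e : F ≃ {c : Ω // c ≠ a} := by
      refine Equiv.ofBijective (fun u => ⟨(u : G) • b, ?_⟩) ⟨?_, ?_⟩
      · intro h
        have hua : (u : G) • a = a := hFle u.2
        have : (u : G) • b = (u : G) • a := h.trans hua.symm
        exact hba (MulAction.injective _ this)
      · intro u v huv
        have h1 : (u : G) • b = (v : G) • b := congrArg Subtype.val huv
        have hvb : (v : G) • b ≠ a := by
          intro h
          have hva : (v : G) • a = a := hFle v.2
          have : (v : G) • b = (v : G) • a := h.trans hva.symm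
          exact hba (MulAction.injective _ this)
        obtain ⟨w, -, hw⟩ := hreg b ((v : G) • b) hba hvb
        exact (hw u h1).trans (hw v rfl).symm
      · rintro ⟨c, hc⟩
        obtain ⟨u, hu, -⟩ := hreg b c hba hc
        exact ⟨u, Subtype.ext hu⟩
    rw [Nat.card_congr e, Nat.card_eq_fintype_card, Fintype.card_subtype_compl,
      Fintype.card_subtype_eq]
    have : 0 < Fintype.card Ω := Fintype.card_pos_iff.mpr ⟨a⟩
    omega
  have h3 := zass_card_ge_three hZ
  haveI : Nontrivial F := by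
    rw [← Finite.one_lt_card_iff_nontrivial]
    omega
  -- a central element of prime order
  have hcne := Group.IsNilpotent.center_ne_bot (G := F)
  have hccard : Nat.card (Subgroup.center F) ≠ 1 := fun h => hcne (Subgroup.card_eq_one.1 h)
  obtain ⟨p, hp, hpd⟩ := Nat.exists_prime_and_dvd hccard
  haveI : Fact p.Prime := ⟨hp⟩
  obtain ⟨z', hz'⟩ := exists_prime_orderOf_dvd_card' (G := Subgroup.center F) p hpd
  obtain ⟨z, hzF, hzc, rfl⟩ : ∃ z : G, ∃ h : z ∈ F, ∃ h' : (⟨z, h⟩ : F) ∈ Subgroup.center F,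
      z' = ⟨⟨z, h⟩, h'⟩ := ⟨z'.1.1, z'.1.2, z'.2, rfl⟩
  have hz : orderOf z = p := by
    rw [← hz', Subgroup.orderOf_mk, Subgroup.orderOf_mk]
  have hz1 : z ≠ 1 := by
    intro h
    rw [h, orderOf_one] at hz
    exact hp.one_lt.ne hz
  have hzcomm : ∀ v ∈ F, v * z = z * v := by
    intro v hv
    have := (Subgroup.mem_center_iff.1 hzc) ⟨v, hv⟩
    exact congrArg Subtype.val this
  have hzp : z ^ p = 1 := by rw [← hz, pow_orderOf_eq_one]
  -- the subgroup `E`
  let E : Subgroup G :=
    { carrier := {u | u ∈ F ∧ (∀ v ∈ F, v * u = u * v) ∧ u ^ p = 1}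
      one_mem' := ⟨F.one_mem, fun v _ => by rw [mul_one, one_mul], one_pow _⟩
      mul_mem' := by
        rintro x y ⟨hx, hxc, hxp⟩ ⟨hy, hyc, hyp⟩
        refine ⟨F.mul_mem hx hy, fun v hv => ?_, ?_⟩
        · calc v * (x * y) = (v * x) * y := by group
            _ = (x * v) * y := by rw [hxc v hv]
            _ = x * (v * y) := by group
            _ = x * (y * v) := by rw [hyc v hv]
            _ = x * y * v := by group
        · have hxy : Commute x y := (hyc x hx)
          rw [hxy.mul_pow, hxp, hyp, one_mul]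
      inv_mem' := by
        rintro x ⟨hx, hxc, hxp⟩
        refine ⟨F.inv_mem hx, fun v hv => ?_, by rw [inv_pow, hxp, inv_one]⟩
        have := hxc v hv
        calc v * x⁻¹ = x⁻¹ * (x * v) * x⁻¹ := by group
          _ = x⁻¹ * (v * x) * x⁻¹ := by rw [this]
          _ = x⁻¹ * v := by group }
  have hEmem : ∀ u, u ∈ E ↔ u ∈ F ∧ (∀ v ∈ F, v * u = u * v) ∧ u ^ p = 1 := fun u => Iff.rfl
  have hEF : E ≤ F := fun u hu => hu.1
  have hzE : z ∈ E := ⟨hzF, hzcomm, hzp⟩
  -- conjugation by the point stabilizer preserves `F`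
  have hFconj : ∀ g ∈ stabilizer G a, ∀ u ∈ F, g * u * g⁻¹ ∈ F := by
    intro g hg u hu
    have := hFn.conj_mem ⟨u, hFle hu⟩ (Subgroup.mem_subgroupOf.2 hu) ⟨g, hg⟩
    exact Subgroup.mem_subgroupOf.1 this
  have hEconj : ∀ g ∈ stabilizer G a, ∀ u ∈ E, g * u * g⁻¹ ∈ E := by
    rintro g hg u ⟨hu, huc, hup⟩
    refine ⟨hFconj g hg u hu, fun v hv => ?_, by rw [conj_pow, hup]; group⟩
    have hv' : g⁻¹ * v * g⁻¹⁻¹ ∈ F := hFconj g⁻¹ (Subgroup.inv_mem _ hg) v hv
    have := huc _ hv'
    calc v * (g * u * g⁻¹) = g * ((g⁻¹ * v * g⁻¹⁻¹) * u) * g⁻¹ := by group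
      _ = g * (u * (g⁻¹ * v * g⁻¹⁻¹)) * g⁻¹ := by rw [this]
      _ = g * u * g⁻¹ * v := by group
  -- the orbit map
  have hinj : Function.Injective (fun δ : ↥(stabilizer G a ⊓ stabilizer G b) =>
      (⟨⟨(δ : G) * z * (δ : G)⁻¹, hEconj δ (Subgroup.mem_inf.1 δ.2).1 z hzE⟩, by
        intro h
        apply hz1
        have h' : (δ : G) * z * (δ : G)⁻¹ = 1 := congrArg Subtype.val h
        calc z = (δ : G)⁻¹ * ((δ : G) * z * (δ : G)⁻¹) * (δ : G) := by group
          _ = 1 := by rw [h']; group⟩ : {u : E // u ≠ 1})) := by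
    intro δ ε hδε
    have h1 : (δ : G) * z * (δ : G)⁻¹ = (ε : G) * z * (ε : G)⁻¹ := by
      have := congrArg (fun x : {u : E // u ≠ 1} => ((x : E) : G)) hδε
      exact this
    obtain ⟨hδa, hδb⟩ := Subgroup.mem_inf.1 δ.2
    obtain ⟨hεa, hεb⟩ := Subgroup.mem_inf.1 ε.2
    have hγa : ((ε : G)⁻¹ * (δ : G)) • a = a := by
      rw [mul_smul, inv_smul_eq_iff]
      exact (show (δ : G) • a = a from hδa).trans (show (ε : G) • a = a from hεa).symm
    have hγb : ((ε : G)⁻¹ * (δ : G)) • b = b := by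
      rw [mul_smul, inv_smul_eq_iff]
      exact (show (δ : G) • b = b from hδb).trans (show (ε : G) • b = b from hεb).symm
    have hγz : ((ε : G)⁻¹ * (δ : G)) * z = z * ((ε : G)⁻¹ * (δ : G)) := by
      calc ((ε : G)⁻¹ * (δ : G)) * z = (ε : G)⁻¹ * ((δ : G) * z * (δ : G)⁻¹) * (δ : G) := by group
        _ = (ε : G)⁻¹ * ((ε : G) * z * (ε : G)⁻¹) * (δ : G) := by rw [h1]
        _ = z * ((ε : G)⁻¹ * (δ : G)) := by group
    have hzb : z • b ≠ b := fun h => hz1 (hFfree z hzF b hba h)
    have hzba : z • b ≠ a := by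
      intro h
      have hza : z • a = a := hFle hzF
      have : z • b = z • a := h.trans hza.symm
      exact hba (MulAction.injective _ this)
    have hγzb : ((ε : G)⁻¹ * (δ : G)) • (z • b) = z • b := by
      rw [← mul_smul, hγz, mul_smul, hγb]
    have := hZ.2.2.1 _ a b (z • b) hab (Ne.symm hzb) (Ne.symm hzba) hγa hγb hγzb
    apply Subtype.ext
    calc (δ : G) = (ε : G) * ((ε : G)⁻¹ * (δ : G)) := by group
      _ = (ε : G) := by rw [this, mul_one]
  have hdE : Nat.card ↥(stabilizer G a ⊓ stabilizer G b) + 1 ≤ Nat.card E := by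
    have h1 := Nat.card_le_card_of_injective _ hinj
    have h2 : Nat.card {u : E // u ≠ 1} + 1 = Nat.card E := by
      haveI : Fintype E := Fintype.ofFinite E
      rw [Nat.card_eq_fintype_card, Nat.card_eq_fintype_card, Fintype.card_subtype_compl,
        Fintype.card_subtype_eq]
      have : 0 < Fintype.card E := Fintype.card_pos
      omega
    omega
  have hdvd : Nat.card E ∣ Nat.card F := Subgroup.card_dvd_of_le hEF
  have hEeq : Nat.card E = Nat.card F := by
    obtain ⟨m, hm⟩ := hdvd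
    have hFpos : 0 < Nat.card F := Nat.card_pos
    rcases m with _ | _ | m
    · rw [hm] at hFpos; simp at hFpos
    · rw [hm]; ring
    · exfalso
      have : Nat.card F ≥ 2 * Nat.card E := by
        rw [hm]
        nlinarith
      omega
  have hE_F : E = F := by
    apply Subgroup.eq_of_le_of_card_ge hEF
    rw [hEeq]
  refine ⟨⟨⟨fun x y => ?_⟩⟩, p, ?_⟩
  · apply Subtype.ext
    have hx : (x : G) ∈ E := by rw [hE_F]; exact x.2
    exact (hx.2.1 y y.2).symm
  · have hpg : IsPGroup p F := by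
      intro u
      refine ⟨1, ?_⟩
      apply Subtype.ext
      have hu : (u : G) ∈ E := by rw [hE_F]; exact u.2
      rw [pow_one]
      exact hu.2.2
    obtain ⟨f, hf⟩ := hpg.exists_card_eq
    refine ⟨f, hp, fun u hu => ?_, ?_⟩
    · have hu' : u ∈ E := by rw [hE_F]; exact hu
      exact hu'.2.2
    · rw [← hcardF, hf]


/-- Let a finite Zassenhaus group of degree `n + 1` have two-point stabilisers of order `d` with `2d ≥ n - 1`. Then a normal subgroup of a point stabiliser acting regularly on the remaining points is elementary abelian, and the degree is a prime power plus one. -/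
theorem result {G Ω : Type*} [Group G] [Finite G] [MulAction G Ω] [Fintype Ω] (hZ : Cfsg.IsZassenhausGroup G Ω) {a b : Ω} (hab : a ≠ b) (hd : Fintype.card Ω - 2 ≤ 2 * Nat.card ↥(MulAction.stabilizer G a ⊓ MulAction.stabilizer G b)) (F : Subgroup G) (hFle : F ≤ MulAction.stabilizer G a) (hFn : (F.subgroupOf (MulAction.stabilizer G a)).Normal) (hreg : ∀ y z : Ω, y ≠ a → z ≠ a → ∃! u : F, (u : G) • y = z) : IsMulCommutative F ∧ ∃ p f : ℕ, p.Prime ∧ (∀ u ∈ F, u ^ p = 1) ∧ Fintype.card Ω = p ^ f + 1 := by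
  exact main0738 hZ hab hd F hFle hFn hreg

end Cfsg.Agent.S0738
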