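import Cfsg.Statements.S0741
import Mathlib
import Cfsg.Agent.Lib.Helper6.ZassFrob2

set_option autoImplicit false
open Cfsg Cfsg.Agent.Lib.Helper6 Cfsg.Agent.Lib.Helper1 MulAction

namespace Cfsg.Agent.S0741

theorem main0741 {G Ω : Type*} [Group G] [Finite G] [MulAction G Ω] [Fintype Ω] (hZ : Cfsg.IsZassenhausGroup G Ω) {a b : Ω} (hab : a ≠ b) (heven : Even (Nat.card ↥(MulAction.stabilizer G a ⊓ MulAction.stabilizer G b))) : Fintype.card Ω - 2 ≤ 2 * Nat.card ↥(MulAction.stabilizer G a ⊓ MulAction.stabilizer G b) := by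
  classical
  haveI : Fact (Nat.Prime 2) := ⟨Nat.prime_two⟩
  -- an involution in the two point stabilizer
  obtain ⟨z', hz'⟩ := exists_prime_orderOf_dvd_card' (G := ↥(stabilizer G a ⊓ stabilizer G b)) 2
    (even_iff_two_dvd.1 heven)
  obtain ⟨z, hzD, rfl⟩ : ∃ z : G, ∃ h : z ∈ stabilizer G a ⊓ stabilizer G b, z' = ⟨z, h⟩ :=
    ⟨z'.1, z'.2, rfl⟩
  have hz : orderOf z = 2 := by rw [← hz', Subgroup.orderOf_mk]
  obtain ⟨hza, hzb⟩ := Subgroup.mem_inf.1 hzD
  replace hza : z • a = a := hza
  replace hzb : z • b = b := hzb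
  have hz1 : z ≠ 1 := by
    intro h
    rw [h, orderOf_one] at hz
    norm_num at hz
  have hzz : z * z = 1 := by rw [← pow_two, ← hz, pow_orderOf_eq_one]
  have hzfix : ∀ x : Ω, z • x = x → x = a ∨ x = b := fun x hx =>
    zass_fixed_of_two hZ hz1 hza hzb hx hab
  -- the involutions `w c`
  have hw : ∀ c : Ω, ∃ w : G, c ≠ a → c ≠ b →
      (orderOf w = 2 ∧ w • c = c ∧ w • (z • c) = z • c ∧ w • a = b ∧ w • b = a) := by
    intro c
    by_cases hca : c = a
    · exact ⟨1, fun h => absurd hca h⟩
    by_cases hcb : c = b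
    · exact ⟨1, fun _ h => absurd hcb h⟩
    have hzc : c ≠ z • c := by
      intro h
      rcases hzfix c h.symm with h' | h'
      · exact hca h'
      · exact hcb h'
    obtain ⟨g, hga, hgb⟩ := zass_exists_map hZ hab hzc
    have hga' : g⁻¹ • c = a := by rw [← hga, inv_smul_smul]
    have hgb' : g⁻¹ • (z • c) = b := by rw [← hgb, inv_smul_smul]
    have hw2 : orderOf (g * z * g⁻¹) = 2 := by
      have := (MulAut.conj g).orderOf_eq z
      rw [MulAut.conj_apply] at this
      rw [this, hz]
    have hwc : (g * z * g⁻¹) • c = c := by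
      rw [mul_smul, mul_smul, hga', hza, hga]
    have hwzc : (g * z * g⁻¹) • (z • c) = z • c := by
      rw [mul_smul, mul_smul, hgb', hzb, hgb]
    have hw1 : g * z * g⁻¹ ≠ 1 := by
      intro h
      rw [h, orderOf_one] at hw2
      norm_num at hw2
    -- `z` commutes with `w`
    have hcomm : z * (g * z * g⁻¹) * z⁻¹ = g * z * g⁻¹ := by
      have hzinv : z⁻¹ = z := inv_eq_of_mul_eq_one_right hzz
      have hzzc : z • (z • c) = c := by rw [← mul_smul, hzz, one_smul]
      have h2 : orderOf (z * (g * z * g⁻¹) * z⁻¹) = 2 := by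
        have := (MulAut.conj z).orderOf_eq (g * z * g⁻¹)
        rw [MulAut.conj_apply] at this
        rw [this, hw2]
      refine ZKernel.inv_unique hZ hzc h2 ?_ ?_ hw2 hwc hwzc
      · rw [hzinv, mul_smul, mul_smul, hwzc, hzzc]
      · rw [hzinv, mul_smul, mul_smul, hzzc, hwc]
    have hcomm' : z * (g * z * g⁻¹) = (g * z * g⁻¹) * z := by
      calc z * (g * z * g⁻¹) = (z * (g * z * g⁻¹) * z⁻¹) * z := by group
        _ = (g * z * g⁻¹) * z := by rw [hcomm]
    have hwfix : ∀ x : Ω, (g * z * g⁻¹) • x = x → x = c ∨ x = z • c := fun x hx =>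
      zass_fixed_of_two hZ hw1 hwc hwzc hx hzc
    have hwperm : ∀ x : Ω, z • x = x → z • ((g * z * g⁻¹) • x) = (g * z * g⁻¹) • x := by
      intro x hx
      rw [← mul_smul, hcomm', mul_smul, hx]
    have hac : a ≠ c := fun h => hca h.symm
    have hazc : a ≠ z • c := by
      intro h
      have : z • a = z • c := hza.trans h
      exact hac (MulAction.injective _ this)
    have hbc : b ≠ c := fun h => hcb h.symm
    have hbzc : b ≠ z • c := by
      intro h
      have : z • b = z • c := hzb.trans h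
      exact hbc (MulAction.injective _ this)
    have hwa : (g * z * g⁻¹) • a = b := by
      rcases hzfix _ (hwperm a hza) with h | h
      · rcases hwfix a h with h' | h'
        · exact absurd h' hac
        · exact absurd h' hazc
      · exact h
    have hwb : (g * z * g⁻¹) • b = a := by
      rcases hzfix _ (hwperm b hzb) with h | h
      · exact h
      · rcases hwfix b h with h' | h'
        · exact absurd h' hbc
        · exact absurd h' hbzc
    exact ⟨g * z * g⁻¹, fun _ _ => ⟨hw2, hwc, hwzc, hwa, hwb⟩⟩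
  choose w hw using hw
  obtain ⟨c₀, hc₀a, hc₀b⟩ := zass_exists_third hZ a b
  obtain ⟨-, -, -, hi₀a, hi₀b⟩ := hw c₀ hc₀a hc₀b
  -- counting
  let s : Finset Ω := Finset.univ \ {a, b}
  have hs : ∀ c, c ∈ s ↔ c ≠ a ∧ c ≠ b := by
    intro c
    simp [s]
  let f : Ω → G := fun c => (w c₀)⁻¹ * w c
  haveI : Fintype G := Fintype.ofFinite G
  have himg : s.image f ⊆ ((stabilizer G a ⊓ stabilizer G b : Subgroup G) : Set G).toFinset := by
    intro x hx
    rw [Finset.mem_image] at hx
    obtain ⟨c, hc, rfl⟩ := hx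
    obtain ⟨hca, hcb⟩ := (hs c).1 hc
    obtain ⟨-, -, -, hwa, hwb⟩ := hw c hca hcb
    rw [Set.mem_toFinset, SetLike.mem_coe, Subgroup.mem_inf]
    constructor
    · show ((w c₀)⁻¹ * w c) • a = a
      rw [mul_smul, hwa, inv_smul_eq_iff, hi₀a]
    · show ((w c₀)⁻¹ * w c) • b = b
      rw [mul_smul, hwb, inv_smul_eq_iff, hi₀b]
  have hfib : ∀ y ∈ s.image f, (s.filter fun x => f x = y).card ≤ 2 := by
    intro y hy
    rw [Finset.mem_image] at hy
    obtain ⟨c, hc, rfl⟩ := hy
    obtain ⟨hca, hcb⟩ := (hs c).1 hc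
    obtain ⟨hw2, hwc, hwzc, -, -⟩ := hw c hca hcb
    have hw1 : w c ≠ 1 := by
      intro h
      rw [h, orderOf_one] at hw2
      norm_num at hw2
    have hzc : c ≠ z • c := by
      intro h
      rcases hzfix c h.symm with h' | h'
      · exact hca h'
      · exact hcb h'
    have hsub : (s.filter fun x => f x = f c) ⊆ {c, z • c} := by
      intro x hx
      rw [Finset.mem_filter] at hx
      obtain ⟨hxs, hfx⟩ := hx
      obtain ⟨hxa, hxb⟩ := (hs x).1 hxs
      obtain ⟨-, hwx, -, -, -⟩ := hw x hxa hxb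
      have : w x = w c := mul_left_cancel hfx
      rw [this] at hwx
      rw [Finset.mem_insert, Finset.mem_singleton]
      exact zass_fixed_of_two hZ hw1 hwc hwzc hwx hzc
    exact (Finset.card_le_card hsub).trans Finset.card_le_two
  have h1 := Finset.card_le_mul_card_image s 2 hfib
  have h2 : (s.image f).card ≤ Nat.card ↥(stabilizer G a ⊓ stabilizer G b) := by
    refine (Finset.card_le_card himg).trans ?_
    rw [Set.toFinset_card, Nat.card_eq_fintype_card]
    exact le_of_eq rfl
  have h3 : s.card = Fintype.card Ω - 2 := by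
    show (Finset.univ \ {a, b}).card = _
    rw [Finset.card_sdiff_of_subset (Finset.subset_univ _), Finset.card_univ, Finset.card_pair hab]
  rw [← h3]
  exact h1.trans (Nat.mul_le_mul_left 2 h2)


/-- If the two-point stabilisers of a finite Zassenhaus group of degree `n + 1` have even order `d`, then `2d ≥ n - 1`. -/
theorem result {G Ω : Type*} [Group G] [Finite G] [MulAction G Ω] [Fintype Ω] (hZ : Cfsg.IsZassenhausGroup G Ω) {a b : Ω} (hab : a ≠ b) (heven : Even (Nat.card ↥(MulAction.stabilizer G a ⊓ MulAction.stabilizer G b))) : Fintype.card Ω - 2 ≤ 2 * Nat.card ↥(MulAction.stabilizer G a ⊓ MulAction.stabilizer G b) := by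
  exact main0741 hZ hab heven

end Cfsg.Agent.S0741
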