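import Cfsg.Statements.S0749
import Mathlib
-- import your own Cfsg.Agent.* helpers here

set_option autoImplicit false
open Cfsg

namespace Cfsg.Agent.S0749

section
variable {F V : Type*} [Field F] [AddCommGroup V] [Module F V] [FiniteDimensional F V]

/-- A partial injective isometry. -/
def PIso (B : LinearMap.BilinForm F V) (f : V →ₗ.[F] V) : Prop :=
  (∀ x x' : f.domain, B (f x) (f x') = B (x : V) (x' : V)) ∧ Function.Injective f.toFun

theorem step (B : LinearMap.BilinForm F V) (hB : B.Nondegenerate) (hA : B.IsAlt)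
    (f : V →ₗ.[F] V) (hf : PIso B f) (x₀ : V) (hx₀ : x₀ ∉ f.domain) :
    ∃ y₀ : V, y₀ ∉ LinearMap.range f.toFun ∧ ∀ x : f.domain, B y₀ (f x) = B x₀ (x : V) := by
  have hker : LinearMap.ker f.toFun = ⊥ := LinearMap.ker_eq_bot.2 hf.2
  obtain ⟨r, hr⟩ := LinearMap.exists_leftInverse_of_injective f.toFun hker
  have hr' : ∀ x : f.domain, r (f x) = x := fun x => by
    have := LinearMap.congr_fun hr x
    simpa using this
  obtain ⟨μ, hμ⟩ : ∃ μ : Module.Dual F V, μ = (B x₀) ∘ₗ f.domain.subtype ∘ₗ r := ⟨_, rfl⟩
  have hμ' : ∀ x : f.domain, μ (f x) = B x₀ (x : V) := by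
    intro x
    rw [hμ]
    simp only [LinearMap.coe_comp, Function.comp_apply, Submodule.coe_subtype, hr']
  obtain ⟨y₁, hy₁⟩ : ∃ y₁ : V, y₁ = (B.toDual hB).symm μ := ⟨_, rfl⟩
  have hy₁' : ∀ v, B y₁ v = μ v := by
    intro v; rw [hy₁]; exact LinearMap.BilinForm.apply_toDual_symm_apply μ v
  by_cases hy : y₁ ∈ LinearMap.range f.toFun
  · -- need z in the orthogonal of the range, outside the range
    by_cases hz : ∃ z ∈ B.orthogonal (LinearMap.range f.toFun), z ∉ LinearMap.range f.toFun
    · obtain ⟨z, hz1, hz2⟩ := hz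
      refine ⟨y₁ + z, ?_, ?_⟩
      · intro h
        apply hz2
        have := (LinearMap.range f.toFun).sub_mem h hy
        simpa using this
      · intro x
        have h0 : B z (f x) = 0 := by
          have := LinearMap.BilinForm.mem_orthogonal_iff.1 hz1 (f x) ⟨x, rfl⟩
          rw [← hA.neg_eq, this, neg_zero]
        rw [map_add, LinearMap.add_apply, h0, add_zero, hy₁', hμ']
    · exfalso
      have hle : B.orthogonal (LinearMap.range f.toFun) ≤ LinearMap.range f.toFun := by
        intro z hz1
        by_contra hz2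
        exact hz ⟨z, hz1, hz2⟩
      obtain ⟨x₁, hx₁⟩ := hy
      have hx₁' : f x₁ = y₁ := hx₁
      -- w = x₀ - x₁ is orthogonal to the domain
      have hw : x₀ - (x₁ : V) ∈ B.orthogonal f.domain := by
        rw [LinearMap.BilinForm.mem_orthogonal_iff]
        intro n hn
        have h1 : B (x₀ - (x₁ : V)) n = 0 := by
          rw [map_sub, LinearMap.sub_apply]
          have e1 := hμ' ⟨n, hn⟩
          have e2 := hy₁' (f ⟨n, hn⟩)
          have e3 := hf.1 x₁ ⟨n, hn⟩
          rw [hx₁'] at e3
          simp only at e1 e3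
          rw [← e1, ← e2, e3, sub_self]
        rw [← hA.neg_eq, h1, neg_zero]
      -- dimension argument
      obtain ⟨R, hR⟩ : ∃ R : Submodule F f.domain,
          R = (B.orthogonal f.domain).comap f.domain.subtype := ⟨_, rfl⟩
      have hle2 : B.orthogonal (LinearMap.range f.toFun) ≤ R.map f.toFun := by
        intro z hz1
        obtain ⟨x, hx⟩ := hle hz1
        refine ⟨x, ?_, hx⟩
        rw [hR]
        change (x : V) ∈ B.orthogonal f.domain
        rw [LinearMap.BilinForm.mem_orthogonal_iff]
        intro n hn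
        have e3 := hf.1 ⟨n, hn⟩ x
        simp only at e3
        rw [← e3]
        have hx' : f x = z := hx
        rw [hx']
        exact LinearMap.BilinForm.mem_orthogonal_iff.1 hz1 (f ⟨n, hn⟩) ⟨⟨n, hn⟩, rfl⟩
      have hd1 : Module.finrank F (B.orthogonal (LinearMap.range f.toFun)) ≤
          Module.finrank F R :=
        (Submodule.finrank_mono hle2).trans (Submodule.finrank_map_le _ _)
      have hd2 : Module.finrank F (LinearMap.range f.toFun) = Module.finrank F f.domain :=
        LinearMap.finrank_range_of_inj hf.2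
      have hd3 : Module.finrank F (B.orthogonal (LinearMap.range f.toFun)) =
          Module.finrank F (B.orthogonal f.domain) := by
        rw [LinearMap.BilinForm.finrank_orthogonal hB, LinearMap.BilinForm.finrank_orthogonal hB,
          hd2]
      have hd4 : Module.finrank F (R.map f.domain.subtype) = Module.finrank F R :=
        Submodule.finrank_map_subtype_eq _ _
      have hle3 : R.map f.domain.subtype ≤ B.orthogonal f.domain := by
        rintro _ ⟨x, hx, rfl⟩
        rw [hR] at hx
        exact hx
      have heq : R.map f.domain.subtype = B.orthogonal f.domain :=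
        Submodule.eq_of_le_of_finrank_le hle3 (by rw [hd4, ← hd3]; exact hd1)
      have hw' : x₀ - (x₁ : V) ∈ f.domain := by
        rw [← heq] at hw
        exact Submodule.map_subtype_le _ _ hw
      apply hx₀
      have := f.domain.add_mem hw' x₁.2
      simpa using this
  · exact ⟨y₁, hy, fun x => by rw [hy₁', hμ']⟩

theorem extend (B : LinearMap.BilinForm F V) (hB : B.Nondegenerate) (hA : B.IsAlt) :
    ∀ (n : ℕ) (f : V →ₗ.[F] V), PIso B f →
      Module.finrank F V - Module.finrank F f.domain = n →
      ∃ g : V →ₗ[F] V, (∀ u v, B (g u) (g v) = B u v) ∧ ∀ x : f.domain, g (x : V) = f x := by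
  intro n
  induction n using Nat.strong_induction_on with
  | _ n ih =>
    intro f hf hn
    by_cases htop : f.domain = ⊤
    · refine ⟨f.toFun.comp (LinearEquiv.ofTop f.domain htop).symm.toLinearMap, ?_, ?_⟩
      · intro u v
        simp only [LinearMap.coe_comp, LinearEquiv.coe_coe, Function.comp_apply]
        have := hf.1 ((LinearEquiv.ofTop f.domain htop).symm u)
          ((LinearEquiv.ofTop f.domain htop).symm v)
        simpa using this
      · intro x
        simp only [LinearMap.coe_comp, LinearEquiv.coe_coe, Function.comp_apply]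
        congr 1
    · obtain ⟨x₀, hx₀⟩ : ∃ x₀ : V, x₀ ∉ f.domain := by
        by_contra h
        push Not at h
        exact htop (Submodule.eq_top_iff'.2 h)
      obtain ⟨y₀, hy₀, hy₀'⟩ := step B hB hA f hf x₀ hx₀
      obtain ⟨f', hf'⟩ : ∃ f' : V →ₗ.[F] V, f' = f.supSpanSingleton x₀ y₀ hx₀ := ⟨_, rfl⟩
      have hdom : f'.domain = f.domain ⊔ F ∙ x₀ := by
        rw [hf']; exact LinearPMap.domain_supSpanSingleton f x₀ y₀ hx₀
      have key : ∀ z : f'.domain, ∃ (x' : V) (hx' : x' ∈ f.domain) (c : F),
          (z : V) = x' + c • x₀ ∧ f' z = f ⟨x', hx'⟩ + c • y₀ := by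
        rintro ⟨z, hz⟩
        have hz' := hz
        rw [hdom] at hz'
        obtain ⟨x', hx', w, hw, rfl⟩ := Submodule.mem_sup.1 hz'
        obtain ⟨c, rfl⟩ := Submodule.mem_span_singleton.1 hw
        refine ⟨x', hx', c, rfl, ?_⟩
        subst hf'
        exact LinearPMap.supSpanSingleton_apply_mk f x₀ y₀ hx₀ x' hx' c
      have key0 : ∀ (x' : V) (hx' : x' ∈ f.domain) (h : x' ∈ f'.domain),
          f' ⟨x', h⟩ = f ⟨x', hx'⟩ := by
        intro x' hx' h
        subst hf'
        have := LinearPMap.supSpanSingleton_apply_mk f x₀ y₀ hx₀ x' hx' 0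
        simp only [zero_smul, add_zero, map_zero] at this
        exact this
      have hle : f.domain ≤ f'.domain := by rw [hdom]; exact le_sup_left
      have hf'iso : PIso B f' := by
        constructor
        · intro z₁ z₂
          obtain ⟨x₁, hx₁, c₁, e₁, e₁'⟩ := key z₁
          obtain ⟨x₂, hx₂, c₂, e₂, e₂'⟩ := key z₂
          rw [e₁, e₂, e₁', e₂']
          have h1 := hf.1 ⟨x₁, hx₁⟩ ⟨x₂, hx₂⟩
          have h2 := hy₀' ⟨x₁, hx₁⟩
          have h3 := hy₀' ⟨x₂, hx₂⟩
          have h4 : B (f ⟨x₁, hx₁⟩) y₀ = - B y₀ (f ⟨x₁, hx₁⟩) := (hA.neg_eq _ _).symm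
          have h5 : B x₁ x₀ = - B x₀ x₁ := (hA.neg_eq _ _).symm
          have h6 : B y₀ y₀ = 0 := hA y₀
          have h7 : B x₀ x₀ = 0 := hA x₀
          simp only at h1 h2 h3
          simp only [map_add, map_smul, LinearMap.add_apply, LinearMap.smul_apply, smul_eq_mul]
          rw [h1, h4, h2, h3, h5, h6, h7]
        · rw [injective_iff_map_eq_zero]
          intro z hz
          obtain ⟨x', hx', c, e, e'⟩ := key z
          have hz' : f' z = 0 := hz
          rw [e'] at hz'
          have hc : c = 0 := by
            by_contra hc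
            apply hy₀
            refine ⟨(-c⁻¹) • ⟨x', hx'⟩, ?_⟩
            have h1 : c • y₀ = - f ⟨x', hx'⟩ := by
              rw [eq_neg_iff_add_eq_zero, add_comm]; exact hz'
            change f ((-c⁻¹) • ⟨x', hx'⟩) = y₀
            rw [LinearPMap.map_smul, neg_smul, ← smul_neg, ← h1, smul_smul, inv_mul_cancel₀ hc,
              one_smul]
          rw [hc, zero_smul, add_zero] at hz'
          have hx0 : (⟨x', hx'⟩ : f.domain) = 0 := by
            apply hf.2
            rw [map_zero]
            exact hz'
          have hx0' : x' = 0 := congrArg Subtype.val hx0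
          apply Subtype.ext
          rw [e, hc, hx0', zero_smul, add_zero]
          rfl
      have hlt : f.domain < f'.domain := by
        refine lt_of_le_of_ne hle ?_
        intro h
        apply hx₀
        rw [h, hdom]
        exact Submodule.mem_sup_right (Submodule.mem_span_singleton_self x₀)
      have hlt' := Submodule.finrank_lt_finrank_of_lt hlt
      have hle' : Module.finrank F f'.domain ≤ Module.finrank F V := Submodule.finrank_le _
      obtain ⟨g, hg1, hg2⟩ := ih (Module.finrank F V - Module.finrank F f'.domain) (by omega)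
        f' hf'iso rfl
      refine ⟨g, hg1, ?_⟩
      intro x
      have := hg2 ⟨(x : V), hle x.2⟩
      rw [key0 (x : V) x.2 (hle x.2)] at this
      exact this

end

/-- Witt's Lemma, alternating case: for a non-degenerate alternating bilinear form on a finite-dimensional space over any field, every isometry between two subspaces extends to an isometry of the whole space. -/
theorem result {F V : Type*} [Field F] [AddCommGroup V] [Module F V] [FiniteDimensional F V] (B : LinearMap.BilinForm F V) (hB : B.Nondegenerate) (hA : B.IsAlt) (X Y : Submodule F V) (φ : X ≃ₗ[F] Y) (hφ : ∀ x x' : X, B (φ x : V) (φ x' : V) = B (x : V) (x' : V)) : ∃ g : V ≃ₗ[F] V, (∀ u v : V, B (g u) (g v) = B u v) ∧ ∀ x : X, g (x : V) = (φ x : V) := by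
  obtain ⟨f, hf⟩ : ∃ f : V →ₗ.[F] V, f = ⟨X, Y.subtype ∘ₗ φ.toLinearMap⟩ := ⟨_, rfl⟩
  have hfiso : PIso B f := by
    subst hf
    constructor
    · intro x x'
      exact hφ x x'
    · intro x x' h
      have : (φ x : V) = (φ x' : V) := h
      exact φ.injective (Subtype.ext this)
  obtain ⟨g, hg1, hg2⟩ := extend B hB hA _ f hfiso rfl
  have hinj : Function.Injective g := by
    rw [injective_iff_map_eq_zero]
    intro u hu
    apply hB.1
    intro v
    rw [← hg1, hu, map_zero, LinearMap.zero_apply]
  refine ⟨LinearEquiv.ofInjectiveEndo g hinj, ?_, ?_⟩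
  · intro u v
    exact hg1 u v
  · intro x
    subst hf
    exact hg2 x

end Cfsg.Agent.S0749
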