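import Cfsg.Statements.S0755
import Mathlib
-- import your own Cfsg.Agent.* helpers here

set_option autoImplicit false
set_option linter.style.haveILetI false
open Cfsg

namespace Cfsg.Agent.S0755

open scoped Classical in
/-- Surjectivity of the norm of an involutive automorphism of a finite field. -/
theorem norm_surj {F : Type*} [Field F] [Finite F] (σ : F →+* F) (hσ : σ ≠ RingHom.id F)
    (hσ2 : ∀ a, σ (σ a) = a) (c : F) (hc : σ c = c) : ∃ a : F, σ a * a = c := by
  haveI := Fintype.ofFinite F
  obtain ⟨e, he⟩ : ∃ e : RingAut F, ∀ a, e a = σ a :=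
    ⟨RingEquiv.ofRingHom σ σ (by ext a; exact hσ2 a) (by ext a; exact hσ2 a), fun a => rfl⟩
  haveI : Finite (RingAut F) :=
    Finite.of_injective (fun e : RingAut F => (e : F → F)) DFunLike.coe_injective
  let G : Subgroup (RingAut F) := Subgroup.zpowers e
  haveI : Fintype G := Fintype.ofFinite G
  have hsmul : ∀ (g : G) (a : F), g • a = (g : RingAut F) a := fun g a => rfl
  have he2 : e ^ 2 = 1 := by
    ext a
    rw [pow_two, RingAut.mul_apply, he, he, hσ2]; rfl
  have hmem : ∀ g ∈ G, g = 1 ∨ g = e := by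
    intro g hg
    obtain ⟨k, rfl⟩ := Subgroup.mem_zpowers_iff.1 hg
    rcases Int.emod_two_eq_zero_or_one k with h | h
    · left
      have : k = 2 * (k / 2) := by omega
      rw [this, zpow_mul, zpow_ofNat, he2, one_zpow]
    · right
      have : k = 2 * (k / 2) + 1 := by omega
      rw [this, zpow_add, zpow_mul, zpow_ofNat, he2, one_zpow, one_mul, zpow_one]
  have hfix : ∀ g : G, g • c = c := by
    rintro ⟨g, hg⟩
    rw [hsmul]
    rcases hmem g hg with rfl | rfl
    · rfl
    · rw [he, hc]
  have hcK : c ∈ FixedPoints.subfield G F := hfix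
  obtain ⟨x, hx⟩ := FiniteField.norm_surjective (FixedPoints.subfield G F) F ⟨c, hcK⟩
  have h1 := Algebra.norm_eq_prod_automorphisms (FixedPoints.subfield G F) x
  rw [hx] at h1
  have h2 : ∏ τ : F ≃ₐ[FixedPoints.subfield G F] F, τ x = ∏ g : G, g • x := by
    symm
    apply Fintype.prod_equiv (FixedPoints.toAlgAutMulEquiv G F).toEquiv
    intro g
    rfl
  have he1 : e ≠ 1 := by
    intro h
    apply hσ
    ext a
    rw [← he, h]; rfl
  have huniv : (Finset.univ : Finset G) = {1, ⟨e, Subgroup.mem_zpowers e⟩} := by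
    ext g
    simp only [Finset.mem_univ, Finset.mem_insert, Finset.mem_singleton, true_iff]
    rcases hmem g.1 g.2 with h | h
    · left; exact Subtype.ext h
    · right; exact Subtype.ext h
  have h3 : ∏ g : G, g • x = x * σ x := by
    rw [huniv, Finset.prod_pair]
    · rw [one_smul, hsmul, he]
    · intro h
      exact he1 (congrArg Subtype.val h).symm
  refine ⟨x, ?_⟩
  rw [mul_comm, ← h3, ← h2, ← h1]
  rfl

section
variable {F : Type*} [Field F] [Finite F] (σ : F →+* F)

theorem exists_aniso (hσ : σ ≠ RingHom.id F) {V : Type*} [AddCommGroup V] [Module F V]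
    [Nontrivial V] (B : V →ₛₗ[σ] V →ₗ[F] F) (hS : B.IsSymm) (hB : B.Nondegenerate) :
    ∃ v : V, B v v ≠ 0 := by
  by_contra hcon
  push Not at hcon
  have h1 : ∀ u w : V, B u w + σ (B u w) = 0 := by
    intro u w
    have h := hcon (u + w)
    rw [map_add, LinearMap.map_add₂, LinearMap.map_add₂, hcon u, hcon w, zero_add, add_zero] at h
    rw [hS.eq u w]
    linear_combination h
  obtain ⟨u, hu⟩ := exists_ne (0 : V)
  have hex : ∃ w, B u w ≠ 0 := by
    by_contra h
    push Not at h
    exact hu (hB.1 u h)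
  obtain ⟨w, hw⟩ := hex
  have h2 : ∀ a : F, a + σ a = 0 := by
    intro a
    have := h1 u ((a / B u w) • w)
    rw [map_smul, smul_eq_mul, div_mul_cancel₀ a hw] at this
    exact this
  apply hσ
  ext a
  have h3 := h2 1
  rw [map_one] at h3
  have h4 := h2 a
  rw [RingHom.id_apply]
  have : σ a = -a := by linear_combination h4
  rw [this]
  have h5 : a + a = 0 := by
    have : a + a = a * (1 + 1) := by ring
    rw [this, h3, mul_zero]
  linear_combination (-1 : F) * h5

theorem main (hσ : σ ≠ RingHom.id F) (hσ2 : ∀ a : F, σ (σ a) = a) (n : ℕ) :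
    ∀ {V : Type*} [AddCommGroup V] [Module F V] [FiniteDimensional F V]
      (B : V →ₛₗ[σ] V →ₗ[F] F), B.IsSymm → B.Nondegenerate → Module.finrank F V = n →
      ∃ b : Fin n → V, ∀ i j, B (b i) (b j) = if i = j then 1 else 0 := by
  induction n with
  | zero =>
    intro V _ _ _ B _ _ _
    exact ⟨fun i => i.elim0, fun i => i.elim0⟩
  | succ n ih =>
    intro V _ _ _ B hS hB hn
    haveI : Nontrivial V := Module.nontrivial_of_finrank_pos (R := F) (by omega)
    obtain ⟨v₀, hv₀⟩ := exists_aniso σ hσ B hS hB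
    have hc : σ (B v₀ v₀) = B v₀ v₀ := hS.eq v₀ v₀
    have hc' : σ (B v₀ v₀)⁻¹ = (B v₀ v₀)⁻¹ := by rw [map_inv₀, hc]
    obtain ⟨a, ha⟩ := norm_surj σ hσ hσ2 _ hc'
    obtain ⟨v, hvdef⟩ : ∃ v, v = a • v₀ := ⟨_, rfl⟩
    have hv : B v v = 1 := by
      rw [hvdef, LinearMap.map_smulₛₗ₂, map_smul, smul_eq_mul, smul_eq_mul, ← mul_assoc,
        ha, inv_mul_cancel₀ hv₀]
    obtain ⟨W, hW⟩ : ∃ W : Submodule F V, W = LinearMap.ker (B v) := ⟨_, rfl⟩
    have hWmem : ∀ w : V, w ∈ W ↔ B v w = 0 := by
      intro w; rw [hW, LinearMap.mem_ker]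
    have hWmem' : ∀ w : V, w ∈ W → B w v = 0 := by
      intro w hw
      rw [← hS.eq v w, (hWmem w).1 hw, map_zero]
    have hWdim : Module.finrank F W = n := by
      have h1 := LinearMap.finrank_range_add_finrank_ker (B v)
      have h2 : LinearMap.range (B v) = ⊤ := by
        rw [LinearMap.range_eq_top]
        intro c
        exact ⟨c • v, by rw [map_smul, hv, smul_eq_mul, mul_one]⟩
      rw [h2, finrank_top, Module.finrank_self, ← hW, hn] at h1
      omega
    obtain ⟨B', hB'⟩ : ∃ B' : W →ₛₗ[σ] W →ₗ[F] F, B' = B.domRestrict₁₂ W W := ⟨_, rfl⟩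
    have hB'app : ∀ x y : W, B' x y = B (x : V) (y : V) := by
      intro x y; rw [hB']; exact LinearMap.domRestrict₁₂_apply B W W x y
    have hS' : B'.IsSymm := ⟨fun x y => by rw [hB'app, hB'app]; exact hS.eq _ _⟩
    have hsepL : B'.SeparatingLeft := by
      intro w hw
      apply Subtype.ext
      apply hB.1
      intro x
      have hx : x - (B v x) • v ∈ W := by
        rw [hWmem, map_sub, map_smul, hv, smul_eq_mul, mul_one, sub_self]
      have h1 := hw ⟨_, hx⟩
      rw [hB'app] at h1
      simp only at h1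
      rw [map_sub, map_smul, hWmem' w w.2, smul_zero, sub_zero] at h1
      rw [h1]
    have hsepR : B'.SeparatingRight := by
      intro y hy
      apply hsepL
      intro x
      rw [← hS'.eq, hy x, map_zero]
    obtain ⟨b', hb'⟩ := ih B' hS' ⟨hsepL, hsepR⟩ hWdim
    refine ⟨Fin.cons v (fun i => (b' i : V)), ?_⟩
    intro i j
    induction i using Fin.cases with
    | zero =>
      induction j using Fin.cases with
      | zero => rw [Fin.cons_zero, hv, if_pos rfl]
      | succ j =>
        rw [Fin.cons_zero, Fin.cons_succ, (hWmem _).1 (b' j).2, if_neg]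
        exact (Fin.succ_ne_zero j).symm
    | succ i =>
      induction j using Fin.cases with
      | zero =>
        rw [Fin.cons_zero, Fin.cons_succ, hWmem' _ (b' i).2, if_neg]
        exact Fin.succ_ne_zero i
      | succ j =>
        rw [Fin.cons_succ, Fin.cons_succ, ← hB'app, hb' i j]
        by_cases hij : i = j
        · rw [if_pos hij, if_pos (by rw [hij])]
        · rw [if_neg hij, if_neg (fun h => hij (Fin.succ_injective _ h))]

end

/-- A non-degenerate conjugate-symmetric sesquilinear form over a finite field (automorphism of order two) has an orthonormal basis. -/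
theorem result {F V : Type*} [Field F] [Finite F] [AddCommGroup V] [Module F V] [FiniteDimensional F V] (σ : F →+* F) (hσ : σ ≠ RingHom.id F) (hσ2 : ∀ a : F, σ (σ a) = a) (B : V →ₛₗ[σ] V →ₗ[F] F) (hS : B.IsSymm) (hB : B.Nondegenerate) : ∃ b : Module.Basis (Fin (Module.finrank F V)) F V, ∀ i j, B (b i) (b j) = if i = j then 1 else 0 := by
  obtain ⟨b, hb⟩ := main σ hσ hσ2 (Module.finrank F V) B hS hB rfl
  have hli : LinearIndependent F b := by
    rw [linearIndependent_iff']
    intro s g hg i hi
    have h1 := congrArg (B (b i)) hg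
    rw [map_sum, map_zero] at h1
    simp only [map_smul, smul_eq_mul, hb] at h1
    rw [Finset.sum_eq_single i] at h1
    · simpa using h1
    · intro j _ hji
      rw [if_neg (Ne.symm hji), mul_zero]
    · intro h; exact absurd hi h
  by_cases hn : Module.finrank F V = 0
  · haveI : IsEmpty (Fin (Module.finrank F V)) := by rw [hn]; infer_instance
    haveI : Subsingleton V := Module.finrank_zero_iff.1 hn
    exact ⟨Module.Basis.empty V, fun i => isEmptyElim i⟩
  · haveI : Nonempty (Fin (Module.finrank F V)) := ⟨⟨0, Nat.pos_of_ne_zero hn⟩⟩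
    refine ⟨basisOfLinearIndependentOfCardEqFinrank hli (Fintype.card_fin _), ?_⟩
    rw [coe_basisOfLinearIndependentOfCardEqFinrank]
    exact hb

end Cfsg.Agent.S0755
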