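import Cfsg.Statements.S0751
import Mathlib
import Cfsg.Agent.S0755
-- import your own Cfsg.Agent.* helpers here

set_option autoImplicit false
open Cfsg

namespace Cfsg.Agent.S0751

section
set_option linter.unusedSectionVars false
variable {F V : Type*} [Field F] [Finite F] [AddCommGroup V] [Module F V] [FiniteDimensional F V]

/-- right orthogonal complement of a subspace for a sesquilinear form -/
def orth (σ : F →+* F) (B : V →ₛₗ[σ] V →ₗ[F] F) (W : Submodule F V) : Submodule F V where
  carrier := {y | ∀ w ∈ W, B w y = 0}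
  add_mem' := by
    intro a b ha hb w hw
    rw [map_add, ha w hw, hb w hw, add_zero]
  zero_mem' := by
    intro w _
    rw [map_zero]
  smul_mem' := by
    intro c a ha w hw
    rw [map_smul, ha w hw, smul_zero]

theorem mem_orth {σ : F →+* F} {B : V →ₛₗ[σ] V →ₗ[F] F} {W : Submodule F V} {y : V} :
    y ∈ orth σ B W ↔ ∀ w ∈ W, B w y = 0 := Iff.rfl

theorem mem_orth' {σ : F →+* F} {B : V →ₛₗ[σ] V →ₗ[F] F} (hS : B.IsSymm) {W : Submodule F V}
    {y : V} : y ∈ orth σ B W ↔ ∀ w ∈ W, B y w = 0 := by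
  constructor
  · intro h w hw
    rw [← hS.eq w y, h w hw, map_zero]
  · intro h w hw
    rw [← hS.eq y w, h w hw, map_zero]

theorem beta_bij (σ : F →+* F) (B : V →ₛₗ[σ] V →ₗ[F] F) (hB : B.Nondegenerate) :
    Function.Bijective (fun y : V => (B y : Module.Dual F V)) := by
  have : Finite V := Module.finite_of_finite F
  have : Finite (Module.Dual F V) := Module.finite_of_finite F
  have hinj : Function.Injective (fun y : V => (B y : Module.Dual F V)) := by
    intro y y' h
    have h' : B y = B y' := h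
    have : y - y' = 0 := by
      apply hB.1
      intro z
      rw [map_sub, LinearMap.sub_apply, h', sub_self]
    exact sub_eq_zero.1 this
  have hcard : Nat.card (Module.Dual F V) ≤ Nat.card V := by
    rw [Module.natCard_eq_pow_finrank (K := F) (V := V),
      Module.natCard_eq_pow_finrank (K := F) (V := Module.Dual F V), Subspace.dual_finrank_eq]
  exact hinj.bijective_of_nat_card_le hcard

theorem finrank_orth {σ : F →+* F} {B : V →ₛₗ[σ] V →ₗ[F] F} (hS : B.IsSymm)
    (hB : B.Nondegenerate) (W : Submodule F V) :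
    Module.finrank F (orth σ B W) + Module.finrank F W = Module.finrank F V := by
  have hbij := beta_bij σ B hB
  have hc : Nat.card (orth σ B W) = Nat.card W.dualAnnihilator := by
    apply Nat.card_congr
    refine Equiv.subtypeEquiv (Equiv.ofBijective (fun y : V => (B y : Module.Dual F V)) hbij) ?_
    intro y
    rw [Equiv.ofBijective_apply, Submodule.mem_dualAnnihilator]
    exact mem_orth' hS
  have e1 : Nat.card (orth σ B W) = Nat.card F ^ Module.finrank F (orth σ B W) :=
    Module.natCard_eq_pow_finrank (K := F) (V := orth σ B W)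
  have e2 : Nat.card W.dualAnnihilator = Nat.card F ^ Module.finrank F W.dualAnnihilator :=
    Module.natCard_eq_pow_finrank (K := F) (V := W.dualAnnihilator)
  rw [e1, e2] at hc
  have hq : 1 < Nat.card F := Finite.one_lt_card
  have h1 : Module.finrank F (orth σ B W) = Module.finrank F W.dualAnnihilator :=
    (Nat.pow_right_inj hq).1 hc
  have h2 := Subspace.finrank_add_finrank_dualAnnihilator_eq W
  omega

theorem orth_orth {σ : F →+* F} {B : V →ₛₗ[σ] V →ₗ[F] F} (hS : B.IsSymm)
    (hB : B.Nondegenerate) (W : Submodule F V) : orth σ B (orth σ B W) = W := by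
  symm
  apply Submodule.eq_of_le_of_finrank_eq
  · intro w hw
    rw [mem_orth]
    intro y hy
    exact (mem_orth' hS).1 hy w hw
  · have h1 := finrank_orth hS hB W
    have h2 := finrank_orth hS hB (orth σ B W)
    omega

omit [Finite F] in
theorem trace_surj (σ : F →+* F) (hσ : σ ≠ RingHom.id F) (hσ2 : ∀ a : F, σ (σ a) = a) (c : F)
    (hc : σ c = c) : ∃ a : F, a + σ a = c := by
  obtain ⟨t, ht⟩ : ∃ t : F, t + σ t ≠ 0 := by
    by_contra hcon
    push Not at hcon
    apply hσ
    have h1 := hcon 1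
    rw [map_one] at h1
    ext a
    have h4 := hcon a
    rw [RingHom.id_apply]
    have h5 : a + a = 0 := by
      have : a + a = a * (1 + 1) := by ring
      rw [this, h1, mul_zero]
    linear_combination h4 - h5
  have hs : σ (t + σ t) = t + σ t := by rw [map_add, hσ2, add_comm]
  refine ⟨c / (t + σ t) * t, ?_⟩
  rw [map_mul, map_div₀, hc, hs, ← mul_add, div_mul_cancel₀ _ ht]

omit [Finite F] [FiniteDimensional F V] in
theorem sigma_nontriv (σ : F →+* F) (hσ : σ ≠ RingHom.id F) : ¬ ∀ a : F, a + σ a = 0 := by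
  intro h2
  apply hσ
  ext a
  have h3 := h2 1
  rw [map_one] at h3
  have h4 := h2 a
  rw [RingHom.id_apply]
  have h5 : a + a = 0 := by
    have : a + a = a * (1 + 1) := by ring
    rw [this, h3, mul_zero]
  linear_combination h4 - h5

theorem aniso_in (σ : F →+* F) (hσ : σ ≠ RingHom.id F) (B : V →ₛₗ[σ] V →ₗ[F] F)
    (hS : B.IsSymm) (W : Submodule F V) (hW : ¬ W ≤ orth σ B W) : ∃ w ∈ W, B w w ≠ 0 := by
  by_contra hcon
  push Not at hcon
  have h1 : ∀ u ∈ W, ∀ w ∈ W, B u w + σ (B u w) = 0 := by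
    intro u hu w hw
    have h := hcon (u + w) (W.add_mem hu hw)
    rw [map_add, LinearMap.map_add₂, LinearMap.map_add₂, hcon u hu, hcon w hw, zero_add,
      add_zero] at h
    rw [hS.eq u w]
    linear_combination h
  apply hW
  intro y hy
  rw [mem_orth]
  intro w hw
  by_contra hne
  apply sigma_nontriv σ hσ
  intro a
  have := h1 w hw ((a / B w y) • y) (W.smul_mem _ hy)
  rw [map_smul, smul_eq_mul, div_mul_cancel₀ a hne] at this
  exact this

theorem rad_transfer {σ : F →+* F} {B : V →ₛₗ[σ] V →ₗ[F] F} (hS : B.IsSymm)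
    (hB : B.Nondegenerate) (D R : Submodule F V) (e : D ≃ₗ[F] R)
    (he : ∀ x x' : D, B (e x : V) (e x' : V) = B (x : V) (x' : V))
    (hle : orth σ B R ≤ R) : orth σ B D ≤ D := by
  obtain ⟨L, hL⟩ : ∃ L : D →ₗ[F] V, L = R.subtype ∘ₗ e.toLinearMap := ⟨_, rfl⟩
  have hLapp : ∀ x : D, L x = (e x : V) := by intro x; rw [hL]; rfl
  obtain ⟨D₀, hD₀⟩ : ∃ D₀ : Submodule F D, D₀ = (orth σ B R).comap L := ⟨_, rfl⟩
  have hmemD₀ : ∀ x : D, x ∈ D₀ ↔ (e x : V) ∈ orth σ B R := by
    intro x; rw [hD₀, Submodule.mem_comap, hLapp]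
  have h1 : D₀.map D.subtype ≤ orth σ B D := by
    rintro _ ⟨x, hx, rfl⟩
    rw [mem_orth]
    intro x' hx'
    have := he ⟨x', hx'⟩ x
    simp only at this
    rw [Submodule.coe_subtype, ← this]
    exact (mem_orth.1 ((hmemD₀ x).1 hx)) _ (e ⟨x', hx'⟩).2
  have h2 : orth σ B R ≤ D₀.map L := by
    intro z hz
    refine ⟨e.symm ⟨z, hle hz⟩, ?_, ?_⟩
    · rw [SetLike.mem_coe, hmemD₀, LinearEquiv.apply_symm_apply]; exact hz
    · rw [hLapp, LinearEquiv.apply_symm_apply]
  have d1 : Module.finrank F (orth σ B R) ≤ Module.finrank F D₀ :=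
    (Submodule.finrank_mono h2).trans (Submodule.finrank_map_le _ _)
  have d2 : Module.finrank F (D₀.map D.subtype) = Module.finrank F D₀ :=
    Submodule.finrank_map_subtype_eq _ _
  have d3 := finrank_orth hS hB D
  have d4 := finrank_orth hS hB R
  have d5 : Module.finrank F D = Module.finrank F R := LinearEquiv.finrank_eq e
  have heq : D₀.map D.subtype = orth σ B D :=
    Submodule.eq_of_le_of_finrank_le h1 (by omega)
  rw [← heq]
  exact Submodule.map_subtype_le _ _

/-- A partial injective isometry. -/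
def PIso (σ : F →+* F) (B : V →ₛₗ[σ] V →ₗ[F] F) (f : V →ₗ.[F] V) : Prop :=
  (∀ x x' : f.domain, B (f x) (f x') = B (x : V) (x' : V)) ∧ Function.Injective f.toFun

theorem step (σ : F →+* F) (hσ : σ ≠ RingHom.id F) (hσ2 : ∀ a : F, σ (σ a) = a)
    (B : V →ₛₗ[σ] V →ₗ[F] F) (hS : B.IsSymm) (hB : B.Nondegenerate)
    (f : V →ₗ.[F] V) (hf : PIso σ B f) (hne : f.domain ≠ ⊤) :
    ∃ x₀ y₀ : V, x₀ ∉ f.domain ∧ y₀ ∉ LinearMap.range f.toFun ∧
      (∀ x : f.domain, B y₀ (f x) = B x₀ (x : V)) ∧ B y₀ y₀ = B x₀ x₀ := by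
  obtain ⟨e, he0⟩ : ∃ e : f.domain ≃ₗ[F] LinearMap.range f.toFun,
      ∀ x, (e x : V) = f x :=
    ⟨LinearEquiv.ofInjective f.toFun hf.2, fun x => rfl⟩
  have he : ∀ x x' : f.domain, B (e x : V) (e x' : V) = B (x : V) (x' : V) := by
    intro x x'
    rw [he0, he0]
    exact hf.1 x x'
  have he' : ∀ y y' : LinearMap.range f.toFun,
      B (e.symm y : V) (e.symm y' : V) = B (y : V) (y' : V) := by
    intro y y'
    have := he (e.symm y) (e.symm y')
    rw [LinearEquiv.apply_symm_apply, LinearEquiv.apply_symm_apply] at this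
    exact this.symm
  by_cases hrad : orth σ B f.domain ≤ f.domain
  · -- the radical case
    have hradR : orth σ B (LinearMap.range f.toFun) ≤ LinearMap.range f.toFun :=
      rad_transfer hS hB (LinearMap.range f.toFun) f.domain e.symm he' hrad
    obtain ⟨x₀, hx₀⟩ : ∃ x₀ : V, x₀ ∉ f.domain := by
      by_contra h
      push Not at h
      exact hne (Submodule.eq_top_iff'.2 h)
    have hker : LinearMap.ker f.toFun = ⊥ := LinearMap.ker_eq_bot.2 hf.2
    obtain ⟨r, hr⟩ := LinearMap.exists_leftInverse_of_injective f.toFun hker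
    have hr' : ∀ x : f.domain, r (f x) = x := fun x => by
      have := LinearMap.congr_fun hr x
      simpa using this
    obtain ⟨μ, hμ⟩ : ∃ μ : Module.Dual F V, μ = (B x₀) ∘ₗ f.domain.subtype ∘ₗ r := ⟨_, rfl⟩
    have hμ' : ∀ x : f.domain, μ (f x) = B x₀ (x : V) := by
      intro x
      rw [hμ]
      simp only [LinearMap.coe_comp, Function.comp_apply, Submodule.coe_subtype, hr']
    obtain ⟨y₁, hy₁⟩ := (beta_bij σ B hB).2 μ
    have hy₁' : ∀ v, B y₁ v = μ v := by
      intro v
      have := LinearMap.congr_fun hy₁ v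
      exact this
    have hy₁R : y₁ ∉ LinearMap.range f.toFun := by
      rintro ⟨x₁, hx₁⟩
      have hx₁' : f x₁ = y₁ := hx₁
      apply hx₀
      have hmem : x₀ - (x₁ : V) ∈ orth σ B f.domain := by
        rw [mem_orth' hS]
        intro x hx
        rw [map_sub, LinearMap.sub_apply]
        have e1 := hμ' ⟨x, hx⟩
        have e2 := hy₁' (f ⟨x, hx⟩)
        have e3 := hf.1 x₁ ⟨x, hx⟩
        rw [hx₁'] at e3
        simp only at e1 e3
        rw [← e1, ← e2, e3, sub_self]
      have := f.domain.add_mem (hrad hmem) x₁.2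
      simpa using this
    obtain ⟨z₁, hz₁, hb⟩ : ∃ z₁ ∈ orth σ B (LinearMap.range f.toFun), B y₁ z₁ ≠ 0 := by
      by_contra hcon
      push Not at hcon
      apply hy₁R
      have : y₁ ∈ orth σ B (orth σ B (LinearMap.range f.toFun)) := by
        rw [mem_orth' hS]
        exact hcon
      rw [orth_orth hS hB] at this
      exact this
    obtain ⟨d, hd⟩ : ∃ d : F, d = B x₀ x₀ - B y₁ y₁ := ⟨_, rfl⟩
    have hdfix : σ d = d := by
      rw [hd, map_sub, hS.eq x₀ x₀, hS.eq y₁ y₁]
    obtain ⟨a, ha⟩ := trace_surj σ hσ hσ2 d hdfix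
    obtain ⟨z, hzdef⟩ : ∃ z : V, z = (a / B y₁ z₁) • z₁ := ⟨_, rfl⟩
    have hz : z ∈ orth σ B (LinearMap.range f.toFun) := by
      rw [hzdef]; exact Submodule.smul_mem _ _ hz₁
    have hzR : z ∈ LinearMap.range f.toFun := hradR hz
    have hyz : B y₁ z = a := by
      rw [hzdef, map_smul, smul_eq_mul, div_mul_cancel₀ a hb]
    have hzy : B z y₁ = σ a := by
      rw [← hS.eq y₁ z, hyz]
    have hzz : B z z = 0 := mem_orth.1 hz z hzR
    refine ⟨x₀, y₁ + z, hx₀, ?_, ?_, ?_⟩
    · intro h
      apply hy₁R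
      have := (LinearMap.range f.toFun).sub_mem h hzR
      simpa using this
    · intro x
      rw [map_add, LinearMap.add_apply, hy₁', hμ', (mem_orth' hS).1 hz (f x) ⟨x, rfl⟩, add_zero]
    · rw [map_add, LinearMap.map_add₂, LinearMap.map_add₂, hyz, hzy, hzz]
      rw [hd] at ha
      linear_combination ha
  · -- the non-radical case
    have hradR : ¬ orth σ B (LinearMap.range f.toFun) ≤ LinearMap.range f.toFun :=
      fun h => hrad (rad_transfer hS hB f.domain (LinearMap.range f.toFun) e he h)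
    have hW1 : ¬ orth σ B f.domain ≤ orth σ B (orth σ B f.domain) := by
      rw [orth_orth hS hB]; exact hrad
    have hW2 : ¬ orth σ B (LinearMap.range f.toFun) ≤
        orth σ B (orth σ B (LinearMap.range f.toFun)) := by
      rw [orth_orth hS hB]; exact hradR
    obtain ⟨x₀, hx₀, hx₀n⟩ := aniso_in σ hσ B hS _ hW1
    obtain ⟨y₁, hy₁, hy₁n⟩ := aniso_in σ hσ B hS _ hW2
    have hfix : σ (B x₀ x₀ / B y₁ y₁) = B x₀ x₀ / B y₁ y₁ := by
      rw [map_div₀, hS.eq x₀ x₀, hS.eq y₁ y₁]
    obtain ⟨a, ha⟩ := Cfsg.Agent.S0755.norm_surj σ hσ hσ2 _ hfix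
    have hy₀ : a • y₁ ∈ orth σ B (LinearMap.range f.toFun) := Submodule.smul_mem _ _ hy₁
    have hyy : B (a • y₁) (a • y₁) = B x₀ x₀ := by
      rw [LinearMap.map_smulₛₗ₂, map_smul, smul_eq_mul, smul_eq_mul, ← mul_assoc, ha,
        div_mul_cancel₀ _ hy₁n]
    refine ⟨x₀, a • y₁, ?_, ?_, ?_, hyy⟩
    · intro h
      exact hx₀n (mem_orth.1 hx₀ x₀ h)
    · intro h
      have := mem_orth.1 hy₀ _ h
      rw [hyy] at this
      exact hx₀n this
    · intro x
      rw [(mem_orth' hS).1 hy₀ (f x) ⟨x, rfl⟩, (mem_orth' hS).1 hx₀ x x.2]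

theorem extend (σ : F →+* F) (hσ : σ ≠ RingHom.id F) (hσ2 : ∀ a : F, σ (σ a) = a)
    (B : V →ₛₗ[σ] V →ₗ[F] F) (hS : B.IsSymm) (hB : B.Nondegenerate) :
    ∀ (n : ℕ) (f : V →ₗ.[F] V), PIso σ B f →
      Module.finrank F V - Module.finrank F f.domain = n →
      ∃ g : V →ₗ[F] V, (∀ u v, B (g u) (g v) = B u v) ∧ ∀ x : f.domain, g (x : V) = f x := by
  intro n
  induction n using Nat.strong_induction_on with
  | _ n ih =>
    intro f hf hn
    by_cases htop : f.domain = ⊤
    · refine ⟨f.toFun.comp (LinearEquiv.ofTop f.domain htop).symm.toLinearMap, ?_, ?_⟩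
      · intro u v
        simp only [LinearMap.coe_comp, LinearEquiv.coe_coe, Function.comp_apply]
        have := hf.1 ((LinearEquiv.ofTop f.domain htop).symm u)
          ((LinearEquiv.ofTop f.domain htop).symm v)
        simpa using this
      · intro x
        simp only [LinearMap.coe_comp, LinearEquiv.coe_coe, Function.comp_apply]
        congr 1
    · obtain ⟨x₀, y₀, hx₀, hy₀, hy₀', hyy⟩ := step σ hσ hσ2 B hS hB f hf htop
      obtain ⟨f', hf'⟩ : ∃ f' : V →ₗ.[F] V, f' = f.supSpanSingleton x₀ y₀ hx₀ := ⟨_, rfl⟩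
      have hdom : f'.domain = f.domain ⊔ F ∙ x₀ := by
        rw [hf']; exact LinearPMap.domain_supSpanSingleton f x₀ y₀ hx₀
      have key : ∀ z : f'.domain, ∃ (x' : V) (hx' : x' ∈ f.domain) (c : F),
          (z : V) = x' + c • x₀ ∧ f' z = f ⟨x', hx'⟩ + c • y₀ := by
        rintro ⟨z, hz⟩
        have hz' := hz
        rw [hdom] at hz'
        obtain ⟨x', hx', w, hw, rfl⟩ := Submodule.mem_sup.1 hz'
        obtain ⟨c, rfl⟩ := Submodule.mem_span_singleton.1 hw
        refine ⟨x', hx', c, rfl, ?_⟩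
        subst hf'
        exact LinearPMap.supSpanSingleton_apply_mk f x₀ y₀ hx₀ x' hx' c
      have key0 : ∀ (x' : V) (hx' : x' ∈ f.domain) (h : x' ∈ f'.domain),
          f' ⟨x', h⟩ = f ⟨x', hx'⟩ := by
        intro x' hx' h
        subst hf'
        have := LinearPMap.supSpanSingleton_apply_mk f x₀ y₀ hx₀ x' hx' 0
        simp only [zero_smul, add_zero, map_zero] at this
        exact this
      have hle : f.domain ≤ f'.domain := by rw [hdom]; exact le_sup_left
      have hf'iso : PIso σ B f' := by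
        constructor
        · intro z₁ z₂
          obtain ⟨x₁, hx₁, c₁, e₁, e₁'⟩ := key z₁
          obtain ⟨x₂, hx₂, c₂, e₂, e₂'⟩ := key z₂
          rw [e₁, e₂, e₁', e₂']
          have h1 := hf.1 ⟨x₁, hx₁⟩ ⟨x₂, hx₂⟩
          have h2 := hy₀' ⟨x₁, hx₁⟩
          have h3 := hy₀' ⟨x₂, hx₂⟩
          have h4 : B (f ⟨x₁, hx₁⟩) y₀ = B x₁ x₀ := by
            rw [← hS.eq y₀ (f ⟨x₁, hx₁⟩), h2, hS.eq]
          simp only at h1 h2 h3
          simp only [map_add, LinearMap.add_apply, LinearMap.map_smulₛₗ₂, map_smul, smul_eq_mul]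
          linear_combination h1 + c₂ * h4 + σ c₁ * h3 + σ c₁ * c₂ * hyy
        · rw [injective_iff_map_eq_zero]
          intro z hz
          obtain ⟨x', hx', c, e, e'⟩ := key z
          have hz' : f' z = 0 := hz
          rw [e'] at hz'
          have hc : c = 0 := by
            by_contra hc
            apply hy₀
            refine ⟨(-c⁻¹) • ⟨x', hx'⟩, ?_⟩
            have h1 : c • y₀ = - f ⟨x', hx'⟩ := by
              rw [eq_neg_iff_add_eq_zero, add_comm]; exact hz'
            change f ((-c⁻¹) • ⟨x', hx'⟩) = y₀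
            rw [LinearPMap.map_smul, neg_smul, ← smul_neg, ← h1, smul_smul, inv_mul_cancel₀ hc,
              one_smul]
          rw [hc, zero_smul, add_zero] at hz'
          have hx0 : (⟨x', hx'⟩ : f.domain) = 0 := by
            apply hf.2
            rw [map_zero]
            exact hz'
          have hx0' : x' = 0 := congrArg Subtype.val hx0
          apply Subtype.ext
          rw [e, hc, hx0', zero_smul, add_zero]
          rfl
      have hlt : f.domain < f'.domain := by
        refine lt_of_le_of_ne hle ?_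
        intro h
        apply hx₀
        rw [h, hdom]
        exact Submodule.mem_sup_right (Submodule.mem_span_singleton_self x₀)
      have hlt' := Submodule.finrank_lt_finrank_of_lt hlt
      have hle' : Module.finrank F f'.domain ≤ Module.finrank F V := Submodule.finrank_le _
      obtain ⟨g, hg1, hg2⟩ := ih (Module.finrank F V - Module.finrank F f'.domain) (by omega)
        f' hf'iso rfl
      refine ⟨g, hg1, ?_⟩
      intro x
      have := hg2 ⟨(x : V), hle x.2⟩
      rw [key0 (x : V) x.2 (hle x.2)] at this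
      exact this

end

/-- Witt's Lemma, Hermitian case: for a non-degenerate conjugate-symmetric sesquilinear form (with respect to a field automorphism of order two of a finite field), every isometry between two subspaces extends to an isometry of the whole space. -/
theorem result {F V : Type*} [Field F] [Finite F] [AddCommGroup V] [Module F V] [FiniteDimensional F V] (σ : F →+* F) (hσ : σ ≠ RingHom.id F) (hσ2 : ∀ a : F, σ (σ a) = a) (B : V →ₛₗ[σ] V →ₗ[F] F) (hS : B.IsSymm) (hB : B.Nondegenerate) (X Y : Submodule F V) (φ : X ≃ₗ[F] Y) (hφ : ∀ x x' : X, B (φ x : V) (φ x' : V) = B (x : V) (x' : V)) : ∃ g : V ≃ₗ[F] V, (∀ u v : V, B (g u) (g v) = B u v) ∧ ∀ x : X, g (x : V) = (φ x : V) := by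
  obtain ⟨f, hf⟩ : ∃ f : V →ₗ.[F] V, f = ⟨X, Y.subtype ∘ₗ φ.toLinearMap⟩ := ⟨_, rfl⟩
  have hfiso : PIso σ B f := by
    subst hf
    constructor
    · intro x x'
      exact hφ x x'
    · intro x x' h
      have : (φ x : V) = (φ x' : V) := h
      exact φ.injective (Subtype.ext this)
  obtain ⟨g, hg1, hg2⟩ := extend σ hσ hσ2 B hS hB _ f hfiso rfl
  have hinj : Function.Injective g := by
    rw [injective_iff_map_eq_zero]
    intro u hu
    apply hB.1
    intro v
    rw [← hg1, hu, map_zero, LinearMap.zero_apply]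
  refine ⟨LinearEquiv.ofInjectiveEndo g hinj, ?_, ?_⟩
  · intro u v
    exact hg1 u v
  · intro x
    subst hf
    exact hg2 x

end Cfsg.Agent.S0751
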