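import Cfsg.Statements.S0754
import Mathlib

set_option autoImplicit false
set_option linter.style.haveILetI false
open Cfsg

namespace Cfsg.Agent.S0754

/-- In a field F with q^2 elements, every non-zero μ with μ^q = μ (that is, μ in the subfield of order q) has exactly q + 1 solutions λ of λ^(q+1) = μ. -/
theorem result {F : Type*} [Field F] [Fintype F] {q : ℕ} (hF : Fintype.card F = q ^ 2) (μ : F) (hμ : μ ≠ 0) (hμq : μ ^ q = μ) : Nat.card {x : F // x ^ (q + 1) = μ} = q + 1 := by
  classical
  have hq2 : 2 ≤ q := by
    have := Fintype.one_lt_card (α := F)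
    rw [hF] at this
    by_contra h
    interval_cases q <;> simp at this
  set S : Finset F := Finset.univ.filter (fun x : F => x ≠ 0) with hS
  set K : Finset F := Finset.univ.filter (fun y : F => y ≠ 0 ∧ y ^ q = y) with hK
  have hScard : S.card = q^2 - 1 := by
    rw [hS, Finset.filter_ne', Finset.card_erase_of_mem (Finset.mem_univ _), Finset.card_univ, hF]
  have hmap : ∀ x ∈ S, x ^ (q+1) ∈ K := by
    intro x hx
    simp only [hS, Finset.mem_filter, Finset.mem_univ, true_and] at hx
    simp only [hK, Finset.mem_filter, Finset.mem_univ, true_and]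
    refine ⟨pow_ne_zero _ hx, ?_⟩
    have := FiniteField.pow_card x
    rw [hF] at this
    calc (x^(q+1))^q = x^(q^2) * x^q := by ring
      _ = x^(q+1) := by rw [this]; ring
  have hfib : ∀ b ∈ K, (S.filter (fun a => a^(q+1) = b)).card ≤ q + 1 := by
    intro b hb
    calc (S.filter (fun a => a^(q+1) = b)).card ≤ (Polynomial.nthRoots (q+1) b).toFinset.card := by
          apply Finset.card_le_card
          intro a ha
          simp only [Finset.mem_filter] at ha
          rw [Multiset.mem_toFinset, Polynomial.mem_nthRoots (Nat.succ_pos q)]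
          exact ha.2
      _ ≤ Multiset.card (Polynomial.nthRoots (q+1) b) := Multiset.toFinset_card_le _
      _ ≤ q + 1 := Polynomial.card_nthRoots _ _
  have hKcard : K.card ≤ q - 1 := by
    calc K.card ≤ (Polynomial.nthRoots (q-1) (1:F)).toFinset.card := by
          apply Finset.card_le_card
          intro a ha
          simp only [hK, Finset.mem_filter, Finset.mem_univ, true_and] at ha
          rw [Multiset.mem_toFinset, Polynomial.mem_nthRoots (by omega)]
          have : a * a^(q-1) = a * 1 := by
            rw [← pow_succ', mul_one]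
            have : q - 1 + 1 = q := by omega
            rw [this]; exact ha.2
          exact mul_left_cancel₀ ha.1 this
      _ ≤ Multiset.card (Polynomial.nthRoots (q-1) (1:F)) := Multiset.toFinset_card_le _
      _ ≤ q - 1 := Polynomial.card_nthRoots _ _
  have hμK : μ ∈ K := by simp [hK, hμ, hμq]
  have hsum := Finset.card_eq_sum_card_fiberwise hmap
  have key : (S.filter (fun a => a^(q+1) = μ)).card = q + 1 := by
    by_contra hne
    have hlt : (S.filter (fun a => a^(q+1) = μ)).card < q + 1 := lt_of_le_of_ne (hfib μ hμK) hne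
    have : ∑ b ∈ K, (S.filter (fun a => a^(q+1) = b)).card < ∑ b ∈ K, (q+1) :=
      Finset.sum_lt_sum hfib ⟨μ, hμK, hlt⟩
    rw [Finset.sum_const, smul_eq_mul, ← hsum, hScard] at this
    have h2 : K.card * (q+1) ≤ (q-1)*(q+1) := Nat.mul_le_mul_right _ hKcard
    have h3 : (q-1)*(q+1) = q^2 - 1 := by
      obtain ⟨k, rfl⟩ : ∃ k, q = k + 1 := ⟨q-1, by omega⟩
      have : (k+1)^2 = k*(k+1+1) + 1 := by ring
      rw [this]; simp
    omega
  refine Eq.trans ?_ key
  rw [Nat.card_eq_fintype_card, Fintype.card_subtype]
  congr 1
  ext x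
  simp only [hS, Finset.mem_filter, Finset.mem_univ, true_and]
  constructor
  · intro h
    refine ⟨?_, h⟩
    rintro rfl
    rw [zero_pow (Nat.succ_ne_zero q)] at h
    exact hμ h.symm
  · exact fun h => h.2

end Cfsg.Agent.S0754
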