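import Cfsg.Statements.S0756
import Mathlib
-- import your own Cfsg.Agent.* helpers here

set_option autoImplicit false
open Cfsg

namespace Cfsg.Agent.S0756

open Polynomial in
theorem rep_one {F V : Type*} [Field F] [Fintype F] [AddCommGroup V] [Module F V]
    [FiniteDimensional F V] (h2 : (2 : F) ≠ 0) (B : LinearMap.BilinForm F V) (hS : B.IsSymm)
    (hB : B.Nondegenerate) (hdim : 2 ≤ Module.finrank F V) : ∃ v : V, B v v = 1 := by
  haveI : Invertible (2 : F) := invertibleOfNonzero h2
  haveI : Nontrivial V := Module.nontrivial_of_finrank_pos (R := F) (by omega)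
  obtain ⟨v₁, h₁⟩ := LinearMap.BilinForm.exists_bilinForm_self_ne_zero hB.ne_zero
    (LinearMap.BilinForm.isSymm_iff.1 hS)
  have hv₁ : v₁ ≠ 0 := by
    rintro rfl
    apply h₁
    simp
  have hWnd := LinearMap.BilinForm.restrict_nondegenerate_orthogonal_spanSingleton B hB
    hS.isRefl h₁
  obtain ⟨W, hW⟩ : ∃ W : Submodule F V, W = B.orthogonal (F ∙ v₁) := ⟨_, rfl⟩
  rw [← hW] at hWnd
  have hWdim : Module.finrank F W = Module.finrank F V - 1 := by
    rw [hW, LinearMap.BilinForm.finrank_orthogonal hB, finrank_span_singleton hv₁]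
  haveI : Nontrivial W := Module.nontrivial_of_finrank_pos (R := F) (by omega)
  obtain ⟨w₂, h₂⟩ := LinearMap.BilinForm.exists_bilinForm_self_ne_zero hWnd.ne_zero
    (LinearMap.BilinForm.isSymm_iff.1 (hS.restrict W))
  have h₂' : B (w₂ : V) (w₂ : V) ≠ 0 := h₂
  have h12 : B v₁ (w₂ : V) = 0 := by
    have h := w₂.2
    have h' : (w₂ : V) ∈ B.orthogonal (F ∙ v₁) := by rw [← hW]; exact h
    rw [LinearMap.BilinForm.mem_orthogonal_iff] at h'
    exact h' v₁ (Submodule.mem_span_singleton_self v₁)
  have h21 : B (w₂ : V) v₁ = 0 := by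
    rw [hS.eq]; exact h12
  have hodd : Fintype.card F % 2 = 1 := by
    apply FiniteField.odd_card_of_char_ne_two
    intro h
    apply h2
    have := CharP.cast_eq_zero F (ringChar F)
    rw [h] at this
    exact_mod_cast this
  obtain ⟨x, y, hxy⟩ := FiniteField.exists_root_sum_quadratic
    (f := C (B v₁ v₁) * X ^ 2 + C 0 * X + C 0)
    (g := C (B (w₂ : V) (w₂ : V)) * X ^ 2 + C 0 * X + C (-1))
    (Polynomial.degree_quadratic h₁) (Polynomial.degree_quadratic h₂') hodd
  simp only [eval_add, eval_mul, eval_C, eval_pow, eval_X, zero_mul, add_zero] at hxy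
  refine ⟨x • v₁ + y • (w₂ : V), ?_⟩
  simp only [map_add, map_smul, LinearMap.add_apply, LinearMap.smul_apply, smul_eq_mul, h12, h21,
    mul_zero, add_zero, zero_add]
  linear_combination hxy

theorem sq_or {F : Type*} [Field F] [Fintype F] (α d : F) (hα : ¬ IsSquare α) (hd : d ≠ 0) :
    (∃ s : F, s ≠ 0 ∧ s * s * d = 1) ∨ (∃ s : F, s ≠ 0 ∧ s * s * d = α) := by
  classical
  have hα0 : α ≠ 0 := by
    rintro rfl
    exact hα ⟨0, by simp⟩
  by_cases hsq : IsSquare d
  · left
    obtain ⟨r, hr⟩ := hsq
    have hr0 : r ≠ 0 := by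
      rintro rfl
      apply hd
      rw [hr, mul_zero]
    refine ⟨r⁻¹, inv_ne_zero hr0, ?_⟩
    rw [hr]
    field_simp
  · right
    have h1 : quadraticChar F d = -1 := quadraticChar_neg_one_iff_not_isSquare.2 hsq
    have h2 : quadraticChar F α = -1 := quadraticChar_neg_one_iff_not_isSquare.2 hα
    have h3 : quadraticChar F (d * α) = 1 := by
      rw [map_mul, h1, h2]; norm_num
    obtain ⟨r, hr⟩ := (quadraticChar_one_iff_isSquare (mul_ne_zero hd hα0)).1 h3
    have hr0 : r ≠ 0 := by
      rintro rfl
      apply mul_ne_zero hd hα0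
      rw [hr, mul_zero]
    refine ⟨α / r, div_ne_zero hα0 hr0, ?_⟩
    have : α / r * (α / r) * d = α * (d * α) / (r * r) := by
      field_simp
    rw [this, hr]
    field_simp

theorem main {F : Type*} [Field F] [Fintype F] (h2 : (2 : F) ≠ 0) (α : F) (hα : ¬ IsSquare α)
    (n : ℕ) : ∀ {V : Type*} [AddCommGroup V] [Module F V] [FiniteDimensional F V]
    (B : LinearMap.BilinForm F V), B.IsSymm → B.Nondegenerate → Module.finrank F V = n + 1 →
    ∃ b : Fin (n + 1) → V, (∀ i j, i ≠ j → B (b i) (b j) = 0) ∧
      (∀ i, i ≠ Fin.last n → B (b i) (b i) = 1) ∧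
      (B (b (Fin.last n)) (b (Fin.last n)) = 1 ∨ B (b (Fin.last n)) (b (Fin.last n)) = α) := by
  induction n with
  | zero =>
    intro V _ _ _ B hS hB hn
    obtain ⟨v, hv0, hv⟩ := finrank_eq_one_iff'.1 hn
    have hd : B v v ≠ 0 := by
      intro h
      apply hv0
      apply hB.1
      intro w
      obtain ⟨c, rfl⟩ := hv w
      rw [map_smul, smul_eq_mul, h, mul_zero]
    have hsub : ∀ i j : Fin (0 + 1), i = j := fun i j =>
      Fin.ext (by have := i.isLt; have := j.isLt; omega)
    rcases sq_or α (B v v) hα hd with ⟨s, _, hs⟩ | ⟨s, _, hs⟩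
    · refine ⟨fun _ => s • v, ?_, ?_, ?_⟩
      · intro i j hij
        exact absurd (hsub i j) hij
      · intro i hi
        exact absurd (hsub i _) hi
      · left
        simp only [map_smul, LinearMap.smul_apply, smul_eq_mul]
        rw [← hs]; ring
    · refine ⟨fun _ => s • v, ?_, ?_, ?_⟩
      · intro i j hij
        exact absurd (hsub i j) hij
      · intro i hi
        exact absurd (hsub i _) hi
      · right
        simp only [map_smul, LinearMap.smul_apply, smul_eq_mul]
        rw [← hs]; ring
  | succ n ih =>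
    intro V _ _ _ B hS hB hn
    obtain ⟨v, hv⟩ := rep_one h2 B hS hB (by omega)
    have hv1 : B v v ≠ 0 := by rw [hv]; exact one_ne_zero
    have hv0 : v ≠ 0 := by
      rintro rfl
      apply hv1
      simp
    have hWnd := LinearMap.BilinForm.restrict_nondegenerate_orthogonal_spanSingleton B hB
      hS.isRefl hv1
    obtain ⟨W, hW⟩ : ∃ W : Submodule F V, W = B.orthogonal (F ∙ v) := ⟨_, rfl⟩
    rw [← hW] at hWnd
    have hWdim : Module.finrank F W = n + 1 := by
      rw [hW, LinearMap.BilinForm.finrank_orthogonal hB, finrank_span_singleton hv0, hn]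
      omega
    obtain ⟨b', hb1, hb2, hb3⟩ := ih (B.restrict W) (hS.restrict W) hWnd hWdim
    have hvW : ∀ w : W, B v (w : V) = 0 := by
      intro w
      have h := w.2
      have h' : (w : V) ∈ B.orthogonal (F ∙ v) := by rw [← hW]; exact h
      rw [LinearMap.BilinForm.mem_orthogonal_iff] at h'
      exact h' v (Submodule.mem_span_singleton_self v)
    have hWv : ∀ w : W, B (w : V) v = 0 := by
      intro w
      rw [hS.eq]; exact hvW w
    refine ⟨Fin.cons v (fun i => (b' i : V)), ?_, ?_, ?_⟩
    · intro i j hij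
      induction i using Fin.cases with
      | zero =>
        induction j using Fin.cases with
        | zero => exact absurd rfl hij
        | succ j =>
          rw [Fin.cons_zero, Fin.cons_succ]
          exact hvW _
      | succ i =>
        induction j using Fin.cases with
        | zero =>
          rw [Fin.cons_zero, Fin.cons_succ]
          exact hWv _
        | succ j =>
          rw [Fin.cons_succ, Fin.cons_succ]
          have hij' : i ≠ j := fun h => hij (by rw [h])
          exact hb1 i j hij'
    · intro i hi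
      induction i using Fin.cases with
      | zero =>
        rw [Fin.cons_zero]; exact hv
      | succ i =>
        rw [Fin.cons_succ]
        have hi' : i ≠ Fin.last n := by
          intro h
          apply hi
          rw [h, Fin.succ_last]
        exact hb2 i hi'
    · rw [← Fin.succ_last, Fin.cons_succ]
      exact hb3

/-- Over a finite field of odd characteristic, a non-degenerate symmetric bilinear form has an orthogonal basis whose vectors all have norm 1 except possibly the last, whose norm is 1 or a prescribed non-square. -/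
theorem result {F V : Type*} [Field F] [Finite F] [AddCommGroup V] [Module F V] [FiniteDimensional F V] (h2 : (2 : F) ≠ 0) (B : LinearMap.BilinForm F V) (hS : B.IsSymm) (hB : B.Nondegenerate) {n : ℕ} (hn : Module.finrank F V = n + 1) (α : F) (hα : ¬ IsSquare α) : ∃ b : Module.Basis (Fin (n + 1)) F V, (∀ i j, i ≠ j → B (b i) (b j) = 0) ∧ (∀ i, i ≠ Fin.last n → B (b i) (b i) = 1) ∧ (B (b (Fin.last n)) (b (Fin.last n)) = 1 ∨ B (b (Fin.last n)) (b (Fin.last n)) = α) := by
  haveI : Fintype F := Fintype.ofFinite F
  obtain ⟨b, hb1, hb2, hb3⟩ := main h2 α hα n B hS hB hn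
  have hα0 : α ≠ 0 := by
    rintro rfl
    exact hα ⟨0, by simp⟩
  have hli : LinearIndependent F b := by
    apply LinearMap.BilinForm.linearIndependent_of_iIsOrtho (B := B)
    · rw [LinearMap.BilinForm.iIsOrtho_def]
      exact hb1
    · intro i
      by_cases hi : i = Fin.last n
      · rw [hi]
        rcases hb3 with h | h
        · rw [h]; exact one_ne_zero
        · rw [h]; exact hα0
      · rw [hb2 i hi]; exact one_ne_zero
  have hcard : Fintype.card (Fin (n + 1)) = Module.finrank F V := by
    rw [Fintype.card_fin, hn]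
  refine ⟨basisOfLinearIndependentOfCardEqFinrank hli hcard, ?_⟩
  rw [coe_basisOfLinearIndependentOfCardEqFinrank]
  exact ⟨hb1, hb2, hb3⟩

end Cfsg.Agent.S0756
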