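import Cfsg.Statements.S0757
import Mathlib

set_option autoImplicit false
set_option linter.style.haveILetI false
open Cfsg

namespace Cfsg.Agent.S0757

theorem toMatrix'_wss {F : Type*} [Field F] [Invertible (2:F)] {n : Type*} [Fintype n] [DecidableEq n] (w : n → F) :
    QuadraticForm.toMatrix' (QuadraticMap.weightedSumSquares F w) = Matrix.diagonal w := by
  have h2 : (2:F) ≠ 0 := Invertible.ne_zero 2
  ext i j
  rw [QuadraticForm.toMatrix', LinearMap.toMatrix₂'_apply, QuadraticMap.associated_apply]
  simp only [QuadraticMap.weightedSumSquares_apply, Matrix.diagonal_apply, Pi.single_apply, Pi.add_apply, smul_eq_mul]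
  by_cases hij : i = j
  · subst hij
    simp only [if_true]
    have : ∀ x, w x * (((if x = i then (1:F) else 0) + if x = i then 1 else 0) * ((if x = i then 1 else 0) + if x = i then 1 else 0)) = if x = i then 4 * w i else 0 := by
      intro x
      split_ifs with h
      · subst h; ring
      · ring
    have h3 : ∀ x, w x * ((if x = i then (1:F) else 0) * (if x = i then 1 else 0)) = if x = i then w i else 0 := by
      intro x
      split_ifs with h
      · subst h; ring
      · ring
    simp only [this, h3, Finset.sum_ite_eq', Finset.mem_univ, if_true]
    simp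
    field_simp; ring
  · simp only [hij, if_false]
    have : ∀ x, w x * (((if x = i then (1:F) else 0) + if x = j then 1 else 0) * ((if x = i then 1 else 0) + if x = j then 1 else 0)) = (if x = i then w i else 0) + (if x = j then w j else 0) := by
      intro x
      by_cases h1 : x = i
      · subst h1; simp [hij]
      · by_cases h2 : x = j
        · subst h2; simp [h1]
        · simp [h1, h2]
    have h3 : ∀ i : n, ∀ x, w x * ((if x = i then (1:F) else 0) * (if x = i then 1 else 0)) = if x = i then w i else 0 := by
      intro i x
      split_ifs with h
      · subst h; ring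
      · ring
    simp only [this, h3, Finset.sum_add_distrib, Finset.sum_ite_eq', Finset.mem_univ, if_true]
    simp

/-- The two diagonal forms Σ x_i^2 and Σ_(i<n) x_i^2 + α x_n^2 on F^(n+1), with α a non-square and 2 ≠ 0 in F, are inequivalent quadratic forms (so over a finite field of odd order there are exactly two classes of non-singular symmetric bilinear forms in each dimension). -/
theorem result {F : Type*} [Field F] (h2 : (2 : F) ≠ 0) (n : ℕ) (α : F) (hα : ¬ IsSquare α) : ¬ (QuadraticMap.weightedSumSquares F (fun _ : Fin (n + 1) => (1 : F))).Equivalent (QuadraticMap.weightedSumSquares F (fun i : Fin (n + 1) => if i = Fin.last n then α else (1 : F))) := by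
  haveI : Invertible (2:F) := invertibleOfNonzero h2
  rintro ⟨e⟩
  have h1 : QuadraticMap.weightedSumSquares F (fun _ : Fin (n + 1) => (1 : F)) =
      (QuadraticMap.weightedSumSquares F (fun i : Fin (n + 1) => if i = Fin.last n then α else (1 : F))).comp
        e.toLinearEquiv.toLinearMap := by
    ext x
    simp only [QuadraticMap.comp_apply]
    exact (e.map_app x).symm
  have h3 := congrArg QuadraticForm.discr' h1
  rw [QuadraticForm.discr'_comp, QuadraticForm.discr', QuadraticForm.discr', toMatrix'_wss, toMatrix'_wss,
    Matrix.det_diagonal, Matrix.det_diagonal] at h3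
  simp only [Finset.prod_const_one, Finset.prod_ite_eq', Finset.mem_univ, if_true] at h3
  set d := (LinearMap.toMatrix' (e.toLinearEquiv.toLinearMap)).det with hd
  have hd0 : d ≠ 0 := by
    rintro h0
    rw [h0] at h3
    simp at h3
  apply hα
  refine ⟨d⁻¹, ?_⟩
  field_simp
  linear_combination (-1 : F) * h3

end Cfsg.Agent.S0757
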