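import Cfsg.Statements.S0759
import Mathlib
-- import your own Cfsg.Agent.* helpers here

set_option autoImplicit false
open Cfsg

namespace Cfsg.Agent.S0759

section
variable {F : Type*} [Field F]

/-- The block swap matrix. -/
def swapM (F : Type*) [Field F] (m : ℕ) : Matrix (Fin m ⊕ Fin m) (Fin m ⊕ Fin m) F :=
  Matrix.fromBlocks 0 1 1 0

/-- The determinant of the block swap matrix times a square equals `2^m * (-2)^m`. -/
theorem det_swap (m : ℕ) : ∃ h : F,
    h ^ 2 * (swapM F m).det =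
      2 ^ m * (-2) ^ m := by
  obtain ⟨H, hH⟩ : ∃ H : Matrix (Fin m ⊕ Fin m) (Fin m ⊕ Fin m) F,
      H = Matrix.fromBlocks (1 : Matrix (Fin m) (Fin m) F) (1 : Matrix (Fin m) (Fin m) F)
        (1 : Matrix (Fin m) (Fin m) F) (-1 : Matrix (Fin m) (Fin m) F) := ⟨_, rfl⟩
  have hHt : H.transpose = H := by
    rw [hH, Matrix.fromBlocks_transpose]
    simp
  have key : H * swapM F m * H.transpose =
      Matrix.fromBlocks ((2 : F) • (1 : Matrix (Fin m) (Fin m) F)) 0 0
        ((-2 : F) • (1 : Matrix (Fin m) (Fin m) F)) := by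
    rw [hHt, hH, swapM, Matrix.fromBlocks_multiply, Matrix.fromBlocks_multiply]
    simp only [Matrix.mul_zero, Matrix.mul_one, Matrix.one_mul, zero_add, add_zero,
      Matrix.neg_mul, Matrix.mul_neg, neg_neg]
    congr 1
    · rw [two_smul]
    · simp
    · simp
    · rw [neg_smul, two_smul, neg_add]
  have hdet := congrArg Matrix.det key
  rw [Matrix.det_mul, Matrix.det_mul, Matrix.det_transpose, Matrix.det_fromBlocks_zero₂₁,
    Matrix.det_smul, Matrix.det_smul, Matrix.det_one, Fintype.card_fin, mul_one, mul_one] at hdet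
  refine ⟨H.det, ?_⟩
  rw [← hdet]
  ring

theorem det_zero_block (m : ℕ) (E D : Matrix (Fin m) (Fin m) F) :
    (Matrix.fromBlocks 0 E E.transpose D).det =
      E.det ^ 2 * (swapM F m).det := by
  have key : Matrix.fromBlocks 0 E E.transpose D =
      Matrix.fromBlocks E 0 D E.transpose *
        swapM F m := by
    rw [swapM, Matrix.fromBlocks_multiply]
    simp
  rw [key, Matrix.det_mul, Matrix.det_fromBlocks_zero₁₂, Matrix.det_transpose]
  ring

theorem isSquare_of_W (h2 : (2 : F) ≠ 0) (m : ℕ) (W : Submodule F (Fin (2 * m) → F))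
    (hdim : Module.finrank F W = m) (hW : ∀ w ∈ W, ∑ i, w i ^ 2 = 0) :
    IsSquare ((-1 : F) ^ m) := by
  classical
  -- isotropy
  have hiso : ∀ x ∈ W, ∀ y ∈ W, x ⬝ᵥ y = 0 := by
    intro x hx y hy
    have h1 := hW (x + y) (W.add_mem hx hy)
    have e : ∀ i, (x + y) i ^ 2 = x i ^ 2 + y i ^ 2 + 2 * (x i * y i) := fun i => by
      rw [Pi.add_apply]; ring
    simp_rw [e, Finset.sum_add_distrib, ← Finset.mul_sum] at h1
    rw [hW x hx, hW y hy, zero_add, zero_add] at h1
    exact (mul_eq_zero.1 h1).resolve_left h2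
  obtain ⟨B, hB⟩ : ∃ B : LinearMap.BilinForm F (Fin (2 * m) → F),
      B = Matrix.toBilin' (1 : Matrix (Fin (2 * m)) (Fin (2 * m)) F) := ⟨_, rfl⟩
  have hBapp : ∀ x y, B x y = x ⬝ᵥ y := by
    intro x y
    rw [hB, Matrix.toBilin'_apply', Matrix.one_mulVec]
  -- adapted basis
  obtain ⟨W', hc⟩ := Submodule.exists_isCompl W
  have hdim' : Module.finrank F W' = m := by
    have h1 := Submodule.finrank_add_eq_of_isCompl hc
    rw [Module.finrank_fin_fun, hdim] at h1
    omega
  obtain ⟨b, hb⟩ : ∃ b : Module.Basis (Fin m ⊕ Fin m) F (Fin (2 * m) → F),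
      b = ((Module.finBasisOfFinrankEq F W hdim).prod
        (Module.finBasisOfFinrankEq F W' hdim')).map (Submodule.prodEquivOfIsCompl W W' hc) :=
    ⟨_, rfl⟩
  have hbW : ∀ i : Fin m, b (Sum.inl i) ∈ W := by
    intro i
    rw [hb, Module.Basis.map_apply, Submodule.coe_prodEquivOfIsCompl',
      Module.Basis.prod_apply_inl_fst, Module.Basis.prod_apply_inl_snd]
    simp
  -- orthonormal basis indexed by the sum type
  have hcard : Fintype.card (Fin (2 * m)) = Fintype.card (Fin m ⊕ Fin m) := by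
    simp; ring
  obtain ⟨c₀, hc₀⟩ : ∃ c₀ : Module.Basis (Fin m ⊕ Fin m) F (Fin (2 * m) → F),
      c₀ = (Pi.basisFun F (Fin (2 * m))).reindex (Fintype.equivOfCardEq hcard) := ⟨_, rfl⟩
  have hG0 : LinearMap.BilinForm.toMatrix c₀ B = 1 := by
    ext i j
    rw [LinearMap.BilinForm.toMatrix_apply, hBapp, hc₀, Module.Basis.reindex_apply,
      Module.Basis.reindex_apply, Pi.basisFun_apply, Pi.basisFun_apply, single_dotProduct,
      one_mul, Matrix.one_apply, Pi.single_apply]
    by_cases hij : i = j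
    · subst hij; simp
    · rw [if_neg hij, if_neg]
      intro h
      exact hij ((Fintype.equivOfCardEq hcard).symm.injective h)
  obtain ⟨G, hG⟩ : ∃ G, G = LinearMap.BilinForm.toMatrix b B := ⟨_, rfl⟩
  have hGapp : ∀ i j, G i j = b i ⬝ᵥ b j := by
    intro i j; rw [hG, LinearMap.BilinForm.toMatrix_apply, hBapp]
  have hP := LinearMap.BilinForm.toMatrix_mul_basis_toMatrix c₀ b B
  rw [hG0, Matrix.mul_one, ← hG] at hP
  have hdetP : (c₀.toMatrix ⇑b).det ^ 2 = G.det := by
    rw [← hP, Matrix.det_mul, Matrix.det_transpose]; ring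
  have hPne : (c₀.toMatrix ⇑b).det ≠ 0 := by
    have h1 := congrArg Matrix.det (Module.Basis.toMatrix_mul_toMatrix_flip c₀ b)
    rw [Matrix.det_mul, Matrix.det_one] at h1
    exact left_ne_zero_of_mul_eq_one h1
  -- block form
  have hGblock : G = Matrix.fromBlocks 0 G.toBlocks₁₂ G.toBlocks₁₂.transpose G.toBlocks₂₂ := by
    have h1 : G.toBlocks₁₁ = 0 := by
      ext i j
      rw [Matrix.toBlocks₁₁, Matrix.of_apply, hGapp]
      exact hiso _ (hbW i) _ (hbW j)
    have h2 : G.toBlocks₂₁ = G.toBlocks₁₂.transpose := by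
      ext i j
      rw [Matrix.transpose_apply, Matrix.toBlocks₂₁, Matrix.toBlocks₁₂, Matrix.of_apply,
        Matrix.of_apply, hGapp, hGapp, dotProduct_comm]
    conv_lhs => rw [← Matrix.fromBlocks_toBlocks G]
    rw [h1, h2]
  obtain ⟨h, hh⟩ := det_swap (F := F) m
  have hdet2 := det_zero_block m G.toBlocks₁₂ G.toBlocks₂₂
  rw [← hGblock, ← hdetP] at hdet2
  obtain ⟨j, hj⟩ : ∃ j, j = (swapM F m).det :=
    ⟨_, rfl⟩
  rw [← hj] at hdet2 hh
  obtain ⟨e, he⟩ : ∃ e, e = G.toBlocks₁₂.det := ⟨_, rfl⟩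
  obtain ⟨d, hd⟩ : ∃ d, d = (c₀.toMatrix ⇑b).det := ⟨_, rfl⟩
  rw [← he, ← hd] at hdet2
  rw [← hd] at hPne
  have hene : e ≠ 0 := by
    rintro rfl
    apply hPne
    have : d ^ 2 = 0 := by rw [hdet2]; ring
    exact pow_eq_zero_iff (two_ne_zero) |>.1 this
  have h2m : (2 : F) ^ m ≠ 0 := pow_ne_zero _ h2
  refine ⟨d * h / (e * 2 ^ m), ?_⟩
  have e1 : (-2 : F) ^ m = (-1) ^ m * 2 ^ m := by rw [← mul_pow]; norm_num
  rw [e1] at hh
  field_simp
  have : d ^ 2 * h ^ 2 = e ^ 2 * (2 ^ m * ((-1) ^ m * 2 ^ m)) := by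
    rw [hdet2, ← hh]; ring
  linear_combination (-1 : F) * this

theorem sum_two_mul {M : Type*} [AddCommMonoid M] (n : ℕ) (g : Fin (2 * n) → M) :
    ∑ k, g k = ∑ j : Fin n, (g ⟨j.val, by omega⟩ + g ⟨n + j.val, by omega⟩) := by
  have h : n + n = 2 * n := (two_mul n).symm
  rw [← Fin.sum_congr' g h, Fin.sum_univ_add, Finset.sum_add_distrib]
  rfl

theorem exists_W_of_T (m : ℕ) (T : (Fin m → F) →ₗ[F] (Fin m → F))
    (hT : ∀ x, ∑ j, (T x j) ^ 2 = - ∑ j, (x j) ^ 2) :
    ∃ W : Submodule F (Fin (2 * m) → F), Module.finrank F W = m ∧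
      ∀ w ∈ W, ∑ i, w i ^ 2 = 0 := by
  obtain ⟨φ, hφ⟩ : ∃ φ : (Fin m → F) →ₗ[F] (Fin (2 * m) → F), ∀ x k,
      φ x k = if h : k.val < m then x ⟨k.val, h⟩ else T x ⟨k.val - m, by omega⟩ := by
    refine ⟨{ toFun := fun x k => if h : k.val < m then x ⟨k.val, h⟩
                else T x ⟨k.val - m, by omega⟩
              map_add' := ?_
              map_smul' := ?_ }, fun x k => rfl⟩
    · intro x y
      ext k
      simp only [Pi.add_apply, map_add]
      split_ifs <;> rfl
    · intro c x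
      ext k
      simp only [Pi.smul_apply, map_smul, RingHom.id_apply, smul_eq_mul]
      split_ifs <;> rfl
  have h1 : ∀ x (j : Fin m), φ x ⟨j.val, by omega⟩ = x j := by
    intro x j
    rw [hφ, dif_pos j.isLt]
  have h2 : ∀ x (j : Fin m), φ x ⟨m + j.val, by omega⟩ = T x j := by
    intro x j
    rw [hφ, dif_neg (by simp)]
    simp
  have hinj : Function.Injective φ := by
    intro x y hxy
    ext j
    rw [← h1 x j, ← h1 y j, hxy]
  refine ⟨LinearMap.range φ, ?_, ?_⟩
  · rw [LinearMap.finrank_range_of_inj hinj, Module.finrank_fin_fun]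
  · rintro _ ⟨x, rfl⟩
    rw [sum_two_mul]
    simp_rw [h1, h2]
    rw [Finset.sum_add_distrib, hT]
    ring

theorem exists_T_A (m : ℕ) (i : F) (hi : i * i = -1) :
    ∃ T : (Fin m → F) →ₗ[F] (Fin m → F), ∀ x, ∑ j, (T x j) ^ 2 = - ∑ j, (x j) ^ 2 := by
  refine ⟨i • LinearMap.id, ?_⟩
  intro x
  simp only [LinearMap.smul_apply, LinearMap.id_coe, id_eq, Pi.smul_apply, smul_eq_mul]
  rw [← Finset.sum_neg_distrib]
  apply Finset.sum_congr rfl
  intro j _
  have : (i * x j) ^ 2 = (i * i) * (x j) ^ 2 := by ring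
  rw [this, hi]; ring

theorem exists_T_B (r : ℕ) (a b : F) (hab : a ^ 2 + b ^ 2 + 1 = 0) :
    ∃ T : (Fin (2 * r) → F) →ₗ[F] (Fin (2 * r) → F),
      ∀ x, ∑ j, (T x j) ^ 2 = - ∑ j, (x j) ^ 2 := by
  obtain ⟨T, hT⟩ : ∃ T : (Fin (2 * r) → F) →ₗ[F] (Fin (2 * r) → F), ∀ x k,
      T x k = if h : k.val < r then a * x k - b * x ⟨k.val + r, by omega⟩
        else b * x ⟨k.val - r, by omega⟩ + a * x k := by
    refine ⟨{ toFun := fun x k => if h : k.val < r then a * x k - b * x ⟨k.val + r, by omega⟩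
                else b * x ⟨k.val - r, by omega⟩ + a * x k
              map_add' := ?_
              map_smul' := ?_ }, fun x k => rfl⟩
    · intro x y
      ext k
      simp only [Pi.add_apply]
      split_ifs <;> ring
    · intro c x
      ext k
      simp only [Pi.smul_apply, RingHom.id_apply, smul_eq_mul]
      split_ifs <;> ring
  refine ⟨T, ?_⟩
  intro x
  have h1 : ∀ j : Fin r, T x ⟨j.val, by omega⟩ =
      a * x ⟨j.val, by omega⟩ - b * x ⟨r + j.val, by omega⟩ := by
    intro j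
    rw [hT, dif_pos j.isLt]
    simp [add_comm]
  have h2 : ∀ j : Fin r, T x ⟨r + j.val, by omega⟩ =
      b * x ⟨j.val, by omega⟩ + a * x ⟨r + j.val, by omega⟩ := by
    intro j
    rw [hT, dif_neg (by simp)]
    simp
  rw [sum_two_mul, sum_two_mul r (fun j => (x j) ^ 2), ← Finset.sum_neg_distrib]
  apply Finset.sum_congr rfl
  intro j _
  rw [h1, h2]
  have hab' : a ^ 2 + b ^ 2 = -1 := by linear_combination hab
  have : (a * x ⟨j.val, by omega⟩ - b * x ⟨r + j.val, by omega⟩) ^ 2 +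
      (b * x ⟨j.val, by omega⟩ + a * x ⟨r + j.val, by omega⟩) ^ 2 =
      (a ^ 2 + b ^ 2) * ((x ⟨j.val, by omega⟩) ^ 2 + (x ⟨r + j.val, by omega⟩) ^ 2) := by ring
  rw [this, hab']
  ring

end

/-- Over a finite field of odd order q, the form x_1^2 + ... + x_(2m)^2 has a totally isotropic subspace of dimension m (plus type) unless q ≡ 3 (mod 4) and m is odd, in which case it does not (minus type). -/
theorem result {F : Type*} [Field F] [Fintype F] (h2 : (2 : F) ≠ 0) (m : ℕ) (hm : 1 ≤ m) : (∃ W : Submodule F (Fin (2 * m) → F), Module.finrank F W = m ∧ ∀ w ∈ W, ∑ i, w i ^ 2 = 0) ↔ ¬ (Fintype.card F % 4 = 3 ∧ Odd m) := by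
  constructor
  · rintro ⟨W, hdim, hW⟩ ⟨hq, hodd⟩
    have h1 := isSquare_of_W h2 m W hdim hW
    rw [hodd.neg_one_pow] at h1
    exact (FiniteField.isSquare_neg_one_iff.1 h1) hq
  · intro h
    by_cases hq : Fintype.card F % 4 = 3
    · have hev : ¬ Odd m := fun ho => h ⟨hq, ho⟩
      rw [Nat.not_odd_iff_even] at hev
      obtain ⟨r, hr⟩ := hev
      have hr' : m = 2 * r := by omega
      subst hr'
      have hodd : Fintype.card F % 2 = 1 := by omega
      obtain ⟨a, b, hab⟩ := FiniteField.exists_root_sum_quadratic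
        (f := Polynomial.C (1 : F) * Polynomial.X ^ 2 + Polynomial.C 0 * Polynomial.X +
          Polynomial.C 0)
        (g := Polynomial.C (1 : F) * Polynomial.X ^ 2 + Polynomial.C 0 * Polynomial.X +
          Polynomial.C 1)
        (Polynomial.degree_quadratic one_ne_zero) (Polynomial.degree_quadratic one_ne_zero) hodd
      simp only [Polynomial.eval_add, Polynomial.eval_mul, Polynomial.eval_C, Polynomial.eval_pow,
        Polynomial.eval_X, zero_mul, add_zero, one_mul] at hab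
      obtain ⟨T, hT⟩ := exists_T_B r a b (by linear_combination hab)
      exact exists_W_of_T (2 * r) T hT
    · obtain ⟨i, hi⟩ := FiniteField.isSquare_neg_one_iff.2 hq
      obtain ⟨T, hT⟩ := exists_T_A m i hi.symm
      exact exists_W_of_T m T hT

end Cfsg.Agent.S0759
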