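import Cfsg.Statements.S0760
import Mathlib
-- import your own Cfsg.Agent.* helpers here

set_option autoImplicit false
open Cfsg

namespace Cfsg.Agent.S0760

section
variable {F V : Type*} [Field F] [AddCommGroup V] [Module F V] [FiniteDimensional F V]

theorem polar_zero_of_sing (Q : QuadraticForm F V) (W : Submodule F V)
    (h : ∀ w ∈ W, Q w = 0) (x y : V) (hx : x ∈ W) (hy : y ∈ W) :
    QuadraticMap.polar Q x y = 0 := by
  unfold QuadraticMap.polar
  rw [h _ (W.add_mem hx hy), h _ hx, h _ hy]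
  simp

theorem le_orth_self (Q : QuadraticForm F V) (W : Submodule F V)
    (h : ∀ w ∈ W, Q w = 0) : W ≤ LinearMap.BilinForm.orthogonal (QuadraticMap.polarBilin Q) W := by
  intro w hw
  rw [LinearMap.BilinForm.mem_orthogonal_iff]
  intro n hn
  change QuadraticMap.polarBilin Q n w = 0
  rw [QuadraticMap.polarBilin_apply_apply]
  exact polar_zero_of_sing Q W h n w hn hw

theorem dim_le (Q : QuadraticForm F V)
    (hQ : (QuadraticMap.polarBilin Q).Nondegenerate) (W₁ W₂ : Submodule F V)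
    (h₁ : ∀ w ∈ W₁, Q w = 0) (h₂ : ∀ w ∈ W₂, Q w = 0)
    (hmax₁ : ∀ W : Submodule F V, W₁ ≤ W → (∀ w ∈ W, Q w = 0) → W = W₁) :
    Module.finrank F W₂ ≤ Module.finrank F W₁ := by
  obtain ⟨B, hB⟩ : ∃ B : LinearMap.BilinForm F V, B = QuadraticMap.polarBilin Q := ⟨_, rfl⟩
  have hBapp : ∀ x y, B x y = QuadraticMap.polar Q x y := by
    intro x y; rw [hB]; exact QuadraticMap.polarBilin_apply_apply Q x y
  have hBnd : B.Nondegenerate := by rw [hB]; exact hQ
  -- (a)
  have ha : W₂ ⊓ B.orthogonal W₁ ≤ W₁ ⊓ W₂ := by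
    intro w hw
    obtain ⟨hw2, hwo⟩ := Submodule.mem_inf.1 hw
    refine Submodule.mem_inf.2 ⟨?_, hw2⟩
    have hU : ∀ u ∈ W₁ ⊔ Submodule.span F {w}, Q u = 0 := by
      intro u hu
      obtain ⟨x, hx, y, hy, rfl⟩ := Submodule.mem_sup.1 hu
      obtain ⟨c, rfl⟩ := Submodule.mem_span_singleton.1 hy
      rw [QuadraticMap.map_add (⇑Q), h₁ x hx, QuadraticMap.map_smul, h₂ w hw2,
        QuadraticMap.polar_smul_right, ← hBapp,
        LinearMap.BilinForm.mem_orthogonal_iff.1 hwo x hx]
      simp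
    have := hmax₁ _ le_sup_left hU
    rw [← this]
    exact Submodule.mem_sup_right (Submodule.mem_span_singleton_self w)
  -- (b)
  have hb : W₂ ⊔ B.orthogonal W₁ ≤ B.orthogonal (W₁ ⊓ W₂) := by
    apply sup_le
    · intro w hw
      rw [LinearMap.BilinForm.mem_orthogonal_iff]
      intro d hd
      change B d w = 0
      rw [hBapp]
      exact polar_zero_of_sing Q W₂ h₂ d w (Submodule.mem_inf.1 hd).2 hw
    · exact LinearMap.BilinForm.orthogonal_le inf_le_left
  have e1 := Submodule.finrank_sup_add_finrank_inf_eq W₂ (B.orthogonal W₁)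
  have e2 := Submodule.finrank_mono ha
  have e3 := Submodule.finrank_mono hb
  have e4 := LinearMap.BilinForm.finrank_orthogonal hBnd W₁
  have e5 := LinearMap.BilinForm.finrank_orthogonal hBnd (W₁ ⊓ W₂)
  have e6 : Module.finrank F W₁ ≤ Module.finrank F V := Submodule.finrank_le _
  have e7 : Module.finrank F (W₁ ⊓ W₂ : Submodule F V) ≤ Module.finrank F V :=
    Submodule.finrank_le _
  omega

end

/-- For a quadratic form with non-degenerate polar form over a finite field, any two maximal totally singular subspaces have the same dimension, which is at most half the dimension of the space. -/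
theorem result {F V : Type*} [Field F] [Finite F] [AddCommGroup V] [Module F V] [FiniteDimensional F V] (Q : QuadraticForm F V) (hQ : (QuadraticMap.polarBilin Q).Nondegenerate) (W₁ W₂ : Submodule F V) (h₁ : ∀ w ∈ W₁, Q w = 0) (h₂ : ∀ w ∈ W₂, Q w = 0) (hmax₁ : ∀ W : Submodule F V, W₁ ≤ W → (∀ w ∈ W, Q w = 0) → W = W₁) (hmax₂ : ∀ W : Submodule F V, W₂ ≤ W → (∀ w ∈ W, Q w = 0) → W = W₂) : Module.finrank F W₁ = Module.finrank F W₂ ∧ 2 * Module.finrank F W₁ ≤ Module.finrank F V := by
  have e1 := dim_le Q hQ W₁ W₂ h₁ h₂ hmax₁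
  have e2 := dim_le Q hQ W₂ W₁ h₂ h₁ hmax₂
  have e3 := Submodule.finrank_mono (le_orth_self Q W₁ h₁)
  have e4 := LinearMap.BilinForm.finrank_orthogonal hQ W₁
  have e6 : Module.finrank F W₁ ≤ Module.finrank F V := Submodule.finrank_le _
  refine ⟨le_antisymm e2 e1, ?_⟩
  omega

end Cfsg.Agent.S0760
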