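import Cfsg.Statements.S0761
import Mathlib

set_option autoImplicit false
set_option linter.style.haveILetI false
open Cfsg

namespace Cfsg.Agent.S0761

/-- Hyperbolic partners: let B be a non-degenerate bilinear form on a finite-dimensional space, either alternating, or symmetric with 2 ≠ 0. If Z is a subspace on which B vanishes, x ∉ Z is isotropic and orthogonal to Z, then there is an isotropic y with B x y = 1 which is orthogonal to Z. -/
theorem result {F V : Type*} [Field F] [AddCommGroup V] [Module F V] [FiniteDimensional F V] (B : LinearMap.BilinForm F V) (hB : B.Nondegenerate) (hform : B.IsAlt ∨ (B.IsSymm ∧ (2 : F) ≠ 0)) (x : V) (Z : Submodule F V) (hxZ : x ∉ Z) (hx : B x x = 0) (hxz : ∀ z ∈ Z, B x z = 0) (hZ : ∀ z ∈ Z, ∀ z' ∈ Z, B z z' = 0) : ∃ y : V, B y y = 0 ∧ B x y = 1 ∧ ∀ z ∈ Z, B z y = 0 := by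
  obtain ⟨f, hfx, hfZ⟩ := Submodule.exists_dual_map_eq_bot_of_notMem hxZ inferInstance
  have hfz : ∀ z ∈ Z, f z = 0 := by
    intro z hz
    have : f z ∈ Z.map f := ⟨z, hz, rfl⟩
    rw [hfZ] at this
    exact (Submodule.mem_bot F).1 this
  set φ : Module.Dual F V := (f x)⁻¹ • f with hφ
  have hφx : φ x = 1 := by
    rw [hφ, LinearMap.smul_apply, smul_eq_mul, inv_mul_cancel₀ hfx]
  have hφz : ∀ z ∈ Z, φ z = 0 := by
    intro z hz
    rw [hφ, LinearMap.smul_apply, hfz z hz, smul_zero]
  set y₁ := (B.toDual hB).symm φ with hy₁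
  have hy₁v : ∀ v, B y₁ v = φ v := fun v => LinearMap.BilinForm.apply_toDual_symm_apply φ v
  rcases hform with halt | ⟨hsymm, h2⟩
  · refine ⟨-y₁, halt.self_eq_zero _, ?_, ?_⟩
    · rw [map_neg, halt.neg_eq x y₁, hy₁v, hφx]
    · intro z hz
      rw [map_neg, halt.neg_eq z y₁, hy₁v, hφz z hz]
  · have hs : ∀ u v, B u v = B v u := fun u v => hsymm.eq u v
    set c : F := -(B y₁ y₁) / 2 with hc
    refine ⟨y₁ + c • x, ?_, ?_, ?_⟩
    · simp only [map_add, map_smul, LinearMap.add_apply, LinearMap.smul_apply, smul_eq_mul]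
      rw [hs x y₁, hy₁v x, hφx, hx, hc]
      field_simp
      ring
    · simp only [map_add, map_smul, smul_eq_mul]
      rw [hs x y₁, hy₁v x, hφx, hx]
      ring
    · intro z hz
      simp only [map_add, map_smul, smul_eq_mul]
      rw [hs z y₁, hy₁v z, hφz z hz, hs z x, hxz z hz]
      ring

end Cfsg.Agent.S0761
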