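import Cfsg.Statements.S0762
import Mathlib

set_option autoImplicit false
set_option linter.style.haveILetI false
open Cfsg

namespace Cfsg.Agent.S0762

/-- In characteristic two over a finite field, a quadratic form on a space of dimension at least 3 vanishes on some non-zero vector. -/
theorem result {F V : Type*} [Field F] [Finite F] [CharP F 2] [AddCommGroup V] [Module F V] [FiniteDimensional F V] (Q : QuadraticForm F V) (h3 : 3 ≤ Module.finrank F V) : ∃ v : V, v ≠ 0 ∧ Q v = 0 := by
  classical
  have hpos : 0 < Module.finrank F V := by omega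
  obtain ⟨v0, hv0⟩ := Module.finrank_pos_iff_exists_ne_zero.1 hpos
  by_cases hQ0 : Q v0 = 0
  · exact ⟨v0, hv0, hQ0⟩
  set φ : V →ₗ[F] F := Q.polarBilin v0 with hφ
  obtain ⟨u, hu, hu'⟩ : ∃ u, φ u = 0 ∧ u ∉ Submodule.span F {v0} := by
    by_contra hcon
    push Not at hcon
    have hle : LinearMap.ker φ ≤ Submodule.span F {v0} := by
      intro u hu
      exact hcon u (LinearMap.mem_ker.1 hu)
    have h1 := Submodule.finrank_mono hle
    rw [finrank_span_singleton hv0] at h1
    have h2 := LinearMap.finrank_range_add_finrank_ker φ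
    have h4 : Module.finrank F (LinearMap.range φ) ≤ 1 := by
      have := Submodule.finrank_le (LinearMap.range φ)
      rwa [Module.finrank_self] at this
    omega
  have hchar : ringChar F = 2 := ringChar.eq F 2
  obtain ⟨a, ha⟩ := FiniteField.isSquare_of_char_two hchar (Q u)
  obtain ⟨b, hb⟩ := FiniteField.isSquare_of_char_two hchar (Q v0)
  have hb0 : b ≠ 0 := by
    rintro rfl
    apply hQ0
    rw [hb, mul_zero]
  have h20 : (2 : F) = 0 := by
    have := CharP.cast_eq_zero F 2
    exact_mod_cast this
  refine ⟨a • v0 + b • u, ?_, ?_⟩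
  · intro h0
    apply hu'
    rw [Submodule.mem_span_singleton]
    refine ⟨-(a / b), ?_⟩
    have : b • u = -(a • v0) := eq_neg_of_add_eq_zero_right h0
    have h5 : u = b⁻¹ • (b • u) := by rw [smul_smul, inv_mul_cancel₀ hb0, one_smul]
    rw [h5, this, smul_neg, smul_smul, neg_smul]
    congr 2
    field_simp
  · have hpol : QuadraticMap.polar (⇑Q) v0 u = 0 := by
      rw [← QuadraticMap.polarBilin_apply_apply]
      exact hu
    rw [QuadraticMap.map_add (⇑Q), QuadraticMap.map_smul, QuadraticMap.map_smul,
      QuadraticMap.polar_smul_left, QuadraticMap.polar_smul_right, hpol]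
    simp only [smul_eq_mul, mul_zero, add_zero]
    rw [ha, hb]
    linear_combination (a * a * b * b) * h20

end Cfsg.Agent.S0762
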