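import Cfsg.Statements.S0763
import Mathlib

set_option autoImplicit false
set_option linter.style.haveILetI false
open Cfsg

namespace Cfsg.Agent.S0763

/-- Binary quadratic forms in characteristic two over a finite field: if Q is a quadratic form on a 2-dimensional space whose polar form is non-degenerate, then either there are vectors v, w with Q v = Q w = 0 and polar value 1 (Q is xy in these coordinates), or there are v, w and μ with Q v = 1, Q w = μ, polar value 1 and x² + x + μ without roots in F (Q is x² + xy + μy²). -/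
theorem result {F V : Type*} [Field F] [Finite F] [CharP F 2] [AddCommGroup V] [Module F V] (Q : QuadraticForm F V) (h2 : Module.finrank F V = 2) (hQ : (QuadraticMap.polarBilin Q).Nondegenerate) : (∃ v w : V, LinearIndependent F ![v, w] ∧ Q v = 0 ∧ Q w = 0 ∧ QuadraticMap.polar Q v w = 1) ∨ (∃ (v w : V) (μ : F), LinearIndependent F ![v, w] ∧ (∀ x : F, x ^ 2 + x + μ ≠ 0) ∧ Q v = 1 ∧ Q w = μ ∧ QuadraticMap.polar Q v w = 1) := by
  classical
  haveI : Module.Finite F V := Module.finite_of_finrank_pos (by omega)
  have hchar : ringChar F = 2 := ringChar.eq F 2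
  have h20 : (2 : F) = 0 := by
    have := CharP.cast_eq_zero F 2
    exact_mod_cast this
  have hBself : ∀ x, QuadraticMap.polar (⇑Q) x x = 0 := by
    intro x
    rw [QuadraticMap.polar_self, two_smul, ← two_mul, h20, zero_mul]
  have hpol0 : ∀ x, QuadraticMap.polar (⇑Q) x 0 = 0 := by
    intro x
    simp [QuadraticMap.polar]
  have key : ∀ v : V, v ≠ 0 → ∃ w, QuadraticMap.polar (⇑Q) v w = 1 := by
    intro v hv
    have : ∃ y, QuadraticMap.polarBilin Q v y ≠ 0 := by
      by_contra hcon
      push Not at hcon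
      exact hv (hQ.1 v hcon)
    obtain ⟨y, hy⟩ := this
    rw [QuadraticMap.polarBilin_apply_apply] at hy
    refine ⟨(QuadraticMap.polar (⇑Q) v y)⁻¹ • y, ?_⟩
    rw [QuadraticMap.polar_smul_right, smul_eq_mul, inv_mul_cancel₀ hy]
  have hli : ∀ v w, QuadraticMap.polar (⇑Q) v w = 1 → LinearIndependent F ![v, w] := by
    intro v w hvw
    rw [LinearIndependent.pair_iff]
    intro s t hst
    have h1 : QuadraticMap.polar (⇑Q) v (s • v + t • w) = 0 := by rw [hst]; exact hpol0 v
    have h3 : QuadraticMap.polar (⇑Q) w (s • v + t • w) = 0 := by rw [hst]; exact hpol0 w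
    rw [QuadraticMap.polar_add_right, QuadraticMap.polar_smul_right, QuadraticMap.polar_smul_right,
      hBself, hvw] at h1
    rw [QuadraticMap.polar_add_right, QuadraticMap.polar_smul_right, QuadraticMap.polar_smul_right,
      hBself, QuadraticMap.polar_comm, hvw] at h3
    simp only [smul_eq_mul, mul_zero, mul_one, zero_add, add_zero] at h1 h3
    exact ⟨h3, h1⟩
  by_cases hsing : ∃ u : V, u ≠ 0 ∧ Q u = 0
  · left
    obtain ⟨u, hu0, hQu⟩ := hsing
    obtain ⟨w, hw⟩ := key u hu0
    have hpol : QuadraticMap.polar (⇑Q) u (w + (-(Q w)) • u) = 1 := by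
      rw [QuadraticMap.polar_add_right, QuadraticMap.polar_smul_right, hBself, hw]
      simp
    refine ⟨u, w + (-(Q w)) • u, hli _ _ hpol, hQu, ?_, hpol⟩
    rw [QuadraticMap.map_add (⇑Q), QuadraticMap.map_smul, hQu, QuadraticMap.polar_smul_right,
      QuadraticMap.polar_comm, hw]
    simp
  · right
    push Not at hsing
    obtain ⟨v0, hv0⟩ : ∃ v : V, v ≠ 0 := by
      have : 0 < Module.finrank F V := by omega
      exact Module.finrank_pos_iff_exists_ne_zero.1 this
    have hQv0 : Q v0 ≠ 0 := hsing v0 hv0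
    obtain ⟨s, hs⟩ := FiniteField.isSquare_of_char_two hchar (Q v0)
    have hs0 : s ≠ 0 := by
      rintro rfl
      apply hQv0
      rw [hs, mul_zero]
    have hv : s⁻¹ • v0 ≠ 0 := smul_ne_zero (inv_ne_zero hs0) hv0
    have hQv : Q (s⁻¹ • v0) = 1 := by
      rw [QuadraticMap.map_smul, hs, smul_eq_mul]
      field_simp
    obtain ⟨w, hw⟩ := key _ hv
    have hind := hli _ w hw
    refine ⟨s⁻¹ • v0, w, Q w, hind, ?_, hQv, rfl, hw⟩
    intro x hx
    have hval : Q (x • (s⁻¹ • v0) + w) = x ^ 2 + x + Q w := by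
      rw [QuadraticMap.map_add (⇑Q), QuadraticMap.map_smul, QuadraticMap.polar_smul_left, hQv, hw]
      simp only [smul_eq_mul, mul_one]
      ring
    have hne : x • (s⁻¹ • v0) + w ≠ 0 := by
      intro h0
      have := (LinearIndependent.pair_iff.1 hind) x 1 (by rwa [one_smul])
      exact one_ne_zero this.2
    exact hsing _ hne (hval.trans hx)

end Cfsg.Agent.S0763
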