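import Cfsg.Statements.S0770
import Mathlib

set_option autoImplicit false
set_option linter.style.haveILetI false
open Cfsg

namespace Cfsg.Agent.S0770

open Matrix

/-- the diagonal torus -/
abbrev torus (F : Type*) [Field F] (n : ℕ) : Subgroup (Matrix.GeneralLinearGroup (Fin n) F) :=
  (Units.map (Matrix.diagonalRingHom (Fin n) F).toMonoidHom).range

theorem coe_mul_inv {F : Type*} [Field F] (n : ℕ) (X : Matrix.GeneralLinearGroup (Fin n) F) :
    (X : Matrix (Fin n) (Fin n) F) * ((X⁻¹ : Matrix.GeneralLinearGroup (Fin n) F) : Matrix (Fin n) (Fin n) F) = 1 :=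
  Units.mul_inv X

theorem coe_inv_mul {F : Type*} [Field F] (n : ℕ) (X : Matrix.GeneralLinearGroup (Fin n) F) :
    ((X⁻¹ : Matrix.GeneralLinearGroup (Fin n) F) : Matrix (Fin n) (Fin n) F) * (X : Matrix (Fin n) (Fin n) F) = 1 :=
  Units.inv_mul X

theorem mem_torus_iff {F : Type*} [Field F] (n : ℕ) (h : Matrix.GeneralLinearGroup (Fin n) F) :
    h ∈ torus F n ↔ ∀ i j : Fin n, i ≠ j → (h : Matrix (Fin n) (Fin n) F) i j = 0 := by
  constructor
  · rintro ⟨u, rfl⟩ i j hij
    show Matrix.diagonal (u : Fin n → F) i j = 0
    exact Matrix.diagonal_apply_ne _ hij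
  · intro hd
    have hdiag : ∀ i, (h : Matrix (Fin n) (Fin n) F) i i * ((h⁻¹ : Matrix.GeneralLinearGroup (Fin n) F) : Matrix (Fin n) (Fin n) F) i i = 1 := by
      intro i
      have := congrFun (congrFun (coe_mul_inv n h) i) i
      rw [Matrix.mul_apply, Matrix.one_apply_eq] at this
      rw [← this]
      symm
      apply Finset.sum_eq_single i
      · intro j _ hji
        rw [hd i j (Ne.symm hji), zero_mul]
      · intro hi; exact absurd (Finset.mem_univ i) hi
    have hne : ∀ i, (h : Matrix (Fin n) (Fin n) F) i i ≠ 0 := by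
      intro i h0
      have := hdiag i
      rw [h0, zero_mul] at this
      exact zero_ne_one this
    let u : (Fin n → F)ˣ := ⟨fun i => (h : Matrix (Fin n) (Fin n) F) i i,
      fun i => ((h : Matrix (Fin n) (Fin n) F) i i)⁻¹,
      by funext i; simp [hne i], by funext i; simp [hne i]⟩
    refine ⟨u, ?_⟩
    apply Units.ext
    show Matrix.diagonal (fun i => (h : Matrix (Fin n) (Fin n) F) i i) = (h : Matrix (Fin n) (Fin n) F)
    ext i j
    by_cases hij : i = j
    · subst hij; simp
    · rw [Matrix.diagonal_apply_ne _ hij, hd i j hij]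

theorem row_ne_zero {F : Type*} [Field F] (n : ℕ) (g : Matrix.GeneralLinearGroup (Fin n) F) (i : Fin n) :
    ∃ j, (g : Matrix (Fin n) (Fin n) F) i j ≠ 0 := by
  by_contra hcon
  push Not at hcon
  have := congrFun (congrFun (coe_mul_inv n g) i) i
  rw [Matrix.mul_apply, Matrix.one_apply_eq] at this
  rw [Finset.sum_eq_zero (fun j _ => by rw [hcon j, zero_mul])] at this
  exact zero_ne_one this

theorem col_ne_zero {F : Type*} [Field F] (n : ℕ) (g : Matrix.GeneralLinearGroup (Fin n) F) (j : Fin n) :
    ∃ i, (g : Matrix (Fin n) (Fin n) F) i j ≠ 0 := by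
  by_contra hcon
  push Not at hcon
  have := congrFun (congrFun (coe_inv_mul n g) j) j
  rw [Matrix.mul_apply, Matrix.one_apply_eq] at this
  rw [Finset.sum_eq_zero (fun i _ => by rw [hcon i, mul_zero])] at this
  exact zero_ne_one this

/-- For a field with at least 3 elements, an invertible matrix normalises the subgroup of invertible diagonal matrices of GL_n if and only if it is monomial (exactly one non-zero entry in each row). -/
theorem result {F : Type*} [Field F] (hF : ∃ a : F, a ≠ 0 ∧ a ≠ 1) (n : ℕ) (g : Matrix.GeneralLinearGroup (Fin n) F) : g ∈ Subgroup.normalizer ((Units.map (Matrix.diagonalRingHom (Fin n) F).toMonoidHom).range : Subgroup (Matrix.GeneralLinearGroup (Fin n) F)) ↔ ∀ i : Fin n, ∃! j : Fin n, (g : Matrix (Fin n) (Fin n) F) i j ≠ 0 := by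
  classical
  set G : Matrix (Fin n) (Fin n) F := (g : Matrix (Fin n) (Fin n) F) with hG
  set Gi : Matrix (Fin n) (Fin n) F := ((g⁻¹ : Matrix.GeneralLinearGroup (Fin n) F) : Matrix (Fin n) (Fin n) F) with hGi
  have hGGi : G * Gi = 1 := coe_mul_inv n g
  have hGiG : Gi * G = 1 := coe_inv_mul n g
  rw [Subgroup.mem_normalizer_iff]
  constructor
  · intro hnorm i
    obtain ⟨j, hj⟩ := row_ne_zero n g i
    refine ⟨j, hj, ?_⟩
    intro j' hj'
    by_contra hne
    obtain ⟨a, ha0, ha1⟩ := hF
    -- the diagonal element with a at position j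
    let u : (Fin n → F)ˣ := ⟨fun k => if k = j then a else 1, fun k => if k = j then a⁻¹ else 1,
      by funext k; by_cases hk : k = j <;> simp [hk, ha0],
      by funext k; by_cases hk : k = j <;> simp [hk, ha0]⟩
    set d : Matrix.GeneralLinearGroup (Fin n) F := Units.map (Matrix.diagonalRingHom (Fin n) F).toMonoidHom u with hd
    have hdT : d ∈ torus F n := ⟨u, rfl⟩
    have hcoe : (d : Matrix (Fin n) (Fin n) F) = Matrix.diagonal (fun k => if k = j then a else 1) := rfl
    have hE := (mem_torus_iff n _).1 ((hnorm d).1 hdT)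
    set E : Matrix (Fin n) (Fin n) F := ((g * d * g⁻¹ : Matrix.GeneralLinearGroup (Fin n) F) : Matrix (Fin n) (Fin n) F) with hEdef
    have hEG : E * G = G * (d : Matrix (Fin n) (Fin n) F) := by
      have : E = G * (d : Matrix (Fin n) (Fin n) F) * Gi := rfl
      rw [this, Matrix.mul_assoc, hGiG, Matrix.mul_one]
    have hentry : ∀ l, E i i * G i l = G i l * (if l = j then a else 1) := by
      intro l
      have := congrFun (congrFun hEG i) l
      rw [Matrix.mul_apply, hcoe, Matrix.mul_diagonal] at this
      rw [← this]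
      symm
      apply Finset.sum_eq_single i
      · intro k _ hki
        rw [hE i k (Ne.symm hki), zero_mul]
      · intro hi; exact absurd (Finset.mem_univ i) hi
    have h1 := hentry j
    have h2 := hentry j'
    rw [if_pos rfl] at h1
    rw [if_neg hne, mul_one] at h2
    have hEa : E i i = a := by
      have : E i i * G i j = a * G i j := by rw [h1, mul_comm]
      exact mul_right_cancel₀ hj this
    have hE1 : E i i = 1 := by
      have : E i i * G i j' = 1 * G i j' := by rw [h2, one_mul]
      exact mul_right_cancel₀ hj' this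
    exact ha1 (hEa.symm.trans hE1)
  · intro hmono h
    choose π hπ hπu using hmono
    have hzero : ∀ i l, l ≠ π i → G i l = 0 := by
      intro i l hl
      by_contra hne
      exact hl (hπu i l hne)
    have hrow : ∀ (H : Matrix (Fin n) (Fin n) F) i l, (G * H) i l = G i (π i) * H (π i) l := by
      intro H i l
      rw [Matrix.mul_apply]
      apply Finset.sum_eq_single (π i)
      · intro k _ hk
        rw [hzero i k hk, zero_mul]
      · intro hi; exact absurd (Finset.mem_univ _) hi
    set H : Matrix (Fin n) (Fin n) F := (h : Matrix (Fin n) (Fin n) F) with hH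
    have hcoe : ((g * h * g⁻¹ : Matrix.GeneralLinearGroup (Fin n) F) : Matrix (Fin n) (Fin n) F) = G * H * Gi := rfl
    rw [mem_torus_iff, mem_torus_iff, hcoe]
    constructor
    · intro hd0
      have hd : ∀ i j : Fin n, i ≠ j → H i j = 0 := hd0
      -- G * H = D' * G
      have hcomm : G * H = Matrix.diagonal (fun i => H (π i) (π i)) * G := by
        ext i l
        rw [hrow, Matrix.diagonal_mul]
        by_cases hl : l = π i
        · subst hl; ring
        · rw [hzero i l hl, hd (π i) l (Ne.symm hl)]; ring
      intro i j hij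
      rw [hcomm, Matrix.mul_assoc, hGGi, Matrix.mul_one, Matrix.diagonal_apply_ne _ hij]
    · intro hE k l hkl
      obtain ⟨i, hi⟩ := col_ne_zero n g k
      have hk : k = π i := hπu i k hi
      have hEG : (G * H * Gi) * G = G * H := by
        rw [Matrix.mul_assoc, hGiG, Matrix.mul_one]
      have h1 := congrFun (congrFun hEG i) l
      rw [hrow H i l, Matrix.mul_apply] at h1
      have h2 : ∑ j, (G * H * Gi) i j * G j l = (G * H * Gi) i i * G i l := by
        apply Finset.sum_eq_single i
        · intro j _ hji
          rw [hE i j (Ne.symm hji), zero_mul]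
        · intro hi'; exact absurd (Finset.mem_univ i) hi'
      rw [h2, hzero i l (by rw [← hk]; exact Ne.symm hkl), mul_zero] at h1
      rw [← hk] at h1
      rcases mul_eq_zero.1 h1.symm with h3 | h3
      · exact absurd h3 hi
      · exact h3

end Cfsg.Agent.S0770
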