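import Cfsg.Statements.S0771
import Mathlib
-- import your own Cfsg.Agent.* helpers here

set_option autoImplicit false
open Cfsg

namespace Cfsg.Agent.S0771

open Matrix

section
set_option linter.unusedSectionVars false
variable {F : Type*} [Field F] (n k : ℕ) (hk : k ≤ n)

/-- the index splitting -/
def idx : Fin n ≃ Fin k ⊕ Fin (n - k) :=
  (finCongr (by omega : n = k + (n - k))).trans finSumFinEquiv.symm

theorem idx_symm_inl (j : Fin k) : (((idx n k hk).symm (Sum.inl j) : Fin n) : ℕ) = j := by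
  simp [idx]

theorem idx_symm_inr (i : Fin (n - k)) :
    (((idx n k hk).symm (Sum.inr i) : Fin n) : ℕ) = k + i := by
  simp [idx]

theorem idx_cases (i' : Fin n) :
    (∃ j : Fin k, i' = (idx n k hk).symm (Sum.inl j)) ∨
    (∃ i : Fin (n - k), i' = (idx n k hk).symm (Sum.inr i)) := by
  rcases h : idx n k hk i' with j | i
  · left
    exact ⟨j, by rw [← h, Equiv.symm_apply_apply]⟩
  · right
    exact ⟨i, by rw [← h, Equiv.symm_apply_apply]⟩

/-- the standard `k`-subspace -/
def stdS : Set (Fin n → F) := {v : Fin n → F | ∀ i : Fin n, k ≤ (i : ℕ) → v i = 0}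

theorem mem_stdS_iff (v : Fin n → F) :
    v ∈ stdS (F := F) n k ↔ ∀ i : Fin (n - k), v ((idx n k hk).symm (Sum.inr i)) = 0 := by
  constructor
  · intro hv i
    apply hv
    rw [idx_symm_inr]
    omega
  · intro hv i' hi'
    rcases idx_cases n k hk i' with ⟨j, rfl⟩ | ⟨i, rfl⟩
    · exfalso
      rw [idx_symm_inl] at hi'
      have := j.isLt
      omega
    · exact hv i

/-- the standard subspace as a submodule -/
def stdSub : Submodule F (Fin n → F) where
  carrier := stdS n k
  add_mem' := by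
    intro a b ha hb i hi
    rw [Pi.add_apply, ha i hi, hb i hi, add_zero]
  zero_mem' := by
    intro i _
    rfl
  smul_mem' := by
    intro c a ha i hi
    rw [Pi.smul_apply, ha i hi, smul_zero]

/-- the block form of a matrix -/
def blk (M : Matrix (Fin n) (Fin n) F) :
    Matrix (Fin k ⊕ Fin (n - k)) (Fin k ⊕ Fin (n - k)) F :=
  Matrix.reindex (idx n k hk) (idx n k hk) M

theorem blk21_apply (M : Matrix (Fin n) (Fin n) F) (i : Fin (n - k)) (j : Fin k) :
    (blk n k hk M).toBlocks₂₁ i j = M ((idx n k hk).symm (Sum.inr i)) ((idx n k hk).symm (Sum.inl j)) := by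
  rfl

theorem fwd (M : Matrix (Fin n) (Fin n) F) (h21 : (blk n k hk M).toBlocks₂₁ = 0)
    (v : Fin n → F) (hv : v ∈ stdS (F := F) n k) : M *ᵥ v ∈ stdS (F := F) n k := by
  rw [mem_stdS_iff n k hk] at hv ⊢
  intro i
  change ∑ j', M ((idx n k hk).symm (Sum.inr i)) j' * v j' = 0
  apply Finset.sum_eq_zero
  intro j' _
  rcases idx_cases n k hk j' with ⟨j, rfl⟩ | ⟨i2, rfl⟩
  · have := congrFun (congrFun h21 i) j
    rw [blk21_apply] at this
    rw [this]
    simp
  · rw [hv i2, mul_zero]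

theorem mem_stab_iff (g : Matrix.GeneralLinearGroup (Fin n) F) :
    g ∈ Cfsg.stabilizing (Cfsg.glToMat (Fin n) F) (stdS (F := F) n k) ↔
      (blk n k hk (g : Matrix (Fin n) (Fin n) F)).toBlocks₂₁ = 0 := by
  constructor
  · intro hg
    have hg' : ∀ v, v ∈ stdS (F := F) n k ↔ (g : Matrix (Fin n) (Fin n) F) *ᵥ v ∈ stdS (F := F) n k :=
      hg
    ext i j
    rw [blk21_apply]
    have hv : (Pi.single ((idx n k hk).symm (Sum.inl j)) 1 : Fin n → F) ∈ stdS (F := F) n k := by
      rw [mem_stdS_iff n k hk]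
      intro i'
      rw [Pi.single_apply, if_neg]
      intro h
      have := (idx n k hk).symm.injective h
      exact Sum.inr_ne_inl this
    have h1 := (hg' _).1 hv
    rw [Matrix.mulVec_single_one, mem_stdS_iff n k hk] at h1
    exact h1 i
  · intro h21
    have hfwd := fwd n k hk (g : Matrix (Fin n) (Fin n) F) h21
    intro v
    change v ∈ stdS (F := F) n k ↔ (g : Matrix (Fin n) (Fin n) F) *ᵥ v ∈ stdS (F := F) n k
    refine ⟨hfwd v, ?_⟩
    intro hgv
    obtain ⟨L, hL⟩ : ∃ L : (Fin n → F) →ₗ[F] (Fin n → F),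
        L = Matrix.toLin' (g : Matrix (Fin n) (Fin n) F) := ⟨_, rfl⟩
    have hLapp : ∀ x, L x = (g : Matrix (Fin n) (Fin n) F) *ᵥ x := by
      intro x; rw [hL, Matrix.toLin'_apply]
    have hinj : Function.Injective L := by
      intro x y hxy
      rw [hLapp, hLapp] at hxy
      have hinv : ((g⁻¹ : Matrix.GeneralLinearGroup (Fin n) F) : Matrix (Fin n) (Fin n) F) *
          (g : Matrix (Fin n) (Fin n) F) = 1 := by
        rw [← Units.val_mul, inv_mul_cancel, Units.val_one]
      have hx : ((g⁻¹ : Matrix.GeneralLinearGroup (Fin n) F) : Matrix (Fin n) (Fin n) F) *ᵥ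
          ((g : Matrix (Fin n) (Fin n) F) *ᵥ x) = x := by
        rw [Matrix.mulVec_mulVec, hinv, Matrix.one_mulVec]
      have hy : ((g⁻¹ : Matrix.GeneralLinearGroup (Fin n) F) : Matrix (Fin n) (Fin n) F) *ᵥ
          ((g : Matrix (Fin n) (Fin n) F) *ᵥ y) = y := by
        rw [Matrix.mulVec_mulVec, hinv, Matrix.one_mulVec]
      rw [← hx, hxy, hy]
    have hle : (stdSub (F := F) n k).map L ≤ stdSub (F := F) n k := by
      rintro _ ⟨x, hx, rfl⟩
      rw [hLapp]
      exact hfwd x hx
    have hfr : Module.finrank F ((stdSub (F := F) n k).map L) =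
        Module.finrank F (stdSub (F := F) n k) :=
      (Submodule.equivMapOfInjective L hinj (stdSub (F := F) n k)).finrank_eq.symm
    have heq : (stdSub (F := F) n k).map L = stdSub (F := F) n k :=
      Submodule.eq_of_le_of_finrank_eq hle hfr
    have hmem : L v ∈ (stdSub (F := F) n k).map L := by
      rw [heq, hLapp]
      exact hgv
    obtain ⟨s, hs, hsv⟩ := hmem
    rw [← hinj hsv]
    exact hs

theorem blk_eq (g : Matrix.GeneralLinearGroup (Fin n) F)
    (hg : g ∈ Cfsg.stabilizing (Cfsg.glToMat (Fin n) F) (stdS (F := F) n k)) :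
    blk n k hk (g : Matrix (Fin n) (Fin n) F) =
      Matrix.fromBlocks (blk n k hk (g : Matrix (Fin n) (Fin n) F)).toBlocks₁₁
        (blk n k hk (g : Matrix (Fin n) (Fin n) F)).toBlocks₁₂ 0
        (blk n k hk (g : Matrix (Fin n) (Fin n) F)).toBlocks₂₂ := by
  have h21 := (mem_stab_iff n k hk g).1 hg
  conv_lhs => rw [← Matrix.fromBlocks_toBlocks (blk n k hk (g : Matrix (Fin n) (Fin n) F))]
  rw [h21]

theorem det_blocks (g : Matrix.GeneralLinearGroup (Fin n) F)
    (hg : g ∈ Cfsg.stabilizing (Cfsg.glToMat (Fin n) F) (stdS (F := F) n k)) :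
    (blk n k hk (g : Matrix (Fin n) (Fin n) F)).toBlocks₁₁.det *
      (blk n k hk (g : Matrix (Fin n) (Fin n) F)).toBlocks₂₂.det ≠ 0 := by
  rw [← Matrix.det_fromBlocks_zero₂₁ _ (blk n k hk (g : Matrix (Fin n) (Fin n) F)).toBlocks₁₂,
    ← blk_eq n k hk g hg]
  unfold blk
  rw [Matrix.det_reindex_self]
  exact Matrix.GeneralLinearGroup.det_ne_zero g

/-- the inverse construction -/
def unblk (A : Matrix (Fin k) (Fin k) F) (B : Matrix (Fin k) (Fin (n - k)) F)
    (D : Matrix (Fin (n - k)) (Fin (n - k)) F) : Matrix (Fin n) (Fin n) F :=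
  (Matrix.reindex (idx n k hk) (idx n k hk)).symm (Matrix.fromBlocks A B 0 D)

theorem blk_unblk (A : Matrix (Fin k) (Fin k) F) (B : Matrix (Fin k) (Fin (n - k)) F)
    (D : Matrix (Fin (n - k)) (Fin (n - k)) F) :
    blk n k hk (unblk n k hk A B D) = Matrix.fromBlocks A B 0 D := by
  unfold blk unblk
  rw [Equiv.apply_symm_apply]

theorem det_unblk (A : Matrix (Fin k) (Fin k) F) (B : Matrix (Fin k) (Fin (n - k)) F)
    (D : Matrix (Fin (n - k)) (Fin (n - k)) F) :
    (unblk n k hk A B D).det = A.det * D.det := by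
  rw [← Matrix.det_fromBlocks_zero₂₁ A B D, ← blk_unblk n k hk A B D]
  unfold blk
  rw [Matrix.det_reindex_self]

theorem unblk_blk (M : Matrix (Fin n) (Fin n) F) (h21 : (blk n k hk M).toBlocks₂₁ = 0) :
    unblk n k hk (blk n k hk M).toBlocks₁₁ (blk n k hk M).toBlocks₁₂ (blk n k hk M).toBlocks₂₂
      = M := by
  unfold unblk
  rw [← h21, Matrix.fromBlocks_toBlocks]
  unfold blk
  rw [Equiv.symm_apply_apply]

noncomputable def stabEquiv :
    ↥(Cfsg.stabilizing (Cfsg.glToMat (Fin n) F) (stdS (F := F) n k)) ≃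
      Matrix.GeneralLinearGroup (Fin k) F × Matrix (Fin k) (Fin (n - k)) F ×
        Matrix.GeneralLinearGroup (Fin (n - k)) F where
  toFun g :=
    (Matrix.GeneralLinearGroup.mkOfDetNeZero
        (blk n k hk ((g : Matrix.GeneralLinearGroup (Fin n) F) : Matrix (Fin n) (Fin n) F)).toBlocks₁₁
        (left_ne_zero_of_mul (det_blocks n k hk g.1 g.2)),
      (blk n k hk ((g : Matrix.GeneralLinearGroup (Fin n) F) : Matrix (Fin n) (Fin n) F)).toBlocks₁₂,
      Matrix.GeneralLinearGroup.mkOfDetNeZero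
        (blk n k hk ((g : Matrix.GeneralLinearGroup (Fin n) F) : Matrix (Fin n) (Fin n) F)).toBlocks₂₂
        (right_ne_zero_of_mul (det_blocks n k hk g.1 g.2)))
  invFun p :=
    ⟨Matrix.GeneralLinearGroup.mkOfDetNeZero
        (unblk n k hk (p.1 : Matrix (Fin k) (Fin k) F) p.2.1
          (p.2.2 : Matrix (Fin (n - k)) (Fin (n - k)) F))
        (by
          rw [det_unblk]
          exact mul_ne_zero (Matrix.GeneralLinearGroup.det_ne_zero p.1)
            (Matrix.GeneralLinearGroup.det_ne_zero p.2.2)),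
      by
        rw [mem_stab_iff n k hk]
        change (blk n k hk (unblk n k hk (p.1 : Matrix (Fin k) (Fin k) F) p.2.1
          (p.2.2 : Matrix (Fin (n - k)) (Fin (n - k)) F))).toBlocks₂₁ = 0
        rw [blk_unblk, Matrix.toBlocks_fromBlocks₂₁]⟩
  left_inv g := by
    apply Subtype.ext
    apply Units.ext
    change unblk n k hk _ _ _ = ((g : Matrix.GeneralLinearGroup (Fin n) F) : Matrix (Fin n) (Fin n) F)
    exact unblk_blk n k hk _ ((mem_stab_iff n k hk g.1).1 g.2)
  right_inv p := by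
    obtain ⟨A, B, D⟩ := p
    refine Prod.ext ?_ (Prod.ext ?_ ?_)
    · apply Units.ext
      change (blk n k hk (unblk n k hk (A : Matrix (Fin k) (Fin k) F) B
          (D : Matrix (Fin (n - k)) (Fin (n - k)) F))).toBlocks₁₁ = (A : Matrix (Fin k) (Fin k) F)
      rw [blk_unblk, Matrix.toBlocks_fromBlocks₁₁]
    · change (blk n k hk (unblk n k hk (A : Matrix (Fin k) (Fin k) F) B
          (D : Matrix (Fin (n - k)) (Fin (n - k)) F))).toBlocks₁₂ = B
      rw [blk_unblk, Matrix.toBlocks_fromBlocks₁₂]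
    · apply Units.ext
      change (blk n k hk (unblk n k hk (A : Matrix (Fin k) (Fin k) F) B
          (D : Matrix (Fin (n - k)) (Fin (n - k)) F))).toBlocks₂₂ =
            (D : Matrix (Fin (n - k)) (Fin (n - k)) F)
      rw [blk_unblk, Matrix.toBlocks_fromBlocks₂₂]

end

/-- Order of a maximal parabolic subgroup of GL_n(q): the stabiliser in GL_n(q) of the k-dimensional subspace spanned by the first k standard basis vectors has order q^(k(n-k)) |GL_k(q)| |GL_(n-k)(q)|. -/
theorem result {F : Type*} [Field F] [Fintype F] {q : ℕ} (hF : Fintype.card F = q) (n k : ℕ) (hk : k ≤ n) : Nat.card ↥(Cfsg.stabilizing (Cfsg.glToMat (Fin n) F) {v : Fin n → F | ∀ i : Fin n, k ≤ (i : ℕ) → v i = 0}) = q ^ (k * (n - k)) * (∏ i : Fin k, (q ^ k - q ^ (i : ℕ))) * ∏ i : Fin (n - k), (q ^ (n - k) - q ^ (i : ℕ)) := by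
  have h1 := Nat.card_congr (stabEquiv (F := F) n k hk)
  have h2 : Nat.card (Matrix (Fin k) (Fin (n - k)) F) = q ^ (k * (n - k)) := by
    change Nat.card (Fin k → Fin (n - k) → F) = _
    rw [Nat.card_fun, Nat.card_fun, Nat.card_eq_fintype_card (α := F), hF, Nat.card_fin,
      Nat.card_fin, ← pow_mul, mul_comm]
  change Nat.card ↥(Cfsg.stabilizing (Cfsg.glToMat (Fin n) F) (stdS (F := F) n k)) = _
  rw [h1, Nat.card_prod, Nat.card_prod, Matrix.card_GL_field, Matrix.card_GL_field, hF, h2]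
  ring

end Cfsg.Agent.S0771
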