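import Cfsg.Statements.S0772
import Mathlib
import Cfsg.Agent.Lib.Helper2.StabMax

set_option autoImplicit false
open Cfsg

namespace Cfsg.Agent.S0772

open Matrix Cfsg.Agent.Lib.Helper2.StabMax

section
variable {F : Type*} [Field F]

/-- the coordinate subspace spanned by the first `k` basis vectors -/
def Wk (n k : ℕ) (F : Type*) [Field F] : Submodule F (Fin n → F) where
  carrier := {v | ∀ i : Fin n, k ≤ (i : ℕ) → v i = 0}
  add_mem' := by
    intro a b ha hb i hi
    rw [Pi.add_apply, ha i hi, hb i hi, add_zero]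
  zero_mem' := by
    intro i _
    rfl
  smul_mem' := by
    intro c a ha i hi
    rw [Pi.smul_apply, ha i hi, smul_zero]

theorem mem_Wk {n k : ℕ} (v : Fin n → F) : v ∈ Wk n k F ↔ ∀ i : Fin n, k ≤ (i : ℕ) → v i = 0 :=
  Iff.rfl

/-- a diagonal matrix with one entry `c` -/
def dg {n : ℕ} (i₀ : Fin n) (c : F) (hc : c ≠ 0) : GL (Fin n) F :=
  ⟨Matrix.diagonal (fun i => if i = i₀ then c else 1),
    Matrix.diagonal (fun i => if i = i₀ then c⁻¹ else 1),
    by
      rw [Matrix.diagonal_mul_diagonal, ← Matrix.diagonal_one]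
      congr 1
      funext i
      by_cases h : i = i₀
      · rw [if_pos h, if_pos h, mul_inv_cancel₀ hc]
      · rw [if_neg h, if_neg h, mul_one],
    by
      rw [Matrix.diagonal_mul_diagonal, ← Matrix.diagonal_one]
      congr 1
      funext i
      by_cases h : i = i₀
      · rw [if_pos h, if_pos h, inv_mul_cancel₀ hc]
      · rw [if_neg h, if_neg h, mul_one]⟩

theorem dg_val {n : ℕ} (i₀ : Fin n) (c : F) (hc : c ≠ 0) :
    ((dg i₀ c hc : GL (Fin n) F) : Matrix (Fin n) (Fin n) F) =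
      Matrix.diagonal (fun i => if i = i₀ then c else 1) := rfl

theorem dg_det {n : ℕ} (i₀ : Fin n) (c : F) (hc : c ≠ 0) :
    ((dg i₀ c hc : GL (Fin n) F) : Matrix (Fin n) (Fin n) F).det = c := by
  rw [dg_val, Matrix.det_diagonal, Finset.prod_ite_eq' Finset.univ i₀ (fun _ => c),
    if_pos (Finset.mem_univ _)]

theorem dg_mem_stab {n : ℕ} (k : ℕ) (i₀ : Fin n) (c : F) (hc : c ≠ 0) :
    dg i₀ c hc ∈ Cfsg.Geo.subspaceStabilizer (Wk n k F) := by
  rw [mem_stab_iff]
  intro v
  rw [dg_val, mem_Wk, mem_Wk]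
  constructor
  · intro hv i hi
    rw [Matrix.mulVec_diagonal, hv i hi, mul_zero]
  · intro hv i hi
    have h1 := hv i hi
    rw [Matrix.mulVec_diagonal] at h1
    rcases mul_eq_zero.1 h1 with h2 | h2
    · exfalso
      by_cases h : i = i₀
      · rw [if_pos h] at h2
        exact hc h2
      · rw [if_neg h] at h2
        exact one_ne_zero h2
    · exact h2

end
/-- Maximal parabolics are maximal: over a finite field, for 0 < k < n the stabiliser in GL_n of the span of the first k coordinate vectors is a maximal proper subgroup. -/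
theorem result {F : Type*} [Field F] [Finite F] (n k : ℕ) (hk0 : 0 < k) (hkn : k < n) : IsCoatom (Cfsg.stabilizing (Cfsg.glToMat (Fin n) F) {v : Fin n → F | ∀ i : Fin n, k ≤ (i : ℕ) → v i = 0}) := by
  classical
  have hstab : Cfsg.stabilizing (Cfsg.glToMat (Fin n) F)
      {v : Fin n → F | ∀ i : Fin n, k ≤ (i : ℕ) → v i = 0} =
      Cfsg.Geo.subspaceStabilizer (Wk n k F) := rfl
  rw [hstab]
  obtain ⟨i₀, hi₀⟩ : ∃ i : Fin n, (i : ℕ) = 0 := ⟨⟨0, by omega⟩, rfl⟩
  obtain ⟨i₁, hi₁⟩ : ∃ i : Fin n, (i : ℕ) = k := ⟨⟨k, hkn⟩, rfl⟩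
  have hW0 : Wk n k F ≠ ⊥ := by
    intro h
    have h1 : (Pi.single i₀ (1 : F) : Fin n → F) ∈ Wk n k F := by
      rw [mem_Wk]
      intro i hi
      rw [Pi.single_apply, if_neg]
      intro hii
      rw [hii, hi₀] at hi
      omega
    rw [h, Submodule.mem_bot] at h1
    have h2 := congrFun h1 i₀
    rw [Pi.single_eq_same] at h2
    exact one_ne_zero h2
  have hW1 : Wk n k F ≠ ⊤ := by
    intro h
    have h1 : (Pi.single i₁ (1 : F) : Fin n → F) ∈ Wk n k F := by
      rw [h]; exact Submodule.mem_top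
    rw [mem_Wk] at h1
    have h2 := h1 i₁ (by omega)
    rw [Pi.single_eq_same] at h2
    exact one_ne_zero h2
  constructor
  · intro h
    obtain ⟨g, -, hg⟩ := exists_not_stab (Wk n k F) hW0 hW1
    apply hg
    rw [h]
    exact Subgroup.mem_top g
  · intro M hPM
    obtain ⟨g, hgM, hg⟩ := SetLike.exists_of_lt hPM
    have hdetg : (g : Matrix (Fin n) (Fin n) F).det ≠ 0 :=
      ((Matrix.isUnit_iff_isUnit_det _).1 (Units.isUnit g)).ne_zero
    obtain ⟨g', hg'⟩ : ∃ g' : GL (Fin n) F, g' = g * dg i₀ _ (inv_ne_zero hdetg) := ⟨_, rfl⟩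
    have hdM : ∀ (c : F) (hc : c ≠ 0), dg i₀ c hc ∈ M := fun c hc =>
      hPM.le (dg_mem_stab k i₀ c hc)
    have hg'M : g' ∈ M := by
      rw [hg']; exact M.mul_mem hgM (hdM _ _)
    have hg'P : g' ∉ Cfsg.Geo.subspaceStabilizer (Wk n k F) := by
      intro h
      apply hg
      have : g = g' * (dg i₀ _ (inv_ne_zero hdetg))⁻¹ := by rw [hg']; group
      rw [this]
      exact Subgroup.mul_mem _ h (Subgroup.inv_mem _ (dg_mem_stab k i₀ _ _))
    have hSL := SL_le (Wk n k F) M (le_trans inf_le_left hPM.le) g' hg'M hg'P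
    rw [eq_top_iff]
    intro x _
    have hdetx : (x : Matrix (Fin n) (Fin n) F).det ≠ 0 :=
      ((Matrix.isUnit_iff_isUnit_det _).1 (Units.isUnit x)).ne_zero
    have hx1 : x * dg i₀ _ (inv_ne_zero hdetx) ∈ M := by
      apply hSL
      rw [mem_SL_iff, Units.val_mul, Matrix.det_mul, dg_det, mul_inv_cancel₀ hdetx]
    have hx2 : x = (x * dg i₀ _ (inv_ne_zero hdetx)) * (dg i₀ _ (inv_ne_zero hdetx))⁻¹ := by
      group
    rw [hx2]
    exact M.mul_mem hx1 (M.inv_mem (hdM _ _))

end Cfsg.Agent.S0772
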