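import Mathlib
import Cfsg.Statements.S0773
import Cfsg.Agent.Lib.Helper5.GUStab

set_option autoImplicit false
open Cfsg

namespace Cfsg.Agent.S0773

section
variable {F : Type*} [Field F] (n : ℕ)

def Sset (j : ℕ) : Set (Fin n → F) := {v | ∀ i : Fin n, j ≤ (i : ℕ) → v i = 0}

/-- twisted pairing -/
def bet (v u : Fin n → F) : F := ∑ i, v i * u (Fin.rev i)

def perpB (X : Set (Fin n → F)) : Set (Fin n → F) := {v | ∀ u ∈ X, bet n v u = 0}

theorem perp_S (j : ℕ) (hj : j ≤ n) : perpB (F := F) n (Sset n j) = Sset n (n - j) := by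
  classical
  ext v
  constructor
  · intro hv i hi
    have hri : (Fin.rev i : ℕ) < j := by
      rw [Fin.val_rev]
      have := i.2
      omega
    have hmem : (Pi.single (Fin.rev i) 1 : Fin n → F) ∈ Sset n j := by
      intro l hl
      rw [Pi.single_apply, if_neg]
      intro h
      rw [h] at hl
      omega
    have h := hv _ hmem
    unfold bet at h
    rw [Finset.sum_eq_single i] at h
    · simpa using h
    · intro l _ hli
      rw [Pi.single_apply, if_neg, mul_zero]
      intro h'
      exact hli (Fin.rev_injective h')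
    · intro h'
      exact absurd (Finset.mem_univ i) h'
  · intro hv u hu
    unfold bet
    apply Finset.sum_eq_zero
    intro i _
    by_cases hi : n - j ≤ (i : ℕ)
    · rw [hv i hi, zero_mul]
    · have : j ≤ (Fin.rev i : ℕ) := by
        rw [Fin.val_rev]
        have := i.2
        omega
      rw [hu _ this, mul_zero]

/-- the inverse-transpose automorphism twisted by reversal -/
def thetaHom : GL (Fin n) F →* GL (Fin n) F where
  toFun A := ⟨((A⁻¹ : GL (Fin n) F).val.transpose).submatrix Fin.revPerm Fin.revPerm,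
    (A.val.transpose).submatrix Fin.revPerm Fin.revPerm,
    by
      rw [Matrix.submatrix_mul_equiv, ← Matrix.transpose_mul, ← Units.val_mul, mul_inv_cancel,
        Units.val_one, Matrix.transpose_one, Matrix.submatrix_one_equiv],
    by
      rw [Matrix.submatrix_mul_equiv, ← Matrix.transpose_mul, ← Units.val_mul, inv_mul_cancel,
        Units.val_one, Matrix.transpose_one, Matrix.submatrix_one_equiv]⟩
  map_one' := by
    apply Units.ext
    show ((1⁻¹ : GL (Fin n) F).val.transpose).submatrix Fin.revPerm Fin.revPerm = 1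
    rw [inv_one, Units.val_one, Matrix.transpose_one, Matrix.submatrix_one_equiv]
  map_mul' A B := by
    apply Units.ext
    show (((A * B)⁻¹ : GL (Fin n) F).val.transpose).submatrix Fin.revPerm Fin.revPerm =
      ((A⁻¹ : GL (Fin n) F).val.transpose).submatrix Fin.revPerm Fin.revPerm *
      ((B⁻¹ : GL (Fin n) F).val.transpose).submatrix Fin.revPerm Fin.revPerm
    rw [Matrix.submatrix_mul_equiv, ← Matrix.transpose_mul, ← Units.val_mul, mul_inv_rev]

theorem thetaHom_val (A : GL (Fin n) F) :
    (thetaHom n A).val = ((A⁻¹ : GL (Fin n) F).val.transpose).submatrix Fin.revPerm Fin.revPerm :=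
  rfl

theorem thetaHom_invol (A : GL (Fin n) F) : thetaHom n (thetaHom n A) = A := by
  apply Units.ext
  rw [thetaHom_val]
  have h : ((thetaHom n A)⁻¹ : GL (Fin n) F).val =
      (A.val.transpose).submatrix Fin.revPerm Fin.revPerm := rfl
  rw [h, Matrix.transpose_submatrix, Matrix.transpose_transpose, Matrix.submatrix_submatrix]
  ext i j
  simp

theorem bet_theta (A : GL (Fin n) F) (v u : Fin n → F) :
    bet n ((thetaHom n A).val.mulVec v) (A.val.mulVec u) = bet n v u := by
  unfold bet
  rw [thetaHom_val, Matrix.submatrix_mulVec_equiv]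
  have e1 : ∑ i, (((A⁻¹ : GL (Fin n) F).val.transpose.mulVec (v ∘ ⇑Fin.revPerm.symm)) ∘ ⇑Fin.revPerm) i *
      A.val.mulVec u (Fin.rev i) =
      ∑ j, ((A⁻¹ : GL (Fin n) F).val.transpose.mulVec (v ∘ ⇑Fin.revPerm.symm)) j *
        A.val.mulVec u j :=
    Equiv.sum_comp Fin.revPerm (fun j =>
      ((A⁻¹ : GL (Fin n) F).val.transpose.mulVec (v ∘ ⇑Fin.revPerm.symm)) j * A.val.mulVec u j)
  rw [e1]
  have e2 : ∑ j, ((A⁻¹ : GL (Fin n) F).val.transpose.mulVec (v ∘ ⇑Fin.revPerm.symm)) j *
        A.val.mulVec u j =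
      dotProduct ((A⁻¹ : GL (Fin n) F).val.transpose.mulVec (v ∘ ⇑Fin.revPerm.symm))
        (A.val.mulVec u) := rfl
  rw [e2, Matrix.mulVec_transpose, ← Matrix.dotProduct_mulVec, Matrix.mulVec_mulVec,
    ← Units.val_mul, inv_mul_cancel, Units.val_one, Matrix.one_mulVec]
  have e3 : dotProduct (v ∘ ⇑Fin.revPerm.symm) u = ∑ j, v (Fin.rev j) * u j := rfl
  rw [e3, ← Equiv.sum_comp Fin.revPerm (fun i => v i * u (Fin.rev i))]
  apply Finset.sum_congr rfl
  intro j _
  simp

end

section
variable {F : Type*} [Field F] (n : ℕ)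

theorem dual_stab (A : GL (Fin n) F) (X : Set (Fin n → F))
    (hA : A ∈ Cfsg.stabilizing (Cfsg.glToMat (Fin n) F) X) :
    thetaHom n A ∈ Cfsg.stabilizing (Cfsg.glToMat (Fin n) F) (perpB n X) := by
  intro v
  have hAinv : A⁻¹ ∈ Cfsg.stabilizing (Cfsg.glToMat (Fin n) F) X := Subgroup.inv_mem _ hA
  show v ∈ perpB n X ↔ (thetaHom n A).val.mulVec v ∈ perpB n X
  constructor
  · intro hv u hu
    have hu' : (A⁻¹ : GL (Fin n) F).val.mulVec u ∈ X := (hAinv u).1 hu
    have h := bet_theta n A v ((A⁻¹ : GL (Fin n) F).val.mulVec u)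
    rw [Matrix.mulVec_mulVec, ← Units.val_mul, mul_inv_cancel, Units.val_one,
      Matrix.one_mulVec] at h
    rw [h]
    exact hv _ hu'
  · intro hv u hu
    rw [← bet_theta n A v u]
    exact hv _ ((hA u).1 hu)

/-- the coordinate subspace as a submodule -/
def Ssub (j : ℕ) : Submodule F (Fin n → F) where
  carrier := Sset n j
  add_mem' := by
    intro a b ha hb i hi
    rw [Pi.add_apply, ha i hi, hb i hi, add_zero]
  zero_mem' := by
    intro i _
    rfl
  smul_mem' := by
    intro c a ha i hi
    rw [Pi.smul_apply, ha i hi, smul_zero]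

theorem mem_Ssub {j : ℕ} {v : Fin n → F} : v ∈ Ssub n j ↔ ∀ i : Fin n, j ≤ (i : ℕ) → v i = 0 :=
  Iff.rfl

/-- coordinates of the coordinate subspace -/
def SsubEquiv (j : ℕ) (hj : j ≤ n) : Ssub (F := F) n j ≃ₗ[F] (Fin j → F) where
  toFun v := fun i => v.1 (Fin.castLE hj i)
  invFun f := ⟨fun i => if h : (i : ℕ) < j then f ⟨i, h⟩ else 0, by
    intro i hi
    simp only
    rw [dif_neg (by omega)]⟩
  map_add' := by
    intro a b
    funext i
    rfl
  map_smul' := by
    intro c a
    funext i
    rfl
  left_inv := by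
    intro v
    apply Subtype.ext
    funext i
    simp only
    by_cases h : (i : ℕ) < j
    · rw [dif_pos h]
      rfl
    · rw [dif_neg h]
      exact (v.2 i (by omega)).symm
  right_inv := by
    intro f
    funext i
    simp only [Fin.val_castLE]
    rw [dif_pos i.2]

theorem finrank_Ssub (j : ℕ) (hj : j ≤ n) : Module.finrank F (Ssub (F := F) n j) = j := by
  rw [LinearEquiv.finrank_eq (SsubEquiv n j hj), Module.finrank_fin_fun]

/-- elementary transvections in the stabiliser -/
theorem exists_transv (j : ℕ) (a b : Fin n) (hab : a ≠ b) (h : (a : ℕ) < j ∨ j ≤ (b : ℕ)) :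
    ∃ B ∈ Cfsg.stabilizing (Cfsg.glToMat (Fin n) F) (Sset (F := F) n j),
      ∀ x : Fin n → F, B.val.mulVec x = x + x b • Pi.single a 1 := by
  classical
  have hdet : (Matrix.transvection a b (1 : F)).det ≠ 0 := by
    rw [Matrix.det_transvection_of_ne a b hab]
    exact one_ne_zero
  let B : GL (Fin n) F := Matrix.GeneralLinearGroup.mkOfDetNeZero _ hdet
  have hB : ∀ x : Fin n → F, B.val.mulVec x = x + x b • Pi.single a 1 := by
    intro x
    show (Matrix.transvection a b (1 : F)).mulVec x = _
    unfold Matrix.transvection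
    rw [Matrix.add_mulVec, Matrix.one_mulVec, Matrix.single_mulVec_eq, one_mul]
  refine ⟨B, ?_, hB⟩
  intro v
  show v ∈ Sset n j ↔ B.val.mulVec v ∈ Sset n j
  rw [hB]
  constructor
  · intro hv i hi
    rw [Pi.add_apply, Pi.smul_apply, hv i hi, zero_add, Pi.single_apply, smul_eq_mul]
    rcases h with h | h
    · rw [if_neg, mul_zero]
      intro hia
      rw [hia] at hi
      omega
    · rw [hv b h, zero_mul]
  · intro hv i hi
    have hvb : (a : ℕ) < j ∨ v b = 0 := by
      rcases h with h | h
      · exact Or.inl h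
      · right
        have h1 := hv b h
        rw [Pi.add_apply, Pi.smul_apply, Pi.single_apply, if_neg (Ne.symm hab), smul_zero,
          add_zero] at h1
        exact h1
    have h1 := hv i hi
    rw [Pi.add_apply, Pi.smul_apply, Pi.single_apply, smul_eq_mul] at h1
    rcases hvb with h2 | h2
    · rw [if_neg, mul_zero, add_zero] at h1
      · exact h1
      · intro hia
        rw [hia] at hi
        omega
    · rw [h2, zero_mul, add_zero] at h1
      exact h1

end

theorem result {F : Type*} [Field F] [Finite F] (n k : ℕ) (hk0 : 0 < k) (hkn : k < n) (h2 : 2 * k ≠ n) : Nonempty (↥(Cfsg.stabilizing (Cfsg.glToMat (Fin n) F) {v : Fin n → F | ∀ i : Fin n, k ≤ (i : ℕ) → v i = 0}) ≃* ↥(Cfsg.stabilizing (Cfsg.glToMat (Fin n) F) {v : Fin n → F | ∀ i : Fin n, n - k ≤ (i : ℕ) → v i = 0})) ∧ ∀ g : Matrix.GeneralLinearGroup (Fin n) F, (Cfsg.stabilizing (Cfsg.glToMat (Fin n) F) {v : Fin n → F | ∀ i : Fin n, k ≤ (i : ℕ) → v i = 0}).map (MulAut.conj g).toMonoidHom ≠ Cfsg.stabilizing (Cfsg.glToMat (Fin n) F) {v : Fin n → F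 | ∀ i : Fin n, n - k ≤ (i : ℕ) → v i = 0} := by
  classical
  have hk : k ≤ n := hkn.le
  constructor
  · let θ : GL (Fin n) F ≃* GL (Fin n) F :=
      MulEquiv.mk' ⟨thetaHom n, thetaHom n, thetaHom_invol n, thetaHom_invol n⟩
        (map_mul (thetaHom n))
    have hθ : ∀ A, θ A = thetaHom n A := fun A => rfl
    have hiff : ∀ A : GL (Fin n) F,
        A ∈ Cfsg.stabilizing (Cfsg.glToMat (Fin n) F) (Sset (F := F) n k) ↔
          θ A ∈ Cfsg.stabilizing (Cfsg.glToMat (Fin n) F) (Sset (F := F) n (n - k)) := by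
      intro A
      constructor
      · intro hA
        have h := dual_stab n A _ hA
        rw [perp_S n k hk] at h
        exact h
      · intro hA
        have h := dual_stab n (θ A) _ hA
        rw [perp_S n (n - k) (Nat.sub_le n k), hθ, thetaHom_invol] at h
        have e : n - (n - k) = k := by omega
        rw [e] at h
        exact h
    exact ⟨Cfsg.Agent.Lib.Helper5.subgroupEquivOfIff θ _ _ hiff⟩
  · intro g hconj
    have hconj' : (Cfsg.stabilizing (Cfsg.glToMat (Fin n) F) (Sset (F := F) n k)).map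
        (MulAut.conj g).toMonoidHom =
        Cfsg.stabilizing (Cfsg.glToMat (Fin n) F) (Sset (F := F) n (n - k)) := hconj
    let L : (Fin n → F) ≃ₗ[F] (Fin n → F) := Cfsg.Agent.Lib.Helper5.glAut n g
    let X : Submodule F (Fin n → F) := (Ssub n k).map L.toLinearMap
    have hL : ∀ v, L v = g.val.mulVec v := fun v => rfl
    have hLs : ∀ v, L.symm v = (g⁻¹ : GL (Fin n) F).val.mulVec v := by
      intro v
      rw [LinearEquiv.symm_apply_eq, hL, Matrix.mulVec_mulVec, ← Units.val_mul, mul_inv_cancel,
        Units.val_one, Matrix.one_mulVec]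
    have hX : ∀ x, x ∈ X ↔ (g⁻¹ : GL (Fin n) F).val.mulVec x ∈ Sset (F := F) n k := by
      intro x
      rw [← hLs]
      constructor
      · rintro ⟨v, hv, rfl⟩
        show L.symm (L v) ∈ _
        rw [L.symm_apply_apply]
        exact hv
      · intro hx
        exact ⟨L.symm x, hx, L.apply_symm_apply x⟩
    have hXdim : Module.finrank F X = k := by
      show Module.finrank F ((Ssub n k).map L.toLinearMap) = k
      rw [LinearEquiv.finrank_map_eq L (Ssub n k), finrank_Ssub n k hk]
    have hinv : ∀ B ∈ Cfsg.stabilizing (Cfsg.glToMat (Fin n) F) (Sset (F := F) n (n - k)),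
        ∀ x ∈ X, B.val.mulVec x ∈ X := by
      intro B hB x hx
      rw [← hconj'] at hB
      obtain ⟨A, hA, rfl⟩ := hB
      rw [hX] at hx ⊢
      have e : (g⁻¹ : GL (Fin n) F).val.mulVec (((MulAut.conj g).toMonoidHom A).val.mulVec x) =
          A.val.mulVec ((g⁻¹ : GL (Fin n) F).val.mulVec x) := by
        rw [Matrix.mulVec_mulVec, Matrix.mulVec_mulVec, ← Units.val_mul, ← Units.val_mul]
        congr 2
        show g⁻¹ * (g * A * g⁻¹) = A * g⁻¹
        group
      rw [e]
      exact (hA _).1 hx
    have hE : ∀ x ∈ X, ∀ a b : Fin n, a ≠ b → ((a : ℕ) < n - k ∨ n - k ≤ (b : ℕ)) → x b ≠ 0 →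
        (Pi.single a 1 : Fin n → F) ∈ X := by
      intro x hx a b hab h hxb
      obtain ⟨B, hB, hBx⟩ := exists_transv (F := F) n (n - k) a b hab h
      have h1 := hinv B hB x hx
      rw [hBx] at h1
      have h2 : x b • (Pi.single a 1 : Fin n → F) ∈ X := by
        have h3 := X.sub_mem h1 hx
        rwa [add_sub_cancel_left] at h3
      have h3 := X.smul_mem (x b)⁻¹ h2
      rwa [smul_smul, inv_mul_cancel₀ hxb, one_smul] at h3
    have hdecomp : ∀ x : Fin n → F, ∑ a, x a • (Pi.single a 1 : Fin n → F) = x := by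
      intro x
      funext i
      simp [Finset.sum_apply, Pi.single_apply]
    have hself : ∀ x ∈ X, ∀ b : Fin n, x b ≠ 0 →
        (∀ c, c ≠ b → x c • (Pi.single c 1 : Fin n → F) ∈ X) →
        (Pi.single b 1 : Fin n → F) ∈ X := by
      intro x hx b hxb hc
      have h1 := Finset.add_sum_erase Finset.univ (fun c => x c • (Pi.single c 1 : Fin n → F))
        (Finset.mem_univ b)
      rw [hdecomp x] at h1
      have h2 : x b • (Pi.single b 1 : Fin n → F) =
          x - ∑ c ∈ Finset.univ.erase b, x c • (Pi.single c 1 : Fin n → F) :=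
        eq_sub_of_add_eq h1
      have h3 : x b • (Pi.single b 1 : Fin n → F) ∈ X := by
        rw [h2]
        apply X.sub_mem hx
        apply X.sum_mem
        intro c hc'
        exact hc c (Finset.ne_of_mem_erase hc')
      have h4 := X.smul_mem (x b)⁻¹ h3
      rwa [smul_smul, inv_mul_cancel₀ hxb, one_smul] at h4
    by_cases hcase : ∃ x ∈ X, ∃ b : Fin n, n - k ≤ (b : ℕ) ∧ x b ≠ 0
    · obtain ⟨x, hx, b, hb, hxb⟩ := hcase
      have hne : ∀ a, a ≠ b → (Pi.single a 1 : Fin n → F) ∈ X :=
        fun a hab => hE x hx a b hab (Or.inr hb) hxb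
      have hall : ∀ a, (Pi.single a 1 : Fin n → F) ∈ X := by
        intro a
        by_cases hab : a = b
        · rw [hab]
          exact hself x hx b hxb (fun c hc => X.smul_mem _ (hne c hc))
        · exact hne a hab
      have htop : ∀ y : Fin n → F, y ∈ X := by
        intro y
        rw [← hdecomp y]
        exact X.sum_mem (fun a _ => X.smul_mem _ (hall a))
      let last : Fin n := ⟨n - 1, by omega⟩
      have h1 := (hX (g.val.mulVec (Pi.single last 1))).1 (htop _)
      rw [Matrix.mulVec_mulVec, ← Units.val_mul, inv_mul_cancel, Units.val_one,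
        Matrix.one_mulVec] at h1
      have h2 := h1 last (by show k ≤ n - 1; omega)
      rw [Pi.single_eq_same] at h2
      exact one_ne_zero h2
    · have hsub : ∀ x ∈ X, ∀ b : Fin n, n - k ≤ (b : ℕ) → x b = 0 := by
        intro x hx b hb
        by_contra h
        exact hcase ⟨x, hx, b, hb, h⟩
      let z0 : Fin n := ⟨0, by omega⟩
      have hx0 : g.val.mulVec (Pi.single z0 1) ∈ X := by
        rw [hX, Matrix.mulVec_mulVec, ← Units.val_mul, inv_mul_cancel, Units.val_one,
          Matrix.one_mulVec]
        intro i hi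
        rw [Pi.single_apply, if_neg]
        intro h
        rw [h] at hi
        have : (z0 : ℕ) = 0 := rfl
        omega
      have hx0ne : g.val.mulVec (Pi.single z0 1) ≠ 0 := by
        intro h
        have h1 := congrArg (g⁻¹ : GL (Fin n) F).val.mulVec h
        rw [Matrix.mulVec_mulVec, ← Units.val_mul, inv_mul_cancel, Units.val_one,
          Matrix.one_mulVec, Matrix.mulVec_zero] at h1
        have h2 := congrFun h1 z0
        rw [Pi.single_eq_same] at h2
        exact one_ne_zero h2
      obtain ⟨b, hxb⟩ := Function.ne_iff.1 hx0ne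
      have hxb' : g.val.mulVec (Pi.single z0 1) b ≠ 0 := hxb
      have hb : (b : ℕ) < n - k := by
        by_contra h
        exact hxb' (hsub _ hx0 b (by omega))
      have hne : ∀ a : Fin n, (a : ℕ) < n - k → a ≠ b → (Pi.single a 1 : Fin n → F) ∈ X :=
        fun a ha hab => hE _ hx0 a b hab (Or.inl ha) hxb'
      have hall : ∀ a : Fin n, (a : ℕ) < n - k → (Pi.single a 1 : Fin n → F) ∈ X := by
        intro a ha
        by_cases hab : a = b
        · rw [hab]
          apply hself _ hx0 b hxb'
          intro c hc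
          by_cases hcn : (c : ℕ) < n - k
          · exact X.smul_mem _ (hne c hcn hc)
          · rw [hsub _ hx0 c (by omega), zero_smul]
            exact X.zero_mem
        · exact hne a ha hab
      have hle : Ssub n (n - k) ≤ X := by
        intro y hy
        rw [← hdecomp y]
        apply X.sum_mem
        intro a _
        by_cases ha : (a : ℕ) < n - k
        · exact X.smul_mem _ (hall a ha)
        · rw [hy a (by omega), zero_smul]
          exact X.zero_mem
      have hle' : X ≤ Ssub n (n - k) := fun x hx => hsub x hx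
      have heq : X = Ssub n (n - k) := le_antisymm hle' hle
      have h3 := hXdim
      rw [heq, finrank_Ssub n (n - k) (Nat.sub_le n k)] at h3
      omega

end Cfsg.Agent.S0773
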