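import Cfsg.Statements.S0774
import Mathlib
import Cfsg.Agent.S0245
-- import your own Cfsg.Agent.* helpers here

set_option autoImplicit false
set_option linter.style.haveILetI false
set_option linter.deprecated false
set_option linter.unusedSectionVars false
open Cfsg

namespace Cfsg.Agent.S0774

open Cfsg.Agent.Lib.Helper2 Cfsg.Agent.S0245 Matrix

section
variable (m : ℕ) (F : Type*) [Field F]

/-- General orbit--stabilizer step for `H ⊓ StabS S`. -/
theorem step_gen [Finite F] (H : Subgroup (Matrix.symplecticGroup (Fin m) F))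
    (S : Set (Fin m ⊕ Fin m)) (a : Fin m ⊕ Fin m) (O : Set (Fin m ⊕ Fin m → F))
    (h1 : ∀ A ∈ H ⊓ StabS m F S,
      (A : Matrix (Fin m ⊕ Fin m) (Fin m ⊕ Fin m) F) *ᵥ (Pi.single a 1) ∈ O)
    (h2 : ∀ y ∈ O, ∃ A ∈ H ⊓ StabS m F S,
      (A : Matrix (Fin m ⊕ Fin m) (Fin m ⊕ Fin m) F) *ᵥ (Pi.single a 1) = y) :
    Nat.card ↥(H ⊓ StabS m F S) = Nat.card ↥(H ⊓ StabS m F (insert a S)) * Nat.card ↥O := by
  classical
  letI := actV m F
  set δ : Fin m ⊕ Fin m → F := Pi.single a 1 with hδ
  have e1 := MulAction.index_stabilizer (↥(H ⊓ StabS m F S)) δ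
  have e2 := (MulAction.stabilizer (↥(H ⊓ StabS m F S)) δ).card_mul_index
  have e3 : Nat.card (MulAction.stabilizer (↥(H ⊓ StabS m F S)) δ) =
      Nat.card ↥(H ⊓ StabS m F (insert a S)) := by
    apply Nat.card_congr
    refine
      { toFun := fun X => ⟨X.1.1, Subgroup.mem_inf.2 ⟨(Subgroup.mem_inf.1 X.1.2).1,
          (mem_StabS_insert m F).2 ⟨(Subgroup.mem_inf.1 X.1.2).2, ?_⟩⟩⟩
        invFun := fun A => ⟨⟨A.1, Subgroup.mem_inf.2 ⟨(Subgroup.mem_inf.1 A.2).1,
          ((mem_StabS_insert m F).1 (Subgroup.mem_inf.1 A.2).2).1⟩⟩, ?_⟩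
        left_inv := fun X => rfl
        right_inv := fun A => rfl }
    · have := X.2
      rw [MulAction.mem_stabilizer_iff] at this
      exact this
    · rw [MulAction.mem_stabilizer_iff]
      exact ((mem_StabS_insert m F).1 (Subgroup.mem_inf.1 A.2).2).2
  have e4 : MulAction.orbit (↥(H ⊓ StabS m F S)) δ = O := by
    ext y
    constructor
    · rintro ⟨⟨A, hA⟩, rfl⟩
      exact h1 A hA
    · intro hy
      obtain ⟨A, hA, hAy⟩ := h2 y hy
      exact ⟨⟨A, hA⟩, hAy⟩
  have e5 : (MulAction.orbit (↥(H ⊓ StabS m F S)) δ).ncard = Nat.card ↥O := by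
    rw [← Nat.card_coe_set_eq]
    exact Nat.card_congr (Equiv.setCongr e4)
  rw [← e2, e3, e1]
  exact congrArg _ e5

/-- The flag subspaces. -/
def WS (k : ℕ) : Submodule F (Fin m ⊕ Fin m → F) where
  carrier := {v | (∀ i : Fin m, k < (i : ℕ) → v (Sum.inl i) = 0) ∧ ∀ i : Fin m, v (Sum.inr i) = 0}
  add_mem' := by
    rintro a b ⟨ha1, ha2⟩ ⟨hb1, hb2⟩
    exact ⟨fun i hi => by rw [Pi.add_apply, ha1 i hi, hb1 i hi, add_zero],
      fun i => by rw [Pi.add_apply, ha2 i, hb2 i, add_zero]⟩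
  zero_mem' := ⟨fun _ _ => rfl, fun _ => rfl⟩
  smul_mem' := by
    rintro c a ⟨ha1, ha2⟩
    exact ⟨fun i hi => by rw [Pi.smul_apply, ha1 i hi, smul_zero],
      fun i => by rw [Pi.smul_apply, ha2 i, smul_zero]⟩

theorem mem_WS {k : ℕ} {v : Fin m ⊕ Fin m → F} :
    v ∈ WS m F k ↔ (∀ i : Fin m, k < (i : ℕ) → v (Sum.inl i) = 0) ∧
      ∀ i : Fin m, v (Sum.inr i) = 0 := Iff.rfl

theorem WS_mono {k l : ℕ} (h : k ≤ l) : WS m F k ≤ WS m F l := by
  rintro v ⟨h1, h2⟩
  exact ⟨fun i hi => h1 i (lt_of_le_of_lt h hi), h2⟩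

/-- The Borel subgroup. -/
def Bor : Subgroup (Matrix.symplecticGroup (Fin m) F) :=
  ⨅ k : Fin m, Cfsg.stabilizing (Cfsg.spToMat m F) ((WS m F (k : ℕ)) : Set (Fin m ⊕ Fin m → F))

theorem mem_Bor {A : Matrix.symplecticGroup (Fin m) F} :
    A ∈ Bor m F ↔ ∀ k : Fin m, ∀ v : Fin m ⊕ Fin m → F,
      v ∈ WS m F (k : ℕ) ↔
        (A : Matrix (Fin m ⊕ Fin m) (Fin m ⊕ Fin m) F) *ᵥ v ∈ WS m F (k : ℕ) := by
  unfold Bor
  rw [Subgroup.mem_iInf]
  rfl

theorem inv_mulVec_mulVec (A : Matrix.symplecticGroup (Fin m) F) (v : Fin m ⊕ Fin m → F) :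
    ((A⁻¹ : Matrix.symplecticGroup (Fin m) F) : Matrix (Fin m ⊕ Fin m) (Fin m ⊕ Fin m) F) *ᵥ
      ((A : Matrix (Fin m ⊕ Fin m) (Fin m ⊕ Fin m) F) *ᵥ v) = v := by
  rw [Matrix.mulVec_mulVec, ← Submonoid.coe_mul, inv_mul_cancel]
  show (1 : Matrix (Fin m ⊕ Fin m) (Fin m ⊕ Fin m) F) *ᵥ v = v
  exact Matrix.one_mulVec v

theorem mem_Bor_of_maps {A : Matrix.symplecticGroup (Fin m) F}
    (h1 : ∀ l : Fin m, ∀ v ∈ WS m F (l : ℕ),
      (A : Matrix (Fin m ⊕ Fin m) (Fin m ⊕ Fin m) F) *ᵥ v ∈ WS m F (l : ℕ))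
    (h2 : ∀ l : Fin m, ∀ v ∈ WS m F (l : ℕ),
      ((A⁻¹ : Matrix.symplecticGroup (Fin m) F) :
        Matrix (Fin m ⊕ Fin m) (Fin m ⊕ Fin m) F) *ᵥ v ∈ WS m F (l : ℕ)) :
    A ∈ Bor m F := by
  rw [mem_Bor]
  intro l v
  constructor
  · exact h1 l v
  · intro hAv
    have := h2 l _ hAv
    rwa [inv_mulVec_mulVec] at this

def Lk (k : ℕ) : Set (Fin m ⊕ Fin m) :=
  {t | Sum.elim (fun i : Fin m => (i : ℕ) < k) (fun _ => False) t}

def Sp' (k : ℕ) : Set (Fin m ⊕ Fin m) :=
  {t | Sum.elim (fun i : Fin m => (i : ℕ) ≠ k) (fun _ => False) t}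

def Sj (j : ℕ) : Set (Fin m ⊕ Fin m) :=
  {t | Sum.elim (fun _ : Fin m => True) (fun i => (i : ℕ) < j) t}

theorem StabS_anti {S S' : Set (Fin m ⊕ Fin m)} (h : S ⊆ S') : StabS m F S' ≤ StabS m F S :=
  fun _ hA u hu => hA u (US_mono m F h hu)

theorem Lk_succ (k : ℕ) (hk : k < m) :
    insert (Sum.inl (⟨k, hk⟩ : Fin m)) (Lk m k) = Lk m (k + 1) := by
  ext t
  rw [Set.mem_insert_iff]
  rcases t with i | i
  · show (Sum.inl i = Sum.inl (⟨k, hk⟩ : Fin m) ∨ (i : ℕ) < k) ↔ (i : ℕ) < k + 1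
    simp only [Sum.inl.injEq, Fin.ext_iff]
    omega
  · show (Sum.inr i = Sum.inl (⟨k, hk⟩ : Fin m) ∨ False) ↔ False
    simp

theorem Sj_succ (j : ℕ) (hj : j < m) :
    insert (Sum.inr (⟨j, hj⟩ : Fin m)) (Sj m j) = Sj m (j + 1) := by
  ext t
  rw [Set.mem_insert_iff]
  rcases t with i | i
  · show (Sum.inl i = Sum.inr (⟨j, hj⟩ : Fin m) ∨ True) ↔ True
    simp
  · show (Sum.inr i = Sum.inr (⟨j, hj⟩ : Fin m) ∨ (i : ℕ) < j) ↔ (i : ℕ) < j + 1
    simp only [Sum.inr.injEq, Fin.ext_iff]
    omega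

theorem form_zero_of_inr_zero (u v : Fin m ⊕ Fin m → F) (hu : ∀ i, u (Sum.inr i) = 0)
    (hv : ∀ i, v (Sum.inr i) = 0) : Cfsg.sympForm m F u v = 0 := by
  unfold Cfsg.sympForm
  rw [dotProduct, Fintype.sum_sum_type]
  simp only [J_mulVec_inl, J_mulVec_inr, hu, hv, neg_zero, mul_zero, zero_mul,
    Finset.sum_const_zero, add_zero]

end

section chain
variable (m : ℕ) (F : Type*) [Field F] [Fintype F]

theorem prod3 (a b c k : ℕ) (hk : k < m) :
    ∏ i : Fin m, (if (i : ℕ) < k then a else if (i : ℕ) = k then b else c) =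
      a ^ k * b * c ^ (m - k - 1) := by
  rw [Fin.prod_univ_eq_prod_range (fun i => if i < k then a else if i = k then b else c) m]
  obtain ⟨r, rfl⟩ := Nat.exists_eq_add_of_le (Nat.succ_le_of_lt hk)
  rw [Finset.prod_range_add, Finset.prod_range_succ]
  have h1 : ∏ x ∈ Finset.range k, (if x < k then a else if x = k then b else c) = a ^ k := by
    rw [Finset.prod_congr rfl (fun x hx => if_pos (Finset.mem_range.1 hx)), Finset.prod_const,
      Finset.card_range]
  have h2 : ∏ x ∈ Finset.range r,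
      (if k.succ + x < k then a else if k.succ + x = k then b else c) = c ^ r := by
    rw [Finset.prod_congr rfl (fun x _ => by
      rw [if_neg (by omega), if_neg (by omega)]), Finset.prod_const, Finset.card_range]
  rw [h1, h2, if_neg (lt_irrefl k), if_pos rfl]
  congr 2
  omega

/-- The orbit of `e_k` under the `k`-th member of the Borel chain. -/
theorem count_O (k : ℕ) (hk : k < m) :
    Nat.card ↥({y : Fin m ⊕ Fin m → F | y ∈ WS m F k ∧ y (Sum.inl ⟨k, hk⟩) ≠ 0}) =
      (Fintype.card F) ^ k * (Fintype.card F - 1) := by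
  classical
  set s : Fin m ⊕ Fin m → Finset F := fun t =>
    Sum.elim (fun i : Fin m => if (i : ℕ) < k then Finset.univ else
      if (i : ℕ) = k then Finset.univ.erase 0 else {0}) (fun _ => {0}) t with hs
  have hiff : ∀ y : Fin m ⊕ Fin m → F,
      y ∈ ({y : Fin m ⊕ Fin m → F | y ∈ WS m F k ∧ y (Sum.inl ⟨k, hk⟩) ≠ 0}) ↔
        y ∈ Fintype.piFinset s := by
    intro y
    rw [Fintype.mem_piFinset, Set.mem_setOf_eq, mem_WS]
    constructor
    · rintro ⟨⟨h1, h2⟩, h3⟩ t
      rcases t with i | i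
      · show y (Sum.inl i) ∈ (if (i : ℕ) < k then Finset.univ else
          if (i : ℕ) = k then Finset.univ.erase 0 else {0})
        by_cases hi : (i : ℕ) < k
        · rw [if_pos hi]; exact Finset.mem_univ _
        · by_cases hi2 : (i : ℕ) = k
          · rw [if_neg hi, if_pos hi2, Finset.mem_erase]
            have : i = ⟨k, hk⟩ := Fin.ext hi2
            rw [this]
            exact ⟨h3, Finset.mem_univ _⟩
          · rw [if_neg hi, if_neg hi2, Finset.mem_singleton]
            exact h1 i (by omega)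
      · show y (Sum.inr i) ∈ ({0} : Finset F)
        rw [Finset.mem_singleton]; exact h2 i
    · intro h
      refine ⟨⟨?_, ?_⟩, ?_⟩
      · intro i hi
        have := h (Sum.inl i)
        change y (Sum.inl i) ∈ (if (i : ℕ) < k then Finset.univ else
          if (i : ℕ) = k then Finset.univ.erase 0 else {0}) at this
        rw [if_neg (by omega), if_neg (by omega), Finset.mem_singleton] at this
        exact this
      · intro i
        have := h (Sum.inr i)
        change y (Sum.inr i) ∈ ({0} : Finset F) at this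
        rwa [Finset.mem_singleton] at this
      · have := h (Sum.inl ⟨k, hk⟩)
        change y (Sum.inl ⟨k, hk⟩) ∈ (if k < k then Finset.univ else
          if k = k then Finset.univ.erase 0 else {0}) at this
        rw [if_neg (lt_irrefl k), if_pos rfl, Finset.mem_erase] at this
        exact this.1
  rw [Nat.card_congr (Equiv.subtypeEquivRight hiff), Nat.card_eq_fintype_card, Fintype.card_coe,
    Fintype.card_piFinset, Fintype.prod_sum_type]
  have h1 : ∀ i : Fin m, (s (Sum.inl i)).card =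
      if (i : ℕ) < k then Fintype.card F else if (i : ℕ) = k then Fintype.card F - 1 else 1 := by
    intro i
    show (if (i : ℕ) < k then Finset.univ else
          if (i : ℕ) = k then Finset.univ.erase (0 : F) else {0}).card = _
    by_cases hi : (i : ℕ) < k
    · rw [if_pos hi, if_pos hi, Finset.card_univ]
    · by_cases hi2 : (i : ℕ) = k
      · rw [if_neg hi, if_pos hi2, if_neg hi, if_pos hi2,
          Finset.card_erase_of_mem (Finset.mem_univ _), Finset.card_univ]
      · rw [if_neg hi, if_neg hi2, if_neg hi, if_neg hi2, Finset.card_singleton]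
  have h2 : ∀ i : Fin m, (s (Sum.inr i)).card = 1 := fun i => Finset.card_singleton _
  rw [Finset.prod_congr rfl (fun i _ => h1 i), Finset.prod_congr rfl (fun i _ => h2 i),
    prod3 m _ _ _ k hk, Finset.prod_const_one, one_pow, mul_one, mul_one]

/-- The orbit of `f_j` once all `e_i` and the earlier `f_i` are fixed. -/
theorem count_Sj (j : ℕ) (hj : j < m) :
    Nat.card {y : Fin m ⊕ Fin m → F // (∃ t, t ∉ Sj m j ∧ y t ≠ 0) ∧
        ∀ s ∈ Sj m j, (Matrix.J (Fin m) F *ᵥ y) s =
          (Matrix.J (Fin m) F *ᵥ (Pi.single (Sum.inr ⟨j, hj⟩) 1 : Fin m ⊕ Fin m → F)) s} =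
      (Fintype.card F) ^ (m - j) := by
  classical
  set s : Fin m ⊕ Fin m → Finset F := fun t =>
    Sum.elim (fun i : Fin m => if (i : ℕ) < j then ({0} : Finset F) else Finset.univ)
      (fun i : Fin m => if (i : ℕ) = j then ({1} : Finset F) else {0}) t with hs
  have hiff : ∀ y : Fin m ⊕ Fin m → F,
      ((∃ t, t ∉ Sj m j ∧ y t ≠ 0) ∧
        ∀ s ∈ Sj m j, (Matrix.J (Fin m) F *ᵥ y) s =
          (Matrix.J (Fin m) F *ᵥ (Pi.single (Sum.inr ⟨j, hj⟩) 1 : Fin m ⊕ Fin m → F)) s) ↔
        y ∈ Fintype.piFinset s := by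
    intro y
    rw [Fintype.mem_piFinset]
    constructor
    · rintro ⟨-, hcond⟩ t
      rcases t with i | i
      · show y (Sum.inl i) ∈ (if (i : ℕ) < j then ({0} : Finset F) else Finset.univ)
        by_cases hi : (i : ℕ) < j
        · rw [if_pos hi, Finset.mem_singleton]
          have h1 := hcond (Sum.inr i) (by show (i : ℕ) < j; exact hi)
          rw [J_mulVec_inr, J_mulVec_inr, Pi.single_eq_of_ne (by simp)] at h1
          exact h1
        · rw [if_neg hi]; exact Finset.mem_univ _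
      · show y (Sum.inr i) ∈ (if (i : ℕ) = j then ({1} : Finset F) else {0})
        have h1 := hcond (Sum.inl i) (by show True; trivial)
        rw [J_mulVec_inl, J_mulVec_inl, neg_inj] at h1
        by_cases hi : (i : ℕ) = j
        · rw [if_pos hi, Finset.mem_singleton, h1]
          have : i = ⟨j, hj⟩ := Fin.ext hi
          rw [this, Pi.single_eq_same]
        · rw [if_neg hi, Finset.mem_singleton, h1, Pi.single_eq_of_ne]
          intro h
          exact hi (congrArg Fin.val (Sum.inr.inj h))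
    · intro h
      have hinl : ∀ i : Fin m, (i : ℕ) < j → y (Sum.inl i) = 0 := by
        intro i hi
        have := h (Sum.inl i)
        change y (Sum.inl i) ∈ (if (i : ℕ) < j then ({0} : Finset F) else Finset.univ) at this
        rwa [if_pos hi, Finset.mem_singleton] at this
      have hinr : ∀ i : Fin m, y (Sum.inr i) = if (i : ℕ) = j then 1 else 0 := by
        intro i
        have := h (Sum.inr i)
        change y (Sum.inr i) ∈ (if (i : ℕ) = j then ({1} : Finset F) else {0}) at this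
        by_cases hi : (i : ℕ) = j
        · rw [if_pos hi, Finset.mem_singleton] at this; rw [if_pos hi]; exact this
        · rw [if_neg hi, Finset.mem_singleton] at this; rw [if_neg hi]; exact this
      constructor
      · refine ⟨Sum.inr ⟨j, hj⟩, ?_, ?_⟩
        · intro h'
          have h'' : j < j := h'
          exact lt_irrefl j h''
        · rw [hinr, if_pos rfl]; exact one_ne_zero
      · intro t ht
        rcases t with i | i
        · rw [J_mulVec_inl, J_mulVec_inl, hinr]
          by_cases hi : (i : ℕ) = j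
          · have : i = ⟨j, hj⟩ := Fin.ext hi
            rw [if_pos hi, this, Pi.single_eq_same]
          · rw [if_neg hi, Pi.single_eq_of_ne]
            intro h'
            exact hi (congrArg Fin.val (Sum.inr.inj h'))
        · have hi : (i : ℕ) < j := ht
          rw [J_mulVec_inr, J_mulVec_inr, hinl i hi, Pi.single_eq_of_ne (by simp)]
  rw [Nat.card_congr (Equiv.subtypeEquivRight hiff), Nat.card_eq_fintype_card, Fintype.card_coe,
    Fintype.card_piFinset, Fintype.prod_sum_type]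
  have h1 : ∀ i : Fin m, (s (Sum.inl i)).card =
      if (i : ℕ) < j then 1 else Fintype.card F := by
    intro i
    show (if (i : ℕ) < j then ({0} : Finset F) else Finset.univ).card = _
    by_cases hi : (i : ℕ) < j
    · rw [if_pos hi, if_pos hi, Finset.card_singleton]
    · rw [if_neg hi, if_neg hi, Finset.card_univ]
  have h2 : ∀ i : Fin m, (s (Sum.inr i)).card = 1 := by
    intro i
    show (if (i : ℕ) = j then ({1} : Finset F) else {0}).card = 1
    by_cases hi : (i : ℕ) = j
    · rw [if_pos hi, Finset.card_singleton]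
    · rw [if_neg hi, Finset.card_singleton]
  rw [Finset.prod_congr rfl (fun i _ => h1 i), Finset.prod_congr rfl (fun i _ => h2 i),
    prod_ite_lt m _ j hj.le, Finset.prod_const_one, mul_one]

theorem card_StabS_Sj (j : ℕ) (hj : j ≤ m) :
    Nat.card (StabS m F (Sj m 0)) = Nat.card (StabS m F (Sj m j)) *
      ∏ i ∈ Finset.range j, (Fintype.card F) ^ (m - i) := by
  induction j with
  | zero => simp
  | succ j ih =>
    have hj' : j < m := by omega
    have hn : (Sum.inr (⟨j, hj'⟩ : Fin m)) ∉ Sj m j := by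
      intro h
      have h' : j < j := h
      exact lt_irrefl j h'
    have s1 := step m F (Sj m j) (Sum.inr ⟨j, hj'⟩) hn
    rw [Sj_succ m j hj', count_Sj m F j hj'] at s1
    rw [ih hj'.le, s1, Finset.prod_range_succ]
    ring

theorem Sj_top : Sj m m = T m m := by
  ext t
  rcases t with i | i
  · exact ⟨fun _ => i.2, fun _ => trivial⟩
  · exact ⟨fun _ => i.2, fun _ => i.2⟩

theorem Sj_zero : Sj m 0 = Lk m m := by
  ext t
  rcases t with i | i
  · exact ⟨fun _ => i.2, fun _ => trivial⟩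
  · exact ⟨fun h => absurd h (Nat.not_lt_zero _), fun h => absurd h id⟩

/-- A symplectic matrix fixing all `e_i` lies in the Borel subgroup. -/
theorem StabS_Lk_le_Bor : StabS m F (Lk m m) ≤ Bor m F := by
  intro A hA
  have hsub : ∀ l : ℕ, WS m F l ≤ US m F (Lk m m) := by
    intro l v hv t ht
    rcases t with i | i
    · exact absurd (show (i : ℕ) < m from i.2) ht
    · exact hv.2 i
  have hAinv : A⁻¹ ∈ StabS m F (Lk m m) := (StabS m F (Lk m m)).inv_mem hA
  apply mem_Bor_of_maps
  · intro l v hv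
    rw [hA v (hsub _ hv)]; exact hv
  · intro l v hv
    rw [hAinv v (hsub _ hv)]; exact hv

theorem single_inl_mem_WS {k l : ℕ} (hk : k < m) (hkl : k ≤ l) :
    (Pi.single (Sum.inl (⟨k, hk⟩ : Fin m)) 1 : Fin m ⊕ Fin m → F) ∈ WS m F l := by
  constructor
  · intro i hi
    apply Pi.single_eq_of_ne
    intro h
    have := congrArg Fin.val (Sum.inl.inj h)
    simp at this
    omega
  · intro i
    exact Pi.single_eq_of_ne (by simp) 1

/-- The Borel chain step. -/
theorem borel_step (k : ℕ) (hk : k < m) :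
    Nat.card ↥(Bor m F ⊓ StabS m F (Lk m k)) =
      Nat.card ↥(Bor m F ⊓ StabS m F (Lk m (k + 1))) *
        ((Fintype.card F) ^ k * (Fintype.card F - 1)) := by
  classical
  rw [← Lk_succ m k hk, ← count_O m F k hk]
  set δ : Fin m ⊕ Fin m → F := Pi.single (Sum.inl ⟨k, hk⟩) 1 with hδ
  have hδk : δ (Sum.inl ⟨k, hk⟩) = 1 := Pi.single_eq_same _ _
  have hδW : δ ∈ WS m F k := single_inl_mem_WS m F hk le_rfl
  apply step_gen
  · -- the orbit lies in the set
    intro A hA
    obtain ⟨hAB, hAS⟩ := Subgroup.mem_inf.1 hA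
    have hy : (A : Matrix (Fin m ⊕ Fin m) (Fin m ⊕ Fin m) F) *ᵥ δ ∈ WS m F k :=
      ((mem_Bor m F).1 hAB ⟨k, hk⟩ δ).1 hδW
    refine ⟨hy, ?_⟩
    intro h0
    have hmem : (A : Matrix (Fin m ⊕ Fin m) (Fin m ⊕ Fin m) F) *ᵥ δ ∈ US m F (Lk m k) := by
      intro t ht
      rcases t with i | i
      · have hik : ¬ (i : ℕ) < k := ht
        by_cases hi2 : (i : ℕ) = k
        · have : i = ⟨k, hk⟩ := Fin.ext hi2
          rw [this]; exact h0
        · exact hy.1 i (by omega)
      · exact hy.2 i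
    have hAinv : A⁻¹ ∈ StabS m F (Lk m k) := (StabS m F (Lk m k)).inv_mem hAS
    have h5 := hAinv _ hmem
    rw [inv_mulVec_mulVec] at h5
    have h6 := congrFun h5 (Sum.inl ⟨k, hk⟩)
    rw [hδk, h0] at h6
    exact one_ne_zero h6
  · -- transitivity
    rintro y ⟨hyW, hyk⟩
    have hδU : δ ∉ US m F (Sp' m k) := by
      intro h
      have := h (Sum.inl ⟨k, hk⟩) (by intro h'; exact h' rfl)
      rw [hδk] at this
      exact one_ne_zero this
    have hyU : y ∉ US m F (Sp' m k) := by
      intro h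
      exact hyk (h (Sum.inl ⟨k, hk⟩) (by intro h'; exact h' rfl))
    have hUinr : ∀ u ∈ US m F (Sp' m k), ∀ i : Fin m, u (Sum.inr i) = 0 := by
      intro u hu i
      exact hu (Sum.inr i) (by intro h'; exact h')
    have hform : ∀ u ∈ US m F (Sp' m k), Cfsg.sympForm m F u δ = Cfsg.sympForm m F u y := by
      intro u hu
      rw [form_zero_of_inr_zero m F u δ (hUinr u hu) hδW.2,
        form_zero_of_inr_zero m F u y (hUinr u hu) hyW.2]
    obtain ⟨A, hAδ, hAfix⟩ := Cfsg.Agent.S0768.move m (US m F (Sp' m k)) δ y hδU hyU hform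
    have hAS' : A ∈ StabS m F (Sp' m k) := hAfix
    have hAinvS' : A⁻¹ ∈ StabS m F (Sp' m k) := (StabS m F (Sp' m k)).inv_mem hAS'
    have hAinvy : ((A⁻¹ : Matrix.symplecticGroup (Fin m) F) :
        Matrix (Fin m ⊕ Fin m) (Fin m ⊕ Fin m) F) *ᵥ y = δ := by
      rw [← hAδ, inv_mulVec_mulVec]
    -- membership in `US (Sp' k)` for vectors of `WS l` vanishing at `inl k`
    have hUmem : ∀ (l : ℕ) (v : Fin m ⊕ Fin m → F), v ∈ WS m F l → v (Sum.inl ⟨k, hk⟩) = 0 →
        v ∈ US m F (Sp' m k) := by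
      intro l v hv hvk t ht
      rcases t with i | i
      · have hik : ¬ ((i : ℕ) ≠ k) := ht
        push Not at hik
        have : i = ⟨k, hk⟩ := Fin.ext hik
        rw [this]; exact hvk
      · exact hv.2 i
    have hAB : A ∈ Bor m F := by
      apply mem_Bor_of_maps
      · intro l v hv
        by_cases hkl : k ≤ (l : ℕ)
        · have hv' : v - v (Sum.inl ⟨k, hk⟩) • δ ∈ WS m F (l : ℕ) :=
            (WS m F l).sub_mem hv ((WS m F l).smul_mem _ (single_inl_mem_WS m F hk hkl))
          have hv'U : v - v (Sum.inl ⟨k, hk⟩) • δ ∈ US m F (Sp' m k) := by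
            apply hUmem l _ hv'
            rw [Pi.sub_apply, Pi.smul_apply, hδk, smul_eq_mul, mul_one, sub_self]
          have e : v = (v - v (Sum.inl ⟨k, hk⟩) • δ) + v (Sum.inl ⟨k, hk⟩) • δ := by
            rw [sub_add_cancel]
          rw [e, Matrix.mulVec_add, Matrix.mulVec_smul, hAfix _ hv'U, hAδ]
          exact (WS m F l).add_mem hv' ((WS m F l).smul_mem _ (WS_mono m F hkl hyW))
        · have hvk : v (Sum.inl ⟨k, hk⟩) = 0 := hv.1 ⟨k, hk⟩ (by simp; omega)
          rw [hAfix v (hUmem l v hv hvk)]; exact hv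
      · intro l w hw
        by_cases hkl : k ≤ (l : ℕ)
        · set c : F := w (Sum.inl ⟨k, hk⟩) / y (Sum.inl ⟨k, hk⟩) with hc
          have hyl : y ∈ WS m F (l : ℕ) := WS_mono m F hkl hyW
          have hw' : w - c • y ∈ WS m F (l : ℕ) :=
            (WS m F l).sub_mem hw ((WS m F l).smul_mem _ hyl)
          have hw'U : w - c • y ∈ US m F (Sp' m k) := by
            apply hUmem l _ hw'
            rw [Pi.sub_apply, Pi.smul_apply, smul_eq_mul, hc, div_mul_cancel₀ _ hyk, sub_self]
          have e : w = (w - c • y) + c • y := by rw [sub_add_cancel]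
          rw [e, Matrix.mulVec_add, Matrix.mulVec_smul, hAinvS' _ hw'U, hAinvy]
          exact (WS m F l).add_mem hw'
            ((WS m F l).smul_mem _ (single_inl_mem_WS m F hk hkl))
        · have hwk : w (Sum.inl ⟨k, hk⟩) = 0 := hw.1 ⟨k, hk⟩ (by simp; omega)
          rw [hAinvS' w (hUmem l w hw hwk)]; exact hw
    have hLS : Lk m k ⊆ Sp' m k := by
      intro t ht
      rcases t with i | i
      · have h1 : (i : ℕ) < k := ht
        show (i : ℕ) ≠ k
        omega
      · exact absurd ht id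
    exact ⟨A, Subgroup.mem_inf.2 ⟨hAB, StabS_anti m F hLS hAS'⟩, hAδ⟩

theorem card_Bor_chain (k : ℕ) (hk : k ≤ m) :
    Nat.card ↥(Bor m F ⊓ StabS m F (Lk m 0)) =
      Nat.card ↥(Bor m F ⊓ StabS m F (Lk m k)) *
        ∏ i ∈ Finset.range k, ((Fintype.card F) ^ i * (Fintype.card F - 1)) := by
  induction k with
  | zero => simp
  | succ k ih =>
    have hk' : k < m := by omega
    rw [ih hk'.le, borel_step m F k hk', Finset.prod_range_succ]
    ring

end chain

/-- Borel subgroup of the symplectic group: the elements of Sp_2m(q) stabilising each of the totally isotropic coordinate subspaces ⟨e_0, ..., e_k⟩ (k < m) form a subgroup of order q^(m²) (q − 1)^m. -/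
theorem result {F : Type*} [Field F] [Fintype F] {q : ℕ} (hF : Fintype.card F = q) (m : ℕ) : Nat.card ↥(⨅ k : Fin m, Cfsg.stabilizing (Cfsg.spToMat m F) {v : Fin m ⊕ Fin m → F | (∀ i : Fin m, (k : ℕ) < (i : ℕ) → v (Sum.inl i) = 0) ∧ ∀ i : Fin m, v (Sum.inr i) = 0}) = q ^ (m ^ 2) * (q - 1) ^ m := by
  classical
  show Nat.card ↥(Bor m F) = q ^ (m ^ 2) * (q - 1) ^ m
  have h0 : StabS m F (Lk m 0) = ⊤ := by
    rw [eq_top_iff]
    intro A _ u hu
    have hu0 : u = 0 := by
      ext t
      apply hu t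
      rcases t with i | i
      · exact fun h => absurd h (Nat.not_lt_zero _)
      · exact fun h => absurd h id
    rw [hu0, Matrix.mulVec_zero]
  have h1 := card_Bor_chain m F m le_rfl
  rw [h0, inf_top_eq, inf_eq_right.2 (StabS_Lk_le_Bor m F)] at h1
  have h2 := card_StabS_Sj m F m le_rfl
  rw [Sj_top, StabS_univ, Subgroup.card_bot, one_mul, Sj_zero] at h2
  rw [h1, h2, hF, Finset.prod_pow_eq_pow_sum, Finset.prod_mul_distrib, Finset.prod_pow_eq_pow_sum,
    Finset.prod_const, Finset.card_range]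
  have hsum : ∑ i ∈ Finset.range m, (m - i) + ∑ i ∈ Finset.range m, i = m ^ 2 := by
    rw [← Finset.sum_add_distrib, sq, ← smul_eq_mul, ← Finset.card_range m, ← Finset.sum_const,
      Finset.card_range]
    apply Finset.sum_congr rfl
    intro i hi
    have := Finset.mem_range.1 hi
    omega
  rw [← mul_assoc, ← pow_add, hsum]

end Cfsg.Agent.S0774
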