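import Cfsg.Statements.S0775
import Mathlib
import Cfsg.Agent.S0774
-- import your own Cfsg.Agent.* helpers here

set_option autoImplicit false
set_option linter.style.haveILetI false
set_option linter.deprecated false
set_option linter.unusedSectionVars false
open Cfsg

namespace Cfsg.Agent.S0775

open Cfsg.Agent.Lib.Helper2 Cfsg.Agent.S0245 Cfsg.Agent.S0774 Matrix

section
variable (m : ℕ) (F : Type*) [Field F]

theorem mulVec_inj (A : Matrix.symplecticGroup (Fin m) F) :
    Function.Injective (fun v : Fin m ⊕ Fin m → F =>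
      (A : Matrix (Fin m ⊕ Fin m) (Fin m ⊕ Fin m) F) *ᵥ v) := by
  intro u v h
  have h' : (A : Matrix (Fin m ⊕ Fin m) (Fin m ⊕ Fin m) F) *ᵥ u =
      (A : Matrix (Fin m ⊕ Fin m) (Fin m ⊕ Fin m) F) *ᵥ v := h
  have := congrArg (fun w => ((A⁻¹ : Matrix.symplecticGroup (Fin m) F) :
    Matrix (Fin m ⊕ Fin m) (Fin m ⊕ Fin m) F) *ᵥ w) h'
  simpa only [inv_mulVec_mulVec] using this

theorem mulVec_inv_mulVec (A : Matrix.symplecticGroup (Fin m) F) (v : Fin m ⊕ Fin m → F) :
    (A : Matrix (Fin m ⊕ Fin m) (Fin m ⊕ Fin m) F) *ᵥ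
      (((A⁻¹ : Matrix.symplecticGroup (Fin m) F) :
        Matrix (Fin m ⊕ Fin m) (Fin m ⊕ Fin m) F) *ᵥ v) = v := by
  have := inv_mulVec_mulVec m F A⁻¹ v
  rwa [inv_inv] at this

/-- Pointwise stabilizer of a subspace. -/
def FixS (U : Submodule F (Fin m ⊕ Fin m → F)) :
    Subgroup (Matrix.symplecticGroup (Fin m) F) where
  carrier := {A | ∀ u ∈ U, (A : Matrix (Fin m ⊕ Fin m) (Fin m ⊕ Fin m) F) *ᵥ u = u}
  one_mem' := by
    intro u _
    show (1 : Matrix (Fin m ⊕ Fin m) (Fin m ⊕ Fin m) F) *ᵥ u = u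
    exact Matrix.one_mulVec u
  mul_mem' := by
    intro A B hA hB u hu
    show ((A * B : Matrix.symplecticGroup (Fin m) F) :
      Matrix (Fin m ⊕ Fin m) (Fin m ⊕ Fin m) F) *ᵥ u = u
    rw [Submonoid.coe_mul, ← Matrix.mulVec_mulVec, hB u hu, hA u hu]
  inv_mem' := by
    intro A hA u hu
    have h1 := inv_mulVec_mulVec m F A u
    rw [hA u hu] at h1
    exact h1

theorem mem_StabS_Lk (j : ℕ) (A : Matrix.symplecticGroup (Fin m) F) :
    A ∈ StabS m F (Lk m j) ↔ ∀ i : Fin m, (i : ℕ) < j →
      (A : Matrix (Fin m ⊕ Fin m) (Fin m ⊕ Fin m) F) *ᵥ (Pi.single (Sum.inl i) 1) =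
        Pi.single (Sum.inl i) 1 := by
  constructor
  · intro hA i hi
    exact hA _ (single_mem_US m F (show Sum.inl i ∈ Lk m j from hi))
  · induction j with
    | zero =>
      intro _ u hu
      have hu0 : u = 0 := by
        ext t
        apply hu t
        rcases t with i | i
        · exact fun h => absurd h (Nat.not_lt_zero _)
        · exact fun h => absurd h id
      rw [hu0, Matrix.mulVec_zero]
    | succ j ih =>
      intro h
      by_cases hj : j < m
      · rw [← Lk_succ m j hj, mem_StabS_insert]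
        exact ⟨ih (fun i hi => h i (by omega)), h ⟨j, hj⟩ (by simp)⟩
      · have hsub : Lk m (j + 1) ⊆ Lk m j := by
          intro t ht
          rcases t with i | i
          · show (i : ℕ) < j
            have := i.2
            omega
          · exact absurd ht id
        exact StabS_anti m F hsub (ih (fun i hi => h i (by omega)))

theorem form_single_inl (a b : Fin m) :
    Cfsg.sympForm m F (Pi.single (Sum.inl a) 1) (Pi.single (Sum.inl b) 1) = 0 :=
  form_zero_of_inr_zero m F _ _ (fun i => Pi.single_eq_of_ne (by simp) 1)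
    (fun i => Pi.single_eq_of_ne (by simp) 1)

theorem witt_frame (k : ℕ) (hk : k ≤ m) (y : Fin k → (Fin m ⊕ Fin m → F))
    (hli : LinearIndependent F y) (hiso : ∀ i j, Cfsg.sympForm m F (y i) (y j) = 0) :
    ∃ g : Matrix.symplecticGroup (Fin m) F, ∀ i : Fin k,
      (g : Matrix (Fin m ⊕ Fin m) (Fin m ⊕ Fin m) F) *ᵥ
        (Pi.single (Sum.inl (Fin.castLE hk i)) 1) = y i := by
  have key : ∀ j : ℕ, j ≤ k → ∃ g : Matrix.symplecticGroup (Fin m) F, ∀ i : Fin k, (i : ℕ) < j →
      (g : Matrix (Fin m ⊕ Fin m) (Fin m ⊕ Fin m) F) *ᵥ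
        (Pi.single (Sum.inl (Fin.castLE hk i)) 1) = y i := by
    intro j
    induction j with
    | zero => intro _; exact ⟨1, fun i hi => absurd hi (Nat.not_lt_zero _)⟩
    | succ j ih =>
      intro hj
      obtain ⟨g, hg⟩ := ih (by omega)
      have hjk : j < k := by omega
      set e : Fin m ⊕ Fin m → F := Pi.single (Sum.inl (Fin.castLE hk ⟨j, hjk⟩)) 1 with he
      set x := (g : Matrix (Fin m ⊕ Fin m) (Fin m ⊕ Fin m) F) *ᵥ e with hx
      set U : Submodule F (Fin m ⊕ Fin m → F) :=
        Submodule.span F (y '' {i : Fin k | (i : ℕ) < j}) with hU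
      have hyU : y ⟨j, hjk⟩ ∉ U := hli.notMem_span_image (by simp)
      have hUle : ∀ u ∈ U, ∃ u0 ∈ US m F (Lk m j),
          (g : Matrix (Fin m ⊕ Fin m) (Fin m ⊕ Fin m) F) *ᵥ u0 = u := by
        intro u hu
        refine Submodule.span_induction (p := fun u _ => ∃ u0 ∈ US m F (Lk m j),
          (g : Matrix (Fin m ⊕ Fin m) (Fin m ⊕ Fin m) F) *ᵥ u0 = u) ?_ ?_ ?_ ?_ hu
        · rintro _ ⟨i, hi, rfl⟩
          exact ⟨_, single_mem_US m F (show Sum.inl (Fin.castLE hk i) ∈ Lk m j from hi), hg i hi⟩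
        · exact ⟨0, Submodule.zero_mem _, Matrix.mulVec_zero _⟩
        · rintro a b _ _ ⟨a0, ha0, rfl⟩ ⟨b0, hb0, rfl⟩
          exact ⟨a0 + b0, Submodule.add_mem _ ha0 hb0, Matrix.mulVec_add _ _ _⟩
        · rintro c a _ ⟨a0, ha0, rfl⟩
          exact ⟨c • a0, Submodule.smul_mem _ c ha0, Matrix.mulVec_smul _ _ _⟩
      have hxU : x ∉ U := by
        intro h
        obtain ⟨u0, hu0, hgu⟩ := hUle x h
        have h1 : u0 = e := mulVec_inj m F g hgu
        rw [h1] at hu0
        have h2 := hu0 (Sum.inl (Fin.castLE hk ⟨j, hjk⟩)) (by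
          show ¬ (j < j)
          exact lt_irrefl j)
        rw [he, Pi.single_eq_same] at h2
        exact one_ne_zero h2
      have hform : ∀ u ∈ U, Cfsg.sympForm m F u x = Cfsg.sympForm m F u (y ⟨j, hjk⟩) := by
        intro u hu
        refine Submodule.span_induction (p := fun u _ =>
          Cfsg.sympForm m F u x = Cfsg.sympForm m F u (y ⟨j, hjk⟩)) ?_ ?_ ?_ ?_ hu
        · rintro _ ⟨i, hi, rfl⟩
          rw [hiso, ← hg i hi, hx, sympForm_mulVec_mulVec m g.1 g.2, he]
          exact form_single_inl m F _ _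
        · rw [Cfsg.Agent.S0768.sympForm_zero_left, Cfsg.Agent.S0768.sympForm_zero_left]
        · intro a b _ _ ha hb
          rw [sympForm_add_left, sympForm_add_left, ha, hb]
        · intro c a _ ha
          rw [sympForm_smul_left, sympForm_smul_left, ha]
      obtain ⟨A, hAx, hAfix⟩ := Cfsg.Agent.S0768.move m U x (y ⟨j, hjk⟩) hxU hyU hform
      refine ⟨A * g, ?_⟩
      intro i hi
      rw [Submonoid.coe_mul, ← Matrix.mulVec_mulVec]
      by_cases hij : (i : ℕ) < j
      · rw [hg i hij]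
        exact hAfix _ (Submodule.subset_span ⟨i, hij, rfl⟩)
      · have h3 : i = ⟨j, hjk⟩ := Fin.ext (by
          show (i : ℕ) = j
          omega)
        rw [h3]; exact hAx
  obtain ⟨g, hg⟩ := key k le_rfl
  exact ⟨g, fun i => hg i i.2⟩

/-- If `A` maps a spanning family of `W` into `W`, it maps `W` into `W`. -/
theorem maps_of_span {k : ℕ} (W : Submodule F (Fin m ⊕ Fin m → F))
    (y : Fin k → (Fin m ⊕ Fin m → F)) (hy : Submodule.span F (Set.range y) = W)
    (A : Matrix.symplecticGroup (Fin m) F)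
    (hA : ∀ i, (A : Matrix (Fin m ⊕ Fin m) (Fin m ⊕ Fin m) F) *ᵥ y i ∈ W) :
    ∀ v ∈ W, (A : Matrix (Fin m ⊕ Fin m) (Fin m ⊕ Fin m) F) *ᵥ v ∈ W := by
  intro v hv
  rw [← hy] at hv
  refine Submodule.span_induction (p := fun v _ =>
    (A : Matrix (Fin m ⊕ Fin m) (Fin m ⊕ Fin m) F) *ᵥ v ∈ W) ?_ ?_ ?_ ?_ hv
  · rintro _ ⟨i, rfl⟩
    exact hA i
  · rw [Matrix.mulVec_zero]; exact W.zero_mem
  · intro a b _ _ ha hb
    rw [Matrix.mulVec_add]; exact W.add_mem ha hb
  · intro c a _ ha
    rw [Matrix.mulVec_smul]; exact W.smul_mem c ha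

/-- If `A` fixes a spanning family of `W`, it fixes `W` pointwise. -/
theorem fix_of_span {k : ℕ} (W : Submodule F (Fin m ⊕ Fin m → F))
    (y : Fin k → (Fin m ⊕ Fin m → F)) (hy : Submodule.span F (Set.range y) = W)
    (A : Matrix.symplecticGroup (Fin m) F)
    (hA : ∀ i, (A : Matrix (Fin m ⊕ Fin m) (Fin m ⊕ Fin m) F) *ᵥ y i = y i) :
    A ∈ FixS m F W := by
  intro v hv
  rw [← hy] at hv
  refine Submodule.span_induction (p := fun v _ =>
    (A : Matrix (Fin m ⊕ Fin m) (Fin m ⊕ Fin m) F) *ᵥ v = v) ?_ ?_ ?_ ?_ hv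
  · rintro _ ⟨i, rfl⟩
    exact hA i
  · rw [Matrix.mulVec_zero]
  · intro a b _ _ ha hb
    rw [Matrix.mulVec_add, ha, hb]
  · intro c a _ ha
    rw [Matrix.mulVec_smul, ha]

theorem FixS_le_stabilizing (W : Submodule F (Fin m ⊕ Fin m → F)) :
    FixS m F W ≤ Cfsg.stabilizing (Cfsg.spToMat m F) (W : Set (Fin m ⊕ Fin m → F)) := by
  intro A hA v
  have hAinv : A⁻¹ ∈ FixS m F W := (FixS m F W).inv_mem hA
  show v ∈ W ↔ (A : Matrix (Fin m ⊕ Fin m) (Fin m ⊕ Fin m) F) *ᵥ v ∈ W
  constructor
  · intro hv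
    rw [hA v hv]; exact hv
  · intro hv
    have h1 := hAinv _ hv
    rw [inv_mulVec_mulVec] at h1
    rw [h1]; exact hv

end

section count
variable (m : ℕ) (F : Type*) [Field F] [Fintype F]

def Rk (k j : ℕ) : Set (Fin m ⊕ Fin m) :=
  {t | Sum.elim (fun i : Fin m => (i : ℕ) < k) (fun i => (i : ℕ) < j) t}

theorem Rk_succ (k j : ℕ) (hj : j < m) :
    insert (Sum.inr (⟨j, hj⟩ : Fin m)) (Rk m k j) = Rk m k (j + 1) := by
  ext t
  rw [Set.mem_insert_iff]
  rcases t with i | i
  · show (Sum.inl i = Sum.inr (⟨j, hj⟩ : Fin m) ∨ (i : ℕ) < k) ↔ (i : ℕ) < k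
    simp
  · show (Sum.inr i = Sum.inr (⟨j, hj⟩ : Fin m) ∨ (i : ℕ) < j) ↔ (i : ℕ) < j + 1
    simp only [Sum.inr.injEq, Fin.ext_iff]
    omega

theorem count_Rk (k j : ℕ) (hjk : j < k) (hk : k ≤ m) :
    Nat.card {y : Fin m ⊕ Fin m → F // (∃ t, t ∉ Rk m k j ∧ y t ≠ 0) ∧
        ∀ s ∈ Rk m k j, (Matrix.J (Fin m) F *ᵥ y) s =
          (Matrix.J (Fin m) F *ᵥ
            (Pi.single (Sum.inr ⟨j, lt_of_lt_of_le hjk hk⟩) 1 : Fin m ⊕ Fin m → F)) s} =
      (Fintype.card F) ^ ((m - j) + (m - k)) := by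
  classical
  have hj : j < m := lt_of_lt_of_le hjk hk
  set s : Fin m ⊕ Fin m → Finset F := fun t =>
    Sum.elim (fun i : Fin m => if (i : ℕ) < j then ({0} : Finset F) else Finset.univ)
      (fun i : Fin m => if (i : ℕ) < k then
        (if (i : ℕ) = j then ({1} : Finset F) else {0}) else Finset.univ) t with hs
  have hiff : ∀ y : Fin m ⊕ Fin m → F,
      ((∃ t, t ∉ Rk m k j ∧ y t ≠ 0) ∧
        ∀ s ∈ Rk m k j, (Matrix.J (Fin m) F *ᵥ y) s =
          (Matrix.J (Fin m) F *ᵥ (Pi.single (Sum.inr ⟨j, hj⟩) 1 : Fin m ⊕ Fin m → F)) s) ↔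
        y ∈ Fintype.piFinset s := by
    intro y
    rw [Fintype.mem_piFinset]
    constructor
    · rintro ⟨-, hcond⟩ t
      rcases t with i | i
      · show y (Sum.inl i) ∈ (if (i : ℕ) < j then ({0} : Finset F) else Finset.univ)
        by_cases hi : (i : ℕ) < j
        · rw [if_pos hi, Finset.mem_singleton]
          have h1 := hcond (Sum.inr i) (by show (i : ℕ) < j; exact hi)
          rw [J_mulVec_inr, J_mulVec_inr, Pi.single_eq_of_ne (by simp)] at h1
          exact h1
        · rw [if_neg hi]; exact Finset.mem_univ _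
      · show y (Sum.inr i) ∈ (if (i : ℕ) < k then
          (if (i : ℕ) = j then ({1} : Finset F) else {0}) else Finset.univ)
        by_cases hik : (i : ℕ) < k
        · rw [if_pos hik]
          have h1 := hcond (Sum.inl i) (by show (i : ℕ) < k; exact hik)
          rw [J_mulVec_inl, J_mulVec_inl, neg_inj] at h1
          by_cases hi : (i : ℕ) = j
          · rw [if_pos hi, Finset.mem_singleton, h1]
            have : i = ⟨j, hj⟩ := Fin.ext hi
            rw [this, Pi.single_eq_same]
          · rw [if_neg hi, Finset.mem_singleton, h1, Pi.single_eq_of_ne]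
            intro h
            exact hi (congrArg Fin.val (Sum.inr.inj h))
        · rw [if_neg hik]; exact Finset.mem_univ _
    · intro h
      have hinl : ∀ i : Fin m, (i : ℕ) < j → y (Sum.inl i) = 0 := by
        intro i hi
        have := h (Sum.inl i)
        change y (Sum.inl i) ∈ (if (i : ℕ) < j then ({0} : Finset F) else Finset.univ) at this
        rwa [if_pos hi, Finset.mem_singleton] at this
      have hinr : ∀ i : Fin m, (i : ℕ) < k → y (Sum.inr i) = if (i : ℕ) = j then 1 else 0 := by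
        intro i hik
        have := h (Sum.inr i)
        change y (Sum.inr i) ∈ (if (i : ℕ) < k then
          (if (i : ℕ) = j then ({1} : Finset F) else {0}) else Finset.univ) at this
        rw [if_pos hik] at this
        by_cases hi : (i : ℕ) = j
        · rw [if_pos hi, Finset.mem_singleton] at this; rw [if_pos hi]; exact this
        · rw [if_neg hi, Finset.mem_singleton] at this; rw [if_neg hi]; exact this
      constructor
      · refine ⟨Sum.inr ⟨j, hj⟩, ?_, ?_⟩
        · intro h'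
          have h'' : j < j := h'
          exact lt_irrefl j h''
        · rw [hinr ⟨j, hj⟩ hjk, if_pos rfl]; exact one_ne_zero
      · intro t ht
        rcases t with i | i
        · have hik : (i : ℕ) < k := ht
          rw [J_mulVec_inl, J_mulVec_inl, hinr i hik]
          by_cases hi : (i : ℕ) = j
          · have : i = ⟨j, hj⟩ := Fin.ext hi
            rw [if_pos hi, this, Pi.single_eq_same]
          · rw [if_neg hi, Pi.single_eq_of_ne]
            intro h'
            exact hi (congrArg Fin.val (Sum.inr.inj h'))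
        · have hi : (i : ℕ) < j := ht
          rw [J_mulVec_inr, J_mulVec_inr, hinl i hi, Pi.single_eq_of_ne (by simp)]
  rw [Nat.card_congr (Equiv.subtypeEquivRight hiff), Nat.card_eq_fintype_card, Fintype.card_coe,
    Fintype.card_piFinset, Fintype.prod_sum_type]
  have h1 : ∀ i : Fin m, (s (Sum.inl i)).card =
      if (i : ℕ) < j then 1 else Fintype.card F := by
    intro i
    show (if (i : ℕ) < j then ({0} : Finset F) else Finset.univ).card = _
    by_cases hi : (i : ℕ) < j
    · rw [if_pos hi, if_pos hi, Finset.card_singleton]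
    · rw [if_neg hi, if_neg hi, Finset.card_univ]
  have h2 : ∀ i : Fin m, (s (Sum.inr i)).card =
      if (i : ℕ) < k then 1 else Fintype.card F := by
    intro i
    show (if (i : ℕ) < k then
          (if (i : ℕ) = j then ({1} : Finset F) else {0}) else Finset.univ).card = _
    by_cases hik : (i : ℕ) < k
    · rw [if_pos hik, if_pos hik]
      by_cases hi : (i : ℕ) = j
      · rw [if_pos hi, Finset.card_singleton]
      · rw [if_neg hi, Finset.card_singleton]
    · rw [if_neg hik, if_neg hik, Finset.card_univ]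
  rw [Finset.prod_congr rfl (fun i _ => h1 i), Finset.prod_congr rfl (fun i _ => h2 i),
    prod_ite_lt m _ j hj.le, prod_ite_lt m _ k hk, ← pow_add]

theorem card_StabS_Rk (k : ℕ) (hk : k ≤ m) (j : ℕ) (hj : j ≤ k) :
    Nat.card (StabS m F (Rk m k 0)) = Nat.card (StabS m F (Rk m k j)) *
      ∏ i ∈ Finset.range j, (Fintype.card F) ^ ((m - i) + (m - k)) := by
  induction j with
  | zero => simp
  | succ j ih =>
    have hjk : j < k := by omega
    have hjm : j < m := by omega
    have hn : (Sum.inr (⟨j, hjm⟩ : Fin m)) ∉ Rk m k j := by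
      intro h
      have h' : j < j := h
      exact lt_irrefl j h'
    have s1 := step m F (Rk m k j) (Sum.inr ⟨j, hjm⟩) hn
    rw [Rk_succ m k j hjm, count_Rk m F k j hjk hk] at s1
    rw [ih hjk.le, s1, Finset.prod_range_succ]
    ring

theorem Rk_zero (k : ℕ) : Rk m k 0 = Lk m k := by
  ext t
  rcases t with i | i
  · exact Iff.rfl
  · exact ⟨fun h => absurd h (Nat.not_lt_zero _), fun h => absurd h id⟩

theorem Rk_self (k : ℕ) : Rk m k k = T m k := by
  ext t
  rcases t with i | i
  · exact Iff.rfl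
  · exact Iff.rfl

theorem sum_exponent (k : ℕ) (hk : k ≤ m) :
    ∑ i ∈ Finset.range k, ((m - i) + (m - k)) = k * (k + 1) / 2 + 2 * k * (m - k) := by
  have h1 : ∀ i ∈ Finset.range k, (m - i) + (m - k) = (k - i) + 2 * (m - k) := by
    intro i hi
    have := Finset.mem_range.1 hi
    omega
  rw [Finset.sum_congr rfl h1, Finset.sum_add_distrib, Finset.sum_const, Finset.card_range,
    smul_eq_mul]
  have h2 : ∑ i ∈ Finset.range k, (k - i) = k * (k + 1) / 2 := by
    have h3 := Finset.sum_range_reflect (fun i => i) (k + 1)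
    rw [Finset.sum_range_succ, Finset.sum_range_id] at h3
    simp only [Nat.add_sub_cancel, Nat.sub_self, add_zero] at h3
    rw [h3, mul_comm]
  rw [h2]
  ring

end count

/-- Maximal parabolics of the symplectic group: if W is a k-dimensional subspace of F^(2m) on which the symplectic form vanishes identically, its stabiliser in Sp_2m(q) has order q^(k(k+1)/2 + 2k(m−k)) · |Sp_(2m−2k)(q)| · |GL_k(q)|. -/
theorem result {F : Type*} [Field F] [Fintype F] {q : ℕ} (hF : Fintype.card F = q) (m k : ℕ) (hk : k ≤ m) (W : Submodule F (Fin m ⊕ Fin m → F)) (hWk : Module.finrank F W = k) (hW : ∀ u ∈ W, ∀ v ∈ W, Cfsg.sympForm m F u v = 0) : Nat.card ↥(Cfsg.stabilizing (Cfsg.spToMat m F) (W : Set (Fin m ⊕ Fin m → F))) = q ^ (k * (k + 1) / 2 + 2 * k * (m - k)) * (q ^ ((m - k) ^ 2) * ∏ i ∈ Finset.range (m - k), (q ^ (2 * (i + 1)) - 1)) * ∏ i : Fin k, (q ^ k - q ^ (i : ℕ)) := by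
  classical
  letI := actV m F
  set P := Cfsg.stabilizing (Cfsg.spToMat m F) (W : Set (Fin m ⊕ Fin m → F)) with hP
  have hPmem : ∀ A : Matrix.symplecticGroup (Fin m) F, A ∈ P ↔
      ∀ v, v ∈ W ↔ (A : Matrix (Fin m ⊕ Fin m) (Fin m ⊕ Fin m) F) *ᵥ v ∈ W := fun A => Iff.rfl
  -- a basis of `W`
  let b := Module.finBasisOfFinrankEq F ↥W hWk
  set y : Fin k → (Fin m ⊕ Fin m → F) := fun i => ((b i : ↥W) : Fin m ⊕ Fin m → F) with hy
  have hyli : LinearIndependent F y :=
    b.linearIndependent.map' W.subtype (Submodule.ker_subtype W)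
  have hyW : ∀ i, y i ∈ W := fun i => (b i).2
  have hspan : Submodule.span F (Set.range y) = W := by
    have h1 : Set.range y = W.subtype '' Set.range b := by
      rw [← Set.range_comp]; rfl
    rw [h1, ← Submodule.map_span, b.span_eq, Submodule.map_subtype_top]
  obtain ⟨g, hg⟩ := witt_frame m F k hk y hyli (fun i j => hW _ (hyW i) _ (hyW j))
  -- frames
  set Fr : Set (Fin k → (Fin m ⊕ Fin m → F)) :=
    {z | (∀ i, z i ∈ W) ∧ LinearIndependent F z} with hFr
  have hzspan : ∀ z ∈ Fr, Submodule.span F (Set.range z) = W := by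
    rintro z ⟨hzW, hzli⟩
    apply Submodule.eq_of_le_of_finrank_eq
    · rw [Submodule.span_le]
      rintro _ ⟨i, rfl⟩
      exact hzW i
    · rw [finrank_span_eq_card hzli, Fintype.card_fin, hWk]
  -- orbit of `y`
  have horb : MulAction.orbit (↥P) y = Fr := by
    ext z
    constructor
    · rintro ⟨⟨A, hA⟩, rfl⟩
      constructor
      · intro i
        exact ((hPmem A).1 hA (y i)).1 (hyW i)
      · exact hyli.map' (Matrix.mulVecLin (A : Matrix (Fin m ⊕ Fin m) (Fin m ⊕ Fin m) F))
          (LinearMap.ker_eq_bot.2 (mulVec_inj m F A))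
    · intro hz
      obtain ⟨hzW, hzli⟩ := hz
      obtain ⟨g', hg'⟩ := witt_frame m F k hk z hzli (fun i j => hW _ (hzW i) _ (hzW j))
      have hAy : ∀ i, ((g' * g⁻¹ : Matrix.symplecticGroup (Fin m) F) :
          Matrix (Fin m ⊕ Fin m) (Fin m ⊕ Fin m) F) *ᵥ y i = z i := by
        intro i
        rw [Submonoid.coe_mul, ← Matrix.mulVec_mulVec, ← hg i, inv_mulVec_mulVec, hg' i]
      have hAinvz : ∀ i, (((g' * g⁻¹)⁻¹ : Matrix.symplecticGroup (Fin m) F) :
          Matrix (Fin m ⊕ Fin m) (Fin m ⊕ Fin m) F) *ᵥ z i = y i := by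
        intro i
        rw [← hAy i, inv_mulVec_mulVec]
      have hAP : g' * g⁻¹ ∈ P := by
        rw [hPmem]
        intro v
        constructor
        · exact maps_of_span m F W y hspan _ (fun i => by rw [hAy i]; exact hzW i) v
        · intro hv
          have h1 := maps_of_span m F W z (hzspan z ⟨hzW, hzli⟩) (g' * g⁻¹)⁻¹
            (fun i => by rw [hAinvz i]; exact hyW i) _ hv
          rwa [inv_mulVec_mulVec] at h1
      refine ⟨⟨g' * g⁻¹, hAP⟩, ?_⟩
      funext i
      exact hAy i
  -- stabilizer of `y`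
  have hstab : Nat.card (MulAction.stabilizer (↥P) y) = Nat.card (FixS m F W) := by
    apply Nat.card_congr
    refine
      { toFun := fun X => ⟨X.1.1, fix_of_span m F W y hspan X.1.1 (fun i => ?_)⟩
        invFun := fun A => ⟨⟨A.1, FixS_le_stabilizing m F W A.2⟩, ?_⟩
        left_inv := fun X => rfl
        right_inv := fun A => rfl }
    · have h1 := X.2
      rw [MulAction.mem_stabilizer_iff] at h1
      exact congrFun h1 i
    · rw [MulAction.mem_stabilizer_iff]
      funext i
      exact A.2 (y i) (hyW i)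
  -- count of frames
  have hFrcard : Nat.card ↥Fr = ∏ i : Fin k, (q ^ k - q ^ (i : ℕ)) := by
    have h1 := card_linearIndependent (K := F) (V := ↥W) (k := k) (by rw [hWk])
    rw [hWk, hF] at h1
    rw [← h1]
    apply Nat.card_congr
    exact
      { toFun := fun z => ⟨fun i => ⟨z.1 i, z.2.1 i⟩, LinearIndependent.of_comp W.subtype z.2.2⟩
        invFun := fun s => ⟨fun i => ((s.1 i : ↥W) : Fin m ⊕ Fin m → F),
          ⟨fun i => (s.1 i).2, s.2.map' W.subtype (Submodule.ker_subtype W)⟩⟩
        left_inv := fun z => rfl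
        right_inv := fun s => rfl }
  -- conjugating the pointwise stabilizer to a standard one
  have hfix : Nat.card (FixS m F W) = Nat.card (StabS m F (Lk m k)) := by
    apply Nat.card_congr
    refine
      { toFun := fun B => ⟨g⁻¹ * B.1 * g, ?_⟩
        invFun := fun C => ⟨g * C.1 * g⁻¹, ?_⟩
        left_inv := fun B => by
          apply Subtype.ext
          show g * (g⁻¹ * B.1 * g) * g⁻¹ = B.1
          group
        right_inv := fun C => by
          apply Subtype.ext
          show g⁻¹ * (g * C.1 * g⁻¹) * g = C.1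
          group }
    · rw [mem_StabS_Lk]
      intro i hi
      have hgi := hg ⟨(i : ℕ), hi⟩
      have hcast : Fin.castLE hk ⟨(i : ℕ), hi⟩ = i := Fin.ext rfl
      rw [hcast] at hgi
      rw [Submonoid.coe_mul, Submonoid.coe_mul, ← Matrix.mulVec_mulVec, ← Matrix.mulVec_mulVec,
        hgi, B.2 _ (hyW _), ← hgi, inv_mulVec_mulVec]
    · apply fix_of_span m F W y hspan
      intro i
      have hCi := C.2 _ (single_mem_US m F
        (show Sum.inl (Fin.castLE hk i) ∈ Lk m k from i.2))
      rw [Submonoid.coe_mul, Submonoid.coe_mul, ← Matrix.mulVec_mulVec, ← Matrix.mulVec_mulVec,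
        ← hg i, inv_mulVec_mulVec, hCi]
  -- assemble
  have e1 := MulAction.index_stabilizer (↥P) y
  have e2 := (MulAction.stabilizer (↥P) y).card_mul_index
  have e5 : (MulAction.orbit (↥P) y).ncard = Nat.card ↥Fr := by
    rw [← Nat.card_coe_set_eq]
    exact Nat.card_congr (Equiv.setCongr horb)
  have hchain := card_StabS_Rk m F k hk k le_rfl
  rw [Rk_zero, Rk_self] at hchain
  have hT := card_StabS_T m F (m - k) (Nat.sub_le m k)
  have hmk : m - (m - k) = k := by omega
  rw [hmk, hF] at hT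
  rw [← e2, hstab, e1, e5, hFrcard, hfix, hchain, hT, hF, Finset.prod_pow_eq_pow_sum,
    sum_exponent m k hk]
  ring

end Cfsg.Agent.S0775
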