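import Mathlib
import Cfsg.Statements.S0776
import Cfsg.Agent.Lib.Helper5.SpStab
import Cfsg.Agent.Lib.Helper2.SympForm

set_option autoImplicit false
open Cfsg

namespace Cfsg.Agent.S0776

open Cfsg.Agent.Lib.Helper5

theorem result {F : Type*} [Field F] (m k : ℕ) (hk : k ≤ m) (W : Submodule F (Fin m ⊕ Fin m → F)) (hWk : Module.finrank F W = 2 * k) (hW : ∀ u ∈ W, (∀ v ∈ W, Cfsg.sympForm m F u v = 0) → u = 0) : Nonempty (↥(Cfsg.stabilizing (Cfsg.spToMat m F) (W : Set (Fin m ⊕ Fin m → F))) ≃* Matrix.symplecticGroup (Fin k) F × Matrix.symplecticGroup (Fin (m - k)) F) := by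
  classical
  let B : LinearMap.BilinForm F (Fin m ⊕ Fin m → F) := Matrix.toBilin' (Matrix.J (Fin m) F)
  have hBs : ∀ u v, B u v = Cfsg.sympForm m F u v := by
    intro u v
    exact Matrix.toBilin'_apply' _ u v
  have hA : B.IsAlt := by
    intro u
    rw [hBs]
    exact Cfsg.Agent.Lib.Helper2.sympForm_self m u
  have hBnd : B.Nondegenerate :=
    LinearMap.BilinForm.nondegenerate_toBilin'_of_det_ne_zero' _ (Matrix.isUnit_det_J (Fin m) F).ne_zero
  have hWnd : (B.restrict W).Nondegenerate := by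
    constructor
    · intro u hu
      apply Subtype.ext
      apply hW u.1 u.2
      intro v hv
      rw [← hBs]
      exact hu ⟨v, hv⟩
    · intro u hu
      apply Subtype.ext
      apply hW u.1 u.2
      intro v hv
      rw [← hBs, ← hA.neg_eq v u]
      have h := hu ⟨v, hv⟩
      have h' : B v u.1 = 0 := h
      rw [h', neg_zero]
  let W' := B.orthogonal W
  have hc : IsCompl W W' :=
    LinearMap.BilinForm.isCompl_orthogonal_of_restrict_nondegenerate hA.isRefl hWnd
  have hW'dim : Module.finrank F W' = 2 * (m - k) := by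
    rw [LinearMap.BilinForm.finrank_orthogonal hBnd W, hWk, Module.finrank_fintype_fun_eq_card,
      Fintype.card_sum, Fintype.card_fin]
    omega
  have hW'nd : (B.restrict W').Nondegenerate := by
    rw [LinearMap.BilinForm.restrict_nondegenerate_iff_isCompl_orthogonal hA.isRefl,
      LinearMap.BilinForm.orthogonal_orthogonal hBnd hA.isRefl]
    exact hc.symm
  have h1 : ∀ w ∈ W, ∀ w' ∈ W', B w w' = 0 := by
    intro w hw w' hw'
    exact (LinearMap.BilinForm.mem_orthogonal_iff.1 hw') w hw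
  have h2 : ∀ w ∈ W, ∀ w' ∈ W', B w' w = 0 := by
    intro w hw w' hw'
    exact hA.isRefl _ _ (h1 w hw w' hw')
  have hW' : ∀ v, (∀ w ∈ W, B w v = 0) → v ∈ W' := by
    intro v hv
    exact LinearMap.BilinForm.mem_orthogonal_iff.2 hv
  obtain ⟨Ψ⟩ := stab_split (fun u v => B u v) (fun u u' v => by simp) (fun u v v' => by simp)
    W W' hc h1 h2 hW'
  have hA1 : (B.restrict W).IsAlt := fun u => hA u.1
  have hA2 : (B.restrict W').IsAlt := fun u => hA u.1
  obtain ⟨φ1⟩ := presGrp_equiv_symplectic_of_nondeg (B.restrict W) hWnd hA1 hWk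
  obtain ⟨φ2⟩ := presGrp_equiv_symplectic_of_nondeg (B.restrict W') hW'nd hA2 hW'dim
  obtain ⟨φ0, hφ0⟩ := presGrp_equiv_symplectic B (Pi.basisFun F (Fin m ⊕ Fin m)) 1 one_ne_zero
    (by rw [one_smul, LinearMap.BilinForm.toMatrix_basisFun]; exact LinearMap.BilinForm.toMatrix'_toBilin' _)
  let T := (stabSub W).subgroupOf (presGrp fun u v => B u v)
  have hT : T.map φ0.toMonoidHom = Cfsg.stabilizing (Cfsg.spToMat m F) (W : Set (Fin m ⊕ Fin m → F)) := by
    ext M
    rw [Subgroup.mem_map_equiv]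
    have hM : ∀ v, (φ0.symm M).1 v = (M : Matrix (Fin m ⊕ Fin m) (Fin m ⊕ Fin m) F).mulVec v := by
      intro v
      have h := hφ0 (φ0.symm M)
      rw [MulEquiv.apply_symm_apply, LinearMap.toMatrix_eq_toMatrix'] at h
      rw [h, LinearMap.toMatrix'_mulVec]
      rfl
    show (∀ v, v ∈ W ↔ (φ0.symm M).1 v ∈ W) ↔
      (∀ v, v ∈ (W : Set (Fin m ⊕ Fin m → F)) ↔
        (Cfsg.spToMat m F M).mulVec v ∈ (W : Set (Fin m ⊕ Fin m → F)))
    simp only [hM]
    rfl
  exact ⟨((MulEquiv.subgroupCongr hT).symm.trans (φ0.subgroupMap T).symm).trans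
    (Ψ.trans (MulEquiv.prodCongr φ1 φ2))⟩

end Cfsg.Agent.S0776
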