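import Cfsg.Statements.S0777


set_option autoImplicit false
open Cfsg

namespace Cfsg.Agent.S0777


open Matrix

section
variable {F : Type*} [Field F] {m : ℕ}

theorem exists_sq_ne_one [Fintype F] (h4 : 4 ≤ Fintype.card F) :
    ∃ a : F, a ≠ 0 ∧ a ^ 2 ≠ 1 := by
  classical
  by_contra hcon
  push Not at hcon
  have hsub : (Finset.univ : Finset F) ⊆ {0, 1, -1} := by
    intro a _
    by_cases h0 : a = 0
    · simp [h0]
    · have h1 := hcon a h0
      rw [pow_two, mul_self_eq_one_iff] at h1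
      rcases h1 with h1 | h1
      · simp [h1]
      · simp [h1]
  have h1 := Finset.card_le_card hsub
  have h2 : ({0, 1, -1} : Finset F).card ≤ 3 := Finset.card_le_three
  rw [Finset.card_univ] at h1
  omega

/-- sign function of `J`. -/
def sg (F : Type*) [Field F] (m : ℕ) : Fin m ⊕ Fin m → F :=
  Sum.elim (fun _ => -1) (fun _ => 1)

theorem sg_mul_self (i : Fin m ⊕ Fin m) : sg F m i * sg F m i = 1 := by
  cases i <;> simp [sg]

theorem sg_swap (i : Fin m ⊕ Fin m) : sg F m i.swap = - sg F m i := by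
  cases i <;> simp [sg]

theorem sg_ne_zero (i : Fin m ⊕ Fin m) : sg F m i ≠ 0 := by
  intro h
  have h1 := sg_mul_self (F := F) i
  rw [h] at h1
  simp at h1

theorem swap_ne (i : Fin m ⊕ Fin m) : i.swap ≠ i := by
  cases i <;> simp

theorem J_apply (i j : Fin m ⊕ Fin m) :
    Matrix.J (Fin m) F i j = if j = i.swap then sg F m i else 0 := by
  rcases i with a | a <;> rcases j with b | b
  · simp [Matrix.J, sg]
  · simp only [Matrix.J, Matrix.fromBlocks_apply₁₂, Sum.swap_inl, Sum.inr.injEq, sg, Sum.elim_inl,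
      Matrix.neg_apply, Matrix.one_apply]
    by_cases h : a = b
    · subst h; simp
    · rw [if_neg h, if_neg (Ne.symm h)]; simp
  · simp only [Matrix.J, Matrix.fromBlocks_apply₂₁, Sum.swap_inr, Sum.inl.injEq, sg, Sum.elim_inr,
      Matrix.one_apply]
    by_cases h : a = b
    · subst h; simp
    · rw [if_neg h, if_neg (Ne.symm h)]
  · simp [Matrix.J, sg]

/-- monomial matrix: column `i` is `c i` times the basis vector `σ i`. -/
def mono (σ : Equiv.Perm (Fin m ⊕ Fin m)) (c : Fin m ⊕ Fin m → F) :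
    Matrix (Fin m ⊕ Fin m) (Fin m ⊕ Fin m) F :=
  fun j i => if j = σ i then c i else 0

theorem mul_mono (k : Matrix (Fin m ⊕ Fin m) (Fin m ⊕ Fin m) F) (σ : Equiv.Perm (Fin m ⊕ Fin m))
    (c : Fin m ⊕ Fin m → F) (j i : Fin m ⊕ Fin m) :
    (k * mono σ c) j i = k j (σ i) * c i := by
  rw [Matrix.mul_apply, Finset.sum_eq_single (σ i)]
  · simp [mono]
  · intro b _ hb
    simp [mono, hb]
  · intro h; exact absurd (Finset.mem_univ _) h

theorem mono_mul (σ : Equiv.Perm (Fin m ⊕ Fin m)) (c : Fin m ⊕ Fin m → F)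
    (h : Matrix (Fin m ⊕ Fin m) (Fin m ⊕ Fin m) F) (j i : Fin m ⊕ Fin m) :
    (mono σ c * h) j i = c (σ.symm j) * h (σ.symm j) i := by
  rw [Matrix.mul_apply, Finset.sum_eq_single (σ.symm j)]
  · simp [mono]
  · intro b _ hb
    have h1 : j ≠ σ b := by
      intro h'
      apply hb
      rw [h', Equiv.symm_apply_apply]
    simp [mono, h1]
  · intro h'; exact absurd (Finset.mem_univ _) h'

theorem mono_one_mul (d : Fin m ⊕ Fin m → F)
    (h : Matrix (Fin m ⊕ Fin m) (Fin m ⊕ Fin m) F) (j i : Fin m ⊕ Fin m) :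
    (mono 1 d * h) j i = d j * h j i := by
  rw [mono_mul]
  rfl

theorem monoT_mul (σ : Equiv.Perm (Fin m ⊕ Fin m)) (c : Fin m ⊕ Fin m → F)
    (h : Matrix (Fin m ⊕ Fin m) (Fin m ⊕ Fin m) F) (i j : Fin m ⊕ Fin m) :
    ((mono σ c)ᵀ * h) i j = c i * h (σ i) j := by
  rw [Matrix.mul_apply, Finset.sum_eq_single (σ i)]
  · simp [mono]
  · intro b _ hb
    simp [mono, hb]
  · intro h'; exact absurd (Finset.mem_univ _) h'

theorem mono_form (σ : Equiv.Perm (Fin m ⊕ Fin m)) (c : Fin m ⊕ Fin m → F)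
    (i i' : Fin m ⊕ Fin m) :
    ((mono σ c)ᵀ * Matrix.J (Fin m) F * mono σ c) i i'
      = c i * Matrix.J (Fin m) F (σ i) (σ i') * c i' := by
  rw [mul_mono, monoT_mul]

theorem mul_of_diag (g k : Matrix (Fin m ⊕ Fin m) (Fin m ⊕ Fin m) F)
    (hk : ∀ i j, i ≠ j → k i j = 0) (j i : Fin m ⊕ Fin m) :
    (g * k) j i = g j i * k i i := by
  rw [Matrix.mul_apply, Finset.sum_eq_single i]
  · intro b _ hb
    rw [hk b i hb, mul_zero]
  · intro h'; exact absurd (Finset.mem_univ _) h'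

theorem mono_mem (σ : Equiv.Perm (Fin m ⊕ Fin m)) (c : Fin m ⊕ Fin m → F)
    (hσ : ∀ i, σ i.swap = (σ i).swap)
    (hc : ∀ i, c i * c i.swap * sg F m (σ i) = sg F m i) :
    mono σ c ∈ symplecticGroup (Fin m) F := by
  rw [SymplecticGroup.mem_iff']
  ext i i'
  rw [mono_form, J_apply, J_apply]
  by_cases h : i' = i.swap
  · subst h
    rw [if_pos (hσ i), if_pos rfl, ← hc i]
    ring
  · rw [if_neg h, if_neg]
    · ring
    · intro h'
      apply h
      rw [← hσ] at h'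
      exact σ.injective h'

theorem of_mono_mem (σ : Equiv.Perm (Fin m ⊕ Fin m)) (c : Fin m ⊕ Fin m → F)
    (h : mono σ c ∈ symplecticGroup (Fin m) F) :
    (∀ i, σ i.swap = (σ i).swap) ∧ ∀ i, c i * c i.swap * sg F m (σ i) = sg F m i := by
  rw [SymplecticGroup.mem_iff'] at h
  have key : ∀ i, σ i.swap = (σ i).swap ∧ c i * c i.swap * sg F m (σ i) = sg F m i := by
    intro i
    have h1 := congr_fun (congr_fun h i) i.swap
    rw [mono_form, J_apply, J_apply, if_pos rfl] at h1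
    by_cases h2 : σ i.swap = (σ i).swap
    · refine ⟨h2, ?_⟩
      rw [if_pos h2] at h1
      rw [← h1]
      ring
    · rw [if_neg h2] at h1
      exfalso
      apply sg_ne_zero (F := F) i
      rw [← h1]
      ring
  exact ⟨fun i => (key i).1, fun i => (key i).2⟩

theorem mono_inj {σ σ' : Equiv.Perm (Fin m ⊕ Fin m)} {c c' : Fin m ⊕ Fin m → F}
    (hc : ∀ i, c i ≠ 0) (h : mono σ c = mono σ' c') : σ = σ' ∧ c = c' := by
  have key : ∀ i, σ i = σ' i ∧ c i = c' i := by
    intro i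
    have h1 := congr_fun (congr_fun h (σ i)) i
    change (if σ i = σ i then c i else 0) = (if σ i = σ' i then c' i else 0) at h1
    rw [if_pos rfl] at h1
    by_cases h2 : σ i = σ' i
    · rw [if_pos h2] at h1
      exact ⟨h2, h1⟩
    · rw [if_neg h2] at h1
      exact absurd h1 (hc i)
  exact ⟨Equiv.ext fun i => (key i).1, funext fun i => (key i).2⟩

/-- the torus. -/
abbrev Tor (m : ℕ) (F : Type*) [Field F] : Subgroup (symplecticGroup (Fin m) F) :=
  ⨅ i : Fin m ⊕ Fin m, Cfsg.stabilizing (Cfsg.spToMat m F)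
    ((Submodule.span F {(Pi.single i (1 : F) : Fin m ⊕ Fin m → F)} :
      Submodule F (Fin m ⊕ Fin m → F)) : Set (Fin m ⊕ Fin m → F))

theorem mem_line_iff (i : Fin m ⊕ Fin m) (v : Fin m ⊕ Fin m → F) :
    v ∈ (Submodule.span F {(Pi.single i (1 : F) : Fin m ⊕ Fin m → F)}) ↔
      ∀ j, j ≠ i → v j = 0 := by
  rw [Submodule.mem_span_singleton]
  constructor
  · rintro ⟨a, rfl⟩ j hj
    simp [Pi.single_apply, hj]
  · intro h
    refine ⟨v i, ?_⟩
    ext j
    by_cases hj : j = i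
    · subst hj; simp
    · simp [Pi.single_apply, hj, h j hj]

theorem mem_stab_line_iff (h : symplecticGroup (Fin m) F) (i : Fin m ⊕ Fin m) :
    h ∈ Cfsg.stabilizing (Cfsg.spToMat m F)
      ((Submodule.span F {(Pi.single i (1 : F) : Fin m ⊕ Fin m → F)} :
        Submodule F (Fin m ⊕ Fin m → F)) : Set (Fin m ⊕ Fin m → F)) ↔
      ∀ v : Fin m ⊕ Fin m → F, (∀ j, j ≠ i → v j = 0) ↔
        (∀ j, j ≠ i → ((h : Matrix (Fin m ⊕ Fin m) (Fin m ⊕ Fin m) F) *ᵥ v) j = 0) := by
  have h0 : h ∈ Cfsg.stabilizing (Cfsg.spToMat m F)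
      ((Submodule.span F {(Pi.single i (1 : F) : Fin m ⊕ Fin m → F)} :
        Submodule F (Fin m ⊕ Fin m → F)) : Set (Fin m ⊕ Fin m → F)) ↔
      ∀ v : Fin m ⊕ Fin m → F,
        v ∈ (Submodule.span F {(Pi.single i (1 : F) : Fin m ⊕ Fin m → F)}) ↔
        ((h : Matrix (Fin m ⊕ Fin m) (Fin m ⊕ Fin m) F) *ᵥ v) ∈
          (Submodule.span F {(Pi.single i (1 : F) : Fin m ⊕ Fin m → F)}) := Iff.rfl
  rw [h0]
  simp only [mem_line_iff]

theorem mem_Tor_iff (h : symplecticGroup (Fin m) F) :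
    h ∈ Tor m F ↔ ∀ i j, i ≠ j → (h : Matrix (Fin m ⊕ Fin m) (Fin m ⊕ Fin m) F) i j = 0 := by
  have hdiag_ne : (∀ i j, i ≠ j → (h : Matrix (Fin m ⊕ Fin m) (Fin m ⊕ Fin m) F) i j = 0) →
      ∀ j, (h : Matrix (Fin m ⊕ Fin m) (Fin m ⊕ Fin m) F) j j ≠ 0 := by
    intro hd j hj
    have h1 : (h : Matrix (Fin m ⊕ Fin m) (Fin m ⊕ Fin m) F).det = 1 :=
      SymplecticGroup.det_eq_one h.2
    have h2 : (h : Matrix (Fin m ⊕ Fin m) (Fin m ⊕ Fin m) F).det = 0 :=
      Matrix.det_eq_zero_of_row_eq_zero j (fun i => by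
        by_cases hi : j = i
        · subst hi; exact hj
        · exact hd j i hi)
    rw [h2] at h1
    exact zero_ne_one h1
  simp only [Tor, Subgroup.mem_iInf, mem_stab_line_iff]
  constructor
  · intro hT i j hij
    have h1 := (hT j (Pi.single j 1)).1 (fun j' hj' => Pi.single_eq_of_ne hj' 1) i hij
    rw [Matrix.mulVec_single_one, Matrix.col_apply] at h1
    exact h1
  · intro hd i v
    have hv : ∀ j, ((h : Matrix (Fin m ⊕ Fin m) (Fin m ⊕ Fin m) F) *ᵥ v) j
        = (h : Matrix (Fin m ⊕ Fin m) (Fin m ⊕ Fin m) F) j j * v j := by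
      intro j
      rw [Matrix.mulVec, dotProduct, Finset.sum_eq_single j]
      · intro b _ hb
        rw [hd j b (Ne.symm hb), zero_mul]
      · intro h'; exact absurd (Finset.mem_univ _) h'
    constructor
    · intro hv0 j hj
      rw [hv, hv0 j hj, mul_zero]
    · intro hv0 j hj
      have h1 := hv0 j hj
      rw [hv] at h1
      exact (mul_eq_zero.1 h1).resolve_left (hdiag_ne hd j)

theorem mono_mem_normalizer (g : symplecticGroup (Fin m) F) (σ : Equiv.Perm (Fin m ⊕ Fin m))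
    (c : Fin m ⊕ Fin m → F) (hc0 : ∀ i, c i ≠ 0)
    (hg : (g : Matrix (Fin m ⊕ Fin m) (Fin m ⊕ Fin m) F) = mono σ c) :
    g ∈ Subgroup.normalizer (Tor m F : Set (symplecticGroup (Fin m) F)) := by
  rw [Subgroup.mem_normalizer_iff]
  intro h
  rw [mem_Tor_iff, mem_Tor_iff]
  have hk : ((g * h * g⁻¹ : symplecticGroup (Fin m) F) :
      Matrix (Fin m ⊕ Fin m) (Fin m ⊕ Fin m) F) * mono σ c
      = mono σ c * (h : Matrix (Fin m ⊕ Fin m) (Fin m ⊕ Fin m) F) := by
    rw [← hg, ← Submonoid.coe_mul, ← Submonoid.coe_mul, inv_mul_cancel_right]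
  have hent : ∀ j i, ((g * h * g⁻¹ : symplecticGroup (Fin m) F) :
      Matrix (Fin m ⊕ Fin m) (Fin m ⊕ Fin m) F) (σ j) (σ i) * c i
      = c j * (h : Matrix (Fin m ⊕ Fin m) (Fin m ⊕ Fin m) F) j i := by
    intro j i
    have h1 := congr_fun (congr_fun hk (σ j)) i
    rw [mul_mono, mono_mul, Equiv.symm_apply_apply] at h1
    exact h1
  constructor
  · intro hd j i hji
    have h1 := hent (σ.symm j) (σ.symm i)
    rw [Equiv.apply_symm_apply, Equiv.apply_symm_apply,
      hd _ _ (by intro h'; exact hji (σ.symm.injective h')), mul_zero] at h1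
    exact (mul_eq_zero.1 h1).resolve_right (hc0 _)
  · intro hd j i hji
    have h1 := hent j i
    rw [hd _ _ (by intro h'; exact hji (σ.injective h')), zero_mul] at h1
    exact (mul_eq_zero.1 h1.symm).resolve_left (hc0 _)

/-- diagonal entries `a` at `j`, `a⁻¹` at `swap j`, `1` elsewhere. -/
def dvec (j : Fin m ⊕ Fin m) (a : F) : Fin m ⊕ Fin m → F :=
  fun l => if l = j then a else if l = j.swap then a⁻¹ else 1

theorem dvec_self (j : Fin m ⊕ Fin m) (a : F) : dvec j a j = a := by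
  simp [dvec]

theorem dvec_ne {j j' : Fin m ⊕ Fin m} (a : F) (h : j' ≠ j) :
    dvec j a j' = if j' = j.swap then a⁻¹ else 1 := by
  simp [dvec, h]

theorem dvec_mul_swap (j : Fin m ⊕ Fin m) (a : F) (ha0 : a ≠ 0) (l : Fin m ⊕ Fin m) :
    dvec j a l * dvec j a l.swap = 1 := by
  simp only [dvec]
  by_cases h1 : l = j
  · have h2 : l.swap ≠ j := by rw [h1]; exact swap_ne j
    have h3 : l.swap = j.swap := by rw [h1]
    rw [if_pos h1, if_neg h2, if_pos h3, mul_inv_cancel₀ ha0]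
  · by_cases h2 : l = j.swap
    · have h3 : l.swap = j := by rw [h2, Sum.swap_swap]
      rw [if_neg h1, if_pos h2, if_pos h3, inv_mul_cancel₀ ha0]
    · have h3 : l.swap ≠ j := by
        intro h; apply h2; rw [← h, Sum.swap_swap]
      have h4 : l.swap ≠ j.swap := by
        intro h; apply h1
        have h5 := congrArg Sum.swap h
        simpa using h5
      rw [if_neg h1, if_neg h2, if_neg h3, if_neg h4, mul_one]

theorem dvec_mem (j : Fin m ⊕ Fin m) (a : F) (ha0 : a ≠ 0) :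
    mono 1 (dvec j a) ∈ symplecticGroup (Fin m) F :=
  mono_mem 1 _ (fun _ => rfl)
    (fun i => by rw [Equiv.Perm.one_apply, dvec_mul_swap j a ha0, one_mul])

theorem exists_mono_of_mem_normalizer [Fintype F] (h4 : 4 ≤ Fintype.card F)
    (g : symplecticGroup (Fin m) F)
    (hg : g ∈ Subgroup.normalizer (Tor m F : Set (symplecticGroup (Fin m) F))) :
    ∃ (σ : Equiv.Perm (Fin m ⊕ Fin m)) (c : Fin m ⊕ Fin m → F),
      (∀ i, c i ≠ 0) ∧ (g : Matrix (Fin m ⊕ Fin m) (Fin m ⊕ Fin m) F) = mono σ c := by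
  classical
  obtain ⟨a, ha0, hasq⟩ := exists_sq_ne_one (F := F) h4
  have hdet : (g : Matrix (Fin m ⊕ Fin m) (Fin m ⊕ Fin m) F).det = 1 :=
    SymplecticGroup.det_eq_one g.2
  have hcol : ∀ i, ∃ j, ∀ j', j' ≠ j →
      (g : Matrix (Fin m ⊕ Fin m) (Fin m ⊕ Fin m) F) j' i = 0 := by
    intro i
    have hex : ∃ j, (g : Matrix (Fin m ⊕ Fin m) (Fin m ⊕ Fin m) F) j i ≠ 0 := by
      by_contra hcon
      push Not at hcon
      rw [Matrix.det_eq_zero_of_column_eq_zero i hcon] at hdet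
      exact zero_ne_one hdet
    obtain ⟨j, hj⟩ := hex
    refine ⟨j, fun j' hj' => ?_⟩
    by_contra hne
    have hDT : (⟨mono 1 (dvec j a), dvec_mem j a ha0⟩ : symplecticGroup (Fin m) F) ∈ Tor m F := by
      rw [mem_Tor_iff]
      intro i₁ j₁ hij
      show mono 1 (dvec j a) i₁ j₁ = 0
      simp [mono, hij]
    have hk : g⁻¹ * (⟨mono 1 (dvec j a), dvec_mem j a ha0⟩ : symplecticGroup (Fin m) F) * g
        ∈ Tor m F := by
      have h1 := (Subgroup.mem_normalizer_iff.1 (inv_mem hg) _).1 hDT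
      rwa [inv_inv] at h1
    have hk' := (mem_Tor_iff _).1 hk
    have hmat : (g : Matrix (Fin m ⊕ Fin m) (Fin m ⊕ Fin m) F) *
        ((g⁻¹ * (⟨mono 1 (dvec j a), dvec_mem j a ha0⟩ : symplecticGroup (Fin m) F) * g :
          symplecticGroup (Fin m) F) : Matrix (Fin m ⊕ Fin m) (Fin m ⊕ Fin m) F)
        = mono 1 (dvec j a) * (g : Matrix (Fin m ⊕ Fin m) (Fin m ⊕ Fin m) F) := by
      rw [← Submonoid.coe_mul, mul_assoc, mul_inv_cancel_left]
      rfl
    have e1 := congr_fun (congr_fun hmat j) i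
    have e2 := congr_fun (congr_fun hmat j') i
    rw [mul_of_diag _ _ hk' j i, mono_one_mul] at e1
    rw [mul_of_diag _ _ hk' j' i, mono_one_mul] at e2
    have k1 := mul_left_cancel₀ hj (e1.trans (mul_comm _ _))
    have k2 := mul_left_cancel₀ hne (e2.trans (mul_comm _ _))
    have h5 : dvec j a j = dvec j a j' := k1.symm.trans k2
    rw [dvec_self, dvec_ne a hj'] at h5
    apply hasq
    by_cases h6 : j' = j.swap
    · rw [if_pos h6] at h5
      rw [pow_two]
      nth_rewrite 2 [h5]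
      exact mul_inv_cancel₀ ha0
    · rw [if_neg h6] at h5
      rw [h5]
      simp
  choose σ₀ hσ₀ using hcol
  have hc0 : ∀ i, (g : Matrix (Fin m ⊕ Fin m) (Fin m ⊕ Fin m) F) (σ₀ i) i ≠ 0 := by
    intro i h0
    have h1 : ∀ j, (g : Matrix (Fin m ⊕ Fin m) (Fin m ⊕ Fin m) F) j i = 0 := by
      intro j
      by_cases hj : j = σ₀ i
      · rw [hj]; exact h0
      · exact hσ₀ i j hj
    rw [Matrix.det_eq_zero_of_column_eq_zero i h1] at hdet
    exact zero_ne_one hdet
  have hsurj : Function.Surjective σ₀ := by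
    intro j
    by_contra hcon
    push Not at hcon
    have h1 : ∀ i, (g : Matrix (Fin m ⊕ Fin m) (Fin m ⊕ Fin m) F) j i = 0 :=
      fun i => hσ₀ i j (Ne.symm (hcon i))
    rw [Matrix.det_eq_zero_of_row_eq_zero j h1] at hdet
    exact zero_ne_one hdet
  have hbij : Function.Bijective σ₀ := ⟨Finite.injective_iff_surjective.2 hsurj, hsurj⟩
  refine ⟨Equiv.ofBijective σ₀ hbij,
    fun i => (g : Matrix (Fin m ⊕ Fin m) (Fin m ⊕ Fin m) F) (σ₀ i) i, hc0, ?_⟩
  ext j i
  simp only [mono, Equiv.ofBijective_apply]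
  by_cases hj : j = σ₀ i
  · rw [if_pos hj, hj]
  · rw [if_neg hj]
    exact hσ₀ i j hj

/-- the coefficient vector determined by its `inl` half. -/
def cc (σ : Equiv.Perm (Fin m ⊕ Fin m)) (u : Fin m → Fˣ) : Fin m ⊕ Fin m → F :=
  Sum.elim (fun a => (u a : F))
    (fun a => sg F m (Sum.inl a) * sg F m (σ (Sum.inl a)) * ((u a)⁻¹ : Fˣ))

theorem cc_ne_zero (σ : Equiv.Perm (Fin m ⊕ Fin m)) (u : Fin m → Fˣ) (i : Fin m ⊕ Fin m) :
    cc σ u i ≠ 0 := by
  rcases i with a | a
  · exact Units.ne_zero _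
  · exact mul_ne_zero (mul_ne_zero (sg_ne_zero _) (sg_ne_zero _)) (Units.ne_zero _)

theorem cc_rel (σ : Equiv.Perm (Fin m ⊕ Fin m)) (hσ : ∀ i, σ i.swap = (σ i).swap)
    (u : Fin m → Fˣ) (i : Fin m ⊕ Fin m) :
    cc σ u i * cc σ u i.swap * sg F m (σ i) = sg F m i := by
  rcases i with a | a
  · have h1 := sg_mul_self (F := F) (σ (Sum.inl a))
    have h2 : (u a : F) * ((u a)⁻¹ : Fˣ) = 1 := Units.mul_inv (u a)
    simp only [cc, Sum.swap_inl, Sum.elim_inl, Sum.elim_inr]
    linear_combination (sg F m (Sum.inl a) * (u a : F) * ((u a)⁻¹ : Fˣ)) * h1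
      + sg F m (Sum.inl a) * h2
  · have h1 := sg_mul_self (F := F) (σ (Sum.inl a))
    have h2 : (u a : F) * ((u a)⁻¹ : Fˣ) = 1 := Units.mul_inv (u a)
    have h3 : sg F m (σ (Sum.inr a)) = - sg F m (σ (Sum.inl a)) := by
      have h := hσ (Sum.inl a)
      rw [Sum.swap_inl] at h
      rw [h, sg_swap]
    have h4 : sg F m (Sum.inr a) = - sg F m (Sum.inl a) := by simp [sg]
    simp only [cc, Sum.swap_inr, Sum.elim_inl, Sum.elim_inr]
    rw [h3, h4]
    linear_combination (-(sg F m (Sum.inl a) * (u a : F) * ((u a)⁻¹ : Fˣ))) * h1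
      - sg F m (Sum.inl a) * h2

theorem comm_of_mem {σ : Equiv.Perm (Fin m ⊕ Fin m)}
    (h : σ ∈ Subgroup.centralizer
      ({Equiv.sumComm (Fin m) (Fin m)} : Set (Equiv.Perm (Fin m ⊕ Fin m))))
    (i : Fin m ⊕ Fin m) : σ i.swap = (σ i).swap := by
  rw [Subgroup.mem_centralizer_singleton_iff] at h
  have h1 := congrArg (fun f : Equiv.Perm (Fin m ⊕ Fin m) => f i) h
  simpa [Equiv.Perm.mul_apply] using h1

/-- the parametrisation of the normaliser. -/
def Phi (x : ↥(Subgroup.centralizer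
      ({Equiv.sumComm (Fin m) (Fin m)} : Set (Equiv.Perm (Fin m ⊕ Fin m)))) × (Fin m → Fˣ)) :
    ↥(Subgroup.normalizer (Tor m F : Set (symplecticGroup (Fin m) F))) :=
  ⟨⟨mono x.1.1 (cc x.1.1 x.2), mono_mem _ _ (comm_of_mem x.1.2) (cc_rel _ (comm_of_mem x.1.2) _)⟩,
    mono_mem_normalizer _ _ _ (cc_ne_zero _ _) rfl⟩

theorem Phi_injective : Function.Injective (Phi (F := F) (m := m)) := by
  intro x y hxy
  have h1 : mono x.1.1 (cc x.1.1 x.2) = mono y.1.1 (cc y.1.1 y.2) :=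
    congrArg (fun z : ↥(Subgroup.normalizer (Tor m F : Set (symplecticGroup (Fin m) F))) =>
      ((z : symplecticGroup (Fin m) F) : Matrix (Fin m ⊕ Fin m) (Fin m ⊕ Fin m) F)) hxy
  obtain ⟨h2, h3⟩ := mono_inj (cc_ne_zero _ _) h1
  have h4 : x.2 = y.2 := by
    funext a
    apply Units.ext
    have h5 := congr_fun h3 (Sum.inl a)
    simpa [cc] using h5
  exact Prod.ext (Subtype.ext h2) h4

theorem Phi_surjective [Fintype F] (h4 : 4 ≤ Fintype.card F) :
    Function.Surjective (Phi (F := F) (m := m)) := by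
  rintro ⟨g, hg⟩
  obtain ⟨σ, c, hc0, hgm⟩ := exists_mono_of_mem_normalizer h4 g hg
  have hmem : mono σ c ∈ symplecticGroup (Fin m) F := hgm ▸ g.2
  obtain ⟨hσ, hc⟩ := of_mono_mem σ c hmem
  have hcent : σ ∈ Subgroup.centralizer
      ({Equiv.sumComm (Fin m) (Fin m)} : Set (Equiv.Perm (Fin m ⊕ Fin m))) := by
    rw [Subgroup.mem_centralizer_singleton_iff]
    ext i
    simp only [Equiv.Perm.mul_apply, Equiv.sumComm_apply]
    exact hσ i
  refine ⟨⟨⟨σ, hcent⟩, fun a => Units.mk0 (c (Sum.inl a)) (hc0 _)⟩, ?_⟩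
  apply Subtype.ext
  apply Subtype.ext
  show mono σ (cc σ _) = (g : Matrix (Fin m ⊕ Fin m) (Fin m ⊕ Fin m) F)
  rw [hgm]
  congr 1
  funext i
  rcases i with a | a
  · simp [cc]
  · have h1 := sg_mul_self (F := F) (σ (Sum.inl a))
    have h2 := mul_inv_cancel₀ (hc0 (Sum.inl a))
    have h3 := hc (Sum.inl a)
    rw [Sum.swap_inl] at h3
    simp only [cc, Sum.elim_inr, Units.val_inv_eq_inv_val, Units.val_mk0]
    linear_combination (-(sg F m (σ (Sum.inl a)) * (c (Sum.inl a))⁻¹)) * h3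
      + (c (Sum.inr a) * (c (Sum.inl a) * (c (Sum.inl a))⁻¹)) * h1 + c (Sum.inr a) * h2

end

theorem cycleType_swap (m : ℕ) :
    Equiv.Perm.cycleType (Equiv.sumComm (Fin m) (Fin m)) = Multiset.replicate m 2 := by
  have hsq : (Equiv.sumComm (Fin m) (Fin m) : Equiv.Perm (Fin m ⊕ Fin m)) ^ 2 = 1 := by
    ext i
    simp [pow_two]
  have hall : ∀ b ∈ Equiv.Perm.cycleType (Equiv.sumComm (Fin m) (Fin m)), b = 2 := by
    intro b hb
    have h1 := Equiv.Perm.dvd_of_mem_cycleType hb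
    have h2 := Equiv.Perm.two_le_of_mem_cycleType hb
    have h3 : b ∣ 2 := h1.trans (orderOf_dvd_of_pow_eq_one hsq)
    have h4 := Nat.le_of_dvd (by norm_num) h3
    omega
  have hsupp : Equiv.Perm.support (Equiv.sumComm (Fin m) (Fin m)) = Finset.univ := by
    rw [Finset.eq_univ_iff_forall]
    intro i
    rw [Equiv.Perm.mem_support]
    cases i <;> simp
  have hsum := Equiv.Perm.sum_cycleType (Equiv.sumComm (Fin m) (Fin m) : Equiv.Perm (Fin m ⊕ Fin m))
  rw [hsupp, Finset.card_univ, Fintype.card_sum, Fintype.card_fin] at hsum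
  have hrep := Multiset.eq_replicate_card.2 hall
  rw [hrep, Multiset.sum_replicate, smul_eq_mul] at hsum
  have hcard : Multiset.card (Equiv.Perm.cycleType (Equiv.sumComm (Fin m) (Fin m))) = m := by omega
  rw [hrep, hcard]

theorem card_centralizer_swap (m : ℕ) :
    Nat.card (Subgroup.centralizer
      ({Equiv.sumComm (Fin m) (Fin m)} : Set (Equiv.Perm (Fin m ⊕ Fin m))))
      = 2 ^ m * m.factorial := by
  rw [Equiv.Perm.nat_card_centralizer, cycleType_swap, Multiset.sum_replicate,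
    Multiset.prod_replicate, Multiset.toFinset_replicate, Fintype.card_sum, Fintype.card_fin,
    smul_eq_mul]
  have h0 : m + m - m * 2 = 0 := by omega
  rw [h0, Nat.factorial_zero, one_mul]
  by_cases hm : m = 0
  · subst hm
    simp
  · rw [if_neg hm, Finset.prod_singleton, Multiset.count_replicate_self]
/-- Weyl group of type C_m: for q ≥ 4 the diagonal matrices of Sp_2m(q) form a torus T ≅ (C_(q−1))^m (the elements stabilising every coordinate axis), and the normaliser of T in Sp_2m(q) has order 2^m · m! · (q − 1)^m. -/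
theorem result {F : Type*} [Field F] [Fintype F] {q : ℕ} (hF : Fintype.card F = q) (hq : 4 ≤ q) (m : ℕ) : Nat.card ↥(Subgroup.normalizer (⨅ i : Fin m ⊕ Fin m, Cfsg.stabilizing (Cfsg.spToMat m F) ((Submodule.span F {(Pi.single i (1 : F) : Fin m ⊕ Fin m → F)} : Submodule F (Fin m ⊕ Fin m → F)) : Set (Fin m ⊕ Fin m → F)) : Set (Matrix.symplecticGroup (Fin m) F))) = 2 ^ m * Nat.factorial m * (q - 1) ^ m := by
  classical
  have h4 : 4 ≤ Fintype.card F := by omega
  have hbij := Nat.card_eq_of_bijective (Phi (F := F) (m := m))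
    ⟨Phi_injective, Phi_surjective h4⟩
  have hmain : Nat.card ↥(Subgroup.normalizer (Tor m F : Set (symplecticGroup (Fin m) F)))
      = 2 ^ m * Nat.factorial m * (q - 1) ^ m := by
    rw [← hbij, Nat.card_prod, card_centralizer_swap, Nat.card_fun]
    simp only [Nat.card_eq_fintype_card, Fintype.card_units, Fintype.card_fin, hF]
  have hset : (⨅ i : Fin m ⊕ Fin m, ((Cfsg.stabilizing (Cfsg.spToMat m F)
      ((Submodule.span F {(Pi.single i (1 : F) : Fin m ⊕ Fin m → F)} :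
        Submodule F (Fin m ⊕ Fin m → F)) : Set (Fin m ⊕ Fin m → F))) :
        Set (symplecticGroup (Fin m) F))) = (Tor m F : Set (symplecticGroup (Fin m) F)) := by
    rw [Subgroup.coe_iInf]
    rfl
  rw [hset]
  exact hmain

end Cfsg.Agent.S0777
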