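import Cfsg.Statements.S0778
import Mathlib

set_option autoImplicit false
set_option linter.style.haveILetI false
open Cfsg

namespace Cfsg.Agent.S0778

open Matrix

/-- the block-diagonal matrix diag(X, X^(-T)) -/
def blk {F : Type*} [Field F] (m : ℕ) (X : Matrix.GeneralLinearGroup (Fin m) F) :
    Matrix (Fin m ⊕ Fin m) (Fin m ⊕ Fin m) F :=
  Matrix.fromBlocks (X : Matrix (Fin m) (Fin m) F) 0 0
    ((X⁻¹ : Matrix.GeneralLinearGroup (Fin m) F) : Matrix (Fin m) (Fin m) F)ᵀ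

theorem coe_mul_inv {F : Type*} [Field F] (m : ℕ) (X : Matrix.GeneralLinearGroup (Fin m) F) :
    (X : Matrix (Fin m) (Fin m) F) * ((X⁻¹ : Matrix.GeneralLinearGroup (Fin m) F) : Matrix (Fin m) (Fin m) F) = 1 :=
  Units.mul_inv X

theorem coe_inv_mul {F : Type*} [Field F] (m : ℕ) (X : Matrix.GeneralLinearGroup (Fin m) F) :
    ((X⁻¹ : Matrix.GeneralLinearGroup (Fin m) F) : Matrix (Fin m) (Fin m) F) * (X : Matrix (Fin m) (Fin m) F) = 1 :=
  Units.inv_mul X

theorem blk_mem {F : Type*} [Field F] (m : ℕ) (X : Matrix.GeneralLinearGroup (Fin m) F) :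
    blk m X ∈ Matrix.symplecticGroup (Fin m) F := by
  rw [SymplecticGroup.mem_iff, blk, Matrix.J, fromBlocks_transpose, fromBlocks_multiply, fromBlocks_multiply]
  simp only [mul_zero, zero_mul, add_zero, zero_add, mul_one, mul_neg, neg_mul, transpose_zero,
    transpose_transpose, neg_zero]
  rw [coe_mul_inv, ← Matrix.transpose_mul, coe_mul_inv, Matrix.transpose_one]

theorem blk_mul {F : Type*} [Field F] (m : ℕ) (X Y : Matrix.GeneralLinearGroup (Fin m) F) :
    blk m (X * Y) = blk m X * blk m Y := by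
  rw [blk, blk, blk, fromBlocks_multiply]
  simp only [mul_zero, zero_mul, add_zero, zero_add]
  rw [← Matrix.transpose_mul, _root_.mul_inv_rev, Units.val_mul, Units.val_mul]

theorem blk_mulVec_inr {F : Type*} [Field F] (m : ℕ) (X : Matrix.GeneralLinearGroup (Fin m) F)
    (v : Fin m ⊕ Fin m → F) :
    (fun i => (blk m X *ᵥ v) (Sum.inr i)) =
      ((X⁻¹ : Matrix.GeneralLinearGroup (Fin m) F) : Matrix (Fin m) (Fin m) F)ᵀ *ᵥ (v ∘ Sum.inr) := by
  rw [blk, fromBlocks_mulVec]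
  funext i
  simp

theorem blk_mulVec_inl {F : Type*} [Field F] (m : ℕ) (X : Matrix.GeneralLinearGroup (Fin m) F)
    (v : Fin m ⊕ Fin m → F) :
    (fun i => (blk m X *ᵥ v) (Sum.inl i)) = (X : Matrix (Fin m) (Fin m) F) *ᵥ (v ∘ Sum.inl) := by
  rw [blk, fromBlocks_mulVec]
  funext i
  simp

theorem blk_stab_W {F : Type*} [Field F] (m : ℕ) (X : Matrix.GeneralLinearGroup (Fin m) F)
    (v : Fin m ⊕ Fin m → F) :
    (∀ i : Fin m, v (Sum.inr i) = 0) ↔ ∀ i : Fin m, (blk m X *ᵥ v) (Sum.inr i) = 0 := by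
  have h1 : (∀ i : Fin m, v (Sum.inr i) = 0) ↔ v ∘ Sum.inr = 0 := by
    rw [funext_iff]; rfl
  have h2 : (∀ i : Fin m, (blk m X *ᵥ v) (Sum.inr i) = 0) ↔
      (fun i => (blk m X *ᵥ v) (Sum.inr i)) = 0 := by
    rw [funext_iff]; rfl
  rw [h1, h2, blk_mulVec_inr]
  constructor
  · intro h; rw [h, Matrix.mulVec_zero]
  · intro h
    have := congrArg (fun z => (X : Matrix (Fin m) (Fin m) F)ᵀ *ᵥ z) h
    simp only [Matrix.mulVec_mulVec, Matrix.mulVec_zero] at this
    rwa [← Matrix.transpose_mul, coe_inv_mul, Matrix.transpose_one, Matrix.one_mulVec] at this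

theorem blk_stab_U {F : Type*} [Field F] (m : ℕ) (X : Matrix.GeneralLinearGroup (Fin m) F)
    (v : Fin m ⊕ Fin m → F) :
    (∀ i : Fin m, v (Sum.inl i) = 0) ↔ ∀ i : Fin m, (blk m X *ᵥ v) (Sum.inl i) = 0 := by
  have h1 : (∀ i : Fin m, v (Sum.inl i) = 0) ↔ v ∘ Sum.inl = 0 := by
    rw [funext_iff]; rfl
  have h2 : (∀ i : Fin m, (blk m X *ᵥ v) (Sum.inl i) = 0) ↔
      (fun i => (blk m X *ᵥ v) (Sum.inl i)) = 0 := by
    rw [funext_iff]; rfl
  rw [h1, h2, blk_mulVec_inl]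
  constructor
  · intro h; rw [h, Matrix.mulVec_zero]
  · intro h
    have := congrArg (fun z => ((X⁻¹ : Matrix.GeneralLinearGroup (Fin m) F) : Matrix (Fin m) (Fin m) F) *ᵥ z) h
    simp only [Matrix.mulVec_mulVec, Matrix.mulVec_zero] at this
    rwa [coe_inv_mul, Matrix.one_mulVec] at this

/-- The hom GL_m → the joint stabiliser. -/
noncomputable def psi {F : Type*} [Field F] (m : ℕ) :
    Matrix.GeneralLinearGroup (Fin m) F →*
    ↥(Cfsg.stabilizing (Cfsg.spToMat m F) {v : Fin m ⊕ Fin m → F | ∀ i : Fin m, v (Sum.inr i) = 0} ⊓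
      Cfsg.stabilizing (Cfsg.spToMat m F) {v : Fin m ⊕ Fin m → F | ∀ i : Fin m, v (Sum.inl i) = 0}) where
  toFun X := ⟨⟨blk m X, blk_mem m X⟩, ⟨fun v => blk_stab_W m X v, fun v => blk_stab_U m X v⟩⟩
  map_one' := by
    apply Subtype.ext
    apply Subtype.ext
    show blk m 1 = 1
    rw [blk]
    simp
  map_mul' X Y := by
    apply Subtype.ext
    apply Subtype.ext
    show blk m (X * Y) = blk m X * blk m Y
    exact blk_mul m X Y

theorem psi_coe {F : Type*} [Field F] (m : ℕ) (X : Matrix.GeneralLinearGroup (Fin m) F) :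
    (((psi m X : ↥(Cfsg.stabilizing (Cfsg.spToMat m F) {v : Fin m ⊕ Fin m → F | ∀ i : Fin m, v (Sum.inr i) = 0} ⊓
      Cfsg.stabilizing (Cfsg.spToMat m F) {v : Fin m ⊕ Fin m → F | ∀ i : Fin m, v (Sum.inl i) = 0})) :
      Matrix.symplecticGroup (Fin m) F) : Matrix (Fin m ⊕ Fin m) (Fin m ⊕ Fin m) F) = blk m X := rfl

theorem psi_bijective {F : Type*} [Field F] (m : ℕ) : Function.Bijective (psi (F := F) m) := by
  constructor
  · intro X Y h
    have h1 := congrArg (fun A : ↥(Cfsg.stabilizing (Cfsg.spToMat m F) {v : Fin m ⊕ Fin m → F | ∀ i : Fin m, v (Sum.inr i) = 0} ⊓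
      Cfsg.stabilizing (Cfsg.spToMat m F) {v : Fin m ⊕ Fin m → F | ∀ i : Fin m, v (Sum.inl i) = 0}) =>
      ((A : Matrix.symplecticGroup (Fin m) F) : Matrix (Fin m ⊕ Fin m) (Fin m ⊕ Fin m) F)) h
    simp only [psi_coe, blk] at h1
    rw [fromBlocks_inj] at h1
    exact Units.ext h1.1
  · rintro ⟨⟨A, hA⟩, hW, hU⟩
    have hW' : ∀ v : Fin m ⊕ Fin m → F, (∀ i : Fin m, v (Sum.inr i) = 0) ↔ ∀ i : Fin m, (A *ᵥ v) (Sum.inr i) = 0 := hW
    have hU' : ∀ v : Fin m ⊕ Fin m → F, (∀ i : Fin m, v (Sum.inl i) = 0) ↔ ∀ i : Fin m, (A *ᵥ v) (Sum.inl i) = 0 := hU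
    have h21 : A.toBlocks₂₁ = 0 := by
      ext i j
      have := (hW' (Pi.single (Sum.inl j) 1)).1 (fun i => by simp) i
      rw [Matrix.mulVec_single_one] at this
      exact this
    have h12 : A.toBlocks₁₂ = 0 := by
      ext i j
      have := (hU' (Pi.single (Sum.inr j) 1)).1 (fun i => by simp) i
      rw [Matrix.mulVec_single_one] at this
      exact this
    have hAeq : A = fromBlocks A.toBlocks₁₁ 0 0 A.toBlocks₂₂ := by
      have := fromBlocks_toBlocks A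
      rw [h21, h12] at this
      exact this.symm
    have hsymp := hA
    rw [SymplecticGroup.mem_iff, hAeq, Matrix.J, fromBlocks_transpose, fromBlocks_multiply, fromBlocks_multiply,
      fromBlocks_inj] at hsymp
    simp only [mul_zero, zero_mul, add_zero, zero_add, mul_one, mul_neg, neg_mul, transpose_zero,
      neg_zero, neg_inj] at hsymp
    obtain ⟨-, hXY, hYX, -⟩ := hsymp
    -- hXY : X * Yᵀ = 1
    have hYX' : A.toBlocks₂₂ᵀ * A.toBlocks₁₁ = 1 := mul_eq_one_comm.1 hXY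
    let X : Matrix.GeneralLinearGroup (Fin m) F := ⟨A.toBlocks₁₁, A.toBlocks₂₂ᵀ, hXY, hYX'⟩
    refine ⟨X, ?_⟩
    apply Subtype.ext
    apply Subtype.ext
    show blk m X = A
    rw [hAeq, blk]
    simp [X]

/-- The elements of Sp_2m(F) stabilising both W = ⟨e_1..e_m⟩ and U = ⟨f_1..f_m⟩ form a subgroup isomorphic to GL_m(F) (block-diagonal matrices diag(X, X^(−ᵀ)) up to the sign convention of J), for m ≥ 1 or m = 0 alike. -/
theorem result {F : Type*} [Field F] (m : ℕ) : Nonempty (↥(Cfsg.stabilizing (Cfsg.spToMat m F) {v : Fin m ⊕ Fin m → F | ∀ i : Fin m, v (Sum.inr i) = 0} ⊓ Cfsg.stabilizing (Cfsg.spToMat m F) {v : Fin m ⊕ Fin m → F | ∀ i : Fin m, v (Sum.inl i) = 0}) ≃* Matrix.GeneralLinearGroup (Fin m) F) := by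
  exact ⟨(MulEquiv.ofBijective (psi (F := F) m) (psi_bijective m)).symm⟩

end Cfsg.Agent.S0778
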