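import Mathlib
import Cfsg.Statements.S2573
import Cfsg.Agent.Lib.Helper5.RegUnip

set_option autoImplicit false
open Cfsg

namespace Cfsg.Agent.S2573

open Cfsg.Agent.Lib.Helper5

theorem mulVecLin_pow' {F : Type*} [Field F] {n : Type*} [Fintype n] [DecidableEq n]
    (N : Matrix n n F) (k : ℕ) :
    Matrix.mulVecLin (N ^ k) = (Matrix.mulVecLin N) ^ k := by
  induction k with
  | zero => simp [Module.End.one_eq_id]
  | succ k ih =>
    rw [pow_succ, pow_succ, Matrix.mulVecLin_mul, ih]; rfl

theorem finrank_ker_le_one {F : Type*} [Field F] {n : Type*} [Fintype n] [DecidableEq n]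
    (N : Matrix n n F) (h : N.rank = Fintype.card n - 1) :
    Module.finrank F (LinearMap.ker (Matrix.mulVecLin N)) ≤ 1 := by
  have h1 := LinearMap.finrank_range_add_finrank_ker (Matrix.mulVecLin N)
  have h2 : Module.finrank F (LinearMap.range (Matrix.mulVecLin N)) = Fintype.card n - 1 := h
  rw [Module.finrank_fintype_fun_eq_card] at h1
  omega

theorem result {F : Type*} [Field F] [Finite F] {n : ℕ} (u : Matrix (Fin n) (Fin n) F) (hnil : (u - 1) ^ n = 0) (hreg : (u - 1).rank = n - 1) (W : Submodule F (Fin n → F)) (hW : ∀ v ∈ W, u.mulVec v ∈ W) : W = LinearMap.ker (Matrix.mulVecLin ((u - 1) ^ Module.finrank F W)) := by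
  classical
  have hk : Module.finrank F (LinearMap.ker (Matrix.mulVecLin (u - 1))) ≤ 1 := by
    apply finrank_ker_le_one (u - 1)
    rw [hreg, Fintype.card_fin]
  have hnil' : IsNilpotent (Matrix.mulVecLin (u - 1)) := by
    refine ⟨n, ?_⟩
    rw [← mulVecLin_pow', hnil]
    exact Matrix.mulVecLin_zero
  have hW' : ∀ v ∈ W, (Matrix.mulVecLin (u - 1)) v ∈ W := by
    intro v hv
    rw [Matrix.mulVecLin_apply, Matrix.sub_mulVec, Matrix.one_mulVec]
    exact W.sub_mem (hW v hv) hv
  have key := eq_ker_pow_of_invariant (K := F) (V := Fin n → F) (Matrix.mulVecLin (u - 1)) hnil' hk W hW'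
  have e := mulVecLin_pow' (u - 1) (Module.finrank F W)
  rw [e]
  convert key

end Cfsg.Agent.S2573
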