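import Mathlib
import Cfsg.Statements.S2571
import Cfsg.Agent.Lib.Helper5.RegUnip
import Cfsg.Agent.S2573

set_option autoImplicit false
open Cfsg

namespace Cfsg.Agent.S2571

open Matrix Cfsg.Agent.Lib.Helper5

section
variable {F : Type*} [Field F] {n : ℕ}

/-- `phi N a = Σ a_i N^i`. -/
noncomputable def phi (N : Matrix (Fin n) (Fin n) F) (a : Fin n → F) : Matrix (Fin n) (Fin n) F :=
  ∑ i : Fin n, a i • N ^ (i : ℕ)

theorem commute_phi (N : Matrix (Fin n) (Fin n) F) (a : Fin n → F) : Commute N (phi N a) := by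
  unfold phi
  apply Commute.sum_right
  intro i _
  exact (Commute.pow_right (Commute.refl N) _).smul_right _

theorem pow_mul_phi (N : Matrix (Fin n) (Fin n) F) (a : Fin n → F) (m : ℕ) :
    N ^ m * phi N a = ∑ i : Fin n, a i • N ^ (m + (i : ℕ)) := by
  unfold phi
  rw [Finset.mul_sum]
  apply Finset.sum_congr rfl
  intro i _
  rw [Matrix.mul_smul, ← pow_add]

theorem phi_mulVec (N : Matrix (Fin n) (Fin n) F) (a : Fin n → F) (x : Fin n → F) :
    phi N a *ᵥ x = ∑ i : Fin n, a i • (N ^ (i : ℕ) *ᵥ x) := by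
  unfold phi
  rw [Matrix.sum_mulVec]
  apply Finset.sum_congr rfl
  intro i _
  rw [Matrix.smul_mulVec]

theorem phi_sub (N : Matrix (Fin n) (Fin n) F) (a b : Fin n → F) :
    phi N (a - b) = phi N a - phi N b := by
  unfold phi
  rw [← Finset.sum_sub_distrib]
  apply Finset.sum_congr rfl
  intro i _
  rw [Pi.sub_apply, sub_smul]

theorem coeff_zero (N : Matrix (Fin n) (Fin n) F) (hnil : N ^ n = 0) (v : Fin n → F)
    (hv : (N ^ (n - 1)) *ᵥ v ≠ 0) (a : Fin n → F) (h : phi N a *ᵥ v = 0) : a = 0 := by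
  have key : ∀ j : ℕ, ∀ hj : j < n, a ⟨j, hj⟩ = 0 := by
    intro j
    induction j using Nat.strong_induction_on with
    | _ j ih =>
      intro hj
      have h1 : (N ^ (n - 1 - j)) *ᵥ ((phi N a) *ᵥ v) = 0 := by rw [h, Matrix.mulVec_zero]
      rw [Matrix.mulVec_mulVec, pow_mul_phi, Matrix.sum_mulVec] at h1
      rw [Finset.sum_eq_single (⟨j, hj⟩ : Fin n)] at h1
      · have e : n - 1 - j + ((⟨j, hj⟩ : Fin n) : ℕ) = n - 1 := by
          show n - 1 - j + j = n - 1
          omega
        rw [e, Matrix.smul_mulVec] at h1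
        exact (smul_eq_zero.1 h1).resolve_right hv
      · intro i _ hne
        by_cases hij : (i : ℕ) < j
        · have := ih i hij i.2
          rw [Fin.eta] at this
          rw [this, zero_smul, Matrix.zero_mulVec]
        · have hne' : (i : ℕ) ≠ j := fun h => hne (Fin.ext h)
          have hle : n ≤ n - 1 - j + (i : ℕ) := by omega
          rw [pow_eq_zero_of_le hle hnil, smul_zero, Matrix.zero_mulVec]
      · intro h; exact absurd (Finset.mem_univ _) h
  funext i
  exact key i i.2

theorem phi_injective (N : Matrix (Fin n) (Fin n) F) (hnil : N ^ n = 0) (v : Fin n → F)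
    (hv : (N ^ (n - 1)) *ᵥ v ≠ 0) : Function.Injective (phi N) := by
  intro a b hab
  have : phi N (a - b) *ᵥ v = 0 := by rw [phi_sub, hab, sub_self, Matrix.zero_mulVec]
  have := coeff_zero N hnil v hv _ this
  exact sub_eq_zero.1 this

theorem exists_phi_eq (N : Matrix (Fin n) (Fin n) F) (hnil : N ^ n = 0) (v : Fin n → F)
    (hv : (N ^ (n - 1)) *ᵥ v ≠ 0) (C : Matrix (Fin n) (Fin n) F) (hC : Commute N C) :
    ∃ a, C = phi N a := by
  classical
  set w : Fin n → (Fin n → F) := fun i => N ^ (i : ℕ) *ᵥ v with hw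
  have hli : LinearIndependent F w := by
    rw [Fintype.linearIndependent_iff]
    intro g hg
    have : phi N g *ᵥ v = 0 := by rw [phi_mulVec]; exact hg
    have := coeff_zero N hnil v hv g this
    intro i
    rw [this]; rfl
  have hspan : Submodule.span F (Set.range w) = ⊤ :=
    hli.span_eq_top_of_card_eq_finrank' (by rw [Fintype.card_fin, Module.finrank_fin_fun])
  have hmem : C *ᵥ v ∈ Submodule.span F (Set.range w) := by rw [hspan]; trivial
  obtain ⟨a, ha⟩ := (Submodule.mem_span_range_iff_exists_fun F).1 hmem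
  refine ⟨a, ?_⟩
  have ha' : phi N a *ᵥ v = C *ᵥ v := by rw [phi_mulVec]; exact ha
  apply Matrix.toLin'.injective
  apply LinearMap.ext_on hspan
  rintro _ ⟨j, rfl⟩
  rw [Matrix.toLin'_apply, Matrix.toLin'_apply]
  show C *ᵥ (N ^ (j : ℕ) *ᵥ v) = phi N a *ᵥ (N ^ (j : ℕ) *ᵥ v)
  rw [Matrix.mulVec_mulVec, Matrix.mulVec_mulVec, ← (hC.pow_left (j : ℕ)).eq,
    ← ((commute_phi N a).pow_left (j : ℕ)).eq, ← Matrix.mulVec_mulVec, ← Matrix.mulVec_mulVec, ha']

theorem isUnit_phi_iff {k : ℕ} (N : Matrix (Fin (k + 1)) (Fin (k + 1)) F) (hnil : N ^ (k + 1) = 0)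
    (v : Fin (k + 1) → F) (hv : (N ^ k) *ᵥ v ≠ 0) (a : Fin (k + 1) → F) :
    IsUnit (phi N a) ↔ a 0 ≠ 0 := by
  constructor
  · intro hu h0
    obtain ⟨M, hM⟩ := hu.exists_left_inv
    have h1 : phi N a *ᵥ (N ^ k *ᵥ v) = 0 := by
      rw [Matrix.mulVec_mulVec, ← ((commute_phi N a).pow_left k).eq, pow_mul_phi,
        Matrix.sum_mulVec]
      apply Finset.sum_eq_zero
      intro i _
      by_cases hi : i = 0
      · rw [hi, h0, zero_smul, Matrix.zero_mulVec]
      · have : k + 1 ≤ k + (i : ℕ) := by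
          have : (i : ℕ) ≠ 0 := fun h => hi (Fin.ext h)
          omega
        rw [pow_eq_zero_of_le this hnil, smul_zero, Matrix.zero_mulVec]
    apply hv
    have : M *ᵥ (phi N a *ᵥ (N ^ k *ᵥ v)) = N ^ k *ᵥ v := by
      rw [Matrix.mulVec_mulVec, hM, Matrix.one_mulVec]
    rw [← this, h1, Matrix.mulVec_zero]
  · intro h0
    have hsplit : phi N a = a 0 • (1 : Matrix (Fin (k + 1)) (Fin (k + 1)) F)
        + ∑ i : Fin k, a i.succ • N ^ ((i : ℕ) + 1) := by
      unfold phi
      rw [Fin.sum_univ_succ]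
      simp
    rw [hsplit]
    apply IsNilpotent.isUnit_add_left_of_commute
    · apply Commute.isNilpotent_sum
      · intro i _
        refine ⟨k + 1, ?_⟩
        rw [smul_pow, ← pow_mul]
        have : k + 1 ≤ ((i : ℕ) + 1) * (k + 1) := Nat.le_mul_of_pos_left _ (Nat.succ_pos _)
        rw [pow_eq_zero_of_le this hnil, smul_zero]
      · intro i j _ _
        exact (((Commute.refl N).pow_pow _ _).smul_left _).smul_right _
    · have : a 0 • (1 : Matrix (Fin (k + 1)) (Fin (k + 1)) F)
          = algebraMap F (Matrix (Fin (k + 1)) (Fin (k + 1)) F) (a 0) := by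
        rw [Algebra.algebraMap_eq_smul_one]
      rw [this]
      exact (isUnit_iff_ne_zero.2 h0).map _
    · exact (Commute.one_right _).smul_right _

end

theorem card_nonzero_head {F : Type*} [Field F] [Fintype F] (k : ℕ) :
    Nat.card {a : Fin (k + 1) → F // a 0 ≠ 0} = (Fintype.card F - 1) * Fintype.card F ^ k := by
  classical
  let e : {a : Fin (k + 1) → F // a 0 ≠ 0} ≃ {x : F // x ≠ 0} × (Fin k → F) :=
    { toFun := fun a => (⟨a.1 0, a.2⟩, Fin.tail a.1)
      invFun := fun p => ⟨Fin.cons p.1.1 p.2, by simpa using p.1.2⟩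
      left_inv := by
        intro a
        apply Subtype.ext
        simp [Fin.cons_self_tail]
      right_inv := by
        intro p
        simp }
  rw [Nat.card_congr e, Nat.card_prod, Nat.card_eq_fintype_card, Nat.card_eq_fintype_card,
    Fintype.card_fun, Fintype.card_fin]
  congr 1
  rw [Fintype.card_subtype_compl, Fintype.card_subtype_eq]

theorem result {F : Type*} [Field F] [Fintype F] {q n : ℕ} (hF : Fintype.card F = q) (hn : 1 ≤ n) (u : GL (Fin n) F) (hnil : ((u : Matrix (Fin n) (Fin n) F) - 1) ^ n = 0) (hreg : ((u : Matrix (Fin n) (Fin n) F) - 1).rank = n - 1) : Nat.card ↥(Subgroup.centralizer ({u} : Set (GL (Fin n) F))) = (q - 1) * q ^ (n - 1) := by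
  classical
  obtain ⟨k, rfl⟩ : ∃ k, n = k + 1 := ⟨n - 1, by omega⟩
  set N : Matrix (Fin (k + 1)) (Fin (k + 1)) F := (u : Matrix (Fin (k + 1)) (Fin (k + 1)) F) - 1 with hN
  have hker : Module.finrank F (LinearMap.ker (Matrix.mulVecLin N)) ≤ 1 := by
    apply Cfsg.Agent.S2573.finrank_ker_le_one N
    rw [hreg, Fintype.card_fin]
  -- N^k ≠ 0
  have hNk : ∃ v, (N ^ k) *ᵥ v ≠ 0 := by
    by_contra hcon
    have hall : ∀ v, (N ^ k) *ᵥ v = 0 := by
      intro v
      by_contra h
      exact hcon ⟨v, h⟩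
    have h1 := finrank_ker_pow_le (K := F) (V := Fin (k + 1) → F) (Matrix.mulVecLin N) k
    have h2 : LinearMap.ker ((Matrix.mulVecLin N) ^ k) = ⊤ := by
      rw [← Cfsg.Agent.S2573.mulVecLin_pow', LinearMap.ker_eq_top]
      apply LinearMap.ext
      intro v
      rw [Matrix.mulVecLin_apply, hall]; rfl
    rw [h2, finrank_top, Module.finrank_fin_fun] at h1
    have : k * Module.finrank F (LinearMap.ker (Matrix.mulVecLin N)) ≤ k * 1 :=
      Nat.mul_le_mul_left k hker
    omega
  obtain ⟨v, hv⟩ := hNk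
  have hv' : (N ^ (k + 1 - 1)) *ᵥ v ≠ 0 := by simpa using hv
  have huN : (u : Matrix (Fin (k + 1)) (Fin (k + 1)) F) = N + 1 := by rw [hN]; abel
  have hmem : ∀ g : GL (Fin (k + 1)) F, g ∈ Subgroup.centralizer ({u} : Set (GL (Fin (k + 1)) F)) ↔
      Commute N (g : Matrix (Fin (k + 1)) (Fin (k + 1)) F) := by
    intro g
    rw [Subgroup.mem_centralizer_iff]
    constructor
    · intro h
      have h1 := h u rfl
      have h2 : (u : Matrix (Fin (k + 1)) (Fin (k + 1)) F) * g = g * u := by
        have := congrArg (fun x : GL (Fin (k + 1)) F => (x : Matrix (Fin (k + 1)) (Fin (k + 1)) F)) h1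
        simpa using this
      rw [hN]
      exact (Commute.sub_left h2 (Commute.one_left _))
    · intro h x hx
      rw [Set.mem_singleton_iff] at hx
      subst hx
      apply Units.ext
      show (x : Matrix (Fin (k + 1)) (Fin (k + 1)) F) * g = g * x
      rw [huN]
      exact (h.add_left (Commute.one_left _)).eq
  let e : {a : Fin (k + 1) → F // a 0 ≠ 0} → Subgroup.centralizer ({u} : Set (GL (Fin (k + 1)) F)) :=
    fun a => ⟨((isUnit_phi_iff N hnil v hv a.1).2 a.2).unit, by
      rw [hmem]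
      exact commute_phi N a.1⟩
  have hbij : Function.Bijective e := by
    constructor
    · intro a b hab
      have h1 := congrArg (fun x : Subgroup.centralizer ({u} : Set (GL (Fin (k + 1)) F)) =>
        ((x : GL (Fin (k + 1)) F) : Matrix (Fin (k + 1)) (Fin (k + 1)) F)) hab
      apply Subtype.ext
      exact phi_injective N hnil v hv' h1
    · rintro ⟨g, hg⟩
      obtain ⟨a, ha⟩ := exists_phi_eq N hnil v hv' (g : Matrix (Fin (k + 1)) (Fin (k + 1)) F)
        ((hmem g).1 hg)
      have hu : IsUnit (phi N a) := by rw [← ha]; exact g.isUnit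
      refine ⟨⟨a, (isUnit_phi_iff N hnil v hv a).1 hu⟩, ?_⟩
      apply Subtype.ext
      apply Units.ext
      exact ha.symm
  rw [← Nat.card_congr (Equiv.ofBijective e hbij), card_nonzero_head, hF]
  simp

end Cfsg.Agent.S2571
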