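import Mathlib
import Cfsg.Statements.S2578
import Cfsg.Agent.S2571
import Cfsg.Agent.S2573
import Cfsg.Agent.S0773
import Cfsg.Agent.Lib.Helper5.RegUnip

set_option autoImplicit false
open Cfsg

namespace Cfsg.Agent.S2578

open Matrix Cfsg.Agent.S2571 Cfsg.Agent.Lib.Helper5

section RegNil

variable {F : Type*} [Field F] {k : ℕ}

/-- regular nilpotent: `N^(k+1) = 0` and rank `k` -/
def RegNil (N : Matrix (Fin (k + 1)) (Fin (k + 1)) F) : Prop :=
  N ^ (k + 1) = 0 ∧ N.rank = k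

theorem exists_cyclic (N : Matrix (Fin (k + 1)) (Fin (k + 1)) F) (h : RegNil N) :
    ∃ v, (N ^ k) *ᵥ v ≠ 0 := by
  obtain ⟨hnil, hreg⟩ := h
  have hker : Module.finrank F (LinearMap.ker (Matrix.mulVecLin N)) ≤ 1 := by
    apply Cfsg.Agent.S2573.finrank_ker_le_one N
    rw [hreg, Fintype.card_fin]
    rfl
  by_contra hcon
  have hall : ∀ v, (N ^ k) *ᵥ v = 0 := by
    intro v
    by_contra h
    exact hcon ⟨v, h⟩
  have h1 := finrank_ker_pow_le (K := F) (V := Fin (k + 1) → F) (Matrix.mulVecLin N) k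
  have h2 : LinearMap.ker ((Matrix.mulVecLin N) ^ k) = ⊤ := by
    rw [← Cfsg.Agent.S2573.mulVecLin_pow', LinearMap.ker_eq_top]
    apply LinearMap.ext
    intro v
    rw [Matrix.mulVecLin_apply, hall]; rfl
  rw [h2, finrank_top, Module.finrank_fin_fun] at h1
  have : k * Module.finrank F (LinearMap.ker (Matrix.mulVecLin N)) ≤ k * 1 :=
    Nat.mul_le_mul_left k hker
  omega

theorem cyc_li (N : Matrix (Fin (k + 1)) (Fin (k + 1)) F) (hnil : N ^ (k + 1) = 0)
    (v : Fin (k + 1) → F) (hv : (N ^ k) *ᵥ v ≠ 0) :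
    LinearIndependent F (fun i : Fin (k + 1) => N ^ (i : ℕ) *ᵥ v) := by
  rw [Fintype.linearIndependent_iff]
  intro g hg
  have : phi N g *ᵥ v = 0 := by rw [phi_mulVec]; exact hg
  have := coeff_zero N hnil v (by simpa using hv) g this
  intro i
  rw [this]; rfl

noncomputable def cycBasis (N : Matrix (Fin (k + 1)) (Fin (k + 1)) F) (hnil : N ^ (k + 1) = 0)
    (v : Fin (k + 1) → F) (hv : (N ^ k) *ᵥ v ≠ 0) :
    Module.Basis (Fin (k + 1)) F (Fin (k + 1) → F) :=
  basisOfLinearIndependentOfCardEqFinrank (cyc_li N hnil v hv)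
    (by rw [Fintype.card_fin, Module.finrank_fin_fun])

theorem cycBasis_apply (N : Matrix (Fin (k + 1)) (Fin (k + 1)) F) (hnil : N ^ (k + 1) = 0)
    (v : Fin (k + 1) → F) (hv : (N ^ k) *ᵥ v ≠ 0) (i : Fin (k + 1)) :
    cycBasis N hnil v hv i = N ^ (i : ℕ) *ᵥ v := by
  unfold cycBasis
  rw [coe_basisOfLinearIndependentOfCardEqFinrank]

/-- two regular nilpotent matrices are conjugate -/
theorem exists_conj (N N' : Matrix (Fin (k + 1)) (Fin (k + 1)) F) (h : RegNil N) (h' : RegNil N') :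
    ∃ G : Matrix (Fin (k + 1)) (Fin (k + 1)) F, IsUnit G.det ∧ G * N = N' * G := by
  classical
  obtain ⟨v, hv⟩ := exists_cyclic N h
  obtain ⟨v', hv'⟩ := exists_cyclic N' h'
  let b := cycBasis N h.1 v hv
  let b' := cycBasis N' h'.1 v' hv'
  let g : (Fin (k + 1) → F) ≃ₗ[F] (Fin (k + 1) → F) := b.equiv b' (Equiv.refl _)
  have hg : ∀ i : Fin (k + 1), g (N ^ (i : ℕ) *ᵥ v) = N' ^ (i : ℕ) *ᵥ v' := by
    intro i
    have := Module.Basis.equiv_apply b i b' (Equiv.refl _)
    rw [Equiv.refl_apply] at this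
    rw [← cycBasis_apply N h.1 v hv i, ← cycBasis_apply N' h'.1 v' hv' i]
    exact this
  refine ⟨LinearMap.toMatrix' (g : (Fin (k + 1) → F) →ₗ[F] (Fin (k + 1) → F)), ?_, ?_⟩
  · have := LinearEquiv.isUnit_det' g
    rw [← LinearMap.det_toMatrix'] at this
    exact this
  · apply Matrix.toLin'.injective
    apply b.ext
    intro i
    rw [Matrix.toLin'_mul, Matrix.toLin'_mul, Matrix.toLin'_toMatrix', LinearMap.comp_apply,
      LinearMap.comp_apply, Matrix.toLin'_apply, Matrix.toLin'_apply]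
    show g (N *ᵥ b i) = N' *ᵥ g (b i)
    rw [cycBasis_apply, hg, Matrix.mulVec_mulVec, Matrix.mulVec_mulVec, ← pow_succ', ← pow_succ']
    by_cases hi : (i : ℕ) + 1 < k + 1
    · exact hg ⟨(i : ℕ) + 1, hi⟩
    · have : (i : ℕ) + 1 = k + 1 := by have := i.2; omega
      rw [this, h.1, h'.1, Matrix.zero_mulVec, Matrix.zero_mulVec, map_zero]

end RegNil

section DetPhi

open Polynomial

variable {F : Type*} [Field F] {k : ℕ}

theorem det_phi (N : Matrix (Fin (k + 1)) (Fin (k + 1)) F) (hnil : N ^ (k + 1) = 0)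
    (a : Fin (k + 1) → F) : (phi N a).det = a 0 ^ (k + 1) := by
  have hsplit : phi N a = a 0 • (1 : Matrix (Fin (k + 1)) (Fin (k + 1)) F)
      + ∑ i : Fin k, a i.succ • N ^ ((i : ℕ) + 1) := by
    unfold phi
    rw [Fin.sum_univ_succ]
    simp
  have hM : IsNilpotent (∑ i : Fin k, a i.succ • N ^ ((i : ℕ) + 1)) := by
    apply Commute.isNilpotent_sum
    · intro i _
      refine ⟨k + 1, ?_⟩
      rw [_root_.smul_pow, ← pow_mul]
      have : k + 1 ≤ ((i : ℕ) + 1) * (k + 1) := Nat.le_mul_of_pos_left _ (Nat.succ_pos _)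
      rw [pow_eq_zero_of_le this hnil, smul_zero]
    · intro i j _ _
      exact (((Commute.refl N).pow_pow _ _).smul_left _).smul_right _
  set M := ∑ i : Fin k, a i.succ • N ^ ((i : ℕ) + 1) with hMdef
  have hneg : IsNilpotent (-M) := hM.neg
  have hcp : (-M).charpoly = X ^ (k + 1) := by
    have := Matrix.isNilpotent_charpoly_sub_pow_of_isNilpotent hneg
    rw [Fintype.card_fin] at this
    exact sub_eq_zero.1 this.eq_zero
  have h1 := Matrix.eval_charpoly (-M) (a 0)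
  rw [hcp, eval_pow, eval_X] at h1
  rw [hsplit, h1]
  congr 1
  rw [sub_neg_eq_add, Matrix.scalar_apply, Matrix.smul_one_eq_diagonal]

theorem det_ratio (N N' : Matrix (Fin (k + 1)) (Fin (k + 1)) F) (h : RegNil N)
    (G G' : Matrix (Fin (k + 1)) (Fin (k + 1)) F) (hG : IsUnit G.det) (hG' : IsUnit G'.det)
    (e : G * N = N' * G) (e' : G' * N = N' * G') :
    ∃ c : F, c ≠ 0 ∧ G.det = G'.det * c ^ (k + 1) := by
  obtain ⟨v, hv⟩ := exists_cyclic N h
  have hinv : G'⁻¹ * G' = 1 := Matrix.nonsing_inv_mul G' hG'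
  have hinv' : G' * G'⁻¹ = 1 := Matrix.mul_nonsing_inv G' hG'
  have hc : Commute N (G'⁻¹ * G) := by
    show N * (G'⁻¹ * G) = G'⁻¹ * G * N
    have h1 : N * G'⁻¹ = G'⁻¹ * N' := by
      calc N * G'⁻¹ = G'⁻¹ * (G' * N) * G'⁻¹ := by
            rw [← Matrix.mul_assoc, hinv, Matrix.one_mul]
        _ = G'⁻¹ * (N' * G') * G'⁻¹ := by rw [e']
        _ = G'⁻¹ * N' := by
            rw [Matrix.mul_assoc, Matrix.mul_assoc, hinv', Matrix.mul_one]
    rw [← Matrix.mul_assoc, h1, Matrix.mul_assoc, Matrix.mul_assoc, e]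
  obtain ⟨a, ha⟩ := exists_phi_eq N h.1 v (by simpa using hv) _ hc
  have hdet : (G'⁻¹ * G).det = a 0 ^ (k + 1) := by rw [ha, det_phi N h.1]
  have hG0 : G.det ≠ 0 := hG.ne_zero
  have hG'0 : G'.det ≠ 0 := hG'.ne_zero
  rw [Matrix.det_mul, Matrix.det_nonsing_inv, Ring.inverse_eq_inv'] at hdet
  refine ⟨a 0, ?_, ?_⟩
  · intro h0
    rw [h0, zero_pow (Nat.succ_ne_zero k)] at hdet
    have := mul_eq_zero.1 hdet
    rcases this with h | h
    · exact hG'0 (inv_eq_zero.1 h)
    · exact hG0 h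
  · rw [← hdet, ← mul_assoc, mul_inv_cancel₀ hG'0, one_mul]

end DetPhi

section Std

variable {F : Type*} [Field F] (k : ℕ)

/-- the standard regular nilpotent (upper shift) -/
def Jst : Matrix (Fin (k + 1)) (Fin (k + 1)) F :=
  Matrix.of fun i j => if (i : ℕ) + 1 = (j : ℕ) then 1 else 0

theorem Jst_mulVec (x : Fin (k + 1) → F) (i : Fin (k + 1)) :
    (Jst (F := F) k *ᵥ x) i = if h : (i : ℕ) + 1 < k + 1 then x ⟨(i : ℕ) + 1, h⟩ else 0 := by
  unfold Jst
  rw [Matrix.mulVec, dotProduct]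
  split_ifs with h
  · rw [Finset.sum_eq_single (⟨(i : ℕ) + 1, h⟩ : Fin (k + 1))]
    · simp
    · intro j _ hj
      have : ¬ ((i : ℕ) + 1 = (j : ℕ)) := fun h' => hj (Fin.ext h'.symm)
      simp [this]
    · intro h'; exact absurd (Finset.mem_univ _) h'
  · apply Finset.sum_eq_zero
    intro j _
    have : ¬ ((i : ℕ) + 1 = (j : ℕ)) := by have := j.2; omega
    simp [this]

theorem Jst_pow_mulVec (m : ℕ) (x : Fin (k + 1) → F) (i : Fin (k + 1)) :
    ((Jst (F := F) k) ^ m *ᵥ x) i = if h : (i : ℕ) + m < k + 1 then x ⟨(i : ℕ) + m, h⟩ else 0 := by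
  induction m generalizing x with
  | zero =>
    rw [pow_zero, Matrix.one_mulVec, dif_pos (by show (i : ℕ) + 0 < k + 1; have := i.2; omega)]
    rfl
  | succ m ih =>
    rw [pow_succ, ← Matrix.mulVec_mulVec, ih]
    split_ifs with h1 h2 h2
    · rw [Jst_mulVec, dif_pos (by show (i : ℕ) + m + 1 < k + 1; omega)]
      rfl
    · rw [Jst_mulVec, dif_neg (by show ¬ ((i : ℕ) + m + 1 < k + 1); omega)]
    · omega
    · rfl

theorem Jst_regNil : RegNil (Jst (F := F) k) := by
  constructor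
  · apply Matrix.toLin'.injective
    apply LinearMap.ext
    intro x
    funext i
    rw [Matrix.toLin'_apply, Jst_pow_mulVec, dif_neg (by omega)]
    simp
  · have h1 := LinearMap.finrank_range_add_finrank_ker (Matrix.mulVecLin (Jst (F := F) k))
    rw [Module.finrank_fin_fun] at h1
    have h2 : LinearMap.ker (Matrix.mulVecLin (Jst (F := F) k)) = Cfsg.Agent.S0773.Ssub (k + 1) 1 := by
      ext x
      rw [LinearMap.mem_ker, Cfsg.Agent.S0773.mem_Ssub, Matrix.mulVecLin_apply]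
      constructor
      · intro h i hi
        have h3 := congrFun h ⟨(i : ℕ) - 1, by have := i.2; omega⟩
        rw [Jst_mulVec, dif_pos (by show (i : ℕ) - 1 + 1 < k + 1; have := i.2; omega)] at h3
        have e : (⟨(i : ℕ) - 1 + 1, by have := i.2; omega⟩ : Fin (k + 1)) = i := by
          apply Fin.ext
          show (i : ℕ) - 1 + 1 = i
          omega
        simp only at h3
        rw [e] at h3
        exact h3
      · intro h
        funext i
        rw [Jst_mulVec]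
        split_ifs with h4
        · exact h _ (by show 1 ≤ (i : ℕ) + 1; omega)
        · rfl
    rw [h2, Cfsg.Agent.S0773.finrank_Ssub (k + 1) 1 (by omega)] at h1
    show Module.finrank F (LinearMap.range (Matrix.mulVecLin (Jst (F := F) k))) = k
    omega

end Std

section Main

open Polynomial

variable {F : Type*} [Field F] {k : ℕ}

theorem det_one_add_nilpotent (N : Matrix (Fin (k + 1)) (Fin (k + 1)) F) (hN : IsNilpotent N) :
    (1 + N).det = 1 := by
  have hneg : IsNilpotent (-N) := hN.neg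
  have hcp : (-N).charpoly = X ^ (k + 1) := by
    have := Matrix.isNilpotent_charpoly_sub_pow_of_isNilpotent hneg
    rw [Fintype.card_fin] at this
    exact sub_eq_zero.1 this.eq_zero
  have h1 := Matrix.eval_charpoly (-N) (1 : F)
  rw [hcp, eval_pow, eval_X, one_pow] at h1
  rw [h1]
  congr 1
  rw [sub_neg_eq_add, map_one]

abbrev SLk (F : Type*) [Field F] (k : ℕ) := Matrix.SpecialLinearGroup (Fin (k + 1)) F

/-- regular unipotent elements -/
def IsRU (u : SLk F k) : Prop :=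
  RegNil ((u : Matrix (Fin (k + 1)) (Fin (k + 1)) F) - 1)

/-- conjugacy in SL from a matrix intertwiner of determinant one -/
theorem isConj_of_intertwine (u₁ u₂ : SLk F k) (S : Matrix (Fin (k + 1)) (Fin (k + 1)) F)
    (hS : S.det = 1)
    (h : S * ((u₂ : Matrix (Fin (k + 1)) (Fin (k + 1)) F) - 1) =
      ((u₁ : Matrix (Fin (k + 1)) (Fin (k + 1)) F) - 1) * S) : IsConj u₂ u₁ := by
  rw [isConj_iff]
  let s : SLk F k := ⟨S, hS⟩
  refine ⟨s, mul_inv_eq_iff_eq_mul.2 ?_⟩
  apply Subtype.ext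
  show S * (u₂ : Matrix (Fin (k + 1)) (Fin (k + 1)) F) =
    (u₁ : Matrix (Fin (k + 1)) (Fin (k + 1)) F) * S
  have e2 : (u₂ : Matrix (Fin (k + 1)) (Fin (k + 1)) F) =
      1 + ((u₂ : Matrix (Fin (k + 1)) (Fin (k + 1)) F) - 1) := by abel
  have e1 : (u₁ : Matrix (Fin (k + 1)) (Fin (k + 1)) F) =
      1 + ((u₁ : Matrix (Fin (k + 1)) (Fin (k + 1)) F) - 1) := by abel
  rw [e2, e1, mul_add, add_mul, h, mul_one, one_mul]

theorem intertwine_of_isConj (u₁ u₂ : SLk F k) (h : IsConj u₂ u₁) :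
    ∃ S : Matrix (Fin (k + 1)) (Fin (k + 1)) F, S.det = 1 ∧
      S * ((u₂ : Matrix (Fin (k + 1)) (Fin (k + 1)) F) - 1) =
      ((u₁ : Matrix (Fin (k + 1)) (Fin (k + 1)) F) - 1) * S := by
  rw [isConj_iff] at h
  obtain ⟨c, hc⟩ := h
  rw [mul_inv_eq_iff_eq_mul] at hc
  refine ⟨c.1, c.2, ?_⟩
  have h1 : (c : Matrix (Fin (k + 1)) (Fin (k + 1)) F) * (u₂ : Matrix (Fin (k + 1)) (Fin (k + 1)) F) =
      (u₁ : Matrix (Fin (k + 1)) (Fin (k + 1)) F) * (c : Matrix (Fin (k + 1)) (Fin (k + 1)) F) := by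
    have := congrArg Subtype.val hc
    exact this
  rw [mul_sub, sub_mul, h1, mul_one, one_mul]

end Main

section Count

variable {F : Type*} [Field F] [Fintype F]

theorem inv_intertwine {k : ℕ} (G J N : Matrix (Fin (k + 1)) (Fin (k + 1)) F) (hG : IsUnit G.det)
    (e : G * J = N * G) : J * G⁻¹ = G⁻¹ * N := by
  have hinv : G⁻¹ * G = 1 := Matrix.nonsing_inv_mul G hG
  have hinv' : G * G⁻¹ = 1 := Matrix.mul_nonsing_inv G hG
  calc J * G⁻¹ = G⁻¹ * (G * J) * G⁻¹ := by rw [← Matrix.mul_assoc, hinv, Matrix.one_mul]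
    _ = G⁻¹ * (N * G) * G⁻¹ := by rw [e]
    _ = G⁻¹ * N := by rw [Matrix.mul_assoc, Matrix.mul_assoc, hinv', Matrix.mul_one]

theorem count (k : ℕ) :
    Nat.card {C : ConjClasses (SLk F k) // ∃ u : SLk F k, ConjClasses.mk u = C ∧ IsRU u} =
      Nat.gcd (k + 1) (Fintype.card F - 1) := by
  classical
  let P : Subgroup Fˣ := (powMonoidHom (k + 1) : Fˣ →* Fˣ).range
  have hex : ∀ C : {C : ConjClasses (SLk F k) // ∃ u : SLk F k, ConjClasses.mk u = C ∧ IsRU u},
      ∃ (u : SLk F k) (G : Matrix (Fin (k + 1)) (Fin (k + 1)) F), ConjClasses.mk u = C.1 ∧ IsRU u ∧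
        IsUnit G.det ∧ G * Jst k = ((u : Matrix (Fin (k + 1)) (Fin (k + 1)) F) - 1) * G := by
    rintro ⟨C, u, hu, hru⟩
    obtain ⟨G, hG, hGe⟩ := exists_conj (Jst k) _ (Jst_regNil k) hru
    exact ⟨u, G, hu, hru, hG, hGe⟩
  choose uC GC h1 h2 h3 h4 using hex
  let δ : {C : ConjClasses (SLk F k) // ∃ u : SLk F k, ConjClasses.mk u = C ∧ IsRU u} → Fˣ ⧸ P :=
    fun C => QuotientGroup.mk (h3 C).unit
  have hinj : Function.Injective δ := by
    intro C₁ C₂ h
    have hP := QuotientGroup.eq.1 h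
    obtain ⟨c, hc⟩ := hP
    have hc' : (c : F) ^ (k + 1) = ((GC C₁).det)⁻¹ * (GC C₂).det := by
      have := congrArg Units.val hc
      simpa using this
    have hd1 : (GC C₁).det ≠ 0 := (h3 C₁).ne_zero
    have hd2 : (GC C₂).det ≠ 0 := (h3 C₂).ne_zero
    let S : Matrix (Fin (k + 1)) (Fin (k + 1)) F := ((c : F) • GC C₁) * (GC C₂)⁻¹
    have hSdet : S.det = 1 := by
      show (((c : F) • GC C₁) * (GC C₂)⁻¹).det = 1
      rw [Matrix.det_mul, Matrix.det_smul, Fintype.card_fin, Matrix.det_nonsing_inv,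
        Ring.inverse_eq_inv', hc']
      field_simp
    have hint : S * ((uC C₂ : Matrix (Fin (k + 1)) (Fin (k + 1)) F) - 1) =
        ((uC C₁ : Matrix (Fin (k + 1)) (Fin (k + 1)) F) - 1) * S := by
      show ((c : F) • GC C₁) * (GC C₂)⁻¹ * _ = _ * (((c : F) • GC C₁) * (GC C₂)⁻¹)
      rw [Matrix.mul_assoc, ← inv_intertwine _ _ _ (h3 C₂) (h4 C₂), ← Matrix.mul_assoc,
        Matrix.smul_mul, h4 C₁, ← Matrix.mul_assoc, Matrix.mul_smul]
    have hconj := isConj_of_intertwine (uC C₁) (uC C₂) S hSdet hint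
    have := ConjClasses.mk_eq_mk_iff_isConj.2 hconj
    rw [h1, h1] at this
    exact Subtype.ext this.symm
  have hsurj : Function.Surjective δ := by
    intro y
    obtain ⟨d, rfl⟩ := QuotientGroup.mk_surjective y
    let D : Matrix (Fin (k + 1)) (Fin (k + 1)) F :=
      Matrix.diagonal (fun i => if i = 0 then (d : F) else 1)
    have hDdet : D.det = d := by
      show (Matrix.diagonal _).det = _
      rw [Matrix.det_diagonal, Finset.prod_ite_eq' Finset.univ (0 : Fin (k + 1))]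
      simp
    have hDu : IsUnit D.det := by rw [hDdet]; exact d.isUnit
    have hinv : D⁻¹ * D = 1 := Matrix.nonsing_inv_mul D hDu
    have hinv' : D * D⁻¹ = 1 := Matrix.mul_nonsing_inv D hDu
    let Nd : Matrix (Fin (k + 1)) (Fin (k + 1)) F := D * Jst k * D⁻¹
    have hNdD : D * Jst k = Nd * D := by
      show D * Jst k = D * Jst k * D⁻¹ * D
      rw [Matrix.mul_assoc (D * Jst k), hinv, Matrix.mul_one]
    have hpow : ∀ m : ℕ, Nd ^ m = D * (Jst k) ^ m * D⁻¹ := by
      intro m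
      induction m with
      | zero => rw [pow_zero, pow_zero, Matrix.mul_one, hinv']
      | succ m ih =>
        rw [pow_succ, ih, pow_succ]
        show D * Jst k ^ m * D⁻¹ * (D * Jst k * D⁻¹) = _
        rw [Matrix.mul_assoc (D * Jst k ^ m), ← Matrix.mul_assoc D⁻¹, ← Matrix.mul_assoc D⁻¹, hinv,
          Matrix.one_mul, ← Matrix.mul_assoc, Matrix.mul_assoc D]
    have hNd : RegNil Nd := by
      constructor
      · rw [hpow, (Jst_regNil (F := F) k).1, Matrix.mul_zero, Matrix.zero_mul]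
      · show (D * Jst k * D⁻¹).rank = k
        have hDi : IsUnit (D⁻¹).det := by
          rw [Matrix.det_nonsing_inv]
          exact hDu.ringInverse
        rw [Matrix.rank_mul_eq_left_of_isUnit_det _ _ hDi, Matrix.rank_mul_eq_right_of_isUnit_det _ _ hDu]
        exact (Jst_regNil (F := F) k).2
    have hdet1 : (1 + Nd).det = 1 := det_one_add_nilpotent Nd ⟨k + 1, hNd.1⟩
    let ud : SLk F k := ⟨1 + Nd, hdet1⟩
    have hud : (ud : Matrix (Fin (k + 1)) (Fin (k + 1)) F) - 1 = Nd := by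
      show (1 + Nd) - 1 = Nd
      abel
    have hru : IsRU ud := by
      show RegNil ((ud : Matrix (Fin (k + 1)) (Fin (k + 1)) F) - 1)
      rw [hud]
      exact hNd
    let C : {C : ConjClasses (SLk F k) // ∃ u : SLk F k, ConjClasses.mk u = C ∧ IsRU u} :=
      ⟨ConjClasses.mk ud, ud, rfl, hru⟩
    refine ⟨C, ?_⟩
    have hcl : IsConj (uC C) ud := ConjClasses.mk_eq_mk_iff_isConj.1 (h1 C)
    obtain ⟨S, hS1, hS2⟩ := intertwine_of_isConj ud (uC C) hcl
    rw [hud] at hS2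
    have e1 : (S * GC C) * Jst k = Nd * (S * GC C) := by
      rw [Matrix.mul_assoc, h4 C, ← Matrix.mul_assoc, hS2, Matrix.mul_assoc]
    have hSG : IsUnit (S * GC C).det := by
      rw [Matrix.det_mul, hS1, one_mul]
      exact h3 C
    obtain ⟨a, ha0, ha⟩ := det_ratio (Jst k) Nd (Jst_regNil k) (S * GC C) D hSG hDu e1 hNdD
    rw [Matrix.det_mul, hS1, one_mul, hDdet] at ha
    show QuotientGroup.mk (h3 C).unit = QuotientGroup.mk d
    rw [QuotientGroup.eq]
    refine ⟨(Units.mk0 a ha0)⁻¹, ?_⟩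
    apply Units.ext
    rw [powMonoidHom_apply, Units.val_pow_eq_pow_val, Units.val_inv_eq_inv_val, Units.val_mk0,
      Units.val_mul, Units.val_inv_eq_inv_val]
    have hu : ((h3 C).unit : F) = (GC C).det := IsUnit.unit_spec _
    rw [hu, ha]
    have hd0 : (d : F) ≠ 0 := d.ne_zero
    have hap : a ^ (k + 1) ≠ 0 := pow_ne_zero _ ha0
    rw [inv_pow, mul_inv, mul_comm (d : F)⁻¹, mul_assoc, inv_mul_cancel₀ hd0, mul_one]
  rw [Nat.card_congr (Equiv.ofBijective δ ⟨hinj, hsurj⟩), ← Subgroup.index_eq_card,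
    IsCyclic.index_powMonoidHom_range, Nat.card_eq_fintype_card, Fintype.card_units, Nat.gcd_comm]

end Count

theorem result {F : Type*} [Field F] [Fintype F] {q : ℕ} (hF : Fintype.card F = q) {n : ℕ} (hn : 2 ≤ n) : Nat.card {C : ConjClasses (Matrix.SpecialLinearGroup (Fin n) F) // ∃ u : Matrix.SpecialLinearGroup (Fin n) F, ConjClasses.mk u = C ∧ ((u : Matrix (Fin n) (Fin n) F) - 1) ^ n = 0 ∧ ((u : Matrix (Fin n) (Fin n) F) - 1).rank = n - 1} = Nat.gcd n (q - 1) := by
  obtain ⟨k, rfl⟩ : ∃ k, n = k + 1 := ⟨n - 1, by omega⟩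
  subst hF
  exact count k

end Cfsg.Agent.S2578
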