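import Mathlib
import Cfsg.Statements.S2644
import Cfsg.Agent.Lib.Helper5.GUStab
import Cfsg.Agent.Lib.Helper2.HermPerp
import Cfsg.Agent.Lib.Helper2.HermCenter

set_option autoImplicit false
open Cfsg

namespace Cfsg.Agent.S2644

open Cfsg.Agent.S0779 Cfsg.Agent.Lib.Helper5 Cfsg.Agent.Lib.Helper2.Herm Matrix

section
variable {F : Type*} [Field F] [Fintype F] {q : ℕ}

theorem herm_single_right (n : ℕ) (u : Fin n → F) (i : Fin n) (hq : 0 < q) :
    Cfsg.hermForm n F q u (Pi.single i 1) = u i := by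
  classical
  unfold Cfsg.hermForm
  rw [Finset.sum_eq_single i]
  · rw [Pi.single_eq_same, one_pow, mul_one]
  · intro j _ hj
    rw [Pi.single_eq_of_ne hj, zero_pow hq.ne', mul_zero]
  · intro h
    exact absurd (Finset.mem_univ i) h

theorem nondeg_top (hF : Fintype.card F = q ^ 2) (n : ℕ) :
    HNondeg n q (⊤ : Submodule F (Fin n → F)) := by
  intro u _ hall
  funext i
  have h := hall (Pi.single i 1) Submodule.mem_top
  rw [herm_single_right n u i (by have := one_lt_q hF; omega)] at h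
  exact h

theorem exists_e1 (hF : Fintype.card F = q ^ 2) (n : ℕ) (w : Fin n → F) (hw : w ≠ 0)
    (hw0 : Cfsg.hermForm n F q w w = 0) :
    ∃ e : Fin n → F, Cfsg.hermForm n F q e e = 1 ∧ Cfsg.hermForm n F q w e = 1 := by
  obtain ⟨u, hu⟩ := exists_herm_one (q := q) n w hw
  have hfix : (1 - Cfsg.hermForm n F q u u) ^ q = 1 - Cfsg.hermForm n F q u u := by
    rw [sub_eq_add_neg, add_pow_q hF, neg_pow_q hF, one_pow, herm_self_fix hF]
  have hcard := card_trace_fiber hF _ hfix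
  have hpos : 0 < Nat.card {t : F // t + t ^ q = 1 - Cfsg.hermForm n F q u u} := by
    rw [hcard]
    have := one_lt_q hF
    omega
  obtain ⟨t⟩ := (Nat.card_pos_iff.1 hpos).1
  refine ⟨u + t.1 • w, ?_, ?_⟩
  · rw [herm_add_smul_self hF n w u hw0 hu, t.2]
    ring
  · have hwu : Cfsg.hermForm n F q w u = 1 := by
      rw [← herm_pow_q n hF u w, hu, one_pow]
    rw [herm_add_right n hF, herm_smul_right, hw0, hwu]
    ring

theorem exists_frame (hF : Fintype.card F = q ^ 2) (m : ℕ) (c0 : F) (hc0 : c0 * c0 ^ q = -1)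
    (w : Fin (m + 2) → F) (hw : w ≠ 0) (hw0 : Cfsg.hermForm (m + 2) F q w w = 0) :
    ∃ e : Fin (m + 2) → (Fin (m + 2) → F), IsON (m + 2) q e ∧
      e 0 + c0 • e (Fin.succ 0) = w := by
  have hq := one_lt_q hF
  obtain ⟨e1, he11, hwe1⟩ := exists_e1 hF _ w hw hw0
  have he1w : Cfsg.hermForm (m + 2) F q e1 w = 1 := by
    rw [← herm_pow_q _ hF w e1, hwe1, one_pow]
  have hc0ne : c0 ≠ 0 := by
    rintro rfl
    rw [zero_mul] at hc0
    exact (neg_ne_zero.2 one_ne_zero) hc0.symm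
  have hm1 : (-1 : F) ^ q = -1 := by rw [neg_pow_q hF, one_pow]
  set d : Fin (m + 2) → F := w + (-1 : F) • e1 with hd
  have hdd : Cfsg.hermForm (m + 2) F q d d = -1 := by
    rw [hd, herm_add_left, herm_add_right _ hF, herm_add_right _ hF, herm_smul_left,
      herm_smul_left, herm_smul_right, herm_smul_right, hw0, hwe1, he1w, he11, hm1]
    ring
  have hde1 : Cfsg.hermForm (m + 2) F q d e1 = 0 := by
    rw [hd, herm_add_left, herm_smul_left, hwe1, he11]
    ring
  have he1d : Cfsg.hermForm (m + 2) F q e1 d = 0 := by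
    rw [← herm_pow_q _ hF d e1, hde1, zero_pow (by omega)]
  set e2 : Fin (m + 2) → F := c0⁻¹ • d with he2
  have he22 : Cfsg.hermForm (m + 2) F q e2 e2 = 1 := by
    rw [he2, herm_smul_left, herm_smul_right, hdd, inv_pow, ← mul_assoc, ← mul_inv, hc0]
    rw [inv_neg, inv_one]
    ring
  have he2e1 : Cfsg.hermForm (m + 2) F q e2 e1 = 0 := by
    rw [he2, herm_smul_left, hde1, mul_zero]
  have he1e2 : Cfsg.hermForm (m + 2) F q e1 e2 = 0 := by
    rw [he2, herm_smul_right, he1d, mul_zero]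
  have hsum : e1 + c0 • e2 = w := by
    rw [he2, smul_smul, mul_inv_cancel₀ hc0ne, one_smul, hd, neg_one_smul]
    abel
  -- the rest of the frame
  have htop := nondeg_top (q := q) hF (m + 2)
  have hS1 : HNondeg (m + 2) q (perpIn (m + 2) q ⊤ e1) :=
    perpIn_nondeg hF _ ⊤ htop e1 Submodule.mem_top he11
  have he2S1 : e2 ∈ perpIn (m + 2) q (⊤ : Submodule F (Fin (m + 2) → F)) e1 :=
    mem_perpIn.2 ⟨Submodule.mem_top, he2e1⟩
  have hS2 : HNondeg (m + 2) q (perpIn (m + 2) q (perpIn (m + 2) q ⊤ e1) e2) :=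
    perpIn_nondeg hF _ _ hS1 e2 he2S1 he22
  have f1 := finrank_perpIn (q := q) (m + 2) (⊤ : Submodule F (Fin (m + 2) → F)) e1
    Submodule.mem_top he11
  have f2 := finrank_perpIn (q := q) (m + 2) (perpIn (m + 2) q ⊤ e1) e2 he2S1 he22
  rw [finrank_top, Module.finrank_fin_fun] at f1
  obtain ⟨r, hrS, hrON⟩ := exists_ON_family hF (m + 2) m _ (by omega) hS2
  have hr2 : ∀ i, Cfsg.hermForm (m + 2) F q (r i) e2 = 0 := fun i => (mem_perpIn.1 (hrS i)).2
  have hr1 : ∀ i, Cfsg.hermForm (m + 2) F q (r i) e1 = 0 :=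
    fun i => (mem_perpIn.1 (mem_perpIn.1 (hrS i)).1).2
  have h2r : ∀ i, Cfsg.hermForm (m + 2) F q e2 (r i) = 0 := by
    intro i
    rw [← herm_pow_q _ hF (r i) e2, hr2 i, zero_pow (by omega)]
  have h1r : ∀ i, Cfsg.hermForm (m + 2) F q e1 (r i) = 0 := by
    intro i
    rw [← herm_pow_q _ hF (r i) e1, hr1 i, zero_pow (by omega)]
  have hON2 : IsON (m + 2) q (Fin.cons e2 r : Fin (m + 1) → (Fin (m + 2) → F)) :=
    isON_cons hF e2 r hrON he22 h2r
  have hON1 : IsON (m + 2) q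
      (Fin.cons e1 (Fin.cons e2 r : Fin (m + 1) → (Fin (m + 2) → F)) :
        Fin (m + 2) → (Fin (m + 2) → F)) := by
    apply isON_cons hF e1 _ hON2 he11
    intro i
    refine Fin.cases ?_ (fun j => ?_) i
    · rw [Fin.cons_zero]
      exact he1e2
    · rw [Fin.cons_succ]
      exact h1r j
  refine ⟨_, hON1, ?_⟩
  rw [Fin.cons_zero, Fin.cons_succ, Fin.cons_zero]
  exact hsum

theorem exists_su_matrix (hF : Fintype.card F = q ^ 2) (m : ℕ) (c0 : F) (hc0 : c0 * c0 ^ q = -1)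
    (w : Fin (m + 3) → F) (hw : w ≠ 0) (hw0 : Cfsg.hermForm (m + 3) F q w w = 0) :
    ∃ A : ↥(Cfsg.SU (m + 3) F q),
      (A.1.1 : Matrix (Fin (m + 3)) (Fin (m + 3)) F) *ᵥ
        (Pi.single 0 1 + c0 • Pi.single (Fin.succ 0) 1) = w := by
  classical
  have hq := one_lt_q hF
  obtain ⟨e, heON, hew⟩ := exists_frame hF (m + 1) c0 hc0 w hw hw0
  set M0 : Matrix (Fin (m + 3)) (Fin (m + 3)) F := Matrix.of (fun k i => e i k) with hM0
  have hM0ON : IsON (m + 3) q (fun i k => M0 k i) := heON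
  have hdet := det_norm hF (m + 3) M0 hM0ON
  have hdne : M0.det ≠ 0 := by
    intro h
    rw [h, zero_mul] at hdet
    exact zero_ne_one hdet
  set i2 : Fin (m + 3) := Fin.succ (Fin.succ 0) with hi2
  set d : Fin (m + 3) → F := Function.update (fun _ => (1 : F)) i2 (M0.det)⁻¹ with hd
  have hdn : ∀ k, d k * d k ^ q = 1 := by
    intro k
    by_cases hk : k = i2
    · rw [hk, hd, Function.update_self, inv_pow, ← mul_inv, hdet, inv_one]
    · rw [hd, Function.update_of_ne hk, one_pow, mul_one]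
  have h02 : (0 : Fin (m + 3)) ≠ i2 := (Fin.succ_ne_zero _).symm
  have h12 : (Fin.succ 0 : Fin (m + 3)) ≠ i2 := by
    intro h
    exact (Fin.succ_ne_zero _).symm (Fin.succ_injective _ h)
  have hpres : ∀ u v : Fin (m + 3) → F,
      Cfsg.hermForm (m + 3) F q ((M0 * Matrix.diagonal d) *ᵥ u) ((M0 * Matrix.diagonal d) *ᵥ v)
        = Cfsg.hermForm (m + 3) F q u v := by
    intro u v
    rw [← Matrix.mulVec_mulVec, ← Matrix.mulVec_mulVec, preserves_of_ON hF _ M0 hM0ON,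
      preserves_of_ON hF _ _ (diag_ON hF _ d hdn)]
  have hdet1 : (M0 * Matrix.diagonal d).det = 1 := by
    rw [Matrix.det_mul, Matrix.det_diagonal, hd,
      Finset.prod_update_of_mem (Finset.mem_univ i2), Finset.prod_const_one, mul_one,
      mul_inv_cancel₀ hdne]
  refine ⟨suOfPres _ _ hpres hdet1, ?_⟩
  rw [suOfPres_val, ← Matrix.mulVec_mulVec]
  have hx : Matrix.diagonal d *ᵥ (Pi.single 0 1 + c0 • Pi.single (Fin.succ 0) 1 : Fin (m + 3) → F)
      = Pi.single 0 1 + c0 • Pi.single (Fin.succ 0) 1 := by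
    funext k
    rw [Matrix.mulVec_diagonal]
    by_cases hk : k = i2
    · rw [hk, Pi.add_apply, Pi.smul_apply, Pi.single_eq_of_ne h02.symm,
        Pi.single_eq_of_ne h12.symm, smul_zero, add_zero, mul_zero]
    · rw [hd, Function.update_of_ne hk, one_mul]
  rw [hx, Matrix.mulVec_add, Matrix.mulVec_smul, Matrix.mulVec_single_one,
    Matrix.mulVec_single_one]
  exact hew

theorem exists_su_map (hF : Fintype.card F = q ^ 2) (m : ℕ)
    (w w' : Fin (m + 3) → F) (hw : w ≠ 0) (hw0 : Cfsg.hermForm (m + 3) F q w w = 0)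
    (hw' : w' ≠ 0) (hw0' : Cfsg.hermForm (m + 3) F q w' w' = 0) :
    ∃ g : ↥(Cfsg.SU (m + 3) F q),
      (g.1.1 : Matrix (Fin (m + 3)) (Fin (m + 3)) F) *ᵥ w = w' := by
  have hfix : (-1 : F) ^ q = -1 := by rw [neg_pow_q hF, one_pow]
  obtain ⟨c0, hc0⟩ := norm_surj hF (-1 : F) hfix
  obtain ⟨A, hA⟩ := exists_su_matrix hF m c0 hc0 w hw hw0
  obtain ⟨A', hA'⟩ := exists_su_matrix hF m c0 hc0 w' hw' hw0'
  refine ⟨A' * A⁻¹, ?_⟩
  rw [← hA, Matrix.mulVec_mulVec, ← su_mul_val, inv_mul_cancel_right]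
  exact hA'

theorem transv_struct (hF : Fintype.card F = q ^ 2) (n : ℕ) (T : Matrix (Fin n) (Fin n) F)
    (hT : ∀ u v : Fin n → F,
      Cfsg.hermForm n F q (T *ᵥ u) (T *ᵥ v) = Cfsg.hermForm n F q u v)
    (htr : Cfsg.IsTransvection T) :
    ∃ (w : Fin n → F) (l : F), w ≠ 0 ∧ Cfsg.hermForm n F q w w = 0 ∧ l ≠ 0 ∧ l + l ^ q = 0 ∧
      ∀ x, T *ᵥ x = x + (l * Cfsg.hermForm n F q x w) • w := by
  classical
  have hq := one_lt_q hF
  obtain ⟨hrank, hsq⟩ := htr
  set N : Matrix (Fin n) (Fin n) F := T - 1 with hN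
  have hTx : ∀ x, T *ᵥ x = x + N *ᵥ x := by
    intro x
    rw [hN, Matrix.sub_mulVec, Matrix.one_mulVec]
    abel
  have hrank' : Module.finrank F (LinearMap.range N.mulVecLin) = 1 := hrank
  obtain ⟨⟨a, ha_mem⟩, ha_ne, hspan⟩ := finrank_eq_one_iff'.1 hrank'
  have ha0 : a ≠ 0 := by
    intro h
    apply ha_ne
    exact Subtype.ext h
  have hex : ∀ x : Fin n → F, ∃ c : F, c • a = N *ᵥ x := by
    intro x
    obtain ⟨c, hc⟩ := hspan ⟨N *ᵥ x, ⟨x, rfl⟩⟩
    exact ⟨c, congrArg Subtype.val hc⟩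
  choose φ hφ using hex
  obtain ⟨x0, hx0⟩ := ha_mem
  have hx0' : N *ᵥ x0 = a := hx0
  have hNa : N *ᵥ a = 0 := by
    rw [← hx0', Matrix.mulVec_mulVec, hsq, Matrix.zero_mulVec]
  have hφa : φ a = 0 := by
    have h := hφ a
    rw [hNa] at h
    rcases smul_eq_zero.1 h with h | h
    · exact h
    · exact absurd h ha0
  have hφx0 : φ x0 ≠ 0 := by
    intro h
    have h2 := hφ x0
    rw [h, zero_smul, hx0'] at h2
    exact ha0 h2.symm
  -- the unitary condition
  have hE : ∀ x y : Fin n → F, (φ y) ^ q * Cfsg.hermForm n F q x a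
      + φ x * Cfsg.hermForm n F q a y
      + φ x * (φ y) ^ q * Cfsg.hermForm n F q a a = 0 := by
    intro x y
    have h := hT x y
    rw [hTx, hTx, ← hφ x, ← hφ y, herm_add_left, herm_add_right n hF, herm_add_right n hF,
      herm_smul_left, herm_smul_left, herm_smul_right, herm_smul_right] at h
    linear_combination h
  have haa : Cfsg.hermForm n F q a a = 0 := by
    have h := hE x0 a
    rw [hφa, zero_pow (by omega)] at h
    have h2 : φ x0 * Cfsg.hermForm n F q a a = 0 := by linear_combination h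
    rcases mul_eq_zero.1 h2 with h3 | h3
    · exact absurd h3 hφx0
    · exact h3
  obtain ⟨x1, hx1⟩ := exists_herm_one (q := q) n a ha0
  have hax1 : Cfsg.hermForm n F q a x1 = 1 := by
    rw [← herm_pow_q n hF x1 a, hx1, one_pow]
  have hφq : (φ x0) ^ q ≠ 0 := pow_ne_zero q hφx0
  -- h(x, a) = μ φ x
  set μ : F := -(Cfsg.hermForm n F q a x0) / (φ x0) ^ q with hμ
  have hμφ : ∀ x, Cfsg.hermForm n F q x a = μ * φ x := by
    intro x
    have h := hE x x0
    rw [haa, mul_zero, add_zero] at h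
    rw [hμ]
    field_simp
    linear_combination h
  have hμ0 : μ ≠ 0 := by
    intro h
    have h2 := hμφ x1
    rw [hx1, h, zero_mul] at h2
    exact one_ne_zero h2
  have hφeq : ∀ x, φ x = μ⁻¹ * Cfsg.hermForm n F q x a := by
    intro x
    rw [hμφ x, ← mul_assoc, inv_mul_cancel₀ hμ0, one_mul]
  refine ⟨a, μ⁻¹, ha0, haa, inv_ne_zero hμ0, ?_, ?_⟩
  · have h := hE x1 x1
    rw [haa, mul_zero, add_zero, hφeq x1, hx1, hax1, mul_one, mul_one, mul_one] at h
    linear_combination h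
  · intro x
    rw [hTx, ← hφ x, hφeq x]

end

theorem result {K : Type*} [Field K] [Fintype K] {q n : ℕ} (hK : Fintype.card K = q ^ 2) (hn : 3 ≤ n) (s t : ↥(Cfsg.SU n K q)) (hs : Cfsg.IsTransvection (((s : GL (Fin n) K) : Matrix (Fin n) (Fin n) K))) (ht : Cfsg.IsTransvection (((t : GL (Fin n) K) : Matrix (Fin n) (Fin n) K))) : IsConj s t := by
  obtain ⟨m, rfl⟩ : ∃ m, n = m + 3 := ⟨n - 3, by omega⟩
  have hq := one_lt_q hK
  have hs' : Cfsg.IsTransvection (s.1.1 : Matrix (Fin (m + 3)) (Fin (m + 3)) K) := hs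
  have ht' : Cfsg.IsTransvection (t.1.1 : Matrix (Fin (m + 3)) (Fin (m + 3)) K) := ht
  obtain ⟨w, l, hw, hw0, hl, hlq, hsx⟩ := transv_struct hK _ _ (su_pres _ s) hs'
  obtain ⟨w', l', hw', hw0', hl', hlq', htx⟩ := transv_struct hK _ _ (su_pres _ t) ht'
  have hlq2 : l ^ q = -l := by linear_combination hlq
  have hlq2' : l' ^ q = -l' := by linear_combination hlq'
  have hρ : (l' / l) ^ q = l' / l := by
    rw [div_pow, hlq2, hlq2', neg_div_neg_eq]
  obtain ⟨c, hc⟩ := norm_surj hK (l' / l) hρ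
  have hc0 : c ≠ 0 := by
    rintro rfl
    rw [zero_mul] at hc
    exact (div_ne_zero hl' hl) hc.symm
  have hcw' : c • w' ≠ 0 := smul_ne_zero hc0 hw'
  have hcw0' : Cfsg.hermForm (m + 3) K q (c • w') (c • w') = 0 := by
    rw [herm_smul_left, herm_smul_right, hw0', mul_zero, mul_zero]
  obtain ⟨g, hg⟩ := exists_su_map hK m w (c • w') hw hw0 hcw' hcw0'
  have hgw' : w' = c⁻¹ • ((g.1.1 : Matrix (Fin (m + 3)) (Fin (m + 3)) K) *ᵥ w) := by
    rw [hg, smul_smul, inv_mul_cancel₀ hc0, one_smul]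
  have hcomm : g * s = t * g := by
    apply Subtype.ext
    apply Subtype.ext
    rw [su_mul_val, su_mul_val]
    apply Matrix.mulVec_injective
    funext x
    rw [← Matrix.mulVec_mulVec, ← Matrix.mulVec_mulVec, hsx, htx, Matrix.mulVec_add,
      Matrix.mulVec_smul, hg]
    have h1 : Cfsg.hermForm (m + 3) K q
        ((g.1.1 : Matrix (Fin (m + 3)) (Fin (m + 3)) K) *ᵥ x) w'
        = (c⁻¹) ^ q * Cfsg.hermForm (m + 3) K q x w := by
      conv_lhs => rw [hgw']
      rw [herm_smul_right, su_pres]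
    rw [h1, smul_smul, inv_pow]
    congr 2
    have hcq : c ^ q ≠ 0 := pow_ne_zero q hc0
    have hl'eq : l' = c * c ^ q * l := by
      rw [hc, div_mul_cancel₀ _ hl]
    rw [hl'eq]
    field_simp
  rw [isConj_iff]
  exact ⟨g, by rw [hcomm, mul_inv_cancel_right]⟩

end Cfsg.Agent.S2644
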