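import Mathlib
import Cfsg.Statements.S0781
import Cfsg.Agent.S2644
import Cfsg.Agent.S2578

set_option autoImplicit false
open Cfsg

namespace Cfsg.Agent.S0781

open Cfsg.Agent.S0779 Cfsg.Agent.Lib.Helper5 Cfsg.Agent.Lib.Helper2.Herm Matrix Cfsg.Agent.S2644

section
variable {F : Type*} [Field F] [Fintype F] {q : ℕ}

theorem vmv_mulVec (n : ℕ) (a b x : Fin n → F) :
    Matrix.vecMulVec a (fun j => b j ^ q) *ᵥ x = Cfsg.hermForm n F q x b • a := by
  rw [Matrix.vecMulVec_mulVec]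
  have : (fun j => b j ^ q) ⬝ᵥ x = Cfsg.hermForm n F q x b := by
    unfold Cfsg.hermForm dotProduct
    apply Finset.sum_congr rfl
    intro i _
    ring
  rw [this]
  ext i
  simp only [Pi.smul_apply, MulOpposite.smul_eq_mul_unop, MulOpposite.unop_op, smul_eq_mul]
  ring

/-- Siegel-type matrix -/
def Sg (n : ℕ) (q : ℕ) (v u : Fin n → F) (α : F) : Matrix (Fin n) (Fin n) F :=
  1 + (α • Matrix.vecMulVec v (fun j => u j ^ q) + (-(α ^ q)) • Matrix.vecMulVec u (fun j => v j ^ q))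

theorem Sg_sub_mulVec (n : ℕ) (v u : Fin n → F) (α : F) (x : Fin n → F) :
    (Sg n q v u α - 1) *ᵥ x = (α * Cfsg.hermForm n F q x u) • v
      + (-(α ^ q) * Cfsg.hermForm n F q x v) • u := by
  unfold Sg
  rw [add_sub_cancel_left, Matrix.add_mulVec, Matrix.smul_mulVec, Matrix.smul_mulVec, vmv_mulVec,
    vmv_mulVec, smul_smul, smul_smul]

theorem Sg_mulVec (n : ℕ) (v u : Fin n → F) (α : F) (x : Fin n → F) :
    Sg n q v u α *ᵥ x = x + ((α * Cfsg.hermForm n F q x u) • v
      + (-(α ^ q) * Cfsg.hermForm n F q x v) • u) := by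
  rw [← Sg_sub_mulVec, Matrix.sub_mulVec, Matrix.one_mulVec]
  abel

theorem Sg_pres (hF : Fintype.card F = q ^ 2) (n : ℕ) (v u : Fin n → F)
    (hvv : Cfsg.hermForm n F q v v = 0) (huu : Cfsg.hermForm n F q u u = 0)
    (hvu : Cfsg.hermForm n F q v u = 0) (huv : Cfsg.hermForm n F q u v = 0) (α : F)
    (x y : Fin n → F) :
    Cfsg.hermForm n F q (Sg n q v u α *ᵥ x) (Sg n q v u α *ᵥ y) = Cfsg.hermForm n F q x y := by
  rw [Sg_mulVec, Sg_mulVec]
  simp only [herm_add_left, herm_add_right n hF, herm_smul_left, herm_smul_right, hvv, huu, hvu,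
    huv, mul_pow, neg_pow_q hF, pow_q_q hF, herm_pow_q n hF]
  ring

theorem Sg_sq (hF : Fintype.card F = q ^ 2) (n : ℕ) (v u : Fin n → F)
    (hvv : Cfsg.hermForm n F q v v = 0) (huu : Cfsg.hermForm n F q u u = 0)
    (hvu : Cfsg.hermForm n F q v u = 0) (huv : Cfsg.hermForm n F q u v = 0) (α : F) :
    (Sg n q v u α - 1) * (Sg n q v u α - 1) = 0 := by
  apply Matrix.mulVec_injective
  funext x
  rw [← Matrix.mulVec_mulVec, Matrix.zero_mulVec, Sg_sub_mulVec, Sg_sub_mulVec]
  simp only [herm_add_left, herm_smul_left, hvv, huu, hvu, huv, mul_zero, add_zero, zero_smul]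

theorem Sg_det (hF : Fintype.card F = q ^ 2) (k : ℕ) (v u : Fin (k + 1) → F)
    (hvv : Cfsg.hermForm (k + 1) F q v v = 0) (huu : Cfsg.hermForm (k + 1) F q u u = 0)
    (hvu : Cfsg.hermForm (k + 1) F q v u = 0) (huv : Cfsg.hermForm (k + 1) F q u v = 0) (α : F) :
    (Sg (k + 1) q v u α).det = 1 := by
  have hnil : IsNilpotent (Sg (k + 1) q v u α - 1) :=
    ⟨2, by rw [pow_two]; exact Sg_sq hF _ v u hvv huu hvu huv α⟩
  have := Cfsg.Agent.S2578.det_one_add_nilpotent _ hnil
  rw [add_sub_cancel] at this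
  exact this

theorem siegel_comm (n : ℕ) (v u u' : Fin n → F)
    (hvv : Cfsg.hermForm n F q v v = 0) (huu : Cfsg.hermForm n F q u u = 0)
    (hu'u' : Cfsg.hermForm n F q u' u' = 0)
    (hvu : Cfsg.hermForm n F q v u = 0) (huv : Cfsg.hermForm n F q u v = 0)
    (hvu' : Cfsg.hermForm n F q v u' = 0) (hu'v : Cfsg.hermForm n F q u' v = 0)
    (huu' : Cfsg.hermForm n F q u u' = 1) (hu'u : Cfsg.hermForm n F q u' u = 1)
    (γ c : F) (hc : c = γ - γ ^ q) (x : Fin n → F) :
    Sg n q v u' 1 *ᵥ (Sg n q v u γ *ᵥ x) =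
      Cfsg.unitaryTransvection n q v c *ᵥ (Sg n q v u γ *ᵥ (Sg n q v u' 1 *ᵥ x)) := by
  subst hc
  rw [transvection_mulVec]
  simp only [Sg_mulVec, herm_add_left, herm_smul_left, hvv, huu, hu'u', hvu, huv, hvu', hu'v,
    huu', hu'u, one_pow, mul_zero, add_zero, mul_one, one_mul]
  module

theorem conj_of_struct (hK : Fintype.card F = q ^ 2) (m : ℕ) (s t : ↥(Cfsg.SU (m + 3) F q))
    (w : Fin (m + 3) → F) (l : F) (hw : w ≠ 0) (hw0 : Cfsg.hermForm (m + 3) F q w w = 0)
    (hl : l ≠ 0) (hlq : l + l ^ q = 0)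
    (hsx : ∀ x, (s.1.1 : Matrix (Fin (m + 3)) (Fin (m + 3)) F) *ᵥ x
      = x + (l * Cfsg.hermForm (m + 3) F q x w) • w)
    (w' : Fin (m + 3) → F) (l' : F) (hw' : w' ≠ 0) (hw0' : Cfsg.hermForm (m + 3) F q w' w' = 0)
    (hl' : l' ≠ 0) (hlq' : l' + l' ^ q = 0)
    (htx : ∀ x, (t.1.1 : Matrix (Fin (m + 3)) (Fin (m + 3)) F) *ᵥ x
      = x + (l' * Cfsg.hermForm (m + 3) F q x w') • w') : IsConj s t := by
  have hlq2 : l ^ q = -l := by linear_combination hlq
  have hlq2' : l' ^ q = -l' := by linear_combination hlq'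
  have hρ : (l' / l) ^ q = l' / l := by
    rw [div_pow, hlq2, hlq2', neg_div_neg_eq]
  obtain ⟨c, hc⟩ := norm_surj hK (l' / l) hρ
  have hc0 : c ≠ 0 := by
    rintro rfl
    rw [zero_mul] at hc
    exact (div_ne_zero hl' hl) hc.symm
  have hcw' : c • w' ≠ 0 := smul_ne_zero hc0 hw'
  have hcw0' : Cfsg.hermForm (m + 3) F q (c • w') (c • w') = 0 := by
    rw [herm_smul_left, herm_smul_right, hw0', mul_zero, mul_zero]
  obtain ⟨g, hg⟩ := exists_su_map hK m w (c • w') hw hw0 hcw' hcw0'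
  have hgw' : w' = c⁻¹ • ((g.1.1 : Matrix (Fin (m + 3)) (Fin (m + 3)) F) *ᵥ w) := by
    rw [hg, smul_smul, inv_mul_cancel₀ hc0, one_smul]
  have hcomm : g * s = t * g := by
    apply Subtype.ext
    apply Subtype.ext
    rw [su_mul_val, su_mul_val]
    apply Matrix.mulVec_injective
    funext x
    rw [← Matrix.mulVec_mulVec, ← Matrix.mulVec_mulVec, hsx, htx, Matrix.mulVec_add,
      Matrix.mulVec_smul, hg]
    have h1 : Cfsg.hermForm (m + 3) F q
        ((g.1.1 : Matrix (Fin (m + 3)) (Fin (m + 3)) F) *ᵥ x) w'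
        = (c⁻¹) ^ q * Cfsg.hermForm (m + 3) F q x w := by
      conv_lhs => rw [hgw']
      rw [herm_smul_right, su_pres]
    rw [h1, smul_smul, inv_pow]
    congr 2
    have hcq : c ^ q ≠ 0 := pow_ne_zero q hc0
    have hl'eq : l' = c * c ^ q * l := by
      rw [hc, div_mul_cancel₀ _ hl]
    rw [hl'eq]
    field_simp
  rw [isConj_iff]
  exact ⟨g, by rw [hcomm, mul_inv_cancel_right]⟩

theorem trace_param (hF : Fintype.card F = q ^ 2) (c : F) (hc : c ^ q = -c) :
    ∃ γ : F, c = γ - γ ^ q := by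
  have hq := one_lt_q hF
  have hcard := card_trace_fiber hF (1 : F) (one_pow q)
  have hpos : 0 < Nat.card {t : F // t + t ^ q = 1} := by
    rw [hcard]
    omega
  obtain ⟨θ⟩ := (Nat.card_pos_iff.1 hpos).1
  refine ⟨c * θ.1, ?_⟩
  rw [mul_pow, hc]
  linear_combination (-c) * θ.2

theorem exists_ut (hF : Fintype.card F = q ^ 2) (k : ℕ) (v : Fin (k + 1) → F)
    (hvv : Cfsg.hermForm (k + 1) F q v v = 0) (c : F) (hc : c ^ q = -c) :
    ∃ B : ↥(Cfsg.SU (k + 1) F q), ∀ x, (B.1.1 : Matrix (Fin (k + 1)) (Fin (k + 1)) F) *ᵥ x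
      = x + (c * Cfsg.hermForm (k + 1) F q x v) • v := by
  obtain ⟨γ, hγ⟩ := trace_param hF c hc
  refine ⟨suOfPres _ (Sg (k + 1) q v v γ) (Sg_pres hF _ v v hvv hvv hvv hvv γ)
    (Sg_det hF k v v hvv hvv hvv hvv γ), ?_⟩
  intro x
  rw [suOfPres_val, Sg_mulVec, ← add_smul, hγ]
  congr 2
  ring

theorem exists_hyp (hF : Fintype.card F = q ^ 2) (m : ℕ) (v : Fin (m + 4) → F) (hv : v ≠ 0)
    (hv0 : Cfsg.hermForm (m + 4) F q v v = 0) :
    ∃ u u' : Fin (m + 4) → F, Cfsg.hermForm (m + 4) F q u u = 0 ∧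
      Cfsg.hermForm (m + 4) F q u' u' = 0 ∧
      Cfsg.hermForm (m + 4) F q v u = 0 ∧ Cfsg.hermForm (m + 4) F q u v = 0 ∧
      Cfsg.hermForm (m + 4) F q v u' = 0 ∧ Cfsg.hermForm (m + 4) F q u' v = 0 ∧
      Cfsg.hermForm (m + 4) F q u u' = 1 ∧ Cfsg.hermForm (m + 4) F q u' u = 1 := by
  have hq := one_lt_q hF
  have hfix : (-1 : F) ^ q = -1 := by rw [neg_pow_q hF, one_pow]
  obtain ⟨c0, hc0⟩ := norm_surj hF (-1 : F) hfix
  obtain ⟨e, heON, hev⟩ := exists_frame hF (m + 2) c0 hc0 v hv hv0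
  have hcard := card_trace_fiber hF (-1 : F) hfix
  have hpos : 0 < Nat.card {t : F // t + t ^ q = -1} := by
    rw [hcard]
    omega
  obtain ⟨t0⟩ := (Nat.card_pos_iff.1 hpos).1
  set i2 : Fin (m + 4) := Fin.succ (Fin.succ 0) with hi2
  set i3 : Fin (m + 4) := Fin.succ (Fin.succ (Fin.succ 0)) with hi3
  have h02 : (0 : Fin (m + 4)) ≠ i2 := (Fin.succ_ne_zero _).symm
  have h03 : (0 : Fin (m + 4)) ≠ i3 := (Fin.succ_ne_zero _).symm
  have h12 : (Fin.succ 0 : Fin (m + 4)) ≠ i2 :=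
    fun h => (Fin.succ_ne_zero _).symm (Fin.succ_injective _ h)
  have h13 : (Fin.succ 0 : Fin (m + 4)) ≠ i3 :=
    fun h => (Fin.succ_ne_zero _).symm (Fin.succ_injective _ h)
  have h23 : i2 ≠ i3 :=
    fun h => (Fin.succ_ne_zero _).symm (Fin.succ_injective _ (Fin.succ_injective _ h))
  have hvf1 : Cfsg.hermForm (m + 4) F q v (e i2) = 0 := by
    rw [← hev, herm_add_left, herm_smul_left, heON, heON, if_neg h02, if_neg h12]
    ring
  have hvf2 : Cfsg.hermForm (m + 4) F q v (e i3) = 0 := by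
    rw [← hev, herm_add_left, herm_smul_left, heON, heON, if_neg h03, if_neg h13]
    ring
  have h11 : Cfsg.hermForm (m + 4) F q (e i2) (e i2) = 1 := by rw [heON, if_pos rfl]
  have h22 : Cfsg.hermForm (m + 4) F q (e i3) (e i3) = 1 := by rw [heON, if_pos rfl]
  have h12' : Cfsg.hermForm (m + 4) F q (e i2) (e i3) = 0 := by rw [heON, if_neg h23]
  have h21' : Cfsg.hermForm (m + 4) F q (e i3) (e i2) = 0 := by rw [heON, if_neg h23.symm]
  set u : Fin (m + 4) → F := e i2 + c0 • e i3 with hu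
  have huu : Cfsg.hermForm (m + 4) F q u u = 0 := by
    rw [hu]
    simp only [herm_add_left, herm_add_right _ hF, herm_smul_left, herm_smul_right, h11, h22,
      h12', h21']
    linear_combination hc0
  have hf1u : Cfsg.hermForm (m + 4) F q (e i2) u = 1 := by
    rw [hu, herm_add_right _ hF, herm_smul_right, h11, h12']
    ring
  have hvu : Cfsg.hermForm (m + 4) F q v u = 0 := by
    rw [hu, herm_add_right _ hF, herm_smul_right, hvf1, hvf2]
    ring
  have huv : Cfsg.hermForm (m + 4) F q u v = 0 := by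
    rw [← herm_pow_q _ hF v u, hvu, zero_pow (by omega)]
  set u' : Fin (m + 4) → F := e i2 + t0.1 • u with hu'
  have hu'u' : Cfsg.hermForm (m + 4) F q u' u' = 0 := by
    rw [hu', herm_add_smul_self hF _ u (e i2) huu hf1u, t0.2, h11]
    ring
  have hu'u : Cfsg.hermForm (m + 4) F q u' u = 1 := by
    rw [hu', herm_add_left, herm_smul_left, huu, hf1u]
    ring
  have huu' : Cfsg.hermForm (m + 4) F q u u' = 1 := by
    rw [← herm_pow_q _ hF u' u, hu'u, one_pow]
  have hvu' : Cfsg.hermForm (m + 4) F q v u' = 0 := by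
    rw [hu', herm_add_right _ hF, herm_smul_right, hvf1, hvu]
    ring
  have hu'v : Cfsg.hermForm (m + 4) F q u' v = 0 := by
    rw [← herm_pow_q _ hF v u', hvu', zero_pow (by omega)]
  exact ⟨u, u', huu, hu'u', hvu, huv, hvu', hu'v, huu', hu'u⟩

end

theorem result {F : Type*} [Field F] [Fintype F] {q : ℕ} (hF : Fintype.card F = q ^ 2) (n : ℕ) (hn : 4 ≤ n ∨ (n = 3 ∧ 3 ≤ q)) (A : ↥(Cfsg.SU n F q)) (v : Fin n → F) (c : F) (hv0 : Cfsg.hermForm n F q v v = 0) (hA : ((A : Matrix.SpecialLinearGroup (Fin n) F) : Matrix (Fin n) (Fin n) F) = Cfsg.unitaryTransvection n q v c) : A ∈ commutatorSet ↥(Cfsg.SU n F q) := by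
  classical
  have hq := one_lt_q hF
  have hA' : (A.1.1 : Matrix (Fin n) (Fin n) F) = Cfsg.unitaryTransvection n q v c := hA
  by_cases htriv : v = 0 ∨ c = 0
  · have hA1 : A = 1 := by
      apply Subtype.ext
      apply Subtype.ext
      rw [hA']
      unfold Cfsg.unitaryTransvection
      rcases htriv with h | h
      · rw [h]
        simp
      · rw [h, zero_smul, add_zero]
        rfl
    rw [hA1]
    exact ⟨1, 1, by simp⟩
  · have hv : v ≠ 0 := fun h => htriv (Or.inl h)
    have hc : c ≠ 0 := fun h => htriv (Or.inr h)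
    have hcq : c ^ q = -c := by
      have h := (Cfsg.Agent.S0779.result hF n v hv hv0 c).1 (by
        intro x y
        rw [← hA']
        exact su_pres n A x y)
      rcases h with h | h
      · exact absurd h hc
      · have h2 : c ^ q = c ^ (q - 1) * c := by
          rw [← pow_succ]
          congr 1
          omega
        rw [h2, h]
        ring
    have hAx : ∀ x, (A.1.1 : Matrix (Fin n) (Fin n) F) *ᵥ x
        = x + (c * Cfsg.hermForm n F q x v) • v := by
      intro x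
      rw [hA']
      exact transvection_mulVec n v x c
    rcases hn with h4 | ⟨h3, hq3⟩
    · obtain ⟨m, rfl⟩ : ∃ m, n = m + 4 := ⟨n - 4, by omega⟩
      obtain ⟨u, u', huu, hu'u', hvu, huv, hvu', hu'v, huu', hu'u⟩ := exists_hyp hF m v hv hv0
      obtain ⟨γ, hγ⟩ := trace_param hF c hcq
      let g : ↥(Cfsg.SU (m + 4) F q) := suOfPres _ (Sg (m + 4) q v u' 1)
        (Sg_pres hF _ v u' hv0 hu'u' hvu' hu'v 1) (Sg_det hF (m + 3) v u' hv0 hu'u' hvu' hu'v 1)
      let s : ↥(Cfsg.SU (m + 4) F q) := suOfPres _ (Sg (m + 4) q v u γ)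
        (Sg_pres hF _ v u hv0 huu hvu huv γ) (Sg_det hF (m + 3) v u hv0 huu hvu huv γ)
      have hcomm : g * s = A * (s * g) := by
        apply Subtype.ext
        apply Subtype.ext
        rw [su_mul_val, su_mul_val, su_mul_val]
        apply Matrix.mulVec_injective
        funext x
        rw [← Matrix.mulVec_mulVec, ← Matrix.mulVec_mulVec, ← Matrix.mulVec_mulVec, hA']
        exact siegel_comm _ v u u' hv0 huu hu'u' hvu huv hvu' hu'v huu' hu'u γ c hγ x
      refine ⟨g, s, ?_⟩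
      rw [commutatorElement_def, hcomm]
      group
    · subst h3
      have hex : ∃ c' : F, c' + c' ^ q = 0 ∧ c' ≠ 0 ∧ c' + c ≠ 0 := by
        by_contra hcon
        have hsub : {t : F | t + t ^ q = 0} ⊆ {0, -c} := by
          intro t ht
          by_contra hnot
          apply hcon
          refine ⟨t, ht, ?_, ?_⟩
          · intro h
            apply hnot
            rw [h]
            exact Set.mem_insert _ _
          · intro h
            apply hnot
            have h2 : t = -c := by linear_combination h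
            rw [h2]
            exact Set.mem_insert_of_mem _ rfl
        have h1 : Nat.card {t : F // t + t ^ q = 0} = q :=
          card_trace_fiber hF 0 (zero_pow (by omega))
        have h1' : Set.ncard {t : F | t + t ^ q = 0} = q := by
          rw [← _root_.Nat.card_coe_set_eq]
          exact h1
        have h2 : Set.ncard {t : F | t + t ^ q = 0} ≤ Set.ncard ({0, -c} : Set F) :=
          Set.ncard_le_ncard hsub (Set.toFinite _)
        have h3 : Set.ncard ({0, -c} : Set F) ≤ 2 := by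
          have := Set.ncard_insert_le (0 : F) ({-c} : Set F)
          rw [Set.ncard_singleton] at this
          exact this
        omega
      obtain ⟨c', hc'tr, hc'0, hc'c⟩ := hex
      have hc'q : c' ^ q = -c' := by linear_combination hc'tr
      obtain ⟨s2, hs2⟩ := exists_ut hF 2 v hv0 c' hc'q
      have hs1 : ∀ x, ((A * s2).1.1 : Matrix (Fin 3) (Fin 3) F) *ᵥ x
          = x + ((c' + c) * Cfsg.hermForm 3 F q x v) • v := by
        intro x
        rw [su_mul_val, ← Matrix.mulVec_mulVec, hs2, hAx]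
        simp only [herm_add_left, herm_smul_left, hv0, mul_zero, add_zero]
        module
      have htr2 : (c' + c) + (c' + c) ^ q = 0 := by
        rw [add_pow_q hF, hc'q, hcq]
        ring
      have hconj : IsConj s2 (A * s2) :=
        conj_of_struct hF 0 s2 (A * s2) v c' hv hv0 hc'0 hc'tr hs2 v (c' + c) hv hv0 hc'c htr2 hs1
      rw [isConj_iff] at hconj
      obtain ⟨g, hg⟩ := hconj
      refine ⟨g, s2, ?_⟩
      rw [commutatorElement_def, hg]
      group

end Cfsg.Agent.S0781
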