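import Mathlib
import Cfsg.Statements.S0783
import Cfsg.Agent.Lib.Helper2.HermCenter
import Cfsg.Agent.Lib.Helper2.HermField

set_option autoImplicit false
open Cfsg

namespace Cfsg.Agent.S0783

open Cfsg.Agent.Lib.Helper2.Herm Cfsg.Agent.S0779 Matrix

section
variable {F : Type*} [Field F] [Fintype F] {q : ℕ}

theorem center_offdiag' (hF : Fintype.card F = q ^ 2) (n : ℕ) (Zm : Matrix (Fin n) (Fin n) F)
    (hZ : ∀ B : ↥(Cfsg.SU n F q), (B.1.1 : Matrix (Fin n) (Fin n) F) * Zm = Zm * B.1.1)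
    (i j : Fin n) (hij : i ≠ j) : Zm i j = 0 := by
  classical
  obtain ⟨μ, hμ1, hμ2⟩ := exists_norm_one_sq_ne hF
  have hμ0 : μ ≠ 0 := by
    rintro rfl
    rw [zero_mul] at hμ1
    exact zero_ne_one hμ1
  set d : Fin n → F := Function.update (Function.update (fun _ => (1 : F)) i μ) j μ⁻¹ with hd
  have hdj : d j = μ⁻¹ := by rw [hd, Function.update_self]
  have hdi : d i = μ := by
    rw [hd, Function.update_of_ne hij, Function.update_self]
  have hdn : ∀ k, d k * d k ^ q = 1 := by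
    intro k
    by_cases hkj : k = j
    · rw [hkj, hdj, inv_pow, ← mul_inv, hμ1, inv_one]
    · by_cases hki : k = i
      · rw [hki, hdi]; exact hμ1
      · rw [hd, Function.update_of_ne hkj, Function.update_of_ne hki, one_pow, mul_one]
  have hdet : ∏ k, d k = 1 := by
    rw [hd, Finset.prod_update_of_mem (Finset.mem_univ j)]
    have hi : i ∈ Finset.univ \ {j} := by
      rw [Finset.mem_sdiff, Finset.mem_singleton]
      exact ⟨Finset.mem_univ _, hij⟩
    rw [Finset.prod_update_of_mem hi, Finset.prod_const_one, mul_one, inv_mul_cancel₀ hμ0]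
  have h := hZ (suDiag hF n d hdn hdet)
  have h2 := congrFun (congrFun h i) j
  have h3 : ((suDiag hF n d hdn hdet).1.1 : Matrix (Fin n) (Fin n) F) = Matrix.diagonal d := rfl
  rw [h3, Matrix.diagonal_mul, Matrix.mul_diagonal, hdi, hdj] at h2
  have h4 : (μ - μ⁻¹) * Zm i j = 0 := by
    rw [sub_mul, h2]; ring
  rcases mul_eq_zero.1 h4 with h5 | h5
  · exfalso
    apply hμ2
    have h6 : μ = μ⁻¹ := sub_eq_zero.1 h5
    calc μ * μ = μ * μ⁻¹ := by rw [← h6]
      _ = 1 := mul_inv_cancel₀ hμ0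
  · exact h5

theorem center_diag_eq' (hF : Fintype.card F = q ^ 2) (n : ℕ) (Zm : Matrix (Fin n) (Fin n) F)
    (hZ : ∀ B : ↥(Cfsg.SU n F q), (B.1.1 : Matrix (Fin n) (Fin n) F) * Zm = Zm * B.1.1)
    (i j : Fin n) (hij : i ≠ j) :
    Zm i i = Zm j j := by
  classical
  obtain ⟨B, hB⟩ := exists_su_entry hF n i j hij
  have h := congrFun (congrFun (hZ B) i) j
  rw [Matrix.mul_apply, Matrix.mul_apply, Finset.sum_eq_single j, Finset.sum_eq_single i, hB,
    one_mul, mul_one] at h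
  · exact h.symm
  · intro k _ hk
    rw [center_offdiag' hF n Zm hZ i k hk.symm, zero_mul]
  · intro h'
    exact absurd (Finset.mem_univ i) h'
  · intro k _ hk
    rw [center_offdiag' hF n Zm hZ k j hk, mul_zero]
  · intro h'
    exact absurd (Finset.mem_univ j) h'

theorem center_scalar' (hF : Fintype.card F = q ^ 2) (n : ℕ) (Zm : Matrix (Fin n) (Fin n) F)
    (hZ : ∀ B : ↥(Cfsg.SU n F q), (B.1.1 : Matrix (Fin n) (Fin n) F) * Zm = Zm * B.1.1)
    (i0 : Fin n) :
    Zm =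
      Matrix.diagonal (fun _ => Zm i0 i0) := by
  ext a b
  by_cases hab : a = b
  · rw [hab, Matrix.diagonal_apply_eq]
    by_cases hb : b = i0
    · rw [hb]
    · exact center_diag_eq' hF n Zm hZ b i0 hb
  · rw [Matrix.diagonal_apply_ne _ hab]
    exact center_offdiag' hF n Zm hZ a b hab

end

theorem result {F : Type*} [Field F] [Fintype F] {q : ℕ} (hF : Fintype.card F = q ^ 2) (n : ℕ) (hn : 2 ≤ n) : ∃ φ : ↥(Cfsg.GU n F q) →* Multiplicative (ZMod (Nat.gcd n (q + 1))), Function.Surjective φ ∧ φ.ker = (Matrix.GeneralLinearGroup.det : Matrix.GeneralLinearGroup (Fin n) F →* Fˣ).ker.subgroupOf (Cfsg.GU n F q) ⊔ Subgroup.center ↥(Cfsg.GU n F q) := by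
  classical
  have hn1 : 1 ≤ n := by omega
  have hq1 : 1 < q := one_lt_q hF
  obtain ⟨D, hDdef⟩ : ∃ D : ↥(Cfsg.GU n F q) →* Fˣ, D = detGU n F q := ⟨_, rfl⟩
  have hDval : ∀ A : ↥(Cfsg.GU n F q), ((D A : Fˣ) : F) = (A.1 : Matrix (Fin n) (Fin n) F).det := by
    intro A; rw [hDdef]; rfl
  have hRcard : Nat.card D.range = q + 1 := by rw [hDdef]; exact card_range_detGU hF n hn1
  obtain ⟨P, hPdef⟩ : ∃ P : Subgroup D.range, P = (powMonoidHom n : D.range →* D.range).range := ⟨_, rfl⟩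
  have hPmem : ∀ x : D.range, x ∈ P ↔ ∃ ρ : D.range, ρ ^ n = x := by
    intro x
    rw [hPdef, MonoidHom.mem_range]
    rfl
  haveI : IsCyclic D.range := inferInstance
  have hPcard : Nat.card P = (q + 1) / Nat.gcd (q + 1) n := by
    rw [hPdef, IsCyclic.card_powMonoidHom_range, hRcard]
  have hQcard : Nat.card (D.range ⧸ P) = Nat.gcd n (q + 1) := by
    have h1 := Subgroup.card_eq_card_quotient_mul_card_subgroup P
    rw [hRcard, hPcard] at h1
    obtain ⟨k, hk⟩ := Nat.gcd_dvd_left (q + 1) n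
    have hgpos : 0 < Nat.gcd (q + 1) n := Nat.gcd_pos_of_pos_left _ (by omega)
    have h2 : (q + 1) / Nat.gcd (q + 1) n = k := Nat.div_eq_of_eq_mul_right hgpos hk
    rw [h2] at h1
    have hkpos : 0 < k := by
      rcases Nat.eq_zero_or_pos k with h0 | h0
      · rw [h0, mul_zero] at hk; omega
      · exact h0
    have h3 : Nat.gcd (q + 1) n * k = Nat.card (D.range ⧸ P) * k := by rw [← hk, ← h1]
    rw [Nat.gcd_comm]
    exact (Nat.eq_of_mul_eq_mul_right hkpos h3).symm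
  haveI : IsCyclic (D.range ⧸ P) :=
    isCyclic_of_surjective (QuotientGroup.mk' P) (QuotientGroup.mk'_surjective P)
  let ε : (D.range ⧸ P) ≃* Multiplicative (ZMod (Nat.gcd n (q + 1))) :=
    (zmodCyclicMulEquiv (inferInstance : IsCyclic (D.range ⧸ P))).symm.trans
      (AddEquiv.toMultiplicative (ZMod.ringEquivCongr hQcard).toAddEquiv)
  let φ₀ : ↥(Cfsg.GU n F q) →* D.range ⧸ P := (QuotientGroup.mk' P).comp D.rangeRestrict
  have hφ₀surj : Function.Surjective φ₀ :=
    (QuotientGroup.mk'_surjective P).comp D.rangeRestrict_surjective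
  have hφ₀ker : ∀ g : ↥(Cfsg.GU n F q), φ₀ g = 1 ↔ ∃ ρ : D.range, ρ ^ n = D.rangeRestrict g := by
    intro g
    show ((D.rangeRestrict g : D.range) : D.range ⧸ P) = 1 ↔ _
    rw [QuotientGroup.eq_one_iff, hPmem]
  -- scalars in GU
  have hscalar : ∀ l : F, l * l ^ q = 1 → ∃ z : ↥(Cfsg.GU n F q),
      (z.1 : Matrix (Fin n) (Fin n) F) = Matrix.diagonal (fun _ => l) ∧
        z ∈ Subgroup.center ↥(Cfsg.GU n F q) := by
    intro l hl
    refine ⟨guOfON hF n (Matrix.diagonal fun _ => l) (diag_ON hF n _ (fun _ => hl)), rfl, ?_⟩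
    rw [Subgroup.mem_center_iff]
    intro g
    apply Subtype.ext
    apply Units.ext
    show (g.1 : Matrix (Fin n) (Fin n) F) * Matrix.diagonal (fun _ => l) =
      Matrix.diagonal (fun _ => l) * (g.1 : Matrix (Fin n) (Fin n) F)
    ext i j
    rw [Matrix.mul_diagonal, Matrix.diagonal_mul, mul_comm]
  -- norm-one elements are determinants
  have hdetsurj : ∀ l : F, l * l ^ q = 1 → ∃ ρ : D.range, ((ρ : Fˣ) : F) = l := by
    intro l hl
    have hd : ∀ i, (Function.update (fun _ : Fin n => (1 : F)) ⟨0, hn1⟩ l) i *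
        (Function.update (fun _ : Fin n => (1 : F)) ⟨0, hn1⟩ l) i ^ q = 1 := by
      intro i
      by_cases hi : i = ⟨0, hn1⟩
      · rw [hi, Function.update_self]
        exact hl
      · rw [Function.update_of_ne hi, one_pow, mul_one]
    refine ⟨⟨D (guOfON hF n _ (diag_ON hF n _ hd)), ⟨_, rfl⟩⟩, ?_⟩
    show ((D (guOfON hF n _ (diag_ON hF n _ hd)) : Fˣ) : F) = l
    rw [hDval, guOfON_val, Matrix.det_diagonal,
      Finset.prod_update_of_mem (Finset.mem_univ _), Finset.prod_const_one, mul_one]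
  have hnormR : ∀ ρ : D.range, ((ρ : Fˣ) : F) * ((ρ : Fˣ) : F) ^ q = 1 := by
    rintro ⟨_, A, rfl⟩
    show ((D A : Fˣ) : F) * ((D A : Fˣ) : F) ^ q = 1
    rw [hDval]
    exact det_norm hF n _ (ON_of_preserves hF n _ A.2)
  refine ⟨ε.toMonoidHom.comp φ₀, ε.surjective.comp hφ₀surj, ?_⟩
  have hker : ∀ g, g ∈ (ε.toMonoidHom.comp φ₀).ker ↔ φ₀ g = 1 := by
    intro g
    rw [MonoidHom.mem_ker]
    show ε (φ₀ g) = 1 ↔ _
    exact ε.map_eq_one_iff
  apply le_antisymm
  · intro g hg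
    rw [hker, hφ₀ker] at hg
    obtain ⟨ρ, hρ⟩ := hg
    obtain ⟨z, hz, hzc⟩ := hscalar _ (hnormR ρ)
    have hρ' : ((ρ : Fˣ) : F) ^ n = (g.1 : Matrix (Fin n) (Fin n) F).det := by
      have h1 := congrArg (fun x : D.range => ((x : Fˣ) : F)) hρ
      have h2 : (((ρ ^ n : D.range) : Fˣ) : F) = ((ρ : Fˣ) : F) ^ n := by
        rw [Subgroup.coe_pow, Units.val_pow_eq_pow_val]
      have h3 : (((D.rangeRestrict g : D.range) : Fˣ) : F) = ((D g : Fˣ) : F) := rfl
      rw [← hDval, ← h3, ← h2]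
      exact h1
    have hdetz : (z.1 : Matrix (Fin n) (Fin n) F).det = ((ρ : Fˣ) : F) ^ n := by
      rw [hz, Matrix.det_diagonal, Finset.prod_const, Finset.card_univ, Fintype.card_fin]
    have hmem : g * z⁻¹ ∈ (Matrix.GeneralLinearGroup.det :
        Matrix.GeneralLinearGroup (Fin n) F →* Fˣ).ker.subgroupOf (Cfsg.GU n F q) := by
      rw [Subgroup.mem_subgroupOf, MonoidHom.mem_ker]
      apply Units.ext
      show ((Matrix.GeneralLinearGroup.det ((g * z⁻¹ : ↥(Cfsg.GU n F q)) : GL (Fin n) F) : Fˣ) : F) = 1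
      have h2 : ((g * z⁻¹ : ↥(Cfsg.GU n F q)) : GL (Fin n) F) = (g : GL (Fin n) F) * (z : GL (Fin n) F)⁻¹ := rfl
      rw [h2, map_mul, map_inv, Units.val_mul, Units.val_inv_eq_inv_val]
      show (g.1 : Matrix (Fin n) (Fin n) F).det * ((z.1 : Matrix (Fin n) (Fin n) F).det)⁻¹ = 1
      rw [hdetz, ← hρ']
      have hρ0 : ((ρ : Fˣ) : F) ^ n ≠ 0 := pow_ne_zero _ (ρ : Fˣ).ne_zero
      exact mul_inv_cancel₀ hρ0
    have h3 : g = (g * z⁻¹) * z := by group
    rw [h3]
    exact Subgroup.mul_mem _ (Subgroup.mem_sup_left hmem) (Subgroup.mem_sup_right hzc)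
  · apply sup_le
    · intro g hg
      rw [Subgroup.mem_subgroupOf, MonoidHom.mem_ker] at hg
      rw [hker, hφ₀ker]
      refine ⟨1, ?_⟩
      rw [one_pow]
      apply Subtype.ext
      show (1 : Fˣ) = D g
      rw [hDdef]
      exact hg.symm
    · intro z hz
      rw [hker, hφ₀ker]
      have hcomm : ∀ B : ↥(Cfsg.SU n F q), (B.1.1 : Matrix (Fin n) (Fin n) F) *
          (z.1 : Matrix (Fin n) (Fin n) F) = (z.1 : Matrix (Fin n) (Fin n) F) * B.1.1 := by
        intro B
        have h1 := Subgroup.mem_center_iff.1 hz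
          (⟨Matrix.SpecialLinearGroup.toGL B.1, B.2⟩ : ↥(Cfsg.GU n F q))
        have h2 := congrArg (fun X : ↥(Cfsg.GU n F q) => (X.1 : Matrix (Fin n) (Fin n) F)) h1
        exact h2
      have hsc := center_scalar' hF n _ hcomm ⟨0, hn1⟩
      obtain ⟨l, hldef⟩ : ∃ l : F, l = (z.1 : Matrix (Fin n) (Fin n) F) ⟨0, hn1⟩ ⟨0, hn1⟩ := ⟨_, rfl⟩
      rw [← hldef] at hsc
      have hlnorm : l * l ^ q = 1 := by
        have hON0 : IsON n q (fun i k => (z.1 : Matrix (Fin n) (Fin n) F) k i) :=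
          ON_of_preserves hF n _ z.2
        have hON : ∑ k, (z.1 : Matrix (Fin n) (Fin n) F) k ⟨0, hn1⟩ *
            (z.1 : Matrix (Fin n) (Fin n) F) k ⟨0, hn1⟩ ^ q = 1 := by
          have := hON0 ⟨0, hn1⟩ ⟨0, hn1⟩
          rw [if_pos rfl] at this
          exact this
        rw [Finset.sum_eq_single ⟨0, hn1⟩] at hON
        · rw [← hldef] at hON
          exact hON
        · intro k _ hk
          have : (z.1 : Matrix (Fin n) (Fin n) F) k ⟨0, hn1⟩ = 0 := by
            rw [hsc, Matrix.diagonal_apply_ne _ hk]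
          rw [this, zero_mul]
        · intro h
          exact absurd (Finset.mem_univ _) h
      obtain ⟨ρ, hρ⟩ := hdetsurj l hlnorm
      refine ⟨ρ, ?_⟩
      apply Subtype.ext
      apply Units.ext
      show (((ρ ^ n : D.range) : Fˣ) : F) = ((D z : Fˣ) : F)
      rw [hDval, hsc, Matrix.det_diagonal, Finset.prod_const, Finset.card_univ, Fintype.card_fin,
        ← hρ]
      simp

end Cfsg.Agent.S0783
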