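import Cfsg.Statements.S0784
import Cfsg.Agent.Lib.Helper2.Quad

set_option autoImplicit false
set_option linter.style.haveILetI false
open Cfsg

namespace Cfsg.Agent.S0784

open Cfsg.Agent.Lib.Helper2 Matrix

theorem reflection_mulVec {F : Type*} [Field F] {n : ℕ} (Q : QuadraticForm F (Fin n → F))
    (v x : Fin n → F) :
    (Cfsg.reflectionMatrix (⇑Q) v).mulVec x
      = x + (-(Q v)⁻¹ * QuadraticMap.polar (⇑Q) v x) • v := by
  unfold Cfsg.reflectionMatrix
  rw [Matrix.sub_mulVec, Matrix.one_mulVec, Matrix.smul_mulVec, Matrix.vecMulVec_mulVec,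
    polarVec_dot]
  ext i
  simp only [Pi.sub_apply, Pi.smul_apply, Pi.add_apply, MulOpposite.smul_eq_mul_unop,
    MulOpposite.unop_op, smul_eq_mul]
  ring

/-- Reflections: if Q(v) ≠ 0 then the matrix R = 1 − Q(v)⁻¹ · v f(v, ·)ᵀ preserves Q, maps v to −v, fixes each x with f(v, x) = 0, and has determinant −1 (in characteristic two, −1 = 1 and R is the orthogonal transvection of v). -/
theorem result {F : Type*} [Field F] {n : ℕ} (Q : QuadraticForm F (Fin n → F)) (v : Fin n → F) (hv : Q v ≠ 0) : (∀ x, Q ((Cfsg.reflectionMatrix ⇑Q v).mulVec x) = Q x) ∧ (Cfsg.reflectionMatrix ⇑Q v).mulVec v = -v ∧ (∀ x, QuadraticMap.polar ⇑Q v x = 0 → (Cfsg.reflectionMatrix ⇑Q v).mulVec x = x) ∧ (Cfsg.reflectionMatrix ⇑Q v).det = -1 := by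
  refine ⟨?_, ?_, ?_, ?_⟩
  · intro x
    rw [reflection_mulVec, quad_add_smul, QuadraticMap.polar_comm (⇑Q) x v]
    field_simp
    ring
  · rw [reflection_mulVec, QuadraticMap.polar_self, two_smul]
    have : -(Q v)⁻¹ * (Q v + Q v) = -2 := by
      field_simp
      ring
    rw [this]
    ext i
    simp only [Pi.add_apply, Pi.smul_apply, Pi.neg_apply, smul_eq_mul]
    ring
  · intro x hx
    rw [reflection_mulVec, hx, mul_zero, zero_smul, add_zero]
  · have h1 : Cfsg.reflectionMatrix (⇑Q) v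
        = 1 + (-(Q v)⁻¹) • Matrix.vecMulVec v (Cfsg.polarVec (⇑Q) v) := by
      unfold Cfsg.reflectionMatrix
      rw [neg_smul, sub_eq_add_neg]
    rw [h1, det_one_add_smul_vecMulVec, polarVec_dot, QuadraticMap.polar_self, two_smul]
    field_simp
    ring

end Cfsg.Agent.S0784
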