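import Cfsg.Statements.S0785
import Cfsg.Agent.S0784

set_option autoImplicit false
set_option linter.style.haveILetI false
open Cfsg

namespace Cfsg.Agent.S0785

open Matrix LinearMap

theorem det_sq_eq_one {F : Type*} [Field F] {n : ℕ} (Q : QuadraticForm F (Fin n → F))
    (hQ : (QuadraticMap.polarBilin Q).Nondegenerate) (G : Matrix (Fin n) (Fin n) F)
    (hG : ∀ u, Q (G *ᵥ u) = Q u) : G.det * G.det = 1 := by
  set B : LinearMap.BilinForm F (Fin n → F) := QuadraticMap.polarBilin Q with hB
  have hcomp : B.comp (Matrix.toLin' G) (Matrix.toLin' G) = B := by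
    refine LinearMap.ext (fun x => LinearMap.ext (fun y => ?_))
    rw [LinearMap.BilinForm.comp_apply]
    change QuadraticMap.polar (⇑Q) (Matrix.toLin' G x) (Matrix.toLin' G y)
      = QuadraticMap.polar (⇑Q) x y
    unfold QuadraticMap.polar
    rw [Matrix.toLin'_apply, Matrix.toLin'_apply, ← Matrix.mulVec_add, hG, hG, hG]
  have h1 := LinearMap.BilinForm.toMatrix'_comp B (Matrix.toLin' G) (Matrix.toLin' G)
  rw [hcomp, LinearMap.toMatrix'_toLin'] at h1
  have h2 := congrArg Matrix.det h1
  rw [Matrix.det_mul, Matrix.det_mul, Matrix.det_transpose] at h2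
  have hM : (LinearMap.BilinForm.toMatrix' B).det ≠ 0 := by
    rw [← Matrix.nondegenerate_iff_det_ne_zero]
    exact LinearMap.BilinForm.Nondegenerate.toMatrix' hQ
  have h3 : (G.det * G.det - 1) * (LinearMap.BilinForm.toMatrix' B).det = 0 := by
    linear_combination (-1 : F) * h2
  have h4 := (mul_eq_zero.1 h3).resolve_right hM
  exact sub_eq_zero.1 h4

/-- det(I) = {±1}: for a quadratic form on F^n whose polar form is non-degenerate, every element of the isometry group has determinant 1 or −1, and as soon as Q takes a non-zero value some isometry has determinant −1. -/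
theorem result {F : Type*} [Field F] {n : ℕ} (Q : QuadraticForm F (Fin n → F)) (hQ : (QuadraticMap.polarBilin Q).Nondegenerate) : (∀ g : ↥(Cfsg.isometryGroup F ⇑Q), ((g : Matrix.GeneralLinearGroup (Fin n) F) : Matrix (Fin n) (Fin n) F).det = 1 ∨ ((g : Matrix.GeneralLinearGroup (Fin n) F) : Matrix (Fin n) (Fin n) F).det = -1) ∧ ((∃ v, Q v ≠ 0) → ∃ g : ↥(Cfsg.isometryGroup F ⇑Q), ((g : Matrix.GeneralLinearGroup (Fin n) F) : Matrix (Fin n) (Fin n) F).det = -1) := by
  constructor
  · intro g
    have hg : ∀ u, Q (((g : Matrix.GeneralLinearGroup (Fin n) F) : Matrix (Fin n) (Fin n) F) *ᵥ u)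
        = Q u := fun u => g.2 u u
    have h := det_sq_eq_one Q hQ _ hg
    exact mul_self_eq_one_iff.1 h
  · rintro ⟨v, hv⟩
    obtain ⟨h1, -, -, h4⟩ := Cfsg.Agent.S0784.result Q v hv
    have hdet : IsUnit (Cfsg.reflectionMatrix (⇑Q) v).det := by
      rw [h4]; exact isUnit_one.neg
    let g : Matrix.GeneralLinearGroup (Fin n) F :=
      Matrix.GeneralLinearGroup.mk'' (Cfsg.reflectionMatrix (⇑Q) v) hdet
    have hg : g ∈ Cfsg.isometryGroup F (⇑Q) := by
      intro u _
      exact h1 u
    exact ⟨⟨g, hg⟩, h4⟩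

end Cfsg.Agent.S0785
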