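import Mathlib
import Cfsg.Statements.S0792
import Cfsg.Agent.S0784

set_option autoImplicit false
open Cfsg

namespace Cfsg.Agent.S0792

open Cfsg.Agent.Lib.Helper2 Matrix Cfsg.Agent.S0784

section
variable {F : Type*} [Field F] {n : ℕ} (Q : QuadraticForm F (Fin n → F))

theorem refl_sq (d : Fin n → F) (hd : Q d ≠ 0) :
    Cfsg.reflectionMatrix (⇑Q) d * Cfsg.reflectionMatrix (⇑Q) d = 1 := by
  apply Matrix.mulVec_injective
  funext x
  rw [← Matrix.mulVec_mulVec, Matrix.one_mulVec, reflection_mulVec, reflection_mulVec,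
    QuadraticMap.polar_add_right, QuadraticMap.polar_smul_right, QuadraticMap.polar_self,
    add_assoc, ← add_smul]
  have : -(Q d)⁻¹ * QuadraticMap.polar (⇑Q) d x +
      -(Q d)⁻¹ * (QuadraticMap.polar (⇑Q) d x
        + (-(Q d)⁻¹ * QuadraticMap.polar (⇑Q) d x) • (2 • Q d)) = 0 := by
    simp only [smul_eq_mul, nsmul_eq_mul]
    field_simp
    ring
  rw [this, zero_smul, add_zero]

/-- non-singular vectors -/
abbrev NS : Type _ := {w : Fin n → F // Q w ≠ 0}

/-- reflections as isometries -/
def reflG (w : NS Q) : ↥(Cfsg.isometryGroup F ⇑Q) :=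
  ⟨⟨Cfsg.reflectionMatrix (⇑Q) w.1, Cfsg.reflectionMatrix (⇑Q) w.1, refl_sq Q w.1 w.2,
    refl_sq Q w.1 w.2⟩, fun x _ => (Cfsg.Agent.S0784.result Q w.1 w.2).1 x⟩

/-- the action on vectors -/
def act (g : ↥(Cfsg.isometryGroup F ⇑Q)) (x : Fin n → F) : Fin n → F :=
  ((g : Matrix.GeneralLinearGroup (Fin n) F) : Matrix (Fin n) (Fin n) F) *ᵥ x

theorem act_mul (g h : ↥(Cfsg.isometryGroup F ⇑Q)) (x : Fin n → F) :
    act Q (g * h) x = act Q g (act Q h x) := by
  unfold act
  rw [Matrix.mulVec_mulVec]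
  rfl

theorem act_one (x : Fin n → F) : act Q 1 x = x := by
  unfold act
  exact Matrix.one_mulVec x

theorem act_add (g : ↥(Cfsg.isometryGroup F ⇑Q)) (x y : Fin n → F) :
    act Q g (x + y) = act Q g x + act Q g y := Matrix.mulVec_add _ _ _

theorem act_smul (g : ↥(Cfsg.isometryGroup F ⇑Q)) (a : F) (x : Fin n → F) :
    act Q g (a • x) = a • act Q g x := Matrix.mulVec_smul _ _ _

theorem act_neg (g : ↥(Cfsg.isometryGroup F ⇑Q)) (x : Fin n → F) :
    act Q g (-x) = -act Q g x := Matrix.mulVec_neg _ _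

theorem act_sub (g : ↥(Cfsg.isometryGroup F ⇑Q)) (x y : Fin n → F) :
    act Q g (x - y) = act Q g x - act Q g y := Matrix.mulVec_sub _ _ _

theorem Q_act (g : ↥(Cfsg.isometryGroup F ⇑Q)) (x : Fin n → F) : Q (act Q g x) = Q x :=
  g.2 x x

theorem pol_act (g : ↥(Cfsg.isometryGroup F ⇑Q)) (x y : Fin n → F) :
    QuadraticMap.polar (⇑Q) (act Q g x) (act Q g y) = QuadraticMap.polar (⇑Q) x y := by
  unfold QuadraticMap.polar
  rw [← act_add, Q_act, Q_act, Q_act]

theorem act_reflG (w : NS Q) (x : Fin n → F) :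
    act Q (reflG Q w) x = x + (-(Q w.1)⁻¹ * QuadraticMap.polar (⇑Q) w.1 x) • w.1 :=
  reflection_mulVec Q w.1 x

theorem act_ext (g h : ↥(Cfsg.isometryGroup F ⇑Q)) (hgh : ∀ x, act Q g x = act Q h x) : g = h := by
  apply Subtype.ext
  apply Units.ext
  apply Matrix.mulVec_injective
  funext x
  exact hgh x

theorem reflG_mul_self (w : NS Q) : reflG Q w * reflG Q w = 1 := by
  apply Subtype.ext
  apply Units.ext
  exact refl_sq Q w.1 w.2

/-- nondegenerate subspace -/
def WNondeg (W : Submodule F (Fin n → F)) : Prop :=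
  ∀ w ∈ W, (∀ w2 ∈ W, QuadraticMap.polar (⇑Q) w w2 = 0) → w = 0

/-- the part of `W` orthogonal to `v` -/
def perpW (W : Submodule F (Fin n → F)) (v : Fin n → F) : Submodule F (Fin n → F) where
  carrier := {w | w ∈ W ∧ QuadraticMap.polar (⇑Q) w v = 0}
  add_mem' := by
    intro a b ha hb
    refine ⟨W.add_mem ha.1 hb.1, ?_⟩
    rw [QuadraticMap.polar_add_left, ha.2, hb.2, add_zero]
  zero_mem' := ⟨W.zero_mem, QuadraticMap.polar_zero_left _ _⟩
  smul_mem' := by
    intro c a ha
    refine ⟨W.smul_mem c ha.1, ?_⟩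
    rw [QuadraticMap.polar_smul_left, ha.2, smul_zero]

theorem mem_perpW {W : Submodule F (Fin n → F)} {v w : Fin n → F} :
    w ∈ perpW Q W v ↔ w ∈ W ∧ QuadraticMap.polar (⇑Q) w v = 0 := Iff.rfl

theorem exists_ns (W : Submodule F (Fin n → F)) (hW : WNondeg Q W) (hne : W ≠ ⊥) :
    ∃ v ∈ W, Q v ≠ 0 := by
  by_contra hcon
  have hall : ∀ w ∈ W, Q w = 0 := fun w hw => by
    by_contra h
    exact hcon ⟨w, hw, h⟩
  obtain ⟨w, hwW, hw0⟩ := Submodule.exists_mem_ne_zero_of_ne_bot hne
  apply hw0
  apply hW w hwW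
  intro w2 hw2
  unfold QuadraticMap.polar
  rw [hall _ (W.add_mem hwW hw2), hall w hwW, hall w2 hw2, sub_zero, sub_zero]

theorem pol_self_ne (h2 : (2 : F) ≠ 0) (v : Fin n → F) (hv : Q v ≠ 0) :
    QuadraticMap.polar (⇑Q) v v ≠ 0 := by
  rw [QuadraticMap.polar_self, two_smul, ← two_mul]
  exact mul_ne_zero h2 hv

theorem sub_mem_perpW (h2 : (2 : F) ≠ 0) (W : Submodule F (Fin n → F)) (v : Fin n → F)
    (hvW : v ∈ W) (hv : Q v ≠ 0) (w : Fin n → F) (hw : w ∈ W) :
    w - (QuadraticMap.polar (⇑Q) w v * (QuadraticMap.polar (⇑Q) v v)⁻¹) • v ∈ perpW Q W v := by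
  refine ⟨W.sub_mem hw (W.smul_mem _ hvW), ?_⟩
  rw [QuadraticMap.polar_sub_left, QuadraticMap.polar_smul_left, smul_eq_mul, mul_assoc,
    inv_mul_cancel₀ (pol_self_ne Q h2 v hv), mul_one, sub_self]

theorem perpW_nondeg (h2 : (2 : F) ≠ 0) (W : Submodule F (Fin n → F)) (hW : WNondeg Q W)
    (v : Fin n → F) (hvW : v ∈ W) (hv : Q v ≠ 0) : WNondeg Q (perpW Q W v) := by
  intro w hw hall
  apply hW w hw.1
  intro w2 hw2
  have h1 := hall _ (sub_mem_perpW Q h2 W v hvW hv w2 hw2)
  rw [QuadraticMap.polar_sub_right, QuadraticMap.polar_smul_right, hw.2, smul_zero, sub_zero] at h1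
  exact h1

theorem refl_pres_W (W : Submodule F (Fin n → F)) (d : NS Q) (hd : d.1 ∈ W) (y : Fin n → F)
    (hy : y ∈ W) : act Q (reflG Q d) y ∈ W := by
  rw [act_reflG]
  exact W.add_mem hy (W.smul_mem _ hd)

theorem refl_fix (W : Submodule F (Fin n → F)) (d : NS Q) (hd : d.1 ∈ W) (x : Fin n → F)
    (hx : ∀ w ∈ W, QuadraticMap.polar (⇑Q) x w = 0) : act Q (reflG Q d) x = x := by
  rw [act_reflG, QuadraticMap.polar_comm, hx _ hd, mul_zero, zero_smul, add_zero]

theorem Q_dt (g : ↥(Cfsg.isometryGroup F ⇑Q)) (v : Fin n → F) (t : F) (ht : t * t = 1) :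
    Q (act Q g v + t • v) = Q v + Q v + t * QuadraticMap.polar (⇑Q) (act Q g v) v := by
  rw [quad_add_smul, Q_act, ht]
  ring

theorem refl_dt (g : ↥(Cfsg.isometryGroup F ⇑Q)) (v : Fin n → F) (t : F) (ht : t * t = 1)
    (hQ : Q (act Q g v + t • v) ≠ 0) :
    act Q (reflG Q ⟨act Q g v + t • v, hQ⟩) (act Q g v) = (-t) • v := by
  rw [act_reflG]
  have h1 : QuadraticMap.polar (⇑Q) (act Q g v + t • v) (act Q g v) = Q (act Q g v + t • v) := by
    rw [Q_dt Q g v t ht, QuadraticMap.polar_add_left, QuadraticMap.polar_smul_left,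
      QuadraticMap.polar_self, Q_act, two_smul, QuadraticMap.polar_comm (⇑Q) v (act Q g v),
      smul_eq_mul]
  show act Q g v + (-(Q (act Q g v + t • v))⁻¹ *
    QuadraticMap.polar (⇑Q) (act Q g v + t • v) (act Q g v)) • (act Q g v + t • v) = (-t) • v
  rw [h1, neg_mul, inv_mul_cancel₀ hQ]
  module

theorem cd (h2 : (2 : F) ≠ 0) : ∀ (k : ℕ) (W : Submodule F (Fin n → F)),
    Module.finrank F W = k → WNondeg Q W → ∀ g : ↥(Cfsg.isometryGroup F ⇑Q),
    (∀ w ∈ W, act Q g w ∈ W) →
    (∀ x, (∀ w ∈ W, QuadraticMap.polar (⇑Q) x w = 0) → act Q g x = x) →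
    ∃ L : List (NS Q), (∀ w ∈ L, w.1 ∈ W) ∧ g = (L.map (reflG Q)).prod := by
  intro k
  induction k using Nat.strong_induction_on with
  | _ k ih =>
    intro W hk hW g hgW hgfix
    by_cases hbot : W = ⊥
    · refine ⟨[], by simp, ?_⟩
      simp only [List.map_nil, List.prod_nil]
      apply act_ext
      intro x
      rw [act_one]
      apply hgfix
      intro w hw
      rw [hbot, Submodule.mem_bot] at hw
      rw [hw]
      exact QuadraticMap.polar_zero_right _ _
    · obtain ⟨v, hvW, hQv⟩ := exists_ns Q W hW hbot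
      have hfvv := pol_self_ne Q h2 v hQv
      have hgvW : act Q g v ∈ W := hgW v hvW
      -- the induction step for elements fixing v
      have hIH : ∀ g' : ↥(Cfsg.isometryGroup F ⇑Q), (∀ w ∈ W, act Q g' w ∈ W) →
          (∀ x, (∀ w ∈ W, QuadraticMap.polar (⇑Q) x w = 0) → act Q g' x = x) →
          act Q g' v = v →
          ∃ L : List (NS Q), (∀ w ∈ L, w.1 ∈ W) ∧ g' = (L.map (reflG Q)).prod := by
        intro g' h1 h2' h3
        have hlt : Module.finrank F (perpW Q W v) < k := by
          rw [← hk]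
          apply Submodule.finrank_lt_finrank_of_lt
          rw [SetLike.lt_iff_le_and_exists]
          refine ⟨fun w hw => hw.1, v, hvW, ?_⟩
          intro hv'
          exact hfvv hv'.2
        have := ih _ hlt (perpW Q W v) rfl (perpW_nondeg Q h2 W hW v hvW hQv) g' ?_ ?_
        · obtain ⟨L, hL, hg'⟩ := this
          exact ⟨L, fun w hw => (hL w hw).1, hg'⟩
        · intro w hw
          refine ⟨h1 w hw.1, ?_⟩
          have := pol_act Q g' w v
          rw [h3] at this
          rw [this]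
          exact hw.2
        · intro x hx
          have hx0 : ∀ w ∈ W, QuadraticMap.polar (⇑Q)
              (x - (QuadraticMap.polar (⇑Q) x v * (QuadraticMap.polar (⇑Q) v v)⁻¹) • v) w = 0 := by
            intro w hw
            have h5 := hx _ (sub_mem_perpW Q h2 W v hvW hQv w hw)
            rw [QuadraticMap.polar_sub_right, QuadraticMap.polar_smul_right, smul_eq_mul] at h5
            rw [QuadraticMap.polar_sub_left, QuadraticMap.polar_smul_left, smul_eq_mul,
              QuadraticMap.polar_comm (⇑Q) v w]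
            linear_combination h5
          have h4 := h2' _ hx0
          rw [act_sub, act_smul, h3] at h4
          exact sub_left_injective h4
      -- Q(gv - v) + Q(gv + v) = 4 Q(v) ≠ 0
      have hm1 : (-1 : F) * (-1) = 1 := by ring
      have hp1 : (1 : F) * 1 = 1 := by ring
      have hsum : Q (act Q g v + (-1 : F) • v) + Q (act Q g v + (1 : F) • v) ≠ 0 := by
        rw [Q_dt Q g v (-1) hm1, Q_dt Q g v 1 hp1]
        have : Q v + Q v + -1 * QuadraticMap.polar (⇑Q) (act Q g v) v +
            (Q v + Q v + 1 * QuadraticMap.polar (⇑Q) (act Q g v) v) = 2 * 2 * Q v := by ring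
        rw [this]
        exact mul_ne_zero (mul_ne_zero h2 h2) hQv
      by_cases hd1 : Q (act Q g v + (-1 : F) • v) ≠ 0
      · -- one reflection suffices
        set d : NS Q := ⟨act Q g v + (-1 : F) • v, hd1⟩ with hd
        have hdW : d.1 ∈ W := W.add_mem hgvW (W.smul_mem _ hvW)
        have hfix : act Q (reflG Q d * g) v = v := by
          rw [act_mul, hd, refl_dt Q g v (-1) hm1 hd1]
          simp
        obtain ⟨L, hL, hg'⟩ := hIH (reflG Q d * g)
          (fun w hw => by rw [act_mul]; exact refl_pres_W Q W d hdW _ (hgW w hw))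
          (fun x hx => by rw [act_mul, hgfix x hx]; exact refl_fix Q W d hdW x hx) hfix
        refine ⟨d :: L, ?_, ?_⟩
        · intro w hw
          rcases List.mem_cons.1 hw with h | h
          · rw [h]; exact hdW
          · exact hL w h
        · rw [List.map_cons, List.prod_cons, ← hg', ← mul_assoc, reflG_mul_self, one_mul]
      · -- two reflections
        have hd2 : Q (act Q g v + (1 : F) • v) ≠ 0 := by
          intro h0
          apply hsum
          rw [not_not.1 hd1, h0, add_zero]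
        set d : NS Q := ⟨act Q g v + (1 : F) • v, hd2⟩ with hd
        set e : NS Q := ⟨v, hQv⟩ with he
        have hdW : d.1 ∈ W := W.add_mem hgvW (W.smul_mem _ hvW)
        have hfix : act Q (reflG Q e * (reflG Q d * g)) v = v := by
          rw [act_mul, act_mul, hd, refl_dt Q g v 1 hp1 hd2, act_smul]
          have : act Q (reflG Q e) v = -v := (Cfsg.Agent.S0784.result Q v hQv).2.1
          rw [this]
          simp
        obtain ⟨L, hL, hg'⟩ := hIH (reflG Q e * (reflG Q d * g))
          (fun w hw => by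
            rw [act_mul, act_mul]
            exact refl_pres_W Q W e hvW _ (refl_pres_W Q W d hdW _ (hgW w hw)))
          (fun x hx => by
            rw [act_mul, act_mul, hgfix x hx, refl_fix Q W d hdW x hx]
            exact refl_fix Q W e hvW x hx) hfix
        refine ⟨d :: e :: L, ?_, ?_⟩
        · intro w hw
          rcases List.mem_cons.1 hw with h | h
          · rw [h]; exact hdW
          · rcases List.mem_cons.1 h with h | h
            · rw [h]; exact hvW
            · exact hL w h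
        · rw [List.map_cons, List.map_cons, List.prod_cons, List.prod_cons, ← hg']
          rw [← mul_assoc (reflG Q e), reflG_mul_self, one_mul, ← mul_assoc, reflG_mul_self, one_mul]

theorem det_prod (L : List (NS Q)) :
    ((((L.map (reflG Q)).prod : ↥(Cfsg.isometryGroup F ⇑Q)) :
      Matrix.GeneralLinearGroup (Fin n) F) : Matrix (Fin n) (Fin n) F).det = (-1) ^ L.length := by
  induction L with
  | nil => simp
  | cons a L ih =>
    rw [List.map_cons, List.prod_cons, List.length_cons, pow_succ, ← ih]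
    show (Cfsg.reflectionMatrix (⇑Q) a.1 * _).det = _
    rw [Matrix.det_mul, (Cfsg.Agent.S0784.result Q a.1 a.2).2.2.2]
    ring

theorem even_prod_mem : ∀ (m : ℕ) (L : List (NS Q)), L.length = 2 * m →
    (L.map (reflG Q)).prod ∈ Subgroup.closure {g : ↥(Cfsg.isometryGroup F ⇑Q) |
      ∃ u v : Fin n → F, Q u ≠ 0 ∧ Q v ≠ 0 ∧
        ((g : Matrix.GeneralLinearGroup (Fin n) F) : Matrix (Fin n) (Fin n) F)
          = Cfsg.reflectionMatrix ⇑Q u * Cfsg.reflectionMatrix ⇑Q v} := by
  intro m
  induction m with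
  | zero =>
    intro L hL
    have : L = [] := List.length_eq_zero_iff.1 (by omega)
    rw [this]
    simp only [List.map_nil, List.prod_nil]
    exact Subgroup.one_mem _
  | succ m ih =>
    intro L hL
    match L, hL with
    | [], hL => simp at hL
    | [a], hL => simp at hL; omega
    | a :: b :: L', hL =>
      rw [List.map_cons, List.map_cons, List.prod_cons, List.prod_cons, ← mul_assoc]
      apply Subgroup.mul_mem
      · apply Subgroup.subset_closure
        exact ⟨a.1, b.1, a.2, b.2, rfl⟩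
      · apply ih
        simp only [List.length_cons] at hL
        omega

end

theorem result {F : Type*} [Field F] [Fintype F] (h2 : (2 : F) ≠ 0) {n : ℕ} (Q : QuadraticForm F (Fin n → F)) (hQ : (QuadraticMap.polarBilin Q).Nondegenerate) : Cfsg.specialIsometryGroup F ⇑Q = Subgroup.closure {g : ↥(Cfsg.isometryGroup F ⇑Q) | ∃ u v : Fin n → F, Q u ≠ 0 ∧ Q v ≠ 0 ∧ ((g : Matrix.GeneralLinearGroup (Fin n) F) : Matrix (Fin n) (Fin n) F) = Cfsg.reflectionMatrix ⇑Q u * Cfsg.reflectionMatrix ⇑Q v} := by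
  apply le_antisymm
  · intro g hg
    have hdet : ((g : Matrix.GeneralLinearGroup (Fin n) F) : Matrix (Fin n) (Fin n) F).det = 1 := by
      have h := hg
      rw [Cfsg.specialIsometryGroup, MonoidHom.mem_ker] at h
      exact congrArg Units.val h
    have htop : WNondeg Q (⊤ : Submodule F (Fin n → F)) := by
      intro w _ hall
      exact hQ.1 w (fun y => hall y Submodule.mem_top)
    obtain ⟨L, -, hL⟩ := cd Q h2 _ ⊤ rfl htop g (fun w _ => Submodule.mem_top)
      (fun x hx => by
        have hx0 : x = 0 := hQ.1 x (fun y => hx y Submodule.mem_top)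
        rw [hx0]
        exact Matrix.mulVec_zero _)
    rw [hL, det_prod] at hdet
    have heven : Even L.length := by
      by_contra hodd
      rw [Nat.not_even_iff_odd] at hodd
      rw [hodd.neg_one_pow] at hdet
      apply h2
      have : (2 : F) = 1 - (-1) := by ring
      rw [this, hdet]
      ring
    obtain ⟨m, hm⟩ := heven
    rw [hL]
    exact even_prod_mem Q m L (by omega)
  · rw [Subgroup.closure_le]
    rintro g ⟨u, v, hu, hv, hg⟩
    show g ∈ Cfsg.specialIsometryGroup F ⇑Q
    rw [Cfsg.specialIsometryGroup, MonoidHom.mem_ker]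
    apply Units.ext
    show ((g : Matrix.GeneralLinearGroup (Fin n) F) : Matrix (Fin n) (Fin n) F).det = 1
    rw [hg, Matrix.det_mul, (Cfsg.Agent.S0784.result Q u hu).2.2.2,
      (Cfsg.Agent.S0784.result Q v hv).2.2.2]
    ring

end Cfsg.Agent.S0792
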