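import Cfsg.Statements.S0793
import Cfsg.Agent.Lib.Helper2.Quad

set_option autoImplicit false
set_option linter.style.haveILetI false
open Cfsg

namespace Cfsg.Agent.S0793

open Cfsg.Agent.Lib.Helper2 Matrix

theorem siegel_mulVec {F : Type*} [Field F] {n : ℕ} (Q : QuadraticForm F (Fin n → F))
    (u v x : Fin n → F) (c : F) :
    (Cfsg.siegelMatrix (⇑Q) u v c).mulVec x
      = x + (c * QuadraticMap.polar (⇑Q) u x) • v + (-(c * QuadraticMap.polar (⇑Q) v x)) • u := by
  unfold Cfsg.siegelMatrix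
  rw [Matrix.add_mulVec, Matrix.one_mulVec, Matrix.smul_mulVec, Matrix.sub_mulVec,
    Matrix.vecMulVec_mulVec, Matrix.vecMulVec_mulVec, polarVec_dot, polarVec_dot]
  ext i
  simp only [Pi.sub_apply, Pi.smul_apply, Pi.add_apply, MulOpposite.smul_eq_mul_unop,
    MulOpposite.unop_op, smul_eq_mul]
  ring

theorem vecMulVec_zero_right' {F : Type*} [Field F] {ι κ : Type*} (v : ι → F) :
    Matrix.vecMulVec v (0 : κ → F) = 0 := by
  ext i j
  simp [Matrix.vecMulVec_apply]

/-- Root elements: if Q(u) = Q(v) = 0 and f(u, v) = 0 (f the polar form), then for every c the Siegel matrix T_(u,v)(c) preserves Q, fixes u and v, and T(c) T(d) = T(c + d). -/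
theorem result {F : Type*} [Field F] {n : ℕ} (Q : QuadraticForm F (Fin n → F)) (u v : Fin n → F) (hu : Q u = 0) (hv : Q v = 0) (huv : QuadraticMap.polar ⇑Q u v = 0) : (∀ c x, Q ((Cfsg.siegelMatrix ⇑Q u v c).mulVec x) = Q x) ∧ (∀ c, (Cfsg.siegelMatrix ⇑Q u v c).mulVec u = u ∧ (Cfsg.siegelMatrix ⇑Q u v c).mulVec v = v) ∧ ∀ c d, Cfsg.siegelMatrix ⇑Q u v c * Cfsg.siegelMatrix ⇑Q u v d = Cfsg.siegelMatrix ⇑Q u v (c + d) := by
  have hvu : QuadraticMap.polar (⇑Q) v u = 0 := by rw [QuadraticMap.polar_comm]; exact huv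
  have huu : QuadraticMap.polar (⇑Q) u u = 0 := by rw [QuadraticMap.polar_self, hu, smul_zero]
  have hvv : QuadraticMap.polar (⇑Q) v v = 0 := by rw [QuadraticMap.polar_self, hv, smul_zero]
  refine ⟨?_, ?_, ?_⟩
  · intro c x
    rw [siegel_mulVec, quad_add_smul, quad_add_smul, hu, hv, QuadraticMap.polar_add_left,
      QuadraticMap.polar_smul_left, hvu, QuadraticMap.polar_comm (⇑Q) x v,
      QuadraticMap.polar_comm (⇑Q) x u]
    simp only [smul_eq_mul]
    ring
  · intro c
    constructor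
    · rw [siegel_mulVec, huu, hvu]; simp
    · rw [siegel_mulVec, huv, hvv]; simp
  · intro c d
    unfold Cfsg.siegelMatrix
    set N := Matrix.vecMulVec v (Cfsg.polarVec (⇑Q) u) - Matrix.vecMulVec u (Cfsg.polarVec (⇑Q) v)
      with hN
    have hNN : N * N = 0 := by
      rw [hN, Matrix.sub_mul, Matrix.mul_sub, Matrix.mul_sub, Matrix.vecMulVec_mul_vecMulVec,
        Matrix.vecMulVec_mul_vecMulVec, Matrix.vecMulVec_mul_vecMulVec,
        Matrix.vecMulVec_mul_vecMulVec, polarVec_dot, polarVec_dot, polarVec_dot, polarVec_dot,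
        huv, huu, hvv, hvu]
      simp [vecMulVec_zero_right']
    rw [Matrix.add_mul, Matrix.one_mul, Matrix.mul_add, Matrix.mul_one, Matrix.smul_mul,
      Matrix.mul_smul, hNN, smul_zero, smul_zero, add_zero, add_smul]
    abel

end Cfsg.Agent.S0793
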