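import Mathlib
import Cfsg.Statements.S0794
import Cfsg.Agent.S0793

set_option autoImplicit false
open Cfsg

namespace Cfsg.Agent.S0794

open Cfsg.Agent.Lib.Helper2 Matrix Cfsg.Agent.S0793

section
variable {F : Type*} [Field F] {n : ℕ}

/-- hyperbolic rotation matrix `x ↦ x + f(u', x) u - (1/2) f(u, x) u'`-type -/
def Hm (Q : QuadraticForm F (Fin n → F)) (u u' : Fin n → F) (a b : F) : Matrix (Fin n) (Fin n) F :=
  1 + (a • Matrix.vecMulVec u (Cfsg.polarVec (⇑Q) u') + b • Matrix.vecMulVec u' (Cfsg.polarVec (⇑Q) u))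

theorem Hm_mulVec (Q : QuadraticForm F (Fin n → F)) (u u' x : Fin n → F) (a b : F) :
    (Hm Q u u' a b).mulVec x = x + ((a * QuadraticMap.polar (⇑Q) u' x) • u
      + (b * QuadraticMap.polar (⇑Q) u x) • u') := by
  unfold Hm
  rw [Matrix.add_mulVec, Matrix.one_mulVec, Matrix.add_mulVec, Matrix.smul_mulVec,
    Matrix.smul_mulVec, Matrix.vecMulVec_mulVec, Matrix.vecMulVec_mulVec, polarVec_dot,
    polarVec_dot]
  ext i
  simp only [Pi.smul_apply, Pi.add_apply, MulOpposite.smul_eq_mul_unop,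
    MulOpposite.unop_op, smul_eq_mul]
  ring

theorem Hm_pres (Q : QuadraticForm F (Fin n → F)) (u u' : Fin n → F) (a b : F)
    (hab : a + b + a * b = 0) (hu : Q u = 0) (hu' : Q u' = 0)
    (huu' : QuadraticMap.polar (⇑Q) u u' = 1) (x : Fin n → F) :
    Q ((Hm Q u u' a b).mulVec x) = Q x := by
  rw [Hm_mulVec, ← add_assoc, quad_add_smul, quad_add_smul, hu, hu', QuadraticMap.polar_add_left,
    QuadraticMap.polar_smul_left, huu', QuadraticMap.polar_comm (⇑Q) x u,
    QuadraticMap.polar_comm (⇑Q) x u']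
  simp only [smul_eq_mul]
  linear_combination (QuadraticMap.polar (⇑Q) u x * QuadraticMap.polar (⇑Q) u' x) * hab

theorem Hm_mul (Q : QuadraticForm F (Fin n → F)) (u u' : Fin n → F) (a b : F)
    (hab : a + b + a * b = 0) (hu : Q u = 0) (hu' : Q u' = 0)
    (huu' : QuadraticMap.polar (⇑Q) u u' = 1) :
    Hm Q u u' b a * Hm Q u u' a b = 1 := by
  have hu'u : QuadraticMap.polar (⇑Q) u' u = 1 := by rw [QuadraticMap.polar_comm]; exact huu'
  have h1 : QuadraticMap.polar (⇑Q) u u = 0 := by rw [QuadraticMap.polar_self, hu, smul_zero]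
  have h2 : QuadraticMap.polar (⇑Q) u' u' = 0 := by rw [QuadraticMap.polar_self, hu', smul_zero]
  apply Matrix.mulVec_injective
  funext x
  rw [← Matrix.mulVec_mulVec, Matrix.one_mulVec, Hm_mulVec, Hm_mulVec]
  simp only [QuadraticMap.polar_add_right, QuadraticMap.polar_smul_right, huu', hu'u, h1, h2,
    smul_eq_mul, mul_zero, add_zero, zero_add, mul_one]
  linear_combination (norm := module) (QuadraticMap.polar (⇑Q) u' x * hab) • u
    + (QuadraticMap.polar (⇑Q) u x * hab) • u'

theorem Hm_siegel (Q : QuadraticForm F (Fin n → F)) (u v u' : Fin n → F) (a b : F)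
    (hab : a + b + a * b = 0) (hu : Q u = 0) (hu' : Q u' = 0)
    (huu' : QuadraticMap.polar (⇑Q) u u' = 1) (huv : QuadraticMap.polar (⇑Q) u v = 0)
    (hvu' : QuadraticMap.polar (⇑Q) v u' = 0) (c : F) (x : Fin n → F) :
    (Hm Q u u' a b).mulVec ((Cfsg.siegelMatrix (⇑Q) u v c).mulVec x)
      = (Cfsg.siegelMatrix (⇑Q) u v ((1 + a) * c)).mulVec ((Hm Q u u' a b).mulVec x) := by
  have hu'u : QuadraticMap.polar (⇑Q) u' u = 1 := by rw [QuadraticMap.polar_comm]; exact huu'
  have hvu : QuadraticMap.polar (⇑Q) v u = 0 := by rw [QuadraticMap.polar_comm]; exact huv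
  have hu'v : QuadraticMap.polar (⇑Q) u' v = 0 := by rw [QuadraticMap.polar_comm]; exact hvu'
  have h1 : QuadraticMap.polar (⇑Q) u u = 0 := by rw [QuadraticMap.polar_self, hu, smul_zero]
  have h2 : QuadraticMap.polar (⇑Q) u' u' = 0 := by rw [QuadraticMap.polar_self, hu', smul_zero]
  rw [siegel_mulVec, siegel_mulVec, Hm_mulVec, Hm_mulVec]
  simp only [QuadraticMap.polar_add_right, QuadraticMap.polar_smul_right, huu', hu'u, h1, h2,
    huv, hvu, hvu', hu'v, smul_eq_mul, mul_zero, add_zero, zero_add, mul_one]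
  linear_combination (norm := module) (-(c * QuadraticMap.polar (⇑Q) u x) * hab) • v

theorem siegel_zero (Q : QuadraticForm F (Fin n → F)) (u v : Fin n → F) :
    Cfsg.siegelMatrix (⇑Q) u v 0 = 1 := by
  unfold Cfsg.siegelMatrix
  rw [zero_smul, add_zero]

end

theorem result {F : Type*} [Field F] [Fintype F] (h2 : (2 : F) ≠ 0) {n : ℕ} (hn : 5 ≤ n) (Q : QuadraticForm F (Fin n → F)) (hQ : (QuadraticMap.polarBilin Q).Nondegenerate) (u v : Fin n → F) (hu : Q u = 0) (hv : Q v = 0) (huv : QuadraticMap.polar ⇑Q u v = 0) (c : F) (g : ↥(Cfsg.isometryGroup F ⇑Q)) (hg : ((g : Matrix.GeneralLinearGroup (Fin n) F) : Matrix (Fin n) (Fin n) F) = Cfsg.siegelMatrix ⇑Q u v c) : g ∈ commutatorSet ↥(Cfsg.isometryGroup F ⇑Q) ∧ g ∈ Cfsg.Omega F ⇑Q := by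
  classical
  have hcs : g ∈ commutatorSet ↥(Cfsg.isometryGroup F ⇑Q) := by
    have h1case : Cfsg.siegelMatrix (⇑Q) u v c = 1 →
        g ∈ commutatorSet ↥(Cfsg.isometryGroup F ⇑Q) := by
      intro h
      have hg1 : g = 1 := Subtype.ext (Units.ext (hg.trans h))
      rw [hg1]
      exact ⟨1, 1, by simp⟩
    have hsep : ∀ z : Fin n → F, z ≠ 0 → ∃ w, QuadraticMap.polar (⇑Q) z w = 1 := by
      intro z hz
      have : ∃ w, QuadraticMap.polar (⇑Q) z w ≠ 0 := by
        by_contra hcon
        apply hz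
        apply hQ.1 z
        intro y
        by_contra h
        exact hcon ⟨y, h⟩
      obtain ⟨w, hw⟩ := this
      refine ⟨(QuadraticMap.polar (⇑Q) z w)⁻¹ • w, ?_⟩
      rw [QuadraticMap.polar_smul_right, smul_eq_mul, inv_mul_cancel₀ hw]
    by_cases hu0 : u = 0
    · apply h1case
      apply Matrix.mulVec_injective
      funext x
      rw [siegel_mulVec, Matrix.one_mulVec, hu0]
      simp
    obtain ⟨w0, hw0⟩ := hsep u hu0
    by_cases hv2 : v - QuadraticMap.polar (⇑Q) v w0 • u = 0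
    · apply h1case
      have hv' : v = QuadraticMap.polar (⇑Q) v w0 • u := sub_eq_zero.1 hv2
      apply Matrix.mulVec_injective
      funext x
      rw [siegel_mulVec, Matrix.one_mulVec]
      generalize QuadraticMap.polar (⇑Q) v w0 = l at hv'
      rw [hv', QuadraticMap.polar_smul_left, smul_eq_mul]
      module
    obtain ⟨w1, hw1⟩ := hsep _ hv2
    rw [QuadraticMap.polar_sub_left, QuadraticMap.polar_smul_left, smul_eq_mul] at hw1
    -- the vector w
    set w : Fin n → F := (1 + QuadraticMap.polar (⇑Q) v w0 * QuadraticMap.polar (⇑Q) u w1) • w0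
      + (-(QuadraticMap.polar (⇑Q) v w0)) • w1 with hw
    have huw : QuadraticMap.polar (⇑Q) u w = 1 := by
      rw [hw, QuadraticMap.polar_add_right, QuadraticMap.polar_smul_right,
        QuadraticMap.polar_smul_right, hw0, smul_eq_mul, smul_eq_mul]
      ring
    have hvw : QuadraticMap.polar (⇑Q) v w = 0 := by
      rw [hw, QuadraticMap.polar_add_right, QuadraticMap.polar_smul_right,
        QuadraticMap.polar_smul_right, smul_eq_mul, smul_eq_mul]
      linear_combination (-(QuadraticMap.polar (⇑Q) v w0)) * hw1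
    have huu : QuadraticMap.polar (⇑Q) u u = 0 := by rw [QuadraticMap.polar_self, hu, smul_zero]
    have hvu : QuadraticMap.polar (⇑Q) v u = 0 := by rw [QuadraticMap.polar_comm]; exact huv
    set u' : Fin n → F := w + (-(Q w)) • u with hu'
    have hQu' : Q u' = 0 := by
      rw [hu', quad_add_smul, hu, QuadraticMap.polar_comm (⇑Q) w u, huw]
      ring
    have huu' : QuadraticMap.polar (⇑Q) u u' = 1 := by
      rw [hu', QuadraticMap.polar_add_right, QuadraticMap.polar_smul_right, huu, huw, smul_zero,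
        add_zero]
    have hvu' : QuadraticMap.polar (⇑Q) v u' = 0 := by
      rw [hu', QuadraticMap.polar_add_right, QuadraticMap.polar_smul_right, hvu, hvw, smul_zero,
        add_zero]
    set b : F := -(2 : F)⁻¹ with hb
    have hab : (1 : F) + b + 1 * b = 0 := by
      rw [hb]
      field_simp
      ring
    have hab' : b + 1 + b * 1 = 0 := by linear_combination hab
    have hT := Cfsg.Agent.S0793.result Q u v hu hv huv
    let hhGL : Matrix.GeneralLinearGroup (Fin n) F :=
      ⟨Hm Q u u' 1 b, Hm Q u u' b 1, Hm_mul Q u u' b 1 hab' hu hQu' huu',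
        Hm_mul Q u u' 1 b hab hu hQu' huu'⟩
    let TGL : Matrix.GeneralLinearGroup (Fin n) F :=
      ⟨Cfsg.siegelMatrix (⇑Q) u v c, Cfsg.siegelMatrix (⇑Q) u v (-c),
        by rw [hT.2.2 c (-c), add_neg_cancel, siegel_zero],
        by rw [hT.2.2 (-c) c, neg_add_cancel, siegel_zero]⟩
    let hh : ↥(Cfsg.isometryGroup F ⇑Q) :=
      ⟨hhGL, fun x _ => Hm_pres Q u u' 1 b hab hu hQu' huu' x⟩
    let ρ : ↥(Cfsg.isometryGroup F ⇑Q) := ⟨TGL, fun x _ => hT.1 c x⟩
    have hcomm : hh * ρ = g * ρ * hh := by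
      apply Subtype.ext
      apply Units.ext
      show Hm Q u u' 1 b * Cfsg.siegelMatrix (⇑Q) u v c
        = ((g : Matrix.GeneralLinearGroup (Fin n) F) : Matrix (Fin n) (Fin n) F)
          * Cfsg.siegelMatrix (⇑Q) u v c * Hm Q u u' 1 b
      rw [hg, hT.2.2 c c]
      apply Matrix.mulVec_injective
      funext x
      rw [← Matrix.mulVec_mulVec, ← Matrix.mulVec_mulVec,
        Hm_siegel Q u v u' 1 b hab hu hQu' huu' huv hvu' c x]
      congr 2
      ring
    refine ⟨hh, ρ, ?_⟩
    rw [commutatorElement_def, hcomm]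
    group
  refine ⟨hcs, ?_⟩
  show g ∈ commutator _
  rw [commutator_eq_closure]
  exact Subgroup.subset_closure hcs

end Cfsg.Agent.S0794
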