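import Cfsg.Statements.S0796
import Mathlib

set_option autoImplicit false
set_option linter.style.haveILetI false
open Cfsg

namespace Cfsg.Agent.S0796

/-- If G is finite and acts faithfully and primitively on X, H is the stabiliser of a point, A is a normal subgroup of H whose normal closure in G is G, then for every non-trivial normal subgroup K of G the quotient G ⧸ K is isomorphic to A ⧸ B for some normal subgroup B of A. -/
theorem result {G X : Type*} [Group G] [Finite G] [MulAction G X] [FaithfulSMul G X] (hprim : MulAction.IsPreprimitive G X) (x : X) (A : Subgroup G) (hA : A ≤ MulAction.stabilizer G x) (hAn : (A.subgroupOf (MulAction.stabilizer G x)).Normal) (hgen : Subgroup.normalClosure (A : Set G) = ⊤) (K : Subgroup G) [K.Normal] (hK : K ≠ ⊥) : ∃ (B : Subgroup A) (_ : B.Normal), Nonempty (G ⧸ K ≃* A ⧸ B) := by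
  classical
  have hNX : MulAction.fixedPoints K X ≠ Set.univ := by
    intro h
    apply hK
    rw [Subgroup.eq_bot_iff_forall]
    intro k hk
    apply FaithfulSMul.eq_of_smul_eq_smul (α := X)
    intro y
    rw [one_smul]
    have : y ∈ MulAction.fixedPoints K X := by rw [h]; trivial
    exact this ⟨k, hk⟩
  haveI : MulAction.IsPretransitive K X := MulAction.IsQuasiPreprimitive.isPretransitive_of_normal hNX
  have hsup : A ⊔ K = ⊤ := by
    rw [eq_top_iff, ← hgen, Subgroup.normalClosure, Subgroup.closure_le]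
    intro c hc
    rw [Group.mem_conjugatesOfSet_iff] at hc
    obtain ⟨a, ha, hac⟩ := hc
    rw [isConj_iff] at hac
    obtain ⟨g, rfl⟩ := hac
    obtain ⟨k, hk⟩ := MulAction.exists_smul_eq K x (g • x)
    have hkg : (k : G)⁻¹ * g ∈ MulAction.stabilizer G x := by
      rw [MulAction.mem_stabilizer_iff, mul_smul, ← hk, Subgroup.smul_def, inv_smul_smul]
    set h : G := (k : G)⁻¹ * g with hh
    have hg : g = k * h := by rw [hh, mul_inv_cancel_left]
    have hconj : h * a * h⁻¹ ∈ A := by
      have := hAn.conj_mem ⟨a, hA ha⟩ (Subgroup.mem_subgroupOf.2 ha) ⟨h, hkg⟩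
      exact Subgroup.mem_subgroupOf.1 this
    have hkK : (k : G) ∈ A ⊔ K := Subgroup.mem_sup_right k.2
    have : g * a * g⁻¹ = k * (h * a * h⁻¹) * (k : G)⁻¹ := by
      rw [hg]; group
    rw [SetLike.mem_coe, this]
    exact (A ⊔ K).mul_mem ((A ⊔ K).mul_mem hkK (Subgroup.mem_sup_left hconj)) ((A ⊔ K).inv_mem hkK)
  set φ : A →* G ⧸ K := (QuotientGroup.mk' K).comp A.subtype with hφ
  have hsurj : Function.Surjective φ := by
    rw [← MonoidHom.range_eq_top, hφ, MonoidHom.range_comp, Subgroup.range_subtype]
    have h1 : Subgroup.map (QuotientGroup.mk' K) K = ⊥ := QuotientGroup.map_mk'_self K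
    have h2 : Subgroup.map (QuotientGroup.mk' K) (A ⊔ K) = ⊤ := by
      rw [hsup, ← MonoidHom.range_eq_map, MonoidHom.range_eq_top]
      exact QuotientGroup.mk'_surjective K
    rw [Subgroup.map_sup, h1, sup_bot_eq] at h2
    exact h2
  exact ⟨φ.ker, inferInstance, ⟨(QuotientGroup.quotientKerEquivOfSurjective φ hsurj).symm⟩⟩

end Cfsg.Agent.S0796
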