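import Mathlib
import Cfsg.Statements.S1012

set_option autoImplicit false
open Cfsg

namespace Cfsg.Agent.S1012

theorem fac3 : (24 : ℕ).factorization 3 = 1 := by
  rw [show (24 : ℕ) = 2 ^ 3 * 3 ^ 1 by norm_num, Nat.factorization_mul (by norm_num) (by norm_num), Nat.prime_two.factorization_pow, Nat.prime_three.factorization_pow]
  simp

theorem fac2 : (24 : ℕ).factorization 2 = 3 := by
  rw [show (24 : ℕ) = 2 ^ 3 * 3 ^ 1 by norm_num, Nat.factorization_mul (by norm_num) (by norm_num), Nat.prime_two.factorization_pow, Nat.prime_three.factorization_pow]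
  simp

/-- A group of order 24 containing no element of order 6 is isomorphic to the symmetric group of degree 4. -/
theorem result {G : Type*} [Group G] [Finite G] (h : Nat.card G = 24) (h6 : ∀ g : G, orderOf g ≠ 6) : Nonempty (G ≃* Equiv.Perm (Fin 4)) := by
  classical
  haveI : Fact (Nat.Prime 2) := ⟨Nat.prime_two⟩
  haveI : Fact (Nat.Prime 3) := ⟨Nat.prime_three⟩
  -- (A)
  have hA : ∀ t x : G, orderOf t = 2 → orderOf x = 3 → ¬ Commute t x := by
    intro t x ht hx hc
    have := hc.orderOf_mul_eq_mul_orderOf_of_coprime (by rw [ht, hx]; norm_num)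
    rw [ht, hx] at this
    exact h6 (t * x) this
  -- (B)
  have hB : ∀ x : G, orderOf x = 3 → ∀ g : G, Commute g x → g ∈ Subgroup.zpowers x := by
    intro x hx g hg
    set C := Subgroup.centralizer (Subgroup.zpowers x : Set G) with hC
    have hxC : Subgroup.zpowers x ≤ C := by
      rw [Subgroup.zpowers_le]
      rw [hC, Subgroup.mem_centralizer_iff]
      intro y hy
      obtain ⟨k, rfl⟩ := Subgroup.mem_zpowers_iff.1 hy
      exact ((Commute.refl x).zpow_left k).eq
    have hz : Nat.card (Subgroup.zpowers x) = 3 := by rw [Nat.card_zpowers, hx]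
    have h3 : 3 ∣ Nat.card C := by
      have := Subgroup.card_dvd_of_le hxC
      rwa [hz] at this
    have h24 : Nat.card C ∣ 24 := h ▸ Subgroup.card_subgroup_dvd_card C
    have h2 : ¬ 2 ∣ Nat.card C := by
      intro h2
      obtain ⟨t, ht⟩ := exists_prime_orderOf_dvd_card' 2 h2
      have ht' : orderOf (t : G) = 2 := by rw [Subgroup.orderOf_coe]; exact ht
      refine hA (t : G) x ht' hx ?_
      have := Subgroup.mem_centralizer_iff.1 t.2 x (Subgroup.mem_zpowers x)
      exact this.symm
    have hcard : Nat.card C = 3 := by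
      have hle := Nat.le_of_dvd (by norm_num) h24
      generalize Nat.card C = d at *
      interval_cases d <;> omega
    have heq : Subgroup.zpowers x = C := Subgroup.eq_of_le_of_card_ge hxC (by rw [hz, hcard])
    rw [heq, hC, Subgroup.mem_centralizer_iff]
    intro y hy
    obtain ⟨k, rfl⟩ := Subgroup.mem_zpowers_iff.1 hy
    exact (hg.symm.zpow_left k).eq
  -- Sylow 3
  have hP3 : ∀ P : Sylow 3 G, Nat.card (P : Subgroup G) = 3 := by
    intro P
    rw [Sylow.card_eq_multiplicity, h, fac3]; norm_num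
  have hS8 : ∀ S : Sylow 2 G, Nat.card (S : Subgroup G) = 8 := by
    intro S
    rw [Sylow.card_eq_multiplicity, h, fac2]; norm_num
  -- generator
  have hgen : ∀ P : Sylow 3 G, ∃ x : G, orderOf x = 3 ∧ Subgroup.zpowers x = (P : Subgroup G) := by
    intro P
    obtain ⟨x, hx⟩ := exists_prime_orderOf_dvd_card' (G := (P : Subgroup G)) 3 (by rw [hP3 P])
    refine ⟨(x : G), by rw [Subgroup.orderOf_coe]; exact hx, ?_⟩
    apply Subgroup.eq_of_le_of_card_ge
    · rw [Subgroup.zpowers_le]; exact x.2
    · rw [Nat.card_zpowers, Subgroup.orderOf_coe, hx, hP3 P]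
  -- n_3 ≠ 1
  have hn1 : Nat.card (Sylow 3 G) ≠ 1 := by
    intro h1
    obtain ⟨P⟩ : Nonempty (Sylow 3 G) := inferInstance
    obtain ⟨S⟩ : Nonempty (Sylow 2 G) := inferInstance
    haveI : Subsingleton (Sylow 3 G) := (Nat.card_eq_one_iff_unique.1 h1).1
    haveI hPn : (P : Subgroup G).Normal := Sylow.normal_of_subsingleton P
    obtain ⟨x, hx, hxP⟩ := hgen P
    have hxP' : x ∈ (P : Subgroup G) := hxP ▸ Subgroup.mem_zpowers x
    let f : ↥(S : Subgroup G) → ↥(P : Subgroup G) := fun t => ⟨(t : G) * x * (t : G)⁻¹, hPn.conj_mem x hxP' t⟩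
    have : ∃ a b, a ≠ b ∧ f a = f b := by
      haveI := Fintype.ofFinite (S : Subgroup G)
      haveI := Fintype.ofFinite (P : Subgroup G)
      apply Fintype.exists_ne_map_eq_of_card_lt f
      rw [← Nat.card_eq_fintype_card, ← Nat.card_eq_fintype_card, hP3, hS8]; norm_num
    obtain ⟨a, b, hab, hfab⟩ := this
    have hfab' : (a : G) * x * (a : G)⁻¹ = (b : G) * x * (b : G)⁻¹ := congrArg Subtype.val hfab
    have hcomm : Commute ((b : G)⁻¹ * (a : G)) x := by
      unfold Commute SemiconjBy
      have : (b : G)⁻¹ * ((a : G) * x * (a : G)⁻¹) * (a : G) = (b : G)⁻¹ * ((b : G) * x * (b : G)⁻¹) * (a : G) := by rw [hfab']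
      simpa [mul_assoc] using this
    have hmemP := hB x hx _ hcomm
    rw [hxP] at hmemP
    have hmemS : (b : G)⁻¹ * (a : G) ∈ (S : Subgroup G) := mul_mem (inv_mem b.2) a.2
    have hbot : (S : Subgroup G) ⊓ (P : Subgroup G) = ⊥ := disjoint_iff.1 (Subgroup.disjoint_of_coprime_natCard (by rw [hS8, hP3]; norm_num))
    have : (b : G)⁻¹ * (a : G) ∈ (⊥ : Subgroup G) := hbot ▸ ⟨hmemS, hmemP⟩
    rw [Subgroup.mem_bot, inv_mul_eq_one] at this
    exact hab (Subtype.ext this.symm)
  have hn4 : Nat.card (Sylow 3 G) = 4 := by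
    obtain ⟨P⟩ : Nonempty (Sylow 3 G) := inferInstance
    have h1 := card_sylow_modEq_one 3 G
    have h2 := Sylow.card_dvd_index P
    have h3 : (P : Subgroup G).index = 8 := by
      have := (P : Subgroup G).card_mul_index
      rw [hP3 P, h] at this; omega
    rw [h3] at h2
    have hle := Nat.le_of_dvd (by norm_num) h2
    unfold Nat.ModEq at h1
    generalize Nat.card (Sylow 3 G) = d at *
    interval_cases d <;> omega
  -- injective
  have hinj : Function.Injective (MulAction.toPermHom G (Sylow 3 G)) := by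
    rw [injective_iff_map_eq_one]
    intro g hg
    have hfix : ∀ Q : Sylow 3 G, g • Q = Q := by
      intro Q
      have := congrArg (fun σ => σ Q) hg
      simpa using this
    have hgN : ∀ Q : Sylow 3 G, g ∈ Subgroup.normalizer ((Q : Subgroup G) : Set G) := fun Q => Sylow.smul_eq_iff_mem_normalizer.1 (hfix Q)
    have hK_normal : ∀ (k : G), (∀ Q : Sylow 3 G, k • Q = Q) → ∀ y : G, ∀ Q : Sylow 3 G, (y * k * y⁻¹) • Q = Q := by
      intro k hk y Q
      rw [mul_smul, mul_smul, hk, smul_inv_smul]
    obtain ⟨P⟩ : Nonempty (Sylow 3 G) := inferInstance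
    obtain ⟨x, hx, hxP⟩ := hgen P
    have hc1 : g * x * g⁻¹ ∈ (P : Subgroup G) := by
      have := (Subgroup.mem_normalizer_iff.1 (hgN P) x).1 (hxP ▸ Subgroup.mem_zpowers x)
      exact this
    have hcP : g * x * g⁻¹ * x⁻¹ ∈ (P : Subgroup G) := mul_mem hc1 (inv_mem (hxP ▸ Subgroup.mem_zpowers x))
    have hcK : ∀ Q : Sylow 3 G, (g * x * g⁻¹ * x⁻¹) • Q = Q := by
      intro Q
      have h1 := hK_normal g⁻¹ (fun Q => by rw [inv_smul_eq_iff, hfix]) x Q
      have : g * x * g⁻¹ * x⁻¹ = g * (x * g⁻¹ * x⁻¹) := by group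
      rw [this, mul_smul, h1, hfix]
    have hsub : ∀ c : G, c ∈ (P : Subgroup G) → (∀ Q : Sylow 3 G, c • Q = Q) → c = 1 := by
      intro c hcP hcK
      by_contra hc1
      have hzc : Subgroup.zpowers c = (P : Subgroup G) := by
        have hle : Subgroup.zpowers c ≤ (P : Subgroup G) := by rw [Subgroup.zpowers_le]; exact hcP
        have hdvd := Subgroup.card_dvd_of_le hle
        rw [hP3 P] at hdvd
        have hne : Nat.card (Subgroup.zpowers c) ≠ 1 := by
          rw [Nat.card_zpowers]; intro h; exact hc1 (orderOf_eq_one_iff.1 h)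
        have : Nat.card (Subgroup.zpowers c) = 3 := by
          rcases (Nat.dvd_prime Nat.prime_three).1 hdvd with h | h
          · exact absurd h hne
          · exact h
        exact Subgroup.eq_of_le_of_card_ge hle (by rw [this, hP3 P])
      apply hn1
      rw [Nat.card_eq_one_iff_unique]
      refine ⟨⟨fun Q1 Q2 => ?_⟩, ⟨P⟩⟩
      have key : ∀ Q : Sylow 3 G, (Q : Subgroup G) = (P : Subgroup G) := by
        intro Q
        have hcN : c ∈ Subgroup.normalizer ((Q : Subgroup G) : Set G) := Sylow.smul_eq_iff_mem_normalizer.1 (hcK Q)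
        have hPN : (P : Subgroup G) ≤ Subgroup.normalizer ((Q : Subgroup G) : Set G) := by
          rw [← hzc, Subgroup.zpowers_le]; exact hcN
        have hPQ : (P : Subgroup G) ≤ (Q : Subgroup G) := by
          intro y hy
          have hy2 : y ∈ (P : Subgroup G) ⊓ Subgroup.normalizer (Q : Set G) := ⟨hy, hPN hy⟩
          rw [IsPGroup.inf_normalizer_sylow P.2 Q] at hy2
          exact hy2.2
        exact (Subgroup.eq_of_le_of_card_ge hPQ (by rw [hP3, hP3])).symm
      exact Sylow.ext ((key Q1).trans (key Q2).symm)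
    have hc_one := hsub _ hcP hcK
    have hcomm : Commute g x := by
      unfold Commute SemiconjBy
      have : g * x * g⁻¹ * x⁻¹ * x * g = 1 * x * g := by rw [hc_one]
      simpa [mul_assoc] using this
    have hgP := hB x hx g hcomm
    rw [hxP] at hgP
    exact hsub g hgP hfix
  -- bijective
  have hbij : Function.Bijective (MulAction.toPermHom G (Sylow 3 G)) := by
    rw [Nat.bijective_iff_injective_and_card]
    refine ⟨hinj, ?_⟩
    rw [h, Nat.card_perm, hn4]; rfl
  have e1 : G ≃* Equiv.Perm (Sylow 3 G) := MulEquiv.ofBijective _ hbij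
  have e0 : Sylow 3 G ≃ Fin 4 := Finite.equivFinOfCardEq hn4
  exact ⟨e1.trans e0.permCongrHom⟩

end Cfsg.Agent.S1012
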