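import Mathlib
import Cfsg.Statements.S0803
import Cfsg.Agent.S0807
import Cfsg.Agent.S0808
import Cfsg.Agent.S0809
import Cfsg.Agent.S0802
import Cfsg.Agent.S0268
import Cfsg.Agent.S1012

set_option autoImplicit false
open Cfsg

namespace Cfsg.Agent.S0803

open Cfsg.Agent.S0809 Cfsg.Agent.S0807 Cfsg.Agent.S0808 Cfsg.Agent.S0802

/-! ### abstract lemmas -/

theorem card_le_of_fibers {A B : Type*} [Finite A] [Finite B] (f : A → B) (k : ℕ)
    (h : ∀ b, Nat.card {a // f a = b} ≤ k) : Nat.card A ≤ Nat.card B * k := by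
  classical
  haveI := Fintype.ofFinite B
  rw [← Nat.card_congr (Equiv.sigmaFiberEquiv f), Nat.card_sigma]
  calc ∑ b, Nat.card {a // f a = b} ≤ ∑ _b : B, k := Finset.sum_le_sum (fun b _ => h b)
    _ = Nat.card B * k := by
        rw [Finset.sum_const, Finset.card_univ, smul_eq_mul, Nat.card_eq_fintype_card]

theorem mem_normalizer_of_conj {G : Type*} [Group G] (V : Subgroup G) [Finite V] (g : G)
    (h : ∀ v ∈ V, g * v * g⁻¹ ∈ V) : g ∈ Subgroup.normalizer (V : Set G) := by
  rw [Subgroup.mem_normalizer_iff]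
  intro n
  constructor
  · exact h n
  · intro hn
    let φ : V → V := fun v => ⟨g * v.1 * g⁻¹, h v.1 v.2⟩
    have hinj : Function.Injective φ := by
      intro v w hvw
      have h1 : g * v.1 * g⁻¹ = g * w.1 * g⁻¹ := congrArg Subtype.val hvw
      exact Subtype.ext (mul_left_cancel (mul_right_cancel h1))
    obtain ⟨v, hv⟩ := Finite.surjective_of_injective hinj ⟨g * n * g⁻¹, hn⟩
    have h1 : g * v.1 * g⁻¹ = g * n * g⁻¹ := congrArg Subtype.val hv
    have h2 : v.1 = n := mul_left_cancel (mul_right_cancel h1)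
    rw [← h2]
    exact v.2

theorem conj_eq_comm {G : Type*} [Group G] (g g₀ a : G) (h : g * a * g⁻¹ = g₀ * a * g₀⁻¹) :
    (g₀⁻¹ * g) * a = a * (g₀⁻¹ * g) := by
  calc g₀⁻¹ * g * a = g₀⁻¹ * (g * a * g⁻¹) * g := by group
    _ = g₀⁻¹ * (g₀ * a * g₀⁻¹) * g := by rw [h]
    _ = a * (g₀⁻¹ * g) := by group

theorem sgn_mul {G : Type*} [Group G] (s : G) (hc : ∀ w, s * w = w * s) (hss : s * s = 1)
    (γ u x : G) (h1 : γ * x = s * (x * γ)) (h2 : u * x = s * (x * u)) :
    (γ * u) * x = x * (γ * u) := by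
  calc γ * u * x = γ * (u * x) := mul_assoc _ _ _
    _ = γ * (s * (x * u)) := by rw [h2]
    _ = (γ * s) * (x * u) := (mul_assoc _ _ _).symm
    _ = (s * γ) * (x * u) := by rw [hc γ]
    _ = s * ((γ * x) * u) := by simp only [mul_assoc]
    _ = s * ((s * (x * γ)) * u) := by rw [h1]
    _ = (s * s) * (x * (γ * u)) := by simp only [mul_assoc]
    _ = x * (γ * u) := by rw [hss, one_mul]

/-! ### no element of order six -/

theorem no6_sq {G : Type*} [Group G] (a b g : G)
    (hV : ∀ v : G, (v = 1 ∨ v = a ∨ v = b ∨ v = a * b) → v * v = 1)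
    (hC : ∀ g : G, g * a = a * g → g * b = b * g → g = 1 ∨ g = a ∨ g = b ∨ g = a * b)
    (h1 : (g * g) * a = a * (g * g)) (h2 : (g * g) * b = b * (g * g)) : orderOf g ≠ 6 := by
  have h4 : g ^ 4 = 1 := by
    have h := hV _ (hC _ h1 h2)
    have e : g ^ 4 = (g * g) * (g * g) := by
      rw [pow_succ, pow_succ, pow_succ, pow_one, mul_assoc (g * g) g g]
    rw [e]; exact h
  intro h6
  have h := orderOf_dvd_of_pow_eq_one h4
  rw [h6] at h
  exact absurd h (by decide)

theorem no6_cyc {G : Type*} [Group G] (a b g : G) (hb : b * b = 1)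
    (hab : a * b = b * a) (ha1 : a ≠ 1) (hb1 : b ≠ 1) (hne : a ≠ b)
    (hC : ∀ g : G, g * a = a * g → g * b = b * g → g = 1 ∨ g = a ∨ g = b ∨ g = a * b)
    (h1 : g * a = b * g) (h2 : g * b = a * b * g) : orderOf g ≠ 6 := by
  have h3 : g * (a * b) = a * g := by
    calc g * (a * b) = (g * a) * b := (mul_assoc _ _ _).symm
      _ = b * (g * b) := by rw [h1, mul_assoc]
      _ = b * (a * b * g) := by rw [h2]
      _ = (b * a * b) * g := by simp only [mul_assoc]
      _ = a * g := by rw [← hab, mul_assoc a b b, hb, mul_one]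
  have c1 : (g * g * g) * a = a * (g * g * g) := by
    calc g * g * g * a = g * g * (g * a) := mul_assoc _ _ _
      _ = g * g * (b * g) := by rw [h1]
      _ = g * (g * b) * g := by simp only [mul_assoc]
      _ = g * (a * b * g) * g := by rw [h2]
      _ = (g * (a * b)) * g * g := by simp only [mul_assoc]
      _ = (a * g) * g * g := by rw [h3]
      _ = a * (g * g * g) := by simp only [mul_assoc]
  have c2 : (g * g * g) * b = b * (g * g * g) := by
    calc g * g * g * b = g * g * (g * b) := mul_assoc _ _ _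
      _ = g * g * (a * b * g) := by rw [h2]
      _ = g * (g * (a * b)) * g := by simp only [mul_assoc]
      _ = g * (a * g) * g := by rw [h3]
      _ = (g * a) * g * g := by simp only [mul_assoc]
      _ = (b * g) * g * g := by rw [h1]
      _ = b * (g * g * g) := by simp only [mul_assoc]
  have hg3 := hC _ c1 c2
  intro h6
  rcases hg3 with h | h | h | h
  · have h' : g ^ 3 = 1 := by rw [pow_three']; exact h
    have hd := orderOf_dvd_of_pow_eq_one h'
    rw [h6] at hd
    exact absurd hd (by decide)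
  · have e : g * a = a * g := by rw [← h]; simp only [mul_assoc]
    rw [h1] at e
    exact hne (mul_right_cancel e).symm
  · have e : g * b = b * g := by rw [← h]; simp only [mul_assoc]
    rw [h2] at e
    have e' : a * b = b := mul_right_cancel e
    exact ha1 (mul_right_cancel (e'.trans (one_mul b).symm))
  · have e : g * (a * b) = a * b * g := by rw [← h]; simp only [mul_assoc]
    rw [h3] at e
    have e' : a = a * b := mul_right_cancel e
    exact hb1 (mul_left_cancel ((mul_one a).trans e')).symm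

theorem no6 {G : Type*} [Group G] (a b : G) (ha : a * a = 1) (hb : b * b = 1)
    (hab : a * b = b * a) (ha1 : a ≠ 1) (hb1 : b ≠ 1) (hne : a ≠ b)
    (hC : ∀ g : G, g * a = a * g → g * b = b * g → g = 1 ∨ g = a ∨ g = b ∨ g = a * b)
    (g : G)
    (hga : g * a * g⁻¹ = 1 ∨ g * a * g⁻¹ = a ∨ g * a * g⁻¹ = b ∨ g * a * g⁻¹ = a * b)
    (hgb : g * b * g⁻¹ = 1 ∨ g * b * g⁻¹ = a ∨ g * b * g⁻¹ = b ∨ g * b * g⁻¹ = a * b) :
    orderOf g ≠ 6 := by
  have hab2 : (a * b) * (a * b) = 1 := by
    calc a * b * (a * b) = a * (b * a) * b := by simp only [mul_assoc]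
      _ = a * (a * b) * b := by rw [hab]
      _ = (a * a) * (b * b) := by simp only [mul_assoc]
      _ = 1 := by rw [ha, hb, one_mul]
  have hV : ∀ v : G, (v = 1 ∨ v = a ∨ v = b ∨ v = a * b) → v * v = 1 := by
    intro v hv
    rcases hv with h | h | h | h
    · rw [h, one_mul]
    · rw [h]; exact ha
    · rw [h]; exact hb
    · rw [h]; exact hab2
  have hC' : ∀ g : G, g * b = b * g → g * a = a * g → g = 1 ∨ g = b ∨ g = a ∨ g = b * a := by
    intro g h1 h2
    rcases hC g h2 h1 with h | h | h | h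
    · exact Or.inl h
    · exact Or.inr (Or.inr (Or.inl h))
    · exact Or.inr (Or.inl h)
    · exact Or.inr (Or.inr (Or.inr (h.trans hab)))
  have hinj : g * a * g⁻¹ ≠ g * b * g⁻¹ := fun h => hne (mul_left_cancel (mul_right_cancel h))
  have hga1 : g * a * g⁻¹ ≠ 1 := fun h => ha1 (conj_eq_one_iff.1 h)
  have hgb1 : g * b * g⁻¹ ≠ 1 := fun h => hb1 (conj_eq_one_iff.1 h)
  rcases hga with h1 | h1 | h1 | h1
  · exact absurd h1 hga1
  · rcases hgb with h2 | h2 | h2 | h2
    · exact absurd h2 hgb1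
    · exact absurd (h1.trans h2.symm) hinj
    · -- g centralizes
      rw [mul_inv_eq_iff_eq_mul] at h1 h2
      have h := hV _ (hC g h1 h2)
      intro h6
      have hd := orderOf_dvd_of_pow_eq_one (show g ^ 2 = 1 by rw [pow_two]; exact h)
      rw [h6] at hd
      exact absurd hd (by decide)
    · rw [mul_inv_eq_iff_eq_mul] at h1 h2
      apply no6_sq a b g hV hC
      · calc g * g * a = g * (g * a) := mul_assoc _ _ _
          _ = g * (a * g) := by rw [h1]
          _ = (g * a) * g := (mul_assoc _ _ _).symm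
          _ = a * g * g := by rw [h1]
          _ = a * (g * g) := mul_assoc _ _ _
      · calc g * g * b = g * (g * b) := mul_assoc _ _ _
          _ = g * (a * b * g) := by rw [h2]
          _ = (g * a) * (b * g) := by simp only [mul_assoc]
          _ = (a * g) * (b * g) := by rw [h1]
          _ = a * (g * b) * g := by simp only [mul_assoc]
          _ = a * (a * b * g) * g := by rw [h2]
          _ = (a * a) * (b * (g * g)) := by simp only [mul_assoc]
          _ = b * (g * g) := by rw [ha, one_mul]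
  · rcases hgb with h2 | h2 | h2 | h2
    · exact absurd h2 hgb1
    · rw [mul_inv_eq_iff_eq_mul] at h1 h2
      apply no6_sq a b g hV hC
      · calc g * g * a = g * (g * a) := mul_assoc _ _ _
          _ = g * (b * g) := by rw [h1]
          _ = (g * b) * g := (mul_assoc _ _ _).symm
          _ = a * g * g := by rw [h2]
          _ = a * (g * g) := mul_assoc _ _ _
      · calc g * g * b = g * (g * b) := mul_assoc _ _ _
          _ = g * (a * g) := by rw [h2]
          _ = (g * a) * g := (mul_assoc _ _ _).symm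
          _ = b * g * g := by rw [h1]
          _ = b * (g * g) := mul_assoc _ _ _
    · exact absurd (h1.trans h2.symm) hinj
    · rw [mul_inv_eq_iff_eq_mul] at h1 h2
      exact no6_cyc a b g hb hab ha1 hb1 hne hC h1 h2
  · rcases hgb with h2 | h2 | h2 | h2
    · exact absurd h2 hgb1
    · rw [mul_inv_eq_iff_eq_mul] at h1 h2
      have h1' : g * a = b * a * g := by rw [h1, hab]
      exact no6_cyc b a g ha hab.symm hb1 ha1 (Ne.symm hne) hC' h2 h1'
    · rw [mul_inv_eq_iff_eq_mul] at h1 h2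
      apply no6_sq a b g hV hC
      · calc g * g * a = g * (g * a) := mul_assoc _ _ _
          _ = g * (a * b * g) := by rw [h1]
          _ = (g * a) * (b * g) := by simp only [mul_assoc]
          _ = (a * b * g) * (b * g) := by rw [h1]
          _ = a * b * (g * b) * g := by simp only [mul_assoc]
          _ = a * b * (b * g) * g := by rw [h2]
          _ = a * ((b * b) * (g * g)) := by simp only [mul_assoc]
          _ = a * (g * g) := by rw [hb, one_mul]
      · calc g * g * b = g * (g * b) := mul_assoc _ _ _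
          _ = g * (b * g) := by rw [h2]
          _ = (g * b) * g := (mul_assoc _ _ _).symm
          _ = b * g * g := by rw [h2]
          _ = b * (g * g) := mul_assoc _ _ _
    · exact absurd (h1.trans h2.symm) hinj

/-! ### matrices -/

section

variable {F : Type*} [Field F]

local notation "SL2" => Matrix.SpecialLinearGroup (Fin 2) F
local notation "M2" => Matrix (Fin 2) (Fin 2) F
local notation "PSL2" => Matrix.ProjectiveSpecialLinearGroup (Fin 2) F
local notation "mk" => (QuotientGroup.mk' (Subgroup.center (Matrix.SpecialLinearGroup (Fin 2) F)))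

theorem comm_cases (γ x : SL2) (h : mk γ * mk x = mk x * mk γ) :
    γ * x = x * γ ∨ γ * x = negOne F * (x * γ) := by
  rw [← map_mul, ← map_mul] at h
  have h1 : (γ * x)⁻¹ * (x * γ) ∈ Subgroup.center SL2 := QuotientGroup.eq.1 h
  rcases (mem_center_iff' _).1 h1 with h2 | h2
  · left; exact inv_mul_eq_one.1 h2
  · right
    have h3 : x * γ = γ * x * negOne F := inv_mul_eq_iff_eq_mul.1 h2
    rw [h3, negOne_comm, mul_assoc, negOne_mul_self, mul_one]

theorem cent_V [Fintype F] (hF : Odd (Fintype.card F)) (x y : SL2) (hp : PT (x, y)) (g : PSL2)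
    (h1 : g * mk x = mk x * g) (h2 : g * mk y = mk y * g) :
    g = 1 ∨ g = mk x ∨ g = mk y ∨ g = mk x * mk y := by
  obtain ⟨γ, rfl⟩ := QuotientGroup.mk'_surjective (Subgroup.center SL2) g
  have hnn := negOne_mul_self (F := F)
  have hnc := negOne_comm (F := F)
  have hxy : x * y = negOne F * (y * x) := hp.2.2
  have hyx : y * x = negOne F * (x * y) := by rw [hxy, ← mul_assoc, hnn, one_mul]
  have hbar := (PT_iff hF x y).1 hp
  have haa : mk x * mk x = 1 := hbar.2.2.2.1
  have hbb : mk y * mk y = 1 := hbar.2.2.2.2.1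
  have hab : mk x * mk y = mk y * mk x := hbar.2.2.2.2.2
  have habab : mk (x * y) * mk (x * y) = 1 := by
    rw [map_mul]
    calc mk x * mk y * (mk x * mk y) = mk x * (mk y * mk x) * mk y := by simp only [mul_assoc]
      _ = mk x * (mk x * mk y) * mk y := by rw [← hab]
      _ = (mk x * mk x) * (mk y * mk y) := by simp only [mul_assoc]
      _ = 1 := by rw [haa, hbb, one_mul]
  have one_c : ∀ w : SL2, (1 : SL2) * w = w * 1 := fun w => by rw [one_mul, mul_one]
  have fin : ∀ u : SL2, γ * u ∈ Subgroup.center SL2 → mk u * mk u = 1 → mk γ = mk u := by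
    intro u hu huu
    have e1 : mk γ * mk u = 1 := by
      rw [← map_mul]; exact (QuotientGroup.eq_one_iff _).2 hu
    have e2 : (mk u)⁻¹ = mk u := inv_eq_of_mul_eq_one_right huu
    rw [← e2]
    exact eq_inv_of_mul_eq_one_left e1
  have hxyx : x * y * x = negOne F * (x * (x * y)) := by
    calc x * y * x = x * (y * x) := mul_assoc _ _ _
      _ = x * (negOne F * (x * y)) := by rw [hyx]
      _ = (x * negOne F) * (x * y) := (mul_assoc _ _ _).symm
      _ = (negOne F * x) * (x * y) := by rw [hnc x]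
      _ = negOne F * (x * (x * y)) := mul_assoc _ _ _
  have hxyy : x * y * y = negOne F * (y * (x * y)) := by
    symm
    calc negOne F * (y * (x * y)) = negOne F * ((y * x) * y) := by rw [← mul_assoc y x y]
      _ = negOne F * ((negOne F * (x * y)) * y) := by rw [hyx]
      _ = (negOne F * negOne F) * ((x * y) * y) := by simp only [mul_assoc]
      _ = x * y * y := by rw [hnn, one_mul]
  rcases comm_cases γ x h1 with c1 | c1 <;> rcases comm_cases γ y h2 with c2 | c2
  · left
    exact (QuotientGroup.eq_one_iff _).2 (core hF x y γ hp c1 c2)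
  · right; left
    apply fin x _ haa
    apply core hF x y (γ * x) hp
    · exact sgn_mul 1 one_c (one_mul 1) γ x x (by rw [one_mul]; exact c1) (by rw [one_mul])
    · exact sgn_mul (negOne F) hnc hnn γ x y c2 hxy
  · right; right; left
    apply fin y _ hbb
    apply core hF x y (γ * y) hp
    · exact sgn_mul (negOne F) hnc hnn γ y x c1 hyx
    · exact sgn_mul 1 one_c (one_mul 1) γ y y (by rw [one_mul]; exact c2) (by rw [one_mul])
  · right; right; right
    rw [← map_mul]
    apply fin (x * y) _ habab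
    apply core hF x y (γ * (x * y)) hp
    · exact sgn_mul (negOne F) hnc hnn γ (x * y) x c1 hxyx
    · exact sgn_mul (negOne F) hnc hnn γ (x * y) y c2 hxyy

theorem exists_xyw [Fintype F] (hF : Odd (Fintype.card F)) :
    ∃ x y ω : SL2, PT (x, y) ∧ ω * x = y * ω ∧ ω * y = x * y * ω ∧
      ω * ω * ω ∈ Subgroup.center SL2 := by
  have h2 := Cfsg.Agent.S0268.two_ne_zero_of_odd_card hF
  obtain ⟨d, e, h⟩ : ∃ d e : F, d * d + e * e = -1 := by
    have hR : Fintype.card F % 2 = 1 := Nat.odd_iff.1 hF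
    obtain ⟨a, b, hab⟩ := FiniteField.exists_root_sum_quadratic
      (f := (Polynomial.X : Polynomial F) ^ 2) (g := Polynomial.X ^ 2 + Polynomial.C 1)
      (Polynomial.degree_X_pow 2) (Polynomial.degree_X_pow_add_C (by norm_num) 1) hR
    refine ⟨a, b, ?_⟩
    simp at hab
    linear_combination hab
  have hr : (2 : F) * 2⁻¹ = 1 := mul_inv_cancel₀ h2
  obtain ⟨ω, hω⟩ : ∃ ω : SL2, ω = omg (2⁻¹ : F) d e hr h := ⟨_, rfl⟩
  obtain ⟨Y, hY⟩ : ∃ Y : SL2, Y = mkJ d e e h := ⟨_, rfl⟩
  have hYJ : IsJ Y := by rw [hY]; exact isJ_mkJ _ _ _ _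
  have hYa : x0 F * Y = negOne F * (Y * x0 F) := by
    rw [anti_x0_iff, hY, coe_mkJ]; simp
  have hPT : PT (x0 F, Y) := ⟨x0_J, hYJ, hYa⟩
  have R1 : ω * x0 F = Y * ω := by rw [hω, hY]; exact omg_R1 _ d e hr h
  have R2 : ω * Y = x0 F * Y * ω := by rw [hω, hY]; exact omg_R2 _ d e hr h
  have hnn := negOne_mul_self (F := F)
  have hnc := negOne_comm (F := F)
  have hYY : Y * Y = negOne F := hYJ
  have hA : Y * x0 F = negOne F * (x0 F * Y) := by
    rw [hYa, ← mul_assoc, hnn, one_mul]
  have hYxY : Y * x0 F * Y = x0 F := by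
    calc Y * x0 F * Y = negOne F * (x0 F * Y) * Y := by rw [hA]
      _ = negOne F * (x0 F * (Y * Y)) := by simp only [mul_assoc]
      _ = negOne F * (x0 F * negOne F) := by rw [hYY]
      _ = negOne F * (negOne F * x0 F) := by rw [hnc (x0 F)]
      _ = x0 F := by rw [← mul_assoc, hnn, one_mul]
  have R3 : ω * (x0 F * Y) = x0 F * ω := by
    calc ω * (x0 F * Y) = (ω * x0 F) * Y := by rw [mul_assoc]
      _ = Y * (ω * Y) := by rw [R1, mul_assoc]
      _ = Y * (x0 F * Y * ω) := by rw [R2]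
      _ = (Y * x0 F * Y) * ω := by simp only [mul_assoc]
      _ = x0 F * ω := by rw [hYxY]
  have e1 : ω * ω * ω * x0 F = x0 F * (ω * ω * ω) := by
    calc ω * ω * ω * x0 F = ω * ω * (ω * x0 F) := by simp only [mul_assoc]
      _ = ω * ω * (Y * ω) := by rw [R1]
      _ = ω * (ω * Y) * ω := by simp only [mul_assoc]
      _ = ω * (x0 F * Y * ω) * ω := by rw [R2]
      _ = (ω * (x0 F * Y)) * ω * ω := by simp only [mul_assoc]
      _ = (x0 F * ω) * ω * ω := by rw [R3]
      _ = x0 F * (ω * ω * ω) := by simp only [mul_assoc]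
  have e2 : ω * ω * ω * Y = Y * (ω * ω * ω) := by
    calc ω * ω * ω * Y = ω * ω * (ω * Y) := by simp only [mul_assoc]
      _ = ω * ω * (x0 F * Y * ω) := by rw [R2]
      _ = ω * (ω * (x0 F * Y)) * ω := by simp only [mul_assoc]
      _ = ω * (x0 F * ω) * ω := by rw [R3]
      _ = (ω * x0 F) * ω * ω := by simp only [mul_assoc]
      _ = (Y * ω) * ω * ω := by rw [R1]
      _ = Y * (ω * ω * ω) := by simp only [mul_assoc]
  have hmem := core hF (x0 F) Y (ω * ω * ω) hPT e1 e2
  exact ⟨x0 F, Y, ω, hPT, R1, R2, hmem⟩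

theorem sq_of_fourth (h2 : (2 : F) = 0) (γ : SL2) (h : (γ * γ) * (γ * γ) = 1) : γ * γ = 1 := by
  have hdet := det_entries γ
  have hdetM := det_entries (γ * γ)
  have k00 := mul_entries γ γ 0 0
  have k01 := mul_entries γ γ 0 1
  have k10 := mul_entries γ γ 1 0
  have k11 := mul_entries γ γ 1 1
  have E00 := mul_entries (γ * γ) (γ * γ) 0 0
  have E01 := mul_entries (γ * γ) (γ * γ) 0 1
  rw [h, Matrix.SpecialLinearGroup.coe_one, Matrix.one_apply_eq] at E00
  rw [h, Matrix.SpecialLinearGroup.coe_one, Matrix.one_apply_ne (by decide)] at E01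
  obtain ⟨m00, hm00⟩ : ∃ m, m = ((γ * γ : SL2) : M2) 0 0 := ⟨_, rfl⟩
  obtain ⟨m01, hm01⟩ : ∃ m, m = ((γ * γ : SL2) : M2) 0 1 := ⟨_, rfl⟩
  obtain ⟨m10, hm10⟩ : ∃ m, m = ((γ * γ : SL2) : M2) 1 0 := ⟨_, rfl⟩
  obtain ⟨m11, hm11⟩ : ∃ m, m = ((γ * γ : SL2) : M2) 1 1 := ⟨_, rfl⟩
  simp only [← hm00, ← hm01, ← hm10, ← hm11] at k00 k01 k10 k11 E00 E01 hdetM
  obtain ⟨a, ha⟩ : ∃ m, m = (γ : M2) 0 0 := ⟨_, rfl⟩
  obtain ⟨b, hb⟩ : ∃ m, m = (γ : M2) 0 1 := ⟨_, rfl⟩
  obtain ⟨c, hc⟩ : ∃ m, m = (γ : M2) 1 0 := ⟨_, rfl⟩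
  obtain ⟨d, hd⟩ : ∃ m, m = (γ : M2) 1 1 := ⟨_, rfl⟩
  simp only [← ha, ← hb, ← hc, ← hd] at k00 k01 k10 k11 hdet
  have ht0 : m00 * (m00 + m11) = 0 := by linear_combination (-1 : F) * E00 + hdetM + h2
  have ht1 : m01 * (m00 + m11) = 0 := by linear_combination (-1 : F) * E01
  have ht : m00 + m11 = 0 := by
    by_contra hne
    have h00z : m00 = 0 := (mul_eq_zero.1 ht0).resolve_right hne
    have h01z : m01 = 0 := (mul_eq_zero.1 ht1).resolve_right hne
    have : (0 : F) = 1 := by linear_combination hdetM - m11 * h00z + m10 * h01z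
    exact zero_ne_one this
  have hTT : (a + d) * (a + d) = 0 := by
    linear_combination ht - k00 - k11 + 2 * hdet + h2
  have hT : a + d = 0 := mul_self_eq_zero.1 hTT
  apply Subtype.ext
  apply ext2
  · rw [← hm00, Matrix.SpecialLinearGroup.coe_one, Matrix.one_apply_eq]
    linear_combination k00 - hdet + a * hT - h2
  · rw [← hm01, Matrix.SpecialLinearGroup.coe_one, Matrix.one_apply_ne (by decide)]
    linear_combination k01 + b * hT
  · rw [← hm10, Matrix.SpecialLinearGroup.coe_one, Matrix.one_apply_ne (by decide)]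
    linear_combination k10 + c * hT
  · rw [← hm11, Matrix.SpecialLinearGroup.coe_one, Matrix.one_apply_eq]
    linear_combination k11 - hdet + d * hT - h2

end

theorem arith1 (m : ℕ) (h : 8 ∣ (2 * m + 1) * m * (2 * m + 2)) : (2 * m + 1) ^ 2 % 16 = 1 := by
  obtain ⟨k, r, hr, rfl⟩ : ∃ k r, r < 4 ∧ m = 4 * k + r :=
    ⟨m / 4, m % 4, Nat.mod_lt _ (by norm_num), (Nat.div_add_mod m 4).symm⟩
  interval_cases r
  · ring_nf; omega
  · exfalso; ring_nf at h; omega
  · exfalso; ring_nf at h; omega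
  · ring_nf; omega

theorem arith2 (m : ℕ) (h : (2 * m + 1) ^ 2 % 16 = 1) : 8 ∣ (2 * m + 1) * m * (2 * m + 2) := by
  obtain ⟨k, r, hr, rfl⟩ : ∃ k r, r < 4 ∧ m = 4 * k + r :=
    ⟨m / 4, m % 4, Nat.mod_lt _ (by norm_num), (Nat.div_add_mod m 4).symm⟩
  interval_cases r
  · ring_nf; omega
  · exfalso; ring_nf at h; omega
  · exfalso; ring_nf at h; omega
  · ring_nf; omega

theorem S4_elem : ∃ σ : Equiv.Perm (Fin 4), (σ * σ) * (σ * σ) = 1 ∧ σ * σ ≠ 1 :=
  ⟨Equiv.swap 0 1 * Equiv.swap 1 2 * Equiv.swap 2 3, by decide, by decide⟩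

section

variable {F : Type*} [Field F]

local notation "SL2" => Matrix.SpecialLinearGroup (Fin 2) F
local notation "M2" => Matrix (Fin 2) (Fin 2) F
local notation "PSL2" => Matrix.ProjectiveSpecialLinearGroup (Fin 2) F
local notation "mk" => (QuotientGroup.mk' (Subgroup.center (Matrix.SpecialLinearGroup (Fin 2) F)))

theorem exists_S4 [Fintype F] (hF : Odd (Fintype.card F)) (h8 : 8 ∣ Nat.card PSL2) :
    ∃ H : Subgroup PSL2, Nonempty (H ≃* Equiv.Perm (Fin 4)) := by
  classical
  haveI : Fact (Nat.Prime 2) := ⟨Nat.prime_two⟩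
  obtain ⟨x, y, ω, hPT, R1, R2, hω3⟩ := exists_xyw hF
  have hbar := (PT_iff hF x y).1 hPT
  obtain ⟨a, ha⟩ : ∃ a : PSL2, a = mk x := ⟨_, rfl⟩
  obtain ⟨b, hb⟩ : ∃ b : PSL2, b = mk y := ⟨_, rfl⟩
  obtain ⟨c, hc⟩ : ∃ c : PSL2, c = mk ω := ⟨_, rfl⟩
  rw [← ha, ← hb] at hbar
  obtain ⟨ha1, hb1, hne, haa, hbb, hab⟩ := hbar
  dsimp only at ha1 hb1 hne haa hbb hab
  have hca : c * a * c⁻¹ = b := by
    rw [hc, ha, hb, ← map_inv, ← map_mul, ← map_mul, mul_inv_eq_iff_eq_mul.2 R1]
  have hcb : c * b * c⁻¹ = a * b := by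
    rw [hc, ha, hb, ← map_inv, ← map_mul, ← map_mul, ← map_mul, mul_inv_eq_iff_eq_mul.2 R2]
  have hc3 : c ^ 3 = 1 := by
    rw [hc, ← map_pow, pow_three']
    exact (QuotientGroup.eq_one_iff _).2 hω3
  have hC : ∀ g : PSL2, g * a = a * g → g * b = b * g →
      g = 1 ∨ g = a ∨ g = b ∨ g = a * b := by
    intro g h1 h2
    rw [ha] at h1
    rw [hb] at h2
    rw [ha, hb]
    exact cent_V hF x y hPT g h1 h2
  obtain ⟨V, hV⟩ : ∃ V : Subgroup PSL2, V = kl a b haa hbb hab := ⟨_, rfl⟩
  have hmemV : ∀ w : PSL2, w ∈ V ↔ w = 1 ∨ w = a ∨ w = b ∨ w = a * b := by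
    intro w; rw [hV]; exact mem_kl a b haa hbb hab w
  have hVk : IsKleinFour V := by rw [hV]; exact kl_klein a b haa hbb hab ha1 hb1 hne
  have hV4 : Nat.card V = 4 := hVk.card_four
  have haV : a ∈ V := (hmemV a).2 (Or.inr (Or.inl rfl))
  have hbV : b ∈ V := (hmemV b).2 (Or.inr (Or.inr (Or.inl rfl)))
  obtain ⟨N, hN⟩ : ∃ N : Subgroup PSL2, N = Subgroup.normalizer (V : Set PSL2) := ⟨_, rfl⟩
  have hmemN : ∀ g : PSL2, g ∈ N ↔ ∀ h, h ∈ V ↔ g * h * g⁻¹ ∈ V := by
    intro g; rw [hN]; exact Subgroup.mem_normalizer_iff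
  have hconj : ∀ g ∈ N, ∀ v ∈ V, g * v * g⁻¹ ∈ V := fun g hg v hv => ((hmemN g).1 hg v).1 hv
  -- c normalizes V
  have hcab : c * (a * b) * c⁻¹ = a := by
    calc c * (a * b) * c⁻¹ = (c * a * c⁻¹) * (c * b * c⁻¹) := by group
      _ = b * (a * b) := by rw [hca, hcb]
      _ = (b * a) * b := (mul_assoc _ _ _).symm
      _ = a * b * b := by rw [← hab]
      _ = a := by rw [mul_assoc, hbb, mul_one]
  have hcN : c ∈ N := by
    rw [hN]
    apply mem_normalizer_of_conj
    intro v hv
    rcases (hmemV v).1 hv with h | h | h | h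
    · rw [h, mul_one, mul_inv_cancel]; exact V.one_mem
    · rw [h, hca]; exact hbV
    · rw [h, hcb]; exact V.mul_mem haV hbV
    · rw [h, hcab]; exact haV
  have hc1 : c ≠ 1 := by
    intro h
    rw [h, one_mul, inv_one, mul_one] at hca
    exact hne hca
  have hoc : orderOf c = 3 := orderOf_eq_prime hc3 hc1
  have h3N : 3 ∣ Nat.card N := by
    have h := orderOf_dvd_natCard (⟨c, hcN⟩ : N)
    rwa [Subgroup.orderOf_mk, hoc] at h
  have h8N : 8 ∣ Nat.card N := by
    have h := Sylow.prime_pow_dvd_card_normalizer (p := 2) (n := 2)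
      (show 2 ^ (2 + 1) ∣ Nat.card PSL2 from h8) (H := V) (by rw [hV4]; norm_num)
    rw [hN]
    exact h
  have h24N : 24 ∣ Nat.card N :=
    Nat.Coprime.mul_dvd_of_dvd_of_dvd (by norm_num : Nat.Coprime 3 8) h3N h8N
  -- upper bound
  haveI : IsKleinFour V := hVk
  have hQ := card_Q V
  haveI : Finite {p : V × V // p.1 ≠ 1 ∧ p.2 ≠ 1 ∧ p.1 ≠ p.2} :=
    Nat.finite_of_card_ne_zero (by rw [hQ]; norm_num)
  let f : N → {p : V × V // p.1 ≠ 1 ∧ p.2 ≠ 1 ∧ p.1 ≠ p.2} := fun g =>
    ⟨(⟨g.1 * a * g.1⁻¹, hconj g.1 g.2 a haV⟩, ⟨g.1 * b * g.1⁻¹, hconj g.1 g.2 b hbV⟩),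
      fun h => ha1 (conj_eq_one_iff.1 (congrArg Subtype.val h)),
      fun h => hb1 (conj_eq_one_iff.1 (congrArg Subtype.val h)),
      fun h => hne (mul_left_cancel (mul_right_cancel (congrArg Subtype.val h)))⟩
  have hfib : ∀ s, Nat.card {g : N // f g = s} ≤ 4 := by
    intro s
    by_cases hnon : Nonempty {g : N // f g = s}
    · obtain ⟨⟨g₀, hg₀⟩⟩ := hnon
      have key : ∀ g : {g : N // f g = s}, (g₀.1⁻¹ * g.1.1) ∈ V := by
        intro g
        have e := g.2.trans hg₀.symm
        have e1 : g.1.1 * a * g.1.1⁻¹ = g₀.1 * a * g₀.1⁻¹ :=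
          congrArg (fun s : {p : V × V // p.1 ≠ 1 ∧ p.2 ≠ 1 ∧ p.1 ≠ p.2} => (s.1.1 : PSL2)) e
        have e2 : g.1.1 * b * g.1.1⁻¹ = g₀.1 * b * g₀.1⁻¹ :=
          congrArg (fun s : {p : V × V // p.1 ≠ 1 ∧ p.2 ≠ 1 ∧ p.1 ≠ p.2} => (s.1.2 : PSL2)) e
        rw [hmemV]
        exact hC _ (conj_eq_comm _ _ _ e1) (conj_eq_comm _ _ _ e2)
      let φ : {g : N // f g = s} → V := fun g => ⟨g₀.1⁻¹ * g.1.1, key g⟩
      have hφ : Function.Injective φ := by
        intro g g' hgg
        have h1 : g₀.1⁻¹ * g.1.1 = g₀.1⁻¹ * g'.1.1 := congrArg Subtype.val hgg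
        exact Subtype.ext (Subtype.ext (mul_left_cancel h1))
      haveI : Finite V := Nat.finite_of_card_ne_zero (by rw [hV4]; norm_num)
      have := Nat.card_le_card_of_injective φ hφ
      rwa [hV4] at this
    · rw [not_nonempty_iff] at hnon
      rw [Nat.card_of_isEmpty]
      norm_num
  have hle : Nat.card N ≤ 24 := by
    have := card_le_of_fibers f 4 hfib
    rwa [hQ] at this
  have hN24 : Nat.card N = 24 := le_antisymm hle (Nat.le_of_dvd Nat.card_pos h24N)
  have hno6 : ∀ g : N, orderOf g ≠ 6 := by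
    intro g
    rw [← Subgroup.orderOf_coe]
    apply no6 a b haa hbb hab ha1 hb1 hne hC
    · exact (hmemV _).1 (hconj g.1 g.2 a haV)
    · exact (hmemV _).1 (hconj g.1 g.2 b hbV)
  exact ⟨N, Cfsg.Agent.S1012.result hN24 hno6⟩

end

/-- PSL_2(q) has a subgroup isomorphic to S_4 iff q² ≡ 1 (mod 16). -/
theorem result {F : Type*} [Field F] [Fintype F] {q : ℕ} (hF : Fintype.card F = q) : (∃ H : Subgroup (Matrix.ProjectiveSpecialLinearGroup (Fin 2) F), Nonempty (H ≃* Equiv.Perm (Fin 4))) ↔ q ^ 2 % 16 = 1 := by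
  constructor
  · rintro ⟨H, ⟨e⟩⟩
    by_cases hodd : Odd (Fintype.card F)
    · obtain ⟨m, hm, hcard⟩ := card_PSL2' hodd
      have h24 : Nat.card H = 24 := by
        rw [Nat.card_congr e.toEquiv, Nat.card_perm, Nat.card_fin]
        rfl
      have hdvd : 24 ∣ Nat.card (Matrix.ProjectiveSpecialLinearGroup (Fin 2) F) := by
        rw [← h24]; exact Subgroup.card_subgroup_dvd_card H
      rw [hcard] at hdvd
      have h8 : 8 ∣ (2 * m + 1) * m * (2 * m + 2) := Dvd.dvd.trans (by norm_num) hdvd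
      rw [← hF, hm]
      exact arith1 m h8
    · exfalso
      have hch : ringChar F = 2 := by
        rw [FiniteField.even_card_iff_char_two]
        rcases Nat.even_or_odd (Fintype.card F) with h | h
        · exact Nat.even_iff.1 h
        · exact absurd h hodd
      have h2 : (2 : F) = 0 := by
        have h := ringChar.Nat.cast_ringChar (R := F)
        rw [hch] at h
        exact_mod_cast h
      obtain ⟨σ, hσ4, hσ2⟩ := S4_elem
      obtain ⟨g, hg⟩ : ∃ g : H, g = e.symm σ := ⟨_, rfl⟩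
      have h4 : (g * g) * (g * g) = 1 := by
        rw [hg, ← map_mul, ← map_mul, hσ4, map_one]
      have hn2 : g * g ≠ 1 := by
        intro h
        apply hσ2
        have h' := congrArg e h
        rw [hg, map_mul, map_one, e.apply_symm_apply] at h'
        exact h'
      obtain ⟨γ, hγ⟩ := QuotientGroup.mk'_surjective
        (Subgroup.center (Matrix.SpecialLinearGroup (Fin 2) F)) (g : Matrix.ProjectiveSpecialLinearGroup (Fin 2) F)
      have h4v : (g : Matrix.ProjectiveSpecialLinearGroup (Fin 2) F) * g * (g * g) = 1 :=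
        congrArg Subtype.val h4
      have h4' : QuotientGroup.mk' (Subgroup.center (Matrix.SpecialLinearGroup (Fin 2) F))
          ((γ * γ) * (γ * γ)) =
          QuotientGroup.mk' (Subgroup.center (Matrix.SpecialLinearGroup (Fin 2) F)) 1 := by
        rw [map_mul, map_mul, hγ, map_one]
        exact h4v
      have hsq := sq_of_fourth h2 γ (mk_inj h2 h4')
      apply hn2
      apply Subtype.ext
      show (g : Matrix.ProjectiveSpecialLinearGroup (Fin 2) F) * g = 1
      rw [← hγ, ← map_mul, hsq, map_one]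
  · intro hq
    have hodd : Odd (Fintype.card F) := by
      rw [hF]
      by_contra hne
      rw [Nat.not_odd_iff_even] at hne
      obtain ⟨j, hj⟩ := hne
      rw [hj] at hq
      ring_nf at hq
      omega
    obtain ⟨m, hm, hcard⟩ := card_PSL2' hodd
    apply exists_S4 hodd
    rw [hcard]
    apply arith2
    rw [← hm, hF]
    exact hq

end Cfsg.Agent.S0803
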