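import Mathlib
import Cfsg.Statements.S0805
import Cfsg.Agent.S0807
import Cfsg.Agent.S0808
import Cfsg.Agent.S0809
import Cfsg.Agent.S0268

set_option autoImplicit false
open Cfsg

namespace Cfsg.Agent.S0805

open Cfsg.Agent.S0809 Cfsg.Agent.S0807 Cfsg.Agent.S0808

/-! ### the subfield -/

theorem exists_ringHom {F K : Type*} [Field F] [Fintype F] [Field K] [Fintype K] (m : ℕ)
    (hK : Fintype.card K ^ m = Fintype.card F) : Nonempty (K →+* F) := by
  classical
  obtain ⟨p, hp⟩ := CharP.exists K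
  haveI := hp
  haveI hpp : Fact p.Prime := ⟨CharP.char_is_prime K p⟩
  letI : Algebra (ZMod p) K := ZMod.algebra K p
  have hcK := FiniteField.pow_finrank_eq_card p K
  have hFp : (p : F) = 0 := by
    have h1 : ((Fintype.card F : ℕ) : F) = 0 := FiniteField.cast_card_eq_zero F
    rw [← hK, ← hcK, ← pow_mul, Nat.cast_pow] at h1
    refine (pow_eq_zero_iff ?_).1 h1
    intro h0
    rw [h0, pow_zero] at h1
    exact one_ne_zero h1
  haveI : CharP F p := by
    have hd : ringChar F ∣ p := ringChar.dvd hFp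
    have hr : (ringChar F).Prime := CharP.char_is_prime F (ringChar F)
    have e : ringChar F = p := (Nat.prime_dvd_prime_iff_eq hr hpp.out).1 hd
    exact e ▸ ringChar.charP F
  letI : Algebra (ZMod p) F := ZMod.algebra F p
  have hcF := FiniteField.pow_finrank_eq_card p F
  have hfin : Module.finrank (ZMod p) F = Module.finrank (ZMod p) K * m := by
    apply Nat.pow_right_injective hpp.out.two_le
    show p ^ _ = p ^ _
    rw [hcF, pow_mul, hcK, hK]
  obtain ⟨g⟩ := FiniteField.nonempty_algHom_of_finrank_dvd (F := ZMod p) (K := K) (L := F)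
    ⟨m, hfin⟩
  exact ⟨g.toRingHom⟩

section

variable {F K : Type*} [Field F] [Field K]

theorem map_negOne (f : K →+* F) : Matrix.SpecialLinearGroup.map f (negOne K) = negOne F := by
  apply Subtype.ext
  show f.mapMatrix (-1 : Matrix (Fin 2) (Fin 2) K) = -1
  rw [map_neg, map_one]

theorem map_inj (f : K →+* F) :
    Function.Injective (Matrix.SpecialLinearGroup.map (n := Fin 2) f) := by
  intro A B h
  apply Subtype.ext
  ext i j
  have h1 := congrArg (fun X : Matrix.SpecialLinearGroup (Fin 2) F =>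
    (X : Matrix (Fin 2) (Fin 2) F) i j) h
  exact f.injective h1

theorem exists_PSL (f : K →+* F) :
    ∃ H : Subgroup (Matrix.ProjectiveSpecialLinearGroup (Fin 2) F),
      Nonempty (H ≃* Matrix.ProjectiveSpecialLinearGroup (Fin 2) K) := by
  let φ : Matrix.SpecialLinearGroup (Fin 2) K →* Matrix.ProjectiveSpecialLinearGroup (Fin 2) F :=
    (QuotientGroup.mk' (Subgroup.center (Matrix.SpecialLinearGroup (Fin 2) F))).comp
      (Matrix.SpecialLinearGroup.map f)
  have hker : φ.ker = Subgroup.center (Matrix.SpecialLinearGroup (Fin 2) K) := by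
    ext A
    rw [MonoidHom.mem_ker]
    show (QuotientGroup.mk' (Subgroup.center (Matrix.SpecialLinearGroup (Fin 2) F)))
      (Matrix.SpecialLinearGroup.map f A) = 1 ↔ _
    rw [QuotientGroup.mk'_apply, QuotientGroup.eq_one_iff, mem_center_iff', mem_center_iff']
    constructor
    · rintro (h | h)
      · left; apply map_inj f; rw [h, map_one]
      · right; apply map_inj f; rw [h, map_negOne]
    · rintro (h | h)
      · left; rw [h, map_one]
      · right; rw [h, map_negOne]
  exact ⟨φ.range, ⟨((QuotientGroup.quotientMulEquivOfEq hker.symm).trans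
    (QuotientGroup.quotientKerEquivRange φ)).symm⟩⟩

end

section

open Matrix

variable {F K : Type*} [Field F] [Field K]

theorem ker_GL (f : K →+* F) (A : GL (Fin 2) K)
    (h : Matrix.GeneralLinearGroup.map f A ∈ Subgroup.center (GL (Fin 2) F)) :
    A ∈ Subgroup.center (GL (Fin 2) K) := by
  rw [Matrix.GeneralLinearGroup.center_eq_range_scalar] at h ⊢
  obtain ⟨u, hu⟩ := h
  have e : ∀ i j, (if i = j then (u : F) else 0) = f (A i j) := by
    intro i j
    have h1 := congrArg (fun X : GL (Fin 2) F => (X : Matrix (Fin 2) (Fin 2) F) i j) hu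
    simp only [Matrix.GeneralLinearGroup.coe_scalar, Matrix.scalar_apply, Matrix.diagonal_apply] at h1
    exact h1
  have h01 : A 0 1 = 0 := by
    have := e 0 1
    rw [if_neg (by decide)] at this
    exact (map_eq_zero f).1 this.symm
  have h10 : A 1 0 = 0 := by
    have := e 1 0
    rw [if_neg (by decide)] at this
    exact (map_eq_zero f).1 this.symm
  have h11 : A 1 1 = A 0 0 := by
    have h0 := e 0 0
    have h1 := e 1 1
    rw [if_pos rfl] at h0 h1
    exact f.injective (h1.symm.trans h0)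
  have hne : A 0 0 ≠ 0 := by
    intro h0
    have := e 0 0
    rw [if_pos rfl, h0, map_zero] at this
    exact u.ne_zero this
  refine ⟨Units.mk0 (A 0 0) hne, ?_⟩
  apply Units.ext
  ext i j
  simp only [Matrix.GeneralLinearGroup.coe_scalar, Matrix.scalar_apply, Matrix.diagonal_apply, Units.val_mk0]
  fin_cases i <;> fin_cases j
  · simp
  · simp [h01]
  · simp [h10]
  · simp [h11]

def sclB (s : F) (M : GL (Fin 2) F) (h : (s⁻¹ • M.1).det = 1) :
    Matrix.SpecialLinearGroup (Fin 2) F := ⟨s⁻¹ • M.1, h⟩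

theorem exists_PGL (f : K →+* F) (hsq : ∀ d : K, d ≠ 0 → ∃ s : F, s * s = f d) :
    ∃ H : Subgroup (Matrix.ProjectiveSpecialLinearGroup (Fin 2) F),
      Nonempty (H ≃* Matrix.ProjGenLinGroup (Fin 2) K) := by
  let ψ : GL (Fin 2) K →* Matrix.ProjGenLinGroup (Fin 2) F :=
    (Matrix.ProjGenLinGroup.mk).comp (Matrix.GeneralLinearGroup.map f)
  have hψ : ψ.comp (Matrix.GeneralLinearGroup.scalar (Fin 2)) = 1 := by
    ext u
    show Matrix.ProjGenLinGroup.mk (Matrix.GeneralLinearGroup.map f
      (Matrix.GeneralLinearGroup.scalar (Fin 2) u)) = 1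
    rw [Matrix.GeneralLinearGroup.map_scalar, Matrix.ProjGenLinGroup.mk_scalar]
  let ι : Matrix.ProjGenLinGroup (Fin 2) K →* Matrix.ProjGenLinGroup (Fin 2) F :=
    Matrix.ProjGenLinGroup.lift ψ hψ
  have hι : Function.Injective ι := by
    rw [injective_iff_map_eq_one]
    intro x hx
    induction x using Matrix.ProjGenLinGroup.induction_on with | mk g =>
    rw [Matrix.ProjGenLinGroup.lift_mk] at hx
    rw [Matrix.ProjGenLinGroup.mk_eq_one]
    apply ker_GL f
    rw [← Matrix.ProjGenLinGroup.mk_eq_one]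
    exact hx
  let τ : Matrix.ProjectiveSpecialLinearGroup (Fin 2) F →* Matrix.ProjGenLinGroup (Fin 2) F :=
    Matrix.ProjectiveSpecialLinearGroup.toPGL
  have hτ : Function.Injective τ := Matrix.ProjectiveSpecialLinearGroup.toPGL_injective
  have hR : ι.range ≤ τ.range := by
    rintro _ ⟨x, rfl⟩
    induction x using Matrix.ProjGenLinGroup.induction_on with | mk A =>
    rw [Matrix.ProjGenLinGroup.lift_mk]
    obtain ⟨s, hs⟩ := hsq (A.1.det) (Matrix.GeneralLinearGroup.det_ne_zero A)
    have hs0 : s ≠ 0 := by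
      intro h0
      rw [h0, mul_zero] at hs
      exact Matrix.GeneralLinearGroup.det_ne_zero A ((map_eq_zero f).1 hs.symm)
    have hdet : (s⁻¹ • (Matrix.GeneralLinearGroup.map f A).1).det = 1 := by
      rw [Matrix.det_smul, Fintype.card_fin]
      have : (Matrix.GeneralLinearGroup.map f A).1.det = f (A.1.det) := by
        show (f.mapMatrix A.1).det = f (A.1.det)
        exact (RingHom.map_det f A.1).symm
      rw [this, ← hs]
      field_simp
    refine ⟨QuotientGroup.mk (sclB s (Matrix.GeneralLinearGroup.map f A) hdet), ?_⟩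
    have e1 : τ (QuotientGroup.mk (sclB s (Matrix.GeneralLinearGroup.map f A) hdet)) =
        Matrix.ProjGenLinGroup.mk (Matrix.SpecialLinearGroup.toGL
          (sclB s (Matrix.GeneralLinearGroup.map f A) hdet)) :=
      Matrix.ProjectiveSpecialLinearGroup.toPGL_mk _
    rw [e1]
    show _ = Matrix.ProjGenLinGroup.mk (Matrix.GeneralLinearGroup.map f A)
    rw [Matrix.ProjGenLinGroup.mk_eq_mk_iff]
    refine ⟨Units.mk0 s hs0, Units.ext ?_⟩
    rw [Units.val_mul, Matrix.SpecialLinearGroup.coe_GL_coe_matrix, Matrix.GeneralLinearGroup.coe_scalar]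
    show (s⁻¹ • (Matrix.GeneralLinearGroup.map f A).1) * Matrix.scalar (Fin 2) s = _
    rw [Matrix.scalar_apply, ← Matrix.smul_one_eq_diagonal, Matrix.smul_mul, Matrix.mul_smul,
      Matrix.mul_one, smul_smul, inv_mul_cancel₀ hs0, one_smul]
  let H : Subgroup (Matrix.ProjectiveSpecialLinearGroup (Fin 2) F) := ι.range.comap τ
  have hbij : Function.Bijective (τ.subgroupComap ι.range) := by
    constructor
    · intro a b hab
      apply Subtype.ext
      apply hτ
      exact congrArg Subtype.val hab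
    · rintro ⟨y, hy⟩
      obtain ⟨P, hP⟩ := hR hy
      exact ⟨⟨P, by show τ P ∈ ι.range; rw [hP]; exact hy⟩, Subtype.ext hP⟩
  exact ⟨H, ⟨(MulEquiv.ofBijective (τ.subgroupComap ι.range) hbij).trans
    (MonoidHom.ofInjective hι).symm⟩⟩

end

/-! ### arithmetic -/

theorem geom (R' : ℕ) (k : ℕ) :
    R' * (∑ i ∈ Finset.range k, (R' + 1) ^ i) + 1 = (R' + 1) ^ k := by
  induction k with
  | zero => simp
  | succ k ih =>
    rw [Finset.sum_range_succ, mul_add, pow_succ]
    calc R' * ∑ i ∈ Finset.range k, (R' + 1) ^ i + R' * (R' + 1) ^ k + 1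
        = (R' * ∑ i ∈ Finset.range k, (R' + 1) ^ i + 1) + R' * (R' + 1) ^ k := by ring
      _ = (R' + 1) ^ k + R' * (R' + 1) ^ k := by rw [ih]
      _ = (R' + 1) ^ k * (R' + 1) := by ring

theorem geom_parity (R : ℕ) (hR : R % 2 = 1) (k : ℕ) :
    (∑ i ∈ Finset.range k, R ^ i) % 2 = k % 2 := by
  induction k with
  | zero => simp
  | succ k ih =>
    rw [Finset.sum_range_succ, Nat.add_mod, ih, Nat.pow_mod, hR, one_pow]
    omega

theorem arith_odd (a M m N r q : ℕ) (ha : 1 ≤ a) (hr : r = 2 * a + 1) (hq : q = 2 * M + 1)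
    (hqr : r ^ m = q) (hN : N * (r - 1) = (r ^ 2 - 1) * (r ^ 2 - r))
    (hdvd : N ∣ (2 * M + 1) * M * (2 * M + 2)) : Even m := by
  by_contra hne
  rw [Nat.not_even_iff_odd] at hne
  obtain ⟨R', hR'⟩ : ∃ R' : ℕ, R' = 4 * a * (a + 1) := ⟨_, rfl⟩
  have hr2 : r ^ 2 = R' + 1 := by rw [hr, hR']; ring
  have e1 : r ^ 2 - 1 = R' := by rw [hr2]; exact Nat.add_sub_cancel _ _
  have e2 : r ^ 2 - r = (2 * a + 1) * (2 * a) := by
    apply Nat.sub_eq_of_eq_add
    rw [hr]; ring
  have e3 : r - 1 = 2 * a := by rw [hr]; exact Nat.add_sub_cancel _ _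
  rw [e1, e2, e3] at hN
  have hNval : N = R' * (2 * a + 1) := by
    have h2a : 0 < 2 * a := by omega
    apply Nat.eq_of_mul_eq_mul_right h2a
    rw [hN]; ring
  obtain ⟨S, hS⟩ : ∃ S : ℕ, S = ∑ i ∈ Finset.range m, (R' + 1) ^ i := ⟨_, rfl⟩
  have hg := geom R' m
  rw [← hS, ← hr2, ← pow_mul, mul_comm 2 m, pow_mul, hqr, hq] at hg
  have hRS : R' * S = 4 * M * M + 4 * M := by
    have h1 : R' * S + 1 = 4 * M * M + 4 * M + 1 := by rw [hg]; ring
    exact Nat.add_right_cancel h1
  have hSpar : S % 2 = 1 := by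
    rw [hS, geom_parity (R' + 1) (by rw [hR']; have : 4 * a * (a + 1) = 2 * (2 * a * (a + 1)) := by ring
                                     omega) m]
    exact Nat.odd_iff.1 hne
  obtain ⟨c, hc⟩ := hdvd
  have hR'pos : 0 < R' := by
    rw [hR']
    have : 0 < 4 * a := by omega
    exact Nat.mul_pos this (by omega)
  have key : q * S = 2 * ((2 * a + 1) * c) := by
    apply Nat.eq_of_mul_eq_mul_left hR'pos
    calc R' * (q * S) = q * (R' * S) := by ring
      _ = (2 * M + 1) * (4 * M * M + 4 * M) := by rw [hRS, hq]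
      _ = 2 * ((2 * M + 1) * M * (2 * M + 2)) := by ring
      _ = 2 * (N * c) := by rw [hc]
      _ = 2 * (R' * (2 * a + 1) * c) := by rw [hNval]
      _ = R' * (2 * ((2 * a + 1) * c)) := by ring
  have hpar : (q * S) % 2 = 1 := by
    rw [Nat.mul_mod, hSpar, hq]
    omega
  rw [key] at hpar
  omega

section

open Matrix

variable {F K : Type*} [Field F] [Field K]

theorem exists_sqrt [Fintype F] [Fintype K] (f : K →+* F) (hodd : Odd (Fintype.card F)) (k : ℕ)
    (hK : Fintype.card K ^ (k + k) = Fintype.card F) (d : K) (hd : d ≠ 0) :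
    ∃ s : F, s * s = f d := by
  have hch : ringChar F ≠ 2 := by
    intro hc
    have h1 := FiniteField.even_card_iff_char_two.1 hc
    have h2 := Nat.odd_iff.1 hodd
    omega
  have hfd : f d ≠ 0 := (map_ne_zero f).2 hd
  have h1 : d ^ (Fintype.card K - 1) = 1 := FiniteField.pow_card_sub_one_eq_one d hd
  have hk0 : k + k ≠ 0 := by
    intro h0
    rw [h0, pow_zero] at hK
    have := Fintype.one_lt_card (α := F)
    omega
  have hrodd : Odd (Fintype.card K) := by
    by_contra hne
    rw [Nat.not_odd_iff_even] at hne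
    have h2 : Even (Fintype.card F) := by rw [← hK]; exact (Nat.even_pow.2 ⟨hne, hk0⟩)
    exact (Nat.not_even_iff_odd.2 hodd) h2
  obtain ⟨a, ha⟩ := hrodd
  obtain ⟨S, hS⟩ : ∃ S : ℕ, S = ∑ i ∈ Finset.range k, (4 * a * (a + 1) + 1) ^ i := ⟨_, rfl⟩
  have hg := geom (4 * a * (a + 1)) k
  rw [← hS] at hg
  obtain ⟨Y, hY⟩ : ∃ Y : ℕ, Y = a * ((a + 1) * S) := ⟨_, rfl⟩
  have hq : Fintype.card F = 2 * (2 * Y) + 1 := by
    rw [← hK, ha, ← two_mul, pow_mul]
    have e : (2 * a + 1) ^ 2 = 4 * a * (a + 1) + 1 := by ring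
    rw [e, ← hg, hY]; ring
  have hhalf : Fintype.card F / 2 = (Fintype.card K - 1) * ((a + 1) * S) := by
    have e1 : (Fintype.card K - 1) * ((a + 1) * S) = 2 * Y := by
      rw [ha, Nat.add_sub_cancel, hY]; ring
    rw [e1, hq]
    omega
  have hsq : IsSquare (f d) := by
    rw [FiniteField.isSquare_iff hch hfd, hhalf, pow_mul, ← map_pow, h1, map_one, one_pow]
  obtain ⟨s, hs⟩ := hsq
  exact ⟨s, hs.symm⟩

theorem card_PGL2 [Fintype K] :
    Nat.card (Matrix.ProjGenLinGroup (Fin 2) K) * (Fintype.card K - 1) =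
      (Fintype.card K ^ 2 - 1) * (Fintype.card K ^ 2 - Fintype.card K) := by
  classical
  have h1 := Subgroup.card_eq_card_quotient_mul_card_subgroup (Subgroup.center (GL (Fin 2) K))
  have h2 : Nat.card (Subgroup.center (GL (Fin 2) K)) = Fintype.card K - 1 := by
    rw [Matrix.GeneralLinearGroup.center_eq_range_scalar]
    have hinj : Function.Injective
        (Matrix.GeneralLinearGroup.scalar (Fin 2) : Kˣ →* GL (Fin 2) K) := by
      intro u v huv
      have h := congrArg (fun X : GL (Fin 2) K => (X : Matrix (Fin 2) (Fin 2) K) 0 0) huv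
      simp only [Matrix.GeneralLinearGroup.coe_scalar, Matrix.scalar_apply,
        Matrix.diagonal_apply_eq] at h
      exact Units.ext h
    rw [← Nat.card_congr (MonoidHom.ofInjective hinj).toEquiv, Nat.card_eq_fintype_card,
      Fintype.card_units]
  have h3 := Matrix.card_GL_field (𝔽 := K) 2
  rw [Fin.prod_univ_two] at h3
  simp only [Fin.val_zero, Fin.val_one, pow_zero, pow_one] at h3
  show Nat.card (GL (Fin 2) K ⧸ Subgroup.center (GL (Fin 2) K)) * _ = _
  rw [← h2, ← h1, h3]

end

/-- Subfield subgroups: let F be a finite field of odd order q and K a finite field with |K|^m = q, m ≥ 1. Then PSL_2(F) has a subgroup isomorphic to PSL_2(K), and has a subgroup isomorphic to PGL_2(K) if and only if m is even. -/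
theorem result {F K : Type*} [Field F] [Fintype F] [Field K] [Fintype K] {q : ℕ} (hF : Fintype.card F = q) (hodd : Odd q) (m : ℕ) (hm : 1 ≤ m) (hK : Fintype.card K ^ m = q) : (∃ H : Subgroup (Matrix.ProjectiveSpecialLinearGroup (Fin 2) F), Nonempty (H ≃* Matrix.ProjectiveSpecialLinearGroup (Fin 2) K)) ∧ ((∃ H : Subgroup (Matrix.ProjectiveSpecialLinearGroup (Fin 2) F), Nonempty (H ≃* Matrix.ProjGenLinGroup (Fin 2) K)) ↔ Even m) := by
  obtain ⟨f⟩ := exists_ringHom (F := F) (K := K) m (hK.trans hF.symm)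
  have hoddF : Odd (Fintype.card F) := by rw [hF]; exact hodd
  refine ⟨exists_PSL f, ?_, ?_⟩
  · rintro ⟨H, ⟨e⟩⟩
    obtain ⟨M, hM, hcard⟩ := card_PSL2' hoddF
    have hdvd : Nat.card (Matrix.ProjGenLinGroup (Fin 2) K) ∣
        Nat.card (Matrix.ProjectiveSpecialLinearGroup (Fin 2) F) := by
      rw [← Nat.card_congr e.toEquiv]
      exact Subgroup.card_subgroup_dvd_card H
    rw [hcard] at hdvd
    have hrodd : Odd (Fintype.card K) := by
      by_contra hne
      rw [Nat.not_odd_iff_even] at hne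
      have h2 : Even q := by rw [← hK]; exact (Nat.even_pow.2 ⟨hne, by omega⟩)
      exact (Nat.not_even_iff_odd.2 hodd) h2
    obtain ⟨a, ha⟩ := hrodd
    have ha1 : 1 ≤ a := by
      have := Fintype.one_lt_card (α := K)
      omega
    exact arith_odd a M m _ (Fintype.card K) (Fintype.card F) ha1 ha hM (hK.trans hF.symm)
      card_PGL2 hdvd
  · rintro ⟨k, hk⟩
    apply exists_PGL f
    intro d hd
    exact exists_sqrt f hoddF k (by rw [← hk]; exact hK.trans hF.symm) d hd

end Cfsg.Agent.S0805
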