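import Mathlib
import Cfsg.Statements.S2550
import Cfsg.Agent.Lib.Helper1.SLCard

set_option autoImplicit false
open Cfsg

namespace Cfsg.Agent.S2550

open Matrix Polynomial

section orders

theorem card_eq {F K : Type*} [Field F] [Fintype F] [Field K] [Fintype K]
    (hF : Fintype.card F = 2) (hK : Fintype.card K = 4) :
    Nat.card (Matrix.ProjectiveSpecialLinearGroup (Fin 4) F)
      = Nat.card (Matrix.ProjectiveSpecialLinearGroup (Fin 3) K) := by
  have h1 := Cfsg.Agent.Lib.Helper1.card_PSL_field (F := F) 4 (by norm_num)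
  have h2 := Cfsg.Agent.Lib.Helper1.card_PSL_field (F := K) 3 (by norm_num)
  rw [hF, Fin.prod_univ_four] at h1
  rw [hK, Fin.prod_univ_three] at h2
  norm_num at h1 h2
  omega

end orders

section four

variable {F : Type*} [Field F] [Fintype F]

theorem two_eq_zero (hF : Fintype.card F = 2) : (2 : F) = 0 := by
  have := FiniteField.cast_card_eq_zero F
  rw [hF] at this
  exact_mod_cast this

theorem eq_one_of_ne_zero (hF : Fintype.card F = 2) {x : F} (hx : x ≠ 0) : x = 1 := by
  have := FiniteField.pow_card_sub_one_eq_one x hx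
  rw [hF] at this
  simpa using this

def g4 (F : Type*) [Field F] : Matrix (Fin 4) (Fin 4) F :=
  !![1,1,0,0; 0,1,0,0; 0,0,0,1; 0,0,1,1]

def g4sq (F : Type*) [Field F] : Matrix (Fin 4) (Fin 4) F :=
  !![1,0,0,0; 0,1,0,0; 0,0,1,1; 0,0,1,0]

def g4cu (F : Type*) [Field F] : Matrix (Fin 4) (Fin 4) F :=
  !![1,1,0,0; 0,1,0,0; 0,0,1,0; 0,0,0,1]

theorem g4_sq (h2 : (2:F) = 0) : g4 F * g4 F = g4sq F := by
  have h11 : (1:F) + 1 = 0 := by rw [one_add_one_eq_two]; exact h2
  ext i j
  fin_cases i <;> fin_cases j <;>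
    simp [g4, g4sq, Matrix.mul_apply, Fin.sum_univ_four, h11]

theorem g4_cu (h2 : (2:F) = 0) : g4sq F * g4 F = g4cu F := by
  have h11 : (1:F) + 1 = 0 := by rw [one_add_one_eq_two]; exact h2
  ext i j
  fin_cases i <;> fin_cases j <;>
    simp [g4, g4sq, g4cu, Matrix.mul_apply, Fin.sum_univ_four, h11]

theorem g4_six (h2 : (2:F) = 0) : g4cu F * g4cu F = 1 := by
  have h11 : (1:F) + 1 = 0 := by rw [one_add_one_eq_two]; exact h2
  ext i j
  fin_cases i <;> fin_cases j <;>
    simp [g4cu, Matrix.mul_apply, Fin.sum_univ_four, h11, Matrix.one_apply]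

end four

section four'

variable {F : Type*} [Field F] [Fintype F]

theorem exists_six (hF : Fintype.card F = 2) :
    ∃ g : Matrix.ProjectiveSpecialLinearGroup (Fin 4) F, g ^ 6 = 1 ∧ g ^ 2 ≠ 1 ∧ g ^ 3 ≠ 1 := by
  have h2 := two_eq_zero hF
  have hsq := g4_sq h2
  have hcu : g4sq F * g4 F = g4cu F := g4_cu h2
  have h6 : g4cu F * g4cu F = 1 := g4_six h2
  have hp2 : g4 F ^ 2 = g4sq F := by rw [pow_two, hsq]
  have hp3 : g4 F ^ 3 = g4cu F := by rw [pow_succ, hp2, hcu]
  have hp6 : g4 F ^ 6 = 1 := by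
    have : g4 F ^ 6 = (g4 F ^ 3) * (g4 F ^ 3) := by rw [← pow_add]
    rw [this, hp3, h6]
  have hdet : (g4 F).det = 1 := by
    have hd : (g4 F).det ^ 6 = 1 := by rw [← Matrix.det_pow, hp6, Matrix.det_one]
    have hne : (g4 F).det ≠ 0 := by
      intro h0; rw [h0] at hd; simp at hd
    exact eq_one_of_ne_zero hF hne
  let g : Matrix.SpecialLinearGroup (Fin 4) F := ⟨g4 F, hdet⟩
  have hgc : (g : Matrix (Fin 4) (Fin 4) F) = g4 F := rfl
  refine ⟨QuotientGroup.mk g, ?_, ?_, ?_⟩
  · rw [← QuotientGroup.mk_pow]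
    have : g ^ 6 = 1 := by
      apply Subtype.ext
      rw [Matrix.SpecialLinearGroup.coe_pow, hgc]; exact hp6
    rw [this]; rfl
  · intro h
    rw [← QuotientGroup.mk_pow, QuotientGroup.eq_one_iff,
      Matrix.SpecialLinearGroup.mem_center_iff] at h
    obtain ⟨r, -, hr⟩ := h
    have := congrFun (congrFun hr 2) 3
    rw [Matrix.SpecialLinearGroup.coe_pow, hgc, hp2] at this
    simp [g4sq] at this
  · intro h
    rw [← QuotientGroup.mk_pow, QuotientGroup.eq_one_iff,
      Matrix.SpecialLinearGroup.mem_center_iff] at h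
    obtain ⟨r, -, hr⟩ := h
    have := congrFun (congrFun hr 0) 1
    rw [Matrix.SpecialLinearGroup.coe_pow, hgc, hp3] at this
    simp [g4cu] at this

end four'

section three

variable {K : Type*} [Field K] [Fintype K]

theorem rank_one {A N : Matrix (Fin 3) (Fin 3) K} (hNN : N * N = 0) (hN : N ≠ 0)
    (hAN : A * N = N * A) : ∃ l : K, A * N = l • N := by
  classical
  set f := Matrix.toLin' N with hf
  have hle : LinearMap.range f ≤ LinearMap.ker f := by
    rintro y ⟨x, rfl⟩
    rw [LinearMap.mem_ker, hf, Matrix.toLin'_apply, Matrix.toLin'_apply, Matrix.mulVec_mulVec, hNN,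
      Matrix.zero_mulVec]
  have hrk := LinearMap.finrank_range_add_finrank_ker f
  rw [Module.finrank_fin_fun] at hrk
  have hmono := Submodule.finrank_mono hle
  have hr1 : Module.finrank K (LinearMap.range f) ≤ 1 := by omega
  have hr0 : Module.finrank K (LinearMap.range f) ≠ 0 := by
    intro h0
    rw [Submodule.finrank_eq_zero] at h0
    apply hN
    have hf0 : f = 0 := LinearMap.range_eq_bot.1 h0
    exact (LinearEquiv.map_eq_zero_iff _).1 hf0
  have h1 : Module.finrank K (LinearMap.range f) = 1 := by omega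
  obtain ⟨⟨v, hvr⟩, hv0, hv⟩ := finrank_eq_one_iff'.1 h1
  have hAv : A.mulVec v ∈ LinearMap.range f := by
    obtain ⟨x, hx⟩ := hvr
    refine ⟨A.mulVec x, ?_⟩
    rw [hf, Matrix.toLin'_apply, Matrix.mulVec_mulVec, ← hAN, ← Matrix.mulVec_mulVec, ← hx, hf,
      Matrix.toLin'_apply]
  obtain ⟨l, hl⟩ := hv ⟨_, hAv⟩
  have hl' : l • v = A.mulVec v := congrArg Subtype.val hl
  refine ⟨l, ?_⟩
  apply Matrix.toLin'.injective
  apply LinearMap.ext
  intro x
  obtain ⟨c, hc⟩ := hv ⟨f x, LinearMap.mem_range_self f x⟩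
  have hc' : c • v = N.mulVec x := by
    have := congrArg Subtype.val hc
    simpa [hf] using this
  rw [Matrix.toLin'_apply, Matrix.toLin'_apply, ← Matrix.mulVec_mulVec, ← hc', Matrix.mulVec_smul,
    ← hl', Matrix.smul_mulVec, ← hc', smul_comm]

theorem pow_mul_N {A N : Matrix (Fin 3) (Fin 3) K} {l : K} (h : A * N = l • N) (k : ℕ) :
    A ^ k * N = l ^ k • N := by
  induction k with
  | zero => simp
  | succ k ih =>
    rw [pow_succ, mul_assoc, h, Matrix.mul_smul, ih, smul_smul, pow_succ']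

theorem ev_mul_N {A N : Matrix (Fin 3) (Fin 3) K} {l : K} (h : A * N = l • N) (p : K[X]) :
    Polynomial.aeval A p * N = p.eval l • N := by
  induction p using Polynomial.induction_on' with
  | add p q hp hq => rw [map_add, add_mul, hp, hq, Polynomial.eval_add, add_smul]
  | monomial n c =>
    rw [Polynomial.aeval_monomial, Polynomial.eval_monomial, mul_assoc, pow_mul_N h,
      Algebra.algebraMap_eq_smul_one, Matrix.smul_mul, one_mul, smul_smul]

theorem ch3 {R : Type*} [CommRing R] (A : Matrix (Fin 3) (Fin 3) R) :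
    A ^ 3 - A.trace • A ^ 2 + (A 0 0 * A 1 1 - A 0 1 * A 1 0 + A 0 0 * A 2 2 - A 0 2 * A 2 0
      + A 1 1 * A 2 2 - A 1 2 * A 2 1) • A - A.det • (1 : Matrix (Fin 3) (Fin 3) R) = 0 := by
  ext i j
  fin_cases i <;> fin_cases j <;>
    simp [pow_succ, Matrix.mul_apply, Fin.sum_univ_three, Matrix.det_fin_three,
      Matrix.trace_fin_three] <;> ring

end three

section three'

variable {K : Type*} [Field K] [Fintype K]

theorem key (hK : Fintype.card K = 4) {A : Matrix (Fin 3) (Fin 3) K} (hdet : A.det = 1) {z : K}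
    (h6 : A ^ 6 = z • (1 : Matrix (Fin 3) (Fin 3) K)) :
    (∃ r : K, A ^ 2 = r • (1 : Matrix (Fin 3) (Fin 3) K)) ∨
      (∃ r : K, A ^ 3 = r • (1 : Matrix (Fin 3) (Fin 3) K)) := by
  classical
  have h2 : (2 : K) = 0 := by
    have h4 := FiniteField.cast_card_eq_zero K
    rw [hK] at h4
    have h4' : (2 : K) * 2 = 0 := by
      have : ((4 : ℕ) : K) = 2 * 2 := by norm_num
      rw [← this]; exact h4
    rcases mul_eq_zero.1 h4' with h | h <;> exact h
  have hcube : ∀ x : K, x ≠ 0 → x ^ 3 = 1 := by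
    intro x hx
    have := FiniteField.pow_card_sub_one_eq_one x hx
    rw [hK] at this
    simpa using this
  have h2X : (2 : K[X]) = 0 := by
    rw [← map_ofNat (Polynomial.C : K →+* K[X]) 2, h2, map_zero]
  -- z ≠ 0
  have hz0 : z ≠ 0 := by
    intro h0
    have hd : (A ^ 6).det = 1 := by rw [Matrix.det_pow, hdet, one_pow]
    rw [h6, h0, zero_smul, Matrix.det_zero] at hd
    exact zero_ne_one hd
  have hz3 := hcube z hz0
  obtain ⟨w, hw2⟩ : ∃ w : K, w ^ 2 = z := by
    refine ⟨z ^ 2, ?_⟩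
    calc (z ^ 2) ^ 2 = z ^ 3 * z := by ring
      _ = z := by rw [hz3, one_mul]
  set ev := Polynomial.aeval (R := K) A with hev
  have hevX : ev X = A := Polynomial.aeval_X A
  have hevC : ∀ c : K, ev (C c) = c • (1 : Matrix (Fin 3) (Fin 3) K) := by
    intro c
    rw [hev, Polynomial.aeval_C, Algebra.algebraMap_eq_smul_one]
  set n : K[X] := X ^ 3 - C w with hn
  set N := ev n with hNdef
  have hN' : N = A ^ 3 - w • (1 : Matrix (Fin 3) (Fin 3) K) := by
    rw [hNdef, hn, map_sub, map_pow, hevX, hevC]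
  have hev6 : ev (X ^ 6 - C z) = 0 := by
    rw [map_sub, map_pow, hevX, hevC, h6, sub_self]
  have hNN : N * N = 0 := by
    have hn2 : n * n = (X ^ 6 - C z) + 2 * (- C w * X ^ 3 + C w ^ 2) := by
      rw [hn, ← hw2, map_pow]; ring
    rw [hNdef, ← map_mul, hn2, map_add, hev6, h2X, zero_mul, map_zero, add_zero]
  by_cases hN0 : N = 0
  · right
    refine ⟨w, ?_⟩
    rw [hN'] at hN0
    exact sub_eq_zero.1 hN0
  left
  have hAN : A * N = N * A := by
    rw [hNdef, ← hevX, ← map_mul, ← map_mul, mul_comm]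
  obtain ⟨l, hl⟩ := rank_one hNN hN0 hAN
  have hl0 : l ≠ 0 := by
    intro h0
    rw [h0, zero_smul] at hl
    apply hN0
    have hu : IsUnit A.det := by rw [hdet]; exact isUnit_one
    calc N = (A⁻¹ * A) * N := by rw [Matrix.nonsing_inv_mul A hu, one_mul]
      _ = 0 := by rw [mul_assoc, hl, mul_zero]
  have hl3 := hcube l hl0
  have hl3X : (C l : K[X]) ^ 3 = 1 := by rw [← map_pow, hl3, map_one]
  -- w = 1
  have hw1 : w = 1 := by
    have e1 : ev (X ^ 3) * N = N := by
      rw [ev_mul_N hl, Polynomial.eval_pow, Polynomial.eval_X, hl3, one_smul]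
    have e2 : ev (X ^ 3) * N = w • N := by
      have : (X : K[X]) ^ 3 * n = n * n + C w * n := by rw [hn]; ring
      rw [hNdef, ← map_mul, this, map_add, map_mul, map_mul, ← hNdef, hNN, zero_add, hevC,
        Matrix.smul_mul, one_mul]
    have e3 : (w - 1) • N = 0 := by rw [sub_smul, one_smul, ← e2, e1, sub_self]
    rcases smul_eq_zero.1 e3 with h | h
    · exact sub_eq_zero.1 h
    · exact absurd h hN0
  -- Cayley-Hamilton
  obtain ⟨t, s, hch⟩ : ∃ t s : K, ev (X ^ 3 - C t * X ^ 2 + C s * X - 1) = 0 := by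
    refine ⟨A.trace, (A 0 0 * A 1 1 - A 0 1 * A 1 0 + A 0 0 * A 2 2 - A 0 2 * A 2 0
      + A 1 1 * A 2 2 - A 1 2 * A 2 1), ?_⟩
    have := ch3 A
    rw [hdet] at this
    rw [map_sub, map_add, map_sub, map_mul, map_mul, map_pow, map_pow, hevX, hevC, hevC, map_one,
      Matrix.smul_mul, Matrix.smul_mul, one_mul, one_mul]
    rw [one_smul] at this
    exact this
  set χ : K[X] := X ^ 3 - C t * X ^ 2 + C s * X - 1 with hχ
  -- s = t * l
  have hs : s = t * l := by
    have e1 : ev χ * N = χ.eval l • N := ev_mul_N hl χ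
    rw [hch, zero_mul] at e1
    rcases smul_eq_zero.1 e1.symm with h | h
    · rw [hχ] at h
      simp only [Polynomial.eval_sub, Polynomial.eval_add, Polynomial.eval_mul, Polynomial.eval_pow,
        Polynomial.eval_X, Polynomial.eval_C, Polynomial.eval_one] at h
      have h' : (s - t * l) * l = 0 := by
        linear_combination h - hl3
      rcases mul_eq_zero.1 h' with h'' | h''
      · exact sub_eq_zero.1 h''
      · exact absurd h'' hl0
    · exact absurd h hN0
  -- t = 3 * l
  set m : K[X] := X - C l with hm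
  set R : K[X] := X ^ 2 + (C l - C t) * X + C l ^ 2 with hR
  set q : K[X] := X ^ 2 + C l * X + C l ^ 2 with hq
  have hmR : m * R = χ := by
    rw [hm, hR, hχ, hs, map_mul]
    linear_combination (-1 : K[X]) * hl3X
  have hmq : m * q = n := by
    rw [hm, hq, hn, hw1, map_one]
    linear_combination (-1 : K[X]) * hl3X
  have ht : t = 3 * l := by
    have e1 : ev R * N = R.eval l • N := ev_mul_N hl R
    have e2 : ev R * N = 0 := by
      have : R * n = χ * q := by rw [← hmq, ← hmR]; ring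
      rw [hNdef, ← map_mul, this, map_mul, hch, zero_mul]
    rw [e2] at e1
    rcases smul_eq_zero.1 e1.symm with h | h
    · rw [hR] at h
      simp only [Polynomial.eval_sub, Polynomial.eval_add, Polynomial.eval_mul, Polynomial.eval_pow,
        Polynomial.eval_X, Polynomial.eval_C] at h
      have h' : (3 * l - t) * l = 0 := by
        linear_combination h
      rcases mul_eq_zero.1 h' with h'' | h''
      · exact (sub_eq_zero.1 h'').symm
      · exact absurd h'' hl0
    · exact absurd h hN0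
  have hχm : χ = m ^ 3 := by
    rw [hχ, hm, hs, ht]
    simp only [map_mul, map_ofNat]
    linear_combination (1 : K[X]) * hl3X
  have hm3 : ev (m ^ 3) = 0 := by rw [← hχm]; exact hch
  have h4 : ev (X ^ 4 - C l ^ 4) = 0 := by
    have : (X : K[X]) ^ 4 - C l ^ 4
        = m ^ 3 * m + 2 * (2 * C l * X ^ 3 - 3 * C l ^ 2 * X ^ 2 + 2 * C l ^ 3 * X - C l ^ 4) := by
      rw [hm]; ring
    rw [this, map_add, map_mul, hm3, zero_mul, h2X, zero_mul, map_zero, add_zero]
  have hA4 : A ^ 4 = l ^ 4 • (1 : Matrix (Fin 3) (Fin 3) K) := by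
    rw [map_sub, map_pow, map_pow, hevX, hevC] at h4
    have := sub_eq_zero.1 h4
    rw [this, _root_.smul_pow, one_pow]
  refine ⟨(l ^ 4)⁻¹ * z, ?_⟩
  have hA6 : A ^ 6 = A ^ 4 * A ^ 2 := by rw [← pow_add]
  rw [hA6, hA4, Matrix.smul_mul, one_mul] at h6
  have hl4 : l ^ 4 ≠ 0 := pow_ne_zero 4 hl0
  calc A ^ 2 = (l ^ 4)⁻¹ • (l ^ 4 • A ^ 2) := by rw [smul_smul, inv_mul_cancel₀ hl4, one_smul]
    _ = ((l ^ 4)⁻¹ * z) • 1 := by rw [h6, smul_smul]

end three'

section final

variable {K : Type*} [Field K] [Fintype K]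

theorem scalar_mem_center {g : Matrix.SpecialLinearGroup (Fin 3) K} {r : K}
    (h : (g : Matrix (Fin 3) (Fin 3) K) = r • (1 : Matrix (Fin 3) (Fin 3) K)) :
    g ∈ Subgroup.center (Matrix.SpecialLinearGroup (Fin 3) K) := by
  rw [Matrix.SpecialLinearGroup.mem_center_iff]
  refine ⟨r, ?_, ?_⟩
  · have hd := g.2
    rw [h, Matrix.det_smul, Matrix.det_one, mul_one] at hd
    simpa using hd
  · rw [h]
    ext i j
    simp [Matrix.one_apply, Matrix.scalar_apply, Matrix.diagonal_apply]

theorem no_six (hK : Fintype.card K = 4)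
    (g : Matrix.ProjectiveSpecialLinearGroup (Fin 3) K) (h6 : g ^ 6 = 1) :
    g ^ 2 = 1 ∨ g ^ 3 = 1 := by
  obtain ⟨g0, rfl⟩ := QuotientGroup.mk_surjective g
  rw [← QuotientGroup.mk_pow, QuotientGroup.eq_one_iff,
    Matrix.SpecialLinearGroup.mem_center_iff] at h6
  obtain ⟨z, -, hz⟩ := h6
  have hA6 : (g0 : Matrix (Fin 3) (Fin 3) K) ^ 6 = z • (1 : Matrix (Fin 3) (Fin 3) K) := by
    rw [← Matrix.SpecialLinearGroup.coe_pow, ← hz]
    ext i j
    simp [Matrix.one_apply, Matrix.scalar_apply, Matrix.diagonal_apply]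
  rcases key hK g0.2 hA6 with ⟨r, hr⟩ | ⟨r, hr⟩
  · left
    rw [← QuotientGroup.mk_pow, QuotientGroup.eq_one_iff]
    apply scalar_mem_center (r := r)
    rw [Matrix.SpecialLinearGroup.coe_pow]; exact hr
  · right
    rw [← QuotientGroup.mk_pow, QuotientGroup.eq_one_iff]
    apply scalar_mem_center (r := r)
    rw [Matrix.SpecialLinearGroup.coe_pow]; exact hr

end final

/-- Let F be a field with 2 elements and K a field with 4 elements. PSL_4(F) and PSL_3(K) have the same order (20160) but are not isomorphic. -/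
theorem result {F K : Type*} [Field F] [Fintype F] [Field K] [Fintype K] (hF : Fintype.card F = 2) (hK : Fintype.card K = 4) : Nat.card (Matrix.ProjectiveSpecialLinearGroup (Fin 4) F) = Nat.card (Matrix.ProjectiveSpecialLinearGroup (Fin 3) K) ∧ ¬ Nonempty (Matrix.ProjectiveSpecialLinearGroup (Fin 4) F ≃* Matrix.ProjectiveSpecialLinearGroup (Fin 3) K) := by
  refine ⟨card_eq hF hK, ?_⟩
  rintro ⟨e⟩
  obtain ⟨g, h6, h2, h3⟩ := exists_six hF
  have h6' : (e g) ^ 6 = 1 := by rw [← map_pow, h6, map_one]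
  rcases no_six hK (e g) h6' with h | h
  · apply h2
    rw [← map_pow] at h
    exact (MulEquiv.map_eq_one_iff e).1 h
  · apply h3
    rw [← map_pow] at h
    exact (MulEquiv.map_eq_one_iff e).1 h

end Cfsg.Agent.S2550
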