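import Mathlib
import Cfsg.Statements.S0819
import Cfsg.Agent.S2550

set_option autoImplicit false
open Cfsg

namespace Cfsg.Agent.S0819

open Matrix Polynomial

section alg

variable {K : Type*} [Field K] [Fintype K]

theorem two_eq_zero (hK : Fintype.card K = 4) : (2 : K) = 0 := by
  have h4 := FiniteField.cast_card_eq_zero K
  rw [hK] at h4
  have h4' : (2 : K) * 2 = 0 := by
    have : ((4 : ℕ) : K) = 2 * 2 := by norm_num
    rw [← this]; exact h4
  rcases mul_eq_zero.1 h4' with h | h <;> exact h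

theorem cube_eq_one (hK : Fintype.card K = 4) {x : K} (hx : x ≠ 0) : x ^ 3 = 1 := by
  have := FiniteField.pow_card_sub_one_eq_one x hx
  rw [hK] at this
  simpa using this

theorem exists_omega (hK : Fintype.card K = 4) : ∃ w : K, w ^ 2 + w + 1 = 0 := by
  classical
  have : ∃ x : K, x ≠ 0 ∧ x ≠ 1 := by
    by_contra hcon
    have hsub : (Finset.univ : Finset K) ⊆ {0, 1} := by
      intro x _
      by_contra hx
      simp only [Finset.mem_insert, Finset.mem_singleton, not_or] at hx
      exact hcon ⟨x, hx.1, hx.2⟩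
    have := Finset.card_le_card hsub
    rw [Finset.card_univ, hK] at this
    have h2 : ({0, 1} : Finset K).card ≤ 2 := Finset.card_le_two
    omega
  obtain ⟨x, hx0, hx1⟩ := this
  refine ⟨x, ?_⟩
  have h3 := cube_eq_one hK hx0
  have : (x - 1) * (x ^ 2 + x + 1) = 0 := by linear_combination h3
  rcases mul_eq_zero.1 this with h | h
  · exact absurd (sub_eq_zero.1 h) hx1
  · exact h

/-- The purely algebraic core. -/
theorem algL {R : Type*} [CommRing R] (hK : Fintype.card K = 4) (a : K →+* R)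
    (r : R) (t s z : K) (hz : z ≠ 0)
    (hch : r ^ 3 + a t * r ^ 2 + a s * r + 1 = 0)
    (h15 : r ^ 15 = a z) :
    (∃ c : K, r ^ 3 = a c) ∨ (∃ c : K, r ^ 5 = a c) := by
  classical
  have h2 := two_eq_zero hK
  have h2R : (2 : R) = 0 := by
    rw [← map_ofNat a 2, h2, map_zero]
  have hz3 := cube_eq_one hK hz
  have hZ3 : a z ^ 3 = 1 := by rw [← map_pow, hz3, map_one]
  by_cases hroot : ∃ b : K, b ^ 3 + t * b ^ 2 + s * b + 1 = 0
  · -- case (i)
    obtain ⟨b, hb⟩ := hroot
    have hb0 : b ≠ 0 := by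
      rintro rfl
      simp at hb
    have hb3 := cube_eq_one hK hb0
    have hs : s = t * b := by
      have h1 : b * (t * b + s) = 0 := by linear_combination hb - hb3 - h2
      rcases mul_eq_zero.1 h1 with h | h
      · exact absurd h hb0
      · linear_combination h - t * b * h2
    obtain ⟨c, hc⟩ : ∃ c, t = c - b := ⟨t + b, by ring⟩
    subst hc
    subst hs
    set B := a b with hB
    set C := a c with hC
    have hB3 : B ^ 3 = 1 := by rw [hB, ← map_pow, hb3, map_one]
    have hch' : r ^ 3 + (C - B) * r ^ 2 + (C - B) * B * r + 1 = 0 := by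
      rw [map_mul, map_sub] at hch
      exact hch
    have hfac : (r + B) * (r ^ 2 + C * r + B ^ 2) = 0 := by
      linear_combination hch' + (B * r ^ 2 + B ^ 2 * r) * h2R + hB3
    by_cases hroot2 : ∃ b' : K, b' ^ 2 + c * b' + b ^ 2 = 0
    · -- (i-a)
      obtain ⟨b', hb'⟩ := hroot2
      have hb'0 : b' ≠ 0 := by
        rintro rfl
        simp at hb'
        exact hb0 hb'
      set b'' := b ^ 2 * b'⁻¹ with hb''
      have hb''0 : b'' ≠ 0 := mul_ne_zero (pow_ne_zero 2 hb0) (inv_ne_zero hb'0)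
      have h1 : b' * b'' = b ^ 2 := by
        rw [hb'', mul_comm (b ^ 2), ← mul_assoc, mul_inv_cancel₀ hb'0, one_mul]
      have hsum : c = b' + b'' := by
        have h : (c - b' - b'') * b' = 0 := by
          linear_combination hb' - h1 - (b' ^ 2 + b ^ 2) * h2
        rcases mul_eq_zero.1 h with h | h
        · linear_combination h
        · exact absurd h hb'0
      have hb'3 := cube_eq_one hK hb'0
      have hb''3 := cube_eq_one hK hb''0
      set B' := a b' with hB'
      set B'' := a b'' with hB''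
      have hB'3 : B' ^ 3 = 1 := by rw [hB', ← map_pow, hb'3, map_one]
      have hB''3 : B'' ^ 3 = 1 := by rw [hB'', ← map_pow, hb''3, map_one]
      have hprod : B' * B'' = B ^ 2 := by rw [hB', hB'', hB, ← map_mul, h1, map_pow]
      have hsumR : C = B' + B'' := by rw [hC, hsum, map_add]
      have hfac3 : (r + B) * (r + B') * (r + B'') = 0 := by
        linear_combination hfac - (r + B) * r * hsumR + (r + B) * hprod
      have e1 : r ^ 3 + 1 = (r + B) * (r ^ 2 - B * r + B ^ 2) := by
        linear_combination (-1 : R) * hB3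
      have e2 : r ^ 3 + 1 = (r + B') * (r ^ 2 - B' * r + B' ^ 2) := by
        linear_combination (-1 : R) * hB'3
      have e3 : r ^ 3 + 1 = (r + B'') * (r ^ 2 - B'' * r + B'' ^ 2) := by
        linear_combination (-1 : R) * hB''3
      have hcube3 : (r ^ 3 + 1) ^ 3 = 0 := by
        calc (r ^ 3 + 1) ^ 3 = (r ^ 3 + 1) * (r ^ 3 + 1) * (r ^ 3 + 1) := by ring
          _ = ((r + B) * (r ^ 2 - B * r + B ^ 2)) * ((r + B') * (r ^ 2 - B' * r + B' ^ 2))
                * ((r + B'') * (r ^ 2 - B'' * r + B'' ^ 2)) := by rw [← e1, ← e2, ← e3]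
          _ = ((r + B) * (r + B') * (r + B'')) * ((r ^ 2 - B * r + B ^ 2)
                * (r ^ 2 - B' * r + B' ^ 2) * (r ^ 2 - B'' * r + B'' ^ 2)) := by ring
          _ = 0 := by rw [hfac3, zero_mul]
      have h12 : r ^ 12 = 1 := by
        linear_combination (r ^ 3 + 1) * hcube3 - (1 + 2 * r ^ 9 + 3 * r ^ 6 + 2 * r ^ 3) * h2R
      have h45 : r ^ 45 = 1 := by
        calc r ^ 45 = (r ^ 15) ^ 3 := by ring
          _ = 1 := by rw [h15, hZ3]
      have hr3 : r ^ 3 = 1 := by
        calc r ^ 3 = r ^ 45 * r ^ 3 := by rw [h45, one_mul]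
          _ = (r ^ 12) ^ 4 := by ring
          _ = 1 := by rw [h12, one_pow]
      left
      exact ⟨1, by rw [hr3, map_one]⟩
    · -- (i-b)
      have hc0 : c ≠ 0 := by
        rintro rfl
        apply hroot2
        refine ⟨b, ?_⟩
        linear_combination b ^ 2 * h2
      have hc3 := cube_eq_one hK hc0
      have he : (b ^ 2 * c) ^ 2 + b ^ 2 * c + 1 = 0 := by
        have he0 : b ^ 2 * c ≠ 0 := mul_ne_zero (pow_ne_zero 2 hb0) hc0
        have he3 := cube_eq_one hK he0
        have : (b ^ 2 * c - 1) * ((b ^ 2 * c) ^ 2 + b ^ 2 * c + 1) = 0 := by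
          linear_combination he3
        rcases mul_eq_zero.1 this with h | h
        · exfalso
          apply hroot2
          obtain ⟨w, hw⟩ := exists_omega hK
          refine ⟨c * w, ?_⟩
          have hbc : b ^ 2 = c ^ 2 := by
            have h' : b ^ 2 * c = 1 := sub_eq_zero.1 h
            calc b ^ 2 = b ^ 2 * c ^ 3 := by rw [hc3, mul_one]
              _ = (b ^ 2 * c) * c ^ 2 := by ring
              _ = c ^ 2 := by rw [h', one_mul]
          rw [hbc]
          linear_combination c ^ 2 * hw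
        · exact h
      have hR1 : c ^ 4 - 3 * c ^ 2 * b ^ 2 + b ^ 4 = 0 := by
        linear_combination c * he + (c - b ^ 4) * hc3 - 2 * c * (b ^ 2 * c) * h2
      have hC3 : C ^ 3 = 1 := by rw [hC, ← map_pow, hc3, map_one]
      have hR1' : C ^ 4 - 3 * C ^ 2 * B ^ 2 + B ^ 4 = 0 := by
        have := congrArg a hR1
        simpa [map_sub, map_add, map_mul, map_pow, map_ofNat] using this
      have h5 : (r + B) * (r ^ 5 + B ^ 2) = 0 := by
        linear_combination (r ^ 3 - C * r ^ 2 + (C ^ 2 - B ^ 2) * r + (2 * C * B ^ 2 - C ^ 3)) * hfac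
          + (r + B) * r * hR1' + (r + B) * B ^ 2 * hC3 + (r + B) * (B ^ 2 - C * B ^ 4) * h2R
      have hsq : (r ^ 5 + B ^ 2) ^ 2 = 0 := by
        linear_combination (r ^ 4 - B * r ^ 3 + B ^ 2 * r ^ 2 - B ^ 3 * r + B ^ 4) * h5
          - (r ^ 5 + B ^ 2) * B ^ 2 * hB3
      have h10 : r ^ 10 = B := by
        linear_combination hsq - r ^ 5 * B ^ 2 * h2R - B * hB3 - B * h2R
      have hr5 : r ^ 5 = B ^ 2 * a z := by
        linear_combination (-r ^ 5) * hB3 + B ^ 2 * h15 - B ^ 2 * r ^ 5 * h10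
      right
      exact ⟨b ^ 2 * z, by rw [hr5, map_mul, map_pow]⟩
  · -- case (ii)
    left
    by_cases ht : t = 0
    · subst ht
      have hs0 : s ≠ 0 := by
        rintro rfl
        apply hroot
        refine ⟨1, ?_⟩
        linear_combination h2
      have hs3 := cube_eq_one hK hs0
      set S := a s with hS
      have hS3 : S ^ 3 = 1 := by rw [hS, ← map_pow, hs3, map_one]
      have hch0 : r ^ 3 + S * r + 1 = 0 := by
        rw [map_zero, zero_mul, add_zero] at hch
        exact hch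
      have h3 : r ^ 3 = S * r + 1 := by
        linear_combination hch0 - (S * r + 1) * h2R
      have h6 : r ^ 6 = S ^ 2 * r ^ 2 + 1 := by
        linear_combination (r ^ 3 + S * r + 1) * h3 + (S * r) * h2R
      have h7 : r ^ 7 = S ^ 2 := by
        linear_combination r * h6 + S ^ 2 * h3 + r * hS3 + r * h2R
      have h_r : r = S ^ 2 * a z := by
        linear_combination (-r) * hS3 + S ^ 2 * h15 - S ^ 2 * r * (r ^ 7 + S ^ 2) * h7
          - S ^ 3 * r * hS3
      refine ⟨(s ^ 2 * z) ^ 3, ?_⟩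
      rw [map_pow, map_mul, map_pow, ← h_r]
    · have ht3 := cube_eq_one hK ht
      have hs0 : s = 0 := by
        by_contra hs0
        have hs3 := cube_eq_one hK hs0
        apply hroot
        refine ⟨s * t ^ 2, ?_⟩
        linear_combination t ^ 6 * hs3 + (t ^ 3 + 1 + s ^ 2 * t ^ 2) * ht3 + (1 + s ^ 2 * t ^ 2) * h2
      subst hs0
      set T := a t with hT
      have hT3 : T ^ 3 = 1 := by rw [hT, ← map_pow, ht3, map_one]
      have hch0 : r ^ 3 + T * r ^ 2 + 1 = 0 := by
        rw [map_zero, zero_mul, add_zero] at hch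
        exact hch
      have h3 : r ^ 3 = T * r ^ 2 + 1 := by
        linear_combination hch0 - (T * r ^ 2 + 1) * h2R
      have h4 : r ^ 4 = T ^ 2 * r ^ 2 + r + T := by
        linear_combination (r + T) * h3
      have h5 : r ^ 5 = T * r + T ^ 2 := by
        linear_combination r * h4 + T ^ 2 * h3 + r ^ 2 * hT3 + r ^ 2 * h2R
      have h7 : r ^ 7 = T := by
        linear_combination r ^ 2 * h5 + T * h3 + T ^ 2 * r ^ 2 * h2R
      have h_r : r = T * a z := by
        linear_combination (-r) * hT3 + T * h15 - T * r * (r ^ 7 + T) * h7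
      refine ⟨(t * z) ^ 3, ?_⟩
      rw [map_pow, map_mul, ← h_r]

end alg

section mat

variable {K : Type*} [Field K] [Fintype K]

theorem key15 (hK : Fintype.card K = 4) {A : Matrix (Fin 3) (Fin 3) K} (hdet : A.det = 1) {z : K}
    (h15 : A ^ 15 = z • (1 : Matrix (Fin 3) (Fin 3) K)) :
    (∃ r : K, A ^ 3 = r • (1 : Matrix (Fin 3) (Fin 3) K)) ∨
      (∃ r : K, A ^ 5 = r • (1 : Matrix (Fin 3) (Fin 3) K)) := by
  classical
  have h2 := two_eq_zero hK
  have hz0 : z ≠ 0 := by
    intro h0
    have hd : (A ^ 15).det = 1 := by rw [Matrix.det_pow, hdet, one_pow]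
    rw [h15, h0, zero_smul, Matrix.det_zero] at hd
    exact zero_ne_one hd
  set f : K[X] →+* Matrix (Fin 3) (Fin 3) K := (Polynomial.aeval (R := K) A).toRingHom with hf
  have hfX : f X = A := Polynomial.aeval_X A
  have hfC : ∀ c : K, f (C c) = c • (1 : Matrix (Fin 3) (Fin 3) K) := by
    intro c
    show Polynomial.aeval A (C c) = _
    rw [Polynomial.aeval_C, Algebra.algebraMap_eq_smul_one]
  set I := RingHom.ker f with hI
  have hch3 := Cfsg.Agent.S2550.ch3 A
  rw [hdet, one_smul] at hch3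
  obtain ⟨t, ht⟩ : ∃ t : K, t = A.trace := ⟨_, rfl⟩
  obtain ⟨s, hs⟩ : ∃ s : K, s = (A 0 0 * A 1 1 - A 0 1 * A 1 0 + A 0 0 * A 2 2 - A 0 2 * A 2 0
      + A 1 1 * A 2 2 - A 1 2 * A 2 1) := ⟨_, rfl⟩
  rw [← ht, ← hs] at hch3
  have hch : (Ideal.Quotient.mk I X) ^ 3
      + ((Ideal.Quotient.mk I).comp Polynomial.C) t * (Ideal.Quotient.mk I X) ^ 2
      + ((Ideal.Quotient.mk I).comp Polynomial.C) s * (Ideal.Quotient.mk I X) + 1 = 0 := by
    have e : (Ideal.Quotient.mk I X) ^ 3
      + ((Ideal.Quotient.mk I).comp Polynomial.C) t * (Ideal.Quotient.mk I X) ^ 2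
      + ((Ideal.Quotient.mk I).comp Polynomial.C) s * (Ideal.Quotient.mk I X) + 1
        = Ideal.Quotient.mk I (X ^ 3 + C t * X ^ 2 + C s * X + 1) := by
      simp only [RingHom.comp_apply, map_add, map_mul, map_pow, map_one]
    rw [e, Ideal.Quotient.eq_zero_iff_mem, hI, RingHom.mem_ker]
    rw [map_add, map_add, map_add, map_mul, map_mul, map_pow, map_pow, hfX, hfC, hfC, map_one,
      Matrix.smul_mul, Matrix.smul_mul, one_mul, one_mul]
    have e2 : A ^ 3 + t • A ^ 2 + s • A + 1
        = (A ^ 3 - t • A ^ 2 + s • A - 1) + ((2 : K) • (t • A ^ 2) + (2 : K) • 1) := by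
      rw [two_smul, two_smul]; abel
    rw [e2, hch3, h2, zero_smul, zero_smul, add_zero, add_zero]
  have h15' : (Ideal.Quotient.mk I X) ^ 15 = ((Ideal.Quotient.mk I).comp Polynomial.C) z := by
    rw [RingHom.comp_apply, ← map_pow, Ideal.Quotient.eq, hI, RingHom.mem_ker, map_sub, map_pow,
      hfX, hfC, h15, sub_self]
  rcases algL hK ((Ideal.Quotient.mk I).comp Polynomial.C) (Ideal.Quotient.mk I X) t s z hz0 hch h15'
    with ⟨c, hc⟩ | ⟨c, hc⟩
  · left
    refine ⟨c, ?_⟩
    rw [RingHom.comp_apply, ← map_pow, Ideal.Quotient.eq, hI, RingHom.mem_ker, map_sub, map_pow,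
      hfX, hfC] at hc
    exact sub_eq_zero.1 hc
  · right
    refine ⟨c, ?_⟩
    rw [RingHom.comp_apply, ← map_pow, Ideal.Quotient.eq, hI, RingHom.mem_ker, map_sub, map_pow,
      hfX, hfC] at hc
    exact sub_eq_zero.1 hc

end mat

/-- PSL_3(4) has no element of order 15. -/
theorem result {F : Type*} [Field F] [Fintype F] (hF : Fintype.card F = 4) (g : Matrix.ProjectiveSpecialLinearGroup (Fin 3) F) : orderOf g ≠ 15 := by
  intro h
  have h15 : g ^ 15 = 1 := by rw [← h]; exact pow_orderOf_eq_one g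
  obtain ⟨g0, rfl⟩ := QuotientGroup.mk_surjective g
  have h15' := h15
  rw [← QuotientGroup.mk_pow, QuotientGroup.eq_one_iff,
    Matrix.SpecialLinearGroup.mem_center_iff] at h15'
  obtain ⟨z, -, hz⟩ := h15'
  have hA : (g0 : Matrix (Fin 3) (Fin 3) F) ^ 15 = z • (1 : Matrix (Fin 3) (Fin 3) F) := by
    rw [← Matrix.SpecialLinearGroup.coe_pow, ← hz]
    ext i j
    simp [Matrix.one_apply, Matrix.scalar_apply, Matrix.diagonal_apply]
  rcases key15 hF g0.2 hA with ⟨r, hr⟩ | ⟨r, hr⟩
  · have h3 : (QuotientGroup.mk g0 : Matrix.ProjectiveSpecialLinearGroup (Fin 3) F) ^ 3 = 1 := by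
      rw [← QuotientGroup.mk_pow, QuotientGroup.eq_one_iff]
      apply Cfsg.Agent.S2550.scalar_mem_center (r := r)
      rw [Matrix.SpecialLinearGroup.coe_pow]; exact hr
    have hd := orderOf_dvd_of_pow_eq_one h3
    rw [h] at hd
    norm_num at hd
  · have h5 : (QuotientGroup.mk g0 : Matrix.ProjectiveSpecialLinearGroup (Fin 3) F) ^ 5 = 1 := by
      rw [← QuotientGroup.mk_pow, QuotientGroup.eq_one_iff]
      apply Cfsg.Agent.S2550.scalar_mem_center (r := r)
      rw [Matrix.SpecialLinearGroup.coe_pow]; exact hr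
    have hd := orderOf_dvd_of_pow_eq_one h5
    rw [h] at hd
    norm_num at hd

end Cfsg.Agent.S0819
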