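import Mathlib
import Cfsg.Statements.S2579
import Cfsg.Agent.Lib.Helper5.Transv

set_option autoImplicit false
open Cfsg

namespace Cfsg.Agent.S2579

theorem result {F : Type*} [Field F] [Finite F] {n : ℕ} (hn : 3 ≤ n) (s t : Matrix.SpecialLinearGroup (Fin n) F) (hs : Cfsg.IsTransvection (s : Matrix (Fin n) (Fin n) F)) (ht : Cfsg.IsTransvection (t : Matrix (Fin n) (Fin n) F)) : IsConj s t := by
  classical
  obtain ⟨m, rfl⟩ : ∃ m, n = m + 2 := ⟨n - 2, by omega⟩
  have hm : 1 ≤ m := by omega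
  obtain ⟨hsr, hss⟩ := hs
  obtain ⟨htr, hts⟩ := ht
  set S : Matrix (Fin (m + 2)) (Fin (m + 2)) F := (s : Matrix (Fin (m + 2)) (Fin (m + 2)) F) with hS
  set T : Matrix (Fin (m + 2)) (Fin (m + 2)) F := (t : Matrix (Fin (m + 2)) (Fin (m + 2)) F) with hT
  have h1 : Module.finrank F (LinearMap.range (Matrix.toLin' (S - 1))) = 1 := hsr
  have h1' : Module.finrank F (LinearMap.range (Matrix.toLin' (T - 1))) = 1 := htr
  have h2 : Matrix.toLin' (S - 1) ∘ₗ Matrix.toLin' (S - 1) = 0 := by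
    rw [← Matrix.toLin'_mul, hss, map_zero]
  have h2' : Matrix.toLin' (T - 1) ∘ₗ Matrix.toLin' (T - 1) = 0 := by
    rw [← Matrix.toLin'_mul, hts, map_zero]
  obtain ⟨H, hdet, hH⟩ := Cfsg.Agent.Lib.Helper5.exists_conj_det_one hm _ _ h1 h2 h1' h2'
  let C : Matrix (Fin (m + 2)) (Fin (m + 2)) F := LinearMap.toMatrix' H
  have hCdet : C.det = 1 := by
    rw [LinearMap.det_toMatrix']
    exact hdet
  have hC : C * (S - 1) = (T - 1) * C := by
    have h3 := congrArg LinearMap.toMatrix' hH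
    rw [LinearMap.toMatrix'_comp, LinearMap.toMatrix'_comp, LinearMap.toMatrix'_toLin',
      LinearMap.toMatrix'_toLin'] at h3
    exact h3
  have hCS : C * S = T * C := by
    rw [Matrix.mul_sub, Matrix.sub_mul, Matrix.mul_one, Matrix.one_mul] at hC
    exact sub_left_inj.1 hC
  rw [isConj_iff]
  let c : Matrix.SpecialLinearGroup (Fin (m + 2)) F := ⟨C, hCdet⟩
  refine ⟨c, ?_⟩
  have hcs : c * s = t * c := Subtype.ext hCS
  rw [hcs, mul_inv_cancel_right]

end Cfsg.Agent.S2579
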