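import Mathlib
import Cfsg.Statements.S0820
import Cfsg.Agent.S2579

set_option autoImplicit false
open Cfsg

namespace Cfsg.Agent.S0820

theorem result {F : Type*} [Field F] [Fintype F] (hF : Fintype.card F = 4) (x y : Matrix.ProjectiveSpecialLinearGroup (Fin 3) F) (hx : orderOf x = 2) (hy : orderOf y = 2) : IsConj x y := by
  classical
  -- characteristic two
  have h2 : (2 : F) = 0 := by
    have h4 : ((4 : ℕ) : F) = 0 := by
      rw [← hF]
      exact Nat.cast_card_eq_zero F
    have h4' : (2 : F) * 2 = 0 := by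
      have : ((4 : ℕ) : F) = 2 * 2 := by norm_num
      rw [← this]
      exact h4
    exact mul_self_eq_zero.1 h4'
  -- lifting an involution to a transvection
  have key : ∀ x : Matrix.ProjectiveSpecialLinearGroup (Fin 3) F, orderOf x = 2 →
      ∃ h : Matrix.SpecialLinearGroup (Fin 3) F,
        (QuotientGroup.mk h : Matrix.ProjectiveSpecialLinearGroup (Fin 3) F) = x ∧
        Cfsg.IsTransvection (h : Matrix (Fin 3) (Fin 3) F) := by
    intro x hx
    obtain ⟨g, rfl⟩ := QuotientGroup.mk_surjective x
    have hx2 : (QuotientGroup.mk g : Matrix.ProjectiveSpecialLinearGroup (Fin 3) F) ^ 2 = 1 := by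
      rw [← hx]
      exact pow_orderOf_eq_one _
    have hx1 : (QuotientGroup.mk g : Matrix.ProjectiveSpecialLinearGroup (Fin 3) F) ≠ 1 := by
      intro h
      rw [h, orderOf_one] at hx
      omega
    have hc : g ^ 2 ∈ Subgroup.center (Matrix.SpecialLinearGroup (Fin 3) F) := by
      rw [← QuotientGroup.eq_one_iff, QuotientGroup.mk_pow]
      exact hx2
    have hc3 : (g ^ 2) ^ 3 = 1 := by
      obtain ⟨r, hr, hrg⟩ := Matrix.SpecialLinearGroup.mem_center_iff.1 hc
      rw [Fintype.card_fin] at hr
      apply Subtype.ext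
      rw [Matrix.SpecialLinearGroup.coe_pow, ← hrg, ← map_pow, hr, map_one]
      rfl
    set h : Matrix.SpecialLinearGroup (Fin 3) F := g ^ 2 * g with hh
    have hcomm : Commute (g ^ 2) g := (Commute.refl g).pow_left 2
    have hh2 : h ^ 2 = 1 := by
      rw [hh, hcomm.mul_pow, ← pow_succ]
      exact hc3
    have hmk : (QuotientGroup.mk h : Matrix.ProjectiveSpecialLinearGroup (Fin 3) F)
        = QuotientGroup.mk g := by
      rw [hh, QuotientGroup.mk_mul, (QuotientGroup.eq_one_iff (g ^ 2)).2 hc, one_mul]
    have hh1 : h ≠ 1 := by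
      intro h1
      apply hx1
      rw [← hmk, h1]
      rfl
    refine ⟨h, hmk, ?_⟩
    have hsq : ((h : Matrix (Fin 3) (Fin 3) F) - 1) * ((h : Matrix (Fin 3) (Fin 3) F) - 1) = 0 := by
      have h2' : (h : Matrix (Fin 3) (Fin 3) F) * (h : Matrix (Fin 3) (Fin 3) F) = 1 := by
        have := congrArg (fun z : Matrix.SpecialLinearGroup (Fin 3) F =>
          (z : Matrix (Fin 3) (Fin 3) F)) hh2
        simp only [Matrix.SpecialLinearGroup.coe_pow, Matrix.SpecialLinearGroup.coe_one] at this
        rw [pow_two] at this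
        exact this
      have : ((h : Matrix (Fin 3) (Fin 3) F) - 1) * ((h : Matrix (Fin 3) (Fin 3) F) - 1)
          = (2 : F) • (1 - (h : Matrix (Fin 3) (Fin 3) F)) := by
        rw [sub_mul, mul_sub, mul_sub, h2', mul_one, one_mul, mul_one, two_smul]
        abel
      rw [this, h2, zero_smul]
    refine ⟨?_, hsq⟩
    have hle := Matrix.rank_add_rank_le_card_of_mul_eq_zero hsq
    rw [Fintype.card_fin] at hle
    have hne : ((h : Matrix (Fin 3) (Fin 3) F) - 1).rank ≠ 0 := by
      intro h0
      apply hh1
      apply Subtype.ext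
      have : (h : Matrix (Fin 3) (Fin 3) F) - 1 = 0 := by
        have hr : Module.finrank F (LinearMap.range ((h : Matrix (Fin 3) (Fin 3) F) - 1).mulVecLin)
            = 0 := h0
        rw [Submodule.finrank_eq_zero, LinearMap.range_eq_bot] at hr
        apply Matrix.mulVec_injective
        funext v
        have := LinearMap.congr_fun hr v
        rw [Matrix.zero_mulVec]
        exact this
      exact sub_eq_zero.1 this
    omega
  obtain ⟨g, hgx, hg⟩ := key x hx
  obtain ⟨g', hgy, hg'⟩ := key y hy
  have hconj : IsConj g g' := Cfsg.Agent.S2579.result (le_refl 3) g g' hg hg'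
  rw [← hgx, ← hgy]
  exact (QuotientGroup.mk' (Subgroup.center (Matrix.SpecialLinearGroup (Fin 3) F))).map_isConj hconj

end Cfsg.Agent.S0820
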