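import Mathlib
import Cfsg.Statements.S0823
import Cfsg.Agent.S0286

set_option autoImplicit false
set_option maxHeartbeats 800000

open Cfsg

namespace Cfsg.Agent.S0823

theorem odd_map {R S : Type*} [Field R] [Field S] (e : R →+* S) (m : ℕ)
    (x : Unit ⊕ (Fin m ⊕ Fin m) → R) :
    Cfsg.quadFormOdd m S (e ∘ x) = e (Cfsg.quadFormOdd m R x) := by
  unfold Cfsg.quadFormOdd
  rw [map_add, map_pow, map_sum]
  congr 1
  apply Finset.sum_congr rfl
  intro i _
  rw [map_mul]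
  rfl

theorem mem_iso {F : Type*} [Field F] (m : ℕ)
    (A : Matrix.GeneralLinearGroup (Unit ⊕ (Fin m ⊕ Fin m)) F) :
    A ∈ Cfsg.isometryGroup F (Cfsg.quadFormOdd m F) ↔
      ∀ u, Cfsg.quadFormOdd m F (A.val.mulVec u) = Cfsg.quadFormOdd m F u := by
  constructor
  · intro h u
    exact h u u
  · intro h u _
    exact h u

theorem iso_transport {R S : Type*} [Field R] [Field S] (e : R ≃+* S) (m : ℕ) :
    ∃ μ : Cfsg.isometryGroup R (Cfsg.quadFormOdd m R) →*
      Cfsg.isometryGroup S (Cfsg.quadFormOdd m S), Function.Injective μ ∧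
      ∀ A, ((μ A : Matrix.GeneralLinearGroup (Unit ⊕ (Fin m ⊕ Fin m)) S) :
        Matrix (Unit ⊕ (Fin m ⊕ Fin m)) (Unit ⊕ (Fin m ⊕ Fin m)) S)
        = (A.1.val).map (e : R →+* S) := by
  classical
  let μ0 : Matrix.GeneralLinearGroup (Unit ⊕ (Fin m ⊕ Fin m)) R →*
      Matrix.GeneralLinearGroup (Unit ⊕ (Fin m ⊕ Fin m)) S :=
    Matrix.GeneralLinearGroup.map (e : R →+* S)
  have hval : ∀ A : Matrix.GeneralLinearGroup (Unit ⊕ (Fin m ⊕ Fin m)) R,
      (μ0 A).val = A.val.map (e : R →+* S) := fun A => rfl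
  have hmem : ∀ A : Cfsg.isometryGroup R (Cfsg.quadFormOdd m R),
      μ0 A.1 ∈ Cfsg.isometryGroup S (Cfsg.quadFormOdd m S) := by
    intro A
    rw [mem_iso]
    intro u
    have hu : u = (e : R →+* S) ∘ (fun i => e.symm (u i)) := by
      funext i
      simp
    have h1 : (μ0 A.1).val.mulVec u =
        (e : R →+* S) ∘ (A.1.val.mulVec (fun i => e.symm (u i))) := by
      funext i
      rw [hval]
      conv_lhs => rw [hu]
      exact (RingHom.map_mulVec (e : R →+* S) A.1.val _ i).symm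
    rw [h1, odd_map]
    conv_rhs => rw [hu, odd_map]
    congr 1
    exact (mem_iso m A.1).1 A.2 _
  refine ⟨MonoidHom.codRestrict (μ0.comp (Cfsg.isometryGroup R (Cfsg.quadFormOdd m R)).subtype)
    (Cfsg.isometryGroup S (Cfsg.quadFormOdd m S)) hmem, ?_, fun A => rfl⟩
  intro A B hAB
  have h1 : μ0 A.1 = μ0 B.1 := congrArg Subtype.val hAB
  apply Subtype.ext
  apply Units.ext
  have h2 : (μ0 A.1).val = (μ0 B.1).val := by rw [h1]
  rw [hval, hval] at h2
  exact Matrix.map_injective e.injective h2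

theorem card_O {F : Type*} [Field F] [Fintype F] (hF : Fintype.card F = 3) :
    Nat.card (Cfsg.isometryGroup F (Cfsg.quadFormOdd 1 F)) = 48 := by
  have := Cfsg.Agent.S0286.result hF (by decide : Odd 3) 1
  rw [this]; norm_num [Finset.prod_range_succ]

theorem mem_so {ι : Type} [Fintype ι] [DecidableEq ι] {F : Type*} [Field F] (Q : (ι → F) → F)
    (A : Cfsg.isometryGroup F Q) :
    A ∈ Cfsg.specialIsometryGroup F Q ↔ (A.1.val).det = 1 := by
  unfold Cfsg.specialIsometryGroup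
  rw [MonoidHom.mem_ker]
  constructor
  · intro h
    have := congrArg Units.val h
    exact this
  · intro h
    apply Units.ext
    exact h

theorem so_equiv {F K : Type*} [Field F] [Fintype F] [Field K] [Fintype K]
    (hF : Fintype.card F = 3) (hK : Fintype.card K = 3) (e : F ≃+* K) :
    Nonempty (Cfsg.specialIsometryGroup F (Cfsg.quadFormOdd 1 F) ≃*
      Cfsg.specialIsometryGroup K (Cfsg.quadFormOdd 1 K)) := by
  classical
  obtain ⟨μ, hinj, hval⟩ := iso_transport e 1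
  haveI : Finite (Cfsg.isometryGroup F (Cfsg.quadFormOdd 1 F)) :=
    Nat.finite_of_card_ne_zero (by rw [card_O hF]; norm_num)
  haveI : Finite (Cfsg.isometryGroup K (Cfsg.quadFormOdd 1 K)) :=
    Nat.finite_of_card_ne_zero (by rw [card_O hK]; norm_num)
  have hbij : Function.Bijective μ := by
    rw [Nat.bijective_iff_injective_and_card]
    exact ⟨hinj, by rw [card_O hF, card_O hK]⟩
  have hdet : ∀ A : Cfsg.isometryGroup F (Cfsg.quadFormOdd 1 F),
      ((μ A).1.val).det = 1 ↔ (A.1.val).det = 1 := by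
    intro A
    rw [hval A]
    have h1 : ((A.1.val).map (e : F →+* K)).det = (e : F →+* K) (A.1.val).det :=
      ((e : F →+* K).map_det (A.1.val)).symm
    rw [h1]
    constructor
    · intro h
      apply e.injective
      rw [map_one]
      exact h
    · intro h
      rw [h]
      exact map_one _
  have hmap : (Cfsg.specialIsometryGroup F (Cfsg.quadFormOdd 1 F)).map
      ((MulEquiv.ofBijective μ hbij : _ ≃* _) : _ →* _)
      = Cfsg.specialIsometryGroup K (Cfsg.quadFormOdd 1 K) := by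
    ext B
    constructor
    · rintro ⟨A, hA, rfl⟩
      have hA' : A ∈ Cfsg.specialIsometryGroup F (Cfsg.quadFormOdd 1 F) := hA
      rw [mem_so] at hA'
      show μ A ∈ Cfsg.specialIsometryGroup K (Cfsg.quadFormOdd 1 K)
      rw [mem_so]
      exact (hdet A).2 hA'
    · intro hB
      obtain ⟨A, rfl⟩ := hbij.2 B
      rw [mem_so] at hB
      have hA' : A ∈ Cfsg.specialIsometryGroup F (Cfsg.quadFormOdd 1 F) := by
        rw [mem_so]
        exact (hdet A).1 hB
      exact ⟨A, hA', rfl⟩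
  exact ⟨((MulEquiv.ofBijective μ hbij).subgroupMap _).trans (MulEquiv.subgroupCongr hmap)⟩

/-- the index type of the three-dimensional space -/
abbrev I3 : Type := Unit ⊕ (Fin 1 ⊕ Fin 1)

/-- a vector with given coordinates -/
def vec (x y z : ZMod 3) : I3 → ZMod 3
  | .inl _ => x
  | .inr (.inl _) => y
  | .inr (.inr _) => z

/-- representatives of the four isotropic points -/
def pts : Fin 4 → I3 → ZMod 3 :=
  ![vec 0 1 0, vec 0 0 1, vec 1 1 (-1), vec 1 (-1) 1]

set_option maxRecDepth 100000 in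
theorem d_sing : ∀ v : I3 → ZMod 3, Cfsg.quadFormOdd 1 (ZMod 3) v = 0 → v ≠ 0 →
    ∃ j : Fin 4, ∃ ε : ZMod 3, ε ≠ 0 ∧ v = ε • pts j := by decide

set_option maxRecDepth 100000 in
theorem d_uniq : ∀ i j : Fin 4, ∀ ε : ZMod 3, ε ≠ 0 → pts i = ε • pts j → i = j := by decide

set_option maxRecDepth 100000 in
theorem d_pts : ∀ i : Fin 4, Cfsg.quadFormOdd 1 (ZMod 3) (pts i) = 0 ∧ pts i ≠ 0 := by decide

set_option maxRecDepth 100000 in
theorem d_span : ∀ v : I3 → ZMod 3, ∃ c₁ c₂ c₃ : ZMod 3,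
    v = c₁ • pts 0 + c₂ • pts 1 + c₃ • pts 2 := by decide

set_option maxRecDepth 100000 in
theorem d_rel : pts 3 = pts 2 + pts 0 - pts 1 := by decide

set_option maxRecDepth 100000 in
theorem d_eps : ∀ ε₀ ε₁ ε₂ ε₃ : ZMod 3, ε₃ • pts 3 = ε₂ • pts 2 + ε₀ • pts 0 - ε₁ • pts 1 →
    ε₀ = ε₃ ∧ ε₁ = ε₃ ∧ ε₂ = ε₃ := by decide

theorem d_cube : ∀ ε : ZMod 3, ε ^ 3 = 1 → ε = 1 := by decide

set_option maxRecDepth 100000 in
theorem d_neg : ∀ v : I3 → ZMod 3, Cfsg.quadFormOdd 1 (ZMod 3) (-v) = Cfsg.quadFormOdd 1 (ZMod 3) v := by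
  decide

theorem d_units : ∀ u : (ZMod 3)ˣ, u = 1 ∨ u = -1 := by decide

/-- the orthogonal group over `ZMod 3` -/
abbrev O3 : Subgroup (Matrix.GeneralLinearGroup I3 (ZMod 3)) :=
  Cfsg.isometryGroup (ZMod 3) (Cfsg.quadFormOdd 1 (ZMod 3))

theorem mulVec_ne_zero (A : Matrix.GeneralLinearGroup I3 (ZMod 3)) (v : I3 → ZMod 3)
    (hv : v ≠ 0) : A.val.mulVec v ≠ 0 := by
  intro h
  apply hv
  have h1 : (A⁻¹).val.mulVec (A.val.mulVec v) = v := by
    rw [Matrix.mulVec_mulVec, ← Units.val_mul, inv_mul_cancel, Units.val_one, Matrix.one_mulVec]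
  rw [h, Matrix.mulVec_zero] at h1
  exact h1.symm

/-- the relation: `A` maps the point `i` to the point `j` -/
def Rel (A : Matrix.GeneralLinearGroup I3 (ZMod 3)) (i j : Fin 4) : Prop :=
  ∃ ε : ZMod 3, ε ≠ 0 ∧ A.val.mulVec (pts i) = ε • pts j

theorem rel_exists (A : O3) (i : Fin 4) : ∃ j, Rel A.1 i j := by
  have h1 : Cfsg.quadFormOdd 1 (ZMod 3) (A.1.val.mulVec (pts i)) = 0 := by
    rw [(mem_iso 1 A.1).1 A.2]; exact (d_pts i).1
  have h2 : A.1.val.mulVec (pts i) ≠ 0 := mulVec_ne_zero A.1 _ (d_pts i).2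
  obtain ⟨j, ε, hε, h⟩ := d_sing _ h1 h2
  exact ⟨j, ε, hε, h⟩

theorem rel_unique (A : Matrix.GeneralLinearGroup I3 (ZMod 3)) (i j j' : Fin 4)
    (h : Rel A i j) (h' : Rel A i j') : j = j' := by
  obtain ⟨ε, hε, h1⟩ := h
  obtain ⟨ε', hε', h2⟩ := h'
  rw [h1] at h2
  apply d_uniq j j' (ε⁻¹ * ε') (mul_ne_zero (inv_ne_zero hε) hε')
  calc pts j = (ε⁻¹ * ε) • pts j := by rw [inv_mul_cancel₀ hε, one_smul]
    _ = ε⁻¹ • (ε • pts j) := by rw [smul_smul]
    _ = ε⁻¹ • (ε' • pts j') := by rw [h2]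
    _ = (ε⁻¹ * ε') • pts j' := by rw [smul_smul]

theorem rel_one (i : Fin 4) : Rel 1 i i :=
  ⟨1, one_ne_zero, by rw [Units.val_one, Matrix.one_mulVec, one_smul]⟩

theorem rel_mul (A B : Matrix.GeneralLinearGroup I3 (ZMod 3)) (i j k : Fin 4)
    (hB : Rel B i j) (hA : Rel A j k) : Rel (A * B) i k := by
  obtain ⟨ε, hε, h1⟩ := hB
  obtain ⟨ε', hε', h2⟩ := hA
  refine ⟨ε * ε', mul_ne_zero hε hε', ?_⟩
  rw [Units.val_mul, ← Matrix.mulVec_mulVec, h1, Matrix.mulVec_smul, h2, smul_smul]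

/-- the induced map on points -/
noncomputable def sig (A : O3) (i : Fin 4) : Fin 4 := Classical.choose (rel_exists A i)

theorem sig_spec (A : O3) (i : Fin 4) : Rel A.1 i (sig A i) := Classical.choose_spec (rel_exists A i)

noncomputable instance actO3 : MulAction O3 (Fin 4) where
  smul := sig
  one_smul i := by
    show sig 1 i = i
    exact rel_unique 1 i _ _ (sig_spec 1 i) (rel_one i)
  mul_smul A B i := by
    show sig (A * B) i = sig A (sig B i)
    exact rel_unique (A * B).1 i _ _ (sig_spec (A * B) i)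
      (rel_mul A.1 B.1 i _ _ (sig_spec B i) (sig_spec A _))

theorem smul_eq_sig (A : O3) (i : Fin 4) : A • i = sig A i := rfl

theorem card_I3 : Fintype.card I3 = 3 := by decide

theorem eq_one_of_fix (A : O3) (hdet : (A.1.val).det = 1) (hfix : ∀ i, sig A i = i) : A = 1 := by
  have hε : ∀ i, ∃ ε : ZMod 3, A.1.val.mulVec (pts i) = ε • pts i := by
    intro i
    obtain ⟨ε, _, h⟩ := sig_spec A i
    rw [hfix i] at h
    exact ⟨ε, h⟩
  obtain ⟨ε₀, h0⟩ := hε 0
  obtain ⟨ε₁, h1⟩ := hε 1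
  obtain ⟨ε₂, h2⟩ := hε 2
  obtain ⟨ε₃, h3⟩ := hε 3
  have hrel : ε₃ • pts 3 = ε₂ • pts 2 + ε₀ • pts 0 - ε₁ • pts 1 := by
    rw [← h3, d_rel, Matrix.mulVec_sub, Matrix.mulVec_add, h0, h1, h2]
  obtain ⟨e0, e1, e2⟩ := d_eps _ _ _ _ hrel
  rw [e0] at h0
  rw [e1] at h1
  rw [e2] at h2
  have hall : ∀ v : I3 → ZMod 3, A.1.val.mulVec v = ε₃ • v := by
    intro v
    obtain ⟨c₁, c₂, c₃, rfl⟩ := d_span v
    rw [Matrix.mulVec_add, Matrix.mulVec_add, Matrix.mulVec_smul, Matrix.mulVec_smul,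
      Matrix.mulVec_smul, h0, h1, h2, smul_add, smul_add, smul_comm ε₃ c₁, smul_comm ε₃ c₂,
      smul_comm ε₃ c₃]
  have hmat : A.1.val = ε₃ • (1 : Matrix I3 I3 (ZMod 3)) := by
    apply Matrix.ext_of_mulVec_single
    intro i
    rw [hall, Matrix.smul_mulVec, Matrix.one_mulVec]
  have hdet' : ε₃ ^ 3 = 1 := by
    rw [hmat, Matrix.det_smul, Matrix.det_one, mul_one, card_I3] at hdet
    exact hdet
  have hε3 : ε₃ = 1 := d_cube _ hdet'
  rw [hε3, one_smul] at hmat
  apply Subtype.ext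
  apply Units.ext
  exact hmat

/-- the scalar `-1` as an isometry -/
theorem neg_one_mem : (-1 : Matrix.GeneralLinearGroup I3 (ZMod 3)) ∈ O3 := by
  rw [mem_iso]
  intro u
  have : ((-1 : Matrix.GeneralLinearGroup I3 (ZMod 3)).val).mulVec u = -u := by
    rw [Units.val_neg, Units.val_one, Matrix.neg_mulVec, Matrix.one_mulVec]
  rw [this]
  exact d_neg u

theorem card_SO3 : Nat.card (Cfsg.specialIsometryGroup (ZMod 3) (Cfsg.quadFormOdd 1 (ZMod 3))) = 24 := by
  have hO : Nat.card O3 = 48 := card_O (by decide)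
  haveI : Finite O3 := Nat.finite_of_card_ne_zero (by rw [hO]; norm_num)
  obtain ⟨δ, hδ⟩ : ∃ δ : O3 →* (ZMod 3)ˣ,
      δ = Matrix.GeneralLinearGroup.det.comp O3.subtype := ⟨_, rfl⟩
  have hker : Cfsg.specialIsometryGroup (ZMod 3) (Cfsg.quadFormOdd 1 (ZMod 3)) = δ.ker := by
    rw [hδ]; rfl
  have hrange : δ.range = ⊤ := by
    rw [eq_top_iff]
    intro u _
    rcases d_units u with rfl | rfl
    · exact δ.range.one_mem
    · refine ⟨⟨-1, neg_one_mem⟩, ?_⟩
      rw [hδ]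
      apply Units.ext
      show ((-1 : Matrix.GeneralLinearGroup I3 (ZMod 3)).val).det = ((-1 : (ZMod 3)ˣ) : ZMod 3)
      rw [Units.val_neg, Units.val_one, Matrix.det_neg, Matrix.det_one, card_I3]
      decide
  have h1 := Subgroup.card_mul_index δ.ker
  rw [Subgroup.index_ker, hrange, Subgroup.card_top, hO] at h1
  have h2 : Nat.card (ZMod 3)ˣ = 2 := by
    rw [Nat.card_eq_fintype_card]; decide
  rw [h2] at h1
  rw [hker]
  have h3 : Nat.card ↥δ.ker * 2 = 24 * 2 := h1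
  exact Nat.eq_of_mul_eq_mul_right (by norm_num) h3

theorem main_zmod : Nonempty (Cfsg.specialIsometryGroup (ZMod 3) (Cfsg.quadFormOdd 1 (ZMod 3))
    ≃* Equiv.Perm (Fin 4)) := by
  haveI : Finite (Cfsg.specialIsometryGroup (ZMod 3) (Cfsg.quadFormOdd 1 (ZMod 3))) :=
    Nat.finite_of_card_ne_zero (by rw [card_SO3]; norm_num)
  let ρ : Cfsg.specialIsometryGroup (ZMod 3) (Cfsg.quadFormOdd 1 (ZMod 3)) →* Equiv.Perm (Fin 4) :=
    (MulAction.toPermHom O3 (Fin 4)).comp
      (Cfsg.specialIsometryGroup (ZMod 3) (Cfsg.quadFormOdd 1 (ZMod 3))).subtype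
  have hinj : Function.Injective ρ := by
    rw [injective_iff_map_eq_one]
    intro A hA
    have hfix : ∀ i, sig A.1 i = i := by
      intro i
      have := DFunLike.congr_fun hA i
      exact this
    have hdet : (A.1.1.val).det = 1 := (mem_so _ A.1).1 A.2
    have := eq_one_of_fix A.1 hdet hfix
    exact Subtype.ext this
  have hbij : Function.Bijective ρ := by
    rw [Nat.bijective_iff_injective_and_card]
    refine ⟨hinj, ?_⟩
    rw [card_SO3, Nat.card_eq_fintype_card, Fintype.card_perm, Fintype.card_fin]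
    rfl
  exact ⟨MulEquiv.ofBijective ρ hbij⟩

theorem main0823 {F : Type*} [Field F] [Fintype F] (hF : Fintype.card F = 3) :
    Nonempty (↥(Cfsg.specialIsometryGroup F (Cfsg.quadFormOdd 1 F)) ≃* Equiv.Perm (Fin 4)) := by
  haveI : Fact (Nat.Prime 3) := ⟨Nat.prime_three⟩
  let e : ZMod 3 ≃+* F := ZMod.ringEquivOfPrime F Nat.prime_three hF
  obtain ⟨f⟩ := so_equiv hF (by decide : Fintype.card (ZMod 3) = 3) e.symm
  obtain ⟨g⟩ := main_zmod
  exact ⟨f.trans g⟩

/-- SO_3(3) ≅ S_4: the determinant-one isometries of the form x_0² + x_1y_1 over the field with 3 elements form a group isomorphic to the symmetric group on 4 letters. -/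
theorem result {F : Type*} [Field F] [Fintype F] (hF : Fintype.card F = 3) : Nonempty (↥(Cfsg.specialIsometryGroup F (Cfsg.quadFormOdd 1 F)) ≃* Equiv.Perm (Fin 4)) := by
  exact main0823 hF

end Cfsg.Agent.S0823
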