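import Cfsg.Statements.S0824
import Mathlib
import Cfsg.Agent.S0288
import Cfsg.Agent.S0290

set_option autoImplicit false
open Cfsg

namespace Cfsg.Agent.S0824

open Cfsg.Agent.Lib.Helper2.Quad Cfsg.Agent.Lib.Helper2.Herm Matrix

theorem zero_or_one {F : Type*} [Field F] [Fintype F] (hF : Fintype.card F = 2) (x : F) :
    x = 0 ∨ x = 1 := by
  classical
  by_contra h
  push Not at h
  have hc : ({0, 1, x} : Finset F).card = 3 :=
    Finset.card_eq_three.2 ⟨0, 1, x, zero_ne_one, Ne.symm h.1, Ne.symm h.2, rfl⟩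
  have := Finset.card_le_univ ({0, 1, x} : Finset F)
  omega

theorem two_eq_zero {F : Type*} [Field F] [Fintype F] (hF : Fintype.card F = 2) :
    (1 + 1 : F) = 0 := by
  rcases zero_or_one hF (1 + 1) with h | h
  · exact h
  · exfalso
    have : (1 : F) = 0 := by linear_combination h
    exact one_ne_zero this

theorem aniso11 {F : Type*} [Field F] [Fintype F] (hF : Fintype.card F = 2) :
    Aniso (1 : F) 1 := by
  intro z₁ z₂ h
  have h2 := two_eq_zero hF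
  rcases zero_or_one hF z₁ with rfl | rfl <;> rcases zero_or_one hF z₂ with rfl | rfl
  · exact ⟨rfl, rfl⟩
  · exfalso
    have : (1 : F) = 0 := by linear_combination h
    exact one_ne_zero this
  · exfalso
    have : (1 : F) = 0 := by linear_combination h
    exact one_ne_zero this
  · exfalso
    have : (1 : F) = 0 := by linear_combination h - h2
    exact one_ne_zero this

theorem inv_mulVec {ι : Type} [Fintype ι] [DecidableEq ι] {F : Type*} [Field F]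
    (g : Matrix.GeneralLinearGroup ι F) (v : ι → F) :
    ((g⁻¹ : Matrix.GeneralLinearGroup ι F) : Matrix ι ι F) *ᵥ ((g : Matrix ι ι F) *ᵥ v) = v := by
  rw [Matrix.mulVec_mulVec, ← Units.val_mul, inv_mul_cancel, Units.val_one, Matrix.one_mulVec]

/-- O⁻_4(2) ≅ S_5: the isometry group of the form x y + z_1² + z_1 z_2 + z_2² over the field with 2 elements is isomorphic to the symmetric group on 5 letters. -/
theorem result {F : Type*} [Field F] [Fintype F] (hF : Fintype.card F = 2) : Nonempty (↥(Cfsg.isometryGroup F (Cfsg.quadFormMinus 1 F 1 1)) ≃* Equiv.Perm (Fin 5)) := by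
  classical
  have hab : Aniso (1 : F) 1 := aniso11 hF
  have h2 : (1 + 1 : F) = 0 := two_eq_zero hF
  have hG : Nat.card ↥(Cfsg.isometryGroup F (Cfsg.quadFormMinus 1 F 1 1)) = 120 := by
    have h := Cfsg.Agent.S0288.result hF 2 (by norm_num) 1 1 hab
    have h' : Nat.card ↥(Cfsg.isometryGroup F (Cfsg.quadFormMinus 1 F 1 1)) =
        2 * 2 ^ (2 * (2 - 1)) * (2 ^ 2 + 1) *
          ∏ i ∈ Finset.range (2 - 1), (2 ^ (2 * (i + 1)) - 1) := h
    rw [h']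
    decide
  have hX : Nat.card {v : (Fin 1 ⊕ Fin 1) ⊕ Fin 2 → F //
      Cfsg.quadFormMinus 1 F 1 1 v = 0 ∧ ¬ v = 0} = 5 := by
    have h := Cfsg.Agent.S0290.result hF 2 (by norm_num) 1 1 hab
    have h' : Nat.card {v : (Fin 1 ⊕ Fin 1) ⊕ Fin 2 → F //
        Cfsg.quadFormMinus 1 F 1 1 v = 0} = 2 ^ (2 * 2 - 1) + 2 ^ (2 - 1) - 2 ^ 2 := h
    rw [card_sub_of_imp (fun v : (Fin 1 ⊕ Fin 1) ⊕ Fin 2 → F =>
        Cfsg.quadFormMinus 1 F 1 1 v = 0) (fun v => v = 0)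
        (fun v hv => by rw [hv]; exact Q_zero (minusQS 1 F 1 1)), h']
    simp
  -- the action on singular vectors
  let act : ↥(Cfsg.isometryGroup F (Cfsg.quadFormMinus 1 F 1 1)) →
      {v : (Fin 1 ⊕ Fin 1) ⊕ Fin 2 → F // Cfsg.quadFormMinus 1 F 1 1 v = 0 ∧ ¬ v = 0} →
      {v : (Fin 1 ⊕ Fin 1) ⊕ Fin 2 → F // Cfsg.quadFormMinus 1 F 1 1 v = 0 ∧ ¬ v = 0} :=
    fun g v => ⟨(g.1 : Matrix ((Fin 1 ⊕ Fin 1) ⊕ Fin 2) ((Fin 1 ⊕ Fin 1) ⊕ Fin 2) F) *ᵥ v.1,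
      (g.2 v.1 v.1).trans v.2.1, fun h0 => v.2.2 (by
        have h3 := inv_mulVec g.1 v.1
        rw [h0, Matrix.mulVec_zero] at h3
        exact h3.symm)⟩
  letI : MulAction ↥(Cfsg.isometryGroup F (Cfsg.quadFormMinus 1 F 1 1))
      {v : (Fin 1 ⊕ Fin 1) ⊕ Fin 2 → F // Cfsg.quadFormMinus 1 F 1 1 v = 0 ∧ ¬ v = 0} :=
    { smul := act
      one_smul := fun v => Subtype.ext (by
        show (1 : Matrix ((Fin 1 ⊕ Fin 1) ⊕ Fin 2) ((Fin 1 ⊕ Fin 1) ⊕ Fin 2) F) *ᵥ v.1 = v.1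
        exact Matrix.one_mulVec _)
      mul_smul := fun g h v => Subtype.ext (by
        show ((g.1 : Matrix ((Fin 1 ⊕ Fin 1) ⊕ Fin 2) ((Fin 1 ⊕ Fin 1) ⊕ Fin 2) F) *
          (h.1 : Matrix ((Fin 1 ⊕ Fin 1) ⊕ Fin 2) ((Fin 1 ⊕ Fin 1) ⊕ Fin 2) F)) *ᵥ v.1 =
          (g.1 : Matrix ((Fin 1 ⊕ Fin 1) ⊕ Fin 2) ((Fin 1 ⊕ Fin 1) ⊕ Fin 2) F) *ᵥ
            ((h.1 : Matrix ((Fin 1 ⊕ Fin 1) ⊕ Fin 2) ((Fin 1 ⊕ Fin 1) ⊕ Fin 2) F) *ᵥ v.1)
        rw [Matrix.mulVec_mulVec]) }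
  set ρ := MulAction.toPermHom ↥(Cfsg.isometryGroup F (Cfsg.quadFormMinus 1 F 1 1))
      {v : (Fin 1 ⊕ Fin 1) ⊕ Fin 2 → F // Cfsg.quadFormMinus 1 F 1 1 v = 0 ∧ ¬ v = 0} with hρ
  -- four singular vectors spanning the space
  set S := minusQS 1 F (1 : F) 1 with hS
  set e : (Fin 1 ⊕ Fin 1) ⊕ Fin 2 → F := Pi.single (Sum.inl (Sum.inl 0)) 1 with he
  set f : (Fin 1 ⊕ Fin 1) ⊕ Fin 2 → F := Pi.single (Sum.inl (Sum.inr 0)) 1 with hf
  set z₁ : (Fin 1 ⊕ Fin 1) ⊕ Fin 2 → F := Pi.single (Sum.inr 0) 1 with hz₁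
  set z₂ : (Fin 1 ⊕ Fin 1) ⊕ Fin 2 → F := Pi.single (Sum.inr 1) 1 with hz₂
  have hQe : S.Q e = 0 := minus_Q_single_x 1 1 1 0
  have hQf : S.Q f = 0 := minus_Q_single_y 1 1 1 0
  have hQ1 : S.Q z₁ = 1 := minus_Q_single_0 1 1 1
  have hQ2 : S.Q z₂ = 1 := minus_Q_single_1 1 1 1
  have hBef : S.B e f = 1 := by
    rw [he, hS, minus_B_single_x]
    exact Pi.single_eq_same _ _
  have hBe1 : S.B e z₁ = 0 := by
    rw [he, hS, minus_B_single_x]
    exact Pi.single_eq_of_ne (by simp) _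
  have hBe2 : S.B e z₂ = 0 := by
    rw [he, hS, minus_B_single_x]
    exact Pi.single_eq_of_ne (by simp) _
  have hBf1 : S.B f z₁ = 0 := by
    rw [hf, hS, minus_B_single_y]
    exact Pi.single_eq_of_ne (by simp) _
  have hBf2 : S.B f z₂ = 0 := by
    rw [hf, hS, minus_B_single_y]
    exact Pi.single_eq_of_ne (by simp) _
  have hQv1 : S.Q (e + f + z₁) = 0 := by
    rw [S.Q_add, S.Q_add, S.B_add_left, hQe, hQf, hQ1, hBef, hBe1, hBf1]
    linear_combination h2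
  have hQv2 : S.Q (e + f + z₂) = 0 := by
    rw [S.Q_add, S.Q_add, S.B_add_left, hQe, hQf, hQ2, hBef, hBe2, hBf2]
    linear_combination h2
  have hne : ∀ (s : (Fin 1 ⊕ Fin 1) ⊕ Fin 2) (v : (Fin 1 ⊕ Fin 1) ⊕ Fin 2 → F),
      v s = 1 → ¬ v = 0 := by
    intro s v hv h0
    rw [h0] at hv
    exact zero_ne_one hv
  have hinj : Function.Injective ρ := by
    rw [injective_iff_map_eq_one]
    intro g hg
    have hfix : ∀ v : (Fin 1 ⊕ Fin 1) ⊕ Fin 2 → F, Cfsg.quadFormMinus 1 F 1 1 v = 0 →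
        ¬ v = 0 → (g.1 : Matrix ((Fin 1 ⊕ Fin 1) ⊕ Fin 2) ((Fin 1 ⊕ Fin 1) ⊕ Fin 2) F) *ᵥ v = v := by
      intro v hv hv0
      have h3 := DFunLike.congr_fun hg (⟨v, hv, hv0⟩ :
        {v : (Fin 1 ⊕ Fin 1) ⊕ Fin 2 → F // Cfsg.quadFormMinus 1 F 1 1 v = 0 ∧ ¬ v = 0})
      exact congrArg Subtype.val h3
    have hge := hfix e hQe (hne (Sum.inl (Sum.inl 0)) e (Pi.single_eq_same _ _))
    have hgf := hfix f hQf (hne (Sum.inl (Sum.inr 0)) f (Pi.single_eq_same _ _))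
    have hg1 := hfix (e + f + z₁) hQv1 (hne (Sum.inr 0) _ (by
      show e (Sum.inr 0) + f (Sum.inr 0) + z₁ (Sum.inr 0) = 1
      rw [he, hf, hz₁]
      simp))
    have hg2 := hfix (e + f + z₂) hQv2 (hne (Sum.inr 1) _ (by
      show e (Sum.inr 1) + f (Sum.inr 1) + z₂ (Sum.inr 1) = 1
      rw [he, hf, hz₂]
      simp))
    rw [Matrix.mulVec_add, Matrix.mulVec_add, hge, hgf] at hg1 hg2
    have hgz1 := add_left_cancel hg1
    have hgz2 := add_left_cancel hg2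
    apply Subtype.ext
    apply Units.ext
    apply Matrix.ext_of_mulVec_single
    intro s
    show (g.1 : Matrix ((Fin 1 ⊕ Fin 1) ⊕ Fin 2) ((Fin 1 ⊕ Fin 1) ⊕ Fin 2) F) *ᵥ Pi.single s 1 =
      (1 : Matrix ((Fin 1 ⊕ Fin 1) ⊕ Fin 2) ((Fin 1 ⊕ Fin 1) ⊕ Fin 2) F) *ᵥ Pi.single s 1
    rw [Matrix.one_mulVec]
    rcases s with (i | i) | j
    · rw [Subsingleton.elim i 0]
      exact hge
    · rw [Subsingleton.elim i 0]
      exact hgf
    · fin_cases j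
      · exact hgz1
      · exact hgz2
  have hbij : Function.Bijective ρ := by
    rw [Nat.bijective_iff_injective_and_card]
    refine ⟨hinj, ?_⟩
    rw [hG, Nat.card_perm, hX]
    rfl
  exact ⟨(MulEquiv.ofBijective ρ hbij).trans (Equiv.permCongrHom (Finite.equivFinOfCardEq hX))⟩

end Cfsg.Agent.S0824
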