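import Cfsg.Statements.S0828
import Mathlib
import Cfsg.Agent.Lib.Helper2.SympForm
import Cfsg.Agent.Lib.Helper2.Symp
-- import your own Cfsg.Agent.* helpers here

set_option autoImplicit false
open Cfsg

namespace Cfsg.Agent.S0828

open Cfsg.Agent.Lib.Helper2 Matrix

theorem card_fibers {X Y : Type*} [Finite X] [Finite Y] (f : X → Y) (c : ℕ)
    (h : ∀ y, Nat.card {x // f x = y} = c) : Nat.card X = Nat.card Y * c := by
  classical
  haveI := Fintype.ofFinite Y
  rw [← Nat.card_congr (Equiv.sigmaFiberEquiv f), Nat.card_sigma]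
  simp only [h, Finset.sum_const, Finset.card_univ, smul_eq_mul, Nat.card_eq_fintype_card]

theorem card_sub_of_imp {α : Type*} [Finite α] (p r : α → Prop) (h : ∀ x, r x → p x) :
    Nat.card {x // p x ∧ ¬ r x} = Nat.card {x // p x} - Nat.card {x // r x} := by
  classical
  haveI := Fintype.ofFinite α
  rw [Nat.card_eq_fintype_card, Nat.card_eq_fintype_card, Nat.card_eq_fintype_card,
    Fintype.card_subtype, Fintype.card_subtype, Fintype.card_subtype]
  have h1 : (Finset.univ.filter (fun x => p x ∧ ¬ r x)) =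
      (Finset.univ.filter p) \ (Finset.univ.filter r) := by
    ext x; simp
  have h2 : Finset.univ.filter r ⊆ Finset.univ.filter p := by
    intro x hx
    rw [Finset.mem_filter] at hx ⊢
    exact ⟨hx.1, h x hx.2⟩
  rw [h1, Finset.card_sdiff_of_subset h2]

theorem card_ne {M : Type*} [Finite M] (a : M) :
    Nat.card {v : M // v ≠ a} = Nat.card M - 1 := by
  classical
  haveI := Fintype.ofFinite M
  rw [Nat.card_eq_fintype_card, Nat.card_eq_fintype_card]
  have := Fintype.card_subtype_compl (fun v : M => v = a)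
  rw [Fintype.card_subtype_eq] at this
  convert this

theorem finSub (F : Type*) [Field F] [Finite F] :
    Finite (Submodule F (Fin 2 ⊕ Fin 2 → F)) :=
  Finite.of_injective (fun W : Submodule F (Fin 2 ⊕ Fin 2 → F) => (W : Set (Fin 2 ⊕ Fin 2 → F)))
    SetLike.coe_injective

section
variable {F : Type*} [Field F]

/-- the functional `f(v, ·)` -/
def perpLin (v : Fin 2 ⊕ Fin 2 → F) : (Fin 2 ⊕ Fin 2 → F) →ₗ[F] F where
  toFun w := Cfsg.sympForm 2 F v w
  map_add' a b := sympForm_add_right 2 v a b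
  map_smul' c a := by
    show Cfsg.sympForm 2 F v (c • a) = c • Cfsg.sympForm 2 F v a
    rw [sympForm_smul_right, smul_eq_mul]

theorem perpLin_apply (v w : Fin 2 ⊕ Fin 2 → F) : perpLin v w = Cfsg.sympForm 2 F v w := rfl

theorem exists_form_ne_zero (v : Fin 2 ⊕ Fin 2 → F) (hv : v ≠ 0) :
    ∃ w, Cfsg.sympForm 2 F v w ≠ 0 := by
  classical
  obtain ⟨t, ht⟩ := Function.ne_iff.1 hv
  refine ⟨Matrix.J (Fin 2) F *ᵥ (Pi.single t 1), ?_⟩
  unfold Cfsg.sympForm
  rw [J_mulVec_J_mulVec, dotProduct_neg, dotProduct_single_one]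
  exact neg_ne_zero.2 ht

theorem card_mem [Fintype F] (W : Submodule F (Fin 2 ⊕ Fin 2 → F))
    (hW : Module.finrank F W = 2) :
    Nat.card {x : Fin 2 ⊕ Fin 2 → F // x ∈ W} = Fintype.card F ^ 2 := by
  have := Module.natCard_eq_pow_finrank (K := F) (V := ↥W)
  rw [hW, Nat.card_eq_fintype_card (α := F)] at this
  exact this

theorem card_perp [Fintype F] (v : Fin 2 ⊕ Fin 2 → F) (hv : v ≠ 0) :
    Nat.card {w : Fin 2 ⊕ Fin 2 → F // Cfsg.sympForm 2 F v w = 0} = Fintype.card F ^ 3 := by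
  obtain ⟨w0, hw0⟩ := exists_form_ne_zero v hv
  have hsurj : Function.Surjective (perpLin v) := by
    intro a
    refine ⟨(a / Cfsg.sympForm 2 F v w0) • w0, ?_⟩
    rw [map_smul, perpLin_apply, smul_eq_mul, div_mul_cancel₀ _ hw0]
  have hrange : LinearMap.range (perpLin v) = ⊤ := LinearMap.range_eq_top.2 hsurj
  have hrn := LinearMap.finrank_range_add_finrank_ker (perpLin v)
  rw [hrange, finrank_top, Module.finrank_self, Module.finrank_fintype_fun_eq_card] at hrn
  have h4 : Fintype.card (Fin 2 ⊕ Fin 2) = 4 := by simp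
  rw [h4] at hrn
  have hker : Module.finrank F ↥(LinearMap.ker (perpLin v)) = 3 := by omega
  have hcard := Module.natCard_eq_pow_finrank (K := F) (V := ↥(LinearMap.ker (perpLin v)))
  rw [hker, Nat.card_eq_fintype_card (α := F)] at hcard
  rw [← hcard]
  exact Nat.card_congr (Equiv.subtypeEquivRight
    (fun w => by rw [LinearMap.mem_ker, perpLin_apply]))

theorem card_multiples [Fintype F] (v : Fin 2 ⊕ Fin 2 → F) (hv : v ≠ 0) :
    Nat.card {w : Fin 2 ⊕ Fin 2 → F // ∃ a : F, a • v = w} = Fintype.card F := by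
  have hinj : Function.Injective (fun a : F => a • v) := smul_left_injective F hv
  rw [← Nat.card_eq_fintype_card]
  exact (Nat.card_congr (Equiv.ofInjective _ hinj)).symm

theorem card_Frv [Fintype F] (v : Fin 2 ⊕ Fin 2 → F) (hv : v ≠ 0) :
    Nat.card {w : Fin 2 ⊕ Fin 2 → F // Cfsg.sympForm 2 F v w = 0 ∧ ∀ a : F, a • v ≠ w} =
      Fintype.card F ^ 3 - Fintype.card F := by
  have h1 : Nat.card {w : Fin 2 ⊕ Fin 2 → F // Cfsg.sympForm 2 F v w = 0 ∧ ¬ ∃ a : F, a • v = w} =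
      Nat.card {w : Fin 2 ⊕ Fin 2 → F // Cfsg.sympForm 2 F v w = 0} -
        Nat.card {w : Fin 2 ⊕ Fin 2 → F // ∃ a : F, a • v = w} :=
    card_sub_of_imp (fun w : Fin 2 ⊕ Fin 2 → F => Cfsg.sympForm 2 F v w = 0)
      (fun w => ∃ a : F, a • v = w) (by
        rintro w ⟨a, rfl⟩
        show Cfsg.sympForm 2 F v (a • v) = 0
        rw [sympForm_smul_right, sympForm_self, mul_zero])
  rw [card_perp v hv, card_multiples v hv] at h1
  rw [← h1]
  exact Nat.card_congr (Equiv.subtypeEquivRight (fun w => and_congr Iff.rfl not_exists.symm))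

theorem ti_span {k : ℕ} (z : Fin k → (Fin 2 ⊕ Fin 2 → F))
    (hz : ∀ i j, Cfsg.sympForm 2 F (z i) (z j) = 0) :
    ∀ u ∈ Submodule.span F (Set.range z), ∀ w ∈ Submodule.span F (Set.range z),
      Cfsg.sympForm 2 F u w = 0 := by
  have h1 : ∀ w ∈ Submodule.span F (Set.range z), ∀ i, Cfsg.sympForm 2 F (z i) w = 0 := by
    intro w hw i
    refine Submodule.span_induction (p := fun w _ => Cfsg.sympForm 2 F (z i) w = 0) ?_ ?_ ?_ ?_ hw
    · rintro _ ⟨j, rfl⟩
      exact hz i j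
    · show Cfsg.sympForm 2 F (z i) 0 = 0
      unfold Cfsg.sympForm
      rw [Matrix.mulVec_zero, dotProduct_zero]
    · intro a b _ _ ha hb
      rw [sympForm_add_right, ha, hb, add_zero]
    · intro c a _ ha
      rw [sympForm_smul_right, ha, mul_zero]
  intro u hu w hw
  refine Submodule.span_induction (p := fun u _ => Cfsg.sympForm 2 F u w = 0) ?_ ?_ ?_ ?_ hu
  · rintro _ ⟨i, rfl⟩
    exact h1 w hw i
  · show Cfsg.sympForm 2 F 0 w = 0
    unfold Cfsg.sympForm
    rw [zero_dotProduct]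
  · intro a b _ _ ha hb
    rw [sympForm_add_left, ha, hb, add_zero]
  · intro c a _ ha
    rw [sympForm_smul_left, ha, mul_zero]

theorem pair_facts (v w : Fin 2 ⊕ Fin 2 → F) (hv : v ≠ 0)
    (hvw : Cfsg.sympForm 2 F v w = 0) (hw : ∀ a : F, a • v ≠ w) :
    Module.finrank F ↥(Submodule.span F (Set.range ![v, w])) = 2 ∧
    (∀ u ∈ Submodule.span F (Set.range ![v, w]), ∀ x ∈ Submodule.span F (Set.range ![v, w]),
      Cfsg.sympForm 2 F u x = 0) := by
  have hwv : Cfsg.sympForm 2 F w v = 0 := by rw [sympForm_swap, hvw, neg_zero]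
  constructor
  · have hli : LinearIndependent F ![v, w] := (LinearIndependent.pair_iff' hv).2 hw
    rw [finrank_span_eq_card hli, Fintype.card_fin]
  · apply ti_span
    intro i j
    fin_cases i <;> fin_cases j
    · exact sympForm_self 2 v
    · exact hvw
    · exact hwv
    · exact sympForm_self 2 w

theorem card_TIv [Fintype F] (v : Fin 2 ⊕ Fin 2 → F) (hv : v ≠ 0) :
    Nat.card {W : Submodule F (Fin 2 ⊕ Fin 2 → F) // Module.finrank F W = 2 ∧ v ∈ W ∧
      ∀ u ∈ W, ∀ w ∈ W, Cfsg.sympForm 2 F u w = 0} = Fintype.card F + 1 := by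
  classical
  haveI := finSub F
  have hq : 1 < Fintype.card F := Fintype.one_lt_card
  let sp : {w : Fin 2 ⊕ Fin 2 → F // Cfsg.sympForm 2 F v w = 0 ∧ ∀ a : F, a • v ≠ w} →
      {W : Submodule F (Fin 2 ⊕ Fin 2 → F) // Module.finrank F W = 2 ∧ v ∈ W ∧
        ∀ u ∈ W, ∀ w ∈ W, Cfsg.sympForm 2 F u w = 0} :=
    fun w => ⟨Submodule.span F (Set.range ![v, w.1]), (pair_facts v w.1 hv w.2.1 w.2.2).1,
      Submodule.subset_span ⟨0, rfl⟩, (pair_facts v w.1 hv w.2.1 w.2.2).2⟩
  have hfib : ∀ W, Nat.card {w // sp w = W} = Fintype.card F ^ 2 - Fintype.card F := by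
    intro W
    have hcount : Nat.card {w : Fin 2 ⊕ Fin 2 → F // w ∈ W.1 ∧ ∀ a : F, a • v ≠ w} =
        Fintype.card F ^ 2 - Fintype.card F := by
      have h1 : Nat.card {w : Fin 2 ⊕ Fin 2 → F // w ∈ W.1 ∧ ¬ ∃ a : F, a • v = w} =
          Nat.card {w : Fin 2 ⊕ Fin 2 → F // w ∈ W.1} -
            Nat.card {w : Fin 2 ⊕ Fin 2 → F // ∃ a : F, a • v = w} :=
        card_sub_of_imp (fun w : Fin 2 ⊕ Fin 2 → F => w ∈ W.1) (fun w => ∃ a : F, a • v = w)
          (by
            rintro w ⟨a, rfl⟩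
            exact W.1.smul_mem a W.2.2.1)
      rw [card_mem W.1 W.2.1, card_multiples v hv] at h1
      rw [← h1]
      exact Nat.card_congr (Equiv.subtypeEquivRight (fun w => and_congr Iff.rfl not_exists.symm))
    rw [← hcount]
    apply Nat.card_congr
    refine
      { toFun := fun w => ⟨w.1.1, ?_, w.1.2.2⟩
        invFun := fun w => ⟨⟨w.1, W.2.2.2 v W.2.2.1 w.1 w.2.1, w.2.2⟩, ?_⟩
        left_inv := fun w => rfl
        right_inv := fun w => rfl }
    · have h' : Submodule.span F (Set.range ![v, w.1.1]) = W.1 := congrArg Subtype.val w.2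
      rw [← h']
      exact Submodule.subset_span ⟨1, rfl⟩
    · apply Subtype.ext
      show Submodule.span F (Set.range ![v, w.1]) = W.1
      apply Submodule.eq_of_le_of_finrank_eq
      · rw [Submodule.span_le]
        rintro _ ⟨i, rfl⟩
        fin_cases i
        · exact W.2.2.1
        · exact w.2.1
      · rw [(pair_facts v w.1 hv (W.2.2.2 v W.2.2.1 w.1 w.2.1) w.2.2).1, W.2.1]
  have hmain := card_fibers sp (Fintype.card F ^ 2 - Fintype.card F) hfib
  rw [card_Frv v hv] at hmain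
  obtain ⟨r, hr⟩ : ∃ r, Fintype.card F = r + 1 := ⟨Fintype.card F - 1, by omega⟩
  rw [hr] at hmain ⊢
  have e1 : (r + 1) ^ 3 - (r + 1) = (r + 2) * ((r + 1) * r) := Nat.sub_eq_of_eq_add (by ring)
  have e2 : (r + 1) ^ 2 - (r + 1) = (r + 1) * r := Nat.sub_eq_of_eq_add (by ring)
  rw [e1, e2] at hmain
  have hpos : 0 < (r + 1) * r := by
    have : 0 < r := by omega
    positivity
  have := Nat.eq_of_mul_eq_mul_right hpos hmain
  omega

/-- flags (nonzero vector, totally isotropic plane containing it) -/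
abbrev Fl (F : Type*) [Field F] : Type _ :=
  {p : (Fin 2 ⊕ Fin 2 → F) × Submodule F (Fin 2 ⊕ Fin 2 → F) // p.1 ≠ 0 ∧
    Module.finrank F p.2 = 2 ∧ p.1 ∈ p.2 ∧ ∀ u ∈ p.2, ∀ w ∈ p.2, Cfsg.sympForm 2 F u w = 0}

theorem card_TI [Fintype F] :
    Nat.card {W : Submodule F (Fin 2 ⊕ Fin 2 → F) // Module.finrank F W = 2 ∧
      ∀ u ∈ W, ∀ v ∈ W, Cfsg.sympForm 2 F u v = 0} =
      (Fintype.card F + 1) * (Fintype.card F ^ 2 + 1) := by
  classical
  haveI := finSub F
  have hq : 1 < Fintype.card F := Fintype.one_lt_card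
  let pr1 : Fl F → {v : Fin 2 ⊕ Fin 2 → F // v ≠ 0} := fun p => ⟨p.1.1, p.2.1⟩
  let pr2 : Fl F → {W : Submodule F (Fin 2 ⊕ Fin 2 → F) // Module.finrank F W = 2 ∧
      ∀ u ∈ W, ∀ v ∈ W, Cfsg.sympForm 2 F u v = 0} := fun p => ⟨p.1.2, p.2.2.1, p.2.2.2.2⟩
  have h1 : Nat.card (Fl F) = Nat.card {v : Fin 2 ⊕ Fin 2 → F // v ≠ 0} *
      (Fintype.card F + 1) := by
    apply card_fibers pr1
    intro v
    rw [← card_TIv v.1 v.2]
    apply Nat.card_congr
    refine
      { toFun := fun p => ⟨p.1.1.2, p.1.2.2.1, ?_, p.1.2.2.2.2⟩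
        invFun := fun W => ⟨⟨(v.1, W.1), v.2, W.2.1, W.2.2.1, W.2.2.2⟩, rfl⟩
        left_inv := fun p => ?_
        right_inv := fun W => rfl }
    · have h : p.1.1.1 = v.1 := congrArg Subtype.val p.2
      rw [← h]
      exact p.1.2.2.2.1
    · have h : p.1.1.1 = v.1 := congrArg Subtype.val p.2
      exact Subtype.ext (Subtype.ext (Prod.ext h.symm rfl))
  have h2 : Nat.card (Fl F) = Nat.card {W : Submodule F (Fin 2 ⊕ Fin 2 → F) //
      Module.finrank F W = 2 ∧ ∀ u ∈ W, ∀ v ∈ W, Cfsg.sympForm 2 F u v = 0} *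
      (Fintype.card F ^ 2 - 1) := by
    apply card_fibers pr2
    intro W
    have hcount : Nat.card {x : Fin 2 ⊕ Fin 2 → F // x ∈ W.1 ∧ x ≠ 0} =
        Fintype.card F ^ 2 - 1 := by
      have h1 : Nat.card {x : Fin 2 ⊕ Fin 2 → F // x ∈ W.1 ∧ ¬ x = 0} =
          Nat.card {x : Fin 2 ⊕ Fin 2 → F // x ∈ W.1} -
            Nat.card {x : Fin 2 ⊕ Fin 2 → F // x = 0} :=
        card_sub_of_imp (fun x : Fin 2 ⊕ Fin 2 → F => x ∈ W.1) (fun x => x = 0)
          (by
            rintro x rfl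
            exact W.1.zero_mem)
      have h3 : Nat.card {x : Fin 2 ⊕ Fin 2 → F // x = 0} = 1 := by
        rw [Nat.card_eq_fintype_card, Fintype.card_subtype_eq]
      rw [card_mem W.1 W.2.1, h3] at h1
      exact h1
    rw [← hcount]
    apply Nat.card_congr
    refine
      { toFun := fun p => ⟨p.1.1.1, ?_, p.1.2.1⟩
        invFun := fun x => ⟨⟨(x.1, W.1), x.2.2, W.2.1, x.2.1, W.2.2⟩, rfl⟩
        left_inv := fun p => ?_
        right_inv := fun x => rfl }
    · have h : p.1.1.2 = W.1 := congrArg Subtype.val p.2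
      rw [← h]
      exact p.1.2.2.2.1
    · have h : p.1.1.2 = W.1 := congrArg Subtype.val p.2
      exact Subtype.ext (Subtype.ext (Prod.ext rfl h.symm))
  have hV : Nat.card {v : Fin 2 ⊕ Fin 2 → F // v ≠ 0} = Fintype.card F ^ 4 - 1 := by
    rw [card_ne, Nat.card_eq_fintype_card, Fintype.card_fun]
    have : Fintype.card (Fin 2 ⊕ Fin 2) = 4 := by simp
    rw [this]
  have hpos : 0 < Fintype.card F ^ 2 := pow_pos (by omega) 2
  obtain ⟨s, hs⟩ : ∃ s, Fintype.card F ^ 2 = s + 1 := ⟨Fintype.card F ^ 2 - 1, by omega⟩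
  have hq4 : Fintype.card F ^ 4 = (s + 1) ^ 2 := by rw [← hs]; ring
  have hs3 : 0 < s := by
    have : 2 ^ 2 ≤ Fintype.card F ^ 2 := Nat.pow_le_pow_left hq 2
    omega
  rw [h1, hV, hq4] at h2
  rw [hs] at h2 ⊢
  have e1 : (s + 1) ^ 2 - 1 = (s + 2) * s := Nat.sub_eq_of_eq_add (by ring)
  rw [e1, Nat.add_sub_cancel] at h2
  have h3 : (s + 2) * (Fintype.card F + 1) * s =
      Nat.card {W : Submodule F (Fin 2 ⊕ Fin 2 → F) //
        Module.finrank F W = 2 ∧ ∀ u ∈ W, ∀ v ∈ W, Cfsg.sympForm 2 F u v = 0} * s := by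
    rw [← h2]; ring
  have h4 := Nat.eq_of_mul_eq_mul_right hs3 h3
  rw [← h4]; ring

end

/-- The symplectic generalised quadrangle over a field with q elements: the number of 2-dimensional subspaces of F^4 on which the symplectic form vanishes is (q + 1)(q² + 1), and every non-zero vector lies in exactly q + 1 of them. -/
theorem result {F : Type*} [Field F] [Fintype F] {q : ℕ} (hF : Fintype.card F = q) : Nat.card {W : Submodule F (Fin 2 ⊕ Fin 2 → F) // Module.finrank F W = 2 ∧ ∀ u ∈ W, ∀ v ∈ W, Cfsg.sympForm 2 F u v = 0} = (q + 1) * (q ^ 2 + 1) ∧ ∀ v : Fin 2 ⊕ Fin 2 → F, v ≠ 0 → Nat.card {W : Submodule F (Fin 2 ⊕ Fin 2 → F) // Module.finrank F W = 2 ∧ v ∈ W ∧ ∀ u ∈ W, ∀ w ∈ W, Cfsg.sympForm 2 F u w = 0} = q + 1 := by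
  subst hF
  exact ⟨card_TI, fun v hv => card_TIv v hv⟩

end Cfsg.Agent.S0828
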