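import Cfsg.Statements.S0830
import Mathlib
import Cfsg.Agent.Lib.Helper2.HermLines
-- import your own Cfsg.Agent.* helpers here

set_option autoImplicit false
open Cfsg

namespace Cfsg.Agent.S0830

open Cfsg.Agent.Lib.Helper2.Herm

theorem arith_a (q B A1 A0 Z T : ℕ) (hq : 1 < q)
    (hB : q ^ 2 * B = q ^ (2 * 5)) (hA1 : A1 * q = B) (hA0 : A0 + (q ^ 2 - 1) * A1 = Z)
    (hZ : Z + q ^ 5 = q ^ 9 + q ^ 4) (hT : T * ((q ^ 2) ^ 2 - q ^ 2) + q ^ 2 = A0) :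
    T = q ^ 3 + 1 := by
  have hq2 : 0 < q ^ 2 := pow_pos (by omega) 2
  have hB6 : B = q ^ 8 := Nat.eq_of_mul_eq_mul_left hq2 (hB.trans (by ring))
  have hA5 : A1 = q ^ 7 :=
    Nat.eq_of_mul_eq_mul_right (by omega : 0 < q) (hA1.trans (hB6.trans (by ring)))
  obtain ⟨s, hs⟩ : ∃ s, q ^ 2 = s + 1 := ⟨q ^ 2 - 1, by omega⟩
  have hle : q ^ 2 ≤ (q ^ 2) ^ 2 := Nat.le_self_pow (by norm_num) _
  obtain ⟨d, hd⟩ : ∃ d, (q ^ 2) ^ 2 = d + q ^ 2 := ⟨(q ^ 2) ^ 2 - q ^ 2, by omega⟩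
  have hs' : q ^ 2 - 1 = s := by omega
  have hd' : (q ^ 2) ^ 2 - q ^ 2 = d := by omega
  rw [hs', hA5] at hA0
  rw [hd'] at hT
  have e1 : s * q ^ 7 + q ^ 7 = q ^ 9 := by
    have : q ^ 9 = q ^ 2 * q ^ 7 := by ring
    rw [this, hs]; ring
  have e2 : (q ^ 3 + 1) * d + q ^ 5 + q ^ 2 = q ^ 7 + q ^ 4 := by
    have : q ^ 7 + q ^ 4 = (q ^ 3 + 1) * (q ^ 2) ^ 2 := by ring
    rw [this, hd]; ring
  have h5 : T * d = (q ^ 3 + 1) * d := by omega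
  have hd0 : 0 < d := by
    have h4 : 2 ≤ q ^ 2 := by nlinarith
    have h6 : (q ^ 2) ^ 2 = q ^ 2 * q ^ 2 := sq _
    nlinarith
  exact Nat.eq_of_mul_eq_mul_right hd0 h5

theorem arith_b (q N Z : ℕ) (hq : 1 < q) (hZ : Z + q ^ 5 = q ^ 9 + q ^ 4)
    (hN : N * ((q ^ 2) ^ 2 - 1) + (q ^ 3 + 1) = Z * (q ^ 3 + 1)) :
    N = (q ^ 3 + 1) * (q ^ 5 + 1) := by
  have hq2 : 0 < (q ^ 2) ^ 2 := pow_pos (pow_pos (by omega) 2) 2
  obtain ⟨e, he⟩ : ∃ e, (q ^ 2) ^ 2 = e + 1 := ⟨(q ^ 2) ^ 2 - 1, by omega⟩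
  have he' : (q ^ 2) ^ 2 - 1 = e := by omega
  rw [he'] at hN
  have hZ' : Z = e * (q ^ 5 + 1) + 1 := by
    have h1 : e * (q ^ 5 + 1) + 1 + q ^ 5 = q ^ 9 + q ^ 4 := by
      have : q ^ 9 + q ^ 4 = (q ^ 2) ^ 2 * q ^ 5 + (q ^ 2) ^ 2 := by ring
      rw [this, he]; ring
    omega
  have h2 : N * e + (q ^ 3 + 1) = (q ^ 3 + 1) * (q ^ 5 + 1) * e + (q ^ 3 + 1) := by
    rw [hN, hZ']; ring
  have h3 : N * e = (q ^ 3 + 1) * (q ^ 5 + 1) * e := Nat.add_right_cancel h2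
  have he0 : 0 < e := by
    have h4 : 2 ≤ q ^ 2 := by nlinarith
    have h6 : (q ^ 2) ^ 2 = q ^ 2 * q ^ 2 := sq _
    nlinarith
  exact Nat.eq_of_mul_eq_mul_right he0 h3

/-- The unitary quadrangle of PSU_5(q): with |F| = q², the number of 2-dimensional subspaces of F^5 on which the Hermitian form vanishes is (q³ + 1)(q⁵ + 1). -/
theorem result {F : Type*} [Field F] [Fintype F] {q : ℕ} (hF : Fintype.card F = q ^ 2) : Nat.card {W : Submodule F (Fin 5 → F) // Module.finrank F W = 2 ∧ ∀ u ∈ W, ∀ v ∈ W, Cfsg.hermForm 5 F q u v = 0} = (q ^ 3 + 1) * (q ^ 5 + 1) := by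
  have hq := one_lt_q hF
  have hZ := z_five hF
  have hnv : ∀ v : Fin 5 → F, v ≠ 0 → Cfsg.hermForm 5 F q v v = 0 →
      Nat.card {W : Submodule F (Fin 5 → F) // Module.finrank F W = 2 ∧ v ∈ W ∧
        ∀ u ∈ W, ∀ w ∈ W, Cfsg.hermForm 5 F q u w = 0} = q ^ 3 + 1 := by
    intro v hv hv0
    exact arith_a q _ _ _ _ _ hq (card_H1 hF 5 v hv) (card_A1 hF 5 v hv0) (card_A0 hF 5 v) hZ
      (card_TIv hF 5 v hv hv0)
  exact arith_b q _ _ hq hZ (card_TI hF 5 (q ^ 3 + 1) hnv)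

end Cfsg.Agent.S0830
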