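import Mathlib
import Cfsg.Statements.S0832
import Cfsg.Agent.Lib.Helper5.TSExt
import Cfsg.Agent.Lib.Helper5.WittIndex2
import Cfsg.Agent.S0304

set_option autoImplicit false
open Cfsg

namespace Cfsg.Agent.S0832

open Cfsg.Agent.Lib.Helper5 Cfsg.Agent.S0304 QuadraticMap

section
variable {F : Type*} [Field F] (m : ℕ)

/-- the hyperbolic form as a Mathlib quadratic form -/
def plusQF : QuadraticForm F (Fin m ⊕ Fin m → F) :=
  ∑ i : Fin m, QuadraticMap.linMulLin (LinearMap.proj (Sum.inl i)) (LinearMap.proj (Sum.inr i))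

theorem plusQF_apply (v : Fin m ⊕ Fin m → F) : plusQF m v = Cfsg.quadFormPlus m F v := by
  simp [plusQF, Cfsg.quadFormPlus, QuadraticMap.sum_apply]

theorem plusQF_polar (u v : Fin m ⊕ Fin m → F) : polar (plusQF (F := F) m) u v = Bp m u v := by
  unfold polar
  rw [plusQF_apply, plusQF_apply, plusQF_apply, Qp_add]
  ring

theorem Bp_comm (u v : Fin m ⊕ Fin m → F) : Bp m u v = Bp m v u := by
  unfold Bp
  apply Finset.sum_congr rfl
  intro i _
  ring

theorem plusQF_nondeg : LinearMap.BilinForm.Nondegenerate (polarBilin (plusQF (F := F) m)) := by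
  have hsep : ∀ x : Fin m ⊕ Fin m → F, (∀ y, Bp m x y = 0) → x = 0 := by
    intro x hx
    funext s
    rcases s with i | i
    · have h := hx (Pi.single (Sum.inr i) 1)
      rw [Bp_single_inr] at h
      exact h
    · have h := hx (Pi.single (Sum.inl i) 1)
      rw [Bp_single_inl] at h
      exact h
  constructor
  · intro x hx
    apply hsep
    intro y
    rw [← plusQF_polar]
    exact hx y
  · intro x hx
    apply hsep
    intro y
    rw [Bp_comm, ← plusQF_polar]
    exact hx y

end

theorem result {F : Type*} [Field F] [Finite F] (m : ℕ) (hm : 1 ≤ m) (U : Submodule F (Fin m ⊕ Fin m → F)) (hU : Module.finrank F U + 1 = m ∧ ∀ u ∈ U, Cfsg.quadFormPlus m F u = 0) : Nat.card {W : Submodule F (Fin m ⊕ Fin m → F) // Module.finrank F W = m ∧ (∀ w ∈ W, Cfsg.quadFormPlus m F w = 0) ∧ U ≤ W} = 2 := by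
  classical
  have hV : Module.finrank F (Fin m ⊕ Fin m → F) = 2 * m := by
    rw [Module.finrank_fintype_fun_eq_card, Fintype.card_sum, Fintype.card_fin]
    ring
  have h := card_ts_extensions (plusQF (F := F) m) (plusQF_nondeg m) m hV
    (LinearMap.range (plusIncl (F := F) m))
    (by
      rintro w ⟨x, rfl⟩
      rw [plusQF_apply]
      exact quadFormPlus_plusIncl m x)
    (finrank_range_plusIncl m) U hU.1
    (by
      intro u hu
      rw [plusQF_apply]
      exact hU.2 u hu)
  simp only [plusQF_apply] at h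
  exact h

end Cfsg.Agent.S0832
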