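import Cfsg.Statements.S0833
import Mathlib
-- import your own Cfsg.Agent.* helpers here

set_option autoImplicit false
open Cfsg

namespace Cfsg.Agent.S0833

open TensorProduct

section
variable {F U W : Type*} [Field F] [AddCommGroup U] [Module F U] [FiniteDimensional F U]
  [AddCommGroup W] [Module F W] [FiniteDimensional F W]

theorem exists_lagrangian (B : LinearMap.BilinForm F U) (hB : B.Nondegenerate) (hA : B.IsAlt)
    (k : ℕ) (hU : Module.finrank F U = 2 * k) :
    ∃ L : Submodule F U, Module.finrank F L = k ∧ ∀ x ∈ L, ∀ y ∈ L, B x y = 0 := by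
  have hwf : WellFounded ((· > ·) : Submodule F U → Submodule F U → Prop) := wellFounded_gt
  obtain ⟨L, hL, hmax⟩ := hwf.has_min {L : Submodule F U | ∀ x ∈ L, ∀ y ∈ L, B x y = 0}
    ⟨⊥, by
      intro x hx y _
      rw [(Submodule.mem_bot F).1 hx]
      simp⟩
  have hL' : ∀ x ∈ L, ∀ y ∈ L, B x y = 0 := hL
  have hLorth : B.orthogonal L ≤ L := by
    intro x hx
    by_contra hxL
    have hx' : ∀ n ∈ L, B n x = 0 := LinearMap.BilinForm.mem_orthogonal_iff.1 hx
    have hx'' : ∀ n ∈ L, B x n = 0 := by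
      intro n hn
      rw [← hA.neg_eq, hx' n hn, neg_zero]
    apply hmax (L ⊔ Submodule.span F {x})
    · intro u hu v hv
      obtain ⟨a, ha, b, hb, rfl⟩ := Submodule.mem_sup.1 hu
      obtain ⟨c, rfl⟩ := Submodule.mem_span_singleton.1 hb
      obtain ⟨a', ha', b', hb', rfl⟩ := Submodule.mem_sup.1 hv
      obtain ⟨c', rfl⟩ := Submodule.mem_span_singleton.1 hb'
      simp only [map_add, map_smul, LinearMap.add_apply, LinearMap.smul_apply, smul_eq_mul]
      rw [hL' a ha a' ha', hx' a ha, hx'' a' ha', hA x]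
      simp
    · refine lt_of_le_of_ne le_sup_left ?_
      intro h
      apply hxL
      rw [h]
      exact Submodule.mem_sup_right (Submodule.mem_span_singleton_self x)
  have hLorth' : L ≤ B.orthogonal L := by
    intro y hy
    rw [LinearMap.BilinForm.mem_orthogonal_iff]
    intro n hn
    exact hL' n hn y hy
  have heq : B.orthogonal L = L := le_antisymm hLorth hLorth'
  have e1 := LinearMap.BilinForm.finrank_orthogonal hB L
  rw [heq] at e1
  have e2 : Module.finrank F L ≤ Module.finrank F U := Submodule.finrank_le _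
  refine ⟨L, by omega, hL'⟩

theorem tmul_apply (B₁ : LinearMap.BilinForm F U) (B₂ : LinearMap.BilinForm F W)
    (u u' : U) (w w' : W) :
    (B₁.tmul B₂) (u ⊗ₜ w) (u' ⊗ₜ w') = B₂ w w' * B₁ u u' := rfl

theorem tmul_isSymm_of_alt (B₁ : LinearMap.BilinForm F U) (B₂ : LinearMap.BilinForm F W)
    (hA₁ : B₁.IsAlt) (hA₂ : B₂.IsAlt) : (B₁.tmul B₂).IsSymm := by
  rw [LinearMap.isSymm_iff_eq_flip]
  ext x₁ x₂ y₁ y₂
  change (B₁.tmul B₂) (x₁ ⊗ₜ x₂) (y₁ ⊗ₜ y₂) = (B₁.tmul B₂) (y₁ ⊗ₜ y₂) (x₁ ⊗ₜ x₂)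
  rw [tmul_apply, tmul_apply, ← hA₁.neg_eq y₁ x₁, ← hA₂.neg_eq y₂ x₂]
  ring

theorem tmul_sepLeft (B₁ : LinearMap.BilinForm F U) (B₂ : LinearMap.BilinForm F W)
    (h₁ : B₁.Nondegenerate) (h₂ : B₂.Nondegenerate) : (B₁.tmul B₂).SeparatingLeft := by
  rw [LinearMap.separatingLeft_iff_ker_eq_bot]
  have key : (B₁.tmul B₂ : U ⊗[F] W →ₗ[F] Module.Dual F (U ⊗[F] W)) =
      (TensorProduct.dualDistribEquiv F U W).toLinearMap ∘ₗ
        (TensorProduct.congr (B₁.toDual h₁) (B₂.toDual h₂)).toLinearMap := by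
    ext u w u' w'
    change (B₁.tmul B₂) (u ⊗ₜ w) (u' ⊗ₜ w') =
      (TensorProduct.dualDistrib F U W)
        ((TensorProduct.congr (B₁.toDual h₁) (B₂.toDual h₂)) (u ⊗ₜ w)) (u' ⊗ₜ w')
    rw [tmul_apply, TensorProduct.congr_tmul, TensorProduct.dualDistrib_apply,
      LinearMap.BilinForm.toDual_def, LinearMap.BilinForm.toDual_def, mul_comm]
  rw [key]
  apply LinearMap.ker_eq_bot.2
  rw [LinearMap.coe_comp]
  exact (LinearEquiv.injective (TensorProduct.dualDistribEquiv F U W)).comp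
    (LinearEquiv.injective (TensorProduct.congr (B₁.toDual h₁) (B₂.toDual h₂)))

theorem tmul_isotropic (B₁ : LinearMap.BilinForm F U) (B₂ : LinearMap.BilinForm F W)
    (L : Submodule F U) (hL : ∀ x ∈ L, ∀ y ∈ L, B₁ x y = 0) :
    ∀ x y : L ⊗[F] W, (B₁.tmul B₂) (LinearMap.rTensor W L.subtype x)
      (LinearMap.rTensor W L.subtype y) = 0 := by
  have key : (B₁.tmul B₂).compl₁₂ (LinearMap.rTensor W L.subtype)
      (LinearMap.rTensor W L.subtype) = 0 := by
    ext x₁ x₂ y₁ y₂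
    change (B₁.tmul B₂) ((x₁ : U) ⊗ₜ x₂) ((y₁ : U) ⊗ₜ y₂) = 0
    rw [tmul_apply, hL x₁ x₁.2 y₁ y₁.2, mul_zero]
  intro x y
  have := LinearMap.congr_fun (LinearMap.congr_fun key x) y
  simpa using this

end

/-- The tensor product of two non-degenerate alternating forms (dimensions 2k and 2l) is a non-degenerate symmetric form on the 4kl-dimensional tensor product which has a totally isotropic subspace of dimension 2kl (plus type): Sp_2k × Sp_2l lies in an orthogonal group of plus type. -/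
theorem result {F U W : Type*} [Field F] [Fintype F] [AddCommGroup U] [Module F U] [FiniteDimensional F U] [AddCommGroup W] [Module F W] [FiniteDimensional F W] (B₁ : LinearMap.BilinForm F U) (B₂ : LinearMap.BilinForm F W) (h₁ : B₁.Nondegenerate) (h₂ : B₂.Nondegenerate) (hA₁ : B₁.IsAlt) (hA₂ : B₂.IsAlt) (k l : ℕ) (hU : Module.finrank F U = 2 * k) (hW : Module.finrank F W = 2 * l) : (B₁.tmul B₂).IsSymm ∧ (B₁.tmul B₂).Nondegenerate ∧ (∃ X : Submodule F (TensorProduct F U W), Module.finrank F X = 2 * k * l ∧ ∀ x ∈ X, ∀ y ∈ X, (B₁.tmul B₂) x y = 0) := by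
  have hsymm := tmul_isSymm_of_alt B₁ B₂ hA₁ hA₂
  refine ⟨hsymm, ?_, ?_⟩
  · exact (LinearMap.IsRefl.nondegenerate_iff_separatingLeft hsymm.isRefl).2
      (tmul_sepLeft B₁ B₂ h₁ h₂)
  · obtain ⟨L, hLk, hL⟩ := exists_lagrangian B₁ h₁ hA₁ k hU
    refine ⟨LinearMap.range (LinearMap.rTensor W L.subtype), ?_, ?_⟩
    · rw [LinearMap.finrank_range_of_inj
        (Module.Flat.rTensor_preserves_injective_linearMap L.subtype L.subtype_injective),
        Module.finrank_tensorProduct, hLk, hW]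
      ring
    · rintro _ ⟨x, rfl⟩ _ ⟨y, rfl⟩
      exact tmul_isotropic B₁ B₂ L hL x y

end Cfsg.Agent.S0833
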