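import Cfsg.Statements.S0838
import Mathlib
import Cfsg.Agent.S0756
-- import your own Cfsg.Agent.* helpers here

set_option autoImplicit false
open Cfsg

namespace Cfsg.Agent.S0838

section
variable {F V : Type*} [Field F] [AddCommGroup V] [Module F V]

/-- The Gram data of a normalized orthogonal basis of type `t`. -/
def gram {k : ℕ} (t : F) (i j : Fin (k + 1)) : F :=
  if i = j then (if i = Fin.last k then t else 1) else 0

theorem gram_of {k : ℕ} (B : LinearMap.BilinForm F V) (b : Fin (k + 1) → V) (α : F)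
    (h1 : ∀ i j, i ≠ j → B (b i) (b j) = 0) (h2 : ∀ i, i ≠ Fin.last k → B (b i) (b i) = 1)
    (h3 : B (b (Fin.last k)) (b (Fin.last k)) = 1 ∨ B (b (Fin.last k)) (b (Fin.last k)) = α) :
    ∃ t : F, (t = 1 ∨ t = α) ∧ ∀ i j, B (b i) (b j) = gram t i j := by
  refine ⟨B (b (Fin.last k)) (b (Fin.last k)), h3, ?_⟩
  intro i j
  unfold gram
  by_cases hij : i = j
  · subst hij
    rw [if_pos rfl]
    by_cases hi : i = Fin.last k
    · rw [if_pos hi, hi]
    · rw [if_neg hi, h2 i hi]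
  · rw [if_neg hij, h1 i j hij]

theorem iso_of_same {k : ℕ} (B B' : LinearMap.BilinForm F V)
    (b b' : Module.Basis (Fin (k + 1)) F V)
    (h : ∀ i j, B (b i) (b j) = B' (b' i) (b' j)) :
    ∃ g : V ≃ₗ[F] V, ∀ x y, B' (g x) (g y) = B x y := by
  refine ⟨b.equiv b' (Equiv.refl _), ?_⟩
  have key : B'.compl₁₂ (b.equiv b' (Equiv.refl _)).toLinearMap
      (b.equiv b' (Equiv.refl _)).toLinearMap = B := by
    apply LinearMap.BilinForm.ext_basis b
    intro i j
    rw [LinearMap.compl₁₂_apply]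
    simp only [LinearEquiv.coe_coe, Module.Basis.equiv_apply, Equiv.refl_apply]
    exact (h i j).symm
  intro x y
  have := LinearMap.congr_fun (LinearMap.congr_fun key x) y
  rw [LinearMap.compl₁₂_apply] at this
  exact this

theorem det_gram {k : ℕ} (t : F) : (Matrix.of (gram (k := k) t)).det = t := by
  have : Matrix.of (gram (k := k) t) =
      Matrix.diagonal (fun i : Fin (k + 1) => if i = Fin.last k then t else 1) := by
    ext i j
    rw [Matrix.of_apply, Matrix.diagonal_apply]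
    rfl
  rw [this, Matrix.det_diagonal, Finset.prod_ite_eq' Finset.univ (Fin.last k) (fun _ => t)]
  simp

theorem type_unique {k : ℕ} (B : LinearMap.BilinForm F V)
    (b b' : Module.Basis (Fin (k + 1)) F V) (t t' s : F)
    (h : ∀ i j, B (b i) (b j) = gram t i j) (h' : ∀ i j, B (b' i) (b' j) = s * gram t' i j) :
    ∃ r : F, s ^ (k + 1) * t' = r * r * t := by
  have e1 : LinearMap.BilinForm.toMatrix b B = Matrix.of (gram (k := k) t) := by
    ext i j
    rw [LinearMap.BilinForm.toMatrix_apply, h]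
    rfl
  have e2 : LinearMap.BilinForm.toMatrix b' B = s • Matrix.of (gram (k := k) t') := by
    ext i j
    rw [LinearMap.BilinForm.toMatrix_apply, h']
    rfl
  have e3 := LinearMap.BilinForm.toMatrix_mul_basis_toMatrix b b' B
  rw [e1, e2] at e3
  have e4 := congrArg Matrix.det e3
  rw [Matrix.det_mul, Matrix.det_mul, Matrix.det_transpose, Matrix.det_smul, det_gram, det_gram,
    Fintype.card_fin] at e4
  refine ⟨(b.toMatrix ⇑b').det, ?_⟩
  rw [← e4]
  ring

end

/-- Over a finite field of odd order, any two quadratic forms with non-degenerate polar form on an odd-dimensional space are similar (one is isometric to a scalar multiple of the other). -/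
theorem result {F : Type*} [Field F] [Fintype F] (h2 : (2 : F) ≠ 0) {n : ℕ} (hn : Odd n) (Q₁ Q₂ : QuadraticForm F (Fin n → F)) (h₁ : (QuadraticMap.polarBilin Q₁).Nondegenerate) (h₂ : (QuadraticMap.polarBilin Q₂).Nondegenerate) : ∃ (g : (Fin n → F) ≃ₗ[F] (Fin n → F)) (c : F), c ≠ 0 ∧ ∀ v, Q₂ (g v) = c * Q₁ v := by
  obtain ⟨m, rfl⟩ := hn
  have hchar : ringChar F ≠ 2 := by
    intro h
    apply h2
    have := CharP.cast_eq_zero F (ringChar F)
    rw [h] at this
    exact_mod_cast this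
  obtain ⟨α, hα⟩ := FiniteField.exists_nonsquare hchar
  have hα0 : α ≠ 0 := by
    rintro rfl
    exact hα ⟨0, by simp⟩
  have hdim : Module.finrank F (Fin (2 * m + 1) → F) = 2 * m + 1 := Module.finrank_fin_fun F
  obtain ⟨B₁, hB₁⟩ : ∃ B : LinearMap.BilinForm F (Fin (2 * m + 1) → F),
      B = QuadraticMap.polarBilin Q₁ := ⟨_, rfl⟩
  obtain ⟨B₂, hB₂⟩ : ∃ B : LinearMap.BilinForm F (Fin (2 * m + 1) → F),
      B = QuadraticMap.polarBilin Q₂ := ⟨_, rfl⟩
  have hB₁app : ∀ x y, B₁ x y = QuadraticMap.polar Q₁ x y := by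
    intro x y; rw [hB₁]; exact QuadraticMap.polarBilin_apply_apply Q₁ x y
  have hB₂app : ∀ x y, B₂ x y = QuadraticMap.polar Q₂ x y := by
    intro x y; rw [hB₂]; exact QuadraticMap.polarBilin_apply_apply Q₂ x y
  have hS₁ : B₁.IsSymm := ⟨fun x y => by
    rw [hB₁app, hB₁app]; exact QuadraticMap.polar_comm _ _ _⟩
  have hS₂ : B₂.IsSymm := ⟨fun x y => by
    rw [hB₂app, hB₂app]; exact QuadraticMap.polar_comm _ _ _⟩
  have hN₁ : B₁.Nondegenerate := by rw [hB₁]; exact h₁
  have hN₂ : B₂.Nondegenerate := by rw [hB₂]; exact h₂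
  -- conclusion from an isometry of polar forms
  have fin : ∀ (g : (Fin (2 * m + 1) → F) ≃ₗ[F] (Fin (2 * m + 1) → F)) (c : F), c ≠ 0 →
      (∀ x y, B₂ (g x) (g y) = c * B₁ x y) →
      ∃ (g : (Fin (2 * m + 1) → F) ≃ₗ[F] (Fin (2 * m + 1) → F)) (c : F), c ≠ 0 ∧
        ∀ v, Q₂ (g v) = c * Q₁ v := by
    intro g c hc hg
    refine ⟨g, c, hc, ?_⟩
    intro v
    have := hg v v
    rw [hB₁app, hB₂app, QuadraticMap.polar_self, QuadraticMap.polar_self] at this
    simp only [nsmul_eq_mul, Nat.cast_ofNat] at this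
    apply mul_left_cancel₀ h2
    rw [this]; ring
  obtain ⟨b₁, p1, p2, p3⟩ := Cfsg.Agent.S0756.result h2 B₁ hS₁ hN₁ hdim α hα
  obtain ⟨t₁, ht₁, hg₁⟩ := gram_of B₁ b₁ α p1 p2 p3
  obtain ⟨b₂, q1, q2, q3⟩ := Cfsg.Agent.S0756.result h2 B₂ hS₂ hN₂ hdim α hα
  obtain ⟨t₂, ht₂, hg₂⟩ := gram_of B₂ b₂ α q1 q2 q3
  by_cases ht : t₁ = t₂
  · obtain ⟨g, hg⟩ := iso_of_same B₁ B₂ b₁ b₂ (fun i j => by rw [hg₁, hg₂, ht])
    exact fin g 1 one_ne_zero (fun x y => by rw [hg, one_mul])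
  · -- scale by α
    obtain ⟨B₃, hB₃⟩ : ∃ B : LinearMap.BilinForm F (Fin (2 * m + 1) → F), B = α • B₁ := ⟨_, rfl⟩
    have hB₃app : ∀ x y, B₃ x y = α * B₁ x y := by
      intro x y; rw [hB₃]; rfl
    have hS₃ : B₃.IsSymm := ⟨fun x y => by rw [hB₃app, hB₃app, hS₁.eq]⟩
    have hN₃ : B₃.Nondegenerate := by
      apply (LinearMap.IsRefl.nondegenerate_iff_separatingLeft hS₃.isRefl).2
      intro x hx
      apply hN₁.1
      intro y
      have := hx y
      rw [hB₃app] at this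
      exact (mul_eq_zero.1 this).resolve_left hα0
    obtain ⟨b₃, r1, r2, r3⟩ := Cfsg.Agent.S0756.result h2 B₃ hS₃ hN₃ hdim α hα
    obtain ⟨t₃, ht₃, hg₃⟩ := gram_of B₃ b₃ α r1 r2 r3
    have hg₃' : ∀ i j, B₁ (b₃ i) (b₃ j) = α⁻¹ * gram t₃ i j := by
      intro i j
      rw [← hg₃, hB₃app, ← mul_assoc, inv_mul_cancel₀ hα0, one_mul]
    obtain ⟨r, hr⟩ := type_unique B₁ b₁ b₃ t₁ t₃ α⁻¹ hg₁ hg₃'
    have ht₁0 : t₁ ≠ 0 := by
      rcases ht₁ with h | h
      · rw [h]; exact one_ne_zero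
      · rw [h]; exact hα0
    have ht31 : t₃ ≠ t₁ := by
      intro h
      rw [h] at hr
      have h5 : (α⁻¹) ^ (2 * m + 1) = r * r := mul_right_cancel₀ ht₁0 hr
      apply hα
      refine ⟨α ^ (m + 1) * r, ?_⟩
      have h6 : α ^ (m + 1) * r * (α ^ (m + 1) * r) = α ^ (2 * m + 2) * (r * r) := by ring
      rw [h6, ← h5, inv_pow, pow_succ (α) (2 * m + 1)]
      field_simp
    have ht32 : t₃ = t₂ := by
      rcases ht₁ with h1 | h1 <;> rcases ht₂ with h2' | h2' <;> rcases ht₃ with h3 | h3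
      all_goals first
        | (exfalso; apply ht; rw [h1, h2']; done)
        | (exfalso; apply ht31; rw [h1, h3]; done)
        | (rw [h2', h3])
    obtain ⟨g, hg⟩ := iso_of_same B₃ B₂ b₃ b₂ (fun i j => by rw [hg₃, hg₂, ht32])
    exact fin g α hα0 (fun x y => by rw [hg, hB₃app])

end Cfsg.Agent.S0838
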