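import Cfsg.Statements.S0834
import Mathlib
import Cfsg.Agent.S0756
import Cfsg.Agent.S0759
import Cfsg.Agent.S0838
import Cfsg.Agent.S0833
-- import your own Cfsg.Agent.* helpers here

set_option autoImplicit false
open Cfsg

namespace Cfsg.Agent.S0834

open TensorProduct

section
variable {F : Type*} [Field F]

theorem iso_of_sing (h2 : (2 : F) ≠ 0) {n : ℕ} (W : Submodule F (Fin n → F))
    (hW : ∀ w ∈ W, ∑ i, w i ^ 2 = 0) : ∀ x ∈ W, ∀ y ∈ W, x ⬝ᵥ y = 0 := by
  intro x hx y hy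
  have h1 := hW (x + y) (W.add_mem hx hy)
  have e : ∀ i, (x + y) i ^ 2 = x i ^ 2 + y i ^ 2 + 2 * (x i * y i) := fun i => by
    rw [Pi.add_apply]; ring
  simp_rw [e, Finset.sum_add_distrib, ← Finset.mul_sum] at h1
  rw [hW x hx, hW y hy, zero_add, zero_add] at h1
  exact (mul_eq_zero.1 h1).resolve_left h2

/-- Relation between the Gram determinants for two bases with the same index type. -/
theorem det_gram_rel {V ι : Type*} [AddCommGroup V] [Module F V] [Fintype ι] [DecidableEq ι]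
    (B : LinearMap.BilinForm F V) (b b' : Module.Basis ι F V) :
    (LinearMap.BilinForm.toMatrix b' B).det =
      (b.toMatrix ⇑b').det ^ 2 * (LinearMap.BilinForm.toMatrix b B).det := by
  rw [← LinearMap.BilinForm.toMatrix_mul_basis_toMatrix b b' B, Matrix.det_mul, Matrix.det_mul,
    Matrix.det_transpose]
  ring

end

/-- Over a finite field of odd order, the tensor product of two even-dimensional non-degenerate symmetric forms of minus type (Witt index one less than half the dimension) is of plus type. -/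
theorem result {F U W : Type*} [Field F] [Fintype F] [AddCommGroup U] [Module F U] [FiniteDimensional F U] [AddCommGroup W] [Module F W] [FiniteDimensional F W] (h2 : (2 : F) ≠ 0) (B₁ : LinearMap.BilinForm F U) (B₂ : LinearMap.BilinForm F W) (h₁ : B₁.Nondegenerate) (h₂ : B₂.Nondegenerate) (hS₁ : B₁.IsSymm) (hS₂ : B₂.IsSymm) (k l : ℕ) (hk : 1 ≤ k) (hl : 1 ≤ l) (hU : Module.finrank F U = 2 * k) (hW : Module.finrank F W = 2 * l) (hm₁ : ¬ (∃ X : Submodule F (U), Module.finrank F X = k ∧ ∀ x ∈ X, ∀ y ∈ X, (B₁) x y = 0)) (hm₂ : ¬ (∃ X : Submodule F (W), Module.finrank F X = l ∧ ∀ x ∈ X, ∀ y ∈ X, (B₂) x y = 0)) : (∃ X : Submodule F (TensorProduct F U W), Module.finrank F X = 2 * k * l ∧ ∀ x ∈ X, ∀ y ∈ X, (B₁.tmul B₂) x y = 0) := by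
  classical
  have hchar : ringChar F ≠ 2 := by
    intro h
    apply h2
    have := CharP.cast_eq_zero F (ringChar F)
    rw [h] at this
    exact_mod_cast this
  obtain ⟨α, hα⟩ := FiniteField.exists_nonsquare hchar
  obtain ⟨n₁, hn₁⟩ : ∃ n₁, 2 * k = n₁ + 1 := ⟨2 * k - 1, by omega⟩
  obtain ⟨n₂, hn₂⟩ : ∃ n₂, 2 * l = n₂ + 1 := ⟨2 * l - 1, by omega⟩
  obtain ⟨b₁, p1, p2, p3⟩ := Cfsg.Agent.S0756.result h2 B₁ hS₁ h₁ (hU.trans hn₁) α hα
  obtain ⟨t₁, -, hg₁⟩ := Cfsg.Agent.S0838.gram_of B₁ b₁ α p1 p2 p3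
  obtain ⟨b₂, q1, q2, q3⟩ := Cfsg.Agent.S0756.result h2 B₂ hS₂ h₂ (hW.trans hn₂) α hα
  obtain ⟨t₂, -, hg₂⟩ := Cfsg.Agent.S0838.gram_of B₂ b₂ α q1 q2 q3
  -- the tensor form
  obtain ⟨B, hB⟩ : ∃ B : LinearMap.BilinForm F (U ⊗[F] W), B = B₁.tmul B₂ := ⟨_, rfl⟩
  rw [← hB]
  have hBS' : LinearMap.IsSymm B := by
    rw [hB]
    exact LinearMap.IsSymm.tmul (LinearMap.BilinForm.isSymm_iff.1 hS₁)
      (LinearMap.BilinForm.isSymm_iff.1 hS₂)
  have hBS : B.IsSymm := LinearMap.BilinForm.isSymm_iff.2 hBS'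
  have hBN : B.Nondegenerate :=
    (LinearMap.IsRefl.nondegenerate_iff_separatingLeft hBS.isRefl).2
      (by rw [hB]; exact Cfsg.Agent.S0833.tmul_sepLeft B₁ B₂ h₁ h₂)
  have hdim : Module.finrank F (U ⊗[F] W) = (2 * (2 * k * l) - 1) + 1 := by
    rw [Module.finrank_tensorProduct, hU, hW]
    have : 1 ≤ k * l := Nat.mul_pos hk hl
    have : 2 * k * (2 * l) = 2 * (2 * k * l) := by ring
    have : 1 ≤ 2 * k * l := by nlinarith
    omega
  obtain ⟨b, r1, r2, r3⟩ := Cfsg.Agent.S0756.result h2 B hBS hBN hdim α hα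
  obtain ⟨t, ht, hg⟩ := Cfsg.Agent.S0838.gram_of B b α r1 r2 r3
  -- tensor basis and its Gram matrix
  obtain ⟨T, hT⟩ : ∃ T : Module.Basis (Fin (n₁ + 1) × Fin (n₂ + 1)) F (U ⊗[F] W),
      T = b₁.tensorProduct b₂ := ⟨_, rfl⟩
  have hGT : LinearMap.BilinForm.toMatrix T B =
      Matrix.kroneckerMap (fun x1 x2 => x1 * x2) (Matrix.of (Cfsg.Agent.S0838.gram (k := n₁) t₁))
        (Matrix.of (Cfsg.Agent.S0838.gram (k := n₂) t₂)) := by
    ext ⟨i, j⟩ ⟨i', j'⟩
    rw [LinearMap.BilinForm.toMatrix_apply, hT, Module.Basis.tensorProduct_apply,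
      Module.Basis.tensorProduct_apply, hB, Cfsg.Agent.S0833.tmul_apply, hg₁, hg₂,
      Matrix.kronecker_apply, Matrix.of_apply, Matrix.of_apply, mul_comm]
  have hdetT : (LinearMap.BilinForm.toMatrix T B).det = (t₁ ^ l * t₂ ^ k) ^ 2 := by
    rw [hGT, Matrix.det_kronecker, Cfsg.Agent.S0838.det_gram, Cfsg.Agent.S0838.det_gram,
      Fintype.card_fin, Fintype.card_fin, ← hn₁, ← hn₂]
    ring
  -- reindex b to the product type
  have hcard : Fintype.card (Fin (2 * (2 * k * l) - 1 + 1)) =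
      Fintype.card (Fin (n₁ + 1) × Fin (n₂ + 1)) := by
    rw [Fintype.card_prod, Fintype.card_fin, Fintype.card_fin, Fintype.card_fin, ← hn₁, ← hn₂]
    have : 1 ≤ k * l := Nat.mul_pos hk hl
    have : 2 * k * (2 * l) = 2 * (2 * k * l) := by ring
    have : 1 ≤ 2 * k * l := by nlinarith
    omega
  obtain ⟨e, -⟩ : ∃ e : Fin (2 * (2 * k * l) - 1 + 1) ≃ Fin (n₁ + 1) × Fin (n₂ + 1), True :=
    ⟨Fintype.equivOfCardEq hcard, trivial⟩
  have hGb : LinearMap.BilinForm.toMatrix (b.reindex e) B =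
      (Matrix.of (Cfsg.Agent.S0838.gram (k := 2 * (2 * k * l) - 1) t)).submatrix e.symm e.symm := by
    ext i j
    rw [LinearMap.BilinForm.toMatrix_apply, Module.Basis.reindex_apply,
      Module.Basis.reindex_apply, hg, Matrix.submatrix_apply, Matrix.of_apply]
  have hrel := det_gram_rel B T (b.reindex e)
  rw [hGb, Matrix.det_submatrix_equiv_self, Cfsg.Agent.S0838.det_gram, hdetT] at hrel
  have htsq : IsSquare t := ⟨(T.toMatrix ⇑(b.reindex e)).det * (t₁ ^ l * t₂ ^ k), by rw [hrel]; ring⟩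
  have ht1 : t = 1 := by
    rcases ht with h | h
    · exact h
    · rw [h] at htsq; exact absurd htsq hα
  -- orthonormal basis indexed by Fin (2 * (2 * k * l))
  have hidx : 2 * (2 * k * l) - 1 + 1 = 2 * (2 * k * l) := by
    have : 1 ≤ k * l := Nat.mul_pos hk hl
    have : 1 ≤ 2 * k * l := by nlinarith
    omega
  obtain ⟨c, hc⟩ : ∃ c : Module.Basis (Fin (2 * (2 * k * l))) F (U ⊗[F] W),
      c = b.reindex (finCongr hidx) := ⟨_, rfl⟩
  have hGc : LinearMap.BilinForm.toMatrix c B = 1 := by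
    ext i j
    rw [LinearMap.BilinForm.toMatrix_apply, hc, Module.Basis.reindex_apply,
      Module.Basis.reindex_apply, hg, ht1, Matrix.one_apply]
    unfold Cfsg.Agent.S0838.gram
    by_cases hij : i = j
    · subst hij
      simp
    · rw [if_neg hij, if_neg]
      intro h
      exact hij ((finCongr hidx).symm.injective h)
  have hBdot : ∀ x y, B x y = c.equivFun x ⬝ᵥ c.equivFun y := by
    intro x y
    rw [LinearMap.BilinForm.apply_eq_dotProduct_toMatrix_mulVec c B x y, hGc, Matrix.one_mulVec,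
      Module.Basis.equivFun_apply, Module.Basis.equivFun_apply]
  -- the isotropic subspace of the standard form
  have hS9 := (Cfsg.Agent.S0759.result (F := F) h2 (2 * k * l)
    (by have : 1 ≤ k * l := Nat.mul_pos hk hl; nlinarith)).2
    (by
      rintro ⟨-, hodd⟩
      rw [Nat.odd_iff] at hodd
      have : (2 * k * l) % 2 = 0 := by
        rw [mul_assoc]; exact Nat.mul_mod_right 2 (k * l)
      omega)
  obtain ⟨W₀, hW₀dim, hW₀⟩ := hS9
  have hiso := iso_of_sing h2 W₀ hW₀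
  refine ⟨W₀.map (c.equivFun.symm : (Fin (2 * (2 * k * l)) → F) →ₗ[F] U ⊗[F] W), ?_, ?_⟩
  · rw [LinearEquiv.finrank_map_eq, hW₀dim]
  · rintro _ ⟨w, hw, rfl⟩ _ ⟨w', hw', rfl⟩
    rw [hBdot]
    simp only [LinearEquiv.coe_coe, LinearEquiv.apply_symm_apply]
    exact hiso w hw w' hw'

end Cfsg.Agent.S0834
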