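import Cfsg.Statements.S0835
import Mathlib
import Cfsg.Agent.S0756
import Cfsg.Agent.S0759
import Cfsg.Agent.S0838
import Cfsg.Agent.S0833
import Cfsg.Agent.S0834
-- import your own Cfsg.Agent.* helpers here

set_option autoImplicit false
open Cfsg

namespace Cfsg.Agent.S0835

open TensorProduct

section
variable {F : Type*} [Field F]

theorem same_type (α : F) (hα : ¬ IsSquare α) (t t' : F) (ht : t = 1 ∨ t = α)
    (ht' : t' = 1 ∨ t' = α) (r : F) (hr : r ≠ 0) (h : t = r * r * t') : t = t' := by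
  rcases ht with h1 | h1 <;> rcases ht' with h1' | h1'
  · rw [h1, h1']
  · exfalso
    apply hα
    rw [h1, h1'] at h
    refine ⟨r⁻¹, ?_⟩
    have h' : r * r * α = 1 := h.symm
    calc α = (r⁻¹ * r⁻¹) * (r * r * α) := by field_simp
      _ = r⁻¹ * r⁻¹ := by rw [h', mul_one]
  · exfalso
    apply hα
    rw [h1, h1'] at h
    exact ⟨r, by rw [h, mul_one]⟩
  · rw [h1, h1']

theorem isSquare_of_lagrangian (h2 : (2 : F) ≠ 0) {V : Type*} [AddCommGroup V] [Module F V]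
    (B : LinearMap.BilinForm F V) (hS : ∀ x y, B x y = B y x) (m : ℕ)
    (c₀ : Module.Basis (Fin m ⊕ Fin m) F V) (X : Submodule F V)
    (hdim : Module.finrank F X = m) (hX : ∀ x ∈ X, ∀ y ∈ X, B x y = 0) :
    IsSquare ((-1 : F) ^ m * (LinearMap.BilinForm.toMatrix c₀ B).det) := by
  classical
  have : FiniteDimensional F V := Module.Finite.of_basis c₀
  have hV : Module.finrank F V = m + m := by
    rw [Module.finrank_eq_card_basis c₀, Fintype.card_sum, Fintype.card_fin]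
  obtain ⟨X', hc⟩ := Submodule.exists_isCompl X
  have hdim' : Module.finrank F X' = m := by
    have h1 := Submodule.finrank_add_eq_of_isCompl hc
    rw [hV, hdim] at h1
    omega
  obtain ⟨b, hb⟩ : ∃ b : Module.Basis (Fin m ⊕ Fin m) F V,
      b = ((Module.finBasisOfFinrankEq F X hdim).prod
        (Module.finBasisOfFinrankEq F X' hdim')).map (Submodule.prodEquivOfIsCompl X X' hc) :=
    ⟨_, rfl⟩
  have hbX : ∀ i : Fin m, b (Sum.inl i) ∈ X := by
    intro i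
    rw [hb, Module.Basis.map_apply, Submodule.coe_prodEquivOfIsCompl',
      Module.Basis.prod_apply_inl_fst, Module.Basis.prod_apply_inl_snd]
    simp
  obtain ⟨G, hG⟩ : ∃ G, G = LinearMap.BilinForm.toMatrix b B := ⟨_, rfl⟩
  have hGapp : ∀ i j, G i j = B (b i) (b j) := by
    intro i j; rw [hG, LinearMap.BilinForm.toMatrix_apply]
  have hP := LinearMap.BilinForm.toMatrix_mul_basis_toMatrix c₀ b B
  rw [← hG] at hP
  obtain ⟨δ, hδ⟩ : ∃ δ, δ = (LinearMap.BilinForm.toMatrix c₀ B).det := ⟨_, rfl⟩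
  obtain ⟨d, hd⟩ : ∃ d, d = (c₀.toMatrix ⇑b).det := ⟨_, rfl⟩
  have hdetP : d ^ 2 * δ = G.det := by
    rw [← hP, Matrix.det_mul, Matrix.det_mul, Matrix.det_transpose, ← hd, ← hδ]; ring
  have hPne : d ≠ 0 := by
    have h1 := congrArg Matrix.det (Module.Basis.toMatrix_mul_toMatrix_flip c₀ b)
    rw [Matrix.det_mul, Matrix.det_one, ← hd] at h1
    exact left_ne_zero_of_mul_eq_one h1
  have hGblock : G = Matrix.fromBlocks 0 G.toBlocks₁₂ G.toBlocks₁₂.transpose G.toBlocks₂₂ := by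
    have h1 : G.toBlocks₁₁ = 0 := by
      ext i j
      rw [Matrix.toBlocks₁₁, Matrix.of_apply, hGapp]
      exact hX _ (hbX i) _ (hbX j)
    have h2' : G.toBlocks₂₁ = G.toBlocks₁₂.transpose := by
      ext i j
      rw [Matrix.transpose_apply, Matrix.toBlocks₂₁, Matrix.toBlocks₁₂, Matrix.of_apply,
        Matrix.of_apply, hGapp, hGapp, hS]
    conv_lhs => rw [← Matrix.fromBlocks_toBlocks G]
    rw [h1, h2']
  obtain ⟨h, hh⟩ := Cfsg.Agent.S0759.det_swap (F := F) m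
  have hdet2 := Cfsg.Agent.S0759.det_zero_block m G.toBlocks₁₂ G.toBlocks₂₂
  rw [← hGblock, ← hdetP] at hdet2
  obtain ⟨j, hj⟩ : ∃ j, j = (Cfsg.Agent.S0759.swapM F m).det := ⟨_, rfl⟩
  rw [← hj] at hdet2 hh
  obtain ⟨e, he⟩ : ∃ e, e = G.toBlocks₁₂.det := ⟨_, rfl⟩
  rw [← he] at hdet2
  have e1 : (-2 : F) ^ m = (-1) ^ m * 2 ^ m := by rw [← mul_pow]; norm_num
  rw [e1] at hh
  have h2m : (2 : F) ^ m ≠ 0 := pow_ne_zero _ h2
  have hsq : ((-1 : F) ^ m) ^ 2 = 1 := by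
    rw [← pow_mul, mul_comm, pow_mul, neg_one_sq, one_pow]
  have hh0 : h ≠ 0 := by
    rintro rfl
    have h3 : ((-1 : F) ^ m) ≠ 0 := pow_ne_zero _ (neg_ne_zero.2 one_ne_zero)
    have : (2 : F) ^ m * ((-1) ^ m * 2 ^ m) = 0 := by rw [← hh]; ring
    exact (mul_ne_zero h2m (mul_ne_zero h3 h2m)) this
  rw [← hδ]
  have key : (-1 : F) ^ m * δ * ((h * d) * (h * d)) = (e * 2 ^ m) * (e * 2 ^ m) := by
    linear_combination (-1 : F) ^ m * h ^ 2 * hdet2 + (-1 : F) ^ m * e ^ 2 * hh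
      + e ^ 2 * (2 ^ m) ^ 2 * hsq
  refine ⟨e * 2 ^ m / (h * d), ?_⟩
  rw [div_mul_div_comm, eq_div_iff (mul_ne_zero (mul_ne_zero hh0 hPne) (mul_ne_zero hh0 hPne))]
  exact key

theorem iso_of_same' {V V' : Type*} [AddCommGroup V] [Module F V] [AddCommGroup V']
    [Module F V'] {ι : Type*} [Fintype ι] [DecidableEq ι]
    (B : LinearMap.BilinForm F V) (B' : LinearMap.BilinForm F V')
    (b : Module.Basis ι F V) (b' : Module.Basis ι F V')
    (h : ∀ i j, B (b i) (b j) = B' (b' i) (b' j)) :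
    ∃ g : V ≃ₗ[F] V', ∀ x y, B' (g x) (g y) = B x y := by
  refine ⟨b.equiv b' (Equiv.refl _), ?_⟩
  have key : B'.compl₁₂ (b.equiv b' (Equiv.refl _)).toLinearMap
      (b.equiv b' (Equiv.refl _)).toLinearMap = B := by
    apply LinearMap.BilinForm.ext_basis b
    intro i j
    rw [LinearMap.compl₁₂_apply]
    simp only [LinearEquiv.coe_coe, Module.Basis.equiv_apply, Equiv.refl_apply]
    exact (h i j).symm
  intro x y
  have := LinearMap.congr_fun (LinearMap.congr_fun key x) y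
  rw [LinearMap.compl₁₂_apply] at this
  exact this

theorem exists_lagrangian_of_square [Fintype F] (h2 : (2 : F) ≠ 0) (α : F) (hα : ¬ IsSquare α)
    {U : Type*} [AddCommGroup U] [Module F U] (B₁ : LinearMap.BilinForm F U) (k n₁ : ℕ)
    (hn₁ : 2 * k = n₁ + 1) (b₁ : Module.Basis (Fin (n₁ + 1)) F U) (t₁ : F)
    (ht₁ : t₁ = 1 ∨ t₁ = α) (hg₁ : ∀ i j, B₁ (b₁ i) (b₁ j) = Cfsg.Agent.S0838.gram t₁ i j)
    (hsq : IsSquare ((-1 : F) ^ k * t₁)) :
    ∃ X : Submodule F U, Module.finrank F X = k ∧ ∀ x ∈ X, ∀ y ∈ X, B₁ x y = 0 := by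
  classical
  have hα0 : α ≠ 0 := by
    rintro rfl
    exact hα ⟨0, by simp⟩
  have ht₁0 : t₁ ≠ 0 := by
    rcases ht₁ with h | h
    · rw [h]; exact one_ne_zero
    · rw [h]; exact hα0
  obtain ⟨A, hA⟩ : ∃ A, A = Cfsg.Agent.S0759.swapM F k := ⟨_, rfl⟩
  obtain ⟨BM, hBM⟩ : ∃ BM : LinearMap.BilinForm F (Fin k ⊕ Fin k → F),
      BM = Matrix.toBilin' A := ⟨_, rfl⟩
  have hAT : A.transpose = A := by
    rw [hA, Cfsg.Agent.S0759.swapM, Matrix.fromBlocks_transpose]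
    simp
  have hBMapp : ∀ x y, BM x y = x ⬝ᵥ A.mulVec y := by
    intro x y; rw [hBM, Matrix.toBilin'_apply']
  have hSM : BM.IsSymm := ⟨fun x y => by
    rw [hBMapp, hBMapp, Matrix.dotProduct_mulVec, ← Matrix.mulVec_transpose, hAT,
      dotProduct_comm]⟩
  obtain ⟨h, hh⟩ := Cfsg.Agent.S0759.det_swap (F := F) k
  rw [← hA] at hh
  have h2k : (2 : F) ^ k ≠ 0 := pow_ne_zero _ h2
  have hm1k : ((-1 : F) ^ k) ≠ 0 := pow_ne_zero _ (neg_ne_zero.2 one_ne_zero)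
  have e1 : (-2 : F) ^ k = (-1) ^ k * 2 ^ k := by rw [← mul_pow]; norm_num
  rw [e1] at hh
  have hdetA : A.det ≠ 0 := by
    intro h0
    rw [h0, mul_zero] at hh
    exact (mul_ne_zero h2k (mul_ne_zero hm1k h2k)) hh.symm
  have hh0 : h ≠ 0 := by
    rintro rfl
    have : (2 : F) ^ k * ((-1) ^ k * 2 ^ k) = 0 := by rw [← hh]; ring
    exact (mul_ne_zero h2k (mul_ne_zero hm1k h2k)) this
  have hNM : BM.Nondegenerate := by
    rw [hBM]
    exact Matrix.nondegenerate_toBilin'_iff.2 (Matrix.nondegenerate_of_det_ne_zero hdetA)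
  have hdimM : Module.finrank F (Fin k ⊕ Fin k → F) = n₁ + 1 := by
    rw [Module.finrank_fintype_fun_eq_card, Fintype.card_sum, Fintype.card_fin]
    omega
  obtain ⟨bM, p1, p2, p3⟩ := Cfsg.Agent.S0756.result h2 BM hSM hNM hdimM α hα
  obtain ⟨tM, htM, hgM⟩ := Cfsg.Agent.S0838.gram_of BM bM α p1 p2 p3
  have hcard : Fintype.card (Fin k ⊕ Fin k) = Fintype.card (Fin (n₁ + 1)) := by
    rw [Fintype.card_sum, Fintype.card_fin, Fintype.card_fin]
    omega
  obtain ⟨e', -⟩ : ∃ e' : (Fin k ⊕ Fin k) ≃ Fin (n₁ + 1), True :=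
    ⟨Fintype.equivOfCardEq hcard, trivial⟩
  obtain ⟨c, hc⟩ : ∃ c : Module.Basis (Fin (n₁ + 1)) F (Fin k ⊕ Fin k → F),
      c = (Pi.basisFun F (Fin k ⊕ Fin k)).reindex e' := ⟨_, rfl⟩
  have hGc : LinearMap.BilinForm.toMatrix c BM = A.submatrix e'.symm e'.symm := by
    ext i j
    rw [LinearMap.BilinForm.toMatrix_apply, hc, Module.Basis.reindex_apply,
      Module.Basis.reindex_apply, Pi.basisFun_apply, Pi.basisFun_apply, hBM,
      Matrix.toBilin'_single, Matrix.submatrix_apply]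
  have hGbM : LinearMap.BilinForm.toMatrix bM BM =
      Matrix.of (Cfsg.Agent.S0838.gram (k := n₁) tM) := by
    ext i j
    rw [LinearMap.BilinForm.toMatrix_apply, hgM]
    rfl
  have hrel := Cfsg.Agent.S0834.det_gram_rel BM c bM
  rw [hGc, hGbM, Matrix.det_submatrix_equiv_self, Cfsg.Agent.S0838.det_gram] at hrel
  obtain ⟨d, hd⟩ : ∃ d, d = (c.toMatrix ⇑bM).det := ⟨_, rfl⟩
  rw [← hd] at hrel
  have hdne : d ≠ 0 := by
    have h1 := congrArg Matrix.det (Module.Basis.toMatrix_mul_toMatrix_flip c bM)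
    rw [Matrix.det_mul, Matrix.det_one, ← hd] at h1
    exact left_ne_zero_of_mul_eq_one h1
  obtain ⟨s, hs⟩ := hsq
  have hs0 : s ≠ 0 := by
    rintro rfl
    rw [mul_zero] at hs
    exact (mul_ne_zero hm1k ht₁0) hs
  have hsq' : ((-1 : F) ^ k) ^ 2 = 1 := by
    rw [← pow_mul, mul_comm, pow_mul, neg_one_sq, one_pow]
  obtain ⟨a, ha⟩ : ∃ a, a = A.det := ⟨_, rfl⟩
  rw [← ha] at hrel hh
  have key : tM * ((h * s) * (h * s)) = (d * 2 ^ k) * (d * 2 ^ k) * t₁ := by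
    linear_combination h ^ 2 * s ^ 2 * hrel + d ^ 2 * s ^ 2 * hh
      - d ^ 2 * (2 ^ k) ^ 2 * (-1 : F) ^ k * hs + d ^ 2 * (2 ^ k) ^ 2 * t₁ * hsq'
  have hhs : h * s ≠ 0 := mul_ne_zero hh0 hs0
  have key' : tM = (d * 2 ^ k / (h * s)) * (d * 2 ^ k / (h * s)) * t₁ := by
    rw [div_mul_div_comm, div_mul_eq_mul_div, eq_div_iff (mul_ne_zero hhs hhs)]
    exact key
  have htMeq : tM = t₁ := same_type α hα tM t₁ htM ht₁ (d * 2 ^ k / (h * s))
    (div_ne_zero (mul_ne_zero hdne h2k) hhs) key'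
  obtain ⟨g, hg⟩ := iso_of_same' BM B₁ bM b₁ (fun i j => by rw [hgM, hg₁, htMeq])
  obtain ⟨φ, hφ⟩ : ∃ φ : (Fin k → F) →ₗ[F] (Fin k ⊕ Fin k → F), ∀ v, φ v = Sum.elim v 0 := by
    refine ⟨{ toFun := fun v => Sum.elim v 0
              map_add' := ?_
              map_smul' := ?_ }, fun v => rfl⟩
    · intro v w
      ext i
      cases i <;> simp
    · intro a v
      ext i
      cases i <;> simp
  have hinj : Function.Injective φ := by
    intro v w hvw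
    rw [hφ, hφ] at hvw
    funext i
    have := congrFun hvw (Sum.inl i)
    simpa using this
  refine ⟨(LinearMap.range φ).map (g : (Fin k ⊕ Fin k → F) →ₗ[F] U), ?_, ?_⟩
  · rw [LinearEquiv.finrank_map_eq, LinearMap.finrank_range_of_inj hinj, Module.finrank_fin_fun]
  · rintro _ ⟨_, ⟨v, rfl⟩, rfl⟩ _ ⟨_, ⟨w, rfl⟩, rfl⟩
    simp only [LinearEquiv.coe_coe]
    rw [hg, hφ, hφ, hBMapp, hA, Cfsg.Agent.S0759.swapM, Matrix.fromBlocks_mulVec,
      sumElim_dotProduct_sumElim]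
    simp

end

/-- Over a finite field with 2 ≠ 0: if B₁ on U (dim 2k, k ≥ 1) is non-degenerate symmetric of minus type (no totally isotropic k-subspace) and B₂ on W (dim 2l + 1) is non-degenerate symmetric, then B₁ ⊗ B₂ (dimension 2k(2l+1)) admits no totally isotropic subspace of dimension k(2l+1) (minus type). -/
theorem result {F U W : Type*} [Field F] [Fintype F] [AddCommGroup U] [Module F U] [FiniteDimensional F U] [AddCommGroup W] [Module F W] [FiniteDimensional F W] (h2 : (2 : F) ≠ 0) (B₁ : LinearMap.BilinForm F U) (B₂ : LinearMap.BilinForm F W) (h₁ : B₁.Nondegenerate) (h₂ : B₂.Nondegenerate) (hS₁ : B₁.IsSymm) (hS₂ : B₂.IsSymm) (k l : ℕ) (hk : 1 ≤ k) (hU : Module.finrank F U = 2 * k) (hW : Module.finrank F W = 2 * l + 1) (hm₁ : ¬ (∃ X : Submodule F (U), Module.finrank F X = k ∧ ∀ x ∈ X, ∀ y ∈ X, (B₁) x y = 0)) : ¬ (∃ X : Submodule F (TensorProduct F U W), Module.finrank F X = k * (2 * l + 1) ∧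 ∀ x ∈ X, ∀ y ∈ X, (B₁.tmul B₂) x y = 0) := by
  classical
  have hchar : ringChar F ≠ 2 := by
    intro h
    apply h2
    have := CharP.cast_eq_zero F (ringChar F)
    rw [h] at this
    exact_mod_cast this
  obtain ⟨α, hα⟩ := FiniteField.exists_nonsquare hchar
  have hα0 : α ≠ 0 := by
    rintro rfl
    exact hα ⟨0, by simp⟩
  obtain ⟨n₁, hn₁⟩ : ∃ n₁, 2 * k = n₁ + 1 := ⟨2 * k - 1, by omega⟩
  obtain ⟨n₂, hn₂⟩ : ∃ n₂, 2 * l + 1 = n₂ + 1 := ⟨2 * l, rfl⟩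
  obtain ⟨b₁, p1, p2, p3⟩ := Cfsg.Agent.S0756.result h2 B₁ hS₁ h₁ (hU.trans hn₁) α hα
  obtain ⟨t₁, ht₁, hg₁⟩ := Cfsg.Agent.S0838.gram_of B₁ b₁ α p1 p2 p3
  obtain ⟨b₂, q1, q2, q3⟩ := Cfsg.Agent.S0756.result h2 B₂ hS₂ h₂ (hW.trans hn₂) α hα
  obtain ⟨t₂, ht₂, hg₂⟩ := Cfsg.Agent.S0838.gram_of B₂ b₂ α q1 q2 q3
  have ht₁0 : t₁ ≠ 0 := by
    rcases ht₁ with h | h
    · rw [h]; exact one_ne_zero
    · rw [h]; exact hα0
  have ht₂0 : t₂ ≠ 0 := by
    rcases ht₂ with h | h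
    · rw [h]; exact one_ne_zero
    · rw [h]; exact hα0
  obtain ⟨B, hB⟩ : ∃ B : LinearMap.BilinForm F (U ⊗[F] W), B = B₁.tmul B₂ := ⟨_, rfl⟩
  rw [← hB]
  have hBS' : LinearMap.IsSymm B := by
    rw [hB]
    exact LinearMap.IsSymm.tmul (LinearMap.BilinForm.isSymm_iff.1 hS₁)
      (LinearMap.BilinForm.isSymm_iff.1 hS₂)
  have hBS : B.IsSymm := LinearMap.BilinForm.isSymm_iff.2 hBS'
  have hBN : B.Nondegenerate :=
    (LinearMap.IsRefl.nondegenerate_iff_separatingLeft hBS.isRefl).2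
      (by rw [hB]; exact Cfsg.Agent.S0833.tmul_sepLeft B₁ B₂ h₁ h₂)
  obtain ⟨M, hM⟩ : ∃ M, M = k * (2 * l + 1) := ⟨_, rfl⟩
  have hMpos : 1 ≤ M := by
    rw [hM]; exact Nat.mul_pos hk (by omega)
  have hdim : Module.finrank F (U ⊗[F] W) = (2 * M - 1) + 1 := by
    rw [Module.finrank_tensorProduct, hU, hW]
    have : 2 * k * (2 * l + 1) = 2 * M := by rw [hM]; ring
    omega
  obtain ⟨b, r1, r2, r3⟩ := Cfsg.Agent.S0756.result h2 B hBS hBN hdim α hα
  obtain ⟨t, ht, hg⟩ := Cfsg.Agent.S0838.gram_of B b α r1 r2 r3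
  obtain ⟨T, hT⟩ : ∃ T : Module.Basis (Fin (n₁ + 1) × Fin (n₂ + 1)) F (U ⊗[F] W),
      T = b₁.tensorProduct b₂ := ⟨_, rfl⟩
  have hGT : LinearMap.BilinForm.toMatrix T B =
      Matrix.kroneckerMap (fun x1 x2 => x1 * x2) (Matrix.of (Cfsg.Agent.S0838.gram (k := n₁) t₁))
        (Matrix.of (Cfsg.Agent.S0838.gram (k := n₂) t₂)) := by
    ext ⟨i, j⟩ ⟨i', j'⟩
    rw [LinearMap.BilinForm.toMatrix_apply, hT, Module.Basis.tensorProduct_apply,
      Module.Basis.tensorProduct_apply, hB, Cfsg.Agent.S0833.tmul_apply, hg₁, hg₂,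
      Matrix.kronecker_apply, Matrix.of_apply, Matrix.of_apply, mul_comm]
  have hdetT : (LinearMap.BilinForm.toMatrix T B).det = t₁ ^ (2 * l + 1) * t₂ ^ (2 * k) := by
    rw [hGT, Matrix.det_kronecker, Cfsg.Agent.S0838.det_gram, Cfsg.Agent.S0838.det_gram,
      Fintype.card_fin, Fintype.card_fin, ← hn₁, ← hn₂]
  have hcard : Fintype.card (Fin (2 * M - 1 + 1)) =
      Fintype.card (Fin (n₁ + 1) × Fin (n₂ + 1)) := by
    rw [Fintype.card_prod, Fintype.card_fin, Fintype.card_fin, Fintype.card_fin, ← hn₁, ← hn₂]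
    have : 2 * k * (2 * l + 1) = 2 * M := by rw [hM]; ring
    omega
  obtain ⟨e, -⟩ : ∃ e : Fin (2 * M - 1 + 1) ≃ Fin (n₁ + 1) × Fin (n₂ + 1), True :=
    ⟨Fintype.equivOfCardEq hcard, trivial⟩
  have hGb : LinearMap.BilinForm.toMatrix (b.reindex e) B =
      (Matrix.of (Cfsg.Agent.S0838.gram (k := 2 * M - 1) t)).submatrix e.symm e.symm := by
    ext i j
    rw [LinearMap.BilinForm.toMatrix_apply, Module.Basis.reindex_apply,
      Module.Basis.reindex_apply, hg, Matrix.submatrix_apply, Matrix.of_apply]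
  have hrel := Cfsg.Agent.S0834.det_gram_rel B T (b.reindex e)
  rw [hGb, Matrix.det_submatrix_equiv_self, Cfsg.Agent.S0838.det_gram, hdetT] at hrel
  obtain ⟨d, hd⟩ : ∃ d, d = (T.toMatrix ⇑(b.reindex e)).det := ⟨_, rfl⟩
  rw [← hd] at hrel
  have hdne : d ≠ 0 := by
    have h1 := congrArg Matrix.det (Module.Basis.toMatrix_mul_toMatrix_flip T (b.reindex e))
    rw [Matrix.det_mul, Matrix.det_one, ← hd] at h1
    exact left_ne_zero_of_mul_eq_one h1
  have htt : t = t₁ := same_type α hα t t₁ ht ht₁ (d * t₁ ^ l * t₂ ^ k)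
    (mul_ne_zero (mul_ne_zero hdne (pow_ne_zero _ ht₁0)) (pow_ne_zero _ ht₂0))
    (by rw [hrel]; ring)
  rintro ⟨X, hXdim, hXiso⟩
  have hcard2 : Fintype.card (Fin (2 * M - 1 + 1)) = Fintype.card (Fin M ⊕ Fin M) := by
    rw [Fintype.card_sum, Fintype.card_fin, Fintype.card_fin]
    omega
  obtain ⟨e₂, -⟩ : ∃ e₂ : Fin (2 * M - 1 + 1) ≃ Fin M ⊕ Fin M, True :=
    ⟨Fintype.equivOfCardEq hcard2, trivial⟩
  have hGc : LinearMap.BilinForm.toMatrix (b.reindex e₂) B =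
      (Matrix.of (Cfsg.Agent.S0838.gram (k := 2 * M - 1) t)).submatrix e₂.symm e₂.symm := by
    ext i j
    rw [LinearMap.BilinForm.toMatrix_apply, Module.Basis.reindex_apply,
      Module.Basis.reindex_apply, hg, Matrix.submatrix_apply, Matrix.of_apply]
  have hL1 := isSquare_of_lagrangian h2 B (fun x y => hBS.eq x y) M (b.reindex e₂) X
    (hXdim.trans hM.symm) hXiso
  rw [hGc, Matrix.det_submatrix_equiv_self, Cfsg.Agent.S0838.det_gram, htt] at hL1
  have hpow : (-1 : F) ^ M = (-1) ^ k := by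
    rw [hM]
    have : k * (2 * l + 1) = k + 2 * (k * l) := by ring
    rw [this, pow_add, pow_mul, neg_one_sq, one_pow, mul_one]
  rw [hpow] at hL1
  exact hm₁ (exists_lagrangian_of_square h2 α hα B₁ k n₁ hn₁ b₁ t₁ ht₁ hg₁ hL1)

end Cfsg.Agent.S0835
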