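import Cfsg.Statements.S0836
import Mathlib

set_option autoImplicit false
set_option linter.style.haveILetI false
open Cfsg

namespace Cfsg.Agent.S0836

open scoped commutatorElement

theorem mem_commSet_of_mul_eq {G : Type*} [Group G] (t g h : G) (H : t * h * g = g * h) :
    t ∈ commutatorSet G := by
  refine ⟨g, h, ?_⟩
  rw [commutatorElement_def, ← H]
  group

theorem case_ge3 {F : Type*} [Field F] (n : ℕ) (i j k : Fin n) (hij : i ≠ j) (_hki : k ≠ i) (hkj : k ≠ j) (c : F) :
    Matrix.transvection i j c * Matrix.transvection k j (1 : F) * Matrix.transvection i k c =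
    Matrix.transvection i k c * Matrix.transvection k j (1 : F) := by
  simp only [Matrix.transvection, mul_add, add_mul, mul_one, one_mul]
  rw [Matrix.single_mul_single_of_ne c i j k hkj.symm, Matrix.single_mul_single_of_ne c i j i hij.symm,
    Matrix.single_mul_single_of_ne (1:F) k j i hij.symm, Matrix.single_mul_single_same]
  simp only [zero_mul, add_zero, mul_one]
  abel

theorem case_2 {F : Type*} [Field F] (i j : Fin 2) (hij : i ≠ j) (c x : F) (hx0 : x ≠ 0) (hx1 : x ^ 2 ≠ 1) :
    Matrix.transvection i j c * Matrix.transvection i j (c / (x ^ 2 - 1)) *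
      Matrix.diagonal (fun l => if l = i then x else x⁻¹) =
    Matrix.diagonal (fun l => if l = i then x else x⁻¹) * Matrix.transvection i j (c / (x ^ 2 - 1)) := by
  have h1 : x ^ 2 - 1 ≠ 0 := sub_ne_zero.2 hx1
  rw [Matrix.transvection_mul_transvection_same i j hij]
  fin_cases i <;> fin_cases j
  · exact absurd rfl hij
  · ext a b
    fin_cases a <;> fin_cases b <;>
      simp [Matrix.transvection, Matrix.mul_apply, Matrix.single_apply,
        Matrix.diagonal_apply]
    field_simp
    ring
  · ext a b
    fin_cases a <;> fin_cases b <;>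
      simp [Matrix.transvection, Matrix.mul_apply, Matrix.single_apply,
        Matrix.diagonal_apply]
    field_simp
    ring
  · exact absurd rfl hij

theorem det_diag2 {F : Type*} [Field F] (i j : Fin 2) (hij : i ≠ j) (x : F) (hx0 : x ≠ 0) :
    (Matrix.diagonal (fun l : Fin 2 => if l = i then x else x⁻¹)).det = 1 := by
  rw [Matrix.det_diagonal, Fin.prod_univ_two]
  fin_cases i <;> fin_cases j
  · exact absurd rfl hij
  · simp [hx0]
  · simp [hx0]
  · exact absurd rfl hij

/-- For i ≠ j and any scalar c, the elementary transvection 1 + c E_ij is a commutator ⁅g, h⁆ of two elements of SL_n(F) provided n ≥ 3, or n = 2 and F contains x ≠ 0 with x² ≠ 1. -/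
theorem result {F : Type*} [Field F] (n : ℕ) (hn : 3 ≤ n ∨ (n = 2 ∧ ∃ x : F, x ≠ 0 ∧ x ^ 2 ≠ 1)) (i j : Fin n) (hij : i ≠ j) (c : F) (t : Matrix.SpecialLinearGroup (Fin n) F) (ht : (t : Matrix (Fin n) (Fin n) F) = Matrix.transvection i j c) : t ∈ commutatorSet (Matrix.SpecialLinearGroup (Fin n) F) := by
  classical
  rcases hn with hn | ⟨rfl, x, hx0, hx1⟩
  · obtain ⟨k, -, hk⟩ : ∃ k ∈ (Finset.univ : Finset (Fin n)), k ∉ ({i, j} : Finset (Fin n)) := by
      apply Finset.exists_mem_notMem_of_card_lt_card
      calc ({i, j} : Finset (Fin n)).card ≤ 2 := Finset.card_le_two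
        _ < n := by omega
        _ = (Finset.univ : Finset (Fin n)).card := by simp
    simp only [Finset.mem_insert, Finset.mem_singleton, not_or] at hk
    obtain ⟨hki, hkj⟩ := hk
    set g : Matrix.SpecialLinearGroup (Fin n) F := ⟨Matrix.transvection i k c, Matrix.det_transvection_of_ne i k (Ne.symm hki) c⟩ with hg
    set h : Matrix.SpecialLinearGroup (Fin n) F := ⟨Matrix.transvection k j 1, Matrix.det_transvection_of_ne k j hkj 1⟩ with hh
    apply mem_commSet_of_mul_eq t g h
    apply Subtype.ext
    show (t : Matrix (Fin n) (Fin n) F) * (h : Matrix (Fin n) (Fin n) F) * (g : Matrix (Fin n) (Fin n) F)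
      = (g : Matrix (Fin n) (Fin n) F) * (h : Matrix (Fin n) (Fin n) F)
    rw [ht]
    exact case_ge3 n i j k hij hki hkj c
  · set g : Matrix.SpecialLinearGroup (Fin 2) F :=
      ⟨Matrix.diagonal (fun l : Fin 2 => if l = i then x else x⁻¹), det_diag2 i j hij x hx0⟩ with hg
    set h : Matrix.SpecialLinearGroup (Fin 2) F :=
      ⟨Matrix.transvection i j (c / (x ^ 2 - 1)), Matrix.det_transvection_of_ne i j hij _⟩ with hh
    apply mem_commSet_of_mul_eq t g h
    apply Subtype.ext
    show (t : Matrix (Fin 2) (Fin 2) F) * (h : Matrix (Fin 2) (Fin 2) F) * (g : Matrix (Fin 2) (Fin 2) F)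
      = (g : Matrix (Fin 2) (Fin 2) F) * (h : Matrix (Fin 2) (Fin 2) F)
    rw [ht]
    exact case_2 i j hij c x hx0 hx1

end Cfsg.Agent.S0836
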