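import Cfsg.Statements.S0839
import Cfsg.Agent.Lib.Helper2.Quad

set_option autoImplicit false
set_option linter.style.haveILetI false
open Cfsg

namespace Cfsg.Agent.S0839

open Matrix Cfsg.Agent.Lib.Helper2

/-- A rank-one square matrix is an outer product. -/
theorem rank_one_decomp {F : Type*} [Field F] {ι : Type} [Fintype ι] [DecidableEq ι]
    (N : Matrix ι ι F) (hN : N.rank = 1) : ∃ a b : ι → F, N = Matrix.vecMulVec a b := by
  unfold Matrix.rank at hN
  rw [finrank_eq_one_iff'] at hN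
  obtain ⟨⟨a, ha⟩, -, hgen⟩ := hN
  have hcol : ∀ j : ι, ∃ c : F, c • a = N *ᵥ (Pi.single j 1) := by
    intro j
    obtain ⟨c, hc⟩ := hgen ⟨N *ᵥ (Pi.single j 1), ⟨Pi.single j 1, rfl⟩⟩
    exact ⟨c, congrArg Subtype.val hc⟩
  choose b hb using hcol
  refine ⟨a, b, ?_⟩
  ext i j
  have := congrFun (hb j) i
  rw [Matrix.mulVec_single_one] at this
  rw [Matrix.vecMulVec_apply, mul_comm]
  exact this.symm

theorem stepB {F : Type*} [Field F] (n : ℕ) (b : Fin (n + 2) → F) (hb0 : b 0 ≠ 0) :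
    ∃ (g : Matrix.SpecialLinearGroup (Fin (n + 2)) F) (c : F), c ≠ 0 ∧
      b ᵥ* (g : Matrix (Fin (n + 2)) (Fin (n + 2)) F) = c • Pi.single 0 1 := by
  set w : Fin (n + 2) → F := fun j => if j = 0 then 0 else -b j / b 0 with hw
  have hdet : (1 + Matrix.vecMulVec (Pi.single 0 1) w : Matrix (Fin (n + 2)) (Fin (n + 2)) F).det = 1 := by
    have := det_one_add_smul_vecMulVec (F := F) (1 : F) (Pi.single (0 : Fin (n + 2)) (1 : F)) w
    rw [one_smul] at this
    rw [this]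
    simp [hw]
  refine ⟨⟨_, hdet⟩, b 0, hb0, ?_⟩
  show b ᵥ* (1 + Matrix.vecMulVec (Pi.single 0 1) w) = b 0 • Pi.single 0 1
  rw [Matrix.vecMul_add, Matrix.vecMul_one, Matrix.vecMul_vecMulVec]
  ext j
  by_cases hj : j = 0
  · subst hj
    simp [hw]
  · simp [hw, hj]
    field_simp
    ring

theorem exists_sl {F : Type*} [Field F] (n : ℕ) (b : Fin (n + 2) → F) (hb : b ≠ 0) :
    ∃ (g : Matrix.SpecialLinearGroup (Fin (n + 2)) F) (c : F), c ≠ 0 ∧
      b ᵥ* (g : Matrix (Fin (n + 2)) (Fin (n + 2)) F) = c • Pi.single 0 1 := by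
  by_cases hb0 : b 0 ≠ 0
  · exact stepB n b hb0
  · push Not at hb0
    obtain ⟨k, hk⟩ : ∃ k, b k ≠ 0 := by
      by_contra hcon
      push Not at hcon
      exact hb (funext hcon)
    have hk0 : k ≠ 0 := by
      rintro rfl
      exact hk hb0
    set g1 : Matrix.SpecialLinearGroup (Fin (n + 2)) F :=
      ⟨Matrix.transvection k 0 1, Matrix.det_transvection_of_ne k 0 hk0 1⟩ with hg1
    set b' : Fin (n + 2) → F := b ᵥ* (g1 : Matrix (Fin (n + 2)) (Fin (n + 2)) F) with hb'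
    have hb'0 : b' 0 ≠ 0 := by
      have : b' 0 = b 0 + b k := by
        rw [hb']
        show (b ᵥ* Matrix.transvection k 0 1) 0 = _
        rw [Matrix.transvection, Matrix.vecMul_add, Matrix.vecMul_one]
        simp [Matrix.vecMul, dotProduct, Matrix.single_apply]
      rw [this, hb0, zero_add]
      exact hk
    obtain ⟨g2, c, hc, hg2⟩ := stepB n b' hb'0
    refine ⟨g1 * g2, c, hc, ?_⟩
    show b ᵥ* ((g1 : Matrix (Fin (n + 2)) (Fin (n + 2)) F) * (g2 : Matrix (Fin (n + 2)) (Fin (n + 2)) F)) = _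
    rw [← Matrix.vecMul_vecMul]
    exact hg2

/-- Every transvection t ∈ SL_(n+2)(F) (rank(t − 1) = 1, (t − 1)² = 0) is conjugate in SL_(n+2)(F) to 1 + v·e_0ᵀ for some column vector v with v_0 = 0 (the group A of matrices that are the identity except in the first column below the diagonal); the dimension is written n + 2 ≥ 2. -/
theorem result {F : Type*} [Field F] (n : ℕ) (t : Matrix.SpecialLinearGroup (Fin (n + 2)) F) (ht : Cfsg.IsTransvection (t : Matrix (Fin (n + 2)) (Fin (n + 2)) F)) : ∃ (g : Matrix.SpecialLinearGroup (Fin (n + 2)) F) (v : Fin (n + 2) → F), v 0 = 0 ∧ ((g⁻¹ * t * g : Matrix.SpecialLinearGroup (Fin (n + 2)) F) : Matrix (Fin (n + 2)) (Fin (n + 2)) F) = 1 + Matrix.vecMulVec v (Pi.single 0 1) := by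
  obtain ⟨hrank, hsq⟩ := ht
  set T : Matrix (Fin (n + 2)) (Fin (n + 2)) F := (t : Matrix (Fin (n + 2)) (Fin (n + 2)) F) with hT
  obtain ⟨a, b, hab⟩ := rank_one_decomp (T - 1) hrank
  have hN0 : T - 1 ≠ 0 := by
    intro h0
    rw [h0, Matrix.rank_zero] at hrank
    exact zero_ne_one hrank
  have hb : b ≠ 0 := by
    rintro rfl
    apply hN0
    rw [hab]
    ext i j
    simp [Matrix.vecMulVec_apply]
  have hba : b ⬝ᵥ a = 0 := by
    rw [hab, Matrix.vecMulVec_mul_vecMulVec, Matrix.vecMulVec_smul] at hsq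
    rcases smul_eq_zero.1 hsq with h | h
    · exact h
    · exact absurd (hab.trans h) hN0
  obtain ⟨g, c, hc, hg⟩ := exists_sl n b hb
  set G : Matrix (Fin (n + 2)) (Fin (n + 2)) F := (g : Matrix (Fin (n + 2)) (Fin (n + 2)) F) with hG
  set Gi : Matrix (Fin (n + 2)) (Fin (n + 2)) F := ((g⁻¹ : Matrix.SpecialLinearGroup (Fin (n + 2)) F) : Matrix (Fin (n + 2)) (Fin (n + 2)) F) with hGi
  have hGiG : Gi * G = 1 := by
    have : ((g⁻¹ * g : Matrix.SpecialLinearGroup (Fin (n + 2)) F) : Matrix (Fin (n + 2)) (Fin (n + 2)) F) = 1 := by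
      rw [inv_mul_cancel]; rfl
    exact this
  have hGGi : G * Gi = 1 := by
    have : ((g * g⁻¹ : Matrix.SpecialLinearGroup (Fin (n + 2)) F) : Matrix (Fin (n + 2)) (Fin (n + 2)) F) = 1 := by
      rw [mul_inv_cancel]; rfl
    exact this
  refine ⟨g, c • (Gi *ᵥ a), ?_, ?_⟩
  · -- v 0 = 0
    have h1 : (Pi.single 0 1 : Fin (n + 2) → F) ᵥ* Gi = c⁻¹ • b := by
      have h2 : c⁻¹ • (b ᵥ* G) = Pi.single 0 1 := by
        rw [hg, smul_smul, inv_mul_cancel₀ hc, one_smul]
      rw [← h2, Matrix.smul_vecMul, Matrix.vecMul_vecMul, hGGi, Matrix.vecMul_one]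
    have h3 : (Gi *ᵥ a) 0 = (Pi.single 0 1 : Fin (n + 2) → F) ⬝ᵥ (Gi *ᵥ a) := by
      rw [single_one_dotProduct]
    rw [Pi.smul_apply, h3, Matrix.dotProduct_mulVec, h1, smul_dotProduct, hba]
    simp
  · show Gi * T * G = _
    have hT' : T = 1 + Matrix.vecMulVec a b := by rw [← hab]; abel
    rw [hT', Matrix.mul_add, Matrix.mul_one, Matrix.add_mul, hGiG, Matrix.mul_vecMulVec,
      Matrix.vecMulVec_mul, hg, Matrix.vecMulVec_smul, Matrix.smul_vecMulVec]

end Cfsg.Agent.S0839
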