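import Cfsg.Statements.S0840
import Cfsg.Agent.Lib.Helper8.CharAvg
import Cfsg.Agent.Lib.Helper8.CharComplete2

set_option autoImplicit false
open scoped ComplexConjugate
open Cfsg

namespace Cfsg.Agent.S0840

open Cfsg.Agent.Lib.Helper8
open scoped ComplexConjugate

variable {G : Type*} [Group G]

theorem card_conj_fiber [Fintype G] [DecidableEq G] (a x : G) (hx : IsConj a x) :
    (Finset.univ.filter (fun h : G => h * a * h⁻¹ = x)).card =
      (Finset.univ.filter (fun h : G => h * a * h⁻¹ = a)).card := by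
  obtain ⟨g, hg⟩ := isConj_iff.mp hx
  symm
  apply Finset.card_bij (fun h _ => g * h)
  · intro h hh
    simp only [Finset.mem_filter, Finset.mem_univ, true_and] at hh ⊢
    have : g * h * a * (g * h)⁻¹ = g * (h * a * h⁻¹) * g⁻¹ := by group
    rw [this, hh, hg]
  · intro h _ h' _ hhh
    exact mul_left_cancel hhh
  · intro h hh
    simp only [Finset.mem_filter, Finset.mem_univ, true_and] at hh
    refine ⟨g⁻¹ * h, ?_, by simp⟩
    simp only [Finset.mem_filter, Finset.mem_univ, true_and]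
    rw [← hg] at hh
    have : g⁻¹ * h * a * (g⁻¹ * h)⁻¹ = g⁻¹ * (h * a * h⁻¹) * g := by group
    rw [this, hh]
    group

theorem card_class_mul [Fintype G] [DecidableEq G] (a : G) :
    (Finset.univ.filter (fun x : G => IsConj a x)).card *
      (Finset.univ.filter (fun h : G => h * a * h⁻¹ = a)).card = Fintype.card G := by
  have hmaps : ∀ h ∈ (Finset.univ : Finset G), h * a * h⁻¹ ∈ Finset.univ.filter (fun x : G => IsConj a x) := by
    intro h _
    rw [Finset.mem_filter]
    exact ⟨Finset.mem_univ _, isConj_iff.mpr ⟨h, rfl⟩⟩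
  have := Finset.card_eq_sum_card_fiberwise hmaps
  rw [Finset.card_univ] at this
  rw [this]
  have h2 : ∀ x ∈ Finset.univ.filter (fun x : G => IsConj a x),
      (Finset.univ.filter (fun h : G => h * a * h⁻¹ = x)).card =
      (Finset.univ.filter (fun h : G => h * a * h⁻¹ = a)).card := by
    intro x hx
    exact card_conj_fiber a x (Finset.mem_filter.mp hx).2
  rw [Finset.sum_congr rfl h2, Finset.sum_const, smul_eq_mul]

theorem class_mult_count [Fintype G] [DecidableEq G] (a b c : G) :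
    (Finset.univ.filter (fun q : G × G => (q.1 * a * q.1⁻¹) * (q.2 * b * q.2⁻¹) = c)).card =
    (Finset.univ.filter (fun p : G × G => IsConj a p.1 ∧ IsConj b p.2 ∧ p.1 * p.2 = c)).card *
      ((Finset.univ.filter (fun h : G => h * a * h⁻¹ = a)).card *
       (Finset.univ.filter (fun h : G => h * b * h⁻¹ = b)).card) := by
  set W := Finset.univ.filter (fun q : G × G => (q.1 * a * q.1⁻¹) * (q.2 * b * q.2⁻¹) = c) with hW
  set P := Finset.univ.filter (fun p : G × G => IsConj a p.1 ∧ IsConj b p.2 ∧ p.1 * p.2 = c) with hP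
  have hmaps : ∀ q ∈ W, ((q.1 * a * q.1⁻¹, q.2 * b * q.2⁻¹) : G × G) ∈ P := by
    intro q hq
    rw [hW, Finset.mem_filter] at hq
    rw [hP, Finset.mem_filter]
    exact ⟨Finset.mem_univ _, isConj_iff.mpr ⟨q.1, rfl⟩, isConj_iff.mpr ⟨q.2, rfl⟩, hq.2⟩
  rw [Finset.card_eq_sum_card_fiberwise hmaps]
  have h2 : ∀ p ∈ P, (W.filter (fun q : G × G => ((q.1 * a * q.1⁻¹, q.2 * b * q.2⁻¹) : G × G) = p)).card =
      (Finset.univ.filter (fun h : G => h * a * h⁻¹ = a)).card *
       (Finset.univ.filter (fun h : G => h * b * h⁻¹ = b)).card := by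
    intro p hp
    rw [hP, Finset.mem_filter] at hp
    rw [← card_conj_fiber a p.1 hp.2.1, ← card_conj_fiber b p.2 hp.2.2.1, ← Finset.card_product]
    congr 1
    ext q
    simp only [hW, Finset.mem_filter, Finset.mem_univ, true_and, Finset.mem_product, Prod.ext_iff]
    constructor
    · rintro ⟨-, h1, h2⟩
      exact ⟨h1, h2⟩
    · rintro ⟨h1, h2⟩
      exact ⟨by rw [h1, h2]; exact hp.2.2.2, h1, h2⟩
  rw [Finset.sum_congr rfl h2, Finset.sum_const, smul_eq_mul]

theorem class_mult_char [Fintype G] [Fintype (IrrCharacter G)] [DecidableEq G] (a b c : G) :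
    ((Finset.univ.filter (fun q : G × G => (q.1 * a * q.1⁻¹) * (q.2 * b * q.2⁻¹) = c)).card : ℂ) =
      (Nat.card G : ℂ) * ∑ ψ : IrrCharacter G, conj (ψ.1 a) * conj (ψ.1 b) * ψ.1 c / ψ.1 1 := by
  have hw := card_fiber_conj (fun q : G × G => (q.1 * a * q.1⁻¹) * (q.2 * b * q.2⁻¹))
    (fun g => (Equiv.mulLeft g).prodCongr (Equiv.mulLeft g)) (by
    intro g q
    simp only [Equiv.prodCongr_apply, Equiv.coe_mulLeft, Prod.map_fst, Prod.map_snd]
    group)
  rw [count_fiber_eq _ hw c, Finset.mul_sum]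
  apply Finset.sum_congr rfl
  intro ψ _
  have hGne : (Nat.card G : ℂ) ≠ 0 := Nat.cast_ne_zero.mpr Nat.card_pos.ne'
  have h1 := irr_one_ne_zero ψ
  have hcf := isClassFunction_of_isCharacter (irr_isCharacter ψ.2)
  have h2 : ∑ q : G × G, ψ.1 ((q.1 * a * q.1⁻¹) * (q.2 * b * q.2⁻¹)) =
      (Nat.card G : ℂ) ^ 2 * ψ.1 a * ψ.1 b / ψ.1 1 := by
    rw [Fintype.sum_prod_type, Finset.sum_comm]
    have h3 : ∀ k : G, ∑ h : G, ψ.1 ((h * a * h⁻¹) * (k * b * k⁻¹)) =
        (Nat.card G : ℂ) * ψ.1 a * ψ.1 b / ψ.1 1 := by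
      intro k
      rw [irr_sum_conj_mul ψ a (k * b * k⁻¹), hcf b k]
    rw [Finset.sum_congr rfl (fun k _ => h3 k), Finset.sum_const, Finset.card_univ, nsmul_eq_mul,
      ← Nat.card_eq_fintype_card]
    ring
  rw [← map_sum, h2]
  simp only [map_div₀, map_mul, map_pow, map_natCast, irr_one_real]
  field_simp

theorem class_mult_final [Finite G] (a b c : G) :
    (Nat.card {p : G × G // IsConj a p.1 ∧ IsConj b p.2 ∧ p.1 * p.2 = c} : ℂ) = (Nat.card {x : G // IsConj a x} : ℂ) * (Nat.card {x : G // IsConj b x} : ℂ) / (Nat.card G : ℂ) * ∑ᶠ χ : Cfsg.IrrCharacter G, (χ : G → ℂ) a * (χ : G → ℂ) b * conj ((χ : G → ℂ) c) / (χ : G → ℂ) 1 := by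
  classical
  have : Fintype G := Fintype.ofFinite G
  have := irr_finite (G := G)
  have : Fintype (IrrCharacter G) := Fintype.ofFinite _
  have hGne : (Nat.card G : ℂ) ≠ 0 := Nat.cast_ne_zero.mpr Nat.card_pos.ne'
  rw [finsum_eq_sum_of_fintype]
  have hW := class_mult_char a b c
  have hcount := class_mult_count a b c
  have hca := card_class_mul a
  have hcb := card_class_mul b
  set W := (Finset.univ.filter (fun q : G × G => (q.1 * a * q.1⁻¹) * (q.2 * b * q.2⁻¹) = c)).card with hWdef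
  set cA := (Finset.univ.filter (fun h : G => h * a * h⁻¹ = a)).card with hcA
  set cB := (Finset.univ.filter (fun h : G => h * b * h⁻¹ = b)).card with hcB
  have hP : Nat.card {p : G × G // IsConj a p.1 ∧ IsConj b p.2 ∧ p.1 * p.2 = c} =
      (Finset.univ.filter (fun p : G × G => IsConj a p.1 ∧ IsConj b p.2 ∧ p.1 * p.2 = c)).card := by
    rw [Nat.card_eq_fintype_card, Fintype.card_subtype]
  have hA : Nat.card {x : G // IsConj a x} = (Finset.univ.filter (fun x : G => IsConj a x)).card := by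
    rw [Nat.card_eq_fintype_card, Fintype.card_subtype]
  have hB : Nat.card {x : G // IsConj b x} = (Finset.univ.filter (fun x : G => IsConj b x)).card := by
    rw [Nat.card_eq_fintype_card, Fintype.card_subtype]
  rw [hP, hA, hB]
  set P := (Finset.univ.filter (fun p : G × G => IsConj a p.1 ∧ IsConj b p.2 ∧ p.1 * p.2 = c)).card
  set clA := (Finset.univ.filter (fun x : G => IsConj a x)).card
  set clB := (Finset.univ.filter (fun x : G => IsConj b x)).card
  -- the character sum is the conjugate of the one in hW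
  have hS : ∑ χ : IrrCharacter G, χ.1 a * χ.1 b * conj (χ.1 c) / χ.1 1 =
      conj (∑ ψ : IrrCharacter G, conj (ψ.1 a) * conj (ψ.1 b) * ψ.1 c / ψ.1 1) := by
    rw [map_sum]
    apply Finset.sum_congr rfl
    intro χ _
    simp only [map_div₀, map_mul, Complex.conj_conj, irr_one_real]
  have hS2 : ∑ ψ : IrrCharacter G, conj (ψ.1 a) * conj (ψ.1 b) * ψ.1 c / ψ.1 1 = (W : ℂ) / (Nat.card G : ℂ) := by
    rw [hW]; field_simp
  rw [hS, hS2, map_div₀, map_natCast, map_natCast]
  have h1 : (W : ℂ) = (P : ℂ) * ((cA : ℂ) * (cB : ℂ)) := by exact_mod_cast congrArg (Nat.cast (R := ℂ)) hcount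
  have h2 : (clA : ℂ) * (cA : ℂ) = (Nat.card G : ℂ) := by
    rw [Nat.card_eq_fintype_card]; exact_mod_cast congrArg (Nat.cast (R := ℂ)) hca
  have h3 : (clB : ℂ) * (cB : ℂ) = (Nat.card G : ℂ) := by
    rw [Nat.card_eq_fintype_card]; exact_mod_cast congrArg (Nat.cast (R := ℂ)) hcb
  rw [h1]
  have hcA0 : (cA : ℂ) ≠ 0 := by
    intro h; rw [h, mul_zero] at h2; exact hGne h2.symm
  have hcB0 : (cB : ℂ) ≠ 0 := by
    intro h; rw [h, mul_zero] at h3; exact hGne h3.symm
  have h4 : (clA : ℂ) = (Nat.card G : ℂ) / (cA : ℂ) := by rw [← h2]; field_simp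
  have h5 : (clB : ℂ) = (Nat.card G : ℂ) / (cB : ℂ) := by rw [← h3]; field_simp
  rw [h4, h5]
  field_simp

/-- Class multiplication coefficients from the character table: for elements a, b, c of a finite group G, the number of ordered pairs (x, y) with x conjugate to a, y conjugate to b and x * y = c equals the product of the sizes of the conjugacy classes of a and b, divided by the order of G, times the sum over the irreducible characters χ of χ a * χ b * conj (χ c) / χ 1. -/
theorem result {G : Type*} [Group G] [Finite G] (a b c : G) : (Nat.card {p : G × G // IsConj a p.1 ∧ IsConj b p.2 ∧ p.1 * p.2 = c} : ℂ) = (Nat.card {x : G // IsConj a x} : ℂ) * (Nat.card {x : G // IsConj b x} : ℂ) / (Nat.card G : ℂ) * ∑ᶠ χ : Cfsg.IrrCharacter G, (χ : G → ℂ) a * (χ : G → ℂ) b * conj ((χ : G → ℂ) c) / (χ : G → ℂ) 1 := by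
  exact class_mult_final a b c

end Cfsg.Agent.S0840
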