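import Cfsg.Statements.S0849
import Cfsg.Agent.Lib.Helper8.CharInd

set_option autoImplicit false
open Cfsg

namespace Cfsg.Agent.S0849

open Cfsg.Agent.Lib.Helper8
open scoped ComplexConjugate in
theorem inv_sq_one {G : Type*} [Group G] {u a : G} (hu : orderOf u = 2) (h : IsConj u a) : a * a = 1 := by
  obtain ⟨g, hg⟩ := isConj_iff.mp h
  have hu2 : u * u = 1 := by
    have := pow_orderOf_eq_one u
    rw [hu, pow_two] at this
    exact this
  rw [← hg]
  calc g * u * g⁻¹ * (g * u * g⁻¹) = g * (u * u) * g⁻¹ := by group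
    _ = 1 := by rw [hu2]; group


/-- Let H be a subgroup of a finite group G and S a subset of H that is mapped to itself under conjugation by H, is disjoint from its conjugate by any element outside H, and is closed under inverses. Let φ be a class function of H vanishing on H away from S, and let u, v be involutions of G. Then the sum of the induced function of φ over all products a * b with a conjugate to u and b conjugate to v equals the index of H times the sum of φ (a * b) over such pairs with a and b in H. -/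
theorem result {G : Type*} [Group G] [Fintype G] (H : Subgroup G) (S : Set G) (hSH : S ⊆ H) (hHS : ∀ h ∈ H, ∀ s ∈ S, h * s * h⁻¹ ∈ S) (hTI : ∀ g : G, g ∉ H → ∀ s ∈ S, g * s * g⁻¹ ∉ S) (hinv : ∀ s ∈ S, s⁻¹ ∈ S) (φ : H → ℂ) (hφ : Cfsg.IsClassFunction H φ) (hφS : ∀ x : H, (x : G) ∉ S → φ x = 0) (u v : G) (hu : orderOf u = 2) (hv : orderOf v = 2) : ∑ᶠ p ∈ {p : G × G | IsConj u p.1 ∧ IsConj v p.2}, Cfsg.indFun H φ (p.1 * p.2) = (H.index : ℂ) * ∑ᶠ p ∈ {p : H × H | IsConj u (p.1 : G) ∧ IsConj v (p.2 : G)}, φ (p.1 * p.2) := by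
  classical
  have : Fintype H := Fintype.ofFinite H
  have hHne : (Nat.card H : ℂ) ≠ 0 := Nat.cast_ne_zero.mpr Nat.card_pos.ne'
  set fG := Finset.univ.filter (fun p : G × G => IsConj u p.1 ∧ IsConj v p.2) with hfG
  set fH := Finset.univ.filter (fun q : H × H => IsConj u (q.1 : G) ∧ IsConj v (q.2 : G)) with hfH
  have hsetG : {p : G × G | IsConj u p.1 ∧ IsConj v p.2} = ↑fG := by
    ext p; simp [hfG]
  have hsetH : {p : H × H | IsConj u (p.1 : G) ∧ IsConj v (p.2 : G)} = ↑fH := by
    ext p; simp [hfH]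
  rw [hsetG, hsetH, finsum_mem_coe_finset, finsum_mem_coe_finset]
  -- the inner sum T
  set T := ∑ p ∈ fG, Cfsg.extendByZero H φ (p.1 * p.2) with hT
  have hstep1 : ∀ y : G, ∑ p ∈ fG, Cfsg.extendByZero H φ (y⁻¹ * (p.1 * p.2) * y) = T := by
    intro y
    rw [hT]
    apply Finset.sum_bij' (fun p _ => ((y⁻¹ * p.1 * y, y⁻¹ * p.2 * y) : G × G))
      (fun p _ => ((y * p.1 * y⁻¹, y * p.2 * y⁻¹) : G × G))
    · intro p hp
      rw [hfG, Finset.mem_filter] at hp ⊢
      refine ⟨Finset.mem_univ _, ?_, ?_⟩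
      · exact hp.2.1.trans (isConj_iff.mpr ⟨y⁻¹, by group⟩)
      · exact hp.2.2.trans (isConj_iff.mpr ⟨y⁻¹, by group⟩)
    · intro p hp
      rw [hfG, Finset.mem_filter] at hp ⊢
      refine ⟨Finset.mem_univ _, ?_, ?_⟩
      · exact hp.2.1.trans (isConj_iff.mpr ⟨y, rfl⟩)
      · exact hp.2.2.trans (isConj_iff.mpr ⟨y, rfl⟩)
    · intro p _
      apply Prod.ext <;> simp <;> group
    · intro p _
      apply Prod.ext <;> simp <;> group
    · intro p _
      congr 1
      group
  have hL : ∑ p ∈ fG, Cfsg.indFun H φ (p.1 * p.2) = (Nat.card H : ℂ)⁻¹ * ((Nat.card G : ℂ) * T) := by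
    simp_rw [Cfsg.Agent.Lib.Helper8.indFun_apply]
    rw [← Finset.mul_sum, Finset.sum_comm]
    congr 1
    rw [Finset.sum_congr rfl (fun y _ => hstep1 y), Finset.sum_const, Finset.card_univ, nsmul_eq_mul,
      ← Nat.card_eq_fintype_card]
  -- T as a sum over H × H
  have hTH : T = ∑ q ∈ fH, φ (q.1 * q.2) := by
    rw [hT]
    symm
    have hinH : ∀ p ∈ fG, Cfsg.extendByZero H φ (p.1 * p.2) ≠ 0 → p.1 ∈ H ∧ p.2 ∈ H := by
      intro p hp hne
      rw [hfG, Finset.mem_filter] at hp
      have ha := inv_sq_one hu hp.2.1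
      have hb := inv_sq_one hv hp.2.2
      have hmemH : p.1 * p.2 ∈ H := by
        by_contra h
        exact hne (Cfsg.Agent.Lib.Helper8.extendByZero_not_mem H φ h)
      have hS : p.1 * p.2 ∈ S := by
        by_contra h
        apply hne
        rw [Cfsg.Agent.Lib.Helper8.extendByZero_mem H φ hmemH]
        exact hφS ⟨_, hmemH⟩ h
      have hSinv := hinv _ hS
      have hinv1 : p.1⁻¹ = p.1 := inv_eq_of_mul_eq_one_left ha
      have hinv2 : p.2⁻¹ = p.2 := inv_eq_of_mul_eq_one_left hb
      constructor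
      · by_contra h
        apply hTI p.1 h (p.1 * p.2) hS
        have : p.1 * (p.1 * p.2) * p.1⁻¹ = (p.1 * p.2)⁻¹ := by
          rw [mul_inv_rev, hinv1, hinv2, ← mul_assoc, ha, one_mul]
        rw [this]; exact hSinv
      · by_contra h
        apply hTI p.2 h (p.1 * p.2) hS
        have : p.2 * (p.1 * p.2) * p.2⁻¹ = (p.1 * p.2)⁻¹ := by
          rw [mul_inv_rev, hinv1, hinv2, mul_assoc, mul_assoc, hb, mul_one]
        rw [this]; exact hSinv
    have hsub : fH.map ⟨fun q : H × H => ((q.1 : G), (q.2 : G)),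
        fun a b h => by
          have h1 := congrArg Prod.fst h
          have h2 := congrArg Prod.snd h
          exact Prod.ext (Subtype.ext h1) (Subtype.ext h2)⟩ ⊆ fG := by
      intro p hp
      rw [Finset.mem_map] at hp
      obtain ⟨q, hq, rfl⟩ := hp
      rw [hfH, Finset.mem_filter] at hq
      rw [hfG, Finset.mem_filter]
      exact ⟨Finset.mem_univ _, hq.2⟩
    rw [← Finset.sum_subset hsub]
    · rw [Finset.sum_map]
      apply Finset.sum_congr rfl
      intro q _
      show φ (q.1 * q.2) = Cfsg.extendByZero H φ (((q.1 * q.2 : H) : G))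
      rw [Cfsg.Agent.Lib.Helper8.extendByZero_coe]
    · intro p hp hnot
      by_contra hne
      obtain ⟨h1, h2⟩ := hinH p hp hne
      apply hnot
      rw [Finset.mem_map]
      refine ⟨(⟨p.1, h1⟩, ⟨p.2, h2⟩), ?_, rfl⟩
      rw [hfH, Finset.mem_filter]
      rw [hfG, Finset.mem_filter] at hp
      exact ⟨Finset.mem_univ _, hp.2⟩
  rw [hL, hTH, ← Subgroup.card_mul_index H]
  push_cast
  field_simp

end Cfsg.Agent.S0849
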