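import Cfsg.Statements.S0850
import Cfsg.Agent.Lib.Helper8.CharExceptional

set_option autoImplicit false
open Cfsg

namespace Cfsg.Agent.S0850

open Cfsg.Agent.Lib.Helper8
theorem no_fusion {G : Type*} [Group G] [Fintype G] (K : Subgroup G)
    (hC : ∀ k ∈ K, k ≠ 1 → Subgroup.centralizer ({k} : Set G) ≤ K)
    (x : G) (hxN : x ∈ Subgroup.normalizer (K : Set G)) (hxK : x ∉ K) (g : G) :
    g * x * g⁻¹ ∉ K := by
  classical
  intro hk
  have hx1 : x ≠ 1 := fun h => hxK (h ▸ K.one_mem)
  have hm : orderOf x ≠ 1 := fun h => hx1 (orderOf_eq_one_iff.mp h)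
  obtain ⟨p, hp, hpm⟩ := Nat.exists_prime_and_dvd hm
  have : Fact p.Prime := ⟨hp⟩
  obtain ⟨r, hr⟩ := hpm
  have hmpos : 0 < orderOf x := orderOf_pos x
  have hrpos : 0 < r := by
    rcases Nat.eq_zero_or_pos r with h | h
    · rw [h, mul_zero] at hr; omega
    · exact h
  set y := x ^ r with hy
  have hyord : orderOf y = p := by
    rw [hy, orderOf_pow' x hrpos.ne', hr, Nat.gcd_eq_right (Dvd.intro_left p rfl),
      Nat.mul_div_cancel _ hrpos]
  have hy1 : y ≠ 1 := by
    intro h
    rw [← orderOf_eq_one_iff, hyord] at h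
    exact hp.one_lt.ne' h
  have hyK : y ∉ K := by
    intro h
    apply hxK
    apply hC y h hy1
    rw [Subgroup.mem_centralizer_iff]
    intro z hz
    rw [Set.mem_singleton_iff] at hz
    rw [hz, hy, ← pow_succ, ← pow_succ']
  have hyN : y ∈ Subgroup.normalizer (K : Set G) := Subgroup.pow_mem _ hxN r
  -- p divides |K|
  have hgy : g * y * g⁻¹ ∈ K := by
    rw [hy, ← conj_pow]
    exact K.pow_mem hk r
  have hpK : p ∣ Nat.card K := by
    have h1 : orderOf (⟨g * y * g⁻¹, hgy⟩ : K) = p := by
      rw [← Subgroup.orderOf_coe]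
      show orderOf (g * y * g⁻¹) = p
      rw [← hyord]
      exact (MulAut.conj g).orderOf_eq y
    rw [← h1]
    exact orderOf_dvd_natCard _
  -- the action of y on K
  have hmemN : ∀ k : G, k ∈ K ↔ y * k * y⁻¹ ∈ K := fun k => by
    exact Subgroup.mem_normalizer_iff.mp hyN k
  let f : Function.End K := fun k => ⟨y * k * y⁻¹, (hmemN k).mp k.2⟩
  have hfpow : ∀ j : ℕ, ∀ k : K, ((((f : K → K)^[j]) k : K) : G) = y ^ j * k * (y ^ j)⁻¹ := by
    intro j
    induction j with
    | zero => intro k; rw [Function.iterate_zero, id_eq, pow_zero, one_mul, inv_one, mul_one]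
    | succ j ih =>
      intro k
      rw [Function.iterate_succ_apply']
      show y * ((((f : K → K)^[j]) k : K) : G) * y⁻¹ = _
      rw [ih, pow_succ']
      group
  have hpowit : ∀ j : ℕ, ((f ^ j : Function.End K) : K → K) = (f : K → K)^[j] := fun j =>
    hom_coe_pow (fun g : Function.End K => (g : K → K)) rfl (fun g h => rfl) f j
  have hf1 : f ^ p ^ 1 = 1 := by
    funext k
    apply Subtype.ext
    show (((f ^ p ^ 1 : Function.End K) k : K) : G) = k
    rw [hpowit, hfpow, pow_one, ← hyord, pow_orderOf_eq_one]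
    simp
  have hmod := Equiv.Perm.card_fixedPoints_modEq (f := f) (p := p) (n := 1) hf1
  have hfix : Fintype.card (Function.fixedPoints f) = 1 := by
    rw [Fintype.card_eq_one_iff]
    refine ⟨⟨1, ?_⟩, ?_⟩
    · show f 1 = 1
      apply Subtype.ext
      show y * ((1 : K) : G) * y⁻¹ = ((1 : K) : G)
      simp
    · rintro ⟨k, hkf⟩
      apply Subtype.ext
      by_contra hk1
      have hk1' : (k : G) ≠ 1 := fun h => hk1 (Subtype.ext h)
      apply hyK
      apply hC k k.2 hk1'
      rw [Subgroup.mem_centralizer_iff]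
      intro z hz
      rw [Set.mem_singleton_iff] at hz
      have h2 : y * (k : G) * y⁻¹ = k := congrArg Subtype.val hkf
      rw [hz]
      calc (k : G) * y = (y * (k : G) * y⁻¹) * y := by rw [h2]
        _ = y * k := by group
  rw [hfix, ← Nat.card_eq_fintype_card] at hmod
  have h3 : Nat.card K % p = 0 := Nat.mod_eq_zero_of_dvd hpK
  have h4 : Nat.card K % p = 1 % p := hmod
  rw [h3, Nat.mod_eq_of_lt hp.one_lt] at h4
  omega

/-- Let K be a subgroup of the finite group G that meets each conjugate by an element outside its normalizer N trivially, is properly contained in N, and contains the centralizer of each of its non-identity elements (a T.I. subgroup with Frobenius normalizer). Then no element of N outside K is conjugate in G to an element of K, and for every class function ϑ of N that vanishes on N away from K and at the identity, the function induced from ϑ to G agrees with ϑ on all of N. -/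
theorem result {G : Type*} [Group G] [Fintype G] (K : Subgroup G) (hTI : ∀ g : G, g ∉ Subgroup.normalizer (K : Set G) → ∀ k ∈ K, g * k * g⁻¹ ∈ K → k = 1) (hlt : K < Subgroup.normalizer (K : Set G)) (hC : ∀ k ∈ K, k ≠ 1 → Subgroup.centralizer ({k} : Set G) ≤ K) : (∀ x ∈ Subgroup.normalizer (K : Set G), x ∉ K → ∀ g : G, g * x * g⁻¹ ∉ K) ∧ ∀ (ϑ : Subgroup.normalizer (K : Set G) → ℂ), Cfsg.IsClassFunction (Subgroup.normalizer (K : Set G)) ϑ → (∀ x : Subgroup.normalizer (K : Set G), (x : G) ∉ K → ϑ x = 0) → ϑ 1 = 0 → ∀ x : Subgroup.normalizer (K : Set G), Cfsg.indFun (Subgroup.normalizer (K : Set G)) ϑ x = ϑ x := by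
  have h1 : ∀ x ∈ Subgroup.normalizer (K : Set G), x ∉ K → ∀ g : G, g * x * g⁻¹ ∉ K :=
    fun x hxN hxK g => no_fusion K hC x hxN hxK g
  refine ⟨h1, ?_⟩
  intro ϑ hcf hvan hone x
  by_cases hxK : (x : G) ∈ K
  · by_cases hx1 : x = 1
    · rw [hx1, Subgroup.coe_one, indFun_apply, hone]
      rw [Finset.sum_eq_zero, mul_zero]
      intro g _
      have : g⁻¹ * (1 : G) * g = ((1 : Subgroup.normalizer (K : Set G)) : G) := by simp
      rw [this, extendByZero_coe, hone]
    · exact indFun_TI (K : Set G) hTI hcf hvan x hxK hx1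
  · rw [hvan x hxK, indFun_apply, Finset.sum_eq_zero, mul_zero]
    intro g _
    by_cases hmem : g⁻¹ * (x : G) * g ∈ Subgroup.normalizer (K : Set G)
    · rw [extendByZero_mem _ _ hmem]
      apply hvan
      show g⁻¹ * (x : G) * g ∉ K
      have := h1 x x.2 hxK g⁻¹
      rwa [inv_inv] at this
    · exact extendByZero_not_mem _ _ hmem

end Cfsg.Agent.S0850
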