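import Cfsg.Statements.S0851
import Cfsg.Agent.Lib.Helper8.Tifn

set_option autoImplicit false
open Cfsg

namespace Cfsg.Agent.S0851

open Cfsg.Agent.Lib.Helper8

/-- Let K be a subgroup of the finite group G that meets each conjugate by an element outside its normalizer N trivially, is properly contained in N, and contains the centralizer of each of its non-identity elements (a T.I. subgroup with Frobenius normalizer). Suppose K is abelian, let e be the index of K in N, and call an irreducible character of N relevant when it takes at some element of K a value different from its degree. Then either there is exactly one relevant character and K is an elementary abelian p-group of order e + 1 for some prime p, or there are a sign ε and an injective map f from the relevant characters to the irreducible characters of G such that inducing χ - ξ to G gives ε (f χ - f ξ) for all relevant χ and ξ. -/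
theorem result {G : Type*} [Group G] [Fintype G] (K : Subgroup G) (hTI : ∀ g : G, g ∉ Subgroup.normalizer (K : Set G) → ∀ k ∈ K, g * k * g⁻¹ ∈ K → k = 1) (hlt : K < Subgroup.normalizer (K : Set G)) (hC : ∀ k ∈ K, k ≠ 1 → Subgroup.centralizer ({k} : Set G) ≤ K) (hab : ∀ a ∈ K, ∀ b ∈ K, a * b = b * a) : (Nat.card {χ : Cfsg.IrrCharacter (Subgroup.normalizer (K : Set G)) // ∃ k : Subgroup.normalizer (K : Set G), (k : G) ∈ K ∧ (χ : ↥(Subgroup.normalizer (K : Set G)) → ℂ) k ≠ (χ : ↥(Subgroup.normalizer (K : Set G)) → ℂ) 1} = 1 ∧ ∃ p : ℕ, p.Prime ∧ Cfsg.IsElementaryAbelian p K ∧ Nat.card K = (K.subgroupOf (Subgroup.normalizer (K : Set G))).index + 1) ∨ ∃ (ε : ℂ) (f : {χ : Cfsg.IrrCharacter (Subgroup.normalizer (K : Set G)) // ∃ k : Subgroup.normalizer (K : Set G), (k : G) ∈ K ∧ (χ : ↥(Subgroup.normalizer (K : Set G)) → ℂ) k ≠ (χ : ↥(Subgroup.normalizer (K : Set G)) → ℂ) 1} → Cfsg.IrrCharacter G), (ε = 1 ∨ ε = -1) ∧ Function.Injective f ∧ ∀ χ ξ, Cfsg.indFun (Subgroup.normalizer (K : Set G)) ((χ.1 : ↥(Subgroup.normalizer (K : Set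 G)) → ℂ) - (ξ.1 : ↥(Subgroup.normalizer (K : Set G)) → ℂ)) = ε • ((f χ : G → ℂ) - (f ξ : G → ℂ)) := by
  classical
  right
  haveI : Fintype ↥(Subgroup.normalizer (K : Set G)) := Fintype.ofFinite _
  haveI : Finite (Cfsg.IrrCharacter ↥(Subgroup.normalizer (K : Set G))) := irr_finite
  obtain ⟨n, ⟨e⟩⟩ := Finite.exists_equiv_fin {χ : Cfsg.IrrCharacter (Subgroup.normalizer (K : Set G)) // ∃ k : Subgroup.normalizer (K : Set G), (k : G) ∈ K ∧ (χ : ↥(Subgroup.normalizer (K : Set G)) → ℂ) k ≠ (χ : ↥(Subgroup.normalizer (K : Set G)) → ℂ) 1}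
  by_cases hn : 2 ≤ n
  · obtain ⟨ε, hε, θ, hθirr, hθinj, hθ⟩ := exceptional_characters (K : Set G) hTI n hn
      (fun i => ((e.symm i).1 : ↥(Subgroup.normalizer (K : Set G)) → ℂ))
      (fun i => (e.symm i).1.2)
      (by
        intro i j hij
        have h1 : (e.symm i).1 = (e.symm j).1 := Subtype.ext hij
        have h2 : e.symm i = e.symm j := Subtype.ext h1
        exact e.symm.injective h2)
      (fun i x hx => tifn_relevant_vanish K hC _ (e.symm i).1.2 (e.symm i).2 x hx)
      (fun i j => by
        rw [tifn_relevant_degree_abelian K hC hab _ (e.symm i).1.2 (e.symm i).2,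
          tifn_relevant_degree_abelian K hC hab _ (e.symm j).1.2 (e.symm j).2])
    refine ⟨ε, fun r => ⟨θ (e r), hθirr (e r)⟩, hε, ?_, ?_⟩
    · intro r r' h
      have h1 : θ (e r) = θ (e r') := congrArg Subtype.val h
      exact e.injective (hθinj h1)
    · intro χ ξ
      rw [indFun_sub]
      have := hθ (e χ) (e ξ)
      simp only [Equiv.symm_apply_apply] at this
      exact this
  · have hsub : Subsingleton {χ : Cfsg.IrrCharacter (Subgroup.normalizer (K : Set G)) // ∃ k : Subgroup.normalizer (K : Set G), (k : G) ∈ K ∧ (χ : ↥(Subgroup.normalizer (K : Set G)) → ℂ) k ≠ (χ : ↥(Subgroup.normalizer (K : Set G)) → ℂ) 1} := by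
      haveI : Subsingleton (Fin n) := by
        have : n ≤ 1 := by omega
        exact Fin.subsingleton_iff_le_one.mpr this
      exact e.subsingleton
    refine ⟨1, fun _ => ⟨fun _ => (1 : ℂ), principal_isIrrCharacter⟩, Or.inl rfl, ?_, ?_⟩
    · intro r r' _
      exact Subsingleton.elim r r'
    · intro χ ξ
      rw [Subsingleton.elim χ ξ, sub_self, sub_self, smul_zero]
      exact indFun_zero _

end Cfsg.Agent.S0851
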