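import Cfsg.Statements.S0852
import Cfsg.Agent.Lib.Helper8.Tifn2
import Cfsg.Agent.Lib.Helper8.Coherence

set_option autoImplicit false
open Cfsg

namespace Cfsg.Agent.S0852

open Cfsg.Agent.Lib.Helper8
open scoped ComplexConjugate

/-- Let K be a subgroup of the finite group G that meets each conjugate by an element outside its normalizer N trivially, is properly contained in N, and contains the centralizer of each of its non-identity elements (a T.I. subgroup with Frobenius normalizer). Let S be the set of irreducible characters of N taking at some element of K a value different from their degree, suppose S has at least two members, and let star be a linear isometry on the integer span of S into the generalized characters of G that agrees with induction on the members vanishing at the identity (so S is coherent, with star as the extending isometry). Then an irreducible character ψ of G is of the form star χ or -star χ for some χ in S if and only if ψ is not constant on the non-identity elements of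 K. -/
theorem result {G : Type*} [Group G] [Fintype G] (K : Subgroup G) (hTI : ∀ g : G, g ∉ Subgroup.normalizer (K : Set G) → ∀ k ∈ K, g * k * g⁻¹ ∈ K → k = 1) (hlt : K < Subgroup.normalizer (K : Set G)) (hC : ∀ k ∈ K, k ≠ 1 → Subgroup.centralizer ({k} : Set G) ≤ K) [Fintype ↥(Subgroup.normalizer (K : Set G))] (S : Set (↥(Subgroup.normalizer (K : Set G)) → ℂ)) (hS : S = {χ : ↥(Subgroup.normalizer (K : Set G)) → ℂ | Cfsg.IsIrrCharacter ↥(Subgroup.normalizer (K : Set G)) χ ∧ ∃ k : ↥(Subgroup.normalizer (K : Set G)), (k : G) ∈ K ∧ χ k ≠ χ 1}) (htwo : ∃ χ ∈ S, ∃ ξ ∈ S, χ ≠ ξ) (star : (↥(Subgroup.normalizer (K : Set G)) → ℂ) → (G → ℂ)) (hstar : Cfsg.IsLinearIsometryOn (Cfsg.zspan S) star) (hext : ∀ α ∈ Cfsg.zspanOn S ({1}ᶜ : Set ↥(Subgroup.normalizer (K : Set G))), star α = Cfsg.indFun (Subgroup.normalizer (K : Set G)) α) (ψ : G → ℂ) (hψ : Cfsg.IsIrrCharacter G ψ) : (∃ χ ∈ S, ψ = star χ ∨ ψ = -star χ) ↔ ∃ a ∈ K, ∃ b ∈ K, a ≠ 1 ∧ b ≠ 1 ∧ ψ a ≠ ψ b := by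
  classical
  haveI : Finite (Cfsg.IrrCharacter ↥(Subgroup.normalizer (K : Set G))) := irr_finite
  haveI : Fintype (Cfsg.IrrCharacter ↥(Subgroup.normalizer (K : Set G))) := Fintype.ofFinite _
  have hne : S.Nonempty := by obtain ⟨χ, hχ, _⟩ := htwo; exact ⟨χ, hχ⟩
  have hSirr : ∀ ξ ∈ S, Cfsg.IsIrrCharacter ↥(Subgroup.normalizer (K : Set G)) ξ := by
    intro ξ hξ; rw [hS] at hξ; exact hξ.1
  have hSrel : ∀ ξ ∈ S, ∃ k : ↥(Subgroup.normalizer (K : Set G)), (k : G) ∈ K ∧ ξ k ≠ ξ 1 := by
    intro ξ hξ; rw [hS] at hξ; exact hξ.2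
  have hSsub : ∀ ξ ∈ S, ξ ∈ Cfsg.zspan S := fun ξ hξ => Submodule.subset_span hξ
  have hψcf : Cfsg.IsClassFunction G ψ := isClassFunction_of_isCharacter (irr_isCharacter hψ)
  have hNne : (Nat.card ↥(Subgroup.normalizer (K : Set G)) : ℂ) ≠ 0 :=
    Nat.cast_ne_zero.mpr Nat.card_pos.ne'
  constructor
  · rintro ⟨χ, hχS, hψχ⟩
    have hnc : ∃ a b : ↥(Subgroup.normalizer (K : Set G)), (a : G) ∈ K ∧ (b : G) ∈ K ∧ a ≠ 1 ∧
        b ≠ 1 ∧ χ a ≠ χ b := by
      by_contra hcon
      push_neg at hcon
      obtain ⟨k₀, hk₀K, hk₀⟩ := hSrel χ hχS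
      have hk₀1 : k₀ ≠ 1 := fun h => hk₀ (by rw [h])
      obtain ⟨ξ, hξS, hξχ⟩ : ∃ ξ ∈ S, ξ ≠ χ := by
        obtain ⟨χ₁, h₁, χ₂, h₂, h12⟩ := htwo
        by_cases h : χ₁ = χ
        · exact ⟨χ₂, h₂, fun h' => h12 (h.trans h'.symm)⟩
        · exact ⟨χ₁, h₁, h⟩
      have horth : Cfsg.classInner χ ξ = 0 := by
        rw [irr_classInner (hSirr χ hχS) (hSirr ξ hξS), if_neg (Ne.symm hξχ)]
      have hξ1 : Cfsg.classInner ξ (fun _ => (1 : ℂ)) = 0 := by
        rw [irr_classInner (hSirr ξ hξS) principal_isIrrCharacter, if_neg]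
        intro h
        obtain ⟨k, hkK, hk⟩ := hSrel ξ hξS
        apply hk; rw [h]
      unfold Cfsg.classInner at horth hξ1
      have hsum1 : ∑ x : ↥(Subgroup.normalizer (K : Set G)), χ x * conj (ξ x) = 0 := by
        rcases mul_eq_zero.mp horth with h | h
        · exact absurd (inv_eq_zero.mp h) hNne
        · exact h
      have hsum2 : ∑ x : ↥(Subgroup.normalizer (K : Set G)), ξ x = 0 := by
        rcases mul_eq_zero.mp hξ1 with h | h
        · exact absurd (inv_eq_zero.mp h) hNne
        · simpa using h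
      have hterm : ∀ x : ↥(Subgroup.normalizer (K : Set G)), χ x * conj (ξ x) =
          χ k₀ * conj (ξ x) + (if x = 1 then (χ 1 - χ k₀) * conj (ξ 1) else 0) := by
        intro x
        by_cases hx1 : x = 1
        · rw [if_pos hx1, hx1]; ring
        · rw [if_neg hx1, add_zero]
          by_cases hxK : (x : G) ∈ K
          · rw [hcon x k₀ hxK hk₀K hx1 hk₀1]
          · rw [tifn_relevant_vanish K hC ξ (hSirr ξ hξS) (hSrel ξ hξS) x hxK, map_zero, mul_zero,
              mul_zero]
      rw [Finset.sum_congr rfl (fun x _ => hterm x), Finset.sum_add_distrib, ← Finset.mul_sum,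
        ← map_sum, hsum2, map_zero, mul_zero, zero_add, Finset.sum_ite_eq' Finset.univ 1,
        if_pos (Finset.mem_univ _)] at hsum1
      rcases mul_eq_zero.mp hsum1 with h | h
      · exact hk₀ (sub_eq_zero.mp h).symm
      · have : ξ 1 = 0 := by
          have := congrArg conj h
          simpa using this
        exact irr_one_ne_zero ⟨ξ, hSirr ξ hξS⟩ this
    obtain ⟨a, b, haK, hbK, ha1, hb1, hab⟩ := hnc
    obtain ⟨t, -, hconst⟩ := tifn_core K S hS hne
      ((fun x : ↥(Subgroup.normalizer (K : Set G)) => star χ x) - χ)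
      (by
        intro g h
        have h1 := genchar_isClassFunction (hstar.2.2.2 χ (hSsub χ hχS)) (g : G) (h : G)
        have h2 := isClassFunction_of_isCharacter (irr_isCharacter (hSirr χ hχS)) g h
        simp only [Pi.sub_apply]
        rw [h2]
        congr 1)
      (tifn_star_orth K S star hstar hext χ (hSsub χ hχS))
    have e1 := hconst a haK ha1
    have e2 := hconst b hbK hb1
    rw [← e2] at e1
    simp only [Pi.sub_apply] at e1
    have hne' : star χ (a : G) ≠ star χ (b : G) := by
      intro h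
      apply hab
      rw [h] at e1
      exact (sub_right_inj.mp e1)
    refine ⟨a, haK, b, hbK, fun h => ha1 (Subtype.ext h), fun h => hb1 (Subtype.ext h), ?_⟩
    rcases hψχ with h | h
    · rw [h]; exact hne'
    · rw [h, Pi.neg_apply, Pi.neg_apply]
      intro h'
      exact hne' (neg_injective h')
  · rintro ⟨a, haK, b, hbK, ha1, hb1, hab⟩
    by_contra hcon
    push_neg at hcon
    have h0gen : ∀ ξ ∈ S, Cfsg.classInner (star ξ) ψ = 0 := by
      intro ξ hξ
      have hnorm : Cfsg.classInner (star ξ) (star ξ) = 1 := by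
        rw [hstar.2.2.1 ξ (hSsub ξ hξ) ξ (hSsub ξ hξ),
          irr_classInner (hSirr ξ hξ) (hSirr ξ hξ), if_pos rfl]
      obtain ⟨θ, hθ⟩ := norm_one_structure (hstar.2.2.2 ξ (hSsub ξ hξ)) hnorm
      rcases hθ with hθ | hθ
      · rw [hθ, irr_classInner θ.2 hψ, if_neg]
        intro h
        exact (hcon ξ hξ).1 (by rw [hθ, h])
      · rw [hθ, classInner_neg_left', irr_classInner θ.2 hψ, if_neg, neg_zero]
        intro h
        exact (hcon ξ hξ).2 (by rw [hθ, h, neg_neg])
    have h0 : ∀ α ∈ Cfsg.zspan S, Cfsg.classInner (star α) ψ = 0 := by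
      intro α hα
      unfold Cfsg.zspan at hα
      induction hα using Submodule.span_induction with
      | mem x hx => exact h0gen x hx
      | zero =>
        obtain ⟨ξ, hξ⟩ := hne
        have := hstar.2.1 ξ (hSsub ξ hξ) 0
        rw [zero_smul, zero_smul] at this
        rw [this]; exact classInner_zero_left' ψ
      | add x y hx hy ihx ihy =>
        rw [hstar.1 x hx y hy, classInner_add_left', ihx, ihy, add_zero]
      | smul n x hx ih =>
        rw [hstar.2.1 x hx n, classInner_zsmul_left, ih, mul_zero]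
    obtain ⟨t, -, hconst⟩ := tifn_core K S hS hne
      (fun x : ↥(Subgroup.normalizer (K : Set G)) => ψ x)
      (by intro g h; exact hψcf (g : G) (h : G))
      (tifn_orth_of_star_orth K S star hext ψ hψcf h0)
    have e1 := hconst ⟨a, hlt.le haK⟩ haK (fun h => ha1 (congrArg Subtype.val h))
    have e2 := hconst ⟨b, hlt.le hbK⟩ hbK (fun h => hb1 (congrArg Subtype.val h))
    rw [← e2] at e1
    exact hab e1

end Cfsg.Agent.S0852
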