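import Cfsg.Statements.S0853
import Cfsg.Agent.Lib.Helper8.Tifn3
import Cfsg.Agent.Lib.Helper8.Coherence
import Cfsg.Agent.Lib.Helper8.CharExceptional

set_option autoImplicit false
open Cfsg

namespace Cfsg.Agent.S0853

open Cfsg.Agent.Lib.Helper8
open scoped ComplexConjugate

/-- Let K be a subgroup of the finite group G that meets each conjugate by an element outside its normalizer N trivially, is properly contained in N, and contains the centralizer of each of its non-identity elements (a T.I. subgroup with Frobenius normalizer). Let S be the set of irreducible characters of N taking at some element of K a value different from their degree, suppose S has at least two members, and let star be a linear isometry on the integer span of S into the generalized characters of G that agrees with induction on the members vanishing at the identity (so S is coherent, with star as the extending isometry). Then there is a single integer m such that star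 χ k - χ k = m * χ 1 / e for every χ in S and every non-identity element k of K, where e is the index of K in N. -/
theorem result {G : Type*} [Group G] [Fintype G] (K : Subgroup G) (hTI : ∀ g : G, g ∉ Subgroup.normalizer (K : Set G) → ∀ k ∈ K, g * k * g⁻¹ ∈ K → k = 1) (hlt : K < Subgroup.normalizer (K : Set G)) (hC : ∀ k ∈ K, k ≠ 1 → Subgroup.centralizer ({k} : Set G) ≤ K) [Fintype ↥(Subgroup.normalizer (K : Set G))] (S : Set (↥(Subgroup.normalizer (K : Set G)) → ℂ)) (hS : S = {χ : ↥(Subgroup.normalizer (K : Set G)) → ℂ | Cfsg.IsIrrCharacter ↥(Subgroup.normalizer (K : Set G)) χ ∧ ∃ k : ↥(Subgroup.normalizer (K : Set G)), (k : G) ∈ K ∧ χ k ≠ χ 1}) (htwo : ∃ χ ∈ S, ∃ ξ ∈ S, χ ≠ ξ) (star : (↥(Subgroup.normalizer (K : Set G)) → ℂ) → (G → ℂ)) (hstar : Cfsg.IsLinearIsometryOn (Cfsg.zspan S) star) (hext : ∀ α ∈ Cfsg.zspanOn S ({1}ᶜ : Set ↥(Subgroup.normalizer (K : Set G))), star α = Cfsg.indFun (Subgroup.normalizer (K : Set G)) α) : ∃ m : ℤ, ∀ χ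 ∈ S, ∀ k : ↥(Subgroup.normalizer (K : Set G)), (k : G) ∈ K → k ≠ 1 → star χ k - χ k = (m : ℂ) * χ 1 / ((K.subgroupOf (Subgroup.normalizer (K : Set G))).index : ℂ) := by
  classical
  haveI : Finite (Cfsg.IrrCharacter ↥(Subgroup.normalizer (K : Set G))) := irr_finite
  haveI : Fintype (Cfsg.IrrCharacter ↥(Subgroup.normalizer (K : Set G))) := Fintype.ofFinite _
  have hne : S.Nonempty := by obtain ⟨χ, hχ, _⟩ := htwo; exact ⟨χ, hχ⟩
  have hSirr : ∀ ξ ∈ S, Cfsg.IsIrrCharacter ↥(Subgroup.normalizer (K : Set G)) ξ := by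
    intro ξ hξ; rw [hS] at hξ; exact hξ.1
  have hSrel : ∀ ξ ∈ S, ∃ k : ↥(Subgroup.normalizer (K : Set G)), (k : G) ∈ K ∧ ξ k ≠ ξ 1 := by
    intro ξ hξ; rw [hS] at hξ; exact hξ.2
  have hSsub : ∀ ξ ∈ S, ξ ∈ Cfsg.zspan S := fun ξ hξ => Submodule.subset_span hξ
  obtain ⟨f, u, hf, hfu⟩ := tifn_bezout K hC S hS hne
  have hE2 := tifn_nonrel_sq_sum_index K hC S hS
  have heC0 : ((K.subgroupOf (Subgroup.normalizer (K : Set G))).index : ℂ) ≠ 0 :=
    Nat.cast_ne_zero.mpr Subgroup.index_ne_zero_of_finite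
  obtain ⟨e, he⟩ : ∃ e : ℂ, e = ((K.subgroupOf (Subgroup.normalizer (K : Set G))).index : ℂ) :=
    ⟨_, rfl⟩
  rw [← he] at hf hE2 heC0 ⊢
  obtain ⟨χ₀, hχ₀⟩ := id hne
  obtain ⟨k₀, hk₀K, hk₀ne⟩ := hSrel χ₀ hχ₀
  have hk₀1 : k₀ ≠ 1 := fun h => hk₀ne (by rw [h])
  have hδcf : ∀ χ ∈ S, Cfsg.IsClassFunction ↥(Subgroup.normalizer (K : Set G)) ((fun x : ↥(Subgroup.normalizer (K : Set G)) => star χ x) - χ) := by
    intro χ hχS g h
    have h1 := genchar_isClassFunction (hstar.2.2.2 χ (hSsub χ hχS)) (g : G) (h : G)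
    have h2 := isClassFunction_of_isCharacter (irr_isCharacter (hSirr χ hχS)) g h
    simp only [Pi.sub_apply]
    rw [h2]
    congr 1
  have hδgen : ∀ χ ∈ S, Cfsg.IsGeneralizedCharacter ↥(Subgroup.normalizer (K : Set G)) ((fun x : ↥(Subgroup.normalizer (K : Set G)) => star χ x) - χ) := by
    intro χ hχS
    exact genchar_sub (genchar_restrict _ (hstar.2.2.2 χ (hSsub χ hχS)))
      (genchar_of_irr (hSirr χ hχS))
  -- P1 and P3: the difference is a constant integer on the nonidentity elements of `K`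
  have hP13 : ∀ χ ∈ S, ∃ z : ℤ, ∀ k : ↥(Subgroup.normalizer (K : Set G)), (k : G) ∈ K → k ≠ 1 →
      star χ k - χ k = (z : ℂ) := by
    intro χ hχS
    obtain ⟨t, htS, hconst⟩ := tifn_core K S hS hne _ (hδcf χ hχS)
      (tifn_star_orth K S star hstar hext χ (hSsub χ hχS))
    rw [hE2] at hconst
    have hint : ∀ θ : Cfsg.IrrCharacter ↥(Subgroup.normalizer (K : Set G)), ∃ n : ℤ,
        Cfsg.classInner ((fun x : ↥(Subgroup.normalizer (K : Set G)) => star χ x) - χ) θ.1 = (n : ℂ) :=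
      fun θ => classInner_genchar_int (hδgen χ hχS) (genchar_of_irr θ.2)
    choose n hn using hint
    have hte : t * e = ∑ θ ∈ Finset.univ.filter (fun θ : Cfsg.IrrCharacter ↥(Subgroup.normalizer (K : Set G)) => θ.1 ∈ S),
        (n θ : ℂ) * (u θ : ℂ) := by
      have h1 : ((∑ θ ∈ Finset.univ.filter (fun θ : Cfsg.IrrCharacter ↥(Subgroup.normalizer (K : Set G)) => θ.1 ∈ S),
          (f θ : ℤ) * u θ : ℤ) : ℂ) = 1 := by rw [hfu]; simp
      push_cast at h1
      calc t * e = t * e * 1 := by ring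
        _ = t * e * ∑ θ ∈ Finset.univ.filter (fun θ : Cfsg.IrrCharacter ↥(Subgroup.normalizer (K : Set G)) => θ.1 ∈ S),
            ((f θ : ℂ) * (u θ : ℂ)) := by rw [h1]
        _ = ∑ θ ∈ Finset.univ.filter (fun θ : Cfsg.IrrCharacter ↥(Subgroup.normalizer (K : Set G)) => θ.1 ∈ S),
            (n θ : ℂ) * (u θ : ℂ) := by
          rw [Finset.mul_sum]
          apply Finset.sum_congr rfl
          intro θ hθ
          have hθS : θ.1 ∈ S := (Finset.mem_filter.mp hθ).2
          rw [← hn θ, htS θ.1 hθS, hf θ hθS]; ring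
    refine ⟨-(∑ θ ∈ Finset.univ.filter (fun θ : Cfsg.IrrCharacter ↥(Subgroup.normalizer (K : Set G)) => θ.1 ∈ S), n θ * u θ)
      + ∑ θ ∈ Finset.univ.filter (fun θ : Cfsg.IrrCharacter ↥(Subgroup.normalizer (K : Set G)) => θ.1 ∉ S),
          n θ * (Cfsg.charDegree θ.1 : ℤ), ?_⟩
    intro k hkK hk1
    have hk := hconst k hkK hk1
    simp only [Pi.sub_apply] at hk
    rw [hk, neg_mul, hte]
    push_cast
    congr 1
    apply Finset.sum_congr rfl
    intro θ _
    rw [hn θ, irr_one_eq_charDegree θ]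
  choose! z hz using hP13
  -- P2: proportionality
  have hP2 : ∀ χ ∈ S, ∀ ξ ∈ S, ξ 1 * (z χ : ℂ) = χ 1 * (z ξ : ℂ) := by
    intro χ hχS ξ hξS
    have h1 : ξ 1 = ((Cfsg.charDegree ξ : ℤ) : ℂ) := by
      have := irr_one_eq_charDegree ⟨ξ, hSirr ξ hξS⟩
      simp only at this
      rw [this]; simp
    have h2 : χ 1 = ((Cfsg.charDegree χ : ℤ) : ℂ) := by
      have := irr_one_eq_charDegree ⟨χ, hSirr χ hχS⟩
      simp only at this
      rw [this]; simp
    obtain ⟨b, hb⟩ : ∃ b : ℤ, b = (Cfsg.charDegree ξ : ℤ) := ⟨_, rfl⟩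
    obtain ⟨a, ha⟩ : ∃ a : ℤ, a = (Cfsg.charDegree χ : ℤ) := ⟨_, rfl⟩
    rw [← hb] at h1
    rw [← ha] at h2
    have hbχ : b • χ ∈ Cfsg.zspan S := Submodule.smul_mem _ _ (Submodule.subset_span hχS)
    have haξ : (-a) • ξ ∈ Cfsg.zspan S := Submodule.smul_mem _ _ (Submodule.subset_span hξS)
    have hmem : (b • χ + (-a) • ξ) ∈ Cfsg.zspan S := Submodule.add_mem _ hbχ haξ
    have h0 : (b • χ + (-a) • ξ) 1 = 0 := by
      rw [Pi.add_apply, zsmul_fun_apply', zsmul_fun_apply', ← h1]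
      push_cast
      rw [← h2]; ring
    have hstarα : star (b • χ + (-a) • ξ) = b • star χ + (-a) • star ξ := by
      rw [hstar.1 _ hbχ _ haξ, hstar.2.1 χ (hSsub χ hχS) b, hstar.2.1 ξ (hSsub ξ hξS) (-a)]
    have hind := hext _ (zspanOn_of_one_eq_zero hmem h0)
    have hαcf : Cfsg.IsClassFunction ↥(Subgroup.normalizer (K : Set G)) (b • χ + (-a) • ξ) := by
      intro g h
      have e1 := isClassFunction_of_isCharacter (irr_isCharacter (hSirr χ hχS)) g h
      have e2 := isClassFunction_of_isCharacter (irr_isCharacter (hSirr ξ hξS)) g h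
      rw [Pi.add_apply, zsmul_fun_apply', zsmul_fun_apply', e1, e2, Pi.add_apply,
        zsmul_fun_apply', zsmul_fun_apply']
    have hαvan : ∀ x : ↥(Subgroup.normalizer (K : Set G)), (x : G) ∉ (K : Set G) → (b • χ + (-a) • ξ) x = 0 := by
      intro x hx
      rw [Pi.add_apply, zsmul_fun_apply', zsmul_fun_apply',
        tifn_relevant_vanish K hC χ (hSirr χ hχS) (hSrel χ hχS) x hx,
        tifn_relevant_vanish K hC ξ (hSirr ξ hξS) (hSrel ξ hξS) x hx, mul_zero, mul_zero, add_zero]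
    have hTI' := indFun_TI (K : Set G) hTI hαcf hαvan k₀ hk₀K hk₀1
    rw [← hind, hstarα] at hTI'
    rw [Pi.add_apply, zsmul_fun_apply', zsmul_fun_apply', Pi.add_apply, zsmul_fun_apply',
      zsmul_fun_apply'] at hTI'
    have e1 := hz χ hχS k₀ hk₀K hk₀1
    have e2 := hz ξ hξS k₀ hk₀K hk₀1
    rw [← e1, ← e2, h1, h2]
    push_cast at hTI' ⊢
    linear_combination hTI'
  refine ⟨∑ θ ∈ Finset.univ.filter (fun θ : Cfsg.IrrCharacter ↥(Subgroup.normalizer (K : Set G)) => θ.1 ∈ S),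
    u θ * z θ.1, ?_⟩
  intro χ hχS k hkK hk1
  rw [hz χ hχS k hkK hk1]
  obtain ⟨θχ, hθχ⟩ : ∃ θχ : Cfsg.IrrCharacter ↥(Subgroup.normalizer (K : Set G)), θχ = ⟨χ, hSirr χ hχS⟩ := ⟨_, rfl⟩
  have hθχ1 : θχ.1 = χ := by rw [hθχ]
  have hχ1 : χ 1 = e * (f θχ : ℂ) := by
    have := hf θχ (by rw [hθχ1]; exact hχS)
    rw [hθχ1] at this
    exact this
  have h1 : ((∑ θ ∈ Finset.univ.filter (fun θ : Cfsg.IrrCharacter ↥(Subgroup.normalizer (K : Set G)) => θ.1 ∈ S),
      (f θ : ℤ) * u θ : ℤ) : ℂ) = 1 := by rw [hfu]; simp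
  push_cast at h1 ⊢
  rw [hχ1]
  have hmain : (∑ θ ∈ Finset.univ.filter (fun θ : Cfsg.IrrCharacter ↥(Subgroup.normalizer (K : Set G)) => θ.1 ∈ S),
      (u θ : ℂ) * (z θ.1 : ℂ)) * (f θχ : ℂ) = (z χ : ℂ) := by
    calc (∑ θ ∈ Finset.univ.filter (fun θ : Cfsg.IrrCharacter ↥(Subgroup.normalizer (K : Set G)) => θ.1 ∈ S),
          (u θ : ℂ) * (z θ.1 : ℂ)) * (f θχ : ℂ)
        = ∑ θ ∈ Finset.univ.filter (fun θ : Cfsg.IrrCharacter ↥(Subgroup.normalizer (K : Set G)) => θ.1 ∈ S),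
          ((f θ : ℂ) * (u θ : ℂ)) * (z χ : ℂ) := by
          rw [Finset.sum_mul]
          apply Finset.sum_congr rfl
          intro θ hθ
          have hθS : θ.1 ∈ S := (Finset.mem_filter.mp hθ).2
          have hp := hP2 θ.1 hθS χ hχS
          rw [hχ1, hf θ hθS] at hp
          have hp' : (f θχ : ℂ) * (z θ.1 : ℂ) = (f θ : ℂ) * (z χ : ℂ) := by
            apply mul_left_cancel₀ heC0
            linear_combination hp
          linear_combination (u θ : ℂ) * hp'
      _ = (z χ : ℂ) := by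
          rw [← Finset.sum_mul, h1, one_mul]
  rw [← hmain]
  field_simp

end Cfsg.Agent.S0853
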