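import Cfsg.Statements.S4455
import Cfsg.Agent.Lib.Helper8.CharPRes
import Cfsg.Agent.Lib.Helper8.CharLinExt
import Cfsg.Agent.Lib.Helper8.CharDet
import Cfsg.Agent.Lib.Helper8.CharBurnside
import Cfsg.Agent.S0862
import Cfsg.Agent.S0863

set_option autoImplicit false
open Cfsg

namespace Cfsg.Agent.S4455

open Cfsg.Agent.Lib.Helper8
theorem charDegree_restrict {G : Type*} [Group G] (N : Subgroup G) (χ : G → ℂ) :
    charDegree (fun n : N => χ n) = charDegree χ := by
  unfold charDegree
  show ⌊(χ ((1 : N) : G)).re⌋₊ = _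
  rw [OneMemClass.coe_one]

theorem charDegree_conjChar {G : Type*} [Group G] {N : Subgroup G} (hN : N.Normal) (θ : N → ℂ)
    (g : G) : charDegree (conjChar hN θ g) = charDegree θ := by
  unfold charDegree
  rw [conjChar_apply]
  have : (⟨g * ((1 : N) : G) * g⁻¹, hN.conj_mem _ (1 : N).2 g⟩ : N) = 1 := by
    apply Subtype.ext; simp
  rw [this]

theorem irr_stab_dvd {E : Type*} [Group E] (p : ℕ) (hp : p.Prime) (D : Subgroup E)
    (hD : D.Normal) {k : ℕ} (hk : D.index = p ^ k) (φ : IrrCharacter D) :
    letI := irrConjAction hD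
    (∃ a : E, a • φ ≠ φ) → p ∣ (MulAction.stabilizer E φ).index := by
  letI := irrConjAction hD
  intro hφ
  have hle : D ≤ MulAction.stabilizer E φ := by
    intro d hd
    rw [MulAction.mem_stabilizer_iff]
    apply Subtype.ext
    rw [irrConjAction_smul]
    have hcf : IsClassFunction D φ.1 := isClassFunction_of_isCharacter (irr_isCharacter φ.2)
    ext h
    rw [conjChar_apply]
    have := hcf h ⟨d⁻¹, D.inv_mem hd⟩
    rw [← this]
    congr 1
  have hdvd : (MulAction.stabilizer E φ).index ∣ p ^ k := by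
    rw [← hk]; exact Subgroup.index_dvd_of_le hle
  obtain ⟨j, _, hj⟩ := (Nat.dvd_prime_pow hp).mp hdvd
  rcases Nat.eq_zero_or_pos j with h0 | hpos
  · exfalso
    rw [h0, pow_zero, Subgroup.index_eq_one] at hj
    obtain ⟨a, ha⟩ := hφ
    apply ha
    have : a ∈ MulAction.stabilizer E φ := by rw [hj]; trivial
    exact MulAction.mem_stabilizer_iff.mp this
  · rw [hj]; exact dvd_pow_self p hpos.ne'

/-- Fix a prime p and a finite group G. Let s be the sum of χ(1)² over the irreducible characters χ of G whose degree is not divisible by p and whose determinantal order o(χ) is not divisible by p. Then the order of O^p(G), the subgroup generated by the elements of order prime to p, is congruent to s modulo p. -/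
theorem result {G : Type*} [Group G] [Finite G] (p : ℕ) (hp : p.Prime) : (Nat.card (Cfsg.pResidual p G) : ℤ) ≡ (∑ᶠ χ ∈ {χ : Cfsg.IrrCharacter G | ¬ p ∣ Cfsg.charDegree (χ : G → ℂ) ∧ ¬ p ∣ Cfsg.detOrder (χ : G → ℂ)}, (Cfsg.charDegree (χ : G → ℂ) : ℤ) ^ 2) [ZMOD p] := by
  classical
  have : Fintype G := Fintype.ofFinite G
  haveI hH : (pResidual p G).Normal := pResidual_normal p G
  obtain ⟨k, hk⟩ := pResidual_index p hp G
  haveI : Fact p.Prime := ⟨hp⟩
  have := irr_finite (G := ↥(pResidual p G))
  have : Fintype (IrrCharacter ↥(pResidual p G)) := Fintype.ofFinite _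
  have := irr_finite (G := G)
  have : Fintype (IrrCharacter G) := Fintype.ofFinite _
  have hA : Nat.card ↥(pResidual p G) = ∑ ψ : IrrCharacter ↥(pResidual p G), charDegree ψ.1 ^ 2 :=
    card_eq_sum_charDegree_sq
  letI := irrConjAction hH
  have hB := orbit_sum_dvd (A := G) p
    (fun ψ : IrrCharacter ↥(pResidual p G) => ((charDegree ψ.1 : ℤ)) ^ 2)
    (by
      intro a ψ
      show ((charDegree (a • ψ).1 : ℤ)) ^ 2 = _
      rw [irrConjAction_smul, charDegree_conjChar])
    (fun φ => irr_stab_dvd p hp _ hH hk φ)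
  have hcopidx : ∀ d : ℕ, ¬ p ∣ d → Nat.Coprime (pResidual p G).index d := by
    intro d hd
    rw [hk]
    exact Nat.Coprime.pow_left k ((Nat.Prime.coprime_iff_not_dvd hp).mpr hd)
  have hsolv : Group.IsSolvable (G ⧸ pResidual p G) := by
    have hpg : IsPGroup p (G ⧸ pResidual p G) :=
      IsPGroup.of_card (n := k) (by rw [← Subgroup.index_eq_card, hk])
    haveI := hpg.isNilpotent
    infer_instance
  -- the two sets
  set A : Set (IrrCharacter G) :=
    {χ : IrrCharacter G | ¬ p ∣ charDegree (χ : G → ℂ) ∧ ¬ p ∣ detOrder (χ : G → ℂ)} with hAdef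
  set B : Set (IrrCharacter ↥(pResidual p G)) :=
    {ψ | (∀ g : G, conjChar hH ψ.1 g = ψ.1) ∧ ¬ p ∣ charDegree ψ.1} with hBdef
  let res : IrrCharacter G → IrrCharacter ↥(pResidual p G) := fun χ =>
    if h : IsIrrCharacter ↥(pResidual p G) (fun n : ↥(pResidual p G) => χ.1 n) then
      ⟨fun n : ↥(pResidual p G) => χ.1 n, h⟩
    else ⟨fun _ => 1, principal_isIrrCharacter⟩
  have hres_eq : ∀ χ ∈ A, (res χ).1 = fun n : ↥(pResidual p G) => χ.1 n := by
    intro χ hχ
    have h := restrict_irr_of_pIndex p hp (pResidual p G) hk χ hχ.1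
    simp only [res, dif_pos h]
  have hbij : Set.BijOn res A B := by
    refine ⟨?_, ?_, ?_⟩
    · intro χ hχ
      refine ⟨?_, ?_⟩
      · intro g
        rw [hres_eq χ hχ]
        exact conjChar_restrict hH (isClassFunction_of_isCharacter (irr_isCharacter χ.2)) g
      · rw [hres_eq χ hχ, charDegree_restrict]
        exact hχ.1
    · intro χ hχ χ' hχ' heq
      have h1 : (fun n : ↥(pResidual p G) => χ.1 n) = fun n : ↥(pResidual p G) => χ'.1 n := by
        rw [← hres_eq χ hχ, ← hres_eq χ' hχ', heq]
      have hψ : IsIrrCharacter ↥(pResidual p G) (fun n : ↥(pResidual p G) => χ.1 n) :=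
        restrict_irr_of_pIndex p hp (pResidual p G) hk χ hχ.1
      obtain ⟨δ, hδ⟩ := exists_detHom (irr_isCharacter χ.2)
      obtain ⟨δ', hδ'⟩ := exists_detHom (irr_isCharacter χ'.2)
      have hdetres : ∀ (ξ : IrrCharacter G) (n : ↥(pResidual p G)),
          detChar ξ.1 n = detChar (fun n : ↥(pResidual p G) => ξ.1 n) n := by
        intro ξ n
        have := detChar_comp (pResidual p G).subtype (irr_isCharacter ξ.2)
        exact (congrFun this n).symm
      have hδδ' : δ = δ' := by
        apply extension_unique_coprime (pResidual p G) δ δ'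
        · intro n
          apply Units.ext
          have e1 : linFun δ (n : G) = linFun δ' (n : G) := by
            rw [← hδ, ← hδ', hdetres χ n, hdetres χ' n, h1]
          exact e1
        · apply hcopidx
          have : orderOf δ = detOrder χ.1 := by
            unfold detOrder; rw [hδ, orderOf_linFun]
          rw [this]; exact hχ.2
        · apply hcopidx
          have : orderOf δ' = detOrder χ'.1 := by
            unfold detOrder; rw [hδ', orderOf_linFun]
          rw [this]; exact hχ'.2
      have huniq := Cfsg.Agent.S0862.result (pResidual p G)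
        (fun n : ↥(pResidual p G) => χ.1 n) hψ (charDegree χ.1)
        (by
          show χ.1 ((1 : ↥(pResidual p G)) : G) = _
          rw [OneMemClass.coe_one, irr_one_eq_charDegree])
        (hcopidx _ hχ.1) ⟨χ.1, χ.2, fun n => rfl⟩ (detChar χ.1)
        ⟨by rw [hδ]; exact linFun_isCharacter δ, by rw [hδ]; exact linFun_one_eq δ⟩
        (fun n => hdetres χ n)
      apply Subtype.ext
      apply huniq.unique
      · exact ⟨χ.2, fun n => rfl, rfl⟩
      · refine ⟨χ'.2, fun n => (congrFun h1 n).symm, ?_⟩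
        rw [hδ, hδ', hδδ']
    · intro ψ hψ
      obtain ⟨hψinv, hψdeg⟩ := hψ
      obtain ⟨δH, hδH⟩ := exists_detHom (irr_isCharacter ψ.2)
      have hinvhom : IsInvHom (pResidual p G) δH := by
        intro g n
        apply Units.ext
        have h1 := hψinv g
        rw [conjChar_eq_comp] at h1
        have h2 := detChar_comp (@MulAut.conjNormal G _ (pResidual p G) hH g).toMonoidHom
          (irr_isCharacter ψ.2)
        have h3 : detChar (ψ.1 ∘ (@MulAut.conjNormal G _ (pResidual p G) hH g)) = detChar ψ.1 := by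
          rw [h1]
        have h4 := congrFun h2 n
        rw [MulEquiv.coe_toMonoidHom, h3, hδH] at h4
        exact h4.symm
      have hcopδ : Nat.Coprime (orderOf δH) p :=
        orderOf_hom_coprime_of_generated p hp (pResidual_generated p G) δH
      have hcopδ' : ¬ p ∣ orderOf δH := by
        intro h
        have := Nat.Coprime.eq_one_of_dvd hcopδ.symm h
        exact hp.ne_one this
      obtain ⟨μ, hμres, hμord⟩ := exists_extension_coprime (pResidual p G) δH hinvhom
        (hcopidx _ hcopδ')
      have hd : ψ.1 1 = (charDegree ψ.1 : ℂ) := irr_one_eq_charDegree ψ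
      have hμN : ∀ n : ↥(pResidual p G), linFun μ n = detChar ψ.1 n := by
        intro n
        rw [hδH]
        show ((μ n : ℂˣ) : ℂ) = ((δH n : ℂˣ) : ℂ)
        rw [hμres n]
      obtain ⟨χ₀, hχ₀, hχ₀res⟩ := (Cfsg.Agent.S0863.result (pResidual p G) hsolv ψ.1 ψ.2
        (by
          intro g n
          have := congrFun (hψinv g) n
          rw [conjChar_apply] at this
          exact this) (charDegree ψ.1) hd (hcopidx _ hψdeg)).mpr
        ⟨linFun μ, linFun_isCharacter μ, linFun_one_eq μ, hμN⟩
      obtain ⟨χ, ⟨hχirr, hχres, hχdet⟩, -⟩ := Cfsg.Agent.S0862.result (pResidual p G) ψ.1 ψ.2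
        (charDegree ψ.1) hd (hcopidx _ hψdeg) ⟨χ₀, hχ₀, hχ₀res⟩ (linFun μ)
        ⟨linFun_isCharacter μ, linFun_one_eq μ⟩ hμN
      have hχH : (fun n : ↥(pResidual p G) => χ n) = ψ.1 := funext hχres
      have hχA : (⟨χ, hχirr⟩ : IrrCharacter G) ∈ A := by
        refine ⟨?_, ?_⟩
        · show ¬ p ∣ charDegree χ
          rw [← charDegree_restrict (pResidual p G) χ, hχH]
          exact hψdeg
        · show ¬ p ∣ detOrder χ
          unfold detOrder
          rw [hχdet, orderOf_linFun, hμord]
          exact hcopδ'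
      refine ⟨⟨χ, hχirr⟩, hχA, ?_⟩
      apply Subtype.ext
      rw [hres_eq _ hχA]
      exact hχH
  -- sum over A equals sum over B
  have hsumAB : (∑ᶠ χ ∈ A, (charDegree (χ : G → ℂ) : ℤ) ^ 2) =
      ∑ᶠ ψ ∈ B, (charDegree ψ.1 : ℤ) ^ 2 := by
    apply finsum_mem_eq_of_bijOn res hbij
    intro χ hχ
    rw [hres_eq χ hχ, charDegree_restrict]
  rw [hsumAB]
  have hBfin : B = ↑(Finset.univ.filter (fun ψ : IrrCharacter ↥(pResidual p G) => ψ ∈ B)) := by
    ext ψ; simp
  rw [hBfin, finsum_mem_coe_finset]
  -- the congruence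
  rw [Int.modEq_iff_dvd]
  have hAZ : (Nat.card ↥(pResidual p G) : ℤ) =
      ∑ ψ : IrrCharacter ↥(pResidual p G), (charDegree ψ.1 : ℤ) ^ 2 := by
    rw [hA]; push_cast; rfl
  rw [hAZ, ← Finset.sum_filter_add_sum_filter_not Finset.univ
    (fun ψ : IrrCharacter ↥(pResidual p G) => ψ ∈ B), sub_add_cancel_left, dvd_neg]
  rw [← Finset.sum_filter_add_sum_filter_not
    (Finset.univ.filter (fun ψ : IrrCharacter ↥(pResidual p G) => ψ ∉ B))
    (fun ψ : IrrCharacter ↥(pResidual p G) => ∃ a : G, a • ψ ≠ ψ)]
  apply dvd_add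
  · have hfe : (Finset.univ.filter (fun ψ : IrrCharacter ↥(pResidual p G) => ψ ∉ B)).filter
        (fun ψ : IrrCharacter ↥(pResidual p G) => ∃ a : G, a • ψ ≠ ψ) =
        Finset.univ.filter (fun ψ : IrrCharacter ↥(pResidual p G) => ∃ a : G, a • ψ ≠ ψ) := by
      ext ψ
      simp only [Finset.mem_filter, Finset.mem_univ, true_and]
      constructor
      · exact fun h => h.2
      · intro h
        refine ⟨?_, h⟩
        intro hψB
        obtain ⟨a, ha⟩ := h
        apply ha
        apply Subtype.ext
        rw [irrConjAction_smul]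
        exact hψB.1 a⁻¹
    rw [hfe]
    exact hB
  · apply Finset.dvd_sum
    intro ψ hψ
    simp only [Finset.mem_filter, Finset.mem_univ, true_and] at hψ
    obtain ⟨hψB, hfix⟩ := hψ
    push Not at hfix
    have hpd : p ∣ charDegree ψ.1 := by
      by_contra hnd
      apply hψB
      refine ⟨?_, hnd⟩
      intro g
      have := hfix g⁻¹
      have h2 := congrArg Subtype.val this
      rw [irrConjAction_smul, inv_inv] at h2
      exact h2
    apply Dvd.dvd.pow _ two_ne_zero
    exact_mod_cast hpd

end Cfsg.Agent.S4455
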