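import Cfsg.Statements.S4456
import Cfsg.Agent.Lib.Helper8.DadeElem
import Cfsg.Agent.Lib.Helper8.CharPRes
import Cfsg.Agent.Lib.Helper8.CharLinHom
import Cfsg.Agent.Lib.Helper8.CharDet
import Cfsg.Agent.Lib.Helper8.CharDegree
import Cfsg.Agent.S0867
import Cfsg.Agent.S4455

set_option autoImplicit false
open Cfsg

namespace Cfsg.Agent.S4456

open Cfsg.Agent.Lib.Helper8
/-- The group of homs `N →* ℂˣ` invariant under `G`-conjugation. -/
def invHoms {G : Type*} [Group G] (N : Subgroup G) (hN : N.Normal) : Subgroup (N →* ℂˣ) where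
  carrier := {δ | ∀ (g : G) (n : N), δ ⟨g * n * g⁻¹, hN.conj_mem (n : G) n.2 g⟩ = δ n}
  mul_mem' := by
    intro a b ha hb g n
    rw [MonoidHom.mul_apply, MonoidHom.mul_apply, ha g n, hb g n]
  one_mem' := by
    intro g n
    simp
  inv_mem' := by
    intro a ha g n
    rw [MonoidHom.inv_apply, MonoidHom.inv_apply, ha g n]

theorem thompson_pcomplement {G : Type*} [Group G] [Fintype G] (p : ℕ) (hp : p.Prime)
    (hdeg : ∀ χ : Cfsg.IrrCharacter G, Cfsg.charDegree (χ : G → ℂ) ≠ 1 →
      p ∣ Cfsg.charDegree (χ : G → ℂ)) :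
    Nat.Coprime (Nat.card (Cfsg.pResidual p G)) p := by
  classical
  set N := Cfsg.pResidual p G with hNdef
  have hN : N.Normal := pResidual_normal p G
  obtain ⟨k, hk⟩ := pResidual_index p hp G
  have hgen := pResidual_generated p G
  have := irr_finite (G := N)
  haveI : Fintype (Cfsg.IrrCharacter N) := Fintype.ofFinite _
  letI act := irrConjAction hN
  have hhom : ∀ δ : N →* ℂˣ, Nat.Coprime (orderOf δ) p :=
    fun δ => orderOf_hom_coprime_of_generated p hp hgen δ
  -- fixedness in explicit form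
  have hfix_iff : ∀ ψ : Cfsg.IrrCharacter N, (∀ g : G, g • ψ = ψ) ↔
      ∀ (g : G) (n : N), ψ.1 ⟨g * n * g⁻¹, hN.conj_mem (n : G) n.2 g⟩ = ψ.1 n := by
    intro ψ
    constructor
    · intro hfix g n
      have h1 := congrArg Subtype.val (hfix g⁻¹)
      rw [irrConjAction_smul, inv_inv] at h1
      have h2 := congrFun h1 n
      rw [conjChar_apply] at h2
      exact h2
    · intro h g
      apply Subtype.ext
      rw [irrConjAction_smul]
      funext n
      rw [conjChar_apply]
      exact h g⁻¹ n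
  -- Claim A
  have claimA : ∀ ψ : Cfsg.IrrCharacter N, (∀ g : G, g • ψ = ψ) →
      ¬ p ∣ Cfsg.charDegree ψ.1 → Cfsg.charDegree ψ.1 = 1 := by
    intro ψ hfix hnd
    have hinv := (hfix_iff ψ).mp hfix
    obtain ⟨ℓ, hℓ⟩ := exists_detHom (irr_isCharacter ψ.2)
    have hdo : Nat.Coprime (Cfsg.detOrder ψ.1) p := by
      unfold Cfsg.detOrder
      rw [hℓ, orderOf_linFun]
      exact hhom ℓ
    have hcop : Nat.Coprime N.index (Cfsg.detOrder ψ.1 * Cfsg.charDegree ψ.1) := by
      rw [hk]
      apply Nat.Coprime.pow_left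
      exact Nat.Coprime.mul_right hdo.symm ((Nat.Prime.coprime_iff_not_dvd hp).mpr hnd)
    obtain ⟨χ, ⟨hχirr, hχN, _⟩, _⟩ := Cfsg.Agent.S0867.result N ψ.1 ψ.2 hinv
      (Cfsg.charDegree ψ.1) (irr_one_eq_charDegree ψ) hcop
    have hdeg' : Cfsg.charDegree χ = Cfsg.charDegree ψ.1 := by
      rw [← Cfsg.Agent.S4455.charDegree_restrict N χ]
      congr 1
      funext n
      exact hχN n
    by_contra h1
    have h2 := hdeg ⟨χ, hχirr⟩ (by rw [hdeg']; exact h1)
    rw [hdeg'] at h2
    exact hnd h2
  -- counting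
  have hsum : (Nat.card N : ℤ) = ∑ ψ : Cfsg.IrrCharacter N, ((Cfsg.charDegree ψ.1 : ℤ)) ^ 2 := by
    have := card_eq_sum_charDegree_sq (G := N)
    exact_mod_cast this
  let f : Cfsg.IrrCharacter N → ℤ := fun ψ => (Cfsg.charDegree ψ.1 : ℤ) ^ 2
  have hfinv : ∀ (a : G) (x : Cfsg.IrrCharacter N), f (a • x) = f x := by
    intro a x
    simp only [f]
    rw [irrConjAction_smul, Cfsg.Agent.S4455.charDegree_conjChar]
  have hstab : ∀ x : Cfsg.IrrCharacter N, (∃ a : G, a • x ≠ x) →
      p ∣ (MulAction.stabilizer G x).index := by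
    rintro x ⟨a, ha⟩
    have hNle : N ≤ MulAction.stabilizer G x := by
      intro n hn
      rw [MulAction.mem_stabilizer_iff]
      apply Subtype.ext
      rw [irrConjAction_smul]
      funext h
      rw [conjChar_apply]
      have := isClassFunction_of_isCharacter (irr_isCharacter x.2) h ⟨n⁻¹, N.inv_mem hn⟩
      rw [← this]
      congr 1
    have hdvd : (MulAction.stabilizer G x).index ∣ p ^ k := by
      rw [← hk]; exact Subgroup.index_dvd_of_le hNle
    obtain ⟨j, hj, hjeq⟩ := (Nat.dvd_prime_pow hp).mp hdvd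
    rcases Nat.eq_zero_or_pos j with h0 | h0
    · exfalso
      rw [h0, pow_zero] at hjeq
      have htop := Subgroup.index_eq_one.mp hjeq
      have : a ∈ MulAction.stabilizer G x := by rw [htop]; exact Subgroup.mem_top a
      exact ha (MulAction.mem_stabilizer_iff.mp this)
    · rw [hjeq]
      exact dvd_pow_self p h0.ne'
  have h1 := orbit_sum_dvd (A := G) (X := Cfsg.IrrCharacter N) p f hfinv hstab
  have hsplit := (Finset.sum_filter_add_sum_filter_not Finset.univ
    (fun x : Cfsg.IrrCharacter N => ∃ a : G, a • x ≠ x) f).symm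
  -- the fixed part
  let Lset := Finset.univ.filter (fun x : Cfsg.IrrCharacter N =>
    (¬ ∃ a : G, a • x ≠ x) ∧ Cfsg.charDegree x.1 = 1)
  have hfixed : ∃ T : ℤ, ∑ x ∈ Finset.univ.filter
      (fun x : Cfsg.IrrCharacter N => ¬ ∃ a : G, a • x ≠ x), f x = (Lset.card : ℤ) + p * T := by
    have hterm : ∀ x ∈ Finset.univ.filter
        (fun x : Cfsg.IrrCharacter N => ¬ ∃ a : G, a • x ≠ x),
        ∃ t : ℤ, f x = (if Cfsg.charDegree x.1 = 1 then 1 else 0) + p * t := by
      intro x hx
      have hxfix : ∀ g : G, g • x = x := by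
        have := (Finset.mem_filter.mp hx).2
        push Not at this
        exact this
      by_cases h1 : Cfsg.charDegree x.1 = 1
      · refine ⟨0, ?_⟩
        simp [f, h1]
      · have hpd : p ∣ Cfsg.charDegree x.1 := by
          by_contra hnd
          exact h1 (claimA x hxfix hnd)
        obtain ⟨t, ht⟩ := hpd
        refine ⟨t * Cfsg.charDegree x.1, ?_⟩
        simp only [f, if_neg h1]
        rw [ht]; push_cast; ring
    choose! t ht using hterm
    refine ⟨∑ x ∈ Finset.univ.filter
      (fun x : Cfsg.IrrCharacter N => ¬ ∃ a : G, a • x ≠ x), t x, ?_⟩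
    rw [Finset.sum_congr rfl ht, Finset.sum_add_distrib, ← Finset.mul_sum]
    congr 1
    rw [Finset.sum_ite, Finset.sum_const_zero, add_zero, Finset.sum_const, nsmul_eq_mul, mul_one,
      Finset.filter_filter]
  obtain ⟨T, hT⟩ := hfixed
  -- the group Λ
  let Λ := invHoms N hN
  have hfinhom : Finite (N →* ℂˣ) :=
    Finite.of_injective (fun δ : N →* ℂˣ => (⟨linFun δ, linFun_isIrr δ⟩ : Cfsg.IrrCharacter N))
      (fun a b hab => linFun_injective (congrArg Subtype.val hab))
  have hΛcop : Nat.Coprime (Nat.card Λ) p := by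
    rw [Nat.coprime_comm, Nat.Prime.coprime_iff_not_dvd hp]
    intro hdvd
    haveI := Fact.mk hp
    obtain ⟨δ, hδ⟩ := exists_prime_orderOf_dvd_card' p hdvd
    have h2 := hhom (δ : N →* ℂˣ)
    rw [Subgroup.orderOf_coe, hδ] at h2
    exact hp.one_lt.ne' (Nat.coprime_self p |>.mp h2)
  have hLcard : Lset.card = Nat.card Λ := by
    have hbij : Function.Bijective (fun δ : Λ => (⟨⟨linFun (δ : N →* ℂˣ), linFun_isIrr _⟩, by
        rw [Finset.mem_filter]
        refine ⟨Finset.mem_univ _, ?_, ?_⟩
        · push Not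
          rw [hfix_iff]
          intro g n
          show linFun (δ : N →* ℂˣ) _ = linFun (δ : N →* ℂˣ) n
          rw [linFun_apply, linFun_apply, δ.2 g n]
        · show Cfsg.charDegree (linFun (δ : N →* ℂˣ)) = 1
          unfold Cfsg.charDegree
          rw [linFun_one_eq]
          simp⟩ : {x // x ∈ Lset})) := by
      constructor
      · intro a b hab
        have h3 := congrArg (fun z : {x // x ∈ Lset} => (z.1.1 : N → ℂ)) hab
        exact Subtype.ext (linFun_injective h3)
      · rintro ⟨ψ, hψ⟩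
        obtain ⟨-, hfixψ, hdegψ⟩ := Finset.mem_filter.mp hψ
        push Not at hfixψ
        have hψ1 : ψ.1 1 = 1 := by rw [irr_one_eq_charDegree, hdegψ, Nat.cast_one]
        obtain ⟨δ, hδ⟩ := exists_linFun (irr_isCharacter ψ.2) hψ1
        have hδmem : δ ∈ Λ := by
          intro g n
          have := (hfix_iff ψ).mp hfixψ g n
          rw [hδ, linFun_apply, linFun_apply] at this
          exact Units.ext this
        refine ⟨⟨δ, hδmem⟩, ?_⟩
        apply Subtype.ext
        apply Subtype.ext
        exact hδ.symm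
    have := Nat.card_congr (Equiv.ofBijective _ hbij)
    rw [this, Nat.card_eq_fintype_card, Fintype.card_coe]
  -- conclude
  rw [Nat.coprime_comm, Nat.Prime.coprime_iff_not_dvd hp]
  intro hpN
  have hpN' : (p : ℤ) ∣ (Nat.card N : ℤ) := by exact_mod_cast hpN
  rw [hsum, hsplit, hT] at hpN'
  have h5 : (p : ℤ) ∣ (Lset.card : ℤ) := by
    have h6 := (Int.dvd_add_right h1).mp hpN'
    exact (Int.dvd_add_left (Dvd.intro _ rfl)).mp h6
  have h7 : p ∣ Lset.card := by exact_mod_cast h5
  rw [hLcard] at h7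
  have := Nat.dvd_gcd h7 (dvd_refl p)
  rw [hΛcop] at this
  exact hp.one_lt.ne' (Nat.dvd_one.mp this)

/-- Let p be a prime and G a finite group such that p divides the degree of every irreducible character of G of degree greater than one. Then G has a normal p-complement: a normal subgroup of order prime to p whose index is a power of p. -/
theorem result {G : Type*} [Group G] [Finite G] (p : ℕ) (hp : p.Prime) (hdeg : ∀ χ : Cfsg.IrrCharacter G, Cfsg.charDegree (χ : G → ℂ) ≠ 1 → p ∣ Cfsg.charDegree (χ : G → ℂ)) : ∃ N : Subgroup G, N.Normal ∧ (Nat.card N).Coprime p ∧ ∃ k : ℕ, N.index = p ^ k := by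
  classical
  have := Fintype.ofFinite G
  obtain ⟨k, hk⟩ := pResidual_index p hp G
  exact ⟨Cfsg.pResidual p G, pResidual_normal p G, thompson_pcomplement p hp hdeg, k, hk⟩

end Cfsg.Agent.S4456
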