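import Cfsg.Statements.S0855
import Cfsg.Agent.Lib.Helper8.CharItoSolv
import Cfsg.Agent.Lib.Helper8.CharIto
import Cfsg.Agent.S4456

set_option autoImplicit false
open Cfsg

namespace Cfsg.Agent.S0855

open Cfsg.Agent.Lib.Helper8

/-- For a finite group G and a prime p: every irreducible character of G has degree a power of p if and only if G has an abelian normal subgroup whose order is prime to p and whose index is a power of p. -/
theorem result {G : Type*} [Group G] [Finite G] (p : ℕ) (hp : p.Prime) : (∀ χ : Cfsg.IrrCharacter G, ∃ k : ℕ, (χ : G → ℂ) 1 = (p : ℂ) ^ k) ↔ ∃ A : Subgroup G, A.Normal ∧ (∀ a ∈ A, ∀ b ∈ A, a * b = b * a) ∧ Nat.Coprime (Nat.card A) p ∧ ∃ k : ℕ, A.index = p ^ k := by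
  classical
  have := Fintype.ofFinite G
  constructor
  · intro hall
    have hdegpow : ∀ χ : Cfsg.IrrCharacter G, ∃ k : ℕ, Cfsg.charDegree (χ : G → ℂ) = p ^ k := by
      intro χ
      obtain ⟨k, hk⟩ := hall χ
      refine ⟨k, ?_⟩
      have h1 := irr_one_eq_charDegree χ
      rw [hk] at h1
      have : ((p ^ k : ℕ) : ℂ) = (Cfsg.charDegree χ.1 : ℂ) := by push_cast; exact h1
      exact_mod_cast this.symm
    have hdeg : ∀ χ : Cfsg.IrrCharacter G, Cfsg.charDegree (χ : G → ℂ) ≠ 1 →
        p ∣ Cfsg.charDegree (χ : G → ℂ) := by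
      intro χ hne
      obtain ⟨k, hk⟩ := hdegpow χ
      rw [hk] at hne ⊢
      rcases Nat.eq_zero_or_pos k with h0 | h0
      · rw [h0, pow_zero] at hne; exact absurd rfl hne
      · exact dvd_pow_self p h0.ne'
    set N := Cfsg.pResidual p G with hNdef
    have hN : N.Normal := pResidual_normal p G
    obtain ⟨k, hk⟩ := pResidual_index p hp G
    have hcop : Nat.Coprime (Nat.card N) p := Cfsg.Agent.S4456.thompson_pcomplement p hp hdeg
    refine ⟨N, hN, ?_, hcop, k, hk⟩
    have hlin : ∀ θ : Cfsg.IrrCharacter N, Cfsg.charDegree θ.1 = 1 := by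
      intro θ
      letI := irrConjAction hN
      obtain ⟨χ, e, _, hdegχ⟩ := exists_over_degree N hN θ
      obtain ⟨j, hj⟩ := hdegpow χ
      have h1 : Cfsg.charDegree θ.1 ∣ p ^ j := by
        rw [← hj, hdegχ]; exact Dvd.intro_left _ rfl
      have h2 : Cfsg.charDegree θ.1 ∣ Nat.card N := charDegree_dvd_card θ
      have h3 : Nat.Coprime (Nat.card N) (p ^ j) := Nat.Coprime.pow_right j hcop
      have := Nat.dvd_gcd h2 h1
      rw [h3] at this
      exact Nat.dvd_one.mp this
    have hab := abelian_of_all_linear hlin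
    intro a ha b hb
    have := hab ⟨a, ha⟩ ⟨b, hb⟩
    exact congrArg Subtype.val this
  · rintro ⟨A, hA, hab, hcop, k, hk⟩ χ
    have h1 := ito_character A hab χ
    rw [hk] at h1
    obtain ⟨j, _, hj⟩ := (Nat.dvd_prime_pow hp).mp h1
    refine ⟨j, ?_⟩
    rw [irr_one_eq_charDegree, hj]
    push_cast
    rfl

end Cfsg.Agent.S0855
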