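import Cfsg.Statements.S0859
import Cfsg.Agent.Lib.Helper8.MGroup2

set_option autoImplicit false
open Cfsg

namespace Cfsg.Agent.S0859

open Cfsg.Agent.Lib.Helper8

/-- Let G be a finite solvable group and N a normal subgroup such that for every prime p every Sylow p-subgroup of N is abelian. Suppose every irreducible character of G is induced from an irreducible character of some subgroup containing N whose restriction to N is irreducible. Then every irreducible character of G is induced from a character of degree 1 of some subgroup. -/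
theorem result {G : Type*} [Group G] [Fintype G] [Group.IsSolvable G] (N : Subgroup G) [N.Normal] (hab : ∀ (p : ℕ) [Fact p.Prime] (P : Sylow p N), ∀ a ∈ P, ∀ b ∈ P, a * b = b * a) (hrel : ∀ χ : G → ℂ, Cfsg.IsIrrCharacter G χ → ∃ (H : Subgroup G) (hNH : N ≤ H) (ψ : H → ℂ), Cfsg.IsIrrCharacter H ψ ∧ Cfsg.indFun H ψ = χ ∧ Cfsg.IsIrrCharacter N (fun n : N => ψ ⟨(n : G), hNH n.2⟩)) (χ : G → ℂ) (hχ : Cfsg.IsIrrCharacter G χ) : ∃ (U : Subgroup G) (lam : U → ℂ), Cfsg.IsCharacter U lam ∧ lam 1 = 1 ∧ Cfsg.indFun U lam = χ := by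
  classical
  obtain ⟨H, hNH, ψ, hψ, hind, hres⟩ := hrel χ hχ
  haveI : Fintype H := Fintype.ofFinite _
  haveI : (N.subgroupOf H).Normal := Subgroup.normal_subgroupOf
  have hsylG : ∀ (p : ℕ) [Fact p.Prime] (Q : Subgroup G), Q ≤ N → IsPGroup p Q →
      ∀ a ∈ Q, ∀ b ∈ Q, a * b = b * a := by
    intro p _ Q hQN hQ a ha b hb
    have hQ' : IsPGroup p (Q.subgroupOf N) := hQ.comap_subtype
    obtain ⟨P, hP⟩ := hQ'.exists_le_sylow
    have := hab p P ⟨a, hQN ha⟩ (hP (Subgroup.mem_subgroupOf.2 ha)) ⟨b, hQN hb⟩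
      (hP (Subgroup.mem_subgroupOf.2 hb))
    exact congrArg Subtype.val this
  have hsylH : ∀ (p : ℕ) [Fact p.Prime] (Q : Subgroup ↥H), Q ≤ N.subgroupOf H → IsPGroup p Q →
      ∀ a ∈ Q, ∀ b ∈ Q, a * b = b * a := by
    intro p _ Q hQN hQ a ha b hb
    have hQ' : IsPGroup p (Q.map H.subtype) := hQ.map H.subtype
    have hQN' : Q.map H.subtype ≤ N := by
      intro x hx
      obtain ⟨y, hy, rfl⟩ := Subgroup.mem_map.1 hx
      exact Subgroup.mem_subgroupOf.1 (hQN hy)
    have := hsylG p (Q.map H.subtype) hQN' hQ' a (Subgroup.mem_map_of_mem _ ha) b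
      (Subgroup.mem_map_of_mem _ hb)
    exact Subtype.ext this
  have hres' : IsIrrCharacter (N.subgroupOf H) (fun x : N.subgroupOf H => ψ x) := by
    have := isIrrCharacter_comp_equiv (Subgroup.subgroupOfEquivOfLe hNH) hres
    convert this using 1
    funext x
    simp only [Function.comp_apply]
    exact congrArg ψ (Subtype.ext rfl)
  obtain ⟨U', lam', hc, h1, hind'⟩ :=
    monomial_of_irr_restrict_aux _ H (N.subgroupOf H) rfl hsylH ψ hψ hres'
  refine ⟨U'.map H.subtype, fun e =>
    lam' ((U'.equivMapOfInjective H.subtype H.subtype_injective).symm e), ?_, ?_, ?_⟩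
  · exact isCharacter_comp
      (U'.equivMapOfInjective H.subtype H.subtype_injective).symm.toMonoidHom hc
  · simp [h1]
  · rw [← hind, ← hind']
    exact (indFun_trans_map H U' lam').symm

end Cfsg.Agent.S0859
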