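import Cfsg.Statements.S0860
import Cfsg.Agent.Lib.Helper8.CharPerm

set_option autoImplicit false
open Cfsg

namespace Cfsg.Agent.S0860

/-- Let a group A act on the set of irreducible characters and on the set of conjugacy classes of a finite group G in such a way that (a • χ) evaluated on the class a • C equals χ evaluated on C, for all a, χ and C. Then every element of A fixes exactly as many irreducible characters as it fixes conjugacy classes. -/
theorem result {G : Type*} [Group G] [Finite G] {A : Type*} [Group A] [MulAction A (Cfsg.IrrCharacter G)] [MulAction A (ConjClasses G)] (hcompat : ∀ (a : A) (χ : Cfsg.IrrCharacter G) (g g' : G), ConjClasses.mk g' = a • ConjClasses.mk g → ((a • χ : Cfsg.IrrCharacter G) : G → ℂ) g' = (χ : G → ℂ) g) (a : A) : Nat.card {χ : Cfsg.IrrCharacter G // a • χ = χ} = Nat.card {C : ConjClasses G // a • C = C} := by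
  classical
  set β : G → G := fun g => (a⁻¹ • ConjClasses.mk g : ConjClasses G).out with hβ
  have hβmk : ∀ g : G, ConjClasses.mk (β g) = a⁻¹ • ConjClasses.mk g := by
    intro g
    exact Quotient.out_eq _
  have hcomp : ∀ χ : Cfsg.IrrCharacter G, χ.1 ∘ β = (a • χ : Cfsg.IrrCharacter G).1 := by
    intro χ
    ext g
    have := hcompat a χ (β g) g (by rw [hβmk, smul_inv_smul])
    exact this.symm
  have h := Cfsg.Agent.Lib.Helper8.perm_lemma (G := G) β
    (by
      intro g h hgh
      have : ConjClasses.mk g = ConjClasses.mk h := ConjClasses.mk_eq_mk_iff_isConj.mpr hgh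
      have h2 : β g = β h := by simp only [hβ, this]
      rw [h2])
    (by
      intro χ
      rw [hcomp χ]
      exact (a • χ).2)
  have e1 : {C : ConjClasses G // ∀ g : G, ConjClasses.mk g = C → IsConj (β g) g} ≃
      {C : ConjClasses G // a • C = C} := by
    apply Equiv.subtypeEquivRight
    intro C
    constructor
    · intro hC
      obtain ⟨g, rfl⟩ := ConjClasses.mk_surjective C
      have h1 := ConjClasses.mk_eq_mk_iff_isConj.mpr (hC g rfl)
      rw [hβmk] at h1
      rw [← h1, smul_inv_smul]
      exact h1.symm
    · intro hC g hg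
      apply ConjClasses.mk_eq_mk_iff_isConj.mp
      rw [hβmk, hg]
      rw [inv_smul_eq_iff, hC]
  have e2 : {χ : Cfsg.IrrCharacter G // χ.1 ∘ β = χ.1} ≃ {χ : Cfsg.IrrCharacter G // a • χ = χ} := by
    apply Equiv.subtypeEquivRight
    intro χ
    rw [hcomp χ]
    exact ⟨fun h => Subtype.ext h, fun h => by rw [h]⟩
  rw [← Nat.card_congr e1, ← Nat.card_congr e2]
  exact h.symm

end Cfsg.Agent.S0860
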