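import Cfsg.Statements.S0861
import Cfsg.Agent.Lib.Helper8.CharPElement
import Cfsg.Agent.Lib.Helper8.CharIto
import Cfsg.Agent.Lib.Helper8.CharCosetAvg

set_option autoImplicit false
open Cfsg

namespace Cfsg.Agent.S0861

open Cfsg.Agent.Lib.Helper8
theorem centralizer_pow_unit {G : Type*} [Group G] [Fintype G] (g : G) (u : (ZMod (Fintype.card G))ˣ) :
    Subgroup.centralizer ({g ^ (u : ZMod (Fintype.card G)).val} : Set G) = Subgroup.centralizer ({g} : Set G) := by
  apply le_antisymm
  · intro x hx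
    rw [Subgroup.mem_centralizer_iff] at hx ⊢
    intro z hz
    rw [Set.mem_singleton_iff] at hz
    rw [hz]
    have h1 := hx _ (Set.mem_singleton _)
    have h2 : Commute (g ^ (u : ZMod (Fintype.card G)).val) x := h1
    have h3 := h2.pow_left ((u⁻¹ : (ZMod (Fintype.card G))ˣ) : ZMod (Fintype.card G)).val
    rw [pow_unit_inv g u] at h3
    exact h3
  · intro x hx
    rw [Subgroup.mem_centralizer_iff] at hx ⊢
    intro z hz
    rw [Set.mem_singleton_iff] at hz
    rw [hz]
    have h1 : Commute g x := hx _ (Set.mem_singleton _)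
    exact h1.pow_left _

/-- Let P be a normal abelian Sylow p-subgroup of the finite group G and suppose some element g of P has centralizer exactly P. Then the number of irreducible characters of G is at most the order of P, and if equality holds then G / P is abelian (the commutator subgroup lies in P). -/
theorem result {G : Type*} [Group G] [Finite G] (p : ℕ) [Fact p.Prime] (P : Sylow p G) [(P : Subgroup G).Normal] (hab : ∀ a ∈ P, ∀ b ∈ P, a * b = b * a) (g : G) (hg : g ∈ P) (hC : Subgroup.centralizer ({g} : Set G) = P) : Nat.card (Cfsg.IrrCharacter G) ≤ Nat.card P ∧ (Nat.card (Cfsg.IrrCharacter G) = Nat.card P → commutator G ≤ P) := by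
  classical
  have : Fintype G := Fintype.ofFinite G
  have := irr_finite (G := G)
  have : Fintype (IrrCharacter G) := Fintype.ofFinite _
  have hp : p.Prime := Fact.out
  have hPn : (P : Subgroup G).Normal := inferInstance
  have : Fintype (P : Subgroup G) := Fintype.ofFinite _
  -- g is a p-element
  obtain ⟨k, hk⟩ := P.isPGroup' ⟨g, hg⟩
  have hgk : g ^ p ^ k = 1 := by
    have := congrArg (fun x : (P : Subgroup G) => (x : G)) hk
    simpa using this
  -- degrees are prime to p
  have hdeg : ∀ χ : IrrCharacter G, ¬ p ∣ charDegree χ.1 := by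
    intro χ hdvd
    have h1 := ito_character (P : Subgroup G) hab χ
    exact P.not_dvd_index (dvd_trans hdvd h1)
  -- nonvanishing
  have hnv : ∀ χ : IrrCharacter G, ∀ j : ℕ, χ.1 (g ^ j) ≠ 0 := by
    intro χ j
    obtain ⟨n, ρ, hρ, hρχ⟩ := χ.2
    rw [← hρχ]
    apply character_ne_zero_of_pow_prime ρ (g ^ j) hp k
    · rw [← pow_mul, mul_comm, pow_mul, hgk, one_pow]
    · have h2 := irr_one_eq_charDegree χ
      rw [← hρχ, Representation.char_one] at h2
      have h3 : Module.finrank ℂ (Fin n → ℂ) = charDegree χ.1 := by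
        rw [← hρχ]; exact_mod_cast h2
      rw [h3]
      exact hdeg χ
  set U := (ZMod (Fintype.card G))ˣ with hU
  have hN : NeZero (Fintype.card G) := ⟨Fintype.card_ne_zero⟩
  have hUpos : (0 : ℝ) < Fintype.card U := by
    have : 0 < Fintype.card U := Fintype.card_pos
    exact_mod_cast this
  -- per-character inequality
  have hper : ∀ χ : IrrCharacter G, (Fintype.card U : ℝ) ≤
      ∑ u : U, ‖χ.1 (g ^ (u : ZMod (Fintype.card G)).val)‖ ^ 2 := by
    intro χ
    obtain ⟨n, ρ, hρ, hρχ⟩ := χ.2
    have := (character_pow_units ρ g).2 (by rw [hρχ]; have := hnv χ 1; rwa [pow_one] at this)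
    rw [hρχ] at this
    exact this
  -- column sums
  have hcol : ∀ u : U, ∑ χ : IrrCharacter G, ‖χ.1 (g ^ (u : ZMod (Fintype.card G)).val)‖ ^ 2 =
      (Nat.card (P : Subgroup G) : ℝ) := by
    intro u
    set x := g ^ (u : ZMod (Fintype.card G)).val with hx
    have h1 := irr_sum_mul_conj x x
    rw [if_pos (IsConj.refl x), hx, centralizer_pow_unit g u, hC, ← hx] at h1
    have h2 : ∀ χ : IrrCharacter G, χ.1 x * (starRingEnd ℂ) (χ.1 x) = ((‖χ.1 x‖ ^ 2 : ℝ) : ℂ) := by
      intro χ
      rw [Complex.mul_conj, Complex.normSq_eq_norm_sq]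
    rw [Finset.sum_congr rfl (fun χ _ => h2 χ), ← Complex.ofReal_sum] at h1
    exact_mod_cast h1
  have htotal : ∑ χ : IrrCharacter G, ∑ u : U, ‖χ.1 (g ^ (u : ZMod (Fintype.card G)).val)‖ ^ 2 =
      (Fintype.card U : ℝ) * (Nat.card (P : Subgroup G) : ℝ) := by
    rw [Finset.sum_comm, Finset.sum_congr rfl (fun u _ => hcol u), Finset.sum_const, Finset.card_univ,
      nsmul_eq_mul]
  have hle : (Fintype.card U : ℝ) * (Fintype.card (IrrCharacter G) : ℝ) ≤
      (Fintype.card U : ℝ) * (Nat.card (P : Subgroup G) : ℝ) := by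
    rw [← htotal]
    calc (Fintype.card U : ℝ) * (Fintype.card (IrrCharacter G) : ℝ)
        = ∑ χ : IrrCharacter G, (Fintype.card U : ℝ) := by
          rw [Finset.sum_const, Finset.card_univ, nsmul_eq_mul, mul_comm]
      _ ≤ _ := Finset.sum_le_sum (fun χ _ => hper χ)
  have hmain : Nat.card (IrrCharacter G) ≤ Nat.card (P : Subgroup G) := by
    rw [Nat.card_eq_fintype_card (α := IrrCharacter G)]
    have := le_of_mul_le_mul_left hle hUpos
    exact_mod_cast this
  refine ⟨hmain, ?_⟩
  intro heq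
  -- equality in each term
  have heqterm : ∀ χ : IrrCharacter G,
      ∑ u : U, ‖χ.1 (g ^ (u : ZMod (Fintype.card G)).val)‖ ^ 2 = (Fintype.card U : ℝ) := by
    have hsumeq : ∑ χ : IrrCharacter G, (Fintype.card U : ℝ) =
        ∑ χ : IrrCharacter G, ∑ u : U, ‖χ.1 (g ^ (u : ZMod (Fintype.card G)).val)‖ ^ 2 := by
      rw [htotal, Finset.sum_const, Finset.card_univ, nsmul_eq_mul, mul_comm,
        ← Nat.card_eq_fintype_card (α := IrrCharacter G), heq]
    intro χ
    exact ((Finset.sum_eq_sum_iff_of_le (fun χ _ => hper χ)).mp hsumeq χ (Finset.mem_univ _)).symm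
  -- characters with P in the kernel are linear
  have hlin : ∀ χ : IrrCharacter G, (∀ x ∈ (P : Subgroup G), χ.1 x = χ.1 1) → χ.1 1 = 1 := by
    intro χ hker
    have h1 := heqterm χ
    have h2 : ∀ u : U, ‖χ.1 (g ^ (u : ZMod (Fintype.card G)).val)‖ ^ 2 = ((charDegree χ.1 : ℝ)) ^ 2 := by
      intro u
      rw [hker _ (Subgroup.pow_mem _ hg _), irr_one_eq_charDegree χ, Complex.norm_natCast]
    rw [Finset.sum_congr rfl (fun u _ => h2 u), Finset.sum_const, Finset.card_univ, nsmul_eq_mul] at h1
    have h3 : ((charDegree χ.1 : ℝ)) ^ 2 = 1 := by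
      have := mul_left_cancel₀ hUpos.ne' (by rw [h1, mul_one] : (Fintype.card U : ℝ) * (charDegree χ.1 : ℝ) ^ 2 = (Fintype.card U : ℝ) * 1)
      exact this
    have h4 : (charDegree χ.1 : ℝ) = 1 := by
      have h5 : (0 : ℝ) ≤ (charDegree χ.1 : ℝ) := Nat.cast_nonneg _
      nlinarith
    rw [irr_one_eq_charDegree χ]
    exact_mod_cast h4
  -- commutator subgroup lies in P
  obtain ⟨m, hm⟩ := isCharacter_decomp
    (isCharacter_indFun (P : Subgroup G) (irr_isCharacter (principal_isIrrCharacter (G := (P : Subgroup G)))))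
  have hmχ : ∀ χ : IrrCharacter G, classInner (indFun (P : Subgroup G) (fun _ => (1 : ℂ))) χ.1 = (m χ : ℂ) := by
    intro χ
    rw [funext hm]
    exact classInner_comb_irr (fun χ => (m χ : ℂ)) χ
  have hval : ∀ x : G, x ∈ commutator G → indFun (P : Subgroup G) (fun _ => (1 : ℂ)) x =
      indFun (P : Subgroup G) (fun _ => (1 : ℂ)) 1 := by
    intro x hx
    rw [hm x, hm 1]
    apply Finset.sum_congr rfl
    intro χ _
    by_cases h0 : m χ = 0
    · rw [h0]; simp
    · have hker := ker_of_over_principal hPn χ (by rw [hmχ χ]; exact_mod_cast h0)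
      have hχ1 := hlin χ hker
      -- χ is multiplicative, so trivial on commutators
      have hK : commutator G ≤ (MonoidHom.ker (⟨⟨χ.1, hχ1⟩, linear_char_mul χ hχ1⟩ : G →* ℂ)) := by
        rw [commutator_def, Subgroup.commutator_le]
        intro a _ b _
        rw [MonoidHom.mem_ker, commutatorElement_def]
        show χ.1 (a * b * a⁻¹ * b⁻¹) = 1
        rw [linear_char_mul χ hχ1, linear_char_mul χ hχ1, linear_char_mul χ hχ1]
        calc χ.1 a * χ.1 b * χ.1 a⁻¹ * χ.1 b⁻¹ = (χ.1 a * χ.1 a⁻¹) * (χ.1 b * χ.1 b⁻¹) := by ring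
          _ = 1 := by rw [← linear_char_mul χ hχ1, ← linear_char_mul χ hχ1]; simp [hχ1]
      have := hK hx
      rw [MonoidHom.mem_ker] at this
      have h2 : χ.1 x = 1 := this
      rw [h2, hχ1]
  intro x hx
  by_contra hxP
  have h1 := hval x hx
  rw [indFun_one] at h1
  have h2 : indFun (P : Subgroup G) (fun _ => (1 : ℂ)) x = 0 := by
    rw [indFun_apply]
    have : ∀ y : G, extendByZero (P : Subgroup G) (fun _ => (1 : ℂ)) (y⁻¹ * x * y) = 0 := by
      intro y
      apply extendByZero_not_mem
      intro hmem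
      apply hxP
      have := hPn.conj_mem _ hmem y
      have h3 : y * (y⁻¹ * x * y) * y⁻¹ = x := by group
      rwa [h3] at this
    rw [Finset.sum_congr rfl (fun y _ => this y)]
    simp
  rw [h2] at h1
  have hidx := Subgroup.index_ne_zero_of_finite (H := (P : Subgroup G))
  have : ((P : Subgroup G).index : ℂ) * 1 ≠ 0 := by
    rw [mul_one]; exact_mod_cast hidx
  exact this h1.symm

end Cfsg.Agent.S0861
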