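import Cfsg.Statements.S0865
import Cfsg.Agent.Lib.Helper8.CharLinExt

set_option autoImplicit false
open Cfsg

namespace Cfsg.Agent.S0865

open Cfsg.Agent.Lib.Helper8
theorem isInvHom_of_inv {G : Type*} [Group G] (N : Subgroup G) [hN : N.Normal] (ℓ : N →* ℂˣ)
    (hinv : ∀ (g : G) (n : N), linFun ℓ ⟨g * n * g⁻¹, hN.conj_mem (n : G) n.2 g⟩ = linFun ℓ n) :
    IsInvHom N ℓ := by
  intro g n
  apply Units.ext
  have h1 := hinv g n
  have h2 : (MulAut.conjNormal g n : N) = ⟨g * n * g⁻¹, hN.conj_mem (n : G) n.2 g⟩ := by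
    apply Subtype.ext
    rw [MulAut.conjNormal_apply]
  rw [h2]
  exact h1

/-- Let N be a normal subgroup of the finite group G and λ a character of N of degree 1, invariant under conjugation by G, whose order (under pointwise multiplication) is coprime to the index of N. Then there is a character μ of G of degree 1 restricting to λ with the same order as λ, and μ is the only degree-1 character of G restricting to λ whose order is coprime to the index of N. -/
theorem result {G : Type*} [Group G] [Finite G] (N : Subgroup G) [hN : N.Normal] (lam : N → ℂ) (hlam : Cfsg.IsCharacter N lam ∧ lam 1 = 1) (hinv : ∀ (g : G) (n : N), lam ⟨g * n * g⁻¹, hN.conj_mem (n : G) n.2 g⟩ = lam n) (hcop : Nat.Coprime N.index (orderOf lam)) : ∃ μ : G → ℂ, (Cfsg.IsCharacter G μ ∧ μ 1 = 1 ∧ (∀ n : N, μ n = lam n) ∧ orderOf μ = orderOf lam) ∧ ∀ μ' : G → ℂ, Cfsg.IsCharacter G μ' ∧ μ' 1 = 1 → (∀ n : N, μ' n = lam n) → Nat.Coprime N.index (orderOf μ') → μ' = μ := by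
  obtain ⟨ℓ, rfl⟩ := exists_linFun hlam.1 hlam.2
  have hinvℓ : IsInvHom N ℓ := isInvHom_of_inv N ℓ hinv
  rw [orderOf_linFun] at hcop
  obtain ⟨μ, hμN, hμo⟩ := exists_extension_coprime N ℓ hinvℓ hcop
  refine ⟨linFun μ, ⟨linFun_isCharacter μ, linFun_one_eq μ, fun n => by
    show ((μ n : ℂˣ) : ℂ) = ((ℓ n : ℂˣ) : ℂ)
    rw [hμN], by rw [orderOf_linFun, orderOf_linFun, hμo]⟩, ?_⟩
  intro μ' hμ' hres hcop'
  obtain ⟨m', rfl⟩ := exists_linFun hμ'.1 hμ'.2
  rw [orderOf_linFun] at hcop'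
  congr 1
  apply extension_unique_coprime N m' μ _ hcop' (hμo ▸ hcop)
  intro n
  apply Units.ext
  rw [hμN]
  exact hres n

end Cfsg.Agent.S0865
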