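import Cfsg.Statements.S0868
import Cfsg.Agent.Lib.Helper8.CharCosetAvg

set_option autoImplicit false
open scoped ComplexConjugate
open Cfsg

namespace Cfsg.Agent.S0868

open Cfsg.Agent.Lib.Helper8

/-- Let N be a normal subgroup of the finite group G, χ an irreducible character of G whose restriction ϑ to N is irreducible, and ψ an irreducible character of G. Define η on G by η g = (1 / order of N) * Σ over n in N of ψ (n * g) * conj (χ (n * g)). Then: if the restriction of ψ to N has nonzero inner product with ϑ, η is an irreducible character of G; if that inner product is zero, η vanishes identically; and if ψ = χ then η is identically 1. -/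
theorem result {G : Type*} [Group G] [Fintype G] (N : Subgroup G) [N.Normal] [Fintype N] (χ : G → ℂ) (hχ : Cfsg.IsIrrCharacter G χ) (hχN : Cfsg.IsIrrCharacter N (fun n : N => χ n)) (ψ : G → ℂ) (hψ : Cfsg.IsIrrCharacter G ψ) (η : G → ℂ) (hη : η = fun g => (Nat.card N : ℂ)⁻¹ * ∑ n : N, ψ ((n : G) * g) * conj (χ ((n : G) * g))) : (Cfsg.classInner (fun n : N => ψ n) (fun n : N => χ n) ≠ 0 → Cfsg.IsIrrCharacter G η) ∧ (Cfsg.classInner (fun n : N => ψ n) (fun n : N => χ n) = 0 → η = 0) ∧ (ψ = χ → η = fun _ => 1) := by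
  classical
  have := irr_finite (G := G)
  have : Fintype (IrrCharacter G) := Fintype.ofFinite _
  have hN : N.Normal := inferInstance
  have hχcf : IsClassFunction G χ := isClassFunction_of_isCharacter (irr_isCharacter hχ)
  have hψcf : IsClassFunction G ψ := isClassFunction_of_isCharacter (irr_isCharacter hψ)
  set ϑ : N → ℂ := fun n : N => χ n with hϑ
  have h1irr : IsIrrCharacter N (fun _ => (1 : ℂ)) := principal_isIrrCharacter
  have hφinv : ∀ g : G, conjChar hN (fun _ : N => (1 : ℂ)) g = fun _ => 1 := fun g => rfl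
  have hprodeq : (fun _ : N => (1 : ℂ)) * ϑ = ϑ := by
    ext n; simp
  have hprod : IsIrrCharacter N ((fun _ : N => (1 : ℂ)) * ϑ) := by rw [hprodeq]; exact hχN
  have hprodinv : ∀ g : G, conjChar hN ((fun _ : N => (1 : ℂ)) * ϑ) g = (fun _ : N => (1 : ℂ)) * ϑ := by
    intro g
    rw [hprodeq]
    exact conjChar_restrict hN hχcf g
  obtain ⟨m, hm, hdecomp, hnorm, horth⟩ :=
    gallagher_core hN h1irr hφinv hprod hprodinv ⟨χ, hχ⟩ (fun n => rfl)
  rw [hprodeq] at hdecomp
  simp only at hdecomp hnorm horth
  -- the set B'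
  set B' := Finset.univ.filter (fun β : IrrCharacter G => ∀ x ∈ N, β.1 x = β.1 1) with hB'
  have hmB : ∀ β ∈ B', m β ≠ 0 := by
    intro β hβ
    rw [hB', Finset.mem_filter] at hβ
    have := over_principal_of_ker (K := N) β hβ.2
    rw [hm β] at this
    exact_mod_cast this
  have hβleft : ∀ β ∈ B', ∀ (n : N) (g : G), β.1 ((n : G) * g) = β.1 g := by
    intro β hβ n g
    rw [hB', Finset.mem_filter] at hβ
    have := (irr_normal_avg β N).1 hβ.2 g (g⁻¹ * n * g) (by
      have := hN.conj_mem (n : G) n.2 g⁻¹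
      rwa [inv_inv] at this)
    rw [← this]
    congr 1
    group
  -- F
  set F : G → ℂ := fun x => ψ x * conj (χ x) with hF
  have hFcf : ∀ x h : G, F (h * x * h⁻¹) = F x := by
    intro x h
    simp only [hF]
    rw [hψcf x h, hχcf x h]
  have hηF : ∀ g, η g = (Nat.card N : ℂ)⁻¹ * ∑ n : N, F ((n : G) * g) := by
    intro g; rw [hη]
  have hηcf : IsClassFunction G η := by
    intro g h
    rw [hηF, hηF]
    congr 1
    apply Fintype.sum_equiv (@MulAut.conjNormal G _ N hN h⁻¹).toEquiv
    intro n
    have h1 : (((@MulAut.conjNormal G _ N hN h⁻¹).toEquiv n : N) : G) = h⁻¹ * n * h := by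
      simp [MulAut.conjNormal_apply]
    rw [h1]
    have h2 : (n : G) * (h * g * h⁻¹) = h * ((h⁻¹ * n * h) * g) * h⁻¹ := by group
    rw [h2, hFcf]
  have hηN : ∀ g : G, ∀ n ∈ N, η (g * n) = η g := by
    intro g n₀ hn₀
    rw [hηF, hηF]
    congr 1
    apply Fintype.sum_equiv (Equiv.mulRight (⟨g * n₀ * g⁻¹, hN.conj_mem n₀ hn₀ g⟩ : N))
    intro n
    simp only [Equiv.coe_mulRight, Subgroup.coe_mul]
    congr 1
    group
  have hexp := classFunction_coset_expansion (N := N) hηcf hηN
  -- inner products
  have hGne : (Nat.card G : ℂ) ≠ 0 := Nat.cast_ne_zero.mpr Nat.card_pos.ne'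
  have hNne : (Nat.card N : ℂ) ≠ 0 := Nat.cast_ne_zero.mpr Nat.card_pos.ne'
  have hinner : ∀ β ∈ B', classInner η β.1 = classInner ψ (β.1 * χ) := by
    intro β hβ
    unfold classInner
    congr 1
    have h1 : ∀ g : G, η g * conj (β.1 g) =
        (Nat.card N : ℂ)⁻¹ * ∑ n : N, (F ((n : G) * g) * conj (β.1 ((n : G) * g))) := by
      intro g
      rw [hηF, mul_assoc, Finset.sum_mul]
      congr 1
      apply Finset.sum_congr rfl
      intro n _
      rw [hβleft β hβ n g]
    rw [Finset.sum_congr rfl (fun g _ => h1 g), ← Finset.mul_sum, Finset.sum_comm]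
    have h2 : ∀ n : N, ∑ g : G, F ((n : G) * g) * conj (β.1 ((n : G) * g)) =
        ∑ x : G, F x * conj (β.1 x) := by
      intro n
      exact Equiv.sum_comp (Equiv.mulLeft (n : G)) (fun x => F x * conj (β.1 x))
    rw [Finset.sum_congr rfl (fun n _ => h2 n), Finset.sum_const, Finset.card_univ, nsmul_eq_mul,
      ← Nat.card_eq_fintype_card, ← mul_assoc, inv_mul_cancel₀ hNne, one_mul]
    apply Finset.sum_congr rfl
    intro x _
    simp only [hF, Pi.mul_apply, map_mul]
    ring
  have hirrB : ∀ β ∈ B', IsIrrCharacter G (β.1 * χ) := fun β hβ =>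
    isIrrCharacter_of_norm_one (isCharacter_mul (irr_isCharacter β.2) (irr_isCharacter hχ))
      (hnorm β (hmB β hβ))
  have hηsum : η = ∑ β ∈ B', classInner ψ (β.1 * χ) • β.1 := by
    conv_lhs => rw [hexp]
    apply Finset.sum_congr rfl
    intro β hβ
    rw [hinner β hβ]
  refine ⟨?_, ?_, ?_⟩
  · intro hcon
    -- ψ = β₀ χ
    have hne : classInner (indFun N ϑ) ψ ≠ 0 := by
      rw [frobenius_reciprocity N ϑ ψ hψcf, classInner_conj_symm]
      intro h0
      apply hcon
      have := congrArg (starRingEnd ℂ) h0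
      simpa using this
    have hdec' : indFun N ϑ = fun g => ∑ β : IrrCharacter G, (m β : ℂ) * (β.1 * χ) g :=
      funext hdecomp
    rw [hdec', classInner_sum_left] at hne
    obtain ⟨β₀, -, hβ₀ne⟩ := Finset.exists_ne_zero_of_sum_ne_zero hne
    have hmβ₀ : m β₀ ≠ 0 := by
      intro h0
      apply hβ₀ne
      rw [h0]; simp
    have h2 : classInner (β₀.1 * χ) ψ ≠ 0 := fun h0 => hβ₀ne (by rw [h0, mul_zero])
    have hirr0 : IsIrrCharacter G (β₀.1 * χ) :=
      isIrrCharacter_of_norm_one (isCharacter_mul (irr_isCharacter β₀.2) (irr_isCharacter hχ))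
        (hnorm β₀ hmβ₀)
    have heq : β₀.1 * χ = ψ := by
      by_contra hne'
      apply h2
      rw [irr_classInner hirr0 hψ, if_neg hne']
    have hβ₀B : β₀ ∈ B' := by
      rw [hB', Finset.mem_filter]
      refine ⟨Finset.mem_univ _, ?_⟩
      apply ker_of_over_principal hN β₀
      rw [hm β₀]
      exact_mod_cast hmβ₀
    have : η = β₀.1 := by
      rw [hηsum, Finset.sum_eq_single β₀]
      · rw [← heq, hnorm β₀ hmβ₀, one_smul]
      · intro β hβ hne'
        rw [← heq, horth β₀ β hmβ₀ (hmB β hβ) (fun h => hne' h.symm), zero_smul]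
      · intro h; exact absurd hβ₀B h
    rw [this]
    exact β₀.2
  · intro hzero
    rw [hηsum]
    apply Finset.sum_eq_zero
    intro β hβ
    have hne : ψ ≠ β.1 * χ := by
      intro heq
      have h1 : (fun n : N => ψ n) = (β.1 1) • ϑ := by
        ext n
        rw [heq, Pi.mul_apply, Pi.smul_apply, smul_eq_mul]
        rw [hB', Finset.mem_filter] at hβ
        rw [hβ.2 n n.2]
      have h2 : classInner (fun n : N => ψ n) ϑ = β.1 1 := by
        rw [h1]
        have : classInner ((β.1 1) • ϑ) ϑ = (β.1 1) * classInner ϑ ϑ := by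
          unfold classInner
          simp only [Pi.smul_apply, smul_eq_mul]
          rw [Finset.mul_sum, Finset.mul_sum, Finset.mul_sum]
          apply Finset.sum_congr rfl
          intro n _
          ring
        rw [this, irr_classInner hχN hχN, if_pos rfl, mul_one]
      rw [h2] at hzero
      exact irr_one_ne_zero β hzero
    rw [irr_classInner hψ (hirrB β hβ), if_neg hne, zero_smul]
  · intro heq
    subst heq
    set one : IrrCharacter G := ⟨fun _ => (1 : ℂ), principal_isIrrCharacter⟩ with hone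
    have hone_mul : one.1 * ψ = ψ := by
      ext g; simp [hone]
    have honeB : one ∈ B' := by
      rw [hB', Finset.mem_filter]
      exact ⟨Finset.mem_univ _, fun x _ => rfl⟩
    rw [hηsum, Finset.sum_eq_single one]
    · rw [hone_mul, irr_classInner hψ hψ, if_pos rfl, one_smul]
    · intro β hβ hne'
      have h0 := horth one β (hmB one honeB) (hmB β hβ) (fun h => hne' h.symm)
      rw [hone_mul] at h0
      rw [h0, zero_smul]
    · intro h; exact absurd honeB h

end Cfsg.Agent.S0868
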