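import Cfsg.Statements.S0869
import Mathlib

set_option autoImplicit false
open Cfsg

namespace Cfsg.Agent.S0869

/-- Let S be a nonempty finite type and R an additive subgroup of the integer-valued functions on S that is closed under pointwise multiplication. If the constant function 1 is not in R, then there exist a point x of S and a prime p such that p divides f x for every f in R. -/
theorem result {S : Type*} [Finite S] [Nonempty S] (R : AddSubgroup (S → ℤ)) (hmul : ∀ f ∈ R, ∀ g ∈ R, f * g ∈ R) (h1 : (1 : S → ℤ) ∉ R) : ∃ (x : S) (p : ℕ), p.Prime ∧ ∀ f ∈ R, (p : ℤ) ∣ f x := by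
  classical
  by_contra hcon
  push Not at hcon
  haveI : Fintype S := Fintype.ofFinite S
  -- for each x there is f ∈ R with f x = 1
  have hex : ∀ x : S, ∃ f ∈ R, f x = 1 := by
    intro x
    by_contra hx
    push Not at hx
    -- the subgroup of values
    obtain ⟨a, ha⟩ := Int.subgroup_cyclic (R.map (Pi.evalAddMonoidHom (fun _ : S => ℤ) x))
    have hval : ∀ f ∈ R, ∃ n : ℤ, n • a = f x := by
      intro f hf
      have : f x ∈ R.map (Pi.evalAddMonoidHom (fun _ : S => ℤ) x) := ⟨f, hf, rfl⟩
      rw [ha, AddSubgroup.mem_closure_singleton] at this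
      exact this
    have hamem : a ∈ R.map (Pi.evalAddMonoidHom (fun _ : S => ℤ) x) := by
      rw [ha]; exact AddSubgroup.subset_closure (Set.mem_singleton a)
    obtain ⟨f0, hf0, hf0a⟩ := hamem
    have hna : a.natAbs ≠ 1 := by
      intro h1
      rcases Int.natAbs_eq a with h2 | h2
      · rw [h1] at h2
        apply hx f0 hf0
        change f0 x = 1
        have : f0 x = a := hf0a
        rw [this, h2]; rfl
      · rw [h1] at h2
        apply hx (-f0) (R.neg_mem hf0)
        have : f0 x = a := hf0a
        change -(f0 x) = 1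
        rw [this, h2]; simp
    obtain ⟨q, hq, hqa⟩ := Nat.exists_prime_and_dvd hna
    obtain ⟨f, hf, hfq⟩ := hcon x q hq
    apply hfq
    obtain ⟨n, hn⟩ := hval f hf
    rw [← hn, smul_eq_mul]
    apply Dvd.dvd.mul_left
    exact Int.natCast_dvd.mpr hqa
  choose F hFR hF1 using hex
  -- 1 - ∏ (1 - F x) ∈ R
  have hprod : ∀ s : Finset S, (1 - ∏ x ∈ s, (1 - F x)) ∈ R := by
    intro s
    induction s using Finset.induction_on with
    | empty => simp
    | insert a s has ih =>
      rw [Finset.prod_insert has]
      have : (1 - (1 - F a) * ∏ x ∈ s, (1 - F x)) =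
          (1 - ∏ x ∈ s, (1 - F x)) + (F a - F a * (1 - ∏ x ∈ s, (1 - F x))) := by ring
      rw [this]
      exact R.add_mem ih (R.sub_mem (hFR a) (hmul _ (hFR a) _ ih))
  have hzero : ∏ x ∈ (Finset.univ : Finset S), (1 - F x) = 0 := by
    funext y
    rw [Finset.prod_apply]
    apply Finset.prod_eq_zero (Finset.mem_univ y)
    simp [hF1 y]
  have := hprod Finset.univ
  rw [hzero, sub_zero] at this
  exact h1 this

end Cfsg.Agent.S0869
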