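import Cfsg.Statements.S0875
import Cfsg.Agent.Lib.Helper8.BrauerRInt

set_option autoImplicit false
open Cfsg

namespace Cfsg.Agent.S0875

open Cfsg.Agent.Lib.Helper8
open scoped ComplexConjugate in
theorem section_char {G : Type*} [Group G] [Fintype G] (m n : ℕ) (hmn : Nat.card G = m * n)
    (hcop : Nat.Coprime m n) (g : G) (x : G) :
    (∃ v : G, IsConj v g ∧ (∃ u : G, x = u * v ∧ Commute u v ∧ Nat.Coprime (orderOf u) n ∧
      Nat.Coprime (orderOf v) m)) ↔ IsConj (x ^ piExp n m) g := by
  have hnm : n.Coprime m := hcop.symm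
  have hpow : ∀ y : G, y ^ (n * m) = 1 := by
    intro y; rw [mul_comm, ← hmn]; exact pow_card_eq_one'
  constructor
  · rintro ⟨v, hv, u, rfl, huv, hu, hv'⟩
    have hum : u ^ m = 1 := by
      rw [← orderOf_dvd_iff_pow_eq_one]
      have : orderOf u ∣ m * n := by rw [← hmn]; exact orderOf_dvd_natCard u
      exact hu.dvd_of_dvd_mul_right this
    have hvn : v ^ n = 1 := by
      rw [← orderOf_dvd_iff_pow_eq_one]
      have : orderOf v ∣ m * n := by rw [← hmn]; exact orderOf_dvd_natCard v
      exact hv'.dvd_of_dvd_mul_left this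
    rw [pow_piExp_unique hnm huv hum hvn]
    exact hv
  · intro h
    refine ⟨x ^ piExp n m, h, x ^ piExp m n, (pow_piExp_mul_compl hnm (hpow x)).symm,
      (Commute.refl x).pow_pow _ _, ?_, ?_⟩
    · have h1 : (x ^ piExp m n) ^ m = 1 :=
        pow_piExp_pow hnm.symm (by rw [mul_comm]; exact hpow x)
      exact Nat.Coprime.coprime_dvd_left (orderOf_dvd_of_pow_eq_one h1) hcop
    · have h1 : (x ^ piExp n m) ^ n = 1 := pow_piExp_pow hnm (hpow x)
      exact Nat.Coprime.coprime_dvd_left (orderOf_dvd_of_pow_eq_one h1) hnm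

/-- Let G be a finite group of order m * n with m and n coprime, and g an element whose order is coprime to m. Every x in G factors uniquely as x = u * v with u, v commuting, the order of u coprime to n and the order of v coprime to m; let ϑ be the function on G equal to n at those x whose factor v is conjugate to g and equal to 0 elsewhere. Then ϑ is a linear combination of the irreducible characters of G with algebraic-integer coefficients. -/
theorem result {G : Type*} [Group G] [Fintype G] (m n : ℕ) (hmn : Nat.card G = m * n) (hcop : Nat.Coprime m n) (g : G) (hg : Nat.Coprime (orderOf g) m) (ϑ : G → ℂ) (hϑ1 : ∀ x : G, (∃ v : G, IsConj v g ∧ (∃ u : G, x = u * v ∧ Commute u v ∧ Nat.Coprime (orderOf u) n ∧ Nat.Coprime (orderOf v) m)) → ϑ x = n) (hϑ0 : ∀ x : G, (¬ ∃ v : G, IsConj v g ∧ (∃ u : G, x = u * v ∧ Commute u v ∧ Nat.Coprime (orderOf u) n ∧ Nat.Coprime (orderOf v) m)) → ϑ x = 0) : ∃ c : Cfsg.IrrCharacter G → ℂ, (∀ χ, c χ ∈ Cfsg.AlgInt) ∧ ϑ = ∑ᶠ χ : Cfsg.IrrCharacter G, c χ • (χ : G → ℂ)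 := by
  classical
  have := irr_finite (G := G)
  haveI : Fintype (Cfsg.IrrCharacter G) := Fintype.ofFinite _
  have hnm : n.Coprime m := hcop.symm
  have hcard : Nat.card G = n * m := by rw [hmn, mul_comm]
  have hval : ∀ x : G, ϑ x = if IsConj (x ^ piExp n m) g then (n : ℂ) else 0 := by
    intro x
    by_cases h : IsConj (x ^ piExp n m) g
    · rw [if_pos h]
      exact hϑ1 x ((section_char m n hmn hcop g x).mpr h)
    · rw [if_neg h]
      exact hϑ0 x (fun h' => h ((section_char m n hmn hcop g x).mp h'))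
  have hcf : Cfsg.IsClassFunction G ϑ := by
    intro x y
    rw [hval, hval, conj_pow]
    have : IsConj (y * x ^ piExp n m * y⁻¹) g ↔ IsConj (x ^ piExp n m) g := by
      constructor
      · intro h
        exact (isConj_iff.mpr ⟨y, rfl⟩ : IsConj (x ^ piExp n m) (y * x ^ piExp n m * y⁻¹)).trans h
      · intro h
        exact (isConj_iff.mpr ⟨y, rfl⟩ : IsConj (x ^ piExp n m) (y * x ^ piExp n m * y⁻¹)).symm.trans h
    simp only [this]
  refine ⟨fun χ => Cfsg.classInner ϑ χ.1, ?_, ?_⟩
  · intro χ
    show IsIntegral ℤ (Cfsg.classInner ϑ χ.1)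
    apply brauer_integral ϑ hcf _ χ.1 (irr_isCharacter χ.2)
    intro E _ hEl ψ hψ
    obtain ⟨p, hp, hEp⟩ := hEl
    have h1 : (fun e : E => ϑ e) =
        fun x : E => if IsConj ((x : G) ^ piExp n m) g then (n : ℂ) else 0 := by
      funext e; exact hval e
    rw [h1]
    exact section_inner_integral hnm hcard g E hp hEp ψ hψ
  · rw [finsum_eq_sum_of_fintype]
    exact classFunction_eq_sum hcf

end Cfsg.Agent.S0875
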