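import Cfsg.Statements.S4604
import Cfsg.Agent.Lib.Helper8.BrauerSection

set_option autoImplicit false
open Cfsg

namespace Cfsg.Agent.S4604

open Cfsg.Agent.Lib.Helper8
theorem ppart_eq {G : Type*} [Group G] [Finite G] {p : ℕ} (hp : p.Prime) (x x' : G)
    (hx : (∃ k : ℕ, orderOf (x * x'⁻¹) = p ^ k) ∧ Commute (x * x'⁻¹) x' ∧ ¬ p ∣ orderOf x') :
    x ^ piExp (Nat.card G / p ^ (Nat.card G).factorization p)
      (p ^ (Nat.card G).factorization p) = x' := by
  obtain ⟨⟨k, hk⟩, hcomm, hnd⟩ := hx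
  set N := Nat.card G with hN
  have hN0 : N ≠ 0 := Nat.card_pos.ne'
  set a := N.factorization p with ha
  have hnm_eq : N / p ^ a * p ^ a = N := Nat.div_mul_cancel (Nat.ordProj_dvd N p)
  have hcop : (N / p ^ a).Coprime (p ^ a) :=
    (Nat.Coprime.pow_left a (Nat.coprime_ordCompl hp hN0)).symm
  have hum : (x * x'⁻¹) ^ (p ^ a) = 1 := by
    rw [← orderOf_dvd_iff_pow_eq_one, hk]
    have h1 : p ^ k ∣ N := by rw [← hk]; exact orderOf_dvd_natCard _
    exact pow_dvd_pow p ((Nat.Prime.pow_dvd_iff_le_factorization hp hN0).mp h1)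
  have hvn : x' ^ (N / p ^ a) = 1 := by
    rw [← orderOf_dvd_iff_pow_eq_one]
    have h1 : orderOf x' ∣ N / p ^ a * p ^ a := by rw [hnm_eq]; exact orderOf_dvd_natCard _
    have h2 : Nat.Coprime (orderOf x') (p ^ a) :=
      Nat.Coprime.pow_right a ((Nat.Prime.coprime_iff_not_dvd hp).mpr hnd).symm
    exact h2.dvd_of_dvd_mul_right h1
  have := pow_piExp_unique hcop hcomm hum hvn
  rwa [inv_mul_cancel_right] at this

/-- Let G be a finite group, p a prime and p^a the p-part of the order of G. Let x, y ∈ G and let x′, y′ be their p-regular parts: x′ has order prime to p, commutes with x·x′⁻¹, and x·x′⁻¹ has p-power order (likewise for y). Then x′ and y′ are conjugate in G if and only if for every irreducible character χ of G the algebraic integer χ(x)^(p^a) − χ(y)^(p^a) is p times an algebraic integer. -/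
theorem result {G : Type*} [Group G] [Finite G] (p : ℕ) [Fact p.Prime] (x y x' y' : G)
    (hx : (∃ k : ℕ, orderOf (x * x'⁻¹) = p ^ k) ∧ Commute (x * x'⁻¹) x' ∧ ¬ p ∣ orderOf x')
    (hy : (∃ k : ℕ, orderOf (y * y'⁻¹) = p ^ k) ∧ Commute (y * y'⁻¹) y' ∧ ¬ p ∣ orderOf y') :
    IsConj x' y' ↔ ∀ χ : Cfsg.IrrCharacter G, ∃ γ : Cfsg.AlgInt,
      (χ : G → ℂ) x ^ (p ^ (Nat.card G).factorization p) - (χ : G → ℂ) y ^ (p ^ (Nat.card G).factorization p) = (p : ℂ) * (γ : ℂ) := by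
  classical
  have hp := (Fact.out : p.Prime)
  have := Fintype.ofFinite G
  have := irr_finite (G := G)
  haveI : Fintype (Cfsg.IrrCharacter G) := Fintype.ofFinite _
  have hx' := ppart_eq hp x x' hx
  have hy' := ppart_eq hp y y' hy
  set N := Nat.card G with hN
  have hN0 : N ≠ 0 := Nat.card_pos.ne'
  set a := N.factorization p with ha
  set n := N / p ^ a with hn
  have hnm_eq : n * p ^ a = N := Nat.div_mul_cancel (Nat.ordProj_dvd N p)
  have hpn : Nat.Coprime p n := Nat.coprime_ordCompl hp hN0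
  have hcop : n.Coprime (p ^ a) := (Nat.Coprime.pow_left a hpn).symm
  have hnpos : 0 < n := by
    rcases Nat.eq_zero_or_pos n with h | h
    · rw [h, zero_mul] at hnm_eq; exact absurd hnm_eq.symm hN0
    · exact h
  have hpowG : ∀ z : G, z ^ (n * p ^ a) = 1 := by
    intro z; rw [hnm_eq]; exact pow_card_eq_one'
  constructor
  · intro hconj χ
    obtain ⟨ω₁, hω₁, e₁⟩ := character_ppart_congr (irr_isCharacter χ.2) x hp a (piExp n (p ^ a)) n
      hnpos (hpowG x) (piExp_left hcop)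
    obtain ⟨ω₂, hω₂, e₂⟩ := character_ppart_congr (irr_isCharacter χ.2) y hp a (piExp n (p ^ a)) n
      hnpos (hpowG y) (piExp_left hcop)
    rw [hx'] at e₁
    rw [hy'] at e₂
    have hχ : χ.1 x' = χ.1 y' := by
      obtain ⟨c, hc⟩ := isConj_iff.mp hconj
      rw [← hc]
      exact (isClassFunction_of_isCharacter (irr_isCharacter χ.2) x' c).symm
    refine ⟨⟨ω₁ - ω₂, hω₁.sub hω₂⟩, ?_⟩
    show χ.1 x ^ p ^ a - χ.1 y ^ p ^ a = (p : ℂ) * (ω₁ - ω₂)
    rw [hχ] at e₁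
    linear_combination e₁ - e₂
  · intro hall
    by_contra hnc
    have hcard : Nat.card G = n * p ^ a := hnm_eq.symm
    obtain ⟨c, hc, hdec⟩ := section_indicator_decomp hcop hcard x'
    have hϑx := hdec x
    rw [hx', if_pos (IsConj.refl _)] at hϑx
    have hϑy := hdec y
    rw [hy', if_neg (fun h => hnc h.symm)] at hϑy
    choose γ hγ using hall
    let R := integralClosure ℤ ℂ
    have hint : ∀ (χ : Cfsg.IrrCharacter G) (z : G), IsIntegral ℤ (χ.1 z) :=
      fun χ z => isCharacter_isIntegral (irr_isCharacter χ.2) z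
    obtain ⟨r₁, h₁⟩ := sum_pow_prime_pow (R := R) hp a Finset.univ
      (fun χ : Cfsg.IrrCharacter G => (⟨c χ, hc χ⟩ : R) * ⟨χ.1 x, hint χ x⟩)
    obtain ⟨r₂, h₂⟩ := sum_pow_prime_pow (R := R) hp a Finset.univ
      (fun χ : Cfsg.IrrCharacter G => (⟨c χ, hc χ⟩ : R) * ⟨χ.1 y, hint χ y⟩)
    have h₁' := congrArg (fun z : R => (z : ℂ)) h₁
    have h₂' := congrArg (fun z : R => (z : ℂ)) h₂
    push_cast at h₁' h₂'
    have e1 : (∑ χ : Cfsg.IrrCharacter G, c χ * χ.1 x) ^ p ^ a =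
        ∑ χ : Cfsg.IrrCharacter G, (c χ * χ.1 x) ^ p ^ a + (p : ℂ) * (r₁ : ℂ) := h₁'
    have e2 : (∑ χ : Cfsg.IrrCharacter G, c χ * χ.1 y) ^ p ^ a =
        ∑ χ : Cfsg.IrrCharacter G, (c χ * χ.1 y) ^ p ^ a + (p : ℂ) * (r₂ : ℂ) := h₂'
    rw [← hϑx] at e1
    rw [← hϑy, zero_pow (pow_pos hp.pos a).ne'] at e2
    have key : ((n : ℂ)) ^ p ^ a = (p : ℂ) * ((∑ χ : Cfsg.IrrCharacter G, c χ ^ p ^ a * (γ χ : ℂ))
        + (r₁ : ℂ) - (r₂ : ℂ)) := by
      have h3 : ∑ χ : Cfsg.IrrCharacter G, (c χ * χ.1 x) ^ p ^ a -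
          ∑ χ : Cfsg.IrrCharacter G, (c χ * χ.1 y) ^ p ^ a =
          (p : ℂ) * ∑ χ : Cfsg.IrrCharacter G, c χ ^ p ^ a * (γ χ : ℂ) := by
        rw [← Finset.sum_sub_distrib, Finset.mul_sum]
        apply Finset.sum_congr rfl
        intro χ _
        rw [mul_pow, mul_pow, ← mul_sub, hγ χ]
        ring
      linear_combination e1 - e2 + h3
    have hI : IsIntegral ℤ ((((n ^ p ^ a : ℕ) : ℤ) : ℂ) / ((p : ℤ) : ℂ)) := by
      have hp0 : (p : ℂ) ≠ 0 := Nat.cast_ne_zero.mpr hp.ne_zero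
      have : (((n ^ p ^ a : ℕ) : ℤ) : ℂ) / ((p : ℤ) : ℂ) =
          (∑ χ : Cfsg.IrrCharacter G, c χ ^ p ^ a * (γ χ : ℂ)) + (r₁ : ℂ) - (r₂ : ℂ) := by
        push_cast
        rw [key]
        field_simp
      rw [this]
      apply IsIntegral.sub
      · apply IsIntegral.add
        · apply IsIntegral.sum
          intro χ _
          exact ((hc χ).pow _).mul (γ χ).2
        · exact r₁.2
      · exact r₂.2
    have hp0' : ((p : ℤ)) ≠ 0 := by exact_mod_cast hp.ne_zero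
    have hdvd := dvd_of_isIntegral_div hp0' hI
    have hdvd' : p ∣ n ^ p ^ a := by exact_mod_cast hdvd
    have hpn' : p ∣ n := hp.dvd_of_dvd_pow hdvd'
    have := Nat.dvd_gcd (dvd_refl p) hpn'
    rw [hpn] at this
    exact hp.one_lt.ne' (Nat.dvd_one.mp this)

end Cfsg.Agent.S4604
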