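import Cfsg.Statements.S0876
import Cfsg.Agent.Lib.Helper8.BrauerSection
import Cfsg.Agent.S4604

set_option autoImplicit false
open Cfsg

namespace Cfsg.Agent.S0876

open Cfsg.Agent.Lib.Helper8

/-- Let G be a finite group, p a prime and M a maximal ideal of the ring of algebraic integers containing p. Let x, y be elements with p-parts a and b (so a⁻¹ * x and b⁻¹ * y are their p-regular parts). Then a⁻¹ * x and b⁻¹ * y are conjugate in G if and only if, for every irreducible character χ, the difference χ x - χ y lies in the local ideal at M. -/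
theorem result {G : Type*} [Group G] [Finite G] (p : ℕ) (M : Ideal Cfsg.AlgInt) (hM : Cfsg.IsPModular p M) (x y a b : G) (ha : Cfsg.IsPPart p x a) (hb : Cfsg.IsPPart p y b) : IsConj (a⁻¹ * x) (b⁻¹ * y) ↔ ∀ χ : Cfsg.IrrCharacter G, Cfsg.MemLocalIdeal M ((χ : G → ℂ) x - (χ : G → ℂ) y) := by
  classical
  have hp : p.Prime := hM.1
  haveI : Fact p.Prime := ⟨hp⟩
  haveI hMmax : M.IsMaximal := hM.2.1
  have hMprime : M.IsPrime := hMmax.isPrime
  have hMtop : M ≠ ⊤ := hMprime.ne_top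
  have hpM : (p : Cfsg.AlgInt) ∈ M := hM.2.2
  have := Fintype.ofFinite G
  have := irr_finite (G := G)
  haveI : Fintype (Cfsg.IrrCharacter G) := Fintype.ofFinite _
  obtain ⟨x', hax, hcx, ⟨kx, hkx⟩, hndx⟩ := ha
  obtain ⟨y', hby, hcy, ⟨ky, hky⟩, hndy⟩ := hb
  have ex : a⁻¹ * x = x' := by rw [← hax, inv_mul_cancel_left]
  have ey : b⁻¹ * y = y' := by rw [← hby, inv_mul_cancel_left]
  have hxa : x * x'⁻¹ = a := by rw [← hax, mul_inv_cancel_right]
  have hyb : y * y'⁻¹ = b := by rw [← hby, mul_inv_cancel_right]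
  have hx : (∃ k : ℕ, orderOf (x * x'⁻¹) = p ^ k) ∧ Commute (x * x'⁻¹) x' ∧ ¬ p ∣ orderOf x' := by
    rw [hxa]; exact ⟨⟨kx, hkx⟩, hcx, hndx⟩
  have hy : (∃ k : ℕ, orderOf (y * y'⁻¹) = p ^ k) ∧ Commute (y * y'⁻¹) y' ∧ ¬ p ∣ orderOf y' := by
    rw [hyb]; exact ⟨⟨ky, hky⟩, hcy, hndy⟩
  rw [ex, ey]
  have hint : ∀ (χ : Cfsg.IrrCharacter G) (z : G), IsIntegral ℤ (χ.1 z) :=
    fun χ z => isCharacter_isIntegral (irr_isCharacter χ.2) z
  constructor
  · intro hconj χ
    obtain ⟨γ, hγ⟩ := (Cfsg.Agent.S4604.result p x y x' y' hx hy).mp hconj χ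
    set e := p ^ (Nat.card G).factorization p with he
    let α : Cfsg.AlgInt := ⟨χ.1 x, hint χ x⟩
    let β : Cfsg.AlgInt := ⟨χ.1 y, hint χ y⟩
    have h1 : α ^ e - β ^ e = (p : Cfsg.AlgInt) * γ := by
      apply Subtype.ext
      push_cast
      exact hγ
    have h2 : α ^ e - β ^ e ∈ M := by rw [h1]; exact M.mul_mem_right _ hpM
    -- quotient field
    let K := Cfsg.AlgInt ⧸ M
    haveI : IsDomain K := Ideal.Quotient.isDomain M
    have hpK : ((p : ℕ) : K) = 0 := by
      have : ((p : Cfsg.AlgInt)) ∈ M := hpM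
      rw [← Ideal.Quotient.eq_zero_iff_mem, map_natCast] at this
      exact this
    have hrc : ringChar K ∣ p := (ringChar.spec K p).mp hpK
    have hrc2 : ringChar K = p :=
      ((Nat.dvd_prime hp).mp hrc).resolve_left CharP.ringChar_ne_one
    haveI : CharP K p := hrc2 ▸ ringChar.charP K
    have h3 : (Ideal.Quotient.mk M α - Ideal.Quotient.mk M β) ^ e = 0 := by
      rw [he, sub_pow_char_pow, ← map_pow, ← map_pow, ← map_sub,
        Ideal.Quotient.eq_zero_iff_mem]
      exact h2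
    have h4 : Ideal.Quotient.mk M (α - β) = 0 := by
      rw [map_sub]
      exact pow_eq_zero_iff (pow_pos hp.pos _).ne' |>.mp h3
    have h5 : α - β ∈ M := Ideal.Quotient.eq_zero_iff_mem.mp h4
    have := memLocalIdeal_of_mem hMtop h5
    simpa [α, β] using this
  · intro hall
    by_contra hnc
    set N := Nat.card G with hN
    have hN0 : N ≠ 0 := Nat.card_pos.ne'
    set k := N.factorization p with hk
    set n := N / p ^ k with hn
    have hnm_eq : n * p ^ k = N := Nat.div_mul_cancel (Nat.ordProj_dvd N p)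
    have hpn : Nat.Coprime p n := Nat.coprime_ordCompl hp hN0
    have hcop : n.Coprime (p ^ k) := (Nat.Coprime.pow_left k hpn).symm
    have hx' := Cfsg.Agent.S4604.ppart_eq hp x x' hx
    have hy' := Cfsg.Agent.S4604.ppart_eq hp y y' hy
    obtain ⟨c, hc, hdec⟩ := section_indicator_decomp hcop hnm_eq.symm x'
    have hϑx := hdec x
    rw [hx', if_pos (IsConj.refl _)] at hϑx
    have hϑy := hdec y
    rw [hy', if_neg (fun h => hnc h.symm)] at hϑy
    have hδ : ∀ χ : Cfsg.IrrCharacter G,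
        (⟨χ.1 x, hint χ x⟩ - ⟨χ.1 y, hint χ y⟩ : Cfsg.AlgInt) ∈ M := by
      intro χ
      apply mem_of_memLocalIdeal hMprime
      have := hall χ
      simpa using this
    have hnM : ((n : ℕ) : Cfsg.AlgInt) ∈ M := by
      have : ((n : ℕ) : Cfsg.AlgInt) = ∑ χ : Cfsg.IrrCharacter G,
          (⟨c χ, hc χ⟩ : Cfsg.AlgInt) * (⟨χ.1 x, hint χ x⟩ - ⟨χ.1 y, hint χ y⟩) := by
        apply Subtype.ext
        push_cast
        simp_rw [mul_sub]
        rw [Finset.sum_sub_distrib, ← hϑx, ← hϑy, sub_zero]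
      rw [this]
      exact M.sum_mem (fun χ _ => M.mul_mem_left _ (hδ χ))
    have hco : IsCoprime (p : ℤ) (n : ℤ) := Nat.isCoprime_iff_coprime.mpr hpn
    obtain ⟨u, v, huv⟩ := hco
    have h1M : (1 : Cfsg.AlgInt) ∈ M := by
      have : (1 : Cfsg.AlgInt) = (u : Cfsg.AlgInt) * (p : Cfsg.AlgInt) +
          (v : Cfsg.AlgInt) * (n : Cfsg.AlgInt) := by
        have := congrArg (fun z : ℤ => (z : Cfsg.AlgInt)) huv
        push_cast at this
        exact this.symm
      rw [this]
      exact M.add_mem (M.mul_mem_left _ hpM) (M.mul_mem_left _ hnM)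
    exact hMtop ((Ideal.eq_top_iff_one M).mpr h1M)

end Cfsg.Agent.S0876
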