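import Cfsg.Statements.S0878
import Mathlib
import Cfsg.Agent.Lib.Helper1.Zassenhaus
import Cfsg.Agent.Lib.Helper1.FrobKernelCount

set_option autoImplicit false
open Cfsg

namespace Cfsg.Agent.S0878

open Cfsg.Agent.Lib.Helper1


/-- Let G be a Zassenhaus group on the finite set Ω, a a point, and let H be the subgroup of the stabilizer of a consisting of the identity and the elements fixing no point other than a (given here as a subgroup of the stabilizer of order one less than the number of points whose non-identity elements fix only a; it is the Frobenius kernel of the stabilizer). Then an element outside the stabilizer of a conjugates no non-identity element of H into H, and the normalizer of H is exactly the stabilizer of a. -/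
theorem result {G Ω : Type*} [Group G] [Finite G] [MulAction G Ω] [Fintype Ω] (hZ : Cfsg.IsZassenhausGroup G Ω) (a : Ω) (H : Subgroup G) (hHa : H ≤ MulAction.stabilizer G a) (hHcard : Nat.card H + 1 = Fintype.card Ω) (hHfix : ∀ u ∈ H, u ≠ 1 → ∀ c : Ω, u • c = c → c = a) : (∀ g : G, g ∉ MulAction.stabilizer G a → ∀ u ∈ H, g * u * g⁻¹ ∈ H → u = 1) ∧ Subgroup.normalizer (H : Set G) = MulAction.stabilizer G a := by
  classical
  obtain ⟨hf, h2, h3, hex, hreg⟩ := id hZ
  have hpart1 : ∀ g : G, g ∉ MulAction.stabilizer G a → ∀ u ∈ H, g * u * g⁻¹ ∈ H → u = 1 := by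
    intro g hg u hu hconj
    by_contra hu1
    have hne : g * u * g⁻¹ ≠ 1 := by
      intro h
      apply hu1
      have : u = g⁻¹ * (g * u * g⁻¹) * g := by group
      rw [this, h]
      group
    have hfix : (g * u * g⁻¹) • (g • a) = g • a := by
      have hua : u • a = a := hHa hu
      rw [mul_smul, mul_smul, inv_smul_smul, hua]
    have := hHfix _ hconj hne _ hfix
    exact hg this
  refine ⟨hpart1, ?_⟩
  have hcard3 := zass_card_ge_three hZ
  have hHne : ∃ u ∈ H, u ≠ 1 := by
    have : 1 < Nat.card H := by omega
    rw [Subgroup.one_lt_card_iff_ne_bot] at this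
    obtain ⟨u, hu⟩ := (Subgroup.ne_bot_iff_exists_ne_one).1 this
    exact ⟨u.1, u.2, fun h => hu (Subtype.ext h)⟩
  -- conjugation by elements of the stabilizer preserves H
  have hconj : ∀ g ∈ MulAction.stabilizer G a, ∀ h ∈ H, g * h * g⁻¹ ∈ H := by
    haveI : MulAction.IsPretransitive G Ω := zass_isPretransitive hZ
    haveI : MulAction.IsPretransitive (MulAction.stabilizer G a)
        (SubMulAction.ofStabilizer G a) := by
      rw [← MulAction.is_one_pretransitive_iff,
        ← SubMulAction.ofStabilizer.isMultiplyPretransitive]
      exact h2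
    obtain ⟨c, hca, -⟩ := zass_exists_third hZ a a
    haveI : Nonempty (SubMulAction.ofStabilizer G a) := ⟨⟨c, hca⟩⟩
    have hcount := card_fixedPointFree_of_transitive (K := MulAction.stabilizer G a)
      (X := SubMulAction.ofStabilizer G a) (by
        intro x hx1 b c' hb hc'
        by_contra hbc
        apply hx1
        apply Subtype.ext
        exact h3 (x : G) a b c' (fun h => b.2 h.symm) (fun h => hbc (Subtype.ext h))
          (fun h => c'.2 h.symm) x.2 (congrArg Subtype.val hb) (congrArg Subtype.val hc'))
    have hX : Nat.card (SubMulAction.ofStabilizer G a) = Nat.card H := by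
      have := SubMulAction.nat_card_ofStabilizer_add_one_eq G a
      rw [Nat.card_eq_fintype_card (α := Ω)] at this
      omega
    -- the two sets
    have hsub : {x : MulAction.stabilizer G a | (x : G) ∈ H} ⊆
        {x : MulAction.stabilizer G a | x = 1 ∨
          ∀ b : SubMulAction.ofStabilizer G a, x • b ≠ b} := by
      intro x hx
      by_cases hx1 : x = 1
      · exact Or.inl hx1
      · right
        intro b hb
        have := hHfix (x : G) hx (fun h => hx1 (Subtype.ext h)) (b : Ω) (congrArg Subtype.val hb)
        exact b.2 this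
    have hc1 : Nat.card {x : MulAction.stabilizer G a | (x : G) ∈ H} = Nat.card H := by
      apply Nat.card_congr
      exact
        { toFun := fun x => ⟨(x.1 : G), x.2⟩
          invFun := fun h => ⟨⟨h.1, hHa h.2⟩, h.2⟩
          left_inv := fun x => rfl
          right_inv := fun h => rfl }
    have heq : {x : MulAction.stabilizer G a | (x : G) ∈ H} =
        {x : MulAction.stabilizer G a | x = 1 ∨
          ∀ b : SubMulAction.ofStabilizer G a, x • b ≠ b} := by
      apply Set.eq_of_subset_of_ncard_le hsub _ (Set.toFinite _)
      rw [← Nat.card_coe_set_eq, ← Nat.card_coe_set_eq, hc1]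
      exact le_of_eq (hcount.trans hX)
    intro g hg h hh
    have hgh : g * h * g⁻¹ ∈ MulAction.stabilizer G a :=
      Subgroup.mul_mem _ (Subgroup.mul_mem _ hg (hHa hh)) (Subgroup.inv_mem _ hg)
    have : (⟨g * h * g⁻¹, hgh⟩ : MulAction.stabilizer G a) ∈
        {x : MulAction.stabilizer G a | (x : G) ∈ H} := by
      rw [heq]
      by_cases hh1 : h = 1
      · left
        apply Subtype.ext
        show g * h * g⁻¹ = 1
        rw [hh1]
        group
      · right
        intro b hb
        have hb' : (g * h * g⁻¹) • (b : Ω) = (b : Ω) := congrArg Subtype.val hb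
        have h1 : h • (g⁻¹ • (b : Ω)) = g⁻¹ • (b : Ω) := by
          rw [mul_smul, mul_smul] at hb'
          calc h • (g⁻¹ • (b : Ω)) = g⁻¹ • (g • h • g⁻¹ • (b : Ω)) := (inv_smul_smul _ _).symm
            _ = g⁻¹ • (b : Ω) := by rw [hb']
        have h2' := hHfix h hh hh1 _ h1
        have hga : g • a = a := hg
        have : (b : Ω) = a := by
          calc (b : Ω) = g • g⁻¹ • (b : Ω) := (smul_inv_smul g _).symm
            _ = g • a := by rw [h2']
            _ = a := hga
        exact b.2 this
    exact this
  apply le_antisymm
  · intro g hg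
    by_contra hga
    obtain ⟨u, hu, hu1⟩ := hHne
    exact hu1 (hpart1 g hga u hu ((Subgroup.mem_normalizer_iff.1 hg u).1 hu))
  · intro g hg
    rw [Subgroup.mem_normalizer_iff]
    intro h
    constructor
    · intro hh
      exact hconj g hg h hh
    · intro hh
      have := hconj g⁻¹ (Subgroup.inv_mem _ hg) _ hh
      have heq2 : g⁻¹ * (g * h * g⁻¹) * g⁻¹⁻¹ = h := by group
      rw [heq2] at this
      exact this

end Cfsg.Agent.S0878
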