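import Cfsg.Statements.S0879
import Mathlib
import Cfsg.Agent.Lib.Helper1.Zassenhaus

set_option autoImplicit false
open Cfsg

namespace Cfsg.Agent.S0879

open Cfsg.Agent.Lib.Helper1

section
variable {G Ω : Type*} [Group G] [MulAction G Ω]

/-- `g` preserves the pair `{a, b}` -/
def PairStab (a b : Ω) (g : G) : Prop :=
  (g • a = a ∧ g • b = b) ∨ (g • a = b ∧ g • b = a)

theorem pairStab_inv {a b : Ω} {g : G} (h : PairStab a b g) : PairStab a b g⁻¹ := by
  rcases h with ⟨h1, h2⟩ | ⟨h1, h2⟩
  · left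
    exact ⟨by rw [inv_smul_eq_iff, h1], by rw [inv_smul_eq_iff, h2]⟩
  · right
    exact ⟨by rw [inv_smul_eq_iff, h2], by rw [inv_smul_eq_iff, h1]⟩

theorem pairStab_conj {a b : Ω} {g : G} (h : PairStab a b g) {x : G}
    (hx : x ∈ (MulAction.stabilizer G a ⊓ MulAction.stabilizer G b : Subgroup G)) :
    g * x * g⁻¹ ∈ (MulAction.stabilizer G a ⊓ MulAction.stabilizer G b : Subgroup G) := by
  have hxa : x • a = a := hx.1
  have hxb : x • b = b := hx.2
  rcases h with ⟨h1, h2⟩ | ⟨h1, h2⟩
  · have i1 : g⁻¹ • a = a := by rw [inv_smul_eq_iff, h1]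
    have i2 : g⁻¹ • b = b := by rw [inv_smul_eq_iff, h2]
    constructor
    · show (g * x * g⁻¹) • a = a
      rw [mul_smul, mul_smul, i1, hxa, h1]
    · show (g * x * g⁻¹) • b = b
      rw [mul_smul, mul_smul, i2, hxb, h2]
  · have i1 : g⁻¹ • a = b := by rw [inv_smul_eq_iff, h2]
    have i2 : g⁻¹ • b = a := by rw [inv_smul_eq_iff, h1]
    constructor
    · show (g * x * g⁻¹) • a = a
      rw [mul_smul, mul_smul, i1, hxb, h2]
    · show (g * x * g⁻¹) • b = b
      rw [mul_smul, mul_smul, i2, hxa, h1]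

theorem pairStab_mem_normalizer {a b : Ω} {g : G} (h : PairStab a b g) :
    g ∈ Subgroup.normalizer
      ((MulAction.stabilizer G a ⊓ MulAction.stabilizer G b : Subgroup G) : Set G) := by
  rw [Subgroup.mem_normalizer_iff]
  intro x
  constructor
  · intro hx
    exact pairStab_conj h hx
  · intro hx
    have := pairStab_conj (pairStab_inv h) hx
    have heq : g⁻¹ * (g * x * g⁻¹) * g⁻¹⁻¹ = x := by group
    rw [heq] at this
    exact this

theorem pairStab_of_conj (hZ : Cfsg.IsZassenhausGroup G Ω) {a b : Ω} (hab : a ≠ b) {g x : G}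
    (hx : x ∈ (MulAction.stabilizer G a ⊓ MulAction.stabilizer G b : Subgroup G)) (hx1 : x ≠ 1)
    (hc : g * x * g⁻¹ ∈ (MulAction.stabilizer G a ⊓ MulAction.stabilizer G b : Subgroup G)) :
    PairStab a b g := by
  have hxa : x • a = a := hx.1
  have hxb : x • b = b := hx.2
  have hca : (g * x * g⁻¹) • a = a := hc.1
  have hcb : (g * x * g⁻¹) • b = b := hc.2
  have h1 : x • (g⁻¹ • a) = g⁻¹ • a := by
    rw [mul_smul, mul_smul] at hca
    calc x • (g⁻¹ • a) = g⁻¹ • (g • x • g⁻¹ • a) := (inv_smul_smul _ _).symm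
      _ = g⁻¹ • a := by rw [hca]
  have h2 : x • (g⁻¹ • b) = g⁻¹ • b := by
    rw [mul_smul, mul_smul] at hcb
    calc x • (g⁻¹ • b) = g⁻¹ • (g • x • g⁻¹ • b) := (inv_smul_smul _ _).symm
      _ = g⁻¹ • b := by rw [hcb]
  have hne : g⁻¹ • a ≠ g⁻¹ • b := fun h => hab (MulAction.injective g⁻¹ h)
  have hi : PairStab a b g⁻¹ := by
    rcases zass_fixed_of_two hZ hx1 hxa hxb h1 hab with ha | ha
    · rcases zass_fixed_of_two hZ hx1 hxa hxb h2 hab with hb | hb
      · exact absurd (ha.trans hb.symm) hne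
      · exact Or.inl ⟨ha, hb⟩
    · rcases zass_fixed_of_two hZ hx1 hxa hxb h2 hab with hb | hb
      · exact Or.inr ⟨ha, hb⟩
      · exact absurd (ha.trans hb.symm) hne
  have := pairStab_inv hi
  rwa [inv_inv] at this

end


/-- Let G be a Zassenhaus group on the finite set Ω and E the stabilizer of two distinct points a, b. Then an element outside the normalizer of E conjugates no non-identity element of E into E, and E has index 2 in its normalizer. -/
theorem result {G Ω : Type*} [Group G] [Finite G] [MulAction G Ω] [Fintype Ω] (hZ : Cfsg.IsZassenhausGroup G Ω) {a b : Ω} (hab : a ≠ b) : (∀ g : G, g ∉ Subgroup.normalizer ((MulAction.stabilizer G a ⊓ MulAction.stabilizer G b : Subgroup G) : Set G) → ∀ x ∈ (MulAction.stabilizer G a ⊓ MulAction.stabilizer G b : Subgroup G), g * x * g⁻¹ ∈ (MulAction.stabilizer G a ⊓ MulAction.stabilizer G b : Subgroup G) → x = 1) ∧ ((MulAction.stabilizer G a ⊓ MulAction.stabilizer G b : Subgroup G).subgroupOf (Subgroup.normalizer ((MulAction.stabilizer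 G a ⊓ MulAction.stabilizer G b : Subgroup G) : Set G))).index = 2 := by
  classical
  obtain ⟨hf, h2, h3, ⟨g0, hg01, a0, b0, hab0, hga0, hgb0⟩, hreg⟩ := id hZ
  constructor
  · intro g hg x hx hc
    by_contra hx1
    exact hg (pairStab_mem_normalizer (pairStab_of_conj hZ hab hx hx1 hc))
  · -- a nonidentity element of E
    obtain ⟨k, hka, hkb⟩ := zass_exists_map hZ hab0 hab
    have hx0 : k * g0 * k⁻¹ ∈ (MulAction.stabilizer G a ⊓ MulAction.stabilizer G b : Subgroup G) := by
      constructor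
      · show (k * g0 * k⁻¹) • a = a
        rw [mul_smul, mul_smul, ← hka, inv_smul_smul, hga0]
      · show (k * g0 * k⁻¹) • b = b
        rw [mul_smul, mul_smul, ← hkb, inv_smul_smul, hgb0]
    have hx01 : k * g0 * k⁻¹ ≠ 1 := by
      intro h
      apply hg01
      have : g0 = k⁻¹ * (k * g0 * k⁻¹) * k := by group
      rw [this, h]
      group
    have hN : ∀ g : G, g ∈ Subgroup.normalizer
        ((MulAction.stabilizer G a ⊓ MulAction.stabilizer G b : Subgroup G) : Set G) →
        PairStab a b g := by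
      intro g hg
      exact pairStab_of_conj hZ hab hx0 hx01 ((Subgroup.mem_normalizer_iff.1 hg _).1 hx0)
    obtain ⟨t, hta, htb⟩ := zass_exists_map hZ hab hab.symm
    have htN : t ∈ Subgroup.normalizer
        ((MulAction.stabilizer G a ⊓ MulAction.stabilizer G b : Subgroup G) : Set G) :=
      pairStab_mem_normalizer (Or.inr ⟨hta, htb⟩)
    rw [Subgroup.index_eq_two_iff]
    refine ⟨⟨t, htN⟩, ?_⟩
    intro g
    rw [Subgroup.mem_subgroupOf, Subgroup.mem_subgroupOf]
    rcases hN g.1 g.2 with ⟨h1, h2'⟩ | ⟨h1, h2'⟩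
    · right
      refine ⟨⟨h1, h2'⟩, ?_⟩
      intro hmem
      have : ((g : G) * t) • a = a := hmem.1
      rw [mul_smul, hta, h2'] at this
      exact hab this.symm
    · left
      refine ⟨⟨?_, ?_⟩, ?_⟩
      · show ((g : G) * t) • a = a
        rw [mul_smul, hta, h2']
      · show ((g : G) * t) • b = b
        rw [mul_smul, htb, h1]
      · intro hmem
        have : (g : G) • a = a := hmem.1
        rw [h1] at this
        exact hab this.symm

end Cfsg.Agent.S0879
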