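import Cfsg.Statements.S0880
import Mathlib
import Cfsg.Agent.Lib.Helper6.ZassCard
import Cfsg.Agent.Lib.Helper2.ClassCard

set_option autoImplicit false
open Cfsg Cfsg.Agent.Lib.Helper6 Cfsg.Agent.Lib.Helper1 MulAction

namespace Cfsg.Agent.S0880

theorem main0880 {G Ω : Type*} [Group G] [Finite G] [MulAction G Ω] [Fintype Ω] (hZ : Cfsg.IsZassenhausGroup G Ω) {a b : Ω} (hab : a ≠ b) (hodd : Odd (Nat.card ↥(MulAction.stabilizer G a ⊓ MulAction.stabilizer G b : Subgroup G))) : ∃ x y : G, (∀ c : Ω, x • c ≠ c) ∧ (∀ c : Ω, y • c ≠ c) ∧ ¬ IsConj x y := by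
  by_contra hcon
  push Not at hcon
  have hn3 := zass_card_ge_three hZ
  have hG := zass_card_group hZ hab
  have hF := zass_two_mul_card_fpf hZ
  obtain ⟨e, he⟩ : ∃ e, e = Nat.card ↥(stabilizer G a ⊓ stabilizer G b) := ⟨_, rfl⟩
  obtain ⟨n, hn⟩ : ∃ n, n = Fintype.card Ω := ⟨_, rfl⟩
  obtain ⟨N₀, hN₀⟩ : ∃ N₀, N₀ = Nat.card {g : G // ∀ c : Ω, g • c ≠ c} := ⟨_, rfl⟩
  rw [← he] at hodd hG
  rw [← hn] at hn3 hG hF
  rw [← hN₀] at hF
  -- `e ≥ 3`
  have he3 : 3 ≤ e := by
    have hne1 : e ≠ 1 := by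
      intro h1
      have := (zass_frobComp hZ hab).1
      rw [Ne, Subgroup.eq_bot_iff_forall] at this
      push Not at this
      obtain ⟨x, hx, hx1⟩ := this
      rw [Subgroup.mem_subgroupOf] at hx
      rw [he] at h1
      have hsub := (Nat.card_eq_one_iff_unique.1 h1).1
      have hxD : (x : G) ∈ stabilizer G a ⊓ stabilizer G b := ⟨x.2, hx⟩
      have e1 := @Subsingleton.elim _ hsub (⟨(x : G), hxD⟩ : ↥(stabilizer G a ⊓ stabilizer G b)) 1
      apply hx1
      apply Subtype.ext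
      have := congrArg (fun z : ↥(stabilizer G a ⊓ stabilizer G b) => (z : G)) e1
      exact this
    obtain ⟨k, hk⟩ := hodd
    omega
  have hN₀pos : 0 < N₀ := by
    by_contra h0
    have h0' : N₀ = 0 := by omega
    rw [h0', mul_zero, zero_add, hG] at hF
    obtain ⟨m, rfl⟩ : ∃ m, n = m + 3 := ⟨n - 3, by omega⟩
    obtain ⟨f, rfl⟩ : ∃ f, e = f + 3 := ⟨e - 3, by omega⟩
    simp only [Nat.add_sub_cancel, show m + 3 - 1 = m + 2 by omega, show m + 3 - 2 = m + 1 by omega]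
      at hF
    have h1 : (m + 2) * (m + 1) < (m + 3) * (m + 2) * (f + 3) := by
      have h2 : (m + 3) * (m + 2) * (f + 3) = (m + 3) * (m + 2) * f + 3 * ((m + 3) * (m + 2)) := by
        ring
      have h3 : (m + 2) * (m + 1) < 3 * ((m + 3) * (m + 2)) := by nlinarith
      omega
    omega
  haveI : Nonempty {g : G // ∀ c : Ω, g • c ≠ c} := by
    rw [hN₀] at hN₀pos
    exact (Nat.card_pos_iff.1 hN₀pos).1
  obtain ⟨⟨x, hx⟩⟩ := ‹Nonempty {g : G // ∀ c : Ω, g • c ≠ c}›
  have hclass : Nat.card {h : G // ConjClasses.mk h = ConjClasses.mk x} = N₀ := by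
    rw [hN₀]
    apply Nat.card_congr
    apply Equiv.subtypeEquivRight
    intro h
    rw [ConjClasses.mk_eq_mk_iff_isConj]
    constructor
    · intro hc c hhc
      obtain ⟨g, hg⟩ := isConj_iff.1 hc
      apply hx (g • c)
      rw [← hg, mul_smul, mul_smul, inv_smul_smul, hhc]
    · intro hh
      exact hcon h x hh hx
  have hcl := Cfsg.Agent.Lib.Helper2.card_class_mul_card_centralizer x
  rw [hclass] at hcl
  obtain ⟨c, hc⟩ : ∃ c, c = Nat.card (Subgroup.centralizer ({x} : Set G)) := ⟨_, rfl⟩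
  rw [← hc] at hcl
  have hc2 : 2 ≤ c := by
    have hx1 : x ≠ 1 := by
      intro e1
      exact hx a (by rw [e1, one_smul])
    have hmem : x ∈ Subgroup.centralizer ({x} : Set G) := by
      rw [Subgroup.mem_centralizer_iff]
      intro y hy
      rw [Set.mem_singleton_iff] at hy
      rw [hy]
    have hd := Subgroup.orderOf_dvd_natCard _ hmem
    rw [← hc] at hd
    have ho : orderOf x ≠ 1 := fun h => hx1 (orderOf_eq_one_iff.1 h)
    have ho' : 0 < orderOf x := orderOf_pos x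
    have hcpos : 0 < c := by rw [hc]; exact Nat.card_pos
    have := Nat.le_of_dvd hcpos hd
    omega
  -- arithmetic
  obtain ⟨m, rfl⟩ : ∃ m, n = m + 3 := ⟨n - 3, by omega⟩
  obtain ⟨f, rfl⟩ : ∃ f, e = f + 3 := ⟨e - 3, by omega⟩
  obtain ⟨d, rfl⟩ : ∃ d, c = d + 2 := ⟨c - 2, by omega⟩
  simp only [Nat.add_sub_cancel, show m + 3 - 1 = m + 2 by omega, show m + 3 - 2 = m + 1 by omega]
    at hF hG
  rw [hG] at hF hcl
  have key : (m + 3) * (m + 2) * (f + 3) * d = (m + 2) * (m + 1) * (d + 2) := by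
    nlinarith
  rcases Nat.eq_zero_or_pos d with h0 | h0
  · rw [h0] at key
    nlinarith
  · obtain ⟨u, hu⟩ : ∃ u, u = (m + 2) * d := ⟨_, rfl⟩
    have hupos : 0 < u := by rw [hu]; positivity
    have hle : 2 * (m + 2) ≤ 2 * u := by rw [hu]; nlinarith
    have e1 : (m + 3) * (m + 2) * (f + 3) * d = (m + 3) * (f + 3) * u := by rw [hu]; ring
    have e2 : (m + 2) * (m + 1) * (d + 2) = (m + 1) * (u + 2 * (m + 2)) := by rw [hu]; ring
    rw [e1, e2] at key
    have h3 : (m + 1) * (u + 2 * (m + 2)) ≤ (m + 1) * (3 * u) :=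
      Nat.mul_le_mul_left _ (by omega)
    have h4 : (m + 3) * 3 * u ≤ (m + 3) * (f + 3) * u :=
      Nat.mul_le_mul_right _ (Nat.mul_le_mul_left _ (by omega))
    have h5 : (m + 1) * (3 * u) < (m + 3) * 3 * u := by nlinarith
    omega


/-- Let G be a finite simple Zassenhaus group on Ω with n points whose two-point stabilizer E has odd order less than n - 2. Then there are two elements of G, each fixing no point of Ω, that are not conjugate. -/
theorem result {G Ω : Type*} [Group G] [Finite G] [MulAction G Ω] [Fintype Ω] (hZ : Cfsg.IsZassenhausGroup G Ω) {a b : Ω} (hab : a ≠ b) [IsSimpleGroup G] (hodd : Odd (Nat.card ↥(MulAction.stabilizer G a ⊓ MulAction.stabilizer G b : Subgroup G))) (hlt : Nat.card ↥(MulAction.stabilizer G a ⊓ MulAction.stabilizer G b : Subgroup G) < Fintype.card Ω - 2) : ∃ x y : G, (∀ c : Ω, x • c ≠ c) ∧ (∀ c : Ω, y • c ≠ c) ∧ ¬ IsConj x y := by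
  exact main0880 hZ hab hodd

end Cfsg.Agent.S0880
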