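import Cfsg.Statements.S0881
import Mathlib
import Cfsg.Agent.Lib.Helper6.ZassSimple
import Cfsg.Agent.Lib.Helper8.CharLinHom
import Cfsg.Agent.Lib.Helper8.CharDecomp
import Cfsg.Agent.Lib.Helper8.CharInd

set_option autoImplicit false
open Cfsg Cfsg.Agent.Lib.Helper6 Cfsg.Agent.Lib.Helper1 Cfsg.Agent.Lib.Helper8 MulAction
open scoped ComplexConjugate

namespace Cfsg.Agent.S0881

/-- a nontrivial linear character of odd order sums to zero after squaring -/
theorem sum_sq_eq_zero {A : Type*} [Group A] [Fintype A] (f : A →* ℂˣ) (P : A → Prop)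
    [DecidablePred P] (δ : A) (hPδ : ∀ h : A, P (δ * h) ↔ P h)
    (hδ : ((f δ : ℂˣ) : ℂ) ^ 2 ≠ 1) :
    ∑ h : A, (if P h then ((f h : ℂˣ) : ℂ) ^ 2 else 0) = 0 := by
  have h1 : ∑ h : A, (if P h then ((f h : ℂˣ) : ℂ) ^ 2 else 0) =
      ∑ h : A, (if P (δ * h) then ((f (δ * h) : ℂˣ) : ℂ) ^ 2 else 0) := by
    symm
    exact Fintype.sum_equiv (Equiv.mulLeft δ) _ _ (fun h => rfl)
  have h2 : ∑ h : A, (if P (δ * h) then ((f (δ * h) : ℂˣ) : ℂ) ^ 2 else 0) =
      ((f δ : ℂˣ) : ℂ) ^ 2 * ∑ h : A, (if P h then ((f h : ℂˣ) : ℂ) ^ 2 else 0) := by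
    rw [Finset.mul_sum]
    apply Finset.sum_congr rfl
    intro h _
    by_cases hP : P h
    · rw [if_pos hP, if_pos ((hPδ h).2 hP), map_mul, Units.val_mul, mul_pow]
    · rw [if_neg hP, if_neg (fun h' => hP ((hPδ h).1 h')), mul_zero]
  rw [h2] at h1
  have h3 : (1 - ((f δ : ℂˣ) : ℂ) ^ 2) *
      ∑ h : A, (if P h then ((f h : ℂˣ) : ℂ) ^ 2 else 0) = 0 := by
    rw [sub_mul, one_mul, ← h1, sub_self]
  rcases mul_eq_zero.1 h3 with h4 | h4
  · exfalso
    apply hδ
    exact (sub_eq_zero.1 h4).symm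
  · exact h4

theorem main0881 {G Ω : Type*} [Group G] [Fintype G] [MulAction G Ω] [Fintype Ω] (hZ : Cfsg.IsZassenhausGroup G Ω) {a b : Ω} (hab : a ≠ b) [IsSimpleGroup G] (hodd : Odd (Nat.card ↥(MulAction.stabilizer G a ⊓ MulAction.stabilizer G b : Subgroup G))) (H : Subgroup G) (hHa : H ≤ MulAction.stabilizer G a) (hHcard : Nat.card H + 1 = Fintype.card Ω) (hHfix : ∀ u ∈ H, u ≠ 1 → ∀ c : Ω, u • c = c → c = a) (μ : MulAction.stabilizer G a → ℂ) (hμ : Cfsg.IsCharacter (MulAction.stabilizer G a) μ ∧ μ 1 = 1) (hμH : ∀ u : MulAction.stabilizer G a, (u : G) ∈ H → μ u = 1) (hμne : μ ≠ fun _ => 1) : Cfsg.IsIrrCharacter G (Cfsg.indFun (MulAction.stabilizer G a) μ) ∧ ∀ u ∈ H, u ≠ 1 → Cfsg.indFun (MulAction.stabilizer G a) μ u = 1 := by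
  classical
  obtain ⟨K, hK⟩ := exists_zkernel hZ a
  have hHK : H = K := hK.eq_of_card hZ H hHa hHcard hHfix
  subst hHK
  obtain ⟨f, hf⟩ := exists_linFun hμ.1 hμ.2
  have hμf : ∀ x : stabilizer G a, μ x = ((f x : ℂˣ) : ℂ) := fun x => by rw [hf]; rfl
  have hA0 : (Nat.card (stabilizer G a) : ℂ) ≠ 0 := Nat.cast_ne_zero.2 Nat.card_pos.ne'
  have hnorm : ∀ x : stabilizer G a, ‖((f x : ℂˣ) : ℂ)‖ = 1 := by
    intro x
    have h1 : ((f x : ℂˣ) : ℂ) ^ Nat.card (stabilizer G a) = 1 := by
      rw [← Units.val_pow_eq_pow_val, ← map_pow, pow_card_eq_one', map_one, Units.val_one]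
    exact Complex.norm_eq_one_of_pow_eq_one h1 Nat.card_pos.ne'
  have hconj : ∀ x : stabilizer G a, conj ((f x : ℂˣ) : ℂ) = ((f x⁻¹ : ℂˣ) : ℂ) := by
    intro x
    rw [map_inv, Units.val_inv_eq_inv_val, Complex.inv_eq_conj (hnorm x)]
  have hmulconj : ∀ x : stabilizer G a, ((f x : ℂˣ) : ℂ) * conj ((f x : ℂˣ) : ℂ) = 1 := by
    intro x
    rw [hconj, ← Units.val_mul, ← map_mul, mul_inv_cancel, map_one, Units.val_one]
  have hfH : ∀ u : stabilizer G a, (u : G) ∈ H → ((f u : ℂˣ) : ℂ) = 1 := by
    intro u hu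
    rw [← hμf]; exact hμH u hu
  have hcardA : ∑ x : G, (if x ∈ stabilizer G a then (1 : ℂ) else 0) =
      (Nat.card (stabilizer G a) : ℂ) := by
    rw [Finset.sum_boole, Nat.card_eq_fintype_card, Fintype.card_subtype]
  constructor
  · apply isIrrCharacter_of_norm_one (isCharacter_indFun _ hμ.1)
    rw [frobenius_reciprocity _ μ _ (indFun_isClassFunction _ μ)]
    unfold classInner
    -- the inner sums
    have hT1 : ∀ x : G, x ∈ stabilizer G a →
        ∑ h : stabilizer G a, μ h * conj (extendByZero (stabilizer G a) μ (x⁻¹ * (h : G) * x)) =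
          (Nat.card (stabilizer G a) : ℂ) := by
      intro x hx
      have : ∀ h : stabilizer G a,
          μ h * conj (extendByZero (stabilizer G a) μ (x⁻¹ * (h : G) * x)) = 1 := by
        intro h
        have hmem : x⁻¹ * (h : G) * x ∈ stabilizer G a :=
          Subgroup.mul_mem _ (Subgroup.mul_mem _ (Subgroup.inv_mem _ hx) h.2) hx
        have e : (⟨x⁻¹ * (h : G) * x, hmem⟩ : stabilizer G a) =
            (⟨x, hx⟩ : stabilizer G a)⁻¹ * h * ⟨x, hx⟩ := rfl
        rw [extendByZero_mem _ _ hmem, hμf, hμf, e, map_mul, map_mul, map_inv]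
        have e2 : (f ⟨x, hx⟩)⁻¹ * f h * f ⟨x, hx⟩ = f h := by
          rw [mul_comm, ← mul_assoc, mul_inv_cancel, one_mul]
        rw [e2]
        exact hmulconj h
      rw [Finset.sum_congr rfl (fun h _ => this h), Finset.sum_const, Finset.card_univ,
        nsmul_eq_mul, mul_one, Nat.card_eq_fintype_card]
    have hT0 : ∀ x : G, x ∉ stabilizer G a →
        ∑ h : stabilizer G a, μ h * conj (extendByZero (stabilizer G a) μ (x⁻¹ * (h : G) * x)) =
          0 := by
      intro x hx
      obtain ⟨c, hc⟩ : ∃ c : Ω, c = x • a := ⟨_, rfl⟩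
      have hac : a ≠ c := by
        intro e
        apply hx
        rw [mem_stabilizer_iff, ← hc, ← e]
      obtain ⟨⟨s, hs, hsa, hsc⟩, -, -⟩ := Cfsg.Agent.S0740.result hZ hac
      have hss : s * s = 1 := by rw [← pow_two, ← hs, pow_orderOf_eq_one]
      have hsinv : s⁻¹ = s := inv_eq_of_mul_eq_one_right hss
      have hinv := zass_simple_invert hZ hab hodd a c hac s hsa hsc
      have hy₀ : s⁻¹ * x ∈ stabilizer G a := by
        rw [mem_stabilizer_iff, mul_smul, ← hc, inv_smul_eq_iff, hsa]
      have hterm : ∀ h : stabilizer G a,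
          μ h * conj (extendByZero (stabilizer G a) μ (x⁻¹ * (h : G) * x)) =
            if (h : G) • c = c then ((f h : ℂˣ) : ℂ) ^ 2 else 0 := by
        intro h
        by_cases hhc : (h : G) • c = c
        · rw [if_pos hhc]
          have hhD : (h : G) ∈ stabilizer G a ⊓ stabilizer G c := ⟨h.2, hhc⟩
          have e1 : s * (h : G) * s⁻¹ = (h : G)⁻¹ := hinv _ hhD
          have e2 : x⁻¹ * (h : G) * x = (s⁻¹ * x)⁻¹ * (h : G)⁻¹ * (s⁻¹ * x) := by
            rw [← e1]
            calc x⁻¹ * (h : G) * x = x⁻¹ * ((s * s) * (h : G) * (s * s)⁻¹) * x := by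
                  rw [hss, one_mul, inv_one, mul_one]
              _ = (s⁻¹ * x)⁻¹ * (s * (h : G) * s⁻¹) * (s⁻¹ * x) := by group
          have hmem : x⁻¹ * (h : G) * x ∈ stabilizer G a := by
            rw [e2]
            exact Subgroup.mul_mem _ (Subgroup.mul_mem _ (Subgroup.inv_mem _ hy₀)
              (Subgroup.inv_mem _ h.2)) hy₀
          have e3 : (⟨x⁻¹ * (h : G) * x, hmem⟩ : stabilizer G a) =
              (⟨s⁻¹ * x, hy₀⟩ : stabilizer G a)⁻¹ * h⁻¹ * ⟨s⁻¹ * x, hy₀⟩ :=
            Subtype.ext e2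
          rw [extendByZero_mem _ _ hmem, hμf, hμf, e3, map_mul, map_mul, map_inv]
          have e4 : (f ⟨s⁻¹ * x, hy₀⟩)⁻¹ * f h⁻¹ * f ⟨s⁻¹ * x, hy₀⟩ = f h⁻¹ := by
            rw [mul_comm, ← mul_assoc, mul_inv_cancel, one_mul]
          rw [e4, ← hconj, Complex.conj_conj, pow_two]
        · rw [if_neg hhc]
          have hnm : x⁻¹ * (h : G) * x ∉ stabilizer G a := by
            intro hm
            apply hhc
            rw [mem_stabilizer_iff, mul_smul, mul_smul, inv_smul_eq_iff, ← hc] at hm
            exact hm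
          rw [extendByZero_not_mem _ _ hnm, map_zero, mul_zero]
      rw [Finset.sum_congr rfl (fun h _ => hterm h)]
      -- a suitable element
      obtain ⟨g, hg⟩ : ∃ g : stabilizer G a, ((f g : ℂˣ) : ℂ) ≠ 1 := by
        by_contra hcon
        push Not at hcon
        apply hμne
        funext x
        rw [hμf, hcon]
      obtain ⟨k, hkH, hka, hkc⟩ := hK.exists_factor hac g.1 g.2
      obtain ⟨δ, hδ⟩ : ∃ δ : stabilizer G a, δ = ⟨k⁻¹ * g.1, hka⟩ := ⟨_, rfl⟩
      have hδc : (δ : G) • c = c := by rw [hδ]; exact hkc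
      have hgk : g = ⟨k, hK.le hkH⟩ * δ := by
        rw [hδ]
        apply Subtype.ext
        show g.1 = k * (k⁻¹ * g.1)
        group
      have hfδ : ((f δ : ℂˣ) : ℂ) ≠ 1 := by
        intro e
        apply hg
        rw [hgk, map_mul, Units.val_mul, hfH _ hkH, e, one_mul]
      have hδD : (δ : G) ∈ stabilizer G a ⊓ stabilizer G c := ⟨δ.2, hδc⟩
      have hoddc : Odd (Nat.card ↥(stabilizer G a ⊓ stabilizer G c)) := by
        rw [zass_card_stab2 hZ hab hac]; exact hodd
      obtain ⟨j, hj⟩ := hoddc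
      have hδpow : δ ^ (2 * j + 1) = 1 := by
        apply Subtype.ext
        show (δ : G) ^ (2 * j + 1) = 1
        rw [← hj]
        have := Subgroup.orderOf_dvd_natCard _ hδD
        exact orderOf_dvd_iff_pow_eq_one.1 this
      have hfδ2 : ((f δ : ℂˣ) : ℂ) ^ 2 ≠ 1 := by
        intro e
        apply hfδ
        have h1 : ((f δ : ℂˣ) : ℂ) ^ (2 * j + 1) = 1 := by
          rw [← Units.val_pow_eq_pow_val, ← map_pow, hδpow, map_one, Units.val_one]
        rw [pow_succ, pow_mul, e, one_pow, one_mul] at h1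
        exact h1
      apply sum_sq_eq_zero f (fun h : stabilizer G a => (h : G) • c = c) δ _ hfδ2
      intro h
      show ((δ : G) * (h : G)) • c = c ↔ (h : G) • c = c
      rw [mul_smul]
      constructor
      · intro h1
        rw [← hδc] at h1
        have := MulAction.injective (δ : G) h1
        rw [hδc] at this
        exact this
      · intro h1
        rw [h1, hδc]
    have hsum : ∑ h : stabilizer G a, μ h * conj (indFun (stabilizer G a) μ (h : G)) =
        (Nat.card (stabilizer G a) : ℂ) := by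
      have h1 : ∀ h : stabilizer G a, μ h * conj (indFun (stabilizer G a) μ (h : G)) =
          (Nat.card (stabilizer G a) : ℂ)⁻¹ * ∑ x : G,
            μ h * conj (extendByZero (stabilizer G a) μ (x⁻¹ * (h : G) * x)) := by
        intro h
        rw [indFun_apply, map_mul, map_inv₀, map_natCast, map_sum, Finset.mul_sum,
          Finset.mul_sum, Finset.mul_sum]
        apply Finset.sum_congr rfl
        intro x _
        ring
      rw [Finset.sum_congr rfl (fun h _ => h1 h), ← Finset.mul_sum, Finset.sum_comm]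
      have h2 : ∀ x : G, ∑ h : stabilizer G a,
          μ h * conj (extendByZero (stabilizer G a) μ (x⁻¹ * (h : G) * x)) =
            (Nat.card (stabilizer G a) : ℂ) * (if x ∈ stabilizer G a then (1 : ℂ) else 0) := by
        intro x
        by_cases hx : x ∈ stabilizer G a
        · rw [if_pos hx, mul_one, hT1 x hx]
        · rw [if_neg hx, mul_zero, hT0 x hx]
      rw [Finset.sum_congr rfl (fun x _ => h2 x), ← Finset.mul_sum, hcardA]
      field_simp
    rw [hsum]
    field_simp
  · intro u hu hu1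
    rw [indFun_apply]
    have hterm : ∀ x : G, extendByZero (stabilizer G a) μ (x⁻¹ * u * x) =
        if x ∈ stabilizer G a then (1 : ℂ) else 0 := by
      intro x
      by_cases hx : x ∈ stabilizer G a
      · rw [if_pos hx]
        have hmemH : x⁻¹ * u * x ∈ H := by
          have := hK.normal x⁻¹ (Subgroup.inv_mem _ hx) u hu
          rwa [inv_inv] at this
        rw [extendByZero_mem _ _ (hK.le hmemH)]
        exact hμH _ hmemH
      · rw [if_neg hx]
        apply extendByZero_not_mem
        intro hm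
        apply hx
        rw [mem_stabilizer_iff, mul_smul, mul_smul, inv_smul_eq_iff] at hm
        rw [mem_stabilizer_iff]
        exact hHfix u hu hu1 _ hm
    rw [Finset.sum_congr rfl (fun x _ => hterm x), hcardA]
    field_simp


/-- Let G be a finite simple Zassenhaus group on Ω with n points, a ≠ b points with two-point stabilizer E of odd order less than n - 2, and let H be the subgroup of the stabilizer of a consisting of the identity and the elements fixing no point other than a (given here as a subgroup of the stabilizer of order one less than the number of points whose non-identity elements fix only a; it is the Frobenius kernel of the stabilizer). Let μ be a character of degree 1 of the stabilizer of a that is identically 1 on H but not identically 1. Then the function induced from μ to G is an irreducible character of G, and it takes the value 1 at every non-identity element of H. -/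
theorem result {G Ω : Type*} [Group G] [Fintype G] [MulAction G Ω] [Fintype Ω] (hZ : Cfsg.IsZassenhausGroup G Ω) {a b : Ω} (hab : a ≠ b) [IsSimpleGroup G] (hodd : Odd (Nat.card ↥(MulAction.stabilizer G a ⊓ MulAction.stabilizer G b : Subgroup G))) (hlt : Nat.card ↥(MulAction.stabilizer G a ⊓ MulAction.stabilizer G b : Subgroup G) < Fintype.card Ω - 2) (H : Subgroup G) (hHa : H ≤ MulAction.stabilizer G a) (hHcard : Nat.card H + 1 = Fintype.card Ω) (hHfix : ∀ u ∈ H, u ≠ 1 → ∀ c : Ω, u • c = c → c = a) (μ : MulAction.stabilizer G a → ℂ) (hμ : Cfsg.IsCharacter (MulAction.stabilizer G a) μ ∧ μ 1 = 1) (hμH : ∀ u : MulAction.stabilizer G a, (u : G) ∈ H → μ u = 1) (hμne : μ ≠ fun _ => 1) : Cfsg.IsIrrCharacter G (Cfsg.indFun (MulAction.stabilizer G a) μ) ∧ ∀ u ∈ H, u ≠ 1 → Cfsg.indFun (MulAction.stabilizer G a) μ u = 1 := by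
  exact main0881 hZ hab hodd H hHa hHcard hHfix μ hμ hμH hμne

end Cfsg.Agent.S0881
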