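import Cfsg.Statements.S0882
import Mathlib
import Cfsg.Agent.Lib.Helper6.ZassCount
import Cfsg.Agent.S0739

set_option autoImplicit false
open Cfsg Cfsg.Agent.Lib.Helper6 Cfsg.Agent.Lib.Helper1 MulAction

namespace Cfsg.Agent.S0882

theorem main0882 {G Ω : Type*} [Group G] [Finite G] [MulAction G Ω] [Fintype Ω] (hZ : Cfsg.IsZassenhausGroup G Ω) {a b : Ω} (hab : a ≠ b) [IsSimpleGroup G] (h e : ℕ) (hh : Fintype.card Ω = h + 1) (he : Nat.card ↥(MulAction.stabilizer G a ⊓ MulAction.stabilizer G b : Subgroup G) = e) (hodd : Odd e) : (∀ x y : G, orderOf x = 2 → orderOf y = 2 → IsConj x y) ∧ Nat.card {x : G // orderOf x = 2} = (if Even h then e * (h + 1) else e * h) := by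
  by_cases hev : Even h
  · have hΩ : Odd (Fintype.card Ω) := by rw [hh]; exact hev.add_one
    refine ⟨fun x y hx hy => zass_invol_conj hZ hΩ hx hy, ?_⟩
    rw [if_pos hev, zass_card_invol_odd hZ hΩ hab, hh, he, mul_comm]
  · have hΩ : Even (Fintype.card Ω) := by
      rw [hh]
      rcases Nat.even_or_odd h with h1 | h1
      · exact absurd h1 hev
      · exact h1.add_one
    have hodd' : Odd (Nat.card ↥(stabilizer G a ⊓ stabilizer G b)) := by rw [he]; exact hodd
    obtain ⟨⟨t, ht, -, -⟩, -, -⟩ := Cfsg.Agent.S0740.result hZ hab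
    have h2G : 2 ∣ Nat.card G := by rw [← ht]; exact orderOf_dvd_natCard t
    have hinvert : ∀ c, a ≠ c → ∀ s : G, s • a = c → s • c = a →
        ∀ y ∈ stabilizer G a ⊓ stabilizer G c, s * y * s⁻¹ = y⁻¹ := by
      intro c hac
      have hoddc : Odd (Nat.card ↥(stabilizer G a ⊓ stabilizer G c)) := by
        rw [zass_card_stab2 hZ hab hac]; exact hodd'
      refine (Cfsg.Agent.S0739.result hZ hac hoddc ?_).2.2
      intro q hq hqd
      rintro ⟨N, hN, hNi⟩
      have hq2 : q ≠ 2 := by
        intro e2
        rw [e2] at hqd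
        exact (Nat.not_even_iff_odd.2 hoddc) (even_iff_two_dvd.2 hqd)
      have hqG : q ∣ Nat.card G := hqd.trans (Subgroup.card_subgroup_dvd_card _)
      have hv : 0 < (Nat.card G).factorization q :=
        hq.factorization_pos_of_dvd Nat.card_pos.ne' hqG
      rcases hN.eq_bot_or_eq_top with hb | htop
      · rw [hb, Subgroup.index_bot] at hNi
        have hoddG : Odd (Nat.card G) := by
          rw [hNi]
          exact (hq.eq_two_or_odd'.resolve_left hq2).pow
        exact (Nat.not_even_iff_odd.2 hoddG) (even_iff_two_dvd.2 h2G)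
      · rw [htop, Subgroup.index_top] at hNi
        have : 1 < q ^ (Nat.card G).factorization q := Nat.one_lt_pow hv.ne' hq.one_lt
        omega
    refine ⟨fun x y hx hy => zass_invol_conj_even hZ hΩ hab hodd' (hinvert b hab) hx hy, ?_⟩
    rw [if_neg hev, zass_card_invol_even hZ hΩ hab hodd' hinvert, hh, he, mul_comm]
    rfl


/-- Let G be a finite simple Zassenhaus group on Ω with n = h + 1 points whose two-point stabilizer E has odd order e with 2e < h - 1. Then any two involutions of G are conjugate, and the number of involutions is e * (h + 1) if h is even and e * h if h is odd. -/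
theorem result {G Ω : Type*} [Group G] [Finite G] [MulAction G Ω] [Fintype Ω] (hZ : Cfsg.IsZassenhausGroup G Ω) {a b : Ω} (hab : a ≠ b) [IsSimpleGroup G] (h e : ℕ) (hh : Fintype.card Ω = h + 1) (he : Nat.card ↥(MulAction.stabilizer G a ⊓ MulAction.stabilizer G b : Subgroup G) = e) (hodd : Odd e) (hlt : 2 * e < h - 1) : (∀ x y : G, orderOf x = 2 → orderOf y = 2 → IsConj x y) ∧ Nat.card {x : G // orderOf x = 2} = (if Even h then e * (h + 1) else e * h) := by
  exact main0882 hZ hab h e hh he hodd

end Cfsg.Agent.S0882
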