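import Cfsg.Statements.S0883
import Mathlib
import Cfsg.Agent.Lib.Helper6.ZassInv

set_option autoImplicit false
open Cfsg Cfsg.Agent.Lib.Helper6 Cfsg.Agent.Lib.Helper1 MulAction

namespace Cfsg.Agent.S0883

theorem main0883 {G Ω : Type*} [Group G] [Finite G] [MulAction G Ω] [Fintype Ω] (hZ : Cfsg.IsZassenhausGroup G Ω) {a b : Ω} (hab : a ≠ b) (e : ℕ) (he : Nat.card ↥(MulAction.stabilizer G a ⊓ MulAction.stabilizer G b : Subgroup G) = e) (hodd : Odd e) (H : Subgroup G) (hHa : H ≤ MulAction.stabilizer G a) (hHfix : ∀ u ∈ H, u ≠ 1 → ∀ c : Ω, u • c = c → c = a) (u : G) (hu : u ∈ H) (hu1 : u ≠ 1) (x y : G) (hx : orderOf x = 2) (hy : orderOf y = 2) (hxy : x * y = u) : orderOf u = 2 := by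
  have hxx : x * x = 1 := by rw [← pow_two, ← hx, pow_orderOf_eq_one]
  have hyy : y * y = 1 := by rw [← pow_two, ← hy, pow_orderOf_eq_one]
  have hxinv : x⁻¹ = x := inv_eq_of_mul_eq_one_right hxx
  have hyinv : y⁻¹ = y := inv_eq_of_mul_eq_one_right hyy
  have hx1 : x ≠ 1 := by
    intro h
    rw [h, orderOf_one] at hx
    norm_num at hx
  have hy1 : y ≠ 1 := by
    intro h
    rw [h, orderOf_one] at hy
    norm_num at hy
  have hua : u • a = a := hHa hu
  -- `x` inverts `u`
  have hxu : u * x = x * u⁻¹ := by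
    rw [← hxy, mul_inv_rev, hxinv, hyinv]
    calc x * y * x = x * (y * x) := by group
      _ = x * (y * x) := rfl
  have hxa : x • a = a := by
    apply hHfix u hu hu1
    have : u⁻¹ • (x • a) = x • a := by
      rw [← mul_smul]
      have e1 : u⁻¹ * x = x * u := by
        calc u⁻¹ * x = u⁻¹ * (x * u⁻¹) * u := by group
          _ = u⁻¹ * (u * x) * u := by rw [hxu]
          _ = x * u := by group
      rw [e1, mul_smul, hua]
    rw [inv_smul_eq_iff] at this
    exact this.symm
  have hya : y • a = a := by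
    have : y = x * u := by
      rw [← hxy, ← mul_assoc, hxx, one_mul]
    rw [this, mul_smul, hua, hxa]
  -- key: involutions fixing `a` fix nothing else
  have hfix : ∀ i : G, orderOf i = 2 → i • a = a → ∀ c, c ≠ a → i • c ≠ c := by
    intro i hi hia c hca hic
    have hii : i * i = 1 := by rw [← pow_two, ← hi, pow_orderOf_eq_one]
    obtain ⟨g, hga, hgb⟩ := zass_exists_map hZ hab (Ne.symm hca)
    have hmem : g⁻¹ * i * g ∈ stabilizer G a ⊓ stabilizer G b := by
      refine ⟨?_, ?_⟩
      · show (g⁻¹ * i * g) • a = a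
        rw [mul_smul, mul_smul, hga, hia, inv_smul_eq_iff, hga]
      · show (g⁻¹ * i * g) • b = b
        rw [mul_smul, mul_smul, hgb, hic, inv_smul_eq_iff, hgb]
    have ho : orderOf (g⁻¹ * i * g) = 2 := by
      have := (MulAut.conj g⁻¹).orderOf_eq i
      rw [MulAut.conj_apply, inv_inv] at this
      rw [this, hi]
    have hd := Subgroup.orderOf_dvd_natCard _ hmem
    rw [ho, he] at hd
    obtain ⟨k, hk⟩ := hodd
    omega
  obtain ⟨K, hK⟩ := exists_zkernel hZ a
  have hxK : x ∈ K := hK.mem x hxa (hfix x hx hxa)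
  have hyK : y ∈ K := hK.mem y hya (hfix y hy hya)
  have hcomm : x * y = y * x := by
    rcases Nat.even_or_odd (Fintype.card Ω) with hev | hod
    · exfalso
      obtain ⟨c, hc⟩ := Cfsg.Agent.S0740.exists_moved hZ hx1
      have hswap : x • (x • c) = c := by rw [← mul_smul, hxx, one_smul]
      obtain ⟨-, hf, -⟩ := Cfsg.Agent.S0740.result hZ (Ne.symm hc)
      have h02 := (hf x hx rfl hswap).2 hev
      have hsub : ∀ z : fixedBy Ω x, z = ⟨a, hxa⟩ := by
        rintro ⟨z, hz⟩
        apply Subtype.ext
        show z = a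
        by_contra hne
        exact hfix x hx hxa z hne hz
      have h1 : Nat.card (fixedBy Ω x) = 1 := by
        rw [Nat.card_eq_one_iff_unique]
        exact ⟨⟨fun p q => (hsub p).trans (hsub q).symm⟩, ⟨⟨a, hxa⟩⟩⟩
      omega
    · exact hK.invol_comm hZ hod hxK hx hyK hy
  have hu2 : u ^ 2 = 1 := by
    rw [pow_two, ← hxy]
    calc x * y * (x * y) = x * (y * x) * y := by group
      _ = x * (x * y) * y := by rw [hcomm]
      _ = (x * x) * (y * y) := by group
      _ = 1 := by rw [hxx, hyy, one_mul]
  exact orderOf_eq_prime hu2 hu1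


/-- Let G be a finite simple Zassenhaus group on Ω with h + 1 points whose two-point stabilizer E has odd order e with 2e < h - 1, and let H be the subgroup of the stabilizer of a consisting of the identity and the elements fixing no point other than a (given here as a subgroup of the stabilizer of order one less than the number of points whose non-identity elements fix only a; it is the Frobenius kernel of the stabilizer). If a non-identity element u of H is a product of two involutions of G, then u is an involution. -/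
theorem result {G Ω : Type*} [Group G] [Finite G] [MulAction G Ω] [Fintype Ω] (hZ : Cfsg.IsZassenhausGroup G Ω) {a b : Ω} (hab : a ≠ b) [IsSimpleGroup G] (h e : ℕ) (hh : Fintype.card Ω = h + 1) (he : Nat.card ↥(MulAction.stabilizer G a ⊓ MulAction.stabilizer G b : Subgroup G) = e) (hodd : Odd e) (hlt : 2 * e < h - 1) (H : Subgroup G) (hHa : H ≤ MulAction.stabilizer G a) (hHcard : Nat.card H + 1 = Fintype.card Ω) (hHfix : ∀ u ∈ H, u ≠ 1 → ∀ c : Ω, u • c = c → c = a) (u : G) (hu : u ∈ H) (hu1 : u ≠ 1) (x y : G) (hx : orderOf x = 2) (hy : orderOf y = 2) (hxy : x * y = u) : orderOf u = 2 := by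
  exact main0883 hZ hab e he hodd H hHa hHfix u hu hu1 x y hx hy hxy

end Cfsg.Agent.S0883
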