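import Cfsg.Statements.S0884
import Mathlib
import Cfsg.Agent.Lib.Helper6.ZassCard
import Cfsg.Agent.Lib.Helper6.ZassSimple
import Cfsg.Agent.Lib.Helper6.InvProd
import Cfsg.Agent.S0882
import Cfsg.Agent.S0883

set_option autoImplicit false
open Cfsg Cfsg.Agent.Lib.Helper6 Cfsg.Agent.Lib.Helper1 MulAction

namespace Cfsg.Agent.S0884

/-- in odd degree, for a given involution the number of involutions with which its product is
an involution -/
theorem card_comm_invol_le {G Ω : Type*} [Group G] [Finite G] [MulAction G Ω] [Fintype Ω]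
    (hZ : Cfsg.IsZassenhausGroup G Ω) (hΩ : Odd (Fintype.card Ω)) {a b : Ω} (hab : a ≠ b)
    (τ : {x : G // orderOf x = 2}) :
    Nat.card {τ' : {x : G // orderOf x = 2} // orderOf (τ.1 * τ'.1) = 2} ≤
      Nat.card ↥(stabilizer G a ⊓ stabilizer G b) - 1 := by
  classical
  obtain ⟨c, hc⟩ := zass_invol_fix_one hZ hΩ τ.2
  obtain ⟨c', hc', -⟩ := zass_exists_third hZ c c
  have hT : Nat.card {x : G // orderOf x = 2 ∧ x • c = c} =
      Nat.card ↥(stabilizer G a ⊓ stabilizer G b) := by
    rw [zass_card_invol_fix hZ hΩ (Ne.symm hc'), zass_card_stab2 hZ hab (Ne.symm hc')]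
  have hτc : τ.1 • c = c := (hc c).2 rfl
  haveI : Fintype {x : G // orderOf x = 2 ∧ x • c = c} := Fintype.ofFinite _
  have hT' : Nat.card {x : {x : G // orderOf x = 2 ∧ x • c = c} // x ≠ ⟨τ.1, τ.2, hτc⟩} =
      Nat.card ↥(stabilizer G a ⊓ stabilizer G b) - 1 := by
    rw [← hT, Nat.card_eq_fintype_card, Nat.card_eq_fintype_card]
    exact Set.card_ne_eq _
  rw [← hT']
  have hsq : ∀ x : {x : G // orderOf x = 2}, x.1 * x.1 = 1 := by
    rintro ⟨x, hx⟩
    show x * x = 1
    rw [← pow_two, ← hx, pow_orderOf_eq_one]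
  have hinvs : ∀ x : {x : G // orderOf x = 2}, x.1⁻¹ = x.1 :=
    fun x => inv_eq_of_mul_eq_one_right (hsq x)
  refine Nat.card_le_card_of_injective
    (fun τ' => (⟨⟨τ'.1.1, τ'.1.2, ?_⟩, ?_⟩ :
      {x : {x : G // orderOf x = 2 ∧ x • c = c} // x ≠ ⟨τ.1, τ.2, hτc⟩})) ?_
  · -- `τ'` fixes `c`
    have h2 : (τ.1 * τ'.1.1) ^ 2 = 1 := by
      have := pow_orderOf_eq_one (τ.1 * τ'.1.1)
      rwa [τ'.2] at this
    have hcomm : τ.1 * τ'.1.1 = τ'.1.1 * τ.1 := by
      have e : (τ.1 * τ'.1.1)⁻¹ = τ.1 * τ'.1.1 := by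
        apply inv_eq_of_mul_eq_one_right
        rw [← pow_two]; exact h2
      rw [mul_inv_rev, hinvs, hinvs] at e
      exact e.symm
    rw [← hc, ← mul_smul, hcomm, mul_smul, hτc]
  · intro e
    have e1 : τ'.1.1 = τ.1 := congrArg (fun x => x.1) e
    have := τ'.2
    rw [e1, hsq, orderOf_one] at this
    norm_num at this
  · intro x y hxy
    have e1 : x.1.1 = y.1.1 := congrArg (fun z => z.1.1) hxy
    exact Subtype.ext (Subtype.ext e1)

theorem main0884 {G Ω : Type*} [Group G] [Finite G] [MulAction G Ω] [Fintype Ω] (hZ : Cfsg.IsZassenhausGroup G Ω) {a b : Ω} (hab : a ≠ b) [IsSimpleGroup G] (h e : ℕ) (hh : Fintype.card Ω = h + 1) (he : Nat.card ↥(MulAction.stabilizer G a ⊓ MulAction.stabilizer G b : Subgroup G) = e) (hodd : Odd e) (hlt : 2 * e < h - 1) (H : Subgroup G) (hHa : H ≤ MulAction.stabilizer G a) (hHcard : Nat.card H + 1 = Fintype.card Ω) (hHfix : ∀ u ∈ H, u ≠ 1 → ∀ c : Ω, u • c = c → c = a) : e ≤ Nat.card {C : ConjClasses G // ∀ g : G, ConjClasses.mk g = C → g ∉ H} := by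
  classical
  haveI : Fintype G := Fintype.ofFinite G
  obtain ⟨P, hPdef⟩ : ∃ P : G → Prop, ∀ g, P g ↔ ∀ k : G, k * g * k⁻¹ ∉ H := ⟨_, fun g => Iff.rfl⟩
  have hP : ∀ g g' : G, IsConj g g' → (P g ↔ P g') := by
    have key : ∀ g g' : G, IsConj g g' → P g → P g' := by
      intro g g' hc hg
      obtain ⟨c, hc⟩ := isConj_iff.1 hc
      rw [hPdef] at hg ⊢
      intro k hk
      apply hg (k * c)
      rw [← hc] at hk
      have e1 : k * c * g * (k * c)⁻¹ = k * (c * g * c⁻¹) * k⁻¹ := by group
      rw [e1]; exact hk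
    intro g g' hc
    exact ⟨key g g' hc, key g' g hc.symm⟩
  have hY : Nat.card {C : ConjClasses G // ∀ g : G, ConjClasses.mk g = C → g ∉ H} =
      Nat.card {C : ConjClasses G // ∀ g : G, ConjClasses.mk g = C → P g} := by
    apply Nat.card_congr
    apply Equiv.subtypeEquivRight
    intro C
    constructor
    · intro hC g hg
      rw [hPdef]
      intro k
      apply hC
      rw [← hg, ConjClasses.mk_eq_mk_iff_isConj]
      exact (isConj_iff.2 ⟨k, rfl⟩).symm
    · intro hC g hg hgH
      have := (hPdef g).1 (hC g hg) 1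
      apply this
      rw [one_mul, inv_one, mul_one]
      exact hgH
  rw [hY]
  obtain ⟨Y, hYdef⟩ : ∃ Y, Y = Nat.card {C : ConjClasses G // ∀ g : G, ConjClasses.mk g = C → P g} :=
    ⟨_, rfl⟩
  rw [← hYdef]
  have hgood := inv_pairs_le P hP
  rw [← hYdef] at hgood
  -- the involution count
  obtain ⟨-, hI⟩ := Cfsg.Agent.S0882.result hZ hab h e hh he hodd hlt
  have hGcard := zass_card_group hZ hab
  rw [hh, he] at hGcard
  have hh1 : h + 1 - 1 = h := by omega
  rw [hh1] at hGcard
  -- splitting the pairs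
  have hsplit : Nat.card ({x : G // orderOf x = 2} × {x : G // orderOf x = 2}) =
      Nat.card {p : {x : G // orderOf x = 2} × {x : G // orderOf x = 2} // P (p.1.1 * p.2.1)} +
      Nat.card {p : {x : G // orderOf x = 2} × {x : G // orderOf x = 2} // ¬ P (p.1.1 * p.2.1)} := by
    rw [Nat.card_eq_fintype_card, Nat.card_eq_fintype_card, Nat.card_eq_fintype_card,
      Fintype.card_subtype_compl]
    have := Fintype.card_subtype_le (fun p : {x : G // orderOf x = 2} × {x : G // orderOf x = 2} =>
      P (p.1.1 * p.2.1))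
    omega
  rw [Nat.card_prod] at hsplit
  have hsq : ∀ x : {x : G // orderOf x = 2}, x.1 * x.1 = 1 := by
    rintro ⟨x, hx⟩
    show x * x = 1
    rw [← pow_two, ← hx, pow_orderOf_eq_one]
  have hinvs : ∀ x : {x : G // orderOf x = 2}, x.1⁻¹ = x.1 :=
    fun x => inv_eq_of_mul_eq_one_right (hsq x)
  -- bad pairs are diagonal or have product an involution
  have hbad : ∀ p : {x : G // orderOf x = 2} × {x : G // orderOf x = 2}, ¬ P (p.1.1 * p.2.1) →
      p.1 = p.2 ∨ (orderOf (p.1.1 * p.2.1) = 2 ∧ Even h) := by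
    intro p hp
    rw [hPdef] at hp
    push Not at hp
    obtain ⟨k, hk⟩ := hp
    by_cases hu1 : k * (p.1.1 * p.2.1) * k⁻¹ = 1
    · left
      have h1 : p.1.1 * p.2.1 = 1 := by
        have : p.1.1 * p.2.1 = k⁻¹ * (k * (p.1.1 * p.2.1) * k⁻¹) * k := by group
        rw [this, hu1]; group
      apply Subtype.ext
      calc p.1.1 = p.1.1 * (p.2.1 * p.2.1) := by rw [hsq, mul_one]
        _ = (p.1.1 * p.2.1) * p.2.1 := by group
        _ = p.2.1 := by rw [h1, one_mul]
    · right
      have ho : ∀ x : {x : G // orderOf x = 2}, orderOf (k * x.1 * k⁻¹) = 2 := by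
        intro x
        have := (MulAut.conj k).orderOf_eq x.1
        rw [MulAut.conj_apply] at this
        rw [this, x.2]
      have hxy : (k * p.1.1 * k⁻¹) * (k * p.2.1 * k⁻¹) = k * (p.1.1 * p.2.1) * k⁻¹ := by group
      have hu2 := Cfsg.Agent.S0883.result hZ hab h e hh he hodd hlt H hHa hHcard hHfix _ hk hu1
        _ _ (ho p.1) (ho p.2) hxy
      constructor
      · have := (MulAut.conj k).orderOf_eq (p.1.1 * p.2.1)
        rw [MulAut.conj_apply] at this
        rw [← this, hu2]
      · have hd := Subgroup.orderOf_dvd_natCard _ hk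
        rw [hu2] at hd
        have : Nat.card H = h := by omega
        rw [this] at hd
        exact even_iff_two_dvd.2 hd
  by_cases hev : Even h
  · -- even case
    rw [if_pos hev] at hI
    have hΩ : Odd (Fintype.card Ω) := by rw [hh]; exact hev.add_one
    have hB2 : Nat.card {p : {x : G // orderOf x = 2} × {x : G // orderOf x = 2} //
        orderOf (p.1.1 * p.2.1) = 2} ≤ Nat.card {x : G // orderOf x = 2} * (e - 1) := by
      have h1 : Nat.card {p : {x : G // orderOf x = 2} × {x : G // orderOf x = 2} //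
          orderOf (p.1.1 * p.2.1) = 2} = Nat.card (Σ τ : {x : G // orderOf x = 2},
            {τ' : {x : G // orderOf x = 2} // orderOf (τ.1 * τ'.1) = 2}) := by
        refine Nat.card_congr ⟨fun p => ⟨p.1.1, p.1.2, p.2⟩, fun q => ⟨(q.1, q.2.1), q.2.2⟩,
          fun p => rfl, fun q => rfl⟩
      haveI : Fintype {x : G // orderOf x = 2} := Fintype.ofFinite _
      rw [h1, Nat.card_sigma]
      calc ∑ τ : {x : G // orderOf x = 2},
            Nat.card {τ' : {x : G // orderOf x = 2} // orderOf (τ.1 * τ'.1) = 2}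
          ≤ ∑ _τ : {x : G // orderOf x = 2}, (e - 1) := by
            apply Finset.sum_le_sum
            intro τ _
            have := card_comm_invol_le hZ hΩ hab τ
            rw [he] at this
            exact this
        _ = Nat.card {x : G // orderOf x = 2} * (e - 1) := by
            rw [Finset.sum_const, Finset.card_univ, smul_eq_mul, Nat.card_eq_fintype_card]
    have hB1 : Nat.card {p : {x : G // orderOf x = 2} × {x : G // orderOf x = 2} // p.1 = p.2} =
        Nat.card {x : G // orderOf x = 2} := by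
      refine Nat.card_congr ⟨fun p => p.1.1, fun x => ⟨(x, x), rfl⟩, ?_, fun x => rfl⟩
      rintro ⟨⟨x, y⟩, hxy⟩
      apply Subtype.ext
      exact Prod.ext rfl hxy
    have hbadle : Nat.card {p : {x : G // orderOf x = 2} × {x : G // orderOf x = 2} //
        ¬ P (p.1.1 * p.2.1)} ≤
        Nat.card {p : {x : G // orderOf x = 2} × {x : G // orderOf x = 2} // p.1 = p.2} +
        Nat.card {p : {x : G // orderOf x = 2} × {x : G // orderOf x = 2} //
          orderOf (p.1.1 * p.2.1) = 2} := by
      rw [Nat.card_eq_fintype_card, Nat.card_eq_fintype_card, Nat.card_eq_fintype_card,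
        Fintype.card_subtype, Fintype.card_subtype, Fintype.card_subtype]
      refine le_trans (Finset.card_le_card ?_) (Finset.card_union_le _ _)
      intro p hp
      rw [Finset.mem_filter] at hp
      rw [Finset.mem_union, Finset.mem_filter, Finset.mem_filter]
      rcases hbad p hp.2 with h1 | h1
      · exact Or.inl ⟨Finset.mem_univ _, h1⟩
      · exact Or.inr ⟨Finset.mem_univ _, h1.1⟩
    rw [hB1] at hbadle
    rw [hI] at hsplit hbadle hB2
    rw [hGcard] at hgood
    -- arithmetic
    obtain ⟨e', rfl⟩ : ∃ e', e = e' + 1 := ⟨e - 1, by obtain ⟨k, hk⟩ := hodd; omega⟩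
    simp only [Nat.add_sub_cancel] at hB2 hbadle
    have hpos : 0 < h := by omega
    by_contra hcon
    push Not at hcon
    have h1 : Y ≤ e' := by omega
    have h2 : Y * ((h + 1) * h * (e' + 1)) ≤ e' * ((h + 1) * h * (e' + 1)) :=
      Nat.mul_le_mul_right _ h1
    have h3 : (e' + 1) * (h + 1) * ((e' + 1) * (h + 1)) ≤
        e' * ((h + 1) * h * (e' + 1)) + ((e' + 1) * (h + 1) + (e' + 1) * (h + 1) * e') := by
      omega
    nlinarith
  · -- odd case
    rw [if_neg hev] at hI
    have hB1 : Nat.card {p : {x : G // orderOf x = 2} × {x : G // orderOf x = 2} // p.1 = p.2} =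
        Nat.card {x : G // orderOf x = 2} := by
      refine Nat.card_congr ⟨fun p => p.1.1, fun x => ⟨(x, x), rfl⟩, ?_, fun x => rfl⟩
      rintro ⟨⟨x, y⟩, hxy⟩
      apply Subtype.ext
      exact Prod.ext rfl hxy
    have hbadle : Nat.card {p : {x : G // orderOf x = 2} × {x : G // orderOf x = 2} //
        ¬ P (p.1.1 * p.2.1)} ≤
        Nat.card {p : {x : G // orderOf x = 2} × {x : G // orderOf x = 2} // p.1 = p.2} := by
      rw [Nat.card_eq_fintype_card, Nat.card_eq_fintype_card,
        Fintype.card_subtype, Fintype.card_subtype]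
      apply Finset.card_le_card
      intro p hp
      rw [Finset.mem_filter] at hp ⊢
      rcases hbad p hp.2 with h1 | h1
      · exact ⟨Finset.mem_univ _, h1⟩
      · exact absurd h1.2 hev
    rw [hB1] at hbadle
    rw [hI] at hsplit hbadle
    rw [hGcard] at hgood
    have hpos : 0 < h := by omega
    have hepos : 0 < e := by obtain ⟨k, hk⟩ := hodd; omega
    by_contra hcon
    push Not at hcon
    obtain ⟨e', rfl⟩ : ∃ e', e = e' + 1 := ⟨e - 1, by omega⟩
    have h1 : Y ≤ e' := by omega
    have h2 : Y * ((h + 1) * h * (e' + 1)) ≤ e' * ((h + 1) * h * (e' + 1)) :=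
      Nat.mul_le_mul_right _ h1
    have h3 : (e' + 1) * h * ((e' + 1) * h) ≤
        e' * ((h + 1) * h * (e' + 1)) + (e' + 1) * h := by
      omega
    have h4 : e' + 1 < h := by omega
    nlinarith


/-- Let G be a finite simple Zassenhaus group on Ω with h + 1 points whose two-point stabilizer E has odd order e with 2e < h - 1, and let H be the subgroup of the stabilizer of a consisting of the identity and the elements fixing no point other than a (given here as a subgroup of the stabilizer of order one less than the number of points whose non-identity elements fix only a; it is the Frobenius kernel of the stabilizer). Then at least e conjugacy classes of G contain no element of H. -/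
theorem result {G Ω : Type*} [Group G] [Finite G] [MulAction G Ω] [Fintype Ω] (hZ : Cfsg.IsZassenhausGroup G Ω) {a b : Ω} (hab : a ≠ b) [IsSimpleGroup G] (h e : ℕ) (hh : Fintype.card Ω = h + 1) (he : Nat.card ↥(MulAction.stabilizer G a ⊓ MulAction.stabilizer G b : Subgroup G) = e) (hodd : Odd e) (hlt : 2 * e < h - 1) (H : Subgroup G) (hHa : H ≤ MulAction.stabilizer G a) (hHcard : Nat.card H + 1 = Fintype.card Ω) (hHfix : ∀ u ∈ H, u ≠ 1 → ∀ c : Ω, u • c = c → c = a) : e ≤ Nat.card {C : ConjClasses G // ∀ g : G, ConjClasses.mk g = C → g ∉ H} := by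
  exact main0884 hZ hab h e hh he hodd hlt H hHa hHcard hHfix

end Cfsg.Agent.S0884
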