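import Cfsg.Statements.S0887
import Cfsg.Agent.Lib.Helper8.ProjLift2
import Cfsg.Agent.Lib.Helper8.CharCliffordCorr
import Cfsg.Agent.Lib.Helper8.CharClassSum
import Cfsg.Agent.S0854

set_option autoImplicit false
open Cfsg

namespace Cfsg.Agent.S0887

open Cfsg.Agent.Lib.Helper8

/-- Let N be a normal subgroup of the finite group G, χ an irreducible character of G and ϑ an irreducible character of N having nonzero inner product with the restriction of χ. If χ 1 = c and ϑ 1 = d as natural numbers, then d divides c and c / d divides the index of N. -/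
theorem result {G : Type*} [Group G] [Fintype G] (N : Subgroup G) [N.Normal] [Fintype N] (χ : G → ℂ) (hχ : Cfsg.IsIrrCharacter G χ) (ϑ : N → ℂ) (hϑ : Cfsg.IsIrrCharacter N ϑ) (hcon : Cfsg.classInner (fun n : N => χ n) ϑ ≠ 0) (c d : ℕ) (hc : χ 1 = c) (hd : ϑ 1 = d) : d ∣ c ∧ c / d ∣ N.index := by
  classical
  have hN : N.Normal := inferInstance
  set T := inertiaSubgroup hN ϑ with hTdef
  have : Fintype T := Fintype.ofFinite T
  have hT : ∀ g : G, g ∈ T ↔ ∀ n : N, ϑ ⟨g * n * g⁻¹, hN.conj_mem (n : G) n.2 g⟩ = ϑ n :=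
    mem_inertiaSubgroup hN ϑ
  have hHT : N ≤ T :=
    le_inertiaSubgroup hN (isClassFunction_of_isCharacter (irr_isCharacter hϑ))
  obtain ⟨ψ, hψ, hind, hmult⟩ := Cfsg.Agent.S0854.result N ϑ hϑ T hT hHT χ hχ hcon
  have hNT : (N.subgroupOf T).Normal := inferInstance
  have : Fintype (N.subgroupOf T) := Fintype.ofFinite _
  have hinv' : ∀ (g : T) (n : N.subgroupOf T),
      subOfFun N T ϑ (MulAut.conjNormal g n) = subOfFun N T ϑ n := by
    intro g n
    have h1 := (hT g.1).mp g.2 ⟨n.1.1, Subgroup.mem_subgroupOf.mp n.2⟩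
    exact h1
  have hcon' : classInner (fun x : N.subgroupOf T => ψ x) (subOfFun N T ϑ) ≠ 0 := by
    rw [classInner_subOfFun hHT, hmult]; exact hcon
  obtain ⟨e, hdeg, hdvd⟩ := invariant_ratio_dvd (N.subgroupOf T) ⟨ψ, hψ⟩
    ⟨subOfFun N T ϑ, subOfFun_irr hHT hϑ⟩ hinv' hcon'
  simp only at hdeg
  have hdegϑ : Cfsg.charDegree (subOfFun N T ϑ) = d := by
    have h1 := irr_one_eq_charDegree (⟨subOfFun N T ϑ, subOfFun_irr hHT hϑ⟩ :
      IrrCharacter (N.subgroupOf T))
    have h2 : subOfFun N T ϑ 1 = ϑ 1 := rfl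
    simp only at h1
    rw [h2, hd] at h1
    exact_mod_cast h1.symm
  rw [hdegϑ] at hdeg
  have hψ1 : ψ 1 = ((e * d : ℕ) : ℂ) := by
    rw [← hdeg]
    exact irr_one_eq_charDegree (⟨ψ, hψ⟩ : IrrCharacter T)
  have hc' : c = T.index * (e * d) := by
    have h1 : χ 1 = (T.index : ℂ) * ψ 1 := by
      rw [← hind, indFun_one]
    rw [hc, hψ1] at h1
    exact_mod_cast h1
  have hdpos : 0 < d := by
    rcases Nat.eq_zero_or_pos d with h | h
    · exfalso
      apply irr_one_ne_zero (⟨ϑ, hϑ⟩ : IrrCharacter N)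
      show ϑ 1 = 0
      rw [hd, h]; simp
    · exact h
  refine ⟨⟨T.index * e, by rw [hc']; ring⟩, ?_⟩
  have hcd : c / d = T.index * e := by
    rw [hc', ← mul_assoc, Nat.mul_div_cancel _ hdpos]
  rw [hcd, ← Subgroup.relIndex_mul_index hHT, mul_comm]
  exact Nat.mul_dvd_mul hdvd dvd_rfl

end Cfsg.Agent.S0887
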