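import Cfsg.Statements.S0895
import Cfsg.Agent.Lib.Helper8.CharFS
import Cfsg.Agent.Lib.Helper8.CharSchur

set_option autoImplicit false
open Cfsg

namespace Cfsg.Agent.S0895

open Cfsg.Agent.Lib.Helper8
open scoped ComplexConjugate
open Matrix

variable {G : Type*} [Group G]

theorem invariant_form_det_ne_zero {n : ℕ} (ρ : Representation ℂ G (Fin n → ℂ)) (hρ : ρ.IsIrreducible)
    (M : Matrix (Fin n) (Fin n) ℂ) (hM0 : M ≠ 0)
    (hM : ∀ g : G, (LinearMap.toMatrix' (ρ g)).transpose * M * LinearMap.toMatrix' (ρ g) = M) :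
    M.det ≠ 0 := by
  set X : G → Matrix (Fin n) (Fin n) ℂ := fun g => LinearMap.toMatrix' (ρ g) with hXdef
  have hX : ∀ g h : G, X (g * h) = X g * X h := by
    intro g h
    simp only [hXdef]
    rw [map_mul, LinearMap.toMatrix'_mul]
  have hX1 : X 1 = 1 := by
    simp only [hXdef]
    rw [map_one]
    exact LinearMap.toMatrix'_one
  have hMX : ∀ g : G, M * X g = (X g⁻¹).transpose * M := by
    intro g
    have h1 : (X g⁻¹).transpose * (X g).transpose = 1 := by
      rw [← Matrix.transpose_mul, ← hX, mul_inv_cancel, hX1, Matrix.transpose_one]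
    calc M * X g = ((X g⁻¹).transpose * (X g).transpose) * M * X g := by rw [h1, Matrix.one_mul]
      _ = (X g⁻¹).transpose * ((X g).transpose * M * X g) := by simp only [Matrix.mul_assoc]
      _ = (X g⁻¹).transpose * M := by rw [hM g]
  set K : Submodule ℂ (Fin n → ℂ) := LinearMap.ker (Matrix.mulVecLin M) with hK
  have hKinv : ∀ g : G, ∀ v ∈ K, ρ g v ∈ K := by
    intro g v hv
    rw [hK, LinearMap.mem_ker, Matrix.mulVecLin_apply] at hv ⊢
    have : ρ g v = X g *ᵥ v := by
      simp only [hXdef]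
      rw [LinearMap.toMatrix'_mulVec]
    rw [this, Matrix.mulVec_mulVec, hMX g, ← Matrix.mulVec_mulVec, hv, Matrix.mulVec_zero]
  rcases irreducible_submodule hρ K hKinv with hbot | htop
  · have hinj : Function.Injective (Matrix.mulVecLin M) := LinearMap.ker_eq_bot.mp hbot
    have hunit : IsUnit M := Matrix.mulVec_injective_iff_isUnit.mp hinj
    exact ((Matrix.isUnit_iff_isUnit_det M).mp hunit).ne_zero
  · exfalso
    apply hM0
    have : Matrix.mulVecLin M = 0 := LinearMap.ker_eq_top.mp htop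
    ext i j
    have h2 := congrFun (LinearMap.congr_fun this (Pi.single j 1)) i
    simpa using h2

theorem fs_odd_degree [Fintype G] (χ : G → ℂ) (hχ : Cfsg.IsIrrCharacter G χ) (hreal : ∀ g : G, (χ g).im = 0) (d : ℕ) (hd : χ 1 = d) (hodd : Odd d) : (Nat.card G : ℂ)⁻¹ * ∑ s : G, χ (s * s) = 1 := by
  obtain ⟨n, ρ, hρ, rfl⟩ := hχ
  have hn : n = d := by
    rw [Representation.char_one] at hd
    simp only [Module.finrank_fin_fun] at hd
    exact_mod_cast hd
  subst hn
  obtain ⟨-, h1⟩ := fs_main n ρ hρ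
  obtain ⟨hν, ⟨M, hM0, hM⟩, hall⟩ := h1 hreal
  rcases hν with h | h
  · exact h
  · exfalso
    have hT := hall M hM
    rw [h] at hT
    have hdet := invariant_form_det_ne_zero ρ hρ M hM0 hM
    have h2 : M.transpose.det = ((-1 : ℂ) • M).det := by rw [hT]
    rw [Matrix.det_transpose, Matrix.det_smul, Fintype.card_fin, hodd.neg_one_pow] at h2
    apply hdet
    linear_combination (1 / 2 : ℂ) * h2

/-- Let χ be a real-valued irreducible character of a finite group G whose degree is an odd natural number. Then the average over s in G of χ (s * s) equals 1. -/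
theorem result {G : Type*} [Group G] [Fintype G] (χ : G → ℂ) (hχ : Cfsg.IsIrrCharacter G χ) (hreal : ∀ g : G, (χ g).im = 0) (d : ℕ) (hd : χ 1 = d) (hodd : Odd d) : (Nat.card G : ℂ)⁻¹ * ∑ s : G, χ (s * s) = 1 := by
  exact fs_odd_degree χ hχ hreal d hd hodd

end Cfsg.Agent.S0895
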