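import Cfsg.Statements.S0896
import Cfsg.Agent.Lib.Helper8.DadeElem2

set_option autoImplicit false
open scoped ComplexConjugate
open Cfsg

namespace Cfsg.Agent.S0896

open Cfsg.Agent.Lib.Helper8
/-- The isomorphism `E ⊓ N ≃* N.subgroupOf E`. -/
def infEquiv {G : Type*} [Group G] (E N : Subgroup G) : ↥(E ⊓ N) ≃* ↥(N.subgroupOf E) where
  toFun x := ⟨⟨(x : G), x.2.1⟩, Subgroup.mem_subgroupOf.mpr x.2.2⟩
  invFun d := ⟨((d : E) : G), ⟨(d : E).2, Subgroup.mem_subgroupOf.mp d.2⟩⟩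
  left_inv _ := rfl
  right_inv _ := rfl
  map_mul' _ _ := rfl

/-- Let N be a normal subgroup of the finite group G with the index of N a power of the prime p, and ϑ an irreducible character of N invariant under conjugation by G. Then there are a p-elementary subgroup E of G with E ⊔ N = ⊤ and an irreducible character φ of the subgroup E ⊓ N, invariant under conjugation by E, such that the inner product of the restriction of ϑ to E ⊓ N with φ is an integer not divisible by p. -/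
theorem result {G : Type*} [Group G] [Fintype G] (p : ℕ) (hp : p.Prime) (N : Subgroup G) [hN : N.Normal] (hind : ∃ k : ℕ, N.index = p ^ k) (ϑ : N → ℂ) (hϑ : Cfsg.IsIrrCharacter N ϑ) (hinv : ∀ (g : G) (n : N), ϑ ⟨g * n * g⁻¹, hN.conj_mem (n : G) n.2 g⟩ = ϑ n) : ∃ (E : Subgroup G) (φ : ↥(E ⊓ N) → ℂ), Cfsg.IsElementary p E ∧ E ⊔ N = ⊤ ∧ Cfsg.IsIrrCharacter ↥(E ⊓ N) φ ∧ (∀ (g : G) (hg : g ∈ E) (x : ↥(E ⊓ N)), φ ⟨g * x * g⁻¹, ⟨(E.mul_mem (E.mul_mem hg x.2.1) (E.inv_mem hg)), hN.conj_mem (x : G) x.2.2 g⟩⟩ = φ x) ∧ ∃ m : ℕ, ¬ p ∣ m ∧ (Nat.card ↥(E ⊓ N) : ℂ)⁻¹ * ∑ᶠ x : ↥(E ⊓ N), ϑ ⟨(x : G), x.2.2⟩ * conj (φ x) = (m : ℂ) := by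
  classical
  have hinv' : ∀ g : G, conjChar hN ϑ g = ϑ := by
    intro g; ext n; rw [conjChar_apply]; exact hinv g n
  obtain ⟨E, hE, hsup, φ', hφ', hφinv, c, hpc, hc⟩ := dade_elementary p hp N hind ϑ hϑ hinv'
  refine ⟨E, φ' ∘ infEquiv E N, hE, hsup, ?_, ?_, c, hpc, ?_⟩
  · exact isIrrCharacter_comp_surjective (infEquiv E N).toMonoidHom (infEquiv E N).surjective hφ'
  · intro g hg x
    have := congrFun (hφinv ⟨g, hg⟩) (infEquiv E N x)
    rw [conjChar_apply] at this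
    simp only [Function.comp_apply]
    rw [← this]
    congr 1
  · rw [finsum_eq_sum_of_fintype]
    have h1 := hc inferInstance
    unfold classInner at h1
    rw [← h1]
    congr 1
    · rw [Nat.card_congr (infEquiv E N).toEquiv]
    · apply Fintype.sum_equiv (infEquiv E N).toEquiv
      intro x
      rfl

end Cfsg.Agent.S0896
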