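import Cfsg.Statements.S0900
import Cfsg.Agent.Lib.Helper8.CharRamified

set_option autoImplicit false
open Cfsg

namespace Cfsg.Agent.S0900

open Cfsg.Agent.Lib.Helper8

/-- Let N be a normal subgroup of the finite group G, χ an irreducible character of G and ϑ an irreducible character of N having nonzero inner product with the restriction of χ. Consider: (a) the restriction of χ to N is e • ϑ for a natural number e with e ^ 2 equal to the index of N; (b) χ vanishes outside N and ϑ is invariant under conjugation by G; (c) ϑ is invariant and every irreducible character of G having nonzero inner product with the function induced from ϑ equals χ. Then (a) ↔ (b) and (a) ↔ (c). -/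
theorem result {G : Type*} [Group G] [Fintype G] (N : Subgroup G) [hN : N.Normal] [Fintype N] (χ : G → ℂ) (hχ : Cfsg.IsIrrCharacter G χ) (ϑ : N → ℂ) (hϑ : Cfsg.IsIrrCharacter N ϑ) (hcon : Cfsg.classInner (fun n : N => χ n) ϑ ≠ 0) : ((∃ e : ℕ, (fun n : N => χ n) = (e : ℂ) • ϑ ∧ e ^ 2 = N.index) ↔ ((∀ g : G, g ∉ N → χ g = 0) ∧ ∀ (g : G) (n : N), ϑ ⟨g * n * g⁻¹, hN.conj_mem (n : G) n.2 g⟩ = ϑ n)) ∧ ((∃ e : ℕ, (fun n : N => χ n) = (e : ℂ) • ϑ ∧ e ^ 2 = N.index) ↔ (∀ (g : G) (n : N), ϑ ⟨g * n * g⁻¹, hN.conj_mem (n : G) n.2 g⟩ = ϑ n ∧ ∀ ψ : G → ℂ, Cfsg.IsIrrCharacter G ψ → Cfsg.classInner (Cfsg.indFun N ϑ) ψ ≠ 0 → ψ = χ)) := by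
  classical
  set P : Prop := ∃ e : ℕ, (fun n : N => χ n) = (e : ℂ) • ϑ ∧ e ^ 2 = N.index with hP
  have hχcf : IsClassFunction G χ := isClassFunction_of_isCharacter (irr_isCharacter hχ)
  -- (a) implies invariance
  have hA : P → ∀ (g : G) (n : N), ϑ ⟨g * n * g⁻¹, hN.conj_mem (n : G) n.2 g⟩ = ϑ n := by
    rintro ⟨e, he, he2⟩ g n
    have he0 : (e : ℂ) ≠ 0 := by
      intro h0
      have : e = 0 := by exact_mod_cast h0
      rw [this] at he2
      have := Subgroup.index_ne_zero_of_finite (H := N)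
      simp at he2
      exact this he2.symm
    have h1 := congrFun he n
    have h2 := congrFun he ⟨g * n * g⁻¹, hN.conj_mem (n : G) n.2 g⟩
    simp only [Pi.smul_apply, smul_eq_mul] at h1 h2
    rw [hχcf (n : G) g, h1] at h2
    exact (mul_left_cancel₀ he0 h2).symm
  -- invariance gives χ_N = k ϑ
  obtain ⟨k, hk⟩ := classInner_character_irr_nat (isCharacter_restrict N (irr_isCharacter hχ)) hϑ
  have hB : (∀ (g : G) (n : N), ϑ ⟨g * n * g⁻¹, hN.conj_mem (n : G) n.2 g⟩ = ϑ n) →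
      (fun n : N => χ n) = (k : ℂ) • ϑ := by
    intro hinv
    rw [← hk]
    exact clifford_invariant hN hχ hϑ hcon (fun g => funext (fun n => hinv g n))
  constructor
  · constructor
    · intro hp
      obtain ⟨e, he, he2⟩ := hp
      exact ⟨(vanish_off_iff hχ hϑ e he).mpr he2, hA ⟨e, he, he2⟩⟩
    · rintro ⟨hv, hinv⟩
      exact ⟨k, hB hinv, (vanish_off_iff hχ hϑ k (hB hinv)).mp hv⟩
  · constructor
    · intro hp g n
      obtain ⟨e, he, he2⟩ := hp
      exact ⟨hA ⟨e, he, he2⟩ g n, (unique_constituent_iff hχ hϑ e he).mp he2⟩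
    · intro h
      have hinv : ∀ (g : G) (n : N), ϑ ⟨g * n * g⁻¹, hN.conj_mem (n : G) n.2 g⟩ = ϑ n :=
        fun g n => (h g n).1
      exact ⟨k, hB hinv, (unique_constituent_iff hχ hϑ k (hB hinv)).mpr (h 1 1).2⟩

end Cfsg.Agent.S0900
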