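import Mathlib
import Cfsg.Statements.S0903

set_option autoImplicit false
open Cfsg

namespace Cfsg.Agent.S0903

/-- Let P be a p-subgroup of the finite group G, let c centralize P and let g, h ∈ G. The number of pairs (x, y) with x conjugate to g, y conjugate to h and x * y = c is congruent modulo p to the number of such pairs in which x and y both centralize P. (This is why the Brauer map on class sums is multiplicative.) -/
theorem result {G : Type*} [Group G] [Finite G] (p : ℕ) [Fact p.Prime] (P : Subgroup G) (hP : IsPGroup p P) (c : G) (hc : c ∈ Subgroup.centralizer (P : Set G)) (g h : G) : Nat.card {xy : G × G // IsConj g xy.1 ∧ IsConj h xy.2 ∧ xy.1 * xy.2 = c} ≡ Nat.card {xy : G × G // IsConj g xy.1 ∧ IsConj h xy.2 ∧ xy.1 * xy.2 = c ∧ xy.1 ∈ Subgroup.centralizer (P : Set G) ∧ xy.2 ∈ Subgroup.centralizer (P : Set G)} [MOD p] := by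
  classical
  have hsm : ∀ (u : P) (xy : {xy : G × G // IsConj g xy.1 ∧ IsConj h xy.2 ∧ xy.1 * xy.2 = c}),
      IsConj g ((u : G) * xy.1.1 * (u : G)⁻¹) ∧ IsConj h ((u : G) * xy.1.2 * (u : G)⁻¹) ∧
        ((u : G) * xy.1.1 * (u : G)⁻¹) * ((u : G) * xy.1.2 * (u : G)⁻¹) = c := by
    intro u xy
    refine ⟨xy.2.1.trans (isConj_iff.2 ⟨u, rfl⟩), xy.2.2.1.trans (isConj_iff.2 ⟨u, rfl⟩), ?_⟩
    have h1 : ((u : G) * xy.1.1 * (u : G)⁻¹) * ((u : G) * xy.1.2 * (u : G)⁻¹) = (u : G) * (xy.1.1 * xy.1.2) * (u : G)⁻¹ := by group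
    rw [h1, xy.2.2.2, Subgroup.mem_centralizer_iff.1 hc (u : G) u.2]
    group
  letI : MulAction P {xy : G × G // IsConj g xy.1 ∧ IsConj h xy.2 ∧ xy.1 * xy.2 = c} :=
    { smul := fun u xy => ⟨((u : G) * xy.1.1 * (u : G)⁻¹, (u : G) * xy.1.2 * (u : G)⁻¹), hsm u xy⟩
      one_smul := fun xy => by
        apply Subtype.ext
        show (((1 : P) : G) * xy.1.1 * ((1 : P) : G)⁻¹, ((1 : P) : G) * xy.1.2 * ((1 : P) : G)⁻¹) = xy.1
        simp
      mul_smul := fun u v xy => by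
        apply Subtype.ext
        show (((u * v : P) : G) * xy.1.1 * ((u * v : P) : G)⁻¹, ((u * v : P) : G) * xy.1.2 * ((u * v : P) : G)⁻¹) =
          ((u : G) * ((v : G) * xy.1.1 * (v : G)⁻¹) * (u : G)⁻¹, (u : G) * ((v : G) * xy.1.2 * (v : G)⁻¹) * (u : G)⁻¹)
        rw [Subgroup.coe_mul]
        apply Prod.ext <;> simp [mul_assoc] }
  have hsmul_def : ∀ (u : P) (xy : {xy : G × G // IsConj g xy.1 ∧ IsConj h xy.2 ∧ xy.1 * xy.2 = c}),
      (u • xy).1 = ((u : G) * xy.1.1 * (u : G)⁻¹, (u : G) * xy.1.2 * (u : G)⁻¹) := fun _ _ => rfl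
  have key := hP.card_modEq_card_fixedPoints {xy : G × G // IsConj g xy.1 ∧ IsConj h xy.2 ∧ xy.1 * xy.2 = c}
  have hcongr : Nat.card (MulAction.fixedPoints P {xy : G × G // IsConj g xy.1 ∧ IsConj h xy.2 ∧ xy.1 * xy.2 = c}) =
      Nat.card {xy : G × G // IsConj g xy.1 ∧ IsConj h xy.2 ∧ xy.1 * xy.2 = c ∧ xy.1 ∈ Subgroup.centralizer (P : Set G) ∧ xy.2 ∈ Subgroup.centralizer (P : Set G)} := by
    apply Nat.card_congr
    refine
      { toFun := fun z => ⟨z.1.1, z.1.2.1, z.1.2.2.1, z.1.2.2.2, ?_, ?_⟩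
        invFun := fun z => ⟨⟨z.1, z.2.1, z.2.2.1, z.2.2.2.1⟩, ?_⟩
        left_inv := fun z => rfl
        right_inv := fun z => rfl }
    · rw [Subgroup.mem_centralizer_iff]
      intro u hu
      have := z.2 ⟨u, hu⟩
      have h1 := congrArg (fun t => t.1.1) this
      simp only [hsmul_def] at h1
      have h2 : u * z.1.1.1 * u⁻¹ = z.1.1.1 := h1
      have h3 : u * z.1.1.1 = (u * z.1.1.1 * u⁻¹) * u := by group
      rw [h3, h2]
    · rw [Subgroup.mem_centralizer_iff]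
      intro u hu
      have := z.2 ⟨u, hu⟩
      have h1 := congrArg (fun t => t.1.2) this
      simp only [hsmul_def] at h1
      have h2 : u * z.1.1.2 * u⁻¹ = z.1.1.2 := h1
      have h3 : u * z.1.1.2 = (u * z.1.1.2 * u⁻¹) * u := by group
      rw [h3, h2]
    · intro u
      apply Subtype.ext
      rw [hsmul_def]
      have h4 := Subgroup.mem_centralizer_iff.1 z.2.2.2.2.1 (u : G) u.2
      have h5 := Subgroup.mem_centralizer_iff.1 z.2.2.2.2.2 (u : G) u.2
      apply Prod.ext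
      · show (u : G) * z.1.1 * (u : G)⁻¹ = z.1.1
        rw [h4]; group
      · show (u : G) * z.1.2 * (u : G)⁻¹ = z.1.2
        rw [h5]; group
  rw [← hcongr]
  exact key

end Cfsg.Agent.S0903
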