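import Mathlib
import Cfsg.Statements.S0916
import Cfsg.Agent.Lib.Helper9.SylowConj
import Cfsg.Agent.Lib.Helper7.Conj
import Cfsg.Agent.Lib.Helper7.PGroupNormalizer

set_option autoImplicit false
open Cfsg

namespace Cfsg.Agent.S0916

open Cfsg.Agent.Lib.Helper7 Cfsg.Agent.Lib.Helper9

/-- Unpack the "defect group" hypothesis. -/
theorem unpack {G : Type*} [Group G] [Finite G] (p : ℕ) [Fact p.Prime] (P H : Subgroup G)
    (h : ∃ S : Sylow p H, (S : Subgroup H).map H.subtype = P) :
    P ≤ H ∧ Nat.card P = p ^ (Nat.card H).factorization p := by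
  obtain ⟨S, hS⟩ := h
  refine ⟨hS ▸ Subgroup.map_subtype_le _, ?_⟩
  rw [← hS, Subgroup.card_map_of_injective H.subtype_injective, Sylow.card_eq_multiplicity]

/-- Repack the "defect group" hypothesis. -/
theorem repack {G : Type*} [Group G] [Finite G] (p : ℕ) [Fact p.Prime] (P H : Subgroup G)
    (hPH : P ≤ H) (hc : Nat.card P = p ^ (Nat.card H).factorization p) :
    ∃ S : Sylow p H, (S : Subgroup H).map H.subtype = P := by
  obtain ⟨S, hS⟩ := (exists_sylow_eq_subgroupOf_iff p hPH).2 hc
  exact ⟨S, by rw [hS, Subgroup.map_subgroupOf_eq_of_le hPH]⟩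

theorem centralizer_conj {G : Type*} [Group G] (a x : G) :
    Subgroup.centralizer ({a * x * a⁻¹} : Set G) =
      (Subgroup.centralizer ({x} : Set G)).map (MulAut.conj a).toMonoidHom := by
  ext y
  rw [mem_map_conj, Subgroup.mem_centralizer_singleton_iff, Subgroup.mem_centralizer_singleton_iff]
  constructor
  · intro h
    have : a⁻¹ * (y * (a * x * a⁻¹)) * a = a⁻¹ * ((a * x * a⁻¹) * y) * a := by rw [h]
    calc a⁻¹ * y * a * x = a⁻¹ * (y * (a * x * a⁻¹)) * a := by group
      _ = a⁻¹ * ((a * x * a⁻¹) * y) * a := this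
      _ = x * (a⁻¹ * y * a) := by group
  · intro h
    calc y * (a * x * a⁻¹) = a * (a⁻¹ * y * a * x) * a⁻¹ := by group
      _ = a * (x * (a⁻¹ * y * a)) * a⁻¹ := by rw [h]
      _ = a * x * a⁻¹ * y := by group

/-- Let P be a p-subgroup of the finite group G, C its centralizer and N its normalizer. Say that a conjugacy class (of G, or of N) has defect group P when P is a Sylow p-subgroup of the centralizer (in G, respectively in N) of some element of the class. Then: (i) if the class of g in G has defect group P, the elements of that class lying in C form a single N-class, again with defect group P; (ii) every N-class with defect group P arises this way from exactly one G-class with defect group P. -/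
theorem result {G : Type*} [Group G] [Finite G] (p : ℕ) [Fact p.Prime] (P : Subgroup G) (hP : IsPGroup p P) : (∀ g : G, (∃ S : Sylow p (Subgroup.centralizer ({g} : Set G)), (S : Subgroup (Subgroup.centralizer ({g} : Set G))).map (Subgroup.centralizer ({g} : Set G)).subtype = P) → (∃ c : G, IsConj g c ∧ c ∈ Subgroup.centralizer (P : Set G)) ∧ (∀ c₁ c₂ : G, IsConj g c₁ → IsConj g c₂ → c₁ ∈ Subgroup.centralizer (P : Set G) → c₂ ∈ Subgroup.centralizer (P : Set G) → ∃ n ∈ Subgroup.normalizer (P : Set G), n * c₁ * n⁻¹ = c₂)) ∧ (∀ c : G, c ∈ Subgroup.centralizer (P : Set G) → (∃ S : Sylow p (Subgroup.centralizer ({c} : Set G) ⊓ Subgroup.normalizer (P : Set G) : Subgroup G), (S : Subgroup ↥(Subgroup.centralizer ({c} : Set G) ⊓ Subgroup.normalizer (P : Set G))).map (Subgroup.centralizer ({c} : Set G) ⊓ Subgroup.normalizer (P : Set G)).subtype = P) → ∃ S : Sylow p (Subgroup.centralizer ({c} : Set G)), (S : Subgroup (Subgroup.centralizer ({c} : Set G))).map (Subgroup.centralizer ({c} : Set G)).subtype = P)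 := by
  classical
  have hpp : p.Prime := Fact.out
  -- c ∈ C(P) ↔ P ≤ C(c)
  have hCP : ∀ c : G, c ∈ Subgroup.centralizer (P : Set G) ↔ P ≤ Subgroup.centralizer ({c} : Set G) := by
    intro c
    rw [Subgroup.mem_centralizer_iff]
    constructor
    · intro h u hu
      rw [Subgroup.mem_centralizer_singleton_iff]
      exact h u hu
    · intro h u hu
      exact Subgroup.mem_centralizer_singleton_iff.1 (h hu)
  refine ⟨?_, ?_⟩
  · intro g hS
    obtain ⟨hPg, hcardP⟩ := unpack p P _ hS
    refine ⟨⟨g, IsConj.refl g, (hCP g).2 hPg⟩, ?_⟩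
    intro c₁ c₂ h1 h2 hc1 hc2
    obtain ⟨a, ha⟩ := isConj_iff.1 h1
    obtain ⟨b, hb⟩ := isConj_iff.1 h2
    have hP2 : P ≤ Subgroup.centralizer ({c₂} : Set G) := (hCP c₂).1 hc2
    have hP1 : P ≤ Subgroup.centralizer ({c₁} : Set G) := (hCP c₁).1 hc1
    have hcard2 : Nat.card (Subgroup.centralizer ({c₂} : Set G)) = Nat.card (Subgroup.centralizer ({g} : Set G)) := by
      rw [← hb, centralizer_conj, Lib.Helper7.card_map_conj]
    have ht : (b * a⁻¹) * c₁ * (b * a⁻¹)⁻¹ = c₂ := by
      rw [← ha, ← hb]; group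
    have hK : P.map (MulAut.conj (b * a⁻¹)).toMonoidHom ≤ Subgroup.centralizer ({c₂} : Set G) := by
      rw [← ht, centralizer_conj]
      exact Subgroup.map_mono hP1
    obtain ⟨m, hm, hmK⟩ := exists_conj_le_of_sylow_card p hP2 hK (hP.map _) (by rw [hcard2]; exact hcardP)
    rw [← map_conj_mul] at hmK
    have heq : P.map (MulAut.conj (m * (b * a⁻¹))).toMonoidHom = P :=
      Subgroup.eq_of_le_of_card_ge hmK (by rw [Lib.Helper7.card_map_conj])
    refine ⟨m * (b * a⁻¹), (map_conj_eq_self_iff P _).1 heq, ?_⟩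
    have hm' := Subgroup.mem_centralizer_singleton_iff.1 hm
    calc m * (b * a⁻¹) * c₁ * (m * (b * a⁻¹))⁻¹ = m * ((b * a⁻¹) * c₁ * (b * a⁻¹)⁻¹) * m⁻¹ := by group
      _ = m * c₂ * m⁻¹ := by rw [ht]
      _ = c₂ * m * m⁻¹ := by rw [hm']
      _ = c₂ := by group
  · intro c hc hS
    obtain ⟨hPM, hcardP⟩ := unpack p P _ hS
    have hPH : P ≤ Subgroup.centralizer ({c} : Set G) := (hCP c).1 hc
    apply repack p P _ hPH
    obtain ⟨Q', hQ'⟩ := (hP.comap_subtype (K := Subgroup.centralizer ({c} : Set G))).exists_le_sylow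
    set Q : Subgroup G := (Q' : Subgroup (Subgroup.centralizer ({c} : Set G))).map (Subgroup.centralizer ({c} : Set G)).subtype with hQ
    have hQH : Q ≤ Subgroup.centralizer ({c} : Set G) := Subgroup.map_subtype_le _
    have hQp : IsPGroup p Q := Q'.2.map _
    have hPQ : P ≤ Q := by
      intro u hu
      exact ⟨⟨u, hPH hu⟩, hQ' hu, rfl⟩
    have hQcard : Nat.card Q = p ^ (Nat.card (Subgroup.centralizer ({c} : Set G))).factorization p := by
      rw [hQ, Subgroup.card_map_of_injective (Subgroup.subtype_injective _), Sylow.card_eq_multiplicity]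
    by_cases hne : P = Q
    · rw [hne]; exact hQcard
    · exfalso
      have hlt : P < Q := lt_of_le_of_ne hPQ hne
      obtain ⟨x, hxQ, hxN, hxP⟩ := exists_mem_normalizer_not_mem Q P hQp hlt
      set D := P ⊔ Subgroup.zpowers x with hD
      have hDQ : D ≤ Q := sup_le hPQ (Subgroup.zpowers_le.2 hxQ)
      have hDp : IsPGroup p D := hQp.to_le hDQ
      have hDM : D ≤ Subgroup.centralizer ({c} : Set G) ⊓ Subgroup.normalizer (P : Set G) := by
        apply sup_le hPM
        rw [Subgroup.zpowers_le]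
        exact ⟨hQH hxQ, hxN⟩
      have h1 := card_le_of_isPGroup_le p hDp hDM
      rw [← hcardP] at h1
      have : P = D := Subgroup.eq_of_le_of_card_ge le_sup_left h1
      exact hxP (this ▸ (le_sup_right (a := P) (Subgroup.mem_zpowers x)))

end Cfsg.Agent.S0916
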