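import Cfsg.Statements.S0943
import Cfsg.Agent.Lib.Helper8.CharAvg

set_option autoImplicit false
open Cfsg

namespace Cfsg.Agent.S0943

open Cfsg.Agent.Lib.Helper8

/-- Let χ be an irreducible character of the finite group G and u, v ∈ G. If χ (x * y) = χ (u * v) whenever x is conjugate to u and y is conjugate to v, then χ u * χ v = χ 1 * χ (u * v). (Multiply the class sums of u and v and apply the central character of χ.) -/
theorem result {G : Type*} [Group G] [Finite G] (χ : Cfsg.IrrCharacter G) (u v : G) (hc : ∀ x y : G, IsConj u x → IsConj v y → (χ : G → ℂ) (x * y) = (χ : G → ℂ) (u * v)) : (χ : G → ℂ) u * (χ : G → ℂ) v = (χ : G → ℂ) 1 * (χ : G → ℂ) (u * v) := by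
  classical
  haveI : Fintype G := Fintype.ofFinite G
  have h1 := irr_sum_conj_mul χ u v
  have h2 : ∀ h : G, (χ : G → ℂ) (h * u * h⁻¹ * v) = (χ : G → ℂ) (u * v) := by
    intro h
    apply hc
    · exact isConj_iff.mpr ⟨h, rfl⟩
    · exact IsConj.refl v
  rw [Finset.sum_congr rfl (fun h _ => h2 h)] at h1
  rw [Finset.sum_const, Finset.card_univ, nsmul_eq_mul, ← Nat.card_eq_fintype_card] at h1
  have hGne : (Nat.card G : ℂ) ≠ 0 := Nat.cast_ne_zero.mpr Nat.card_pos.ne'
  have h3 := irr_one_ne_zero χ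
  have h4 : (χ : G → ℂ) (u * v) = (χ : G → ℂ) u * (χ : G → ℂ) v / (χ : G → ℂ) 1 := by
    apply mul_left_cancel₀ hGne
    rw [h1]; ring
  rw [h4]; field_simp

end Cfsg.Agent.S0943
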