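import Cfsg.Statements.S0944
import Cfsg.Agent.Lib.Helper8.CharVanish
import Cfsg.Agent.Lib.Helper8.CharDegree

set_option autoImplicit false
open Cfsg

namespace Cfsg.Agent.S0944

open Cfsg.Agent.Lib.Helper8

/-- Let χ be an irreducible character of the finite group G and u an involution. Then χ u is a rational integer n with n ≡ χ 1 (mod 2). -/
theorem result {G : Type*} [Group G] [Finite G] (χ : Cfsg.IrrCharacter G) (u : G) (hu : orderOf u = 2) : ∃ n : ℤ, (χ : G → ℂ) u = (n : ℂ) ∧ (2 : ℤ) ∣ (Cfsg.charDegree (χ : G → ℂ) : ℤ) - n := by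
  classical
  obtain ⟨n, ρ, hirr, hρ⟩ := χ.2
  have hf : (ρ u) ^ 2 = 1 := by
    rw [← map_pow, ← hu, pow_orderOf_eq_one, map_one]
  obtain ⟨S, c, hS, hk⟩ := trace_pow_eq_sum (V := Fin n → ℂ) (f := ρ u) (m := 2) (by norm_num) hf
  have h0 := hk 0
  have h1 := hk 1
  simp only [pow_zero, pow_one, mul_one] at h0 h1
  have hdeg : (χ : G → ℂ) 1 = (n : ℂ) := by
    rw [← hρ, Representation.char_one]; simp
  have hdeg2 : (charDegree (χ : G → ℂ) : ℂ) = (n : ℂ) := by
    rw [← irr_one_eq_charDegree, hdeg]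
  have hdeg3 : charDegree (χ : G → ℂ) = n := by exact_mod_cast hdeg2
  have htr1 : LinearMap.trace ℂ (Fin n → ℂ) (1 : Module.End ℂ (Fin n → ℂ)) = (n : ℂ) := by
    simp
  have hval : (χ : G → ℂ) u = ∑ μ ∈ S, (c μ : ℂ) * μ := by
    rw [← hρ]; exact h1
  have hsplit : ∀ μ ∈ S, μ = 1 ∨ μ = -1 := by
    intro μ hμ
    have := hS μ hμ
    exact sq_eq_one_iff.mp this
  refine ⟨(n : ℤ) - 2 * ∑ μ ∈ S.filter (fun μ => μ = -1), (c μ : ℤ), ?_, ?_⟩
  · rw [hval]
    have hn : (n : ℂ) = ∑ μ ∈ S, (c μ : ℂ) := by rw [← htr1]; exact h0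
    push_cast
    rw [hn, Finset.sum_filter, Finset.mul_sum, ← Finset.sum_sub_distrib]
    apply Finset.sum_congr rfl
    intro μ hμ
    rcases hsplit μ hμ with h | h
    · subst h
      have : (1 : ℂ) ≠ -1 := by norm_num
      simp [this]
    · subst h
      simp; ring
  · rw [hdeg3]
    exact ⟨∑ μ ∈ S.filter (fun μ => μ = -1), (c μ : ℤ), by ring⟩

end Cfsg.Agent.S0944
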