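import Cfsg.Statements.S0945
import Mathlib

set_option autoImplicit false
open Cfsg

namespace Cfsg.Agent.S0945

theorem zmod_two_tors (m : ℕ) (hm : 1 ≤ m) :
    ∃ h : ZMod (2 ^ m), h ≠ 0 ∧ h + h = 0 ∧ ∀ a : ZMod (2 ^ m), a + a = 0 → a = 0 ∨ a = h := by
  obtain ⟨k, rfl⟩ : ∃ k, m = k + 1 := ⟨m - 1, by omega⟩
  haveI : NeZero (2 ^ (k + 1)) := ⟨by positivity⟩
  have hpos : 0 < 2 ^ k := by positivity
  refine ⟨((2 ^ k : ℕ) : ZMod (2 ^ (k + 1))), ?_, ?_, ?_⟩
  · intro h0
    rw [ZMod.natCast_eq_zero_iff] at h0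
    have := Nat.le_of_dvd hpos h0
    rw [pow_succ] at this
    omega
  · rw [← Nat.cast_add, ZMod.natCast_eq_zero_iff, pow_succ]
    exact ⟨1, by ring⟩
  · intro a ha
    have hval : a = (a.val : ZMod _) := (ZMod.natCast_zmod_val a).symm
    have hlt0 := ZMod.val_lt a
    have hpow : 2 ^ (k + 1) = 2 ^ k * 2 := pow_succ 2 k
    have hlt : a.val < 2 ^ k * 2 := lt_of_lt_of_eq hlt0 hpow
    rw [hval, ← Nat.cast_add, ZMod.natCast_eq_zero_iff] at ha
    obtain ⟨c, hc⟩ := ha
    have h1 : a.val = 2 ^ k * c := by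
      have : a.val + a.val = 2 * (2 ^ k * c) := by rw [hc]; ring
      omega
    have hc2 : c < 2 := by
      by_contra hcon
      push Not at hcon
      have : 2 ^ k * 2 ≤ 2 ^ k * c := Nat.mul_le_mul_left _ hcon
      omega
    interval_cases c
    · left; rw [hval, h1]; simp
    · right; rw [hval, h1]; simp

/-- the set of involutions of `P` -/
def TT {G : Type*} [Group G] (P : Subgroup G) : Set G := {x | x ∈ P ∧ x ^ 2 = 1 ∧ x ≠ 1}

theorem conj_mem_TT {G : Type*} [Group G] {P : Subgroup G} {n : G}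
    (hn : n ∈ Subgroup.normalizer (P : Set G)) {x : G} (hx : x ∈ TT P) : n * x * n⁻¹ ∈ TT P := by
  refine ⟨(Subgroup.mem_normalizer_iff.1 hn x).1 hx.1, ?_, ?_⟩
  · rw [conj_pow, hx.2.1]; group
  · intro h
    apply hx.2.2
    have : x = n⁻¹ * (n * x * n⁻¹) * n := by group
    rw [this, h]; group

/-- conjugation action on involutions of `P` -/
noncomputable def phi {G : Type*} [Group G] (P : Subgroup G) :
    ↥(Subgroup.normalizer (P : Set G)) →* Equiv.Perm (TT P) where
  toFun n :=
    { toFun := fun t => ⟨n.1 * t.1 * n.1⁻¹, conj_mem_TT n.2 t.2⟩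
      invFun := fun t => ⟨n.1⁻¹ * t.1 * n.1⁻¹⁻¹, conj_mem_TT (inv_mem n.2) t.2⟩
      left_inv := fun t => Subtype.ext (by simp [mul_assoc])
      right_inv := fun t => Subtype.ext (by simp [mul_assoc]) }
  map_one' := by ext t; simp
  map_mul' := fun a b => by ext t; simp [mul_assoc]

theorem phi_apply {G : Type*} [Group G] (P : Subgroup G) (n : ↥(Subgroup.normalizer (P : Set G)))
    (t : TT P) : ((phi P n) t).1 = n.1 * t.1 * n.1⁻¹ := rfl


theorem T_class {G : Type*} [Group G] (P : Subgroup G) (m : ℕ) (hm : 1 ≤ m)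
    (e : P ≃* Multiplicative (ZMod (2 ^ m) × ZMod (2 ^ m))) :
    ∃ u v w : G, u ≠ v ∧ u ≠ w ∧ v ≠ w ∧ ∀ x : G, x ∈ TT P ↔ (x = u ∨ x = v ∨ x = w) := by
  obtain ⟨h, hh0, hhh, hcl⟩ := zmod_two_tors m hm
  obtain ⟨g, hg⟩ : ∃ g : ZMod (2 ^ m) × ZMod (2 ^ m) → G,
      g = fun a => (e.symm (Multiplicative.ofAdd a)).1 := ⟨_, rfl⟩
  have hginj : ∀ a b, g a = g b → a = b := by
    intro a b hab
    rw [hg] at hab
    have := e.symm.injective (Subtype.ext hab)
    exact Multiplicative.ofAdd.injective this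
  have hgmem : ∀ a, g a ∈ P := by
    intro a; rw [hg]; exact (e.symm (Multiplicative.ofAdd a)).2
  have hgadd : ∀ a b, g (a + b) = g a * g b := by
    intro a b
    rw [hg]
    show (e.symm (Multiplicative.ofAdd (a + b))).1 = _
    rw [ofAdd_add, map_mul]
    rfl
  have hg0 : g 0 = 1 := by
    rw [hg]
    show (e.symm (Multiplicative.ofAdd 0)).1 = 1
    rw [ofAdd_zero, map_one]
    rfl
  have hgsurj : ∀ x ∈ P, ∃ a, g a = x := by
    intro x hx
    refine ⟨Multiplicative.toAdd (e ⟨x, hx⟩), ?_⟩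
    rw [hg]
    show (e.symm (Multiplicative.ofAdd (Multiplicative.toAdd (e ⟨x, hx⟩)))).1 = x
    rw [ofAdd_toAdd, e.symm_apply_apply]
  have hT : ∀ a, g a ∈ TT P ↔ (a + a = 0 ∧ a ≠ 0) := by
    intro a
    constructor
    · rintro ⟨_, h2, h1⟩
      constructor
      · apply hginj
        rw [hgadd, hg0, ← pow_two, h2]
      · intro h0
        apply h1
        rw [h0, hg0]
    · rintro ⟨h2, h1⟩
      refine ⟨hgmem a, ?_, ?_⟩
      · rw [pow_two, ← hgadd, h2, hg0]
      · intro h0
        apply h1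
        apply hginj
        rw [h0, hg0]
  refine ⟨g (h, 0), g (0, h), g (h, h), ?_, ?_, ?_, ?_⟩
  · intro hc
    have := hginj _ _ hc
    exact hh0 (Prod.ext_iff.1 this).1
  · intro hc
    have := hginj _ _ hc
    exact hh0 (Prod.ext_iff.1 this).2.symm
  · intro hc
    have := hginj _ _ hc
    exact hh0 (Prod.ext_iff.1 this).1.symm
  · intro x
    constructor
    · intro hx
      obtain ⟨a, rfl⟩ := hgsurj x hx.1
      rw [hT] at hx
      obtain ⟨h2, h1⟩ := hx
      obtain ⟨a1, a2⟩ := a
      have h21 : a1 + a1 = 0 := (Prod.ext_iff.1 h2).1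
      have h22 : a2 + a2 = 0 := (Prod.ext_iff.1 h2).2
      rcases hcl a1 h21 with rfl | rfl <;> rcases hcl a2 h22 with rfl | rfl
      · exact absurd rfl h1
      · right; left; rfl
      · left; rfl
      · right; right; rfl
    · rintro (rfl | rfl | rfl)
      · rw [hT]
        refine ⟨Prod.ext hhh (add_zero 0), fun h0 => hh0 (Prod.ext_iff.1 h0).1⟩
      · rw [hT]
        refine ⟨Prod.ext (add_zero 0) hhh, fun h0 => hh0 (Prod.ext_iff.1 h0).2⟩
      · rw [hT]
        refine ⟨Prod.ext hhh hhh, fun h0 => hh0 (Prod.ext_iff.1 h0).1⟩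

theorem card_TT {G : Type*} [Group G] (P : Subgroup G) (m : ℕ) (hm : 1 ≤ m)
    (e : P ≃* Multiplicative (ZMod (2 ^ m) × ZMod (2 ^ m))) : Nat.card (TT P) = 3 := by
  obtain ⟨u, v, w, huv, huw, hvw, hT⟩ := T_class P m hm e
  rw [Nat.card_coe_set_eq, Set.ncard_eq_three]
  refine ⟨u, v, w, huv, huw, hvw, ?_⟩
  ext x
  rw [hT]
  simp


theorem stepA {G : Type*} [Group G] (P : Subgroup G)
    (hab : ∀ x ∈ P, ∀ y ∈ P, x * y = y * x) (n : G)
    (hn : n ∈ Subgroup.normalizer (P : Set G))
    (h1 : ∀ x ∈ P, x ^ 2 = 1 → n * x = x * n) :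
    ∀ j : ℕ, ∀ x ∈ P, x ^ (2 ^ (j + 1)) = 1 → Commute (n ^ (2 ^ j)) x := by
  intro j
  induction j with
  | zero =>
    intro x hx hxp
    rw [pow_zero, pow_one]
    exact h1 x hx (by simpa using hxp)
  | succ j ih =>
    intro x hx hxp
    obtain ⟨β, hβ⟩ : ∃ β, β = n ^ (2 ^ j) := ⟨_, rfl⟩
    have hβN : β ∈ Subgroup.normalizer (P : Set G) := by rw [hβ]; exact pow_mem hn _
    have hx2 : Commute β (x ^ 2) := by
      rw [hβ]
      apply ih (x ^ 2) (pow_mem hx 2)
      rw [← pow_mul, ← pow_succ']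
      exact hxp
    obtain ⟨z, hz⟩ : ∃ z, z = β * x * β⁻¹ := ⟨_, rfl⟩
    have hzP : z ∈ P := by rw [hz]; exact (Subgroup.mem_normalizer_iff.1 hβN x).1 hx
    have hzz : z * z = x * x := by
      have : z * z = β * (x ^ 2) * β⁻¹ := by rw [hz, pow_two]; group
      rw [this, hx2.eq, mul_inv_cancel_right, pow_two]
    obtain ⟨y, hy⟩ : ∃ y, y = z * x⁻¹ := ⟨_, rfl⟩
    have hyP : y ∈ P := by rw [hy]; exact mul_mem hzP (inv_mem hx)
    have hy2 : y * y = 1 := by
      rw [hy]
      calc z * x⁻¹ * (z * x⁻¹) = z * (x⁻¹ * z) * x⁻¹ := by group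
        _ = z * (z * x⁻¹) * x⁻¹ := by rw [hab x⁻¹ (inv_mem hx) z hzP]
        _ = (z * z) * (x⁻¹ * x⁻¹) := by group
        _ = 1 := by rw [hzz]; group
    have hny : Commute n y := h1 y hyP (by rw [pow_two]; exact hy2)
    have hβy : Commute β y := by rw [hβ]; exact hny.pow_left _
    have hβx : β * x = y * x * β := by rw [hy, hz]; group
    have hpow : n ^ (2 ^ (j + 1)) = β * β := by
      rw [hβ, pow_succ, pow_mul, pow_two]
    rw [hpow]
    show β * β * x = x * (β * β)
    calc β * β * x = β * (β * x) := by group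
      _ = β * (y * x * β) := by rw [hβx]
      _ = (β * y) * x * β := by group
      _ = (y * β) * x * β := by rw [hβy.eq]
      _ = y * (β * x) * β := by group
      _ = y * (y * x * β) * β := by rw [hβx]
      _ = (y * y) * x * β * β := by group
      _ = x * (β * β) := by rw [hy2]; group

theorem three_lemma {α : Type*} (S : Set α) (u v w : α)
    (hS : ∀ x, x ∈ S ↔ x = u ∨ x = v ∨ x = w) (c : α → α) (hc : ∀ x ∈ S, c x ∈ S)
    (hinj : ∀ x y, c x = c y → x = y) (z : α) (hz : z ∈ S) (hfix : c z = z) :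
    ∀ x ∈ S, c (c x) = x := by
  have key : ∀ a b d y : α, a ∈ S → b ∈ S → d ∈ S → y ∈ S → a ≠ b → a ≠ d → b ≠ d →
      y = a ∨ y = b ∨ y = d := by
    intro a b d y ha hb hd hy hab had hbd
    rw [hS] at ha hb hd hy
    rcases ha with rfl | rfl | rfl <;> rcases hb with rfl | rfl | rfl <;>
      rcases hd with rfl | rfl | rfl <;> rcases hy with rfl | rfl | rfl <;>
      first
        | exact absurd rfl hab
        | exact absurd rfl had
        | exact absurd rfl hbd
        | (left; rfl)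
        | (right; left; rfl)
        | (right; right; rfl)
  intro x hx
  by_cases hxz : x = z
  · rw [hxz, hfix, hfix]
  by_cases hcx : c x = x
  · rw [hcx, hcx]
  have hcxz : c x ≠ z := by
    intro h
    apply hxz
    apply hinj
    rw [h, hfix]
  have h1 : c (c x) ≠ c x := fun h => hcx (hinj _ _ h)
  have h2 : c (c x) ≠ z := by
    intro h
    apply hcxz
    apply hinj
    rw [h, hfix]
  rcases key z x (c x) (c (c x)) hz hx (hc x hx) (hc _ (hc x hx)) (Ne.symm hxz) (Ne.symm hcxz)
    (Ne.symm hcx) with h | h | h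
  · exact absurd h h2
  · exact h
  · exact absurd h h1


theorem commute_of_coprime_pow {G : Type*} [Group G] (n x : G) (a b : ℕ) (hab : a.Coprime b)
    (ha : Commute (n ^ a) x) (hb : Commute (n ^ b) x) : Commute n x := by
  have hbez := Nat.gcd_eq_gcd_ab a b
  rw [hab.gcd_eq_one] at hbez
  have : n = (n ^ a) ^ (Nat.gcdA a b) * (n ^ b) ^ (Nat.gcdB a b) := by
    rw [← zpow_natCast, ← zpow_natCast, ← zpow_mul, ← zpow_mul, ← zpow_add, ← hbez]
    simp
  rw [this]
  exact (ha.zpow_left _).mul_left (hb.zpow_left _)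

theorem cent_normal {G : Type*} [Group G] (P : Subgroup G) :
    ((Subgroup.centralizer (P : Set G)).subgroupOf (Subgroup.normalizer (P : Set G))).Normal := by
  constructor
  intro c hc g
  rw [Subgroup.mem_subgroupOf] at hc ⊢
  rw [Subgroup.mem_centralizer_iff] at hc ⊢
  intro x hx
  have hx' : g.1⁻¹ * x * g.1 ∈ P := (Subgroup.mem_normalizer_iff''.1 g.2 x).1 hx
  have h := hc _ hx'
  show x * (g.1 * c.1 * g.1⁻¹) = g.1 * c.1 * g.1⁻¹ * x
  calc x * (g.1 * c.1 * g.1⁻¹) = g.1 * ((g.1⁻¹ * x * g.1) * c.1) * g.1⁻¹ := by group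
    _ = g.1 * (c.1 * (g.1⁻¹ * x * g.1)) * g.1⁻¹ := by rw [h]
    _ = g.1 * c.1 * g.1⁻¹ * x := by group

theorem P_le_C {G : Type*} [Group G] (P : Subgroup G)
    (hab : ∀ x ∈ P, ∀ y ∈ P, x * y = y * x) : P ≤ Subgroup.centralizer (P : Set G) := by
  intro x hx
  rw [Subgroup.mem_centralizer_iff]
  intro y hy
  exact hab y hy x hx

theorem odd_index {G : Type*} [Group G] [Finite G] (P : Sylow 2 G)
    (hab : ∀ x ∈ (P : Subgroup G), ∀ y ∈ (P : Subgroup G), x * y = y * x) :
    ¬ 2 ∣ (Subgroup.centralizer ((P : Subgroup G) : Set G)).relIndex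
      (Subgroup.normalizer ((P : Subgroup G) : Set G)) := by
  haveI : Fact (Nat.Prime 2) := ⟨Nat.prime_two⟩
  intro h
  apply P.not_dvd_index
  have h1 := Subgroup.relIndex_mul_relIndex (P : Subgroup G) _ _ (P_le_C _ hab)
    (Subgroup.centralizer_le_normalizer ((P : Subgroup G) : Set G))
  have h2 := Subgroup.relIndex_mul_index
    ((P_le_C _ hab).trans (Subgroup.centralizer_le_normalizer ((P : Subgroup G) : Set G)))
  rw [← h2, ← h1]
  exact Dvd.dvd.mul_right (Dvd.dvd.mul_left h _) _

theorem ker_phi {G : Type*} [Group G] [Finite G] (P : Sylow 2 G)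
    (hab : ∀ x ∈ (P : Subgroup G), ∀ y ∈ (P : Subgroup G), x * y = y * x) :
    (phi (P : Subgroup G)).ker = (Subgroup.centralizer ((P : Subgroup G) : Set G)).subgroupOf
      (Subgroup.normalizer ((P : Subgroup G) : Set G)) := by
  ext n
  rw [MonoidHom.mem_ker, Subgroup.mem_subgroupOf]
  constructor
  · intro hn
    have hfix : ∀ x ∈ TT (P : Subgroup G), n.1 * x = x * n.1 := by
      intro x hx
      have := congrArg (fun σ : Equiv.Perm (TT (P : Subgroup G)) => (σ ⟨x, hx⟩).1) hn
      simp only [phi_apply, Equiv.Perm.coe_one, id_eq] at this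
      calc n.1 * x = (n.1 * x * n.1⁻¹) * n.1 := by group
        _ = x * n.1 := by rw [this]
    have h1 : ∀ x ∈ (P : Subgroup G), x ^ 2 = 1 → n.1 * x = x * n.1 := by
      intro x hx hx2
      by_cases hx1 : x = 1
      · rw [hx1, mul_one, one_mul]
      · exact hfix x ⟨hx, hx2, hx1⟩
    haveI := cent_normal (P : Subgroup G)
    have hr : n.1 ^ ((Subgroup.centralizer ((P : Subgroup G) : Set G)).relIndex
        (Subgroup.normalizer ((P : Subgroup G) : Set G))) ∈
        Subgroup.centralizer ((P : Subgroup G) : Set G) := by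
      have := Subgroup.pow_index_mem ((Subgroup.centralizer ((P : Subgroup G) : Set G)).subgroupOf
        (Subgroup.normalizer ((P : Subgroup G) : Set G))) n
      rw [Subgroup.mem_subgroupOf] at this
      exact this
    rw [Subgroup.mem_centralizer_iff]
    intro x hx
    obtain ⟨k, hk⟩ := P.isPGroup' ⟨x, hx⟩
    have hk' : x ^ 2 ^ (k + 1) = 1 := by
      have : x ^ 2 ^ k = 1 := by
        have := congrArg Subtype.val hk
        simpa using this
      rw [pow_succ, pow_mul, this, one_pow]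
    have hA := stepA (P : Subgroup G) hab n.1 n.2 h1 k x hx hk'
    have hB : Commute (n.1 ^ ((Subgroup.centralizer ((P : Subgroup G) : Set G)).relIndex
        (Subgroup.normalizer ((P : Subgroup G) : Set G)))) x :=
      ((Subgroup.mem_centralizer_iff.1 hr) x hx).symm
    have hcop : Nat.Coprime ((Subgroup.centralizer ((P : Subgroup G) : Set G)).relIndex
        (Subgroup.normalizer ((P : Subgroup G) : Set G))) (2 ^ k) :=
      (((Nat.Prime.coprime_iff_not_dvd Nat.prime_two).2 (odd_index P hab)).symm).pow_right k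
    exact (commute_of_coprime_pow n.1 x _ _ hcop hB hA).eq.symm
  · intro hn
    ext t
    rw [phi_apply, Equiv.Perm.coe_one, id_eq]
    have := (Subgroup.mem_centralizer_iff.1 hn) t.1 t.2.1
    show n.1 * t.1 * n.1⁻¹ = t.1
    rw [← this]
    group


theorem main0945 {G : Type*} [Group G] [Finite G] (P : Sylow 2 G) (m : ℕ) (hm : 1 ≤ m) (e : (P : Subgroup G) ≃* Multiplicative (ZMod (2 ^ m) × ZMod (2 ^ m))) : ((Subgroup.centralizer (P : Set G)).relIndex (Subgroup.normalizer (P : Set G)) = 1 ∨ (Subgroup.centralizer (P : Set G)).relIndex (Subgroup.normalizer (P : Set G)) = 3) ∧ ((Subgroup.centralizer (P : Set G)).relIndex (Subgroup.normalizer (P : Set G)) ≠ 1 → ∀ z ∈ (P : Subgroup G), z ≠ 1 → Subgroup.centralizer ({z} : Set G) ⊓ Subgroup.normalizer (P : Set G) = Subgroup.centralizer (P : Set G)) := by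
  have hab : ∀ x ∈ (P : Subgroup G), ∀ y ∈ (P : Subgroup G), x * y = y * x := by
    intro x hx y hy
    have : (⟨x, hx⟩ : (P : Subgroup G)) * ⟨y, hy⟩ = ⟨y, hy⟩ * ⟨x, hx⟩ := by
      apply e.injective
      rw [map_mul, map_mul, mul_comm]
    exact congrArg Subtype.val this
  have hker := ker_phi P hab
  have hodd := odd_index P hab
  obtain ⟨r, hr⟩ : ∃ r, r = (Subgroup.centralizer ((P : Subgroup G) : Set G)).relIndex
      (Subgroup.normalizer ((P : Subgroup G) : Set G)) := ⟨_, rfl⟩
  have hr6 : r ∣ 6 := by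
    have h1 : r = (phi (P : Subgroup G)).ker.index := by rw [hr, hker]; rfl
    rw [h1, Subgroup.index_ker]
    have h2 := Subgroup.card_subgroup_dvd_card (phi (P : Subgroup G)).range
    rw [Nat.card_perm, card_TT (P : Subgroup G) m hm e] at h2
    exact h2
  have hr13 : r = 1 ∨ r = 3 := by
    have hle : r ≤ 6 := Nat.le_of_dvd (by norm_num) hr6
    rw [← hr] at hodd
    interval_cases r <;> omega
  have hr' : (Subgroup.centralizer ((P : Subgroup G) : Set G)).relIndex
      (Subgroup.normalizer ((P : Subgroup G) : Set G)) = r := hr.symm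
  refine ⟨?_, ?_⟩
  · show (Subgroup.centralizer ((P : Subgroup G) : Set G)).relIndex
      (Subgroup.normalizer ((P : Subgroup G) : Set G)) = 1 ∨ (Subgroup.centralizer ((P : Subgroup G) : Set G)).relIndex
      (Subgroup.normalizer ((P : Subgroup G) : Set G)) = 3
    rw [hr']
    exact hr13
  · intro hne z hz hz1
    have hr3 : r = 3 := by
      rcases hr13 with h | h
      · exact absurd (hr'.trans h) hne
      · exact h
    apply le_antisymm
    · rintro g ⟨hgz, hgN⟩
      have hgz' : Commute g z := by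
        have := (Subgroup.mem_centralizer_iff.1 hgz) z rfl
        exact this.symm
      -- an involution z' in P centralized by g
      obtain ⟨k, hk⟩ := (IsPGroup.iff_orderOf.1 P.isPGroup') ⟨z, hz⟩
      rw [Subgroup.orderOf_mk] at hk
      have hk0 : k ≠ 0 := by
        intro h0
        rw [h0, pow_zero, orderOf_eq_one_iff] at hk
        exact hz1 hk
      obtain ⟨j, rfl⟩ : ∃ j, k = j + 1 := ⟨k - 1, by omega⟩
      have hz'T : z ^ 2 ^ j ∈ TT (P : Subgroup G) := by
        refine ⟨pow_mem hz _, ?_, ?_⟩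
        · rw [← pow_mul, ← pow_succ, ← hk, pow_orderOf_eq_one]
        · apply pow_ne_one_of_lt_orderOf (by positivity)
          rw [hk, pow_succ]
          have : 0 < 2 ^ j := by positivity
          omega
      have hgz'' : g * z ^ 2 ^ j * g⁻¹ = z ^ 2 ^ j := by
        rw [(hgz'.pow_right _).eq]; group
      obtain ⟨u, v, w, -, -, -, hT⟩ := T_class (P : Subgroup G) m hm e
      have h3 := three_lemma (TT (P : Subgroup G)) u v w hT (fun x => g * x * g⁻¹)
        (fun x hx => conj_mem_TT hgN hx)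
        (fun x y hxy => by
          have : g * x * g⁻¹ = g * y * g⁻¹ := hxy
          simpa using this) _ hz'T hgz''
      -- g^2 in kernel
      have hg2 : (⟨g, hgN⟩ : ↥(Subgroup.normalizer ((P : Subgroup G) : Set G))) ^ 2 ∈
          (phi (P : Subgroup G)).ker := by
        rw [MonoidHom.mem_ker]
        ext t
        rw [phi_apply, Equiv.Perm.coe_one, id_eq]
        have := h3 t.1 t.2
        show g ^ 2 * t.1 * (g ^ 2)⁻¹ = t.1
        calc g ^ 2 * t.1 * (g ^ 2)⁻¹ = g * (g * t.1 * g⁻¹) * g⁻¹ := by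
              rw [pow_two, mul_inv_rev]; simp only [mul_assoc]
          _ = t.1 := this
      rw [hker, Subgroup.mem_subgroupOf] at hg2
      haveI := cent_normal (P : Subgroup G)
      have hg3 : (⟨g, hgN⟩ : ↥(Subgroup.normalizer ((P : Subgroup G) : Set G))) ^ 3 ∈
          (Subgroup.centralizer ((P : Subgroup G) : Set G)).subgroupOf
            (Subgroup.normalizer ((P : Subgroup G) : Set G)) := by
        have := Subgroup.pow_index_mem ((Subgroup.centralizer ((P : Subgroup G) : Set G)).subgroupOf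
          (Subgroup.normalizer ((P : Subgroup G) : Set G))) ⟨g, hgN⟩
        have hidx : ((Subgroup.centralizer ((P : Subgroup G) : Set G)).subgroupOf
          (Subgroup.normalizer ((P : Subgroup G) : Set G))).index = 3 := hr'.trans hr3
        rw [hidx] at this
        exact this
      rw [Subgroup.mem_subgroupOf] at hg3
      have hg23 : g = g ^ 3 * (g ^ 2)⁻¹ := by group
      rw [hg23]
      exact mul_mem hg3 (inv_mem hg2)
    · apply le_inf
      · apply Subgroup.centralizer_le
        intro x hx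
        rw [Set.mem_singleton_iff.1 hx]
        exact hz
      · exact Subgroup.centralizer_le_normalizer _


/-- Let P be a Sylow 2-subgroup of the finite group G isomorphic to Z/2^m × Z/2^m with m ≥ 1. Then (i) the index of C_G(P) in N_G(P) is 1 or 3, and (ii) if it is not 1, then for every z ≠ 1 in P, C_G(z) ∩ N_G(P) = C_G(P). -/
theorem result {G : Type*} [Group G] [Finite G] (P : Sylow 2 G) (m : ℕ) (hm : 1 ≤ m) (e : (P : Subgroup G) ≃* Multiplicative (ZMod (2 ^ m) × ZMod (2 ^ m))) : ((Subgroup.centralizer (P : Set G)).relIndex (Subgroup.normalizer (P : Set G)) = 1 ∨ (Subgroup.centralizer (P : Set G)).relIndex (Subgroup.normalizer (P : Set G)) = 3) ∧ ((Subgroup.centralizer (P : Set G)).relIndex (Subgroup.normalizer (P : Set G)) ≠ 1 → ∀ z ∈ (P : Subgroup G), z ≠ 1 → Subgroup.centralizer ({z} : Set G) ⊓ Subgroup.normalizer (P : Set G) = Subgroup.centralizer (P : Set G)) := by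
  exact main0945 P m hm e

end Cfsg.Agent.S0945
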