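import Cfsg.Statements.S0946
import Mathlib

set_option autoImplicit false
open Cfsg

namespace Cfsg.Agent.S0946

open scoped Pointwise

/-- odd-order element of N(P) commuting with all involutions of abelian 2-subgroup P centralizes P -/
theorem centralizes_of_omega {G : Type*} [Group G] [Finite G] (P : Subgroup G)
    (hab : ∀ x ∈ P, ∀ y ∈ P, x * y = y * x)
    (h : G) (hN : ∀ x ∈ P, h * x * h⁻¹ ∈ P) (hodd : Odd (orderOf h))
    (hΩ : ∀ y ∈ P, y ^ 2 = 1 → h * y * h⁻¹ = y) :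
    ∀ (k : ℕ) (x : G), x ∈ P → x ^ (2 ^ k) = 1 → h * x * h⁻¹ = x := by
  intro k
  induction k with
  | zero =>
    intro x _ hx
    simp at hx
    subst hx; simp
  | succ k ih =>
    intro x hxP hx
    have hx2 : h * x ^ 2 * h⁻¹ = x ^ 2 := by
      apply ih _ (P.pow_mem hxP 2)
      rw [← pow_mul, ← pow_succ']; exact hx
    obtain ⟨y, hy⟩ : ∃ y, y = h * x * h⁻¹ * x⁻¹ := ⟨_, rfl⟩
    have hyP : y ∈ P := by rw [hy]; exact P.mul_mem (hN x hxP) (P.inv_mem hxP)
    have hy2 : y ^ 2 = 1 := by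
      have hc : Commute (h * x * h⁻¹) x⁻¹ := hab _ (hN x hxP) _ (P.inv_mem hxP)
      rw [hy, hc.mul_pow]
      have : (h * x * h⁻¹) ^ 2 = h * x ^ 2 * h⁻¹ := by
        rw [pow_two, pow_two]; group
      rw [this, hx2]; group
    have hhy := hΩ y hyP hy2
    have hhx : h * x * h⁻¹ = x * y := by
      rw [hy]
      have hc : x * (h * x * h⁻¹ * x⁻¹) = (h * x * h⁻¹ * x⁻¹) * x := 
        hab _ hxP _ (by rw [← hy]; exact hyP)
      rw [hc]; group
    have hpow : ∀ j : ℕ, h ^ j * x * (h ^ j)⁻¹ = x * y ^ j := by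
      intro j
      induction j with
      | zero => simp
      | succ j ihj =>
        have : h ^ (j + 1) * x * (h ^ (j + 1))⁻¹ = h * (h ^ j * x * (h ^ j)⁻¹) * h⁻¹ := by
          rw [pow_succ']; group
        rw [this, ihj]
        have : h * (x * y ^ j) * h⁻¹ = (h * x * h⁻¹) * (h * y * h⁻¹) ^ j := by
          rw [conj_pow]; group
        rw [this, hhy, hhx, mul_assoc, ← pow_succ']
    have hn := hpow (orderOf h)
    rw [pow_orderOf_eq_one] at hn
    simp at hn
    obtain ⟨r, hr⟩ := hodd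
    rw [hr, pow_succ, pow_mul, hy2, one_pow, one_mul] at hn
    rw [hhx, hn, mul_one]

theorem zmod_two_mul {m : ℕ} (a : ZMod (2 ^ (m+1))) (ha : 2 • a = 0) :
    a = 0 ∨ a = ((2 ^ m : ℕ) : ZMod (2 ^ (m+1))) := by
  haveI : NeZero (2 ^ (m+1)) := ⟨by positivity⟩
  have h1 : ((2 * a.val : ℕ) : ZMod (2 ^ (m+1))) = 0 := by
    push_cast
    rw [ZMod.natCast_zmod_val]
    rw [← ha]; simp
  rw [ZMod.natCast_eq_zero_iff] at h1
  have h3 : a.val < 2 ^ (m+1) := ZMod.val_lt a
  obtain ⟨v, hv⟩ : ∃ v, v = a.val := ⟨_, rfl⟩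
  rw [← hv] at h1 h3
  have h2 : 2 ^ m ∣ v := by
    rw [pow_succ'] at h1
    exact Nat.dvd_of_mul_dvd_mul_left (by norm_num) h1
  obtain ⟨c, hc⟩ := h2
  have hc2 : c < 2 := by
    by_contra hcon
    push Not at hcon
    have : 2 ^ m * 2 ≤ 2 ^ m * c := Nat.mul_le_mul_left _ hcon
    rw [pow_succ] at h3
    omega
  have ha' : a = ((v : ℕ) : ZMod (2 ^ (m+1))) := by rw [hv]; exact (ZMod.natCast_zmod_val a).symm
  interval_cases c
  · left; rw [ha', hc]; simp
  · right; rw [ha', hc]; simp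

/-- in Z_{2^m} x Z_{2^m}, elements killed by 2 lie in a set of 4 -/
theorem omega_card {m : ℕ} (hm : 1 ≤ m) :
    ∃ S : Finset (ZMod (2 ^ m) × ZMod (2 ^ m)), S.card ≤ 4 ∧
      ∀ x : ZMod (2 ^ m) × ZMod (2 ^ m), 2 • x = 0 → x ∈ S := by
  classical
  obtain ⟨m', rfl⟩ : ∃ m', m = m' + 1 := ⟨m - 1, by omega⟩
  let c : ZMod (2 ^ (m'+1)) := ((2 ^ m' : ℕ) : ZMod (2 ^ (m'+1)))
  refine ⟨{(0,0),(0,c),(c,0),(c,c)}, Finset.card_le_four, ?_⟩
  intro x hx
  have h1 : 2 • x.1 = 0 := by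
    have := congrArg Prod.fst hx; simpa using this
  have h2 : 2 • x.2 = 0 := by
    have := congrArg Prod.snd hx; simpa using this
  obtain ⟨a, b⟩ := x
  simp only at h1 h2
  rcases zmod_two_mul a h1 with h | h <;> rcases zmod_two_mul b h2 with h' | h' <;>
    simp [h, h', c]

theorem sylow_conj_mem {G : Type*} [Group G] [Finite G] {p : ℕ} [Fact p.Prime] (P : Sylow p G)
    (s : G) (k : ℕ) (hs : s ^ (p ^ k) = 1) : ∃ g : G, g * s * g⁻¹ ∈ (P : Subgroup G) := by
  have hz : IsPGroup p (Subgroup.zpowers s) := by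
    have h1 : orderOf s ∣ p ^ k := orderOf_dvd_of_pow_eq_one hs
    obtain ⟨b, _, hb⟩ := (Nat.dvd_prime_pow (Fact.out : p.Prime)).1 h1
    apply IsPGroup.of_card (n := b)
    rw [Nat.card_zpowers, hb]
  obtain ⟨Q, hQ⟩ := hz.exists_le_sylow
  obtain ⟨g, hg⟩ := MulAction.exists_smul_eq G Q P
  refine ⟨g, ?_⟩
  have h1 : s ∈ (Q : Subgroup G) := hQ (Subgroup.mem_zpowers s)
  have h2 : MulAut.conj g • s ∈ MulAut.conj g • (Q : Subgroup G) :=
    Subgroup.smul_mem_pointwise_smul _ _ _ h1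
  rw [← Sylow.coe_subgroup_smul, hg] at h2
  simpa [MulAut.smul_def] using h2


theorem main0946 {G : Type*} [Group G] [Finite G] (P : Sylow 2 G) (m : ℕ) (hm : 1 ≤ m) (e : (P : Subgroup G) ≃* Multiplicative (ZMod (2 ^ m) × ZMod (2 ^ m))) : (∃ N : Subgroup G, N.Normal ∧ Subgroup.IsComplement' N (P : Subgroup G)) ∨ ∀ s t : G, orderOf s = 2 → orderOf t = 2 → IsConj s t := by
  classical
  have hab : ∀ x ∈ (P:Subgroup G), ∀ y ∈ (P:Subgroup G), x * y = y * x := by
    intro x hx y hy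
    have : e ⟨x,hx⟩ * e ⟨y,hy⟩ = e ⟨y,hy⟩ * e ⟨x,hx⟩ := mul_comm _ _
    rw [← map_mul, ← map_mul] at this
    have := e.injective this
    exact congrArg Subtype.val this
  by_cases hNC : Subgroup.normalizer ((P : Subgroup G) : Set G) ≤ Subgroup.centralizer ((P : Subgroup G) : Set G)
  · left
    exact ⟨(MonoidHom.transferSylow P hNC).ker, inferInstance, MonoidHom.ker_transferSylow_isComplement' P hNC⟩
  · right
    obtain ⟨g, hgN, hgC⟩ := SetLike.not_le_iff_exists.1 hNC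
    -- odd part
    obtain ⟨a, r, hr, har⟩ := Nat.exists_eq_two_pow_mul_odd (orderOf_pos g).ne'
    have hPC : ∀ x ∈ (P : Subgroup G), x ∈ Subgroup.centralizer ((P : Subgroup G) : Set G) := by
      intro x hx
      rw [Subgroup.mem_centralizer_iff]
      intro y hy
      exact hab y hy x hx
    have huP : g ^ r ∈ (P : Subgroup G) := by
      have hz : IsPGroup 2 (Subgroup.zpowers (g ^ r)) := by
        have h1 : orderOf (g ^ r) ∣ 2 ^ a := by
          apply orderOf_dvd_of_pow_eq_one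
          rw [← pow_mul, mul_comm, ← har, pow_orderOf_eq_one]
        obtain ⟨b, _, hb⟩ := (Nat.dvd_prime_pow Nat.prime_two).1 h1
        apply IsPGroup.of_card (n := b)
        rw [Nat.card_zpowers, hb]
      have h2 := hz.inf_normalizer_sylow P
      have h3 : g ^ r ∈ Subgroup.zpowers (g ^ r) ⊓ Subgroup.normalizer ((P : Subgroup G) : Set G) :=
        ⟨Subgroup.mem_zpowers _, Subgroup.pow_mem _ hgN r⟩
      exact (h2.le (show g ^ r ∈ Subgroup.zpowers (g ^ r) ⊓ Subgroup.normalizer (P : Set G) from h3)).2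
    have hhC : g ^ (2 ^ a) ∉ Subgroup.centralizer ((P : Subgroup G) : Set G) := by
      intro hcon
      apply hgC
      have hcop : Nat.Coprime (2 ^ a) r := by
        apply Nat.Coprime.pow_left
        exact (Nat.Prime.coprime_iff_not_dvd Nat.prime_two).2 hr.not_two_dvd_nat
      have hb := Nat.gcd_eq_gcd_ab (2 ^ a) r
      rw [hcop.gcd_eq_one] at hb
      have hg1 : g = (g ^ (2 ^ a)) ^ (Nat.gcdA (2 ^ a) r) * (g ^ r) ^ (Nat.gcdB (2 ^ a) r) := by
        rw [← zpow_natCast, ← zpow_natCast, ← zpow_mul, ← zpow_mul, ← zpow_add]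
        conv_lhs => rw [← zpow_one g]
        rw [show (1 : ℤ) = ((2 ^ a : ℕ) : ℤ) * Nat.gcdA (2 ^ a) r + (r : ℤ) * Nat.gcdB (2 ^ a) r from by exact_mod_cast hb]
      rw [hg1]
      exact Subgroup.mul_mem _ (Subgroup.zpow_mem _ hcon _) (Subgroup.zpow_mem _ (hPC _ huP) _)
    obtain ⟨h, hh⟩ : ∃ h, h = g ^ (2 ^ a) := ⟨_, rfl⟩
    rw [← hh] at hhC
    have hhN : h ∈ Subgroup.normalizer ((P : Subgroup G) : Set G) := by
      rw [hh]; exact Subgroup.pow_mem _ hgN _
    have hodd : Odd (orderOf h) := by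
      have : orderOf h ∣ r := by
        apply orderOf_dvd_of_pow_eq_one
        rw [hh, ← pow_mul, ← har, pow_orderOf_eq_one]
      exact hr.of_dvd_nat this
    have hN : ∀ x ∈ (P : Subgroup G), h * x * h⁻¹ ∈ (P : Subgroup G) := by
      intro x hx
      exact (Subgroup.mem_normalizer_iff.1 hhN x).1 hx
    -- an involution of P not centralized by h
    have hex : ∃ t₁ ∈ (P : Subgroup G), t₁ ^ 2 = 1 ∧ h * t₁ * h⁻¹ ≠ t₁ := by
      by_contra hcon
      push Not at hcon
      apply hhC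
      rw [Subgroup.mem_centralizer_iff]
      intro x hx
      obtain ⟨k, hk⟩ := P.2 ⟨x, hx⟩
      have hk' : x ^ (2 ^ k) = 1 := by
        have := congrArg Subtype.val hk
        simpa using this
      have := centralizes_of_omega (P : Subgroup G) hab h hN hodd hcon k x hx hk'
      calc x * h = (h * x * h⁻¹) * h := by rw [this]
        _ = h * x := by group
    obtain ⟨t₁, ht₁P, ht₁2, ht₁h⟩ := hex
    obtain ⟨t₂, ht₂⟩ : ∃ t₂, t₂ = h * t₁ * h⁻¹ := ⟨_, rfl⟩
    obtain ⟨t₃, ht₃⟩ : ∃ t₃, t₃ = h * t₂ * h⁻¹ := ⟨_, rfl⟩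
    have ht₂P : t₂ ∈ (P : Subgroup G) := by rw [ht₂]; exact hN _ ht₁P
    have ht₃P : t₃ ∈ (P : Subgroup G) := by rw [ht₃]; exact hN _ ht₂P
    have ht₂2 : t₂ ^ 2 = 1 := by rw [ht₂, conj_pow, ht₁2]; group
    have ht₃2 : t₃ ^ 2 = 1 := by rw [ht₃, conj_pow, ht₂2]; group
    have h12 : t₁ ≠ t₂ := by rw [ht₂]; exact fun hc => ht₁h hc.symm
    have h23 : t₂ ≠ t₃ := by
      intro hc
      apply h12
      rw [ht₃] at hc
      nth_rewrite 1 [ht₂] at hc
      have := mul_left_cancel (mul_right_cancel hc)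
      exact this
    have h13 : t₁ ≠ t₃ := by
      intro hc
      apply ht₁h
      -- h^2 commutes with t₁
      have hc2 : Commute (h ^ 2) t₁ := by
        have : h ^ 2 * t₁ * (h ^ 2)⁻¹ = t₁ := by
          have e3 : t₃ = h ^ 2 * t₁ * (h ^ 2)⁻¹ := by rw [ht₃, ht₂, pow_two]; group
          rw [← e3]; exact hc.symm
        have h' : h ^ 2 * t₁ = t₁ * h ^ 2 := by
          calc h ^ 2 * t₁ = (h ^ 2 * t₁ * (h ^ 2)⁻¹) * h ^ 2 := by group
            _ = t₁ * h ^ 2 := by rw [this]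
        exact h'
      obtain ⟨q, hq⟩ := hodd
      have hh2 : h = (h ^ 2) ^ (q + 1) := by
        rw [← pow_mul, show 2 * (q + 1) = (2 * q + 1) + 1 by ring, ← hq, pow_succ, pow_orderOf_eq_one, one_mul]
      have hc3 : Commute h t₁ := by
        rw [hh2]; exact hc2.pow_left _
      calc h * t₁ * h⁻¹ = t₁ * h * h⁻¹ := by rw [hc3.eq]
        _ = t₁ := by group
    have ht₁1 : t₁ ≠ 1 := by
      intro hc; apply ht₁h; rw [hc]; group
    have ht₂1 : t₂ ≠ 1 := by
      rw [ht₂, Ne, conj_eq_one_iff]; exact ht₁1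
    have ht₃1 : t₃ ≠ 1 := by
      rw [ht₃, Ne, conj_eq_one_iff]; exact ht₂1
    obtain ⟨S, hS4, hS⟩ := omega_card hm
    have key : ∀ d ∈ (P : Subgroup G), d ^ 2 = 1 → d ≠ 1 → d = t₁ ∨ d = t₂ ∨ d = t₃ := by
      intro d hdP hd2 hd1
      by_contra hcon
      push Not at hcon
      obtain ⟨hd1', hd2', hd3'⟩ := hcon
      let f : ↥(P : Subgroup G) → ZMod (2 ^ m) × ZMod (2 ^ m) := fun x => Multiplicative.toAdd (e x)
      have hf : Function.Injective f := fun x y hxy => e.injective (Multiplicative.toAdd.injective hxy)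
      have hfS : ∀ x : ↥(P : Subgroup G), (x : G) ^ 2 = 1 → f x ∈ S := by
        intro x hx
        apply hS
        have : x ^ 2 = 1 := Subtype.ext (by simpa using hx)
        show 2 • Multiplicative.toAdd (e x) = 0
        rw [← toAdd_pow, ← map_pow, this, map_one]; rfl
      let T : Finset ↥(P : Subgroup G) := {1, ⟨t₁, ht₁P⟩, ⟨t₂, ht₂P⟩, ⟨t₃, ht₃P⟩, ⟨d, hdP⟩}
      have hT5 : T.card = 5 := by
        simp only [T]
        rw [Finset.card_insert_of_notMem, Finset.card_insert_of_notMem, Finset.card_insert_of_notMem,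
          Finset.card_insert_of_notMem, Finset.card_singleton]
        · simp [Subtype.ext_iff]; exact Ne.symm hd3'
        · simp [Subtype.ext_iff]; exact ⟨h23, Ne.symm hd2'⟩
        · simp [Subtype.ext_iff]; exact ⟨h12, h13, Ne.symm hd1'⟩
        · simp [Subtype.ext_iff]; exact ⟨Ne.symm ht₁1, Ne.symm ht₂1, Ne.symm ht₃1, Ne.symm hd1⟩
      have hsub : T.image f ⊆ S := by
        intro y hy
        obtain ⟨x, hx, rfl⟩ := Finset.mem_image.1 hy
        apply hfS
        simp only [T, Finset.mem_insert, Finset.mem_singleton] at hx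
        rcases hx with rfl | rfl | rfl | rfl | rfl <;> simp [*]
      have := Finset.card_le_card hsub
      rw [Finset.card_image_of_injective _ hf, hT5] at this
      omega
    have hconj : ∀ s : G, orderOf s = 2 → IsConj s t₁ := by
      intro s hs
      have hs2 : s ^ 2 = 1 := by rw [← hs]; exact pow_orderOf_eq_one s
      have hs1 : s ≠ 1 := by intro hc; rw [hc, orderOf_one] at hs; omega
      obtain ⟨g', hg'⟩ := sylow_conj_mem P s 1 (by simpa using hs2)
      have h2 : (g' * s * g'⁻¹)^2 = 1 := by rw [conj_pow, hs2]; group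
      have h1 : g' * s * g'⁻¹ ≠ 1 := by rw [Ne, conj_eq_one_iff]; exact hs1
      have c1 : IsConj s (g' * s * g'⁻¹) := isConj_iff.2 ⟨g', rfl⟩
      have c2 : IsConj t₁ t₂ := isConj_iff.2 ⟨h, ht₂.symm⟩
      have c3 : IsConj t₂ t₃ := isConj_iff.2 ⟨h, ht₃.symm⟩
      rcases key _ hg' h2 h1 with hk | hk | hk
      · rw [hk] at c1; exact c1
      · rw [hk] at c1; exact c1.trans c2.symm
      · rw [hk] at c1; exact c1.trans (c2.trans c3).symm
    intro s t hs ht
    exact (hconj s hs).trans (hconj t ht).symm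




/-- Let P be a Sylow 2-subgroup of the finite group G isomorphic to Z/2^m × Z/2^m with m ≥ 1. Then either P has a normal complement in G, or all involutions of G are conjugate. -/
theorem result {G : Type*} [Group G] [Finite G] (P : Sylow 2 G) (m : ℕ) (hm : 1 ≤ m) (e : (P : Subgroup G) ≃* Multiplicative (ZMod (2 ^ m) × ZMod (2 ^ m))) : (∃ N : Subgroup G, N.Normal ∧ Subgroup.IsComplement' N (P : Subgroup G)) ∨ ∀ s t : G, orderOf s = 2 → orderOf t = 2 → IsConj s t := by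
  exact main0946 P m hm e

end Cfsg.Agent.S0946
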