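import Cfsg.Statements.S0950
import Mathlib
import Cfsg.Agent.Lib.Helper4.Frobenius
import Cfsg.Agent.Lib.Helper4.ConjSub

set_option autoImplicit false
open Cfsg

namespace Cfsg.Agent.S0950

open Cfsg.Agent.Lib.Helper4 QuaternionGroup

theorem q8_sq : ∀ x : QuaternionGroup 2, x * x = 1 ∨ x * x = a 2 := by decide
theorem q8_sq1 : ∀ x : QuaternionGroup 2, x * x = 1 → x = 1 ∨ x = a 2 := by decide
theorem q8_z : (a 2 : QuaternionGroup 2) ≠ 1 ∧ (a 2 : QuaternionGroup 2) * a 2 = 1 := by decide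
theorem q8_gen : ∀ u v w : QuaternionGroup 2, u * u ≠ 1 → v * v ≠ 1 → v ≠ u → v ≠ u⁻¹ →
    (w = 1 ∨ w = a 2 ∨ w = u ∨ w = u⁻¹ ∨ w = v ∨ w = v⁻¹ ∨ w = u * v ∨ w = (u * v)⁻¹) := by
  decide
theorem q8_conj : ∀ u v : QuaternionGroup 2, u * u ≠ 1 → v * v ≠ 1 → v ≠ u → v ≠ u⁻¹ →
    u * v * u⁻¹ = v⁻¹ := by decide

section
variable {G : Type*} [Group G]

structure Q8Like (S : Subgroup G) (z : G) : Prop where
  zS : z ∈ S
  z1 : z ≠ 1
  zz : z * z = 1
  sq : ∀ x ∈ S, x * x = 1 ∨ x * x = z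
  sq1 : ∀ x ∈ S, x * x = 1 → x = 1 ∨ x = z
  gen : ∀ u ∈ S, ∀ v ∈ S, ∀ w ∈ S, u * u ≠ 1 → v * v ≠ 1 → v ≠ u → v ≠ u⁻¹ →
    (w = 1 ∨ w = z ∨ w = u ∨ w = u⁻¹ ∨ w = v ∨ w = v⁻¹ ∨ w = u * v ∨ w = (u * v)⁻¹)
  cj : ∀ u ∈ S, ∀ v ∈ S, u * u ≠ 1 → v * v ≠ 1 → v ≠ u → v ≠ u⁻¹ → u * v * u⁻¹ = v⁻¹

theorem q8like_of_equiv (S : Subgroup G) (e : ↥S ≃* QuaternionGroup 2) :
    ∃ z : G, Q8Like S z := by
  have hz : e (e.symm (a 2)) = a 2 := e.apply_symm_apply _
  refine ⟨((e.symm (a 2) : ↥S) : G), ⟨(e.symm (a 2)).2, ?_, ?_, ?_, ?_, ?_, ?_⟩⟩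
  · intro h
    have h1 : e.symm (a 2) = 1 := Subtype.ext h
    have h2 := q8_z.1
    rw [← hz, h1, map_one] at h2
    exact h2 rfl
  · have h2 := q8_z.2
    rw [← hz, ← map_mul, MulEquiv.map_eq_one_iff] at h2
    have h3 := congrArg Subtype.val h2
    simpa using h3
  · intro x hx
    have h := q8_sq (e ⟨x, hx⟩)
    rw [← hz, ← map_mul, MulEquiv.map_eq_one_iff, EmbeddingLike.apply_eq_iff_eq] at h
    rcases h with h | h
    · left
      have h3 := congrArg Subtype.val h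
      simpa using h3
    · right
      have h3 := congrArg Subtype.val h
      simpa using h3
  · intro x hx hxx
    have h := q8_sq1 (e ⟨x, hx⟩)
    rw [← hz, ← map_mul, MulEquiv.map_eq_one_iff, MulEquiv.map_eq_one_iff,
      EmbeddingLike.apply_eq_iff_eq] at h
    have hxx' : (⟨x, hx⟩ : ↥S) * ⟨x, hx⟩ = 1 := Subtype.ext (by simpa using hxx)
    rcases h hxx' with h | h
    · left
      have h3 := congrArg Subtype.val h
      simpa using h3
    · right
      have h3 := congrArg Subtype.val h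
      simpa using h3
  · intro u hu v hv w hw h1 h2 h3 h4
    have h := q8_gen (e ⟨u, hu⟩) (e ⟨v, hv⟩) (e ⟨w, hw⟩)
    rw [← hz] at h
    simp only [← map_mul, ← map_inv, EmbeddingLike.apply_eq_iff_eq, MulEquiv.map_eq_one_iff,
      ne_eq] at h
    have h' := h (fun hh => h1 (by simpa using congrArg Subtype.val hh))
      (fun hh => h2 (by simpa using congrArg Subtype.val hh))
      (fun hh => h3 (by simpa using congrArg Subtype.val hh))
      (fun hh => h4 (by simpa using congrArg Subtype.val hh))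
    simp only [Subtype.ext_iff, Subgroup.coe_mul, Subgroup.coe_inv, Subgroup.coe_one] at h'
    exact h'
  · intro u hu v hv h1 h2 h3 h4
    have h := q8_conj (e ⟨u, hu⟩) (e ⟨v, hv⟩)
    simp only [← map_mul, ← map_inv, EmbeddingLike.apply_eq_iff_eq, MulEquiv.map_eq_one_iff,
      ne_eq] at h
    have h' := h (fun hh => h1 (by simpa using congrArg Subtype.val hh))
      (fun hh => h2 (by simpa using congrArg Subtype.val hh))
      (fun hh => h3 (by simpa using congrArg Subtype.val hh))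
      (fun hh => h4 (by simpa using congrArg Subtype.val hh))
    simp only [Subtype.ext_iff, Subgroup.coe_mul, Subgroup.coe_inv] at h'
    exact h'

theorem comm_of_pow_comm {g x : G} (hg : (orderOf g).Coprime 2) (j : ℕ)
    (h : g ^ (2 ^ j) * x = x * g ^ (2 ^ j)) : g * x = x * g := by
  have hc : Nat.Coprime (2 ^ j) (orderOf g) := (Nat.Coprime.pow_right j hg).symm
  obtain ⟨m, hm⟩ := exists_pow_eq_self_of_coprime hc
  have h1 : Commute (g ^ 2 ^ j) x := h
  have h2 : Commute ((g ^ 2 ^ j) ^ m) x := h1.pow_left m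
  rw [hm] at h2
  exact h2

theorem comm_of_conj_inv {g x : G} (hg : (orderOf g).Coprime 2)
    (h : g * x * g⁻¹ = x ∨ g * x * g⁻¹ = x⁻¹) : g * x = x * g := by
  rcases h with h | h
  · calc g * x = (g * x * g⁻¹) * g := by group
      _ = x * g := by rw [h]
  · apply comm_of_pow_comm hg 1
    have h2 : g * x⁻¹ * g⁻¹ = x := by
      calc g * x⁻¹ * g⁻¹ = (g * x * g⁻¹)⁻¹ := by group
        _ = x := by rw [h, inv_inv]
    have e : g ^ 2 ^ 1 = g * g := by rw [pow_one, pow_two]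
    rw [e]
    calc (g * g) * x = g * (g * x * g⁻¹) * g := by group
      _ = g * x⁻¹ * g := by rw [h]
      _ = (g * x⁻¹ * g⁻¹) * (g * g) := by group
      _ = x * (g * g) := by rw [h2]

theorem odd_sq {g : G} (hg : (orderOf g).Coprime 2) : (orderOf (g ^ 2)).Coprime 2 :=
  Nat.Coprime.coprime_dvd_left (orderOf_pow_dvd 2) hg

theorem conj_z {S : Subgroup G} {z : G} (hQ : Q8Like S z) {h : G}
    (hN : h ∈ Subgroup.normalizer (S : Set G)) : h * z * h⁻¹ = z := by
  have h1 : h * z * h⁻¹ ∈ S := (Subgroup.mem_normalizer_iff.1 hN z).1 hQ.zS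
  have h2 : (h * z * h⁻¹) * (h * z * h⁻¹) = 1 := by
    calc (h * z * h⁻¹) * (h * z * h⁻¹) = h * (z * z) * h⁻¹ := by group
      _ = 1 := by rw [hQ.zz]; group
  rcases hQ.sq1 _ h1 h2 with h3 | h3
  · exfalso
    apply hQ.z1
    have : z = h⁻¹ * (h * z * h⁻¹) * h := by group
    rw [this, h3]; group
  · exact h3

theorem fix_centralizes {S : Subgroup G} {z : G} (hQ : Q8Like S z) {h : G}
    (hN : h ∈ Subgroup.normalizer (S : Set G)) (hodd : (orderOf h).Coprime 2) {u : G}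
    (huS : u ∈ S) (hu4 : u * u ≠ 1) (hfix : h * u * h⁻¹ = u ∨ h * u * h⁻¹ = u⁻¹) :
    ∀ w ∈ S, h * w = w * h := by
  have hcu : h * u = u * h := comm_of_conj_inv hodd hfix
  have hu_fix : h * u * h⁻¹ = u := by rw [hcu]; group
  have hz_fix := conj_z hQ hN
  have hcz : h * z = z * h := by
    calc h * z = (h * z * h⁻¹) * h := by group
      _ = z * h := by rw [hz_fix]
  have hu_fix' : h⁻¹ * u * h = u := by
    calc h⁻¹ * u * h = h⁻¹ * (u * h) := by group
      _ = h⁻¹ * (h * u) := by rw [hcu]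
      _ = u := by group
  have hz_fix' : h⁻¹ * z * h = z := by
    calc h⁻¹ * z * h = h⁻¹ * (z * h) := by group
      _ = h⁻¹ * (h * z) := by rw [hcz]
      _ = z := by group
  intro w hw
  have hback : ∀ t : G, h * w * h⁻¹ = t → w = h⁻¹ * t * h := by
    intro t ht
    rw [← ht]; group
  by_cases hw4 : w * w = 1
  · rcases hQ.sq1 w hw hw4 with h1 | h1
    · rw [h1, mul_one, one_mul]
    · rw [h1]; exact hcz
  by_cases hwu : w = u
  · rw [hwu]; exact hcu
  by_cases hwu' : w = u⁻¹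
  · rw [hwu']
    have : Commute h u := hcu
    exact this.inv_right
  -- w of order 4 outside {u, u⁻¹}
  have hw'S : h * w * h⁻¹ ∈ S := (Subgroup.mem_normalizer_iff.1 hN w).1 hw
  have hwz : w * w = z := (hQ.sq w hw).resolve_left hw4
  have hzw : z * w = w⁻¹ := by
    apply eq_inv_of_mul_eq_one_left
    rw [mul_assoc, hwz, hQ.zz]
  -- it suffices: h^2 conjugates w to w⁻¹ or h conj w in {w, w⁻¹}
  have key : h * w * h⁻¹ = w ∨ h * w * h⁻¹ = w⁻¹ ∨
      (h ^ 2) * w * (h ^ 2)⁻¹ = w⁻¹ := by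
    rcases hQ.gen u huS w hw (h * w * h⁻¹) hw'S hu4 hw4 hwu hwu' with
      h1 | h1 | h1 | h1 | h1 | h1 | h1 | h1
    · exfalso; apply hw4
      rw [hback _ h1]; group
    · exfalso; apply hw4
      rw [hback _ h1, hz_fix', hQ.zz]
    · exfalso; apply hwu
      rw [hback _ h1, hu_fix']
    · exfalso; apply hwu'
      rw [hback _ h1]
      calc h⁻¹ * u⁻¹ * h = (h⁻¹ * u * h)⁻¹ := by group
        _ = u⁻¹ := by rw [hu_fix']
    · left; exact h1
    · right; left; exact h1
    · right; right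
      calc (h ^ 2) * w * (h ^ 2)⁻¹ = h * (h * w * h⁻¹) * h⁻¹ := by rw [pow_two]; group
        _ = h * (u * w) * h⁻¹ := by rw [h1]
        _ = (h * u * h⁻¹) * (h * w * h⁻¹) := by group
        _ = u * (u * w) := by rw [hu_fix, h1]
        _ = (u * u) * w := by group
        _ = z * w := by rw [(hQ.sq u huS).resolve_left hu4]
        _ = w⁻¹ := hzw
    · right; right
      calc (h ^ 2) * w * (h ^ 2)⁻¹ = h * (h * w * h⁻¹) * h⁻¹ := by rw [pow_two]; group
        _ = h * (u * w)⁻¹ * h⁻¹ := by rw [h1]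
        _ = ((h * u * h⁻¹) * (h * w * h⁻¹))⁻¹ := by group
        _ = (u * (u * w)⁻¹)⁻¹ := by rw [hu_fix, h1]
        _ = u * w * u⁻¹ := by group
        _ = w⁻¹ := hQ.cj u huS w hw hu4 hw4 hwu hwu'
  rcases key with h1 | h1 | h1
  · exact comm_of_conj_inv hodd (Or.inl h1)
  · exact comm_of_conj_inv hodd (Or.inr h1)
  · have h2 : h ^ 2 * w = w * h ^ 2 := comm_of_conj_inv (odd_sq hodd) (Or.inr h1)
    apply comm_of_pow_comm hodd 1
    simpa using h2

theorem exists_order_four {S : Subgroup G} {z : G} (hQ : Q8Like S z) (A : Subgroup G)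
    (hA : A ≤ S) (hA4 : Nat.card A = 4) : ∃ a ∈ A, a * a ≠ 1 ∧ A = Subgroup.zpowers a := by
  classical
  haveI : Finite ↥A := Nat.finite_of_card_ne_zero (by rw [hA4]; norm_num)
  have hex : ∃ a ∈ A, a * a ≠ 1 := by
    by_contra hno
    push Not at hno
    have hval : ∀ x : ↥A, (x : G) = 1 ∨ (x : G) = z := fun x =>
      hQ.sq1 _ (hA x.2) (hno x x.2)
    have hinj : Function.Injective (fun x : ↥A => decide ((x : G) = 1)) := by
      intro x y hxy
      simp only [decide_eq_decide] at hxy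
      apply Subtype.ext
      rcases hval x with hx | hx
      · rw [hx, (hxy.1 hx)]
      · rcases hval y with hy | hy
        · rw [hy, (hxy.2 hy)]
        · rw [hx, hy]
    have h1 := Nat.card_le_card_of_injective _ hinj
    rw [hA4, Nat.card_eq_fintype_card (α := Bool), Fintype.card_bool] at h1
    omega
  obtain ⟨a, ha, ha4⟩ := hex
  refine ⟨a, ha, ha4, ?_⟩
  haveI : Fact (Nat.Prime 2) := ⟨Nat.prime_two⟩
  have haz : a * a = z := (hQ.sq a (hA ha)).resolve_left ha4
  have h4 : a ^ 2 ^ (1 + 1) = 1 := by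
    have e : a ^ 2 ^ (1 + 1) = (a * a) * (a * a) := by
      rw [show (2 : ℕ) ^ (1 + 1) = 2 + 2 from rfl, pow_add, pow_two]
    rw [e, haz, hQ.zz]
  have hn : ¬ a ^ 2 ^ 1 = 1 := by
    rw [pow_one, pow_two]; exact ha4
  have ho : orderOf a = 4 := by
    have := orderOf_eq_prime_pow hn h4
    rw [this]; norm_num
  symm
  apply Subgroup.eq_of_le_of_card_ge
  · rw [Subgroup.zpowers_le]; exact ha
  · rw [Nat.card_zpowers, ho, hA4]

end

/-- Let S be a Sylow 2-subgroup of the finite group G that is isomorphic to the quaternion group of order 8, and suppose S has no normal complement in G. Then any two subgroups of order 4 of S are conjugate by an element of the normalizer of S. -/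
theorem result {G : Type*} [Group G] [Finite G] (S : Sylow 2 G) (e : (S : Subgroup G) ≃* QuaternionGroup 2) (hnc : ∀ N : Subgroup G, N.Normal → ¬ Subgroup.IsComplement' N (S : Subgroup G)) (A B : Subgroup G) (hA : A ≤ S) (hB : B ≤ S) (hA4 : Nat.card A = 4) (hB4 : Nat.card B = 4) : ∃ n ∈ Subgroup.normalizer ((S : Subgroup G) : Set G), B = A.map (MulAut.conj n).toMonoidHom := by
  classical
  haveI : Fact (Nat.Prime 2) := ⟨Nat.prime_two⟩
  obtain ⟨z, hQ⟩ := q8like_of_equiv (S : Subgroup G) e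
  -- Frobenius hypothesis fails
  have hnF : ¬ FrobHyp 2 G := by
    intro hF
    obtain ⟨K, hKn, hKc, hKq⟩ := frob_hasNormalPComplement 2 (Nat.card G) G rfl hF
    apply hnc K hKn
    obtain ⟨m, hm⟩ := (IsPGroup.iff_card).1 hKq
    have hidx : K.index = 2 ^ m := by rw [Subgroup.index_eq_card]; exact hm
    have hGcard : Nat.card K * 2 ^ m = Nat.card G := by rw [← hidx]; exact K.card_mul_index
    have hScard : Nat.card (S : Subgroup G) = 2 ^ m := by
      rw [Sylow.card_eq_multiplicity, ← hGcard]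
      congr 1
      have hK0 : Nat.card K ≠ 0 := Nat.card_pos.ne'
      rw [Nat.factorization_mul hK0 (pow_ne_zero _ two_ne_zero)]
      have h1 : (Nat.card K).factorization 2 = 0 := by
        apply Nat.factorization_eq_zero_of_not_dvd
        intro hd
        have := Nat.Coprime.eq_one_of_dvd hKc.symm hd
        omega
      simp [h1, Nat.Prime.factorization_pow Nat.prime_two]
    apply Subgroup.isComplement'_of_coprime
    · rw [hScard]; exact hGcard
    · rw [hScard]; exact Nat.Coprime.pow_right m hKc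
  unfold FrobHyp at hnF
  push Not at hnF
  obtain ⟨Q, hQp, g, hgN, hgodd, hgC⟩ := hnF
  -- conjugate Q into S
  obtain ⟨P, hQP⟩ := hQp.exists_le_sylow
  obtain ⟨x, hx⟩ := MulAction.exists_smul_eq G P S
  have hPS : cj x (P : Subgroup G) = (S : Subgroup G) := by
    rw [← sylow_smul_eq_cj, hx]
  -- find g1 ∈ N(S) of odd order not centralizing S
  have hkey : ∃ g1 ∈ Subgroup.normalizer ((S : Subgroup G) : Set G), (orderOf g1).Coprime 2 ∧
      ¬ ∀ w ∈ (S : Subgroup G), g1 * w = w * g1 := by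
    set g1 := x * g * x⁻¹ with hg1
    have hodd1 : (orderOf g1).Coprime 2 := by
      have h := orderOf_injective (MulAut.conj x).toMonoidHom (MulAut.conj x).injective g
      have e1 : (MulAut.conj x).toMonoidHom g = g1 := by simp [MulAut.conj_apply, hg1]
      rw [e1] at h
      rw [h]; exact hgodd
    -- Q1 = cj x Q ≤ S
    have hQ1S : ∀ q ∈ Q, x * q * x⁻¹ ∈ (S : Subgroup G) := by
      intro q hq
      rw [← hPS]
      exact conj_mem_cj x _ (hQP hq)
    rw [Subgroup.mem_centralizer_iff] at hgC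
    push Not at hgC
    obtain ⟨q, hq, hqg⟩ := hgC
    -- q1 = x q x⁻¹, g1 q1 g1⁻¹ = x (g q g⁻¹) x⁻¹
    have hgq : g * q * g⁻¹ ∈ Q := (Subgroup.mem_normalizer_iff.1 hgN q).1 hq
    have hq1S := hQ1S q hq
    have hq1'S := hQ1S _ hgq
    have hconj : g1 * (x * q * x⁻¹) * g1⁻¹ = x * (g * q * g⁻¹) * x⁻¹ := by
      rw [hg1]; group
    have hne : g1 * (x * q * x⁻¹) * g1⁻¹ ≠ x * q * x⁻¹ := by
      rw [hconj]
      intro h
      apply hqg
      have h2 : g * q * g⁻¹ = q := by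
        have := congrArg (fun t => x⁻¹ * t * x) h
        simpa [mul_assoc] using this
      calc q * g = (g * q * g⁻¹) * g := by rw [h2]
        _ = g * q := by group
    -- every element of S lies in cj x Q, unless contradiction
    have hall : ∀ w ∈ (S : Subgroup G), ∃ r ∈ Q, w = x * r * x⁻¹ := by
      by_cases hq4 : (x * q * x⁻¹) * (x * q * x⁻¹) = 1
      · exfalso
        have hq4' : (g1 * (x * q * x⁻¹) * g1⁻¹) * (g1 * (x * q * x⁻¹) * g1⁻¹) = 1 := by
          calc (g1 * (x * q * x⁻¹) * g1⁻¹) * (g1 * (x * q * x⁻¹) * g1⁻¹)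
              = g1 * ((x * q * x⁻¹) * (x * q * x⁻¹)) * g1⁻¹ := by group
            _ = 1 := by rw [hq4]; group
        have hS' : g1 * (x * q * x⁻¹) * g1⁻¹ ∈ (S : Subgroup G) := by rw [hconj]; exact hq1'S
        rcases hQ.sq1 _ hq1S hq4 with h1 | h1
        · apply hne; rw [h1]; group
        · rcases hQ.sq1 _ hS' hq4' with h2 | h2
          · apply hQ.z1
            rw [← h1]
            have : x * q * x⁻¹ = g1⁻¹ * (g1 * (x * q * x⁻¹) * g1⁻¹) * g1 := by group
            rw [this, h2]; group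
          · apply hne; rw [h2, h1]
      · have hS' : g1 * (x * q * x⁻¹) * g1⁻¹ ∈ (S : Subgroup G) := by rw [hconj]; exact hq1'S
        have hq4' : (g1 * (x * q * x⁻¹) * g1⁻¹) * (g1 * (x * q * x⁻¹) * g1⁻¹) ≠ 1 := by
          intro h
          apply hq4
          have e1 : (x * q * x⁻¹) * (x * q * x⁻¹) = g1⁻¹ *
              ((g1 * (x * q * x⁻¹) * g1⁻¹) * (g1 * (x * q * x⁻¹) * g1⁻¹)) * g1 := by group
          rw [e1, h]; group
        have hne' : g1 * (x * q * x⁻¹) * g1⁻¹ ≠ (x * q * x⁻¹)⁻¹ := by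
          intro h
          apply hne
          have hc := comm_of_conj_inv hodd1 (Or.inr h)
          rw [hc]; group
        intro w hw
        have hmem : ∀ r ∈ Q, ∃ r' ∈ Q, x * r * x⁻¹ = x * r' * x⁻¹ := fun r hr => ⟨r, hr, rfl⟩
        have hzQ : z = x * (q * q) * x⁻¹ := by
          rw [← (hQ.sq _ hq1S).resolve_left hq4]; group
        rcases hQ.gen _ hq1S _ hS' w hw hq4 hq4' hne hne' with
          h1 | h1 | h1 | h1 | h1 | h1 | h1 | h1
        · exact ⟨1, Q.one_mem, by rw [h1]; group⟩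
        · exact ⟨q * q, Q.mul_mem hq hq, by rw [h1, hzQ]⟩
        · exact ⟨q, hq, h1⟩
        · exact ⟨q⁻¹, Q.inv_mem hq, by rw [h1]; group⟩
        · exact ⟨g * q * g⁻¹, hgq, by rw [h1, hconj]⟩
        · exact ⟨(g * q * g⁻¹)⁻¹, Q.inv_mem hgq, by rw [h1, hconj]; group⟩
        · exact ⟨q * (g * q * g⁻¹), Q.mul_mem hq hgq, by rw [h1, hconj]; group⟩
        · exact ⟨(q * (g * q * g⁻¹))⁻¹, Q.inv_mem (Q.mul_mem hq hgq), by rw [h1, hconj]; group⟩
    refine ⟨g1, ?_, hodd1, ?_⟩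
    · rw [Subgroup.mem_normalizer_iff]
      intro w
      constructor
      · intro hw
        obtain ⟨r, hr, rfl⟩ := hall w hw
        have h1 := hQ1S _ ((Subgroup.mem_normalizer_iff.1 hgN r).1 hr)
        have e1 : g1 * (x * r * x⁻¹) * g1⁻¹ = x * (g * r * g⁻¹) * x⁻¹ := by rw [hg1]; group
        rw [e1]; exact h1
      · intro hw
        obtain ⟨r, hr, hrw⟩ := hall _ hw
        have hgr : g⁻¹ * r * g ∈ Q := by
          rw [Subgroup.mem_normalizer_iff] at hgN
          rw [hgN (g⁻¹ * r * g)]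
          have e2 : g * (g⁻¹ * r * g) * g⁻¹ = r := by group
          rw [e2]; exact hr
        have h1 := hQ1S _ hgr
        have e1 : w = x * (g⁻¹ * r * g) * x⁻¹ := by
          have : w = g1⁻¹ * (g1 * w * g1⁻¹) * g1 := by group
          rw [this, hrw, hg1]; group
        rw [e1]; exact h1
    · intro hcomm
      apply hne
      have := hcomm _ hq1S
      rw [this]; group
  obtain ⟨g1, hg1N, hg1odd, hg1C⟩ := hkey
  -- generators of A and B
  obtain ⟨a, haA, ha4, hAa⟩ := exists_order_four hQ A hA hA4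
  obtain ⟨b, hbB, hb4, hBb⟩ := exists_order_four hQ B hB hB4
  have haS : a ∈ (S : Subgroup G) := hA haA
  have hbS : b ∈ (S : Subgroup G) := hB hbB
  -- conjugation criterion
  have hcrit : ∀ n ∈ Subgroup.normalizer ((S : Subgroup G) : Set G),
      (n * a * n⁻¹ = b ∨ n * a * n⁻¹ = b⁻¹) →
      ∃ n ∈ Subgroup.normalizer ((S : Subgroup G) : Set G), B = A.map (MulAut.conj n).toMonoidHom := by
    intro n hn h
    refine ⟨n, hn, ?_⟩
    rw [hAa, hBb, MonoidHom.map_zpowers]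
    have e1 : (MulAut.conj n).toMonoidHom a = n * a * n⁻¹ := by simp [MulAut.conj_apply]
    rw [e1]
    rcases h with h | h
    · rw [h]
    · rw [h, Subgroup.zpowers_inv]
  -- no fixed pairs
  have hnofix : ∀ h ∈ Subgroup.normalizer ((S : Subgroup G) : Set G), (orderOf h).Coprime 2 →
      (¬ ∀ w ∈ (S : Subgroup G), h * w = w * h) → ∀ u ∈ (S : Subgroup G), u * u ≠ 1 →
      h * u * h⁻¹ ≠ u ∧ h * u * h⁻¹ ≠ u⁻¹ := by
    intro h hN hodd hC u hu hu4
    constructor
    · intro hf; exact hC (fix_centralizes hQ hN hodd hu hu4 (Or.inl hf))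
    · intro hf; exact hC (fix_centralizes hQ hN hodd hu hu4 (Or.inr hf))
  have hconj4 : ∀ h ∈ Subgroup.normalizer ((S : Subgroup G) : Set G), ∀ u ∈ (S : Subgroup G),
      u * u ≠ 1 → h * u * h⁻¹ ∈ (S : Subgroup G) ∧ (h * u * h⁻¹) * (h * u * h⁻¹) ≠ 1 := by
    intro h hN u hu hu4
    refine ⟨(Subgroup.mem_normalizer_iff.1 hN u).1 hu, ?_⟩
    intro hh
    apply hu4
    have e1 : u * u = h⁻¹ * ((h * u * h⁻¹) * (h * u * h⁻¹)) * h := by group
    rw [e1, hh]; group
  by_cases hba : b = a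
  · exact hcrit 1 (Subgroup.one_mem _) (Or.inl (by rw [hba]; group))
  by_cases hba' : b = a⁻¹
  · exact hcrit 1 (Subgroup.one_mem _) (Or.inr (by rw [hba']; group))
  -- g1 moves a
  obtain ⟨ha'S, ha'4⟩ := hconj4 g1 hg1N a haS ha4
  obtain ⟨hm1, hm2⟩ := hnofix g1 hg1N hg1odd hg1C a haS ha4
  rcases hQ.gen a haS b hbS _ ha'S ha4 hb4 hba hba' with h1 | h1 | h1 | h1 | h1 | h1 | h1 | h1
  · exfalso; apply ha'4; rw [h1, one_mul]
  · exfalso; apply ha'4; rw [h1]; exact hQ.zz
  · exact absurd h1 hm1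
  · exact absurd h1 hm2
  · exact hcrit g1 hg1N (Or.inl h1)
  · exact hcrit g1 hg1N (Or.inr h1)
  all_goals
    -- a' = (a*b)^{±1}; use g1^2
    have hg2N : g1 ^ 2 ∈ Subgroup.normalizer ((S : Subgroup G) : Set G) := Subgroup.pow_mem _ hg1N 2
    have hg2odd := odd_sq hg1odd
    have hg2C : ¬ ∀ w ∈ (S : Subgroup G), g1 ^ 2 * w = w * g1 ^ 2 := by
      intro hh
      apply hg1C
      intro w hw
      apply comm_of_pow_comm hg1odd 1
      simpa using hh w hw
    obtain ⟨ha''S, ha''4⟩ := hconj4 (g1 ^ 2) hg2N a haS ha4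
    obtain ⟨hn1, hn2⟩ := hnofix (g1 ^ 2) hg2N hg2odd hg2C a haS ha4
    obtain ⟨hk1, hk2⟩ := hnofix g1 hg1N hg1odd hg1C _ ha'S ha'4
    have e2 : g1 * (g1 * a * g1⁻¹) * g1⁻¹ = g1 ^ 2 * a * (g1 ^ 2)⁻¹ := by rw [pow_two]; group
    rw [e2] at hk1 hk2
    rcases hQ.gen a haS b hbS _ ha''S ha4 hb4 hba hba' with
      h2 | h2 | h2 | h2 | h2 | h2 | h2 | h2
    · exfalso; apply ha''4; rw [h2, one_mul]
    · exfalso; apply ha''4; rw [h2]; exact hQ.zz
    · exact absurd h2 hn1
    · exact absurd h2 hn2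
    · exact hcrit _ hg2N (Or.inl h2)
    · exact hcrit _ hg2N (Or.inr h2)
    · exfalso
      have ht : g1 ^ 2 * a * (g1 ^ 2)⁻¹ = g1 * a * g1⁻¹ ∨
          g1 ^ 2 * a * (g1 ^ 2)⁻¹ = (g1 * a * g1⁻¹)⁻¹ := by
        rw [h2, h1]; simp
      rcases ht with t | t
      · exact hk1 t
      · exact hk2 t
    · exfalso
      have ht : g1 ^ 2 * a * (g1 ^ 2)⁻¹ = g1 * a * g1⁻¹ ∨
          g1 ^ 2 * a * (g1 ^ 2)⁻¹ = (g1 * a * g1⁻¹)⁻¹ := by
        rw [h2, h1]; simp
      rcases ht with t | t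
      · exact hk1 t
      · exact hk2 t

end Cfsg.Agent.S0950
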