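import Mathlib
import Cfsg.Statements.S0957
import Cfsg.Agent.S0916

set_option autoImplicit false
open Cfsg

namespace Cfsg.Agent.S0957

open Cfsg.Agent.Lib.Helper9

theorem card_dvd_of_index {Z X : Type*} [Group Z] [MulAction Z X] [Finite Z] [Finite X] (m : ℕ)
    (h : ∀ x : X, m ∣ (MulAction.stabilizer Z x).index) : m ∣ Nat.card X := by
  classical
  haveI : Fintype (MulAction.orbitRel.Quotient Z X) := Fintype.ofFinite _
  rw [Nat.card_congr (MulAction.selfEquivSigmaOrbitsQuotientStabilizer Z X), Nat.card_sigma]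
  apply Finset.dvd_sum
  intro ω _
  rw [← Subgroup.index_eq_card]
  exact h _

/-- Let P be a Sylow p-subgroup of the finite group G, let g, h ∈ G and let p ^ d be the order of a Sylow p-subgroup of the centralizer of g. Then the number of pairs (y, z) with y conjugate to g, z conjugate to h and z * y⁻¹ ∈ P is divisible by the order of P divided by p ^ d. -/
theorem result {G : Type*} [Group G] [Finite G] (p : ℕ) [Fact p.Prime] (P : Sylow p G) (g h : G) (S : Sylow p (Subgroup.centralizer ({g} : Set G))) : Nat.card P / Nat.card S ∣ Nat.card {yz : G × G // IsConj g yz.1 ∧ IsConj h yz.2 ∧ yz.2 * yz.1⁻¹ ∈ (P : Subgroup G)} := by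
  classical
  have hpp : p.Prime := Fact.out
  have hsm : ∀ (u : (P : Subgroup G)) (yz : {yz : G × G // IsConj g yz.1 ∧ IsConj h yz.2 ∧ yz.2 * yz.1⁻¹ ∈ (P : Subgroup G)}),
      IsConj g ((u : G) * yz.1.1 * (u : G)⁻¹) ∧ IsConj h ((u : G) * yz.1.2 * (u : G)⁻¹) ∧
        ((u : G) * yz.1.2 * (u : G)⁻¹) * ((u : G) * yz.1.1 * (u : G)⁻¹)⁻¹ ∈ (P : Subgroup G) := by
    intro u yz
    refine ⟨yz.2.1.trans (isConj_iff.2 ⟨u, rfl⟩), yz.2.2.1.trans (isConj_iff.2 ⟨u, rfl⟩), ?_⟩
    have h1 : ((u : G) * yz.1.2 * (u : G)⁻¹) * ((u : G) * yz.1.1 * (u : G)⁻¹)⁻¹ = (u : G) * (yz.1.2 * yz.1.1⁻¹) * (u : G)⁻¹ := by group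
    rw [h1]
    exact mul_mem (mul_mem u.2 yz.2.2.2) (inv_mem u.2)
  letI : MulAction (P : Subgroup G) {yz : G × G // IsConj g yz.1 ∧ IsConj h yz.2 ∧ yz.2 * yz.1⁻¹ ∈ (P : Subgroup G)} :=
    { smul := fun u yz => ⟨((u : G) * yz.1.1 * (u : G)⁻¹, (u : G) * yz.1.2 * (u : G)⁻¹), hsm u yz⟩
      one_smul := fun yz => by
        apply Subtype.ext
        show ((((1 : (P : Subgroup G)) : G)) * yz.1.1 * (((1 : (P : Subgroup G)) : G))⁻¹, (((1 : (P : Subgroup G)) : G)) * yz.1.2 * (((1 : (P : Subgroup G)) : G))⁻¹) = yz.1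
        simp
      mul_smul := fun u v yz => by
        apply Subtype.ext
        show ((((u * v : (P : Subgroup G)) : G)) * yz.1.1 * (((u * v : (P : Subgroup G)) : G))⁻¹, (((u * v : (P : Subgroup G)) : G)) * yz.1.2 * (((u * v : (P : Subgroup G)) : G))⁻¹) =
          ((u : G) * ((v : G) * yz.1.1 * (v : G)⁻¹) * (u : G)⁻¹, (u : G) * ((v : G) * yz.1.2 * (v : G)⁻¹) * (u : G)⁻¹)
        rw [Subgroup.coe_mul]
        apply Prod.ext <;> simp [mul_assoc] }
  have hsmul_def : ∀ (u : (P : Subgroup G)) (yz : {yz : G × G // IsConj g yz.1 ∧ IsConj h yz.2 ∧ yz.2 * yz.1⁻¹ ∈ (P : Subgroup G)}),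
      (u • yz).1 = ((u : G) * yz.1.1 * (u : G)⁻¹, (u : G) * yz.1.2 * (u : G)⁻¹) := fun _ _ => rfl
  -- exponents
  obtain ⟨n, hn⟩ := IsPGroup.iff_card.1 P.2
  obtain ⟨d, hd⟩ := IsPGroup.iff_card.1 S.2
  have hSd : p ^ (Nat.card (Subgroup.centralizer ({g} : Set G))).factorization p = p ^ d := by
    rw [← hd, Sylow.card_eq_multiplicity]
  have hdn : d ≤ n := by
    have hS' : IsPGroup p ((S : Subgroup (Subgroup.centralizer ({g} : Set G))).map (Subgroup.centralizer ({g} : Set G)).subtype) := S.2.map _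
    obtain ⟨Q, hQ⟩ := hS'.exists_le_sylow
    have h1 := Subgroup.card_le_of_le hQ
    rw [Subgroup.card_map_of_injective (Subgroup.subtype_injective _), hd] at h1
    have h2 : Nat.card (Q : Subgroup G) = Nat.card (P : Subgroup G) := by
      rw [Sylow.card_eq_multiplicity, Sylow.card_eq_multiplicity]
    rw [h2, hn] at h1
    exact (Nat.pow_le_pow_iff_right hpp.one_lt).1 h1
  have hdiv : Nat.card P / Nat.card S = p ^ (n - d) := by
    have h1 : Nat.card P = p ^ n := hn
    have h2 : Nat.card S = p ^ d := hd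
    rw [h1, h2, Nat.pow_div hdn hpp.pos]
  rw [hdiv]
  apply card_dvd_of_index (Z := ↥(P : Subgroup G))
  intro x
  set T := MulAction.stabilizer (↥(P : Subgroup G)) x with hT
  obtain ⟨j, hj⟩ := IsPGroup.iff_card.1 (P.2.to_subgroup T)
  have hTle : T.map (P : Subgroup G).subtype ≤ Subgroup.centralizer ({x.1.1} : Set G) := by
    rintro _ ⟨u, hu, rfl⟩
    rw [Subgroup.mem_centralizer_singleton_iff]
    have h1 : u • x = x := hu
    have h2 := congrArg (fun t => t.1.1) h1
    simp only [hsmul_def] at h2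
    have h3 : (u : G) * x.1.1 * (u : G)⁻¹ = x.1.1 := h2
    have h4 : (u : G) * x.1.1 = ((u : G) * x.1.1 * (u : G)⁻¹) * (u : G) := by group
    show (u : G) * x.1.1 = x.1.1 * (u : G)
    rw [h4, h3]
  have hjd : j ≤ d := by
    have hTp : IsPGroup p (T.map (P : Subgroup G).subtype) := (P.2.to_subgroup T).map _
    have h1 := card_le_of_isPGroup_le p hTp hTle
    obtain ⟨a, ha⟩ := isConj_iff.1 x.2.1
    have h2 : Nat.card (Subgroup.centralizer ({x.1.1} : Set G)) = Nat.card (Subgroup.centralizer ({g} : Set G)) := by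
      rw [← ha, Cfsg.Agent.S0916.centralizer_conj, Cfsg.Agent.Lib.Helper7.card_map_conj]
    rw [h2, hSd, Subgroup.card_map_of_injective (Subgroup.subtype_injective _), hj] at h1
    exact (Nat.pow_le_pow_iff_right hpp.one_lt).1 h1
  have hidx : T.index = p ^ (n - j) := by
    have h1 := T.card_mul_index
    rw [hj] at h1
    have h2 : Nat.card (P : Subgroup G) = p ^ n := hn
    rw [h2] at h1
    have h3 : p ^ j * p ^ (n - j) = p ^ n := by
      rw [← pow_add]; congr 1; omega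
    rw [← h3] at h1
    exact Nat.eq_of_mul_eq_mul_left (pow_pos hpp.pos j) h1
  rw [hidx]
  exact pow_dvd_pow p (by omega)

end Cfsg.Agent.S0957
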