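import Cfsg.Statements.S0961
import Cfsg.Agent.Lib.Helper8.BrauerSection
import Cfsg.Agent.Lib.Helper8.BrauerPerm

set_option autoImplicit false
open Cfsg

namespace Cfsg.Agent.S0961

open Cfsg.Agent.Lib.Helper8

/-- Let χ be an irreducible character of the finite group G and let p ^ a be the largest power of the prime p dividing the order of G. Then the function equal to p ^ a * χ x at elements x of order prime to p and to 0 elsewhere is a generalized character (a difference of characters). -/
theorem result {G : Type*} [Group G] [Finite G] (p : ℕ) [Fact p.Prime] (χ : Cfsg.IrrCharacter G) : Cfsg.IsGeneralizedCharacter G (fun x : G => if p ∣ orderOf x then 0 else ((p ^ (Nat.card G).factorization p : ℕ) : ℂ) * (χ : G → ℂ) x) := by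
  classical
  have hp := (Fact.out : p.Prime)
  have := Fintype.ofFinite G
  set N := Nat.card G with hN
  have hN0 : N ≠ 0 := Nat.card_pos.ne'
  set a := N.factorization p with ha
  set n := p ^ a with hn
  set m := N / p ^ a with hm
  have hnm_eq : n * m = N := Nat.mul_div_cancel' (Nat.ordProj_dvd N p)
  have hpm : Nat.Coprime p m := Nat.coprime_ordCompl hp hN0
  have hcop : n.Coprime m := Nat.Coprime.pow_left a hpm
  set e := piExp n m with he
  have hpowG : ∀ z : G, z ^ (n * m) = 1 := by
    intro z; rw [hnm_eq]; exact pow_card_eq_one'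
  -- p-regular iff e-th power trivial
  have hreg : ∀ z : G, ¬ p ∣ orderOf z ↔ z ^ e = 1 := by
    intro z
    constructor
    · intro h
      apply pow_piExp_of_right hcop
      rw [← orderOf_dvd_iff_pow_eq_one]
      have h1 : orderOf z ∣ n * m := by rw [hnm_eq]; exact orderOf_dvd_natCard z
      have h2 : Nat.Coprime (orderOf z) n :=
        Nat.Coprime.pow_right a ((Nat.Prime.coprime_iff_not_dvd hp).mpr h).symm
      exact h2.dvd_of_dvd_mul_left h1
    · intro h hd
      have h1 := pow_piExp_mul_compl hcop (hpowG z)
      rw [h, mul_one] at h1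
      have h2 : (z ^ piExp m n) ^ m = 1 := pow_piExp_pow hcop.symm (by rw [mul_comm]; exact hpowG z)
      rw [h1] at h2
      have h3 : p ∣ m := hd.trans (orderOf_dvd_of_pow_eq_one h2)
      have := Nat.dvd_gcd (dvd_refl p) h3
      rw [hpm] at this
      exact hp.one_lt.ne' (Nat.dvd_one.mp this)
  set φ : G → ℂ := fun x => if p ∣ orderOf x then 0 else ((p ^ a : ℕ) : ℂ) * χ.1 x with hφ
  have hχc := irr_isCharacter χ.2
  have hχcf := isClassFunction_of_isCharacter hχc
  have hφcf : Cfsg.IsClassFunction G φ := by
    intro x y
    simp only [hφ]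
    have : orderOf (y * x * y⁻¹) = orderOf x := by
      have := orderOf_injective (MulAut.conj y).toMonoidHom (MulAut.conj y).injective x
      simpa [MulAut.conj_apply] using this
    rw [this, hχcf]
  apply brauer_characterization φ hφcf
  intro E q hq hE
  apply isGen_of_char
  have hcardE : Nat.card E ∣ n * m := by rw [hnm_eq]; exact Subgroup.card_subgroup_dvd_card E
  let F := piHom hq hE hcop hcardE
  let K : Subgroup E := F.ker
  haveI : K.Normal := MonoidHom.normal_ker F
  have hKmem : ∀ x : E, x ∈ K ↔ ¬ p ∣ orderOf (x : G) := by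
    intro x
    rw [hreg]
    show F x = 1 ↔ _
    rw [piHom_apply]
    constructor
    · intro h
      have := congrArg Subtype.val h
      simpa using this
    · intro h
      apply Subtype.ext
      simpa using h
  have hEpow : ∀ x : E, x ^ (n * m) = 1 := by
    intro x
    obtain ⟨t, ht⟩ := hcardE
    rw [ht, pow_mul, pow_card_eq_one', one_pow]
  have hQpow : ∀ z : E ⧸ K, z ^ n = 1 := by
    intro z
    induction z using QuotientGroup.induction_on with
    | H x =>
      rw [← QuotientGroup.mk_pow, QuotientGroup.eq_one_iff]
      show F (x ^ n) = 1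
      rw [map_pow]
      show (x ^ piExp n m) ^ n = 1
      exact pow_piExp_pow hcop (hEpow x)
  have hQcard : Nat.card (E ⧸ K) ∣ n * m :=
    (Subgroup.card_quotient_dvd_card K).trans hcardE
  obtain ⟨d, hd⟩ := card_dvd_of_forall_pow hcop hQpow hQcard
  have hEK : Nat.card E = Nat.card (E ⧸ K) * Nat.card K :=
    Subgroup.card_eq_card_quotient_mul_card_subgroup K
  have hKne : (Nat.card K : ℂ) ≠ 0 := Nat.cast_ne_zero.mpr Nat.card_pos.ne'
  have hind : ∀ x : E, Cfsg.indFun K (fun _ => (1 : ℂ)) x =
      if x ∈ K then (Nat.card (E ⧸ K) : ℂ) else 0 := by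
    intro x
    rw [indFun_apply]
    simp_rw [extendByZero_one_apply]
    have hconj : ∀ y : E, y⁻¹ * x * y ∈ K ↔ x ∈ K := by
      intro y
      constructor
      · intro h
        have := (inferInstance : K.Normal).conj_mem _ h y
        simpa [mul_assoc] using this
      · intro h
        have := (inferInstance : K.Normal).conj_mem _ h y⁻¹
        simpa [mul_assoc] using this
    simp_rw [hconj]
    by_cases hx : x ∈ K
    · simp only [if_pos hx, Finset.sum_const, Finset.card_univ, nsmul_eq_mul, mul_one]
      rw [← Nat.card_eq_fintype_card, hEK]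
      push_cast
      field_simp
    · simp [if_neg hx]
  have hchar : Cfsg.IsCharacter E ((fun x : E => χ.1 x) *
      fun x : E => (d : ℂ) * Cfsg.indFun K (fun _ => (1 : ℂ)) x) :=
    isCharacter_mul (isCharacter_restrict E hχc)
      (isCharacter_nsmul (isCharacter_indFun K (irr_isCharacter principal_isIrrCharacter)) d)
  convert hchar using 1
  funext x
  simp only [hφ, Pi.mul_apply, hind]
  by_cases hx : x ∈ K
  · rw [if_neg ((hKmem x).mp hx), if_pos hx]
    have : ((p ^ a : ℕ) : ℂ) = (Nat.card (E ⧸ K) : ℂ) * (d : ℂ) := by
      rw [← hn, hd]; push_cast; rfl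
    rw [this]; ring
  · have : p ∣ orderOf (x : G) := by
      by_contra h
      exact hx ((hKmem x).mpr h)
    rw [if_pos this, if_neg hx]; ring

end Cfsg.Agent.S0961
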