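import Cfsg.Statements.S0963
import Cfsg.Agent.Lib.Helper8.CharClifford3
import Cfsg.Agent.Lib.Helper8.CharCliffordCorr
import Cfsg.Agent.S0932

set_option autoImplicit false
open Cfsg

namespace Cfsg.Agent.S0963

open Cfsg.Agent.Lib.Helper8
theorem forward {G : Type*} [Group G] [Fintype G] (N : Subgroup G) [hN : N.Normal] [Fintype N]
    (χ : Cfsg.IrrCharacter G) (θ : Cfsg.IrrCharacter N)
    (hcon : Cfsg.classInner (fun n : N => (χ : G → ℂ) n) (θ : N → ℂ) ≠ 0) (n : N) :
    Cfsg.centralChar (χ : G → ℂ) (n : G) = Cfsg.inducedCentralChar N (θ : N → ℂ) (n : G) := by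
  classical
  rw [Cfsg.Agent.S0932.result N θ.1 (irr_isCharacter θ.2) (n : G)]
  unfold centralChar
  have h1 := clifford hN χ.2 θ.2 hcon
  have h2 := indFun_restrict_orbit hN θ.1
  set Sorb : N → ℂ := ∑ᶠ ψ ∈ {ψ : N → ℂ | ∃ g : G, ψ = conjChar hN θ.1 g}, ψ with hS
  set e := classInner (fun n : N => χ.1 n) θ.1 with he
  set c₁ : ℂ := (Nat.card {g : G // conjChar hN θ.1 g = θ.1} : ℂ) / (Nat.card N : ℂ) with hc₁
  have hc₁ne : c₁ ≠ 0 := by
    rw [hc₁]
    apply div_ne_zero
    · have : Nonempty {g : G // conjChar hN θ.1 g = θ.1} := ⟨⟨1, conjChar_one hN θ.1⟩⟩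
      exact Nat.cast_ne_zero.mpr Nat.card_pos.ne'
    · exact Nat.cast_ne_zero.mpr Nat.card_pos.ne'
  have hχ : ∀ x : N, χ.1 x = e * Sorb x := by
    intro x
    have := congrFun h1 x
    simpa using this
  have hI : ∀ x : N, indFun N θ.1 x = c₁ * Sorb x := by
    intro x
    have := congrFun h2 x
    simpa using this
  have hχ1 : χ.1 1 = e * Sorb 1 := by
    have := hχ 1
    rwa [OneMemClass.coe_one] at this
  have hI1 : indFun N θ.1 1 = c₁ * Sorb 1 := by
    have := hI 1
    rwa [OneMemClass.coe_one] at this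
  have hS1 : Sorb 1 ≠ 0 := by
    intro h0
    apply irr_one_ne_zero χ
    rw [hχ1, h0, mul_zero]
  rw [hχ n, hI n, hχ1, hI1]
  field_simp

/-- Let N be a normal subgroup of the finite group G, χ an irreducible character of G and θ an irreducible character of N. Then θ occurs in the restriction of χ to N if and only if, for every n ∈ N, the central character of χ at n (class size in G times χ n over χ 1) equals the sum of θ m / θ 1 over the elements m of N conjugate in G to n. -/
theorem result {G : Type*} [Group G] [Fintype G] (N : Subgroup G) [N.Normal] [Fintype N] (χ : Cfsg.IrrCharacter G) (θ : Cfsg.IrrCharacter N) : Cfsg.classInner (fun n : N => (χ : G → ℂ) n) (θ : N → ℂ) ≠ 0 ↔ ∀ n : N, Cfsg.centralChar (χ : G → ℂ) (n : G) = Cfsg.inducedCentralChar N (θ : N → ℂ) (n : G) := by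
  classical
  have hN : N.Normal := inferInstance
  constructor
  · intro hcon n
    exact forward N χ θ hcon n
  · intro hall
    have := irr_finite (G := G)
    have : Fintype (IrrCharacter G) := Fintype.ofFinite _
    -- some ψ lies over θ
    obtain ⟨m, hm⟩ := isCharacter_decomp (isCharacter_indFun N (irr_isCharacter θ.2))
    have hex : ∃ ψ : IrrCharacter G, m ψ ≠ 0 := by
      by_contra hcon
      push Not at hcon
      apply indFun_ne_zero N θ
      ext g
      rw [hm g]
      simp [hcon]
    obtain ⟨ψ, hψ⟩ := hex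
    have hψcf : IsClassFunction G ψ.1 := isClassFunction_of_isCharacter (irr_isCharacter ψ.2)
    have hmψ : classInner (indFun N θ.1) ψ.1 = (m ψ : ℂ) := by
      rw [funext hm]
      exact classInner_comb_irr (fun ψ => (m ψ : ℂ)) ψ
    have hconψ : classInner (fun n : N => ψ.1 n) θ.1 ≠ 0 := by
      rw [classInner_conj_symm, ← frobenius_reciprocity N θ.1 ψ.1 hψcf, hmψ]
      simp only [map_natCast]
      exact_mod_cast hψ
    -- χ and ψ proportional on N
    have hprop : ∀ n : N, χ.1 n = (χ.1 1 / ψ.1 1) * ψ.1 n := by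
      intro n
      have h1 := hall n
      have h2 := forward N ψ θ hconψ n
      rw [← h2] at h1
      unfold centralChar at h1
      have hidx : ((Subgroup.centralizer ({(n : G)} : Set G)).index : ℂ) ≠ 0 :=
        Nat.cast_ne_zero.mpr Subgroup.index_ne_zero_of_finite
      have hχ1 := irr_one_ne_zero χ
      have hψ1 := irr_one_ne_zero ψ
      field_simp at h1
      field_simp
      linear_combination h1
    have : classInner (fun n : N => χ.1 n) θ.1 = (χ.1 1 / ψ.1 1) * classInner (fun n : N => ψ.1 n) θ.1 := by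
      unfold classInner
      rw [Finset.mul_sum, Finset.mul_sum, Finset.mul_sum]
      apply Finset.sum_congr rfl
      intro n _
      beta_reduce
      rw [hprop n]; ring
    rw [this]
    exact mul_ne_zero (div_ne_zero (irr_one_ne_zero χ) (irr_one_ne_zero ψ)) hconψ

end Cfsg.Agent.S0963
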