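import Mathlib
import Cfsg.Statements.S0982
import Cfsg.Agent.S0495
import Cfsg.Agent.Lib.Helper1.SmallSimple
import Cfsg.Agent.Lib.Helper1.SimpleAct
import Cfsg.Agent.Lib.Helper1.PSL2Small
import Cfsg.Agent.Lib.Helper7.Syl15Base
import Cfsg.Agent.Lib.Helper7.SylCyc
import Cfsg.Agent.Lib.Helper7.Syl21Gen

set_option autoImplicit false
open Cfsg

namespace Cfsg.Agent.S0982

/-! ## Concrete permutations of the projective line over `Fin 23` -/

abbrev Pt := Option (Fin 23)

def Uperm : Equiv.Perm Pt := Equiv.optionCongr (Equiv.addRight (1 : Fin 23))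

def mulm : Equiv.Perm (Fin 23) := ⟨fun x => 4 * x, fun x => 6 * x, by decide, by decide⟩

def Hperm : Equiv.Perm Pt := Equiv.optionCongr mulm

def Hi : Pt → Pt := Option.map (fun x => 6 * x)

def Tfun (v : Fin 23 → Pt) : Pt → Pt := fun o =>
  match o with
  | none => some 0
  | some x => v x

def Tcv0 : Fin 23 → Pt := ![none, some 22, some 11, some 15, some 17, some 9, some 19, some 13, some 20, some 5, some 16, some 2, some 21, some 7, some 18, some 3, some 10, some 4, some 14, some 6, some 8, some 12, some 1]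
def Tcv1 : Fin 23 → Pt := ![none, some 7, some 15, some 10, some 19, some 6, some 5, some 1, some 21, some 11, some 3, some 9, some 14, some 20, some 12, some 2, some 22, some 18, some 17, some 4, some 13, some 8, some 16]
def Tcv2 : Fin 23 → Pt := ![none, some 20, some 10, some 22, some 5, some 4, some 11, some 16, some 14, some 15, some 2, some 6, some 17, some 21, some 8, some 9, some 7, some 12, some 19, some 18, some 1, some 13, some 3]
def Tcv3 : Fin 23 → Pt := ![none, some 21, some 22, some 7, some 11, some 18, some 15, some 3, some 17, some 10, some 9, some 4, some 19, some 14, some 13, some 6, some 20, some 8, some 5, some 12, some 16, some 1, some 2]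
def Tcv4 : Fin 23 → Pt := ![none, some 14, some 7, some 20, some 15, some 12, some 10, some 2, some 19, some 22, some 6, some 18, some 5, some 17, some 1, some 4, some 21, some 13, some 11, some 8, some 3, some 16, some 9]
def Tcv5 : Fin 23 → Pt := ![none, some 17, some 20, some 21, some 10, some 8, some 22, some 9, some 5, some 7, some 4, some 12, some 11, some 19, some 16, some 18, some 14, some 1, some 15, some 13, some 2, some 3, some 6]
def Tcv6 : Fin 23 → Pt := ![none, some 19, some 21, some 14, some 22, some 13, some 7, some 6, some 11, some 20, some 18, some 8, some 15, some 5, some 3, some 12, some 17, some 16, some 10, some 1, some 9, some 2, some 4]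
def Tcv7 : Fin 23 → Pt := ![none, some 5, some 14, some 17, some 7, some 1, some 20, some 4, some 15, some 21, some 12, some 13, some 10, some 11, some 2, some 8, some 19, some 3, some 22, some 16, some 6, some 9, some 18]
def Tcv8 : Fin 23 → Pt := ![none, some 11, some 17, some 19, some 20, some 16, some 21, some 18, some 10, some 14, some 8, some 1, some 22, some 15, some 9, some 13, some 5, some 2, some 7, some 3, some 4, some 6, some 12]
def Tcv9 : Fin 23 → Pt := ![none, some 15, some 19, some 5, some 21, some 3, some 14, some 12, some 22, some 17, some 13, some 16, some 7, some 10, some 6, some 1, some 11, some 9, some 20, some 2, some 18, some 4, some 8]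
def Tcv10 : Fin 23 → Pt := ![none, some 10, some 5, some 11, some 14, some 2, some 17, some 8, some 7, some 19, some 1, some 3, some 20, some 22, some 4, some 16, some 15, some 6, some 21, some 9, some 12, some 18, some 13]

def Tc0 : Equiv.Perm Pt := ⟨Tfun Tcv0, Tfun Tcv0, by decide, by decide⟩
def Tc1 : Equiv.Perm Pt := ⟨Tfun Tcv1, Tfun Tcv1, by decide, by decide⟩
def Tc2 : Equiv.Perm Pt := ⟨Tfun Tcv2, Tfun Tcv2, by decide, by decide⟩
def Tc3 : Equiv.Perm Pt := ⟨Tfun Tcv3, Tfun Tcv3, by decide, by decide⟩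
def Tc4 : Equiv.Perm Pt := ⟨Tfun Tcv4, Tfun Tcv4, by decide, by decide⟩
def Tc5 : Equiv.Perm Pt := ⟨Tfun Tcv5, Tfun Tcv5, by decide, by decide⟩
def Tc6 : Equiv.Perm Pt := ⟨Tfun Tcv6, Tfun Tcv6, by decide, by decide⟩
def Tc7 : Equiv.Perm Pt := ⟨Tfun Tcv7, Tfun Tcv7, by decide, by decide⟩
def Tc8 : Equiv.Perm Pt := ⟨Tfun Tcv8, Tfun Tcv8, by decide, by decide⟩
def Tc9 : Equiv.Perm Pt := ⟨Tfun Tcv9, Tfun Tcv9, by decide, by decide⟩
def Tc10 : Equiv.Perm Pt := ⟨Tfun Tcv10, Tfun Tcv10, by decide, by decide⟩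

theorem Tc1_eq : Tc1 = Hperm ^ 1 * Tc0 * (Hperm ^ 1)⁻¹ := by
  apply Equiv.ext
  decide

theorem Tc2_eq : Tc2 = Hperm ^ 2 * Tc0 * (Hperm ^ 2)⁻¹ := by
  apply Equiv.ext
  decide

theorem Tc3_eq : Tc3 = Hperm ^ 3 * Tc0 * (Hperm ^ 3)⁻¹ := by
  apply Equiv.ext
  decide

theorem Tc4_eq : Tc4 = Hperm ^ 4 * Tc0 * (Hperm ^ 4)⁻¹ := by
  apply Equiv.ext
  decide

theorem Tc5_eq : Tc5 = Hperm ^ 5 * Tc0 * (Hperm ^ 5)⁻¹ := by
  apply Equiv.ext
  decide

theorem Tc6_eq : Tc6 = Hperm ^ 6 * Tc0 * (Hperm ^ 6)⁻¹ := by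
  apply Equiv.ext
  decide

theorem Tc7_eq : Tc7 = Hperm ^ 7 * Tc0 * (Hperm ^ 7)⁻¹ := by
  apply Equiv.ext
  decide

theorem Tc8_eq : Tc8 = Hperm ^ 8 * Tc0 * (Hperm ^ 8)⁻¹ := by
  apply Equiv.ext
  decide

theorem Tc9_eq : Tc9 = Hperm ^ 9 * Tc0 * (Hperm ^ 9)⁻¹ := by
  apply Equiv.ext
  decide

theorem Tc10_eq : Tc10 = Hperm ^ 10 * Tc0 * (Hperm ^ 10)⁻¹ := by
  apply Equiv.ext
  decide

def Fab (a b : Pt) : Pt → Pt := Tfun ![none, a, Hi (Hi (Hi (Hi (Hi (Hi a))))), Hi (Hi (Hi (Hi a))), Hi a, b, Hi (Hi (Hi (Hi (Hi (Hi (Hi (Hi (Hi (Hi a))))))))), Hi (Hi (Hi (Hi (Hi (Hi (Hi (Hi (Hi (Hi b))))))))), Hi (Hi (Hi (Hi (Hi (Hi (Hi a)))))), Hi (Hi (Hi (Hi (Hi (Hi (Hi (Hi a))))))), Hi (Hi (Hi (Hi (Hi (Hi b))))), Hi (Hi b), Hi (Hi (Hi (Hi (Hi a)))), Hi (Hi (Hi (Hi (Hi (Hi (Hi (Hi (Hi a)))))))), Hi (Hi (Hi (Hi (Hi b)))), Hi (Hi (Hi (Hi b))), Hi (Hi a), Hi (Hi (Hi (Hi (Hi (Hi (Hi b)))))), Hi (Hi (Hi a)), Hi (Hi (Hi (Hi (Hi (Hi (Hi (Hi (Hi b)))))))), Hi b, Hi (Hi (Hi b)), Hi (Hi (Hi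 (Hi (Hi (Hi (Hi (Hi b)))))))]

set_option maxRecDepth 100000 in
theorem Fab_cases : ∀ a b : Pt, (∀ o, Fab a b (Fab a b o) = o) → (∀ o, Fab a b o ≠ o) →
    Fab a b = Tfun Tcv0 ∨ Fab a b = Tfun Tcv1 ∨ Fab a b = Tfun Tcv2 ∨ Fab a b = Tfun Tcv3 ∨ Fab a b = Tfun Tcv4 ∨ Fab a b = Tfun Tcv5 ∨ Fab a b = Tfun Tcv6 ∨ Fab a b = Tfun Tcv7 ∨ Fab a b = Tfun Tcv8 ∨ Fab a b = Tfun Tcv9 ∨ Fab a b = Tfun Tcv10 := by
  decide

theorem Hperm_inv_apply (o : Pt) : Hperm⁻¹ o = Hi o := by
  cases o <;> rfl

theorem Hperm_fix : ∀ o : Pt, Hperm o = o → o = none ∨ o = some 0 := by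
  decide

theorem lemmaD (π : Equiv.Perm Pt) (h0 : π none = some 0) (h2 : π * π = 1)
    (hrel : π * Hperm * π⁻¹ = Hperm⁻¹) (hfpf : ∀ o, π o ≠ o) :
    ∃ j : ℕ, π = Hperm ^ j * Tc0 * (Hperm ^ j)⁻¹ := by
  have hrel' : ∀ x, π (Hperm x) = Hi (π x) := by
    intro x
    have h := mul_inv_eq_iff_eq_mul.1 hrel
    have h' := DFunLike.congr_fun h x
    rw [Equiv.Perm.mul_apply, Equiv.Perm.mul_apply, Hperm_inv_apply] at h'
    exact h'
  have hinv : ∀ x, π (π x) = x := by
    intro x
    have h' := DFunLike.congr_fun h2 x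
    rw [Equiv.Perm.mul_apply] at h'
    exact h'
  have h00 : π (some 0) = none := by
    have := hinv none
    rw [h0] at this
    exact this
  have es0 : π (some 1) = π (some 1) := rfl
  have es1 : π (some 4) = Hi (π (some 1)) := by
    have := hrel' (some 1)
    rw [es0] at this
    exact this
  have es2 : π (some 16) = Hi (Hi (π (some 1))) := by
    have := hrel' (some 4)
    rw [es1] at this
    exact this
  have es3 : π (some 18) = Hi (Hi (Hi (π (some 1)))) := by
    have := hrel' (some 16)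
    rw [es2] at this
    exact this
  have es4 : π (some 3) = Hi (Hi (Hi (Hi (π (some 1))))) := by
    have := hrel' (some 18)
    rw [es3] at this
    exact this
  have es5 : π (some 12) = Hi (Hi (Hi (Hi (Hi (π (some 1)))))) := by
    have := hrel' (some 3)
    rw [es4] at this
    exact this
  have es6 : π (some 2) = Hi (Hi (Hi (Hi (Hi (Hi (π (some 1))))))) := by
    have := hrel' (some 12)
    rw [es5] at this
    exact this
  have es7 : π (some 8) = Hi (Hi (Hi (Hi (Hi (Hi (Hi (π (some 1)))))))) := by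
    have := hrel' (some 2)
    rw [es6] at this
    exact this
  have es8 : π (some 9) = Hi (Hi (Hi (Hi (Hi (Hi (Hi (Hi (π (some 1))))))))) := by
    have := hrel' (some 8)
    rw [es7] at this
    exact this
  have es9 : π (some 13) = Hi (Hi (Hi (Hi (Hi (Hi (Hi (Hi (Hi (π (some 1)))))))))) := by
    have := hrel' (some 9)
    rw [es8] at this
    exact this
  have es10 : π (some 6) = Hi (Hi (Hi (Hi (Hi (Hi (Hi (Hi (Hi (Hi (π (some 1))))))))))) := by
    have := hrel' (some 13)
    rw [es9] at this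
    exact this
  have en0 : π (some 5) = π (some 5) := rfl
  have en1 : π (some 20) = Hi (π (some 5)) := by
    have := hrel' (some 5)
    rw [en0] at this
    exact this
  have en2 : π (some 11) = Hi (Hi (π (some 5))) := by
    have := hrel' (some 20)
    rw [en1] at this
    exact this
  have en3 : π (some 21) = Hi (Hi (Hi (π (some 5)))) := by
    have := hrel' (some 11)
    rw [en2] at this
    exact this
  have en4 : π (some 15) = Hi (Hi (Hi (Hi (π (some 5))))) := by
    have := hrel' (some 21)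
    rw [en3] at this
    exact this
  have en5 : π (some 14) = Hi (Hi (Hi (Hi (Hi (π (some 5)))))) := by
    have := hrel' (some 15)
    rw [en4] at this
    exact this
  have en6 : π (some 10) = Hi (Hi (Hi (Hi (Hi (Hi (π (some 5))))))) := by
    have := hrel' (some 14)
    rw [en5] at this
    exact this
  have en7 : π (some 17) = Hi (Hi (Hi (Hi (Hi (Hi (Hi (π (some 5)))))))) := by
    have := hrel' (some 10)
    rw [en6] at this
    exact this
  have en8 : π (some 22) = Hi (Hi (Hi (Hi (Hi (Hi (Hi (Hi (π (some 5))))))))) := by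
    have := hrel' (some 17)
    rw [en7] at this
    exact this
  have en9 : π (some 19) = Hi (Hi (Hi (Hi (Hi (Hi (Hi (Hi (Hi (π (some 5)))))))))) := by
    have := hrel' (some 22)
    rw [en8] at this
    exact this
  have en10 : π (some 7) = Hi (Hi (Hi (Hi (Hi (Hi (Hi (Hi (Hi (Hi (π (some 5))))))))))) := by
    have := hrel' (some 19)
    rw [en9] at this
    exact this
  have hF : ⇑π = Fab (π (some 1)) (π (some 5)) := by
    funext o
    match o with
    | none => exact h0
    | some x =>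
      fin_cases x
      · exact h00
      · exact es0
      · exact es6
      · exact es4
      · exact es1
      · exact en0
      · exact es10
      · exact en10
      · exact es7
      · exact es8
      · exact en6
      · exact en2
      · exact es5
      · exact es9
      · exact en5
      · exact en4
      · exact es2
      · exact en7
      · exact es3
      · exact en9
      · exact en1
      · exact en3
      · exact en8
  have hc := Fab_cases (π (some 1)) (π (some 5))
    (by intro o; rw [← hF]; exact hinv o) (by intro o; rw [← hF]; exact hfpf o)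
  rcases hc with h | h | h | h | h | h | h | h | h | h | h
  · refine ⟨0, ?_⟩
    rw [pow_zero, one_mul, inv_one, mul_one]
    apply Equiv.ext
    intro o
    rw [hF, h]; rfl
  · refine ⟨1, ?_⟩
    rw [← Tc1_eq]
    apply Equiv.ext
    intro o
    rw [hF, h]; rfl
  · refine ⟨2, ?_⟩
    rw [← Tc2_eq]
    apply Equiv.ext
    intro o
    rw [hF, h]; rfl
  · refine ⟨3, ?_⟩
    rw [← Tc3_eq]
    apply Equiv.ext
    intro o
    rw [hF, h]; rfl
  · refine ⟨4, ?_⟩
    rw [← Tc4_eq]
    apply Equiv.ext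
    intro o
    rw [hF, h]; rfl
  · refine ⟨5, ?_⟩
    rw [← Tc5_eq]
    apply Equiv.ext
    intro o
    rw [hF, h]; rfl
  · refine ⟨6, ?_⟩
    rw [← Tc6_eq]
    apply Equiv.ext
    intro o
    rw [hF, h]; rfl
  · refine ⟨7, ?_⟩
    rw [← Tc7_eq]
    apply Equiv.ext
    intro o
    rw [hF, h]; rfl
  · refine ⟨8, ?_⟩
    rw [← Tc8_eq]
    apply Equiv.ext
    intro o
    rw [hF, h]; rfl
  · refine ⟨9, ?_⟩
    rw [← Tc9_eq]
    apply Equiv.ext
    intro o
    rw [hF, h]; rfl
  · refine ⟨10, ?_⟩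
    rw [← Tc10_eq]
    apply Equiv.ext
    intro o
    rw [hF, h]; rfl

theorem closure_conj {Γ : Type*} [Group Γ] (a b t : Γ) (j : ℕ) :
    Subgroup.closure ({a, b, b ^ j * t * (b ^ j)⁻¹} : Set Γ) = Subgroup.closure ({a, b, t} : Set Γ) := by
  apply le_antisymm
  · rw [Subgroup.closure_le]
    intro x hx
    simp only [Set.mem_insert_iff, Set.mem_singleton_iff] at hx
    have hb : b ∈ Subgroup.closure ({a, b, t} : Set Γ) := Subgroup.subset_closure (by simp)
    have ht : t ∈ Subgroup.closure ({a, b, t} : Set Γ) := Subgroup.subset_closure (by simp)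
    rcases hx with rfl | rfl | rfl
    · exact Subgroup.subset_closure (by simp)
    · exact hb
    · exact Subgroup.mul_mem _ (Subgroup.mul_mem _ (Subgroup.pow_mem _ hb j) ht)
        (Subgroup.inv_mem _ (Subgroup.pow_mem _ hb j))
  · rw [Subgroup.closure_le]
    intro x hx
    simp only [Set.mem_insert_iff, Set.mem_singleton_iff] at hx
    have hb : b ∈ Subgroup.closure ({a, b, b ^ j * t * (b ^ j)⁻¹} : Set Γ) :=
      Subgroup.subset_closure (by simp)
    have ht : b ^ j * t * (b ^ j)⁻¹ ∈ Subgroup.closure ({a, b, b ^ j * t * (b ^ j)⁻¹} : Set Γ) :=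
      Subgroup.subset_closure (by simp)
    rcases hx with rfl | rfl | rfl
    · exact Subgroup.subset_closure (by simp)
    · exact hb
    · have e : (b ^ j)⁻¹ * (b ^ j * x * (b ^ j)⁻¹) * b ^ j = x := by group
      have hmem := Subgroup.mul_mem _ (Subgroup.mul_mem _
        (Subgroup.inv_mem _ (Subgroup.pow_mem _ hb j)) ht) (Subgroup.pow_mem _ hb j)
      rw [e] at hmem
      exact hmem

/-! ## Labelling -/

section labelling

variable {G X : Type*} [Group G] [MulAction G X]

def Emap (u : G) (p q : X) : Pt → X := fun o =>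
  match o with
  | none => p
  | some i => u ^ (i : ℕ) • q

theorem Emap_bij [Fintype X] (hX : Fintype.card X = 24) {u : G} {p q : X} (hup : u • p = p)
    (hqp : q ≠ p) (hfree : ∀ i : ℕ, 0 < i → i < 23 → u ^ i • q ≠ q) :
    Function.Bijective (Emap u p q) := by
  have hupow : ∀ i : ℕ, u ^ i • p = p := by
    intro i
    induction i with
    | zero => simp
    | succ n ih => rw [pow_succ, mul_smul, hup, ih]
  have key : ∀ i j : ℕ, i < j → j < 23 → u ^ i • q ≠ u ^ j • q := by
    intro i j hij hj h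
    have e : u ^ j = u ^ i * u ^ (j - i) := by
      rw [← pow_add]; congr 1; omega
    rw [e, mul_smul] at h
    have h' := smul_left_cancel _ h
    exact hfree (j - i) (by omega) (by omega) h'.symm
  have hinj : Function.Injective (Emap u p q) := by
    intro o1 o2 h
    match o1, o2 with
    | none, none => rfl
    | none, some j =>
      exfalso
      apply hqp
      have h1 : p = u ^ (j : ℕ) • q := h
      have h2 : u ^ (j : ℕ) • q = u ^ (j : ℕ) • p := by rw [hupow]; exact h1.symm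
      exact smul_left_cancel _ h2
    | some i, none =>
      exfalso
      apply hqp
      have h1 : u ^ (i : ℕ) • q = p := h
      have h2 : u ^ (i : ℕ) • q = u ^ (i : ℕ) • p := by rw [hupow]; exact h1
      exact smul_left_cancel _ h2
    | some i, some j =>
      have h1 : u ^ (i : ℕ) • q = u ^ (j : ℕ) • q := h
      congr 1
      apply Fin.ext
      rcases lt_trichotomy (i : ℕ) (j : ℕ) with hlt | heq | hgt
      · exact absurd h1 (key _ _ hlt j.2)
      · exact heq
      · exact absurd h1.symm (key _ _ hgt i.2)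
  rw [Fintype.bijective_iff_injective_and_card]
  refine ⟨hinj, ?_⟩
  rw [hX]
  rfl

noncomputable def psi (Eq : Pt ≃ X) : G →* Equiv.Perm Pt where
  toFun g := (Eq.trans (MulAction.toPerm g)).trans Eq.symm
  map_one' := by
    apply Equiv.ext
    intro o
    simp
  map_mul' g g' := by
    apply Equiv.ext
    intro o
    simp [mul_smul]

theorem psi_apply (Eq : Pt ≃ X) (g : G) (o : Pt) : psi Eq g o = Eq.symm (g • Eq o) := rfl

theorem psi_injective (Eq : Pt ≃ X) (hfaith : ∀ g : G, (∀ x : X, g • x = x) → g = 1) :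
    Function.Injective (psi (G := G) Eq) := by
  rw [injective_iff_map_eq_one]
  intro g hg
  apply hfaith
  intro x
  have h := DFunLike.congr_fun hg (Eq.symm x)
  rw [psi_apply, Equiv.apply_symm_apply, Equiv.Perm.one_apply] at h
  exact Eq.symm.injective h

theorem label_u (Eq : Pt ≃ X) {u : G} {p q : X} (hEq : ∀ o, Eq o = Emap u p q o)
    (hu7 : u ^ 23 = 1) (hup : u • p = p) : psi Eq u = Uperm := by
  apply Equiv.ext
  intro o
  rw [psi_apply, Equiv.symm_apply_eq, hEq, hEq]
  match o with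
  | none => exact hup
  | some i =>
    show u • (u ^ (i : ℕ) • q) = u ^ ((i + 1 : Fin 23) : ℕ) • q
    rw [← mul_smul, ← pow_succ', Fin.val_add, Fin.val_one, ← pow_eq_pow_mod _ hu7]

theorem label_h (Eq : Pt ≃ X) {u h : G} {p q : X} (hEq : ∀ o, Eq o = Emap u p q o)
    (hu7 : u ^ 23 = 1) (hhp : h • p = p) (hhq : h • q = q) (hhu : h * u * h⁻¹ = u ^ 4) :
    psi Eq h = Hperm := by
  apply Equiv.ext
  intro o
  rw [psi_apply, Equiv.symm_apply_eq, hEq, hEq]
  match o with
  | none => exact hhp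
  | some i =>
    show h • (u ^ (i : ℕ) • q) = u ^ ((4 * i : Fin 23) : ℕ) • q
    have e : h * u ^ (i : ℕ) = (u ^ 4) ^ (i : ℕ) * h := by
      rw [← hhu, conj_pow, inv_mul_cancel_right]
    have h4 : ((4 : Fin 23) : ℕ) = 4 := rfl
    rw [← mul_smul, e, mul_smul, hhq, ← pow_mul, Fin.val_mul, h4, ← pow_eq_pow_mod _ hu7]

end labelling


/-! ## the group theory -/

section main

variable {G : Type*} [Group G] [Finite G] [IsSimpleGroup G]

instance factP : Fact (Nat.Prime 23) := ⟨by norm_num⟩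
instance factD : Fact (Nat.Prime 11) := ⟨by norm_num⟩

open Cfsg.Agent.Lib.Helper1 Cfsg.Agent.Lib.Helper7

set_option maxRecDepth 100000 in
theorem card_sylP (hG : Nat.card G = 6072) : Nat.card (Sylow 23 G) = 24 := by
  obtain ⟨P⟩ : Nonempty (Sylow 23 G) := inferInstance
  have hP : Nat.card (P : Subgroup G) = 23 :=
    Syl15.sylow_card_eq_prime (by rw [hG]; norm_num) (by rw [hG]; norm_num) P
  have h1 : Nat.card (Sylow 23 G) % 23 = 1 % 23 := card_sylow_modEq_one 23 G
  have h3 : Nat.card (Sylow 23 G) ≠ 1 :=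
    card_sylow_ne_one_of_simple P
      (subgroup_ne_bot_of_card _ (by rw [hP]; norm_num))
      (subgroup_ne_top_of_card _ (by rw [hP, hG]; norm_num))
  have h4 : Nat.card (Sylow 23 G) ∣ 264 := by
    have := Sylow.card_dvd_index P
    have hidx : (P : Subgroup G).index = 264 := by
      have := Subgroup.card_mul_index (P : Subgroup G)
      rw [hP, hG] at this
      omega
    rwa [hidx] at this
  have h5 : Nat.card (Sylow 23 G) ≤ 264 := Nat.le_of_dvd (by norm_num) h4
  have key : ∀ n ≤ 264, n ∣ 264 → n % 23 = 1 % 23 → n ≠ 1 → n = 24 := by decide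
  exact key _ h5 h4 h1 h3

theorem arith1 : ∀ m < 23, m ^ 11 % 23 = 1 % 23 → m ≠ 1 → ∃ j < 11, 0 < j ∧ m ^ j % 23 = 4 := by
  decide

theorem arith2 : ∀ k < 11, 4 ^ k % 23 = 4 % 23 → k = 1 := by
  decide

theorem arith3 : ∀ k < 11, k ≠ 0 → k ≠ 1 → 4 ^ (k * k) % 23 = 4 % 23 → k = 10 := by
  decide

set_option maxHeartbeats 3200000 in
theorem exists_iso (hG : Nat.card G = 6072) :
    Nonempty (G ≃* (Subgroup.closure ({Uperm, Hperm, Tc0} : Set (Equiv.Perm Pt)))) := by
  classical
  letI : Fintype (Sylow 23 G) := Fintype.ofFinite _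
  have hcardX : Fintype.card (Sylow 23 G) = 24 := by
    rw [← Nat.card_eq_fintype_card]; exact card_sylP hG
  have hS7 : ∀ Q : Sylow 23 G, Nat.card (Q : Subgroup G) = 23 := fun Q =>
    Syl15.sylow_card_eq_prime (by rw [hG]; norm_num) (by rw [hG]; norm_num) Q
  have hN21 : ∀ Q : Sylow 23 G,
      Nat.card (Subgroup.normalizer ((Q : Subgroup G) : Set G)) = 253 := by
    intro Q
    have := card_normalizer_mul_card_sylow Q
    rw [hG, card_sylP hG] at this
    omega
  have hfix21 : ∀ (g : G) (Q : Sylow 23 G), g • Q = Q → g ^ 253 = 1 := by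
    intro g Q hgQ
    have hmem : g ∈ Subgroup.normalizer ((Q : Subgroup G) : Set G) :=
      Sylow.smul_eq_iff_mem_normalizer.1 hgQ
    have := pow_card_eq_one' (G := Subgroup.normalizer ((Q : Subgroup G) : Set G)) (x := ⟨g, hmem⟩)
    rw [hN21 Q] at this
    exact congrArg Subtype.val this
  obtain ⟨P⟩ : Nonempty (Sylow 23 G) := inferInstance
  obtain ⟨u, huP, hu1⟩ := SylCyc.exists_mem_ne_one_of_card_prime P (hS7 P)
  have hu7 : u ^ 23 = 1 := by
    have := pow_card_eq_one' (G := (P : Subgroup G)) (x := ⟨u, huP⟩)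
    rw [hS7 P] at this
    exact congrArg Subtype.val this
  have horder : orderOf u = 23 := orderOf_eq_prime hu7 hu1
  have hzcard : ∀ g : G, orderOf g = 23 → ∀ Q : Sylow 23 G, g ∈ (Q : Subgroup G) →
      (Q : Subgroup G) = Subgroup.zpowers g := by
    intro g hg Q hgQ
    symm
    apply Subgroup.eq_of_le_of_card_ge
    · rw [Subgroup.zpowers_le]; exact hgQ
    · rw [hS7 Q, Nat.card_zpowers, hg]
  have hPz := hzcard u horder P huP
  have hup : u • P = P := Sylow.smul_eq_iff_mem_normalizer.2 (Subgroup.le_normalizer huP)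
  have hfree : ∀ Q : Sylow 23 G, Q ≠ P → ∀ i : ℕ, 0 < i → i < 23 → u ^ i • Q ≠ Q := by
    intro Q hQ i hi0 hi7 hfix
    have hg1 : u ^ i ≠ 1 := by
      intro h
      have := orderOf_dvd_of_pow_eq_one h
      rw [horder] at this
      exact absurd (Nat.le_of_dvd hi0 this) (by omega)
    have hg7 : (u ^ i) ^ 23 = 1 := by rw [← pow_mul, mul_comm, pow_mul, hu7, one_pow]
    have hgo : orderOf (u ^ i) = 23 := orderOf_eq_prime hg7 hg1
    have hpg : IsPGroup 23 (Subgroup.zpowers (u ^ i)) := by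
      apply IsPGroup.of_card (n := 1)
      rw [Nat.card_zpowers, hgo, pow_one]
    have hinf := hpg.inf_normalizer_sylow Q
    have hgQ : u ^ i ∈ (Q : Subgroup G) := by
      have h2 : u ^ i ∈ Subgroup.zpowers (u ^ i) ⊓ (Q : Subgroup G) := by
        rw [← hinf]
        exact ⟨Subgroup.mem_zpowers _, Sylow.smul_eq_iff_mem_normalizer.1 hfix⟩
      exact h2.2
    apply hQ
    apply Sylow.ext
    rw [hzcard (u ^ i) hgo Q hgQ, hzcard (u ^ i) hgo P (Subgroup.pow_mem _ huP i)]
  -- an element of order d in N(P)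
  obtain ⟨x0, hx0⟩ := exists_prime_orderOf_dvd_card'
    (G := Subgroup.normalizer ((P : Subgroup G) : Set G)) 11 (by rw [hN21 P]; norm_num)
  obtain ⟨h0, hh0⟩ : ∃ h0 : G, h0 = (x0 : G) := ⟨_, rfl⟩
  have hh0N : h0 ∈ Subgroup.normalizer ((P : Subgroup G) : Set G) := by rw [hh0]; exact x0.2
  have hh0o : orderOf h0 = 11 := by rw [hh0, Subgroup.orderOf_coe]; exact hx0
  have hh03 : h0 ^ 11 = 1 := by rw [← hh0o]; exact pow_orderOf_eq_one h0
  have hh01 : h0 ≠ 1 := by
    intro h; rw [h, orderOf_one] at hh0o; norm_num at hh0o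
  have hh0P : h0 • P = P := Sylow.smul_eq_iff_mem_normalizer.2 hh0N
  obtain ⟨Q0, hQ0fix, hQ0P⟩ : ∃ Q0 : Sylow 23 G, h0 • Q0 = Q0 ∧ Q0 ≠ P := by
    by_contra hcon
    have hall : ∀ Q : Sylow 23 G, h0 • Q = Q → Q = P := by
      intro Q hQ
      by_contra hne
      exact hcon ⟨Q, hQ, hne⟩
    have hmod := Syl21.ncard_modEq_of_invariant (α := Sylow 23 G) (p := 11) h0
      ⟨1, by simpa using hh03⟩ Set.univ (fun _ _ => Set.mem_univ _)
    have hsub : (Set.univ ∩ {a : Sylow 23 G | h0 • a = a}) ⊆ {P} := by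
      intro Q hQ
      exact hall Q hQ.2
    have hle : (Set.univ ∩ {a : Sylow 23 G | h0 • a = a}).ncard ≤ 1 := by
      calc _ ≤ ({P} : Set (Sylow 23 G)).ncard := Set.ncard_le_ncard hsub (Set.finite_singleton P)
        _ = 1 := Set.ncard_singleton P
    rw [Set.ncard_univ, card_sylP hG] at hmod
    unfold Nat.ModEq at hmod
    omega
  have hconjmem : h0 * u * h0⁻¹ ∈ (P : Subgroup G) :=
    ((Subgroup.mem_normalizer_iff.1 hh0N) u).1 huP
  obtain ⟨m, hm7, hm⟩ : ∃ m : ℕ, m < 23 ∧ h0 * u * h0⁻¹ = u ^ m := by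
    rw [hPz, Subgroup.mem_zpowers_iff] at hconjmem
    obtain ⟨k, hk⟩ := hconjmem
    have h0' := Int.emod_nonneg k (by norm_num : (23:ℤ) ≠ 0)
    have h7' := Int.emod_lt_of_pos k (by norm_num : (0:ℤ) < 23)
    refine ⟨(k % 23).toNat, by omega, ?_⟩
    rw [← hk, ← zpow_natCast, Int.toNat_of_nonneg h0']
    have := zpow_mod_orderOf u k
    rw [horder] at this
    exact this.symm
  have hconj_pow : ∀ j : ℕ, h0 * u ^ j * h0⁻¹ = u ^ (m * j) := by
    intro j
    rw [← conj_pow, hm, ← pow_mul]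
  have hconj_iter : ∀ j : ℕ, h0 ^ j * u * (h0 ^ j)⁻¹ = u ^ (m ^ j) := by
    intro j
    induction j with
    | zero => simp
    | succ j ih =>
      have e : h0 ^ (j + 1) * u * (h0 ^ (j + 1))⁻¹ = h0 * (h0 ^ j * u * (h0 ^ j)⁻¹) * h0⁻¹ := by
        rw [pow_succ']
        simp only [mul_inv_rev, mul_assoc]
      rw [e, ih, hconj_pow, pow_succ']
  have hmodD : m ^ 11 % 23 = 1 % 23 := by
    have e := hconj_iter 11
    rw [hh03, one_mul, inv_one, mul_one] at e
    have := (pow_eq_pow_iff_modEq (x := u) (n := 1) (m := m ^ 11)).1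
      (by rw [pow_one]; exact e)
    rw [horder] at this
    exact this.symm
  have hm1 : m ≠ 1 := by
    rintro rfl
    rw [pow_one] at hm
    have hcomm : Commute h0 u := mul_inv_eq_iff_eq_mul.1 hm
    have hPC : (P : Subgroup G) ≤ Subgroup.centralizer ((P : Subgroup G) : Set G) := by
      intro x hx
      rw [Subgroup.mem_centralizer_iff]
      intro y hy
      rw [SetLike.mem_coe, hPz, Subgroup.mem_zpowers_iff] at hy
      rw [hPz, Subgroup.mem_zpowers_iff] at hx
      obtain ⟨a, rfl⟩ := hx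
      obtain ⟨b, rfl⟩ := hy
      exact zpow_mul_comm u b a
    have hh0C : h0 ∈ Subgroup.centralizer ((P : Subgroup G) : Set G) := by
      rw [Subgroup.mem_centralizer_iff]
      intro y hy
      rw [SetLike.mem_coe, hPz, Subgroup.mem_zpowers_iff] at hy
      obtain ⟨b, rfl⟩ := hy
      exact ((hcomm.zpow_right b).eq).symm
    have h7 : 23 ∣ Nat.card (Subgroup.centralizer ((P : Subgroup G) : Set G)
        ⊓ Subgroup.normalizer ((P : Subgroup G) : Set G) : Subgroup G) := by
      have := Subgroup.card_dvd_of_le (le_inf hPC (Subgroup.le_normalizer) :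
        (P : Subgroup G) ≤ Subgroup.centralizer ((P : Subgroup G) : Set G)
        ⊓ Subgroup.normalizer ((P : Subgroup G) : Set G))
      rwa [hS7 P] at this
    have h3 : 11 ∣ Nat.card (Subgroup.centralizer ((P : Subgroup G) : Set G)
        ⊓ Subgroup.normalizer ((P : Subgroup G) : Set G) : Subgroup G) := by
      have := orderOf_dvd_natCard (⟨h0, ⟨hh0C, hh0N⟩⟩ :
        (Subgroup.centralizer ((P : Subgroup G) : Set G)
        ⊓ Subgroup.normalizer ((P : Subgroup G) : Set G) : Subgroup G))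
      have e := Subgroup.orderOf_mk (H := (Subgroup.centralizer ((P : Subgroup G) : Set G)
        ⊓ Subgroup.normalizer ((P : Subgroup G) : Set G) : Subgroup G)) h0 ⟨hh0C, hh0N⟩
      rw [e, hh0o] at this
      exact this
    have h21 : 253 ∣ Nat.card (Subgroup.centralizer ((P : Subgroup G) : Set G)
        ⊓ Subgroup.normalizer ((P : Subgroup G) : Set G) : Subgroup G) := by
      have := Nat.Coprime.mul_dvd_of_dvd_of_dvd (by norm_num : Nat.Coprime 11 23) h3 h7
      simpa using this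
    have hle : Nat.card (Subgroup.normalizer ((P : Subgroup G) : Set G))
        ≤ Nat.card (Subgroup.centralizer ((P : Subgroup G) : Set G)
        ⊓ Subgroup.normalizer ((P : Subgroup G) : Set G) : Subgroup G) := by
      rw [hN21 P]
      exact Nat.le_of_dvd Nat.card_pos h21
    have heq := Subgroup.eq_of_le_of_card_ge (inf_le_right :
      Subgroup.centralizer ((P : Subgroup G) : Set G)
        ⊓ Subgroup.normalizer ((P : Subgroup G) : Set G)
        ≤ Subgroup.normalizer ((P : Subgroup G) : Set G)) hle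
    have hNC : Subgroup.normalizer ((P : Subgroup G) : Set G)
        ≤ Subgroup.centralizer ((P : Subgroup G) : Set G) := by
      rw [← heq]; exact inf_le_left
    have htop := sylow_eq_top_of_normalizer_le_centralizer P hNC
      (subgroup_ne_bot_of_card _ (by rw [hS7 P]; norm_num))
    have := hS7 P
    rw [htop, Subgroup.card_top, hG] at this
    norm_num at this
  have hfixpow : ∀ (x : G) (R : Sylow 23 G), x • R = R → ∀ j : ℕ, x ^ j • R = R := by
    intro x R hx j
    induction j with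
    | zero => simp
    | succ j ih => rw [pow_succ, mul_smul, hx, ih]
  obtain ⟨h, hh3, hh1, hhP, hhQ, hhu⟩ : ∃ h : G, h ^ 11 = 1 ∧ h ≠ 1 ∧ h • P = P ∧ h • Q0 = Q0 ∧
      h * u * h⁻¹ = u ^ 4 := by
    obtain ⟨j, hjd, hj0, hj⟩ := arith1 m hm7 hmodD hm1
    refine ⟨h0 ^ j, ?_, ?_, hfixpow h0 P hh0P j, hfixpow h0 Q0 hQ0fix j, ?_⟩
    · rw [← pow_mul, mul_comm, pow_mul, hh03, one_pow]
    · intro h
      have := orderOf_dvd_of_pow_eq_one h
      rw [hh0o] at this
      exact absurd (Nat.le_of_dvd hj0 this) (by omega)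
    · rw [hconj_iter, pow_eq_pow_mod _ hu7, hj]
  -- faithfulness
  have hfaith : ∀ g : G, (∀ Q : Sylow 23 G, g • Q = Q) → g = 1 := by
    intro g hg
    have hker : g ∈ (MulAction.toPermHom G (Sylow 23 G)).ker := by
      rw [MonoidHom.mem_ker]
      apply Equiv.ext
      intro Q
      exact hg Q
    rcases Subgroup.Normal.eq_bot_or_eq_top
      (inferInstance : (MulAction.toPermHom G (Sylow 23 G)).ker.Normal) with hb | ht
    · rw [hb, Subgroup.mem_bot] at hker; exact hker
    · exfalso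
      have hu : u ∈ (MulAction.toPermHom G (Sylow 23 G)).ker := by
        rw [ht]; exact Subgroup.mem_top u
      rw [MonoidHom.mem_ker] at hu
      have h1 : u • Q0 = Q0 := DFunLike.congr_fun hu Q0
      exact hfree Q0 hQ0P 1 (by norm_num) (by norm_num) (by rw [pow_one]; exact h1)
  -- labelling
  have hbij := Emap_bij hcardX hup hQ0P (hfree Q0 hQ0P)
  obtain ⟨Eq, hEq⟩ : ∃ Eq : Pt ≃ Sylow 23 G, ∀ o, Eq o = Emap u P Q0 o :=
    ⟨Equiv.ofBijective _ hbij, fun o => rfl⟩
  have hψu := label_u Eq hEq hu7 hup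
  have hψh := label_h Eq hEq hu7 hhP hhQ hhu
  have hψinj := psi_injective (G := G) Eq hfaith
  have hEnone : Eq none = P := by rw [hEq]; rfl
  have hE0 : Eq (some 0) = Q0 := by
    rw [hEq]
    show u ^ ((0 : Fin 23) : ℕ) • Q0 = Q0
    simp
  have hfixh : ∀ R : Sylow 23 G, h • R = R → R = P ∨ R = Q0 := by
    intro R hR
    obtain ⟨o, rfl⟩ := Eq.surjective R
    have : Hperm o = o := by
      rw [← hψh, psi_apply, hR, Equiv.symm_apply_apply]
    rcases Hperm_fix o this with rfl | rfl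
    · left; exact hEnone
    · right; exact hE0
  -- conjugation by powers of h on u
  have hhconj_pow : ∀ j : ℕ, h * u ^ j * h⁻¹ = u ^ (4 * j) := by
    intro j
    rw [← conj_pow, hhu, ← pow_mul]
  have hhconj_iter : ∀ j : ℕ, h ^ j * u * (h ^ j)⁻¹ = u ^ (4 ^ j) := by
    intro j
    induction j with
    | zero => simp
    | succ j ih =>
      have e : h ^ (j + 1) * u * (h ^ (j + 1))⁻¹ = h * (h ^ j * u * (h ^ j)⁻¹) * h⁻¹ := by
        rw [pow_succ']
        simp only [mul_inv_rev, mul_assoc]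
      rw [e, ih, hhconj_pow, pow_succ']
  -- elements of N(P) normalizing ⟨h⟩ centralize h
  have hcentN : ∀ x : G, x ∈ Subgroup.normalizer ((P : Subgroup G) : Set G) → ∀ k : ℕ,
      x * h * x⁻¹ = h ^ k → 4 ^ k % 23 = 4 % 23 := by
    intro x hx k hk
    have hxinv : x⁻¹ ∈ Subgroup.normalizer ((P : Subgroup G) : Set G) := Subgroup.inv_mem _ hx
    have hv : x⁻¹ * u * x⁻¹⁻¹ ∈ (P : Subgroup G) :=
      ((Subgroup.mem_normalizer_iff.1 hxinv) u).1 huP
    rw [hPz, Subgroup.mem_zpowers_iff] at hv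
    obtain ⟨b, hb⟩ := hv
    have e1 : h * (u ^ b) * h⁻¹ = (u ^ b) ^ 4 := by
      rw [← conj_zpow, hhu]
      rw [← zpow_natCast (u ^ b) 4, ← zpow_natCast u 4, ← zpow_mul, ← zpow_mul, mul_comm]
    have e2 : x * (u ^ b) * x⁻¹ = u := by
      rw [hb]; group
    have e3 : (x * h * x⁻¹) * u * (x * h * x⁻¹)⁻¹ = u ^ 4 := by
      have : (x * h * x⁻¹) * u * (x * h * x⁻¹)⁻¹ = x * (h * (x⁻¹ * u * x⁻¹⁻¹) * h⁻¹) * x⁻¹ := by
        group
      rw [this, ← hb, e1, ← conj_pow, e2]
    rw [hk, hhconj_iter] at e3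
    have := (pow_eq_pow_iff_modEq (x := u) (n := 4 ^ k) (m := 4)).1 e3
    rw [horder] at this
    exact this
  -- Burnside for the prime d
  have hho : orderOf h = 11 := orderOf_eq_prime hh3 hh1
  have hpz : IsPGroup 11 (Subgroup.zpowers h) := by
    apply IsPGroup.of_card (n := 1); rw [Nat.card_zpowers, hho, pow_one]
  obtain ⟨S3, hS3⟩ := hpz.exists_le_sylow
  have hS3c : Nat.card (S3 : Subgroup G) = 11 :=
    Syl15.sylow_card_eq_prime (by rw [hG]; norm_num) (by rw [hG]; norm_num) S3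
  have hS3z : (S3 : Subgroup G) = Subgroup.zpowers h := by
    symm
    apply Subgroup.eq_of_le_of_card_ge hS3
    rw [hS3c, Nat.card_zpowers, hho]
  have hnot : ¬ (Subgroup.normalizer ((S3 : Subgroup G) : Set G)
      ≤ Subgroup.centralizer ((S3 : Subgroup G) : Set G)) := by
    intro hle
    have htop := sylow_eq_top_of_normalizer_le_centralizer S3 hle
      (subgroup_ne_bot_of_card _ (by rw [hS3c]; norm_num))
    have := hS3c
    rw [htop, Subgroup.card_top, hG] at this
    norm_num at this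
  obtain ⟨s0, hs0N, hs0C⟩ := SetLike.not_le_iff_exists.1 hnot
  -- s0 h s0⁻¹ = h ^ kn
  obtain ⟨kn, hkn, hs0k⟩ : ∃ kn : ℕ, kn < 11 ∧ s0 * h * s0⁻¹ = h ^ kn := by
    have hmem : s0 * h * s0⁻¹ ∈ (S3 : Subgroup G) :=
      ((Subgroup.mem_normalizer_iff.1 hs0N) h).1 (hS3 (Subgroup.mem_zpowers h))
    rw [hS3z, Subgroup.mem_zpowers_iff] at hmem
    obtain ⟨k, hk⟩ := hmem
    have h0' := Int.emod_nonneg k (by norm_num : (11:ℤ) ≠ 0)
    have h7' := Int.emod_lt_of_pos k (by norm_num : (0:ℤ) < 11)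
    refine ⟨(k % 11).toNat, by omega, ?_⟩
    rw [← hk, ← zpow_natCast, Int.toNat_of_nonneg h0']
    have := zpow_mod_orderOf h k
    rw [hho] at this
    exact this.symm
  have hkn0 : kn ≠ 0 := by
    rintro rfl
    rw [pow_zero] at hs0k
    apply hh1
    have e1 : h = s0⁻¹ * (s0 * h * s0⁻¹) * s0 := by group
    rw [e1, hs0k]; group
  have hkn1 : kn ≠ 1 := by
    rintro rfl
    rw [pow_one] at hs0k
    apply hs0C
    rw [Subgroup.mem_centralizer_iff]
    intro y hy
    rw [SetLike.mem_coe, hS3z, Subgroup.mem_zpowers_iff] at hy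
    obtain ⟨b, rfl⟩ := hy
    have hc : Commute s0 h := mul_inv_eq_iff_eq_mul.1 hs0k
    exact ((hc.zpow_right b).eq).symm
  -- s0 moves P
  have hs0P' : s0 • P ≠ P := by
    intro hfix
    have := hcentN s0 (Sylow.smul_eq_iff_mem_normalizer.1 hfix) kn hs0k
    exact hkn1 (arith2 kn hkn this)
  -- s0 permutes the fixed points of h
  have hs0Fix : ∀ R : Sylow 23 G, h • R = R → h • (s0 • R) = s0 • R := by
    intro R hR
    have hs0inv : s0⁻¹ ∈ Subgroup.normalizer ((S3 : Subgroup G) : Set G) := Subgroup.inv_mem _ hs0N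
    have hmem : s0⁻¹ * h * s0⁻¹⁻¹ ∈ (S3 : Subgroup G) :=
      ((Subgroup.mem_normalizer_iff.1 hs0inv) h).1 (hS3 (Subgroup.mem_zpowers h))
    rw [hS3z, Subgroup.mem_zpowers_iff] at hmem
    obtain ⟨z, hz⟩ := hmem
    have hstab : h ∈ MulAction.stabilizer G R := MulAction.mem_stabilizer_iff.2 hR
    have hzfix : (h ^ z) • R = R := MulAction.mem_stabilizer_iff.1 (Subgroup.zpow_mem _ hstab z)
    have e : h * s0 = s0 * (s0⁻¹ * h * s0⁻¹⁻¹) := by group
    rw [← mul_smul, e, ← hz, mul_smul, hzfix]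
  have hs0P : s0 • P = Q0 := by
    rcases hfixh (s0 • P) (hs0Fix P hhP) with h' | h'
    · exact absurd h' hs0P'
    · exact h'
  have hs0Q : s0 • Q0 = P := by
    rcases hfixh (s0 • Q0) (hs0Fix Q0 hhQ) with h' | h'
    · exact h'
    · exfalso
      apply hQ0P
      have : s0 • Q0 = s0 • P := by rw [h', hs0P]
      exact smul_left_cancel _ this
  -- kn = d - 1
  have hknD : kn = 10 := by
    have hfix : (s0 * s0) • P = P := by rw [mul_smul, hs0P, hs0Q]
    have hk2 : (s0 * s0) * h * (s0 * s0)⁻¹ = h ^ (kn * kn) := by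
      have e : (s0 * s0) * h * (s0 * s0)⁻¹ = s0 * (s0 * h * s0⁻¹) * s0⁻¹ := by group
      rw [e, hs0k, ← conj_pow, hs0k, ← pow_mul]
    have := hcentN (s0 * s0) (Sylow.smul_eq_iff_mem_normalizer.1 hfix) (kn * kn) hk2
    exact arith3 kn hkn hkn0 hkn1 this
  have hs0h : s0 * h * s0⁻¹ = h⁻¹ := by
    rw [hs0k, hknD]
    apply eq_inv_of_mul_eq_one_left
    rw [← pow_succ]
    exact hh3
  have hc2 : Commute (s0 ^ 2) h := by
    have : s0 ^ 2 * h * (s0 ^ 2)⁻¹ = h := by
      have e : s0 ^ 2 * h * (s0 ^ 2)⁻¹ = s0 * (s0 * h * s0⁻¹) * s0⁻¹ := by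
        simp only [pow_succ, pow_zero, one_mul, mul_inv_rev, mul_assoc]
      rw [e, hs0h]
      have e2 : s0 * h⁻¹ * s0⁻¹ = (s0 * h * s0⁻¹)⁻¹ := by group
      rw [e2, hs0h, inv_inv]
    exact mul_inv_eq_iff_eq_mul.1 this
  obtain ⟨s, hs⟩ : ∃ s : G, s = s0 ^ 759 := ⟨_, rfl⟩
  have hsh : s * h * s⁻¹ = h⁻¹ := by
    have e : s = (s0 ^ 2) ^ 379 * s0 := by rw [hs, ← pow_mul, ← pow_succ]
    have hc : Commute ((s0 ^ 2) ^ 379) h⁻¹ := (hc2.pow_left 379).inv_right
    rw [e]
    calc (s0 ^ 2) ^ 379 * s0 * h * ((s0 ^ 2) ^ 379 * s0)⁻¹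
        = (s0 ^ 2) ^ 379 * (s0 * h * s0⁻¹) * ((s0 ^ 2) ^ 379)⁻¹ := by
          simp only [mul_inv_rev, mul_assoc]
      _ = (s0 ^ 2) ^ 379 * h⁻¹ * ((s0 ^ 2) ^ 379)⁻¹ := by rw [hs0h]
      _ = h⁻¹ := by rw [hc.eq, mul_inv_cancel_right]
  have hs8 : s ^ 8 = 1 := by
    rw [hs, ← pow_mul]
    have := pow_card_eq_one' (G := G) (x := s0)
    rw [hG] at this
    exact this
  have hsh' : s⁻¹ * h * s = h⁻¹ := by
    have e1 : h = s⁻¹ * h⁻¹ * s := by rw [← hsh]; group
    calc s⁻¹ * h * s = (s⁻¹ * h⁻¹ * s)⁻¹ := by group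
      _ = h⁻¹ := by rw [← e1]
  have hsFix : ∀ R : Sylow 23 G, h • R = R → h • (s • R) = s • R := by
    intro R hR
    have e1 : h * s = s * h⁻¹ := by
      calc h * s = s * (s⁻¹ * h * s) := by group
        _ = s * h⁻¹ := by rw [hsh']
    have e2 : h⁻¹ • R = R := by rw [inv_smul_eq_iff, hR]
    rw [← mul_smul, e1, mul_smul, e2]
  have hsne1 : s ≠ 1 := by
    intro h1
    rw [h1] at hsh
    have e1 : h = h⁻¹ := by simpa using hsh
    have hh2 : h * h = 1 := mul_eq_one_iff_eq_inv.2 e1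
    have hh2' : h ^ 2 = 1 := by rw [pow_two]; exact hh2
    apply hh1
    calc h = h ^ 11 * ((h ^ 2) ^ 5)⁻¹ := by group
      _ = 1 := by rw [hh3, hh2']; simp
  have hsmove : ∀ R : Sylow 23 G, s • R ≠ R := by
    intro R hR
    have h21 := hfix21 s R hR
    apply hsne1
    calc s = (s ^ 8) ^ 95 * ((s ^ 253) ^ 3)⁻¹ := by group
      _ = 1 := by rw [hs8, h21]; simp
  have hsP : s • P = Q0 := by
    rcases hfixh (s • P) (hsFix P hhP) with h' | h'
    · exact absurd h' (hsmove P)
    · exact h'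
  have hsQ : s • Q0 = P := by
    rcases hfixh (s • Q0) (hsFix Q0 hhQ) with h' | h'
    · exact h'
    · exact absurd h' (hsmove Q0)
  have hs2 : s * s = 1 := by
    have hfix : (s * s) • P = P := by rw [mul_smul, hsP, hsQ]
    have h21 := hfix21 (s * s) P hfix
    have h21' : (s ^ 2) ^ 253 = 1 := by rw [pow_two]; exact h21
    calc s * s = s ^ 2 := (pow_two s).symm
      _ = (s ^ 2) ^ 253 * ((s ^ 8) ^ 63)⁻¹ := by group
      _ = 1 := by rw [h21', hs8]; simp
  -- the image of s
  have hπ0 : psi Eq s none = some 0 := by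
    rw [psi_apply, hEnone, hsP, Equiv.symm_apply_eq, hE0]
  have hπ2 : psi Eq s * psi Eq s = 1 := by rw [← map_mul, hs2, map_one]
  have hπrel : psi Eq s * Hperm * (psi Eq s)⁻¹ = Hperm⁻¹ := by
    rw [← hψh, ← map_inv, ← map_mul, ← map_mul, hsh, map_inv]
  have hπfpf : ∀ o, psi Eq s o ≠ o := by
    intro o ho
    rw [psi_apply, Equiv.symm_apply_eq] at ho
    exact hsmove _ ho
  obtain ⟨jj, hπ⟩ := lemmaD (psi Eq s) hπ0 hπ2 hπrel hπfpf
  -- generation
  have hgen : Subgroup.closure ({u, h, s} : Set G) = ⊤ := by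
    have huM : u ∈ Subgroup.closure ({u, h, s} : Set G) := Subgroup.subset_closure (by simp)
    have hhM : h ∈ Subgroup.closure ({u, h, s} : Set G) := Subgroup.subset_closure (by simp)
    have hsM : s ∈ Subgroup.closure ({u, h, s} : Set G) := Subgroup.subset_closure (by simp)
    have hso : orderOf s = 2 := orderOf_eq_prime (by rw [pow_two]; exact hs2) hsne1
    have d7 : 23 ∣ Nat.card (Subgroup.closure ({u, h, s} : Set G)) := by
      have := orderOf_dvd_natCard (⟨u, huM⟩ : Subgroup.closure ({u, h, s} : Set G))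
      have e := Subgroup.orderOf_mk (H := Subgroup.closure ({u, h, s} : Set G)) u huM
      rw [e, horder] at this
      exact this
    have d3 : 11 ∣ Nat.card (Subgroup.closure ({u, h, s} : Set G)) := by
      have := orderOf_dvd_natCard (⟨h, hhM⟩ : Subgroup.closure ({u, h, s} : Set G))
      have e := Subgroup.orderOf_mk (H := Subgroup.closure ({u, h, s} : Set G)) h hhM
      rw [e, hho] at this
      exact this
    have d2 : 2 ∣ Nat.card (Subgroup.closure ({u, h, s} : Set G)) := by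
      have := orderOf_dvd_natCard (⟨s, hsM⟩ : Subgroup.closure ({u, h, s} : Set G))
      have e := Subgroup.orderOf_mk (H := Subgroup.closure ({u, h, s} : Set G)) s hsM
      rw [e, hso] at this
      exact this
    have hci := Subgroup.card_mul_index (Subgroup.closure ({u, h, s} : Set G))
    rw [hG] at hci
    by_contra hne
    have hfac := card_dvd_factorial_index_of_simple _ hne
    rw [hG] at hfac
    have hbig : 506 ∣ Nat.card (Subgroup.closure ({u, h, s} : Set G)) := by omega
    obtain ⟨k, hk⟩ := hbig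
    rw [hk] at hci
    have hki : k * (Subgroup.closure ({u, h, s} : Set G)).index = 12 := by
      have : 506 * (k * (Subgroup.closure ({u, h, s} : Set G)).index) = 506 * 12 := by
        rw [← mul_assoc]; exact hci
      exact Nat.eq_of_mul_eq_mul_left (by norm_num) this
    have hidvd : (Subgroup.closure ({u, h, s} : Set G)).index ∣ 12 :=
      ⟨k, by rw [mul_comm]; exact hki.symm⟩
    have hile : (Subgroup.closure ({u, h, s} : Set G)).index ≤ 12 :=
      Nat.le_of_dvd (by norm_num) hidvd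
    have hpd : 23 ∣ ((Subgroup.closure ({u, h, s} : Set G)).index).factorial :=
      Dvd.dvd.trans (by norm_num) hfac
    have := (Nat.Prime.dvd_factorial (by norm_num : Nat.Prime 23)).1 hpd
    omega
  have hrange : (psi (G := G) Eq).range
      = Subgroup.closure ({Uperm, Hperm, psi Eq s} : Set (Equiv.Perm Pt)) := by
    rw [MonoidHom.range_eq_map, ← hgen, MonoidHom.map_closure]
    congr 1
    rw [Set.image_insert_eq, Set.image_insert_eq, Set.image_singleton, hψu, hψh]
  have hL : Subgroup.closure ({Uperm, Hperm, psi Eq s} : Set (Equiv.Perm Pt))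
      = Subgroup.closure ({Uperm, Hperm, Tc0} : Set (Equiv.Perm Pt)) := by
    rw [hπ]
    exact closure_conj Uperm Hperm Tc0 jj
  exact ⟨(MonoidHom.ofInjective hψinj).trans (MulEquiv.subgroupCongr (hrange.trans hL))⟩

end main

theorem psl_simple_card {F : Type*} [Field F] [Fintype F] (hF : Fintype.card F = 23) :
    IsSimpleGroup (Matrix.ProjectiveSpecialLinearGroup (Fin 2) F) ∧
      Nat.card (Matrix.ProjectiveSpecialLinearGroup (Fin 2) F) = 6072 := by
  constructor
  · exact Matrix.ProjectiveSpecialLinearGroup.rank_two_simple (by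
      rw [Nat.card_eq_fintype_card, hF]; norm_num)
  · have h := Cfsg.Agent.Lib.Helper1.card_PSL2 F
    rw [hF] at h
    have h2 : Nat.gcd 2 (23 - 1) = 2 := by decide
    rw [h2] at h
    omega

theorem iso_of_simple {G₁ G₂ : Type*} [Group G₁] [Finite G₁] [IsSimpleGroup G₁]
    [Group G₂] [Finite G₂] [IsSimpleGroup G₂] (h₁ : Nat.card G₁ = 6072)
    (h₂ : Nat.card G₂ = 6072) : Nonempty (G₁ ≃* G₂) := by
  obtain ⟨e₁⟩ := exists_iso h₁
  obtain ⟨e₂⟩ := exists_iso h₂
  exact ⟨e₁.trans e₂.symm⟩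

/-- A simple group of order 6072 is isomorphic to the projective special linear group of dimension 2 over the field with 23 elements. -/
theorem result {G : Type*} [Group G] [Finite G] [IsSimpleGroup G] (h : Nat.card G = 6072) {F : Type*} [Field F] [Fintype F] (hF : Fintype.card F = 23) : Nonempty (G ≃* Matrix.ProjectiveSpecialLinearGroup (Fin 2) F) := by
  obtain ⟨hs, hc⟩ := psl_simple_card hF
  haveI := hs
  exact iso_of_simple h hc

end Cfsg.Agent.S0982
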