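import Cfsg.Statements.S0985
import Cfsg.Agent.Lib.Lead.OrbitMod

set_option autoImplicit false
open Cfsg

namespace Cfsg.Agent.S0985

/-- If the number of Sylow p-subgroups of a finite group is not congruent to 1 modulo p^k, then there are two distinct Sylow p-subgroups P and R such that the index of P ∩ R in P is at most p^(k-1). -/
theorem result {G : Type*} [Group G] [Finite G] (p k : ℕ) [Fact p.Prime] (h : ¬ Nat.card (Sylow p G) ≡ 1 [MOD p ^ k]) : ∃ P R : Sylow p G, P ≠ R ∧ ((R : Subgroup G).subgroupOf (P : Subgroup G)).index ≤ p ^ (k - 1) := by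
  classical
  by_contra hcon
  push Not at hcon
  apply h
  obtain ⟨P⟩ : Nonempty (Sylow p G) := Sylow.nonempty
  -- P acts on Sylow p G
  have key := Cfsg.Agent.Lib.Lead.card_modEq_one_of_dvd_orbits (H := (P : Subgroup G)) (S := Sylow p G)
    (p ^ k) P ?_ ?_
  · exact key
  · intro x
    have : ((x : (P : Subgroup G)) : G) • P = P := by
      rw [Sylow.smul_eq_iff_mem_normalizer]
      exact Subgroup.le_normalizer x.2
    exact this
  · intro R hR
    have hlt := hcon P R (Ne.symm hR)
    -- stabilizer
    have hstab : MulAction.stabilizer (P : Subgroup G) R = (R : Subgroup G).subgroupOf (P : Subgroup G) := by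
      ext x
      rw [MulAction.mem_stabilizer_iff, Subgroup.mem_subgroupOf]
      have h1 : x • R = ((x : G) • R) := rfl
      rw [h1, Sylow.smul_eq_iff_mem_normalizer]
      constructor
      · intro hx
        have h3 := P.isPGroup'.inf_normalizer_sylow R
        have h2 : (x : G) ∈ (P : Subgroup G) ⊓ (R : Subgroup G) := by
          rw [← h3]; exact ⟨x.2, hx⟩
        exact h2.2
      · intro hx
        exact Subgroup.le_normalizer hx
    have hcard : Nat.card (MulAction.orbit (P : Subgroup G) R) =
        ((R : Subgroup G).subgroupOf (P : Subgroup G)).index := by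
      rw [← hstab, MulAction.index_stabilizer, Nat.card_coe_set_eq]
    rw [hcard]
    obtain ⟨j, hj⟩ := IsPGroup.index P.isPGroup' ((R : Subgroup G).subgroupOf (P : Subgroup G))
    rw [hj] at hlt ⊢
    have hp1 : 1 < p := (Fact.out : p.Prime).one_lt
    have hkj : k - 1 < j := (Nat.pow_lt_pow_iff_right hp1).mp hlt
    exact pow_dvd_pow p (by omega)

end Cfsg.Agent.S0985
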