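import Mathlib
import Cfsg.Statements.S0986
import Cfsg.Agent.Lib.Helper7.PGroupNormalizer

set_option autoImplicit false
open Cfsg

namespace Cfsg.Agent.S0986

open Cfsg.Agent.Lib.Helper7

/-- Let P and Q be distinct Sylow p-subgroups of a finite group G chosen so that the order of P ∩ Q is as large as possible among intersections of two distinct Sylow p-subgroups, and let N be the normalizer of P ∩ Q. Then N has more than one Sylow p-subgroup, any two distinct Sylow p-subgroups of N intersect exactly in P ∩ Q, and each Sylow p-subgroup of N lies in exactly one Sylow p-subgroup of G. -/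
theorem result {G : Type*} [Group G] [Finite G] (p : ℕ) [Fact p.Prime] (P Q : Sylow p G) (hPQ : P ≠ Q) (hmax : ∀ P' Q' : Sylow p G, P' ≠ Q' → Nat.card ↥((P' : Subgroup G) ⊓ (Q' : Subgroup G)) ≤ Nat.card ↥((P : Subgroup G) ⊓ (Q : Subgroup G))) : 1 < Nat.card (Sylow p ↥(Subgroup.normalizer (((P : Subgroup G) ⊓ (Q : Subgroup G) : Subgroup G) : Set G))) ∧ (∀ S T : Sylow p ↥(Subgroup.normalizer (((P : Subgroup G) ⊓ (Q : Subgroup G) : Subgroup G) : Set G)), S ≠ T → (S : Subgroup _) ⊓ (T : Subgroup _) = ((P : Subgroup G) ⊓ (Q : Subgroup G)).subgroupOf (Subgroup.normalizer (((P : Subgroup G) ⊓ (Q : Subgroup G) : Subgroup G) : Set G))) ∧ ∀ S : Sylow p ↥(Subgroup.normalizer (((P : Subgroup G) ⊓ (Q : Subgroup G) : Subgroup G) : Set G)), ∃! T : Sylow p G, (S : Subgroup _).map (Subgroup.normalizer (((P : Subgroup G) ⊓ (Q : Subgroup G) : Subgroup G) : Set G)).subtype ≤ (T : Subgroup G) := by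
  set D : Subgroup G := (P : Subgroup G) ⊓ (Q : Subgroup G) with hD
  set N : Subgroup G := Subgroup.normalizer (D : Set G) with hN
  have hDp : IsPGroup p D := P.isPGroup'.to_le inf_le_left
  have hDN : D ≤ N := Subgroup.le_normalizer
  have sylow_le_eq : ∀ T1 T2 : Sylow p G, (T1 : Subgroup G) ≤ T2 → T1 = T2 := by
    intro T1 T2 h
    exact Sylow.ext (T1.is_maximal' T2.isPGroup' h).symm
  have hDltP : D < P := by
    refine lt_of_le_of_ne inf_le_left (fun h => hPQ ?_)
    apply sylow_le_eq
    have : (P : Subgroup G) ≤ D := h.ge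
    exact this.trans inf_le_right
  have hDltQ : D < Q := by
    refine lt_of_le_of_ne inf_le_right (fun h => hPQ ?_)
    symm
    apply sylow_le_eq
    have : (Q : Subgroup G) ≤ D := h.ge
    exact this.trans inf_le_left
  have key1 : ∀ T1 T2 : Sylow p G, ∀ X : Subgroup G, X ≤ T1 → X ≤ T2 →
      Nat.card D < Nat.card X → T1 = T2 := by
    intro T1 T2 X h1 h2 hlt
    by_contra hne
    have h3 := hmax T1 T2 hne
    have h4 : Nat.card X ≤ Nat.card ↥((T1 : Subgroup G) ⊓ T2) :=
      Subgroup.card_le_of_le (le_inf h1 h2)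
    omega
  -- normalizer growth
  have grow : ∀ R : Sylow p G, D < R → Nat.card D < Nat.card ↥((R : Subgroup G) ⊓ N) := by
    intro R hlt
    obtain ⟨x, hxR, hxN, hxD⟩ := exists_mem_normalizer_not_mem (R : Subgroup G) D R.isPGroup' hlt
    have hle : D ≤ (R : Subgroup G) ⊓ N := le_inf hlt.le hDN
    by_contra hcon
    push Not at hcon
    have := Subgroup.eq_of_le_of_card_ge hle hcon
    exact hxD (this ▸ (Subgroup.mem_inf.2 ⟨hxR, hxN⟩))
  -- images of Sylows of N
  have img_p : ∀ S : Sylow p N, IsPGroup p ((S : Subgroup N).map N.subtype) :=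
    fun S => S.isPGroup'.map _
  have img_le : ∀ S : Sylow p N, (S : Subgroup N).map N.subtype ≤ N := fun S => by
    intro x hx
    obtain ⟨y, _, rfl⟩ := Subgroup.mem_map.1 hx
    exact y.2
  have img_card : ∀ S : Sylow p N, Nat.card ((S : Subgroup N).map N.subtype) = Nat.card S := by
    intro S
    exact (Nat.card_congr ((S : Subgroup N).equivMapOfInjective N.subtype
      N.subtype_injective).toEquiv).symm
  have sub_le_card : ∀ (S : Sylow p N) (A : Subgroup G), A ≤ N → IsPGroup p A →
      Nat.card A ≤ Nat.card ((S : Subgroup N).map N.subtype) := by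
    intro S A hAN hAp
    have hAp' : IsPGroup p (A.subgroupOf N) := hAp.comap_subtype
    obtain ⟨S2, hS2⟩ := hAp'.exists_le_sylow
    have h1 : Nat.card (A.subgroupOf N) ≤ Nat.card S2 := Subgroup.card_le_of_le hS2
    have h2 : Nat.card (A.subgroupOf N) = Nat.card A :=
      Nat.card_congr (Subgroup.subgroupOfEquivOfLe hAN).toEquiv
    have h3 : Nat.card S2 = Nat.card S := by
      rw [Sylow.card_eq_multiplicity, Sylow.card_eq_multiplicity]
    rw [img_card, ← h3, ← h2]
    exact h1
  have img_big : ∀ S : Sylow p N, Nat.card D < Nat.card ((S : Subgroup N).map N.subtype) := by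
    intro S
    have h1 := grow P hDltP
    have h2 := sub_le_card S ((P : Subgroup G) ⊓ N) inf_le_right (P.isPGroup'.to_le inf_le_left)
    omega
  have D_le_img : ∀ S : Sylow p N, D ≤ (S : Subgroup N).map N.subtype := by
    intro S
    haveI : (D.subgroupOf N).Normal := Subgroup.normal_in_normalizer
    have hp' : IsPGroup p (D.subgroupOf N) := hDp.comap_subtype
    have hle : D.subgroupOf N ≤ S := hp'.le_sylow_of_normal S
    intro x hx
    exact Subgroup.mem_map.2 ⟨⟨x, hDN hx⟩, hle (Subgroup.mem_subgroupOf.2 hx), rfl⟩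
  have img_inj : ∀ S T : Sylow p N, (S : Subgroup N).map N.subtype = (T : Subgroup N).map N.subtype →
      S = T := by
    intro S T h
    apply Sylow.ext
    exact Subgroup.map_injective N.subtype_injective h
  -- each Sylow of N is (R ⊓ N) for any Sylow R of G containing its image
  have img_eq : ∀ (S : Sylow p N) (R : Sylow p G), (S : Subgroup N).map N.subtype ≤ R →
      (S : Subgroup N).map N.subtype = (R : Subgroup G) ⊓ N := by
    intro S R hle
    have hle2 : (S : Subgroup N).map N.subtype ≤ (R : Subgroup G) ⊓ N := le_inf hle (img_le S)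
    have hc := sub_le_card S ((R : Subgroup G) ⊓ N) inf_le_right (R.isPGroup'.to_le inf_le_left)
    exact Subgroup.eq_of_le_of_card_ge hle2 hc
  refine ⟨?_, ?_, ?_⟩
  · -- more than one Sylow
    rw [Finite.one_lt_card_iff_nontrivial]
    obtain ⟨S1, hS1⟩ := (show IsPGroup p (((P : Subgroup G) ⊓ N).subgroupOf N) from
      (P.isPGroup'.to_le inf_le_left).comap_subtype).exists_le_sylow
    obtain ⟨S2, hS2⟩ := (show IsPGroup p (((Q : Subgroup G) ⊓ N).subgroupOf N) from
      (Q.isPGroup'.to_le inf_le_left).comap_subtype).exists_le_sylow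
    refine ⟨S1, S2, ?_⟩
    intro heq
    obtain ⟨T0, hT0⟩ := (img_p S1).exists_le_sylow
    have hA : (P : Subgroup G) ⊓ N ≤ (S1 : Subgroup N).map N.subtype := by
      intro x hx
      exact Subgroup.mem_map.2 ⟨⟨x, (Subgroup.mem_inf.1 hx).2⟩,
        hS1 (Subgroup.mem_subgroupOf.2 hx), rfl⟩
    have hB : (Q : Subgroup G) ⊓ N ≤ (S1 : Subgroup N).map N.subtype := by
      rw [heq]
      intro x hx
      exact Subgroup.mem_map.2 ⟨⟨x, (Subgroup.mem_inf.1 hx).2⟩,
        hS2 (Subgroup.mem_subgroupOf.2 hx), rfl⟩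
    have e1 : T0 = P := key1 T0 P ((P : Subgroup G) ⊓ N) (hA.trans hT0) inf_le_left (grow P hDltP)
    have e2 : T0 = Q := key1 T0 Q ((Q : Subgroup G) ⊓ N) (hB.trans hT0) inf_le_left (grow Q hDltQ)
    exact hPQ (e1.symm.trans e2)
  · intro S T hST
    obtain ⟨P1, hP1⟩ := (img_p S).exists_le_sylow
    obtain ⟨P2, hP2⟩ := (img_p T).exists_le_sylow
    have hne : P1 ≠ P2 := by
      intro h
      apply hST
      apply img_inj
      rw [img_eq S P1 hP1, img_eq T P2 hP2, h]
    have hcard := hmax P1 P2 hne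
    have hle1 : D ≤ (S : Subgroup N).map N.subtype ⊓ (T : Subgroup N).map N.subtype :=
      le_inf (D_le_img S) (D_le_img T)
    have hle2 : (S : Subgroup N).map N.subtype ⊓ (T : Subgroup N).map N.subtype ≤
        (P1 : Subgroup G) ⊓ P2 := inf_le_inf hP1 hP2
    have hc2 : Nat.card ↥((S : Subgroup N).map N.subtype ⊓ (T : Subgroup N).map N.subtype) ≤
        Nat.card D := (Subgroup.card_le_of_le hle2).trans hcard
    have heq := Subgroup.eq_of_le_of_card_ge hle1 hc2
    ext x
    rw [Subgroup.mem_inf, Subgroup.mem_subgroupOf]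
    constructor
    · rintro ⟨h1, h2⟩
      rw [heq]
      exact Subgroup.mem_inf.2 ⟨Subgroup.mem_map.2 ⟨x, h1, rfl⟩, Subgroup.mem_map.2 ⟨x, h2, rfl⟩⟩
    · intro hx
      have h1 := D_le_img S hx
      have h2 := D_le_img T hx
      obtain ⟨y1, hy1, e1⟩ := Subgroup.mem_map.1 h1
      obtain ⟨y2, hy2, e2⟩ := Subgroup.mem_map.1 h2
      have e1' : y1 = x := Subtype.ext e1
      have e2' : y2 = x := Subtype.ext e2
      exact ⟨e1' ▸ hy1, e2' ▸ hy2⟩
  · intro S
    obtain ⟨T, hT⟩ := (img_p S).exists_le_sylow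
    refine ⟨T, hT, ?_⟩
    intro T2 hT2
    exact key1 T2 T _ hT2 hT (img_big S)

end Cfsg.Agent.S0986
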