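import Cfsg.Statements.S0987
import Mathlib

set_option autoImplicit false
set_option linter.unusedSimpArgs false
open Cfsg

namespace Cfsg.Agent.S0987

theorem fact3 (p q r : ℕ) (hp : p.Prime) (hq : q.Prime) (hr : r.Prime) (hpq : p < q) (hqr : q < r) :
    (p * q * r).factorization p = 1 ∧ (p * q * r).factorization r = 1 ∧ (q * r).factorization r = 1 := by
  have h1 : p ≠ q := hpq.ne
  have h2 : q ≠ r := hqr.ne
  have h3 : p ≠ r := (hpq.trans hqr).ne
  refine ⟨?_, ?_, ?_⟩ <;>
  simp [Nat.factorization_mul, hp.ne_zero, hq.ne_zero, hr.ne_zero, hp.factorization, hq.factorization, hr.factorization, Finsupp.single_apply, h1, h2, h3, h1.symm, h2.symm, h3.symm]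

theorem minFac3 (p q r : ℕ) (hp : p.Prime) (hq : q.Prime) (hr : r.Prime) (hpq : p < q) (hqr : q < r) :
    (p * q * r).minFac = p := by
  have hne : p * q * r ≠ 1 := by
    intro h
    have : p ∣ 1 := ⟨q * r, by rw [← h]; ring⟩
    exact hp.one_lt.ne' (Nat.dvd_one.1 this)
  have hm := Nat.minFac_prime hne
  have hd := Nat.minFac_dvd (p * q * r)
  have hle : (p * q * r).minFac ≤ p := Nat.minFac_le_of_dvd hp.two_le ⟨q * r, by ring⟩
  rcases (Nat.Prime.dvd_mul hm).1 hd with h | h
  · rcases (Nat.Prime.dvd_mul hm).1 h with h | h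
    · exact (Nat.prime_dvd_prime_iff_eq hm hp).1 h
    · have := (Nat.prime_dvd_prime_iff_eq hm hq).1 h
      omega
  · have := (Nat.prime_dvd_prime_iff_eq hm hr).1 h
    omega

/-- If a finite group has order pqr for primes p < q < r, then its Sylow r-subgroups are normal. -/
theorem result {G : Type*} [Group G] [Finite G] (p q r : ℕ) (hp : p.Prime) (hq : q.Prime) [Fact r.Prime] (hpq : p < q) (hqr : q < r) (hG : Nat.card G = p * q * r) (R : Sylow r G) : (R : Subgroup G).Normal := by
  have hr : r.Prime := Fact.out
  haveI : Fact p.Prime := ⟨hp⟩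
  obtain ⟨f1, f2, f3⟩ := fact3 p q r hp hq hr hpq hqr
  have hmin : (Nat.card G).minFac = p := by rw [hG]; exact minFac3 p q r hp hq hr hpq hqr
  -- Sylow p-subgroup P, cyclic of order p
  let P : Sylow p G := default
  have hPcard : Nat.card P = p := by
    rw [Sylow.card_eq_multiplicity, hG, f1, pow_one]
  have hPcyc : IsCyclic P := isCyclic_of_prime_card hPcard
  have hcompl := IsCyclic.isComplement' hmin hPcyc
  set K : Subgroup G := (MonoidHom.transferSylow P (hPcyc.normalizer_le_centralizer hmin)).ker with hK
  haveI hKn : K.Normal := MonoidHom.normal_ker _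
  have hKcard : Nat.card K = q * r := by
    have h1 := hcompl.card_mul
    rw [hPcard, hG] at h1
    have : Nat.card K * p = (q * r) * p := by rw [h1]; ring
    exact Nat.eq_of_mul_eq_mul_right hp.pos this
  -- Sylow r-subgroup S of K
  let S : Sylow r K := default
  have hScard : Nat.card S = r := by
    rw [Sylow.card_eq_multiplicity, hKcard, f3, pow_one]
  have hSidx : (S : Subgroup K).index = q := by
    have h1 := (S : Subgroup K).card_mul_index
    rw [hScard, hKcard] at h1
    have : r * (S : Subgroup K).index = r * q := by rw [h1]; ring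
    exact Nat.eq_of_mul_eq_mul_left hr.pos this
  have hn1 : Nat.card (Sylow r K) = 1 := by
    have hd : Nat.card (Sylow r K) ∣ q := hSidx ▸ Sylow.card_dvd_index S
    have hm : Nat.card (Sylow r K) ≡ 1 [MOD r] := card_sylow_modEq_one r K
    rcases (Nat.dvd_prime hq).1 hd with h | h
    · exact h
    · exfalso
      rw [h] at hm
      have h1 : q % r = q := Nat.mod_eq_of_lt hqr
      have h2 : 1 % r = 1 := Nat.mod_eq_of_lt hr.one_lt
      have : q % r = 1 % r := hm
      rw [h1, h2] at this
      exact hq.one_lt.ne' this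
  haveI : Subsingleton (Sylow r K) := (Nat.card_eq_one_iff_unique.1 hn1).1
  haveI hSchar : (S : Subgroup K).Characteristic := Sylow.characteristic_of_subsingleton S
  have hS'n : ((S : Subgroup K).map K.subtype).Normal := ConjAct.normal_of_characteristic_of_normal
  have hS'card : Nat.card ((S : Subgroup K).map K.subtype) = r ^ (Nat.card G).factorization r := by
    rw [hG, f2, pow_one, Subgroup.card_map_of_injective K.subtype_injective]
    exact hScard
  let S' : Sylow r G := Sylow.ofCard _ hS'card
  haveI : (S' : Subgroup G).Normal := hS'n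
  obtain ⟨g, hg⟩ := MulAction.exists_smul_eq G S' R
  rw [Sylow.smul_eq_of_normal] at hg
  rw [← hg]
  exact hS'n

end Cfsg.Agent.S0987
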