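import Cfsg.Statements.S0990
import Cfsg.Agent.Lib.Helper2.Index

set_option autoImplicit false
set_option linter.style.haveILetI false
open Cfsg

namespace Cfsg.Agent.S0990

open Cfsg.Agent.Lib.Helper2

/-- Let p be an odd prime and P a Sylow p-subgroup of the symmetric group on a finite set with at least two elements. Then P is contained in the alternating group, and twice the order of the normalizer of P inside the alternating group equals the order of the normalizer of P in the symmetric group. -/
theorem result {α : Type*} [Fintype α] [DecidableEq α] (hα : 2 ≤ Fintype.card α) (p : ℕ) [Fact p.Prime] (hp : p ≠ 2) (P : Sylow p (Equiv.Perm α)) : (P : Subgroup (Equiv.Perm α)) ≤ alternatingGroup α ∧ 2 * Nat.card ↥(Subgroup.normalizer ((((P : Subgroup (Equiv.Perm α)).subgroupOf (alternatingGroup α) : Subgroup ↥(alternatingGroup α)) : Set ↥(alternatingGroup α)))) = Nat.card ↥(Subgroup.normalizer ((P : Subgroup (Equiv.Perm α)) : Set (Equiv.Perm α))) := by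
  classical
  have hpp : p.Prime := Fact.out
  haveI : Nontrivial α := Fintype.one_lt_card_iff_nontrivial.1 (by omega)
  have hodd : Odd p := hpp.odd_of_ne_two hp
  set A := alternatingGroup α with hA
  have hPA : (P : Subgroup (Equiv.Perm α)) ≤ A := by
    intro g hg
    rw [hA, Equiv.Perm.mem_alternatingGroup]
    obtain ⟨k, hk⟩ := P.2 ⟨g, hg⟩
    have hk' : g ^ (p ^ k) = 1 := by
      have := congrArg Subtype.val hk
      simpa using this
    have hs : (Equiv.Perm.sign g) ^ (p ^ k) = 1 := by
      rw [← map_pow, hk', map_one]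
    rcases Int.units_eq_one_or (Equiv.Perm.sign g) with h | h
    · exact h
    · exfalso
      rw [h, Odd.neg_one_pow (hodd.pow)] at hs
      exact absurd hs (by decide)
  refine ⟨hPA, ?_⟩
  set N := Subgroup.normalizer ((P : Subgroup (Equiv.Perm α)) : Set (Equiv.Perm α)) with hN
  -- Frattini
  have hfr : N ⊔ A = ⊤ := by
    have h1 := Sylow.normalizer_sup_eq_top (P.subtype hPA)
    rw [Sylow.coe_subtype, Subgroup.subgroupOf_map_subtype, inf_eq_left.2 hPA] at h1
    exact h1
  have hcard := card_sup_mul_card_inf N A (by
    rw [Subgroup.normalizer_eq_top]; exact le_top)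
  rw [hfr, Subgroup.card_top] at hcard
  have hAcard : 2 * Nat.card A = Nat.card (Equiv.Perm α) := by
    rw [Nat.card_eq_fintype_card, Nat.card_eq_fintype_card]
    exact two_mul_card_alternatingGroup
  -- normalizer in A
  have hnorm : Nat.card (Subgroup.normalizer (((P : Subgroup (Equiv.Perm α)).subgroupOf A : Subgroup A) : Set A))
      = Nat.card (N ⊓ A : Subgroup (Equiv.Perm α)) := by
    rw [← Subgroup.subgroupOf_normalizer_eq hPA, ← hN]
    rw [← Subgroup.subgroupOf_map_subtype N A,
      Subgroup.card_map_of_injective A.subtype_injective]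
  rw [hnorm]
  have hpos : 0 < Nat.card A := Nat.card_pos
  have : (2 * Nat.card (N ⊓ A : Subgroup (Equiv.Perm α))) * Nat.card A = Nat.card N * Nat.card A := by
    calc (2 * Nat.card (N ⊓ A : Subgroup (Equiv.Perm α))) * Nat.card A
        = (2 * Nat.card A) * Nat.card (N ⊓ A : Subgroup (Equiv.Perm α)) := by ring
      _ = Nat.card (Equiv.Perm α) * Nat.card (N ⊓ A : Subgroup (Equiv.Perm α)) := by rw [hAcard]
      _ = Nat.card N * Nat.card A := hcard
  exact Nat.eq_of_mul_eq_mul_right hpos this

end Cfsg.Agent.S0990
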