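import Cfsg.Statements.S0991
import Mathlib

set_option autoImplicit false
open Cfsg

namespace Cfsg.Agent.S0991

/-- Embedding Theorem: if a non-abelian finite simple group has a proper subgroup of index n, then it is isomorphic to a subgroup of the alternating group of degree n. -/
theorem result {G : Type*} [Group G] [Finite G] [IsSimpleGroup G] (hG : ¬ IsMulCommutative G) (H : Subgroup G) (hH : H ≠ ⊤) : ∃ f : G →* ↥(alternatingGroup (Fin H.index)), Function.Injective f := by
  classical
  have hcard : Nat.card (G ⧸ H) = H.index := rfl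
  let e : (G ⧸ H) ≃ Fin H.index := Finite.equivFinOfCardEq hcard
  let φ : G →* Equiv.Perm (G ⧸ H) := MulAction.toPermHom G (G ⧸ H)
  let ψ : G →* Equiv.Perm (Fin H.index) := (e.permCongrHom).toMonoidHom.comp φ
  have hker : ψ.ker = ⊥ := by
    rcases (ψ.normal_ker).eq_bot_or_eq_top with h | h
    · exact h
    · exfalso
      apply hH
      rw [eq_top_iff]
      intro g _
      have hg : g ∈ ψ.ker := by rw [h]; exact Subgroup.mem_top g
      rw [MonoidHom.mem_ker] at hg
      have hφ : φ g = 1 := by
        have : e.permCongrHom (φ g) = 1 := hg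
        exact (MulEquiv.map_eq_one_iff _).1 this
      have h1 : φ g ((1 : G) : G ⧸ H) = ((1 : G) : G ⧸ H) := by rw [hφ]; rfl
      have h2 : φ g ((1 : G) : G ⧸ H) = ((g * 1 : G) : G ⧸ H) := rfl
      rw [h2, mul_one] at h1
      have := QuotientGroup.eq.1 h1
      simpa using this
  have hinj : Function.Injective ψ := (MonoidHom.ker_eq_bot_iff ψ).1 hker
  let s : G →* ℤˣ := Equiv.Perm.sign.comp ψ
  have hs : s.ker = ⊤ := by
    rcases (s.normal_ker).eq_bot_or_eq_top with h | h
    · exfalso
      apply hG
      have sinj : Function.Injective s := (MonoidHom.ker_eq_bot_iff s).1 h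
      refine ⟨⟨fun a b => sinj ?_⟩⟩
      rw [map_mul, map_mul, mul_comm]
    · exact h
  have hmem : ∀ g, ψ g ∈ alternatingGroup (Fin H.index) := by
    intro g
    rw [Equiv.Perm.mem_alternatingGroup]
    have : g ∈ s.ker := by rw [hs]; exact Subgroup.mem_top g
    exact this
  refine ⟨ψ.codRestrict (alternatingGroup (Fin H.index)) hmem, ?_⟩
  intro a b hab
  apply hinj
  have := congrArg Subtype.val hab
  exact this

end Cfsg.Agent.S0991
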