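import Cfsg.Statements.S0992
import Mathlib
-- import your own Cfsg.Agent.* helpers here

set_option autoImplicit false
open Cfsg

namespace Cfsg.Agent.S0992

/-- In a non-abelian simple group of even order not divisible by 8, every Sylow 2-subgroup T is a Klein four-group and N(T)/C(T) has order 3. -/
theorem result {G : Type*} [Group G] [Finite G] [IsSimpleGroup G] (hG : ¬ IsMulCommutative G) (h2 : Even (Nat.card G)) (h8 : ¬ 8 ∣ Nat.card G) (T : Sylow 2 G) : IsKleinFour ↥(T : Subgroup G) ∧ (Subgroup.centralizer ((T : Subgroup G) : Set G)).relIndex (Subgroup.normalizer ((T : Subgroup G) : Set G)) = 3 := by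
  haveI : Fact (Nat.Prime 2) := ⟨Nat.prime_two⟩
  have hcardG : 0 < Nat.card G := Nat.card_pos
  -- order of T
  have hT := T.card_eq_multiplicity
  obtain ⟨a, ha⟩ : ∃ a, a = (Nat.card G).factorization 2 := ⟨_, rfl⟩
  rw [← ha] at hT
  have hTdvd : Nat.card (T : Subgroup G) ∣ Nat.card G := Subgroup.card_subgroup_dvd_card _
  have ha1 : 1 ≤ a := by
    rw [ha]
    exact (Nat.Prime.factorization_pos_of_dvd Nat.prime_two hcardG.ne' h2.two_dvd)
  have ha2 : a ≤ 2 := by
    by_contra hcon
    apply h8
    have : (2 : ℕ) ^ 3 ∣ 2 ^ a := pow_dvd_pow 2 (by omega)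
    rw [hT] at hTdvd
    exact (this.trans hTdvd)
  have hTcard : Nat.card (T : Subgroup G) = 2 ∨ Nat.card (T : Subgroup G) = 4 := by
    have : a = 1 ∨ a = 2 := by omega
    rcases this with h | h
    · left; rw [hT, h]; rfl
    · right; rw [hT, h]; rfl
  -- Burnside
  have hNC : ¬ (Subgroup.normalizer ((T : Subgroup G) : Set G) ≤
      Subgroup.centralizer ((T : Subgroup G) : Set G)) := by
    intro hle
    have hK := MonoidHom.ker_transferSylow_isComplement' T hle
    have hcm := hK.card_mul_card
    rcases (MonoidHom.normal_ker (MonoidHom.transferSylow T hle)).eq_bot_or_eq_top with h | h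
    · rw [h, Subgroup.card_bot, one_mul] at hcm
      apply hG
      rcases hTcard with h' | h'
      · haveI : IsCyclic G := isCyclic_of_prime_card (p := 2) (by rw [← hcm, h'])
        exact IsCyclic.isMulCommutative
      · exact IsPGroup.isMulCommutative_of_card_eq_prime_sq (p := 2) (by rw [← hcm, h']; norm_num)
    · rw [h, Subgroup.card_top] at hcm
      have : Nat.card (T : Subgroup G) = 1 := by
        have := Nat.eq_of_mul_eq_mul_left hcardG (hcm.trans (mul_one _).symm)
        exact this
      rcases hTcard with h' | h' <;> omega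
  -- T is not cyclic
  have hncyc : ¬ IsCyclic (T : Subgroup G) := by
    intro hc
    apply hNC
    refine IsCyclic.normalizer_le_centralizer ?_ hc
    have h2dvd : 2 ∣ Nat.card G := h2.two_dvd
    have hne : Nat.card G ≠ 1 := by
      intro h; rw [h] at h2dvd; omega
    have h1 := Nat.minFac_le_of_dvd (le_refl 2) h2dvd
    have h3 := (Nat.minFac_prime hne).two_le
    omega
  have hT4 : Nat.card (T : Subgroup G) = 4 := by
    rcases hTcard with h | h
    · exfalso
      exact hncyc (isCyclic_of_prime_card (p := 2) h)
    · exact h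
  have hKlein : IsKleinFour (T : Subgroup G) := by
    refine ⟨hT4, ?_⟩
    haveI : Nontrivial (T : Subgroup G) := by
      rw [← Finite.one_lt_card_iff_nontrivial, hT4]; norm_num
    rw [Monoid.exponent_eq_prime_iff Nat.prime_two]
    intro g hg
    have hdvd : orderOf g ∣ 4 := by rw [← hT4]; exact orderOf_dvd_natCard g
    have h4 : orderOf g ≠ 4 := by
      intro h
      exact hncyc (isCyclic_of_orderOf_eq_card g (by rw [h, hT4]))
    have h1 : orderOf g ≠ 1 := by
      intro h
      exact hg (orderOf_eq_one_iff.1 h)
    have h22 : (4 : ℕ) = 2 ^ 2 := by norm_num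
    rw [h22] at hdvd
    obtain ⟨k, hk, hk'⟩ := (Nat.dvd_prime_pow Nat.prime_two).1 hdvd
    interval_cases k
    · exact absurd hk' h1
    · exact hk'
    · exact absurd hk' h4
  refine ⟨hKlein, ?_⟩
  -- the index
  have hTab : (T : Subgroup G) ≤ Subgroup.centralizer ((T : Subgroup G) : Set G) := by
    rw [Subgroup.le_centralizer_iff_isMulCommutative]
    exact IsPGroup.isMulCommutative_of_card_eq_prime_sq (p := 2) (by rw [hT4]; norm_num)
  obtain ⟨r, hr⟩ : ∃ r, r = (Subgroup.centralizer ((T : Subgroup G) : Set G)).relIndex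
      (Subgroup.normalizer ((T : Subgroup G) : Set G)) := ⟨_, rfl⟩
  rw [← hr]
  have hr1 : r ≠ 1 := by
    intro h
    apply hNC
    rw [h] at hr
    exact Subgroup.relIndex_eq_one.1 hr.symm
  have hrdvd : r ∣ 24 := by
    have key := Subgroup.card_dvd_of_injective _
      (QuotientGroup.kerLift_injective (T : Subgroup G).normalizerMonoidHom)
    rw [Subgroup.normalizerMonoidHom_ker, ← Subgroup.index, ← Subgroup.relIndex, ← hr] at key
    have hinj : Function.Injective (MulAut.toPerm (T : Subgroup G)) := by
      intro f g h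
      ext x
      exact congrArg Subtype.val (congrArg (fun e : Equiv.Perm (T : Subgroup G) => e x) h)
    have key2 := Subgroup.card_dvd_of_injective _ hinj
    rw [Nat.card_perm, hT4] at key2
    exact key.trans key2
  have hrodd : ¬ 2 ∣ r := by
    intro h
    apply T.not_dvd_index
    have h1 : r ∣ (T : Subgroup G).relIndex (Subgroup.normalizer ((T : Subgroup G) : Set G)) := by
      rw [hr]
      exact Subgroup.relIndex_dvd_of_le_left _ hTab
    exact (h.trans h1).trans (Subgroup.relIndex_dvd_index_of_le Subgroup.le_normalizer)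
  have hrle : r ≤ 24 := Nat.le_of_dvd (by norm_num) hrdvd
  interval_cases r <;> omega

end Cfsg.Agent.S0992
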