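import Cfsg.Statements.S0994
import Mathlib
import Cfsg.Agent.Lib.Helper1.SmallSimple

set_option autoImplicit false
open Cfsg

namespace Cfsg.Agent.S0994

open Cfsg.Agent.Lib.Helper1


/-- No finite simple group has order 1188 = 2^2 * 3^3 * 11. -/
theorem result {G : Type*} [Group G] [Finite G] [IsSimpleGroup G] : Nat.card G ≠ 1188 := by
  intro h
  haveI : Fact (Nat.Prime 11) := ⟨by norm_num⟩
  obtain ⟨P⟩ : Nonempty (Sylow 11 G) := inferInstance
  have hP : Nat.card (P : Subgroup G) = 11 := by
    have := sylow_card_of_card_eq P 1 108 (by rw [h]; norm_num) (by norm_num)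
    simpa using this
  have hidx : (P : Subgroup G).index = 108 := by
    have := (P : Subgroup G).card_mul_index
    rw [hP, h] at this
    omega
  have hn1 := card_sylow_modEq_one 11 G
  have hn2 := P.card_dvd_index
  rw [hidx] at hn2
  have hN := card_normalizer_mul_card_sylow P
  have hne1 := card_sylow_ne_one_of_simple P
    (subgroup_ne_bot_of_card _ (by rw [hP]; norm_num))
    (subgroup_ne_top_of_card _ (by rw [hP, h]; norm_num))
  have hdiv : ∀ n ∈ Nat.divisors 108, n % 11 = 1 → n = 1 ∨ n = 12 := by decide
  have hn : Nat.card (Sylow 11 G) = 12 := by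
    rcases hdiv _ (Nat.mem_divisors.2 ⟨hn2, by norm_num⟩) hn1 with h1 | h1
    · exact absurd h1 hne1
    · exact h1
  rw [hn, h] at hN
  have hNc : Nat.card (Subgroup.normalizer ((P : Subgroup G) : Set G)) = 99 := by omega
  have h10 := relIndex_centralizer_normalizer_dvd P hP
  have h99 : (Subgroup.centralizer ((P : Subgroup G) : Set G)).relIndex
      (Subgroup.normalizer ((P : Subgroup G) : Set G)) ∣ 99 := by
    rw [← hNc]
    exact Subgroup.relIndex_dvd_card _ _
  have hone : (Subgroup.centralizer ((P : Subgroup G) : Set G)).relIndex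
      (Subgroup.normalizer ((P : Subgroup G) : Set G)) = 1 := by
    have := Nat.dvd_gcd h10 h99
    have hg : Nat.gcd (11 - 1) 99 = 1 := by norm_num
    rw [hg] at this
    exact Nat.dvd_one.1 this
  rw [Subgroup.relIndex_eq_one] at hone
  have htop := sylow_eq_top_of_normalizer_le_centralizer P hone
    (subgroup_ne_bot_of_card _ (by rw [hP]; norm_num))
  exact subgroup_ne_top_of_card _ (by rw [hP, h]; norm_num) htop

end Cfsg.Agent.S0994
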