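import Cfsg.Statements.S0995
import Cfsg.Agent.Lib.Helper2.PrimeSylow
import Cfsg.Agent.Lib.Helper2.ClassCard

set_option autoImplicit false
set_option linter.style.haveILetI false
open Cfsg

namespace Cfsg.Agent.S0995

open Cfsg.Agent.Lib.Helper2
open scoped Pointwise

theorem mem_smul_sylow {G : Type*} [Group G] {p : ℕ} (g : G) (S : Sylow p G) (x : G) :
    x ∈ ((g • S : Sylow p G) : Subgroup G) ↔ g⁻¹ * x * g ∈ (S : Subgroup G) := by
  rw [Sylow.coe_subgroup_smul, Subgroup.mem_pointwise_smul_iff_inv_smul_mem, MulAut.smul_def, ← map_inv,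
    MulAut.conj_apply, inv_inv]

/-- Let G be a finite perfect group containing an element z of prime order p whose centralizer is the cyclic group it generates. Let t be the number of conjugacy classes of elements of order p. Then t divides p - 1, the number of Sylow p-subgroups has the form 1 + n * p, and |G| * t = (p - 1) * p * (1 + n * p). -/
theorem result {G : Type*} [Group G] [Finite G] (hperf : commutator G = ⊤) (p : ℕ) [Fact p.Prime] (z : G) (hz : orderOf z = p) (hC : Subgroup.centralizer ({z} : Set G) = Subgroup.zpowers z) : ∃ n t : ℕ, t = Nat.card {c : ConjClasses G // ∃ g : G, ConjClasses.mk g = c ∧ orderOf g = p} ∧ t ∣ p - 1 ∧ Nat.card (Sylow p G) = 1 + n * p ∧ Nat.card G * t = (p - 1) * p * (1 + n * p) := by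
  classical
  have hp : p.Prime := Fact.out
  set Z := Subgroup.zpowers z with hZ
  have hZcard : Nat.card Z = p := by rw [hZ, Nat.card_zpowers, hz]
  have hz1 : z ≠ 1 := by
    rintro rfl
    rw [orderOf_one] at hz
    exact hp.one_lt.ne hz
  have hZp : IsPGroup p Z := IsPGroup.of_card (n := 1) (by rw [hZcard, pow_one])
  obtain ⟨S, hS⟩ := hZp.exists_le_sylow
  have hzS : z ∈ (S : Subgroup G) := hS (Subgroup.mem_zpowers z)
  have hSZ : (S : Subgroup G) ≤ Z := by
    haveI : Nontrivial (S : Subgroup G) :=
      ⟨⟨⟨z, hzS⟩, 1, fun h => hz1 (congrArg Subtype.val h)⟩⟩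
    haveI := S.2.center_nontrivial
    obtain ⟨c', hc'⟩ := exists_ne (1 : Subgroup.center (S : Subgroup G))
    have hc1 : ((c' : (S : Subgroup G)) : G) ≠ 1 := by
      intro h
      apply hc'
      apply Subtype.ext
      apply Subtype.ext
      exact h
    have hcomm : ∀ s ∈ (S : Subgroup G), s * ((c' : (S : Subgroup G)) : G) = ((c' : (S : Subgroup G)) : G) * s := by
      intro s hs
      have := Subgroup.mem_center_iff.1 c'.2 ⟨s, hs⟩
      exact congrArg Subtype.val this
    have hcZ : ((c' : (S : Subgroup G)) : G) ∈ Z := by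
      show _ ∈ Z
      rw [← hC, Subgroup.mem_centralizer_iff]
      intro h hh
      rw [Set.mem_singleton_iff] at hh
      subst hh
      exact hcomm h hzS
    have hzc := zpowers_eq_of_mem_of_card_prime Z hZcard hcZ hc1
    intro s hs
    show _ ∈ Z
    rw [← hC, Subgroup.mem_centralizer_iff]
    intro h hh
    rw [Set.mem_singleton_iff] at hh
    subst hh
    have hzmem : h ∈ Subgroup.zpowers ((c' : (S : Subgroup G)) : G) := by
      rw [hzc]; exact Subgroup.mem_zpowers h
    obtain ⟨k, hk⟩ := Subgroup.mem_zpowers_iff.1 hzmem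
    rw [← hk]
    have hcs : Commute s ((c' : (S : Subgroup G)) : G) := hcomm s hs
    exact (hcs.zpow_right k).symm
  have hSeq : (S : Subgroup G) = Z := le_antisymm hSZ hS
  have hScard : Nat.card (S : Subgroup G) = p := by rw [hSeq, hZcard]
  have hall : ∀ Q : Sylow p G, Nat.card (Q : Subgroup G) = p := by
    intro Q
    rw [Q.card_eq_multiplicity, ← S.card_eq_multiplicity, hScard]
  -- class sizes
  have hclass : ∀ c : {c : ConjClasses G // ∃ g : G, ConjClasses.mk g = c ∧ orderOf g = p},
      Nat.card {g : G // ConjClasses.mk g = c.1} * p = Nat.card G := by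
    rintro ⟨c, g0, hg0c, hg0⟩
    have hg0p : IsPGroup p (Subgroup.zpowers g0) :=
      IsPGroup.of_card (n := 1) (by rw [Nat.card_zpowers, hg0, pow_one])
    obtain ⟨Q, hQ⟩ := hg0p.exists_le_sylow
    obtain ⟨x, hx⟩ := MulAction.exists_smul_eq G S Q
    have hg0Q : g0 ∈ (Q : Subgroup G) := hQ (Subgroup.mem_zpowers g0)
    rw [← hx, mem_smul_sylow, hSeq] at hg0Q
    set z0 := x⁻¹ * g0 * x with hz0
    have hz01 : z0 ≠ 1 := by
      intro h
      have : g0 = x * z0 * x⁻¹ := by rw [hz0]; group
      rw [this, h] at hg0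
      simp at hg0
      exact hp.one_lt.ne hg0
    have hmk : ConjClasses.mk z0 = c := by
      rw [← hg0c, ConjClasses.mk_eq_mk_iff_isConj, isConj_comm, isConj_iff]
      exact ⟨x⁻¹, by rw [inv_inv]⟩
    have hzz : Subgroup.zpowers z0 = Z := zpowers_eq_of_mem_of_card_prime Z hZcard hg0Q hz01
    have hcent : Subgroup.centralizer ({z0} : Set G) = Z := by
      rw [centralizer_singleton_eq_of_zpowers_eq (hzz.trans hZ), hC]
    have := card_class_mul_card_centralizer z0
    rw [hcent, hZcard, hmk] at this
    exact this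
  -- decomposition of elements of order p into classes
  let T := {c : ConjClasses G // ∃ g : G, ConjClasses.mk g = c ∧ orderOf g = p}
  haveI : Fintype T := Fintype.ofFinite _
  let e : {g : G // orderOf g = p} ≃ Σ c : T, {g : G // ConjClasses.mk g = c.1} :=
    { toFun := fun g => ⟨⟨ConjClasses.mk g.1, g.1, rfl, g.2⟩, ⟨g.1, rfl⟩⟩
      invFun := fun x => ⟨x.2.1, by
        obtain ⟨g0, hg0c, hg0⟩ := x.1.2
        have : ConjClasses.mk x.2.1 = ConjClasses.mk g0 := x.2.2.trans hg0c.symm
        rw [ConjClasses.mk_eq_mk_iff_isConj] at this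
        rw [orderOf_eq_of_isConj this, hg0]⟩
      left_inv := fun g => rfl
      right_inv := fun x => by
        apply Sigma.subtype_ext
        · apply Subtype.ext
          exact x.2.2
        · rfl }
  have hX : Nat.card {g : G // orderOf g = p} * p = Nat.card T * Nat.card G := by
    rw [Nat.card_congr e, Nat.card_sigma, Finset.sum_mul]
    simp_rw [hclass]
    rw [Finset.sum_const, Finset.card_univ, smul_eq_mul, Nat.card_eq_fintype_card (α := T)]
  have hXS := card_orderOf_eq_prime (G := G) (p := p) hall
  -- Sylow count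
  have hmod : Nat.card (Sylow p G) % p = 1 := by
    have := card_sylow_modEq_one p G
    rw [Nat.ModEq, Nat.mod_eq_of_lt hp.one_lt] at this
    exact this
  set s := Nat.card (Sylow p G) with hs
  have hs_eq : s = 1 + (s / p) * p := by
    have := Nat.div_add_mod s p
    rw [hmod] at this
    rw [mul_comm] at this
    omega
  -- normalizer
  set N := Subgroup.normalizer ((S : Subgroup G) : Set G) with hN
  have hNidx : s = N.index := Sylow.card_eq_index_normalizer S
  have hNcard : Nat.card N * s = Nat.card G := by rw [hNidx, Subgroup.card_mul_index]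
  have hpN : p ∣ Nat.card N := by
    rw [← hScard]
    exact Subgroup.card_dvd_of_le Subgroup.le_normalizer
  obtain ⟨m, hm⟩ := hpN
  have hspos : 0 < s := by rw [hs_eq]; omega
  have hmain : Nat.card G * Nat.card T = (p - 1) * p * s := by
    rw [mul_comm, ← hX, hXS]; ring
  refine ⟨s / p, Nat.card T, rfl, ?_, hs_eq, ?_⟩
  · refine ⟨m, ?_⟩
    have h1 : (p * m * s) * Nat.card T = (p - 1) * p * s := by
      rw [← hm, hNcard]; exact hmain
    have h2 : (Nat.card T * m) * (p * s) = (p - 1) * (p * s) := by
      calc (Nat.card T * m) * (p * s) = (p * m * s) * Nat.card T := by ring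
        _ = (p - 1) * p * s := h1
        _ = (p - 1) * (p * s) := by ring
    exact (Nat.eq_of_mul_eq_mul_right (Nat.mul_pos hp.pos hspos) h2).symm
  · rw [← hs_eq]; exact hmain

end Cfsg.Agent.S0995
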