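import Mathlib
import Cfsg.Statements.S1005
import Cfsg.Agent.S0495

set_option autoImplicit false
open Cfsg

namespace Cfsg.Agent.S1005

open Cfsg.Agent.S0495

/-! ## A decidable model of the simple group of order 168 -/

/-- The concrete group. -/
abbrev K168 : Subgroup (Equiv.Perm Pt) :=
  Subgroup.closure ({Uperm, Hperm, T6} : Set (Equiv.Perm Pt))

/-- Index set of the Bruhat normal forms. -/
abbrev I := (Fin 7 × Fin 3) ⊕ (Fin 7 × Fin 7 × Fin 3)

/-- The Bruhat normal form. -/
def w : I → Equiv.Perm Pt
  | Sum.inl (b, j) => Uperm ^ (b : ℕ) * Hperm ^ (j : ℕ)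
  | Sum.inr (i, b, j) => Uperm ^ (i : ℕ) * T6 * (Uperm ^ (b : ℕ) * Hperm ^ (j : ℕ))

theorem allI {P : I → Prop} (h1 : ∀ b : Fin 7, ∀ j : Fin 3, P (Sum.inl (b, j)))
    (h2 : ∀ i b : Fin 7, ∀ j : Fin 3, P (Sum.inr (i, b, j))) : ∀ x, P x := by
  intro x
  match x with
  | Sum.inl (b, j) => exact h1 b j
  | Sum.inr (i, b, j) => exact h2 i b j

theorem w_mem (x : I) : w x ∈ K168 := by
  have hU : Uperm ∈ K168 := Subgroup.subset_closure (by simp)
  have hH : Hperm ∈ K168 := Subgroup.subset_closure (by simp)
  have hT : T6 ∈ K168 := Subgroup.subset_closure (by simp)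
  match x with
  | Sum.inl (b, j) =>
    exact Subgroup.mul_mem _ (Subgroup.pow_mem _ hU _) (Subgroup.pow_mem _ hH _)
  | Sum.inr (i, b, j) =>
    exact Subgroup.mul_mem _ (Subgroup.mul_mem _ (Subgroup.pow_mem _ hU _) hT)
      (Subgroup.mul_mem _ (Subgroup.pow_mem _ hU _) (Subgroup.pow_mem _ hH _))

/-- Decoding a normal form. -/
def gv (o : Pt) : Fin 7 := o.getD 0

def lg (x : Fin 7) : Fin 3 := if x = 1 then 0 else if x = 2 then 1 else 2

def dec (π : Equiv.Perm Pt) : I :=
  match π none with
  | none => Sum.inl (gv (π (some 0)), lg (gv (π (some 1)) - gv (π (some 0))))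
  | some i =>
    Sum.inr (i, gv (T6 (Option.map (fun y => y - i) (π (some 0)))),
      lg (gv (T6 (Option.map (fun y => y - i) (π (some 1))))
        - gv (T6 (Option.map (fun y => y - i) (π (some 0))))))

set_option maxRecDepth 100000 in
theorem dec_w : ∀ x : I, dec (w x) = x := by
  apply allI <;> decide

theorem w_injective : Function.Injective w := by
  intro x y h
  rw [← dec_w x, ← dec_w y, h]


theorem card_K168 : Nat.card K168 = 168 := by
  obtain ⟨hs, hc⟩ := psl27_simple_card (F := ZMod 7) (by rw [ZMod.card])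
  haveI := hs
  obtain ⟨e⟩ := exists_iso (G := Matrix.ProjectiveSpecialLinearGroup (Fin 2) (ZMod 7)) hc
  rw [← Nat.card_congr e.toEquiv, hc]

theorem wK_bij : Function.Bijective (fun x : I => (⟨w x, w_mem x⟩ : K168)) := by
  have hinj : Function.Injective (fun x : I => (⟨w x, w_mem x⟩ : K168)) := by
    intro x y h
    exact w_injective (congrArg Subtype.val h)
  exact hinj.bijective_of_nat_card_le (by
    rw [card_K168, Nat.card_eq_fintype_card]
    simp [Fintype.card_sum, Fintype.card_prod])

/-- The model: a simple group of order 168 embeds in `Perm Pt` with image the set of normal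
forms. -/
theorem model {G : Type*} [Group G] [Finite G] [IsSimpleGroup G] (h : Nat.card G = 168) :
    ∃ (φ : G →* Equiv.Perm Pt) (eI : G ≃ I), Function.Injective φ ∧ ∀ g, φ g = w (eI g) := by
  obtain ⟨e⟩ := exists_iso h
  refine ⟨(K168.subtype).comp e.toMonoidHom, e.toEquiv.trans (Equiv.ofBijective _ wK_bij).symm,
    ?_, ?_⟩
  · intro a b hab
    apply e.injective
    exact Subtype.ext hab
  · intro g
    have h1 := (Equiv.ofBijective _ wK_bij).apply_symm_apply (e g)
    have h2 := congrArg Subtype.val h1
    exact h2.symm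

/-! ## Computations in the model -/

set_option maxRecDepth 100000 in
theorem orders_w : ∀ x : I, w x = 1 ∨ (w x) ^ 2 = 1 ∨ (w x) ^ 3 = 1 ∨ (w x) ^ 4 = 1 ∨
    (w x) ^ 7 = 1 := by
  apply allI <;> decide

set_option maxRecDepth 100000 in
theorem count2 : Fintype.card {x : I // (w x) ^ 2 = 1 ∧ w x ≠ 1} = 21 := by
  decide

set_option synthInstance.maxHeartbeats 400000 in
set_option synthInstance.maxSize 1024 in
set_option maxRecDepth 100000 in
theorem conj2 : ∀ x : I, (w x) ^ 2 = 1 → w x ≠ 1 → ∃ l : I, w l * T6 = w x * w l := by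
  apply allI <;> decide


theorem w_T6 : w (Sum.inr (0, 0, 0)) = T6 := by
  simp [w]

/-- In a simple group of order 168 every element has order 1, 2, 3, 4 or 7; there are exactly 21 involutions and they form a single conjugacy class. -/
theorem result {G : Type*} [Group G] [Finite G] [IsSimpleGroup G] (h : Nat.card G = 168) : (∀ g : G, orderOf g = 1 ∨ orderOf g = 2 ∨ orderOf g = 3 ∨ orderOf g = 4 ∨ orderOf g = 7) ∧ Nat.card {g : G // orderOf g = 2} = 21 ∧ ∀ s t : G, orderOf s = 2 → orderOf t = 2 → IsConj s t := by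
  obtain ⟨φ, eI, hinj, hφ⟩ := model h
  have hord : ∀ g, orderOf (φ g) = orderOf g := orderOf_injective φ hinj
  refine ⟨?_, ?_, ?_⟩
  · intro g
    rw [← hord g, hφ g]
    rcases orders_w (eI g) with h1 | h2 | h3 | h4 | h7
    · left; rw [h1, orderOf_one]
    · have := orderOf_dvd_of_pow_eq_one h2
      rcases (Nat.dvd_prime Nat.prime_two).1 this with h | h
      · left; exact h
      · right; left; exact h
    · have := orderOf_dvd_of_pow_eq_one h3
      rcases (Nat.dvd_prime Nat.prime_three).1 this with h | h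
      · left; exact h
      · right; right; left; exact h
    · have := orderOf_dvd_of_pow_eq_one h4
      obtain ⟨k, hk, hkk⟩ := (Nat.dvd_prime_pow Nat.prime_two).1
        (show orderOf (w (eI g)) ∣ 2 ^ 2 from this)
      interval_cases k
      · left; simpa using hkk
      · right; left; simpa using hkk
      · right; right; right; left; simpa using hkk
    · have := orderOf_dvd_of_pow_eq_one h7
      rcases (Nat.dvd_prime (by norm_num : Nat.Prime 7)).1 this with h | h
      · left; exact h
      · right; right; right; right; exact h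
  · have e1 : {g : G // orderOf g = 2} ≃ {x : I // (w x) ^ 2 = 1 ∧ w x ≠ 1} :=
      eI.subtypeEquiv (fun g => by
        rw [← hord g, hφ g]
        exact orderOf_eq_prime_iff)
    rw [Nat.card_congr e1, Nat.card_eq_fintype_card]
    exact count2
  · have key : ∀ a : G, orderOf a = 2 → IsConj (eI.symm (Sum.inr (0, 0, 0))) a := by
      intro a ha
      rw [← hord a, hφ a, orderOf_eq_prime_iff] at ha
      obtain ⟨l, hl⟩ := conj2 (eI a) ha.1 ha.2
      rw [isConj_iff]
      refine ⟨eI.symm l, ?_⟩
      have hz : φ (eI.symm (Sum.inr (0, 0, 0))) = T6 := by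
        rw [hφ, Equiv.apply_symm_apply, w_T6]
      have hc : φ (eI.symm l) = w l := by rw [hφ, Equiv.apply_symm_apply]
      have e2 : eI.symm l * eI.symm (Sum.inr (0, 0, 0)) = a * eI.symm l := by
        apply hinj
        rw [map_mul, map_mul, hz, hc, hφ a]
        exact hl
      rw [e2, mul_inv_cancel_right]
    intro s t hs ht
    exact (key s hs).symm.trans (key t ht)

end Cfsg.Agent.S1005
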