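import Mathlib
import Cfsg.Statements.S1006
import Cfsg.Agent.S0495
import Cfsg.Agent.S1005

set_option autoImplicit false
open Cfsg

namespace Cfsg.Agent.S1006

open Cfsg.Agent.S0495 Cfsg.Agent.S1005

/-! ## Computations in the model -/

set_option maxRecDepth 100000 in
theorem count3 : Fintype.card {x : I // (w x) ^ 3 = 1 ∧ w x ≠ 1} = 56 := by
  decide

set_option synthInstance.maxHeartbeats 400000 in
set_option synthInstance.maxSize 1024 in
set_option maxRecDepth 100000 in
theorem conj3 : ∀ x : I, (w x) ^ 3 = 1 → w x ≠ 1 →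
    ∃ l : I, w l * w (Sum.inl (0, 1)) = w x * w l := by
  apply allI <;> decide

set_option maxRecDepth 100000 in
theorem count4 : Fintype.card {x : I // (w x) ^ 4 = 1 ∧ (w x) ^ 2 ≠ 1} = 42 := by
  decide

set_option synthInstance.maxHeartbeats 400000 in
set_option synthInstance.maxSize 1024 in
set_option maxRecDepth 100000 in
theorem conj4 : ∀ x : I, (w x) ^ 4 = 1 → (w x) ^ 2 ≠ 1 →
    ∃ l : I, w l * w (Sum.inr (0, 1, 2)) = w x * w l := by
  apply allI <;> decide

set_option maxRecDepth 100000 in
theorem count7 : Fintype.card {x : I // (w x) ^ 7 = 1 ∧ w x ≠ 1} = 48 := by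
  decide

set_option synthInstance.maxHeartbeats 400000 in
set_option synthInstance.maxSize 1024 in
set_option maxRecDepth 100000 in
theorem conj7 : ∀ x : I, (w x) ^ 7 = 1 → w x ≠ 1 →
    (∃ l : I, w l * w (Sum.inl (1, 0)) = w x * w l) ∨
      (∃ l : I, w l * w (Sum.inl (6, 0)) = w x * w l) := by
  apply allI <;> decide

set_option maxRecDepth 100000 in
theorem nconj7 : ∀ l : I, w l * w (Sum.inl (1, 0)) ≠ w (Sum.inl (6, 0)) * w l := by
  apply allI <;> decide

set_option synthInstance.maxHeartbeats 400000 in
set_option synthInstance.maxSize 1024 in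
set_option maxRecDepth 100000 in
theorem class7a : Fintype.card {x : I // ∃ l : I, w l * w (Sum.inl (1, 0)) = w x * w l} = 24 := by
  decide +kernel

set_option synthInstance.maxHeartbeats 400000 in
set_option synthInstance.maxSize 1024 in
set_option maxRecDepth 100000 in
theorem class7b : Fintype.card {x : I // ∃ l : I, w l * w (Sum.inl (6, 0)) = w x * w l} = 24 := by
  decide +kernel

theorem w_inv : w (Sum.inl (6, 0)) = (w (Sum.inl (1, 0)))⁻¹ := by
  apply Equiv.ext
  decide


theorem orderOf_eq_four_iff {M : Type*} [Group M] (x : M) :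
    orderOf x = 4 ↔ x ^ 4 = 1 ∧ x ^ 2 ≠ 1 := by
  constructor
  · intro h
    refine ⟨by rw [← h]; exact pow_orderOf_eq_one x, ?_⟩
    intro h2
    have := orderOf_dvd_of_pow_eq_one h2
    rw [h] at this
    norm_num at this
  · rintro ⟨h4, h2⟩
    have : orderOf x = 2 ^ (1 + 1) :=
      orderOf_eq_prime_pow (by simpa using h2) (by simpa using h4)
    simpa using this

section transfer

variable {G : Type*} [Group G] (φ : G →* Equiv.Perm Pt) (eI : G ≃ I)
  (hinj : Function.Injective φ) (hφ : ∀ g, φ g = w (eI g))

include hinj hφ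

theorem isConj_of_model (x0 : I) (a : G) (l : I) (hl : w l * w x0 = w (eI a) * w l) :
    IsConj (eI.symm x0) a := by
  rw [isConj_iff]
  refine ⟨eI.symm l, ?_⟩
  have hz : φ (eI.symm x0) = w x0 := by rw [hφ, Equiv.apply_symm_apply]
  have hc : φ (eI.symm l) = w l := by rw [hφ, Equiv.apply_symm_apply]
  have e2 : eI.symm l * eI.symm x0 = a * eI.symm l := by
    apply hinj
    rw [map_mul, map_mul, hz, hc, hφ a]
    exact hl
  rw [e2, mul_inv_cancel_right]

theorem model_of_isConj (a b : G) (hab : IsConj a b) :
    ∃ l : I, w l * w (eI a) = w (eI b) * w l := by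
  rw [isConj_iff] at hab
  obtain ⟨c, hc⟩ := hab
  refine ⟨eI c, ?_⟩
  rw [← hφ, ← hφ, ← hφ, ← map_mul, ← map_mul, ← hc]
  congr 1
  group

end transfer

/-- In a simple group of order 168 there are 56 elements of order 3, all conjugate; 42 elements of order 4, all conjugate; and 48 elements of order 7 falling into two conjugacy classes of size 24, an element of order 7 not being conjugate to its inverse. -/
theorem result {G : Type*} [Group G] [Finite G] [IsSimpleGroup G] (h : Nat.card G = 168) : Nat.card {g : G // orderOf g = 3} = 56 ∧ (∀ s t : G, orderOf s = 3 → orderOf t = 3 → IsConj s t) ∧ Nat.card {g : G // orderOf g = 4} = 42 ∧ (∀ s t : G, orderOf s = 4 → orderOf t = 4 → IsConj s t) ∧ Nat.card {g : G // orderOf g = 7} = 48 ∧ ∀ x : G, orderOf x = 7 → Nat.card {g : G // IsConj x g} = 24 ∧ ¬ IsConj x x⁻¹ := by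
  obtain ⟨φ, eI, hinj, hφ⟩ := model h
  have hord : ∀ g, orderOf (φ g) = orderOf g := orderOf_injective φ hinj
  refine ⟨?_, ?_, ?_, ?_, ?_, ?_⟩
  · have e1 : {g : G // orderOf g = 3} ≃ {x : I // (w x) ^ 3 = 1 ∧ w x ≠ 1} :=
      eI.subtypeEquiv (fun g => by
        rw [← hord g, hφ g]
        exact orderOf_eq_prime_iff)
    rw [Nat.card_congr e1, Nat.card_eq_fintype_card]
    exact count3
  · have key : ∀ a : G, orderOf a = 3 → IsConj (eI.symm (Sum.inl (0, 1))) a := by
      intro a ha
      rw [← hord a, hφ a, orderOf_eq_prime_iff] at ha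
      obtain ⟨l, hl⟩ := conj3 (eI a) ha.1 ha.2
      exact isConj_of_model φ eI hinj hφ _ a l hl
    intro s t hs ht
    exact (key s hs).symm.trans (key t ht)
  · have e1 : {g : G // orderOf g = 4} ≃ {x : I // (w x) ^ 4 = 1 ∧ (w x) ^ 2 ≠ 1} :=
      eI.subtypeEquiv (fun g => by
        rw [← hord g, hφ g]
        exact orderOf_eq_four_iff _)
    rw [Nat.card_congr e1, Nat.card_eq_fintype_card]
    exact count4
  · have key : ∀ a : G, orderOf a = 4 → IsConj (eI.symm (Sum.inr (0, 1, 2))) a := by
      intro a ha
      rw [← hord a, hφ a, orderOf_eq_four_iff] at ha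
      obtain ⟨l, hl⟩ := conj4 (eI a) ha.1 ha.2
      exact isConj_of_model φ eI hinj hφ _ a l hl
    intro s t hs ht
    exact (key s hs).symm.trans (key t ht)
  · have e1 : {g : G // orderOf g = 7} ≃ {x : I // (w x) ^ 7 = 1 ∧ w x ≠ 1} :=
      eI.subtypeEquiv (fun g => by
        rw [← hord g, hφ g]
        exact orderOf_eq_prime_iff)
    rw [Nat.card_congr e1, Nat.card_eq_fintype_card]
    exact count7
  · intro x hx
    obtain ⟨u0, hu0⟩ : ∃ u0 : G, u0 = eI.symm (Sum.inl (1, 0)) := ⟨_, rfl⟩
    have hu0I : eI u0 = Sum.inl (1, 0) := by rw [hu0, Equiv.apply_symm_apply]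
    have hu0inv : eI u0⁻¹ = Sum.inl (6, 0) := by
      apply w_injective
      rw [← hφ, map_inv, hφ, hu0I, w_inv]
    have hu0inv' : u0⁻¹ = eI.symm (Sum.inl (6, 0)) := by
      rw [← hu0inv, Equiv.symm_apply_apply]
    have hnc : ¬ IsConj u0 u0⁻¹ := by
      intro hc
      obtain ⟨l, hl⟩ := model_of_isConj φ eI hinj hφ _ _ hc
      rw [hu0I, hu0inv] at hl
      exact nconj7 l hl
    have hcardA : Nat.card {g : G // IsConj u0 g} = 24 := by
      have e1 : {g : G // IsConj u0 g} ≃
          {y : I // ∃ l : I, w l * w (Sum.inl (1, 0)) = w y * w l} :=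
        eI.subtypeEquiv (fun g => by
          constructor
          · intro hc
            have := model_of_isConj φ eI hinj hφ _ _ hc
            rw [hu0I] at this
            exact this
          · rintro ⟨l, hl⟩
            rw [hu0]
            exact isConj_of_model φ eI hinj hφ _ g l hl)
      rw [Nat.card_congr e1, Nat.card_eq_fintype_card]
      exact class7a
    have hcardB : Nat.card {g : G // IsConj u0⁻¹ g} = 24 := by
      have e1 : {g : G // IsConj u0⁻¹ g} ≃
          {y : I // ∃ l : I, w l * w (Sum.inl (6, 0)) = w y * w l} :=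
        eI.subtypeEquiv (fun g => by
          constructor
          · intro hc
            have := model_of_isConj φ eI hinj hφ _ _ hc
            rw [hu0inv] at this
            exact this
          · rintro ⟨l, hl⟩
            rw [hu0inv']
            exact isConj_of_model φ eI hinj hφ _ g l hl)
      rw [Nat.card_congr e1, Nat.card_eq_fintype_card]
      exact class7b
    have hinvc : ∀ a b : G, IsConj a b → IsConj a⁻¹ b⁻¹ := by
      intro a b hab
      rw [isConj_iff] at hab ⊢
      obtain ⟨c, hc⟩ := hab
      refine ⟨c, ?_⟩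
      rw [← hc]
      group
    have hx' := hx
    rw [← hord x, hφ x, orderOf_eq_prime_iff] at hx'
    rcases conj7 (eI x) hx'.1 hx'.2 with ⟨l, hl⟩ | ⟨l, hl⟩
    · have hc : IsConj u0 x := by
        rw [hu0]
        exact isConj_of_model φ eI hinj hφ _ x l hl
      constructor
      · have e2 : {g : G // IsConj x g} ≃ {g : G // IsConj u0 g} :=
          Equiv.subtypeEquivRight (fun g =>
            ⟨fun hg => hc.trans hg, fun hg => hc.symm.trans hg⟩)
        rw [Nat.card_congr e2, hcardA]
      · intro hxx
        apply hnc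
        have h1 := hinvc _ _ hc
        exact (hc.trans hxx).trans h1.symm
    · have hc : IsConj u0⁻¹ x := by
        rw [hu0inv']
        exact isConj_of_model φ eI hinj hφ _ x l hl
      constructor
      · have e2 : {g : G // IsConj x g} ≃ {g : G // IsConj u0⁻¹ g} :=
          Equiv.subtypeEquivRight (fun g =>
            ⟨fun hg => hc.trans hg, fun hg => hc.symm.trans hg⟩)
        rw [Nat.card_congr e2, hcardB]
      · intro hxx
        apply hnc
        have h1 := hinvc _ _ hc
        rw [inv_inv] at h1
        exact (h1.trans hxx.symm).trans hc.symm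

end Cfsg.Agent.S1006
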