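import Cfsg.Statements.S1007
import Mathlib
import Cfsg.Agent.S1004
import Cfsg.Agent.S1005
import Cfsg.Agent.S1012
import Cfsg.Agent.Lib.Lead.KleinDih
import Cfsg.Agent.Lib.Lead.KleinDih3

set_option autoImplicit false
open Cfsg

namespace Cfsg.Agent.S1007

open Cfsg.Agent.Lib.Helper1 Cfsg.Agent.Lib.Helper7 Cfsg.Agent.Lib.Helper4 Cfsg.Agent.S1003
  Cfsg.Agent.Lib.Helper6.Simple168 Cfsg.Agent.Lib.Lead.KleinDih
open DihedralGroup

theorem d8_center : ∀ x : DihedralGroup 4, (∀ y : DihedralGroup 4, x * y = y * x) →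
    x = 1 ∨ x = r 2 := by decide
theorem d8_r2_central : ∀ y : DihedralGroup 4, r 2 * y = y * r 2 := by decide
theorem d8_facts : (r 2 : DihedralGroup 4) * r 2 = 1 ∧ (sr 0 : DihedralGroup 4) * sr 0 = 1 ∧
    (sr 1 : DihedralGroup 4) * sr 1 = 1 ∧
    (r 2 : DihedralGroup 4) ≠ 1 ∧ (sr 0 : DihedralGroup 4) ≠ 1 ∧ (sr 1 : DihedralGroup 4) ≠ 1 ∧
    (r 2 : DihedralGroup 4) ≠ sr 0 ∧ (r 2 : DihedralGroup 4) ≠ sr 1 ∧
    (sr 0 : DihedralGroup 4) ≠ r 2 ∧ (sr 0 : DihedralGroup 4) ≠ sr 1 ∧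
    (sr 0 : DihedralGroup 4) ≠ r 2 * sr 1 := by decide
theorem d8_klein : ∀ x y : DihedralGroup 4, x ≠ 1 → y ≠ 1 → x ≠ y → x * x = 1 → y * y = 1 →
    x * y = y * x →
    ((x = r 2 ∨ x = sr 0 ∨ x = r 2 * sr 0) ∧ (y = r 2 ∨ y = sr 0 ∨ y = r 2 * sr 0)) ∨
    ((x = r 2 ∨ x = sr 1 ∨ x = r 2 * sr 1) ∧ (y = r 2 ∨ y = sr 1 ∨ y = r 2 * sr 1)) := by
  decide

section gen
variable {G : Type*} [Group G] [Finite G]

theorem klein_card (U : Subgroup G) [IsKleinFour ↥U] : Nat.card U = 4 := IsKleinFour.card_four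

theorem index2_normal (U T : Subgroup G) (hUT : U ≤ T)
    (hc : Nat.card T = 2 * Nat.card U) : ∀ t ∈ T, ∀ u ∈ U, t * u * t⁻¹ ∈ U := by
  have h1 : Nat.card (U.subgroupOf T) = Nat.card U :=
    Nat.card_congr (Subgroup.subgroupOfEquivOfLe hUT).toEquiv
  have h2 := Subgroup.card_mul_index (U.subgroupOf T)
  rw [h1, hc] at h2
  have hpos : 0 < Nat.card U := Nat.card_pos
  have h3 : (U.subgroupOf T).index = 2 := by
    have h4 : Nat.card U * (U.subgroupOf T).index = Nat.card U * 2 := by rw [h2]; ring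
    exact Nat.eq_of_mul_eq_mul_left hpos h4
  haveI hn : (U.subgroupOf T).Normal := Subgroup.normal_of_index_eq_two h3
  intro t ht u hu
  have h4 := hn.conj_mem ⟨u, hUT hu⟩ (by rw [Subgroup.mem_subgroupOf]; exact hu) ⟨t, ht⟩
  rw [Subgroup.mem_subgroupOf] at h4
  simpa using h4

theorem sylow_conj_in {p : ℕ} [Fact p.Prime] (N : Subgroup G) (T₁ T₂ : Sylow p G)
    (h₁ : (T₁ : Subgroup G) ≤ N) (h₂ : (T₂ : Subgroup G) ≤ N) :
    ∃ n ∈ N, ∀ x ∈ (T₁ : Subgroup G), n⁻¹ * x * n ∈ (T₂ : Subgroup G) := by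
  obtain ⟨n, hn⟩ := MulAction.exists_smul_eq ↥N (T₂.subtype h₂) (T₁.subtype h₁)
  refine ⟨(n : G), n.2, ?_⟩
  intro x hx
  have h1 : (⟨x, h₁ hx⟩ : ↥N) ∈ ((T₁.subtype h₁ : Sylow p ↥N) : Subgroup ↥N) := by
    rw [Sylow.coe_subtype, Subgroup.mem_subgroupOf]; exact hx
  rw [← hn, mem_smul_sylow, Sylow.coe_subtype, Subgroup.mem_subgroupOf] at h1
  simpa using h1

theorem klein_le (U V : Subgroup G) [IsKleinFour ↥U] {a b : G} (ha : a ∈ U) (hb : b ∈ U)
    (ha1 : a ≠ 1) (hb1 : b ≠ 1) (hab : a ≠ b) (haV : a ∈ V) (hbV : b ∈ V) : U ≤ V := by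
  intro u hu
  rcases klein_cases U ha hb ha1 hb1 hab u hu with h | h | h | h
  · rw [h]; exact Subgroup.one_mem _
  · rw [h]; exact haV
  · rw [h]; exact hbV
  · rw [h]; exact Subgroup.mul_mem _ haV hbV

end gen

section main
variable {G : Type*} [Group G] [Finite G] [IsSimpleGroup G]

theorem not_conj (h : Nat.card G = 168) (T : Sylow 2 G) (U W : Subgroup G)
    (hU : U ≤ (T : Subgroup G)) (hW : W ≤ (T : Subgroup G))
    [IsKleinFour ↥U] [IsKleinFour ↥W] (g : G)
    (hg : U.map (MulAut.conj g).toMonoidHom = W) : U = W := by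
  have hTc := card2 h T
  have hUn := index2_normal U T hU (by rw [hTc, klein_card U])
  have hWn := index2_normal W T hW (by rw [hTc, klein_card W])
  have hgU : ∀ u ∈ U, g * u * g⁻¹ ∈ W := by
    intro u hu
    rw [← hg]
    exact ⟨u, hu, by simp [MulAut.conj_apply]⟩
  have h1 : (T : Subgroup G) ≤ Subgroup.normalizer (W : Set G) := by
    intro t ht
    apply Subgroup.mem_normalizer_fintype
    intro w hw
    exact hWn t ht w hw
  have h2 : ((g • T : Sylow 2 G) : Subgroup G) ≤ Subgroup.normalizer (W : Set G) := by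
    intro y hy
    rw [mem_smul_sylow] at hy
    apply Subgroup.mem_normalizer_fintype
    intro w hw
    have hw' : w ∈ W := hw
    rw [← hg] at hw'
    obtain ⟨u, hu, rfl⟩ := hw'
    have h3 := hgU _ (hUn _ hy u hu)
    have e : g * (g⁻¹ * y * g * u * (g⁻¹ * y * g)⁻¹) * g⁻¹ =
        y * (MulAut.conj g).toMonoidHom u * y⁻¹ := by
      simp only [MulEquiv.coe_toMonoidHom, MulAut.conj_apply]
      group
    rw [← e]
    exact h3
  obtain ⟨n, hnN, hn⟩ := sylow_conj_in (Subgroup.normalizer (W : Set G)) T (g • T) h1 h2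
  have hm : (n * g)⁻¹ ∈ (T : Subgroup G) := by
    have h3 : (n * g)⁻¹ ∈ Subgroup.normalizer ((T : Subgroup G) : Set G) := by
      apply Subgroup.mem_normalizer_fintype
      intro x hx
      have h4 := hn x hx
      rw [mem_smul_sylow] at h4
      have e : g⁻¹ * (n⁻¹ * x * n) * g = (n * g)⁻¹ * x * ((n * g)⁻¹)⁻¹ := by group
      rw [← e]
      exact h4
    rw [N2 h T] at h3
    exact h3
  have hle : U ≤ W := by
    intro u hu
    have h3 : (n * g)⁻¹ * u * ((n * g)⁻¹)⁻¹ ∈ U := hUn _ hm u hu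
    have h4 := hgU _ h3
    have h5 := (Subgroup.mem_normalizer_iff.mp hnN _).mp h4
    have e : n * (g * ((n * g)⁻¹ * u * ((n * g)⁻¹)⁻¹) * g⁻¹) * n⁻¹ = u := by group
    rwa [e] at h5
  exact Subgroup.eq_of_le_of_card_ge hle (by rw [klein_card U, klein_card W])

theorem norm_klein (h : Nat.card G = 168) (U : Subgroup G) [IsKleinFour ↥U] :
    Nonempty (↥(Subgroup.normalizer (U : Set G)) ≃* Equiv.Perm (Fin 4)) := by
  have hUc := klein_card U
  have hpg : IsPGroup 2 U := IsPGroup.of_card (n := 2) (by rw [hUc]; norm_num)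
  obtain ⟨T', hUT'⟩ := hpg.exists_le_sylow
  obtain ⟨e⟩ := (Cfsg.Agent.S1004.result h T').1
  have hT'c := card2 h T'
  have hUn := index2_normal U T' hUT' (by rw [hT'c, hUc])
  have hT'N : (T' : Subgroup G) ≤ Subgroup.normalizer (U : Set G) := by
    intro t ht
    apply Subgroup.mem_normalizer_fintype
    intro u hu
    exact hUn t ht u hu
  obtain ⟨z', hz'⟩ : ∃ z' : G, z' = ((e.symm (r 2) : ↥(T' : Subgroup G)) : G) := ⟨_, rfl⟩
  have hz'T : z' ∈ (T' : Subgroup G) := by rw [hz']; exact (e.symm (r 2)).2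
  have hz'c : ∀ t ∈ (T' : Subgroup G), t * z' = z' * t := by
    intro t ht
    have h1 : (⟨t, ht⟩ : ↥(T' : Subgroup G)) * e.symm (r 2) = e.symm (r 2) * ⟨t, ht⟩ := by
      apply e.injective
      rw [map_mul, map_mul, e.apply_symm_apply]
      exact (d8_r2_central (e ⟨t, ht⟩)).symm
    rw [hz']
    exact congrArg Subtype.val h1
  have hz'sq : z' * z' = 1 := by
    have h1 : (e.symm (r 2) : ↥(T' : Subgroup G)) * e.symm (r 2) = 1 := by
      rw [← map_mul, d8_facts.1, map_one]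
    rw [hz']
    exact congrArg Subtype.val h1
  have hz'1 : z' ≠ 1 := by
    intro h1
    rw [hz'] at h1
    have h2 : (e.symm (r 2) : ↥(T' : Subgroup G)) = 1 := Subtype.ext h1
    have h3 := congrArg e h2
    rw [e.apply_symm_apply, map_one] at h3
    exact d8_facts.2.2.2.1 h3
  have hz'2 : orderOf z' = 2 := orderOf_eq_prime (by rw [pow_two]; exact hz'sq) hz'1
  obtain ⟨a, haU, ha1, hanc⟩ : ∃ a ∈ U, a ≠ 1 ∧ ¬ ∀ t ∈ (T' : Subgroup G), t * a = a * t := by
    obtain ⟨a, ha, b, hb, ha1, hb1, hab⟩ := klein_two U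
    by_contra hcon
    push Not at hcon
    have hcen : ∀ x (hx : x ∈ U), x ≠ 1 → e ⟨x, hUT' hx⟩ = r 2 := by
      intro x hx hx1
      have h1 : ∀ y : DihedralGroup 4, e ⟨x, hUT' hx⟩ * y = y * e ⟨x, hUT' hx⟩ := by
        intro y
        obtain ⟨t, rfl⟩ := e.surjective y
        rw [← map_mul, ← map_mul]
        congr 1
        apply Subtype.ext
        exact (hcon x hx hx1 t t.2).symm
      rcases d8_center _ h1 with h2 | h2
      · exfalso
        apply hx1
        have h3 : (⟨x, hUT' hx⟩ : ↥(T' : Subgroup G)) = 1 := by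
          apply e.injective
          rw [h2, map_one]
        exact congrArg Subtype.val h3
      · exact h2
    apply hab
    have h1 := hcen a ha ha1
    have h2 := hcen b hb hb1
    have h3 : (⟨a, hUT' ha⟩ : ↥(T' : Subgroup G)) = ⟨b, hUT' hb⟩ :=
      e.injective (h1.trans h2.symm)
    exact congrArg Subtype.val h3
  have ha2 : orderOf a = 2 :=
    orderOf_eq_prime (by rw [pow_two]; exact klein_sq U a haU) ha1
  obtain ⟨g, hg⟩ := isConj_iff.mp ((Cfsg.Agent.S1005.result h).2.2 z' a hz'2 ha2)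
  have haTa : a ∈ ((g • T' : Sylow 2 G) : Subgroup G) := by
    rw [mem_smul_sylow, ← hg]
    have e1 : g⁻¹ * (g * z' * g⁻¹) * g = z' := by group
    rw [e1]
    exact hz'T
  have hacen : ∀ t ∈ ((g • T' : Sylow 2 G) : Subgroup G), t * a = a * t := by
    intro t ht
    rw [mem_smul_sylow] at ht
    have h1 := hz'c _ ht
    rw [← hg]
    calc t * (g * z' * g⁻¹) = g * (g⁻¹ * t * g * z') * g⁻¹ := by group
      _ = g * (z' * (g⁻¹ * t * g)) * g⁻¹ := by rw [h1]
      _ = g * z' * g⁻¹ * t := by group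
  have hCa := cent_invol h (g • T') haTa ha1 hacen
  have hUTa : U ≤ ((g • T' : Sylow 2 G) : Subgroup G) := by
    rw [← hCa]
    intro u hu
    rw [Subgroup.mem_centralizer_iff]
    intro y hy
    rw [Set.mem_singleton_iff] at hy
    rw [hy]
    exact klein_comm U a u haU hu
  have hTaN : ((g • T' : Sylow 2 G) : Subgroup G) ≤ Subgroup.normalizer (U : Set G) := by
    have hn := index2_normal U _ hUTa (by rw [card2 h (g • T'), hUc])
    intro t ht
    apply Subgroup.mem_normalizer_fintype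
    intro u hu
    exact hn t ht u hu
  have hne : ((g • T' : Sylow 2 G) : Subgroup G) ≠ (T' : Subgroup G) := by
    intro heq
    apply hanc
    intro t ht
    exact hacen t (by rw [heq]; exact ht)
  have h8 : 8 ∣ Nat.card (Subgroup.normalizer (U : Set G)) := by
    have h1 := Subgroup.card_dvd_of_le hT'N
    rwa [hT'c] at h1
  have h168 : Nat.card (Subgroup.normalizer (U : Set G)) ∣ 168 := by
    rw [← h]
    exact Subgroup.card_subgroup_dvd_card _
  obtain ⟨m, hm⟩ := h8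
  have hm21 : m ∣ 21 := by
    have e1 : (168 : ℕ) = 8 * 21 := by norm_num
    rw [hm, e1] at h168
    exact Nat.dvd_of_mul_dvd_mul_left (by norm_num) h168
  have hm1 : m ≠ 1 := by
    intro h1
    rw [h1] at hm
    have e1 : (T' : Subgroup G) = Subgroup.normalizer (U : Set G) :=
      Subgroup.eq_of_le_of_card_ge hT'N (by rw [hm, hT'c])
    have e2 : ((g • T' : Sylow 2 G) : Subgroup G) = Subgroup.normalizer (U : Set G) :=
      Subgroup.eq_of_le_of_card_ge hTaN (by rw [hm, card2 h (g • T')])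
    exact hne (e2.trans e1.symm)
  have hm7 : m ≠ 7 := by
    intro h1
    rw [h1] at hm
    have hidx : (Subgroup.normalizer (U : Set G)).index = 3 := by
      have h2 := Subgroup.card_mul_index (Subgroup.normalizer (U : Set G))
      rw [hm, h] at h2
      omega
    have hne' : Subgroup.normalizer (U : Set G) ≠ ⊤ := by
      intro htop
      rw [htop, Subgroup.index_top] at hidx
      omega
    have h6 := card_dvd_factorial_index_of_simple _ hne'
    rw [hidx, h] at h6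
    revert h6
    decide
  have hm21' : m ≠ 21 := by
    intro h1
    rw [h1] at hm
    have htop : Subgroup.normalizer (U : Set G) = ⊤ :=
      Subgroup.eq_top_of_card_eq _ (by rw [hm, h])
    have hnorm : U.Normal := Subgroup.normalizer_eq_top_iff.mp htop
    rcases hnorm.eq_bot_or_eq_top with h0 | h0
    · rw [h0, Subgroup.card_bot] at hUc; omega
    · rw [h0, Subgroup.card_top, h] at hUc; omega
  have hle := Nat.le_of_dvd (by norm_num) hm21
  have hm3 : m = 3 := by
    interval_cases m <;> omega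
  rw [hm3] at hm
  apply Cfsg.Agent.S1012.result (by rw [hm])
  intro x hx
  have h1 := (Cfsg.Agent.S1005.result h).1 (x : G)
  rw [Subgroup.orderOf_coe, hx] at h1
  omega

theorem klein_count (h : Nat.card G = 168) (T : Sylow 2 G) :
    Nat.card {U : Subgroup G // U ≤ (T : Subgroup G) ∧ IsKleinFour ↥U} = 2 := by
  obtain ⟨e⟩ := (Cfsg.Agent.S1004.result h T).1
  obtain ⟨ι, hι⟩ : ∃ ι : DihedralGroup 4 →* G,
      ι = (T : Subgroup G).subtype.comp e.symm.toMonoidHom := ⟨_, rfl⟩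
  have hιinj : Function.Injective ι := by
    rw [hι]
    intro x y hxy
    exact e.symm.injective (Subtype.ext hxy)
  have hιT : ∀ d, ι d ∈ (T : Subgroup G) := by
    intro d
    rw [hι]
    exact (e.symm d).2
  have hιe : ∀ x (hx : x ∈ (T : Subgroup G)), ι (e ⟨x, hx⟩) = x := by
    intro x hx
    rw [hι]
    simp
  have hz2 : ι (r 2) * ι (r 2) = 1 := by rw [← map_mul, d8_facts.1, map_one]
  have hb02 : ι (sr 0) * ι (sr 0) = 1 := by rw [← map_mul, d8_facts.2.1, map_one]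
  have hb12 : ι (sr 1) * ι (sr 1) = 1 := by rw [← map_mul, d8_facts.2.2.1, map_one]
  have hne1 : ∀ d : DihedralGroup 4, d ≠ 1 → ι d ≠ 1 := by
    intro d hd h1
    apply hd
    apply hιinj
    rw [h1, map_one]
  have hc0 : ι (r 2) * ι (sr 0) = ι (sr 0) * ι (r 2) := by
    rw [← map_mul, ← map_mul, d8_r2_central]
  have hc1 : ι (r 2) * ι (sr 1) = ι (sr 1) * ι (r 2) := by
    rw [← map_mul, ← map_mul, d8_r2_central]
  obtain ⟨U₁, hK₁, hU₁⟩ := klein_mk (ι (r 2)) (ι (sr 0)) hz2 hb02 hc0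
    (hne1 _ d8_facts.2.2.2.1) (hne1 _ d8_facts.2.2.2.2.1)
    (fun h1 => d8_facts.2.2.2.2.2.2.1 (hιinj h1))
  obtain ⟨U₂, hK₂, hU₂⟩ := klein_mk (ι (r 2)) (ι (sr 1)) hz2 hb12 hc1
    (hne1 _ d8_facts.2.2.2.1) (hne1 _ d8_facts.2.2.2.2.2.1)
    (fun h1 => d8_facts.2.2.2.2.2.2.2.1 (hιinj h1))
  have hU₁T : U₁ ≤ (T : Subgroup G) := by
    intro x hx
    rcases (hU₁ x).mp hx with h1 | h1 | h1 | h1
    · rw [h1]; exact Subgroup.one_mem _
    · rw [h1]; exact hιT _
    · rw [h1]; exact hιT _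
    · rw [h1]; exact Subgroup.mul_mem _ (hιT _) (hιT _)
  have hU₂T : U₂ ≤ (T : Subgroup G) := by
    intro x hx
    rcases (hU₂ x).mp hx with h1 | h1 | h1 | h1
    · rw [h1]; exact Subgroup.one_mem _
    · rw [h1]; exact hιT _
    · rw [h1]; exact hιT _
    · rw [h1]; exact Subgroup.mul_mem _ (hιT _) (hιT _)
  have hne12 : U₁ ≠ U₂ := by
    intro heq
    have h1 : ι (sr 0) ∈ U₁ := (hU₁ _).mpr (Or.inr (Or.inr (Or.inl rfl)))
    rw [heq] at h1
    rcases (hU₂ _).mp h1 with h2 | h2 | h2 | h2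
    · exact hne1 _ d8_facts.2.2.2.2.1 h2
    · exact d8_facts.2.2.2.2.2.2.2.2.1 (hιinj h2)
    · exact d8_facts.2.2.2.2.2.2.2.2.2.1 (hιinj h2)
    · rw [← map_mul] at h2
      exact d8_facts.2.2.2.2.2.2.2.2.2.2 (hιinj h2)
  have hclass : ∀ U : Subgroup G, U ≤ (T : Subgroup G) → IsKleinFour ↥U → U = U₁ ∨ U = U₂ := by
    intro U hUT hK
    haveI := hK
    obtain ⟨a, ha, b, hb, ha1, hb1, hab⟩ := klein_two U
    have hxa := hιe a (hUT ha)
    have hyb := hιe b (hUT hb)
    obtain ⟨x, hx⟩ : ∃ x, x = e ⟨a, hUT ha⟩ := ⟨_, rfl⟩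
    obtain ⟨y, hy⟩ : ∃ y, y = e ⟨b, hUT hb⟩ := ⟨_, rfl⟩
    rw [← hx] at hxa
    rw [← hy] at hyb
    have hx1 : x ≠ 1 := by
      intro h1; apply ha1; rw [← hxa, h1, map_one]
    have hy1 : y ≠ 1 := by
      intro h1; apply hb1; rw [← hyb, h1, map_one]
    have hxy : x ≠ y := by
      intro h1; apply hab; rw [← hxa, ← hyb, h1]
    have hxx : x * x = 1 := by
      apply hιinj
      rw [map_mul, hxa, map_one]
      exact klein_sq U a ha
    have hyy : y * y = 1 := by
      apply hιinj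
      rw [map_mul, hyb, map_one]
      exact klein_sq U b hb
    have hcomm : x * y = y * x := by
      apply hιinj
      rw [map_mul, map_mul, hxa, hyb]
      exact klein_comm U a b ha hb
    have hmem₁ : ∀ d : DihedralGroup 4, (d = r 2 ∨ d = sr 0 ∨ d = r 2 * sr 0) → ι d ∈ U₁ := by
      intro d hd
      rcases hd with h1 | h1 | h1
      · rw [h1]; exact (hU₁ _).mpr (Or.inr (Or.inl rfl))
      · rw [h1]; exact (hU₁ _).mpr (Or.inr (Or.inr (Or.inl rfl)))
      · rw [h1, map_mul]; exact (hU₁ _).mpr (Or.inr (Or.inr (Or.inr rfl)))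
    have hmem₂ : ∀ d : DihedralGroup 4, (d = r 2 ∨ d = sr 1 ∨ d = r 2 * sr 1) → ι d ∈ U₂ := by
      intro d hd
      rcases hd with h1 | h1 | h1
      · rw [h1]; exact (hU₂ _).mpr (Or.inr (Or.inl rfl))
      · rw [h1]; exact (hU₂ _).mpr (Or.inr (Or.inr (Or.inl rfl)))
      · rw [h1, map_mul]; exact (hU₂ _).mpr (Or.inr (Or.inr (Or.inr rfl)))
    rcases d8_klein x y hx1 hy1 hxy hxx hyy hcomm with ⟨h1, h2⟩ | ⟨h1, h2⟩
    · left
      have haV : a ∈ U₁ := by rw [← hxa]; exact hmem₁ x h1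
      have hbV : b ∈ U₁ := by rw [← hyb]; exact hmem₁ y h2
      haveI := hK₁
      exact Subgroup.eq_of_le_of_card_ge (klein_le U U₁ ha hb ha1 hb1 hab haV hbV)
        (by rw [klein_card U, klein_card U₁])
    · right
      have haV : a ∈ U₂ := by rw [← hxa]; exact hmem₂ x h1
      have hbV : b ∈ U₂ := by rw [← hyb]; exact hmem₂ y h2
      haveI := hK₂
      exact Subgroup.eq_of_le_of_card_ge (klein_le U U₂ ha hb ha1 hb1 hab haV hbV)
        (by rw [klein_card U, klein_card U₂])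
  rw [Nat.card_eq_two_iff]
  refine ⟨⟨U₁, hU₁T, hK₁⟩, ⟨U₂, hU₂T, hK₂⟩, ?_, ?_⟩
  · intro heq
    exact hne12 (congrArg Subtype.val heq)
  · apply Set.eq_univ_of_forall
    rintro ⟨U, hUT, hK⟩
    rcases hclass U hUT hK with h1 | h1
    · left; exact Subtype.ext h1
    · right; exact Subtype.ext h1

theorem main1007 (h : Nat.card G = 168) (T : Sylow 2 G) :
    Nat.card {U : Subgroup G // U ≤ (T : Subgroup G) ∧ IsKleinFour ↥U} = 2 ∧
    (∀ U W : Subgroup G, U ≤ (T : Subgroup G) → W ≤ (T : Subgroup G) → IsKleinFour ↥U →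
      IsKleinFour ↥W → U ≠ W → ∀ g : G, U.map (MulAut.conj g).toMonoidHom ≠ W) ∧
    ∀ U : Subgroup G, IsKleinFour ↥U →
      Nonempty (↥(Subgroup.normalizer (U : Set G)) ≃* Equiv.Perm (Fin 4)) := by
  refine ⟨klein_count h T, ?_, ?_⟩
  · intro U W hU hW hKU hKW hne g hg
    haveI := hKU
    haveI := hKW
    exact hne (not_conj h T U W hU hW g hg)
  · intro U hKU
    haveI := hKU
    exact norm_klein h U

end main


/-- Let G be a simple group of order 168 and T a Sylow 2-subgroup. Then T contains exactly two subgroups that are Klein four-groups; they are not conjugate in G; and the normalizer of every Klein four-subgroup of G is isomorphic to the symmetric group of degree 4. -/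
theorem result {G : Type*} [Group G] [Finite G] [IsSimpleGroup G] (h : Nat.card G = 168) (T : Sylow 2 G) : Nat.card {U : Subgroup G // U ≤ (T : Subgroup G) ∧ IsKleinFour ↥U} = 2 ∧ (∀ U W : Subgroup G, U ≤ (T : Subgroup G) → W ≤ (T : Subgroup G) → IsKleinFour ↥U → IsKleinFour ↥W → U ≠ W → ∀ g : G, U.map (MulAut.conj g).toMonoidHom ≠ W) ∧ ∀ U : Subgroup G, IsKleinFour ↥U → Nonempty (↥(Subgroup.normalizer (U : Set G)) ≃* Equiv.Perm (Fin 4)) := by
  exact main1007 h T

end Cfsg.Agent.S1007
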