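import Cfsg.Statements.S1009
import Cfsg.Agent.Lib.Helper3.SylowAux

set_option autoImplicit false
open Cfsg

namespace Cfsg.Agent.S1009

open scoped Pointwise

/-- Brodkey's Theorem: if a finite group has abelian Sylow p-subgroups, then there are two Sylow p-subgroups whose intersection equals the intersection of all Sylow p-subgroups. -/
theorem result {G : Type*} [Group G] [Finite G] (p : ℕ) [Fact p.Prime] (hab : ∀ P : Sylow p G, IsMulCommutative ↥(P : Subgroup G)) : ∃ P Q : Sylow p G, (P : Subgroup G) ⊓ (Q : Subgroup G) = ⨅ R : Sylow p G, (R : Subgroup G) := by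
  classical
  obtain ⟨⟨P, Q⟩, hmin⟩ := Finite.exists_min (fun PQ : Sylow p G × Sylow p G =>
    Nat.card ((PQ.1 : Subgroup G) ⊓ (PQ.2 : Subgroup G) : Subgroup G))
  refine ⟨P, Q, le_antisymm ?_ ?_⟩
  swap
  · exact le_inf (iInf_le _ P) (iInf_le _ Q)
  -- D = P ⊓ Q, N = normalizer D
  obtain ⟨D, hD⟩ : ∃ D : Subgroup G, D = (P : Subgroup G) ⊓ (Q : Subgroup G) := ⟨_, rfl⟩
  rw [← hD]
  have hDP : D ≤ (P : Subgroup G) := hD ▸ inf_le_left
  have hDQ : D ≤ (Q : Subgroup G) := hD ▸ inf_le_right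
  have hnorm : ∀ S : Sylow p G, D ≤ (S : Subgroup G) → (S : Subgroup G) ≤ Subgroup.normalizer (D : Set G) := by
    intro S hDS
    have hS := hab S
    intro x hx
    rw [Subgroup.mem_normalizer_iff]
    have hcomm : ∀ y ∈ (S : Subgroup G), ∀ d ∈ D, y * d * y⁻¹ = d := by
      intro y hy d hd
      have h1 : y * d = d * y := by
        have := hS.is_comm.comm ⟨y, hy⟩ ⟨d, hDS hd⟩
        exact congrArg Subtype.val this
      rw [h1]; group
    intro d
    constructor
    · intro hd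
      rw [hcomm x hx d hd]; exact hd
    · intro hd
      have := hcomm x⁻¹ ((S : Subgroup G).inv_mem hx) _ hd
      have h2 : x⁻¹ * (x * d * x⁻¹) * x⁻¹⁻¹ = d := by group
      rw [h2] at this
      rw [this]; exact hd
  have hPN := hnorm P hDP
  have hQN := hnorm Q hDQ
  rw [le_iInf_iff]
  intro R
  -- conjugate R ⊓ N into Q by c ∈ N
  obtain ⟨c, hcN, R', hR'N, hR'p, hQR', hBR'⟩ :=
    Cfsg.Agent.Lib.Helper3.exists_conj_le_common_pgroup (p := p) (Subgroup.normalizer (D : Set G))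
      (Q : Subgroup G) ((R : Subgroup G) ⊓ Subgroup.normalizer (D : Set G)) hQN inf_le_right
      Q.isPGroup' (R.isPGroup'.to_le inf_le_left)
  have hR'Q : R' = (Q : Subgroup G) := Q.is_maximal' hR'p hQR'
  rw [hR'Q] at hBR'
  -- P ⊓ (c • R) ≤ D
  have hle : (P : Subgroup G) ⊓ ((c • R : Sylow p G) : Subgroup G) ≤ D := by
    intro y hy
    obtain ⟨hyP, hyR⟩ := Subgroup.mem_inf.mp hy
    rw [Sylow.smul_def, Sylow.pointwise_smul_def, Subgroup.mem_pointwise_smul_iff_inv_smul_mem] at hyR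
    simp only [MulAut.smul_def, MulAut.conj_inv_apply] at hyR
    have hyN : y ∈ Subgroup.normalizer (D : Set G) := hPN hyP
    have hrN : c⁻¹ * y * c ∈ Subgroup.normalizer (D : Set G) :=
      Subgroup.mul_mem _ (Subgroup.mul_mem _ (Subgroup.inv_mem _ hcN) hyN) hcN
    have hmem : y ∈ ((R : Subgroup G) ⊓ Subgroup.normalizer (D : Set G)).map (MulAut.conj c).toMonoidHom := by
      refine ⟨c⁻¹ * y * c, ⟨hyR, hrN⟩, ?_⟩
      simp only [MulEquiv.coe_toMonoidHom, MulAut.conj_apply]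
      group
    rw [hD]
    exact ⟨hyP, hBR' hmem⟩
  have hcard : Nat.card D ≤ Nat.card ((P : Subgroup G) ⊓ ((c • R : Sylow p G) : Subgroup G) : Subgroup G) := by
    have := hmin (P, c • R)
    simp only at this
    rw [← hD] at this
    exact this
  have heq : (P : Subgroup G) ⊓ ((c • R : Sylow p G) : Subgroup G) = D :=
    Subgroup.eq_of_le_of_card_ge hle hcard
  intro d hd
  -- c d c⁻¹ ∈ D ≤ c • R
  have h1 : c * d * c⁻¹ ∈ D := ((Subgroup.mem_normalizer_iff.mp hcN) d).mp hd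
  have h2 : c * d * c⁻¹ ∈ ((c • R : Sylow p G) : Subgroup G) := by
    have : c * d * c⁻¹ ∈ (P : Subgroup G) ⊓ ((c • R : Sylow p G) : Subgroup G) := heq ▸ h1
    exact (Subgroup.mem_inf.mp this).2
  rw [Sylow.smul_def, Sylow.pointwise_smul_def, Subgroup.mem_pointwise_smul_iff_inv_smul_mem] at h2
  simp only [MulAut.smul_def, MulAut.conj_inv_apply] at h2
  have h3 : c⁻¹ * (c * d * c⁻¹) * c = d := by group
  rw [h3] at h2
  exact h2

end Cfsg.Agent.S1009
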