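import Mathlib
import Cfsg.Statements.S1010
import Cfsg.Agent.Lib.Helper7.Syl21Fin

set_option autoImplicit false
set_option maxHeartbeats 800000
open Cfsg

namespace Cfsg.Agent.S1010

open Cfsg.Agent.Lib.Helper7.Syl21 Cfsg.Agent.Lib.Helper7.SylTwoP Cfsg.Agent.Lib.Helper7.SylCyc

universe u

/-- a minimal counterexample (faithful, no proper normal subgroup containing a Sylow
`5`-subgroup) does not exist -/
theorem no_min21 (G : Type u) [Group G] [Finite G] [hp : Fact (Nat.Prime 5)]
    (hn : Nat.card (Sylow 5 G) = 21)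
    (hfaith : ∀ g : G, (∀ Q : Sylow 5 G, g • Q = Q) → g = 1)
    (hnn : ∀ (P : Sylow 5 G) (N : Subgroup G), N.Normal → (P : Subgroup G) ≤ N → N = ⊤) :
    False := by
  obtain ⟨P⟩ : Nonempty (Sylow 5 G) := inferInstance
  obtain ⟨a, ha⟩ := IsPGroup.iff_card.mp P.isPGroup'
  rcases a with _ | _ | a
  · exact sylow_card_ne_one hn (by norm_num) P (by simpa using ha)
  · have hcard : ∀ R : Sylow 5 G, Nat.card (R : Subgroup G) = 5 :=
      fun R => (card_sylow_eq P R).trans (by simpa using ha)
    exact no_hyp ⟨hn, hfaith, hnn, hcard⟩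
  · apply case_big hn hfaith P
    rw [ha]
    calc 25 = 5 ^ 2 := by norm_num
      _ ≤ 5 ^ (a + 1 + 1) := Nat.pow_le_pow_right (by norm_num) (by omega)

/-- No finite group has exactly twenty-one Sylow 5-subgroups. -/
theorem result {G : Type*} [Group G] [Finite G] : Nat.card (Sylow 5 G) ≠ 21 := by
  haveI : Fact (Nat.Prime 5) := ⟨by norm_num⟩
  exact card_sylow_ne_of_min (p := 5) (n := 21)
    (fun G _ _ hn hf hnn => no_min21 G hn hf hnn) _ G rfl

end Cfsg.Agent.S1010
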