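import Cfsg.Statements.S1013
import Cfsg.Agent.Lib.Helper2.BurnsideP
import Cfsg.Agent.Lib.Helper2.SymSylow
import Cfsg.Agent.Lib.Helper2.ClassCard

set_option autoImplicit false
set_option linter.style.haveILetI false
open Cfsg

namespace Cfsg.Agent.S1013

open Cfsg.Agent.Lib.Helper2
open scoped Pointwise

theorem trans_of_normal_ne_bot {α : Type*} (G : Subgroup (Equiv.Perm α))
    [MulAction.IsPreprimitive G α] (K : Subgroup G) [K.Normal] (hK : K ≠ ⊥) :
    MulAction.IsPretransitive K α := by
  have hNX : MulAction.fixedPoints K α ≠ Set.univ := by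
    intro h
    apply hK
    rw [Subgroup.eq_bot_iff_forall]
    intro k hk
    apply Subtype.ext
    ext b
    have : b ∈ MulAction.fixedPoints K α := by rw [h]; trivial
    exact this ⟨k, hk⟩
  exact MulAction.IsQuasiPreprimitive.isPretransitive_of_normal hNX

theorem dvd_card_of_trans {α : Type*} [Finite α] [Nonempty α] {K : Type*} [Group K] [MulAction K α]
    [MulAction.IsPretransitive K α] : Nat.card α ∣ Nat.card K := by
  obtain ⟨a⟩ := (inferInstance : Nonempty α)
  rw [← MulAction.index_stabilizer_of_transitive K a]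
  exact Subgroup.index_dvd_card _

/-- A transitive permutation group of prime degree `p` with more than one Sylow `p`-subgroup, whose Sylow `p`-subgroup has prime index in its normalizer, is simple. -/
theorem result {α : Type*} [Fintype α] [DecidableEq α] {p : ℕ} [Fact p.Prime] (hα : Fintype.card α = p) (G : Subgroup (Equiv.Perm α)) [MulAction.IsPretransitive ↥G α] (P : Sylow p ↥G) (hn : 1 < Nat.card (Sylow p ↥G)) (ht : (((P : Subgroup ↥G).subgroupOf (Subgroup.normalizer ((P : Subgroup ↥G) : Set ↥G))).index).Prime) : IsSimpleGroup ↥G := by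
  classical
  have hp : p.Prime := Fact.out
  have hα' : Nat.card α = p := by rw [Nat.card_eq_fintype_card, hα]
  haveI : Nonempty α := by
    rw [← Fintype.card_pos_iff, hα]; exact hp.pos
  haveI hprim : MulAction.IsPreprimitive G α :=
    MulAction.IsPreprimitive.of_prime_card (by rw [hα']; exact hp)
  have hG0 : Nat.card G ≠ 0 := Nat.card_pos.ne'
  have hGdvd : Nat.card G ∣ p.factorial := by
    have := Subgroup.card_subgroup_dvd_card G
    rwa [Nat.card_eq_fintype_card (α := Equiv.Perm α), Fintype.card_perm, hα] at this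
  have hfac : (Nat.card G).factorization p ≤ 1 := by
    have := (Nat.factorization_le_iff_dvd hG0 (Nat.factorial_ne_zero p)).2 hGdvd p
    rwa [factorization_factorial_prime p p (Or.inl rfl)] at this
  have hpG : p ∣ Nat.card G := by
    rw [← hα']; exact dvd_card_of_trans
  have hfac1 : (Nat.card G).factorization p = 1 :=
    le_antisymm hfac (hp.factorization_pos_of_dvd hG0 hpG)
  have hPcard : ∀ Q : Sylow p G, Nat.card (Q : Subgroup G) = p := by
    intro Q
    rw [Q.card_eq_multiplicity, hfac1, pow_one]
  have hp2 : ∀ K : Subgroup G, ¬ p ^ 2 ∣ Nat.card K := by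
    intro K h
    have h1 : p ^ 2 ∣ Nat.card G := h.trans (Subgroup.card_subgroup_dvd_card K)
    have := (hp.pow_dvd_iff_le_factorization hG0).1 h1
    omega
  haveI : Nontrivial G := by
    rw [← Finite.one_lt_card_iff_nontrivial]
    exact lt_of_lt_of_le hp.one_lt (Nat.le_of_dvd Nat.card_pos hpG)
  refine ⟨?_⟩
  intro K hKn
  by_cases hK1 : K = ⊥
  · exact Or.inl hK1
  right
  haveI := hKn
  haveI hKt : MulAction.IsPretransitive K α := trans_of_normal_ne_bot G K hK1
  have hpK : p ∣ Nat.card K := by
    rw [← hα']; exact dvd_card_of_trans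
  -- P ≤ K
  have hPK : (P : Subgroup G) ≤ K := by
    obtain ⟨x, hx⟩ := exists_prime_orderOf_dvd_card' p hpK
    have hxo : orderOf (x : G) = p := by rw [Subgroup.orderOf_coe, hx]
    have hzp : IsPGroup p (Subgroup.zpowers (x : G)) :=
      IsPGroup.of_card (n := 1) (by rw [Nat.card_zpowers, hxo, pow_one])
    obtain ⟨P', hP'⟩ := hzp.exists_le_sylow
    have heq : Subgroup.zpowers (x : G) = (P' : Subgroup G) := by
      apply Subgroup.eq_of_le_of_card_ge hP'
      rw [hPcard P', Nat.card_zpowers, hxo]
    have hP'K : (P' : Subgroup G) ≤ K := by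
      rw [← heq, Subgroup.zpowers_le]
      exact x.2
    obtain ⟨g, hg⟩ := MulAction.exists_smul_eq G P' P
    intro y hy
    rw [← hg, Sylow.coe_subgroup_smul, Subgroup.mem_pointwise_smul_iff_inv_smul_mem,
      MulAut.smul_def, ← map_inv, MulAut.conj_apply, inv_inv] at hy
    have h1 := hP'K hy
    have h2 := hKn.conj_mem _ h1 g
    have e : g * (g⁻¹ * y * g) * g⁻¹ = y := by group
    rwa [e] at h2
  set N := Subgroup.normalizer ((P : Subgroup G) : Set G) with hN
  have hPN : (P : Subgroup G) ≤ N := Subgroup.le_normalizer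
  have hrel : (P : Subgroup G).relIndex (N ⊓ K) * (N ⊓ K).relIndex N = (P : Subgroup G).relIndex N :=
    Subgroup.relIndex_mul_relIndex _ _ _ (le_inf hPN hPK) inf_le_left
  have ht' : ((P : Subgroup G).relIndex N).Prime := ht
  rcases ht'.eq_one_or_self_of_dvd _ (Dvd.intro _ hrel) with h1 | h1
  · -- N ⊓ K ≤ P : Burnside
    exfalso
    have hNK : N ⊓ K ≤ (P : Subgroup G) := Subgroup.relIndex_eq_one.1 h1
    let PK : Sylow p K := P.subtype hPK
    have hPKcard : Nat.card (PK : Subgroup K) = p := by
      have : (PK : Subgroup K) = (P : Subgroup G).subgroupOf K := rfl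
      rw [this, Nat.card_congr (Subgroup.subgroupOfEquivOfLe hPK).toEquiv, hPcard P]
    have hPKN : Subgroup.normalizer ((PK : Subgroup K) : Set K) ≤ (PK : Subgroup K) := by
      have : (PK : Subgroup K) = (P : Subgroup G).subgroupOf K := rfl
      rw [this, ← Subgroup.subgroupOf_normalizer_eq hPK]
      intro x hx
      rw [Subgroup.mem_subgroupOf] at hx ⊢
      exact hNK ⟨hx, x.2⟩
    obtain ⟨Q, hQn, hQcard, hQchar⟩ :=
      exists_normal_pcomplement_of_self_normalizing PK hPKcard hPKN
    have hQ'n : (Q.map K.subtype).Normal := by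
      refine ⟨?_⟩
      rintro _ ⟨x, hx, rfl⟩ g
      have hz : g * (x : G) * g⁻¹ ∈ K := hKn.conj_mem _ x.2 g
      refine ⟨⟨g * (x : G) * g⁻¹, hz⟩, ?_, rfl⟩
      rw [SetLike.mem_coe, hQchar, ← Subgroup.orderOf_coe]
      show (orderOf (g * (x : G) * g⁻¹)).Coprime p
      rw [orderOf_conj_eq, Subgroup.orderOf_coe, ← hQchar]
      exact hx
    have hQcop : ¬ p ∣ Nat.card Q := by
      intro h
      apply hp2 K
      rw [← hQcard, pow_two]
      exact Nat.mul_dvd_mul_right h p
    have hQ1 : Q = ⊥ := by
      by_contra hQ1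
      have hQ'1 : Q.map K.subtype ≠ ⊥ := by
        intro h
        apply hQ1
        rwa [Subgroup.map_eq_bot_iff_of_injective _ (Subgroup.subtype_injective K)] at h
      haveI := hQ'n
      haveI : MulAction.IsPretransitive (Q.map K.subtype) α :=
        trans_of_normal_ne_bot G (Q.map K.subtype) hQ'1
      have h3 : p ∣ Nat.card (Q.map K.subtype) := by
        rw [← hα']; exact dvd_card_of_trans
      rw [Subgroup.card_map_of_injective (Subgroup.subtype_injective K)] at h3
      exact hQcop h3
    have hKcard : Nat.card K = p := by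
      rw [← hQcard, hQ1, Subgroup.card_bot, one_mul]
    have hPeqK : (P : Subgroup G) = K := by
      apply Subgroup.eq_of_le_of_card_ge hPK
      rw [hKcard, hPcard P]
    have hPn : (P : Subgroup G).Normal := by rw [hPeqK]; exact hKn
    haveI := Sylow.unique_of_normal P hPn
    rw [Nat.card_unique] at hn
    exact lt_irrefl _ hn
  · -- N ≤ K : Frattini
    have h2 : (N ⊓ K).relIndex N = 1 := by
      rw [h1] at hrel
      have hpos : 0 < (P : Subgroup G).relIndex N := ht'.pos
      exact Nat.eq_of_mul_eq_mul_left hpos (by rw [hrel, mul_one])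
    have hNK : N ≤ K := (Subgroup.relIndex_eq_one.1 h2).trans inf_le_right
    have h3 := Sylow.normalizer_sup_eq_top' P hPK
    rw [eq_top_iff, ← h3]
    exact sup_le hNK le_rfl

end Cfsg.Agent.S1013
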