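import Cfsg.Statements.S1018
import Mathlib

set_option autoImplicit false
set_option linter.style.haveILetI false
open Cfsg

namespace Cfsg.Agent.S1018

open scoped Pointwise

variable {G : Type*} [Group G]

theorem mem_smul_sylow {p : ℕ} (g : G) (S : Sylow p G) (x : G) :
    x ∈ ((g • S : Sylow p G) : Subgroup G) ↔ g⁻¹ * x * g ∈ (S : Subgroup G) := by
  rw [Sylow.coe_subgroup_smul, Subgroup.mem_pointwise_smul_iff_inv_smul_mem, MulAut.smul_def, ← map_inv,
    MulAut.conj_apply, inv_inv]

/-- A non-identity element of a subgroup of prime order generates it. -/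
theorem le_of_mem_of_ne_one {p : ℕ} [Fact p.Prime] (P : Subgroup G) (hP : Nat.card P = p)
    {w : G} (hw : w ∈ P) (hw1 : w ≠ 1) (H : Subgroup G) (hwH : w ∈ H) : P ≤ H := by
  have hne : (⟨w, hw⟩ : P) ≠ 1 := fun h => hw1 (congrArg Subtype.val h)
  have htop := zpowers_eq_top_of_prime_card hP hne
  intro v hv
  have : (⟨v, hv⟩ : P) ∈ Subgroup.zpowers (⟨w, hw⟩ : P) := by rw [htop]; trivial
  obtain ⟨k, hk⟩ := Subgroup.mem_zpowers_iff.1 this
  have hk' : w ^ k = v := by
    have := congrArg Subtype.val hk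
    simpa using this
  rw [← hk']
  exact H.zpow_mem hwH k

/-- A `p`-element normalising a Sylow `p`-subgroup lies in it. -/
theorem mem_sylow_of_mem_normalizer {p : ℕ} [Fact p.Prime] (P : Sylow p G) {w : G}
    (hw : IsPGroup p (Subgroup.zpowers w))
    (hwN : w ∈ Subgroup.normalizer ((P : Subgroup G) : Set G)) : w ∈ (P : Subgroup G) := by
  have h := hw.inf_normalizer_sylow P
  have h1 : w ∈ Subgroup.zpowers w ⊓ Subgroup.normalizer ((P : Subgroup G) : Set G) :=
    ⟨Subgroup.mem_zpowers w, hwN⟩
  exact (h.le h1).2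

theorem isPGroup_zpowers_conj {p : ℕ} [Fact p.Prime] (P : Sylow p G) {w : G}
    (hw : w ∈ (P : Subgroup G)) (g : G) : IsPGroup p (Subgroup.zpowers (g * w * g⁻¹)) := by
  have h1 : IsPGroup p (Subgroup.zpowers w) := P.2.to_le (by
    rw [Subgroup.zpowers_le]; exact hw)
  have h2 : Subgroup.zpowers (g * w * g⁻¹) = (Subgroup.zpowers w).map (MulAut.conj g).toMonoidHom := by
    rw [MonoidHom.map_zpowers]
    rfl
  rw [h2]
  exact h1.map _

/-- if `g * w * g⁻¹ ∈ N(P)` for a nonidentity `w ∈ P`, `|P| = p`, then `g ∈ N(P)`. -/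
theorem mem_normalizer_of_conj_mem {p : ℕ} [Fact p.Prime] [Finite G] (P : Sylow p G)
    (hP : Nat.card (P : Subgroup G) = p) {w : G} (hw : w ∈ (P : Subgroup G)) (hw1 : w ≠ 1) (g : G)
    (hc : g * w * g⁻¹ ∈ Subgroup.normalizer ((P : Subgroup G) : Set G)) :
    g ∈ Subgroup.normalizer ((P : Subgroup G) : Set G) := by
  have hcP : g * w * g⁻¹ ∈ (P : Subgroup G) :=
    mem_sylow_of_mem_normalizer P (isPGroup_zpowers_conj P hw g) hc
  have hle : (P : Subgroup G) ≤ (P : Subgroup G).comap (MulAut.conj g).toMonoidHom := by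
    apply le_of_mem_of_ne_one (P : Subgroup G) hP hw hw1
    exact hcP
  have hsm : (g • P : Sylow p G) = P := by
    apply Sylow.ext
    rw [Sylow.coe_subgroup_smul]
    have h1 : MulAut.conj g • (P : Subgroup G) ≤ (P : Subgroup G) := by
      rintro x ⟨y, hy, rfl⟩
      exact hle hy
    apply Subgroup.eq_of_le_of_card_ge h1
    rw [← Sylow.coe_subgroup_smul, Sylow.card_eq_multiplicity, Sylow.card_eq_multiplicity]
  exact Sylow.smul_eq_iff_mem_normalizer.1 hsm

/-- Let P be a Sylow p-subgroup of order p of a finite group G, and consider the action of G on the left cosets of the normalizer N of P. Then every element of order p fixes exactly one coset, and an element of N that does not centralize P fixes at most as many cosets as there are orbits of P. -/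
theorem result {G : Type*} [Group G] [Finite G] (p : ℕ) [Fact p.Prime] (P : Sylow p G) (hP : Nat.card ↥(P : Subgroup G) = p) : (∀ y : G, orderOf y = p → Nat.card (MulAction.fixedBy (G ⧸ Subgroup.normalizer ((P : Subgroup G) : Set G)) y) = 1) ∧ ∀ x : G, x ∈ Subgroup.normalizer ((P : Subgroup G) : Set G) → x ∉ Subgroup.centralizer ((P : Subgroup G) : Set G) → Nat.card (MulAction.fixedBy (G ⧸ Subgroup.normalizer ((P : Subgroup G) : Set G)) x) ≤ Nat.card (MulAction.orbitRel.Quotient ↥(P : Subgroup G) (G ⧸ Subgroup.normalizer ((P : Subgroup G) : Set G))) := by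
  classical
  have hp : p.Prime := Fact.out
  set N := Subgroup.normalizer ((P : Subgroup G) : Set G) with hN
  have hPN : (P : Subgroup G) ≤ N := Subgroup.le_normalizer
  have hfix : ∀ (y g : G), ((g : G ⧸ N) ∈ MulAction.fixedBy (G ⧸ N) y) ↔ g⁻¹ * y * g ∈ N := by
    intro y g
    rw [MulAction.mem_fixedBy, MulAction.Quotient.smul_mk, QuotientGroup.eq, smul_eq_mul]
    constructor
    · intro h
      have := N.inv_mem h
      have h2 : ((y * g)⁻¹ * g)⁻¹ = g⁻¹ * y * g := by group
      rwa [h2] at this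
    · intro h
      have := N.inv_mem h
      have h2 : (g⁻¹ * y * g)⁻¹ = (y * g)⁻¹ * g := by group
      rwa [h2] at this
  constructor
  · intro y hy
    have hy1 : y ≠ 1 := by
      rintro rfl
      rw [orderOf_one] at hy
      exact hp.one_lt.ne hy
    have hyP : IsPGroup p (Subgroup.zpowers y) := by
      apply IsPGroup.of_card (n := 1)
      rw [Nat.card_zpowers, hy, pow_one]
    have hconjP : ∀ g : G, IsPGroup p (Subgroup.zpowers (g⁻¹ * y * g)) := by
      intro g
      have h2 : Subgroup.zpowers (g⁻¹ * y * g) =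
          (Subgroup.zpowers y).map (MulAut.conj g⁻¹).toMonoidHom := by
        rw [MonoidHom.map_zpowers]
        congr 1
        simp
      rw [h2]
      exact hyP.map _
    rw [Nat.card_eq_one_iff_unique]
    constructor
    · constructor
      rintro ⟨q1, h1⟩ ⟨q2, h2⟩
      apply Subtype.ext
      show q1 = q2
      obtain ⟨g1, rfl⟩ := QuotientGroup.mk_surjective q1
      obtain ⟨g2, rfl⟩ := QuotientGroup.mk_surjective q2
      rw [hfix] at h1 h2
      have hw1P : g1⁻¹ * y * g1 ∈ (P : Subgroup G) := mem_sylow_of_mem_normalizer P (hconjP g1) h1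
      have hw1ne : g1⁻¹ * y * g1 ≠ 1 := by
        intro h
        apply hy1
        have : y = g1 * (g1⁻¹ * y * g1) * g1⁻¹ := by group
        rw [this, h]; group
      have hc : (g2⁻¹ * g1) * (g1⁻¹ * y * g1) * (g2⁻¹ * g1)⁻¹ ∈ N := by
        have : (g2⁻¹ * g1) * (g1⁻¹ * y * g1) * (g2⁻¹ * g1)⁻¹ = g2⁻¹ * y * g2 := by group
        rw [this]; exact h2
      have := mem_normalizer_of_conj_mem P hP hw1P hw1ne _ hc
      rw [eq_comm, QuotientGroup.eq]
      exact this
    · -- existence
      obtain ⟨Q, hQ⟩ := hyP.exists_le_sylow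
      obtain ⟨g, hg⟩ := MulAction.exists_smul_eq G P Q
      have hyQ : y ∈ (Q : Subgroup G) := hQ (Subgroup.mem_zpowers y)
      rw [← hg, mem_smul_sylow] at hyQ
      exact ⟨⟨(g : G ⧸ N), (hfix y g).2 (hPN hyQ)⟩⟩
  · intro x hxN hxC
    -- injection from fixed points into orbits
    apply Nat.card_le_card_of_injective
      (fun q : MulAction.fixedBy (G ⧸ N) x =>
        (Quotient.mk'' (q : G ⧸ N) : MulAction.orbitRel.Quotient ↥(P : Subgroup G) (G ⧸ N)))
    rintro ⟨q1, h1⟩ ⟨q2, h2⟩ h12
    apply Subtype.ext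
    show q1 = q2
    have hrel : (MulAction.orbitRel ↥(P : Subgroup G) (G ⧸ N)) q1 q2 := Quotient.eq''.1 h12
    rw [MulAction.orbitRel_apply] at hrel
    obtain ⟨u, hu⟩ := hrel
    -- q1 = u • q2
    obtain ⟨g, rfl⟩ := QuotientGroup.mk_surjective q2
    have hq1 : q1 = ((((u : G) * g : G)) : G ⧸ N) := by
      rw [← hu]; rfl
    rw [hq1] at h1 ⊢
    rw [hfix] at h1 h2
    by_cases hu1 : (u : G) = 1
    · rw [hu1, one_mul]
    · -- w = u⁻¹ x u x⁻¹ ∈ P
      set w : G := (u : G)⁻¹ * (x * u * x⁻¹) with hw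
      have hxu : x * u * x⁻¹ ∈ (P : Subgroup G) :=
        (Subgroup.mem_normalizer_iff.1 hxN (u : G)).1 u.2
      have hwP : w ∈ (P : Subgroup G) := (P : Subgroup G).mul_mem ((P : Subgroup G).inv_mem u.2) hxu
      have hwN : g⁻¹ * w * g ∈ N := by
        have : g⁻¹ * w * g = (((u : G) * g)⁻¹ * x * ((u : G) * g)) * (g⁻¹ * x * g)⁻¹ := by
          rw [hw]; group
        rw [this]
        exact N.mul_mem h1 (N.inv_mem h2)
      by_cases hw1 : w = 1
      · exfalso
        apply hxC
        -- x commutes with u, hence with P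
        have hcomm : x * u = u * x := by
          have : x * u * x⁻¹ = u := by
            have h3 : (u : G) * w = x * u * x⁻¹ := by rw [hw]; group
            rw [← h3, hw1, mul_one]
          calc x * u = (x * u * x⁻¹) * x := by group
            _ = u * x := by rw [this]
        have hle : (P : Subgroup G) ≤ Subgroup.centralizer ({x} : Set G) := by
          apply le_of_mem_of_ne_one (P : Subgroup G) hP u.2 hu1
          rw [Subgroup.mem_centralizer_iff]
          intro h hh
          rw [Set.mem_singleton_iff] at hh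
          rw [hh]; exact hcomm
        rw [Subgroup.mem_centralizer_iff]
        intro v hv
        have := hle hv
        rw [Subgroup.mem_centralizer_iff] at this
        exact (this x rfl).symm
      · have hgN : g⁻¹ ∈ N := by
          apply mem_normalizer_of_conj_mem P hP hwP hw1 g⁻¹
          rw [inv_inv]; exact hwN
        have hgN' : g ∈ N := by simpa using N.inv_mem hgN
        rw [QuotientGroup.eq]
        have : ((u : G) * g)⁻¹ * g = g⁻¹ * (u : G)⁻¹ * g := by group
        rw [this]
        exact N.mul_mem (N.mul_mem hgN (N.inv_mem (hPN u.2))) hgN'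

end Cfsg.Agent.S1018
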