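import Cfsg.Statements.S1014
import Mathlib
import Cfsg.Agent.Lib.Helper1.SmallSimple
import Cfsg.Agent.Lib.Helper1.SmallSimple2
import Cfsg.Agent.S1018

set_option autoImplicit false
open Cfsg

namespace Cfsg.Agent.S1014

open Cfsg.Agent.Lib.Helper1


/-- No finite simple group has order 1104 = 2^4 * 3 * 23. -/
theorem result {G : Type*} [Group G] [Finite G] [IsSimpleGroup G] : Nat.card G ≠ 1104 := by
  classical
  intro h
  haveI : Fact (Nat.Prime 23) := ⟨by norm_num⟩
  haveI : Fact (Nat.Prime 2) := ⟨by norm_num⟩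
  obtain ⟨P⟩ : Nonempty (Sylow 23 G) := inferInstance
  have hP : Nat.card (P : Subgroup G) = 23 := by
    have := sylow_card_of_card_eq P 1 48 (by rw [h]; norm_num) (by norm_num)
    simpa using this
  have hPbot : (P : Subgroup G) ≠ ⊥ := subgroup_ne_bot_of_card _ (by rw [hP]; norm_num)
  have hPtop : (P : Subgroup G) ≠ ⊤ := subgroup_ne_top_of_card _ (by rw [hP, h]; norm_num)
  have hidx : (P : Subgroup G).index = 48 := by
    have := (P : Subgroup G).card_mul_index
    rw [hP, h] at this
    omega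
  have hn1 := card_sylow_modEq_one 23 G
  have hn2 := P.card_dvd_index
  rw [hidx] at hn2
  have hN := card_normalizer_mul_card_sylow P
  have hne1 := card_sylow_ne_one_of_simple P hPbot hPtop
  have hdiv : ∀ n ∈ Nat.divisors 48, n % 23 = 1 → n = 1 ∨ n = 24 := by decide
  have hn : Nat.card (Sylow 23 G) = 24 := by
    rcases hdiv _ (Nat.mem_divisors.2 ⟨hn2, by norm_num⟩) hn1 with h1 | h1
    · exact absurd h1 hne1
    · exact h1
  obtain ⟨N, hNdef⟩ : ∃ N : Subgroup G, N = Subgroup.normalizer ((P : Subgroup G) : Set G) :=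
    ⟨_, rfl⟩
  have hNidx : N.index = 24 := by
    rw [hNdef, ← hn]
    exact P.card_eq_index_normalizer.symm
  rw [hn, h, ← hNdef] at hN
  have hNc : Nat.card N = 46 := by omega
  have h22 := relIndex_centralizer_normalizer_dvd P hP
  rw [← hNdef] at h22
  have h46 : (Subgroup.centralizer ((P : Subgroup G) : Set G)).relIndex N ∣ 46 := by
    rw [← hNc]
    exact Subgroup.relIndex_dvd_card _ _
  have hrel : (Subgroup.centralizer ((P : Subgroup G) : Set G)).relIndex N = 2 := by
    have h2 := Nat.dvd_gcd h22 h46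
    have hg : Nat.gcd (23 - 1) 46 = 2 := by norm_num
    rw [hg] at h2
    rcases (Nat.dvd_prime Nat.prime_two).1 h2 with h1 | h1
    · exfalso
      rw [Subgroup.relIndex_eq_one, hNdef] at h1
      exact hPtop (sylow_eq_top_of_normalizer_le_centralizer P h1 hPbot)
    · exact h1
  have hCc : Nat.card ((Subgroup.centralizer ((P : Subgroup G) : Set G)).subgroupOf N) = 23 := by
    have := ((Subgroup.centralizer ((P : Subgroup G) : Set G)).subgroupOf N).card_mul_index
    unfold Subgroup.relIndex at hrel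
    rw [hrel, hNc] at this
    omega
  -- an involution of N
  obtain ⟨t', ht'⟩ := exists_prime_orderOf_dvd_card' (G := ↥N) 2 (by rw [hNc]; norm_num)
  have htC : (t' : G) ∉ Subgroup.centralizer ((P : Subgroup G) : Set G) := by
    intro hmem
    have hmem' : t' ∈ (Subgroup.centralizer ((P : Subgroup G) : Set G)).subgroupOf N := hmem
    have h1 : orderOf (⟨t', hmem'⟩ :
        ↥((Subgroup.centralizer ((P : Subgroup G) : Set G)).subgroupOf N)) = 2 := by
      rw [← ht', ← Subgroup.orderOf_coe]
    have h2 := orderOf_dvd_natCard (⟨t', hmem'⟩ :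
        ↥((Subgroup.centralizer ((P : Subgroup G) : Set G)).subgroupOf N))
    rw [h1, hCc] at h2
    revert h2
    decide
  have htord : orderOf (t' : G) = 2 := by rw [Subgroup.orderOf_coe, ht']
  have htN : (t' : G) ∈ Subgroup.normalizer ((P : Subgroup G) : Set G) := by
    rw [← hNdef]
    exact t'.2
  obtain ⟨h18a, h18b⟩ := Cfsg.Agent.S1018.result 23 P hP
  have hfixle := h18b (t' : G) htN htC
  rw [← hNdef] at hfixle h18a
  -- the number of orbits of P
  haveI : Nonempty (G ⧸ N) := ⟨((1 : G) : G ⧸ N)⟩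
  have horb := card_orbits_mul_of_unique_fixed (P := ↥(P : Subgroup G)) (X := G ⧸ N) (by
    intro g hg
    have hord : orderOf (g : G) = 23 := by
      have h1 := orderOf_dvd_natCard g
      rw [hP] at h1
      rcases (Nat.dvd_prime (by norm_num : Nat.Prime 23)).1 h1 with h2 | h2
      · rw [orderOf_eq_one_iff] at h2
        exact absurd h2 hg
      · rw [Subgroup.orderOf_coe]
        exact h2
    exact h18a (g : G) hord)
  have hXc : Nat.card (G ⧸ N) = 24 := hNidx
  rw [hP, hXc] at horb
  have horb2 : Nat.card (MulAction.orbitRel.Quotient ↥(P : Subgroup G) (G ⧸ N)) = 2 := by omega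
  rw [horb2] at hfixle
  -- the involution fixes the base point
  have hfix1 : ((1 : G) : G ⧸ N) ∈ MulAction.fixedBy (G ⧸ N) (t' : G) := by
    rw [MulAction.mem_fixedBy, MulAction.Quotient.smul_mk, QuotientGroup.eq]
    simp only [smul_eq_mul, mul_one]
    exact N.inv_mem t'.2
  have hfix0 : 1 ≤ Nat.card (MulAction.fixedBy (G ⧸ N) (t' : G)) := by
    haveI : Nonempty (MulAction.fixedBy (G ⧸ N) (t' : G)) := ⟨⟨_, hfix1⟩⟩
    exact Nat.card_pos
  -- the sign
  haveI := Fintype.ofFinite (G ⧸ N)
  have hsign := sign_toPerm_eq_one_of_simple (G := G) (by rw [h]; norm_num) (X := G ⧸ N) (t' : G)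
  have hsq : (MulAction.toPerm (t' : G) : Equiv.Perm (G ⧸ N)) ^ 2 = 1 := by
    have : (MulAction.toPerm (t' : G) : Equiv.Perm (G ⧸ N)) =
        MulAction.toPermHom G (G ⧸ N) (t' : G) := rfl
    rw [this, ← map_pow, ← htord, pow_orderOf_eq_one, map_one]
  rw [Equiv.Perm.sign_of_pow_two_eq_one hsq] at hsign
  have hfp : Fintype.card (Function.fixedPoints (MulAction.toPerm (t' : G) : Equiv.Perm (G ⧸ N))) =
      Nat.card (MulAction.fixedBy (G ⧸ N) (t' : G)) := by
    rw [← Nat.card_eq_fintype_card]
    rfl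
  rw [hfp, ← Nat.card_eq_fintype_card, hXc] at hsign
  have hcases : Nat.card (MulAction.fixedBy (G ⧸ N) (t' : G)) = 1 ∨
      Nat.card (MulAction.fixedBy (G ⧸ N) (t' : G)) = 2 := by omega
  rcases hcases with h1 | h1
  · rw [h1] at hsign
    revert hsign
    decide
  · rw [h1] at hsign
    revert hsign
    decide

end Cfsg.Agent.S1014
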