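import Cfsg.Statements.S1015
import Mathlib
import Cfsg.Agent.Lib.Helper1.SmallSimple
import Cfsg.Agent.S0985

set_option autoImplicit false
open Cfsg

namespace Cfsg.Agent.S1015

open Cfsg.Agent.Lib.Helper1


/-- No finite simple group has order 1200 = 2^4 * 3 * 5^2. -/
theorem result {G : Type*} [Group G] [Finite G] [IsSimpleGroup G] : Nat.card G ≠ 1200 := by
  intro h
  haveI : Fact (Nat.Prime 5) := ⟨by norm_num⟩
  obtain ⟨P0⟩ : Nonempty (Sylow 5 G) := inferInstance
  have hcardP : ∀ P : Sylow 5 G, Nat.card (P : Subgroup G) = 25 := by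
    intro P
    have := sylow_card_of_card_eq P 2 48 (by rw [h]; norm_num) (by norm_num)
    rw [this]
    norm_num
  have hidx : (P0 : Subgroup G).index = 48 := by
    have := (P0 : Subgroup G).card_mul_index
    rw [hcardP P0, h] at this
    omega
  have hn1 := card_sylow_modEq_one 5 G
  have hn2 := P0.card_dvd_index
  rw [hidx] at hn2
  have hne1 := card_sylow_ne_one_of_simple P0
    (subgroup_ne_bot_of_card _ (by rw [hcardP P0]; norm_num))
    (subgroup_ne_top_of_card _ (by rw [hcardP P0, h]; norm_num))
  have hdiv : ∀ n ∈ Nat.divisors 48, n % 5 = 1 → n = 1 ∨ n = 6 ∨ n = 16 := by decide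
  rcases hdiv _ (Nat.mem_divisors.2 ⟨hn2, by norm_num⟩) hn1 with h1 | h1 | h1
  · exact hne1 h1
  · have h6 : (Subgroup.normalizer ((P0 : Subgroup G) : Set G)).index = 6 := by
      rw [← h1]
      exact P0.card_eq_index_normalizer.symm
    have := card_dvd_factorial_index_of_simple (Subgroup.normalizer ((P0 : Subgroup G) : Set G))
      (by
        intro htop
        rw [htop, Subgroup.index_top] at h6
        omega)
    rw [h6, h] at this
    revert this
    decide
  · have hmod : ¬ Nat.card (Sylow 5 G) ≡ 1 [MOD 5 ^ 2] := by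
      rw [h1]
      decide
    obtain ⟨P, R, hPR, hle⟩ := Cfsg.Agent.S0985.result 5 2 hmod
    have hrel : (R : Subgroup G).relIndex (P : Subgroup G) ≤ 5 := by
      have : (2 - 1 : ℕ) = 1 := rfl
      rw [this, pow_one] at hle
      exact hle
    have hDcard : Nat.card ((P : Subgroup G) ⊓ (R : Subgroup G) : Subgroup G) *
        (R : Subgroup G).relIndex (P : Subgroup G) = 25 := by
      have := Subgroup.relIndex_mul_relIndex ⊥ ((P : Subgroup G) ⊓ (R : Subgroup G))
        (P : Subgroup G) bot_le inf_le_left
      rw [Subgroup.relIndex_bot_left, Subgroup.relIndex_bot_left, Subgroup.inf_relIndex_left,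
        hcardP P] at this
      exact this
    have hD5 : 5 ≤ Nat.card ((P : Subgroup G) ⊓ (R : Subgroup G) : Subgroup G) := by
      by_contra hlt
      push Not at hlt
      have : Nat.card ((P : Subgroup G) ⊓ (R : Subgroup G) : Subgroup G) *
          (R : Subgroup G).relIndex (P : Subgroup G) ≤ 4 * 5 :=
        Nat.mul_le_mul (by omega) hrel
      omega
    have hD25 : Nat.card ((P : Subgroup G) ⊓ (R : Subgroup G) : Subgroup G) ≤ 25 := by
      apply Nat.le_of_dvd (by norm_num)
      exact Dvd.intro _ hDcard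
    have hDbot : ((P : Subgroup G) ⊓ (R : Subgroup G) : Subgroup G) ≠ ⊥ :=
      subgroup_ne_bot_of_card _ (by omega)
    have hDtop : ((P : Subgroup G) ⊓ (R : Subgroup G) : Subgroup G) ≠ ⊤ :=
      subgroup_ne_top_of_card _ (by rw [h]; omega)
    have hab : ∀ Q : Sylow 5 G, (Q : Subgroup G) ≤
        Subgroup.normalizer ((((P : Subgroup G) ⊓ (R : Subgroup G) : Subgroup G)) : Set G) →
        True := fun _ _ => trivial
    have hcomm : ∀ Q : Sylow 5 G, ∀ a ∈ (Q : Subgroup G), ∀ b ∈ (Q : Subgroup G),
        a * b = b * a := by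
      intro Q a ha b hb
      have := IsPGroup.commutative_of_card_eq_prime_sq (p := 5) (G := ↥(Q : Subgroup G))
        (by rw [hcardP Q]; norm_num) ⟨a, ha⟩ ⟨b, hb⟩
      exact congrArg Subtype.val this
    have hPM : (P : Subgroup G) ≤
        Subgroup.normalizer ((((P : Subgroup G) ⊓ (R : Subgroup G) : Subgroup G)) : Set G) := by
      refine le_trans ?_ (Subgroup.centralizer_le_normalizer _)
      intro x hx
      rw [Subgroup.mem_centralizer_iff]
      intro d hd
      exact hcomm P d hd.1 x hx
    have hRM : (R : Subgroup G) ≤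
        Subgroup.normalizer ((((P : Subgroup G) ⊓ (R : Subgroup G) : Subgroup G)) : Set G) := by
      refine le_trans ?_ (Subgroup.centralizer_le_normalizer _)
      intro x hx
      rw [Subgroup.mem_centralizer_iff]
      intro d hd
      exact hcomm R d hd.2 x hx
    obtain ⟨M, hM⟩ : ∃ M : Subgroup G, M =
        Subgroup.normalizer ((((P : Subgroup G) ⊓ (R : Subgroup G) : Subgroup G)) : Set G) :=
      ⟨_, rfl⟩
    rw [← hM] at hPM hRM
    have hMtop : M ≠ ⊤ := by
      intro htop
      rw [hM, Subgroup.normalizer_eq_top_iff] at htop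
      rcases Subgroup.Normal.eq_bot_or_eq_top htop with h0 | h0
      · exact hDbot h0
      · exact hDtop h0
    have hfact := card_dvd_factorial_index_of_simple M hMtop
    -- Sylow subgroups of M
    have hne : P.subtype hPM ≠ R.subtype hRM := fun heq => hPR (Sylow.subtype_injective heq)
    have hn1' := card_sylow_modEq_one 5 ↥M
    have hn2' := (P.subtype hPM).card_dvd_index
    have hcP' : Nat.card ((P.subtype hPM : Sylow 5 ↥M) : Subgroup ↥M) = 25 := by
      rw [Sylow.coe_subtype, Nat.card_congr (Subgroup.subgroupOfEquivOfLe hPM).toEquiv, hcardP P]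
    have hMc := ((P.subtype hPM : Sylow 5 ↥M) : Subgroup ↥M).card_mul_index
    rw [hcP'] at hMc
    have hn'1 : Nat.card (Sylow 5 ↥M) ≠ 1 := by
      intro h1'
      rw [Nat.card_eq_one_iff_unique] at h1'
      exact hne (h1'.1.elim _ _)
    have hn'0 : Nat.card (Sylow 5 ↥M) ≠ 0 := Nat.card_pos.ne'
    have hn'6 : 6 ≤ Nat.card (Sylow 5 ↥M) := by
      unfold Nat.ModEq at hn1'
      omega
    have hidx6 : 6 ≤ ((P.subtype hPM : Sylow 5 ↥M) : Subgroup ↥M).index := by
      refine le_trans hn'6 (Nat.le_of_dvd ?_ hn2')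
      rcases Nat.eq_zero_or_pos ((P.subtype hPM : Sylow 5 ↥M) : Subgroup ↥M).index with h0 | h0
      · rw [h0, mul_zero] at hMc
        exact absurd hMc.symm Nat.card_pos.ne'
      · exact h0
    have hMk := M.card_mul_index
    rw [h] at hMk
    have hk8 : M.index ≤ 8 := by
      by_contra hlt
      push Not at hlt
      have h150 : 150 ≤ Nat.card ↥M := by
        rw [← hMc]
        omega
      have : 150 * 9 ≤ Nat.card ↥M * M.index := Nat.mul_le_mul h150 hlt
      omega
    rw [h] at hfact
    have h8 := dvd_trans hfact (Nat.factorial_dvd_factorial hk8)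
    revert h8
    decide

end Cfsg.Agent.S1015
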