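import Cfsg.Statements.S1019
import Cfsg.Agent.Lib.Lead.ConjPreimage

set_option autoImplicit false
open Cfsg

namespace Cfsg.Agent.S1019

/-- Let H be a subgroup of a finite group G and x an element of H. In the action of G on the left cosets of H, the number of cosets fixed by x, multiplied by the size of the conjugacy class of x, equals the index of H multiplied by the number of conjugates of x that lie in H. -/
theorem result {G : Type*} [Group G] [Finite G] (H : Subgroup G) (x : G) (hx : x ∈ H) : Nat.card (MulAction.fixedBy (G ⧸ H) x) * Nat.card {g : G // IsConj x g} = H.index * Nat.card {g : G // IsConj x g ∧ g ∈ H} := by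
  classical
  -- T = {g | g⁻¹ x g ∈ H}
  have hT1 : Nat.card {g : G // g⁻¹ * x * g ∈ (H : Set G)} =
      Nat.card {y : G // IsConj x y ∧ y ∈ (H : Set G)} * Nat.card (Subgroup.centralizer ({x} : Set G)) :=
    Cfsg.Agent.Lib.Lead.card_conj_preimage x (H : Set G)
  have hT2 : Nat.card {g : G // g⁻¹ * x * g ∈ (H : Set G)} =
      Nat.card H * Nat.card (MulAction.fixedBy (G ⧸ H) x) := by
    have e := QuotientGroup.preimageMkEquivSubgroupProdSet H (MulAction.fixedBy (G ⧸ H) x)
    rw [← Nat.card_prod, ← Nat.card_congr e]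
    apply Nat.card_congr
    refine Equiv.subtypeEquivRight (fun g => ?_)
    rw [Set.mem_preimage, MulAction.mem_fixedBy]
    change _ ↔ (QuotientGroup.mk (x * g) : G ⧸ H) = QuotientGroup.mk g
    rw [eq_comm, QuotientGroup.eq, SetLike.mem_coe, mul_assoc]
  have hcl := Cfsg.Agent.Lib.Lead.card_conj_mul_card_centralizer x
  have hH := H.index_mul_card
  have hpos : 0 < Nat.card H := Nat.card_pos
  have hset : Nat.card {y : G // IsConj x y ∧ y ∈ (H : Set G)} = Nat.card {g : G // IsConj x g ∧ g ∈ H} := rfl
  rw [hset] at hT1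
  apply Nat.eq_of_mul_eq_mul_left hpos
  calc Nat.card H * (Nat.card (MulAction.fixedBy (G ⧸ H) x) * Nat.card {g : G // IsConj x g})
      = (Nat.card H * Nat.card (MulAction.fixedBy (G ⧸ H) x)) * Nat.card {g : G // IsConj x g} := by ring
    _ = (Nat.card {g : G // IsConj x g ∧ g ∈ H} * Nat.card (Subgroup.centralizer ({x} : Set G))) * Nat.card {g : G // IsConj x g} := by
        rw [← hT2, hT1]
    _ = Nat.card {g : G // IsConj x g ∧ g ∈ H} * (Nat.card {g : G // IsConj x g} * Nat.card (Subgroup.centralizer ({x} : Set G))) := by ring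
    _ = Nat.card {g : G // IsConj x g ∧ g ∈ H} * (H.index * Nat.card H) := by rw [hcl, hH]
    _ = Nat.card H * (H.index * Nat.card {g : G // IsConj x g ∧ g ∈ H}) := by ring

end Cfsg.Agent.S1019
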