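import Mathlib
import Cfsg.Statements.S1020
import Cfsg.Agent.Lib.Helper1.SmallSimple
import Cfsg.Agent.Lib.Helper1.SimpleAct
import Cfsg.Agent.Lib.Helper1.PSL2Small
import Cfsg.Agent.Lib.Helper7.Syl15Base
import Cfsg.Agent.Lib.Helper7.SylCyc

set_option autoImplicit false
open Cfsg

namespace Cfsg.Agent.S1020

/-! ## Concrete permutations of the projective line over `Fin 17` -/

abbrev Pt := Option (Fin 17)

def Uperm : Equiv.Perm Pt := Equiv.optionCongr (Equiv.addRight (1 : Fin 17))

def mulm : Equiv.Perm (Fin 17) := ⟨fun x => 2 * x, fun x => 9 * x, by decide, by decide⟩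

def Hperm : Equiv.Perm Pt := Equiv.optionCongr mulm

def Tfun (v : Fin 17 → Pt) : Pt → Pt := fun o =>
  match o with
  | none => some 0
  | some x => v x

def Tcv0 : Fin 17 → Pt := ![none, some 16, some 8, some 11, some 4, some 10, some 14, some 12, some 2, some 15, some 5, some 3, some 7, some 13, some 6, some 9, some 1]
def Tcv1 : Fin 17 → Pt := ![none, some 15, some 16, some 5, some 8, some 3, some 11, some 7, some 4, some 13, some 10, some 6, some 14, some 9, some 12, some 1, some 2]
def Tcv2 : Fin 17 → Pt := ![none, some 13, some 15, some 10, some 16, some 6, some 5, some 14, some 8, some 9, some 3, some 12, some 11, some 1, some 7, some 2, some 4]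
def Tcv3 : Fin 17 → Pt := ![none, some 9, some 13, some 3, some 15, some 12, some 10, some 11, some 16, some 1, some 6, some 7, some 5, some 2, some 14, some 4, some 8]
def Tcv4 : Fin 17 → Pt := ![none, some 1, some 9, some 6, some 13, some 7, some 3, some 5, some 15, some 2, some 12, some 14, some 10, some 4, some 11, some 8, some 16]
def Tcv5 : Fin 17 → Pt := ![none, some 2, some 1, some 12, some 9, some 14, some 6, some 10, some 13, some 4, some 7, some 11, some 3, some 8, some 5, some 16, some 15]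
def Tcv6 : Fin 17 → Pt := ![none, some 4, some 2, some 7, some 1, some 11, some 12, some 3, some 9, some 8, some 14, some 5, some 6, some 16, some 10, some 15, some 13]
def Tcv7 : Fin 17 → Pt := ![none, some 8, some 4, some 14, some 2, some 5, some 7, some 6, some 1, some 16, some 11, some 10, some 12, some 15, some 3, some 13, some 9]

def Tc0 : Equiv.Perm Pt := ⟨Tfun Tcv0, Tfun Tcv0, by decide, by decide⟩
def Tc1 : Equiv.Perm Pt := ⟨Tfun Tcv1, Tfun Tcv1, by decide, by decide⟩
def Tc2 : Equiv.Perm Pt := ⟨Tfun Tcv2, Tfun Tcv2, by decide, by decide⟩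
def Tc3 : Equiv.Perm Pt := ⟨Tfun Tcv3, Tfun Tcv3, by decide, by decide⟩
def Tc4 : Equiv.Perm Pt := ⟨Tfun Tcv4, Tfun Tcv4, by decide, by decide⟩
def Tc5 : Equiv.Perm Pt := ⟨Tfun Tcv5, Tfun Tcv5, by decide, by decide⟩
def Tc6 : Equiv.Perm Pt := ⟨Tfun Tcv6, Tfun Tcv6, by decide, by decide⟩
def Tc7 : Equiv.Perm Pt := ⟨Tfun Tcv7, Tfun Tcv7, by decide, by decide⟩

theorem Tc1_eq : Tc1 = Hperm ^ 1 * Tc0 := by
  apply Equiv.ext
  decide

theorem Tc2_eq : Tc2 = Hperm ^ 2 * Tc0 := by
  apply Equiv.ext
  decide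

theorem Tc3_eq : Tc3 = Hperm ^ 3 * Tc0 := by
  apply Equiv.ext
  decide

theorem Tc4_eq : Tc4 = Hperm ^ 4 * Tc0 := by
  apply Equiv.ext
  decide

theorem Tc5_eq : Tc5 = Hperm ^ 5 * Tc0 := by
  apply Equiv.ext
  decide

theorem Tc6_eq : Tc6 = Hperm ^ 6 * Tc0 := by
  apply Equiv.ext
  decide

theorem Tc7_eq : Tc7 = Hperm ^ 7 * Tc0 := by
  apply Equiv.ext
  decide

def Fab (c a b : Fin 17) : Pt → Pt := Tfun ![none, some (a), some (c * a), some (b), some (c * (c * a)), some (c * (c * (c * (c * (c * (c * b)))))), some (c * b), some (c * (c * (c * b))), some (c * (c * (c * a))), some (c * (c * (c * (c * (c * (c * (c * a))))))), some (c * (c * (c * (c * (c * (c * (c * b))))))), some (c * (c * (c * (c * (c * b))))), some (c * (c * b)), some (c * (c * (c * (c * (c * (c * a)))))), some (c * (c * (c * (c * b)))), some (c * (c * (c * (c * (c * a))))), some (c * (c * (c * (c * a))))]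

def sqs : List (Fin 17) := [1, 2, 4, 8, 16, 15, 13, 9]

def Wf (F : Pt → Pt) (i a : Fin 17) (x : Pt) : Pt :=
  F (Option.map (fun y => y - a) (F (Option.map (fun y => y + i) (F x))))

def getv (o : Pt) : Fin 17 := o.getD 0

abbrev CondAux (F : Pt → Pt) (i a e c : Fin 17) : Prop :=
  c ∈ sqs ∧ ∀ x : Pt, Wf F i a x = Option.map (fun y => c * y + e) x

abbrev Cond (F : Pt → Pt) (i a : Fin 17) : Prop :=
  CondAux F i a (getv (Wf F i a (some 0))) (getv (Wf F i a (some 1)) - getv (Wf F i a (some 0)))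

set_option synthInstance.maxHeartbeats 400000 in
set_option synthInstance.maxSize 1024 in
set_option maxRecDepth 100000 in
theorem Fab_cases : ∀ c a b : Fin 17, c ∈ sqs → Cond (Fab c a b) 1 (getv (Fab c a b (some 1))) →
    Fab c a b = Tfun Tcv0 ∨ Fab c a b = Tfun Tcv1 ∨ Fab c a b = Tfun Tcv2 ∨ Fab c a b = Tfun Tcv3 ∨ Fab c a b = Tfun Tcv4 ∨ Fab c a b = Tfun Tcv5 ∨ Fab c a b = Tfun Tcv6 ∨ Fab c a b = Tfun Tcv7 := by
  decide


open Fin.CommRing

theorem U_apply (o : Pt) : Uperm o = Option.map (fun y => y + 1) o := by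
  cases o <;> rfl

theorem H_apply (o : Pt) : Hperm o = Option.map (fun y => 2 * y) o := by
  cases o <;> rfl

theorem Upow_apply (n : ℕ) (o : Pt) :
    (Uperm ^ n) o = Option.map (fun y => y + (n : Fin 17)) o := by
  induction n generalizing o with
  | zero => cases o <;> simp
  | succ n ih =>
    rw [pow_succ, Equiv.Perm.mul_apply, U_apply, ih]
    cases o with
    | none => rfl
    | some y =>
      show some (y + 1 + (n : Fin 17)) = some (y + ((n + 1 : ℕ) : Fin 17))
      rw [Nat.cast_succ]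
      congr 1
      ring

theorem Hpow_apply (n : ℕ) (o : Pt) :
    (Hperm ^ n) o = Option.map (fun y => (2 : Fin 17) ^ n * y) o := by
  induction n generalizing o with
  | zero => cases o <;> simp
  | succ n ih =>
    rw [pow_succ, Equiv.Perm.mul_apply, H_apply, ih]
    cases o with
    | none => rfl
    | some y =>
      show some ((2 : Fin 17) ^ n * (2 * y)) = some ((2 : Fin 17) ^ (n + 1) * y)
      congr 1
      ring

theorem Upow_inv_apply (n : ℕ) (o : Pt) :
    (Uperm ^ n)⁻¹ o = Option.map (fun y => y - (n : Fin 17)) o := by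
  rw [Equiv.Perm.inv_eq_iff_eq, Upow_apply]
  cases o with
  | none => rfl
  | some y =>
    show some y = some (y - (n : Fin 17) + (n : Fin 17))
    congr 1
    ring

theorem pow_mem_sqs (z : ℕ) : (2 : Fin 17) ^ z ∈ sqs := by
  have hd : (2 : Fin 17) ^ 8 = 1 := by decide
  have key : ∀ r : Fin 8, (2 : Fin 17) ^ (r : ℕ) ∈ sqs := by decide
  rw [pow_eq_pow_mod z hd]
  exact key ⟨z % 8, Nat.mod_lt _ (by norm_num)⟩

theorem Cond_of_aff (F : Pt → Pt) (i a c e : Fin 17) (hc : c ∈ sqs)
    (hW : ∀ x, Wf F i a x = Option.map (fun y => c * y + e) x) : Cond F i a := by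
  have h0 : getv (Wf F i a (some 0)) = e := by
    rw [hW]
    show c * 0 + e = e
    ring
  have h1 : getv (Wf F i a (some 1)) - getv (Wf F i a (some 0)) = c := by
    rw [h0, hW]
    show c * 1 + e - e = c
    ring
  unfold Cond
  rw [h1, h0]
  exact ⟨hc, hW⟩

theorem lemmaD (π : Equiv.Perm Pt) (h0 : π none = some 0) (h00 : π (some 0) = none)
    (k : ℕ) (hrel : π * Hperm * π⁻¹ = Hperm ^ k)
    (hbr : ∀ i a : Fin 17, i ≠ 0 → π (some i) = some a → ∃ b z : ℕ,
      π * (Uperm ^ (a : ℕ))⁻¹ * π * Uperm ^ (i : ℕ) * π = Uperm ^ b * Hperm ^ z) :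
    ∃ j : ℕ, π = Hperm ^ j * Tc0 := by
  obtain ⟨c, hcdef⟩ : ∃ c : Fin 17, c = (2 : Fin 17) ^ k := ⟨_, rfl⟩
  have hrel' : ∀ x y : Fin 17, π (some x) = some y → π (some (2 * x)) = some (c * y) := by
    intro x y hxy
    have h := mul_inv_eq_iff_eq_mul.1 hrel
    have h' := DFunLike.congr_fun h (some x)
    rw [Equiv.Perm.mul_apply, Equiv.Perm.mul_apply, H_apply, hxy, Hpow_apply, ← hcdef] at h'
    exact h'
  have hsome : ∀ x : Fin 17, x ≠ 0 → ∃ y : Fin 17, π (some x) = some y := by
    intro x hx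
    cases hπx : π (some x) with
    | none =>
      exfalso
      have := π.injective (hπx.trans h00.symm)
      exact hx (Option.some_injective _ this)
    | some y => exact ⟨y, rfl⟩
  obtain ⟨a, ha⟩ := hsome 1 (by decide)
  obtain ⟨b, hb⟩ := hsome 3 (by decide)
  have es0 : π (some 1) = some a := ha
  have es1 : π (some 2) = some (c * a) := hrel' 1 _ es0
  have es2 : π (some 4) = some (c * (c * a)) := hrel' 2 _ es1
  have es3 : π (some 8) = some (c * (c * (c * a))) := hrel' 4 _ es2
  have es4 : π (some 16) = some (c * (c * (c * (c * a)))) := hrel' 8 _ es3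
  have es5 : π (some 15) = some (c * (c * (c * (c * (c * a))))) := hrel' 16 _ es4
  have es6 : π (some 13) = some (c * (c * (c * (c * (c * (c * a)))))) := hrel' 15 _ es5
  have es7 : π (some 9) = some (c * (c * (c * (c * (c * (c * (c * a))))))) := hrel' 13 _ es6
  have en0 : π (some 3) = some b := hb
  have en1 : π (some 6) = some (c * b) := hrel' 3 _ en0
  have en2 : π (some 12) = some (c * (c * b)) := hrel' 6 _ en1
  have en3 : π (some 7) = some (c * (c * (c * b))) := hrel' 12 _ en2
  have en4 : π (some 14) = some (c * (c * (c * (c * b)))) := hrel' 7 _ en3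
  have en5 : π (some 11) = some (c * (c * (c * (c * (c * b))))) := hrel' 14 _ en4
  have en6 : π (some 5) = some (c * (c * (c * (c * (c * (c * b)))))) := hrel' 11 _ en5
  have en7 : π (some 10) = some (c * (c * (c * (c * (c * (c * (c * b))))))) := hrel' 5 _ en6
  have hF : ⇑π = Fab c a b := by
    funext o
    match o with
    | none => exact h0
    | some x =>
      fin_cases x
      · exact h00
      · exact es0
      · exact es1
      · exact en0
      · exact es2
      · exact en6
      · exact en1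
      · exact en3
      · exact es3
      · exact es7
      · exact en7
      · exact en5
      · exact en2
      · exact es6
      · exact en4
      · exact es5
      · exact es4
  have hCond : ∀ i : Fin 17, i ≠ 0 → Cond (Fab c a b) i (getv (Fab c a b (some i))) := by
    intro i hi
    obtain ⟨ai, hai⟩ := hsome i hi
    have hgv : getv (Fab c a b (some i)) = ai := by
      rw [← hF, hai]
      rfl
    rw [hgv]
    obtain ⟨b', z, hbz⟩ := hbr i ai hi hai
    apply Cond_of_aff (Fab c a b) i ai ((2 : Fin 17) ^ z) (b' : Fin 17) (pow_mem_sqs z)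
    intro x
    have h' := DFunLike.congr_fun hbz x
    simp only [Equiv.Perm.mul_apply] at h'
    rw [Upow_inv_apply, Upow_apply, Upow_apply, Hpow_apply, Fin.cast_val_eq_self,
      Fin.cast_val_eq_self, Option.map_map] at h'
    rw [← hF]
    exact h'
  have hcs : c ∈ sqs := by
    rw [hcdef]
    exact pow_mem_sqs k
  rcases Fab_cases c a b hcs (hCond 1 (by decide)) with h | h | h | h | h | h | h | h
  · refine ⟨0, ?_⟩
    rw [pow_zero, one_mul]
    apply Equiv.ext
    intro o
    rw [hF, h]; rfl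
  · refine ⟨1, ?_⟩
    rw [← Tc1_eq]
    apply Equiv.ext
    intro o
    rw [hF, h]; rfl
  · refine ⟨2, ?_⟩
    rw [← Tc2_eq]
    apply Equiv.ext
    intro o
    rw [hF, h]; rfl
  · refine ⟨3, ?_⟩
    rw [← Tc3_eq]
    apply Equiv.ext
    intro o
    rw [hF, h]; rfl
  · refine ⟨4, ?_⟩
    rw [← Tc4_eq]
    apply Equiv.ext
    intro o
    rw [hF, h]; rfl
  · refine ⟨5, ?_⟩
    rw [← Tc5_eq]
    apply Equiv.ext
    intro o
    rw [hF, h]; rfl
  · refine ⟨6, ?_⟩
    rw [← Tc6_eq]
    apply Equiv.ext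
    intro o
    rw [hF, h]; rfl
  · refine ⟨7, ?_⟩
    rw [← Tc7_eq]
    apply Equiv.ext
    intro o
    rw [hF, h]; rfl

theorem closure_mulpow {Γ : Type*} [Group Γ] (a b t : Γ) (j : ℕ) :
    Subgroup.closure ({a, b, b ^ j * t} : Set Γ) = Subgroup.closure ({a, b, t} : Set Γ) := by
  apply le_antisymm
  · rw [Subgroup.closure_le]
    intro x hx
    simp only [Set.mem_insert_iff, Set.mem_singleton_iff] at hx
    have hb : b ∈ Subgroup.closure ({a, b, t} : Set Γ) := Subgroup.subset_closure (by simp)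
    have ht : t ∈ Subgroup.closure ({a, b, t} : Set Γ) := Subgroup.subset_closure (by simp)
    rcases hx with rfl | rfl | rfl
    · exact Subgroup.subset_closure (by simp)
    · exact hb
    · exact Subgroup.mul_mem _ (Subgroup.pow_mem _ hb j) ht
  · rw [Subgroup.closure_le]
    intro x hx
    simp only [Set.mem_insert_iff, Set.mem_singleton_iff] at hx
    have hb : b ∈ Subgroup.closure ({a, b, b ^ j * t} : Set Γ) :=
      Subgroup.subset_closure (by simp)
    have ht : b ^ j * t ∈ Subgroup.closure ({a, b, b ^ j * t} : Set Γ) :=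
      Subgroup.subset_closure (by simp)
    rcases hx with rfl | rfl | rfl
    · exact Subgroup.subset_closure (by simp)
    · exact hb
    · have e : (b ^ j)⁻¹ * (b ^ j * x) = x := by group
      have hmem := Subgroup.mul_mem _ (Subgroup.inv_mem _ (Subgroup.pow_mem _ hb j)) ht
      rw [e] at hmem
      exact hmem

theorem card_le_of_fibers' {A B : Type*} [Finite A] [Finite B] (f : A → B) (k : ℕ)
    (h : ∀ b, Nat.card {a // f a = b} ≤ k) : Nat.card A ≤ Nat.card B * k := by
  classical
  haveI := Fintype.ofFinite B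
  rw [← Nat.card_congr (Equiv.sigmaFiberEquiv f), Nat.card_sigma]
  calc ∑ b, Nat.card {a // f a = b} ≤ ∑ _b : B, k := Finset.sum_le_sum (fun b _ => h b)
    _ = Nat.card B * k := by
        rw [Finset.sum_const, Finset.card_univ, smul_eq_mul, Nat.card_eq_fintype_card]

/-! ## Labelling -/

section labelling

variable {G X : Type*} [Group G] [MulAction G X]

def Emap (u : G) (p q : X) : Pt → X := fun o =>
  match o with
  | none => p
  | some i => u ^ (i : ℕ) • q

theorem Emap_bij [Fintype X] (hX : Fintype.card X = 18) {u : G} {p q : X} (hup : u • p = p)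
    (hqp : q ≠ p) (hfree : ∀ i : ℕ, 0 < i → i < 17 → u ^ i • q ≠ q) :
    Function.Bijective (Emap u p q) := by
  have hupow : ∀ i : ℕ, u ^ i • p = p := by
    intro i
    induction i with
    | zero => simp
    | succ n ih => rw [pow_succ, mul_smul, hup, ih]
  have key : ∀ i j : ℕ, i < j → j < 17 → u ^ i • q ≠ u ^ j • q := by
    intro i j hij hj h
    have e : u ^ j = u ^ i * u ^ (j - i) := by
      rw [← pow_add]; congr 1; omega
    rw [e, mul_smul] at h
    have h' := smul_left_cancel _ h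
    exact hfree (j - i) (by omega) (by omega) h'.symm
  have hinj : Function.Injective (Emap u p q) := by
    intro o1 o2 h
    match o1, o2 with
    | none, none => rfl
    | none, some j =>
      exfalso
      apply hqp
      have h1 : p = u ^ (j : ℕ) • q := h
      have h2 : u ^ (j : ℕ) • q = u ^ (j : ℕ) • p := by rw [hupow]; exact h1.symm
      exact smul_left_cancel _ h2
    | some i, none =>
      exfalso
      apply hqp
      have h1 : u ^ (i : ℕ) • q = p := h
      have h2 : u ^ (i : ℕ) • q = u ^ (i : ℕ) • p := by rw [hupow]; exact h1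
      exact smul_left_cancel _ h2
    | some i, some j =>
      have h1 : u ^ (i : ℕ) • q = u ^ (j : ℕ) • q := h
      congr 1
      apply Fin.ext
      rcases lt_trichotomy (i : ℕ) (j : ℕ) with hlt | heq | hgt
      · exact absurd h1 (key _ _ hlt j.2)
      · exact heq
      · exact absurd h1.symm (key _ _ hgt i.2)
  rw [Fintype.bijective_iff_injective_and_card]
  refine ⟨hinj, ?_⟩
  rw [hX]
  rfl

noncomputable def psi (Eq : Pt ≃ X) : G →* Equiv.Perm Pt where
  toFun g := (Eq.trans (MulAction.toPerm g)).trans Eq.symm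
  map_one' := by
    apply Equiv.ext
    intro o
    simp
  map_mul' g g' := by
    apply Equiv.ext
    intro o
    simp [mul_smul]

theorem psi_apply (Eq : Pt ≃ X) (g : G) (o : Pt) : psi Eq g o = Eq.symm (g • Eq o) := rfl

theorem psi_injective (Eq : Pt ≃ X) (hfaith : ∀ g : G, (∀ x : X, g • x = x) → g = 1) :
    Function.Injective (psi (G := G) Eq) := by
  rw [injective_iff_map_eq_one]
  intro g hg
  apply hfaith
  intro x
  have h := DFunLike.congr_fun hg (Eq.symm x)
  rw [psi_apply, Equiv.apply_symm_apply, Equiv.Perm.one_apply] at h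
  exact Eq.symm.injective h

theorem label_u (Eq : Pt ≃ X) {u : G} {p q : X} (hEq : ∀ o, Eq o = Emap u p q o)
    (hu7 : u ^ 17 = 1) (hup : u • p = p) : psi Eq u = Uperm := by
  apply Equiv.ext
  intro o
  rw [psi_apply, Equiv.symm_apply_eq, hEq, hEq]
  match o with
  | none => exact hup
  | some i =>
    show u • (u ^ (i : ℕ) • q) = u ^ ((i + 1 : Fin 17) : ℕ) • q
    rw [← mul_smul, ← pow_succ', Fin.val_add, Fin.val_one, ← pow_eq_pow_mod _ hu7]

theorem label_h (Eq : Pt ≃ X) {u h : G} {p q : X} (hEq : ∀ o, Eq o = Emap u p q o)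
    (hu7 : u ^ 17 = 1) (hhp : h • p = p) (hhq : h • q = q) (hhu : h * u * h⁻¹ = u ^ 2) :
    psi Eq h = Hperm := by
  apply Equiv.ext
  intro o
  rw [psi_apply, Equiv.symm_apply_eq, hEq, hEq]
  match o with
  | none => exact hhp
  | some i =>
    show h • (u ^ (i : ℕ) • q) = u ^ ((2 * i : Fin 17) : ℕ) • q
    have e : h * u ^ (i : ℕ) = (u ^ 2) ^ (i : ℕ) * h := by
      rw [← hhu, conj_pow, inv_mul_cancel_right]
    have h4 : ((2 : Fin 17) : ℕ) = 2 := rfl
    rw [← mul_smul, e, mul_smul, hhq, ← pow_mul, Fin.val_mul, h4, ← pow_eq_pow_mod _ hu7]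

end labelling


/-! ## the group theory -/

section main

variable {G : Type*} [Group G] [Finite G] [IsSimpleGroup G]

instance factP : Fact (Nat.Prime 17) := ⟨by norm_num⟩

open Cfsg.Agent.Lib.Helper1 Cfsg.Agent.Lib.Helper7

set_option maxRecDepth 100000 in
theorem card_sylP (hG : Nat.card G = 2448) : Nat.card (Sylow 17 G) = 18 := by
  obtain ⟨P⟩ : Nonempty (Sylow 17 G) := inferInstance
  have hP : Nat.card (P : Subgroup G) = 17 :=
    Syl15.sylow_card_eq_prime (by rw [hG]; norm_num) (by rw [hG]; norm_num) P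
  have h1 : Nat.card (Sylow 17 G) % 17 = 1 % 17 := card_sylow_modEq_one 17 G
  have h3 : Nat.card (Sylow 17 G) ≠ 1 :=
    card_sylow_ne_one_of_simple P
      (subgroup_ne_bot_of_card _ (by rw [hP]; norm_num))
      (subgroup_ne_top_of_card _ (by rw [hP, hG]; norm_num))
  have h4 : Nat.card (Sylow 17 G) ∣ 144 := by
    have := Sylow.card_dvd_index P
    have hidx : (P : Subgroup G).index = 144 := by
      have := Subgroup.card_mul_index (P : Subgroup G)
      rw [hP, hG] at this
      omega
    rwa [hidx] at this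
  have h5 : Nat.card (Sylow 17 G) ≤ 144 := Nat.le_of_dvd (by norm_num) h4
  have key : ∀ n ≤ 144, n ∣ 144 → n % 17 = 1 % 17 → n ≠ 1 → n = 18 := by decide
  exact key _ h5 h4 h1 h3

theorem arithO : ∀ q ≤ 8, 1 < q → q ∣ 8 → ¬ (2 ^ (8 / q) % 17 = 1 % 17) := by
  decide

theorem arithK : ∀ c ≤ 16, c ∣ 136 → 136 ≤ 18 * c → c = 8 := by
  decide

set_option maxHeartbeats 3200000 in
theorem exists_iso (hG : Nat.card G = 2448) :
    Nonempty (G ≃* (Subgroup.closure ({Uperm, Hperm, Tc0} : Set (Equiv.Perm Pt)))) := by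
  classical
  letI : Fintype (Sylow 17 G) := Fintype.ofFinite _
  have hcardX : Fintype.card (Sylow 17 G) = 18 := by
    rw [← Nat.card_eq_fintype_card]; exact card_sylP hG
  have hS7 : ∀ Q : Sylow 17 G, Nat.card (Q : Subgroup G) = 17 := fun Q =>
    Syl15.sylow_card_eq_prime (by rw [hG]; norm_num) (by rw [hG]; norm_num) Q
  have hN21 : ∀ Q : Sylow 17 G,
      Nat.card (Subgroup.normalizer ((Q : Subgroup G) : Set G)) = 136 := by
    intro Q
    have := card_normalizer_mul_card_sylow Q
    rw [hG, card_sylP hG] at this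
    omega
  obtain ⟨P⟩ : Nonempty (Sylow 17 G) := inferInstance
  obtain ⟨u, huP, hu1⟩ := SylCyc.exists_mem_ne_one_of_card_prime P (hS7 P)
  have hu7 : u ^ 17 = 1 := by
    have := pow_card_eq_one' (G := (P : Subgroup G)) (x := ⟨u, huP⟩)
    rw [hS7 P] at this
    exact congrArg Subtype.val this
  have horder : orderOf u = 17 := orderOf_eq_prime hu7 hu1
  have hzcard : ∀ g : G, orderOf g = 17 → ∀ Q : Sylow 17 G, g ∈ (Q : Subgroup G) →
      (Q : Subgroup G) = Subgroup.zpowers g := by
    intro g hg Q hgQ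
    symm
    apply Subgroup.eq_of_le_of_card_ge
    · rw [Subgroup.zpowers_le]; exact hgQ
    · rw [hS7 Q, Nat.card_zpowers, hg]
  have hPz := hzcard u horder P huP
  have hup : u • P = P := Sylow.smul_eq_iff_mem_normalizer.2 (Subgroup.le_normalizer huP)
  have hupow : ∀ i : ℕ, u ^ i • P = P := fun i =>
    Sylow.smul_eq_iff_mem_normalizer.2 (Subgroup.le_normalizer (Subgroup.pow_mem _ huP i))
  have hfree : ∀ Q : Sylow 17 G, Q ≠ P → ∀ i : ℕ, 0 < i → i < 17 → u ^ i • Q ≠ Q := by
    intro Q hQ i hi0 hi7 hfix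
    have hg1 : u ^ i ≠ 1 := by
      intro h
      have := orderOf_dvd_of_pow_eq_one h
      rw [horder] at this
      exact absurd (Nat.le_of_dvd hi0 this) (by omega)
    have hg7 : (u ^ i) ^ 17 = 1 := by rw [← pow_mul, mul_comm, pow_mul, hu7, one_pow]
    have hgo : orderOf (u ^ i) = 17 := orderOf_eq_prime hg7 hg1
    have hpg : IsPGroup 17 (Subgroup.zpowers (u ^ i)) := by
      apply IsPGroup.of_card (n := 1)
      rw [Nat.card_zpowers, hgo, pow_one]
    have hinf := hpg.inf_normalizer_sylow Q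
    have hgQ : u ^ i ∈ (Q : Subgroup G) := by
      have h2 : u ^ i ∈ Subgroup.zpowers (u ^ i) ⊓ (Q : Subgroup G) := by
        rw [← hinf]
        exact ⟨Subgroup.mem_zpowers _, Sylow.smul_eq_iff_mem_normalizer.1 hfix⟩
      exact h2.2
    apply hQ
    apply Sylow.ext
    rw [hzcard (u ^ i) hgo Q hgQ, hzcard (u ^ i) hgo P (Subgroup.pow_mem _ huP i)]
  -- a second point
  obtain ⟨Q0, hQ0P⟩ : ∃ Q0 : Sylow 17 G, Q0 ≠ P := by
    by_contra hcon
    have hall : ∀ Q : Sylow 17 G, Q = P := by
      intro Q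
      by_contra hne
      exact hcon ⟨Q, hne⟩
    have h1 : Fintype.card (Sylow 17 G) ≤ 1 :=
      Fintype.card_le_one_iff.2 (fun a b => by rw [hall a, hall b])
    omega
  -- faithfulness
  have hfaith : ∀ g : G, (∀ Q : Sylow 17 G, g • Q = Q) → g = 1 := by
    intro g hg
    have hker : g ∈ (MulAction.toPermHom G (Sylow 17 G)).ker := by
      rw [MonoidHom.mem_ker]
      apply Equiv.ext
      intro Q
      exact hg Q
    rcases Subgroup.Normal.eq_bot_or_eq_top
      (inferInstance : (MulAction.toPermHom G (Sylow 17 G)).ker.Normal) with hb | ht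
    · rw [hb, Subgroup.mem_bot] at hker; exact hker
    · exfalso
      have hu : u ∈ (MulAction.toPermHom G (Sylow 17 G)).ker := by
        rw [ht]; exact Subgroup.mem_top u
      rw [MonoidHom.mem_ker] at hu
      have h1 : u • Q0 = Q0 := DFunLike.congr_fun hu Q0
      exact hfree Q0 hQ0P 1 (by norm_num) (by norm_num) (by rw [pow_one]; exact h1)
  -- labelling
  have hbij := Emap_bij hcardX hup hQ0P (hfree Q0 hQ0P)
  obtain ⟨Eq, hEq⟩ : ∃ Eq : Pt ≃ Sylow 17 G, ∀ o, Eq o = Emap u P Q0 o :=
    ⟨Equiv.ofBijective _ hbij, fun o => rfl⟩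
  have hψu := label_u Eq hEq hu7 hup
  have hψinj := psi_injective (G := G) Eq hfaith
  have hEnone : Eq none = P := by rw [hEq]; rfl
  have hE0 : Eq (some 0) = Q0 := by
    rw [hEq]
    show u ^ ((0 : Fin 17) : ℕ) • Q0 = Q0
    simp
  -- the two-point stabilizer
  obtain ⟨K, hKdef⟩ : ∃ K : Subgroup G,
      K = MulAction.stabilizer G P ⊓ MulAction.stabilizer G Q0 := ⟨_, rfl⟩
  have hKmem : ∀ t : G, t ∈ K ↔ t • P = P ∧ t • Q0 = Q0 := by
    intro t
    rw [hKdef, Subgroup.mem_inf, MulAction.mem_stabilizer_iff, MulAction.mem_stabilizer_iff]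
  have hTP : ∀ t ∈ K, t • P = P := fun t ht => ((hKmem t).1 ht).1
  have hQ0fix : ∀ t ∈ K, t • Q0 = Q0 := fun t ht => ((hKmem t).1 ht).2
  have hTN : K ≤ Subgroup.normalizer ((P : Subgroup G) : Set G) := by
    intro t ht
    exact Sylow.smul_eq_iff_mem_normalizer.1 (hTP t ht)
  -- the conjugation exponents of the elements of K
  have hconj_gen : ∀ (x : G) (m : ℕ), x * u * x⁻¹ = u ^ m →
      ∀ j : ℕ, x ^ j * u * (x ^ j)⁻¹ = u ^ (m ^ j) := by
    intro x m hx j
    induction j with
    | zero => simp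
    | succ j ih =>
      have e : x ^ (j + 1) * u * (x ^ (j + 1))⁻¹ = x * (x ^ j * u * (x ^ j)⁻¹) * x⁻¹ := by
        rw [pow_succ']
        simp only [mul_inv_rev, mul_assoc]
      rw [e, ih, ← conj_pow, hx, ← pow_mul, pow_succ']
  have hTex : ∀ t : K, ∃ m : ℕ, m < 17 ∧ (t : G) * u * (t : G)⁻¹ = u ^ m := by
    intro t
    have hmem : (t : G) * u * (t : G)⁻¹ ∈ (P : Subgroup G) :=
      ((Subgroup.mem_normalizer_iff.1 (hTN t.2)) u).1 huP
    rw [hPz, Subgroup.mem_zpowers_iff] at hmem
    obtain ⟨k, hk⟩ := hmem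
    have h0' := Int.emod_nonneg k (by norm_num : (17:ℤ) ≠ 0)
    have h7' := Int.emod_lt_of_pos k (by norm_num : (0:ℤ) < 17)
    refine ⟨(k % 17).toNat, by omega, ?_⟩
    rw [← hk, ← zpow_natCast, Int.toNat_of_nonneg h0']
    have := zpow_mod_orderOf u k
    rw [horder] at this
    exact this.symm
  choose mf hmf_lt hmf using hTex
  have hmf_pos : ∀ t : K, mf t ≠ 0 := by
    intro t h0
    have e := hmf t
    rw [h0, pow_zero] at e
    apply hu1
    have e2 : u = (t : G)⁻¹ * ((t : G) * u * (t : G)⁻¹) * (t : G) := by group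
    rw [e2, e]
    group
  have hmf_inj : Function.Injective mf := by
    intro t1 t2 h12
    have hc : Commute ((t1 : G)⁻¹ * (t2 : G)) u := by
      have h1 := hmf t1
      have h2 := hmf t2
      rw [h12] at h1
      have h3 : (t1 : G) * u * (t1 : G)⁻¹ = (t2 : G) * u * (t2 : G)⁻¹ := by rw [h1, h2]
      show (t1 : G)⁻¹ * (t2 : G) * u = u * ((t1 : G)⁻¹ * (t2 : G))
      calc (t1 : G)⁻¹ * (t2 : G) * u = (t1 : G)⁻¹ * ((t2 : G) * u * (t2 : G)⁻¹) * (t2 : G) := by group
        _ = (t1 : G)⁻¹ * ((t1 : G) * u * (t1 : G)⁻¹) * (t2 : G) := by rw [h3]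
        _ = u * ((t1 : G)⁻¹ * (t2 : G)) := by group
    have hc1 : (t1 : G)⁻¹ * (t2 : G) = 1 := by
      apply hfaith
      intro Q
      have hcP : ((t1 : G)⁻¹ * (t2 : G)) • P = P := by
        rw [mul_smul, hTP _ t2.2, inv_smul_eq_iff, hTP _ t1.2]
      have hcQ : ((t1 : G)⁻¹ * (t2 : G)) • Q0 = Q0 := by
        rw [mul_smul, hQ0fix _ t2.2, inv_smul_eq_iff, hQ0fix _ t1.2]
      obtain ⟨o, rfl⟩ := Eq.surjective Q
      rw [hEq]
      match o with
      | none => exact hcP
      | some i =>
        show ((t1 : G)⁻¹ * (t2 : G)) • (u ^ (i : ℕ) • Q0) = u ^ (i : ℕ) • Q0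
        rw [← mul_smul, (hc.pow_right (i : ℕ)).eq, mul_smul, hcQ]
    apply Subtype.ext
    exact inv_mul_eq_one.1 hc1
  haveI : Fintype K := Fintype.ofFinite _
  -- the order of K
  have hKle : Nat.card K ≤ 16 := by
    have himg0 : Finset.univ.image mf ⊆ Finset.Ico 1 17 := by
      intro m hm
      rw [Finset.mem_image] at hm
      obtain ⟨t, -, rfl⟩ := hm
      rw [Finset.mem_Ico]
      exact ⟨Nat.pos_of_ne_zero (hmf_pos t), hmf_lt t⟩
    have h1 := Finset.card_le_card himg0
    rw [Finset.card_image_of_injective _ hmf_inj, Finset.card_univ, Nat.card_Ico,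
      ← Nat.card_eq_fintype_card] at h1
    omega
  have hKge : 136 ≤ 18 * Nat.card K := by
    have hfib : ∀ Q : Sylow 17 G,
        Nat.card {x : Subgroup.normalizer ((P : Subgroup G) : Set G) // (x : G) • Q0 = Q}
          ≤ Nat.card K := by
      intro Q
      by_cases hne : Nonempty
          {x : Subgroup.normalizer ((P : Subgroup G) : Set G) // (x : G) • Q0 = Q}
      · obtain ⟨x0⟩ := hne
        have hmemK : ∀ x : {x : Subgroup.normalizer ((P : Subgroup G) : Set G) //
            (x : G) • Q0 = Q}, ((x0.1 : G))⁻¹ * (x.1 : G) ∈ K := by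
          intro x
          rw [hKmem]
          constructor
          · rw [mul_smul, Sylow.smul_eq_iff_mem_normalizer.2 x.1.2, inv_smul_eq_iff,
              Sylow.smul_eq_iff_mem_normalizer.2 x0.1.2]
          · rw [mul_smul, x.2, inv_smul_eq_iff, x0.2]
        apply Nat.card_le_card_of_injective (fun x => (⟨_, hmemK x⟩ : K))
        intro x y hxy
        have h1 : ((x0.1 : G))⁻¹ * (x.1 : G) = ((x0.1 : G))⁻¹ * (y.1 : G) :=
          congrArg Subtype.val hxy
        exact Subtype.ext (Subtype.ext (mul_left_cancel h1))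
      · rw [not_nonempty_iff] at hne
        rw [Nat.card_of_isEmpty]
        exact Nat.zero_le _
    have := card_le_of_fibers'
      (fun x : Subgroup.normalizer ((P : Subgroup G) : Set G) => (x : G) • Q0) (Nat.card K) hfib
    rw [hN21 P, card_sylP hG] at this
    exact this
  have hKdvd : Nat.card K ∣ 136 := by
    have := Subgroup.card_dvd_of_le hTN
    rwa [hN21 P] at this
  have hKcard : Nat.card K = 8 := arithK _ hKle hKdvd hKge
  have hTpow : ∀ t ∈ K, t ^ 8 = 1 := by
    intro t ht
    have := pow_card_eq_one' (G := K) (x := ⟨t, ht⟩)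
    rw [hKcard] at this
    exact congrArg Subtype.val this
  have hmfD : ∀ t : K, mf t ^ 8 % 17 = 1 % 17 := by
    intro t
    have e := hconj_gen (t : G) (mf t) (hmf t) 8
    rw [hTpow t t.2, one_mul, inv_one, mul_one] at e
    have := (pow_eq_pow_iff_modEq (x := u) (n := 1) (m := mf t ^ 8)).1
      (by rw [pow_one]; exact e)
    rw [horder] at this
    exact this.symm
  have hS9 : ((Finset.range 17).filter (fun m => m ^ 8 % 17 = 1 % 17)).card = 8 := by
    decide
  have himg : Finset.univ.image mf ⊆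
      (Finset.range 17).filter (fun m => m ^ 8 % 17 = 1 % 17) := by
    intro m hm
    rw [Finset.mem_image] at hm
    obtain ⟨t, -, rfl⟩ := hm
    rw [Finset.mem_filter, Finset.mem_range]
    exact ⟨hmf_lt t, hmfD t⟩
  have hcardimg : (Finset.univ.image mf).card = 8 := by
    rw [Finset.card_image_of_injective _ hmf_inj, Finset.card_univ, ← Nat.card_eq_fintype_card,
      hKcard]
  have himgeq := Finset.eq_of_subset_of_card_le himg (by rw [hcardimg, hS9])
  have h4mem : 2 ∈ (Finset.range 17).filter (fun m => m ^ 8 % 17 = 1 % 17) := by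
    decide
  rw [← himgeq, Finset.mem_image] at h4mem
  obtain ⟨t, -, ht⟩ := h4mem
  obtain ⟨h, hhdef⟩ : ∃ h : G, h = (t : G) := ⟨_, rfl⟩
  have hhT : h ∈ K := by rw [hhdef]; exact t.2
  have hhu : h * u * h⁻¹ = u ^ 2 := by rw [hhdef, hmf t, ht]
  have hh3 : h ^ 8 = 1 := hTpow h hhT
  have hhP : h • P = P := hTP h hhT
  have hhQ : h • Q0 = Q0 := hQ0fix h hhT
  have hhconj_iter : ∀ j : ℕ, h ^ j * u * (h ^ j)⁻¹ = u ^ (2 ^ j) :=
    hconj_gen h 2 hhu
  have hho : orderOf h = 8 := by
    apply orderOf_eq_of_pow_and_pow_div_prime (by norm_num) hh3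
    intro q hq hqd h1
    have hqle : q ≤ 8 := Nat.le_of_dvd (by norm_num) hqd
    have e := hhconj_iter (8 / q)
    rw [h1, one_mul, inv_one, mul_one] at e
    have := (pow_eq_pow_iff_modEq (x := u) (n := 1) (m := 2 ^ (8 / q))).1
      (by rw [pow_one]; exact e)
    rw [horder] at this
    exact arithO q hqle hq.one_lt hqd this.symm
  have hψh := label_h Eq hEq hu7 hhP hhQ hhu
  have hKz : K = Subgroup.zpowers h := by
    symm
    apply Subgroup.eq_of_le_of_card_ge
    · rw [Subgroup.zpowers_le]; exact hhT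
    · rw [hKcard, Nat.card_zpowers, hho]
  have hKpow : ∀ t ∈ K, ∃ j : ℕ, t = h ^ j := by
    intro t ht
    rw [hKz, Subgroup.mem_zpowers_iff] at ht
    obtain ⟨z, hz⟩ := ht
    have h0' := Int.emod_nonneg z (by norm_num : (8:ℤ) ≠ 0)
    refine ⟨(z % 8).toNat, ?_⟩
    rw [← hz, ← zpow_natCast, Int.toNat_of_nonneg h0']
    have := zpow_mod_orderOf h z
    rw [hho] at this
    exact this.symm
  -- the stabilizer of P is P K
  have hstar : ∀ x : G, x • P = P → ∃ b j : ℕ, x = u ^ b * h ^ j := by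
    intro x hx
    obtain ⟨o, ho⟩ := Eq.surjective (x • Q0)
    rw [hEq] at ho
    match o, ho with
    | none, ho =>
      exfalso
      apply hQ0P
      have ho' : P = x • Q0 := ho
      have e : x • Q0 = x • P := by rw [hx]; exact ho'.symm
      exact smul_left_cancel _ e
    | some i, ho =>
      have ho' : u ^ (i : ℕ) • Q0 = x • Q0 := ho
      have hK : (u ^ (i : ℕ))⁻¹ * x ∈ K := by
        rw [hKmem]
        constructor
        · rw [mul_smul, hx, inv_smul_eq_iff, hupow]
        · rw [mul_smul, ← ho', inv_smul_smul]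
      obtain ⟨j, hj⟩ := hKpow _ hK
      refine ⟨i, j, ?_⟩
      rw [← hj]
      group
  -- an element interchanging P and Q0
  obtain ⟨g0, hg0⟩ := MulAction.exists_smul_eq G Q0 P
  have hg0P : g0 • P ≠ P := by
    intro hcon
    apply hQ0P
    have e : g0 • Q0 = g0 • P := by rw [hg0, hcon]
    exact smul_left_cancel _ e
  obtain ⟨s0, hs0Q, hs0P⟩ : ∃ s0 : G, s0 • Q0 = P ∧ s0 • P = Q0 := by
    obtain ⟨o, ho⟩ := Eq.surjective (g0 • P)
    rw [hEq] at ho
    match o, ho with
    | none, ho =>
      have ho' : P = g0 • P := ho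
      exact absurd ho'.symm hg0P
    | some i, ho =>
      have ho' : u ^ (i : ℕ) • Q0 = g0 • P := ho
      refine ⟨(u ^ (i : ℕ))⁻¹ * g0, ?_, ?_⟩
      · rw [mul_smul, hg0, inv_smul_eq_iff, hupow]
      · rw [mul_smul, ← ho', inv_smul_smul]
  have e1 : s0⁻¹ • P = Q0 := by rw [inv_smul_eq_iff, hs0Q]
  have e2 : s0⁻¹ • Q0 = P := by rw [inv_smul_eq_iff, hs0P]
  obtain ⟨kn, hs0k⟩ : ∃ kn : ℕ, s0 * h * s0⁻¹ = h ^ kn := by
    apply hKpow
    rw [hKmem]
    constructor
    · rw [mul_smul, mul_smul, e1, hhQ, hs0Q]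
    · rw [mul_smul, mul_smul, e2, hhP, hs0P]
  -- the image of s0
  have hπ0 : psi Eq s0 none = some 0 := by
    rw [psi_apply, hEnone, hs0P, Equiv.symm_apply_eq, hE0]
  have hπ00 : psi Eq s0 (some 0) = none := by
    rw [psi_apply, hE0, hs0Q, Equiv.symm_apply_eq, hEnone]
  have hπrel : psi Eq s0 * Hperm * (psi Eq s0)⁻¹ = Hperm ^ kn := by
    rw [← hψh, ← map_inv, ← map_mul, ← map_mul, hs0k, map_pow]
  have hbr : ∀ i a : Fin 17, i ≠ 0 → psi Eq s0 (some i) = some a → ∃ b z : ℕ,
      psi Eq s0 * (Uperm ^ (a : ℕ))⁻¹ * psi Eq s0 * Uperm ^ (i : ℕ) * psi Eq s0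
        = Uperm ^ b * Hperm ^ z := by
    intro i a _ ha
    have h1 : s0 • (u ^ (i : ℕ) • Q0) = u ^ (a : ℕ) • Q0 := by
      rw [psi_apply, Equiv.symm_apply_eq, hEq, hEq] at ha
      exact ha
    have hfixP : (s0 * (u ^ (a : ℕ))⁻¹ * s0 * u ^ (i : ℕ) * s0) • P = P := by
      rw [mul_smul, mul_smul, mul_smul, mul_smul, hs0P, h1, inv_smul_smul, hs0Q]
    obtain ⟨b, z, hbz⟩ := hstar _ hfixP
    refine ⟨b, z, ?_⟩
    have e := congrArg (psi (G := G) Eq) hbz
    simp only [map_mul, map_inv, map_pow, hψu, hψh] at e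
    exact e
  obtain ⟨jj, hπ⟩ := lemmaD (psi Eq s0) hπ0 hπ00 kn hπrel hbr
  -- generation
  have hgen : Subgroup.closure ({u, h, s0} : Set G) = ⊤ := by
    have huM : u ∈ Subgroup.closure ({u, h, s0} : Set G) := Subgroup.subset_closure (by simp)
    have hhM : h ∈ Subgroup.closure ({u, h, s0} : Set G) := Subgroup.subset_closure (by simp)
    have hsM : s0 ∈ Subgroup.closure ({u, h, s0} : Set G) := Subgroup.subset_closure (by simp)
    have hNle : Subgroup.normalizer ((P : Subgroup G) : Set G)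
        ≤ Subgroup.closure ({u, h, s0} : Set G) := by
      intro x hx
      obtain ⟨b, j, rfl⟩ := hstar x (Sylow.smul_eq_iff_mem_normalizer.2 hx)
      exact Subgroup.mul_mem _ (Subgroup.pow_mem _ huM b) (Subgroup.pow_mem _ hhM j)
    have hdvd := Subgroup.card_dvd_of_le hNle
    rw [hN21 P] at hdvd
    have hcne : Nat.card (Subgroup.closure ({u, h, s0} : Set G)) ≠ 136 := by
      intro hc
      have heq : Subgroup.normalizer ((P : Subgroup G) : Set G)
          = Subgroup.closure ({u, h, s0} : Set G) := by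
        apply Subgroup.eq_of_le_of_card_ge hNle
        rw [hc, hN21 P]
      have hmem : s0 ∈ Subgroup.normalizer ((P : Subgroup G) : Set G) := by
        rw [heq]; exact hsM
      have hfix := Sylow.smul_eq_iff_mem_normalizer.2 hmem
      rw [hs0P] at hfix
      exact hQ0P hfix
    have hci := Subgroup.card_mul_index (Subgroup.closure ({u, h, s0} : Set G))
    rw [hG] at hci
    by_contra hne
    have hfac := card_dvd_factorial_index_of_simple _ hne
    rw [hG] at hfac
    obtain ⟨c, hc⟩ := hdvd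
    rw [hc] at hci hcne
    have hki : c * (Subgroup.closure ({u, h, s0} : Set G)).index = 18 := by
      have : 136 * (c * (Subgroup.closure ({u, h, s0} : Set G)).index) = 136 * 18 := by
        rw [← mul_assoc]; exact hci
      exact Nat.eq_of_mul_eq_mul_left (by norm_num) this
    have hc1 : c ≠ 1 := by
      rintro rfl
      exact hcne (mul_one _)
    have hc0 : c ≠ 0 := by
      rintro rfl
      rw [zero_mul] at hki
      norm_num at hki
    have h2le : 2 * (Subgroup.closure ({u, h, s0} : Set G)).index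
        ≤ c * (Subgroup.closure ({u, h, s0} : Set G)).index :=
      Nat.mul_le_mul_right _ (by omega)
    have hpd : 17 ∣ ((Subgroup.closure ({u, h, s0} : Set G)).index).factorial :=
      Dvd.dvd.trans (by norm_num) hfac
    have := (Nat.Prime.dvd_factorial (by norm_num : Nat.Prime 17)).1 hpd
    omega
  have hrange : (psi (G := G) Eq).range
      = Subgroup.closure ({Uperm, Hperm, psi Eq s0} : Set (Equiv.Perm Pt)) := by
    rw [MonoidHom.range_eq_map, ← hgen, MonoidHom.map_closure]
    congr 1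
    rw [Set.image_insert_eq, Set.image_insert_eq, Set.image_singleton, hψu, hψh]
  have hL : Subgroup.closure ({Uperm, Hperm, psi Eq s0} : Set (Equiv.Perm Pt))
      = Subgroup.closure ({Uperm, Hperm, Tc0} : Set (Equiv.Perm Pt)) := by
    rw [hπ]
    exact closure_mulpow Uperm Hperm Tc0 jj
  exact ⟨(MonoidHom.ofInjective hψinj).trans (MulEquiv.subgroupCongr (hrange.trans hL))⟩

end main

theorem psl_simple_card {F : Type*} [Field F] [Fintype F] (hF : Fintype.card F = 17) :
    IsSimpleGroup (Matrix.ProjectiveSpecialLinearGroup (Fin 2) F) ∧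
      Nat.card (Matrix.ProjectiveSpecialLinearGroup (Fin 2) F) = 2448 := by
  constructor
  · exact Matrix.ProjectiveSpecialLinearGroup.rank_two_simple (by
      rw [Nat.card_eq_fintype_card, hF]; norm_num)
  · have h := Cfsg.Agent.Lib.Helper1.card_PSL2 F
    rw [hF] at h
    have h2 : Nat.gcd 2 (17 - 1) = 2 := by decide
    rw [h2] at h
    omega

theorem iso_of_simple {G₁ G₂ : Type*} [Group G₁] [Finite G₁] [IsSimpleGroup G₁]
    [Group G₂] [Finite G₂] [IsSimpleGroup G₂] (h₁ : Nat.card G₁ = 2448)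
    (h₂ : Nat.card G₂ = 2448) : Nonempty (G₁ ≃* G₂) := by
  obtain ⟨e₁⟩ := exists_iso h₁
  obtain ⟨e₂⟩ := exists_iso h₂
  exact ⟨e₁.trans e₂.symm⟩

theorem iso_psl {G : Type*} [Group G] [Finite G] [IsSimpleGroup G] (h : Nat.card G = 2448)
    {F : Type*} [Field F] [Fintype F] (hF : Fintype.card F = 17) :
    Nonempty (G ≃* Matrix.ProjectiveSpecialLinearGroup (Fin 2) F) := by
  obtain ⟨hs, hc⟩ := psl_simple_card hF
  haveI := hs
  exact iso_of_simple h hc

/-- A simple group of order 2448 is isomorphic to the projective special linear group of dimension 2 over the field with 17 elements. -/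
theorem result {G : Type*} [Group G] [Finite G] [IsSimpleGroup G] (h : Nat.card G = 2448) {F : Type*} [Field F] [Fintype F] (hF : Fintype.card F = 17) : Nonempty (G ≃* Matrix.ProjectiveSpecialLinearGroup (Fin 2) F) := iso_psl h hF

end Cfsg.Agent.S1020
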