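import Mathlib
import Cfsg.Statements.S1021
import Cfsg.Agent.S0495
import Cfsg.Agent.Lib.Helper1.SmallSimple
import Cfsg.Agent.Lib.Helper1.SimpleAct
import Cfsg.Agent.Lib.Helper1.PSL2Small
import Cfsg.Agent.Lib.Helper7.Syl15Base
import Cfsg.Agent.Lib.Helper7.SylCyc
import Cfsg.Agent.Lib.Helper7.Syl21Gen

set_option autoImplicit false
open Cfsg

namespace Cfsg.Agent.S1021

/-! ## Concrete permutations of the projective line over `Fin 19` -/

abbrev Pt := Option (Fin 19)

def Uperm : Equiv.Perm Pt := Equiv.optionCongr (Equiv.addRight (1 : Fin 19))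

def mulm : Equiv.Perm (Fin 19) := ⟨fun x => 4 * x, fun x => 5 * x, by decide, by decide⟩

def Hperm : Equiv.Perm Pt := Equiv.optionCongr mulm

def Hi : Pt → Pt := Option.map (fun x => 5 * x)

def Tfun (v : Fin 19 → Pt) : Pt → Pt := fun o =>
  match o with
  | none => some 0
  | some x => v x

def Tcv0 : Fin 19 → Pt := ![none, some 18, some 9, some 6, some 14, some 15, some 3, some 8, some 7, some 2, some 17, some 12, some 11, some 16, some 4, some 5, some 13, some 10, some 1]
def Tcv1 : Fin 19 → Pt := ![none, some 3, some 11, some 1, some 15, some 12, some 10, some 14, some 17, some 13, some 6, some 2, some 5, some 9, some 7, some 4, some 18, some 8, some 16]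
def Tcv2 : Fin 19 → Pt := ![none, some 10, some 5, some 16, some 12, some 2, some 8, some 15, some 6, some 18, some 1, some 13, some 4, some 11, some 17, some 7, some 3, some 14, some 9]
def Tcv3 : Fin 19 → Pt := ![none, some 8, some 4, some 9, some 2, some 13, some 14, some 12, some 1, some 3, some 16, some 18, some 7, some 5, some 6, some 17, some 10, some 15, some 11]
def Tcv4 : Fin 19 → Pt := ![none, some 14, some 7, some 11, some 13, some 18, some 15, some 2, some 16, some 10, some 9, some 3, some 17, some 4, some 1, some 6, some 8, some 12, some 5]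
def Tcv5 : Fin 19 → Pt := ![none, some 15, some 17, some 5, some 18, some 3, some 12, some 13, some 9, some 8, some 11, some 10, some 6, some 7, some 16, some 1, some 14, some 2, some 4]
def Tcv6 : Fin 19 → Pt := ![none, some 12, some 6, some 4, some 3, some 10, some 2, some 18, some 11, some 14, some 5, some 8, some 1, some 17, some 9, some 16, some 15, some 13, some 7]
def Tcv7 : Fin 19 → Pt := ![none, some 2, some 1, some 7, some 10, some 8, some 13, some 3, some 5, some 15, some 4, some 14, some 16, some 6, some 11, some 9, some 12, some 18, some 17]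
def Tcv8 : Fin 19 → Pt := ![none, some 13, some 16, some 17, some 8, some 14, some 18, some 10, some 4, some 12, some 7, some 15, some 9, some 1, some 5, some 11, some 2, some 3, some 6]

def Tc0 : Equiv.Perm Pt := ⟨Tfun Tcv0, Tfun Tcv0, by decide, by decide⟩
def Tc1 : Equiv.Perm Pt := ⟨Tfun Tcv1, Tfun Tcv1, by decide, by decide⟩
def Tc2 : Equiv.Perm Pt := ⟨Tfun Tcv2, Tfun Tcv2, by decide, by decide⟩
def Tc3 : Equiv.Perm Pt := ⟨Tfun Tcv3, Tfun Tcv3, by decide, by decide⟩
def Tc4 : Equiv.Perm Pt := ⟨Tfun Tcv4, Tfun Tcv4, by decide, by decide⟩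
def Tc5 : Equiv.Perm Pt := ⟨Tfun Tcv5, Tfun Tcv5, by decide, by decide⟩
def Tc6 : Equiv.Perm Pt := ⟨Tfun Tcv6, Tfun Tcv6, by decide, by decide⟩
def Tc7 : Equiv.Perm Pt := ⟨Tfun Tcv7, Tfun Tcv7, by decide, by decide⟩
def Tc8 : Equiv.Perm Pt := ⟨Tfun Tcv8, Tfun Tcv8, by decide, by decide⟩

theorem Tc1_eq : Tc1 = Hperm ^ 1 * Tc0 * (Hperm ^ 1)⁻¹ := by
  apply Equiv.ext
  decide

theorem Tc2_eq : Tc2 = Hperm ^ 2 * Tc0 * (Hperm ^ 2)⁻¹ := by
  apply Equiv.ext
  decide

theorem Tc3_eq : Tc3 = Hperm ^ 3 * Tc0 * (Hperm ^ 3)⁻¹ := by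
  apply Equiv.ext
  decide

theorem Tc4_eq : Tc4 = Hperm ^ 4 * Tc0 * (Hperm ^ 4)⁻¹ := by
  apply Equiv.ext
  decide

theorem Tc5_eq : Tc5 = Hperm ^ 5 * Tc0 * (Hperm ^ 5)⁻¹ := by
  apply Equiv.ext
  decide

theorem Tc6_eq : Tc6 = Hperm ^ 6 * Tc0 * (Hperm ^ 6)⁻¹ := by
  apply Equiv.ext
  decide

theorem Tc7_eq : Tc7 = Hperm ^ 7 * Tc0 * (Hperm ^ 7)⁻¹ := by
  apply Equiv.ext
  decide

theorem Tc8_eq : Tc8 = Hperm ^ 8 * Tc0 * (Hperm ^ 8)⁻¹ := by
  apply Equiv.ext
  decide

def Fab (a b : Pt) : Pt → Pt := Tfun ![none, a, b, Hi (Hi (Hi (Hi (Hi (Hi b))))), Hi a, Hi (Hi (Hi (Hi (Hi (Hi (Hi (Hi a))))))), Hi (Hi (Hi (Hi (Hi (Hi (Hi a)))))), Hi (Hi (Hi a)), Hi b, Hi (Hi (Hi (Hi a))), Hi (Hi (Hi (Hi (Hi (Hi (Hi (Hi b))))))), Hi (Hi (Hi (Hi (Hi (Hi a))))), Hi (Hi (Hi (Hi (Hi (Hi (Hi b)))))), Hi (Hi b), Hi (Hi (Hi b)), Hi (Hi (Hi (Hi (Hi b)))), Hi (Hi a), Hi (Hi (Hi (Hi (Hi a)))), Hi (Hi (Hi (Hi b)))]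

set_option synthInstance.maxHeartbeats 400000 in
set_option synthInstance.maxSize 1024 in
set_option maxRecDepth 100000 in
theorem Fab_cases : ∀ a b : Pt, (∀ o, Fab a b (Fab a b o) = o) → (∀ o, Fab a b o ≠ o) →
    Fab a b = Tfun Tcv0 ∨ Fab a b = Tfun Tcv1 ∨ Fab a b = Tfun Tcv2 ∨ Fab a b = Tfun Tcv3 ∨ Fab a b = Tfun Tcv4 ∨ Fab a b = Tfun Tcv5 ∨ Fab a b = Tfun Tcv6 ∨ Fab a b = Tfun Tcv7 ∨ Fab a b = Tfun Tcv8 := by
  decide

theorem Hperm_inv_apply (o : Pt) : Hperm⁻¹ o = Hi o := by
  cases o <;> rfl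

theorem Hperm_fix : ∀ o : Pt, Hperm o = o → o = none ∨ o = some 0 := by
  decide

theorem lemmaD (π : Equiv.Perm Pt) (h0 : π none = some 0) (h2 : π * π = 1)
    (hrel : π * Hperm * π⁻¹ = Hperm⁻¹) (hfpf : ∀ o, π o ≠ o) :
    ∃ j : ℕ, π = Hperm ^ j * Tc0 * (Hperm ^ j)⁻¹ := by
  have hrel' : ∀ x, π (Hperm x) = Hi (π x) := by
    intro x
    have h := mul_inv_eq_iff_eq_mul.1 hrel
    have h' := DFunLike.congr_fun h x
    rw [Equiv.Perm.mul_apply, Equiv.Perm.mul_apply, Hperm_inv_apply] at h'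
    exact h'
  have hinv : ∀ x, π (π x) = x := by
    intro x
    have h' := DFunLike.congr_fun h2 x
    rw [Equiv.Perm.mul_apply] at h'
    exact h'
  have h00 : π (some 0) = none := by
    have := hinv none
    rw [h0] at this
    exact this
  have es0 : π (some 1) = π (some 1) := rfl
  have es1 : π (some 4) = Hi (π (some 1)) := by
    have := hrel' (some 1)
    rw [es0] at this
    exact this
  have es2 : π (some 16) = Hi (Hi (π (some 1))) := by
    have := hrel' (some 4)
    rw [es1] at this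
    exact this
  have es3 : π (some 7) = Hi (Hi (Hi (π (some 1)))) := by
    have := hrel' (some 16)
    rw [es2] at this
    exact this
  have es4 : π (some 9) = Hi (Hi (Hi (Hi (π (some 1))))) := by
    have := hrel' (some 7)
    rw [es3] at this
    exact this
  have es5 : π (some 17) = Hi (Hi (Hi (Hi (Hi (π (some 1)))))) := by
    have := hrel' (some 9)
    rw [es4] at this
    exact this
  have es6 : π (some 11) = Hi (Hi (Hi (Hi (Hi (Hi (π (some 1))))))) := by
    have := hrel' (some 17)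
    rw [es5] at this
    exact this
  have es7 : π (some 6) = Hi (Hi (Hi (Hi (Hi (Hi (Hi (π (some 1)))))))) := by
    have := hrel' (some 11)
    rw [es6] at this
    exact this
  have es8 : π (some 5) = Hi (Hi (Hi (Hi (Hi (Hi (Hi (Hi (π (some 1))))))))) := by
    have := hrel' (some 6)
    rw [es7] at this
    exact this
  have en0 : π (some 2) = π (some 2) := rfl
  have en1 : π (some 8) = Hi (π (some 2)) := by
    have := hrel' (some 2)
    rw [en0] at this
    exact this
  have en2 : π (some 13) = Hi (Hi (π (some 2))) := by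
    have := hrel' (some 8)
    rw [en1] at this
    exact this
  have en3 : π (some 14) = Hi (Hi (Hi (π (some 2)))) := by
    have := hrel' (some 13)
    rw [en2] at this
    exact this
  have en4 : π (some 18) = Hi (Hi (Hi (Hi (π (some 2))))) := by
    have := hrel' (some 14)
    rw [en3] at this
    exact this
  have en5 : π (some 15) = Hi (Hi (Hi (Hi (Hi (π (some 2)))))) := by
    have := hrel' (some 18)
    rw [en4] at this
    exact this
  have en6 : π (some 3) = Hi (Hi (Hi (Hi (Hi (Hi (π (some 2))))))) := by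
    have := hrel' (some 15)
    rw [en5] at this
    exact this
  have en7 : π (some 12) = Hi (Hi (Hi (Hi (Hi (Hi (Hi (π (some 2)))))))) := by
    have := hrel' (some 3)
    rw [en6] at this
    exact this
  have en8 : π (some 10) = Hi (Hi (Hi (Hi (Hi (Hi (Hi (Hi (π (some 2))))))))) := by
    have := hrel' (some 12)
    rw [en7] at this
    exact this
  have hF : ⇑π = Fab (π (some 1)) (π (some 2)) := by
    funext o
    match o with
    | none => exact h0
    | some x =>
      fin_cases x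
      · exact h00
      · exact es0
      · exact en0
      · exact en6
      · exact es1
      · exact es8
      · exact es7
      · exact es3
      · exact en1
      · exact es4
      · exact en8
      · exact es6
      · exact en7
      · exact en2
      · exact en3
      · exact en5
      · exact es2
      · exact es5
      · exact en4
  have hc := Fab_cases (π (some 1)) (π (some 2))
    (by intro o; rw [← hF]; exact hinv o) (by intro o; rw [← hF]; exact hfpf o)
  rcases hc with h | h | h | h | h | h | h | h | h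
  · refine ⟨0, ?_⟩
    rw [pow_zero, one_mul, inv_one, mul_one]
    apply Equiv.ext
    intro o
    rw [hF, h]; rfl
  · refine ⟨1, ?_⟩
    rw [← Tc1_eq]
    apply Equiv.ext
    intro o
    rw [hF, h]; rfl
  · refine ⟨2, ?_⟩
    rw [← Tc2_eq]
    apply Equiv.ext
    intro o
    rw [hF, h]; rfl
  · refine ⟨3, ?_⟩
    rw [← Tc3_eq]
    apply Equiv.ext
    intro o
    rw [hF, h]; rfl
  · refine ⟨4, ?_⟩
    rw [← Tc4_eq]
    apply Equiv.ext
    intro o
    rw [hF, h]; rfl
  · refine ⟨5, ?_⟩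
    rw [← Tc5_eq]
    apply Equiv.ext
    intro o
    rw [hF, h]; rfl
  · refine ⟨6, ?_⟩
    rw [← Tc6_eq]
    apply Equiv.ext
    intro o
    rw [hF, h]; rfl
  · refine ⟨7, ?_⟩
    rw [← Tc7_eq]
    apply Equiv.ext
    intro o
    rw [hF, h]; rfl
  · refine ⟨8, ?_⟩
    rw [← Tc8_eq]
    apply Equiv.ext
    intro o
    rw [hF, h]; rfl

theorem closure_conj {Γ : Type*} [Group Γ] (a b t : Γ) (j : ℕ) :
    Subgroup.closure ({a, b, b ^ j * t * (b ^ j)⁻¹} : Set Γ) = Subgroup.closure ({a, b, t} : Set Γ) := by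
  apply le_antisymm
  · rw [Subgroup.closure_le]
    intro x hx
    simp only [Set.mem_insert_iff, Set.mem_singleton_iff] at hx
    have hb : b ∈ Subgroup.closure ({a, b, t} : Set Γ) := Subgroup.subset_closure (by simp)
    have ht : t ∈ Subgroup.closure ({a, b, t} : Set Γ) := Subgroup.subset_closure (by simp)
    rcases hx with rfl | rfl | rfl
    · exact Subgroup.subset_closure (by simp)
    · exact hb
    · exact Subgroup.mul_mem _ (Subgroup.mul_mem _ (Subgroup.pow_mem _ hb j) ht)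
        (Subgroup.inv_mem _ (Subgroup.pow_mem _ hb j))
  · rw [Subgroup.closure_le]
    intro x hx
    simp only [Set.mem_insert_iff, Set.mem_singleton_iff] at hx
    have hb : b ∈ Subgroup.closure ({a, b, b ^ j * t * (b ^ j)⁻¹} : Set Γ) :=
      Subgroup.subset_closure (by simp)
    have ht : b ^ j * t * (b ^ j)⁻¹ ∈ Subgroup.closure ({a, b, b ^ j * t * (b ^ j)⁻¹} : Set Γ) :=
      Subgroup.subset_closure (by simp)
    rcases hx with rfl | rfl | rfl
    · exact Subgroup.subset_closure (by simp)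
    · exact hb
    · have e : (b ^ j)⁻¹ * (b ^ j * x * (b ^ j)⁻¹) * b ^ j = x := by group
      have hmem := Subgroup.mul_mem _ (Subgroup.mul_mem _
        (Subgroup.inv_mem _ (Subgroup.pow_mem _ hb j)) ht) (Subgroup.pow_mem _ hb j)
      rw [e] at hmem
      exact hmem

/-! ## Labelling -/

section labelling

variable {G X : Type*} [Group G] [MulAction G X]

def Emap (u : G) (p q : X) : Pt → X := fun o =>
  match o with
  | none => p
  | some i => u ^ (i : ℕ) • q

theorem Emap_bij [Fintype X] (hX : Fintype.card X = 20) {u : G} {p q : X} (hup : u • p = p)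
    (hqp : q ≠ p) (hfree : ∀ i : ℕ, 0 < i → i < 19 → u ^ i • q ≠ q) :
    Function.Bijective (Emap u p q) := by
  have hupow : ∀ i : ℕ, u ^ i • p = p := by
    intro i
    induction i with
    | zero => simp
    | succ n ih => rw [pow_succ, mul_smul, hup, ih]
  have key : ∀ i j : ℕ, i < j → j < 19 → u ^ i • q ≠ u ^ j • q := by
    intro i j hij hj h
    have e : u ^ j = u ^ i * u ^ (j - i) := by
      rw [← pow_add]; congr 1; omega
    rw [e, mul_smul] at h
    have h' := smul_left_cancel _ h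
    exact hfree (j - i) (by omega) (by omega) h'.symm
  have hinj : Function.Injective (Emap u p q) := by
    intro o1 o2 h
    match o1, o2 with
    | none, none => rfl
    | none, some j =>
      exfalso
      apply hqp
      have h1 : p = u ^ (j : ℕ) • q := h
      have h2 : u ^ (j : ℕ) • q = u ^ (j : ℕ) • p := by rw [hupow]; exact h1.symm
      exact smul_left_cancel _ h2
    | some i, none =>
      exfalso
      apply hqp
      have h1 : u ^ (i : ℕ) • q = p := h
      have h2 : u ^ (i : ℕ) • q = u ^ (i : ℕ) • p := by rw [hupow]; exact h1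
      exact smul_left_cancel _ h2
    | some i, some j =>
      have h1 : u ^ (i : ℕ) • q = u ^ (j : ℕ) • q := h
      congr 1
      apply Fin.ext
      rcases lt_trichotomy (i : ℕ) (j : ℕ) with hlt | heq | hgt
      · exact absurd h1 (key _ _ hlt j.2)
      · exact heq
      · exact absurd h1.symm (key _ _ hgt i.2)
  rw [Fintype.bijective_iff_injective_and_card]
  refine ⟨hinj, ?_⟩
  rw [hX]
  rfl

noncomputable def psi (Eq : Pt ≃ X) : G →* Equiv.Perm Pt where
  toFun g := (Eq.trans (MulAction.toPerm g)).trans Eq.symm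
  map_one' := by
    apply Equiv.ext
    intro o
    simp
  map_mul' g g' := by
    apply Equiv.ext
    intro o
    simp [mul_smul]

theorem psi_apply (Eq : Pt ≃ X) (g : G) (o : Pt) : psi Eq g o = Eq.symm (g • Eq o) := rfl

theorem psi_injective (Eq : Pt ≃ X) (hfaith : ∀ g : G, (∀ x : X, g • x = x) → g = 1) :
    Function.Injective (psi (G := G) Eq) := by
  rw [injective_iff_map_eq_one]
  intro g hg
  apply hfaith
  intro x
  have h := DFunLike.congr_fun hg (Eq.symm x)
  rw [psi_apply, Equiv.apply_symm_apply, Equiv.Perm.one_apply] at h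
  exact Eq.symm.injective h

theorem label_u (Eq : Pt ≃ X) {u : G} {p q : X} (hEq : ∀ o, Eq o = Emap u p q o)
    (hu7 : u ^ 19 = 1) (hup : u • p = p) : psi Eq u = Uperm := by
  apply Equiv.ext
  intro o
  rw [psi_apply, Equiv.symm_apply_eq, hEq, hEq]
  match o with
  | none => exact hup
  | some i =>
    show u • (u ^ (i : ℕ) • q) = u ^ ((i + 1 : Fin 19) : ℕ) • q
    rw [← mul_smul, ← pow_succ', Fin.val_add, Fin.val_one, ← pow_eq_pow_mod _ hu7]

theorem label_h (Eq : Pt ≃ X) {u h : G} {p q : X} (hEq : ∀ o, Eq o = Emap u p q o)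
    (hu7 : u ^ 19 = 1) (hhp : h • p = p) (hhq : h • q = q) (hhu : h * u * h⁻¹ = u ^ 4) :
    psi Eq h = Hperm := by
  apply Equiv.ext
  intro o
  rw [psi_apply, Equiv.symm_apply_eq, hEq, hEq]
  match o with
  | none => exact hhp
  | some i =>
    show h • (u ^ (i : ℕ) • q) = u ^ ((4 * i : Fin 19) : ℕ) • q
    have e : h * u ^ (i : ℕ) = (u ^ 4) ^ (i : ℕ) * h := by
      rw [← hhu, conj_pow, inv_mul_cancel_right]
    have h4 : ((4 : Fin 19) : ℕ) = 4 := rfl
    rw [← mul_smul, e, mul_smul, hhq, ← pow_mul, Fin.val_mul, h4, ← pow_eq_pow_mod _ hu7]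

end labelling


/-! ## the group theory -/

section main

variable {G : Type*} [Group G] [Finite G] [IsSimpleGroup G]

instance factP : Fact (Nat.Prime 19) := ⟨by norm_num⟩
instance factR : Fact (Nat.Prime 3) := ⟨by norm_num⟩

open Cfsg.Agent.Lib.Helper1 Cfsg.Agent.Lib.Helper7

set_option maxRecDepth 100000 in
theorem card_sylP (hG : Nat.card G = 3420) : Nat.card (Sylow 19 G) = 20 := by
  obtain ⟨P⟩ : Nonempty (Sylow 19 G) := inferInstance
  have hP : Nat.card (P : Subgroup G) = 19 :=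
    Syl15.sylow_card_eq_prime (by rw [hG]; norm_num) (by rw [hG]; norm_num) P
  have h1 : Nat.card (Sylow 19 G) % 19 = 1 % 19 := card_sylow_modEq_one 19 G
  have h3 : Nat.card (Sylow 19 G) ≠ 1 :=
    card_sylow_ne_one_of_simple P
      (subgroup_ne_bot_of_card _ (by rw [hP]; norm_num))
      (subgroup_ne_top_of_card _ (by rw [hP, hG]; norm_num))
  have h4 : Nat.card (Sylow 19 G) ∣ 180 := by
    have := Sylow.card_dvd_index P
    have hidx : (P : Subgroup G).index = 180 := by
      have := Subgroup.card_mul_index (P : Subgroup G)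
      rw [hP, hG] at this
      omega
    rwa [hidx] at this
  have h5 : Nat.card (Sylow 19 G) ≤ 180 := Nat.le_of_dvd (by norm_num) h4
  have key : ∀ n ≤ 180, n ∣ 180 → n % 19 = 1 % 19 → n ≠ 1 → n = 20 := by decide
  exact key _ h5 h4 h1 h3

theorem arith2 : ∀ k < 9, 4 ^ k % 19 = 4 % 19 → k = 1 := by
  decide

theorem arith3 : ∀ k < 9, k ≠ 0 → k ≠ 1 → 4 ^ (k * k) % 19 = 4 % 19 → k = 8 := by
  decide

set_option maxHeartbeats 3200000 in
theorem exists_iso (hG : Nat.card G = 3420) :
    Nonempty (G ≃* (Subgroup.closure ({Uperm, Hperm, Tc0} : Set (Equiv.Perm Pt)))) := by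
  classical
  letI : Fintype (Sylow 19 G) := Fintype.ofFinite _
  have hcardX : Fintype.card (Sylow 19 G) = 20 := by
    rw [← Nat.card_eq_fintype_card]; exact card_sylP hG
  have hS7 : ∀ Q : Sylow 19 G, Nat.card (Q : Subgroup G) = 19 := fun Q =>
    Syl15.sylow_card_eq_prime (by rw [hG]; norm_num) (by rw [hG]; norm_num) Q
  have hN21 : ∀ Q : Sylow 19 G,
      Nat.card (Subgroup.normalizer ((Q : Subgroup G) : Set G)) = 171 := by
    intro Q
    have := card_normalizer_mul_card_sylow Q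
    rw [hG, card_sylP hG] at this
    omega
  have hfix21 : ∀ (g : G) (Q : Sylow 19 G), g • Q = Q → g ^ 171 = 1 := by
    intro g Q hgQ
    have hmem : g ∈ Subgroup.normalizer ((Q : Subgroup G) : Set G) :=
      Sylow.smul_eq_iff_mem_normalizer.1 hgQ
    have := pow_card_eq_one' (G := Subgroup.normalizer ((Q : Subgroup G) : Set G)) (x := ⟨g, hmem⟩)
    rw [hN21 Q] at this
    exact congrArg Subtype.val this
  obtain ⟨P⟩ : Nonempty (Sylow 19 G) := inferInstance
  obtain ⟨u, huP, hu1⟩ := SylCyc.exists_mem_ne_one_of_card_prime P (hS7 P)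
  have hu7 : u ^ 19 = 1 := by
    have := pow_card_eq_one' (G := (P : Subgroup G)) (x := ⟨u, huP⟩)
    rw [hS7 P] at this
    exact congrArg Subtype.val this
  have horder : orderOf u = 19 := orderOf_eq_prime hu7 hu1
  have hzcard : ∀ g : G, orderOf g = 19 → ∀ Q : Sylow 19 G, g ∈ (Q : Subgroup G) →
      (Q : Subgroup G) = Subgroup.zpowers g := by
    intro g hg Q hgQ
    symm
    apply Subgroup.eq_of_le_of_card_ge
    · rw [Subgroup.zpowers_le]; exact hgQ
    · rw [hS7 Q, Nat.card_zpowers, hg]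
  have hPz := hzcard u horder P huP
  have hup : u • P = P := Sylow.smul_eq_iff_mem_normalizer.2 (Subgroup.le_normalizer huP)
  have hfree : ∀ Q : Sylow 19 G, Q ≠ P → ∀ i : ℕ, 0 < i → i < 19 → u ^ i • Q ≠ Q := by
    intro Q hQ i hi0 hi7 hfix
    have hg1 : u ^ i ≠ 1 := by
      intro h
      have := orderOf_dvd_of_pow_eq_one h
      rw [horder] at this
      exact absurd (Nat.le_of_dvd hi0 this) (by omega)
    have hg7 : (u ^ i) ^ 19 = 1 := by rw [← pow_mul, mul_comm, pow_mul, hu7, one_pow]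
    have hgo : orderOf (u ^ i) = 19 := orderOf_eq_prime hg7 hg1
    have hpg : IsPGroup 19 (Subgroup.zpowers (u ^ i)) := by
      apply IsPGroup.of_card (n := 1)
      rw [Nat.card_zpowers, hgo, pow_one]
    have hinf := hpg.inf_normalizer_sylow Q
    have hgQ : u ^ i ∈ (Q : Subgroup G) := by
      have h2 : u ^ i ∈ Subgroup.zpowers (u ^ i) ⊓ (Q : Subgroup G) := by
        rw [← hinf]
        exact ⟨Subgroup.mem_zpowers _, Sylow.smul_eq_iff_mem_normalizer.1 hfix⟩
      exact h2.2
    apply hQ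
    apply Sylow.ext
    rw [hzcard (u ^ i) hgo Q hgQ, hzcard (u ^ i) hgo P (Subgroup.pow_mem _ huP i)]
  -- a subgroup of order d inside N(P)
  obtain ⟨T0, hT0⟩ := Sylow.exists_subgroup_card_pow_prime
    (G := Subgroup.normalizer ((P : Subgroup G) : Set G)) 3 (n := 2)
    (by rw [hN21 P]; norm_num)
  obtain ⟨T, hTdef⟩ : ∃ T : Subgroup G,
      T = T0.map (Subgroup.normalizer ((P : Subgroup G) : Set G)).subtype := ⟨_, rfl⟩
  have hTcard : Nat.card T = 9 := by
    rw [hTdef, Subgroup.card_map_of_injective (Subgroup.subtype_injective _), hT0]; norm_num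
  have hTN : T ≤ Subgroup.normalizer ((P : Subgroup G) : Set G) := by
    rw [hTdef]; exact Subgroup.map_subtype_le T0
  have hTP : ∀ t ∈ T, t • P = P := fun t ht => Sylow.smul_eq_iff_mem_normalizer.2 (hTN ht)
  have hTpow : ∀ t ∈ T, t ^ 9 = 1 := by
    intro t ht
    have := pow_card_eq_one' (G := T) (x := ⟨t, ht⟩)
    rw [hTcard] at this
    exact congrArg Subtype.val this
  have hTpg : IsPGroup 3 T := IsPGroup.of_card (n := 2) (by rw [hTcard]; norm_num)
  obtain ⟨Q0, hQ0fix, hQ0P⟩ : ∃ Q0 : Sylow 19 G, (∀ t ∈ T, t • Q0 = Q0) ∧ Q0 ≠ P := by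
    by_contra hcon
    have hall : ∀ Q : Sylow 19 G, (∀ t ∈ T, t • Q = Q) → Q = P := by
      intro Q hQ
      by_contra hne
      exact hcon ⟨Q, hQ, hne⟩
    have hmod := hTpg.card_modEq_card_fixedPoints (Sylow 19 G)
    have hsub : MulAction.fixedPoints T (Sylow 19 G) ⊆ {P} := by
      intro Q hQ
      apply hall Q
      intro t ht
      exact hQ ⟨t, ht⟩
    have hle : Nat.card (MulAction.fixedPoints T (Sylow 19 G)) ≤ 1 := by
      have := Set.ncard_le_ncard hsub (Set.finite_singleton P)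
      rw [Set.ncard_singleton] at this
      rwa [Nat.card_coe_set_eq]
    rw [card_sylP hG] at hmod
    unfold Nat.ModEq at hmod
    omega
  -- faithfulness
  have hfaith : ∀ g : G, (∀ Q : Sylow 19 G, g • Q = Q) → g = 1 := by
    intro g hg
    have hker : g ∈ (MulAction.toPermHom G (Sylow 19 G)).ker := by
      rw [MonoidHom.mem_ker]
      apply Equiv.ext
      intro Q
      exact hg Q
    rcases Subgroup.Normal.eq_bot_or_eq_top
      (inferInstance : (MulAction.toPermHom G (Sylow 19 G)).ker.Normal) with hb | ht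
    · rw [hb, Subgroup.mem_bot] at hker; exact hker
    · exfalso
      have hu : u ∈ (MulAction.toPermHom G (Sylow 19 G)).ker := by
        rw [ht]; exact Subgroup.mem_top u
      rw [MonoidHom.mem_ker] at hu
      have h1 : u • Q0 = Q0 := DFunLike.congr_fun hu Q0
      exact hfree Q0 hQ0P 1 (by norm_num) (by norm_num) (by rw [pow_one]; exact h1)
  -- labelling
  have hbij := Emap_bij hcardX hup hQ0P (hfree Q0 hQ0P)
  obtain ⟨Eq, hEq⟩ : ∃ Eq : Pt ≃ Sylow 19 G, ∀ o, Eq o = Emap u P Q0 o :=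
    ⟨Equiv.ofBijective _ hbij, fun o => rfl⟩
  have hψu := label_u Eq hEq hu7 hup
  have hψinj := psi_injective (G := G) Eq hfaith
  have hEnone : Eq none = P := by rw [hEq]; rfl
  have hE0 : Eq (some 0) = Q0 := by
    rw [hEq]
    show u ^ ((0 : Fin 19) : ℕ) • Q0 = Q0
    simp
  -- the conjugation exponents of the elements of T
  have hconj_gen : ∀ (x : G) (m : ℕ), x * u * x⁻¹ = u ^ m →
      ∀ j : ℕ, x ^ j * u * (x ^ j)⁻¹ = u ^ (m ^ j) := by
    intro x m hx j
    induction j with
    | zero => simp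
    | succ j ih =>
      have e : x ^ (j + 1) * u * (x ^ (j + 1))⁻¹ = x * (x ^ j * u * (x ^ j)⁻¹) * x⁻¹ := by
        rw [pow_succ']
        simp only [mul_inv_rev, mul_assoc]
      rw [e, ih, ← conj_pow, hx, ← pow_mul, pow_succ']
  have hTex : ∀ t : T, ∃ m : ℕ, m < 19 ∧ (t : G) * u * (t : G)⁻¹ = u ^ m := by
    intro t
    have hmem : (t : G) * u * (t : G)⁻¹ ∈ (P : Subgroup G) :=
      ((Subgroup.mem_normalizer_iff.1 (hTN t.2)) u).1 huP
    rw [hPz, Subgroup.mem_zpowers_iff] at hmem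
    obtain ⟨k, hk⟩ := hmem
    have h0' := Int.emod_nonneg k (by norm_num : (19:ℤ) ≠ 0)
    have h7' := Int.emod_lt_of_pos k (by norm_num : (0:ℤ) < 19)
    refine ⟨(k % 19).toNat, by omega, ?_⟩
    rw [← hk, ← zpow_natCast, Int.toNat_of_nonneg h0']
    have := zpow_mod_orderOf u k
    rw [horder] at this
    exact this.symm
  choose mf hmf_lt hmf using hTex
  have hmfD : ∀ t : T, mf t ^ 9 % 19 = 1 % 19 := by
    intro t
    have e := hconj_gen (t : G) (mf t) (hmf t) 9
    rw [hTpow t t.2, one_mul, inv_one, mul_one] at e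
    have := (pow_eq_pow_iff_modEq (x := u) (n := 1) (m := mf t ^ 9)).1
      (by rw [pow_one]; exact e)
    rw [horder] at this
    exact this.symm
  have hmf_inj : Function.Injective mf := by
    intro t1 t2 h12
    have hc : Commute ((t1 : G)⁻¹ * (t2 : G)) u := by
      have h1 := hmf t1
      have h2 := hmf t2
      rw [h12] at h1
      have h3 : (t1 : G) * u * (t1 : G)⁻¹ = (t2 : G) * u * (t2 : G)⁻¹ := by rw [h1, h2]
      show (t1 : G)⁻¹ * (t2 : G) * u = u * ((t1 : G)⁻¹ * (t2 : G))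
      calc (t1 : G)⁻¹ * (t2 : G) * u = (t1 : G)⁻¹ * ((t2 : G) * u * (t2 : G)⁻¹) * (t2 : G) := by group
        _ = (t1 : G)⁻¹ * ((t1 : G) * u * (t1 : G)⁻¹) * (t2 : G) := by rw [h3]
        _ = u * ((t1 : G)⁻¹ * (t2 : G)) := by group
    have hc1 : (t1 : G)⁻¹ * (t2 : G) = 1 := by
      apply hfaith
      intro Q
      have hcP : ((t1 : G)⁻¹ * (t2 : G)) • P = P := by
        rw [mul_smul, hTP _ t2.2, inv_smul_eq_iff, hTP _ t1.2]
      have hcQ : ((t1 : G)⁻¹ * (t2 : G)) • Q0 = Q0 := by
        rw [mul_smul, hQ0fix _ t2.2, inv_smul_eq_iff, hQ0fix _ t1.2]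
      obtain ⟨o, rfl⟩ := Eq.surjective Q
      rw [hEq]
      match o with
      | none => exact hcP
      | some i =>
        show ((t1 : G)⁻¹ * (t2 : G)) • (u ^ (i : ℕ) • Q0) = u ^ (i : ℕ) • Q0
        rw [← mul_smul, (hc.pow_right (i : ℕ)).eq, mul_smul, hcQ]
    apply Subtype.ext
    exact inv_mul_eq_one.1 hc1
  haveI : Fintype T := Fintype.ofFinite _
  have hS9 : ((Finset.range 19).filter (fun m => m ^ 9 % 19 = 1 % 19)).card = 9 := by
    decide
  have himg : Finset.univ.image mf ⊆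
      (Finset.range 19).filter (fun m => m ^ 9 % 19 = 1 % 19) := by
    intro m hm
    rw [Finset.mem_image] at hm
    obtain ⟨t, -, rfl⟩ := hm
    rw [Finset.mem_filter, Finset.mem_range]
    exact ⟨hmf_lt t, hmfD t⟩
  have hcardimg : (Finset.univ.image mf).card = 9 := by
    rw [Finset.card_image_of_injective _ hmf_inj, Finset.card_univ, ← Nat.card_eq_fintype_card,
      hTcard]
  have himgeq := Finset.eq_of_subset_of_card_le himg (by rw [hcardimg, hS9])
  have h4mem : 4 ∈ (Finset.range 19).filter (fun m => m ^ 9 % 19 = 1 % 19) := by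
    decide
  rw [← himgeq, Finset.mem_image] at h4mem
  obtain ⟨t, -, ht⟩ := h4mem
  obtain ⟨h, hhdef⟩ : ∃ h : G, h = (t : G) := ⟨_, rfl⟩
  have hhT : h ∈ T := by rw [hhdef]; exact t.2
  have hhu : h * u * h⁻¹ = u ^ 4 := by rw [hhdef, hmf t, ht]
  have hh3 : h ^ 9 = 1 := hTpow h hhT
  have hhP : h • P = P := hTP h hhT
  have hhQ : h • Q0 = Q0 := hQ0fix h hhT
  have hhconj_iter : ∀ j : ℕ, h ^ j * u * (h ^ j)⁻¹ = u ^ (4 ^ j) :=
    hconj_gen h 4 hhu
  have hho : orderOf h = 9 := by
    apply orderOf_eq_of_pow_and_pow_div_prime (by norm_num) hh3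
    intro q hq hqd
    have hqR : q = 3 := by
      have hqd' : q ∣ 3 ^ 2 := by norm_num; exact hqd
      exact (Nat.prime_dvd_prime_iff_eq hq (by norm_num)).1 (hq.dvd_of_dvd_pow hqd')
    subst hqR
    intro h1
    have e := hhconj_iter (9 / 3)
    rw [h1, one_mul, inv_one, mul_one] at e
    have := (pow_eq_pow_iff_modEq (x := u) (n := 1) (m := 4 ^ (9 / 3))).1
      (by rw [pow_one]; exact e)
    rw [horder] at this
    revert this
    decide
  have hh1 : h ≠ 1 := by
    intro h1
    rw [h1, orderOf_one] at hho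
    norm_num at hho
  have hψh := label_h Eq hEq hu7 hhP hhQ hhu
  have hfixh : ∀ R : Sylow 19 G, h • R = R → R = P ∨ R = Q0 := by
    intro R hR
    obtain ⟨o, rfl⟩ := Eq.surjective R
    have : Hperm o = o := by
      rw [← hψh, psi_apply, hR, Equiv.symm_apply_apply]
    rcases Hperm_fix o this with rfl | rfl
    · left; exact hEnone
    · right; exact hE0
  -- elements of N(P) normalizing ⟨h⟩ centralize h
  have hcentN : ∀ x : G, x ∈ Subgroup.normalizer ((P : Subgroup G) : Set G) → ∀ k : ℕ,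
      x * h * x⁻¹ = h ^ k → 4 ^ k % 19 = 4 % 19 := by
    intro x hx k hk
    have hxinv : x⁻¹ ∈ Subgroup.normalizer ((P : Subgroup G) : Set G) := Subgroup.inv_mem _ hx
    have hv : x⁻¹ * u * x⁻¹⁻¹ ∈ (P : Subgroup G) :=
      ((Subgroup.mem_normalizer_iff.1 hxinv) u).1 huP
    rw [hPz, Subgroup.mem_zpowers_iff] at hv
    obtain ⟨b, hb⟩ := hv
    have e1 : h * (u ^ b) * h⁻¹ = (u ^ b) ^ 4 := by
      rw [← conj_zpow, hhu]
      rw [← zpow_natCast (u ^ b) 4, ← zpow_natCast u 4, ← zpow_mul, ← zpow_mul, mul_comm]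
    have e2 : x * (u ^ b) * x⁻¹ = u := by
      rw [hb]; group
    have e3 : (x * h * x⁻¹) * u * (x * h * x⁻¹)⁻¹ = u ^ 4 := by
      have : (x * h * x⁻¹) * u * (x * h * x⁻¹)⁻¹ = x * (h * (x⁻¹ * u * x⁻¹⁻¹) * h⁻¹) * x⁻¹ := by
        group
      rw [this, ← hb, e1, ← conj_pow, e2]
    rw [hk, hhconj_iter] at e3
    have := (pow_eq_pow_iff_modEq (x := u) (n := 4 ^ k) (m := 4)).1 e3
    rw [horder] at this
    exact this
  -- Burnside for the prime d
  have hpz : IsPGroup 3 (Subgroup.zpowers h) := by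
    apply IsPGroup.of_card (n := 2); rw [Nat.card_zpowers, hho]; norm_num
  obtain ⟨S3, hS3⟩ := hpz.exists_le_sylow
  have hS3c : Nat.card (S3 : Subgroup G) = 9 := by
    obtain ⟨k, hk⟩ := IsPGroup.iff_card.mp S3.isPGroup'
    have h1 : 9 ∣ Nat.card (S3 : Subgroup G) := by
      have := Subgroup.card_dvd_of_le hS3
      rwa [Nat.card_zpowers, hho] at this
    have h2 : Nat.card (S3 : Subgroup G) ∣ 3420 := by
      have := Subgroup.card_subgroup_dvd_card (S3 : Subgroup G)
      rwa [hG] at this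
    rw [hk] at h1 h2 ⊢
    have hkE : k ≤ 2 := by
      by_contra hlt
      have h3 : 3 ^ (2 + 1) ∣ 3 ^ k := pow_dvd_pow _ (by omega)
      have h4 := h3.trans h2
      norm_num at h4
    have hEk : 2 ≤ k := by
      by_contra hlt
      have hle : 3 ^ k ∣ 3 ^ (2 - 1) := pow_dvd_pow _ (by omega)
      have h5 := Nat.le_of_dvd (by norm_num) (h1.trans hle)
      norm_num at h5
    have hkeq : k = 2 := by omega
    rw [hkeq]; norm_num
  have hS3z : (S3 : Subgroup G) = Subgroup.zpowers h := by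
    symm
    apply Subgroup.eq_of_le_of_card_ge hS3
    rw [hS3c, Nat.card_zpowers, hho]
  have hnot : ¬ (Subgroup.normalizer ((S3 : Subgroup G) : Set G)
      ≤ Subgroup.centralizer ((S3 : Subgroup G) : Set G)) := by
    intro hle
    have htop := sylow_eq_top_of_normalizer_le_centralizer S3 hle
      (subgroup_ne_bot_of_card _ (by rw [hS3c]; norm_num))
    have := hS3c
    rw [htop, Subgroup.card_top, hG] at this
    norm_num at this
  obtain ⟨s0, hs0N, hs0C⟩ := SetLike.not_le_iff_exists.1 hnot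
  -- s0 h s0⁻¹ = h ^ kn
  obtain ⟨kn, hkn, hs0k⟩ : ∃ kn : ℕ, kn < 9 ∧ s0 * h * s0⁻¹ = h ^ kn := by
    have hmem : s0 * h * s0⁻¹ ∈ (S3 : Subgroup G) :=
      ((Subgroup.mem_normalizer_iff.1 hs0N) h).1 (hS3 (Subgroup.mem_zpowers h))
    rw [hS3z, Subgroup.mem_zpowers_iff] at hmem
    obtain ⟨k, hk⟩ := hmem
    have h0' := Int.emod_nonneg k (by norm_num : (9:ℤ) ≠ 0)
    have h7' := Int.emod_lt_of_pos k (by norm_num : (0:ℤ) < 9)
    refine ⟨(k % 9).toNat, by omega, ?_⟩
    rw [← hk, ← zpow_natCast, Int.toNat_of_nonneg h0']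
    have := zpow_mod_orderOf h k
    rw [hho] at this
    exact this.symm
  have hkn0 : kn ≠ 0 := by
    rintro rfl
    rw [pow_zero] at hs0k
    apply hh1
    have e1 : h = s0⁻¹ * (s0 * h * s0⁻¹) * s0 := by group
    rw [e1, hs0k]; group
  have hkn1 : kn ≠ 1 := by
    rintro rfl
    rw [pow_one] at hs0k
    apply hs0C
    rw [Subgroup.mem_centralizer_iff]
    intro y hy
    rw [SetLike.mem_coe, hS3z, Subgroup.mem_zpowers_iff] at hy
    obtain ⟨b, rfl⟩ := hy
    have hc : Commute s0 h := mul_inv_eq_iff_eq_mul.1 hs0k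
    exact ((hc.zpow_right b).eq).symm
  -- s0 moves P
  have hs0P' : s0 • P ≠ P := by
    intro hfix
    have := hcentN s0 (Sylow.smul_eq_iff_mem_normalizer.1 hfix) kn hs0k
    exact hkn1 (arith2 kn hkn this)
  -- s0 permutes the fixed points of h
  have hs0Fix : ∀ R : Sylow 19 G, h • R = R → h • (s0 • R) = s0 • R := by
    intro R hR
    have hs0inv : s0⁻¹ ∈ Subgroup.normalizer ((S3 : Subgroup G) : Set G) := Subgroup.inv_mem _ hs0N
    have hmem : s0⁻¹ * h * s0⁻¹⁻¹ ∈ (S3 : Subgroup G) :=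
      ((Subgroup.mem_normalizer_iff.1 hs0inv) h).1 (hS3 (Subgroup.mem_zpowers h))
    rw [hS3z, Subgroup.mem_zpowers_iff] at hmem
    obtain ⟨z, hz⟩ := hmem
    have hstab : h ∈ MulAction.stabilizer G R := MulAction.mem_stabilizer_iff.2 hR
    have hzfix : (h ^ z) • R = R := MulAction.mem_stabilizer_iff.1 (Subgroup.zpow_mem _ hstab z)
    have e : h * s0 = s0 * (s0⁻¹ * h * s0⁻¹⁻¹) := by group
    rw [← mul_smul, e, ← hz, mul_smul, hzfix]
  have hs0P : s0 • P = Q0 := by
    rcases hfixh (s0 • P) (hs0Fix P hhP) with h' | h'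
    · exact absurd h' hs0P'
    · exact h'
  have hs0Q : s0 • Q0 = P := by
    rcases hfixh (s0 • Q0) (hs0Fix Q0 hhQ) with h' | h'
    · exact h'
    · exfalso
      apply hQ0P
      have : s0 • Q0 = s0 • P := by rw [h', hs0P]
      exact smul_left_cancel _ this
  -- kn = d - 1
  have hknD : kn = 8 := by
    have hfix : (s0 * s0) • P = P := by rw [mul_smul, hs0P, hs0Q]
    have hk2 : (s0 * s0) * h * (s0 * s0)⁻¹ = h ^ (kn * kn) := by
      have e : (s0 * s0) * h * (s0 * s0)⁻¹ = s0 * (s0 * h * s0⁻¹) * s0⁻¹ := by group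
      rw [e, hs0k, ← conj_pow, hs0k, ← pow_mul]
    have := hcentN (s0 * s0) (Sylow.smul_eq_iff_mem_normalizer.1 hfix) (kn * kn) hk2
    exact arith3 kn hkn hkn0 hkn1 this
  have hs0h : s0 * h * s0⁻¹ = h⁻¹ := by
    rw [hs0k, hknD]
    apply eq_inv_of_mul_eq_one_left
    rw [← pow_succ]
    exact hh3
  have hc2 : Commute (s0 ^ 2) h := by
    have : s0 ^ 2 * h * (s0 ^ 2)⁻¹ = h := by
      have e : s0 ^ 2 * h * (s0 ^ 2)⁻¹ = s0 * (s0 * h * s0⁻¹) * s0⁻¹ := by
        simp only [pow_succ, pow_zero, one_mul, mul_inv_rev, mul_assoc]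
      rw [e, hs0h]
      have e2 : s0 * h⁻¹ * s0⁻¹ = (s0 * h * s0⁻¹)⁻¹ := by group
      rw [e2, hs0h, inv_inv]
    exact mul_inv_eq_iff_eq_mul.1 this
  obtain ⟨s, hs⟩ : ∃ s : G, s = s0 ^ 855 := ⟨_, rfl⟩
  have hsh : s * h * s⁻¹ = h⁻¹ := by
    have e : s = (s0 ^ 2) ^ 427 * s0 := by rw [hs, ← pow_mul, ← pow_succ]
    have hc : Commute ((s0 ^ 2) ^ 427) h⁻¹ := (hc2.pow_left 427).inv_right
    rw [e]
    calc (s0 ^ 2) ^ 427 * s0 * h * ((s0 ^ 2) ^ 427 * s0)⁻¹
        = (s0 ^ 2) ^ 427 * (s0 * h * s0⁻¹) * ((s0 ^ 2) ^ 427)⁻¹ := by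
          simp only [mul_inv_rev, mul_assoc]
      _ = (s0 ^ 2) ^ 427 * h⁻¹ * ((s0 ^ 2) ^ 427)⁻¹ := by rw [hs0h]
      _ = h⁻¹ := by rw [hc.eq, mul_inv_cancel_right]
  have hs8 : s ^ 4 = 1 := by
    rw [hs, ← pow_mul]
    have := pow_card_eq_one' (G := G) (x := s0)
    rw [hG] at this
    exact this
  have hsh' : s⁻¹ * h * s = h⁻¹ := by
    have e1 : h = s⁻¹ * h⁻¹ * s := by rw [← hsh]; group
    calc s⁻¹ * h * s = (s⁻¹ * h⁻¹ * s)⁻¹ := by group
      _ = h⁻¹ := by rw [← e1]
  have hsFix : ∀ R : Sylow 19 G, h • R = R → h • (s • R) = s • R := by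
    intro R hR
    have e1 : h * s = s * h⁻¹ := by
      calc h * s = s * (s⁻¹ * h * s) := by group
        _ = s * h⁻¹ := by rw [hsh']
    have e2 : h⁻¹ • R = R := by rw [inv_smul_eq_iff, hR]
    rw [← mul_smul, e1, mul_smul, e2]
  have hsne1 : s ≠ 1 := by
    intro h1
    rw [h1] at hsh
    have e1 : h = h⁻¹ := by simpa using hsh
    have hh2 : h * h = 1 := mul_eq_one_iff_eq_inv.2 e1
    have hh2' : h ^ 2 = 1 := by rw [pow_two]; exact hh2
    apply hh1
    calc h = h ^ 9 * ((h ^ 2) ^ 4)⁻¹ := by group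
      _ = 1 := by rw [hh3, hh2']; simp
  have hsmove : ∀ R : Sylow 19 G, s • R ≠ R := by
    intro R hR
    have h21 := hfix21 s R hR
    apply hsne1
    calc s = (s ^ 4) ^ 43 * ((s ^ 171) ^ 1)⁻¹ := by group
      _ = 1 := by rw [hs8, h21]; simp
  have hsP : s • P = Q0 := by
    rcases hfixh (s • P) (hsFix P hhP) with h' | h'
    · exact absurd h' (hsmove P)
    · exact h'
  have hsQ : s • Q0 = P := by
    rcases hfixh (s • Q0) (hsFix Q0 hhQ) with h' | h'
    · exact h'
    · exact absurd h' (hsmove Q0)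
  have hs2 : s * s = 1 := by
    have hfix : (s * s) • P = P := by rw [mul_smul, hsP, hsQ]
    have h21 := hfix21 (s * s) P hfix
    have h21' : (s ^ 2) ^ 171 = 1 := by rw [pow_two]; exact h21
    calc s * s = s ^ 2 := (pow_two s).symm
      _ = (s ^ 2) ^ 171 * ((s ^ 4) ^ 85)⁻¹ := by group
      _ = 1 := by rw [h21', hs8]; simp
  -- the image of s
  have hπ0 : psi Eq s none = some 0 := by
    rw [psi_apply, hEnone, hsP, Equiv.symm_apply_eq, hE0]
  have hπ2 : psi Eq s * psi Eq s = 1 := by rw [← map_mul, hs2, map_one]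
  have hπrel : psi Eq s * Hperm * (psi Eq s)⁻¹ = Hperm⁻¹ := by
    rw [← hψh, ← map_inv, ← map_mul, ← map_mul, hsh, map_inv]
  have hπfpf : ∀ o, psi Eq s o ≠ o := by
    intro o ho
    rw [psi_apply, Equiv.symm_apply_eq] at ho
    exact hsmove _ ho
  obtain ⟨jj, hπ⟩ := lemmaD (psi Eq s) hπ0 hπ2 hπrel hπfpf
  -- generation
  have hgen : Subgroup.closure ({u, h, s} : Set G) = ⊤ := by
    have huM : u ∈ Subgroup.closure ({u, h, s} : Set G) := Subgroup.subset_closure (by simp)
    have hhM : h ∈ Subgroup.closure ({u, h, s} : Set G) := Subgroup.subset_closure (by simp)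
    have hsM : s ∈ Subgroup.closure ({u, h, s} : Set G) := Subgroup.subset_closure (by simp)
    have hso : orderOf s = 2 := orderOf_eq_prime (by rw [pow_two]; exact hs2) hsne1
    have d7 : 19 ∣ Nat.card (Subgroup.closure ({u, h, s} : Set G)) := by
      have := orderOf_dvd_natCard (⟨u, huM⟩ : Subgroup.closure ({u, h, s} : Set G))
      have e := Subgroup.orderOf_mk (H := Subgroup.closure ({u, h, s} : Set G)) u huM
      rw [e, horder] at this
      exact this
    have d3 : 9 ∣ Nat.card (Subgroup.closure ({u, h, s} : Set G)) := by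
      have := orderOf_dvd_natCard (⟨h, hhM⟩ : Subgroup.closure ({u, h, s} : Set G))
      have e := Subgroup.orderOf_mk (H := Subgroup.closure ({u, h, s} : Set G)) h hhM
      rw [e, hho] at this
      exact this
    have d2 : 2 ∣ Nat.card (Subgroup.closure ({u, h, s} : Set G)) := by
      have := orderOf_dvd_natCard (⟨s, hsM⟩ : Subgroup.closure ({u, h, s} : Set G))
      have e := Subgroup.orderOf_mk (H := Subgroup.closure ({u, h, s} : Set G)) s hsM
      rw [e, hso] at this
      exact this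
    have hci := Subgroup.card_mul_index (Subgroup.closure ({u, h, s} : Set G))
    rw [hG] at hci
    by_contra hne
    have hfac := card_dvd_factorial_index_of_simple _ hne
    rw [hG] at hfac
    have hbig : 342 ∣ Nat.card (Subgroup.closure ({u, h, s} : Set G)) := by omega
    obtain ⟨k, hk⟩ := hbig
    rw [hk] at hci
    have hki : k * (Subgroup.closure ({u, h, s} : Set G)).index = 10 := by
      have : 342 * (k * (Subgroup.closure ({u, h, s} : Set G)).index) = 342 * 10 := by
        rw [← mul_assoc]; exact hci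
      exact Nat.eq_of_mul_eq_mul_left (by norm_num) this
    have hidvd : (Subgroup.closure ({u, h, s} : Set G)).index ∣ 10 :=
      ⟨k, by rw [mul_comm]; exact hki.symm⟩
    have hile : (Subgroup.closure ({u, h, s} : Set G)).index ≤ 10 :=
      Nat.le_of_dvd (by norm_num) hidvd
    have hpd : 19 ∣ ((Subgroup.closure ({u, h, s} : Set G)).index).factorial :=
      Dvd.dvd.trans (by norm_num) hfac
    have := (Nat.Prime.dvd_factorial (by norm_num : Nat.Prime 19)).1 hpd
    omega
  have hrange : (psi (G := G) Eq).range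
      = Subgroup.closure ({Uperm, Hperm, psi Eq s} : Set (Equiv.Perm Pt)) := by
    rw [MonoidHom.range_eq_map, ← hgen, MonoidHom.map_closure]
    congr 1
    rw [Set.image_insert_eq, Set.image_insert_eq, Set.image_singleton, hψu, hψh]
  have hL : Subgroup.closure ({Uperm, Hperm, psi Eq s} : Set (Equiv.Perm Pt))
      = Subgroup.closure ({Uperm, Hperm, Tc0} : Set (Equiv.Perm Pt)) := by
    rw [hπ]
    exact closure_conj Uperm Hperm Tc0 jj
  exact ⟨(MonoidHom.ofInjective hψinj).trans (MulEquiv.subgroupCongr (hrange.trans hL))⟩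

end main

theorem psl_simple_card {F : Type*} [Field F] [Fintype F] (hF : Fintype.card F = 19) :
    IsSimpleGroup (Matrix.ProjectiveSpecialLinearGroup (Fin 2) F) ∧
      Nat.card (Matrix.ProjectiveSpecialLinearGroup (Fin 2) F) = 3420 := by
  constructor
  · exact Matrix.ProjectiveSpecialLinearGroup.rank_two_simple (by
      rw [Nat.card_eq_fintype_card, hF]; norm_num)
  · have h := Cfsg.Agent.Lib.Helper1.card_PSL2 F
    rw [hF] at h
    have h2 : Nat.gcd 2 (19 - 1) = 2 := by decide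
    rw [h2] at h
    omega

theorem iso_of_simple {G₁ G₂ : Type*} [Group G₁] [Finite G₁] [IsSimpleGroup G₁]
    [Group G₂] [Finite G₂] [IsSimpleGroup G₂] (h₁ : Nat.card G₁ = 3420)
    (h₂ : Nat.card G₂ = 3420) : Nonempty (G₁ ≃* G₂) := by
  obtain ⟨e₁⟩ := exists_iso h₁
  obtain ⟨e₂⟩ := exists_iso h₂
  exact ⟨e₁.trans e₂.symm⟩

/-- A simple group of order 3420 is isomorphic to the projective special linear group of dimension 2 over the field with 19 elements. -/
theorem result {G : Type*} [Group G] [Finite G] [IsSimpleGroup G] (h : Nat.card G = 3420) {F : Type*} [Field F] [Fintype F] (hF : Fintype.card F = 19) : Nonempty (G ≃* Matrix.ProjectiveSpecialLinearGroup (Fin 2) F) := by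
  obtain ⟨hs, hc⟩ := psl_simple_card hF
  haveI := hs
  exact iso_of_simple h hc

end Cfsg.Agent.S1021
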