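import Cfsg.Statements.S1024
import Cfsg.Agent.Lib.Helper2.ChevNeg

set_option autoImplicit false
open Cfsg

namespace Cfsg.Agent.S1024

open Cfsg.Agent.Lib.Helper2 Cfsg.Lie

theorem chainCoeff_pos (D : ChevalleyDatum) (r s u : ℕ) :
    ∀ km ∈ D.chainCoeff r s u, km.1 ≠ 0 := by
  intro km hkm
  unfold ChevalleyDatum.chainCoeff at hkm
  rw [List.mem_flatMap] at hkm
  obtain ⟨e, -, he⟩ := hkm
  rw [List.mem_map] at he
  obtain ⟨q, -, rfl⟩ := he
  exact Nat.succ_ne_zero _

theorem xMat_zero (D : ChevalleyDatum) (F : Type*) [Field F] (r : Fin D.nroots) :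
    D.xMat F r 0 = 1 := by
  ext row col
  rw [ChevalleyDatum.xMat, Matrix.of_apply, Matrix.one_apply]
  rcases col with i | s
  · rcases row with i' | u
    · simp
    · simp
  · by_cases hs : s = r
    · subst hs
      rcases row with i' | u
      · simp
      · simp
    · by_cases hs2 : s.val = D.negIdx.getD r.val 0
      · rcases row with i' | u
        · simp [hs]
        · by_cases hu : u = s
          · subst hu; simp [hs, hs2]
          · by_cases hur : u = r
            · subst hur; simp [hs, hs2, hu]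
            · simp [hs, hs2, hu, hur]
      · rcases row with i' | u
        · simp [hs, hs2]
        · simp only [hs, hs2, if_false]
          have hsum : ((D.chainCoeff r.val s.val u.val).map
              fun km => ((km.2 : ℤ) : F) * (0 : F) ^ km.1).sum = 0 := by
            apply List.sum_eq_zero
            intro x hx
            obtain ⟨km, hkm, rfl⟩ := List.mem_map.1 hx
            rw [zero_pow (chainCoeff_pos D _ _ _ km hkm), mul_zero]
          rw [hsum, add_zero]
          by_cases hu : u = s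
          · subst hu; simp
          · simp [hu]

/-- `x_r(0) = 1`, and `x_r(t) = 1` forces `t = 0`: the map `t ↦ x_r(t)` is injective. -/
theorem result {F : Type*} [Field F] (D : Cfsg.Lie.ChevalleyDatum) (hD : D ∈ [Cfsg.Lie.chevG2, Cfsg.Lie.chevB2, Cfsg.Lie.chevD4, Cfsg.Lie.chevF4, Cfsg.Lie.chevE6, Cfsg.Lie.chevE7, Cfsg.Lie.chevE8]) (r : ℕ) (hr : r < D.nroots) (t : F) :
    D.x F r t = 1 ↔ t = 0 := by
  rw [ChevalleyDatum.x, dif_pos hr]
  constructor
  · intro h
    obtain ⟨hn1, hn2⟩ := negok_of_mem D hD r hr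
    have hent := congrFun (congrFun h (Sum.inr ⟨r, hr⟩)) (Sum.inr ⟨D.negIdx.getD r 0, hn1⟩)
    have hne : (⟨D.negIdx.getD r 0, hn1⟩ : Fin D.nroots) ≠ ⟨r, hr⟩ := by
      intro h'
      exact hn2 (congrArg Fin.val h')
    rw [ChevalleyDatum.xMat, Matrix.of_apply, Matrix.one_apply] at hent
    simp only [hne, if_false] at hent
    have hne' : (⟨r, hr⟩ : Fin D.nroots) ≠ ⟨D.negIdx.getD r 0, hn1⟩ := Ne.symm hne
    have hne'' : ¬ r = D.negIdx[r]?.getD 0 := fun h' => hn2 (by simpa using h'.symm)
    simp [hne''] at hent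
    exact hent
  · rintro rfl
    exact xMat_zero D F ⟨r, hr⟩

end Cfsg.Agent.S1024
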