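import Cfsg.Statements.S1080
import Cfsg.Agent.S1024
import Mathlib

set_option autoImplicit false
open Cfsg

namespace Cfsg.Agent.S1080

open Cfsg.Lie

theorem xMat_map (D : ChevalleyDatum) {F : Type*} [Field F] (f : F ≃+* F) (r : Fin D.nroots) (t : F) :
    (D.xMat F r t).map f = D.xMat F r (f t) := by
  ext row col
  rw [Matrix.map_apply, ChevalleyDatum.xMat, ChevalleyDatum.xMat, Matrix.of_apply, Matrix.of_apply]
  rcases col with i | s
  · rcases row with i' | u
    · by_cases h : i' = i <;> simp [h]
    · by_cases h : u = r <;> simp [h]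
  · by_cases hs : s = r
    · rcases row with i' | u
      · simp [hs]
      · by_cases h : u = r <;> simp [hs, h]
    · by_cases hs2 : s.val = D.negIdx.getD r.val 0
      · rcases row with i' | u
        · simp only [hs, hs2, if_false, if_true]
          simp
        · simp only [hs, hs2, if_false, if_true]
          by_cases hu : u = s
          · simp [hu]
          · by_cases hur : u = r
            · subst hur
              have hne : ¬ u = s := hu
              simp [hne]
            · simp [hu, hur]
      · rcases row with i' | u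
        · have hs2' : ¬ (s : ℕ) = D.negIdx[(r : ℕ)]?.getD 0 := by simpa using hs2
          simp [hs, hs2']
        · simp only [hs, hs2, if_false]
          rw [map_add, map_list_sum, List.map_map]
          congr 1
          · by_cases hu : u = s <;> simp [hu]
          · congr 1
            apply List.map_congr_left
            intro km _
            simp

/-- the entrywise automorphism of GL -/
noncomputable def glMap (D : ChevalleyDatum) {F : Type*} [Field F] (f : F ≃+* F) :
    GL D.Idx F ≃* GL D.Idx F :=
  Units.mapEquiv (RingEquiv.mapMatrix f).toMulEquiv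

theorem glMap_coe (D : ChevalleyDatum) {F : Type*} [Field F] (f : F ≃+* F) (g : GL D.Idx F) :
    ((glMap D f g : GL D.Idx F) : Matrix D.Idx D.Idx F) = (g : Matrix D.Idx D.Idx F).map f := rfl

theorem map_group (D : ChevalleyDatum) {F : Type*} [Field F] (f : F ≃+* F) :
    (D.group F).map (glMap D f).toMonoidHom = D.group F := by
  unfold ChevalleyDatum.group
  rw [MonoidHom.map_closure]
  congr 1
  ext g
  constructor
  · rintro ⟨g0, ⟨r, t, hg0⟩, rfl⟩
    refine ⟨r, f t, ?_⟩
    show ((glMap D f g0 : GL D.Idx F) : Matrix D.Idx D.Idx F) = _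
    rw [glMap_coe, hg0, xMat_map]
  · rintro ⟨r, t, hg⟩
    refine ⟨(glMap D f).symm g, ⟨r, f.symm t, ?_⟩, ?_⟩
    · have h1 : ((glMap D f ((glMap D f).symm g) : GL D.Idx F) : Matrix D.Idx D.Idx F)
          = D.xMat F r t := by rw [MulEquiv.apply_symm_apply]; exact hg
      rw [glMap_coe] at h1
      have h2 := xMat_map D f r (f.symm t)
      rw [RingEquiv.apply_symm_apply, ← h1] at h2
      -- injectivity of map f
      ext i j
      have := congrFun (congrFun h2 i) j
      simp only [Matrix.map_apply] at this
      exact (f.injective this).symm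
    · show (glMap D f) ((glMap D f).symm g) = g
      rw [MulEquiv.apply_symm_apply]

/-- Field automorphisms: for every field automorphism `f` there is a group automorphism sending each `x_r(t)` to `x_r(f t)`. -/
theorem result {F : Type*} [Field F] (D : Cfsg.Lie.ChevalleyDatum) (hD : D ∈ [Cfsg.Lie.chevG2, Cfsg.Lie.chevB2, Cfsg.Lie.chevD4, Cfsg.Lie.chevF4, Cfsg.Lie.chevE6, Cfsg.Lie.chevE7, Cfsg.Lie.chevE8]) (f : F ≃+* F) :
    ∃ α : ↥(D.group F) ≃* ↥(D.group F), ∀ (g : ↥(D.group F)) (r : ℕ) (t : F), r < D.nroots →
      ((g : GL D.Idx F) : Matrix D.Idx D.Idx F) = D.x F r t → ((α g : GL D.Idx F) : Matrix D.Idx D.Idx F) = D.x F r (f t) := by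
  refine ⟨((glMap D f).subgroupMap (D.group F)).trans (MulEquiv.subgroupCongr (map_group D f)), ?_⟩
  intro g r t hr hg
  show ((glMap D f (g : GL D.Idx F) : GL D.Idx F) : Matrix D.Idx D.Idx F) = _
  rw [glMap_coe, hg, ChevalleyDatum.x, ChevalleyDatum.x, dif_pos hr, dif_pos hr, xMat_map]

end Cfsg.Agent.S1080
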