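import Mathlib
import Cfsg.Statements.S1118
import Cfsg.Agent.Lib.Helper7.R1Setup

set_option autoImplicit false
open Cfsg

namespace Cfsg.Agent.S1118

open Cfsg.Agent.Lib.Helper7.R1

/-- In the rank-one set-up (`G` finite and doubly transitive on `Ω`, `t` an involution moving `a`, `Q` normal in `G_a` with `G_a = Q D`, `Q ⊓ D = 1` for the two-point stabiliser `D = G_a ⊓ G_{t • a}`, `|Q|` even, `|D|` odd), the normaliser of a subset of `Q` containing a non-identity element lies in `G_a`; consequently `N_G(Q) = N_G(G_a) = G_a`. -/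
theorem result {G Ω : Type*} [Group G] [Finite G] [MulAction G Ω] {a : Ω} {t : G} {Q : Subgroup G}
    (hS : Cfsg.IsRankOneSetup G Ω a t Q) :
    (∀ X : Set G, X ⊆ (Q : Set G) → (∃ x ∈ X, x ≠ 1) → Subgroup.normalizer X ≤ MulAction.stabilizer G a) ∧
      Subgroup.normalizer (Q : Set G) = MulAction.stabilizer G a ∧
      Subgroup.normalizer (MulAction.stabilizer G a : Set G) = MulAction.stabilizer G a := by
  classical
  have h1 : ∀ X : Set G, X ⊆ (Q : Set G) → (∃ x ∈ X, x ≠ 1) → Subgroup.normalizer X ≤ MulAction.stabilizer G a := by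
    intro X hXQ ⟨x, hxX, hx1⟩ g hg
    rw [MulAction.mem_stabilizer_iff]
    by_contra hga
    have hgx : g * x * g⁻¹ ∈ X := (Subgroup.mem_set_normalizer_iff.1 hg x).1 hxX
    have hfix : (g * x * g⁻¹) • (g • a) = g • a := by
      rw [mul_smul, mul_smul, inv_smul_smul, Q_fix_a hS (hXQ hxX)]
    have := Q_free hS (hXQ hgx) hga hfix
    apply hx1
    have h2 : x = g⁻¹ * (g * x * g⁻¹) * g := by group
    rw [h2, this]; group
  refine ⟨h1, ?_, ?_⟩
  · apply le_antisymm
    · exact h1 (Q : Set G) le_rfl (by
        obtain ⟨x, hx, hx1⟩ := Q_ne_bot hS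
        exact ⟨x, hx, hx1⟩)
    · exact H_le_normalizer hS
  · apply le_antisymm
    · intro g hg
      rw [MulAction.mem_stabilizer_iff]
      by_contra hga
      obtain ⟨x, hx, hx1⟩ := Q_ne_bot hS
      have hgx : g * x * g⁻¹ ∈ MulAction.stabilizer G a :=
        (Subgroup.mem_normalizer_iff.1 hg x).1 (hS.le hx)
      rw [MulAction.mem_stabilizer_iff, mul_smul, mul_smul] at hgx
      have hne : g⁻¹ • a ≠ a := by
        intro h
        apply hga
        have := congrArg (g • ·) h
        simpa using this.symm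
      have hfix : x • (g⁻¹ • a) = g⁻¹ • a := by
        have := congrArg (g⁻¹ • ·) hgx
        simpa using this
      exact hx1 (Q_free hS hx hne hfix)
    · exact Subgroup.le_normalizer

end Cfsg.Agent.S1118
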