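import Mathlib
import Cfsg.Statements.S1119
import Cfsg.Agent.Lib.Helper7.R1Setup

set_option autoImplicit false
open Cfsg

namespace Cfsg.Agent.S1119

open Cfsg.Agent.Lib.Helper7.R1

/-- In the rank-one set-up (`G` finite and doubly transitive on `Ω`, `t` an involution moving `a`, `Q` normal in `G_a` with `G_a = Q D`, `Q ⊓ D = 1` for the two-point stabiliser `D = G_a ⊓ G_{t • a}`, `|Q|` even, `|D|` odd): `Q` acts regularly on `Ω` minus `a`; hence `|Ω| = |Q| + 1`, `|G| = |Q| |D| (|Q| + 1)`, some Sylow 2-subgroup of `G` lies in `Q`, and each `g ∉ G_a` is uniquely `x t y` with `x ∈ G_a`, `y ∈ Q` (canonical form). -/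
theorem result {G Ω : Type*} [Group G] [Finite G] [MulAction G Ω] {a : Ω} {t : G} {Q : Subgroup G}
    (hS : Cfsg.IsRankOneSetup G Ω a t Q) :
    (∀ b c : Ω, b ≠ a → c ≠ a → ∃! x : Q, (x : G) • b = c) ∧
      Nat.card Ω = Nat.card Q + 1 ∧
      Nat.card G = Nat.card Q * Nat.card ↥(MulAction.stabilizer G a ⊓ MulAction.stabilizer G (t • a)) * (Nat.card Q + 1) ∧
      (∃ P : Sylow 2 G, (P : Subgroup G) ≤ Q) ∧
      ∀ g : G, g ∉ MulAction.stabilizer G a → ∃! p : G × G, p.1 ∈ MulAction.stabilizer G a ∧ p.2 ∈ Q ∧ g = p.1 * t * p.2 := by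
  classical
  haveI : Fact (Nat.Prime 2) := ⟨Nat.prime_two⟩
  refine ⟨fun b c hb hc => Q_regular hS hb hc, card_Ω hS, card_G hS, ?_, ?_⟩
  · obtain ⟨P0⟩ : Nonempty (Sylow 2 Q) := inferInstance
    have hP1 : IsPGroup 2 ((P0 : Subgroup Q).map Q.subtype) := P0.2.map _
    obtain ⟨P, hP⟩ := hP1.exists_le_sylow
    have hcard1 : Nat.card ((P0 : Subgroup Q).map Q.subtype) = 2 ^ (Nat.card Q).factorization 2 := by
      rw [Subgroup.card_map_of_injective Q.subtype_injective, Sylow.card_eq_multiplicity]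
    have hodd : Odd (Nat.card ↥(MulAction.stabilizer G a ⊓ MulAction.stabilizer G (t • a)) * (Nat.card Q + 1)) :=
      hS.odd_card.mul hS.even_card.add_one
    have hfac : (Nat.card G).factorization 2 = (Nat.card Q).factorization 2 := by
      rw [card_G hS, mul_assoc, Nat.factorization_mul Nat.card_pos.ne' hodd.pos.ne', Finsupp.add_apply,
        Nat.factorization_eq_zero_of_not_dvd (n := Nat.card ↥(MulAction.stabilizer G a ⊓ MulAction.stabilizer G (t • a)) * (Nat.card Q + 1)), add_zero]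
      rw [← even_iff_two_dvd, Nat.not_even_iff_odd]
      exact hodd
    have heq : (P0 : Subgroup Q).map Q.subtype = (P : Subgroup G) := by
      apply Subgroup.eq_of_le_of_card_ge hP
      rw [hcard1, Sylow.card_eq_multiplicity, hfac]
    refine ⟨P, ?_⟩
    rw [← heq]
    exact Subgroup.map_subtype_le _
  · intro g hg
    obtain ⟨x, hx, y, hy, hgxy⟩ := canon_exists hS hg
    refine ⟨(x, y), ⟨hx, hy, hgxy⟩, ?_⟩
    rintro ⟨x', y'⟩ ⟨hx', hy', hgxy'⟩
    have := canon_unique hS hx' hx hy' hy (hgxy'.symm.trans hgxy)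
    exact Prod.ext this.1 this.2

end Cfsg.Agent.S1119
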