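import Mathlib
import Cfsg.Statements.S1120
import Cfsg.Agent.Lib.Helper7.R1Psi
import Cfsg.Agent.Lib.Helper5.CopGen
import Cfsg.Agent.Lib.Helper5.PCore
import Cfsg.Agent.Lib.Helper4.Cores
import Cfsg.Agent.Lib.Helper6.Four

set_option autoImplicit false
open Cfsg

namespace Cfsg.Agent.S1120

open Cfsg.Agent.Lib.Helper7.R1

/-- In the rank-one set-up (`G` finite and doubly transitive on `Ω`, `t` an involution moving `a`, `Q` normal in `G_a` with `G_a = Q D`, `Q ⊓ D = 1` for the two-point stabiliser `D = G_a ⊓ G_{t • a}`, `|Q|` even, `|D|` odd), if `G` has 2-rank at least 2 then `O_{2'}(G)` equals the normal core of `G_a`. -/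
theorem result {G Ω : Type*} [Group G] [Finite G] [MulAction G Ω] {a : Ω} {t : G} {Q : Subgroup G}
    (hS : Cfsg.IsRankOneSetup G Ω a t Q)
    (h2 : ∃ x y : G, x ≠ 1 ∧ y ≠ 1 ∧ x ≠ y ∧ x * x = 1 ∧ y * y = 1 ∧ x * y = y * x) :
    Cfsg.pPrimeCore 2 G = (MulAction.stabilizer G a).normalCore := by
  classical
  haveI : Fact (Nat.Prime 2) := ⟨Nat.prime_two⟩
  haveI := hS.two_transitive
  haveI : MulAction.IsPretransitive G Ω := MulAction.isPretransitive_of_is_two_pretransitive
  obtain ⟨x, y, hx1, hy1, hxy, hx2, hy2, hcomm⟩ := h2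
  have hxo : orderOf x = 2 := orderOf_eq_prime (by rw [pow_two]; exact hx2) hx1
  have hyo : orderOf y = 2 := orderOf_eq_prime (by rw [pow_two]; exact hy2) hy1
  haveI hOn : (Cfsg.pPrimeCore 2 G).Normal := Cfsg.Agent.Lib.Helper4.pPrimeCore_normal 2
  have hOc : (Nat.card (Cfsg.pPrimeCore 2 G)).Coprime 2 := Cfsg.Agent.Lib.Helper5.card_pPrimeCore_coprime 2
  apply le_antisymm
  · rw [Subgroup.normal_le_normalCore]
    set E := Cfsg.Agent.Lib.Helper6.fourGroup x y with hE
    have hEcard : Nat.card E = 2 ^ 2 := by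
      rw [Cfsg.Agent.Lib.Helper6.fourGroup_card x y hxo hyo hcomm hxy]; norm_num
    have hEexp : ∀ e ∈ E, e ^ 2 = 1 := fun e he => Cfsg.Agent.Lib.Helper6.fourGroup_sq x y hxo hyo hcomm e he
    have hEcomm := Cfsg.Agent.Lib.Helper5.comm_of_exp_card_sq E hEcard
    have hEN : E ≤ Subgroup.normalizer ((Cfsg.pPrimeCore 2 G : Subgroup G) : Set G) := by
      rw [Subgroup.normalizer_eq_top]; exact le_top
    have hnd : ¬ 2 ∣ Nat.card (Cfsg.pPrimeCore 2 G) := by
      intro h
      have := Nat.Coprime.eq_one_of_dvd hOc.symm h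
      omega
    have hgen := Cfsg.Agent.Lib.Helper5.le_genC E hEexp hEcard (Cfsg.pPrimeCore 2 G) hEN hnd
    obtain ⟨p, hp⟩ := exists_fixed_of_invol hS hx2
    have hEfix : ∀ e ∈ E, e • p = p := by
      intro e he
      apply invol_fix_unique hS hx1 hx2 _ hp
      rw [← mul_smul, hEcomm x (Cfsg.Agent.Lib.Helper6.left_mem_fourGroup x y) e he, mul_smul, hp]
    have hle : Cfsg.Agent.Lib.Helper5.genC E (Cfsg.pPrimeCore 2 G) ≤ MulAction.stabilizer G p := by
      unfold Cfsg.Agent.Lib.Helper5.genC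
      apply iSup₂_le
      rintro e ⟨heE, he1⟩ n hn
      obtain ⟨-, hnc⟩ := Subgroup.mem_inf.1 hn
      have hne : n * e = e * n := Subgroup.mem_centralizer_singleton_iff.1 hnc
      have he2 : e * e = 1 := by rw [← pow_two]; exact hEexp e heE
      rw [MulAction.mem_stabilizer_iff]
      apply invol_fix_unique hS he1 he2 _ (hEfix e heE)
      rw [← mul_smul, ← hne, mul_smul, hEfix e heE]
    have hOp : Cfsg.pPrimeCore 2 G ≤ MulAction.stabilizer G p := hgen.trans hle
    obtain ⟨g, hg⟩ := MulAction.exists_smul_eq G p a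
    intro n hn
    rw [MulAction.mem_stabilizer_iff, ← hg]
    have h1 : g⁻¹ * n * g ∈ Cfsg.pPrimeCore 2 G := by
      have := hOn.conj_mem n hn g⁻¹
      rwa [inv_inv] at this
    have h2 := MulAction.mem_stabilizer_iff.1 (hOp h1)
    rw [mul_smul, mul_smul] at h2
    have := congrArg (g • ·) h2
    simpa using this
  · apply Cfsg.Agent.Lib.Helper5.le_pPrimeCore _ (Subgroup.normalCore_normal _)
    have hCD : (MulAction.stabilizer G a).normalCore ≤
        MulAction.stabilizer G a ⊓ MulAction.stabilizer G (t • a) := by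
      intro n hn
      refine Subgroup.mem_inf.2 ⟨Subgroup.normalCore_le _ hn, ?_⟩
      have h1 : t⁻¹ * n * t ∈ (MulAction.stabilizer G a).normalCore := by
        have := (Subgroup.normalCore_normal (MulAction.stabilizer G a)).conj_mem n hn t⁻¹
        rwa [inv_inv] at this
      have h2 := MulAction.mem_stabilizer_iff.1 (Subgroup.normalCore_le _ h1)
      rw [mul_smul, mul_smul] at h2
      rw [MulAction.mem_stabilizer_iff]
      have := congrArg (t • ·) h2
      simpa using this
    have hdvd := Subgroup.card_dvd_of_le hCD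
    have hodd : Odd (Nat.card ((MulAction.stabilizer G a).normalCore)) := hS.odd_card.of_dvd_nat hdvd
    exact Nat.coprime_two_right.mpr hodd

end Cfsg.Agent.S1120
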