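import Mathlib
import Cfsg.Statements.S1122
import Cfsg.Agent.Lib.Helper7.R1Psi

set_option autoImplicit false
open Cfsg

namespace Cfsg.Agent.S1122

open Cfsg.Agent.Lib.Helper7.R1

/-- In the rank-one set-up (`G` finite and doubly transitive on `Ω`, `t` an involution moving `a`, `Q` normal in `G_a` with `G_a = Q D`, `Q ⊓ D = 1` for the two-point stabiliser `D = G_a ⊓ G_{t • a}`, `|Q|` even, `|D|` odd), with `K` the set of elements of `D` inverted by `t`: `|K|` is the number of involutions of `G_a`, and for each involution `s` of `G_a` the `K`-conjugates of `s` are all the involutions of `G_a`. -/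
theorem result {G Ω : Type*} [Group G] [Finite G] [MulAction G Ω] {a : Ω} {t : G} {Q : Subgroup G}
    (hS : Cfsg.IsRankOneSetup G Ω a t Q) :
    Nat.card (Cfsg.invertedBy (MulAction.stabilizer G a ⊓ MulAction.stabilizer G (t • a)) t) = Nat.card (Cfsg.involutionsIn (MulAction.stabilizer G a : Set G)) ∧
      ∀ s ∈ Cfsg.involutionsIn (MulAction.stabilizer G a : Set G), ∀ s' ∈ Cfsg.involutionsIn (MulAction.stabilizer G a : Set G),
        ∃ k ∈ Cfsg.invertedBy (MulAction.stabilizer G a ⊓ MulAction.stabilizer G (t • a)) t, k⁻¹ * s * k = s' := by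
  classical
  refine ⟨?_, ?_⟩
  · have hex : ∀ s : Cfsg.involutionsIn (MulAction.stabilizer G a : Set G),
        ∃ h : Cfsg.invertedBy (MulAction.stabilizer G a ⊓ MulAction.stabilizer G (t • a)) t,
          ∃ f ∈ Q, t * (s : G) * t = f⁻¹ * (h : G) * t * f := by
      intro s
      obtain ⟨h, f, hh, hf, e⟩ := invol_canon hS s.2
      exact ⟨⟨h, hh⟩, f, hf, e⟩
    choose Ψ hΨ using hex
    have hbij : Function.Bijective Ψ := by
      constructor
      · intro s s' hss
        obtain ⟨f, hf, e⟩ := hΨ s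
        obtain ⟨f', hf', e'⟩ := hΨ s'
        rw [hss] at e
        exact Subtype.ext (Psi_inj hS s.2 s'.2 hf hf' e e').1
      · intro k
        obtain ⟨s, f, hs, hf, e⟩ := Psi_surj hS k.2
        refine ⟨⟨s, hs⟩, ?_⟩
        obtain ⟨f', hf', e'⟩ := hΨ ⟨s, hs⟩
        have := canon3_unique hS (inv_mem hf') (inv_mem hf) ((mem_K_iff hS).1 (Ψ ⟨s, hs⟩).2).1
          ((mem_K_iff hS).1 k.2).1 hf' hf (e'.symm.trans e)
        exact Subtype.ext this.2.1
    exact (Nat.card_congr (Equiv.ofBijective Ψ hbij)).symm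
  · intro s hs s' hs'
    obtain ⟨h, f, hh, hf, e⟩ := invol_canon hS hs
    obtain ⟨h', f', hh', hf', e'⟩ := invol_canon hS hs'
    obtain ⟨k, hk, hkh⟩ := K_solve hS hh hh'
    refine ⟨k, hk, ?_⟩
    obtain ⟨hkD, hkt⟩ := (mem_K_iff hS).1 hk
    obtain ⟨hsH, hs1, hs2⟩ := mem_I_iff.1 hs
    have hs'' : k⁻¹ * s * k ∈ Cfsg.involutionsIn (MulAction.stabilizer G a : Set G) := by
      refine mem_I_iff.2 ⟨mul_mem (mul_mem (inv_mem hkD.1) hsH) hkD.1, ?_, ?_⟩
      · intro h1
        apply hs1
        have : s = k * (k⁻¹ * s * k) * k⁻¹ := by group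
        rw [this, h1]; group
      · have : k⁻¹ * s * k * (k⁻¹ * s * k) = k⁻¹ * (s * s) * k := by group
        rw [this, hs2]; group
    have e'' := Psi_conj hS e hk
    rw [hkh] at e''
    exact (Psi_inj hS hs'' hs' (hS.conj_mem k hkD.1 f hf) hf' e'' e').1

end Cfsg.Agent.S1122
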