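import Mathlib
import Cfsg.Statements.S1124

set_option autoImplicit false
open Cfsg
open scoped Pointwise

namespace Cfsg.Agent.S1124

lemma eq_of_sq_eq_of_odd' {G : Type*} [Group G] {k k' : G} (hk : Odd (orderOf k))
    (hk' : Odd (orderOf k')) (h : k * k = k' * k') : k = k' := by
  have hodd : Odd (orderOf k * orderOf k') := hk.mul hk'
  obtain ⟨r, hr⟩ := hodd
  have h1 : k ^ (orderOf k * orderOf k') = 1 := by
    rw [pow_mul, pow_orderOf_eq_one, one_pow]
  have h2 : k' ^ (orderOf k * orderOf k') = 1 := by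
    rw [mul_comm, pow_mul, pow_orderOf_eq_one, one_pow]
  have e1 : k = (k * k) ^ (r + 1) := by
    rw [← pow_two, ← pow_mul]
    have : 2 * (r + 1) = orderOf k * orderOf k' + 1 := by omega
    rw [this, pow_succ, h1, one_mul]
  have e2 : k' = (k' * k') ^ (r + 1) := by
    rw [← pow_two, ← pow_mul]
    have : 2 * (r + 1) = orderOf k * orderOf k' + 1 := by omega
    rw [this, pow_succ, h2, one_mul]
  rw [e1, e2, h]

lemma conj_pow_inv {M : Type*} [Group M] {t w : M} (h : t * w * t⁻¹ = w⁻¹) (n : ℕ) :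
    t * w ^ n * t⁻¹ = (w ^ n)⁻¹ := by
  have : t * w ^ n * t⁻¹ = (t * w * t⁻¹) ^ n := by
    rw [conj_pow]
  rw [this, h, inv_pow]

theorem result {M : Type*} [Group M] [Finite M]
    (t : M) (ht : orderOf t = 2) (X : Subgroup M) (hodd : Odd (Nat.card X))
    (hnorm : ∀ x ∈ X, t * x * t⁻¹ ∈ X) :
    (∀ x ∈ X, ∃! p : M × M, p.1 ∈ X ⊓ Subgroup.centralizer {t} ∧ p.2 ∈ Cfsg.invertedBy X t ∧ x = p.1 * p.2) ∧
      Nat.card X = Nat.card ↥(X ⊓ Subgroup.centralizer {t}) * Nat.card (Cfsg.invertedBy X t) ∧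
      ∀ x ∈ X, MulAut.conj x • Subgroup.closure (Cfsg.invertedBy X t) = Subgroup.closure (Cfsg.invertedBy X t) := by
  have htt : t * t = 1 := by
    have := pow_orderOf_eq_one t
    rw [ht, pow_two] at this; exact this
  have hti : t⁻¹ = t := inv_eq_of_mul_eq_one_left htt
  have hoddX : ∀ x ∈ X, Odd (orderOf x) := by
    intro x hx
    have h1 : orderOf x ∣ Nat.card X := by
      have := orderOf_dvd_natCard (⟨x, hx⟩ : X)
      rwa [Subgroup.orderOf_mk] at this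
    exact Odd.of_dvd_nat hodd h1
  have hcent : ∀ y : M, y ∈ Subgroup.centralizer ({t} : Set M) ↔ t * y * t⁻¹ = y := by
    intro y
    rw [Subgroup.mem_centralizer_iff]
    constructor
    · intro h
      have := h t (Set.mem_singleton t)
      rw [this]; group
    · intro h w hw
      rw [Set.mem_singleton_iff] at hw
      subst hw
      calc w * y = (w * y * w⁻¹) * w := by group
        _ = y * w := by rw [h]
  -- key: any decomposition has z*z = (t x t⁻¹)⁻¹ * x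
  have hkey : ∀ x y z : M, t * y * t⁻¹ = y → t * z * t⁻¹ = z⁻¹ → x = y * z →
      z * z = (t * x * t⁻¹)⁻¹ * x := by
    intro x y z hy hz hx
    have : t * x * t⁻¹ = y * z⁻¹ := by
      rw [hx]
      calc t * (y * z) * t⁻¹ = (t * y * t⁻¹) * (t * z * t⁻¹) := by group
        _ = y * z⁻¹ := by rw [hy, hz]
    rw [this, hx]; group
  have hexu : ∀ x ∈ X, ∃! p : M × M, p.1 ∈ X ⊓ Subgroup.centralizer {t} ∧
      p.2 ∈ Cfsg.invertedBy X t ∧ x = p.1 * p.2 := by
    intro x hx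
    set w := (t * x * t⁻¹)⁻¹ * x with hw
    have hwX : w ∈ X := X.mul_mem (X.inv_mem (hnorm x hx)) hx
    have hwt : t * w * t⁻¹ = w⁻¹ := by
      rw [hw]
      calc t * ((t * x * t⁻¹)⁻¹ * x) * t⁻¹ = (t * t) * x⁻¹ * (t⁻¹ * t⁻¹) * (t * x * t⁻¹) := by group
        _ = x⁻¹ * (t * x * t⁻¹) := by rw [hti, htt]; group
        _ = ((t * x * t⁻¹)⁻¹ * x)⁻¹ := by group
    obtain ⟨j, hj⟩ := hoddX w hwX
    set z := w ^ (j + 1) with hz
    have hzz : z * z = w := by
      rw [hz, ← pow_add]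
      have : j + 1 + (j + 1) = orderOf w + 1 := by omega
      rw [this, pow_succ, pow_orderOf_eq_one, one_mul]
    have hzX : z ∈ X := X.pow_mem hwX _
    have hzt : t * z * t⁻¹ = z⁻¹ := conj_pow_inv hwt _
    have hyt : t * (x * z⁻¹) * t⁻¹ = x * z⁻¹ := by
      calc t * (x * z⁻¹) * t⁻¹ = (t * x * t⁻¹) * (t * z * t⁻¹)⁻¹ := by group
        _ = (t * x * t⁻¹) * z := by rw [hzt, inv_inv]
        _ = (t * x * t⁻¹) * (z * z) * z⁻¹ := by group
        _ = (t * x * t⁻¹) * ((t * x * t⁻¹)⁻¹ * x) * z⁻¹ := by rw [hzz, hw]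
        _ = x * z⁻¹ := by group
    refine ⟨(x * z⁻¹, z), ⟨⟨X.mul_mem hx (X.inv_mem hzX), (hcent _).mpr hyt⟩, ⟨hzX, hzt⟩, by group⟩, ?_⟩
    rintro ⟨y', z'⟩ ⟨⟨hy'X, hy'c⟩, ⟨hz'X, hz't⟩, hx'⟩
    simp only at hy'X hy'c hz'X hz't hx'
    have h1 := hkey x y' z' ((hcent _).mp hy'c) hz't hx'
    have h2 : z' * z' = z * z := by rw [h1, hzz]
    have h3 : z' = z := eq_of_sq_eq_of_odd' (hoddX z' hz'X) (hoddX z hzX) h2
    have h4 : y' = x * z⁻¹ := by rw [hx', h3]; group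
    rw [h3, h4]
  refine ⟨hexu, ?_, ?_⟩
  · -- cardinality
    let f : ↥(X ⊓ Subgroup.centralizer {t}) × (Cfsg.invertedBy X t) → X :=
      fun p => ⟨p.1.1 * p.2.1, X.mul_mem p.1.2.1 p.2.2.1⟩
    have hf : Function.Bijective f := by
      constructor
      · rintro ⟨⟨y, hy⟩, ⟨z, hz⟩⟩ ⟨⟨y', hy'⟩, ⟨z', hz'⟩⟩ h
        have h' : y * z = y' * z' := congrArg Subtype.val h
        obtain ⟨p, -, hp⟩ := hexu (y * z) (X.mul_mem hy.1 hz.1)
        have e1 := hp (y, z) ⟨hy, hz, rfl⟩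
        have e2 := hp (y', z') ⟨hy', hz', h'⟩
        have e3 : (y, z) = (y', z') := e1.trans e2.symm
        simp only [Prod.mk.injEq] at e3
        obtain ⟨rfl, rfl⟩ := e3
        rfl
      · rintro ⟨x, hx⟩
        obtain ⟨⟨y, z⟩, ⟨hy, hz, hxyz⟩, -⟩ := hexu x hx
        exact ⟨(⟨y, hy⟩, ⟨z, hz⟩), Subtype.ext hxyz.symm⟩
    rw [← Nat.card_prod]
    exact (Nat.card_congr (Equiv.ofBijective f hf)).symm
  · -- normality
    set Z := Cfsg.invertedBy X t with hZ
    set N := Subgroup.normalizer ((Subgroup.closure Z : Subgroup M) : Set M) with hN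
    have hZN : Z ⊆ (N : Set M) := fun z hz =>
      Subgroup.le_normalizer (Subgroup.subset_closure hz)
    have hconjZ : ∀ y ∈ X ⊓ Subgroup.centralizer {t}, ∀ z ∈ Z, y * z * y⁻¹ ∈ Z := by
      intro y hy z hz
      have hyt := (hcent y).mp hy.2
      refine ⟨X.mul_mem (X.mul_mem hy.1 hz.1) (X.inv_mem hy.1), ?_⟩
      calc t * (y * z * y⁻¹) * t⁻¹ = (t * y * t⁻¹) * (t * z * t⁻¹) * (t * y * t⁻¹)⁻¹ := by group
        _ = y * z⁻¹ * y⁻¹ := by rw [hyt, hz.2]
        _ = (y * z * y⁻¹)⁻¹ := by group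
    have hYN : ∀ y ∈ X ⊓ Subgroup.centralizer {t}, y ∈ N := by
      intro y hy
      have h1 : ∀ y ∈ X ⊓ Subgroup.centralizer {t},
          (Subgroup.closure Z).map (MulAut.conj y).toMonoidHom ≤ Subgroup.closure Z := by
        intro y hy
        rw [MonoidHom.map_closure, Subgroup.closure_le]
        rintro _ ⟨z, hz, rfl⟩
        exact Subgroup.subset_closure (hconjZ y hy z hz)
      rw [hN, Subgroup.mem_normalizer_iff_map_conj_eq]
      apply le_antisymm (h1 y hy)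
      intro a ha
      have hyi : y⁻¹ ∈ X ⊓ Subgroup.centralizer {t} := Subgroup.inv_mem _ hy
      have := h1 y⁻¹ hyi ⟨a, ha, rfl⟩
      refine ⟨_, this, ?_⟩
      simp only [MulEquiv.coe_toMonoidHom, MulAut.conj_apply, inv_inv]
      group
    intro x hx
    obtain ⟨⟨y, z⟩, ⟨hy, hz, hxyz⟩, -⟩ := hexu x hx
    have hxN : x ∈ N := by
      rw [hxyz]; exact N.mul_mem (hYN y hy) (hZN hz)
    rw [hN, Subgroup.mem_normalizer_iff_map_conj_eq] at hxN
    rw [Subgroup.pointwise_smul_def]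
    exact hxN

end Cfsg.Agent.S1124
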