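import Mathlib
import Cfsg.Statements.S1125
import Cfsg.Agent.Lib.Helper7.R1Fix

set_option autoImplicit false
open Cfsg

namespace Cfsg.Agent.S1125

open Cfsg.Agent.Lib.Helper7.R1

/-- In the rank-one set-up (`G` finite and doubly transitive on `Ω`, `t` an involution moving `a`, `Q` normal in `G_a` with `G_a = Q D`, `Q ⊓ D = 1` for the two-point stabiliser `D = G_a ⊓ G_{t • a}`, `|Q|` even, `|D|` odd), let `X ⊆ D` fix at least three points of `Ω`. Then `C_G(X)` is doubly transitive on the fixed-point set of `X`, `|C_Q(X)|` is even, and `C_{G_a}(X) = C_Q(X) C_D(X)`. -/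
theorem result {G Ω : Type*} [Group G] [Finite G] [MulAction G Ω] {a : Ω} {t : G} {Q : Subgroup G}
    (hS : Cfsg.IsRankOneSetup G Ω a t Q)
    (X : Set G) (hX : X ⊆ ((MulAction.stabilizer G a ⊓ MulAction.stabilizer G (t • a)) : Set G))
    (h3 : ∃ b c d : Ω, b ≠ c ∧ b ≠ d ∧ c ≠ d ∧ ∀ x ∈ X, x • b = b ∧ x • c = c ∧ x • d = d) :
    (∀ b₁ b₂ c₁ c₂ : Ω, (∀ x ∈ X, x • b₁ = b₁ ∧ x • b₂ = b₂ ∧ x • c₁ = c₁ ∧ x • c₂ = c₂) →
        b₁ ≠ b₂ → c₁ ≠ c₂ → ∃ g ∈ Subgroup.centralizer X, g • b₁ = c₁ ∧ g • b₂ = c₂) ∧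
      Even (Nat.card ↥(Subgroup.centralizer X ⊓ Q)) ∧
      (Subgroup.centralizer X ⊓ Q) ⊔ (Subgroup.centralizer X ⊓ (MulAction.stabilizer G a ⊓ MulAction.stabilizer G (t • a))) = Subgroup.centralizer X ⊓ MulAction.stabilizer G a := by
  refine ⟨?_, ?_, ?_⟩
  · intro b₁ b₂ c₁ c₂ hfix hb hc
    exact N_two_trans hS hX h3 (fun x hx => (hfix x hx).1) (fun x hx => (hfix x hx).2.1)
      (fun x hx => (hfix x hx).2.2.1) (fun x hx => (hfix x hx).2.2.2) hb hc
  · obtain ⟨u, hu, hu1, hu2⟩ := exists_invol_NQ hS hX h3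
    have ho : orderOf u = 2 := orderOf_eq_prime (by rw [pow_two]; exact hu2) hu1
    have := Subgroup.orderOf_dvd_natCard _ hu
    rw [ho] at this
    exact even_iff_two_dvd.2 this
  · apply le_antisymm
    · apply sup_le
      · exact inf_le_inf_left _ hS.le
      · exact inf_le_inf_left _ inf_le_left
    · intro g hg
      obtain ⟨hgN, hgH⟩ := Subgroup.mem_inf.1 hg
      have hgb : ∀ x ∈ X, x • (g • (t • a)) = g • (t • a) := N_fix hgN (X_fix_b hX)
      have hne : g • (t • a) ≠ a := H_smul_ne hS hgH (ta_ne hS)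
      obtain ⟨y, hy, hyb⟩ := CQ_trans hS hX hgb hne
      have hyg : y⁻¹ * g ∈ Subgroup.centralizer X ⊓ (MulAction.stabilizer G a ⊓ MulAction.stabilizer G (t • a)) := by
        refine Subgroup.mem_inf.2 ⟨mul_mem (inv_mem (Subgroup.mem_inf.1 hy).1) hgN, Subgroup.mem_inf.2 ⟨?_, ?_⟩⟩
        · exact mul_mem (inv_mem (hS.le (Subgroup.mem_inf.1 hy).2)) hgH
        · rw [MulAction.mem_stabilizer_iff, mul_smul, ← hyb, inv_smul_smul]
      have : g = y * (y⁻¹ * g) := by group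
      rw [this]
      exact Subgroup.mul_mem_sup hy hyg

end Cfsg.Agent.S1125
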