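import Mathlib
import Cfsg.Statements.S1126
import Cfsg.Agent.Lib.Helper7.R1Fix

set_option autoImplicit false
open Cfsg

namespace Cfsg.Agent.S1126

open Cfsg.Agent.Lib.Helper7.R1

/-- In the rank-one set-up (`G` finite and doubly transitive on `Ω`, `t` an involution moving `a`, `Q` normal in `G_a` with `G_a = Q D`, `Q ⊓ D = 1` for the two-point stabiliser `D = G_a ⊓ G_{t • a}`, `|Q|` even, `|D|` odd), a subset `X ⊆ D` fixing at least three points of `Ω` is conjugate by an element of `D` into `V = C_D(t)`. -/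
theorem result {G Ω : Type*} [Group G] [Finite G] [MulAction G Ω] {a : Ω} {t : G} {Q : Subgroup G}
    (hS : Cfsg.IsRankOneSetup G Ω a t Q)
    (X : Set G) (hX : X ⊆ ((MulAction.stabilizer G a ⊓ MulAction.stabilizer G (t • a)) : Set G))
    (h3 : ∃ b c d : Ω, b ≠ c ∧ b ≠ d ∧ c ≠ d ∧ ∀ x ∈ X, x • b = b ∧ x • c = c ∧ x • d = d) :
    ∃ k ∈ (MulAction.stabilizer G a ⊓ MulAction.stabilizer G (t • a)), ∀ x ∈ X, (k * x * k⁻¹) * t = t * (k * x * k⁻¹) := by
  have ht := t_inv hS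
  have htt : ∀ y : G, t * (t * y) = y := by
    intro y; rw [← mul_assoc, hS.mul_self, one_mul]
  obtain ⟨u, hu, hu1, hu2⟩ := exists_invol_N hS hX h3
  have hmoved : ∃ c : Ω, (∀ x ∈ X, x • c = c) ∧ u • c ≠ c := by
    by_contra hcon
    push Not at hcon
    have h1 := hcon a (X_fix_a hX)
    have h2 := hcon (t • a) (X_fix_b hX)
    exact ta_ne hS (invol_fix_unique hS hu1 hu2 h2 h1)
  obtain ⟨c, hc, huc⟩ := hmoved
  obtain ⟨g, hg, hgc, hguc⟩ := N_two_trans hS hX h3 hc (N_fix hu hc) (X_fix_a hX) (X_fix_b hX)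
    (Ne.symm huc) (ta_ne hS).symm
  obtain ⟨u', hu'⟩ : ∃ u' : G, u' = g * u * g⁻¹ := ⟨_, rfl⟩
  have hginv : g⁻¹ • a = c := by rw [← hgc, inv_smul_smul]
  have hginv' : g⁻¹ • (t • a) = u • c := by rw [← hguc, inv_smul_smul]
  have hu'a : u' • a = t • a := by
    rw [hu', mul_smul, mul_smul, hginv, hguc]
  have hu'b : u' • (t • a) = a := by
    rw [hu', mul_smul, mul_smul, hginv', ← mul_smul u u, hu2, one_smul, hgc]
  have hu'2 : u' * u' = 1 := by
    have : u' * u' = g * (u * u) * g⁻¹ := by rw [hu']; group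
    rw [this, hu2]; group
  have hu'N : u' ∈ Subgroup.centralizer X := by
    rw [hu']; exact mul_mem (mul_mem hg hu) (inv_mem hg)
  obtain ⟨kk, hkk⟩ : ∃ kk : G, kk = t * u' := ⟨_, rfl⟩
  have hkkD : kk ∈ (MulAction.stabilizer G a ⊓ MulAction.stabilizer G (t • a)) := by
    refine Subgroup.mem_inf.2 ⟨?_, ?_⟩
    · rw [MulAction.mem_stabilizer_iff, hkk, mul_smul, hu'a, tt_smul hS]
    · rw [MulAction.mem_stabilizer_iff, hkk, mul_smul, hu'b]
  have hkkinv : kk⁻¹ = u' * t := by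
    rw [hkk, mul_inv_rev, ht, inv_eq_of_mul_eq_one_left hu'2]
  have hkkt : t * kk * t = kk⁻¹ := by
    rw [hkkinv, hkk]; simp only [mul_assoc, htt]
  have hodd : Odd (orderOf kk) := hS.odd_card.of_dvd_nat (Subgroup.orderOf_dvd_natCard _ hkkD)
  obtain ⟨j, hj⟩ := hodd
  obtain ⟨k, hk⟩ : ∃ k : G, k = kk ^ (j + 1) := ⟨_, rfl⟩
  have hkk2 : k * k = kk := by
    rw [hk, ← pow_add]
    have : j + 1 + (j + 1) = orderOf kk + 1 := by omega
    rw [this, pow_succ, pow_orderOf_eq_one, one_mul]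
  have hkD : k ∈ (MulAction.stabilizer G a ⊓ MulAction.stabilizer G (t • a)) := by
    rw [hk]; exact pow_mem hkkD _
  have hkt : t * k * t = k⁻¹ := by
    have h0 : t * kk ^ (j + 1) * t⁻¹ = (t * kk * t⁻¹) ^ (j + 1) := conj_pow.symm
    rw [ht] at h0
    rw [hk, h0, hkkt, inv_pow]
  have hkt' : t * k⁻¹ * t = k := by
    have : t * k⁻¹ * t = (t * k * t)⁻¹ := by rw [mul_inv_rev, mul_inv_rev, ht, mul_assoc]
    rw [this, hkt, inv_inv]
  refine ⟨k, hkD, ?_⟩
  intro x hx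
  have hxu : x * u' = u' * x := Subgroup.mem_centralizer_iff.1 hu'N x hx
  have h1 : t * x * t = kk * x * kk⁻¹ := by
    rw [hkkinv, hkk]
    have e1 : t * u' * x * (u' * t) = t * (u' * x) * u' * t := by group
    rw [e1, ← hxu]
    have e2 : t * (x * u') * u' * t = t * x * (u' * u') * t := by group
    rw [e2, hu'2, mul_one]
  have h2 : t * (k * x * k⁻¹) * t = k * x * k⁻¹ := by
    have e : t * (k * x * k⁻¹) * t = (t * k * t) * (t * x * t) * (t * k⁻¹ * t) := by
      simp only [mul_assoc, htt]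
    rw [e, hkt, hkt', h1, ← hkk2]
    group
  calc (k * x * k⁻¹) * t = t * (t * (k * x * k⁻¹) * t) := by simp only [mul_assoc, htt]
    _ = t * (k * x * k⁻¹) := by rw [h2]

end Cfsg.Agent.S1126
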