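import Mathlib
import Cfsg.Statements.S1165
import Cfsg.Agent.Lib.Helper7.R1Setup

set_option autoImplicit false
open Cfsg

namespace Cfsg.Agent.S1165

open Cfsg.Agent.Lib.Helper7.R1

theorem conj_mem' {G Ω : Type*} [Group G] [MulAction G Ω] {a : Ω} {t : G} {Q : Subgroup G}
    (hS : Cfsg.IsRankOneSetup G Ω a t Q) {d x : G} (hd : d ∈ MulAction.stabilizer G a) (hx : x ∈ Q) :
    d⁻¹ * x * d ∈ Q := by
  have := hS.conj_mem d⁻¹ (inv_mem hd) x hx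
  rwa [inv_inv] at this

/-- In the rank-one set-up (`G` finite and doubly transitive on `Ω`, `t` an involution moving `a`, `Q` normal in `G_a` with `G_a = Q D`, `Q ⊓ D = 1` for the two-point stabiliser `D = G_a ⊓ G_{t • a}`, `|Q|` even, `|D|` odd): every `x ∈ Q`, `x ≠ 1`, determines unique `g, f ∈ Q`, `h ∈ D` with `t x t = g h t f` (a consequence of the canonical form). For these: (H1) the `f`-part of `x⁻¹` is `g⁻¹`; (H2) the `f`-part of `f` is `x`; (H3) for `a ∈ D` the `f`-part of `a⁻¹ x a` is `(t a t)⁻¹ f (t a t)`; (H4) the `h`-part of `a⁻¹ x a` is `(t a t)⁻¹ h a`, that of `x⁻¹` is `t h⁻¹ t`, and that of `f` is `h⁻¹`. -/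
theorem result {G Ω : Type*} [Group G] [Finite G] [MulAction G Ω] {a : Ω} {t : G} {Q : Subgroup G}
    (hS : Cfsg.IsRankOneSetup G Ω a t Q)
    (x g h f : G) (hx : x ∈ Q) (hx1 : x ≠ 1) (hg : g ∈ Q) (hh : h ∈ (MulAction.stabilizer G a ⊓ MulAction.stabilizer G (t • a))) (hf : f ∈ Q)
    (heq : t * x * t = g * h * t * f) :
    (∀ g₁ h₁ f₁ : G, g₁ ∈ Q → h₁ ∈ (MulAction.stabilizer G a ⊓ MulAction.stabilizer G (t • a)) → f₁ ∈ Q → t * x⁻¹ * t = g₁ * h₁ * t * f₁ →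
        f₁ = g⁻¹ ∧ h₁ = t * h⁻¹ * t) ∧
      (∀ g₂ h₂ f₂ : G, g₂ ∈ Q → h₂ ∈ (MulAction.stabilizer G a ⊓ MulAction.stabilizer G (t • a)) → f₂ ∈ Q → t * f * t = g₂ * h₂ * t * f₂ →
        f₂ = x ∧ h₂ = h⁻¹) ∧
      ∀ c ∈ (MulAction.stabilizer G a ⊓ MulAction.stabilizer G (t • a)), ∀ g₃ h₃ f₃ : G, g₃ ∈ Q → h₃ ∈ (MulAction.stabilizer G a ⊓ MulAction.stabilizer G (t • a)) → f₃ ∈ Q →
        t * (c⁻¹ * x * c) * t = g₃ * h₃ * t * f₃ →
          f₃ = (t * c * t)⁻¹ * f * (t * c * t) ∧ h₃ = (t * c * t)⁻¹ * h * c := by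
  have ht : t⁻¹ = t := t_inv hS
  have htt : ∀ y : G, t * (t * y) = y := by
    intro y; rw [← mul_assoc, hS.mul_self, one_mul]
  refine ⟨?_, ?_, ?_⟩
  · intro g₁ h₁ f₁ hg₁ hh₁ hf₁ he
    have e1 : t * x⁻¹ * t = f⁻¹ * (t * h⁻¹ * t) * t * g⁻¹ := by
      have : t * x⁻¹ * t = (t * x * t)⁻¹ := by
        rw [mul_inv_rev, mul_inv_rev, ht, mul_assoc]
      rw [this, heq]
      simp only [mul_inv_rev, ht, mul_assoc, htt]
    rw [e1] at he
    obtain ⟨-, h2, h3⟩ := canon3_unique hS (inv_mem hf) hg₁ (t_conj_D hS (inv_mem hh)) hh₁ (inv_mem hg) hf₁ he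
    exact ⟨h3.symm, h2.symm⟩
  · intro g₂ h₂ f₂ hg₂ hh₂ hf₂ he
    have ef : f = t * h⁻¹ * g⁻¹ * (t * x * t) := by
      rw [heq]
      simp only [mul_assoc, inv_mul_cancel_left, htt]
    have e2 : t * f * t = (h⁻¹ * g⁻¹ * h) * h⁻¹ * t * x := by
      have : t * f * t = t * (t * h⁻¹ * g⁻¹ * (t * x * t)) * t := by rw [← ef]
      rw [this]
      simp only [mul_assoc, htt, mul_inv_cancel_left, hS.mul_self, mul_one]
    rw [e2] at he
    obtain ⟨-, h2, h3⟩ := canon3_unique hS (conj_mem' hS hh.1 (inv_mem hg)) hg₂ (inv_mem hh) hh₂ hx hf₂ he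
    exact ⟨h3.symm, h2.symm⟩
  · intro c hc g₃ h₃ f₃ hg₃ hh₃ hf₃ he
    have hc' : t * c * t ∈ (MulAction.stabilizer G a ⊓ MulAction.stabilizer G (t • a)) := t_conj_D hS hc
    have e3 : t * (c⁻¹ * x * c) * t =
        ((t * c * t)⁻¹ * g * (t * c * t)) * ((t * c * t)⁻¹ * h * c) * t * ((t * c * t)⁻¹ * f * (t * c * t)) := by
      have key : ((t * c * t)⁻¹ * g * (t * c * t)) * ((t * c * t)⁻¹ * h * c) * t * ((t * c * t)⁻¹ * f * (t * c * t)) =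
          (t * c * t)⁻¹ * (g * h * t * f) * (t * c * t) := by
        simp only [mul_inv_rev, ht, mul_assoc, htt, mul_inv_cancel_left, inv_mul_cancel_left]
      rw [key, ← heq]
      simp only [mul_inv_rev, ht, mul_assoc, htt]
    rw [e3] at he
    obtain ⟨-, h2, h3⟩ := canon3_unique hS (conj_mem' hS hc'.1 hg) hg₃
      (mul_mem (mul_mem (inv_mem hc') hh) hc) hh₃ (conj_mem' hS hc'.1 hf) hf₃ he
    exact ⟨h3.symm, h2.symm⟩

end Cfsg.Agent.S1165
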