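import Mathlib
import Cfsg.Statements.S1127
import Cfsg.Agent.S1122
import Cfsg.Agent.S1123
import Cfsg.Agent.S1165

set_option autoImplicit false
open Cfsg

namespace Cfsg.Agent.S1127

open Cfsg.Agent.Lib.Helper7.R1

theorem Psi_conj_D {G Ω : Type*} [Group G] [MulAction G Ω] {a : Ω} {t : G} {Q : Subgroup G}
    (hS : Cfsg.IsRankOneSetup G Ω a t Q) {s h f d : G}
    (e : t * s * t = f⁻¹ * h * t * f) :
    t * (d⁻¹ * s * d) * t =
      ((t * d * t)⁻¹ * f * (t * d * t))⁻¹ * ((t * d * t)⁻¹ * h * d) * t * ((t * d * t)⁻¹ * f * (t * d * t)) := by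
  have ht := t_inv hS
  have htt : ∀ y : G, t * (t * y) = y := by
    intro y; rw [← mul_assoc, hS.mul_self, one_mul]
  have key : ((t * d * t)⁻¹ * f * (t * d * t))⁻¹ * ((t * d * t)⁻¹ * h * d) * t * ((t * d * t)⁻¹ * f * (t * d * t)) =
      (t * d * t)⁻¹ * (f⁻¹ * h * t * f) * (t * d * t) := by
    simp only [mul_inv_rev, ht, mul_assoc, htt, mul_inv_cancel_left, inv_mul_cancel_left, inv_inv]
  rw [key, ← e]
  simp only [mul_inv_rev, ht, mul_assoc, htt]

theorem conj_mem_I {G Ω : Type*} [Group G] [MulAction G Ω] {a : Ω} {s d : G}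
    (hs : s ∈ Cfsg.involutionsIn (MulAction.stabilizer G a : Set G)) (hd : d ∈ MulAction.stabilizer G a) :
    d⁻¹ * s * d ∈ Cfsg.involutionsIn (MulAction.stabilizer G a : Set G) := by
  obtain ⟨hsH, hs1, hs2⟩ := mem_I_iff.1 hs
  refine mem_I_iff.2 ⟨mul_mem (mul_mem (inv_mem hd) hsH) hd, ?_, ?_⟩
  · intro h1
    apply hs1
    have : s = d * (d⁻¹ * s * d) * d⁻¹ := by group
    rw [this, h1]; group
  · have : d⁻¹ * s * d * (d⁻¹ * s * d) = d⁻¹ * (s * s) * d := by group
    rw [this, hs2]; group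

/-- part (i) -/
theorem part1 {G Ω : Type*} [Group G] [Finite G] [MulAction G Ω] {a : Ω} {t : G} {Q : Subgroup G}
    (hS : Cfsg.IsRankOneSetup G Ω a t Q) (s r : G)
    (hs : s ∈ Cfsg.involutionsIn (MulAction.stabilizer G a : Set G)) (hr : r ∈ Q)
    (e : t * s * t = r⁻¹ * t * r) (d : G)
    (hd : d ∈ (MulAction.stabilizer G a ⊓ MulAction.stabilizer G (t • a))) :
    d * t = t * d ↔ d * s = s * d := by
  have ht := t_inv hS
  have htt : ∀ y : G, t * (t * y) = y := by
    intro y; rw [← mul_assoc, hS.mul_self, one_mul]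
  have e1 : t * s * t = r⁻¹ * 1 * t * r := by rw [mul_one]; exact e
  have hconj := Psi_conj_D hS (d := d) e1
  have hd' : t * d * t ∈ (MulAction.stabilizer G a ⊓ MulAction.stabilizer G (t • a)) := t_conj_D hS hd
  constructor
  · intro hdt
    have h1 : t * d * t = d := by rw [← hdt, mul_assoc, hS.mul_self, mul_one]
    rw [h1] at hconj
    have h2 : d⁻¹ * 1 * d = 1 := by group
    rw [h2] at hconj
    have h3 := (Psi_inj hS (conj_mem_I hs hd.1) hs (Cfsg.Agent.S1165.conj_mem' hS hd.1 hr) hr hconj e1).1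
    have h4 : s * d = d * (d⁻¹ * s * d) := by group
    rw [h4, h3]
  · intro hds
    have h1 : d⁻¹ * s * d = s := by
      have : d⁻¹ * s * d = d⁻¹ * (s * d) := by group
      rw [this, ← hds]; group
    rw [h1] at hconj
    obtain ⟨-, h2, -⟩ := canon3_unique hS (inv_mem (Cfsg.Agent.S1165.conj_mem' hS hd'.1 hr)) (inv_mem hr)
      (mul_mem (mul_mem (inv_mem hd') (one_mem _)) hd) (one_mem _)
      (Cfsg.Agent.S1165.conj_mem' hS hd'.1 hr) hr (hconj.symm.trans e1)
    have h3 : t * d * t = d := by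
      have : (t * d * t)⁻¹ * d = 1 := by rw [← h2, mul_one]
      exact inv_mul_eq_one.1 this
    have h4 : t * d = (t * d * t) * t := by simp only [mul_assoc, hS.mul_self, mul_one]
    rw [h4, h3]

/-- In the rank-one set-up (`G` finite and doubly transitive on `Ω`, `t` an involution moving `a`, `Q` normal in `G_a` with `G_a = Q D`, `Q ⊓ D = 1` for the two-point stabiliser `D = G_a ⊓ G_{t • a}`, `|Q|` even, `|D|` odd): if `s` is an involution of `G_a` and `r ∈ Q` satisfy `t s t = r⁻¹ t r`, then `C_D(t) = C_D(s)`; moreover `C_D(t) ⊓ C_D(K) = C_D(I ∩ G_a)`, where `K` is the set of elements of `D` inverted by `t` and `I ∩ G_a` the set of involutions of `G_a`. -/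
theorem result {G Ω : Type*} [Group G] [Finite G] [MulAction G Ω] {a : Ω} {t : G} {Q : Subgroup G}
    (hS : Cfsg.IsRankOneSetup G Ω a t Q) :
    (∀ s r : G, s ∈ Cfsg.involutionsIn (MulAction.stabilizer G a : Set G) → r ∈ Q → t * s * t = r⁻¹ * t * r →
        (MulAction.stabilizer G a ⊓ MulAction.stabilizer G (t • a)) ⊓ Subgroup.centralizer {t} = (MulAction.stabilizer G a ⊓ MulAction.stabilizer G (t • a)) ⊓ Subgroup.centralizer {s}) ∧
      (MulAction.stabilizer G a ⊓ MulAction.stabilizer G (t • a)) ⊓ Subgroup.centralizer {t} ⊓ Subgroup.centralizer (Cfsg.invertedBy (MulAction.stabilizer G a ⊓ MulAction.stabilizer G (t • a)) t) =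
        (MulAction.stabilizer G a ⊓ MulAction.stabilizer G (t • a)) ⊓ Subgroup.centralizer (Cfsg.involutionsIn (MulAction.stabilizer G a : Set G)) := by
  have ht := t_inv hS
  have htt : ∀ y : G, t * (t * y) = y := by
    intro y; rw [← mul_assoc, hS.mul_self, one_mul]
  refine ⟨?_, ?_⟩
  · intro s r hs hr e
    ext d
    simp only [Subgroup.mem_inf, Subgroup.mem_centralizer_singleton_iff]
    constructor
    · rintro ⟨hd, hdt⟩
      exact ⟨hd, (part1 hS s r hs hr e d (Subgroup.mem_inf.2 hd)).1 hdt⟩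
    · rintro ⟨hd, hds⟩
      exact ⟨hd, (part1 hS s r hs hr e d (Subgroup.mem_inf.2 hd)).2 hds⟩
  · obtain ⟨s₀, r₀, hs₀, hr₀, e₀'⟩ := Psi_surj hS (Cfsg.Agent.S1123.one_mem_K hS)
    have e₀ : t * s₀ * t = r₀⁻¹ * t * r₀ := by rw [e₀', mul_one]
    ext d
    simp only [Subgroup.mem_inf, Subgroup.mem_centralizer_singleton_iff]
    constructor
    · rintro ⟨⟨hd, hdt⟩, hdK'⟩
      have hdK := Subgroup.mem_centralizer_iff.1 hdK'
      refine ⟨hd, Subgroup.mem_centralizer_iff.2 ?_⟩
      intro s' hs'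
      obtain ⟨k, hk, hks⟩ := (Cfsg.Agent.S1122.result hS).2 s₀ hs₀ s' hs'
      have hds := (part1 hS s₀ r₀ hs₀ hr₀ e₀ d (Subgroup.mem_inf.2 hd)).1 hdt
      have hdk := hdK k hk
      have hdk' : k⁻¹ * d = d * k⁻¹ := by
        have : k⁻¹ * d = k⁻¹ * (d * k) * k⁻¹ := by group
        rw [this, ← hdk]; group
      rw [← hks]
      calc k⁻¹ * s₀ * k * d = k⁻¹ * s₀ * (k * d) := by group
        _ = k⁻¹ * s₀ * (d * k) := by rw [hdk]
        _ = k⁻¹ * (s₀ * d) * k := by group
        _ = k⁻¹ * (d * s₀) * k := by rw [hds]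
        _ = (k⁻¹ * d) * s₀ * k := by group
        _ = (d * k⁻¹) * s₀ * k := by rw [hdk']
        _ = d * (k⁻¹ * s₀ * k) := by group
    · rintro ⟨hd, hdI'⟩
      have hdI := Subgroup.mem_centralizer_iff.1 hdI'
      have hdD : d ∈ (MulAction.stabilizer G a ⊓ MulAction.stabilizer G (t • a)) := Subgroup.mem_inf.2 hd
      have hds₀ : d * s₀ = s₀ * d := (hdI s₀ hs₀).symm
      have hdt : d * t = t * d := (part1 hS s₀ r₀ hs₀ hr₀ e₀ d hdD).2 hds₀
      refine ⟨⟨hd, hdt⟩, Subgroup.mem_centralizer_iff.2 ?_⟩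
      intro k hk
      obtain ⟨hkD, hkt⟩ := (mem_K_iff hS).1 hk
      have hkt' : t * k⁻¹ * t = k := by
        have : t * k⁻¹ * t = (t * k * t)⁻¹ := by rw [mul_inv_rev, mul_inv_rev, ht, mul_assoc]
        rw [this, hkt, inv_inv]
      have hs' : k⁻¹ * s₀ * k ∈ Cfsg.involutionsIn (MulAction.stabilizer G a : Set G) := conj_mem_I hs₀ hkD.1
      have hds' : d * (k⁻¹ * s₀ * k) = (k⁻¹ * s₀ * k) * d := (hdI _ hs').symm
      -- d'' = k d k⁻¹ commutes with s₀
      have hd''D : k * d * k⁻¹ ∈ (MulAction.stabilizer G a ⊓ MulAction.stabilizer G (t • a)) :=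
        mul_mem (mul_mem hkD hdD) (inv_mem hkD)
      have hd''s : (k * d * k⁻¹) * s₀ = s₀ * (k * d * k⁻¹) := by
        calc (k * d * k⁻¹) * s₀ = k * (d * (k⁻¹ * s₀ * k)) * k⁻¹ := by group
          _ = k * ((k⁻¹ * s₀ * k) * d) * k⁻¹ := by rw [hds']
          _ = s₀ * (k * d * k⁻¹) := by group
      have hd''t : (k * d * k⁻¹) * t = t * (k * d * k⁻¹) := (part1 hS s₀ r₀ hs₀ hr₀ e₀ _ hd''D).2 hd''s
      -- t (k d k⁻¹) t = k⁻¹ d k
      have h1 : t * (k * d * k⁻¹) * t = k⁻¹ * d * k := by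
        have : t * (k * d * k⁻¹) * t = (t * k * t) * (t * d * t) * (t * k⁻¹ * t) := by
          simp only [mul_assoc, htt]
        rw [this, hkt, hkt']
        have : t * d * t = d := by rw [← hdt, mul_assoc, hS.mul_self, mul_one]
        rw [this]
      have h2 : t * (k * d * k⁻¹) * t = k * d * k⁻¹ := by
        rw [← hd''t, mul_assoc, hS.mul_self, mul_one]
      have h3 : k⁻¹ * d * k = k * d * k⁻¹ := h1.symm.trans h2
      -- d commutes with k^2
      have h4 : (k * k) * d = d * (k * k) := by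
        calc (k * k) * d = k * (k * d * k⁻¹) * k := by group
          _ = k * (k⁻¹ * d * k) * k := by rw [h3]
          _ = d * (k * k) := by group
      -- k = (k*k)^(j+1)
      have hodd : Odd (orderOf k) := hS.odd_card.of_dvd_nat (Subgroup.orderOf_dvd_natCard _ hkD)
      obtain ⟨j, hj⟩ := hodd
      have h5 : (k * k) ^ (j + 1) = k := by
        rw [← pow_two, ← pow_mul]
        have : 2 * (j + 1) = orderOf k + 1 := by omega
        rw [this, pow_succ, pow_orderOf_eq_one, one_mul]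
      have h6 : Commute (k * k) d := h4
      have h7 := (h6.pow_left (j + 1)).eq
      rw [h5] at h7
      exact h7

end Cfsg.Agent.S1127
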