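import Mathlib
import Cfsg.Statements.S1128
import Cfsg.Agent.Lib.Helper7.R1Fix

set_option autoImplicit false
open Cfsg

namespace Cfsg.Agent.S1128

open Cfsg.Agent.Lib.Helper7.R1

/-- Two involutions whose product has odd order are conjugate by a power of the product. -/
theorem conj_of_odd_order' {G : Type*} [Group G] {s u : G} (hs : s * s = 1) (hu : u * u = 1)
    (hodd : Odd (orderOf (s * u))) : ∃ k : ℕ, (s * u) ^ k * s * ((s * u) ^ k)⁻¹ = u := by
  obtain ⟨k, hk⟩ := hodd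
  have hsi : s⁻¹ = s := inv_eq_of_mul_eq_one_left hs
  have hui : u⁻¹ = u := inv_eq_of_mul_eq_one_left hu
  have hr : (s * u) ^ (2 * k + 1) = 1 := by rw [← hk]; exact pow_orderOf_eq_one _
  have hinv1 : (s * u)⁻¹ = u * s := by rw [mul_inv_rev, hsi, hui]
  have hinv2 : (u * s)⁻¹ = s * u := by rw [mul_inv_rev, hsi, hui]
  have hsc : ∀ j : ℕ, s * (u * s) ^ j = (s * u) ^ j * s := by
    intro j
    induction j with
    | zero => simp
    | succ j ih =>
      rw [pow_succ, ← mul_assoc, ih, pow_succ]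
      simp only [mul_assoc]
  have hinv : ((s * u) ^ k)⁻¹ = (u * s) ^ k := by rw [← inv_pow, hinv1]
  have h2k : (u * s) ^ (2 * k) = s * u := by
    have h1 : (u * s) ^ (2 * k + 1) = 1 := by
      rw [← hinv1, inv_pow, hr, inv_one]
    rw [pow_succ] at h1
    have h2 := eq_inv_of_mul_eq_one_left h1
    rw [h2, hinv2]
  refine ⟨k, ?_⟩
  calc (s * u) ^ k * s * ((s * u) ^ k)⁻¹ = s * (u * s) ^ k * (u * s) ^ k := by rw [hinv, hsc]
    _ = s * (u * s) ^ (2 * k) := by rw [mul_assoc, ← pow_add, two_mul]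
    _ = s * (s * u) := by rw [h2k]
    _ = u := by rw [← mul_assoc, hs, one_mul]

/-- If `r` inverts `x` then `r^k` centralizes or inverts `x` (stated for the inverse conjugation). -/
theorem pow_conj_cases {G : Type*} [Group G] {r x : G} (h : r⁻¹ * x * r = x⁻¹) (k : ℕ) :
    (r ^ k)⁻¹ * x * r ^ k = x ∨ (r ^ k)⁻¹ * x * r ^ k = x⁻¹ := by
  induction k with
  | zero => left; simp
  | succ k ih =>
    have e : (r ^ (k + 1))⁻¹ * x * r ^ (k + 1) = r⁻¹ * ((r ^ k)⁻¹ * x * r ^ k) * r := by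
      rw [pow_succ]; group
    rcases ih with ih | ih
    · right; rw [e, ih, h]
    · left
      rw [e, ih]
      have : r⁻¹ * x⁻¹ * r = (r⁻¹ * x * r)⁻¹ := by group
      rw [this, h, inv_inv]

/-- In the rank-one set-up (`G` finite and doubly transitive on `Ω`, `t` an involution moving `a`, `Q` normal in `G_a` with `G_a = Q D`, `Q ⊓ D = 1` for the two-point stabiliser `D = G_a ⊓ G_{t • a}`, `|Q|` even, `|D|` odd), with the action faithful and `G` containing two distinct commuting involutions: every non-identity element of `D` inverted by `t` acts fixed-point-freely on `Q`. -/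
theorem result {G Ω : Type*} [Group G] [Finite G] [MulAction G Ω] [FaithfulSMul G Ω] {a : Ω} {t : G} {Q : Subgroup G}
    (hS : Cfsg.IsRankOneSetup G Ω a t Q)
    (h2 : ∃ x y : G, x ≠ 1 ∧ y ≠ 1 ∧ x ≠ y ∧ x * x = 1 ∧ y * y = 1 ∧ x * y = y * x)
    (x : G) (hx : x ∈ Cfsg.invertedBy (MulAction.stabilizer G a ⊓ MulAction.stabilizer G (t • a)) t) (hx1 : x ≠ 1) :
    Q ⊓ Subgroup.centralizer {x} = ⊥ := by
  obtain ⟨hxD, hxt⟩ := (mem_K_iff hS).1 hx
  have ht := t_inv hS
  rw [eq_bot_iff]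
  intro y hy
  rw [Subgroup.mem_bot]
  by_contra hy1
  obtain ⟨hyQ, hyc⟩ := Subgroup.mem_inf.1 hy
  have hyx : y * x = x * y := Subgroup.mem_centralizer_singleton_iff.1 hyc
  have hX : ({x} : Set G) ⊆ ((MulAction.stabilizer G a ⊓ MulAction.stabilizer G (t • a) : Subgroup G) : Set G) := by
    intro z hz
    rw [Set.mem_singleton_iff] at hz
    rw [hz]; exact hxD
  have hxa : x • a = a := MulAction.mem_stabilizer_iff.1 (Subgroup.mem_inf.1 hxD).1
  have hxb : x • (t • a) = t • a := MulAction.mem_stabilizer_iff.1 (Subgroup.mem_inf.1 hxD).2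
  have hxyb : x • (y • (t • a)) = y • (t • a) := by
    rw [← mul_smul, ← hyx, mul_smul, hxb]
  have h3 : ∃ b c d : Ω, b ≠ c ∧ b ≠ d ∧ c ≠ d ∧ ∀ z ∈ ({x} : Set G), z • b = b ∧ z • c = c ∧ z • d = d := by
    refine ⟨a, t • a, y • (t • a), (ta_ne hS).symm, (H_smul_ne hS (hS.le hyQ) (ta_ne hS)).symm, ?_, ?_⟩
    · intro h
      exact hy1 (Q_free hS hyQ (ta_ne hS) h.symm)
    · intro z hz
      rw [Set.mem_singleton_iff] at hz
      rw [hz]
      exact ⟨hxa, hxb, hxyb⟩
  obtain ⟨s, hs, hs1, hs2⟩ := exists_invol_NQ hS hX h3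
  obtain ⟨hsN, hsQ⟩ := Subgroup.mem_inf.1 hs
  have hxs : x * s = s * x := Subgroup.mem_centralizer_iff.1 hsN x (Set.mem_singleton x)
  have hodd := odd_order_mul hS (hS.le hsQ) hs1 hs2 hS.not_mem hS.mul_self
  obtain ⟨k, hk⟩ := conj_of_odd_order' hs2 hS.mul_self hodd
  have hsi : s⁻¹ = s := inv_eq_of_mul_eq_one_left hs2
  have hrinv : (s * t)⁻¹ * x * (s * t) = x⁻¹ := by
    rw [mul_inv_rev, ht, hsi]
    have : t * s * x * (s * t) = t * (s * x) * s * t := by group
    rw [this, ← hxs]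
    have : t * (x * s) * s * t = t * x * (s * s) * t := by group
    rw [this, hs2, mul_one, hxt]
  have hcases := pow_conj_cases hrinv k
  obtain ⟨g, hg⟩ : ∃ g : G, g = (s * t) ^ k := ⟨_, rfl⟩
  rw [← hg] at hk hcases
  -- s commutes with x' := g⁻¹ x g
  have hsx' : s * (g⁻¹ * x * g) * s⁻¹ = g⁻¹ * x * g := by
    rcases hcases with h | h
    · rw [h, ← hxs]; group
    · rw [h]
      have : s * x⁻¹ * s⁻¹ = (s * x * s⁻¹)⁻¹ := by group
      rw [this, ← hxs]; group
  -- t x t⁻¹ = x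
  have htx : t * x * t⁻¹ = x := by
    have e : t * x * t⁻¹ = g * (s * (g⁻¹ * x * g) * s⁻¹) * g⁻¹ := by
      calc t * x * t⁻¹ = (g * s * g⁻¹) * x * (g * s * g⁻¹)⁻¹ := by rw [hk]
        _ = g * (s * (g⁻¹ * x * g) * s⁻¹) * g⁻¹ := by group
    rw [e, hsx']; group
  rw [ht, hxt] at htx
  -- x⁻¹ = x → x = 1
  have hxx : x * x = 1 := by
    have : x * x = x * x⁻¹ := by rw [htx]
    rw [this, mul_inv_cancel]
  have hodd' : Odd (orderOf x) := hS.odd_card.of_dvd_nat (Subgroup.orderOf_dvd_natCard _ hxD)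
  have hdvd : orderOf x ∣ 2 := orderOf_dvd_of_pow_eq_one (by rw [pow_two]; exact hxx)
  have : orderOf x = 1 := by
    rcases (Nat.dvd_prime Nat.prime_two).1 hdvd with h | h
    · exact h
    · rw [h] at hodd'; exact absurd hodd' (by decide)
  exact hx1 (orderOf_eq_one_iff.1 this)

end Cfsg.Agent.S1128
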