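import Mathlib
import Cfsg.Statements.S1129
import Cfsg.Agent.S1128
import Cfsg.Agent.S1122
import Cfsg.Agent.S0033

set_option autoImplicit false
open Cfsg

namespace Cfsg.Agent.S1129

open Cfsg.Agent.Lib.Helper7.R1

/-- Two distinct involutions in `G_a`. -/
theorem two_invol_H {G Ω : Type*} [Group G] [Finite G] [MulAction G Ω] {a : Ω} {t : G} {Q : Subgroup G}
    (hS : Cfsg.IsRankOneSetup G Ω a t Q)
    (h2 : ∃ x y : G, x ≠ 1 ∧ y ≠ 1 ∧ x ≠ y ∧ x * x = 1 ∧ y * y = 1 ∧ x * y = y * x) :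
    ∃ s s' : G, s ∈ Cfsg.involutionsIn (MulAction.stabilizer G a : Set G) ∧
      s' ∈ Cfsg.involutionsIn (MulAction.stabilizer G a : Set G) ∧ s ≠ s' ∧ s * s' = s' * s := by
  haveI := hS.two_transitive
  haveI : MulAction.IsPretransitive G Ω := MulAction.isPretransitive_of_is_two_pretransitive
  obtain ⟨x, y, hx1, hy1, hxy, hx2, hy2, hcomm⟩ := h2
  obtain ⟨p, hp⟩ := exists_fixed_of_invol hS hx2
  have hyp : y • p = p := by
    apply invol_fix_unique hS hx1 hx2 _ hp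
    rw [← mul_smul, hcomm, mul_smul, hp]
  obtain ⟨g, hg⟩ := MulAction.exists_smul_eq G p a
  have hginv : g⁻¹ • a = p := by rw [← hg, inv_smul_smul]
  have key : ∀ z : G, z ≠ 1 → z * z = 1 → z • p = p →
      g * z * g⁻¹ ∈ Cfsg.involutionsIn (MulAction.stabilizer G a : Set G) := by
    intro z hz1 hz2 hzp
    refine mem_I_iff.2 ⟨?_, ?_, ?_⟩
    · rw [MulAction.mem_stabilizer_iff, mul_smul, mul_smul, hginv, hzp, hg]
    · intro h
      apply hz1
      have : z = g⁻¹ * (g * z * g⁻¹) * g := by group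
      rw [this, h]; group
    · have : g * z * g⁻¹ * (g * z * g⁻¹) = g * (z * z) * g⁻¹ := by group
      rw [this, hz2]; group
  refine ⟨g * x * g⁻¹, g * y * g⁻¹, key x hx1 hx2 hp, key y hy1 hy2 hyp, ?_, ?_⟩
  · intro h
    apply hxy
    have h1 : x = g⁻¹ * (g * x * g⁻¹) * g := by group
    have h2 : y = g⁻¹ * (g * y * g⁻¹) * g := by group
    rw [h1, h2, h]
  · have e1 : g * x * g⁻¹ * (g * y * g⁻¹) = g * (x * y) * g⁻¹ := by group
    have e2 : g * y * g⁻¹ * (g * x * g⁻¹) = g * (y * x) * g⁻¹ := by group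
    rw [e1, e2, hcomm]

theorem K_pow {G Ω : Type*} [Group G] [MulAction G Ω] {a : Ω} {t : G} {Q : Subgroup G}
    (hS : Cfsg.IsRankOneSetup G Ω a t Q) {k : G}
    (hk : k ∈ Cfsg.invertedBy (MulAction.stabilizer G a ⊓ MulAction.stabilizer G (t • a)) t) (n : ℕ) :
    k ^ n ∈ Cfsg.invertedBy (MulAction.stabilizer G a ⊓ MulAction.stabilizer G (t • a)) t := by
  obtain ⟨hkD, hkt⟩ := (mem_K_iff hS).1 hk
  refine (mem_K_iff hS).2 ⟨pow_mem hkD n, ?_⟩
  have h0 : t * k ^ n * t⁻¹ = (t * k * t⁻¹) ^ n := conj_pow.symm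
  rw [t_inv hS] at h0
  rw [h0, hkt, inv_pow]

/-- A non-identity element of `K` of prime order. -/
theorem exists_prime_K {G Ω : Type*} [Group G] [Finite G] [MulAction G Ω] {a : Ω} {t : G} {Q : Subgroup G}
    (hS : Cfsg.IsRankOneSetup G Ω a t Q)
    (h2 : ∃ x y : G, x ≠ 1 ∧ y ≠ 1 ∧ x ≠ y ∧ x * x = 1 ∧ y * y = 1 ∧ x * y = y * x) :
    ∃ (x₀ : G) (p : ℕ), p.Prime ∧ orderOf x₀ = p ∧
      x₀ ∈ Cfsg.invertedBy (MulAction.stabilizer G a ⊓ MulAction.stabilizer G (t • a)) t := by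
  obtain ⟨s, s', hs, hs', hne, -⟩ := two_invol_H hS h2
  obtain ⟨k, hk, hks⟩ := (Cfsg.Agent.S1122.result hS).2 s hs s' hs'
  have hk1 : k ≠ 1 := by
    intro h
    apply hne
    rw [← hks, h]; group
  have hn1 : orderOf k ≠ 1 := fun h => hk1 (orderOf_eq_one_iff.1 h)
  have hp : (orderOf k).minFac.Prime := Nat.minFac_prime hn1
  refine ⟨k ^ (orderOf k / (orderOf k).minFac), (orderOf k).minFac, hp, ?_, K_pow hS hk _⟩
  exact orderOf_pow_orderOf_div (orderOf_pos k).ne' (Nat.minFac_dvd _)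

/-- In the rank-one set-up (`G` finite and doubly transitive on `Ω`, `t` an involution moving `a`, `Q` normal in `G_a` with `G_a = Q D`, `Q ⊓ D = 1` for the two-point stabiliser `D = G_a ⊓ G_{t • a}`, `|Q|` even, `|D|` odd), with the action faithful and `G` containing two distinct commuting involutions: `Q` is nilpotent. -/
theorem result {G Ω : Type*} [Group G] [Finite G] [MulAction G Ω] [FaithfulSMul G Ω] {a : Ω} {t : G} {Q : Subgroup G}
    (hS : Cfsg.IsRankOneSetup G Ω a t Q)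
    (h2 : ∃ x y : G, x ≠ 1 ∧ y ≠ 1 ∧ x ≠ y ∧ x * x = 1 ∧ y * y = 1 ∧ x * y = y * x) :
    Group.IsNilpotent Q := by
  obtain ⟨x₀, p, hp, hxo, hxK⟩ := exists_prime_K hS h2
  have hx1 : x₀ ≠ 1 := by
    intro h
    rw [h, orderOf_one] at hxo
    exact hp.one_lt.ne hxo
  obtain ⟨hxD, -⟩ := (mem_K_iff hS).1 hxK
  have hxH : x₀ ∈ MulAction.stabilizer G a := (Subgroup.mem_inf.1 hxD).1
  have hfpf := Cfsg.Agent.S1128.result hS h2 x₀ hxK hx1
  let φ : Q ≃* Q :=
    { toFun := fun y => ⟨x₀ * y * x₀⁻¹, hS.conj_mem x₀ hxH y y.2⟩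
      invFun := fun y => ⟨x₀⁻¹ * y * x₀, by
        have := hS.conj_mem x₀⁻¹ (inv_mem hxH) y y.2
        rwa [inv_inv] at this⟩
      left_inv := fun y => by
        apply Subtype.ext
        show x₀⁻¹ * (x₀ * y * x₀⁻¹) * x₀ = y
        group
      right_inv := fun y => by
        apply Subtype.ext
        show x₀ * (x₀⁻¹ * y * x₀) * x₀⁻¹ = y
        group
      map_mul' := fun y z => by
        apply Subtype.ext
        show x₀ * ((y : G) * z) * x₀⁻¹ = (x₀ * y * x₀⁻¹) * (x₀ * z * x₀⁻¹)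
        group }
  have hφ : ∀ y : Q, ((φ y : Q) : G) = x₀ * y * x₀⁻¹ := fun y => rfl
  have hφpow : ∀ (n : ℕ) (y : Q), (((φ ^ n) y : Q) : G) = x₀ ^ n * y * (x₀ ^ n)⁻¹ := by
    intro n
    induction n with
    | zero => intro y; simp
    | succ n ih =>
      intro y
      rw [pow_succ, MulAut.mul_apply, ih, hφ, pow_succ]
      group
  have hfree : MonoidHom.FixedPointFree ((φ : Q →* Q)) := by
    intro y hy
    have hy' : x₀ * (y : G) * x₀⁻¹ = y := congrArg Subtype.val hy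
    have hmem : (y : G) ∈ Q ⊓ Subgroup.centralizer {x₀} := by
      refine Subgroup.mem_inf.2 ⟨y.2, Subgroup.mem_centralizer_singleton_iff.2 ?_⟩
      have : (y : G) * x₀ = (x₀ * y * x₀⁻¹) * x₀ := by rw [hy']
      rw [this]; group
    rw [hfpf, Subgroup.mem_bot] at hmem
    exact Subtype.ext hmem
  have hord : orderOf φ = p := by
    apply @orderOf_eq_prime _ _ _ _ ⟨hp⟩
    · ext y
      rw [hφpow, ← hxo, pow_orderOf_eq_one]
      simp
    · intro h
      obtain ⟨y, hyQ, hy1⟩ := Q_ne_bot hS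
      apply hy1
      have h1 := hfree ⟨y, hyQ⟩ (by
        show φ ⟨y, hyQ⟩ = ⟨y, hyQ⟩
        rw [h]; rfl)
      exact congrArg Subtype.val h1
  exact Cfsg.Agent.S0033.result φ hfree p hp hord

end Cfsg.Agent.S1129
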