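import Mathlib
import Cfsg.Statements.S1130
import Cfsg.Agent.S1129
import Cfsg.Agent.S0065
import Cfsg.Agent.S0093

set_option autoImplicit false
open Cfsg

namespace Cfsg.Agent.S1130

open Cfsg.Agent.Lib.Helper7.R1

/-- A central involution of `Q`. -/
theorem exists_central_invol {G Ω : Type*} [Group G] [Finite G] [MulAction G Ω] [FaithfulSMul G Ω] {a : Ω} {t : G} {Q : Subgroup G}
    (hS : Cfsg.IsRankOneSetup G Ω a t Q)
    (h2 : ∃ x y : G, x ≠ 1 ∧ y ≠ 1 ∧ x ≠ y ∧ x * x = 1 ∧ y * y = 1 ∧ x * y = y * x) :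
    ∃ z : G, z ∈ Q ∧ z ≠ 1 ∧ z * z = 1 ∧ ∀ x ∈ Q, z * x = x * z := by
  haveI : Fact (Nat.Prime 2) := ⟨Nat.prime_two⟩
  haveI hnil : Group.IsNilpotent Q := Cfsg.Agent.S1129.result hS h2
  obtain ⟨P⟩ : Nonempty (Sylow 2 Q) := inferInstance
  haveI hPn : (P : Subgroup Q).Normal := by
    have := ((Group.isNilpotent_of_finite_tfae (G := Q)).out 0 3).1 hnil
    exact this 2 inferInstance P
  have hPne : (P : Subgroup Q) ≠ ⊥ := by
    intro h
    have h1 := P.card_eq_multiplicity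
    rw [h, Subgroup.card_bot] at h1
    have h2' : 0 < (Nat.card Q).factorization 2 :=
      Nat.Prime.factorization_pos_of_dvd Nat.prime_two Nat.card_pos.ne' (even_iff_two_dvd.1 hS.even_card)
    have : 2 ^ (Nat.card Q).factorization 2 ≠ 1 := by
      intro h3
      have := Nat.pow_eq_one.1 h3
      omega
    exact this h1.symm
  have hne := Cfsg.Agent.S0065.result (P : Subgroup Q) hPne
  obtain ⟨y, hy1⟩ := (Subgroup.ne_bot_iff_exists_ne_one).1 hne
  obtain ⟨hyP, hyZ⟩ := Subgroup.mem_inf.1 y.2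
  have hy1' : (⟨(y : Q), hyP⟩ : (P : Subgroup Q)) ≠ 1 := by
    intro h
    apply hy1
    apply Subtype.ext
    have h' := congrArg (fun w : (P : Subgroup Q) => (w : Q)) h
    simpa using h'
  obtain ⟨n, hn1, hn2⟩ := Cfsg.Agent.S0093.exists_order_p P.2 (⟨(y : Q), hyP⟩ : (P : Subgroup Q)) hy1'
  refine ⟨(((y : Q) ^ n : Q) : G), (((y : Q) ^ n : Q)).2, ?_, ?_, ?_⟩
  · intro h
    apply hn1
    apply Subtype.ext
    apply Subtype.ext
    simpa using h
  · have h3 := congrArg (fun w : (P : Subgroup Q) => ((w : Q) : G)) hn2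
    simp only [Subgroup.coe_pow, Subgroup.coe_one] at h3
    rw [← pow_two]
    simpa using h3
  · intro x hx
    have hc : ((y : Q) ^ n) ∈ Subgroup.center Q := pow_mem hyZ n
    have := Subgroup.mem_center_iff.1 hc ⟨x, hx⟩
    have h4 := congrArg (fun w : Q => (w : G)) this
    simp only [Subgroup.coe_mul] at h4
    exact h4.symm

/-- In the rank-one set-up (`G` finite and doubly transitive on `Ω`, `t` an involution moving `a`, `Q` normal in `G_a` with `G_a = Q D`, `Q ⊓ D = 1` for the two-point stabiliser `D = G_a ⊓ G_{t • a}`, `|Q|` even, `|D|` odd), with the action faithful and `G` containing two distinct commuting involutions: the involutions of `G_a` lie in `Z(Q)`, and together with `1` they are closed under multiplication (so form an elementary abelian 2-subgroup). -/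
theorem result {G Ω : Type*} [Group G] [Finite G] [MulAction G Ω] [FaithfulSMul G Ω] {a : Ω} {t : G} {Q : Subgroup G}
    (hS : Cfsg.IsRankOneSetup G Ω a t Q)
    (h2 : ∃ x y : G, x ≠ 1 ∧ y ≠ 1 ∧ x ≠ y ∧ x * x = 1 ∧ y * y = 1 ∧ x * y = y * x) :
    (∀ s ∈ Cfsg.involutionsIn (MulAction.stabilizer G a : Set G), s ∈ Q ∧ ∀ x ∈ Q, s * x = x * s) ∧
      ∀ s ∈ Cfsg.involutionsIn (MulAction.stabilizer G a : Set G), ∀ s' ∈ Cfsg.involutionsIn (MulAction.stabilizer G a : Set G),
        s * s' = 1 ∨ s * s' ∈ Cfsg.involutionsIn (MulAction.stabilizer G a : Set G) := by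
  obtain ⟨z, hzQ, hz1, hz2, hzc⟩ := exists_central_invol hS h2
  have hzI : z ∈ Cfsg.involutionsIn (MulAction.stabilizer G a : Set G) := mem_I_iff.2 ⟨hS.le hzQ, hz1, hz2⟩
  have part1 : ∀ s ∈ Cfsg.involutionsIn (MulAction.stabilizer G a : Set G), s ∈ Q ∧ ∀ x ∈ Q, s * x = x * s := by
    intro s hs
    obtain ⟨hsH, hs1, hs2⟩ := mem_I_iff.1 hs
    refine ⟨invol_mem_Q hS hsH hs2, ?_⟩
    intro x hx
    obtain ⟨k, hk, hks⟩ := (Cfsg.Agent.S1122.result hS).2 z hzI s hs
    obtain ⟨hkD, -⟩ := (mem_K_iff hS).1 hk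
    have hkx : k * x * k⁻¹ ∈ Q := hS.conj_mem k (Subgroup.mem_inf.1 hkD).1 x hx
    have h1 := hzc _ hkx
    rw [← hks]
    calc k⁻¹ * z * k * x = k⁻¹ * (z * (k * x * k⁻¹)) * k := by group
      _ = k⁻¹ * ((k * x * k⁻¹) * z) * k := by rw [h1]
      _ = x * (k⁻¹ * z * k) := by group
  refine ⟨part1, ?_⟩
  intro s hs s' hs'
  obtain ⟨hsH, hs1, hs2⟩ := mem_I_iff.1 hs
  obtain ⟨hsH', hs1', hs2'⟩ := mem_I_iff.1 hs'
  by_cases h : s * s' = 1
  · left; exact h
  · right
    refine mem_I_iff.2 ⟨mul_mem hsH hsH', h, ?_⟩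
    have hcomm := (part1 s hs).2 s' (part1 s' hs').1
    calc s * s' * (s * s') = s * (s' * s) * s' := by group
      _ = s * (s * s') * s' := by rw [hcomm]
      _ = (s * s) * (s' * s') := by group
      _ = 1 := by rw [hs2, hs2', one_mul]

end Cfsg.Agent.S1130
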