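import Mathlib
import Cfsg.Statements.S1134
import Cfsg.Agent.Lib.Helper7.R1Fix

set_option autoImplicit false
open Cfsg

namespace Cfsg.Agent.S1134

open Cfsg.Agent.Lib.Helper7.R1

/-- In the rank-one set-up (`G` finite and doubly transitive on `Ω`, `t` an involution moving `a`, `Q` normal in `G_a` with `G_a = Q D`, `Q ⊓ D = 1` for the two-point stabiliser `D = G_a ⊓ G_{t • a}`, `|Q|` even, `|D|` odd), with the action faithful and `G` containing two distinct commuting involutions, with `V = C_D(t)`: subsets of `V` conjugate in `G` are conjugate in `V`. -/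
theorem result {G Ω : Type*} [Group G] [Finite G] [MulAction G Ω] [FaithfulSMul G Ω] {a : Ω} {t : G} {Q : Subgroup G}
    (hS : Cfsg.IsRankOneSetup G Ω a t Q)
    (h2 : ∃ x y : G, x ≠ 1 ∧ y ≠ 1 ∧ x ≠ y ∧ x * x = 1 ∧ y * y = 1 ∧ x * y = y * x)
    (X : Set G) (hX : X ⊆ (((MulAction.stabilizer G a ⊓ MulAction.stabilizer G (t • a)) ⊓ Subgroup.centralizer {t} : Subgroup G) : Set G)) (g : G)
    (hY : (fun x => g * x * g⁻¹) '' X ⊆ (((MulAction.stabilizer G a ⊓ MulAction.stabilizer G (t • a)) ⊓ Subgroup.centralizer {t} : Subgroup G) : Set G)) :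
    ∃ v ∈ (MulAction.stabilizer G a ⊓ MulAction.stabilizer G (t • a)) ⊓ Subgroup.centralizer {t}, (fun x => v * x * v⁻¹) '' X = (fun x => g * x * g⁻¹) '' X := by
  have ht := t_inv hS
  have htt : ∀ y : G, t * (t * y) = y := by
    intro y; rw [← mul_assoc, hS.mul_self, one_mul]
  -- membership facts
  have hXD : ∀ x ∈ X, x ∈ (MulAction.stabilizer G a ⊓ MulAction.stabilizer G (t • a)) := fun x hx =>
    (Subgroup.mem_inf.1 (hX hx)).1
  have hXt : ∀ x ∈ X, t * x * t = x := by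
    intro x hx
    have h1 : x * t = t * x := Subgroup.mem_centralizer_singleton_iff.1 (Subgroup.mem_inf.1 (hX hx)).2
    rw [← h1, mul_assoc, hS.mul_self, mul_one]
  have hYD : ∀ x ∈ X, g * x * g⁻¹ ∈ (MulAction.stabilizer G a ⊓ MulAction.stabilizer G (t • a)) := fun x hx =>
    (Subgroup.mem_inf.1 (hY ⟨x, hx, rfl⟩)).1
  have hYt : ∀ x ∈ X, t * (g * x * g⁻¹) * t = g * x * g⁻¹ := by
    intro x hx
    have h1 : (g * x * g⁻¹) * t = t * (g * x * g⁻¹) :=
      Subgroup.mem_centralizer_singleton_iff.1 (Subgroup.mem_inf.1 (hY ⟨x, hx, rfl⟩)).2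
    rw [← h1, mul_assoc, hS.mul_self, mul_one]
  -- fixed point of t
  obtain ⟨e, he⟩ := exists_fixed_of_invol hS hS.mul_self
  have hea : e ≠ a := by
    intro h; rw [h] at he; exact ta_ne hS he
  have heb : e ≠ t • a := by
    intro h; rw [h, tt_smul hS] at he; exact ta_ne hS he.symm
  have hYsub : (fun x => g * x * g⁻¹) '' X ⊆ ((MulAction.stabilizer G a ⊓ MulAction.stabilizer G (t • a) : Subgroup G) : Set G) := by
    rintro _ ⟨x, hx, rfl⟩
    exact hYD x hx
  have hYe : ∀ y ∈ (fun x => g * x * g⁻¹) '' X, y • e = e := by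
    rintro _ ⟨x, hx, rfl⟩
    apply invol_fix_unique hS hS.ne_one hS.mul_self _ he
    have h1 : t * (g * x * g⁻¹) = (g * x * g⁻¹) * t := by
      have := hYt x hx
      calc t * (g * x * g⁻¹) = (t * (g * x * g⁻¹) * t) * t := by simp only [mul_assoc, hS.mul_self, mul_one]
        _ = (g * x * g⁻¹) * t := by rw [this]
    rw [← mul_smul, h1, mul_smul, he]
  have h3 : ∃ b c d : Ω, b ≠ c ∧ b ≠ d ∧ c ≠ d ∧ ∀ y ∈ (fun x => g * x * g⁻¹) '' X, y • b = b ∧ y • c = c ∧ y • d = d := by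
    refine ⟨a, t • a, e, (ta_ne hS).symm, hea.symm, heb.symm, ?_⟩
    intro y hy
    exact ⟨X_fix_a hYsub y hy, X_fix_b hYsub y hy, hYe y hy⟩
  have hga : ∀ y ∈ (fun x => g * x * g⁻¹) '' X, y • (g • a) = g • a := by
    rintro _ ⟨x, hx, rfl⟩
    rw [mul_smul, mul_smul, inv_smul_smul, MulAction.mem_stabilizer_iff.1 (Subgroup.mem_inf.1 (hXD x hx)).1]
  have hgb : ∀ y ∈ (fun x => g * x * g⁻¹) '' X, y • (g • (t • a)) = g • (t • a) := by
    rintro _ ⟨x, hx, rfl⟩
    rw [mul_smul, mul_smul, inv_smul_smul, MulAction.mem_stabilizer_iff.1 (Subgroup.mem_inf.1 (hXD x hx)).2]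
  have hgne : g • a ≠ g • (t • a) := fun h => (ta_ne hS) (MulAction.injective g h).symm
  obtain ⟨c, hc, hca, hcb⟩ := N_two_trans hS hYsub h3 hga hgb (X_fix_a hYsub) (X_fix_b hYsub) hgne (ta_ne hS).symm
  obtain ⟨d, hd⟩ : ∃ d : G, d = c * g := ⟨_, rfl⟩
  have hdD : d ∈ (MulAction.stabilizer G a ⊓ MulAction.stabilizer G (t • a)) := by
    refine Subgroup.mem_inf.2 ⟨?_, ?_⟩
    · rw [MulAction.mem_stabilizer_iff, hd, mul_smul, hca]
    · rw [MulAction.mem_stabilizer_iff, hd, mul_smul, hcb]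
  have hdx : ∀ x ∈ X, d * x * d⁻¹ = g * x * g⁻¹ := by
    intro x hx
    have h1 : (g * x * g⁻¹) * c = c * (g * x * g⁻¹) := Subgroup.mem_centralizer_iff.1 hc _ ⟨x, hx, rfl⟩
    calc d * x * d⁻¹ = c * (g * x * g⁻¹) * c⁻¹ := by rw [hd]; group
      _ = (g * x * g⁻¹) * c * c⁻¹ := by rw [h1]
      _ = g * x * g⁻¹ := by group
  have hd'D : t * d * t ∈ (MulAction.stabilizer G a ⊓ MulAction.stabilizer G (t • a)) := t_conj_D hS hdD
  obtain ⟨c', hc'⟩ : ∃ c' : G, c' = d⁻¹ * (t * d * t) := ⟨_, rfl⟩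
  have hc'D : c' ∈ (MulAction.stabilizer G a ⊓ MulAction.stabilizer G (t • a)) := by
    rw [hc']; exact mul_mem (inv_mem hdD) hd'D
  have hc'x : ∀ x ∈ X, c' * x = x * c' := by
    intro x hx
    have h1 : (t * d * t) * x * (t * d * t)⁻¹ = d * x * d⁻¹ := by
      have e1 : (t * d * t) * x * (t * d * t)⁻¹ = t * (d * (t * x * t) * d⁻¹) * t := by
        simp only [mul_inv_rev, ht, mul_assoc]
      rw [e1, hXt x hx, hdx x hx, hYt x hx]
    have h2 : c' * x * c'⁻¹ = x := by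
      have e2 : c' * x * c'⁻¹ = d⁻¹ * ((t * d * t) * x * (t * d * t)⁻¹) * d := by rw [hc']; group
      rw [e2, h1]; group
    calc c' * x = (c' * x * c'⁻¹) * c' := by group
      _ = x * c' := by rw [h2]
  have hc't : t * c' * t = c'⁻¹ := by
    rw [hc']
    simp only [mul_inv_rev, ht, mul_assoc, htt, inv_inv]
    have : t * (d⁻¹ * d) = t := by rw [inv_mul_cancel, mul_one]
    rw [hS.mul_self, mul_one]
  have hodd : Odd (orderOf c') := hS.odd_card.of_dvd_nat (Subgroup.orderOf_dvd_natCard _ hc'D)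
  obtain ⟨j, hj⟩ := hodd
  obtain ⟨r, hr⟩ : ∃ r : G, r = c' ^ (j + 1) := ⟨_, rfl⟩
  have hrr : r * r = c' := by
    rw [hr, ← pow_add]
    have : j + 1 + (j + 1) = orderOf c' + 1 := by omega
    rw [this, pow_succ, pow_orderOf_eq_one, one_mul]
  have hrD : r ∈ (MulAction.stabilizer G a ⊓ MulAction.stabilizer G (t • a)) := by
    rw [hr]; exact pow_mem hc'D _
  have hrt : t * r * t = r⁻¹ := by
    have h0 : t * c' ^ (j + 1) * t⁻¹ = (t * c' * t⁻¹) ^ (j + 1) := conj_pow.symm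
    rw [ht] at h0
    rw [hr, h0, hc't, inv_pow]
  have hrx : ∀ x ∈ X, r * x = x * r := by
    intro x hx
    have h1 : Commute c' x := hc'x x hx
    rw [hr]
    exact (h1.pow_left (j + 1)).eq
  refine ⟨d * r, Subgroup.mem_inf.2 ⟨mul_mem hdD hrD, Subgroup.mem_centralizer_singleton_iff.2 ?_⟩, ?_⟩
  · -- (d r) t = t (d r)
    have h1 : t * (d * r) * t = d * r := by
      have e1 : t * (d * r) * t = (t * d * t) * (t * r * t) := by simp only [mul_assoc, htt]
      have e2 : t * d * t = d * c' := by rw [hc']; group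
      rw [e1, e2, hrt, ← hrr]; group
    calc d * r * t = (t * (d * r) * t) * t := by rw [h1]
      _ = t * (d * r) := by simp only [mul_assoc, hS.mul_self, mul_one]
  · apply Set.image_congr
    intro x hx
    show d * r * x * (d * r)⁻¹ = g * x * g⁻¹
    rw [← hdx x hx]
    calc d * r * x * (d * r)⁻¹ = d * (r * x) * r⁻¹ * d⁻¹ := by group
      _ = d * (x * r) * r⁻¹ * d⁻¹ := by rw [hrx x hx]
      _ = d * x * d⁻¹ := by group

end Cfsg.Agent.S1134
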