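import Mathlib
import Cfsg.Statements.S1135
import Cfsg.Agent.S1130
import Cfsg.Agent.S0916

set_option autoImplicit false
open Cfsg

namespace Cfsg.Agent.S1135

open Cfsg.Agent.Lib.Helper7.R1

theorem card_modEq_of_invol {α : Type*} [Fintype α] [DecidableEq α] (f : α → α) (hf : ∀ c, f (f c) = c) :
    Nat.card α ≡ Nat.card (Function.fixedPoints f) [MOD 2] := by
  haveI : Fact (Nat.Prime 2) := ⟨Nat.prime_two⟩
  let F : Function.End α := f
  have hFF : F ^ 2 ^ 1 = 1 := by
    rw [pow_one, sq]; funext c; exact hf c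
  have := Equiv.Perm.card_fixedPoints_modEq (f := F) (p := 2) (n := 1) hFF
  rw [Fintype.card_eq_nat_card, Fintype.card_eq_nat_card] at this
  exact this

/-- the centralizer of `s t` has odd order when `(s t)² ≠ 1` -/
theorem odd_centralizer {G Ω : Type*} [Group G] [Finite G] [MulAction G Ω] {a : Ω} {t : G} {Q : Subgroup G}
    (hS : Cfsg.IsRankOneSetup G Ω a t Q) {s : G}
    (hs : s ∈ Cfsg.involutionsIn (MulAction.stabilizer G a : Set G)) :
    Odd (Nat.card ↥(Subgroup.centralizer {s * t})) := by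
  classical
  haveI : Fact (Nat.Prime 2) := ⟨Nat.prime_two⟩
  haveI := finite_Ω hS
  obtain ⟨hsH, hs1, hs2⟩ := mem_I_iff.1 hs
  have hsQ := invol_mem_Q hS hsH hs2
  have hsi : s⁻¹ = s := inv_eq_of_mul_eq_one_left hs2
  have ht := t_inv hS
  rw [← Nat.not_even_iff_odd]
  intro heven
  obtain ⟨w0, hw0⟩ := exists_prime_orderOf_dvd_card' 2 (even_iff_two_dvd.1 heven)
  obtain ⟨w, hw⟩ : ∃ w : G, w = (w0 : G) := ⟨_, rfl⟩
  have hwo : orderOf w = 2 := by rw [hw, Subgroup.orderOf_coe]; exact hw0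
  have hw1 : w ≠ 1 := by
    intro h; rw [h, orderOf_one] at hwo; omega
  have hw2 : w * w = 1 := by rw [← pow_two, ← hwo, pow_orderOf_eq_one]
  have hwx : w * (s * t) = (s * t) * w := by
    rw [hw]; exact Subgroup.mem_centralizer_singleton_iff.1 w0.2
  obtain ⟨ew, hew⟩ := exists_fixed_of_invol hS hw2
  have hxew : (s * t) • ew = ew := by
    apply invol_fix_unique hS hw1 hw2 _ hew
    rw [← mul_smul, hwx, mul_smul, hew]
  -- x a ≠ a
  have hxa : (s * t) • a ≠ a := by
    rw [mul_smul]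
    exact H_smul_ne hS hsH (ta_ne hS)
  -- s inverts x
  have hsx : s * (s * t) = (s * t)⁻¹ * s := by
    rw [mul_inv_rev, ht, hsi, ← mul_assoc, hs2, one_mul, mul_assoc, hs2, mul_one]
  have hinvfix : ∀ c : Ω, (s * t) • c = c → (s * t)⁻¹ • c = c := by
    intro c hc
    rw [inv_smul_eq_iff, hc]
  have hts : ∀ c : Ω, (s * t) • c = c → (t * s) • c = c := by
    intro c hc
    have := hinvfix c hc
    rwa [mul_inv_rev, ht, hsi] at this
  haveI : Fintype {c : Ω // (s * t) • c = c} := Fintype.ofFinite _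
  let f_s : {c : Ω // (s * t) • c = c} → {c : Ω // (s * t) • c = c} := fun c =>
    ⟨s • (c : Ω), by rw [← mul_smul, mul_assoc, mul_smul, hts c c.2]⟩
  let f_w : {c : Ω // (s * t) • c = c} → {c : Ω // (s * t) • c = c} := fun c =>
    ⟨w • (c : Ω), by rw [← mul_smul, ← hwx, mul_smul, c.2]⟩
  have h1 := card_modEq_of_invol f_s (fun c => by
    apply Subtype.ext
    show s • s • (c : Ω) = c
    rw [← mul_smul, hs2, one_smul])
  have h2 := card_modEq_of_invol f_w (fun c => by
    apply Subtype.ext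
    show w • w • (c : Ω) = c
    rw [← mul_smul, hw2, one_smul])
  have hfs : Nat.card (Function.fixedPoints f_s) = 0 := by
    haveI : IsEmpty (Function.fixedPoints f_s) := by
      constructor
      rintro ⟨c, hc⟩
      have hc' : s • (c : Ω) = c := congrArg Subtype.val hc
      have hca : (c : Ω) = a := invol_fix_unique hS hs1 hs2 hc' (MulAction.mem_stabilizer_iff.1 hsH)
      apply hxa
      rw [← hca]; exact c.2
    exact Nat.card_of_isEmpty
  have hfw : Nat.card (Function.fixedPoints f_w) = 1 := by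
    rw [Nat.card_eq_one_iff_unique]
    refine ⟨⟨?_⟩, ⟨⟨⟨ew, hxew⟩, ?_⟩⟩⟩
    · rintro ⟨c, hc⟩ ⟨c', hc'⟩
      have h3 : w • (c : Ω) = c := congrArg Subtype.val hc
      have h4 : w • (c' : Ω) = c' := congrArg Subtype.val hc'
      apply Subtype.ext
      apply Subtype.ext
      exact invol_fix_unique hS hw1 hw2 h3 h4
    · apply Subtype.ext
      exact hew
  rw [hfs] at h1
  rw [hfw] at h2
  have := h1.symm.trans h2
  exact absurd this (by decide)

/-- In the rank-one set-up (`G` finite and doubly transitive on `Ω`, `t` an involution moving `a`, `Q` normal in `G_a` with `G_a = Q D`, `Q ⊓ D = 1` for the two-point stabiliser `D = G_a ⊓ G_{t • a}`, `|Q|` even, `|D|` odd), with the action faithful and `G` containing two distinct commuting involutions: if `x = u v` with `u, v` involutions and `x² ≠ 1`, then `x` is conjugate to `u' t` for some involution `u'` of `G_a`, and `|C_G(x)|` is odd. -/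
theorem result {G Ω : Type*} [Group G] [Finite G] [MulAction G Ω] [FaithfulSMul G Ω] {a : Ω} {t : G} {Q : Subgroup G}
    (hS : Cfsg.IsRankOneSetup G Ω a t Q)
    (h2 : ∃ x y : G, x ≠ 1 ∧ y ≠ 1 ∧ x ≠ y ∧ x * x = 1 ∧ y * y = 1 ∧ x * y = y * x)
    (u v : G) (hu1 : u ≠ 1) (hu2 : u * u = 1) (hv1 : v ≠ 1) (hv2 : v * v = 1) (hx : (u * v) * (u * v) ≠ 1) :
    (∃ g : G, ∃ u' ∈ Cfsg.involutionsIn (MulAction.stabilizer G a : Set G), g * (u * v) * g⁻¹ = u' * t) ∧
      Odd (Nat.card ↥(Subgroup.centralizer {u * v})) := by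
  haveI := hS.two_transitive
  haveI : MulAction.IsPretransitive G Ω := MulAction.isPretransitive_of_is_two_pretransitive
  have key : ∃ g : G, ∃ u' ∈ Cfsg.involutionsIn (MulAction.stabilizer G a : Set G), g * (u * v) * g⁻¹ = u' * t := by
    obtain ⟨g₁, hg₁⟩ := conj_t_of_invol hS hv1 hv2
    obtain ⟨u₁, hu₁⟩ : ∃ u₁ : G, u₁ = g₁ * u * g₁⁻¹ := ⟨_, rfl⟩
    have hu₁1 : u₁ ≠ 1 := by
      intro h
      apply hu1
      have : u = g₁⁻¹ * u₁ * g₁ := by rw [hu₁]; group
      rw [this, h]; group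
    have hu₁2 : u₁ * u₁ = 1 := by
      have : u₁ * u₁ = g₁ * (u * u) * g₁⁻¹ := by rw [hu₁]; group
      rw [this, hu2]; group
    have hconj : g₁ * (u * v) * g₁⁻¹ = u₁ * t := by
      rw [hu₁, ← hg₁]; group
    have hx' : (u₁ * t) * (u₁ * t) ≠ 1 := by
      intro h
      apply hx
      rw [← hconj] at h
      have e : g₁ * (u * v) * g₁⁻¹ * (g₁ * (u * v) * g₁⁻¹) = g₁ * ((u * v) * (u * v)) * g₁⁻¹ := by group
      rw [e] at h
      have e2 : (u * v) * (u * v) = g₁⁻¹ * (g₁ * ((u * v) * (u * v)) * g₁⁻¹) * g₁ := by group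
      rw [e2, h]; group
    obtain ⟨e, he⟩ := exists_fixed_of_invol hS hS.mul_self
    obtain ⟨c, hc⟩ := exists_fixed_of_invol hS hu₁2
    obtain ⟨m, hm⟩ := MulAction.exists_smul_eq G a e
    have hminv : m⁻¹ • e = a := by rw [← hm, inv_smul_smul]
    -- t' = m⁻¹ t m ∈ I
    have ht'I : m⁻¹ * t * m ∈ Cfsg.involutionsIn (MulAction.stabilizer G a : Set G) := by
      refine mem_I_iff.2 ⟨?_, ?_, ?_⟩
      · rw [MulAction.mem_stabilizer_iff, mul_smul, mul_smul, hm, he, hminv]
      · intro h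
        apply hS.ne_one
        have : t = m * (m⁻¹ * t * m) * m⁻¹ := by group
        rw [this, h]; group
      · have : m⁻¹ * t * m * (m⁻¹ * t * m) = m⁻¹ * (t * t) * m := by group
        rw [this, hS.mul_self]; group
    have hpart1 := (Cfsg.Agent.S1130.result hS h2).1
    have hce : c ≠ e := by
      intro hce
      apply hx'
      -- u₁ fixes e, so m⁻¹ u₁ m ∈ I, commutes with t'
      have hu'I : m⁻¹ * u₁ * m ∈ Cfsg.involutionsIn (MulAction.stabilizer G a : Set G) := by
        refine mem_I_iff.2 ⟨?_, ?_, ?_⟩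
        · rw [MulAction.mem_stabilizer_iff, mul_smul, mul_smul, hm, ← hce, hc, hce, hminv]
        · intro h
          apply hu₁1
          have : u₁ = m * (m⁻¹ * u₁ * m) * m⁻¹ := by group
          rw [this, h]; group
        · have : m⁻¹ * u₁ * m * (m⁻¹ * u₁ * m) = m⁻¹ * (u₁ * u₁) * m := by group
          rw [this, hu₁2]; group
      have hcomm := (hpart1 _ hu'I).2 _ (hpart1 _ ht'I).1
      have hcomm' : u₁ * t = t * u₁ := by
        have e1 : u₁ * t = m * ((m⁻¹ * u₁ * m) * (m⁻¹ * t * m)) * m⁻¹ := by group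
        rw [e1, hcomm]; group
      calc u₁ * t * (u₁ * t) = u₁ * (t * u₁) * t := by group
        _ = u₁ * (u₁ * t) * t := by rw [hcomm']
        _ = (u₁ * u₁) * (t * t) := by group
        _ = 1 := by rw [hu₁2, hS.mul_self, one_mul]
    have hae : a ≠ e := by
      intro h; rw [← h] at he; exact ta_ne hS he
    have h1 : m⁻¹ • c ≠ a := by
      intro h
      apply hce
      rw [← hm, ← h, smul_inv_smul]
    have h2' : m⁻¹ • a ≠ a := by
      intro h
      apply hae
      rw [← hm]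
      have := congrArg (m • ·) h
      simpa using this
    obtain ⟨q, hq, -⟩ := Q_regular hS h1 h2'
    obtain ⟨y, hy⟩ : ∃ y : G, y = m * (q : G) * m⁻¹ := ⟨_, rfl⟩
    have hyc : y • c = a := by
      rw [hy, mul_smul, mul_smul, hq, smul_inv_smul]
    have hyt : y * t = t * y := by
      have hcomm := (hpart1 _ ht'I).2 (q : G) q.2
      rw [hy]
      calc m * (q : G) * m⁻¹ * t = m * ((q : G) * (m⁻¹ * t * m)) * m⁻¹ := by group
        _ = m * ((m⁻¹ * t * m) * (q : G)) * m⁻¹ := by rw [hcomm]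
        _ = t * (m * (q : G) * m⁻¹) := by group
    have hyinv : y⁻¹ • a = c := by rw [← hyc, inv_smul_smul]
    refine ⟨y * g₁, y * u₁ * y⁻¹, mem_I_iff.2 ⟨?_, ?_, ?_⟩, ?_⟩
    · rw [MulAction.mem_stabilizer_iff, mul_smul, mul_smul, hyinv, hc, hyc]
    · intro h
      apply hu₁1
      have : u₁ = y⁻¹ * (y * u₁ * y⁻¹) * y := by group
      rw [this, h]; group
    · have : y * u₁ * y⁻¹ * (y * u₁ * y⁻¹) = y * (u₁ * u₁) * y⁻¹ := by group
      rw [this, hu₁2]; group
    · calc y * g₁ * (u * v) * (y * g₁)⁻¹ = y * (g₁ * (u * v) * g₁⁻¹) * y⁻¹ := by group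
        _ = y * (u₁ * t) * y⁻¹ := by rw [hconj]
        _ = y * u₁ * (t * y⁻¹) := by group
        _ = y * u₁ * (y⁻¹ * t) := by
            have : t * y⁻¹ = y⁻¹ * t := by
              calc t * y⁻¹ = y⁻¹ * (y * t) * y⁻¹ := by group
                _ = y⁻¹ * (t * y) * y⁻¹ := by rw [hyt]
                _ = y⁻¹ * t := by group
            rw [this]
        _ = y * u₁ * y⁻¹ * t := by group
  refine ⟨key, ?_⟩
  obtain ⟨g, u', hu', hg⟩ := key
  have hcard : Nat.card ↥(Subgroup.centralizer {u * v}) = Nat.card ↥(Subgroup.centralizer {u' * t}) := by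
    rw [← hg, Cfsg.Agent.S0916.centralizer_conj, Cfsg.Agent.Lib.Helper7.card_map_conj]
  rw [hcard]
  exact odd_centralizer hS hu'

end Cfsg.Agent.S1135
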