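import Cfsg.Statements.S1168
import Mathlib
import Cfsg.Agent.Lib.Helper6.AddMapsChar2

set_option autoImplicit false
open Cfsg Cfsg.Agent.Lib.Helper6

namespace Cfsg.Agent.S1168

theorem sum_pairs_split {ι M : Type*} [Fintype ι] [LinearOrder ι] [AddCommMonoid M]
    (G : ι × ι → M) :
    ∑ p : ι × ι, G p = ∑ p ∈ Finset.univ.filter (fun p : ι × ι => p.1 < p.2), (G p + G p.swap) +
      ∑ σ : ι, G (σ, σ) := by
  classical
  rw [← Finset.sum_filter_add_sum_filter_not Finset.univ (fun p : ι × ι => p.1 < p.2)]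
  rw [Finset.sum_add_distrib, add_assoc]
  congr 1
  rw [← Finset.sum_filter_add_sum_filter_not
    (Finset.univ.filter (fun p : ι × ι => ¬ p.1 < p.2)) (fun p : ι × ι => p.2 < p.1)]
  congr 1
  · rw [Finset.filter_filter]
    apply Finset.sum_nbij' (fun p => p.swap) (fun p => p.swap)
    · intro p hp
      simp only [Finset.mem_filter, Finset.mem_univ, true_and] at hp ⊢
      exact hp.2
    · intro p hp
      simp only [Finset.mem_filter, Finset.mem_univ, true_and] at hp ⊢
      exact ⟨not_lt.2 (le_of_lt hp), hp⟩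
    · intro p _; rfl
    · intro p _; rfl
    · intro p _; rfl
  · rw [Finset.filter_filter]
    apply Finset.sum_nbij' (fun p => p.1) (fun σ => (σ, σ))
    · intro p _; exact Finset.mem_univ _
    · intro σ _
      simp
    · intro p hp
      simp only [Finset.mem_filter, Finset.mem_univ, true_and] at hp
      have : p.1 = p.2 := le_antisymm (not_lt.1 hp.2) (not_lt.1 hp.1)
      ext
      · rfl
      · exact this
    · intro σ _; rfl
    · intro p hp
      simp only [Finset.mem_filter, Finset.mem_univ, true_and] at hp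
      have : p.1 = p.2 := le_antisymm (not_lt.1 hp.2) (not_lt.1 hp.1)
      congr 1
      ext
      · rfl
      · exact this.symm

theorem main1168 {F : Type*} [Field F] [Fintype F] [CharP F 2]
    (q : F → F)
    (hq : ∀ x y z : F, q (x + y + z) + q (x + y) + q (x + z) + q (y + z) + q x + q y + q z = 0) :
    ∃ (s : Finset ((F ≃+* F) × (F ≃+* F))) (c : (F ≃+* F) × (F ≃+* F) → F),
      ∀ x : F, q x = ∑ p ∈ s, c p * (p.1 x * p.2 x) := by
  classical
  haveI := finite_ringAut (F := F)
  letI : Fintype (F ≃+* F) := Fintype.ofFinite _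
  letI : LinearOrder (F ≃+* F) :=
    LinearOrder.lift' (Fintype.equivFin (F ≃+* F)) (Equiv.injective _)
  haveI : Fact (Nat.Prime 2) := ⟨Nat.prime_two⟩
  have h2 : (2 : F) = 0 := CharTwo.two_eq_zero
  have hq0 : q 0 = 0 := by
    have := hq 0 0 0
    simp only [add_zero] at this
    linear_combination this - (3 * q 0) * h2
  -- the polarization
  obtain ⟨Bf, hBf⟩ : ∃ Bf : F → F → F, ∀ x y, Bf x y = q (x + y) + q x + q y := ⟨_, fun _ _ => rfl⟩
  have hBcomm : ∀ x y, Bf x y = Bf y x := by
    intro x y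
    rw [hBf, hBf, add_comm x y]
    ring
  have hBl : ∀ x x' y, Bf (x + x') y = Bf x y + Bf x' y := by
    intro x x' y
    rw [hBf, hBf, hBf]
    have := hq x x' y
    linear_combination this - (q (x + y) + q x + q (x' + y) + q x' + q y) * h2
  have hBr : ∀ x y y', Bf x (y + y') = Bf x y + Bf x y' := by
    intro x y y'
    rw [hBcomm, hBl, hBcomm y, hBcomm y']
  have hBdiag : ∀ x, Bf x x = 0 := by
    intro x
    rw [hBf]
    have : x + x = 0 := CharTwo.add_self_eq_zero x
    rw [this, hq0]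
    linear_combination (q x) * h2
  obtain ⟨B, hB⟩ : ∃ B : F →+ F →+ F, ∀ x y, B x y = Bf x y :=
    ⟨AddMonoidHom.mk' (fun x => AddMonoidHom.mk' (fun y => Bf x y) (hBr x))
      (fun x x' => AddMonoidHom.ext (fun y => hBl x x' y)), fun _ _ => rfl⟩
  obtain ⟨d, hd⟩ := biaddMap_eq_sum B
  have hsym : ∀ σ τ, d σ τ = d τ σ := by
    have : d = fun σ τ => d τ σ := by
      apply ringAut_coeff_unique₂
      intro x y
      rw [← hd x y, hB, hBcomm, ← hB, hd y x, Finset.sum_comm]
      apply Finset.sum_congr rfl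
      intro a _
      apply Finset.sum_congr rfl
      intro b _
      ring
    intro σ τ
    exact congrFun (congrFun this σ) τ
  -- Frobenius
  obtain ⟨φ, hφ⟩ : ∃ φ : F ≃+* F, ∀ a : F, φ a = a * a :=
    ⟨frobeniusEquiv F 2, fun a => by rw [frobeniusEquiv_apply, frobenius_def, pow_two]⟩
  obtain ⟨E, hE⟩ : ∃ E : (F ≃+* F) ≃ (F ≃+* F), ∀ (σ : F ≃+* F) (x : F), (E σ) x = σ x * σ x :=
    ⟨{ toFun := fun σ => σ.trans φ
       invFun := fun ρ => ρ.trans φ.symm
       left_inv := fun σ => by ext x; simp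
       right_inv := fun ρ => by ext x; simp },
      fun σ x => by
        show φ (σ x) = _
        rw [hφ]⟩
  have hdiag : ∀ σ, d σ σ = 0 := by
    have h0 : ∀ x : F, ∑ σ : F ≃+* F, d σ σ * (σ x * σ x) = 0 := by
      intro x
      have h1 := hd x x
      rw [hB, hBdiag, ← Fintype.sum_prod_type' (fun σ τ => d σ τ * (σ x * τ x)),
        sum_pairs_split] at h1
      rw [h1]
      symm
      convert zero_add _
      apply Finset.sum_eq_zero
      intro p _
      simp only [Prod.fst_swap, Prod.snd_swap]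
      rw [hsym p.2 p.1]
      linear_combination (d p.1 p.2 * (p.1 x * p.2 x)) * h2
    have h1 : (fun ρ : F ≃+* F => d (E.symm ρ) (E.symm ρ)) = (fun _ => 0) := by
      apply ringAut_coeff_unique
      intro x
      rw [← Equiv.sum_comp E]
      simp only [Equiv.symm_apply_apply, zero_mul, Finset.sum_const_zero]
      rw [← h0 x]
      apply Finset.sum_congr rfl
      intro σ _
      rw [hE]
    intro σ
    have := congrFun h1 (E σ)
    simpa using this
  -- the correction term
  obtain ⟨q', hq'⟩ : ∃ q' : F → F, ∀ x, q' x =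
      ∑ p ∈ Finset.univ.filter (fun p : (F ≃+* F) × (F ≃+* F) => p.1 < p.2),
        d p.1 p.2 * (p.1 x * p.2 x) := ⟨_, fun _ => rfl⟩
  have hladd : ∀ x y : F, (q (x + y) + q' (x + y)) = (q x + q' x) + (q y + q' y) := by
    intro x y
    have hz : ∑ σ : F ≃+* F, d (σ, σ).1 (σ, σ).2 * ((σ, σ).1 x * (σ, σ).2 y) = 0 := by
      apply Finset.sum_eq_zero
      intro σ _
      show d σ σ * _ = 0
      rw [hdiag, zero_mul]
    have e1 : Bf x y = ∑ p ∈ Finset.univ.filter (fun p : (F ≃+* F) × (F ≃+* F) => p.1 < p.2),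
        (d p.1 p.2 * (p.1 x * p.2 y) + d p.swap.1 p.swap.2 * (p.swap.1 x * p.swap.2 y)) := by
      rw [← hB, hd, ← Fintype.sum_prod_type' (fun σ τ => d σ τ * (σ x * τ y)), sum_pairs_split,
        hz, add_zero]
    have h3 : q' (x + y) = q' x + q' y + Bf x y := by
      rw [e1, hq', hq', hq', ← Finset.sum_add_distrib, ← Finset.sum_add_distrib]
      apply Finset.sum_congr rfl
      intro p _
      simp only [Prod.fst_swap, Prod.snd_swap, map_add]
      rw [hsym p.2 p.1]
      ring
    rw [h3, hBf]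
    linear_combination (q (x + y)) * h2
  obtain ⟨ℓ, hℓ⟩ : ∃ ℓ : F →+ F, ∀ x, ℓ x = q x + q' x :=
    ⟨AddMonoidHom.mk' (fun x => q x + q' x) hladd, fun _ => rfl⟩
  obtain ⟨c, hc⟩ := addMap_eq_sum ℓ
  refine ⟨Finset.univ, fun p => if p.1 < p.2 then d p.1 p.2 else
    if p.1 = p.2 then c (E p.1) else 0, ?_⟩
  intro x
  rw [sum_pairs_split]
  have e1 : ∑ p ∈ Finset.univ.filter (fun p : (F ≃+* F) × (F ≃+* F) => p.1 < p.2),
      ((if p.1 < p.2 then d p.1 p.2 else if p.1 = p.2 then c (E p.1) else 0) *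
          (p.1 x * p.2 x) +
        (if p.swap.1 < p.swap.2 then d p.swap.1 p.swap.2 else
          if p.swap.1 = p.swap.2 then c (E p.swap.1) else 0) * (p.swap.1 x * p.swap.2 x)) =
      q' x := by
    rw [hq']
    apply Finset.sum_congr rfl
    intro p hp
    simp only [Finset.mem_filter, Finset.mem_univ, true_and] at hp
    simp only [Prod.fst_swap, Prod.snd_swap]
    rw [if_pos hp, if_neg (not_lt.2 (le_of_lt hp)), if_neg (ne_of_gt hp), zero_mul, add_zero]
  have e2 : ∑ σ : F ≃+* F, (if (σ, σ).1 < (σ, σ).2 then d (σ, σ).1 (σ, σ).2 else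
      if (σ, σ).1 = (σ, σ).2 then c (E (σ, σ).1) else 0) * ((σ, σ).1 x * (σ, σ).2 x) = ℓ x := by
    rw [hc, ← Equiv.sum_comp E (fun ρ => c ρ * ρ x)]
    apply Finset.sum_congr rfl
    intro σ _
    simp only [lt_self_iff_false, if_false, if_true]
    rw [hE]
  rw [e1, e2, hℓ]
  linear_combination -(q' x) * h2


/-- For a finite field `F` of characteristic 2: if `q : F → F` is quadratic over the prime field, i.e. `(x, y) ↦ q (x + y) + q x + q y` is additive in each variable, then `q x = Σ c_{σ,τ} σ(x) τ(x)` for some coefficients indexed by pairs of field automorphisms. -/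
theorem result {F : Type*} [Field F] [Fintype F] [CharP F 2]
    (q : F → F)
    (hq : ∀ x y z : F, q (x + y + z) + q (x + y) + q (x + z) + q (y + z) + q x + q y + q z = 0) :
    ∃ (s : Finset ((F ≃+* F) × (F ≃+* F))) (c : (F ≃+* F) × (F ≃+* F) → F),
      ∀ x : F, q x = ∑ p ∈ s, c p * (p.1 x * p.2 x) := by
  exact main1168 q hq

end Cfsg.Agent.S1168
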