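import Cfsg.Statements.S1176

set_option autoImplicit false
open Cfsg

namespace Cfsg.Agent.S1176

open scoped commutatorElement

/-- Let x₀ be an involution of the finite group G and D its conjugacy class. Assume (a) for each x ∈ D the subgroup W(x) generated by the members of D commuting with x is a 2-group of nilpotency class at most 2, and (b) the product of two distinct commuting members of D again lies in D. Then for all x, y ∈ D, if xy has even order greater than 2, its order is 4. -/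
theorem result {G : Type*} [Group G] [Finite G] (x₀ : G) (hx₀ : orderOf x₀ = 2) (ha : ∀ x : G, IsConj x₀ x → IsPGroup 2 ↥(Subgroup.closure {y : G | IsConj x₀ y ∧ Commute y x}) ∧ ⁅⁅Subgroup.closure {y : G | IsConj x₀ y ∧ Commute y x}, Subgroup.closure {y : G | IsConj x₀ y ∧ Commute y x}⁆, Subgroup.closure {y : G | IsConj x₀ y ∧ Commute y x}⁆ = ⊥) (hb : ∀ x y : G, IsConj x₀ x → IsConj x₀ y → x ≠ y → Commute x y → IsConj x₀ (x * y)) (x y : G) (hx : IsConj x₀ x) (hy : IsConj x₀ y) (heven : Even (orderOf (x * y))) (hgt : 2 < orderOf (x * y)) : orderOf (x * y) = 4 := by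
  classical
  have hinv : ∀ w, IsConj x₀ w → w * w = 1 := by
    intro w hw
    obtain ⟨c, hc⟩ := isConj_iff.mp hw
    have h0 : x₀ * x₀ = 1 := by rw [← pow_two, ← hx₀, pow_orderOf_eq_one]
    rw [← hc]
    calc c * x₀ * c⁻¹ * (c * x₀ * c⁻¹) = c * (x₀ * x₀) * c⁻¹ := by group
      _ = 1 := by rw [h0]; group
  have hxx := hinv x hx
  have hyy := hinv y hy
  have hxi : x⁻¹ = x := inv_eq_of_mul_eq_one_right hxx
  have hyi : y⁻¹ = y := inv_eq_of_mul_eq_one_right hyy
  obtain ⟨d, hd⟩ : ∃ d, d = x * y := ⟨_, rfl⟩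
  rw [← hd] at heven hgt ⊢
  obtain ⟨m, hm⟩ := heven
  have hm2 : 2 ≤ m := by omega
  have hxd : x * d * x⁻¹ = d⁻¹ := by
    rw [hd, mul_inv_rev, hxi, hyi]
    calc x * (x * y) * x = (x * x) * y * x := by group
      _ = y * x := by rw [hxx, one_mul]
  have hyd : y * d * y⁻¹ = d⁻¹ := by
    rw [hd, mul_inv_rev, hxi, hyi]
    calc y * (x * y) * y = y * x * (y * y) := by group
      _ = y * x := by rw [hyy, mul_one]
  obtain ⟨z, hz⟩ : ∃ z, z = d ^ m := ⟨_, rfl⟩
  have hzz : z * z = 1 := by rw [hz, ← pow_add, ← hm, pow_orderOf_eq_one]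
  have hz1 : z ≠ 1 := by
    rw [hz]; intro h
    have := orderOf_le_of_pow_eq_one (by omega : 0 < m) h
    omega
  have hzi : z⁻¹ = z := inv_eq_of_mul_eq_one_right hzz
  have hxz : x * z * x⁻¹ = z := by
    rw [hz, ← conj_pow, hxd, inv_pow, ← hz]; exact hzi
  have hyz : y * z * y⁻¹ = z := by
    rw [hz, ← conj_pow, hyd, inv_pow, ← hz]; exact hzi
  have hxz' : x * z = z * x := by
    calc x * z = (x * z * x⁻¹) * x := by group
      _ = z * x := by rw [hxz]
  have hyz' : y * z = z * y := by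
    calc y * z = (y * z * y⁻¹) * y := by group
      _ = z * y := by rw [hyz]
  have L2 : ∀ k : ℕ, x * (d ^ k)⁻¹ = d ^ k * x := by
    intro k
    have h1 : x * d ^ k * x⁻¹ = (d ^ k)⁻¹ := by rw [← conj_pow, hxd, inv_pow]
    calc x * (d ^ k)⁻¹ = x * (x * d ^ k * x⁻¹) := by rw [h1]
      _ = (x * x) * d ^ k * x⁻¹ := by group
      _ = d ^ k * x := by rw [hxx, one_mul, hxi]
  have hzxD : IsConj x₀ (z * x) := by
    rcases Nat.even_or_odd' m with ⟨k, hk | hk⟩
    · have e : z * x = d ^ k * x * (d ^ k)⁻¹ := by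
        calc z * x = d ^ (2 * k) * x := by rw [hz, hk]
          _ = d ^ k * (d ^ k * x) := by group
          _ = d ^ k * (x * (d ^ k)⁻¹) := by rw [L2 k]
          _ = d ^ k * x * (d ^ k)⁻¹ := by group
      rw [e]
      exact hx.trans (isConj_iff.mpr ⟨d ^ k, rfl⟩)
    · have e : z * x = (d ^ k * x) * y * (d ^ k * x)⁻¹ := by
        symm
        calc (d ^ k * x) * y * (d ^ k * x)⁻¹ = d ^ k * (x * y) * (x⁻¹ * (d ^ k)⁻¹) := by group
          _ = d ^ k * d * (x * (d ^ k)⁻¹) := by rw [← hd, hxi]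
          _ = d ^ k * d * (d ^ k * x) := by rw [L2 k]
          _ = d ^ (2 * k + 1) * x := by group
          _ = z * x := by rw [hz, hk]
      rw [e]
      exact hy.trans (isConj_iff.mpr ⟨d ^ k * x, rfl⟩)
  have hne : x ≠ z * x := by
    intro h
    apply hz1
    have h' : 1 * x = z * x := by rw [one_mul]; exact h
    exact (mul_right_cancel h').symm
  have hcomm : Commute x (z * x) := by
    show x * (z * x) = z * x * x
    rw [← mul_assoc, hxz']
  have hzD : IsConj x₀ z := by
    have h := hb x (z * x) hx hzxD hne hcomm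
    have e : x * (z * x) = z := by
      calc x * (z * x) = (x * z) * x := by group
        _ = (z * x) * x := by rw [hxz']
        _ = z * (x * x) := by group
        _ = z := by rw [hxx, mul_one]
    rwa [e] at h
  obtain ⟨-, hcl⟩ := ha z hzD
  have hxW : x ∈ Subgroup.closure {w : G | IsConj x₀ w ∧ Commute w z} :=
    Subgroup.subset_closure ⟨hx, hxz'⟩
  have hyW : y ∈ Subgroup.closure {w : G | IsConj x₀ w ∧ Commute w z} :=
    Subgroup.subset_closure ⟨hy, hyz'⟩
  have h := Subgroup.commutator_mem_commutator (Subgroup.commutator_mem_commutator hxW hyW) hxW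
  rw [hcl, Subgroup.mem_bot] at h
  have hc' : Commute ⁅x, y⁆ x := commutatorElement_eq_one_iff_commute.mp h
  have e : ⁅x, y⁆ = d * d := by
    rw [commutatorElement_def, hxi, hyi, hd]; group
  rw [e] at hc'
  have h4 : d ^ 4 = 1 := by
    have e1 : x * (d * d) * x⁻¹ = d⁻¹ * d⁻¹ := by
      calc x * (d * d) * x⁻¹ = (x * d * x⁻¹) * (x * d * x⁻¹) := by group
        _ = d⁻¹ * d⁻¹ := by rw [hxd]
    have e2 : x * (d * d) * x⁻¹ = d * d := by
      rw [← hc'.eq]; group
    have e3 : d * d = d⁻¹ * d⁻¹ := e2.symm.trans e1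
    calc d ^ 4 = (d * d) * (d * d) := by rw [show (4 : ℕ) = 2 + 2 from rfl, pow_add, pow_two]
      _ = (d⁻¹ * d⁻¹) * (d * d) := by rw [← e3]
      _ = 1 := by group
  have hdvd : orderOf d ∣ 4 := orderOf_dvd_of_pow_eq_one h4
  have hle := Nat.le_of_dvd (by norm_num) hdvd
  omega

end Cfsg.Agent.S1176
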