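import Mathlib
import Cfsg.Statements.S1757
import Cfsg.Agent.Lib.Helper3.PGroupAux

set_option autoImplicit false
open Cfsg
open Cfsg.Agent.Lib.Helper3
open scoped Pointwise

namespace Cfsg.Agent.S1757

theorem result {G : Type*} [Group G] [Finite G] (p : ℕ) [Fact p.Prime] (A B : Subgroup G)
    (hA : IsPGroup p ↥A) (hB : IsPGroup p ↥B)
    (hAti : ∀ g : G, A.map (MulAut.conj g).toMonoidHom = A ∨ A.map (MulAut.conj g).toMonoidHom ⊓ A = ⊥)
    (hBti : ∀ g : G, B.map (MulAut.conj g).toMonoidHom = B ∨ B.map (MulAut.conj g).toMonoidHom ⊓ B = ⊥)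
    (hle : Nat.card ↥A ≤ Nat.card ↥B) (hAB : A ⊓ B = ⊥) (hN : B ≤ Subgroup.normalizer (A : Set G)) : ⁅A, B⁆ = ⊥ := by
  set A0 := A ⊓ Subgroup.centralizer (B : Set G) with hA0
  -- it suffices that A0 = A
  suffices h : A0 = A by
    rw [Subgroup.commutator_eq_bot_iff_le_centralizer]
    rw [← h]; exact inf_le_right
  by_contra hne
  have hA0A : A0 ≤ A := inf_le_left
  have hA0N : A0 ≤ Subgroup.normalizer (B : Set G) :=
    inf_le_right.trans (Subgroup.centralizer_le_normalizer _)
  set D := A0 ⊔ B with hD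
  have hABp : IsPGroup p (A ⊔ B : Subgroup G) := IsPGroup.to_sup_of_normal_left' hA hB hN
  have hDle : D ≤ A ⊔ B := sup_le (hA0A.trans le_sup_left) le_sup_right
  have hDcoe : (D : Set G) = (A0 : Set G) * (B : Set G) :=
    Subgroup.coe_mul_of_left_le_normalizer_right A0 B hA0N
  have hABcoe : ((A ⊔ B : Subgroup G) : Set G) = (A : Set G) * (B : Set G) :=
    Subgroup.coe_mul_of_right_le_normalizer_left A B hN
  have hDne : D ≠ A ⊔ B := by
    intro h
    apply hne
    apply le_antisymm hA0A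
    intro a ha
    have : a ∈ (D : Set G) := by rw [h]; exact (le_sup_left : A ≤ A ⊔ B) ha
    rw [hDcoe] at this
    obtain ⟨a0, ha0, b, hb, hab⟩ := Set.mem_mul.mp this
    have hbA : b ∈ A := by
      have : b = a0⁻¹ * a := by rw [← hab]; group
      rw [this]; exact A.mul_mem (A.inv_mem (hA0A ha0)) ha
    have hb1 : b = 1 := by
      have : b ∈ A ⊓ B := ⟨hbA, hb⟩
      rw [hAB] at this; exact Subgroup.mem_bot.mp this
    rw [hb1, mul_one] at hab
    rw [← hab]; exact ha0
  obtain ⟨y, hyAB, hyD, hyN⟩ :=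
    exists_mem_normalizer_not_mem (p := p) D (A ⊔ B) hABp hDle hDne
  have hy' : y ∈ ((A ⊔ B : Subgroup G) : Set G) := hyAB
  rw [hABcoe] at hy'
  obtain ⟨x, hxA, b', hb', hxy⟩ := Set.mem_mul.mp hy'
  have hb'D : b' ∈ D := (le_sup_right : B ≤ D) hb'
  have hxe : x = y * b'⁻¹ := by rw [← hxy]; group
  have hxN : x ∈ Subgroup.normalizer (D : Set G) := by
    rw [hxe]
    exact (Subgroup.normalizer (D : Set G)).mul_mem hyN
      ((Subgroup.normalizer (D : Set G)).inv_mem (Subgroup.le_normalizer hb'D))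
  have hxD : x ∉ D := by
    intro h
    apply hyD
    rw [← hxy]; exact D.mul_mem h hb'D
  have hxA0 : x ∉ A0 := fun h => hxD ((le_sup_left : A0 ≤ D) h)
  have hBxD : B.map (MulAut.conj x).toMonoidHom ≤ D := by
    intro z hz
    rw [mem_map_conj] at hz
    have hzD : x⁻¹ * z * x ∈ D := (le_sup_right : B ≤ D) hz
    have := (Subgroup.mem_set_normalizer_iff.mp hxN (x⁻¹ * z * x)).mp hzD
    have e : x * (x⁻¹ * z * x) * x⁻¹ = z := by group
    rwa [e] at this
  rcases hBti x with hcase | hcase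
  · -- x normalizes B, so [x, B] ≤ A ⊓ B = ⊥ and x ∈ A0
    apply hxA0
    refine ⟨hxA, ?_⟩
    show x ∈ Subgroup.centralizer (B : Set G)
    rw [Subgroup.mem_centralizer_iff]
    intro b hb
    have h1 : x * b * x⁻¹ ∈ B := by
      rw [← hcase]; exact conj_mem_map_conj hb
    have h2 : x * b * x⁻¹ * b⁻¹ ∈ B := B.mul_mem h1 (B.inv_mem hb)
    have h3 : x * b * x⁻¹ * b⁻¹ ∈ A := by
      have hbn : b ∈ Subgroup.normalizer (A : Set G) := hN hb
      have : b * x⁻¹ * b⁻¹ ∈ A :=
        (Subgroup.mem_set_normalizer_iff.mp hbn x⁻¹).mp (A.inv_mem hxA)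
      have e : x * b * x⁻¹ * b⁻¹ = x * (b * x⁻¹ * b⁻¹) := by group
      rw [e]; exact A.mul_mem hxA this
    have h4 : x * b * x⁻¹ * b⁻¹ = 1 := by
      have : x * b * x⁻¹ * b⁻¹ ∈ A ⊓ B := ⟨h3, h2⟩
      rw [hAB] at this; exact Subgroup.mem_bot.mp this
    have : x * b = b * x := by
      have e : x * b = (x * b * x⁻¹ * b⁻¹) * (b * x) := by group
      rw [e, h4, one_mul]
    exact this.symm
  · -- B^x ∩ B = 1 inside D, so |B|² ≤ |D| ≤ |A0| |B|
    set Bx := B.map (MulAut.conj x).toMonoidHom with hBx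
    have hdisj : Disjoint Bx B := disjoint_iff.mpr hcase
    have hinj := Subgroup.mul_injective_of_disjoint hdisj
    have hcard1 : Nat.card (Bx × B) ≤ Nat.card D := by
      let f : Bx × B → D := fun g => ⟨(g.1 : G) * (g.2 : G),
        D.mul_mem (hBxD g.1.2) ((le_sup_right : B ≤ D) g.2.2)⟩
      apply Nat.card_le_card_of_injective f
      intro g1 g2 h
      apply hinj
      exact congrArg Subtype.val h
    rw [Nat.card_prod, hBx, card_map_conj] at hcard1
    have hcard2 : Nat.card D ≤ Nat.card A0 * Nat.card B := by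
      have h := Set.natCard_mul_le (s := (A0 : Set G)) (t := (B : Set G))
      rw [← hDcoe] at h
      exact h
    have hBpos : 0 < Nat.card B := Nat.card_pos
    have h3 : Nat.card B ≤ Nat.card A0 := by
      have := hcard1.trans hcard2
      exact Nat.le_of_mul_le_mul_right this hBpos
    have h4 : Nat.card A0 < Nat.card A := by
      have hlt : A0 < A := lt_of_le_of_ne hA0A hne
      have h5 : Nat.card A0 ≤ Nat.card A := Subgroup.card_le_of_le hA0A
      rcases Nat.lt_or_ge (Nat.card A0) (Nat.card A) with h | h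
      · exact h
      · exact absurd (Subgroup.eq_of_le_of_card_ge hA0A h) hne
    omega

end Cfsg.Agent.S1757
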