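import Mathlib
import Cfsg.Statements.S1177
import Cfsg.Agent.Lib.Helper3.PGroupAux
import Cfsg.Agent.S1757

set_option autoImplicit false
open Cfsg
open Cfsg.Agent.Lib.Helper3

namespace Cfsg.Agent.S1177

theorem result {G : Type*} [Group G] [Finite G] (A : Subgroup G) (hA : Cfsg.IsElementaryAbelian 2 A) (hA1 : A ≠ ⊥) (hTI : ∀ g : G, A.map (MulAut.conj g).toMonoidHom ⊓ A = ⊥ ∨ A.map (MulAut.conj g).toMonoidHom = A) (hb : ∀ g : G, (∀ a ∈ A, ∀ b ∈ A.map (MulAut.conj g).toMonoidHom, a * b = b * a) → A.map (MulAut.conj g).toMonoidHom = A) (a : G) (ha : a ∈ A) (ha1 : a ≠ 1) (g : G) (hg : A.map (MulAut.conj g).toMonoidHom ≤ Subgroup.centralizer ({a} : Set G)) : A.map (MulAut.conj g).toMonoidHom = A := by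
  set B := A.map (MulAut.conj g).toMonoidHom with hB
  by_contra hne
  have hdisj : B ⊓ A = ⊥ := (hTI g).resolve_right hne
  have hA2 : IsPGroup 2 A := by
    intro x
    refine ⟨1, ?_⟩
    have := hA.2 x.1 x.2
    ext
    simpa using this
  have hB2 : IsPGroup 2 B := isPGroup_map_conj hA2 g
  -- B normalizes A
  have hBN : B ≤ Subgroup.normalizer (A : Set G) := by
    intro b hbB
    have hbc : b ∈ Subgroup.centralizer ({a} : Set G) := hg hbB
    have hba : b * a * b⁻¹ = a := by
      have := Subgroup.mem_centralizer_iff.mp hbc a (Set.mem_singleton a)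
      rw [← this]; group
    have hmem : a ∈ A.map (MulAut.conj b).toMonoidHom ⊓ A := by
      refine ⟨?_, ha⟩
      rw [← hba]; exact conj_mem_map_conj ha
    rcases hTI b with h | h
    · rw [h] at hmem; exact absurd (Subgroup.mem_bot.mp hmem) ha1
    · rw [Subgroup.mem_normalizer_iff_map_conj_eq]; exact h
  -- TI for A in the form needed, and for B
  have hAti : ∀ h : G, A.map (MulAut.conj h).toMonoidHom = A ∨ A.map (MulAut.conj h).toMonoidHom ⊓ A = ⊥ :=
    fun h => (hTI h).symm
  have hBti : ∀ h : G, B.map (MulAut.conj h).toMonoidHom = B ∨ B.map (MulAut.conj h).toMonoidHom ⊓ B = ⊥ := by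
    intro h
    have e : B.map (MulAut.conj h).toMonoidHom =
        (A.map (MulAut.conj (g⁻¹ * h * g)).toMonoidHom).map (MulAut.conj g).toMonoidHom := by
      rw [hB, map_conj_map_conj, map_conj_map_conj]
      congr 3
      group
    rcases hTI (g⁻¹ * h * g) with h1 | h1
    · right
      rw [e, hB, ← Subgroup.map_inf _ _ _ (MulAut.conj g).injective, h1, Subgroup.map_bot]
    · left
      rw [e, h1]
  have hcard : Nat.card A ≤ Nat.card B := by rw [hB, card_map_conj]
  have hcomm := Cfsg.Agent.S1757.result 2 A B hA2 hB2 hAti hBti hcard (by rw [inf_comm]; exact hdisj) hBN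
  apply hne
  apply hb g
  intro x hx y hy
  rw [Subgroup.commutator_eq_bot_iff_le_centralizer] at hcomm
  have := Subgroup.mem_centralizer_iff.mp (hcomm hx) y hy
  exact this.symm

end Cfsg.Agent.S1177
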