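import Mathlib
import Cfsg.Statements.S1178
import Cfsg.Agent.Lib.Helper3.Conj

set_option autoImplicit false
open Cfsg
open Cfsg.Agent.Lib.Helper3

namespace Cfsg.Agent.S1178

/-- Let A be a subgroup of a Sylow 2-subgroup S of the finite group G which is weakly closed in S. If a conjugate g A g⁻¹ commutes elementwise with A, then g A g⁻¹ = A. -/
theorem result {G : Type*} [Group G] [Finite G] (S : Sylow 2 G) (A : Subgroup G) (hW : Cfsg.IsWeaklyClosed A (S : Subgroup G)) (g : G) (hc : ∀ a ∈ A, ∀ b ∈ A.map (MulAut.conj g).toMonoidHom, a * b = b * a) : A.map (MulAut.conj g).toMonoidHom = A := by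
  obtain ⟨hAS, hwc⟩ := hW
  set B := A.map (MulAut.conj g).toMonoidHom with hB
  have hA2 : IsPGroup 2 A := S.2.to_le hAS
  have hB2 : IsPGroup 2 B := isPGroup_map_conj hA2 g
  have hnorm : A ≤ Subgroup.normalizer (B : Set G) := by
    intro a ha
    have : a ∈ Subgroup.centralizer (B : Set G) := by
      rw [Subgroup.mem_centralizer_iff]
      intro b hb
      exact (hc a ha b hb).symm
    exact Subgroup.centralizer_le_normalizer _ this
  have hAB : IsPGroup 2 (A ⊔ B : Subgroup G) := IsPGroup.to_sup_of_normal_right' hA2 hB2 hnorm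
  obtain ⟨Q, hQ⟩ := hAB.exists_le_sylow
  obtain ⟨x, hx⟩ := MulAction.exists_smul_eq G S Q
  have hQe : (Q : Subgroup G) = (S : Subgroup G).map (MulAut.conj x).toMonoidHom := by
    rw [← hx, sylow_smul_coe]
  have hAQ : A ≤ (S : Subgroup G).map (MulAut.conj x).toMonoidHom := hQe ▸ (le_sup_left.trans hQ)
  have hBQ : B ≤ (S : Subgroup G).map (MulAut.conj x).toMonoidHom := hQe ▸ (le_sup_right.trans hQ)
  -- A^{x⁻¹} ≤ S
  have h1 : A.map (MulAut.conj x⁻¹).toMonoidHom ≤ S := by
    rw [map_conj_le_iff]; simpa using hAQ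
  have h2 : B.map (MulAut.conj x⁻¹).toMonoidHom ≤ S := by
    rw [map_conj_le_iff]; simpa using hBQ
  have e1 := hwc x⁻¹ h1
  rw [hB, map_conj_map_conj] at h2
  have e2 := hwc (x⁻¹ * g) h2
  -- A^{x⁻¹} = A and A^{x⁻¹ g} = A
  have : (A.map (MulAut.conj (x⁻¹ * g)).toMonoidHom).map (MulAut.conj x).toMonoidHom =
      (A.map (MulAut.conj x⁻¹).toMonoidHom).map (MulAut.conj x).toMonoidHom := by
    rw [e1, e2]
  rw [map_conj_map_conj, map_conj_map_conj_inv] at this
  rw [hB]
  simpa using this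

end Cfsg.Agent.S1178
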