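import Mathlib
import Cfsg.Statements.S1181
import Cfsg.Agent.Lib.Helper3.Isolated
import Cfsg.Agent.Lib.Helper3.Isolated2

set_option autoImplicit false
open Cfsg
open Cfsg.Agent.Lib.Helper3

namespace Cfsg.Agent.S1181

/-- Let z be an isolated involution of the finite group G and N a normal subgroup with z ∉ N. Then the centralizer of zN in G/N is the image of C_G(z), and zN is an isolated involution of G/N. -/
theorem result {G : Type*} [Group G] [Finite G] (z : G) (hz : Cfsg.IsIsolatedInvolution z) (N : Subgroup G) [N.Normal] (hzN : z ∉ N) : Subgroup.centralizer ({(QuotientGroup.mk z : G ⧸ N)} : Set (G ⧸ N)) = (Subgroup.centralizer ({z} : Set G)).map (QuotientGroup.mk' N) ∧ Cfsg.IsIsolatedInvolution (QuotientGroup.mk z : G ⧸ N) := by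
  have hu : z * z = 1 := isolated_sq hz
  have hzi : z⁻¹ = z := inv_of_sq hu
  refine ⟨?_, ?_, ?_⟩
  · apply le_antisymm
    · intro x hx
      obtain ⟨g, rfl⟩ := QuotientGroup.mk_surjective x
      have hx' := Subgroup.mem_centralizer_iff.mp hx _ (Set.mem_singleton _)
      -- z g = g z mod N
      have hmem : z * (g * z * g⁻¹) ∈ N := by
        have h1 : ((z * g : G) : G ⧸ N) = ((g * z : G) : G ⧸ N) := by
          simpa using hx'
        have h2 := QuotientGroup.eq.mp h1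
        -- (z g)⁻¹ (g z) ∈ N
        have h3 : g * ((z * g)⁻¹ * (g * z)) * g⁻¹ ∈ N :=
          ‹N.Normal›.conj_mem _ h2 g
        have : g * ((z * g)⁻¹ * (g * z)) * g⁻¹ = z * (g * z * g⁻¹) := by
          rw [mul_inv_rev, hzi]; group
        rwa [this] at h3
      obtain ⟨j, hj⟩ := isolated_mul_conj_odd z hz g
      have hconj := isolated_conj_by_pow z hz g j hj
      obtain ⟨h, hh⟩ : ∃ h, h = ((z * (g * z * g⁻¹)) ^ (j + 1))⁻¹ := ⟨_, rfl⟩
      rw [← hh] at hconj
      have hhN : h ∈ N := by rw [hh]; exact N.inv_mem (N.pow_mem hmem _)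
      refine ⟨h⁻¹ * g, ?_, ?_⟩
      · show h⁻¹ * g ∈ Subgroup.centralizer ({z} : Set G)
        rw [Subgroup.mem_centralizer_iff]
        intro w hw
        rw [Set.mem_singleton_iff] at hw
        subst hw
        calc w * (h⁻¹ * g) = h⁻¹ * (h * w * h⁻¹) * g := by group
          _ = h⁻¹ * (g * w * g⁻¹) * g := by rw [hconj]
          _ = h⁻¹ * g * w := by group
      · show ((h⁻¹ * g : G) : G ⧸ N) = (g : G ⧸ N)
        rw [QuotientGroup.eq]
        have : (h⁻¹ * g)⁻¹ * g = g⁻¹ * h * g := by group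
        rw [this]
        have := ‹N.Normal›.conj_mem _ hhN g⁻¹
        simpa using this
    · rintro x ⟨c, hc, rfl⟩
      have hc' := Subgroup.mem_centralizer_iff.mp hc z (Set.mem_singleton z)
      show (QuotientGroup.mk' N c) ∈ Subgroup.centralizer ({(QuotientGroup.mk z : G ⧸ N)} : Set (G ⧸ N))
      rw [Subgroup.mem_centralizer_iff]
      intro w hw
      rw [Set.mem_singleton_iff] at hw
      subst hw
      show ((z : G) : G ⧸ N) * ((c : G) : G ⧸ N) = ((c : G) : G ⧸ N) * ((z : G) : G ⧸ N)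
      rw [← QuotientGroup.mk_mul, ← QuotientGroup.mk_mul, hc']
  · apply orderOf_eq_prime
    · rw [← QuotientGroup.mk_pow, pow_two, hu]; rfl
    · intro h
      exact hzN ((QuotientGroup.eq_one_iff z).mp h)
  · intro x hx
    obtain ⟨g, rfl⟩ := QuotientGroup.mk_surjective x
    obtain ⟨j, hj⟩ := isolated_mul_conj_odd z hz g
    have hvi : Cfsg.IsIsolatedInvolution (g * z * g⁻¹) := isolated_conj hz g
    have hv : (g * z * g⁻¹) * (g * z * g⁻¹) = 1 := isolated_sq hvi
    obtain ⟨v, hvdef⟩ : ∃ v, v = g * z * g⁻¹ := ⟨_, rfl⟩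
    rw [← hvdef] at hj hv
    have hx' : ((z : G) : G ⧸ N) * ((v : G) : G ⧸ N) = ((v : G) : G ⧸ N) * ((z : G) : G ⧸ N) := by
      have := hx.eq
      rw [hvdef]
      simpa using this
    have hgoal : ((g : G) : G ⧸ N) * ((z : G) : G ⧸ N) * ((g : G) : G ⧸ N)⁻¹ = ((v : G) : G ⧸ N) := by
      rw [hvdef]; simp
    rw [hgoal]
    -- c̄ = z̄ v̄ satisfies c̄^2 = 1 and c̄^(2j+1) = 1
    have hc2 : (((z * v : G) : G ⧸ N)) ^ 2 = 1 := by
      rw [pow_two, QuotientGroup.mk_mul]
      calc ((z : G) : G ⧸ N) * (v : G ⧸ N) * (((z : G) : G ⧸ N) * (v : G ⧸ N))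
          = ((z : G) : G ⧸ N) * ((v : G ⧸ N) * ((z : G) : G ⧸ N)) * (v : G ⧸ N) := by group
        _ = ((z : G) : G ⧸ N) * (((z : G) : G ⧸ N) * (v : G ⧸ N)) * (v : G ⧸ N) := by rw [hx']
        _ = (((z * z : G) : G ⧸ N)) * ((v * v : G) : G ⧸ N) := by
            rw [QuotientGroup.mk_mul, QuotientGroup.mk_mul]; group
        _ = 1 := by rw [hu, hv]; simp
    have hcodd : (((z * v : G) : G ⧸ N)) ^ (2 * j + 1) = 1 := by
      rw [← QuotientGroup.mk_pow, ← hj, pow_orderOf_eq_one]; rfl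
    have hc1 : ((z * v : G) : G ⧸ N) = 1 := by
      have : (((z * v : G) : G ⧸ N)) ^ (2 * j + 1) = ((z * v : G) : G ⧸ N) := by
        rw [pow_succ, pow_mul, hc2, one_pow, one_mul]
      rw [← this, hcodd]
    -- v̄ = z̄⁻¹ = z̄
    have hzz : ((z : G) : G ⧸ N) * ((z : G) : G ⧸ N) = 1 := by
      rw [← QuotientGroup.mk_mul, hu]; rfl
    rw [QuotientGroup.mk_mul] at hc1
    calc ((v : G) : G ⧸ N) = (((z : G) : G ⧸ N) * ((z : G) : G ⧸ N)) * (v : G ⧸ N) := by rw [hzz, one_mul]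
      _ = ((z : G) : G ⧸ N) * (((z : G) : G ⧸ N) * (v : G ⧸ N)) := by group
      _ = ((z : G) : G ⧸ N) := by rw [hc1, mul_one]

end Cfsg.Agent.S1181
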