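import Mathlib
import Cfsg.Statements.S1182
import Cfsg.Agent.Lib.Helper3.Isolated

set_option autoImplicit false
open Cfsg
open Cfsg.Agent.Lib.Helper3
open scoped Pointwise

namespace Cfsg.Agent.S1182

/-- Let z be an isolated involution of the finite group G and H a subgroup normalized by z. If x, y ∈ H both commute with z and y = h x h⁻¹ for some h ∈ H, then y = c x c⁻¹ for some c ∈ H commuting with z. -/
theorem result {G : Type*} [Group G] [Finite G] (z : G) (hz : Cfsg.IsIsolatedInvolution z) (H : Subgroup G) (hzH : z ∈ Subgroup.normalizer (H : Set G)) (x y : G) (hx : x ∈ H) (hy : y ∈ H) (hxz : Commute x z) (hyz : Commute y z) (h : G) (hh : h ∈ H) (hconj : h * x * h⁻¹ = y) : ∃ c ∈ H, Commute c z ∧ c * x * c⁻¹ = y := by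
  set S := H ⊔ Subgroup.zpowers z with hS
  set K := Subgroup.centralizer ({y} : Set G) ⊓ S with hK
  have hzS : z ∈ S := (le_sup_right : Subgroup.zpowers z ≤ S) (Subgroup.mem_zpowers z)
  have hzK : z ∈ K := by
    refine ⟨?_, hzS⟩
    show z ∈ Subgroup.centralizer ({y} : Set G)
    rw [Subgroup.mem_centralizer_iff]
    intro w hw
    rw [Set.mem_singleton_iff] at hw
    subst hw
    exact hyz.eq
  have hz'K : h * z * h⁻¹ ∈ K := by
    refine ⟨?_, ?_⟩
    · show h * z * h⁻¹ ∈ Subgroup.centralizer ({y} : Set G)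
      rw [Subgroup.mem_centralizer_iff]
      intro w hw
      rw [Set.mem_singleton_iff] at hw
      subst hw
      rw [← hconj]
      have := hxz.eq
      calc h * x * h⁻¹ * (h * z * h⁻¹) = h * (x * z) * h⁻¹ := by group
        _ = h * (z * x) * h⁻¹ := by rw [this]
        _ = h * z * h⁻¹ * (h * x * h⁻¹) := by group
    · have hhS : h ∈ S := (le_sup_left : H ≤ S) hh
      exact S.mul_mem (S.mul_mem hhS hzS) (S.inv_mem hhS)
  obtain ⟨k, hkK, hk⟩ := isolated_conj_in_subgroup z hz K hzK h hz'K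
  have hkS : k ∈ (S : Set G) := hkK.2
  rw [hS, Subgroup.coe_mul_of_right_le_normalizer_left H (Subgroup.zpowers z)
    (Subgroup.zpowers_le.mpr hzH)] at hkS
  obtain ⟨h', hh', zi, hzi, hke⟩ := Set.mem_mul.mp hkS
  obtain ⟨i, rfl⟩ := Subgroup.mem_zpowers_iff.mp hzi
  -- k = h' * z^i ; h' ∈ H centralizes y and conjugates z to h z h⁻¹
  have hzy : ∀ j : ℤ, z ^ j * y = y * z ^ j := fun j => ((hyz.symm).zpow_left j).eq
  have hky : k * y = y * k := by
    have := Subgroup.mem_centralizer_iff.mp hkK.1 y (Set.mem_singleton y)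
    exact this.symm
  have hh'y : h' * y = y * h' := by
    have e : h' = k * (z ^ i)⁻¹ := by rw [← hke]; group
    have hzy' : (z ^ i)⁻¹ * y = y * (z ^ i)⁻¹ := by
      have := hzy i
      calc (z ^ i)⁻¹ * y = (z ^ i)⁻¹ * (y * z ^ i) * (z ^ i)⁻¹ := by group
        _ = (z ^ i)⁻¹ * (z ^ i * y) * (z ^ i)⁻¹ := by rw [this]
        _ = y * (z ^ i)⁻¹ := by group
    rw [e]
    calc k * (z ^ i)⁻¹ * y = k * ((z ^ i)⁻¹ * y) := by group
      _ = k * (y * (z ^ i)⁻¹) := by rw [hzy']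
      _ = (k * y) * (z ^ i)⁻¹ := by group
      _ = (y * k) * (z ^ i)⁻¹ := by rw [hky]
      _ = y * (k * (z ^ i)⁻¹) := by group
  have hh'z : h' * z * h'⁻¹ = h * z * h⁻¹ := by
    rw [← hk, ← hke]
    have : z ^ i * z * (z ^ i)⁻¹ = z := by group
    calc h' * z * h'⁻¹ = h' * (z ^ i * z * (z ^ i)⁻¹) * h'⁻¹ := by rw [this]
      _ = h' * z ^ i * z * (h' * z ^ i)⁻¹ := by group
  refine ⟨h'⁻¹ * h, H.mul_mem (H.inv_mem hh') hh, ?_, ?_⟩
  · unfold Commute SemiconjBy
    calc h'⁻¹ * h * z = h'⁻¹ * (h * z * h⁻¹) * h := by group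
      _ = h'⁻¹ * (h' * z * h'⁻¹) * h := by rw [hh'z]
      _ = z * (h'⁻¹ * h) := by group
  · calc h'⁻¹ * h * x * (h'⁻¹ * h)⁻¹ = h'⁻¹ * (h * x * h⁻¹) * h' := by group
      _ = h'⁻¹ * y * h' := by rw [hconj]
      _ = h'⁻¹ * (y * h') := by group
      _ = h'⁻¹ * (h' * y) := by rw [hh'y]
      _ = y := by group

end Cfsg.Agent.S1182
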