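import Mathlib
import Cfsg.Statements.S1241

set_option autoImplicit false
open Cfsg

namespace Cfsg.Agent.S1241

open MulAction Subgroup

/-- Transfer computation: if `ϕ : H →* A` and every conjugate of a power of `g` landing in `H`
has the same `ϕ`-value as that power, then `transfer ϕ g = ϕ g ^ [G:H]`. -/
theorem transfer_eq_pow_of_control {G : Type*} [Group G] {A : Type*} [CommGroup A]
    (H : Subgroup G) [H.FiniteIndex] (ϕ : H →* A) (g : G) (hg : g ∈ H)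
    (key : ∀ (k : ℕ) (g₀ : G) (hk : g₀⁻¹ * g ^ k * g₀ ∈ H),
      ϕ ⟨g₀⁻¹ * g ^ k * g₀, hk⟩ = ϕ ⟨g, hg⟩ ^ k) :
    MonoidHom.transfer ϕ g = ϕ ⟨g, hg⟩ ^ H.index := by
  classical
  let := H.fintypeQuotientOfFiniteIndex
  rw [MonoidHom.transfer_eq_prod_quotient_orbitRel_zpowers_quot]
  rw [Subgroup.index_eq_sum_minimalPeriod H g, ← Finset.prod_pow_eq_pow_sum]
  refine Fintype.prod_congr _ _ (fun q => ?_)
  exact key _ _ _

/-- Let H ≤ G have index prime to p, K ⊴ H with H/K abelian, and g a p-element of H outside K such that every G-conjugate of a power g^m lying in H lies in the coset g^m K. Then g is not in the derived subgroup of G. -/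
theorem result {G : Type*} [Group G] [Finite G] {p : ℕ} [Fact p.Prime] (H K : Subgroup G) (hHK : K ≤ H) (hKn : (K.subgroupOf H).Normal) (hab : ∀ x ∈ H, ∀ y ∈ H, x * y * x⁻¹ * y⁻¹ ∈ K) (hidx : Nat.Coprime p H.index) (g : G) (hgH : g ∈ H) (hgK : g ∉ K) (hgp : ∃ k : ℕ, orderOf g = p ^ k) (hctrl : ∀ (m : ℤ) (a : G), a * g ^ m * a⁻¹ ∈ H → (a * g ^ m * a⁻¹) * (g ^ m)⁻¹ ∈ K) : g ∉ commutator G := by
  classical
  have hKn' : (K.subgroupOf H).Normal := hKn
  let instC : CommGroup (H ⧸ K.subgroupOf H) :=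
    { (QuotientGroup.Quotient.group (K.subgroupOf H)) with
      mul_comm := by
        intro a b
        induction a using QuotientGroup.induction_on with
        | H x =>
        induction b using QuotientGroup.induction_on with
        | H y =>
        rw [← QuotientGroup.mk_mul, ← QuotientGroup.mk_mul, QuotientGroup.eq]
        rw [Subgroup.mem_subgroupOf]
        have := hab (y⁻¹ : H) (H.inv_mem y.2) (x⁻¹ : H) (H.inv_mem x.2)
        have e : ((((x * y)⁻¹ * (y * x) : H)) : G) = (y⁻¹ : H) * (x⁻¹ : H) * ((y⁻¹ : H) : G)⁻¹ * ((x⁻¹ : H) : G)⁻¹ := by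
          push_cast
          group
        rw [e]
        exact this }
  let ϕ : H →* (H ⧸ K.subgroupOf H) := QuotientGroup.mk' (K.subgroupOf H)
  have hfi : H.FiniteIndex := inferInstance
  have hkey : ∀ (k : ℕ) (g₀ : G) (hk : g₀⁻¹ * g ^ k * g₀ ∈ H),
      ϕ ⟨g₀⁻¹ * g ^ k * g₀, hk⟩ = ϕ ⟨g, hgH⟩ ^ k := by
    intro k g₀ hk
    rw [← map_pow]
    show (QuotientGroup.mk _ : H ⧸ K.subgroupOf H) = QuotientGroup.mk _
    rw [QuotientGroup.eq, Subgroup.mem_subgroupOf]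
    have h1 := hctrl (k : ℤ) g₀⁻¹
    rw [zpow_natCast, inv_inv] at h1
    have h2 := h1 hk
    -- (c * (g^k)⁻¹) ∈ K → c⁻¹ * g^k ∈ K
    have h3 := K.inv_mem h2
    have h4 : (g₀⁻¹ * g ^ k * g₀)⁻¹ * (g₀⁻¹ * g ^ k * g₀ * (g ^ k)⁻¹)⁻¹ * (g₀⁻¹ * g ^ k * g₀) ∈ K := by
      have hn := hKn'.conj_mem ⟨_, hHK h3⟩ (by rw [Subgroup.mem_subgroupOf]; exact h3)
        (⟨g₀⁻¹ * g ^ k * g₀, hk⟩⁻¹ : H)
      rw [Subgroup.mem_subgroupOf] at hn
      simpa using hn
    have e : (((⟨g₀⁻¹ * g ^ k * g₀, hk⟩ : H)⁻¹ * (⟨g, hgH⟩ : H) ^ k : H) : G)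
        = (g₀⁻¹ * g ^ k * g₀)⁻¹ * (g₀⁻¹ * g ^ k * g₀ * (g ^ k)⁻¹)⁻¹ * (g₀⁻¹ * g ^ k * g₀) := by
      push_cast
      group
    rw [e]
    exact h4
  have htr := transfer_eq_pow_of_control H ϕ g hgH hkey
  intro hgc
  have hker : g ∈ (MonoidHom.transfer ϕ).ker :=
    Abelianization.commutator_subset_ker (MonoidHom.transfer ϕ) hgc
  rw [MonoidHom.mem_ker, htr] at hker
  -- ϕ g has p-power order and ϕ g ^ index = 1 with index coprime to p → ϕ g = 1
  obtain ⟨k, hk⟩ := hgp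
  have hpow : ϕ ⟨g, hgH⟩ ^ (p ^ k) = 1 := by
    rw [← map_pow]
    have : (⟨g, hgH⟩ : H) ^ (p ^ k) = 1 := by
      apply Subtype.ext
      push_cast
      rw [← hk]; exact pow_orderOf_eq_one g
    rw [this, map_one]
  have hcop : Nat.Coprime (p ^ k) H.index := Nat.Coprime.pow_left k hidx
  have hone : ϕ ⟨g, hgH⟩ = 1 := by
    have h1 : orderOf (ϕ ⟨g, hgH⟩) ∣ p ^ k := orderOf_dvd_of_pow_eq_one hpow
    have h2 : orderOf (ϕ ⟨g, hgH⟩) ∣ H.index := orderOf_dvd_of_pow_eq_one hker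
    have h3 : orderOf (ϕ ⟨g, hgH⟩) ∣ Nat.gcd (p ^ k) H.index := Nat.dvd_gcd h1 h2
    rw [hcop] at h3
    exact orderOf_eq_one_iff.mp (Nat.dvd_one.mp h3)
  apply hgK
  have : (⟨g, hgH⟩ : H) ∈ K.subgroupOf H := (QuotientGroup.eq_one_iff _).mp hone
  rwa [Subgroup.mem_subgroupOf] at this

end Cfsg.Agent.S1241
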