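import Mathlib
import Cfsg.Statements.S1242
import Cfsg.Agent.Lib.Helper3.PRes
import Cfsg.Agent.S1241

set_option autoImplicit false
open Cfsg
open Cfsg.Agent.Lib.Helper3
open scoped commutatorElement

namespace Cfsg.Agent.S1242

/-- If H ≤ G has index prime to p and controls the G-fusion of its p-elements, then (O^p(G)G') ∩ H = O^p(H)H'. -/
theorem result {G : Type*} [Group G] [Finite G] {p : ℕ} [Fact p.Prime] (H : Subgroup G) (hidx : Nat.Coprime p H.index) (hfus : ∀ g ∈ H, (∃ k : ℕ, orderOf g = p ^ k) → ∀ a : G, a * g * a⁻¹ ∈ H → ∃ h ∈ H, h * g * h⁻¹ = a * g * a⁻¹) : (Cfsg.pResidual p G ⊔ commutator G) ⊓ H = (Cfsg.pResidual p ↥H ⊔ commutator ↥H).map H.subtype := by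
  have hcommH : (commutator ↥H).map H.subtype ≤ commutator G := by
    rw [commutator_def, Subgroup.map_commutator, commutator_def]
    exact Subgroup.commutator_mono le_top le_top
  set K : Subgroup G := (Cfsg.pResidual p ↥H ⊔ commutator ↥H).map H.subtype with hK
  have hKH : K ≤ H := Subgroup.map_subtype_le _
  apply le_antisymm
  · rintro x ⟨hx1, hx2⟩
    by_contra hxK
    obtain ⟨a, b, ha, hb, hxab, hap, hbp⟩ := exists_p_decomp p x
    have haH : a ∈ H := (Subgroup.zpowers_le.mpr hx2) ha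
    have hbH : b ∈ H := (Subgroup.zpowers_le.mpr hx2) hb
    have hbres : (⟨b, hbH⟩ : H) ∈ Cfsg.pResidual p ↥H := by
      apply Subgroup.subset_closure
      show Nat.Coprime (orderOf (⟨b, hbH⟩ : H)) p
      rw [Subgroup.orderOf_mk]; exact hbp
    have hbK : b ∈ K := ⟨⟨b, hbH⟩, (le_sup_left : _ ≤ Cfsg.pResidual p ↥H ⊔ commutator ↥H) hbres, rfl⟩
    have hbG : b ∈ Cfsg.pResidual p G := map_pRes_le p H ⟨⟨b, hbH⟩, hbres, rfl⟩
    have haK : a ∉ K := by
      intro haK
      apply hxK
      rw [hxab]; exact K.mul_mem haK hbK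
    have haG : a ∈ Cfsg.pResidual p G ⊔ commutator G := by
      have : a = x * b⁻¹ := by rw [hxab]; group
      rw [this]
      exact Subgroup.mul_mem _ hx1 (Subgroup.inv_mem _ ((le_sup_left : _ ≤ Cfsg.pResidual p G ⊔ commutator G) hbG))
    -- apply S1241
    have hsub : K.subgroupOf H = Cfsg.pResidual p ↥H ⊔ commutator ↥H := by
      rw [hK, Subgroup.subgroupOf]
      exact Subgroup.comap_map_eq_self_of_injective H.subtype_injective _
    have hKn : (K.subgroupOf H).Normal := by
      rw [hsub]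
      have := pRes_normal p ↥H
      infer_instance
    have hab : ∀ x ∈ H, ∀ y ∈ H, x * y * x⁻¹ * y⁻¹ ∈ K := by
      intro x hx y hy
      refine ⟨⁅(⟨x, hx⟩ : H), ⟨y, hy⟩⁆, ?_, ?_⟩
      · apply (le_sup_right : _ ≤ Cfsg.pResidual p ↥H ⊔ commutator ↥H)
        rw [commutator_def]
        exact Subgroup.commutator_mem_commutator (Subgroup.mem_top _) (Subgroup.mem_top _)
      · simp [commutatorElement_def]
    have hctrl : ∀ (m : ℤ) (c : G), c * a ^ m * c⁻¹ ∈ H → (c * a ^ m * c⁻¹) * (a ^ m)⁻¹ ∈ K := by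
      intro m c hc
      have hamH : a ^ m ∈ H := H.zpow_mem haH m
      have hamp : ∃ k : ℕ, orderOf (a ^ m) = p ^ k := by
        obtain ⟨k, hk⟩ := hap
        have h1 : (a ^ m) ^ (p ^ k) = 1 := by
          rw [← zpow_natCast, ← zpow_mul, mul_comm, zpow_mul, zpow_natCast, ← hk,
            pow_orderOf_eq_one, one_zpow]
        obtain ⟨j, -, hj⟩ := (Nat.dvd_prime_pow (Fact.out : p.Prime)).1 (orderOf_dvd_of_pow_eq_one h1)
        exact ⟨j, hj⟩
      obtain ⟨h, hh, hconj⟩ := hfus (a ^ m) hamH hamp c hc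
      rw [← hconj]
      have := hab h hh (a ^ m) hamH
      exact this
    have := Cfsg.Agent.S1241.result (p := p) H K hKH hKn hab hidx a haH haK hap hctrl
    exact not_mem_pRes_sup_commutator p a hap this haG
  · rw [hK, Subgroup.map_sup]
    apply le_inf
    · exact sup_le_sup (map_pRes_le p H) hcommH
    · rw [← Subgroup.map_sup]; exact hKH

end Cfsg.Agent.S1242
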