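import Mathlib
import Cfsg.Statements.S1183
import Cfsg.Agent.Lib.Helper3.PRes
import Cfsg.Agent.Lib.Helper3.Isolated3
import Cfsg.Agent.S1242

set_option autoImplicit false
open Cfsg
open Cfsg.Agent.Lib.Helper3

namespace Cfsg.Agent.S1183

/-- For an isolated involution z of G with centralizer C: G has no normal subgroup of index 2 if and only if C has none (O²(G) = G iff O²(C) = C). -/
theorem result {G : Type*} [Group G] [Finite G] (z : G) (hz : Cfsg.IsIsolatedInvolution z) : Cfsg.pResidual 2 G = ⊤ ↔ Cfsg.pResidual 2 ↥(Subgroup.centralizer ({z} : Set G)) = ⊤ := by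
  have hp2 : Fact (Nat.Prime 2) := ⟨Nat.prime_two⟩
  have hidx := isolated_index_odd z hz
  constructor
  · intro hG
    have hfus : ∀ g ∈ Subgroup.centralizer ({z} : Set G), (∃ k : ℕ, orderOf g = 2 ^ k) →
        ∀ a : G, a * g * a⁻¹ ∈ Subgroup.centralizer ({z} : Set G) →
        ∃ h ∈ Subgroup.centralizer ({z} : Set G), h * g * h⁻¹ = a * g * a⁻¹ :=
      fun g hg _ a ha => isolated_centralizer_controls_fusion z hz g hg a ha
    have h := Cfsg.Agent.S1242.result (p := 2) (Subgroup.centralizer ({z} : Set G)) hidx hfus
    rw [hG, top_sup_eq, top_inf_eq] at h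
    apply pRes_eq_top_of_sup_commutator 2
    have h2 : (⊤ : Subgroup ↥(Subgroup.centralizer ({z} : Set G))).map
        (Subgroup.centralizer ({z} : Set G)).subtype = Subgroup.centralizer ({z} : Set G) := by
      rw [← MonoidHom.range_eq_map, Subgroup.range_subtype]
    have h3 := h2.trans h
    exact (Subgroup.map_injective (Subgroup.subtype_injective _) h3).symm
  · intro hC
    have hle : Subgroup.centralizer ({z} : Set G) ≤ Cfsg.pResidual 2 G := by
      have h1 := map_pRes_le 2 (Subgroup.centralizer ({z} : Set G))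
      rw [hC, ← MonoidHom.range_eq_map, Subgroup.range_subtype] at h1
      exact h1
    have hnd : ¬ 2 ∣ (Subgroup.centralizer ({z} : Set G)).index := by
      intro hd
      have := Nat.Coprime.eq_one_of_dvd hidx hd
      omega
    have := sup_pRes_eq_top 2 (Subgroup.centralizer ({z} : Set G)) hnd
    rwa [sup_eq_right.mpr hle] at this

end Cfsg.Agent.S1183
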