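import Mathlib
import Cfsg.Statements.S1184
import Cfsg.Agent.Lib.Helper3.Isolated

set_option autoImplicit false
open Cfsg
open Cfsg.Agent.Lib.Helper3

namespace Cfsg.Agent.S1184

/-- Let z be an isolated involution of the finite group G. If s and t are distinct conjugates of z, then st does not commute with z. -/
theorem result {G : Type*} [Group G] [Finite G] (z : G) (hz : Cfsg.IsIsolatedInvolution z) (g h : G) (hne : g * z * g⁻¹ ≠ h * z * h⁻¹) : ¬ Commute (g * z * g⁻¹ * (h * z * h⁻¹)) z := by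
  intro hcomm
  have hsi : Cfsg.IsIsolatedInvolution (g * z * g⁻¹) := isolated_conj hz g
  have hti : Cfsg.IsIsolatedInvolution (h * z * h⁻¹) := isolated_conj hz h
  have hs : (g * z * g⁻¹) * (g * z * g⁻¹) = 1 := by
    have := pow_orderOf_eq_one (g * z * g⁻¹)
    rw [hsi.1, pow_two] at this; exact this
  have ht : (h * z * h⁻¹) * (h * z * h⁻¹) = 1 := by
    have := pow_orderOf_eq_one (h * z * h⁻¹)
    rw [hti.1, pow_two] at this; exact this
  obtain ⟨s, hsdef⟩ : ∃ s, s = g * z * g⁻¹ := ⟨_, rfl⟩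
  obtain ⟨t, htdef⟩ : ∃ t, t = h * z * h⁻¹ := ⟨_, rfl⟩
  rw [← hsdef] at hcomm hs hne hsi
  rw [← htdef] at hcomm ht hne hti
  set c := s * t with hc
  have hsc : s * c * s = c⁻¹ := invol_conj_mul hs ht
  have hsinv : s⁻¹ = s := inv_of_sq hs
  set X := Subgroup.normalizer ((Subgroup.zpowers c : Subgroup G) : Set G) with hX
  have hzX : z ∈ X := by
    rw [hX, Subgroup.mem_normalizer_iff_map_conj_eq]
    change (Subgroup.zpowers c).map (MulAut.conj z).toMonoidHom = _
    rw [MonoidHom.map_zpowers]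
    congr 1
    show z * c * z⁻¹ = c
    rw [← hcomm.eq]; group
  have hsX : s ∈ X := by
    rw [hX, Subgroup.mem_normalizer_iff_map_conj_eq]
    change (Subgroup.zpowers c).map (MulAut.conj s).toMonoidHom = _
    rw [MonoidHom.map_zpowers]
    have : (MulAut.conj s).toMonoidHom c = c⁻¹ := by
      show s * c * s⁻¹ = c⁻¹
      rw [hsinv]; exact hsc
    rw [this, Subgroup.zpowers_inv]
  have hsX' : g * z * g⁻¹ ∈ X := hsdef ▸ hsX
  obtain ⟨x, hxX, hx⟩ := isolated_conj_in_subgroup z hz X hzX g hsX'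
  rw [← hsdef] at hx
  -- x⁻¹ c x ∈ zpowers c hence commutes with z
  have hmem : x⁻¹ * c * x ∈ Subgroup.zpowers c := by
    have hxi : x⁻¹ ∈ X := X.inv_mem hxX
    have := (Subgroup.mem_set_normalizer_iff.mp hxi c).mp (Subgroup.mem_zpowers c)
    simpa using this
  obtain ⟨i, hi⟩ := Subgroup.mem_zpowers_iff.mp hmem
  have hzc : z * (x⁻¹ * c * x) = (x⁻¹ * c * x) * z := by
    rw [← hi]
    exact ((hcomm.symm).zpow_right i).eq
  have hsc2 : s * c * s⁻¹ = c := by
    rw [← hx]
    calc x * z * x⁻¹ * c * (x * z * x⁻¹)⁻¹ = x * (z * (x⁻¹ * c * x)) * z⁻¹ * x⁻¹ := by group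
      _ = x * ((x⁻¹ * c * x) * z) * z⁻¹ * x⁻¹ := by rw [hzc]
      _ = c := by group
  rw [hsinv, hsc] at hsc2
  -- c⁻¹ = c, so s t = t s
  have hst : s * t = t * s := by
    have h1 : (s * t)⁻¹ = s * t := hsc2
    rw [mul_inv_rev, inv_of_sq ht, hsinv] at h1
    exact h1.symm
  -- t is a conjugate of s commuting with s
  have ht' : t = (h * g⁻¹) * s * (h * g⁻¹)⁻¹ := by
    rw [htdef, hsdef]; group
  have := hsi.2 (h * g⁻¹) (by rw [← ht']; exact hst)
  rw [← ht'] at this
  exact hne this.symm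

end Cfsg.Agent.S1184
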