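import Mathlib
import Cfsg.Statements.S1185
import Cfsg.Agent.Lib.Helper3.Isolated
import Cfsg.Agent.Lib.Helper3.Isolated2

set_option autoImplicit false
open Cfsg
open Cfsg.Agent.Lib.Helper3

namespace Cfsg.Agent.S1185

lemma eq_of_sq_eq_of_odd {G : Type*} [Group G] {k k' : G} (hk : Odd (orderOf k))
    (hk' : Odd (orderOf k')) (h : k * k = k' * k') : k = k' := by
  have hodd : Odd (orderOf k * orderOf k') := hk.mul hk'
  obtain ⟨r, hr⟩ := hodd
  have h1 : k ^ (orderOf k * orderOf k') = 1 := by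
    rw [pow_mul, pow_orderOf_eq_one, one_pow]
  have h2 : k' ^ (orderOf k * orderOf k') = 1 := by
    rw [mul_comm, pow_mul, pow_orderOf_eq_one, one_pow]
  have e1 : k = (k * k) ^ (r + 1) := by
    rw [← pow_two, ← pow_mul]
    have : 2 * (r + 1) = orderOf k * orderOf k' + 1 := by omega
    rw [this, pow_succ, h1, one_mul]
  have e2 : k' = (k' * k') ^ (r + 1) := by
    rw [← pow_two, ← pow_mul]
    have : 2 * (r + 1) = orderOf k * orderOf k' + 1 := by omega
    rw [this, pow_succ, h2, one_mul]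
  rw [e1, e2, h]

/-- Let z be an isolated involution of the finite group G with centralizer C. Then for every g ∈ G there is exactly one element k in the coset gC that has odd order and is inverted by z. -/
theorem result {G : Type*} [Group G] [Finite G] (z : G) (hz : Cfsg.IsIsolatedInvolution z) (g : G) : ∃! k : G, (Odd (orderOf k) ∧ z * k * z⁻¹ = k⁻¹) ∧ g⁻¹ * k ∈ Subgroup.centralizer ({z} : Set G) := by
  have hu : z * z = 1 := isolated_sq hz
  have hzi : z⁻¹ = z := inv_of_sq hu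
  have hvi : Cfsg.IsIsolatedInvolution (g * z * g⁻¹) := isolated_conj hz g
  have hv : (g * z * g⁻¹) * (g * z * g⁻¹) = 1 := isolated_sq hvi
  have hodd := isolated_mul_conj_odd z hz g
  obtain ⟨j, hj⟩ := hodd
  have hconj := isolated_conj_by_pow z hz g j hj
  have hcu : z * (z * (g * z * g⁻¹)) * z = (z * (g * z * g⁻¹))⁻¹ := invol_conj_mul hu hv
  obtain ⟨c, hc⟩ : ∃ c, c = z * (g * z * g⁻¹) := ⟨_, rfl⟩
  rw [← hc] at hj hconj hcu
  refine ⟨(c ^ (j + 1))⁻¹, ⟨⟨?_, ?_⟩, ?_⟩, ?_⟩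
  · rw [orderOf_inv]
    have hd : orderOf (c ^ (j + 1)) ∣ orderOf c := orderOf_pow_dvd (j + 1)
    rw [hj] at hd
    have : Odd (2 * j + 1) := ⟨j, rfl⟩
    exact Odd.of_dvd_nat this hd
  · rw [hzi, inv_inv]
    have := invol_conj_pow hu hcu (j + 1)
    calc z * (c ^ (j + 1))⁻¹ * z = (z * c ^ (j + 1) * z)⁻¹ := by
          rw [mul_inv_rev, mul_inv_rev, hzi]; group
      _ = c ^ (j + 1) := by rw [this, inv_inv]
  · show g⁻¹ * (c ^ (j + 1))⁻¹ ∈ Subgroup.centralizer ({z} : Set G)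
    rw [Subgroup.mem_centralizer_iff]
    intro w hw
    rw [Set.mem_singleton_iff] at hw
    subst hw
    have e : (c ^ (j + 1))⁻¹ * w = g * w * g⁻¹ * (c ^ (j + 1))⁻¹ := by
      rw [← hconj]; group
    calc w * (g⁻¹ * (c ^ (j + 1))⁻¹) = g⁻¹ * (g * w * g⁻¹ * (c ^ (j + 1))⁻¹) := by group
      _ = g⁻¹ * ((c ^ (j + 1))⁻¹ * w) := by rw [e]
      _ = g⁻¹ * (c ^ (j + 1))⁻¹ * w := by group
  · rintro k' ⟨⟨hk'o, hk'i⟩, hk'c⟩
    -- name k
    obtain ⟨k, hk⟩ : ∃ k, k = (c ^ (j + 1))⁻¹ := ⟨_, rfl⟩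
    rw [← hk]
    have hko : Odd (orderOf k) := by
      rw [hk, orderOf_inv]
      have hd : orderOf (c ^ (j + 1)) ∣ orderOf c := orderOf_pow_dvd (j + 1)
      rw [hj] at hd
      have : Odd (2 * j + 1) := ⟨j, rfl⟩
      exact Odd.of_dvd_nat this hd
    have hki : z * k * z⁻¹ = k⁻¹ := by
      rw [hk, hzi, inv_inv]
      have := invol_conj_pow hu hcu (j + 1)
      calc z * (c ^ (j + 1))⁻¹ * z = (z * c ^ (j + 1) * z)⁻¹ := by
            rw [mul_inv_rev, mul_inv_rev, hzi]; group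
        _ = c ^ (j + 1) := by rw [this, inv_inv]
    have hkc : g⁻¹ * k ∈ Subgroup.centralizer ({z} : Set G) := by
      rw [hk, Subgroup.mem_centralizer_iff]
      intro w hw
      rw [Set.mem_singleton_iff] at hw
      subst hw
      have e : (c ^ (j + 1))⁻¹ * w = g * w * g⁻¹ * (c ^ (j + 1))⁻¹ := by
        rw [← hconj]; group
      calc w * (g⁻¹ * (c ^ (j + 1))⁻¹) = g⁻¹ * (g * w * g⁻¹ * (c ^ (j + 1))⁻¹) := by group
        _ = g⁻¹ * ((c ^ (j + 1))⁻¹ * w) := by rw [e]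
        _ = g⁻¹ * (c ^ (j + 1))⁻¹ * w := by group
    -- a = k⁻¹ k' centralizes z
    have ha : k⁻¹ * k' ∈ Subgroup.centralizer ({z} : Set G) := by
      have : k⁻¹ * k' = (g⁻¹ * k)⁻¹ * (g⁻¹ * k') := by group
      rw [this]
      exact Subgroup.mul_mem _ (Subgroup.inv_mem _ hkc) hk'c
    have haz : z * (k⁻¹ * k') = (k⁻¹ * k') * z :=
      Subgroup.mem_centralizer_iff.mp ha z (Set.mem_singleton z)
    -- z k' z⁻¹ = k'⁻¹, z k z⁻¹ = k⁻¹
    rw [hzi] at hki hk'i
    -- k' = k a ; z k a z = k⁻¹ a = a⁻¹ k⁻¹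
    have h1 : k⁻¹ * (k⁻¹ * k') = k'⁻¹ := by
      calc k⁻¹ * (k⁻¹ * k') = (z * k * z) * (k⁻¹ * k') := by rw [hki]
        _ = z * k * (z * (k⁻¹ * k')) := by group
        _ = z * k * ((k⁻¹ * k') * z) := by rw [haz]
        _ = z * k' * z := by group
        _ = k'⁻¹ := hk'i
    have h2 : k' * k' = k * k := by
      have h3 : k * k * k'⁻¹ = k' := by
        rw [← h1]; group
      calc k' * k' = (k * k * k'⁻¹) * k' := by rw [h3]
        _ = k * k := by group
    exact (eq_of_sq_eq_of_odd hko hk'o h2.symm).symm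

end Cfsg.Agent.S1185
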