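import Mathlib
import Cfsg.Statements.S1186
import Cfsg.Agent.Lib.Helper3.Isolated
import Cfsg.Agent.Lib.Helper3.Isolated2
import Cfsg.Agent.S1184

set_option autoImplicit false
open Cfsg
open Cfsg.Agent.Lib.Helper3

namespace Cfsg.Agent.S1186

variable {G : Type*} [Group G]

/-- `u` is a conjugate of `z`. -/
def PS (z u : G) : Prop := ∃ a : G, a * z * a⁻¹ = u

lemma PS_conj {z u : G} (h : PS z u) (g : G) : PS z (g * u * g⁻¹) := by
  obtain ⟨a, rfl⟩ := h
  exact ⟨g * a, by group⟩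

lemma PS_isolated {z u : G} (hz : Cfsg.IsIsolatedInvolution z) (h : PS z u) :
    Cfsg.IsIsolatedInvolution u := by
  obtain ⟨a, rfl⟩ := h
  exact isolated_conj hz a

lemma PS_trans {z u w : G} (hu : PS z u) (hw : PS z w) : PS u w := by
  obtain ⟨a, rfl⟩ := hu
  obtain ⟨b, rfl⟩ := hw
  exact ⟨b * a⁻¹, by group⟩

/-- Existence of midpoints. -/
lemma mid_exists [Finite G] (z : G) (hz : Cfsg.IsIsolatedInvolution z) {u v : G}
    (hu : PS z u) (hv : PS z v) : ∃ w, PS z w ∧ w * u * w⁻¹ = v := by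
  have hui := PS_isolated hz hu
  have hvi := PS_isolated hz hv
  obtain ⟨g, hg⟩ := PS_trans hu hv
  have huu : u * u = 1 := isolated_sq hui
  have hvv : v * v = 1 := isolated_sq hvi
  obtain ⟨j, hj⟩ := isolated_mul_conj_odd u hui g
  rw [hg] at hj
  obtain ⟨c, hc⟩ : ∃ c, c = u * v := ⟨_, rfl⟩
  rw [← hc] at hj
  have hcu : u * c * u = c⁻¹ := by rw [hc]; exact invol_conj_mul huu hvv
  set e := c ^ (j + 1) with he
  have he2 : e * e = c := by
    rw [he, ← pow_add]
    have : j + 1 + (j + 1) = orderOf c + 1 := by omega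
    rw [this, pow_succ, pow_orderOf_eq_one, one_mul]
  have hue : u * e * u = e⁻¹ := invol_conj_pow huu hcu (j + 1)
  have hw : (c ^ ((j + 1) * (j + 1)))⁻¹ * u * c ^ ((j + 1) * (j + 1)) = u * e := by
    rw [invol_conj_by_pow huu hcu]
    congr 1
    have : 2 * ((j + 1) * (j + 1)) = orderOf c * (j + 1) + (j + 1) := by rw [hj]; ring
    rw [this, pow_add, pow_mul, pow_orderOf_eq_one, one_pow, one_mul]
  refine ⟨u * e, ?_, ?_⟩
  · rw [← hw]
    have := PS_conj hu ((c ^ ((j + 1) * (j + 1)))⁻¹)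
    rwa [inv_inv] at this
  · have hui' : u⁻¹ = u := inv_of_sq huu
    calc u * e * u * (u * e)⁻¹ = (u * e * u) * e⁻¹ * u⁻¹ := by group
      _ = e⁻¹ * e⁻¹ * u⁻¹ := by rw [hue]
      _ = (e * e)⁻¹ * u⁻¹ := by group
      _ = c⁻¹ * u⁻¹ := by rw [he2]
      _ = (u * (u * v))⁻¹ := by rw [hc]; group
      _ = v⁻¹ := by rw [← mul_assoc, huu, one_mul]
      _ = v := inv_of_sq hvv

/-- Uniqueness of midpoints. -/
lemma mid_unique [Finite G] (z : G) (hz : Cfsg.IsIsolatedInvolution z) {u w w' : G}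
    (hu : PS z u) (hw : PS z w) (hw' : PS z w') (h : w * u * w⁻¹ = w' * u * w'⁻¹) : w = w' := by
  have hui := PS_isolated hz hu
  by_contra hne
  obtain ⟨g, hg⟩ := PS_trans hu hw
  obtain ⟨k, hk⟩ := PS_trans hu hw'
  have hww : w' * w' = 1 := isolated_sq (PS_isolated hz hw')
  have hwi : w'⁻¹ = w' := inv_of_sq hww
  have hne' : k * u * k⁻¹ ≠ g * u * g⁻¹ := by
    rw [hg, hk]; exact fun h => hne h.symm
  apply Cfsg.Agent.S1184.result u hui k g hne'
  rw [hg, hk]
  unfold Commute SemiconjBy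
  calc w' * w * u = w' * (w * u * w⁻¹) * w := by group
    _ = w' * (w' * u * w'⁻¹) * w := by rw [h]
    _ = (w' * w') * u * w'⁻¹ * w := by group
    _ = u * (w' * w) := by rw [hww, hwi]; group

/-- Class equation. -/
lemma card_eq_card_centralizer_mul [Finite G] (z : G) :
    Nat.card G = Nat.card (Subgroup.centralizer ({z} : Set G)) * Nat.card {u : G // PS z u} := by
  have h1 : (Subgroup.centralizer ({z} : Set G)).index =
      (MulAction.stabilizer (ConjAct G) z).index := by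
    rw [Subgroup.centralizer_eq_comap_stabilizer]
    exact Subgroup.index_comap_of_surjective _ ConjAct.toConjAct.surjective
  have h2 : (Subgroup.centralizer ({z} : Set G)).index = Nat.card {u : G // PS z u} := by
    rw [h1, MulAction.index_stabilizer, ← Nat.card_coe_set_eq]
    apply Nat.card_congr
    refine Equiv.subtypeEquivRight (fun y => ?_)
    rw [ConjAct.mem_orbit_conjAct, isConj_comm, isConj_iff]
    rfl
  rw [← h2, mul_comm, Subgroup.index_mul_card]

/-- Translate between `K_t` and `S_t`. -/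
lemma card_K_eq [Finite G] (z : G) (hz : Cfsg.IsIsolatedInvolution z) (t : G) (htz : Commute t z) :
    Nat.card {k : G // Odd (orderOf k) ∧ z * k * z⁻¹ = k⁻¹ ∧ Commute k t}
      = Nat.card {u : G // PS z u ∧ Commute u t} := by
  have hzz : z * z = 1 := isolated_sq hz
  have hzi : z⁻¹ = z := inv_of_sq hzz
  apply Nat.card_congr
  refine Equiv.subtypeEquiv (Equiv.mulLeft z) (fun k => ?_)
  show _ ↔ PS z (z * k) ∧ Commute (z * k) t
  constructor
  · rintro ⟨⟨j, hj⟩, hinv, hkt⟩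
    rw [hzi] at hinv
    refine ⟨⟨(k ^ (j + 1))⁻¹, ?_⟩, htz.symm.mul_left hkt⟩
    rw [inv_inv, invol_conj_by_pow hzz hinv]
    have : 2 * (j + 1) = orderOf k + 1 := by omega
    rw [this, pow_succ, pow_orderOf_eq_one, one_mul]
  · rintro ⟨⟨a, ha⟩, hc⟩
    have hk : k = z * (a * z * a⁻¹) := by rw [ha, ← mul_assoc, hzz, one_mul]
    have hvi := isolated_conj hz a
    have hvv := isolated_sq hvi
    refine ⟨?_, ?_, ?_⟩
    · rw [hk]; exact isolated_mul_conj_odd z hz a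
    · rw [hzi, hk]; exact invol_conj_mul hzz hvv
    · have : k = z * (z * k) := by rw [← mul_assoc, hzz, one_mul]
      rw [this]
      exact htz.symm.mul_left hc

lemma alg1 {g s z u m : G} (hgs : g * s = s * g) (hm : g * z * g⁻¹ = m) (hss : s * s = 1)
    (h : m * u * m⁻¹ = s * u * s⁻¹) : Commute (g⁻¹ * u * g) (s * z) := by
  have hsi : s⁻¹ = s := inv_of_sq hss
  have hgs' : g⁻¹ * s = s * g⁻¹ := by
    calc g⁻¹ * s = g⁻¹ * (s * g) * g⁻¹ := by group
      _ = g⁻¹ * (g * s) * g⁻¹ := by rw [hgs]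
      _ = s * g⁻¹ := by group
  have h1 : z * (g⁻¹ * u * g) * z⁻¹ = s * (g⁻¹ * u * g) * s⁻¹ := by
    calc z * (g⁻¹ * u * g) * z⁻¹ = g⁻¹ * ((g * z * g⁻¹) * u * (g * z * g⁻¹)⁻¹) * g := by group
      _ = g⁻¹ * (s * u * s⁻¹) * g := by rw [hm, h]
      _ = (g⁻¹ * s) * u * (g⁻¹ * s)⁻¹ := by group
      _ = (s * g⁻¹) * u * (s * g⁻¹)⁻¹ := by rw [hgs']
      _ = s * (g⁻¹ * u * g) * s⁻¹ := by group
  unfold Commute SemiconjBy
  calc g⁻¹ * u * g * (s * z) = s * (s⁻¹ * (g⁻¹ * u * g) * s) * z := by group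
    _ = s * (s * (g⁻¹ * u * g) * s⁻¹) * z := by rw [hsi]
    _ = s * (z * (g⁻¹ * u * g) * z⁻¹) * z := by rw [h1]
    _ = s * z * (g⁻¹ * u * g) := by group

lemma alg2 {g s z u' : G} (hgs : g * s = s * g) (hss : s * s = 1)
    (h : Commute u' (s * z)) :
    (g * z * g⁻¹) * (g * u' * g⁻¹) * (g * z * g⁻¹)⁻¹ = s * (g * u' * g⁻¹) * s⁻¹ := by
  have hsi : s⁻¹ = s := inv_of_sq hss
  have h1 : z * u' * z⁻¹ = s * u' * s⁻¹ := by
    have := h.eq
    calc z * u' * z⁻¹ = s⁻¹ * (s * z * u') * z⁻¹ := by group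
      _ = s⁻¹ * (u' * (s * z)) * z⁻¹ := by rw [this]
      _ = s⁻¹ * u' * s := by group
      _ = s * u' * s⁻¹ := by rw [hsi]
  calc (g * z * g⁻¹) * (g * u' * g⁻¹) * (g * z * g⁻¹)⁻¹ = g * (z * u' * z⁻¹) * g⁻¹ := by group
    _ = g * (s * u' * s⁻¹) * g⁻¹ := by rw [h1]
    _ = (g * s) * u' * (g * s)⁻¹ := by group
    _ = (s * g) * u' * (s * g)⁻¹ := by rw [hgs]
    _ = s * (g * u' * g⁻¹) * s⁻¹ := by group

/-- The counting identity on conjugates. -/
lemma card_S_eq [Finite G] (z : G) (hz : Cfsg.IsIsolatedInvolution z) (s : G) (hss : s * s = 1)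
    (hsz : Commute s z) :
    Nat.card {u : G // PS z u} =
      Nat.card {u : G // PS z u ∧ Commute u (s * z)} * Nat.card {u : G // PS z u ∧ Commute u s} := by
  classical
  have hsi : s⁻¹ = s := inv_of_sq hss
  have hex : ∀ u : {u : G // PS z u}, ∃ w, PS z w ∧ w * u.1 * w⁻¹ = s * u.1 * s⁻¹ :=
    fun u => mid_exists z hz u.2 (PS_conj u.2 s)
  choose Φ hΦ1 hΦ2 using hex
  have hΦs : ∀ u, Commute (Φ u) s := by
    intro u
    have hmm : Φ u * Φ u = 1 := isolated_sq (PS_isolated hz (hΦ1 u))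
    have hmi : (Φ u)⁻¹ = Φ u := inv_of_sq hmm
    have h1 : PS z (s * Φ u * s⁻¹) := PS_conj (hΦ1 u) s
    have h2 : (s * Φ u * s⁻¹) * u.1 * (s * Φ u * s⁻¹)⁻¹ = Φ u * u.1 * (Φ u)⁻¹ := by
      have e1 : s⁻¹ * u.1 * s = Φ u * u.1 * (Φ u)⁻¹ := by
        rw [hΦ2 u]; nth_rewrite 1 [hsi]; nth_rewrite 2 [← hsi]; rfl
      calc (s * Φ u * s⁻¹) * u.1 * (s * Φ u * s⁻¹)⁻¹
          = s * (Φ u * (s⁻¹ * u.1 * s) * (Φ u)⁻¹) * s⁻¹ := by group
        _ = s * (Φ u * (Φ u * u.1 * (Φ u)⁻¹) * (Φ u)⁻¹) * s⁻¹ := by rw [e1]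
        _ = s * ((Φ u * Φ u) * u.1 * ((Φ u)⁻¹ * (Φ u)⁻¹)) * s⁻¹ := by group
        _ = s * u.1 * s⁻¹ := by rw [hmi, hmm]; group
        _ = Φ u * u.1 * (Φ u)⁻¹ := (hΦ2 u).symm
    have h3 := mid_unique z hz u.2 h1 (hΦ1 u) h2
    unfold Commute SemiconjBy
    calc Φ u * s = (s * Φ u * s⁻¹) * s := by rw [h3]
      _ = s * Φ u := by group
  let f : {u : G // PS z u} → {m : G // PS z m ∧ Commute m s} := fun u => ⟨Φ u, hΦ1 u, hΦs u⟩
  have e1 := (Equiv.sigmaFiberEquiv f).symm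
  have hfib : ∀ m : {m : G // PS z m ∧ Commute m s},
      Nonempty ({u // f u = m} ≃ {u : G // PS z u ∧ Commute u (s * z)}) := by
    rintro ⟨m, hmS, hms⟩
    obtain ⟨a, ha⟩ := hmS
    have hzH : z ∈ Subgroup.centralizer ({s} : Set G) := by
      rw [Subgroup.mem_centralizer_iff]
      intro w hw
      rw [Set.mem_singleton_iff] at hw
      subst hw
      exact hsz.eq
    have hmH : a * z * a⁻¹ ∈ Subgroup.centralizer ({s} : Set G) := by
      rw [Subgroup.mem_centralizer_iff]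
      intro w hw
      rw [Set.mem_singleton_iff] at hw
      subst hw
      rw [ha]; exact hms.eq.symm
    obtain ⟨g, hgH, hg⟩ := isolated_conj_in_subgroup z hz _ hzH a hmH
    rw [ha] at hg
    have hgs : g * s = s * g :=
      (Subgroup.mem_centralizer_iff.mp hgH s (Set.mem_singleton s)).symm
    refine ⟨{
      toFun := fun u => ⟨g⁻¹ * u.1.1 * g, ?_, ?_⟩
      invFun := fun u' => ⟨⟨g * u'.1 * g⁻¹, PS_conj u'.2.1 g⟩, ?_⟩
      left_inv := ?_
      right_inv := ?_ }⟩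
    · have := PS_conj u.1.2 g⁻¹
      rwa [inv_inv] at this
    · have hfu : Φ u.1 = m := congrArg Subtype.val u.2
      have h2 := hΦ2 u.1
      rw [hfu] at h2
      exact alg1 hgs hg hss h2
    · apply Subtype.ext
      show Φ ⟨g * u'.1 * g⁻¹, PS_conj u'.2.1 g⟩ = m
      have h2 := hΦ2 ⟨g * u'.1 * g⁻¹, PS_conj u'.2.1 g⟩
      have h3 := alg2 (z := z) hgs hss u'.2.2
      rw [hg] at h3
      exact mid_unique z hz (PS_conj u'.2.1 g) (hΦ1 _) ⟨a, ha⟩ (h2.trans h3.symm)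
    · intro u
      apply Subtype.ext
      apply Subtype.ext
      show g * (g⁻¹ * u.1.1 * g) * g⁻¹ = u.1.1
      group
    · intro u'
      apply Subtype.ext
      show g⁻¹ * (g * u'.1 * g⁻¹) * g = u'.1
      group
  have e2 := Equiv.sigmaEquivProdOfEquiv (fun m => Classical.choice (hfib m))
  rw [Nat.card_congr (e1.trans e2), Nat.card_prod, mul_comm]

/-- For an isolated involution z with centralizer C and any involution s ∈ C, the order of G is the product of the order of C, the number of z-inverted odd-order elements commuting with s, and the number commuting with sz. -/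
theorem result {G : Type*} [Group G] [Finite G] (z : G) (hz : Cfsg.IsIsolatedInvolution z) (s : G) (hs : orderOf s = 2) (hsz : Commute s z) : Nat.card G = Nat.card (Subgroup.centralizer ({z} : Set G)) * Nat.card {k : G // Odd (orderOf k) ∧ z * k * z⁻¹ = k⁻¹ ∧ Commute k (s * z)} * Nat.card {k : G // Odd (orderOf k) ∧ z * k * z⁻¹ = k⁻¹ ∧ Commute k s} := by
  have hss : s * s = 1 := by
    have := pow_orderOf_eq_one s
    rw [hs, pow_two] at this; exact this
  have hszz : Commute (s * z) z := hsz.mul_left (Commute.refl z)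
  rw [card_K_eq z hz (s * z) hszz, card_K_eq z hz s hsz, mul_assoc, ← card_S_eq z hz s hss hsz]
  exact card_eq_card_centralizer_mul z

end Cfsg.Agent.S1186
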