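import Cfsg.Statements.S1189
import Mathlib
import Cfsg.Agent.Lib.Helper6.QD4

set_option autoImplicit false
open Cfsg Cfsg.Agent.Lib.Helper6

namespace Cfsg.Agent.S1189

theorem qdat_of_qd {S : Type*} [Group S] (hS : Cfsg.IsQuasiDihedral S) :
    Nonempty (QDat S) := by
  obtain ⟨n, hn, hcard, x, y, hx, hy, hxy⟩ := hS
  exact ⟨⟨n, hn, hcard, x, y, hx, hy, hxy⟩⟩

theorem card_classes_eq_two {S : Type*} [Group S] (P : S → Prop) (a b : S) (ha : P a) (hb : P b)
    (hab : ¬ IsConj a b) (h : ∀ t, P t → IsConj a t ∨ IsConj b t) :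
    Nat.card {C : ConjClasses S // ∃ t : S, P t ∧ ConjClasses.mk t = C} = 2 := by
  rw [Nat.card_eq_two_iff]
  refine ⟨⟨ConjClasses.mk a, a, ha, rfl⟩, ⟨ConjClasses.mk b, b, hb, rfl⟩, ?_, ?_⟩
  · intro heq
    have := congrArg Subtype.val heq
    exact hab (ConjClasses.mk_eq_mk_iff_isConj.1 this)
  · apply Set.eq_univ_of_forall
    rintro ⟨C, t, ht, rfl⟩
    rcases h t ht with h1 | h1
    · left
      apply Subtype.ext
      exact (ConjClasses.mk_eq_mk_iff_isConj.2 h1).symm
    · right
      apply Subtype.ext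
      exact (ConjClasses.mk_eq_mk_iff_isConj.2 h1).symm

theorem main1189 {S : Type*} [Group S] [Finite S] (hS : Cfsg.IsQuasiDihedral S) : Nat.card {C : ConjClasses S // ∃ t : S, orderOf t = 2 ∧ ConjClasses.mk t = C} = 2 ∧ Nat.card {C : ConjClasses S // ∃ t : S, orderOf t = 4 ∧ ConjClasses.mk t = C} = 2 := by
  obtain ⟨d⟩ := qdat_of_qd hS
  haveI := d.zx_normal
  constructor
  · apply card_classes_eq_two (fun t => orderOf t = 2) d.z d.y d.orderOf_z d.hy
    · intro hc
      obtain ⟨a, ha⟩ := isConj_iff.1 hc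
      apply d.y_not_mem
      rw [← ha]
      exact Subgroup.Normal.conj_mem inferInstance _ d.z_mem _
    · intro t ht
      by_cases hmem : t ∈ Subgroup.zpowers d.x
      · left; rw [d.eq_z_of_orderOf_two t ht hmem]
      · right; exact d.isConj_y_of_orderOf_two t ht hmem
  · apply card_classes_eq_two (fun t => orderOf t = 4) d.w (d.y * d.x) d.orderOf_w d.orderOf_yx
    · intro hc
      obtain ⟨a, ha⟩ := isConj_iff.1 hc
      apply d.yx_not_mem
      rw [← ha]
      exact Subgroup.Normal.conj_mem inferInstance _ d.w_mem _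
    · intro t ht
      by_cases hmem : t ∈ Subgroup.zpowers d.x
      · left; exact d.isConj_w_of_orderOf_four t ht hmem
      · right
        apply d.isConj_yx_of_sq_ne_one t _ hmem
        intro h2
        have := orderOf_dvd_of_pow_eq_one h2
        rw [ht] at this
        omega


/-- A quasi-dihedral 2-group has exactly two conjugacy classes of elements of order 2 and exactly two conjugacy classes of elements of order 4. -/
theorem result {S : Type*} [Group S] [Finite S] (hS : Cfsg.IsQuasiDihedral S) : Nat.card {C : ConjClasses S // ∃ t : S, orderOf t = 2 ∧ ConjClasses.mk t = C} = 2 ∧ Nat.card {C : ConjClasses S // ∃ t : S, orderOf t = 4 ∧ ConjClasses.mk t = C} = 2 := by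
  exact main1189 hS

end Cfsg.Agent.S1189
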