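import Cfsg.Statements.S1190
import Mathlib
import Cfsg.Agent.Lib.Helper6.QD5

set_option autoImplicit false
open Cfsg Cfsg.Agent.Lib.Helper6

namespace Cfsg.Agent.S1190

theorem qdat_of_qd {S : Type*} [Group S] (hS : Cfsg.IsQuasiDihedral S) :
    Nonempty (QDat S) := by
  obtain ⟨n, hn, hcard, x, y, hx, hy, hxy⟩ := hS
  exact ⟨⟨n, hn, hcard, x, y, hx, hy, hxy⟩⟩

theorem map_conj_centralizer {S : Type*} [Group S] (a s : S) :
    (Subgroup.centralizer {a}).map (MulAut.conj s).toMonoidHom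
      = Subgroup.centralizer {s * a * s⁻¹} := by
  ext v
  rw [Subgroup.mem_map, Subgroup.mem_centralizer_singleton_iff]
  constructor
  · rintro ⟨u, hu, rfl⟩
    rw [Subgroup.mem_centralizer_singleton_iff] at hu
    show s * u * s⁻¹ * (s * a * s⁻¹) = s * a * s⁻¹ * (s * u * s⁻¹)
    calc s * u * s⁻¹ * (s * a * s⁻¹) = s * (u * a) * s⁻¹ := by group
      _ = s * (a * u) * s⁻¹ := by rw [hu]
      _ = _ := by group
  · intro hv
    refine ⟨s⁻¹ * v * s, ?_, ?_⟩
    · rw [Subgroup.mem_centralizer_singleton_iff]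
      calc s⁻¹ * v * s * a = s⁻¹ * (v * (s * a * s⁻¹)) * s := by group
        _ = s⁻¹ * ((s * a * s⁻¹) * v) * s := by rw [hv]
        _ = _ := by group
    · show s * (s⁻¹ * v * s) * s⁻¹ = v
      group

theorem exists_withY {S : Type*} [Group S] (d : QDat S) (T : Subgroup S) (hT : IsKleinFour T) :
    ∃ (t : S) (ht : orderOf t = 2) (hmem : t ∉ Subgroup.zpowers d.x),
      T = (d.withY t ht hmem).T0 := by
  classical
  haveI := d.finite
  have hsq : ∀ u ∈ T, u ^ 2 = 1 := by
    intro u hu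
    have := Monoid.pow_exponent_eq_one (⟨u, hu⟩ : T)
    rw [hT.exponent_two] at this
    exact congrArg Subtype.val this
  have hcomm : ∀ u ∈ T, ∀ v ∈ T, u * v = v * u := by
    intro u hu v hv
    have := mul_comm_of_exponent_two hT.exponent_two (⟨u, hu⟩ : T) ⟨v, hv⟩
    exact congrArg Subtype.val this
  have hex : ∃ t ∈ T, t ∉ Subgroup.zpowers d.x := by
    by_contra hcon
    push Not at hcon
    have hsub : (T : Set S) ⊆ (({1, d.z} : Finset S) : Set S) := by
      intro u hu
      by_cases h1 : u = 1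
      · simp [h1]
      · have ho : orderOf u = 2 := orderOf_eq_prime (hsq u hu) h1
        have := d.eq_z_of_orderOf_two u ho (hcon u hu)
        simp [this]
    have h1 := Set.ncard_le_ncard hsub (Set.toFinite _)
    rw [Set.ncard_coe_finset] at h1
    have h2 : ({1, d.z} : Finset S).card ≤ 2 := Finset.card_le_two
    have h3 : Nat.card T = (T : Set S).ncard := rfl
    have h4 := hT.card_four
    omega
  obtain ⟨t, htT, hmem⟩ := hex
  have ht1 : t ≠ 1 := by
    intro h; apply hmem; rw [h]; exact Subgroup.one_mem _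
  have ht : orderOf t = 2 := orderOf_eq_prime (hsq t htT) ht1
  refine ⟨t, ht, hmem, ?_⟩
  have hle : T ≤ (d.withY t ht hmem).T0 := by
    intro u hu
    rw [QDat.mem_T0_iff]
    exact hcomm u hu t htT
  apply Subgroup.eq_of_le_of_card_ge hle
  have := (d.withY t ht hmem).T0_card_le
  rw [hT.card_four]
  exact this

theorem main1190 {S : Type*} [Group S] [Finite S] (hS : Cfsg.IsQuasiDihedral S) : (∀ T₁ T₂ : Subgroup S, IsKleinFour T₁ → IsKleinFour T₂ → ∃ s : S, T₁.map (MulAut.conj s).toMonoidHom = T₂) ∧ (∀ T : Subgroup S, IsKleinFour T → Subgroup.centralizer (T : Set S) = T ∧ T.relIndex (Subgroup.normalizer (T : Set S)) = 2) := by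
  obtain ⟨d⟩ := qdat_of_qd hS
  constructor
  · intro T₁ T₂ h₁ h₂
    obtain ⟨t₁, ht₁, hm₁, rfl⟩ := exists_withY d T₁ h₁
    obtain ⟨t₂, ht₂, hm₂, rfl⟩ := exists_withY d T₂ h₂
    have hc : IsConj t₁ t₂ := (d.withY t₁ ht₁ hm₁).isConj_y_of_orderOf_two t₂ ht₂ hm₂
    obtain ⟨s, hs⟩ := isConj_iff.1 hc
    refine ⟨s, ?_⟩
    show (Subgroup.centralizer {t₁}).map (MulAut.conj s).toMonoidHom = Subgroup.centralizer {t₂}
    rw [map_conj_centralizer, hs]
  · intro T hT
    obtain ⟨t, ht, hm, rfl⟩ := exists_withY d T hT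
    exact ⟨(d.withY t ht hm).T0_centralizer, (d.withY t ht hm).T0_relIndex⟩


/-- In a quasi-dihedral 2-group S, any two Klein four-subgroups are conjugate, and every Klein four-subgroup T satisfies C_S(T) = T and |N_S(T) : T| = 2. -/
theorem result {S : Type*} [Group S] [Finite S] (hS : Cfsg.IsQuasiDihedral S) : (∀ T₁ T₂ : Subgroup S, IsKleinFour T₁ → IsKleinFour T₂ → ∃ s : S, T₁.map (MulAut.conj s).toMonoidHom = T₂) ∧ (∀ T : Subgroup S, IsKleinFour T → Subgroup.centralizer (T : Set S) = T ∧ T.relIndex (Subgroup.normalizer (T : Set S)) = 2) := by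
  exact main1190 hS

end Cfsg.Agent.S1190
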