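import Cfsg.Statements.S1192
import Mathlib
import Cfsg.Agent.Lib.Helper6.QD
import Cfsg.Agent.Lib.Helper6.MaxClass2c
import Cfsg.Agent.Lib.Helper6.QuatRec

set_option autoImplicit false
open Cfsg Cfsg.Agent.Lib.Helper6

namespace Cfsg.Agent.S1192


theorem qdat_of_isQuasiDihedral {S : Type*} [Group S] (hS : Cfsg.IsQuasiDihedral S) :
    Nonempty (QDat S) := by
  obtain ⟨n, hn, hcard, x, y, hx, hy, hxy⟩ := hS
  exact ⟨⟨n, hn, hcard, x, y, hx, hy, hxy⟩⟩

theorem main1192 {S : Type*} [Group S] [Finite S] (hS : Cfsg.IsQuasiDihedral S) (n : ℕ)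
    (hn : Nat.card S = 2 ^ (n + 1)) :
    ∃ M₁ M₂ M₃ : Subgroup S, IsCoatom M₁ ∧ IsCoatom M₂ ∧ IsCoatom M₃ ∧ M₁ ≠ M₂ ∧ M₁ ≠ M₃ ∧
      M₂ ≠ M₃ ∧ (∀ M : Subgroup S, IsCoatom M → M = M₁ ∨ M = M₂ ∨ M = M₃) ∧ IsCyclic M₁ ∧
      Nonempty (M₂ ≃* QuaternionGroup (2 ^ (n - 2))) ∧
      Nonempty (M₃ ≃* DihedralGroup (2 ^ (n - 1))) := by
  obtain ⟨d⟩ := qdat_of_isQuasiDihedral hS
  have hnn : d.n = n := by
    have h1 := d.card
    rw [hn] at h1
    have := Nat.pow_right_injective (le_refl 2) h1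
    omega
  have hn3 : 3 ≤ n := hnn ▸ d.hn
  haveI := d.D_normal
  have hDi := d.D_index
  obtain ⟨M₂, hM₂⟩ : ∃ M₂ : Subgroup S, M₂ = Subgroup.zpowers (d.x * d.y) ⊔ d.D := ⟨_, rfl⟩
  obtain ⟨M₃, hM₃⟩ : ∃ M₃ : Subgroup S, M₃ = Subgroup.zpowers d.y ⊔ d.D := ⟨_, rfl⟩
  have hi1 : (Subgroup.zpowers d.x).index = 2 := d.index_x
  have hi2 : M₂.index = 2 := by
    rw [hM₂]; exact index_zpowers_sup d.D hDi _ d.xy_not_mem_D d.xy_sq_mem_D
  have hi3 : M₃.index = 2 := by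
    rw [hM₃]
    exact index_zpowers_sup d.D hDi _ d.y_not_mem_D (by rw [d.y_sq]; exact Subgroup.one_mem _)
  have hxyM₂ : d.x * d.y ∈ M₂ := by
    rw [hM₂]; exact Subgroup.mem_sup_left (Subgroup.mem_zpowers _)
  have hyM₃ : d.y ∈ M₃ := by
    rw [hM₃]; exact Subgroup.mem_sup_left (Subgroup.mem_zpowers _)
  have hx2M₂ : d.x ^ 2 ∈ M₂ := by
    rw [hM₂]; exact Subgroup.mem_sup_right (Subgroup.mem_zpowers _)
  have hx2M₃ : d.x ^ 2 ∈ M₃ := by
    rw [hM₃]; exact Subgroup.mem_sup_right (Subgroup.mem_zpowers _)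
  have hxM₃ : d.x ∉ M₃ := by
    intro h
    have := d.eq_top_of_mem M₃ h hyM₃
    rw [this, Subgroup.index_top] at hi3
    omega
  have hxM₂ : d.x ∉ M₂ := by
    intro h
    have hy : d.y ∈ M₂ := by
      have := Subgroup.mul_mem _ (Subgroup.inv_mem _ h) hxyM₂
      simpa using this
    have := d.eq_top_of_mem M₂ h hy
    rw [this, Subgroup.index_top] at hi2
    omega
  have hcardM : ∀ M : Subgroup S, M.index = 2 → Nat.card M = 2 ^ n := by
    intro M hM
    have h1 := Subgroup.card_mul_index M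
    rw [hM, hn, pow_succ] at h1
    exact Nat.eq_of_mul_eq_mul_right (by norm_num) h1
  refine ⟨Subgroup.zpowers d.x, M₂, M₃, isCoatom_of_index_two _ hi1, isCoatom_of_index_two _ hi2,
    isCoatom_of_index_two _ hi3, ?_, ?_, ?_, ?_, inferInstance, ?_, ?_⟩
  · intro h
    exact hxM₂ (h ▸ Subgroup.mem_zpowers d.x)
  · intro h
    exact hxM₃ (h ▸ Subgroup.mem_zpowers d.x)
  · intro h
    apply hxM₃
    have hxy3 : d.x * d.y ∈ M₃ := h ▸ hxyM₂
    have := Subgroup.mul_mem _ hxy3 (Subgroup.inv_mem _ hyM₃)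
    simpa using this
  · intro M hM
    have hMi : M.index = 2 := index_two_of_isCoatom d.isPGroup hM
    have hx2 : d.x ^ 2 ∈ M := Subgroup.sq_mem_of_index_two hMi d.x
    have hD : d.D ≤ M := by
      rw [QDat.D, Subgroup.zpowers_le]; exact hx2
    by_cases hxM : d.x ∈ M
    · left
      symm
      apply eq_of_le_of_index_two _ hi1 hMi
      rw [Subgroup.zpowers_le]; exact hxM
    · right
      by_cases hyM : d.y ∈ M
      · right
        symm
        apply eq_of_le_of_index_two _ hi3 hMi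
        rw [hM₃]
        exact sup_le (by rw [Subgroup.zpowers_le]; exact hyM) hD
      · left
        symm
        apply eq_of_le_of_index_two _ hi2 hMi
        rw [hM₂]
        refine sup_le ?_ hD
        rw [Subgroup.zpowers_le]
        rw [Subgroup.mul_mem_iff_of_index_two hMi]
        exact ⟨fun h => absurd h hxM, fun h => absurd h hyM⟩
  · -- quaternion
    have hm : (2 : ℕ) ^ (n - 2) ≠ 0 := by positivity
    haveI : NeZero (2 ^ (n - 2)) := ⟨hm⟩
    have hpow : 2 * 2 ^ (n - 2) = 2 ^ (d.n - 1) := by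
      rw [hnn, ← pow_succ']; congr 1; omega
    apply nonempty_mulEquiv_quaternion (2 ^ (n - 2)) (⟨d.x ^ 2, hx2M₂⟩ : M₂) ⟨d.x * d.y, hxyM₂⟩
    · rw [Subgroup.orderOf_mk, d.orderOf_x_sq, hpow]
    · apply Subtype.ext
      simp only [Subgroup.coe_pow]
      rw [d.xy_sq, ← pow_mul, hpow]
    · apply Subtype.ext
      simp only [Subgroup.coe_mul, Subgroup.coe_inv]
      have e : d.x * d.y * d.x ^ 2 * (d.x * d.y)⁻¹ = d.x * (d.y * d.x ^ 2 * d.y⁻¹) * d.x⁻¹ := by
        group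
      rw [e, d.conj_x_sq]
      have hc : Commute d.x (d.x ^ 2)⁻¹ := ((Commute.refl d.x).pow_right 2).inv_right
      rw [hc.eq]; group
    · intro hmem
      obtain ⟨k, hk⟩ := Subgroup.mem_zpowers_iff.1 hmem
      have h1 := congrArg Subtype.val hk
      simp only [Subgroup.coe_zpow] at h1
      apply d.xy_not_mem
      rw [← h1]
      exact Subgroup.zpow_mem _ (Subgroup.pow_mem _ (Subgroup.mem_zpowers _) _) _
    · rw [hcardM M₂ hi2]
      have : n = (n - 2) + 2 := by omega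
      conv_lhs => rw [this, pow_add]
      ring
  · -- dihedral
    have hN : 2 ≤ 2 ^ (n - 1) := by
      calc 2 = 2 ^ 1 := rfl
        _ ≤ 2 ^ (n - 1) := Nat.pow_le_pow_right (by norm_num) (by omega)
    apply nonempty_mulEquiv_dihedral_of_rel (2 ^ (n - 1)) hN (⟨d.x ^ 2, hx2M₃⟩ : M₃) ⟨d.y, hyM₃⟩
    · rw [Subgroup.orderOf_mk, d.orderOf_x_sq, hnn]
    · intro hmem
      obtain ⟨k, hk⟩ := Subgroup.mem_zpowers_iff.1 hmem
      have h1 := congrArg Subtype.val hk
      simp only [Subgroup.coe_zpow] at h1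
      apply d.y_not_mem
      rw [← h1]
      exact Subgroup.zpow_mem _ (Subgroup.pow_mem _ (Subgroup.mem_zpowers _) _) _
    · apply Subtype.ext
      simp only [Subgroup.coe_pow]
      exact d.y_sq
    · apply Subtype.ext
      simp only [Subgroup.coe_mul, Subgroup.coe_inv]
      exact d.conj_x_sq
    · rw [hcardM M₃ hi3]
      have : n = (n - 1) + 1 := by omega
      conv_lhs => rw [this, pow_succ]
      ring



/-- A quasi-dihedral group S of order 2^(n+1) has exactly three maximal subgroups; one is cyclic, one is isomorphic to the generalized quaternion group of order 2^n and one to the dihedral group of order 2^n. -/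
theorem result {S : Type*} [Group S] [Finite S] (hS : Cfsg.IsQuasiDihedral S) (n : ℕ) (hn : Nat.card S = 2 ^ (n + 1)) : ∃ M₁ M₂ M₃ : Subgroup S, IsCoatom M₁ ∧ IsCoatom M₂ ∧ IsCoatom M₃ ∧ M₁ ≠ M₂ ∧ M₁ ≠ M₃ ∧ M₂ ≠ M₃ ∧ (∀ M : Subgroup S, IsCoatom M → M = M₁ ∨ M = M₂ ∨ M = M₃) ∧ IsCyclic M₁ ∧ Nonempty (M₂ ≃* QuaternionGroup (2 ^ (n - 2))) ∧ Nonempty (M₃ ≃* DihedralGroup (2 ^ (n - 1))) := by
  exact main1192 hS n hn

end Cfsg.Agent.S1192
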