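import Cfsg.Statements.S1191
import Mathlib
import Cfsg.Agent.Lib.Helper6.QD5
import Cfsg.Agent.Lib.Helper6.QuatFacts
import Cfsg.Agent.Lib.Helper6.PG4
import Cfsg.Agent.S1192

set_option autoImplicit false
open Cfsg Cfsg.Agent.Lib.Helper6

namespace Cfsg.Agent.S1191

theorem mem_of_odd_zpow_mem {G : Type*} [Group G] (u : G) (N : ℕ) (hu : u ^ (2 ^ N) = 1)
    (H : Subgroup G) (k : ℤ) (hk : Odd k) (h : u ^ k ∈ H) : u ∈ H := by
  obtain ⟨j, rfl⟩ := hk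
  have hc : IsCoprime (2 * j + 1) (2 : ℤ) := ⟨1, -j, by ring⟩
  obtain ⟨a, b, hab⟩ := hc.pow_right (n := N)
  have h1 : u = (u ^ (2 * j + 1)) ^ a * (u ^ (2 ^ N : ℤ)) ^ b := by
    rw [← zpow_mul, ← zpow_mul, ← zpow_add]
    have : (2 * j + 1) * a + 2 ^ N * b = 1 := by linear_combination hab
    rw [this, zpow_one]
  have h2 : u ^ (2 ^ N : ℤ) = 1 := by
    rw [← zpow_natCast] at hu
    rw [← hu]; congr 1
  rw [h2, one_zpow, mul_one] at h1
  rw [h1]
  exact Subgroup.zpow_mem _ h _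

variable {S : Type*} [Group S] (d : QDat S)

theorem conj_w_mem (s : S) : s * d.w * s⁻¹ ∈ Subgroup.zpowers d.w := by
  haveI := d.zx_normal
  have h1 : s * d.w * s⁻¹ ∈ Subgroup.zpowers d.x :=
    Subgroup.Normal.conj_mem inferInstance _ d.w_mem _
  have h2 : orderOf (s * d.w * s⁻¹) = 4 := by
    have := (MulAut.conj s).orderOf_eq d.w
    rw [MulAut.conj_apply, d.orderOf_w] at this
    exact this
  rcases d.eq_w_of_orderOf_four _ h2 h1 with h | h
  · rw [h]; exact Subgroup.mem_zpowers _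
  · rw [h]; exact Subgroup.inv_mem _ (Subgroup.mem_zpowers _)

theorem zw_normal : (Subgroup.zpowers d.w).Normal := by
  refine ⟨fun a ha s => ?_⟩
  obtain ⟨k, rfl⟩ := Subgroup.mem_zpowers_iff.1 ha
  rw [← conj_zpow]
  exact Subgroup.zpow_mem _ (conj_w_mem d s) _

theorem conj_of_mem (g : S) (hg : g ∉ Subgroup.zpowers d.x) (u : S)
    (hu : u ∈ Subgroup.zpowers d.x) : g * u * g⁻¹ = u ^ (2 ^ (d.n - 1) - 1) := by
  obtain ⟨k, rfl⟩ := Subgroup.mem_zpowers_iff.1 hu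
  rw [← conj_zpow, d.conj_x_eq_c_of_not_mem g hg, d.c_eq, ← zpow_natCast, ← zpow_natCast,
    ← zpow_mul, ← zpow_mul, mul_comm]

theorem conj_by_mem (g : S) (hg : g ∉ Subgroup.zpowers d.x) (u : S)
    (hu : u ∈ Subgroup.zpowers d.x) :
    u * g * u⁻¹ = ((u ^ 2) ^ (2 ^ (d.n - 2) - 1))⁻¹ * g := by
  have h1 := conj_of_mem d g hg u hu
  have h2 : u * g * u⁻¹ = u * (g * u * g⁻¹)⁻¹ * g := by group
  rw [h2, h1, ← pow_mul]
  have h3 : 2 ^ (d.n - 1) - 1 = 2 * (2 ^ (d.n - 2) - 1) + 1 := by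
    have h4 : 2 ^ (d.n - 1) = 2 * 2 ^ (d.n - 2) := by
      rw [← pow_succ']; congr 1; have := d.hn; omega
    have h5 : 1 ≤ 2 ^ (d.n - 2) := Nat.one_le_two_pow
    omega
  rw [h3, pow_succ, mul_inv_rev, ← mul_assoc, mul_inv_cancel, one_mul]

theorem q8_data [Finite S] (Q : Subgroup S) (hQ : Nonempty (Q ≃* QuaternionGroup 2)) :
    d.w ∈ Q ∧ (∀ q ∈ Q, q ∈ Subgroup.zpowers d.x → q ∈ Subgroup.zpowers d.w) ∧
      ∃ g ∈ Q, g ∉ Subgroup.zpowers d.x ∧ g ^ 2 ≠ 1 := by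
  obtain ⟨φ⟩ := hQ
  have hcard : Nat.card Q = 8 := by
    rw [Nat.card_congr φ.toEquiv, Nat.card_eq_fintype_card, QuaternionGroup.card]
  obtain ⟨ι, β, hβ, hι1, hι2, hinv, hcen, g, h, hgh⟩ := quat_structure 2 le_rfl φ
  have hnle : ¬ Q ≤ Subgroup.zpowers d.x := by
    intro hle
    apply hgh
    obtain ⟨i, hi⟩ := Subgroup.mem_zpowers_iff.1 (hle g.2)
    obtain ⟨j, hj⟩ := Subgroup.mem_zpowers_iff.1 (hle h.2)
    apply Subtype.ext
    rw [Subgroup.coe_mul, Subgroup.coe_mul, ← hi, ← hj, ← zpow_add, ← zpow_add, add_comm]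
  haveI := d.zx_normal
  have hrel : (Subgroup.zpowers d.x).relIndex Q = 2 := by
    have h1 := Subgroup.relIndex_dvd_index_of_normal (Subgroup.zpowers d.x) Q
    rw [d.index_x] at h1
    rcases (Nat.dvd_prime Nat.prime_two).1 h1 with h2 | h2
    · exact absurd (Subgroup.relIndex_eq_one.1 h2) hnle
    · exact h2
  have hcardC : Nat.card ↥(Subgroup.zpowers d.x ⊓ Q) = 4 := by
    have h1 := Subgroup.relIndex_mul_relIndex ⊥ (Subgroup.zpowers d.x ⊓ Q) Q bot_le inf_le_right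
    rw [Subgroup.relIndex_bot_left, Subgroup.relIndex_bot_left, Subgroup.inf_relIndex_right,
      hrel, hcard] at h1
    omega
  haveI : IsCyclic ↥(Subgroup.zpowers d.x ⊓ Q) := Subgroup.isCyclic_of_le inf_le_left
  obtain ⟨t, ht⟩ := IsCyclic.exists_generator (α := ↥(Subgroup.zpowers d.x ⊓ Q))
  have hto : orderOf (t : S) = 4 := by
    rw [Subgroup.orderOf_coe, orderOf_eq_card_of_forall_mem_zpowers ht, hcardC]
  have hwC : d.w ∈ Subgroup.zpowers d.x ⊓ Q := by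
    rcases d.eq_w_of_orderOf_four _ hto (Subgroup.mem_inf.1 t.2).1 with h1 | h1
    · rw [← h1]; exact t.2
    · have : d.w = (t : S)⁻¹ := by rw [h1, inv_inv]
      rw [this]; exact Subgroup.inv_mem _ t.2
  have hzw : Subgroup.zpowers d.w = Subgroup.zpowers d.x ⊓ Q := by
    apply Subgroup.eq_of_le_of_card_ge
    · rw [Subgroup.zpowers_le]; exact hwC
    · rw [Nat.card_zpowers, d.orderOf_w, hcardC]
  have hwQ : d.w ∈ Q := (Subgroup.mem_inf.1 hwC).2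
  refine ⟨hwQ, ?_, ?_⟩
  · intro q hq hqX
    rw [hzw]; exact Subgroup.mem_inf.2 ⟨hqX, hq⟩
  · obtain ⟨g₀, hg₀Q, hg₀X⟩ := SetLike.not_le_iff_exists.1 hnle
    refine ⟨g₀, hg₀Q, hg₀X, ?_⟩
    intro hsq
    have hzQ : d.z ∈ Q := by rw [← d.w_sq]; exact Q.pow_mem hwQ 2
    have h1 : (⟨d.z, hzQ⟩ : Q) = ι := by
      rcases hinv ⟨d.z, hzQ⟩ (Subtype.ext (by simpa using d.z_sq)) with h2 | h2
      · exact absurd (congrArg Subtype.val h2) d.z_ne_one
      · exact h2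
    rcases hinv ⟨g₀, hg₀Q⟩ (Subtype.ext (by simpa using hsq)) with h2 | h2
    · apply hg₀X
      have := congrArg Subtype.val h2
      simp at this
      rw [this]; exact Subgroup.one_mem _
    · apply hg₀X
      have := congrArg Subtype.val (h2.trans h1.symm)
      simp at this
      rw [this]; exact d.z_mem

theorem mul_inv_mem_zw (Q : Subgroup S)
    (hX : ∀ q ∈ Q, q ∈ Subgroup.zpowers d.x → q ∈ Subgroup.zpowers d.w)
    (g : S) (hgQ : g ∈ Q) (hgX : g ∉ Subgroup.zpowers d.x) (q : S) (hq : q ∈ Q)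
    (hqX : q ∉ Subgroup.zpowers d.x) : q * g⁻¹ ∈ Subgroup.zpowers d.w := by
  apply hX _ (Q.mul_mem hq (Q.inv_mem hgQ))
  rw [Subgroup.mul_mem_iff_of_index_two d.index_x]
  constructor
  · intro h; exact absurd h hqX
  · intro h; exact absurd (by simpa using Subgroup.inv_mem _ h) hgX

theorem map_conj_le (Q₁ Q₂ : Subgroup S)
    (hX : ∀ q ∈ Q₁, q ∈ Subgroup.zpowers d.x → q ∈ Subgroup.zpowers d.w)
    (g : S) (hgQ : g ∈ Q₁) (hgX : g ∉ Subgroup.zpowers d.x) (hw₂ : d.w ∈ Q₂) (s : S)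
    (hs : s * g * s⁻¹ ∈ Q₂) : Q₁.map (MulAut.conj s).toMonoidHom ≤ Q₂ := by
  haveI := zw_normal d
  have hW : Subgroup.zpowers d.w ≤ Q₂ := by rw [Subgroup.zpowers_le]; exact hw₂
  rintro _ ⟨q, hq, rfl⟩
  show s * q * s⁻¹ ∈ Q₂
  by_cases hqX : q ∈ Subgroup.zpowers d.x
  · exact hW (Subgroup.Normal.conj_mem inferInstance _ (hX q hq hqX) s)
  · have h1 := mul_inv_mem_zw d Q₁ hX g hgQ hgX q hq hqX
    have h2 : s * q * s⁻¹ = (s * (q * g⁻¹) * s⁻¹) * (s * g * s⁻¹) := by group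
    rw [h2]
    exact Q₂.mul_mem (hW (Subgroup.Normal.conj_mem inferInstance _ h1 s)) hs

theorem q8_conj [Finite S] (d : QDat S) (Q₁ Q₂ : Subgroup S) (h₁ : Nonempty (Q₁ ≃* QuaternionGroup 2))
    (h₂ : Nonempty (Q₂ ≃* QuaternionGroup 2)) :
    ∃ s : S, Q₁.map (MulAut.conj s).toMonoidHom = Q₂ := by
  obtain ⟨hw₁, hX₁, g₁, hg₁Q, hg₁X, hg₁⟩ := q8_data d Q₁ h₁
  obtain ⟨hw₂, hX₂, g₂, hg₂Q, hg₂X, hg₂⟩ := q8_data d Q₂ h₂
  have c1 := d.isConj_yx_of_sq_ne_one g₁ hg₁ hg₁X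
  have c2 := d.isConj_yx_of_sq_ne_one g₂ hg₂ hg₂X
  obtain ⟨s, hs⟩ := isConj_iff.1 (c1.symm.trans c2)
  refine ⟨s, le_antisymm ?_ ?_⟩
  · exact map_conj_le d Q₁ Q₂ hX₁ g₁ hg₁Q hg₁X hw₂ s (hs ▸ hg₂Q)
  · have h3 : s⁻¹ * g₂ * s⁻¹⁻¹ ∈ Q₁ := by
      have : s⁻¹ * g₂ * s⁻¹⁻¹ = g₁ := by rw [← hs]; group
      rw [this]; exact hg₁Q
    have h4 := map_conj_le d Q₂ Q₁ hX₂ g₂ hg₂Q hg₂X hw₁ s⁻¹ h3
    intro q hq
    refine ⟨s⁻¹ * q * s, ?_, ?_⟩
    · have h5 : (MulAut.conj s⁻¹).toMonoidHom q ∈ Q₁ := h4 ⟨q, hq, rfl⟩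
      have h6 : (MulAut.conj s⁻¹).toMonoidHom q = s⁻¹ * q * s := by
        show s⁻¹ * q * s⁻¹⁻¹ = _
        rw [inv_inv]
      rw [h6] at h5
      exact h5
    · show s * (s⁻¹ * q * s) * s⁻¹ = q
      group

theorem conj_w_of_not_mem (c : S) (hc : c ∉ Subgroup.zpowers d.x) :
    c * d.w * c⁻¹ = d.w⁻¹ := by
  obtain ⟨k, rfl⟩ := exists_eq_mul_zpow_of_index_two d.x d.y d.index_x d.y_not_mem c hc
  have hcm : Commute (d.x ^ k) d.w := ((Commute.refl d.x).zpow_left k).pow_right _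
  have h1 : d.x ^ k * d.w * (d.x ^ k)⁻¹ = d.w := by
    rw [hcm.eq, mul_inv_cancel_right]
  calc d.y * d.x ^ k * d.w * (d.y * d.x ^ k)⁻¹
      = d.y * (d.x ^ k * d.w * (d.x ^ k)⁻¹) * d.y⁻¹ := by group
    _ = d.w⁻¹ := by rw [h1, d.conj_w]

theorem mem_center_of_comm' (g : S) (hg : g ∉ Subgroup.zpowers d.x) (v : S)
    (hv : v ∈ Subgroup.zpowers d.x) (hvg : v * g = g * v) : v ∈ Subgroup.center S := by
  rw [Subgroup.mem_center_iff]
  intro s
  obtain ⟨k, rfl⟩ := Subgroup.mem_zpowers_iff.1 hv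
  by_cases hs : s ∈ Subgroup.zpowers d.x
  · obtain ⟨j, rfl⟩ := Subgroup.mem_zpowers_iff.1 hs
    rw [← zpow_add, ← zpow_add, add_comm]
  · obtain ⟨j, rfl⟩ := exists_eq_mul_zpow_of_index_two d.x g d.index_x hg s hs
    have h1 : d.x ^ j * d.x ^ k = d.x ^ k * d.x ^ j := by
      rw [← zpow_add, ← zpow_add, add_comm]
    rw [mul_assoc, h1, ← mul_assoc, ← hvg, mul_assoc]

theorem q8_centralizer [Finite S] (d : QDat S) (Q : Subgroup S) (hQ : Nonempty (Q ≃* QuaternionGroup 2)) :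
    Subgroup.centralizer (Q : Set S) = (Subgroup.center Q).map Q.subtype := by
  obtain ⟨hw, hX, g, hgQ, hgX, hg⟩ := q8_data d Q hQ
  have hzQ : d.z ∈ Q := by rw [← d.w_sq]; exact Q.pow_mem hw 2
  apply le_antisymm
  · intro c hc
    rw [Subgroup.mem_centralizer_iff] at hc
    have hcX : c ∈ Subgroup.zpowers d.x := by
      by_contra hcX
      have h1 := conj_w_of_not_mem d c hcX
      have h2 : c * d.w * c⁻¹ = d.w := by
        rw [← hc d.w hw]; group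
      rw [h2] at h1
      have h3 : d.w ^ 2 = 1 := by
        rw [pow_two]; nth_rewrite 1 [h1]; exact inv_mul_cancel _
      rw [d.w_sq] at h3
      exact d.z_ne_one h3
    have h4 := mem_center_of_comm' d g hgX c hcX (hc g hgQ).symm
    rcases d.eq_one_or_z_of_mem_center c h4 with rfl | rfl
    · exact Subgroup.one_mem _
    · refine ⟨⟨d.z, hzQ⟩, ?_, rfl⟩
      show (⟨d.z, hzQ⟩ : Q) ∈ Subgroup.center Q
      rw [Subgroup.mem_center_iff]
      intro q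
      apply Subtype.ext
      exact d.z_comm q
  · rintro _ ⟨q, hq, rfl⟩
    rw [Subgroup.mem_centralizer_iff]
    intro r hr
    have := Subgroup.mem_center_iff.1 hq ⟨r, hr⟩
    exact congrArg Subtype.val this

/-- an element of order eight -/
def v : S := d.x ^ (2 ^ (d.n - 3))

theorem v_sq : v d ^ 2 = d.w := by
  rw [v, QDat.w, ← pow_mul, ← pow_succ]; congr 2; have := d.hn; omega

theorem v_mem : v d ∈ Subgroup.zpowers d.x := Subgroup.pow_mem _ (Subgroup.mem_zpowers _) _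

theorem v_pow_four : v d ^ 4 = d.z := by
  rw [show 4 = 2 * 2 from rfl, pow_mul, v_sq, d.w_sq]

theorem exists_zpow_of_pow_eight (b : S) (hb : b ∈ Subgroup.zpowers d.x) (h8 : b ^ 8 = 1) :
    ∃ m : ℤ, b = v d ^ m := by
  obtain ⟨k, rfl⟩ := Subgroup.mem_zpowers_iff.1 hb
  have h1 : d.x ^ (k * 8) = 1 := by rw [zpow_mul, zpow_ofNat]; exact h8
  have h2 := (d.zpow_eq_one_iff _).1 h1
  have h3 : (2 ^ d.n : ℤ) = 2 ^ (d.n - 3) * 8 := by
    have : (8 : ℤ) = 2 ^ 3 := by norm_num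
    rw [this, ← pow_add]; congr 1; have := d.hn; omega
  rw [h3] at h2
  obtain ⟨j, rfl⟩ : (2 ^ (d.n - 3) : ℤ) ∣ k := Int.dvd_of_mul_dvd_mul_right (by norm_num) h2
  refine ⟨j, ?_⟩
  rw [zpow_mul, v]; congr 1
  rw [← zpow_natCast]; congr 1

theorem q8_normalizer [Finite S] (d : QDat S) (Q : Subgroup S) (hQ : Nonempty (Q ≃* QuaternionGroup 2)) :
    Q.relIndex (Subgroup.normalizer (Q : Set S)) = 2 := by
  obtain ⟨hw, hX, g, hgQ, hgX, hg⟩ := q8_data d Q hQ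
  have hW : Subgroup.zpowers d.w ≤ Q := by rw [Subgroup.zpowers_le]; exact hw
  haveI := zw_normal d
  have hvN : v d ∈ Subgroup.normalizer (Q : Set S) := by
    apply mem_normalizer_of_conj_mem
    intro q hq
    by_cases hqX : q ∈ Subgroup.zpowers d.x
    · obtain ⟨i, hi⟩ := Subgroup.mem_zpowers_iff.1 hqX
      have hcm : Commute (v d) q := by
        rw [← hi]; exact ((Commute.refl d.x).pow_left _).zpow_right _
      rw [hcm.eq, mul_inv_cancel_right]; exact hq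
    · have h1 := mul_inv_mem_zw d Q hX g hgQ hgX q hq hqX
      have h2 : v d * q * (v d)⁻¹ = (v d * (q * g⁻¹) * (v d)⁻¹) * (v d * g * (v d)⁻¹) := by
        group
      rw [h2, conj_by_mem d g hgX (v d) (v_mem d), v_sq]
      exact Q.mul_mem (hW (Subgroup.Normal.conj_mem inferInstance _ h1 _))
        (Q.mul_mem (Q.inv_mem (Q.pow_mem hw _)) hgQ)
  have hvQ : v d ∉ Q := by
    intro h
    have h1 := hX _ h (v_mem d)
    obtain ⟨k, hk⟩ := Subgroup.mem_zpowers_iff.1 h1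
    have : (v d) ^ 4 = 1 := by
      rw [← hk, ← zpow_natCast, ← zpow_mul, mul_comm, zpow_mul, zpow_natCast, d.w_pow_four,
        one_zpow]
    rw [v_pow_four] at this
    exact d.z_ne_one this
  rw [Subgroup.relIndex_eq_two_iff_exists_notMem_and]
  refine ⟨v d, hvN, hvQ, ?_⟩
  have key : ∀ b ∈ Subgroup.normalizer (Q : Set S), b ∈ Subgroup.zpowers d.x →
      b * v d ∈ Q ∨ b ∈ Q := by
    intro b hbN hbX
    have h1 : b * g * b⁻¹ ∈ Q := (Subgroup.mem_normalizer_iff.1 hbN g).1 hgQ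
    rw [conj_by_mem d g hgX b hbX] at h1
    have h2 : ((b ^ 2) ^ (2 ^ (d.n - 2) - 1))⁻¹ ∈ Q := by
      have := Q.mul_mem h1 (Q.inv_mem hgQ); simpa using this
    have h3 : (b ^ 2) ^ (2 ^ (d.n - 2) - 1) ∈ Subgroup.zpowers d.w := by
      apply hX
      · simpa using Q.inv_mem h2
      · exact Subgroup.pow_mem _ (Subgroup.pow_mem _ hbX _) _
    have h4 : b ^ 2 ∈ Subgroup.zpowers d.w := by
      apply mem_of_odd_zpow_mem (b ^ 2) d.n ?_ _ ((2 ^ (d.n - 2) - 1 : ℕ) : ℤ) ?_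
        (by rw [zpow_natCast]; exact h3)
      · obtain ⟨k, rfl⟩ := Subgroup.mem_zpowers_iff.1 hbX
        have hxk : (d.x ^ k) ^ (2 ^ d.n) = 1 := by
          rw [← zpow_natCast, ← zpow_mul, mul_comm, zpow_mul, zpow_natCast, d.x_pow, one_zpow]
        rw [← pow_mul, mul_comm, pow_mul, hxk, one_pow]
      · have h5 : 2 ^ (d.n - 2) = 2 * 2 ^ (d.n - 3) := by
          rw [← pow_succ']; congr 1; have := d.hn; omega
        have h6 : 1 ≤ 2 ^ (d.n - 3) := Nat.one_le_two_pow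
        refine ⟨(2 ^ (d.n - 3) - 1 : ℕ), ?_⟩
        omega
    obtain ⟨k, hk⟩ := Subgroup.mem_zpowers_iff.1 h4
    have h8 : b ^ 8 = 1 := by
      rw [show 8 = 2 * 4 from rfl, pow_mul, ← hk, ← zpow_natCast, ← zpow_mul, mul_comm, zpow_mul,
        zpow_natCast, d.w_pow_four, one_zpow]
    obtain ⟨m, rfl⟩ := exists_zpow_of_pow_eight d b hbX h8
    rcases Int.even_or_odd m with ⟨i, rfl⟩ | ⟨i, rfl⟩
    · right
      apply hW
      rw [← two_mul, zpow_mul, zpow_ofNat, v_sq]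
      exact Subgroup.zpow_mem _ (Subgroup.mem_zpowers _) _
    · left
      apply hW
      have : v d ^ (2 * i + 1) * v d = (v d ^ 2) ^ (i + 1) := by
        rw [← zpow_add_one, ← zpow_ofNat, ← zpow_mul]; congr 1; ring
      rw [this, v_sq]
      exact Subgroup.zpow_mem _ (Subgroup.mem_zpowers _) _
  intro b hbN
  by_cases hbX : b ∈ Subgroup.zpowers d.x
  · exact key b hbN hbX
  · have hgN : g ∈ Subgroup.normalizer (Q : Set S) := Subgroup.le_normalizer hgQ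
    have h1 : b * g⁻¹ ∈ Subgroup.zpowers d.x := by
      rw [Subgroup.mul_mem_iff_of_index_two d.index_x]
      constructor
      · intro h; exact absurd h hbX
      · intro h; exact absurd (by simpa using Subgroup.inv_mem _ h) hgX
    rcases key (b * g⁻¹) (Subgroup.mul_mem _ hbN (Subgroup.inv_mem _ hgN)) h1 with h2 | h2
    · left
      have h3 : (v d)⁻¹ * g * (v d)⁻¹⁻¹ ∈ Q :=
        (Subgroup.mem_normalizer_iff.1 (Subgroup.inv_mem _ hvN) g).1 hgQ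
      have h4 : b * v d = (b * g⁻¹ * v d) * ((v d)⁻¹ * g * (v d)⁻¹⁻¹) := by group
      rw [h4]; exact Q.mul_mem h2 h3
    · right
      have := Q.mul_mem h2 hgQ
      simpa using this

theorem main1191 {S : Type*} [Group S] [Finite S] (hS : Cfsg.IsQuasiDihedral S) : (∀ Q₁ Q₂ : Subgroup S, Nonempty (Q₁ ≃* QuaternionGroup 2) → Nonempty (Q₂ ≃* QuaternionGroup 2) → ∃ s : S, Q₁.map (MulAut.conj s).toMonoidHom = Q₂) ∧ (∀ Q : Subgroup S, Nonempty (Q ≃* QuaternionGroup 2) → Subgroup.centralizer (Q : Set S) = (Subgroup.center Q).map Q.subtype ∧ Q.relIndex (Subgroup.normalizer (Q : Set S)) = 2) := by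
  obtain ⟨d⟩ := Cfsg.Agent.S1192.qdat_of_isQuasiDihedral hS
  exact ⟨fun Q₁ Q₂ h₁ h₂ => q8_conj d Q₁ Q₂ h₁ h₂,
    fun Q hQ => ⟨q8_centralizer d Q hQ, q8_normalizer d Q hQ⟩⟩


/-- In a quasi-dihedral 2-group S, any two subgroups isomorphic to the quaternion group of order 8 are conjugate, and each such subgroup Q satisfies C_S(Q) = Z(Q) and |N_S(Q) : Q| = 2. -/
theorem result {S : Type*} [Group S] [Finite S] (hS : Cfsg.IsQuasiDihedral S) : (∀ Q₁ Q₂ : Subgroup S, Nonempty (Q₁ ≃* QuaternionGroup 2) → Nonempty (Q₂ ≃* QuaternionGroup 2) → ∃ s : S, Q₁.map (MulAut.conj s).toMonoidHom = Q₂) ∧ (∀ Q : Subgroup S, Nonempty (Q ≃* QuaternionGroup 2) → Subgroup.centralizer (Q : Set S) = (Subgroup.center Q).map Q.subtype ∧ Q.relIndex (Subgroup.normalizer (Q : Set S)) = 2) := by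
  exact main1191 hS

end Cfsg.Agent.S1191
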