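import Cfsg.Statements.S1193
import Mathlib
import Cfsg.Agent.Lib.Helper6.QD2

set_option autoImplicit false
open Cfsg Cfsg.Agent.Lib.Helper6

namespace Cfsg.Agent.S1193

theorem qdat_of_qd {S : Type*} [Group S] (hS : Cfsg.IsQuasiDihedral S) :
    Nonempty (QDat S) := by
  obtain ⟨n, hn, hcard, x, y, hx, hy, hxy⟩ := hS
  exact ⟨⟨n, hn, hcard, x, y, hx, hy, hxy⟩⟩

theorem main1193 {S : Type*} [Group S] [Finite S] (hS : Cfsg.IsQuasiDihedral S) (n : ℕ) (hn : Nat.card S = 2 ^ (n + 1)) : commutator S = frattini S ∧ IsCyclic (commutator S) ∧ Nat.card (commutator S) = 2 ^ (n - 1) ∧ Nat.card (Subgroup.center S) = 2 ∧ Nonempty (↥(Subgroup.closure {x : S | orderOf x = 2}) ≃* DihedralGroup (2 ^ (n - 1))) := by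
  obtain ⟨d⟩ := qdat_of_qd hS
  have hnn : d.n = n := by
    have h1 := d.card
    rw [hn] at h1
    have := Nat.pow_right_injective (le_refl 2) h1
    omega
  subst hnn
  refine ⟨?_, ?_, ?_, d.card_center, ?_⟩
  · rw [d.commutator_eq, d.frattini_eq]
  · rw [d.commutator_eq]
    show IsCyclic (Subgroup.zpowers (d.x ^ 2))
    infer_instance
  · rw [d.commutator_eq, QDat.D, Nat.card_zpowers, d.orderOf_x_sq]
  · rw [d.closure_involutions]
    exact d.M3_dihedral


/-- Let S be quasi-dihedral of order 2^(n+1). Then S' = Φ(S) is cyclic of order 2^(n-1), the centre of S has order 2, and the subgroup generated by the involutions of S is dihedral of order 2^n. -/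
theorem result {S : Type*} [Group S] [Finite S] (hS : Cfsg.IsQuasiDihedral S) (n : ℕ) (hn : Nat.card S = 2 ^ (n + 1)) : commutator S = frattini S ∧ IsCyclic (commutator S) ∧ Nat.card (commutator S) = 2 ^ (n - 1) ∧ Nat.card (Subgroup.center S) = 2 ∧ Nonempty (↥(Subgroup.closure {x : S | orderOf x = 2}) ≃* DihedralGroup (2 ^ (n - 1))) := by
  exact main1193 hS n hn

end Cfsg.Agent.S1193
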