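import Cfsg.Statements.S1194
import Mathlib
import Cfsg.Agent.Lib.Helper6.QD3

set_option autoImplicit false
open Cfsg Cfsg.Agent.Lib.Helper6

namespace Cfsg.Agent.S1194

theorem qdat_of_qd {S : Type*} [Group S] (hS : Cfsg.IsQuasiDihedral S) :
    Nonempty (QDat S) := by
  obtain ⟨n, hn, hcard, x, y, hx, hy, hxy⟩ := hS
  exact ⟨⟨n, hn, hcard, x, y, hx, hy, hxy⟩⟩

theorem main1194 {S : Type*} [Group S] [Finite S] (hS : Cfsg.IsQuasiDihedral S) (N : Subgroup S) [N.Normal] (hN : N ≠ ⊤) : IsCoatom N ∨ (IsCyclic N ∧ N ≤ commutator S) := by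
  obtain ⟨d⟩ := qdat_of_qd hS
  rcases d.normal_dichotomy N hN with h | h
  · exact Or.inl (isCoatom_of_index_two N h)
  · right
    refine ⟨?_, ?_⟩
    · haveI : IsCyclic d.D := by
        show IsCyclic (Subgroup.zpowers (d.x ^ 2))
        infer_instance
      exact Subgroup.isCyclic_of_le h
    · rw [d.commutator_eq]; exact h


/-- In a quasi-dihedral 2-group S, every proper normal subgroup is either a maximal subgroup or a cyclic subgroup contained in the derived subgroup S'. -/
theorem result {S : Type*} [Group S] [Finite S] (hS : Cfsg.IsQuasiDihedral S) (N : Subgroup S) [N.Normal] (hN : N ≠ ⊤) : IsCoatom N ∨ (IsCyclic N ∧ N ≤ commutator S) := by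
  exact main1194 hS N hN

end Cfsg.Agent.S1194
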