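import Cfsg.Statements.S1195
import Mathlib
import Cfsg.Agent.Lib.Helper6.W3

set_option autoImplicit false
open Cfsg Cfsg.Agent.Lib.Helper6

namespace Cfsg.Agent.S1195

theorem wdat_of_isWreathed {S : Type*} [Group S] (hS : Cfsg.IsWreathed S) :
    Nonempty (WDat S) := by
  obtain ⟨n, hn, hcard, x, y, z, hx, hxy, hdisj, hz, hzx⟩ := hS
  exact ⟨⟨n, hn, hcard, x, y, z, hx, hxy, hdisj, hz, hzx⟩⟩

theorem card_classes_eq_three {S : Type*} [Group S] (P : S → Prop) (a b c : S) (ha : P a)
    (hb : P b) (hc : P c)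
    (hab : ¬ IsConj a b) (hac : ¬ IsConj a c) (hbc : ¬ IsConj b c)
    (h : ∀ t, P t → IsConj a t ∨ IsConj b t ∨ IsConj c t) :
    Nat.card {C : ConjClasses S // ∃ t : S, P t ∧ ConjClasses.mk t = C} = 3 := by
  have e : Nat.card {C : ConjClasses S // ∃ t : S, P t ∧ ConjClasses.mk t = C}
      = Set.ncard {C : ConjClasses S | ∃ t : S, P t ∧ ConjClasses.mk t = C} := rfl
  rw [e, Set.ncard_eq_three]
  refine ⟨ConjClasses.mk a, ConjClasses.mk b, ConjClasses.mk c, ?_, ?_, ?_, ?_⟩
  · intro heq; exact hab (ConjClasses.mk_eq_mk_iff_isConj.1 heq)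
  · intro heq; exact hac (ConjClasses.mk_eq_mk_iff_isConj.1 heq)
  · intro heq; exact hbc (ConjClasses.mk_eq_mk_iff_isConj.1 heq)
  · ext C
    simp only [Set.mem_ofPred_eq, Set.mem_insert_iff, Set.mem_singleton_iff]
    constructor
    · rintro ⟨t, ht, rfl⟩
      rcases h t ht with h1 | h1 | h1
      · left; exact (ConjClasses.mk_eq_mk_iff_isConj.2 h1).symm
      · right; left; exact (ConjClasses.mk_eq_mk_iff_isConj.2 h1).symm
      · right; right; exact (ConjClasses.mk_eq_mk_iff_isConj.2 h1).symm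
    · rintro (rfl | rfl | rfl)
      · exact ⟨a, ha, rfl⟩
      · exact ⟨b, hb, rfl⟩
      · exact ⟨c, hc, rfl⟩

theorem main1195 {S : Type*} [Group S] [Finite S] (hS : Cfsg.IsWreathed S) : Nat.card {C : ConjClasses S // ∃ t : S, orderOf t = 2 ∧ ConjClasses.mk t = C} = 3 := by
  obtain ⟨d⟩ := wdat_of_isWreathed hS
  haveI := d.U_normal
  apply card_classes_eq_three (fun t => orderOf t = 2) d.zeta d.wx d.z d.orderOf_zeta d.orderOf_wx
    d.hz
  · intro hc
    obtain ⟨a, ha⟩ := isConj_iff.1 hc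
    apply d.zeta_ne_wx
    rw [← ha, (Subgroup.mem_center_iff.1 d.zeta_mem_center a), mul_inv_cancel_right]
  · intro hc
    obtain ⟨a, ha⟩ := isConj_iff.1 hc
    apply d.z_not_mem_U
    rw [← ha]
    exact Subgroup.Normal.conj_mem inferInstance _ d.zeta_mem_U _
  · intro hc
    obtain ⟨a, ha⟩ := isConj_iff.1 hc
    apply d.z_not_mem_U
    rw [← ha]
    exact Subgroup.Normal.conj_mem inferInstance _ d.wx_mem_U _
  · intro t ht
    have ht2 : t ^ 2 = 1 := by rw [← ht]; exact pow_orderOf_eq_one _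
    have ht1 : t ≠ 1 := by
      intro h; rw [h, orderOf_one] at ht; omega
    by_cases htU : t ∈ d.U
    · rcases d.involution_of_mem_U t htU ht2 with h | h | h | h
      · exact absurd h ht1
      · right; left; rw [h]
      · right; left; rw [h]; exact isConj_iff.2 ⟨d.z, d.conj_z_wx⟩
      · left; rw [h]
    · right; right
      exact d.isConj_z_of_involution t htU ht2


/-- A wreathed 2-group has exactly three conjugacy classes of elements of order 2. -/
theorem result {S : Type*} [Group S] [Finite S] (hS : Cfsg.IsWreathed S) : Nat.card {C : ConjClasses S // ∃ t : S, orderOf t = 2 ∧ ConjClasses.mk t = C} = 3 := by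
  exact main1195 hS

end Cfsg.Agent.S1195
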