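import Cfsg.Statements.S1197
import Mathlib
import Cfsg.Agent.Lib.Helper6.W2

set_option autoImplicit false
open Cfsg Cfsg.Agent.Lib.Helper6

namespace Cfsg.Agent.S1197

theorem wdat_of_isWreathed {S : Type*} [Group S] (hS : Cfsg.IsWreathed S) :
    Nonempty (WDat S) := by
  obtain ⟨n, hn, hcard, x, y, z, hx, hxy, hdisj, hz, hzx⟩ := hS
  exact ⟨⟨n, hn, hcard, x, y, z, hx, hxy, hdisj, hz, hzx⟩⟩

theorem main1197 {S : Type*} [Group S] [Finite S] (hS : Cfsg.IsWreathed S) (n : ℕ) (hn : Nat.card S = 2 ^ (2 * n + 1)) : IsCyclic (Subgroup.center S) ∧ Nat.card (Subgroup.center S) = 2 ^ n ∧ IsCyclic (commutator S) ∧ Nat.card (commutator S) = 2 ^ n ∧ Nonempty (S ⧸ Subgroup.center S ≃* DihedralGroup (2 ^ n)) := by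
  obtain ⟨d⟩ := wdat_of_isWreathed hS
  have hnn : d.n = n := by
    have h1 := d.card
    rw [hn] at h1
    have := Nat.pow_right_injective (le_refl 2) h1
    omega
  subst hnn
  exact ⟨d.isCyclic_center, d.card_center, d.isCyclic_commutator, d.card_commutator,
    d.quotient_center_dihedral⟩


/-- Let S be a wreathed 2-group of order 2^(2n+1). Then Z(S) is cyclic of order 2^n, the derived subgroup S' is cyclic of order 2^n, and S/Z(S) is isomorphic to the dihedral group of order 2^(n+1). -/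
theorem result {S : Type*} [Group S] [Finite S] (hS : Cfsg.IsWreathed S) (n : ℕ) (hn : Nat.card S = 2 ^ (2 * n + 1)) : IsCyclic (Subgroup.center S) ∧ Nat.card (Subgroup.center S) = 2 ^ n ∧ IsCyclic (commutator S) ∧ Nat.card (commutator S) = 2 ^ n ∧ Nonempty (S ⧸ Subgroup.center S ≃* DihedralGroup (2 ^ n)) := by
  exact main1197 hS n hn

end Cfsg.Agent.S1197
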