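import Cfsg.Statements.S1198
import Mathlib
import Cfsg.Agent.Lib.Helper6.W3
import Cfsg.Agent.Lib.Helper6.Four

set_option autoImplicit false
open Cfsg Cfsg.Agent.Lib.Helper6

namespace Cfsg.Agent.S1198

theorem wdat_of_isWreathed {S : Type*} [Group S] (hS : Cfsg.IsWreathed S) :
    Nonempty (WDat S) := by
  obtain ⟨n, hn, hcard, x, y, z, hx, hxy, hdisj, hz, hzx⟩ := hS
  exact ⟨⟨n, hn, hcard, x, y, z, hx, hxy, hdisj, hz, hzx⟩⟩

section
variable {S : Type*} [Group S] (d : WDat S)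

theorem orderOf_wy : orderOf d.wy = 2 := orderOf_eq_prime d.wy_sq d.wy_ne_one

theorem zeta_comm (g : S) : g * d.zeta = d.zeta * g :=
  Subgroup.mem_center_iff.1 d.zeta_mem_center g

theorem conj_z_wy : d.z * d.wy * d.z⁻¹ = d.wx := by
  rw [WDat.wx, WDat.wy, ← conj_pow, d.hzy]

theorem mem_T_iff (g : S) : g ∈ fourGroup d.wx d.wy ↔ g ∈ d.U ∧ g ^ 2 = 1 := by
  have hmem := mem_fourGroup' d.wx d.wy d.orderOf_wx (orderOf_wy d) d.comm_wx_wy.eq
  constructor
  · intro hg
    refine ⟨?_, fourGroup_sq d.wx d.wy d.orderOf_wx (orderOf_wy d) d.comm_wx_wy.eq g hg⟩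
    rcases (hmem g).1 hg with rfl | rfl | rfl | rfl
    · exact Subgroup.one_mem _
    · exact d.wx_mem_U
    · exact d.wy_mem_U
    · exact d.zeta_mem_U
  · rintro ⟨hgU, hg2⟩
    rw [hmem]
    exact d.involution_of_mem_U g hgU hg2

/-- the normal four-group -/
theorem T_normal : (fourGroup d.wx d.wy).Normal := by
  haveI := d.U_normal
  refine ⟨fun g hg s => ?_⟩
  rw [mem_T_iff] at hg ⊢
  refine ⟨Subgroup.Normal.conj_mem inferInstance g hg.1 s, ?_⟩
  rw [conj_pow, hg.2]; group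

theorem zeta_ne_z : d.zeta ≠ d.z := by
  intro h
  apply d.z_not_mem_U
  rw [← h]; exact d.zeta_mem_U

/-- Klein four-subgroups other than the normal one -/
theorem exists_involution (T₁ : Subgroup S) (h₁ : IsKleinFour T₁)
    (hne : T₁ ≠ fourGroup d.wx d.wy) :
    ∃ t : S, t ∉ d.U ∧ orderOf t = 2 ∧ T₁ = fourGroup d.zeta t := by
  classical
  haveI := d.finite
  have hsq : ∀ u ∈ T₁, u ^ 2 = 1 := by
    intro u hu
    have := Monoid.pow_exponent_eq_one (⟨u, hu⟩ : T₁)
    rw [h₁.exponent_two] at this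
    exact congrArg Subtype.val this
  have hcomm : ∀ u ∈ T₁, ∀ v ∈ T₁, u * v = v * u := by
    intro u hu v hv
    have := mul_comm_of_exponent_two h₁.exponent_two (⟨u, hu⟩ : T₁) ⟨v, hv⟩
    exact congrArg Subtype.val this
  have hTcard : Nat.card (fourGroup d.wx d.wy) = 4 :=
    fourGroup_card d.wx d.wy d.orderOf_wx (orderOf_wy d) d.comm_wx_wy.eq d.wx_ne_wy
  obtain ⟨t, htT, htU⟩ : ∃ t ∈ T₁, t ∉ d.U := by
    by_contra hcon
    push Not at hcon
    apply hne
    apply Subgroup.eq_of_le_of_card_ge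
    · intro g hg
      rw [mem_T_iff]
      exact ⟨hcon g hg, hsq g hg⟩
    · rw [hTcard, h₁.card_four]
  have ht1 : t ≠ 1 := by
    intro h; apply htU; rw [h]; exact Subgroup.one_mem _
  have ht2 : t ^ 2 = 1 := hsq t htT
  have hto : orderOf t = 2 := orderOf_eq_prime ht2 ht1
  have htinv : t⁻¹ = t := by
    rw [pow_two] at ht2; exact inv_eq_of_mul_eq_one_right ht2
  -- another element
  obtain ⟨v, hvT, hv1, hvt⟩ : ∃ v ∈ T₁, v ≠ 1 ∧ v ≠ t := by
    by_contra hcon
    push Not at hcon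
    have hsub : (T₁ : Set S) ⊆ (({1, t} : Finset S) : Set S) := by
      intro u hu
      by_cases h1 : u = 1
      · simp [h1]
      · have := hcon u hu h1
        simp [this]
    have h1 := Set.ncard_le_ncard hsub (Set.toFinite _)
    rw [Set.ncard_coe_finset] at h1
    have h2 : ({1, t} : Finset S).card ≤ 2 := Finset.card_le_two
    have h3 : Nat.card T₁ = (T₁ : Set S).ncard := rfl
    have h4 := h₁.card_four
    omega
  -- an involution of T₁ inside U
  obtain ⟨w, hwT, hwU, hw1⟩ : ∃ w ∈ T₁, w ∈ d.U ∧ w ≠ 1 := by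
    by_cases hvU : v ∈ d.U
    · exact ⟨v, hvT, hvU, hv1⟩
    · refine ⟨t * v, T₁.mul_mem htT hvT, ?_, ?_⟩
      · rw [Subgroup.mul_mem_iff_of_index_two d.U_index]
        exact ⟨fun h => absurd h htU, fun h => absurd h hvU⟩
      · intro h
        apply hvt
        rw [← htinv]
        exact (inv_eq_of_mul_eq_one_right h).symm
  have hw2 : w ^ 2 = 1 := hsq w hwT
  -- w is fixed by z
  have hwz : d.z * w * d.z⁻¹ = w := by
    obtain ⟨u, hu, rfl⟩ := d.exists_eq_z_mul t htU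
    have h1 : (d.z * u) * w = w * (d.z * u) := hcomm _ htT w hwT
    have h2 : u * w = w * u := d.U_comm u w hu hwU
    have h3 : d.z * w * u = w * d.z * u := by
      calc d.z * w * u = d.z * (w * u) := by group
        _ = d.z * (u * w) := by rw [h2]
        _ = (d.z * u) * w := by group
        _ = w * (d.z * u) := h1
        _ = w * d.z * u := by group
    have h4 : d.z * w = w * d.z := mul_right_cancel h3
    rw [h4, mul_inv_cancel_right]
  have hwz' : w = d.zeta := by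
    rcases d.involution_of_mem_U w hwU hw2 with h | h | h | h
    · exact absurd h hw1
    · exfalso; rw [h, d.conj_z_wx] at hwz; exact d.wx_ne_wy hwz.symm
    · exfalso; rw [h, conj_z_wy] at hwz; exact d.wx_ne_wy hwz
    · exact h
  refine ⟨t, htU, hto, ?_⟩
  apply eq_fourGroup_of_mem d.zeta t T₁ h₁.card_four (hwz' ▸ hwT) htT d.orderOf_zeta hto
    (zeta_comm d t).symm
  intro h
  apply htU
  rw [← h]; exact d.zeta_mem_U

end

theorem main1198 {S : Type*} [Group S] [Finite S] (hS : Cfsg.IsWreathed S) : ∃ T : Subgroup S, IsKleinFour T ∧ T.Normal ∧ (∃ T₀ : Subgroup S, IsKleinFour T₀ ∧ T₀ ≠ T) ∧ ∀ T₁ T₂ : Subgroup S, IsKleinFour T₁ → IsKleinFour T₂ → T₁ ≠ T → T₂ ≠ T → ∃ s : S, T₁.map (MulAut.conj s).toMonoidHom = T₂ := by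
  obtain ⟨d⟩ := wdat_of_isWreathed hS
  refine ⟨fourGroup d.wx d.wy, ?_, T_normal d, ?_, ?_⟩
  · exact fourGroup_isKleinFour d.wx d.wy d.orderOf_wx (orderOf_wy d) d.comm_wx_wy.eq d.wx_ne_wy
  · refine ⟨fourGroup d.zeta d.z, ?_, ?_⟩
    · exact fourGroup_isKleinFour d.zeta d.z d.orderOf_zeta d.hz (zeta_comm d d.z).symm
        (zeta_ne_z d)
    · intro h
      have : d.z ∈ fourGroup d.wx d.wy := by rw [← h]; exact right_mem_fourGroup _ _
      rw [mem_T_iff] at this
      exact d.z_not_mem_U this.1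
  · intro T₁ T₂ h₁ h₂ hne₁ hne₂
    obtain ⟨t₁, ht₁U, ht₁o, rfl⟩ := exists_involution d T₁ h₁ hne₁
    obtain ⟨t₂, ht₂U, ht₂o, rfl⟩ := exists_involution d T₂ h₂ hne₂
    have ht₁2 : t₁ ^ 2 = 1 := by rw [← ht₁o]; exact pow_orderOf_eq_one _
    have ht₂2 : t₂ ^ 2 = 1 := by rw [← ht₂o]; exact pow_orderOf_eq_one _
    have hc1 := d.isConj_z_of_involution t₁ ht₁U ht₁2
    have hc2 := d.isConj_z_of_involution t₂ ht₂U ht₂2
    obtain ⟨s, hs⟩ := isConj_iff.1 (hc1.symm.trans hc2)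
    refine ⟨s, ?_⟩
    rw [map_conj_fourGroup, hs, zeta_comm d s, mul_inv_cancel_right]


/-- A wreathed 2-group S has a normal Klein four-subgroup T such that every Klein four-subgroup of S other than T is conjugate in S to any other such subgroup; in particular S has exactly two conjugacy classes of Klein four-subgroups. -/
theorem result {S : Type*} [Group S] [Finite S] (hS : Cfsg.IsWreathed S) : ∃ T : Subgroup S, IsKleinFour T ∧ T.Normal ∧ (∃ T₀ : Subgroup S, IsKleinFour T₀ ∧ T₀ ≠ T) ∧ ∀ T₁ T₂ : Subgroup S, IsKleinFour T₁ → IsKleinFour T₂ → T₁ ≠ T → T₂ ≠ T → ∃ s : S, T₁.map (MulAut.conj s).toMonoidHom = T₂ := by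
  exact main1198 hS

end Cfsg.Agent.S1198
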