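import Cfsg.Statements.S1199
import Mathlib
import Cfsg.Agent.Lib.Helper6.W4

set_option autoImplicit false
open Cfsg Cfsg.Agent.Lib.Helper6

namespace Cfsg.Agent.S1199

theorem wdat_of_isWreathed {S : Type*} [Group S] (hS : Cfsg.IsWreathed S) :
    Nonempty (WDat S) := by
  obtain ⟨n, hn, hcard, x, y, z, hx, hxy, hdisj, hz, hzx⟩ := hS
  exact ⟨⟨n, hn, hcard, x, y, z, hx, hxy, hdisj, hz, hzx⟩⟩

theorem Y0_normal {S : Type*} [Group S] (d : WDat S) : d.Y0.Normal := by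
  refine ⟨fun g hg s => ?_⟩
  have hinj : Function.Injective (MulAut.conj s).toMonoidHom := (MulAut.conj s).injective
  have h1 : d.Y0.map (MulAut.conj s).toMonoidHom = d.Y0 := by
    apply d.eq_Y0_of_quaternion
    · rw [← d.Y0_card]
      exact Nat.card_congr (d.Y0.equivMapOfInjective _ hinj).symm.toEquiv
    · obtain ⟨φ⟩ := d.Y0_quaternion
      exact ⟨(d.Y0.equivMapOfInjective _ hinj).symm.trans φ⟩
  rw [← h1]
  exact Subgroup.mem_map.2 ⟨g, hg, rfl⟩

theorem main1199 {S : Type*} [Group S] [Finite S] (hS : Cfsg.IsWreathed S) (n : ℕ) (hn : Nat.card S = 2 ^ (2 * n + 1)) : (∃! Y : Subgroup S, Nat.card Y = 2 ^ (n + 1) ∧ Nonempty (Y ≃* QuaternionGroup (2 ^ (n - 1)))) ∧ ∀ Y : Subgroup S, Nat.card Y = 2 ^ (n + 1) → Nonempty (Y ≃* QuaternionGroup (2 ^ (n - 1))) → Y.Normal := by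
  obtain ⟨d⟩ := wdat_of_isWreathed hS
  have hnn : d.n = n := by
    have h1 := d.card
    rw [hn] at h1
    have := Nat.pow_right_injective (le_refl 2) h1
    omega
  subst hnn
  refine ⟨⟨d.Y0, ⟨d.Y0_card, d.Y0_quaternion⟩, ?_⟩, ?_⟩
  · rintro Y ⟨h1, h2⟩
    exact d.eq_Y0_of_quaternion Y h1 h2
  · intro Y h1 h2
    rw [d.eq_Y0_of_quaternion Y h1 h2]
    exact Y0_normal d


/-- A wreathed 2-group S of order 2^(2n+1) has exactly one subgroup of order 2^(n+1) isomorphic to a generalized quaternion group, and that subgroup is normal in S. -/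
theorem result {S : Type*} [Group S] [Finite S] (hS : Cfsg.IsWreathed S) (n : ℕ) (hn : Nat.card S = 2 ^ (2 * n + 1)) : (∃! Y : Subgroup S, Nat.card Y = 2 ^ (n + 1) ∧ Nonempty (Y ≃* QuaternionGroup (2 ^ (n - 1)))) ∧ ∀ Y : Subgroup S, Nat.card Y = 2 ^ (n + 1) → Nonempty (Y ≃* QuaternionGroup (2 ^ (n - 1))) → Y.Normal := by
  exact main1199 hS n hn

end Cfsg.Agent.S1199
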