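import Cfsg.Statements.S1200
import Mathlib
import Cfsg.Agent.Lib.Helper6.W3
import Cfsg.Agent.Lib.Helper6.NNF

set_option autoImplicit false
open Cfsg Cfsg.Agent.Lib.Helper6

namespace Cfsg.Agent.S1200

theorem wdat_of_isWreathed {S : Type*} [Group S] (hS : Cfsg.IsWreathed S) :
    Nonempty (WDat S) := by
  obtain ⟨n, hn, hcard, x, y, z, hx, hxy, hdisj, hz, hzx⟩ := hS
  exact ⟨⟨n, hn, hcard, x, y, z, hx, hxy, hdisj, hz, hzx⟩⟩

/-- the subgroup of elements whose square lies in the derived subgroup -/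
noncomputable def sqK (S : Type*) [Group S] : Subgroup S :=
  (powMonoidHom 2 : Abelianization S →* Abelianization S).ker.comap Abelianization.of

theorem mem_sqK {S : Type*} [Group S] (g : S) : g ∈ sqK S ↔ g ^ 2 ∈ commutator S := by
  rw [sqK, Subgroup.mem_comap, MonoidHom.mem_ker, powMonoidHom_apply, ← map_pow,
    ← MonoidHom.mem_ker, Abelianization.ker_of]

theorem omega_inf {S : Type*} [Group S] (d : WDat S) :
    Subgroup.closure {t : S | orderOf t = 2} ⊓ Subgroup.zpowers d.x = Subgroup.zpowers d.wx := by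
  apply le_antisymm
  · intro g hg
    obtain ⟨hg1, hg2⟩ := Subgroup.mem_inf.1 hg
    have hK : Subgroup.closure {t : S | orderOf t = 2} ≤ sqK S := by
      rw [Subgroup.closure_le]
      intro t ht
      rw [SetLike.mem_coe, mem_sqK]
      have : t ^ 2 = 1 := by
        have h2 : orderOf t = 2 := ht
        rw [← h2]; exact pow_orderOf_eq_one _
      rw [this]; exact Subgroup.one_mem _
    have h1 := (mem_sqK g).1 (hK hg1)
    obtain ⟨m, rfl⟩ := Subgroup.mem_zpowers_iff.1 hg2
    rw [d.commutator_eq] at h1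
    obtain ⟨k, hk⟩ := Subgroup.mem_zpowers_iff.1 h1
    rw [d.e_zpow, ← zpow_natCast, ← zpow_mul] at hk
    -- x^(-k) y^k = x^(2m)
    have h2 : d.x ^ (-k - m * (2 : ℕ)) * d.y ^ k = 1 := by
      have hc : Commute (d.y ^ k) (d.x ^ (-(m * (2 : ℕ)))) :=
        ((d.comm_xy.zpow_left _).zpow_right _).symm
      calc d.x ^ (-k - m * (2 : ℕ)) * d.y ^ k
          = d.x ^ (-k) * d.x ^ (-(m * (2 : ℕ))) * d.y ^ k := by rw [← zpow_add, sub_eq_add_neg]
        _ = d.x ^ (-k) * (d.x ^ (-(m * (2 : ℕ))) * d.y ^ k) := by group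
        _ = d.x ^ (-k) * (d.y ^ k * d.x ^ (-(m * (2 : ℕ)))) := by rw [hc.eq]
        _ = (d.x ^ (-k) * d.y ^ k) * d.x ^ (-(m * (2 : ℕ))) := by group
        _ = 1 := by rw [hk, ← zpow_add]; simp
    have h3 := (d.eq_one_of_mul_eq_one _ _ h2).2
    have h4 : d.x ^ (-k) = 1 := by
      rw [d.x_zpow_eq_one_iff, dvd_neg]
      exact (d.y_zpow_eq_one_iff k).1 h3
    rw [h4, h3, one_mul] at hk
    have h5 : d.x ^ (2 * m) = 1 := by rw [hk, mul_comm]; push_cast; rfl
    rcases d.x_zpow_sq m h5 with h | h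
    · rw [h]; exact Subgroup.one_mem _
    · rw [h]; exact Subgroup.mem_zpowers _
  · rw [Subgroup.zpowers_le]
    refine Subgroup.mem_inf.2 ⟨Subgroup.subset_closure d.orderOf_wx, ?_⟩
    exact Subgroup.pow_mem _ (Subgroup.mem_zpowers _) _

theorem main1200 {S : Type*} [Group S] [Finite S] (hS : Cfsg.IsWreathed S) (n : ℕ) (hn : Nat.card S = 2 ^ (2 * n + 1)) : Nat.card (Subgroup.closure {x : S | orderOf x = 2}) = 2 ^ (n + 2) ∧ ∃ s : S, Subgroup.closure {x : S | orderOf x = 2} ⊔ Subgroup.zpowers s = ⊤ := by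
  obtain ⟨d⟩ := wdat_of_isWreathed hS
  have hnn : d.n = n := by
    have h1 := d.card
    rw [hn] at h1
    have := Nat.pow_right_injective (le_refl 2) h1
    omega
  subst hnn
  have hn2 := d.hn
  obtain ⟨Ω, hΩ⟩ : ∃ Ω : Subgroup S, Ω = Subgroup.closure {t : S | orderOf t = 2} := ⟨_, rfl⟩
  rw [← hΩ]
  haveI hΩn : Ω.Normal := by
    rw [hΩ]
    apply closure_normal_of_conj_mem
    intro t ht g
    apply Subgroup.subset_closure
    have h2 : orderOf t = 2 := ht
    show orderOf (g * t * g⁻¹) = 2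
    have : g * t * g⁻¹ = MulAut.conj g t := rfl
    rw [this, MulEquiv.orderOf_eq, h2]
  have htop : Ω ⊔ Subgroup.zpowers d.x = ⊤ := by
    apply d.closure_eq_top
    · exact Subgroup.mem_sup_right (Subgroup.mem_zpowers _)
    · apply Subgroup.mem_sup_left
      rw [hΩ]; exact Subgroup.subset_closure d.hz
  refine ⟨?_, d.x, htop⟩
  have h1 : Ω.index = Ω.relIndex (Subgroup.zpowers d.x) := by
    rw [← Subgroup.relIndex_top_right, ← htop, Subgroup.relIndex_sup_left]
  have h2 : Ω.relIndex (Subgroup.zpowers d.x) = 2 ^ (d.n - 1) := by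
    rw [← Subgroup.inf_relIndex_right, hΩ, omega_inf d]
    have hle : Subgroup.zpowers d.wx ≤ Subgroup.zpowers d.x := by
      rw [Subgroup.zpowers_le]; exact Subgroup.pow_mem _ (Subgroup.mem_zpowers _) _
    have h3 := Subgroup.relIndex_mul_index hle
    have h4 := Subgroup.card_mul_index (Subgroup.zpowers d.wx)
    have h5 := Subgroup.card_mul_index (Subgroup.zpowers d.x)
    rw [Nat.card_zpowers, d.orderOf_wx] at h4
    rw [Nat.card_zpowers, d.hx] at h5
    rw [← h3, ← mul_assoc] at h4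
    rw [← h4] at h5
    have h6 : 2 ^ d.n = 2 * 2 ^ (d.n - 1) := by rw [← pow_succ']; congr 1; omega
    rw [h6] at h5
    have hpos : 0 < (Subgroup.zpowers d.x).index := Nat.pos_of_ne_zero Subgroup.index_ne_zero_of_finite
    have h7 : 2 * 2 ^ (d.n - 1) * (Subgroup.zpowers d.x).index
        = 2 * (Subgroup.zpowers d.wx).relIndex (Subgroup.zpowers d.x) * (Subgroup.zpowers d.x).index := h5
    have h8 := Nat.eq_of_mul_eq_mul_right hpos h7
    exact (Nat.eq_of_mul_eq_mul_left (by norm_num) h8).symm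
  have h3 := Subgroup.card_mul_index Ω
  rw [h1, h2, d.card] at h3
  have h4 : 2 ^ (2 * d.n + 1) = 2 ^ (d.n + 2) * 2 ^ (d.n - 1) := by
    rw [← pow_add]; congr 1; omega
  rw [h4] at h3
  exact Nat.eq_of_mul_eq_mul_right (by positivity) h3


/-- Let S be a wreathed 2-group of order 2^(2n+1) and Ω the subgroup generated by its involutions. Then Ω has order 2^(n+2) and S/Ω is cyclic: some s ∈ S together with Ω generates S. -/
theorem result {S : Type*} [Group S] [Finite S] (hS : Cfsg.IsWreathed S) (n : ℕ) (hn : Nat.card S = 2 ^ (2 * n + 1)) : Nat.card (Subgroup.closure {x : S | orderOf x = 2}) = 2 ^ (n + 2) ∧ ∃ s : S, Subgroup.closure {x : S | orderOf x = 2} ⊔ Subgroup.zpowers s = ⊤ := by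
  exact main1200 hS n hn

end Cfsg.Agent.S1200
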