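import Cfsg.Statements.S1201
import Mathlib
import Cfsg.Agent.Lib.Helper6.W

set_option autoImplicit false
open Cfsg Cfsg.Agent.Lib.Helper6

namespace Cfsg.Agent.S1201

theorem wdat_of_isWreathed {S : Type*} [Group S] (hS : Cfsg.IsWreathed S) :
    Nonempty (WDat S) := by
  obtain ⟨n, hn, hcard, x, y, z, hx, hxy, hdisj, hz, hzx⟩ := hS
  exact ⟨⟨n, hn, hcard, x, y, z, hx, hxy, hdisj, hz, hzx⟩⟩

theorem center_le_of_abelian_index_two {S : Type*} [Group S] (U : Subgroup S)
    (hUc : ∀ u ∈ U, ∀ v ∈ U, u * v = v * u) (hUi : U.index = 2) (X : Subgroup S)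
    (hX : ¬ IsMulCommutative X) : (Subgroup.center X).map X.subtype ≤ Subgroup.center S := by
  rintro c ⟨⟨c, hcX⟩, hc, rfl⟩
  rw [SetLike.mem_coe, Subgroup.mem_center_iff] at hc
  have hcc : ∀ a ∈ X, a * c = c * a := by
    intro a ha
    exact congrArg Subtype.val (hc ⟨a, ha⟩)
  show c ∈ Subgroup.center S
  by_cases hcU : c ∈ U
  · obtain ⟨g, hgX, hgU⟩ : ∃ g ∈ X, g ∉ U := by
      by_contra hcon
      push Not at hcon
      exact hX ⟨⟨fun a b => Subtype.ext (hUc a (hcon a a.2) b (hcon b b.2))⟩⟩
    rw [Subgroup.mem_center_iff]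
    intro s
    by_cases hs : s ∈ U
    · exact hUc s hs c hcU
    · have h1 : g⁻¹ * s ∈ U := by
        rw [Subgroup.mul_mem_iff_of_index_two hUi]
        constructor
        · intro h; exact absurd (by simpa using U.inv_mem h) hgU
        · intro h; exact absurd h hs
      have h2 : (g⁻¹ * s) * c = c * (g⁻¹ * s) := hUc _ h1 c hcU
      have h3 : g * c = c * g := hcc g hgX
      calc s * c = g * ((g⁻¹ * s) * c) := by group
        _ = g * (c * (g⁻¹ * s)) := by rw [h2]
        _ = (g * c) * (g⁻¹ * s) := by group
        _ = (c * g) * (g⁻¹ * s) := by rw [h3]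
        _ = c * s := by group
  · exfalso
    apply hX
    -- every element of X is in U or in c * U
    have hdec : ∀ a ∈ X, ∃ a' ∈ X, a' ∈ U ∧ (a = a' ∨ a = c * a') := by
      intro a ha
      by_cases haU : a ∈ U
      · exact ⟨a, ha, haU, Or.inl rfl⟩
      · refine ⟨c⁻¹ * a, X.mul_mem (X.inv_mem hcX) ha, ?_, Or.inr (by group)⟩
        rw [Subgroup.mul_mem_iff_of_index_two hUi]
        constructor
        · intro h; exact absurd (by simpa using U.inv_mem h) hcU
        · intro h; exact absurd h haU
    refine ⟨⟨fun a b => Subtype.ext ?_⟩⟩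
    obtain ⟨a', haX, haU, ha⟩ := hdec a a.2
    obtain ⟨b', hbX, hbU, hb⟩ := hdec b b.2
    have hab : a' * b' = b' * a' := hUc a' haU b' hbU
    have hca : a' * c = c * a' := hcc a' haX
    have hcb : b' * c = c * b' := hcc b' hbX
    show (a : S) * (b : S) = (b : S) * (a : S)
    rcases ha with ha | ha <;> rcases hb with hb | hb <;> rw [ha, hb]
    · exact hab
    · calc a' * (c * b') = (a' * c) * b' := by group
        _ = c * (a' * b') := by rw [hca]; group
        _ = c * b' * a' := by rw [hab]; group
    · calc c * a' * b' = c * (a' * b') := by group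
        _ = c * (b' * a') := by rw [hab]
        _ = (c * b') * a' := by group
        _ = (b' * c) * a' := by rw [hcb]
        _ = b' * (c * a') := by group
    · calc c * a' * (c * b') = c * (a' * c) * b' := by group
        _ = c * (c * a') * b' := by rw [hca]
        _ = c * c * (a' * b') := by group
        _ = c * c * (b' * a') := by rw [hab]
        _ = c * (c * b') * a' := by group
        _ = c * (b' * c) * a' := by rw [hcb]
        _ = c * b' * (c * a') := by group

theorem main1201 {S : Type*} [Group S] [Finite S] (hS : Cfsg.IsWreathed S) (X : Subgroup S) (hX : ¬ IsMulCommutative X) : (Subgroup.center X).map X.subtype ≤ Subgroup.center S := by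
  obtain ⟨d⟩ := wdat_of_isWreathed hS
  exact center_le_of_abelian_index_two d.U (fun u hu v hv => d.U_comm u v hu hv) d.U_index X hX


/-- If X is a non-commutative subgroup of a wreathed 2-group S, then Z(X) ≤ Z(S). -/
theorem result {S : Type*} [Group S] [Finite S] (hS : Cfsg.IsWreathed S) (X : Subgroup S) (hX : ¬ IsMulCommutative X) : (Subgroup.center X).map X.subtype ≤ Subgroup.center S := by
  exact main1201 hS X hX

end Cfsg.Agent.S1201
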