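import Cfsg.Statements.S1206
import Mathlib
import Cfsg.Agent.Lib.Helper6.QDF
import Cfsg.Agent.Lib.Helper6.MaxClass2c

set_option autoImplicit false
open Cfsg

namespace Cfsg.Agent.S1206

open Cfsg.Agent.S1236 Cfsg.Agent.S1203 Cfsg.Agent.S1204 Cfsg.Agent.S1205 Cfsg.Agent.Lib.Lead.KleinDih
  Cfsg.Agent.Lib.Helper4 Cfsg.Agent.Lib.Helper6 Cfsg.Agent.Lib.Helper6.QDF Subgroup

set_option linter.unusedVariables false
set_option linter.unusedSectionVars false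
set_option linter.style.haveILetI false

theorem main1206 {G : Type*} [Group G] [Finite G] (S : Sylow 2 G) (hS : Cfsg.IsQuasiDihedral (S : Subgroup G)) (T : Subgroup G) (hT : IsKleinFour T) (hTS : T ≤ S) (Q : Subgroup G) (hQS : Q ≤ S) (eQ : Q ≃* QuaternionGroup 2) (h₁ : (Subgroup.centralizer (T : Set G)).relIndex (Subgroup.normalizer (T : Set G)) = 6) (h₂ : (Q ⊔ Subgroup.centralizer (Q : Set G)).relIndex (Subgroup.normalizer (Q : Set G)) = 2) : (∃ K : Subgroup G, K.Normal ∧ K.index = 2 ∧ (∀ P : Sylow 2 ↥K, ∃ m : ℕ, Nonempty ((P : Subgroup ↥K) ≃* DihedralGroup m)) ∧ (∀ H : Subgroup ↥K, H.index ≠ 2)) ∧ Nat.card {C : ConjClasses G // ∃ t : G, orderOf t = 2 ∧ ConjClasses.mk t = C} = 1 ∧ Nat.card {C : ConjClasses G // ∃ t : G, orderOf t = 4 ∧ ConjClasses.mk t = C} = 2 := by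
  classical
  haveI : Fact (Nat.Prime 2) := ⟨Nat.prime_two⟩
  haveI := hT
  obtain ⟨dd⟩ := qd_data S hS
  obtain ⟨n, x, z, Cg, hn, hCg, hxo, hcard, hrel, hCgS, hzC, hz1, hzz, hzc, hzu, hprod, hsq, htwo,
    hF, ⟨c₄, d, hc₄C, hc₄o, hc₄d⟩, hgc⟩ := dd
  -- structure of T
  obtain ⟨a', ha', b', hb', ha'1, hb'1, hab'⟩ := klein_two T
  have hTinv : ∀ v ∈ T, v ∈ Cg → v ≠ 1 → v = z :=
    fun v hv hvC hv1 => hzu v hvC (klein_sq T v hv) hv1
  have hzT : z ∈ T := by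
    by_cases h1 : a' ∈ Cg
    · rw [← hTinv a' ha' h1 ha'1]; exact ha'
    · by_cases h2 : b' ∈ Cg
      · rw [← hTinv b' hb' h2 hb'1]; exact hb'
      · have h3 := hprod a' (hTS ha') b' (hTS hb') h1 h2
        have h4 := klein_mul_ne_one T ha' hb' hab'
        rw [← hTinv (a' * b') (T.mul_mem ha' hb') h3 h4]; exact T.mul_mem ha' hb'
  obtain ⟨t₂, ht₂T, ht₂C⟩ : ∃ t₂ ∈ T, t₂ ∉ Cg := by
    by_cases h1 : a' ∈ Cg
    · by_cases h2 : b' ∈ Cg
      · exact absurd ((hTinv a' ha' h1 ha'1).trans (hTinv b' hb' h2 hb'1).symm) hab'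
      · exact ⟨b', hb', h2⟩
    · exact ⟨a', ha', h1⟩
  have ht₂S : t₂ ∈ (S : Subgroup G) := hTS ht₂T
  have ht₂sq : t₂ * t₂ = 1 := klein_sq T t₂ ht₂T
  have ht₂1 : t₂ ≠ 1 := fun h => ht₂C (h ▸ Cg.one_mem)
  have hTconj : ∃ h : G, h * t₂ * h⁻¹ = z :=
    klein_all_conj T (by rw [h₁]; decide) t₂ z ht₂T hzT ht₂1 hz1
  obtain ⟨u₀, hu₀S, hu₀C, hu₀sq, hu₀o, hnofus4, hC4⟩ :=
    q_part S ⟨n, x, z, Cg, hn, hCg, hxo, hcard, hrel, hCgS, hzC, hz1, hzz, hzc, hzu, hprod, hsq, htwo, hF, ⟨c₄, d, hc₄C, hc₄o, hc₄d⟩, hgc⟩ Q hQS eQ h₂ t₂ ht₂S ht₂C ht₂sq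
  dsimp only at hu₀C hnofus4
  have ht₂o : orderOf t₂ = 2 := orderOf_eq_prime (by rw [pow_two]; exact ht₂sq) ht₂1
  have hzo : orderOf z = 2 := orderOf_eq_prime (by rw [pow_two]; exact hzz) hz1
  have hzS : z ∈ (S : Subgroup G) := hCgS hzC
  have hxC : x ∈ Cg := by rw [hCg]; exact Subgroup.mem_zpowers x
  have hxS : x ∈ (S : Subgroup G) := hCgS hxC
  -- all involutions are conjugate to t₂
  have hinv : ∀ v : G, orderOf v = 2 → ∃ h : G, h * t₂ * h⁻¹ = v := by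
    intro v hv
    obtain ⟨g, hg⟩ := elt_conj_into_sylow S v 1 (by rw [hv, pow_one])
    have hv2 : v * v = 1 := by rw [← pow_two, ← hv]; exact pow_orderOf_eq_one v
    have hv1 : v ≠ 1 := by intro h; rw [h, orderOf_one] at hv; omega
    have hw2 : (g * v * g⁻¹) * (g * v * g⁻¹) = 1 := by
      calc (g * v * g⁻¹) * (g * v * g⁻¹) = g * (v * v) * g⁻¹ := by group
        _ = 1 := by rw [hv2]; group
    have hw1 : g * v * g⁻¹ ≠ 1 := fun h => hv1 (conj_eq_one_iff.mp h)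
    have hw : ∃ h : G, h * t₂ * h⁻¹ = g * v * g⁻¹ := by
      by_cases hwC : g * v * g⁻¹ ∈ Cg
      · rw [hzu _ hwC hw2 hw1]; exact hTconj
      · obtain ⟨h, -, hh⟩ := (htwo t₂ ht₂S u₀ hu₀S ht₂C hu₀C ht₂sq hu₀sq _ hg hwC).1 hw2
        exact ⟨h, hh⟩
    obtain ⟨h, hh⟩ := hw
    refine ⟨g⁻¹ * h, ?_⟩
    calc g⁻¹ * h * t₂ * (g⁻¹ * h)⁻¹ = g⁻¹ * (h * t₂ * h⁻¹) * g := by group
      _ = g⁻¹ * (g * v * g⁻¹) * g := by rw [hh]
      _ = v := by group
  have hC2 := conj_classes_one 2 t₂ ht₂o hinv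
  -- the transfer kernel
  obtain ⟨D, hDS, hrelD, hDmem, hDC, hDinv, hDout, hDt⟩ :=
    D_exists S ⟨n, x, z, Cg, hn, hCg, hxo, hcard, hrel, hCgS, hzC, hz1, hzz, hzc, hzu, hprod, hsq, htwo, hF, ⟨c₄, d, hc₄C, hc₄o, hc₄d⟩, hgc⟩ t₂ ht₂S ht₂C ht₂sq u₀ hu₀S hu₀C hu₀sq
  dsimp only at hDmem hDC hDinv hDt
  have hord2 : ∀ y ∈ (S : Subgroup G), y ∉ D → 2 ^ (2 - 1) < orderOf y := by
    intro y hy hyD
    obtain ⟨hy1, hy2⟩ := hDout y hy hyD
    have h1 : orderOf y ≠ 1 := fun h => hy1 (orderOf_eq_one_iff.mp h)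
    have h2 : orderOf y ≠ 2 := fun h => hy2 (by rw [← pow_two, ← h]; exact pow_orderOf_eq_one y)
    have h3 := orderOf_pos y
    have e : 2 ^ (2 - 1) = 2 := by norm_num
    rw [e]; omega
  have hcon : ∀ g : G, g * u₀ * g⁻¹ ∉ D := by
    intro g hgD
    by_cases hC' : g * u₀ * g⁻¹ ∈ Cg
    · exact hnofus4 g hC'
    · have h1 := hDinv _ hgD hC'
      apply hu₀sq
      have e : g * (u₀ * u₀) * g⁻¹ = 1 := by rw [← h1]; group
      exact conj_eq_one_iff.mp e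
  obtain ⟨K, hKn, hKi, hu₀K⟩ :=
    thompson_transfer_ker S D hrelD 2 hord2 u₀ (hu₀o.trans (by norm_num)) hcon
  haveI := hKn
  have hK2 : ∀ a b : G, a * b ∈ K ↔ (a ∈ K ↔ b ∈ K) :=
    fun a b => Subgroup.mul_mem_iff_of_index_two hKi
  have hKsq : ∀ g : G, g * g ∈ K := fun g => Subgroup.mul_self_mem_of_index_two hKi g
  have hu₀z : u₀ * u₀ = z := (hsq u₀ hu₀S hu₀C).resolve_left hu₀sq
  have hzK : z ∈ K := hu₀z ▸ hKsq u₀
  have ht₂K : t₂ ∈ K := by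
    obtain ⟨h, hh⟩ := hTconj
    have e : t₂ = h⁻¹ * z * h⁻¹⁻¹ := by rw [← hh]; group
    rw [e]; exact hKn.conj_mem z hzK h⁻¹
  have hinvK : ∀ v : G, orderOf v = 2 → v ∈ K := by
    intro v hv
    obtain ⟨h, hh⟩ := hinv v hv
    rw [← hh]; exact hKn.conj_mem t₂ ht₂K h
  have hxxC : x * x ∈ Cg := Cg.mul_mem hxC hxC
  have hDK : D ≤ K := by
    intro s hs
    by_cases hsC : s ∈ Cg
    · obtain ⟨j, hj⟩ := Subgroup.mem_zpowers_iff.mp (hDC s hs hsC)
      rw [← hj]; exact K.zpow_mem (hKsq x) j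
    · have h2 := hDinv s hs hsC
      have hs1 : s ≠ 1 := fun h => hsC (h ▸ Cg.one_mem)
      exact hinvK s (orderOf_eq_prime (by rw [pow_two]; exact h2) hs1)
  have hu₀D : u₀ ∉ D := by
    intro h
    exact hu₀sq (hDinv u₀ h hu₀C)
  have hKS : ∀ w ∈ (S : Subgroup G), w ∈ K → w ∈ D := by
    intro w hwS hwK
    by_contra hwD
    have hidx : (D.subgroupOf (S : Subgroup G)).index = 2 := hrelD
    have hmul := (Subgroup.mul_mem_iff_of_index_two hidx (a := ⟨w, hwS⟩) (b := ⟨u₀, hu₀S⟩)).2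
      (iff_of_false (by rw [Subgroup.mem_subgroupOf]; exact hwD)
        (by rw [Subgroup.mem_subgroupOf]; exact hu₀D))
    rw [Subgroup.mem_subgroupOf] at hmul
    have hmul' : w * u₀ ∈ K := hDK hmul
    exact hu₀K (((hK2 w u₀).mp hmul').mp hwK)
  -- cardinalities
  have hrelK : K.relIndex (S : Subgroup G) = 2 := by
    have h1 : K.relIndex (S : Subgroup G) ∣ K.index := Subgroup.relIndex_dvd_index_of_normal K _
    rw [hKi] at h1
    rcases (Nat.dvd_prime Nat.prime_two).mp h1 with h2 | h2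
    · exfalso
      rw [Subgroup.relIndex_eq_one] at h2
      exact hu₀K (h2 hu₀S)
    · exact h2
  have hP₀card : Nat.card ↥(K ⊓ (S : Subgroup G)) = 2 ^ n := by
    have h1 := Subgroup.card_mul_index (K.subgroupOf (S : Subgroup G))
    have h2 : Nat.card (K.subgroupOf (S : Subgroup G)) = Nat.card ↥(K ⊓ (S : Subgroup G)) := by
      rw [← Subgroup.inf_subgroupOf_right]
      exact Nat.card_congr (Subgroup.subgroupOfEquivOfLe inf_le_right).toEquiv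
    have h3 : (K.subgroupOf (S : Subgroup G)).index = 2 := hrelK
    rw [h2, h3, hcard, pow_succ] at h1
    omega
  have hdih : Nonempty (↥(K ⊓ (S : Subgroup G)) ≃* DihedralGroup (2 ^ (n - 1))) := by
    have hxxP : x * x ∈ K ⊓ (S : Subgroup G) := ⟨hKsq x, (S : Subgroup G).mul_mem hxS hxS⟩
    have ht₂P : t₂ ∈ K ⊓ (S : Subgroup G) := ⟨ht₂K, ht₂S⟩
    obtain ⟨k, rfl⟩ : ∃ k, n = k + 3 := ⟨n - 3, by omega⟩
    have ek1 : k + 3 - 1 = k + 2 := by omega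
    rw [ek1]
    apply nonempty_mulEquiv_dihedral_of_rel (2 ^ (k + 2))
      (by calc 2 ≤ 2 ^ 1 := by norm_num
            _ ≤ 2 ^ (k + 2) := Nat.pow_le_pow_right (by norm_num) (by omega))
      (⟨x * x, hxxP⟩ : ↥(K ⊓ (S : Subgroup G))) ⟨t₂, ht₂P⟩
    · rw [← Subgroup.orderOf_coe]
      show orderOf (x * x) = _
      rw [← pow_two, orderOf_pow_of_dvd (by norm_num)
        (by rw [hxo]; exact dvd_pow_self 2 (by omega)), hxo]
      have e : 2 ^ (k + 3) = 2 * 2 ^ (k + 2) := by ring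
      rw [e, Nat.mul_div_cancel_left _ (by norm_num)]
    · intro hmem
      obtain ⟨j, hj⟩ := Subgroup.mem_zpowers_iff.mp hmem
      apply ht₂C
      have h1 := congrArg Subtype.val hj
      simp only [Subgroup.coe_zpow] at h1
      rw [← h1]
      exact Cg.zpow_mem hxxC j
    · apply Subtype.ext
      rw [Subgroup.coe_pow]
      show t₂ ^ 2 = 1
      rw [pow_two]; exact ht₂sq
    · apply Subtype.ext
      simp only [Subgroup.coe_mul, Subgroup.coe_inv]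
      exact hDt (x * x) (Subgroup.mem_zpowers _)
    · rw [hP₀card]; ring
  have hKcard : Nat.card ↥K * 2 = Nat.card G := by rw [← hKi]; exact Subgroup.card_mul_index K
  have hfacG : (Nat.card G).factorization 2 = n + 1 := by
    have h1 := Sylow.card_eq_multiplicity S
    rw [hcard] at h1
    exact (Nat.pow_right_injective (le_refl 2) h1).symm
  have hfacK : (Nat.card ↥K).factorization 2 = n := by
    have h1 : (Nat.card ↥K * 2).factorization 2 = (Nat.card ↥K).factorization 2 + 1 := by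
      rw [Nat.factorization_mul (Nat.card_pos.ne') (by norm_num)]
      simp [Nat.Prime.factorization_self Nat.prime_two]
    rw [hKcard, hfacG] at h1
    omega
  have hP₁card : Nat.card ((K ⊓ (S : Subgroup G)).subgroupOf K) =
      2 ^ (Nat.card ↥K).factorization 2 := by
    rw [hfacK, ← hP₀card]
    exact Nat.card_congr (Subgroup.subgroupOfEquivOfLe inf_le_left).toEquiv
  obtain ⟨P₁, hP₁⟩ : ∃ P₁ : Sylow 2 ↥K,
      (P₁ : Subgroup ↥K) = (K ⊓ (S : Subgroup G)).subgroupOf K :=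
    ⟨Sylow.ofCard _ hP₁card, Sylow.coe_ofCard _ _⟩
  have hA1 : ∀ P : Sylow 2 ↥K, ∃ m : ℕ,
      Nonempty ((P : Subgroup ↥K) ≃* DihedralGroup m) := by
    intro P
    obtain ⟨e₁⟩ := hdih
    refine ⟨2 ^ (n - 1), ⟨?_⟩⟩
    exact (Sylow.equiv P P₁).trans ((MulEquiv.subgroupCongr hP₁).trans
      ((Subgroup.subgroupOfEquivOfLe inf_le_left).trans e₁))
  have hA2 : ∀ H : Subgroup ↥K, H.index ≠ 2 := by
    intro H hH
    haveI hHn : H.Normal := Subgroup.normal_of_index_eq_two hH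
    have hc₄K : c₄ ∈ K := by rw [hc₄d]; exact hKsq d
    have hc₄z : c₄ * c₄ = z := by
      apply hzu _ (Cg.mul_mem hc₄C hc₄C)
      · have h4 : c₄ ^ 4 = 1 := by rw [← hc₄o]; exact pow_orderOf_eq_one c₄
        calc c₄ * c₄ * (c₄ * c₄) = c₄ ^ 4 := by
              rw [show (4 : ℕ) = 2 + 2 from rfl, pow_add, pow_two]
          _ = 1 := h4
      · intro h
        have := orderOf_dvd_of_pow_eq_one (show c₄ ^ 2 = 1 by rw [pow_two]; exact h)
        rw [hc₄o] at this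
        omega
    have hzH : (⟨z, hzK⟩ : ↥K) ∈ H := by
      have h1 := Subgroup.mul_self_mem_of_index_two hH (⟨c₄, hc₄K⟩ : ↥K)
      have e : (⟨c₄, hc₄K⟩ : ↥K) * ⟨c₄, hc₄K⟩ = ⟨z, hzK⟩ := Subtype.ext hc₄z
      rwa [e] at h1
    have hconjK : ∀ v (hv : v ∈ K), orderOf v = 2 →
        ∃ k : ↥K, k * ⟨z, hzK⟩ * k⁻¹ = ⟨v, hv⟩ := by
      intro v hv hvo
      obtain ⟨h1, hh1⟩ := hinv v hvo
      obtain ⟨h2, hh2⟩ := hTconj
      have hg : (h1 * h2⁻¹) * z * (h1 * h2⁻¹)⁻¹ = v := by rw [← hh1, ← hh2]; group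
      have hu₀z' : u₀ * z * u₀⁻¹ = z := by rw [hzc u₀ hu₀S]; group
      by_cases hgK : h1 * h2⁻¹ ∈ K
      · exact ⟨⟨_, hgK⟩, Subtype.ext hg⟩
      · have hgx : h1 * h2⁻¹ * u₀ ∈ K := (hK2 _ _).2 (iff_of_false hgK hu₀K)
        refine ⟨⟨_, hgx⟩, Subtype.ext ?_⟩
        show (h1 * h2⁻¹ * u₀) * z * (h1 * h2⁻¹ * u₀)⁻¹ = v
        calc (h1 * h2⁻¹ * u₀) * z * (h1 * h2⁻¹ * u₀)⁻¹
            = (h1 * h2⁻¹) * (u₀ * z * u₀⁻¹) * (h1 * h2⁻¹)⁻¹ := by group
          _ = v := by rw [hu₀z', hg]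
    have hinvH : ∀ v (hv : v ∈ K), orderOf v = 2 → (⟨v, hv⟩ : ↥K) ∈ H := by
      intro v hv hvo
      obtain ⟨k, hk⟩ := hconjK v hv hvo
      rw [← hk]; exact hHn.conj_mem _ hzH _
    have ht₂H : (⟨t₂, ht₂K⟩ : ↥K) ∈ H := hinvH t₂ ht₂K ht₂o
    have htxx_D : t₂ * (x * x) ∈ D := (hDmem _).mpr (Or.inr (by
      rw [← mul_assoc, ht₂sq, one_mul]; exact Subgroup.mem_zpowers _))
    have htxx_C : t₂ * (x * x) ∉ Cg := fun h => ht₂C (by
      have h1 := Cg.mul_mem h (Cg.inv_mem hxxC)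
      have e : t₂ * (x * x) * (x * x)⁻¹ = t₂ := by group
      rwa [e] at h1)
    have htxx_sq := hDinv _ htxx_D htxx_C
    have htxx_o : orderOf (t₂ * (x * x)) = 2 :=
      orderOf_eq_prime (by rw [pow_two]; exact htxx_sq) (fun h => htxx_C (h ▸ Cg.one_mem))
    have htxx_K : t₂ * (x * x) ∈ K := hDK htxx_D
    have hxxH : (⟨x * x, hKsq x⟩ : ↥K) ∈ H := by
      have h2 := hinvH _ htxx_K htxx_o
      have e : (⟨x * x, hKsq x⟩ : ↥K) = (⟨t₂, ht₂K⟩ : ↥K)⁻¹ * ⟨t₂ * (x * x), htxx_K⟩ := by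
        apply Subtype.ext
        simp
      rw [e]; exact H.mul_mem (H.inv_mem ht₂H) h2
    have hP₁H : (P₁ : Subgroup ↥K) ≤ H := by
      rw [hP₁]
      rintro ⟨w', hw'K⟩ hw'
      rw [Subgroup.mem_subgroupOf] at hw'
      have hw'S : w' ∈ (S : Subgroup G) := hw'.2
      have hw'D : w' ∈ D := hKS w' hw'S hw'K
      by_cases hw'C : w' ∈ Cg
      · obtain ⟨j, hj⟩ := Subgroup.mem_zpowers_iff.mp (hDC w' hw'D hw'C)
        have e : (⟨w', hw'K⟩ : ↥K) = (⟨x * x, hKsq x⟩ : ↥K) ^ j := by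
          apply Subtype.ext
          rw [Subgroup.coe_zpow]
          exact hj.symm
        rw [e]; exact H.zpow_mem hxxH j
      · apply hinvH
        exact orderOf_eq_prime (by rw [pow_two]; exact hDinv w' hw'D hw'C)
          (fun h => hw'C (h ▸ Cg.one_mem))
    have h1 := Subgroup.card_dvd_of_le hP₁H
    have h2 := Subgroup.card_mul_index H
    rw [hH] at h2
    have h3 : Nat.card (P₁ : Subgroup ↥K) = 2 ^ n := by
      rw [hP₁, hP₁card, hfacK]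
    rw [h3] at h1
    have h4 : 2 ^ (n + 1) ∣ Nat.card ↥K := by
      rw [← h2, pow_succ]
      exact Nat.mul_dvd_mul_right h1 2
    have h5 := Nat.pow_succ_factorization_not_dvd (Nat.card_pos (α := ↥K)).ne' Nat.prime_two
    rw [hfacK] at h5
    exact h5 h4
  exact ⟨⟨K, hKn, hKi, hA1, hA2⟩, hC2, hC4⟩


/-- Let G be a finite group with quasi-dihedral Sylow 2-subgroup S, T a Klein four-subgroup and Q a quaternion subgroup of order 8 of S, with |N_G(T) : C_G(T)| = 6 and |N_G(Q) : Q C_G(Q)| = 2. Then G has a normal subgroup K of index 2 whose Sylow 2-subgroups are dihedral and which has no subgroup of index 2, and G has exactly one class of involutions and two classes of elements of order 4. -/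
theorem result {G : Type*} [Group G] [Finite G] (S : Sylow 2 G) (hS : Cfsg.IsQuasiDihedral (S : Subgroup G)) (T : Subgroup G) (hT : IsKleinFour T) (hTS : T ≤ S) (Q : Subgroup G) (hQS : Q ≤ S) (eQ : Q ≃* QuaternionGroup 2) (h₁ : (Subgroup.centralizer (T : Set G)).relIndex (Subgroup.normalizer (T : Set G)) = 6) (h₂ : (Q ⊔ Subgroup.centralizer (Q : Set G)).relIndex (Subgroup.normalizer (Q : Set G)) = 2) : (∃ K : Subgroup G, K.Normal ∧ K.index = 2 ∧ (∀ P : Sylow 2 ↥K, ∃ m : ℕ, Nonempty ((P : Subgroup ↥K) ≃* DihedralGroup m)) ∧ (∀ H : Subgroup ↥K, H.index ≠ 2)) ∧ Nat.card {C : ConjClasses G // ∃ t : G, orderOf t = 2 ∧ ConjClasses.mk t = C} = 1 ∧ Nat.card {C : ConjClasses G // ∃ t : G, orderOf t = 4 ∧ ConjClasses.mk t = C} = 2 := by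
  exact main1206 S hS T hT hTS Q hQS eQ h₁ h₂

end Cfsg.Agent.S1206
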