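import Cfsg.Statements.S1207
import Mathlib
import Cfsg.Agent.Lib.Helper6.QDF
import Cfsg.Agent.Lib.Helper6.NPC

set_option autoImplicit false
open Cfsg

namespace Cfsg.Agent.S1207

open Cfsg.Agent.S1236 Cfsg.Agent.S1203 Cfsg.Agent.S1204 Cfsg.Agent.S1205 Cfsg.Agent.Lib.Lead.KleinDih
  Cfsg.Agent.Lib.Helper4 Cfsg.Agent.Lib.Helper6 Cfsg.Agent.Lib.Helper6.QDF Subgroup

set_option linter.unusedVariables false
set_option linter.unusedSectionVars false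
set_option linter.style.haveILetI false

theorem main1207 {G : Type*} [Group G] [Finite G] (S : Sylow 2 G) (hS : Cfsg.IsQuasiDihedral (S : Subgroup G)) (T : Subgroup G) (hT : IsKleinFour T) (hTS : T ≤ S) (Q : Subgroup G) (hQS : Q ≤ S) (eQ : Q ≃* QuaternionGroup 2) (h₁ : (Subgroup.centralizer (T : Set G)).relIndex (Subgroup.normalizer (T : Set G)) = 2) (h₂ : (Q ⊔ Subgroup.centralizer (Q : Set G)).relIndex (Subgroup.normalizer (Q : Set G)) = 2) : Cfsg.HasNormalPComplement 2 G ∧ Nat.card {C : ConjClasses G // ∃ t : G, orderOf t = 2 ∧ ConjClasses.mk t = C} = 2 ∧ Nat.card {C : ConjClasses G // ∃ t : G, orderOf t = 4 ∧ ConjClasses.mk t = C} = 2 := by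
  haveI : Fact (Nat.Prime 2) := ⟨Nat.prime_two⟩
  haveI := hT
  obtain ⟨dd⟩ := qd_data S hS
  obtain ⟨n, x, z, Cg, hn, hCg, hxo, hcard, hrel, hCgS, hzC, hz1, hzz, hzc, hzu, hprod, hsq, htwo,
    hF, ⟨c₄, d, hc₄C, hc₄o, hc₄d⟩, hgc⟩ := dd
  -- structure of T
  obtain ⟨a', ha', b', hb', ha'1, hb'1, hab'⟩ := klein_two T
  have hTinv : ∀ v ∈ T, v ∈ Cg → v ≠ 1 → v = z :=
    fun v hv hvC hv1 => hzu v hvC (klein_sq T v hv) hv1
  have hzT : z ∈ T := by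
    by_cases h1 : a' ∈ Cg
    · rw [← hTinv a' ha' h1 ha'1]; exact ha'
    · by_cases h2 : b' ∈ Cg
      · rw [← hTinv b' hb' h2 hb'1]; exact hb'
      · have h3 := hprod a' (hTS ha') b' (hTS hb') h1 h2
        have h4 := klein_mul_ne_one T ha' hb' hab'
        rw [← hTinv (a' * b') (T.mul_mem ha' hb') h3 h4]; exact T.mul_mem ha' hb'
  obtain ⟨t₂, ht₂T, ht₂C⟩ : ∃ t₂ ∈ T, t₂ ∉ Cg := by
    by_cases h1 : a' ∈ Cg
    · by_cases h2 : b' ∈ Cg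
      · exact absurd ((hTinv a' ha' h1 ha'1).trans (hTinv b' hb' h2 hb'1).symm) hab'
      · exact ⟨b', hb', h2⟩
    · exact ⟨a', ha', h1⟩
  have ht₂S : t₂ ∈ (S : Subgroup G) := hTS ht₂T
  have ht₂sq : t₂ * t₂ = 1 := klein_sq T t₂ ht₂T
  have ht₂1 : t₂ ≠ 1 := fun h => ht₂C (h ▸ Cg.one_mem)
  obtain ⟨u₀, hu₀S, hu₀C, hu₀sq, hu₀o, hnofus4, hC4⟩ :=
    q_part S ⟨n, x, z, Cg, hn, hCg, hxo, hcard, hrel, hCgS, hzC, hz1, hzz, hzc, hzu, hprod, hsq, htwo, hF, ⟨c₄, d, hc₄C, hc₄o, hc₄d⟩, hgc⟩ Q hQS eQ h₂ t₂ ht₂S ht₂C ht₂sq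
  dsimp only at hu₀C hnofus4
  have ht₂o : orderOf t₂ = 2 := orderOf_eq_prime (by rw [pow_two]; exact ht₂sq) ht₂1
  have hzo : orderOf z = 2 := orderOf_eq_prime (by rw [pow_two]; exact hzz) hz1
  have hzS : z ∈ (S : Subgroup G) := hCgS hzC
  have hxC : x ∈ Cg := by rw [hCg]; exact Subgroup.mem_zpowers x
  have hxS : x ∈ (S : Subgroup G) := hCgS hxC
  have hnofus : ¬ ∃ g : G, g * t₂ * g⁻¹ = z :=
    no_fusion S ⟨n, x, z, Cg, hn, hCg, hxo, hcard, hrel, hCgS, hzC, hz1, hzz, hzc, hzu, hprod, hsq, htwo, hF, ⟨c₄, d, hc₄C, hc₄o, hc₄d⟩, hgc⟩ T hTS h₁ t₂ ht₂T ht₂C hzT u₀ hu₀S hu₀C hu₀sq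
  -- every involution is conjugate to z or t₂
  have hinv : ∀ v : G, orderOf v = 2 →
      (∃ h : G, h * z * h⁻¹ = v) ∨ (∃ h : G, h * t₂ * h⁻¹ = v) := by
    intro v hv
    obtain ⟨g, hg⟩ := elt_conj_into_sylow S v 1 (by rw [hv, pow_one])
    have hv2 : v * v = 1 := by rw [← pow_two, ← hv]; exact pow_orderOf_eq_one v
    have hv1 : v ≠ 1 := by intro h; rw [h, orderOf_one] at hv; omega
    have hw2 : (g * v * g⁻¹) * (g * v * g⁻¹) = 1 := by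
      calc (g * v * g⁻¹) * (g * v * g⁻¹) = g * (v * v) * g⁻¹ := by group
        _ = 1 := by rw [hv2]; group
    have hw1 : g * v * g⁻¹ ≠ 1 := fun h => hv1 (conj_eq_one_iff.mp h)
    by_cases hwC : g * v * g⁻¹ ∈ Cg
    · left
      have h1 := hzu _ hwC hw2 hw1
      refine ⟨g⁻¹, ?_⟩
      rw [← h1]; group
    · right
      obtain ⟨h, -, hh⟩ := (htwo t₂ ht₂S u₀ hu₀S ht₂C hu₀C ht₂sq hu₀sq _ hg hwC).1 hw2
      refine ⟨g⁻¹ * h, ?_⟩
      calc g⁻¹ * h * t₂ * (g⁻¹ * h)⁻¹ = g⁻¹ * (h * t₂ * h⁻¹) * g := by group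
        _ = g⁻¹ * (g * v * g⁻¹) * g := by rw [hh]
        _ = v := by group
  have hC : Nat.card {C : ConjClasses G // ∃ t : G, orderOf t = 2 ∧ ConjClasses.mk t = C} = 2 := by
    rw [Nat.card_eq_two_iff]
    refine ⟨⟨ConjClasses.mk z, z, hzo, rfl⟩, ⟨ConjClasses.mk t₂, t₂, ht₂o, rfl⟩, ?_, ?_⟩
    · intro heq
      have h1 : ConjClasses.mk z = ConjClasses.mk t₂ := congrArg Subtype.val heq
      rw [ConjClasses.mk_eq_mk_iff_isConj, isConj_iff] at h1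
      obtain ⟨c, hc⟩ := h1
      apply hnofus
      refine ⟨c⁻¹, ?_⟩
      rw [← hc]; group
    · apply Set.eq_univ_of_forall
      rintro ⟨C, t, ht, rfl⟩
      rcases hinv t ht with ⟨h, hh⟩ | ⟨h, hh⟩
      · left
        exact Subtype.ext ((ConjClasses.mk_eq_mk_iff_isConj).mpr
          (isConj_iff.mpr ⟨h⁻¹, by rw [← hh]; group⟩))
      · right
        exact Subtype.ext ((ConjClasses.mk_eq_mk_iff_isConj).mpr
          (isConj_iff.mpr ⟨h⁻¹, by rw [← hh]; group⟩))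
  -- the transfer kernel
  have hord1 : ∀ y ∈ (S : Subgroup G), y ∉ Cg → 2 ^ (1 - 1) < orderOf y := by
    intro y hy hyC
    have hy1 : y ≠ 1 := fun h => hyC (h ▸ Cg.one_mem)
    have h1 : orderOf y ≠ 1 := fun h => hy1 (orderOf_eq_one_iff.mp h)
    have h2 := orderOf_pos y
    simp only [Nat.sub_self, pow_zero]
    omega
  have hcon₂ : ∀ g : G, g * t₂ * g⁻¹ ∉ Cg := by
    intro g hgC
    apply hnofus
    refine ⟨g, hzu _ hgC ?_ ?_⟩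
    · calc (g * t₂ * g⁻¹) * (g * t₂ * g⁻¹) = g * (t₂ * t₂) * g⁻¹ := by group
        _ = 1 := by rw [ht₂sq]; group
    · exact fun h => ht₂1 (conj_eq_one_iff.mp h)
  obtain ⟨K₁, hK₁n, hK₁i, ht₂K₁⟩ :=
    thompson_transfer_ker S Cg hrel 1 hord1 t₂ (by rw [ht₂o, pow_one]) hcon₂
  obtain ⟨D, hDS, hrelD, hDmem, hDC, hDinv, hDout, hDt⟩ :=
    D_exists S ⟨n, x, z, Cg, hn, hCg, hxo, hcard, hrel, hCgS, hzC, hz1, hzz, hzc, hzu, hprod, hsq, htwo, hF, ⟨c₄, d, hc₄C, hc₄o, hc₄d⟩, hgc⟩ t₂ ht₂S ht₂C ht₂sq u₀ hu₀S hu₀C hu₀sq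
  dsimp only at hDmem hDC hDinv hDt
  have hord2 : ∀ y ∈ (S : Subgroup G), y ∉ D → 2 ^ (2 - 1) < orderOf y := by
    intro y hy hyD
    obtain ⟨hy1, hy2⟩ := hDout y hy hyD
    have h1 : orderOf y ≠ 1 := fun h => hy1 (orderOf_eq_one_iff.mp h)
    have h2 : orderOf y ≠ 2 := fun h => hy2 (by rw [← pow_two, ← h]; exact pow_orderOf_eq_one y)
    have h3 := orderOf_pos y
    have e : 2 ^ (2 - 1) = 2 := by norm_num
    rw [e]; omega
  have hcon : ∀ g : G, g * u₀ * g⁻¹ ∉ D := by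
    intro g hgD
    by_cases hC' : g * u₀ * g⁻¹ ∈ Cg
    · exact hnofus4 g hC'
    · have h1 := hDinv _ hgD hC'
      apply hu₀sq
      have e : g * (u₀ * u₀) * g⁻¹ = 1 := by rw [← h1]; group
      exact conj_eq_one_iff.mp e
  obtain ⟨K₂, hK₂n, hK₂i, hu₀K₂⟩ :=
    thompson_transfer_ker S D hrelD 2 hord2 u₀ (hu₀o.trans (by norm_num)) hcon
  haveI := hK₁n
  haveI := hK₂n
  have hu₀z : u₀ * u₀ = z := (hsq u₀ hu₀S hu₀C).resolve_left hu₀sq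
  have hLS : ∀ s ∈ (S : Subgroup G), s ∈ K₁ → s ∈ K₂ → s ∈ Cg := by
    intro s hsS hs1 hs2
    by_contra hsC
    by_cases hss : s * s = 1
    · obtain ⟨h, -, hh⟩ := (htwo t₂ ht₂S u₀ hu₀S ht₂C hu₀C ht₂sq hu₀sq s hsS hsC).1 hss
      apply ht₂K₁
      have e : t₂ = h⁻¹ * s * h⁻¹⁻¹ := by rw [← hh]; group
      rw [e]; exact hK₁n.conj_mem s hs1 h⁻¹
    · obtain ⟨h, -, hh⟩ := (htwo t₂ ht₂S u₀ hu₀S ht₂C hu₀C ht₂sq hu₀sq s hsS hsC).2 hss
      apply hu₀K₂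
      have e : u₀ = h⁻¹ * s * h⁻¹⁻¹ := by rw [← hh]; group
      rw [e]; exact hK₂n.conj_mem s hs2 h⁻¹
  have hodd : ∀ K : Subgroup G, K.index = 2 → ∀ g : G, (orderOf g).Coprime 2 → g ∈ K := by
    intro K hKi g hg
    have hsq' : g ^ 2 ∈ K := Subgroup.sq_mem_of_index_two hKi g
    have hodd' : Odd (orderOf g) := Nat.coprime_two_right.mp hg
    obtain ⟨k, hk⟩ := hodd'
    have e : g = (g ^ 2) ^ (k + 1) := by
      rw [← pow_mul]
      have e2 : 2 * (k + 1) = orderOf g + 1 := by omega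
      rw [e2, pow_succ, pow_orderOf_eq_one, one_mul]
    rw [e]
    exact Subgroup.pow_mem _ hsq' _
  have hC' : ∀ g : G, (orderOf g).Coprime 2 → g ∈ K₁ ⊓ K₂ :=
    fun g hg => ⟨hodd K₁ hK₁i g hg, hodd K₂ hK₂i g hg⟩
  obtain ⟨Q₀⟩ : Nonempty (Sylow 2 ↥(K₁ ⊓ K₂)) := inferInstance
  have hcyc : IsCyclic ↥(Q₀ : Subgroup ↥(K₁ ⊓ K₂)) := by
    have hp2 : IsPGroup 2 ↥((Q₀ : Subgroup ↥(K₁ ⊓ K₂)).map (K₁ ⊓ K₂).subtype) := Q₀.2.map _
    obtain ⟨P', hP'⟩ := hp2.exists_le_sylow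
    obtain ⟨g, hg⟩ := MulAction.exists_smul_eq G P' S
    have hPS : cj g (P' : Subgroup G) = (S : Subgroup G) := by rw [← sylow_smul_eq_cj, hg]
    have hmemC : ∀ q : ↥(K₁ ⊓ K₂), q ∈ (Q₀ : Subgroup ↥(K₁ ⊓ K₂)) →
        g * (q : G) * g⁻¹ ∈ Subgroup.zpowers x := by
      intro q hq
      have h1 : (q : G) ∈ (P' : Subgroup G) := hP' ⟨q, hq, rfl⟩
      have h2 : g * (q : G) * g⁻¹ ∈ (S : Subgroup G) := by
        rw [← hPS]; exact conj_mem_cj g _ h1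
      have h3 : g * (q : G) * g⁻¹ ∈ K₁ := hK₁n.conj_mem _ q.2.1 g
      have h4 : g * (q : G) * g⁻¹ ∈ K₂ := hK₂n.conj_mem _ q.2.2 g
      rw [← hCg]; exact hLS _ h2 h3 h4
    let φ : ↥(Q₀ : Subgroup ↥(K₁ ⊓ K₂)) →* ↥(Subgroup.zpowers x) :=
      { toFun := fun q => ⟨g * ((q : ↥(K₁ ⊓ K₂)) : G) * g⁻¹, hmemC q.1 q.2⟩
        map_one' := by apply Subtype.ext; simp
        map_mul' := by intro a b; apply Subtype.ext; simp [mul_assoc] }
    have hφ : Function.Injective φ := by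
      intro a b hab
      have h1 : g * ((a : ↥(K₁ ⊓ K₂)) : G) * g⁻¹ = g * ((b : ↥(K₁ ⊓ K₂)) : G) * g⁻¹ :=
        congrArg Subtype.val hab
      have h2 : ((a : ↥(K₁ ⊓ K₂)) : G) = ((b : ↥(K₁ ⊓ K₂)) : G) := by
        have := congrArg (fun u => g⁻¹ * u * g) h1
        simpa [mul_assoc] using this
      exact Subtype.ext (Subtype.ext h2)
    exact isCyclic_of_injective φ hφ
  have hmin : (Nat.card ↥(K₁ ⊓ K₂)).minFac = 2 := by
    rw [Nat.minFac_eq_two_iff]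
    have hzL : z ∈ K₁ ⊓ K₂ :=
      ⟨hu₀z ▸ Subgroup.mul_self_mem_of_index_two hK₁i u₀,
        hu₀z ▸ Subgroup.mul_self_mem_of_index_two hK₂i u₀⟩
    have h1 : orderOf (⟨z, hzL⟩ : ↥(K₁ ⊓ K₂)) = 2 := by rw [Subgroup.orderOf_mk]; exact hzo
    rw [← h1]; exact orderOf_dvd_natCard _
  exact ⟨npc_of_transfer 2 (K₁ ⊓ K₂) hC' Q₀ (IsCyclic.normalizer_le_centralizer hmin hcyc),
    hC, hC4⟩


/-- Let G be a finite group with quasi-dihedral Sylow 2-subgroup S, T a Klein four-subgroup and Q a quaternion subgroup of order 8 of S, with |N_G(T) : C_G(T)| = 2 and |N_G(Q) : Q C_G(Q)| = 2. Then G has a normal 2-complement, exactly two classes of involutions and exactly two classes of elements of order 4. -/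
theorem result {G : Type*} [Group G] [Finite G] (S : Sylow 2 G) (hS : Cfsg.IsQuasiDihedral (S : Subgroup G)) (T : Subgroup G) (hT : IsKleinFour T) (hTS : T ≤ S) (Q : Subgroup G) (hQS : Q ≤ S) (eQ : Q ≃* QuaternionGroup 2) (h₁ : (Subgroup.centralizer (T : Set G)).relIndex (Subgroup.normalizer (T : Set G)) = 2) (h₂ : (Q ⊔ Subgroup.centralizer (Q : Set G)).relIndex (Subgroup.normalizer (Q : Set G)) = 2) : Cfsg.HasNormalPComplement 2 G ∧ Nat.card {C : ConjClasses G // ∃ t : G, orderOf t = 2 ∧ ConjClasses.mk t = C} = 2 ∧ Nat.card {C : ConjClasses G // ∃ t : G, orderOf t = 4 ∧ ConjClasses.mk t = C} = 2 := by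
  exact main1207 S hS T hT hTS Q hQS eQ h₁ h₂

end Cfsg.Agent.S1207
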