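import Cfsg.Statements.S1209
import Mathlib
import Cfsg.Agent.Lib.Helper6.WF
import Cfsg.Agent.S1204

set_option autoImplicit false
open Cfsg

namespace Cfsg.Agent.S1209

open Cfsg.Agent.Lib.Helper6 Cfsg.Agent.Lib.Helper6.WF Cfsg.Agent.Lib.Helper6.QDF

open Cfsg.Agent.Lib.Helper6 Cfsg.Agent.Lib.Helper6.WF Cfsg.Agent.Lib.Helper6.QDF

set_option linter.unusedVariables false
set_option maxHeartbeats 1000000 in
theorem part_iii {G : Type*} [Group G] [Finite G] (S : Sylow 2 G) (U : Subgroup G) (n : ℕ)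
    (w : WG S U n) (Q : Subgroup G) (hQS : Q ≤ S) (eQ : Q ≃* QuaternionGroup 2)
    (h₂ : ((Q ⊔ Subgroup.zpowers w.ch) ⊔
      Subgroup.centralizer ((Q ⊔ Subgroup.zpowers w.ch : Subgroup G) : Set G)).relIndex
      (Subgroup.normalizer ((Q ⊔ Subgroup.zpowers w.ch : Subgroup G) : Set G)) = 6) :
    ∃ t ∈ U, t * t = 1 ∧ t ≠ 1 ∧ ∃ g : G, g * t * g⁻¹ ∈ (S : Subgroup G) ∧ g * t * g⁻¹ ∉ U := by
  classical
  haveI : Fact (Nat.Prime 3) := ⟨Nat.prime_three⟩
  obtain ⟨ZS, hZSdef⟩ : ∃ ZS : Subgroup G, ZS = Subgroup.zpowers w.ch := ⟨_, rfl⟩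
  obtain ⟨V, hVdef⟩ : ∃ V : Subgroup G, V = Q ⊔ ZS := ⟨_, rfl⟩
  rw [← hZSdef, ← hVdef] at h₂
  have hZc : ∀ s ∈ ZS, ∀ t ∈ (S : Subgroup G), s * t = t * s := by
    intro s hs t ht; rw [hZSdef] at hs; exact w.hZc s hs t ht
  have hZU : ∀ s ∈ ZS, s ∈ U := by intro s hs; rw [hZSdef] at hs; exact w.hZU s hs
  have hZinv : ∀ s ∈ ZS, s * s = 1 → s ≠ 1 → s = w.zeta := by
    intro s hs; rw [hZSdef] at hs; exact w.hZinv s hs
  have hmemV : ∀ v, v ∈ V ↔ ∃ q ∈ Q, ∃ s ∈ ZS, v = q * s := by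
    intro v; rw [hVdef]
    exact mem_sup_comm Q ZS (fun a ha b hb => (hZc b hb a (hQS ha)).symm) v
  have hVS : V ≤ (S : Subgroup G) := by
    intro v hv
    obtain ⟨q, hq, s, hs, rfl⟩ := (hmemV v).mp hv
    exact (S : Subgroup G).mul_mem (hQS hq) (w.hUS (hZU s hs))
  -- the element of order a power of three
  obtain ⟨P₃⟩ : Nonempty (Sylow 3 ↥(Subgroup.normalizer (V : Set G))) := inferInstance
  have hidx : ((V ⊔ Subgroup.centralizer (V : Set G)).subgroupOf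
      (Subgroup.normalizer (V : Set G))).index = 6 := h₂
  have hnle : ¬ (P₃ : Subgroup ↥(Subgroup.normalizer (V : Set G))) ≤
      (V ⊔ Subgroup.centralizer (V : Set G)).subgroupOf (Subgroup.normalizer (V : Set G)) := by
    intro hle
    have h1 := Subgroup.index_dvd_of_le hle
    rw [hidx] at h1
    exact P₃.not_dvd_index (dvd_trans (by norm_num : 3 ∣ 6) h1)
  obtain ⟨μ', hμ'P, hμ'C⟩ := SetLike.not_le_iff_exists.mp hnle
  obtain ⟨μ, hμ⟩ : ∃ μ : G, μ = (μ' : G) := ⟨_, rfl⟩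
  have hμN : μ ∈ Subgroup.normalizer (V : Set G) := by rw [hμ]; exact μ'.2
  have hμodd : Odd (orderOf μ) := by
    obtain ⟨k, hk⟩ := P₃.2 ⟨μ', hμ'P⟩
    have h1 : μ ^ 3 ^ k = 1 := by
      have h2 := congrArg (fun z : ↥(P₃ : Subgroup ↥(Subgroup.normalizer (V : Set G))) =>
        ((z : ↥(Subgroup.normalizer (V : Set G))) : G)) hk
      simpa [hμ] using h2
    exact Odd.of_dvd_nat (Odd.pow (by decide)) (orderOf_dvd_of_pow_eq_one h1)
  have hμC : μ ∉ Subgroup.centralizer (V : Set G) := by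
    intro h
    apply hμ'C
    rw [Subgroup.mem_subgroupOf]
    rw [hμ] at h
    exact Subgroup.mem_sup_right h
  obtain ⟨bo, hbo⟩ : ∃ bo, bo = orderOf μ := ⟨_, rfl⟩
  have hboodd : Odd bo := by rw [hbo]; exact hμodd
  have hμb : μ ^ bo = 1 := by rw [hbo]; exact pow_orderOf_eq_one μ
  have hμV : ∀ v ∈ V, μ * v * μ⁻¹ ∈ V :=
    fun v hv => (Subgroup.mem_normalizer_iff.mp hμN v).mp hv
  have hμV' : ∀ v ∈ V, μ⁻¹ * v * μ ∈ V := by
    intro v hv
    apply (Subgroup.mem_normalizer_iff.mp hμN _).mpr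
    have e : μ * (μ⁻¹ * v * μ) * μ⁻¹ = v := by group
    rw [e]; exact hv
  have hcc : ∀ x y : G, μ * (x * y) * μ⁻¹ = (μ * x * μ⁻¹) * (μ * y * μ⁻¹) := by intro x y; group
  have h2pow : ∀ s ∈ (S : Subgroup G), ∃ m : ℕ, s ^ 2 ^ m = 1 := by
    intro s hs
    obtain ⟨k, hk'⟩ := S.2 ⟨s, hs⟩
    refine ⟨k, ?_⟩
    have := congrArg Subtype.val hk'
    simpa using this
  -- the quaternion subgroup
  obtain ⟨f, hfdef⟩ : ∃ f : QuaternionGroup 2 →* G, f = Q.subtype.comp eQ.symm.toMonoidHom :=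
    ⟨_, rfl⟩
  have hfQ : ∀ g, f g ∈ Q := by intro g; rw [hfdef]; exact (eQ.symm g).2
  have hfs : ∀ q ∈ Q, ∃ g, f g = q := by
    intro q hq; exact ⟨eQ ⟨q, hq⟩, by rw [hfdef]; simp⟩
  have hfi : Function.Injective f := by
    rw [hfdef]; exact (Subgroup.subtype_injective _).comp eQ.symm.injective
  have hfS : ∀ g, f g ∈ (S : Subgroup G) := fun g => hQS (hfQ g)
  have hfV : ∀ g, f g ∈ V := by
    intro g; rw [hVdef]; exact Subgroup.mem_sup_left (hfQ g)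
  have hZV : ∀ s ∈ ZS, s ∈ V := by
    intro s hs; rw [hVdef]; exact Subgroup.mem_sup_right hs
  have hVdec : ∀ v ∈ V, ∃ g : QuaternionGroup 2, ∃ s ∈ ZS, v = f g * s := by
    intro v hv
    obtain ⟨q, hq, s, hs, rfl⟩ := (hmemV v).mp hv
    obtain ⟨g, rfl⟩ := hfs q hq
    exact ⟨g, s, hs, rfl⟩
  obtain ⟨hq1, hq2, hq3, hq4⟩ := q8_facts
  obtain ⟨gU, gO, hgU2, hgO2, hgUU, hgOU⟩ : ∃ gU gO : QuaternionGroup 2,
      gU * gU ≠ 1 ∧ gO * gO ≠ 1 ∧ f gU ∈ U ∧ f gO ∉ U := by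
    by_cases hA : f (QuaternionGroup.a 1) ∈ U
    · by_cases hB : f (QuaternionGroup.xa 0) ∈ U
      · exfalso
        apply hq4
        apply hfi
        rw [map_mul, map_mul]
        exact w.hUcomm _ hA _ hB
      · exact ⟨_, _, hq1, hq2, hA, hB⟩
    · by_cases hB : f (QuaternionGroup.xa 0) ∈ U
      · exact ⟨_, _, hq2, hq1, hB, hA⟩
      · refine ⟨_, _, hq3, hq1, ?_, hA⟩
        rw [map_mul]
        exact w.hprod _ (hfS _) _ (hfS _) hA hB
  have hne1 : gO ≠ gU := fun h => hgOU (h ▸ hgUU)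
  have hne2 : gO ≠ gU⁻¹ := fun h => hgOU (by rw [h, map_inv]; exact U.inv_mem hgUU)
  have hzetaZ : w.zeta ∈ ZS := by
    rw [hZSdef, ← w.hchz]; exact Subgroup.pow_mem _ (Subgroup.mem_zpowers _) _
  have hsqO : f gO * f gO = w.zeta := by
    apply hZinv _ (by rw [hZSdef]; exact w.hsqO _ (hfS gO) hgOU)
    · rw [← map_mul, ← map_mul, q8_sq_sq', map_one]
    · rw [← map_mul]; intro h; exact hgO2 (hfi (h.trans (map_one f).symm))
  have hsqz : ∀ g, g * g ≠ 1 → f g * f g = w.zeta := by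
    intro g hg
    rw [← map_mul, q8_sq_eq g hg, ← q8_sq_eq gO hgO2, map_mul]; exact hsqO
  obtain ⟨u, hu⟩ : ∃ u, u = f gU := ⟨_, rfl⟩
  obtain ⟨o, ho⟩ : ∃ o, o = f gO := ⟨_, rfl⟩
  have huu : u * u = w.zeta := by rw [hu]; exact hsqz gU hgU2
  have huV : u ∈ V := by rw [hu]; exact hfV gU
  have huU : u ∈ U := by rw [hu]; exact hgUU
  have huS : u ∈ (S : Subgroup G) := w.hUS huU
  have hoV : o ∈ V := by rw [ho]; exact hfV gO
  have hoS : o ∈ (S : Subgroup G) := hVS hoV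
  have hou : o * u * o⁻¹ = u⁻¹ := by
    rw [hu, ho, ← map_inv, ← map_mul, ← map_mul, q8_ncomm_inv gU gO hgU2 hgO2 hne1 hne2, map_inv]
  have hiZ : u ∉ ZS := by
    intro h
    have hc := hZc u h o hoS
    have h1 : o * u * o⁻¹ = u := by rw [← hc]; group
    rw [hou] at h1
    have h2 : u * u = 1 := by
      calc u * u = u⁻¹ * u := by rw [h1]
        _ = 1 := inv_mul_cancel u
    rw [huu] at h2; exact w.hzeta1 h2
  -- the centre is centralized
  have hchV : w.ch ∈ V := hZV _ (by rw [hZSdef]; exact Subgroup.mem_zpowers _)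
  have hμch : μ * w.ch * μ⁻¹ ∈ Subgroup.zpowers w.ch := by
    obtain ⟨g, s, hs, hgs⟩ := hVdec _ (hμV _ hchV)
    have hcen : ∀ h : QuaternionGroup 2, g * h = h * g := by
      intro h
      apply hfi
      rw [map_mul, map_mul]
      have hv' := hVS (hμV' _ (hfV h))
      have hc := w.hchc _ hv'
      have hc2 : (μ * w.ch * μ⁻¹) * f h = f h * (μ * w.ch * μ⁻¹) := by
        calc (μ * w.ch * μ⁻¹) * f h = μ * (w.ch * (μ⁻¹ * f h * μ)) * μ⁻¹ := by group
          _ = μ * ((μ⁻¹ * f h * μ) * w.ch) * μ⁻¹ := by rw [hc]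
          _ = f h * (μ * w.ch * μ⁻¹) := by group
      rw [hgs] at hc2
      have hs1 := hZc s hs (f h) (hfS h)
      have h3 : f g * f h * s = f h * f g * s := by
        calc f g * f h * s = f g * (f h * s) := by group
          _ = f g * (s * f h) := by rw [hs1]
          _ = (f g * s) * f h := by group
          _ = f h * (f g * s) := hc2
          _ = f h * f g * s := by group
      exact mul_right_cancel h3
    rcases q8_central g hcen with h | h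
    · rw [hgs, h, map_one, one_mul, ← hZSdef]; exact hs
    · rw [hgs, h, map_mul, hsqz _ hq1, ← hZSdef]; exact ZS.mul_mem hzetaZ hs
  have hμch' : μ * w.ch * μ⁻¹ = w.ch := odd_cent_cyclic w.ch μ n w.hcho hμodd hμch
  have hμZ : ∀ s ∈ ZS, μ * s * μ⁻¹ = s := by
    intro s hs
    rw [hZSdef] at hs
    obtain ⟨k, hk⟩ := Subgroup.mem_zpowers_iff.mp hs
    rw [← hk, ← conj_zpow, hμch']
  obtain ⟨c₄, hc₄⟩ : ∃ c₄, c₄ = w.ch ^ 2 ^ (n - 2) := ⟨_, rfl⟩
  have hc₄Z : c₄ ∈ ZS := by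
    rw [hc₄, hZSdef]; exact Subgroup.pow_mem _ (Subgroup.mem_zpowers _) _
  have hc₄2 : c₄ * c₄ = w.zeta := by
    rw [hc₄, ← pow_add, ← w.hchz]
    congr 1
    have hn2 := w.hn2
    have e1 : n - 1 = (n - 2) + 1 := by omega
    rw [e1, pow_succ]; ring
  have hkey : μ * u * μ⁻¹ ∉ U := by
    intro hin
    have hfixu : μ * u * μ⁻¹ = u := by
      obtain ⟨g', s', hs', hgs'⟩ := hVdec _ (hμV u huV)
      have hfg'U : f g' ∈ U := by
        have e : f g' = (μ * u * μ⁻¹) * s'⁻¹ := by rw [hgs']; group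
        rw [e]; exact U.mul_mem hin (U.inv_mem (hZU s' hs'))
      have hcomm : g' * gU = gU * g' := by
        apply hfi
        rw [map_mul, map_mul]
        exact w.hUcomm _ hfg'U _ hgUU
      have hsu : s' * u = u * s' := hZc s' hs' u huS
      have hgood : μ * u * μ⁻¹ * u⁻¹ ∈ ZS → μ * u * μ⁻¹ = u := by
        intro ht
        obtain ⟨m, hm⟩ := h2pow _ (w.hUS (hZU _ ht))
        have h3 := odd_fix μ u (μ * u * μ⁻¹ * u⁻¹) bo m hboodd hμb (by group) (hμZ _ ht) hm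
        exact mul_inv_eq_one.mp h3
      have hbad : μ * u * μ⁻¹ ∈ ZS → False := by
        intro h
        apply hiZ
        have h1 := hμZ _ h
        have h2 : μ * u * μ⁻¹ = u := by
          calc μ * u * μ⁻¹ = μ⁻¹ * (μ * (μ * u * μ⁻¹) * μ⁻¹) * μ := by group
            _ = μ⁻¹ * (μ * u * μ⁻¹) * μ := by rw [h1]
            _ = u := by group
        rw [h2] at h; exact h
      rcases q8_cent_elt gU g' hgU2 hcomm with h | h | h | h
      · exfalso; apply hbad; rw [hgs', h, map_one, one_mul]; exact hs'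
      · apply hgood
        have e : μ * u * μ⁻¹ * u⁻¹ = s' := by
          rw [hgs', h, ← hu]
          calc u * s' * u⁻¹ = (s' * u) * u⁻¹ := by rw [hsu]
            _ = s' := by group
        rw [e]; exact hs'
      · exfalso; apply hbad
        rw [hgs', h, map_mul, ← hu, huu]; exact ZS.mul_mem hzetaZ hs'
      · apply hgood
        have e : μ * u * μ⁻¹ * u⁻¹ = s' * (w.zeta)⁻¹ := by
          rw [hgs', h, map_inv, ← hu, ← huu]
          calc u⁻¹ * s' * u⁻¹ = u⁻¹ * (s' * u) * u⁻¹ * u⁻¹ := by group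
            _ = u⁻¹ * (u * s') * u⁻¹ * u⁻¹ := by rw [hsu]
            _ = s' * (u * u)⁻¹ := by group
        rw [e]; exact ZS.mul_mem hs' (ZS.inv_mem hzetaZ)
    have hfixu' : μ⁻¹ * u * μ = u := by
      calc μ⁻¹ * u * μ = μ⁻¹ * (μ * u * μ⁻¹) * μ := by rw [hfixu]
        _ = u := by group
    have hfixo : μ * o * μ⁻¹ = o := by
      obtain ⟨a₀, ha₀⟩ : ∃ a₀, a₀ = μ * o * μ⁻¹ * o⁻¹ := ⟨_, rfl⟩
      have ha₀V : a₀ ∈ V := by rw [ha₀]; exact V.mul_mem (hμV o hoV) (V.inv_mem hoV)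
      have ha₀u : a₀ * u = u * a₀ := by
        have h1 : (μ * o * μ⁻¹) * u * (μ * o * μ⁻¹)⁻¹ = u⁻¹ := by
          calc (μ * o * μ⁻¹) * u * (μ * o * μ⁻¹)⁻¹
              = μ * (o * (μ⁻¹ * u * μ) * o⁻¹) * μ⁻¹ := by group
            _ = μ * (o * u * o⁻¹) * μ⁻¹ := by rw [hfixu']
            _ = μ * u⁻¹ * μ⁻¹ := by rw [hou]
            _ = (μ * u * μ⁻¹)⁻¹ := by group
            _ = u⁻¹ := by rw [hfixu]
        have h2 : o⁻¹ * u * o = u⁻¹ := by
          calc o⁻¹ * u * o = (o⁻¹ * u⁻¹ * o)⁻¹ := by group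
            _ = (o⁻¹ * (o * u * o⁻¹) * o)⁻¹ := by rw [hou]
            _ = u⁻¹ := by group
        have h3 : a₀ * u * a₀⁻¹ = u := by
          rw [ha₀]
          calc μ * o * μ⁻¹ * o⁻¹ * u * (μ * o * μ⁻¹ * o⁻¹)⁻¹
              = (μ * o * μ⁻¹) * (o⁻¹ * u * o) * (μ * o * μ⁻¹)⁻¹ := by group
            _ = (μ * o * μ⁻¹) * u⁻¹ * (μ * o * μ⁻¹)⁻¹ := by rw [h2]
            _ = ((μ * o * μ⁻¹) * u * (μ * o * μ⁻¹)⁻¹)⁻¹ := by group
            _ = u := by rw [h1, inv_inv]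
        calc a₀ * u = (a₀ * u * a₀⁻¹) * a₀ := by group
          _ = u * a₀ := by rw [h3]
      obtain ⟨g'', s'', hs'', hgs''⟩ := hVdec a₀ ha₀V
      have hcomm : g'' * gU = gU * g'' := by
        apply hfi
        rw [map_mul, map_mul, ← hu]
        have hsu := hZc s'' hs'' u huS
        have h4 : f g'' * u * s'' = u * f g'' * s'' := by
          calc f g'' * u * s'' = f g'' * (u * s'') := by group
            _ = f g'' * (s'' * u) := by rw [hsu]
            _ = (f g'' * s'') * u := by group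
            _ = a₀ * u := by rw [hgs'']
            _ = u * a₀ := ha₀u
            _ = u * (f g'' * s'') := by rw [hgs'']
            _ = u * f g'' * s'' := by group
        exact mul_right_cancel h4
      have hfixg : μ * f g'' * μ⁻¹ = f g'' := by
        rcases q8_cent_elt gU g'' hgU2 hcomm with h | h | h | h
        · rw [h, map_one]; group
        · rw [h, ← hu]; exact hfixu
        · rw [h, map_mul, ← hu, hcc, hfixu]
        · rw [h, map_inv, ← hu]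
          calc μ * u⁻¹ * μ⁻¹ = (μ * u * μ⁻¹)⁻¹ := by group
            _ = u⁻¹ := by rw [hfixu]
      have hfixa : μ * a₀ * μ⁻¹ = a₀ := by
        rw [hgs'', hcc, hfixg, hμZ s'' hs'']
      obtain ⟨m, hm⟩ := h2pow a₀ (hVS ha₀V)
      have h3 := odd_fix μ o a₀ bo m hboodd hμb (by rw [ha₀]; group) hfixa hm
      rw [ha₀] at h3
      exact mul_inv_eq_one.mp h3
    apply hμC
    rw [Subgroup.mem_centralizer_iff]
    intro v hv
    obtain ⟨q, s, hs, hqs⟩ := hVdec v hv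
    obtain ⟨i, j, hij⟩ := q8_gen2 gU gO hgU2 hgO2 hne1 hne2 q
    have hfq : μ * f q * μ⁻¹ = f q := by
      rw [hij, map_mul, map_pow, map_pow, ← hu, ← ho, hcc, ← conj_pow, ← conj_pow, hfixu, hfixo]
    have hv' : μ * v * μ⁻¹ = v := by rw [hqs, hcc, hfq, hμZ s hs]
    calc v * μ = (μ * v * μ⁻¹) * μ := by rw [hv']
      _ = μ * v := by group
  refine ⟨u * c₄, U.mul_mem huU (hZU _ hc₄Z), ?_, ?_, μ, ?_, ?_⟩
  · have hc := hZc c₄ hc₄Z u huS
    calc u * c₄ * (u * c₄) = u * (c₄ * u) * c₄ := by group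
      _ = u * (u * c₄) * c₄ := by rw [hc]
      _ = (u * u) * (c₄ * c₄) := by group
      _ = 1 := by rw [huu, hc₄2, w.hzeta2]
  · intro h
    apply hiZ
    have h1 : u = c₄⁻¹ := eq_inv_of_mul_eq_one_left h
    rw [h1]; exact ZS.inv_mem hc₄Z
  · rw [hcc]
    exact (S : Subgroup G).mul_mem (hVS (hμV u huV))
      (by rw [hμZ _ hc₄Z]; exact w.hUS (hZU _ hc₄Z))
  · rw [hcc, hμZ _ hc₄Z]
    intro h
    apply hkey
    have e : μ * u * μ⁻¹ = (μ * u * μ⁻¹ * c₄) * c₄⁻¹ := by group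
    rw [e]; exact U.mul_mem h (U.inv_mem (hZU _ hc₄Z))

theorem main1209 {G : Type*} [Group G] [Finite G] (S : Sylow 2 G) (hS : Cfsg.IsWreathed (S : Subgroup G)) (n : ℕ) (hn : Nat.card S = 2 ^ (2 * n + 1)) (U : Subgroup G) (hUS : U ≤ S) (hUab : IsMulCommutative U) (hUcard : Nat.card U = 2 ^ (2 * n)) (Q : Subgroup G) (hQS : Q ≤ S) (eQ : Q ≃* QuaternionGroup 2) (h₁ : (Subgroup.centralizer (U : Set G)).relIndex (Subgroup.normalizer (U : Set G)) = 6) (h₂ : ((Q ⊔ ((Subgroup.center (S : Subgroup G)).map (S : Subgroup G).subtype)) ⊔ Subgroup.centralizer ((Q ⊔ ((Subgroup.center (S : Subgroup G)).map (S : Subgroup G).subtype) : Subgroup G) : Set G)).relIndex (Subgroup.normalizer ((Q ⊔ ((Subgroup.center (S : Subgroup G)).map (S : Subgroup G).subtype) : Subgroup G) : Set G)) = 6) : (∀ H : Subgroup G, H.index ≠ 2) ∧ Nat.card {C : ConjClasses G // ∃ t : G, orderOf t = 2 ∧ ConjClasses.mk t = C} = 1 := by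
  obtain ⟨w⟩ := wg_data S hS n hn U hUS hUab hUcard
  rw [w.hZS] at h₂
  obtain ⟨ν, hνN, hνodd, hνC⟩ := part_i S U n w h₁
  obtain ⟨g₁, hg₁⟩ := fuse_U S U n w ν hνN hνodd hνC
  obtain ⟨t₀, ht₀U, ht₀2, ht₀1, g₀, hg₀S, hg₀U⟩ := part_iii S U n w Q hQS eQ h₂
  have hcx : ∃ g, g * w.zeta * g⁻¹ = w.wx := ⟨g₁⁻¹, by rw [← hg₁]; group⟩
  have hcy : ∃ g, g * w.zeta * g⁻¹ = w.wy := by
    obtain ⟨g, hg⟩ := hcx
    exact ⟨w.zh * g, by rw [← w.hconj, ← hg]; group⟩
  have hUz : ∀ t ∈ U, t * t = 1 → t ≠ 1 → ∃ g, g * w.zeta * g⁻¹ = t := by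
    intro t ht htt ht1
    rcases w.hinvU t ht htt with h | h | h | h
    · exact absurd h ht1
    · rw [h]; exact hcx
    · rw [h]; exact hcy
    · rw [h]; exact ⟨1, by group⟩
  have hzh : ∃ g, g * w.zeta * g⁻¹ = w.zh := by
    have h1 : (g₀ * t₀ * g₀⁻¹) * (g₀ * t₀ * g₀⁻¹) = 1 := by
      calc (g₀ * t₀ * g₀⁻¹) * (g₀ * t₀ * g₀⁻¹) = g₀ * (t₀ * t₀) * g₀⁻¹ := by group
        _ = 1 := by rw [ht₀2]; group
    obtain ⟨s, hsS, hs⟩ := w.hinvO _ hg₀S hg₀U h1
    obtain ⟨g, hg⟩ := hUz t₀ ht₀U ht₀2 ht₀1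
    refine ⟨s⁻¹ * g₀ * g, ?_⟩
    calc s⁻¹ * g₀ * g * w.zeta * (s⁻¹ * g₀ * g)⁻¹
        = s⁻¹ * (g₀ * (g * w.zeta * g⁻¹) * g₀⁻¹) * s := by group
      _ = s⁻¹ * (s * w.zh * s⁻¹) * s := by rw [hg, hs]
      _ = w.zh := by group
  have hSz : ∀ t ∈ (S : Subgroup G), t * t = 1 → t ≠ 1 → ∃ g, g * w.zeta * g⁻¹ = t := by
    intro t ht htt ht1
    by_cases htU : t ∈ U
    · exact hUz t htU htt ht1
    · obtain ⟨s, hsS, hs⟩ := w.hinvO t ht htU htt
      obtain ⟨g, hg⟩ := hzh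
      exact ⟨s * g, by rw [← hs, ← hg]; group⟩
  haveI : Fact (Nat.Prime 2) := ⟨Nat.prime_two⟩
  have hzo : orderOf w.zeta = 2 :=
    orderOf_eq_prime (by rw [pow_two]; exact w.hzeta2) w.hzeta1
  have hall : ∀ v, orderOf v = 2 → ∃ h, h * w.zeta * h⁻¹ = v := by
    intro v hv
    obtain ⟨g, hg⟩ := Cfsg.Agent.S1204.elt_conj_into_sylow S v 1 (by rw [hv, pow_one])
    have hvv : v * v = 1 := by rw [← pow_two, ← hv]; exact pow_orderOf_eq_one v
    have h1 : (g * v * g⁻¹) * (g * v * g⁻¹) = 1 := by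
      calc (g * v * g⁻¹) * (g * v * g⁻¹) = g * (v * v) * g⁻¹ := by group
        _ = 1 := by rw [hvv]; group
    have h2 : g * v * g⁻¹ ≠ 1 := by
      intro h
      have hv1 : v = 1 := conj_eq_one_iff.mp h
      rw [hv1, orderOf_one] at hv; norm_num at hv
    obtain ⟨k, hk⟩ := hSz _ hg h1 h2
    refine ⟨g⁻¹ * k, ?_⟩
    calc g⁻¹ * k * w.zeta * (g⁻¹ * k)⁻¹ = g⁻¹ * (k * w.zeta * k⁻¹) * g := by group
      _ = g⁻¹ * (g * v * g⁻¹) * g := by rw [hk]
      _ = v := by group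
  refine ⟨?_, Cfsg.Agent.S1204.conj_classes_one 2 w.zeta hzo hall⟩
  intro K hKi
  haveI hKn : K.Normal := Subgroup.normal_of_index_eq_two hKi
  have hUK : U ≤ K := U_le_K S U n w ν hνN hνodd hνC K hKi
  have hzhK : w.zh ∈ K := by
    obtain ⟨g, hg⟩ := hzh
    rw [← hg]; exact hKn.conj_mem _ (hUK w.hzetaU) g
  have hSK : (S : Subgroup G) ≤ K := by
    intro s hs
    by_cases hsU : s ∈ U
    · exact hUK hsU
    · have h1 := w.hprod w.zh w.hzhS s hs w.hzhU hsU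
      have e : s = w.zh⁻¹ * (w.zh * s) := by group
      rw [e]; exact K.mul_mem (K.inv_mem hzhK) (hUK h1)
  have h1 := Subgroup.index_dvd_of_le hSK
  rw [hKi] at h1
  exact S.not_dvd_index h1


/-- Let G be a finite group whose Sylow 2-subgroup S is wreathed of order 2^(2n+1), U the commutative subgroup of index 2 in S, Q a quaternion subgroup of order 8 of S and V = Q Z(S). If |N_G(U) : C_G(U)| = 6 and |N_G(V) : V C_G(V)| = 6, then G has no subgroup of index 2 and exactly one conjugacy class of involutions. -/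
theorem result {G : Type*} [Group G] [Finite G] (S : Sylow 2 G) (hS : Cfsg.IsWreathed (S : Subgroup G)) (n : ℕ) (hn : Nat.card S = 2 ^ (2 * n + 1)) (U : Subgroup G) (hUS : U ≤ S) (hUab : IsMulCommutative U) (hUcard : Nat.card U = 2 ^ (2 * n)) (Q : Subgroup G) (hQS : Q ≤ S) (eQ : Q ≃* QuaternionGroup 2) (h₁ : (Subgroup.centralizer (U : Set G)).relIndex (Subgroup.normalizer (U : Set G)) = 6) (h₂ : ((Q ⊔ ((Subgroup.center (S : Subgroup G)).map (S : Subgroup G).subtype)) ⊔ Subgroup.centralizer ((Q ⊔ ((Subgroup.center (S : Subgroup G)).map (S : Subgroup G).subtype) : Subgroup G) : Set G)).relIndex (Subgroup.normalizer ((Q ⊔ ((Subgroup.center (S : Subgroup G)).map (S : Subgroup G).subtype) : Subgroup G) : Set G)) = 6) : (∀ H : Subgroup G, H.index ≠ 2) ∧ Nat.card {C : ConjClasses G // ∃ t : G, orderOf t = 2 ∧ ConjClasses.mk t = C} = 1 := by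
  exact main1209 S hS n hn U hUS hUab hUcard Q hQS eQ h₁ h₂

end Cfsg.Agent.S1209
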