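import Cfsg.Statements.S1218
import Mathlib
import Cfsg.Agent.S1217
import Cfsg.Agent.S0277
import Cfsg.Agent.Lib.Helper2.HermField


set_option autoImplicit false
open scoped MatrixGroups
open Cfsg

namespace Cfsg.Agent.S1218

open Cfsg.Agent.S1217 Cfsg.Agent.S0779 Cfsg.Agent.Lib.Helper2.Herm Matrix

theorem qd_of_pair {G : Type*} [Group G] [Finite G] (x y : G) (n m : ℕ) (hn : 3 ≤ n)
    (hm : Odd m) (hcard : Nat.card G = 2 ^ (n + 1) * m) (hx : orderOf x = 2 ^ n)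
    (hy : orderOf y = 2) (hyx : y * x * y⁻¹ = x ^ (2 ^ (n - 1) - 1)) :
    ∃ Q : Sylow 2 G, Cfsg.IsQuasiDihedral (Q : Subgroup G) := by
  obtain ⟨Q, hxQ, hyQ⟩ := exists_sylow_of_pair x y _ n hx hy hyx
  refine ⟨Q, n, hn, sylow_card Q (n + 1) m hm hcard, ⟨x, hxQ⟩, ⟨y, hyQ⟩, ?_, ?_, ?_⟩
  · rw [Subgroup.orderOf_mk, hx]
  · rw [Subgroup.orderOf_mk, hy]
  · apply Subtype.ext
    simp only [Subgroup.coe_mul, Subgroup.coe_inv, Subgroup.coe_pow]
    exact hyx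

theorem wr_of_triple {G : Type*} [Group G] [Finite G] (x y z : G) (n m : ℕ) (hn : 2 ≤ n)
    (hm : Odd m) (hcard : Nat.card G = 2 ^ (2 * n + 1) * m) (hx : orderOf x = 2 ^ n)
    (hxy : x * y = y * x) (hinf : Subgroup.zpowers x ⊓ Subgroup.zpowers y = ⊥)
    (hz : orderOf z = 2) (hzx : z * x * z⁻¹ = y) :
    ∃ Q : Sylow 2 G, Cfsg.IsWreathed (Q : Subgroup G) := by
  obtain ⟨Q, hxQ, hyQ, hzQ⟩ := exists_sylow_of_triple x y z n hx hxy hz hzx
  refine ⟨Q, n, hn, sylow_card Q (2 * n + 1) m hm hcard, ⟨x, hxQ⟩, ⟨y, hyQ⟩, ⟨z, hzQ⟩,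
    ?_, ?_, ?_, ?_, ?_⟩
  · rw [Subgroup.orderOf_mk, hx]
  · apply Subtype.ext
    simp only [Subgroup.coe_mul]
    exact hxy
  · rw [Subgroup.eq_bot_iff_forall]
    intro g hg
    obtain ⟨hg1, hg2⟩ := Subgroup.mem_inf.1 hg
    obtain ⟨i, hi⟩ := Subgroup.mem_zpowers_iff.1 hg1
    obtain ⟨j, hj⟩ := Subgroup.mem_zpowers_iff.1 hg2
    have h1 : (g : G) ∈ Subgroup.zpowers x ⊓ Subgroup.zpowers y := by
      refine Subgroup.mem_inf.2 ⟨?_, ?_⟩
      · rw [← hi]; simp only [Subgroup.coe_zpow]; exact Subgroup.zpow_mem_zpowers _ i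
      · rw [← hj]; simp only [Subgroup.coe_zpow]; exact Subgroup.zpow_mem_zpowers _ j
    rw [hinf, Subgroup.mem_bot] at h1
    exact Subtype.ext h1
  · rw [Subgroup.orderOf_mk, hz]
  · apply Subtype.ext
    simp only [Subgroup.coe_mul, Subgroup.coe_inv]
    exact hzx

section
variable {F : Type*} [Field F] [Fintype F] {q : ℕ}

theorem mulVec2 (M : Matrix (Fin 2) (Fin 2) F) (v : Fin 2 → F) (i : Fin 2) :
    (M *ᵥ v) i = M i 0 * v 0 + M i 1 * v 1 := by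
  rw [Matrix.mulVec, dotProduct, Fin.sum_univ_two]

theorem herm2 (u v : Fin 2 → F) :
    Cfsg.hermForm 2 F q u v = u 0 * v 0 ^ q + u 1 * v 1 ^ q := by
  unfold Cfsg.hermForm
  rw [Fin.sum_univ_two]

theorem card_gu_two (hF : Fintype.card F = q ^ 2) :
    Nat.card (Cfsg.GU 2 F q) = q * ((q + 1) * ((q - 1) * (q + 1))) := by
  have hq := one_lt_q hF
  rw [Cfsg.Agent.S0277.result hF 2, Finset.prod_range_succ, Finset.prod_range_one,
    if_pos (by decide : Even 0), if_neg (by decide : ¬ Even 1)]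
  have e : q ^ (1 + 1) - 1 = (q - 1) * (q + 1) := by
    obtain ⟨r, hr⟩ : ∃ r, q = r + 1 := ⟨q - 1, by omega⟩
    rw [hr, Nat.add_sub_cancel]
    exact Nat.sub_eq_of_eq_add (by ring)
  rw [e]
  norm_num

/-- transfer to a subgroup -/
theorem qd_sub {G' : Type*} [Group G'] (H : Subgroup G') [Finite H] (X Y : G') (hX : X ∈ H)
    (hY : Y ∈ H) (n m : ℕ) (hn : 3 ≤ n) (hm : Odd m) (hcard : Nat.card H = 2 ^ (n + 1) * m)
    (hx : orderOf X = 2 ^ n) (hy : orderOf Y = 2) (hyx : Y * X * Y⁻¹ = X ^ (2 ^ (n - 1) - 1)) :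
    ∃ Q : Sylow 2 H, Cfsg.IsQuasiDihedral (Q : Subgroup H) := by
  apply qd_of_pair (⟨X, hX⟩ : H) ⟨Y, hY⟩ n m hn hm hcard
  · rw [Subgroup.orderOf_mk, hx]
  · rw [Subgroup.orderOf_mk, hy]
  · apply Subtype.ext
    simp only [Subgroup.coe_mul, Subgroup.coe_inv, Subgroup.coe_pow]
    exact hyx

theorem wr_sub {G' : Type*} [Group G'] (H : Subgroup G') [Finite H] (X Y Z : G') (hX : X ∈ H)
    (hY : Y ∈ H) (hZ : Z ∈ H) (n m : ℕ) (hn : 2 ≤ n) (hm : Odd m)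
    (hcard : Nat.card H = 2 ^ (2 * n + 1) * m) (hx : orderOf X = 2 ^ n)
    (hxy : X * Y = Y * X) (hinf : Subgroup.zpowers X ⊓ Subgroup.zpowers Y = ⊥)
    (hz : orderOf Z = 2) (hzx : Z * X * Z⁻¹ = Y) :
    ∃ Q : Sylow 2 H, Cfsg.IsWreathed (Q : Subgroup H) := by
  apply wr_of_triple (⟨X, hX⟩ : H) ⟨Y, hY⟩ ⟨Z, hZ⟩ n m hn hm hcard
  · rw [Subgroup.orderOf_mk, hx]
  · apply Subtype.ext
    simp only [Subgroup.coe_mul]
    exact hxy
  · rw [Subgroup.eq_bot_iff_forall]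
    intro g hg
    obtain ⟨hg1, hg2⟩ := Subgroup.mem_inf.1 hg
    obtain ⟨i, hi⟩ := Subgroup.mem_zpowers_iff.1 hg1
    obtain ⟨j, hj⟩ := Subgroup.mem_zpowers_iff.1 hg2
    have h1 : (g : G') ∈ Subgroup.zpowers X ⊓ Subgroup.zpowers Y := by
      refine Subgroup.mem_inf.2 ⟨?_, ?_⟩
      · rw [← hi]; simp only [Subgroup.coe_zpow]; exact Subgroup.zpow_mem_zpowers _ i
      · rw [← hj]; simp only [Subgroup.coe_zpow]; exact Subgroup.zpow_mem_zpowers _ j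
    rw [hinf, Subgroup.mem_bot] at h1
    exact Subtype.ext h1
  · rw [Subgroup.orderOf_mk, hz]
  · apply Subtype.ext
    simp only [Subgroup.coe_mul, Subgroup.coe_inv]
    exact hzx

/-- diagonal matrices `diag(r, r')` -/
def dg (r r' : Fˣ) : GL (Fin 2) F :=
  ⟨!![(r : F), 0; 0, (r' : F)], !![((r⁻¹ : Fˣ) : F), 0; 0, ((r'⁻¹ : Fˣ) : F)], by
    rw [Matrix.mul_fin_two, Matrix.one_fin_two]
    apply Cfsg.Agent.S2475.ext2 <;> simp, by
    rw [Matrix.mul_fin_two, Matrix.one_fin_two]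
    apply Cfsg.Agent.S2475.ext2 <;> simp⟩

theorem dg_val (r r' : Fˣ) :
    ((dg r r' : GL (Fin 2) F) : Matrix (Fin 2) (Fin 2) F) = !![(r : F), 0; 0, (r' : F)] := rfl

theorem dg_mul (r r' s s' : Fˣ) : dg r r' * dg s s' = dg (r * s) (r' * s') := by
  apply Units.ext
  rw [Units.val_mul, dg_val, dg_val, dg_val, Matrix.mul_fin_two]
  apply Cfsg.Agent.S2475.ext2 <;> simp

theorem dg_one : dg (1 : Fˣ) 1 = 1 := by
  apply Units.ext
  rw [dg_val, Units.val_one, Units.val_one, Matrix.one_fin_two]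

theorem dg_mem (r r' : Fˣ) (hr : (r : F) * (r : F) ^ q = 1) (hr' : (r' : F) * (r' : F) ^ q = 1) :
    dg r r' ∈ Cfsg.GU 2 F q := by
  intro u v
  show Cfsg.hermForm 2 F q ((dg r r' : GL (Fin 2) F).1 *ᵥ u) ((dg r r' : GL (Fin 2) F).1 *ᵥ v) = _
  rw [herm2, herm2, mulVec2, mulVec2, mulVec2, mulVec2]
  show (!![(r : F), 0; 0, (r' : F)] 0 0 * u 0 + !![(r : F), 0; 0, (r' : F)] 0 1 * u 1) *
    (!![(r : F), 0; 0, (r' : F)] 0 0 * v 0 + !![(r : F), 0; 0, (r' : F)] 0 1 * v 1) ^ q +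
    (!![(r : F), 0; 0, (r' : F)] 1 0 * u 0 + !![(r : F), 0; 0, (r' : F)] 1 1 * u 1) *
    (!![(r : F), 0; 0, (r' : F)] 1 0 * v 0 + !![(r : F), 0; 0, (r' : F)] 1 1 * v 1) ^ q = _
  simp only [Matrix.of_apply, Matrix.cons_val', Matrix.cons_val_zero, Matrix.cons_val_one,
    Matrix.cons_val_fin_one, zero_mul, add_zero, zero_add, mul_pow]
  linear_combination (u 0 * v 0 ^ q) * hr + (u 1 * v 1 ^ q) * hr'

/-- the swap matrix -/
def sw : GL (Fin 2) F :=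
  ⟨!![0, 1; 1, 0], !![0, 1; 1, 0], by
    rw [Matrix.mul_fin_two, Matrix.one_fin_two]
    apply Cfsg.Agent.S2475.ext2 <;> simp, by
    rw [Matrix.mul_fin_two, Matrix.one_fin_two]
    apply Cfsg.Agent.S2475.ext2 <;> simp⟩

theorem sw_val : ((sw : GL (Fin 2) F) : Matrix (Fin 2) (Fin 2) F) = !![0, 1; 1, 0] := rfl

theorem sw_mem : (sw : GL (Fin 2) F) ∈ Cfsg.GU 2 F q := by
  intro u v
  show Cfsg.hermForm 2 F q ((sw : GL (Fin 2) F).1 *ᵥ u) ((sw : GL (Fin 2) F).1 *ᵥ v) = _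
  rw [herm2, herm2, mulVec2, mulVec2, mulVec2, mulVec2]
  show ((!![0, 1; 1, 0] : Matrix (Fin 2) (Fin 2) F) 0 0 * u 0 +
      (!![0, 1; 1, 0] : Matrix (Fin 2) (Fin 2) F) 0 1 * u 1) *
    ((!![0, 1; 1, 0] : Matrix (Fin 2) (Fin 2) F) 0 0 * v 0 +
      (!![0, 1; 1, 0] : Matrix (Fin 2) (Fin 2) F) 0 1 * v 1) ^ q +
    ((!![0, 1; 1, 0] : Matrix (Fin 2) (Fin 2) F) 1 0 * u 0 +
      (!![0, 1; 1, 0] : Matrix (Fin 2) (Fin 2) F) 1 1 * u 1) *
    ((!![0, 1; 1, 0] : Matrix (Fin 2) (Fin 2) F) 1 0 * v 0 +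
      (!![0, 1; 1, 0] : Matrix (Fin 2) (Fin 2) F) 1 1 * v 1) ^ q = _
  simp only [Matrix.of_apply, Matrix.cons_val', Matrix.cons_val_zero, Matrix.cons_val_one,
    Matrix.cons_val_fin_one, zero_mul, add_zero, zero_add, one_mul]
  ring

theorem sw_sq : (sw : GL (Fin 2) F) ^ 2 = 1 := by
  apply Units.ext
  rw [pow_two, Units.val_mul, sw_val, Matrix.mul_fin_two, Units.val_one, Matrix.one_fin_two]
  apply Cfsg.Agent.S2475.ext2 <;> simp

theorem sw_ne : (sw : GL (Fin 2) F) ≠ 1 := by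
  intro h
  have h1 := congrArg (fun g : GL (Fin 2) F => (g : Matrix (Fin 2) (Fin 2) F) 0 0) h
  simp only [sw_val] at h1
  simp at h1

theorem sw_dg (r r' : Fˣ) : (sw : GL (Fin 2) F) * dg r r' * sw⁻¹ = dg r' r := by
  have h1 : (sw : GL (Fin 2) F) * dg r r' = dg r' r * sw := by
    apply Units.ext
    rw [Units.val_mul, Units.val_mul, dg_val, dg_val, sw_val, Matrix.mul_fin_two,
      Matrix.mul_fin_two]
    apply Cfsg.Agent.S2475.ext2 <;> simp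
  rw [h1]; group

theorem dg_pow (r r' : Fˣ) (k : ℕ) : dg r r' ^ k = dg (r ^ k) (r' ^ k) := by
  induction k with
  | zero => rw [pow_zero, pow_zero, pow_zero, dg_one]
  | succ k ih => rw [pow_succ, ih, dg_mul, pow_succ, pow_succ]

theorem dg_inj {r r' s s' : Fˣ} (h : dg r r' = dg s s') : r = s ∧ r' = s' := by
  have h0 := congrArg (fun g : GL (Fin 2) F => (g : Matrix (Fin 2) (Fin 2) F) 0 0) h
  have h1 := congrArg (fun g : GL (Fin 2) F => (g : Matrix (Fin 2) (Fin 2) F) 1 1) h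
  simp only [dg_val] at h0 h1
  simp at h0 h1
  exact ⟨Units.ext h0, Units.ext h1⟩

theorem orderOf_dg_left (r : Fˣ) : orderOf (dg r 1) = orderOf r := by
  apply orderOf_eq_orderOf_iff.2
  intro k
  rw [dg_pow, one_pow]
  constructor
  · intro h
    rw [← dg_one] at h
    exact (dg_inj h).1
  · intro h
    rw [h, dg_one]

theorem wr_part (hF : Fintype.card F = q ^ 2) (h3 : q % 4 = 3) :
    ∃ Q : Sylow 2 (Cfsg.GU 2 F q), Cfsg.IsWreathed (Q : Subgroup (Cfsg.GU 2 F q)) := by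
  classical
  have hq1 := one_lt_q hF
  obtain ⟨u, hu⟩ := IsCyclic.exists_generator (α := Fˣ)
  have hou : orderOf u = q ^ 2 - 1 := by
    rw [orderOf_eq_card_of_forall_mem_zpowers hu, Nat.card_units, Nat.card_eq_fintype_card, hF]
  obtain ⟨n, t, htodd, hnt⟩ := Nat.exists_eq_two_pow_mul_odd (n := q + 1) (by omega)
  obtain ⟨c, hc⟩ := htodd
  have hn2 : 2 ≤ n := by
    by_contra hcon
    have hs : n = 0 ∨ n = 1 := by omega
    rcases hs with rfl | rfl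
    · rw [pow_zero, one_mul] at hnt; omega
    · rw [pow_one] at hnt; omega
  have htodd : Odd t := ⟨c, hc⟩
  obtain ⟨w, hw⟩ : ∃ w, q - 1 = 2 * w := ⟨(q - 1) / 2, by omega⟩
  have hwodd : Odd w := by rw [Nat.odd_iff]; omega
  have hqodd : Odd q := by rw [Nat.odd_iff]; omega
  have hfac : q ^ 2 - 1 = 2 ^ n * (2 * w * t) := by
    rw [q_arith hq1, hw, hnt]; ring
  have hwt : 2 * w * t ≠ 0 :=
    Nat.mul_ne_zero (Nat.mul_ne_zero two_ne_zero hwodd.pos.ne') htodd.pos.ne'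
  obtain ⟨ζ, hζ⟩ : ∃ ζ : Fˣ, ζ = u ^ (2 * w * t) := ⟨_, rfl⟩
  have hoζ : orderOf ζ = 2 ^ n := by
    rw [hζ, orderOf_pow_of_dvd hwt ⟨2 ^ n, by rw [hou, hfac]; ring⟩, hou, hfac,
      Nat.mul_div_cancel _ (Nat.pos_of_ne_zero hwt)]
  have hζq : (ζ : F) * (ζ : F) ^ q = 1 := by
    have h1 : ζ ^ (q + 1) = 1 := by
      rw [hnt, pow_mul, ← hoζ, pow_orderOf_eq_one, one_pow]
    have h2 := congrArg (fun r : Fˣ => (r : F)) h1
    simp only [Units.val_pow_eq_pow_val, Units.val_one] at h2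
    rw [← h2, pow_succ']
  have h1q : ((1 : Fˣ) : F) * ((1 : Fˣ) : F) ^ q = 1 := by simp
  have hcard : Nat.card (Cfsg.GU 2 F q) = 2 ^ (2 * n + 1) * (q * t * w * t) := by
    rw [card_gu_two hF, hw, hnt]; ring
  have hm : Odd (q * t * w * t) := ((hqodd.mul htodd).mul hwodd).mul htodd
  apply wr_sub (Cfsg.GU 2 F q) (dg ζ 1) (dg 1 ζ) sw (dg_mem ζ 1 hζq h1q) (dg_mem 1 ζ h1q hζq)
    sw_mem n _ hn2 hm hcard
  · rw [orderOf_dg_left, hoζ]
  · rw [dg_mul, dg_mul, mul_one, one_mul]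
  · rw [Subgroup.eq_bot_iff_forall]
    intro g hg
    obtain ⟨hg1, hg2⟩ := Subgroup.mem_inf.1 hg
    obtain ⟨i, hi⟩ := Subgroup.mem_zpowers_iff.1 hg1
    obtain ⟨j, hj⟩ := Subgroup.mem_zpowers_iff.1 hg2
    have h00 := congrArg (fun g : GL (Fin 2) F => (g : Matrix (Fin 2) (Fin 2) F) 0 0)
      (hi.trans hj.symm)
    have key : ∀ (r r' : Fˣ) (i : ℤ), dg r r' ^ i = dg (r ^ i) (r' ^ i) := by
      intro r r' i
      cases i with
      | ofNat k => simp only [Int.ofNat_eq_natCast, zpow_natCast]; exact dg_pow r r' k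
      | negSucc k =>
        rw [zpow_negSucc, zpow_negSucc, zpow_negSucc, dg_pow]
        apply inv_eq_of_mul_eq_one_right
        rw [dg_mul, mul_inv_cancel, mul_inv_cancel, dg_one]
    simp only [key, dg_val] at h00
    simp at h00
    have hζi : ζ ^ i = 1 := by
      apply Units.ext
      rw [Units.val_zpow_eq_zpow_val, Units.val_one]
      exact h00
    rw [← hi, key, hζi, _root_.one_zpow, dg_one]
  · exact orderOf_eq_prime sw_sq sw_ne
  · exact sw_dg ζ 1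

theorem qd_part (hF : Fintype.card F = q ^ 2) (h1 : q % 4 = 1) :
    ∃ Q : Sylow 2 (Cfsg.GU 2 F q), Cfsg.IsQuasiDihedral (Q : Subgroup (Cfsg.GU 2 F q)) := by
  classical
  have hq1 := one_lt_q hF
  have hqodd : Odd q := by rw [Nat.odd_iff]; omega
  have hFodd : Odd (Fintype.card F) := by rw [hF]; exact hqodd.pow
  have h2ne : (2 : F) ≠ 0 := Cfsg.Agent.S0268.two_ne_zero_of_odd_card hFodd
  obtain ⟨u, hu⟩ := IsCyclic.exists_generator (α := Fˣ)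
  have hou : orderOf u = q ^ 2 - 1 := by
    rw [orderOf_eq_card_of_forall_mem_zpowers hu, Nat.card_units, Nat.card_eq_fintype_card, hF]
  obtain ⟨s, w, hwodd, hsw⟩ := Nat.exists_eq_two_pow_mul_odd (n := q - 1) (by omega)
  obtain ⟨c, hc⟩ := hwodd
  have hs2 : 2 ≤ s := by
    by_contra hcon
    have hs : s = 0 ∨ s = 1 := by omega
    rcases hs with rfl | rfl
    · rw [pow_zero, one_mul] at hsw; omega
    · rw [pow_one] at hsw; omega
  have hwodd : Odd w := ⟨c, hc⟩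
  obtain ⟨t, ht⟩ : ∃ t, q + 1 = 2 * t := ⟨(q + 1) / 2, by omega⟩
  have htodd : Odd t := by rw [Nat.odd_iff]; omega
  have hfac : q ^ 2 - 1 = 2 ^ (s + 1) * (w * t) := by
    rw [q_arith hq1, hsw, ht]; ring
  have hwt : w * t ≠ 0 := Nat.mul_ne_zero hwodd.pos.ne' htodd.pos.ne'
  obtain ⟨l, hl⟩ : ∃ l : Fˣ, l = u ^ (w * t) := ⟨_, rfl⟩
  have hol : orderOf l = 2 ^ (s + 1) := by
    rw [hl, orderOf_pow_of_dvd hwt ⟨2 ^ (s + 1), by rw [hou, hfac]; ring⟩, hou, hfac,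
      Nat.mul_div_cancel _ (Nat.pos_of_ne_zero hwt)]
  -- `μ = (λ^q)⁻¹ = λ^(2^s - 1)`
  have hqs : q + (2 ^ s - 1) = 2 ^ (s + 1) * (c + 1) := by
    have h1 : 1 ≤ 2 ^ s := Nat.one_le_two_pow
    have h2 : q - 1 + 2 ^ s = 2 ^ (s + 1) * (c + 1) := by rw [hsw, hc]; ring
    omega
  have hmu : (l ^ q)⁻¹ = l ^ (2 ^ s - 1) := by
    apply inv_eq_of_mul_eq_one_right
    rw [← pow_add, hqs, pow_mul, ← hol, pow_orderOf_eq_one, one_pow]
  have hlq2 : (l ^ q) ^ q = l := by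
    apply Units.ext
    rw [Units.val_pow_eq_pow_val, Units.val_pow_eq_pow_val, ← pow_mul, ← sq, ← hF,
      FiniteField.pow_card]
  -- the isotropic basis
  obtain ⟨ε, hε⟩ := norm_surj hF (-1 : F) (Odd.neg_one_pow hqodd)
  have hε0 : ε ≠ 0 := by
    rintro rfl
    rw [zero_mul] at hε
    exact one_ne_zero (neg_eq_zero.1 hε.symm)
  have hdet : (!![1, 1; ε, -ε] : Matrix (Fin 2) (Fin 2) F).det ≠ 0 := by
    rw [Matrix.det_fin_two_of]
    intro h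
    have : (2 : F) * ε = 0 := by linear_combination -h
    rcases mul_eq_zero.1 this with h' | h'
    · exact h2ne h'
    · exact hε0 h'
  obtain ⟨P, hP⟩ : ∃ P : GL (Fin 2) F, (P : Matrix (Fin 2) (Fin 2) F) = !![1, 1; ε, -ε] :=
    ⟨Matrix.GeneralLinearGroup.mkOfDetNeZero _ hdet, rfl⟩
  have hform : ∀ a b : Fin 2 → F, Cfsg.hermForm 2 F q ((P : Matrix (Fin 2) (Fin 2) F) *ᵥ a)
      ((P : Matrix (Fin 2) (Fin 2) F) *ᵥ b) = 2 * (a 0 * b 1 ^ q + a 1 * b 0 ^ q) := by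
    intro a b
    rw [herm2, mulVec2, mulVec2, mulVec2, mulVec2, hP]
    show (1 * a 0 + 1 * a 1) * (1 * b 0 + 1 * b 1) ^ q +
      (ε * a 0 + -ε * a 1) * (ε * b 0 + -ε * b 1) ^ q = _
    rw [add_pow_q hF, add_pow_q hF, mul_pow, mul_pow, mul_pow, mul_pow, neg_pow_q hF, one_pow]
    linear_combination ((a 0 - a 1) * (b 0 ^ q - b 1 ^ q)) * hε
  -- the torus element
  obtain ⟨X, hX⟩ : ∃ X : GL (Fin 2) F, X = P * dg l (l ^ q)⁻¹ * P⁻¹ := ⟨_, rfl⟩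
  have hXP : (X : Matrix (Fin 2) (Fin 2) F) * (P : Matrix (Fin 2) (Fin 2) F) =
      (P : Matrix (Fin 2) (Fin 2) F) * !![(l : F), 0; 0, ((l ^ q)⁻¹ : Fˣ)] := by
    have h1 : X * P = P * dg l (l ^ q)⁻¹ := by rw [hX]; group
    have h2 := congrArg (fun g : GL (Fin 2) F => (g : Matrix (Fin 2) (Fin 2) F)) h1
    simp only [Units.val_mul, dg_val] at h2
    exact h2
  have hlm1 : (l : F) * (((l ^ q)⁻¹ : Fˣ) : F) ^ q = 1 := by
    have h1 : l * ((l ^ q)⁻¹) ^ q = 1 := by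
      rw [inv_pow, hlq2, mul_inv_cancel]
    have h2 := congrArg (fun r : Fˣ => (r : F)) h1
    simp only [Units.val_mul, Units.val_pow_eq_pow_val, Units.val_one] at h2
    exact h2
  have hlm2 : (((l ^ q)⁻¹ : Fˣ) : F) * (l : F) ^ q = 1 := by
    have h1 : (l ^ q)⁻¹ * l ^ q = 1 := inv_mul_cancel _
    have h2 := congrArg (fun r : Fˣ => (r : F)) h1
    simp only [Units.val_mul, Units.val_pow_eq_pow_val, Units.val_one] at h2
    exact h2
  have hXmem : X ∈ Cfsg.GU 2 F q := by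
    intro u' v'
    show Cfsg.hermForm 2 F q ((X : Matrix (Fin 2) (Fin 2) F) *ᵥ u')
      ((X : Matrix (Fin 2) (Fin 2) F) *ᵥ v') = _
    have hrep : ∀ u' : Fin 2 → F, u' = (P : Matrix (Fin 2) (Fin 2) F) *ᵥ
        (((P⁻¹ : GL (Fin 2) F) : Matrix (Fin 2) (Fin 2) F) *ᵥ u') := by
      intro u'
      rw [Matrix.mulVec_mulVec, ← Units.val_mul, mul_inv_cancel, Units.val_one,
        Matrix.one_mulVec]
    obtain ⟨a, ha⟩ : ∃ a, a = ((P⁻¹ : GL (Fin 2) F) : Matrix (Fin 2) (Fin 2) F) *ᵥ u' :=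
      ⟨_, rfl⟩
    obtain ⟨b, hb⟩ : ∃ b, b = ((P⁻¹ : GL (Fin 2) F) : Matrix (Fin 2) (Fin 2) F) *ᵥ v' :=
      ⟨_, rfl⟩
    rw [hrep u', hrep v', ← ha, ← hb, Matrix.mulVec_mulVec, Matrix.mulVec_mulVec, hXP,
      ← Matrix.mulVec_mulVec, ← Matrix.mulVec_mulVec, hform, hform, mulVec2, mulVec2, mulVec2,
      mulVec2]
    show 2 * (((l : F) * a 0 + 0 * a 1) * (0 * b 0 + (((l ^ q)⁻¹ : Fˣ) : F) * b 1) ^ q +
      (0 * a 0 + (((l ^ q)⁻¹ : Fˣ) : F) * a 1) * ((l : F) * b 0 + 0 * b 1) ^ q) = _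
    rw [zero_mul, zero_mul, zero_mul, zero_mul, add_zero, zero_add, zero_add, add_zero,
      mul_pow, mul_pow]
    linear_combination (2 * a 0 * b 1 ^ q) * hlm1 + (2 * a 1 * b 0 ^ q) * hlm2
  have hXpow : ∀ k : ℕ, X ^ k = P * dg (l ^ k) ((l ^ q)⁻¹ ^ k) * P⁻¹ := by
    intro k
    rw [hX, conj_pow, dg_pow]
  have hXo : orderOf X = 2 ^ (s + 1) := by
    rw [← hol]
    apply orderOf_eq_orderOf_iff.2
    intro k
    rw [hXpow]
    constructor
    · intro h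
      have h1 : dg (l ^ k) ((l ^ q)⁻¹ ^ k) = 1 := by
        have : dg (l ^ k) ((l ^ q)⁻¹ ^ k) =
            P⁻¹ * (P * dg (l ^ k) ((l ^ q)⁻¹ ^ k) * P⁻¹) * P := by group
        rw [this, h]; group
      rw [← dg_one] at h1
      exact (dg_inj h1).1
    · intro h
      have hk2 : (l ^ q)⁻¹ ^ k = 1 := by
        rw [inv_pow, ← pow_mul, mul_comm, pow_mul, h, one_pow, inv_one]
      rw [h, hk2, dg_one]
      group
  -- the involution
  have hYmem : dg (1 : Fˣ) (-1) ∈ Cfsg.GU 2 F q := by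
    apply dg_mem
    · simp
    · rw [Units.val_neg, Units.val_one, Odd.neg_one_pow hqodd]; ring
  have hY2 : dg (1 : Fˣ) (-1) ^ 2 = 1 := by
    rw [dg_pow, one_pow, neg_one_sq, dg_one]
  have hYne : dg (1 : Fˣ) (-1) ≠ 1 := by
    intro h
    rw [← dg_one] at h
    have h1 := (dg_inj h).2
    have h2 := congrArg (fun r : Fˣ => (r : F)) h1
    simp only [Units.val_neg, Units.val_one] at h2
    apply h2ne
    linear_combination -h2
  have hYo : orderOf (dg (1 : Fˣ) (-1)) = 2 := orderOf_eq_prime hY2 hYne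
  have hYP : dg (1 : Fˣ) (-1) * P = P * sw := by
    apply Units.ext
    rw [Units.val_mul, Units.val_mul, dg_val, sw_val, hP, Matrix.mul_fin_two, Matrix.mul_fin_two]
    apply Cfsg.Agent.S2475.ext2 <;> simp
  have hYX : dg (1 : Fˣ) (-1) * X * (dg (1 : Fˣ) (-1))⁻¹ = X ^ (2 ^ s - 1) := by
    have hY' : dg (1 : Fˣ) (-1) = P * sw * P⁻¹ := eq_mul_inv_of_mul_eq hYP
    have h1 : dg (1 : Fˣ) (-1) * X * (dg (1 : Fˣ) (-1))⁻¹ =
        P * (sw * dg l (l ^ q)⁻¹ * sw⁻¹) * P⁻¹ := by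
      rw [hY', hX]; group
    have hmu2 : (l ^ q)⁻¹ ^ (2 ^ s - 1) = l := by
      calc (l ^ q)⁻¹ ^ (2 ^ s - 1) = ((l ^ (2 ^ s - 1)) ^ q)⁻¹ := by
            rw [inv_pow, ← pow_mul, mul_comm, pow_mul]
        _ = (((l ^ q)⁻¹) ^ q)⁻¹ := by rw [← hmu]
        _ = l := by rw [inv_pow, hlq2, inv_inv]
    rw [h1, sw_dg, hXpow, hmu2, ← hmu]
  have hcard : Nat.card (Cfsg.GU 2 F q) = 2 ^ (s + 1 + 1) * (q * t * w * t) := by
    rw [card_gu_two hF, hsw, ht]; ring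
  have hm : Odd (q * t * w * t) := ((hqodd.mul htodd).mul hwodd).mul htodd
  exact qd_sub (Cfsg.GU 2 F q) X (dg 1 (-1)) hXmem hYmem (s + 1) _ (by omega) hm hcard hXo hYo
    (by rw [Nat.add_sub_cancel]; exact hYX)

end

/-- Let F be a finite field with q² elements, q odd, let GU be the subgroup of GL(2,F) preserving the Hermitian form u₁v₁^q + u₂v₂^q, and P a Sylow 2-subgroup of GU. If q ≡ 1 (mod 4) then P is quasi-dihedral; if q ≡ 3 (mod 4) then P is wreathed. -/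
theorem result {F : Type*} [Field F] [Fintype F] (q : ℕ) (hF : Fintype.card F = q ^ 2) (hq : Odd q) (P : Sylow 2 ↥(Cfsg.preserving (Units.coeHom (Matrix (Fin 2) (Fin 2) F)) (Cfsg.hermForm 2 F q))) : (q % 4 = 1 → Cfsg.IsQuasiDihedral (P : Subgroup ↥(Cfsg.preserving (Units.coeHom (Matrix (Fin 2) (Fin 2) F)) (Cfsg.hermForm 2 F q)))) ∧ (q % 4 = 3 → Cfsg.IsWreathed (P : Subgroup ↥(Cfsg.preserving (Units.coeHom (Matrix (Fin 2) (Fin 2) F)) (Cfsg.hermForm 2 F q)))) := by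
  classical
  constructor
  · intro h1
    obtain ⟨Q, hQ⟩ := qd_part (F := F) hF h1
    exact qd_of_equiv (Sylow.equiv Q P) hQ
  · intro h3
    obtain ⟨Q, hQ⟩ := wr_part (F := F) hF h3
    exact wr_of_equiv (Sylow.equiv Q P) hQ


end Cfsg.Agent.S1218
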