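import Mathlib
import Cfsg.Statements.S2360
import Cfsg.Agent.S2644
import Cfsg.Agent.S2234
import Cfsg.Agent.S0278
import Cfsg.Agent.S0781
import Cfsg.Agent.Lib.Helper2.HermCount
import Cfsg.Agent.Lib.Helper2.Quad

set_option autoImplicit false
open Cfsg

namespace Cfsg.Agent.S2360

open Cfsg.Agent.S0779 Cfsg.Agent.Lib.Helper5 Cfsg.Agent.Lib.Helper2.Herm Matrix

section
variable {F : Type*} [Field F] [Fintype F] {q : ℕ}

theorem herm_neg_left (n : ℕ) (x y : Fin n → F) :
    Cfsg.hermForm n F q (-x) y = - Cfsg.hermForm n F q x y := by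
  have := herm_smul_left (q := q) n (-1 : F) x y
  rwa [neg_one_smul, neg_one_mul] at this

theorem herm_neg_right (hF : Fintype.card F = q ^ 2) (n : ℕ) (x y : Fin n → F) :
    Cfsg.hermForm n F q x (-y) = - Cfsg.hermForm n F q x y := by
  have := herm_smul_right (q := q) n (-1 : F) x y
  rwa [neg_one_smul, neg_pow_q hF, one_pow, neg_one_mul] at this

/-- the matrix of `x ↦ -x + 2 h(x,w) w` -/
def Rm (n q : ℕ) (w : Fin n → F) : Matrix (Fin n) (Fin n) F :=
  -1 + (2 : F) • Matrix.vecMulVec w (fun j => w j ^ q)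

theorem Rm_mulVec (n : ℕ) (w x : Fin n → F) :
    Rm n q w *ᵥ x = -x + (2 * Cfsg.hermForm n F q x w) • w := by
  unfold Rm
  rw [Matrix.add_mulVec, Matrix.neg_mulVec, Matrix.one_mulVec, Matrix.smul_mulVec,
    Cfsg.Agent.S0781.vmv_mulVec, smul_smul]

theorem Rm_pres (hF : Fintype.card F = q ^ 2) (n : ℕ) (w : Fin n → F)
    (hw : Cfsg.hermForm n F q w w = 1) (x y : Fin n → F) :
    Cfsg.hermForm n F q (Rm n q w *ᵥ x) (Rm n q w *ᵥ y) = Cfsg.hermForm n F q x y := by
  have h2q : (2 : F) ^ q = 2 := by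
    have : (2 : F) = 1 + 1 := by norm_num
    rw [this, add_pow_q hF, one_pow]
  rw [Rm_mulVec, Rm_mulVec, herm_add_left, herm_add_right n hF, herm_add_right n hF,
    herm_neg_left, herm_neg_left, herm_neg_right hF, herm_smul_left, herm_smul_left,
    herm_smul_right, herm_smul_right, herm_neg_right hF, hw, mul_pow, h2q,
    herm_pow_q n hF y w]
  ring

theorem Rm_sq (hF : Fintype.card F = q ^ 2) (n : ℕ) (w : Fin n → F)
    (hw : Cfsg.hermForm n F q w w = 1) : Rm n q w * Rm n q w = 1 := by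
  apply Matrix.toLin'.injective
  apply LinearMap.ext
  intro x
  rw [Matrix.toLin'_apply, ← Matrix.mulVec_mulVec, Rm_mulVec, Rm_mulVec, herm_add_left,
    herm_neg_left, herm_smul_left, hw, Matrix.toLin'_apply, Matrix.one_mulVec]
  module

theorem Rm_det (n : ℕ) (hn : Odd n) (w : Fin n → F)
    (hw : Cfsg.hermForm n F q w w = 1) : (Rm n q w).det = 1 := by
  have h1 : Rm n q w = -(1 + (-2 : F) • Matrix.vecMulVec w (fun j => w j ^ q)) := by
    unfold Rm
    rw [neg_add, neg_smul, neg_neg]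
  rw [h1, Matrix.det_neg, Cfsg.Agent.Lib.Helper2.det_one_add_smul_vecMulVec, Fintype.card_fin, hn.neg_one_pow]
  have : (fun j => w j ^ q) ⬝ᵥ w = Cfsg.hermForm n F q w w := by
    unfold Cfsg.hermForm dotProduct
    apply Finset.sum_congr rfl
    intro i _
    ring
  rw [this, hw]
  ring

theorem Rm_smul (n : ℕ) (w : Fin n → F) (l : F) (hl : l * l ^ q = 1) :
    Rm n q (l • w) = Rm n q w := by
  unfold Rm
  congr 2
  ext i j
  simp only [Matrix.vecMulVec_apply, Pi.smul_apply, smul_eq_mul, mul_pow]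
  calc l * w i * (l ^ q * w j ^ q) = (l * l ^ q) * (w i * w j ^ q) := by ring
    _ = w i * w j ^ q := by rw [hl, one_mul]

theorem det_of_eigenbasis {N : Type*} [Fintype N] [DecidableEq N] {ι : Type*} [Fintype ι]
    [DecidableEq ι] (T : Matrix N N F) (B : Module.Basis ι F (N → F)) (χ : ι → F)
    (h : ∀ j, T *ᵥ (B j) = χ j • B j) : T.det = ∏ j, χ j := by
  have h1 : LinearMap.toMatrix B B (Matrix.toLin' T) = Matrix.diagonal χ := by
    ext i j
    rw [LinearMap.toMatrix_apply, Matrix.toLin'_apply, h, map_smul, B.repr_self,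
      Finsupp.smul_apply, Finsupp.single_apply, Matrix.diagonal_apply]
    by_cases hij : i = j
    · subst hij; simp
    · rw [if_neg (fun h => hij h.symm), if_neg hij, smul_zero]
  rw [← LinearMap.det_toLin', ← LinearMap.det_toMatrix B, h1, Matrix.det_diagonal]

theorem invol_struct (hF : Fintype.card F = q ^ 2) (h2 : (2:F) ≠ 0)
    (T : Matrix (Fin 3) (Fin 3) F)
    (hT : ∀ u v, Cfsg.hermForm 3 F q (T *ᵥ u) (T *ᵥ v) = Cfsg.hermForm 3 F q u v)
    (hsq : T * T = 1) (hdet : T.det = 1) (hne : T ≠ 1) :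
    ∃ w : Fin 3 → F, Cfsg.hermForm 3 F q w w = 1 ∧ T = Rm 3 q w := by
  classical
  have hq := one_lt_q hF
  obtain ⟨b, B0, hB0, hbE⟩ := Cfsg.Agent.S2234.exists_eigenbasis h2 (fun _ : Unit => T)
    (fun _ => hsq) (fun _ _ => rfl)
  haveI : Fintype b := Fintype.ofFinite b
  have hcard : Fintype.card b = 3 := by
    rw [← Module.finrank_eq_card_basis B0, Module.finrank_fin_fun]
  let e : b ≃ Fin 3 := Fintype.equivFinOfCardEq hcard
  let B : Module.Basis (Fin 3) F (Fin 3 → F) := B0.reindex e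
  have hBE : ∀ i, T *ᵥ B i = B i ∨ T *ᵥ B i = -B i := by
    intro i
    have := hbE (e.symm i) ()
    rw [← hB0] at this
    simpa [B, Module.Basis.reindex_apply] using this
  let s : Fin 3 → F := fun i => if T *ᵥ B i = B i then 1 else -1
  have hs : ∀ i, T *ᵥ B i = s i • B i := by
    intro i
    simp only [s]
    split_ifs with h
    · rw [h, one_smul]
    · rcases hBE i with h' | h'
      · exact absurd h' h
      · rw [h', neg_smul, one_smul]
  have hs1 : ∀ i, s i = 1 ∨ s i = -1 := by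
    intro i; simp only [s]; split_ifs <;> simp
  have hprod : s 0 * s 1 * s 2 = 1 := by
    have := det_of_eigenbasis T B s hs
    rw [hdet, Fin.prod_univ_three] at this
    exact this.symm
  have hnot : ¬ (∀ i, s i = 1) := by
    intro hall
    apply hne
    apply Matrix.toLin'.injective
    apply B.ext
    intro i
    rw [Matrix.toLin'_apply, hs, hall, one_smul, Matrix.toLin'_one]; rfl
  have hm : (-1 : F) ≠ 1 := by
    intro h
    apply h2
    linear_combination -h
  obtain ⟨i0, hi0, hothers⟩ : ∃ i0, s i0 = 1 ∧ ∀ i, i ≠ i0 → s i = -1 := by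
    rcases hs1 0 with h0 | h0 <;> rcases hs1 1 with h1 | h1 <;> rcases hs1 2 with h2' | h2'
    · exfalso; apply hnot; intro i; fin_cases i <;> assumption
    · exfalso; rw [h0, h1, h2'] at hprod; exact hm (by linear_combination hprod)
    · exfalso; rw [h0, h1, h2'] at hprod; exact hm (by linear_combination hprod)
    · refine ⟨0, h0, ?_⟩
      intro i hi; fin_cases i
      · exact absurd rfl hi
      · exact h1
      · exact h2'
    · exfalso; rw [h0, h1, h2'] at hprod; exact hm (by linear_combination hprod)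
    · refine ⟨1, h1, ?_⟩
      intro i hi; fin_cases i
      · exact h0
      · exact absurd rfl hi
      · exact h2'
    · refine ⟨2, h2', ?_⟩
      intro i hi; fin_cases i
      · exact h0
      · exact h1
      · exact absurd rfl hi
    · exfalso; rw [h0, h1, h2'] at hprod; exact hm (by linear_combination hprod)
  set w0 : Fin 3 → F := B i0 with hw0
  have hTw0 : T *ᵥ w0 = w0 := by rw [hw0, hs, hi0, one_smul]
  have horth : ∀ i, i ≠ i0 → Cfsg.hermForm 3 F q (B i) w0 = 0 := by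
    intro i hi
    have h := hT (B i) w0
    rw [hTw0, hs, hothers i hi, neg_one_smul, herm_neg_left] at h
    have h3 : (2 : F) * Cfsg.hermForm 3 F q (B i) w0 = 0 := by linear_combination -h
    exact (mul_eq_zero.mp h3).resolve_left h2
  set a : F := Cfsg.hermForm 3 F q w0 w0 with ha
  have ha0 : a ≠ 0 := by
    intro h0
    have hL : hermL 3 q w0 = 0 := by
      apply B.ext
      intro i
      rw [hermL_apply, LinearMap.zero_apply]
      by_cases hi : i = i0
      · rw [hi]; exact h0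
      · exact horth i hi
    have hw00 : w0 = 0 := by
      apply Cfsg.Agent.S2644.nondeg_top (q := q) hF 3 w0 Submodule.mem_top
      intro v _
      rw [← herm_pow_q 3 hF v w0]
      have := congrArg (fun L : (Fin 3 → F) →ₗ[F] F => L v) hL
      simp only [hermL_apply, LinearMap.zero_apply] at this
      rw [this, zero_pow (by omega)]
    exact B.ne_zero i0 hw00
  obtain ⟨l, hl⟩ := norm_surj hF a (herm_self_fix hF 3 w0)
  have hl0 : l ≠ 0 := by
    rintro rfl
    rw [zero_mul] at hl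
    exact ha0 hl.symm
  have hlq0 : l ^ q ≠ 0 := pow_ne_zero _ hl0
  refine ⟨l⁻¹ • w0, ?_, ?_⟩
  · rw [herm_smul_left, herm_smul_right, ← ha, ← hl, inv_pow]
    field_simp
  · apply Matrix.toLin'.injective
    apply B.ext
    intro i
    rw [Matrix.toLin'_apply, Matrix.toLin'_apply, Rm_mulVec, herm_smul_right]
    by_cases hi : i = i0
    · rw [hi, ← hw0, hTw0, ← ha, smul_smul, ← hl, inv_pow]
      have : 2 * ((l ^ q)⁻¹ * (l * l ^ q)) * l⁻¹ = 2 := by field_simp
      rw [this]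
      module
    · rw [hs, hothers i hi, horth i hi, mul_zero, mul_zero, zero_smul, add_zero, neg_one_smul]

theorem exists_su_unit (hF : Fintype.card F = q ^ 2) (w : Fin 3 → F)
    (hw : Cfsg.hermForm 3 F q w w = 1) :
    ∃ A : ↥(Cfsg.SU 3 F q),
      (A.1.1 : Matrix (Fin 3) (Fin 3) F) *ᵥ (Pi.single 0 1) = w := by
  classical
  have hq := one_lt_q hF
  have htop := Cfsg.Agent.S2644.nondeg_top (q := q) hF 3
  have hS1 : HNondeg 3 q (perpIn 3 q ⊤ w) :=
    perpIn_nondeg hF _ ⊤ htop w Submodule.mem_top hw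
  have f1 := finrank_perpIn (q := q) 3 (⊤ : Submodule F (Fin 3 → F)) w Submodule.mem_top hw
  rw [finrank_top, Module.finrank_fin_fun] at f1
  obtain ⟨r, hrS, hrON⟩ := exists_ON_family hF 3 2 _ (by omega) hS1
  have hr1 : ∀ i, Cfsg.hermForm 3 F q (r i) w = 0 := fun i => (mem_perpIn.1 (hrS i)).2
  have h1r : ∀ i, Cfsg.hermForm 3 F q w (r i) = 0 := by
    intro i
    rw [← herm_pow_q _ hF (r i) w, hr1 i, zero_pow (by omega)]
  have hON : Cfsg.Agent.Lib.Helper2.Herm.IsON 3 q (Fin.cons w r : Fin 3 → (Fin 3 → F)) := isON_cons hF w r hrON hw h1r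
  set M0 : Matrix (Fin 3) (Fin 3) F :=
    Matrix.of (fun k i => (Fin.cons w r : Fin 3 → (Fin 3 → F)) i k) with hM0
  have hM0ON : Cfsg.Agent.Lib.Helper2.Herm.IsON 3 q (fun i k => M0 k i) := hON
  have hdet := det_norm hF 3 M0 hM0ON
  have hdne : M0.det ≠ 0 := by
    intro h
    rw [h, zero_mul] at hdet
    exact zero_ne_one hdet
  set d : Fin 3 → F := Function.update (fun _ => (1 : F)) 1 (M0.det)⁻¹ with hd
  have hdn : ∀ k, d k * d k ^ q = 1 := by
    intro k
    by_cases hk : k = 1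
    · rw [hk, hd, Function.update_self, inv_pow, ← mul_inv, hdet, inv_one]
    · rw [hd, Function.update_of_ne hk, one_pow, mul_one]
  have hpres : ∀ u v : Fin 3 → F,
      Cfsg.hermForm 3 F q ((M0 * Matrix.diagonal d) *ᵥ u) ((M0 * Matrix.diagonal d) *ᵥ v)
        = Cfsg.hermForm 3 F q u v := by
    intro u v
    rw [← Matrix.mulVec_mulVec, ← Matrix.mulVec_mulVec, preserves_of_ON hF _ M0 hM0ON,
      preserves_of_ON hF _ _ (diag_ON hF _ d hdn)]
  have hdet1 : (M0 * Matrix.diagonal d).det = 1 := by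
    rw [Matrix.det_mul, Matrix.det_diagonal, hd,
      Finset.prod_update_of_mem (Finset.mem_univ (1 : Fin 3)), Finset.prod_const_one, mul_one,
      mul_inv_cancel₀ hdne]
  refine ⟨suOfPres _ _ hpres hdet1, ?_⟩
  rw [suOfPres_val, ← Matrix.mulVec_mulVec]
  have hx : Matrix.diagonal d *ᵥ (Pi.single 0 1 : Fin 3 → F) = Pi.single 0 1 := by
    funext k
    rw [Matrix.mulVec_diagonal]
    by_cases hk : k = 1
    · rw [hk, Pi.single_eq_of_ne (by decide), mul_zero]
    · rw [hd, Function.update_of_ne hk, one_mul]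
  rw [hx, Matrix.mulVec_single_one]
  funext k
  simp [M0]

theorem su_inv_mul (g : ↥(Cfsg.SU 3 F q)) :
    (g.1.1 : Matrix (Fin 3) (Fin 3) F) * ((g⁻¹ : ↥(Cfsg.SU 3 F q)).1.1 : Matrix (Fin 3) (Fin 3) F) = 1 := by
  rw [← su_mul_val, mul_inv_cancel]; rfl

theorem su_inv_mul' (g : ↥(Cfsg.SU 3 F q)) :
    ((g⁻¹ : ↥(Cfsg.SU 3 F q)).1.1 : Matrix (Fin 3) (Fin 3) F) * (g.1.1 : Matrix (Fin 3) (Fin 3) F) = 1 := by
  rw [← su_mul_val, inv_mul_cancel]; rfl

theorem conj_Rm (g : ↥(Cfsg.SU 3 F q)) (w : Fin 3 → F) :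
    (g.1.1 : Matrix (Fin 3) (Fin 3) F) * Rm 3 q w *
      ((g⁻¹ : ↥(Cfsg.SU 3 F q)).1.1 : Matrix (Fin 3) (Fin 3) F) =
      Rm 3 q ((g.1.1 : Matrix (Fin 3) (Fin 3) F) *ᵥ w) := by
  have hgg := su_inv_mul g
  have hh : ∀ x, Cfsg.hermForm 3 F q (((g⁻¹ : ↥(Cfsg.SU 3 F q)).1.1 : Matrix (Fin 3) (Fin 3) F) *ᵥ x) w =
      Cfsg.hermForm 3 F q x ((g.1.1 : Matrix (Fin 3) (Fin 3) F) *ᵥ w) := by
    intro x
    rw [← su_pres 3 g (((g⁻¹ : ↥(Cfsg.SU 3 F q)).1.1 : Matrix (Fin 3) (Fin 3) F) *ᵥ x) w,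
      Matrix.mulVec_mulVec, hgg, Matrix.one_mulVec]
  apply Matrix.toLin'.injective
  apply LinearMap.ext
  intro x
  rw [Matrix.toLin'_apply, Matrix.toLin'_apply, ← Matrix.mulVec_mulVec, ← Matrix.mulVec_mulVec,
    Rm_mulVec, Rm_mulVec, Matrix.mulVec_add, Matrix.mulVec_neg, Matrix.mulVec_smul,
    Matrix.mulVec_mulVec, hgg, Matrix.one_mulVec, hh]

theorem invol_of_su (hF : Fintype.card F = q ^ 2) (h2 : (2:F) ≠ 0) (t : ↥(Cfsg.SU 3 F q))
    (ht : t ≠ 1) (ht2 : t * t = 1) :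
    ∃ w : Fin 3 → F, Cfsg.hermForm 3 F q w w = 1 ∧
      (t.1.1 : Matrix (Fin 3) (Fin 3) F) = Rm 3 q w := by
  apply invol_struct hF h2 _ (su_pres 3 t)
  · rw [← su_mul_val, ht2]; rfl
  · exact t.1.2
  · intro h
    apply ht
    apply Subtype.ext
    apply Subtype.ext
    exact h

theorem part1 (hF : Fintype.card F = q ^ 2) (h2 : (2:F) ≠ 0) (t x : ↥(Cfsg.SU 3 F q))
    (ht : t ≠ 1) (ht2 : t * t = 1) (hx : x ≠ 1) (hx2 : x * x = 1) :
    ∃ g : ↥(Cfsg.SU 3 F q), g * t * g⁻¹ = x := by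
  obtain ⟨w, hw, hTw⟩ := invol_of_su hF h2 t ht ht2
  obtain ⟨w', hw', hXw⟩ := invol_of_su hF h2 x hx hx2
  obtain ⟨A, hA⟩ := exists_su_unit hF w hw
  obtain ⟨A', hA'⟩ := exists_su_unit hF w' hw'
  refine ⟨A' * A⁻¹, ?_⟩
  apply Subtype.ext
  apply Subtype.ext
  show (((A' * A⁻¹) * t * (A' * A⁻¹)⁻¹ : ↥(Cfsg.SU 3 F q)).1.1 : Matrix (Fin 3) (Fin 3) F) = x.1.1
  rw [su_mul_val, su_mul_val, hTw, conj_Rm, hXw]
  congr 1
  rw [su_mul_val, ← Matrix.mulVec_mulVec, ← hA, Matrix.mulVec_mulVec (Pi.single 0 1),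
    su_inv_mul', Matrix.one_mulVec, hA']

theorem card_unit3 (hF : Fintype.card F = q ^ 2) :
    Nat.card {v : Fin 3 → F // Cfsg.hermForm 3 F q v v = 1} = q ^ 5 + q ^ 2 := by
  have hq := one_lt_q hF
  have h1 := Cfsg.Agent.Lib.Helper2.Herm.z_three hF
  have h2 := Cfsg.Agent.Lib.Helper2.Herm.cnt_total hF 3
  obtain ⟨r, rfl⟩ : ∃ r, q = r + 1 := ⟨q - 1, by omega⟩
  have hr : 0 < r := by omega
  simp only [Nat.add_sub_cancel] at h2
  norm_num at h2
  have h3 : r * Nat.card {v : Fin 3 → F // Cfsg.hermForm 3 F (r + 1) v v = 1} =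
      r * ((r + 1) ^ 5 + (r + 1) ^ 2) := by
    nlinarith [h1, h2]
  exact Nat.eq_of_mul_eq_mul_left hr h3

theorem Rm_ne_one (h2 : (2:F) ≠ 0) (w : Fin 3 → F) (hw : w ≠ 0) : Rm 3 q w ≠ 1 := by
  intro h
  obtain ⟨k, hk⟩ : ∃ k, w k ≠ 0 := by
    by_contra hcon
    apply hw
    funext k
    by_contra hk
    exact hcon ⟨k, hk⟩
  obtain ⟨i, hik⟩ : ∃ i : Fin 3, i ≠ k := ⟨k + 1, by fin_cases k <;> decide⟩
  have hx := Rm_mulVec (q := q) 3 w (Pi.single i 1)
  rw [h, Matrix.one_mulVec] at hx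
  have hk' := congrFun hx k
  have hi' := congrFun hx i
  simp only [Pi.add_apply, Pi.neg_apply, Pi.smul_apply, smul_eq_mul,
    Pi.single_eq_of_ne hik.symm, Pi.single_eq_same] at hk' hi'
  have hc : 2 * Cfsg.hermForm 3 F q (Pi.single i 1) w = 0 := by
    have : 2 * Cfsg.hermForm 3 F q (Pi.single i 1) w * w k = 0 := by linear_combination -hk'
    exact (mul_eq_zero.mp this).resolve_right hk
  rw [hc, zero_mul, add_zero] at hi'
  apply h2
  linear_combination hi'

theorem unit_ne_zero (hF : Fintype.card F = q ^ 2) (w : Fin 3 → F)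
    (hw : Cfsg.hermForm 3 F q w w = 1) : w ≠ 0 := by
  rintro rfl
  rw [Cfsg.Agent.Lib.Helper5.herm_zero_left] at hw
  exact zero_ne_one hw

/-- the involution attached to a unit vector -/
def invOf (hF : Fintype.card F = q ^ 2) (h2 : (2:F) ≠ 0)
    (w : {v : Fin 3 → F // Cfsg.hermForm 3 F q v v = 1}) :
    {x : ↥(Cfsg.SU 3 F q) // x ≠ 1 ∧ x * x = 1} :=
  ⟨suOfPres 3 (Rm 3 q w.1) (Rm_pres hF 3 w.1 w.2) (Rm_det 3 ⟨1, rfl⟩ w.1 w.2), by
    constructor
    · intro h
      apply Rm_ne_one (q := q) h2 w.1 (unit_ne_zero hF w.1 w.2)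
      have := congrArg (fun x : ↥(Cfsg.SU 3 F q) => (x.1.1 : Matrix (Fin 3) (Fin 3) F)) h
      exact this
    · apply Subtype.ext
      apply Subtype.ext
      show (suOfPres 3 (Rm 3 q w.1) _ _ * suOfPres 3 (Rm 3 q w.1) _ _ : ↥(Cfsg.SU 3 F q)).1.1 = 1
      rw [su_mul_val, suOfPres_val, Rm_sq hF 3 w.1 w.2]⟩

theorem invOf_val (hF : Fintype.card F = q ^ 2) (h2 : (2:F) ≠ 0)
    (w : {v : Fin 3 → F // Cfsg.hermForm 3 F q v v = 1}) :
    ((invOf hF h2 w).1.1.1 : Matrix (Fin 3) (Fin 3) F) = Rm 3 q w.1 := rfl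

theorem card_fiber (hF : Fintype.card F = q ^ 2) (h2 : (2:F) ≠ 0)
    (x : {x : ↥(Cfsg.SU 3 F q) // x ≠ 1 ∧ x * x = 1}) :
    Nat.card {w : {v : Fin 3 → F // Cfsg.hermForm 3 F q v v = 1} // invOf hF h2 w = x} = q + 1 := by
  obtain ⟨w0, hw0, hx⟩ := invol_of_su hF h2 x.1 x.2.1 x.2.2
  have hw0ne := unit_ne_zero hF w0 hw0
  rw [← card_norm_fiber hF 1 (one_pow q) one_ne_zero]
  symm
  apply Nat.card_congr
  refine Equiv.ofBijective (fun l => ⟨⟨l.1 • w0, ?_⟩, ?_⟩) ⟨?_, ?_⟩
  · rw [herm_smul_left, herm_smul_right, hw0, mul_one, l.2]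
  · apply Subtype.ext
    apply Subtype.ext
    apply Subtype.ext
    rw [invOf_val, hx]
    exact Rm_smul 3 w0 l.1 l.2
  · intro l l' hll
    have h1 : l.1 • w0 = l'.1 • w0 := by
      have := congrArg (fun z : {w : {v : Fin 3 → F // Cfsg.hermForm 3 F q v v = 1} //
        invOf hF h2 w = x} => z.1.1) hll
      exact this
    apply Subtype.ext
    have h3 : (l.1 - l'.1) • w0 = 0 := by rw [sub_smul, h1, sub_self]
    exact sub_eq_zero.mp ((smul_eq_zero.mp h3).resolve_right hw0ne)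
  · rintro ⟨⟨w, hw⟩, hwx⟩
    have hRw : Rm 3 q w = Rm 3 q w0 := by
      rw [← hx, ← hwx]; rfl
    have h4 : Rm 3 q w0 *ᵥ w = w := by
      rw [← hRw, Rm_mulVec, hw]
      module
    rw [Rm_mulVec] at h4
    have h5 : w = Cfsg.hermForm 3 F q w w0 • w0 := by
      have h6 : (2 : F) • w = (2 : F) • (Cfsg.hermForm 3 F q w w0 • w0) := by
        linear_combination (norm := module) -h4
      have := congrArg (fun z => (2 : F)⁻¹ • z) h6
      simp only [smul_smul, inv_mul_cancel₀ h2, one_smul, ← mul_assoc, one_mul] at this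
      exact this
    have h7 : Cfsg.hermForm 3 F q w w0 * Cfsg.hermForm 3 F q w w0 ^ q = 1 := by
      have := hw
      rw [h5, herm_smul_left, herm_smul_right, hw0, mul_one] at this
      exact this
    refine ⟨⟨Cfsg.hermForm 3 F q w w0, h7⟩, ?_⟩
    apply Subtype.ext
    apply Subtype.ext
    exact h5.symm

theorem card_inv (hF : Fintype.card F = q ^ 2) (h2 : (2:F) ≠ 0) :
    Nat.card {x : ↥(Cfsg.SU 3 F q) // x ≠ 1 ∧ x * x = 1} * (q + 1) = q ^ 5 + q ^ 2 := by
  classical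
  rw [← card_unit3 hF]
  haveI : Fintype {x : ↥(Cfsg.SU 3 F q) // x ≠ 1 ∧ x * x = 1} := Fintype.ofFinite _
  rw [← Nat.card_congr (Equiv.sigmaFiberEquiv (invOf hF h2)), Nat.card_sigma]
  simp only [card_fiber hF h2]
  rw [Finset.sum_const, smul_eq_mul, Finset.card_univ, Nat.card_eq_fintype_card]

theorem card_cent (hF : Fintype.card F = q ^ 2) (h2 : (2:F) ≠ 0) (t : ↥(Cfsg.SU 3 F q))
    (ht : t ≠ 1) (ht2 : t * t = 1) :
    Nat.card {x : ↥(Cfsg.SU 3 F q) // x ≠ 1 ∧ x * x = 1} *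
      Nat.card ↥(Subgroup.centralizer ({t} : Set ↥(Cfsg.SU 3 F q))) =
      Nat.card ↥(Cfsg.SU 3 F q) := by
  classical
  let ψ : ↥(Cfsg.SU 3 F q) → {x : ↥(Cfsg.SU 3 F q) // x ≠ 1 ∧ x * x = 1} := fun g =>
    ⟨g * t * g⁻¹, by
      constructor
      · intro h; exact ht (conj_eq_one_iff.mp h)
      · rw [conj_mul, ht2, mul_one, mul_inv_cancel]⟩
  have hfib : ∀ x : {x : ↥(Cfsg.SU 3 F q) // x ≠ 1 ∧ x * x = 1},
      Nat.card {g // ψ g = x} = Nat.card ↥(Subgroup.centralizer ({t} : Set ↥(Cfsg.SU 3 F q))) := by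
    intro x
    obtain ⟨g0, hg0⟩ := part1 hF h2 t x.1 ht ht2 x.2.1 x.2.2
    symm
    apply Nat.card_congr
    refine Equiv.ofBijective (fun c => ⟨g0 * c.1, ?_⟩) ⟨?_, ?_⟩
    · apply Subtype.ext
      show g0 * c.1 * t * (g0 * c.1)⁻¹ = x.1
      have hc : t * c.1 = c.1 * t := (Subgroup.mem_centralizer_iff.mp c.2) t rfl
      have h3 : c.1 * t * c.1⁻¹ = t := by rw [← hc, mul_assoc, mul_inv_cancel, mul_one]
      rw [← hg0, _root_.mul_inv_rev]
      calc g0 * c.1 * t * (c.1⁻¹ * g0⁻¹) = g0 * (c.1 * t * c.1⁻¹) * g0⁻¹ := by group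
        _ = g0 * t * g0⁻¹ := by rw [h3]
    · intro c c' h
      have h3 : g0 * c.1 = g0 * c'.1 := congrArg Subtype.val h
      exact Subtype.ext (mul_left_cancel h3)
    · rintro ⟨g, hg⟩
      have hg' : g * t * g⁻¹ = x.1 := congrArg Subtype.val hg
      refine ⟨⟨g0⁻¹ * g, ?_⟩, ?_⟩
      · rw [Subgroup.mem_centralizer_iff]
        intro h hh
        rw [Set.mem_singleton_iff] at hh
        rw [hh]
        have h3 : g0 * t * g0⁻¹ = g * t * g⁻¹ := by rw [hg0, hg']
        calc t * (g0⁻¹ * g) = g0⁻¹ * (g0 * t * g0⁻¹) * g := by group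
          _ = g0⁻¹ * (g * t * g⁻¹) * g := by rw [h3]
          _ = g0⁻¹ * g * t := by group
      · apply Subtype.ext
        show g0 * (g0⁻¹ * g) = g
        group
  haveI : Fintype {x : ↥(Cfsg.SU 3 F q) // x ≠ 1 ∧ x * x = 1} := Fintype.ofFinite _
  rw [← Nat.card_congr (Equiv.sigmaFiberEquiv ψ), Nat.card_sigma]
  simp only [hfib]
  rw [Finset.sum_const, smul_eq_mul, Finset.card_univ, Nat.card_eq_fintype_card]

theorem card_su3 (hF : Fintype.card F = q ^ 2) :
    (q + 1) * Nat.card ↥(Cfsg.SU 3 F q) = q ^ 3 * ((q + 1) * (q ^ 2 - 1) * (q ^ 3 + 1)) := by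
  have h := Cfsg.Agent.S0278.result hF 3 (by norm_num)
  rw [h]
  simp [Finset.prod_range_succ]

theorem part4 (h2 : (2:F) ≠ 0) (t x y : ↥(Cfsg.SU 3 F q))
    (ht : t ≠ 1) (hx : x ≠ 1) (hy : y ≠ 1)
    (ht2 : t * t = 1) (hx2 : x * x = 1) (hy2 : y * y = 1)
    (hxt : x ≠ t) (hyt : y ≠ t) (hyx : y ≠ x)
    (htx : Commute t x) (hty : Commute t y) (hxy : Commute x y) : y = t * x := by
  classical
  by_contra hne
  set S : Set (Matrix.SpecialLinearGroup (Fin 3) F) := {t.1, x.1, y.1} with hS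
  have hcomm : ∀ a ∈ S, ∀ b ∈ S, a * b = b * a := by
    have e1 : t.1 * x.1 = x.1 * t.1 := congrArg Subtype.val htx.eq
    have e2 : t.1 * y.1 = y.1 * t.1 := congrArg Subtype.val hty.eq
    have e3 : x.1 * y.1 = y.1 * x.1 := congrArg Subtype.val hxy.eq
    intro a ha b hb
    simp only [hS, Set.mem_insert_iff, Set.mem_singleton_iff] at ha hb
    rcases ha with rfl | rfl | rfl <;> rcases hb with rfl | rfl | rfl
    · rfl
    · exact e1
    · exact e2
    · exact e1.symm
    · rfl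
    · exact e3
    · exact e2.symm
    · exact e3.symm
    · rfl
  have hc : IsMulCommutative (Subgroup.closure S) := Subgroup.isMulCommutative_closure hcomm
  have he : ∀ a ∈ Subgroup.closure S, a ^ 2 = 1 := by
    intro a ha
    induction ha using Subgroup.closure_induction with
    | mem a ha =>
      simp only [hS, Set.mem_insert_iff, Set.mem_singleton_iff] at ha
      rcases ha with rfl | rfl | rfl
      · rw [sq]; exact congrArg Subtype.val ht2
      · rw [sq]; exact congrArg Subtype.val hx2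
      · rw [sq]; exact congrArg Subtype.val hy2
    | one => simp
    | mul a b ha hb iha ihb =>
      have hab : a * b = b * a := by
        have := hc.is_comm.comm ⟨a, ha⟩ ⟨b, hb⟩
        exact congrArg Subtype.val this
      rw [sq] at iha ihb ⊢
      calc a * b * (a * b) = a * (b * a) * b := by group
        _ = a * (a * b) * b := by rw [hab]
        _ = (a * a) * (b * b) := by group
        _ = 1 := by rw [iha, ihb, one_mul]
    | inv a ha iha =>
      rw [inv_pow, iha, inv_one]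
  have hupper := Cfsg.Agent.S2233.upper h2 3 (by norm_num) (Subgroup.closure S) hc he
  have hinj : Function.Injective (fun z : ↥(Cfsg.SU 3 F q) => z.1) := Subtype.val_injective
  -- five distinct elements
  have htx1 : t * x ≠ 1 := by
    intro h
    apply hxt
    have : x = t⁻¹ := (eq_inv_of_mul_eq_one_right h)
    rw [this]
    exact inv_eq_of_mul_eq_one_left ht2
  have htxt : t * x ≠ t := by
    intro h
    apply hx
    exact mul_left_cancel (a := t) (by rw [h, mul_one])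
  have htxx : t * x ≠ x := by
    intro h
    apply ht
    exact mul_right_cancel (b := x) (by rw [h, one_mul])
  let T : Finset (Matrix.SpecialLinearGroup (Fin 3) F) := {1, t.1, x.1, (t * x).1, y.1}
  have hT5 : T.card = 5 := by
    have n1 : (1 : Matrix.SpecialLinearGroup (Fin 3) F) ≠ t.1 := fun h => ht (hinj h.symm)
    have n2 : (1 : Matrix.SpecialLinearGroup (Fin 3) F) ≠ x.1 := fun h => hx (hinj h.symm)
    have n3 : (1 : Matrix.SpecialLinearGroup (Fin 3) F) ≠ (t * x).1 := fun h => htx1 (hinj h.symm)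
    have n4 : (1 : Matrix.SpecialLinearGroup (Fin 3) F) ≠ y.1 := fun h => hy (hinj h.symm)
    have n5 : t.1 ≠ x.1 := fun h => hxt (hinj h.symm)
    have n6 : t.1 ≠ (t * x).1 := fun h => htxt (hinj h.symm)
    have n7 : t.1 ≠ y.1 := fun h => hyt (hinj h.symm)
    have n8 : x.1 ≠ (t * x).1 := fun h => htxx (hinj h.symm)
    have n9 : x.1 ≠ y.1 := fun h => hyx (hinj h.symm)
    have n10 : (t * x).1 ≠ y.1 := fun h => hne (hinj h.symm)
    simp only [T]
    rw [Finset.card_insert_of_notMem, Finset.card_insert_of_notMem, Finset.card_insert_of_notMem,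
      Finset.card_insert_of_notMem, Finset.card_singleton]
    · simp only [Finset.mem_singleton]; exact n10
    · simp only [Finset.mem_insert, Finset.mem_singleton, not_or]; exact ⟨n8, n9⟩
    · simp only [Finset.mem_insert, Finset.mem_singleton, not_or]; exact ⟨n5, n6, n7⟩
    · simp only [Finset.mem_insert, Finset.mem_singleton, not_or]; exact ⟨n1, n2, n3, n4⟩
  have hTsub : (T : Set (Matrix.SpecialLinearGroup (Fin 3) F)) ⊆ (Subgroup.closure S : Set _) := by
    intro a ha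
    have htm : t.1 ∈ Subgroup.closure S := Subgroup.subset_closure (by simp [hS])
    have hxm : x.1 ∈ Subgroup.closure S := Subgroup.subset_closure (by simp [hS])
    have hym : y.1 ∈ Subgroup.closure S := Subgroup.subset_closure (by simp [hS])
    simp only [T, Finset.coe_insert, Finset.coe_singleton, Set.mem_insert_iff,
      Set.mem_singleton_iff] at ha
    rcases ha with rfl | rfl | rfl | rfl | rfl
    · exact Subgroup.one_mem _
    · exact htm
    · exact hxm
    · exact Subgroup.mul_mem _ htm hxm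
    · exact hym
  have h5 : 5 ≤ Nat.card ↥(Subgroup.closure S) := by
    rw [← hT5, ← Set.ncard_coe_finset T]
    have : Nat.card ↥(Subgroup.closure S) =
        ((Subgroup.closure S : Subgroup _) : Set (Matrix.SpecialLinearGroup (Fin 3) F)).ncard :=
      _root_.Nat.card_coe_set_eq
        ((Subgroup.closure S : Subgroup _) : Set (Matrix.SpecialLinearGroup (Fin 3) F))
    rw [this]
    exact Set.ncard_le_ncard hTsub (Set.toFinite _)
  have h4 : (2 : ℕ) ^ (3 - 1) = 4 := by norm_num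
  rw [h4] at hupper
  omega

end

theorem result {F : Type*} [Field F] [Fintype F] {q : ℕ} (hq : Odd q)
    (hF : Fintype.card F = q ^ 2) (t : ↥(Cfsg.SU 3 F q)) (ht : t ≠ 1) (ht2 : t * t = 1) :
    (∀ x : ↥(Cfsg.SU 3 F q), x ≠ 1 → x * x = 1 → ∃ g : ↥(Cfsg.SU 3 F q), g * t * g⁻¹ = x) ∧
    Nat.card {x : ↥(Cfsg.SU 3 F q) // x ≠ 1 ∧ x * x = 1} = q ^ 2 * (q ^ 2 - q + 1) ∧
    Nat.card ↥(Subgroup.centralizer ({t} : Set ↥(Cfsg.SU 3 F q))) = q * (q + 1) * (q ^ 2 - 1) ∧
    ∀ x : ↥(Cfsg.SU 3 F q), x ≠ 1 → x * x = 1 → x ≠ t → Commute t x →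
      Nat.card {y : ↥(Cfsg.SU 3 F q) // y ≠ 1 ∧ y * y = 1 ∧ y ≠ t ∧ y ≠ x ∧ Commute t y ∧ Commute x y} = 1 := by
  have h2 : (2 : F) ≠ 0 := by
    intro h
    have h3 : ringChar F = 2 := CharP.ringChar_of_prime_eq_zero Nat.prime_two (by exact_mod_cast h)
    have h4 := FiniteField.even_card_iff_char_two.mp h3
    rw [hF] at h4
    have h5 : Odd (q ^ 2) := hq.pow
    rcases h5 with ⟨k, hk⟩
    omega
  have hq1 := Cfsg.Agent.Lib.Helper2.Herm.one_lt_q hF
  have hI := card_inv hF h2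
  have hC := card_cent hF h2 t ht ht2
  have hS := card_su3 hF
  have hIeq : Nat.card {x : ↥(Cfsg.SU 3 F q) // x ≠ 1 ∧ x * x = 1} = q ^ 2 * (q ^ 2 - q + 1) := by
    obtain ⟨r, rfl⟩ : ∃ r, q = r + 1 := ⟨q - 1, by omega⟩
    have e : (r + 1) ^ 2 - (r + 1) + 1 = r ^ 2 + r + 1 := by
      have : (r + 1) ^ 2 = r ^ 2 + 2 * r + 1 := by ring
      omega
    rw [e]
    apply Nat.eq_of_mul_eq_mul_right (show 0 < r + 1 + 1 by omega)
    rw [hI]; ring
  refine ⟨fun x hx hx2 => part1 hF h2 t x ht ht2 hx hx2, hIeq, ?_, ?_⟩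
  · have hpos : 0 < q ^ 5 + q ^ 2 := by positivity
    apply Nat.eq_of_mul_eq_mul_left hpos
    calc (q ^ 5 + q ^ 2) * Nat.card ↥(Subgroup.centralizer ({t} : Set ↥(Cfsg.SU 3 F q)))
        = (q + 1) * (Nat.card {x : ↥(Cfsg.SU 3 F q) // x ≠ 1 ∧ x * x = 1} *
            Nat.card ↥(Subgroup.centralizer ({t} : Set ↥(Cfsg.SU 3 F q)))) := by
          rw [← hI]; ring
      _ = (q + 1) * Nat.card ↥(Cfsg.SU 3 F q) := by rw [hC]
      _ = q ^ 3 * ((q + 1) * (q ^ 2 - 1) * (q ^ 3 + 1)) := hS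
      _ = (q ^ 5 + q ^ 2) * (q * (q + 1) * (q ^ 2 - 1)) := by ring
  · intro x hx hx2 hxt htx
    rw [Nat.card_eq_one_iff_unique]
    constructor
    · constructor
      rintro ⟨y, hy1, hy2, hyt, hyx, hty, hxy⟩ ⟨y', hy1', hy2', hyt', hyx', hty', hxy'⟩
      apply Subtype.ext
      show y = y'
      rw [part4 h2 t x y ht hx hy1 ht2 hx2 hy2 hxt hyt hyx htx hty hxy,
        part4 h2 t x y' ht hx hy1' ht2 hx2 hy2' hxt hyt' hyx' htx hty' hxy']
    · refine ⟨⟨t * x, ?_, ?_, ?_, ?_, ?_, ?_⟩⟩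
      · intro h
        apply hxt
        have : x = t⁻¹ := (eq_inv_of_mul_eq_one_right h)
        rw [this]
        exact inv_eq_of_mul_eq_one_left ht2
      · calc t * x * (t * x) = t * (x * t) * x := by group
          _ = t * (t * x) * x := by rw [htx.eq]
          _ = (t * t) * (x * x) := by group
          _ = 1 := by rw [ht2, hx2, one_mul]
      · intro h
        apply hx
        exact mul_left_cancel (a := t) (by rw [h, mul_one])
      · intro h
        apply ht
        exact mul_right_cancel (b := x) (by rw [h, one_mul])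
      · exact (Commute.refl t).mul_right htx
      · exact htx.symm.mul_right (Commute.refl x)

end Cfsg.Agent.S2360
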