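import Mathlib
import Cfsg.Statements.S1219
import Cfsg.Agent.S2234
import Cfsg.Agent.S2360

set_option autoImplicit false
open scoped MatrixGroups
open Cfsg

namespace Cfsg.Agent.S1219

open Matrix

section
variable {F : Type*} [Field F]

/-- block embedding of `GL₂` into `SL₃` -/
def phiMat (A : Matrix (Fin 2) (Fin 2) F) : Matrix (Fin 3) (Fin 3) F :=
  Matrix.of ![![A 0 0, A 0 1, 0], ![A 1 0, A 1 1, 0], ![0, 0, (A.det)⁻¹]]

def D0 : Matrix (Fin 3) (Fin 3) F := Matrix.diagonal ![-1, -1, 1]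

theorem phiMat_det (A : Matrix (Fin 2) (Fin 2) F) (hA : A.det ≠ 0) : (phiMat A).det = 1 := by
  have h := Matrix.det_fin_two A
  rw [Matrix.det_fin_three]
  simp [phiMat]
  rw [h] at hA ⊢
  field_simp

theorem phiMat_one : phiMat (1 : Matrix (Fin 2) (Fin 2) F) = 1 := by
  ext i j
  fin_cases i <;> fin_cases j <;> simp [phiMat]

theorem phiMat_mul (A B : Matrix (Fin 2) (Fin 2) F) :
    phiMat (A * B) = phiMat A * phiMat B := by
  ext i j
  fin_cases i <;> fin_cases j <;>
    simp [phiMat, Matrix.mul_apply, Fin.sum_univ_three, Fin.sum_univ_two, Matrix.det_mul, mul_inv,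
      mul_comm]

theorem phiMat_comm (A : Matrix (Fin 2) (Fin 2) F) : phiMat A * D0 = D0 * phiMat A := by
  ext i j
  fin_cases i <;> fin_cases j <;> simp [phiMat, D0, Matrix.mul_apply, Fin.sum_univ_three]

theorem D0_det : (D0 : Matrix (Fin 3) (Fin 3) F).det = 1 := by
  simp [D0, Matrix.det_diagonal, Fin.prod_univ_three]

theorem cent_D0 (h2 : (2:F) ≠ 0) (H : Matrix (Fin 3) (Fin 3) F) (hdet : H.det = 1)
    (hc : H * D0 = D0 * H) :
    ∃ A : Matrix (Fin 2) (Fin 2) F, A.det ≠ 0 ∧ phiMat A = H := by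
  have hz : ∀ x : F, x = -x → x = 0 := by
    intro x hx
    have : (2 : F) * x = 0 := by linear_combination hx
    exact (mul_eq_zero.mp this).resolve_left h2
  have z : ∀ i j : Fin 3, (H * (D0 : Matrix (Fin 3) (Fin 3) F)) i j =
      ((D0 : Matrix (Fin 3) (Fin 3) F) * H) i j := fun i j => by rw [hc]
  have h02 : H 0 2 = 0 := by
    have := z 0 2
    rw [D0, Matrix.mul_diagonal, Matrix.diagonal_mul] at this
    apply hz
    simpa using this
  have h12 : H 1 2 = 0 := by
    have := z 1 2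
    rw [D0, Matrix.mul_diagonal, Matrix.diagonal_mul] at this
    apply hz
    simpa using this
  have h20 : H 2 0 = 0 := by
    have := z 2 0
    rw [D0, Matrix.mul_diagonal, Matrix.diagonal_mul] at this
    apply hz
    have h' : -H 2 0 = H 2 0 := by simpa using this
    exact h'.symm
  have h21 : H 2 1 = 0 := by
    have := z 2 1
    rw [D0, Matrix.mul_diagonal, Matrix.diagonal_mul] at this
    apply hz
    have h' : -H 2 1 = H 2 1 := by simpa using this
    exact h'.symm
  set A : Matrix (Fin 2) (Fin 2) F := Matrix.of ![![H 0 0, H 0 1], ![H 1 0, H 1 1]] with hA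
  have hAdet : A.det = H 0 0 * H 1 1 - H 0 1 * H 1 0 := by
    rw [Matrix.det_fin_two]
    simp [hA]
  have hd : A.det * H 2 2 = 1 := by
    rw [Matrix.det_fin_three, h02, h12, h20, h21] at hdet
    rw [hAdet]
    linear_combination hdet
  have hA0 : A.det ≠ 0 := by
    intro h0
    rw [h0, zero_mul] at hd
    exact zero_ne_one hd
  refine ⟨A, hA0, ?_⟩
  have h22 : H 2 2 = (A.det)⁻¹ := eq_inv_of_mul_eq_one_right hd
  ext i j
  fin_cases i <;> fin_cases j <;> simp [phiMat, hA, h02, h12, h20, h21, h22]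

theorem exists_conj [Fintype F] (h2 : (2:F) ≠ 0) (S : Matrix (Fin 3) (Fin 3) F)
    (hS2 : S * S = 1) (hdet : S.det = 1) (hne : S ≠ 1) :
    ∃ G : Matrix (Fin 3) (Fin 3) F, G.det = 1 ∧ S * G = G * D0 := by
  classical
  obtain ⟨b, B0, hB0, hbE⟩ := Cfsg.Agent.S2234.exists_eigenbasis h2 (fun _ : Unit => S)
    (fun _ => hS2) (fun _ _ => rfl)
  haveI : Fintype b := Fintype.ofFinite b
  have hcard : Fintype.card b = 3 := by
    rw [← Module.finrank_eq_card_basis B0, Module.finrank_fin_fun]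
  let e : b ≃ Fin 3 := Fintype.equivFinOfCardEq hcard
  let B : Module.Basis (Fin 3) F (Fin 3 → F) := B0.reindex e
  have hBE : ∀ i, S *ᵥ B i = B i ∨ S *ᵥ B i = -B i := by
    intro i
    have := hbE (e.symm i) ()
    rw [← hB0] at this
    simpa [B, Module.Basis.reindex_apply] using this
  let s : Fin 3 → F := fun i => if S *ᵥ B i = B i then 1 else -1
  have hs : ∀ i, S *ᵥ B i = s i • B i := by
    intro i
    simp only [s]
    split_ifs with h
    · rw [h, one_smul]
    · rcases hBE i with h' | h'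
      · exact absurd h' h
      · rw [h', neg_smul, one_smul]
  have hs1 : ∀ i, s i = 1 ∨ s i = -1 := by
    intro i; simp only [s]; split_ifs <;> simp
  have hprod : s 0 * s 1 * s 2 = 1 := by
    have := Cfsg.Agent.S2360.det_of_eigenbasis S B s hs
    rw [hdet, Fin.prod_univ_three] at this
    exact this.symm
  have hnot : ¬ (∀ i, s i = 1) := by
    intro hall
    apply hne
    apply Matrix.toLin'.injective
    apply B.ext
    intro i
    rw [Matrix.toLin'_apply, hs, hall, one_smul, Matrix.toLin'_one]; rfl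
  have hm : (-1 : F) ≠ 1 := by
    intro h
    apply h2
    linear_combination -h
  obtain ⟨i0, hi0, hothers⟩ : ∃ i0, s i0 = 1 ∧ ∀ i, i ≠ i0 → s i = -1 := by
    rcases hs1 0 with h0 | h0 <;> rcases hs1 1 with h1 | h1 <;> rcases hs1 2 with h2' | h2'
    · exfalso; apply hnot; intro i; fin_cases i <;> assumption
    · exfalso; rw [h0, h1, h2'] at hprod; exact hm (by linear_combination hprod)
    · exfalso; rw [h0, h1, h2'] at hprod; exact hm (by linear_combination hprod)
    · refine ⟨0, h0, ?_⟩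
      intro i hi; fin_cases i
      · exact absurd rfl hi
      · exact h1
      · exact h2'
    · exfalso; rw [h0, h1, h2'] at hprod; exact hm (by linear_combination hprod)
    · refine ⟨1, h1, ?_⟩
      intro i hi; fin_cases i
      · exact h0
      · exact absurd rfl hi
      · exact h2'
    · refine ⟨2, h2', ?_⟩
      intro i hi; fin_cases i
      · exact h0
      · exact h1
      · exact absurd rfl hi
    · exfalso; rw [h0, h1, h2'] at hprod; exact hm (by linear_combination hprod)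
  let σ : Equiv.Perm (Fin 3) := Equiv.swap 2 i0
  let B' : Module.Basis (Fin 3) F (Fin 3 → F) := B.reindex σ
  have hB' : ∀ i, B' i = B (σ i) := by
    intro i
    simp [B', Module.Basis.reindex_apply, σ, Equiv.symm_swap]
  let d : Fin 3 → F := ![-1, -1, 1]
  have hd : ∀ i, S *ᵥ B' i = d i • B' i := by
    intro i
    rw [hB', hs]
    congr 1
    by_cases hi : i = 2
    · subst hi
      have : σ 2 = i0 := Equiv.swap_apply_left 2 i0
      rw [this, hi0]
      simp [d]
    · have hne' : σ i ≠ i0 := by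
        intro h
        apply hi
        have : σ i = σ 2 := by rw [h]; exact (Equiv.swap_apply_left 2 i0).symm
        exact σ.injective this
      rw [hothers _ hne']
      fin_cases i
      · simp [d]
      · simp [d]
      · exact absurd rfl hi
  set P : Matrix (Fin 3) (Fin 3) F := (Pi.basisFun F (Fin 3)).toMatrix B' with hP
  have hPapp : ∀ k i, P k i = B' i k := by
    intro k i
    simp [hP, Module.Basis.toMatrix_apply]
  have hSP : S * P = P * D0 := by
    ext k i
    rw [D0, Matrix.mul_diagonal, hPapp]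
    have := congrFun (hd i) k
    rw [Pi.smul_apply, smul_eq_mul] at this
    rw [mul_comm, ← this]
    simp only [Matrix.mul_apply, Matrix.mulVec, dotProduct, hPapp]
  have hPdet : P.det ≠ 0 := by
    intro h0
    have := congrArg Matrix.det ((Pi.basisFun F (Fin 3)).toMatrix_mul_toMatrix_flip B')
    rw [Matrix.det_mul, ← hP, h0, zero_mul, Matrix.det_one] at this
    exact zero_ne_one this
  refine ⟨P * Matrix.diagonal ![1, 1, (P.det)⁻¹], ?_, ?_⟩
  · rw [Matrix.det_mul, Matrix.det_diagonal, Fin.prod_univ_three]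
    simp [hPdet]
  · rw [← Matrix.mul_assoc, hSP, Matrix.mul_assoc, Matrix.mul_assoc, D0,
      Matrix.diagonal_mul_diagonal, Matrix.diagonal_mul_diagonal]
    congr 2
    funext i
    exact mul_comm _ _

end

section
variable {F : Type*} [Field F] [Fintype F]

theorem gl_det_ne (A : GL (Fin 2) F) : (A.1 : Matrix (Fin 2) (Fin 2) F).det ≠ 0 :=
  ((Matrix.isUnit_iff_isUnit_det _).mp A.isUnit).ne_zero

/-- the block embedding as a group hom -/
noncomputable def phi : GL (Fin 2) F →* SL(3, F) where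
  toFun A := ⟨phiMat A.1, phiMat_det A.1 (gl_det_ne A)⟩
  map_one' := by
    apply Subtype.ext
    show phiMat ((1 : GL (Fin 2) F).1) = 1
    rw [Units.val_one, phiMat_one]
  map_mul' A B := by
    apply Subtype.ext
    show phiMat ((A * B : GL (Fin 2) F).1) = phiMat A.1 * phiMat B.1
    rw [Units.val_mul, phiMat_mul]

theorem phi_val (A : GL (Fin 2) F) : ((phi A).1 : Matrix (Fin 3) (Fin 3) F) = phiMat A.1 := rfl

/-- the standard involution -/
def d0 : SL(3, F) := ⟨D0, D0_det⟩

theorem phi_comm_d0 (A : GL (Fin 2) F) : phi A * d0 = d0 * phi A := by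
  apply Subtype.ext
  show phiMat A.1 * D0 = D0 * phiMat A.1
  exact phiMat_comm A.1

theorem phiMat_scalar (r : F) (hr : r ^ 3 = 1) :
    phiMat (Matrix.scalar (Fin 2) r) = Matrix.scalar (Fin 3) r := by
  have hr0 : r ≠ 0 := by
    rintro rfl
    norm_num at hr
  have h1 : (r ^ 2)⁻¹ = r := by
    have : r * (r ^ 2) = 1 := by rw [← hr]; ring
    exact (eq_inv_of_mul_eq_one_left this).symm
  ext i j
  fin_cases i <;> fin_cases j <;> simp [phiMat, h1]

theorem scalar_of_phiMat (A : Matrix (Fin 2) (Fin 2) F) (r : F)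
    (h : Matrix.scalar (Fin 3) r = phiMat A) : A = Matrix.scalar (Fin 2) r := by
  have e : ∀ i j, (Matrix.scalar (Fin 3) r) i j = phiMat A i j := fun i j => by rw [h]
  have e00 := e 0 0
  have e01 := e 0 1
  have e10 := e 1 0
  have e11 := e 1 1
  simp [phiMat] at e00 e01 e10 e11
  ext i j
  fin_cases i <;> fin_cases j <;> simp [← e00, ← e01, ← e10, ← e11]

end

section
variable {F : Type*} [Field F] [Fintype F]

noncomputable def Psi (g : SL(3, F)) : GL (Fin 2) F →* PSL(3, F) :=
  (QuotientGroup.mk' (Subgroup.center SL(3, F))).comp ((MulAut.conj g).toMonoidHom.comp phi)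

theorem Psi_apply (g : SL(3, F)) (A : GL (Fin 2) F) :
    Psi g A = ((g * phi A * g⁻¹ : SL(3, F)) : PSL(3, F)) := rfl

theorem mem_ker_iff (g : SL(3, F)) (A : GL (Fin 2) F) :
    A ∈ (Psi g).ker ↔ ∃ r : F, r ^ 3 = 1 ∧
      (A.1 : Matrix (Fin 2) (Fin 2) F) = Matrix.scalar (Fin 2) r := by
  rw [MonoidHom.mem_ker, Psi_apply, QuotientGroup.eq_one_iff]
  constructor
  · intro hz
    have hcen := Subgroup.mem_center_iff.mp hz
    have hphi : phi A = g * phi A * g⁻¹ := by
      have h0 := hcen g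
      have h1 : g * (g * phi A * g⁻¹) = g * phi A := by rw [h0]; group
      exact (mul_left_cancel h1).symm
    rw [← hphi] at hz
    obtain ⟨r, hr3, hr⟩ := Matrix.SpecialLinearGroup.mem_center_iff.mp hz
    exact ⟨r, by simpa using hr3, scalar_of_phiMat A.1 r hr⟩
  · rintro ⟨r, hr3, hA⟩
    have hphi : phi A ∈ Subgroup.center SL(3, F) := by
      rw [Matrix.SpecialLinearGroup.mem_center_iff]
      refine ⟨r, by simpa using hr3, ?_⟩
      rw [phi_val, hA, phiMat_scalar r hr3]
    have hcen := Subgroup.mem_center_iff.mp hphi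
    have h1 : g * phi A * g⁻¹ = phi A := by rw [hcen g]; group
    rw [h1]
    exact hphi

theorem ker_le_center (g : SL(3, F)) : (Psi g).ker ≤ Subgroup.center (GL (Fin 2) F) := by
  intro A hA
  obtain ⟨r, -, hr⟩ := (mem_ker_iff g A).mp hA
  rw [Subgroup.mem_center_iff]
  intro B
  apply Units.ext
  rw [Units.val_mul, Units.val_mul]
  show (B.1 : Matrix (Fin 2) (Fin 2) F) * A.1 = A.1 * B.1
  rw [hr]
  exact (Matrix.scalar_commute r (fun r' => Commute.all r r') B.1).symm.eq

theorem card_ker (g : SL(3, F)) :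
    Nat.card (Psi g).ker = Nat.gcd (Fintype.card F - 1) 3 := by
  classical
  have hcyc := IsCyclic.card_powMonoidHom_ker Fˣ 3
  rw [Nat.card_units, Nat.card_eq_fintype_card (α := F)] at hcyc
  rw [← hcyc]
  symm
  apply Nat.card_congr
  refine Equiv.ofBijective (fun u => ⟨Units.map (Matrix.scalar (Fin 2)).toMonoidHom u.1, ?_⟩)
    ⟨?_, ?_⟩
  · rw [mem_ker_iff]
    refine ⟨(u.1 : F), ?_, rfl⟩
    have h := u.2
    rw [MonoidHom.mem_ker, powMonoidHom_apply] at h
    have h2 := congrArg Units.val h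
    rwa [Units.val_pow_eq_pow_val, Units.val_one] at h2
  · intro u v huv
    have h1 : (Matrix.scalar (Fin 2) (u.1 : F) : Matrix (Fin 2) (Fin 2) F) =
        Matrix.scalar (Fin 2) (v.1 : F) := by
      have := congrArg (fun z : (Psi g).ker => (z.1.1 : Matrix (Fin 2) (Fin 2) F)) huv
      exact this
    have h3 := congrFun (congrFun h1 0) 0
    simp at h3
    exact Subtype.ext (Units.ext h3)
  · rintro ⟨A, hA⟩
    obtain ⟨r, hr3, hr⟩ := (mem_ker_iff g A).mp hA
    have hr0 : r ≠ 0 := by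
      rintro rfl
      norm_num at hr3
    refine ⟨⟨Units.mk0 r hr0, ?_⟩, ?_⟩
    · rw [MonoidHom.mem_ker, powMonoidHom_apply]
      apply Units.ext
      rw [Units.val_pow_eq_pow_val, Units.val_mk0, Units.val_one]
      exact hr3
    · apply Subtype.ext
      apply Units.ext
      exact hr.symm

end

section
variable {F : Type*} [Field F] [Fintype F]

theorem mul_scalar' (M : Matrix (Fin 3) (Fin 3) F) (ρ : F) :
    M * Matrix.scalar (Fin 3) ρ = ρ • M := by
  ext i j
  simp [Matrix.mul_apply, Matrix.scalar_apply, Matrix.diagonal_apply, mul_comm]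

theorem range_eq (h2 : (2:F) ≠ 0) (s g : SL(3, F)) (hss : s * s = 1) (hsg : s * g = g * d0) :
    (Psi g).range =
      Subgroup.centralizer ({((s : SL(3, F)) : PSL(3, F))} : Set PSL(3, F)) := by
  have hs : s = g * d0 * g⁻¹ := by rw [← hsg]; group
  ext x
  constructor
  · rintro ⟨A, rfl⟩
    rw [Subgroup.mem_centralizer_iff]
    intro y hy
    rw [Set.mem_singleton_iff] at hy
    subst hy
    rw [Psi_apply, ← QuotientGroup.mk_mul, ← QuotientGroup.mk_mul]
    congr 1
    have h3 := phi_comm_d0 A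
    rw [hs]
    calc g * d0 * g⁻¹ * (g * phi A * g⁻¹) = g * (d0 * phi A) * g⁻¹ := by group
      _ = g * (phi A * d0) * g⁻¹ := by rw [h3]
      _ = g * phi A * g⁻¹ * (g * d0 * g⁻¹) := by group
  · intro hx
    obtain ⟨h, rfl⟩ := QuotientGroup.mk_surjective x
    rw [Subgroup.mem_centralizer_iff] at hx
    have hx' := hx _ (Set.mem_singleton _)
    rw [← QuotientGroup.mk_mul, ← QuotientGroup.mk_mul, QuotientGroup.eq] at hx'
    obtain ⟨ρ, hρ3, hρ⟩ := Matrix.SpecialLinearGroup.mem_center_iff.mp hx'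
    have hρ3' : ρ ^ 3 = 1 := by simpa using hρ3
    have e1 : h * s = s * h * ((s * h)⁻¹ * (h * s)) := by group
    have hSS : (s.1 : Matrix (Fin 3) (Fin 3) F) * s.1 = 1 := by
      have := congrArg (fun w : SL(3, F) => (w.1 : Matrix (Fin 3) (Fin 3) F)) hss
      exact this
    have E1 : (h.1 : Matrix (Fin 3) (Fin 3) F) * s.1 =
        ρ • ((s.1 : Matrix (Fin 3) (Fin 3) F) * h.1) := by
      have h3 := congrArg (fun w : SL(3, F) => (w.1 : Matrix (Fin 3) (Fin 3) F)) e1
      simp only [Matrix.SpecialLinearGroup.coe_mul] at h3 hρ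
      rw [h3, ← hρ, mul_scalar']
    have E2 : (h.1 : Matrix (Fin 3) (Fin 3) F) = (ρ * ρ) • h.1 := by
      calc (h.1 : Matrix (Fin 3) (Fin 3) F) = h.1 * s.1 * s.1 := by
            rw [Matrix.mul_assoc, hSS, Matrix.mul_one]
        _ = ρ • ((s.1 : Matrix (Fin 3) (Fin 3) F) * h.1) * s.1 := by rw [E1]
        _ = ρ • ((s.1 : Matrix (Fin 3) (Fin 3) F) * (h.1 * s.1)) := by
            rw [Matrix.smul_mul, Matrix.mul_assoc]
        _ = ρ • ((s.1 : Matrix (Fin 3) (Fin 3) F) * (ρ • (s.1 * h.1))) := by rw [E1]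
        _ = (ρ * ρ) • ((s.1 : Matrix (Fin 3) (Fin 3) F) * s.1 * h.1) := by
            rw [Matrix.mul_smul, smul_smul, Matrix.mul_assoc]
        _ = (ρ * ρ) • h.1 := by rw [hSS, Matrix.one_mul]
    have hρ2 : ρ * ρ = 1 := by
      by_contra hne
      have h3 : (1 - ρ * ρ) • (h.1 : Matrix (Fin 3) (Fin 3) F) = 0 := by
        rw [sub_smul, one_smul, ← E2, sub_self]
      have h4 : (h.1 : Matrix (Fin 3) (Fin 3) F) = 0 :=
        (smul_eq_zero.mp h3).resolve_left (fun h0 => hne (sub_eq_zero.mp h0).symm)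
      have h5 := h.2
      rw [h4, Matrix.det_zero] at h5
      exact zero_ne_one h5
    have hρ1 : ρ = 1 := by
      have : ρ ^ 3 = ρ * ρ * ρ := by ring
      rw [this, hρ2, one_mul] at hρ3'
      exact hρ3'
    have hcomm : h * s = s * h := by
      apply Subtype.ext
      show (h.1 : Matrix (Fin 3) (Fin 3) F) * s.1 = s.1 * h.1
      rw [E1, hρ1, one_smul]
    have hcomm' : g⁻¹ * h * g * d0 = d0 * (g⁻¹ * h * g) := by
      calc g⁻¹ * h * g * d0 = g⁻¹ * h * (g * d0) := by group
        _ = g⁻¹ * h * (s * g) := by rw [hsg]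
        _ = g⁻¹ * (h * s) * g := by group
        _ = g⁻¹ * (s * h) * g := by rw [hcomm]
        _ = g⁻¹ * (s * g) * (g⁻¹ * h * g) := by group
        _ = g⁻¹ * (g * d0) * (g⁻¹ * h * g) := by rw [hsg]
        _ = d0 * (g⁻¹ * h * g) := by group
    have hM : ((g⁻¹ * h * g : SL(3, F)).1 : Matrix (Fin 3) (Fin 3) F) * D0 =
        D0 * (g⁻¹ * h * g : SL(3, F)).1 := by
      have := congrArg (fun w : SL(3, F) => (w.1 : Matrix (Fin 3) (Fin 3) F)) hcomm'
      exact this
    obtain ⟨A0, hA0, hphi⟩ := cent_D0 h2 _ (g⁻¹ * h * g : SL(3, F)).2 hM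
    refine ⟨Matrix.GeneralLinearGroup.mkOfDetNeZero A0 hA0, ?_⟩
    rw [Psi_apply]
    congr 1
    have hp : phi (Matrix.GeneralLinearGroup.mkOfDetNeZero A0 hA0) = g⁻¹ * h * g := by
      apply Subtype.ext
      exact hphi
    rw [hp]
    group

end

theorem result {F : Type*} [Field F] [Fintype F] (hF : Odd (Fintype.card F)) (t : Matrix.ProjectiveSpecialLinearGroup (Fin 3) F) (ht : orderOf t = 2) : ∃ (Z : Subgroup (GL (Fin 2) F)) (_ : Z.Normal), Z ≤ Subgroup.center (GL (Fin 2) F) ∧ Nat.card Z = Nat.gcd (Fintype.card F - 1) 3 ∧ Nonempty (↥(Subgroup.centralizer ({t} : Set (Matrix.ProjectiveSpecialLinearGroup (Fin 3) F))) ≃* GL (Fin 2) F ⧸ Z) := by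
  classical
  have h2 : (2 : F) ≠ 0 := by
    intro h
    have h3 : ringChar F = 2 := CharP.ringChar_of_prime_eq_zero Nat.prime_two (by exact_mod_cast h)
    have h4 := FiniteField.even_card_iff_char_two.mp h3
    rcases hF with ⟨k, hk⟩
    omega
  obtain ⟨s0, rfl⟩ := QuotientGroup.mk_surjective t
  have ht2 : ((s0 : SL(3, F)) : PSL(3, F)) ^ 2 = 1 := by
    rw [← ht]; exact pow_orderOf_eq_one _
  have hmem : s0 ^ 2 ∈ Subgroup.center SL(3, F) := by
    rw [← QuotientGroup.eq_one_iff, QuotientGroup.mk_pow]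
    exact ht2
  obtain ⟨r, hr3, hr⟩ := Matrix.SpecialLinearGroup.mem_center_iff.mp hmem
  have hr3' : r ^ 3 = 1 := by simpa using hr3
  let c : SL(3, F) := ⟨Matrix.scalar (Fin 3) r, by
    rw [Matrix.scalar_apply, Matrix.det_diagonal]; simpa using hr3'⟩
  have hc_center : c ∈ Subgroup.center SL(3, F) := by
    rw [Matrix.SpecialLinearGroup.mem_center_iff]
    exact ⟨r, hr3, rfl⟩
  have hs0 : s0 ^ 2 = c := Subtype.ext hr.symm
  have hcomm : s0 * c = c * s0 := Subgroup.mem_center_iff.mp hc_center s0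
  have hccc : c * c * c = 1 := by
    apply Subtype.ext
    show Matrix.scalar (Fin 3) r * Matrix.scalar (Fin 3) r * Matrix.scalar (Fin 3) r = 1
    rw [← map_mul, ← map_mul]
    have : r * r * r = 1 := by rw [← hr3']; ring
    rw [this, map_one]
  have hss : (c * s0) * (c * s0) = 1 := by
    calc c * s0 * (c * s0) = c * (s0 * c) * s0 := by group
      _ = c * (c * s0) * s0 := by rw [hcomm]
      _ = c * c * (s0 ^ 2) := by rw [sq]; group
      _ = c * c * c := by rw [hs0]
      _ = 1 := hccc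
  have hs_mk : ((c * s0 : SL(3, F)) : PSL(3, F)) = ((s0 : SL(3, F)) : PSL(3, F)) := by
    rw [QuotientGroup.mk_mul, (QuotientGroup.eq_one_iff c).mpr hc_center, one_mul]
  have hs_ne : c * s0 ≠ 1 := by
    intro h1
    have : ((s0 : SL(3, F)) : PSL(3, F)) = 1 := by rw [← hs_mk, h1]; rfl
    rw [this, orderOf_one] at ht
    norm_num at ht
  have hSS : ((c * s0 : SL(3, F)).1 : Matrix (Fin 3) (Fin 3) F) * (c * s0 : SL(3, F)).1 = 1 := by
    have := congrArg (fun w : SL(3, F) => (w.1 : Matrix (Fin 3) (Fin 3) F)) hss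
    exact this
  have hSne : ((c * s0 : SL(3, F)).1 : Matrix (Fin 3) (Fin 3) F) ≠ 1 := by
    intro h1
    exact hs_ne (Subtype.ext h1)
  obtain ⟨G, hGdet, hSG⟩ := exists_conj h2 _ hSS (c * s0 : SL(3, F)).2 hSne
  obtain ⟨g, hg⟩ : ∃ g : SL(3, F), (g.1 : Matrix (Fin 3) (Fin 3) F) = G := ⟨⟨G, hGdet⟩, rfl⟩
  have hsg : (c * s0) * g = g * d0 := by
    apply Subtype.ext
    show ((c * s0 : SL(3, F)).1 : Matrix (Fin 3) (Fin 3) F) * g.1 = g.1 * D0
    rw [hg]
    exact hSG
  have hrange := range_eq h2 (c * s0) g hss hsg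
  rw [hs_mk] at hrange
  refine ⟨(Psi g).ker, MonoidHom.normal_ker _, ker_le_center _, card_ker _, ⟨?_⟩⟩
  exact ((QuotientGroup.quotientKerEquivRange (Psi g)).trans
    (MulEquiv.subgroupCongr hrange)).symm

end Cfsg.Agent.S1219
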