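import Cfsg.Statements.S1224
import Mathlib
import Cfsg.Agent.Lib.Helper6.SE

set_option autoImplicit false
open Cfsg Cfsg.Agent.Lib.Helper6 Cfsg.Agent.Lib.Helper1

namespace Cfsg.Agent.S1224

theorem main1224 {G : Type*} [Group G] [Finite G] (H : Subgroup G) (hH : Cfsg.IsStronglyEmbedded H) (x y : G ⧸ H) (hxy : x ≠ y) : Nat.card {i : G // orderOf i = 2 ∧ i • x = y} = Nat.card {t : G // orderOf t = 2 ∧ t ∈ H} := by
  obtain ⟨g₁, rfl⟩ := QuotientGroup.mk_surjective x
  obtain ⟨g₂, rfl⟩ := QuotientGroup.mk_surjective y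
  obtain ⟨g, hg⟩ : ∃ g : G, g = g₁⁻¹ * g₂ := ⟨_, rfl⟩
  have hgH : g ∉ H := by
    intro h
    apply hxy
    rw [QuotientGroup.eq, ← hg]; exact h
  have e1 : Nat.card {i : G // orderOf i = 2 ∧ i • (g₁ : G ⧸ H) = (g₂ : G ⧸ H)} =
      Nat.card {s : G // orderOf s = 2 ∧ g⁻¹ * s ∈ H} := by
    apply Nat.card_congr
    refine Equiv.subtypeEquiv (MulAut.conj g₁⁻¹).toEquiv ?_
    intro i
    have h1 : (MulAut.conj g₁⁻¹).toEquiv i = g₁⁻¹ * i * g₁ := by
      show g₁⁻¹ * i * g₁⁻¹⁻¹ = _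
      rw [inv_inv]
    rw [h1]
    have h2 : orderOf (g₁⁻¹ * i * g₁) = orderOf i := by
      have := orderOf_conj g₁⁻¹ i
      rw [inv_inv] at this
      exact this
    rw [h2]
    apply and_congr_right
    intro hi
    rw [MulAction.Quotient.smul_mk, smul_eq_mul, QuotientGroup.eq]
    have e : g⁻¹ * (g₁⁻¹ * i * g₁) = ((i * g₁)⁻¹ * g₂)⁻¹ := by
      rw [hg]; group
    rw [e, inv_mem_iff]
  have e3 : Nat.card {b : G // orderOf b = 2 ∧ g⁻¹ * b * g ∈ H} =
      Nat.card {t : G // orderOf t = 2 ∧ t ∈ H} := by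
    apply Nat.card_congr
    refine Equiv.subtypeEquiv (MulAut.conj g⁻¹).toEquiv ?_
    intro b
    have h1 : (MulAut.conj g⁻¹).toEquiv b = g⁻¹ * b * g := by
      show g⁻¹ * b * g⁻¹⁻¹ = _
      rw [inv_inv]
    rw [h1]
    have h2 : orderOf (g⁻¹ * b * g) = orderOf b := by
      have := orderOf_conj g⁻¹ b
      rw [inv_inv] at this
      exact this
    rw [h2]
  rw [e1, se_card_swap hH g hgH, e3]


/-- Let H be a strongly embedded subgroup of the finite group G and x ≠ y two cosets in G/H. Then the number of involutions i of G with i • x = y equals the number of involutions lying in H. -/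
theorem result {G : Type*} [Group G] [Finite G] (H : Subgroup G) (hH : Cfsg.IsStronglyEmbedded H) (x y : G ⧸ H) (hxy : x ≠ y) : Nat.card {i : G // orderOf i = 2 ∧ i • x = y} = Nat.card {t : G // orderOf t = 2 ∧ t ∈ H} := by
  exact main1224 H hH x y hxy

end Cfsg.Agent.S1224
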