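import Cfsg.Statements.S1228
import Mathlib
import Cfsg.Agent.Lib.Helper6.Zass2

set_option autoImplicit false
open Cfsg Cfsg.Agent.Lib.Helper6 Cfsg.Agent.Lib.Helper1

namespace Cfsg.Agent.S1228

theorem main1228 {G : Type*} [Group G] [Finite G] (T : Sylow 2 G) (hnc : ¬ IsCyclic (T : Subgroup G)) (hnn : ¬ (T : Subgroup G).Normal) (hC : ∀ t : G, orderOf t = 2 → IsMulCommutative (Subgroup.centralizer ({t} : Set G)) ∧ ∀ c ∈ Subgroup.centralizer ({t} : Set G), c ^ 2 = 1) (u : G) (hu : orderOf u = 2) (huH : u ∉ Subgroup.normalizer ((T : Subgroup G) : Set G)) : Subgroup.normalizer ((Subgroup.normalizer ((T : Subgroup G) : Set G) ⊓ (Subgroup.normalizer ((T : Subgroup G) : Set G)).map (MulAut.conj u).toMonoidHom : Subgroup G) : Set G) = (Subgroup.normalizer ((T : Subgroup G) : Set G) ⊓ (Subgroup.normalizer ((T : Subgroup G) : Set G)).map (MulAut.conj u).toMonoidHom) ⊔ Subgroup.zpowers u ∧ ∀ g : G, ((∀ d ∈ Subgroup.normalizer ((T : Subgroup G) : Set G) ⊓ (Subgroup.normalizer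 ((T : Subgroup G) : Set G)).map (MulAut.conj u).toMonoidHom, d • (QuotientGroup.mk g : G ⧸ Subgroup.normalizer ((T : Subgroup G) : Set G)) = QuotientGroup.mk g) ↔ (QuotientGroup.mk g : G ⧸ Subgroup.normalizer ((T : Subgroup G) : Set G)) = QuotientGroup.mk 1 ∨ (QuotientGroup.mk g : G ⧸ Subgroup.normalizer ((T : Subgroup G) : Set G)) = QuotientGroup.mk u) := by
  have h : ZHyp T := ⟨hnc, hnn, hC⟩
  refine ⟨h.normalizer_D u hu huH, ?_⟩
  intro g
  have hsm : ∀ d : G, d • (QuotientGroup.mk g : G ⧸ NT T) = QuotientGroup.mk g ↔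
      g⁻¹ * d * g ∈ NT T := by
    intro d
    rw [MulAction.Quotient.smul_mk, smul_eq_mul, QuotientGroup.eq]
    have e : (d * g)⁻¹ * g = (g⁻¹ * d * g)⁻¹ := by group
    rw [e, inv_mem_iff]
  have h1 : (QuotientGroup.mk g : G ⧸ NT T) = QuotientGroup.mk 1 ↔ g ∈ NT T := by
    rw [QuotientGroup.eq, mul_one, inv_mem_iff]
  have h2 : (QuotientGroup.mk g : G ⧸ NT T) = QuotientGroup.mk u ↔ g⁻¹ * u ∈ NT T := by
    rw [QuotientGroup.eq]
  show (∀ d ∈ DT T u, d • (QuotientGroup.mk g : G ⧸ NT T) = QuotientGroup.mk g) ↔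
    (QuotientGroup.mk g : G ⧸ NT T) = QuotientGroup.mk 1 ∨
      (QuotientGroup.mk g : G ⧸ NT T) = QuotientGroup.mk u
  rw [h1, h2]
  constructor
  · intro hfix
    apply h.fix_D u hu huH g
    intro d hd
    exact (hsm d).1 (hfix d hd)
  · intro hor d hd
    rw [hsm]
    rcases hor with hg | hgu
    · exact (NT T).mul_mem ((NT T).mul_mem ((NT T).inv_mem hg) (Subgroup.mem_inf.1 hd).1) hg
    · have h3 : u⁻¹ * d * u ∈ NT T := mem_map_conj_iff.1 (Subgroup.mem_inf.1 hd).2
      have := (NT T).mul_mem ((NT T).mul_mem hgu h3) ((NT T).inv_mem hgu)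
      have e : g⁻¹ * u * (u⁻¹ * d * u) * (g⁻¹ * u)⁻¹ = g⁻¹ * d * g := by group
      rw [e] at this
      exact this


/-- Let G be a finite group with a Sylow 2-subgroup T that is neither cyclic nor normal, such that the centralizer of every involution is an elementary abelian 2-group; put H = N_G(T), let u be an involution outside H and D = H ∩ uHu⁻¹. Then N_G(D) = D ⊔ ⟨u⟩, and a coset gH is fixed by every element of D exactly when gH = H or gH = uH. -/
theorem result {G : Type*} [Group G] [Finite G] (T : Sylow 2 G) (hnc : ¬ IsCyclic (T : Subgroup G)) (hnn : ¬ (T : Subgroup G).Normal) (hC : ∀ t : G, orderOf t = 2 → IsMulCommutative (Subgroup.centralizer ({t} : Set G)) ∧ ∀ c ∈ Subgroup.centralizer ({t} : Set G), c ^ 2 = 1) (u : G) (hu : orderOf u = 2) (huH : u ∉ Subgroup.normalizer ((T : Subgroup G) : Set G)) : Subgroup.normalizer ((Subgroup.normalizer ((T : Subgroup G) : Set G) ⊓ (Subgroup.normalizer ((T : Subgroup G) : Set G)).map (MulAut.conj u).toMonoidHom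 : Subgroup G) : Set G) = (Subgroup.normalizer ((T : Subgroup G) : Set G) ⊓ (Subgroup.normalizer ((T : Subgroup G) : Set G)).map (MulAut.conj u).toMonoidHom) ⊔ Subgroup.zpowers u ∧ ∀ g : G, ((∀ d ∈ Subgroup.normalizer ((T : Subgroup G) : Set G) ⊓ (Subgroup.normalizer ((T : Subgroup G) : Set G)).map (MulAut.conj u).toMonoidHom, d • (QuotientGroup.mk g : G ⧸ Subgroup.normalizer ((T : Subgroup G) : Set G)) = QuotientGroup.mk g) ↔ (QuotientGroup.mk g : G ⧸ Subgroup.normalizer ((T : Subgroup G) : Set G)) = QuotientGroup.mk 1 ∨ (QuotientGroup.mk g : G ⧸ Subgroup.normalizer ((T : Subgroup G) : Set G)) = QuotientGroup.mk u) := by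
  exact main1228 T hnc hnn hC u hu huH

end Cfsg.Agent.S1228
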