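import Cfsg.Statements.S1229
import Mathlib
import Cfsg.Agent.Lib.Helper6.Zass3

set_option autoImplicit false
open Cfsg Cfsg.Agent.Lib.Helper6 Cfsg.Agent.Lib.Helper1

namespace Cfsg.Agent.S1229

variable {G : Type*} [Group G] [Finite G] {T : Sylow 2 G}

theorem smul_mk' (a g : G) : a • (QuotientGroup.mk g : G ⧸ NT T) = QuotientGroup.mk (a * g) := by
  rw [MulAction.Quotient.smul_mk, smul_eq_mul]

section D

variable (h : ZHyp T) (u : G) (hu : orderOf u = 2) (huH : u ∉ NT T)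

include h hu huH

theorem P1 (x : G ⧸ NT T) (hx : x ≠ QuotientGroup.mk 1) :
    ∃ t ∈ (T : Subgroup G), x = QuotientGroup.mk (t * u) := by
  obtain ⟨g, rfl⟩ := QuotientGroup.mk_surjective x
  have hg : g ∉ NT T := by
    intro hg
    apply hx
    rw [QuotientGroup.eq, mul_one]
    exact (NT T).inv_mem hg
  obtain ⟨t, ht, hgt⟩ := h.T_transitive u hu huH g hg
  exact ⟨t, ht, QuotientGroup.eq.2 hgt⟩

theorem P2 (t₁ t₂ : G) (h1 : t₁ ∈ (T : Subgroup G)) (h2 : t₂ ∈ (T : Subgroup G))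
    (h12 : (QuotientGroup.mk (t₁ * u) : G ⧸ NT T) = QuotientGroup.mk (t₂ * u)) : t₁ = t₂ :=
  h.T_free u hu huH t₁ t₂ h1 h2 (QuotientGroup.eq.1 h12)

theorem norm2 (x₁ x₂ : G ⧸ NT T) (hne : x₁ ≠ x₂) :
    ∃ c : G, c • (QuotientGroup.mk 1 : G ⧸ NT T) = x₁ ∧
      c • (QuotientGroup.mk u : G ⧸ NT T) = x₂ := by
  obtain ⟨a, rfl⟩ := QuotientGroup.mk_surjective x₁
  have h1 : a⁻¹ • x₂ ≠ QuotientGroup.mk 1 := by
    intro h2
    apply hne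
    have := congrArg (fun y => a • y) h2
    simp only [smul_inv_smul] at this
    rw [this, smul_mk', mul_one]
  obtain ⟨t, ht, hx⟩ := P1 h u hu huH _ h1
  refine ⟨a * t, ?_, ?_⟩
  · rw [smul_mk', mul_one, QuotientGroup.eq]
    have e : (a * t)⁻¹ * a = t⁻¹ := by group
    rw [e]
    exact (NT T).inv_mem (h.T_le ht)
  · rw [smul_mk', mul_assoc, ← smul_mk', ← hx, smul_inv_smul]

theorem third (c : G) (x₁ x₂ x₃ : G ⧸ NT T)
    (h1 : c • (QuotientGroup.mk 1 : G ⧸ NT T) = x₁)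
    (h2 : c • (QuotientGroup.mk u : G ⧸ NT T) = x₂) (h13 : x₁ ≠ x₃) (h23 : x₂ ≠ x₃) :
    ∃ s ∈ (T : Subgroup G), s ≠ 1 ∧ x₃ = c • (QuotientGroup.mk (s * u) : G ⧸ NT T) := by
  have h3 : c⁻¹ • x₃ ≠ QuotientGroup.mk 1 := by
    intro h4
    apply h13
    rw [← h1, ← h4, smul_inv_smul]
  obtain ⟨s, hs, hx⟩ := P1 h u hu huH _ h3
  refine ⟨s, hs, ?_, ?_⟩
  · intro hs1
    apply h23
    rw [hs1, one_mul] at hx
    rw [← h2, ← hx, smul_inv_smul]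
  · rw [← hx, smul_inv_smul]

omit hu in
theorem D_smul_one (d : G) (hd : d ∈ DT T u) :
    d • (QuotientGroup.mk 1 : G ⧸ NT T) = QuotientGroup.mk 1 := by
  rw [smul_mk', mul_one, QuotientGroup.eq, mul_one]
  exact (NT T).inv_mem (Subgroup.mem_inf.1 hd).1

omit hu in
theorem D_smul_u (d : G) (hd : d ∈ DT T u) :
    d • (QuotientGroup.mk u : G ⧸ NT T) = QuotientGroup.mk u := by
  rw [smul_mk', QuotientGroup.eq]
  have h3 : u⁻¹ * d * u ∈ NT T := mem_map_conj_iff.1 (Subgroup.mem_inf.1 hd).2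
  have e : (d * u)⁻¹ * u = (u⁻¹ * d * u)⁻¹ := by group
  rw [e]
  exact (NT T).inv_mem h3

omit hu in
theorem D_smul_su (d : G) (hd : d ∈ DT T u) (s : G) :
    d • (QuotientGroup.mk (s * u) : G ⧸ NT T) = QuotientGroup.mk ((d * s * d⁻¹) * u) := by
  rw [smul_mk', QuotientGroup.eq]
  have h3 : u⁻¹ * d * u ∈ NT T := mem_map_conj_iff.1 (Subgroup.mem_inf.1 hd).2
  have e : (d * (s * u))⁻¹ * (d * s * d⁻¹ * u) = (u⁻¹ * d * u)⁻¹ := by group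
  rw [e]
  exact (NT T).inv_mem h3

theorem claim1 (x₁ x₂ x₃ y₁ y₂ y₃ : G ⧸ NT T) (hx12 : x₁ ≠ x₂) (hx13 : x₁ ≠ x₃) (hx23 : x₂ ≠ x₃)
    (hy12 : y₁ ≠ y₂) (hy13 : y₁ ≠ y₃) (hy23 : y₂ ≠ y₃) :
    ∃ g : G, g • x₁ = y₁ ∧ g • x₂ = y₂ ∧ g • x₃ = y₃ := by
  obtain ⟨cx, hcx1, hcx2⟩ := norm2 h u hu huH x₁ x₂ hx12
  obtain ⟨cy, hcy1, hcy2⟩ := norm2 h u hu huH y₁ y₂ hy12
  obtain ⟨s, hs, hs1, hx3⟩ := third h u hu huH cx x₁ x₂ x₃ hcx1 hcx2 hx13 hx23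
  obtain ⟨s', hs', hs'1, hy3⟩ := third h u hu huH cy y₁ y₂ y₃ hcy1 hcy2 hy13 hy23
  obtain ⟨d, hd, hds⟩ := h.D_trans u hu huH s s' hs hs1 hs' hs'1
  refine ⟨cy * d * cx⁻¹, ?_, ?_, ?_⟩
  · rw [← hcx1, mul_smul, mul_smul, inv_smul_smul, D_smul_one h u huH d hd, hcy1]
  · rw [← hcx2, mul_smul, mul_smul, inv_smul_smul, D_smul_u h u huH d hd, hcy2]
  · rw [hx3, mul_smul, mul_smul, inv_smul_smul, D_smul_su h u huH d hd, hds, hy3]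

theorem claim2 (g : G) (x₁ x₂ x₃ : G ⧸ NT T) (hx12 : x₁ ≠ x₂) (hx13 : x₁ ≠ x₃) (hx23 : x₂ ≠ x₃)
    (h1 : g • x₁ = x₁) (h2 : g • x₂ = x₂) (h3 : g • x₃ = x₃) : g = 1 := by
  obtain ⟨c, hc1, hc2⟩ := norm2 h u hu huH x₁ x₂ hx12
  obtain ⟨s, hs, hs1, hx3⟩ := third h u hu huH c x₁ x₂ x₃ hc1 hc2 hx13 hx23
  obtain ⟨g', hg'⟩ : ∃ g' : G, g' = c⁻¹ * g * c := ⟨_, rfl⟩
  have f1 : g' • (QuotientGroup.mk 1 : G ⧸ NT T) = QuotientGroup.mk 1 := by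
    rw [hg', mul_smul, mul_smul, hc1, h1, ← hc1, inv_smul_smul]
  have f2 : g' • (QuotientGroup.mk u : G ⧸ NT T) = QuotientGroup.mk u := by
    rw [hg', mul_smul, mul_smul, hc2, h2, ← hc2, inv_smul_smul]
  have f3 : g' • (QuotientGroup.mk (s * u) : G ⧸ NT T) = QuotientGroup.mk (s * u) := by
    rw [hg', mul_smul, mul_smul, ← hx3, h3, hx3, inv_smul_smul]
  have hg'H : g' ∈ NT T := by
    rw [smul_mk', mul_one, QuotientGroup.eq, mul_one] at f1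
    have := (NT T).inv_mem f1
    rw [inv_inv] at this
    exact this
  have hg'D : g' ∈ DT T u := by
    refine Subgroup.mem_inf.2 ⟨hg'H, ?_⟩
    rw [mem_map_conj_iff]
    rw [smul_mk', QuotientGroup.eq] at f2
    have := (NT T).inv_mem f2
    have e : ((g' * u)⁻¹ * u)⁻¹ = u⁻¹ * g' * u := by group
    rw [e] at this
    exact this
  rw [D_smul_su h u huH g' hg'D] at f3
  have h5 := P2 h u hu huH _ _ (ZHyp.conj_mem_T' g' hg'H s hs) hs f3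
  have h6 := h.D_free u hu huH g' hg'D s hs hs1 h5
  have : g = c * g' * c⁻¹ := by rw [hg']; group
  rw [this, h6]; group

theorem claim3 (x y : G ⧸ NT T) (hx : x ≠ QuotientGroup.mk 1) (hy : y ≠ QuotientGroup.mk 1) :
    ∃! t : G, t ∈ T ∧ t • x = y := by
  obtain ⟨t₁, ht₁, rfl⟩ := P1 h u hu huH x hx
  obtain ⟨t₂, ht₂, rfl⟩ := P1 h u hu huH y hy
  refine ⟨t₂ * t₁⁻¹, ⟨?_, ?_⟩, ?_⟩
  · exact (T : Subgroup G).mul_mem ht₂ ((T : Subgroup G).inv_mem ht₁)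
  · rw [smul_mk']
    congr 1
    group
  · rintro t' ⟨ht', hty⟩
    rw [smul_mk', ← mul_assoc] at hty
    have := P2 h u hu huH (t' * t₁) t₂ ((T : Subgroup G).mul_mem ht' ht₁) ht₂ hty
    rw [← this]; group

end D

theorem main1229 {G : Type*} [Group G] [Finite G] (T : Sylow 2 G) (hnc : ¬ IsCyclic (T : Subgroup G)) (hnn : ¬ (T : Subgroup G).Normal) (hC : ∀ t : G, orderOf t = 2 → IsMulCommutative (Subgroup.centralizer ({t} : Set G)) ∧ ∀ c ∈ Subgroup.centralizer ({t} : Set G), c ^ 2 = 1) : (∀ x₁ x₂ x₃ y₁ y₂ y₃ : G ⧸ Subgroup.normalizer ((T : Subgroup G) : Set G), x₁ ≠ x₂ → x₁ ≠ x₃ → x₂ ≠ x₃ → y₁ ≠ y₂ → y₁ ≠ y₃ → y₂ ≠ y₃ → ∃ g : G, g • x₁ = y₁ ∧ g • x₂ = y₂ ∧ g • x₃ = y₃) ∧ (∀ g : G, ∀ x₁ x₂ x₃ : G ⧸ Subgroup.normalizer ((T : Subgroup G) : Set G), x₁ ≠ x₂ → x₁ ≠ x₃ → x₂ ≠ x₃ → g • x₁ = x₁ → g • x₂ = x₂ → g • x₃ = x₃ → g = 1) ∧ (∀ x y : G ⧸ Subgroup.normalizer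 ((T : Subgroup G) : Set G), x ≠ QuotientGroup.mk 1 → y ≠ QuotientGroup.mk 1 → ∃! t : G, t ∈ T ∧ t • x = y) := by
  have h : ZHyp T := ⟨hnc, hnn, hC⟩
  obtain ⟨u, hu, huH⟩ := h.exists_inv_not_mem
  exact ⟨claim1 h u hu huH, claim2 h u hu huH, claim3 h u hu huH⟩


/-- Let G be a finite group with a Sylow 2-subgroup T that is neither cyclic nor normal, such that the centralizer of every involution is an elementary abelian 2-group; put H = N_G(T) and X = G/H. Then G is triply transitive on X, an element fixing three distinct points of X is the identity, and T acts regularly on X minus the point H. -/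
theorem result {G : Type*} [Group G] [Finite G] (T : Sylow 2 G) (hnc : ¬ IsCyclic (T : Subgroup G)) (hnn : ¬ (T : Subgroup G).Normal) (hC : ∀ t : G, orderOf t = 2 → IsMulCommutative (Subgroup.centralizer ({t} : Set G)) ∧ ∀ c ∈ Subgroup.centralizer ({t} : Set G), c ^ 2 = 1) : (∀ x₁ x₂ x₃ y₁ y₂ y₃ : G ⧸ Subgroup.normalizer ((T : Subgroup G) : Set G), x₁ ≠ x₂ → x₁ ≠ x₃ → x₂ ≠ x₃ → y₁ ≠ y₂ → y₁ ≠ y₃ → y₂ ≠ y₃ → ∃ g : G, g • x₁ = y₁ ∧ g • x₂ = y₂ ∧ g • x₃ = y₃) ∧ (∀ g : G, ∀ x₁ x₂ x₃ : G ⧸ Subgroup.normalizer ((T : Subgroup G) : Set G), x₁ ≠ x₂ → x₁ ≠ x₃ → x₂ ≠ x₃ → g • x₁ = x₁ → g • x₂ = x₂ → g • x₃ = x₃ → g = 1) ∧ (∀ x y : G ⧸ Subgroup.normalizer ((T : Subgroup G) : Set G), x ≠ QuotientGroup.mk 1 → y ≠ QuotientGroup.mk 1 → ∃! t : G, t ∈ T ∧ t • x = y) := by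
  exact main1229 T hnc hnn hC

end Cfsg.Agent.S1229
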