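import Cfsg.Statements.S1230
import Mathlib
import Cfsg.Agent.Lib.Helper6.PGLRec2
import Cfsg.Agent.Lib.Helper6.Zass3

set_option autoImplicit false
open Cfsg Cfsg.Agent.Lib.Helper6 Cfsg.Agent.Lib.Helper1

namespace Cfsg.Agent.S1230

section

variable {G : Type*} [Group G] [Finite G] {T : Sylow 2 G}
variable (h : ZHyp T) (u : G) (hu : orderOf u = 2) (huH : u ∉ NT T)

include h hu huH

theorem cover (x : G ⧸ NT T) : x = ((1 : G) : G ⧸ NT T) ∨
    ∃ t ∈ (T : Subgroup G), x = ((t * u : G) : G ⧸ NT T) := by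
  induction x using QuotientGroup.induction_on with
  | H g =>
    by_cases hg : g ∈ NT T
    · left
      rw [QuotientGroup.eq, mul_one]
      exact (NT T).inv_mem hg
    · right
      obtain ⟨t, ht, htg⟩ := h.T_transitive u hu huH g hg
      exact ⟨t, ht, QuotientGroup.eq.2 htg⟩

omit h hu in
theorem tu_ne (t : G) (ht : t ∈ (T : Subgroup G)) :
    ((t * u : G) : G ⧸ NT T) ≠ ((1 : G) : G ⧸ NT T) := by
  intro heq
  rw [QuotientGroup.eq, mul_one] at heq
  apply huH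
  have h1 := (NT T).inv_mem heq
  rw [inv_inv] at h1
  have := (NT T).mul_mem ((NT T).inv_mem (Subgroup.le_normalizer ht)) h1
  rwa [inv_mul_cancel_left] at this

theorem tu_inj (t₁ t₂ : G) (h1 : t₁ ∈ (T : Subgroup G)) (h2 : t₂ ∈ (T : Subgroup G))
    (heq : ((t₁ * u : G) : G ⧸ NT T) = ((t₂ * u : G) : G ⧸ NT T)) : t₁ = t₂ :=
  h.T_free u hu huH t₁ t₂ h1 h2 (QuotientGroup.eq.1 heq)

omit h hu huH in
theorem D_smul_one (d : G) (hd : d ∈ NT T) :
    d • ((1 : G) : G ⧸ NT T) = ((1 : G) : G ⧸ NT T) := by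
  show (((d * 1 : G)) : G ⧸ NT T) = _
  rw [QuotientGroup.eq, mul_one, mul_one]
  exact (NT T).inv_mem hd

omit h hu huH in
theorem D_smul_tu (d : G) (hd : d ∈ DT T u) (t : G) :
    d • ((t * u : G) : G ⧸ NT T) = ((d * t * d⁻¹ * u : G) : G ⧸ NT T) := by
  show (((d * (t * u) : G)) : G ⧸ NT T) = _
  rw [QuotientGroup.eq]
  have h2 : u⁻¹ * d * u ∈ NT T := mem_map_conj_iff.1 (Subgroup.mem_inf.1 hd).2
  have e : (d * (t * u))⁻¹ * (d * t * d⁻¹ * u) = (u⁻¹ * d * u)⁻¹ := by group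
  rw [e]
  exact (NT T).inv_mem h2

theorem normalize (t₀ : G) (ht₀ : t₀ ∈ (T : Subgroup G)) (ht₀1 : t₀ ≠ 1)
    (x : Fin 3 ↪ G ⧸ NT T) :
    ∃ g : G, g • x 0 = ((1 : G) : G ⧸ NT T) ∧ g • x 1 = ((u : G) : G ⧸ NT T) ∧
      g • x 2 = ((t₀ * u : G) : G ⧸ NT T) := by
  -- step 1
  obtain ⟨a, ha⟩ : ∃ a : G, x 0 = ((a : G) : G ⧸ NT T) := by
    induction h0 : x 0 using QuotientGroup.induction_on with
    | H a => exact ⟨a, rfl⟩
  have h01 : x 0 ≠ x 1 := fun h' => absurd (x.injective h') (by decide)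
  have h02 : x 0 ≠ x 2 := fun h' => absurd (x.injective h') (by decide)
  have h12 : x 1 ≠ x 2 := fun h' => absurd (x.injective h') (by decide)
  have e0 : a⁻¹ • x 0 = ((1 : G) : G ⧸ NT T) := by
    rw [ha]
    show (((a⁻¹ * a : G)) : G ⧸ NT T) = _
    rw [inv_mul_cancel]
  -- step 2
  have hy1 : a⁻¹ • x 1 ≠ ((1 : G) : G ⧸ NT T) := by
    rw [← e0]
    intro h'
    exact h01 (MulAction.injective a⁻¹ h').symm
  obtain ⟨t, ht, hty⟩ : ∃ t ∈ (T : Subgroup G), a⁻¹ • x 1 = ((t * u : G) : G ⧸ NT T) := by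
    rcases cover h u hu huH (a⁻¹ • x 1) with h' | h'
    · exact absurd h' hy1
    · exact h'
  have htN : t ∈ NT T := Subgroup.le_normalizer ht
  have e0' : (t⁻¹ * a⁻¹) • x 0 = ((1 : G) : G ⧸ NT T) := by
    rw [mul_smul, e0]
    exact D_smul_one t⁻¹ ((NT T).inv_mem htN)
  have e1' : (t⁻¹ * a⁻¹) • x 1 = ((u : G) : G ⧸ NT T) := by
    rw [mul_smul, hty]
    show (((t⁻¹ * (t * u) : G)) : G ⧸ NT T) = _
    rw [inv_mul_cancel_left]
  -- step 3
  have hy2 : (t⁻¹ * a⁻¹) • x 2 ≠ ((1 : G) : G ⧸ NT T) := by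
    rw [← e0']
    intro h'
    exact h02 (MulAction.injective _ h').symm
  have hy2' : (t⁻¹ * a⁻¹) • x 2 ≠ ((u : G) : G ⧸ NT T) := by
    rw [← e1']
    intro h'
    exact h12 (MulAction.injective _ h').symm
  obtain ⟨t', ht', hty'⟩ : ∃ t' ∈ (T : Subgroup G),
      (t⁻¹ * a⁻¹) • x 2 = ((t' * u : G) : G ⧸ NT T) := by
    rcases cover h u hu huH ((t⁻¹ * a⁻¹) • x 2) with h' | h'
    · exact absurd h' hy2
    · exact h'
  have ht'1 : t' ≠ 1 := by
    intro h'
    rw [h', one_mul] at hty'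
    exact hy2' hty'
  obtain ⟨d, hd, hdt⟩ := h.D_trans u hu huH t' t₀ ht' ht'1 ht₀ ht₀1
  have hdN : d ∈ NT T := (Subgroup.mem_inf.1 hd).1
  refine ⟨d * (t⁻¹ * a⁻¹), ?_, ?_, ?_⟩
  · rw [mul_smul, e0']
    exact D_smul_one d hdN
  · rw [mul_smul, e1']
    have := D_smul_tu u d hd 1
    rw [one_mul, mul_one, mul_inv_cancel, one_mul] at this
    exact this
  · rw [mul_smul, hty', D_smul_tu u d hd t', hdt]

theorem sharp (t₀ : G) (ht₀ : t₀ ∈ (T : Subgroup G)) (ht₀1 : t₀ ≠ 1)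
    (k : G) (h0 : k • ((1 : G) : G ⧸ NT T) = ((1 : G) : G ⧸ NT T))
    (h1 : k • ((u : G) : G ⧸ NT T) = ((u : G) : G ⧸ NT T))
    (h2 : k • ((t₀ * u : G) : G ⧸ NT T) = ((t₀ * u : G) : G ⧸ NT T)) : k = 1 := by
  have hkN : k ∈ NT T := by
    have : (((k * 1 : G)) : G ⧸ NT T) = ((1 : G) : G ⧸ NT T) := h0
    rw [QuotientGroup.eq, mul_one, mul_one] at this
    have := (NT T).inv_mem this
    rwa [inv_inv] at this
  have hkD : k ∈ DT T u := by
    refine Subgroup.mem_inf.2 ⟨hkN, ?_⟩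
    rw [mem_map_conj_iff]
    have : (((k * u : G)) : G ⧸ NT T) = ((u : G) : G ⧸ NT T) := h1
    rw [QuotientGroup.eq] at this
    have := (NT T).inv_mem this
    have e : ((k * u)⁻¹ * u)⁻¹ = u⁻¹ * k * u := by group
    rwa [e] at this
  rw [D_smul_tu u k hkD t₀] at h2
  have h3 := tu_inj h u hu huH _ _ (ZHyp.conj_mem_T' k hkN t₀ ht₀) ht₀ h2
  exact h.D_free u hu huH k hkD t₀ ht₀ ht₀1 h3

end

theorem main1230 {G : Type*} [Group G] [Finite G] (T : Sylow 2 G) (hnc : ¬ IsCyclic (T : Subgroup G)) (hnn : ¬ (T : Subgroup G).Normal) (hC : ∀ t : G, orderOf t = 2 → IsMulCommutative (Subgroup.centralizer ({t} : Set G)) ∧ ∀ c ∈ Subgroup.centralizer ({t} : Set G), c ^ 2 = 1) : ∃ (F : Type) (_ : Field F) (_ : Fintype F), Fintype.card F = Nat.card T ∧ Nonempty (G ≃* Matrix.ProjectiveSpecialLinearGroup (Fin 2) F) := by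
  classical
  have h : ZHyp T := ⟨hnc, hnn, hC⟩
  obtain ⟨u, hu, huH⟩ := h.exists_inv_not_mem
  obtain ⟨t₀, ht₀, ht₀1⟩ : ∃ t₀ ∈ (T : Subgroup G), t₀ ≠ 1 := by
    haveI := h.T_nontrivial
    obtain ⟨x, hx⟩ := exists_ne (1 : (T : Subgroup G))
    exact ⟨x.1, x.2, fun h' => hx (Subtype.ext h')⟩
  obtain ⟨f, hf⟩ := IsPGroup.iff_card.1 T.2
  have hf1 : 1 ≤ f := by
    have := h.two_lt_card
    rw [hf] at this
    by_contra hlt
    have : f = 0 := by omega
    subst this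
    simp at this
  haveI : Fintype (G ⧸ NT T) := Fintype.ofFinite _
  haveI : Fintype (T : Subgroup G) := Fintype.ofFinite _
  have hX : Fintype.card (G ⧸ NT T) = 2 ^ f + 1 := by
    let φ : Option (T : Subgroup G) → G ⧸ NT T := fun o =>
      match o with
      | none => ((1 : G) : G ⧸ NT T)
      | some t => ((t.1 * u : G) : G ⧸ NT T)
    have hφ : Function.Bijective φ := by
      constructor
      · intro o₁ o₂ h12
        match o₁, o₂ with
        | none, none => rfl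
        | none, some t => exact absurd h12.symm (tu_ne u huH t.1 t.2)
        | some t, none => exact absurd h12 (tu_ne u huH t.1 t.2)
        | some t₁, some t₂ =>
          have := tu_inj h u hu huH t₁.1 t₂.1 t₁.2 t₂.2 h12
          rw [Subtype.ext this]
      · intro x
        rcases cover h u hu huH x with h' | ⟨t, ht, h'⟩
        · exact ⟨none, h'.symm⟩
        · exact ⟨some ⟨t, ht⟩, h'.symm⟩
    rw [← Fintype.card_congr (Equiv.ofBijective φ hφ), Fintype.card_option,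
      ← Nat.card_eq_fintype_card, hf]
  have h3 : MulAction.IsMultiplyPretransitive G (G ⧸ NT T) 3 := by
    refine ⟨fun x y => ?_⟩
    obtain ⟨gx, hx0, hx1, hx2⟩ := normalize h u hu huH t₀ ht₀ ht₀1 x
    obtain ⟨gy, hy0, hy1, hy2⟩ := normalize h u hu huH t₀ ht₀ ht₀1 y
    refine ⟨gy⁻¹ * gx, ?_⟩
    ext i
    show (gy⁻¹ * gx) • x i = y i
    rw [mul_smul, inv_smul_eq_iff]
    fin_cases i
    · exact hx0.trans hy0.symm
    · exact hx1.trans hy1.symm
    · exact hx2.trans hy2.symm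
  have hsharp : ∀ x : Fin 3 ↪ G ⧸ NT T, MulAction.stabilizer G x = ⊥ := by
    intro x
    rw [eq_bot_iff]
    intro g hg
    rw [MulAction.mem_stabilizer_iff] at hg
    have hgi : ∀ i, g • x i = x i := fun i => DFunLike.congr_fun hg i
    obtain ⟨gx, hx0, hx1, hx2⟩ := normalize h u hu huH t₀ ht₀ ht₀1 x
    have key : ∀ i (p : G ⧸ NT T), gx • x i = p → (gx * g * gx⁻¹) • p = p := by
      intro i p hp
      rw [← hp, mul_smul, mul_smul, inv_smul_smul, hgi]
    have := sharp h u hu huH t₀ ht₀ ht₀1 (gx * g * gx⁻¹) (key 0 _ hx0) (key 1 _ hx1) (key 2 _ hx2)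
    rw [Subgroup.mem_bot]
    have e : g = gx⁻¹ * (gx * g * gx⁻¹) * gx := by group
    rw [e, this]; group
  obtain ⟨F, i1, i2, hF, ⟨e⟩⟩ := pgl2_of_sharp3_action hf1 hX h3 hsharp
  obtain ⟨e'⟩ := psl2_equiv_pgl2_of_card F hf1 hF
  exact ⟨F, i1, i2, hF.trans hf.symm, ⟨e.trans e'⟩⟩


/-- Let G be a finite group with a Sylow 2-subgroup T that is neither cyclic nor normal, such that the centralizer of every involution is an elementary abelian 2-group. Then G ≅ PSL(2,F) for a finite field F with |F| = |T|. -/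
theorem result {G : Type*} [Group G] [Finite G] (T : Sylow 2 G) (hnc : ¬ IsCyclic (T : Subgroup G)) (hnn : ¬ (T : Subgroup G).Normal) (hC : ∀ t : G, orderOf t = 2 → IsMulCommutative (Subgroup.centralizer ({t} : Set G)) ∧ ∀ c ∈ Subgroup.centralizer ({t} : Set G), c ^ 2 = 1) : ∃ (F : Type) (_ : Field F) (_ : Fintype F), Fintype.card F = Nat.card T ∧ Nonempty (G ≃* Matrix.ProjectiveSpecialLinearGroup (Fin 2) F) := by
  exact main1230 T hnc hnn hC

end Cfsg.Agent.S1230
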