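import Cfsg.Statements.S1231

set_option autoImplicit false
open Cfsg

namespace Cfsg.Agent.S1231

section lib

variable {G : Type*} [Group G]

/-- the conjugate subgroup `x Q x⁻¹` -/
def cj (x : G) (Q : Subgroup G) : Subgroup G := Q.map (MulAut.conj x).toMonoidHom

theorem mem_cj {x a : G} {Q : Subgroup G} : a ∈ cj x Q ↔ x⁻¹ * a * x ∈ Q := by
  unfold cj
  rw [Subgroup.mem_map]
  constructor
  · rintro ⟨q, hq, rfl⟩
    have e : x⁻¹ * ((MulAut.conj x).toMonoidHom q) * x = q := by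
      show x⁻¹ * (x * q * x⁻¹) * x = q
      group
    rw [e]; exact hq
  · intro h
    refine ⟨x⁻¹ * a * x, h, ?_⟩
    show x * (x⁻¹ * a * x) * x⁻¹ = a
    group

theorem card_cj (x : G) (Q : Subgroup G) : Nat.card (cj x Q) = Nat.card Q :=
  Subgroup.card_map_of_injective (MulAut.conj x).injective

theorem cj_mono {x : G} {Q R : Subgroup G} (h : Q ≤ R) : cj x Q ≤ cj x R := Subgroup.map_mono h

theorem cj_cj (x y : G) (Q : Subgroup G) : cj x (cj y Q) = cj (x * y) Q := by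
  ext a
  rw [mem_cj, mem_cj, mem_cj]
  have e : y⁻¹ * (x⁻¹ * a * x) * y = (x * y)⁻¹ * a * (x * y) := by group
  rw [e]

/-- `X` contains an elementary abelian `p`-subgroup of order more than `p ^ n` -/
def Big (p n : ℕ) (X : Subgroup G) : Prop :=
  ∃ E : Subgroup G, E ≤ X ∧ (∀ a ∈ E, ∀ b ∈ E, a * b = b * a) ∧ (∀ a ∈ E, a ^ p = 1) ∧
    p ^ n < Nat.card E

theorem big_iff (p n : ℕ) (X : Subgroup G) : ¬ Cfsg.PRankLE p n ↥X ↔ Big p n X := by
  constructor
  · intro h
    unfold Cfsg.PRankLE at h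
    push Not at h
    obtain ⟨A, hA, hexp, hcard⟩ := h
    refine ⟨A.map X.subtype, Subgroup.map_subtype_le A, ?_, ?_, ?_⟩
    · rintro a ⟨a', ha', rfl⟩ b ⟨b', hb', rfl⟩
      have h1 := hA.is_comm.comm ⟨a', ha'⟩ ⟨b', hb'⟩
      have h2 : a' * b' = b' * a' := congrArg Subtype.val h1
      rw [← map_mul, ← map_mul, h2]
    · rintro a ⟨a', ha', rfl⟩
      rw [← map_pow, hexp a' ha', map_one]
    · rw [Subgroup.card_map_of_injective X.subtype_injective]
      exact hcard
  · rintro ⟨E, hEX, hcomm, hexp, hcard⟩ h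
    have h1 := h (E.subgroupOf X) ⟨⟨?_⟩⟩ ?_
    · rw [Nat.card_congr (Subgroup.subgroupOfEquivOfLe hEX).toEquiv] at h1
      omega
    · intro a b
      have := hcomm a.1.1 (Subgroup.mem_subgroupOf.mp a.2) b.1.1 (Subgroup.mem_subgroupOf.mp b.2)
      exact Subtype.ext (Subtype.ext this)
    · intro a ha
      have := hexp a.1 (Subgroup.mem_subgroupOf.mp ha)
      apply Subtype.ext
      rw [Subgroup.coe_pow, Subgroup.coe_one]
      exact this

theorem big_mono {p n : ℕ} {X Y : Subgroup G} (h : X ≤ Y) : Big p n X → Big p n Y := by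
  rintro ⟨E, hE, h1, h2, h3⟩
  exact ⟨E, hE.trans h, h1, h2, h3⟩

theorem big_cj {p n : ℕ} {X : Subgroup G} (x : G) : Big p n X → Big p n (cj x X) := by
  rintro ⟨E, hE, h1, h2, h3⟩
  refine ⟨cj x E, cj_mono hE, ?_, ?_, ?_⟩
  · intro a ha b hb
    rw [mem_cj] at ha hb
    have h := h1 _ ha _ hb
    have e1 : a * b = x * ((x⁻¹ * a * x) * (x⁻¹ * b * x)) * x⁻¹ := by group
    have e2 : b * a = x * ((x⁻¹ * b * x) * (x⁻¹ * a * x)) * x⁻¹ := by group
    rw [e1, e2, h]
  · intro a ha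
    rw [mem_cj] at ha
    have h := h2 _ ha
    have e : a ^ p = x * (x⁻¹ * a * x) ^ p * x⁻¹ := by
      rw [← conj_pow]
      congr 1
      group
    rw [e, h]
    group
  · rw [card_cj]; exact h3

theorem mem_normalizer_of_cj_eq {x : G} {Q : Subgroup G} (h : cj x Q = Q) :
    x ∈ Subgroup.normalizer (Q : Set G) := by
  rw [Subgroup.mem_normalizer_iff]
  intro a
  have e : x⁻¹ * (x * a * x⁻¹) * x = a := by group
  constructor
  · intro ha
    have : x * a * x⁻¹ ∈ cj x Q := by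
      rw [mem_cj, e]; exact ha
    rw [h] at this
    exact this
  · intro ha
    have : x * a * x⁻¹ ∈ cj x Q := by
      rw [h]; exact ha
    rw [mem_cj, e] at this
    exact this

open scoped Pointwise in
theorem exists_cj_le [Finite G] {p : ℕ} [Fact p.Prime] (H : Subgroup G) (P : Sylow p ↥H)
    {R : Subgroup G} (hR : IsPGroup p ↥R) (hRH : R ≤ H) :
    ∃ h ∈ H, cj h R ≤ (P : Subgroup ↥H).map H.subtype := by
  have hR' : IsPGroup p ↥(R.subgroupOf H) := hR.comap_subtype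
  obtain ⟨S, hS⟩ := hR'.exists_le_sylow
  obtain ⟨h, hh⟩ := MulAction.exists_smul_eq (↥H) S P
  refine ⟨(h : G), h.2, ?_⟩
  intro a ha
  rw [mem_cj] at ha
  have hrH : (h : G)⁻¹ * a * (h : G) ∈ H := hRH ha
  have hrS : (⟨(h : G)⁻¹ * a * (h : G), hrH⟩ : ↥H) ∈ (S : Subgroup ↥H) :=
    hS (Subgroup.mem_subgroupOf.mpr ha)
  have h1 : MulAut.conj h • (⟨(h : G)⁻¹ * a * (h : G), hrH⟩ : ↥H) ∈
      MulAut.conj h • (S : Subgroup ↥H) :=
    Subgroup.smul_mem_pointwise_smul _ _ _ hrS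
  rw [← Sylow.coe_subgroup_smul, hh] at h1
  refine ⟨_, h1, ?_⟩
  show (h : G) * ((h : G)⁻¹ * a * (h : G)) * (h : G)⁻¹ = a
  group

theorem exists_normalizing [Finite G] {p : ℕ} [Fact p.Prime] {P₀ R : Subgroup G}
    (hP : IsPGroup p ↥P₀) (hR : R ≤ P₀) (hne : R ≠ P₀) :
    ∃ y ∈ P₀, y ∉ R ∧ y ∈ Subgroup.normalizer (R : Set G) := by
  have : Group.IsNilpotent ↥P₀ := hP.isNilpotent
  have hnc : NormalizerCondition ↥P₀ := Group.normalizerCondition_of_isNilpotent
  have hlt : R.subgroupOf P₀ < ⊤ := by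
    rw [lt_top_iff_ne_top, Ne, Subgroup.subgroupOf_eq_top]
    intro h
    exact hne (le_antisymm hR h)
  obtain ⟨y, hyN, hyR⟩ := SetLike.exists_of_lt (hnc _ hlt)
  refine ⟨(y : G), y.2, fun h => hyR (Subgroup.mem_subgroupOf.mpr h), ?_⟩
  rw [Subgroup.mem_normalizer_iff] at hyN ⊢
  intro n
  constructor
  · intro hn
    have := (hyN ⟨n, hR hn⟩).mp (Subgroup.mem_subgroupOf.mpr hn)
    exact Subgroup.mem_subgroupOf.mp this
  · intro hn
    have hnP : n ∈ P₀ := by
      have h1 : (y : G) * n * (y : G)⁻¹ ∈ P₀ := hR hn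
      have h2 := P₀.mul_mem (P₀.mul_mem (P₀.inv_mem y.2) h1) y.2
      have e : (y : G)⁻¹ * ((y : G) * n * (y : G)⁻¹) * (y : G) = n := by group
      rwa [e] at h2
    have := (hyN ⟨n, hnP⟩).mpr (Subgroup.mem_subgroupOf.mpr hn)
    exact Subgroup.mem_subgroupOf.mp this

theorem claim [Finite G] {p : ℕ} [Fact p.Prime] (n : ℕ) (H : Subgroup G) (P : Sylow p ↥H)
    (hA : ∀ X : Subgroup G, X ≤ (P : Subgroup ↥H).map H.subtype → Big p n X →
      Subgroup.normalizer (X : Set G) ≤ H) :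
    ∀ (m : ℕ) (Q : Subgroup G), Q ≤ (P : Subgroup ↥H).map H.subtype → Big p n Q →
      Nat.card ((P : Subgroup ↥H).map H.subtype) ≤ Nat.card Q + m →
      ∀ x : G, cj x Q ≤ (P : Subgroup ↥H).map H.subtype → x ∈ H := by
  have hP₀p : IsPGroup p ↥((P : Subgroup ↥H).map H.subtype) := P.isPGroup'.map H.subtype
  generalize hP₀ : (P : Subgroup ↥H).map H.subtype = P₀ at hA hP₀p ⊢
  have base : ∀ Q : Subgroup G, Q ≤ P₀ → Big p n Q → Nat.card P₀ ≤ Nat.card Q →
      ∀ x : G, cj x Q ≤ P₀ → x ∈ H := by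
    intro Q hQ hbig hc x hx
    have hQP : Q = P₀ := Subgroup.eq_of_le_of_card_ge hQ hc
    have h1 : cj x Q = Q := by
      rw [← hQP] at hx
      exact Subgroup.eq_of_le_of_card_ge hx (by rw [card_cj])
    exact hA Q hQ hbig (mem_normalizer_of_cj_eq h1)
  intro m
  induction m with
  | zero =>
    intro Q hQ hbig hc x hx
    exact base Q hQ hbig (by omega) x hx
  | succ m ih =>
    intro Q hQ hbig hc x hx
    by_cases hc' : Nat.card P₀ ≤ Nat.card Q
    · exact base Q hQ hbig hc' x hx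
    · push Not at hc'
      have hRne : cj x Q ≠ P₀ := by
        intro h
        have := card_cj x Q
        rw [h] at this
        omega
      obtain ⟨y, hyP, hyR, hyN⟩ := exists_normalizing hP₀p hx hRne
      have hRQ₂ : cj x Q ≤ Subgroup.normalizer ((cj x Q : Subgroup G) : Set G) ⊓ P₀ :=
        le_inf Subgroup.le_normalizer hx
      generalize hQ₂ : Subgroup.normalizer ((cj x Q : Subgroup G) : Set G) ⊓ P₀ = Q₂ at hRQ₂
      have hQ₂P : Q₂ ≤ P₀ := by rw [← hQ₂]; exact inf_le_right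
      have hcard : Nat.card Q < Nat.card Q₂ := by
        by_contra hle
        push Not at hle
        have : cj x Q = Q₂ := Subgroup.eq_of_le_of_card_ge hRQ₂ (by rw [card_cj]; exact hle)
        apply hyR
        rw [this, ← hQ₂]
        exact Subgroup.mem_inf.mpr ⟨hyN, hyP⟩
      have hbig₂ : Big p n Q₂ := big_mono hRQ₂ (big_cj x hbig)
      have hnorm : cj x⁻¹ Q₂ ≤ Subgroup.normalizer (Q : Set G) := by
        intro w hw
        rw [mem_cj, inv_inv, ← hQ₂] at hw
        have hwN := (Subgroup.mem_inf.mp hw).1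
        rw [Subgroup.mem_normalizer_iff] at hwN ⊢
        intro q
        have h1 := hwN (x * q * x⁻¹)
        rw [mem_cj, mem_cj] at h1
        have e1 : x⁻¹ * (x * q * x⁻¹) * x = q := by group
        have e2 : x⁻¹ * (x * w * x⁻¹ * (x * q * x⁻¹) * (x * w * x⁻¹)⁻¹) * x = w * q * w⁻¹ := by
          group
        rw [e1, e2] at h1
        exact h1
      have hle : cj x⁻¹ Q₂ ≤ H := hnorm.trans (hA Q hQ hbig)
      have hpg : IsPGroup p ↥(cj x⁻¹ Q₂) := (hP₀p.to_le hQ₂P).map _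
      obtain ⟨h, hhH, hh⟩ := exists_cj_le H P hpg hle
      rw [cj_cj, hP₀] at hh
      have h3 := ih Q₂ hQ₂P hbig₂ (by omega) (h * x⁻¹) hh
      have h2 := H.mul_mem (H.inv_mem hhH) h3
      rw [inv_mul_cancel_left] at h2
      exact inv_mem_iff.mp h2

end lib

/-- Let H be a subgroup of the finite group G, p a prime, k ≥ 1, and P a Sylow p-subgroup of H whose p-rank is at least k. Then N_G(X) ≤ H for every subgroup X of P of p-rank at least k if and only if H ∩ gHg⁻¹ has p-rank less than k for every g ∉ H. -/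
theorem result {G : Type*} [Group G] [Finite G] {p : ℕ} [Fact p.Prime] (k : ℕ) (hk : 1 ≤ k) (H : Subgroup G) (P : Sylow p ↥H) (hP : ¬ Cfsg.PRankLE p (k - 1) ↥(P : Subgroup ↥H)) : (∀ X : Subgroup G, X ≤ (P : Subgroup ↥H).map H.subtype → ¬ Cfsg.PRankLE p (k - 1) ↥X → Subgroup.normalizer (X : Set G) ≤ H) ↔ (∀ g : G, g ∉ H → Cfsg.PRankLE p (k - 1) ↥(H ⊓ H.map (MulAut.conj g).toMonoidHom)) := by
  constructor
  · intro hA g hg
    by_contra hbig
    rw [big_iff] at hbig
    have hA' : ∀ X : Subgroup G, X ≤ (P : Subgroup ↥H).map H.subtype → Big p (k - 1) X →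
        Subgroup.normalizer (X : Set G) ≤ H :=
      fun X hX hb => hA X hX ((big_iff _ _ _).mpr hb)
    obtain ⟨E, hE, hcomm, hexp, hcard⟩ := hbig
    have hEbig : Big p (k - 1) E := ⟨E, le_rfl, hcomm, hexp, hcard⟩
    have hEp : IsPGroup p ↥E := by
      intro a
      refine ⟨1, ?_⟩
      rw [pow_one]
      apply Subtype.ext
      rw [Subgroup.coe_pow, Subgroup.coe_one]
      exact hexp a.1 a.2
    have hEH : E ≤ H := hE.trans inf_le_left
    have hEg : cj g⁻¹ E ≤ H := by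
      intro a ha
      rw [mem_cj, inv_inv] at ha
      have h1 : g * a * g⁻¹ ∈ cj g H := (Subgroup.mem_inf.mp (hE ha)).2
      rw [mem_cj] at h1
      have e : g⁻¹ * (g * a * g⁻¹) * g = a := by group
      rwa [e] at h1
    obtain ⟨h, hhH, hh⟩ := exists_cj_le H P hEp hEH
    obtain ⟨h', hh'H, hh'⟩ := exists_cj_le H P (hEp.map _) hEg
    have hx : cj (h' * g⁻¹ * h⁻¹) (cj h E) ≤ (P : Subgroup ↥H).map H.subtype := by
      rw [cj_cj, inv_mul_cancel_right, ← cj_cj]
      exact hh'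
    have hxH := claim (k - 1) H P hA' (Nat.card ((P : Subgroup ↥H).map H.subtype)) (cj h E) hh
      (big_cj h hEbig) (by omega) (h' * g⁻¹ * h⁻¹) hx
    apply hg
    have h3 : g⁻¹ ∈ H := by
      have := H.mul_mem (H.mul_mem (H.inv_mem hh'H) hxH) hhH
      have e : h'⁻¹ * (h' * g⁻¹ * h⁻¹) * h = g⁻¹ := by group
      rwa [e] at this
    exact inv_mem_iff.mp h3
  · intro hB X hX hXbig g hgN
    by_contra hgH
    have hb : Big p (k - 1) X := (big_iff _ _ _).mp hXbig
    have hXH : X ≤ H := hX.trans (Subgroup.map_subtype_le _)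
    have hle : X ≤ H ⊓ cj g H := by
      refine le_inf hXH ?_
      intro a ha
      rw [mem_cj]
      exact hXH ((Subgroup.mem_normalizer_iff''.mp hgN a).mp ha)
    exact (big_iff _ _ _).mpr (big_mono hle hb) (hB g hgH)

end Cfsg.Agent.S1231
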