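import Mathlib
import Cfsg.Statements.S1243
import Cfsg.Agent.Lib.Helper3.SylowAux

set_option autoImplicit false
open Cfsg
open Cfsg.Agent.Lib.Helper3

namespace Cfsg.Agent.S1243

theorem result {G : Type*} [Group G] [Finite G] {p : ℕ} [Fact p.Prime] (T : Sylow p G) (W : Subgroup G) (hW : Cfsg.IsWeaklyClosed W (T : Subgroup G)) (d g : G) (hd : d ∈ Subgroup.centralizer (W : Set G)) (hgd : g * d * g⁻¹ ∈ Subgroup.centralizer (W : Set G)) : ∃ h ∈ Subgroup.normalizer (W : Set G), h * d * h⁻¹ = g * d * g⁻¹ := by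
  obtain ⟨hWT, hwc⟩ := hW
  have hWp : IsPGroup p W := T.2.to_le hWT
  set C := Subgroup.centralizer ({d} : Set G) with hC
  have hWC : W ≤ C := by
    intro w hw
    rw [hC, Subgroup.mem_centralizer_iff]
    intro y hy
    rw [Set.mem_singleton_iff] at hy
    subst hy
    exact (Subgroup.mem_centralizer_iff.mp hd w hw).symm
  have hW'C : W.map (MulAut.conj g⁻¹).toMonoidHom ≤ C := by
    intro z hz
    rw [mem_map_conj] at hz
    simp only [inv_inv] at hz
    rw [hC, Subgroup.mem_centralizer_iff]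
    intro y hy
    rw [Set.mem_singleton_iff] at hy
    subst hy
    have := Subgroup.mem_centralizer_iff.mp hgd (g * z * g⁻¹) hz
    -- (g z g⁻¹)(g y g⁻¹) = (g y g⁻¹)(g z g⁻¹)
    have e1 : g * z * g⁻¹ * (g * y * g⁻¹) = g * (z * y) * g⁻¹ := by group
    have e2 : g * y * g⁻¹ * (g * z * g⁻¹) = g * (y * z) * g⁻¹ := by group
    rw [e1, e2] at this
    have := mul_left_cancel (mul_right_cancel this)
    exact this.symm
  obtain ⟨c, hcC, R, _, hRp, hWR, hW'R⟩ :=
    exists_conj_le_common_pgroup C W (W.map (MulAut.conj g⁻¹).toMonoidHom) hWC hW'C hWp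
      (isPGroup_map_conj hWp _)
  rw [map_conj_map_conj] at hW'R
  obtain ⟨x, hx⟩ := exists_le_conj_sylow T R hRp
  have h1 : W.map (MulAut.conj x⁻¹).toMonoidHom ≤ T := by
    rw [map_conj_le_iff]; simpa using hWR.trans hx
  have h2 : (W.map (MulAut.conj (c * g⁻¹)).toMonoidHom).map (MulAut.conj x⁻¹).toMonoidHom ≤ T := by
    rw [map_conj_le_iff]; simpa using hW'R.trans hx
  rw [map_conj_map_conj] at h2
  have e1 := hwc _ h1
  have e2 := hwc _ h2
  have e3 : W.map (MulAut.conj (c * g⁻¹)).toMonoidHom = W := by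
    have : (W.map (MulAut.conj (x⁻¹ * (c * g⁻¹))).toMonoidHom).map (MulAut.conj x).toMonoidHom =
        (W.map (MulAut.conj x⁻¹).toMonoidHom).map (MulAut.conj x).toMonoidHom := by
      rw [e1, e2]
    rw [map_conj_map_conj, map_conj_map_conj_inv] at this
    simpa using this
  have hn : c * g⁻¹ ∈ Subgroup.normalizer (W : Set G) := by
    rw [Subgroup.mem_normalizer_iff_map_conj_eq]
    exact e3
  refine ⟨(c * g⁻¹)⁻¹, (Subgroup.normalizer (W : Set G)).inv_mem hn, ?_⟩
  have hcd : c * d = d * c := by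
    have := Subgroup.mem_centralizer_iff.mp hcC d (Set.mem_singleton d)
    exact this.symm
  have hcd' : c⁻¹ * d * c = d := by
    rw [mul_assoc, ← hcd]; group
  calc (c * g⁻¹)⁻¹ * d * (c * g⁻¹)⁻¹⁻¹ = g * (c⁻¹ * d * c) * g⁻¹ := by group
    _ = g * d * g⁻¹ := by rw [hcd']

end Cfsg.Agent.S1243
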