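import Cfsg.Statements.S1244
import Mathlib
import Cfsg.Agent.Lib.Helper1.IndexTwo

set_option autoImplicit false
open Cfsg Cfsg.Agent.Lib.Helper1

namespace Cfsg.Agent.S1244

/-- parity of a product in an index-two situation -/
theorem prod_mem_iff {A : Type*} [CommGroup A] (E F : Subgroup A)
    (h2 : ∀ a ∈ E, ∀ b ∈ E, a ∉ F → b ∉ F → a * b ∈ F) {ι : Type*} [DecidableEq ι]
    (f : ι → A) [DecidablePred (fun i => f i ∉ F)] (s : Finset ι) (hf : ∀ i ∈ s, f i ∈ E) :
    (∏ i ∈ s, f i ∈ F ↔ Even (s.filter (fun i => f i ∉ F)).card) := by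
  induction s using Finset.induction_on with
  | empty => simp
  | insert a s ha ih =>
    have hfs : ∀ i ∈ s, f i ∈ E := fun i hi => hf i (Finset.mem_insert_of_mem hi)
    have ih' := ih hfs
    have hPE : ∏ i ∈ s, f i ∈ E := Subgroup.prod_mem E hfs
    have haE : f a ∈ E := hf a (Finset.mem_insert_self a s)
    rw [Finset.prod_insert ha, Finset.filter_insert]
    by_cases hfa : f a ∈ F
    · rw [if_neg (by simpa using hfa), Subgroup.mul_mem_cancel_left F hfa]
      exact ih'
    · rw [if_pos hfa, Finset.card_insert_of_notMem (by simp [ha]), Nat.even_add_one, ← ih']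
      constructor
      · intro h hP
        apply hfa
        have := F.mul_mem h (F.inv_mem hP)
        rwa [mul_inv_cancel_right] at this
      · intro hP
        exact h2 _ haE _ hPE hfa hP

variable {G : Type*} [Group G]

/-- elements of square one in a commutative subgroup -/
def EE (S : Subgroup G) (hS : IsMulCommutative S) : Subgroup S where
  carrier := {x | x ^ 2 = 1}
  one_mem' := by simp
  mul_mem' := by
    intro a b ha hb
    simp only [Set.mem_ofPred_eq] at *
    have hc : Commute a b := hS.is_comm.comm a b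
    rw [hc.mul_pow, ha, hb, one_mul]
  inv_mem' := by
    intro a ha
    simp only [Set.mem_ofPred_eq] at *
    rw [inv_pow, ha, inv_one]

/-- those lying in `R` -/
def ER (S : Subgroup G) (hS : IsMulCommutative S) (R : Subgroup G) : Subgroup S where
  carrier := {x | x ^ 2 = 1 ∧ (x : G) ∈ R}
  one_mem' := by simp [R.one_mem]
  mul_mem' := by
    intro a b ha hb
    simp only [Set.mem_ofPred_eq] at *
    have hc : Commute a b := hS.is_comm.comm a b
    refine ⟨by rw [hc.mul_pow, ha.1, hb.1, one_mul], ?_⟩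
    rw [Subgroup.coe_mul]
    exact R.mul_mem ha.2 hb.2
  inv_mem' := by
    intro a ha
    simp only [Set.mem_ofPred_eq] at *
    refine ⟨by rw [inv_pow, ha.1, inv_one], ?_⟩
    rw [Subgroup.coe_inv]
    exact R.inv_mem ha.2

theorem mem_EE (S : Subgroup G) (hS : IsMulCommutative S) (x : S) : x ∈ EE S hS ↔ x ^ 2 = 1 := Iff.rfl

theorem mem_ER (S : Subgroup G) (hS : IsMulCommutative S) (R : Subgroup G) (x : S) :
    x ∈ ER S hS R ↔ x ^ 2 = 1 ∧ (x : G) ∈ R := Iff.rfl

theorem ER_le (S : Subgroup G) (hS : IsMulCommutative S) (R : Subgroup G) : ER S hS R ≤ EE S hS :=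
  fun _ hx => hx.1

theorem card_pow_between (k r : ℕ) (hr : 1 ≤ r) (h1 : 2 ^ (r - 1) < 2 ^ k) (h2 : 2 ^ k ≤ 2 ^ r) :
    k = r := by
  have h3 : r - 1 < k := (Nat.pow_lt_pow_iff_right (by norm_num)).1 h1
  have h4 : k ≤ r := (Nat.pow_le_pow_iff_right (by norm_num)).1 h2
  omega

theorem card_EE [Finite G] (S : Sylow 2 G) (hS : IsMulCommutative (S : Subgroup G)) (r : ℕ) (hr1 : 1 ≤ r)
    (hSr : Cfsg.PRankLE 2 r (S : Subgroup G) ∧ ¬ Cfsg.PRankLE 2 (r - 1) (S : Subgroup G)) :
    Nat.card (EE (S : Subgroup G) hS) = 2 ^ r := by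
  haveI : Fact (Nat.Prime 2) := ⟨Nat.prime_two⟩
  have hcomm : IsMulCommutative (EE (S : Subgroup G) hS) :=
    ⟨⟨fun a b => Subtype.ext (hS.is_comm.comm a.1 b.1)⟩⟩
  have hle := hSr.1 (EE (S : Subgroup G) hS) hcomm (fun a ha => ha)
  have hnot := hSr.2
  unfold Cfsg.PRankLE at hnot
  push Not at hnot
  obtain ⟨A, hAc, hAe, hAcard⟩ := hnot
  have hAE : A ≤ EE (S : Subgroup G) hS := fun a ha => hAe a ha
  have hcardle := Subgroup.card_le_of_le hAE
  have hp : IsPGroup 2 (EE (S : Subgroup G) hS) := S.isPGroup'.to_subgroup _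
  obtain ⟨k, hk⟩ := hp.exists_card_eq
  rw [hk] at hle hcardle ⊢
  rw [card_pow_between k r hr1 (lt_of_lt_of_le hAcard hcardle) hle]

theorem card_ER [Finite G] (S : Sylow 2 G) (hS : IsMulCommutative (S : Subgroup G)) (r : ℕ) (hr1 : 1 ≤ r)
    (R : Subgroup G) (hRS : R ≤ S)
    (hRr : Cfsg.PRankLE 2 (r - 1) R ∧ (r = 1 ∨ ¬ Cfsg.PRankLE 2 (r - 2) R)) :
    Nat.card (ER (S : Subgroup G) hS R) = 2 ^ (r - 1) := by
  haveI : Fact (Nat.Prime 2) := ⟨Nat.prime_two⟩
  have hRc : IsMulCommutative R :=
    ⟨⟨fun a b => Subtype.ext (by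
      have := hS.is_comm.comm ⟨a.1, hRS a.2⟩ ⟨b.1, hRS b.2⟩
      have h2 := congrArg (fun x : (S : Subgroup G) => (x : G)) this
      simpa using h2)⟩⟩
  have e : EE R hRc ≃ ER (S : Subgroup G) hS R :=
    { toFun := fun x => ⟨⟨x.1.1, hRS x.1.2⟩, by
        refine ⟨?_, x.1.2⟩
        apply Subtype.ext
        have := congrArg Subtype.val x.2
        simpa using this⟩
      invFun := fun y => ⟨⟨y.1.1, y.2.2⟩, by
        show (⟨y.1.1, y.2.2⟩ : R) ^ 2 = 1
        apply Subtype.ext
        have := congrArg Subtype.val y.2.1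
        simpa using this⟩
      left_inv := fun x => rfl
      right_inv := fun y => rfl }
  rw [← Nat.card_congr e]
  have hcomm : IsMulCommutative (EE R hRc) :=
    ⟨⟨fun a b => Subtype.ext (hRc.is_comm.comm a.1 b.1)⟩⟩
  have hle := hRr.1 (EE R hRc) hcomm (fun a ha => ha)
  have hp : IsPGroup 2 (EE R hRc) := (S.isPGroup'.to_le hRS).to_subgroup _
  obtain ⟨k, hk⟩ := hp.exists_card_eq
  by_cases hr : r = 1
  · subst hr
    have hpos : 0 < Nat.card (EE R hRc) := Nat.card_pos
    simp only [Nat.sub_self, pow_zero] at hle ⊢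
    omega
  · rcases hRr.2 with h | hnot
    · exact absurd h hr
    · unfold Cfsg.PRankLE at hnot
      push Not at hnot
      obtain ⟨A, hAc, hAe, hAcard⟩ := hnot
      have hAE : A ≤ EE R hRc := fun a ha => hAe a ha
      have hcardle := Subgroup.card_le_of_le hAE
      rw [hk] at hle hcardle ⊢
      have e2 : r - 2 = r - 1 - 1 := by omega
      rw [e2] at hAcard
      rw [card_pow_between k (r - 1) (by omega) (lt_of_lt_of_le hAcard hcardle) hle]

/-- the index-two property -/
theorem index_two_prop [Finite G] (S : Sylow 2 G) (hS : IsMulCommutative (S : Subgroup G)) (r : ℕ) (hr1 : 1 ≤ r)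
    (hSr : Cfsg.PRankLE 2 r (S : Subgroup G) ∧ ¬ Cfsg.PRankLE 2 (r - 1) (S : Subgroup G))
    (R : Subgroup G) (hRS : R ≤ S)
    (hRr : Cfsg.PRankLE 2 (r - 1) R ∧ (r = 1 ∨ ¬ Cfsg.PRankLE 2 (r - 2) R)) :
    ∀ a ∈ EE (S : Subgroup G) hS, ∀ b ∈ EE (S : Subgroup G) hS,
      a ∉ ER (S : Subgroup G) hS R → b ∉ ER (S : Subgroup G) hS R → a * b ∈ ER (S : Subgroup G) hS R := by
  have h1 := card_EE S hS r hr1 hSr
  have h2 := card_ER S hS r hr1 R hRS hRr
  have hle := ER_le (S : Subgroup G) hS R
  have hidx : ((ER (S : Subgroup G) hS R).subgroupOf (EE (S : Subgroup G) hS)).index = 2 := by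
    have h3 := Subgroup.card_mul_index ((ER (S : Subgroup G) hS R).subgroupOf (EE (S : Subgroup G) hS))
    rw [Nat.card_congr (Subgroup.subgroupOfEquivOfLe hle).toEquiv, h1, h2] at h3
    have e : 2 ^ r = 2 ^ (r - 1) * 2 := by
      rw [← pow_succ]; congr 1; omega
    rw [e] at h3
    exact Nat.eq_of_mul_eq_mul_left (by positivity) h3
  intro a ha b hb hna hnb
  have := Subgroup.mul_mem_iff_of_index_two hidx (a := ⟨a, ha⟩) (b := ⟨b, hb⟩)
  simp only [Subgroup.mem_subgroupOf, Subgroup.coe_mul] at this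
  rw [this]
  exact ⟨fun h => absurd h hna, fun h => absurd h hnb⟩

theorem hom_trivial [Finite G] (hG : ∀ H : Subgroup G, H.index ≠ 2) {A : Type*} [Group A] [Finite A]
    (hA : IsPGroup 2 A) (φ : G →* A) (g : G) : φ g = 1 := by
  haveI : Fact (Nat.Prime 2) := ⟨Nat.prime_two⟩
  have hidx := Subgroup.index_ker φ
  have hp : IsPGroup 2 φ.range := hA.to_subgroup _
  obtain ⟨a, ha⟩ := hp.exists_card_eq
  rw [ha] at hidx
  rcases Nat.eq_zero_or_pos a with h0 | hpos
  · subst h0
    rw [pow_zero] at ha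
    have := (Subgroup.card_eq_one.1 ha)
    have hmem : φ g ∈ φ.range := ⟨g, rfl⟩
    rw [this] at hmem
    exact Subgroup.mem_bot.1 hmem
  · obtain ⟨H, hH⟩ := exists_index_two_of_normal_index_pow φ.ker hpos hidx
    exact absurd hH (hG H)

theorem main1244 [Finite G] (hG : ∀ H : Subgroup G, H.index ≠ 2) (S : Sylow 2 G) (hS : IsMulCommutative (S : Subgroup G)) (r : ℕ) (hr1 : 1 ≤ r) (hSr : Cfsg.PRankLE 2 r (S : Subgroup G) ∧ ¬ Cfsg.PRankLE 2 (r - 1) (S : Subgroup G)) (R : Subgroup G) (hRS : R ≤ S) (hRr : Cfsg.PRankLE 2 (r - 1) R ∧ (r = 1 ∨ ¬ Cfsg.PRankLE 2 (r - 2) R)) (t : G) (ht : orderOf t = 2) (htS : t ∈ S) : ∃ n ∈ Subgroup.normalizer ((S : Subgroup G) : Set G), n * t * n⁻¹ ∈ R := by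
  classical
  haveI : Fact (Nat.Prime 2) := ⟨Nat.prime_two⟩
  by_contra hcon
  push Not at hcon
  have ht2 : t ^ 2 = 1 := by rw [← ht]; exact pow_orderOf_eq_one t
  letI : CommGroup (S : Subgroup G) :=
    { (inferInstance : Group (S : Subgroup G)) with mul_comm := fun a b => hS.is_comm.comm a b }
  letI : Fintype (Quotient (MulAction.orbitRel (Subgroup.zpowers t) (G ⧸ (S : Subgroup G)))) :=
    Fintype.ofFinite _
  have hV : MonoidHom.transfer (MonoidHom.id (S : Subgroup G)) t = 1 :=
    hom_trivial hG S.isPGroup' _ t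
  rw [MonoidHom.transfer_eq_prod_quotient_orbitRel_zpowers_quot] at hV
  have hidx := Subgroup.index_eq_sum_minimalPeriod (S : Subgroup G) t
  -- periods
  have hper : ∀ x : G ⧸ (S : Subgroup G), Function.minimalPeriod (t • ·) x = 1 ∨
      Function.minimalPeriod (t • ·) x = 2 := by
    intro x
    have hpp : Function.IsPeriodicPt (t • ·) 2 x := by
      show (t • ·)^[2] x = x
      simp only [Function.iterate_succ, Function.iterate_zero, Function.comp_apply, id_eq]
      rw [smul_smul, ← pow_two, ht2, one_smul]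
    have hdvd := hpp.minimalPeriod_dvd
    have hpos := hpp.minimalPeriod_pos (by norm_num)
    have hle := Nat.le_of_dvd (by norm_num) hdvd
    interval_cases h : Function.minimalPeriod (t • ·) x
    · left; rfl
    · right; rfl
  -- the factors
  obtain ⟨f, hfdef⟩ : ∃ f : Quotient (MulAction.orbitRel (Subgroup.zpowers t) (G ⧸ (S : Subgroup G))) → (S : Subgroup G),
      f = fun q => ⟨(Quotient.out q.out)⁻¹ * t ^ Function.minimalPeriod (fun x => t • x) q.out * Quotient.out q.out,
        QuotientGroup.out_conj_pow_minimalPeriod_mem (S : Subgroup G) t q.out⟩ := ⟨_, rfl⟩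
  have hV' : ∏ q, f q = 1 := by
    rw [hfdef]; exact hV
  have hfval : ∀ q, ((f q : (S : Subgroup G)) : G) =
      (Quotient.out q.out)⁻¹ * t ^ Function.minimalPeriod (fun x => t • x) q.out * Quotient.out q.out := by
    intro q; rw [hfdef]
  have hfE : ∀ q ∈ (Finset.univ : Finset _), f q ∈ EE (S : Subgroup G) hS := by
    intro q _
    rw [mem_EE]
    apply Subtype.ext
    rw [Subgroup.coe_pow, hfval q]
    have e : ∀ (g x : G), (g⁻¹ * x * g) ^ 2 = g⁻¹ * x ^ 2 * g := by
      intro g x; rw [pow_two, pow_two]; group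
    rw [e, ← pow_mul, mul_comm, pow_mul, ht2, one_pow]
    simp
  have hfR : ∀ q, f q ∉ ER (S : Subgroup G) hS R ↔ Function.minimalPeriod (fun x => t • x) q.out = 1 := by
    intro q
    constructor
    · intro h
      rcases hper q.out with h1 | h2
      · exact h1
      · exfalso
        apply h
        have : f q = 1 := by
          apply Subtype.ext
          rw [hfval q, h2, ht2]
          simp
        rw [this]; exact one_mem _
    · intro h1 hmem
      have hval := hfval q
      rw [h1, pow_one] at hval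
      have hS' : (Quotient.out q.out)⁻¹ * t * Quotient.out q.out ∈ S := by
        rw [← hval]; exact (f q).2
      obtain ⟨n, hn, hnc⟩ := S.conj_eq_normalizer_conj_of_mem t _ htS hS'
      have := hcon n⁻¹ (inv_mem hn)
      rw [inv_inv, ← hnc, ← hval] at this
      exact this hmem.2
  have key := prod_mem_iff (EE (S : Subgroup G) hS) (ER (S : Subgroup G) hS R)
    (index_two_prop S hS r hr1 hSr R hRS hRr) f Finset.univ hfE
  have h1 : ∏ q, f q ∈ ER (S : Subgroup G) hS R := by rw [hV']; exact one_mem _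
  have heven := key.1 h1
  have hfilt : (Finset.univ.filter (fun q => f q ∉ ER (S : Subgroup G) hS R)) =
      Finset.univ.filter (fun q => Function.minimalPeriod (fun x => t • x) q.out = 1) := by
    apply Finset.filter_congr
    intro q _
    exact hfR q
  rw [hfilt] at heven
  -- the sum
  have hsum : ∑ q : Quotient (MulAction.orbitRel (Subgroup.zpowers t) (G ⧸ (S : Subgroup G))),
      Function.minimalPeriod (fun x => t • x) q.out =
      (Finset.univ.filter (fun q : Quotient (MulAction.orbitRel (Subgroup.zpowers t) (G ⧸ (S : Subgroup G))) =>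
        Function.minimalPeriod (fun x => t • x) q.out = 1)).card +
      2 * (Finset.univ.filter (fun q : Quotient (MulAction.orbitRel (Subgroup.zpowers t) (G ⧸ (S : Subgroup G))) =>
        ¬ Function.minimalPeriod (fun x => t • x) q.out = 1)).card := by
    rw [← Finset.sum_filter_add_sum_filter_not Finset.univ
      (fun q => Function.minimalPeriod (fun x => t • x) q.out = 1)]
    congr 1
    · rw [Finset.card_eq_sum_ones]
      apply Finset.sum_congr rfl
      intro q hq
      exact (Finset.mem_filter.1 hq).2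
    · rw [Finset.card_eq_sum_ones, Finset.mul_sum]
      apply Finset.sum_congr rfl
      intro q hq
      rcases hper q.out with h1 | h2
      · exact absurd h1 (Finset.mem_filter.1 hq).2
      · rw [h2, mul_one]
  have hodd : ¬ 2 ∣ (S : Subgroup G).index := S.not_dvd_index
  rw [hidx, hsum] at hodd
  apply hodd
  obtain ⟨c, hc⟩ := heven
  rw [hc]
  omega


/-- Let G be a finite group with no subgroup of index 2 whose Sylow 2-subgroup S is commutative, and let R ≤ S be a subgroup whose 2-rank is exactly one less than the 2-rank r of S. Then every involution of S is conjugate, by an element of N_G(S), to an element of R. -/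
theorem result {G : Type*} [Group G] [Finite G] (hG : ∀ H : Subgroup G, H.index ≠ 2) (S : Sylow 2 G) (hS : IsMulCommutative (S : Subgroup G)) (r : ℕ) (hr1 : 1 ≤ r) (hSr : Cfsg.PRankLE 2 r (S : Subgroup G) ∧ ¬ Cfsg.PRankLE 2 (r - 1) (S : Subgroup G)) (R : Subgroup G) (hRS : R ≤ S) (hRr : Cfsg.PRankLE 2 (r - 1) R ∧ (r = 1 ∨ ¬ Cfsg.PRankLE 2 (r - 2) R)) (t : G) (ht : orderOf t = 2) (htS : t ∈ S) : ∃ n ∈ Subgroup.normalizer ((S : Subgroup G) : Set G), n * t * n⁻¹ ∈ R := by
  exact main1244 hG S hS r hr1 hSr R hRS hRr t ht htS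

end Cfsg.Agent.S1244
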