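import Mathlib
import Cfsg.Statements.S1246
import Cfsg.Agent.Lib.Helper3.CharP
import Cfsg.Agent.Lib.Helper3.NormAux
import Cfsg.Agent.Lib.Helper3.PGroupAux

set_option autoImplicit false
open Cfsg
open Cfsg.Agent.Lib.Helper3

namespace Cfsg.Agent.S1246

variable {G : Type*} [Group G] [Finite G]

/-- the normal step -/
theorem step {p : ℕ} [Fact p.Prime] (U V : Subgroup G) (hVU : V ≤ U)
    (hUV : U ≤ Subgroup.normalizer (V : Set G)) (hU : IsPGroup p U)
    (hV : IsPGroup p ↥(Cfsg.generalizedFittingSubgroup ↥(Subgroup.centralizer (V : Set G)))) :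
    IsPGroup p ↥(Cfsg.generalizedFittingSubgroup ↥(Subgroup.centralizer (U : Set G))) := by
  set H₀ := Subgroup.centralizer (V : Set G) with hH₀
  set K := Subgroup.centralizer (U : Set G) with hK
  set R := (Cfsg.pCore p ↥H₀).map H₀.subtype with hR
  have hKH₀ : K ≤ H₀ := Subgroup.centralizer_le hVU
  have h1 : Cfsg.generalizedFittingSubgroup ↥H₀ = Cfsg.pCore p ↥H₀ :=
    genFitting_eq_pCore_of_isPGroup p hV
  have h2 : H₀ ⊓ Subgroup.centralizer (R : Set G) ≤ R := local_of_genFitting_eq_pCore h1
  have hRp : IsPGroup p R := (Cfsg.Agent.Lib.Helper1.pCore_isPGroup).map _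
  have hH₀R : H₀ ≤ Subgroup.normalizer (R : Set G) := by
    have : (Cfsg.pCore p ↥H₀).Normal := pCore_normal' p
    exact le_normalizer_map_of_normal _
  have hUR : U ≤ Subgroup.normalizer (R : Set G) :=
    (hUV.trans (normalizer_le_normalizer_centralizer V)).trans
      (normalizer_le_normalizer_map_char H₀ (Cfsg.pCore p ↥H₀))
  have h3 : Cfsg.generalizedFittingSubgroup ↥K = Cfsg.pCore p ↥K := by
    apply genFitting_eq_pCore_of_local
    apply charp_local hU hRp hUR (hKH₀.trans hH₀R)
    · exact (inf_le_inf_right _ hKH₀).trans h2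
    · have : R ⊓ K ≤ (Cfsg.pCore p ↥K).map K.subtype := by
        apply le_pCore_map inf_le_right (hRp.to_le inf_le_left)
        refine le_trans ?_ (normalizer_inf_normalizer_le R K)
        exact le_inf (hKH₀.trans hH₀R) Subgroup.le_normalizer
      exact this
    · right
      exact le_rfl
  rw [h3]
  exact Cfsg.Agent.Lib.Helper1.pCore_isPGroup

theorem chain {p : ℕ} [Fact p.Prime] (U : Subgroup G) (hU : IsPGroup p U) :
    ∀ n : ℕ, ∀ V : Subgroup G, V ≤ U → Nat.card U - Nat.card V = n →
      IsPGroup p ↥(Cfsg.generalizedFittingSubgroup ↥(Subgroup.centralizer (V : Set G))) →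
      IsPGroup p ↥(Cfsg.generalizedFittingSubgroup ↥(Subgroup.centralizer (U : Set G))) := by
  intro n
  induction n using Nat.strong_induction_on with
  | _ n ih =>
    intro V hVU hn hV
    by_cases hne : V = U
    · rw [← hne]; exact hV
    · set V₁ := U ⊓ Subgroup.normalizer (V : Set G) with hV₁
      have hVV₁ : V ≤ V₁ := le_inf hVU Subgroup.le_normalizer
      obtain ⟨q, hqU, hqV, hqN⟩ := exists_mem_normalizer_not_mem V U hU hVU hne
      have hne₁ : V ≠ V₁ := by
        intro h
        apply hqV
        rw [h]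
        exact ⟨hqU, hqN⟩
      have hV₁U : V₁ ≤ U := inf_le_left
      have h1 := step V₁ V hVV₁ inf_le_right (hU.to_le hV₁U) hV
      have hlt : Nat.card U - Nat.card V₁ < n := by
        have hcard1 : Nat.card V < Nat.card V₁ := by
          by_contra hcon
          push Not at hcon
          exact hne₁ (Subgroup.eq_of_le_of_card_ge hVV₁ hcon)
        have hcard2 : Nat.card V₁ ≤ Nat.card U := Subgroup.card_le_of_le hV₁U
        omega
      exact ih _ hlt V₁ hV₁U rfl h1

/-- Let V ≤ U be p-subgroups of the finite group G. If the generalized Fitting subgroup of C_G(V) is a p-group, then so is that of C_G(U). -/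
theorem result {G : Type*} [Group G] [Finite G] {p : ℕ} [Fact p.Prime] (U V : Subgroup G) (hVU : V ≤ U) (hU : IsPGroup p U) (hV : IsPGroup p ↥(Cfsg.generalizedFittingSubgroup ↥(Subgroup.centralizer (V : Set G)))) : IsPGroup p ↥(Cfsg.generalizedFittingSubgroup ↥(Subgroup.centralizer (U : Set G))) := by
  exact chain U hU _ V hVU rfl hV

end Cfsg.Agent.S1246
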