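import Mathlib
import Cfsg.Statements.S1249
import Cfsg.Agent.Lib.Helper3.Conj

set_option autoImplicit false
open Cfsg
open Cfsg.Agent.Lib.Helper3

namespace Cfsg.Agent.S1249

/-- Let P and Q be Sylow p-subgroups of the finite group G both containing the subgroup A. If A is strongly closed in P, then A is strongly closed in Q. -/
theorem result {G : Type*} [Group G] [Finite G] {p : ℕ} [Fact p.Prime] (P Q : Sylow p G) (A : Subgroup G) (hAQ : A ≤ Q) (hA : Cfsg.IsStronglyClosed A (P : Subgroup G)) : Cfsg.IsStronglyClosed A (Q : Subgroup G) := by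
  obtain ⟨hAP, hsc⟩ := hA
  obtain ⟨y, hy⟩ := MulAction.exists_smul_eq G P Q
  have hQe : (Q : Subgroup G) = (P : Subgroup G).map (MulAut.conj y).toMonoidHom := by
    rw [← hy, sylow_smul_coe]
  have h1 : A.map (MulAut.conj y⁻¹).toMonoidHom ≤ A := by
    intro z hz
    rw [mem_map_conj] at hz
    simp only [inv_inv] at hz
    -- z = y⁻¹ a y with a = y z y⁻¹ ∈ A
    have haQ : y * z * y⁻¹ ∈ (Q : Subgroup G) := hAQ hz
    rw [hQe, mem_map_conj] at haQ
    have hzP : z ∈ (P : Subgroup G) := by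
      have : y⁻¹ * (y * z * y⁻¹) * y = z := by group
      rwa [this] at haQ
    have := hsc (y * z * y⁻¹) hz y⁻¹ (by
      have e : y⁻¹ * (y * z * y⁻¹) * y⁻¹⁻¹ = z := by group
      rw [e]; exact hzP)
    have e : y⁻¹ * (y * z * y⁻¹) * y⁻¹⁻¹ = z := by group
    rwa [e] at this
  have h2 : A.map (MulAut.conj y⁻¹).toMonoidHom = A :=
    Subgroup.eq_of_le_of_card_ge h1 (by rw [card_map_conj])
  have h3 : A.map (MulAut.conj y).toMonoidHom = A := by
    have := map_conj_map_conj_inv A y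
    rw [h2] at this
    exact this
  refine ⟨hAQ, ?_⟩
  intro x hx g hg
  rw [hQe, mem_map_conj] at hg
  have hg' : (y⁻¹ * g) * x * (y⁻¹ * g)⁻¹ ∈ (P : Subgroup G) := by
    have e : (y⁻¹ * g) * x * (y⁻¹ * g)⁻¹ = y⁻¹ * (g * x * g⁻¹) * y := by group
    rw [e]; exact hg
  have hin := hsc x hx (y⁻¹ * g) hg'
  have : g * x * g⁻¹ ∈ A.map (MulAut.conj y).toMonoidHom := by
    rw [mem_map_conj]
    have e : (y⁻¹ * g) * x * (y⁻¹ * g)⁻¹ = y⁻¹ * (g * x * g⁻¹) * y := by group
    rw [← e]; exact hin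
  rwa [h3] at this

end Cfsg.Agent.S1249
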