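import Mathlib
import Cfsg.Statements.S1250
import Cfsg.Agent.Lib.Helper3.SylowAux

set_option autoImplicit false
open Cfsg
open Cfsg.Agent.Lib.Helper3
open scoped Pointwise

namespace Cfsg.Agent.S1250

theorem result {G : Type*} [Group G] [Finite G] {p : ℕ} [Fact p.Prime] (S : Sylow p G) (A : Subgroup G) (hA : Cfsg.IsStronglyClosed A (S : Subgroup G)) (N : Subgroup G) [N.Normal] : Cfsg.IsStronglyClosed (A.map (QuotientGroup.mk' N)) ((S : Subgroup G).map (QuotientGroup.mk' N)) := by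
  obtain ⟨hAS, hsc⟩ := hA
  refine ⟨Subgroup.map_mono hAS, ?_⟩
  intro xb hxb gb hgb
  obtain ⟨a, ha, rfl⟩ := Subgroup.mem_map.mp hxb
  obtain ⟨g, rfl⟩ := QuotientGroup.mk'_surjective N gb
  obtain ⟨s, hs, hse⟩ := Subgroup.mem_map.mp hgb
  set y := g * a * g⁻¹ with hy
  have hyq : QuotientGroup.mk' N y = QuotientGroup.mk' N s := by
    rw [hse, hy]; simp
  have hySN : y ∈ (S : Subgroup G) ⊔ N := by
    have : s⁻¹ * y ∈ N := by
      have h := hyq.symm
      rw [QuotientGroup.mk'_apply, QuotientGroup.mk'_apply, QuotientGroup.eq] at h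
      exact h
    have e : y = s * (s⁻¹ * y) := by group
    rw [e]
    exact Subgroup.mul_mem_sup hs this
  -- zpowers y is a p-group inside S ⊔ N
  have hyp : IsPGroup p (Subgroup.zpowers y) := by
    have h1 : IsPGroup p (Subgroup.zpowers a) := S.2.to_le ((Subgroup.zpowers_le.mpr ha).trans hAS)
    have h2 : Subgroup.zpowers y = (Subgroup.zpowers a).map (MulAut.conj g).toMonoidHom := by
      rw [MonoidHom.map_zpowers]; rfl
    rw [h2]; exact h1.map _
  obtain ⟨c, hc, R, _, hRp, hSR, hyR⟩ :=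
    exists_conj_le_common_pgroup ((S : Subgroup G) ⊔ N) (S : Subgroup G) (Subgroup.zpowers y)
      le_sup_left (Subgroup.zpowers_le.mpr hySN) S.2 hyp
  have hRS : R = S := S.is_maximal' hRp hSR
  have hcy : c * y * c⁻¹ ∈ (S : Subgroup G) := by
    rw [← hRS]
    exact hyR (conj_mem_map_conj (Subgroup.mem_zpowers y))
  -- write c = s' n'
  have hcmul : c ∈ ((S : Subgroup G) : Set G) * (N : Set G) := by
    have := Subgroup.mul_normal (S : Subgroup G) N
    rw [← this]; exact hc
  obtain ⟨s', hs', n', hn', rfl⟩ := Set.mem_mul.mp hcmul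
  have hn'y : n' * y * n'⁻¹ ∈ (S : Subgroup G) := by
    have e : n' * y * n'⁻¹ = s'⁻¹ * (s' * n' * y * (s' * n')⁻¹) * s' := by group
    rw [e]
    exact (S : Subgroup G).mul_mem ((S : Subgroup G).mul_mem ((S : Subgroup G).inv_mem hs') hcy) hs'
  have hin : (n' * g) * a * (n' * g)⁻¹ ∈ A := by
    apply hsc a ha
    have e : (n' * g) * a * (n' * g)⁻¹ = n' * y * n'⁻¹ := by rw [hy]; group
    rw [e]; exact hn'y
  refine Subgroup.mem_map.mpr ⟨(n' * g) * a * (n' * g)⁻¹, hin, ?_⟩
  have hn1 : (QuotientGroup.mk' N) n' = 1 := by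
    rw [QuotientGroup.mk'_apply, QuotientGroup.eq_one_iff]; exact hn'
  simp only [map_mul, map_inv, hn1, one_mul]

end Cfsg.Agent.S1250
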