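import Mathlib
import Cfsg.Statements.S1258
import Cfsg.Agent.Lib.Helper3.Quasi

set_option autoImplicit false
open Cfsg
open Cfsg.Agent.Lib.Helper3
open scoped commutatorElement

namespace Cfsg.Agent.S1258

theorem result {X : Type*} [Group X] [Finite X] (hs : IsSimpleGroup (X ⧸ Subgroup.center X)) (hna : ¬ IsMulCommutative (X ⧸ Subgroup.center X)) : commutator X ⊔ Subgroup.center X = ⊤ ∧ Cfsg.IsQuasisimple ↥(commutator X) := by
  set Z := Subgroup.center X with hZ
  set π := QuotientGroup.mk' Z with hπ
  have hsurj : Function.Surjective π := QuotientGroup.mk'_surjective Z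
  -- step 1
  have h1 : (commutator X).map π = ⊤ := by
    rw [map_commutator_eq, MonoidHom.range_eq_top.mpr hsurj, ← commutator_def]
    have hn : (commutator (X ⧸ Z)).Normal := inferInstance
    rcases hn.eq_bot_or_eq_top with h | h
    · exact absurd ((commutator_eq_bot_iff _).mp h) hna
    · exact h
  -- step 2
  have h2 : commutator X ⊔ Z = ⊤ := by
    have := congrArg (Subgroup.comap π) h1
    rw [Subgroup.comap_map_eq, QuotientGroup.ker_mk', Subgroup.comap_top] at this
    exact this
  have hdec : ∀ x : X, ∃ c ∈ commutator X, ∃ z ∈ Z, c * z = x := by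
    intro x
    have hx : x ∈ commutator X ⊔ Z := by rw [h2]; trivial
    exact Subgroup.mem_sup_of_normal_left.mp hx
  refine ⟨h2, ?_, ?_⟩
  · -- perfect
    rw [Subgroup.isPerfect_iff]
    apply le_antisymm (Subgroup.commutator_le_left _ _)
    conv_lhs => rw [commutator_def]
    rw [Subgroup.commutator_le]
    intro a _ b _
    obtain ⟨c₁, hc₁, z₁, hz₁, rfl⟩ := hdec a
    obtain ⟨c₂, hc₂, z₂, hz₂, rfl⟩ := hdec b
    rw [hZ, Subgroup.mem_center_iff] at hz₁ hz₂
    have e1 : c₁ * z₁ = z₁ * c₁ := hz₁ c₁
    have e2 : c₂ * z₂ = z₂ * c₂ := hz₂ c₂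
    rw [e1, e2, commElem_mul_left (hz₁ c₁).symm (hz₁ _).symm,
      commElem_mul_right (hz₂ c₁).symm (hz₂ c₂).symm]
    exact Subgroup.commutator_mem_commutator hc₁ hc₂
  · -- simple quotient
    let φ : ↥(commutator X) →* X ⧸ Z := π.comp (commutator X).subtype
    have hφs : Function.Surjective φ := by
      intro q
      obtain ⟨x, rfl⟩ := hsurj q
      obtain ⟨c, hc, z, hz, rfl⟩ := hdec x
      refine ⟨⟨c, hc⟩, ?_⟩
      show π c = π (c * z)
      rw [map_mul]
      have : π z = 1 := (QuotientGroup.eq_one_iff z).mpr hz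
      rw [this, mul_one]
    have hker : φ.ker = Subgroup.center ↥(commutator X) := by
      ext c
      rw [MonoidHom.mem_ker, Subgroup.mem_center_iff]
      constructor
      · intro h g
        have hcZ : (c : X) ∈ Z := (QuotientGroup.eq_one_iff (c : X)).mp h
        rw [hZ, Subgroup.mem_center_iff] at hcZ
        apply Subtype.ext
        exact hcZ g
      · intro h
        show ((c : X) : X ⧸ Z) = 1
        rw [QuotientGroup.eq_one_iff, hZ, Subgroup.mem_center_iff]
        intro x
        obtain ⟨c', hc', z, hz, rfl⟩ := hdec x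
        rw [hZ, Subgroup.mem_center_iff] at hz
        have h3 : c' * (c : X) = c * c' := congrArg Subtype.val (h ⟨c', hc'⟩)
        calc c' * z * (c : X) = c' * (z * c) := by group
          _ = c' * (c * z) := by rw [hz c]
          _ = (c' * c) * z := by group
          _ = (c * c') * z := by rw [h3]
          _ = c * (c' * z) := by group
    have e1 : ↥(commutator X) ⧸ φ.ker ≃* X ⧸ Z := QuotientGroup.quotientKerEquivOfSurjective φ hφs
    have e2 : ↥(commutator X) ⧸ φ.ker ≃* ↥(commutator X) ⧸ Subgroup.center ↥(commutator X) :=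
      QuotientGroup.quotientMulEquivOfEq hker
    exact (e2.symm.trans e1).isSimpleGroup

end Cfsg.Agent.S1258
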