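import Mathlib
import Cfsg.Statements.S1259
import Cfsg.Agent.Lib.Helper3.Quasi

set_option autoImplicit false
open Cfsg
open Cfsg.Agent.Lib.Helper3

namespace Cfsg.Agent.S1259

theorem result {X : Type*} [Group X] [Finite X] (hX : Cfsg.IsQuasisimple X) (H : Subgroup X) (hH : H.IsSubnormal) : H = ⊤ ∨ H ≤ Subgroup.center X := by
  induction hH with
  | top => left; rfl
  | step H K h_le hSubn hN ih =>
    rcases ih with h | h
    · subst h
      have hn : H.Normal := by
        rw [Subgroup.normal_subgroupOf_iff_le_normalizer h_le, top_le_iff,
          Subgroup.normalizer_eq_top_iff] at hN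
        exact hN
      exact quasisimple_normal hX H
    · right
      exact h_le.trans h

end Cfsg.Agent.S1259
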