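import Mathlib
import Cfsg.Statements.S1260
import Cfsg.Agent.Lib.Helper3.Quasi

set_option autoImplicit false
open Cfsg
open Cfsg.Agent.Lib.Helper3

namespace Cfsg.Agent.S1260

theorem result {G : Type*} [Group G] [Finite G] (H : Subgroup G) (hH : H.IsSubnormal) (K : Subgroup ↥H) : Cfsg.IsComponent K ↔ Cfsg.IsComponent (K.map H.subtype) := by
  have e : ↥K ≃* ↥(K.map H.subtype) := K.equivMapOfInjective _ H.subtype_injective
  constructor
  · rintro ⟨hsn, hq⟩
    exact ⟨hsn.trans' hH, isQuasisimple_of_mulEquiv e hq⟩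
  · rintro ⟨hsn, hq⟩
    refine ⟨?_, isQuasisimple_of_mulEquiv e.symm hq⟩
    have h1 : ((K.map H.subtype).subgroupOf H).IsSubnormal := hsn.subgroupOf
    have h2 : (K.map H.subtype).subgroupOf H = K :=
      Subgroup.comap_map_eq_self_of_injective H.subtype_injective K
    rwa [h2] at h1

end Cfsg.Agent.S1260
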