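import Mathlib
import Cfsg.Statements.S1261
import Cfsg.Agent.Lib.Helper3.Comp

set_option autoImplicit false
open Cfsg
open Cfsg.Agent.Lib.Helper3

namespace Cfsg.Agent.S1261

theorem result {G : Type*} [Group G] [Finite G] (L H : Subgroup G) (hL : Cfsg.IsComponent L) (hH : H.IsSubnormal) : L ≤ H ∨ ⁅L, H⁆ = ⊥ :=
  component_subnormal hL hH

end Cfsg.Agent.S1261
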