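import Mathlib
import Cfsg.Statements.S1262
import Cfsg.Agent.Lib.Helper3.Comp

set_option autoImplicit false
open Cfsg
open Cfsg.Agent.Lib.Helper3

namespace Cfsg.Agent.S1262

theorem result {G : Type*} [Group G] [Finite G] (L H : Subgroup G) (hL : Cfsg.IsComponent L) (hsolv : Group.IsSolvable ↥H) (hinv : L ≤ Subgroup.normalizer (H : Set G)) : ⁅L, H⁆ = ⊥ := by
  rcases component_le_or_comm hL hinv with h | h
  · exfalso
    apply component_not_solvable hL
    exact Group.isSolvable_of_isSolvable_injective (Subgroup.inclusion_injective h)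
  · exact h

end Cfsg.Agent.S1262
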