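import Mathlib
import Cfsg.Statements.S1263
import Cfsg.Agent.Lib.Helper3.Layer

set_option autoImplicit false
open Cfsg
open Cfsg.Agent.Lib.Helper3
open scoped Pointwise

namespace Cfsg.Agent.S1263

variable {G : Type*} [Group G]

/-- centre of a subgroup, viewed in `G` -/
def Zof (L : Subgroup G) : Subgroup G := (Subgroup.center ↥L).map L.subtype

lemma mem_Zof {L : Subgroup G} {z : G} : z ∈ Zof L ↔ z ∈ L ∧ ∀ x ∈ L, x * z = z * x := by
  constructor
  · rintro ⟨z', hz', rfl⟩
    refine ⟨z'.2, fun x hx => ?_⟩
    have := Subgroup.mem_center_iff.mp hz' ⟨x, hx⟩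
    exact congrArg Subtype.val this
  · rintro ⟨hz, h⟩
    refine ⟨⟨z, hz⟩, ?_, rfl⟩
    show (⟨z, hz⟩ : L) ∈ Subgroup.center ↥L
    rw [Subgroup.mem_center_iff]
    intro g
    apply Subtype.ext
    exact h g.1 g.2

lemma key (s : Finset (Subgroup G)) (hs : ∀ L ∈ s, Cfsg.IsComponent L) :
    ∀ z ∈ s.sup id, (∀ L ∈ s, ∀ x ∈ L, x * z = z * x) → z ∈ s.sup Zof := by
  classical
  induction s using Finset.induction_on with
  | empty =>
    intro z hz _
    rw [Finset.sup_empty, Subgroup.mem_bot] at hz
    rw [hz]; exact Subgroup.one_mem _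
  | insert a s ha ih =>
    intro z hz hcomm
    have hs' : ∀ L ∈ s, Cfsg.IsComponent L := fun L hL => hs L (Finset.mem_insert_of_mem hL)
    have haC : Cfsg.IsComponent a := hs a (Finset.mem_insert_self a s)
    -- E_s centralizes a
    have hEa : s.sup id ≤ Subgroup.centralizer (a : Set G) := by
      apply Finset.sup_le
      intro L hL
      have hne : L ≠ a := fun h => ha (h ▸ hL)
      have := components_commute (hs' L hL) haC hne
      exact Subgroup.commutator_eq_bot_iff_le_centralizer.mp this
    rw [Finset.sup_insert, id] at hz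
    have hz' : z ∈ ((a ⊔ s.sup id : Subgroup G) : Set G) := hz
    rw [Subgroup.coe_mul_of_right_le_normalizer_left a (s.sup id)
      (hEa.trans (Subgroup.centralizer_le_normalizer _))] at hz'
    obtain ⟨l, hl, m, hm, rfl⟩ := Set.mem_mul.mp hz'
    have hl : l ∈ a := hl
    have hm : m ∈ s.sup id := hm
    -- m commutes with a
    have hma : ∀ x ∈ a, x * m = m * x := fun x hx =>
      Subgroup.mem_centralizer_iff.mp (hEa hm) x hx
    -- l commutes with every L in s
    have hlL : ∀ L ∈ s, ∀ y ∈ L, y * l = l * y := by
      intro L hL y hy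
      have hne : L ≠ a := fun h => ha (h ▸ hL)
      have := components_commute (hs' L hL) haC hne
      have h2 := Subgroup.commutator_eq_bot_iff_le_centralizer.mp this hy
      exact (Subgroup.mem_centralizer_iff.mp h2 l hl).symm
    rw [Finset.sup_insert]
    apply Subgroup.mul_mem_sup
    · rw [mem_Zof]
      refine ⟨hl, fun x hx => ?_⟩
      have h1 := hcomm a (Finset.mem_insert_self a s) x hx
      have h2 := hma x hx
      -- x l m = l m x = l x m → x l = l x
      have : x * l * m = l * x * m := by
        calc x * l * m = x * (l * m) := by group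
          _ = (l * m) * x := h1
          _ = l * (m * x) := by group
          _ = l * (x * m) := by rw [h2]
          _ = l * x * m := by group
      exact mul_right_cancel this
    · apply ih hs' m hm
      intro L hL y hy
      have h1 := hcomm L (Finset.mem_insert_of_mem hL) y hy
      have h2 := hlL L hL y hy
      have : l * (y * m) = l * (m * y) := by
        calc l * (y * m) = (l * y) * m := by group
          _ = (y * l) * m := by rw [h2]
          _ = y * (l * m) := by group
          _ = (l * m) * y := h1
          _ = l * (m * y) := by group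
      exact mul_left_cancel this

theorem result {G : Type*} [Group G] [Finite G] : (Subgroup.center ↥(Cfsg.layer G)).map (Cfsg.layer G).subtype = ⨆ L : {K : Subgroup G // Cfsg.IsComponent K}, (Subgroup.center ↥(L : Subgroup G)).map (L : Subgroup G).subtype := by
  classical
  have hfin : Set.Finite {K : Subgroup G | Cfsg.IsComponent K} := Set.toFinite _
  set s := hfin.toFinset with hs
  have hmem : ∀ L, L ∈ s ↔ Cfsg.IsComponent L := fun L => by rw [hs, Set.Finite.mem_toFinset]; rfl
  have hE : Cfsg.layer G = s.sup id := by
    rw [Finset.sup_id_eq_sSup, hs, Set.Finite.coe_toFinset]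
    rfl
  have hW : (⨆ L : {K : Subgroup G // Cfsg.IsComponent K}, (Subgroup.center ↥(L : Subgroup G)).map (L : Subgroup G).subtype) = s.sup Zof := by
    rw [Finset.sup_eq_iSup, iSup_subtype]
    apply le_antisymm
    · apply iSup_le; intro L; apply iSup_le; intro hL
      exact le_iSup₂_of_le L ((hmem L).mpr hL) le_rfl
    · apply iSup_le; intro L; apply iSup_le; intro hL
      exact le_iSup₂_of_le L ((hmem L).mp hL) le_rfl
  rw [hW]
  apply le_antisymm
  · rintro _ ⟨z, hz, rfl⟩
    apply key s (fun L hL => (hmem L).mp hL)
    · rw [← hE]; exact z.2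
    · intro L hL x hx
      have hxE : x ∈ Cfsg.layer G := component_le_layer ((hmem L).mp hL) hx
      have := Subgroup.mem_center_iff.mp hz ⟨x, hxE⟩
      exact congrArg Subtype.val this
  · apply Finset.sup_le
    intro L hL
    have hLc := (hmem L).mp hL
    intro z hz
    have hzE : z ∈ Cfsg.layer G := component_le_layer hLc (mem_Zof.mp hz).1
    have hzC := center_component_le_centralizer_layer hLc hz
    refine ⟨⟨z, hzE⟩, ?_, rfl⟩
    show (⟨z, hzE⟩ : ↥(Cfsg.layer G)) ∈ Subgroup.center ↥(Cfsg.layer G)
    rw [Subgroup.mem_center_iff]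
    intro g
    apply Subtype.ext
    exact Subgroup.mem_centralizer_iff.mp hzC g.1 g.2

end Cfsg.Agent.S1263
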