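import Mathlib
import Cfsg.Statements.S1264
import Cfsg.Agent.Lib.Helper3.FStar2

set_option autoImplicit false
open Cfsg
open Cfsg.Agent.Lib.Helper3

namespace Cfsg.Agent.S1264

theorem result {G : Type*} [Group G] [Finite G] (N : Subgroup G) (hN : N ≤ Subgroup.centralizer (Cfsg.fittingSubgroup G : Set G)) (hnorm : Subgroup.centralizer (Cfsg.fittingSubgroup G : Set G) ≤ Subgroup.normalizer (N : Set G)) (hsolv : Group.IsSolvable ↥N) : N ≤ (Subgroup.center ↥(Cfsg.fittingSubgroup G)).map (Cfsg.fittingSubgroup G).subtype := by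
  have hFn : (Cfsg.fittingSubgroup G).Normal := fitting_normal
  set C := Subgroup.centralizer (Cfsg.fittingSubgroup G : Set G) with hC
  have hCn : C.Normal := Subgroup.normal_centralizer
  obtain ⟨R, hRn, hRs, hNR⟩ := exists_solvable_normal_of_subnormal hCn.isSubnormal N hN hnorm hsolv
  have hDn : (R ⊓ C).Normal := inferInstance
  have hDs : Group.IsSolvable ↥(R ⊓ C : Subgroup G) :=
    Group.isSolvable_of_isSolvable_injective (Subgroup.inclusion_injective (inf_le_left : R ⊓ C ≤ R))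
  have hDF := solvable_normal_le_fitting (R ⊓ C) hDn hDs inf_le_right
  intro n hn
  have hnF : n ∈ Cfsg.fittingSubgroup G := hDF ⟨hNR hn, hN hn⟩
  refine ⟨⟨n, hnF⟩, ?_, rfl⟩
  show (⟨n, hnF⟩ : ↥(Cfsg.fittingSubgroup G)) ∈ Subgroup.center ↥(Cfsg.fittingSubgroup G)
  rw [Subgroup.mem_center_iff]
  intro g
  apply Subtype.ext
  exact Subgroup.mem_centralizer_iff.mp (hN hn) g.1 g.2

end Cfsg.Agent.S1264
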