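import Mathlib
import Cfsg.Statements.S1266
import Cfsg.Agent.Lib.Helper3.PLayer
import Cfsg.Agent.Lib.Helper3.PQ
import Cfsg.Agent.Lib.Helper3.NormAux
import Cfsg.Agent.Lib.Helper3.Transport

set_option autoImplicit false
open Cfsg
open Cfsg.Agent.Lib.Helper3
open scoped commutatorElement

namespace Cfsg.Agent.S1266

/-- Let P be a p-subgroup of the finite group G and N = N_G(P). Then the preimage in N of E(N / O_{p'}(N)) centralizes O_p(G). -/
theorem result {G : Type*} [Group G] [Finite G] (p : ℕ) [Fact p.Prime] (P : Subgroup G) (hP : IsPGroup p ↥P) : (((Cfsg.layer (↥(Subgroup.normalizer ((P : Subgroup G) : Set G)) ⧸ Cfsg.pPrimeCore p ↥(Subgroup.normalizer ((P : Subgroup G) : Set G)))).comap (QuotientGroup.mk' (Cfsg.pPrimeCore p ↥(Subgroup.normalizer ((P : Subgroup G) : Set G))))).map (Subgroup.normalizer ((P : Subgroup G) : Set G)).subtype) ≤ Subgroup.centralizer (Cfsg.pCore p G : Set G) := by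
  set N := Subgroup.normalizer ((P : Subgroup G) : Set G) with hN
  set Q := Cfsg.pCore p G with hQ
  have hQn : Q.Normal := pCore_normal' p
  have hQp : IsPGroup p Q := Cfsg.Agent.Lib.Helper1.pCore_isPGroup
  show (pLayerPre p ↥N).map N.subtype ≤ Subgroup.centralizer (Q : Set G)
  set Y := pLayerPre p ↥N with hY
  set D := (Cfsg.pCore p ↥N).map N.subtype with hD
  -- Y centralizes D
  have hYD : ∀ g ∈ Y, ∀ d ∈ D, d * (g : G) = (g : G) * d := by
    rintro g hg _ ⟨d, hd, rfl⟩
    have h1 := pLayerPre_comm_pCore (M := ↥N) p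
    rw [Subgroup.commutator_eq_bot_iff_le_centralizer] at h1
    have h2 := Subgroup.mem_centralizer_iff.mp (h1 hg) d hd
    exact congrArg Subtype.val h2
  have hPD : P ≤ D := le_pCore_map Subgroup.le_normalizer hP le_rfl
  have hQND : Q ⊓ N ≤ D := by
    apply le_pCore_map inf_le_right (hQp.to_le inf_le_left)
    refine le_trans ?_ (normalizer_inf_normalizer_le Q N)
    exact le_inf (le_normalizer_of_normal hQn _) Subgroup.le_normalizer
  -- p'-elements of Y centralize Q
  have key : ∀ z : ↥Y, (orderOf z).Coprime p → ((z : ↥N) : G) ∈ Subgroup.centralizer (Q : Set G) := by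
    intro z hz
    have hord : (orderOf ((z : ↥N) : G)).Coprime p := by
      rw [Subgroup.orderOf_coe, Subgroup.orderOf_coe]; exact hz
    have hyP : ((z : ↥N) : G) ∈ Subgroup.centralizer (P : Set G) := by
      rw [Subgroup.mem_centralizer_iff]
      intro x hx
      exact hYD _ z.2 x (hPD hx)
    refine pq_lemma_elem hP hord hyP _ Q le_rfl hQp (le_normalizer_of_normal hQn _)
      (le_normalizer_of_normal hQn ⊤ (Subgroup.mem_top _)) ?_
    rintro u ⟨hu1, hu2⟩
    have huN : u ∈ N := Subgroup.centralizer_le_normalizer _ hu2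
    exact (hYD _ z.2 u (hQND ⟨hu1, huN⟩)).symm
  have htop : Cfsg.pResidual p ↥Y = ⊤ := pRes_pLayerPre_eq_top (M := ↥N) p
  have hle : (Cfsg.pResidual p ↥Y).map (N.subtype.comp Y.subtype) ≤
      Subgroup.centralizer (Q : Set G) := by
    unfold Cfsg.pResidual
    rw [MonoidHom.map_closure, Subgroup.closure_le]
    rintro _ ⟨z, hz, rfl⟩
    exact key z hz
  rintro _ ⟨g, hg, rfl⟩
  apply hle
  refine ⟨⟨g, hg⟩, ?_, rfl⟩
  rw [htop]; exact Subgroup.mem_top _

end Cfsg.Agent.S1266
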