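import Mathlib
import Cfsg.Statements.S1267
import Cfsg.Agent.Lib.Helper1.Fitting
import Cfsg.Agent.Lib.Helper3.PGroupAux
import Cfsg.Agent.Lib.Helper3.RelComp

set_option autoImplicit false
open Cfsg
open Cfsg.Agent.Lib.Helper3

namespace Cfsg.Agent.S1267

variable {G : Type*} [Group G]

lemma normalizer_le_normalizer_centralizer (M : Subgroup G) :
    Subgroup.normalizer (M : Set G) ≤
      Subgroup.normalizer ((Subgroup.centralizer (M : Set G) : Subgroup G) : Set G) := by
  intro g hg
  have key : ∀ g : G, g ∈ Subgroup.normalizer (M : Set G) → ∀ x ∈ Subgroup.centralizer (M : Set G),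
      g * x * g⁻¹ ∈ Subgroup.centralizer (M : Set G) := by
    intro g hg x hx
    rw [Subgroup.mem_centralizer_iff]
    intro m hm
    have h1 : g⁻¹ * m * g ∈ M := by
      have := (Subgroup.mem_set_normalizer_iff.mp hg (g⁻¹ * m * g)).mpr (by
        have e : g * (g⁻¹ * m * g) * g⁻¹ = m := by group
        rw [e]; exact hm)
      exact this
    have h2 := Subgroup.mem_centralizer_iff.mp hx _ h1
    calc m * (g * x * g⁻¹) = g * ((g⁻¹ * m * g) * x) * g⁻¹ := by group
      _ = g * (x * (g⁻¹ * m * g)) * g⁻¹ := by rw [h2]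
      _ = g * x * g⁻¹ * m := by group
  rw [Subgroup.mem_set_normalizer_iff]
  intro x
  constructor
  · intro hx
    exact key g hg x hx
  · intro hx
    have := key g⁻¹ (Subgroup.inv_mem _ hg) _ hx
    have e : g⁻¹ * (g * x * g⁻¹) * g⁻¹⁻¹ = x := by group
    rwa [e] at this

lemma centralizer_le_normalizer' (M : Subgroup G) :
    Subgroup.centralizer (M : Set G) ≤ Subgroup.normalizer (M : Set G) := by
  intro g hg
  rw [Subgroup.mem_set_normalizer_iff]
  intro m
  have h : ∀ y ∈ M, g * y * g⁻¹ = y := by
    intro y hy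
    have := Subgroup.mem_centralizer_iff.mp hg y hy
    rw [← this]; group
  constructor
  · intro hm
    rw [h m hm]; exact hm
  · intro hm
    have h1 := h _ hm
    have h2 : g * m * g⁻¹ = m := by
      have : g * (g * m * g⁻¹) * g⁻¹ = g * m * g⁻¹ := h1
      have e : m = g⁻¹ * (g * m * g⁻¹) * g := by group
      calc g * m * g⁻¹ = g⁻¹ * (g * (g * m * g⁻¹) * g⁻¹) * g := by group
        _ = g⁻¹ * (g * m * g⁻¹) * g := by rw [this]
        _ = m := by group
    rw [← h2]; exact hm

theorem comp_of_compIn_normalizer [Finite G] (p : ℕ) [Fact p.Prime] :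
    ∀ n : ℕ, ∀ P : Subgroup G, P ≤ Cfsg.pCore p G →
      Nat.card (Cfsg.pCore p G) - Nat.card P = n →
      ∀ K : Subgroup G, CompIn K (Subgroup.normalizer (P : Set G)) → Cfsg.IsComponent K := by
  intro n
  induction n using Nat.strong_induction_on with
  | _ n ih =>
    intro P hP hn K hK
    set Q := Cfsg.pCore p G with hQ
    have hQn : Q.Normal := Cfsg.Agent.Lib.Helper1.pCore_normal (G := G) p
    have hQp : IsPGroup p Q := Cfsg.Agent.Lib.Helper1.pCore_isPGroup
    by_cases hPQ : P = Q
    · have h1 : Subgroup.normalizer (P : Set G) = ⊤ := by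
        rw [hPQ]; exact Subgroup.normalizer_eq_top_iff.mpr hQn
      rw [h1] at hK
      exact CompIn.top_iff.mp hK
    · set N := Subgroup.normalizer (P : Set G) with hN
      set P₁ := Q ⊓ N with hP₁
      have hPP₁ : P ≤ P₁ := le_inf hP Subgroup.le_normalizer
      obtain ⟨q, hqQ, hqP, hqN⟩ := exists_mem_normalizer_not_mem P Q hQp hP hPQ
      have hne : P ≠ P₁ := by
        intro h
        apply hqP
        rw [h]
        exact ⟨hqQ, hqN⟩
      have hP₁N : P₁ ≤ N := inf_le_right
      have hP₁Q : P₁ ≤ Q := inf_le_left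
      have hNnorm : N ≤ Subgroup.normalizer (P₁ : Set G) := by
        intro g hg
        rw [Subgroup.mem_set_normalizer_iff]
        intro x
        constructor
        · rintro ⟨h1, h2⟩
          exact ⟨hQn.conj_mem x h1 g, N.mul_mem (N.mul_mem hg h2) (N.inv_mem hg)⟩
        · rintro ⟨h1, h2⟩
          constructor
          · have := hQn.conj_mem _ h1 g⁻¹
            have e : g⁻¹ * (g * x * g⁻¹) * g⁻¹⁻¹ = x := by group
            rwa [e] at this
          · have := N.mul_mem (N.mul_mem (N.inv_mem hg) h2) hg
            have e : g⁻¹ * (g * x * g⁻¹) * g = x := by group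
            rwa [e] at this
      have hP₁s : Group.IsSolvable ↥P₁ := by
        have : IsPGroup p P₁ := hQp.to_le hP₁Q
        have : Group.IsNilpotent ↥P₁ := this.isNilpotent
        infer_instance
      have hKc : K ≤ Subgroup.centralizer (P₁ : Set G) :=
        hK.centralizes_solvable hP₁N hP₁s (hK.1.1.trans hNnorm)
      have hcN : Subgroup.centralizer (P₁ : Set G) ≤ N :=
        (Subgroup.centralizer_le hPP₁).trans (centralizer_le_normalizer' P)
      have h1 : SubnIn K (Subgroup.centralizer (P₁ : Set G)) := hK.1.of_le hKc hcN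
      have h2 : SubnIn K (Subgroup.normalizer (P₁ : Set G)) :=
        h1.of_normal (centralizer_le_normalizer' P₁) (normalizer_le_normalizer_centralizer P₁)
      have hlt : Nat.card Q - Nat.card P₁ < n := by
        have hcard1 : Nat.card P < Nat.card P₁ := by
          by_contra hcon
          push Not at hcon
          exact hne (Subgroup.eq_of_le_of_card_ge hPP₁ hcon)
        have hcard2 : Nat.card P₁ ≤ Nat.card Q := Subgroup.card_le_of_le hP₁Q
        omega
      exact ih _ hlt P₁ hP₁Q rfl K ⟨h2, hK.2⟩

/-- If P ≤ O_p(G), then the layer of N_G(P) is E(G). -/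
theorem result {G : Type*} [Group G] [Finite G] (p : ℕ) [Fact p.Prime] (P : Subgroup G) (hP : P ≤ Cfsg.pCore p G) : (Cfsg.layer ↥(Subgroup.normalizer ((P : Subgroup G) : Set G))).map (Subgroup.normalizer ((P : Subgroup G) : Set G)).subtype = Cfsg.layer G := by
  set Q := Cfsg.pCore p G with hQ
  have hQn : Q.Normal := Cfsg.Agent.Lib.Helper1.pCore_normal (G := G) p
  have hQp : IsPGroup p Q := Cfsg.Agent.Lib.Helper1.pCore_isPGroup
  apply le_antisymm
  · rw [layer_map_le_iff]
    intro K hK
    exact component_le_layer (comp_of_compIn_normalizer p _ P hP rfl K hK)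
  · rw [layer_le_iff]
    intro L hL
    apply compIn_le_layer_map
    have hQs : Group.IsSolvable ↥Q := by
      have : Group.IsNilpotent ↥Q := hQp.isNilpotent
      infer_instance
    have h1 : L ≤ Subgroup.centralizer (Q : Set G) :=
      (component_le_layer hL).trans (layer_le_centralizer_of_solvable Q hQs)
    have h2 : L ≤ Subgroup.normalizer (P : Set G) :=
      (h1.trans (Subgroup.centralizer_le hP)).trans (centralizer_le_normalizer' P)
    exact ⟨(SubnIn.top_iff.mpr hL.1).of_le h2 le_top, hL.2⟩

end Cfsg.Agent.S1267
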