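import Mathlib
import Cfsg.Statements.S1268
import Cfsg.Agent.Lib.Helper3.CharP
import Cfsg.Agent.Lib.Helper3.NormAux

set_option autoImplicit false
open Cfsg
open Cfsg.Agent.Lib.Helper3

namespace Cfsg.Agent.S1268

/-- Let G be finite with F*(G) = O_p(G). Then F*(N) = O_p(N) for N the normalizer of any p-subgroup P of G. -/
theorem result {G : Type*} [Group G] [Finite G] (p : ℕ) [Fact p.Prime] (h : Cfsg.generalizedFittingSubgroup G = Cfsg.pCore p G) (P : Subgroup G) (hP : IsPGroup p ↥P) : Cfsg.generalizedFittingSubgroup ↥(Subgroup.normalizer ((P : Subgroup G) : Set G)) = Cfsg.pCore p ↥(Subgroup.normalizer ((P : Subgroup G) : Set G)) := by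
  set N := Subgroup.normalizer ((P : Subgroup G) : Set G) with hN
  set U := Cfsg.pCore p G with hU
  have hUn : U.Normal := pCore_normal' p
  have hUp : IsPGroup p U := Cfsg.Agent.Lib.Helper1.pCore_isPGroup
  have hCU : Subgroup.centralizer (U : Set G) ≤ U := centralizer_pCore_le_of_genFitting_eq p h
  apply genFitting_eq_pCore_of_local
  apply charp_local hP hUp (le_normalizer_of_normal hUn _) (le_normalizer_of_normal hUn _)
    (inf_le_right.trans hCU)
  · have h1 : U ⊓ N ≤ (Cfsg.pCore p ↥N).map N.subtype := by
      apply le_pCore_map inf_le_right (hUp.to_le inf_le_left)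
      refine le_trans ?_ (normalizer_inf_normalizer_le U N)
      exact le_inf (le_normalizer_of_normal hUn _) Subgroup.le_normalizer
    refine le_trans ?_ h1
    exact inf_le_inf_left _ (Subgroup.centralizer_le_normalizer _)
  · left
    exact le_pCore_map Subgroup.le_normalizer hP le_rfl

end Cfsg.Agent.S1268
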