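import Mathlib
import Cfsg.Statements.S1276
import Cfsg.Agent.Lib.Helper3.PComp3
import Cfsg.Agent.Lib.Helper3.Quasi2

set_option autoImplicit false
open Cfsg
open Cfsg.Agent.Lib.Helper3
open scoped commutatorElement

namespace Cfsg.Agent.S1276

/-- Let K be a 2-component of the finite group X. Then K is quasisimple if and only if ⁅K, O(K)⁆ = 1. -/
theorem result {X : Type*} [Group X] [Finite X] (K : Subgroup X) (hK : Cfsg.IsPComponent 2 K) : Cfsg.IsQuasisimple ↥K ↔ ⁅K, ((Cfsg.oddCore ↥K).map K.subtype)⁆ = ⊥ := by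
  have hcen : ⁅K, ((Cfsg.oddCore ↥K).map K.subtype)⁆ = ⊥ ↔ Cfsg.oddCore ↥K ≤ Subgroup.center ↥K := by
    rw [Subgroup.commutator_eq_bot_iff_le_centralizer]
    constructor
    · intro h o ho
      rw [Subgroup.mem_center_iff]
      intro k
      apply Subtype.ext
      exact (Subgroup.mem_centralizer_iff.mp (h k.2) (o : X) ⟨o, ho, rfl⟩).symm
    · intro h k hk
      rw [Subgroup.mem_centralizer_iff]
      rintro _ ⟨o, ho, rfl⟩
      have := Subgroup.mem_center_iff.mp (h ho) ⟨k, hk⟩
      exact (congrArg Subtype.val this).symm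
  rw [hcen]
  constructor
  · intro hq
    have hn : (Cfsg.oddCore ↥K).Normal := pPrimeCore_normal' 2
    rcases quasisimple_normal hq (Cfsg.oddCore ↥K) with h | h
    · exfalso
      apply pcomp_not_le_core hK
      have h1 : Cfsg.pPrimeCore 2 ↥K = ⊤ := h
      rw [pPrimeCore_subnormal_eq hK.1, Subgroup.subgroupOf_eq_top] at h1
      exact h1
    · exact h
  · intro h
    have hP : Group.IsPerfect ↥K := Subgroup.isPerfect_iff.mpr (pcomp_perfect hK)
    have hn : (Cfsg.oddCore ↥K).Normal := pPrimeCore_normal' 2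
    exact quasisimple_of_central_quotient (Cfsg.oddCore ↥K) h (pcomp_quotient_quasisimple hK)

end Cfsg.Agent.S1276
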