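import Mathlib
import Cfsg.Statements.S1277
import Cfsg.Agent.Lib.Helper3.PComp5

set_option autoImplicit false
open Cfsg
open Cfsg.Agent.Lib.Helper3

namespace Cfsg.Agent.S1277

/-- For a finite group X with core O(X): the image of E(X) in X / O(X) is all of E(X / O(X)) if and only if every 2-component of X is a component, i.e. L_{2'}(X) ≤ E(X). -/
theorem result {X : Type*} [Group X] [Finite X] : (Cfsg.layer X).map (QuotientGroup.mk' (Cfsg.oddCore X)) = Cfsg.layer (X ⧸ Cfsg.oddCore X) ↔ Cfsg.pLayer 2 X ≤ Cfsg.layer X := by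
  have hsurj : Function.Surjective (QuotientGroup.mk' (Cfsg.oddCore X)) := QuotientGroup.mk'_surjective _
  constructor
  · intro h
    rw [pLayer_le_iff]
    intro K hK
    have hEn : (Cfsg.layer X).Normal := inferInstance
    apply pcomp_le_of_map_le hK hEn.isSubnormal
    show K.map (QuotientGroup.mk' (Cfsg.oddCore X)) ≤ (Cfsg.layer X).map (QuotientGroup.mk' (Cfsg.oddCore X))
    rw [h]
    exact component_le_layer hK.2.1
  · intro h
    apply le_antisymm (layer_map_le_layer _ hsurj)
    have h1 := pLayer_map_eq (X := X) (p := 2)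
    show Cfsg.layer (X ⧸ Cfsg.pPrimeCore 2 X) ≤ _
    rw [← h1]
    exact Subgroup.map_mono h

end Cfsg.Agent.S1277
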