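import Mathlib
import Cfsg.Statements.S1278
import Cfsg.Agent.Lib.Helper3.PComp4
import Cfsg.Agent.S1276

set_option autoImplicit false
open Cfsg
open Cfsg.Agent.Lib.Helper3
open scoped commutatorElement

namespace Cfsg.Agent.S1278

variable {X : Type*} [Group X] [Finite X]

lemma comm_le_core {K L : Subgroup X} (hK : Cfsg.IsPComponent 2 K) (hL : Cfsg.IsPComponent 2 L)
    (hne : K ≠ L) : ⁅K, L⁆ ≤ (Cfsg.oddCore ↥K).map K.subtype := by
  have himg : K.map (ppi 2 X) ≠ L.map (ppi 2 X) := fun h => hne (pcomp_unique hK hL h)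
  have h1 : ⁅K.map (ppi 2 X), L.map (ppi 2 X)⁆ = ⊥ := components_commute hK.2.1 hL.2.1 himg
  have h2 : ⁅K, L⁆ ≤ Cfsg.pPrimeCore 2 X := by
    rw [← Subgroup.map_commutator, Subgroup.map_eq_bot_iff, QuotientGroup.ker_mk'] at h1
    exact h1
  have h3 : ⁅K, L⁆ ≤ K := by
    rw [← Subgroup.le_normalizer_iff_commutator_le_left]
    exact (pcomp_le_pLayer hL).trans (pLayer_le_normalizer_pcomp hK)
  have h4 : (Cfsg.oddCore ↥K).map K.subtype = Cfsg.pPrimeCore 2 X ⊓ K := by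
    show (Cfsg.pPrimeCore 2 ↥K).map K.subtype = _
    rw [pPrimeCore_subnormal_eq hK.1, Subgroup.subgroupOf_map_subtype]
  rw [h4]
  exact le_inf h2 h3

/-- Let K ≠ L be 2-components of the finite group X. Then ⁅K, L⁆ ≤ O(K) ⊓ O(L), and if K is quasisimple then ⁅K, L⁆ = 1. -/
theorem result {X : Type*} [Group X] [Finite X] (K L : Subgroup X) (hK : Cfsg.IsPComponent 2 K) (hL : Cfsg.IsPComponent 2 L) (hne : K ≠ L) : ⁅K, L⁆ ≤ ((Cfsg.oddCore ↥K).map K.subtype) ⊓ ((Cfsg.oddCore ↥L).map L.subtype) ∧ (Cfsg.IsQuasisimple ↥K → ⁅K, L⁆ = ⊥) := by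
  have h1 : ⁅K, L⁆ ≤ (Cfsg.oddCore ↥K).map K.subtype := comm_le_core hK hL hne
  have h2 : ⁅K, L⁆ ≤ (Cfsg.oddCore ↥L).map L.subtype := by
    rw [Subgroup.commutator_comm]
    exact comm_le_core hL hK hne.symm
  refine ⟨le_inf h1 h2, ?_⟩
  intro hq
  have h3 : ⁅K, (Cfsg.oddCore ↥K).map K.subtype⁆ = ⊥ := (Cfsg.Agent.S1276.result K hK).mp hq
  have h4 : ⁅⁅K, L⁆, K⁆ = ⊥ := by
    have h3' : ⁅(Cfsg.oddCore ↥K).map K.subtype, K⁆ = ⊥ := by
      rw [Subgroup.commutator_comm]; exact h3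
    rw [eq_bot_iff, ← h3']
    exact Subgroup.commutator_mono h1 le_rfl
  have h5 : ⁅⁅L, K⁆, K⁆ = ⊥ := by
    rw [Subgroup.commutator_comm L K]; exact h4
  have h6 : ⁅⁅K, K⁆, L⁆ = ⊥ := Subgroup.commutator_commutator_eq_bot_of_rotate h4 h5
  rwa [pcomp_perfect hK] at h6

end Cfsg.Agent.S1278
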