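import Mathlib
import Cfsg.Statements.S1279
import Cfsg.Agent.Lib.Helper3.PConstr4

set_option autoImplicit false
open Cfsg
open Cfsg.Agent.Lib.Helper3
open Cfsg.Agent.Lib.Helper1

namespace Cfsg.Agent.S1279

universe u

lemma centralizer_zpowers_eq {G : Type*} [Group G] (a : G) :
    Subgroup.centralizer ((Subgroup.zpowers a : Subgroup G) : Set G) =
      Subgroup.centralizer ({a} : Set G) := by
  rw [Subgroup.zpowers_eq_closure, Subgroup.centralizer_closure]

lemma theta_coprime {G : Type u} [Group G] [Finite G] (p : ℕ) [Fact p.Prime] (a : G) :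
    (Nat.card ↥(Cfsg.centralizerPPrimeCore p a)).Coprime p := by
  unfold Cfsg.centralizerPPrimeCore
  rw [Nat.card_congr ((Cfsg.pPrimeCore p ↥(Subgroup.centralizer ({a} : Set G))).equivMapOfInjective
    (Subgroup.centralizer ({a} : Set G)).subtype (Subgroup.subtype_injective _)).symm.toEquiv]
  exact pPrimeCore_coprime p

lemma theta_le {G : Type*} [Group G] (p : ℕ) (a : G) :
    Cfsg.centralizerPPrimeCore p a ≤ Subgroup.centralizer ({a} : Set G) :=
  Subgroup.map_subtype_le _

lemma centralizer_le_normalizer_theta {G : Type u} [Group G] [Finite G] (p : ℕ) [Fact p.Prime]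
    (a : G) : Subgroup.centralizer ({a} : Set G) ≤
      Subgroup.normalizer ((Cfsg.centralizerPPrimeCore p a : Subgroup G) : Set G) := by
  unfold Cfsg.centralizerPPrimeCore
  have : (Cfsg.pPrimeCore p ↥(Subgroup.centralizer ({a} : Set G))).Normal := pPrimeCore_normal' p
  exact le_normalizer_map_of_normal _

theorem balance {G : Type u} [Group G] [Finite G] (p : ℕ) [Fact p.Prime] (a b : G)
    (hab : a * b = b * a) (hap : a ^ p = 1)
    (hsolv : Group.IsSolvable ↥(Subgroup.centralizer ({b} : Set G))) :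
    Cfsg.centralizerPPrimeCore p a ⊓ Subgroup.centralizer ({b} : Set G) ≤
      Cfsg.centralizerPPrimeCore p b := by
  set Ca := Subgroup.centralizer ({a} : Set G) with hCa
  set Cb := Subgroup.centralizer ({b} : Set G) with hCb
  set R := Cfsg.centralizerPPrimeCore p a ⊓ Cb with hR
  set H := Ca ⊓ Cb with hH
  have hRH : R ≤ H := inf_le_inf_right _ (theta_le p a)
  have hRc : (Nat.card ↥R).Coprime p :=
    Nat.Coprime.coprime_dvd_left (Subgroup.card_dvd_of_le inf_le_left) (theta_coprime p a)
  have hHn : H ≤ Subgroup.normalizer (R : Set G) := by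
    refine le_trans ?_ (normalizer_inf_normalizer_le _ _)
    exact le_inf (inf_le_left.trans (centralizer_le_normalizer_theta p a))
      (inf_le_right.trans Subgroup.le_normalizer)
  have h1 : R ≤ (Cfsg.pPrimeCore p ↥H).map H.subtype := le_pPrimeCore_map hRH hRc hHn
  refine h1.trans ?_
  have hM : Cfsg.IsPConstrained p ↥Cb := isPConstrained_of_solvable p hsolv
  have hT : IsPGroup p ↥(Subgroup.zpowers a) := by
    intro x
    obtain ⟨x, hx⟩ := x
    obtain ⟨k, rfl⟩ := Subgroup.mem_zpowers_iff.mp hx
    refine ⟨1, ?_⟩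
    apply Subtype.ext
    simp only [pow_one, Subgroup.coe_pow, Subgroup.coe_one]
    rw [← zpow_natCast, ← zpow_mul, mul_comm, zpow_mul, zpow_natCast, hap, one_zpow]
  have hTM : Subgroup.zpowers a ≤ Cb := by
    rw [Subgroup.zpowers_le, hCb, Subgroup.mem_centralizer_iff]
    intro y hy
    rw [Set.mem_singleton_iff] at hy
    rw [hy]; exact hab.symm
  have hHC : H ≤ Subgroup.centralizer ((Subgroup.zpowers a : Subgroup G) : Set G) := by
    rw [centralizer_zpowers_eq]; exact inf_le_left
  apply pPrimeCore_relative (T := Subgroup.zpowers a) hM hTM hT inf_le_right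
  · exact hHC.trans (Subgroup.centralizer_le_normalizer _)
  · rw [centralizer_zpowers_eq]
  · right; exact hHC

theorem result {G : Type*} [Group G] [Finite G] (p : ℕ) [Fact p.Prime] (A : Subgroup G) (hA : Cfsg.IsElementaryAbelian p A) (hA2 : p ^ 2 ≤ Nat.card ↥A) (hsolv : ∀ a ∈ A, a ≠ 1 → Group.IsSolvable ↥(Subgroup.centralizer ({a} : Set G))) : Cfsg.IsSolvableSignalizerFunctor p A (fun a => Cfsg.centralizerPPrimeCore p a) := by
  have hcomm : ∀ a ∈ A, ∀ b ∈ A, a * b = b * a := by
    intro a ha b hb
    have hc := hA.1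
    have h := hc.is_comm.comm (⟨a, ha⟩ : A) ⟨b, hb⟩
    exact congrArg Subtype.val h
  refine ⟨⟨?_, ?_, ?_, ?_⟩, ?_⟩
  · intro a _ _
    exact theta_le p a
  · intro a _ _ hdvd
    have h := theta_coprime p a
    have h2 : p ∣ Nat.gcd (Nat.card ↥(Cfsg.centralizerPPrimeCore p a)) p :=
      Nat.dvd_gcd hdvd dvd_rfl
    rw [h] at h2
    exact (Fact.out : p.Prime).one_lt.ne' (Nat.dvd_one.mp h2)
  · intro a ha _ b hb x hx
    have hbC : b ∈ Subgroup.centralizer ({a} : Set G) := by
      rw [Subgroup.mem_centralizer_iff]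
      intro y hy
      rw [Set.mem_singleton_iff] at hy
      rw [hy]; exact hcomm a ha b hb
    exact conj_mem_of_mem_normalizer' (centralizer_le_normalizer_theta p a hbC) hx
  · intro a ha _ b hb hb1
    exact balance p a b (hcomm a ha b hb) (hA.2 a ha) (hsolv b hb hb1)
  · intro a ha ha1
    have := hsolv a ha ha1
    exact Group.isSolvable_of_isSolvable_injective (Subgroup.inclusion_injective (theta_le p a))

end Cfsg.Agent.S1279
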