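import Mathlib
import Cfsg.Statements.S1281
import Cfsg.Agent.Lib.Helper3.Frattini2

set_option autoImplicit false
open Cfsg
open Cfsg.Agent.Lib.Helper3
open scoped commutatorElement

namespace Cfsg.Agent.S1281

lemma isPGroup_zpowers {G : Type*} [Group G] {p : ℕ} {a : G} (hap : a ^ p = 1) :
    IsPGroup p ↥(Subgroup.zpowers a) := by
  intro x
  obtain ⟨x, hx⟩ := x
  obtain ⟨k, rfl⟩ := Subgroup.mem_zpowers_iff.mp hx
  refine ⟨1, ?_⟩
  apply Subtype.ext
  simp only [pow_one, Subgroup.coe_pow, Subgroup.coe_one]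
  rw [← zpow_natCast, ← zpow_mul, mul_comm, zpow_mul, zpow_natCast, hap, one_zpow]

theorem result {G : Type*} [Group G] [Finite G] (p : ℕ) [Fact p.Prime] (A : Subgroup G) (hA : Cfsg.IsElementaryAbelian p A) (hA2 : p ^ 2 ≤ Nat.card ↥A) (θ : G → Subgroup G) (hθ : Cfsg.IsSolvableSignalizerFunctor p A θ) (N : Subgroup G) [N.Normal] (hN : ¬ p ∣ Nat.card ↥N) (a b : G) (ha : a ∈ A) (ha1 : a ≠ 1) (hb : b ∈ A) (hb1 : b ≠ 1) : (θ a).map (QuotientGroup.mk' N) ⊓ Subgroup.centralizer {QuotientGroup.mk' N b} ≤ (θ b).map (QuotientGroup.mk' N) := by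
  obtain ⟨⟨h1, h2, h3, h4⟩, -⟩ := hθ
  have hpp : p.Prime := Fact.out
  rintro _ ⟨⟨x, hx, rfl⟩, hxc⟩
  -- b normalizes θ a
  have hbn : b ∈ Subgroup.normalizer ((θ a : Subgroup G) : Set G) := by
    apply mem_normalizer_of_conj_mem
    · intro y hy; exact h3 a ha ha1 b hb y hy
    · intro y hy
      have := h3 a ha ha1 b⁻¹ (A.inv_mem hb) y hy
      simpa using this
  have hNn : N.Normal := inferInstance
  set R := N ⊓ θ a with hR
  have hRc : (Nat.card ↥R).Coprime p := by
    have h5 : (Nat.card ↥(θ a)).Coprime p :=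
      ((Nat.Prime.coprime_iff_not_dvd hpp).mpr (h2 a ha ha1)).symm
    exact Nat.Coprime.coprime_dvd_left (Subgroup.card_dvd_of_le inf_le_right) h5
  have hP : IsPGroup p ↥(Subgroup.zpowers b) := isPGroup_zpowers (hA.2 b hb)
  have hPR : Subgroup.zpowers b ≤ Subgroup.normalizer (R : Set G) := by
    rw [Subgroup.zpowers_le]
    apply normalizer_inf_normalizer_le
    exact ⟨le_normalizer_of_normal hNn ⊤ (Subgroup.mem_top b), hbn⟩
  have hxR : x ∈ Subgroup.normalizer (R : Set G) := by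
    apply normalizer_inf_normalizer_le
    exact ⟨le_normalizer_of_normal hNn ⊤ (Subgroup.mem_top x), Subgroup.le_normalizer hx⟩
  have hd : ∀ t ∈ Subgroup.zpowers b, ⁅x, t⁆ ∈ R := by
    intro t ht
    have htn : t ∈ Subgroup.normalizer ((θ a : Subgroup G) : Set G) :=
      (Subgroup.zpowers_le.mpr hbn) ht
    refine ⟨?_, ?_⟩
    · -- image of t commutes with image of x
      show ⁅x, t⁆ ∈ N
      rw [← QuotientGroup.eq_one_iff, ← QuotientGroup.mk'_apply, map_commutatorElement,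
        commutatorElement_eq_one_iff_mul_comm]
      obtain ⟨k, rfl⟩ := Subgroup.mem_zpowers_iff.mp ht
      rw [map_zpow]
      have hc : Commute ((QuotientGroup.mk' N) x) ((QuotientGroup.mk' N) b) :=
        (Subgroup.mem_centralizer_iff.mp hxc (QuotientGroup.mk' N b) rfl).symm
      exact (hc.zpow_right k)
    · show ⁅x, t⁆ ∈ θ a
      rw [commutatorElement_def]
      have : x * t * x⁻¹ * t⁻¹ = x * (t * x⁻¹ * t⁻¹) := by group
      rw [this]
      exact (θ a).mul_mem hx (conj_mem_of_mem_normalizer' htn ((θ a).inv_mem hx))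
  obtain ⟨n, hn, hnx⟩ := exists_mul_mem_centralizer_rel hPR hRc hP x hxR hd
  have hnxb : n * x ∈ Subgroup.centralizer ({b} : Set G) := by
    rw [Subgroup.mem_centralizer_iff]
    intro y hy
    rw [Set.mem_singleton_iff] at hy
    rw [hy]
    exact Subgroup.mem_centralizer_iff.mp hnx b (Subgroup.mem_zpowers b)
  have h6 : n * x ∈ θ b := h4 a ha ha1 b hb hb1 ⟨(θ a).mul_mem hn.2 hx, hnxb⟩
  refine ⟨n * x, h6, ?_⟩
  rw [map_mul]
  have : (QuotientGroup.mk' N) n = 1 := by
    rw [QuotientGroup.mk'_apply, QuotientGroup.eq_one_iff]; exact hn.1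
  rw [this, one_mul]

end Cfsg.Agent.S1281
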