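import Mathlib
import Cfsg.Statements.S1284
import Cfsg.Agent.Lib.Helper3.Signalizer2

set_option autoImplicit false
open Cfsg
open Cfsg.Agent.Lib.Helper3
open scoped Pointwise

namespace Cfsg.Agent.S1284

theorem partB {G : Type*} [Group G] [Finite G] (p : ℕ) [Fact p.Prime] (A : Subgroup G)
    (hA : Cfsg.IsElementaryAbelian p A) (hA3 : p ^ 3 ≤ Nat.card ↥A) (θ : G → Subgroup G)
    (hθ : Cfsg.IsSolvableSignalizerFunctor p A θ) (q : ℕ) [Fact q.Prime] (Q : Subgroup G)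
    (hQ : IsMaxQ p A θ q Q) (B : Subgroup G) (hBA : B ≤ A) (hB : B ≠ ⊥) :
    ∃ S : Sylow q ↥(Cfsg.signalizerInf B θ),
      (S : Subgroup ↥(Cfsg.signalizerInf B θ)).map (Cfsg.signalizerInf B θ).subtype =
        Q ⊓ Subgroup.centralizer (B : Set G) := by
  set TB := Cfsg.signalizerInf B θ with hTB
  obtain ⟨⟨b₀, hb₀B⟩, hb₀1⟩ := (Subgroup.ne_bot_iff_exists_ne_one).mp hB
  have hb₀1' : b₀ ≠ 1 := fun h => hb₀1 (Subtype.ext h)
  -- θ(B) ≤ θ b for b ∈ B#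
  have hTBle : ∀ b ∈ B, b ≠ 1 → TB ≤ θ b := by
    intro b hb hb1 x hx
    exact (mem_signalizerInf_iff.mp hx) b hb hb1
  -- θ(B) is A-invariant
  have hTBA : AInv A TB := by
    intro a ha u hu
    rw [hTB, mem_signalizerInf_iff] at hu ⊢
    intro b hb hb1
    exact hθ.1.2.2.1 b (hBA hb) hb1 a ha u (hu b hb hb1)
  have hTBfam : TB ∈ Cfsg.signalizerFamily p A θ :=
    family_of_le (theta_mem_family hθ (hBA hb₀B) hb₀1') (hTBle b₀ hb₀B hb₀1') hTBA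
  -- θ(B) ≤ C(B)
  have hTBC : TB ≤ Subgroup.centralizer (B : Set G) := by
    intro x hx
    rw [Subgroup.mem_centralizer_iff]
    intro b hb
    by_cases hb1 : b = 1
    · rw [hb1]; simp
    · have := hθ.1.1 b (hBA hb) hb1 (hTBle b hb hb1 hx)
      exact Subgroup.mem_centralizer_iff.mp this b rfl
  -- Q ⊓ C(B) ≤ θ(B)
  have hQC : Q ⊓ Subgroup.centralizer (B : Set G) ≤ TB := by
    rintro x ⟨hxQ, hxC⟩
    have hxC' : x ∈ Subgroup.centralizer (B : Set G) := hxC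
    rw [hTB, mem_signalizerInf_iff]
    intro b hb hb1
    apply hQ.1.2.2.2 b (hBA hb) hb1
    refine ⟨hxQ, ?_⟩
    show x ∈ Subgroup.centralizer ({b} : Set G)
    rw [Subgroup.mem_centralizer_iff]
    intro z hz
    rw [Set.mem_singleton_iff] at hz
    rw [hz]
    exact Subgroup.mem_centralizer_iff.mp hxC' b hb
  have heq : Q ⊓ Subgroup.centralizer (B : Set G) = Q ⊓ TB :=
    le_antisymm (le_inf inf_le_left hQC) (inf_le_inf_left _ hTBC)
  obtain ⟨c, hc, S, hS⟩ := exists_sylow_eq_conj_inf hA hA3 hθ q hQ hTBfam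
  -- c ∈ θ(B)
  have hcTB : c ∈ TB := by
    rw [hTB, mem_signalizerInf_iff]
    intro b hb hb1
    exact (mem_signalizerInf_iff.mp hc) b (hBA hb) hb1
  refine ⟨MulAut.conj (⟨c, hcTB⟩ : ↥TB)⁻¹ • S, ?_⟩
  rw [sylow_conj_smul_map, hS, heq]
  ext x
  rw [mem_map_conj]
  simp only [Subgroup.coe_inv, inv_inv]
  constructor
  · rintro ⟨h1, h2⟩
    have h1' : c * x * c⁻¹ ∈ Q.map (MulAut.conj c).toMonoidHom := h1
    have h2' : c * x * c⁻¹ ∈ TB := h2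
    rw [mem_map_conj] at h1'
    clear h1 h2
    rename' h1' => h1, h2' => h2
    refine ⟨?_, ?_⟩
    · have : x = c⁻¹ * (c * x * c⁻¹) * c := by group
      rw [this]; exact h1
    · have : x = c⁻¹ * (c * x * c⁻¹) * c := by group
      rw [this]
      exact TB.mul_mem (TB.mul_mem (TB.inv_mem hcTB) h2) hcTB
  · rintro ⟨h1, h2⟩
    have h1' : x ∈ Q := h1
    have h2' : x ∈ TB := h2
    refine ⟨?_, TB.mul_mem (TB.mul_mem hcTB h2') (TB.inv_mem hcTB)⟩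
    show c * x * c⁻¹ ∈ Q.map (MulAut.conj c).toMonoidHom
    rw [mem_map_conj]
    have : c⁻¹ * (c * x * c⁻¹) * c = x := by group
    rw [this]; exact h1'

theorem result {G : Type*} [Group G] [Finite G] (p : ℕ) [Fact p.Prime] (A : Subgroup G) (hA : Cfsg.IsElementaryAbelian p A) (hA3 : p ^ 3 ≤ Nat.card ↥A) (θ : G → Subgroup G) (hθ : Cfsg.IsSolvableSignalizerFunctor p A θ) (q : ℕ) [Fact q.Prime] (hq : ∃ a ∈ A, a ≠ 1 ∧ q ∣ Nat.card ↥(θ a)) (Q : Subgroup G) (hQW : Q ∈ Cfsg.signalizerFamily p A θ) (hQq : IsPGroup q ↥Q) (hQmax : ∀ R ∈ Cfsg.signalizerFamily p A θ, IsPGroup q ↥R → Q ≤ R → R = Q) : (∀ H : Subgroup G, H ∈ Cfsg.signalizerFamily p A θ → ∃ c ∈ Cfsg.signalizerInf A θ, ∃ S : Sylow q ↥H, (S : Subgroup ↥H).map H.subtype = Q.map (MulAut.conj c).toMonoidHom ⊓ H) ∧ (∀ B : Subgroup G, B ≤ A → B ≠ ⊥ → ∃ S : Sylow q ↥(Cfsg.signalizerInf B θ), (S : Subgroup ↥(Cfsg.signalizerInf B θ)).map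 (Cfsg.signalizerInf B θ).subtype = Q ⊓ Subgroup.centralizer (B : Set G)) := by
  have hQ : IsMaxQ p A θ q Q := ⟨hQW, hQq, hQmax⟩
  refine ⟨?_, ?_⟩
  · intro H hH
    exact exists_sylow_eq_conj_inf hA hA3 hθ q hQ hH
  · intro B hBA hB
    exact partB p A hA hA3 θ hθ q Q hQ B hBA hB

end Cfsg.Agent.S1284
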