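import Mathlib
import Cfsg.Statements.S1285
import Cfsg.Agent.Lib.Helper3.Signalizer2

set_option autoImplicit false
open Cfsg
open Cfsg.Agent.Lib.Helper3
open scoped Pointwise

namespace Cfsg.Agent.S1285

theorem result {G : Type*} [Group G] [Finite G] (p : ℕ) [Fact p.Prime] (A : Subgroup G) (hA : Cfsg.IsElementaryAbelian p A) (hA3 : p ^ 3 ≤ Nat.card ↥A) (θ : G → Subgroup G) (hθ : Cfsg.IsSolvableSignalizerFunctor p A θ) (q : ℕ) [Fact q.Prime] (hq : ∀ a ∈ A, a ≠ 1 → IsPGroup q ↥(θ a)) : Cfsg.IsCompleteSignalizerFunctor p A θ := by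
  have hpp : p.Prime := Fact.out
  have hbot : (⊥ : Subgroup G) ∈ Cfsg.signalizerFamily p A θ := by
    refine ⟨inferInstance, ?_, ?_, ?_⟩
    · rw [Subgroup.card_bot]
      intro h
      exact hpp.one_lt.ne' (Nat.dvd_one.mp h)
    · intro b _ u hu
      rw [Subgroup.mem_bot] at hu ⊢
      rw [hu]; simp
    · intro a _ _
      rw [bot_inf_eq]; exact bot_le
  obtain ⟨Q, hQ, -⟩ := exists_isMaxQ_ge (q := q) hbot (IsPGroup.of_bot)
  refine ⟨hθ.1, Q, hQ.1.2.2.1, hQ.1.2.1, ?_⟩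
  intro a ha ha1
  apply le_antisymm (hQ.1.2.2.2 a ha ha1)
  refine le_inf ?_ (hθ.1.1 a ha ha1)
  obtain ⟨c, hc, S, hS⟩ := exists_sylow_eq_conj_inf hA hA3 hθ q hQ (theta_mem_family hθ ha ha1)
  have hca : c ∈ θ a := (mem_signalizerInf_iff.mp hc) a ha ha1
  have hStop : (S : Subgroup ↥(θ a)) = ⊤ := by
    have h1 : IsPGroup q ↥(⊤ : Subgroup ↥(θ a)) :=
      (hq a ha ha1).of_equiv (Subgroup.topEquiv).symm
    exact (S.is_maximal' h1 le_top).symm
  rw [hStop, ← MonoidHom.range_eq_map, Subgroup.range_subtype] at hS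
  intro x hx
  have hx' : c * x * c⁻¹ ∈ θ a := (θ a).mul_mem ((θ a).mul_mem hca hx) ((θ a).inv_mem hca)
  rw [hS] at hx'
  have h2 := hx'.1
  have h3 : c * x * c⁻¹ ∈ Q.map (MulAut.conj c).toMonoidHom := h2
  rw [mem_map_conj] at h3
  have : c⁻¹ * (c * x * c⁻¹) * c = x := by group
  rw [this] at h3
  exact h3

end Cfsg.Agent.S1285
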