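import Cfsg.Statements.S1286
import Mathlib

set_option autoImplicit false
open Cfsg

namespace Cfsg.Agent.S1286

set_option maxRecDepth 100000

/-- the ambient group -/
abbrev X33 := Matrix.SpecialLinearGroup (Fin 3) (ZMod 3)

/-- first involution -/
def ea : X33 := ⟨!![2, 0, 0; 0, 2, 0; 0, 0, 1], by decide⟩
/-- second involution -/
def eb : X33 := ⟨!![1, 0, 0; 0, 2, 0; 0, 0, 2], by decide⟩
/-- first element of order 3 -/
def ex : X33 := ⟨!![1, 1, 0; 0, 1, 0; 0, 0, 1], by decide⟩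
/-- second element of order 3 -/
def ey : X33 := ⟨!![1, 0, 0; 0, 1, 1; 0, 0, 1], by decide⟩

theorem ea_sq : ea * ea = 1 := by decide
theorem eb_sq : eb * eb = 1 := by decide
theorem eab_comm : ea * eb = eb * ea := by decide
theorem ea_ne : ea ≠ 1 := by decide
theorem eb_ne : eb ≠ 1 := by decide
theorem eab_ne : ea * eb ≠ 1 := by decide
theorem ea_ne_eb : ea ≠ eb := by decide
theorem eab_ne_ea : ea * eb ≠ ea := by decide
theorem eab_ne_eb : ea * eb ≠ eb := by decide
theorem ex_pow : ex ^ 3 = 1 := by decide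
theorem ey_pow : ey ^ 3 = 1 := by decide
theorem ex_ne : ex ≠ 1 := by decide
theorem ey_ne : ey ≠ 1 := by decide
theorem ea_ex : ea * ex * ea⁻¹ = ex := by decide
theorem eb_ex : eb * ex * eb⁻¹ = ex⁻¹ := by decide
theorem ea_ey : ea * ey * ea⁻¹ = ey⁻¹ := by decide
theorem eb_ey : eb * ey * eb⁻¹ = ey := by decide
theorem ez_ne : ex * ey * ex⁻¹ * ey⁻¹ ≠ 1 := by decide
theorem ez_comm : (ex * ey * ex⁻¹ * ey⁻¹) * (ea * eb) = (ea * eb) * (ex * ey * ex⁻¹ * ey⁻¹) := by decide


/-- the four-group -/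
def A4g : Subgroup X33 where
  carrier := {g | g = 1 ∨ g = ea ∨ g = eb ∨ g = ea * eb}
  one_mem' := Or.inl rfl
  mul_mem' := by
    rintro g h (rfl | rfl | rfl | rfl) (rfl | rfl | rfl | rfl) <;> decide
  inv_mem' := by
    rintro g (rfl | rfl | rfl | rfl) <;> decide

theorem mem_A4g (g : X33) : g ∈ A4g ↔ g = 1 ∨ g = ea ∨ g = eb ∨ g = ea * eb := Iff.rfl

theorem A4g_comm : ∀ g h : X33, g ∈ A4g → h ∈ A4g → g * h = h * g := by
  rintro g h (rfl | rfl | rfl | rfl) (rfl | rfl | rfl | rfl) <;> decide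

theorem A4g_sq : ∀ g : X33, g ∈ A4g → g ^ 2 = 1 := by
  rintro g (rfl | rfl | rfl | rfl) <;> decide

theorem A4g_card : Nat.card A4g = 4 := by
  show Nat.card ((A4g : Set X33) : Type) = 4
  rw [Nat.card_coe_set_eq]
  have : (A4g : Set X33) = (({1, ea, eb, ea * eb} : Finset X33) : Set X33) := by
    ext g
    simp only [Finset.coe_insert, Finset.coe_singleton, Set.mem_insert_iff,
      Set.mem_singleton_iff]
    exact mem_A4g g
  rw [this, Set.ncard_coe_finset]
  decide

/-- the functor -/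
def th (g : X33) : Subgroup X33 :=
  if g = ea then Subgroup.zpowers ex else if g = eb then Subgroup.zpowers ey else ⊥

theorem th_ea : th ea = Subgroup.zpowers ex := by
  unfold th; rw [if_pos rfl]

theorem th_eb : th eb = Subgroup.zpowers ey := by
  unfold th; rw [if_neg (Ne.symm ea_ne_eb), if_pos rfl]

theorem th_eab : th (ea * eb) = ⊥ := by
  unfold th; rw [if_neg eab_ne_ea, if_neg eab_ne_eb]

theorem conj_ex : ∀ d : X33, d ∈ A4g → d * ex * d⁻¹ = ex ∨ d * ex * d⁻¹ = ex⁻¹ := by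
  rintro d (rfl | rfl | rfl | rfl) <;> decide

theorem conj_ey : ∀ d : X33, d ∈ A4g → d * ey * d⁻¹ = ey ∨ d * ey * d⁻¹ = ey⁻¹ := by
  rintro d (rfl | rfl | rfl | rfl) <;> decide

theorem eab_ex : (ea * eb) * ex * (ea * eb)⁻¹ = ex⁻¹ := by decide
theorem eab_ey : (ea * eb) * ey * (ea * eb)⁻¹ = ey⁻¹ := by decide

theorem conj_mem_zpowers (d g : X33) (h : d * g * d⁻¹ = g ∨ d * g * d⁻¹ = g⁻¹) (u : X33)
    (hu : u ∈ Subgroup.zpowers g) : d * u * d⁻¹ ∈ Subgroup.zpowers g := by
  obtain ⟨k, rfl⟩ := hu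
  rw [← conj_zpow]
  rcases h with h | h <;> rw [h]
  · exact ⟨k, rfl⟩
  · exact Subgroup.zpow_mem _ (Subgroup.inv_mem _ (Subgroup.mem_zpowers g)) k

theorem inv_comm_trivial (d g : X33) (h : d * g * d⁻¹ = g⁻¹) (hg : g ^ 3 = 1) (u : X33)
    (hu : u ∈ Subgroup.zpowers g) (hc : d * u = u * d) : u = 1 := by
  obtain ⟨k, rfl⟩ := hu
  have h1 : d * g ^ k * d⁻¹ = (g ^ k)⁻¹ := by
    rw [← conj_zpow, h, inv_zpow]
  have h2 : d * g ^ k * d⁻¹ = g ^ k := by
    rw [hc, mul_inv_cancel_right]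
  have h3 : g ^ k * g ^ k = 1 := by
    nth_rewrite 1 [← h2]
    rw [h1, inv_mul_cancel]
  have h4 : (g ^ k) ^ 3 = 1 := by
    rw [← zpow_natCast, ← zpow_mul, mul_comm, zpow_mul, zpow_natCast, hg, one_zpow]
  calc g ^ k = (g ^ k) ^ 3 * (g ^ k * g ^ k)⁻¹ := by group
    _ = 1 := by rw [h4, h3]; simp


theorem comm_of_conj {d g : X33} (h : d * g * d⁻¹ = g) : d * g = g * d := by
  calc d * g = (d * g * d⁻¹) * d := by group
    _ = g * d := by rw [h]

theorem th_sf : Cfsg.IsSignalizerFunctor 2 A4g th := by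
  have hx3 : Nat.card (Subgroup.zpowers ex) = 3 := by
    rw [Nat.card_zpowers]; exact orderOf_eq_prime ex_pow ex_ne
  have hy3 : Nat.card (Subgroup.zpowers ey) = 3 := by
    rw [Nat.card_zpowers]; exact orderOf_eq_prime ey_pow ey_ne
  refine ⟨?_, ?_, ?_, ?_⟩
  · rintro c (rfl | rfl | rfl | rfl) hc1
    · exact absurd rfl hc1
    · rw [th_ea, Subgroup.zpowers_le, Subgroup.mem_centralizer_iff]
      intro h hh
      rw [Set.mem_singleton_iff.1 hh]
      exact comm_of_conj ea_ex
    · rw [th_eb, Subgroup.zpowers_le, Subgroup.mem_centralizer_iff]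
      intro h hh
      rw [Set.mem_singleton_iff.1 hh]
      exact comm_of_conj eb_ey
    · rw [th_eab]; exact bot_le
  · rintro c (rfl | rfl | rfl | rfl) hc1
    · exact absurd rfl hc1
    · rw [th_ea, hx3]; decide
    · rw [th_eb, hy3]; decide
    · rw [th_eab, Subgroup.card_bot]; decide
  · rintro c (rfl | rfl | rfl | rfl) hc1 d hd u hu
    · exact absurd rfl hc1
    · rw [th_ea] at hu ⊢
      exact conj_mem_zpowers d ex (conj_ex d hd) u hu
    · rw [th_eb] at hu ⊢
      exact conj_mem_zpowers d ey (conj_ey d hd) u hu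
    · rw [th_eab] at hu ⊢
      rw [Subgroup.mem_bot] at hu ⊢
      rw [hu]; group
  · rintro c (rfl | rfl | rfl | rfl) hc1 d hd hd1 u ⟨hu, hud⟩
    · exact absurd rfl hc1
    · have hu' : u ∈ Subgroup.zpowers ex := by rw [← th_ea]; exact hu
      rcases hd with rfl | rfl | rfl | rfl
      · exact absurd rfl hd1
      · exact hu
      · have hc := (Subgroup.mem_centralizer_iff.1 hud) eb rfl
        rw [inv_comm_trivial eb ex eb_ex ex_pow u hu' hc]
        exact one_mem _
      · have hc := (Subgroup.mem_centralizer_iff.1 hud) (ea * eb) rfl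
        rw [inv_comm_trivial (ea * eb) ex eab_ex ex_pow u hu' hc]
        exact one_mem _
    · have hu' : u ∈ Subgroup.zpowers ey := by rw [← th_eb]; exact hu
      rcases hd with rfl | rfl | rfl | rfl
      · exact absurd rfl hd1
      · have hc := (Subgroup.mem_centralizer_iff.1 hud) ea rfl
        rw [inv_comm_trivial ea ey ea_ey ey_pow u hu' hc]
        exact one_mem _
      · exact hu
      · have hc := (Subgroup.mem_centralizer_iff.1 hud) (ea * eb) rfl
        rw [inv_comm_trivial (ea * eb) ey eab_ey ey_pow u hu' hc]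
        exact one_mem _
    · have hu' : u ∈ (⊥ : Subgroup X33) := by rw [← th_eab]; exact hu
      rw [Subgroup.mem_bot] at hu'
      rw [hu']
      exact one_mem _

theorem main1286 : ∃ (X : Type) (_ : Group X) (_ : Finite X) (A : Subgroup X) (θ : X → Subgroup X), Cfsg.IsElementaryAbelian 2 A ∧ Nat.card ↥A = 4 ∧ Cfsg.IsSolvableSignalizerFunctor 2 A θ ∧ ¬ Cfsg.IsCompleteSignalizerFunctor 2 A θ := by
  refine ⟨X33, inferInstance, inferInstance, A4g, th, ?_, A4g_card, ⟨th_sf, ?_⟩, ?_⟩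
  · refine ⟨⟨⟨fun g h => Subtype.ext (A4g_comm g.1 h.1 g.2 h.2)⟩⟩, A4g_sq⟩
  · rintro c (rfl | rfl | rfl | rfl) hc1
    · exact absurd rfl hc1
    · rw [th_ea]
      exact Group.isSolvable_of_comm
        (fun g h => (Subgroup.zpowers_isMulCommutative ex).is_comm.comm g h)
    · rw [th_eb]
      exact Group.isSolvable_of_comm
        (fun g h => (Subgroup.zpowers_isMulCommutative ey).is_comm.comm g h)
    · rw [th_eab]
      exact Group.isSolvable_of_comm (fun g h => Subsingleton.elim _ _)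
  · rintro ⟨_, X0, hinv, hodd, hcent⟩
    have h1 := hcent ea (Or.inr (Or.inl rfl)) ea_ne
    have h2 := hcent eb (Or.inr (Or.inr (Or.inl rfl))) eb_ne
    have h3 := hcent (ea * eb) (Or.inr (Or.inr (Or.inr rfl))) eab_ne
    rw [th_ea] at h1
    rw [th_eb] at h2
    rw [th_eab] at h3
    have hx : ex ∈ X0 := by
      have : ex ∈ X0 ⊓ Subgroup.centralizer {ea} := by rw [h1]; exact Subgroup.mem_zpowers ex
      exact this.1
    have hy : ey ∈ X0 := by
      have : ey ∈ X0 ⊓ Subgroup.centralizer {eb} := by rw [h2]; exact Subgroup.mem_zpowers ey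
      exact this.1
    have hz : ex * ey * ex⁻¹ * ey⁻¹ ∈ X0 ⊓ Subgroup.centralizer {ea * eb} := by
      rw [Subgroup.mem_inf]
      refine ⟨mul_mem (mul_mem (mul_mem hx hy) (inv_mem hx)) (inv_mem hy), ?_⟩
      rw [Subgroup.mem_centralizer_iff]
      intro h hh
      rw [Set.mem_singleton_iff.1 hh]
      exact ez_comm.symm
    rw [h3, Subgroup.mem_bot] at hz
    exact ez_ne hz


/-- There exist a finite group X, an elementary abelian subgroup A of order 4 and a solvable A-signalizer functor θ on X for the prime 2 which is not complete. -/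
theorem result : ∃ (X : Type) (_ : Group X) (_ : Finite X) (A : Subgroup X) (θ : X → Subgroup X), Cfsg.IsElementaryAbelian 2 A ∧ Nat.card ↥A = 4 ∧ Cfsg.IsSolvableSignalizerFunctor 2 A θ ∧ ¬ Cfsg.IsCompleteSignalizerFunctor 2 A θ := by
  exact main1286 

end Cfsg.Agent.S1286
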