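import Mathlib
import Cfsg.Statements.S1292
import Cfsg.Agent.Lib.Helper3.CharP
import Cfsg.Agent.Lib.Helper3.CharP2
import Cfsg.Agent.Lib.Helper3.NormAux

set_option autoImplicit false
open Cfsg
open Cfsg.Agent.Lib.Helper3

namespace Cfsg.Agent.S1292

variable {G : Type*} [Group G] [Finite G]

lemma exists_central_involution (T : Subgroup G) (hT : IsPGroup 2 ↥T) (hT1 : T ≠ ⊥) :
    ∃ t : G, orderOf t = 2 ∧ t ∈ T ∧ ∀ s ∈ T, s * t = t * s := by
  have hnt : Nontrivial ↥T := (Subgroup.nontrivial_iff_ne_bot T).mpr hT1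
  have hcnt : Nontrivial ↥(Subgroup.center ↥T) := hT.center_nontrivial
  have hcp : IsPGroup 2 ↥(Subgroup.center ↥T) := hT.to_subgroup _
  obtain ⟨n, hn0, hn⟩ := hcp.nontrivial_iff_card.mp hcnt
  have hdvd : 2 ∣ Nat.card ↥(Subgroup.center ↥T) := by
    rw [hn]; exact dvd_pow_self 2 hn0.ne'
  obtain ⟨x, hx⟩ := exists_prime_orderOf_dvd_card' 2 hdvd
  refine ⟨((x : ↥T) : G), ?_, (x : ↥T).2, ?_⟩
  · rw [Subgroup.orderOf_coe, Subgroup.orderOf_coe]; exact hx
  · intro s hs
    have := Subgroup.mem_center_iff.mp x.2 ⟨s, hs⟩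
    exact congrArg Subtype.val this

/-- Let G be a finite group such that F*(C_G(t)) = O_2(C_G(t)) for every involution t. Then F*(N_G(T)) = O_2(N_G(T)) for every nontrivial 2-subgroup T of G. -/
theorem result {G : Type*} [Group G] [Finite G] (h : ∀ t : G, orderOf t = 2 → Cfsg.generalizedFittingSubgroup ↥(Subgroup.centralizer ({t} : Set G)) = Cfsg.pCore 2 ↥(Subgroup.centralizer ({t} : Set G))) (T : Subgroup G) (hT : IsPGroup 2 ↥T) (hT1 : T ≠ ⊥) : Cfsg.generalizedFittingSubgroup ↥(Subgroup.normalizer (T : Set G)) = Cfsg.pCore 2 ↥(Subgroup.normalizer (T : Set G)) := by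
  obtain ⟨t, ht2, htT, htc⟩ := exists_central_involution T hT hT1
  set G₁ := Subgroup.centralizer ({t} : Set G) with hG₁
  set N := Subgroup.normalizer (T : Set G) with hN
  set H₁ := N ⊓ G₁ with hH₁
  set R := (Cfsg.pCore 2 ↥G₁).map G₁.subtype with hR
  have hTG₁ : T ≤ G₁ := by
    intro s hs
    rw [hG₁, Subgroup.mem_centralizer_iff]
    intro x hx
    rw [Set.mem_singleton_iff] at hx
    rw [hx]
    exact (htc s hs).symm
  have hTN : T ≤ N := Subgroup.le_normalizer
  have hRp : IsPGroup 2 R := (Cfsg.Agent.Lib.Helper1.pCore_isPGroup).map _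
  have hRG₁ : R ≤ G₁ := Subgroup.map_subtype_le _
  have hG₁R : G₁ ≤ Subgroup.normalizer (R : Set G) := by
    have : (Cfsg.pCore 2 ↥G₁).Normal := pCore_normal' 2
    exact le_normalizer_map_of_normal _
  have hloc : G₁ ⊓ Subgroup.centralizer (R : Set G) ≤ R := local_of_genFitting_eq_pCore (h t ht2)
  have hH₁G₁ : H₁ ≤ G₁ := inf_le_right
  have hH₁N : H₁ ≤ N := inf_le_left
  -- Step A
  have hA : H₁ ⊓ Subgroup.centralizer (((Cfsg.pCore 2 ↥H₁).map H₁.subtype : Subgroup G) : Set G) ≤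
      (Cfsg.pCore 2 ↥H₁).map H₁.subtype := by
    apply charp_local hT hRp (hTG₁.trans hG₁R) (hH₁G₁.trans hG₁R)
    · exact (inf_le_inf_right _ hH₁G₁).trans hloc
    · have h1 : R ⊓ N ≤ (Cfsg.pCore 2 ↥H₁).map H₁.subtype := by
        apply le_pCore_map (le_inf inf_le_right (inf_le_left.trans hRG₁)) (hRp.to_le inf_le_left)
        refine le_trans ?_ (normalizer_inf_normalizer_le R N)
        exact le_inf (hH₁G₁.trans hG₁R) (hH₁N.trans Subgroup.le_normalizer)
      refine le_trans ?_ h1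
      exact inf_le_inf_left _ (Subgroup.centralizer_le_normalizer _)
    · left
      exact le_pCore_map (le_inf hTN hTG₁) hT hH₁N
  -- Step B
  apply genFitting_eq_pCore_of_local
  apply charp_of_sub hH₁N _ hA
  -- C_N(O_2(N)) ≤ C_N(t)
  have hTD : T ≤ (Cfsg.pCore 2 ↥N).map N.subtype := le_pCore_map hTN hT le_rfl
  rintro y ⟨hyN, hyC⟩
  refine ⟨hyN, ?_⟩
  show y ∈ Subgroup.centralizer ({t} : Set G)
  have hyC : y ∈ Subgroup.centralizer (((Cfsg.pCore 2 ↥N).map N.subtype : Subgroup G) : Set G) := hyC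
  rw [Subgroup.mem_centralizer_iff]
  intro x hx
  rw [Set.mem_singleton_iff] at hx
  rw [hx]
  exact Subgroup.mem_centralizer_iff.mp hyC t (hTD htT)

end Cfsg.Agent.S1292
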