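import Mathlib
import Cfsg.Statements.S1300

set_option autoImplicit false
open Cfsg

namespace Cfsg.Agent.S1300

lemma cppc_le_centralizer {G : Type*} [Group G] (p : ℕ) (x : G) :
    Cfsg.centralizerPPrimeCore p x ≤ Subgroup.centralizer ({x} : Set G) := by
  unfold Cfsg.centralizerPPrimeCore
  intro g hg
  rw [Subgroup.mem_map] at hg
  obtain ⟨y, _, rfl⟩ := hg
  exact y.2

lemma mem_zpowers_of_order_two {G : Type*} [Group G] (x a : G) (hx : orderOf x = 2)
    (ha : a ∈ Subgroup.zpowers x) : a = 1 ∨ a = x := by
  obtain ⟨k, rfl⟩ := Subgroup.mem_zpowers_iff.mp ha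
  rw [← zpow_mod_orderOf, hx]
  have h2 : (k % ((2 : ℕ) : ℤ)) = 0 ∨ (k % ((2 : ℕ) : ℤ)) = 1 := by
    have := Int.emod_two_eq_zero_or_one k
    simpa using this
  rcases h2 with h | h
  · left; rw [h]; simp
  · right; rw [h]; simp

/-- For a finite group G, balance in the sense of commuting involutions is the same as 1-balance for the prime 2. -/
theorem result {G : Type*} [Group G] [Finite G] : Cfsg.IsBalanced G ↔ Cfsg.IsKBalanced 2 1 G := by
  constructor
  · intro hB A hA hcard b hb hcomm
    -- find a nonidentity element of A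
    have hcard' : Nat.card A = 2 := by simpa using hcard
    have hne : ∃ x : A, x ≠ 1 := by
      by_contra hcon
      push Not at hcon
      have : Subsingleton A := ⟨fun u v => by rw [hcon u, hcon v]⟩
      have := Nat.card_of_subsingleton (1 : A)
      omega
    obtain ⟨⟨x, hxA⟩, hx1⟩ := hne
    have hx1' : x ≠ 1 := fun h => hx1 (Subtype.ext h)
    have hx2 : x ^ 2 = 1 := hA.2 x hxA
    have hox : orderOf x = 2 := orderOf_eq_prime hx2 hx1'
    have hle : Cfsg.signalizerDelta 2 A ≤ Cfsg.centralizerPPrimeCore 2 x := by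
      unfold Cfsg.signalizerDelta
      exact iInf_le (fun a : {a : G // a ∈ A ∧ a ≠ 1} => Cfsg.centralizerPPrimeCore 2 (a : G)) ⟨x, hxA, hx1'⟩
    have hxb : x * b = b * x := hcomm x hxA
    have := hB x b hox hb hxb
    calc Cfsg.signalizerDelta 2 A ⊓ Subgroup.centralizer {b}
        ≤ Cfsg.centralizerPPrimeCore 2 x ⊓ Subgroup.centralizer {b} := inf_le_inf_right _ hle
      _ = Cfsg.centralizerPPrimeCore 2 b ⊓ Subgroup.centralizer {x} := this
      _ ≤ Cfsg.centralizerPPrimeCore 2 b := inf_le_left
  · intro hK
    have key : ∀ x y : G, orderOf x = 2 → orderOf y = 2 → x * y = y * x →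
        Cfsg.centralizerPPrimeCore 2 x ⊓ Subgroup.centralizer {y} ≤
          Cfsg.centralizerPPrimeCore 2 y ⊓ Subgroup.centralizer {x} := by
      intro x y hx hy hxy
      have hEA : Cfsg.IsElementaryAbelian 2 (Subgroup.zpowers x) := by
        refine ⟨inferInstance, ?_⟩
        intro a ha
        rcases mem_zpowers_of_order_two x a hx ha with h | h
        · rw [h]; simp
        · rw [h, ← hx]; exact pow_orderOf_eq_one x
      have hcard : Nat.card (Subgroup.zpowers x) = 2 ^ 1 := by
        rw [Nat.card_zpowers, hx]; rfl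
      have hcomm : ∀ a ∈ Subgroup.zpowers x, a * y = y * a := by
        intro a ha
        rcases mem_zpowers_of_order_two x a hx ha with h | h
        · rw [h]; simp
        · rw [h]; exact hxy
      have h1 := hK (Subgroup.zpowers x) hEA hcard y hy hcomm
      have hle : Cfsg.centralizerPPrimeCore 2 x ≤ Cfsg.signalizerDelta 2 (Subgroup.zpowers x) := by
        unfold Cfsg.signalizerDelta
        refine le_iInf ?_
        rintro ⟨a, ha, ha1⟩
        rcases mem_zpowers_of_order_two x a hx ha with h | h
        · exact absurd h ha1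
        · simp only [h]; exact le_refl _
      refine le_inf ?_ ?_
      · calc Cfsg.centralizerPPrimeCore 2 x ⊓ Subgroup.centralizer {y}
            ≤ Cfsg.signalizerDelta 2 (Subgroup.zpowers x) ⊓ Subgroup.centralizer {y} :=
              inf_le_inf_right _ hle
          _ ≤ _ := h1
      · exact inf_le_left.trans (cppc_le_centralizer 2 x)
    intro x y hx hy hxy
    exact le_antisymm (key x y hx hy hxy) (key y x hy hx hxy.symm)

end Cfsg.Agent.S1300
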