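import Mathlib
import Cfsg.Statements.S1302
import Cfsg.Agent.Lib.Helper3.OddFix
import Cfsg.Agent.Lib.Helper3.PConstr
import Cfsg.Agent.Lib.Helper3.Frattini

set_option autoImplicit false
open Cfsg
open Cfsg.Agent.Lib.Helper3
open Cfsg.Agent.Lib.Helper1
open scoped commutatorElement

namespace Cfsg.Agent.S1302

/-- Let X be a finite p-constrained group, p an odd prime, and A an abelian p-subgroup of X containing every element of order p of C_X(A). Then every subgroup of X of order prime to p that is normalized by A lies in O_{p'}(X). -/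
theorem result {X : Type*} [Group X] [Finite X] (p : ℕ) [Fact p.Prime] (hp : p ≠ 2) (hX : Cfsg.IsPConstrained p X) (A : Subgroup X) (hA : IsMulCommutative ↥A) (hAp : IsPGroup p ↥A) (hΩ : ∀ x ∈ Subgroup.centralizer (A : Set X), orderOf x = p → x ∈ A) (Q : Subgroup X) (hQ : ¬ p ∣ Nat.card ↥Q) (hAQ : A ≤ Subgroup.normalizer (Q : Set X)) : Q ≤ Cfsg.pPrimeCore p X := by
  have hpp : p.Prime := Fact.out
  set N := Cfsg.pPrimeCore p X with hN
  have hNn : N.Normal := pPrimeCore_normal' p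
  have hNc : (Nat.card ↥N).Coprime p := pPrimeCore_coprime p
  set D := Cfsg.pCore p (X ⧸ N) with hDdef
  have hDn : D.Normal := pCore_normal' p
  have hDp : IsPGroup p ↥D := pCore_isPGroup
  have hD : Subgroup.centralizer (D : Set (X ⧸ N)) ≤ D := (isPConstrained_iff p).mp hX
  have hQc : (Nat.card ↥Q).Coprime p :=
    Nat.coprime_comm.mp ((Nat.Prime.coprime_iff_not_dvd hpp).mpr hQ)
  set Qb := Q.map (ppi p X) with hQb
  set Ab := A.map (ppi p X) with hAb
  have hQbc : (Nat.card ↥Qb).Coprime p :=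
    Nat.Coprime.coprime_dvd_left (Subgroup.card_map_dvd _ _) hQc
  have hAbp : IsPGroup p ↥Ab := hAp.map _
  have hAQb : Ab ≤ Subgroup.normalizer (Qb : Set (X ⧸ N)) :=
    (Subgroup.map_mono hAQ).trans (Subgroup.le_normalizer_map _)
  -- D ⊓ Qb = ⊥
  have hdisj : ∀ y, y ∈ D → y ∈ Qb → y = 1 := by
    intro y hyD hyQ
    obtain ⟨k, hk⟩ := hDp ⟨y, hyD⟩
    have hk' : y ^ (p ^ k) = 1 := by simpa using congrArg Subtype.val hk
    have h1 : orderOf y ∣ p ^ k := orderOf_dvd_of_pow_eq_one hk'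
    have h2 : orderOf y ∣ Nat.card ↥Qb := by
      have := orderOf_dvd_natCard (⟨y, hyQ⟩ : ↥Qb)
      rwa [Subgroup.orderOf_mk] at this
    have h3 : (Nat.card ↥Qb).Coprime (p ^ k) := Nat.Coprime.pow_right k hQbc
    exact orderOf_eq_one_iff.mp (Nat.eq_one_of_dvd_coprimes h3 h2 h1)
  by_contra hQN
  have hne : ¬ Qb ≤ Subgroup.centralizer (D : Set (X ⧸ N)) := by
    intro h
    apply hQN
    intro q hq
    have h1 : ppi p X q ∈ Qb := ⟨q, hq, rfl⟩
    have h2 := hdisj _ (hD (h h1)) h1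
    exact (ppi_eq_one_iff p q).mp h2
  obtain ⟨wb, hwD, hwo, hwA, hwQ⟩ := exists_fixed_not_fixed_odd hp hDp hQbc hAbp
    (le_normalizer_of_normal hDn Qb) (le_normalizer_of_normal hDn Ab) hAQb hne
  apply hwQ
  -- lift
  obtain ⟨c₀, rfl⟩ := ppi_surjective p wb
  have hd : ∀ x ∈ A, ⁅c₀, x⁆ ∈ N := by
    intro x hx
    rw [← ppi_eq_one_iff, map_commutatorElement, commutatorElement_eq_one_iff_mul_comm]
    exact (Subgroup.mem_centralizer_iff.mp hwA _ ⟨x, hx, rfl⟩).symm
  obtain ⟨n, hn, hnc⟩ := exists_mul_mem_centralizer hNn hNc hAp c₀ hd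
  set c := n * c₀ with hc
  have hpic : ppi p X c = ppi p X c₀ := by
    rw [hc, map_mul, (ppi_eq_one_iff p n).mpr hn, one_mul]
  set m := Nat.card ↥N with hm
  obtain ⟨u, -, hu⟩ := Nat.exists_mul_mod_eq_one_of_coprime hNc hpp.one_lt
  set c' := c ^ (m * u) with hc'
  have hpic' : ppi p X c' = ppi p X c₀ := by
    rw [hc', map_pow, hpic, ← pow_mod_orderOf, hwo, hu, pow_one]
  have hcp : c ^ p ∈ N := by
    rw [← ppi_eq_one_iff, map_pow, hpic]
    have := pow_orderOf_eq_one (ppi p X c₀)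
    rwa [hwo] at this
  have hc'p : c' ^ p = 1 := by
    have h1 : (c ^ p) ^ m = 1 := by
      have h0 : (⟨c ^ p, hcp⟩ : ↥N) ^ Nat.card ↥N = 1 := pow_card_eq_one'
      have h0' := congrArg Subtype.val h0
      rw [Subgroup.coe_pow, Subgroup.coe_one] at h0'
      exact h0'
    rw [hc', ← pow_mul, mul_comm (m * u) p, ← mul_assoc, pow_mul, pow_mul, h1, one_pow]
  have hc'1 : c' ≠ 1 := by
    intro h
    have h1 : ppi p X c₀ = 1 := by rw [← hpic', h, map_one]
    rw [h1, orderOf_one] at hwo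
    exact hpp.one_lt.ne hwo
  have hc'o : orderOf c' = p := orderOf_eq_prime hc'p hc'1
  have hc'A : c' ∈ A := hΩ c' (Subgroup.pow_mem _ hnc _) hc'o
  have hwAb : ppi p X c₀ ∈ Ab := by rw [← hpic']; exact ⟨c', hc'A, rfl⟩
  rw [Subgroup.mem_centralizer_iff]
  intro qb hqb
  have h1 : ⁅ppi p X c₀, qb⁆ ∈ D := by
    have : ⁅ppi p X c₀, qb⁆ = ppi p X c₀ * (qb * (ppi p X c₀)⁻¹ * qb⁻¹) := by
      simp only [commutatorElement_def]; group
    rw [this]
    exact Subgroup.mul_mem _ hwD (hDn.conj_mem _ (Subgroup.inv_mem _ hwD) qb)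
  have h2 : ⁅ppi p X c₀, qb⁆ ∈ Qb := by
    have : ⁅ppi p X c₀, qb⁆ = (ppi p X c₀ * qb * (ppi p X c₀)⁻¹) * qb⁻¹ := by
      simp only [commutatorElement_def]
    rw [this]
    exact Subgroup.mul_mem _ (conj_mem_of_mem_normalizer' (hAQb hwAb) hqb)
      (Subgroup.inv_mem _ hqb)
  have h3 := hdisj _ h1 h2
  rw [commutatorElement_eq_one_iff_mul_comm] at h3
  exact h3.symm

end Cfsg.Agent.S1302
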