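import Cfsg.Statements.S1303
import Mathlib
import Cfsg.Agent.S2427

set_option autoImplicit false
open Cfsg

namespace Cfsg.Agent.S1303

set_option maxRecDepth 100000

open Cfsg.Agent.S2427

theorem eG_pow : eG ^ 3 = 1 := by decide

theorem eG_ne : eG ≠ 1 := by decide

theorem cent_Q8 : ∀ x : G23, x * eI = eI * x → x * eJ = eJ * x → x ^ 4 = 1 := by decide

theorem eI_mem : eI ∈ Q8 := by decide

theorem eJ_mem : eJ ∈ Q8 := by decide

theorem pPrimeCore_eq : Cfsg.pPrimeCore 2 G23 = ⊥ := by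
  rw [eq_bot_iff]
  apply sSup_le
  rintro N ⟨hN, hcop⟩
  rcases normal_class N hN with h | h | h | h
  · rw [h]
  · exfalso
    rw [h, Subgroup.card_top, Nat.card_eq_fintype_card, card_G23] at hcop
    revert hcop; decide
  · exfalso
    rw [h, card_center] at hcop
    revert hcop; decide
  · exfalso
    rw [h, ← Q8_eq_commutator, card_Q8] at hcop
    revert hcop; decide

theorem Q8_normal : Q8.Normal := by
  rw [Q8_eq_commutator]
  infer_instance

theorem Q8_pgroup : IsPGroup 2 Q8 := IsPGroup.of_card (n := 3) (by rw [card_Q8]; rfl)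

theorem Q8_le : Q8 ≤ Cfsg.pPrimePCore 2 G23 := by
  unfold Cfsg.pPrimePCore
  rw [← Subgroup.map_le_iff_le_comap]
  apply le_sSup
  refine ⟨?_, ?_⟩
  · haveI := Q8_normal
    exact Subgroup.Normal.map inferInstance _ (QuotientGroup.mk'_surjective _)
  · exact Q8_pgroup.map _

theorem main1303 : Cfsg.IsPConstrained 2 (Matrix.SpecialLinearGroup (Fin 2) (ZMod 3)) ∧ Cfsg.pPrimeCore 2 (Matrix.SpecialLinearGroup (Fin 2) (ZMod 3)) = ⊥ ∧ (∀ t : Matrix.SpecialLinearGroup (Fin 2) (ZMod 3), orderOf t = 2 → t ∈ Subgroup.center (Matrix.SpecialLinearGroup (Fin 2) (ZMod 3))) ∧ ∃ Q : Subgroup (Matrix.SpecialLinearGroup (Fin 2) (ZMod 3)), Nat.card ↥Q = 3 ∧ ¬ (Q ≤ Cfsg.pPrimeCore 2 (Matrix.SpecialLinearGroup (Fin 2) (ZMod 3))) := by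
  refine ⟨?_, pPrimeCore_eq, ?_, ?_⟩
  · intro P
    haveI : (Q8.subgroupOf (Cfsg.pPrimePCore 2 G23)).Normal := Q8_normal.subgroupOf _
    have hp8 : IsPGroup 2 ↥(Q8.subgroupOf (Cfsg.pPrimePCore 2 G23)) := Q8_pgroup.comap_subtype
    have hQP : Q8.subgroupOf (Cfsg.pPrimePCore 2 G23) ≤ (P : Subgroup _) :=
      IsPGroup.le_sylow_of_normal hp8 P
    have hQ8' : ∀ x ∈ Q8, x ∈ ((P : Subgroup ↥(Cfsg.pPrimePCore 2 G23)).map
        (Cfsg.pPrimePCore 2 G23).subtype) := by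
      intro x hx
      refine ⟨⟨x, Q8_le hx⟩, hQP ?_, rfl⟩
      rw [Subgroup.mem_subgroupOf]
      exact hx
    intro x hx
    rw [Subgroup.mem_centralizer_iff] at hx
    have h1 := hx eI (hQ8' eI eI_mem)
    have h2 := hx eJ (hQ8' eJ eJ_mem)
    apply Q8_le
    exact cent_Q8 x h1.symm h2.symm
  · intro t ht
    rw [mem_center_iff']
    apply sq_one_cases
    have h2 := pow_orderOf_eq_one t
    rw [ht] at h2
    rw [← pow_two]
    exact h2
  · refine ⟨Subgroup.zpowers eG, ?_, ?_⟩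
    · rw [Nat.card_zpowers]
      exact orderOf_eq_prime eG_pow eG_ne
    · intro hle
      have := hle (Subgroup.mem_zpowers eG)
      rw [pPrimeCore_eq, Subgroup.mem_bot] at this
      exact eG_ne this


/-- The group X = SL(2, 3): it is 2-constrained, O_{2'}(X) = 1, its centre A = Z(X) contains every involution of X = C_X(A), and X has a subgroup of order 3 (normalized by A) not contained in O_{2'}(X). -/
theorem result : Cfsg.IsPConstrained 2 (Matrix.SpecialLinearGroup (Fin 2) (ZMod 3)) ∧ Cfsg.pPrimeCore 2 (Matrix.SpecialLinearGroup (Fin 2) (ZMod 3)) = ⊥ ∧ (∀ t : Matrix.SpecialLinearGroup (Fin 2) (ZMod 3), orderOf t = 2 → t ∈ Subgroup.center (Matrix.SpecialLinearGroup (Fin 2) (ZMod 3))) ∧ ∃ Q : Subgroup (Matrix.SpecialLinearGroup (Fin 2) (ZMod 3)), Nat.card ↥Q = 3 ∧ ¬ (Q ≤ Cfsg.pPrimeCore 2 (Matrix.SpecialLinearGroup (Fin 2) (ZMod 3))) := by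
  exact main1303 

end Cfsg.Agent.S1303
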