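import Mathlib
import Cfsg.Statements.S1304

set_option autoImplicit false
open Cfsg
open scoped commutatorElement

namespace Cfsg.Agent.S1304

/-- Let X be a perfect group and α an automorphism of X with α(x) x⁻¹ central for every x. Then α is the identity. -/
theorem result {X : Type*} [Group X] (hperf : commutator X = ⊤) (α : X ≃* X) (h : ∀ x : X, α x * x⁻¹ ∈ Subgroup.center X) : ∀ x : X, α x = x := by
  have key : commutatorSet X ⊆ ((MonoidHom.eqLocus α.toMonoidHom (MonoidHom.id X) : Subgroup X) : Set X) := by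
    rintro g ⟨a, b, rfl⟩
    show α.toMonoidHom ⁅a, b⁆ = MonoidHom.id X ⁅a, b⁆
    simp only [MulEquiv.coe_toMonoidHom, MonoidHom.id_apply, commutatorElement_def, map_mul, map_inv]
    have ha := h a
    have hb := h b
    rw [Subgroup.mem_center_iff] at ha hb
    set za := α a * a⁻¹ with hza
    set zb := α b * b⁻¹ with hzb
    have ea : α a = za * a := by rw [hza]; group
    have eb : α b = zb * b := by rw [hzb]; group
    rw [ea, eb]
    have c1 : ∀ g, g * za = za * g := ha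
    have c2 : ∀ g, g * zb = zb * g := hb
    calc za * a * (zb * b) * (za * a)⁻¹ * (zb * b)⁻¹
        = za * (a * zb) * b * a⁻¹ * za⁻¹ * b⁻¹ * zb⁻¹ := by group
      _ = za * (zb * a) * b * a⁻¹ * za⁻¹ * b⁻¹ * zb⁻¹ := by rw [c2 a]
      _ = za * zb * (a * b * a⁻¹) * za⁻¹ * b⁻¹ * zb⁻¹ := by group
      _ = za * ((a * b * a⁻¹) * zb) * za⁻¹ * b⁻¹ * zb⁻¹ := by rw [c2 (a * b * a⁻¹)]; group
      _ = (za * (a * b * a⁻¹ * zb)) * za⁻¹ * b⁻¹ * zb⁻¹ := by group
      _ = ((a * b * a⁻¹ * zb) * za) * za⁻¹ * b⁻¹ * zb⁻¹ := by rw [c1 (a * b * a⁻¹ * zb)]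
      _ = a * b * a⁻¹ * (zb * b⁻¹) * zb⁻¹ := by group
      _ = a * b * a⁻¹ * (b⁻¹ * zb) * zb⁻¹ := by rw [← c2 b⁻¹]
      _ = a * b * a⁻¹ * b⁻¹ := by group
  have hle : commutator X ≤ MonoidHom.eqLocus α.toMonoidHom (MonoidHom.id X) := by
    rw [commutator_eq_closure]
    exact (Subgroup.closure_le _).mpr key
  intro x
  have hx : x ∈ commutator X := by rw [hperf]; exact Subgroup.mem_top x
  exact hle hx

end Cfsg.Agent.S1304
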