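import Mathlib
import Cfsg.Statements.S1306
import Cfsg.Agent.Lib.Helper3.RelComp2
import Cfsg.Agent.Lib.Helper3.NormAux

set_option autoImplicit false
open Cfsg
open Cfsg.Agent.Lib.Helper3
open scoped commutatorElement

namespace Cfsg.Agent.S1306

theorem result {G : Type*} [Group G] [Finite G] (x : G) (hx : orderOf x = 2) (L : Subgroup G) (hLx : L ≤ Subgroup.centralizer ({x} : Set G)) (hL : Cfsg.IsComponent (L.subgroupOf (Subgroup.centralizer ({x} : Set G)))) (hne : ∀ y : G, orderOf y = 2 → y ∈ Subgroup.centralizer (L : Set G) → L ≤ Subgroup.centralizer ({y} : Set G) ∧ Cfsg.IsComponent (L.subgroupOf (Subgroup.centralizer ({y} : Set G)))) (hnc : ∀ g : G, L.map (MulAut.conj g).toMonoidHom ≠ L → ⁅L, L.map (MulAut.conj g).toMonoidHom⁆ ≠ ⊥) : Cfsg.IsStandardSubgroup L := by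
  set K := Subgroup.centralizer (L : Set G) with hK
  have hLq : Cfsg.IsQuasisimple ↥L := ((isComponent_subgroupOf_iff hLx).mp hL).2
  have hxK : x ∈ K := by
    rw [hK, Subgroup.mem_centralizer_iff]
    intro l hl
    exact (Subgroup.mem_centralizer_iff.mp (hLx hl) x rfl).symm
  have key : ∀ y g : G, orderOf y = 2 → y ∈ K → g⁻¹ * y * g ∈ K →
      L.map (MulAut.conj g).toMonoidHom = L := by
    intro y g hy hyK hyg
    obtain ⟨h1, c1⟩ := hne y hy hyK
    have hy' : orderOf (g⁻¹ * y * g) = 2 := by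
      have := (MulAut.conj g⁻¹).orderOf_eq y
      simp only [MulAut.conj_apply, inv_inv] at this
      rw [this, hy]
    obtain ⟨h2, c2⟩ := hne (g⁻¹ * y * g) hy' hyg
    have C1 : CompIn L (Subgroup.centralizer ({y} : Set G)) :=
      (isComponent_subgroupOf_iff h1).mp c1
    have C2 : CompIn L (Subgroup.centralizer ({g⁻¹ * y * g} : Set G)) :=
      (isComponent_subgroupOf_iff h2).mp c2
    have C2' := C2.conj g
    rw [centralizer_singleton_map_conj] at C2'
    have e : g * (g⁻¹ * y * g) * g⁻¹ = y := by group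
    rw [e] at C2'
    rcases C2'.eq_or_commute C1 with h | h
    · exact h
    · by_contra hne'
      apply hnc g hne'
      rw [Subgroup.commutator_comm]; exact h
  refine ⟨hLq, ⟨?_, ?_⟩, hnc, ?_⟩
  · rw [even_iff_two_dvd]
    have := orderOf_dvd_natCard (⟨x, hxK⟩ : ↥K)
    rwa [Subgroup.orderOf_mk, hx] at this
  · intro g hg
    by_contra hodd
    rw [Nat.not_odd_iff_even, even_iff_two_dvd] at hodd
    have : Fact (Nat.Prime 2) := ⟨Nat.prime_two⟩
    obtain ⟨y, hy⟩ := exists_prime_orderOf_dvd_card' 2 hodd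
    have hy2 : orderOf (y : G) = 2 := by rw [Subgroup.orderOf_coe]; exact hy
    have hyK : (y : G) ∈ K := y.2.1
    have hyg : (y : G) ∈ K.map (MulAut.conj g).toMonoidHom := y.2.2
    rw [mem_map_conj] at hyg
    have h1 := key y g hy2 hyK hyg
    apply hg
    apply normalizer_le_normalizer_centralizer L
    rw [Subgroup.mem_normalizer_iff_map_conj_eq]
    exact h1
  · apply le_antisymm (normalizer_le_normalizer_centralizer L)
    intro g hg
    have h1 : g⁻¹ * x * g ∈ K := conj_inv_mem_of_mem_normalizer' hg hxK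
    have h2 := key x g hx hxK h1
    rw [Subgroup.mem_normalizer_iff_map_conj_eq]
    exact h2

end Cfsg.Agent.S1306
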