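import Mathlib
import Cfsg.Statements.S1312
import Cfsg.Agent.Lib.Helper3.Bender4

set_option autoImplicit false
set_option linter.style.haveILetI false
open Cfsg
open Cfsg.Agent.Lib.Helper3
open scoped commutatorElement

namespace Cfsg.Agent.S1312

theorem layer_map_le_genFit {G : Type*} [Group G] [Finite G] {M N : Subgroup G}
    (h1 : (Cfsg.generalizedFittingSubgroup ↥M).map M.subtype ≤ N)
    (h2 : (Cfsg.generalizedFittingSubgroup ↥N).map N.subtype ≤ M) :
    (Cfsg.layer ↥M).map M.subtype ≤ (Cfsg.generalizedFittingSubgroup ↥N).map N.subtype := by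
  haveI hFNn : (Cfsg.fittingSubgroup ↥N).Normal := fitting_normal
  haveI hENn : (Cfsg.layer ↥N).Normal := layer_normal
  haveI hWNn : (Cfsg.generalizedFittingSubgroup ↥N).Normal := by
    unfold Cfsg.generalizedFittingSubgroup
    infer_instance
  have hNn : N ≤ Subgroup.normalizer
      (((Cfsg.generalizedFittingSubgroup ↥N).map N.subtype : Subgroup G) : Set G) := by
    have h := Subgroup.le_normalizer_map (H := Cfsg.generalizedFittingSubgroup ↥N) N.subtype
    rw [Subgroup.normalizer_eq_top_iff.mpr hWNn, ← MonoidHom.range_eq_map,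
      Subgroup.range_subtype] at h
    exact h
  obtain ⟨H, hHdef⟩ : ∃ H : Subgroup ↥M,
    H = ((Cfsg.generalizedFittingSubgroup ↥N).map N.subtype).subgroupOf M := ⟨_, rfl⟩
  have hHmem : ∀ t : ↥M, t ∈ H ↔ (t : G) ∈ (Cfsg.generalizedFittingSubgroup ↥N).map N.subtype := by
    intro t; rw [hHdef, Subgroup.mem_subgroupOf]
  have hEW : Cfsg.layer ↥M ≤ Cfsg.generalizedFittingSubgroup ↥M := le_sup_left
  have hkey : Cfsg.layer ↥M ≤ H := by
    rw [layer_le_iff]
    intro L hL
    have hLN : ∀ l ∈ L, ((l : ↥M) : G) ∈ N := fun l hl =>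
      h1 ⟨l, hEW (component_le_layer hL hl), rfl⟩
    have hLn : L ≤ Subgroup.normalizer (H : Set ↥M) := by
      intro l hl
      have hvnorm := hNn (hLN l hl)
      rw [Subgroup.mem_normalizer_iff] at hvnorm ⊢
      intro h
      rw [hHmem, hHmem]
      exact hvnorm (h : G)
    rcases component_le_or_comm hL hLn with h | h
    · exact h
    · intro l hl
      rw [hHmem]
      have hlc : l ∈ Subgroup.centralizer (H : Set ↥M) :=
        (Subgroup.commutator_eq_bot_iff_le_centralizer.mp h) hl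
      have hlN := hLN l hl
      have hl' : (⟨(l : G), hlN⟩ : ↥N) ∈
          Subgroup.centralizer (Cfsg.generalizedFittingSubgroup ↥N : Set ↥N) := by
        rw [Subgroup.mem_centralizer_iff]
        intro w hw
        have hwG : ((w : ↥N) : G) ∈ (Cfsg.generalizedFittingSubgroup ↥N).map N.subtype :=
          ⟨w, hw, rfl⟩
        have hwM : ((w : ↥N) : G) ∈ M := h2 hwG
        have := (Subgroup.mem_centralizer_iff.mp hlc) ⟨(w : G), hwM⟩ ((hHmem _).mpr hwG)
        have hG : ((w : ↥N) : G) * ((l : ↥M) : G) = ((l : ↥M) : G) * ((w : ↥N) : G) :=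
          congrArg Subtype.val this
        exact Subtype.ext hG
      exact ⟨⟨(l : G), hlN⟩, Cfsg.Agent.S1265.result hl', rfl⟩
  rintro _ ⟨e, he, rfl⟩
  exact (hHmem e).mp (hkey he)

theorem eq_bot_of_genFit_eq_bot {G : Type*} [Group G] [Finite G] {M : Subgroup G}
    (h : Cfsg.generalizedFittingSubgroup ↥M = ⊥) : M = ⊥ := by
  have h0 := Cfsg.Agent.S1265.result (G := ↥M)
  rw [h] at h0
  rw [eq_bot_iff]
  intro x hx
  have hx' : (⟨x, hx⟩ : ↥M) ∈ Subgroup.centralizer (((⊥ : Subgroup ↥M)) : Set ↥M) := by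
    rw [Subgroup.mem_centralizer_iff]
    intro g hg
    rw [SetLike.mem_coe, Subgroup.mem_bot] at hg
    rw [hg, one_mul, mul_one]
  have := h0 hx'
  rw [Subgroup.mem_bot] at this
  rw [Subgroup.mem_bot]
  exact congrArg Subtype.val this

/-- Let G be a non-abelian finite simple group and M ≠ N maximal subgroups of G with F*(M) ≤ N and F*(N) ≤ M. Then there is a prime p such that F*(M) and F*(N) are both p-groups. -/
theorem result {G : Type*} [Group G] [Finite G] [IsSimpleGroup G] (hna : ¬ IsMulCommutative G) (M N : Subgroup G) (hM : IsCoatom M) (hN : IsCoatom N) (hMN : M ≠ N) (h1 : (Cfsg.generalizedFittingSubgroup ↥M).map M.subtype ≤ N) (h2 : (Cfsg.generalizedFittingSubgroup ↥N).map N.subtype ≤ M) : ∃ p : ℕ, p.Prime ∧ IsPGroup p ↥(Cfsg.generalizedFittingSubgroup ↥M) ∧ IsPGroup p ↥(Cfsg.generalizedFittingSubgroup ↥N) := by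
  have r1 := benderRel_of_le hna hM h1
  have r2 := benderRel_of_le hna hN h2
  by_cases hπM : ∃ p : ℕ, p.Prime ∧ p ∣ Nat.card ↥(Cfsg.fittingSubgroup ↥M)
  · exact bender_symmetric hM hN r1 r2 hMN hπM
  · by_cases hπN : ∃ p : ℕ, p.Prime ∧ p ∣ Nat.card ↥(Cfsg.fittingSubgroup ↥N)
    · obtain ⟨p, hp, h3, h4⟩ := bender_symmetric hN hM r2 r1 (Ne.symm hMN) hπN
      exact ⟨p, hp, h4, h3⟩
    · exfalso
      have hFM : Cfsg.fittingSubgroup ↥M = ⊥ := by
        rw [← Subgroup.card_eq_one]
        by_contra hc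
        obtain ⟨r, hr, hrd⟩ := Nat.exists_prime_and_dvd hc
        exact hπM ⟨r, hr, hrd⟩
      have hFN : Cfsg.fittingSubgroup ↥N = ⊥ := by
        rw [← Subgroup.card_eq_one]
        by_contra hc
        obtain ⟨r, hr, hrd⟩ := Nat.exists_prime_and_dvd hc
        exact hπN ⟨r, hr, hrd⟩
      have hWM : Cfsg.generalizedFittingSubgroup ↥M = Cfsg.layer ↥M := by
        show Cfsg.layer ↥M ⊔ Cfsg.fittingSubgroup ↥M = Cfsg.layer ↥M
        rw [hFM, sup_bot_eq]
      have hWN : Cfsg.generalizedFittingSubgroup ↥N = Cfsg.layer ↥N := by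
        show Cfsg.layer ↥N ⊔ Cfsg.fittingSubgroup ↥N = Cfsg.layer ↥N
        rw [hFN, sup_bot_eq]
      have e1 := layer_map_le_genFit h1 h2
      have e2 := layer_map_le_genFit h2 h1
      rw [hWN] at e1
      rw [hWM] at e2
      have heq : (Cfsg.layer ↥M).map M.subtype = (Cfsg.layer ↥N).map N.subtype :=
        le_antisymm e1 e2
      haveI hEMn : (Cfsg.layer ↥M).Normal := layer_normal
      haveI hENn : (Cfsg.layer ↥N).Normal := layer_normal
      by_cases hEM : Cfsg.layer ↥M = ⊥
      · have hEN : Cfsg.layer ↥N = ⊥ := by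
          rw [hEM, Subgroup.map_bot] at heq
          exact (Subgroup.map_eq_bot_iff_of_injective _ (Subgroup.subtype_injective N)).mp heq.symm
        have hM0 : M = ⊥ := eq_bot_of_genFit_eq_bot (hWM.trans hEM)
        have hN0 : N = ⊥ := eq_bot_of_genFit_eq_bot (hWN.trans hEN)
        exact hMN (hM0.trans hN0.symm)
      · have hEN : Cfsg.layer ↥N ≠ ⊥ := by
          intro hbot
          rw [hbot, Subgroup.map_bot] at heq
          exact hEM ((Subgroup.map_eq_bot_iff_of_injective _ (Subgroup.subtype_injective M)).mp heq)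
        have hNM := normalizer_map_eq_of_isCoatom hM _ hEMn hEM
        have hNN := normalizer_map_eq_of_isCoatom hN _ hENn hEN
        rw [heq, hNN] at hNM
        exact hMN hNM.symm

end Cfsg.Agent.S1312
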