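import Mathlib
import Cfsg.Statements.S1313
import Cfsg.Agent.S1265
import Cfsg.Agent.Lib.Helper3.FStar2

set_option autoImplicit false
open Cfsg
open Cfsg.Agent.Lib.Helper3

namespace Cfsg.Agent.S1313

theorem result {H : Type*} [Group H] [Finite H] : Nat.card H ≤ Nat.factorial (Nat.card ↥(Cfsg.generalizedFittingSubgroup H)) := by
  classical
  set W := Cfsg.generalizedFittingSubgroup H with hW
  have hFn : (Cfsg.fittingSubgroup H).Normal := fitting_normal
  have hWn : W.Normal := by
    rw [hW]; unfold Cfsg.generalizedFittingSubgroup; infer_instance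
  set C := Subgroup.centralizer (W : Set H) with hC
  have hCW : C ≤ W := Cfsg.Agent.S1265.result
  -- conjugation permutation
  let ρ : H → Equiv.Perm ↥W := fun h =>
    { toFun := fun w => ⟨h * w * h⁻¹, hWn.conj_mem w w.2 h⟩
      invFun := fun w => ⟨h⁻¹ * w * h, by
        have := hWn.conj_mem w w.2 h⁻¹
        rwa [inv_inv] at this⟩
      left_inv := fun w => by apply Subtype.ext; simp only []; group
      right_inv := fun w => by apply Subtype.ext; simp only []; group }
  -- section
  let s : H → H := fun h => ((h : H ⧸ C)).out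
  have hs : ∀ h, (s h)⁻¹ * h ∈ C := by
    intro h
    have : ((s h : H) : H ⧸ C) = (h : H ⧸ C) := QuotientGroup.out_eq' _
    exact QuotientGroup.eq.mp this
  let z : H → ↥W := fun h => ⟨(s h)⁻¹ * h, hCW (hs h)⟩
  let Ψ : H → Equiv.Perm ↥W := fun h => (ρ h).trans (Equiv.mulLeft (z h))
  have hΨ : Function.Injective Ψ := by
    intro h h' heq
    have h1 : Ψ h 1 = Ψ h' 1 := by rw [heq]
    have hz : z h = z h' := by
      have e1 : Ψ h 1 = z h := by
        show z h * (ρ h 1) = z h
        have : ρ h 1 = 1 := by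
          apply Subtype.ext
          show h * ((1 : ↥W) : H) * h⁻¹ = 1
          simp
        rw [this, mul_one]
      have e2 : Ψ h' 1 = z h' := by
        show z h' * (ρ h' 1) = z h'
        have : ρ h' 1 = 1 := by
          apply Subtype.ext
          show h' * ((1 : ↥W) : H) * h'⁻¹ = 1
          simp
        rw [this, mul_one]
      rw [← e1, ← e2, h1]
    have hρ : ∀ w : ↥W, ρ h w = ρ h' w := by
      intro w
      have h2 : Ψ h w = Ψ h' w := by rw [heq]
      have h3 : z h * ρ h w = z h' * ρ h' w := h2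
      rw [hz] at h3
      exact mul_left_cancel h3
    -- h'⁻¹ h ∈ C
    have hmem : h'⁻¹ * h ∈ C := by
      rw [hC, Subgroup.mem_centralizer_iff]
      intro w hw
      have := congrArg Subtype.val (hρ ⟨w, hw⟩)
      have h4 : h * w * h⁻¹ = h' * w * h'⁻¹ := this
      calc w * (h'⁻¹ * h) = h'⁻¹ * (h' * w * h'⁻¹) * h := by group
        _ = h'⁻¹ * (h * w * h⁻¹) * h := by rw [h4]
        _ = h'⁻¹ * h * w := by group
    have hcos : ((h' : H) : H ⧸ C) = (h : H ⧸ C) := QuotientGroup.eq.mpr hmem
    have hss : s h = s h' := by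
      show ((h : H ⧸ C)).out = ((h' : H ⧸ C)).out
      rw [hcos]
    have hz' : (s h)⁻¹ * h = (s h')⁻¹ * h' := congrArg Subtype.val hz
    rw [hss] at hz'
    exact mul_left_cancel hz'
  have hcard := Nat.card_le_card_of_injective Ψ hΨ
  have hperm : Nat.card (Equiv.Perm ↥W) = Nat.factorial (Nat.card ↥W) := by
    have := Fintype.ofFinite ↥W
    rw [Nat.card_eq_fintype_card, Nat.card_eq_fintype_card, Fintype.card_perm]
  rw [hperm] at hcard
  exact hcard

end Cfsg.Agent.S1313
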