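import Mathlib
import Cfsg.Statements.S1314

set_option autoImplicit false
open Cfsg
open scoped commutatorElement Pointwise

namespace Cfsg.Agent.S1314

variable {G : Type*} [Group G]

lemma comm_left {c d m : G} (h1 : c * d = d * c) (h2 : c * m = m * c) : ⁅c * d, m⁆ = ⁅d, m⁆ := by
  rw [commutatorElement_def, commutatorElement_def]
  have h3 : c * m⁻¹ = m⁻¹ * c := by
    calc c * m⁻¹ = m⁻¹ * (m * c) * m⁻¹ := by group
      _ = m⁻¹ * (c * m) * m⁻¹ := by rw [h2]
      _ = m⁻¹ * c := by group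
  have h4 : c * d⁻¹ = d⁻¹ * c := by
    calc c * d⁻¹ = d⁻¹ * (d * c) * d⁻¹ := by group
      _ = d⁻¹ * (c * d) * d⁻¹ := by rw [h1]
      _ = d⁻¹ * c := by group
  calc c * d * m * (c * d)⁻¹ * m⁻¹ = c * d * m * d⁻¹ * c⁻¹ * m⁻¹ := by group
    _ = d * (c * m) * d⁻¹ * c⁻¹ * m⁻¹ := by rw [h1]; group
    _ = d * m * (c * d⁻¹) * c⁻¹ * m⁻¹ := by rw [h2]; group
    _ = d * m * d⁻¹ * m⁻¹ := by rw [h4]; group

lemma comm_right {c d m : G} (h1 : c * d = d * c) (h2 : c * m = m * c) : ⁅d, c * m⁆ = ⁅d, m⁆ := by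
  have := comm_left (c := c) (d := m) (m := d) h2 h1
  have h3 : ⁅d, c * m⁆ = ⁅c * m, d⁆⁻¹ := (commutatorElement_inv _ _).symm
  have h4 : ⁅d, m⁆ = ⁅m, d⁆⁻¹ := (commutatorElement_inv _ _).symm
  rw [h3, h4, this]

theorem result {G : Type*} [Group G] [Finite G] (x : G) (hx : orderOf x = 2) (L : Subgroup G) (hperf : ⁅L, L⁆ = L) (hcomm : ⁅L, L.map (MulAut.conj x).toMonoidHom⁆ = ⊥) : ∃ π : ↥L →* G, (∀ l : ↥L, π l = (l : G) * (x * (l : G) * x⁻¹)) ∧ π.ker ≤ Subgroup.center ↥L ∧ π.range ≤ Subgroup.centralizer ({x} : Set G) ∧ ⁅(L ⊔ L.map (MulAut.conj x).toMonoidHom) ⊓ Subgroup.centralizer ({x} : Set G), (L ⊔ L.map (MulAut.conj x).toMonoidHom) ⊓ Subgroup.centralizer ({x} : Set G)⁆ = π.range := by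
  have hxx : x * x = 1 := by
    have := pow_orderOf_eq_one x
    rw [hx, pow_two] at this; exact this
  have hxi : x⁻¹ = x := inv_eq_of_mul_eq_one_left hxx
  set Lx := L.map (MulAut.conj x).toMonoidHom with hLx
  have hmemLx : ∀ b ∈ L, x * b * x⁻¹ ∈ Lx := fun b hb => ⟨b, hb, rfl⟩
  -- commutation
  have hc : ∀ a ∈ L, ∀ b' ∈ Lx, a * b' = b' * a := by
    intro a ha b' hb'
    have h := Subgroup.commutator_eq_bot_iff_le_centralizer.mp hcomm ha
    exact (Subgroup.mem_centralizer_iff.mp h b' hb').symm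
  have hc' : ∀ a ∈ L, ∀ b ∈ L, a * (x * b * x⁻¹) = (x * b * x⁻¹) * a :=
    fun a ha b hb => hc a ha _ (hmemLx b hb)
  let π : ↥L →* G := MonoidHom.mk' (fun l => (l : G) * (x * (l : G) * x⁻¹)) (by
    intro a b
    show ((a * b : L) : G) * (x * ((a * b : L) : G) * x⁻¹) = (a : G) * (x * a * x⁻¹) * ((b : G) * (x * b * x⁻¹))
    rw [Subgroup.coe_mul]
    have := hc' b b.2 a a.2
    calc (a : G) * b * (x * ((a : G) * b) * x⁻¹) = a * (b * (x * a * x⁻¹)) * (x * b * x⁻¹) := by group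
      _ = a * ((x * a * x⁻¹) * b) * (x * b * x⁻¹) := by rw [this]
      _ = (a : G) * (x * a * x⁻¹) * ((b : G) * (x * b * x⁻¹)) := by group)
  have hπ : ∀ l : ↥L, π l = (l : G) * (x * (l : G) * x⁻¹) := fun l => rfl
  have hrange_cent : π.range ≤ Subgroup.centralizer ({x} : Set G) := by
    rintro _ ⟨l, rfl⟩
    rw [Subgroup.mem_centralizer_iff]
    intro w hw
    rw [Set.mem_singleton_iff] at hw
    subst hw
    rw [hπ]
    have := hc' l l.2 l l.2
    calc w * ((l : G) * (w * l * w⁻¹)) = (w * l * w⁻¹) * ((w * w) * l * w⁻¹) := by group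
      _ = (w * l * w⁻¹) * l * w⁻¹ := by rw [hxx, one_mul]; group
      _ = ((l : G) * (w * l * w⁻¹)) * w⁻¹ := by rw [this]
      _ = (l : G) * (w * l * w⁻¹) * w := by rw [hxi]
  have hker : π.ker ≤ Subgroup.center ↥L := by
    intro l hl
    rw [MonoidHom.mem_ker, hπ] at hl
    -- l = (x l x⁻¹)⁻¹ ∈ Lx
    have hlLx : (l : G) ∈ Lx := by
      have : (l : G) = (x * (l : G) * x⁻¹)⁻¹ := eq_inv_of_mul_eq_one_left hl
      rw [this]
      exact Lx.inv_mem (hmemLx l l.2)
    rw [Subgroup.mem_center_iff]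
    intro a
    apply Subtype.ext
    rw [Subgroup.coe_mul, Subgroup.coe_mul]
    exact hc a a.2 l hlLx
  -- L is perfect as a group
  have hperf' : commutator ↥L = ⊤ := by
    apply Subgroup.map_injective L.subtype_injective
    rw [Subgroup.map_subtype_commutator, hperf, ← MonoidHom.range_eq_map, Subgroup.range_subtype]
  set M := L ⊔ Lx with hM
  set D₀ := M ⊓ Subgroup.centralizer ({x} : Set G) with hD₀
  have hrange_M : π.range ≤ M := by
    rintro _ ⟨l, rfl⟩
    rw [hπ]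
    exact M.mul_mem ((le_sup_left : L ≤ M) l.2) ((le_sup_right : Lx ≤ M) (hmemLx l l.2))
  have hrange_D₀ : π.range ≤ D₀ := le_inf hrange_M hrange_cent
  refine ⟨π, hπ, hker, hrange_cent, ?_⟩
  apply le_antisymm
  · -- ⁅D₀, D₀⁆ ≤ range
    -- decomposition
    have hdec : ∀ m ∈ D₀, ∃ c : G, ∃ b : ↥L, c ∈ L ∧ c ∈ Lx ∧ m = c * π b := by
      rintro m ⟨hmM, hmx⟩
      have hLxN : Lx ≤ Subgroup.normalizer ((L : Subgroup G) : Set G) := by
        intro b' hb'
        rw [Subgroup.mem_set_normalizer_iff]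
        intro a
        constructor
        · intro ha
          have : b' * a * b'⁻¹ = a := by
            rw [← hc a ha b' hb']; group
          rw [this]; exact ha
        · intro ha
          have h1 := hc _ ha b' hb'
          have : a = b' * a * b'⁻¹ := by
            calc a = b'⁻¹ * ((b' * a * b'⁻¹) * b') := by group
              _ = b'⁻¹ * (b' * (b' * a * b'⁻¹)) := by rw [h1]
              _ = b' * a * b'⁻¹ := by group
          rw [this]; exact ha
      have hmem : m ∈ ((L ⊔ Lx : Subgroup G) : Set G) := hmM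
      rw [Subgroup.coe_mul_of_right_le_normalizer_left L Lx hLxN] at hmem
      obtain ⟨a, ha, b', hb', rfl⟩ := Set.mem_mul.mp hmem
      obtain ⟨b, hb, rfl⟩ := hb'
      have hb'' : x * b * x⁻¹ ∈ Lx := hmemLx b hb
      have hfix : x * (a * (x * b * x⁻¹)) * x⁻¹ = a * (x * b * x⁻¹) := by
        have := Subgroup.mem_centralizer_iff.mp hmx x (Set.mem_singleton x)
        simp only [MulEquiv.coe_toMonoidHom, MulAut.conj_apply] at this
        rw [this]; group
      -- (x a x⁻¹) * b = a * (x b x⁻¹)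
      have h1 : (x * a * x⁻¹) * b = a * (x * b * x⁻¹) := by
        rw [← hfix]
        calc x * a * x⁻¹ * b = x * a * x⁻¹ * ((x * x) * b * (x⁻¹ * x⁻¹)) := by
              rw [hxi, hxx]; group
          _ = x * (a * (x * b * x⁻¹)) * x⁻¹ := by group
      -- c = b⁻¹ a
      have hcL : b⁻¹ * a ∈ L := L.mul_mem (L.inv_mem hb) ha
      have hcLx : b⁻¹ * a ∈ Lx := by
        have h2 : b⁻¹ * a = x * (a * b⁻¹) * x⁻¹ := by
          have h3 := hc' b hb a ha
          calc b⁻¹ * a = b⁻¹ * (a * (x * b * x⁻¹)) * (x * b * x⁻¹)⁻¹ := by group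
            _ = b⁻¹ * ((x * a * x⁻¹) * b) * (x * b * x⁻¹)⁻¹ := by rw [h1]
            _ = b⁻¹ * (b * (x * a * x⁻¹)) * (x * b * x⁻¹)⁻¹ := by rw [h3]
            _ = x * (a * b⁻¹) * x⁻¹ := by group
        rw [h2]
        exact hmemLx _ (L.mul_mem ha (L.inv_mem hb))
      refine ⟨b⁻¹ * a, ⟨b, hb⟩, hcL, hcLx, ?_⟩
      rw [hπ]
      show a * (x * b * x⁻¹) = b⁻¹ * a * (b * (x * b * x⁻¹))
      have h4 := hc b hb _ hcLx
      calc a * (x * b * x⁻¹) = (b * (b⁻¹ * a)) * (x * b * x⁻¹) := by group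
        _ = ((b⁻¹ * a) * b) * (x * b * x⁻¹) := by rw [h4]
        _ = b⁻¹ * a * (b * (x * b * x⁻¹)) := by group
    have hcentral : ∀ c : G, c ∈ L → c ∈ Lx → ∀ m ∈ M, c * m = m * c := by
      intro c hcL hcLx m hm
      have hle : M ≤ Subgroup.centralizer ({c} : Set G) := by
        rw [hM]
        apply sup_le
        · intro a ha
          rw [Subgroup.mem_centralizer_iff]
          intro w hw
          rw [Set.mem_singleton_iff] at hw
          subst hw
          exact (hc a ha w hcLx).symm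
        · intro b' hb'
          rw [Subgroup.mem_centralizer_iff]
          intro w hw
          rw [Set.mem_singleton_iff] at hw
          subst hw
          exact hc w hcL b' hb'
      exact Subgroup.mem_centralizer_iff.mp (hle hm) c (Set.mem_singleton c)
    rw [Subgroup.commutator_le]
    intro m₁ hm₁ m₂ hm₂
    obtain ⟨c₁, b₁, hc₁L, hc₁Lx, rfl⟩ := hdec m₁ hm₁
    obtain ⟨c₂, b₂, hc₂L, hc₂Lx, rfl⟩ := hdec m₂ hm₂
    have hd₁ : π b₁ ∈ M := hrange_M ⟨b₁, rfl⟩
    have hd₂ : π b₂ ∈ M := hrange_M ⟨b₂, rfl⟩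
    rw [comm_left (hcentral c₁ hc₁L hc₁Lx _ hd₁) (hcentral c₁ hc₁L hc₁Lx _ hm₂.1),
      comm_right (hcentral c₂ hc₂L hc₂Lx _ hd₁) (hcentral c₂ hc₂L hc₂Lx _ hd₂),
      ← map_commutatorElement]
    exact ⟨_, rfl⟩
  · have h1 : π.range = ⁅π.range, π.range⁆ := by
      conv_lhs => rw [MonoidHom.range_eq_map, ← hperf', commutator_def, Subgroup.map_commutator,
        ← MonoidHom.range_eq_map]
    rw [h1]
    exact Subgroup.commutator_mono hrange_D₀ hrange_D₀

end Cfsg.Agent.S1314
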