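import Mathlib
import Cfsg.Statements.S1316
import Cfsg.Agent.Lib.Helper3.FStar2

set_option autoImplicit false
open Cfsg
open Cfsg.Agent.Lib.Helper3
open scoped commutatorElement

namespace Cfsg.Agent.S1316

variable {G : Type*} [Group G]

/-- derived series of a subgroup, computed inside `G` -/
lemma map_derivedSeries_succ (W : Subgroup G) (n : ℕ) :
    (derivedSeries ↥W (n + 1)).map W.subtype =
      ⁅(derivedSeries ↥W n).map W.subtype, (derivedSeries ↥W n).map W.subtype⁆ := by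
  rw [derivedSeries_succ, Subgroup.map_commutator]

lemma map_derivedSeries_zero (W : Subgroup G) : (derivedSeries ↥W 0).map W.subtype = W := by
  rw [derivedSeries_zero, ← MonoidHom.range_eq_map, Subgroup.range_subtype]

theorem result {X : Type*} [Group X] [Finite X] : (⨅ n : ℕ, (derivedSeries ↥(Cfsg.generalizedFittingSubgroup X) n).map (Cfsg.generalizedFittingSubgroup X).subtype) = Cfsg.layer X := by
  set W := Cfsg.generalizedFittingSubgroup X with hW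
  set E := Cfsg.layer X with hE
  set F := Cfsg.fittingSubgroup X with hF
  have hFn : F.Normal := fitting_normal
  have hEF : ∀ e ∈ E, ∀ f ∈ F, e * f = f * e := fun e he f hf =>
    (Subgroup.mem_centralizer_iff.mp (layer_le_centralizer_fitting he) f hf).symm
  -- lower bound
  have hlow : ∀ n, E ≤ (derivedSeries ↥W n).map W.subtype := by
    intro n
    induction n with
    | zero => rw [map_derivedSeries_zero]; exact le_sup_left
    | succ k ih =>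
      rw [map_derivedSeries_succ]
      calc E = ⁅E, E⁆ := layer_perfect.symm
        _ ≤ _ := Subgroup.commutator_mono ih ih
  -- upper bound
  have hup : ∀ n, (derivedSeries ↥W n).map W.subtype ≤ E ⊔ (derivedSeries ↥F n).map F.subtype := by
    intro n
    induction n with
    | zero => rw [map_derivedSeries_zero, map_derivedSeries_zero]; exact le_rfl
    | succ k ih =>
      rw [map_derivedSeries_succ, map_derivedSeries_succ]
      set Fk := (derivedSeries ↥F k).map F.subtype with hFk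
      have hFkF : Fk ≤ F := Subgroup.map_subtype_le _
      refine (Subgroup.commutator_mono ih ih).trans ?_
      rw [Subgroup.commutator_le]
      intro a ha b hb
      obtain ⟨e₁, he₁, f₁, hf₁, rfl⟩ := Subgroup.mem_sup_of_normal_left.mp ha
      obtain ⟨e₂, he₂, f₂, hf₂, rfl⟩ := Subgroup.mem_sup_of_normal_left.mp hb
      have c1 : f₁ * e₂ = e₂ * f₁ := (hEF e₂ he₂ f₁ (hFkF hf₁)).symm
      have c2 : f₂ * e₁ = e₁ * f₂ := (hEF e₁ he₁ f₂ (hFkF hf₂)).symm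
      have c3 : f₁ * e₁ = e₁ * f₁ := (hEF e₁ he₁ f₁ (hFkF hf₁)).symm
      have c4 : f₂ * e₂ = e₂ * f₂ := (hEF e₂ he₂ f₂ (hFkF hf₂)).symm
      have key : ⁅e₁ * f₁, e₂ * f₂⁆ = ⁅e₁, e₂⁆ * ⁅f₁, f₂⁆ := by
        simp only [commutatorElement_def, mul_inv_rev]
        have c1' : f₁ * e₂⁻¹ = e₂⁻¹ * f₁ := by
          calc f₁ * e₂⁻¹ = e₂⁻¹ * (e₂ * f₁) * e₂⁻¹ := by group
            _ = e₂⁻¹ * (f₁ * e₂) * e₂⁻¹ := by rw [c1]
            _ = e₂⁻¹ * f₁ := by group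
        have c3' : f₁⁻¹ * e₁⁻¹ = e₁⁻¹ * f₁⁻¹ := by
          calc f₁⁻¹ * e₁⁻¹ = (e₁ * f₁)⁻¹ := by group
            _ = (f₁ * e₁)⁻¹ := by rw [c3]
            _ = e₁⁻¹ * f₁⁻¹ := by group
        have c2' : f₂ * e₁⁻¹ = e₁⁻¹ * f₂ := by
          calc f₂ * e₁⁻¹ = e₁⁻¹ * (e₁ * f₂) * e₁⁻¹ := by group
            _ = e₁⁻¹ * (f₂ * e₁) * e₁⁻¹ := by rw [c2]
            _ = e₁⁻¹ * f₂ := by group
        have c4' : f₂⁻¹ * e₂⁻¹ = e₂⁻¹ * f₂⁻¹ := by
          calc f₂⁻¹ * e₂⁻¹ = (e₂ * f₂)⁻¹ := by group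
            _ = (f₂ * e₂)⁻¹ := by rw [c4]
            _ = e₂⁻¹ * f₂⁻¹ := by group
        have c5 : f₁⁻¹ * e₂⁻¹ = e₂⁻¹ * f₁⁻¹ := by
          calc f₁⁻¹ * e₂⁻¹ = (e₂ * f₁)⁻¹ := by group
            _ = (f₁ * e₂)⁻¹ := by rw [c1]
            _ = e₂⁻¹ * f₁⁻¹ := by group
        calc e₁ * f₁ * (e₂ * f₂) * (f₁⁻¹ * e₁⁻¹) * (f₂⁻¹ * e₂⁻¹)
            = e₁ * (f₁ * e₂) * f₂ * (f₁⁻¹ * e₁⁻¹) * (f₂⁻¹ * e₂⁻¹) := by group
          _ = e₁ * (e₂ * f₁) * f₂ * (e₁⁻¹ * f₁⁻¹) * (e₂⁻¹ * f₂⁻¹) := by rw [c1, c3', c4']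
          _ = e₁ * e₂ * f₁ * (f₂ * e₁⁻¹) * (f₁⁻¹ * e₂⁻¹) * f₂⁻¹ := by group
          _ = e₁ * e₂ * f₁ * (e₁⁻¹ * f₂) * (e₂⁻¹ * f₁⁻¹) * f₂⁻¹ := by rw [c2', c5]
          _ = e₁ * e₂ * (f₁ * e₁⁻¹) * (f₂ * e₂⁻¹) * f₁⁻¹ * f₂⁻¹ := by group
          _ = e₁ * e₂ * (e₁⁻¹ * f₁) * (e₂⁻¹ * f₂) * f₁⁻¹ * f₂⁻¹ := by
              have c6 : f₁ * e₁⁻¹ = e₁⁻¹ * f₁ := by
                calc f₁ * e₁⁻¹ = e₁⁻¹ * (e₁ * f₁) * e₁⁻¹ := by group
                  _ = e₁⁻¹ * (f₁ * e₁) * e₁⁻¹ := by rw [c3]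
                  _ = e₁⁻¹ * f₁ := by group
              have c7 : f₂ * e₂⁻¹ = e₂⁻¹ * f₂ := by
                calc f₂ * e₂⁻¹ = e₂⁻¹ * (e₂ * f₂) * e₂⁻¹ := by group
                  _ = e₂⁻¹ * (f₂ * e₂) * e₂⁻¹ := by rw [c4]
                  _ = e₂⁻¹ * f₂ := by group
              rw [c6, c7]
          _ = e₁ * e₂ * e₁⁻¹ * (f₁ * e₂⁻¹) * f₂ * f₁⁻¹ * f₂⁻¹ := by group
          _ = e₁ * e₂ * e₁⁻¹ * (e₂⁻¹ * f₁) * f₂ * f₁⁻¹ * f₂⁻¹ := by rw [c1']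
          _ = e₁ * e₂ * e₁⁻¹ * e₂⁻¹ * (f₁ * f₂ * f₁⁻¹ * f₂⁻¹) := by group
      rw [key]
      apply Subgroup.mul_mem_sup
      · have := Subgroup.commutator_mem_commutator he₁ he₂
        rw [layer_perfect] at this
        exact this
      · exact Subgroup.commutator_mem_commutator hf₁ hf₂
  have hFs : Group.IsSolvable ↥F := fitting_solvable
  obtain ⟨N, hNbot⟩ := hFs.solvable
  apply le_antisymm
  · calc (⨅ n : ℕ, (derivedSeries ↥W n).map W.subtype) ≤ (derivedSeries ↥W N).map W.subtype :=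
        iInf_le _ N
      _ ≤ E ⊔ (derivedSeries ↥F N).map F.subtype := hup N
      _ = E := by rw [hNbot, Subgroup.map_bot, sup_bot_eq]
  · exact le_iInf hlow

end Cfsg.Agent.S1316
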