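import Mathlib
import Cfsg.Statements.S1317
import Cfsg.Agent.Lib.Helper3.Layer

set_option autoImplicit false
open Cfsg
open Cfsg.Agent.Lib.Helper3

namespace Cfsg.Agent.S1317

theorem result {X : Type*} [Group X] [Finite X] : (Subgroup.center ↥(Cfsg.layer X)).map (Cfsg.layer X).subtype = Cfsg.fittingSubgroup X ⊓ Cfsg.layer X := by
  apply le_antisymm
  · apply le_inf
    · apply le_sSup
      refine ⟨inferInstance, ?_⟩
      have e : ↥(Subgroup.center ↥(Cfsg.layer X)) ≃*
          ↥((Subgroup.center ↥(Cfsg.layer X)).map (Cfsg.layer X).subtype) :=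
        (Subgroup.center ↥(Cfsg.layer X)).equivMapOfInjective _ (Subgroup.subtype_injective _)
      have hn : Group.IsNilpotent ↥(Subgroup.center ↥(Cfsg.layer X)) := by
        apply isNilpotent_of_comm
        intro a b
        apply Subtype.ext
        exact Subgroup.mem_center_iff.mp b.2 a
      exact Group.nilpotent_of_mulEquiv e
    · exact Subgroup.map_subtype_le _
  · rintro x ⟨hxF, hxE⟩
    refine ⟨⟨x, hxE⟩, ?_, rfl⟩
    show (⟨x, hxE⟩ : ↥(Cfsg.layer X)) ∈ Subgroup.center ↥(Cfsg.layer X)
    rw [Subgroup.mem_center_iff]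
    intro g
    apply Subtype.ext
    have := fitting_le_centralizer_layer hxF
    rw [Subgroup.mem_centralizer_iff] at this
    exact this g.1 g.2

end Cfsg.Agent.S1317
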