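import Mathlib
import Cfsg.Statements.S1318
import Cfsg.Agent.Lib.Helper3.QN
import Cfsg.Agent.Lib.Helper3.NormAux

set_option autoImplicit false
open Cfsg
open Cfsg.Agent.Lib.Helper3

namespace Cfsg.Agent.S1318

/-- Let X be finite and S ≤ F*(X) a subgroup subnormal in F*(X). Then F(S) = F(X) ∩ S (inside X) and S = F(S)E(S). -/
theorem result {X : Type*} [Group X] [Finite X] (S : Subgroup X) (hS : S ≤ Cfsg.generalizedFittingSubgroup X) (hsn : (S.subgroupOf (Cfsg.generalizedFittingSubgroup X)).IsSubnormal) : (Cfsg.fittingSubgroup ↥S).map S.subtype = Cfsg.fittingSubgroup X ⊓ S ∧ Cfsg.fittingSubgroup ↥S ⊔ Cfsg.layer ↥S = ⊤ := by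
  set W := Cfsg.generalizedFittingSubgroup X with hW
  have hWn : W.Normal := by
    have : W.Characteristic := genFitting_characteristic
    infer_instance
  have hSsn : S.IsSubnormal := Subgroup.IsSubnormal.trans hS hsn hWn.isSubnormal
  have hFn : (Cfsg.fittingSubgroup X).Normal := fitting_normal
  have hFnil : Group.IsNilpotent ↥(Cfsg.fittingSubgroup X) := Cfsg.Agent.S0008.result
  constructor
  · apply le_antisymm
    · exact le_inf (fitting_subnormal_le hSsn) (Subgroup.map_subtype_le _)
    · apply le_fitting_map inf_le_right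
      · intro g hg
        apply mem_normalizer_of_conj_mem
        · rintro x ⟨hx1, hx2⟩
          exact ⟨hFn.conj_mem x hx1 g, S.mul_mem (S.mul_mem hg hx2) (S.inv_mem hg)⟩
        · rintro x ⟨hx1, hx2⟩
          refine ⟨?_, S.mul_mem (S.mul_mem (S.inv_mem hg) hx2) hg⟩
          have := hFn.conj_mem x hx1 g⁻¹
          simpa using this
      · exact isNilpotent_of_le inf_le_left hFnil
  · have h1 : QN ↥(S.subgroupOf W) := QN.subnormal QN.genFitting hsn
    exact h1.of_equiv (Subgroup.subgroupOfEquivOfLe hS)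

end Cfsg.Agent.S1318
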