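import Mathlib
import Cfsg.Statements.S1319
import Cfsg.Agent.Lib.Helper3.Layer

set_option autoImplicit false
open Cfsg
open Cfsg.Agent.Lib.Helper3

namespace Cfsg.Agent.S1319

theorem result {X : Type*} [Group X] [Finite X] (A : Subgroup X) (hsn : A.IsSubnormal) (hA : Cfsg.layer ↥A = ⊤) : A ≤ Cfsg.layer X ∧ (A.subgroupOf (Cfsg.layer X)).Normal := by
  constructor
  · have h1 : A = (Cfsg.layer ↥A).map A.subtype := by
      rw [hA, ← MonoidHom.range_eq_map, Subgroup.range_subtype]
    rw [h1, Subgroup.map_le_iff_le_comap, layer_le_iff]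
    intro K hK
    rw [← Subgroup.map_le_iff_le_comap]
    apply component_le_layer
    exact ⟨hK.1.trans' hsn,
      isQuasisimple_of_mulEquiv (K.equivMapOfInjective _ A.subtype_injective) hK.2⟩
  · apply Subgroup.normal_subgroupOf_of_le_normalizer
    rw [layer_le_iff]
    intro L hL
    rcases component_subnormal hL hsn with h | h
    · exact h.trans Subgroup.le_normalizer
    · exact (Subgroup.commutator_eq_bot_iff_le_centralizer.mp h).trans
        (Subgroup.centralizer_le_normalizer _)

end Cfsg.Agent.S1319
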