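import Mathlib
import Cfsg.Statements.S1320
import Cfsg.Agent.Lib.Helper3.QN
import Cfsg.Agent.Lib.Helper3.NormAux

set_option autoImplicit false
open Cfsg
open Cfsg.Agent.Lib.Helper3

namespace Cfsg.Agent.S1320

/-- Let B be a normal subgroup of the finite group A. Then F*(A) ∩ B = F*(B). -/
theorem result {A : Type*} [Group A] [Finite A] (B : Subgroup A) [B.Normal] : Cfsg.generalizedFittingSubgroup A ⊓ B = (Cfsg.generalizedFittingSubgroup ↥B).map B.subtype := by
  have hBn : B.Normal := inferInstance
  set W := Cfsg.generalizedFittingSubgroup A with hW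
  have hWn : W.Normal := by
    have : W.Characteristic := genFitting_characteristic
    infer_instance
  apply le_antisymm
  · set S := W ⊓ B with hS
    have hSn : S.Normal := inferInstance
    have hSW : S ≤ W := inf_le_left
    have hSB : S ≤ B := inf_le_right
    -- S is quasinilpotent
    have h1 : QN ↥(S.subgroupOf W) := by
      have : (S.subgroupOf W).Normal := hSn.subgroupOf W
      exact QN.normal QN.genFitting (S.subgroupOf W)
    have h2 : QN ↥(S.subgroupOf B) :=
      (h1.of_equiv (Subgroup.subgroupOfEquivOfLe hSW)).of_equiv (Subgroup.subgroupOfEquivOfLe hSB).symm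
    have h3 : (S.subgroupOf B).IsSubnormal := (hSn.subgroupOf B).isSubnormal
    have h4 := genFitting_subnormal_le h3
    have h5 : Cfsg.generalizedFittingSubgroup ↥(S.subgroupOf B) = ⊤ := by
      unfold Cfsg.generalizedFittingSubgroup
      rw [sup_comm]
      exact h2
    rw [h5, ← MonoidHom.range_eq_map, Subgroup.range_subtype] at h4
    intro x hx
    exact ⟨⟨x, hSB hx⟩, h4 (show (⟨x, hSB hx⟩ : B) ∈ S.subgroupOf B from hx), rfl⟩
  · exact le_inf (genFitting_subnormal_le hBn.isSubnormal) (Subgroup.map_subtype_le _)

end Cfsg.Agent.S1320
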