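import Mathlib
import Cfsg.Statements.S1321
import Cfsg.Agent.Lib.Helper3.Layer

set_option autoImplicit false
open Cfsg
open Cfsg.Agent.Lib.Helper3
open scoped commutatorElement

namespace Cfsg.Agent.S1321

variable {G : Type*} [Group G]

/-- `A` normalizes `⁅A, B⁆`. -/
lemma le_normalizer_commutator (A B : Subgroup G) :
    A ≤ Subgroup.normalizer ((⁅A, B⁆ : Subgroup G) : Set G) := by
  have key : ∀ a ∈ A, (⁅A, B⁆).map (MulAut.conj a).toMonoidHom ≤ ⁅A, B⁆ := by
    intro a ha
    rw [Subgroup.commutator_def, MonoidHom.map_closure, Subgroup.closure_le]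
    rintro _ ⟨_, ⟨x, hx, y, hy, rfl⟩, rfl⟩
    have e : (MulAut.conj a).toMonoidHom ⁅x, y⁆ = ⁅a * x, y⁆ * ⁅a, y⁆⁻¹ := by
      simp only [MulEquiv.coe_toMonoidHom, MulAut.conj_apply, commutatorElement_def]
      group
    rw [e]
    rw [← Subgroup.commutator_def]
    exact Subgroup.mul_mem _ (Subgroup.commutator_mem_commutator (A.mul_mem ha hx) hy)
      (Subgroup.inv_mem _ (Subgroup.commutator_mem_commutator ha hy))
  intro a ha
  rw [Subgroup.mem_normalizer_iff_map_conj_eq]
  apply le_antisymm (key a ha)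
  intro x hx
  have := key a⁻¹ (A.inv_mem ha) ⟨x, hx, rfl⟩
  refine ⟨_, this, ?_⟩
  simp only [MulEquiv.coe_toMonoidHom, MulAut.conj_apply, inv_inv]
  group

theorem result {X : Type*} [Group X] [Finite X] (U : Subgroup X) : Cfsg.layer X = (Cfsg.layer X ⊓ Subgroup.centralizer (U : Set X)) ⊔ ⁅Cfsg.layer X, U⁆ ∧ ⁅Cfsg.layer X, U⁆ ≤ Cfsg.layer X := by
  have h2 : ⁅Cfsg.layer X, U⁆ ≤ Cfsg.layer X := Subgroup.commutator_le_left _ _
  refine ⟨?_, h2⟩
  apply le_antisymm
  · rw [layer_le_iff]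
    intro L hL
    have hperf := component_perfect hL
    rcases component_le_or_comm hL (le_normalizer_commutator L U) with h | h
    · exact (h.trans (Subgroup.commutator_mono (component_le_layer hL) le_rfl)).trans le_sup_right
    · have h3 : ⁅⁅L, U⁆, L⁆ = ⊥ := by rw [Subgroup.commutator_comm]; exact h
      have h4 : ⁅⁅U, L⁆, L⁆ = ⊥ := by rw [Subgroup.commutator_comm U L]; exact h3
      have h5 : ⁅⁅L, L⁆, U⁆ = ⊥ := Subgroup.commutator_commutator_eq_bot_of_rotate h3 h4
      rw [hperf, Subgroup.commutator_eq_bot_iff_le_centralizer] at h5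
      exact (le_inf (component_le_layer hL) h5).trans le_sup_left
  · exact sup_le inf_le_left h2

end Cfsg.Agent.S1321
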