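import Cfsg.Statements.S1324
import Cfsg.Agent.Lib.Helper5.CopGen3

set_option autoImplicit false
open Cfsg

namespace Cfsg.Agent.S1324

theorem result {H : Type*} [Group H] [Finite H] (p : ℕ) [Fact p.Prime] (A X : Subgroup H) (hA : Cfsg.IsElementaryAbelian p A) (hA2 : p ^ 2 ≤ Nat.card ↥A) (hX : ¬ p ∣ Nat.card ↥X) (hAX : A ≤ Subgroup.normalizer (X : Set H)) : X = ⨆ B : {B : Subgroup H // B ≤ A ∧ B.relIndex A ≤ p}, X ⊓ Subgroup.centralizer ((B : Subgroup H) : Set H) := by
  apply le_antisymm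
  · haveI := hA.1
    have hcommA : ∀ a ∈ A, ∀ b ∈ A, a * b = b * a := by
      intro a ha b hb
      have := mul_comm' (⟨a, ha⟩ : ↥A) ⟨b, hb⟩
      exact congrArg Subtype.val this
    have h := Cfsg.Agent.Lib.Helper5.le_iSup_hyperplane p A X hcommA hA.2 hX hAX _ ⊥ bot_le rfl
    have e : X ⊓ Subgroup.centralizer (((⊥ : Subgroup H) : Subgroup H) : Set H) = X := by
      rw [inf_eq_left]
      intro x _
      rw [Subgroup.mem_centralizer_iff]
      intro z hz
      have : z = 1 := Subgroup.mem_bot.mp hz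
      rw [this, one_mul, mul_one]
    rw [e] at h
    exact h
  · exact iSup_le fun _ => inf_le_left

end Cfsg.Agent.S1324
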