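import Mathlib
import Cfsg.Statements.S1326
import Cfsg.Agent.Lib.Helper3.FStar

set_option autoImplicit false
open Cfsg
open Cfsg.Agent.Lib.Helper3

namespace Cfsg.Agent.S1326

theorem result {X : Type*} [Group X] [Finite X] : Subgroup.centralizer (Cfsg.fittingSubgroup X : Set X) ≤ Cfsg.fittingSubgroup X ↔ Cfsg.layer X = ⊥ := by
  have hFn : (Cfsg.fittingSubgroup X).Normal := Subgroup.sSup_normal _ (fun _ h => h.1)
  constructor
  · intro h
    rw [eq_bot_iff, layer_le_iff]
    intro L hL
    -- L ≤ C(F) ≤ F, and L centralizes F, so L abelian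
    have hLC : L ≤ Subgroup.centralizer (Cfsg.fittingSubgroup X : Set X) :=
      (component_le_layer hL).trans layer_le_centralizer_fitting
    have hLF : L ≤ Cfsg.fittingSubgroup X := hLC.trans h
    have h1 : ⁅L, L⁆ = ⊥ := by
      rw [Subgroup.commutator_eq_bot_iff_le_centralizer]
      exact hLC.trans (Subgroup.centralizer_le hLF)
    rw [component_perfect hL] at h1
    rw [h1]
  · intro hE
    by_contra hC
    obtain ⟨L, hL, -⟩ := exists_component_le_centralizer (Cfsg.fittingSubgroup X) le_rfl hC
    have h1 : L ≤ ⊥ := hE ▸ component_le_layer hL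
    have := component_nontrivial hL
    rw [Subgroup.nontrivial_iff_ne_bot] at this
    exact this (le_bot_iff.mp h1)

end Cfsg.Agent.S1326
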