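import Mathlib
import Cfsg.Statements.S1328
import Cfsg.Agent.Lib.Helper3.CoreNorm4
import Cfsg.Agent.Lib.Helper3.RelComp

set_option autoImplicit false
open Cfsg
open Cfsg.Agent.Lib.Helper3
open Cfsg.Agent.Lib.Helper1
open scoped commutatorElement

namespace Cfsg.Agent.S1328

/-- squares of elements of `H⟨t⟩` lie in `H` when `t² = 1` normalizes `H` -/
lemma sq_mem {G : Type*} [Group G] {H : Subgroup G} {t : G} (ht2 : t ^ 2 = 1)
    (htH : t ∈ Subgroup.normalizer (H : Set G)) {m : G} (hm : m ∈ H ⊔ Subgroup.zpowers t) :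
    m ^ 2 ∈ H := by
  have hzN : Subgroup.zpowers t ≤ Subgroup.normalizer (H : Set G) := Subgroup.zpowers_le.mpr htH
  rw [sup_comm] at hm
  have h1 : m ∈ ((Subgroup.zpowers t ⊔ H : Subgroup G) : Set G) := hm
  rw [Subgroup.coe_mul_of_left_le_normalizer_right (Subgroup.zpowers t) H hzN, Set.mem_mul] at h1
  obtain ⟨z, hz, h, hh, rfl⟩ := h1
  have hz : z ∈ Subgroup.zpowers t := hz
  have hh : h ∈ H := hh
  obtain ⟨k, rfl⟩ := Subgroup.mem_zpowers_iff.mp hz
  have hz2 : (t ^ k) ^ 2 = 1 := by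
    rw [← zpow_natCast, ← zpow_mul, mul_comm, zpow_mul, zpow_natCast, ht2, one_zpow]
  have e : (t ^ k * h) ^ 2 = (t ^ k) ^ 2 * ((t ^ k)⁻¹ * h * (t ^ k)) * h := by
    rw [pow_two, pow_two]; group
  rw [e, hz2, one_mul]
  exact H.mul_mem (conj_inv_mem_of_mem_normalizer' (hzN hz) hh) hh

/-- Let G be finite, H ≤ G with O(H) = 1, t an involution of G normalizing H, and Y a nontrivial subgroup of O(C_H(t)). Then some component E of H is normalized by t and by Y and centralized by neither t nor Y. -/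
theorem result {G : Type*} [Group G] [Finite G] (H : Subgroup G) (hO : Cfsg.oddCore ↥H = ⊥) (t : G) (ht : orderOf t = 2) (htH : t ∈ Subgroup.normalizer (H : Set G)) (Y : Subgroup G) (hY1 : Y ≠ ⊥) (hY : Y ≤ (Cfsg.oddCore ↥(H ⊓ Subgroup.centralizer ({t} : Set G))).map (H ⊓ Subgroup.centralizer ({t} : Set G)).subtype) : ∃ E : Subgroup ↥H, Cfsg.IsComponent E ∧ (E.map H.subtype).map (MulAut.conj t).toMonoidHom = E.map H.subtype ∧ Y ≤ Subgroup.normalizer ((E.map H.subtype : Subgroup G) : Set G) ∧ ¬ (t ∈ Subgroup.centralizer ((E.map H.subtype : Subgroup G) : Set G)) ∧ ¬ (Y ≤ Subgroup.centralizer ((E.map H.subtype : Subgroup G) : Set G)) := by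
  classical
  have : Fact (Nat.Prime 2) := ⟨Nat.prime_two⟩
  set Mg : Subgroup G := H ⊔ Subgroup.zpowers t with hMg
  have ht2 : t ^ 2 = 1 := by rw [← ht]; exact pow_orderOf_eq_one t
  have hzN : Subgroup.zpowers t ≤ Subgroup.normalizer (H : Set G) := Subgroup.zpowers_le.mpr htH
  have hMgN : Mg ≤ Subgroup.normalizer (H : Set G) := sup_le Subgroup.le_normalizer hzN
  have hHM : H ≤ Mg := le_sup_left
  have htM : t ∈ Mg := (le_sup_right : Subgroup.zpowers t ≤ Mg) (Subgroup.mem_zpowers t)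
  have hsq : ∀ m ∈ Mg, m ^ 2 ∈ H := fun m hm => sq_mem ht2 htH hm
  -- (1) the involution in `Mg`
  set x : ↥Mg := ⟨t, htM⟩ with hx
  have hxo : orderOf x = 2 := by rw [← ht]; exact Subgroup.orderOf_mk t htM
  -- (2) `O(Mg) = 1`
  have hO2 : Cfsg.pPrimeCore 2 ↥Mg = ⊥ := by
    set Og := (Cfsg.pPrimeCore 2 ↥Mg).map Mg.subtype with hOg
    have hOgM : Og ≤ Mg := map_pPrimeCore_le 2 Mg
    have hOgc : (Nat.card Og).Coprime 2 := map_pPrimeCore_coprime 2 Mg
    have hOgH : Og ≤ H := by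
      intro o ho
      have h1 : o ^ 2 ∈ H := hsq o (hOgM ho)
      have h2 : (orderOf o).Coprime 2 := orderOf_coprime_of_mem hOgc ho
      obtain ⟨j, hj⟩ := exists_pow_eq_self_of_coprime h2.symm
      rw [← hj]; exact H.pow_mem h1 j
    have hOgn : H ≤ Subgroup.normalizer (Og : Set G) :=
      hHM.trans (le_normalizer_map_pPrimeCore 2 Mg)
    have h3 : Og ≤ (Cfsg.pPrimeCore 2 ↥H).map H.subtype := le_map_pPrimeCore hOgH hOgn hOgc
    have h4 : Cfsg.pPrimeCore 2 ↥H = ⊥ := hO
    rw [h4, Subgroup.map_bot] at h3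
    have h5 : Og = ⊥ := le_bot_iff.mp h3
    exact (Subgroup.map_eq_bot_iff_of_injective _ Mg.subtype_injective).mp h5
  -- (3) `Y` inside `O(C_{Mg}(t))`
  set D : Subgroup G := H ⊓ Subgroup.centralizer ({t} : Set G) with hD
  set Y₀ : Subgroup G := (Cfsg.oddCore ↥D).map D.subtype with hY₀
  have hY₀D : Y₀ ≤ D := map_pPrimeCore_le 2 D
  have hY₀c : (Nat.card Y₀).Coprime 2 := map_pPrimeCore_coprime 2 D
  have hDN : Subgroup.normalizer (D : Set G) ≤ Subgroup.normalizer (Y₀ : Set G) :=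
    normalizer_le_normalizer_map_char D (Cfsg.pPrimeCore 2 ↥D)
  have hY₀M : Y₀ ≤ Mg := hY₀D.trans (inf_le_left.trans hHM)
  set Cx := Subgroup.centralizer ({x} : Set ↥Mg) with hCx
  have hV : Y₀.subgroupOf Mg ≤ (Cfsg.pPrimeCore 2 ↥Cx).map Cx.subtype := by
    apply le_map_pPrimeCore
    · intro v hv
      rw [Subgroup.mem_subgroupOf] at hv
      have h1 : (v : G) ∈ Subgroup.centralizer ({t} : Set G) := (hY₀D hv).2
      rw [hCx, Subgroup.mem_centralizer_iff]
      intro y hy
      rw [Set.mem_singleton_iff] at hy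
      subst hy
      apply Subtype.ext
      exact Subgroup.mem_centralizer_iff.mp h1 t rfl
    · intro c hc
      have hcG : (c : G) ∈ Subgroup.centralizer ({t} : Set G) := by
        rw [Subgroup.mem_centralizer_iff]
        intro y hy
        rw [Set.mem_singleton_iff] at hy
        subst hy
        have := Subgroup.mem_centralizer_iff.mp hc x rfl
        exact congrArg Subtype.val this
      have hcD : (c : G) ∈ Subgroup.normalizer (D : Set G) :=
        normalizer_inf_normalizer_le H _ ⟨hMgN c.2, Subgroup.le_normalizer hcG⟩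
      have hcY : (c : G) ∈ Subgroup.normalizer (Y₀ : Set G) := hDN hcD
      apply mem_normalizer_of_conj_mem
      · intro v hv
        rw [Subgroup.mem_subgroupOf] at hv ⊢
        exact conj_mem_of_mem_normalizer' hcY hv
      · intro v hv
        rw [Subgroup.mem_subgroupOf] at hv ⊢
        exact conj_inv_mem_of_mem_normalizer' hcY hv
    · rw [Nat.card_congr (Subgroup.subgroupOfEquivOfLe hY₀M).toEquiv]; exact hY₀c
  set Y' : Subgroup ↥Mg := Y.subgroupOf Mg with hY'def
  have hY' : Y' ≤ Cfsg.centralizerPPrimeCore 2 x := by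
    intro y hy
    apply hV
    rw [Subgroup.mem_subgroupOf] at hy ⊢
    exact hY hy
  have hYM : Y ≤ Mg := hY.trans hY₀M
  have hY'1 : Y' ≠ ⊥ := by
    intro h
    apply hY1
    rw [hY'def, Subgroup.subgroupOf_eq_bot] at h
    exact h.eq_bot_of_le hYM
  -- (4) the component of `Mg`
  obtain ⟨L, hL, hLx, hYL, hYnC⟩ := exists_component_unbalanced 2 hO2 x hxo Y' hY'1 hY'
  -- (5) it is a component of `H`
  set Lg := L.map Mg.subtype with hLg
  have hLgM : CompIn Lg Mg := (isComponent_iff_compIn_map L).mp hL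
  have hLH' : L ≤ H.subgroupOf Mg := by
    rw [← component_perfect hL, Subgroup.commutator_le]
    intro a _ b _
    rw [Subgroup.mem_subgroupOf]
    have e : ⁅a, b⁆ = (a * b) ^ 2 * (b⁻¹ * (a⁻¹) ^ 2 * b) * (b⁻¹) ^ 2 := by
      rw [commutatorElement_def]; simp only [pow_two]; group
    rw [e]
    simp only [Subgroup.coe_mul, Subgroup.coe_pow, Subgroup.coe_inv]
    refine H.mul_mem (H.mul_mem (hsq _ (Mg.mul_mem a.2 b.2)) ?_) (hsq _ (Mg.inv_mem b.2))
    exact conj_inv_mem_of_mem_normalizer' (hMgN b.2) (hsq _ (Mg.inv_mem a.2))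
  have hLgH : Lg ≤ H := by
    rintro _ ⟨l, hl, rfl⟩
    exact hLH' hl
  have hLgHc : CompIn Lg H := ⟨hLgM.1.of_le hLgH hHM, hLgM.2⟩
  set E : Subgroup ↥H := Lg.subgroupOf H with hEdef
  have hE : Cfsg.IsComponent E := (isComponent_subgroupOf_iff hLgH).mpr hLgHc
  have hEmap : E.map H.subtype = Lg := by
    rw [hEdef, Subgroup.subgroupOf_map_subtype]; exact inf_eq_left.mpr hLgH
  refine ⟨E, hE, ?_⟩
  rw [hEmap]
  -- (6) transport
  have hnorm : ∀ a : ↥Mg, a ∈ Subgroup.normalizer (L : Set ↥Mg) →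
      (a : G) ∈ Subgroup.normalizer (Lg : Set G) := by
    intro a ha
    apply mem_normalizer_of_conj_mem
    · rintro _ ⟨l, hl, rfl⟩
      exact ⟨a * l * a⁻¹, conj_mem_of_mem_normalizer' ha hl, by simp⟩
    · rintro _ ⟨l, hl, rfl⟩
      exact ⟨a⁻¹ * l * a, conj_inv_mem_of_mem_normalizer' ha hl, by simp⟩
  have hxN : x ∈ Subgroup.normalizer (L : Set ↥Mg) := by
    have h := Cfsg.Agent.S1270.le_normalizer_commutator_left (Subgroup.zpowers x) L
    rw [Subgroup.commutator_comm, hLx] at h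
    exact h (Subgroup.mem_zpowers x)
  refine ⟨?_, ?_, ?_, ?_⟩
  · exact Subgroup.mem_normalizer_iff_map_conj_eq.mp (hnorm x hxN)
  · intro y hy
    exact hnorm ⟨y, hYM hy⟩ (hYL (by rw [hY'def, Subgroup.mem_subgroupOf]; exact hy))
  · intro htc
    have h1 : ⁅L, Subgroup.zpowers x⁆ = ⊥ := by
      rw [Subgroup.commutator_eq_bot_iff_le_centralizer]
      intro l hl
      rw [Subgroup.mem_centralizer_iff]
      intro z hz
      obtain ⟨k, rfl⟩ := Subgroup.mem_zpowers_iff.mp hz
      have h1 : Commute x l := by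
        apply Subtype.ext
        exact (Subgroup.mem_centralizer_iff.mp htc (l : G) ⟨l, hl, rfl⟩).symm
      exact (h1.zpow_left k)
    rw [hLx] at h1
    have := component_nontrivial hL
    rw [Subgroup.nontrivial_iff_ne_bot] at this
    exact this h1
  · intro hYc
    apply hYnC
    intro y hy
    rw [Subgroup.mem_centralizer_iff]
    intro l hl
    apply Subtype.ext
    have hyY : (y : G) ∈ Y := by rw [hY'def, Subgroup.mem_subgroupOf] at hy; exact hy
    exact Subgroup.mem_centralizer_iff.mp (hYc hyY) (l : G) ⟨l, hl, rfl⟩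

end Cfsg.Agent.S1328
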