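import Mathlib
import Cfsg.Statements.S1331
import Cfsg.Agent.Lib.Helper3.Signalizer
import Cfsg.Agent.S1324

set_option autoImplicit false
open Cfsg
open Cfsg.Agent.Lib.Helper3

namespace Cfsg.Agent.S1331

lemma exists_hyperplane {G : Type*} [Group G] [Finite G] {p : ℕ} [hp : Fact p.Prime]
    {B : Subgroup G} (hB : IsPGroup p ↥B) (hB2 : p ^ 2 ≤ Nat.card ↥B) :
    ∃ D : Subgroup G, D ≤ B ∧ D.relIndex B = p := by
  obtain ⟨k, hk⟩ := IsPGroup.iff_card.mp hB
  have hk1 : 1 ≤ k := by
    rcases Nat.eq_zero_or_pos k with h0 | h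
    · rw [h0, pow_zero] at hk
      rw [hk] at hB2
      have : 2 ^ 2 ≤ p ^ 2 := Nat.pow_le_pow_left hp.out.two_le 2
      omega
    · exact h
  have hdvd : p ^ (k - 1) ∣ Nat.card ↥B := by
    rw [hk]; exact pow_dvd_pow p (Nat.sub_le k 1)
  obtain ⟨K, hK⟩ := Sylow.exists_subgroup_card_pow_prime p hdvd
  refine ⟨K.map B.subtype, Subgroup.map_subtype_le _, ?_⟩
  have h1 : (K.map B.subtype).subgroupOf B = K :=
    Subgroup.comap_map_eq_self_of_injective B.subtype_injective _
  rw [Subgroup.relIndex, h1]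
  have h2 := K.card_mul_index
  rw [hK, hk] at h2
  have h3 : p ^ k = p ^ (k - 1) * p := by
    rw [← pow_succ]; congr 1; omega
  rw [h3] at h2
  exact Nat.eq_of_mul_eq_mul_left (pow_pos hp.out.pos _) h2

theorem result {G : Type*} [Group G] [Finite G] (p : ℕ) [Fact p.Prime] (A : Subgroup G) (hA : Cfsg.IsElementaryAbelian p A) (hA3 : p ^ 3 ≤ Nat.card ↥A) (θ : G → Subgroup G) (hθ : Cfsg.IsSolvableSignalizerFunctor p A θ) (X : Subgroup G) (hX : X ∈ Cfsg.signalizerFamily p A θ) (B : Subgroup G) (hB : B ≤ A) (hB2 : p ^ 2 ≤ Nat.card ↥B) : X = ⨆ D : {D : Subgroup G // D ≤ B ∧ D.relIndex B = p}, X ⊓ Cfsg.signalizerInf (D : Subgroup G) θ := by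
  have hpp : p.Prime := Fact.out
  have hBea : Cfsg.IsElementaryAbelian p B := by
    refine ⟨⟨⟨fun a b => ?_⟩⟩, fun b hb => hA.2 b (hB hb)⟩
    have hc := hA.1
    have h := hc.is_comm.comm (⟨a, hB a.2⟩ : A) ⟨b, hB b.2⟩
    exact Subtype.ext (congrArg (fun x : ↥A => (x : G)) h)
  have hBp : IsPGroup p ↥B := by
    intro c
    refine ⟨1, ?_⟩
    apply Subtype.ext
    simp only [pow_one, Subgroup.coe_pow, Subgroup.coe_one]
    exact hBea.2 _ c.2
  have hBX : B ≤ Subgroup.normalizer (X : Set G) := hB.trans (family_ainv hX).le_normalizer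
  have h1324 := Cfsg.Agent.S1324.result p B X hBea hB2 hX.2.1 hBX
  -- centralizers of D land in the signalizer intersection
  have key : ∀ D : Subgroup G, D ≤ B →
      X ⊓ Subgroup.centralizer (D : Set G) ≤ X ⊓ Cfsg.signalizerInf D θ := by
    intro D hDB
    refine le_inf inf_le_left ?_
    rintro x ⟨hxX, hxC⟩
    have hxC' : x ∈ Subgroup.centralizer (D : Set G) := hxC
    rw [mem_signalizerInf_iff]
    intro d hd hd1
    apply hX.2.2.2 d (hB (hDB hd)) hd1
    refine ⟨hxX, ?_⟩
    show x ∈ Subgroup.centralizer ({d} : Set G)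
    rw [Subgroup.mem_centralizer_iff]
    intro z hz
    rw [Set.mem_singleton_iff] at hz
    rw [hz]
    exact Subgroup.mem_centralizer_iff.mp hxC' d hd
  apply le_antisymm
  · conv_lhs => rw [h1324]
    apply iSup_le
    rintro ⟨D, hDB, hDi⟩
    by_cases hDp : D.relIndex B = p
    · exact (key D hDB).trans
        (le_iSup (fun D : {D : Subgroup G // D ≤ B ∧ D.relIndex B = p} =>
          X ⊓ Cfsg.signalizerInf (D : Subgroup G) θ) ⟨D, hDB, hDp⟩)
    · -- relIndex is 1, so D = B
      obtain ⟨k, hk⟩ := IsPGroup.iff_card.mp hBp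
      have h2 : D.relIndex B ∣ p ^ k := by rw [← hk]; exact Subgroup.relIndex_dvd_card D B
      obtain ⟨j, hj, hjk⟩ := (Nat.dvd_prime_pow hpp).mp h2
      have hj0 : j = 0 := by
        rcases Nat.eq_zero_or_pos j with h0 | hpos
        · exact h0
        · exfalso
          rcases Nat.lt_or_ge 1 j with h1 | h1
          · have : p ^ 2 ≤ p ^ j := Nat.pow_le_pow_right hpp.pos h1
            rw [← hjk] at this
            have h3 : p < p ^ 2 := by
              have := hpp.one_lt
              nlinarith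
            omega
          · have : j = 1 := by omega
            rw [this, pow_one] at hjk
            exact hDp hjk
      rw [hj0, pow_zero] at hjk
      have hBD : B ≤ D := Subgroup.relIndex_eq_one.mp hjk
      obtain ⟨D', hD'B, hD'p⟩ := exists_hyperplane hBp hB2
      have h3 : X ⊓ Subgroup.centralizer (D : Set G) ≤ X ⊓ Subgroup.centralizer (D' : Set G) :=
        inf_le_inf_left _ (Subgroup.centralizer_le (hD'B.trans hBD))
      exact (h3.trans (key D' hD'B)).trans
        (le_iSup (fun D : {D : Subgroup G // D ≤ B ∧ D.relIndex B = p} =>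
          X ⊓ Cfsg.signalizerInf (D : Subgroup G) θ) ⟨D', hD'B, hD'p⟩)
  · apply iSup_le
    intro D
    exact inf_le_left

end Cfsg.Agent.S1331
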