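import Mathlib
import Cfsg.Statements.S1335
import Cfsg.Agent.Lib.Helper3.PGroupAux

set_option autoImplicit false
open Cfsg
open Cfsg.Agent.Lib.Helper3

namespace Cfsg.Agent.S1335

lemma pRankLE_of_mulEquiv {p k : ℕ} {X Y : Type*} [Group X] [Group Y] (e : X ≃* Y)
    (h : Cfsg.PRankLE p k Y) : Cfsg.PRankLE p k X := by
  intro A hA hexp
  have h1 := h (A.map e.toMonoidHom) inferInstance (by
    intro y hy
    obtain ⟨a, ha, rfl⟩ := Subgroup.mem_map.mp hy
    rw [← map_pow, hexp a ha, map_one])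
  have : Nat.card (A.map e.toMonoidHom) = Nat.card A :=
    Nat.card_congr (A.equivMapOfInjective _ e.injective).toEquiv.symm
  rwa [this] at h1

theorem result {G : Type*} [Group G] [Finite G] {p : ℕ} [Fact p.Prime] (k : ℕ) (hk : 1 ≤ k) (H : Subgroup G) (P : Sylow p ↥H) (hP : ¬ Cfsg.PRankLE p (k - 1) ↥(P : Subgroup ↥H)) (hΓ : (∀ X : Subgroup G, X ≤ (P : Subgroup ↥H).map H.subtype → ¬ Cfsg.PRankLE p (k - 1) ↥X → Subgroup.normalizer (X : Set G) ≤ H)) : ∃ Q : Sylow p G, (Q : Subgroup G) = (P : Subgroup ↥H).map H.subtype := by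
  set P0 := (P : Subgroup ↥H).map H.subtype with hP0
  have hP0p : IsPGroup p P0 := P.2.map _
  have hP0H : P0 ≤ H := by
    intro x hx
    obtain ⟨y, _, rfl⟩ := Subgroup.mem_map.mp hx
    exact y.2
  have hrank : ¬ Cfsg.PRankLE p (k - 1) ↥P0 := by
    intro h
    apply hP
    exact pRankLE_of_mulEquiv ((P : Subgroup ↥H).equivMapOfInjective H.subtype H.subtype_injective) h
  have hN : Subgroup.normalizer (P0 : Set G) ≤ H := hΓ P0 le_rfl hrank
  obtain ⟨Q, hQ⟩ := hP0p.exists_le_sylow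
  refine ⟨Q, ?_⟩
  by_contra hne
  obtain ⟨q, hqQ, hqP, hqN⟩ :=
    exists_mem_normalizer_not_mem (p := p) P0 (Q : Subgroup G) Q.2 hQ (fun h => hne h.symm)
  have hqH : q ∈ H := hN hqN
  -- P1 = P0 ⊔ zpowers q is a p-subgroup of H
  set P1 := P0 ⊔ Subgroup.zpowers q with hP1
  have hP1Q : P1 ≤ Q := sup_le hQ (Subgroup.zpowers_le.mpr hqQ)
  have hP1p : IsPGroup p P1 := Q.2.to_le hP1Q
  have hP1H : P1 ≤ H := sup_le hP0H (Subgroup.zpowers_le.mpr hqH)
  have hP1' : IsPGroup p (P1.subgroupOf H) := hP1p.comap_subtype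
  have hle : (P : Subgroup ↥H) ≤ P1.subgroupOf H := by
    intro x hx
    rw [Subgroup.mem_subgroupOf]
    exact le_sup_left (a := P0) (Subgroup.mem_map.mpr ⟨x, hx, rfl⟩)
  have heq : P1.subgroupOf H = P := P.is_maximal' hP1' hle
  have hq1 : (⟨q, hqH⟩ : H) ∈ P1.subgroupOf H := by
    rw [Subgroup.mem_subgroupOf]
    exact le_sup_right (a := P0) (Subgroup.mem_zpowers q)
  rw [heq] at hq1
  exact hqP (Subgroup.mem_map.mpr ⟨⟨q, hqH⟩, hq1, rfl⟩)

end Cfsg.Agent.S1335
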