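import Cfsg.Statements.S1336
import Mathlib
import Cfsg.Agent.Lib.Helper6.AlmostSimple

set_option autoImplicit false
open Cfsg Cfsg.Agent.Lib.Helper6

namespace Cfsg.Agent.S1336

variable {G : Type*} [Group G]

/-- conjugate of a subgroup -/
def cj (g : G) (A : Subgroup G) : Subgroup G := A.map (MulAut.conj g).toMonoidHom

theorem mem_cj (g : G) (A : Subgroup G) (x : G) : x ∈ cj g A ↔ g⁻¹ * x * g ∈ A :=
  mem_conj_iff A g x

theorem cj_one (A : Subgroup G) : cj 1 A = A := by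
  ext x
  rw [mem_cj]
  simp

theorem cj_mul (g h : G) (A : Subgroup G) : cj (g * h) A = cj g (cj h A) := by
  ext x
  rw [mem_cj, mem_cj, mem_cj]
  have : (g * h)⁻¹ * x * (g * h) = h⁻¹ * (g⁻¹ * x * g) * h := by group
  rw [this]

theorem cj_mono (g : G) {A B : Subgroup G} (h : A ≤ B) : cj g A ≤ cj g B :=
  Subgroup.map_mono h

theorem card_cj (g : G) (A : Subgroup G) : Nat.card (cj g A) = Nat.card A :=
  Nat.card_congr (A.equivMapOfInjective _ (MulAut.conj g).injective).toEquiv.symm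

theorem cj_self {A : Subgroup G} {e : G} (he : e ∈ A) : cj e A = A := by
  ext x
  rw [mem_cj]
  constructor
  · intro h
    have : x = e * (e⁻¹ * x * e) * e⁻¹ := by group
    rw [this]
    exact A.mul_mem (A.mul_mem he h) (A.inv_mem he)
  · intro h
    exact A.mul_mem (A.mul_mem (A.inv_mem he) h) he

/-- vertex of the commuting graph -/
def Vx (p : ℕ) (A : Subgroup G) : Prop := IsElementaryAbelian p A ∧ p ^ 1 ≤ Nat.card ↥A

/-- adjacency of the commuting graph -/
def Rel (p : ℕ) (A B : Subgroup G) : Prop :=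
  IsElementaryAbelian p A ∧ p ^ 1 ≤ Nat.card ↥A ∧ IsElementaryAbelian p B ∧
        p ^ 1 ≤ Nat.card ↥B ∧ ∀ a ∈ A, ∀ b ∈ B, a * b = b * a

theorem isEA_cj (p : ℕ) (g : G) {A : Subgroup G} (h : IsElementaryAbelian p A) :
    IsElementaryAbelian p (cj g A) := by
  obtain ⟨h1, h2⟩ := h
  refine ⟨Subgroup.map_isMulCommutative A _, ?_⟩
  intro x hx
  rw [mem_cj] at hx
  have := h2 _ hx
  have h3 : (g⁻¹ * x * g) ^ p = g⁻¹ * x ^ p * g := by
    have := conj_pow (a := g⁻¹) (b := x) (i := p)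
    rwa [inv_inv] at this
  rw [h3] at this
  have h4 : x ^ p = g * (g⁻¹ * x ^ p * g) * g⁻¹ := by group
  rw [h4, this]
  group

theorem Vx_cj (p : ℕ) (g : G) {A : Subgroup G} (h : Vx p A) : Vx p (cj g A) :=
  ⟨isEA_cj p g h.1, by rw [card_cj]; exact h.2⟩

theorem Rel_cj (p : ℕ) (g : G) {A B : Subgroup G} (h : Rel p A B) : Rel p (cj g A) (cj g B) := by
  obtain ⟨h1, h2, h3, h4, h5⟩ := h
  refine ⟨isEA_cj p g h1, by rw [card_cj]; exact h2, isEA_cj p g h3, by rw [card_cj]; exact h4, ?_⟩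
  intro a ha b hb
  rw [mem_cj] at ha hb
  have := h5 _ ha _ hb
  have e1 : a * b = g * ((g⁻¹ * a * g) * (g⁻¹ * b * g)) * g⁻¹ := by group
  have e2 : b * a = g * ((g⁻¹ * b * g) * (g⁻¹ * a * g)) * g⁻¹ := by group
  rw [e1, e2, this]

theorem Rel_symm (p : ℕ) {A B : Subgroup G} (h : Rel p A B) : Rel p B A := by
  obtain ⟨h1, h2, h3, h4, h5⟩ := h
  exact ⟨h3, h4, h1, h2, fun a ha b hb => (h5 b hb a ha).symm⟩

theorem conn_cj (p : ℕ) (g : G) {A B : Subgroup G} (h : Relation.ReflTransGen (Rel p) A B) :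
    Relation.ReflTransGen (Rel p) (cj g A) (cj g B) := by
  induction h with
  | refl => exact .refl
  | tail _ hbc ih => exact ih.tail (Rel_cj p g hbc)

theorem conn_symm (p : ℕ) {A B : Subgroup G} (h : Relation.ReflTransGen (Rel p) A B) :
    Relation.ReflTransGen (Rel p) B A := by
  induction h with
  | refl => exact .refl
  | tail _ hbc ih => exact (Relation.ReflTransGen.single (Rel_symm p hbc)).trans ih

theorem isPGroup_of_EA (p : ℕ) {A : Subgroup G} (h : IsElementaryAbelian p A) : IsPGroup p A := by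
  intro a
  refine ⟨1, ?_⟩
  rw [pow_one]
  apply Subtype.ext
  rw [Subgroup.coe_pow]
  exact h.2 a.1 a.2

theorem Vx_dvd [Finite G] (p : ℕ) [hp : Fact p.Prime] {A : Subgroup G} (h : Vx p A) :
    p ∣ Nat.card A := by
  obtain ⟨n, hn⟩ := IsPGroup.iff_card.1 (isPGroup_of_EA p h.1)
  have h2 := h.2
  rw [hn] at h2 ⊢
  have : n ≠ 0 := by
    intro h0
    rw [h0, pow_zero, pow_one] at h2
    have := hp.1.one_lt
    omega
  exact dvd_pow_self p this

theorem Vx_zpowers (p : ℕ) (x : G) (hx : orderOf x = p) : Vx p (Subgroup.zpowers x) := by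
  refine ⟨⟨Subgroup.zpowers_isMulCommutative x, ?_⟩, ?_⟩
  · rintro a ⟨k, rfl⟩
    rw [← zpow_natCast, ← zpow_mul, mul_comm, zpow_mul, zpow_natCast, ← hx, pow_orderOf_eq_one,
      one_zpow]
  · rw [Nat.card_zpowers, hx, pow_one]


theorem conn_of_le_pgroup [Finite G] (p : ℕ) [hp : Fact p.Prime] (Q : Subgroup G)
    (hQ : IsPGroup p Q) (A B : Subgroup G) (hA : Vx p A) (hB : Vx p B) (hAQ : A ≤ Q)
    (hBQ : B ≤ Q) : Relation.ReflTransGen (Rel p) A B := by
  haveI : Nontrivial Q := by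
    rw [← Finite.one_lt_card_iff_nontrivial]
    have h1 := Nat.le_of_dvd Nat.card_pos (Subgroup.card_dvd_of_le hAQ)
    have h2 := hA.2
    have := hp.1.one_lt
    rw [pow_one] at h2
    omega
  haveI := hQ.center_nontrivial
  obtain ⟨n, hn0, hn⟩ := (hQ.to_subgroup (Subgroup.center Q)).nontrivial_iff_card.1 inferInstance
  have hdvd : p ∣ Nat.card (Subgroup.center Q) := by
    rw [hn]; exact dvd_pow_self p hn0.ne'
  obtain ⟨z, hz⟩ := exists_prime_orderOf_dvd_card' p hdvd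
  have hz0 : orderOf ((z : Q) : G) = p := by
    rw [Subgroup.orderOf_coe, Subgroup.orderOf_coe, hz]
  have hVZ := Vx_zpowers p ((z : Q) : G) hz0
  have hcomm : ∀ a ∈ Q, ∀ b ∈ Subgroup.zpowers ((z : Q) : G), a * b = b * a := by
    rintro a ha b ⟨k, rfl⟩
    have h1 := (Subgroup.mem_center_iff.1 z.2) ⟨a, ha⟩
    have h2 : a * ((z : Q) : G) = ((z : Q) : G) * a := congrArg Subtype.val h1
    have h3 : Commute a ((z : Q) : G) := h2
    exact (h3.zpow_right k).eq
  have r1 : Rel p A (Subgroup.zpowers ((z : Q) : G)) :=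
    ⟨hA.1, hA.2, hVZ.1, hVZ.2, fun a ha b hb => hcomm a (hAQ ha) b hb⟩
  have r2 : Rel p (Subgroup.zpowers ((z : Q) : G)) B :=
    ⟨hVZ.1, hVZ.2, hB.1, hB.2, fun a ha b hb => (hcomm b (hBQ hb) a ha).symm⟩
  exact (Relation.ReflTransGen.single r1).tail r2

theorem forward [Finite G] (p : ℕ) [hp : Fact p.Prime] (H : Subgroup G) (hH : H ≠ ⊤)
    (hpH : p ∣ Nat.card ↥H)
    (hse : ∀ g : G, g ∉ H → ¬ p ∣ Nat.card ↥(H ⊓ H.map (MulAut.conj g).toMonoidHom)) :
    ¬ Cfsg.IsKConnected p 1 G := by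
  intro hconn
  obtain ⟨x, hx⟩ := exists_prime_orderOf_dvd_card' p hpH
  have hx0 : orderOf (x : G) = p := by rw [Subgroup.orderOf_coe, hx]
  have hVA := Vx_zpowers p (x : G) hx0
  have hAH : Subgroup.zpowers (x : G) ≤ H := by
    rw [Subgroup.zpowers_le]; exact x.2
  obtain ⟨g, hg⟩ : ∃ g : G, g ∉ H := by
    by_contra hcon
    push Not at hcon
    exact hH (eq_top_iff.2 fun y _ => hcon y)
  have hVB := Vx_cj p g hVA
  have hc := hconn _ _ hVA.1 hVA.2 hVB.1 hVB.2
  have key : ∀ C : Subgroup G, Relation.ReflTransGen (Rel p) (Subgroup.zpowers (x : G)) C →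
      C ≤ H := by
    intro C hC
    induction hC with
    | refl => exact hAH
    | @tail C' C _ hbc ih =>
      obtain ⟨h1, h2, h3, h4, h5⟩ := hbc
      intro c hc
      by_contra hcH
      apply hse c hcH
      have hle : C' ≤ H ⊓ H.map (MulAut.conj c).toMonoidHom := by
        intro y hy
        refine ⟨ih hy, ?_⟩
        show y ∈ H.map (MulAut.conj c).toMonoidHom
        rw [mem_conj_iff]
        have : c⁻¹ * y * c = y := by
          rw [mul_assoc, h5 y hy c hc, ← mul_assoc, inv_mul_cancel, one_mul]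
        rw [this]
        exact ih hy
      exact dvd_trans (Vx_dvd p ⟨h1, h2⟩) (Subgroup.card_dvd_of_le hle)
  have hB := key _ hc
  apply hse g hg
  have hle : cj g (Subgroup.zpowers (x : G)) ≤ H ⊓ H.map (MulAut.conj g).toMonoidHom := by
    apply le_inf hB
    exact cj_mono g hAH
  exact dvd_trans (Vx_dvd p hVB) (Subgroup.card_dvd_of_le hle)


/-- stabilizer of the component of `E` -/
def HH (p : ℕ) (E : Subgroup G) : Subgroup G where
  carrier := {g | Relation.ReflTransGen (Rel p) E (cj g E)}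
  one_mem' := by
    show Relation.ReflTransGen (Rel p) E (cj 1 E)
    rw [cj_one]
  mul_mem' := by
    intro g h hg hh
    show Relation.ReflTransGen (Rel p) E (cj (g * h) E)
    rw [cj_mul]
    exact Relation.ReflTransGen.trans hg (conn_cj p g hh)
  inv_mem' := by
    intro g hg
    show Relation.ReflTransGen (Rel p) E (cj g⁻¹ E)
    have h1 := conn_cj p g⁻¹ hg
    rw [← cj_mul, inv_mul_cancel, cj_one] at h1
    exact conn_symm p h1

theorem mem_HH (p : ℕ) (E : Subgroup G) (g : G) :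
    g ∈ HH p E ↔ Relation.ReflTransGen (Rel p) E (cj g E) := Iff.rfl

theorem le_HH (p : ℕ) (E : Subgroup G) : E ≤ HH p E := by
  intro e he
  rw [mem_HH, cj_self he]

theorem conn_of_le_HH [Finite G] (p : ℕ) [hp : Fact p.Prime] (E : Subgroup G) (hE : Vx p E)
    (X : Subgroup G) (hX : Vx p X) (hXH : X ≤ HH p E) : Relation.ReflTransGen (Rel p) E X := by
  have hEp : IsPGroup p (E.subgroupOf (HH p E)) :=
    (isPGroup_of_EA p hE.1).comap_subtype
  have hXp : IsPGroup p (X.subgroupOf (HH p E)) :=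
    (isPGroup_of_EA p hX.1).comap_subtype
  obtain ⟨Q0, hQ0⟩ := hEp.exists_le_sylow
  obtain ⟨Q, hQ⟩ := hXp.exists_le_sylow
  obtain ⟨h, hh⟩ := MulAction.exists_smul_eq (HH p E) Q0 Q
  have hQp : IsPGroup p ((Q : Subgroup (HH p E)).map (HH p E).subtype) :=
    Q.isPGroup'.map _
  have h1 : X ≤ (Q : Subgroup (HH p E)).map (HH p E).subtype := by
    intro x hx
    refine ⟨⟨x, hXH hx⟩, hQ ?_, rfl⟩
    rw [Subgroup.mem_subgroupOf]
    exact hx
  have h2 : cj (h : G) E ≤ (Q : Subgroup (HH p E)).map (HH p E).subtype := by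
    intro y hy
    rw [mem_cj] at hy
    have hy0 : (⟨(h : G)⁻¹ * y * h, le_HH p E hy⟩ : HH p E) ∈ (Q0 : Subgroup (HH p E)) := by
      apply hQ0
      rw [Subgroup.mem_subgroupOf]
      exact hy
    have hyH : y ∈ HH p E := by
      have : y = (h : G) * ((h : G)⁻¹ * y * h) * (h : G)⁻¹ := by group
      rw [this]
      exact (HH p E).mul_mem ((HH p E).mul_mem h.2 (le_HH p E hy)) ((HH p E).inv_mem h.2)
    refine ⟨⟨y, hyH⟩, ?_, rfl⟩
    rw [← hh]
    show (⟨y, hyH⟩ : HH p E) ∈ ((h • Q0 : Sylow p (HH p E)) : Subgroup (HH p E))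
    rw [mem_smul_sylow]
    have : h⁻¹ * (⟨y, hyH⟩ : HH p E) * h = ⟨(h : G)⁻¹ * y * h, le_HH p E hy⟩ := by
      apply Subtype.ext
      rfl
    rw [this]
    exact hy0
  have h3 := conn_of_le_pgroup p _ hQp (cj (h : G) E) X (Vx_cj p _ hE) hX h2 h1
  exact Relation.ReflTransGen.trans h.2 h3


theorem backward [Finite G] (p : ℕ) [hp : Fact p.Prime] (hnc : ¬ Cfsg.IsKConnected p 1 G) :
    ∃ H : Subgroup G, H ≠ ⊤ ∧ p ∣ Nat.card ↥H ∧
      ∀ g : G, g ∉ H → ¬ p ∣ Nat.card ↥(H ⊓ H.map (MulAut.conj g).toMonoidHom) := by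
  have hex : ∃ E E' : Subgroup G, Vx p E ∧ Vx p E' ∧ ¬ Relation.ReflTransGen (Rel p) E E' := by
    by_contra hcon
    push Not at hcon
    apply hnc
    intro E E' h1 h2 h3 h4
    exact hcon E E' ⟨h1, h2⟩ ⟨h3, h4⟩
  obtain ⟨E, E', hE, hE', hnot⟩ := hex
  refine ⟨HH p E, ?_, ?_, ?_⟩
  · intro htop
    obtain ⟨P, hP⟩ := (isPGroup_of_EA p hE.1).exists_le_sylow
    obtain ⟨P', hP'⟩ := (isPGroup_of_EA p hE'.1).exists_le_sylow
    obtain ⟨g, hg⟩ := MulAction.exists_smul_eq G P P'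
    have h1 : cj g E ≤ (P' : Subgroup G) := by
      intro y hy
      rw [mem_cj] at hy
      rw [← hg, mem_smul_sylow]
      exact hP hy
    have h2 := conn_of_le_pgroup p _ P'.isPGroup' (cj g E) E' (Vx_cj p g hE) hE' h1 hP'
    have hgH : g ∈ HH p E := by rw [htop]; trivial
    exact hnot (Relation.ReflTransGen.trans hgH h2)
  · exact dvd_trans (Vx_dvd p hE) (Subgroup.card_dvd_of_le (le_HH p E))
  · intro g hg hdvd
    apply hg
    obtain ⟨x, hx⟩ := exists_prime_orderOf_dvd_card' p hdvd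
    have hx0 : orderOf (x : G) = p := by rw [Subgroup.orderOf_coe, hx]
    have hVX := Vx_zpowers p (x : G) hx0
    have hX1 : Subgroup.zpowers (x : G) ≤ HH p E := by
      rw [Subgroup.zpowers_le]; exact x.2.1
    have hX2 : cj g⁻¹ (Subgroup.zpowers (x : G)) ≤ HH p E := by
      intro y hy
      rw [mem_cj, inv_inv] at hy
      have hy' : g * y * g⁻¹ ∈ (HH p E).map (MulAut.conj g).toMonoidHom := by
        have : Subgroup.zpowers (x : G) ≤ (HH p E).map (MulAut.conj g).toMonoidHom := by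
          rw [Subgroup.zpowers_le]; exact x.2.2
        exact this hy
      rw [mem_conj_iff] at hy'
      have : g⁻¹ * (g * y * g⁻¹) * g = y := by group
      rwa [this] at hy'
    have c1 := conn_of_le_HH p E hE _ hVX hX1
    have c2 := conn_of_le_HH p E hE _ (Vx_cj p g⁻¹ hVX) hX2
    have c3 := conn_cj p g c2
    rw [← cj_mul, mul_inv_cancel, cj_one] at c3
    rw [mem_HH]
    exact Relation.ReflTransGen.trans c1 (conn_symm p c3)

theorem main1336 {G : Type*} [Group G] [Finite G] (p : ℕ) [Fact p.Prime] : (∃ H : Subgroup G, H ≠ ⊤ ∧ p ∣ Nat.card ↥H ∧ ∀ g : G, g ∉ H → ¬ p ∣ Nat.card ↥(H ⊓ H.map (MulAut.conj g).toMonoidHom)) ↔ ¬ Cfsg.IsKConnected p 1 G := by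
  constructor
  · rintro ⟨H, h1, h2, h3⟩
    exact forward p H h1 h2 h3
  · exact backward p


/-- Let G be finite and p prime. Then G has a proper subgroup H with p ∣ |H| and p ∤ |H ∩ gHg⁻¹| for every g ∉ H (a strongly p-embedded subgroup) if and only if G is not 1-connected for p. -/
theorem result {G : Type*} [Group G] [Finite G] (p : ℕ) [Fact p.Prime] : (∃ H : Subgroup G, H ≠ ⊤ ∧ p ∣ Nat.card ↥H ∧ ∀ g : G, g ∉ H → ¬ p ∣ Nat.card ↥(H ⊓ H.map (MulAut.conj g).toMonoidHom)) ↔ ¬ Cfsg.IsKConnected p 1 G := by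
  exact main1336 p

end Cfsg.Agent.S1336
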