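import Mathlib
import Cfsg.Statements.S1337
import Cfsg.Agent.S0221
import Cfsg.Agent.Lib.Helper6.NormalEA
import Cfsg.Agent.Lib.Helper6.Four
import Cfsg.Agent.Lib.Helper1.NilpCenter

set_option autoImplicit false
set_option maxHeartbeats 800000

open Cfsg

namespace Cfsg.Agent.S1337

theorem ea_closure_p {X : Type*} [Group X] (p : ℕ) (s : Set X)
    (hc : ∀ x ∈ s, ∀ y ∈ s, x * y = y * x)
    (h2 : ∀ x ∈ s, x ^ p = 1) :
    (∀ x ∈ Subgroup.closure s, ∀ y ∈ Subgroup.closure s, x * y = y * x) ∧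
      ∀ x ∈ Subgroup.closure s, x ^ p = 1 := by
  have hcomm : IsMulCommutative (Subgroup.closure s) := Subgroup.isMulCommutative_closure hc
  have hc' : ∀ x ∈ Subgroup.closure s, ∀ y ∈ Subgroup.closure s, x * y = y * x :=
    fun x hx y hy => congrArg Subtype.val (hcomm.is_comm.comm ⟨x, hx⟩ ⟨y, hy⟩)
  refine ⟨hc', ?_⟩
  intro x hx
  induction hx using Subgroup.closure_induction with
  | mem x hx => exact h2 x hx
  | one => exact one_pow p
  | mul x y hx hy ihx ihy =>
    rw [(show Commute x y from hc' x hx y hy).mul_pow, ihx, ihy, one_mul]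
  | inv x hx ih => rw [inv_pow, ih, inv_one]

theorem ea_sup_p {X : Type*} [Group X] (p : ℕ) (A B : Subgroup X)
    (hAc : ∀ x ∈ A, ∀ y ∈ A, x * y = y * x) (hA : ∀ a ∈ A, a ^ p = 1)
    (hBc : ∀ x ∈ B, ∀ y ∈ B, x * y = y * x) (hB : ∀ b ∈ B, b ^ p = 1)
    (hAB : ∀ a ∈ A, ∀ b ∈ B, a * b = b * a) :
    (∀ x ∈ A ⊔ B, ∀ y ∈ A ⊔ B, x * y = y * x) ∧ ∀ w ∈ A ⊔ B, w ^ p = 1 := by
  rw [Subgroup.sup_eq_closure]
  apply ea_closure_p
  · rintro x (hx | hx) y (hy | hy)
    · exact hAc x hx y hy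
    · exact hAB x hx y hy
    · exact (hAB y hy x hx).symm
    · exact hBc x hx y hy
  · rintro x (hx | hx)
    · exact hA x hx
    · exact hB x hx

theorem ea_iff {X : Type*} [Group X] (p : ℕ) (A : Subgroup X) :
    Cfsg.IsElementaryAbelian p A ↔
      (∀ x ∈ A, ∀ y ∈ A, x * y = y * x) ∧ ∀ a ∈ A, a ^ p = 1 := by
  constructor
  · rintro ⟨h1, h2⟩
    exact ⟨fun x hx y hy => congrArg Subtype.val (h1.is_comm.comm ⟨x, hx⟩ ⟨y, hy⟩), h2⟩
  · rintro ⟨h1, h2⟩
    exact ⟨⟨⟨fun a b => Subtype.ext (h1 a a.2 b b.2)⟩⟩, h2⟩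

/-- cardinality of a subgroup of exponent p in a finite group is a power of p -/
theorem card_pow_of_exp {X : Type*} [Group X] [Finite X] (p : ℕ) [Fact p.Prime] (A : Subgroup X)
    (hA : ∀ a ∈ A, a ^ p = 1) : ∃ n : ℕ, Nat.card A = p ^ n := by
  have hp : IsPGroup p A := fun w => ⟨1, by rw [pow_one]; exact Subtype.ext (hA w w.2)⟩
  exact IsPGroup.iff_card.mp hp

theorem sq_le_of_lt {p n : ℕ} (hp : p.Prime) (h : p < p ^ n) : p ^ 2 ≤ p ^ n := by
  apply Nat.pow_le_pow_right hp.pos
  by_contra hlt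
  push Not at hlt
  have : p ^ n ≤ p ^ 1 := Nat.pow_le_pow_right hp.pos (by omega)
  rw [pow_one] at this
  omega

theorem cube_le_of_lt {p n : ℕ} (hp : p.Prime) (h : p ^ 2 < p ^ n) : p ^ 3 ≤ p ^ n := by
  apply Nat.pow_le_pow_right hp.pos
  by_contra hlt
  push Not at hlt
  have : p ^ n ≤ p ^ 2 := Nat.pow_le_pow_right hp.pos (by omega)
  omega

theorem exists_zt {P : Type*} [Group P] [Finite P] (p : ℕ) [Fact p.Prime] (hP : IsPGroup p P)
    (N : Subgroup P) [hNn : N.Normal] (hNe : ∀ a ∈ N, a ^ p = 1) (hNcard : p < Nat.card N) :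
    ∃ z ∈ N, ∃ t ∈ N, z ≠ 1 ∧ (∀ s : P, s * z * s⁻¹ = z) ∧ t ∉ Subgroup.zpowers z ∧
      ∀ s : P, s * t * s⁻¹ * t⁻¹ ∈ Subgroup.zpowers z := by
  classical
  have hp : p.Prime := Fact.out
  haveI : Group.IsNilpotent P := hP.isNilpotent
  have hNbot : N ≠ ⊥ := by
    intro h
    rw [h, Subgroup.card_bot] at hNcard
    have := hp.two_le
    omega
  obtain ⟨z, hzN, hzZ, hz1⟩ := Cfsg.Agent.Lib.Helper1.exists_mem_center_of_isNilpotent N hNbot
  have hzZ' : ∀ g : P, g * z = z * g := Subgroup.mem_center_iff.mp hzZ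
  have hzc : ∀ s : P, s * z * s⁻¹ = z := by
    intro s; rw [hzZ' s]; group
  obtain ⟨Z, hZ⟩ : ∃ Z : Subgroup P, Z = Subgroup.zpowers z := ⟨_, rfl⟩
  have hzo : orderOf z = p := orderOf_eq_prime (hNe z hzN) hz1
  have hZcard : Nat.card Z = p := by rw [hZ, Nat.card_zpowers, hzo]
  haveI hZn : Z.Normal := ⟨fun a ha s => by
    rw [hZ] at ha ⊢
    obtain ⟨k, rfl⟩ := Subgroup.mem_zpowers_iff.mp ha
    have : s * z ^ k * s⁻¹ = (s * z * s⁻¹) ^ k := by
      rw [← MulAut.conj_apply, ← MulAut.conj_apply, map_zpow]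
    rw [this, hzc s]
    exact Subgroup.zpow_mem_zpowers z k⟩
  obtain ⟨x1, hx1N, hx1Z⟩ : ∃ x1 ∈ N, x1 ∉ Z := by
    by_contra hcon
    push Not at hcon
    have hle : N ≤ Z := hcon
    have := Subgroup.card_le_of_le hle
    omega
  obtain ⟨N', hN'⟩ : ∃ N' : Subgroup (P ⧸ Z), N' = N.map (QuotientGroup.mk' Z) := ⟨_, rfl⟩
  haveI : N'.Normal := by
    rw [hN']; exact Subgroup.Normal.map hNn _ (QuotientGroup.mk'_surjective Z)
  have hN'bot : N' ≠ ⊥ := by
    intro h
    have h1 : (QuotientGroup.mk' Z) x1 ∈ N' := by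
      rw [hN']; exact Subgroup.mem_map_of_mem _ hx1N
    rw [h, Subgroup.mem_bot, QuotientGroup.mk'_apply, QuotientGroup.eq_one_iff] at h1
    exact hx1Z h1
  obtain ⟨tb, htbN, htbZ, htb1⟩ :=
    Cfsg.Agent.Lib.Helper1.exists_mem_center_of_isNilpotent N' hN'bot
  rw [hN'] at htbN
  obtain ⟨t, htN, rfl⟩ := Subgroup.mem_map.mp htbN
  have htZ : t ∉ Z := fun h => htb1 ((QuotientGroup.eq_one_iff t).mpr h)
  refine ⟨z, hzN, t, htN, hz1, hzc, ?_, ?_⟩
  · rw [← hZ]; exact htZ
  · intro s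
    have h1 : (QuotientGroup.mk' Z) (s * t * s⁻¹ * t⁻¹) = 1 := by
      have h2 := (Subgroup.mem_center_iff.mp htbZ) ((QuotientGroup.mk' Z) s)
      simp only [map_mul, map_inv]
      rw [h2]
      group
    rw [QuotientGroup.mk'_apply, QuotientGroup.eq_one_iff] at h1
    rw [← hZ]; exact h1

/-- the centralizer of a normal elementary abelian subgroup of order p² has index at most p,
relative to any subgroup -/
theorem card_le_mul_centralizer {P : Type*} [Group P] [Finite P] (p : ℕ) [Fact p.Prime]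
    (hP : IsPGroup p P) (U : Subgroup P) [hUn : U.Normal] (hUe : ∀ a ∈ U, a ^ p = 1)
    (hUcard : Nat.card U = p ^ 2) (A : Subgroup P) :
    Nat.card A ≤ p * Nat.card ↥(A ⊓ Subgroup.centralizer (U : Set P)) := by
  classical
  have hp : p.Prime := Fact.out
  have hlt : p < Nat.card U := by
    rw [hUcard, pow_two]
    have := hp.two_le
    nlinarith
  obtain ⟨z, hzU, t, htU, hz1, hzc, htZ, htc⟩ := exists_zt p hP U hUe hlt
  have hzo : orderOf z = p := orderOf_eq_prime (hUe z hzU) hz1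
  have hzcomm : ∀ s : P, s * z = z * s := by
    intro s
    calc s * z = (s * z * s⁻¹) * s := by group
      _ = z * s := by rw [hzc s]
  -- U = ⟨z⟩ ⊔ ⟨t⟩
  have hVU : Subgroup.zpowers z ⊔ Subgroup.zpowers t = U := by
    have hle : Subgroup.zpowers z ⊔ Subgroup.zpowers t ≤ U :=
      sup_le (Subgroup.zpowers_le.mpr hzU) (Subgroup.zpowers_le.mpr htU)
    apply Subgroup.eq_of_le_of_card_ge hle
    have hne : Subgroup.zpowers z ≠ Subgroup.zpowers z ⊔ Subgroup.zpowers t := by
      intro h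
      apply htZ
      rw [h]
      exact (le_sup_right : Subgroup.zpowers t ≤ _) (Subgroup.mem_zpowers t)
    have h1 := Cfsg.Agent.S0221.card_ge_of_lt _ _ (le_sup_left : Subgroup.zpowers z ≤ _) hne
    rw [Nat.card_zpowers, hzo] at h1
    have h2 := Subgroup.card_dvd_of_le hle
    rw [hUcard] at h2 ⊢
    obtain ⟨k, hk, hk2⟩ := (Nat.dvd_prime_pow hp).mp h2
    rw [hk2] at h1 ⊢
    apply Nat.pow_le_pow_right hp.pos
    by_contra hlt2
    push Not at hlt2
    have : p ^ k ≤ p ^ 1 := Nat.pow_le_pow_right hp.pos (by omega)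
    rw [pow_one] at this
    have := hp.two_le
    nlinarith
  -- the commutator hom
  let f : ↥A →* ↥(Subgroup.zpowers z) :=
    { toFun := fun a => ⟨(a : P) * t * (a : P)⁻¹ * t⁻¹, htc a⟩
      map_one' := by apply Subtype.ext; simp
      map_mul' := by
        intro a b
        apply Subtype.ext
        show ((a : P) * b) * t * ((a : P) * b)⁻¹ * t⁻¹ =
          ((a : P) * t * (a : P)⁻¹ * t⁻¹) * ((b : P) * t * (b : P)⁻¹ * t⁻¹)
        obtain ⟨k, hk⟩ := Subgroup.mem_zpowers_iff.mp (htc b)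
        have hcen : ∀ s : P, s * ((b : P) * t * (b : P)⁻¹ * t⁻¹) =
            ((b : P) * t * (b : P)⁻¹ * t⁻¹) * s := by
          intro s
          rw [← hk]
          have : Commute s z := hzcomm s
          exact (this.zpow_right k).eq
        calc ((a : P) * b) * t * ((a : P) * b)⁻¹ * t⁻¹
            = (a : P) * ((b : P) * t * (b : P)⁻¹ * t⁻¹) * (t * (a : P)⁻¹ * t⁻¹) := by group
          _ = ((b : P) * t * (b : P)⁻¹ * t⁻¹) * (a : P) * (t * (a : P)⁻¹ * t⁻¹) := by
              rw [hcen (a : P)]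
          _ = ((b : P) * t * (b : P)⁻¹ * t⁻¹) * ((a : P) * t * (a : P)⁻¹ * t⁻¹) := by group
          _ = ((a : P) * t * (a : P)⁻¹ * t⁻¹) * ((b : P) * t * (b : P)⁻¹ * t⁻¹) := by
              rw [hcen] }
  have hcard : Nat.card f.ker * Nat.card f.range = Nat.card A := by
    rw [← Subgroup.index_ker, Subgroup.card_mul_index]
  have hrange : Nat.card f.range ≤ p := by
    have := Subgroup.card_le_card_group f.range
    rw [Nat.card_zpowers, hzo] at this
    exact this
  have hker : Nat.card f.ker ≤ Nat.card ↥(A ⊓ Subgroup.centralizer (U : Set P)) := by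
    refine Nat.card_le_card_of_injective (fun m => ⟨((m : ↥A) : P), ?_⟩) ?_
    · rw [Subgroup.mem_inf]
      refine ⟨(m : ↥A).2, ?_⟩
      have h1 : f (m : ↥A) = 1 := m.2
      have h2 : ((m : ↥A) : P) * t * ((m : ↥A) : P)⁻¹ * t⁻¹ = 1 := congrArg Subtype.val h1
      have h3 : ((m : ↥A) : P) * t = t * ((m : ↥A) : P) := by
        have := mul_inv_eq_one.mp h2
        calc ((m : ↥A) : P) * t = (((m : ↥A) : P) * t * ((m : ↥A) : P)⁻¹) * ((m : ↥A) : P) := by
              group
          _ = t * ((m : ↥A) : P) := by rw [this]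
      have hle : U ≤ Subgroup.centralizer ({((m : ↥A) : P)} : Set P) := by
        rw [← hVU]
        apply sup_le
        · rw [Subgroup.zpowers_le, Subgroup.mem_centralizer_singleton_iff]
          exact (hzcomm _).symm
        · rw [Subgroup.zpowers_le, Subgroup.mem_centralizer_singleton_iff]
          exact h3.symm
      rw [Subgroup.mem_centralizer_iff]
      intro u hu
      exact Subgroup.mem_centralizer_singleton_iff.mp (hle hu)
    · intro a b h
      have := congrArg Subtype.val h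
      exact Subtype.ext (Subtype.ext this)
  calc Nat.card A = Nat.card f.ker * Nat.card f.range := hcard.symm
    _ ≤ Nat.card ↥(A ⊓ Subgroup.centralizer (U : Set P)) * p := Nat.mul_le_mul hker hrange
    _ = p * Nat.card ↥(A ⊓ Subgroup.centralizer (U : Set P)) := Nat.mul_comm _ _

open Cfsg.Agent.Lib.Helper6 in
theorem exists_U {P : Type*} [Group P] [Finite P] (p : ℕ) [Fact p.Prime] (hP : IsPGroup p P)
    (hrk : ¬ Cfsg.PRankLE p 2 P) :
    ∃ U : Subgroup P, U.Normal ∧ Cfsg.IsElementaryAbelian p U ∧ Nat.card ↥U = p ^ 2 := by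
  classical
  have hp : p.Prime := Fact.out
  unfold Cfsg.PRankLE at hrk
  push Not at hrk
  obtain ⟨A, hAc, hAe, hAcard⟩ := hrk
  by_cases hp2 : p = 2
  · subst hp2
    obtain ⟨n, hn⟩ := card_pow_of_exp 2 A hAe
    have h8 : 8 ≤ Nat.card A := by
      have := cube_le_of_lt Nat.prime_two (by rw [← hn]; exact hAcard)
      rw [hn]; norm_num at this ⊢; exact this
    obtain ⟨E, hEA, hE8⟩ := Cfsg.Agent.S0221.exists_card_eight A hAe h8
    have hE2 : ∀ e ∈ E, e ^ 2 = 1 := fun e he => hAe e (hEA he)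
    obtain ⟨z, t, hz2, hz1, ht2, ht1, htz, hzc, htc⟩ :=
      Cfsg.Agent.S0221.exists_normal_four hP E hE8 hE2
    have hzo : orderOf z = 2 := orderOf_eq_prime hz2 hz1
    have hto : orderOf t = 2 := orderOf_eq_prime ht2 ht1
    have hzt : z * t = t * z := by
      have := hzc t
      calc z * t = (t * z * t⁻¹) * t := by rw [this]
        _ = t * z := by group
    refine ⟨fourGroup z t, ?_, ?_, ?_⟩
    · refine ⟨fun u hu s => ?_⟩
      rw [mem_fourGroup' z t hzo hto hzt] at hu ⊢
      rcases hu with rfl | rfl | rfl | rfl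
      · left; group
      · right; left; exact hzc s
      · rcases htc s with h | h
        · right; right; left; exact h
        · right; right; right; rw [h]; exact hzt.symm
      · have h1 : s * (z * t) * s⁻¹ = (s * z * s⁻¹) * (s * t * s⁻¹) := by group
        rw [h1, hzc s]
        rcases htc s with h | h
        · right; right; right; rw [h]
        · right; right; left
          rw [h]
          calc z * (t * z) = (z * t) * z := by group
            _ = (t * z) * z := by rw [hzt]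
            _ = t * z ^ 2 := by rw [mul_assoc, ← pow_two]
            _ = t := by rw [hz2, mul_one]
    · rw [ea_iff]
      have h2 : ∀ g ∈ fourGroup z t, g ^ 2 = 1 := fun g hg => fourGroup_sq z t hzo hto hzt g hg
      exact ⟨Cfsg.Agent.S0221.comm_of_sq _ h2, h2⟩
    · rw [fourGroup_card z t hzo hto hzt htz.symm]; norm_num
  · have hnc : ¬ IsCyclic P := by
      intro hcyc
      haveI : IsCyclic A := Subgroup.isCyclic A
      obtain ⟨g, hg⟩ := (inferInstance : IsCyclic A).exists_generator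
      have h1 : orderOf g = Nat.card A := orderOf_eq_card_of_forall_mem_zpowers hg
      have hg2 : g ^ p = 1 := Subtype.ext (hAe g g.2)
      have h2 := orderOf_le_of_pow_eq_one hp.pos hg2
      have : p ≤ p ^ 2 := by rw [pow_two]; exact Nat.le_mul_self p
      omega
    exact exists_normal_ea_sq hp2 (Nat.card P) P rfl hP hnc

theorem not_rank_of {P : Type*} [Group P] [Finite P] (p : ℕ) (X B : Subgroup P)
    (hB : B ≤ Subgroup.centralizer (X : Set P))
    (hc : ∀ x ∈ B, ∀ y ∈ B, x * y = y * x) (he : ∀ b ∈ B, b ^ p = 1)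
    (hcard : p ^ 2 < Nat.card B) :
    ¬ Cfsg.PRankLE p 2 ↥(Subgroup.centralizer (X : Set P)) := by
  intro h
  have h1 := h (B.subgroupOf (Subgroup.centralizer (X : Set P)))
    ⟨⟨fun a b => Subtype.ext (Subtype.ext (hc _ (Subgroup.mem_subgroupOf.mp a.2) _
      (Subgroup.mem_subgroupOf.mp b.2)))⟩⟩
    (fun a ha => Subtype.ext (by
      have := he _ (Subgroup.mem_subgroupOf.mp ha)
      simpa using this))
  rw [Nat.card_congr (Subgroup.subgroupOfEquivOfLe hB).toEquiv] at h1
  omega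

theorem main1337 {P : Type*} [Group P] [Finite P] (p : ℕ) [Fact p.Prime] (hP : IsPGroup p P) (hrk : ¬ Cfsg.PRankLE p 2 P) : ∃ U : Subgroup P, U.Normal ∧ Cfsg.IsElementaryAbelian p U ∧ Nat.card ↥U = p ^ 2 ∧ ∀ X : Subgroup P, Cfsg.IsElementaryAbelian p X → p ^ 2 ≤ Nat.card ↥X → (Relation.ReflTransGen (fun A B : Subgroup P => Cfsg.IsElementaryAbelian p A ∧ p ^ 2 ≤ Nat.card ↥A ∧ Cfsg.IsElementaryAbelian p B ∧ p ^ 2 ≤ Nat.card ↥B ∧ ∀ a ∈ A, ∀ b ∈ B, a * b = b * a) X U ↔ ¬ Cfsg.PRankLE p 2 ↥(Subgroup.centralizer (X : Set P))) := by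
  classical
  have hp : p.Prime := Fact.out
  obtain ⟨U, hUn, hUea, hUcard⟩ := exists_U p hP hrk
  refine ⟨U, hUn, hUea, hUcard, ?_⟩
  haveI := hUn
  obtain ⟨hUc, hUe⟩ := (ea_iff p U).mp hUea
  have hrk' := hrk
  unfold Cfsg.PRankLE at hrk'
  push Not at hrk'
  obtain ⟨A0, hA0c', hA0e, hA0card⟩ := hrk'
  have hA0c : ∀ x ∈ A0, ∀ y ∈ A0, x * y = y * x := fun x hx y hy =>
    congrArg Subtype.val (hA0c'.is_comm.comm ⟨x, hx⟩ ⟨y, hy⟩)
  have hBcard : ∀ A : Subgroup P, (∀ a ∈ A, a ^ p = 1) → p ^ 2 < Nat.card A →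
      p ^ 2 ≤ Nat.card ↥(A ⊓ Subgroup.centralizer (U : Set P)) := by
    intro A hAe hAcard
    have h1 := card_le_mul_centralizer p hP U hUe hUcard A
    obtain ⟨n, hn⟩ := card_pow_of_exp p (A ⊓ Subgroup.centralizer (U : Set P))
      (fun a ha => hAe a (Subgroup.mem_inf.mp ha).1)
    rw [hn] at h1 ⊢
    apply sq_le_of_lt hp
    by_contra hle
    push Not at hle
    have : p * p ^ n ≤ p * p := Nat.mul_le_mul_left p hle
    rw [← pow_two] at this
    omega
  have hUgood : ¬ Cfsg.PRankLE p 2 ↥(Subgroup.centralizer (U : Set P)) := by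
    obtain ⟨B, hB⟩ : ∃ B, B = A0 ⊓ Subgroup.centralizer (U : Set P) := ⟨_, rfl⟩
    have hB2 : p ^ 2 ≤ Nat.card B := by rw [hB]; exact hBcard A0 hA0e hA0card
    have hBA : B ≤ A0 := by rw [hB]; exact inf_le_left
    have hBC : B ≤ Subgroup.centralizer (U : Set P) := by rw [hB]; exact inf_le_right
    have hUB : ∀ u ∈ U, ∀ b ∈ B, u * b = b * u := by
      intro u hu b hb
      exact Subgroup.mem_centralizer_iff.mp (hBC hb) u hu
    obtain ⟨hWc, hWe⟩ := ea_sup_p p U B hUc hUe (fun x hx y hy => hA0c x (hBA hx) y (hBA hy))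
      (fun b hb => hA0e b (hBA hb)) hUB
    apply not_rank_of p U (U ⊔ B) ?_ hWc hWe ?_
    · apply sup_le
      · intro u hu
        rw [Subgroup.mem_centralizer_iff]
        intro v hv
        exact hUc v hv u hu
      · exact hBC
    · by_cases hWB : B = U ⊔ B
      · have hUA : U ≤ A0 := fun u hu => hBA (by rw [hWB]; exact (le_sup_left : U ≤ _) hu)
        have hA0C : A0 ≤ Subgroup.centralizer (U : Set P) := by
          intro a ha
          rw [Subgroup.mem_centralizer_iff]
          intro u hu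
          exact hA0c u (hUA hu) a ha
        have : B = A0 := by rw [hB]; exact inf_eq_left.mpr hA0C
        rw [← hWB, this]; exact hA0card
      · have h1 := Cfsg.Agent.S0221.card_ge_of_lt B (U ⊔ B) le_sup_right hWB
        have : 0 < p ^ 2 := pow_pos hp.pos 2
        omega
  have hfwd : ∀ X : Subgroup P, Relation.ReflTransGen (fun A B : Subgroup P => Cfsg.IsElementaryAbelian p A ∧ p ^ 2 ≤ Nat.card ↥A ∧ Cfsg.IsElementaryAbelian p B ∧ p ^ 2 ≤ Nat.card ↥B ∧ ∀ a ∈ A, ∀ b ∈ B, a * b = b * a) X U →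
      ¬ Cfsg.PRankLE p 2 ↥(Subgroup.centralizer (X : Set P)) := by
    intro X hchain
    induction hchain using Relation.ReflTransGen.head_induction_on with
    | refl => exact hUgood
    | @head a c hac _ ih =>
      obtain ⟨haea, hacard, hcea, hccard, hcomm⟩ := hac
      by_cases hne : a = c
      · rw [hne]; exact ih
      · obtain ⟨hac', hae⟩ := (ea_iff p a).mp haea
        obtain ⟨hcc', hce⟩ := (ea_iff p c).mp hcea
        obtain ⟨hWc, hWe⟩ := ea_sup_p p a c hac' hae hcc' hce hcomm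
        apply not_rank_of p a (a ⊔ c) ?_ hWc hWe ?_
        · apply sup_le
          · intro u hu
            rw [Subgroup.mem_centralizer_iff]
            intro v hv
            exact hac' v hv u hu
          · intro u hu
            rw [Subgroup.mem_centralizer_iff]
            intro v hv
            exact hcomm v hv u hu
        · by_contra hle
          push Not at hle
          apply hne
          have h1 : a = a ⊔ c := Subgroup.eq_of_le_of_card_ge le_sup_left (hle.trans hacard)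
          have h2 : c = a ⊔ c := Subgroup.eq_of_le_of_card_ge le_sup_right (hle.trans hccard)
          rw [h1]; exact h2.symm
  intro X hXea hXcard
  obtain ⟨hXc, hXe⟩ := (ea_iff p X).mp hXea
  constructor
  · exact hfwd X
  · intro hgood
    unfold Cfsg.PRankLE at hgood
    push Not at hgood
    obtain ⟨A', hA'c, hA'e, hA'card⟩ := hgood
    obtain ⟨A, hA⟩ : ∃ A : Subgroup P, A = A'.map (Subgroup.centralizer (X : Set P)).subtype :=
      ⟨_, rfl⟩
    have hAcard : p ^ 2 < Nat.card A := by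
      rw [hA, Subgroup.card_map_of_injective (Subgroup.subtype_injective _)]; exact hA'card
    have hAX : A ≤ Subgroup.centralizer (X : Set P) := by rw [hA]; exact Subgroup.map_subtype_le A'
    have hAc : ∀ x ∈ A, ∀ y ∈ A, x * y = y * x := by
      intro x hx y hy
      rw [hA] at hx hy
      obtain ⟨x', hx', rfl⟩ := Subgroup.mem_map.mp hx
      obtain ⟨y', hy', rfl⟩ := Subgroup.mem_map.mp hy
      have := hA'c.is_comm.comm ⟨x', hx'⟩ ⟨y', hy'⟩
      have h2 : x' * y' = y' * x' := congrArg Subtype.val this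
      have h3 := congrArg Subtype.val h2
      simpa using h3
    have hAe : ∀ a ∈ A, a ^ p = 1 := by
      intro a ha
      rw [hA] at ha
      obtain ⟨a', ha', rfl⟩ := Subgroup.mem_map.mp ha
      have := congrArg Subtype.val (hA'e a' ha')
      simpa using this
    have hAea : Cfsg.IsElementaryAbelian p A := (ea_iff p A).mpr ⟨hAc, hAe⟩
    obtain ⟨B, hB⟩ : ∃ B, B = A ⊓ Subgroup.centralizer (U : Set P) := ⟨_, rfl⟩
    have hB2 : p ^ 2 ≤ Nat.card B := by rw [hB]; exact hBcard A hAe hAcard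
    have hBA : B ≤ A := by rw [hB]; exact inf_le_left
    have hBC : B ≤ Subgroup.centralizer (U : Set P) := by rw [hB]; exact inf_le_right
    have hBea : Cfsg.IsElementaryAbelian p B :=
      (ea_iff p B).mpr ⟨fun x hx y hy => hAc x (hBA hx) y (hBA hy), fun b hb => hAe b (hBA hb)⟩
    refine Relation.ReflTransGen.head (b := A) ⟨hXea, hXcard, hAea, hAcard.le, ?_⟩
      (Relation.ReflTransGen.head (b := B) ⟨hAea, hAcard.le, hBea, hB2, ?_⟩
        (Relation.ReflTransGen.single ⟨hBea, hB2, hUea, hUcard.ge, ?_⟩))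
    · intro x hx a ha
      exact Subgroup.mem_centralizer_iff.mp (hAX ha) x hx
    · intro a ha b hb
      exact hAc a ha b (hBA hb)
    · intro b hb u hu
      exact (Subgroup.mem_centralizer_iff.mp (hBC hb) u hu).symm

/-- Let P be a finite p-group of p-rank greater than 2. Then P has a normal elementary abelian subgroup U of order p², and for every elementary abelian X ≤ P with |X| ≥ p²: X is joined to U by a chain of pairwise commuting elementary abelian subgroups of order ≥ p² if and only if C_P(X) has p-rank greater than 2. -/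
theorem result {P : Type*} [Group P] [Finite P] (p : ℕ) [Fact p.Prime] (hP : IsPGroup p P) (hrk : ¬ Cfsg.PRankLE p 2 P) : ∃ U : Subgroup P, U.Normal ∧ Cfsg.IsElementaryAbelian p U ∧ Nat.card ↥U = p ^ 2 ∧ ∀ X : Subgroup P, Cfsg.IsElementaryAbelian p X → p ^ 2 ≤ Nat.card ↥X → (Relation.ReflTransGen (fun A B : Subgroup P => Cfsg.IsElementaryAbelian p A ∧ p ^ 2 ≤ Nat.card ↥A ∧ Cfsg.IsElementaryAbelian p B ∧ p ^ 2 ≤ Nat.card ↥B ∧ ∀ a ∈ A, ∀ b ∈ B, a * b = b * a) X U ↔ ¬ Cfsg.PRankLE p 2 ↥(Subgroup.centralizer (X : Set P))) := by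
  exact main1337 p hP hrk

end Cfsg.Agent.S1337
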