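import Mathlib
import Cfsg.Statements.S1343
import Cfsg.Agent.Lib.Helper3.ExtLayer2

set_option autoImplicit false
open Cfsg
open Cfsg.Agent.Lib.Helper3
open Cfsg.Agent.Lib.Helper1

namespace Cfsg.Agent.S1343

lemma mem_normalizer_sup {X : Type*} [Group X] {A B : Subgroup X} {s : X}
    (hA : s ∈ Subgroup.normalizer (A : Set X)) (hB : s ∈ Subgroup.normalizer (B : Set X)) :
    s ∈ Subgroup.normalizer ((A ⊔ B : Subgroup X) : Set X) := by
  have h1 : A.map (MulAut.conj s).toMonoidHom = A := Subgroup.mem_normalizer_iff_map_conj_eq.mp hA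
  have h2 : B.map (MulAut.conj s).toMonoidHom = B := Subgroup.mem_normalizer_iff_map_conj_eq.mp hB
  rw [Subgroup.mem_normalizer_iff_map_conj_eq]
  show (A ⊔ B).map (MulAut.conj s).toMonoidHom = A ⊔ B
  rw [Subgroup.map_sup, h1, h2]

theorem result {X : Type*} [Group X] [Finite X] : ∃ F : Subgroup X, Odd (Nat.card ↥F) ∧ (∃ S : Sylow 2 X, (S : Subgroup X) ≤ Subgroup.normalizer (F : Set X)) ∧ Cfsg.extendedTwoLayer X = Cfsg.pLayer 2 X ⊔ F := by
  have : Fact (Nat.Prime 2) := ⟨Nat.prime_two⟩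
  obtain ⟨T⟩ : Nonempty (Sylow 2 ↥(layerM 2 X)) := inferInstance
  set T' := sylowSub T with hT'
  have hNn : (Cfsg.pPrimeCore 2 X).Normal := pPrimeCore_normal' 2
  refine ⟨cenCore 2 T' ⊔ Cfsg.pPrimeCore 2 X, ?_, ?_, ?_⟩
  · apply Nat.Coprime.odd_of_right
    have h1 := card_sup_dvd_mul (cenCore 2 T') (Cfsg.pPrimeCore 2 X)
    apply Nat.Coprime.coprime_dvd_left h1
    apply Nat.Coprime.mul_left
    · unfold cenCore subPPrimeCore
      rw [Nat.card_congr ((Cfsg.pPrimeCore 2 ↥(Subgroup.centralizer (T' : Set X))).equivMapOfInjective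
        (Subgroup.centralizer (T' : Set X)).subtype (Subgroup.subtype_injective _)).symm.toEquiv]
      exact pPrimeCore_coprime 2
    · exact pPrimeCore_coprime 2
  · have hT'p : IsPGroup 2 ↥T' := T.isPGroup'.map _
    obtain ⟨S, hS⟩ := hT'p.exists_le_sylow
    refine ⟨S, ?_⟩
    -- T' = S ⊓ M
    have hT'M : T' ≤ layerM 2 X := Subgroup.map_subtype_le _
    have heq : T' = (S : Subgroup X) ⊓ layerM 2 X := by
      apply le_antisymm (le_inf hS hT'M)
      have h1 : IsPGroup 2 ↥(((S : Subgroup X) ⊓ layerM 2 X).subgroupOf (layerM 2 X)) :=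
        (S.isPGroup'.to_le inf_le_left).of_equiv (Subgroup.subgroupOfEquivOfLe inf_le_right).symm
      have h2 : (T : Subgroup ↥(layerM 2 X)) ≤
          ((S : Subgroup X) ⊓ layerM 2 X).subgroupOf (layerM 2 X) := by
        intro x hx
        rw [Subgroup.mem_subgroupOf]
        exact ⟨hS ⟨x, hx, rfl⟩, x.2⟩
      have h3 := T.is_maximal' h1 h2
      intro x hx
      have hx' : (⟨x, hx.2⟩ : ↥(layerM 2 X)) ∈
          ((S : Subgroup X) ⊓ layerM 2 X).subgroupOf (layerM 2 X) := by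
        rw [Subgroup.mem_subgroupOf]; exact hx
      rw [h3] at hx'
      exact ⟨⟨x, hx.2⟩, hx', rfl⟩
    intro s hs
    have hsT' : s ∈ Subgroup.normalizer (T' : Set X) := by
      rw [heq]
      apply normalizer_inf_normalizer_le
      exact ⟨Subgroup.le_normalizer hs, le_normalizer_of_normal (layerM_normal 2) ⊤ (Subgroup.mem_top s)⟩
    apply mem_normalizer_sup
    · rw [Subgroup.mem_normalizer_iff_map_conj_eq]
      exact cenCore_map_conj_of_mem_normalizer 2 hsT'
    · exact le_normalizer_of_normal hNn ⊤ (Subgroup.mem_top s)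
  · rw [extendedTwoLayer_eq_of_sylow T, sup_assoc, sup_comm (Cfsg.pPrimeCore 2 X)]

end Cfsg.Agent.S1343
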