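import Mathlib
import Cfsg.Statements.S1344
import Cfsg.Agent.Lib.Helper3.ExtLayer3

set_option autoImplicit false
open Cfsg
open Cfsg.Agent.Lib.Helper3
open Cfsg.Agent.Lib.Helper1

namespace Cfsg.Agent.S1344

theorem result {X : Type*} [Group X] [Finite X] (K : Subgroup X) (hK : Cfsg.IsPComponent 2 K) : K ≤ Cfsg.extendedTwoLayer X ∧ (K.subgroupOf (Cfsg.extendedTwoLayer X)).Normal := by
  have : Fact (Nat.Prime 2) := ⟨Nat.prime_two⟩
  obtain ⟨T⟩ : Nonempty (Sylow 2 ↥(layerM 2 X)) := inferInstance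
  have hle : Cfsg.extendedTwoLayer X ≤ Subgroup.normalizer (K : Set X) := by
    rw [extendedTwoLayer_eq_of_sylow T]
    apply sup_le
    · apply sup_le (pLayer_le_normalizer_pcomp hK)
      intro g hg
      apply mem_normalizer_pcomp_of_ppi hK
      rw [(ppi_eq_one_iff 2 g).mpr hg]
      exact Subgroup.one_mem _
    · exact (cenCore_le_centralizer 2 _).trans (centralizer_sylowSub_le_normalizer_pcomp 2 T hK)
  refine ⟨?_, Subgroup.normal_subgroupOf_of_le_normalizer hle⟩
  rw [extendedTwoLayer_eq]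
  exact (pcomp_le_pLayer hK).trans (le_sup_left.trans le_sup_left)

end Cfsg.Agent.S1344
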