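import Cfsg.Statements.S1349
import Cfsg.Agent.Lib.Helper4.ElemAbTwo2
import Cfsg.Agent.Lib.Helper4.Cores
import Cfsg.Agent.Lib.Helper3.Transport
import Cfsg.Agent.S0008
import Cfsg.Agent.S0044

set_option autoImplicit false
open Cfsg

namespace Cfsg.Agent.S1349

/-- Let G be finite, L ≤ G solvable of odd order, and A an elementary abelian 2-subgroup of order 2^d (d ≥ 1) normalizing L with C_A(L) = 1. Then there are subgroups A_1, …, A_d of A of order 2 generating A and subgroups L_1, …, L_d of L such that each A_i ⊔ L_i is dihedral of order 2 n_i with n_i odd and at least 3, and A_i ⊔ L_i commutes elementwise with A_j ⊔ L_j for i ≠ j. -/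
theorem result {G : Type*} [Group G] [Finite G] (L A : Subgroup G) (hLs : Group.IsSolvable ↥L) (hLodd : Odd (Nat.card ↥L)) (hA : Cfsg.IsElementaryAbelian 2 A) (d : ℕ) (hd : 1 ≤ d) (hAd : Nat.card ↥A = 2 ^ d) (hAL : A ≤ Subgroup.normalizer (L : Set G)) (hfaith : A ⊓ Subgroup.centralizer (L : Set G) = ⊥) : ∃ (Ai : Fin d → Subgroup G) (Li : Fin d → Subgroup G) (n : Fin d → ℕ), (∀ i, Ai i ≤ A ∧ Nat.card ↥(Ai i) = 2 ∧ Li i ≤ L ∧ Odd (n i) ∧ 3 ≤ n i ∧ Nonempty (↥(Ai i ⊔ Li i) ≃* DihedralGroup (n i))) ∧ (⨆ i, Ai i) = A ∧ ∀ i j, i ≠ j → ∀ x ∈ Ai i ⊔ Li i, ∀ y ∈ Ai j ⊔ Li j, x * y = y * x := by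
  classical
  haveI := hLs
  have hoddL : ∀ x ∈ L, x * x = 1 → x = 1 := by
    intro x hx hxx
    have h1 : orderOf x ∣ 2 := by
      apply orderOf_dvd_of_pow_eq_one
      rw [pow_two]; exact hxx
    have h2 : orderOf x ∣ Nat.card ↥L := by
      have := orderOf_dvd_natCard (⟨x, hx⟩ : ↥L)
      rwa [Subgroup.orderOf_mk] at this
    have h3 : orderOf x ∣ Nat.gcd 2 (Nat.card ↥L) := Nat.dvd_gcd h1 h2
    have h4 : Nat.gcd 2 (Nat.card ↥L) = 1 := by
      rw [← Nat.coprime_iff_gcd_eq_one, Nat.coprime_two_left]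
      exact hLodd
    rw [h4, Nat.dvd_one] at h3
    exact orderOf_eq_one_iff.1 h3
  have hI2 : ∀ a ∈ A, a * a = 1 := by
    intro a ha
    have := hA.2 a ha
    rwa [pow_two] at this
  have hIc : ∀ a ∈ A, ∀ b ∈ A, a * b = b * a := isMulCommutative_iff_of_setLike.1 hA.1
  have hAL' : ∀ i ∈ A, ∀ x ∈ L, i * x * i⁻¹ ∈ L :=
    fun i hi x hx => ((Subgroup.mem_normalizer_iff.1 (hAL hi)) x).1 hx
  have hfaithL : ∀ i ∈ A, (∀ x ∈ L, i * x = x * i) → i = 1 := by
    intro i hi hic
    have hmem : i ∈ A ⊓ Subgroup.centralizer (L : Set G) := by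
      refine Subgroup.mem_inf.2 ⟨hi, ?_⟩
      rw [Subgroup.mem_centralizer_iff]
      intro x hx
      exact (hic x hx).symm
    rw [hfaith] at hmem
    exact Subgroup.mem_bot.1 hmem
  obtain ⟨F₀, hF₀⟩ : ∃ F₀ : Subgroup ↥L, F₀ = Cfsg.fittingSubgroup ↥L := ⟨_, rfl⟩
  obtain ⟨F, hF⟩ : ∃ F : Subgroup G, F = F₀.map L.subtype := ⟨_, rfl⟩
  have hFmem : ∀ x, x ∈ F ↔ ∃ y : ↥L, y ∈ F₀ ∧ (y : G) = x := by
    intro x; rw [hF, Subgroup.mem_map]; rfl
  have hFL : F ≤ L := by
    intro x hx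
    obtain ⟨y, _, rfl⟩ := (hFmem x).1 hx
    exact y.2
  have hFnil : Group.IsNilpotent ↥F := by
    haveI : Group.IsNilpotent ↥F₀ := by rw [hF₀]; exact Cfsg.Agent.S0008.result
    rw [hF]
    exact Group.nilpotent_of_mulEquiv (F₀.equivMapOfInjective L.subtype L.subtype_injective)
  have hF₀n : F₀.Normal := by rw [hF₀]; exact Cfsg.Agent.Lib.Helper4.fittingSubgroup_normal
  have hFnormL : ∀ f ∈ L, ∀ a ∈ F, f * a * f⁻¹ ∈ F := by
    intro f hf a ha
    obtain ⟨y, hy, rfl⟩ := (hFmem a).1 ha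
    exact (hFmem _).2 ⟨⟨f, hf⟩ * y * ⟨f, hf⟩⁻¹, hF₀n.conj_mem y hy ⟨f, hf⟩, rfl⟩
  have hFsc : ∀ x ∈ L, (∀ a ∈ F, x * a = a * x) → x ∈ F := by
    intro x hx hxc
    have h1 : (⟨x, hx⟩ : ↥L) ∈ Subgroup.centralizer (F₀ : Set ↥L) := by
      rw [Subgroup.mem_centralizer_iff]
      intro y hy
      apply Subtype.ext
      exact (hxc y ((hFmem _).2 ⟨y, hy, rfl⟩)).symm
    have h2 : (⟨x, hx⟩ : ↥L) ∈ F₀ := by
      rw [hF₀] at h1 ⊢
      exact Cfsg.Agent.S0044.result h1
    exact (hFmem x).2 ⟨⟨x, hx⟩, h2, rfl⟩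
  have hAF : ∀ i ∈ A, ∀ x ∈ F, i * x * i⁻¹ ∈ F := by
    intro i hi x hx
    obtain ⟨y, hy, rfl⟩ := (hFmem x).1 hx
    have hiN := hAL hi
    let φ : ↥L ≃* ↥L :=
      { toFun := fun z => ⟨i * z * i⁻¹, ((Subgroup.mem_normalizer_iff.1 hiN) z).1 z.2⟩
        invFun := fun z => ⟨i⁻¹ * z * i, ((Subgroup.mem_normalizer_iff''.1 hiN) z).1 z.2⟩
        left_inv := fun z => by apply Subtype.ext; simp [mul_assoc]
        right_inv := fun z => by apply Subtype.ext; simp [mul_assoc]
        map_mul' := fun z w => by apply Subtype.ext; simp [mul_assoc] }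
    haveI : F₀.Characteristic := by
      rw [hF₀]; exact Cfsg.Agent.Lib.Helper3.fitting_characteristic
    have h1 : F₀.map φ.toMonoidHom = F₀ := Subgroup.characteristic_iff_map_eq.1 this φ
    have h2 : φ y ∈ F₀ := by
      rw [← h1]; exact Subgroup.mem_map_of_mem _ hy
    exact (hFmem _).2 ⟨φ y, h2, rfl⟩
  have hfaithF : ∀ i ∈ A, (∀ a ∈ F, i * a = a * i) → i = 1 :=
    Cfsg.Agent.Lib.Helper4.ea_faithful L A F hoddL hAL' hI2 hfaithL hFnormL hFsc
  obtain ⟨A₀, f, hA₀F, hA₀c, hfp, hfA₀, hfpm, hfcard, hfD⟩ :=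
    Cfsg.Agent.Lib.Helper4.ea_main' F A d hFnil (fun x hx => hoddL x (hFL hx)) hAF hIc hI2
      hfaithF hAd
  have hfL : ∀ j, f j ≤ L := fun j => le_trans (hfA₀ j) (le_trans hA₀F hFL)
  have hbot : ∀ j, f j ≠ ⊥ := by
    intro j h
    have := hfp j
    rw [h, Subgroup.card_bot] at this
    exact Nat.not_prime_one this
  have hne : ∀ j, ∃ x ∈ f j, x ≠ x⁻¹ := by
    intro j
    obtain ⟨⟨x, hx⟩, hxne⟩ := Subgroup.ne_bot_iff_exists_ne_one.1 (hbot j)
    refine ⟨x, hx, ?_⟩
    intro h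
    apply hxne; apply Subtype.ext
    apply hoddL x (hfL j hx)
    calc x * x = x * x⁻¹ := by rw [← h]
      _ = 1 := mul_inv_cancel x
  have hfaithf : ∀ i ∈ A, (∀ j, ∀ x ∈ f j, i * x * i⁻¹ = x) → i = 1 := by
    intro i hi hic
    have hcard1 : Nat.card ↥(A ⊓ Subgroup.centralizer ((⨆ j, f j : Subgroup G) : Set G)) = 1 := by
      have h2 : 0 < 2 ^ d := by positivity
      exact Nat.eq_of_mul_eq_mul_right h2 (by rw [hfD, one_mul])
    have hbot' := Subgroup.card_eq_one.1 hcard1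
    have hmem : i ∈ A ⊓ Subgroup.centralizer ((⨆ j, f j : Subgroup G) : Set G) := by
      refine Subgroup.mem_inf.2 ⟨hi, ?_⟩
      have hle : (⨆ j, f j) ≤ Subgroup.centralizer ({i} : Set G) := by
        apply iSup_le
        intro j x hx
        rw [Subgroup.mem_centralizer_iff]
        intro z hz
        rw [Set.mem_singleton_iff.1 hz]
        calc i * x = (i * x * i⁻¹) * i := by group
          _ = x * i := by rw [hic j x hx]
      rw [Subgroup.mem_centralizer_iff]
      intro x hx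
      exact ((Subgroup.mem_centralizer_iff.1 (hle hx)) i rfl).symm
    rw [hbot'] at hmem
    exact Subgroup.mem_bot.1 hmem
  obtain ⟨a, haA, hainv, hacent, hagen⟩ :=
    Cfsg.Agent.Lib.Helper4.ea_dual_basis A d f hI2 hAd hne hfpm hfaithf
  refine ⟨fun j => Subgroup.zpowers (a j), f, fun j => Nat.card (f j), ?_, hagen, ?_⟩
  · intro j
    have ha1 : a j ≠ 1 := by
      intro h
      obtain ⟨x, hx, hxne⟩ := hne j
      apply hxne
      have := hainv j x hx
      rw [h] at this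
      simpa using this
    have hoddj : Odd (Nat.card (f j)) := Odd.of_dvd_nat hLodd (Subgroup.card_dvd_of_le (hfL j))
    refine ⟨?_, ?_, hfL j, hoddj, ?_, ?_⟩
    · show Subgroup.zpowers (a j) ≤ A
      rw [Subgroup.zpowers_le]; exact haA j
    · show Nat.card (Subgroup.zpowers (a j)) = 2
      rw [Nat.card_zpowers]
      haveI : Fact (Nat.Prime 2) := ⟨Nat.prime_two⟩
      exact orderOf_eq_prime (by rw [pow_two]; exact hI2 _ (haA j)) ha1
    · show 3 ≤ Nat.card (f j)
      have h2 := (hfp j).two_le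
      obtain ⟨r, hr⟩ := hoddj
      omega
    · obtain ⟨⟨l, hl⟩, hlne⟩ := Subgroup.ne_bot_iff_exists_ne_one.1 (hbot j)
      have hl1 : l ≠ 1 := fun h => hlne (Subtype.ext h)
      have hlord : orderOf l = Nat.card (f j) := by
        have hdvd : orderOf l ∣ Nat.card (f j) := by
          have := orderOf_dvd_natCard (⟨l, hl⟩ : ↥(f j))
          rwa [Subgroup.orderOf_mk] at this
        rcases (Nat.dvd_prime (hfp j)).1 hdvd with h | h
        · exact absurd (orderOf_eq_one_iff.1 h) hl1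
        · exact h
      have hlgen : Subgroup.zpowers l = f j := by
        apply Subgroup.eq_of_le_of_card_ge
        · rw [Subgroup.zpowers_le]; exact hl
        · rw [Nat.card_zpowers, hlord]
      have hll : l * l ≠ 1 := fun h => hl1 (hoddL l (hfL j hl) h)
      have := Cfsg.Agent.Lib.Helper4.ea_dihedral (a j) l (hI2 _ (haA j)) (hainv j l hl) hll
      rw [hlgen, hlord] at this
      exact this
  · intro j k hjk x hx y hy
    have hle : Subgroup.zpowers (a j) ⊔ f j ≤
        Subgroup.centralizer ((Subgroup.zpowers (a k) ⊔ f k : Subgroup G) : Set G) := by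
      apply sup_le
      · rw [Subgroup.zpowers_le, Cfsg.Agent.Lib.Helper4.ea_mem_centralizer_sup]
        constructor
        · intro z hz
          exact hIc _ (haA j) _ ((Subgroup.zpowers_le.2 (haA k)) hz)
        · intro z hz
          calc a j * z = (a j * z * (a j)⁻¹) * a j := by group
            _ = z * a j := by rw [hacent j k hjk z hz]
      · intro l hl
        rw [Cfsg.Agent.Lib.Helper4.ea_mem_centralizer_sup]
        constructor
        · intro z hz
          have hcomm : Commute (a k) l := by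
            show a k * l = l * a k
            calc a k * l = (a k * l * (a k)⁻¹) * a k := by group
              _ = l * a k := by rw [hacent k j hjk.symm l hl]
          obtain ⟨m, rfl⟩ := Subgroup.mem_zpowers_iff.1 hz
          exact ((hcomm.zpow_left m).eq).symm
        · intro z hz
          exact hA₀c _ (hfA₀ j hl) _ (hfA₀ k hz)
    have := Subgroup.mem_centralizer_iff.1 (hle hx) y hy
    exact this.symm

end Cfsg.Agent.S1349
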