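import Cfsg.Statements.S1387
import Mathlib
import Cfsg.Agent.Lib.Helper6.TypeP

set_option autoImplicit false
open Cfsg

namespace Cfsg.Agent.S1387

open Cfsg.Agent.Lib.Helper6.TypeP

theorem main1387 {G : Type*} [Group G] [Finite G] (M W₁ U W₂ : Subgroup G) (hP : Cfsg.IsTypePWith M W₁ U W₂) :
    Cfsg.fittingOf M = Cfsg.fittingHallOf M ⊔ (U ⊓ Subgroup.centralizer (Cfsg.fittingHallOf M : Set G)) := by
  obtain ⟨hHM', hUM', hHU, hprod⟩ := hP.U_compl
  have hM'M : ⁅M, M⁆ ≤ M := Subgroup.commutator_le_self M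
  have hHF : fittingHallOf M ≤ fittingOf M := by rw [← hP.fitting_eq]; exact le_sup_left
  apply le_antisymm
  · rw [← hP.fitting_eq]
    apply sup_le le_sup_left
    intro x hx
    have hxF : x ∈ fittingOf M := by rw [← hP.fitting_eq]; exact Subgroup.mem_sup_right hx
    obtain ⟨h, hh, u, hu, rfl⟩ := hprod x (hP.fitting_le hxF)
    have huF : u ∈ fittingOf M := by
      have := (fittingOf M).mul_mem ((fittingOf M).inv_mem (hHF hh)) hxF
      simpa using this
    exact Subgroup.mul_mem _ (Subgroup.mem_sup_left hh)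
      (Subgroup.mem_sup_right ⟨hu, typeP_inf_le M W₁ U W₂ hP ⟨huF, hu⟩⟩)
  · rw [← hP.fitting_eq]
    exact sup_le_sup_left (inf_le_inf_right _ (hUM'.trans hM'M)) _


/-- Let M be a subgroup of a finite group G with type-P data (W₁, U, W₂) and H = M_F. Then the Fitting subgroup F(M) is generated by H and the centralizer of H in U. -/
theorem result {G : Type*} [Group G] [Finite G] (M W₁ U W₂ : Subgroup G) (hP : Cfsg.IsTypePWith M W₁ U W₂) :
    Cfsg.fittingOf M = Cfsg.fittingHallOf M ⊔ (U ⊓ Subgroup.centralizer (Cfsg.fittingHallOf M : Set G)) := by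
  exact main1387 M W₁ U W₂ hP

end Cfsg.Agent.S1387
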