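import Cfsg.Statements.S1388
import Mathlib
import Cfsg.Agent.Lib.Helper6.TypeP

set_option autoImplicit false
open Cfsg

namespace Cfsg.Agent.S1388

open Cfsg.Agent.Lib.Helper6.TypeP

theorem main1388 {G : Type*} [Group G] [Finite G] (M W₁ U W₂ : Subgroup G) (hP : Cfsg.IsTypePWith M W₁ U W₂) :
    ⁅U, U⁆ ≤ Subgroup.centralizer (Cfsg.fittingHallOf M : Set G) ∧ (U ≠ ⊥ → ¬ U ≤ Subgroup.centralizer (Cfsg.fittingHallOf M : Set G)) := by
  obtain ⟨hHM', hUM', hHU, hprod⟩ := hP.U_compl
  obtain ⟨hM'M_, hW1M, hM'W1, hprod2⟩ := hP.W₁_compl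
  have hUM : U ≤ M := hUM'.trans hM'M_
  refine ⟨?_, ?_⟩
  · refine le_trans ?_ (typeP_inf_le M W₁ U W₂ hP)
    apply le_inf
    · calc ⁅U, U⁆ ≤ ⁅⁅M, M⁆, ⁅M, M⁆⁆ := Subgroup.commutator_mono hUM' hUM'
        _ ≤ _ := hP.derived_two_le
        _ = fittingOf M := hP.fitting_eq
    · exact Subgroup.commutator_le_self U
  · intro hUne hUC
    have hMN : M ≤ Subgroup.normalizer (U : Set G) := by
      intro m hm
      obtain ⟨m', hm', w, hw, rfl⟩ := hprod2 m hm
      obtain ⟨h, hh, u, hu, rfl⟩ := hprod m' hm'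
      refine Subgroup.mul_mem _ (Subgroup.mul_mem _ ?_ (Subgroup.le_normalizer hu)) (hP.U_normal hw)
      apply Subgroup.centralizer_le_normalizer
      refine Subgroup.mem_centralizer_iff.2 ?_
      intro u' hu'
      have := Subgroup.mem_centralizer_iff.1 (hUC hu') h hh
      exact this.symm
    haveI hnorm : (U.subgroupOf M).Normal :=
      (Subgroup.normal_subgroupOf_iff_le_normalizer hUM).2 hMN
    have hnil : Group.IsNilpotent ↥(U.subgroupOf M) := by
      haveI := hP.U_nilpotent
      exact Group.nilpotent_of_mulEquiv (Subgroup.subgroupOfEquivOfLe hUM).symm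
    have hcardU : Nat.card (U.subgroupOf M) = Nat.card U :=
      Nat.card_congr (Subgroup.subgroupOfEquivOfLe hUM).toEquiv
    have hcop : (Nat.card (U.subgroupOf M)).Coprime (U.subgroupOf M).index := by
      rw [hcardU]
      have hc1 := card_of_isComplIn hP.U_compl
      have hc2 := card_of_isComplIn hP.W₁_compl
      have hidx : (U.subgroupOf M).index = Nat.card (fittingHallOf M) * Nat.card W₁ := by
        have h1 := Subgroup.relIndex_mul_relIndex ⊥ U M bot_le hUM
        rw [Subgroup.relIndex_bot_left, Subgroup.relIndex_bot_left, hc2, hc1] at h1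
        have hpos : 0 < Nat.card U := Nat.card_pos
        apply Nat.eq_of_mul_eq_mul_left hpos
        show Nat.card U * U.relIndex M = _
        rw [h1]; ring
      rw [hidx]
      have hcH := (typeP_coprime M W₁ U W₂ hP).symm
      have hcW : (Nat.card U).Coprime (Nat.card W₁) := by
        have hrel : W₁.relIndex M = Nat.card (⁅M, M⁆ : Subgroup G) := by
          have h1 := Subgroup.relIndex_mul_relIndex ⊥ W₁ M bot_le hW1M
          rw [Subgroup.relIndex_bot_left, Subgroup.relIndex_bot_left, hc2] at h1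
          exact Nat.eq_of_mul_eq_mul_left Nat.card_pos (h1.trans (mul_comm _ _))
        have := hP.W₁_hall
        rw [hrel, hc1] at this
        exact (Nat.Coprime.coprime_dvd_right (dvd_mul_left _ _) this).symm
      exact Nat.Coprime.mul_right hcH hcW
    have hle : U.subgroupOf M ≤ fittingHall ↥M := le_sSup ⟨hnorm, hnil, hcop⟩
    have hUH : U ≤ fittingHallOf M := by
      intro u hu
      exact ⟨⟨u, hUM hu⟩, hle (Subgroup.mem_subgroupOf.2 hu), rfl⟩
    apply hUne
    rw [eq_bot_iff, ← hHU]
    exact le_inf hUH le_rfl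


/-- Let M be a subgroup of a finite group G with type-P data (W₁, U, W₂) and H = M_F. Then the derived subgroup of U centralizes H, and if U ≠ 1 then U does not centralize H. -/
theorem result {G : Type*} [Group G] [Finite G] (M W₁ U W₂ : Subgroup G) (hP : Cfsg.IsTypePWith M W₁ U W₂) :
    ⁅U, U⁆ ≤ Subgroup.centralizer (Cfsg.fittingHallOf M : Set G) ∧ (U ≠ ⊥ → ¬ U ≤ Subgroup.centralizer (Cfsg.fittingHallOf M : Set G)) := by
  exact main1388 M W₁ U W₂ hP

end Cfsg.Agent.S1388
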