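import Mathlib
import Cfsg.Statements.S1395
import Cfsg.Agent.Lib.Helper3.Transit5

set_option autoImplicit false
set_option linter.style.haveILetI false
open Cfsg
open Cfsg.Agent.Lib.Helper3
open scoped commutatorElement

namespace Cfsg.Agent.S1395

/-- Let G be a minimal simple group of odd order, A a subgroup satisfying the transitivity hypothesis with K = O_{π(A)'}(C_G(A)), q a prime not dividing the order of A, and P a proper subgroup all of whose prime divisors divide the order of A, containing A as a subnormal subgroup, such that any two maximal A-invariant q-subgroups are conjugate under K. Then (a) K ∩ C_G(P) = O_{π(A)'}(C_G(P)); (b) any two maximal P-invariant q-subgroups are conjugate under O_{π(A)'}(C_G(P)); (c) every maximal P-invariant q-subgroup is a maximal A-invariant q-subgroup; (d) for every maximal P-invariant q-subgroup Q, P ∩ N_G(P)' ≤ N_G(Q)' and N_G(P) is generated by O_{π(A)'}(C_G(P))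 and N_G(P) ∩ N_G(Q). -/
theorem result {G : Type*} [Group G] [Finite G] (hG : Cfsg.IsMinSimpleOddOrder G)
    (A : Subgroup G) (hA : Cfsg.TransitivityHypothesis A) (q : ℕ) (hq : q.Prime) (hqA : ¬ q ∣ Nat.card A)
    (P : Subgroup G) (hP : P ≠ ⊤) (hPπ : (∀ r : ℕ, r.Prime → r ∣ Nat.card P → r ∣ Nat.card A)) (hAP : A ≤ P) (hsn : (A.subgroupOf P).IsSubnormal)
    (htr : ∀ Q₁ ∈ Cfsg.maxInvSubgroups ⊤ A {q}, ∀ Q₂ ∈ Cfsg.maxInvSubgroups ⊤ A {q}, ∃ k ∈ Cfsg.piCoreOf (Cfsg.primesNotDvd (Nat.card A)) (Subgroup.centralizer (A : Set G)), Q₂ = Q₁.map (MulAut.conj k).toMonoidHom) :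
    Cfsg.piCoreOf (Cfsg.primesNotDvd (Nat.card A)) (Subgroup.centralizer (A : Set G)) ⊓ Subgroup.centralizer (P : Set G) = Cfsg.piCoreOf (Cfsg.primesNotDvd (Nat.card A)) (Subgroup.centralizer (P : Set G)) ∧
      (∀ Q₁ ∈ Cfsg.maxInvSubgroups ⊤ P {q}, ∀ Q₂ ∈ Cfsg.maxInvSubgroups ⊤ P {q}, ∃ k ∈ Cfsg.piCoreOf (Cfsg.primesNotDvd (Nat.card A)) (Subgroup.centralizer (P : Set G)), Q₂ = Q₁.map (MulAut.conj k).toMonoidHom) ∧
      Cfsg.maxInvSubgroups ⊤ P {q} ⊆ Cfsg.maxInvSubgroups ⊤ A {q} ∧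
      ∀ Q ∈ Cfsg.maxInvSubgroups ⊤ P {q},
        P ⊓ ⁅Subgroup.normalizer (P : Set G), Subgroup.normalizer (P : Set G)⁆ ≤ ⁅Subgroup.normalizer (Q : Set G), Subgroup.normalizer (Q : Set G)⁆ ∧
        Subgroup.normalizer (P : Set G) = Cfsg.piCoreOf (Cfsg.primesNotDvd (Nat.card A)) (Subgroup.centralizer (P : Set G)) ⊔ (Subgroup.normalizer (P : Set G) ⊓ Subgroup.normalizer (Q : Set G)) := by
  obtain ⟨hodd, hsimple, hnc, hsolv⟩ := hG
  obtain ⟨hA1, hA2, hTH⟩ := hA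
  haveI : Fact q.Prime := ⟨hq⟩
  obtain ⟨π', hπ'⟩ : ∃ π' : Set ℕ, π' = Cfsg.primesNotDvd (Nat.card ↥A) := ⟨_, rfl⟩
  rw [← hπ'] at hTH htr ⊢
  have hqπ : q ∈ π' := by rw [hπ']; exact ⟨hq, hqA⟩
  have hπP : ∀ t ∈ π', ¬ t ∣ Nat.card ↥P := by
    intro t ht hd
    rw [hπ'] at ht
    exact ht.2 (hPπ t ht.1 hd)
  have hTHle : THle π' A := by
    intro X hX hAX Y hY
    rw [← hTH X hX hAX]
    exact le_sSup hY
  have htrA : TransQ π' q A := by
    intro Q₁ Q₂ h₁ h₂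
    exact htr Q₁ ((mem_maxInv_iff A q Q₁).mpr h₁) Q₂ ((mem_maxInv_iff A q Q₂).mpr h₂)
  have hAeq : (A.subgroupOf P).map P.subtype = A := by
    rw [Subgroup.subgroupOf_map_subtype]; exact inf_of_le_left hAP
  have hchain := subnormal_chain π' hqπ hsimple hsolv P hP hπP (A.subgroupOf P) hsn
  rw [hAeq] at hchain
  obtain ⟨c1, c2, c3⟩ := hchain hA1 hTHle htrA
  refine ⟨c1, ?_, ?_, ?_⟩
  · intro Q₁ h₁ Q₂ h₂
    exact c2 Q₁ Q₂ ((mem_maxInv_iff P q Q₁).mp h₁) ((mem_maxInv_iff P q Q₂).mp h₂)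
  · intro Q hQ
    exact (mem_maxInv_iff A q Q).mpr (c3 Q ((mem_maxInv_iff P q Q).mp hQ))
  · intro Q hQ
    exact part_d π' P hπP c2 Q ((mem_maxInv_iff P q Q).mp hQ)

end Cfsg.Agent.S1395
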