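import Cfsg.Statements.S1441

set_option autoImplicit false
open Cfsg

namespace Cfsg.Agent.S1441

open scoped commutatorElement

/-- Let G be a finite group, H a solvable subgroup and A a subgroup normalizing H. Suppose there is a chain H = H₀ ≥ H₁ ≥ ⋯ ≥ H_n = 1 of subgroups normal in H and normalized by A such that A acts trivially on each factor H_{i-1}/H_i (that is, [H_{i-1}, A] ≤ H_i). Then every prime dividing the index of C_A(H) in A divides the order of H. -/
theorem result {G : Type*} [Group G] [Finite G] (H A : Subgroup G) (hH : Group.IsSolvable H) (hA : (A ≤ Subgroup.normalizer (H : Set G)))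
    (n : ℕ) (c : Fin (n + 1) → Subgroup G) (hc0 : c 0 = H) (hcn : c (Fin.last n) = ⊥) (hanti : Antitone c)
    (hcN : ∀ i, H ≤ Subgroup.normalizer ((c i : Subgroup G) : Set G)) (hcA : ∀ i, A ≤ Subgroup.normalizer ((c i : Subgroup G) : Set G))
    (htriv : ∀ i : Fin n, ⁅c i.castSucc, A⁆ ≤ c i.succ) :
    ∀ p : ℕ, p.Prime → p ∣ (A ⊓ Subgroup.centralizer (H : Set G)).relIndex A → p ∣ Nat.card H := by
  classical
  intro p hp hdvd
  by_contra hpH
  have : Fact p.Prime := ⟨hp⟩
  -- every p-element a of A centralizes every c i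
  have hci_le : ∀ i, c i ≤ H := by
    intro i
    rw [← hc0]
    exact hanti (Fin.zero_le i)
  have key : ∀ a ∈ A, (∃ k : ℕ, a ^ p ^ k = 1) → ∀ i : Fin (n + 1), ∀ h ∈ c i, a * h = h * a := by
    intro a ha hak
    obtain ⟨k, hk⟩ := hak
    -- downward induction
    have hrev : ∀ j : ℕ, ∀ hj : j ≤ n, ∀ h ∈ c ⟨n - j, by omega⟩, a * h = h * a := by
      intro j
      induction j with
      | zero =>
        intro hj h hh
        have : (⟨n - 0, by omega⟩ : Fin (n + 1)) = Fin.last n := by
          apply Fin.ext; simp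
        rw [this, hcn, Subgroup.mem_bot] at hh
        rw [hh, mul_one, one_mul]
      | succ j ih =>
        intro hj h hh
        have ih' := ih (by omega)
        -- index i = n - (j+1), i+1 = n - j
        set i : Fin n := ⟨n - (j + 1), by omega⟩ with hi
        have hcast : (⟨n - (j + 1), by omega⟩ : Fin (n + 1)) = i.castSucc := by
          apply Fin.ext; simp [hi]
        have hsucc : (⟨n - j, by omega⟩ : Fin (n + 1)) = i.succ := by
          apply Fin.ext; simp [hi]; omega
        rw [hcast] at hh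
        rw [hsucc] at ih'
        -- z = h⁻¹ * a * h * a⁻¹ ... use commutator ⁅h, a⁆ = h * a * h⁻¹ * a⁻¹ ∈ c i.succ
        have hz : ⁅h, a⁆ ∈ c i.succ := htriv i (Subgroup.commutator_mem_commutator hh ha)
        -- a commutes with z := ⁅h, a⁆
        have hza := ih' _ hz
        -- a h a⁻¹ = z⁻¹ h ... ; we show by induction a^m * h * a^(-m) = (z⁻¹)^m * h
        have hconj : a * h * a⁻¹ = ⁅h, a⁆⁻¹ * h := by
          rw [commutatorElement_def]; group
        have hpow : ∀ m : ℕ, a ^ m * h * (a ^ m)⁻¹ = (⁅h, a⁆⁻¹) ^ m * h := by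
          intro m
          induction m with
          | zero => simp
          | succ m ihm =>
            have hcz : a * (⁅h, a⁆⁻¹) ^ m = (⁅h, a⁆⁻¹) ^ m * a := by
              have h1 : Commute a ⁅h, a⁆ := hza
              exact (h1.inv_right.pow_right m).eq
            calc a ^ (m + 1) * h * (a ^ (m + 1))⁻¹ = a * (a ^ m * h * (a ^ m)⁻¹) * a⁻¹ := by
                  rw [pow_succ']; group
              _ = a * ((⁅h, a⁆⁻¹) ^ m * h) * a⁻¹ := by rw [ihm]
              _ = (a * (⁅h, a⁆⁻¹) ^ m) * h * a⁻¹ := by group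
              _ = ((⁅h, a⁆⁻¹) ^ m * a) * h * a⁻¹ := by rw [hcz]
              _ = (⁅h, a⁆⁻¹) ^ m * (a * h * a⁻¹) := by group
              _ = (⁅h, a⁆⁻¹) ^ m * (⁅h, a⁆⁻¹ * h) := by rw [hconj]
              _ = (⁅h, a⁆⁻¹) ^ (m + 1) * h := by rw [pow_succ]; group
        have h1 := hpow (p ^ k)
        rw [hk] at h1
        simp only [one_mul, inv_one, mul_one] at h1
        -- so (z⁻¹)^(p^k) = 1
        have h2 : (⁅h, a⁆⁻¹) ^ (p ^ k) = 1 := by
          have : (⁅h, a⁆⁻¹) ^ (p ^ k) * h = 1 * h := by rw [one_mul]; exact h1.symm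
          exact mul_right_cancel this
        -- order of z⁻¹ divides p^k and divides |H| (z ∈ H)
        have hzH : ⁅h, a⁆⁻¹ ∈ H := H.inv_mem (hci_le _ hz)
        have hord1 : orderOf (⁅h, a⁆⁻¹) ∣ p ^ k := orderOf_dvd_of_pow_eq_one h2
        have hord2 : orderOf (⁅h, a⁆⁻¹) ∣ Nat.card H := by
          have := orderOf_dvd_natCard (⟨⁅h, a⁆⁻¹, hzH⟩ : H)
          rwa [Subgroup.orderOf_mk] at this
        have hcop : Nat.Coprime (p ^ k) (Nat.card H) :=
          Nat.Coprime.pow_left k ((Nat.Prime.coprime_iff_not_dvd hp).mpr hpH)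
        have hord : orderOf (⁅h, a⁆⁻¹) = 1 := Nat.eq_one_of_dvd_coprimes hcop hord1 hord2
        have hz1 : ⁅h, a⁆⁻¹ = 1 := orderOf_eq_one_iff.mp hord
        rw [hz1, one_mul] at hconj
        calc a * h = (a * h * a⁻¹) * a := by group
          _ = h * a := by rw [hconj]
    intro i h hh
    have := hrev (n - i.val) (by omega) h
    have hidx : (⟨n - (n - i.val), by omega⟩ : Fin (n + 1)) = i := by
      apply Fin.ext
      simp only
      have := i.isLt
      omega
    rw [hidx] at this
    exact this hh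
  -- Sylow p-subgroup of A lies in A ⊓ C(H)
  obtain ⟨P⟩ : Nonempty (Sylow p A) := Sylow.nonempty
  have hPle : (P : Subgroup A) ≤ (A ⊓ Subgroup.centralizer (H : Set G)).subgroupOf A := by
    intro a haP
    rw [Subgroup.mem_subgroupOf]
    refine ⟨a.2, ?_⟩
    change (a : G) ∈ Subgroup.centralizer (H : Set G)
    rw [Subgroup.mem_centralizer_iff]
    intro h hh
    have hak : ∃ k : ℕ, (a : G) ^ p ^ k = 1 := by
      obtain ⟨k, hk⟩ := P.isPGroup' ⟨a, haP⟩
      refine ⟨k, ?_⟩
      have := congrArg (fun z : (P : Subgroup A) => ((z : A) : G)) hk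
      simpa using this
    have hh' : h ∈ c 0 := by rw [hc0]; exact hh
    exact (key (a : G) a.2 hak 0 h hh').symm
  have hnd : ¬ p ∣ ((A ⊓ Subgroup.centralizer (H : Set G)).subgroupOf A).index := by
    intro hd
    exact P.not_dvd_index (hd.trans (Subgroup.index_dvd_of_le hPle))
  exact hnd hdvd

end Cfsg.Agent.S1441
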