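import Cfsg.Statements.S1442
import Cfsg.Agent.Lib.Helper5.CopGen3
import Cfsg.Agent.S0027

set_option autoImplicit false
open Cfsg

namespace Cfsg.Agent.S1442

open scoped commutatorElement

/-- In a nilpotent subgroup `S`, proper subgroups are properly contained in their normalizers. -/
theorem lt_inf_normalizer_of_lt_nilpotent {G : Type*} [Group G] (S : Subgroup G)
    (hnil : Group.IsNilpotent S) (C : Subgroup G) (hCS : C < S) :
    C < S ⊓ Subgroup.normalizer (C : Set G) := by
  have hNC : NormalizerCondition S := Group.normalizerCondition_of_isNilpotent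
  have hlt : C.subgroupOf S < ⊤ := by
    rw [lt_top_iff_ne_top, Ne, Subgroup.subgroupOf_eq_top]
    exact not_le_of_gt hCS
  have h2 := hNC _ hlt
  obtain ⟨y, hyN, hyC⟩ := SetLike.exists_of_lt h2
  have hle : C ≤ S ⊓ Subgroup.normalizer (C : Set G) := le_inf hCS.le Subgroup.le_normalizer
  apply lt_of_le_of_ne hle
  intro heq
  apply hyC
  rw [Subgroup.mem_subgroupOf, heq]
  refine ⟨y.2, ?_⟩
  show (y : G) ∈ Subgroup.normalizer (C : Set G)
  rw [Subgroup.mem_normalizer_iff]
  intro c
  rw [Subgroup.mem_normalizer_iff] at hyN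
  constructor
  · intro hc
    have := (hyN ⟨c, hCS.le hc⟩).1 (by rw [Subgroup.mem_subgroupOf]; exact hc)
    rw [Subgroup.mem_subgroupOf] at this
    simpa using this
  · intro hc
    have hcS : c ∈ S := by
      have h1 : (y : G) * c * (y : G)⁻¹ ∈ S := hCS.le hc
      have h2 : (y : G)⁻¹ * ((y : G) * c * (y : G)⁻¹) * (y : G) ∈ S :=
        S.mul_mem (S.mul_mem (S.inv_mem y.2) h1) y.2
      have h3 : (y : G)⁻¹ * ((y : G) * c * (y : G)⁻¹) * (y : G) = c := by group
      rwa [h3] at h2
    have := (hyN ⟨c, hcS⟩).2 (by rw [Subgroup.mem_subgroupOf]; simpa using hc)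
    rw [Subgroup.mem_subgroupOf] at this
    exact this

theorem result {G : Type*} [Group G] [Finite G] (H A : Subgroup G) (hH : Group.IsNilpotent H) (hA : (A ≤ Subgroup.normalizer (H : Set G))) (hcop : (Nat.card A).Coprime (Nat.card H))
    (hC : H ⊓ Subgroup.centralizer (((H ⊓ Subgroup.centralizer (A : Set G)) : Subgroup G) : Set G) ≤ (H ⊓ Subgroup.centralizer (A : Set G))) :
    A ≤ Subgroup.centralizer (H : Set G) := by
  set C : Subgroup G := H ⊓ Subgroup.centralizer (A : Set G) with hCdef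
  set N : Subgroup G := H ⊓ Subgroup.normalizer (C : Set G) with hNdef
  have hCA : C ≤ Subgroup.centralizer (A : Set G) := inf_le_right
  have hAC : A ≤ Subgroup.centralizer (C : Set G) := Subgroup.le_centralizer_iff.mp hCA
  have hANC : A ≤ Subgroup.normalizer (C : Set G) := hAC.trans (Subgroup.centralizer_le_normalizer _)
  have hAN : A ≤ Subgroup.normalizer (N : Set G) := by
    intro a ha
    apply Cfsg.Agent.Lib.Helper5.mem_normalizer_inf
    · exact hA ha
    · rw [Cfsg.Agent.Lib.Helper5.mem_normalizer_iff_map_conj,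
        ← Cfsg.Agent.Lib.Helper5.normalizer_map_conj,
        (Cfsg.Agent.Lib.Helper5.mem_normalizer_iff_map_conj C a).mp (hANC ha)]
  have hCN : ⁅C, N⁆ ≤ C := Subgroup.le_normalizer_iff_commutator_le_left.mp inf_le_right
  have hCAbot : ⁅C, A⁆ = ⊥ := Subgroup.commutator_eq_bot_iff_le_centralizer.mpr hCA
  have hACbot : ⁅A, C⁆ = ⊥ := Subgroup.commutator_eq_bot_iff_le_centralizer.mpr hAC
  -- three subgroups: H₁ = N, H₂ = A, H₃ = C
  have h1 : ⁅⁅A, C⁆, N⁆ = ⊥ := by rw [hACbot, Subgroup.commutator_bot_left]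
  have h2 : ⁅⁅C, N⁆, A⁆ = ⊥ := by
    rw [eq_bot_iff, ← hCAbot]
    exact Subgroup.commutator_mono hCN le_rfl
  have h3 : ⁅⁅N, A⁆, C⁆ = ⊥ := Subgroup.commutator_commutator_eq_bot_of_rotate h1 h2
  have hNA_N : ⁅N, A⁆ ≤ N := Subgroup.le_normalizer_iff_commutator_le_left.mp hAN
  have hNA_C : ⁅N, A⁆ ≤ C := by
    refine le_trans (le_inf (hNA_N.trans inf_le_left) ?_) hC
    exact Subgroup.commutator_eq_bot_iff_le_centralizer.mp h3
  have hNNA : ⁅⁅N, A⁆, A⁆ = ⊥ := by
    rw [eq_bot_iff, ← hCAbot]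
    exact Subgroup.commutator_mono hNA_C le_rfl
  have hcopN : (Nat.card A).Coprime (Nat.card N) :=
    Nat.Coprime.coprime_dvd_right (Subgroup.card_dvd_of_le inf_le_left) hcop
  have hNnil : Group.IsNilpotent ↥N := by
    rw [Subgroup.isNilpotent_iff_lowerCentralSeries] at hH ⊢
    obtain ⟨n, hn⟩ := hH
    exact ⟨n, by rw [eq_bot_iff, ← hn]; exact Subgroup.lowerCentralSeries_mono n inf_le_left⟩
  have hNsolv : Group.IsSolvable ↥N := inferInstance
  have h4 := Cfsg.Agent.S0027.result A N hAN hcopN (Or.inr hNsolv)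
  rw [hNNA] at h4
  have hNC : N ≤ C := by
    refine le_inf inf_le_left ?_
    rw [Subgroup.le_centralizer_iff]
    exact Subgroup.commutator_eq_bot_iff_le_centralizer.mp (by
      rw [Subgroup.commutator_comm]; exact h4.symm)
  have hCH : C = H := by
    by_contra hne
    have hlt : C < H := lt_of_le_of_ne inf_le_left hne
    have := lt_inf_normalizer_of_lt_nilpotent H hH C hlt
    exact absurd (lt_of_lt_of_le this hNC) (lt_irrefl _)
  rw [Subgroup.le_centralizer_iff, ← hCH]
  exact hCA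

end Cfsg.Agent.S1442
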