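import Mathlib
import Cfsg.Statements.S1443
import Cfsg.Agent.Lib.Helper3.OddFix

set_option autoImplicit false
open Cfsg
open Cfsg.Agent.Lib.Helper3

namespace Cfsg.Agent.S1443

/-- Let G be a finite group, p an odd prime, H a p-subgroup, E an elementary abelian subgroup of H, and A a subgroup of order coprime to p normalizing H. If A centralizes every element of order p in H ∩ C_G(E), then A centralizes H. -/
theorem result {G : Type*} [Group G] [Finite G] (p : ℕ) [Fact p.Prime] (hp : p ≠ 2) (H E A : Subgroup G) (hH : IsPGroup p H) (hE : E ≤ H) (hEe : Cfsg.IsElementaryAbelian p E)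
    (hA : (A ≤ Subgroup.normalizer (H : Set G))) (hcop : (Nat.card A).Coprime p)
    (hfix : ∀ x ∈ (H ⊓ Subgroup.centralizer (E : Set G)), orderOf x = p → A ≤ Subgroup.centralizer ({x} : Set G)) :
    A ≤ Subgroup.centralizer (H : Set G) := by
  have hpp : p.Prime := Fact.out
  by_contra hne
  have hEp : IsPGroup p ↥E := hH.to_le hE
  have hEab : ∀ e₁ ∈ E, ∀ e₂ ∈ E, e₁ * e₂ = e₂ * e₁ := by
    intro e₁ h₁ e₂ h₂
    have := hEe.1.is_comm.comm (⟨e₁, h₁⟩ : E) ⟨e₂, h₂⟩
    exact congrArg Subtype.val this
  -- A centralizes E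
  have hAE : ∀ a ∈ A, ∀ e ∈ E, e * a = a * e := by
    intro a ha e he
    by_cases h1 : e = 1
    · rw [h1]; simp
    · have ho : orderOf e = p := orderOf_eq_prime (hEe.2 e he) h1
      have hmem : e ∈ H ⊓ Subgroup.centralizer (E : Set G) := by
        refine ⟨hE he, ?_⟩
        show e ∈ Subgroup.centralizer (E : Set G)
        rw [Subgroup.mem_centralizer_iff]
        intro e' he'
        exact hEab e' he' e he
      have := hfix e hmem ho ha
      exact Subgroup.mem_centralizer_iff.mp this e rfl
  have hEA : E ≤ Subgroup.normalizer (A : Set G) := by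
    intro e he
    have : e ∈ Subgroup.centralizer (A : Set G) := by
      rw [Subgroup.mem_centralizer_iff]
      intro a ha
      exact (hAE a ha e he).symm
    exact Subgroup.centralizer_le_normalizer _ this
  have hEH : E ≤ Subgroup.normalizer (H : Set G) := hE.trans Subgroup.le_normalizer
  obtain ⟨w, hwH, hwo, hwE, hwA⟩ := exists_fixed_not_fixed_odd hp hH hcop hEp hA hEH hEA hne
  apply hwA
  have h1 := hfix w ⟨hwH, hwE⟩ hwo
  rw [Subgroup.mem_centralizer_iff]
  intro a ha
  exact (Subgroup.mem_centralizer_iff.mp (h1 ha) w rfl).symm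

end Cfsg.Agent.S1443
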