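import Cfsg.Statements.S1457
import Cfsg.Agent.Lib.Helper4.QuadPairA
import Cfsg.Agent.Lib.Helper4.QuadPairB
import Cfsg.Agent.Lib.Helper3.PSolv2
import Cfsg.Agent.Lib.Helper3.PComp
import Cfsg.Agent.Lib.Helper3.SolvPSolv
import Cfsg.Agent.Lib.Helper7.PSolvable

set_option autoImplicit false
open Cfsg

namespace Cfsg.Agent.S1457

/-- Let G be a solvable group of odd order, p a prime, S a Sylow p-subgroup of G and A an abelian subgroup of S normal in S. Then A ≤ O_{p',p}(G). -/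
theorem result {G : Type*} [Group G] [Finite G] [Group.IsSolvable G] (hodd : Odd (Nat.card G)) (p : ℕ) [Fact p.Prime] (S : Sylow p G) (A : Subgroup G) (hA : A ≤ (S : Subgroup G)) (hAc : IsMulCommutative A)
    (hAn : (S : Subgroup G) ≤ Subgroup.normalizer (A : Set G)) :
    A ≤ Cfsg.pPrimePCore p G := by
  classical
  have hpp := (Fact.out : p.Prime)
  by_cases hp2 : p = 2
  · subst hp2
    intro a ha
    have haS := hA ha
    obtain ⟨k, hk⟩ := S.2 ⟨a, haS⟩
    have h1 : a ^ (2 ^ k) = 1 := by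
      have := congrArg Subtype.val hk
      rw [Subgroup.coe_pow, Subgroup.coe_one] at this
      exact this
    have h2 : a ^ (Nat.card G) = 1 := pow_card_eq_one'
    have h3 : a ^ (Nat.gcd (2 ^ k) (Nat.card G)) = 1 := pow_gcd_eq_one.2 ⟨h1, h2⟩
    have h4 : Nat.gcd (2 ^ k) (Nat.card G) = 1 :=
      Nat.Coprime.pow_left k (Nat.coprime_two_left.2 hodd)
    rw [h4, pow_one] at h3
    rw [h3]
    exact Subgroup.one_mem _
  · haveI hNn : (Cfsg.pPrimeCore p G).Normal := inferInstance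
    have hsolG : Cfsg.IsPSolvable p G :=
      Cfsg.Agent.Lib.Helper3.isPSolvable_of_isSolvable p _ G rfl inferInstance
    have hsol : Cfsg.IsPSolvable p (G ⧸ Cfsg.pPrimeCore p G) :=
      Cfsg.Agent.Lib.Helper7.isPSolvable_quotient hpp hsolG _
    have hF1 : Cfsg.pPrimeCore p (G ⧸ Cfsg.pPrimeCore p G) = ⊥ :=
      Cfsg.Agent.Lib.Helper3.pPrimeCore_quotient_eq_bot p
    have hHH := Cfsg.Agent.Lib.Helper3.centralizer_pCore_le_of_psolvable_quotient hsolG
      (Cfsg.pPrimeCore p G) hF1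
    have hno : ¬ (p = 3 ∧ Cfsg.Involves (Matrix.SpecialLinearGroup (Fin 2) (ZMod 3))
        (G ⧸ Cfsg.pPrimeCore p G)) := by
      rintro ⟨-, hinv⟩
      obtain ⟨y, hy⟩ := Cfsg.Agent.Lib.Helper4.qp_order4_of_involves hinv
      have h1 : 4 ∣ Nat.card (G ⧸ Cfsg.pPrimeCore p G) := hy ▸ orderOf_dvd_natCard y
      have h2 : Nat.card (G ⧸ Cfsg.pPrimeCore p G) ∣ Nat.card G :=
        Subgroup.card_quotient_dvd_card _
      have h3 : 2 ∣ Nat.card G := (dvd_trans (by norm_num : 2 ∣ 4) h1).trans h2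
      exact (Nat.not_even_iff_odd.2 hodd) (even_iff_two_dvd.2 h3)
    set N := Cfsg.pPrimeCore p G with hNdef
    obtain ⟨Q, hQdef⟩ : ∃ Q : Subgroup (G ⧸ N), Q = Cfsg.pCore p (G ⧸ N) := ⟨_, rfl⟩
    haveI hQn : Q.Normal := hQdef ▸ Cfsg.Agent.Lib.Helper4.pCore_normal p
    have hQp : IsPGroup p Q := hQdef ▸ Cfsg.Agent.Lib.Helper4.pCore_isPGroup
    rw [← hQdef] at hHH
    intro a ha
    show a ∈ (Cfsg.pCore p (G ⧸ N)).comap (QuotientGroup.mk' N)
    rw [Subgroup.mem_comap, ← hQdef]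
    have hQS : Q ≤ (S : Subgroup G).map (QuotientGroup.mk' N) := by
      have := Cfsg.Agent.Lib.Helper4.pCore_le_sylow
        (S.mapSurjective (QuotientGroup.mk'_surjective N))
      rw [hQdef]
      exact this
    have hq0 : ⁅⁅Q, Subgroup.zpowers (QuotientGroup.mk' N a)⁆,
        Subgroup.zpowers (QuotientGroup.mk' N a)⁆ = ⊥ := by
      rw [eq_bot_iff]
      have hzA : Subgroup.zpowers (QuotientGroup.mk' N a) ≤ A.map (QuotientGroup.mk' N) := by
        rw [Subgroup.zpowers_le]; exact Subgroup.mem_map.2 ⟨a, ha, rfl⟩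
      have h1 : ⁅Q, A.map (QuotientGroup.mk' N)⁆ ≤ A.map (QuotientGroup.mk' N) := by
        rw [Subgroup.commutator_le]
        intro x hx y hy
        obtain ⟨s, hs, rfl⟩ := Subgroup.mem_map.1 (hQS hx)
        obtain ⟨b, hb, rfl⟩ := Subgroup.mem_map.1 hy
        rw [← map_commutatorElement]
        refine Subgroup.mem_map.2 ⟨_, ?_, rfl⟩
        rw [commutatorElement_def]
        exact Subgroup.mul_mem _ ((Subgroup.mem_normalizer_iff.1 (hAn hs) b).1 hb)
          (Subgroup.inv_mem _ hb)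
      have h2 : ⁅A.map (QuotientGroup.mk' N), A.map (QuotientGroup.mk' N)⁆ = ⊥ := by
        rw [eq_bot_iff, Subgroup.commutator_le]
        intro x hx y hy
        obtain ⟨b, hb, rfl⟩ := Subgroup.mem_map.1 hx
        obtain ⟨c, hc, rfl⟩ := Subgroup.mem_map.1 hy
        rw [Subgroup.mem_bot, commutatorElement_eq_one_iff_commute]
        have hbc : b * c = c * b := by
          have := hAc.is_comm.comm ⟨b, hb⟩ ⟨c, hc⟩
          exact congrArg Subtype.val this
        show QuotientGroup.mk' N b * QuotientGroup.mk' N c =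
          QuotientGroup.mk' N c * QuotientGroup.mk' N b
        rw [← map_mul, ← map_mul, hbc]
      calc ⁅⁅Q, Subgroup.zpowers (QuotientGroup.mk' N a)⁆,
            Subgroup.zpowers (QuotientGroup.mk' N a)⁆
          ≤ ⁅⁅Q, A.map (QuotientGroup.mk' N)⁆, A.map (QuotientGroup.mk' N)⁆ :=
            Subgroup.commutator_mono (Subgroup.commutator_mono le_rfl hzA) hzA
        _ ≤ ⁅A.map (QuotientGroup.mk' N), A.map (QuotientGroup.mk' N)⁆ :=
            Subgroup.commutator_mono h1 le_rfl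
        _ = ⊥ := h2
    have hsec := Cfsg.Agent.Lib.Helper4.qp_pstable_section p hp2 hsol hno Q hQp
    obtain ⟨D₁, hD₁n, hKD₁, ⟨k, hk⟩, haD₁⟩ := hsec (QuotientGroup.mk' N a)
      (by rw [hq0]; exact bot_le)
    haveI : (Subgroup.map (QuotientGroup.mk' ((frattini ↥Q).map Q.subtype)) Q).Normal :=
      hQn.map _ (QuotientGroup.mk'_surjective _)
    haveI hKn : (Cfsg.sectionKernel Q ((frattini ↥Q).map Q.subtype)).Normal := by
      unfold Cfsg.sectionKernel
      exact (inferInstance : (Subgroup.centralizer _).Normal).comap _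
    have hD₁Q : D₁ ≤ Q := by
      rw [hQdef]
      apply le_sSup
      refine ⟨hD₁n, ?_⟩
      rintro ⟨d, hd⟩
      have h1 : d ^ (p ^ k) ∈ Cfsg.sectionKernel Q ((frattini ↥Q).map Q.subtype) := by
        rw [← hk]
        exact Subgroup.pow_relIndex_mem _ hd
      obtain ⟨j, hj⟩ := Cfsg.Agent.Lib.Helper4.qp_burnside_pow p Q hQp (d ^ (p ^ k))
        (Cfsg.Agent.Lib.Helper4.qp_sectionKernel_comm _ _ _ h1)
      have h2 : (d ^ (p ^ k)) ^ (p ^ j) ∈ Q := hHH hj
      obtain ⟨i, hi⟩ := hQp ⟨_, h2⟩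
      refine ⟨k + j + i, Subtype.ext ?_⟩
      rw [Subgroup.coe_pow, Subgroup.coe_one]
      have h3 := congrArg Subtype.val hi
      rw [Subgroup.coe_pow, Subgroup.coe_one] at h3
      rw [pow_add, pow_add, pow_mul, pow_mul]
      exact h3
    exact hD₁Q haD₁

end Cfsg.Agent.S1457
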