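import Mathlib
import Cfsg.Statements.S5595
import Cfsg.Agent.Lib.Helper7.PCore
import Cfsg.Agent.Lib.Helper5.CharP
import Cfsg.Agent.Lib.Helper9.ExtraSub

set_option autoImplicit false
set_option maxHeartbeats 800000

open Cfsg

namespace Cfsg.Agent.S5595

variable {G : Type*} [Group G]

/-- the abstract data of a "large extraspecial" pair `(Q, z)`. -/
structure ES (Q : Subgroup G) (z : G) : Prop where
  z2 : z * z = 1
  zQ : z ∈ Q
  cent : ∀ u ∈ Q, u * z = z * u
  norm : ∀ a : G, a * z = z * a → ∀ u ∈ Q, a * u * a⁻¹ ∈ Q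
  ctr : ∀ u ∈ Q, (∀ v ∈ Q, u * v = v * u) → u = 1 ∨ u = z
  comm : ∀ u ∈ Q, ∀ v ∈ Q, u * v * u⁻¹ * v⁻¹ = 1 ∨ u * v * u⁻¹ * v⁻¹ = z
  sq : ∀ u ∈ Q, u * u = 1 ∨ u * u = z
  self : ∀ a : G, (∀ u ∈ Q, a * u = u * a) → a ∈ Q

/-- congruence modulo `{1, x}`. -/
def Cg (x a b : G) : Prop := a⁻¹ * b = 1 ∨ a⁻¹ * b = x

section cg
variable {x : G} (hx2 : x * x = 1)
include hx2

theorem Cg.refl' (a : G) : Cg x a a := Or.inl (by group)

theorem Cg.symm' {a b : G} (h : Cg x a b) : Cg x b a := by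
  have hxi : x⁻¹ = x := inv_eq_of_mul_eq_one_right hx2
  rcases h with h | h
  · left
    have : b⁻¹ * a = (a⁻¹ * b)⁻¹ := by group
    rw [this, h, inv_one]
  · right
    have : b⁻¹ * a = (a⁻¹ * b)⁻¹ := by group
    rw [this, h, hxi]

theorem Cg.trans' {a b c : G} (h1 : Cg x a b) (h2 : Cg x b c) : Cg x a c := by
  have e : a⁻¹ * c = (a⁻¹ * b) * (b⁻¹ * c) := by group
  unfold Cg
  rw [e]
  rcases h1 with h1 | h1 <;> rcases h2 with h2 | h2 <;> rw [h1, h2]
  · left; exact one_mul 1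
  · right; exact one_mul x
  · right; exact mul_one x
  · left; exact hx2

theorem Cg.mul_left' {a b : G} (c : G) (h : Cg x a b) : Cg x (c * a) (c * b) := by
  have e : (c * a)⁻¹ * (c * b) = a⁻¹ * b := by group
  unfold Cg
  rw [e]; exact h

theorem Cg.mul_right' {a b : G} {c : G} (hc : c * x = x * c) (h : Cg x a b) :
    Cg x (a * c) (b * c) := by
  have e : (a * c)⁻¹ * (b * c) = c⁻¹ * (a⁻¹ * b) * c := by group
  unfold Cg
  rw [e]
  rcases h with h | h
  · left; rw [h]; group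
  · right; rw [h, mul_assoc, ← hc, ← mul_assoc, inv_mul_cancel, one_mul]

end cg


theorem core {Q R : Subgroup G} {z x : G} (hQ : ES Q z) (hR : ES R x)
    (hz1 : z ≠ 1) (hx1 : x ≠ 1) (hxz : x ≠ z) (hxQ : x ∈ Q)
    (hbig : ∃ r ∈ R, r ≠ 1 ∧ r ≠ x)
    (hB : ∀ r ∈ R, r * z * r⁻¹ ≠ z * x) : z ∈ R := by
  by_contra hzR
  have hx2 := hR.z2
  have hz2 := hQ.z2
  have hxi : x⁻¹ = x := inv_eq_of_mul_eq_one_right hx2
  have hzi : z⁻¹ = z := inv_eq_of_mul_eq_one_right hz2
  have hxz' : x * z = z * x := hQ.cent x hxQ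
  have hzx' : z * x = x * z := hxz'.symm
  have hcomm1 : ∀ a b : G, a * b * a⁻¹ * b⁻¹ = 1 → a * b = b * a := by
    intro a b h
    have : a * b = (a * b * a⁻¹ * b⁻¹) * (b * a) := by group
    rw [this, h, one_mul]
  -- (A)
  have hA : ∀ r ∈ R, Cg x r (z * r * z⁻¹) → z * r * z⁻¹ = r := by
    intro r hr h
    rcases h with h | h
    · exact (inv_mul_eq_one.mp h).symm
    · exfalso
      apply hB r⁻¹ (R.inv_mem hr)
      rw [inv_inv]
      have h1 : r⁻¹ * z * r = x * z := by
        calc r⁻¹ * z * r = (r⁻¹ * (z * r * z⁻¹)) * z := by group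
          _ = x * z := by rw [h]
      rw [h1, hxz']
  -- x is not central in Q
  obtain ⟨y, hyQ, hxy⟩ : ∃ y ∈ Q, x * y * x⁻¹ * y⁻¹ = z := by
    by_contra hcon
    push Not at hcon
    have : ∀ v ∈ Q, x * v = v * x := by
      intro v hv
      rcases hQ.comm x hxQ v hv with h | h
      · exact hcomm1 _ _ h
      · exact absurd h (hcon v hv)
    rcases hQ.ctr x hxQ this with h | h
    · exact hx1 h
    · exact hxz h
  have hxyx : x * y * x⁻¹ = z * y := by
    calc x * y * x⁻¹ = (x * y * x⁻¹ * y⁻¹) * y := by group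
      _ = z * y := by rw [hxy]
  have hxy' : x * y = z * y * x := by
    calc x * y = (x * y * x⁻¹) * x := by group
      _ = z * y * x := by rw [hxyx]
  have hyz : y * z = z * y := hQ.cent y hyQ
  have hidx : ∀ v ∈ Q, v * x = x * v ∨ (y⁻¹ * v) * x = x * (y⁻¹ * v) := by
    intro v hv
    rcases hQ.comm x hxQ v hv with h | h
    · left
      exact (hcomm1 _ _ h).symm
    · right
      have hxv : x * v = z * v * x := by
        calc x * v = (x * v * x⁻¹ * v⁻¹) * v * x := by group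
          _ = z * v * x := by rw [h]
      have hxyi : x * y⁻¹ = y⁻¹ * z * x := by
        have : x * y⁻¹ * x⁻¹ = (x * y * x⁻¹)⁻¹ := by group
        calc x * y⁻¹ = (x * y⁻¹ * x⁻¹) * x := by group
          _ = (z * y)⁻¹ * x := by rw [this, hxyx]
          _ = y⁻¹ * z * x := by rw [mul_inv_rev, hzi]
      symm
      calc x * (y⁻¹ * v) = (x * y⁻¹) * v := by group
        _ = y⁻¹ * z * x * v := by rw [hxyi]
        _ = y⁻¹ * z * (x * v) := by group
        _ = y⁻¹ * z * (z * v * x) := by rw [hxv]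
        _ = y⁻¹ * (z * z) * v * x := by group
        _ = y⁻¹ * v * x := by rw [hz2, mul_one]
  -- if b commutes with P and y then b commutes with Q
  have hbQ' : ∀ b : G, (∀ v ∈ Q, v * x = x * v → b * v = v * b) → b * y = y * b →
      ∀ v ∈ Q, b * v = v * b := by
    intro b hbP hby v hv
    rcases hidx v hv with h | h
    · exact hbP v hv h
    · have h1 := hbP (y⁻¹ * v) (Q.mul_mem (Q.inv_mem hyQ) hv) h
      calc b * v = b * y * (y⁻¹ * v) := by group
        _ = y * b * (y⁻¹ * v) := by rw [hby]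
        _ = y * (b * (y⁻¹ * v)) := by group
        _ = y * ((y⁻¹ * v) * b) := by rw [h1]
        _ = v * b := by group
  have hDC1 : ∀ u ∈ Q, (∀ v ∈ Q, v * x = x * v → u * v = v * u) → u * y = y * u →
      u = 1 ∨ u = z := by
    intro u hu hP hy
    exact hQ.ctr u hu (hbQ' u hP hy)
  have hDC : ∀ u ∈ Q, (∀ v ∈ Q, v * x = x * v → u * v = v * u) →
      u = 1 ∨ u = x ∨ u = z ∨ u = x * z := by
    intro u hu hP
    by_cases hy : u * y = y * u
    · rcases hDC1 u hu hP hy with h | h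
      · exact Or.inl h
      · exact Or.inr (Or.inr (Or.inl h))
    · have huy : u * y * u⁻¹ * y⁻¹ = z := by
        rcases hQ.comm u hu y hyQ with h | h
        · exact absurd (hcomm1 _ _ h) hy
        · exact h
      have huy' : u * y = z * y * u := by
        calc u * y = (u * y * u⁻¹ * y⁻¹) * y * u := by group
          _ = z * y * u := by rw [huy]
      have hu' : x * u ∈ Q := Q.mul_mem hxQ hu
      have hP' : ∀ v ∈ Q, v * x = x * v → (x * u) * v = v * (x * u) := by
        intro v hv hvx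
        rw [mul_assoc, hP v hv hvx, ← mul_assoc, ← hvx, mul_assoc]
      have hy' : (x * u) * y = y * (x * u) := by
        calc x * u * y = x * (u * y) := by group
          _ = x * (z * y * u) := by rw [huy']
          _ = (x * z) * y * u := by group
          _ = (z * x) * y * u := by rw [hxz']
          _ = z * (x * y) * u := by group
          _ = z * (z * y * x) * u := by rw [hxy']
          _ = (z * z) * y * x * u := by group
          _ = y * (x * u) := by rw [hz2]; group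
      rcases hDC1 (x * u) hu' hP' hy' with h | h
      · right; left
        have : u = x⁻¹ := eq_inv_of_mul_eq_one_right h
        rw [this, hxi]
      · right; right; right
        have : u = x⁻¹ * z := by rw [← h]; group
        rw [this, hxi]
  -- Q ∩ R ≤ {1, x}
  have hD : ∀ d ∈ Q, d ∈ R → d = 1 ∨ d = x := by
    intro d hdQ hdR
    have hcomm : ∀ v ∈ Q, v * x = x * v → d * v = v * d := by
      intro v hv hvx
      have hcR : d * v * d⁻¹ * v⁻¹ ∈ R := by
        have h1 := hR.norm v hvx d⁻¹ (R.inv_mem hdR)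
        have : d * v * d⁻¹ * v⁻¹ = d * (v * d⁻¹ * v⁻¹) := by group
        rw [this]; exact R.mul_mem hdR h1
      rcases hQ.comm d hdQ v hv with h | h
      · exact hcomm1 _ _ h
      · rw [h] at hcR; exact absurd hcR hzR
    rcases hDC d hdQ hcomm with h | h | h | h
    · exact Or.inl h
    · exact Or.inr h
    · rw [h] at hdR; exact absurd hdR hzR
    · exfalso; apply hzR
      have : z = x⁻¹ * d := by rw [h]; group
      rw [this]; exact R.mul_mem (R.inv_mem hR.zQ) hdR
  have hS4 : ∀ u ∈ Q, u * x = x * u → ∀ a ∈ R, a * z = z * a → Cg x a (u * a * u⁻¹) := by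
    intro u hu hux a ha haz
    apply hD
    · have haz' : a⁻¹ * z = z * a⁻¹ := by
        calc a⁻¹ * z = a⁻¹ * (z * a) * a⁻¹ := by group
          _ = a⁻¹ * (a * z) * a⁻¹ := by rw [haz]
          _ = z * a⁻¹ := by group
      have h1 := hQ.norm a⁻¹ haz' u hu
      rw [inv_inv] at h1
      have : a⁻¹ * (u * a * u⁻¹) = (a⁻¹ * u * a) * u⁻¹ := by group
      rw [this]; exact Q.mul_mem h1 (Q.inv_mem hu)
    · exact R.mul_mem (R.inv_mem ha) (hR.norm u hux a ha)
  have hznR : ∀ r ∈ R, z * r * z⁻¹ ∈ R := hR.norm z hzx'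
  have hRab : ∀ r ∈ R, ∀ s ∈ R, Cg x (r * s) (s * r) := by
    intro r hr s hs
    have := hR.comm s⁻¹ (R.inv_mem hs) r⁻¹ (R.inv_mem hr)
    rw [inv_inv, inv_inv] at this
    have e : (r * s)⁻¹ * (s * r) = s⁻¹ * r⁻¹ * s * r := by group
    unfold Cg; rw [e]; exact this
  have hRinv : ∀ r ∈ R, Cg x r r⁻¹ := by
    intro r hr
    have e : r⁻¹ * r⁻¹ = (r * r)⁻¹ := by group
    unfold Cg; rw [e]
    rcases hR.sq r hr with h | h
    · left; rw [h, inv_one]
    · right; rw [h, hxi]
  have h5a : ∀ r ∈ R, (r⁻¹ * (z * r * z⁻¹)) ∈ R ∧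
      (r⁻¹ * (z * r * z⁻¹)) * z = z * (r⁻¹ * (z * r * z⁻¹)) := by
    intro r hr
    have hmR : r⁻¹ * (z * r * z⁻¹) ∈ R := R.mul_mem (R.inv_mem hr) (hznR r hr)
    refine ⟨hmR, ?_⟩
    obtain ⟨m, hm⟩ : ∃ m, m = r⁻¹ * (z * r * z⁻¹) := ⟨_, rfl⟩
    rw [← hm] at hmR ⊢
    have h1 : z * m * z⁻¹ = m⁻¹ := by
      calc z * m * z⁻¹ = z * r⁻¹ * z * r * (z * z)⁻¹ := by rw [hm]; group
        _ = z * r⁻¹ * z * r := by rw [hz2, inv_one, mul_one]
        _ = z * r⁻¹ * z⁻¹ * r := by rw [hzi]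
        _ = m⁻¹ := by rw [hm]; group
    have h2 : Cg x m (z * m * z⁻¹) := by rw [h1]; exact hRinv m hmR
    have h3 := hA m hmR h2
    calc m * z = (z * m * z⁻¹) * z := by rw [h3]
      _ = z * m := by group
  have h5b : ∀ u ∈ Q, u * x = x * u → ∀ r ∈ R, (r⁻¹ * (u * r * u⁻¹)) ∈ R ∧
      (r⁻¹ * (u * r * u⁻¹)) * z = z * (r⁻¹ * (u * r * u⁻¹)) := by
    intro u hu hux r hr
    have hnR : r⁻¹ * (u * r * u⁻¹) ∈ R := R.mul_mem (R.inv_mem hr) (hR.norm u hux r hr)
    refine ⟨hnR, ?_⟩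
    obtain ⟨hmR, hmz⟩ := h5a r hr
    obtain ⟨m, hm⟩ : ∃ m, m = r⁻¹ * (z * r * z⁻¹) := ⟨_, rfl⟩
    obtain ⟨n, hn⟩ : ∃ n, n = r⁻¹ * (u * r * u⁻¹) := ⟨_, rfl⟩
    rw [← hm] at hmR hmz
    rw [← hn] at hnR ⊢
    have e1 : z * n * z⁻¹ = (z * r * z⁻¹)⁻¹ * ((z * u * z⁻¹) * (z * r * z⁻¹) * (z * u * z⁻¹)⁻¹) := by
      rw [hn]; group
    have e2 : z * u * z⁻¹ = u := by rw [← hQ.cent u hu]; group
    have e3 : z * r * z⁻¹ = r * m := by rw [hm]; group
    rw [e2, e3] at e1
    have e4 : (r * m)⁻¹ * (u * (r * m) * u⁻¹) = m⁻¹ * (n * (u * m * u⁻¹)) := by rw [hn]; group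
    rw [e4] at e1
    have c1 : Cg x n (m⁻¹ * (n * m)) := by
      have := Cg.mul_left' hx2 m⁻¹ (hRab m hmR n hnR)
      rwa [inv_mul_cancel_left] at this
    have c2 : Cg x (m⁻¹ * (n * m)) (m⁻¹ * (n * (u * m * u⁻¹))) :=
      Cg.mul_left' hx2 m⁻¹ (Cg.mul_left' hx2 n (hS4 u hu hux m hmR hmz))
    have c3 : Cg x n (z * n * z⁻¹) := by rw [e1]; exact Cg.trans' hx2 c1 c2
    have h3 := hA n hnR c3
    calc n * z = (z * n * z⁻¹) * z := by rw [h3]
      _ = z * n := by group
  have h5c : ∀ u ∈ Q, u * x = x * u → ∀ u' ∈ Q, u' * x = x * u' → ∀ r ∈ R,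
      Cg x ((u' * u) * r * (u' * u)⁻¹) ((u * u') * r * (u * u')⁻¹) := by
    intro u hu hux u' hu' hux' r hr
    obtain ⟨hnR, hnz⟩ := h5b u hu hux r hr
    obtain ⟨hn'R, hn'z⟩ := h5b u' hu' hux' r hr
    obtain ⟨n, hn⟩ : ∃ n, n = r⁻¹ * (u * r * u⁻¹) := ⟨_, rfl⟩
    obtain ⟨n', hn'⟩ : ∃ n', n' = r⁻¹ * (u' * r * u'⁻¹) := ⟨_, rfl⟩
    rw [← hn] at hnR hnz
    rw [← hn'] at hn'R hn'z
    have e1 : (u' * u) * r * (u' * u)⁻¹ = r * n' * (u' * n * u'⁻¹) := by rw [hn, hn']; group
    have e2 : (u * u') * r * (u * u')⁻¹ = r * n * (u * n' * u⁻¹) := by rw [hn, hn']; group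
    rw [e1, e2]
    have c1 : Cg x (r * n' * (u' * n * u'⁻¹)) (r * n' * n) :=
      Cg.mul_left' hx2 (r * n') (Cg.symm' hx2 (hS4 u' hu' hux' n hnR hnz))
    have c2 : Cg x (r * n' * n) (r * n * n') := by
      have := Cg.mul_left' hx2 r (hRab n' hn'R n hnR)
      rwa [← mul_assoc, ← mul_assoc] at this
    have c3 : Cg x (r * n * n') (r * n * (u * n' * u⁻¹)) :=
      Cg.mul_left' hx2 (r * n) (hS4 u hu hux n' hn'R hn'z)
    exact Cg.trans' hx2 (Cg.trans' hx2 c1 c2) c3
  have hPab : ∀ u ∈ Q, u * x = x * u → ∀ u' ∈ Q, u' * x = x * u' → u * u' = u' * u := by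
    intro u hu hux u' hu' hux'
    rcases hQ.comm u hu u' hu' with h | h
    · exact hcomm1 _ _ h
    · exfalso
      have huu : u * u' = z * (u' * u) := by
        calc u * u' = (u * u' * u⁻¹ * u'⁻¹) * (u' * u) := by group
          _ = z * (u' * u) := by rw [h]
      apply hzR
      apply hR.self
      intro s hs
      have hwx : (u' * u) * x = x * (u' * u) := by
        rw [mul_assoc, hux, ← mul_assoc, hux', mul_assoc]
      have hwx' : (u' * u)⁻¹ * x = x * (u' * u)⁻¹ := by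
        calc (u' * u)⁻¹ * x = (u' * u)⁻¹ * (x * (u' * u)) * (u' * u)⁻¹ := by group
          _ = (u' * u)⁻¹ * ((u' * u) * x) * (u' * u)⁻¹ := by rw [hwx]
          _ = x * (u' * u)⁻¹ := by group
      have hrR : (u' * u)⁻¹ * s * (u' * u) ∈ R := by
        have := hR.norm _ hwx' s hs
        rwa [inv_inv] at this
      have h1 := h5c u hu hux u' hu' hux' _ hrR
      have e1 : (u' * u) * ((u' * u)⁻¹ * s * (u' * u)) * (u' * u)⁻¹ = s := by group
      have e2 : (u * u') * ((u' * u)⁻¹ * s * (u' * u)) * (u * u')⁻¹ = z * s * z⁻¹ := by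
        rw [huu]; group
      rw [e1, e2] at h1
      have h2 := hA s hs h1
      calc z * s = (z * s * z⁻¹) * z := by group
        _ = s * z := by rw [h2]
  have hP4 : ∀ u ∈ Q, u * x = x * u → u = 1 ∨ u = x ∨ u = z ∨ u = x * z :=
    fun u hu hux => hDC u hu (fun v hv hvx => hPab u hu hux v hv hvx)
  obtain ⟨a, haR, ha1, hax, haz⟩ : ∃ a ∈ R, a ≠ 1 ∧ a ≠ x ∧ z * a * z⁻¹ = a := by
    obtain ⟨r₀, hr₀, h1, h2⟩ := hbig
    by_cases hc : Cg x r₀ (z * r₀ * z⁻¹)
    · exact ⟨r₀, hr₀, h1, h2, hA r₀ hr₀ hc⟩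
    · have hsR : r₀ * (z * r₀ * z⁻¹) ∈ R := R.mul_mem hr₀ (hznR r₀ hr₀)
      have hs : z * (r₀ * (z * r₀ * z⁻¹)) * z⁻¹ = (z * r₀ * z⁻¹) * r₀ := by
        calc z * (r₀ * (z * r₀ * z⁻¹)) * z⁻¹
            = (z * r₀ * z⁻¹) * ((z * z) * r₀ * (z * z)⁻¹) := by group
          _ = (z * r₀ * z⁻¹) * r₀ := by rw [hz2]; group
      have hcs : Cg x (r₀ * (z * r₀ * z⁻¹)) (z * (r₀ * (z * r₀ * z⁻¹)) * z⁻¹) := by
        rw [hs]; exact hRab r₀ hr₀ _ (hznR r₀ hr₀)
      refine ⟨_, hsR, ?_, ?_, hA _ hsR hcs⟩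
      · intro h
        apply hc
        have : z * r₀ * z⁻¹ = r₀⁻¹ := eq_inv_of_mul_eq_one_right h
        rw [this]; exact hRinv r₀ hr₀
      · intro h
        apply hc
        have : Cg x r₀⁻¹ (z * r₀ * z⁻¹) := by right; rw [inv_inv]; exact h
        exact Cg.trans' hx2 (hRinv r₀ hr₀) this
  have hax' : a * x = x * a := hR.cent a haR
  have haz' : a * z = z * a := by
    calc a * z = (z * a * z⁻¹) * z := by rw [haz]
      _ = z * a := by group
  have haP : ∀ v ∈ Q, v * x = x * v → a * v = v * a := by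
    intro v hv hvx
    rcases hP4 v hv hvx with h | h | h | h
    · rw [h, mul_one, one_mul]
    · rw [h]; exact hax'
    · rw [h]; exact haz'
    · rw [h, ← mul_assoc, hax', mul_assoc, haz', ← mul_assoc]
  have haQ : a ∉ Q := by
    intro h
    rcases hD a h haR with h' | h'
    · exact ha1 h'
    · exact hax h'
  have hbQ : ∀ b : G, (∀ v ∈ Q, v * x = x * v → b * v = v * b) → b * y = y * b → b ∈ Q :=
    fun b hbP hby => hQ.self b (hbQ' b hbP hby)
  have hyx : y * x * y⁻¹ = z * x := by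
    have h1 : y * x = z * x * y := by
      calc y * x = z * (z * y * x) := by rw [← mul_assoc, ← mul_assoc, hz2, one_mul]
        _ = z * (x * y) := by rw [hxy']
        _ = z * x * y := by group
    rw [h1]; group
  obtain ⟨c, hc⟩ : ∃ c, c = y⁻¹ * (a * y * a⁻¹) := ⟨_, rfl⟩
  have hcQ : c ∈ Q := by
    rw [hc]; exact Q.mul_mem (Q.inv_mem hyQ) (hQ.norm a haz' y hyQ)
  have hayc : a * y * a⁻¹ = y * c := by rw [hc]; group
  have haxa : a⁻¹ * x * a = x := by
    calc a⁻¹ * x * a = a⁻¹ * (x * a) := by group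
      _ = a⁻¹ * (a * x) := by rw [hax']
      _ = x := by group
  have hazx : a * (z * x) * a⁻¹ = z * x := by
    calc a * (z * x) * a⁻¹ = (a * z) * x * a⁻¹ := by group
      _ = z * (a * x) * a⁻¹ := by rw [haz']; group
      _ = z * (x * a) * a⁻¹ := by rw [hax']
      _ = z * x := by group
  have hcx : c * x = x * c := by
    have e : (y * c) * x * (y * c)⁻¹ = z * x := by
      rw [← hayc]
      calc a * y * a⁻¹ * x * (a * y * a⁻¹)⁻¹ = a * y * (a⁻¹ * x * a) * y⁻¹ * a⁻¹ := by group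
        _ = a * y * x * y⁻¹ * a⁻¹ := by rw [haxa]
        _ = a * (y * x * y⁻¹) * a⁻¹ := by group
        _ = a * (z * x) * a⁻¹ := by rw [hyx]
        _ = z * x := hazx
    have e2 : c * x * c⁻¹ = x := by
      calc c * x * c⁻¹ = y⁻¹ * ((y * c) * x * (y * c)⁻¹) * y := by group
        _ = y⁻¹ * (z * x) * y := by rw [e]
        _ = y⁻¹ * (y * x * y⁻¹) * y := by rw [hyx]
        _ = x := by group
    calc c * x = (c * x * c⁻¹) * c := by group
      _ = x * c := by rw [e2]
  have hyyx : (y * y) * x = x * (y * y) := by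
    symm
    calc x * (y * y) = (x * y) * y := by group
      _ = z * y * x * y := by rw [hxy']
      _ = z * y * (x * y) := by group
      _ = z * y * (z * y * x) := by rw [hxy']
      _ = z * (y * z) * y * x := by group
      _ = z * (z * y) * y * x := by rw [hyz]
      _ = (z * z) * y * y * x := by group
      _ = y * y * x := by rw [hz2, one_mul]
  have hyy : a * (y * y) * a⁻¹ = y * y := by
    have := haP (y * y) (Q.mul_mem hyQ hyQ) hyyx
    rw [this]; group
  have hyxyx : (y * x) * (y * x) = z * (y * y) := by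
    calc (y * x) * (y * x) = y * (x * y) * x := by group
      _ = y * (z * y * x) * x := by rw [hxy']
      _ = (y * z) * y * (x * x) := by group
      _ = z * (y * y) := by rw [hyz, hx2]; group
  have hsqc : (y * c) * (y * c) = y * y := by
    rw [← hayc]
    calc a * y * a⁻¹ * (a * y * a⁻¹) = a * (y * y) * a⁻¹ := by group
      _ = y * y := hyy
  rcases hP4 c hcQ hcx with h | h | h | h
  · -- c = 1
    apply haQ
    apply hbQ a haP
    rw [h, mul_one] at hayc
    calc a * y = (a * y * a⁻¹) * a := by group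
      _ = y * a := by rw [hayc]
  · -- c = x
    rw [h, hyxyx] at hsqc
    apply hz1
    have : z * (y * y) = 1 * (y * y) := by rw [one_mul]; exact hsqc
    exact mul_right_cancel this
  · -- c = z
    apply haQ
    have hxa : x * a ∈ Q := by
      apply hbQ
      · intro v hv hvx
        rw [mul_assoc, haP v hv hvx, ← mul_assoc, ← hvx, mul_assoc]
      · rw [h] at hayc
        have hay : a * y = y * z * a := by
          calc a * y = (a * y * a⁻¹) * a := by group
            _ = y * z * a := by rw [hayc]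
        calc x * a * y = x * (a * y) := by group
          _ = x * (y * z * a) := by rw [hay]
          _ = (x * y) * z * a := by group
          _ = z * y * x * z * a := by rw [hxy']
          _ = z * y * (x * z) * a := by group
          _ = z * y * (z * x) * a := by rw [hxz']
          _ = z * (y * z) * x * a := by group
          _ = z * (z * y) * x * a := by rw [hyz]
          _ = (z * z) * y * x * a := by group
          _ = y * (x * a) := by rw [hz2]; group
    have : a = x⁻¹ * (x * a) := by group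
    rw [this]; exact Q.mul_mem (Q.inv_mem hxQ) hxa
  · -- c = x * z
    rw [h] at hsqc
    have e : (y * (x * z)) * (y * (x * z)) = z * (y * y) := by
      calc (y * (x * z)) * (y * (x * z)) = y * x * (z * y) * x * z := by group
        _ = y * x * (y * z) * x * z := by rw [hyz]
        _ = y * x * y * (z * x) * z := by group
        _ = y * x * y * (x * z) * z := by rw [hxz']
        _ = (y * x) * (y * x) * (z * z) := by group
        _ = z * (y * y) := by rw [hz2, mul_one, hyxyx]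
    rw [e] at hsqc
    apply hz1
    have : z * (y * y) = 1 * (y * y) := by rw [one_mul]; exact hsqc
    exact mul_right_cancel this

theorem ES.map' {Q : Subgroup G} {z : G} (h : ES Q z) (φ : G ≃* G) :
    ES (Q.map φ.toMonoidHom) (φ z) := by
  have hmem : ∀ a : G, a ∈ Q.map φ.toMonoidHom ↔ φ.symm a ∈ Q := by
    intro a
    constructor
    · rintro ⟨u, hu, rfl⟩
      simpa using hu
    · intro ha
      exact ⟨φ.symm a, ha, by simp⟩
  refine ⟨?_, ?_, ?_, ?_, ?_, ?_, ?_, ?_⟩
  · rw [← map_mul, h.z2, map_one]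
  · exact ⟨z, h.zQ, rfl⟩
  · rintro _ ⟨u, hu, rfl⟩
    show φ u * φ z = φ z * φ u
    rw [← map_mul, ← map_mul, h.cent u hu]
  · rintro a ha _ ⟨u, hu, rfl⟩
    have ha' : φ.symm a * z = z * φ.symm a := by
      apply φ.injective
      simpa using ha
    refine ⟨φ.symm a * u * (φ.symm a)⁻¹, h.norm _ ha' u hu, ?_⟩
    simp
  · rintro _ ⟨u, hu, rfl⟩ hc
    have : ∀ v ∈ Q, u * v = v * u := by
      intro v hv
      apply φ.injective
      have := hc (φ v) ⟨v, hv, rfl⟩
      simpa using this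
    rcases h.ctr u hu this with h1 | h1
    · left; show φ u = 1; rw [h1, map_one]
    · right; show φ u = φ z; rw [h1]
  · rintro _ ⟨u, hu, rfl⟩ _ ⟨v, hv, rfl⟩
    show φ u * φ v * (φ u)⁻¹ * (φ v)⁻¹ = 1 ∨ φ u * φ v * (φ u)⁻¹ * (φ v)⁻¹ = φ z
    rw [← map_inv, ← map_inv, ← map_mul, ← map_mul, ← map_mul]
    rcases h.comm u hu v hv with h1 | h1
    · left; rw [h1, map_one]
    · right; rw [h1]
  · rintro _ ⟨u, hu, rfl⟩
    show φ u * φ u = 1 ∨ φ u * φ u = φ z
    rw [← map_mul]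
    rcases h.sq u hu with h1 | h1
    · left; rw [h1, map_one]
    · right; rw [h1]
  · intro a ha
    rw [hmem]
    apply h.self
    intro u hu
    apply φ.injective
    have := ha (φ u) ⟨u, hu, rfl⟩
    simpa using this

/-- The subgroup `O_2(C_G(x))`, inside `G`. -/
def Qf (x : G) : Subgroup G :=
  (Cfsg.pCore 2 ↥(Subgroup.centralizer ({x} : Set G))).map
    (Subgroup.centralizer ({x} : Set G)).subtype

/-- transport of centralizers along an automorphism. -/
def centEquiv (φ : G ≃* G) (x : G) :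
    ↥(Subgroup.centralizer ({x} : Set G)) ≃* ↥(Subgroup.centralizer ({φ x} : Set G)) where
  toFun c := ⟨φ c, by
    have := Subgroup.mem_centralizer_singleton_iff.mp c.2
    rw [Subgroup.mem_centralizer_singleton_iff, ← map_mul, ← map_mul, this]⟩
  invFun c := ⟨φ.symm c, by
    have := Subgroup.mem_centralizer_singleton_iff.mp c.2
    rw [Subgroup.mem_centralizer_singleton_iff]
    apply φ.injective
    simpa using this⟩
  left_inv c := by apply Subtype.ext; simp
  right_inv c := by apply Subtype.ext; simp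
  map_mul' a b := by apply Subtype.ext; simp

theorem Qf_map (φ : G ≃* G) (x : G) : Qf (φ x) = (Qf x).map φ.toMonoidHom := by
  unfold Qf
  rw [← Cfsg.Agent.Lib.Helper5.pCore_map_equiv (p := 2) (centEquiv φ x), Subgroup.map_map,
    Subgroup.map_map]
  rfl

theorem Qf_le (x : G) : Qf x ≤ Subgroup.centralizer ({x} : Set G) := by
  unfold Qf
  exact Subgroup.map_subtype_le _

theorem mem_Qf_central [Finite G] {x : G} (hx : orderOf x = 2) : x ∈ Qf x := by
  have hxC : x ∈ Subgroup.centralizer ({x} : Set G) :=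
    Subgroup.mem_centralizer_singleton_iff.mpr rfl
  have hnorm : (Subgroup.zpowers (⟨x, hxC⟩ : ↥(Subgroup.centralizer ({x} : Set G)))).Normal := by
    constructor
    intro n hn g
    have hg := Subgroup.mem_centralizer_singleton_iff.mp g.2
    obtain ⟨k, rfl⟩ := hn
    have hcomm : g * (⟨x, hxC⟩ : ↥(Subgroup.centralizer ({x} : Set G)))
        = (⟨x, hxC⟩ : ↥(Subgroup.centralizer ({x} : Set G))) * g := Subtype.ext hg
    have hc : Commute g ((⟨x, hxC⟩ : ↥(Subgroup.centralizer ({x} : Set G))) ^ k) :=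
      (Commute.zpow_right hcomm k)
    have : g * (⟨x, hxC⟩ : ↥(Subgroup.centralizer ({x} : Set G))) ^ k * g⁻¹
        = (⟨x, hxC⟩ : ↥(Subgroup.centralizer ({x} : Set G))) ^ k := by
      rw [hc.eq, mul_inv_cancel_right]
    show g * (⟨x, hxC⟩ : ↥(Subgroup.centralizer ({x} : Set G))) ^ k * g⁻¹ ∈ _
    rw [this]
    exact ⟨k, rfl⟩
  have hp : IsPGroup 2
      (Subgroup.zpowers (⟨x, hxC⟩ : ↥(Subgroup.centralizer ({x} : Set G)))) := by
    apply IsPGroup.of_card (n := 1)
    rw [Nat.card_zpowers, pow_one, Subgroup.orderOf_mk, hx]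
  have hle := Cfsg.Agent.Lib.Helper7.le_pCore _ hnorm hp
  exact ⟨⟨x, hxC⟩, hle (Subgroup.mem_zpowers _), rfl⟩

theorem ES_of_hyp [Finite G] (z : G) (hz : orderOf z = 2) (hE : Cfsg.IsExtraspecial 2 ↥(Qf z))
    (hC : Subgroup.centralizer ((Qf z : Subgroup G) : Set G) ≤ Qf z) : ES (Qf z) z := by
  have hz2 : z * z = 1 := by
    have := pow_orderOf_eq_one z
    rwa [hz, pow_two] at this
  have hz1 : z ≠ 1 := by
    intro h
    rw [h, orderOf_one] at hz
    omega
  have hzQ : z ∈ Qf z := mem_Qf_central hz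
  have hcent : ∀ u ∈ Qf z, u * z = z * u := fun u hu =>
    Subgroup.mem_centralizer_singleton_iff.mp (Qf_le z hu)
  have hcenter : ∀ c ∈ (Subgroup.center ↥(Qf z)).map (Qf z).subtype, c = 1 ∨ c = z := by
    rintro _ ⟨c, hc, rfl⟩
    have hzc : (⟨z, hzQ⟩ : ↥(Qf z)) ∈ Subgroup.center ↥(Qf z) := by
      rw [Subgroup.mem_center_iff]
      intro g
      apply Subtype.ext
      exact hcent g g.2
    have h2 := hE.2
    obtain ⟨w, -, hw⟩ := (Nat.card_eq_two_iff' (1 : ↥(Subgroup.center ↥(Qf z)))).mp h2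
    by_cases h1 : c = 1
    · left; rw [h1]; rfl
    · right
      have e1 := hw ⟨c, hc⟩ (by intro h; apply h1; exact congrArg Subtype.val h)
      have e2 := hw ⟨⟨z, hzQ⟩, hzc⟩ (by
        intro h; apply hz1
        have := congrArg (fun t : ↥(Subgroup.center ↥(Qf z)) => ((t : ↥(Qf z)) : G)) h
        simpa using this)
      have e3 : (⟨c, hc⟩ : ↥(Subgroup.center ↥(Qf z))) = ⟨⟨z, hzQ⟩, hzc⟩ := by rw [e1, e2]
      have := congrArg (fun t : ↥(Subgroup.center ↥(Qf z)) => ((t : ↥(Qf z)) : G)) e3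
      simpa using this
  refine ⟨hz2, hzQ, hcent, ?_, ?_, ?_, ?_, ?_⟩
  · intro a ha u hu
    obtain ⟨u', hu', rfl⟩ := hu
    have haC : a ∈ Subgroup.centralizer ({z} : Set G) :=
      Subgroup.mem_centralizer_singleton_iff.mpr ha
    have := (Cfsg.Agent.Lib.Helper7.pCore_normal
      (G := ↥(Subgroup.centralizer ({z} : Set G))) 2).conj_mem u' hu' ⟨a, haC⟩
    exact ⟨_, this, rfl⟩
  · intro u hu hc
    apply hcenter
    have hmem : (⟨u, hu⟩ : ↥(Qf z)) ∈ Subgroup.center ↥(Qf z) := by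
      rw [Subgroup.mem_center_iff]
      intro g
      apply Subtype.ext
      exact (hc g g.2).symm
    exact ⟨⟨u, hu⟩, hmem, rfl⟩
  · intro u hu v hv
    exact hcenter _ (Cfsg.Agent.Lib.Helper9.extraspecial_comm_mem hE hu hv)
  · intro u hu
    have := hcenter _ (Cfsg.Agent.Lib.Helper9.extraspecial_sq_mem hE hu)
    rwa [pow_two] at this
  · intro a ha
    apply hC
    rw [Subgroup.mem_centralizer_iff]
    intro u hu
    exact (ha u hu).symm

theorem exists_y {Q : Subgroup G} {z x : G} (hQ : ES Q z) (hxQ : x ∈ Q) (hx1 : x ≠ 1)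
    (hxz : x ≠ z) : ∃ y ∈ Q, y * x * y⁻¹ = z * x := by
  have hz2 := hQ.z2
  obtain ⟨y, hyQ, hxy⟩ : ∃ y ∈ Q, x * y * x⁻¹ * y⁻¹ = z := by
    by_contra hcon
    push Not at hcon
    have : ∀ v ∈ Q, x * v = v * x := by
      intro v hv
      rcases hQ.comm x hxQ v hv with h | h
      · have : x * v = (x * v * x⁻¹ * v⁻¹) * (v * x) := by group
        rw [this, h, one_mul]
      · exact absurd h (hcon v hv)
    rcases hQ.ctr x hxQ this with h | h
    · exact hx1 h
    · exact hxz h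
  refine ⟨y, hyQ, ?_⟩
  have hxy' : x * y = z * y * x := by
    calc x * y = (x * y * x⁻¹ * y⁻¹) * y * x := by group
      _ = z * y * x := by rw [hxy]
  have h1 : y * x = z * x * y := by
    calc y * x = z * (z * y * x) := by rw [← mul_assoc, ← mul_assoc, hz2, one_mul]
      _ = z * (x * y) := by rw [hxy']
      _ = z * x * y := by group
  rw [h1]; group

theorem main5595 [Finite G] (z : G) (hz : orderOf z = 2)
    (hE : Cfsg.IsExtraspecial 2 ↥(Qf z))
    (hC : Subgroup.centralizer ((Qf z : Subgroup G) : Set G) ≤ Qf z)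
    (g : G) (hx : g * z * g⁻¹ ∈ Qf z) : z ∈ Qf (g * z * g⁻¹) := by
  have hQ := ES_of_hyp z hz hE hC
  have hz1 : z ≠ 1 := by
    intro h
    rw [h, orderOf_one] at hz
    omega
  obtain ⟨φ, hφ⟩ : ∃ φ : G ≃* G, φ = MulAut.conj g := ⟨_, rfl⟩
  have hφa : ∀ a : G, φ a = g * a * g⁻¹ := by
    intro a; rw [hφ]; exact MulAut.conj_apply g a
  obtain ⟨x, hxdef⟩ : ∃ x, x = g * z * g⁻¹ := ⟨_, rfl⟩
  rw [← hxdef] at hx ⊢
  have hxφ : φ z = x := by rw [hxdef]; exact hφa z
  have hRQ : Qf x = (Qf z).map φ.toMonoidHom := by rw [← hxφ]; exact Qf_map φ z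
  have hR : ES (Qf x) x := by
    have := hQ.map' φ
    rwa [← hRQ, hxφ] at this
  by_cases hxz : x = z
  · rw [hxz]; exact hQ.zQ
  by_contra hzR
  have hx1 : x ≠ 1 := by
    rw [← hxφ]
    intro h
    exact hz1 ((MulEquiv.map_eq_one_iff φ).mp h)
  apply hzR
  apply core hQ hR hz1 hx1 hxz hx
  · refine ⟨φ x, ?_, ?_, ?_⟩
    · rw [hRQ]; exact ⟨x, hx, rfl⟩
    · intro h; exact hx1 ((MulEquiv.map_eq_one_iff φ).mp h)
    · intro h
      apply hxz
      apply φ.injective
      rw [h, hxφ]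
  · intro r hr hrz
    obtain ⟨y, hyQ, hy⟩ := exists_y hQ hx hx1 hxz
    have hrx : r * x * r⁻¹ = x := by
      rw [hR.cent r hr]; group
    have hyz : y * z * y⁻¹ = z := by
      rw [hQ.cent y hyQ]; group
    have hkx : (r * y) * x * (r * y)⁻¹ = z := by
      calc (r * y) * x * (r * y)⁻¹ = r * (y * x * y⁻¹) * r⁻¹ := by group
        _ = r * (z * x) * r⁻¹ := by rw [hy]
        _ = (r * z * r⁻¹) * (r * x * r⁻¹) := by group
        _ = z * x * x := by rw [hrz, hrx]
        _ = z := by rw [mul_assoc, hR.z2, mul_one]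
    have hkz : (r * y) * z * (r * y)⁻¹ = z * x := by
      calc (r * y) * z * (r * y)⁻¹ = r * (y * z * y⁻¹) * r⁻¹ := by group
        _ = r * z * r⁻¹ := by rw [hyz]
        _ = z * x := hrz
    have hmap : Qf z = (Qf x).map (MulAut.conj (r * y)).toMonoidHom := by
      have := Qf_map (MulAut.conj (r * y)) x
      rwa [MulAut.conj_apply, hkx] at this
    have hzxQ : z * x ∈ Qf z := (Qf z).mul_mem hQ.zQ hx
    rw [hmap] at hzxQ
    obtain ⟨r', hr', hr'eq⟩ := hzxQ
    have hr'z : r' = z := by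
      apply (MulAut.conj (r * y)).injective
      have : (MulAut.conj (r * y)) r' = z * x := hr'eq
      rw [this, MulAut.conj_apply, hkz]
    rw [hr'z] at hr'
    exact hzR hr'

/-- Setting: `z` is an involution of the finite group `G`; for each element `x`, `Q x` denotes the largest normal 2-subgroup of the centralizer of `x`; `Q z` is extraspecial and contains its own centralizer in `G` (a large extraspecial 2-subgroup in this sense). Call the conjugates of `z` singular, and say that singular `x` is orthogonal to singular `y` when `x ∈ Q y`. Then orthogonality is symmetric: if a conjugate `x` of `z` lies in `Q z`, then `z` lies in `Q x`. -/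
theorem result {G : Type*} [Group G] [Finite G]
    (Q : G → Subgroup G)
    (hQ : ∀ x : G, Q x = (Cfsg.pCore 2 ↥(Subgroup.centralizer ({x} : Set G))).map (Subgroup.centralizer ({x} : Set G)).subtype)
    (z : G) (hz : orderOf z = 2) (hE : Cfsg.IsExtraspecial 2 ↥(Q z))
    (hC : Subgroup.centralizer ((Q z : Subgroup G) : Set G) ≤ Q z)
    (g : G) (hx : g * z * g⁻¹ ∈ Q z) : z ∈ Q (g * z * g⁻¹) := by
  have hQf : ∀ x : G, Q x = Qf x := fun x => hQ x
  rw [hQf] at hE hC hx ⊢
  exact main5595 z hz hE hC g hx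

end Cfsg.Agent.S5595
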