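import Mathlib
import Cfsg.Statements.S5422
import Cfsg.Agent.S5595
import Cfsg.Agent.Lib.Helper9.LargeExtra
import Cfsg.Agent.Lib.Helper9.LargeExtra2

set_option autoImplicit false
set_option maxHeartbeats 800000

open Cfsg
open Cfsg.Agent.S5595

namespace Cfsg.Agent.S5422

variable {G : Type*} [Group G]

/-- the basic data extracted from the hypotheses. -/
theorem setup [Finite G] (Q : Subgroup G) (hL1 : Cfsg.IsExtraspecial 2 ↥Q)
    (hL2 : Subgroup.centralizer (Q : Set G) = ((Subgroup.center ↥Q).map Q.subtype))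
    (hL3 : Subgroup.centralizer (((Subgroup.center ↥Q).map Q.subtype) : Set G)
      ≤ Subgroup.normalizer (Q : Set G)) :
    ∃ z : G, z ≠ 1 ∧ (∀ c, c ∈ (Subgroup.center ↥Q).map Q.subtype ↔ c = 1 ∨ c = z) ∧ ES Q z := by
  obtain ⟨z, hzZ, hz1, hzu⟩ := Cfsg.Agent.Lib.Helper9.exists_center_gen hL1
  have hZQ : (Subgroup.center ↥Q).map Q.subtype ≤ Q := by
    rintro _ ⟨x, _, rfl⟩
    exact x.2
  have hzQ : z ∈ Q := hZQ hzZ
  have hZiff : ∀ c, c ∈ (Subgroup.center ↥Q).map Q.subtype ↔ c = 1 ∨ c = z := by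
    intro c
    constructor
    · exact hzu c
    · rintro (rfl | rfl)
      · exact Subgroup.one_mem _
      · exact hzZ
  have hz2 : z * z = 1 := by
    rcases hzu _ (Subgroup.mul_mem _ hzZ hzZ) with h | h
    · exact h
    · exfalso; apply hz1
      have : z * z = z * 1 := by rw [mul_one]; exact h
      exact mul_left_cancel this
  have hcent : ∀ u ∈ Q, u * z = z * u := fun u hu =>
    (Cfsg.Agent.Lib.Helper9.extraspecial_center_comm hzZ hu).symm
  refine ⟨z, hz1, hZiff, hz2, hzQ, hcent, ?_, ?_, ?_, ?_, ?_⟩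
  · intro a ha u hu
    have haC : a ∈ Subgroup.centralizer (((Subgroup.center ↥Q).map Q.subtype : Subgroup G) : Set G) := by
      rw [Subgroup.mem_centralizer_iff]
      intro c hc
      rcases hzu c hc with rfl | rfl
      · simp
      · exact ha.symm
    have := hL3 haC
    rw [Subgroup.mem_set_normalizer_iff] at this
    exact (this u).mp hu
  · intro u hu hc
    apply hzu
    rw [← hL2, Subgroup.mem_centralizer_iff]
    intro v hv
    exact (hc v hv).symm
  · intro u hu v hv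
    exact hzu _ (Cfsg.Agent.Lib.Helper9.extraspecial_comm_mem hL1 hu hv)
  · intro u hu
    have := hzu _ (Cfsg.Agent.Lib.Helper9.extraspecial_sq_mem hL1 hu)
    rwa [pow_two] at this
  · intro a ha
    apply hZQ
    rw [← hL2, Subgroup.mem_centralizer_iff]
    intro u hu
    exact (ha u hu).symm

/-- the key step: `z ∈ g Q g⁻¹`. -/
theorem z_mem [Finite G] {Q : Subgroup G} {z : G} (hQ : ES Q z) (hz1 : z ≠ 1) (g : G)
    (hxz : g * z * g⁻¹ ≠ z) (hxQ : g * z * g⁻¹ ∈ Q) :
    z ∈ Q.map (MulAut.conj g).toMonoidHom := by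
  obtain ⟨φ, hφ⟩ : ∃ φ : G ≃* G, φ = MulAut.conj g := ⟨_, rfl⟩
  have hφa : ∀ a : G, φ a = g * a * g⁻¹ := by
    intro a; rw [hφ]; exact MulAut.conj_apply g a
  obtain ⟨x, hxdef⟩ : ∃ x, x = g * z * g⁻¹ := ⟨_, rfl⟩
  rw [← hxdef] at hxz hxQ
  rw [← hφ]
  have hxφ : φ z = x := by rw [hxdef]; exact hφa z
  have hR : ES (Q.map φ.toMonoidHom) x := by
    have := hQ.map' φ
    rwa [hxφ] at this
  by_contra hzR
  have hx1 : x ≠ 1 := by
    rw [← hxφ]
    intro h
    exact hz1 ((MulEquiv.map_eq_one_iff φ).mp h)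
  apply hzR
  apply core hQ hR hz1 hx1 hxz hxQ
  · refine ⟨φ x, ⟨x, hxQ, rfl⟩, ?_, ?_⟩
    · intro h; exact hx1 ((MulEquiv.map_eq_one_iff φ).mp h)
    · intro h
      apply hxz
      apply φ.injective
      rw [h, hxφ]
  · intro r hr hrz
    obtain ⟨y, hyQ, hy⟩ := exists_y hQ hxQ hx1 hxz
    have hrx : r * x * r⁻¹ = x := by
      rw [hR.cent r hr]; group
    have hyz : y * z * y⁻¹ = z := by
      rw [hQ.cent y hyQ]; group
    have hkx : (r * y) * x * (r * y)⁻¹ = z := by
      calc (r * y) * x * (r * y)⁻¹ = r * (y * x * y⁻¹) * r⁻¹ := by group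
        _ = r * (z * x) * r⁻¹ := by rw [hy]
        _ = (r * z * r⁻¹) * (r * x * r⁻¹) := by group
        _ = z * x * x := by rw [hrz, hrx]
        _ = z := by rw [mul_assoc, hR.z2, mul_one]
    have hkz : (r * y) * z * (r * y)⁻¹ = z * x := by
      calc (r * y) * z * (r * y)⁻¹ = r * (y * z * y⁻¹) * r⁻¹ := by group
        _ = r * z * r⁻¹ := by rw [hyz]
        _ = z * x := hrz
    -- (r y g) centralizes z
    have hkg : (r * y * g)⁻¹ * z = z * (r * y * g)⁻¹ := by
      have h1 : (r * y * g) * z * (r * y * g)⁻¹ = z := by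
        calc (r * y * g) * z * (r * y * g)⁻¹ = (r * y) * (g * z * g⁻¹) * (r * y)⁻¹ := by group
          _ = (r * y) * x * (r * y)⁻¹ := by rw [hxdef]
          _ = z := hkx
      calc (r * y * g)⁻¹ * z = (r * y * g)⁻¹ * ((r * y * g) * z * (r * y * g)⁻¹) := by rw [h1]
        _ = z * (r * y * g)⁻¹ := by group
    have hzxQ : z * x ∈ Q := Q.mul_mem hQ.zQ hxQ
    have h2 := hQ.norm _ hkg (z * x) hzxQ
    rw [inv_inv] at h2
    -- k⁻¹ (z x) k = g (…) g⁻¹
    have h3 : z = φ ((r * y * g)⁻¹ * (z * x) * (r * y * g)) := by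
      rw [hφa]
      have : z = (r * y)⁻¹ * ((r * y) * z * (r * y)⁻¹) * (r * y) := by group
      rw [hkz] at this
      calc z = (r * y)⁻¹ * (z * x) * (r * y) := this
        _ = g * ((r * y * g)⁻¹ * (z * x) * (r * y * g)) * g⁻¹ := by group
    apply hzR
    rw [h3]
    exact ⟨_, h2, rfl⟩

theorem index_six [Finite G] (V : Subgroup G) (z x y r : G)
    (hV : ∀ v, v ∈ V ↔ v = 1 ∨ v = z ∨ v = x ∨ v = z * x)
    (hz1 : z ≠ 1) (hx1 : x ≠ 1) (hxz : x ≠ z) (hz2 : z * z = 1)
    (hyz : y * z * y⁻¹ = z) (hyx : y * x * y⁻¹ = z * x)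
    (hrx : r * x * r⁻¹ = x) (hrz : r * z * r⁻¹ = z * x) :
    (Subgroup.centralizer (V : Set G)).relIndex (Subgroup.normalizer (V : Set G)) = 6 := by
  classical
  have hzV : z ∈ V := (hV z).mpr (Or.inr (Or.inl rfl))
  have hxV : x ∈ V := (hV x).mpr (Or.inr (Or.inr (Or.inl rfl)))
  have hzxV : z * x ∈ V := (hV _).mpr (Or.inr (Or.inr (Or.inr rfl)))
  have hzx1 : z * x ≠ 1 := by
    intro h
    apply hxz
    have : x = z⁻¹ := eq_inv_of_mul_eq_one_right h
    rw [this]; exact inv_eq_of_mul_eq_one_right hz2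
  have hzxz : z * x ≠ z := by
    intro h
    apply hx1
    have : z * x = z * 1 := by rw [mul_one]; exact h
    exact mul_left_cancel this
  have hzxx : z * x ≠ x := by
    intro h
    apply hz1
    have : z * x = 1 * x := by rw [one_mul]; exact h
    exact mul_right_cancel this
  have hyzx : y * (z * x) * y⁻¹ = x := by
    calc y * (z * x) * y⁻¹ = (y * z * y⁻¹) * (y * x * y⁻¹) := by group
      _ = z * (z * x) := by rw [hyz, hyx]
      _ = x := by rw [← mul_assoc, hz2, one_mul]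
  have hrzx : r * (z * x) * r⁻¹ ∈ V := by
    have : r * (z * x) * r⁻¹ = (r * z * r⁻¹) * (r * x * r⁻¹) := by group
    rw [this, hrz, hrx]
    exact V.mul_mem hzxV hxV
  have hyN : y ∈ Subgroup.normalizer (V : Set G) := by
    apply Subgroup.mem_normalizer_fintype
    intro n hn
    rcases (hV n).mp hn with rfl | rfl | rfl | rfl
    · simpa using V.one_mem
    · show y * n * y⁻¹ ∈ V
      rw [hyz]; exact hzV
    · show y * n * y⁻¹ ∈ V
      rw [hyx]; exact hzxV
    · show y * (z * x) * y⁻¹ ∈ V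
      rw [hyzx]; exact hxV
  have hrN : r ∈ Subgroup.normalizer (V : Set G) := by
    apply Subgroup.mem_normalizer_fintype
    intro n hn
    rcases (hV n).mp hn with rfl | rfl | rfl | rfl
    · simpa using V.one_mem
    · show r * n * r⁻¹ ∈ V
      rw [hrz]; exact hzxV
    · show r * n * r⁻¹ ∈ V
      rw [hrx]; exact hxV
    · exact hrzx
  obtain ⟨N, hN⟩ : ∃ N : Subgroup G, N = Subgroup.normalizer (V : Set G) := ⟨_, rfl⟩
  rw [← hN] at hyN hrN ⊢
  have hNV : ∀ n ∈ N, ∀ v ∈ V, n * v * n⁻¹ ∈ V := by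
    intro n hn v hv
    rw [hN, Subgroup.mem_set_normalizer_iff] at hn
    exact (hn v).mp hv
  letI act : MulAction ↥N {v : G // v ∈ V ∧ v ≠ 1} :=
    { smul := fun n v => ⟨(n : G) * v * (n : G)⁻¹, hNV n n.2 v v.2.1, by
        intro h
        apply v.2.2
        have : (v : G) = (n : G)⁻¹ * ((n : G) * v * (n : G)⁻¹) * (n : G) := by group
        rw [this, h]; group⟩
      one_smul := fun v => Subtype.ext (by
        show ((1 : ↥N) : G) * v * ((1 : ↥N) : G)⁻¹ = v
        simp)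
      mul_smul := fun a b v => Subtype.ext (by
        show ((a * b : ↥N) : G) * v * ((a * b : ↥N) : G)⁻¹
          = (a : G) * ((b : G) * v * (b : G)⁻¹) * (a : G)⁻¹
        simp [mul_assoc]) }
  have hsm : ∀ (n : ↥N) (v : {v : G // v ∈ V ∧ v ≠ 1}),
      ((n • v : {v : G // v ∈ V ∧ v ≠ 1}) : G) = (n : G) * v * (n : G)⁻¹ := fun n v => rfl
  obtain ⟨ρ, hρ⟩ : ∃ ρ : ↥N →* Equiv.Perm {v : G // v ∈ V ∧ v ≠ 1},
      ρ = MulAction.toPermHom ↥N {v : G // v ∈ V ∧ v ≠ 1} := ⟨_, rfl⟩
  have hρa : ∀ (n : ↥N) (v : {v : G // v ∈ V ∧ v ≠ 1}),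
      ((ρ n v : {v : G // v ∈ V ∧ v ≠ 1}) : G) = (n : G) * v * (n : G)⁻¹ := by
    intro n v
    rw [hρ]
    exact hsm n v
  have hker : (Subgroup.centralizer (V : Set G)).subgroupOf N = ρ.ker := by
    ext n
    rw [Subgroup.mem_subgroupOf, MonoidHom.mem_ker, Subgroup.mem_centralizer_iff]
    constructor
    · intro h
      ext v
      rw [hρa, Equiv.Perm.one_apply]
      have := h v v.2.1
      calc (n : G) * v * (n : G)⁻¹ = ((n : G) * v) * (n : G)⁻¹ := by group
        _ = ((v : G) * n) * (n : G)⁻¹ := by rw [this]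
        _ = v := by group
    · intro h v hv
      by_cases hv1 : v = 1
      · rw [hv1]; simp
      · have := congrArg (fun σ : Equiv.Perm {v : G // v ∈ V ∧ v ≠ 1} =>
          ((σ ⟨v, hv, hv1⟩ : {v : G // v ∈ V ∧ v ≠ 1}) : G)) h
        simp only [hρa, Equiv.Perm.one_apply] at this
        calc v * (n : G) = ((n : G) * v * (n : G)⁻¹) * n := by rw [this]
          _ = (n : G) * v := by group
  have hidx : (Subgroup.centralizer (V : Set G)).relIndex N = Nat.card ρ.range := by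
    unfold Subgroup.relIndex
    rw [hker]; exact Subgroup.index_ker ρ
  have hΩ : Nat.card {v : G // v ∈ V ∧ v ≠ 1} = 3 := by
    have e : {v : G // v ∈ V ∧ v ≠ 1} ≃ {v : G // v ∈ ({z, x, z * x} : Finset G)} := by
      apply Equiv.subtypeEquivRight
      intro v
      rw [hV, Finset.mem_insert, Finset.mem_insert, Finset.mem_singleton]
      constructor
      · rintro ⟨h | h | h | h, h1⟩
        · exact absurd h h1
        · exact Or.inl h
        · exact Or.inr (Or.inl h)
        · exact Or.inr (Or.inr h)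
      · rintro (h | h | h)
        · exact ⟨Or.inr (Or.inl h), by rw [h]; exact hz1⟩
        · exact ⟨Or.inr (Or.inr (Or.inl h)), by rw [h]; exact hx1⟩
        · exact ⟨Or.inr (Or.inr (Or.inr h)), by rw [h]; exact hzx1⟩
    rw [Nat.card_congr e, Nat.card_eq_fintype_card, Fintype.card_coe]
    exact Finset.card_eq_three.mpr ⟨z, x, z * x, fun h => hxz h.symm, fun h => hzxz h.symm,
      fun h => hzxx h.symm, rfl⟩
  have hperm : Nat.card (Equiv.Perm {v : G // v ∈ V ∧ v ≠ 1}) = 6 := by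
    rw [Nat.card_perm, hΩ]; rfl
  have hdvd : Nat.card ρ.range ∣ 6 := by
    rw [← hperm]; exact Subgroup.card_subgroup_dvd_card _
  -- the two transpositions
  have hρy1 : ρ ⟨y, hyN⟩ ≠ 1 := by
    intro h
    have := congrArg (fun σ : Equiv.Perm {v : G // v ∈ V ∧ v ≠ 1} =>
      ((σ ⟨x, hxV, hx1⟩ : {v : G // v ∈ V ∧ v ≠ 1}) : G)) h
    simp only [hρa, Equiv.Perm.one_apply] at this
    rw [hyx] at this
    exact hzxx this
  have hρr1 : ρ ⟨r, hrN⟩ ≠ 1 := by
    intro h
    have := congrArg (fun σ : Equiv.Perm {v : G // v ∈ V ∧ v ≠ 1} =>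
      ((σ ⟨z, hzV, hz1⟩ : {v : G // v ∈ V ∧ v ≠ 1}) : G)) h
    simp only [hρa, Equiv.Perm.one_apply] at this
    rw [hrz] at this
    exact hzxz this
  have hρyr : ρ ⟨y, hyN⟩ ≠ ρ ⟨r, hrN⟩ := by
    intro h
    have := congrArg (fun σ : Equiv.Perm {v : G // v ∈ V ∧ v ≠ 1} =>
      ((σ ⟨z, hzV, hz1⟩ : {v : G // v ∈ V ∧ v ≠ 1}) : G)) h
    simp only [hρa] at this
    rw [hyz, hrz] at this
    exact hzxz this.symm
  have hρy2 : ρ ⟨y, hyN⟩ ^ 2 = 1 := by
    ext v
    rw [pow_two, Equiv.Perm.mul_apply, Equiv.Perm.one_apply, hρa, hρa]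
    show y * (y * (v : G) * y⁻¹) * y⁻¹ = v
    rcases (hV v).mp v.2.1 with h | h | h | h
    · exact absurd h v.2.2
    · rw [h, hyz, hyz]
    · rw [h, hyx, hyzx]
    · rw [h, hyzx, hyx]
  have hord : orderOf (ρ ⟨y, hyN⟩) = 2 := orderOf_eq_prime hρy2 hρy1
  have h2dvd : 2 ∣ Nat.card ρ.range := by
    rw [← hord]
    exact Subgroup.orderOf_dvd_natCard _ ⟨_, rfl⟩
  have hne2 : Nat.card ρ.range ≠ 2 := by
    intro h
    obtain ⟨w, -, hw⟩ := (Nat.card_eq_two_iff' (1 : ρ.range)).mp h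
    have e1 := hw ⟨ρ ⟨y, hyN⟩, ⟨_, rfl⟩⟩ (by
      intro h'; exact hρy1 (congrArg Subtype.val h'))
    have e2 := hw ⟨ρ ⟨r, hrN⟩, ⟨_, rfl⟩⟩ (by
      intro h'; exact hρr1 (congrArg Subtype.val h'))
    apply hρyr
    have := e1.trans e2.symm
    exact congrArg Subtype.val this
  rw [hidx]
  have hle : Nat.card ρ.range ≤ 6 := Nat.le_of_dvd (by norm_num) hdvd
  obtain ⟨c, hc⟩ : ∃ c, c = Nat.card ρ.range := ⟨_, rfl⟩
  rw [← hc] at hle hdvd h2dvd hne2 ⊢
  interval_cases c <;> omega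

/-- the four-group generated by two commuting involutions. -/
def fourSub (z x : G) (hz2 : z * z = 1) (hx2 : x * x = 1) (hc : x * z = z * x) : Subgroup G where
  carrier := {v | v = 1 ∨ v = z ∨ v = x ∨ v = z * x}
  one_mem' := Or.inl rfl
  mul_mem' := by
    have h1 : z * (z * x) = x := by rw [← mul_assoc, hz2, one_mul]
    have h2 : x * (z * x) = z := by rw [← mul_assoc, hc, mul_assoc, hx2, mul_one]
    have h3 : z * x * z = x := by rw [mul_assoc, hc, ← mul_assoc, hz2, one_mul]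
    have h4 : z * x * x = z := by rw [mul_assoc, hx2, mul_one]
    have h5 : z * x * (z * x) = 1 := by rw [mul_assoc, h2, hz2]
    rintro a b (rfl | rfl | rfl | rfl) (rfl | rfl | rfl | rfl) <;>
      simp [hz2, hx2, hc, h1, h2, h3, h4, h5]
  inv_mem' := by
    rintro a (rfl | rfl | rfl | rfl)
    · left; simp
    · right; left; exact inv_eq_of_mul_eq_one_right hz2
    · right; right; left; exact inv_eq_of_mul_eq_one_right hx2
    · right; right; right
      rw [mul_inv_rev, inv_eq_of_mul_eq_one_right hz2, inv_eq_of_mul_eq_one_right hx2, hc]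

theorem le_Qf {R : Subgroup G} {x : G} (hRp : IsPGroup 2 ↥R) (hRc : ∀ r ∈ R, r * x = x * r)
    (hRn : ∀ a : G, a * x = x * a → ∀ r ∈ R, a * r * a⁻¹ ∈ R) : R ≤ Qf x := by
  have hnorm : (R.subgroupOf (Subgroup.centralizer ({x} : Set G))).Normal := by
    constructor
    intro n hn a
    rw [Subgroup.mem_subgroupOf] at hn ⊢
    have ha := Subgroup.mem_centralizer_singleton_iff.mp a.2
    have := hRn a ha n hn
    simpa using this
  have hp : IsPGroup 2 ↥(R.subgroupOf (Subgroup.centralizer ({x} : Set G))) :=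
    hRp.comap_subtype
  have hle := Cfsg.Agent.Lib.Helper7.le_pCore _ hnorm hp
  intro r hr
  have hrC : r ∈ Subgroup.centralizer ({x} : Set G) :=
    Subgroup.mem_centralizer_singleton_iff.mpr (hRc r hr)
  exact ⟨⟨r, hrC⟩, hle (Subgroup.mem_subgroupOf.mpr hr), rfl⟩

theorem main5422 [Finite G] (Q : Subgroup G) (hL1 : Cfsg.IsExtraspecial 2 ↥Q)
    (hL2 : Subgroup.centralizer (Q : Set G) = ((Subgroup.center ↥Q).map Q.subtype))
    (hL3 : Subgroup.centralizer (((Subgroup.center ↥Q).map Q.subtype) : Set G)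
      ≤ Subgroup.normalizer (Q : Set G))
    (g : G) (hg : g ∉ Subgroup.normalizer (((Subgroup.center ↥Q).map Q.subtype) : Set G))
    (hZg : (((Subgroup.center ↥Q).map Q.subtype)).map (MulAut.conj g).toMonoidHom ≤ Q) :
    ((Subgroup.center ↥Q).map Q.subtype) ≤ (Q).map (MulAut.conj g).toMonoidHom ∧
    (Subgroup.centralizer ((((Subgroup.center ↥Q).map Q.subtype) ⊔
      (((Subgroup.center ↥Q).map Q.subtype)).map (MulAut.conj g).toMonoidHom : Subgroup G) : Set G)).relIndex
      (Subgroup.normalizer ((((Subgroup.center ↥Q).map Q.subtype) ⊔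
      (((Subgroup.center ↥Q).map Q.subtype)).map (MulAut.conj g).toMonoidHom : Subgroup G) : Set G)) = 6 ∧
    Cfsg.IsLargeExtraspecial Q := by
  obtain ⟨z, hz1, hZiff, hQ⟩ := setup Q hL1 hL2 hL3
  obtain ⟨Z, hZdef⟩ : ∃ Z : Subgroup G, Z = (Subgroup.center ↥Q).map Q.subtype := ⟨_, rfl⟩
  rw [← hZdef] at hg hZg hZiff ⊢
  have hzZ : z ∈ Z := (hZiff z).mpr (Or.inr rfl)
  have hxQ : g * z * g⁻¹ ∈ Q := by
    apply hZg
    exact ⟨z, hzZ, MulAut.conj_apply g z⟩
  have hz2 := hQ.z2
  have hxz : g * z * g⁻¹ ≠ z := by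
    intro h
    apply hg
    apply Subgroup.mem_normalizer_fintype
    intro n hn
    rcases (hZiff n).mp hn with rfl | rfl
    · simpa using Z.one_mem
    · show g * n * g⁻¹ ∈ Z
      rw [h]; exact hn
  have hzR := z_mem hQ hz1 g hxz hxQ
  obtain ⟨φ, hφ⟩ : ∃ φ : G ≃* G, φ = MulAut.conj g := ⟨_, rfl⟩
  have hφa : ∀ a : G, φ a = g * a * g⁻¹ := by
    intro a; rw [hφ]; exact MulAut.conj_apply g a
  obtain ⟨x, hxdef⟩ : ∃ x, x = g * z * g⁻¹ := ⟨_, rfl⟩
  rw [← hxdef] at hxz hxQ
  rw [← hφ] at hzR ⊢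
  have hxφ : φ z = x := by rw [hxdef]; exact hφa z
  have hR : ES (Q.map φ.toMonoidHom) x := by
    have := hQ.map' φ
    rwa [hxφ] at this
  have hx1 : x ≠ 1 := by
    rw [← hxφ]
    intro h
    exact hz1 ((MulEquiv.map_eq_one_iff φ).mp h)
  have hx2 := hR.z2
  have hxzc : x * z = z * x := hQ.cent x hxQ
  -- the four-group
  have hV : ∀ v, v ∈ Z ⊔ Z.map φ.toMonoidHom ↔ v = 1 ∨ v = z ∨ v = x ∨ v = z * x := by
    intro v
    constructor
    · intro hv
      have hle : Z ⊔ Z.map φ.toMonoidHom ≤ fourSub z x hz2 hx2 hxzc := by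
        apply sup_le
        · intro c hc
          rcases (hZiff c).mp hc with rfl | rfl
          · exact Or.inl rfl
          · exact Or.inr (Or.inl rfl)
        · rintro _ ⟨c, hc, rfl⟩
          rcases (hZiff c).mp hc with rfl | rfl
          · left; simp
          · right; right; left; exact hxφ
      exact hle hv
    · have h1 : z ∈ Z ⊔ Z.map φ.toMonoidHom := le_sup_left (a := Z) hzZ
      have h2 : x ∈ Z ⊔ Z.map φ.toMonoidHom :=
        le_sup_right (a := Z) ⟨z, hzZ, hxφ⟩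
      rintro (rfl | rfl | rfl | rfl)
      · exact Subgroup.one_mem _
      · exact h1
      · exact h2
      · exact Subgroup.mul_mem _ h1 h2
  refine ⟨?_, ?_, ?_⟩
  · intro c hc
    rcases (hZiff c).mp hc with rfl | rfl
    · exact Subgroup.one_mem _
    · exact hzR
  · obtain ⟨y, hyQ, hy⟩ := exists_y hQ hxQ hx1 hxz
    obtain ⟨r, hrR, hr⟩ := exists_y hR hzR hz1 (fun h => hxz h.symm)
    have hyz : y * z * y⁻¹ = z := by rw [hQ.cent y hyQ]; group
    have hrx : r * x * r⁻¹ = x := by rw [hR.cent r hrR]; group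
    rw [hxzc] at hr
    exact index_six _ z x y r hV hz1 hx1 hxz hz2 hyz hy hrx hr
  · have hxZ : x ∉ Z := by
      intro h
      rcases (hZiff x).mp h with h | h
      · exact hx1 h
      · exact hxz h
    have hxo : orderOf x = 2 := by
      apply orderOf_eq_prime
      · rw [pow_two]; exact hx2
      · exact hx1
    rw [hZdef] at hxZ
    apply Cfsg.Agent.Lib.Helper9.largeExtraspecial_of_involution Q hL1 hL2 hL3 x hxQ hxZ hxo
    rw [← hZdef]
    have hRle : Q.map φ.toMonoidHom ≤ Qf x :=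
      le_Qf (hL1.1.1.map φ.toMonoidHom) hR.cent hR.norm
    intro c hc
    rcases (hZiff c).mp hc with rfl | rfl
    · exact Subgroup.one_mem _
    · exact hRle hzR

/-- Let Q be an extraspecial 2-subgroup of the finite group G whose centralizer in G is its centre Z and which is normal in the centralizer of Z; suppose Q has width at least 2 (order 2^(2w+1) with w ≥ 2) and g is an element of G not normalizing Z with g Z g⁻¹ inside Q. Then Z lies inside g Q g⁻¹; writing V for the subgroup generated by Z and g Z g⁻¹ (a four-group), the normalizer of V induces on V its full automorphism group, that is, the centralizer of V has index 6 in the normalizer of V; and Q is a large extraspecial 2-subgroup of G. -/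
theorem result {G : Type*} [Group G] [Finite G] (Q : Subgroup G) (hL1 : Cfsg.IsExtraspecial 2 ↥Q) (hL2 : Subgroup.centralizer (Q : Set G) = ((Subgroup.center ↥Q).map Q.subtype)) (hL3 : Subgroup.centralizer (((Subgroup.center ↥Q).map Q.subtype) : Set G) ≤ Subgroup.normalizer (Q : Set G)) (w : ℕ) (hw : 2 ≤ w) (hcard : Nat.card ↥Q = 2 ^ (2 * w + 1)) (g : G) (hg : g ∉ Subgroup.normalizer (((Subgroup.center ↥Q).map Q.subtype) : Set G)) (hZg : (((Subgroup.center ↥Q).map Q.subtype)).map (MulAut.conj g).toMonoidHom ≤ Q) : ((Subgroup.center ↥Q).map Q.subtype) ≤ (Q).map (MulAut.conj g).toMonoidHom ∧ (Subgroup.centralizer ((((Subgroup.center ↥Q).map Q.subtype) ⊔ (((Subgroup.center ↥Q).map Q.subtype)).map (MulAut.conj g).toMonoidHom : Subgroup G) : Set G)).relIndex (Subgroup.normalizer ((((Subgroup.center ↥Q).map Q.subtype) ⊔ (((Subgroup.center ↥Q).map Q.subtype)).map (MulAut.conj g).toMonoidHom : Subgroup G) : Set G)) = 6 ∧ Cfsg.IsLargeExtraspecial Q := by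
  exact main5422 Q hL1 hL2 hL3 g hg hZg

end Cfsg.Agent.S5422
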