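import Mathlib
import Cfsg.Statements.S5598
import Cfsg.Agent.S5595

set_option autoImplicit false
set_option maxHeartbeats 800000

open Cfsg
open Cfsg.Agent.S5595

namespace Cfsg.Agent.S5598

variable {G : Type*} [Group G]

theorem ES_conj {z : G} (hQ : ES (Qf z) z) (g : G) :
    ES (Qf (g * z * g⁻¹)) (g * z * g⁻¹) := by
  have := hQ.map' (MulAut.conj g)
  rwa [← Qf_map, MulAut.conj_apply] at this

theorem inter_le {u v : G} (hQu : ES (Qf u) u) (hv : v ∈ Qf u) (hu : u ∈ Qf v)
    (hv1 : v ≠ 1) (hvu : v ≠ u) : Qf u ⊓ Qf v ≤ Qf (u * v) := by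
  obtain ⟨y, hyQ, hy⟩ := exists_y hQu hv hv1 hvu
  have hmap : Qf (u * v) = (Qf v).map (MulAut.conj y).toMonoidHom := by
    have := Qf_map (MulAut.conj y) v
    rwa [MulAut.conj_apply, hy] at this
  intro x hx
  obtain ⟨hxu, hxv⟩ := hx
  rw [hmap]
  refine ⟨y⁻¹ * x * y, ?_, ?_⟩
  · have h1 := hQu.comm y⁻¹ ((Qf u).inv_mem hyQ) x hxu
    rw [inv_inv] at h1
    have e : y⁻¹ * x * y = (y⁻¹ * x * y * x⁻¹) * x := by group
    rw [e]
    rcases h1 with h1 | h1
    · rw [h1, one_mul]; exact hxv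
    · rw [h1]; exact (Qf v).mul_mem hu hxv
  · show (MulAut.conj y) (y⁻¹ * x * y) = x
    rw [MulAut.conj_apply]; group

theorem main5598 [Finite G] (z : G) (hz : orderOf z = 2)
    (hE : Cfsg.IsExtraspecial 2 ↥(Qf z))
    (hC : Subgroup.centralizer ((Qf z : Subgroup G) : Set G) ≤ Qf z)
    (U : Subgroup G) (hU2 : ∀ u ∈ U, u * u = 1)
    (hS : ∀ u ∈ U, u ≠ 1 → ∃ g : G, g * z * g⁻¹ = u)
    (hO : ∀ u ∈ U, ∀ v ∈ U, u ≠ 1 → v ≠ 1 → v ∈ Qf u)
    (QU : Subgroup G) (hQU : QU = ⨅ u ∈ ((U : Set G) \ {1}), Qf u)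
    (T : Set G) (hT : Subgroup.closure T = U) (hT1 : (1 : G) ∉ T) :
    QU = ⨅ t ∈ T, Qf t := by
  have hQz := ES_of_hyp z hz hE hC
  have hES : ∀ u ∈ U, u ≠ 1 → ES (Qf u) u := by
    intro u hu hu1
    obtain ⟨g, rfl⟩ := hS u hu hu1
    exact ES_conj hQz g
  have hTU : T ⊆ (U : Set G) := by
    rw [← hT]; exact Subgroup.subset_closure
  apply le_antisymm
  · rw [hQU]
    apply le_iInf₂
    intro t ht
    have : t ∈ ((U : Set G) \ {1}) := ⟨hTU ht, fun h => hT1 (by rw [Set.mem_singleton_iff] at h; rwa [h] at ht)⟩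
    exact iInf₂_le t this
  · rw [hQU]
    apply le_iInf₂
    intro u hu
    obtain ⟨huU, hu1⟩ := hu
    have hu1' : u ≠ 1 := fun h => hu1 (by rw [h]; rfl)
    have key : ∀ w (hw : w ∈ Subgroup.closure T), w ≠ 1 → (⨅ t ∈ T, Qf t) ≤ Qf w := by
      intro w hw
      induction hw using Subgroup.closure_induction with
      | mem t ht => intro _; exact iInf₂_le t ht
      | one => intro h; exact absurd rfl h
      | mul a b ha hb iha ihb =>
        intro hab
        rw [hT] at ha hb
        by_cases ha1 : a = 1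
        · rw [ha1, one_mul] at hab ⊢; exact ihb hab
        by_cases hb1 : b = 1
        · rw [hb1, mul_one] at hab ⊢; exact iha hab
        have hba : b ≠ a := by
          intro h; apply hab; rw [h]; exact hU2 a ha
        have h1 := inter_le (hES a ha ha1) (hO a ha b hb ha1 hb1) (hO b hb a ha hb1 ha1) hb1 hba
        exact le_trans (le_inf (iha ha1) (ihb hb1)) h1
      | inv a ha iha =>
        intro ha1
        rw [hT] at ha
        have : a⁻¹ = a := inv_eq_of_mul_eq_one_right (hU2 a ha)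
        rw [this] at ha1 ⊢
        exact iha ha1
    exact key u (by rw [hT]; exact huU) hu1'

/-- Setting: `z` is an involution of the finite group `G`; for each element `x`, `Q x` is the largest normal 2-subgroup of the centralizer of `x`; `Q z` is extraspecial and contains its own centralizer in `G`. A subgroup `U` is singular when it is elementary abelian, every non-identity element of `U` is conjugate to `z`, and any two non-identity elements `u`, `v` of `U` are orthogonal (`v ∈ Q u`). Write `QU` for the intersection of the `Q u` and `LU` for the join of the `Q u` over the non-identity `u` in `U`. If the singular subgroup `U` is generated by a set `T` of non-identity elements, then `QU` is already the intersection of the `Q t` over `t ∈ T`. -/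
theorem result {G : Type*} [Group G] [Finite G]
    (Q : G → Subgroup G)
    (hQ : ∀ x : G, Q x = (Cfsg.pCore 2 ↥(Subgroup.centralizer ({x} : Set G))).map (Subgroup.centralizer ({x} : Set G)).subtype)
    (z : G) (hz : orderOf z = 2) (hE : Cfsg.IsExtraspecial 2 ↥(Q z))
    (hC : Subgroup.centralizer ((Q z : Subgroup G) : Set G) ≤ Q z)
    (U : Subgroup G) (hU2 : ∀ u ∈ U, u * u = 1)
    (hS : ∀ u ∈ U, u ≠ 1 → ∃ g : G, g * z * g⁻¹ = u)
    (hO : ∀ u ∈ U, ∀ v ∈ U, u ≠ 1 → v ≠ 1 → v ∈ Q u)
    (QU LU : Subgroup G) (hQU : QU = ⨅ u ∈ ((U : Set G) \ {1}), Q u) (hLU : LU = ⨆ u ∈ ((U : Set G) \ {1}), Q u)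
    (T : Set G) (hT : Subgroup.closure T = U) (hT1 : (1 : G) ∉ T) :
    QU = ⨅ t ∈ T, Q t := by
  have hQf : Q = Cfsg.Agent.S5595.Qf := funext (fun x => hQ x)
  subst hQf
  exact main5598 z hz hE hC U hU2 hS hO QU hQU T hT hT1

end Cfsg.Agent.S5598
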