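import Mathlib
import Cfsg.Statements.S5597
import Cfsg.Agent.S5595
import Cfsg.Agent.S5598

set_option autoImplicit false
set_option maxHeartbeats 800000

open Cfsg
open Cfsg.Agent.S5595

namespace Cfsg.Agent.S5597

variable {G : Type*} [Group G]

theorem conj_of_ne {E : Subgroup G} {u : G} (hE : ES E u) {g v : G} (hg : g ∈ E) (hv : v ∈ E)
    (h : g * v ≠ v * g) : g * v = u * v * g := by
  rcases hE.comm g hg v hv with h1 | h1
  · exfalso; apply h
    have : g * v = (g * v * g⁻¹ * v⁻¹) * (v * g) := by group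
    rw [this, h1, one_mul]
  · calc g * v = (g * v * g⁻¹ * v⁻¹) * v * g := by group
      _ = u * v * g := by rw [h1]

theorem comm_mul_of_ne {E : Subgroup G} {u : G} (hE : ES E u) {g₀ g₁ v : G} (hg₀ : g₀ ∈ E)
    (hg₁ : g₁ ∈ E) (hv : v ∈ E) (h0 : g₀ * v ≠ v * g₀) (h1 : g₁ * v ≠ v * g₁) :
    (g₀ * g₁) * v = v * (g₀ * g₁) := by
  have e0 := conj_of_ne hE hg₀ hv h0
  have e1 := conj_of_ne hE hg₁ hv h1
  have hu := hE.cent g₀ hg₀
  calc g₀ * g₁ * v = g₀ * (g₁ * v) := by group
    _ = g₀ * (u * v * g₁) := by rw [e1]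
    _ = (g₀ * u) * v * g₁ := by group
    _ = (u * g₀) * v * g₁ := by rw [hu]
    _ = u * (g₀ * v) * g₁ := by group
    _ = u * (u * v * g₀) * g₁ := by rw [e0]
    _ = (u * u) * v * g₀ * g₁ := by group
    _ = v * (g₀ * g₁) := by rw [hE.z2]; group

theorem comm_mul_of_ne' {E : Subgroup G} {u : G} (hE : ES E u) {g x a : G} (hg : g ∈ E)
    (hx : x ∈ E) (ha : a ∈ E) (h0 : g * x ≠ x * g) (h1 : g * a ≠ a * g) :
    g * (x * a) = (x * a) * g := by
  have e0 := conj_of_ne hE hg hx h0
  have e1 := conj_of_ne hE hg ha h1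
  have hu := hE.cent x hx
  calc g * (x * a) = (g * x) * a := by group
    _ = u * x * g * a := by rw [e0]
    _ = u * x * (g * a) := by group
    _ = u * x * (u * a * g) := by rw [e1]
    _ = u * (x * u) * a * g := by group
    _ = u * (u * x) * a * g := by rw [hu]
    _ = (u * u) * x * a * g := by group
    _ = (x * a) * g := by rw [hE.z2]; group

theorem exists_sep {E : Subgroup G} {u : G} (hE : ES E u) (S : Finset G) :
    (∀ s ∈ S, s ∈ E) → ∀ x ∈ E, x ∉ Subgroup.closure ((S : Set G) ∪ {u}) →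
      ∃ g ∈ E, (∀ s ∈ S, g * s = s * g) ∧ g * x ≠ x * g := by
  classical
  induction S using Finset.induction_on with
  | empty =>
    intro _ x hxE hx
    by_contra hcon
    push Not at hcon
    have hall : ∀ v ∈ E, x * v = v * x := by
      intro v hv
      exact (hcon v hv (by simp)).symm
    rcases hE.ctr x hxE hall with h | h
    · apply hx; rw [h]; exact Subgroup.one_mem _
    · apply hx; rw [h]; exact Subgroup.subset_closure (by simp)
  | insert a S ha ih =>
    intro hS x hxE hx
    have haE : a ∈ E := hS a (Finset.mem_insert_self a S)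
    have hS' : ∀ s ∈ S, s ∈ E := fun s hs => hS s (Finset.mem_insert_of_mem hs)
    have hsub : Subgroup.closure ((S : Set G) ∪ {u})
        ≤ Subgroup.closure (((insert a S : Finset G) : Set G) ∪ {u}) := by
      apply Subgroup.closure_mono
      intro t ht
      rcases ht with ht | ht
      · left; exact Finset.mem_coe.mpr (Finset.mem_insert_of_mem (Finset.mem_coe.mp ht))
      · right; exact ht
    have haC : a ∈ Subgroup.closure (((insert a S : Finset G) : Set G) ∪ {u}) := by
      apply Subgroup.subset_closure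
      left; exact Finset.mem_coe.mpr (Finset.mem_insert_self a S)
    have hx1 : x ∉ Subgroup.closure ((S : Set G) ∪ {u}) := fun h => hx (hsub h)
    have hx2 : x * a ∉ Subgroup.closure ((S : Set G) ∪ {u}) := by
      intro h
      apply hx
      have := Subgroup.mul_mem _ (hsub h) (Subgroup.inv_mem _ haC)
      simpa using this
    obtain ⟨g₀, hg₀E, hg₀S, hg₀x⟩ := ih hS' x hxE hx1
    obtain ⟨g₁, hg₁E, hg₁S, hg₁xa⟩ := ih hS' (x * a) (E.mul_mem hxE haE) hx2
    by_cases h0 : g₀ * a = a * g₀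
    · refine ⟨g₀, hg₀E, ?_, hg₀x⟩
      intro s hs
      rcases Finset.mem_insert.mp hs with rfl | hs
      · exact h0
      · exact hg₀S s hs
    by_cases h1 : g₁ * a = a * g₁
    · refine ⟨g₁, hg₁E, ?_, ?_⟩
      · intro s hs
        rcases Finset.mem_insert.mp hs with rfl | hs
        · exact h1
        · exact hg₁S s hs
      · intro hc
        apply hg₁xa
        rw [← mul_assoc, hc, mul_assoc, h1, ← mul_assoc]
    · have h1x : g₁ * x = x * g₁ := by
        by_contra hc
        exact hg₁xa (comm_mul_of_ne' hE hg₁E hxE haE hc h1)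
      refine ⟨g₀ * g₁, E.mul_mem hg₀E hg₁E, ?_, ?_⟩
      · intro s hs
        rcases Finset.mem_insert.mp hs with rfl | hs
        · exact comm_mul_of_ne hE hg₀E hg₁E haE h0 h1
        · rw [mul_assoc, hg₁S s hs, ← mul_assoc, hg₀S s hs, mul_assoc]
      · intro hc
        apply hg₀x
        have : g₀ * x * g₁ = x * g₀ * g₁ := by
          rw [mul_assoc, ← h1x, ← mul_assoc, hc, mul_assoc]
        exact mul_right_cancel this

theorem main5597 [Finite G] (z : G) (hz : orderOf z = 2)
    (hE : Cfsg.IsExtraspecial 2 ↥(Qf z))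
    (hC : Subgroup.centralizer ((Qf z : Subgroup G) : Set G) ≤ Qf z)
    (U : Subgroup G) (hU2 : ∀ u ∈ U, u * u = 1)
    (hS : ∀ u ∈ U, u ≠ 1 → ∃ g : G, g * z * g⁻¹ = u)
    (hO : ∀ u ∈ U, ∀ v ∈ U, u ≠ 1 → v ≠ 1 → v ∈ Qf u)
    (QU LU : Subgroup G) (hQU : QU = ⨅ u ∈ ((U : Set G) \ {1}), Qf u)
    (hLU : LU = ⨆ u ∈ ((U : Set G) \ {1}), Qf u) :
    (∀ g ∈ LU, ∀ x ∈ QU, g * x * g⁻¹ * x⁻¹ ∈ U) ∧
      ∀ x ∈ QU, x ∉ U → ∀ u ∈ U, ∃ g ∈ LU ⊓ Subgroup.centralizer (U : Set G),
        g * x * g⁻¹ = x * u := by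
  have hQz := ES_of_hyp z hz hE hC
  have hES : ∀ u ∈ U, u ≠ 1 → ES (Qf u) u := by
    intro u hu hu1
    obtain ⟨g, rfl⟩ := hS u hu hu1
    exact Cfsg.Agent.S5598.ES_conj hQz g
  have hmemS : ∀ u ∈ U, u ≠ 1 → u ∈ ((U : Set G) \ {1}) := fun u hu hu1 =>
    ⟨hu, fun h => hu1 (by rw [Set.mem_singleton_iff] at h; exact h)⟩
  have hUQ : ∀ u ∈ U, u ≠ 1 → U ≤ Qf u := by
    intro u hu hu1 v hv
    by_cases hv1 : v = 1
    · rw [hv1]; exact Subgroup.one_mem _
    · exact hO u hu v hv hu1 hv1
  have hQUle : ∀ u ∈ U, u ≠ 1 → QU ≤ Qf u := by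
    intro u hu hu1
    rw [hQU]
    exact iInf₂_le u (hmemS u hu hu1)
  have hleLU : ∀ u ∈ U, u ≠ 1 → Qf u ≤ LU := by
    intro u hu hu1
    rw [hLU]
    exact le_iSup₂ (f := fun u (_ : u ∈ ((U : Set G) \ {1})) => Qf u) u (hmemS u hu hu1)
  constructor
  · -- part 1
    let K : Subgroup G :=
      { carrier := {g | (∀ v ∈ U, g * v * g⁻¹ ∈ U ∧ g⁻¹ * v * g ∈ U) ∧
          (∀ x ∈ QU, g * x * g⁻¹ * x⁻¹ ∈ U ∧ g⁻¹ * x * g * x⁻¹ ∈ U)}
        one_mem' := by
          refine ⟨fun v hv => ?_, fun x _ => ?_⟩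
          · simpa using hv
          · simp
        mul_mem' := by
          rintro g h ⟨hg1, hg2⟩ ⟨hh1, hh2⟩
          refine ⟨fun v hv => ⟨?_, ?_⟩, fun x hx => ⟨?_, ?_⟩⟩
          · have := (hg1 _ (hh1 v hv).1).1
            have e : g * h * v * (g * h)⁻¹ = g * (h * v * h⁻¹) * g⁻¹ := by group
            rw [e]; exact this
          · have := (hh1 _ (hg1 v hv).2).2
            have e : (g * h)⁻¹ * v * (g * h) = h⁻¹ * (g⁻¹ * v * g) * h := by group
            rw [e]; exact this
          · have h1 := (hh2 x hx).1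
            have h2 := (hg1 _ h1).1
            have h3 := (hg2 x hx).1
            have e : g * h * x * (g * h)⁻¹ * x⁻¹
                = (g * (h * x * h⁻¹ * x⁻¹) * g⁻¹) * (g * x * g⁻¹ * x⁻¹) := by group
            rw [e]; exact U.mul_mem h2 h3
          · have h1 := (hg2 x hx).2
            have h2 := (hh1 _ h1).2
            have h3 := (hh2 x hx).2
            have e : (g * h)⁻¹ * x * (g * h) * x⁻¹
                = (h⁻¹ * (g⁻¹ * x * g * x⁻¹) * h) * (h⁻¹ * x * h * x⁻¹) := by group
            rw [e]; exact U.mul_mem h2 h3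
        inv_mem' := by
          rintro g ⟨hg1, hg2⟩
          refine ⟨fun v hv => ?_, fun x hx => ?_⟩
          · rw [inv_inv]; exact ⟨(hg1 v hv).2, (hg1 v hv).1⟩
          · rw [inv_inv]; exact ⟨(hg2 x hx).2, (hg2 x hx).1⟩ }
    have hK : LU ≤ K := by
      rw [hLU]
      apply iSup₂_le
      rintro u ⟨huU, hu1⟩
      have hu1' : u ≠ 1 := fun h => hu1 (by rw [h]; rfl)
      have hEu := hES u huU hu1'
      have huU' : ∀ c, (c = 1 ∨ c = u) → c ∈ U := by
        rintro c (rfl | rfl)
        · exact U.one_mem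
        · exact huU
      intro g hg
      have hgi : g⁻¹ ∈ Qf u := (Qf u).inv_mem hg
      refine ⟨fun v hv => ⟨?_, ?_⟩, fun x hx => ⟨?_, ?_⟩⟩
      · have hvQ := hUQ u huU hu1' hv
        have := huU' _ (hEu.comm g hg v hvQ)
        have e : g * v * g⁻¹ = (g * v * g⁻¹ * v⁻¹) * v := by group
        rw [e]; exact U.mul_mem this hv
      · have hvQ := hUQ u huU hu1' hv
        have := huU' _ (hEu.comm g⁻¹ hgi v hvQ)
        rw [inv_inv] at this
        have e : g⁻¹ * v * g = (g⁻¹ * v * g * v⁻¹) * v := by group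
        rw [e]; exact U.mul_mem this hv
      · exact huU' _ (hEu.comm g hg x (hQUle u huU hu1' hx))
      · have := huU' _ (hEu.comm g⁻¹ hgi x (hQUle u huU hu1' hx))
        rwa [inv_inv] at this
    intro g hg x hx
    exact ((hK hg).2 x hx).1
  · -- part 2
    intro x hxQU hxU u hu
    by_cases hu1 : u = 1
    · refine ⟨1, Subgroup.one_mem _, ?_⟩
      rw [hu1]; simp
    · have hEu := hES u hu hu1
      have hxE : x ∈ Qf u := hQUle u hu hu1 hxQU
      classical
      have hfin : (U : Set G).Finite := Set.toFinite _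
      have hclos : Subgroup.closure (((hfin.toFinset : Finset G) : Set G) ∪ {u}) = U := by
        rw [Set.Finite.coe_toFinset]
        have : (U : Set G) ∪ {u} = (U : Set G) := by
          apply Set.union_eq_self_of_subset_right
          intro t ht
          rw [Set.mem_singleton_iff] at ht
          rw [ht]; exact hu
        rw [this, Subgroup.closure_eq]
      obtain ⟨g, hgE, hgS, hgx⟩ := exists_sep hEu hfin.toFinset
        (fun s hs => hUQ u hu hu1 ((Set.Finite.mem_toFinset hfin).mp hs)) x hxE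
        (by rw [hclos]; exact hxU)
      have hgC : g ∈ Subgroup.centralizer (U : Set G) := by
        rw [Subgroup.mem_centralizer_iff]
        intro s hs
        exact (hgS s ((Set.Finite.mem_toFinset hfin).mpr hs)).symm
      refine ⟨g, ⟨hleLU u hu hu1 hgE, hgC⟩, ?_⟩
      · have e := conj_of_ne hEu hgE hxE hgx
        have hxu := hEu.cent x hxE
        calc g * x * g⁻¹ = (g * x) * g⁻¹ := by group
          _ = u * x * g * g⁻¹ := by rw [e]
          _ = u * x := by group
          _ = x * u := hxu.symm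

/-- Setting: `z` is an involution of the finite group `G`; for each element `x`, `Q x` is the largest normal 2-subgroup of the centralizer of `x`; `Q z` is extraspecial and contains its own centralizer in `G`. A subgroup `U` is singular when it is elementary abelian, every non-identity element of `U` is conjugate to `z`, and any two non-identity elements `u`, `v` of `U` are orthogonal (`v ∈ Q u`). Write `QU` for the intersection of the `Q u` and `LU` for the join of the `Q u` over the non-identity `u` in `U`. If `U` is a non-trivial singular subgroup, then `LU` acts trivially on `QU / U` (every commutator of an element of `LU` with an element of `QU` lies in `U`), and for every `x` in `QU` outside `U` the centralizer of `U` in `LU` permutes the coset `x U` transitively: each `x u` with `u ∈ U` is a conjugate of `x` by an element of `LU` centralizing `U`. -/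
theorem result {G : Type*} [Group G] [Finite G]
    (Q : G → Subgroup G)
    (hQ : ∀ x : G, Q x = (Cfsg.pCore 2 ↥(Subgroup.centralizer ({x} : Set G))).map (Subgroup.centralizer ({x} : Set G)).subtype)
    (z : G) (hz : orderOf z = 2) (hE : Cfsg.IsExtraspecial 2 ↥(Q z))
    (hC : Subgroup.centralizer ((Q z : Subgroup G) : Set G) ≤ Q z)
    (U : Subgroup G) (hU2 : ∀ u ∈ U, u * u = 1)
    (hS : ∀ u ∈ U, u ≠ 1 → ∃ g : G, g * z * g⁻¹ = u)
    (hO : ∀ u ∈ U, ∀ v ∈ U, u ≠ 1 → v ≠ 1 → v ∈ Q u)
    (QU LU : Subgroup G) (hQU : QU = ⨅ u ∈ ((U : Set G) \ {1}), Q u) (hLU : LU = ⨆ u ∈ ((U : Set G) \ {1}), Q u)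
    (hU : U ≠ ⊥) :
    (∀ g ∈ LU, ∀ x ∈ QU, g * x * g⁻¹ * x⁻¹ ∈ U) ∧
      ∀ x ∈ QU, x ∉ U → ∀ u ∈ U, ∃ g ∈ LU ⊓ Subgroup.centralizer (U : Set G), g * x * g⁻¹ = x * u := by
  have hQf : Q = Cfsg.Agent.S5595.Qf := funext (fun x => hQ x)
  subst hQf
  exact main5597 z hz hE hC U hU2 hS hO QU LU hQU hLU

end Cfsg.Agent.S5597
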