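import Mathlib
import Cfsg.Statements.S5431
import Cfsg.Agent.S5595
import Cfsg.Agent.S5597
import Cfsg.Agent.S5422

set_option autoImplicit false
set_option maxHeartbeats 800000

open Cfsg
open Cfsg.Agent.S5595

namespace Cfsg.Agent.S5431

variable {G : Type*} [Group G]

/-- data attached to a noncentral element `x` of `Q`. -/
structure NC (Q : Subgroup G) (z x y : G) : Prop where
  yQ : y ∈ Q
  xy : x * y = z * y * x
  idx : ∀ v ∈ Q, v * x = x * v ∨ (y⁻¹ * v) * x = x * (y⁻¹ * v)

theorem exists_NC {Q : Subgroup G} {z x : G} (hQ : ES Q z) (hxQ : x ∈ Q) (hx1 : x ≠ 1)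
    (hxz : x ≠ z) : ∃ y, NC Q z x y := by
  have hz2 := hQ.z2
  have hzi : z⁻¹ = z := inv_eq_of_mul_eq_one_right hz2
  have hcomm1 : ∀ a b : G, a * b * a⁻¹ * b⁻¹ = 1 → a * b = b * a := by
    intro a b h
    have : a * b = (a * b * a⁻¹ * b⁻¹) * (b * a) := by group
    rw [this, h, one_mul]
  obtain ⟨y, hyQ, hxy⟩ : ∃ y ∈ Q, x * y * x⁻¹ * y⁻¹ = z := by
    by_contra hcon
    push Not at hcon
    have : ∀ v ∈ Q, x * v = v * x := by
      intro v hv
      rcases hQ.comm x hxQ v hv with h | h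
      · exact hcomm1 _ _ h
      · exact absurd h (hcon v hv)
    rcases hQ.ctr x hxQ this with h | h
    · exact hx1 h
    · exact hxz h
  have hxyx : x * y * x⁻¹ = z * y := by
    calc x * y * x⁻¹ = (x * y * x⁻¹ * y⁻¹) * y := by group
      _ = z * y := by rw [hxy]
  have hxy' : x * y = z * y * x := by
    calc x * y = (x * y * x⁻¹) * x := by group
      _ = z * y * x := by rw [hxyx]
  refine ⟨y, hyQ, hxy', ?_⟩
  intro v hv
  rcases hQ.comm x hxQ v hv with h | h
  · left
    exact (hcomm1 _ _ h).symm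
  · right
    have hxv : x * v = z * v * x := by
      calc x * v = (x * v * x⁻¹ * v⁻¹) * v * x := by group
        _ = z * v * x := by rw [h]
    have hxyi : x * y⁻¹ = y⁻¹ * z * x := by
      have : x * y⁻¹ * x⁻¹ = (x * y * x⁻¹)⁻¹ := by group
      calc x * y⁻¹ = (x * y⁻¹ * x⁻¹) * x := by group
        _ = (z * y)⁻¹ * x := by rw [this, hxyx]
        _ = y⁻¹ * z * x := by rw [mul_inv_rev, hzi]
    symm
    calc x * (y⁻¹ * v) = (x * y⁻¹) * v := by group
      _ = y⁻¹ * z * x * v := by rw [hxyi]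
      _ = y⁻¹ * z * (x * v) := by group
      _ = y⁻¹ * z * (z * v * x) := by rw [hxv]
      _ = y⁻¹ * (z * z) * v * x := by group
      _ = y⁻¹ * v * x := by rw [hz2, mul_one]

/-- if `b` commutes with `C_Q(x)` and with `y` then it commutes with `Q`. -/
theorem comm_all {Q : Subgroup G} {z x y : G} (h : NC Q z x y) (b : G)
    (hbP : ∀ v ∈ Q, v * x = x * v → b * v = v * b) (hby : b * y = y * b) :
    ∀ v ∈ Q, b * v = v * b := by
  intro v hv
  rcases h.idx v hv with h1 | h1
  · exact hbP v hv h1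
  · have h2 := hbP (y⁻¹ * v) (Q.mul_mem (Q.inv_mem h.yQ) hv) h1
    calc b * v = b * y * (y⁻¹ * v) := by group
      _ = y * b * (y⁻¹ * v) := by rw [hby]
      _ = y * (b * (y⁻¹ * v)) := by group
      _ = y * ((y⁻¹ * v) * b) := by rw [h2]
      _ = v * b := by group

/-- the elements of `G` centralizing `z` and `C_Q(x)` lie in `⟨x, z⟩`. -/
theorem cent_P {Q : Subgroup G} {z x y : G} (hQ : ES Q z) (hz1 : z ≠ 1) (hxQ : x ∈ Q)
    (hx2 : x * x = 1) (h : NC Q z x y) (c : G) (hcz : c * z = z * c)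
    (hcP : ∀ v ∈ Q, v * x = x * v → c * v = v * c) :
    c = 1 ∨ c = x ∨ c = z ∨ c = x * z := by
  have hz2 := hQ.z2
  have hxi : x⁻¹ = x := inv_eq_of_mul_eq_one_right hx2
  have hyQ := h.yQ
  have hxy' := h.xy
  have hyz : y * z = z * y := hQ.cent y hyQ
  have hxz' : x * z = z * x := hQ.cent x hxQ
  have hcx : c * x = x * c := hcP x hxQ rfl
  -- first: if c also commutes with y then c ∈ {1, z}
  have hcase1 : ∀ b : G, (∀ v ∈ Q, v * x = x * v → b * v = v * b) → b * y = y * b →
      b = 1 ∨ b = z := by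
    intro b hbP hby
    have hall := comm_all h b hbP hby
    have hbQ : b ∈ Q := hQ.self b hall
    exact hQ.ctr b hbQ hall
  have hyx : y * x * y⁻¹ = z * x := by
    have h1 : y * x = z * x * y := by
      calc y * x = z * (z * y * x) := by rw [← mul_assoc, ← mul_assoc, hz2, one_mul]
        _ = z * (x * y) := by rw [hxy']
        _ = z * x * y := by group
    rw [h1]; group
  obtain ⟨e, he⟩ : ∃ e, e = y⁻¹ * (c * y * c⁻¹) := ⟨_, rfl⟩
  have heQ : e ∈ Q := by
    rw [he]; exact Q.mul_mem (Q.inv_mem hyQ) (hQ.norm c hcz y hyQ)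
  have hcye : c * y * c⁻¹ = y * e := by rw [he]; group
  have hyyx : (y * y) * x = x * (y * y) := by
    symm
    calc x * (y * y) = (x * y) * y := by group
      _ = z * y * x * y := by rw [hxy']
      _ = z * y * (x * y) := by group
      _ = z * y * (z * y * x) := by rw [hxy']
      _ = z * (y * z) * y * x := by group
      _ = z * (z * y) * y * x := by rw [hyz]
      _ = (z * z) * y * y * x := by group
      _ = y * y * x := by rw [hz2, one_mul]
  have hyy : c * (y * y) * c⁻¹ = y * y := by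
    have := hcP (y * y) (Q.mul_mem hyQ hyQ) hyyx
    rw [this]; group
  have hsq : (y * e) * (y * e) = y * y := by
    rw [← hcye]
    calc c * y * c⁻¹ * (c * y * c⁻¹) = c * (y * y) * c⁻¹ := by group
      _ = y * y := hyy
  -- e commutes with x
  have hcxc : c⁻¹ * x * c = x := by
    calc c⁻¹ * x * c = c⁻¹ * (x * c) := by group
      _ = c⁻¹ * (c * x) := by rw [hcx]
      _ = x := by group
  have hczx : c * (z * x) * c⁻¹ = z * x := by
    calc c * (z * x) * c⁻¹ = (c * z) * x * c⁻¹ := by group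
      _ = z * (c * x) * c⁻¹ := by rw [hcz]; group
      _ = z * (x * c) * c⁻¹ := by rw [hcx]
      _ = z * x := by group
  have hex : e * x = x * e := by
    have e1 : (y * e) * x * (y * e)⁻¹ = z * x := by
      rw [← hcye]
      calc c * y * c⁻¹ * x * (c * y * c⁻¹)⁻¹ = c * y * (c⁻¹ * x * c) * y⁻¹ * c⁻¹ := by group
        _ = c * y * x * y⁻¹ * c⁻¹ := by rw [hcxc]
        _ = c * (y * x * y⁻¹) * c⁻¹ := by group
        _ = c * (z * x) * c⁻¹ := by rw [hyx]
        _ = z * x := hczx
    have e2 : e * x * e⁻¹ = x := by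
      calc e * x * e⁻¹ = y⁻¹ * ((y * e) * x * (y * e)⁻¹) * y := by group
        _ = y⁻¹ * (z * x) * y := by rw [e1]
        _ = y⁻¹ * (y * x * y⁻¹) * y := by rw [hyx]
        _ = x := by group
    calc e * x = (e * x * e⁻¹) * e := by group
      _ = x * e := by rw [e2]
  -- e commutes with C_Q(x)
  have heP : ∀ u ∈ Q, u * x = x * u → e * u = u * e := by
    intro u hu hux
    -- y u y⁻¹ ∈ C_Q(x)
    have h1 : y * u * y⁻¹ ∈ Q := Q.mul_mem (Q.mul_mem hyQ hu) (Q.inv_mem hyQ)
    have h2 : (y * u * y⁻¹) * x = x * (y * u * y⁻¹) := by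
      have hzw : z * (y * u * y⁻¹) = (y * u * y⁻¹) * z := (hQ.cent _ h1).symm
      have hxyx : x * y * x⁻¹ = z * y := by rw [hxy']; group
      have hxux : x * u * x⁻¹ = u := by rw [← hux]; group
      symm
      calc x * (y * u * y⁻¹) = (x * y * x⁻¹) * (x * u * x⁻¹) * (x * y * x⁻¹)⁻¹ * x := by group
        _ = (z * y) * u * (z * y)⁻¹ * x := by rw [hxyx, hxux]
        _ = z * (y * u * y⁻¹) * z⁻¹ * x := by group
        _ = (y * u * y⁻¹) * z * z⁻¹ * x := by rw [hzw]
        _ = (y * u * y⁻¹) * x := by group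
    have h3 := hcP _ h1 h2
    have h4 := hcP u hu hux
    -- c (y u y⁻¹) c⁻¹ = y u y⁻¹ and = (y e) u (y e)⁻¹
    have h5 : (y * e) * u * (y * e)⁻¹ = y * u * y⁻¹ := by
      rw [← hcye]
      calc c * y * c⁻¹ * u * (c * y * c⁻¹)⁻¹ = c * y * (c⁻¹ * u * c) * y⁻¹ * c⁻¹ := by group
        _ = c * y * u * y⁻¹ * c⁻¹ := by
            have : c⁻¹ * u * c = u := by
              calc c⁻¹ * u * c = c⁻¹ * (u * c) := by group
                _ = c⁻¹ * (c * u) := by rw [h4]
                _ = u := by group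
            rw [this]
        _ = (c * (y * u * y⁻¹)) * c⁻¹ := by group
        _ = ((y * u * y⁻¹) * c) * c⁻¹ := by rw [h3]
        _ = y * u * y⁻¹ := by group
    have h6 : e * u * e⁻¹ = u := by
      calc e * u * e⁻¹ = y⁻¹ * ((y * e) * u * (y * e)⁻¹) * y := by group
        _ = y⁻¹ * (y * u * y⁻¹) * y := by rw [h5]
        _ = u := by group
    calc e * u = (e * u * e⁻¹) * e := by group
      _ = u * e := by rw [h6]
  -- classify e via comm-all
  have hyxyx : (y * x) * (y * x) = z * (y * y) := by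
    calc (y * x) * (y * x) = y * (x * y) * x := by group
      _ = y * (z * y * x) * x := by rw [hxy']
      _ = (y * z) * y * (x * x) := by group
      _ = z * (y * y) := by rw [hyz, hx2]; group
  -- e ∈ {1, x, z, xz}
  have heV : e = 1 ∨ e = x ∨ e = z ∨ e = x * z := by
    by_cases hey : e * y = y * e
    · rcases hQ.ctr e heQ (comm_all h e heP hey) with h1 | h1
      · exact Or.inl h1
      · exact Or.inr (Or.inr (Or.inl h1))
    · have hey' := Cfsg.Agent.S5597.conj_of_ne hQ heQ hyQ hey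
      have hP' : ∀ v ∈ Q, v * x = x * v → (x * e) * v = v * (x * e) := by
        intro v hv hvx
        rw [mul_assoc, heP v hv hvx, ← mul_assoc, ← hvx, mul_assoc]
      have hy' : (x * e) * y = y * (x * e) := by
        calc x * e * y = x * (e * y) := by group
          _ = x * (z * y * e) := by rw [hey']
          _ = (x * z) * y * e := by group
          _ = (z * x) * y * e := by rw [hxz']
          _ = z * (x * y) * e := by group
          _ = z * (z * y * x) * e := by rw [hxy']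
          _ = (z * z) * y * x * e := by group
          _ = y * (x * e) := by rw [hz2]; group
      rcases hQ.ctr (x * e) (Q.mul_mem hxQ heQ) (comm_all h (x * e) hP' hy') with h1 | h1
      · right; left
        have : e = x⁻¹ := eq_inv_of_mul_eq_one_right h1
        rw [this, hxi]
      · right; right; right
        have : e = x⁻¹ * z := by rw [← h1]; group
        rw [this, hxi]
  rcases heV with h1 | h1 | h1 | h1
  · -- e = 1
    rw [h1, mul_one] at hcye
    have hcy : c * y = y * c := by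
      calc c * y = (c * y * c⁻¹) * c := by group
        _ = y * c := by rw [hcye]
    rcases hcase1 c hcP hcy with h2 | h2
    · exact Or.inl h2
    · exact Or.inr (Or.inr (Or.inl h2))
  · -- e = x : impossible
    exfalso
    rw [h1, hyxyx] at hsq
    apply hz1
    have : z * (y * y) = 1 * (y * y) := by rw [one_mul]; exact hsq
    exact mul_right_cancel this
  · -- e = z
    rw [h1] at hcye
    have hxcy : (x * c) * y = y * (x * c) := by
      calc x * c * y = x * (c * y * c⁻¹) * c := by group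
        _ = x * (y * z) * c := by rw [hcye]
        _ = (x * y) * z * c := by group
        _ = (z * y * x) * z * c := by rw [hxy']
        _ = z * y * (x * z) * c := by group
        _ = z * y * (z * x) * c := by rw [hxz']
        _ = z * (y * z) * x * c := by group
        _ = z * (z * y) * x * c := by rw [hyz]
        _ = (z * z) * y * x * c := by group
        _ = y * (x * c) := by rw [hz2]; group
    have hxcP : ∀ v ∈ Q, v * x = x * v → (x * c) * v = v * (x * c) := by
      intro v hv hvx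
      rw [mul_assoc, hcP v hv hvx, ← mul_assoc, ← hvx, mul_assoc]
    rcases hcase1 (x * c) hxcP hxcy with h2 | h2
    · right; left
      have : c = x⁻¹ := eq_inv_of_mul_eq_one_right h2
      rw [this, hxi]
    · right; right; right
      have : c = x⁻¹ * z := by rw [← h2]; group
      rw [this, hxi]
  · -- e = x * z : impossible
    exfalso
    rw [h1] at hsq
    apply hz1
    have h2 : (y * (x * z)) * (y * (x * z)) = z * (y * y) := by
      calc (y * (x * z)) * (y * (x * z)) = y * x * (z * y) * x * z := by group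
        _ = y * x * (y * z) * x * z := by rw [hyz]
        _ = y * x * y * (z * x) * z := by group
        _ = y * x * y * (x * z) * z := by rw [hxz']
        _ = (y * x) * (y * x) * (z * z) := by group
        _ = z * (y * y) := by rw [hyxyx, hz2, mul_one]
    rw [h2] at hsq
    have : z * (y * y) = 1 * (y * y) := by rw [one_mul]; exact hsq
    exact mul_right_cancel this

/-- commutators with a fixed element, extended to a closure. -/
theorem comm_closure (V : Subgroup G) (S : Set G) (e : G)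
    (hSN : S ⊆ (Subgroup.normalizer (V : Set G) : Set G))
    (hS : ∀ s ∈ S, s * e * s⁻¹ * e⁻¹ ∈ V) :
    ∀ a ∈ Subgroup.closure S, a * e * a⁻¹ * e⁻¹ ∈ V := by
  intro a ha
  have hN : Subgroup.closure S ≤ Subgroup.normalizer (V : Set G) :=
    (Subgroup.closure_le _).mpr hSN
  induction ha using Subgroup.closure_induction with
  | mem s hs => exact hS s hs
  | one => simp
  | mul a b ha hb iha ihb =>
      have haN := hN ha
      have e1 : a * b * e * (a * b)⁻¹ * e⁻¹
          = (a * (b * e * b⁻¹ * e⁻¹) * a⁻¹) * (a * e * a⁻¹ * e⁻¹) := by group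
      rw [e1]
      exact V.mul_mem ((Subgroup.mem_normalizer_iff.mp haN _).mp ihb) iha
  | inv a ha iha =>
      have haN := hN (Subgroup.inv_mem _ ha)
      have e1 : a⁻¹ * e * a⁻¹⁻¹ * e⁻¹ = a⁻¹ * (a * e * a⁻¹ * e⁻¹)⁻¹ * a⁻¹⁻¹ := by group
      rw [e1]
      exact (Subgroup.mem_normalizer_iff.mp haN _).mp (V.inv_mem iha)

/-- a subgroup all of whose elements conjugate `V` into itself normalizes `V`. -/
theorem le_normalizer_of_conj (K V : Subgroup G)
    (h : ∀ k ∈ K, ∀ v ∈ V, k * v * k⁻¹ ∈ V) : K ≤ Subgroup.normalizer (V : Set G) := by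
  intro k hk
  rw [Subgroup.mem_normalizer_iff]
  intro v
  constructor
  · exact h k hk v
  · intro hv
    have := h k⁻¹ (K.inv_mem hk) _ hv
    have e1 : k⁻¹ * (k * v * k⁻¹) * k⁻¹⁻¹ = v := by group
    rwa [e1] at this

/-- both commutators and squares, extended to a closure. -/
theorem comm_sq_closure (E : Subgroup G) (S : Set G)
    (hSN : S ⊆ (Subgroup.normalizer (E : Set G) : Set G))
    (hS : ∀ s ∈ S, ∀ t ∈ S, s * t * s⁻¹ * t⁻¹ ∈ E)
    (hSq : ∀ s ∈ S, s * s ∈ E) :
    ∀ a ∈ Subgroup.closure S, ∀ b ∈ Subgroup.closure S,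
      a * b * a⁻¹ * b⁻¹ ∈ E ∧ a * a ∈ E := by
  have h1 : ∀ t ∈ S, ∀ a ∈ Subgroup.closure S, a * t * a⁻¹ * t⁻¹ ∈ E := by
    intro t ht
    exact comm_closure E S t hSN (fun s hs => hS s hs t ht)
  have h2 : ∀ a ∈ Subgroup.closure S, ∀ b ∈ Subgroup.closure S, b * a * b⁻¹ * a⁻¹ ∈ E := by
    intro a ha
    apply comm_closure E S a hSN
    intro s hs
    have := E.inv_mem (h1 s hs a ha)
    have e1 : (a * s * a⁻¹ * s⁻¹)⁻¹ = s * a * s⁻¹ * a⁻¹ := by group
    rwa [e1] at this
  have h3 : ∀ a ∈ Subgroup.closure S, a * a ∈ E := by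
    intro a ha
    induction ha using Subgroup.closure_induction with
    | mem s hs => exact hSq s hs
    | one => simp
    | mul a b ha hb iha ihb =>
        have e1 : a * b * (a * b) = (a * a) * (a⁻¹ * b * a⁻¹⁻¹ * b⁻¹) * (b * b) := by group
        rw [e1]
        exact E.mul_mem (E.mul_mem iha (h2 b hb a⁻¹ (Subgroup.inv_mem _ ha))) ihb
    | inv a ha iha =>
        have e1 : a⁻¹ * a⁻¹ = (a * a)⁻¹ := by group
        rw [e1]
        exact E.inv_mem iha
  intro a ha b hb
  exact ⟨h2 b hb a ha, h3 a ha⟩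

theorem core5431 {Q Q' : Subgroup G} {z x : G} (hQ : ES Q z) (hQ' : ES Q' x)
    (hz1 : z ≠ 1) (hx1 : x ≠ 1) (hxz : x ≠ z) (hxQ : x ∈ Q) (hzQ' : z ∈ Q')
    (V X R E : Subgroup G)
    (hV : V = Subgroup.closure ({z, x} : Set G)) (hX : X = Q ⊔ Q')
    (hR : R = (Q' ⊓ Subgroup.centralizer ({z} : Set G)) ⊔
      (Q ⊓ Subgroup.centralizer ({x} : Set G)))
    (hE : E = Q ⊓ Q') :
    (Subgroup.center ↥R).map R.subtype = V ∧
    E ≤ (Subgroup.upperCentralSeries ↥R 2).map R.subtype ∧
    Subgroup.upperCentralSeries ↥R 3 = ⊤ ∧ Cfsg.IsElementaryAbelian 2 E ∧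
    (∀ a ∈ R, ∀ b ∈ R, a * b * a⁻¹ * b⁻¹ ∈ E ∧ a ^ 2 ∈ E) ∧
    (Q' ⊓ Subgroup.centralizer ({z} : Set G)) ⊓ (Q ⊓ Subgroup.centralizer ({x} : Set G)) = E ∧
    ⁅X, E⁆ ≤ V := by
  have hz2 := hQ.z2
  have hx2 := hQ'.z2
  have hzi : z⁻¹ = z := inv_eq_of_mul_eq_one_right hz2
  have hxi : x⁻¹ = x := inv_eq_of_mul_eq_one_right hx2
  have hxz' : x * z = z * x := hQ.cent x hxQ
  obtain ⟨P, hP⟩ : ∃ P : Subgroup G, P = Q ⊓ Subgroup.centralizer ({x} : Set G) := ⟨_, rfl⟩
  obtain ⟨P', hP'⟩ : ∃ P' : Subgroup G, P' = Q' ⊓ Subgroup.centralizer ({z} : Set G) :=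
    ⟨_, rfl⟩
  rw [← hP, ← hP'] at hR ⊢
  have hmemP : ∀ a, a ∈ P ↔ a ∈ Q ∧ a * x = x * a := by
    intro a; rw [hP, Subgroup.mem_inf, Subgroup.mem_centralizer_singleton_iff]
  have hmemP' : ∀ a, a ∈ P' ↔ a ∈ Q' ∧ a * z = z * a := by
    intro a; rw [hP', Subgroup.mem_inf, Subgroup.mem_centralizer_singleton_iff]
  have hmemE : ∀ a, a ∈ E ↔ a ∈ Q ∧ a ∈ Q' := by
    intro a; rw [hE, Subgroup.mem_inf]
  have hVle : V ≤ Cfsg.Agent.S5422.fourSub z x hz2 hx2 hxz' := by
    rw [hV, Subgroup.closure_le]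
    intro v hv
    rcases hv with h | h
    · exact Or.inr (Or.inl h)
    · exact Or.inr (Or.inr (Or.inl h))
  have hVmem : ∀ v ∈ V, v = 1 ∨ v = z ∨ v = x ∨ v = z * x := fun v hv => hVle hv
  have hzV : z ∈ V := by rw [hV]; exact Subgroup.subset_closure (by simp)
  have hxV : x ∈ V := by rw [hV]; exact Subgroup.subset_closure (by simp)
  have hzQ := hQ.zQ
  have hxQ' := hQ'.zQ
  have hzE : z ∈ E := (hmemE z).mpr ⟨hzQ, hzQ'⟩
  have hxE : x ∈ E := (hmemE x).mpr ⟨hxQ, hxQ'⟩
  have hEP : E ≤ P := by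
    intro e he
    have := (hmemE e).mp he
    exact (hmemP e).mpr ⟨this.1, hQ'.cent e this.2⟩
  have hEP' : E ≤ P' := by
    intro e he
    have := (hmemE e).mp he
    exact (hmemP' e).mpr ⟨this.2, hQ.cent e this.1⟩
  have hPR : P ≤ R := by rw [hR]; exact le_sup_right
  have hP'R : P' ≤ R := by rw [hR]; exact le_sup_left
  have hER : E ≤ R := hEP.trans hPR
  have hPQ : P ≤ Q := by rw [hP]; exact inf_le_left
  have hP'Q' : P' ≤ Q' := by rw [hP']; exact inf_le_left
  have hEcomm : ∀ e ∈ E, ∀ f ∈ E, e * f = f * e := by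
    intro e he f hf
    have he' := (hmemE e).mp he
    have hf' := (hmemE f).mp hf
    have hc : e * f * e⁻¹ * f⁻¹ = 1 := by
      rcases hQ.comm e he'.1 f hf'.1 with h | h
      · exact h
      · rcases hQ'.comm e he'.2 f hf'.2 with h' | h'
        · exact h'
        · exact absurd (h'.symm.trans h) hxz
    calc e * f = (e * f * e⁻¹ * f⁻¹) * (f * e) := by group
      _ = f * e := by rw [hc, one_mul]
  have hEsq : ∀ e ∈ E, e * e = 1 := by
    intro e he
    have he' := (hmemE e).mp he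
    rcases hQ.sq e he'.1 with h | h
    · exact h
    · rcases hQ'.sq e he'.2 with h' | h'
      · exact h'
      · exact absurd (h'.symm.trans h) hxz
  have h4 : Cfsg.IsElementaryAbelian 2 E := by
    refine ⟨⟨⟨fun a b => Subtype.ext (hEcomm a a.2 b b.2)⟩⟩, ?_⟩
    intro a ha
    rw [pow_two]; exact hEsq a ha
  have h6 : P' ⊓ P = E := by
    apply le_antisymm
    · intro a ha
      rw [Subgroup.mem_inf] at ha
      exact (hmemE a).mpr ⟨hPQ ha.2, hP'Q' ha.1⟩
    · exact le_inf hEP' hEP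
  have hPN : P ≤ Subgroup.normalizer (E : Set G) := by
    apply le_normalizer_of_conj
    intro p hp e he
    have hp' := (hmemP p).mp hp
    have he' := (hmemE e).mp he
    exact (hmemE _).mpr ⟨Q.mul_mem (Q.mul_mem hp'.1 he'.1) (Q.inv_mem hp'.1),
      hQ'.norm p hp'.2 e he'.2⟩
  have hP'N : P' ≤ Subgroup.normalizer (E : Set G) := by
    apply le_normalizer_of_conj
    intro p hp e he
    have hp' := (hmemP' p).mp hp
    have he' := (hmemE e).mp he
    exact (hmemE _).mpr ⟨hQ.norm p hp'.2 e he'.1,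
      Q'.mul_mem (Q'.mul_mem hp'.1 he'.2) (Q'.inv_mem hp'.1)⟩
  have hcPP : ∀ s ∈ P, ∀ t ∈ P, s * t * s⁻¹ * t⁻¹ ∈ E := by
    intro s hs t ht
    rcases hQ.comm s (hPQ hs) t (hPQ ht) with h | h
    · rw [h]; exact E.one_mem
    · rw [h]; exact hzE
  have hcP'P' : ∀ s ∈ P', ∀ t ∈ P', s * t * s⁻¹ * t⁻¹ ∈ E := by
    intro s hs t ht
    rcases hQ'.comm s (hP'Q' hs) t (hP'Q' ht) with h | h
    · rw [h]; exact E.one_mem
    · rw [h]; exact hxE
  have hcPP' : ∀ s ∈ P, ∀ t ∈ P', s * t * s⁻¹ * t⁻¹ ∈ E := by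
    intro s hs t ht
    have hs' := (hmemP s).mp hs
    have ht' := (hmemP' t).mp ht
    refine (hmemE _).mpr ⟨?_, ?_⟩
    · have e1 : s * t * s⁻¹ * t⁻¹ = s * (t * s⁻¹ * t⁻¹) := by group
      rw [e1]
      exact Q.mul_mem hs'.1 (hQ.norm t ht'.2 s⁻¹ (Q.inv_mem hs'.1))
    · exact Q'.mul_mem (hQ'.norm s hs'.2 t ht'.1) (Q'.inv_mem ht'.1)
  have hcP'P : ∀ s ∈ P', ∀ t ∈ P, s * t * s⁻¹ * t⁻¹ ∈ E := by
    intro s hs t ht
    have := E.inv_mem (hcPP' t ht s hs)
    have e1 : (t * s * t⁻¹ * s⁻¹)⁻¹ = s * t * s⁻¹ * t⁻¹ := by group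
    rwa [e1] at this
  have hsqP : ∀ s ∈ P, s * s ∈ E := by
    intro s hs
    rcases hQ.sq s (hPQ hs) with h | h
    · rw [h]; exact E.one_mem
    · rw [h]; exact hzE
  have hsqP' : ∀ s ∈ P', s * s ∈ E := by
    intro s hs
    rcases hQ'.sq s (hP'Q' hs) with h | h
    · rw [h]; exact E.one_mem
    · rw [h]; exact hxE
  have hRcl : R = Subgroup.closure ((P' : Set G) ∪ (P : Set G)) := by
    rw [Subgroup.closure_union, Subgroup.closure_eq, Subgroup.closure_eq, hR]
  have h5 : ∀ a ∈ R, ∀ b ∈ R, a * b * a⁻¹ * b⁻¹ ∈ E ∧ a * a ∈ E := by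
    rw [hRcl]
    apply comm_sq_closure
    · rintro s (hs | hs)
      · exact hP'N hs
      · exact hPN hs
    · rintro s (hs | hs) t (ht | ht)
      · exact hcP'P' s hs t ht
      · exact hcP'P s hs t ht
      · exact hcPP' s hs t ht
      · exact hcPP s hs t ht
    · rintro s (hs | hs)
      · exact hsqP' s hs
      · exact hsqP s hs
  have hQNV : Q ≤ Subgroup.normalizer (V : Set G) := by
    apply le_normalizer_of_conj
    intro q hq v hv
    have hqz : q * z * q⁻¹ = z := by rw [hQ.cent q hq]; group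
    have hqx : q * x * q⁻¹ ∈ V := by
      have e1 : q * x * q⁻¹ = (q * x * q⁻¹ * x⁻¹) * x := by group
      rw [e1]
      rcases hQ.comm q hq x hxQ with h | h
      · rw [h, one_mul]; exact hxV
      · rw [h]; exact V.mul_mem hzV hxV
    rcases hVmem v hv with h | h | h | h
    · rw [h]; simp
    · rw [h, hqz]; exact hzV
    · rw [h]; exact hqx
    · have e1 : q * (z * x) * q⁻¹ = (q * z * q⁻¹) * (q * x * q⁻¹) := by group
      rw [h, e1, hqz]; exact V.mul_mem hzV hqx
  have hQ'NV : Q' ≤ Subgroup.normalizer (V : Set G) := by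
    apply le_normalizer_of_conj
    intro q hq v hv
    have hqx : q * x * q⁻¹ = x := by rw [hQ'.cent q hq]; group
    have hqz : q * z * q⁻¹ ∈ V := by
      have e1 : q * z * q⁻¹ = (q * z * q⁻¹ * z⁻¹) * z := by group
      rw [e1]
      rcases hQ'.comm q hq z hzQ' with h | h
      · rw [h, one_mul]; exact hzV
      · rw [h]; exact V.mul_mem hxV hzV
    rcases hVmem v hv with h | h | h | h
    · rw [h]; simp
    · rw [h]; exact hqz
    · rw [h, hqx]; exact hxV
    · have e1 : q * (z * x) * q⁻¹ = (q * z * q⁻¹) * (q * x * q⁻¹) := by group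
      rw [h, e1, hqx]; exact V.mul_mem hqz hxV
  have hXcl : X = Subgroup.closure ((Q : Set G) ∪ (Q' : Set G)) := by
    rw [Subgroup.closure_union, Subgroup.closure_eq, Subgroup.closure_eq, hX]
  have hXE : ∀ a ∈ X, ∀ e ∈ E, a * e * a⁻¹ * e⁻¹ ∈ V := by
    intro a ha e he
    have he' := (hmemE e).mp he
    rw [hXcl] at ha
    refine comm_closure V _ e ?_ ?_ a ha
    · rintro s (hs | hs)
      · exact hQNV hs
      · exact hQ'NV hs
    · rintro s (hs | hs)
      · rcases hQ.comm s hs e he'.1 with h | h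
        · rw [h]; exact V.one_mem
        · rw [h]; exact hzV
      · rcases hQ'.comm s hs e he'.2 with h | h
        · rw [h]; exact V.one_mem
        · rw [h]; exact hxV
  have h7 : ⁅X, E⁆ ≤ V := by
    rw [Subgroup.commutator_le]
    intro a ha e he
    rw [commutatorElement_def]
    exact hXE a ha e he
  have hRX : R ≤ X := by
    rw [hR, hX]
    exact sup_le (hP'Q'.trans le_sup_right) (hPQ.trans le_sup_left)
  have hRz : ∀ r ∈ R, r * z = z * r := by
    have hle : R ≤ Subgroup.centralizer ({z} : Set G) := by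
      rw [hR]
      apply sup_le
      · rw [hP']; exact inf_le_right
      · intro p hp
        rw [Subgroup.mem_centralizer_singleton_iff]; exact hQ.cent p (hPQ hp)
    intro r hr; exact Subgroup.mem_centralizer_singleton_iff.mp (hle hr)
  have hRx : ∀ r ∈ R, r * x = x * r := by
    have hle : R ≤ Subgroup.centralizer ({x} : Set G) := by
      rw [hR]
      apply sup_le
      · intro p hp
        rw [Subgroup.mem_centralizer_singleton_iff]; exact hQ'.cent p (hP'Q' hp)
      · rw [hP]; exact inf_le_right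
    intro r hr; exact Subgroup.mem_centralizer_singleton_iff.mp (hle hr)
  have hVR : V ≤ R := by
    rw [hV, Subgroup.closure_le]
    intro v hv
    rcases hv with h | h
    · rw [h]; exact hER hzE
    · rw [Set.mem_singleton_iff] at h; rw [h]; exact hER hxE
  have hVc : ∀ v ∈ V, ∀ r ∈ R, r * v = v * r := by
    intro v hv r hr
    rcases hVmem v hv with h | h | h | h
    · rw [h, mul_one, one_mul]
    · rw [h]; exact hRz r hr
    · rw [h]; exact hRx r hr
    · rw [h, ← mul_assoc, hRz r hr, mul_assoc, hRx r hr, ← mul_assoc]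
  obtain ⟨y, hy⟩ := exists_NC hQ hxQ hx1 hxz
  have hcenter : ∀ c : ↥R, (c : G) ∈ V → c ∈ Subgroup.center ↥R := by
    intro c hc
    rw [Subgroup.mem_center_iff]
    intro r
    apply Subtype.ext
    exact hVc c hc r r.2
  have h1 : (Subgroup.center ↥R).map R.subtype = V := by
    apply le_antisymm
    · rintro _ ⟨c, hc, rfl⟩
      rw [SetLike.mem_coe, Subgroup.mem_center_iff] at hc
      have hcP : ∀ v ∈ Q, v * x = x * v → (c : G) * v = v * c := by
        intro v hv hvx
        have hvR : v ∈ R := hPR ((hmemP v).mpr ⟨hv, hvx⟩)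
        have h := congrArg Subtype.val (hc ⟨v, hvR⟩)
        exact h.symm
      have hcz : (c : G) * z = z * c := hRz c c.2
      show (c : G) ∈ V
      rcases cent_P hQ hz1 hxQ hx2 hy (c : G) hcz hcP with h | h | h | h
      · rw [h]; exact V.one_mem
      · rw [h]; exact hxV
      · rw [h]; exact hzV
      · rw [h]; exact V.mul_mem hxV hzV
    · intro v hv
      exact ⟨⟨v, hVR hv⟩, hcenter _ hv, rfl⟩
  have hEV : ∀ e ∈ E, ∀ r ∈ R, e * r * e⁻¹ * r⁻¹ ∈ V := by
    intro e he r hr
    have := V.inv_mem (hXE r (hRX hr) e he)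
    have e1 : (r * e * r⁻¹ * e⁻¹)⁻¹ = e * r * e⁻¹ * r⁻¹ := by group
    rwa [e1] at this
  have hZ2 : ∀ c : ↥R, (c : G) ∈ E → c ∈ Subgroup.upperCentralSeries ↥R 2 := by
    intro c hc
    show c ∈ Subgroup.upperCentralSeries ↥R (1 + 1)
    rw [Subgroup.mem_upperCentralSeries_succ_iff]
    intro r
    rw [Subgroup.upperCentralSeries_one]
    apply hcenter
    rw [commutatorElement_def]
    exact hEV c hc r r.2
  have h2 : E ≤ (Subgroup.upperCentralSeries ↥R 2).map R.subtype := by
    intro e he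
    exact ⟨⟨e, hER he⟩, hZ2 _ he, rfl⟩
  have h3 : Subgroup.upperCentralSeries ↥R 3 = ⊤ := by
    rw [eq_top_iff]
    intro c _
    show c ∈ Subgroup.upperCentralSeries ↥R (2 + 1)
    rw [Subgroup.mem_upperCentralSeries_succ_iff]
    intro r
    apply hZ2
    rw [commutatorElement_def]
    exact (h5 c c.2 r r.2).1
  refine ⟨h1, h2, h3, h4, ?_, h6, h7⟩
  intro a ha b hb
  exact ⟨(h5 a ha b hb).1, by rw [pow_two]; exact (h5 a ha b hb).2⟩

theorem main5431 [Finite G] (Q : Subgroup G) (hQ : Cfsg.IsLargeExtraspecial Q) (z : G)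
    (hz : ((Subgroup.center ↥Q).map Q.subtype) = Subgroup.zpowers z) (hz2 : orderOf z = 2)
    (g : G) (hgH : g ∉ Subgroup.centralizer ({z} : Set G)) (hgQ : g * z * g⁻¹ ∈ Q)
    (V X R E : Subgroup G) (hV : V = Subgroup.closure ({z, g * z * g⁻¹} : Set G))
    (hX : X = Q ⊔ (Q).map (MulAut.conj g).toMonoidHom)
    (hR : R = ((Q).map (MulAut.conj g).toMonoidHom ⊓ Subgroup.centralizer ({z} : Set G)) ⊔
      (Q ⊓ Subgroup.centralizer ({g * z * g⁻¹} : Set G)))
    (hE : E = Q ⊓ (Q).map (MulAut.conj g).toMonoidHom) :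
    (Subgroup.center ↥R).map R.subtype = V ∧
    E ≤ (Subgroup.upperCentralSeries ↥R 2).map R.subtype ∧
    Subgroup.upperCentralSeries ↥R 3 = ⊤ ∧ Cfsg.IsElementaryAbelian 2 E ∧
    (∀ x ∈ R, ∀ y ∈ R, x * y * x⁻¹ * y⁻¹ ∈ E ∧ x ^ 2 ∈ E) ∧
    ((Q).map (MulAut.conj g).toMonoidHom ⊓ Subgroup.centralizer ({z} : Set G)) ⊓
      (Q ⊓ Subgroup.centralizer ({g * z * g⁻¹} : Set G)) = E ∧ ⁅X, E⁆ ≤ V := by
  obtain ⟨hL1, hL2, hL3, _⟩ := hQ
  obtain ⟨z₀, hz₀1, hZiff, hES₀⟩ := Cfsg.Agent.S5422.setup Q hL1 hL2 hL3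
  have hz1 : z ≠ 1 := by
    intro h; rw [h, orderOf_one] at hz2; omega
  have hzz₀ : z₀ = z := by
    have : z ∈ (Subgroup.center ↥Q).map Q.subtype := by rw [hz]; exact Subgroup.mem_zpowers z
    rcases (hZiff z).mp this with h | h
    · exact absurd h hz1
    · exact h.symm
  have hES : ES Q z := by rw [← hzz₀]; exact hES₀
  have hxz : g * z * g⁻¹ ≠ z := by
    intro h
    apply hgH
    rw [Subgroup.mem_centralizer_singleton_iff]
    calc g * z = (g * z * g⁻¹) * g := by group
      _ = z * g := by rw [h]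
  have hx1 : g * z * g⁻¹ ≠ 1 := by
    intro h
    apply hz1
    have e1 : z = g⁻¹ * (g * z * g⁻¹) * g := by group
    rw [e1, h]; group
  have hzQ' := Cfsg.Agent.S5422.z_mem hES hz1 g hxz hgQ
  have hES' : ES (Q.map (MulAut.conj g).toMonoidHom) (g * z * g⁻¹) := by
    have := hES.map' (MulAut.conj g)
    rwa [MulAut.conj_apply] at this
  exact core5431 hES hES' hz1 hx1 hxz hgQ hzQ' V X R E hV hX hR hE

/-- Let Q be a large extraspecial 2-subgroup of the finite group G (extraspecial; centralizer equal to its centre; normal in the centralizer of its centre; normalizing no non-trivial subgroup of odd order) with centre generated by z, an involution, of width w ≥ 2 (order 2^(2w+1)); let g be an element outside the centralizer H of z with g z g⁻¹ in Q; write V for the subgroup generated by z and g z g⁻¹, X for the subgroup generated by Q and g Q g⁻¹, R for the subgroup generated by the centralizer of z in g Q g⁻¹ and the centralizer of g z g⁻¹ in Q, and E for the intersection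 of Q and g Q g⁻¹. Then V is the centre of R, E lies in the second centre of R, R is nilpotent of class at most 3, E and R/E are elementary abelian, R/E is the direct product of the images of the centralizer of g z g⁻¹ in Q and of the centralizer of z in g Q g⁻¹ (R is their product and they meet in E), and the commutator subgroup of X and E lies in V. -/
theorem result {G : Type*} [Group G] [Finite G] (Q : Subgroup G) (hQ : Cfsg.IsLargeExtraspecial Q) (z : G) (hz : ((Subgroup.center ↥Q).map Q.subtype) = Subgroup.zpowers z) (hz2 : orderOf z = 2) (w : ℕ) (hw : 2 ≤ w) (hcard : Nat.card ↥Q = 2 ^ (2 * w + 1)) (g : G) (hgH : g ∉ Subgroup.centralizer ({z} : Set G)) (hgQ : g * z * g⁻¹ ∈ Q) (V X R E : Subgroup G) (hV : V = Subgroup.closure ({z, g * z * g⁻¹} : Set G)) (hX : X = Q ⊔ (Q).map (MulAut.conj g).toMonoidHom) (hR : R = ((Q).map (MulAut.conj g).toMonoidHom ⊓ Subgroup.centralizer ({z} : Set G)) ⊔ (Q ⊓ Subgroup.centralizer ({g * z * g⁻¹} : Set G))) (hE : E = Q ⊓ (Q).map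 (MulAut.conj g).toMonoidHom) : (Subgroup.center ↥R).map R.subtype = V ∧ E ≤ (Subgroup.upperCentralSeries ↥R 2).map R.subtype ∧ Subgroup.upperCentralSeries ↥R 3 = ⊤ ∧ Cfsg.IsElementaryAbelian 2 E ∧ (∀ x ∈ R, ∀ y ∈ R, x * y * x⁻¹ * y⁻¹ ∈ E ∧ x ^ 2 ∈ E) ∧ ((Q).map (MulAut.conj g).toMonoidHom ⊓ Subgroup.centralizer ({z} : Set G)) ⊓ (Q ⊓ Subgroup.centralizer ({g * z * g⁻¹} : Set G)) = E ∧ ⁅X, E⁆ ≤ V := by
  exact main5431 Q hQ z hz hz2 g hgH hgQ V X R E hV hX hR hE

end Cfsg.Agent.S5431
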