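import Mathlib
import Cfsg.Statements.S5430
import Cfsg.Agent.S5595
import Cfsg.Agent.S5597
import Cfsg.Agent.S5422
import Cfsg.Agent.S5431
import Cfsg.Agent.Lib.Helper7.PCore

set_option autoImplicit false
set_option maxHeartbeats 800000

open Cfsg
open Cfsg.Agent.S5595

namespace Cfsg.Agent.S5430

variable {G : Type*} [Group G]

/-- conjugation by `q` maps a closure into `R` as soon as it does so on generators. -/
theorem conj_closure_le (S : Set G) (R : Subgroup G) (q : G)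
    (h : ∀ s ∈ S, q * s * q⁻¹ ∈ R) : ∀ r ∈ Subgroup.closure S, q * r * q⁻¹ ∈ R := by
  intro r hr
  induction hr using Subgroup.closure_induction with
  | mem s hs => exact h s hs
  | one => simp
  | mul a b ha hb iha ihb =>
      have e1 : q * (a * b) * q⁻¹ = (q * a * q⁻¹) * (q * b * q⁻¹) := by group
      rw [e1]; exact R.mul_mem iha ihb
  | inv a ha iha =>
      have e1 : q * a⁻¹ * q⁻¹ = (q * a * q⁻¹)⁻¹ := by group
      rw [e1]; exact R.inv_mem iha

/-- the centralizer is normalized by the normalizer. -/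
theorem conj_mem_centralizer {V : Subgroup G} {n c : G}
    (hn : n ∈ Subgroup.normalizer (V : Set G)) (hc : c ∈ Subgroup.centralizer (V : Set G)) :
    n * c * n⁻¹ ∈ Subgroup.centralizer (V : Set G) := by
  rw [Subgroup.mem_centralizer_iff] at hc ⊢
  intro v hv
  have hv' : n⁻¹ * v * n⁻¹⁻¹ ∈ V :=
    (Subgroup.mem_normalizer_iff.mp (Subgroup.inv_mem _ hn) v).mp hv
  have h1 := hc _ hv'
  calc v * (n * c * n⁻¹) = n * ((n⁻¹ * v * n⁻¹⁻¹) * c) * n⁻¹ := by group
    _ = n * (c * (n⁻¹ * v * n⁻¹⁻¹)) * n⁻¹ := by rw [h1]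
    _ = n * c * n⁻¹ * v := by group

theorem six_mul {H : Type*} [Group H] {a b : H} (ha : a * a = 1) (hb : b * b = 1)
    (hab : a * b * a = b * a * b) {s d : H} (hs : s = 1 ∨ s = a ∨ s = b)
    (hd : d = 1 ∨ d = a ∨ d = b ∨ d = a * b ∨ d = b * a ∨ d = a * b * a) :
    s * d = 1 ∨ s * d = a ∨ s * d = b ∨ s * d = a * b ∨ s * d = b * a ∨ s * d = a * b * a := by
  rcases hs with h | h | h
  · rw [h, one_mul]; exact hd
  · rw [h]
    rcases hd with h' | h' | h' | h' | h' | h'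
    · right; left; rw [h', mul_one]
    · left; rw [h', ha]
    · right; right; right; left; rw [h']
    · right; right; left; rw [h', ← mul_assoc, ha, one_mul]
    · right; right; right; right; right; rw [h', mul_assoc]
    · right; right; right; right; left
      rw [h', mul_assoc a b a, ← mul_assoc a a, ha, one_mul]
  · rw [h]
    rcases hd with h' | h' | h' | h' | h' | h'
    · right; right; left; rw [h', mul_one]
    · right; right; right; right; left; rw [h']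
    · left; rw [h', hb]
    · right; right; right; right; right; rw [h', ← mul_assoc, hab]
    · right; left; rw [h', ← mul_assoc, hb, one_mul]
    · right; right; right; left
      rw [h', hab, mul_assoc b a b, ← mul_assoc b b, hb, one_mul]

theorem six_cosets {H : Type*} [Group H] (X Q Q' : Subgroup G) (hX : X = Q ⊔ Q')
    (π : ↥X →* H) (a b : H)
    (ha : a * a = 1) (hb : b * b = 1) (hab : a * b * a = b * a * b)
    (hQa : ∀ u : ↥X, (u : G) ∈ Q → π u = 1 ∨ π u = a)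
    (hQb : ∀ u : ↥X, (u : G) ∈ Q' → π u = 1 ∨ π u = b) :
    ∀ u : ↥X, π u = 1 ∨ π u = a ∨ π u = b ∨ π u = a * b ∨ π u = b * a ∨
      π u = a * b * a := by
  have hcl : X = Subgroup.closure ((Q : Set G) ∪ (Q' : Set G)) := by
    rw [Subgroup.closure_union, Subgroup.closure_eq, Subgroup.closure_eq, hX]
  have hQX : Q ≤ X := by rw [hX]; exact le_sup_left
  have hQ'X : Q' ≤ X := by rw [hX]; exact le_sup_right
  have hgen : ∀ s (hs : s ∈ X), (s ∈ Q ∨ s ∈ Q') → π ⟨s, hs⟩ = 1 ∨ π ⟨s, hs⟩ = a ∨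
      π ⟨s, hs⟩ = b := by
    intro s hs h
    rcases h with h | h
    · rcases hQa ⟨s, hs⟩ h with h1 | h1
      · exact Or.inl h1
      · exact Or.inr (Or.inl h1)
    · rcases hQb ⟨s, hs⟩ h with h1 | h1
      · exact Or.inl h1
      · exact Or.inr (Or.inr h1)
  have key : ∀ g (hg : g ∈ Subgroup.closure ((Q : Set G) ∪ (Q' : Set G))) (hgX : g ∈ X),
      π ⟨g, hgX⟩ = 1 ∨ π ⟨g, hgX⟩ = a ∨ π ⟨g, hgX⟩ = b ∨ π ⟨g, hgX⟩ = a * b ∨
      π ⟨g, hgX⟩ = b * a ∨ π ⟨g, hgX⟩ = a * b * a := by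
    intro g hg
    induction hg using Subgroup.closure_induction_left with
    | one =>
        intro hgX
        left
        have : (⟨1, hgX⟩ : ↥X) = 1 := rfl
        rw [this, map_one]
    | mul_left s hs w hw ih =>
        intro hgX
        have hsX : s ∈ X := by
          rcases hs with h | h
          · exact hQX h
          · exact hQ'X h
        have hwX : w ∈ X := by rw [hcl]; exact hw
        have e1 : (⟨s * w, hgX⟩ : ↥X) = ⟨s, hsX⟩ * ⟨w, hwX⟩ := rfl
        rw [e1, map_mul]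
        exact six_mul ha hb hab (hgen s hsX hs) (ih hwX)
    | inv_mul_cancel s hs w hw ih =>
        intro hgX
        have hs' : s⁻¹ ∈ Q ∨ s⁻¹ ∈ Q' := by
          rcases hs with h | h
          · exact Or.inl (Q.inv_mem h)
          · exact Or.inr (Q'.inv_mem h)
        have hsX : s⁻¹ ∈ X := by
          rcases hs' with h | h
          · exact hQX h
          · exact hQ'X h
        have hwX : w ∈ X := by rw [hcl]; exact hw
        have e1 : (⟨s⁻¹ * w, hgX⟩ : ↥X) = ⟨s⁻¹, hsX⟩ * ⟨w, hwX⟩ := rfl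
        rw [e1, map_mul]
        exact six_mul ha hb hab (hgen s⁻¹ hsX hs') (ih hwX)
  intro u
  have hu : (u : G) ∈ Subgroup.closure ((Q : Set G) ∪ (Q' : Set G)) := by
    rw [← hcl]; exact u.2
  exact key u hu u.2

set_option maxRecDepth 100000 in
theorem key_perm3 : ∀ t : Equiv.Perm (Fin 3), t ≠ 1 →
    ∃ σ : Equiv.Perm (Fin 3), (t * (σ * t * σ⁻¹)) ^ 3 = 1 ∧ t * (σ * t * σ⁻¹) ≠ 1 := by
  decide

theorem perm3_normal_two (T : Subgroup (Equiv.Perm (Fin 3))) (hn : T.Normal)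
    (hp : IsPGroup 2 T) : T = ⊥ := by
  rw [Subgroup.eq_bot_iff_forall]
  intro t ht
  by_contra ht1
  obtain ⟨σ, h3, hne⟩ := key_perm3 t ht1
  have hw : t * (σ * t * σ⁻¹) ∈ T := T.mul_mem ht (hn.conj_mem t ht σ)
  obtain ⟨k, hk⟩ := hp ⟨_, hw⟩
  have hk' : (t * (σ * t * σ⁻¹)) ^ (2 ^ k) = 1 := by
    have := congrArg Subtype.val hk
    simpa using this
  have h1 : orderOf (t * (σ * t * σ⁻¹)) ∣ 3 := orderOf_dvd_of_pow_eq_one h3
  have h2 : orderOf (t * (σ * t * σ⁻¹)) ∣ 2 ^ k := orderOf_dvd_of_pow_eq_one hk'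
  have h3' : orderOf (t * (σ * t * σ⁻¹)) ∣ Nat.gcd 3 (2 ^ k) := Nat.dvd_gcd h1 h2
  have hg : Nat.gcd 3 (2 ^ k) = 1 := by
    apply Nat.Coprime.pow_right
    decide
  rw [hg, Nat.dvd_one, orderOf_eq_one_iff] at h3'
  exact hne h3'

theorem surj_of {K : Type*} [Group K] (f : K →* Equiv.Perm (Fin 3)) (a b : K)
    (ha : f a ≠ 1) (hb : f b ≠ 1) (hab : f a ≠ f b) (ha2 : f a ^ 2 = 1) :
    Function.Surjective f := by
  have hperm : Nat.card (Equiv.Perm (Fin 3)) = 6 := by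
    rw [Nat.card_eq_fintype_card, Fintype.card_perm, Fintype.card_fin]; rfl
  have hdvd : Nat.card f.range ∣ 6 := by
    rw [← hperm]; exact Subgroup.card_subgroup_dvd_card _
  have hord : orderOf (f a) = 2 := orderOf_eq_prime ha2 ha
  have h2dvd : 2 ∣ Nat.card f.range := by
    rw [← hord]
    exact Subgroup.orderOf_dvd_natCard _ ⟨_, rfl⟩
  have hne2 : Nat.card f.range ≠ 2 := by
    intro h
    obtain ⟨w, -, hw⟩ := (Nat.card_eq_two_iff' (1 : f.range)).mp h
    have e1 := hw ⟨f a, ⟨_, rfl⟩⟩ (by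
      intro h'; exact ha (congrArg Subtype.val h'))
    have e2 := hw ⟨f b, ⟨_, rfl⟩⟩ (by
      intro h'; exact hb (congrArg Subtype.val h'))
    apply hab
    have := e1.trans e2.symm
    exact congrArg Subtype.val this
  have hle : Nat.card f.range ≤ 6 := Nat.le_of_dvd (by norm_num) hdvd
  have h6 : Nat.card f.range = 6 := by
    obtain ⟨c, hc⟩ : ∃ c, c = Nat.card f.range := ⟨_, rfl⟩
    rw [← hc] at hle hdvd h2dvd hne2 ⊢
    interval_cases c <;> omega
  have htop : f.range = ⊤ := by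
    apply Subgroup.eq_top_of_card_eq
    rw [h6, hperm]
  exact MonoidHom.range_eq_top.mp htop

theorem exists_action [Finite G] (V N : Subgroup G)
    (hN : N = Subgroup.normalizer (V : Set G)) (z x : G)
    (hV : ∀ v, v ∈ V ↔ v = 1 ∨ v = z ∨ v = x ∨ v = z * x)
    (hz1 : z ≠ 1) (hx1 : x ≠ 1) (hxz : x ≠ z) (hz2 : z * z = 1) :
    ∃ ρ : ↥N →* Equiv.Perm (Fin 3),
      ∀ n, ρ n = 1 ↔ (n : G) ∈ Subgroup.centralizer (V : Set G) := by
  classical
  have hzV : z ∈ V := (hV z).mpr (Or.inr (Or.inl rfl))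
  have hxV : x ∈ V := (hV x).mpr (Or.inr (Or.inr (Or.inl rfl)))
  have hzxV : z * x ∈ V := (hV _).mpr (Or.inr (Or.inr (Or.inr rfl)))
  have hzx1 : z * x ≠ 1 := by
    intro h
    apply hxz
    have : x = z⁻¹ := eq_inv_of_mul_eq_one_right h
    rw [this]; exact inv_eq_of_mul_eq_one_right hz2
  have hzxz : z * x ≠ z := by
    intro h
    apply hx1
    have : z * x = z * 1 := by rw [mul_one]; exact h
    exact mul_left_cancel this
  have hzxx : z * x ≠ x := by
    intro h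
    apply hz1
    have : z * x = 1 * x := by rw [one_mul]; exact h
    exact mul_right_cancel this
  have hNV : ∀ n ∈ N, ∀ v ∈ V, n * v * n⁻¹ ∈ V := by
    intro n hn v hv
    rw [hN, Subgroup.mem_set_normalizer_iff] at hn
    exact (hn v).mp hv
  letI act : MulAction ↥N {v : G // v ∈ V ∧ v ≠ 1} :=
    { smul := fun n v => ⟨(n : G) * v * (n : G)⁻¹, hNV n n.2 v v.2.1, by
        intro h
        apply v.2.2
        have : (v : G) = (n : G)⁻¹ * ((n : G) * v * (n : G)⁻¹) * (n : G) := by group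
        rw [this, h]; group⟩
      one_smul := fun v => Subtype.ext (by
        show ((1 : ↥N) : G) * v * ((1 : ↥N) : G)⁻¹ = v
        simp)
      mul_smul := fun a b v => Subtype.ext (by
        show ((a * b : ↥N) : G) * v * ((a * b : ↥N) : G)⁻¹
          = (a : G) * ((b : G) * v * (b : G)⁻¹) * (a : G)⁻¹
        simp [mul_assoc]) }
  have hsm : ∀ (n : ↥N) (v : {v : G // v ∈ V ∧ v ≠ 1}),
      ((n • v : {v : G // v ∈ V ∧ v ≠ 1}) : G) = (n : G) * v * (n : G)⁻¹ := fun n v => rfl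
  obtain ⟨ρ, hρ⟩ : ∃ ρ : ↥N →* Equiv.Perm {v : G // v ∈ V ∧ v ≠ 1},
      ρ = MulAction.toPermHom ↥N {v : G // v ∈ V ∧ v ≠ 1} := ⟨_, rfl⟩
  have hρa : ∀ (n : ↥N) (v : {v : G // v ∈ V ∧ v ≠ 1}),
      ((ρ n v : {v : G // v ∈ V ∧ v ≠ 1}) : G) = (n : G) * v * (n : G)⁻¹ := by
    intro n v
    rw [hρ]
    exact hsm n v
  have hker : ∀ n : ↥N, ρ n = 1 ↔ (n : G) ∈ Subgroup.centralizer (V : Set G) := by
    intro n
    rw [Subgroup.mem_centralizer_iff]
    constructor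
    · intro h v hv
      by_cases hv1 : v = 1
      · rw [hv1]; simp
      · have := congrArg (fun σ : Equiv.Perm {v : G // v ∈ V ∧ v ≠ 1} =>
          ((σ ⟨v, hv, hv1⟩ : {v : G // v ∈ V ∧ v ≠ 1}) : G)) h
        simp only [hρa, Equiv.Perm.one_apply] at this
        calc v * (n : G) = ((n : G) * v * (n : G)⁻¹) * n := by rw [this]
          _ = (n : G) * v := by group
    · intro h
      ext v
      rw [hρa, Equiv.Perm.one_apply]
      have := h v v.2.1
      calc (n : G) * v * (n : G)⁻¹ = ((n : G) * v) * (n : G)⁻¹ := by group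
        _ = ((v : G) * n) * (n : G)⁻¹ := by rw [this]
        _ = v := by group
  have hΩ : Nat.card {v : G // v ∈ V ∧ v ≠ 1} = 3 := by
    have e : {v : G // v ∈ V ∧ v ≠ 1} ≃ {v : G // v ∈ ({z, x, z * x} : Finset G)} := by
      apply Equiv.subtypeEquivRight
      intro v
      rw [hV, Finset.mem_insert, Finset.mem_insert, Finset.mem_singleton]
      constructor
      · rintro ⟨h | h | h | h, h1⟩
        · exact absurd h h1
        · exact Or.inl h
        · exact Or.inr (Or.inl h)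
        · exact Or.inr (Or.inr h)
      · rintro (h | h | h)
        · exact ⟨Or.inr (Or.inl h), by rw [h]; exact hz1⟩
        · exact ⟨Or.inr (Or.inr (Or.inl h)), by rw [h]; exact hx1⟩
        · exact ⟨Or.inr (Or.inr (Or.inr h)), by rw [h]; exact hzx1⟩
    rw [Nat.card_congr e, Nat.card_eq_fintype_card, Fintype.card_coe]
    exact Finset.card_eq_three.mpr ⟨z, x, z * x, fun h => hxz h.symm, fun h => hzxz h.symm,
      fun h => hzxx h.symm, rfl⟩
  haveI : Finite {v : G // v ∈ V ∧ v ≠ 1} := Nat.finite_of_card_ne_zero (by rw [hΩ]; norm_num)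
  obtain ⟨e⟩ : Nonempty ({v : G // v ∈ V ∧ v ≠ 1} ≃ Fin 3) := ⟨Finite.equivFinOfCardEq hΩ⟩
  refine ⟨(e.permCongrHom.toMonoidHom).comp ρ, ?_⟩
  intro n
  rw [← hker n]
  show e.permCongrHom (ρ n) = 1 ↔ ρ n = 1
  exact MulEquiv.map_eq_one_iff e.permCongrHom

theorem core5430 [Finite G] {Q Q' : Subgroup G} {z x : G} (hQ : ES Q z) (hQ' : ES Q' x)
    (hz1 : z ≠ 1) (hx1 : x ≠ 1) (hxz : x ≠ z) (hxQ : x ∈ Q) (hzQ' : z ∈ Q')
    (hlink : ∀ a : G, a * x * a⁻¹ = z → ∀ u ∈ Q', a * u * a⁻¹ ∈ Q)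
    (V X R : Subgroup G)
    (hV : V = Subgroup.closure ({z, x} : Set G)) (hX : X = Q ⊔ Q')
    (hR : R = (Q' ⊓ Subgroup.centralizer ({z} : Set G)) ⊔
      (Q ⊓ Subgroup.centralizer ({x} : Set G))) :
    R = X ⊓ Subgroup.centralizer (V : Set G) ∧
    R = (Cfsg.pCore 2 ↥X).map X.subtype ∧
    (∃ h : (R.subgroupOf X).Normal, Nonempty (↥X ⧸ R.subgroupOf X ≃* Equiv.Perm (Fin 3))) ∧
    Subgroup.normalizer (V : Set G) =
      X ⊔ (Subgroup.centralizer ({z} : Set G) ⊓ Subgroup.centralizer (V : Set G)) ∧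
    (∀ y ∈ Subgroup.normalizer (V : Set G), ∀ u ∈ X, y * u * y⁻¹ ∈ X) ∧
    R ≤ Subgroup.centralizer ({z} : Set G) ⊓ Subgroup.centralizer (V : Set G) ∧
    (∀ u ∈ X, ∀ c ∈ Subgroup.centralizer ({z} : Set G) ⊓ Subgroup.centralizer (V : Set G),
      u * c * u⁻¹ * c⁻¹ ∈ R) ∧
    X ⊓ (Subgroup.centralizer ({z} : Set G) ⊓ Subgroup.centralizer (V : Set G)) = R := by
  classical
  have hz2 := hQ.z2
  have hx2 := hQ'.z2
  have hzi : z⁻¹ = z := inv_eq_of_mul_eq_one_right hz2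
  have hxi : x⁻¹ = x := inv_eq_of_mul_eq_one_right hx2
  have hxz' : x * z = z * x := hQ.cent x hxQ
  have hzQ := hQ.zQ
  have hxQ' := hQ'.zQ
  obtain ⟨-, -, -, h4E, h5E, -, -⟩ := Cfsg.Agent.S5431.core5431 hQ hQ' hz1 hx1 hxz hxQ hzQ'
    V X R (Q ⊓ Q') hV hX hR rfl
  obtain ⟨P, hP⟩ : ∃ P : Subgroup G, P = Q ⊓ Subgroup.centralizer ({x} : Set G) := ⟨_, rfl⟩
  obtain ⟨P', hP'⟩ : ∃ P' : Subgroup G, P' = Q' ⊓ Subgroup.centralizer ({z} : Set G) :=
    ⟨_, rfl⟩
  rw [← hP, ← hP'] at hR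
  have hmemP : ∀ a, a ∈ P ↔ a ∈ Q ∧ a * x = x * a := by
    intro a; rw [hP, Subgroup.mem_inf, Subgroup.mem_centralizer_singleton_iff]
  have hmemP' : ∀ a, a ∈ P' ↔ a ∈ Q' ∧ a * z = z * a := by
    intro a; rw [hP', Subgroup.mem_inf, Subgroup.mem_centralizer_singleton_iff]
  have hVle : V ≤ Cfsg.Agent.S5422.fourSub z x hz2 hx2 hxz' := by
    rw [hV, Subgroup.closure_le]
    intro v hv
    rcases hv with h | h
    · exact Or.inr (Or.inl h)
    · exact Or.inr (Or.inr (Or.inl h))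
  have hVmem : ∀ v ∈ V, v = 1 ∨ v = z ∨ v = x ∨ v = z * x := fun v hv => hVle hv
  have hzV : z ∈ V := by rw [hV]; exact Subgroup.subset_closure (by simp)
  have hxV : x ∈ V := by rw [hV]; exact Subgroup.subset_closure (by simp)
  have hVmem' : ∀ v, v ∈ V ↔ v = 1 ∨ v = z ∨ v = x ∨ v = z * x := by
    intro v
    constructor
    · exact hVmem v
    · rintro (h | h | h | h)
      · rw [h]; exact V.one_mem
      · rw [h]; exact hzV
      · rw [h]; exact hxV
      · rw [h]; exact V.mul_mem hzV hxV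
  obtain ⟨CV, hCV⟩ : ∃ CV : Subgroup G, CV = Subgroup.centralizer (V : Set G) := ⟨_, rfl⟩
  obtain ⟨NV, hNV⟩ : ∃ NV : Subgroup G, NV = Subgroup.normalizer (V : Set G) := ⟨_, rfl⟩
  rw [← hCV, ← hNV]
  have hmemCV : ∀ c, c ∈ CV ↔ c * z = z * c ∧ c * x = x * c := by
    intro c
    rw [hCV, Subgroup.mem_centralizer_iff]
    constructor
    · intro h
      exact ⟨(h z hzV).symm, (h x hxV).symm⟩
    · rintro ⟨h1, h2⟩ v hv
      rcases hVmem v hv with h | h | h | h
      · rw [h, one_mul, mul_one]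
      · rw [h]; exact h1.symm
      · rw [h]; exact h2.symm
      · rw [h, mul_assoc, ← h2, ← mul_assoc, ← h1, mul_assoc]
  have hCVz : CV ≤ Subgroup.centralizer ({z} : Set G) := by
    intro c hc
    rw [Subgroup.mem_centralizer_singleton_iff]; exact ((hmemCV c).mp hc).1
  have hQNV : Q ≤ NV := by
    rw [hNV]
    apply Cfsg.Agent.S5431.le_normalizer_of_conj
    intro q hq v hv
    have hqz : q * z * q⁻¹ = z := by rw [hQ.cent q hq]; group
    have hqx : q * x * q⁻¹ ∈ V := by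
      have e1 : q * x * q⁻¹ = (q * x * q⁻¹ * x⁻¹) * x := by group
      rw [e1]
      rcases hQ.comm q hq x hxQ with h | h
      · rw [h, one_mul]; exact hxV
      · rw [h]; exact V.mul_mem hzV hxV
    rcases hVmem v hv with h | h | h | h
    · rw [h]; simp
    · rw [h, hqz]; exact hzV
    · rw [h]; exact hqx
    · have e1 : q * (z * x) * q⁻¹ = (q * z * q⁻¹) * (q * x * q⁻¹) := by group
      rw [h, e1, hqz]; exact V.mul_mem hzV hqx
  have hQ'NV : Q' ≤ NV := by
    rw [hNV]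
    apply Cfsg.Agent.S5431.le_normalizer_of_conj
    intro q hq v hv
    have hqx : q * x * q⁻¹ = x := by rw [hQ'.cent q hq]; group
    have hqz : q * z * q⁻¹ ∈ V := by
      have e1 : q * z * q⁻¹ = (q * z * q⁻¹ * z⁻¹) * z := by group
      rw [e1]
      rcases hQ'.comm q hq z hzQ' with h | h
      · rw [h, one_mul]; exact hzV
      · rw [h]; exact V.mul_mem hxV hzV
    rcases hVmem v hv with h | h | h | h
    · rw [h]; simp
    · rw [h]; exact hqz
    · rw [h, hqx]; exact hxV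
    · have e1 : q * (z * x) * q⁻¹ = (q * z * q⁻¹) * (q * x * q⁻¹) := by group
      rw [h, e1, hqx]; exact V.mul_mem hqz hxV
  have hXNV : X ≤ NV := by rw [hX]; exact sup_le hQNV hQ'NV
  have hCVNV : CV ≤ NV := by
    rw [hNV]
    apply Cfsg.Agent.S5431.le_normalizer_of_conj
    intro k hk v hv
    rw [hCV, Subgroup.mem_centralizer_iff] at hk
    have e1 : k * v * k⁻¹ = v := by
      calc k * v * k⁻¹ = (v * k) * k⁻¹ := by rw [hk v hv]
        _ = v := by group
    rw [e1]; exact hv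
  have hconjCV : ∀ n ∈ NV, ∀ c ∈ CV, n * c * n⁻¹ ∈ CV := by
    intro n hn c hc
    rw [hCV] at hc ⊢
    rw [hNV] at hn
    exact conj_mem_centralizer hn hc
  have hPCV : ∀ q ∈ Q, q ∈ CV → q ∈ P :=
    fun q hq hc => (hmemP q).mpr ⟨hq, ((hmemCV q).mp hc).2⟩
  have hP'CV : ∀ q ∈ Q', q ∈ CV → q ∈ P' :=
    fun q hq hc => (hmemP' q).mpr ⟨hq, ((hmemCV q).mp hc).1⟩
  have hPleCV : P ≤ CV :=
    fun p hp => (hmemCV p).mpr ⟨hQ.cent p ((hmemP p).mp hp).1, ((hmemP p).mp hp).2⟩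
  have hP'leCV : P' ≤ CV :=
    fun p hp => (hmemCV p).mpr ⟨((hmemP' p).mp hp).2, hQ'.cent p ((hmemP' p).mp hp).1⟩
  have hPR : P ≤ R := by rw [hR]; exact le_sup_right
  have hP'R : P' ≤ R := by rw [hR]; exact le_sup_left
  have hPQ : P ≤ Q := by rw [hP]; exact inf_le_left
  have hP'Q' : P' ≤ Q' := by rw [hP']; exact inf_le_left
  have hQX : Q ≤ X := by rw [hX]; exact le_sup_left
  have hQ'X : Q' ≤ X := by rw [hX]; exact le_sup_right
  have hRCV : R ≤ CV := by rw [hR]; exact sup_le hP'leCV hPleCV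
  have hRX : R ≤ X := by
    rw [hR]
    exact sup_le (hP'Q'.trans hQ'X) (hPQ.trans hQX)
  have hRcl : R = Subgroup.closure ((P' : Set G) ∪ (P : Set G)) := by
    rw [Subgroup.closure_union, Subgroup.closure_eq, Subgroup.closure_eq, hR]
  have hXcl : X = Subgroup.closure ((Q : Set G) ∪ (Q' : Set G)) := by
    rw [Subgroup.closure_union, Subgroup.closure_eq, Subgroup.closure_eq, hX]
  have hzR : z ∈ R := hPR ((hmemP z).mpr ⟨hzQ, hxz'.symm⟩)
  have hxR : x ∈ R := hPR ((hmemP x).mpr ⟨hxQ, rfl⟩)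
  have hCVQ : ∀ c ∈ CV, ∀ q ∈ Q, c * q * c⁻¹ ∈ Q :=
    fun c hc q hq => hQ.norm c ((hmemCV c).mp hc).1 q hq
  have hCVQ' : ∀ c ∈ CV, ∀ q ∈ Q', c * q * c⁻¹ ∈ Q' :=
    fun c hc q hq => hQ'.norm c ((hmemCV c).mp hc).2 q hq
  have hcommQ : ∀ q ∈ Q, ∀ c ∈ CV, q * c * q⁻¹ * c⁻¹ ∈ P := by
    intro q hq c hc
    apply hPCV
    · have e1 : q * c * q⁻¹ * c⁻¹ = q * (c * q⁻¹ * c⁻¹) := by group
      rw [e1]; exact Q.mul_mem hq (hCVQ c hc q⁻¹ (Q.inv_mem hq))
    · exact CV.mul_mem (hconjCV q (hQNV hq) c hc) (CV.inv_mem hc)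
  have hcommQ' : ∀ q ∈ Q', ∀ c ∈ CV, q * c * q⁻¹ * c⁻¹ ∈ P' := by
    intro q hq c hc
    apply hP'CV
    · have e1 : q * c * q⁻¹ * c⁻¹ = q * (c * q⁻¹ * c⁻¹) := by group
      rw [e1]; exact Q'.mul_mem hq (hCVQ' c hc q⁻¹ (Q'.inv_mem hq))
    · exact CV.mul_mem (hconjCV q (hQ'NV hq) c hc) (CV.inv_mem hc)
  have hQNR : Q ≤ Subgroup.normalizer (R : Set G) := by
    apply Cfsg.Agent.S5431.le_normalizer_of_conj
    intro q hq r hr
    rw [hRcl] at hr
    refine conj_closure_le _ R q ?_ r hr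
    rintro s (hs | hs)
    · have h1 := hcommQ q hq s (hP'leCV hs)
      have e1 : q * s * q⁻¹ = (q * s * q⁻¹ * s⁻¹) * s := by group
      rw [e1]; exact R.mul_mem (hPR h1) (hP'R hs)
    · apply hPR
      apply hPCV
      · exact Q.mul_mem (Q.mul_mem hq (hPQ hs)) (Q.inv_mem hq)
      · exact hconjCV q (hQNV hq) s (hPleCV hs)
  have hQ'NR : Q' ≤ Subgroup.normalizer (R : Set G) := by
    apply Cfsg.Agent.S5431.le_normalizer_of_conj
    intro q hq r hr
    rw [hRcl] at hr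
    refine conj_closure_le _ R q ?_ r hr
    rintro s (hs | hs)
    · apply hP'R
      apply hP'CV
      · exact Q'.mul_mem (Q'.mul_mem hq (hP'Q' hs)) (Q'.inv_mem hq)
      · exact hconjCV q (hQ'NV hq) s (hP'leCV hs)
    · have h1 := hcommQ' q hq s (hPleCV hs)
      have e1 : q * s * q⁻¹ = (q * s * q⁻¹ * s⁻¹) * s := by group
      rw [e1]; exact R.mul_mem (hP'R h1) (hPR hs)
  have hXNR : X ≤ Subgroup.normalizer (R : Set G) := by
    rw [hX]; exact sup_le hQNR hQ'NR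
  have hRp : IsPGroup 2 ↥R := by
    intro r
    refine ⟨2, ?_⟩
    apply Subtype.ext
    have h1 := (h5E r r.2 r r.2).2
    have h2 := h4E.2 _ h1
    show ((r ^ 2 ^ 2 : ↥R) : G) = 1
    rw [Subgroup.coe_pow]
    calc (r : G) ^ 2 ^ 2 = (r : G) ^ (2 * 2) := by norm_num
      _ = ((r : G) ^ 2) ^ 2 := pow_mul _ _ _
      _ = 1 := h2
  obtain ⟨y, hy⟩ := Cfsg.Agent.S5431.exists_NC hQ hxQ hx1 hxz
  obtain ⟨y', hy'⟩ := Cfsg.Agent.S5431.exists_NC hQ' hzQ' hz1 (Ne.symm hxz)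
  have hyQ := hy.yQ
  have hy'Q' := hy'.yQ
  have hyz : y * z * y⁻¹ = z := by rw [hQ.cent y hyQ]; group
  have hyx : y * x * y⁻¹ = z * x := by
    have h1 : y * x = z * x * y := by
      calc y * x = z * (z * y * x) := by rw [← mul_assoc, ← mul_assoc, hz2, one_mul]
        _ = z * (x * y) := by rw [hy.xy]
        _ = z * x * y := by group
    rw [h1]; group
  have hy'x : y' * x * y'⁻¹ = x := by rw [hQ'.cent y' hy'Q']; group
  have hy'z : y' * z * y'⁻¹ = x * z := by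
    have h1 : y' * z = x * z * y' := by
      calc y' * z = x * (x * y' * z) := by rw [← mul_assoc, ← mul_assoc, hx2, one_mul]
        _ = x * (z * y') := by rw [hy'.xy]
        _ = x * z * y' := by group
    rw [h1]; group
  have hyix : y⁻¹ * x * y = z * x := by
    have e0 : z * (z * x) = x := by rw [← mul_assoc, hz2, one_mul]
    calc y⁻¹ * x * y = y⁻¹ * (z * (z * x)) * y := by rw [e0]
      _ = y⁻¹ * ((y * z * y⁻¹) * (y * x * y⁻¹)) * y := by rw [hyz, hyx]
      _ = z * x := by group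
  have hy'zx : y' * (z * x) * y'⁻¹ = z := by
    calc y' * (z * x) * y'⁻¹ = (y' * z * y'⁻¹) * (y' * x * y'⁻¹) := by group
      _ = x * z * x := by rw [hy'z, hy'x]
      _ = z * x * x := by rw [hxz']
      _ = z := by rw [mul_assoc, hx2, mul_one]
  have hy'iz : y'⁻¹ * z * y' = x * z := by
    have e0 : x * (x * z) = z := by rw [← mul_assoc, hx2, one_mul]
    calc y'⁻¹ * z * y' = y'⁻¹ * (x * (x * z)) * y' := by rw [e0]
      _ = y'⁻¹ * ((y' * x * y'⁻¹) * (y' * z * y'⁻¹)) * y' := by rw [hy'x, hy'z]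
      _ = x * z := by group
  have hyxz : y * (x * z) * y⁻¹ = x := by
    calc y * (x * z) * y⁻¹ = (y * x * y⁻¹) * (y * z * y⁻¹) := by group
      _ = z * x * z := by rw [hyx, hyz]
      _ = x * z * z := by rw [hxz']
      _ = x := by rw [mul_assoc, hz2, mul_one]
  have hzx_ne_x : z * x ≠ x := by
    intro h
    apply hz1
    have : z * x = 1 * x := by rw [one_mul]; exact h
    exact mul_right_cancel this
  have hxz_ne_z : x * z ≠ z := by
    intro h
    apply hx1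
    have : x * z = 1 * z := by rw [one_mul]; exact h
    exact mul_right_cancel this
  have hyCV : y ∉ CV := by
    intro h
    have h1 := ((hmemCV y).mp h).2
    have e1 : y * x * y⁻¹ = x := by rw [h1]; group
    rw [hyx] at e1
    exact hzx_ne_x e1
  have hy'CV : y' ∉ CV := by
    intro h
    have h1 := ((hmemCV y').mp h).1
    have e1 : y' * z * y'⁻¹ = z := by rw [h1]; group
    rw [hy'z] at e1
    exact hxz_ne_z e1
  obtain ⟨s₁, hs₁⟩ : ∃ s₁, s₁ = y'⁻¹ * y * y' * y⁻¹ * y' := ⟨_, rfl⟩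
  have hs1Q : s₁ ∈ Q := by
    have h1 : (y'⁻¹ * y) * x * (y'⁻¹ * y)⁻¹ = z := by
      calc (y'⁻¹ * y) * x * (y'⁻¹ * y)⁻¹ = y'⁻¹ * (y * x * y⁻¹) * y' := by group
        _ = y'⁻¹ * (z * x) * y' := by rw [hyx]
        _ = y'⁻¹ * (x * z) * y' := by rw [hxz']
        _ = y'⁻¹ * (y' * z * y'⁻¹) * y' := by rw [hy'z]
        _ = z := by group
    have h2 := hlink _ h1 y' hy'Q'
    have e1 : (y'⁻¹ * y) * y' * (y'⁻¹ * y)⁻¹ = s₁ := by rw [hs₁]; group
    rwa [e1] at h2
  have hs1x : s₁ * x * s₁⁻¹ = x * z := by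
    rw [hs₁]
    calc (y'⁻¹ * y * y' * y⁻¹ * y') * x * (y'⁻¹ * y * y' * y⁻¹ * y')⁻¹
        = y'⁻¹ * (y * (y' * (y⁻¹ * (y' * x * y'⁻¹) * y) * y'⁻¹) * y⁻¹) * y' := by group
      _ = y'⁻¹ * (y * (y' * (y⁻¹ * x * y) * y'⁻¹) * y⁻¹) * y' := by rw [hy'x]
      _ = y'⁻¹ * (y * (y' * (z * x) * y'⁻¹) * y⁻¹) * y' := by rw [hyix]
      _ = y'⁻¹ * (y * z * y⁻¹) * y' := by rw [hy'zx]
      _ = y'⁻¹ * z * y' := by rw [hyz]
      _ = x * z := hy'iz
  have hrel : y⁻¹ * s₁ ∈ R := by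
    apply hPR
    rcases hy.idx _ hs1Q with h | h
    · exfalso
      apply hz1
      have e1 : s₁ * x * s₁⁻¹ = x := by rw [h]; group
      rw [hs1x] at e1
      have : x * z = x * 1 := by rw [mul_one]; exact e1
      exact mul_left_cancel this
    · exact (hmemP _).mpr ⟨Q.mul_mem (Q.inv_mem hyQ) hs1Q, h⟩
  -- the quotient
  have hNn : (R.subgroupOf X).Normal :=
    (Subgroup.normal_subgroupOf_iff_le_normalizer hRX).mpr hXNR
  haveI := hNn
  obtain ⟨π, hπ⟩ : ∃ π : ↥X →* ↥X ⧸ R.subgroupOf X,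
      π = QuotientGroup.mk' (R.subgroupOf X) := ⟨_, rfl⟩
  have hπ1 : ∀ u : ↥X, π u = 1 ↔ (u : G) ∈ R := by
    intro u
    rw [hπ, QuotientGroup.mk'_apply, QuotientGroup.eq_one_iff, Subgroup.mem_subgroupOf]
  have hπeq : ∀ u w : ↥X, π u = π w ↔ (u : G)⁻¹ * w ∈ R := by
    intro u w
    have e1 : ((u⁻¹ * w : ↥X) : G) = (u : G)⁻¹ * w := rfl
    rw [← e1, ← hπ1, map_mul, map_inv, inv_mul_eq_one]
  have hyX : y ∈ X := hQX hyQ
  have hy'X : y' ∈ X := hQ'X hy'Q'
  obtain ⟨a, ha⟩ : ∃ a, a = π ⟨y, hyX⟩ := ⟨_, rfl⟩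
  obtain ⟨b, hb⟩ : ∃ b, b = π ⟨y', hy'X⟩ := ⟨_, rfl⟩
  have haa : a * a = 1 := by
    rw [ha, ← map_mul, hπ1]
    show y * y ∈ R
    rcases hQ.sq y hyQ with h | h
    · rw [h]; exact R.one_mem
    · rw [h]; exact hzR
  have hbb : b * b = 1 := by
    rw [hb, ← map_mul, hπ1]
    show y' * y' ∈ R
    rcases hQ'.sq y' hy'Q' with h | h
    · rw [h]; exact R.one_mem
    · rw [h]; exact hxR
  have hrel' : b⁻¹ * a * b * a⁻¹ * b = a := by
    have h1 : π ⟨y, hyX⟩ = π ((⟨y', hy'X⟩ : ↥X)⁻¹ * ⟨y, hyX⟩ * ⟨y', hy'X⟩ *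
        (⟨y, hyX⟩ : ↥X)⁻¹ * ⟨y', hy'X⟩) := by
      rw [hπeq]
      show y⁻¹ * (y'⁻¹ * y * y' * y⁻¹ * y') ∈ R
      rw [← hs₁]; exact hrel
    rw [map_mul, map_mul, map_mul, map_mul, map_inv, map_inv, ← ha, ← hb] at h1
    exact h1.symm
  have hai : a⁻¹ = a := inv_eq_of_mul_eq_one_right haa
  have hbi : b⁻¹ = b := inv_eq_of_mul_eq_one_right hbb
  rw [hai, hbi] at hrel'
  have hab : a * b * a = b * a * b := by
    calc a * b * a = (b * a * b * a * b) * b * a := by rw [hrel']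
      _ = b * a * b * a * (b * b) * a := by group
      _ = b * a * b * (a * a) := by rw [hbb]; group
      _ = b * a * b := by rw [haa, mul_one]
  have hQa : ∀ u : ↥X, (u : G) ∈ Q → π u = 1 ∨ π u = a := by
    intro u hu
    rcases hy.idx u hu with h | h
    · left; rw [hπ1]; exact hPR ((hmemP _).mpr ⟨hu, h⟩)
    · right
      rw [ha]; symm; rw [hπeq]
      exact hPR ((hmemP _).mpr ⟨Q.mul_mem (Q.inv_mem hyQ) hu, h⟩)
  have hQb : ∀ u : ↥X, (u : G) ∈ Q' → π u = 1 ∨ π u = b := by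
    intro u hu
    rcases hy'.idx u hu with h | h
    · left; rw [hπ1]; exact hP'R ((hmemP' _).mpr ⟨hu, h⟩)
    · right
      rw [hb]; symm; rw [hπeq]
      exact hP'R ((hmemP' _).mpr ⟨Q'.mul_mem (Q'.inv_mem hy'Q') hu, h⟩)
  have hsix := six_cosets X Q Q' hX π a b haa hbb hab hQa hQb
  have hXCV : ∀ u ∈ X, u ∈ CV → u ∈ R := by
    intro u hu huC
    have hw : ∀ w : ↥X, π ⟨u, hu⟩ = π w → (w : G) ∈ CV := by
      intro w h
      have h1 : u⁻¹ * (w : G) ∈ R := (hπeq ⟨u, hu⟩ w).mp h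
      have h2 : u⁻¹ * (w : G) ∈ CV := hRCV h1
      have e1 : (w : G) = u * (u⁻¹ * w) := by group
      rw [e1]; exact CV.mul_mem huC h2
    rcases hsix ⟨u, hu⟩ with h | h | h | h | h | h
    · exact (hπ1 _).mp h
    · exfalso; rw [ha] at h; exact hyCV (hw _ h)
    · exfalso; rw [hb] at h; exact hy'CV (hw _ h)
    · exfalso
      rw [ha, hb, ← map_mul] at h
      have h1 : y * y' ∈ CV := hw _ h
      have h2 := ((hmemCV _).mp h1).1
      have e1 : (y * y') * z * (y * y')⁻¹ = z := by rw [h2]; group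
      have e2 : (y * y') * z * (y * y')⁻¹ = x := by
        calc (y * y') * z * (y * y')⁻¹ = y * (y' * z * y'⁻¹) * y⁻¹ := by group
          _ = y * (x * z) * y⁻¹ := by rw [hy'z]
          _ = x := hyxz
      exact hxz (e2.symm.trans e1)
    · exfalso
      rw [ha, hb, ← map_mul] at h
      have h1 : y' * y ∈ CV := hw _ h
      have h2 := ((hmemCV _).mp h1).2
      have e1 : (y' * y) * x * (y' * y)⁻¹ = x := by rw [h2]; group
      have e2 : (y' * y) * x * (y' * y)⁻¹ = z := by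
        calc (y' * y) * x * (y' * y)⁻¹ = y' * (y * x * y⁻¹) * y'⁻¹ := by group
          _ = y' * (z * x) * y'⁻¹ := by rw [hyx]
          _ = z := hy'zx
      exact hxz (e1.symm.trans e2)
    · exfalso
      rw [ha, hb, ← map_mul, ← map_mul] at h
      have h1 : y * y' * y ∈ CV := hw _ h
      have h2 := ((hmemCV _).mp h1).1
      have e1 : (y * y' * y) * z * (y * y' * y)⁻¹ = z := by rw [h2]; group
      have e2 : (y * y' * y) * z * (y * y' * y)⁻¹ = x := by
        calc (y * y' * y) * z * (y * y' * y)⁻¹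
            = y * (y' * (y * z * y⁻¹) * y'⁻¹) * y⁻¹ := by group
          _ = y * (y' * z * y'⁻¹) * y⁻¹ := by rw [hyz]
          _ = y * (x * z) * y⁻¹ := by rw [hy'z]
          _ = x := hyxz
      exact hxz (e2.symm.trans e1)
  -- the action
  obtain ⟨ρ, hρ⟩ := exists_action V NV hNV z x hVmem' hz1 hx1 hxz hz2
  rw [← hCV] at hρ
  obtain ⟨ρX, hρXdef⟩ : ∃ ρX : ↥X →* Equiv.Perm (Fin 3),
      ρX = ρ.comp (Subgroup.inclusion hXNV) := ⟨_, rfl⟩
  have hρX : ∀ u : ↥X, ρX u = 1 ↔ (u : G) ∈ CV := by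
    intro u
    rw [hρXdef, MonoidHom.comp_apply, hρ]
    rfl
  have hsurj : Function.Surjective ρX := by
    apply surj_of ρX ⟨y, hyX⟩ ⟨y', hy'X⟩
    · intro h; exact hyCV ((hρX _).mp h)
    · intro h; exact hy'CV ((hρX _).mp h)
    · intro h
      have h1 : ρX ((⟨y, hyX⟩ : ↥X)⁻¹ * ⟨y', hy'X⟩) = 1 := by
        rw [map_mul, map_inv, h, inv_mul_cancel]
      have h2 : y⁻¹ * y' ∈ CV := (hρX _).mp h1
      have h3 := ((hmemCV _).mp h2).2
      have e1 : (y⁻¹ * y') * x * (y⁻¹ * y')⁻¹ = x := by rw [h3]; group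
      have e2 : (y⁻¹ * y') * x * (y⁻¹ * y')⁻¹ = z * x := by
        calc (y⁻¹ * y') * x * (y⁻¹ * y')⁻¹ = y⁻¹ * (y' * x * y'⁻¹) * y := by group
          _ = y⁻¹ * x * y := by rw [hy'x]
          _ = z * x := hyix
      exact hzx_ne_x (e2.symm.trans e1)
    · rw [← map_pow, hρX]
      show y ^ 2 ∈ CV
      rw [pow_two]
      apply hRCV
      rcases hQ.sq y hyQ with h | h
      · rw [h]; exact R.one_mem
      · rw [h]; exact hzR
  have hker : R.subgroupOf X = ρX.ker := by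
    ext u
    rw [Subgroup.mem_subgroupOf, MonoidHom.mem_ker, hρX]
    exact ⟨fun h => hRCV h, fun h => hXCV u u.2 h⟩
  have h3 : ∃ h : (R.subgroupOf X).Normal,
      Nonempty (↥X ⧸ R.subgroupOf X ≃* Equiv.Perm (Fin 3)) := by
    refine ⟨hNn, ⟨?_⟩⟩
    exact (QuotientGroup.quotientMulEquivOfEq hker).trans
      (QuotientGroup.quotientKerEquivOfSurjective ρX hsurj)
  have h2 : R = (Cfsg.pCore 2 ↥X).map X.subtype := by
    apply le_antisymm
    · intro r hr
      have h1 : R.subgroupOf X ≤ Cfsg.pCore 2 ↥X :=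
        Cfsg.Agent.Lib.Helper7.le_pCore _ hNn hRp.comap_subtype
      exact ⟨⟨r, hRX hr⟩, h1 (Subgroup.mem_subgroupOf.mpr hr), rfl⟩
    · rintro _ ⟨u, hu, rfl⟩
      have hT : (Cfsg.pCore 2 ↥X).map ρX = ⊥ := by
        apply perm3_normal_two
        · exact Subgroup.Normal.map (Cfsg.Agent.Lib.Helper7.pCore_normal (G := ↥X) 2) ρX hsurj
        · haveI : Fact (Nat.Prime 2) := ⟨Nat.prime_two⟩
          exact IsPGroup.map (Cfsg.Agent.Lib.Helper7.pCore_isPGroup) ρX
      have h1 : ρX u ∈ (Cfsg.pCore 2 ↥X).map ρX := ⟨u, hu, rfl⟩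
      rw [hT, Subgroup.mem_bot] at h1
      show (u : G) ∈ R
      exact hXCV u u.2 ((hρX u).mp h1)
  have hdecomp : ∀ n ∈ NV, ∃ u ∈ X, u⁻¹ * n ∈ CV := by
    intro n hn
    obtain ⟨u, hu⟩ := hsurj (ρ ⟨n, hn⟩)
    refine ⟨u, u.2, ?_⟩
    have h0 : ρ (Subgroup.inclusion hXNV u) = ρ ⟨n, hn⟩ := by
      rw [← hu, hρXdef]; rfl
    have h1 : ρ ((Subgroup.inclusion hXNV u)⁻¹ * ⟨n, hn⟩) = 1 := by
      rw [map_mul, map_inv, h0, inv_mul_cancel]
    exact (hρ _).mp h1
  have h4 : NV = X ⊔ (Subgroup.centralizer ({z} : Set G) ⊓ CV) := by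
    apply le_antisymm
    · intro n hn
      obtain ⟨u, hu, hc⟩ := hdecomp n hn
      have e1 : n = u * (u⁻¹ * n) := by group
      rw [e1]
      exact Subgroup.mul_mem_sup hu (Subgroup.mem_inf.mpr ⟨hCVz hc, hc⟩)
    · exact sup_le hXNV (inf_le_right.trans hCVNV)
  have hCVX : ∀ c ∈ CV, ∀ u ∈ X, c * u * c⁻¹ ∈ X := by
    intro c hc u hu
    rw [hXcl] at hu
    refine conj_closure_le _ X c ?_ u hu
    rintro s (hs | hs)
    · exact hQX (hCVQ c hc s hs)
    · exact hQ'X (hCVQ' c hc s hs)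
  have h5 : ∀ n ∈ NV, ∀ u ∈ X, n * u * n⁻¹ ∈ X := by
    intro n hn u hu
    obtain ⟨w, hw, hc⟩ := hdecomp n hn
    have e1 : n * u * n⁻¹ = w * ((w⁻¹ * n) * u * (w⁻¹ * n)⁻¹) * w⁻¹ := by group
    rw [e1]
    exact X.mul_mem (X.mul_mem hw (hCVX _ hc u hu)) (X.inv_mem hw)
  have h7 : ∀ u ∈ X, ∀ c ∈ Subgroup.centralizer ({z} : Set G) ⊓ CV,
      u * c * u⁻¹ * c⁻¹ ∈ R := by
    intro u hu c hc
    have hc' : c ∈ CV := (Subgroup.mem_inf.mp hc).2
    rw [hXcl] at hu
    refine Cfsg.Agent.S5431.comm_closure R _ c ?_ ?_ u hu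
    · rintro s (hs | hs)
      · exact hQNR hs
      · exact hQ'NR hs
    · rintro s (hs | hs)
      · exact hPR (hcommQ s hs c hc')
      · exact hP'R (hcommQ' s hs c hc')
  have h8 : X ⊓ (Subgroup.centralizer ({z} : Set G) ⊓ CV) = R := by
    apply le_antisymm
    · intro u hu
      rw [Subgroup.mem_inf, Subgroup.mem_inf] at hu
      exact hXCV u hu.1 hu.2.2
    · exact le_inf hRX (le_inf (hRCV.trans hCVz) hRCV)
  have h1 : R = X ⊓ CV := by
    apply le_antisymm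
    · exact le_inf hRX hRCV
    · intro u hu
      rw [Subgroup.mem_inf] at hu
      exact hXCV u hu.1 hu.2
  exact ⟨h1, h2, h3, h4, h5, le_inf (hRCV.trans hCVz) hRCV, h7, h8⟩


theorem main5430 [Finite G] (Q : Subgroup G) (hQ : Cfsg.IsLargeExtraspecial Q) (z : G)
    (hz : ((Subgroup.center ↥Q).map Q.subtype) = Subgroup.zpowers z) (hz2 : orderOf z = 2)
    (g : G) (hgH : g ∉ Subgroup.centralizer ({z} : Set G)) (hgQ : g * z * g⁻¹ ∈ Q)
    (V X R : Subgroup G) (hV : V = Subgroup.closure ({z, g * z * g⁻¹} : Set G))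
    (hX : X = Q ⊔ (Q).map (MulAut.conj g).toMonoidHom)
    (hR : R = ((Q).map (MulAut.conj g).toMonoidHom ⊓ Subgroup.centralizer ({z} : Set G)) ⊔
      (Q ⊓ Subgroup.centralizer ({g * z * g⁻¹} : Set G))) :
    R = X ⊓ Subgroup.centralizer (V : Set G) ∧
    R = (Cfsg.pCore 2 ↥X).map X.subtype ∧
    (∃ h : (R.subgroupOf X).Normal, Nonempty (↥X ⧸ R.subgroupOf X ≃* Equiv.Perm (Fin 3))) ∧
    Subgroup.normalizer (V : Set G) =
      X ⊔ (Subgroup.centralizer ({z} : Set G) ⊓ Subgroup.centralizer (V : Set G)) ∧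
    (∀ y ∈ Subgroup.normalizer (V : Set G), ∀ x ∈ X, y * x * y⁻¹ ∈ X) ∧
    R ≤ Subgroup.centralizer ({z} : Set G) ⊓ Subgroup.centralizer (V : Set G) ∧
    (∀ x ∈ X, ∀ c ∈ Subgroup.centralizer ({z} : Set G) ⊓ Subgroup.centralizer (V : Set G),
      x * c * x⁻¹ * c⁻¹ ∈ R) ∧
    X ⊓ (Subgroup.centralizer ({z} : Set G) ⊓ Subgroup.centralizer (V : Set G)) = R := by
  obtain ⟨hL1, hL2, hL3, _⟩ := hQ
  obtain ⟨z₀, hz₀1, hZiff, hES₀⟩ := Cfsg.Agent.S5422.setup Q hL1 hL2 hL3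
  have hz1 : z ≠ 1 := by
    intro h; rw [h, orderOf_one] at hz2; omega
  have hzz₀ : z₀ = z := by
    have : z ∈ (Subgroup.center ↥Q).map Q.subtype := by rw [hz]; exact Subgroup.mem_zpowers z
    rcases (hZiff z).mp this with h | h
    · exact absurd h hz1
    · exact h.symm
  have hES : ES Q z := by rw [← hzz₀]; exact hES₀
  have hxz : g * z * g⁻¹ ≠ z := by
    intro h
    apply hgH
    rw [Subgroup.mem_centralizer_singleton_iff]
    calc g * z = (g * z * g⁻¹) * g := by group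
      _ = z * g := by rw [h]
  have hx1 : g * z * g⁻¹ ≠ 1 := by
    intro h
    apply hz1
    have e1 : z = g⁻¹ * (g * z * g⁻¹) * g := by group
    rw [e1, h]; group
  have hzQ' := Cfsg.Agent.S5422.z_mem hES hz1 g hxz hgQ
  have hES' : ES (Q.map (MulAut.conj g).toMonoidHom) (g * z * g⁻¹) := by
    have := hES.map' (MulAut.conj g)
    rwa [MulAut.conj_apply] at this
  have hlink : ∀ a : G, a * (g * z * g⁻¹) * a⁻¹ = z →
      ∀ u ∈ Q.map (MulAut.conj g).toMonoidHom, a * u * a⁻¹ ∈ Q := by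
    rintro a ha _ ⟨q, hq, rfl⟩
    have h1 : (a * g) * z = z * (a * g) := by
      calc (a * g) * z = (a * (g * z * g⁻¹) * a⁻¹) * (a * g) := by group
        _ = z * (a * g) := by rw [ha]
    have h2 := hES.norm (a * g) h1 q hq
    have e1 : a * (MulAut.conj g).toMonoidHom q * a⁻¹ = (a * g) * q * (a * g)⁻¹ := by
      show a * (MulAut.conj g q) * a⁻¹ = _
      rw [MulAut.conj_apply]; group
    rw [e1]; exact h2
  exact core5430 hES hES' hz1 hx1 hxz hgQ hzQ' hlink V X R hV hX hR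

/-- Let Q be a large extraspecial 2-subgroup of the finite group G (extraspecial; centralizer equal to its centre; normal in the centralizer of its centre; normalizing no non-trivial subgroup of odd order) with centre generated by z, an involution, of width w ≥ 2 (order 2^(2w+1)); let g be an element outside the centralizer H of z with g z g⁻¹ in Q; write V for the subgroup generated by z and g z g⁻¹, X for the subgroup generated by Q and g Q g⁻¹, R for the subgroup generated by the centralizer of z in g Q g⁻¹ and the centralizer of g z g⁻¹ in Q, and E for the intersection of Q and g Q g⁻¹. Then R is the centralizer of V in X and is the largest normal 2-subgroup of X, and X/R is isomorphic to the symmetric group of degree 3; moreover the normalizer of V is the product of X and the centralizer of V in H, X is normal in it, and modulo R it is the direct product of X/R and of the centralizer of V in H modulo R. -/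
theorem result {G : Type*} [Group G] [Finite G] (Q : Subgroup G) (hQ : Cfsg.IsLargeExtraspecial Q) (z : G) (hz : ((Subgroup.center ↥Q).map Q.subtype) = Subgroup.zpowers z) (hz2 : orderOf z = 2) (w : ℕ) (hw : 2 ≤ w) (hcard : Nat.card ↥Q = 2 ^ (2 * w + 1)) (g : G) (hgH : g ∉ Subgroup.centralizer ({z} : Set G)) (hgQ : g * z * g⁻¹ ∈ Q) (V X R E : Subgroup G) (hV : V = Subgroup.closure ({z, g * z * g⁻¹} : Set G)) (hX : X = Q ⊔ (Q).map (MulAut.conj g).toMonoidHom) (hR : R = ((Q).map (MulAut.conj g).toMonoidHom ⊓ Subgroup.centralizer ({z} : Set G)) ⊔ (Q ⊓ Subgroup.centralizer ({g * z * g⁻¹} : Set G))) (hE : E = Q ⊓ (Q).map (MulAut.conj g).toMonoidHom) : R = X ⊓ Subgroup.centralizer (V : Set G) ∧ R = (Cfsg.pCore 2 ↥X).map X.subtype ∧ (∃ h : (R.subgroupOf X).Normal, Nonempty (↥X ⧸ R.subgroupOf X ≃* Equiv.Perm (Fin 3))) ∧ Subgroup.normalizer (V : Set G) = X ⊔ (Subgroup.centralizer ({z} : Set G) ⊓ Subgroup.centralizer (V : Set G))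 ∧ (∀ y ∈ Subgroup.normalizer (V : Set G), ∀ x ∈ X, y * x * y⁻¹ ∈ X) ∧ R ≤ Subgroup.centralizer ({z} : Set G) ⊓ Subgroup.centralizer (V : Set G) ∧ (∀ x ∈ X, ∀ c ∈ Subgroup.centralizer ({z} : Set G) ⊓ Subgroup.centralizer (V : Set G), x * c * x⁻¹ * c⁻¹ ∈ R) ∧ X ⊓ (Subgroup.centralizer ({z} : Set G) ⊓ Subgroup.centralizer (V : Set G)) = R := by
  exact main5430 Q hQ z hz hz2 g hgH hgQ V X R hV hX hR

end Cfsg.Agent.S5430
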