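import Mathlib
import Cfsg.Statements.S1459
import Cfsg.Agent.S5431
import Cfsg.Agent.S5430
import Cfsg.Agent.Lib.Helper4.Cores
import Cfsg.Agent.Lib.Helper5.PCore

set_option autoImplicit false
set_option maxHeartbeats 800000

open Cfsg
open scoped commutatorElement

namespace Cfsg.Agent.S1459

variable {G : Type*} [Group G]

theorem comm_normal (H K : Subgroup G) (hH : H.Normal) (hHK : H ⊔ K = ⊤) :
    (⁅H, K⁆ : Subgroup G).Normal := by
  rw [← Subgroup.normalizer_eq_top_iff, eq_top_iff, ← hHK, sup_le_iff]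
  constructor
  · apply Cfsg.Agent.S5431.le_normalizer_of_conj
    intro h' hh' n hn
    rw [Subgroup.commutator_def] at hn
    refine Cfsg.Agent.S5430.conj_closure_le _ _ h' ?_ n hn
    rintro s ⟨h, hh, k, hk, rfl⟩
    have e : h' * ⁅h, k⁆ * h'⁻¹ = ⁅h' * h, k⁆ * ⁅h', k⁆⁻¹ := by
      rw [commutatorElement_def, commutatorElement_def, commutatorElement_def]; group
    rw [e]
    exact Subgroup.mul_mem _ (Subgroup.commutator_mem_commutator (H.mul_mem hh' hh) hk)
      (Subgroup.inv_mem _ (Subgroup.commutator_mem_commutator hh' hk))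
  · apply Cfsg.Agent.S5431.le_normalizer_of_conj
    intro k' hk' n hn
    rw [Subgroup.commutator_def] at hn
    refine Cfsg.Agent.S5430.conj_closure_le _ _ k' ?_ n hn
    rintro s ⟨h, hh, k, hk, rfl⟩
    have e : k' * ⁅h, k⁆ * k'⁻¹ = ⁅k' * h * k'⁻¹, k' * k * k'⁻¹⁆ := by
      rw [commutatorElement_def, commutatorElement_def]; group
    rw [e]
    exact Subgroup.commutator_mem_commutator (hH.conj_mem h hh k')
      (K.mul_mem (K.mul_mem hk' hk) (K.inv_mem hk'))

theorem comm_sup_normal (X N : Subgroup G) [hN : N.Normal] :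
    ⁅X ⊔ N, X ⊔ N⁆ ≤ ⁅X, X⁆ ⊔ N := by
  have h1 : (X ⊔ N).map (QuotientGroup.mk' N) = X.map (QuotientGroup.mk' N) := by
    rw [Subgroup.map_sup]
    have : N.map (QuotientGroup.mk' N) = ⊥ := by
      rw [eq_bot_iff]
      rintro _ ⟨n, hn, rfl⟩
      rw [Subgroup.mem_bot]
      exact (QuotientGroup.eq_one_iff n).2 hn
    rw [this, sup_bot_eq]
  have h2 : (⁅X ⊔ N, X ⊔ N⁆).map (QuotientGroup.mk' N) = (⁅X, X⁆).map (QuotientGroup.mk' N) := by
    rw [Subgroup.map_commutator, Subgroup.map_commutator, h1]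
  calc ⁅X ⊔ N, X ⊔ N⁆ ≤ (⁅X ⊔ N, X ⊔ N⁆.map (QuotientGroup.mk' N)).comap (QuotientGroup.mk' N) :=
        Subgroup.le_comap_map _ _
    _ = ⁅X, X⁆ ⊔ N := by
        rw [h2, Subgroup.comap_map_eq, QuotientGroup.ker_mk']

theorem comm_central_left {Q : Type*} [Group Q] (z a c : Q) (hz : ∀ y : Q, z * y = y * z) :
    ⁅z * a, c⁆ = ⁅a, c⁆ := by
  calc ⁅z * a, c⁆ = z * (a * c * a⁻¹) * z⁻¹ * c⁻¹ := by rw [commutatorElement_def]; group
    _ = (a * c * a⁻¹) * z * z⁻¹ * c⁻¹ := by rw [hz (a * c * a⁻¹)]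
    _ = ⁅a, c⁆ := by rw [commutatorElement_def]; group

theorem comm_central_right {Q : Type*} [Group Q] (z a b : Q) (hz : ∀ y : Q, z * y = y * z) :
    ⁅a, z * b⁆ = ⁅a, b⁆ := by
  calc ⁅a, z * b⁆ = a * (z * (b * a⁻¹ * b⁻¹)) * z⁻¹ := by rw [commutatorElement_def]; group
    _ = a * ((b * a⁻¹ * b⁻¹) * z) * z⁻¹ := by rw [hz (b * a⁻¹ * b⁻¹)]
    _ = ⁅a, b⁆ := by rw [commutatorElement_def]; group

theorem exists_mul_of_sup (H K : Subgroup G) (hH : H.Normal) (hHK : H ⊔ K = ⊤) (g : G) :
    ∃ h ∈ H, ∃ k ∈ K, g = h * k := by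
  haveI := hH
  have hg : g ∈ ((H ⊔ K : Subgroup G) : Set G) := by rw [hHK]; exact Set.mem_univ g
  rw [Subgroup.normal_mul] at hg
  obtain ⟨h, hh, k, hk, rfl⟩ := hg
  exact ⟨h, hh, k, hk, rfl⟩

/-- `H = [H, G]` from `H ≤ G'`, `H ∩ K = 1`, `HK = G`. -/
theorem le_comm_top (H K : Subgroup G) (hH : H.Normal) (hHK : H ⊔ K = ⊤) (hdisj : H ⊓ K = ⊥)
    (hle : H ≤ commutator G) : H ≤ ⁅H, (⊤ : Subgroup G)⁆ := by
  haveI := hH
  obtain ⟨E, hE⟩ : ∃ E : Subgroup G, E = ⁅H, (⊤ : Subgroup G)⁆ := ⟨_, rfl⟩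
  rw [← hE]
  haveI hEn : E.Normal := by rw [hE]; infer_instance
  have hEH : E ≤ H := by rw [hE]; exact Subgroup.commutator_le_left H ⊤
  have hcent : ∀ h ∈ H, ∀ y : G ⧸ E, (QuotientGroup.mk' E h) * y = y * (QuotientGroup.mk' E h) := by
    intro h hh y
    obtain ⟨g, rfl⟩ := QuotientGroup.mk'_surjective E y
    rw [← map_mul, ← map_mul]
    apply (QuotientGroup.eq).2
    have e : (h * g)⁻¹ * (g * h) = ⁅h⁻¹, g⁻¹⁆⁻¹ := by
      rw [commutatorElement_def]; group
    rw [e, hE]
    exact Subgroup.inv_mem _ (Subgroup.commutator_mem_commutator (H.inv_mem hh) (Subgroup.mem_top _))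
  have hcomm : commutator G ≤ E ⊔ K := by
    rw [commutator_def, Subgroup.commutator_le]
    intro g₁ _ g₂ _
    obtain ⟨h₁, hh₁, k₁, hk₁, rfl⟩ := exists_mul_of_sup H K hH hHK g₁
    obtain ⟨h₂, hh₂, k₂, hk₂, rfl⟩ := exists_mul_of_sup H K hH hHK g₂
    have h1 : QuotientGroup.mk' E ⁅h₁ * k₁, h₂ * k₂⁆ = QuotientGroup.mk' E ⁅k₁, k₂⁆ := by
      rw [map_commutatorElement, map_mul, map_mul, comm_central_left _ _ _ (hcent h₁ hh₁),
        comm_central_right _ _ _ (hcent h₂ hh₂), ← map_commutatorElement]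
    have h2 : ⁅k₁, k₂⁆⁻¹ * ⁅h₁ * k₁, h₂ * k₂⁆ ∈ E := (QuotientGroup.eq).1 h1.symm
    have h3 : ⁅h₁ * k₁, h₂ * k₂⁆ = ⁅k₁, k₂⁆ * (⁅k₁, k₂⁆⁻¹ * ⁅h₁ * k₁, h₂ * k₂⁆) := by group
    rw [h3]
    exact Subgroup.mul_mem _
      (Subgroup.mem_sup_right (Subgroup.commutator_mem_commutator hk₁ hk₂ |>
        fun h => (Subgroup.commutator_le_self K) h |> fun h => h))
      (Subgroup.mem_sup_left h2)
  intro h hh
  have h1 : h ∈ ((E ⊔ K : Subgroup G) : Set G) := hcomm (hle hh)
  rw [Subgroup.normal_mul] at h1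
  obtain ⟨e, he, k, hk, hek⟩ := h1
  have hkH : k ∈ H := by
    have : k = e⁻¹ * h := by rw [← hek]; group
    rw [this]
    exact H.mul_mem (H.inv_mem (hEH he)) hh
  have hk1 : k = 1 := by
    have : k ∈ H ⊓ K := ⟨hkH, hk⟩
    rw [hdisj] at this
    exact (Subgroup.mem_bot).1 this
  have : h = e := by
    have h' := hek
    simp only [] at h'
    rw [← h', hk1, mul_one]
  rw [this]; exact he

/-- part (a), first half -/
theorem eq_comm_K [Group.IsSolvable G] (H K : Subgroup G) (hH : H.Normal) (hHK : H ⊔ K = ⊤)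
    (hdisj : H ⊓ K = ⊥) (hle : H ≤ commutator G) : H = ⁅H, K⁆ := by
  haveI := hH
  obtain ⟨N, hN⟩ : ∃ N : Subgroup G, N = ⁅H, K⁆ := ⟨_, rfl⟩
  rw [← hN]
  haveI hNn : N.Normal := by rw [hN]; exact comm_normal H K hH hHK
  have hNH : N ≤ H := by rw [hN]; exact Subgroup.commutator_le_left H K
  have hHH : ⁅H, H⁆ ≤ H := Subgroup.commutator_le_left H H
  have h0 : H ≤ ⁅H, H⁆ ⊔ N := by
    refine (le_comm_top H K hH hHK hdisj hle).trans ?_
    rw [Subgroup.commutator_le]
    intro h hh g _
    obtain ⟨h', hh', k', hk', rfl⟩ := exists_mul_of_sup H K hH hHK g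
    have e : ⁅h, h' * k'⁆ = ⁅h, h'⁆ * (h' * ⁅h, k'⁆ * h'⁻¹) := by
      rw [commutatorElement_def, commutatorElement_def, commutatorElement_def]; group
    rw [e]
    refine Subgroup.mul_mem _ (Subgroup.mem_sup_left (Subgroup.commutator_mem_commutator hh hh'))
      (Subgroup.mem_sup_right (hNn.conj_mem _ ?_ h'))
    rw [hN]
    exact Subgroup.commutator_mem_commutator hh hk'
  have key : ∀ n : ℕ, H ≤ (H ⊓ derivedSeries G n) ⊔ N := by
    intro n
    induction n with
    | zero =>
      rw [derivedSeries_zero, inf_top_eq]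
      exact le_sup_left
    | succ n ih =>
      have h1 : ⁅H, H⁆ ≤ ⁅(H ⊓ derivedSeries G n) ⊔ N, (H ⊓ derivedSeries G n) ⊔ N⁆ :=
        Subgroup.commutator_mono ih ih
      have h2 := comm_sup_normal (H ⊓ derivedSeries G n) N
      have h3 : ⁅H ⊓ derivedSeries G n, H ⊓ derivedSeries G n⁆ ≤ H ⊓ derivedSeries G (n + 1) := by
        apply le_inf
        · exact (Subgroup.commutator_mono inf_le_left inf_le_left).trans hHH
        · rw [derivedSeries_succ]
          exact Subgroup.commutator_mono inf_le_right inf_le_right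
      calc H ≤ ⁅H, H⁆ ⊔ N := h0
        _ ≤ ((H ⊓ derivedSeries G (n + 1)) ⊔ N) ⊔ N :=
            sup_le_sup_right (h1.trans (h2.trans (sup_le_sup_right h3 N))) N
        _ = (H ⊓ derivedSeries G (n + 1)) ⊔ N := by rw [sup_assoc, sup_idem]
  obtain ⟨n, hn⟩ := (Group.isSolvable_def G).1 inferInstance
  have := key n
  rw [hn, inf_bot_eq, bot_sup_eq] at this
  exact le_antisymm this hNH

/-- part (a), second half -/
theorem cent_le_comm [Finite G] (H K : Subgroup G) (hH : H.Normal)
    (hcop : (Nat.card H).Coprime (Nat.card K)) (hHeq : H = ⁅H, K⁆) :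
    H ⊓ Subgroup.centralizer (K : Set G) ≤ ⁅H, H⁆ := by
  classical
  haveI := hH
  haveI : Fintype K := Fintype.ofFinite K
  let θ : H →* Abelianization H :=
    ∏ k : K, (Abelianization.of.comp (MulAut.conjNormal (k : G) : MulAut H).toMonoidHom)
  have hθ : ∀ h : H, θ h = ∏ k : K, Abelianization.of (MulAut.conjNormal (k : G) h) := by
    intro h
    simp only [θ, MonoidHom.finset_prod_apply]
    rfl
  have f1 : ∀ (k₀ : K) (h : H), θ (MulAut.conjNormal (k₀ : G) h) = θ h := by
    intro k₀ h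
    rw [hθ, hθ]
    have : ∀ k : K, Abelianization.of (MulAut.conjNormal (k : G) (MulAut.conjNormal (k₀ : G) h))
        = Abelianization.of (MulAut.conjNormal (((Equiv.mulRight k₀) k : K) : G) h) := by
      intro k
      congr 1
      apply Subtype.ext
      rw [MulAut.conjNormal_apply, MulAut.conjNormal_apply, MulAut.conjNormal_apply]
      show (k : G) * ((k₀ : G) * h * (k₀ : G)⁻¹) * (k : G)⁻¹ = ((k * k₀ : K) : G) * h * ((k * k₀ : K) : G)⁻¹
      rw [Subgroup.coe_mul]; group
    rw [Finset.prod_congr rfl (fun k _ => this k)]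
    exact Equiv.prod_comp (Equiv.mulRight k₀)
      (fun k : K => Abelianization.of (MulAut.conjNormal (k : G) h))
  have f2 : ⁅H, K⁆ ≤ (θ.ker).map H.subtype := by
    rw [Subgroup.commutator_le]
    intro h hh k hk
    have hmem : ⁅h, k⁆ ∈ H := by
      rw [commutatorElement_def]
      have : h * k * h⁻¹ * k⁻¹ = h * (k * h⁻¹ * k⁻¹) := by group
      rw [this]
      exact H.mul_mem hh (hH.conj_mem _ (H.inv_mem hh) k)
    refine ⟨⟨⁅h, k⁆, hmem⟩, ?_, rfl⟩
    have e : (⟨⁅h, k⁆, hmem⟩ : H) = ⟨h, hh⟩ * MulAut.conjNormal ((⟨k, hk⟩ : K) : G) (⟨h, hh⟩ : H)⁻¹ := by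
      apply Subtype.ext
      rw [Subgroup.coe_mul, MulAut.conjNormal_apply]
      show ⁅h, k⁆ = h * (k * h⁻¹ * k⁻¹)
      rw [commutatorElement_def]; group
    show θ ⟨⁅h, k⁆, hmem⟩ = 1
    rw [e, map_mul, f1 ⟨k, hk⟩, map_inv, mul_inv_cancel]
  intro x hx
  obtain ⟨hxH, hxC⟩ := hx
  have hx1 : x ∈ (θ.ker).map H.subtype := f2 (hHeq ▸ hxH)
  obtain ⟨y, hy, hyx⟩ := hx1
  have hy' : θ y = 1 := hy
  have hyC : ∀ k : K, MulAut.conjNormal (k : G) y = y := by
    intro k
    apply Subtype.ext
    rw [MulAut.conjNormal_apply]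
    have h1 : (y : G) = x := hyx
    rw [h1]
    have h2 := (Subgroup.mem_centralizer_iff.1 hxC) (k : G) k.2
    rw [h2]; group
  have hpowK : (Abelianization.of y) ^ (Fintype.card K) = 1 := by
    rw [← hy', hθ]
    rw [Finset.prod_congr rfl (fun k _ => by rw [hyC k])]
    rw [Finset.prod_const, Finset.card_univ]
  have hpowH : (Abelianization.of y) ^ (Nat.card H) = 1 := by
    rw [← map_pow, pow_card_eq_one', map_one]
  have hord : orderOf (Abelianization.of y) = 1 := by
    have h1 : orderOf (Abelianization.of y) ∣ Nat.card K := by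
      rw [Nat.card_eq_fintype_card]
      exact orderOf_dvd_of_pow_eq_one hpowK
    have h2 : orderOf (Abelianization.of y) ∣ Nat.card H := orderOf_dvd_of_pow_eq_one hpowH
    have := Nat.dvd_gcd h2 h1
    rw [hcop] at this
    exact Nat.dvd_one.1 this
  have hker : y ∈ (Abelianization.of : H →* Abelianization H).ker := by
    rw [MonoidHom.mem_ker]
    exact orderOf_eq_one_iff.1 hord
  rw [Abelianization.ker_of] at hker
  rw [← Subgroup.map_subtype_commutator]
  exact ⟨y, hker, hyx⟩

theorem comm_eq_bot_of_cyclic {Hh : Type*} [Group Hh] [Group.IsNilpotent Hh] (x : Hh)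
    (hx : ∀ g : Hh, ∃ i : ℤ, ∃ a ∈ commutator Hh, g = x ^ i * a) : commutator Hh = ⊥ := by
  have hL1 : (⊤ : Subgroup Hh).lowerCentralSeries 1 = commutator Hh := rfl
  have hL2 : (⊤ : Subgroup Hh).lowerCentralSeries 2 = ⁅commutator Hh, (⊤ : Subgroup Hh)⁆ := rfl
  have hA : commutator Hh ≤ (⊤ : Subgroup Hh).lowerCentralSeries 2 := by
    obtain ⟨N, hN⟩ : ∃ N : Subgroup Hh, N = ⁅commutator Hh, (⊤ : Subgroup Hh)⁆ := ⟨_, rfl⟩
    rw [hL2, ← hN]
    haveI : N.Normal := by rw [hN]; infer_instance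
    have hcent : ∀ a ∈ commutator Hh, ∀ y : Hh ⧸ N,
        (QuotientGroup.mk' N a) * y = y * (QuotientGroup.mk' N a) := by
      intro a ha y
      obtain ⟨g, rfl⟩ := QuotientGroup.mk'_surjective N y
      rw [← map_mul, ← map_mul]
      apply (QuotientGroup.eq).2
      have e : (a * g)⁻¹ * (g * a) = ⁅a⁻¹, g⁻¹⁆⁻¹ := by
        rw [commutatorElement_def]; group
      rw [e, hN]
      exact Subgroup.inv_mem _
        (Subgroup.commutator_mem_commutator (Subgroup.inv_mem _ ha) (Subgroup.mem_top _))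
    rw [commutator_def, Subgroup.commutator_le]
    intro g _ h _
    obtain ⟨i, a, ha, rfl⟩ := hx g
    obtain ⟨j, b, hb, rfl⟩ := hx h
    apply (QuotientGroup.eq_one_iff _).1
    have h1 : (QuotientGroup.mk' N) ⁅x ^ i * a, x ^ j * b⁆ = 1 := by
      rw [map_commutatorElement, map_mul, map_mul, ← hcent a ha, ← hcent b hb,
        comm_central_left _ _ _ (hcent a ha), comm_central_right _ _ _ (hcent b hb),
        map_zpow, map_zpow, commutatorElement_eq_one_iff_commute]
      exact (Commute.refl _).zpow_zpow i j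
    exact h1
  have hB : ∀ n : ℕ, commutator Hh ≤ (⊤ : Subgroup Hh).lowerCentralSeries (n + 1) := by
    intro n
    induction n with
    | zero => exact le_of_eq hL1.symm
    | succ n ih =>
      refine hA.trans ?_
      rw [hL2]
      show ⁅commutator Hh, (⊤ : Subgroup Hh)⁆ ≤ ⁅(⊤ : Subgroup Hh).lowerCentralSeries (n + 1), ⊤⁆
      exact Subgroup.commutator_mono ih le_rfl
  obtain ⟨n, hn⟩ := Subgroup.nilpotent_iff_lowerCentralSeries.1 (inferInstance : Group.IsNilpotent Hh)
  have h1 := hB n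
  have h2 : (⊤ : Subgroup Hh).lowerCentralSeries (n + 1) ≤ (⊤ : Subgroup Hh).lowerCentralSeries n :=
    Subgroup.lowerCentralSeries_antitone _ (Nat.le_succ n)
  rw [hn] at h2
  exact le_bot_iff.1 (h1.trans h2)

/-- a nilpotent group whose commutator subgroup has prime index is of prime order -/
theorem comm_eq_bot_of_prime_index {Hh : Type*} [Group Hh] [Finite Hh] [Group.IsNilpotent Hh]
    (hp : (commutator Hh).index.Prime) : commutator Hh = ⊥ := by
  have hne : commutator Hh ≠ ⊤ := by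
    intro h
    rw [h, Subgroup.index_top] at hp
    exact Nat.not_prime_one hp
  obtain ⟨x, hx⟩ : ∃ x : Hh, x ∉ commutator Hh := by
    by_contra hcon
    push Not at hcon
    exact hne (eq_top_iff.2 fun g _ => hcon g)
  have htop : Subgroup.zpowers x ⊔ commutator Hh = ⊤ := by
    rw [← Subgroup.index_eq_one]
    have hd : (Subgroup.zpowers x ⊔ commutator Hh).index ∣ (commutator Hh).index :=
      Subgroup.index_dvd_of_le le_sup_right
    rcases (Nat.dvd_prime hp).1 hd with h | h
    · exact h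
    · exfalso
      apply hx
      have : commutator Hh = Subgroup.zpowers x ⊔ commutator Hh := by
        apply Subgroup.eq_of_le_of_card_ge le_sup_right
        have h1 := Subgroup.card_mul_index (commutator Hh)
        have h2 := Subgroup.card_mul_index (Subgroup.zpowers x ⊔ commutator Hh)
        rw [h] at h2
        have hpos : 0 < (commutator Hh).index := hp.pos
        have : Nat.card (Subgroup.zpowers x ⊔ commutator Hh : Subgroup Hh) * (commutator Hh).index
            = Nat.card (commutator Hh) * (commutator Hh).index := by rw [h1, h2]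
        exact le_of_eq (Nat.eq_of_mul_eq_mul_right hpos this)
      rw [this]
      exact Subgroup.mem_sup_left (Subgroup.mem_zpowers x)
  apply comm_eq_bot_of_cyclic x
  intro g
  have hg : g ∈ ((Subgroup.zpowers x ⊔ commutator Hh : Subgroup Hh) : Set Hh) := by
    rw [htop]; exact Set.mem_univ g
  rw [Subgroup.mul_normal] at hg
  obtain ⟨y, hy, a, ha, rfl⟩ := hg
  obtain ⟨i, rfl⟩ := Subgroup.mem_zpowers_iff.1 hy
  exact ⟨i, a, ha, rfl⟩

theorem partB1 [Finite G] (hnil : Group.IsNilpotent ↥(commutator G))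
    (hp : (commutator G).index.Prime) :
    (Nat.card ↥(commutator G)).Coprime (commutator G).index := by
  obtain ⟨R, hR⟩ : ∃ R : Subgroup G, R = commutator G := ⟨_, rfl⟩
  obtain ⟨p, hpdef⟩ : ∃ p : ℕ, p = (commutator G).index := ⟨_, rfl⟩
  rw [← hpdef] at hp ⊢
  haveI : Fact p.Prime := ⟨hp⟩
  haveI hRn : (commutator G).Normal := inferInstance
  obtain ⟨Q, hQ⟩ : ∃ Q : Subgroup G, Q = Cfsg.pPrimeCore p G := ⟨_, rfl⟩
  haveI hQn : Q.Normal := by rw [hQ]; exact Cfsg.Agent.Lib.Helper4.pPrimeCore_normal p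
  have hQc : (Nat.card Q).Coprime p := by
    rw [hQ]; exact Cfsg.Agent.Lib.Helper5.card_pPrimeCore_coprime p
  -- Q ≤ R
  have hQR : Q ≤ commutator G := by
    rw [← Subgroup.relIndex_eq_one]
    have h1 : (commutator G).relIndex Q ∣ p := by
      rw [hpdef]; exact Subgroup.relIndex_dvd_index_of_normal _ _
    have h2 : (commutator G).relIndex Q ∣ Nat.card Q := Subgroup.relIndex_dvd_card _ _
    have := Nat.dvd_gcd h2 h1
    rw [hQc] at this
    exact Nat.dvd_one.1 this
  -- the index of Q is a power of p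
  have hidx : ∀ q : ℕ, q.Prime → q ∣ Q.index → q = p := by
    intro q hq hqd
    by_contra hne
    haveI : Fact q.Prime := ⟨hq⟩
    obtain ⟨S⟩ : Nonempty (Sylow q ↥(commutator G)) := inferInstance
    have hall : ∀ (p : ℕ), Fact (Nat.Prime p) → ∀ (P : Sylow p ↥(commutator G)),
        (P : Subgroup ↥(commutator G)).Normal := by
      have h03 := (Group.isNilpotent_of_finite_tfae (G := ↥(commutator G))).out 0 3
      exact h03.1 hnil
    have hSn : (S : Subgroup ↥(commutator G)).Normal := hall q inferInstance S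
    haveI hSc : (S : Subgroup ↥(commutator G)).Characteristic := Sylow.characteristic_of_normal S hSn
    have hSG : ((S : Subgroup ↥(commutator G)).map (commutator G).subtype).Normal := inferInstance
    have hScard : (Nat.card ((S : Subgroup ↥(commutator G)).map (commutator G).subtype)).Coprime p := by
      rw [Subgroup.card_subtype]
      obtain ⟨n, hn⟩ := IsPGroup.exists_card_eq S.isPGroup'
      rw [hn]
      exact Nat.Coprime.pow_left n ((Nat.coprime_primes hq hp).2 hne)
    have hle : (S : Subgroup ↥(commutator G)).map (commutator G).subtype ≤ Q := by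
      rw [hQ]; exact Cfsg.Agent.Lib.Helper5.le_pPrimeCore _ hSG hScard
    have h1 : Q.index ∣ ((S : Subgroup ↥(commutator G)).map (commutator G).subtype).index :=
      Subgroup.index_dvd_of_le hle
    rw [Subgroup.index_map_subtype, ← hpdef] at h1
    have h2 : q ∣ (S : Subgroup ↥(commutator G)).index * p := hqd.trans h1
    rcases (Nat.Prime.dvd_mul hq).1 h2 with h3 | h3
    · exact S.not_dvd_index h3
    · exact hne ((Nat.prime_dvd_prime_iff_eq hq hp).1 h3)
  have hQi0 : Q.index ≠ 0 := Subgroup.index_ne_zero_of_finite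
  have hpow := Nat.eq_prime_pow_of_unique_prime_dvd hQi0 (fun {d} hd hdd => hidx d hd hdd)
  have hPG : IsPGroup p (G ⧸ Q) := IsPGroup.of_card (n := Q.index.primeFactorsList.length) (by
    rw [← Subgroup.index_eq_card]; exact hpow)
  haveI : Group.IsNilpotent (G ⧸ Q) := hPG.isNilpotent
  -- the commutator subgroup of the quotient
  have hcq : commutator (G ⧸ Q) = (commutator G).map (QuotientGroup.mk' Q) := by
    rw [commutator_def, commutator_def, Subgroup.map_commutator,
      Subgroup.map_top_of_surjective _ (QuotientGroup.mk'_surjective Q)]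
  have hci : (commutator (G ⧸ Q)).index.Prime := by
    rw [hcq, Subgroup.index_map, QuotientGroup.ker_mk', sup_eq_left.2 hQR,
      MonoidHom.range_eq_top.2 (QuotientGroup.mk'_surjective Q), Subgroup.index_top, mul_one,
      ← hpdef]
    exact hp
  have hbot := comm_eq_bot_of_prime_index hci
  rw [hcq, Subgroup.map_eq_bot_iff, QuotientGroup.ker_mk'] at hbot
  exact Nat.Coprime.coprime_dvd_left (Subgroup.card_dvd_of_le hbot) hQc

theorem main1459 [Finite G] [Group.IsSolvable G] :
    (∀ (H K : Subgroup G), H.Normal → (Nat.card H).Coprime H.index → Subgroup.IsComplement' H K →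
        H ≤ commutator G →
        H = ⁅H, K⁆ ∧ H ⊓ Subgroup.centralizer (K : Set G) ≤ ⁅H, H⁆) ∧
      (Group.IsNilpotent ↥(commutator G) → (commutator G).index.Prime →
        (Nat.card ↥(commutator G)).Coprime (commutator G).index ∧
        ∀ K : Subgroup G, Subgroup.IsComplement' (commutator G) K →
          commutator G = ⁅(⊤ : Subgroup G), K⁆) := by
  have partA : ∀ (H K : Subgroup G), H.Normal → (Nat.card H).Coprime H.index →
      Subgroup.IsComplement' H K → H ≤ commutator G →
        H = ⁅H, K⁆ ∧ H ⊓ Subgroup.centralizer (K : Set G) ≤ ⁅H, H⁆ := by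
    intro H K hH hcop hc hle
    have h1 : H = ⁅H, K⁆ := eq_comm_K H K hH hc.sup_eq_top (disjoint_iff.1 hc.disjoint) hle
    refine ⟨h1, ?_⟩
    have hidx : H.index = Nat.card K := hc.symm.index_eq_card
    rw [hidx] at hcop
    exact cent_le_comm H K hH hcop h1
  refine ⟨partA, ?_⟩
  intro hnil hp
  have hcop := partB1 hnil hp
  refine ⟨hcop, ?_⟩
  intro K hK
  have h1 := (partA (commutator G) K inferInstance hcop hK le_rfl).1
  apply le_antisymm
  · rw [h1]
    exact Subgroup.commutator_mono le_top le_rfl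
  · rw [commutator_def]
    exact Subgroup.commutator_mono le_rfl le_top

/-- Let G be a finite solvable group. (a) If H is a normal subgroup of order coprime to its index, K is a complement to H, and H ≤ G', then H = [H, K] and H ∩ C_G(K) ≤ [H, H]. (b) If G' is nilpotent and has prime index in G, then the order of G' is coprime to its index and G' = [G, K] (the subgroup generated by commutators of elements of G with elements of K) for every complement K of G'. -/
theorem result {G : Type*} [Group G] [Finite G] [Group.IsSolvable G] :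
    (∀ (H K : Subgroup G), H.Normal → (Nat.card H).Coprime H.index → Subgroup.IsComplement' H K → H ≤ commutator G →
        H = ⁅H, K⁆ ∧ H ⊓ Subgroup.centralizer (K : Set G) ≤ ⁅H, H⁆) ∧
      (Group.IsNilpotent ↥(commutator G) → (commutator G).index.Prime →
        (Nat.card ↥(commutator G)).Coprime (commutator G).index ∧
        ∀ K : Subgroup G, Subgroup.IsComplement' (commutator G) K → commutator G = ⁅(⊤ : Subgroup G), K⁆) := by
  exact main1459

end Cfsg.Agent.S1459
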