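import Cfsg.Statements.S1901
import Cfsg.Agent.Lib.Helper7.PSolvable
import Cfsg.Agent.Lib.Helper4.CoprimeComm
import Cfsg.Agent.S0027
import Cfsg.Agent.S0116

set_option autoImplicit false
open Cfsg

namespace Cfsg.Agent.S1901


open scoped commutatorElement
open Cfsg.Agent.Lib.Helper4

universe u

theorem eq_one_of_mem_pgroup_of_mem_coprime {G : Type*} [Group G] [Finite G] {p : ℕ} [Fact p.Prime]
    (P M : Subgroup G) (hP : IsPGroup p P) (hM : (Nat.card M).Coprime p) (y : G) (hyP : y ∈ P)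
    (hyM : y ∈ M) : y = 1 := by
  obtain ⟨k, hk⟩ := hP ⟨y, hyP⟩
  have hk' : y ^ p ^ k = 1 := by
    have := congrArg Subtype.val hk
    simpa using this
  have h1 : orderOf y ∣ p ^ k := orderOf_dvd_of_pow_eq_one hk'
  have h2 : orderOf y ∣ Nat.card M := Subgroup.orderOf_dvd_natCard M hyM
  have hcop : Nat.Coprime (p ^ k) (Nat.card M) := Nat.Coprime.pow_left _ hM.symm
  have : orderOf y ∣ 1 := by
    have := Nat.dvd_gcd h1 h2
    rwa [hcop] at this
  exact orderOf_eq_one_iff.mp (Nat.dvd_one.mp this)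

theorem key (p : ℕ) [Fact p.Prime] : ∀ n : ℕ, ∀ (G : Type u) [Group G] [Finite G],
    Nat.card G = n → Cfsg.IsPSolvable p G →
    ∀ (Q : Subgroup G) (P : Sylow p G) (x : G), ¬ p ∣ Nat.card Q →
    Q ≤ Subgroup.normalizer ((P : Subgroup G) : Set G) →
    (∃ k : ℕ, x ^ (p ^ k) = 1) → x ∈ Subgroup.normalizer (Q : Set G) →
    ⁅Q, Subgroup.zpowers x⁆ = Q → Q = ⊥ := by
  intro n
  induction n using Nat.strong_induction_on with
  | _ n ih =>
  intro G _ _ hcard hsol Q P x hQ hQP hx hxN hcomm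
  have hp : p.Prime := Fact.out
  by_contra hQ1
  haveI : Nontrivial G := by
    obtain ⟨q, hq1⟩ := (Subgroup.ne_bot_iff_exists_ne_one).1 hQ1
    exact ⟨⟨q.1, 1, fun h => hq1 (Subtype.ext h)⟩⟩
  obtain ⟨M, hMn, hM1, hM⟩ := Cfsg.Agent.Lib.Helper7.exists_normal_of_isPSolvable hsol
  -- quotient
  have hQM : Q ≤ M := by
    have hlt : Nat.card (G ⧸ M) < n := by
      rw [← hcard, Subgroup.card_eq_card_quotient_mul_card_subgroup M]
      have h1 : 1 < Nat.card M := (Subgroup.one_lt_card_iff_ne_bot M).2 hM1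
      have h2 : 0 < Nat.card (G ⧸ M) := Nat.card_pos
      nlinarith
    have hsolq := Cfsg.Agent.Lib.Helper7.isPSolvable_quotient hp hsol M
    have h := ih _ hlt (G ⧸ M) rfl hsolq (Q.map (QuotientGroup.mk' M))
      (P.mapSurjective (QuotientGroup.mk'_surjective M)) (QuotientGroup.mk' M x)
      (fun hd => hQ (hd.trans (Subgroup.card_map_dvd _ _)))
      (by
        rw [Sylow.coe_mapSurjective]
        exact (Subgroup.map_mono hQP).trans (Subgroup.le_normalizer_map _))
      (by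
        obtain ⟨k, hk⟩ := hx
        exact ⟨k, by rw [← map_pow, hk, map_one]⟩)
      (Subgroup.le_normalizer_map (QuotientGroup.mk' M) (Subgroup.mem_map_of_mem _ hxN))
      (by
        rw [← MonoidHom.map_zpowers, ← Subgroup.map_commutator, hcomm])
    rw [Subgroup.map_eq_bot_iff, QuotientGroup.ker_mk'] at h
    exact h
  rcases hM with ⟨m, hm⟩ | hM
  · -- M is a p-group
    have hMp : IsPGroup p M := IsPGroup.of_card hm
    have hQp : IsPGroup p Q := hMp.to_le hQM
    obtain ⟨k, hk⟩ := IsPGroup.iff_card.1 hQp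
    have hk0 : k = 0 := by
      by_contra hne
      apply hQ
      rw [hk]
      exact dvd_pow_self p hne
    rw [hk0, pow_zero] at hk
    exact hQ1 (Subgroup.card_eq_one.1 hk)
  · -- M is a p'-group
    have hPC : (P : Subgroup G) ≤ Subgroup.centralizer (Q : Set G) := by
      intro g hg
      rw [Subgroup.mem_centralizer_iff]
      intro q hq
      have h1 : q * g * q⁻¹ * g⁻¹ ∈ (P : Subgroup G) :=
        Subgroup.mul_mem _ ((Subgroup.mem_normalizer_iff.1 (hQP hq) g).1 hg) (Subgroup.inv_mem _ hg)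
      have h2 : q * g * q⁻¹ * g⁻¹ ∈ M := by
        have : q * g * q⁻¹ * g⁻¹ = q * (g * q⁻¹ * g⁻¹) := by group
        rw [this]
        exact M.mul_mem (hQM hq) (hMn.conj_mem _ (M.inv_mem (hQM hq)) g)
      have h3 := eq_one_of_mem_pgroup_of_mem_coprime (P : Subgroup G) M P.2 hM _ h1 h2
      have : q * g = (q * g * q⁻¹ * g⁻¹) * (g * q) := by group
      rw [this, h3, one_mul]
    -- conjugate x into P inside N(Q)
    have hXp : IsPGroup p (Subgroup.zpowers x) := by
      obtain ⟨k, hk⟩ := hx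
      rintro ⟨y, hy⟩
      obtain ⟨i, rfl⟩ := Subgroup.mem_zpowers_iff.1 hy
      refine ⟨k, Subtype.ext ?_⟩
      show (x ^ i) ^ p ^ k = 1
      rw [← zpow_natCast, ← zpow_mul, mul_comm, zpow_mul, zpow_natCast, hk, one_zpow]
    have hCN : Subgroup.centralizer (Q : Set G) ≤ Subgroup.normalizer (Q : Set G) :=
      Subgroup.centralizer_le_normalizer _
    have hPN : (P : Subgroup G) ≤ Subgroup.normalizer (Q : Set G) := hPC.trans hCN
    have hXN : Subgroup.zpowers x ≤ Subgroup.normalizer (Q : Set G) := by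
      rw [Subgroup.zpowers_le]; exact hxN
    have hidx : ¬ p ∣ (P : Subgroup G).relIndex (Subgroup.normalizer (Q : Set G)) := by
      intro hd
      exact P.not_dvd_index (hd.trans (Subgroup.relIndex_dvd_index_of_le hPN))
    obtain ⟨u, hu, hconj⟩ := Cfsg.Agent.S0116.exists_rel_conj (Subgroup.normalizer (Q : Set G))
      (P : Subgroup G) (Subgroup.zpowers x) hPN hXN hXp hidx
    have h1 : u⁻¹ * x * u ∈ Subgroup.centralizer (Q : Set G) :=
      hPC (hconj x (Subgroup.mem_zpowers x))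
    have hxC : x ∈ Subgroup.centralizer (Q : Set G) := by
      rw [Subgroup.mem_centralizer_iff] at h1 ⊢
      intro q hq
      have hq' : u⁻¹ * q * u⁻¹⁻¹ ∈ Q := (Subgroup.mem_normalizer_iff.1 (Subgroup.inv_mem _ hu) q).1 hq
      have := h1 _ hq'
      have e1 : q * x = u * ((u⁻¹ * q * u⁻¹⁻¹) * (u⁻¹ * x * u)) * u⁻¹ := by group
      have e2 : x * q = u * ((u⁻¹ * x * u) * (u⁻¹ * q * u⁻¹⁻¹)) * u⁻¹ := by group
      rw [e1, e2, this]
    apply hQ1
    rw [← hcomm, Subgroup.commutator_eq_bot_iff_le_centralizer]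
    intro q hq
    rw [Subgroup.mem_centralizer_iff]
    intro y hy
    obtain ⟨i, rfl⟩ := Subgroup.mem_zpowers_iff.1 (show y ∈ Subgroup.zpowers x from hy)
    have hc : Commute q x := ((Subgroup.mem_centralizer_iff.1 hxC) q hq)
    exact ((hc.zpow_right i).eq).symm

/-- Let G be a finite p-solvable group and Q a subgroup of order prime to p such that p divides the index of C_G(Q) in N_G(Q). Then Q normalizes no Sylow p-subgroup of G. -/
theorem result {G : Type*} [Group G] [Finite G] {p : ℕ} [Fact p.Prime]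
    (hG : Cfsg.IsPSolvable p G) (Q : Subgroup G) (hQ : ¬ p ∣ Nat.card Q)
    (hA : p ∣ (Subgroup.centralizer (Q : Set G)).relIndex (Subgroup.normalizer (Q : Set G)))
    (P : Sylow p G) : ¬ Q ≤ Subgroup.normalizer ((P : Subgroup G) : Set G) := by
  intro hQP
  have hp : p.Prime := Fact.out
  obtain ⟨N, hNdef⟩ : ∃ N : Subgroup G, N = Subgroup.normalizer (Q : Set G) := ⟨_, rfl⟩
  obtain ⟨C, hCdef⟩ : ∃ C : Subgroup G, C = Subgroup.centralizer (Q : Set G) := ⟨_, rfl⟩
  rw [← hNdef, ← hCdef] at hA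
  have hCN : C ≤ N := by rw [hNdef, hCdef]; exact Subgroup.centralizer_le_normalizer _
  obtain ⟨R, hRN, -, hRp, hRidx⟩ := Cfsg.Agent.S0116.exists_rel_sylow (p := p) N ⊥ bot_le
    (IsPGroup.of_bot)
  have hRC : ¬ R ≤ C := by
    intro hRC
    apply hRidx
    rw [← Subgroup.relIndex_mul_relIndex R C N hRC hCN]
    exact hA.mul_left _
  obtain ⟨x, hxR, hxC⟩ := SetLike.not_le_iff_exists.1 hRC
  have hxp : ∃ k : ℕ, x ^ (p ^ k) = 1 := by
    obtain ⟨k, hk⟩ := hRp ⟨x, hxR⟩
    refine ⟨k, ?_⟩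
    have := congrArg Subtype.val hk
    simpa using this
  have hxN : x ∈ Subgroup.normalizer (Q : Set G) := by rw [← hNdef]; exact hRN hxR
  have hXN : Subgroup.zpowers x ≤ Subgroup.normalizer (Q : Set G) := by
    rw [Subgroup.zpowers_le]; exact hxN
  have hXp : IsPGroup p (Subgroup.zpowers x) := by
    obtain ⟨k, hk⟩ := hxp
    rintro ⟨y, hy⟩
    obtain ⟨i, rfl⟩ := Subgroup.mem_zpowers_iff.1 hy
    refine ⟨k, Subtype.ext ?_⟩
    show (x ^ i) ^ p ^ k = 1
    rw [← zpow_natCast, ← zpow_mul, mul_comm, zpow_mul, zpow_natCast, hk, one_zpow]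
  -- Q₀ = [Q, X]
  have hcop : (Nat.card (Subgroup.zpowers x)).Coprime (Nat.card Q) := by
    obtain ⟨k, hk⟩ := IsPGroup.iff_card.1 hXp
    rw [hk]
    apply Nat.Coprime.pow_left
    exact (Nat.Prime.coprime_iff_not_dvd hp).2 hQ
  have hsolv : Group.IsSolvable (Subgroup.zpowers x) ∨ Group.IsSolvable Q := by
    left
    infer_instance
  have h27 := Cfsg.Agent.S0027.result (Subgroup.zpowers x) Q hXN hcop hsolv
  have hQ0le : ⁅Q, Subgroup.zpowers x⁆ ≤ Q := commutator_le_of_le_normalizer _ Q hXN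
  have hQ0 : ⁅Q, Subgroup.zpowers x⁆ = ⊥ := by
    apply key p _ G rfl hG ⁅Q, Subgroup.zpowers x⁆ P x
    · intro hd
      exact hQ (hd.trans (Subgroup.card_dvd_of_le hQ0le))
    · exact hQ0le.trans hQP
    · exact hxp
    · exact le_normalizer_commutator_right _ Q hXN (Subgroup.mem_zpowers x)
    · exact h27
  apply hxC
  rw [hCdef, Subgroup.mem_centralizer_iff]
  intro q hq
  have h1 : Q ≤ Subgroup.centralizer (Subgroup.zpowers x : Set G) :=
    Subgroup.commutator_eq_bot_iff_le_centralizer.1 hQ0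
  exact ((Subgroup.mem_centralizer_iff.1 (h1 hq)) x (Subgroup.mem_zpowers x)).symm

end Cfsg.Agent.S1901
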