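import Cfsg.Statements.S1460
import Cfsg.Agent.Lib.Helper4.CoprimeAct
import Cfsg.Agent.S1901

set_option autoImplicit false
open Cfsg

namespace Cfsg.Agent.S1460


open Cfsg.Agent.Lib.Helper4
open scoped commutatorElement

/-- powers of `u * k` modulo a subgroup normalized by `k` -/
theorem pow_mul_mem {G : Type*} [Group G] (N : Subgroup G) (u k : G) (hu : u ∈ N)
    (hk : k ∈ Subgroup.normalizer (N : Set G)) (j : ℕ) : ∃ v ∈ N, (u * k) ^ j = v * k ^ j := by
  induction j with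
  | zero => exact ⟨1, N.one_mem, by simp⟩
  | succ j ih =>
    obtain ⟨v, hv, hvj⟩ := ih
    have hkj : k ^ j ∈ Subgroup.normalizer (N : Set G) := Subgroup.pow_mem _ hk j
    refine ⟨v * (k ^ j * u * (k ^ j)⁻¹), N.mul_mem hv ((Subgroup.mem_normalizer_iff.1 hkj u).1 hu), ?_⟩
    rw [pow_succ, hvj, pow_succ]; group

/-- if `x ^ n ∈ N` with `n` coprime to the order of `x`, then `x ∈ N`. -/
theorem mem_of_pow_mem_of_coprime {G : Type*} [Group G] (N : Subgroup G) (x : G) (n : ℕ)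
    (hx : x ^ n ∈ N) (hcop : (orderOf x).Coprime n) : x ∈ N := by
  by_cases h1 : orderOf x = 1
  · rw [orderOf_eq_one_iff.1 h1]; exact N.one_mem
  by_cases h0 : orderOf x = 0
  · rw [h0, Nat.coprime_zero_left] at hcop
    rw [hcop, pow_one] at hx; exact hx
  have hk : 1 < orderOf x := by omega
  obtain ⟨m, -, hm⟩ := Nat.exists_mul_mod_eq_one_of_coprime hcop.symm hk
  have h2 : (x ^ n) ^ m = x := by
    rw [← pow_mul, ← pow_mod_orderOf, hm, pow_one]
  rw [← h2]; exact N.pow_mem hx m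

/-- Let G be a finite solvable group, K a normal subgroup and U a subgroup with G = KU, and H ≤ U a subgroup whose order is coprime to that of K. Then H ∩ G' = H ∩ U'; N_G(H) is generated by K ∩ C_G(H) and U ∩ N_G(H); and if gHg⁻¹ ≤ U for some g ∈ G then g = u c with u ∈ U and c ∈ K ∩ C_G(H). -/
theorem result {G : Type*} [Group G] [Finite G] [Group.IsSolvable G] (K U H : Subgroup G) [K.Normal] (hKU : K ⊔ U = ⊤) (hH : H ≤ U) (hcop : (Nat.card H).Coprime (Nat.card K)) :
    H ⊓ commutator G = H ⊓ ⁅U, U⁆ ∧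
      Subgroup.normalizer (H : Set G) = (K ⊓ Subgroup.centralizer (H : Set G)) ⊔ (U ⊓ Subgroup.normalizer (H : Set G)) ∧
      ∀ g : G, H.map (MulAut.conj g).toMonoidHom ≤ U → ∃ u ∈ U, ∃ c ∈ K ⊓ Subgroup.centralizer (H : Set G), g = u * c := by
  have hKn : K.Normal := inferInstance
  have hUK : U ≤ Subgroup.normalizer (K : Set G) := by
    rw [Subgroup.normalizer_eq_top_iff.2 hKn]; exact le_top
  -- part (c)
  have hc : ∀ g : G, H.map (MulAut.conj g).toMonoidHom ≤ U →
      ∃ u ∈ U, ∃ c ∈ K ⊓ Subgroup.centralizer (H : Set G), g = u * c := by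
    intro g hg
    have hgtop : g ∈ U ⊔ K := by rw [sup_comm, hKU]; trivial
    obtain ⟨u, hu, k, hk, rfl⟩ :=
      Cfsg.Agent.Lib.Helper2.exists_mul_of_mem_sup_of_le_normalizer hUK hgtop
    -- k H k⁻¹ ≤ U
    have hkH : ∀ h ∈ H, k * h * k⁻¹ ∈ U := by
      intro h hh
      have h1 : (MulAut.conj (u * k)).toMonoidHom h ∈ U := hg ⟨h, hh, rfl⟩
      have h2 : (MulAut.conj (u * k)).toMonoidHom h = u * (k * h * k⁻¹) * u⁻¹ := by
        simp only [MulEquiv.coe_toMonoidHom, MulAut.conj_apply]; group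
      rw [h2] at h1
      have := U.mul_mem (U.mul_mem (U.inv_mem hu) h1) hu
      have e : u⁻¹ * (u * (k * h * k⁻¹) * u⁻¹) * u = k * h * k⁻¹ := by group
      rw [e] at this; exact this
    obtain ⟨W, hW⟩ : ∃ W : Subgroup G, W = K ⊓ U := ⟨_, rfl⟩
    have hHW : H ≤ Subgroup.normalizer (W : Set G) := by
      intro h hh
      rw [Subgroup.mem_normalizer_iff]
      intro w
      rw [hW]
      constructor
      · rintro ⟨h1, h2⟩
        exact ⟨hKn.conj_mem w h1 h, U.mul_mem (U.mul_mem (hH hh) h2) (U.inv_mem (hH hh))⟩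
      · rintro ⟨h1, h2⟩
        have e : w = h⁻¹ * (h * w * h⁻¹) * h⁻¹⁻¹ := by group
        rw [e]
        exact ⟨hKn.conj_mem _ h1 h⁻¹,
          U.mul_mem (U.mul_mem (U.inv_mem (hH hh)) h2) (U.inv_mem (U.inv_mem (hH hh)))⟩
    have hcopW : (Nat.card H).Coprime (Nat.card W) := by
      apply Nat.Coprime.coprime_dvd_right _ hcop
      rw [hW]; exact Subgroup.card_dvd_of_le inf_le_left
    have hB : cj k H ≤ W ⊔ H := by
      intro x hx
      rw [mem_cj_iff] at hx
      have e : x = (k * (k⁻¹ * x * k) * k⁻¹ * (k⁻¹ * x * k)⁻¹) * (k⁻¹ * x * k) := by group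
      rw [e]
      apply Subgroup.mul_mem _ (Subgroup.mem_sup_left _) (Subgroup.mem_sup_right hx)
      rw [hW]
      constructor
      · have e2 : k * (k⁻¹ * x * k) * k⁻¹ * (k⁻¹ * x * k)⁻¹
            = k * ((k⁻¹ * x * k) * k⁻¹ * (k⁻¹ * x * k)⁻¹) := by group
        rw [e2]
        exact K.mul_mem hk (hKn.conj_mem _ (K.inv_mem hk) _)
      · exact U.mul_mem (hkH _ hx) (U.inv_mem (hH hx))
    haveI : Group.IsSolvable H := inferInstance
    obtain ⟨w, hw, hwH⟩ := sz_act_conj H W hHW hcopW (Or.inl inferInstance) (cj k H) hB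
      (card_cj' k H)
    -- c = w⁻¹ k normalizes H and lies in K
    have hwK : w ∈ K := by rw [hW] at hw; exact hw.1
    have hwU : w ∈ U := by rw [hW] at hw; exact hw.2
    have hcN : cj (w⁻¹ * k) H = H := by
      rw [cj_mul, ← hwH, ← cj_mul, inv_mul_cancel, cj_one]
    have hcK : w⁻¹ * k ∈ K := K.mul_mem (K.inv_mem hwK) hk
    have hcC : w⁻¹ * k ∈ Subgroup.centralizer (H : Set G) := by
      rw [Subgroup.mem_centralizer_iff]
      intro h hh
      have h1 : (w⁻¹ * k) * h * (w⁻¹ * k)⁻¹ ∈ H := by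
        rw [← hcN, mem_cj_iff]
        have e : (w⁻¹ * k)⁻¹ * ((w⁻¹ * k) * h * (w⁻¹ * k)⁻¹) * (w⁻¹ * k) = h := by group
        rw [e]; exact hh
      have h2 : (w⁻¹ * k) * h * (w⁻¹ * k)⁻¹ * h⁻¹ ∈ H := H.mul_mem h1 (H.inv_mem hh)
      have h3 : (w⁻¹ * k) * h * (w⁻¹ * k)⁻¹ * h⁻¹ ∈ K := by
        have e : (w⁻¹ * k) * h * (w⁻¹ * k)⁻¹ * h⁻¹ = (w⁻¹ * k) * (h * (w⁻¹ * k)⁻¹ * h⁻¹) := by group
        rw [e]
        exact K.mul_mem hcK (hKn.conj_mem _ (K.inv_mem hcK) h)
      have h4 : (w⁻¹ * k) * h * (w⁻¹ * k)⁻¹ * h⁻¹ = 1 := by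
        have hdisj := Subgroup.disjoint_of_coprime_natCard hcop
        exact Subgroup.disjoint_def.1 hdisj h2 h3
      have e : (w⁻¹ * k) * h = ((w⁻¹ * k) * h * (w⁻¹ * k)⁻¹ * h⁻¹) * (h * (w⁻¹ * k)) := by group
      rw [e, h4, one_mul]
    exact ⟨u * w, U.mul_mem hu hwU, w⁻¹ * k, ⟨hcK, hcC⟩, by group⟩
  refine ⟨?_, ?_, hc⟩
  · -- part (a)
    apply le_antisymm
    · rintro x ⟨hxH, hxG⟩
      refine ⟨hxH, ?_⟩
      -- commutator G ≤ ⁅U,U⁆ ⊔ K
      have hle : commutator G ≤ ⁅U, U⁆ ⊔ K := by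
        rw [commutator_def, Subgroup.commutator_le]
        intro a _ b _
        have ha : a ∈ U ⊔ K := by rw [sup_comm, hKU]; trivial
        have hb : b ∈ U ⊔ K := by rw [sup_comm, hKU]; trivial
        obtain ⟨u₁, hu₁, k₁, hk₁, rfl⟩ :=
          Cfsg.Agent.Lib.Helper2.exists_mul_of_mem_sup_of_le_normalizer hUK ha
        obtain ⟨u₂, hu₂, k₂, hk₂, rfl⟩ :=
          Cfsg.Agent.Lib.Helper2.exists_mul_of_mem_sup_of_le_normalizer hUK hb
        have h1 : (⁅u₁, u₂⁆)⁻¹ * ⁅u₁ * k₁, u₂ * k₂⁆ ∈ K := by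
          rw [← QuotientGroup.eq (s := K)]
          have e1 : ((u₁ * k₁ : G) : G ⧸ K) = (u₁ : G ⧸ K) := by
            rw [QuotientGroup.eq]; simpa using hk₁
          have e2 : ((u₂ * k₂ : G) : G ⧸ K) = (u₂ : G ⧸ K) := by
            rw [QuotientGroup.eq]; simpa using hk₂
          rw [commutatorElement_def, commutatorElement_def]
          have e3 : (((u₁ * k₁) * (u₂ * k₂) * (u₁ * k₁)⁻¹ * (u₂ * k₂)⁻¹ : G) : G ⧸ K)
              = ((u₁ * k₁ : G) : G ⧸ K) * ((u₂ * k₂ : G) : G ⧸ K) * ((u₁ * k₁ : G) : G ⧸ K)⁻¹ *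
                ((u₂ * k₂ : G) : G ⧸ K)⁻¹ := by
            simp only [QuotientGroup.mk_mul, QuotientGroup.mk_inv]
          rw [e3, e1, e2]
          simp only [QuotientGroup.mk_mul, QuotientGroup.mk_inv]
        have e : ⁅u₁ * k₁, u₂ * k₂⁆ = ⁅u₁, u₂⁆ * ((⁅u₁, u₂⁆)⁻¹ * ⁅u₁ * k₁, u₂ * k₂⁆) := by group
        rw [e]
        exact Subgroup.mul_mem _
          (Subgroup.mem_sup_left (Subgroup.commutator_mem_commutator hu₁ hu₂))
          (Subgroup.mem_sup_right h1)
      have hUU : ⁅U, U⁆ ≤ U := commutator_le_of_le_normalizer U U Subgroup.le_normalizer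
      have hU'K : ⁅U, U⁆ ≤ Subgroup.normalizer (K : Set G) := hUU.trans hUK
      obtain ⟨u', hu', k, hk, hxuk⟩ :=
        Cfsg.Agent.Lib.Helper2.exists_mul_of_mem_sup_of_le_normalizer hU'K (hle hxG)
      have hkU : k ∈ U := by
        have e : k = u'⁻¹ * x := by rw [hxuk]; group
        rw [e]; exact U.mul_mem (U.inv_mem (hUU hu')) (hH hxH)
      have hkN : k ∈ Subgroup.normalizer ((⁅U, U⁆ : Subgroup G) : Set G) := by
        have : U ≤ Subgroup.normalizer ((⁅U, U⁆ : Subgroup G) : Set G) :=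
          le_normalizer_commutator_right U U Subgroup.le_normalizer
        exact this hkU
      obtain ⟨v, hv, hpow⟩ := pow_mul_mem ⁅U, U⁆ u' k hu' hkN (Nat.card K)
      have hkK : k ^ Nat.card K = 1 := by
        have := pow_card_eq_one' (G := K) (x := ⟨k, hk⟩)
        have h2 := congrArg Subtype.val this
        rw [Subgroup.coe_pow, Subgroup.coe_one] at h2
        exact h2
      have hxn : x ^ Nat.card K ∈ ⁅U, U⁆ := by
        rw [hxuk, hpow, hkK, mul_one]; exact hv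
      apply mem_of_pow_mem_of_coprime _ x (Nat.card K) hxn
      exact Nat.Coprime.coprime_dvd_left (Subgroup.orderOf_dvd_natCard H hxH) hcop
    · apply inf_le_inf_left
      rw [commutator_def]
      exact Subgroup.commutator_mono le_top le_top
  · -- part (b)
    apply le_antisymm
    · intro g hg
      have hgH : H.map (MulAut.conj g).toMonoidHom ≤ U := by
        have : cj g H = H := Subgroup.mem_normalizer_iff_map_conj_eq.1 hg
        rw [← cj_def, this]; exact hH
      obtain ⟨u, hu, c, hc', rfl⟩ := hc g hgH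
      have hcN : c ∈ Subgroup.normalizer (H : Set G) :=
        Subgroup.centralizer_le_normalizer _ hc'.2
      have huN : u ∈ Subgroup.normalizer (H : Set G) := by
        have := Subgroup.mul_mem _ hg (Subgroup.inv_mem _ hcN)
        have e : u * c * c⁻¹ = u := by group
        rw [e] at this; exact this
      exact Subgroup.mul_mem _ (Subgroup.mem_sup_right ⟨hu, huN⟩) (Subgroup.mem_sup_left hc')
    · apply sup_le
      · exact inf_le_right.trans (Subgroup.centralizer_le_normalizer _)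
      · exact inf_le_right

end Cfsg.Agent.S1460
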