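import Cfsg.Statements.S1461
import Cfsg.Agent.S1460
import Cfsg.Agent.S0635
import Cfsg.Agent.S0116
import Cfsg.Agent.Lib.Helper1.Fitting
import Cfsg.Agent.Lib.Helper9.Basic
import Cfsg.Agent.Lib.Helper4.Hall

set_option autoImplicit false
open Cfsg

namespace Cfsg.Agent.S1461


open Cfsg.Agent.Lib.Helper4

/-- what `p`-length at most one gives: a normal `p'`-subgroup `K` and a normal subgroup `T ≥ K`
of index prime to `p` with `T ≤ S K` for every Sylow `p`-subgroup `S`. -/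
theorem exists_series {G : Type*} [Group G] [Finite G] (p : ℕ) [Fact p.Prime]
    (hpl : Cfsg.PLengthLE p 1 G) :
    ∃ K T : Subgroup G, K.Normal ∧ T.Normal ∧ (Nat.card K).Coprime p ∧
      (∀ x ∈ T, ∀ S : Sylow p G, ∃ s ∈ (S : Subgroup G), s⁻¹ * x ∈ K) ∧ ¬ p ∣ T.index := by
  have hp : p.Prime := Fact.out
  refine ⟨(Cfsg.upperPSeries p G 1).1, (Cfsg.upperPSeries p G 2).1, inferInstance, inferInstance,
    ?_, ?_, ?_⟩
  · have h1 : (Cfsg.upperPSeries p G 1).1 =
        (Cfsg.pPrimeCore p (G ⧸ (Cfsg.upperPSeries p G 0).1)).comap (QuotientGroup.mk' _) :=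
      Cfsg.Agent.S0634.upper_odd p 0
    rw [h1, card_comap_mk_quot]
    have h2 : Nat.card ↥((Cfsg.upperPSeries p G 0).1) = 1 := by
      show Nat.card ↥(⊥ : Subgroup G) = 1
      exact Subgroup.card_bot
    rw [h2, mul_one]
    exact Cfsg.Agent.Lib.Helper1.pPrimeCore_coprime p
  · intro x hx S
    have h1 : (Cfsg.upperPSeries p G 2).1 =
        (Cfsg.pCore p (G ⧸ (Cfsg.upperPSeries p G 1).1)).comap (QuotientGroup.mk' _) :=
      Cfsg.Agent.S0634.upper_even p 0
    rw [h1] at hx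
    have hx' : QuotientGroup.mk' (Cfsg.upperPSeries p G 1).1 x ∈
        Cfsg.pCore p (G ⧸ (Cfsg.upperPSeries p G 1).1) := hx
    have h2 := Cfsg.Agent.Lib.Helper9.pCore_le_sylow'
      (S.mapSurjective (QuotientGroup.mk'_surjective (Cfsg.upperPSeries p G 1).1)) hx'
    have h2' : QuotientGroup.mk' (Cfsg.upperPSeries p G 1).1 x ∈
        (S : Subgroup G).map (QuotientGroup.mk' (Cfsg.upperPSeries p G 1).1) := by
      rw [← Sylow.coe_mapSurjective]; exact h2
    obtain ⟨s, hs, hseq⟩ := h2'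
    refine ⟨s, hs, ?_⟩
    rw [← QuotientGroup.ker_mk' (Cfsg.upperPSeries p G 1).1, MonoidHom.mem_ker, map_mul, map_inv,
      hseq, inv_mul_cancel]
  · have h1 : (Cfsg.upperPSeries p G 3).1 =
        (Cfsg.pPrimeCore p (G ⧸ (Cfsg.upperPSeries p G 2).1)).comap (QuotientGroup.mk' _) :=
      Cfsg.Agent.S0634.upper_odd p 1
    have h3 : (Cfsg.upperPSeries p G 3).1 = ⊤ := hpl
    rw [h1] at h3
    have h4 : Cfsg.pPrimeCore p (G ⧸ (Cfsg.upperPSeries p G 2).1) = ⊤ := by
      rw [eq_top_iff]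
      intro y _
      obtain ⟨g, rfl⟩ := QuotientGroup.mk'_surjective _ y
      have : g ∈ (Cfsg.pPrimeCore p (G ⧸ (Cfsg.upperPSeries p G 2).1)).comap
          (QuotientGroup.mk' _) := by rw [h3]; trivial
      exact this
    have h5 := Cfsg.Agent.Lib.Helper1.pPrimeCore_coprime (G := G ⧸ (Cfsg.upperPSeries p G 2).1) p
    rw [h4, Subgroup.card_top, ← Subgroup.index_eq_card] at h5
    intro hd
    exact hp.ne_one (Nat.Coprime.eq_one_of_dvd h5.symm hd)

/-- Let G be a finite solvable group, p a prime with G = O_{p',p,p'}(G), and S a Sylow p-subgroup. Then: if S ≤ G' then S ≤ [N_G(S), N_G(S)]; if Y ⊆ S and xYx⁻¹ ⊆ S then x = g c for some g ∈ N_G(S) and c centralizing Y; and for every p-subgroup Q there is x ∈ C_G(Q ∩ S) with xQx⁻¹ ≤ S. -/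
theorem result {G : Type*} [Group G] [Finite G] [Group.IsSolvable G] (p : ℕ) [Fact p.Prime] (hpl : Cfsg.PLengthLE p 1 G) (S : Sylow p G) :
    ((S : Subgroup G) ≤ commutator G → (S : Subgroup G) ≤ ⁅Subgroup.normalizer ((S : Subgroup G) : Set G), Subgroup.normalizer ((S : Subgroup G) : Set G)⁆) ∧
      (∀ (Y : Set G) (x : G), Y ⊆ (S : Subgroup G) → (fun y => x * y * x⁻¹) '' Y ⊆ (S : Subgroup G) →
        ∃ g ∈ Subgroup.normalizer ((S : Subgroup G) : Set G), ∃ c ∈ Subgroup.centralizer Y, g * c = x) ∧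
      ∀ Q : Subgroup G, IsPGroup p Q → ∃ x ∈ Subgroup.centralizer ((Q ⊓ (S : Subgroup G) : Subgroup G) : Set G), Q.map (MulAut.conj x).toMonoidHom ≤ (S : Subgroup G) := by
  have hp : p.Prime := Fact.out
  obtain ⟨K, T, hKn, hTn, hKcop, hT, hTidx⟩ := exists_series p hpl
  haveI := hKn
  -- S ≤ T
  have hST : (S : Subgroup G) ≤ T := by
    intro s hs
    obtain ⟨k, hk⟩ := (IsPGroup.iff_orderOf.1 S.isPGroup') ⟨s, hs⟩
    rw [Subgroup.orderOf_mk] at hk
    have h1 : orderOf ((s : G) : G ⧸ T) ∣ p ^ k := by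
      rw [← hk]; exact orderOf_map_dvd (QuotientGroup.mk' T) s
    have h2 : orderOf ((s : G) : G ⧸ T) ∣ T.index := by
      rw [Subgroup.index_eq_card]; exact orderOf_dvd_natCard _
    have hcop : (p ^ k).Coprime T.index :=
      Nat.Coprime.pow_left k ((Nat.Prime.coprime_iff_not_dvd hp).2 hTidx)
    have h3 : orderOf ((s : G) : G ⧸ T) = 1 := Nat.eq_one_of_dvd_coprimes hcop h1 h2
    rw [orderOf_eq_one_iff, QuotientGroup.eq_one_iff] at h3
    exact h3
  have hidx : ¬ p ∣ (S : Subgroup G).relIndex T := fun hd =>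
    S.not_dvd_index (hd.trans (Subgroup.relIndex_dvd_index_of_le hST))
  obtain ⟨U, hU⟩ : ∃ U : Subgroup G, U = Subgroup.normalizer ((S : Subgroup G) : Set G) := ⟨_, rfl⟩
  rw [← hU]
  -- Frattini
  have hfrat : ∀ g : G, ∃ k ∈ K, ∃ n ∈ U, g = k * n := by
    intro g
    have hXT : cj g (S : Subgroup G) ≤ T := by
      intro x hx
      rw [mem_cj_iff] at hx
      have e : x = g * (g⁻¹ * x * g) * g⁻¹ := by group
      rw [e]
      exact hTn.conj_mem _ (hST hx) g
    obtain ⟨u, huT, hu⟩ := Cfsg.Agent.S0116.exists_rel_conj T (S : Subgroup G) (cj g (S : Subgroup G))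
      hST hXT (cj_isPGroup p g S.isPGroup') hidx
    have hle : cj (u⁻¹ * g) (S : Subgroup G) ≤ S := by
      intro x hx
      rw [mem_cj_iff] at hx
      have hx' : u * x * u⁻¹ ∈ cj g (S : Subgroup G) := by
        rw [mem_cj_iff]
        have e : g⁻¹ * (u * x * u⁻¹) * g = (u⁻¹ * g)⁻¹ * x * (u⁻¹ * g) := by group
        rw [e]; exact hx
      have := hu _ hx'
      have e : u⁻¹ * (u * x * u⁻¹) * u = x := by group
      rw [e] at this
      exact this
    have heq : cj (u⁻¹ * g) (S : Subgroup G) = S :=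
      Subgroup.eq_of_le_of_card_ge hle (by rw [card_cj'])
    have hn : u⁻¹ * g ∈ U := by rw [hU]; exact mem_normalizer_of_cj_eq heq
    obtain ⟨s, hs, hsk⟩ := hT u huT S
    have hsU : s ∈ U := by rw [hU]; exact Subgroup.le_normalizer hs
    refine ⟨s * (s⁻¹ * u) * s⁻¹, hKn.conj_mem _ hsk s, s * (u⁻¹ * g), U.mul_mem hsU hn, by group⟩
  have hKU : K ⊔ U = ⊤ := by
    rw [eq_top_iff]
    intro g _
    obtain ⟨k, hk, n, hn, rfl⟩ := hfrat g
    exact Subgroup.mul_mem _ (Subgroup.mem_sup_left hk) (Subgroup.mem_sup_right hn)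
  have hSU : (S : Subgroup G) ≤ U := by rw [hU]; exact Subgroup.le_normalizer
  have hcopH : ∀ H : Subgroup G, H ≤ (S : Subgroup G) → (Nat.card H).Coprime (Nat.card K) := by
    intro H hH
    obtain ⟨k, hk⟩ := IsPGroup.iff_card.1 (S.isPGroup'.to_le hH)
    rw [hk]
    exact Nat.Coprime.pow_left k hKcop.symm
  refine ⟨?_, ?_, ?_⟩
  · intro hSG
    have h1 := (Cfsg.Agent.S1460.result K U (S : Subgroup G) hKU hSU (hcopH _ le_rfl)).1
    have h2 : (S : Subgroup G) ⊓ commutator G = S := inf_eq_left.2 hSG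
    rw [h2] at h1
    rw [h1]; exact inf_le_right
  · intro Y x hY hxY
    have hH : Subgroup.closure Y ≤ (S : Subgroup G) := (Subgroup.closure_le _).2 hY
    have hconj : (Subgroup.closure Y).map (MulAut.conj x).toMonoidHom ≤ U := by
      rw [MonoidHom.map_closure, Subgroup.closure_le]
      rintro _ ⟨y, hy, rfl⟩
      exact hSU (hxY ⟨y, hy, rfl⟩)
    obtain ⟨u, hu, c, hc, hxuc⟩ :=
      (Cfsg.Agent.S1460.result K U (Subgroup.closure Y) hKU (hH.trans hSU) (hcopH _ hH)).2.2 x hconj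
    refine ⟨u, hu, c, ?_, hxuc.symm⟩
    exact Subgroup.centralizer_le Subgroup.subset_closure hc.2
  · intro Q hQ
    obtain ⟨S', hQS'⟩ := hQ.exists_le_sylow
    obtain ⟨g, rfl⟩ := MulAction.exists_smul_eq G S S'
    obtain ⟨k, hk, n, hn, rfl⟩ := hfrat g
    have hnN : n ∈ Subgroup.normalizer ((S : Subgroup G) : Set G) := by rw [← hU]; exact hn
    have hQk : ∀ q ∈ Q, k⁻¹ * q * k ∈ (S : Subgroup G) := by
      intro q hq
      have h1 := hQS' hq
      rw [sylow_smul_eq_cj, mem_cj_iff] at h1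
      have h2 := (Subgroup.mem_normalizer_iff.1 hnN _).1 h1
      have e : n * ((k * n)⁻¹ * q * (k * n)) * n⁻¹ = k⁻¹ * q * k := by group
      rw [e] at h2; exact h2
    have hRS : Q ⊓ (S : Subgroup G) ≤ (S : Subgroup G) := inf_le_right
    have hconj : (Q ⊓ (S : Subgroup G)).map (MulAut.conj k⁻¹).toMonoidHom ≤ U := by
      rintro _ ⟨r, hr, rfl⟩
      apply hSU
      have := hQk r hr.1
      simpa [MulAut.conj_apply] using this
    obtain ⟨u, hu, c, hc, hkuc⟩ :=
      (Cfsg.Agent.S1460.result K U (Q ⊓ (S : Subgroup G)) hKU (hRS.trans hSU) (hcopH _ hRS)).2.2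
        k⁻¹ hconj
    refine ⟨c, hc.2, ?_⟩
    rintro _ ⟨q, hq, rfl⟩
    have huN : u ∈ Subgroup.normalizer ((S : Subgroup G) : Set G) := by rw [← hU]; exact hu
    have h1 := (Subgroup.mem_normalizer_iff.1 (Subgroup.inv_mem _ huN) _).1 (hQk q hq)
    have e : u⁻¹ * (k⁻¹ * q * k) * u⁻¹⁻¹ = (MulAut.conj c).toMonoidHom q := by
      have hc' : c = u⁻¹ * k⁻¹ := by rw [hkuc]; group
      simp only [MulEquiv.coe_toMonoidHom, MulAut.conj_apply]
      rw [hc']; group
    rw [e] at h1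
    exact h1

end Cfsg.Agent.S1461
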