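import Mathlib
import Cfsg.Statements.S1462
import Cfsg.Agent.S1302
import Cfsg.Agent.Lib.Helper3.PConstr4

set_option autoImplicit false
open Cfsg
open Cfsg.Agent.Lib.Helper3

namespace Cfsg.Agent.S1462

/-- adjoining a centralizing element of order `p` to an elementary abelian `p`-group -/
lemma elemAb_sup {G : Type*} [Group G] (p : ℕ) (E : Subgroup G)
    (hE : Cfsg.IsElementaryAbelian p E) (x : G) (hx : x ∈ Subgroup.centralizer (E : Set G))
    (hxp : x ^ p = 1) : Cfsg.IsElementaryAbelian p (E ⊔ Subgroup.zpowers x) := by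
  have hEc : E ≤ Subgroup.centralizer (E : Set G) :=
    Subgroup.le_centralizer_iff_isMulCommutative.mpr hE.1
  set B := E ⊔ Subgroup.zpowers x with hB
  have hxE : ∀ e ∈ E, e * x = x * e := fun e he => Subgroup.mem_centralizer_iff.mp hx e he
  have h1 : E ≤ Subgroup.centralizer (B : Set G) := by
    rw [Subgroup.le_centralizer_iff, hB]
    apply sup_le hEc
    rw [Subgroup.zpowers_le]
    rw [Subgroup.mem_centralizer_iff]
    intro e he
    exact hxE e he
  have h2 : Subgroup.zpowers x ≤ Subgroup.centralizer (B : Set G) := by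
    rw [Subgroup.le_centralizer_iff, hB]
    apply sup_le
    · intro e he
      rw [Subgroup.mem_centralizer_iff]
      intro y hy
      obtain ⟨k, rfl⟩ := Subgroup.mem_zpowers_iff.mp hy
      exact ((Commute.zpow_left (show Commute x e from (hxE e he).symm) k).eq)
    · intro y hy
      rw [Subgroup.mem_centralizer_iff]
      intro z hz
      obtain ⟨k, rfl⟩ := Subgroup.mem_zpowers_iff.mp hy
      obtain ⟨l, rfl⟩ := Subgroup.mem_zpowers_iff.mp hz
      exact ((Commute.refl x).zpow_zpow l k).eq
  have hBc : IsMulCommutative ↥B :=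
    Subgroup.le_centralizer_iff_isMulCommutative.mp (sup_le h1 h2)
  refine ⟨hBc, ?_⟩
  let _ : CommGroup ↥B := { (inferInstance : Group ↥B) with mul_comm := hBc.is_comm.comm }
  set S : Subgroup G := ((powMonoidHom p : ↥B →* ↥B).ker).map B.subtype with hS
  have hES : E ≤ S := by
    intro e he
    refine ⟨⟨e, (le_sup_left : E ≤ B) he⟩, ?_, rfl⟩
    show (⟨e, _⟩ : ↥B) ^ p = 1
    apply Subtype.ext
    exact hE.2 e he
  have hxS : Subgroup.zpowers x ≤ S := by
    rw [Subgroup.zpowers_le]
    refine ⟨⟨x, (le_sup_right : Subgroup.zpowers x ≤ B) (Subgroup.mem_zpowers x)⟩, ?_, rfl⟩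
    show (⟨x, _⟩ : ↥B) ^ p = 1
    apply Subtype.ext
    exact hxp
  intro b hb
  obtain ⟨⟨b', hb'⟩, hker, rfl⟩ := (sup_le hES hxS) hb
  have : (⟨b', hb'⟩ : ↥B) ^ p = 1 := hker
  exact congrArg Subtype.val this

/-- Let G be a finite solvable group, p an odd prime with G = O_{p',p,p'}(G), E an elementary abelian p-subgroup contained in no larger elementary abelian p-subgroup of G, and L a subgroup of order coprime to p normalized by E. Then L ≤ O_{p'}(G). -/
theorem result {G : Type*} [Group G] [Finite G] [Group.IsSolvable G] (p : ℕ) [Fact p.Prime] (hp : p ≠ 2) (hpl : Cfsg.PLengthLE p 1 G) (E L : Subgroup G) (hE : Cfsg.IsElementaryAbelian p E)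
    (hEmax : ∀ B : Subgroup G, Cfsg.IsElementaryAbelian p B → E ≤ B → B = E) (hL : (Nat.card L).Coprime p) (hEL : E ≤ Subgroup.normalizer (L : Set G)) :
    L ≤ Cfsg.pPrimeCore p G := by
  have hpp : p.Prime := Fact.out
  have hX : Cfsg.IsPConstrained p G := isPConstrained_of_solvable p inferInstance
  have hEp : IsPGroup p ↥E := by
    intro e
    refine ⟨1, ?_⟩
    apply Subtype.ext
    simpa using hE.2 e e.2
  apply Cfsg.Agent.S1302.result p hp hX E hE.1 hEp _ L _ hEL
  · intro x hx hxo
    have hxp : x ^ p = 1 := by rw [← hxo]; exact pow_orderOf_eq_one x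
    have h1 := hEmax _ (elemAb_sup p E hE x hx hxp) le_sup_left
    rw [← h1]
    exact (le_sup_right : Subgroup.zpowers x ≤ _) (Subgroup.mem_zpowers x)
  · intro h
    have := Nat.Coprime.eq_one_of_dvd hL.symm h
    exact hpp.one_lt.ne' this

end Cfsg.Agent.S1462
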