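import Cfsg.Statements.S1464
import Cfsg.Agent.Lib.Helper4.QuadPairA
import Cfsg.Agent.Lib.Helper3.SolvPSolv

set_option autoImplicit false
open Cfsg

namespace Cfsg.Agent.S1464

/-- Let p be an odd prime and G a solvable group of odd order, P a p-subgroup with O_{p'}(G)P normal in G, and A a p-subgroup of N_G(P) with [[P, A], A] = 1. Then the image of A in the quotient N_G(P)/C_G(P) is contained in the p-core of that quotient. -/
theorem result {G : Type*} [Group G] [Finite G] [Group.IsSolvable G] (hodd : Odd (Nat.card G)) (p : ℕ) [Fact p.Prime] (hp : p ≠ 2) (P A : Subgroup G) (hP : IsPGroup p P) (hPn : (Cfsg.pPrimeCore p G ⊔ P).Normal)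
    (hA : IsPGroup p A) (hAN : A ≤ Subgroup.normalizer (P : Set G)) (hquad : ⁅⁅P, A⁆, A⁆ = ⊥) :
    (A.subgroupOf (Subgroup.normalizer (P : Set G))).map
        (QuotientGroup.mk' ((Subgroup.centralizer (P : Set G)).subgroupOf (Subgroup.normalizer (P : Set G))))
      ≤ Cfsg.pCore p _ := by
  classical
  have hsolN : Cfsg.IsPSolvable p ↥(Subgroup.normalizer (P : Set G)) :=
    Cfsg.Agent.Lib.Helper3.isPSolvable_of_isSolvable p _ _ rfl inferInstance
  have hno : ¬ (p = 3 ∧ Cfsg.Involves (Matrix.SpecialLinearGroup (Fin 2) (ZMod 3))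
      ↥(Subgroup.normalizer (P : Set G))) := by
    rintro ⟨-, K, R, hn, ⟨e⟩⟩
    have hne : (-1 : Matrix.SpecialLinearGroup (Fin 2) (ZMod 3)) ≠ 1 := by decide
    have hsq : (-1 : Matrix.SpecialLinearGroup (Fin 2) (ZMod 3)) ^ 2 = 1 := by
      rw [neg_one_sq]
    haveI : Fact (Nat.Prime 2) := ⟨Nat.prime_two⟩
    have hord : orderOf (-1 : Matrix.SpecialLinearGroup (Fin 2) (ZMod 3)) = 2 :=
      orderOf_eq_prime hsq hne
    have h1 : 2 ∣ Nat.card (Matrix.SpecialLinearGroup (Fin 2) (ZMod 3)) := by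
      have := orderOf_dvd_natCard (-1 : Matrix.SpecialLinearGroup (Fin 2) (ZMod 3))
      rwa [hord] at this
    rw [← Nat.card_congr e.toEquiv] at h1
    have h2 : 2 ∣ Nat.card G :=
      ((h1.trans (Subgroup.card_quotient_dvd_card (R.subgroupOf K))).trans
        (Subgroup.card_subgroup_dvd_card K)).trans
          (Subgroup.card_subgroup_dvd_card (Subgroup.normalizer (P : Set G)))
    exact (Nat.not_even_iff_odd.2 hodd) (even_iff_two_dvd.2 h2)
  exact Cfsg.Agent.Lib.Helper4.qp_gstable p hp P A (Subgroup.normalizer (P : Set G)) hP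
    Subgroup.le_normalizer hquad hsolN hno

end Cfsg.Agent.S1464
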