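import Cfsg.Statements.S1465
import Cfsg.Agent.Lib.Helper4.PStabNormal
import Cfsg.Agent.Lib.Helper4.HH123
import Cfsg.Agent.Lib.Helper3.SolvPSolv

set_option autoImplicit false
open Cfsg

namespace Cfsg.Agent.S1465

/-- Let p be an odd prime, G a solvable group of odd order, P a normal p-subgroup of G, and X the subgroup generated by a family of abelian p-subgroups of G each normalized by P. Then the image of X in G/C_G(P) lies in O_p(G/C_G(P)); and if O_{p'}(G) = 1 and O_p(G) ∩ C_G(P) ≤ P then X ≤ O_p(G). -/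
theorem result {G : Type*} [Group G] [Finite G] [Group.IsSolvable G] (hodd : Odd (Nat.card G)) (p : ℕ) [Fact p.Prime] (hp : p ≠ 2) (P : Subgroup G) [P.Normal] (hP : IsPGroup p P)
    (S : Set (Subgroup G)) (hS : ∀ B ∈ S, IsMulCommutative B ∧ IsPGroup p B ∧ P ≤ Subgroup.normalizer (B : Set G)) :
    (sSup S).map (QuotientGroup.mk' (Subgroup.centralizer (P : Set G))) ≤ Cfsg.pCore p (G ⧸ Subgroup.centralizer (P : Set G)) ∧
      (Cfsg.pPrimeCore p G = ⊥ → Cfsg.pCore p G ⊓ Subgroup.centralizer (P : Set G) ≤ P → sSup S ≤ Cfsg.pCore p G) := by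
  classical
  have hpp := (Fact.out : p.Prime)
  have hsolG : Cfsg.IsPSolvable p G :=
    Cfsg.Agent.Lib.Helper3.isPSolvable_of_isSolvable p _ G rfl inferInstance
  have hno := Cfsg.Agent.Lib.Helper4.psn_odd_no_sl23 (X := G) hodd p
  have hcomm : ∀ B ∈ S, ∀ x ∈ B, ∀ y ∈ B, x * y = y * x := by
    intro B hB x hx y hy
    have := (hS B hB).1.is_comm.comm ⟨x, hx⟩ ⟨y, hy⟩
    exact congrArg Subtype.val this
  have hmain : sSup S ≤ (Cfsg.pCore p (G ⧸ Subgroup.centralizer (P : Set G))).comap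
      (QuotientGroup.mk' (Subgroup.centralizer (P : Set G))) := by
    apply sSup_le
    intro B hB b hb
    rw [Subgroup.mem_comap]
    exact Cfsg.Agent.Lib.Helper4.psn_stable_normal_mem p hp hsolG hno P hP b
      (Cfsg.Agent.Lib.Helper4.psn_quadratic_of_abelian P B (hcomm B hB) (hS B hB).2.2 b hb)
  refine ⟨Subgroup.map_le_iff_le_comap.2 hmain, ?_⟩
  intro h0 hle
  have hHH := Cfsg.Agent.Lib.Helper4.centralizer_pCore_le_of_psolvable hsolG h0
  have hQp : IsPGroup p (Cfsg.pCore p G) := Cfsg.Agent.Lib.Helper4.pCore_isPGroup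
  haveI hQn : (Cfsg.pCore p G).Normal := Cfsg.Agent.Lib.Helper4.pCore_normal p
  haveI hCn : (Subgroup.centralizer (P : Set G)).Normal := inferInstance
  -- every element of `C(P)` is a `p`-element
  have hCp : ∀ c ∈ Subgroup.centralizer (P : Set G), ∃ i : ℕ, c ^ (p ^ i) = 1 := by
    intro c hc
    obtain ⟨j, m, hpm, hjm⟩ :=
      Nat.exists_eq_pow_mul_and_not_dvd (orderOf_pos c).ne' p hpp.ne_one
    refine ⟨j, ?_⟩
    set c' := c ^ (p ^ j) with hc'
    have hc'C : c' ∈ Subgroup.centralizer (P : Set G) := Subgroup.pow_mem _ hc _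
    have hc'm : c' ^ m = 1 := by
      rw [hc', ← pow_mul, ← hjm, pow_orderOf_eq_one]
    have hmcop : Nat.Coprime m p := (Nat.Coprime.symm ((Nat.Prime.coprime_iff_not_dvd hpp).2 hpm))
    have hcent : c' ∈ Subgroup.centralizer ((Cfsg.pCore p G : Subgroup G) : Set G) := by
      rw [Subgroup.mem_centralizer_iff]
      intro x hx
      have hzQ : x⁻¹ * c' * x * c'⁻¹ ∈ Cfsg.pCore p G := by
        have h1 : c' * x * c'⁻¹ ∈ Cfsg.pCore p G := hQn.conj_mem x hx c'
        have h2 : x⁻¹ * c' * x * c'⁻¹ = x⁻¹ * (c' * x * c'⁻¹) := by group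
        rw [h2]
        exact Subgroup.mul_mem _ (Subgroup.inv_mem _ hx) h1
      have hzC : x⁻¹ * c' * x * c'⁻¹ ∈ Subgroup.centralizer (P : Set G) := by
        have h1 : x⁻¹ * c' * x⁻¹⁻¹ ∈ Subgroup.centralizer (P : Set G) := hCn.conj_mem c' hc'C x⁻¹
        rw [inv_inv] at h1
        exact Subgroup.mul_mem _ h1 (Subgroup.inv_mem _ hc'C)
      have hzP : x⁻¹ * c' * x * c'⁻¹ ∈ P := hle ⟨hzQ, hzC⟩
      set z := x⁻¹ * c' * x * c'⁻¹ with hz
      have hcz : z * c' = c' * z := by
        rw [Subgroup.mem_centralizer_iff] at hc'C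
        exact hc'C z hzP
      have hcx : c' * x = x * z * c' := by rw [hz]; group
      have hczk : ∀ k : ℕ, z ^ k * c' = c' * z ^ k := by
        intro k
        induction k with
        | zero => simp
        | succ k ih => rw [pow_succ, mul_assoc, hcz, ← mul_assoc, ih, mul_assoc]
      have hind : ∀ k : ℕ, c' ^ k * x = x * z ^ k * c' ^ k := by
        intro k
        induction k with
        | zero => simp
        | succ k ih =>
          calc c' ^ (k + 1) * x = c' * (c' ^ k * x) := by rw [pow_succ', mul_assoc]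
            _ = c' * (x * z ^ k * c' ^ k) := by rw [ih]
            _ = (c' * x) * z ^ k * c' ^ k := by group
            _ = (x * z * c') * z ^ k * c' ^ k := by rw [hcx]
            _ = x * z * (c' * z ^ k) * c' ^ k := by group
            _ = x * z * (z ^ k * c') * c' ^ k := by rw [hczk k]
            _ = x * z ^ (k + 1) * c' ^ (k + 1) := by rw [pow_succ', pow_succ']; group
      have hzm : z ^ m = 1 := by
        have := hind m
        rw [hc'm, one_mul, mul_one] at this
        have h3 : x * z ^ m = x * 1 := by rw [mul_one]; exact this.symm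
        exact mul_left_cancel h3
      obtain ⟨i, hi⟩ := hQp ⟨z, hzQ⟩
      have hzi : z ^ (p ^ i) = 1 := by
        have := congrArg Subtype.val hi
        rw [Subgroup.coe_pow, Subgroup.coe_one] at this
        exact this
      have hz1 : z = 1 := by
        have h3 : z ^ (Nat.gcd m (p ^ i)) = 1 := pow_gcd_eq_one.2 ⟨hzm, hzi⟩
        have h4 : Nat.gcd m (p ^ i) = 1 := Nat.Coprime.pow_right i hmcop
        rw [h4, pow_one] at h3
        exact h3
      rw [hcx, hz1, mul_one]
    have hc'Q : c' ∈ Cfsg.pCore p G := hHH hcent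
    obtain ⟨i, hi⟩ := hQp ⟨c', hc'Q⟩
    have hci : c' ^ (p ^ i) = 1 := by
      have := congrArg Subtype.val hi
      rw [Subgroup.coe_pow, Subgroup.coe_one] at this
      exact this
    have h3 : c' ^ (Nat.gcd m (p ^ i)) = 1 := pow_gcd_eq_one.2 ⟨hc'm, hci⟩
    have h4 : Nat.gcd m (p ^ i) = 1 := Nat.Coprime.pow_right i hmcop
    rw [h4, pow_one] at h3
    exact h3
  refine hmain.trans ?_
  apply le_sSup
  haveI : (Cfsg.pCore p (G ⧸ Subgroup.centralizer (P : Set G))).Normal :=
    Cfsg.Agent.Lib.Helper4.pCore_normal p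
  refine ⟨inferInstance, ?_⟩
  rintro ⟨d, hd⟩
  rw [Subgroup.mem_comap] at hd
  obtain ⟨k, hk⟩ := (Cfsg.Agent.Lib.Helper4.pCore_isPGroup
    (G := G ⧸ Subgroup.centralizer (P : Set G)) (p := p)) ⟨_, hd⟩
  have h1 := congrArg Subtype.val hk
  rw [Subgroup.coe_pow, Subgroup.coe_one] at h1
  have h2 : d ^ (p ^ k) ∈ Subgroup.centralizer (P : Set G) := by
    rw [← QuotientGroup.eq_one_iff, ← QuotientGroup.mk'_apply, map_pow]
    exact h1
  obtain ⟨i, hi⟩ := hCp _ h2
  refine ⟨k + i, Subtype.ext ?_⟩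
  rw [Subgroup.coe_pow, Subgroup.coe_one, pow_add, pow_mul]
  exact hi

end Cfsg.Agent.S1465
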