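import Cfsg.Statements.S1466
import Cfsg.Agent.S1467

set_option autoImplicit false
open Cfsg

namespace Cfsg.Agent.S1466

section lib

variable {R : Type*} [Group R]

theorem le_puigStep_top {A : Subgroup R} (hA : IsMulCommutative A)
    (hN : ⊤ ≤ Subgroup.normalizer (A : Set R)) : A ≤ Cfsg.puigStep (⊤ : Subgroup R) := by
  unfold Cfsg.puigStep
  exact le_sSup ⟨hA, hN⟩

theorem puigStep_top_normal : (Cfsg.puigStep (⊤ : Subgroup R)).Normal := by
  unfold Cfsg.puigStep
  apply Subgroup.sSup_normal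
  rintro A ⟨_, hN⟩
  exact Subgroup.normalizer_eq_top_iff.mp (top_le_iff.mp hN)

theorem exists_central_mod [Group.IsNilpotent R] (C M : Subgroup R) [hCn : C.Normal] (h : ¬ C ≤ M) :
    ∃ x ∈ C, x ∉ M ∧ ∀ g : R, x * g * x⁻¹ * g⁻¹ ∈ C ⊓ M := by
  classical
  obtain ⟨n, hn⟩ := Group.IsNilpotent.nilpotent' (G := R)
  have hP : ∃ i, ¬ (C ⊓ Subgroup.upperCentralSeries R i ≤ M) :=
    ⟨n, by rw [hn, inf_top_eq]; exact h⟩
  have hmin := @Nat.find_min _ _ hP
  have hspec := Nat.find_spec hP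
  cases hi : Nat.find hP with
  | zero =>
    rw [hi, Subgroup.upperCentralSeries_zero, inf_bot_eq] at hspec
    exact absurd bot_le hspec
  | succ j =>
    rw [hi] at hspec
    have hj : C ⊓ Subgroup.upperCentralSeries R j ≤ M := by
      by_contra hc
      exact hmin (m := j) (by omega) hc
    obtain ⟨x, hx, hxM⟩ := SetLike.not_le_iff_exists.mp hspec
    obtain ⟨hxC, hxZ⟩ := Subgroup.mem_inf.mp hx
    refine ⟨x, hxC, hxM, fun g => ?_⟩
    have h1 : x * g * x⁻¹ * g⁻¹ ∈ Subgroup.upperCentralSeries R j := by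
      have := Subgroup.mem_upperCentralSeries_succ_iff.mp hxZ g
      rwa [commutatorElement_def] at this
    have h2 : x * g * x⁻¹ * g⁻¹ ∈ C := by
      have := C.mul_mem hxC (hCn.conj_mem _ (C.inv_mem hxC) g)
      rw [← mul_assoc, ← mul_assoc] at this
      exact this
    exact Subgroup.mem_inf.mpr ⟨h2, hj (Subgroup.mem_inf.mpr ⟨h2, h1⟩)⟩

theorem centralizer_puigStep_top_le [Finite R] {p : ℕ} [Fact p.Prime] (hR : IsPGroup p R) :
    Subgroup.centralizer ((Cfsg.puigStep (⊤ : Subgroup R) : Subgroup R) : Set R) ≤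
      Cfsg.puigStep (⊤ : Subgroup R) := by
  have hnil : Group.IsNilpotent R := hR.isNilpotent
  have hMn : (Cfsg.puigStep (⊤ : Subgroup R)).Normal := puigStep_top_normal
  have hle : ∀ A : Subgroup R, IsMulCommutative A → ⊤ ≤ Subgroup.normalizer (A : Set R) →
      A ≤ Cfsg.puigStep (⊤ : Subgroup R) := fun A hA hN => le_puigStep_top hA hN
  generalize Cfsg.puigStep (⊤ : Subgroup R) = M at hMn hle ⊢
  by_contra hC
  obtain ⟨x, hxC, hxM, hx⟩ := exists_central_mod (Subgroup.centralizer (M : Set R)) M hC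
  have hNn : (Subgroup.centralizer (M : Set R) ⊓ M).Normal := inferInstance
  generalize hN : Subgroup.centralizer (M : Set R) ⊓ M = N at hx hNn
  have hNC : ∀ a ∈ N, a ∈ Subgroup.centralizer (M : Set R) := fun a ha => by
    rw [← hN] at ha; exact (Subgroup.mem_inf.mp ha).1
  have hNM : ∀ a ∈ N, a ∈ M := fun a ha => by
    rw [← hN] at ha; exact (Subgroup.mem_inf.mp ha).2
  have hcomm : ∀ a ∈ insert x (N : Set R), ∀ b ∈ insert x (N : Set R), a * b = b * a := by
    intro a ha b hb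
    rcases Set.mem_insert_iff.mp ha with ha | ha <;> rcases Set.mem_insert_iff.mp hb with hb | hb
    · rw [ha, hb]
    · rw [ha]
      exact (Subgroup.mem_centralizer_iff.mp hxC b (hNM b hb)).symm
    · rw [hb]
      exact Subgroup.mem_centralizer_iff.mp hxC a (hNM a ha)
    · exact Subgroup.mem_centralizer_iff.mp (hNC b hb) a (hNM a ha)
  have hBc : IsMulCommutative (Subgroup.closure (insert x (N : Set R))) :=
    Subgroup.isMulCommutative_closure hcomm
  have hconj : ∀ g : R, ∀ b ∈ Subgroup.closure (insert x (N : Set R)),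
      g * b * g⁻¹ ∈ Subgroup.closure (insert x (N : Set R)) := by
    intro g b hb
    induction hb using Subgroup.closure_induction with
    | mem y hy =>
      rcases Set.mem_insert_iff.mp hy with hy | hy
      · rw [hy]
        have e : g * x * g⁻¹ = (x * g * x⁻¹ * g⁻¹)⁻¹ * x := by group
        rw [e]
        exact Subgroup.mul_mem _
          (Subgroup.inv_mem _ (Subgroup.subset_closure (Set.mem_insert_of_mem _ (hx g))))
          (Subgroup.subset_closure (Set.mem_insert _ _))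
      · exact Subgroup.subset_closure (Set.mem_insert_of_mem _ (hNn.conj_mem y hy g))
    | one => simp
    | mul a b _ _ ha hb =>
      have e : g * (a * b) * g⁻¹ = (g * a * g⁻¹) * (g * b * g⁻¹) := by group
      rw [e]; exact Subgroup.mul_mem _ ha hb
    | inv a _ ha =>
      have e : g * a⁻¹ * g⁻¹ = (g * a * g⁻¹)⁻¹ := by group
      rw [e]; exact Subgroup.inv_mem _ ha
  have hBn : ⊤ ≤ Subgroup.normalizer ((Subgroup.closure (insert x (N : Set R)) : Subgroup R) : Set R) := by
    intro g _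
    rw [Subgroup.mem_normalizer_iff]
    intro b
    refine ⟨hconj g b, fun h => ?_⟩
    have := hconj g⁻¹ _ h
    have e : g⁻¹ * (g * b * g⁻¹) * g⁻¹⁻¹ = b := by group
    rwa [e] at this
  exact hxM (hle _ hBc hBn (Subgroup.subset_closure (Set.mem_insert _ _)))

end lib

/-- Let p be a prime and R a nontrivial finite p-group. Then for every i > 0, Z(R) ≤ C_R(L_i(R)) ≤ L_i(R); likewise Z(R) ≤ C_R(L_*(R)) ≤ L_*(R) and Z(R) ≤ C_R(L(R)) ≤ L(R); and L(R) ≠ 1, L_*(R) ≠ 1. -/
theorem result {R : Type*} [Group R] [Finite R] (p : ℕ) [Fact p.Prime] (hR : IsPGroup p R) [Nontrivial R] :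
    (∀ i : ℕ, 0 < i → Subgroup.center R ≤ Subgroup.centralizer ((Cfsg.puigSeq R i : Subgroup R) : Set R) ∧
        Subgroup.centralizer ((Cfsg.puigSeq R i : Subgroup R) : Set R) ≤ Cfsg.puigSeq R i) ∧
      (Subgroup.center R ≤ Subgroup.centralizer ((Cfsg.puigLower R : Subgroup R) : Set R) ∧ Subgroup.centralizer ((Cfsg.puigLower R : Subgroup R) : Set R) ≤ Cfsg.puigLower R) ∧
      (Subgroup.center R ≤ Subgroup.centralizer ((Cfsg.puigSubgroup R : Subgroup R) : Set R) ∧ Subgroup.centralizer ((Cfsg.puigSubgroup R : Subgroup R) : Set R) ≤ Cfsg.puigSubgroup R) ∧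
      Cfsg.puigSubgroup R ≠ ⊥ ∧ Cfsg.puigLower R ≠ ⊥ := by
  have hMseq : ∀ i : ℕ, 0 < i → Cfsg.puigStep (⊤ : Subgroup R) ≤ Cfsg.puigSeq R i := by
    intro i hi
    obtain ⟨j, rfl⟩ : ∃ j, i = j + 1 := ⟨i - 1, by omega⟩
    rw [Cfsg.Agent.S1467.seq_succ]
    exact Cfsg.Agent.S1467.puigStep_anti le_top
  have hcz := centralizer_puigStep_top_le hR
  have hcent : ∀ X : Subgroup R, Cfsg.puigStep (⊤ : Subgroup R) ≤ X →
      Subgroup.center R ≤ Subgroup.centralizer (X : Set R) ∧
        Subgroup.centralizer (X : Set R) ≤ X := by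
    intro X hX
    refine ⟨Subgroup.center_le_centralizer _, ?_⟩
    exact ((Subgroup.centralizer_le (fun a ha => hX ha)).trans hcz).trans hX
  have hZM : Subgroup.center R ≤ Cfsg.puigStep (⊤ : Subgroup R) :=
    le_puigStep_top inferInstance (Subgroup.normalizer_eq_top_iff.mpr inferInstance).ge
  have hZ : Subgroup.center R ≠ ⊥ :=
    (Subgroup.nontrivial_iff_ne_bot _).mp hR.center_nontrivial
  have hne : ∀ X : Subgroup R, Cfsg.puigStep (⊤ : Subgroup R) ≤ X → X ≠ ⊥ := by
    intro X hX h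
    apply hZ
    rw [eq_bot_iff, ← h]
    exact hZM.trans hX
  have hLow : Cfsg.puigStep (⊤ : Subgroup R) ≤ Cfsg.puigLower R := by
    unfold Cfsg.puigLower
    exact le_iSup_of_le 1 (hMseq (2 * 1) (by norm_num))
  have hSub : Cfsg.puigStep (⊤ : Subgroup R) ≤ Cfsg.puigSubgroup R := by
    unfold Cfsg.puigSubgroup
    exact le_iInf (fun n => hMseq (2 * n + 1) (by omega))
  exact ⟨fun i hi => hcent _ (hMseq i hi), hcent _ hLow, hcent _ hSub, hne _ hSub, hne _ hLow⟩

end Cfsg.Agent.S1466
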