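import Cfsg.Statements.S1470
import Mathlib

set_option autoImplicit false
open Cfsg

namespace Cfsg.Agent.S1470

/-- Let p and q be odd primes with (p^q − 1)/(p − 1) coprime to p − 1, and let E be the set of elements a of the field with p ^ q elements whose norm to the prime field is 1 and for which 2 − a also has norm 1. If a⁻¹ ∈ E for every a ∈ E and E has at least two elements, then p ≤ q. -/
theorem result (p q : ℕ) [Fact p.Prime] [Fact q.Prime] (hp : p ≠ 2) (hq : q ≠ 2) (hA : Nat.Coprime ((p ^ q - 1) / (p - 1)) (p - 1))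
    (hinv : ∀ a ∈ {a : GaloisField p q | Algebra.norm (ZMod p) a = 1 ∧ Algebra.norm (ZMod p) (2 - a) = 1}, a⁻¹ ∈ {a : GaloisField p q | Algebra.norm (ZMod p) a = 1 ∧ Algebra.norm (ZMod p) (2 - a) = 1})
    (h2 : 2 ≤ Set.ncard {a : GaloisField p q | Algebra.norm (ZMod p) a = 1 ∧ Algebra.norm (ZMod p) (2 - a) = 1}) :
    p ≤ q := by
  classical
  have hpp : p.Prime := Fact.out
  have hqp : q.Prime := Fact.out
  have hq0 : q ≠ 0 := hqp.ne_zero
  obtain ⟨E, hE⟩ : ∃ E : Set (GaloisField p q), E = {a : GaloisField p q | Algebra.norm (ZMod p) a = 1 ∧ Algebra.norm (ZMod p) (2 - a) = 1} := ⟨_, rfl⟩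
  rw [← hE] at hinv h2
  have hmem : ∀ x : GaloisField p q, x ∈ E ↔ Algebra.norm (ZMod p) x = 1 ∧ Algebra.norm (ZMod p) (2 - x) = 1 := by
    intro x; rw [hE]; exact Iff.rfl
  obtain ⟨a, haE, ha1⟩ : ∃ a ∈ E, a ≠ 1 := by
    by_contra hno
    have hsub : E ⊆ {1} := fun x hx => by
      by_contra hx1
      exact hno ⟨x, hx, hx1⟩
    have h3 := Set.ncard_le_ncard hsub (Set.finite_singleton _)
    rw [Set.ncard_singleton] at h3
    omega
  have hE2 : ∀ x ∈ E, 2 - x ∈ E := by
    intro x hx
    rw [hmem] at hx ⊢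
    exact ⟨hx.2, by rw [sub_sub_cancel]; exact hx.1⟩
  have hE0 : ∀ x ∈ E, x ≠ 0 := by
    intro x hx h0
    rw [hmem, h0] at hx
    have h3 := hx.1
    rw [Algebra.norm_zero] at h3
    exact zero_ne_one h3
  obtain ⟨c, hc⟩ : ∃ c : GaloisField p q, c = (a - 1)⁻¹ := ⟨_, rfl⟩
  have ha10 : a - 1 ≠ 0 := sub_ne_zero.2 ha1
  have hc0 : c ≠ 0 := by rw [hc]; exact inv_ne_zero ha10
  have key : ∀ k : ℕ, c + (k : GaloisField p q) ≠ 0 ∧ 1 + (c + (k : GaloisField p q))⁻¹ ∈ E := by
    intro k
    induction k with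
    | zero =>
      rw [Nat.cast_zero, add_zero]
      refine ⟨hc0, ?_⟩
      rw [hc, inv_inv, add_sub_cancel]
      exact haE
    | succ k ih =>
      obtain ⟨hk0, hkE⟩ := ih
      have hb0 := hE0 _ hkE
      have hb : 1 + (c + (k : GaloisField p q))⁻¹ = (c + ((k + 1 : ℕ) : GaloisField p q)) / (c + (k : GaloisField p q)) := by
        push_cast
        field_simp
        ring
      have hk1 : c + ((k + 1 : ℕ) : GaloisField p q) ≠ 0 := by
        intro h0
        apply hb0
        rw [hb, h0, zero_div]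
      refine ⟨hk1, ?_⟩
      have e : 1 + (c + ((k + 1 : ℕ) : GaloisField p q))⁻¹ = 2 - (1 + (c + (k : GaloisField p q))⁻¹)⁻¹ := by
        rw [hb, inv_div]
        field_simp
        push_cast
        ring
      rw [e]
      exact hE2 _ (hinv _ hkE)
  have hN : ∀ k : ℕ, Algebra.norm (ZMod p) (c + (k : GaloisField p q)) = Algebra.norm (ZMod p) c := by
    intro k
    induction k with
    | zero => rw [Nat.cast_zero, add_zero]
    | succ k ih =>
      obtain ⟨hk0, hkE⟩ := key k
      have h1 := ((hmem _).1 hkE).1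
      have e : (1 + (c + (k : GaloisField p q))⁻¹) * (c + (k : GaloisField p q)) = c + ((k + 1 : ℕ) : GaloisField p q) := by
        push_cast
        field_simp
        ring
      have h3 := congrArg (Algebra.norm (ZMod p)) e
      rw [map_mul, h1, one_mul, ih] at h3
      exact h3.symm
  -- the polynomial
  let b := Module.finBasis (ZMod p) (GaloisField p q)
  obtain ⟨M, hM⟩ : ∃ M : Matrix (Fin (Module.finrank (ZMod p) (GaloisField p q))) (Fin (Module.finrank (ZMod p) (GaloisField p q))) (ZMod p), M = Algebra.leftMulMatrix b (-c) := ⟨_, rfl⟩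
  have hev : ∀ x : ZMod p, M.charpoly.eval x = Algebra.norm (ZMod p) (c + algebraMap (ZMod p) (GaloisField p q) x) := by
    intro x
    rw [Matrix.eval_charpoly, Algebra.norm_eq_matrix_det b, map_add, AlgHom.commutes, hM, map_neg, sub_neg_eq_add, add_comm]
    rfl
  have hroot : ∀ x : ZMod p, (M.charpoly - Polynomial.C (Algebra.norm (ZMod p) c)).eval x = 0 := by
    intro x
    rw [Polynomial.eval_sub, Polynomial.eval_C, hev, sub_eq_zero]
    have e : algebraMap (ZMod p) (GaloisField p q) x = ((x.val : ℕ) : GaloisField p q) := by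
      conv_lhs => rw [← ZMod.natCast_zmod_val x]
      rw [map_natCast]
    rw [e]
    exact hN _
  have hdeg : (M.charpoly - Polynomial.C (Algebra.norm (ZMod p) c)).natDegree = q := by
    rw [Polynomial.natDegree_sub_C, Matrix.charpoly_natDegree_eq_dim, Fintype.card_fin, GaloisField.finrank p hq0]
  have hne : M.charpoly - Polynomial.C (Algebra.norm (ZMod p) c) ≠ 0 := by
    intro h0
    rw [h0, Polynomial.natDegree_zero] at hdeg
    exact hq0 hdeg.symm
  have hcard := Polynomial.card_le_degree_of_subset_roots (p := M.charpoly - Polynomial.C (Algebra.norm (ZMod p) c)) (Z := Finset.univ) (fun x _ => (Polynomial.mem_roots hne).2 (hroot x))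
  rw [Finset.card_univ, ZMod.card, hdeg] at hcard
  exact hcard

end Cfsg.Agent.S1470
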