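import Cfsg.Statements.S1475
import Mathlib
import Cfsg.Agent.Lib.Helper6.Lucido2

set_option autoImplicit false
open Cfsg Cfsg.Agent.Lib.Helper6

namespace Cfsg.Agent.S1475


theorem not_isPrimePow_mul_h6 {p q : ℕ} (hp : p.Prime) (hq : q.Prime) (hpq : p ≠ q) :
    ¬ IsPrimePow (p * q) := by
  intro h
  rw [isPrimePow_nat_iff] at h
  obtain ⟨t, k, ht, hk, htk⟩ := h
  have h1 : p ∣ t ^ k := by rw [htk]; exact dvd_mul_right p q
  have h2 : q ∣ t ^ k := by rw [htk]; exact dvd_mul_left q p
  have e1 := (Nat.prime_dvd_prime_iff_eq hp ht).1 (hp.dvd_of_dvd_pow h1)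
  have e2 := (Nat.prime_dvd_prime_iff_eq hq ht).1 (hq.dvd_of_dvd_pow h2)
  exact hpq (e1.trans e2.symm)


/-- Let G be a finite solvable group such that the order of every element is a prime power (1 included). Then at most two distinct primes divide the order of G. -/
theorem result {G : Type*} [Group G] [Finite G] [Group.IsSolvable G] (h : ∀ g : G, IsPrimePow (orderOf g) ∨ g = 1) :
    (Nat.card G).primeFactors.card ≤ 2 := by
  by_contra hcon
  push Not at hcon
  obtain ⟨p, hp, q, hq, r, hr, hpq, hpr, hqr⟩ := Finset.two_lt_card.1 hcon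
  rw [Nat.mem_primeFactors] at hp hq hr
  have key : ∀ (a b : ℕ), a.Prime → b.Prime → a ≠ b → ¬ ∃ g : G, orderOf g = a * b := by
    intro a b ha hb hab ⟨g, hg⟩
    rcases h g with h1 | h1
    · rw [hg] at h1
      exact not_isPrimePow_mul_h6 ha hb hab h1
    · rw [h1, orderOf_one] at hg
      have := ha.one_lt
      have := hb.one_lt
      nlinarith
  rcases lucido_solvable _ G rfl p q r hp.1 hq.1 hr.1 hpq hpr hqr hp.2.1 hq.2.1 hr.2.1 with h1 | h1 | h1
  · exact key p q hp.1 hq.1 hpq h1
  · exact key p r hp.1 hr.1 hpr h1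
  · exact key q r hq.1 hr.1 hqr h1

end Cfsg.Agent.S1475
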