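import Mathlib
import Cfsg.Statements.S1476
import Cfsg.Agent.S1474
import Cfsg.Agent.S0040
import Cfsg.Agent.S0016
import Cfsg.Agent.S0044
import Cfsg.Agent.S0043
import Cfsg.Agent.Lib.Helper7.EltDecomp
import Cfsg.Agent.Lib.Helper7.PrimaryDecomp
import Cfsg.Agent.Lib.Helper7.PiHall
import Cfsg.Agent.Lib.Lead.HallCount
import Cfsg.Agent.Lib.Helper2.Nilp

set_option autoImplicit false
set_option maxHeartbeats 800000
open Cfsg

namespace Cfsg.Agent.S1476

open Cfsg.Agent.Lib.Helper1 Cfsg.Agent.Lib.Helper7 Cfsg.Agent.S1474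

section rel
variable {G : Type*} [Group G]

/-- subgroups of CN-groups are CN-groups -/
theorem cn_subgroup (hCN : IsCNGroup G) (X : Subgroup G) : IsCNGroup ↥X := by
  intro g hg
  have hg' : (g : G) ≠ 1 := fun h => hg (Subtype.ext h)
  let f : ↥(Subgroup.centralizer ({g} : Set ↥X)) →* ↥(Subgroup.centralizer ({(g : G)} : Set G)) :=
    { toFun := fun y => ⟨((y : ↥X) : G), by
        have hy := y.2
        rw [Subgroup.mem_centralizer_iff] at hy ⊢
        intro h hh
        rw [Set.mem_singleton_iff] at hh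
        rw [hh]
        have := hy g (Set.mem_singleton g)
        exact congrArg Subtype.val this⟩
      map_one' := rfl
      map_mul' := fun _ _ => rfl }
  have hinj : Function.Injective f := by
    intro a b hab
    have h1 := congrArg Subtype.val hab
    exact Subtype.ext (Subtype.ext h1)
  haveI := hCN (g : G) hg'
  apply Subgroup.isNilpotent_of_ker_le_center f
  rw [(MonoidHom.ker_eq_bot_iff f).2 hinj]
  exact bot_le

variable [Finite G]

/-- relative Frobenius data: `E` normalizes `K`, meets it trivially and acts without fixed points -/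
structure RelFrob (K E : Subgroup G) : Prop where
  norm : E ≤ Subgroup.normalizer (K : Set G)
  disj : K ⊓ E = ⊥
  ne : K ≠ ⊥
  fpf : ∀ h ∈ E, h ≠ 1 → K ⊓ Subgroup.centralizer {h} = ⊥

theorem RelFrob.data {K E : Subgroup G} (h : RelFrob K E) :
    ∃ (_ : (K.subgroupOf (K ⊔ E)).Normal),
      Subgroup.IsComplement' (K.subgroupOf (K ⊔ E)) (E.subgroupOf (K ⊔ E)) ∧
      K.subgroupOf (K ⊔ E) ≠ ⊥ ∧
      ∀ x ∈ E.subgroupOf (K ⊔ E), x ≠ 1 →
        K.subgroupOf (K ⊔ E) ⊓ Subgroup.centralizer {x} = ⊥ := by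
  set X := K ⊔ E with hX
  have hKX : K ≤ X := le_sup_left
  have hEX : E ≤ X := le_sup_right
  have hXn : X ≤ Subgroup.normalizer (K : Set G) := sup_le Subgroup.le_normalizer h.norm
  have hKn : (K.subgroupOf X).Normal := (Subgroup.normal_subgroupOf_iff_le_normalizer hKX).2 hXn
  refine ⟨hKn, ?_, ?_, ?_⟩
  · apply Subgroup.isComplement'_of_card_mul_and_disjoint
    · have h1 : Nat.card (K.subgroupOf X) = Nat.card K :=
        Nat.card_congr (Subgroup.subgroupOfEquivOfLe hKX).toEquiv
      have h2 : Nat.card (E.subgroupOf X) = Nat.card E :=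
        Nat.card_congr (Subgroup.subgroupOfEquivOfLe hEX).toEquiv
      have h3 := Cfsg.Agent.Lib.Helper2.card_sup_mul_card_inf E K h.norm
      rw [inf_comm, h.disj, Subgroup.card_bot, mul_one, sup_comm] at h3
      rw [h1, h2, h3, mul_comm]
    · rw [Subgroup.disjoint_def]
      intro x hxK hxE
      have : (x : G) ∈ K ⊓ E :=
        Subgroup.mem_inf.2 ⟨Subgroup.mem_subgroupOf.1 hxK, Subgroup.mem_subgroupOf.1 hxE⟩
      rw [h.disj, Subgroup.mem_bot] at this
      exact Subtype.ext this
  · intro h0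
    apply h.ne
    rw [Subgroup.subgroupOf_eq_bot] at h0
    rw [eq_bot_iff]
    intro k hk
    have : k ∈ K ⊓ X := ⟨hk, hKX hk⟩
    rw [disjoint_iff.1 h0] at this
    exact this
  · intro x hx hx1
    rw [eq_bot_iff]
    intro k hk
    obtain ⟨hkK, hkc⟩ := Subgroup.mem_inf.1 hk
    rw [Subgroup.mem_bot]
    apply Subtype.ext
    have hx1' : (x : G) ≠ 1 := fun h' => hx1 (Subtype.ext h')
    have hmem : (k : G) ∈ K ⊓ Subgroup.centralizer {(x : G)} := by
      refine Subgroup.mem_inf.2 ⟨Subgroup.mem_subgroupOf.1 hkK, ?_⟩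
      rw [Subgroup.mem_centralizer_iff] at hkc ⊢
      intro y hy
      rw [Set.mem_singleton_iff] at hy
      rw [hy]
      exact congrArg Subtype.val (hkc x (Set.mem_singleton x))
    rw [h.fpf (x : G) (Subgroup.mem_subgroupOf.1 hx) hx1', Subgroup.mem_bot] at hmem
    exact hmem

theorem RelFrob.nilpotent {K E : Subgroup G} (h : RelFrob K E) (hCN : IsCNGroup G) :
    Group.IsNilpotent ↥E := by
  obtain ⟨hKn, hc, hK, hfpf⟩ := h.data
  haveI := hKn
  have h1 := complement_nilpotent (cn_subgroup hCN (K ⊔ E)) _ _ hc hK hfpf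
  haveI := h1
  exact Group.nilpotent_of_mulEquiv (Subgroup.subgroupOfEquivOfLe (le_sup_right : E ≤ K ⊔ E))

theorem subgroupOf_injective_of_le {X A B : Subgroup G} (hA : A ≤ X) (hB : B ≤ X)
    (h : A.subgroupOf X = B.subgroupOf X) : A = B := by
  rw [← Subgroup.map_subgroupOf_eq_of_le hA, ← Subgroup.map_subgroupOf_eq_of_le hB, h]

theorem RelFrob.unique {K E : Subgroup G} (h : RelFrob K E) {q : ℕ} [Fact q.Prime]
    (Q : Subgroup G) (hQE : Q ≤ E) (hQ : IsPGroup q Q) (A B : Subgroup G) (hA : A ≤ Q) (hB : B ≤ Q)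
    (hcA : Nat.card A = q) (hcB : Nat.card B = q) : A = B := by
  obtain ⟨hKn, hc, hK, hfpf⟩ := h.data
  haveI := hKn
  have hEX : E ≤ K ⊔ E := le_sup_right
  have hAX : A ≤ K ⊔ E := (hA.trans hQE).trans hEX
  have hBX : B ≤ K ⊔ E := (hB.trans hQE).trans hEX
  apply subgroupOf_injective_of_le hAX hBX
  apply Cfsg.Agent.Lib.Helper4.frobcomp_unique_order_p (p := q) _ _ hc hK hfpf (Q.subgroupOf (K ⊔ E))
  · intro x hx
    exact Subgroup.mem_subgroupOf.2 (hQE (Subgroup.mem_subgroupOf.1 hx))
  · exact hQ.comap_subtype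
  · intro x hx
    exact Subgroup.mem_subgroupOf.2 (hA (Subgroup.mem_subgroupOf.1 hx))
  · intro x hx
    exact Subgroup.mem_subgroupOf.2 (hB (Subgroup.mem_subgroupOf.1 hx))
  · rw [Nat.card_congr (Subgroup.subgroupOfEquivOfLe hAX).toEquiv]; exact hcA
  · rw [Nat.card_congr (Subgroup.subgroupOfEquivOfLe hBX).toEquiv]; exact hcB

/-- structure of a nilpotent Frobenius complement -/
theorem nilp_frobcomp_structure (K E : Subgroup G) [K.Normal]
    (hc : Subgroup.IsComplement' K E) (hK : K ≠ ⊥)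
    (hfpf : ∀ h ∈ E, h ≠ 1 → K ⊓ Subgroup.centralizer {h} = ⊥) (hEn : Group.IsNilpotent ↥E) :
    IsCyclic E ∨ ∃ C Q : Subgroup G, C ⊔ Q = E ∧ (∀ a ∈ C, ∀ b ∈ Q, a * b = b * a) ∧ IsCyclic C ∧
      Odd (Nat.card C) ∧ ∃ n : ℕ, Nonempty (↥Q ≃* QuaternionGroup (2 ^ n)) := by
  classical
  haveI := hEn
  haveI : Fact (Nat.Prime 2) := ⟨Nat.prime_two⟩
  -- odd Sylow subgroups are cyclic
  have hodd : ∀ (r : ℕ) [Fact r.Prime], r ≠ 2 → ∀ P : Sylow r ↥E, IsCyclic ↥(P : Subgroup ↥E) := by
    intro r hr hr2 P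
    rcases Cfsg.Agent.S0040.result K E hc hK hfpf r P with h | ⟨n, ⟨e⟩⟩
    · exact h
    · exfalso
      haveI : NeZero (2 ^ n) := ⟨by positivity⟩
      have h1 : Nat.card ↥(P : Subgroup ↥E) = 4 * 2 ^ n := by
        rw [Nat.card_congr e.toEquiv, Nat.card_eq_fintype_card, QuaternionGroup.card]
      obtain ⟨k, hk⟩ := (IsPGroup.iff_card).1 P.isPGroup'
      rw [hk] at h1
      have h2 : 2 ∣ r ^ k := by rw [h1]; exact Dvd.intro _ (by ring : 2 * (2 * 2 ^ n) = 4 * 2 ^ n)
      have h3 := (Nat.prime_dvd_prime_iff_eq Nat.prime_two hr.out).1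
        (Nat.Prime.dvd_of_dvd_pow Nat.prime_two h2)
      exact hr2 h3.symm
  obtain ⟨P₂⟩ : Nonempty (Sylow 2 ↥E) := inferInstance
  rcases Cfsg.Agent.S0040.result K E hc hK hfpf 2 P₂ with h2 | ⟨n, ⟨e⟩⟩
  · left
    haveI : IsZGroup ↥E := by
      constructor
      intro r hr P
      haveI : Fact r.Prime := ⟨hr⟩
      by_cases hr2 : r = 2
      · subst hr2
        obtain ⟨g, hg⟩ := MulAction.exists_smul_eq ↥E P₂ P
        rw [← hg]
        exact isCyclic_of_surjective _ (Sylow.equivSMul P₂ g).surjective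
      · exact hodd r hr2 P
    infer_instance
  · right
    have hP₂n : (P₂ : Subgroup ↥E).Normal := inferInstance
    obtain ⟨C', hC'⟩ := Subgroup.exists_right_complement'_of_coprime P₂.card_coprime_index
    have hcardC' : Nat.card C' = (P₂ : Subgroup ↥E).index := (hC'.symm.index_eq_card).symm
    have hC'odd : Odd (Nat.card C') := by
      rw [hcardC', ← Nat.not_even_iff_odd, even_iff_two_dvd]
      exact P₂.not_dvd_index
    -- `C'` is cyclic
    haveI hC'nil : Group.IsNilpotent ↥C' := inferInstance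
    haveI : IsZGroup ↥C' := by
      constructor
      intro r hr R
      haveI : Fact r.Prime := ⟨hr⟩
      by_cases hr2 : r = 2
      · subst hr2
        obtain ⟨k, hk⟩ := (IsPGroup.iff_card).1 R.isPGroup'
        have hd : Nat.card ↥(R : Subgroup ↥C') ∣ Nat.card C' := Subgroup.card_subgroup_dvd_card _
        have hk0 : k = 0 := by
          by_contra hk0
          have : 2 ∣ Nat.card C' := (hk ▸ dvd_pow_self 2 hk0 : 2 ∣ Nat.card ↥(R : Subgroup ↥C')).trans hd
          rw [← even_iff_two_dvd, ← Nat.not_odd_iff_even] at this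
          exact this hC'odd
        rw [hk0, pow_zero] at hk
        haveI : Subsingleton ↥(R : Subgroup ↥C') := (Nat.card_eq_one_iff_unique.1 hk).1
        exact isCyclic_of_subsingleton
      · have hRp : IsPGroup r ((R : Subgroup ↥C').map C'.subtype) := R.isPGroup'.map _
        obtain ⟨T, hT⟩ := hRp.exists_le_sylow
        haveI := hodd r hr2 T
        haveI : IsCyclic ↥((R : Subgroup ↥C').map C'.subtype) := Subgroup.isCyclic_of_le hT
        exact isCyclic_of_surjective _
          ((R : Subgroup ↥C').equivMapOfInjective C'.subtype C'.subtype_injective).symm.surjective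
    haveI hC'cyc : IsCyclic ↥C' := inferInstance
    refine ⟨C'.map E.subtype, (P₂ : Subgroup ↥E).map E.subtype, ?_, ?_, ?_, ?_, n, ?_⟩
    · rw [← Subgroup.map_sup, sup_comm, hC'.sup_eq_top, ← MonoidHom.range_eq_map,
        Subgroup.range_subtype]
    · rintro _ ⟨a, ha, rfl⟩ _ ⟨b, hb, rfl⟩
      have hbo : ∃ k, orderOf b = 2 ^ k := by
        obtain ⟨k, hk⟩ := (IsPGroup.iff_orderOf).1 P₂.isPGroup' ⟨b, hb⟩
        exact ⟨k, by rw [← hk]; exact (Subgroup.orderOf_mk b hb).symm⟩
      have hao : (orderOf a).Coprime 2 := by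
        have h1 : orderOf a ∣ Nat.card C' := by
          rw [← Subgroup.orderOf_mk a ha]; exact orderOf_dvd_natCard _
        have h2 : (Nat.card C').Coprime 2 := Nat.Coprime.symm
          ((Nat.Prime.coprime_iff_not_dvd Nat.prime_two).2 (by
            rw [← even_iff_two_dvd, Nat.not_even_iff_odd]; exact hC'odd))
        exact Nat.Coprime.coprime_dvd_left h1 h2
      have := Cfsg.Agent.S4242.commute_of_coprime (X := ↥E) (p := 2) b a hbo hao
      have h3 := congrArg Subtype.val this.eq
      simpa using h3.symm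
    · exact isCyclic_of_surjective _
        (C'.equivMapOfInjective E.subtype E.subtype_injective).surjective
    · rw [← Nat.card_congr (C'.equivMapOfInjective E.subtype E.subtype_injective).toEquiv]
      exact hC'odd
    · exact ⟨((P₂ : Subgroup ↥E).equivMapOfInjective E.subtype E.subtype_injective).symm.trans e⟩

end rel

section caseB
variable {G : Type*} [Group G] [Finite G]

theorem pelt_of_mem_pgroup {p : ℕ} [Fact p.Prime] {A : Subgroup G} (hA : IsPGroup p A) {x : G}
    (hx : x ∈ A) : ∃ k, orderOf x = p ^ k := by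
  obtain ⟨k, hk⟩ := (IsPGroup.iff_orderOf).1 hA ⟨x, hx⟩
  exact ⟨k, by rw [← hk]; exact (Subgroup.orderOf_mk x hx).symm⟩

/-- a nontrivial normal subgroup of a `p`-group contains a nontrivial central element -/
theorem exists_central_in_normal {p : ℕ} [Fact p.Prime] (S N : Subgroup G) (hS : IsPGroup p S)
    (hNS : N ≤ S) (hnorm : S ≤ Subgroup.normalizer (N : Set G)) (hN : N ≠ ⊥) :
    ∃ z ∈ N, z ≠ 1 ∧ ∀ s ∈ S, z * s = s * z := by
  haveI : Group.IsNilpotent ↥S := hS.isNilpotent
  haveI : (N.subgroupOf S).Normal := (Subgroup.normal_subgroupOf_iff_le_normalizer hNS).2 hnorm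
  have hne : N.subgroupOf S ≠ ⊥ := by
    intro h0
    apply hN
    rw [eq_bot_iff]
    intro k hk
    have : (⟨k, hNS hk⟩ : ↥S) ∈ N.subgroupOf S := Subgroup.mem_subgroupOf.2 hk
    rw [h0, Subgroup.mem_bot] at this
    rw [Subgroup.mem_bot]
    exact congrArg Subtype.val this
  obtain ⟨z', hz'N, hz'c, hz'1⟩ := exists_mem_center_of_isNilpotent (N.subgroupOf S) hne
  refine ⟨(z' : G), Subgroup.mem_subgroupOf.1 hz'N, fun h => hz'1 (Subtype.ext h), ?_⟩
  intro s hs
  have := Subgroup.mem_center_iff.1 hz'c ⟨s, hs⟩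
  exact (congrArg Subtype.val this).symm

variable [Group.IsSolvable G] {p : ℕ} [hp : Fact p.Prime]

/-- in case B the other cores are trivial -/
theorem pcore_other_bot (hCN : IsCNGroup G) (hFH : fittingHall G = ⊥) (hF : pCore p G ≠ ⊥)
    (q : ℕ) [hq : Fact q.Prime] (hqp : q ≠ p) : pCore q G = ⊥ := by
  by_contra hW
  obtain ⟨S⟩ : Nonempty (Sylow p G) := inferInstance
  have hFS : pCore p G ≤ (S : Subgroup G) := pCore_le_sylow S
  haveI hFn : (pCore p G).Normal := Cfsg.pCore_normal p G
  haveI hWn : (pCore q G).Normal := Cfsg.pCore_normal q G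
  obtain ⟨z, hzF, hz1, hzS⟩ := exists_central_in_normal (S : Subgroup G) (pCore p G) S.isPGroup'
    hFS (by rw [Subgroup.normalizer_eq_top_iff.2 hFn]; exact le_top) hF
  have hWp : IsPGroup q (pCore q G) := pCore_isPGroup
  have hFp : IsPGroup p (pCore p G) := pCore_isPGroup
  have hdis : Disjoint (pCore p G) (pCore q G) := IsPGroup.disjoint_of_ne p q (Ne.symm hqp) _ _ hFp hWp
  -- `S` centralizes `W`
  have hSW : (S : Subgroup G) ≤ Subgroup.centralizer ((pCore q G : Subgroup G) : Set G) := by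
    intro s hs
    rw [Subgroup.mem_centralizer_iff]
    intro w hw
    have hzw : Commute z w := Subgroup.commute_of_normal_of_disjoint _ _ hFn hWn hdis z w hzF hw
    have hwo : (orderOf w).Coprime p := by
      obtain ⟨k, hk⟩ := pelt_of_mem_pgroup hWp hw
      rw [hk]
      exact Nat.Coprime.pow_left k ((Nat.coprime_primes hq.out hp.out).2 hqp)
    have := commute_in_nilpotent (q := p) (Subgroup.centralizer ({z} : Set G)) (hCN z hz1) s w
      (mem_centralizer_singleton.2 (hzS s hs)) (mem_centralizer_singleton.2 hzw.eq)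
      (pelt_of_mem_pgroup S.isPGroup' hs) hwo
    exact this.eq.symm
  obtain ⟨y, hyW, hy1⟩ : ∃ y ∈ pCore q G, y ≠ 1 := by
    by_contra hno
    push_neg at hno
    apply hW
    rw [eq_bot_iff]
    intro y hy
    rw [Subgroup.mem_bot]
    exact hno y hy
  have hCWnil : Group.IsNilpotent ↥(Subgroup.centralizer ((pCore q G : Subgroup G) : Set G)) := by
    apply nilp_of_le _ (hCN y hy1)
    intro c hc
    rw [Subgroup.mem_centralizer_iff] at hc
    exact mem_centralizer_singleton.2 (hc y hyW)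
  haveI : (Subgroup.centralizer ((pCore q G : Subgroup G) : Set G)).Normal :=
    Subgroup.normal_centralizer
  have hSn := sylow_normal_of_le_nilpotent_normal S _ hCWnil hSW
  have hSle := sylow_le_fh S hSn
  rw [hFH, le_bot_iff] at hSle
  rw [hSle, le_bot_iff] at hFS
  exact hF hFS

/-- in case B the `p`-core is self-centralizing -/
theorem cent_pcore_le (hCN : IsCNGroup G) (hFH : fittingHall G = ⊥) (hF : pCore p G ≠ ⊥) :
    Subgroup.centralizer ((pCore p G : Subgroup G) : Set G) ≤ pCore p G := by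
  have h1 : fittingSubgroup G = pCore p G := by
    rw [fitting_eq_pCoreSup]
    apply le_antisymm
    · unfold pCoreSup
      apply iSup_le
      intro r
      haveI : Fact (r : ℕ).Prime := ⟨r.2⟩
      by_cases hr : (r : ℕ) = p
      · rw [hr]
      · rw [pcore_other_bot hCN hFH hF (r : ℕ) hr]
        exact bot_le
    · exact pCore_le_pCoreSup hp.out
  have h2 := Cfsg.Agent.S0044.result (G := G)
  rw [h1] at h2
  exact h2

/-- in case B every nonidentity `p'`-element acts without fixed points on the `p`-core -/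
theorem pprime_fpf (hCN : IsCNGroup G) (hFH : fittingHall G = ⊥) (hF : pCore p G ≠ ⊥)
    (b : G) (hb1 : b ≠ 1) (hbo : (orderOf b).Coprime p) (x : G) (hx : x ∈ pCore p G)
    (hxb : x * b = b * x) : x = 1 := by
  by_contra hx1
  obtain ⟨S⟩ : Nonempty (Sylow p G) := inferInstance
  have hFS : pCore p G ≤ (S : Subgroup G) := pCore_le_sylow S
  haveI hFn : (pCore p G).Normal := Cfsg.pCore_normal p G
  obtain ⟨z, hzF, hz1, hzS⟩ := exists_central_in_normal (S : Subgroup G) (pCore p G) S.isPGroup'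
    hFS (by rw [Subgroup.normalizer_eq_top_iff.2 hFn]; exact le_top) hF
  have hFp : IsPGroup p (pCore p G) := pCore_isPGroup
  -- `b` commutes with `z`
  have hzb : Commute z b := by
    apply commute_in_nilpotent (q := p) (Subgroup.centralizer ({x} : Set G)) (hCN x hx1) z b
      (mem_centralizer_singleton.2 (hzS x (hFS hx)).symm) (mem_centralizer_singleton.2 hxb)
      (pelt_of_mem_pgroup hFp hzF) hbo
  -- `b` centralizes `S`
  have hbS : ∀ s ∈ (S : Subgroup G), Commute s b := by
    intro s hs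
    apply commute_in_nilpotent (q := p) (Subgroup.centralizer ({z} : Set G)) (hCN z hz1) s b
      (mem_centralizer_singleton.2 (hzS s hs)) (mem_centralizer_singleton.2 hzb.eq)
      (pelt_of_mem_pgroup S.isPGroup' hs) hbo
  have hbF : b ∈ pCore p G := by
    apply cent_pcore_le hCN hFH hF
    rw [Subgroup.mem_centralizer_iff]
    intro f hf
    exact (hbS f (hFS hf)).eq
  obtain ⟨k, hk⟩ := pelt_of_mem_pgroup hFp hbF
  rw [hk] at hbo
  have hk0 : k = 0 := by
    by_contra hk0
    have := Nat.eq_one_of_dvd_coprimes hbo (dvd_pow_self p hk0) (dvd_refl p)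
    exact hp.out.one_lt.ne' this
  rw [hk0, pow_zero, orderOf_eq_one_iff] at hk
  exact hb1 hk

/-- in case B a Hall `p'`-subgroup acts without fixed points on the `p`-core -/
theorem hall_relfrob (hCN : IsCNGroup G) (hFH : fittingHall G = ⊥) (hF : pCore p G ≠ ⊥)
    (B : Subgroup G) (hB : IsPiHallOf {r : ℕ | r ≠ p} B ⊤) :
    RelFrob (pCore p G) B ∧ (Nat.card B).Coprime p := by
  haveI hFn : (pCore p G).Normal := Cfsg.pCore_normal p G
  have hFp : IsPGroup p (pCore p G) := pCore_isPGroup
  have hcop : (Nat.card B).Coprime p := by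
    apply Nat.Coprime.symm
    rw [Nat.Prime.coprime_iff_not_dvd hp.out]
    intro h
    exact hB.2.1 p hp.out h rfl
  refine ⟨⟨?_, ?_, hF, ?_⟩, hcop⟩
  · rw [Subgroup.normalizer_eq_top_iff.2 hFn]; exact le_top
  · obtain ⟨k, hk⟩ := (IsPGroup.iff_card).1 hFp
    apply (Subgroup.disjoint_of_coprime_natCard _).eq_bot
    rw [hk]
    exact Nat.Coprime.pow_left k hcop.symm
  · intro b hbB hb1
    rw [eq_bot_iff]
    intro x hx
    obtain ⟨hxF, hxc⟩ := Subgroup.mem_inf.1 hx
    rw [Subgroup.mem_bot]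
    apply pprime_fpf hCN hFH hF b hb1 _ x hxF (mem_centralizer_singleton.1 hxc).symm
    exact Nat.Coprime.coprime_dvd_left (Subgroup.orderOf_dvd_natCard B hbB) hcop

omit [Group.IsSolvable G] hp in
/-- in a nilpotent subgroup every `q`-subgroup lies in the Sylow `q`-subgroup -/
theorem le_sylow_of_nilpotent (B : Subgroup G) (hBn : Group.IsNilpotent ↥B) {q : ℕ} [Fact q.Prime]
    (PB : Sylow q ↥B) (T : Subgroup G) (hTB : T ≤ B) (hT : IsPGroup q T) :
    T ≤ (PB : Subgroup ↥B).map B.subtype := by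
  haveI := hBn
  have h1 : IsPGroup q (T.subgroupOf B) := hT.comap_subtype
  obtain ⟨P', hP'⟩ := h1.exists_le_sylow
  have hPBn : (PB : Subgroup ↥B).Normal := inferInstance
  haveI := Sylow.unique_of_normal PB hPBn
  have : P' = PB := Subsingleton.elim _ _
  rw [this] at hP'
  intro x hx
  exact ⟨⟨x, hTB hx⟩, hP' (Subgroup.mem_subgroupOf.2 hx), rfl⟩

theorem caseB (hCN : IsCNGroup G) (hFH : fittingHall G = ⊥) (hF : pCore p G ≠ ⊥) :
    IsThreeStepGroup p G := by
  classical
  set F := pCore p G with hFdef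
  haveI hFn : F.Normal := Cfsg.pCore_normal p G
  have hFp : IsPGroup p F := pCore_isPGroup
  obtain ⟨kF, hkF⟩ := (IsPGroup.iff_card).1 hFp
  -- `F` is not a Sylow subgroup
  have hFnotSyl : ∀ S : Sylow p G, (S : Subgroup G) ≠ F := by
    intro S hS
    have hSn : (S : Subgroup G).Normal := hS ▸ hFn
    have := sylow_le_fh S hSn
    rw [hFH, le_bot_iff, hS] at this
    exact hF this
  have hFtop : F ≠ ⊤ := by
    intro h
    obtain ⟨S⟩ : Nonempty (Sylow p G) := inferInstance
    apply hFnotSyl S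
    apply le_antisymm
    · rw [h]; exact le_top
    · exact pCore_le_sylow S
  -- a minimal normal subgroup of `G ⧸ F`
  haveI : Nontrivial (G ⧸ F) := by
    rw [← Finite.one_lt_card_iff_nontrivial, ← Subgroup.index_eq_card]
    have h1 : F.index ≠ 1 := fun h => hFtop (Subgroup.index_eq_one.1 h)
    have h2 : F.index ≠ 0 := Subgroup.index_ne_zero_of_finite
    omega
  obtain ⟨-, -, Mb, hMbn, hMbne, -, hMbmin⟩ :=
    Cfsg.Agent.Lib.Lead.HallCount.exists_min_normal_pgroup (G ⧸ F)
  haveI := hMbn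
  obtain ⟨-, q, hq, hMbe⟩ := Cfsg.Agent.S0043.result Mb hMbne hMbmin
  haveI : Fact q.Prime := ⟨hq⟩
  set M := Mb.comap (QuotientGroup.mk' F) with hMdef
  haveI hMn : M.Normal := hMbn.comap _
  have hFM : F ≤ M := by
    intro x hx
    rw [hMdef, Subgroup.mem_comap]
    have : QuotientGroup.mk' F x = 1 := (QuotientGroup.eq_one_iff x).2 hx
    rw [this]; exact Mb.one_mem
  have hMpow : ∀ x ∈ M, x ^ q ∈ F := by
    intro x hx
    rw [← QuotientGroup.eq_one_iff]
    have := hMbe _ (Subgroup.mem_comap.1 hx)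
    simpa using this
  have hqp : q ≠ p := by
    intro hqp
    have hMp : IsPGroup p M := by
      intro x
      obtain ⟨j, hj⟩ := hFp ⟨(x : G) ^ q, hMpow x x.2⟩
      refine ⟨j + 1, ?_⟩
      apply Subtype.ext
      have h2 : ((x : G) ^ q) ^ p ^ j = 1 := by
        have h3 := congrArg Subtype.val hj
        simpa using h3
      rw [Subgroup.coe_pow, pow_succ', pow_mul, ← hqp]
      rw [← hqp] at h2
      simpa using h2
    have hMF : M ≤ F := le_pCore M hMn hMp
    apply hMbne
    rw [eq_bot_iff]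
    intro y hy
    obtain ⟨x, rfl⟩ := QuotientGroup.mk'_surjective F y
    rw [Subgroup.mem_bot]
    exact (QuotientGroup.eq_one_iff x).2 (hMF (Subgroup.mem_comap.2 hy))
  have hcardM : Nat.card M = Nat.card Mb * Nat.card F :=
    Cfsg.Agent.Lib.Helper4.card_comap_mk_quot F Mb
  have hMbp : IsPGroup q Mb := by
    intro x
    refine ⟨1, ?_⟩
    rw [pow_one]
    exact Subtype.ext (by simpa using hMbe x x.2)
  obtain ⟨jM, hjM⟩ := (IsPGroup.iff_card).1 hMbp
  have hjM0 : jM ≠ 0 := by
    rintro rfl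
    rw [pow_zero] at hjM
    exact hMbne (Subgroup.card_eq_one.1 hjM)
  -- a Sylow `q`-subgroup of `M`
  obtain ⟨PM⟩ : Nonempty (Sylow q ↥M) := inferInstance
  set R : Subgroup G := (PM : Subgroup ↥M).map M.subtype with hRdef
  have hRM : R ≤ M := Subgroup.map_subtype_le _
  have hRq : IsPGroup q R := PM.isPGroup'.map _
  have hqM : q ∣ Nat.card M := by
    rw [hcardM, hjM]
    exact Dvd.dvd.mul_right (dvd_pow_self q hjM0) _
  have hR1 : R ≠ ⊥ := by
    intro h
    apply PM.ne_bot_of_dvd_card hqM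
    rw [hRdef, Subgroup.map_eq_bot_iff_of_injective _ M.subtype_injective] at h
    exact h
  have hRF : R ⊓ F = ⊥ := (IsPGroup.disjoint_of_ne q p hqp _ _ hRq hFp).eq_bot
  have hRpow : ∀ r ∈ R, r ^ q = 1 := by
    intro r hr
    have : r ^ q ∈ R ⊓ F := Subgroup.mem_inf.2 ⟨R.pow_mem hr q, hMpow r (hRM hr)⟩
    rw [hRF, Subgroup.mem_bot] at this
    exact this
  -- a Hall `p'`-subgroup containing `R`
  haveI : Group.IsSolvable ↥(⊤ : Subgroup G) := inferInstance
  obtain ⟨-, -, hHall3⟩ := hallSub (⊤ : Subgroup G) ({r : ℕ | r ≠ p} : Set ℕ)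
  obtain ⟨B, hBhall, hRB⟩ := hHall3 R le_top (by
    obtain ⟨i, hi⟩ := (IsPGroup.iff_card).1 hRq
    rw [hi]
    exact isPiNum_prime_pow hq hqp i)
  obtain ⟨hrel, hBcop⟩ := hall_relfrob hCN hFH hF B hBhall
  have hBnil : Group.IsNilpotent ↥B := hrel.nilpotent hCN
  have hFB : F ⊓ B = ⊥ := hrel.disj
  -- `R` is cyclic of order `q`
  obtain ⟨a, haR, ha1⟩ : ∃ a ∈ R, a ≠ 1 := by
    by_contra hno
    push_neg at hno
    apply hR1
    rw [eq_bot_iff]
    intro y hy
    rw [Subgroup.mem_bot]
    exact hno y hy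
  have hao : orderOf a = q := orderOf_eq_prime (hRpow a haR) ha1
  have hRa : R = Subgroup.zpowers a := by
    apply le_antisymm
    · intro r hr
      by_cases hr1 : r = 1
      · rw [hr1]; exact Subgroup.one_mem _
      · have hro : orderOf r = q := orderOf_eq_prime (hRpow r hr) hr1
        have := hrel.unique R hRB hRq (Subgroup.zpowers r) (Subgroup.zpowers a)
          (Subgroup.zpowers_le.2 hr) (Subgroup.zpowers_le.2 haR)
          (by rw [Nat.card_zpowers, hro]) (by rw [Nat.card_zpowers, hao])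
        rw [← this]
        exact Subgroup.mem_zpowers r
    · rw [Subgroup.zpowers_le]; exact haR
  have hcardR : Nat.card R = q := by rw [hRa, Nat.card_zpowers, hao]
  -- `M = R ⊔ F`
  have hcardPM : Nat.card (PM : Subgroup ↥M) = q := by
    have h1 : Nat.card R = Nat.card (PM : Subgroup ↥M) := by
      rw [hRdef]; exact Subgroup.card_map_of_injective M.subtype_injective
    rw [← h1]; exact hcardR
  have hjM1 : jM = 1 := by
    have h1 : q ^ jM ∣ Nat.card ↥M := by rw [hcardM, hjM]; exact Dvd.intro _ rfl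
    have h2 := PM.pow_dvd_card_of_pow_dvd_card h1
    rw [hcardPM] at h2
    have h3 : q ^ jM ∣ q ^ 1 := by rwa [pow_one]
    have h4 := (Nat.pow_dvd_pow_iff_le_right hq.one_lt).1 h3
    omega
  have hMeq : R ⊔ F = M := by
    apply Subgroup.eq_of_le_of_card_ge (sup_le hRM hFM)
    have h1 := Cfsg.Agent.Lib.Helper2.card_sup_mul_card_inf R F
      (by rw [Subgroup.normalizer_eq_top_iff.2 hFn]; exact le_top)
    rw [hRF, Subgroup.card_bot, mul_one, hcardR] at h1
    rw [h1, hcardM, hjM, hjM1, pow_one]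
  -- Frattini
  have hFrat : Subgroup.normalizer (R : Set G) ⊔ F = ⊤ := by
    have h1 : Subgroup.normalizer (R : Set G) ⊔ M = ⊤ := Sylow.normalizer_sup_eq_top PM
    calc Subgroup.normalizer (R : Set G) ⊔ F
        = Subgroup.normalizer (R : Set G) ⊔ (R ⊔ F) := by
          rw [← sup_assoc, sup_eq_left.2 Subgroup.le_normalizer]
      _ = Subgroup.normalizer (R : Set G) ⊔ M := by rw [hMeq]
      _ = ⊤ := h1
  -- `R` is the only subgroup of order `q` of `B`
  obtain ⟨PB⟩ : Nonempty (Sylow q ↥B) := inferInstance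
  set QB : Subgroup G := (PB : Subgroup ↥B).map B.subtype with hQBdef
  have hQBB : QB ≤ B := Subgroup.map_subtype_le _
  have hQBq : IsPGroup q QB := PB.isPGroup'.map _
  have huniqB : ∀ T : Subgroup G, T ≤ B → Nat.card T = q → T = R := by
    intro T hTB hcT
    have hTq : IsPGroup q T := IsPGroup.of_card (n := 1) (by rw [hcT, pow_one])
    exact hrel.unique QB hQBB hQBq T R (le_sylow_of_nilpotent B hBnil PB T hTB hTq)
      (le_sylow_of_nilpotent B hBnil PB R hRB hRq) hcT hcardR
  -- `B` normalizes `R`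
  have hBnormR : ∀ b ∈ B, ∀ r ∈ R, b * r * b⁻¹ ∈ R := by
    intro b hb r hr
    have h1 : R.map (MulAut.conj b).toMonoidHom = R := by
      apply huniqB
      · rintro _ ⟨x, hx, rfl⟩
        exact B.mul_mem (B.mul_mem hb (hRB hx)) (B.inv_mem hb)
      · rw [Subgroup.card_map_of_injective (MulAut.conj b).injective]; exact hcardR
    rw [← h1]
    exact ⟨r, hr, rfl⟩
  -- `B` centralizes `R`
  have hBcentR : ∀ b ∈ B, ∀ r ∈ R, r * b = b * r := by
    have hcomm_le : ⁅R, B⁆ ≤ R := by
      rw [Subgroup.commutator_le]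
      intro r hr b hb
      rw [commutatorElement_def]
      have h2 : b * r⁻¹ * b⁻¹ ∈ R := hBnormR b hb r⁻¹ (R.inv_mem hr)
      have h3 : r * b * r⁻¹ * b⁻¹ = r * (b * r⁻¹ * b⁻¹) := by group
      rw [h3]
      exact R.mul_mem hr h2
    have hbot : ⁅R, B⁆ = ⊥ := by
      haveI : Fact (Nat.card ↥R).Prime := ⟨by rw [hcardR]; exact hq⟩
      rcases Subgroup.eq_bot_or_eq_top_of_prime_card ((⁅R, B⁆ : Subgroup G).subgroupOf R) with h0 | h0
      · rw [Subgroup.subgroupOf_eq_bot] at h0
        have := disjoint_iff.1 h0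
        rwa [inf_eq_left.2 hcomm_le] at this
      · exfalso
        rw [Subgroup.subgroupOf_eq_top] at h0
        have heq : R = ⁅R, B⁆ := le_antisymm h0 hcomm_le
        exact hR1 (Cfsg.Agent.Lib.Helper2.eq_bot_of_eq_commutator_of_nilpotent hRB hBnil heq)
    rw [Subgroup.commutator_eq_bot_iff_le_centralizer] at hbot
    intro b hb r hr
    have := hbot hr
    rw [Subgroup.mem_centralizer_iff] at this
    exact (this b hb).symm
  -- `p'`-elements of the centralizer of `a` lie in `B`
  have hCqnil : Group.IsNilpotent ↥(Subgroup.centralizer ({a} : Set G)) := hCN a ha1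
  have hBCq : B ≤ Subgroup.centralizer ({a} : Set G) := by
    intro b hb
    exact mem_centralizer_singleton.2 (hBcentR b hb a haR)
  have hBindex : ∀ r : ℕ, r.Prime → r ≠ p → ¬ r ∣ B.index := by
    intro r hr hrp
    have := hBhall.2.2 r hr hrp
    rwa [Subgroup.relIndex_top_right] at this
  have hpprimeB : ∀ d ∈ Subgroup.centralizer ({a} : Set G), (orderOf d).Coprime p → d ∈ B := by
    intro d hd hdo
    have key := mem_of_forall_prime_pow_mem (G := ↥(Subgroup.centralizer ({a} : Set G)))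
      (B.subgroupOf (Subgroup.centralizer ({a} : Set G))) p (by
        intro y r b hr hrp hyo
        haveI : Fact r.Prime := ⟨hr⟩
        rw [Subgroup.mem_subgroupOf]
        -- the Sylow `r`-subgroup of `B` is a Sylow `r`-subgroup of `G`
        obtain ⟨PBr⟩ : Nonempty (Sylow r ↥B) := inferInstance
        have hcardT : Nat.card ((PBr : Subgroup ↥B).map B.subtype) =
            r ^ (Nat.card G).factorization r := by
          rw [Subgroup.card_map_of_injective B.subtype_injective, PBr.card_eq_multiplicity]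
          congr 1
          rw [← Subgroup.card_mul_index B, Nat.factorization_mul Nat.card_pos.ne'
            Subgroup.index_ne_zero_of_finite, Finsupp.add_apply,
            Nat.factorization_eq_zero_of_not_dvd (hBindex r hr hrp), add_zero]
        set TS : Sylow r G := Sylow.ofCard _ hcardT with hTS
        -- the Sylow `r`-subgroup of the centralizer
        obtain ⟨PC⟩ : Nonempty (Sylow r ↥(Subgroup.centralizer ({a} : Set G))) := inferInstance
        set W : Subgroup G := (PC : Subgroup _).map (Subgroup.centralizer ({a} : Set G)).subtype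
          with hWdef
        have hWr : IsPGroup r W := PC.isPGroup'.map _
        have hTW : (TS : Subgroup G) ≤ W := by
          apply le_sylow_of_nilpotent _ hCqnil PC
          · rw [hTS, Sylow.coe_ofCard]
            exact (Subgroup.map_subtype_le _).trans hBCq
          · exact TS.isPGroup'
        have hWT : W = (TS : Subgroup G) := TS.is_maximal' hWr hTW
        have hyW : (y : G) ∈ W := by
          apply le_sylow_of_nilpotent _ hCqnil PC (Subgroup.zpowers (y : G))
          · rw [Subgroup.zpowers_le]; exact y.2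
          · exact IsPGroup.of_card (n := b) (by
              rw [Nat.card_zpowers, Subgroup.orderOf_coe, hyo])
          · exact Subgroup.mem_zpowers _
        rw [hWT, hTS, Sylow.coe_ofCard] at hyW
        exact Subgroup.map_subtype_le _ hyW)
      (orderOf (⟨d, hd⟩ : ↥(Subgroup.centralizer ({a} : Set G)))) ⟨d, hd⟩ rfl
      (by rw [Subgroup.orderOf_mk d hd]; exact hdo)
    exact Subgroup.mem_subgroupOf.1 key
  -- the normalizer of `R` normalizes `B`
  have hNqB : Subgroup.normalizer (R : Set G) ≤ Subgroup.normalizer (B : Set G) := by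
    intro n hn
    apply Cfsg.Agent.Lib.Helper7.SubnJoin.mem_normalizer_of_forall
    intro b hb
    apply hpprimeB
    · rw [mem_centralizer_singleton]
      -- `a = n a' n⁻¹` with `a' ∈ R`
      have hn' : n⁻¹ ∈ Subgroup.normalizer (R : Set G) := Subgroup.inv_mem _ hn
      have ha' : n⁻¹ * a * n⁻¹⁻¹ ∈ R := (Subgroup.mem_normalizer_iff.1 hn' a).1 haR
      rw [inv_inv] at ha'
      have hcomm := hBcentR b hb _ ha'
      have e1 : a * (n * b * n⁻¹) = n * ((n⁻¹ * a * n) * b) * n⁻¹ := by group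
      have e2 : n * b * n⁻¹ * a = n * (b * (n⁻¹ * a * n)) * n⁻¹ := by group
      rw [e1, e2, hcomm]
    · have : orderOf (n * b * n⁻¹) = orderOf b := by
        rw [← MulAut.conj_apply]; exact MulEquiv.orderOf_eq _ b
      rw [this]
      exact Nat.Coprime.coprime_dvd_left (Subgroup.orderOf_dvd_natCard B hb) hBcop
  have hNBF : Subgroup.normalizer (B : Set G) ⊔ F = ⊤ := by
    rw [eq_top_iff, ← hFrat]
    exact sup_le_sup_right hNqB F
  have hFBn : (F ⊔ B).Normal := by
    rw [← Subgroup.normalizer_eq_top_iff, eq_top_iff, ← hNBF]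
    apply sup_le
    · intro n hn
      apply Cfsg.Agent.Lib.Helper7.SubnJoin.mem_normalizer_sup _ hn
      rw [Subgroup.normalizer_eq_top_iff.2 hFn]
      exact Subgroup.mem_top n
    · exact (le_sup_left : F ≤ F ⊔ B).trans Subgroup.le_normalizer
  -- general uniqueness of subgroups of prime order in `B`
  have huniq : ∀ (r : ℕ) [Fact r.Prime] (T₁ T₂ : Subgroup G), T₁ ≤ B → T₂ ≤ B →
      Nat.card T₁ = r → Nat.card T₂ = r → T₁ = T₂ := by
    intro r hr T₁ T₂ h1 h2 hc1 hc2
    obtain ⟨PBr⟩ : Nonempty (Sylow r ↥B) := inferInstance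
    have hT1 : IsPGroup r T₁ := IsPGroup.of_card (n := 1) (by rw [hc1, pow_one])
    have hT2 : IsPGroup r T₂ := IsPGroup.of_card (n := 1) (by rw [hc2, pow_one])
    exact hrel.unique ((PBr : Subgroup ↥B).map B.subtype) (Subgroup.map_subtype_le _)
      (PBr.isPGroup'.map _) T₁ T₂ (le_sylow_of_nilpotent B hBnil PBr T₁ h1 hT1)
      (le_sylow_of_nilpotent B hBnil PBr T₂ h2 hT2) hc1 hc2
  -- the normalizer of `B` is a complement of `F`
  set N := Subgroup.normalizer (B : Set G) with hNdef
  have haB : a ∈ B := hRB haR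
  have hNF : N ⊓ F = ⊥ := by
    rw [eq_bot_iff]
    intro f hf
    obtain ⟨hfN, hfF⟩ := Subgroup.mem_inf.1 hf
    rw [Subgroup.mem_bot]
    have h1 : f * a * f⁻¹ ∈ B := (Subgroup.mem_normalizer_iff.1 hfN a).1 haB
    have h2 : f * a * f⁻¹ * a⁻¹ ∈ F ⊓ B := by
      refine Subgroup.mem_inf.2 ⟨?_, B.mul_mem h1 (B.inv_mem haB)⟩
      have h3 : f * a * f⁻¹ * a⁻¹ = f * (a * f⁻¹ * a⁻¹) := by group
      rw [h3]
      exact F.mul_mem hfF (hFn.conj_mem _ (F.inv_mem hfF) a)
    rw [hFB, Subgroup.mem_bot] at h2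
    have h4 : f * a = a * f := by
      have h5 : f * a * f⁻¹ = a := by rw [← mul_inv_eq_one]; exact h2
      calc f * a = f * a * f⁻¹ * f := by group
        _ = a * f := by rw [h5]
    have h6 : f ∈ F ⊓ Subgroup.centralizer {a} :=
      Subgroup.mem_inf.2 ⟨hfF, mem_centralizer_singleton.2 h4.symm⟩
    rw [hrel.fpf a haB ha1, Subgroup.mem_bot] at h6
    exact h6
  -- `p`-elements of `N` act semiregularly on `B`
  have hsemi : ∀ s ∈ N, (∃ k, orderOf s = p ^ k) → s ≠ 1 → ∀ b ∈ B, b ≠ 1 → s * b ≠ b * s := by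
    intro s hsN ⟨k, hk⟩ hs1 b hb hb1 hsb
    have hZp : IsPGroup p (Subgroup.zpowers s) :=
      IsPGroup.of_card (n := k) (by rw [Nat.card_zpowers, hk])
    have hYp : IsPGroup p (F ⊔ Subgroup.zpowers s : Subgroup G) := hFp.to_sup_of_normal_left hZp
    obtain ⟨x, hxF, hx1, hxY⟩ := exists_central_in_normal (F ⊔ Subgroup.zpowers s) F hYp le_sup_left
      (by rw [Subgroup.normalizer_eq_top_iff.2 hFn]; exact le_top) hF
    have hxs : x * s = s * x := hxY s ((le_sup_right : Subgroup.zpowers s ≤ _) (Subgroup.mem_zpowers s))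
    have hxb : Commute x b := by
      apply commute_in_nilpotent (q := p) (Subgroup.centralizer ({s} : Set G)) (hCN s hs1) x b
        (mem_centralizer_singleton.2 hxs.symm) (mem_centralizer_singleton.2 hsb)
        (pelt_of_mem_pgroup hFp hxF)
      exact Nat.Coprime.coprime_dvd_left (Subgroup.orderOf_dvd_natCard B hb) hBcop
    have h6 : x ∈ F ⊓ Subgroup.centralizer {b} :=
      Subgroup.mem_inf.2 ⟨hxF, mem_centralizer_singleton.2 hxb.eq.symm⟩
    rw [hrel.fpf b hb hb1, Subgroup.mem_bot] at h6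
    exact hx1 h6
  -- an element of order `p` in `N`
  obtain ⟨S⟩ : Nonempty (Sylow p G) := inferInstance
  obtain ⟨mS, hmS⟩ := (IsPGroup.iff_card).1 S.isPGroup'
  have hFS : F ≤ (S : Subgroup G) := pCore_le_sylow S
  have hkm : kF < mS := by
    have h1 : Nat.card F < Nat.card (S : Subgroup G) := by
      rcases (Subgroup.card_le_of_le hFS).lt_or_eq with h | h
      · exact h
      · exact absurd (Subgroup.eq_of_le_of_card_ge hFS h.ge).symm (hFnotSyl S)
    rw [hkF, hmS] at h1
    exact (Nat.pow_lt_pow_iff_right hp.out.one_lt).1 h1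
  have hcardNF : Nat.card N * Nat.card F = Nat.card G := by
    have h1 := Cfsg.Agent.Lib.Helper2.card_sup_mul_card_inf N F
      (by rw [Subgroup.normalizer_eq_top_iff.2 hFn]; exact le_top)
    rw [hNBF, hNF, Subgroup.card_bot, mul_one, Subgroup.card_top] at h1
    exact h1.symm
  have hpN : p ∣ Nat.card N := by
    have h1 : p ^ mS ∣ Nat.card G := hmS ▸ Subgroup.card_subgroup_dvd_card (S : Subgroup G)
    have h2 : p ^ (kF + 1) ∣ Nat.card G := (pow_dvd_pow p (by omega)).trans h1
    rw [← hcardNF, hkF, pow_succ, mul_comm (p ^ kF) p] at h2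
    exact (Nat.mul_dvd_mul_iff_right (pow_pos hp.out.pos kF)).1 h2
  obtain ⟨s₀', hs₀'⟩ := exists_prime_orderOf_dvd_card' (G := ↥N) p hpN
  obtain ⟨s₀, hs₀⟩ : ∃ s₀ : G, s₀ = (s₀' : G) := ⟨_, rfl⟩
  have hs₀N : s₀ ∈ N := hs₀ ▸ s₀'.2
  have hs₀o : orderOf s₀ = p := by rw [hs₀, Subgroup.orderOf_coe]; exact hs₀'
  have hs₀1 : s₀ ≠ 1 := by
    intro h
    rw [h, orderOf_one] at hs₀o
    exact hp.out.one_lt.ne hs₀o
  -- `B` has odd order
  have hBodd : Odd (Nat.card B) := by
    rw [← Nat.not_even_iff_odd, even_iff_two_dvd]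
    intro h2
    haveI : Fact (Nat.Prime 2) := ⟨Nat.prime_two⟩
    obtain ⟨t', ht'⟩ := exists_prime_orderOf_dvd_card' (G := ↥B) 2 h2
    obtain ⟨t, ht⟩ : ∃ t : G, t = (t' : G) := ⟨_, rfl⟩
    have htB : t ∈ B := ht ▸ t'.2
    have hto : orderOf t = 2 := by rw [ht, Subgroup.orderOf_coe]; exact ht'
    have ht1 : t ≠ 1 := by
      intro h
      rw [h, orderOf_one] at hto
      omega
    have hct : s₀ * t * s₀⁻¹ ∈ B := (Subgroup.mem_normalizer_iff.1 hs₀N t).1 htB
    have hcto : orderOf (s₀ * t * s₀⁻¹) = 2 := by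
      rw [← MulAut.conj_apply, MulEquiv.orderOf_eq]; exact hto
    have heq := huniq 2 (Subgroup.zpowers (s₀ * t * s₀⁻¹)) (Subgroup.zpowers t)
      (Subgroup.zpowers_le.2 hct) (Subgroup.zpowers_le.2 htB)
      (by rw [Nat.card_zpowers, hcto]) (by rw [Nat.card_zpowers, hto])
    have hmem : s₀ * t * s₀⁻¹ ∈ Subgroup.zpowers t := heq ▸ Subgroup.mem_zpowers _
    rw [mem_zpowers_iff_mem_range_orderOf, hto] at hmem
    simp only [Finset.mem_image, Finset.mem_range] at hmem
    obtain ⟨i, hi, hie⟩ := hmem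
    have hcomm : s₀ * t = t * s₀ := by
      interval_cases i
      · exfalso
        rw [pow_zero] at hie
        rw [← hie, orderOf_one] at hcto
        omega
      · rw [pow_one] at hie
        calc s₀ * t = s₀ * t * s₀⁻¹ * s₀ := by group
          _ = t * s₀ := by rw [← hie]
    exact hsemi s₀ hs₀N ⟨1, by rw [hs₀o, pow_one]⟩ hs₀1 t htB ht1 hcomm
  -- `B` is cyclic
  have hBcyc : IsCyclic ↥B := by
    haveI := hBnil
    haveI : IsZGroup ↥B := by
      constructor
      intro r hr P
      haveI : Fact r.Prime := ⟨hr⟩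
      have hu : ∀ H K : Subgroup ↥(P : Subgroup ↥B), Nat.card H = r → Nat.card K = r → H = K := by
        intro H K hH hK
        have hinj : Function.Injective (B.subtype.comp (P : Subgroup ↥B).subtype) :=
          B.subtype_injective.comp (P : Subgroup ↥B).subtype_injective
        have h1 := huniq r (H.map (B.subtype.comp (P : Subgroup ↥B).subtype))
          (K.map (B.subtype.comp (P : Subgroup ↥B).subtype))
          (by rintro _ ⟨x, -, rfl⟩; exact (x : ↥B).2) (by rintro _ ⟨x, -, rfl⟩; exact (x : ↥B).2)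
          (by rw [Subgroup.card_map_of_injective hinj]; exact hH)
          (by rw [Subgroup.card_map_of_injective hinj]; exact hK)
        exact Subgroup.map_injective hinj h1
      rcases Cfsg.Agent.S0016.result (G := ↥(P : Subgroup ↥B)) r P.isPGroup' hu with h | ⟨h2, n, ⟨e⟩⟩
      · exact h
      · exfalso
        haveI : NeZero (2 ^ n) := ⟨by positivity⟩
        have h1 : Nat.card ↥(P : Subgroup ↥B) = 4 * 2 ^ n := by
          rw [Nat.card_congr e.toEquiv, Nat.card_eq_fintype_card, QuaternionGroup.card]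
        have h3 : 2 ∣ Nat.card B := by
          have h4 : Nat.card ↥(P : Subgroup ↥B) ∣ Nat.card B := Subgroup.card_subgroup_dvd_card _
          exact (Dvd.intro _ (by rw [h1]; ring : 2 * (2 * 2 ^ n) = Nat.card ↥(P : Subgroup ↥B))).trans h4
        rw [← even_iff_two_dvd, ← Nat.not_odd_iff_even] at h3
        exact h3 hBodd
    infer_instance
  -- order computations
  have hcardFB : Nat.card (F ⊔ B : Subgroup G) = p ^ kF * Nat.card B := by
    have h1 := Cfsg.Agent.Lib.Helper2.card_sup_mul_card_inf B F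
      (by rw [Subgroup.normalizer_eq_top_iff.2 hFn]; exact le_top)
    rw [inf_comm, hFB, Subgroup.card_bot, mul_one, sup_comm, hkF] at h1
    rw [h1, mul_comm]
  have hFBtop : F ⊔ B ≠ ⊤ := by
    intro h
    have h1 : p ^ mS ∣ Nat.card G := hmS ▸ Subgroup.card_subgroup_dvd_card (S : Subgroup G)
    rw [← Subgroup.card_top (G := G), ← h, hcardFB] at h1
    have h2 : p ^ mS ∣ p ^ kF :=
      Nat.Coprime.dvd_of_dvd_mul_right (Nat.Coprime.pow_left mS hBcop.symm) h1
    have h3 := (Nat.pow_dvd_pow_iff_le_right hp.out.one_lt).1 h2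
    omega
  have hindex : ∃ n : ℕ, (F ⊔ B).index = p ^ n := by
    have hBi : B.index = p ^ B.index.primeFactorsList.length := by
      apply Nat.eq_prime_pow_of_unique_prime_dvd Subgroup.index_ne_zero_of_finite
      intro d hd hdd
      by_contra hdp
      exact hBindex d hd hdp hdd
    have h1 : (F ⊔ B).index ∣ B.index := Subgroup.index_dvd_of_le le_sup_right
    rw [hBi] at h1
    obtain ⟨j, -, hj⟩ := (Nat.dvd_prime_pow hp.out).1 h1
    exact ⟨j, hj⟩
  -- `p'`-elements of `N` lie in `B`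
  have hNpprime : ∀ v ∈ N, (orderOf v).Coprime p → v ∈ B := by
    intro v hvN hvo
    set Z := Subgroup.zpowers v with hZ
    have hZN : Z ≤ N := by rw [hZ, Subgroup.zpowers_le]; exact hvN
    have h1 := Cfsg.Agent.Lib.Helper2.card_sup_mul_card_inf Z B hZN
    have hcopZB : (Nat.card (Z ⊔ B : Subgroup G)).Coprime p := by
      have h2 : Nat.card (Z ⊔ B : Subgroup G) ∣ Nat.card Z * Nat.card B := Dvd.intro _ h1
      apply Nat.Coprime.coprime_dvd_left h2
      apply Nat.Coprime.mul_left _ hBcop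
      rw [hZ, Nat.card_zpowers]; exact hvo
    have h3 : Nat.card (Z ⊔ B : Subgroup G) ∣ Nat.card B := by
      have h4 : Nat.card (Z ⊔ B : Subgroup G) ∣ Nat.card G := Subgroup.card_subgroup_dvd_card _
      rw [← Subgroup.card_mul_index B] at h4
      obtain ⟨n, hn⟩ : ∃ n : ℕ, B.index = p ^ n := by
        refine ⟨_, Nat.eq_prime_pow_of_unique_prime_dvd Subgroup.index_ne_zero_of_finite ?_⟩
        intro d hd hdd
        by_contra hdp
        exact hBindex d hd hdp hdd
      rw [hn] at h4
      exact Nat.Coprime.dvd_of_dvd_mul_right (Nat.Coprime.pow_right n hcopZB) h4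
    have h5 : Z ⊔ B = B := by
      symm
      apply Subgroup.eq_of_le_of_card_ge le_sup_right
      exact Nat.le_of_dvd Nat.card_pos h3
    rw [← h5]
    exact (le_sup_left : Z ≤ Z ⊔ B) (Subgroup.mem_zpowers v)
  refine ⟨hF, B, ?_, hBcyc, hBodd, hBcop, hFBn, hFBtop, hindex, hrel.fpf, ?_⟩
  · intro h
    rw [h] at haB
    exact ha1 (Subgroup.mem_bot.1 haB)
  · intro x hx a' ha'B ha'1 hcomm
    -- write `x = n * f`
    have hxtop : x ∈ ((N ⊔ F : Subgroup G) : Set G) := by rw [hNBF]; exact Subgroup.mem_top x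
    rw [Subgroup.mul_normal, Set.mem_mul] at hxtop
    obtain ⟨n, hnN, f, hfF, rfl⟩ := hxtop
    have hnN' : n ∈ N := hnN
    have hfF' : f ∈ F := hfF
    -- `n` commutes with `a'`
    have h1 : n * a' * n⁻¹ ∈ B := (Subgroup.mem_normalizer_iff.1 hnN' a').1 ha'B
    have h2 : n * a' * n⁻¹ * a'⁻¹ ∈ F := by
      have hf₂ : n * (f * (a' * f⁻¹ * a'⁻¹)) * n⁻¹ ∈ F :=
        hFn.conj_mem _ (F.mul_mem hfF' (hFn.conj_mem _ (F.inv_mem hfF') a')) n
      have e : n * a' * n⁻¹ * a'⁻¹ =
          (n * (f * (a' * f⁻¹ * a'⁻¹)) * n⁻¹)⁻¹ * (n * f * a' * (n * f)⁻¹ * a'⁻¹) := by group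
      rw [e]
      exact F.mul_mem (F.inv_mem hf₂) hcomm
    have h3 : n * a' * n⁻¹ * a'⁻¹ ∈ F ⊓ B :=
      Subgroup.mem_inf.2 ⟨h2, B.mul_mem h1 (B.inv_mem ha'B)⟩
    rw [hFB, Subgroup.mem_bot] at h3
    have hna : n * a' = a' * n := by
      have h5 : n * a' * n⁻¹ = a' := by rw [← mul_inv_eq_one]; exact h3
      calc n * a' = n * a' * n⁻¹ * n := by group
        _ = a' * n := by rw [h5]
    -- decompose `n`
    obtain ⟨u, v, huv, hu, hv, huo, hvo⟩ := elt_pi_decomp ({p} : Set ℕ) n
    have huN : u ∈ N := (Subgroup.zpowers_le.2 hnN') hu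
    have hvN : v ∈ N := (Subgroup.zpowers_le.2 hnN') hv
    have hvB : v ∈ B := by
      apply hNpprime v hvN
      apply Nat.Coprime.symm
      rw [Nat.Prime.coprime_iff_not_dvd hp.out]
      intro hd
      exact hvo p hp.out hd rfl
    have hnZ : Subgroup.zpowers n ≤ Subgroup.centralizer ({a'} : Set G) := by
      rw [Subgroup.zpowers_le]
      exact mem_centralizer_singleton.2 hna.symm
    have hua : u * a' = a' * u := (mem_centralizer_singleton.1 (hnZ hu)).symm
    have huo' : ∃ k, orderOf u = p ^ k := by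
      refine ⟨_, Nat.eq_prime_pow_of_unique_prime_dvd (orderOf_pos u).ne' ?_⟩
      intro d hd hdd
      exact huo d hd hdd
    by_cases hu1 : u = 1
    · apply hx
      rw [← huv, hu1, one_mul]
      exact (F ⊔ B).mul_mem ((le_sup_right : B ≤ F ⊔ B) hvB) ((le_sup_left : F ≤ F ⊔ B) hfF')
    · exact hsemi u huN huo' hu1 a' ha'B ha'1 hua

end caseB

/-- Let G be a finite solvable group in which every non-identity element has nilpotent centralizer. Then either G is nilpotent; or G has a normal subgroup K with a Frobenius complement E (K E = G, K ∩ E = 1, E meets its conjugates by outside elements trivially) such that E is cyclic or E is generated by two elementwise-commuting subgroups, one cyclic of odd order and one isomorphic to a generalized quaternion group; or G is a three-step group with respect to some prime p. -/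
theorem result {G : Type*} [Group G] [Finite G] [Group.IsSolvable G] (hCN : Cfsg.IsCNGroup G) :
    Group.IsNilpotent G ∨
      (∃ K E : Subgroup G, K.Normal ∧ Subgroup.IsComplement' K E ∧ Cfsg.IsFrobeniusComplement E ∧
        (IsCyclic E ∨ ∃ C Q : Subgroup G, C ⊔ Q = E ∧ (∀ a ∈ C, ∀ b ∈ Q, a * b = b * a) ∧ IsCyclic C ∧ Odd (Nat.card C) ∧
          ∃ n : ℕ, Nonempty (↥Q ≃* QuaternionGroup (2 ^ n)))) ∨
      ∃ p : ℕ, p.Prime ∧ Cfsg.IsThreeStepGroup p G := by
  by_cases hnn : Group.IsNilpotent G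
  · exact Or.inl hnn
  right
  by_cases hFH : fittingHall G = ⊥
  · -- case B
    right
    haveI : Nontrivial G := by
      by_contra hnt
      rw [not_nontrivial_iff_subsingleton] at hnt
      exact hnn inferInstance
    obtain ⟨r, hr, M₀, hM₀n, hM₀ne, hM₀p, -⟩ :=
      Cfsg.Agent.Lib.Lead.HallCount.exists_min_normal_pgroup G
    have hF : pCore r G ≠ ⊥ := by
      intro h
      have := le_pCore M₀ hM₀n hM₀p
      rw [h, le_bot_iff] at this
      exact hM₀ne this
    exact ⟨r, hr.out, caseB hCN hFH hF⟩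
  · -- case A
    left
    have hcard : Nat.card (fittingHall G) ≠ 1 := fun h => hFH (Subgroup.card_eq_one.1 h)
    obtain ⟨q, hq, hqd⟩ := Nat.exists_prime_and_dvd hcard
    haveI : Fact q.Prime := ⟨hq⟩
    obtain ⟨Q⟩ : Nonempty (Sylow q G) := inferInstance
    obtain ⟨hQn, hQle⟩ := fh_sylow hqd Q
    have hQ1 : (Q : Subgroup G) ≠ ⊥ :=
      Q.ne_bot_of_dvd_card (hqd.trans (Subgroup.card_subgroup_dvd_card _))
    obtain ⟨hH1, -, ⟨E, hc, hFrob, hfpf⟩, hquot⟩ := Cfsg.Agent.S1474.result hCN hnn q Q hQ1 hQn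
    haveI := hquot
    have hEnil : Group.IsNilpotent ↥E := Group.nilpotent_of_mulEquiv hc.symm.QuotientMulEquiv
    exact ⟨fittingHall G, E, fittingHall_normal G, hc, hFrob,
      nilp_frobcomp_structure (fittingHall G) E hc hH1 hfpf hEnil⟩

end Cfsg.Agent.S1476
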