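import Mathlib
import Cfsg.Statements.S1477
import Cfsg.Agent.S4242
import Cfsg.Agent.Lib.Helper7.EltDecomp
import Cfsg.Agent.Lib.Helper7.Conj

set_option autoImplicit false

open Cfsg

namespace Cfsg.Agent.S1477

open Cfsg.Agent.Lib.Helper7

/-- `p`-elements of a nilpotent subgroup lie in each of its Sylow `p`-subgroups. -/
theorem mem_sylow_of_nilpotent {G : Type*} [Group G] [Finite G] {p : ℕ} [Fact p.Prime]
    (K : Subgroup G) (hK : Group.IsNilpotent ↥K) (P : Sylow p ↥K)
    (c : G) (hc : c ∈ K) (hco : ∃ k, orderOf c = p ^ k) :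
    (⟨c, hc⟩ : ↥K) ∈ (P : Subgroup ↥K) := by
  haveI := hK
  haveI hPn : (P : Subgroup ↥K).Normal := inferInstance
  obtain ⟨k, hk⟩ := hco
  have hz : IsPGroup p (Subgroup.zpowers (⟨c, hc⟩ : ↥K)) := by
    apply IsPGroup.of_card (n := k)
    rw [Nat.card_zpowers, Subgroup.orderOf_mk, hk]
  obtain ⟨S', hS'⟩ := hz.exists_le_sylow
  haveI := Sylow.unique_of_normal P hPn
  have : S' = P := Subsingleton.elim _ _
  rw [← this]
  exact hS' (Subgroup.mem_zpowers _)

theorem central_of_commute_pelts {G : Type*} [Group G] [Finite G] {p : ℕ} [hp : Fact p.Prime]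
    (K : Subgroup G) (hK : Group.IsNilpotent ↥K)
    (z : G) (hzK : z ∈ K) (hzo : ∃ k, orderOf z = p ^ k)
    (hcomm : ∀ v ∈ K, (∃ k, orderOf v = p ^ k) → v * z = z * v) : ∀ h ∈ K, h * z = z * h := by
  intro h hh
  obtain ⟨u, v, huv, hu, hv, huo, hvo⟩ := elt_pi_decomp ({p} : Set ℕ) h
  have huK : u ∈ K := by
    obtain ⟨i, rfl⟩ := Subgroup.mem_zpowers_iff.1 hu
    exact K.zpow_mem hh i
  have hvK : v ∈ K := by
    obtain ⟨i, rfl⟩ := Subgroup.mem_zpowers_iff.1 hv
    exact K.zpow_mem hh i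
  have hu1 : u * z = z * u := by
    apply hcomm u huK
    have h0 : orderOf u ≠ 0 := (orderOf_pos u).ne'
    exact ⟨_, Nat.eq_prime_pow_of_unique_prime_dvd h0 (fun {d} hd hdu => huo d hd hdu)⟩
  have hv1 : z * v = v * z := by
    apply Cfsg.Agent.S4242.commute_in_nilpotent K hK z v hzK hvK hzo
    rw [Nat.coprime_comm, Nat.Prime.coprime_iff_not_dvd hp.out]
    intro hd
    exact hvo p hp.out hd rfl
  rw [← huv, mul_assoc, ← hv1, ← mul_assoc, hu1, mul_assoc]

theorem exists_center_elt {P : Type*} [Group P] [Finite P] [Nontrivial P] {p : ℕ}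
    [hp : Fact p.Prime] (hP : IsPGroup p P) : ∃ ζ : P, orderOf ζ = p ∧ ∀ s : P, s * ζ = ζ * s := by
  haveI : Nontrivial (Subgroup.center P) := hP.center_nontrivial
  have hpZ : p ∣ Nat.card (Subgroup.center P) := by
    obtain ⟨n, hn⟩ := (IsPGroup.iff_card).1 (hP.to_subgroup (Subgroup.center P))
    rw [hn]
    have : n ≠ 0 := by
      rintro rfl
      rw [pow_zero] at hn
      have := Finite.one_lt_card (α := Subgroup.center P)
      omega
    exact dvd_pow_self p this
  obtain ⟨ζ, hζ⟩ := exists_prime_orderOf_dvd_card' p hpZ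
  refine ⟨(ζ : P), by rw [Subgroup.orderOf_coe]; exact hζ, ?_⟩
  intro s
  exact (Subgroup.mem_center_iff.1 ζ.2) s

theorem exists_central_of_dvd {G : Type*} [Group G] [Finite G] {p : ℕ} [hp : Fact p.Prime]
    (K : Subgroup G) (hK : Group.IsNilpotent ↥K) (hpK : p ∣ Nat.card K) :
    ∃ x ∈ K, orderOf x = p ∧ ∀ h ∈ K, h * x = x * h := by
  obtain ⟨P⟩ : Nonempty (Sylow p ↥K) := inferInstance
  have hPne : (P : Subgroup ↥K) ≠ ⊥ := P.ne_bot_of_dvd_card hpK
  haveI : Nontrivial ↥(P : Subgroup ↥K) := (Subgroup.nontrivial_iff_ne_bot _).2 hPne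
  obtain ⟨ζ, hζo, hζc⟩ := exists_center_elt (p := p) P.2
  set x : G := ((ζ : ↥K) : G) with hx
  have hxK : x ∈ K := (ζ : ↥K).2
  have hxo : orderOf x = p := by
    rw [hx, Subgroup.orderOf_coe, Subgroup.orderOf_coe]; exact hζo
  refine ⟨x, hxK, hxo, ?_⟩
  apply central_of_commute_pelts K hK x hxK ⟨1, by rw [hxo, pow_one]⟩
  intro v hv hvo
  have hvP := mem_sylow_of_nilpotent K hK P v hv hvo
  have := hζc ⟨⟨v, hv⟩, hvP⟩
  have h2 := congrArg (fun t : ↥(P : Subgroup ↥K) => ((t : ↥K) : G)) this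
  simpa using h2

theorem centralizer_eq {G : Type*} [Group G] [Finite G] (hCN : Cfsg.IsCNGroup G) (K : Subgroup G)
    (hmax : ∀ L : Subgroup G, Group.IsNilpotent L → K ≤ L → L = K) (z : G) (hz1 : z ≠ 1)
    (hzc : ∀ h ∈ K, h * z = z * h) : Subgroup.centralizer ({z} : Set G) = K := by
  apply hmax _ (hCN z hz1)
  intro h hh
  rw [Subgroup.mem_centralizer_iff]
  intro w hw
  rw [Set.mem_singleton_iff] at hw
  rw [hw]
  exact (hzc h hh).symm

theorem ne_one_of_orderOf_prime {G : Type*} [Group G] {x : G} {p : ℕ} (hp : p.Prime)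
    (hx : orderOf x = p) : x ≠ 1 := by
  intro h
  rw [h, orderOf_one] at hx
  exact hp.one_lt.ne hx

theorem hall {G : Type*} [Group G] [Finite G] (hCN : Cfsg.IsCNGroup G) (H : Subgroup G)
    (hH : Group.IsNilpotent H)
    (hmax : ∀ L : Subgroup G, Group.IsNilpotent L → H ≤ L → L = H) :
    (Nat.card H).Coprime H.index := by
  by_contra hnc
  obtain ⟨p, hp, h1, h2⟩ := Nat.Prime.not_coprime_iff_dvd.1 hnc
  haveI := Fact.mk hp
  obtain ⟨x, hxH, hxo, hxc⟩ := exists_central_of_dvd H hH h1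
  have hx1 : x ≠ 1 := ne_one_of_orderOf_prime hp hxo
  have hCx := centralizer_eq hCN H hmax x hx1 hxc
  obtain ⟨P⟩ : Nonempty (Sylow p ↥H) := inferInstance
  have hPHp : IsPGroup p ((P : Subgroup ↥H).map H.subtype) := P.2.map H.subtype
  obtain ⟨S, hS⟩ := hPHp.exists_le_sylow
  have hpS : ∀ v ∈ H, (∃ k, orderOf v = p ^ k) → v ∈ (S : Subgroup G) := by
    intro v hv hvo
    exact hS ⟨⟨v, hv⟩, mem_sylow_of_nilpotent H hH P v hv hvo, rfl⟩
  have hxS : x ∈ (S : Subgroup G) := hpS x hxH ⟨1, by rw [hxo, pow_one]⟩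
  haveI : Nontrivial ↥(S : Subgroup G) :=
    ⟨⟨⟨x, hxS⟩, 1, fun h => hx1 (congrArg Subtype.val h)⟩⟩
  obtain ⟨ζ, hζo, hζc⟩ := exists_center_elt (p := p) S.2
  set z : G := (ζ : G) with hz
  have hzo : orderOf z = p := by rw [hz, Subgroup.orderOf_coe]; exact hζo
  have hzS : ∀ s ∈ (S : Subgroup G), s * z = z * s := by
    intro s hs
    have := hζc ⟨s, hs⟩
    exact congrArg Subtype.val this
  have hz1 : z ≠ 1 := ne_one_of_orderOf_prime hp hzo
  have hzH : z ∈ H := by
    rw [← hCx, Subgroup.mem_centralizer_iff]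
    intro w hw
    rw [Set.mem_singleton_iff] at hw
    rw [hw]
    exact hzS x hxS
  have hzc : ∀ h ∈ H, h * z = z * h := by
    apply central_of_commute_pelts H hH z hzH ⟨1, by rw [hzo, pow_one]⟩
    intro v hv hvo
    exact hzS v (hpS v hv hvo)
  have hCz := centralizer_eq hCN H hmax z hz1 hzc
  have hSH : (S : Subgroup G) ≤ H := by
    rw [← hCz]
    intro s hs
    rw [Subgroup.mem_centralizer_iff]
    intro w hw
    rw [Set.mem_singleton_iff] at hw
    rw [hw]
    exact (hzS s hs).symm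
  exact S.not_dvd_index (dvd_trans h2 (Subgroup.index_dvd_of_le hSH))

theorem conj_nilp {G : Type*} [Group G] (H : Subgroup G) (hH : Group.IsNilpotent ↥H) (g : G) :
    Group.IsNilpotent ↥(H.map (MulAut.conj g).toMonoidHom) := by
  haveI := hH
  exact Group.nilpotent_of_mulEquiv (H.equivMapOfInjective _ (MulAut.conj g).injective)

theorem conj_max {G : Type*} [Group G] (H : Subgroup G)
    (hmax : ∀ L : Subgroup G, Group.IsNilpotent L → H ≤ L → L = H) (g : G) :
    ∀ L : Subgroup G, Group.IsNilpotent ↥L → H.map (MulAut.conj g).toMonoidHom ≤ L →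
      L = H.map (MulAut.conj g).toMonoidHom := by
  intro L hL hle
  have h1 : H ≤ L.map (MulAut.conj g⁻¹).toMonoidHom := by
    intro h hh
    rw [mem_map_conj]
    have : g * h * g⁻¹ ∈ L := hle ⟨h, hh, by simp [MulAut.conj_apply]⟩
    simpa using this
  have h2 := hmax _ (conj_nilp L hL g⁻¹) h1
  rw [← h2, ← map_conj_mul, mul_inv_cancel, map_conj_one]

theorem lemF {G : Type*} [Group G] [Finite G] (hCN : Cfsg.IsCNGroup G) (K : Subgroup G)
    (hK : Group.IsNilpotent K)
    (hmax : ∀ L : Subgroup G, Group.IsNilpotent L → K ≤ L → L = K) {r s : ℕ}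
    [hr : Fact r.Prime] [hs : Fact s.Prime] (hrs : s ≠ r)
    (y : G) (hyK : y ∈ K) (hyo : orderOf y = r) (hsK : s ∣ Nat.card K)
    (w : G) (hw1 : w ≠ 1) (hwo : ∃ k, orderOf w = s ^ k)
    (hwc : ∀ v : G, v * y = y * v → v * w = w * v) :
    Subgroup.centralizer ({w} : Set G) = K := by
  obtain ⟨u, huK, huo, huc⟩ := exists_central_of_dvd (p := s) K hK hsK
  have hu1 : u ≠ 1 := ne_one_of_orderOf_prime hs.out huo
  have hCu := centralizer_eq hCN K hmax u hu1 huc
  have huy : u * y = y * u := (huc y hyK).symm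
  have hwu : u * w = w * u := hwc u huy
  have hwK : w ∈ K := by
    rw [← hCu, Subgroup.mem_centralizer_iff]
    intro t ht
    rw [Set.mem_singleton_iff] at ht
    rw [ht]; exact hwu
  have hwcK : ∀ h ∈ K, h * w = w * h := by
    apply central_of_commute_pelts (p := s) K hK w hwK hwo
    intro v hv hvo
    apply hwc
    have hyo' : (orderOf y).Coprime s := by
      rw [hyo]; exact (Nat.coprime_primes hr.out hs.out).2 (Ne.symm hrs)
    exact Cfsg.Agent.S4242.commute_in_nilpotent K hK v y hv hyK hvo hyo'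
  exact centralizer_eq hCN K hmax w hw1 hwcK

/-- Let G be a finite group in which every non-identity element has nilpotent centralizer, and H a nilpotent subgroup not properly contained in any nilpotent subgroup. Then the order of H is coprime to its index; if the order of H is not a prime power then H ∩ gHg⁻¹ = 1 whenever gHg⁻¹ ≠ H; and if H ∩ gHg⁻¹ = 1 whenever gHg⁻¹ ≠ H, then C_G(x) ≤ H for every non-identity x ∈ H. -/
theorem result {G : Type*} [Group G] [Finite G] (hCN : Cfsg.IsCNGroup G) (H : Subgroup G) (hH : Group.IsNilpotent H)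
    (hmax : ∀ L : Subgroup G, Group.IsNilpotent L → H ≤ L → L = H) :
    (Nat.card H).Coprime H.index ∧
      (¬ IsPrimePow (Nat.card H) → Nat.card H ≠ 1 → ∀ g : G, H.map (MulAut.conj g).toMonoidHom ≠ H → H ⊓ H.map (MulAut.conj g).toMonoidHom = ⊥) ∧
      ((∀ g : G, H.map (MulAut.conj g).toMonoidHom ≠ H → H ⊓ H.map (MulAut.conj g).toMonoidHom = ⊥) → ∀ x ∈ H, x ≠ 1 → Subgroup.centralizer ({x} : Set G) ≤ H) := by
  classical
  have hhall := hall hCN H hH hmax
  refine ⟨hhall, ?_, ?_⟩
  · intro hnpp hne1 g hg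
    by_contra hne
    obtain ⟨y0, hy0, hy01⟩ : ∃ y ∈ H ⊓ H.map (MulAut.conj g).toMonoidHom, y ≠ 1 := by
      by_contra hcon
      push Not at hcon
      apply hne
      rw [eq_bot_iff]
      intro y hy
      rw [Subgroup.mem_bot]
      exact hcon y hy
    obtain ⟨r, hr, hrd⟩ := Nat.exists_prime_and_dvd
      (show orderOf y0 ≠ 1 from fun h => hy01 (orderOf_eq_one_iff.1 h))
    set y := y0 ^ (orderOf y0 / r) with hy
    have hyo : orderOf y = r := orderOf_pow_orderOf_div (orderOf_pos y0).ne' hrd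
    have hyI : y ∈ H ⊓ H.map (MulAut.conj g).toMonoidHom := Subgroup.pow_mem _ hy0 _
    obtain ⟨s, hs, hsH, hsr⟩ : ∃ s : ℕ, s.Prime ∧ s ∣ Nat.card H ∧ s ≠ r := by
      by_contra hcon
      push Not at hcon
      apply hnpp
      have h3 := Nat.eq_prime_pow_of_unique_prime_dvd (Nat.card_pos (α := ↥H)).ne'
        (fun {d} hd hdd => hcon d hd hdd)
      rw [h3]
      apply IsPrimePow.pow hr.isPrimePow
      intro h0
      rw [h0, pow_zero] at h3
      exact hne1 h3
    haveI := Fact.mk hr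
    haveI := Fact.mk hs
    have hy1 : y ≠ 1 := ne_one_of_orderOf_prime hr hyo
    have hN := hCN y hy1
    obtain ⟨u, huH, huo, huc⟩ := exists_central_of_dvd (p := s) H hH hsH
    have huN : u ∈ Subgroup.centralizer ({y} : Set G) := by
      rw [Subgroup.mem_centralizer_iff]
      intro t ht
      rw [Set.mem_singleton_iff] at ht
      rw [ht]; exact huc y (Subgroup.mem_inf.1 hyI).1
    have hsN : s ∣ Nat.card (Subgroup.centralizer ({y} : Set G)) := by
      have := orderOf_dvd_natCard (⟨u, huN⟩ : ↥(Subgroup.centralizer ({y} : Set G)))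
      rwa [Subgroup.orderOf_mk, huo] at this
    obtain ⟨w, hwN, hwo, hwc⟩ := exists_central_of_dvd (p := s) _ hN hsN
    have hw1 : w ≠ 1 := ne_one_of_orderOf_prime hs hwo
    have hwc' : ∀ v : G, v * y = y * v → v * w = w * v := by
      intro v hv
      apply hwc
      rw [Subgroup.mem_centralizer_iff]
      intro t ht
      rw [Set.mem_singleton_iff] at ht
      rw [ht]; exact hv.symm
    have e1 := lemF hCN H hH hmax hsr y (Subgroup.mem_inf.1 hyI).1 hyo hsH w hw1
      ⟨1, by rw [hwo, pow_one]⟩ hwc'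
    have e2 := lemF hCN _ (conj_nilp H hH g) (conj_max H hmax g) hsr y
      (Subgroup.mem_inf.1 hyI).2 hyo (by rw [card_map_conj]; exact hsH) w hw1
      ⟨1, by rw [hwo, pow_one]⟩ hwc'
    exact hg (e2.symm.trans e1)
  · intro hTI x hxH hx1
    obtain ⟨r, hr, hrd⟩ := Nat.exists_prime_and_dvd
      (show orderOf x ≠ 1 from fun h => hx1 (orderOf_eq_one_iff.1 h))
    set x' := x ^ (orderOf x / r) with hx'
    have hx'o : orderOf x' = r := orderOf_pow_orderOf_div (orderOf_pos x).ne' hrd
    have hx'H : x' ∈ H := Subgroup.pow_mem _ hxH _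
    have hx'1 : x' ≠ 1 := ne_one_of_orderOf_prime hr hx'o
    haveI := Fact.mk hr
    have hle : Subgroup.centralizer ({x} : Set G) ≤ Subgroup.centralizer ({x'} : Set G) := by
      intro c hc
      rw [Subgroup.mem_centralizer_iff] at hc ⊢
      intro t ht
      rw [Set.mem_singleton_iff] at ht
      rw [ht]
      have h3 : Commute x c := hc x rfl
      exact (h3.pow_left _).eq
    refine le_trans hle ?_
    intro c hc
    have hcx : x' * c = c * x' := (Subgroup.mem_centralizer_iff.1 hc) x' rfl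
    have hC := hCN x' hx'1
    have hrH : r ∣ Nat.card H := by
      have := orderOf_dvd_natCard (⟨x', hx'H⟩ : ↥H)
      rwa [Subgroup.orderOf_mk, hx'o] at this
    obtain ⟨z, hzH, hzo, hzc⟩ := exists_central_of_dvd (p := r) H hH hrH
    have hz1 : z ≠ 1 := ne_one_of_orderOf_prime hr hzo
    have hCz := centralizer_eq hCN H hmax z hz1 hzc
    have hzC : z ∈ Subgroup.centralizer ({x'} : Set G) := by
      rw [Subgroup.mem_centralizer_iff]
      intro t ht
      rw [Set.mem_singleton_iff] at ht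
      rw [ht]; exact hzc x' hx'H
    obtain ⟨a, b, hab, ha, hb, hao, hbo⟩ := elt_pi_decomp ({r} : Set ℕ) c
    have haC : a ∈ Subgroup.centralizer ({x'} : Set G) := by
      obtain ⟨i, rfl⟩ := Subgroup.mem_zpowers_iff.1 ha
      exact Subgroup.zpow_mem _ hc i
    have hbC : b ∈ Subgroup.centralizer ({x'} : Set G) := by
      obtain ⟨i, rfl⟩ := Subgroup.mem_zpowers_iff.1 hb
      exact Subgroup.zpow_mem _ hc i
    have hbH : b ∈ H := by
      rw [← hCz, Subgroup.mem_centralizer_iff]
      intro t ht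
      rw [Set.mem_singleton_iff] at ht
      rw [ht]
      apply Cfsg.Agent.S4242.commute_in_nilpotent _ hC z b hzC hbC ⟨1, by rw [hzo, pow_one]⟩
      rw [Nat.coprime_comm, Nat.Prime.coprime_iff_not_dvd hr]
      intro hd
      exact hbo r hr hd rfl
    have hax : x' * a = a * x' := (Subgroup.mem_centralizer_iff.1 haC) x' rfl
    have haN : a ∈ Subgroup.normalizer (H : Set G) := by
      by_contra hnot
      have hne : H.map (MulAut.conj a).toMonoidHom ≠ H :=
        fun h => hnot ((map_conj_eq_self_iff H a).1 h)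
      have h4 := hTI a hne
      have hx'mem : x' ∈ H ⊓ H.map (MulAut.conj a).toMonoidHom := by
        refine Subgroup.mem_inf.2 ⟨hx'H, ?_⟩
        rw [mem_map_conj]
        have : a⁻¹ * x' * a = x' := by rw [mul_assoc, hax, ← mul_assoc, inv_mul_cancel, one_mul]
        rw [this]; exact hx'H
      rw [h4, Subgroup.mem_bot] at hx'mem
      exact hx'1 hx'mem
    have haH : a ∈ H := by
      set N := Subgroup.normalizer (H : Set G) with hN
      set H' : Subgroup ↥N := H.subgroupOf N with hH'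
      haveI : H'.Normal := Subgroup.normal_in_normalizer
      set q : ↥N ⧸ H' := QuotientGroup.mk' H' ⟨a, haN⟩ with hq
      have hd1 : orderOf q ∣ orderOf a := by
        have h5 := orderOf_map_dvd (QuotientGroup.mk' H') (⟨a, haN⟩ : ↥N)
        rwa [Subgroup.orderOf_mk] at h5
      have hd2 : orderOf q ∣ H.index := by
        have h5 : orderOf q ∣ Nat.card (↥N ⧸ H') := orderOf_dvd_natCard q
        have h6 : Nat.card (↥N ⧸ H') = H.relIndex N := by
          rw [← Subgroup.index_eq_card]; rfl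
        rw [h6] at h5
        exact h5.trans (Subgroup.relIndex_dvd_index_of_le Subgroup.le_normalizer)
      have h0 : orderOf a ≠ 0 := (orderOf_pos a).ne'
      have hak := Nat.eq_prime_pow_of_unique_prime_dvd h0 (fun {d} hd hdu => hao d hd hdu)
      have hcop : (orderOf a).Coprime H.index := by
        rw [hak]
        apply Nat.Coprime.pow_left
        exact Nat.Coprime.coprime_dvd_left hrH hhall
      have hq1 : orderOf q = 1 := Nat.eq_one_of_dvd_coprimes hcop hd1 hd2
      have hq2 : q = 1 := orderOf_eq_one_iff.1 hq1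
      have hq3 : (⟨a, haN⟩ : ↥N) ∈ H' := (QuotientGroup.eq_one_iff _).1 hq2
      rw [hH', Subgroup.mem_subgroupOf] at hq3
      exact hq3
    rw [← hab]
    exact H.mul_mem haH hbH

end Cfsg.Agent.S1477
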