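import Mathlib
import Cfsg.Statements.S1482
import Cfsg.Agent.Lib.Helper3.Bender7

set_option autoImplicit false
set_option linter.style.haveILetI false
open Cfsg
open Cfsg.Agent.Lib.Helper3
open scoped commutatorElement

namespace Cfsg.Agent.S1482

/-- Let G be a minimal simple group of odd order, H a maximal subgroup whose Fitting subgroup F has at least two prime divisors, and M a subgroup of F containing the centre of F such that the only M-invariant subgroup of G of order coprime to #F is the trivial one. Then H is the only maximal subgroup of G containing M. -/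
theorem result {G : Type*} [Group G] [Finite G] (hG : Cfsg.IsMinSimpleOddOrder G) (H : Subgroup G) (hH : IsCoatom H) (hF2 : 2 ≤ (Nat.card (Cfsg.fittingOf H)).primeFactors.card)
    (M : Subgroup G) (hM : M ≤ Cfsg.fittingOf H) (hZM : Cfsg.fittingOf H ⊓ Subgroup.centralizer (Cfsg.fittingOf H : Set G) ≤ M)
    (hinv : ∀ Y ∈ Cfsg.invSubgroups ⊤ M (Cfsg.primesNotDvd (Nat.card (Cfsg.fittingOf H))), Y = ⊥) :
    ∀ L : Subgroup G, IsCoatom L → M ≤ L → L = H := by
  intro L hL hML
  by_contra hne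
  obtain ⟨hodd, hsimple, hna, hsolv⟩ := hG
  haveI := hsimple
  have hHs : Group.IsSolvable ↥H := hsolv H hH.1
  have hLs : Group.IsSolvable ↥L := hsolv L hL.1
  have hcardF : Nat.card ↥(Cfsg.fittingOf H) = Nat.card ↥(Cfsg.fittingSubgroup ↥H) := by
    unfold Cfsg.fittingOf
    exact Subgroup.card_map_of_injective H.subtype_injective
  rw [hcardF] at hF2 hinv
  obtain ⟨p1, hp1, p2, hp2, hp12⟩ := Finset.one_lt_card.mp
    (by omega : 1 < (Nat.card ↥(Cfsg.fittingSubgroup ↥H)).primeFactors.card)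
  rw [Nat.mem_primeFactors] at hp1 hp2
  have hother : ∀ p : ℕ, ∃ q : ℕ, q.Prime ∧ q ∣ Nat.card ↥(Cfsg.fittingSubgroup ↥H) ∧ q ≠ p := by
    intro p
    by_cases h : p = p1
    · exact ⟨p2, hp2.1, hp2.2.1, by rw [h]; exact hp12.symm⟩
    · exact ⟨p1, hp1.1, hp1.2.1, fun h' => h h'.symm⟩
  have hZL : ∀ r : ℕ, r.Prime → zCoreOf r H ≤ L := by
    intro r hr
    haveI : Fact r.Prime := ⟨hr⟩
    exact ((zCoreOf_le_center_fitting r H).trans hZM).trans hML
  have hstep1 : ∀ q : ℕ, q.Prime → Cfsg.pCore q ↥L ≠ ⊥ →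
      q ∣ Nat.card ↥(Cfsg.fittingSubgroup ↥H) := by
    intro q hq hne'
    by_contra hnd
    haveI : Fact q.Prime := ⟨hq⟩
    apply hne'
    have hY : (Cfsg.pCore q ↥L).map L.subtype ∈ Cfsg.invSubgroups ⊤ M
        (Cfsg.primesNotDvd (Nat.card ↥(Cfsg.fittingSubgroup ↥H))) := by
      refine ⟨le_top, ?_, hML.trans (le_normalizer_map_subtype L _)⟩
      intro p hp hpd
      have hPg : IsPGroup q ↥((Cfsg.pCore q ↥L).map L.subtype) :=
        (Cfsg.Agent.Lib.Helper1.pCore_isPGroup (p := q) (G := ↥L)).map L.subtype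
      obtain ⟨k, hk⟩ := IsPGroup.iff_card.mp hPg
      rw [hk] at hpd
      have : p = q := (Nat.prime_dvd_prime_iff_eq hp hq).mp (hp.dvd_of_dvd_pow hpd)
      rw [this]
      exact ⟨hq, hnd⟩
    have := hinv _ hY
    exact (Subgroup.map_eq_bot_iff_of_injective _ L.subtype_injective).mp this
  have hPL_le_H : ∀ q : ℕ, q.Prime → (Cfsg.pCore q ↥L).map L.subtype ≤ H := by
    intro q hq
    haveI : Fact q.Prime := ⟨hq⟩
    by_cases hb : Cfsg.pCore q ↥L = ⊥
    · rw [hb, Subgroup.map_bot]; exact bot_le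
    · have hqH := hstep1 q hq hb
      obtain ⟨p, hp, hpH, hpq⟩ := hother q
      haveI : Fact p.Prime := ⟨hp⟩
      have h1 := zCoreOf_le_centralizer_pCore hH p q hpq hqH (hZL p hp) (hZL q hq)
      have h2 : (Cfsg.pCore q ↥L).map L.subtype ≤
          Subgroup.centralizer ((zCoreOf p H : Subgroup G) : Set G) :=
        Subgroup.le_centralizer_iff.mp h1
      have h3 := zCoreOf_normalizer p hH hpH
      calc (Cfsg.pCore q ↥L).map L.subtype
          ≤ Subgroup.centralizer ((zCoreOf p H : Subgroup G) : Set G) := h2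
        _ ≤ Subgroup.normalizer ((zCoreOf p H : Subgroup G) : Set G) :=
            Subgroup.centralizer_le_normalizer _
        _ = H := h3
  have hWL : (Cfsg.generalizedFittingSubgroup ↥L).map L.subtype ≤ H :=
    genFit_map_le_of_solvable hLs hPL_le_H
  have rel1 : BenderRel L H := benderRel_of_le hna hL hWL
  have hπ : ∀ q : ℕ, q.Prime → q ∣ Nat.card ↥(Cfsg.fittingSubgroup ↥H) →
      q ∣ Nat.card ↥(Cfsg.fittingSubgroup ↥L) := by
    intro q hq hqH
    by_contra hnd
    haveI : Fact q.Prime := ⟨hq⟩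
    have hbot := rel1.1 q hq hnd
    apply zCoreOf_ne_bot q H hqH
    rw [eq_bot_iff, ← hbot]
    exact le_inf (zCoreOf_le_pCore q H) (hZL q hq)
  have hPH_le_L : ∀ p : ℕ, p.Prime → (Cfsg.pCore p ↥H).map H.subtype ≤ L := by
    intro p hp
    haveI : Fact p.Prime := ⟨hp⟩
    by_cases hb : Cfsg.pCore p ↥H = ⊥
    · rw [hb, Subgroup.map_bot]; exact bot_le
    · have hpH := dvd_card_fitting_of_pCore_ne_bot p hb
      have hpL := hπ p hp hpH
      obtain ⟨q, hq, hqH, hqp⟩ := hother p
      haveI : Fact q.Prime := ⟨hq⟩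
      have hqL := hπ q hq hqH
      have hQne : Cfsg.pCore q ↥L ≠ ⊥ := pCore_ne_bot_of_dvd q hqL
      have hN := normalizer_map_eq_of_isCoatom hL (Cfsg.pCore q ↥L) inferInstance hQne
      intro x hx
      have hxC : x ∈ Subgroup.centralizer
          (((Cfsg.pCore q ↥L).map L.subtype : Subgroup G) : Set G) := by
        rw [Subgroup.mem_centralizer_iff]
        rintro _ ⟨y, hy, rfl⟩
        have hyW : y ∈ Cfsg.generalizedFittingSubgroup ↥L := by
          apply (le_sup_right :
            Cfsg.fittingSubgroup ↥L ≤ Cfsg.generalizedFittingSubgroup ↥L)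
          exact pCore_le_fitting' q hq hy
        have hyo : (orderOf y).Coprime p :=
          orderOf_coprime_of_mem_pgroup hq hp hqp
            (Cfsg.Agent.Lib.Helper1.pCore_isPGroup (p := q) (G := ↥L)) hy
        exact (rel1.2.1 p hp hpL x hx y hyW hyo).symm
      have := Subgroup.centralizer_le_normalizer _ hxC
      rwa [hN] at this
  have hWH : (Cfsg.generalizedFittingSubgroup ↥H).map H.subtype ≤ L :=
    genFit_map_le_of_solvable hHs hPH_le_L
  have rel2 : BenderRel H L := benderRel_of_le hna hH hWH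
  obtain ⟨p, hp, hpH, -⟩ := bender_symmetric hH hL rel2 rel1 (fun h => hne h.symm)
    ⟨p1, hp1.1, hp1.2.1⟩
  haveI : Fact p.Prime := ⟨hp⟩
  have hFp : IsPGroup p ↥(Cfsg.fittingSubgroup ↥H) := by
    have hle : Cfsg.fittingSubgroup ↥H ≤ Cfsg.generalizedFittingSubgroup ↥H := le_sup_right
    exact hpH.to_le hle
  obtain ⟨k, hk⟩ := IsPGroup.iff_card.mp hFp
  have e1 : p1 = p := by
    have := hp1.2.1
    rw [hk] at this
    exact (Nat.prime_dvd_prime_iff_eq hp1.1 hp).mp (hp1.1.dvd_of_dvd_pow this)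
  have e2 : p2 = p := by
    have := hp2.2.1
    rw [hk] at this
    exact (Nat.prime_dvd_prime_iff_eq hp2.1 hp).mp (hp2.1.dvd_of_dvd_pow this)
  exact hp12 (e1.trans e2.symm)

end Cfsg.Agent.S1482
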