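import Mathlib
import Cfsg.Statements.S1483
import Cfsg.Agent.Lib.Helper3.Bender7

set_option autoImplicit false
set_option linter.style.haveILetI false
open Cfsg
open Cfsg.Agent.Lib.Helper3
open scoped commutatorElement

namespace Cfsg.Agent.S1483

open scoped Pointwise

section aux

universe u

variable {G : Type u} [Group G] [Finite G]

theorem fitting_top_of_nilp (H : Subgroup G) (hn : Group.IsNilpotent ↥H) :
    Cfsg.fittingSubgroup ↥H = ⊤ := by
  haveI := hn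
  rw [eq_top_iff]
  exact le_sSup ⟨inferInstance, inferInstance⟩

theorem mem_pCore_of_nilp (H : Subgroup G) (hn : Group.IsNilpotent ↥H) (p : ℕ) [Fact p.Prime]
    (a : ↥H) (hao : ∃ k : ℕ, orderOf a = p ^ k) : a ∈ Cfsg.pCore p ↥H := by
  haveI := hn
  obtain ⟨k, hk⟩ := hao
  have h1 : IsPGroup p ↥(Subgroup.zpowers a) := by
    apply IsPGroup.of_card (n := k)
    rw [Nat.card_zpowers, hk]
  have h2 : (Subgroup.zpowers a).IsSubnormal := isSubnormal_of_nilp _
  exact subnormal_pgroup_le_pCore p h2 h1 (Subgroup.mem_zpowers a)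

theorem nil_comm (H : Subgroup G) (hn : Group.IsNilpotent ↥H) (p : ℕ) [Fact p.Prime] {a b : G}
    (ha : a ∈ H) (hb : b ∈ H) (hao : ∃ k : ℕ, orderOf a = p ^ k) (hbo : (orderOf b).Coprime p) :
    a * b = b * a := by
  have h1 : (⟨a, ha⟩ : ↥H) ∈ Cfsg.pCore p ↥H := by
    apply mem_pCore_of_nilp H hn p
    obtain ⟨k, hk⟩ := hao
    exact ⟨k, by rw [Subgroup.orderOf_mk]; exact hk⟩
  have h2 : (⟨b, hb⟩ : ↥H) ∈ Cfsg.generalizedFittingSubgroup ↥H := by
    unfold Cfsg.generalizedFittingSubgroup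
    rw [fitting_top_of_nilp H hn]
    exact Subgroup.mem_sup_right (Subgroup.mem_top _)
  have h3 : (orderOf (⟨b, hb⟩ : ↥H)).Coprime p := by
    rw [Subgroup.orderOf_mk]; exact hbo
  have h4 := pprime_genFit_centralizes_pCore p h2 h3
  have h5 := (Subgroup.mem_centralizer_iff.mp h4) ⟨a, ha⟩ h1
  exact congrArg Subtype.val h5

theorem order_of_mem_pgroup {p : ℕ} (hp : p.Prime) {A : Subgroup G} (hA : IsPGroup p ↥A) {y : G}
    (hy : y ∈ A) : ∃ k : ℕ, orderOf y = p ^ k := by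
  obtain ⟨k, hk⟩ := hA ⟨y, hy⟩
  have hk' : y ^ (p ^ k) = 1 := by simpa using congrArg Subtype.val hk
  obtain ⟨m, -, hm⟩ := (Nat.dvd_prime_pow hp).mp (orderOf_dvd_of_pow_eq_one hk')
  exact ⟨m, hm⟩

theorem exists_central (H : Subgroup G) (hn : Group.IsNilpotent ↥H) (p : ℕ) [Fact p.Prime]
    (hdvd : p ∣ Nat.card ↥H) :
    ∃ z ∈ H, z ≠ 1 ∧ (∀ h ∈ H, h * z = z * h) ∧ ∃ k : ℕ, orderOf z = p ^ k := by
  have hp := (Fact.out : p.Prime)
  have htop := fitting_top_of_nilp H hn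
  have h1 : p ∣ Nat.card ↥(Cfsg.fittingSubgroup ↥H) := by
    rw [htop, Subgroup.card_top]; exact hdvd
  have hne := zCoreOf_ne_bot p H h1
  have hF : Cfsg.fittingOf H = H := by
    unfold Cfsg.fittingOf
    rw [htop, ← MonoidHom.range_eq_map, Subgroup.range_subtype]
  obtain ⟨⟨z, hz⟩, hz1⟩ := (Subgroup.ne_bot_iff_exists_ne_one).mp hne
  have hzc := zCoreOf_le_center_fitting p H hz
  rw [hF] at hzc
  obtain ⟨hzH, hzC⟩ := Subgroup.mem_inf.mp hzc
  refine ⟨z, hzH, fun h => hz1 (Subtype.ext h), ?_, ?_⟩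
  · intro h hh
    exact (Subgroup.mem_centralizer_iff.mp hzC) h hh
  · exact order_of_mem_pgroup hp (zCoreOf_isPGroup p H) hz

def MaxNil (H : Subgroup G) : Prop :=
  Group.IsNilpotent ↥H ∧ ∀ L : Subgroup G, Group.IsNilpotent ↥L → H ≤ L → L = H

theorem cent_eq (hCN : Cfsg.IsCNGroup G) {H : Subgroup G} (hH : MaxNil H) {z : G}
    (hz1 : z ≠ 1) (hzc : ∀ h ∈ H, h * z = z * h) : Subgroup.centralizer ({z} : Set G) = H := by
  apply hH.2 _ (hCN z hz1)
  intro h hh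
  rw [Subgroup.mem_centralizer_iff]
  intro y hy
  rw [Set.mem_singleton_iff] at hy
  rw [hy]
  exact (hzc h hh).symm

theorem exists_central_pgroup {p : ℕ} [Fact p.Prime] (P : Subgroup G) (hP : IsPGroup p ↥P)
    (hne : P ≠ ⊥) : ∃ w ∈ P, w ≠ 1 ∧ ∀ y ∈ P, y * w = w * y := by
  haveI : Nontrivial ↥P := (Subgroup.nontrivial_iff_ne_bot _).mpr hne
  haveI hc : Nontrivial (Subgroup.center ↥P) := hP.center_nontrivial
  obtain ⟨z, hz⟩ := exists_ne (1 : Subgroup.center ↥P)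
  refine ⟨((z : ↥P) : G), (z : ↥P).2, ?_, ?_⟩
  · intro h
    exact hz (Subtype.ext (Subtype.ext h))
  · intro y hy
    have := Subgroup.mem_center_iff.mp z.2 ⟨y, hy⟩
    exact congrArg Subtype.val this

theorem pCore_map_eq_sylow (H : Subgroup G) (hn : Group.IsNilpotent ↥H) {p : ℕ} [Fact p.Prime]
    (P : Sylow p G) (hPH : (P : Subgroup G) ≤ H) :
    (Cfsg.pCore p ↥H).map H.subtype = (P : Subgroup G) := by
  have hp := (Fact.out : p.Prime)
  apply P.is_maximal'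
    ((Cfsg.Agent.Lib.Helper1.pCore_isPGroup (p := p) (G := ↥H)).map H.subtype)
  intro y hy
  obtain ⟨k, hk⟩ := order_of_mem_pgroup hp P.isPGroup' hy
  refine ⟨⟨y, hPH hy⟩, ?_, rfl⟩
  apply mem_pCore_of_nilp H hn p
  exact ⟨k, by rw [Subgroup.orderOf_mk]; exact hk⟩

theorem eq_cent_of_sylow (hCN : Cfsg.IsCNGroup G) {H : Subgroup G} (hH : MaxNil H) {p : ℕ}
    [Fact p.Prime] (P : Sylow p G) (hPH : (P : Subgroup G) ≤ H) {w : G}
    (hwP : w ∈ (P : Subgroup G)) (hw1 : w ≠ 1)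
    (hwc : ∀ y ∈ (P : Subgroup G), y * w = w * y) :
    Subgroup.centralizer ({w} : Set G) = H := by
  have hp := (Fact.out : p.Prime)
  apply cent_eq hCN hH hw1
  intro h hh
  obtain ⟨a, b, ha, hb, hab, hao, hbo⟩ := exists_p_decomp p h
  have haH : a ∈ H := (Subgroup.zpowers_le.mpr hh) ha
  have hbH : b ∈ H := (Subgroup.zpowers_le.mpr hh) hb
  have haP : a ∈ (P : Subgroup G) := by
    rw [← pCore_map_eq_sylow H hH.1 P hPH]
    refine ⟨⟨a, haH⟩, ?_, rfl⟩
    apply mem_pCore_of_nilp H hH.1 p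
    obtain ⟨k, hk⟩ := hao
    exact ⟨k, by rw [Subgroup.orderOf_mk]; exact hk⟩
  have h1 : a * w = w * a := hwc a haP
  have hwo := order_of_mem_pgroup hp P.isPGroup' hwP
  have h2 : w * b = b * w := nil_comm H hH.1 p (hPH hwP) hbH hwo hbo
  rw [hab]
  calc a * b * w = a * (b * w) := by group
    _ = a * (w * b) := by rw [h2]
    _ = (a * w) * b := by group
    _ = (w * a) * b := by rw [h1]
    _ = w * (a * b) := by group

theorem exists_sylow_le (hCN : Cfsg.IsCNGroup G) {H : Subgroup G} (hH : MaxNil H) (p : ℕ)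
    [Fact p.Prime] (hdvd : p ∣ Nat.card ↥H) : ∃ P : Sylow p G, (P : Subgroup G) ≤ H := by
  have hp := (Fact.out : p.Prime)
  by_cases hpg : IsPGroup p ↥H
  · obtain ⟨P, hP⟩ := hpg.exists_le_sylow
    have hPn : Group.IsNilpotent ↥(P : Subgroup G) := P.isPGroup'.isNilpotent
    exact ⟨P, (hH.2 _ hPn hP).le⟩
  · have hs : ∃ s : ℕ, s.Prime ∧ s ∣ Nat.card ↥H ∧ s ≠ p := by
      by_contra hcon
      push Not at hcon
      apply hpg
      have hpos : Nat.card ↥H ≠ 0 := Nat.card_pos.ne'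
      have := Nat.eq_prime_pow_of_unique_prime_dvd hpos (p := p)
        (fun {s} hs hsd => hcon s hs hsd)
      exact IsPGroup.of_card this
    obtain ⟨s, hs, hsd, hsp⟩ := hs
    haveI : Fact s.Prime := ⟨hs⟩
    obtain ⟨z, hzH, hz1, hzc, hzo⟩ := exists_central H hH.1 p hdvd
    obtain ⟨u, huH, hu1, huc, huo⟩ := exists_central H hH.1 s hsd
    have hCz := cent_eq hCN hH hz1 hzc
    have hCu := cent_eq hCN hH hu1 huc
    have hzp : IsPGroup p ↥(Subgroup.zpowers z) := by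
      obtain ⟨k, hk⟩ := hzo
      exact IsPGroup.of_card (n := k) (by rw [Nat.card_zpowers, hk])
    obtain ⟨P, hP⟩ := hzp.exists_le_sylow
    have hzP : z ∈ (P : Subgroup G) := hP (Subgroup.mem_zpowers z)
    have hPne : (P : Subgroup G) ≠ ⊥ := by
      intro hb
      rw [hb, Subgroup.mem_bot] at hzP
      exact hz1 hzP
    obtain ⟨w, hwP, hw1, hwc⟩ := exists_central_pgroup (P : Subgroup G) P.isPGroup' hPne
    have hwH : w ∈ H := by
      rw [← hCz, Subgroup.mem_centralizer_iff]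
      intro y hy
      rw [Set.mem_singleton_iff] at hy
      rw [hy]
      exact hwc z hzP
    refine ⟨P, ?_⟩
    intro x hx
    rw [← hCu, Subgroup.mem_centralizer_iff]
    intro y hy
    rw [Set.mem_singleton_iff] at hy
    rw [hy]
    have hCw : Group.IsNilpotent ↥(Subgroup.centralizer ({w} : Set G)) := hCN w hw1
    have hxC : x ∈ Subgroup.centralizer ({w} : Set G) := by
      rw [Subgroup.mem_centralizer_iff]
      intro y hy
      rw [Set.mem_singleton_iff] at hy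
      rw [hy]
      exact (hwc x hx).symm
    have huC : u ∈ Subgroup.centralizer ({w} : Set G) := by
      rw [Subgroup.mem_centralizer_iff]
      intro y hy
      rw [Set.mem_singleton_iff] at hy
      rw [hy]
      exact huc w hwH
    have hxo := order_of_mem_pgroup hp P.isPGroup' hx
    have huo' : (orderOf u).Coprime p := by
      obtain ⟨k, hk⟩ := huo
      rw [hk]
      exact Nat.Coprime.pow_left k ((Nat.coprime_primes hs hp).mpr hsp)
    exact (nil_comm _ hCw p hxC huC hxo huo').symm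

theorem exists_maxNil {K : Subgroup G} (hK : Group.IsNilpotent ↥K) :
    ∃ H : Subgroup G, K ≤ H ∧ MaxNil H := by
  have hfin : {L : Subgroup G | Group.IsNilpotent ↥L}.Finite := Set.toFinite _
  obtain ⟨H, hKH, hmax⟩ := hfin.exists_le_maximal hK
  refine ⟨H, hKH, hmax.prop, ?_⟩
  intro L hL hHL
  exact le_antisymm (hmax.le_of_ge hL hHL) hHL

theorem part1 (hCN : Cfsg.IsCNGroup G) (H₁ H₂ : Subgroup G) (h1 : MaxNil H₁) (h2 : MaxNil H₂) :
    (∃ g : G, H₂ = H₁.map (MulAut.conj g).toMonoidHom) ∨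
      (Nat.card ↥H₁).Coprime (Nat.card ↥H₂) := by
  by_cases hc : (Nat.card ↥H₁).Coprime (Nat.card ↥H₂)
  · exact Or.inr hc
  left
  obtain ⟨p, hp, hd1, hd2⟩ := Nat.Prime.not_coprime_iff_dvd.mp hc
  haveI : Fact p.Prime := ⟨hp⟩
  obtain ⟨P₁, hP₁⟩ := exists_sylow_le hCN h1 p hd1
  obtain ⟨P₂, hP₂⟩ := exists_sylow_le hCN h2 p hd2
  obtain ⟨g, hg⟩ := MulAction.exists_smul_eq G P₁ P₂
  have hP₁ne : (P₁ : Subgroup G) ≠ ⊥ := by
    have : p ∣ Nat.card G := hd1.trans (Subgroup.card_subgroup_dvd_card H₁)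
    exact P₁.ne_bot_of_dvd_card this
  obtain ⟨w, hwP, hw1, hwc⟩ := exists_central_pgroup (P₁ : Subgroup G) P₁.isPGroup' hP₁ne
  have hC1 := eq_cent_of_sylow hCN h1 P₁ hP₁ hwP hw1 hwc
  have hP2 : (P₂ : Subgroup G) = (P₁ : Subgroup G).map (MulAut.conj g).toMonoidHom := by
    rw [← hg, Sylow.coe_subgroup_smul]; rfl
  have hw₂P : g * w * g⁻¹ ∈ (P₂ : Subgroup G) := by
    rw [hP2]; exact ⟨w, hwP, rfl⟩
  have hw₂1 : g * w * g⁻¹ ≠ 1 := by
    intro h
    apply hw1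
    have : w = g⁻¹ * (g * w * g⁻¹) * g := by group
    rw [this, h]; group
  have hw₂c : ∀ y ∈ (P₂ : Subgroup G), y * (g * w * g⁻¹) = (g * w * g⁻¹) * y := by
    intro y hy
    rw [hP2] at hy
    obtain ⟨x, hx, rfl⟩ := hy
    have hx' : x * w = w * x := hwc x hx
    show (g * x * g⁻¹) * (g * w * g⁻¹) = (g * w * g⁻¹) * (g * x * g⁻¹)
    calc (g * x * g⁻¹) * (g * w * g⁻¹) = g * (x * w) * g⁻¹ := by group
      _ = g * (w * x) * g⁻¹ := by rw [hx']
      _ = (g * w * g⁻¹) * (g * x * g⁻¹) := by group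
  have hC2 := eq_cent_of_sylow hCN h2 P₂ hP₂ hw₂P hw₂1 hw₂c
  refine ⟨g, ?_⟩
  rw [← hC2, ← hC1]
  ext y
  rw [Subgroup.mem_map]
  constructor
  · intro hy
    have hy' : (g * w * g⁻¹) * y = y * (g * w * g⁻¹) :=
      (Subgroup.mem_centralizer_iff.mp hy) _ (Set.mem_singleton _)
    refine ⟨g⁻¹ * y * g, ?_, ?_⟩
    · rw [Subgroup.mem_centralizer_iff]
      intro v hv
      rw [Set.mem_singleton_iff] at hv
      rw [hv]
      calc w * (g⁻¹ * y * g) = g⁻¹ * ((g * w * g⁻¹) * y) * g := by group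
        _ = g⁻¹ * (y * (g * w * g⁻¹)) * g := by rw [hy']
        _ = (g⁻¹ * y * g) * w := by group
    · show g * (g⁻¹ * y * g) * g⁻¹ = y
      group
  · rintro ⟨x, hx, rfl⟩
    have hx' : w * x = x * w := (Subgroup.mem_centralizer_iff.mp hx) _ (Set.mem_singleton _)
    rw [Subgroup.mem_centralizer_iff]
    intro v hv
    rw [Set.mem_singleton_iff] at hv
    rw [hv]
    show (g * w * g⁻¹) * (g * x * g⁻¹) = (g * x * g⁻¹) * (g * w * g⁻¹)
    calc (g * w * g⁻¹) * (g * x * g⁻¹) = g * (w * x) * g⁻¹ := by group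
      _ = g * (x * w) * g⁻¹ := by rw [hx']
      _ = (g * x * g⁻¹) * (g * w * g⁻¹) := by group

theorem part2 (hCN : Cfsg.IsCNGroup G) (p q r : ℕ) (hp : p.Prime) (hq : q.Prime) (hr : r.Prime)
    (x y y' z : G) (hx1 : x ≠ 1) (hy1 : y ≠ 1) (hy'1 : y' ≠ 1) (hz1 : z ≠ 1)
    (hxp : IsPGroup p ↥(Subgroup.zpowers x)) (hyq : IsPGroup q ↥(Subgroup.zpowers y))
    (hy'q : IsPGroup q ↥(Subgroup.zpowers y')) (hzr : IsPGroup r ↥(Subgroup.zpowers z))
    (hxy : x * y = y * x) (hyz : y' * z = z * y') :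
    ∃ x' z' : G, x' ≠ 1 ∧ z' ≠ 1 ∧ IsPGroup p ↥(Subgroup.zpowers x') ∧
      IsPGroup r ↥(Subgroup.zpowers z') ∧ x' * z' = z' * x' := by
  haveI : Fact p.Prime := ⟨hp⟩
  haveI : Fact q.Prime := ⟨hq⟩
  haveI : Fact r.Prime := ⟨hr⟩
  obtain ⟨H₁, hK1, hM1⟩ := exists_maxNil (hCN y hy1)
  obtain ⟨H₂, hK2, hM2⟩ := exists_maxNil (hCN y' hy'1)
  have hdvd : ∀ (s : ℕ) (_ : s.Prime) (v : G) (H : Subgroup G), v ≠ 1 →
      IsPGroup s ↥(Subgroup.zpowers v) → v ∈ H → s ∣ Nat.card ↥H := by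
    intro s hs v H hv1 hvs hvH
    obtain ⟨k, hk⟩ := order_of_mem_pgroup hs hvs (Subgroup.mem_zpowers v)
    have hk0 : k ≠ 0 := by
      rintro rfl
      rw [pow_zero, orderOf_eq_one_iff] at hk
      exact hv1 hk
    have h1 : s ∣ orderOf v := by rw [hk]; exact dvd_pow_self s hk0
    exact h1.trans (Subgroup.orderOf_dvd_natCard H hvH)
  have hyH1 : y ∈ H₁ := hK1 (Subgroup.mem_centralizer_iff.mpr (by
    intro v hv; rw [Set.mem_singleton_iff] at hv; rw [hv]))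
  have hxH1 : x ∈ H₁ := hK1 (Subgroup.mem_centralizer_iff.mpr (by
    intro v hv; rw [Set.mem_singleton_iff] at hv; rw [hv]; exact hxy.symm))
  have hy'H2 : y' ∈ H₂ := hK2 (Subgroup.mem_centralizer_iff.mpr (by
    intro v hv; rw [Set.mem_singleton_iff] at hv; rw [hv]))
  have hzH2 : z ∈ H₂ := hK2 (Subgroup.mem_centralizer_iff.mpr (by
    intro v hv; rw [Set.mem_singleton_iff] at hv; rw [hv]; exact hyz))
  have hq1 : q ∣ Nat.card ↥H₁ := hdvd q hq y H₁ hy1 hyq hyH1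
  have hq2 : q ∣ Nat.card ↥H₂ := hdvd q hq y' H₂ hy'1 hy'q hy'H2
  have hp1 : p ∣ Nat.card ↥H₁ := hdvd p hp x H₁ hx1 hxp hxH1
  have hr2 : r ∣ Nat.card ↥H₂ := hdvd r hr z H₂ hz1 hzr hzH2
  have hcard : Nat.card ↥H₂ = Nat.card ↥H₁ := by
    rcases part1 hCN H₁ H₂ hM1 hM2 with ⟨g, hg⟩ | hc
    · rw [hg]
      exact (Nat.card_congr
        (Subgroup.equivMapOfInjective H₁ _ (MulAut.conj g).injective).toEquiv).symm
    · exfalso
      exact (Nat.Prime.not_coprime_iff_dvd.mpr ⟨q, hq, hq1, hq2⟩) hc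
  have hp2 : p ∣ Nat.card ↥H₂ := by rw [hcard]; exact hp1
  obtain ⟨x', hx'⟩ := exists_prime_orderOf_dvd_card' p hp2
  obtain ⟨z', hz'⟩ := exists_prime_orderOf_dvd_card' r hr2
  have hx'1 : (x' : G) ≠ 1 := by
    intro h
    rw [← Subgroup.orderOf_coe, h, orderOf_one] at hx'
    exact hp.ne_one hx'.symm
  have hz'1 : (z' : G) ≠ 1 := by
    intro h
    rw [← Subgroup.orderOf_coe, h, orderOf_one] at hz'
    exact hr.ne_one hz'.symm
  have hx'p : IsPGroup p ↥(Subgroup.zpowers (x' : G)) :=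
    IsPGroup.of_card (n := 1) (by rw [Nat.card_zpowers, Subgroup.orderOf_coe, hx', pow_one])
  have hz'r : IsPGroup r ↥(Subgroup.zpowers (z' : G)) :=
    IsPGroup.of_card (n := 1) (by rw [Nat.card_zpowers, Subgroup.orderOf_coe, hz', pow_one])
  by_cases hpr : p = r
  · subst hpr
    exact ⟨(x' : G), (x' : G), hx'1, hx'1, hx'p, hx'p, rfl⟩
  · refine ⟨(x' : G), (z' : G), hx'1, hz'1, hx'p, hz'r, ?_⟩
    apply nil_comm H₂ hM2.1 p x'.2 z'.2 ⟨1, by rw [Subgroup.orderOf_coe, hx', pow_one]⟩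
    rw [Subgroup.orderOf_coe, hz']
    exact (Nat.coprime_primes hr hp).mpr (Ne.symm hpr)

end aux

/-- Let G be a minimal simple group of odd order in which every non-identity element has nilpotent centralizer. Then any two nilpotent subgroups each contained in no larger nilpotent subgroup are either conjugate or of coprime orders; and for primes p, q, r: if some elements x, y ≠ 1 of p-power and q-power order commute, and some elements y', z ≠ 1 of q-power and r-power order commute, then some elements of p-power and r-power order, both ≠ 1, commute. -/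
theorem result {G : Type*} [Group G] [Finite G] (hG : Cfsg.IsMinSimpleOddOrder G) (hCN : Cfsg.IsCNGroup G) :
    (∀ H₁ H₂ : Subgroup G, (Group.IsNilpotent ↥H₁ ∧ ∀ L : Subgroup G, Group.IsNilpotent L → H₁ ≤ L → L = H₁) → (Group.IsNilpotent ↥H₂ ∧ ∀ L : Subgroup G, Group.IsNilpotent L → H₂ ≤ L → L = H₂) → (∃ g : G, H₂ = H₁.map (MulAut.conj g).toMonoidHom) ∨ (Nat.card H₁).Coprime (Nat.card H₂)) ∧
      ∀ (p q r : ℕ), p.Prime → q.Prime → r.Prime → ∀ (x y y' z : G), x ≠ 1 → y ≠ 1 → y' ≠ 1 → z ≠ 1 →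
        IsPGroup p (Subgroup.zpowers x) → IsPGroup q (Subgroup.zpowers y) → IsPGroup q (Subgroup.zpowers y') → IsPGroup r (Subgroup.zpowers z) →
        x * y = y * x → y' * z = z * y' →
        ∃ x' z' : G, x' ≠ 1 ∧ z' ≠ 1 ∧ IsPGroup p (Subgroup.zpowers x') ∧ IsPGroup r (Subgroup.zpowers z') ∧ x' * z' = z' * x' := by
  refine ⟨?_, ?_⟩
  · intro H₁ H₂ h1 h2
    exact part1 hCN H₁ H₂ h1 h2
  · intro p q r hp hq hr x y y' z hx1 hy1 hy'1 hz1 hxp hyq hy'q hzr hxy hyz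
    exact part2 hCN p q r hp hq hr x y y' z hx1 hy1 hy'1 hz1 hxp hyq hy'q hzr hxy hyz

end Cfsg.Agent.S1483
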