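import Cfsg.Statements.S1487
import Cfsg.Agent.Lib.Helper8.CharClifford3
import Cfsg.Agent.Lib.Helper8.CharBurnside

set_option autoImplicit false
open Cfsg

namespace Cfsg.Agent.S1487

open Cfsg.Agent.Lib.Helper8
open scoped ComplexConjugate

variable {G : Type*} [Group G]

theorem eq_of_re_eq_of_norm_le {z : ℂ} {n : ℝ} (h1 : z.re = n) (h2 : ‖z‖ ≤ n) : z = (n : ℂ) := by
  have hn : 0 ≤ n := le_trans (norm_nonneg z) h2
  have h3 : ‖z‖ ^ 2 ≤ n ^ 2 := pow_le_pow_left₀ (norm_nonneg z) h2 2
  rw [← Complex.normSq_eq_norm_sq, Complex.normSq_apply, h1] at h3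
  have h4 : z.im * z.im ≤ 0 := by nlinarith
  have h5 : z.im = 0 := by nlinarith [mul_self_nonneg z.im]
  apply Complex.ext
  · simp [h1]
  · simp [h5]

theorem ker_indFun_iff [Fintype G] (A H : Subgroup G) [hA : A.Normal] [hN : H.Normal] (hAH : A ≤ H) (θ : H → ℂ) (hθ : Cfsg.IsIrrCharacter H θ) : (∀ a : H, (a : G) ∈ A → θ a = θ 1) ↔ (∀ a : G, a ∈ A → Cfsg.indFun H θ a = Cfsg.indFun H θ 1) := by
  classical
  have hHne : (Nat.card H : ℂ) ≠ 0 := Nat.cast_ne_zero.mpr Nat.card_pos.ne'
  have hone : indFun H θ 1 = (Nat.card H : ℂ)⁻¹ * ∑ _x : G, θ 1 := by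
    have := indFun_restrict hN θ (1 : H)
    rw [Subgroup.coe_one] at this
    rw [this]
    congr 1
    apply Finset.sum_congr rfl
    intro x _
    simp only [conjChar]
    congr 1
    apply Subtype.ext
    simp
  constructor
  · intro hker a ha
    have h1 := indFun_restrict hN θ (⟨a, hAH ha⟩ : H)
    simp only at h1
    rw [h1, hone]
    congr 1
    apply Finset.sum_congr rfl
    intro x _
    simp only [conjChar]
    exact hker _ (hA.conj_mem a ha x)
  · intro hind a ha
    obtain ⟨n, ρ, hρ, hρθ⟩ := hθ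
    have hθ1 : θ 1 = ((n : ℝ) : ℂ) := by
      rw [← hρθ, Representation.char_one]; simp
    have h1 := indFun_restrict hN θ a
    rw [hind (a : G) ha, hone] at h1
    have h2 : ∑ _x : G, θ 1 = ∑ x : G, conjChar hN θ x a := mul_left_cancel₀ (inv_ne_zero hHne) h1
    -- take real parts
    have h3 : ∑ x : G, ((n : ℝ) - (conjChar hN θ x a).re) = 0 := by
      rw [Finset.sum_sub_distrib]
      have := congrArg Complex.re h2
      rw [Complex.re_sum, Complex.re_sum] at this
      rw [← this]
      simp [hθ1]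
    have hnn : ∀ x : G, 0 ≤ (n : ℝ) - (conjChar hN θ x a).re := by
      intro x
      have h4 : ‖conjChar hN θ x a‖ ≤ (n : ℝ) := by
        simp only [conjChar]
        rw [← hρθ]
        have := norm_character_le ρ (⟨x * (a : G) * x⁻¹, hN.conj_mem a a.2 x⟩ : H)
        simpa using this
      have h5 := Complex.re_le_norm (conjChar hN θ x a)
      linarith
    have h6 := (Finset.sum_eq_zero_iff_of_nonneg (fun x _ => hnn x)).mp h3 1 (Finset.mem_univ _)
    have h7 : conjChar hN θ 1 a = θ a := by rw [conjChar_one]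
    rw [h7] at h6
    have h8 : ‖θ a‖ ≤ (n : ℝ) := by
      rw [← hρθ]
      have := norm_character_le ρ a
      simpa using this
    rw [hθ1]
    exact eq_of_re_eq_of_norm_le (by linarith) h8

/-- Let A ≤ H be normal subgroups of the finite group G and θ an irreducible character of H. Then θ takes the value θ 1 on all of A if and only if the function induced from θ to G takes its value at 1 on all of A. -/
theorem result {G : Type*} [Group G] [Fintype G] (A H : Subgroup G) [A.Normal] [H.Normal] (hAH : A ≤ H) (θ : H → ℂ) (hθ : Cfsg.IsIrrCharacter H θ) : (∀ a : H, (a : G) ∈ A → θ a = θ 1) ↔ (∀ a : G, a ∈ A → Cfsg.indFun H θ a = Cfsg.indFun H θ 1) := by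
  exact ker_indFun_iff A H hAH θ hθ

end Cfsg.Agent.S1487
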