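import Cfsg.Statements.S1489
import Cfsg.Agent.Lib.Helper8.CharCliffordCorr

set_option autoImplicit false
open Cfsg

namespace Cfsg.Agent.S1489

open Cfsg.Agent.Lib.Helper8

/-- Let H be a normal subgroup of the finite group G, θ an irreducible character of H, and T the inertia group of θ (the elements g with θ(g h g⁻¹) = θ(h) for all h ∈ H). If ψ and ψ' are irreducible characters of T having nonzero inner product with the function induced from θ to T, then the function induced from ψ to G is an irreducible character of G, and it equals the one induced from ψ' only if ψ = ψ'. -/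
theorem result {G : Type*} [Group G] [Fintype G] (H T : Subgroup G) [hN : H.Normal] [Fintype T] (θ : H → ℂ) (hθ : Cfsg.IsIrrCharacter H θ) (hT : ∀ g : G, g ∈ T ↔ ∀ h : H, θ ⟨g * h * g⁻¹, hN.conj_mem h h.2 g⟩ = θ h) (hHT : H ≤ T) (ψ ψ' : T → ℂ) (hψ : Cfsg.IsIrrCharacter T ψ) (hψ' : Cfsg.IsIrrCharacter T ψ') (hc : Cfsg.classInner (Cfsg.indFun (H.subgroupOf T) (fun x => θ ⟨(x : T), Subgroup.mem_subgroupOf.mp x.2⟩)) ψ ≠ 0) (hc' : Cfsg.classInner (Cfsg.indFun (H.subgroupOf T) (fun x => θ ⟨(x : T), Subgroup.mem_subgroupOf.mp x.2⟩)) ψ' ≠ 0) : Cfsg.IsIrrCharacter G (Cfsg.indFun T ψ) ∧ (Cfsg.indFun T ψ = Cfsg.indFun T ψ' → ψ = ψ') := by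
  classical
  have := irr_finite (G := T)
  have : Fintype (IrrCharacter T) := Fintype.ofFinite _
  obtain ⟨m, hm1, hdecomp, hnorm, horth⟩ := clifford_corr_main H T θ hθ hT hHT
  have hc2 : classInner (indFun (H.subgroupOf T) (subOfFun H T θ)) ψ ≠ 0 := hc
  have hc2' : classInner (indFun (H.subgroupOf T) (subOfFun H T θ)) ψ' ≠ 0 := hc'
  have hmψ : m ⟨ψ, hψ⟩ ≠ 0 := by
    intro h0
    apply hc2
    have := hm1 ⟨ψ, hψ⟩
    rw [h0, Nat.cast_zero] at this
    exact this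
  have hmψ' : m ⟨ψ', hψ'⟩ ≠ 0 := by
    intro h0
    apply hc2'
    have := hm1 ⟨ψ', hψ'⟩
    rw [h0, Nat.cast_zero] at this
    exact this
  have hirr : IsIrrCharacter G (indFun T ψ) :=
    isIrrCharacter_of_norm_one (isCharacter_indFun T (irr_isCharacter hψ)) (hnorm ⟨ψ, hψ⟩ hmψ)
  refine ⟨hirr, ?_⟩
  intro heq
  by_contra hne
  have h0 : classInner (indFun T ψ) (indFun T ψ') = 0 :=
    horth ⟨ψ, hψ⟩ ⟨ψ', hψ'⟩ hmψ hmψ' (fun h => hne (congrArg Subtype.val h))
  have h1 : classInner (indFun T ψ) (indFun T ψ) = 1 := hnorm ⟨ψ, hψ⟩ hmψ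
  rw [← heq] at h0
  rw [h1] at h0
  exact one_ne_zero h0

end Cfsg.Agent.S1489
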