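import Cfsg.Statements.S1490
import Cfsg.Agent.Lib.Helper8.CharAbelQuot

set_option autoImplicit false
open Cfsg

namespace Cfsg.Agent.S1490

open Cfsg.Agent.Lib.Helper8

/-- Let H be a normal subgroup of the finite group G, θ an irreducible character of H with inertia group T, and suppose the commutator of any two elements of T lies in H (T/H abelian). Then there are a positive integer e and a finite set C of irreducible characters of G with e ^ 2 * |C| * |H| = |T|, such that the function induced from θ is e times the sum of the members of C and every member of C has degree [G:T] * e * θ(1). -/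
theorem result {G : Type*} [Group G] [Fintype G] (H T : Subgroup G) [hN : H.Normal] (θ : H → ℂ) (hθ : Cfsg.IsIrrCharacter H θ) (hT : ∀ g : G, g ∈ T ↔ ∀ h : H, θ ⟨g * h * g⁻¹, hN.conj_mem h h.2 g⟩ = θ h) (hab : ∀ x ∈ T, ∀ y ∈ T, x * y * x⁻¹ * y⁻¹ ∈ H) : ∃ (e : ℕ) (C : Finset (G → ℂ)), 0 < e ∧ (∀ χ ∈ C, Cfsg.IsIrrCharacter G χ) ∧ e ^ 2 * C.card * Nat.card H = Nat.card T ∧ Cfsg.indFun H θ = (e : ℂ) • ∑ χ ∈ C, χ ∧ ∀ χ ∈ C, χ 1 = (T.index : ℂ) * e * θ 1 := by
  classical
  have : Fintype H := Fintype.ofFinite H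
  have : Fintype T := Fintype.ofFinite T
  have : Fintype (H.subgroupOf T) := Fintype.ofFinite _
  have := irr_finite (G := T)
  have : Fintype (IrrCharacter T) := Fintype.ofFinite _
  have hθcf : IsClassFunction H θ := isClassFunction_of_isCharacter (irr_isCharacter hθ)
  have hHT : H ≤ T := by
    intro g hg
    rw [hT]
    intro h
    exact hθcf h ⟨g, hg⟩
  obtain ⟨m, hm1, hdecomp, hnorm, horth⟩ := clifford_corr_main H T θ hθ hT hHT
  set K := H.subgroupOf T with hKdef
  have hK : K.Normal := Subgroup.normal_subgroupOf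
  set θ' := subOfFun H T θ with hθ'
  have hθ'irr : IsIrrCharacter K θ' := subOfFun_irr hHT hθ
  have hinv' : ∀ t : T, conjChar hK θ' t = θ' := by
    intro t
    ext k
    rw [conjChar_apply]
    exact (hT (t : G)).mp t.2 ⟨((k : T) : G), Subgroup.mem_subgroupOf.mp k.2⟩
  have hab' : ∀ x y : T, x * y * x⁻¹ * y⁻¹ ∈ K := by
    intro x y
    rw [hKdef, Subgroup.mem_subgroupOf]
    simp only [Subgroup.coe_mul, Subgroup.coe_inv]
    exact hab x x.2 y y.2
  obtain ⟨e, hepos, he, hcount⟩ := abelian_quotient_ramification hK hab' hθ'irr hinv'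
  set S := Finset.univ.filter (fun ψ : IrrCharacter T => classInner (indFun K θ') ψ.1 ≠ 0) with hS
  have hmS : ∀ ψ ∈ S, m ψ = e := by
    intro ψ hψ
    rw [hS, Finset.mem_filter] at hψ
    have h1 := (he ψ hψ.2).1
    rw [hm1 ψ] at h1
    exact_mod_cast h1
  have hmS' : ∀ ψ, ψ ∉ S → m ψ = 0 := by
    intro ψ hψ
    rw [hS, Finset.mem_filter] at hψ
    push Not at hψ
    have h1 := hψ (Finset.mem_univ _)
    rw [hm1 ψ] at h1
    exact_mod_cast h1
  have hmne : ∀ ψ ∈ S, m ψ ≠ 0 := fun ψ hψ => by rw [hmS ψ hψ]; exact hepos.ne'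
  have hinj : Set.InjOn (fun ψ : IrrCharacter T => indFun T ψ.1) ↑S := by
    intro ψ hψ ψ' hψ' heq
    simp only at heq
    by_contra hne
    have h0 := horth ψ ψ' (hmne ψ hψ) (hmne ψ' hψ') hne
    have h1 := hnorm ψ (hmne ψ hψ)
    rw [← heq, h1] at h0
    exact one_ne_zero h0
  refine ⟨e, S.image (fun ψ : IrrCharacter T => indFun T ψ.1), hepos, ?_, ?_, ?_, ?_⟩
  · intro χ hχ
    rw [Finset.mem_image] at hχ
    obtain ⟨ψ, hψ, rfl⟩ := hχ
    exact isIrrCharacter_of_norm_one (isCharacter_indFun T (irr_isCharacter ψ.2)) (hnorm ψ (hmne ψ hψ))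
  · rw [Finset.card_image_of_injOn hinj, hcount]
    have hcardH : Nat.card K = Nat.card H :=
      Nat.card_congr (Subgroup.subgroupOfEquivOfLe hHT).toEquiv
    rw [← hcardH, mul_comm, Subgroup.card_mul_index]
  · ext g
    rw [hdecomp g, Pi.smul_apply, Finset.sum_apply, Finset.sum_image hinj, smul_eq_mul, Finset.mul_sum]
    rw [← Finset.sum_filter_add_sum_filter_not Finset.univ (fun ψ : IrrCharacter T => ψ ∈ S)]
    have h2 : ∑ ψ ∈ Finset.univ.filter (fun ψ : IrrCharacter T => ¬ ψ ∈ S), (m ψ : ℂ) * indFun T ψ.1 g = 0 := by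
      apply Finset.sum_eq_zero
      intro ψ hψ
      rw [hmS' ψ (Finset.mem_filter.mp hψ).2]; simp
    rw [h2, add_zero]
    have h3 : Finset.univ.filter (fun ψ : IrrCharacter T => ψ ∈ S) = S := by
      ext ψ; simp
    rw [h3]
    apply Finset.sum_congr rfl
    intro ψ hψ
    rw [hmS ψ hψ]
  · intro χ hχ
    rw [Finset.mem_image] at hχ
    obtain ⟨ψ, hψ, rfl⟩ := hχ
    rw [hS, Finset.mem_filter] at hψ
    rw [indFun_one, (he ψ hψ.2).2]
    have : θ' 1 = θ 1 := rfl
    rw [this]; ring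

end Cfsg.Agent.S1490
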