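import Cfsg.Statements.S1491
import Cfsg.Agent.Lib.Helper8.CharCliffordCorr
import Cfsg.Agent.Lib.Helper8.CharAbelQuot
import Cfsg.Agent.Lib.Helper8.CharDet
import Cfsg.Agent.Lib.Helper8.CharClassSum
import Cfsg.Agent.S0867

set_option autoImplicit false
open Cfsg

namespace Cfsg.Agent.S1491

open Cfsg.Agent.Lib.Helper8

/-- Let H be a normal subgroup of the finite group G and θ an irreducible character of H with inertia group T, where T/H is abelian (commutators of T lie in H) and the index of H in T is coprime to the order of H. Then the function induced from θ is the sum of a set of exactly [T:H] irreducible characters of G, each of degree [G:T] * θ(1). -/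
theorem result {G : Type*} [Group G] [Fintype G] (H T : Subgroup G) [hN : H.Normal] (θ : H → ℂ) (hθ : Cfsg.IsIrrCharacter H θ) (hT : ∀ g : G, g ∈ T ↔ ∀ h : H, θ ⟨g * h * g⁻¹, hN.conj_mem h h.2 g⟩ = θ h) (hab : ∀ x ∈ T, ∀ y ∈ T, x * y * x⁻¹ * y⁻¹ ∈ H) (hcop : Nat.Coprime (Nat.card H) (H.relIndex T)) : ∃ C : Finset (G → ℂ), (∀ χ ∈ C, Cfsg.IsIrrCharacter G χ) ∧ C.card = H.relIndex T ∧ Cfsg.indFun H θ = ∑ χ ∈ C, χ ∧ ∀ χ ∈ C, χ 1 = (T.index : ℂ) * θ 1 := by
  classical
  have : Fintype H := Fintype.ofFinite H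
  have : Fintype T := Fintype.ofFinite T
  have := irr_finite (G := T)
  have : Fintype (Cfsg.IrrCharacter T) := Fintype.ofFinite _
  have hθcf : IsClassFunction H θ := isClassFunction_of_isCharacter (irr_isCharacter hθ)
  have hHT : H ≤ T := by
    intro g hg
    rw [hT]
    intro h
    exact hθcf h ⟨g, hg⟩
  have hN' : (H.subgroupOf T).Normal := Subgroup.normal_subgroupOf
  have : Fintype (H.subgroupOf T) := Fintype.ofFinite _
  set θ' := subOfFun H T θ with hθ'
  have hθ'irr : Cfsg.IsIrrCharacter (H.subgroupOf T) θ' := subOfFun_irr hHT hθ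
  have hθ'inv : ∀ (g : T) (n : H.subgroupOf T),
      θ' ⟨g * n * g⁻¹, hN'.conj_mem (n : T) n.2 g⟩ = θ' n := by
    intro g n
    exact (hT g.1).mp g.2 ⟨n.1.1, Subgroup.mem_subgroupOf.mp n.2⟩
  have hθ'inv' : ∀ g : T, conjChar hN' θ' g = θ' := by
    intro g
    ext n
    exact hθ'inv g n
  -- the degree
  set d := Cfsg.charDegree θ with hd
  have hd1 : θ 1 = d := irr_one_eq_charDegree ⟨θ, hθ⟩
  have hd' : θ' 1 = d := hd1
  have hddvd : d ∣ Nat.card H := charDegree_dvd_card ⟨θ, hθ⟩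
  have hcardH' : Nat.card (H.subgroupOf T) = Nat.card H :=
    Nat.card_congr (Subgroup.subgroupOfEquivOfLe hHT).toEquiv
  have hodvd : Cfsg.detOrder θ' ∣ Nat.card H := by
    obtain ⟨ℓ, hℓ⟩ := exists_detHom (irr_isCharacter hθ'irr)
    unfold Cfsg.detOrder
    rw [hℓ, orderOf_linFun, ← hcardH']
    exact orderOf_dvd_of_pow_eq_one (hom_pow_card_eq_one ℓ)
  have hcop' : Nat.Coprime (H.subgroupOf T).index (Cfsg.detOrder θ' * d) := by
    have h1 : Nat.Coprime (H.relIndex T) (Nat.card H) := hcop.symm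
    exact Nat.Coprime.mul_right (Nat.Coprime.coprime_dvd_right hodvd h1)
      (Nat.Coprime.coprime_dvd_right hddvd h1)
  obtain ⟨θh, ⟨hθhirr, hθhN, -⟩, -⟩ := Cfsg.Agent.S0867.result (H.subgroupOf T) θ' hθ'irr hθ'inv
    d hd' hcop'
  -- ramification
  have hab' : ∀ x y : T, x * y * x⁻¹ * y⁻¹ ∈ H.subgroupOf T := by
    intro x y
    rw [Subgroup.mem_subgroupOf]
    exact hab x.1 x.2 y.1 y.2
  obtain ⟨e, hepos, hall, hcount⟩ := abelian_quotient_ramification hN' hab' hθ'irr hθ'inv'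
  have hθ'1ne : θ' 1 ≠ 0 := irr_one_ne_zero ⟨θ', hθ'irr⟩
  have he1 : e = 1 := by
    have hcon : Cfsg.classInner (Cfsg.indFun (H.subgroupOf T) θ') θh ≠ 0 := by
      rw [frobenius_reciprocity _ _ _ (isClassFunction_of_isCharacter (irr_isCharacter hθhirr))]
      have : (fun h : H.subgroupOf T => θh h) = θ' := funext hθhN
      rw [this, irr_classInner hθ'irr hθ'irr, if_pos rfl]
      exact one_ne_zero
    have h1 := (hall ⟨θh, hθhirr⟩ hcon).2
    simp only at h1
    have h2 : θh 1 = θ' 1 := by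
      have := hθhN 1
      rwa [OneMemClass.coe_one] at this
    rw [h2] at h1
    have h3 : (1 : ℂ) * θ' 1 = (e : ℂ) * θ' 1 := by rw [one_mul]; exact h1
    have h4 : (1 : ℂ) = (e : ℂ) := mul_right_cancel₀ hθ'1ne h3
    exact_mod_cast h4.symm
  rw [he1, one_pow, one_mul] at hcount
  obtain ⟨m, hm1, hdecomp, hnorm, horth⟩ := clifford_corr_main H T θ hθ hT hHT
  have hfilt : (Finset.univ.filter (fun ψ : Cfsg.IrrCharacter T => m ψ ≠ 0)) =
      Finset.univ.filter (fun ψ : Cfsg.IrrCharacter T =>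
        Cfsg.classInner (Cfsg.indFun (H.subgroupOf T) θ') ψ.1 ≠ 0) := by
    ext ψ
    simp only [Finset.mem_filter, Finset.mem_univ, true_and]
    rw [hm1 ψ]
    exact Nat.cast_ne_zero.symm
  have hm_one : ∀ ψ : Cfsg.IrrCharacter T, m ψ ≠ 0 → m ψ = 1 ∧ ψ.1 1 = θ 1 := by
    intro ψ hψ
    have hne : Cfsg.classInner (Cfsg.indFun (H.subgroupOf T) θ') ψ.1 ≠ 0 := by
      rw [hm1 ψ]; exact Nat.cast_ne_zero.mpr hψ
    obtain ⟨h1, h2⟩ := hall ψ hne
    rw [hm1 ψ, he1] at h1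
    rw [he1] at h2
    refine ⟨by exact_mod_cast h1, ?_⟩
    rw [h2, Nat.cast_one, one_mul]
    rfl
  set F := Finset.univ.filter (fun ψ : Cfsg.IrrCharacter T => m ψ ≠ 0) with hF
  have hinj : Set.InjOn (fun ψ : Cfsg.IrrCharacter T => Cfsg.indFun T ψ.1) (F : Set _) := by
    intro ψ hψ ψ' hψ' heq
    by_contra hne
    have hψm : m ψ ≠ 0 := (Finset.mem_filter.mp hψ).2
    have hψ'm : m ψ' ≠ 0 := (Finset.mem_filter.mp hψ').2
    have h0 := horth ψ ψ' hψm hψ'm hne
    have h1 := hnorm ψ hψm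
    simp only at heq
    rw [← heq, h1] at h0
    exact one_ne_zero h0
  refine ⟨F.image (fun ψ => Cfsg.indFun T ψ.1), ?_, ?_, ?_, ?_⟩
  · intro χ hχ
    obtain ⟨ψ, hψ, rfl⟩ := Finset.mem_image.mp hχ
    exact isIrrCharacter_of_norm_one (isCharacter_indFun T (irr_isCharacter ψ.2))
      (hnorm ψ (Finset.mem_filter.mp hψ).2)
  · rw [Finset.card_image_of_injOn hinj, hfilt, hcount]
    rfl
  · ext g
    rw [hdecomp g, Finset.sum_image hinj, Finset.sum_apply, Finset.sum_filter]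
    apply Finset.sum_congr rfl
    intro ψ _
    by_cases hψ : m ψ = 0
    · rw [if_neg (not_not.mpr hψ), hψ]; simp
    · rw [if_pos hψ, (hm_one ψ hψ).1]; simp
  · intro χ hχ
    obtain ⟨ψ, hψ, rfl⟩ := Finset.mem_image.mp hχ
    rw [indFun_one, (hm_one ψ (Finset.mem_filter.mp hψ).2).2]

end Cfsg.Agent.S1491
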