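import Cfsg.Statements.S1492
import Cfsg.Agent.Lib.Helper8.CharClifford
import Cfsg.Agent.Lib.Helper8.CharSchur
import Cfsg.Agent.Lib.Helper8.CharSmallDegree
import Cfsg.Agent.Lib.Helper8.CharBurnside
import Cfsg.Agent.Lib.Helper8.CharDegree

set_option autoImplicit false
open Cfsg

namespace Cfsg.Agent.S1492

open Cfsg.Agent.Lib.Helper8
open scoped ComplexConjugate

theorem deg_sq_le {C : Type*} [Group C] [Fintype C] (φ : C → ℂ) (hφ : Cfsg.IsIrrCharacter C φ)
    (D : Subgroup C) (hD : ∀ d ∈ D, ∀ c : C, φ (d * c * d⁻¹ * c⁻¹) = φ 1) :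
    ‖φ 1‖ ^ 2 * (Nat.card D : ℝ) ≤ (Nat.card C : ℝ) := by
  classical
  have hirr := hφ
  obtain ⟨n, ρ, hρ, rfl⟩ := hφ
  have hnt : Nontrivial (Fin n → ℂ) := irreducible_nontrivial hρ
  have hval : ∀ d ∈ D, ‖ρ.character d‖ = ‖ρ.character 1‖ := by
    intro d hd
    have hcomm : ∀ (c : C) (v : Fin n → ℂ), ρ d (ρ c v) = ρ c (ρ d v) := by
      intro c v
      have h1 := (character_eq_degree_iff ρ (d * c * d⁻¹ * c⁻¹)).mp
        (by rw [hD d hd c, Representation.char_one])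
      have h2 : ρ (d * c) = ρ (c * d) := by
        have e : d * c = (d * c * d⁻¹ * c⁻¹) * (c * d) := by group
        rw [e, map_mul, h1]
        rfl
      have h3 := LinearMap.congr_fun h2 v
      simpa [map_mul] using h3
    obtain ⟨μ, hμ⟩ := schur_scalar hρ (ρ d) hcomm
    obtain ⟨v, hv⟩ := exists_ne (0 : Fin n → ℂ)
    have hpow : ∀ k : ℕ, (ρ d ^ k) v = μ ^ k • v := by
      intro k
      induction k with
      | zero => simp
      | succ k ih =>
        rw [pow_succ, Module.End.mul_apply, hμ, map_smul, ih, smul_smul, pow_succ, mul_comm]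
    have h1 := rep_pow_orderOf ρ d
    have h2 := hpow (orderOf d)
    rw [h1] at h2
    have h3 : μ ^ orderOf d = 1 := by
      have h4 : (μ ^ orderOf d - 1) • v = 0 := by
        rw [sub_smul, ← h2]; simp
      rcases smul_eq_zero.mp h4 with h5 | h5
      · exact sub_eq_zero.mp h5
      · exact absurd h5 hv
    have hμ1 : ‖μ‖ = 1 := norm_eq_one_of_pow_eq_one' (orderOf_pos d) h3
    have h5 : ρ d = μ • (1 : Module.End ℂ (Fin n → ℂ)) := by
      apply LinearMap.ext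
      intro w
      rw [hμ w]
      simp
    have h6 : ρ.character d = μ * ρ.character 1 := by
      simp only [Representation.character, h5, map_smul, smul_eq_mul, map_one]
    rw [h6, norm_mul, hμ1, one_mul]
  have horth := irr_classInner hirr hirr
  rw [if_pos rfl] at horth
  unfold Cfsg.classInner at horth
  have hCne : (Nat.card C : ℂ) ≠ 0 := Nat.cast_ne_zero.mpr Nat.card_pos.ne'
  have hsum : ∑ c : C, ρ.character c * conj (ρ.character c) = (Nat.card C : ℂ) := by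
    field_simp at horth
    exact horth
  have hsumR : ∑ c : C, ‖ρ.character c‖ ^ 2 = (Nat.card C : ℝ) := by
    have h1 : ∀ c : C, ρ.character c * conj (ρ.character c) = ((‖ρ.character c‖ ^ 2 : ℝ) : ℂ) := by
      intro c
      rw [Complex.mul_conj, Complex.normSq_eq_norm_sq]
    simp_rw [h1] at hsum
    rw [← Complex.ofReal_sum] at hsum
    exact_mod_cast hsum
  rw [← hsumR]
  calc ‖ρ.character 1‖ ^ 2 * (Nat.card D : ℝ)
      = ∑ c ∈ Finset.univ.filter (fun c : C => c ∈ D), ‖ρ.character c‖ ^ 2 := by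
        have h1 : ∀ c ∈ Finset.univ.filter (fun c : C => c ∈ D),
            ‖ρ.character c‖ ^ 2 = ‖ρ.character 1‖ ^ 2 := by
          intro c hc
          simp only [Finset.mem_filter, Finset.mem_univ, true_and] at hc
          rw [hval c hc]
        rw [Finset.sum_congr rfl h1, Finset.sum_const, nsmul_eq_mul]
        have h2 : (Finset.univ.filter (fun c : C => c ∈ D)).card = Nat.card D := by
          rw [Nat.card_eq_fintype_card, Fintype.card_subtype]
        rw [h2, mul_comm]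
    _ ≤ ∑ c : C, ‖ρ.character c‖ ^ 2 := by
        apply Finset.sum_le_sum_of_subset_of_nonneg (Finset.filter_subset _ _)
        intro c _ _
        positivity

/-- Let ψ be an irreducible character of the finite group G and B ≤ D ≤ C subgroups with B normal in C, every commutator of an element of D with an element of C lying in B (so D/B is central in C/B), and ψ constant equal to ψ 1 on B. Then ψ(1) ^ 2 * |C| * |D| ≤ |G| ^ 2. -/
theorem result {G : Type*} [Group G] [Finite G] (ψ : G → ℂ) (hψ : Cfsg.IsIrrCharacter G ψ) (B C D : Subgroup G) (hBD : B ≤ D) (hDC : D ≤ C) (hBn : ∀ c ∈ C, ∀ b ∈ B, c * b * c⁻¹ ∈ B) (hcent : ∀ d ∈ D, ∀ c ∈ C, d * c * d⁻¹ * c⁻¹ ∈ B) (hker : ∀ b ∈ B, ψ b = ψ 1) : ‖ψ 1‖ ^ 2 * (Nat.card C : ℝ) * (Nat.card D : ℝ) ≤ (Nat.card G : ℝ) ^ 2 := by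
  classical
  haveI := Fintype.ofFinite G
  have hψchar : Cfsg.IsCharacter G ψ := irr_isCharacter hψ
  have hψCchar : Cfsg.IsCharacter C (fun c : C => ψ c) := isCharacter_restrict C hψchar
  haveI := irr_finite (G := C)
  haveI : Fintype (Cfsg.IrrCharacter C) := Fintype.ofFinite _
  obtain ⟨m, hm⟩ := isCharacter_decomp hψCchar
  have hψCeq : (fun c : C => ψ c) = fun c => ∑ φ : Cfsg.IrrCharacter C, (m φ : ℂ) * φ.1 c :=
    funext hm
  -- degrees
  have hdeg : Cfsg.charDegree ψ = ∑ φ : Cfsg.IrrCharacter C, m φ * Cfsg.charDegree φ.1 := by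
    have h1 := hm 1
    simp only [Subgroup.coe_one] at h1
    have hψdeg : ψ 1 = (Cfsg.charDegree ψ : ℂ) :=
      irr_one_eq_charDegree (⟨ψ, hψ⟩ : Cfsg.IrrCharacter G)
    rw [hψdeg] at h1
    simp_rw [irr_one_eq_charDegree] at h1
    exact_mod_cast h1
  -- inner products
  have hinner : ∀ φ : Cfsg.IrrCharacter C, Cfsg.classInner (fun c : C => ψ c) φ.1 = m φ := by
    intro φ
    rw [hψCeq]
    exact classInner_comb_irr (fun φ => (m φ : ℂ)) φ
  have hself : Cfsg.classInner (fun c : C => ψ c) (fun c : C => ψ c) =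
      ∑ φ : Cfsg.IrrCharacter C, ((m φ : ℂ)) ^ 2 := by
    conv_lhs => rw [hψCeq]
    rw [← hψCeq]
    conv_lhs => arg 2; rw [hψCeq]
    rw [classInner_sum_right]
    apply Finset.sum_congr rfl
    intro φ _
    rw [hinner φ, Complex.conj_natCast, sq]
  -- Σ m² * |C| ≤ |G|
  have hGsum : ∑ g : G, ‖ψ g‖ ^ 2 = (Nat.card G : ℝ) := by
    have horth := irr_classInner hψ hψ
    rw [if_pos rfl] at horth
    unfold Cfsg.classInner at horth
    have hGne : (Nat.card G : ℂ) ≠ 0 := Nat.cast_ne_zero.mpr Nat.card_pos.ne'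
    have hsum : ∑ g : G, ψ g * conj (ψ g) = (Nat.card G : ℂ) := by
      field_simp at horth
      exact horth
    have h1 : ∀ g : G, ψ g * conj (ψ g) = ((‖ψ g‖ ^ 2 : ℝ) : ℂ) := by
      intro g
      rw [Complex.mul_conj, Complex.normSq_eq_norm_sq]
    simp_rw [h1] at hsum
    rw [← Complex.ofReal_sum] at hsum
    exact_mod_cast hsum
  have hCsum : ∑ c : C, ‖ψ c‖ ^ 2 = (Nat.card C : ℝ) * ∑ φ : Cfsg.IrrCharacter C, ((m φ : ℝ)) ^ 2 := by
    unfold Cfsg.classInner at hself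
    have hCne : (Nat.card C : ℂ) ≠ 0 := Nat.cast_ne_zero.mpr Nat.card_pos.ne'
    have hsum : ∑ c : C, ψ c * conj (ψ c) =
        (Nat.card C : ℂ) * ∑ φ : Cfsg.IrrCharacter C, ((m φ : ℂ)) ^ 2 := by
      rw [← hself]
      field_simp
    have h1 : ∀ c : C, ψ c * conj (ψ c) = ((‖ψ c‖ ^ 2 : ℝ) : ℂ) := by
      intro c
      rw [Complex.mul_conj, Complex.normSq_eq_norm_sq]
    simp_rw [h1] at hsum
    rw [← Complex.ofReal_sum] at hsum
    have : ((∑ c : C, ‖ψ c‖ ^ 2 : ℝ) : ℂ) =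
        (((Nat.card C : ℝ) * ∑ φ : Cfsg.IrrCharacter C, ((m φ : ℝ)) ^ 2 : ℝ) : ℂ) := by
      rw [hsum]; push_cast; rfl
    exact_mod_cast this
  have hCle : ∑ c : C, ‖ψ c‖ ^ 2 ≤ ∑ g : G, ‖ψ g‖ ^ 2 := by
    have h1 : ∑ c : C, ‖ψ c‖ ^ 2 = ∑ g ∈ Finset.univ.filter (fun g : G => g ∈ C), ‖ψ g‖ ^ 2 := by
      rw [Finset.sum_subtype (Finset.univ.filter (fun g : G => g ∈ C)) (p := fun g => g ∈ C)
        (fun g => by simp) (fun g => ‖ψ g‖ ^ 2)]
    rw [h1]
    apply Finset.sum_le_sum_of_subset_of_nonneg (Finset.filter_subset _ _)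
    intro g _ _
    positivity
  have hmsq : (Nat.card C : ℝ) * ∑ φ : Cfsg.IrrCharacter C, ((m φ : ℝ)) ^ 2 ≤ (Nat.card G : ℝ) := by
    rw [← hCsum, ← hGsum]; exact hCle
  -- constituents
  have hcons : ∀ φ : Cfsg.IrrCharacter C, m φ ≠ 0 →
      (Cfsg.charDegree φ.1 : ℝ) ^ 2 * (Nat.card D : ℝ) ≤ (Nat.card C : ℝ) := by
    intro φ hmφ
    -- B in kernel of φ
    have hBker : ∀ b : C, (b : G) ∈ B → φ.1 b = φ.1 1 := by
      intro b hb
      have h1 := hm b
      have h2 := hm 1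
      simp only [Subgroup.coe_one] at h2
      rw [hker b hb, h2] at h1
      -- real parts
      have h3 : ∑ φ' : Cfsg.IrrCharacter C, (m φ' : ℝ) * ((Cfsg.charDegree φ'.1 : ℝ) - (φ'.1 b).re) = 0 := by
        have h4 := congrArg Complex.re h1
        simp only [Complex.re_sum, Complex.mul_re, Complex.natCast_re, Complex.natCast_im, zero_mul,
          sub_zero] at h4
        have h5 : ∀ φ' : Cfsg.IrrCharacter C, (φ'.1 1).re = (Cfsg.charDegree φ'.1 : ℝ) := by
          intro φ'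
          rw [irr_one_eq_charDegree]; simp
        simp_rw [h5] at h4
        simp_rw [mul_sub]
        rw [Finset.sum_sub_distrib, h4, sub_self]
      have hnorm : ∀ φ' : Cfsg.IrrCharacter C, ‖φ'.1 b‖ ≤ (Cfsg.charDegree φ'.1 : ℝ) := by
        intro φ'
        obtain ⟨k, ρ, hρ, hφ'⟩ := φ'.2
        have h1 := norm_character_le ρ b
        have h2 : (Cfsg.charDegree φ'.1 : ℂ) = (Module.finrank ℂ (Fin k → ℂ) : ℂ) := by
          rw [← irr_one_eq_charDegree, ← hφ', Representation.char_one]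
        have h3 : Cfsg.charDegree φ'.1 = Module.finrank ℂ (Fin k → ℂ) := by exact_mod_cast h2
        rw [hφ'] at h1
        rw [h3]
        exact h1
      have hnn : ∀ φ' ∈ (Finset.univ : Finset (Cfsg.IrrCharacter C)),
          0 ≤ (m φ' : ℝ) * ((Cfsg.charDegree φ'.1 : ℝ) - (φ'.1 b).re) := by
        intro φ' _
        apply mul_nonneg (Nat.cast_nonneg _)
        have := (Complex.re_le_norm (φ'.1 b)).trans (hnorm φ')
        linarith
      have h6 := (Finset.sum_eq_zero_iff_of_nonneg hnn).mp h3 φ (Finset.mem_univ _)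
      have hmpos : (m φ : ℝ) ≠ 0 := Nat.cast_ne_zero.mpr hmφ
      have h7 : (φ.1 b).re = (Cfsg.charDegree φ.1 : ℝ) := by
        rcases mul_eq_zero.mp h6 with h | h
        · exact absurd h hmpos
        · linarith
      have h8 : (φ.1 b).im = 0 := by
        have h9 := hnorm φ
        have h10 : ‖φ.1 b‖ ^ 2 = (φ.1 b).re ^ 2 + (φ.1 b).im ^ 2 := by
          rw [← Complex.normSq_eq_norm_sq, Complex.normSq_apply]; ring
        have h11 : ‖φ.1 b‖ ^ 2 ≤ (Cfsg.charDegree φ.1 : ℝ) ^ 2 :=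
          pow_le_pow_left₀ (norm_nonneg _) h9 2
        rw [h10, h7] at h11
        have : (φ.1 b).im ^ 2 ≤ 0 := by linarith
        have h12 := sq_nonneg (φ.1 b).im
        have : (φ.1 b).im ^ 2 = 0 := le_antisymm this h12
        exact pow_eq_zero_iff (two_ne_zero) |>.mp this
      rw [irr_one_eq_charDegree]
      apply Complex.ext
      · rw [h7]; simp
      · rw [h8]; simp
    have hDsub : ∀ d ∈ D.subgroupOf C, ∀ c : C, φ.1 (d * c * d⁻¹ * c⁻¹) = φ.1 1 := by
      intro d hd c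
      apply hBker
      have := hcent (d : G) (Subgroup.mem_subgroupOf.mp hd) (c : G) c.2
      simpa using this
    have h1 := deg_sq_le φ.1 φ.2 (D.subgroupOf C) hDsub
    have h2 : Nat.card (D.subgroupOf C) = Nat.card D :=
      Nat.card_congr (Subgroup.subgroupOfEquivOfLe hDC).toEquiv
    rw [h2, irr_one_eq_charDegree] at h1
    simpa using h1
  -- final inequality
  have hψ1 : ‖ψ 1‖ = (Cfsg.charDegree ψ : ℝ) := by
    have hψdeg : ψ 1 = (Cfsg.charDegree ψ : ℂ) :=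
      irr_one_eq_charDegree (⟨ψ, hψ⟩ : Cfsg.IrrCharacter G)
    rw [hψdeg]
    simp
  rw [hψ1, hdeg]
  push_cast
  have hDpos : (0 : ℝ) < Nat.card D := Nat.cast_pos.mpr Nat.card_pos
  have hCpos : (0 : ℝ) < Nat.card C := Nat.cast_pos.mpr Nat.card_pos
  set r : ℝ := Real.sqrt ((Nat.card C : ℝ) / (Nat.card D : ℝ)) with hr
  have hr2 : r ^ 2 = (Nat.card C : ℝ) / (Nat.card D : ℝ) := Real.sq_sqrt (by positivity)
  have hrnn : 0 ≤ r := Real.sqrt_nonneg _
  have hterm : ∀ φ : Cfsg.IrrCharacter C,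
      (m φ : ℝ) * (Cfsg.charDegree φ.1 : ℝ) ≤ ((m φ : ℝ)) ^ 2 * r := by
    intro φ
    by_cases hmφ : m φ = 0
    · rw [hmφ]; simp
    · have h1 := hcons φ hmφ
      have h2 : (Cfsg.charDegree φ.1 : ℝ) ^ 2 ≤ r ^ 2 := by
        rw [hr2, le_div_iff₀ hDpos]; exact h1
      have h3 : (Cfsg.charDegree φ.1 : ℝ) ≤ r :=
        (pow_le_pow_iff_left₀ (Nat.cast_nonneg _) hrnn two_ne_zero).mp h2
      have h4 : (1 : ℝ) ≤ m φ := by exact_mod_cast Nat.one_le_iff_ne_zero.mpr hmφ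
      have h5 : (m φ : ℝ) ≤ (m φ : ℝ) ^ 2 := by nlinarith
      calc (m φ : ℝ) * (Cfsg.charDegree φ.1 : ℝ) ≤ (m φ : ℝ) * r :=
            mul_le_mul_of_nonneg_left h3 (Nat.cast_nonneg _)
        _ ≤ (m φ : ℝ) ^ 2 * r := mul_le_mul_of_nonneg_right h5 hrnn
  have hsumle : ∑ φ : Cfsg.IrrCharacter C, (m φ : ℝ) * (Cfsg.charDegree φ.1 : ℝ) ≤
      (∑ φ : Cfsg.IrrCharacter C, ((m φ : ℝ)) ^ 2) * r := by
    rw [Finset.sum_mul]
    exact Finset.sum_le_sum (fun φ _ => hterm φ)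
  set S : ℝ := ∑ φ : Cfsg.IrrCharacter C, (m φ : ℝ) * (Cfsg.charDegree φ.1 : ℝ) with hS
  set M : ℝ := ∑ φ : Cfsg.IrrCharacter C, ((m φ : ℝ)) ^ 2 with hM
  have hSnn : 0 ≤ S := Finset.sum_nonneg (fun φ _ => mul_nonneg (Nat.cast_nonneg _) (Nat.cast_nonneg _))
  have hMnn : 0 ≤ M := Finset.sum_nonneg (fun φ _ => sq_nonneg _)
  have hS2 : S ^ 2 ≤ M ^ 2 * r ^ 2 := by
    have := pow_le_pow_left₀ hSnn hsumle 2
    rwa [mul_pow] at this
  have hM2 : (Nat.card C : ℝ) ^ 2 * M ^ 2 ≤ (Nat.card G : ℝ) ^ 2 := by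
    have := pow_le_pow_left₀ (mul_nonneg hCpos.le hMnn) hmsq 2
    rwa [mul_pow] at this
  calc S ^ 2 * (Nat.card C : ℝ) * (Nat.card D : ℝ)
      ≤ M ^ 2 * r ^ 2 * (Nat.card C : ℝ) * (Nat.card D : ℝ) := by
        apply mul_le_mul_of_nonneg_right _ hDpos.le
        exact mul_le_mul_of_nonneg_right hS2 hCpos.le
    _ = (Nat.card C : ℝ) ^ 2 * M ^ 2 := by
        rw [hr2]; field_simp
    _ ≤ (Nat.card G : ℝ) ^ 2 := hM2

end Cfsg.Agent.S1492
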