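import Cfsg.Statements.S1493
import Cfsg.Agent.Lib.Helper8.CharGalois

set_option autoImplicit false
open Cfsg

namespace Cfsg.Agent.S1493

/-- Let G be a finite group of order a * b with a and b coprime, let k be coprime to a, and let χ be a character of G. Then there is a character χ' of G such that χ'(g) = χ(g ^ k) whenever the order of g divides a and χ'(g) = χ(g) whenever the order of g is coprime to a; moreover χ' is irreducible if χ is. -/
theorem result {G : Type*} [Group G] [Finite G] (a b k : ℕ) (hab : Nat.card G = a * b) (hcop : Nat.Coprime a b) (hk : Nat.Coprime k a) (χ : G → ℂ) (hχ : Cfsg.IsCharacter G χ) : ∃ χ' : G → ℂ, Cfsg.IsCharacter G χ' ∧ (Cfsg.IsIrrCharacter G χ → Cfsg.IsIrrCharacter G χ') ∧ (∀ g : G, orderOf g ∣ a → χ' g = χ (g ^ k)) ∧ (∀ g : G, Nat.Coprime (orderOf g) a → χ' g = χ g) := by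
  classical
  have hab0 : a * b ≠ 0 := by rw [← hab]; exact Nat.card_pos.ne'
  have ha0 : a ≠ 0 := fun h => hab0 (by rw [h, zero_mul])
  have hb0 : b ≠ 0 := fun h => hab0 (by rw [h, mul_zero])
  obtain ⟨m, hma, hmb⟩ := Nat.chineseRemainder hcop k 1
  have hmcop : m.Coprime (Nat.card G) := by
    rw [hab]
    apply Nat.Coprime.mul_right
    · have h1 : Nat.gcd m a = Nat.gcd k a := Nat.ModEq.gcd_eq hma
      rw [Nat.Coprime, h1]; exact hk
    · have h1 : Nat.gcd m b = Nat.gcd 1 b := Nat.ModEq.gcd_eq hmb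
      rw [Nat.Coprime, h1]; simp
  refine ⟨fun g => χ (g ^ m), Cfsg.Agent.Lib.Helper8.galois_conj_isCharacter hmcop hχ,
    fun hirr => Cfsg.Agent.Lib.Helper8.galois_conj_isIrrCharacter hmcop hirr, ?_, ?_⟩
  · intro g hg
    have h1 : m ≡ k [MOD orderOf g] := hma.of_dvd hg
    have : g ^ m = g ^ k := pow_eq_pow_iff_modEq.mpr h1
    simp only [this]
  · intro g hg
    have hdvd : orderOf g ∣ a * b := by rw [← hab]; exact orderOf_dvd_natCard g
    have hgb : orderOf g ∣ b := hg.dvd_of_dvd_mul_left hdvd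
    have h1 : m ≡ 1 [MOD orderOf g] := hmb.of_dvd hgb
    have : g ^ m = g ^ 1 := pow_eq_pow_iff_modEq.mpr h1
    simp only [this, pow_one]

end Cfsg.Agent.S1493
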