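import Cfsg.Statements.S1494
import Cfsg.Agent.Lib.Helper8.CharVanish

set_option autoImplicit false
open Cfsg

namespace Cfsg.Agent.S1494

/-- Let χ be a generalized character of the finite group G, p a prime, x an element of order p and y an element commuting with x. Then χ(x * y) − χ(y) = (1 − ε) * ω for some algebraic integer ω, where ε = exp(2πi/p). -/
theorem result {G : Type*} [Group G] [Finite G] (χ : G → ℂ) (hχ : Cfsg.IsGeneralizedCharacter G χ) (p : ℕ) (hp : p.Prime) (x y : G) (hx : orderOf x = p) (hxy : x * y = y * x) : ∃ ω : ℂ, IsIntegral ℤ ω ∧ χ (x * y) - χ y = (1 - Complex.exp (2 * Real.pi * Complex.I / p)) * ω := by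
  classical
  have key : ∀ θ : G → ℂ, Cfsg.IsCharacter G θ → ∃ ω : ℂ, IsIntegral ℤ ω ∧
      θ (x * y) - θ y = (1 - Complex.exp (2 * Real.pi * Complex.I / p)) * ω := by
    rintro θ ⟨n, ρ, rfl⟩
    have hε : IsPrimitiveRoot (Complex.exp (2 * Real.pi * Complex.I / p)) p :=
      Complex.isPrimitiveRoot_exp p hp.ne_zero
    have hf : (ρ x) ^ p = 1 := by rw [← map_pow, ← hx, pow_orderOf_eq_one, map_one]
    have hg : (ρ y) ^ (orderOf y) = 1 := by rw [← map_pow, pow_orderOf_eq_one, map_one]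
    have hfg : ρ x * ρ y = ρ y * ρ x := by rw [← map_mul, ← map_mul, hxy]
    obtain ⟨ω, hω, h⟩ := Cfsg.Agent.Lib.Helper8.trace_mul_sub_trace hp.pos (orderOf_pos y) hf hg hfg hε
    refine ⟨ω, hω, ?_⟩
    simp only [Representation.character]
    rw [map_mul]
    exact h
  obtain ⟨χ₁, χ₂, h1, h2, rfl⟩ := hχ
  obtain ⟨ω₁, hω₁, e1⟩ := key χ₁ h1
  obtain ⟨ω₂, hω₂, e2⟩ := key χ₂ h2
  refine ⟨ω₁ - ω₂, hω₁.sub hω₂, ?_⟩
  simp only [Pi.sub_apply]
  linear_combination e1 - e2

end Cfsg.Agent.S1494
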