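import Cfsg.Statements.S1496
import Cfsg.Agent.Lib.Helper4.CoprimeAct

set_option autoImplicit false
open Cfsg

namespace Cfsg.Agent.S1496

/-- a copy of `G` on which `G` acts by conjugation -/
structure CP (G : Type*) where
  val : G

instance {G : Type*} [Group G] : MulAction G (CP G) where
  smul g x := ⟨g * x.val * g⁻¹⟩
  one_smul x := by
    obtain ⟨v⟩ := x
    show CP.mk (1 * v * 1⁻¹) = CP.mk v
    congr 1
    group
  mul_smul a b x := by
    obtain ⟨v⟩ := x
    show CP.mk ((a * b) * v * (a * b)⁻¹) = CP.mk (a * (b * v * b⁻¹) * a⁻¹)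
    congr 1
    group

theorem CP.smul_val {G : Type*} [Group G] (g : G) (x : CP G) : (g • x).val = g * x.val * g⁻¹ := rfl

theorem CP.ext' {G : Type*} {x y : CP G} (h : x.val = y.val) : x = y := by
  cases x; cases y; cases h; rfl

theorem result {G : Type*} [Group G] [Finite G] (H : Subgroup G) (g : G) (hg : g ∈ Subgroup.normalizer (H : Set G)) (hcop : Nat.Coprime (orderOf g) (Nat.card H)) (h : G) (hh : h ∈ H) : ∃ x ∈ H, ∃ c ∈ H, c * g = g * c ∧ x * (h * g) * x⁻¹ = c * g := by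
  set A : Subgroup G := Subgroup.zpowers g with hA
  have hAH : A ≤ Subgroup.normalizer (H : Set G) := Subgroup.zpowers_le.mpr hg
  have hcopA : (Nat.card A).Coprime (Nat.card H) := by
    rw [hA, Nat.card_zpowers]; exact hcop
  have hsolv : Group.IsSolvable ↥A := inferInstance
  set ω₀ : CP G := ⟨h * g⟩ with hω₀
  -- the subgroup of elements of N(H) moving ω₀ inside its H-orbit
  let S' : Subgroup G :=
    { carrier := {a | a ∈ Subgroup.normalizer (H : Set G) ∧ ∃ k ∈ H, a • ω₀ = k • ω₀}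
      one_mem' := ⟨Subgroup.one_mem _, 1, H.one_mem, rfl⟩
      mul_mem' := by
        rintro a b ⟨haN, k₁, hk₁, h₁⟩ ⟨hbN, k₂, hk₂, h₂⟩
        refine ⟨Subgroup.mul_mem _ haN hbN, a * k₂ * a⁻¹ * k₁, ?_, ?_⟩
        · exact H.mul_mem ((Subgroup.mem_normalizer_iff.mp haN k₂).mp hk₂) hk₁
        · rw [mul_smul, h₂, mul_smul, ← h₁, ← mul_smul, ← mul_smul]
          congr 1
          group
      inv_mem' := by
        rintro a ⟨haN, k₁, hk₁, h₁⟩
        refine ⟨Subgroup.inv_mem _ haN, a⁻¹ * k₁⁻¹ * a, ?_, ?_⟩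
        · have := (Subgroup.mem_normalizer_iff.mp (Subgroup.inv_mem _ haN) k₁⁻¹).mp (H.inv_mem hk₁)
          simpa using this
        · rw [mul_smul, mul_smul, h₁, ← mul_smul k₁⁻¹, inv_mul_cancel, one_smul] }
  have hgS' : g ∈ S' := by
    refine ⟨hg, h⁻¹, H.inv_mem hh, ?_⟩
    apply CP.ext'
    rw [CP.smul_val, CP.smul_val]
    show g * (h * g) * g⁻¹ = h⁻¹ * (h * g) * h⁻¹⁻¹
    group
  have hAS' : A ≤ S' := Subgroup.zpowers_le.mpr hgS'
  obtain ⟨k, hk, hfix⟩ := Cfsg.Agent.Lib.Helper4.glauberman_fix A H hAH hcopA (Or.inl hsolv) ω₀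
    (fun a ha => (hAS' ha).2)
  have hfixg := hfix g (Subgroup.mem_zpowers g)
  have hv := congrArg CP.val hfixg
  rw [CP.smul_val, CP.smul_val] at hv
  -- v = k (h g) k⁻¹ commutes with g
  set v : G := k * (h * g) * k⁻¹ with hvdef
  have hvg : g * v * g⁻¹ = v := hv
  refine ⟨k, hk, v * g⁻¹, ?_, ?_, ?_⟩
  · have h1 : g * k⁻¹ * g⁻¹ ∈ H := (Subgroup.mem_normalizer_iff.mp hg k⁻¹).mp (H.inv_mem hk)
    have : v * g⁻¹ = k * h * (g * k⁻¹ * g⁻¹) := by rw [hvdef]; group
    rw [this]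
    exact H.mul_mem (H.mul_mem hk hh) h1
  · have h2 : g * v = v * g := by
      have : g * v = (g * v * g⁻¹) * g := by group
      rw [this, hvg]
    calc v * g⁻¹ * g = v := by group
      _ = g * v * g⁻¹ := hvg.symm
      _ = g * (v * g⁻¹) := by group
  · rw [hvdef]; group

end Cfsg.Agent.S1496
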