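import Mathlib
import Cfsg.Statements.S1498
import Cfsg.Agent.Lib.Helper3.Hall

set_option autoImplicit false
open Cfsg
open Cfsg.Agent.Lib.Helper3

namespace Cfsg.Agent.S1498

lemma centralizer_conj {G : Type*} [Group G] (a x : G) :
    Subgroup.centralizer ({x * a * x⁻¹} : Set G) =
      (Subgroup.centralizer ({a} : Set G)).map (MulAut.conj x).toMonoidHom := by
  ext c
  rw [mem_map_conj, Subgroup.mem_centralizer_iff, Subgroup.mem_centralizer_iff]
  simp only [Set.mem_singleton_iff, forall_eq]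
  constructor
  · intro h
    calc a * (x⁻¹ * c * x) = x⁻¹ * ((x * a * x⁻¹) * c) * x := by group
      _ = x⁻¹ * (c * (x * a * x⁻¹)) * x := by rw [h]
      _ = x⁻¹ * c * x * a := by group
  · intro h
    calc x * a * x⁻¹ * c = x * (a * (x⁻¹ * c * x)) * x⁻¹ := by group
      _ = x * ((x⁻¹ * c * x) * a) * x⁻¹ := by rw [h]
      _ = c * (x * a * x⁻¹) := by group

lemma map_conj_self_of_mem {G : Type*} [Group G] (L : Subgroup G) {x : G} (hx : x ∈ L) :
    L.map (MulAut.conj x).toMonoidHom = L := by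
  ext y
  rw [mem_map_conj]
  constructor
  · intro h
    have := L.mul_mem (L.mul_mem hx h) (L.inv_mem hx)
    have e : x * (x⁻¹ * y * x) * x⁻¹ = y := by group
    rwa [e] at this
  · intro h
    exact L.mul_mem (L.mul_mem (L.inv_mem hx) h) hx

lemma le_normalizer_of_conj_mem {G : Type*} [Group G] (N C : Subgroup G)
    (h : ∀ c ∈ C, ∀ u ∈ N, c * u * c⁻¹ ∈ N) : C ≤ Subgroup.normalizer (N : Set G) := by
  intro c hc
  rw [Subgroup.mem_set_normalizer_iff]
  intro n
  constructor
  · intro hn; exact h c hc n hn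
  · intro hn
    have := h c⁻¹ (C.inv_mem hc) _ hn
    simpa [mul_assoc] using this

theorem result {G : Type*} [Group G] [Finite G] (A : Set G) (L : Subgroup G) (H : G → Subgroup G) (hD : Cfsg.DadeHypothesis A L H) (a : G) (ha : a ∈ A) (x : G) (hx : x ∈ L) : H (x * a * x⁻¹) = (H a).map (MulAut.conj x).toMonoidHom := by
  set b := x * a * x⁻¹ with hb
  have hbA : b ∈ A := hD.conj_mem x hx a ha
  set Cb := Subgroup.centralizer ({b} : Set G) with hCb
  set M := L ⊓ Cb with hM
  set K1 := H b with hK1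
  set K2 := (H a).map (MulAut.conj x).toMonoidHom with hK2
  have hCba : Cb = (Subgroup.centralizer ({a} : Set G)).map (MulAut.conj x).toMonoidHom :=
    centralizer_conj a x
  have hMa : M = (L ⊓ Subgroup.centralizer ({a} : Set G)).map (MulAut.conj x).toMonoidHom := by
    rw [Subgroup.map_inf _ _ _ (MulAut.conj x).injective, map_conj_self_of_mem L hx, hM, hCba]
  have hMCb : M ≤ Cb := inf_le_right
  -- normalizer facts
  have hN1 : Cb ≤ Subgroup.normalizer (K1 : Set G) :=
    le_normalizer_of_conj_mem K1 Cb (hD.conj_mem_H b hbA)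
  have hN2 : Cb ≤ Subgroup.normalizer (K2 : Set G) := by
    apply le_normalizer_of_conj_mem
    intro c hc u hu
    rw [hK2, mem_map_conj] at hu ⊢
    rw [hCba, mem_map_conj] at hc
    have := hD.conj_mem_H a ha _ hc _ hu
    have e : x⁻¹ * c * x * (x⁻¹ * u * x) * (x⁻¹ * c * x)⁻¹ = x⁻¹ * (c * u * c⁻¹) * x := by group
    rwa [e] at this
  have hsup1 : K1 ⊔ M = Cb := hD.sup_eq b hbA
  have hsup2 : K2 ⊔ M = Cb := by
    rw [hK2, hMa, ← Subgroup.map_sup, hD.sup_eq a ha, hCba]
  have hK1Cb : K1 ≤ Cb := hD.le_centralizer b hbA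
  have hK2Cb : K2 ≤ Cb := by
    rw [hCba]; exact Subgroup.map_mono (hD.le_centralizer a ha)
  have hcop1 : (Nat.card K1).Coprime (Nat.card M) := hD.coprime b hbA b hbA
  have hcop2 : (Nat.card K2).Coprime (Nat.card M) := by
    rw [hK2, card_map_conj]
    exact hD.coprime a ha b hbA
  apply le_antisymm
  · exact le_of_coprime_of_le_sup K2 M K1 (hMCb.trans hN2) (hsup2 ▸ hK1Cb) hcop1
  · exact le_of_coprime_of_le_sup K1 M K2 (hMCb.trans hN1) (hsup1 ▸ hK2Cb) hcop2

end Cfsg.Agent.S1498
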