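import Cfsg.Statements.S1499
import Cfsg.Agent.Lib.Helper8.CyclicTI

set_option autoImplicit false
open Cfsg

namespace Cfsg.Agent.S1499

open Cfsg.Agent.Lib.Helper8
theorem pow_card_sub {G : Type*} [Group G] [Finite G] (K : Subgroup G) {x : G} (hx : x ∈ K) :
    x ^ Nat.card K = 1 := by
  have := pow_card_eq_one' (G := ↥K) (x := ⟨x, hx⟩)
  have h2 := congrArg Subtype.val this
  rw [Subgroup.coe_pow, Subgroup.coe_one] at h2
  exact h2

/-- Under the Dade hypothesis for (A, L, H), let a, b ∈ A. If an element of the coset a·H(a) is conjugate in G to an element of b·H(b), then a and b are conjugate by an element of L. Moreover the set normaliser of the coset a·H(a) is the centraliser of a. -/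
theorem result {G : Type*} [Group G] [Finite G] (A : Set G) (L : Subgroup G) (H : G → Subgroup G) (hD : Cfsg.DadeHypothesis A L H) (a b : G) (ha : a ∈ A) (hb : b ∈ A) : ((∃ u ∈ H a, ∃ v ∈ H b, ∃ g : G, g * (a * u) * g⁻¹ = b * v) → ∃ x ∈ L, x * a * x⁻¹ = b) ∧ Subgroup.normalizer ((fun u : G => a * u) '' (H a : Set G)) = Subgroup.centralizer ({a} : Set G) := by
  classical
  have haL : a ∈ L := hD.subset ha
  have hbL : b ∈ L := hD.subset hb
  have haC : a ∈ L ⊓ Subgroup.centralizer ({a} : Set G) :=
    ⟨haL, Subgroup.mem_centralizer_iff.mpr (fun h hh => by rw [Set.mem_singleton_iff.mp hh])⟩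
  have hbC : b ∈ L ⊓ Subgroup.centralizer ({b} : Set G) :=
    ⟨hbL, Subgroup.mem_centralizer_iff.mpr (fun h hh => by rw [Set.mem_singleton_iff.mp hh])⟩
  refine ⟨?_, ?_⟩
  · rintro ⟨u, hu, v, hv, g, hg⟩
    set na := Nat.card (H a) with hna
    set nb := Nat.card (H b) with hnb
    set ca := Nat.card ↥(L ⊓ Subgroup.centralizer ({a} : Set G)) with hca
    set cb := Nat.card ↥(L ⊓ Subgroup.centralizer ({b} : Set G)) with hcb
    have hcop : Nat.Coprime (na * nb) (ca * cb) := by
      apply Nat.Coprime.mul_left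
      · exact Nat.Coprime.mul_right (hD.coprime a ha a ha) (hD.coprime a ha b hb)
      · exact Nat.Coprime.mul_right (hD.coprime b hb a ha) (hD.coprime b hb b hb)
    have hapow : a ^ (ca * cb) = 1 := by rw [pow_mul, pow_card_sub _ haC, one_pow]
    have hbpow : b ^ (ca * cb) = 1 := by rw [mul_comm, pow_mul, pow_card_sub _ hbC, one_pow]
    have hupow : u ^ (na * nb) = 1 := by rw [pow_mul, pow_card_sub _ hu, one_pow]
    have hvpow : v ^ (na * nb) = 1 := by rw [mul_comm, pow_mul, pow_card_sub _ hv, one_pow]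
    have hM : 1 < ca * cb := by
      by_contra hcon
      have hpos : 0 < ca * cb := Nat.mul_pos Nat.card_pos Nat.card_pos
      have h1 : ca * cb = 1 := by omega
      rw [h1, pow_one] at hapow
      exact hD.one_not_mem (hapow ▸ ha)
    obtain ⟨e, -, he⟩ := Nat.exists_mul_mod_eq_one_of_coprime hcop hM
    have hmod : na * nb * e ≡ 1 [MOD ca * cb] := by
      unfold Nat.ModEq
      rw [he, Nat.mod_eq_of_lt hM]
    have hau : Commute a u := by
      have := Subgroup.mem_centralizer_iff.mp (hD.le_centralizer a ha hu) a rfl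
      exact this
    have hbv : Commute b v := by
      have := Subgroup.mem_centralizer_iff.mp (hD.le_centralizer b hb hv) b rfl
      exact this
    have h1 : (a * u) ^ (na * nb * e) = a := by
      rw [hau.mul_pow, pow_mul u, hupow, one_pow, mul_one]
      have := pow_eq_pow_of_modEq hmod hapow
      rw [this, pow_one]
    have h2 : (b * v) ^ (na * nb * e) = b := by
      rw [hbv.mul_pow, pow_mul v, hvpow, one_pow, mul_one]
      have := pow_eq_pow_of_modEq hmod hbpow
      rw [this, pow_one]
    have h3 : g * a * g⁻¹ = b := by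
      rw [← h2, ← hg, conj_pow, h1]
    obtain ⟨x, hx, hxa⟩ := hD.fusion a ha g (by rw [h3]; exact hb)
    exact ⟨x, hx, hxa.trans h3⟩
  · apply le_antisymm
    · intro g hg
      rw [Subgroup.mem_set_normalizer_iff] at hg
      have hmem : a ∈ (fun u : G => a * u) '' (H a : Set G) := ⟨1, (H a).one_mem, mul_one a⟩
      obtain ⟨u, hu, hgu⟩ := (hg a).mp hmem
      have hu' : u ∈ H a := hu
      have hgu' : a * u = g * a * g⁻¹ := hgu
      have hau : Commute a u := by
        have := Subgroup.mem_centralizer_iff.mp (hD.le_centralizer a ha hu') a rfl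
        exact this
      have hu1 : u ^ Nat.card ↥(L ⊓ Subgroup.centralizer ({a} : Set G)) = 1 := by
        have h1 : (g * a * g⁻¹) ^ Nat.card ↥(L ⊓ Subgroup.centralizer ({a} : Set G)) = 1 := by
          rw [conj_pow, pow_card_sub _ haC]; group
        rw [← hgu', hau.mul_pow, pow_card_sub _ haC, one_mul] at h1
        exact h1
      have hu2 : u ^ Nat.card (H a) = 1 := pow_card_sub _ hu'
      have hord : orderOf u ∣ 1 := by
        have d1 := orderOf_dvd_of_pow_eq_one hu1
        have d2 := orderOf_dvd_of_pow_eq_one hu2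
        have := Nat.dvd_gcd d2 d1
        rwa [Nat.Coprime.gcd_eq_one (hD.coprime a ha a ha)] at this
      have hu0 : u = 1 := orderOf_eq_one_iff.mp (Nat.dvd_one.mp hord)
      rw [hu0, mul_one] at hgu'
      rw [Subgroup.mem_centralizer_iff]
      intro h hh
      rw [Set.mem_singleton_iff.mp hh]
      calc a * g = (g * a * g⁻¹) * g := by rw [← hgu']
        _ = g * a := by group
    · intro c hc
      have hca : c * a * c⁻¹ = a := by
        have := Subgroup.mem_centralizer_iff.mp hc a rfl
        rw [← this]; group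
      have hca' : c⁻¹ * a * c = a := by
        conv_lhs => rw [← hca]
        group
      rw [Subgroup.mem_set_normalizer_iff]
      intro n
      constructor
      · rintro ⟨u, hu, rfl⟩
        refine ⟨c * u * c⁻¹, hD.conj_mem_H a ha c hc u hu, ?_⟩
        show a * (c * u * c⁻¹) = c * (a * u) * c⁻¹
        calc a * (c * u * c⁻¹) = (c * a * c⁻¹) * (c * u * c⁻¹) := by rw [hca]
          _ = c * (a * u) * c⁻¹ := by group
      · rintro ⟨u, hu, hun⟩
        have hun' : a * u = c * n * c⁻¹ := hun
        refine ⟨c⁻¹ * u * c⁻¹⁻¹, hD.conj_mem_H a ha c⁻¹ (Subgroup.inv_mem _ hc) u hu, ?_⟩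
        show a * (c⁻¹ * u * c⁻¹⁻¹) = n
        calc a * (c⁻¹ * u * c⁻¹⁻¹) = (c⁻¹ * a * c) * (c⁻¹ * u * c⁻¹⁻¹) := by rw [hca']
          _ = c⁻¹ * (a * u) * c := by group
          _ = c⁻¹ * (c * n * c⁻¹) * c := by rw [hun']
          _ = n := by group

end Cfsg.Agent.S1499
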