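import Cfsg.Statements.S1500
import Cfsg.Agent.Lib.Helper8.DadeIso

set_option autoImplicit false
open Cfsg

namespace Cfsg.Agent.S1500

open Cfsg.Agent.Lib.Helper8

/-- Under the Dade hypothesis for (A, L, H), let α be a class function of L vanishing outside A. Then (i) for every class function β of L vanishing outside A, the inner product over G of the Dade images of α and β equals the inner product of α and β over L; and (ii) for every class function χ of G and every function ψ on L whose value at each a ∈ A is the average of χ over the coset a·H(a), the inner product over G of the Dade image of α with χ equals the inner product over L of α with ψ. -/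
theorem result {G : Type*} [Group G] [Fintype G] (A : Set G) (L : Subgroup G) [Fintype L] (H : G → Subgroup G) (hD : Cfsg.DadeHypothesis A L H) (α : L → ℂ) (hα : Cfsg.IsClassFunction L α) (hαA : ∀ x : L, (x : G) ∉ A → α x = 0) : (∀ β : L → ℂ, Cfsg.IsClassFunction L β → (∀ x : L, (x : G) ∉ A → β x = 0) → Cfsg.classInner (Cfsg.dadeIsometry A L H α) (Cfsg.dadeIsometry A L H β) = Cfsg.classInner α β) ∧ (∀ (χ : G → ℂ) (ψ : L → ℂ), Cfsg.IsClassFunction G χ → (∀ a : L, (a : G) ∈ A → ψ a = (Nat.card (H a) : ℂ)⁻¹ * ∑ᶠ u ∈ (H a : Set G), χ (a * u)) → Cfsg.classInner (Cfsg.dadeIsometry A L H α) χ = Cfsg.classInner α ψ) := by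
  classical
  refine ⟨?_, ?_⟩
  · intro β hβ hβA
    apply dade_inner hD α hα hαA (dadeIsometry A L H β) (dadeIsometry_classFunction hD β hβ) β
    intro a haA
    have hcongr : ∑ᶠ u ∈ (H a : Set G), dadeIsometry A L H β (a * u)
        = ∑ᶠ u ∈ (H a : Set G), β a := by
      apply finsum_mem_congr rfl
      intro u hu
      exact dadeIsometry_eq hD β hβ a haA (x := 1) (u₀ := u) hu (by group)
    rw [hcongr, finsum_mem_eq_finite_toFinset_sum _ (Set.toFinite _), Finset.sum_const,
      ← Set.ncard_eq_toFinset_card _ (Set.toFinite _), nsmul_eq_mul]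
    have hc : ((H (a : G) : Set G)).ncard = Nat.card (H (a : G)) :=
      (Nat.card_coe_set_eq _).symm
    rw [hc]
    have hne : (Nat.card (H (a : G)) : ℂ) ≠ 0 := by exact_mod_cast Nat.card_pos.ne'
    field_simp
  · intro χ ψ hχ hψ
    exact dade_inner hD α hα hαA χ hχ ψ hψ

end Cfsg.Agent.S1500
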