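import Cfsg.Statements.S1503
import Cfsg.Agent.Lib.Helper8.CharComplete2
import Cfsg.Agent.Lib.Helper8.FinOrdEnd
import Cfsg.Agent.Lib.Helper8.Artin

set_option autoImplicit false
open Cfsg

namespace Cfsg.Agent.S1503

open Cfsg.Agent.Lib.Helper8
open scoped ComplexConjugate

/-- Let W₁, W₂ ≤ G with W = W₁ ⊔ W₂ and let χ an orthonormal family of irreducible characters of G up to sign, indexed by the linear characters ω of W, with χ_1 = 1, χ_ω = ω on W outside W₁ ∪ W₂, and the induction identity for (1 − φ)(1 − ψ). If θ is an irreducible character of G orthogonal to χ ω for every linear character ω of W, then θ vanishes at every element of W lying outside W₁ ∪ W₂. -/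
theorem result {G : Type*} [Group G] [Fintype G] (W₁ W₂ : Subgroup G) (hW : Cfsg.IsSelfNormalizingCyclic W₁ W₂) (χ : (↥(W₁ ⊔ W₂) →* ℂˣ) → (G → ℂ)) (hχ : Cfsg.IsCyclicTIFamily W₁ W₂ χ) (θ : G → ℂ) (hθ : Cfsg.IsIrrCharacter G θ) (horth : ∀ ω, Cfsg.classInner θ (χ ω) = 0) (w : ↥(W₁ ⊔ W₂)) (hw₁ : (w : G) ∉ W₁) (hw₂ : (w : G) ∉ W₂) : θ w = 0 := by
  classical
  obtain ⟨hW1, hW2, hdisj, hcomm, hcyc, hnorm⟩ := hW
  haveI := irr_finite (G := G)
  haveI : Fintype (Cfsg.IrrCharacter G) := Fintype.ofFinite _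
  -- centralizer of w is W
  have hwmem : (w : G) ∈ (↑(W₁ ⊔ W₂) : Set G) \ (↑W₁ ∪ ↑W₂) := by
    refine ⟨w.2, ?_⟩
    rintro (h | h)
    · exact hw₁ h
    · exact hw₂ h
  have hN : Subgroup.normalizer ({(w : G)} : Set G) = W₁ ⊔ W₂ :=
    hnorm {(w : G)} (Set.singleton_subset_iff.mpr hwmem) (Set.singleton_nonempty _)
  haveI := hcyc
  have hCW : Subgroup.centralizer ({(w : G)} : Set G) = W₁ ⊔ W₂ := by
    apply le_antisymm
    · refine le_trans ?_ (le_of_eq hN)
      intro g hg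
      rw [Subgroup.mem_set_normalizer_iff]
      intro h
      have hgw : g * (w : G) * g⁻¹ = w := by
        have := (Subgroup.mem_centralizer_iff.mp hg) (w : G) rfl
        rw [← this]; group
      simp only [Set.mem_singleton_iff]
      constructor
      · intro hh; rw [hh, hgw]
      · intro hh
        have : h = g⁻¹ * (g * h * g⁻¹) * g := by group
        have h5 : g⁻¹ * (w : G) * g = w := by
          conv_lhs => rw [← hgw]
          group
        rw [this, hh, h5]
    · intro g hg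
      rw [Subgroup.mem_centralizer_iff]
      intro h hh
      rw [Set.mem_singleton_iff] at hh
      rw [hh]
      have := comm_of_isCyclic (⟨g, hg⟩ : ↥(W₁ ⊔ W₂)) w
      exact (congrArg Subtype.val this).symm
  -- column orthogonality
  have hcol := irr_sum_mul_conj (w : G) (w : G)
  rw [if_pos (IsConj.refl _), hCW] at hcol
  have hcolR : ∑ ψ : Cfsg.IrrCharacter G, ‖ψ.1 (w : G)‖ ^ 2 = (Nat.card ↥(W₁ ⊔ W₂) : ℝ) := by
    have h1 : ∀ ψ : Cfsg.IrrCharacter G, ψ.1 (w : G) * conj (ψ.1 (w : G)) =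
        ((‖ψ.1 (w : G)‖ ^ 2 : ℝ) : ℂ) := by
      intro ψ
      rw [Complex.mul_conj, Complex.normSq_eq_norm_sq]
    simp_rw [h1] at hcol
    rw [← Complex.ofReal_sum] at hcol
    exact_mod_cast hcol
  -- the family
  have hirr := hχ.irr_or_neg
  let ι : (↥(W₁ ⊔ W₂) →* ℂˣ) → Cfsg.IrrCharacter G := fun ω =>
    if h : Cfsg.IsIrrCharacter G (χ ω) then ⟨χ ω, h⟩
    else ⟨-χ ω, (hirr ω).resolve_left h⟩
  have hιval : ∀ ω, (ι ω).1 = χ ω ∨ (ι ω).1 = -χ ω := by
    intro ω
    by_cases h : Cfsg.IsIrrCharacter G (χ ω)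
    · left; simp only [ι, dif_pos h]
    · right; simp only [ι, dif_neg h]
  have hιinner : ∀ ω ω', Cfsg.classInner (ι ω).1 (χ ω') = if ω = ω' then
      (if (ι ω).1 = χ ω then 1 else -1) else 0 := by
    intro ω ω'
    rcases hιval ω with h | h
    · rw [h, hχ.orthonormal]
      by_cases hω : ω = ω'
      · rw [if_pos hω, if_pos hω, if_pos rfl]
      · rw [if_neg hω, if_neg hω]
    · rw [h]
      have hneg : Cfsg.classInner (-χ ω) (χ ω') = -Cfsg.classInner (χ ω) (χ ω') := by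
        unfold Cfsg.classInner
        simp only [Pi.neg_apply, neg_mul, Finset.sum_neg_distrib, mul_neg]
      rw [hneg, hχ.orthonormal]
      by_cases hω : ω = ω'
      · rw [if_pos hω, if_pos hω]
        have hne : ¬ (-χ ω = χ ω) := by
          intro hcon
          have h2 : χ ω = 0 := by
            ext g
            have := congrFun hcon g
            simp only [Pi.neg_apply] at this
            have h3 : (2 : ℂ) * χ ω g = 0 := by linear_combination -this
            simpa using h3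
          have h4 := hχ.orthonormal ω ω
          rw [if_pos rfl, h2] at h4
          unfold Cfsg.classInner at h4
          simp at h4
        rw [if_neg hne]
      · rw [if_neg hω, if_neg hω, neg_zero]
  have hιinj : Function.Injective ι := by
    intro ω ω' h
    by_contra hne
    have h1 := hιinner ω ω'
    rw [if_neg hne] at h1
    have h2 := hιinner ω' ω'
    rw [if_pos rfl, ← h, h1] at h2
    split_ifs at h2
    · exact zero_ne_one h2
    · have : (0 : ℂ) ≠ -1 := by norm_num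
      exact this h2
  have hθι : ∀ ω, (⟨θ, hθ⟩ : Cfsg.IrrCharacter G) ≠ ι ω := by
    intro ω h
    have h1 := hιinner ω ω
    rw [if_pos rfl, ← h] at h1
    simp only at h1
    rw [horth ω] at h1
    split_ifs at h1
    · exact zero_ne_one h1
    · have : (0 : ℂ) ≠ -1 := by norm_num
      exact this h1
  have hιnorm : ∀ ω, ‖(ι ω).1 (w : G)‖ ^ 2 = 1 := by
    intro ω
    have h1 : ‖(ι ω).1 (w : G)‖ = ‖((ω w : ℂˣ) : ℂ)‖ := by
      rcases hιval ω with h | h
      · rw [h, hχ.eq_on ω w hw₁ hw₂]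
      · rw [h, Pi.neg_apply, norm_neg, hχ.eq_on ω w hw₁ hw₂]
    have h2 : ((ω w : ℂˣ) : ℂ) ^ (orderOf w) = 1 := by
      rw [← Units.val_pow_eq_pow_val, ← map_pow, pow_orderOf_eq_one, map_one, Units.val_one]
    rw [h1, norm_eq_one_of_pow_eq_one' (orderOf_pos w) h2, one_pow]
  haveI : Finite (↥(W₁ ⊔ W₂) →* ℂˣ) := by
    letI : CommGroup ↥(W₁ ⊔ W₂) := IsCyclic.commGroup
    haveI : NeZero (Monoid.exponent ↥(W₁ ⊔ W₂)) := ⟨Monoid.exponent_ne_zero_of_finite⟩
    have h := CommGroup.card_monoidHom_of_hasEnoughRootsOfUnity ↥(W₁ ⊔ W₂) ℂ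
    apply Nat.finite_of_card_ne_zero
    rw [h]
    exact Nat.card_pos.ne'
  haveI : Fintype (↥(W₁ ⊔ W₂) →* ℂˣ) := Fintype.ofFinite _
  have hcardHom : Fintype.card (↥(W₁ ⊔ W₂) →* ℂˣ) = Nat.card ↥(W₁ ⊔ W₂) := by
    letI : CommGroup ↥(W₁ ⊔ W₂) := IsCyclic.commGroup
    haveI : NeZero (Monoid.exponent ↥(W₁ ⊔ W₂)) := ⟨Monoid.exponent_ne_zero_of_finite⟩
    have h := CommGroup.card_monoidHom_of_hasEnoughRootsOfUnity ↥(W₁ ⊔ W₂) ℂ
    rw [← Nat.card_eq_fintype_card]
    exact h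
  set S : Finset (Cfsg.IrrCharacter G) := insert ⟨θ, hθ⟩ (Finset.image ι Finset.univ) with hS
  have hnotmem : (⟨θ, hθ⟩ : Cfsg.IrrCharacter G) ∉ Finset.image ι Finset.univ := by
    intro h
    obtain ⟨ω, _, hω⟩ := Finset.mem_image.mp h
    exact hθι ω hω.symm
  have hle : ∑ ψ ∈ S, ‖ψ.1 (w : G)‖ ^ 2 ≤ ∑ ψ : Cfsg.IrrCharacter G, ‖ψ.1 (w : G)‖ ^ 2 := by
    apply Finset.sum_le_sum_of_subset_of_nonneg (Finset.subset_univ _)
    intro ψ _ _
    positivity
  rw [hS, Finset.sum_insert hnotmem, Finset.sum_image (fun a _ b _ h => hιinj h), hcolR] at hle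
  simp_rw [hιnorm] at hle
  rw [Finset.sum_const, Finset.card_univ, hcardHom, nsmul_eq_mul, mul_one] at hle
  have h0 : ‖θ (w : G)‖ ^ 2 ≤ 0 := by linarith
  have h1 : ‖θ (w : G)‖ = 0 := by
    have := sq_nonneg ‖θ (w : G)‖
    have h2 : ‖θ (w : G)‖ ^ 2 = 0 := le_antisymm h0 this
    exact pow_eq_zero_iff (two_ne_zero) |>.mp h2
  exact norm_eq_zero.mp h1

end Cfsg.Agent.S1503
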