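import Cfsg.Statements.S1504
import Cfsg.Agent.Lib.Helper8.CyclicTI
import Cfsg.Agent.Lib.Helper8.CharBessel

set_option autoImplicit false
open Cfsg

namespace Cfsg.Agent.S1504

open Cfsg.Agent.Lib.Helper8

/-- Let W₁, W₂ be subgroups of a finite group with W₁ ⊓ W₂ = ⊥ whose elements commute, and W = W₁ ⊔ W₂. For linear characters φ, ψ of W with φ trivial on W₂ and ψ trivial on W₁, the function (1 − φ)(1 − ψ) vanishes on W₁ ∪ W₂; and the family of these functions, indexed by pairs (φ, ψ) with φ ≠ 1 ≠ ψ, is linearly independent over ℂ. -/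
theorem result {G : Type*} [Group G] [Finite G] (W₁ W₂ : Subgroup G) (hdisj : W₁ ⊓ W₂ = ⊥) (hcomm : ∀ a ∈ W₁, ∀ b ∈ W₂, a * b = b * a) : (∀ φ ψ : ↥(W₁ ⊔ W₂) →* ℂˣ, (∀ w : ↥(W₁ ⊔ W₂), (w : G) ∈ W₂ → φ w = 1) → (∀ w : ↥(W₁ ⊔ W₂), (w : G) ∈ W₁ → ψ w = 1) → ∀ w : ↥(W₁ ⊔ W₂), ((w : G) ∈ W₁ ∨ (w : G) ∈ W₂) → (1 - (φ w : ℂ) - (ψ w : ℂ) + (φ w : ℂ) * (ψ w : ℂ)) = 0) ∧ LinearIndependent ℂ (fun p : {p : (↥(W₁ ⊔ W₂) →* ℂˣ) × (↥(W₁ ⊔ W₂) →* ℂˣ) // p.1 ≠ 1 ∧ p.2 ≠ 1 ∧ (∀ w : ↥(W₁ ⊔ W₂), (w : G) ∈ W₂ → p.1 w = 1) ∧ (∀ w : ↥(W₁ ⊔ W₂), (w : G) ∈ W₁ → p.2 w = 1)} => fun w : ↥(W₁ ⊔ W₂) => 1 - (p.1.1 w : ℂ) - (p.1.2 w : ℂ) + (p.1.1 w : ℂ) * (p.1.2 w : ℂ)) := by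
  classical
  haveI : Fintype ↥(W₁ ⊔ W₂) := Fintype.ofFinite _
  refine ⟨?_, ?_⟩
  · intro φ ψ hφ hψ w hw
    rcases hw with hw | hw
    · rw [hψ w hw]; simp
    · rw [hφ w hw]; simp
  · rw [linearIndependent_iff']
    intro s c hsum p hp
    have hfun : ∀ q : {p : (↥(W₁ ⊔ W₂) →* ℂˣ) × (↥(W₁ ⊔ W₂) →* ℂˣ) // p.1 ≠ 1 ∧ p.2 ≠ 1 ∧
        (∀ w : ↥(W₁ ⊔ W₂), (w : G) ∈ W₂ → p.1 w = 1) ∧
        (∀ w : ↥(W₁ ⊔ W₂), (w : G) ∈ W₁ → p.2 w = 1)},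
        (fun w : ↥(W₁ ⊔ W₂) => 1 - (q.1.1 w : ℂ) - (q.1.2 w : ℂ) + (q.1.1 w : ℂ) * (q.1.2 w : ℂ)) =
        fun w => linFun (1 : ↥(W₁ ⊔ W₂) →* ℂˣ) w - linFun q.1.1 w - linFun q.1.2 w +
          linFun (q.1.1 * q.1.2) w := by
      intro q; funext w; simp [linFun_apply]
    have hterm : ∀ q : {p : (↥(W₁ ⊔ W₂) →* ℂˣ) × (↥(W₁ ⊔ W₂) →* ℂˣ) // p.1 ≠ 1 ∧ p.2 ≠ 1 ∧
        (∀ w : ↥(W₁ ⊔ W₂), (w : G) ∈ W₂ → p.1 w = 1) ∧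
        (∀ w : ↥(W₁ ⊔ W₂), (w : G) ∈ W₁ → p.2 w = 1)},
        classInner (fun w : ↥(W₁ ⊔ W₂) => 1 - (q.1.1 w : ℂ) - (q.1.2 w : ℂ) +
          (q.1.1 w : ℂ) * (q.1.2 w : ℂ)) (linFun (p.1.1 * p.1.2)) = if q = p then 1 else 0 := by
      intro q
      obtain ⟨⟨φ, ψ⟩, hφ1, hψ1, hφ, hψ⟩ := q
      obtain ⟨⟨φ', ψ'⟩, hφ1', hψ1', hφ', hψ'⟩ := p
      rw [hfun, classInner_four_left, irr_classInner (linFun_isIrr _) (linFun_isIrr _),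
        irr_classInner (linFun_isIrr _) (linFun_isIrr _),
        irr_classInner (linFun_isIrr _) (linFun_isIrr _),
        irr_classInner (linFun_isIrr _) (linFun_isIrr _)]
      simp only [linFun_injective.eq_iff]
      have htriv1 : ∀ w : ↥(W₁ ⊔ W₂), (w : G) ∈ W₂ → (1 : ↥(W₁ ⊔ W₂) →* ℂˣ) w = 1 := fun _ _ => rfl
      have htriv2 : ∀ w : ↥(W₁ ⊔ W₂), (w : G) ∈ W₁ → (1 : ↥(W₁ ⊔ W₂) →* ℂˣ) w = 1 := fun _ _ => rfl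
      have e1 : ¬ (1 : ↥(W₁ ⊔ W₂) →* ℂˣ) = φ' * ψ' := by
        intro h
        have h' : (1 : ↥(W₁ ⊔ W₂) →* ℂˣ) * 1 = φ' * ψ' := (one_mul (1 : ↥(W₁ ⊔ W₂) →* ℂˣ)).trans h
        exact hφ1' (hom_prod_unique W₁ W₂ hcomm _ _ _ _ htriv1 hφ' htriv2 hψ' h').1.symm
      have e2 : ¬ φ = φ' * ψ' := by
        intro h
        have h' : φ * 1 = φ' * ψ' := (mul_one φ).trans h
        exact hψ1' (hom_prod_unique W₁ W₂ hcomm _ _ _ _ hφ hφ' htriv2 hψ' h').2.symm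
      have e3 : ¬ ψ = φ' * ψ' := by
        intro h
        have h' : 1 * ψ = φ' * ψ' := (one_mul ψ).trans h
        exact hφ1' (hom_prod_unique W₁ W₂ hcomm _ _ _ _ htriv1 hφ' hψ hψ' h').1.symm
      rw [if_neg e1, if_neg e2, if_neg e3]
      by_cases e4 : φ * ψ = φ' * ψ'
      · obtain ⟨h1, h2⟩ := hom_prod_unique W₁ W₂ hcomm _ _ _ _ hφ hφ' hψ hψ' e4
        subst h1; subst h2
        rw [if_pos e4, if_pos rfl]; ring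
      · rw [if_neg e4, if_neg]
        · ring
        · intro h
          apply e4
          have := congrArg Subtype.val h
          simp only [Prod.mk.injEq] at this
          rw [this.1, this.2]
    have h := congrArg (fun f => classInner f (linFun (p.1.1 * p.1.2))) hsum
    beta_reduce at h
    have hL : (∑ q ∈ s, c q • (fun w : ↥(W₁ ⊔ W₂) => 1 - (q.1.1 w : ℂ) - (q.1.2 w : ℂ) +
        (q.1.1 w : ℂ) * (q.1.2 w : ℂ))) =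
        fun w => ∑ q ∈ s, c q * ((fun q : {p : (↥(W₁ ⊔ W₂) →* ℂˣ) × (↥(W₁ ⊔ W₂) →* ℂˣ) // p.1 ≠ 1 ∧ p.2 ≠ 1 ∧
        (∀ w : ↥(W₁ ⊔ W₂), (w : G) ∈ W₂ → p.1 w = 1) ∧
        (∀ w : ↥(W₁ ⊔ W₂), (w : G) ∈ W₁ → p.2 w = 1)} => fun w : ↥(W₁ ⊔ W₂) =>
          1 - (q.1.1 w : ℂ) - (q.1.2 w : ℂ) + (q.1.1 w : ℂ) * (q.1.2 w : ℂ)) q w) := by
      funext w
      simp only [Finset.sum_apply, Pi.smul_apply, smul_eq_mul]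
    rw [hL, classInner_sum_left] at h
    simp only [hterm] at h
    rw [Finset.sum_eq_single p] at h
    · rw [if_pos rfl, mul_one] at h
      rw [h]
      unfold classInner
      simp
    · intro q _ hq
      rw [if_neg hq, mul_zero]
    · intro hp'; exact absurd hp hp'

end Cfsg.Agent.S1504
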