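import Cfsg.Statements.S1505
import Cfsg.Agent.Lib.Helper8.CyclicTI
import Cfsg.Agent.Lib.Helper8.CharBessel

set_option autoImplicit false
open Cfsg

namespace Cfsg.Agent.S1505

open Cfsg.Agent.Lib.Helper8

open Classical in
/-- Let W₁, W₂ ≤ G form a self-normalising cyclic subgroup W = W₁ ⊔ W₂. For nontrivial linear characters φ, φ' of W trivial on W₂ and ψ, ψ' trivial on W₁, put α = (1 − φ)(1 − ψ) and α' = (1 − φ')(1 − ψ'). Then the function induced from α to G has inner product 1 with the principal character, and the inner product of the functions induced from α and α' is 1 + a + b + ab where a = 1 if φ = φ' (else 0) and b = 1 if ψ = ψ' (else 0). -/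
theorem result {G : Type*} [Group G] [Fintype G] (W₁ W₂ : Subgroup G) (hW : Cfsg.IsSelfNormalizingCyclic W₁ W₂) (φ φ' ψ ψ' : ↥(W₁ ⊔ W₂) →* ℂˣ) (hφ : φ ≠ 1) (hφ' : φ' ≠ 1) (hψ : ψ ≠ 1) (hψ' : ψ' ≠ 1) (hφ₂ : ∀ w : ↥(W₁ ⊔ W₂), (w : G) ∈ W₂ → φ w = 1 ∧ φ' w = 1) (hψ₁ : ∀ w : ↥(W₁ ⊔ W₂), (w : G) ∈ W₁ → ψ w = 1 ∧ ψ' w = 1) : Cfsg.classInner (Cfsg.indFun (W₁ ⊔ W₂) (fun w => 1 - (φ w : ℂ) - (ψ w : ℂ) + (φ w : ℂ) * (ψ w : ℂ))) (fun _ => 1) = 1 ∧ Cfsg.classInner (Cfsg.indFun (W₁ ⊔ W₂) (fun w => 1 - (φ w : ℂ) - (ψ w : ℂ) + (φ w : ℂ) * (ψ w : ℂ))) (Cfsg.indFun (W₁ ⊔ W₂) (fun w => 1 - (φ' w : ℂ) - (ψ' w : ℂ) + (φ' w : ℂ) * (ψ' w : ℂ))) = 1 + (if φ = φ' then 1 else 0) + (if ψ = ψ' then 1 else 0) + (if φ = φ' then 1 else 0) * (if ψ = ψ' then 1 else 0) := by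
  classical
  haveI : Fintype ↥(W₁ ⊔ W₂) := Fintype.ofFinite _
  have hcomm := hW.2.2.2.1
  have t2 : ∀ w : ↥(W₁ ⊔ W₂), (w : G) ∈ W₂ → (1 : ↥(W₁ ⊔ W₂) →* ℂˣ) w = 1 := fun _ _ => rfl
  have t1 : ∀ w : ↥(W₁ ⊔ W₂), (w : G) ∈ W₁ → (1 : ↥(W₁ ⊔ W₂) →* ℂˣ) w = 1 := fun _ _ => rfl
  have pφ : ∀ w : ↥(W₁ ⊔ W₂), (w : G) ∈ W₂ → φ w = 1 := fun w hw => (hφ₂ w hw).1
  have pφ' : ∀ w : ↥(W₁ ⊔ W₂), (w : G) ∈ W₂ → φ' w = 1 := fun w hw => (hφ₂ w hw).2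
  have pψ : ∀ w : ↥(W₁ ⊔ W₂), (w : G) ∈ W₁ → ψ w = 1 := fun w hw => (hψ₁ w hw).1
  have pψ' : ∀ w : ↥(W₁ ⊔ W₂), (w : G) ∈ W₁ → ψ' w = 1 := fun w hw => (hψ₁ w hw).2
  have key : ∀ a a' b b' : ↥(W₁ ⊔ W₂) →* ℂˣ,
      (∀ w : ↥(W₁ ⊔ W₂), (w : G) ∈ W₂ → a w = 1) → (∀ w : ↥(W₁ ⊔ W₂), (w : G) ∈ W₂ → a' w = 1) →
      (∀ w : ↥(W₁ ⊔ W₂), (w : G) ∈ W₁ → b w = 1) → (∀ w : ↥(W₁ ⊔ W₂), (w : G) ∈ W₁ → b' w = 1) →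
      classInner (linFun (a * b)) (linFun (a' * b')) = if a = a' ∧ b = b' then 1 else 0 := by
    intro a a' b b' ha ha' hb hb'
    rw [irr_classInner (linFun_isIrr _) (linFun_isIrr _)]
    by_cases h : a * b = a' * b'
    · rw [if_pos (congrArg linFun h), if_pos (hom_prod_unique W₁ W₂ hcomm _ _ _ _ ha ha' hb hb' h)]
    · rw [if_neg (fun h' => h (linFun_injective h')), if_neg]
      rintro ⟨h1, h2⟩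
      exact h (by rw [h1, h2])
  have hfun : ∀ a b : ↥(W₁ ⊔ W₂) →* ℂˣ,
      (fun w : ↥(W₁ ⊔ W₂) => 1 - (a w : ℂ) - (b w : ℂ) + (a w : ℂ) * (b w : ℂ)) =
      fun w => linFun ((1 : ↥(W₁ ⊔ W₂) →* ℂˣ) * 1) w - linFun (a * 1) w - linFun (1 * b) w +
        linFun (a * b) w := by
    intro a b; funext w; simp [linFun_apply]
  have hvan : ∀ a b : ↥(W₁ ⊔ W₂) →* ℂˣ, (∀ w : ↥(W₁ ⊔ W₂), (w : G) ∈ W₂ → a w = 1) →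
      (∀ w : ↥(W₁ ⊔ W₂), (w : G) ∈ W₁ → b w = 1) → ∀ w : ↥(W₁ ⊔ W₂),
      ((w : G) ∈ W₁ ∨ (w : G) ∈ W₂) → (1 - (a w : ℂ) - (b w : ℂ) + (a w : ℂ) * (b w : ℂ)) = 0 := by
    intro a b ha hb w hw
    rcases hw with hw | hw
    · rw [hb w hw]; simp
    · rw [ha w hw]; simp
  refine ⟨?_, ?_⟩
  · rw [frobenius_reciprocity (W₁ ⊔ W₂) _ (fun _ => 1) (fun _ _ => rfl)]
    have h1 : (fun h : ↥(W₁ ⊔ W₂) => (fun _ : G => (1:ℂ)) (h : G)) =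
        linFun ((1 : ↥(W₁ ⊔ W₂) →* ℂˣ) * 1) := by
      funext w; simp [linFun_apply]
    rw [h1, hfun, classInner_four_left, key 1 1 1 1 t2 t2 t1 t1, key φ 1 1 1 pφ t2 t1 t1,
      key 1 1 ψ 1 t2 t2 pψ t1, key φ 1 ψ 1 pφ t2 pψ t1]
    simp [hφ, hψ]
  · rw [frobenius_reciprocity (W₁ ⊔ W₂) _ _ (indFun_isClassFunction _ _)]
    have h1 : classInner (fun w : ↥(W₁ ⊔ W₂) => 1 - (φ w : ℂ) - (ψ w : ℂ) + (φ w : ℂ) * (ψ w : ℂ))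
        (fun h : ↥(W₁ ⊔ W₂) => Cfsg.indFun (W₁ ⊔ W₂)
          (fun w => 1 - (φ' w : ℂ) - (ψ' w : ℂ) + (φ' w : ℂ) * (ψ' w : ℂ)) (h : G)) =
        classInner (fun w : ↥(W₁ ⊔ W₂) => 1 - (φ w : ℂ) - (ψ w : ℂ) + (φ w : ℂ) * (ψ w : ℂ))
          (fun w : ↥(W₁ ⊔ W₂) => 1 - (φ' w : ℂ) - (ψ' w : ℂ) + (φ' w : ℂ) * (ψ' w : ℂ)) := by
      unfold classInner
      congr 1
      apply Finset.sum_congr rfl
      intro w _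
      beta_reduce
      by_cases hw : (w : G) ∈ W₁ ∨ (w : G) ∈ W₂
      · rw [hvan φ ψ pφ pψ w hw, zero_mul, zero_mul]
      · push Not at hw
        rw [indFun_snc W₁ W₂ hW _ (hvan φ' ψ' pφ' pψ') w hw.1 hw.2]
    rw [h1, hfun φ ψ, hfun φ' ψ', classInner_four_left, classInner_four_right,
      classInner_four_right, classInner_four_right, classInner_four_right,
      key 1 1 1 1 t2 t2 t1 t1, key 1 φ' 1 1 t2 pφ' t1 t1, key 1 1 1 ψ' t2 t2 t1 pψ',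
      key 1 φ' 1 ψ' t2 pφ' t1 pψ',
      key φ 1 1 1 pφ t2 t1 t1, key φ φ' 1 1 pφ pφ' t1 t1, key φ 1 1 ψ' pφ t2 t1 pψ',
      key φ φ' 1 ψ' pφ pφ' t1 pψ',
      key 1 1 ψ 1 t2 t2 pψ t1, key 1 φ' ψ 1 t2 pφ' pψ t1, key 1 1 ψ ψ' t2 t2 pψ pψ',
      key 1 φ' ψ ψ' t2 pφ' pψ pψ',
      key φ 1 ψ 1 pφ t2 pψ t1, key φ φ' ψ 1 pφ pφ' pψ t1, key φ 1 ψ ψ' pφ t2 pψ pψ',
      key φ φ' ψ ψ' pφ pφ' pψ pψ']
    by_cases e1 : φ = φ' <;> by_cases e2 : ψ = ψ' <;>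
      simp [hφ, hψ, hφ', hψ', Ne.symm hφ', Ne.symm hψ', e1, e2]

end Cfsg.Agent.S1505
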