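import Cfsg.Statements.S1506
import Cfsg.Agent.Lib.Helper8.CharInd
import Cfsg.Agent.Lib.Helper8.CharDecomp
import Cfsg.Agent.Lib.Helper8.BrauerSpan

set_option autoImplicit false
open Cfsg

namespace Cfsg.Agent.S1506

open Cfsg.Agent.Lib.Helper8
open scoped ComplexConjugate

/-- Let W₁, W₂ ≤ G form a self-normalising cyclic subgroup W = W₁ ⊔ W₂ and χ an orthonormal family of irreducible characters of G up to sign, indexed by the linear characters ω of W, with χ_1 = 1, χ_ω = ω on W outside W₁ ∪ W₂, and the induction identity for (1 − φ)(1 − ψ). Let θ be a class function of G vanishing at every element of W outside W₁ ∪ W₂. For linear characters φ, φ' of W trivial on W₂ and ψ, ψ' trivial on W₁, the inner products a(ω) = ⟨θ, χ ω⟩ satisfy a(φψ) + a(φ'ψ') = a(φψ') + a(φ'ψ). -/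
theorem result {G : Type*} [Group G] [Fintype G] (W₁ W₂ : Subgroup G) (hW : Cfsg.IsSelfNormalizingCyclic W₁ W₂) (χ : (↥(W₁ ⊔ W₂) →* ℂˣ) → (G → ℂ)) (hχ : Cfsg.IsCyclicTIFamily W₁ W₂ χ) (θ : G → ℂ) (hθ : Cfsg.IsClassFunction G θ) (hθV : ∀ w : ↥(W₁ ⊔ W₂), (w : G) ∉ W₁ → (w : G) ∉ W₂ → θ w = 0) (φ φ' ψ ψ' : ↥(W₁ ⊔ W₂) →* ℂˣ) (hφ₂ : ∀ w : ↥(W₁ ⊔ W₂), (w : G) ∈ W₂ → φ w = 1 ∧ φ' w = 1) (hψ₁ : ∀ w : ↥(W₁ ⊔ W₂), (w : G) ∈ W₁ → ψ w = 1 ∧ ψ' w = 1) : Cfsg.classInner θ (χ (φ * ψ)) + Cfsg.classInner θ (χ (φ' * ψ')) = Cfsg.classInner θ (χ (φ * ψ')) + Cfsg.classInner θ (χ (φ' * ψ)) := by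
  classical
  haveI : Fintype ↥(W₁ ⊔ W₂) := Fintype.ofFinite _
  have hGne : (Nat.card G : ℂ) ≠ 0 := Nat.cast_ne_zero.mpr Nat.card_pos.ne'
  have key : ∀ φ ψ : ↥(W₁ ⊔ W₂) →* ℂˣ, (∀ w : ↥(W₁ ⊔ W₂), (w : G) ∈ W₂ → φ w = 1) →
      (∀ w : ↥(W₁ ⊔ W₂), (w : G) ∈ W₁ → ψ w = 1) →
      Cfsg.classInner θ (χ (φ * ψ)) = Cfsg.classInner θ (χ φ) + Cfsg.classInner θ (χ ψ) -
        Cfsg.classInner θ (fun _ => 1) := by
    intro φ ψ hφ hψ
    set α : ↥(W₁ ⊔ W₂) → ℂ := fun w => 1 - (φ w : ℂ) - (ψ w : ℂ) + (φ w : ℂ) * (ψ w : ℂ) with hα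
    have hG : Cfsg.indFun (W₁ ⊔ W₂) α = fun g => 1 - χ φ g - χ ψ g + χ (φ * ψ) g := by
      by_cases h1 : φ = 1
      · subst h1
        have hα0 : α = 0 := by ext w; simp [hα]
        rw [hα0, indFun_zero]
        ext g
        have e1 : (1 : ↥(W₁ ⊔ W₂) →* ℂˣ) * ψ = ψ := one_mul ψ
        rw [e1, hχ.map_one]; simp
      · by_cases h2 : ψ = 1
        · subst h2
          have hα0 : α = 0 := by ext w; simp [hα]
          rw [hα0, indFun_zero]
          ext g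
          have e1 : φ * (1 : ↥(W₁ ⊔ W₂) →* ℂˣ) = φ := mul_one φ
          rw [e1, hχ.map_one]; simp
        · exact hχ.induced_eq φ ψ h1 h2 hφ hψ
    have hzero : Cfsg.classInner θ (Cfsg.indFun (W₁ ⊔ W₂) α) = 0 := by
      rw [classInner_conj_symm, frobenius_reciprocity (W₁ ⊔ W₂) α θ hθ]
      have : Cfsg.classInner α (fun h : ↥(W₁ ⊔ W₂) => θ h) = 0 := by
        unfold Cfsg.classInner
        rw [Finset.sum_eq_zero, mul_zero]
        intro w _
        by_cases hw1 : (w : G) ∈ W₁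
        · have : α w = 0 := by simp only [hα]; rw [hψ w hw1]; simp
          rw [this, zero_mul]
        · by_cases hw2 : (w : G) ∈ W₂
          · have : α w = 0 := by simp only [hα]; rw [hφ w hw2]; simp
            rw [this, zero_mul]
          · have : θ (w : G) = 0 := hθV w hw1 hw2
            simp only [this, map_zero, mul_zero]
      rw [this, map_zero]
    have hχeq : χ (φ * ψ) = fun g => Cfsg.indFun (W₁ ⊔ W₂) α g - 1 + χ φ g + χ ψ g := by
      ext g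
      have := congrFun hG g
      rw [this]; ring
    rw [hχeq]
    unfold Cfsg.classInner at hzero ⊢
    have h0 : ∑ g : G, θ g * conj (Cfsg.indFun (W₁ ⊔ W₂) α g) = 0 := by
      rcases mul_eq_zero.mp hzero with h | h
      · exact absurd (inv_eq_zero.mp h) hGne
      · exact h
    simp only [map_add, map_sub, map_one, mul_add, mul_sub, Finset.sum_add_distrib,
      Finset.sum_sub_distrib]
    rw [h0]
    ring
  rw [key φ ψ (fun w hw => (hφ₂ w hw).1) (fun w hw => (hψ₁ w hw).1),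
    key φ' ψ' (fun w hw => (hφ₂ w hw).2) (fun w hw => (hψ₁ w hw).2),
    key φ ψ' (fun w hw => (hφ₂ w hw).1) (fun w hw => (hψ₁ w hw).2),
    key φ' ψ (fun w hw => (hφ₂ w hw).2) (fun w hw => (hψ₁ w hw).1)]
  ring

end Cfsg.Agent.S1506
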