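import Cfsg.Statements.S1507
import Cfsg.Agent.Lib.Helper8.GridCount
import Cfsg.Agent.Lib.Helper8.CharInd
import Cfsg.Agent.Lib.Helper8.CharDecomp
import Cfsg.Agent.Lib.Helper8.BrauerSpan

set_option autoImplicit false
open Cfsg

namespace Cfsg.Agent.S1507

open Cfsg.Agent.Lib.Helper8
open scoped ComplexConjugate

theorem a_mul {G : Type*} [Group G] [Fintype G] (W₁ W₂ : Subgroup G)
    (χ : (↥(W₁ ⊔ W₂) →* ℂˣ) → (G → ℂ)) (hχ : Cfsg.IsCyclicTIFamily W₁ W₂ χ) (θ : G → ℂ)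
    (hθ : Cfsg.IsClassFunction G θ)
    (hθV : ∀ w : ↥(W₁ ⊔ W₂), (w : G) ∉ W₁ → (w : G) ∉ W₂ → θ w = 0)
    (φ ψ : ↥(W₁ ⊔ W₂) →* ℂˣ) (hφ : ∀ w : ↥(W₁ ⊔ W₂), (w : G) ∈ W₂ → φ w = 1)
    (hψ : ∀ w : ↥(W₁ ⊔ W₂), (w : G) ∈ W₁ → ψ w = 1) :
    Cfsg.classInner θ (χ (φ * ψ)) = Cfsg.classInner θ (χ φ) + Cfsg.classInner θ (χ ψ) -
        Cfsg.classInner θ (fun _ => 1) := by
  classical
  haveI : Fintype ↥(W₁ ⊔ W₂) := Fintype.ofFinite _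
  have hGne : (Nat.card G : ℂ) ≠ 0 := Nat.cast_ne_zero.mpr Nat.card_pos.ne'
  set α : ↥(W₁ ⊔ W₂) → ℂ := fun w => 1 - (φ w : ℂ) - (ψ w : ℂ) + (φ w : ℂ) * (ψ w : ℂ) with hα
  have hG : Cfsg.indFun (W₁ ⊔ W₂) α = fun g => 1 - χ φ g - χ ψ g + χ (φ * ψ) g := by
    by_cases h1 : φ = 1
    · subst h1
      have hα0 : α = 0 := by ext w; simp [hα]
      rw [hα0, indFun_zero]
      ext g
      have e1 : (1 : ↥(W₁ ⊔ W₂) →* ℂˣ) * ψ = ψ := one_mul ψ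
      rw [e1, hχ.map_one]; simp
    · by_cases h2 : ψ = 1
      · subst h2
        have hα0 : α = 0 := by ext w; simp [hα]
        rw [hα0, indFun_zero]
        ext g
        have e1 : φ * (1 : ↥(W₁ ⊔ W₂) →* ℂˣ) = φ := mul_one φ
        rw [e1, hχ.map_one]; simp
      · exact hχ.induced_eq φ ψ h1 h2 hφ hψ
  have hzero : Cfsg.classInner θ (Cfsg.indFun (W₁ ⊔ W₂) α) = 0 := by
    rw [classInner_conj_symm, frobenius_reciprocity (W₁ ⊔ W₂) α θ hθ]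
    have : Cfsg.classInner α (fun h : ↥(W₁ ⊔ W₂) => θ h) = 0 := by
      unfold Cfsg.classInner
      rw [Finset.sum_eq_zero, mul_zero]
      intro w _
      by_cases hw1 : (w : G) ∈ W₁
      · have : α w = 0 := by simp only [hα]; rw [hψ w hw1]; simp
        rw [this, zero_mul]
      · by_cases hw2 : (w : G) ∈ W₂
        · have : α w = 0 := by simp only [hα]; rw [hφ w hw2]; simp
          rw [this, zero_mul]
        · have : θ (w : G) = 0 := hθV w hw1 hw2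
          simp only [this, map_zero, mul_zero]
    rw [this, map_zero]
  have hχeq : χ (φ * ψ) = fun g => Cfsg.indFun (W₁ ⊔ W₂) α g - 1 + χ φ g + χ ψ g := by
    ext g
    have := congrFun hG g
    rw [this]; ring
  rw [hχeq]
  unfold Cfsg.classInner at hzero ⊢
  have h0 : ∑ g : G, θ g * conj (Cfsg.indFun (W₁ ⊔ W₂) α g) = 0 := by
    rcases mul_eq_zero.mp hzero with h | h
    · exact absurd (inv_eq_zero.mp h) hGne
    · exact h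
  simp only [map_add, map_sub, map_one, mul_add, mul_sub, Finset.sum_add_distrib,
    Finset.sum_sub_distrib]
  rw [h0]
  ring

abbrev TrivOn {G : Type*} [Group G] (W₁ W₂ S : Subgroup G) :=
  {φ : ↥(W₁ ⊔ W₂) →* ℂˣ // ∀ w : ↥(W₁ ⊔ W₂), (w : G) ∈ S → φ w = 1}

theorem finite_hom_of_cyclic {W : Type*} [Group W] [Finite W] [IsCyclic W] :
    Finite (W →* ℂˣ) := by
  letI : CommGroup W := IsCyclic.commGroup
  haveI : NeZero (Monoid.exponent W) := ⟨Monoid.exponent_ne_zero_of_finite⟩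
  have h := CommGroup.card_monoidHom_of_hasEnoughRootsOfUnity W ℂ
  apply Nat.finite_of_card_ne_zero
  rw [h]
  exact Nat.card_pos.ne'

theorem card_hom_of_cyclic {W : Type*} [Group W] [Finite W] [IsCyclic W] :
    Nat.card (W →* ℂˣ) = Nat.card W := by
  letI : CommGroup W := IsCyclic.commGroup
  haveI : NeZero (Monoid.exponent W) := ⟨Monoid.exponent_ne_zero_of_finite⟩
  exact CommGroup.card_monoidHom_of_hasEnoughRootsOfUnity W ℂ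

theorem card_le_trivOn {G : Type*} [Group G] [Finite G] (W₁ W₂ S T : Subgroup G)
    [IsCyclic ↥(W₁ ⊔ W₂)] (q : ↥(W₁ ⊔ W₂) →* ↥T) (hq : Function.Surjective q)
    (hS : ∀ w : ↥(W₁ ⊔ W₂), (w : G) ∈ S → q w = 1) :
    Nat.card T ≤ Nat.card (TrivOn W₁ W₂ S) := by
  haveI : IsCyclic ↥T := isCyclic_of_surjective q hq
  haveI : Finite (↥(W₁ ⊔ W₂) →* ℂˣ) := finite_hom_of_cyclic
  rw [← card_hom_of_cyclic (W := ↥T)]
  apply Nat.card_le_card_of_injective (fun l : ↥T →* ℂˣ =>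
    (⟨l.comp q, fun w hw => by rw [MonoidHom.comp_apply, hS w hw, map_one]⟩ : TrivOn W₁ W₂ S))
  intro l l' e
  have e' := congrArg Subtype.val e
  apply DFunLike.ext
  intro t
  obtain ⟨w, rfl⟩ := hq t
  have := DFunLike.congr_fun e' w
  simpa using this

open Classical in
/-- Let W₁, W₂ ≤ G form a self-normalising cyclic subgroup W = W₁ ⊔ W₂ of odd order with Nat.card W₁ < Nat.card W₂, and χ an orthonormal family of irreducible characters of G up to sign, indexed by the linear characters ω of W, with χ_1 = 1, χ_ω = ω on W outside W₁ ∪ W₂, and the induction identity for (1 − φ)(1 − ψ). Let θ be a class function of G vanishing on W outside W₁ ∪ W₂, and suppose fewer than 2 · Nat.card W₁ linear characters ω of W have ⟨θ, χ ω⟩ ≠ 0. Then one of: all ⟨θ, χ ω⟩ vanish; or there are ψ₀ and a with ⟨θ, χ ω⟩ = a when ω ψ₀⁻¹ is trivial on W₂ and 0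 otherwise; or there are φ₀ and a with ⟨θ, χ ω⟩ = a when ω φ₀⁻¹ is trivial on W₁ and 0 otherwise. -/
theorem result {G : Type*} [Group G] [Fintype G] (W₁ W₂ : Subgroup G) (hW : Cfsg.IsSelfNormalizingCyclic W₁ W₂) (hodd : Odd (Nat.card ↥(W₁ ⊔ W₂))) (χ : (↥(W₁ ⊔ W₂) →* ℂˣ) → (G → ℂ)) (hχ : Cfsg.IsCyclicTIFamily W₁ W₂ χ) (hlt : Nat.card W₁ < Nat.card W₂) (θ : G → ℂ) (hθ : Cfsg.IsClassFunction G θ) (hθV : ∀ w : ↥(W₁ ⊔ W₂), (w : G) ∉ W₁ → (w : G) ∉ W₂ → θ w = 0) (hfew : Nat.card {ω : ↥(W₁ ⊔ W₂) →* ℂˣ // Cfsg.classInner θ (χ ω) ≠ 0} < 2 * Nat.card W₁) : (∀ ω, Cfsg.classInner θ (χ ω) = 0) ∨ (∃ (ψ₀ : ↥(W₁ ⊔ W₂) →* ℂˣ) (a : ℂ), ∀ ω, Cfsg.classInner θ (χ ω) = if (∀ w : ↥(W₁ ⊔ W₂), (w : G) ∈ W₂ → (ω * ψ₀⁻¹) w = 1) then a else 0) ∨ (∃ (φ₀ : ↥(W₁ ⊔ W₂) →* ℂˣ) (a : ℂ), ∀ ω, Cfsg.classInner θ (χ ω) = if (∀ w : ↥(W₁ ⊔ W₂), (w : G) ∈ W₁ → (ω * φ₀⁻¹) w = 1)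 then a else 0) := by
  classical
  obtain ⟨hW₁, hW₂, hinf, hcomm, hcyc, hnorm⟩ := hW
  haveI := hcyc
  obtain ⟨p₁, p₂, hp₁, hp₂, hp, hpW₁, hpW₂⟩ := exists_proj W₁ W₂ hcomm hinf
  haveI : Finite (↥(W₁ ⊔ W₂) →* ℂˣ) := finite_hom_of_cyclic
  haveI : Fintype (↥(W₁ ⊔ W₂) →* ℂˣ) := Fintype.ofFinite _
  haveI : Fintype (TrivOn W₁ W₂ W₂) := Fintype.ofFinite _
  haveI : Fintype (TrivOn W₁ W₂ W₁) := Fintype.ofFinite _
  -- projections with restricted codomain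
  obtain ⟨q₁, hq₁⟩ : ∃ q : ↥(W₁ ⊔ W₂) →* ↥W₁, ∀ w, (q w : G) = p₁ w :=
    ⟨((Subgroup.subtype _).comp p₁).codRestrict W₁ hp₁, fun w => rfl⟩
  obtain ⟨q₂, hq₂⟩ : ∃ q : ↥(W₁ ⊔ W₂) →* ↥W₂, ∀ w, (q w : G) = p₂ w :=
    ⟨((Subgroup.subtype _).comp p₂).codRestrict W₂ hp₂, fun w => rfl⟩
  have hq₁s : Function.Surjective q₁ := by
    intro t
    refine ⟨⟨t, Subgroup.mem_sup_left t.2⟩, Subtype.ext ?_⟩
    rw [hq₁, (hpW₁ ⟨t, Subgroup.mem_sup_left t.2⟩ t.2).1]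
  have hq₂s : Function.Surjective q₂ := by
    intro t
    refine ⟨⟨t, Subgroup.mem_sup_right t.2⟩, Subtype.ext ?_⟩
    rw [hq₂, (hpW₂ ⟨t, Subgroup.mem_sup_right t.2⟩ t.2).2]
  have hq₁S : ∀ w : ↥(W₁ ⊔ W₂), (w : G) ∈ W₂ → q₁ w = 1 := by
    intro w hw
    apply Subtype.ext
    rw [hq₁, (hpW₂ w hw).1]
    rfl
  have hq₂S : ∀ w : ↥(W₁ ⊔ W₂), (w : G) ∈ W₁ → q₂ w = 1 := by
    intro w hw
    apply Subtype.ext
    rw [hq₂, (hpW₁ w hw).2]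
    rfl
  have hcardΦ : Nat.card W₁ ≤ Fintype.card (TrivOn W₁ W₂ W₂) := by
    rw [← Nat.card_eq_fintype_card]
    exact card_le_trivOn W₁ W₂ W₂ W₁ q₁ hq₁s hq₁S
  have hcardΨ : Nat.card W₂ ≤ Fintype.card (TrivOn W₁ W₂ W₁) := by
    rw [← Nat.card_eq_fintype_card]
    exact card_le_trivOn W₁ W₂ W₁ W₂ q₂ hq₂s hq₂S
  -- parity
  have hodd₁ : Odd (Nat.card W₁) :=
    Odd.of_dvd_nat hodd (Subgroup.card_dvd_of_le (le_sup_left : W₁ ≤ W₁ ⊔ W₂))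
  have hodd₂ : Odd (Nat.card W₂) :=
    Odd.of_dvd_nat hodd (Subgroup.card_dvd_of_le (le_sup_right : W₂ ≤ W₁ ⊔ W₂))
  have hw12 : Nat.card W₁ + 2 ≤ Nat.card W₂ := by
    obtain ⟨k₁, hk₁⟩ := hodd₁
    obtain ⟨k₂, hk₂⟩ := hodd₂
    omega
  -- the grid
  obtain ⟨f, hf⟩ : ∃ f : TrivOn W₁ W₂ W₂ → ℂ,
      f = fun φ => Cfsg.classInner θ (χ φ.1) - Cfsg.classInner θ (χ 1) := ⟨_, rfl⟩
  obtain ⟨h, hh⟩ : ∃ h : TrivOn W₁ W₂ W₁ → ℂ,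
      h = fun ψ => Cfsg.classInner θ (χ ψ.1) := ⟨_, rfl⟩
  have hfh : ∀ (φ : TrivOn W₁ W₂ W₂) (ψ : TrivOn W₁ W₂ W₁),
      Cfsg.classInner θ (χ (φ.1 * ψ.1)) = f φ + h ψ := by
    intro φ ψ
    rw [a_mul W₁ W₂ χ hχ θ hθ hθV φ.1 ψ.1 φ.2 ψ.2, hf, hh, hχ.map_one]
    ring
  obtain ⟨N, hN⟩ : ∃ N : Finset (TrivOn W₁ W₂ W₂ × TrivOn W₁ W₂ W₁),
      N = Finset.univ.filter (fun p => f p.1 + h p.2 ≠ 0) := ⟨_, rfl⟩
  have hmemN : ∀ p : TrivOn W₁ W₂ W₂ × TrivOn W₁ W₂ W₁, p ∈ N ↔ f p.1 + h p.2 ≠ 0 := by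
    intro p; rw [hN]; simp
  obtain ⟨m, hm⟩ : ∃ m : TrivOn W₁ W₂ W₂ × TrivOn W₁ W₂ W₁ → (↥(W₁ ⊔ W₂) →* ℂˣ),
      m = fun p => p.1.1 * p.2.1 := ⟨_, rfl⟩
  have hminj : Function.Injective m := by
    rintro ⟨φ, ψ⟩ ⟨φ', ψ'⟩ e
    rw [hm] at e
    have := hom_prod_unique W₁ W₂ hcomm φ.1 φ'.1 ψ.1 ψ'.1 φ.2 φ'.2 ψ.2 ψ'.2 e
    exact Prod.ext (Subtype.ext this.1) (Subtype.ext this.2)
  have hNcard : N.card < 2 * Nat.card W₁ := by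
    refine lt_of_le_of_lt ?_ hfew
    rw [Nat.card_eq_fintype_card, Fintype.card_subtype]
    apply Finset.card_le_card_of_injOn m
    · intro p hp
      have hp' := (hmemN p).mp (by simpa using hp)
      rw [hm]
      simp only [Finset.coe_filter, Finset.mem_univ, true_and, Set.mem_setOf_eq]
      rw [hfh p.1 p.2]
      exact hp'
    · exact hminj.injOn
  -- decomposition of an arbitrary ω
  have hdec : ∀ ω : ↥(W₁ ⊔ W₂) →* ℂˣ, ω = ω.comp p₁ * ω.comp p₂ := by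
    intro ω
    ext w
    rw [MonoidHom.mul_apply, MonoidHom.comp_apply, MonoidHom.comp_apply, ← map_mul, ← hp w]
  have hφω : ∀ ω : ↥(W₁ ⊔ W₂) →* ℂˣ, ∀ w : ↥(W₁ ⊔ W₂), (w : G) ∈ W₂ → (ω.comp p₁) w = 1 := by
    intro ω w hw
    rw [MonoidHom.comp_apply, (hpW₂ w hw).1, map_one]
  have hψω : ∀ ω : ↥(W₁ ⊔ W₂) →* ℂˣ, ∀ w : ↥(W₁ ⊔ W₂), (w : G) ∈ W₁ → (ω.comp p₂) w = 1 := by
    intro ω w hw
    rw [MonoidHom.comp_apply, (hpW₁ w hw).2, map_one]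
  have hval : ∀ ω : ↥(W₁ ⊔ W₂) →* ℂˣ, Cfsg.classInner θ (χ ω)
      = f ⟨ω.comp p₁, hφω ω⟩ + h ⟨ω.comp p₂, hψω ω⟩ := by
    intro ω
    rw [← hfh ⟨ω.comp p₁, hφω ω⟩ ⟨ω.comp p₂, hψω ω⟩, ← hdec ω]
  rcases grid_few_nonzero f h (Nat.card W₁) hcardΦ (le_trans hw12 hcardΨ) N hmemN hNcard with
    h0 | ⟨j₀, c, hc⟩ | ⟨i₀, c, hc⟩
  · left
    intro ω
    rw [hval ω]
    exact h0 _ _
  · right; left
    refine ⟨j₀.1, c, fun ω => ?_⟩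
    rw [hval ω, hc]
    have hiff : ((⟨ω.comp p₂, hψω ω⟩ : TrivOn W₁ W₂ W₁) = j₀) ↔
        (∀ w : ↥(W₁ ⊔ W₂), (w : G) ∈ W₂ → (ω * j₀.1⁻¹) w = 1) := by
      constructor
      · intro e w hw
        rw [MonoidHom.mul_apply, MonoidHom.inv_apply, ← e]
        show ω w * ((ω.comp p₂) w)⁻¹ = 1
        rw [MonoidHom.comp_apply, (hpW₂ w hw).2, mul_inv_cancel]
      · intro hyp
        apply Subtype.ext
        apply hom_eq_of_eq_on_right W₁ W₂ hcomm (ω.comp p₂) j₀.1 (hψω ω) j₀.2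
        intro w hw
        have := hyp w hw
        rw [MonoidHom.mul_apply, MonoidHom.inv_apply, mul_inv_eq_one] at this
        rw [MonoidHom.comp_apply, (hpW₂ w hw).2, this]
    by_cases hcase : ∀ w : ↥(W₁ ⊔ W₂), (w : G) ∈ W₂ → (ω * j₀.1⁻¹) w = 1
    · rw [if_pos (hiff.mpr hcase), if_pos hcase]
    · rw [if_neg (fun e => hcase (hiff.mp e)), if_neg hcase]
  · right; right
    refine ⟨i₀.1, c, fun ω => ?_⟩
    rw [hval ω, hc]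
    have hiff : ((⟨ω.comp p₁, hφω ω⟩ : TrivOn W₁ W₂ W₂) = i₀) ↔
        (∀ w : ↥(W₁ ⊔ W₂), (w : G) ∈ W₁ → (ω * i₀.1⁻¹) w = 1) := by
      constructor
      · intro e w hw
        rw [MonoidHom.mul_apply, MonoidHom.inv_apply, ← e]
        show ω w * ((ω.comp p₁) w)⁻¹ = 1
        rw [MonoidHom.comp_apply, (hpW₁ w hw).1, mul_inv_cancel]
      · intro hyp
        apply Subtype.ext
        apply hom_eq_of_eq_on_left W₁ W₂ hcomm (ω.comp p₁) i₀.1 (hφω ω) i₀.2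
        intro w hw
        have := hyp w hw
        rw [MonoidHom.mul_apply, MonoidHom.inv_apply, mul_inv_eq_one] at this
        rw [MonoidHom.comp_apply, (hpW₁ w hw).1, this]
    by_cases hcase : ∀ w : ↥(W₁ ⊔ W₂), (w : G) ∈ W₁ → (ω * i₀.1⁻¹) w = 1
    · rw [if_pos (hiff.mpr hcase), if_pos hcase]
    · rw [if_neg (fun e => hcase (hiff.mp e)), if_neg hcase]

end Cfsg.Agent.S1507
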