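import Cfsg.Statements.S1509
import Cfsg.Agent.Lib.Helper8.CharSigned

set_option autoImplicit false
open Cfsg

namespace Cfsg.Agent.S1509

open Cfsg.Agent.Lib.Helper8
theorem core {X : Type*} [Group X] [Fintype X] (α β γ δ : X → ℂ)
    (hα : Cfsg.IsIrrCharacter X α ∨ Cfsg.IsIrrCharacter X (-α))
    (hβ : Cfsg.IsIrrCharacter X β ∨ Cfsg.IsIrrCharacter X (-β))
    (hγ : Cfsg.IsIrrCharacter X γ ∨ Cfsg.IsIrrCharacter X (-γ))
    (hδ : Cfsg.IsIrrCharacter X δ ∨ Cfsg.IsIrrCharacter X (-δ)) (u v : ℝ) (hu : u ≠ 0)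
    (hab : Cfsg.classInner α β = 0) (hcd : Cfsg.classInner γ δ = 0)
    (hmix : Cfsg.classInner (α - β) ((u : ℂ) • γ - (v : ℂ) • δ) = 0) (h1 : α 1 = β 1)
    (h2 : (u : ℂ) * γ 1 = (v : ℂ) * δ 1) : Cfsg.classInner α γ = 0 := by
  classical
  obtain ⟨εa, χa, ha, rfl⟩ := signed_irr_form hα
  obtain ⟨εb, χb, hb, rfl⟩ := signed_irr_form hβ
  obtain ⟨εc, χc, hc, rfl⟩ := signed_irr_form hγ
  obtain ⟨εd, χd, hd, rfl⟩ := signed_irr_form hδ
  have ha2 : εa * εa = 1 := by rcases ha with rfl | rfl <;> norm_num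
  have hb2 : εb * εb = 1 := by rcases hb with rfl | rfl <;> norm_num
  have hc2 : εc * εc = 1 := by rcases hc with rfl | rfl <;> norm_num
  have hd2 : εd * εd = 1 := by rcases hd with rfl | rfl <;> norm_num
  rw [classInner_expand4, classInner_signed _ _ hc, classInner_signed _ _ hd,
    classInner_signed _ _ hc, classInner_signed _ _ hd] at hmix
  rw [classInner_signed _ _ hb] at hab
  rw [classInner_signed _ _ hd] at hcd
  rw [classInner_signed _ _ hc]
  by_contra hne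
  have hac : χa = χc := by
    by_contra h
    rw [if_neg h] at hne
    exact hne rfl
  have hcd' : χc ≠ χd := by
    intro h
    rw [if_pos h] at hcd
    have : (εc * εd) * (εc * εd) = 1 := by linear_combination εd * εd * hc2 + hd2
    rw [hcd] at this
    norm_num at this
  have hab' : χa ≠ χb := by
    intro h
    rw [if_pos h] at hab
    have : (εa * εb) * (εa * εb) = 1 := by linear_combination εb * εb * ha2 + hb2
    rw [hab] at this
    norm_num at this
  have had : χa ≠ χd := fun h => hcd' (hac.symm.trans h)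
  have hbc : χb ≠ χc := fun h => hab' (hac.trans h.symm)
  rw [if_pos hac, if_neg had, if_neg hbc] at hmix
  have hu' : (u : ℂ) ≠ 0 := Complex.ofReal_ne_zero.mpr hu
  have hεa : εa ≠ 0 := by rcases ha with rfl | rfl <;> norm_num
  have hεc : εc ≠ 0 := by rcases hc with rfl | rfl <;> norm_num
  have hbd : χb = χd := by
    by_contra h
    rw [if_neg h] at hmix
    simp only [mul_zero, sub_zero, add_zero] at hmix
    exact mul_ne_zero hu' (mul_ne_zero hεa hεc) hmix
  rw [if_pos hbd] at hmix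
  simp only [mul_zero, sub_zero] at hmix
  -- degrees
  subst hac
  subst hbd
  have hA := irr_one_ne_zero χa
  have hB := irr_one_ne_zero χb
  simp only at h1 h2
  -- hmix : u * (εa * εc) + v * (εb * εd) = 0 ; h1 : εa * A = εb * B ; h2 : u * (εc * A) = v * (εd * B)
  have e3 : εb * χa.1 1 = εa * χb.1 1 := by
    linear_combination (εa * εb) * h1 + (εb * χa.1 1) * (-ha2) + (εa * χb.1 1) * hb2
  have e4 : (u : ℂ) * εa * εc * χb.1 1 = -((u : ℂ) * εc * εa * χb.1 1) := by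
    linear_combination (χb.1 1) * hmix + εb * h2 + (-(u : ℂ) * εc) * e3
  have e5 : (u : ℂ) * (εa * εc) * χb.1 1 = 0 := by linear_combination (1 / 2 : ℂ) * e4
  exact mul_ne_zero (mul_ne_zero hu' (mul_ne_zero hεa hεc)) hB e5

/-- Let α, β, γ, δ be functions on a finite group X each of which is an irreducible character or the negative of one, and u, v nonzero real numbers. Suppose ⟨α, β⟩ = ⟨γ, δ⟩ = 0, ⟨α − β, uγ − vδ⟩ = 0, α 1 = β 1 and u γ 1 = v δ 1. Then also ⟨α, γ⟩ = ⟨α, δ⟩ = ⟨β, γ⟩ = ⟨β, δ⟩ = 0. -/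
theorem result {X : Type*} [Group X] [Fintype X] (α β γ δ : X → ℂ) (hα : Cfsg.IsIrrCharacter X α ∨ Cfsg.IsIrrCharacter X (-α)) (hβ : Cfsg.IsIrrCharacter X β ∨ Cfsg.IsIrrCharacter X (-β)) (hγ : Cfsg.IsIrrCharacter X γ ∨ Cfsg.IsIrrCharacter X (-γ)) (hδ : Cfsg.IsIrrCharacter X δ ∨ Cfsg.IsIrrCharacter X (-δ)) (u v : ℝ) (hu : u ≠ 0) (hv : v ≠ 0) (hab : Cfsg.classInner α β = 0) (hcd : Cfsg.classInner γ δ = 0) (hmix : Cfsg.classInner (α - β) ((u : ℂ) • γ - (v : ℂ) • δ) = 0) (h1 : α 1 = β 1) (h2 : (u : ℂ) * γ 1 = (v : ℂ) * δ 1) : Cfsg.classInner α γ = 0 ∧ Cfsg.classInner α δ = 0 ∧ Cfsg.classInner β γ = 0 ∧ Cfsg.classInner β δ = 0 := by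
  have hcd' : Cfsg.classInner δ γ = 0 := by
    rw [classInner_conj_symm, hcd, map_zero]
  have hab' : Cfsg.classInner β α = 0 := by
    rw [classInner_conj_symm, hab, map_zero]
  have hmix1 : Cfsg.classInner (α - β) ((v : ℂ) • δ - (u : ℂ) • γ) = 0 := by
    rw [classInner_expand4] at hmix ⊢
    linear_combination -hmix
  have hmix2 : Cfsg.classInner (β - α) ((u : ℂ) • γ - (v : ℂ) • δ) = 0 := by
    rw [classInner_expand4] at hmix ⊢
    linear_combination -hmix
  have hmix3 : Cfsg.classInner (β - α) ((v : ℂ) • δ - (u : ℂ) • γ) = 0 := by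
    rw [classInner_expand4] at hmix ⊢
    linear_combination hmix
  exact ⟨core α β γ δ hα hβ hγ hδ u v hu hab hcd hmix h1 h2,
    core α β δ γ hα hβ hδ hγ v u hv hab hcd' hmix1 h1 h2.symm,
    core β α γ δ hβ hα hγ hδ u v hu hab' hcd hmix2 h1.symm h2,
    core β α δ γ hβ hα hδ hγ v u hv hab' hcd' hmix3 h1.symm h2.symm⟩

end Cfsg.Agent.S1509
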