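import Cfsg.Statements.S1510
import Cfsg.Agent.Lib.Helper8.CyclicTI

set_option autoImplicit false
open Cfsg

namespace Cfsg.Agent.S1510

open Cfsg.Agent.Lib.Helper8
open scoped Pointwise in
theorem main {L : Type*} [Group L] [Finite L] (K W₁ W₂ : Subgroup L) [hK : K.Normal] (hKW₁ : K ⊓ W₁ = ⊥) (hKW₁' : K ⊔ W₁ = ⊤) (hW₁ : W₁ ≠ ⊥) (hW₁c : IsCyclic W₁) (hHall : Nat.Coprime (Nat.card W₁) W₁.index) (hW₂ : W₂ ≠ ⊥) (hW₂c : IsCyclic W₂) (hW₂K : W₂ ≤ K) (hC : ∀ x ∈ W₁, x ≠ 1 → K ⊓ Subgroup.centralizer ({x} : Set L) = W₂) : Cfsg.IsSelfNormalizingCyclic W₁ W₂ := by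
  classical
  have hmul : ((K : Set L) * (W₁ : Set L)) = Set.univ := by
    rw [← Subgroup.normal_mul, hKW₁']; rfl
  have hcompl : K.IsComplement' W₁ :=
    Subgroup.isComplement'_of_disjoint_and_mul_eq_univ (disjoint_iff.mpr hKW₁) hmul
  have hidx : W₁.index = Nat.card K := hcompl.index_eq_card
  have hcopW : Nat.Coprime (Nat.card W₁) (Nat.card K) := by rw [← hidx]; exact hHall
  have hcop : Nat.Coprime (Nat.card W₁) (Nat.card W₂) :=
    Nat.Coprime.coprime_dvd_right (Subgroup.card_dvd_of_le hW₂K) hcopW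
  have hdecomp : ∀ g : L, ∃ k ∈ K, ∃ w ∈ W₁, g = k * w := by
    intro g
    have : g ∈ (K : Set L) * (W₁ : Set L) := by rw [hmul]; trivial
    obtain ⟨k, hk, w, hw, h⟩ := Set.mem_mul.mp this
    exact ⟨k, hk, w, hw, h.symm⟩
  have hdisj : W₁ ⊓ W₂ = ⊥ := by
    rw [eq_bot_iff, ← hKW₁]
    intro x hx
    exact ⟨hW₂K hx.2, hx.1⟩
  have hcomm : ∀ a ∈ W₁, ∀ b ∈ W₂, a * b = b * a := by
    intro a ha b hb
    by_cases ha1 : a = 1
    · rw [ha1, one_mul, mul_one]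
    · have : b ∈ K ⊓ Subgroup.centralizer ({a} : Set L) := by rw [hC a ha ha1]; exact hb
      exact (Subgroup.mem_centralizer_iff.mp this.2 a rfl)
  -- cyclic
  have hcyc : IsCyclic ↥(W₁ ⊔ W₂) := by
    obtain ⟨a₀, ha₀⟩ := hW₁c.exists_generator
    obtain ⟨b₀, hb₀⟩ := hW₂c.exists_generator
    have hoa : orderOf (a₀ : L) = Nat.card W₁ := by
      rw [Subgroup.orderOf_coe]; exact orderOf_eq_card_of_forall_mem_zpowers ha₀
    have hob : orderOf (b₀ : L) = Nat.card W₂ := by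
      rw [Subgroup.orderOf_coe]; exact orderOf_eq_card_of_forall_mem_zpowers hb₀
    have hc : Commute (a₀ : L) (b₀ : L) := hcomm _ a₀.2 _ b₀.2
    have hord : orderOf ((a₀ : L) * (b₀ : L)) = Nat.card W₁ * Nat.card W₂ := by
      rw [hc.orderOf_mul_eq_mul_orderOf_of_coprime (by rw [hoa, hob]; exact hcop), hoa, hob]
    have hmem : (a₀ : L) * (b₀ : L) ∈ W₁ ⊔ W₂ :=
      Subgroup.mul_mem _ (Subgroup.mem_sup_left a₀.2) (Subgroup.mem_sup_right b₀.2)
    have hle : Nat.card ↥(W₁ ⊔ W₂) ≤ Nat.card W₁ * Nat.card W₂ := by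
      rw [← Nat.card_prod]
      let f : ↥W₁ × ↥W₂ → ↥(W₁ ⊔ W₂) := fun p =>
        ⟨(p.1 : L) * (p.2 : L), Subgroup.mul_mem _ (Subgroup.mem_sup_left p.1.2)
          (Subgroup.mem_sup_right p.2.2)⟩
      apply Nat.card_le_card_of_surjective f
      intro w
      obtain ⟨a, ha, b, hb, hab⟩ := mem_sup_comm W₁ W₂ hcomm w.2
      exact ⟨(⟨a, ha⟩, ⟨b, hb⟩), Subtype.ext hab.symm⟩
    have hdvd : orderOf (⟨(a₀ : L) * (b₀ : L), hmem⟩ : ↥(W₁ ⊔ W₂)) ∣ Nat.card ↥(W₁ ⊔ W₂) :=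
      orderOf_dvd_natCard _
    have hord' : orderOf (⟨(a₀ : L) * (b₀ : L), hmem⟩ : ↥(W₁ ⊔ W₂)) = Nat.card W₁ * Nat.card W₂ := by
      rw [← hord, ← Subgroup.orderOf_coe]
    apply isCyclic_of_orderOf_eq_card (⟨(a₀ : L) * (b₀ : L), hmem⟩ : ↥(W₁ ⊔ W₂))
    apply le_antisymm
    · exact Nat.le_of_dvd Nat.card_pos hdvd
    · rw [hord']; exact hle
  refine ⟨hW₁, hW₂, hdisj, hcomm, hcyc, ?_⟩
  intro X hX hXne
  haveI := hcyc
  apply le_antisymm
  · intro g hg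
    obtain ⟨k, hk, w, hw, hgkw⟩ := hdecomp g
    -- w normalises X since W abelian
    have hWcent : ∀ u ∈ W₁ ⊔ W₂, ∀ x ∈ X, u * x * u⁻¹ = x := by
      intro u hu x hx
      have := comm_of_isCyclic (⟨u, hu⟩ : ↥(W₁ ⊔ W₂)) ⟨x, (hX hx).1⟩
      have h2 := congrArg Subtype.val this
      simp only [Subgroup.coe_mul] at h2
      rw [h2]; group
    obtain ⟨x, hx⟩ := hXne
    have hgx : g * x * g⁻¹ ∈ X := (Subgroup.mem_set_normalizer_iff.mp hg x).mp hx
    have hkx : k * x * k⁻¹ = g * x * g⁻¹ := by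
      rw [hgkw]
      have := hWcent w (Subgroup.mem_sup_left hw) x hx
      calc k * x * k⁻¹ = k * (w * x * w⁻¹) * k⁻¹ := by rw [this]
        _ = k * w * x * (k * w)⁻¹ := by group
    rw [← hkx] at hgx
    obtain ⟨a, ha, b, hb, hxab⟩ := mem_sup_comm W₁ W₂ hcomm (hX hx).1
    obtain ⟨a', ha', b', hb', hxab'⟩ := mem_sup_comm W₁ W₂ hcomm (hX hgx).1
    -- exponent m with x^m = a
    set n₁ := Nat.card W₁ with hn₁
    set n₂ := Nat.card W₂ with hn₂
    have hpowa : ∀ c ∈ W₁, c ^ n₁ = 1 := by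
      intro c hc
      have := pow_card_eq_one' (G := ↥W₁) (x := ⟨c, hc⟩)
      have h2 := congrArg Subtype.val this
      rw [Subgroup.coe_pow, Subgroup.coe_one] at h2
      exact h2
    have hpowb : ∀ c ∈ W₂, c ^ n₂ = 1 := by
      intro c hc
      have := pow_card_eq_one' (G := ↥W₂) (x := ⟨c, hc⟩)
      have h2 := congrArg Subtype.val this
      rw [Subgroup.coe_pow, Subgroup.coe_one] at h2
      exact h2
    obtain ⟨u, hu⟩ : ∃ u : ℕ, n₂ * u ≡ 1 [MOD n₁] := by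
      by_cases h1 : n₁ = 1
      · exact ⟨0, by rw [h1]; exact Nat.modEq_one⟩
      · have hgt : 1 < n₁ := by
          have : 0 < n₁ := Nat.card_pos
          omega
        obtain ⟨m, -, hm⟩ := Nat.exists_mul_mod_eq_one_of_coprime (hcop.symm) hgt
        exact ⟨m, by unfold Nat.ModEq; rw [hm, Nat.mod_eq_of_lt hgt]⟩
    have hpow : ∀ c ∈ W₁, ∀ d ∈ W₂, (c * d) ^ (n₂ * u) = c := by
      intro c hc d hd
      have hcd : Commute c d := hcomm c hc d hd
      rw [hcd.mul_pow, pow_mul d, hpowb d hd, one_pow, mul_one]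
      have h1 : c ^ (n₂ * u) = c ^ 1 := by
        apply pow_eq_pow_of_modEq _ (hpowa c hc) |>.trans
        · rfl
        · exact hu
      rw [h1, pow_one]
    have hka : k * a * k⁻¹ = a' := by
      have h1 : (k * x * k⁻¹) ^ (n₂ * u) = a' := by rw [hxab']; exact hpow a' ha' b' hb'
      have h2 : x ^ (n₂ * u) = a := by rw [hxab]; exact hpow a ha b hb
      rw [← h1, ← h2, conj_pow]
    have haa' : a' = a := by
      have hmemK : a⁻¹ * a' ∈ K := by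
        rw [← hka]
        have : a⁻¹ * (k * a * k⁻¹) = (a⁻¹ * k * a⁻¹⁻¹) * k⁻¹ := by group
        rw [this]
        exact K.mul_mem (hK.conj_mem k hk a⁻¹) (K.inv_mem hk)
      have hmemW : a⁻¹ * a' ∈ W₁ := W₁.mul_mem (W₁.inv_mem ha) ha'
      have : a⁻¹ * a' ∈ K ⊓ W₁ := ⟨hmemK, hmemW⟩
      rw [hKW₁, Subgroup.mem_bot] at this
      exact (inv_mul_eq_one.mp this).symm
    have ha1 : a ≠ 1 := by
      intro h
      apply (hX hx).2
      right
      rw [hxab, h, one_mul]; exact hb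
    have hkW₂ : k ∈ W₂ := by
      rw [← hC a ha ha1]
      refine ⟨hk, ?_⟩
      show k ∈ Subgroup.centralizer ({a} : Set L)
      rw [Subgroup.mem_centralizer_iff]
      intro z hz
      rw [Set.mem_singleton_iff] at hz
      rw [hz]
      rw [haa'] at hka
      calc a * k = (k * a * k⁻¹) * k := by rw [hka]
        _ = k * a := by group
    rw [hgkw]
    exact Subgroup.mul_mem _ (Subgroup.mem_sup_right hkW₂) (Subgroup.mem_sup_left hw)
  · intro u hu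
    rw [Subgroup.mem_set_normalizer_iff]
    intro x
    have key : ∀ v ∈ W₁ ⊔ W₂, ∀ y ∈ X, v * y * v⁻¹ = y := by
      intro v hv y hy
      have := comm_of_isCyclic (⟨v, hv⟩ : ↥(W₁ ⊔ W₂)) ⟨y, (hX hy).1⟩
      have h2 := congrArg Subtype.val this
      simp only [Subgroup.coe_mul] at h2
      rw [h2]; group
    constructor
    · intro hx; rw [key u hu x hx]; exact hx
    · intro hx
      have := key u⁻¹ (Subgroup.inv_mem _ hu) _ hx
      have e : u⁻¹ * (u * x * u⁻¹) * u⁻¹⁻¹ = x := by group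
      rw [e] at this
      rw [this]; exact hx

/-- Let L be a finite group with a normal subgroup K and a nontrivial cyclic subgroup W₁ of order coprime to its index, K ⊓ W₁ = ⊥ and K ⊔ W₁ = ⊤; let W₂ ≠ ⊥ be a cyclic subgroup of K with K ⊓ C_L(x) = W₂ for every non-identity x ∈ W₁, and suppose W₁ ⊔ W₂ has odd order. Then (W₁, W₂) is a self-normalising cyclic pair in L. -/
theorem result {L : Type*} [Group L] [Fintype L] (K W₁ W₂ : Subgroup L) [hK : K.Normal] (hKW₁ : K ⊓ W₁ = ⊥) (hKW₁' : K ⊔ W₁ = ⊤) (hW₁ : W₁ ≠ ⊥) (hW₁c : IsCyclic W₁) (hHall : Nat.Coprime (Nat.card W₁) W₁.index) (hW₂ : W₂ ≠ ⊥) (hW₂c : IsCyclic W₂) (hW₂K : W₂ ≤ K) (hC : ∀ x ∈ W₁, x ≠ 1 → K ⊓ Subgroup.centralizer ({x} : Set L) = W₂) (hodd : Odd (Nat.card ↥(W₁ ⊔ W₂))) : Cfsg.IsSelfNormalizingCyclic W₁ W₂ := by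
  exact main K W₁ W₂ hKW₁ hKW₁' hW₁ hW₁c hHall hW₂ hW₂c hW₂K hC

end Cfsg.Agent.S1510
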