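import Cfsg.Statements.S1512
import Cfsg.Agent.Lib.Helper8.PiPart
import Cfsg.Agent.Lib.Helper4.CoprimeAct

set_option autoImplicit false
open Cfsg

namespace Cfsg.Agent.S1512

open Cfsg.Agent.Lib.Helper8

/-- Let K be a normal subgroup of the finite group L and x a non-identity element whose order is coprime to the order of K, such that K ⊓ C_L(y) = W₂ for every non-identity element y of the cyclic group generated by x. Then the number of conjugacy classes of K mapped to themselves by conjugation by x is at most Nat.card W₂. -/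
theorem result {L : Type*} [Group L] [Finite L] (K W₂ : Subgroup L) [hK : K.Normal] (x : L) (hx1 : x ≠ 1) (hx : Nat.Coprime (orderOf x) (Nat.card K)) (hC : ∀ y ∈ Subgroup.zpowers x, y ≠ 1 → K ⊓ Subgroup.centralizer ({y} : Set L) = W₂) : Nat.card {C : ConjClasses K // ConjClasses.map (MulEquiv.toMonoidHom ((MulAut.conjNormal x : MulAut K))) C = C} ≤ Nat.card W₂ := by
  classical
  have hxmem : x ∈ Subgroup.zpowers x := Subgroup.mem_zpowers x
  have hW : K ⊓ Subgroup.centralizer ({x} : Set L) = W₂ := hC x hxmem hx1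
  have hAK : Subgroup.zpowers x ≤ Subgroup.normalizer (K : Set L) := by
    rw [Subgroup.normalizer_eq_top]; exact le_top
  have hcop : (Nat.card (Subgroup.zpowers x)).Coprime (Nat.card K) := by
    rw [Nat.card_zpowers]; exact hx
  letI act : MulAction L L := MulAction.compHom L (MulAut.conj (G := L))
  have hsmul : ∀ g c : L, @SMul.smul L L act.toSMul g c = g * c * g⁻¹ := fun g c => rfl
  have hex : ∀ C : {C : ConjClasses K // ConjClasses.map (MulEquiv.toMonoidHom
      ((MulAut.conjNormal x : MulAut K))) C = C}, ∃ w : W₂, ∃ hw : (w : L) ∈ K,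
      ConjClasses.mk (⟨w, hw⟩ : K) = C.1 := by
    rintro ⟨C, hCfix⟩
    obtain ⟨c, rfl⟩ := ConjClasses.mk_surjective C
    have h1 : ConjClasses.mk ((MulAut.conjNormal x : MulAut K) c) = ConjClasses.mk c := hCfix
    rw [ConjClasses.mk_eq_mk_iff_isConj, isConj_iff] at h1
    obtain ⟨g, hg⟩ := h1
    have hg' : (g : L) * (x * (c : L) * x⁻¹) * (g : L)⁻¹ = c := by
      have := congrArg Subtype.val hg
      simpa [MulAut.conjNormal_apply] using this
    -- g * x centralizes c
    have hgx : (g : L) * x ∈ Subgroup.centralizer ({(c : L)} : Set L) := by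
      rw [Subgroup.mem_centralizer_iff]
      intro y hy
      rw [Set.mem_singleton_iff] at hy
      rw [hy]
      calc (c : L) * ((g : L) * x) = ((g : L) * (x * (c : L) * x⁻¹) * (g : L)⁻¹) * ((g : L) * x) := by
            rw [hg']
        _ = (g : L) * x * c := by group
    have hxS : x ∈ K ⊔ Subgroup.centralizer ({(c : L)} : Set L) := by
      have : x = (g : L)⁻¹ * ((g : L) * x) := by group
      rw [this]
      exact Subgroup.mul_mem _ (Subgroup.mem_sup_left (K.inv_mem g.2)) (Subgroup.mem_sup_right hgx)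
    have hAS : Subgroup.zpowers x ≤ K ⊔ Subgroup.centralizer ({(c : L)} : Set L) := by
      rw [Subgroup.zpowers_le]; exact hxS
    have hcond : ∀ a ∈ Subgroup.zpowers x, ∃ k ∈ K,
        @SMul.smul L L act.toSMul a (c : L) = @SMul.smul L L act.toSMul k (c : L) := by
      intro a ha
      have ha' := hAS ha
      rw [← SetLike.mem_coe, Subgroup.normal_mul] at ha'
      obtain ⟨k, hk, z, hz, rfl⟩ := Set.mem_mul.mp ha'
      refine ⟨k, hk, ?_⟩
      rw [hsmul, hsmul]
      have hz' : z * (c : L) * z⁻¹ = c := by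
        have := (Subgroup.mem_centralizer_iff.mp hz) (c : L) rfl
        rw [← this]; group
      calc k * z * (c : L) * (k * z)⁻¹ = k * (z * (c : L) * z⁻¹) * k⁻¹ := by group
        _ = k * c * k⁻¹ := by rw [hz']
    obtain ⟨k, hk, hfix⟩ := @Cfsg.Agent.Lib.Helper4.glauberman_fix L _ _ (Subgroup.zpowers x) K L act
      hAK hcop (Or.inl inferInstance) (c : L) hcond
    have hfx := hfix x hxmem
    have hw0 : @SMul.smul L L act.toSMul k (c : L) = k * c * k⁻¹ := hsmul k c
    have hfx' : x * (k * (c : L) * k⁻¹) * x⁻¹ = k * c * k⁻¹ := by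
      have : @SMul.smul L L act.toSMul x (@SMul.smul L L act.toSMul k (c : L)) =
          @SMul.smul L L act.toSMul k (c : L) := hfx
      rw [hw0, hsmul] at this
      exact this
    have hwK : k * (c : L) * k⁻¹ ∈ K := hK.conj_mem c c.2 k
    have hwW : k * (c : L) * k⁻¹ ∈ W₂ := by
      rw [← hW]
      refine Subgroup.mem_inf.mpr ⟨hwK, ?_⟩
      rw [Subgroup.mem_centralizer_iff]
      intro y hy
      rw [Set.mem_singleton_iff] at hy
      rw [hy]
      calc x * (k * (c : L) * k⁻¹) = (x * (k * (c : L) * k⁻¹) * x⁻¹) * x := by group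
        _ = k * c * k⁻¹ * x := by rw [hfx']
    refine ⟨⟨k * (c : L) * k⁻¹, hwW⟩, hwK, ?_⟩
    show ConjClasses.mk (⟨k * (c : L) * k⁻¹, hwK⟩ : K) = ConjClasses.mk c
    rw [ConjClasses.mk_eq_mk_iff_isConj, isConj_comm, isConj_iff]
    exact ⟨⟨k, hk⟩, Subtype.ext rfl⟩
  choose f hfK hf using hex
  have hinj : Function.Injective f := by
    intro C D hCD
    apply Subtype.ext
    rw [← hf C, ← hf D]
    congr 1
    apply Subtype.ext
    show ((f C : W₂) : L) = ((f D : W₂) : L)
    rw [hCD]
  exact Nat.card_le_card_of_injective f hinj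

end Cfsg.Agent.S1512
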