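import Cfsg.Statements.S1513
import Cfsg.Agent.S1512
import Cfsg.Agent.Lib.Helper8.CharFrobenius
import Cfsg.Agent.Lib.Helper8.CharCyclicExt
import Cfsg.Agent.Lib.Helper8.CharGallExt
import Cfsg.Agent.Lib.Helper8.Artin
import Cfsg.Agent.Lib.Helper4.CoprimeAct

set_option autoImplicit false
open Cfsg

namespace Cfsg.Agent.S1513

open Cfsg.Agent.Lib.Helper8
open scoped ComplexConjugate
open scoped Pointwise

theorem fixed_count {L : Type*} [Group L] [Fintype L] (K W₂ : Subgroup L) [hK : K.Normal] (y : L)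
    (hy1 : y ≠ 1) (hy : Nat.Coprime (orderOf y) (Nat.card K)) (hW₂c : IsCyclic W₂)
    (hC : ∀ z ∈ Subgroup.zpowers y, z ≠ 1 → K ⊓ Subgroup.centralizer ({z} : Set L) = W₂) :
    Nat.card {θ : Cfsg.IrrCharacter K // conjChar hK θ.1 y = θ.1} = Nat.card W₂ := by
  classical
  set β : K ≃* K := @MulAut.conjNormal L _ K hK y with hβ
  have hβapp : ∀ c : K, ((β c : K) : L) = y * c * y⁻¹ := fun c => rfl
  have hβ1 : ∀ a b : K, IsConj a b → IsConj (β a) (β b) := by
    intro a b hab
    obtain ⟨c, hc⟩ := isConj_iff.mp hab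
    exact isConj_iff.mpr ⟨β c, by rw [← hc]; simp⟩
  have hperm := perm_lemma (G := K) (fun c => β c) hβ1
    (fun χ => isIrrCharacter_comp_surjective β.toMonoidHom β.surjective χ.2)
  have hR : Nat.card {χ : Cfsg.IrrCharacter K // (χ.1 ∘ fun c => β c) = χ.1} =
      Nat.card {θ : Cfsg.IrrCharacter K // conjChar hK θ.1 y = θ.1} := by
    apply Nat.card_congr
    apply Equiv.subtypeEquivRight
    intro χ
    rw [conjChar_eq_comp]
  rw [← hR, ← hperm]
  have hxmem : y ∈ Subgroup.zpowers y := Subgroup.mem_zpowers y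
  have hW : K ⊓ Subgroup.centralizer ({y} : Set L) = W₂ := hC y hxmem hy1
  have hW₂K : W₂ ≤ K := by rw [← hW]; exact inf_le_left
  apply le_antisymm
  · have h1 := Cfsg.Agent.S1512.result K W₂ y hy1 hy hC
    refine le_trans (le_of_eq ?_) h1
    apply Nat.card_congr
    apply Equiv.subtypeEquivRight
    intro C
    constructor
    · intro h
      obtain ⟨c, rfl⟩ := ConjClasses.mk_surjective C
      have := h c rfl
      show ConjClasses.mk (β c) = ConjClasses.mk c
      rw [ConjClasses.mk_eq_mk_iff_isConj]; exact this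
    · intro h g hg
      subst hg
      have : ConjClasses.mk (β g) = ConjClasses.mk g := h
      rwa [ConjClasses.mk_eq_mk_iff_isConj] at this
  · letI act : MulAction L L := MulAction.compHom L (MulAut.conj (G := L))
    have hsmul : ∀ g c : L, @SMul.smul L L act.toSMul g c = g * c * g⁻¹ := fun g c => rfl
    have hAK : Subgroup.zpowers y ≤ Subgroup.normalizer (K : Set L) := by
      rw [Subgroup.normalizer_eq_top]; exact le_top
    have hcop : (Nat.card (Subgroup.zpowers y)).Coprime (Nat.card K) := by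
      rw [Nat.card_zpowers]; exact hy
    have hcomm_y : ∀ w ∈ W₂, ∀ a ∈ Subgroup.zpowers y, a * w * a⁻¹ = w := by
      intro w hw a ha
      have hw' : w ∈ Subgroup.centralizer ({y} : Set L) := by
        rw [← hW] at hw; exact hw.2
      have hyw : y ∈ Subgroup.centralizer ({w} : Set L) := by
        rw [Subgroup.mem_centralizer_iff]
        intro z hz
        rw [Set.mem_singleton_iff] at hz
        rw [hz]
        exact ((Subgroup.mem_centralizer_iff.mp hw') y rfl).symm
      have h1 := (Subgroup.zpowers_le.mpr hyw) ha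
      have h2 := (Subgroup.mem_centralizer_iff.mp h1) w rfl
      rw [← h2]; group
    have hfix : ∀ w : W₂, ∀ g : K, ConjClasses.mk g = ConjClasses.mk (⟨w, hW₂K w.2⟩ : K) →
        IsConj (β g) g := by
      intro w g hg
      rw [ConjClasses.mk_eq_mk_iff_isConj] at hg
      have hβw : β ⟨w, hW₂K w.2⟩ = ⟨w, hW₂K w.2⟩ := by
        apply Subtype.ext
        rw [hβapp]
        exact hcomm_y w w.2 y hxmem
      have h1 := hβ1 g _ hg
      rw [hβw] at h1
      exact h1.trans hg.symm
    let f : W₂ → {C : ConjClasses K // ∀ g : K, ConjClasses.mk g = C → IsConj (β g) g} :=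
      fun w => ⟨ConjClasses.mk ⟨w, hW₂K w.2⟩, hfix w⟩
    have hinj : Function.Injective f := by
      intro w w' hww
      have h1 : ConjClasses.mk (⟨w, hW₂K w.2⟩ : K) = ConjClasses.mk (⟨w', hW₂K w'.2⟩ : K) :=
        congrArg Subtype.val hww
      rw [ConjClasses.mk_eq_mk_iff_isConj, isConj_iff] at h1
      obtain ⟨k, hk⟩ := h1
      have hk' : (k : L) * w * (k : L)⁻¹ = w' := by simpa using congrArg Subtype.val hk
      have e : @SMul.smul L L act.toSMul (k : L) (w : L) = w' := (hsmul k w).trans hk'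
      obtain ⟨c, hc, hcw⟩ := @Cfsg.Agent.Lib.Helper4.glauberman_trans L _ _ (Subgroup.zpowers y) K L
        act hAK hcop (Or.inl inferInstance) (w : L)
        (fun a ha => (hsmul a w).trans (hcomm_y w w.2 a ha)) (k : L) k.2
        (fun a ha => by
          show @SMul.smul L L act.toSMul a (@SMul.smul L L act.toSMul (k : L) (w : L)) =
            @SMul.smul L L act.toSMul (k : L) (w : L)
          rw [e, hsmul]; exact hcomm_y w' w'.2 a ha)
      have hcW : c ∈ W₂ := by
        rw [← hW]
        refine Subgroup.mem_inf.mpr ⟨(Subgroup.mem_inf.mp hc).1, ?_⟩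
        exact Subgroup.centralizer_le (Set.singleton_subset_iff.mpr hxmem) (Subgroup.mem_inf.mp hc).2
      have hcomm2 : c * (w : L) = w * c := by
        haveI := hW₂c
        have := comm_of_isCyclic (⟨c, hcW⟩ : W₂) w
        exact congrArg Subtype.val this
      have hcw' : @SMul.smul L L act.toSMul c (w : L) = @SMul.smul L L act.toSMul (k : L) (w : L) :=
        hcw
      rw [e, hsmul] at hcw'
      apply Subtype.ext
      rw [← hcw', hcomm2]; group
    exact Nat.card_le_card_of_injective f hinj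

theorem exists_cyclic_quot_char {L : Type*} [Group L] [Finite L] (K : Subgroup L) [K.Normal]
    (hcyc : IsCyclic (L ⧸ K)) :
    ∃ lam : L →* ℂˣ, (∀ g : L, (lam g) ^ K.index = 1) ∧ ∀ g : L, lam g = 1 ↔ g ∈ K := by
  obtain ⟨q₀, hq₀⟩ := hcyc.exists_generator
  have hn : orderOf q₀ = K.index := by
    rw [orderOf_eq_card_of_forall_mem_zpowers hq₀, Subgroup.index_eq_card]
  have hnpos : 0 < orderOf q₀ := orderOf_pos q₀
  have hζ := Complex.isPrimitiveRoot_exp (orderOf q₀) hnpos.ne'
  set ζ : ℂ := Complex.exp (2 * Real.pi * Complex.I / (orderOf q₀ : ℂ)) with hζdef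
  have hζ0 : ζ ≠ 0 := hζ.ne_zero hnpos.ne'
  set ζu : ℂˣ := Units.mk0 ζ hζ0 with hζu
  have hord : orderOf ζu = orderOf q₀ := by
    rw [← orderOf_units, hζu, Units.val_mk0]
    exact hζ.eq_orderOf.symm
  let lamq : (L ⧸ K) →* ℂˣ := monoidHomOfForallMemZpowers hq₀ (g' := ζu) (by rw [hord])
  have hlamq : lamq q₀ = ζu := monoidHomOfForallMemZpowers_apply_gen hq₀ _
  refine ⟨lamq.comp (QuotientGroup.mk' K), ?_, ?_⟩
  · intro g
    rw [MonoidHom.comp_apply, ← map_pow, ← hn, orderOf_eq_card_of_forall_mem_zpowers hq₀,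
      pow_card_eq_one', map_one]
  · intro g
    rw [MonoidHom.comp_apply]
    constructor
    · intro h
      obtain ⟨k, hk⟩ := Subgroup.mem_zpowers_iff.mp (hq₀ (QuotientGroup.mk' K g))
      rw [← hk, map_zpow, hlamq] at h
      have h1 : ((orderOf ζu : ℕ) : ℤ) ∣ k := orderOf_dvd_iff_zpow_eq_one.mpr h
      rw [hord] at h1
      have h2 : q₀ ^ k = 1 := orderOf_dvd_iff_zpow_eq_one.mp h1
      rw [h2] at hk
      exact (QuotientGroup.eq_one_iff g).mp hk.symm
    · intro h
      have : QuotientGroup.mk' K g = 1 := (QuotientGroup.eq_one_iff g).mpr h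
      rw [this, map_one]

/-- Let L be a finite group with K normal with complement W₁ ≠ 1 a cyclic Hall subgroup, and W₂ ≠ 1 a cyclic subgroup of K equal to C_K(x) for every non-identity x ∈ W₁, with W₁W₂ of odd order. For an irreducible character θ of K: if θ is not fixed under conjugation by some element of W₁, then the function induced from θ to L is an irreducible character of L; and the irreducible characters of K fixed by all of W₁ are exactly Nat.card W₂ in number, each inducing to the sum of Nat.card W₁ pairwise distinct irreducible characters of L. -/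
theorem result {L : Type*} [Group L] [Fintype L] (K W₁ W₂ : Subgroup L) [hK : K.Normal] (hKW₁ : K ⊓ W₁ = ⊥) (hKW₁' : K ⊔ W₁ = ⊤) (hW₁ : W₁ ≠ ⊥) (hW₁c : IsCyclic W₁) (hHall : Nat.Coprime (Nat.card W₁) W₁.index) (hW₂ : W₂ ≠ ⊥) (hW₂c : IsCyclic W₂) (hW₂K : W₂ ≤ K) (hC : ∀ x ∈ W₁, x ≠ 1 → K ⊓ Subgroup.centralizer ({x} : Set L) = W₂) (hodd : Odd (Nat.card ↥(W₁ ⊔ W₂))) : (∀ θ : K → ℂ, Cfsg.IsIrrCharacter K θ → (∃ x ∈ W₁, (fun k : K => θ ⟨x * k * x⁻¹, hK.conj_mem (k : L) k.2 x⟩) ≠ θ) → Cfsg.IsIrrCharacter L (Cfsg.indFun K θ)) ∧ Nat.card {θ : Cfsg.IrrCharacter K // ∀ x ∈ W₁, (fun k : K => (θ : K → ℂ) ⟨x * k * x⁻¹, hK.conj_mem (k : L) k.2 x⟩) = θ} = Nat.card W₂ ∧ (∀ θ : K → ℂ, Cfsg.IsIrrCharacter K θ → (∀ x ∈ W₁, (fun k : K => θ ⟨x * k * x⁻¹, hK.conj_mem (k : L) k.2 x⟩) = θ) → ∃ C : Finset (L → ℂ), C.card = Nat.card W₁ ∧ (∀ μ ∈ C, Cfsg.IsIrrCharacter L μ) ∧ Cfsg.indFun K θ = ∑ μ ∈ C, μ) := by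
  classical
  have hxK : ∀ (θ : K → ℂ) (x : L), (fun k : K => θ ⟨x * k * x⁻¹, hK.conj_mem (k : L) k.2 x⟩) =
      conjChar hK θ x := fun θ x => rfl
  -- complement facts
  have hmul : ((K : Set L) * (W₁ : Set L)) = Set.univ := by
    rw [← Subgroup.normal_mul, hKW₁']; rfl
  have hcompl : K.IsComplement' W₁ :=
    Subgroup.isComplement'_of_disjoint_and_mul_eq_univ (disjoint_iff.mpr hKW₁) hmul
  have hidx : W₁.index = Nat.card K := hcompl.index_eq_card
  have hKidx : K.index = Nat.card W₁ := hcompl.symm.index_eq_card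
  have hcopW : Nat.Coprime (Nat.card W₁) (Nat.card K) := by rw [← hidx]; exact hHall
  have hdecomp : ∀ g : L, ∃ k ∈ K, ∃ w ∈ W₁, g = k * w := by
    intro g
    have : g ∈ (K : Set L) * (W₁ : Set L) := by rw [hmul]; trivial
    obtain ⟨k, hk, w, hw, rfl⟩ := Set.mem_mul.mp this
    exact ⟨k, hk, w, hw, rfl⟩
  have hcopx : ∀ x ∈ W₁, Nat.Coprime (orderOf x) (Nat.card K) := by
    intro x hx
    apply Nat.Coprime.coprime_dvd_left _ hcopW
    have h1 : orderOf (⟨x, hx⟩ : W₁) ∣ Nat.card W₁ := orderOf_dvd_natCard _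
    rwa [Subgroup.orderOf_mk] at h1
  have hCx : ∀ x ∈ W₁, ∀ z ∈ Subgroup.zpowers x, z ≠ 1 →
      K ⊓ Subgroup.centralizer ({z} : Set L) = W₂ := by
    intro x hx z hz hz1
    exact hC z ((Subgroup.zpowers_le.mpr hx) hz) hz1
  have hcount : ∀ x ∈ W₁, x ≠ 1 →
      Nat.card {θ : Cfsg.IrrCharacter K // conjChar hK θ.1 x = θ.1} = Nat.card W₂ :=
    fun x hx hx1 => fixed_count K W₂ x hx1 (hcopx x hx) hW₂c (hCx x hx)
  -- generator
  obtain ⟨⟨x₀, hx₀W⟩, hgen⟩ := hW₁c.exists_generator
  have hgen' : ∀ x ∈ W₁, x ∈ Subgroup.zpowers x₀ := by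
    intro x hx
    obtain ⟨k, hk⟩ := Subgroup.mem_zpowers_iff.mp (hgen ⟨x, hx⟩)
    rw [Subgroup.mem_zpowers_iff]
    refine ⟨k, ?_⟩
    have := congrArg Subtype.val hk
    simpa using this
  have hx₀1 : x₀ ≠ 1 := by
    intro h
    apply hW₁
    rw [eq_bot_iff]
    intro x hx
    have := hgen' x hx
    rw [h, Subgroup.zpowers_one_eq_bot] at this
    exact this
  -- stabilizers are subgroups
  have hstabK : ∀ (θ : K → ℂ), Cfsg.IsIrrCharacter K θ → ∀ k ∈ K, conjChar hK θ k = θ := by
    intro θ hθ k hk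
    ext h
    have := isClassFunction_of_isCharacter (irr_isCharacter hθ) h ⟨k, hk⟩
    rw [conjChar_apply]
    rw [← this]
    congr 1
  have hpow : ∀ (θ : K → ℂ) (x : L), conjChar hK θ x = θ →
      ∀ z ∈ Subgroup.zpowers x, conjChar hK θ z = θ := by
    intro θ x hx
    let stab : Subgroup L :=
      { carrier := {g | conjChar hK θ g = θ}
        mul_mem' := by
          intro a b ha hb
          show conjChar hK θ (a * b) = θ
          rw [← conjChar_mul, ha, hb]
        one_mem' := conjChar_one hK θ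
        inv_mem' := by
          intro a ha
          show conjChar hK θ a⁻¹ = θ
          have h1 := conjChar_mul hK θ a a⁻¹
          rw [ha, mul_inv_cancel, conjChar_one] at h1
          exact h1 }
    have : Subgroup.zpowers x ≤ stab := by
      rw [Subgroup.zpowers_le]; exact hx
    intro z hz
    exact this hz
  have hinvW : ∀ θ : K → ℂ, conjChar hK θ x₀ = θ → ∀ x ∈ W₁, conjChar hK θ x = θ :=
    fun θ h x hx => hpow θ x₀ h x (hgen' x hx)
  refine ⟨?_, ?_, ?_⟩
  · -- part (a)
    intro θ hθ hmove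
    obtain ⟨x, hxW, hne⟩ := hmove
    rw [hxK] at hne
    have hstab : ∀ g : L, conjChar hK θ g = θ → g ∈ K := by
      intro g hg
      obtain ⟨k, hk, w, hw, rfl⟩ := hdecomp g
      rw [← conjChar_mul, hstabK θ hθ k hk] at hg
      by_cases hw1 : w = 1
      · rw [hw1, mul_one]; exact hk
      · exfalso
        -- sets A ⊆ B of equal size
        set A : Set (Cfsg.IrrCharacter K) := {φ | conjChar hK φ.1 x₀ = φ.1} with hA
        set B : Set (Cfsg.IrrCharacter K) := {φ | conjChar hK φ.1 w = φ.1} with hB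
        have hAB : A ⊆ B := fun φ hφ => hinvW φ.1 hφ w hw
        haveI := irr_finite (G := K)
        have hcardA : A.ncard = Nat.card W₂ := by
          rw [← Nat.card_coe_set_eq]; exact hcount x₀ hx₀W hx₀1
        have hcardB : B.ncard = Nat.card W₂ := by
          rw [← Nat.card_coe_set_eq]; exact hcount w hw hw1
        have hEq : A = B := Set.eq_of_subset_of_ncard_le hAB (by rw [hcardA, hcardB]) (Set.toFinite B)
        have hθB : (⟨θ, hθ⟩ : Cfsg.IrrCharacter K) ∈ B := hg
        rw [← hEq] at hθB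
        exact hne (hinvW θ hθB x hxW)
    have hnorm := card_mul_norm_indFun hK hθ
    have hfilt : (Finset.univ.filter (fun g : L => conjChar hK θ g = θ)) =
        Finset.univ.filter (fun g : L => g ∈ K) := by
      ext g
      simp only [Finset.mem_filter, Finset.mem_univ, true_and]
      exact ⟨hstab g, fun hg => hstabK θ hθ g hg⟩
    have hcardK : (Finset.univ.filter (fun g : L => g ∈ K)).card = Nat.card K := by
      rw [Nat.card_eq_fintype_card, Fintype.card_subtype]
    rw [hfilt, hcardK] at hnorm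
    have hKne : (Nat.card K : ℂ) ≠ 0 := Nat.cast_ne_zero.mpr Nat.card_pos.ne'
    have h1 : Cfsg.classInner (Cfsg.indFun K θ) (Cfsg.indFun K θ) = 1 := by
      have := mul_left_cancel₀ hKne (hnorm.trans (mul_one _).symm)
      exact this
    exact isIrrCharacter_of_norm_one (isCharacter_indFun K (irr_isCharacter hθ)) h1
  · -- part (b)
    rw [← hcount x₀ hx₀W hx₀1]
    apply Nat.card_congr
    apply Equiv.subtypeEquivRight
    intro θ
    constructor
    · intro h
      have := h x₀ hx₀W
      rw [hxK] at this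
      exact this
    · intro h x hx
      rw [hxK]
      exact hinvW θ.1 h x hx
  · -- part (c)
    intro θ hθ hinv
    have hinvL : ∀ g : L, conjChar hK θ g = θ := by
      intro g
      obtain ⟨k, hk, w, hw, rfl⟩ := hdecomp g
      rw [← conjChar_mul, hstabK θ hθ k hk]
      have := hinv w hw
      rw [hxK] at this
      exact this
    have hcyc : IsCyclic (L ⧸ K) := by
      haveI := hW₁c
      apply isCyclic_of_surjective ((QuotientGroup.mk' K).comp W₁.subtype)
      intro q
      obtain ⟨g, rfl⟩ := QuotientGroup.mk_surjective q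
      obtain ⟨k, hk, w, hw, rfl⟩ := hdecomp g
      refine ⟨⟨w, hw⟩, ?_⟩
      show (QuotientGroup.mk' K) w = (QuotientGroup.mk (k * w) : L ⧸ K)
      rw [QuotientGroup.mk_mul, (QuotientGroup.eq_one_iff k).mpr hk, one_mul]
      rfl
    obtain ⟨d, ρ, hρ, hρθ⟩ := hθ
    have hθirr : Cfsg.IsIrrCharacter K θ := ⟨d, ρ, hρ, hρθ⟩
    obtain ⟨σ, hσ, hσρ⟩ := extend_cyclic K hcyc ρ hρ (by rw [hρθ]; exact hinvL)
    set χ : L → ℂ := σ.character with hχ
    have hχirr : Cfsg.IsIrrCharacter L χ := ⟨d, σ, hσ, rfl⟩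
    have hχK : ∀ k : K, χ k = θ k := by
      intro k
      rw [hχ, ← hρθ]
      show LinearMap.trace ℂ _ (σ (k : L)) = LinearMap.trace ℂ _ (ρ k)
      rw [hσρ k]
    obtain ⟨lam, hlamn, hlamK⟩ := exists_cyclic_quot_char K hcyc
    set n := K.index with hn
    have hnpos : 0 < n := Nat.pos_of_ne_zero Subgroup.index_ne_zero_of_finite
    let ψ : ℕ → (L → ℂ) := fun i => linFun (lam ^ i) * χ
    have hψirr : ∀ i, Cfsg.IsIrrCharacter L (ψ i) := fun i => irr_linFun_mul (lam ^ i) hχirr
    have hLK : (Nat.card L : ℂ) = (Nat.card K : ℂ) * (n : ℂ) := by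
      rw [hn, ← Nat.cast_mul, Subgroup.card_mul_index]
    have hKne : (Nat.card K : ℂ) ≠ 0 := Nat.cast_ne_zero.mpr Nat.card_pos.ne'
    have hsum : Cfsg.indFun K θ = ∑ i ∈ Finset.range n, ψ i := by
      ext g
      rw [Finset.sum_apply]
      have hψg : ∀ i, ψ i g = ((lam g : ℂˣ) : ℂ) ^ i * χ g := by
        intro i
        show linFun (lam ^ i) g * χ g = _
        rw [linFun_apply, MonoidHom.pow_apply, Units.val_pow_eq_pow_val]
      simp_rw [hψg]
      rw [← Finset.sum_mul]
      by_cases hg : g ∈ K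
      · have h1 : lam g = 1 := (hlamK g).mpr hg
        rw [h1]
        simp only [Units.val_one, one_pow, Finset.sum_const, Finset.card_range, nsmul_eq_mul, mul_one]
        have h2 := indFun_restrict hK θ ⟨g, hg⟩
        simp only at h2
        rw [h2]
        simp_rw [hinvL]
        rw [Finset.sum_const, Finset.card_univ, nsmul_eq_mul, ← Nat.card_eq_fintype_card, hLK,
          hχK ⟨g, hg⟩]
        field_simp
      · have h1 : lam g ≠ 1 := fun h => hg ((hlamK g).mp h)
        have h2 : ((lam g : ℂˣ) : ℂ) ≠ 1 := by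
          intro h; apply h1; exact Units.ext h
        have h3 : ((lam g : ℂˣ) : ℂ) ^ n = 1 := by
          have := hlamn g
          rw [← Units.val_pow_eq_pow_val, this, Units.val_one]
        rw [geom_sum_eq h2, h3, sub_self, zero_div, zero_mul]
        rw [indFun_apply]
        rw [Finset.sum_eq_zero, mul_zero]
        intro x _
        apply extendByZero_not_mem
        intro hx
        apply hg
        have := hK.conj_mem _ hx x
        simpa [mul_assoc] using this
    -- norm of the induced function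
    have hnormInd : Cfsg.classInner (Cfsg.indFun K θ) (Cfsg.indFun K θ) = (n : ℂ) := by
      have hnorm := card_mul_norm_indFun hK hθirr
      have hfilt : (Finset.univ.filter (fun g : L => conjChar hK θ g = θ)) = Finset.univ := by
        ext g; simp [hinvL g]
      rw [hfilt, Finset.card_univ, ← Nat.card_eq_fintype_card, hLK] at hnorm
      exact mul_left_cancel₀ hKne hnorm
    have hnormSum : Cfsg.classInner (∑ i ∈ Finset.range n, ψ i) (∑ j ∈ Finset.range n, ψ j) =
        ((∑ i ∈ Finset.range n, ∑ j ∈ Finset.range n, (if ψ i = ψ j then 1 else 0 : ℕ) : ℕ) : ℂ) := by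
      have e1 : (∑ i ∈ Finset.range n, ψ i) = fun g => ∑ i ∈ Finset.range n, (1 : ℂ) * ψ i g := by
        ext g; rw [Finset.sum_apply]; simp
      conv_lhs => arg 1; rw [e1]
      rw [classInner_sum_left]
      push_cast
      apply Finset.sum_congr rfl
      intro i _
      rw [one_mul]
      conv_lhs => arg 2; rw [e1]
      rw [classInner_sum_right]
      apply Finset.sum_congr rfl
      intro j _
      rw [map_one, one_mul, irr_classInner (hψirr i) (hψirr j)]
    rw [hsum] at hnormInd
    rw [hnormSum] at hnormInd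
    have hcountN : ∑ i ∈ Finset.range n, ∑ j ∈ Finset.range n, (if ψ i = ψ j then 1 else 0 : ℕ) = n := by
      exact_mod_cast hnormInd
    have hinj : Set.InjOn ψ (Finset.range n : Set ℕ) := by
      intro i₀ hi₀ j₀ hj₀ hij
      by_contra hne
      have hlow : ∀ i ∈ Finset.range n, (1 + (if i = i₀ then 1 else 0) : ℕ) ≤
          ∑ j ∈ Finset.range n, (if ψ i = ψ j then 1 else 0 : ℕ) := by
        intro i hi
        by_cases hii : i = i₀
        · rw [if_pos hii]
          have hsub : ({i₀, j₀} : Finset ℕ) ⊆ Finset.range n := by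
            intro t ht
            rcases Finset.mem_insert.mp ht with h | h
            · rw [h]; exact hi₀
            · rw [Finset.mem_singleton.mp h]; exact hj₀
          calc (1 + 1 : ℕ) = ∑ j ∈ ({i₀, j₀} : Finset ℕ), (if ψ i = ψ j then 1 else 0 : ℕ) := by
                rw [Finset.sum_pair hne, hii, if_pos rfl, if_pos hij]
            _ ≤ _ := Finset.sum_le_sum_of_subset hsub
        · rw [if_neg hii, add_zero]
          calc (1 : ℕ) = ∑ j ∈ ({i} : Finset ℕ), (if ψ i = ψ j then 1 else 0 : ℕ) := by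
                rw [Finset.sum_singleton, if_pos rfl]
            _ ≤ _ := Finset.sum_le_sum_of_subset (Finset.singleton_subset_iff.mpr hi)
      have h2 := Finset.sum_le_sum hlow
      rw [hcountN, Finset.sum_add_distrib, Finset.sum_const, Finset.card_range, smul_eq_mul, mul_one,
        Finset.sum_ite_eq' (Finset.range n) i₀, if_pos (Finset.mem_coe.mp hi₀)] at h2
      omega
    refine ⟨Finset.image ψ (Finset.range n), ?_, ?_, ?_⟩
    · rw [Finset.card_image_of_injOn hinj, Finset.card_range, hKidx]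
    · intro μ hμ
      obtain ⟨i, _, rfl⟩ := Finset.mem_image.mp hμ
      exact hψirr i
    · rw [Finset.sum_image hinj]
      exact hsum

end Cfsg.Agent.S1513
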