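import Cfsg.Statements.S1514
import Cfsg.Agent.Lib.Helper8.Coherence

set_option autoImplicit false
open Cfsg

namespace Cfsg.Agent.S1514

open Cfsg.Agent.Lib.Helper8

/-- Let S be a nonempty set of irreducible characters of the finite group L, closed under complex conjugation and containing no real-valued member, and τ a linear isometry on the integer combinations of S vanishing at 1, with values virtual characters of G vanishing at 1. Then there is a choice R making (S, τ, R) a coherence system. -/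
theorem result {L : Type*} [Group L] [Fintype L] {G : Type*} [Group G] [Fintype G] (S : Set (L → ℂ)) (hS : S.Nonempty) (hirr : ∀ χ ∈ S, Cfsg.IsIrrCharacter L χ) (hconj : ∀ χ ∈ S, Cfsg.conjFun χ ∈ S ∧ Cfsg.conjFun χ ≠ χ) (τ : (L → ℂ) → (G → ℂ)) (hτ : Cfsg.IsLinearIsometryOn (Cfsg.zspanOn S {1}ᶜ) τ) (hτ1 : ∀ α ∈ Cfsg.zspanOn S {1}ᶜ, τ α 1 = 0) : ∃ R : (L → ℂ) → Finset (G → ℂ), Cfsg.IsCoherenceSystem S τ R := by
  classical
  obtain ⟨hadd, hsmul, hiso, hgen⟩ := hτ
  have hmem : ∀ χ ∈ S, χ - Cfsg.conjFun χ ∈ Cfsg.zspanOn S {1}ᶜ := by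
    intro χ hχ
    refine ⟨Submodule.sub_mem _ (Submodule.subset_span hχ)
      (Submodule.subset_span (hconj χ hχ).1), ?_⟩
    intro x hx
    have hx1 : x = 1 := by simpa using hx
    rw [hx1, Pi.sub_apply]
    unfold Cfsg.conjFun
    have hdeg : χ 1 = (charDegree χ : ℂ) := irr_one_eq_charDegree ⟨χ, hirr χ hχ⟩
    rw [hdeg]
    simp
  have hconjirr : ∀ χ ∈ S, IsIrrCharacter L (Cfsg.conjFun χ) := fun χ hχ => hirr _ (hconj χ hχ).1
  have hnorm : ∀ χ ∈ S, classInner (χ - Cfsg.conjFun χ) (χ - Cfsg.conjFun χ) = 2 := by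
    intro χ hχ
    rw [classInner_sub_sub_gen, irr_classInner (hirr χ hχ) (hirr χ hχ),
      irr_classInner (hirr χ hχ) (hconjirr χ hχ), irr_classInner (hconjirr χ hχ) (hirr χ hχ),
      irr_classInner (hconjirr χ hχ) (hconjirr χ hχ), if_pos rfl, if_pos rfl,
      if_neg (hconj χ hχ).2.symm, if_neg (hconj χ hχ).2]
    norm_num
  have hkey : ∀ χ : L → ℂ, ∃ a b : G → ℂ, χ ∈ S →
      (IsIrrCharacter G a ∧ IsIrrCharacter G b ∧ a ≠ b ∧ τ (χ - Cfsg.conjFun χ) = a - b) := by
    intro χ
    by_cases hχ : χ ∈ S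
    · obtain ⟨a, b, hab, h⟩ := genchar_norm_two (hgen _ (hmem χ hχ))
        (by rw [hiso _ (hmem χ hχ) _ (hmem χ hχ)]; exact hnorm χ hχ) (hτ1 _ (hmem χ hχ))
      exact ⟨a.1, b.1, fun _ => ⟨a.2, b.2, fun h => hab (Subtype.ext h), h⟩⟩
    · exact ⟨0, 0, fun h => absurd h hχ⟩
  choose a b hab using hkey
  refine ⟨fun χ => {a χ, -b χ}, ?_⟩
  have hane : ∀ χ ∈ S, a χ ≠ -b χ := by
    intro χ hχ h
    obtain ⟨ha, hb, hne, _⟩ := hab χ hχ
    have h0 : classInner (a χ) (-b χ) = 0 := by
      rw [classInner_neg_right', irr_classInner ha hb, if_neg hne, neg_zero]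
    rw [← h, irr_classInner ha ha, if_pos rfl] at h0
    exact one_ne_zero h0
  refine { nonempty := hS, isCharacter := fun χ hχ => irr_isCharacter (hirr χ hχ),
           conj_mem := fun χ hχ => (hconj χ hχ).1, conj_ne := fun χ hχ => (hconj χ hχ).2,
           isometry := ⟨hadd, hsmul, hiso, hgen⟩, map_one := hτ1, orthogonal := ?_,
           orthonormal := ?_, virtual := ?_, sum_eq := ?_, disjoint := ?_ }
  · intro χ hχ φ hφ hne
    rw [irr_classInner (hirr χ hχ) (hirr φ hφ), if_neg hne]
  · intro χ hχ α hα β hβ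
    obtain ⟨ha, hb, hne, _⟩ := hab χ hχ
    simp only [Finset.mem_insert, Finset.mem_singleton] at hα hβ
    rcases hα with rfl | rfl <;> rcases hβ with rfl | rfl
    · rw [if_pos rfl, irr_classInner ha ha, if_pos rfl]
    · rw [if_neg (hane χ hχ), classInner_neg_right', irr_classInner ha hb, if_neg hne, neg_zero]
    · rw [if_neg (hane χ hχ).symm, classInner_neg_left', irr_classInner hb ha,
        if_neg hne.symm, neg_zero]
    · rw [if_pos rfl, classInner_neg_left', classInner_neg_right', irr_classInner hb hb,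
        if_pos rfl, neg_neg]
  · intro χ hχ α hα
    obtain ⟨ha, hb, hne, _⟩ := hab χ hχ
    simp only [Finset.mem_insert, Finset.mem_singleton] at hα
    rcases hα with rfl | rfl
    · exact ⟨a χ, 0, irr_isCharacter ha, isCharacter_zero, (sub_zero _).symm⟩
    · exact ⟨0, b χ, isCharacter_zero, irr_isCharacter hb, (zero_sub _).symm⟩
  · intro χ hχ
    obtain ⟨ha, hb, hne, h⟩ := hab χ hχ
    rw [h, Finset.sum_pair (hane χ hχ), sub_eq_add_neg]
  · intro χ hχ φ hφ h1 h2 α hα β hβ
    obtain ⟨ha, hb, hne, hτχ⟩ := hab χ hχ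
    obtain ⟨ha', hb', hne', hτφ⟩ := hab φ hφ
    have h3 : classInner (Cfsg.conjFun φ) χ = 0 := by
      have := classInner_conjFun_conjFun φ (Cfsg.conjFun χ)
      rw [conjFun_conjFun, h2, map_zero] at this; exact this
    have h4 : classInner (Cfsg.conjFun φ) (Cfsg.conjFun χ) = 0 := by
      rw [classInner_conjFun_conjFun, h1, map_zero]
    have horth : classInner (τ (φ - Cfsg.conjFun φ)) (τ (χ - Cfsg.conjFun χ)) = 0 := by
      rw [hiso _ (hmem φ hφ) _ (hmem χ hχ), classInner_sub_sub_gen, h1, h2, h3, h4]; ring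
    rw [hτφ, hτχ, classInner_sub_sub_gen, irr_classInner ha' ha, irr_classInner ha' hb,
      irr_classInner hb' ha, irr_classInner hb' hb] at horth
    have hac : a φ ≠ a χ := by
      intro h
      have e1 : ¬ a φ = b χ := fun h' => hne (h.symm.trans h')
      have e2 : ¬ b φ = a χ := fun h' => hne' (h.trans h'.symm)
      rw [if_pos h, if_neg e1, if_neg e2] at horth
      by_cases e3 : b φ = b χ
      · rw [if_pos e3] at horth; norm_num at horth
      · rw [if_neg e3] at horth; norm_num at horth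
    have hbd : b φ ≠ b χ := by
      intro h
      have e1 : ¬ a φ = b χ := fun h' => hne' (h'.trans h.symm)
      have e2 : ¬ b φ = a χ := fun h' => hne (h'.symm.trans h)
      rw [if_neg hac, if_pos h, if_neg e1, if_neg e2] at horth
      norm_num at horth
    have had : a φ ≠ b χ := by
      intro h
      rw [if_neg hac, if_neg hbd, if_pos h] at horth
      by_cases e3 : b φ = a χ
      · rw [if_pos e3] at horth; norm_num at horth
      · rw [if_neg e3] at horth; norm_num at horth
    have hbc : b φ ≠ a χ := by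
      intro h
      rw [if_neg hac, if_neg hbd, if_neg had, if_pos h] at horth
      norm_num at horth
    simp only [Finset.mem_insert, Finset.mem_singleton] at hα hβ
    rcases hα with rfl | rfl <;> rcases hβ with rfl | rfl
    · rw [irr_classInner ha' ha, if_neg hac]
    · rw [classInner_neg_right', irr_classInner ha' hb, if_neg had, neg_zero]
    · rw [classInner_neg_left', irr_classInner hb' ha, if_neg hbc, neg_zero]
    · rw [classInner_neg_left', classInner_neg_right', irr_classInner hb' hb, if_neg hbd,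
        neg_zero, neg_zero]

end Cfsg.Agent.S1514
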