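import Cfsg.Statements.S1515
import Cfsg.Agent.Lib.Helper8.Coherence

set_option autoImplicit false
open Cfsg

namespace Cfsg.Agent.S1515

open Cfsg.Agent.Lib.Helper8

/-- Let (S, τ, R) be a coherence system from L to G, χ ∈ S, and ψ an integer combination of S with ⟨χ, ψ⟩ = ⟨conj χ, ψ⟩ = 0. Let τ₁ be a linear isometry on the integer combinations of χ − ψ and χ − conj χ, with virtual-character values, agreeing with τ on integer multiples of χ − conj χ. Then the sum over α ∈ R χ of the squared absolute values of ⟨τ₁(χ − ψ), α⟩ is at least ⟨χ, χ⟩; and if ⟨τ₁(χ − ψ), τ₁(χ − ψ)⟩ minus that sum is at least ⟨ψ, ψ⟩, then the sum equals ⟨χ, χ⟩ and every ⟨τ₁(χ − ψ), α⟩ with α ∈ R χ is 0 or 1. -/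
theorem result {L : Type*} [Group L] [Fintype L] {G : Type*} [Group G] [Fintype G] (S : Set (L → ℂ)) (τ : (L → ℂ) → (G → ℂ)) (R : (L → ℂ) → Finset (G → ℂ)) (hS : Cfsg.IsCoherenceSystem S τ R) (χ : L → ℂ) (hχ : χ ∈ S) (ψ : L → ℂ) (hψ : ψ ∈ Cfsg.zspan S) (h1 : Cfsg.classInner χ ψ = 0) (h2 : Cfsg.classInner (Cfsg.conjFun χ) ψ = 0) (τ₁ : (L → ℂ) → (G → ℂ)) (hτ₁ : Cfsg.IsLinearIsometryOn (Cfsg.zspan {χ - ψ, χ - Cfsg.conjFun χ}) τ₁) (hagree : ∀ n : ℤ, τ₁ (n • (χ - Cfsg.conjFun χ)) = τ (n • (χ - Cfsg.conjFun χ))) : (Cfsg.classInner χ χ).re ≤ ∑ α ∈ R χ, ‖Cfsg.classInner (τ₁ (χ - ψ)) α‖ ^ 2 ∧ ((Cfsg.classInner ψ ψ).re ≤ (Cfsg.classInner (τ₁ (χ - ψ)) (τ₁ (χ - ψ))).re - ∑ α ∈ R χ, ‖Cfsg.classInner (τ₁ (χ - ψ)) α‖ ^ 2 → (∑ α ∈ R χ, ‖Cfsg.classInner (τ₁ (χ - ψ)) α‖ ^ 2 = (Cfsg.classInner χ χ).re ∧ ∀ α ∈ R χ, Cfsg.classInner (τ₁ (χ - ψ)) α = 0 ∨ Cfsg.classInner (τ₁ (χ - ψ)) α =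 1)) := by
  classical
  have hχ'S : Cfsg.conjFun χ ∈ S := hS.conj_mem χ hχ
  have hne : Cfsg.conjFun χ ≠ χ := hS.conj_ne χ hχ
  have horth : classInner χ (Cfsg.conjFun χ) = 0 :=
    hS.orthogonal χ hχ _ hχ'S (Ne.symm hne)
  have hm1 : χ - ψ ∈ Cfsg.zspan {χ - ψ, χ - Cfsg.conjFun χ} := Submodule.subset_span (by simp)
  have hm2 : χ - Cfsg.conjFun χ ∈ Cfsg.zspan {χ - ψ, χ - Cfsg.conjFun χ} :=
    Submodule.subset_span (by simp)
  obtain ⟨hadd, hsmul, hiso, hgen⟩ := hτ₁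
  have hτeq : τ₁ (χ - Cfsg.conjFun χ) = ∑ α ∈ R χ, α := by
    have := hagree 1
    rw [one_smul] at this
    rw [this]; exact hS.sum_eq χ hχ
  have hψχ : classInner ψ χ = 0 := by rw [classInner_conj_symm, h1, map_zero]
  have hψχ' : classInner ψ (Cfsg.conjFun χ) = 0 := by rw [classInner_conj_symm, h2, map_zero]
  have e1 : classInner (τ₁ (χ - ψ)) (τ₁ (χ - Cfsg.conjFun χ)) = classInner χ χ := by
    rw [hiso _ hm1 _ hm2, classInner_sub_sub_gen, horth, hψχ, hψχ']; ring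
  have e2 : classInner (τ₁ (χ - ψ)) (τ₁ (χ - ψ)) = classInner χ χ + classInner ψ ψ := by
    rw [hiso _ hm1 _ hm1, classInner_sub_sub_gen, h1, hψχ]; ring
  rw [hτeq, classInner_finset_sum_right] at e1
  have hint : ∀ α ∈ R χ, ∃ m : ℤ, classInner (τ₁ (χ - ψ)) α = m :=
    fun α hα => classInner_genchar_int (hgen _ hm1) (hS.virtual χ hχ α hα)
  obtain ⟨k, hk⟩ := classInner_character_nat (hS.isCharacter χ hχ) (hS.isCharacter χ hχ)
  choose! m hm using hint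
  have hsumZ : ∑ α ∈ R χ, m α = (k : ℤ) := by
    have : ((∑ α ∈ R χ, m α : ℤ) : ℂ) = ((k : ℤ) : ℂ) := by
      push_cast
      rw [← hk, ← e1]
      exact Finset.sum_congr rfl (fun α hα => (hm α hα).symm)
    exact_mod_cast this
  have hnorm : ∑ α ∈ R χ, ‖Cfsg.classInner (τ₁ (χ - ψ)) α‖ ^ 2 =
      ((∑ α ∈ R χ, (m α) ^ 2 : ℤ) : ℝ) := by
    push_cast
    apply Finset.sum_congr rfl
    intro α hα
    rw [hm α hα, Complex.norm_intCast, sq_abs]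
  have hkre : (Cfsg.classInner χ χ).re = ((k : ℤ) : ℝ) := by
    rw [hk]; simp
  have hsq : ∀ α, m α ≤ (m α) ^ 2 := fun α => Int.le_self_sq _
  have hge : (k : ℤ) ≤ ∑ α ∈ R χ, (m α) ^ 2 := by
    rw [← hsumZ]; exact Finset.sum_le_sum (fun α _ => hsq α)
  refine ⟨?_, ?_⟩
  · rw [hnorm, hkre]; exact_mod_cast hge
  · intro hle
    rw [e2, Complex.add_re, hkre, hnorm] at hle
    have hle' : ((∑ α ∈ R χ, (m α) ^ 2 : ℤ) : ℝ) ≤ ((k : ℤ) : ℝ) := by linarith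
    have hleZ : ∑ α ∈ R χ, (m α) ^ 2 ≤ (k : ℤ) := by exact_mod_cast hle'
    have heqZ : ∑ α ∈ R χ, (m α) ^ 2 = (k : ℤ) := le_antisymm hleZ hge
    refine ⟨?_, ?_⟩
    · rw [hnorm, hkre, heqZ]
    · intro α hα
      have hzero : ∑ α ∈ R χ, ((m α) ^ 2 - m α) = 0 := by
        rw [Finset.sum_sub_distrib, heqZ, hsumZ, sub_self]
      have := (Finset.sum_eq_zero_iff_of_nonneg (fun α _ => sub_nonneg.mpr (hsq α))).mp hzero α hα
      have h01 : m α * (m α - 1) = 0 := by ring_nf; ring_nf at this; linarith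
      rw [hm α hα]
      rcases mul_eq_zero.mp h01 with h | h
      · left; rw [h]; simp
      · right; have : m α = 1 := by omega
        rw [this]; simp

end Cfsg.Agent.S1515
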