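import Cfsg.Statements.S1525
import Cfsg.Agent.Lib.Helper8.DadeIso

set_option autoImplicit false
open Cfsg

namespace Cfsg.Agent.S1525

open Cfsg.Agent.Lib.Helper8
open scoped ComplexConjugate

/-- Under the Dade hypothesis for (A, L, H), let χ be a class function of G and let ψ be a function on L whose value at each a ∈ A is the average of χ over the coset a·H(a). Then (1/|G|) Σ |χ g|² over the elements g of G conjugate into some coset a·H(a) with a ∈ A is at least (1/|L|) Σ_{a ∈ A ∩ L} |ψ a|². -/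
theorem result {G : Type*} [Group G] [Fintype G] (A : Set G) (L : Subgroup G) [Fintype L] (H : G → Subgroup G) (hD : Cfsg.DadeHypothesis A L H) (χ : G → ℂ) (hχ : Cfsg.IsClassFunction G χ) (ψ : L → ℂ) (hψ : ∀ a : L, (a : G) ∈ A → ψ a = (Nat.card (H a) : ℂ)⁻¹ * ∑ᶠ u ∈ (H a : Set G), χ (a * u)) : (Nat.card L : ℝ)⁻¹ * ∑ᶠ a ∈ {a : L | (a : G) ∈ A}, ‖ψ a‖ ^ 2 ≤ (Nat.card G : ℝ)⁻¹ * ∑ᶠ g ∈ {g : G | ∃ a ∈ A, ∃ u ∈ H a, ∃ x : G, x * g * x⁻¹ = a * u}, ‖χ g‖ ^ 2 := by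
  classical
  obtain ⟨T, hT⟩ : ∃ T : Set G,
      T = {g : G | ∃ a ∈ A, ∃ u ∈ H a, ∃ x : G, x * g * x⁻¹ = a * u} := ⟨_, rfl⟩
  rw [← hT]
  obtain ⟨α, hαdef⟩ : ∃ α : L → ℂ, α = fun a : L => if (a : G) ∈ A then (1 : ℂ) else 0 := ⟨_, rfl⟩
  obtain ⟨χ', hχ'def⟩ : ∃ χ' : G → ℂ, χ' = fun g => ((‖χ g‖ ^ 2 : ℝ) : ℂ) := ⟨_, rfl⟩
  obtain ⟨r, hrdef⟩ : ∃ r : L → ℝ, r = fun a : L => (Nat.card (H (a : G)) : ℝ)⁻¹ *
      ∑ u ∈ (Set.toFinite (H (a : G) : Set G)).toFinset, ‖χ (a * u)‖ ^ 2 := ⟨_, rfl⟩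
  obtain ⟨ψ', hψ'def⟩ : ∃ ψ' : L → ℂ, ψ' = fun a => ((r a : ℝ) : ℂ) := ⟨_, rfl⟩
  have hα : IsClassFunction L α := by
    intro g h
    rw [hαdef]
    beta_reduce
    have hiff : ((h * g * h⁻¹ : L) : G) ∈ A ↔ (g : G) ∈ A := by
      constructor
      · intro hm
        have := hD.conj_mem ((h⁻¹ : L) : G) (h⁻¹).2 _ hm
        have e : ((h⁻¹ : L) : G) * ((h * g * h⁻¹ : L) : G) * ((h⁻¹ : L) : G)⁻¹ = g := by
          push_cast; group
        rwa [e] at this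
      · intro hm
        exact hD.conj_mem h h.2 g hm
    by_cases hg : (g : G) ∈ A
    · rw [if_pos hg, if_pos (hiff.mpr hg)]
    · rw [if_neg hg, if_neg (fun h' => hg (hiff.mp h'))]
  have hαA : ∀ x : L, (x : G) ∉ A → α x = 0 := by
    intro x hx; rw [hαdef]; exact if_neg hx
  have hχ' : IsClassFunction G χ' := by
    intro g h; rw [hχ'def]; beta_reduce; rw [hχ g h]
  have hψ' : ∀ a : L, (a : G) ∈ A →
      ψ' a = (Nat.card (H a) : ℂ)⁻¹ * ∑ᶠ u ∈ (H a : Set G), χ' (a * u) := by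
    intro a _
    rw [hψ'def, hrdef, hχ'def]
    beta_reduce
    rw [finsum_mem_eq_finite_toFinset_sum _ (Set.toFinite _)]
    push_cast
    rfl
  have key := dade_inner hD α hα hαA χ' hχ' ψ' hψ'
  have hτ : ∀ g, dadeIsometry A L H α g = if g ∈ T then 1 else 0 := by
    intro g
    by_cases hg : g ∈ T
    · rw [if_pos hg]
      rw [hT] at hg
      obtain ⟨a, haA, u, hu, x, hx⟩ := hg
      rw [dadeIsometry_eq hD α hα ⟨a, hD.subset haA⟩ haA hu hx, hαdef]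
      exact if_pos haA
    · rw [if_neg hg]
      unfold dadeIsometry
      rw [dif_neg]
      rintro ⟨a, haA, x, u, hu, hx⟩
      apply hg; rw [hT]
      exact ⟨a, haA, u, hu, x, hx⟩
  have hLHS : classInner (dadeIsometry A L H α) χ'
      = (((Nat.card G : ℝ)⁻¹ * ∑ g, (if g ∈ T then ‖χ g‖ ^ 2 else 0) : ℝ) : ℂ) := by
    unfold classInner
    rw [Complex.ofReal_mul, Complex.ofReal_inv, Complex.ofReal_natCast, Complex.ofReal_sum]
    congr 1
    apply Finset.sum_congr rfl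
    intro g _
    rw [hτ g, hχ'def]
    beta_reduce
    rw [Complex.conj_ofReal]
    by_cases hg : g ∈ T
    · rw [if_pos hg, if_pos hg, one_mul]
    · rw [if_neg hg, if_neg hg, zero_mul, Complex.ofReal_zero]
  have hRHS : classInner α ψ'
      = (((Nat.card L : ℝ)⁻¹ * ∑ a : L, (if (a : G) ∈ A then r a else 0) : ℝ) : ℂ) := by
    unfold classInner
    rw [Complex.ofReal_mul, Complex.ofReal_inv, Complex.ofReal_natCast, Complex.ofReal_sum]
    congr 1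
    apply Finset.sum_congr rfl
    intro a _
    rw [hαdef, hψ'def]
    beta_reduce
    rw [Complex.conj_ofReal]
    by_cases ha : (a : G) ∈ A
    · rw [if_pos ha, if_pos ha, one_mul]
    · rw [if_neg ha, if_neg ha, zero_mul, Complex.ofReal_zero]
  have hreal : (Nat.card G : ℝ)⁻¹ * ∑ g, (if g ∈ T then ‖χ g‖ ^ 2 else 0)
      = (Nat.card L : ℝ)⁻¹ * ∑ a : L, (if (a : G) ∈ A then r a else 0) := by
    apply Complex.ofReal_injective
    rw [← hLHS, ← hRHS, key]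
  have hineq : ∀ a : L, (a : G) ∈ A → ‖ψ a‖ ^ 2 ≤ r a := by
    intro a haA
    rw [hψ a haA, hrdef, finsum_mem_eq_finite_toFinset_sum _ (Set.toFinite _)]
    beta_reduce
    obtain ⟨F, hF⟩ : ∃ F : Finset G, F = (Set.toFinite (H (a : G) : Set G)).toFinset := ⟨_, rfl⟩
    rw [← hF]
    have hcard : (F.card : ℝ) = (Nat.card (H (a : G)) : ℝ) := by
      rw [hF, ← Set.ncard_eq_toFinset_card _ (Set.toFinite _)]
      congr 1
    have hc : (0 : ℝ) < (Nat.card (H (a : G)) : ℝ) := by exact_mod_cast Nat.card_pos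
    rw [norm_mul, norm_inv, Complex.norm_natCast, mul_pow]
    have h1 : ‖∑ u ∈ F, χ (a * u)‖ ≤ ∑ u ∈ F, ‖χ (a * u)‖ := norm_sum_le _ _
    have h2 : (∑ u ∈ F, ‖χ (a * u)‖) ^ 2 ≤ F.card * ∑ u ∈ F, ‖χ (a * u)‖ ^ 2 :=
      sq_sum_le_card_mul_sum_sq
    have h3 : ‖∑ u ∈ F, χ (a * u)‖ ^ 2
        ≤ (Nat.card (H (a : G)) : ℝ) * ∑ u ∈ F, ‖χ (a * u)‖ ^ 2 := by
      rw [← hcard]
      exact le_trans (pow_le_pow_left₀ (norm_nonneg _) h1 2) h2
    calc ((Nat.card (H (a : G)) : ℝ))⁻¹ ^ 2 * ‖∑ u ∈ F, χ (a * u)‖ ^ 2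
        ≤ ((Nat.card (H (a : G)) : ℝ))⁻¹ ^ 2 *
            ((Nat.card (H (a : G)) : ℝ) * ∑ u ∈ F, ‖χ (a * u)‖ ^ 2) :=
          mul_le_mul_of_nonneg_left h3 (by positivity)
      _ = _ := by field_simp
  rw [finsum_mem_eq_sum_ite', finsum_mem_eq_sum_ite', hreal]
  apply mul_le_mul_of_nonneg_left _ (by positivity)
  apply Finset.sum_le_sum
  intro a _
  simp only [Set.mem_setOf_eq]
  by_cases ha : (a : G) ∈ A
  · rw [if_pos ha, if_pos ha]
    exact hineq a ha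
  · rw [if_neg ha, if_neg ha]

end Cfsg.Agent.S1525
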