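import Mathlib
import Cfsg.Statements.S1527

set_option autoImplicit false
open Cfsg

namespace Cfsg.Agent.S1527

variable {G : Type*} [Group G]

/-- number of non-identity elements of a finite group -/
lemma card_ne_one (H : Type*) [Group H] [Finite H] : Nat.card {x : H // x ≠ 1} = Nat.card H - 1 := by
  classical
  have := Fintype.ofFinite H
  rw [Nat.card_eq_fintype_card, Nat.card_eq_fintype_card, Fintype.card_subtype_compl]
  simp

/-- the non-identity elements conjugate into `H` -/
def U (H : Subgroup G) : Set G := {y | y ≠ 1 ∧ ∃ a : G, ∃ x ∈ H, a * x * a⁻¹ = y}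

lemma card_U [Finite G] (H : Subgroup G) (hTI : Cfsg.IsTISubset (H : Set G)) :
    Nat.card (U H) = (Subgroup.normalizer (H : Set G)).index * (Nat.card H - 1) := by
  classical
  set N := Subgroup.normalizer (H : Set G) with hN
  -- sections
  have hsec : ∀ y : U H, ∃ p : G × G, p.2 ∈ H ∧ p.1 * p.2 * p.1⁻¹ = y.1 := by
    rintro ⟨y, -, a, x, hx, h⟩
    exact ⟨(a, x), hx, h⟩
  choose sec hsec1 hsec2 using hsec
  have hx_ne : ∀ y : U H, (sec y).2 ≠ 1 := by
    intro y h
    have := hsec2 y
    rw [h] at this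
    apply y.2.1
    rw [← this]; group
  let F : (U H) × N → G × {x : H // x ≠ 1} := fun p =>
    ((sec p.1).1 * p.2.1,
      ⟨⟨p.2.1⁻¹ * (sec p.1).2 * p.2.1, by
        have := (Subgroup.mem_set_normalizer_iff''.mp p.2.2 (sec p.1).2).mp (hsec1 p.1)
        exact this⟩, by
        intro h
        have h' : p.2.1⁻¹ * (sec p.1).2 * p.2.1 = 1 := congrArg Subtype.val h
        apply hx_ne p.1
        calc (sec p.1).2 = p.2.1 * (p.2.1⁻¹ * (sec p.1).2 * p.2.1) * p.2.1⁻¹ := by group
          _ = 1 := by rw [h']; group⟩)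
  have hFval : ∀ p : (U H) × N, (F p).1 * ((F p).2.1 : G) * (F p).1⁻¹ = p.1.1 := by
    intro p
    show (sec p.1).1 * p.2.1 * (p.2.1⁻¹ * (sec p.1).2 * p.2.1) * ((sec p.1).1 * p.2.1)⁻¹ = p.1.1
    rw [← hsec2 p.1]; group
  have hF : Function.Bijective F := by
    constructor
    · intro p q hpq
      have h1 : p.1 = q.1 := by
        apply Subtype.ext
        rw [← hFval p, ← hFval q, hpq]
      have h2 : (sec p.1).1 * p.2.1 = (sec q.1).1 * q.2.1 := congrArg Prod.fst hpq
      rw [h1] at h2
      have h3 : p.2 = q.2 := Subtype.ext (mul_left_cancel h2)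
      exact Prod.ext h1 h3
    · rintro ⟨a, ⟨⟨x, hxH⟩, hx1⟩⟩
      have hx1' : x ≠ 1 := fun h => hx1 (Subtype.ext h)
      have hyU : a * x * a⁻¹ ∈ U H := by
        refine ⟨?_, a, x, hxH, rfl⟩
        intro h
        apply hx1'
        calc x = a⁻¹ * (a * x * a⁻¹) * a := by group
          _ = 1 := by rw [h]; group
      set y : U H := ⟨a * x * a⁻¹, hyU⟩ with hy
      have hy2 := hsec2 y
      -- n = (sec y).1⁻¹ * a ∈ N
      have hconj : ((sec y).1⁻¹ * a) * x * ((sec y).1⁻¹ * a)⁻¹ = (sec y).2 := by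
        have : a * x * a⁻¹ = (sec y).1 * (sec y).2 * (sec y).1⁻¹ := hy2.symm
        calc ((sec y).1⁻¹ * a) * x * ((sec y).1⁻¹ * a)⁻¹ = (sec y).1⁻¹ * (a * x * a⁻¹) * (sec y).1 := by group
          _ = (sec y).1⁻¹ * ((sec y).1 * (sec y).2 * (sec y).1⁻¹) * (sec y).1 := by rw [this]
          _ = (sec y).2 := by group
      have hnN : (sec y).1⁻¹ * a ∈ N := by
        by_contra hn
        have := hTI _ hn x hxH (by rw [hconj]; exact hsec1 y)
        exact hx1' this
      refine ⟨(y, ⟨(sec y).1⁻¹ * a, hnN⟩), ?_⟩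
      apply Prod.ext
      · show (sec y).1 * ((sec y).1⁻¹ * a) = a
        group
      · apply Subtype.ext
        apply Subtype.ext
        show ((sec y).1⁻¹ * a)⁻¹ * (sec y).2 * ((sec y).1⁻¹ * a) = x
        rw [← hconj]; group
  have hcard := Nat.card_congr (Equiv.ofBijective F hF)
  rw [Nat.card_prod, Nat.card_prod, card_ne_one] at hcard
  have hidx : N.index * Nat.card N = Nat.card G := Subgroup.index_mul_card N
  have hNpos : 0 < Nat.card N := Nat.card_pos
  have : Nat.card (U H) * Nat.card N = (N.index * (Nat.card H - 1)) * Nat.card N := by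
    rw [hcard, ← hidx]; ring
  exact Nat.eq_of_mul_eq_mul_right hNpos this

/-- Let G be a finite group and H i (i in a finite index type) subgroups of pairwise coprime orders, each of whose underlying sets is a TI-subset of G, such that every non-identity element of G is conjugate to an element of some H i. Then Nat.card G − 1 = Σ_i [G : N_G(H i)] · (Nat.card (H i) − 1). -/
theorem result {G : Type*} [Group G] [Finite G] {ι : Type*} [Fintype ι] (H : ι → Subgroup G) (hcop : ∀ i j, i ≠ j → Nat.Coprime (Nat.card (H i)) (Nat.card (H j))) (hTI : ∀ i, Cfsg.IsTISubset (H i : Set G)) (hcover : ∀ g : G, g ≠ 1 → ∃ i, ∃ x : G, x * g * x⁻¹ ∈ H i) : Nat.card G - 1 = ∑ i, (Subgroup.normalizer (H i : Set G)).index * (Nat.card (H i) - 1) := by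
  classical
  have hmemU : ∀ (g : G) (i : ι), g ≠ 1 → (∃ x : G, x * g * x⁻¹ ∈ H i) → g ∈ U (H i) := by
    rintro g i hg ⟨x, hx⟩
    exact ⟨hg, x⁻¹, x * g * x⁻¹, hx, by group⟩
  have huniq : ∀ (g : G) (i j : ι), g ∈ U (H i) → g ∈ U (H j) → i = j := by
    rintro g i j ⟨hg, a, x, hx, rfl⟩ ⟨-, b, y, hy, hxy⟩
    by_contra hij
    have h1 : orderOf x ∣ Nat.card (H i) := by
      have := orderOf_dvd_natCard (⟨x, hx⟩ : H i)
      rwa [Subgroup.orderOf_mk] at this
    have h2 : orderOf y ∣ Nat.card (H j) := by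
      have := orderOf_dvd_natCard (⟨y, hy⟩ : H j)
      rwa [Subgroup.orderOf_mk] at this
    have h3 : orderOf (a * x * a⁻¹) = orderOf x := by
      have := orderOf_injective (MulAut.conj a).toMonoidHom (MulAut.conj a).injective x
      simpa [MulAut.conj_apply] using this
    have h4 : orderOf (b * y * b⁻¹) = orderOf y := by
      have := orderOf_injective (MulAut.conj b).toMonoidHom (MulAut.conj b).injective y
      simpa [MulAut.conj_apply] using this
    rw [hxy, h3] at h4
    rw [← h4] at h2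
    have h5 : orderOf x ∣ Nat.gcd (Nat.card (H i)) (Nat.card (H j)) := Nat.dvd_gcd h1 h2
    rw [hcop i j hij] at h5
    have h6 : x = 1 := orderOf_eq_one_iff.mp (Nat.dvd_one.mp h5)
    apply hg
    rw [h6]; group
  have hidx : ∀ g : {g : G // g ≠ 1}, ∃ i, g.1 ∈ U (H i) := by
    rintro ⟨g, hg⟩
    obtain ⟨i, hi⟩ := hcover g hg
    exact ⟨i, hmemU g i hg hi⟩
  choose idx hidx' using hidx
  let E : {g : G // g ≠ 1} → Σ i, U (H i) := fun g => ⟨idx g, g.1, hidx' g⟩
  have hE : Function.Bijective E := by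
    constructor
    · intro g g' h
      have : g.1 = g'.1 := by
        have h1 := congrArg (fun s : Σ i, U (H i) => (s.2 : G)) h
        exact h1
      exact Subtype.ext this
    · rintro ⟨i, y, hy⟩
      refine ⟨⟨y, hy.1⟩, ?_⟩
      have hi : idx ⟨y, hy.1⟩ = i := huniq y _ _ (hidx' ⟨y, hy.1⟩) hy
      exact Sigma.subtype_ext hi rfl
  rw [← card_ne_one G, Nat.card_congr (Equiv.ofBijective E hE), Nat.card_sigma]
  apply Finset.sum_congr rfl
  intro i _
  exact card_U (H i) (hTI i)

end Cfsg.Agent.S1527
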