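import Cfsg.Statements.S1529
import Cfsg.Agent.Lib.Helper8.CharSigned
import Cfsg.Agent.Lib.Helper8.CharDegree

set_option autoImplicit false
open Cfsg

namespace Cfsg.Agent.S1529

open Cfsg.Agent.Lib.Helper8

/-- Let N be a subgroup of the finite group G, S a set of irreducible characters of N with at least two members, and τ₁ a linear isometry on the integer combinations of S with virtual-character values such that τ₁ α vanishes at 1 whenever α ∈ ℤ[S] does. Then there is ε ∈ {1, −1} such that ε • τ₁ χ is an irreducible character of G for every χ ∈ S, and distinct members of S give distinct characters. -/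
theorem result {G : Type*} [Group G] [Fintype G] (N : Subgroup G) [Fintype N] (S : Set (N → ℂ)) (hirr : ∀ χ ∈ S, Cfsg.IsIrrCharacter N χ) (htwo : ∃ χ ∈ S, ∃ ψ ∈ S, χ ≠ ψ) (τ₁ : (N → ℂ) → (G → ℂ)) (hτ₁ : Cfsg.IsLinearIsometryOn (Cfsg.zspan S) τ₁) (h0 : ∀ α ∈ Cfsg.zspan S, α 1 = 0 → τ₁ α 1 = 0) : ∃ ε : ℂ, (ε = 1 ∨ ε = -1) ∧ (∀ χ ∈ S, Cfsg.IsIrrCharacter G (ε • τ₁ χ)) ∧ (∀ χ ∈ S, ∀ ψ ∈ S, τ₁ χ = τ₁ ψ → χ = ψ) := by
  classical
  obtain ⟨hadd, hsmul, hiso, hgen⟩ := hτ₁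
  have hmem : ∀ χ ∈ S, χ ∈ Cfsg.zspan S := fun χ hχ => Submodule.subset_span hχ
  have hsm : ∀ χ ∈ S, ∀ n : ℤ, n • χ ∈ Cfsg.zspan S := fun χ hχ n =>
    Submodule.smul_mem _ n (Submodule.subset_span hχ)
  have hstruct : ∀ χ ∈ S, ∃ (e : ℂ) (a : IrrCharacter G), (e = 1 ∨ e = -1) ∧ τ₁ χ = e • a.1 := by
    intro χ hχ
    have hn : Cfsg.classInner (τ₁ χ) (τ₁ χ) = 1 := by
      rw [hiso χ (hmem χ hχ) χ (hmem χ hχ), irr_classInner (hirr χ hχ) (hirr χ hχ), if_pos rfl]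
    obtain ⟨a, ha | ha⟩ := norm_one_structure (hgen χ (hmem χ hχ)) hn
    · exact ⟨1, a, Or.inl rfl, by rw [ha, one_smul]⟩
    · exact ⟨-1, a, Or.inr rfl, by rw [ha, neg_smul, one_smul]⟩
  have hsign : ∀ χ ∈ S, ∀ ψ ∈ S, ∀ (e f : ℂ) (a b : IrrCharacter G), (e = 1 ∨ e = -1) →
      (f = 1 ∨ f = -1) → τ₁ χ = e • a.1 → τ₁ ψ = f • b.1 → e = f := by
    intro χ hχ ψ hψ e f a b he hf hea hfb
    set dχ := charDegree χ with hdχ
    set dψ := charDegree ψ with hdψ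
    have h1χ : χ 1 = (dχ : ℂ) := irr_one_eq_charDegree ⟨χ, hirr χ hχ⟩
    have h1ψ : ψ 1 = (dψ : ℂ) := irr_one_eq_charDegree ⟨ψ, hirr ψ hψ⟩
    have hposχ : 0 < dχ := charDegree_pos ⟨χ, hirr χ hχ⟩
    have hposψ : 0 < dψ := charDegree_pos ⟨ψ, hirr ψ hψ⟩
    have hposa : 0 < charDegree a.1 := charDegree_pos a
    have hposb : 0 < charDegree b.1 := charDegree_pos b
    have h1a : a.1 1 = (charDegree a.1 : ℂ) := irr_one_eq_charDegree a
    have h1b : b.1 1 = (charDegree b.1 : ℂ) := irr_one_eq_charDegree b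
    have hα0 : ((dψ : ℤ) • χ + (-(dχ : ℤ)) • ψ) 1 = 0 := by
      show (dψ : ℤ) • χ 1 + (-(dχ : ℤ)) • ψ 1 = 0
      rw [zsmul_eq_mul, zsmul_eq_mul, h1χ, h1ψ]
      push_cast
      ring
    have hαmem : ((dψ : ℤ) • χ + (-(dχ : ℤ)) • ψ) ∈ Cfsg.zspan S :=
      Submodule.add_mem _ (hsm χ hχ _) (hsm ψ hψ _)
    have h3 := h0 _ hαmem hα0
    rw [hadd _ (hsm χ hχ _) _ (hsm ψ hψ _), hsmul χ (hmem χ hχ), hsmul ψ (hmem ψ hψ), hea, hfb]
      at h3
    have h3' : (dψ : ℤ) • (e • a.1 1) + (-(dχ : ℤ)) • (f • b.1 1) = 0 := h3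
    rw [zsmul_eq_mul, zsmul_eq_mul, smul_eq_mul, smul_eq_mul, h1a, h1b] at h3'
    push_cast at h3'
    clear h3
    have h3 := h3'
    rcases he with rfl | rfl <;> rcases hf with rfl | rfl
    · rfl
    · exfalso
      have h4 : ((dψ * charDegree a.1 + dχ * charDegree b.1 : ℕ) : ℂ) = 0 := by
        push_cast; linear_combination h3
      have h5 : dψ * charDegree a.1 + dχ * charDegree b.1 = 0 := by exact_mod_cast h4
      have := Nat.mul_pos hposψ hposa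
      omega
    · exfalso
      have h4 : ((dψ * charDegree a.1 + dχ * charDegree b.1 : ℕ) : ℂ) = 0 := by
        push_cast; linear_combination -h3
      have h5 : dψ * charDegree a.1 + dχ * charDegree b.1 = 0 := by exact_mod_cast h4
      have := Nat.mul_pos hposψ hposa
      omega
    · rfl
  obtain ⟨χ₀, hχ₀, -, -, -⟩ := htwo
  obtain ⟨ε, a₀, hε, hε₀⟩ := hstruct χ₀ hχ₀
  refine ⟨ε, hε, ?_, ?_⟩
  · intro χ hχ
    obtain ⟨e, a, he, hea⟩ := hstruct χ hχ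
    have := hsign χ hχ χ₀ hχ₀ e ε a a₀ he hε hea hε₀
    subst this
    rw [hea, smul_smul]
    have : e * e = 1 := by rcases he with rfl | rfl <;> norm_num
    rw [this, one_smul]
    exact a.2
  · intro χ hχ ψ hψ heq
    by_contra hne
    have h1 : Cfsg.classInner (τ₁ χ) (τ₁ χ) = 1 := by
      rw [hiso χ (hmem χ hχ) χ (hmem χ hχ), irr_classInner (hirr χ hχ) (hirr χ hχ), if_pos rfl]
    have h2 : Cfsg.classInner (τ₁ χ) (τ₁ ψ) = 0 := by
      rw [hiso χ (hmem χ hχ) ψ (hmem ψ hψ), irr_classInner (hirr χ hχ) (hirr ψ hψ), if_neg hne]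
    rw [← heq, h1] at h2
    exact one_ne_zero h2

end Cfsg.Agent.S1529
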