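import Cfsg.Statements.S1530
import Cfsg.Agent.Lib.Helper8.Coherence2
import Cfsg.Agent.Lib.Helper8.CharAvg

set_option autoImplicit false
open Cfsg

namespace Cfsg.Agent.S1530

open Cfsg.Agent.Lib.Helper8
theorem zsmul_fun_apply {X : Type*} (n : ℤ) (f : X → ℂ) (x : X) : (n • f) x = (n : ℂ) * f x := by simp

/-- Let N be a subgroup of the finite group G and S₀ a finite set of irreducible characters of N, χ an irreducible character of N not in S₀, with degrees ξ 1 = d ξ. Let τ be a linear isometry on the integer combinations of S₀ ∪ {χ} vanishing at 1, with values virtual characters of G vanishing at 1, such that (S₀, N minus 1, τ) is coherent. If some ψ ∈ S₀ has d ψ dividing d χ and 2 · d ψ · d χ < Σ_{ξ ∈ S₀} (d ξ)², then (S₀ ∪ {χ}, N minus 1, τ) is coherent. -/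
theorem result {G : Type*} [Group G] [Fintype G] (N : Subgroup G) [Fintype N] (S₀ : Finset (N → ℂ)) (χ : N → ℂ) (hirr : ∀ ξ ∈ S₀, Cfsg.IsIrrCharacter N ξ) (hχ : Cfsg.IsIrrCharacter N χ) (hχS : χ ∉ S₀) (d : (N → ℂ) → ℕ) (hd : ∀ ξ ∈ insert χ S₀, ξ 1 = (d ξ : ℂ)) (τ : (N → ℂ) → (G → ℂ)) (hτ : Cfsg.IsLinearIsometryOn (Cfsg.zspanOn (↑(insert χ S₀) : Set (N → ℂ)) {1}ᶜ) τ) (hτ1 : ∀ α ∈ Cfsg.zspanOn (↑(insert χ S₀) : Set (N → ℂ)) {1}ᶜ, τ α 1 = 0) (hcoh : Cfsg.IsCoherent (↑S₀ : Set (N → ℂ)) {1}ᶜ τ) (ψ : N → ℂ) (hψ : ψ ∈ S₀) (hdvd : d ψ ∣ d χ) (hlt : 2 * d ψ * d χ < ∑ ξ ∈ S₀, d ξ ^ 2) : Cfsg.IsCoherent (↑(insert χ S₀) : Set (N → ℂ)) {1}ᶜ τ := by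
  classical
  obtain ⟨_, τ₀, hτ₀, hτ₀τ⟩ := hcoh
  have hτ' := hτ
  obtain ⟨hadd, hsmul, hiso, hgen⟩ := hτ
  have hτ₀' := hτ₀
  obtain ⟨hadd₀, hsmul₀, hiso₀, hgen₀⟩ := hτ₀
  have hcoe : (↑(insert χ S₀) : Set (N → ℂ)) = insert χ (↑S₀ : Set (N → ℂ)) := Finset.coe_insert χ S₀
  have hsub : (↑S₀ : Set (N → ℂ)) ⊆ ↑(insert χ S₀) := by rw [hcoe]; exact Set.subset_insert _ _
  have hspan_sub : ∀ z, z ∈ zspan (↑S₀ : Set (N → ℂ)) → z ∈ zspan (↑(insert χ S₀) : Set (N → ℂ)) :=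
    fun z hz => Submodule.span_mono hsub hz
  have hχmem : χ ∈ zspan (↑(insert χ S₀) : Set (N → ℂ)) :=
    Submodule.subset_span (by rw [hcoe]; exact Set.mem_insert _ _)
  have hmem₀ : ∀ ξ ∈ S₀, ξ ∈ zspan (↑S₀ : Set (N → ℂ)) :=
    fun ξ hξ => Submodule.subset_span (Finset.mem_coe.mpr hξ)
  have hon_sub : ∀ z, z ∈ zspanOn (↑S₀ : Set (N → ℂ)) {1}ᶜ →
      z ∈ zspanOn (↑(insert χ S₀) : Set (N → ℂ)) {1}ᶜ := fun z hz => ⟨hspan_sub z hz.1, hz.2⟩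
  have horth : ∀ ξ ∈ S₀, ∀ ξ' ∈ S₀, classInner ξ ξ' = if ξ = ξ' then 1 else 0 :=
    fun ξ hξ ξ' hξ' => irr_classInner (hirr ξ hξ) (hirr ξ' hξ')
  have hχξ : ∀ ξ ∈ S₀, classInner χ ξ = 0 := by
    intro ξ hξ
    rw [irr_classInner hχ (hirr ξ hξ), if_neg]
    rintro rfl; exact hχS hξ
  have hξχ : ∀ ξ ∈ (↑S₀ : Set (N → ℂ)), classInner ξ χ = 0 := by
    intro ξ hξ
    rw [irr_classInner (hirr ξ (Finset.mem_coe.mp hξ)) hχ, if_neg]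
    rintro rfl; exact hχS (Finset.mem_coe.mp hξ)
  have hχχ : classInner χ χ = 1 := by rw [irr_classInner hχ hχ, if_pos rfl]
  have hdψ : ψ 1 = (d ψ : ℂ) := hd ψ (Finset.mem_insert_of_mem hψ)
  have hdχ : χ 1 = (d χ : ℂ) := hd χ (Finset.mem_insert_self _ _)
  have hdξ : ∀ ξ ∈ S₀, ξ 1 = (d ξ : ℂ) := fun ξ hξ => hd ξ (Finset.mem_insert_of_mem hξ)
  have hdψpos : 0 < d ψ := by
    have h1 : ψ 1 ≠ 0 := irr_one_ne_zero ⟨ψ, hirr ψ hψ⟩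
    rw [hdψ] at h1
    exact Nat.pos_of_ne_zero (fun h => h1 (by rw [h]; simp))
  have hdχpos : 0 < d χ := by
    have h1 : χ 1 ≠ 0 := irr_one_ne_zero ⟨χ, hχ⟩
    rw [hdχ] at h1
    exact Nat.pos_of_ne_zero (fun h => h1 (by rw [h]; simp))
  obtain ⟨a, ha⟩ := hdvd
  have hapos : 0 < a := by
    rcases Nat.eq_zero_or_pos a with h | h
    · rw [h, mul_zero] at ha; omega
    · exact h
  -- β
  have hβmem : χ - (a : ℤ) • ψ ∈ zspanOn (↑(insert χ S₀) : Set (N → ℂ)) {1}ᶜ := by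
    refine ⟨Submodule.sub_mem _ hχmem (Submodule.smul_mem _ _ (hspan_sub ψ (hmem₀ ψ hψ))), ?_⟩
    intro x hx
    have hx1 : x = 1 := by simpa using hx
    rw [hx1]
    simp only [Pi.sub_apply, zsmul_fun_apply, hdχ, hdψ, ha]
    push_cast; ring
  -- γ ξ
  have hγmem : ∀ ξ ∈ S₀, (d ψ : ℤ) • ξ - (d ξ : ℤ) • ψ ∈ zspanOn (↑S₀ : Set (N → ℂ)) {1}ᶜ := by
    intro ξ hξ
    refine ⟨Submodule.sub_mem _ (Submodule.smul_mem _ _ (hmem₀ ξ hξ))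
      (Submodule.smul_mem _ _ (hmem₀ ψ hψ)), ?_⟩
    intro x hx
    have hx1 : x = 1 := by simpa using hx
    rw [hx1]
    simp only [Pi.sub_apply, zsmul_fun_apply, hdξ ξ hξ, hdψ]
    push_cast; ring
  have hτ₀γ : ∀ ξ ∈ S₀, τ₀ ((d ψ : ℤ) • ξ - (d ξ : ℤ) • ψ) =
      (d ψ : ℤ) • τ₀ ξ - (d ξ : ℤ) • τ₀ ψ := by
    intro ξ hξ
    rw [iso_sub hτ₀' (Submodule.smul_mem _ _ (hmem₀ ξ hξ)) (Submodule.smul_mem _ _ (hmem₀ ψ hψ)),
      hsmul₀ ξ (hmem₀ ξ hξ), hsmul₀ ψ (hmem₀ ψ hψ)]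
  have hτβgen := hgen _ hβmem
  -- coefficients
  have hc : ∀ ξ, ∃ m : ℤ, ξ ∈ S₀ → classInner (τ (χ - (a : ℤ) • ψ)) (τ₀ ξ) = m := by
    intro ξ
    by_cases hξ : ξ ∈ S₀
    · obtain ⟨m, hm⟩ := classInner_genchar_int hτβgen (hgen₀ ξ (hmem₀ ξ hξ))
      exact ⟨m, fun _ => hm⟩
    · exact ⟨0, fun h => absurd h hξ⟩
  choose c hc using hc
  have hE2 : ∀ ξ ∈ S₀, ξ ≠ ψ → (d ψ : ℤ) * c ξ - (d ξ : ℤ) * c ψ = (a : ℤ) * (d ξ : ℤ) := by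
    intro ξ hξ hne
    have e := hiso _ hβmem _ (hon_sub _ (hγmem ξ hξ))
    rw [← hτ₀τ _ (hγmem ξ hξ), hτ₀γ ξ hξ] at e
    rw [classInner_sub_right'', classInner_zsmul_right, classInner_zsmul_right, hc ξ hξ, hc ψ hψ,
      classInner_sub_left'', classInner_sub_right'', classInner_sub_right'',
      classInner_zsmul_right, classInner_zsmul_right, classInner_zsmul_left,
      classInner_zsmul_left, classInner_zsmul_right, classInner_zsmul_right,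
      hχξ ξ hξ, hχξ ψ hψ, horth ψ hψ ξ hξ, horth ψ hψ ψ hψ, if_pos rfl, if_neg (Ne.symm hne)] at e
    have e' : (((d ψ : ℤ) * c ξ - (d ξ : ℤ) * c ψ : ℤ) : ℂ) = (((a : ℤ) * (d ξ : ℤ) : ℤ) : ℂ) := by
      push_cast
      push_cast at e
      linear_combination e
    exact_mod_cast e'
  -- Γ
  have hΓgen : IsGeneralizedCharacter G (τ (χ - (a : ℤ) • ψ) - ∑ ξ ∈ S₀, c ξ • τ₀ ξ) :=
    genchar_sub hτβgen (genchar_sum _ _ (fun ξ hξ => genchar_zsmul (hgen₀ ξ (hmem₀ ξ hξ)) _))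
  have hsum_orth : ∀ ξ' ∈ S₀, classInner (∑ ξ ∈ S₀, c ξ • τ₀ ξ) (τ₀ ξ') = (c ξ' : ℂ) := by
    intro ξ' hξ'
    rw [classInner_finset_sum_left, Finset.sum_eq_single ξ']
    · rw [classInner_zsmul_left, hiso₀ ξ' (hmem₀ ξ' hξ') ξ' (hmem₀ ξ' hξ'), horth ξ' hξ' ξ' hξ',
        if_pos rfl, mul_one]
    · intro ξ hξ hne
      rw [classInner_zsmul_left, hiso₀ ξ (hmem₀ ξ hξ) ξ' (hmem₀ ξ' hξ'), horth ξ hξ ξ' hξ',
        if_neg hne, mul_zero]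
    · intro h; exact absurd hξ' h
  have hΓorth : ∀ ξ' ∈ (↑S₀ : Set (N → ℂ)),
      classInner (τ (χ - (a : ℤ) • ψ) - ∑ ξ ∈ S₀, c ξ • τ₀ ξ) (τ₀ ξ') = 0 := by
    intro ξ' hξ'
    have hξ'' := Finset.mem_coe.mp hξ'
    rw [classInner_sub_left'', hc ξ' hξ'', hsum_orth ξ' hξ'', sub_self]
  have hββ : classInner (χ - (a : ℤ) • ψ) (χ - (a : ℤ) • ψ) = 1 + (a : ℂ) ^ 2 := by
    rw [classInner_sub_left'', classInner_sub_right'', classInner_sub_right'',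
      classInner_zsmul_right, classInner_zsmul_left, classInner_zsmul_left, classInner_zsmul_right,
      hχχ, hχξ ψ hψ, hξχ ψ (Finset.mem_coe.mpr hψ), horth ψ hψ ψ hψ, if_pos rfl]
    push_cast; ring
  have hΓnorm : classInner (τ (χ - (a : ℤ) • ψ) - ∑ ξ ∈ S₀, c ξ • τ₀ ξ)
      (τ (χ - (a : ℤ) • ψ) - ∑ ξ ∈ S₀, c ξ • τ₀ ξ) = 1 + (a : ℂ) ^ 2 - ∑ ξ ∈ S₀, (c ξ : ℂ) ^ 2 := by
    have h1 : classInner (τ (χ - (a : ℤ) • ψ) - ∑ ξ ∈ S₀, c ξ • τ₀ ξ) (∑ ξ ∈ S₀, c ξ • τ₀ ξ) = 0 := by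
      rw [classInner_finset_sum_right]
      apply Finset.sum_eq_zero
      intro ξ hξ
      rw [classInner_zsmul_right, hΓorth ξ (Finset.mem_coe.mpr hξ), mul_zero]
    rw [classInner_sub_right'', h1, sub_zero, classInner_sub_left'',
      hiso _ hβmem _ hβmem, hββ, classInner_finset_sum_left]
    congr 1
    apply Finset.sum_congr rfl
    intro ξ hξ
    rw [classInner_zsmul_left, classInner_conj_symm, hc ξ hξ, map_intCast]; ring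
  obtain ⟨g', hg'⟩ := classInner_genchar_int hΓgen hΓgen
  have hg'nn : 0 ≤ g' := by
    have := classInner_self_re_nonneg (τ (χ - (a : ℤ) • ψ) - ∑ ξ ∈ S₀, c ξ • τ₀ ξ)
    rw [hg'] at this
    simp only [Complex.intCast_re] at this
    exact_mod_cast this
  have hE1 : g' + (c ψ) ^ 2 + ∑ ξ ∈ S₀.erase ψ, (c ξ) ^ 2 = 1 + (a : ℤ) ^ 2 := by
    have h1 : ((g' + ∑ ξ ∈ S₀, (c ξ) ^ 2 : ℤ) : ℂ) = ((1 + (a : ℤ) ^ 2 : ℤ) : ℂ) := by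
      push_cast
      rw [← hg', hΓnorm]; ring
    have h2 : g' + ∑ ξ ∈ S₀, (c ξ) ^ 2 = 1 + (a : ℤ) ^ 2 := by exact_mod_cast h1
    rw [← Finset.add_sum_erase S₀ (fun ξ => (c ξ) ^ 2) hψ] at h2
    linarith
  obtain ⟨t, ht⟩ : ∃ t : ℤ, t = c ψ + a := ⟨_, rfl⟩
  have hcψ : c ψ = t - a := by rw [ht]; ring
  have hE2' : ∀ ξ ∈ S₀.erase ψ, (d ψ : ℤ) * c ξ = (d ξ : ℤ) * t := by
    intro ξ hξ
    have := hE2 ξ (Finset.mem_of_mem_erase hξ) (Finset.ne_of_mem_erase hξ)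
    rw [ht]; linarith
  have hPQ : (d ψ : ℤ) ^ 2 * ∑ ξ ∈ S₀.erase ψ, (c ξ) ^ 2 =
      t ^ 2 * ∑ ξ ∈ S₀.erase ψ, (d ξ : ℤ) ^ 2 := by
    rw [Finset.mul_sum, Finset.mul_sum]
    apply Finset.sum_congr rfl
    intro ξ hξ
    have := hE2' ξ hξ
    calc (d ψ : ℤ) ^ 2 * (c ξ) ^ 2 = ((d ψ : ℤ) * c ξ) ^ 2 := by ring
      _ = ((d ξ : ℤ) * t) ^ 2 := by rw [this]
      _ = t ^ 2 * (d ξ : ℤ) ^ 2 := by ring
  obtain ⟨Q, hQ⟩ : ∃ Q : ℤ, Q = ∑ ξ ∈ S₀.erase ψ, (d ξ : ℤ) ^ 2 := ⟨_, rfl⟩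
  have hQnn : 0 ≤ Q := by rw [hQ]; exact Finset.sum_nonneg (fun ξ _ => sq_nonneg _)
  have hD : 2 * (a : ℤ) * (d ψ : ℤ) ^ 2 + 1 ≤ (d ψ : ℤ) ^ 2 + Q := by
    have h1 := hlt
    rw [ha, ← Finset.add_sum_erase S₀ (fun ξ => d ξ ^ 2) hψ] at h1
    have h2 : ((2 * d ψ * (d ψ * a) : ℕ) : ℤ) < ((d ψ ^ 2 + ∑ ξ ∈ S₀.erase ψ, d ξ ^ 2 : ℕ) : ℤ) := by
      exact_mod_cast h1
    push_cast at h2
    rw [← hQ] at h2
    nlinarith
  rw [← hQ] at hPQ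
  rw [hcψ] at hE1
  have hE3 : (d ψ : ℤ) ^ 2 * g' + (d ψ : ℤ) ^ 2 * (t - a) ^ 2 + t ^ 2 * Q =
      (d ψ : ℤ) ^ 2 * (1 + (a : ℤ) ^ 2) := by
    linear_combination (d ψ : ℤ) ^ 2 * hE1 - hPQ
  have hdψZ : (0 : ℤ) < (d ψ : ℤ) := by exact_mod_cast hdψpos
  have haZ : (0 : ℤ) < (a : ℤ) := by exact_mod_cast hapos
  have hdψ2 : (0 : ℤ) < (d ψ : ℤ) ^ 2 := by positivity
  -- g' ≠ 0
  have hg'ne : g' ≠ 0 := by
    intro hg0
    rw [hg0] at hg'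
    have hΓ0 := genchar_norm_zero hΓgen (by rw [hg']; simp)
    have hτβ : τ (χ - (a : ℤ) • ψ) = ∑ ξ ∈ S₀, c ξ • τ₀ ξ := sub_eq_zero.mp hΓ0
    have h1 := hτ1 _ hβmem
    rw [hτβ, Finset.sum_apply] at h1
    have hv : τ₀ ψ 1 ≠ 0 := genchar_norm_one_ne_zero (hgen₀ ψ (hmem₀ ψ hψ))
      (by rw [hiso₀ ψ (hmem₀ ψ hψ) ψ (hmem₀ ψ hψ), horth ψ hψ ψ hψ, if_pos rfl])
    have hdeg : ∀ ξ ∈ S₀, (d ψ : ℂ) * τ₀ ξ 1 = (d ξ : ℂ) * τ₀ ψ 1 := by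
      intro ξ hξ
      have h2 := hτ1 _ (hon_sub _ (hγmem ξ hξ))
      rw [← hτ₀τ _ (hγmem ξ hξ), hτ₀γ ξ hξ] at h2
      simp only [Pi.sub_apply, zsmul_fun_apply] at h2
      push_cast at h2
      linear_combination h2
    have h3 : (τ₀ ψ 1) * ((∑ ξ ∈ S₀, (d ψ : ℤ) * c ξ * (d ξ : ℤ) : ℤ) : ℂ) = 0 := by
      push_cast
      rw [Finset.mul_sum]
      have h4 : ∑ ξ ∈ S₀, τ₀ ψ 1 * ((d ψ : ℂ) * (c ξ : ℂ) * (d ξ : ℂ)) =
          (d ψ : ℂ) ^ 2 * ∑ ξ ∈ S₀, (c ξ • τ₀ ξ) 1 := by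
        rw [Finset.mul_sum]
        apply Finset.sum_congr rfl
        intro ξ hξ
        simp only [zsmul_fun_apply]
        have := hdeg ξ hξ
        linear_combination (-(d ψ : ℂ) * (c ξ : ℂ)) * this
      rw [h4, h1, mul_zero]
    have h5 : ∑ ξ ∈ S₀, (d ψ : ℤ) * c ξ * (d ξ : ℤ) = 0 := by
      rcases mul_eq_zero.mp h3 with h | h
      · exact absurd h hv
      · exact_mod_cast h
    rw [← Finset.add_sum_erase S₀ (fun ξ => (d ψ : ℤ) * c ξ * (d ξ : ℤ)) hψ] at h5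
    have h6 : ∑ ξ ∈ S₀.erase ψ, (d ψ : ℤ) * c ξ * (d ξ : ℤ) = t * Q := by
      rw [hQ, Finset.mul_sum]
      apply Finset.sum_congr rfl
      intro ξ hξ
      rw [hE2' ξ hξ]; ring
    rw [h6, hcψ] at h5
    -- t * (dψ² + Q) = a dψ²
    have h7 : t * ((d ψ : ℤ) ^ 2 + Q) = (a : ℤ) * (d ψ : ℤ) ^ 2 := by linear_combination h5
    rcases le_or_gt t 0 with htle | htgt
    · have : t * ((d ψ : ℤ) ^ 2 + Q) ≤ 0 :=
        mul_nonpos_of_nonpos_of_nonneg htle (by positivity)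
      nlinarith
    · have : 1 * ((d ψ : ℤ) ^ 2 + Q) ≤ t * ((d ψ : ℤ) ^ 2 + Q) :=
        mul_le_mul_of_nonneg_right (by omega) (by positivity)
      nlinarith
  have ht0 : t = 0 := by
    by_contra htne
    apply hg'ne
    have hkey : 1 ≤ t ^ 2 * ((d ψ : ℤ) ^ 2 + Q) - 2 * (a : ℤ) * t * (d ψ : ℤ) ^ 2 := by
      rcases lt_or_gt_of_ne htne with hneg | hpos
      · have ht1 : t ≤ -1 := by omega
        have h1 : 1 ≤ t ^ 2 := by nlinarith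
        have h2 : 0 ≤ -(2 * (a : ℤ) * t * (d ψ : ℤ) ^ 2) := by
          have : 0 ≤ (a : ℤ) * (-t) * (d ψ : ℤ) ^ 2 := by
            apply mul_nonneg (mul_nonneg haZ.le (by omega)) hdψ2.le
          linarith
        have h3 : 1 * ((d ψ : ℤ) ^ 2 + Q) ≤ t ^ 2 * ((d ψ : ℤ) ^ 2 + Q) :=
          mul_le_mul_of_nonneg_right h1 (by positivity)
        nlinarith
      · have ht1 : 1 ≤ t := by omega
        have h1 : 1 ≤ t * ((d ψ : ℤ) ^ 2 + Q) - 2 * (a : ℤ) * (d ψ : ℤ) ^ 2 := by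
          have : 1 * ((d ψ : ℤ) ^ 2 + Q) ≤ t * ((d ψ : ℤ) ^ 2 + Q) :=
            mul_le_mul_of_nonneg_right ht1 (by positivity)
          linarith
        have h2 : 0 ≤ (t - 1) * (t * ((d ψ : ℤ) ^ 2 + Q) - 2 * (a : ℤ) * (d ψ : ℤ) ^ 2 - 1) :=
          mul_nonneg (by omega) (by omega)
        nlinarith
    have h8 : (d ψ : ℤ) ^ 2 * g' ≤ (d ψ : ℤ) ^ 2 - 1 := by nlinarith
    have h9 : g' < 1 := by
      by_contra hcon
      push Not at hcon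
      have : (d ψ : ℤ) ^ 2 * 1 ≤ (d ψ : ℤ) ^ 2 * g' := mul_le_mul_of_nonneg_left hcon hdψ2.le
      linarith
    omega
  rw [ht0] at hE3 hE2' hcψ
  have hg1 : g' = 1 := by
    have : (d ψ : ℤ) ^ 2 * g' = (d ψ : ℤ) ^ 2 * 1 := by linear_combination hE3
    exact mul_left_cancel₀ hdψ2.ne' this
  have hcξ0 : ∀ ξ ∈ S₀.erase ψ, c ξ = 0 := by
    intro ξ hξ
    have := hE2' ξ hξ
    rw [mul_zero] at this
    rcases mul_eq_zero.mp this with h | h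
    · exact absurd h hdψZ.ne'
    · exact h
  have hΓeq : τ (χ - (a : ℤ) • ψ) - ∑ ξ ∈ S₀, c ξ • τ₀ ξ = τ (χ - (a : ℤ) • ψ) + (a : ℤ) • τ₀ ψ := by
    rw [← Finset.add_sum_erase S₀ (fun ξ => c ξ • τ₀ ξ) hψ, Finset.sum_eq_zero, add_zero, hcψ]
    · rw [zero_sub, neg_smul, sub_neg_eq_add]
    · intro ξ hξ
      rw [hcξ0 ξ hξ, zero_smul]
  obtain ⟨Γ, hΓdef⟩ : ∃ Γ : G → ℂ, Γ = τ (χ - (a : ℤ) • ψ) - ∑ ξ ∈ S₀, c ξ • τ₀ ξ := ⟨_, rfl⟩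
  rw [← hΓdef] at hΓgen hΓorth hΓeq hg'
  rw [hg1] at hg'
  have hΓΓ : classInner Γ Γ = 1 := by rw [hg']; simp
  have hΓz : ∀ z ∈ zspan (↑S₀ : Set (N → ℂ)), classInner Γ (τ₀ z) = 0 := iso_orth_span hτ₀' Γ hΓorth
  have hzΓ : ∀ z ∈ zspan (↑S₀ : Set (N → ℂ)), classInner (τ₀ z) Γ = 0 := by
    intro z hz
    rw [classInner_conj_symm, hΓz z hz, map_zero]
  have hzχ : ∀ z ∈ zspan (↑S₀ : Set (N → ℂ)), classInner z χ = 0 := orth_span χ hξχ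
  have hχz : ∀ z ∈ zspan (↑S₀ : Set (N → ℂ)), classInner χ z = 0 := by
    intro z hz
    rw [classInner_conj_symm, hzχ z hz, map_zero]
  -- the extension
  let τ₁ : (N → ℂ) → (G → ℂ) := fun θ => τ₀ (θ - classInner θ χ • χ) + classInner θ χ • Γ
  have hK : ∀ (m : ℤ) (z : N → ℂ), z ∈ zspan (↑S₀ : Set (N → ℂ)) → τ₁ (m • χ + z) = τ₀ z + m • Γ := by
    intro m z hz
    have hin : classInner (m • χ + z) χ = (m : ℂ) := by
      rw [classInner_add_left', classInner_zsmul_left, hχχ, hzχ z hz]; ring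
    show τ₀ (m • χ + z - classInner (m • χ + z) χ • χ) + classInner (m • χ + z) χ • Γ = _
    rw [hin, Int.cast_smul_eq_zsmul ℂ m χ, Int.cast_smul_eq_zsmul ℂ m Γ, add_sub_cancel_left]
  have hdecomp : ∀ θ ∈ zspan (↑(insert χ S₀) : Set (N → ℂ)), ∃ m : ℤ,
      ∃ z ∈ zspan (↑S₀ : Set (N → ℂ)), θ = m • χ + z := by
    intro θ hθ
    have hθ' : θ ∈ Submodule.span ℤ (insert χ (↑S₀ : Set (N → ℂ))) := by rw [← hcoe]; exact hθ
    exact Submodule.mem_span_insert.mp hθ'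
  refine ⟨⟨χ - (a : ℤ) • ψ, hβmem, ?_⟩, τ₁, ⟨?_, ?_, ?_, ?_⟩, ?_⟩
  · intro h0
    have : classInner (χ - (a : ℤ) • ψ) χ = 1 := by
      rw [classInner_sub_left'', classInner_zsmul_left, hχχ, hξχ ψ (Finset.mem_coe.mpr hψ)]; ring
    rw [h0, classInner_zero_left'] at this
    exact zero_ne_one this
  · intro θ hθ θ' hθ'
    obtain ⟨m, z, hz, rfl⟩ := hdecomp θ hθ
    obtain ⟨m', z', hz', rfl⟩ := hdecomp θ' hθ'
    have e : m • χ + z + (m' • χ + z') = (m + m') • χ + (z + z') := by rw [add_smul]; abel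
    rw [e, hK _ _ (Submodule.add_mem _ hz hz'), hK m z hz, hK m' z' hz', hadd₀ z hz z' hz', add_smul]
    abel
  · intro θ hθ n
    obtain ⟨m, z, hz, rfl⟩ := hdecomp θ hθ
    have e : n • (m • χ + z) = (n * m) • χ + n • z := by rw [smul_add, mul_smul]
    rw [e, hK _ _ (Submodule.smul_mem _ n hz), hK m z hz, hsmul₀ z hz n, smul_add, mul_smul]
  · intro θ hθ θ' hθ'
    obtain ⟨m, z, hz, rfl⟩ := hdecomp θ hθ
    obtain ⟨m', z', hz', rfl⟩ := hdecomp θ' hθ'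
    rw [hK m z hz, hK m' z' hz']
    rw [classInner_add_left', classInner_add_right', classInner_add_right',
      classInner_add_left', classInner_add_right', classInner_add_right',
      classInner_zsmul_left, classInner_zsmul_right, classInner_zsmul_right, classInner_zsmul_left,
      classInner_zsmul_left, classInner_zsmul_right, classInner_zsmul_right, classInner_zsmul_left,
      hiso₀ z hz z' hz', hzΓ z hz, hΓz z' hz', hΓΓ, hχχ, hχz z' hz', hzχ z hz]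
    ring
  · intro θ hθ
    obtain ⟨m, z, hz, rfl⟩ := hdecomp θ hθ
    rw [hK m z hz]
    exact genchar_add (hgen₀ z hz) (genchar_zsmul hΓgen m)
  · intro θ hθ
    obtain ⟨m, z, hz, hθeq⟩ := hdecomp θ hθ.1
    -- θ - m β ∈ zspanOn S₀
    have hrest : z + (m * (a : ℤ)) • ψ ∈ zspanOn (↑S₀ : Set (N → ℂ)) {1}ᶜ := by
      refine ⟨Submodule.add_mem _ hz (Submodule.smul_mem _ _ (hmem₀ ψ hψ)), ?_⟩
      intro x hx
      have h1 := hθ.2 x hx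
      have h2 := hβmem.2 x hx
      rw [hθeq] at h1
      simp only [Pi.add_apply, Pi.sub_apply, zsmul_fun_apply] at h1 h2 ⊢
      push_cast
      linear_combination h1 - (m : ℂ) * h2
    have hsplit : θ = (z + (m * (a : ℤ)) • ψ) + m • (χ - (a : ℤ) • ψ) := by
      rw [hθeq, smul_sub, mul_smul]; abel
    have hmβ : m • (χ - (a : ℤ) • ψ) ∈ zspanOn (↑(insert χ S₀) : Set (N → ℂ)) {1}ᶜ := by
      refine ⟨Submodule.smul_mem _ _ hβmem.1, ?_⟩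
      intro x hx
      have h2 := hβmem.2 x hx
      simp only [zsmul_fun_apply] at h2 ⊢
      rw [h2, mul_zero]
    have e1 : τ θ = τ (z + (m * (a : ℤ)) • ψ) + m • τ (χ - (a : ℤ) • ψ) := by
      conv_lhs => rw [hsplit]
      rw [hadd _ (hon_sub _ hrest) _ hmβ, hsmul _ hβmem m]
    rw [e1, ← hτ₀τ _ hrest, hadd₀ z hz _ (Submodule.smul_mem _ _ (hmem₀ ψ hψ)),
      hsmul₀ ψ (hmem₀ ψ hψ)]
    rw [hθeq, hK m z hz, hΓeq, smul_add, mul_smul]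
    abel

end Cfsg.Agent.S1530
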