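import Cfsg.Statements.S1531
import Cfsg.Agent.Lib.Helper8.Coherence2
import Cfsg.Agent.Lib.Helper8.CharAvg

set_option autoImplicit false
open Cfsg

namespace Cfsg.Agent.S1531

open Cfsg.Agent.Lib.Helper8

/-- Let N be a subgroup of the finite group G, S a set of irreducible characters of N, and α a linear isometry on the integer combinations of S vanishing at 1 with values virtual characters of G vanishing at 1. Let X, Y ⊆ S be disjoint, each with at least two members, and σ, τ linear isometries on ℤ[X], ℤ[Y] into virtual characters agreeing with α on the members vanishing at 1. Then ⟨σ χ, τ η⟩ = 0 for χ ∈ X, η ∈ Y; and if for some χ₀ ∈ X, η₀ ∈ Y with degrees c = χ₀ 1, e = η₀ 1 one has α (c • η₀ − e • χ₀) = c • τ η₀ − e • σ χ₀, then (X ∪ Y, N minus 1, α) is coherent. -/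
theorem result {G : Type*} [Group G] [Fintype G] (N : Subgroup G) [Fintype N] (S X Y : Set (N → ℂ)) (hirr : ∀ ξ ∈ S, Cfsg.IsIrrCharacter N ξ) (hXS : X ⊆ S) (hYS : Y ⊆ S) (hXY : Disjoint X Y) (hX2 : ∃ a ∈ X, ∃ b ∈ X, a ≠ b) (hY2 : ∃ a ∈ Y, ∃ b ∈ Y, a ≠ b) (α : (N → ℂ) → (G → ℂ)) (hα : Cfsg.IsLinearIsometryOn (Cfsg.zspanOn S {1}ᶜ) α) (hα1 : ∀ θ ∈ Cfsg.zspanOn S {1}ᶜ, α θ 1 = 0) (σ τ : (N → ℂ) → (G → ℂ)) (hσ : Cfsg.IsLinearIsometryOn (Cfsg.zspan X) σ) (hσα : ∀ θ ∈ Cfsg.zspanOn X {1}ᶜ, σ θ = α θ) (hτ : Cfsg.IsLinearIsometryOn (Cfsg.zspan Y) τ) (hτα : ∀ θ ∈ Cfsg.zspanOn Y {1}ᶜ, τ θ = α θ) : (∀ χ ∈ X, ∀ η ∈ Y, Cfsg.classInner (σ χ) (τ η) = 0) ∧ ((∃ χ₀ ∈ X, ∃ η₀ ∈ Y, α (χ₀ 1 • η₀ - η₀ 1 • χ₀) = χ₀ 1 • τ η₀ - η₀ 1 • σ χ₀) → Cfsg.IsCoherent (X ∪ Y) {1}ᶜ α) := by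
  classical
  have hσ' := hσ
  have hτ' := hτ
  have hα' := hα
  obtain ⟨haddσ, hsmulσ, hisoσ, hgenσ⟩ := hσ
  obtain ⟨haddτ, hsmulτ, hisoτ, hgenτ⟩ := hτ
  obtain ⟨haddα, hsmulα, hisoα, hgenα⟩ := hα
  have hXirr : ∀ ξ ∈ X, IsIrrCharacter N ξ := fun ξ h => hirr ξ (hXS h)
  have hYirr : ∀ ξ ∈ Y, IsIrrCharacter N ξ := fun ξ h => hirr ξ (hYS h)
  have hXYne : ∀ ξ ∈ X, ∀ η ∈ Y, ξ ≠ η := fun ξ hξ η hη h => (Set.disjoint_left.mp hXY hξ) (h ▸ hη)
  have hXYorth : ∀ ξ ∈ X, ∀ η ∈ Y, classInner ξ η = 0 := by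
    intro ξ hξ η hη
    rw [irr_classInner (hXirr ξ hξ) (hYirr η hη), if_neg (hXYne ξ hξ η hη)]
  have hYXorth : ∀ η ∈ Y, ∀ ξ ∈ X, classInner η ξ = 0 := by
    intro η hη ξ hξ
    rw [irr_classInner (hYirr η hη) (hXirr ξ hξ), if_neg (hXYne ξ hξ η hη).symm]
  have hmX : ∀ ξ ∈ X, ξ ∈ zspan X := fun ξ h => Submodule.subset_span h
  have hmY : ∀ ξ ∈ Y, ξ ∈ zspan Y := fun ξ h => Submodule.subset_span h
  have hdeg : ∀ ξ ∈ S, ξ 1 = (charDegree ξ : ℂ) := fun ξ h => irr_one_eq_charDegree ⟨ξ, hirr ξ h⟩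
  have hdegpos : ∀ ξ ∈ S, 0 < charDegree ξ := fun ξ h => charDegree_pos ⟨ξ, hirr ξ h⟩
  have hσnorm : ∀ ξ ∈ X, classInner (σ ξ) (σ ξ) = 1 := by
    intro ξ hξ
    rw [hisoσ ξ (hmX ξ hξ) ξ (hmX ξ hξ), irr_classInner (hXirr ξ hξ) (hXirr ξ hξ), if_pos rfl]
  have hτnorm : ∀ ξ ∈ Y, classInner (τ ξ) (τ ξ) = 1 := by
    intro ξ hξ
    rw [hisoτ ξ (hmY ξ hξ) ξ (hmY ξ hξ), irr_classInner (hYirr ξ hξ) (hYirr ξ hξ), if_pos rfl]
  -- the difference elements
  have hdiffX : ∀ ξ ∈ X, ∀ ξ' ∈ X, (charDegree ξ' : ℤ) • ξ - (charDegree ξ : ℤ) • ξ' ∈ zspanOn X {1}ᶜ := by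
    intro ξ hξ ξ' hξ'
    refine ⟨Submodule.sub_mem _ (Submodule.smul_mem _ _ (hmX ξ hξ))
      (Submodule.smul_mem _ _ (hmX ξ' hξ')), ?_⟩
    intro x hx
    have hx1 : x = 1 := by simpa using hx
    rw [hx1, Pi.sub_apply, zsmul_fun_apply', zsmul_fun_apply', hdeg ξ (hXS hξ), hdeg ξ' (hXS hξ')]
    push_cast; ring
  have hdiffY : ∀ ξ ∈ Y, ∀ ξ' ∈ Y, (charDegree ξ' : ℤ) • ξ - (charDegree ξ : ℤ) • ξ' ∈ zspanOn Y {1}ᶜ := by
    intro ξ hξ ξ' hξ'
    refine ⟨Submodule.sub_mem _ (Submodule.smul_mem _ _ (hmY ξ hξ))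
      (Submodule.smul_mem _ _ (hmY ξ' hξ')), ?_⟩
    intro x hx
    have hx1 : x = 1 := by simpa using hx
    rw [hx1, Pi.sub_apply, zsmul_fun_apply', zsmul_fun_apply', hdeg ξ (hYS hξ), hdeg ξ' (hYS hξ')]
    push_cast; ring
  have hσdiff : ∀ ξ ∈ X, ∀ ξ' ∈ X, σ ((charDegree ξ' : ℤ) • ξ - (charDegree ξ : ℤ) • ξ') =
      (charDegree ξ' : ℤ) • σ ξ - (charDegree ξ : ℤ) • σ ξ' := by
    intro ξ hξ ξ' hξ'
    rw [iso_sub hσ' (Submodule.smul_mem _ _ (hmX ξ hξ)) (Submodule.smul_mem _ _ (hmX ξ' hξ')),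
      hsmulσ ξ (hmX ξ hξ), hsmulσ ξ' (hmX ξ' hξ')]
  have hτdiff : ∀ ξ ∈ Y, ∀ ξ' ∈ Y, τ ((charDegree ξ' : ℤ) • ξ - (charDegree ξ : ℤ) • ξ') =
      (charDegree ξ' : ℤ) • τ ξ - (charDegree ξ : ℤ) • τ ξ' := by
    intro ξ hξ ξ' hξ'
    rw [iso_sub hτ' (Submodule.smul_mem _ _ (hmY ξ hξ)) (Submodule.smul_mem _ _ (hmY ξ' hξ')),
      hsmulτ ξ (hmY ξ hξ), hsmulτ ξ' (hmY ξ' hξ')]
  -- part 1
  have part1 : ∀ χ ∈ X, ∀ η ∈ Y, Cfsg.classInner (σ χ) (τ η) = 0 := by
    intro χ hχ η hη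
    by_contra hne
    obtain ⟨χ', hχ', hχχ'⟩ : ∃ χ' ∈ X, χ' ≠ χ := by
      obtain ⟨a, ha, b, hb, hab⟩ := hX2
      by_cases h : a = χ
      · exact ⟨b, hb, fun h' => hab (h.trans h'.symm)⟩
      · exact ⟨a, ha, h⟩
    obtain ⟨η', hη', hηη'⟩ : ∃ η' ∈ Y, η' ≠ η := by
      obtain ⟨a, ha, b, hb, hab⟩ := hY2
      by_cases h : a = η
      · exact ⟨b, hb, fun h' => hab (h.trans h'.symm)⟩
      · exact ⟨a, ha, h⟩
    obtain ⟨ε, hε, hAB, hin⟩ := genchar_norm_one_pair (hgenσ χ (hmX χ hχ)) (hgenτ η (hmY η hη))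
      (hσnorm χ hχ) (hτnorm η hη) hne
    have hBA : τ η = ε • σ χ := by
      rw [hAB, smul_smul]
      rcases hε with h | h <;> rw [h] <;> simp
    -- orthogonality equation
    have hu := hdiffX χ hχ χ' hχ'
    have hv := hdiffY η hη η' hη'
    have e := hisoα _ (zspanOn_mono hXS hu) _ (zspanOn_mono hYS hv)
    rw [← hσα _ hu, ← hτα _ hv, hσdiff χ hχ χ' hχ', hτdiff η hη η' hη'] at e
    have h1 : classInner (σ χ) (τ η') = 0 := by
      rw [hAB, classInner_zsmul_left, hisoτ η (hmY η hη) η' (hmY η' hη'),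
        irr_classInner (hYirr η hη) (hYirr η' hη'), if_neg hηη'.symm, mul_zero]
    have h2 : classInner (σ χ') (τ η) = 0 := by
      rw [hBA, classInner_zsmul_right, hisoσ χ' (hmX χ' hχ') χ (hmX χ hχ),
        irr_classInner (hXirr χ' hχ') (hXirr χ hχ), if_neg hχχ', mul_zero]
    rw [classInner_sub_left'', classInner_sub_right'', classInner_sub_right'',
      classInner_zsmul_left, classInner_zsmul_left, classInner_zsmul_left, classInner_zsmul_left,
      classInner_zsmul_right, classInner_zsmul_right, classInner_zsmul_right, classInner_zsmul_right,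
      classInner_sub_left'', classInner_sub_right'', classInner_sub_right'',
      classInner_zsmul_left, classInner_zsmul_left, classInner_zsmul_left, classInner_zsmul_left,
      classInner_zsmul_right, classInner_zsmul_right, classInner_zsmul_right, classInner_zsmul_right,
      hin, h1, h2, hXYorth χ hχ η hη, hXYorth χ hχ η' hη', hXYorth χ' hχ' η hη,
      hXYorth χ' hχ' η' hη'] at e
    have hp := hdegpos χ (hXS hχ)
    have hp' := hdegpos χ' (hXS hχ')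
    have hq := hdegpos η (hYS hη)
    have hq' := hdegpos η' (hYS hη')
    have hε0 : (ε : ℂ) ≠ 0 := by
      rcases hε with h | h <;> rw [h] <;> norm_num
    have hw : classInner (σ χ') (τ η') ≠ 0 := by
      intro hw0
      rw [hw0] at e
      have : ((charDegree χ' : ℤ) : ℂ) * (((charDegree η' : ℤ) : ℂ) * (ε : ℂ)) = 0 := by
        linear_combination e
      rcases mul_eq_zero.mp this with h | h
      · have : (charDegree χ' : ℤ) = 0 := by exact_mod_cast h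
        omega
      · rcases mul_eq_zero.mp h with h | h
        · have : (charDegree η' : ℤ) = 0 := by exact_mod_cast h
          omega
        · exact hε0 h
    obtain ⟨ε', hε', hAB', hin'⟩ := genchar_norm_one_pair (hgenσ χ' (hmX χ' hχ'))
      (hgenτ η' (hmY η' hη')) (hσnorm χ' hχ') (hτnorm η' hη') hw
    rw [hin'] at e
    have eZ : (charDegree χ' : ℤ) * ((charDegree η' : ℤ) * ε) +
        (charDegree χ : ℤ) * ((charDegree η : ℤ) * ε') = 0 := by
      have : (((charDegree χ' : ℤ) * ((charDegree η' : ℤ) * ε) +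
        (charDegree χ : ℤ) * ((charDegree η : ℤ) * ε') : ℤ) : ℂ) = 0 := by
        push_cast
        push_cast at e
        linear_combination e
      exact_mod_cast this
    -- degrees
    have d1 := hα1 _ (zspanOn_mono hXS hu)
    rw [← hσα _ hu, hσdiff χ hχ χ' hχ', Pi.sub_apply, zsmul_fun_apply', zsmul_fun_apply', hAB, hAB',
      zsmul_fun_apply', zsmul_fun_apply'] at d1
    have d2 := hα1 _ (zspanOn_mono hYS hv)
    rw [← hτα _ hv, hτdiff η hη η' hη', Pi.sub_apply, zsmul_fun_apply', zsmul_fun_apply'] at d2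
    have hT : τ η 1 ≠ 0 := genchar_norm_one_ne_zero (hgenτ η (hmY η hη)) (hτnorm η hη)
    have hpZ : (0 : ℤ) < (charDegree χ : ℤ) := by exact_mod_cast hp
    have hp'Z : (0 : ℤ) < (charDegree χ' : ℤ) := by exact_mod_cast hp'
    have hqZ : (0 : ℤ) < (charDegree η : ℤ) := by exact_mod_cast hq
    have hq'Z : (0 : ℤ) < (charDegree η' : ℤ) := by exact_mod_cast hq'
    rcases hε with h | h <;> rcases hε' with h' | h' <;> rw [h, h'] at eZ
    · nlinarith [mul_pos hp'Z hq'Z, mul_pos hpZ hqZ]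
    · rw [h, h'] at d1
      have : (((charDegree χ' * charDegree η + charDegree χ * charDegree η' : ℕ) : ℂ)) * τ η 1 = 0 := by
        push_cast
        push_cast at d1 d2
        linear_combination ((charDegree η : ℂ)) * d1 + ((charDegree χ : ℂ)) * d2
      rcases mul_eq_zero.mp this with h3 | h3
      · have : charDegree χ' * charDegree η + charDegree χ * charDegree η' = 0 := by exact_mod_cast h3
        have := Nat.mul_pos hp' hq
        omega
      · exact hT h3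
    · rw [h, h'] at d1
      have : (((charDegree χ' * charDegree η + charDegree χ * charDegree η' : ℕ) : ℂ)) * τ η 1 = 0 := by
        push_cast
        push_cast at d1 d2
        linear_combination (-(charDegree η : ℂ)) * d1 + ((charDegree χ : ℂ)) * d2
      rcases mul_eq_zero.mp this with h3 | h3
      · have : charDegree χ' * charDegree η + charDegree χ * charDegree η' = 0 := by exact_mod_cast h3
        have := Nat.mul_pos hp' hq
        omega
      · exact hT h3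
    · nlinarith [mul_pos hp'Z hq'Z, mul_pos hpZ hqZ]
  refine ⟨part1, ?_⟩
  rintro ⟨χ₀, hχ₀, η₀, hη₀, hαeq⟩
  -- orthogonality between spans
  have hxη : ∀ x ∈ zspan X, ∀ η ∈ Y, classInner x η = 0 :=
    fun x hx η hη => orth_span η (fun ξ hξ => hXYorth ξ hξ η hη) x hx
  have hxy : ∀ x ∈ zspan X, ∀ y ∈ zspan Y, classInner x y = 0 :=
    fun x hx y hy => orth_span_right x (fun η hη => hxη x hx η hη) y hy
  have hyx : ∀ y ∈ zspan Y, ∀ x ∈ zspan X, classInner y x = 0 := by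
    intro y hy x hx
    rw [classInner_conj_symm, hxy x hx y hy, map_zero]
  have hσxτη : ∀ x ∈ zspan X, ∀ η ∈ Y, classInner (τ η) (σ x) = 0 := by
    intro x hx η hη
    refine iso_orth_span hσ' (τ η) ?_ x hx
    intro ξ hξ
    rw [classInner_conj_symm, part1 ξ hξ η hη, map_zero]
  have hσxτy : ∀ x ∈ zspan X, ∀ y ∈ zspan Y, classInner (σ x) (τ y) = 0 := by
    intro x hx y hy
    refine iso_orth_span hτ' (σ x) ?_ y hy
    intro η hη
    rw [classInner_conj_symm, hσxτη x hx η hη, map_zero]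
  have hτyσx : ∀ y ∈ zspan Y, ∀ x ∈ zspan X, classInner (τ y) (σ x) = 0 := by
    intro y hy x hx
    rw [classInner_conj_symm, hσxτy x hx y hy, map_zero]
  -- uniqueness of decomposition
  have huniq : ∀ x ∈ zspan X, ∀ y ∈ zspan Y, ∀ x' ∈ zspan X, ∀ y' ∈ zspan Y,
      x + y = x' + y' → x = x' ∧ y = y' := by
    intro x hx y hy x' hx' y' hy' h
    have hw : x - x' = y' - y := by
      have : x - x' - (y' - y) = 0 := by
        have h2 : x + y - (x' + y') = 0 := sub_eq_zero.mpr h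
        rw [← h2]; abel
      exact sub_eq_zero.mp this
    have hwX : x - x' ∈ zspan X := Submodule.sub_mem _ hx hx'
    have hwY : x - x' ∈ zspan Y := by rw [hw]; exact Submodule.sub_mem _ hy' hy
    have h0 := classInner_self_eq_zero (hxy _ hwX _ hwY)
    refine ⟨sub_eq_zero.mp h0, ?_⟩
    rw [h0] at hw
    exact (sub_eq_zero.mp hw.symm).symm
  have hdecomp : ∀ θ ∈ zspan (X ∪ Y), ∃ x ∈ zspan X, ∃ y ∈ zspan Y, θ = x + y := by
    intro θ hθ
    have hθ' : θ ∈ Submodule.span ℤ (X ∪ Y) := hθ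
    rw [Submodule.span_union, Submodule.mem_sup] at hθ'
    obtain ⟨x, hx, y, hy, h⟩ := hθ'
    exact ⟨x, hx, y, hy, h.symm⟩
  let ρ : (N → ℂ) → (G → ℂ) := fun θ =>
    if h : θ ∈ zspan (X ∪ Y) then σ (Classical.choose (hdecomp θ h)) +
      τ (Classical.choose (Classical.choose_spec (hdecomp θ h)).2) else 0
  have hXsub : ∀ x ∈ zspan X, x ∈ zspan (X ∪ Y) :=
    fun x hx => Submodule.span_mono Set.subset_union_left hx
  have hYsub : ∀ y ∈ zspan Y, y ∈ zspan (X ∪ Y) :=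
    fun y hy => Submodule.span_mono Set.subset_union_right hy
  have hK : ∀ x ∈ zspan X, ∀ y ∈ zspan Y, ρ (x + y) = σ x + τ y := by
    intro x hx y hy
    have hmem : x + y ∈ zspan (X ∪ Y) := Submodule.add_mem _ (hXsub x hx) (hYsub y hy)
    show (if h : x + y ∈ zspan (X ∪ Y) then σ (Classical.choose (hdecomp (x + y) h)) +
      τ (Classical.choose (Classical.choose_spec (hdecomp (x + y) h)).2) else 0) = _
    rw [dif_pos hmem]
    have hs1 := (Classical.choose_spec (hdecomp (x + y) hmem)).1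
    have hs2 := (Classical.choose_spec (Classical.choose_spec (hdecomp (x + y) hmem)).2).1
    have hs3 := (Classical.choose_spec (Classical.choose_spec (hdecomp (x + y) hmem)).2).2
    obtain ⟨e1, e2⟩ := huniq x hx y hy _ hs1 _ hs2 hs3
    rw [congrArg σ e1, congrArg τ e2]
  -- nonzero element
  obtain ⟨a, ha, b, hb, hab⟩ := hX2
  have hXYS : X ∪ Y ⊆ S := Set.union_subset hXS hYS
  refine ⟨⟨(charDegree b : ℤ) • a - (charDegree a : ℤ) • b,
    zspanOn_mono Set.subset_union_left (hdiffX a ha b hb), ?_⟩, ρ, ⟨?_, ?_, ?_, ?_⟩, ?_⟩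
  · intro h0
    have : classInner ((charDegree b : ℤ) • a - (charDegree a : ℤ) • b) a = (charDegree b : ℂ) := by
      rw [classInner_sub_left'', classInner_zsmul_left, classInner_zsmul_left,
        irr_classInner (hXirr a ha) (hXirr a ha), irr_classInner (hXirr b hb) (hXirr a ha),
        if_pos rfl, if_neg (Ne.symm hab)]
      push_cast; ring
    rw [h0, classInner_zero_left'] at this
    have hpos := hdegpos b (hXS hb)
    exact (Nat.cast_ne_zero.mpr hpos.ne' : (charDegree b : ℂ) ≠ 0) this.symm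
  · intro θ hθ θ' hθ'
    obtain ⟨x, hx, y, hy, rfl⟩ := hdecomp θ hθ
    obtain ⟨x', hx', y', hy', rfl⟩ := hdecomp θ' hθ'
    have e : x + y + (x' + y') = (x + x') + (y + y') := by abel
    rw [e, hK _ (Submodule.add_mem _ hx hx') _ (Submodule.add_mem _ hy hy'), hK x hx y hy,
      hK x' hx' y' hy', haddσ x hx x' hx', haddτ y hy y' hy']
    abel
  · intro θ hθ n
    obtain ⟨x, hx, y, hy, rfl⟩ := hdecomp θ hθ
    rw [smul_add, hK _ (Submodule.smul_mem _ n hx) _ (Submodule.smul_mem _ n hy), hK x hx y hy,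
      hsmulσ x hx n, hsmulτ y hy n, smul_add]
  · intro θ hθ θ' hθ'
    obtain ⟨x, hx, y, hy, rfl⟩ := hdecomp θ hθ
    obtain ⟨x', hx', y', hy', rfl⟩ := hdecomp θ' hθ'
    rw [hK x hx y hy, hK x' hx' y' hy']
    rw [classInner_add_left', classInner_add_right', classInner_add_right',
      classInner_add_left', classInner_add_right', classInner_add_right',
      hisoσ x hx x' hx', hisoτ y hy y' hy', hσxτy x hx y' hy', hτyσx y hy x' hx',
      hxy x hx y' hy', hyx y hy x' hx']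
  · intro θ hθ
    obtain ⟨x, hx, y, hy, rfl⟩ := hdecomp θ hθ
    rw [hK x hx y hy]
    exact genchar_add (hgenσ x hx) (hgenτ y hy)
  · intro θ hθ
    obtain ⟨x, hx, y, hy, hθeq⟩ := hdecomp θ hθ.1
    obtain ⟨u, hu⟩ := zspan_one_int hXirr x hx
    have hy1 : y 1 = -(u : ℂ) := by
      have := hθ.2 1 (by simp)
      rw [hθeq, Pi.add_apply, hu] at this
      linear_combination this
    obtain ⟨c, hc⟩ : ∃ c : ℕ, c = charDegree χ₀ := ⟨_, rfl⟩
    obtain ⟨e, he⟩ : ∃ e : ℕ, e = charDegree η₀ := ⟨_, rfl⟩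
    have hcχ : χ₀ 1 = (c : ℂ) := by rw [hc]; exact hdeg χ₀ (hXS hχ₀)
    have heη : η₀ 1 = (e : ℂ) := by rw [he]; exact hdeg η₀ (hYS hη₀)
    have hcpos : 0 < c := by rw [hc]; exact hdegpos χ₀ (hXS hχ₀)
    have hepos : 0 < e := by rw [he]; exact hdegpos η₀ (hYS hη₀)
    -- the three pieces
    have hA₁ : (c : ℤ) • x - u • χ₀ ∈ zspanOn X {1}ᶜ := by
      refine ⟨Submodule.sub_mem _ (Submodule.smul_mem _ _ hx) (Submodule.smul_mem _ _ (hmX χ₀ hχ₀)), ?_⟩
      intro z hz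
      have hz1 : z = 1 := by simpa using hz
      rw [hz1, Pi.sub_apply, zsmul_fun_apply', zsmul_fun_apply', hu, hcχ]
      push_cast; ring
    have hA₂ : (e : ℤ) • y + u • η₀ ∈ zspanOn Y {1}ᶜ := by
      refine ⟨Submodule.add_mem _ (Submodule.smul_mem _ _ hy) (Submodule.smul_mem _ _ (hmY η₀ hη₀)), ?_⟩
      intro z hz
      have hz1 : z = 1 := by simpa using hz
      rw [hz1, Pi.add_apply, zsmul_fun_apply', zsmul_fun_apply', hy1, heη]
      push_cast; ring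
    have hA₃eq : χ₀ 1 • η₀ - η₀ 1 • χ₀ = (c : ℤ) • η₀ - (e : ℤ) • χ₀ := by
      rw [hcχ, heη]
      funext z
      rw [Pi.sub_apply, Pi.sub_apply, zsmul_fun_apply', zsmul_fun_apply']
      simp only [Pi.smul_apply, smul_eq_mul]
      push_cast; ring
    have hA₃ : (c : ℤ) • η₀ - (e : ℤ) • χ₀ ∈ zspanOn S {1}ᶜ := by
      refine ⟨Submodule.sub_mem _ (Submodule.smul_mem _ _ (Submodule.subset_span (hYS hη₀)))
        (Submodule.smul_mem _ _ (Submodule.subset_span (hXS hχ₀))), ?_⟩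
      intro z hz
      have hz1 : z = 1 := by simpa using hz
      rw [hz1, Pi.sub_apply, zsmul_fun_apply', zsmul_fun_apply', hcχ, heη]
      push_cast; ring
    have hαA₃ : α ((c : ℤ) • η₀ - (e : ℤ) • χ₀) = (c : ℤ) • τ η₀ - (e : ℤ) • σ χ₀ := by
      rw [← hA₃eq, hαeq, hcχ, heη]
      funext z
      rw [Pi.sub_apply, Pi.sub_apply, zsmul_fun_apply', zsmul_fun_apply']
      simp only [Pi.smul_apply, smul_eq_mul]
      push_cast; ring
    have hsplit : ((e : ℤ) * (c : ℤ)) • θ = ((e : ℤ) • ((c : ℤ) • x - u • χ₀) + (c : ℤ) • ((e : ℤ) • y + u • η₀)) +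
        (-u) • ((c : ℤ) • η₀ - (e : ℤ) • χ₀) := by
      rw [hθeq]
      funext z
      simp only [Pi.add_apply, Pi.sub_apply, zsmul_fun_apply']
      push_cast; ring
    have hS₁ := zspanOn_smul (zspanOn_mono hXS hA₁) (e : ℤ)
    have hS₂ := zspanOn_smul (zspanOn_mono hYS hA₂) (c : ℤ)
    have hS₃ := zspanOn_smul hA₃ (-u)
    have hθS : θ ∈ zspanOn S {1}ᶜ := zspanOn_mono hXYS hθ
    have key : ((e : ℤ) * (c : ℤ)) • α θ = ((e : ℤ) * (c : ℤ)) • ρ θ := by
      rw [← hsmulα θ hθS, hsplit, haddα _ (zspanOn_add hS₁ hS₂) _ hS₃, haddα _ hS₁ _ hS₂,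
        hsmulα _ (zspanOn_mono hXS hA₁), hsmulα _ (zspanOn_mono hYS hA₂), hsmulα _ hA₃,
        ← hσα _ hA₁, ← hτα _ hA₂, hαA₃,
        iso_sub hσ' (Submodule.smul_mem _ _ hx) (Submodule.smul_mem _ _ (hmX χ₀ hχ₀)),
        haddτ _ (Submodule.smul_mem _ _ hy) _ (Submodule.smul_mem _ _ (hmY η₀ hη₀)),
        hsmulσ x hx, hsmulσ χ₀ (hmX χ₀ hχ₀), hsmulτ y hy, hsmulτ η₀ (hmY η₀ hη₀), hθeq, hK x hx y hy]
      funext z
      simp only [Pi.add_apply, Pi.sub_apply, zsmul_fun_apply']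
      push_cast; ring
    have hne : (e : ℤ) * (c : ℤ) ≠ 0 := by
      have h1 : (0 : ℤ) < (e : ℤ) := by exact_mod_cast hepos
      have h2 : (0 : ℤ) < (c : ℤ) := by exact_mod_cast hcpos
      exact (mul_pos h1 h2).ne'
    funext z
    have := congrFun key z
    rw [zsmul_fun_apply', zsmul_fun_apply'] at this
    have hne' : (((e : ℤ) * (c : ℤ) : ℤ) : ℂ) ≠ 0 := by exact_mod_cast hne
    exact (mul_left_cancel₀ hne' this).symm

end Cfsg.Agent.S1531
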