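import Cfsg.Statements.S1536
import Cfsg.Agent.Lib.Helper8.CharFrobenius

set_option autoImplicit false
open Cfsg

namespace Cfsg.Agent.S1536

open Cfsg.Agent.Lib.Helper8

/-- Let H be a normal subgroup of the finite group M whose order is coprime to its index. For x ∈ M: some non-principal irreducible character of H is unchanged under h ↦ θ(x h x⁻¹) if and only if some non-identity element of H commutes with x. -/
theorem result {M : Type*} [Group M] [Finite M] (H : Subgroup M) [hN : H.Normal] (hHall : Nat.Coprime (Nat.card H) H.index) (x : M) : (∃ θ : H → ℂ, Cfsg.IsIrrCharacter H θ ∧ θ ≠ (fun _ => 1) ∧ (fun h : H => θ ⟨x * h * x⁻¹, hN.conj_mem h h.2 x⟩) = θ) ↔ ∃ h ∈ H, h ≠ 1 ∧ x * h = h * x := by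
  classical
  constructor
  · rintro ⟨θ, hθ, hθ1, hfix⟩
    by_contra hcon
    push Not at hcon
    have hfpf : ∀ k ∈ H, x * k = k * x → k = 1 := by
      intro k hk hxk
      by_contra hk1
      exact hcon k hk hk1 hxk
    have := fixed_irr_trivial_of_fpf H hN x hfpf ⟨θ, hθ⟩ hfix
    exact hθ1 this
  · rintro ⟨h, hh, hh1, hxh⟩
    by_contra hcon
    push Not at hcon
    set β : H ≃* H := @MulAut.conjNormal M _ H hN x with hβ
    have hβapp : ∀ c : H, ((β c : H) : M) = x * c * x⁻¹ := fun c => rfl
    have hβ1 : ∀ a b : H, IsConj a b → IsConj (β a) (β b) := by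
      intro a b hab
      obtain ⟨c, hc⟩ := isConj_iff.mp hab
      exact isConj_iff.mpr ⟨β c, by rw [← hc]; simp⟩
    have hperm := perm_lemma (G := H) (fun c => β c) hβ1
      (fun χ => isIrrCharacter_comp_surjective β.toMonoidHom β.surjective χ.2)
    haveI := irr_finite (G := H)
    -- fixed characters are all trivial
    have hsub : Subsingleton {χ : IrrCharacter H // (χ.1 ∘ fun c => β c) = χ.1} := by
      have key : ∀ χ : {χ : IrrCharacter H // (χ.1 ∘ fun c => β c) = χ.1},
          χ.1.1 = fun _ => (1 : ℂ) := by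
        rintro ⟨χ, hχ⟩
        by_contra hne
        apply hcon χ.1 χ.2 hne
        have : (fun h : H => χ.1 ⟨x * h * x⁻¹, hN.conj_mem h h.2 x⟩) = (χ.1 ∘ fun c => β c) := by
          ext c
          rfl
        rw [this, hχ]
      refine ⟨fun a b => ?_⟩
      apply Subtype.ext
      apply Subtype.ext
      rw [key a, key b]
    have hcard : Nat.card {χ : IrrCharacter H // (χ.1 ∘ fun c => β c) = χ.1} ≤ 1 :=
      Finite.card_le_one_iff_subsingleton.mpr hsub
    rw [← hperm] at hcard
    have hsub2 := Finite.card_le_one_iff_subsingleton.mp hcard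
    have hP : ∀ g k : H, IsConj g k → (IsConj (β g) g ↔ IsConj (β k) k) := by
      intro g k hgk
      have h1 := hβ1 g k hgk
      constructor
      · intro h2; exact (h1.symm.trans h2).trans hgk
      · intro h2; exact (h1.trans h2).trans hgk.symm
    have hfix1 : ∀ g : H, ConjClasses.mk g = ConjClasses.mk (1 : H) → IsConj (β g) g := by
      intro g hg
      have : g = 1 := by
        rw [ConjClasses.mk_eq_mk_iff_isConj, isConj_one_left] at hg
        exact hg
      rw [this]; simp
    have hβh : β ⟨h, hh⟩ = ⟨h, hh⟩ := by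
      apply Subtype.ext
      rw [hβapp]
      show x * h * x⁻¹ = h
      rw [hxh]; group
    have hfixh : ∀ g : H, ConjClasses.mk g = ConjClasses.mk (⟨h, hh⟩ : H) → IsConj (β g) g := by
      intro g hg
      rw [ConjClasses.mk_eq_mk_iff_isConj] at hg
      rw [hP g ⟨h, hh⟩ hg, hβh]
    have := hsub2.elim ⟨ConjClasses.mk (1 : H), hfix1⟩ ⟨ConjClasses.mk (⟨h, hh⟩ : H), hfixh⟩
    have h2 := congrArg Subtype.val this
    simp only at h2
    rw [ConjClasses.mk_eq_mk_iff_isConj, isConj_one_right] at h2
    exact hh1 (congrArg Subtype.val h2)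

end Cfsg.Agent.S1536
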