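import Mathlib
import Cfsg.Statements.S1546

set_option autoImplicit false
open Cfsg

namespace Cfsg.Agent.S1546

open Finset

/-- the geometric sum is congruent to the number of terms modulo any divisor of `p - 1` -/
lemma geom_cast (p q d : ℕ) (hp : 1 ≤ p) (hd : d ∣ p - 1) :
    ((∑ k ∈ range q, p ^ k : ℕ) : ZMod d) = (q : ZMod d) := by
  have hp1 : (p : ZMod d) = 1 := by
    have : p = (p - 1) + 1 := by omega
    rw [this, Nat.cast_add, (ZMod.natCast_eq_zero_iff _ _).mpr hd]; simp
  rw [Nat.cast_sum]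
  simp [hp1]

lemma dvd_sub_of_cast (a b d : ℕ) (h : (a : ZMod d) = (b : ZMod d)) (hdb : d ∣ b) : d ∣ a := by
  rw [← ZMod.natCast_eq_zero_iff] at hdb ⊢
  rw [h, hdb]

theorem result (p q : ℕ) (hp : p.Prime) (hq : q.Prime) (hp2 : p ≠ 2) (hq2 : q ≠ 2) : Odd ((p ^ q - 1) / (p - 1)) ∧ (p % q = 1 → q ∣ (p ^ q - 1) / (p - 1)) ∧ (p % q ≠ 1 → Nat.Coprime ((p ^ q - 1) / (p - 1)) (p - 1) ∧ ∀ x : ℕ, x ∣ (p ^ q - 1) / (p - 1) → x % q = 1) := by
  have hp2' : 2 ≤ p := hp.two_le
  have hq2' : 2 ≤ q := hq.two_le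
  rw [← Nat.geomSum_eq hp2' q]
  set N := ∑ k ∈ range q, p ^ k with hN
  have hpodd : Odd p := hp.odd_of_ne_two hp2
  have hqodd : Odd q := hq.odd_of_ne_two hq2
  have hNmul : N * (p - 1) = p ^ q - 1 := by
    rw [hN, Nat.geomSum_eq hp2' q]
    exact Nat.div_mul_cancel (Nat.sub_one_dvd_pow_sub_one p q)
  have hNdvd : N ∣ p ^ q - 1 := ⟨p - 1, hNmul.symm⟩
  refine ⟨?_, ?_, ?_⟩
  · -- oddness
    have h2 : 2 ∣ p - 1 := by
      obtain ⟨k, hk⟩ := hpodd
      exact ⟨k, by omega⟩
    have hc := geom_cast p q 2 (by omega) h2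
    rw [← Nat.not_even_iff_odd]
    intro hev
    have : (2 : ℕ) ∣ q := by
      apply dvd_sub_of_cast q N 2 hc.symm
      exact hev.two_dvd
    have := hqodd
    rw [← Nat.not_even_iff_odd] at this
    exact this (even_iff_two_dvd.mpr ‹2 ∣ q›)
  · intro hpq
    have hqd : q ∣ p - 1 := by
      have : p % q = 1 % q := by rw [hpq, Nat.mod_eq_of_lt (by omega : 1 < q)]
      exact (Nat.modEq_iff_dvd' (by omega : 1 ≤ p)).mp this.symm
    have hc := geom_cast p q q (by omega) hqd
    exact dvd_sub_of_cast N q q hc (dvd_refl q)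
  · intro hpq
    have hqnd : ¬ q ∣ p - 1 := by
      intro hqd
      apply hpq
      have : 1 % q = p % q := (Nat.modEq_iff_dvd' (by omega : 1 ≤ p)).mpr hqd
      rw [← this, Nat.mod_eq_of_lt (by omega : 1 < q)]
    have hcop : Nat.Coprime N (p - 1) := by
      rw [Nat.coprime_iff_gcd_eq_one]
      set d := Nat.gcd N (p - 1) with hd
      have hd1 : d ∣ p - 1 := Nat.gcd_dvd_right _ _
      have hd2 : d ∣ N := Nat.gcd_dvd_left _ _
      have hc := geom_cast p q d (by omega) hd1
      have hdq : d ∣ q := dvd_sub_of_cast q N d hc.symm hd2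
      rcases (Nat.dvd_prime hq).mp hdq with h | h
      · exact h
      · exfalso; exact hqnd (h ▸ hd1)
    refine ⟨hcop, ?_⟩
    -- prime divisors
    have hprime : ∀ r : ℕ, r.Prime → r ∣ N → r % q = 1 := by
      intro r hr hrN
      have : Fact r.Prime := ⟨hr⟩
      have hr1 : r ∣ p ^ q - 1 := hrN.trans hNdvd
      have hpow : ((p : ZMod r)) ^ q = 1 := by
        have h1 : 1 ≤ p ^ q := Nat.one_le_pow _ _ (by omega)
        have : p ^ q = (p ^ q - 1) + 1 := by omega
        have hc : ((p ^ q : ℕ) : ZMod r) = 1 := by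
          rw [this, Nat.cast_add, (ZMod.natCast_eq_zero_iff _ _).mpr hr1]; simp
        rwa [Nat.cast_pow] at hc
      have hne0 : (p : ZMod r) ≠ 0 := by
        intro h0
        rw [h0, zero_pow (by omega : q ≠ 0)] at hpow
        exact zero_ne_one hpow
      have hord : orderOf (p : ZMod r) ∣ q := orderOf_dvd_of_pow_eq_one hpow
      rcases (Nat.dvd_prime hq).mp hord with h | h
      · exfalso
        rw [orderOf_eq_one_iff] at h
        have hrp : r ∣ p - 1 := by
          rw [← ZMod.natCast_eq_zero_iff]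
          rw [Nat.cast_sub (by omega : 1 ≤ p), h]; simp
        have : r ∣ Nat.gcd N (p - 1) := Nat.dvd_gcd hrN hrp
        rw [Nat.coprime_iff_gcd_eq_one.mp hcop] at this
        exact hr.one_lt.ne' (Nat.dvd_one.mp this)
      · have hqr : q ∣ r - 1 := h ▸ ZMod.orderOf_dvd_card_sub_one hne0
        have : 1 % q = r % q := (Nat.modEq_iff_dvd' (by have := hr.one_lt; omega : 1 ≤ r)).mpr hqr
        rw [← this, Nat.mod_eq_of_lt (by omega : 1 < q)]
    intro x
    induction x using Nat.strong_induction_on with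
    | _ x ih =>
      intro hx
      rcases Nat.lt_or_ge x 2 with hlt | hge
      · have hx0 : x ≠ 0 := by
          rintro rfl
          have hNpos : 0 < N := by
            rw [hN]
            apply Finset.sum_pos
            · intro i _; exact Nat.pow_pos (by omega)
            · exact ⟨0, by simp; omega⟩
          have := Nat.eq_zero_of_zero_dvd hx
          omega
        have : x = 1 := by omega
        rw [this, Nat.mod_eq_of_lt (by omega : 1 < q)]
      · have hx1 : x ≠ 1 := by omega
        set r := x.minFac with hr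
        have hrp : r.Prime := Nat.minFac_prime hx1
        have hrx : r ∣ x := Nat.minFac_dvd x
        obtain ⟨y, hy⟩ := hrx
        have hypos : 0 < y := by
          rcases Nat.eq_zero_or_pos y with h | h
          · rw [h] at hy; omega
          · exact h
        have hylt : y < x := by
          rw [hy]
          have := hrp.two_le
          nlinarith
        have hyx : y ∣ x := ⟨r, by rw [hy, mul_comm]⟩
        have hy1 := ih y hylt (hyx.trans hx)
        have hr1 := hprime r hrp ((Nat.minFac_dvd x).trans hx)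
        rw [hy, Nat.mul_mod, hr1, hy1]
        simp [Nat.mod_eq_of_lt (by omega : 1 < q)]

end Cfsg.Agent.S1546
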