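import Cfsg.Statements.S1551
import Mathlib
import Cfsg.Agent.Lib.Helper1.M24Sextets
import Cfsg.Agent.Lib.Helper1.M24SextetSix
import Cfsg.Agent.Lib.Helper1.M24Cert
import Cfsg.Agent.Lib.Helper1.M24Chain
import Cfsg.Agent.Lib.Helper1.M24Order
import Cfsg.Agent.S1550

set_option autoImplicit false
open scoped Pointwise
open Cfsg

namespace Cfsg.Agent.S1551


open Cfsg.Agent.Lib.Helper1

section general

variable (S : Finset (Finset GolayPt))

theorem smul_mem_iff (g : ↥(MulAction.stabilizer ↥M24 S)) (t : Finset GolayPt) :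
    ((g : ↥M24) : Equiv.Perm GolayPt) • t ∈ S ↔ t ∈ S := by
  have h := Finset.smul_mem_smul_finset_iff (s := S) (b := t) ((g : ↥M24) : Equiv.Perm GolayPt)
  have hg : ((g : ↥M24) : Equiv.Perm GolayPt) • S = S := MulAction.mem_stabilizer_iff.1 g.2
  rw [hg] at h
  exact h

/-- the action of the stabilizer on the members -/
def phi : ↥(MulAction.stabilizer ↥M24 S) →* Equiv.Perm ↥S where
  toFun g := (MulAction.toPerm ((g : ↥M24) : Equiv.Perm GolayPt) :
    Equiv.Perm (Finset GolayPt)).subtypePerm (fun t => smul_mem_iff S g t)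
  map_one' := by
    apply Equiv.ext
    intro x
    apply Subtype.ext
    show (1 : Equiv.Perm GolayPt) • (x : Finset GolayPt) = (x : Finset GolayPt)
    exact one_smul _ _
  map_mul' g h := by
    apply Equiv.ext
    intro x
    apply Subtype.ext
    show (((g : ↥M24) : Equiv.Perm GolayPt) * ((h : ↥M24) : Equiv.Perm GolayPt)) •
      (x : Finset GolayPt) = ((g : ↥M24) : Equiv.Perm GolayPt) •
        (((h : ↥M24) : Equiv.Perm GolayPt) • (x : Finset GolayPt))
    exact mul_smul _ _ _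

theorem phi_apply (g : ↥(MulAction.stabilizer ↥M24 S)) (t : ↥S) :
    ((phi S g t : ↥S) : Finset GolayPt) = ((g : ↥M24) : Equiv.Perm GolayPt) • (t : Finset GolayPt) :=
  rfl

theorem mem_ker_phi (g : ↥(MulAction.stabilizer ↥M24 S)) :
    g ∈ (phi S).ker ↔ ∀ t ∈ S, ((g : ↥M24) : Equiv.Perm GolayPt) • t = t := by
  rw [MonoidHom.mem_ker]
  constructor
  · intro h t ht
    have h2 := congrArg (fun e : Equiv.Perm ↥S => ((e ⟨t, ht⟩ : ↥S) : Finset GolayPt)) h
    exact h2
  · intro h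
    apply Equiv.ext
    intro t
    apply Subtype.ext
    exact h t.1 t.2

theorem orbit_sextet (hS : S ∈ sextets) : MulAction.orbit ↥M24 S = sextets := by
  ext y
  constructor
  · rintro ⟨g, rfl⟩
    exact smul_mem_sextets g.2 hS
  · intro hy
    obtain ⟨g, hg, h⟩ := M24_trans_sextets hS hy
    exact ⟨⟨g, hg⟩, h⟩

theorem card_stab (hS : S ∈ sextets) : Nat.card ↥(MulAction.stabilizer ↥M24 S) = 138240 := by
  have h1 := Subgroup.card_mul_index (MulAction.stabilizer ↥M24 S)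
  rw [MulAction.index_stabilizer, orbit_sextet S hS, Cfsg.Agent.S1550.count_sextets, card_M24] at h1
  have h2 : Nat.card ↥(MulAction.stabilizer ↥M24 S) * 1771 = 138240 * 1771 := by
    rw [h1]
  exact Nat.eq_of_mul_eq_mul_right (by norm_num) h2

theorem card_perm_S (hS : S ∈ sextets) : Nat.card (Equiv.Perm ↥S) = 720 := by
  rw [Nat.card_perm, Nat.card_eq_fintype_card, Fintype.card_coe, hS.1]
  rfl

theorem card_ker (hS : S ∈ sextets) (hsurj : Function.Surjective (phi S)) :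
    Nat.card ↥(phi S).ker = 192 := by
  have h1 := Subgroup.card_mul_index (phi S).ker
  rw [Subgroup.index_ker, MonoidHom.range_eq_top.2 hsurj, Subgroup.card_top, card_perm_S S hS,
    card_stab S hS] at h1
  omega

theorem surj_of_part1 (H : ∀ e : Equiv.Perm ↥S, ∃ g ∈ MulAction.stabilizer ↥M24 S, ∀ t : ↥S,
    ((g : ↥M24) : Equiv.Perm GolayPt) • (t : Finset GolayPt) = ((e t : ↥S) : Finset GolayPt)) :
    Function.Surjective (phi S) := by
  intro e
  obtain ⟨g, hg, hgt⟩ := H e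
  refine ⟨⟨g, hg⟩, ?_⟩
  apply Equiv.ext
  intro t
  apply Subtype.ext
  exact hgt t

theorem part1_of_surj (hsurj : Function.Surjective (phi S)) :
    ∀ e : Equiv.Perm ↥S, ∃ g ∈ MulAction.stabilizer ↥M24 S, ∀ t : ↥S,
    ((g : ↥M24) : Equiv.Perm GolayPt) • (t : Finset GolayPt) = ((e t : ↥S) : Finset GolayPt) := by
  intro e
  obtain ⟨g, hg⟩ := hsurj e
  refine ⟨g.1, g.2, ?_⟩
  intro t
  rw [← hg]
  rfl

theorem part2_of_surj (hS : S ∈ sextets) (hsurj : Function.Surjective (phi S)) :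
    Nat.card {g : ↥(MulAction.stabilizer ↥M24 S) //
      ∀ t ∈ S, ((g : ↥M24) : Equiv.Perm GolayPt) • t = t} = 192 := by
  rw [← card_ker S hS hsurj]
  exact Nat.card_congr (Equiv.subtypeEquivRight (fun g => (mem_ker_phi S g).symm))

end general

theorem transport1 {S0 : Finset (Finset GolayPt)} (hM : ↥M24)
    (H : ∀ e : Equiv.Perm ↥S0, ∃ g ∈ MulAction.stabilizer ↥M24 S0, ∀ t : ↥S0,
      ((g : ↥M24) : Equiv.Perm GolayPt) • (t : Finset GolayPt) = ((e t : ↥S0) : Finset GolayPt)) :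
    ∀ e : Equiv.Perm ↥(hM • S0), ∃ g ∈ MulAction.stabilizer ↥M24 (hM • S0), ∀ t : ↥(hM • S0),
      ((g : ↥M24) : Equiv.Perm GolayPt) • (t : Finset GolayPt) =
        ((e t : ↥(hM • S0)) : Finset GolayPt) := by
  intro e
  let β : ↥S0 ≃ ↥(hM • S0) :=
    { toFun := fun t => ⟨hM • (t : Finset GolayPt), Finset.smul_mem_smul_finset t.2⟩
      invFun := fun u => ⟨hM⁻¹ • (u : Finset GolayPt), Finset.inv_smul_mem_iff.2 u.2⟩
      left_inv := fun t => Subtype.ext (inv_smul_smul hM (t : Finset GolayPt))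
      right_inv := fun u => Subtype.ext (smul_inv_smul hM (u : Finset GolayPt)) }
  obtain ⟨g0, hg0, hg0t⟩ := H ((β.trans e).trans β.symm)
  refine ⟨hM * g0 * hM⁻¹, ?_, ?_⟩
  · rw [MulAction.mem_stabilizer_iff, mul_smul, mul_smul, inv_smul_smul,
      MulAction.mem_stabilizer_iff.1 hg0]
  · intro u
    have h1 := hg0t (β.symm u)
    have h2 : ((β.trans e).trans β.symm) (β.symm u) = β.symm (e u) := by
      rw [Equiv.trans_apply, Equiv.trans_apply, Equiv.apply_symm_apply]
    rw [h2] at h1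
    have h3 : g0 • (hM⁻¹ • (u : Finset GolayPt)) = hM⁻¹ • ((e u : ↥(hM • S0)) : Finset GolayPt) :=
      h1
    show (hM * g0 * hM⁻¹) • (u : Finset GolayPt) = _
    rw [mul_smul, mul_smul, h3, smul_inv_smul]

theorem transport3 {S0 : Finset (Finset GolayPt)} (hM : ↥M24)
    (H : ∃ N : Subgroup ↥(MulAction.stabilizer ↥M24 S0), N.Normal ∧ Nat.card N = 64 ∧
      ∀ x ∈ N, x * x = 1) :
    ∃ N : Subgroup ↥(MulAction.stabilizer ↥M24 (hM • S0)), N.Normal ∧ Nat.card N = 64 ∧
      ∀ x ∈ N, x * x = 1 := by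
  obtain ⟨N, hN, hc, hx⟩ := H
  have iso := MulAction.stabilizerEquivStabilizer (G := ↥M24) (a := S0) (b := hM • S0) (g := hM) rfl
  refine ⟨N.map iso.toMonoidHom, hN.map _ iso.surjective, ?_, ?_⟩
  · rw [← hc]
    exact (Nat.card_congr (N.equivMapOfInjective iso.toMonoidHom iso.injective).toEquiv).symm
  · rintro x ⟨y, hy, rfl⟩
    rw [← map_mul, hx y hy, map_one]

/-- the six tetrads of the base sextet -/
def TL : List ℕ := [15, 5264, 8536096, 4196928, 622848, 3416064]

/-- the other five tetrads with the octads they make with the first -/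
def psL : List (ℕ × ℕ) := [(5264, 345), (8536096, 2503), (4196928, 1501), (622848, 787), (3416064, 1616)]

theorem popc15 : popc 15 = 4 := by decide +kernel

theorem S0_mem : objS 15 ∈ sextets := objS_mem popc15

theorem S0_eq : objS 15 = (TL.map mset).toFinset :=
  objS_eq_of_list 15 psL popc15 (by decide +kernel) (by decide +kernel) (by decide +kernel)
    (by decide +kernel)

theorem TL_facts : (∀ k < 6, TL.getD k 0 < 2 ^ 24) ∧
    ∀ i < 6, ∀ j < 6, TL.getD i 0 = TL.getD j 0 → i = j := by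
  decide +kernel

theorem TL_inj {i j : ℕ} (hi : i < 6) (hj : j < 6) (h : mset (TL.getD i 0) = mset (TL.getD j 0)) :
    i = j :=
  TL_facts.2 i hi j hj (mset_injOn (TL_facts.1 i hi) (TL_facts.1 j hj) h)

theorem mem_S0 {t : Finset GolayPt} : t ∈ objS 15 ↔ ∃ k < 6, t = mset (TL.getD k 0) := by
  rw [S0_eq, List.mem_toFinset, List.mem_map]
  constructor
  · rintro ⟨m, hm, rfl⟩
    obtain ⟨k, hk, rfl⟩ := List.getElem_of_mem hm
    have hk' : k < 6 := hk
    exact ⟨k, hk', by rw [List.getD_eq_getElem _ _ hk]⟩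
  · rintro ⟨k, hk, rfl⟩
    have hk' : k < TL.length := hk
    exact ⟨TL.getD k 0, by rw [List.getD_eq_getElem _ _ hk']; exact List.getElem_mem _, rfl⟩

def ws : List (List ℕ) := [[1, 4, 1, 2, 4, 2, 1, 4, 4, 0, 0, 3, 1, 1, 1, 1, 4, 2, 4, 0, 0, 3, 1, 1, 1, 1, 4, 2, 1, 4, 1, 2, 4, 2, 1, 4, 2, 3, 0, 0, 0, 0, 4, 1, 1, 3, 2, 3, 0, 0, 0, 0, 4, 1, 1, 3, 1, 4, 1, 2, 4, 2, 1, 4],
  [4, 0, 0, 3, 1, 1, 1, 1, 4, 2, 4, 0, 0, 3, 1, 1, 1, 1, 4, 2, 1, 4, 1, 2, 4, 2, 1, 4, 4, 0, 0, 3, 1, 1, 1, 1, 4, 2, 1, 4, 1, 2, 4, 2, 1, 4, 2, 3, 0, 0, 0, 0, 4, 1, 1, 3, 1, 4, 1, 2, 4, 2, 1, 4, 2, 3, 0, 0, 0, 0, 4, 1, 1, 3, 2, 3, 0, 0, 0, 0, 4, 1, 1, 3],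
  [2, 3, 0, 0, 0, 0, 4, 1, 1, 3, 1, 4, 1, 2, 4, 2, 1, 4, 2, 3, 0, 0, 0, 0, 4, 1, 1, 3, 2, 3, 0, 0, 0, 0, 4, 1, 1, 3, 1, 4, 1, 2, 4, 2, 1, 4, 4, 0, 0, 3, 1, 1, 1, 1, 4, 2, 4, 0, 0, 3, 1, 1, 1, 1, 4, 2, 1, 4, 1, 2, 4, 2, 1, 4, 4, 0, 0, 3, 1, 1, 1, 1, 4, 2],
  [4, 0, 0, 3, 1, 1, 1, 1, 4, 2, 4, 0, 0, 3, 1, 1, 1, 1, 4, 2, 1, 4, 1, 2, 4, 2, 1, 4, 2, 3, 0, 0, 0, 0, 4, 1, 1, 3, 2, 3, 0, 0, 0, 0, 4, 1, 1, 3],
  [4, 0, 0, 3, 1, 1, 1, 1, 4, 2, 1, 4, 1, 2, 4, 2, 1, 4, 4, 0, 0, 3, 1, 1, 1, 1, 4, 2, 1, 4, 1, 2, 4, 2, 1, 4, 2, 3, 0, 0, 0, 0, 4, 1, 1, 3, 1, 4, 1, 2, 4, 2, 1, 4, 2, 3, 0, 0, 0, 0, 4, 1, 1, 3],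
  [1, 4, 1, 2, 4, 2, 1, 4, 2, 3, 0, 0, 0, 0, 4, 1, 1, 3, 2, 3, 0, 0, 0, 0, 4, 1, 1, 3, 1, 4, 1, 2, 4, 2, 1, 4, 4, 0, 0, 3, 1, 1, 1, 1, 4, 2, 4, 0, 0, 3, 1, 1, 1, 1, 4, 2, 1, 4, 1, 2, 4, 2, 1, 4],
  [1, 4, 1, 2, 4, 2, 1, 4, 2, 3, 0, 0, 0, 0, 4, 1, 1, 3, 1, 4, 1, 2, 4, 2, 1, 4, 4, 0, 0, 3, 1, 1, 1, 1, 4, 2, 1, 4, 1, 2, 4, 2, 1, 4],
  [1, 4, 1, 2, 4, 2, 1, 4],
  [1, 4, 1, 2, 4, 2, 1, 4, 4, 0, 0, 3, 1, 1, 1, 1, 4, 2, 1, 4, 1, 2, 4, 2, 1, 4, 2, 3, 0, 0, 0, 0, 4, 1, 1, 3, 1, 4, 1, 2, 4, 2, 1, 4],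
  [2, 3, 0, 0, 0, 0, 4, 1, 1, 3, 1, 4, 1, 2, 4, 2, 1, 4, 2, 3, 0, 0, 0, 0, 4, 1, 1, 3, 1, 4, 1, 2, 4, 2, 1, 4, 4, 0, 0, 3, 1, 1, 1, 1, 4, 2, 1, 4, 1, 2, 4, 2, 1, 4, 4, 0, 0, 3, 1, 1, 1, 1, 4, 2],
  [2, 3, 0, 0, 0, 0, 4, 1, 1, 3, 2, 3, 0, 0, 0, 0, 4, 1, 1, 3, 1, 4, 1, 2, 4, 2, 1, 4, 4, 0, 0, 3, 1, 1, 1, 1, 4, 2, 4, 0, 0, 3, 1, 1, 1, 1, 4, 2],
  [4, 0, 0, 3, 1, 1, 1, 1, 4, 2, 1, 4, 1, 2, 4, 2, 1, 4, 4, 0, 0, 3, 1, 1, 1, 1, 4, 2, 4, 0, 0, 3, 1, 1, 1, 1, 4, 2, 1, 4, 1, 2, 4, 2, 1, 4, 2, 3, 0, 0, 0, 0, 4, 1, 1, 3, 2, 3, 0, 0, 0, 0, 4, 1, 1, 3, 1, 4, 1, 2, 4, 2, 1, 4, 2, 3, 0, 0, 0, 0, 4, 1, 1, 3],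
  [2, 3, 0, 0, 0, 0, 4, 1, 1, 3, 1, 4, 1, 2, 4, 2, 1, 4, 4, 0, 0, 3, 1, 1, 1, 1, 4, 2],
  [4, 0, 0, 3, 1, 1, 1, 1, 4, 2, 1, 4, 1, 2, 4, 2, 1, 4, 2, 3, 0, 0, 0, 0, 4, 1, 1, 3, 2, 3, 0, 0, 0, 0, 4, 1, 1, 3, 1, 4, 1, 2, 4, 2, 1, 4, 4, 0, 0, 3, 1, 1, 1, 1, 4, 2, 4, 0, 0, 3, 1, 1, 1, 1, 4, 2, 1, 4, 1, 2, 4, 2, 1, 4, 2, 3, 0, 0, 0, 0, 4, 1, 1, 3],
  [4, 0, 0, 3, 1, 1, 1, 1, 4, 2, 1, 4, 1, 2, 4, 2, 1, 4, 2, 3, 0, 0, 0, 0, 4, 1, 1, 3],
  [1, 4, 1, 2, 4, 2, 1, 4, 2, 3, 0, 0, 0, 0, 4, 1, 1, 3, 1, 4, 1, 2, 4, 2, 1, 4, 2, 3, 0, 0, 0, 0, 4, 1, 1, 3, 1, 4, 1, 2, 4, 2, 1, 4, 2, 3, 0, 0, 0, 0, 4, 1, 1, 3, 1, 4, 1, 2, 4, 2, 1, 4, 2, 3, 0, 0, 0, 0, 4, 1, 1, 3, 1, 4, 1, 2, 4, 2, 1, 4, 2, 3, 0, 0, 0, 0, 4, 1, 1, 3, 1, 4, 1, 2, 4, 2, 1, 4, 2, 3, 0, 0, 0, 0, 4, 1, 1, 3],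
  [1, 4, 1, 2, 4, 2, 1, 4, 4, 0, 0, 3, 1, 1, 1, 1, 4, 2, 1, 4, 1, 2, 4, 2, 1, 4, 4, 0, 0, 3, 1, 1, 1, 1, 4, 2, 1, 4, 1, 2, 4, 2, 1, 4, 4, 0, 0, 3, 1, 1, 1, 1, 4, 2, 1, 4, 1, 2, 4, 2, 1, 4, 4, 0, 0, 3, 1, 1, 1, 1, 4, 2, 1, 4, 1, 2, 4, 2, 1, 4, 4, 0, 0, 3, 1, 1, 1, 1, 4, 2, 1, 4, 1, 2, 4, 2, 1, 4, 4, 0, 0, 3, 1, 1, 1, 1, 4, 2],
  [1, 4, 1, 2, 4, 2, 1, 4, 2, 3, 0, 0, 0, 0, 4, 1, 1, 3, 2, 3, 0, 0, 0, 0, 4, 1, 1, 3, 2, 3, 0, 0, 0, 0, 4, 1, 1, 3, 2, 3, 0, 0, 0, 0, 4, 1, 1, 3, 2, 3, 0, 0, 0, 0, 4, 1, 1, 3, 1, 4, 1, 2, 4, 2, 1, 4, 2, 3, 0, 0, 0, 0, 4, 1, 1, 3, 2, 3, 0, 0, 0, 0, 4, 1, 1, 3, 2, 3, 0, 0, 0, 0, 4, 1, 1, 3, 2, 3, 0, 0, 0, 0, 4, 1, 1, 3, 2, 3, 0, 0, 0, 0, 4, 1, 1, 3],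
  [2, 3, 0, 0, 0, 0, 4, 1, 1, 3, 1, 4, 1, 2, 4, 2, 1, 4, 2, 3, 0, 0, 0, 0, 4, 1, 1, 3, 2, 3, 0, 0, 0, 0, 4, 1, 1, 3, 2, 3, 0, 0, 0, 0, 4, 1, 1, 3, 2, 3, 0, 0, 0, 0, 4, 1, 1, 3, 2, 3, 0, 0, 0, 0, 4, 1, 1, 3, 1, 4, 1, 2, 4, 2, 1, 4, 2, 3, 0, 0, 0, 0, 4, 1, 1, 3, 2, 3, 0, 0, 0, 0, 4, 1, 1, 3, 2, 3, 0, 0, 0, 0, 4, 1, 1, 3, 2, 3, 0, 0, 0, 0, 4, 1, 1, 3],
  [2, 3, 0, 0, 0, 0, 4, 1, 1, 3, 2, 3, 0, 0, 0, 0, 4, 1, 1, 3, 1, 4, 1, 2, 4, 2, 1, 4, 2, 3, 0, 0, 0, 0, 4, 1, 1, 3, 2, 3, 0, 0, 0, 0, 4, 1, 1, 3, 2, 3, 0, 0, 0, 0, 4, 1, 1, 3, 2, 3, 0, 0, 0, 0, 4, 1, 1, 3, 2, 3, 0, 0, 0, 0, 4, 1, 1, 3, 1, 4, 1, 2, 4, 2, 1, 4, 2, 3, 0, 0, 0, 0, 4, 1, 1, 3, 2, 3, 0, 0, 0, 0, 4, 1, 1, 3, 2, 3, 0, 0, 0, 0, 4, 1, 1, 3],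
  [2, 3, 0, 0, 0, 0, 4, 1, 1, 3, 2, 3, 0, 0, 0, 0, 4, 1, 1, 3, 2, 3, 0, 0, 0, 0, 4, 1, 1, 3, 1, 4, 1, 2, 4, 2, 1, 4, 2, 3, 0, 0, 0, 0, 4, 1, 1, 3, 2, 3, 0, 0, 0, 0, 4, 1, 1, 3, 2, 3, 0, 0, 0, 0, 4, 1, 1, 3, 2, 3, 0, 0, 0, 0, 4, 1, 1, 3, 2, 3, 0, 0, 0, 0, 4, 1, 1, 3, 1, 4, 1, 2, 4, 2, 1, 4, 2, 3, 0, 0, 0, 0, 4, 1, 1, 3, 2, 3, 0, 0, 0, 0, 4, 1, 1, 3],
  [2, 3, 0, 0, 0, 0, 4, 1, 1, 3, 2, 3, 0, 0, 0, 0, 4, 1, 1, 3, 2, 3, 0, 0, 0, 0, 4, 1, 1, 3, 2, 3, 0, 0, 0, 0, 4, 1, 1, 3, 2, 3, 0, 0, 0, 0, 4, 1, 1, 3]]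
def tl : List (Fin 24 → Fin 24) := [![7, 4, 12, 10, 1, 23, 6, 0, 15, 22, 3, 11, 2, 13, 14, 8, 16, 17, 18, 19, 21, 20, 9, 5],
  ![14, 23, 17, 5, 4, 3, 11, 12, 8, 9, 10, 6, 7, 20, 0, 16, 15, 2, 18, 19, 13, 21, 22, 1],
  ![6, 9, 22, 11, 4, 14, 0, 10, 8, 1, 7, 3, 12, 20, 5, 15, 19, 17, 18, 16, 13, 21, 2, 23],
  ![8, 15, 19, 16, 7, 23, 6, 4, 0, 9, 10, 22, 12, 20, 14, 1, 3, 17, 18, 2, 13, 21, 11, 5],
  ![20, 21, 18, 13, 7, 5, 6, 4, 16, 22, 10, 11, 12, 3, 14, 15, 8, 23, 2, 19, 0, 1, 9, 17],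
  ![0, 3, 2, 1, 5, 4, 6, 14, 8, 22, 23, 11, 17, 13, 7, 19, 16, 12, 20, 15, 18, 21, 9, 10],
  ![0, 3, 2, 1, 11, 5, 10, 22, 8, 12, 6, 4, 9, 13, 17, 16, 15, 14, 21, 19, 20, 18, 7, 23],
  ![0, 1, 3, 2, 15, 5, 6, 8, 7, 11, 19, 9, 16, 21, 17, 4, 12, 14, 18, 10, 20, 13, 22, 23],
  ![2, 1, 0, 3, 13, 14, 6, 21, 15, 11, 18, 9, 20, 4, 5, 8, 16, 17, 10, 19, 12, 7, 22, 23],
  ![0, 2, 1, 3, 4, 9, 23, 7, 16, 5, 12, 17, 10, 20, 22, 15, 8, 11, 18, 19, 13, 21, 14, 6],
  ![0, 2, 1, 3, 10, 15, 6, 7, 17, 9, 4, 22, 12, 13, 16, 5, 14, 8, 20, 23, 18, 21, 11, 19],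
  ![1, 0, 2, 3, 4, 18, 22, 12, 16, 9, 10, 11, 7, 14, 13, 15, 8, 21, 5, 19, 23, 17, 6, 20],
  ![0, 2, 1, 3, 12, 5, 19, 7, 22, 15, 10, 16, 4, 18, 17, 9, 11, 14, 13, 6, 20, 21, 8, 23],
  ![0, 2, 1, 3, 4, 14, 18, 12, 19, 20, 10, 21, 7, 22, 5, 15, 16, 17, 6, 8, 9, 11, 13, 23],
  ![3, 1, 2, 0, 7, 17, 6, 4, 13, 11, 10, 9, 12, 8, 14, 21, 20, 5, 19, 18, 16, 15, 22, 23],
  ![2, 3, 0, 1, 7, 23, 22, 4, 16, 11, 12, 9, 10, 18, 17, 19, 8, 14, 13, 15, 21, 20, 6, 5],
  ![3, 2, 1, 0, 10, 23, 22, 12, 15, 11, 4, 9, 7, 20, 17, 8, 19, 14, 21, 16, 13, 18, 6, 5],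
  ![0, 1, 2, 3, 10, 17, 9, 12, 15, 6, 4, 22, 7, 13, 23, 8, 19, 5, 18, 16, 20, 21, 11, 14],
  ![1, 0, 3, 2, 4, 17, 11, 7, 19, 22, 10, 6, 12, 13, 23, 16, 15, 5, 18, 8, 20, 21, 9, 14],
  ![1, 0, 3, 2, 4, 14, 6, 7, 16, 9, 10, 11, 12, 18, 5, 19, 8, 23, 13, 15, 21, 20, 22, 17],
  ![2, 3, 0, 1, 10, 5, 6, 12, 15, 9, 4, 11, 7, 18, 14, 8, 19, 17, 13, 16, 21, 20, 22, 23],
  ![3, 1, 0, 2, 10, 17, 22, 7, 16, 9, 12, 6, 4, 18, 14, 8, 15, 23, 21, 19, 20, 13, 11, 5]]
def wl : List ℕ := [345, 2503, 1501, 787, 1616, 0, 0, 0, 0, 0, 0, 0, 0, 0, 0, 0, 0, 0, 0, 0,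
  0, 0]
def kcodes : List ℕ := [984818244535754528103549039458486304, 216318847532394293368276183264821346,
  216227626219662118351051565874283587, 596693935057177821627616253167372320,
  594097469710726884127915119936080897, 735548533734033527546468929854573569,
  984778822338565988800583747246260322, 984490757400711034068282643818023937,
  718673291653575672363843854276788322, 721269757000026622558066059189945411,
  590203682822890736552221651864912963, 216357873600481717532560151321610272,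
  718582466469944612485300561041687619, 721178456433366701745969262992851042,
  589876195687847248275933451517984866, 216031257977568192633985706410183681,
  964048898635769892387945499611696129, 222808941315343168920901544778468353,
  596654750537752186788767474980520034, 220213109803259289183002082616117280,
  594058443642639447269110080197362755, 735587559802120952862548468252542019,
  596366844051235442731031181682347009, 593770854087813340775841408049317920,
  735457312421301346770266117170628640, 984687521771906074924029827437560899,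
  237088193432378916389358651429618755, 967943160906634882443693203669386307,
  718712872302102422341373956619077664, 970538992418718774876113737513730146,
  721309179197215149166510279720242177, 590164260625702196097460789311507457,
  236996496736617905827622674440945762, 967616069900692509306086327477895266,
  718385860550087782304118187552214017, 970212376795805237283018220920374339,
  720981692062171673584743151055243296, 590072960059042287979885064796342304,
  714779504765739530547128581499226144, 964009317987243155104936468951336003,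
  222848521963869917746636076779308099, 220252532000447816943241873487593570,
  963721886883755259286232606933354528, 222718116131712103283380056249960480,
  596563053841991157773532231016383555, 220121809236599362611927091125488641,
  593967222329907279187428339195347042, 735260944179207422204995828047708258,
  610972711791184720857040928538394722, 237127377951804563922728501298400257,
  967903976387209248756639995823983617, 970499966350631336865513127433832480,
  610645700039170093514306231153460291, 236800286945862178090600553424980000,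
  967812279691448225500382947153381408, 970408745037899174542809581725223937,
  714818689285165176928702861026558050, 714687808069978514226414409217018881,
  963918492803612076772893908740898914, 222521510211855271950402112419037282,
  219925044865404335602496549529060419, 610933131142657984725827468219484192,
  610842305959026912152763103302454273, 714491598279222785337596717859603523,
  222524165936570818835595172700553251, 735538121081885229971598402105936960,
  735585295266475675969640825324930050, 589879009994598400705324699663532067,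
  593773272239244812550696710191450209, 970489553582408451241520087716333665,
  222799083951813247101234376597343296, 222728137594825547317550033949165665,
  967893722055968579688671553496583232, 963999459811322166689252172815762434,
  610648355879924810700000282071368706, 735263361518283243837670669351452707,
  967940737788918583555002505573270530, 964046079391748131510436802311785536,
  610852327538179526512203113674345536, 735467570877421557717355722545563745,
  236802546544272263994796768615204961, 714769250550573448545230539064346721,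
  590154244912215009648582300077689920, 718663433593729272021488522959585315,
  594048031802846799838671813098963970, 970214794018806470866570206668489730,
  590082823201212687055568089769838689, 593977481598383140254181163184226339,
  970536727766998909909314540580962339, 222845703532239223438123665586226178,
  721259740474183785966444176344187906, 219927859056116318714438919114556418,
  967618328686711528613702481940119587, 216033676012960494084133565066415168,
  963724541796079739577660339071748193, 610923273895167233206661634261518433,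
  721306518506250190611245536676711488, 220131672262730592394930279575227456,
  967822696497490284625099006276536417, 216237885372098809117865988413555714,
  963928513454334454235815800521949219, 610969893475593196873798893604765731,
  984768805696648565168223095730798627, 237077939913529313915718470018892802,
  714493857181316391711283615801377794, 718388515578486850668874540922211392,
  237006914355051031521897952444481571, 714816266283523465081313520786669603,
  590201022944281428117183060208878594, 718710053174155249512425182101244001,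
  594095205987437257352418895810563136, 970419003377944797416007289508236352,
  596369103765684697927344644209806400, 720984505556567175869139205777000545,
  220203093973732933416674371235219553, 216308435576562475613130816267288611,
  596573471576463452784693798393447426, 721188318763181450703677936390701091,
  220249872005799339215523101720772643, 216355609761152920457125869333252193,
  984493570779031949311940273457105984, 984815583728714982482776485708957793,
  237124955646479331605848821893991488, 714698224992095160392432169783430208,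
  718592487236741577996782032018048002, 596644497134941753607244197319999523,
  596691512867891758627622519549462625, 984697383985646236816231033716442114,
  714697106770760535845077733481647138, 970496212808827015390348001173080067,
  970215741404391251045574791881884768, 610850734554775369751251064736189474,
  593976047059214753531552528636936257, 216315094222721439057161149613178945,
  714775275269861278383392636205565955, 714809777892805161461571615019073601,
  220209277253334662128322717451061251, 237083964748895272577784402785928288,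
  596572353935438013790207072067978336, 970417568954804955689277646245465122,
  219929281203820214946304960363562080, 236804127160390447245680973556254723,
  596685025057482640558496592663971843, 970530556970761283540645141951905857,
  721187359010261112599443861430960193, 984774989556509895158315093313290305,
  610929774537142965928995792890136579, 967899747471594139052015980648598562,
  594054690913236819002859734329001056, 216236450368699366686339520931103840,
  610963881031741312530500398477312065, 594089035075171086001361236049005602,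
  216034622818285673560592301263162402, 714495437681356446129256717152748640,
  964005960569326444406218723988407392, 718590893673028235109316201847784544,
  220130712625888383113333441500810274, 735466135757943985445378463747835907,
  237005796249794535809706350826586177, 596650522434538768998273248546357313,
  963725647625900290370886141026011139, 718704040149994179040361174647474179,
  220243225286923393801945485003554881, 735579123773900319066982810218726496,
  237118467371839156807759020658002978, 596370684846033937895932968552107042,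
  222805584129557923538772899940797474, 721265923637707385844196286616634464,
  984696424929063628813077091117499488, 967821578972493389614186654934796291,
  721299871671296116366023415110306850, 984494993506995446824501697166969890,
  610649461593716816512104421633623136, 967619909883089312568116912360357953,
  593774219508801047736054035214534659, 216349438384655693385911377578723331,
  590081864028601535078832172504745987, 963926920586958842458237145070010433,
  718669933655395818617309656247271489, 735544779611966063586436943194360866,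
  590194376689636539997207365242913888, 964040067063924792159518968634149922,
  718389620711969670352213924049325090, 735264308207530293471426883138715713,
  222726544147190334260542594776860675, 222525271186131768351644677919834177,
  720985927588192943280619741234890755, 984808937590098638349893495561422851,
  967934250094538009460443685707646048, 590160428656047795653833323935960098,
  589880432606533354242052417613037633, 222839690624156282810028779282433120]
def kc : List (ℕ × ℕ) := [(0, 0), (0, 0), (1, 0), (2, 0), (3, 0), (4, 0), (5, 0), (1, 1), (2, 1), (3, 1), (4, 1), (5, 1),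
  (2, 2), (3, 2), (4, 2), (5, 2), (3, 3), (4, 3), (5, 3), (4, 4), (5, 4), (5, 5), (2, 7), (3, 7),
  (4, 7), (5, 7), (3, 8), (4, 8), (5, 8), (4, 9), (5, 9), (5, 10), (3, 12), (4, 12), (5, 12), (4, 13),
  (5, 13), (5, 14), (4, 16), (5, 16), (5, 17), (5, 19), (3, 22), (4, 22), (5, 22), (4, 23), (5, 23), (5, 24),
  (4, 26), (5, 26), (5, 27), (5, 29), (4, 32), (5, 32), (5, 33), (5, 35), (5, 38), (4, 42), (5, 42), (5, 43),
  (5, 45), (5, 48), (5, 52), (5, 57), (6, 0), (6, 1), (6, 2), (6, 3), (6, 4), (6, 5), (6, 6), (6, 7),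
  (6, 8), (6, 9), (6, 10), (6, 11), (6, 12), (6, 13), (6, 14), (6, 15), (6, 16), (6, 17), (6, 18), (6, 19),
  (6, 20), (6, 21), (6, 22), (6, 23), (6, 24), (6, 25), (6, 26), (6, 27), (6, 28), (6, 29), (6, 30), (6, 31),
  (6, 32), (6, 33), (6, 34), (6, 35), (6, 36), (6, 37), (6, 38), (6, 39), (6, 40), (6, 41), (6, 42), (6, 43),
  (6, 44), (6, 45), (6, 46), (6, 47), (6, 48), (6, 49), (6, 50), (6, 51), (6, 52), (6, 53), (6, 54), (6, 55),
  (6, 56), (6, 57), (6, 58), (6, 59), (6, 60), (6, 61), (6, 62), (6, 63), (6, 64), (6, 65), (6, 66), (6, 67),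
  (6, 68), (6, 69), (6, 70), (6, 71), (6, 72), (6, 73), (6, 74), (6, 75), (6, 76), (6, 77), (6, 78), (6, 79),
  (6, 80), (6, 81), (6, 82), (6, 83), (6, 84), (6, 85), (6, 86), (6, 87), (6, 88), (6, 89), (6, 90), (6, 91),
  (6, 92), (6, 93), (6, 94), (6, 95), (6, 96), (6, 97), (6, 98), (6, 99), (6, 100), (6, 101), (6, 102), (6, 103),
  (6, 104), (6, 105), (6, 106), (6, 107), (6, 108), (6, 109), (6, 110), (6, 111), (6, 112), (6, 113), (6, 114), (6, 115),
  (6, 116), (6, 117), (6, 118), (6, 119), (6, 120), (6, 121), (6, 122), (6, 123), (6, 124), (6, 125), (6, 126), (6, 127)]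

theorem tl_ok : ∀ l < tl.length, ∀ i : Fin 24, tl.getD l id i = evalT (ws.getD l []) i := by
  decide +kernel

theorem tl_fix : ∀ l < tl.length, chkS (tl.getD l id) 15 15 (wl.getD l 0) = true := by
  decide +kernel

theorem good : GoodTabs (stabX objS 15) (tabOf tl) :=
  goodTabs_stabX soundS 15 ws tl wl tl_ok tl_fix

theorem mem_stab_iff (g : ↥M24) :
    g ∈ MulAction.stabilizer ↥M24 (objS 15) ↔ (g : Equiv.Perm GolayPt) ∈ stabX objS 15 := by
  rw [MulAction.mem_stabilizer_iff, mem_stabX]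
  exact ⟨fun h => ⟨g.2, h⟩, fun h => h.2⟩

/-- position of a pair in the list of transposing elements -/
def pidx (i j : ℕ) : ℕ := ([0, 5, 9, 12, 14] : List ℕ).getD i 0 + (j - i - 1)

theorem sw_ok : ∀ i < 6, ∀ j < 6, i < j → ∀ k < 6,
    pullMask (tabOf tl (pidx i j)) (TL.getD k 0) =
      TL.getD (if k = i then j else if k = j then i else k) 0 := by
  decide +kernel

/-- a table coded by a number -/
def tabN (c : ℕ) : Fin 24 → Fin 24 :=
  fun i => ⟨((c >>> (5 * i.val)) &&& 31) % 24, Nat.mod_lt _ (by norm_num)⟩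

/-- the tables of the elements of the kernel -/
def ktab (l : ℕ) : Fin 24 → Fin 24 := tabN (kcodes.getD l 0)

theorem kc_ok : ∀ l < 192, l ≠ 0 → (kc.getD l (0, 0)).2 < l ∧ ∀ i : Fin 24,
    ktab l i = tabOf tl (15 + (kc.getD l (0, 0)).1) (ktab (kc.getD l (0, 0)).2 i) := by
  decide +kernel

theorem k0 : ∀ i : Fin 24, ktab 0 i = i := by decide +kernel

theorem goodK : ∀ l, l < 192 → ∃ g ∈ stabX objS 15, HasTable g⁻¹ (ktab l) := by
  intro l
  induction l using Nat.strong_induction_on with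
  | _ l ih =>
    intro hl
    by_cases h0 : l = 0
    · subst h0
      refine ⟨1, one_mem _, ?_⟩
      rw [inv_one]
      intro i
      rw [k0 i]
      rfl
    · obtain ⟨hp, hi⟩ := kc_ok l hl h0
      obtain ⟨h, hh, hT⟩ := ih _ hp (lt_trans hp hl)
      obtain ⟨g, hg, hS⟩ := good (15 + (kc.getD l (0, 0)).1)
      refine ⟨h * g, mul_mem hh hg, ?_⟩
      rw [mul_inv_rev]
      intro i
      rw [(hS.mul hT) i, Function.comp_apply, hi i]

theorem ker_ok : ∀ l < 192, ∀ k < 6, pullMask (ktab l) (TL.getD k 0) = TL.getD k 0 := by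
  decide +kernel

theorem kcodes_length : kcodes.length = 192 := by decide +kernel

/-- the code of a table -/
def recode (T : Fin 24 → Fin 24) : ℕ :=
  (List.range 24).foldr (fun i acc => acc * 32 + (if h : i < 24 then (T ⟨i, h⟩).val else 0)) 0

theorem recode_ok : ∀ c ∈ kcodes, recode (tabN c) = c := by decide +kernel

theorem kcodes_nodup : kcodes.Nodup := by decide +kernel

theorem comm_codes : ∀ c ∈ kcodes.take 64, ∀ c' ∈ kcodes.take 64, ∀ i : Fin 24,
    tabN c (tabN c' i) = tabN c' (tabN c i) := by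
  decide +kernel

theorem mem_take {l : ℕ} (hl : l < 64) : kcodes.getD l 0 ∈ kcodes.take 64 := by
  have h192 := kcodes_length
  have h1 : l < (kcodes.take 64).length := by rw [List.length_take, h192]; omega
  have h2 : (kcodes.take 64)[l]'h1 = kcodes[l]'(by omega) := List.getElem_take
  rw [List.getD_eq_getElem _ _ (by omega), ← h2]
  exact List.getElem_mem h1

theorem swap_mem_aux (i j : ℕ) (hi : i < 6) (hj : j < 6) (hij : i < j) (a b : ↥(objS 15))
    (ha : (a : Finset GolayPt) = mset (TL.getD i 0)) (hb : (b : Finset GolayPt) = mset (TL.getD j 0)) :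
    Equiv.swap a b ∈ (phi (objS 15)).range := by
  obtain ⟨g, hg, hT⟩ := good (pidx i j)
  have hgM : g ∈ M24 := (mem_stabX.1 hg).1
  refine ⟨⟨⟨g, hgM⟩, (mem_stab_iff _).2 hg⟩, ?_⟩
  apply Equiv.ext
  intro t
  apply Subtype.ext
  rw [phi_apply]
  show g • (t : Finset GolayPt) = _
  obtain ⟨k, hk, ht⟩ := mem_S0.1 t.2
  rw [ht, smul_mset hT, sw_ok i hi j hj hij k hk]
  by_cases hki : k = i
  · have hta : t = a := Subtype.ext (by rw [ht, ha, hki])
    rw [hta, Equiv.swap_apply_left, if_pos hki, hb]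
  · by_cases hkj : k = j
    · have htb : t = b := Subtype.ext (by rw [ht, hb, hkj])
      rw [htb, Equiv.swap_apply_right, if_neg hki, if_pos hkj, ha]
    · have hta : t ≠ a := by
        intro h
        apply hki
        apply TL_inj hk hi
        rw [← ht, ← ha, h]
      have htb : t ≠ b := by
        intro h
        apply hkj
        apply TL_inj hk hj
        rw [← ht, ← hb, h]
      rw [Equiv.swap_apply_of_ne_of_ne hta htb, if_neg hki, if_neg hkj, ht]

theorem swap_mem (a b : ↥(objS 15)) (hab : a ≠ b) : Equiv.swap a b ∈ (phi (objS 15)).range := by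
  obtain ⟨i, hi, ha⟩ := mem_S0.1 a.2
  obtain ⟨j, hj, hb⟩ := mem_S0.1 b.2
  have hij : i ≠ j := by
    intro h
    apply hab
    apply Subtype.ext
    rw [ha, hb, h]
  rcases Nat.lt_or_gt_of_ne hij with h | h
  · exact swap_mem_aux i j hi hj h a b ha hb
  · rw [Equiv.swap_comm]
    exact swap_mem_aux j i hj hi h b a hb ha

theorem phi_surj : Function.Surjective (phi (objS 15)) := by
  rw [← MonoidHom.range_eq_top, eq_top_iff, ← Equiv.Perm.closure_isSwap, Subgroup.closure_le]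
  rintro σ ⟨a, b, hab, rfl⟩
  exact swap_mem a b hab

theorem card_K1 : Nat.card ↥(phi (objS 15)).ker = 192 := card_ker _ S0_mem phi_surj

theorem table_unique {g : Equiv.Perm GolayPt} {S T : Fin 24 → Fin 24} (hS : HasTable g S)
    (hT : HasTable g T) : S = T := by
  funext i
  apply gpt_bij.injective
  rw [← hS i, ← hT i]

theorem eq_of_table {g h : Equiv.Perm GolayPt} {T : Fin 24 → Fin 24} (hg : HasTable g T)
    (hh : HasTable h T) : g = h := by
  apply Equiv.ext
  intro q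
  obtain ⟨i, rfl⟩ := gpt_bij.surjective q
  rw [hg i, hh i]

/-- coercion of an element of the stabilizer to a permutation of the points -/
def toP (x : ↥(MulAction.stabilizer ↥M24 (objS 15))) : Equiv.Perm GolayPt :=
  ((x : ↥M24) : Equiv.Perm GolayPt)

theorem toP_mul (x y : ↥(MulAction.stabilizer ↥M24 (objS 15))) : toP (x * y) = toP x * toP y := rfl

theorem toP_inj : Function.Injective toP := fun _ _ h => Subtype.ext (Subtype.ext h)

theorem kel_exists (l : Fin 192) : ∃ x : ↥(MulAction.stabilizer ↥M24 (objS 15)),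
    x ∈ (phi (objS 15)).ker ∧ HasTable (toP x)⁻¹ (ktab l) := by
  obtain ⟨g, hg, hT⟩ := goodK l l.2
  have hgM : g ∈ M24 := (mem_stabX.1 hg).1
  refine ⟨⟨⟨g, hgM⟩, (mem_stab_iff _).2 hg⟩, ?_, hT⟩
  rw [mem_ker_phi]
  intro t ht
  obtain ⟨k, hk, rfl⟩ := mem_S0.1 ht
  show g • mset (TL.getD k 0) = _
  rw [smul_mset hT, ker_ok l l.2 k hk]

/-- the elements of the kernel -/
noncomputable def kel (l : Fin 192) : ↥(MulAction.stabilizer ↥M24 (objS 15)) :=
  Classical.choose (kel_exists l)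

theorem kel_ker (l : Fin 192) : kel l ∈ (phi (objS 15)).ker := (Classical.choose_spec (kel_exists l)).1

theorem kel_tab (l : Fin 192) : HasTable (toP (kel l))⁻¹ (ktab l) :=
  (Classical.choose_spec (kel_exists l)).2

theorem ktab_inj {l l' : ℕ} (hl : l < 192) (hl' : l' < 192) (h : ktab l = ktab l') : l = l' := by
  have h192 := kcodes_length
  unfold ktab at h
  rw [List.getD_eq_getElem _ _ (by omega : l < kcodes.length),
    List.getD_eq_getElem _ _ (by omega : l' < kcodes.length)] at h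
  have h2 := congrArg recode h
  rw [recode_ok _ (List.getElem_mem _), recode_ok _ (List.getElem_mem _)] at h2
  exact (List.Nodup.getElem_inj_iff kcodes_nodup).1 h2

theorem kel_inj : Function.Injective kel := by
  intro l l' h
  have h1 := kel_tab l
  rw [h] at h1
  exact Fin.ext (ktab_inj l.2 l'.2 (table_unique h1 (kel_tab l')))

theorem kel_surj (x : ↥(MulAction.stabilizer ↥M24 (objS 15))) (hx : x ∈ (phi (objS 15)).ker) :
    ∃ l, kel l = x := by
  have hinj : Function.Injective (fun l : Fin 192 => (⟨kel l, kel_ker l⟩ : ↥(phi (objS 15)).ker)) :=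
    fun l l' h => kel_inj (congrArg Subtype.val h)
  have hb := hinj.bijective_of_nat_card_le (by
    rw [card_K1, Nat.card_eq_fintype_card, Fintype.card_fin])
  obtain ⟨l, hl⟩ := hb.2 ⟨x, hx⟩
  exact ⟨l, congrArg Subtype.val hl⟩


theorem sq_tab : ∀ l < 192, (∀ i : Fin 24, ktab l (ktab l i) = i) ↔ l < 64 := by
  decide +kernel

theorem comm_tab : ∀ l < 64, ∀ l' < 64, ∀ i : Fin 24,
    ktab l (ktab l' i) = ktab l' (ktab l i) := by
  intro l hl l' hl' i
  exact comm_codes _ (mem_take hl) _ (mem_take hl') i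

theorem sq_iff (l : Fin 192) : kel l * kel l = 1 ↔ (l : ℕ) < 64 := by
  have key : kel l * kel l = 1 ↔
      ∀ i : Fin 24, ktab l (ktab l i) = i := by
    have hT := (kel_tab l).mul (kel_tab l)
    constructor
    · intro h
      have h2 : (toP (kel l))⁻¹ * (toP (kel l))⁻¹ = 1 := by
        rw [← mul_inv_rev, ← toP_mul, h]
        rfl
      rw [h2] at hT
      intro i
      exact (congrFun (table_unique hT HasTable.one) i)
    · intro h
      have h2 : (toP (kel l))⁻¹ * (toP (kel l))⁻¹ = 1 := by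
        apply eq_of_table hT
        intro i
        show (1 : Equiv.Perm GolayPt) (gpt i) = gpt _
        rw [Function.comp_apply, h i]
        rfl
      apply toP_inj
      rw [toP_mul]
      have h3 : (toP (kel l) * toP (kel l))⁻¹ = 1 := by rw [mul_inv_rev]; exact h2
      exact inv_eq_one.1 h3
  rw [key]
  exact sq_tab l l.2

theorem comm_of_lt (l l' : Fin 192) (hl : (l : ℕ) < 64) (hl' : (l' : ℕ) < 64) :
    kel l * kel l' = kel l' * kel l := by
  apply toP_inj
  rw [toP_mul, toP_mul]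
  have h1 := (kel_tab l).mul (kel_tab l')
  have h2 := (kel_tab l').mul (kel_tab l)
  have h3 : (toP (kel l))⁻¹ * (toP (kel l'))⁻¹ = (toP (kel l'))⁻¹ * (toP (kel l))⁻¹ := by
    apply eq_of_table h1
    intro i
    rw [h2 i, Function.comp_apply, Function.comp_apply, comm_tab l hl l' hl' i]
  rw [← mul_inv_rev, ← mul_inv_rev] at h3
  exact (inv_injective h3).symm

/-- the normal subgroup -/
def N0 : Subgroup ↥(MulAction.stabilizer ↥M24 (objS 15)) where
  carrier := {x | x ∈ (phi (objS 15)).ker ∧ x * x = 1}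
  one_mem' := ⟨one_mem _, mul_one 1⟩
  mul_mem' := by
    intro x y hx hy
    refine ⟨mul_mem hx.1 hy.1, ?_⟩
    obtain ⟨l, rfl⟩ := kel_surj x hx.1
    obtain ⟨l', rfl⟩ := kel_surj y hy.1
    have hl := (sq_iff l).1 hx.2
    have hl' := (sq_iff l').1 hy.2
    calc kel l * kel l' * (kel l * kel l') = kel l * (kel l' * kel l) * kel l' := by group
      _ = kel l * (kel l * kel l') * kel l' := by rw [comm_of_lt l' l hl' hl]
      _ = (kel l * kel l) * (kel l' * kel l') := by group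
      _ = 1 := by rw [hx.2, hy.2, mul_one]
  inv_mem' := by
    intro x hx
    exact ⟨inv_mem hx.1, by rw [← mul_inv_rev, hx.2, inv_one]⟩

theorem N0_normal : N0.Normal := by
  constructor
  intro n hn g
  refine ⟨(MonoidHom.normal_ker (phi (objS 15))).conj_mem n hn.1 g, ?_⟩
  calc g * n * g⁻¹ * (g * n * g⁻¹) = g * (n * n) * g⁻¹ := by group
    _ = 1 := by rw [hn.2, mul_one, mul_inv_cancel]

theorem card_N0 : Nat.card ↥N0 = 64 := by
  have h1 : (N0 : Set ↥(MulAction.stabilizer ↥M24 (objS 15))) =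
      kel '' {l : Fin 192 | (l : ℕ) < 64} := by
    ext x
    constructor
    · intro hx
      obtain ⟨l, rfl⟩ := kel_surj x hx.1
      exact ⟨l, (sq_iff l).1 hx.2, rfl⟩
    · rintro ⟨l, hl, rfl⟩
      exact ⟨kel_ker l, (sq_iff l).2 hl⟩
  have h2 : Nat.card ↥N0 = (N0 : Set ↥(MulAction.stabilizer ↥M24 (objS 15))).ncard := rfl
  rw [h2, h1, Set.ncard_image_of_injective _ kel_inj, Set.ncard_eq_toFinset_card']
  decide +kernel

theorem base3 : ∃ N : Subgroup ↥(MulAction.stabilizer ↥M24 (objS 15)), N.Normal ∧ Nat.card N = 64 ∧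
    ∀ x ∈ N, x * x = 1 :=
  ⟨N0, N0_normal, card_N0, fun _ hx => hx.2⟩


/-- Structure of a sextet stabiliser: it induces every permutation of the six tetrads, the subgroup fixing each tetrad setwise has order 192, and there is a normal subgroup of order 64 consisting of elements squaring to the identity. -/
theorem result (S : Finset (Finset Cfsg.GolayPt)) (hS : S ∈ Cfsg.sextets) : (∀ e : Equiv.Perm ↥S, ∃ g ∈ MulAction.stabilizer Cfsg.M24 S, ∀ t : ↥S, (g : Equiv.Perm Cfsg.GolayPt) • (t : Finset Cfsg.GolayPt) = ((e t : ↥S) : Finset Cfsg.GolayPt)) ∧ Nat.card {g : ↥(MulAction.stabilizer Cfsg.M24 S) // ∀ t ∈ S, ((g : Cfsg.M24) : Equiv.Perm Cfsg.GolayPt) • t = t} = 192 ∧ ∃ N : Subgroup ↥(MulAction.stabilizer Cfsg.M24 S), N.Normal ∧ Nat.card N = 64 ∧ ∀ x ∈ N, x * x = 1 := by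
  obtain ⟨h, hh, rfl⟩ := M24_trans_sextets S0_mem hS
  have e : h • objS 15 = (⟨h, hh⟩ : ↥M24) • objS 15 := rfl
  rw [e] at hS ⊢
  have p1 := transport1 (⟨h, hh⟩ : ↥M24) (part1_of_surj _ phi_surj)
  have hsurj := surj_of_part1 _ p1
  exact ⟨p1, part2_of_surj _ hS hsurj, transport3 (⟨h, hh⟩ : ↥M24) base3⟩

end Cfsg.Agent.S1551
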