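import Cfsg.Statements.S1554
import Mathlib
import Cfsg.Agent.Lib.Helper1.M24OctStab

set_option autoImplicit false
open scoped Pointwise
open Cfsg

namespace Cfsg.Agent.S1554


open Cfsg.Agent.Lib.Helper1

theorem octFix_le_stabO (o : Finset GolayPt) : octFix o ≤ stabO o := by
  intro g hg
  have hk := mem_octFix.1 hg
  rw [mem_stabO]
  refine ⟨hk.1, ?_⟩
  rw [smul_eq_iff_mem]
  intro x
  constructor
  · intro hx
    have := hk.2 _ hx
    have h3 : g x = x := g.injective this
    rw [← h3]; exact hx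
  · intro hx
    rw [hk.2 x hx]; exact hx

theorem octFix_inf_stab (o : Finset GolayPt) (ho : o ∈ octads) (p : GolayPt) (hp : p ∉ o) :
    octFix o ⊓ MulAction.stabilizer (Equiv.Perm GolayPt) p = ⊥ := by
  rw [eq_bot_iff]
  intro g hg
  rw [Subgroup.mem_inf] at hg
  rw [Subgroup.mem_bot]
  exact octFix_regular o ho hg.1 hp (MulAction.mem_stabilizer_iff.1 hg.2)

theorem orbit_octFix (o : Finset GolayPt) (ho : o ∈ octads) (p : GolayPt) (hp : p ∉ o) :
    MulAction.orbit ↥(octFix o) p = ((oᶜ : Finset GolayPt) : Set GolayPt) := by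
  have h := card_eq_ncard_orbit_mul (G := Equiv.Perm GolayPt) (octFix o) p
  rw [octFix_inf_stab o ho p hp, (octFix_main o ho).1, Subgroup.card_bot, mul_one] at h
  apply Set.eq_of_subset_of_ncard_le
  · rintro _ ⟨g, rfl⟩
    rw [Finset.mem_coe, Finset.mem_compl]
    intro hcon
    have hg := mem_octFix.1 g.2
    have h1 : (g.1 : Equiv.Perm GolayPt) ((g.1 : Equiv.Perm GolayPt) p) = (g.1 : Equiv.Perm GolayPt) p :=
      hg.2 _ hcon
    have h2 : (g.1 : Equiv.Perm GolayPt) p = p := (g.1 : Equiv.Perm GolayPt).injective h1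
    exact hp (h2 ▸ hcon)
  · rw [Set.ncard_coe_finset, Finset.card_compl, ← h, ho.2, fintype_card_golayPt]
  · exact Set.toFinite _

theorem exists_octFix_map (o : Finset GolayPt) (ho : o ∈ octads) (p q : GolayPt) (hp : p ∉ o)
    (hq : q ∉ o) : ∃ a ∈ octFix o, a p = q := by
  have hq' : q ∈ MulAction.orbit ↥(octFix o) p := by
    rw [orbit_octFix o ho p hp, Finset.mem_coe, Finset.mem_compl]
    exact hq
  obtain ⟨a, rfl⟩ := hq'
  exact ⟨a.1, a.2, rfl⟩

theorem orbit_stabO (o : Finset GolayPt) (ho : o ∈ octads) (p : GolayPt) (hp : p ∉ o) :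
    MulAction.orbit ↥(stabO o) p = ((oᶜ : Finset GolayPt) : Set GolayPt) := by
  apply Set.Subset.antisymm
  · rintro _ ⟨g, rfl⟩
    rw [Finset.mem_coe, Finset.mem_compl]
    intro hcon
    exact hp ((smul_eq_iff_mem.1 (mem_stabO.1 g.2).2 p).1 hcon)
  · intro q hq
    rw [Finset.mem_coe, Finset.mem_compl] at hq
    obtain ⟨a, ha, rfl⟩ := exists_octFix_map o ho p q hp hq
    exact ⟨⟨a, octFix_le_stabO o ha⟩, rfl⟩

theorem card_B (o : Finset GolayPt) (ho : o ∈ octads) (p : GolayPt) (hp : p ∉ o) :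
    Nat.card ↥(stabO o ⊓ MulAction.stabilizer (Equiv.Perm GolayPt) p) = 20160 := by
  have h := card_eq_ncard_orbit_mul (G := Equiv.Perm GolayPt) (stabO o) p
  rw [orbit_stabO o ho p hp, card_stabO o ho, Set.ncard_coe_finset, Finset.card_compl, ho.2,
    fintype_card_golayPt] at h
  omega

/-- restriction of `octRho` to the stabilizer of an outside point, with values in the
alternating group -/
noncomputable def rhoB (o : Finset GolayPt) (ho : o ∈ octads) (p : GolayPt) :
    ↥(stabO o ⊓ MulAction.stabilizer (Equiv.Perm GolayPt) p) →* ↥(alternatingGroup ↥o) :=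
  ((octRho o).comp (Subgroup.inclusion inf_le_left)).codRestrict (alternatingGroup ↥o) (by
    intro g
    rw [← range_octRho o ho]
    exact ⟨_, rfl⟩)

theorem rhoB_injective (o : Finset GolayPt) (ho : o ∈ octads) (p : GolayPt) (hp : p ∉ o) :
    Function.Injective (rhoB o ho p) := by
  rw [injective_iff_map_eq_one]
  intro g hg
  have h1 : octRho o (Subgroup.inclusion inf_le_left g) = 1 := by
    have := congrArg Subtype.val hg
    exact this
  have h2 : g.1 ∈ octFix o := by
    rw [mem_octFix]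
    refine ⟨(mem_stabO.1 (Subgroup.mem_inf.1 g.2).1).1, fun x hx => ?_⟩
    have h3 := congrArg (fun e : Equiv.Perm ↥o => ((e ⟨x, hx⟩ : ↥o) : GolayPt)) h1
    exact h3
  have h4 : g.1 ∈ octFix o ⊓ MulAction.stabilizer (Equiv.Perm GolayPt) p :=
    Subgroup.mem_inf.2 ⟨h2, (Subgroup.mem_inf.1 g.2).2⟩
  rw [octFix_inf_stab o ho p hp, Subgroup.mem_bot] at h4
  exact Subtype.ext h4

theorem card_alt (o : Finset GolayPt) (ho : o ∈ octads) : Nat.card ↥(alternatingGroup ↥o) = 20160 := by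
  rw [← range_octRho o ho]
  exact card_range_octRho o ho


/-- An octad stabiliser is a split extension: the joint stabiliser of the octad and a point outside it is a complement to the pointwise stabiliser of the octad, and is isomorphic to the alternating group of degree 8. -/
theorem result (o : Finset Cfsg.GolayPt) (ho : o ∈ Cfsg.octads) (p : Cfsg.GolayPt) (hp : p ∉ o) : (Cfsg.M24 ⊓ fixingSubgroup (Equiv.Perm Cfsg.GolayPt) (o : Set Cfsg.GolayPt)) ⊓ (Cfsg.M24 ⊓ MulAction.stabilizer (Equiv.Perm Cfsg.GolayPt) o ⊓ MulAction.stabilizer (Equiv.Perm Cfsg.GolayPt) p) = ⊥ ∧ (Cfsg.M24 ⊓ fixingSubgroup (Equiv.Perm Cfsg.GolayPt) (o : Set Cfsg.GolayPt)) ⊔ (Cfsg.M24 ⊓ MulAction.stabilizer (Equiv.Perm Cfsg.GolayPt) o ⊓ MulAction.stabilizer (Equiv.Perm Cfsg.GolayPt) p) = (Cfsg.M24 ⊓ MulAction.stabilizer (Equiv.Perm Cfsg.GolayPt) o) ∧ Nonempty (↥(Cfsg.M24 ⊓ MulAction.stabilizer (Equiv.Perm Cfsg.GolayPt) o ⊓ MulAction.stabilizer (Equiv.Perm Cfsg.GolayPt) p) ≃* alternatingGroup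 (Fin 8)) := by
  have hA : (Cfsg.M24 ⊓ fixingSubgroup (Equiv.Perm Cfsg.GolayPt) (o : Set Cfsg.GolayPt)) = octFix o := rfl
  have hC : (Cfsg.M24 ⊓ MulAction.stabilizer (Equiv.Perm Cfsg.GolayPt) o) = stabO o := rfl
  rw [hA, hC]
  refine ⟨?_, ?_, ?_⟩
  · rw [eq_bot_iff]
    intro g hg
    rw [Subgroup.mem_inf] at hg
    have h2 : g ∈ octFix o ⊓ MulAction.stabilizer (Equiv.Perm GolayPt) p :=
      Subgroup.mem_inf.2 ⟨hg.1, (Subgroup.mem_inf.1 hg.2).2⟩
    rw [octFix_inf_stab o ho p hp] at h2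
    exact h2
  · apply le_antisymm
    · exact sup_le (octFix_le_stabO o) inf_le_left
    · intro g hg
      have hgp : g p ∉ o := by
        intro hcon
        exact hp ((smul_eq_iff_mem.1 (mem_stabO.1 hg).2 p).1 hcon)
      obtain ⟨a, ha, hap⟩ := exists_octFix_map o ho (g p) p hgp hp
      have h1 : a * g ∈ stabO o ⊓ MulAction.stabilizer (Equiv.Perm GolayPt) p := by
        refine Subgroup.mem_inf.2 ⟨mul_mem (octFix_le_stabO o ha) hg, ?_⟩
        rw [MulAction.mem_stabilizer_iff]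
        show (a * g) p = p
        rw [Equiv.Perm.mul_apply, hap]
      have h2 : g = a⁻¹ * (a * g) := by group
      rw [h2]
      exact mul_mem (Subgroup.mem_sup_left (inv_mem ha)) (Subgroup.mem_sup_right h1)
  · have hbij : Function.Bijective (rhoB o ho p) := by
      rw [Nat.bijective_iff_injective_and_card]
      exact ⟨rhoB_injective o ho p hp, by rw [card_B o ho p hp, card_alt o ho]⟩
    have e1 : ↥(stabO o ⊓ MulAction.stabilizer (Equiv.Perm GolayPt) p) ≃* ↥(alternatingGroup ↥o) :=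
      MulEquiv.ofBijective (rhoB o ho p) hbij
    have e2 : ↥o ≃ Fin 8 := Finset.equivFinOfCardEq ho.2
    exact ⟨e1.trans (Equiv.altCongrHom e2)⟩

end Cfsg.Agent.S1554
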