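import Cfsg.Statements.S1604
import Mathlib
import Cfsg.Agent.Lib.Helper1.M24Flags

set_option autoImplicit false
open scoped Pointwise
open Cfsg

namespace Cfsg.Agent.S1604

open Cfsg.Agent.Lib.Helper1

def ws : List (List ℕ) := [[3, 0, 2, 4, 1, 4, 0, 0, 0, 4, 4, 0, 3, 1, 3, 3, 2, 0], [1, 3, 0, 4, 0, 0, 3, 1, 2, 1, 1, 3, 2, 1, 3, 0, 4, 2]]

def tl : List (Fin 24 → Fin 24) := [![0, 3, 1, 2, 16, 17, 21, 15, 4, 13, 8, 20, 19, 9, 5, 10, 7, 14, 11, 12, 6, 22, 18, 23], ![0, 17, 1, 3, 16, 5, 19, 13, 7, 9, 12, 10, 11, 8, 14, 6, 20, 2, 22, 15, 4, 18, 21, 23]]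

theorem tl_ok : ∀ l < tl.length, ∀ i : Fin 24, tl.getD l id i = evalT (ws.getD l []) i := by
  decide +kernel

theorem tl_fix : ∀ l < tl.length, pullMask (tl.getD l id) (combo 2503) = combo 2503 := by
  decide +kernel

theorem tl_pts : ∀ l < tl.length, ∀ i ∈ ([23, 0] : List (Fin 24)), tl.getD l id i = i := by
  decide +kernel

theorem good : GoodTabs (stabKP 2503 [23, 0]) (tabOf tl) :=
  goodTabs_stabKP _ _ ws tl tl_ok tl_fix tl_pts

def cert2_0 : List (ℕ × ℕ × ℕ) :=
  [(2867, 2205, 0), (3550, 2205, 1), (2988, 2867, 0), (3823, 2867, 1), (4023, 3550, 0), (2425, 3550, 1), (2775, 2988, 0), (3393, 2988, 1),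
    (3667, 3823, 0), (2534, 3823, 1), (2959, 4023, 1), (3788, 3393, 0), (3130, 3667, 0), (2501, 2959, 0), (3426, 3788, 1)]

def cert2 : List (ℕ × ℕ × ℕ) :=
  cert2_0

def fin2 : ℕ := 110578974037875567370762907590514242019363686069003166969940506464720527805982768685328046429728844100323541958884639405476747377924865167857420387170303883722095442854040866388175238828606632267311649090775178568416444126545773876130776579893807720868219703503369726164277295961233345793091383347246386090114223704073137104791984591828781158140375105789370370075842841900460194436745884536854795523948825520202259771230672246382087057373201645202381695949003944267224270330954906407667582460564849522330587439061228055070163718022823390129286696423359465597131861774115265349579590370527422609026085176389345632578804624154999807002189570139564167362391733917227185354368400249974497144489853606639174206735571816826338513966803622416138957072346686577749812031691634470792365078089702396603886798925681693683187878094892839166190388771645892220425308256349037064056418742931680539845591409349647895733117676740288850815705551647298165407909780471849179442548467454509246834645571745686948493386315273639678705275160430878276854515009255618581846411711906836531805633273662039847475306599959558768920894776013632637828420919352837594000967317435671025376373266531680360808236476851855326565211192303656311455744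

theorem fold2 : cert2.foldl (stepCertT (tabOf tl)) (some (1 <<< 2205)) = some fin2 := by
  decide +kernel

def cert4_0 : List (ℕ × ℕ × ℕ) :=
  [(3495, 2087, 0), (2126, 2087, 1), (3958, 3495, 0), (3972, 3495, 1), (2347, 2126, 0), (3155, 2126, 1), (2802, 3958, 0), (3730, 3958, 1),
    (2480, 3972, 0), (3563, 3972, 1), (2761, 2347, 0), (2105, 2347, 1), (2542, 3155, 0), (3734, 2802, 0), (3474, 2802, 1), (3025, 3730, 1),
    (3335, 2480, 0), (3933, 2480, 1), (3093, 3563, 0), (2357, 2761, 0), (2145, 2542, 0), (3867, 3734, 1), (3284, 3474, 0), (2906, 3474, 1),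
    (3235, 3025, 0), (3161, 3335, 1), (2332, 3933, 0), (2251, 3933, 1), (3753, 3093, 1), (2693, 2357, 0), (2750, 2357, 1), (3184, 2145, 0),
    (3776, 2145, 1), (3653, 3867, 1), (3108, 3284, 0), (2996, 3284, 1), (3872, 2906, 0), (2276, 3235, 0), (3374, 3235, 1), (3210, 3161, 1),
    (2851, 2332, 0), (2711, 2332, 1), (3944, 3753, 1), (2646, 2693, 0), (2824, 2693, 1), (3573, 2750, 0), (4017, 2750, 1), (2812, 3184, 0),
    (2933, 3776, 1), (3773, 3108, 1), (3686, 2996, 0), (3452, 2996, 1), (3058, 2276, 0), (2370, 3210, 0), (4065, 2851, 0), (3087, 2851, 1),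
    (3992, 2711, 1), (2578, 4017, 0), (2683, 2933, 0)]

def cert4 : List (ℕ × ℕ × ℕ) :=
  cert4_0

def fin4 : ℕ := 486331470968740162023589142345485662222399162840293369641504124098736518901931183593554838661870919193728921799925058482352094254660970798554714064798618956984896310787904123344964930659924459964937054735321602665416680119124167064048333258090493842792585436943435016671868071245892175149224607484468625173458662636553054892487805047537669428536142227913697360740117905085046453974303719152649683337900134747058880912704249676890629298431106262158193728484844946826123962950662780682952227023857992811632760394343157536118983643649175960443276801508860395724167766756621503879774581249087151542258203424047156035961987724305512285440490069198779958279386079545424665887124438320458417253575866126172172940276418852195077572123497501513139699650634037661023576813025285064219343074058164167968555591638421646435082830744212831443725557528300350356053243214590494151488931881955027959947409495687866423799076073269287986727002454296986011200436615288529500980810436555929423088450139063706394131482660547344009019186804399063983804941486935196179119614843453519802045229642676824108470494742775513050388873472593169656889883176354700768107834287426283605081564121753623653645761243714234596607974862354494528195470901620244480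

theorem fold4 : cert4.foldl (stepCertT (tabOf tl)) (some (1 <<< 2087)) = some fin4 := by
  decide +kernel

def cert8_0 : List (ℕ × ℕ × ℕ) :=
  []

def cert8 : List (ℕ × ℕ × ℕ) :=
  cert8_0

def fin8 : ℕ := 3006624187638409629466899351779092038941892414074069416452190718257853451986701668285861806021270754669619661996208462082473823130812942125215258487750241891717552346529892497173795331828729054660749832889772641444253993862220124639759192601137711752943959018750416395372999635217716235126253180506716280198180679212861334903860543348982797089281671018926679601310321508184209979524059123056257511139088879246957654025145951369587857696603552179466932438294852475117516685105012659017792301773617919931531728209486021212023491778247288148002563003970693999612556172334803533983406752530362237374980842286340421281045616383985746677994850573419756237460414126866140021727152063101818000566242802103619017712230738379890108783038337410705767460955916075008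

theorem fold8 : cert8.foldl (stepCertT (tabOf tl)) (some (1 <<< 2503)) = some fin8 := by
  decide +kernel

def finF : ℕ → ℕ
  | 2 => fin2
  | 4 => fin4
  | 8 => fin8
  | _ => 0

def rootF : ℕ → ℕ
  | 2 => 2205
  | 4 => 2087
  | 8 => 2503
  | _ => 0

def clsF (m : ℕ) : ℕ := popc (8536111 &&& combo m)

def famF (m : ℕ) : Prop := popc (combo m) = 8 ∧ (combo m).testBit 23 = true ∧ (combo m).testBit 0 = true

instance : DecidablePred famF := fun m => by unfold famF; infer_instance

theorem combo_base : combo 2503 = 8536111 := by decide +kernel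

theorem hreach : ∀ k m, (finF k).testBit m = true → ReachK (stabKP 2503 [23, 0]) (rootF k) m := by
  intro k m h
  unfold finF at h
  unfold rootF
  split at h
  · exact certT_sound' good _ cert2 fin2 fold2 m h
  · exact certT_sound' good _ cert4 fin4 fold4 m h
  · exact certT_sound' good _ cert8 fin8 fold8 m h
  · simp at h

def coverOK (m : ℕ) : Prop := famF m → (finF (clsF m)).testBit m = true

instance : DecidablePred coverOK := fun m => by unfold coverOK; infer_instance

theorem cover : ∀ a < 64, ∀ b < 64, coverOK (64 * a + b) := by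
  decide +kernel

theorem hcover : ∀ m < 4096, famF m → (finF (clsF m)).testBit m = true := by
  intro m hm
  have := cover (m / 64) (by omega) (m % 64) (Nat.mod_lt _ (by norm_num))
  rw [Nat.div_add_mod] at this
  exact this

theorem hcls (m : ℕ) : (supp 2503 ∩ supp m).card = clsF m := by
  rw [card_inter_supp', combo_base]
  rfl

theorem base_conj : ∀ m m' : ℕ, m < 4096 → m' < 4096 → famF m → famF m' →
    clsF m = clsF m' → ∃ g ∈ stabKP 2503 [23, 0], g • supp m = supp m' :=
  fun m m' hm hm' hf hf' h => conj_of_certs' famF clsF rootF finF hreach hcover hm hm' hf hf' h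

theorem cnt2 : (Finset.univ.filter (fun m : Fin 4096 => popc (combo m.val) = 8 ∧
    ((combo m.val).testBit 23 = true ∧ (combo m.val).testBit 0 = true ∧ popc (8536111 &&& combo m.val) = 2))).card = 16 := by
  decide +kernel

theorem cnt4 : (Finset.univ.filter (fun m : Fin 4096 => popc (combo m.val) = 8 ∧
    ((combo m.val).testBit 23 = true ∧ (combo m.val).testBit 0 = true ∧ popc (8536111 &&& combo m.val) = 4))).card = 60 := by
  decide +kernel

theorem gpt_mem_support₂ (w : GolayPt → ZMod 2) (i : Fin 24) :
    gpt i ∈ support₂ w ↔ (mask w).testBit i = true := by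
  rw [mem_support₂_iff, mask_testBit, decide_eq_true_iff]

theorem gpt_not_mem_support₂ (w : GolayPt → ZMod 2) (i : Fin 24) :
    gpt i ∉ support₂ w ↔ (mask w).testBit i = false := by
  rw [gpt_mem_support₂, Bool.not_eq_true]

theorem count_base (k : ℕ) :
    {b : Finset GolayPt | b ∈ octads ∧ (gpt 23 ∈ b ∧ gpt 0 ∈ b ∧ (supp 2503 ∩ b).card = k)}.ncard =
      (Finset.univ.filter (fun m : Fin 4096 => popc (combo m.val) = 8 ∧
        ((combo m.val).testBit 23 = true ∧ (combo m.val).testBit 0 = true ∧ popc (8536111 &&& combo m.val) = k))).card := by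
  apply ncard_wow_pred 8 (fun b => gpt 23 ∈ b ∧ gpt 0 ∈ b ∧ (supp 2503 ∩ b).card = k)
    (fun v => v.testBit 23 = true ∧ v.testBit 0 = true ∧ popc (8536111 &&& v) = k)
  intro w
  unfold supp
  rw [card_inter_support₂, mask_wordOf, combo_base]
  exact (and_congr (gpt_mem_support₂ w 23) (and_congr (gpt_mem_support₂ w 0) Iff.rfl))

theorem count_transfer {g0 : Equiv.Perm GolayPt} (hg0 : g0 ∈ M24) (k : ℕ) :
    {o' : Finset GolayPt | o' ∈ octads ∧ g0 (gpt 23) ∈ o' ∧ g0 (gpt 0) ∈ o' ∧ (g0 • supp 2503 ∩ o').card = k}.ncard =
    {b : Finset GolayPt | b ∈ octads ∧ (gpt 23 ∈ b ∧ gpt 0 ∈ b ∧ (supp 2503 ∩ b).card = k)}.ncard := by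
  apply ncard_family_smul' g0 octads (fun b hb => smul_mem_octads hg0 hb)
    (fun b hb => smul_mem_octads (inv_mem hg0) hb)
  intro b
  rw [card_inter_smul]
  exact (and_congr (Finset.smul_mem_smul_finset_iff g0) (and_congr (Finset.smul_mem_smul_finset_iff g0) Iff.rfl))

theorem conj_gen {g0 : Equiv.Perm GolayPt} (hg0 : g0 ∈ M24) (o' o'' : Finset GolayPt)
    (ho' : o' ∈ octads) (ho'' : o'' ∈ octads)
    (hF' : (fun b : Finset GolayPt => g0 (gpt 23) ∈ b ∧ g0 (gpt 0) ∈ b) o') (hF'' : (fun b : Finset GolayPt => g0 (gpt 23) ∈ b ∧ g0 (gpt 0) ∈ b) o'')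
    (h : (g0 • supp 2503 ∩ o').card = (g0 • supp 2503 ∩ o'').card) :
    ∃ g : Equiv.Perm GolayPt, g ∈ M24 ∧ (∀ i ∈ ([23, 0] : List (Fin 24)), g (g0 (gpt i)) = g0 (gpt i)) ∧
      g • (g0 • supp 2503) = g0 • supp 2503 ∧ g • o' = o'' :=
  conf_conj 8 2503 [23, 0] hg0
    (fun m => (combo m).testBit 23 = true ∧ (combo m).testBit 0 = true) (fun b => g0 (gpt 23) ∈ b ∧ g0 (gpt 0) ∈ b)
    (fun m hm => ⟨((smul_gpt_mem_smul_supp g0 m 23).1 hm.1), ((smul_gpt_mem_smul_supp g0 m 0).1 hm.2)⟩) clsF hcls
    (fun m m' hm hm' h8 h8' hf hf' hc => base_conj m m' hm hm' ⟨h8, hf⟩ ⟨h8', hf'⟩ hc)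
    o' o'' ho' ho'' hF' hF'' h


/-- A hexad stabiliser in the two-point stabiliser has orbits of sizes 1, 16, 60 on the 77 hexads: the 16 hexads disjoint from it and the 60 meeting it in two points. -/
theorem result (p q : Cfsg.GolayPt) (hpq : p ≠ q) (o o' o'' : Finset Cfsg.GolayPt) (ho : o ∈ Cfsg.octads) (ho' : o' ∈ Cfsg.octads) (ho'' : o'' ∈ Cfsg.octads) (hp : p ∈ o ∧ p ∈ o' ∧ p ∈ o'') (hq : q ∈ o ∧ q ∈ o' ∧ q ∈ o'') (h : (o ∩ o').card = (o ∩ o'').card) : {x : Finset Cfsg.GolayPt | x ∈ Cfsg.octads ∧ p ∈ x ∧ q ∈ x ∧ (o ∩ x).card = 2}.ncard = 16 ∧ {x : Finset Cfsg.GolayPt | x ∈ Cfsg.octads ∧ p ∈ x ∧ q ∈ x ∧ (o ∩ x).card = 4}.ncard = 60 ∧ ∃ g : Equiv.Perm Cfsg.GolayPt, g ∈ Cfsg.M24 ∧ g p = p ∧ g q = q ∧ g • o = o ∧ g • o' = o'' := by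
  obtain ⟨g0, hg0, rfl, rfl, rfl⟩ := flag_oct_in_in o ho p q hp.1 hq.1 hpq
  refine ⟨?_, ?_, ?_⟩
  · rw [count_transfer hg0, count_base]; exact cnt2
  · rw [count_transfer hg0, count_base]; exact cnt4
  · obtain ⟨g, hg, hpts, hgo, hgo'⟩ := conj_gen hg0 o' o'' ho' ho'' ⟨hp.2.1, hq.2.1⟩ ⟨hp.2.2, hq.2.2⟩ h
    exact ⟨g, hg, hpts 23 (by simp), hpts 0 (by simp), hgo, hgo'⟩

end Cfsg.Agent.S1604
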