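import Cfsg.Statements.S1555
import Mathlib
import Cfsg.Agent.Lib.Helper1.M24FlagsO
import Cfsg.Agent.S1604

set_option autoImplicit false
open scoped Pointwise
open Cfsg

namespace Cfsg.Agent.S1555

open Cfsg.Agent.Lib.Helper1

def ws : List (List ℕ) := [[0, 4, 1, 2, 0, 0, 3, 0, 4, 0, 3, 3, 0, 0, 3, 2, 1, 4, 1, 4, 1, 3, 0], [0, 0, 0, 2, 1, 4, 1, 4, 0, 3, 0, 0, 0, 3, 0, 0, 0, 0, 2, 1, 4, 0]]

def tl : List (Fin 24 → Fin 24) := [![0, 1, 2, 17, 9, 5, 22, 13, 11, 19, 7, 12, 8, 10, 3, 21, 15, 14, 18, 4, 6, 16, 20, 23], ![0, 1, 2, 17, 10, 14, 8, 18, 21, 13, 16, 7, 6, 20, 5, 4, 15, 3, 19, 11, 22, 12, 9, 23]]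

theorem tl_ok : ∀ l < tl.length, ∀ i : Fin 24, tl.getD l id i = evalT (ws.getD l []) i := by
  decide +kernel

theorem tl_fix : ∀ l < tl.length, pullMask (tl.getD l id) (combo 2503) = combo 2503 := by
  decide +kernel

theorem tl_pts : ∀ l < tl.length, ∀ i ∈ ([23, 0, 1, 2] : List (Fin 24)), tl.getD l id i = i := by
  decide +kernel

theorem good : GoodTabs (stabKP 2503 [23, 0, 1, 2]) (tabOf tl) :=
  goodTabs_stabKP _ _ ws tl tl_ok tl_fix tl_pts

def cert4_0 : List (ℕ × ℕ × ℕ) :=
  [(2357, 2126, 1), (3374, 2357, 0), (3474, 3374, 0)]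

def cert4 : List (ℕ × ℕ × ℕ) :=
  cert4_0

def fin4 : ℕ := 60007417493108189744792969160629406727237520477225638988606832212709039866287895735917670353593573648375273444094560862674905346842674524133451088293985045947022901659439929116940008715063618671855498720785051649721865127179728476909333263058824744262532210592065618414868736765634931100127127803916079006069150145780697057676653077109009575098075877662680376601181297642785098503872355863905865097304110859483132335756275931573951445603788314428661663015782738913013633936113925721128339638130818539499814055364246571501063509609752438752563505514739645761302158833551521072262944457075486410057176124039966369764012759529776062792957746759392817035510278642404912618515906827675910360794170620012578459912189866508657815873510411702438532447089199365797369098201129164064202983338910113579635806031336491373371687201110422706111547431380214312466886996557062650206096267227831891107797664381609855748963096268881532692383802346525559757270612125348148088973024404007631456232024574332628730476345222841851886054000084854123624460618779070562304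

theorem fold4 : cert4.foldl (stepCertT (tabOf tl)) (some (1 <<< 2126)) = some fin4 := by
  decide +kernel

def cert8_0 : List (ℕ × ℕ × ℕ) :=
  []

def cert8 : List (ℕ × ℕ × ℕ) :=
  cert8_0

def fin8 : ℕ := 3006624187638409629466899351779092038941892414074069416452190718257853451986701668285861806021270754669619661996208462082473823130812942125215258487750241891717552346529892497173795331828729054660749832889772641444253993862220124639759192601137711752943959018750416395372999635217716235126253180506716280198180679212861334903860543348982797089281671018926679601310321508184209979524059123056257511139088879246957654025145951369587857696603552179466932438294852475117516685105012659017792301773617919931531728209486021212023491778247288148002563003970693999612556172334803533983406752530362237374980842286340421281045616383985746677994850573419756237460414126866140021727152063101818000566242802103619017712230738379890108783038337410705767460955916075008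

theorem fold8 : cert8.foldl (stepCertT (tabOf tl)) (some (1 <<< 2503)) = some fin8 := by
  decide +kernel

def finF : ℕ → ℕ
  | 4 => fin4
  | 8 => fin8
  | _ => 0

def rootF : ℕ → ℕ
  | 4 => 2126
  | 8 => 2503
  | _ => 0

def clsF (m : ℕ) : ℕ := popc (8536111 &&& combo m)

def famF (m : ℕ) : Prop := popc (combo m) = 8 ∧ (combo m).testBit 23 = true ∧ (combo m).testBit 0 = true ∧ (combo m).testBit 1 = true ∧ (combo m).testBit 2 = true

instance : DecidablePred famF := fun m => by unfold famF; infer_instance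

theorem combo_base : combo 2503 = 8536111 := by decide +kernel

theorem hreach : ∀ k m, (finF k).testBit m = true → ReachK (stabKP 2503 [23, 0, 1, 2]) (rootF k) m := by
  intro k m h
  unfold finF at h
  unfold rootF
  split at h
  · exact certT_sound' good _ cert4 fin4 fold4 m h
  · exact certT_sound' good _ cert8 fin8 fold8 m h
  · simp at h

def coverOK (m : ℕ) : Prop := famF m → (finF (clsF m)).testBit m = true

instance : DecidablePred coverOK := fun m => by unfold coverOK; infer_instance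

theorem cover : ∀ a < 64, ∀ b < 64, coverOK (64 * a + b) := by
  decide +kernel

theorem hcover : ∀ m < 4096, famF m → (finF (clsF m)).testBit m = true := by
  intro m hm
  have := cover (m / 64) (by omega) (m % 64) (Nat.mod_lt _ (by norm_num))
  rw [Nat.div_add_mod] at this
  exact this

theorem hcls (m : ℕ) : (supp 2503 ∩ supp m).card = clsF m := by
  rw [card_inter_supp', combo_base]
  rfl

theorem base_conj : ∀ m m' : ℕ, m < 4096 → m' < 4096 → famF m → famF m' →
    clsF m = clsF m' → ∃ g ∈ stabKP 2503 [23, 0, 1, 2], g • supp m = supp m' :=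
  fun m m' hm hm' hf hf' h => conj_of_certs' famF clsF rootF finF hreach hcover hm hm' hf hf' h

theorem cnt4 : (Finset.univ.filter (fun m : Fin 4096 => popc (combo m.val) = 8 ∧
    ((combo m.val).testBit 23 = true ∧ (combo m.val).testBit 0 = true ∧ (combo m.val).testBit 1 = true ∧ (combo m.val).testBit 2 = true ∧ popc (8536111 &&& combo m.val) = 4))).card = 4 := by
  decide +kernel

theorem gpt_mem_support₂ (w : GolayPt → ZMod 2) (i : Fin 24) :
    gpt i ∈ support₂ w ↔ (mask w).testBit i = true := by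
  rw [mem_support₂_iff, mask_testBit, decide_eq_true_iff]

theorem gpt_not_mem_support₂ (w : GolayPt → ZMod 2) (i : Fin 24) :
    gpt i ∉ support₂ w ↔ (mask w).testBit i = false := by
  rw [gpt_mem_support₂, Bool.not_eq_true]

theorem count_base (k : ℕ) :
    {b : Finset GolayPt | b ∈ octads ∧ (gpt 23 ∈ b ∧ gpt 0 ∈ b ∧ gpt 1 ∈ b ∧ gpt 2 ∈ b ∧ (supp 2503 ∩ b).card = k)}.ncard =
      (Finset.univ.filter (fun m : Fin 4096 => popc (combo m.val) = 8 ∧
        ((combo m.val).testBit 23 = true ∧ (combo m.val).testBit 0 = true ∧ (combo m.val).testBit 1 = true ∧ (combo m.val).testBit 2 = true ∧ popc (8536111 &&& combo m.val) = k))).card := by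
  apply ncard_wow_pred 8 (fun b => gpt 23 ∈ b ∧ gpt 0 ∈ b ∧ gpt 1 ∈ b ∧ gpt 2 ∈ b ∧ (supp 2503 ∩ b).card = k)
    (fun v => v.testBit 23 = true ∧ v.testBit 0 = true ∧ v.testBit 1 = true ∧ v.testBit 2 = true ∧ popc (8536111 &&& v) = k)
  intro w
  unfold supp
  rw [card_inter_support₂, mask_wordOf, combo_base]
  exact (and_congr (gpt_mem_support₂ w 23) (and_congr (gpt_mem_support₂ w 0) (and_congr (gpt_mem_support₂ w 1) (and_congr (gpt_mem_support₂ w 2) Iff.rfl))))

theorem count_transfer {g0 : Equiv.Perm GolayPt} (hg0 : g0 ∈ M24) (k : ℕ) :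
    {o' : Finset GolayPt | o' ∈ octads ∧ g0 (gpt 23) ∈ o' ∧ g0 (gpt 0) ∈ o' ∧ g0 (gpt 1) ∈ o' ∧ g0 (gpt 2) ∈ o' ∧ (g0 • supp 2503 ∩ o').card = k}.ncard =
    {b : Finset GolayPt | b ∈ octads ∧ (gpt 23 ∈ b ∧ gpt 0 ∈ b ∧ gpt 1 ∈ b ∧ gpt 2 ∈ b ∧ (supp 2503 ∩ b).card = k)}.ncard := by
  apply ncard_family_smul' g0 octads (fun b hb => smul_mem_octads hg0 hb)
    (fun b hb => smul_mem_octads (inv_mem hg0) hb)
  intro b
  rw [card_inter_smul]
  exact (and_congr (Finset.smul_mem_smul_finset_iff g0) (and_congr (Finset.smul_mem_smul_finset_iff g0) (and_congr (Finset.smul_mem_smul_finset_iff g0) (and_congr (Finset.smul_mem_smul_finset_iff g0) Iff.rfl))))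

theorem conj_gen {g0 : Equiv.Perm GolayPt} (hg0 : g0 ∈ M24) (o' o'' : Finset GolayPt)
    (ho' : o' ∈ octads) (ho'' : o'' ∈ octads)
    (hF' : (fun b : Finset GolayPt => g0 (gpt 23) ∈ b ∧ g0 (gpt 0) ∈ b ∧ g0 (gpt 1) ∈ b ∧ g0 (gpt 2) ∈ b) o') (hF'' : (fun b : Finset GolayPt => g0 (gpt 23) ∈ b ∧ g0 (gpt 0) ∈ b ∧ g0 (gpt 1) ∈ b ∧ g0 (gpt 2) ∈ b) o'')
    (h : (g0 • supp 2503 ∩ o').card = (g0 • supp 2503 ∩ o'').card) :
    ∃ g : Equiv.Perm GolayPt, g ∈ M24 ∧ (∀ i ∈ ([23, 0, 1, 2] : List (Fin 24)), g (g0 (gpt i)) = g0 (gpt i)) ∧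
      g • (g0 • supp 2503) = g0 • supp 2503 ∧ g • o' = o'' :=
  conf_conj 8 2503 [23, 0, 1, 2] hg0
    (fun m => (combo m).testBit 23 = true ∧ (combo m).testBit 0 = true ∧ (combo m).testBit 1 = true ∧ (combo m).testBit 2 = true) (fun b => g0 (gpt 23) ∈ b ∧ g0 (gpt 0) ∈ b ∧ g0 (gpt 1) ∈ b ∧ g0 (gpt 2) ∈ b)
    (fun m hm => ⟨((smul_gpt_mem_smul_supp g0 m 23).1 hm.1), ((smul_gpt_mem_smul_supp g0 m 0).1 hm.2.1), ((smul_gpt_mem_smul_supp g0 m 1).1 hm.2.2.1), ((smul_gpt_mem_smul_supp g0 m 2).1 hm.2.2.2)⟩) clsF hcls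
    (fun m m' hm hm' h8 h8' hf hf' hc => base_conj m m' hm hm' ⟨h8, hf⟩ ⟨h8', hf'⟩ hc)
    o' o'' ho' ho'' hF' hF'' h

theorem part2 (o : Finset GolayPt) (ho : o ∈ octads) (p q : GolayPt) (hp : p ∈ o) (hq : q ∈ o)
    (hpq : p ≠ q) :
    {o' : Finset GolayPt | o' ∈ octads ∧ o ∩ o' = {p, q}}.ncard = 16 := by
  have h := (Cfsg.Agent.S1604.result p q hpq o o o ho ho ho ⟨hp, hp, hp⟩ ⟨hq, hq, hq⟩ rfl).1
  rw [← h]
  congr 1
  ext x
  constructor
  · rintro ⟨hx, hox⟩
    have hp' : p ∈ o ∩ x := by rw [hox]; simp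
    have hq' : q ∈ o ∩ x := by rw [hox]; simp
    exact ⟨hx, (Finset.mem_inter.1 hp').2, (Finset.mem_inter.1 hq').2, by
      rw [hox, Finset.card_pair hpq]⟩
  · rintro ⟨hx, hpx, hqx, hc⟩
    refine ⟨hx, ?_⟩
    symm
    apply Finset.eq_of_subset_of_card_le
    · intro y hy
      rw [Finset.mem_insert, Finset.mem_singleton] at hy
      rcases hy with rfl | rfl
      · exact Finset.mem_inter.2 ⟨hp, hpx⟩
      · exact Finset.mem_inter.2 ⟨hq, hqx⟩
    · rw [hc, Finset.card_pair hpq]

theorem part4 (o : Finset GolayPt) (ho : o ∈ octads) (p1 p2 p3 p4 : GolayPt)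
    (h1 : p1 ∈ o) (h2 : p2 ∈ o) (h3 : p3 ∈ o) (h4 : p4 ∈ o) (h12 : p1 ≠ p2) (h13 : p1 ≠ p3)
    (h14 : p1 ≠ p4) (h23 : p2 ≠ p3) (h24 : p2 ≠ p4) (h34 : p3 ≠ p4) :
    {o' : Finset GolayPt | o' ∈ octads ∧ o ∩ o' = {p1, p2, p3, p4}}.ncard = 4 := by
  have hcard : ({p1, p2, p3, p4} : Finset GolayPt).card = 4 := by
    rw [Finset.card_insert_of_notMem, Finset.card_insert_of_notMem, Finset.card_pair h34]
    · simp [h23, h24]
    · simp [h12, h13, h14]
  obtain ⟨g0, hg0, rfl, rfl, rfl, rfl, rfl⟩ :=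
    flag_oct_in4 o ho p1 p2 p3 p4 h1 h2 h3 h4 h12 h13 h14 h23 h24 h34
  have h := count_transfer hg0 4
  rw [count_base, cnt4] at h
  rw [← h]
  congr 1
  ext x
  constructor
  · rintro ⟨hx, hox⟩
    have m1 : g0 (gpt 23) ∈ g0 • supp 2503 ∩ x := by rw [hox]; simp
    have m2 : g0 (gpt 0) ∈ g0 • supp 2503 ∩ x := by rw [hox]; simp
    have m3 : g0 (gpt 1) ∈ g0 • supp 2503 ∩ x := by rw [hox]; simp
    have m4 : g0 (gpt 2) ∈ g0 • supp 2503 ∩ x := by rw [hox]; simp
    exact ⟨hx, (Finset.mem_inter.1 m1).2, (Finset.mem_inter.1 m2).2, (Finset.mem_inter.1 m3).2,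
      (Finset.mem_inter.1 m4).2, by rw [hox, hcard]⟩
  · rintro ⟨hx, m1, m2, m3, m4, hc⟩
    refine ⟨hx, ?_⟩
    symm
    apply Finset.eq_of_subset_of_card_le
    · intro y hy
      simp only [Finset.mem_insert, Finset.mem_singleton] at hy
      rcases hy with rfl | rfl | rfl | rfl
      · exact Finset.mem_inter.2 ⟨h1, m1⟩
      · exact Finset.mem_inter.2 ⟨h2, m2⟩
      · exact Finset.mem_inter.2 ⟨h3, m3⟩
      · exact Finset.mem_inter.2 ⟨h4, m4⟩
    · rw [hc, hcard]


/-- Bottom row of the Leech triangle: an octad is met in a prescribed pair of its points by exactly 16 octads and in a prescribed 4-subset by exactly 4 octads. -/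
theorem result (o : Finset Cfsg.GolayPt) (ho : o ∈ Cfsg.octads) (s : Finset Cfsg.GolayPt) (hs : s ⊆ o) : (s.card = 2 → {o' : Finset Cfsg.GolayPt | o' ∈ Cfsg.octads ∧ o ∩ o' = s}.ncard = 16) ∧ (s.card = 4 → {o' : Finset Cfsg.GolayPt | o' ∈ Cfsg.octads ∧ o ∩ o' = s}.ncard = 4) := by
  constructor
  · intro h2
    obtain ⟨p, q, hpq, rfl⟩ := Finset.card_eq_two.1 h2
    exact part2 o ho p q (hs (by simp)) (hs (by simp)) hpq
  · intro h4
    obtain ⟨p1, hp1⟩ : ∃ p1, p1 ∈ s := Finset.card_pos.1 (by rw [h4]; norm_num)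
    have h3 : (s.erase p1).card = 3 := by rw [Finset.card_erase_of_mem hp1, h4]
    obtain ⟨p2, p3, p4, h23, h24, h34, he⟩ := Finset.card_eq_three.1 h3
    have hs' : s = {p1, p2, p3, p4} := by
      rw [← Finset.insert_erase hp1, he]
    have hm : ∀ y, y ∈ s.erase p1 → y ≠ p1 ∧ y ∈ s := fun y hy => Finset.mem_erase.1 hy
    have m2 := hm p2 (by rw [he]; simp)
    have m3 := hm p3 (by rw [he]; simp)
    have m4 := hm p4 (by rw [he]; simp)
    rw [hs']
    exact part4 o ho p1 p2 p3 p4 (hs hp1) (hs m2.2) (hs m3.2) (hs m4.2) (Ne.symm m2.1)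
      (Ne.symm m3.1) (Ne.symm m4.1) h23 h24 h34

end Cfsg.Agent.S1555
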