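import Cfsg.Statements.S1558
import Cfsg.Agent.Lib.Helper1.TrioQb
import Mathlib

set_option autoImplicit false
open scoped Pointwise
open Cfsg

namespace Cfsg.Agent.S1558

open Cfsg.Agent.Lib.Helper1
open Cfsg.Agent.Lib.Helper1.TrioQ

/-- the base stabiliser as a group of permutations -/
noncomputable def e0 : ↥(MulAction.stabilizer ↥M24 (objT 61565)) ≃* ↥K0 where
  toFun g := ⟨g.1.1, (Cfsg.Agent.S1559.mem_stab_iff g.1).1 g.2⟩
  invFun k := ⟨⟨k.1, (mem_stabX.1 k.2).1⟩, (Cfsg.Agent.S1559.mem_stab_iff _).2 k.2⟩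
  left_inv _ := rfl
  right_inv _ := rfl
  map_mul' _ _ := rfl

/-- Structure of a trio stabiliser: every permutation of the three octads is induced, and there is a normal subgroup of order 64 of elements squaring to the identity whose quotient is isomorphic to the product of GL(3, 2) with the symmetric group of degree 3. -/
theorem result (T : Finset (Finset Cfsg.GolayPt)) (hT : T ∈ Cfsg.trios) : (∀ e : Equiv.Perm ↥T, ∃ g ∈ MulAction.stabilizer Cfsg.M24 T, ∀ o : ↥T, (g : Equiv.Perm Cfsg.GolayPt) • (o : Finset Cfsg.GolayPt) = ((e o : ↥T) : Finset Cfsg.GolayPt)) ∧ ∃ (N : Subgroup ↥(MulAction.stabilizer Cfsg.M24 T)) (_ : N.Normal), Nat.card N = 64 ∧ (∀ x ∈ N, x * x = 1) ∧ Nonempty (↥(MulAction.stabilizer Cfsg.M24 T) ⧸ N ≃* GL (Fin 3) (ZMod 2) × Equiv.Perm (Fin 3)) := by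
  obtain ⟨γ0, hγ0, rfl⟩ := M24_trans_trios Cfsg.Agent.S1559.T0_mem hT
  set γ : ↥M24 := ⟨γ0, hγ0⟩ with hγ
  constructor
  · intro e
    have hT0 : objT 61565 = {objO (oc 0), objO (oc 1), objO (oc 2)} := by
      unfold objT
      rw [oc_T0.2.2, oc_T0.1, oc_T0.2.1]
      rfl
    have hmemT : ∀ i : Fin 3, γ0 • objO (oc i) ∈ γ0 • objT 61565 := by
      intro i
      rw [hT0]
      apply Finset.smul_mem_smul_finset
      fin_cases i <;> simp
    let f : Fin 3 → ↥(γ0 • objT 61565) := fun i => ⟨γ0 • objO (oc i), hmemT i⟩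
    have hfinj : Function.Injective f := by
      intro i j h
      have h1 : γ0 • objO (oc i) = γ0 • objO (oc j) := congrArg Subtype.val h
      have h2 : objO (oc i) = objO (oc j) := MulAction.injective γ0 h1
      exact oc_ok.2 _ _ (objO_injOn (oc_ok.1 _) (oc_ok.1 _) h2)
    have hfsurj : Function.Surjective f := by
      rintro ⟨o, ho⟩
      obtain ⟨o', ho', rfl⟩ := Finset.mem_smul_finset.1 ho
      rw [hT0] at ho'
      simp only [Finset.mem_insert, Finset.mem_singleton] at ho'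
      rcases ho' with rfl | rfl | rfl
      exacts [⟨0, rfl⟩, ⟨1, rfl⟩, ⟨2, rfl⟩]
    let F : Fin 3 ≃ ↥(γ0 • objT 61565) := Equiv.ofBijective f ⟨hfinj, hfsurj⟩
    let π : Equiv.Perm (Fin 3) := F.trans (e.trans F.symm)
    have hπ : ∀ i, F (π i) = e (F i) := by
      intro i
      show F (F.symm (e (F i))) = e (F i)
      rw [Equiv.apply_symm_apply]
    have hk := acts_S π
    have hkK := gAt_mem (sIdx π) (idx_lt.2.1 _)
    have hkM : gAt (sIdx π) ∈ M24 := gAt_M24 _
    have hkT : gAt (sIdx π) • objT 61565 = objT 61565 := (mem_stabX.1 hkK).2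
    refine ⟨γ * ⟨gAt (sIdx π), hkM⟩ * γ⁻¹, ?_, ?_⟩
    · rw [MulAction.mem_stabilizer_iff]
      show (γ0 * gAt (sIdx π) * γ0⁻¹) • (γ0 • objT 61565) = γ0 • objT 61565
      rw [mul_smul, mul_smul, inv_smul_smul, hkT]
    · intro o
      obtain ⟨i, rfl⟩ := F.surjective o
      rw [← hπ i]
      show (γ0 * gAt (sIdx π) * γ0⁻¹) • (γ0 • objO (oc i)) = γ0 • objO (oc (π i))
      rw [mul_smul, mul_smul, inv_smul_smul, hk.2 i]
  · let e : ↥(MulAction.stabilizer ↥M24 (objT 61565)) ≃*
        ↥(MulAction.stabilizer ↥M24 (γ0 • objT 61565)) :=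
      MulAction.stabilizerEquivStabilizer (g := γ) rfl
    have hcard : Nat.card ↥(MulAction.stabilizer ↥M24 (γ0 • objT 61565)) = 64512 := by
      rw [← Nat.card_congr e.toEquiv]
      exact Cfsg.Agent.S1559.card_stab
    let ψ : ↥(MulAction.stabilizer ↥M24 (γ0 • objT 61565)) →*
        GL (Fin 3) (ZMod 2) × Equiv.Perm (Fin 3) :=
      quoMap.comp (e0.toMonoidHom.comp e.symm.toMonoidHom)
    have hsurj : Function.Surjective ψ :=
      quoMap_surjective.comp (e0.surjective.comp e.symm.surjective)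
    refine ⟨ψ.ker, inferInstance, ?_, ?_,
      ⟨QuotientGroup.quotientKerEquivOfSurjective ψ hsurj⟩⟩
    · have h1 := Subgroup.card_eq_card_quotient_mul_card_subgroup ψ.ker
      rw [hcard, Nat.card_congr (QuotientGroup.quotientKerEquivOfSurjective ψ hsurj).toEquiv,
        Nat.card_prod, card_GL32, Nat.card_perm, Nat.card_eq_fintype_card, Fintype.card_fin] at h1
      have h6 : Nat.factorial 3 = 6 := by decide
      rw [h6] at h1
      omega
    · intro x hx
      have hx1 : quoMap (e0 (e.symm x)) = 1 := MonoidHom.mem_ker.1 hx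
      have h2 := ker_sq (e0 (e.symm x)) hx1
      have h3 : (⇑e0 ∘ ⇑e.symm) (x * x) = (⇑e0 ∘ ⇑e.symm) 1 := by
        show e0 (e.symm (x * x)) = e0 (e.symm 1)
        rw [map_mul, map_mul, h2, map_one, map_one]
      exact (e0.injective.comp e.symm.injective) h3

end Cfsg.Agent.S1558
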