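import Mathlib
import Cfsg.Statements.S5625

set_option autoImplicit false
open Cfsg

namespace Cfsg.Agent.S5625

open Finset

variable {α : Type*} [Fintype α] [DecidableEq α]

/-- number of blocks containing `S` -/
def cnt (Bf : Finset (Finset α)) (S : Finset α) : ℕ := (Bf.filter (fun b => S ⊆ b)).card

theorem step (Bf : Finset (Finset α)) (hcard : ∀ b ∈ Bf, b.card = 8) (hα : Fintype.card α = 24)
    (i L : ℕ) (hL : ∀ T : Finset α, T.card = i + 1 → cnt Bf T = L) (S : Finset α) (hS : S.card = i) :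
    (24 - i) * L = cnt Bf S * (8 - i) := by
  have h := Finset.card_mul_eq_card_mul (s := Sᶜ) (t := Bf.filter (fun b => S ⊆ b))
    (fun (x : α) (b : Finset α) => x ∈ b) (m := L) (n := 8 - i) ?_ ?_
  · rw [Finset.card_compl, hα, hS] at h
    exact h
  · intro x hx
    rw [Finset.mem_compl] at hx
    have : (Bf.filter (fun b => S ⊆ b)).bipartiteAbove (fun (x : α) (b : Finset α) => x ∈ b) x
        = Bf.filter (fun b => insert x S ⊆ b) := by
      ext b
      simp only [Finset.mem_bipartiteAbove, Finset.mem_filter, Finset.insert_subset_iff]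
      tauto
    rw [this]
    apply hL
    rw [Finset.card_insert_of_notMem hx, hS]
  · intro b hb
    rw [Finset.mem_filter] at hb
    have : (Sᶜ).bipartiteBelow (fun (x : α) (b : Finset α) => x ∈ b) b = b \ S := by
      ext x
      simp only [Finset.mem_bipartiteBelow, Finset.mem_compl, Finset.mem_sdiff]
      tauto
    rw [this, Finset.card_sdiff_of_subset hb.2, hcard b hb.1, hS]

theorem binom_count (Bf : Finset (Finset α)) (Y : Finset α) (i : ℕ) :
    ∑ T ∈ Y.powersetCard i, cnt Bf T = ∑ b ∈ Bf, (b ∩ Y).card.choose i := by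
  have h := Finset.sum_card_bipartiteAbove_eq_sum_card_bipartiteBelow (s := Y.powersetCard i) (t := Bf)
    (fun (T : Finset α) (b : Finset α) => T ⊆ b)
  have h1 : ∀ T ∈ Y.powersetCard i, (Bf.bipartiteAbove (fun (T : Finset α) (b : Finset α) => T ⊆ b) T).card = cnt Bf T :=
    fun T _ => rfl
  have h2 : ∀ b ∈ Bf, ((Y.powersetCard i).bipartiteBelow (fun (T : Finset α) (b : Finset α) => T ⊆ b) b).card
      = (b ∩ Y).card.choose i := by
    intro b _
    have : (Y.powersetCard i).bipartiteBelow (fun (T : Finset α) (b : Finset α) => T ⊆ b) b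
        = (b ∩ Y).powersetCard i := by
      ext T
      simp only [Finset.mem_bipartiteBelow, Finset.mem_powersetCard, Finset.subset_inter_iff]
      tauto
    rw [this, Finset.card_powersetCard]
  rw [← Finset.sum_congr rfl h1, h, Finset.sum_congr rfl h2]

theorem fiber_sum (Bf : Finset (Finset α)) (Y : Finset α) (hY : Y.card = 3) (f : ℕ → ℕ) :
    ∑ b ∈ Bf, f (b ∩ Y).card = ∑ j ∈ Finset.range 4, (Bf.filter (fun b => (b ∩ Y).card = j)).card * f j := by
  have hmaps : ∀ b ∈ Bf, (b ∩ Y).card ∈ Finset.range 4 := by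
    intro b _
    rw [Finset.mem_range]
    have := Finset.card_le_card (Finset.inter_subset_right (s₁ := b) (s₂ := Y))
    omega
  rw [← Finset.sum_fiberwise_of_maps_to hmaps]
  apply Finset.sum_congr rfl
  intro j _
  rw [Finset.card_eq_sum_ones, Finset.sum_mul]
  apply Finset.sum_congr rfl
  intro b hb
  rw [Finset.mem_filter] at hb
  rw [hb.2, one_mul]

theorem result (α : Type*) [Fintype α] [DecidableEq α] (hα : Fintype.card α = 24) (B : Set (Finset α)) (hB : Cfsg.IsSteinerSystem 5 8 B) (Y : Finset α) (hY : Y.card = 3) : {b : Finset α | b ∈ B ∧ (b ∩ Y).card = 3}.ncard = 21 ∧ {b : Finset α | b ∈ B ∧ (b ∩ Y).card = 2}.ncard = 168 ∧ {b : Finset α | b ∈ B ∧ (b ∩ Y).card = 1}.ncard = 360 ∧ {b : Finset α | b ∈ B ∧ (b ∩ Y).card = 0}.ncard = 210 := by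
  obtain ⟨hB8, hB5⟩ := hB
  obtain ⟨Bf, hBf⟩ : ∃ Bf : Finset (Finset α), ∀ b, b ∈ Bf ↔ b ∈ B :=
    ⟨(Set.toFinite B).toFinset, fun b => Set.Finite.mem_toFinset _⟩
  have hcard : ∀ b ∈ Bf, b.card = 8 := fun b hb => hB8 b ((hBf b).mp hb)
  -- λ₅ = 1
  have l5 : ∀ T : Finset α, T.card = 5 → cnt Bf T = 1 := by
    intro T hT
    obtain ⟨b₀, ⟨hb₀B, hTb₀⟩, huniq⟩ := hB5 T hT
    have : Bf.filter (fun b => T ⊆ b) = {b₀} := by
      ext b
      simp only [Finset.mem_filter, Finset.mem_singleton, hBf]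
      constructor
      · intro h; exact huniq b h
      · rintro rfl; exact ⟨hb₀B, hTb₀⟩
    rw [cnt, this, Finset.card_singleton]
  have l4 : ∀ T : Finset α, T.card = 4 → cnt Bf T = 5 := by
    intro T hT
    have := step Bf hcard hα 4 1 l5 T hT
    omega
  have l3 : ∀ T : Finset α, T.card = 3 → cnt Bf T = 21 := by
    intro T hT
    have := step Bf hcard hα 3 5 l4 T hT
    omega
  have l2 : ∀ T : Finset α, T.card = 2 → cnt Bf T = 77 := by
    intro T hT
    have := step Bf hcard hα 2 21 l3 T hT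
    omega
  have l1 : ∀ T : Finset α, T.card = 1 → cnt Bf T = 253 := by
    intro T hT
    have := step Bf hcard hα 1 77 l2 T hT
    omega
  have l0 : ∀ T : Finset α, T.card = 0 → cnt Bf T = 759 := by
    intro T hT
    have := step Bf hcard hα 0 253 l1 T hT
    omega
  -- the four counting identities
  have hsum : ∀ (i L : ℕ), (∀ T : Finset α, T.card = i → cnt Bf T = L) →
      ∑ T ∈ Y.powersetCard i, cnt Bf T = (Nat.choose 3 i) * L := by
    intro i L hL
    rw [Finset.sum_congr rfl (fun T hT => hL T (Finset.mem_powersetCard.mp hT).2), Finset.sum_const,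
      Finset.card_powersetCard, hY, smul_eq_mul]
  obtain ⟨n0, hn0⟩ : ∃ n, n = (Bf.filter (fun b => (b ∩ Y).card = 0)).card := ⟨_, rfl⟩
  obtain ⟨n1, hn1⟩ : ∃ n, n = (Bf.filter (fun b => (b ∩ Y).card = 1)).card := ⟨_, rfl⟩
  obtain ⟨n2, hn2⟩ : ∃ n, n = (Bf.filter (fun b => (b ∩ Y).card = 2)).card := ⟨_, rfl⟩
  obtain ⟨n3, hn3⟩ : ∃ n, n = (Bf.filter (fun b => (b ∩ Y).card = 3)).card := ⟨_, rfl⟩
  have e : ∀ i L : ℕ, (∀ T : Finset α, T.card = i → cnt Bf T = L) →
      (Nat.choose 3 i) * L = n0 * Nat.choose 0 i + n1 * Nat.choose 1 i + n2 * Nat.choose 2 i + n3 * Nat.choose 3 i := by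
    intro i L hL
    rw [← hsum i L hL, binom_count, fiber_sum Bf Y hY (fun j => Nat.choose j i)]
    simp only [Finset.sum_range_succ, Finset.sum_range_zero, zero_add]
    rw [← hn0, ← hn1, ← hn2, ← hn3]
  have e3 := e 3 21 l3
  have e2 := e 2 77 l2
  have e1 := e 1 253 l1
  have e0 := e 0 759 l0
  simp only [Nat.choose_self, Nat.choose_zero_right, Nat.choose_one_right, Nat.choose_two_right,
    Nat.choose_succ_self, Nat.choose] at e3 e2 e1 e0
  have hset : ∀ j : ℕ, {b : Finset α | b ∈ B ∧ (b ∩ Y).card = j}.ncard = (Bf.filter (fun b => (b ∩ Y).card = j)).card := by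
    intro j
    have : {b : Finset α | b ∈ B ∧ (b ∩ Y).card = j} = ↑(Bf.filter (fun b => (b ∩ Y).card = j)) := by
      ext b
      simp [hBf]
    rw [this, Set.ncard_coe_finset]
  rw [hset, hset, hset, hset, ← hn0, ← hn1, ← hn2, ← hn3]
  omega

end Cfsg.Agent.S5625
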