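import Cfsg.Statements.S1562
import Mathlib
import Cfsg.Agent.Lib.Helper1.M24FlagsO2
import Cfsg.Agent.S0363
import Cfsg.Agent.S5625
import Cfsg.Agent.Lib.Helper1.M24Cycle

set_option autoImplicit false
open scoped Pointwise
open Cfsg

namespace Cfsg.Agent.S1562


open Cfsg.Agent.Lib.Helper1

theorem smul_triple (g : Equiv.Perm GolayPt) (a b c : GolayPt) :
    g • ({a, b, c} : Finset GolayPt) = {g a, g b, g c} := by
  rw [Finset.smul_finset_insert, Finset.smul_finset_insert, Finset.smul_finset_singleton]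
  rfl

theorem inj_of_ne6 {α : Type*} (a : Fin 6 → α) (h : ∀ i j : Fin 6, i < j → a i ≠ a j) :
    Function.Injective a := by
  intro i j hij
  by_contra hne
  rcases lt_or_gt_of_ne hne with h1 | h1
  · exact h i j h1 hij
  · exact h j i h1 hij.symm

theorem vec_inj {t1 t2 t3 u1 u2 u3 : GolayPt} (h12 : t1 ≠ t2) (h13 : t1 ≠ t3) (h23 : t2 ≠ t3)
    (k12 : u1 ≠ u2) (k13 : u1 ≠ u3) (k23 : u2 ≠ u3)
    (hd : Disjoint ({t1, t2, t3} : Finset GolayPt) {u1, u2, u3}) :
    Function.Injective ![t1, t2, t3, u1, u2, u3] := by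
  have hn : ∀ x ∈ ({t1, t2, t3} : Finset GolayPt), ∀ y ∈ ({u1, u2, u3} : Finset GolayPt), x ≠ y := by
    intro x hx y hy hxy
    exact Finset.disjoint_left.1 hd hx (hxy ▸ hy)
  have a11 := hn t1 (by simp) u1 (by simp)
  have a12 := hn t1 (by simp) u2 (by simp)
  have a13 := hn t1 (by simp) u3 (by simp)
  have a21 := hn t2 (by simp) u1 (by simp)
  have a22 := hn t2 (by simp) u2 (by simp)
  have a23 := hn t2 (by simp) u3 (by simp)
  have a31 := hn t3 (by simp) u1 (by simp)
  have a32 := hn t3 (by simp) u2 (by simp)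
  have a33 := hn t3 (by simp) u3 (by simp)
  apply inj_of_ne6
  intro i j hij
  fin_cases i <;> fin_cases j <;> first | exact absurd hij (by decide) | assumption

theorem conj_part (T U U' : Finset GolayPt) (hT : T.card = 3) (hU : U.card = 3) (hU' : U'.card = 3)
    (hd : Disjoint T U) (hd' : Disjoint T U')
    (h : (∃ o ∈ octads, T ∪ U ⊆ o) ↔ (∃ o ∈ octads, T ∪ U' ⊆ o)) :
    ∃ g : Equiv.Perm GolayPt, g ∈ M24 ∧ g • T = T ∧ g • U = U' := by
  obtain ⟨t1, t2, t3, h12, h13, h23, rfl⟩ := Finset.card_eq_three.1 hT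
  obtain ⟨u1, u2, u3, k12, k13, k23, rfl⟩ := Finset.card_eq_three.1 hU
  obtain ⟨v1, v2, v3, l12, l13, l23, rfl⟩ := Finset.card_eq_three.1 hU'
  have hp := vec_inj h12 h13 h23 k12 k13 k23 hd
  have hp' := vec_inj h12 h13 h23 l12 l13 l23 hd'
  have key : ∃ g ∈ M24, ∀ i, g (![t1, t2, t3, u1, u2, u3] i) = ![t1, t2, t3, v1, v2, v3] i := by
    by_cases hs : ∃ o ∈ octads, ({t1, t2, t3} : Finset GolayPt) ∪ {u1, u2, u3} ⊆ o
    · obtain ⟨o, ho, hsub⟩ := hs
      obtain ⟨o', ho', hsub'⟩ := h.1 ⟨o, ho, hsub⟩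
      apply six_trans_special o o' ho ho' _ _ hp hp'
      · intro i
        apply hsub
        fin_cases i <;> simp
      · intro i
        apply hsub'
        fin_cases i <;> simp
    · have hs' : ¬ ∃ o ∈ octads, ({t1, t2, t3} : Finset GolayPt) ∪ {v1, v2, v3} ⊆ o :=
        fun h' => hs (h.2 h')
      -- the octads through the first five points
      have hc5 : ∀ (a b : GolayPt), a ≠ b → ({t1, t2, t3} : Finset GolayPt) ∩ {a, b} = ∅ →
          (({t1, t2, t3} : Finset GolayPt) ∪ {a, b}).card = 5 := by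
        intro a b hab hdis
        rw [Finset.card_union_of_disjoint (Finset.disjoint_iff_inter_eq_empty.2 hdis),
          Finset.card_pair hab]
        have : ({t1, t2, t3} : Finset GolayPt).card = 3 := hT
        rw [this]
      have hdis : ∀ (a b c : GolayPt), Disjoint ({t1, t2, t3} : Finset GolayPt) {a, b, c} →
          ({t1, t2, t3} : Finset GolayPt) ∩ {a, b} = ∅ := by
        intro a b c hd
        rw [← Finset.disjoint_iff_inter_eq_empty]
        apply Finset.disjoint_of_subset_right _ hd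
        intro x hx
        simp only [Finset.mem_insert, Finset.mem_singleton] at hx ⊢
        rcases hx with rfl | rfl
        · exact Or.inl rfl
        · exact Or.inr (Or.inl rfl)
      obtain ⟨o, ⟨ho, hsub⟩, _⟩ := Cfsg.Agent.S0363.result.2 _ (hc5 u1 u2 k12 (hdis u1 u2 u3 hd))
      obtain ⟨o', ⟨ho', hsub'⟩, _⟩ := Cfsg.Agent.S0363.result.2 _ (hc5 v1 v2 l12 (hdis v1 v2 v3 hd'))
      apply six_trans_general o o' ho ho' _ _ hp hp'
      · intro i hi
        apply hsub
        fin_cases i <;> first | exact absurd hi (by decide) | simp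
      · intro i hi
        apply hsub'
        fin_cases i <;> first | exact absurd hi (by decide) | simp
      · intro hu3
        apply hs
        refine ⟨o, ho, ?_⟩
        intro x hx
        simp only [Finset.mem_union, Finset.mem_insert, Finset.mem_singleton] at hx
        rcases hx with (rfl | rfl | rfl) | (rfl | rfl | rfl)
        · exact hsub (by simp)
        · exact hsub (by simp)
        · exact hsub (by simp)
        · exact hsub (by simp)
        · exact hsub (by simp)
        · exact hu3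
      · intro hv3
        apply hs'
        refine ⟨o', ho', ?_⟩
        intro x hx
        simp only [Finset.mem_union, Finset.mem_insert, Finset.mem_singleton] at hx
        rcases hx with (rfl | rfl | rfl) | (rfl | rfl | rfl)
        · exact hsub' (by simp)
        · exact hsub' (by simp)
        · exact hsub' (by simp)
        · exact hsub' (by simp)
        · exact hsub' (by simp)
        · exact hv3
  obtain ⟨g, hg, hgi⟩ := key
  have e0 : g t1 = t1 := hgi 0
  have e1 : g t2 = t2 := hgi 1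
  have e2 : g t3 = t3 := hgi 2
  have e3 : g u1 = v1 := hgi 3
  have e4 : g u2 = v2 := hgi 4
  have e5 : g u3 = v3 := hgi 5
  refine ⟨g, hg, ?_, ?_⟩
  · rw [smul_triple, e0, e1, e2]
  · rw [smul_triple, e3, e4, e5]

theorem count_special (T : Finset GolayPt) (hT : T.card = 3) :
    {U : Finset GolayPt | U.card = 3 ∧ Disjoint T U ∧ (∃ o ∈ octads, T ∪ U ⊆ o)}.ncard = 210 := by
  classical
  have hfin : {b : Finset GolayPt | b ∈ octads ∧ (b ∩ T).card = 3}.Finite := Set.toFinite _
  have h21 := (Cfsg.Agent.S5625.result GolayPt fintype_card_golayPt octads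
    Cfsg.Agent.S0363.result T hT).1
  rw [Set.ncard_eq_toFinset_card _ hfin] at h21
  have hmem : ∀ o, o ∈ hfin.toFinset ↔ o ∈ octads ∧ T ⊆ o := by
    intro o
    rw [Set.Finite.mem_toFinset]
    constructor
    · rintro ⟨ho, hc⟩
      refine ⟨ho, ?_⟩
      have : o ∩ T = T := Finset.eq_of_subset_of_card_le Finset.inter_subset_right (by rw [hc, hT])
      rw [← this]; exact Finset.inter_subset_left
    · rintro ⟨ho, hsub⟩
      exact ⟨ho, by rw [Finset.inter_eq_right.2 hsub, hT]⟩
  have hset : {U : Finset GolayPt | U.card = 3 ∧ Disjoint T U ∧ (∃ o ∈ octads, T ∪ U ⊆ o)} =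
      ((hfin.toFinset.biUnion (fun o => Finset.powersetCard 3 (o \ T)) :
        Finset (Finset GolayPt)) : Set (Finset GolayPt)) := by
    ext U
    rw [Finset.mem_coe, Finset.mem_biUnion]
    constructor
    · rintro ⟨hc, hd, o, ho, hsub⟩
      refine ⟨o, (hmem o).2 ⟨ho, fun x hx => hsub (Finset.mem_union_left _ hx)⟩, ?_⟩
      rw [Finset.mem_powersetCard]
      refine ⟨fun x hx => ?_, hc⟩
      rw [Finset.mem_sdiff]
      exact ⟨hsub (Finset.mem_union_right _ hx), fun hxT => Finset.disjoint_left.1 hd hxT hx⟩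
    · rintro ⟨o, ho, hU⟩
      rw [Finset.mem_powersetCard] at hU
      obtain ⟨ho1, ho2⟩ := (hmem o).1 ho
      refine ⟨hU.2, ?_, o, ho1, ?_⟩
      · rw [Finset.disjoint_left]
        intro x hxT hxU
        exact (Finset.mem_sdiff.1 (hU.1 hxU)).2 hxT
      · intro x hx
        rcases Finset.mem_union.1 hx with h | h
        · exact ho2 h
        · exact (Finset.mem_sdiff.1 (hU.1 h)).1
  rw [hset, Set.ncard_coe_finset, Finset.card_biUnion]
  · have : ∀ o ∈ hfin.toFinset, (Finset.powersetCard 3 (o \ T)).card = 10 := by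
      intro o ho
      obtain ⟨ho1, ho2⟩ := (hmem o).1 ho
      rw [Finset.card_powersetCard, Finset.card_sdiff_of_subset ho2, ho1.2, hT]
      rfl
    rw [Finset.sum_congr rfl this, Finset.sum_const, h21]
    rfl
  · intro o ho o' ho' hne
    rw [Function.onFun, Finset.disjoint_left]
    intro U hU hU'
    rw [Finset.mem_powersetCard] at hU hU'
    obtain ⟨ho1, ho2⟩ := (hmem o).1 ho
    obtain ⟨ho1', ho2'⟩ := (hmem o').1 ho'
    apply hne
    have hTU : T ∪ U ⊆ o := Finset.union_subset ho2 (fun x hx => (Finset.mem_sdiff.1 (hU.1 hx)).1)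
    have hTU' : T ∪ U ⊆ o' :=
      Finset.union_subset ho2' (fun x hx => (Finset.mem_sdiff.1 (hU'.1 hx)).1)
    have hd : Disjoint T U := by
      rw [Finset.disjoint_left]
      intro x hxT hxU
      exact (Finset.mem_sdiff.1 (hU.1 hxU)).2 hxT
    have hc6 : (T ∪ U).card = 6 := by rw [Finset.card_union_of_disjoint hd, hT, hU.2]
    obtain ⟨s, hs, hs5⟩ := Finset.exists_subset_card_eq (s := T ∪ U) (n := 5) (by rw [hc6]; norm_num)
    exact Cfsg.Agent.S0363.octad_unique o o' ho1 ho1' s hs5 (hs.trans hTU) (hs.trans hTU')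

theorem count_all (T : Finset GolayPt) (hT : T.card = 3) :
    {U : Finset GolayPt | U.card = 3 ∧ Disjoint T U}.ncard = 1330 := by
  classical
  have : {U : Finset GolayPt | U.card = 3 ∧ Disjoint T U} =
      ((Finset.powersetCard 3 Tᶜ : Finset (Finset GolayPt)) : Set (Finset GolayPt)) := by
    ext U
    rw [Finset.mem_coe, Finset.mem_powersetCard]
    constructor
    · rintro ⟨hc, hd⟩
      refine ⟨fun x hx => ?_, hc⟩
      rw [Finset.mem_compl]
      exact fun hxT => Finset.disjoint_left.1 hd hxT hx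
    · rintro ⟨hsub, hc⟩
      refine ⟨hc, ?_⟩
      rw [Finset.disjoint_left]
      intro x hxT hxU
      exact (Finset.mem_compl.1 (hsub hxU)) hxT
  rw [this, Set.ncard_coe_finset, Finset.card_powersetCard, Finset.card_compl, hT,
    fintype_card_golayPt]
  rfl


/-- Orbits of a triad stabiliser on the triads disjoint from it: the 210 triads inside a common octad with it form one orbit and the remaining 1120 another. -/
theorem result (T : Finset Cfsg.GolayPt) (hT : T.card = 3) : {U : Finset Cfsg.GolayPt | U.card = 3 ∧ Disjoint T U ∧ (∃ o ∈ Cfsg.octads, T ∪ U ⊆ o)}.ncard = 210 ∧ {U : Finset Cfsg.GolayPt | U.card = 3 ∧ Disjoint T U ∧ ¬ (∃ o ∈ Cfsg.octads, T ∪ U ⊆ o)}.ncard = 1120 ∧ ∀ U U' : Finset Cfsg.GolayPt, U.card = 3 → U'.card = 3 → Disjoint T U → Disjoint T U' → ((∃ o ∈ Cfsg.octads, T ∪ U ⊆ o) ↔ (∃ o ∈ Cfsg.octads, T ∪ U' ⊆ o)) → ∃ g : Equiv.Perm Cfsg.GolayPt, g ∈ Cfsg.M24 ∧ g • T = T ∧ g • U = U' := by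
  refine ⟨count_special T hT, ?_, ?_⟩
  · have h1 := count_special T hT
    have h2 := count_all T hT
    have hsub : {U : Finset GolayPt | U.card = 3 ∧ Disjoint T U ∧ (∃ o ∈ octads, T ∪ U ⊆ o)} ⊆
        {U : Finset GolayPt | U.card = 3 ∧ Disjoint T U} := fun U hU => ⟨hU.1, hU.2.1⟩
    have hdiff : {U : Finset GolayPt | U.card = 3 ∧ Disjoint T U ∧ ¬ (∃ o ∈ octads, T ∪ U ⊆ o)} =
        {U : Finset GolayPt | U.card = 3 ∧ Disjoint T U} \
        {U : Finset GolayPt | U.card = 3 ∧ Disjoint T U ∧ (∃ o ∈ octads, T ∪ U ⊆ o)} := by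
      ext U
      constructor
      · rintro ⟨hc, hd, hn⟩
        exact ⟨⟨hc, hd⟩, fun h => hn h.2.2⟩
      · rintro ⟨⟨hc, hd⟩, hn⟩
        exact ⟨hc, hd, fun h => hn ⟨hc, hd, h⟩⟩
    rw [hdiff, Set.ncard_diff hsub (Set.toFinite _), h1, h2]
  · intro U U' hU hU' hd hd' h
    exact conj_part T U U' hT hU hU' hd hd' h

end Cfsg.Agent.S1562
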