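import Cfsg.Statements.S1563
import Mathlib
import Cfsg.Agent.Lib.Helper1.CoatomOrbits
import Cfsg.Agent.Lib.Helper1.M24Simple3

set_option autoImplicit false
open scoped Pointwise
open Cfsg

namespace Cfsg.Agent.S1563


open Cfsg.Agent.Lib.Helper1

theorem smul_pair (g : Equiv.Perm GolayPt) (a b : GolayPt) :
    g • ({a, b} : Finset GolayPt) = {g a, g b} := by
  rw [Finset.smul_finset_insert, Finset.smul_finset_singleton]
  rfl

theorem decomp1 (s y : Finset GolayPt) (hs : s.card = 2) (hy : y.card = 2)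
    (h : (s ∩ y).card = 1) :
    ∃ u v c, u ≠ v ∧ u ≠ c ∧ v ≠ c ∧ s = {u, v} ∧ y = {u, c} := by
  obtain ⟨u, hu⟩ := Finset.card_eq_one.1 h
  have hus : u ∈ s := (Finset.mem_inter.1 (hu ▸ Finset.mem_singleton_self u)).1
  have huy : u ∈ y := (Finset.mem_inter.1 (hu ▸ Finset.mem_singleton_self u)).2
  have h1 : (s.erase u).card = 1 := by rw [Finset.card_erase_of_mem hus, hs]
  have h2 : (y.erase u).card = 1 := by rw [Finset.card_erase_of_mem huy, hy]
  obtain ⟨v, hv⟩ := Finset.card_eq_one.1 h1
  obtain ⟨c, hc⟩ := Finset.card_eq_one.1 h2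
  have hvs : v ∈ s.erase u := hv ▸ Finset.mem_singleton_self v
  have hcy : c ∈ y.erase u := hc ▸ Finset.mem_singleton_self c
  rw [Finset.mem_erase] at hvs hcy
  refine ⟨u, v, c, fun e => hvs.1 e.symm, fun e => hcy.1 e.symm, ?_, ?_, ?_⟩
  · intro e
    have : v ∈ s ∩ y := Finset.mem_inter.2 ⟨hvs.2, e ▸ hcy.2⟩
    rw [hu, Finset.mem_singleton] at this
    exact hvs.1 this
  · rw [← Finset.insert_erase hus, hv]
  · rw [← Finset.insert_erase huy, hc]

theorem decomp0 (s y : Finset GolayPt) (hs : s.card = 2) (hy : y.card = 2)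
    (h : (s ∩ y).card = 0) :
    ∃ a b c d, a ≠ b ∧ a ≠ c ∧ a ≠ d ∧ b ≠ c ∧ b ≠ d ∧ c ≠ d ∧ s = {a, b} ∧ y = {c, d} := by
  obtain ⟨a, b, hab, rfl⟩ := Finset.card_eq_two.1 hs
  obtain ⟨c, d, hcd, rfl⟩ := Finset.card_eq_two.1 hy
  rw [Finset.card_eq_zero] at h
  have hn : ∀ x, x ∈ ({a, b} : Finset GolayPt) → x ∉ ({c, d} : Finset GolayPt) := by
    intro x hx hx'
    have : x ∈ ({a, b} : Finset GolayPt) ∩ {c, d} := Finset.mem_inter.2 ⟨hx, hx'⟩
    rw [h] at this
    exact absurd this (Finset.notMem_empty x)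
  have ha := hn a (by simp)
  have hb := hn b (by simp)
  simp only [Finset.mem_insert, Finset.mem_singleton, not_or] at ha hb
  exact ⟨a, b, c, d, hab, ha.1, ha.2, hb.1, hb.2, hcd, rfl, rfl⟩

theorem pair_conj (s y z : Finset GolayPt) (hs : s.card = 2) (hy : y.card = 2) (hz : z.card = 2)
    (h : (s ∩ y).card = (s ∩ z).card) : ∃ g ∈ M24, g • s = s ∧ g • y = z := by
  have hle : (s ∩ y).card ≤ 2 := hs ▸ Finset.card_le_card Finset.inter_subset_left
  have hcases : (s ∩ y).card = 0 ∨ (s ∩ y).card = 1 ∨ (s ∩ y).card = 2 := by omega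
  rcases hcases with h0 | h1 | h2
  · obtain ⟨a, b, c, d, hab, hac, had, hbc, hbd, hcd, rfl, rfl⟩ := decomp0 s y hs hy h0
    obtain ⟨a', b', c', d', hab', hac', had', hbc', hbd', hcd', hs', rfl⟩ :=
      decomp0 _ z hs hz (h ▸ h0)
    obtain ⟨g, hg, h1, h2, h3, h4⟩ := M24_trans4 hab hac had hbc hbd hcd hab' hac' had' hbc' hbd' hcd'
    refine ⟨g, hg, ?_, ?_⟩
    · rw [smul_pair, h1, h2, ← hs']
    · rw [smul_pair, h3, h4]
  · obtain ⟨u, v, c, huv, huc, hvc, rfl, rfl⟩ := decomp1 s y hs hy h1
    obtain ⟨u', v', c', huv', huc', hvc', hs', rfl⟩ := decomp1 _ z hs hz (h ▸ h1)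
    obtain ⟨g, hg, h1, h2, h3⟩ := M24_trans3 huv huc hvc huv' huc' hvc'
    refine ⟨g, hg, ?_, ?_⟩
    · rw [smul_pair, h1, h2, ← hs']
    · rw [smul_pair, h1, h3]
  · have e1 : s ∩ y = s := Finset.eq_of_subset_of_card_le Finset.inter_subset_left (by rw [h2, hs])
    have e2 : s ∩ z = s :=
      Finset.eq_of_subset_of_card_le Finset.inter_subset_left (by rw [← h, h2, hs])
    have e3 : y = s := by
      symm
      apply Finset.eq_of_subset_of_card_le _ (by rw [hs, hy])
      rw [← e1]; exact Finset.inter_subset_right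
    have e4 : z = s := by
      symm
      apply Finset.eq_of_subset_of_card_le _ (by rw [hs, hz])
      rw [← e2]; exact Finset.inter_subset_right
    exact ⟨1, one_mem _, one_smul _ _, by rw [one_smul, e3, e4]⟩

theorem orbit_pair (s : Finset GolayPt) (hs : s.card = 2) :
    MulAction.orbit ↥M24 s = {t : Finset GolayPt | t.card = 2} := by
  ext t
  constructor
  · rintro ⟨g, rfl⟩
    show ((g : Equiv.Perm GolayPt) • s).card = 2
    rw [Finset.card_smul_finset, hs]
  · intro ht
    obtain ⟨a, b, hab, rfl⟩ := Finset.card_eq_two.1 hs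
    obtain ⟨c, d, hcd, rfl⟩ := Finset.card_eq_two.1 ht
    haveI := M24_five_pretransitive
    haveI : MulAction.IsMultiplyPretransitive M24 GolayPt 2 :=
      MulAction.isMultiplyPretransitive_of_le (G := M24) (α := GolayPt) (m := 2) (n := 5)
        (by norm_num) (by rw [card_golayPt_nat]; norm_num)
    have h2 : ∀ {a b c d : GolayPt}, a ≠ b → c ≠ d → ∃ g : M24, g • a = c ∧ g • b = d :=
      MulAction.is_two_pretransitive_iff.1 this
    obtain ⟨g, hg1, hg2⟩ := h2 hab hcd
    refine ⟨g, ?_⟩
    show (g : Equiv.Perm GolayPt) • ({a, b} : Finset GolayPt) = {c, d}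
    rw [smul_pair]
    have e1 : (g : Equiv.Perm GolayPt) a = c := hg1
    have e2 : (g : Equiv.Perm GolayPt) b = d := hg2
    rw [e1, e2]

def nF (k : ℕ) : ℕ := if k = 0 then 231 else if k = 1 then 44 else if k = 2 then 1 else 0

theorem arith : ∀ S ∈ ({0, 1, 2} : Finset ℕ).powerset, 2 ∈ S → (∑ k ∈ S, nF k) ∣ 276 →
    S = {2} ∨ S = ({0, 1, 2} : Finset ℕ) := by
  decide

theorem card_univ_pt : (Finset.univ : Finset GolayPt).card = 24 := by
  rw [Finset.card_univ]; exact fintype_card_golayPt

theorem count_classes (s : Finset GolayPt) (hs : s.card = 2) :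
    ∀ k ∈ ({0, 1, 2} : Finset ℕ),
      {y : Finset GolayPt | y ∈ {t : Finset GolayPt | t.card = 2} ∧ (s ∩ y).card = k}.ncard = nF k := by
  classical
  set P : Finset (Finset GolayPt) := Finset.powersetCard 2 Finset.univ with hP
  have hPcard : P.card = 276 := by
    rw [hP, Finset.card_powersetCard, card_univ_pt]; rfl
  have hset : ∀ k, {y : Finset GolayPt | y ∈ {t : Finset GolayPt | t.card = 2} ∧ (s ∩ y).card = k} =
      ((P.filter (fun t => (s ∩ t).card = k) : Finset (Finset GolayPt)) : Set (Finset GolayPt)) := by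
    intro k
    ext y
    rw [Finset.coe_filter]
    constructor
    · rintro ⟨h1, h2⟩
      exact ⟨Finset.mem_powersetCard.2 ⟨Finset.subset_univ _, h1⟩, h2⟩
    · rintro ⟨h1, h2⟩
      exact ⟨(Finset.mem_powersetCard.1 h1).2, h2⟩
  have h2 : (P.filter (fun t => (s ∩ t).card = 2)).card = 1 := by
    have : P.filter (fun t => (s ∩ t).card = 2) = {s} := by
      ext t
      rw [Finset.mem_filter, Finset.mem_singleton, Finset.mem_powersetCard]
      constructor
      · rintro ⟨⟨_, ht⟩, h⟩
        have e2 : s ∩ t = s :=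
          Finset.eq_of_subset_of_card_le Finset.inter_subset_left (by rw [h, hs])
        symm
        apply Finset.eq_of_subset_of_card_le _ (by rw [hs, ht])
        rw [← e2]; exact Finset.inter_subset_right
      · rintro rfl
        exact ⟨⟨Finset.subset_univ _, hs⟩, by rw [Finset.inter_self, hs]⟩
    rw [this, Finset.card_singleton]
  have h0 : (P.filter (fun t => (s ∩ t).card = 0)).card = 231 := by
    have : P.filter (fun t => (s ∩ t).card = 0) = Finset.powersetCard 2 sᶜ := by
      ext t
      rw [Finset.mem_filter, Finset.mem_powersetCard, Finset.mem_powersetCard, Finset.card_eq_zero]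
      constructor
      · rintro ⟨⟨_, ht⟩, h⟩
        refine ⟨?_, ht⟩
        intro x hx
        rw [Finset.mem_compl]
        intro hxs
        have : x ∈ s ∩ t := Finset.mem_inter.2 ⟨hxs, hx⟩
        rw [h] at this
        exact absurd this (Finset.notMem_empty x)
      · rintro ⟨hsub, ht⟩
        refine ⟨⟨Finset.subset_univ _, ht⟩, ?_⟩
        rw [Finset.eq_empty_iff_forall_notMem]
        intro x hx
        rw [Finset.mem_inter] at hx
        exact (Finset.mem_compl.1 (hsub hx.2)) hx.1
    rw [this, Finset.card_powersetCard, Finset.card_compl, hs, fintype_card_golayPt]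
    rfl
  have hsum := Finset.card_eq_sum_card_fiberwise (s := P) (t := ({0, 1, 2} : Finset ℕ))
    (f := fun t => (s ∩ t).card) (by
      intro t _
      have hle : (s ∩ t).card ≤ 2 := hs ▸ Finset.card_le_card Finset.inter_subset_left
      simp only [Finset.coe_insert, Finset.coe_singleton, Set.mem_insert_iff, Set.mem_singleton_iff]
      omega)
  rw [Finset.sum_insert (by decide), Finset.sum_insert (by decide), Finset.sum_singleton, hPcard,
    h0, h2] at hsum
  intro k hk
  simp only [Finset.mem_insert, Finset.mem_singleton] at hk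
  rw [hset k, Set.ncard_coe_finset]
  rcases hk with rfl | rfl | rfl
  · rw [h0]; rfl
  · show _ = 44
    omega
  · rw [h2]; rfl


/-- The stabiliser of a pair of points (setwise) is a maximal proper subgroup of the group of the length-24 code. -/
theorem result (s : Finset Cfsg.GolayPt) (hs : s.card = 2) : IsCoatom (MulAction.stabilizer Cfsg.M24 s) := by
  have horb := orbit_pair s hs
  apply isCoatom_stabilizer_of_classes (G := ↥Cfsg.M24) s (fun b => (s ∩ b).card)
    ({0, 1, 2} : Finset ℕ) nF 276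
  · intro y hy
    have hle : (s ∩ y).card ≤ 2 := hs ▸ Finset.card_le_card Finset.inter_subset_left
    simp only [Finset.mem_insert, Finset.mem_singleton]
    omega
  · intro y hy h
    rw [horb] at hy
    rw [Finset.inter_self] at h
    have e2 : s ∩ y = s := Finset.eq_of_subset_of_card_le Finset.inter_subset_left (by rw [h])
    symm
    apply Finset.eq_of_subset_of_card_le _ (by rw [hs, hy])
    rw [← e2]; exact Finset.inter_subset_right
  · intro y hy z hz h
    rw [horb] at hy hz
    obtain ⟨g, hg, hgs, hgy⟩ := pair_conj s y z hs hy hz h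
    exact ⟨⟨g, hg⟩, MulAction.mem_stabilizer_iff.2 hgs, hgy⟩
  · rw [horb]
    exact count_classes s hs
  · rw [horb]
    have : {t : Finset GolayPt | t.card = 2} =
        ((Finset.powersetCard 2 Finset.univ : Finset (Finset GolayPt)) : Set (Finset GolayPt)) := by
      ext t
      rw [Finset.mem_coe, Finset.mem_powersetCard]
      exact ⟨fun h => ⟨Finset.subset_univ _, h⟩, fun h => h.2⟩
    rw [this, Set.ncard_coe_finset, Finset.card_powersetCard, card_univ_pt]
    rfl
  · norm_num
  · have : (s ∩ s).card = 2 := by rw [Finset.inter_self]; exact hs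
    simp only [this]
    exact arith

end Cfsg.Agent.S1563
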