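import Cfsg.Statements.S1564
import Mathlib
import Cfsg.Agent.Lib.Helper1.CoatomOrbits2
import Cfsg.Agent.S1562
import Cfsg.Agent.Lib.Helper1.M24Simple3

set_option autoImplicit false
open scoped Pointwise
open Cfsg

namespace Cfsg.Agent.S1564


open Cfsg.Agent.Lib.Helper1

open Classical in
/-- the class function -/
noncomputable def cF (T U : Finset GolayPt) : ℕ :=
  (T ∩ U).card + (if (Disjoint T U ∧ ∃ o ∈ octads, T ∪ U ⊆ o) then 10 else 0)

theorem cF_special {T U : Finset GolayPt} (hd : Disjoint T U) (hs : ∃ o ∈ octads, T ∪ U ⊆ o) :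
    cF T U = 10 := by
  unfold cF
  rw [if_pos ⟨hd, hs⟩, Finset.disjoint_iff_inter_eq_empty.1 hd, Finset.card_empty]

theorem cF_nonspecial {T U : Finset GolayPt} (hd : Disjoint T U)
    (hs : ¬ ∃ o ∈ octads, T ∪ U ⊆ o) : cF T U = 0 := by
  unfold cF
  rw [if_neg (fun h => hs h.2), Finset.disjoint_iff_inter_eq_empty.1 hd, Finset.card_empty]

theorem cF_meet {T U : Finset GolayPt} (hd : ¬ Disjoint T U) :
    cF T U = (T ∩ U).card ∧ 1 ≤ (T ∩ U).card := by
  unfold cF
  rw [if_neg (fun h => hd h.1), add_zero]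
  refine ⟨rfl, ?_⟩
  rw [Nat.one_le_iff_ne_zero, Ne, Finset.card_eq_zero, ← Finset.disjoint_iff_inter_eq_empty]
  exact hd

theorem five_trans (p p' : Fin 5 → GolayPt) (hp : Function.Injective p)
    (hp' : Function.Injective p') : ∃ g ∈ M24, ∀ i, g (p i) = p' i := by
  obtain ⟨g1, hg1, h1⟩ := M24_to_base5 ⟨p, hp⟩
  obtain ⟨g2, hg2, h2⟩ := M24_to_base5 ⟨p', hp'⟩
  refine ⟨g2⁻¹ * g1, mul_mem (inv_mem hg2) hg1, fun i => ?_⟩
  have e1 : g1 (p i) = gpt (base5 i) := h1 i
  have e2 : g2 (p' i) = gpt (base5 i) := h2 i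
  rw [Equiv.Perm.mul_apply, e1, ← e2, Equiv.Perm.inv_def, Equiv.symm_apply_apply]

theorem inj_of_ne5 {α : Type*} (a : Fin 5 → α) (h : ∀ i j : Fin 5, i < j → a i ≠ a j) :
    Function.Injective a := by
  intro i j hij
  by_contra hne
  rcases lt_or_gt_of_ne hne with h1 | h1
  · exact h i j h1 hij
  · exact h j i h1 hij.symm

theorem decomp1 (T U : Finset GolayPt) (hT : T.card = 3) (hU : U.card = 3)
    (h : (T ∩ U).card = 1) :
    ∃ a t1 t2 c1 c2, Function.Injective ![a, t1, t2, c1, c2] ∧ T = {a, t1, t2} ∧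
      U = {a, c1, c2} := by
  obtain ⟨a, ha⟩ := Finset.card_eq_one.1 h
  have haT : a ∈ T := (Finset.mem_inter.1 (ha ▸ Finset.mem_singleton_self a)).1
  have haU : a ∈ U := (Finset.mem_inter.1 (ha ▸ Finset.mem_singleton_self a)).2
  have h1 : (T.erase a).card = 2 := by rw [Finset.card_erase_of_mem haT, hT]
  have h2 : (U.erase a).card = 2 := by rw [Finset.card_erase_of_mem haU, hU]
  obtain ⟨t1, t2, ht, hTe⟩ := Finset.card_eq_two.1 h1
  obtain ⟨c1, c2, hc, hUe⟩ := Finset.card_eq_two.1 h2
  have mT : ∀ x, x ∈ T.erase a → x ≠ a ∧ x ∈ T := fun x hx => Finset.mem_erase.1 hx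
  have mU : ∀ x, x ∈ U.erase a → x ≠ a ∧ x ∈ U := fun x hx => Finset.mem_erase.1 hx
  have m1 := mT t1 (by rw [hTe]; simp)
  have m2 := mT t2 (by rw [hTe]; simp)
  have m3 := mU c1 (by rw [hUe]; simp)
  have m4 := mU c2 (by rw [hUe]; simp)
  have hne : ∀ x y, (x ≠ a ∧ x ∈ T) → (y ≠ a ∧ y ∈ U) → x ≠ y := by
    intro x y hx hy hxy
    have : x ∈ T ∩ U := Finset.mem_inter.2 ⟨hx.2, hxy ▸ hy.2⟩
    rw [ha, Finset.mem_singleton] at this
    exact hx.1 this
  have n13 := hne t1 c1 m1 m3
  have n14 := hne t1 c2 m1 m4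
  have n23 := hne t2 c1 m2 m3
  have n24 := hne t2 c2 m2 m4
  have a1 := Ne.symm m1.1
  have a2 := Ne.symm m2.1
  have a3 := Ne.symm m3.1
  have a4 := Ne.symm m4.1
  refine ⟨a, t1, t2, c1, c2, ?_, ?_, ?_⟩
  · apply inj_of_ne5
    intro i j hij
    fin_cases i <;> fin_cases j <;> first | exact absurd hij (by decide) | assumption
  · rw [← Finset.insert_erase haT, hTe]
  · rw [← Finset.insert_erase haU, hUe]

theorem decomp2 (T U : Finset GolayPt) (hT : T.card = 3) (hU : U.card = 3)
    (h : (T ∩ U).card = 2) :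
    ∃ a b t c, a ≠ b ∧ a ≠ t ∧ a ≠ c ∧ b ≠ t ∧ b ≠ c ∧ t ≠ c ∧ T = {a, b, t} ∧ U = {a, b, c} := by
  obtain ⟨a, b, hab, hI⟩ := Finset.card_eq_two.1 h
  have hmem : ∀ x, x ∈ ({a, b} : Finset GolayPt) → x ∈ T ∧ x ∈ U := by
    intro x hx
    rw [← hI] at hx
    exact Finset.mem_inter.1 hx
  have ha := hmem a (by simp)
  have hb := hmem b (by simp)
  have hbT : b ∈ T.erase a := Finset.mem_erase.2 ⟨Ne.symm hab, hb.1⟩
  have hbU : b ∈ U.erase a := Finset.mem_erase.2 ⟨Ne.symm hab, hb.2⟩
  have h1 : ((T.erase a).erase b).card = 1 := by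
    rw [Finset.card_erase_of_mem hbT, Finset.card_erase_of_mem ha.1, hT]
  have h2 : ((U.erase a).erase b).card = 1 := by
    rw [Finset.card_erase_of_mem hbU, Finset.card_erase_of_mem ha.2, hU]
  obtain ⟨t, ht⟩ := Finset.card_eq_one.1 h1
  obtain ⟨c, hc⟩ := Finset.card_eq_one.1 h2
  have mt : t ∈ (T.erase a).erase b := ht ▸ Finset.mem_singleton_self t
  have mc : c ∈ (U.erase a).erase b := hc ▸ Finset.mem_singleton_self c
  rw [Finset.mem_erase, Finset.mem_erase] at mt mc
  have htc : t ≠ c := by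
    intro e
    have : t ∈ T ∩ U := Finset.mem_inter.2 ⟨mt.2.2, e ▸ mc.2.2⟩
    rw [hI, Finset.mem_insert, Finset.mem_singleton] at this
    rcases this with h' | h'
    · exact mt.2.1 h'
    · exact mt.1 h'
  refine ⟨a, b, t, c, hab, Ne.symm mt.2.1, Ne.symm mc.2.1, Ne.symm mt.1, Ne.symm mc.1, htc, ?_, ?_⟩
  · rw [← Finset.insert_erase ha.1, ← Finset.insert_erase hbT, ht]
  · rw [← Finset.insert_erase ha.2, ← Finset.insert_erase hbU, hc]

theorem triple_conj (T U U' : Finset GolayPt) (hT : T.card = 3) (hU : U.card = 3)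
    (hU' : U'.card = 3) (h : cF T U = cF T U') :
    ∃ g ∈ M24, g • T = T ∧ g • U = U' := by
  by_cases hd : Disjoint T U
  · by_cases hs : ∃ o ∈ octads, T ∪ U ⊆ o
    · rw [cF_special hd hs] at h
      by_cases hd' : Disjoint T U'
      · by_cases hs' : ∃ o ∈ octads, T ∪ U' ⊆ o
        · exact Cfsg.Agent.S1562.conj_part T U U' hT hU hU' hd hd' ⟨fun _ => hs', fun _ => hs⟩
        · rw [cF_nonspecial hd' hs'] at h; omega
      · have := cF_meet hd'
        have hle : (T ∩ U').card ≤ 3 := hT ▸ Finset.card_le_card Finset.inter_subset_left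
        omega
    · rw [cF_nonspecial hd hs] at h
      by_cases hd' : Disjoint T U'
      · by_cases hs' : ∃ o ∈ octads, T ∪ U' ⊆ o
        · rw [cF_special hd' hs'] at h; omega
        · exact Cfsg.Agent.S1562.conj_part T U U' hT hU hU' hd hd'
            ⟨fun h' => absurd h' hs, fun h' => absurd h' hs'⟩
      · have := cF_meet hd'
        omega
  · have h1 := cF_meet hd
    have hle : (T ∩ U).card ≤ 3 := hT ▸ Finset.card_le_card Finset.inter_subset_left
    by_cases hd' : Disjoint T U'
    · by_cases hs' : ∃ o ∈ octads, T ∪ U' ⊆ o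
      · rw [cF_special hd' hs'] at h; omega
      · rw [cF_nonspecial hd' hs'] at h; omega
    · have h2 := cF_meet hd'
      have hk : (T ∩ U).card = (T ∩ U').card := by omega
      have hcases : (T ∩ U).card = 1 ∨ (T ∩ U).card = 2 ∨ (T ∩ U).card = 3 := by omega
      rcases hcases with k1 | k2 | k3
      · obtain ⟨a, t1, t2, c1, c2, hinj, rfl, rfl⟩ := decomp1 T U hT hU k1
        obtain ⟨a', t1', t2', c1', c2', hinj', hT', rfl⟩ := decomp1 _ U' hT hU' (hk ▸ k1)
        obtain ⟨g, hg, hgi⟩ := five_trans _ _ hinj hinj'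
        have e0 : g a = a' := hgi 0
        have e1 : g t1 = t1' := hgi 1
        have e2 : g t2 = t2' := hgi 2
        have e3 : g c1 = c1' := hgi 3
        have e4 : g c2 = c2' := hgi 4
        refine ⟨g, hg, ?_, ?_⟩
        · rw [Cfsg.Agent.S1562.smul_triple, e0, e1, e2, ← hT']
        · rw [Cfsg.Agent.S1562.smul_triple, e0, e3, e4]
      · obtain ⟨a, b, t, c, hab, hat, hac, hbt, hbc, htc, rfl, rfl⟩ := decomp2 T U hT hU k2
        obtain ⟨a', b', t', c', hab', hat', hac', hbt', hbc', htc', hT', rfl⟩ :=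
          decomp2 _ U' hT hU' (hk ▸ k2)
        obtain ⟨g, hg, e0, e1, e2, e3⟩ :=
          M24_trans4 hab hat hac hbt hbc htc hab' hat' hac' hbt' hbc' htc'
        refine ⟨g, hg, ?_, ?_⟩
        · rw [Cfsg.Agent.S1562.smul_triple, e0, e1, e2, ← hT']
        · rw [Cfsg.Agent.S1562.smul_triple, e0, e1, e3]
      · have e1 : T ∩ U = T :=
          Finset.eq_of_subset_of_card_le Finset.inter_subset_left (by rw [k3, hT])
        have e2 : T ∩ U' = T :=
          Finset.eq_of_subset_of_card_le Finset.inter_subset_left (by rw [← hk, k3, hT])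
        have e3 : U = T := by
          symm
          apply Finset.eq_of_subset_of_card_le _ (by rw [hT, hU])
          rw [← e1]; exact Finset.inter_subset_right
        have e4 : U' = T := by
          symm
          apply Finset.eq_of_subset_of_card_le _ (by rw [hT, hU'])
          rw [← e2]; exact Finset.inter_subset_right
        exact ⟨1, one_mem _, one_smul _ _, by rw [one_smul, e3, e4]⟩

theorem orbit_triple (T : Finset GolayPt) (hT : T.card = 3) :
    MulAction.orbit ↥M24 T = {U : Finset GolayPt | U.card = 3} := by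
  ext U
  constructor
  · rintro ⟨g, rfl⟩
    show ((g : Equiv.Perm GolayPt) • T).card = 3
    rw [Finset.card_smul_finset, hT]
  · intro hU
    obtain ⟨a, b, c, hab, hac, hbc, rfl⟩ := Finset.card_eq_three.1 hT
    obtain ⟨a', b', c', hab', hac', hbc', rfl⟩ := Finset.card_eq_three.1 hU
    obtain ⟨g, hg, e1, e2, e3⟩ := M24_trans3 hab hac hbc hab' hac' hbc'
    refine ⟨⟨g, hg⟩, ?_⟩
    show g • ({a, b, c} : Finset GolayPt) = {a', b', c'}
    rw [Cfsg.Agent.S1562.smul_triple, e1, e2, e3]

def nF (k : ℕ) : ℕ :=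
  if k = 0 then 1120 else if k = 10 then 210 else if k = 1 then 630 else if k = 2 then 63
  else if k = 3 then 1 else 0

theorem arith : ∀ S ∈ ({0, 1, 2, 3, 10} : Finset ℕ).powerset, 3 ∈ S →
    (∑ k ∈ S, nF k) ∣ (∑ k ∈ ({0, 1, 2, 3, 10} : Finset ℕ), nF k) →
    S = {3} ∨ S = ({0, 1, 2, 3, 10} : Finset ℕ) := by
  decide

theorem count_two (T : Finset GolayPt) (hT : T.card = 3) :
    ((Finset.powersetCard 3 Finset.univ : Finset (Finset GolayPt)).filter
      (fun U => (T ∩ U).card = 2)).card = 63 := by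
  classical
  have h63 : (T ×ˢ Tᶜ).card = 63 := by
    rw [Finset.card_product, Finset.card_compl, hT, fintype_card_golayPt]
  rw [← h63]
  symm
  have key : ∀ t c, t ∈ T → c ∉ T → T ∩ insert c (T.erase t) = T.erase t := by
    intro t c ht hc
    ext x
    simp only [Finset.mem_inter, Finset.mem_insert, Finset.mem_erase]
    constructor
    · rintro ⟨hx, rfl | h⟩
      · exact absurd hx hc
      · exact h
    · rintro ⟨h1, h2⟩
      exact ⟨h2, Or.inr ⟨h1, h2⟩⟩
  apply Finset.card_bij (fun a _ => insert a.2 (T.erase a.1))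
  · rintro ⟨t, c⟩ h
    rw [Finset.mem_product] at h
    obtain ⟨ht, hc⟩ := h
    rw [Finset.mem_compl] at hc
    rw [Finset.mem_filter, Finset.mem_powersetCard]
    have hc' : c ∉ T.erase t := fun h => hc (Finset.mem_of_mem_erase h)
    refine ⟨⟨Finset.subset_univ _, ?_⟩, ?_⟩
    · show (insert c (T.erase t)).card = 3
      rw [Finset.card_insert_of_notMem hc', Finset.card_erase_of_mem ht, hT]
    · show (T ∩ insert c (T.erase t)).card = 2
      rw [key t c ht hc, Finset.card_erase_of_mem ht, hT]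
  · rintro ⟨t, c⟩ h ⟨t', c'⟩ h' e
    rw [Finset.mem_product] at h h'
    obtain ⟨ht, hc⟩ := h
    obtain ⟨ht', hc'⟩ := h'
    rw [Finset.mem_compl] at hc hc'
    have e' : insert c (T.erase t) = insert c' (T.erase t') := e
    have e1 : T.erase t = T.erase t' := by
      rw [← key t c ht hc, ← key t' c' ht' hc', e']
    have e2 : t = t' := by
      by_contra hne
      have : t' ∈ T.erase t := Finset.mem_erase.2 ⟨fun h => hne h.symm, ht'⟩
      rw [e1] at this
      exact (Finset.notMem_erase t' T) this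
    have e3 : c = c' := by
      have : c ∈ insert c' (T.erase t') := e' ▸ Finset.mem_insert_self c _
      rcases Finset.mem_insert.1 this with h | h
      · exact h
      · exact absurd (Finset.mem_of_mem_erase h) hc
    rw [e2, e3]
  · intro U hU
    rw [Finset.mem_filter, Finset.mem_powersetCard] at hU
    obtain ⟨⟨_, hU3⟩, hI⟩ := hU
    have h1 : (T \ U).card = 1 := by
      have := Finset.card_sdiff_add_card_inter T U
      omega
    have h2 : (U \ T).card = 1 := by
      have := Finset.card_sdiff_add_card_inter U T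
      rw [Finset.inter_comm] at this
      omega
    obtain ⟨t, ht⟩ := Finset.card_eq_one.1 h1
    obtain ⟨c, hc⟩ := Finset.card_eq_one.1 h2
    have mt : t ∈ T \ U := ht ▸ Finset.mem_singleton_self t
    have mc : c ∈ U \ T := hc ▸ Finset.mem_singleton_self c
    rw [Finset.mem_sdiff] at mt mc
    refine ⟨(t, c), Finset.mem_product.2 ⟨mt.1, Finset.mem_compl.2 mc.2⟩, ?_⟩
    show insert c (T.erase t) = U
    ext x
    rw [Finset.mem_insert, Finset.mem_erase]
    constructor
    · rintro (rfl | ⟨hxt, hxT⟩)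
      · exact mc.1
      · by_contra hxU
        have : x ∈ T \ U := Finset.mem_sdiff.2 ⟨hxT, hxU⟩
        rw [ht, Finset.mem_singleton] at this
        exact hxt this
    · intro hxU
      by_cases hxT : x ∈ T
      · right
        refine ⟨?_, hxT⟩
        rintro rfl
        exact mt.2 hxU
      · left
        have : x ∈ U \ T := Finset.mem_sdiff.2 ⟨hxU, hxT⟩
        rw [hc, Finset.mem_singleton] at this
        exact this

theorem card_univ_pt : (Finset.univ : Finset GolayPt).card = 24 := by
  rw [Finset.card_univ]; exact fintype_card_golayPt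

theorem eq_of_inter_card3 (T U : Finset GolayPt) (hT : T.card = 3) (hU : U.card = 3)
    (h : (T ∩ U).card = 3) : U = T := by
  have e2 : T ∩ U = T := Finset.eq_of_subset_of_card_le Finset.inter_subset_left (by rw [h, hT])
  symm
  apply Finset.eq_of_subset_of_card_le _ (by rw [hT, hU])
  rw [← e2]; exact Finset.inter_subset_right

theorem count_classes (T : Finset GolayPt) (hT : T.card = 3) :
    ∀ k ∈ ({0, 1, 2, 3, 10} : Finset ℕ),
      {y : Finset GolayPt | y ∈ {t : Finset GolayPt | t.card = 3} ∧ cF T y = k}.ncard = nF k := by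
  classical
  set P : Finset (Finset GolayPt) := Finset.powersetCard 3 Finset.univ with hP
  have hPcard : P.card = 2024 := by
    rw [hP, Finset.card_powersetCard, card_univ_pt]; rfl
  have hR := Cfsg.Agent.S1562.result T hT
  have hle : ∀ U : Finset GolayPt, (T ∩ U).card ≤ 3 := fun U =>
    hT ▸ Finset.card_le_card Finset.inter_subset_left
  -- class 10
  have c10 : {y : Finset GolayPt | y ∈ {t : Finset GolayPt | t.card = 3} ∧ cF T y = 10} =
      {U : Finset GolayPt | U.card = 3 ∧ Disjoint T U ∧ (∃ o ∈ octads, T ∪ U ⊆ o)} := by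
    ext U
    constructor
    · rintro ⟨h1, h2⟩
      refine ⟨h1, ?_⟩
      by_cases hd : Disjoint T U
      · by_cases hs : ∃ o ∈ octads, T ∪ U ⊆ o
        · exact ⟨hd, hs⟩
        · rw [cF_nonspecial hd hs] at h2; omega
      · have := cF_meet hd
        have := hle U
        omega
    · rintro ⟨h1, hd, hs⟩
      exact ⟨h1, cF_special hd hs⟩
  have c0 : {y : Finset GolayPt | y ∈ {t : Finset GolayPt | t.card = 3} ∧ cF T y = 0} =
      {U : Finset GolayPt | U.card = 3 ∧ Disjoint T U ∧ ¬ (∃ o ∈ octads, T ∪ U ⊆ o)} := by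
    ext U
    constructor
    · rintro ⟨h1, h2⟩
      refine ⟨h1, ?_⟩
      by_cases hd : Disjoint T U
      · by_cases hs : ∃ o ∈ octads, T ∪ U ⊆ o
        · rw [cF_special hd hs] at h2; omega
        · exact ⟨hd, hs⟩
      · have := cF_meet hd
        omega
    · rintro ⟨h1, hd, hs⟩
      exact ⟨h1, cF_nonspecial hd hs⟩
  have hset : ∀ k, 1 ≤ k → k ≤ 3 →
      {y : Finset GolayPt | y ∈ {t : Finset GolayPt | t.card = 3} ∧ cF T y = k} =
      ((P.filter (fun U => (T ∩ U).card = k) : Finset (Finset GolayPt)) :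
        Set (Finset GolayPt)) := by
    intro k hk1 hk3
    ext U
    rw [Finset.coe_filter]
    constructor
    · rintro ⟨h1, h2⟩
      refine ⟨Finset.mem_powersetCard.2 ⟨Finset.subset_univ _, h1⟩, ?_⟩
      by_cases hd : Disjoint T U
      · by_cases hs : ∃ o ∈ octads, T ∪ U ⊆ o
        · rw [cF_special hd hs] at h2; omega
        · rw [cF_nonspecial hd hs] at h2; omega
      · have := cF_meet hd
        omega
    · rintro ⟨h1, h2⟩
      refine ⟨(Finset.mem_powersetCard.1 h1).2, ?_⟩
      have hd : ¬ Disjoint T U := by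
        intro hd
        rw [Finset.disjoint_iff_inter_eq_empty.1 hd, Finset.card_empty] at h2
        omega
      have := cF_meet hd
      omega
  have h3 : (P.filter (fun U => (T ∩ U).card = 3)).card = 1 := by
    have : P.filter (fun U => (T ∩ U).card = 3) = {T} := by
      ext U
      rw [Finset.mem_filter, Finset.mem_singleton, Finset.mem_powersetCard]
      constructor
      · rintro ⟨⟨_, hU⟩, h⟩
        exact eq_of_inter_card3 T U hT hU h
      · rintro rfl
        exact ⟨⟨Finset.subset_univ _, hT⟩, by rw [Finset.inter_self, hT]⟩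
    rw [this, Finset.card_singleton]
  have h2 := count_two T hT
  have h0 : (P.filter (fun U => (T ∩ U).card = 0)).card = 1330 := by
    have h := Cfsg.Agent.S1562.count_all T hT
    have : {U : Finset GolayPt | U.card = 3 ∧ Disjoint T U} =
        ((P.filter (fun U => (T ∩ U).card = 0) : Finset (Finset GolayPt)) :
          Set (Finset GolayPt)) := by
      ext U
      rw [Finset.coe_filter]
      constructor
      · rintro ⟨h1, hd⟩
        exact ⟨Finset.mem_powersetCard.2 ⟨Finset.subset_univ _, h1⟩, by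
          rw [Finset.disjoint_iff_inter_eq_empty.1 hd, Finset.card_empty]⟩
      · rintro ⟨h1, h2⟩
        exact ⟨(Finset.mem_powersetCard.1 h1).2, by
          rw [Finset.disjoint_iff_inter_eq_empty, ← Finset.card_eq_zero]; exact h2⟩
    rw [this, Set.ncard_coe_finset] at h
    exact h
  have hsum := Finset.card_eq_sum_card_fiberwise (s := P) (t := ({0, 1, 2, 3} : Finset ℕ))
    (f := fun U => (T ∩ U).card) (by
      intro U _
      have := hle U
      simp only [Finset.coe_insert, Finset.coe_singleton, Set.mem_insert_iff, Set.mem_singleton_iff]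
      omega)
  rw [Finset.sum_insert (by decide), Finset.sum_insert (by decide), Finset.sum_insert (by decide),
    Finset.sum_singleton, hPcard, h0, h2, h3] at hsum
  intro k hk
  simp only [Finset.mem_insert, Finset.mem_singleton] at hk
  rcases hk with rfl | rfl | rfl | rfl | rfl
  · rw [c0]; exact hR.2.1
  · rw [hset 1 le_rfl (by norm_num), Set.ncard_coe_finset]
    show _ = 630
    omega
  · rw [hset 2 (by norm_num) (by norm_num), Set.ncard_coe_finset, h2]; rfl
  · rw [hset 3 (by norm_num) le_rfl, Set.ncard_coe_finset, h3]; rfl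
  · rw [c10]; exact hR.1


/-- The stabiliser of a set of three points (setwise) is a maximal proper subgroup of the group of the length-24 code. -/
theorem result (s : Finset Cfsg.GolayPt) (hs : s.card = 3) : IsCoatom (MulAction.stabilizer Cfsg.M24 s) := by
  have horb := orbit_triple s hs
  have hself : cF s s = 3 := by
    have hd : ¬ Disjoint s s := by
      rw [Finset.disjoint_self_iff_empty]
      intro h
      rw [h, Finset.card_empty] at hs
      omega
    rw [(cF_meet hd).1, Finset.inter_self, hs]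
  apply isCoatom_stabilizer_of_classes' (G := ↥Cfsg.M24) s (cF s)
    ({0, 1, 2, 3, 10} : Finset ℕ) nF
  · intro y hy
    rw [horb] at hy
    have hle : (s ∩ y).card ≤ 3 := hs ▸ Finset.card_le_card Finset.inter_subset_left
    simp only [Finset.mem_insert, Finset.mem_singleton]
    by_cases hd : Disjoint s y
    · by_cases hsp : ∃ o ∈ octads, s ∪ y ⊆ o
      · rw [cF_special hd hsp]; omega
      · rw [cF_nonspecial hd hsp]; omega
    · have := cF_meet hd
      omega
  · intro y hy h
    rw [horb] at hy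
    rw [hself] at h
    have hd : ¬ Disjoint s y := by
      intro hd
      by_cases hsp : ∃ o ∈ octads, s ∪ y ⊆ o
      · rw [cF_special hd hsp] at h; omega
      · rw [cF_nonspecial hd hsp] at h; omega
    have := cF_meet hd
    exact eq_of_inter_card3 s y hs hy (by omega)
  · intro y hy z hz h
    rw [horb] at hy hz
    obtain ⟨g, hg, hgs, hgy⟩ := triple_conj s y z hs hy hz h
    exact ⟨⟨g, hg⟩, MulAction.mem_stabilizer_iff.2 hgs, hgy⟩
  · rw [horb]
    exact count_classes s hs
  · decide
  · rw [hself]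
    exact arith

end Cfsg.Agent.S1564
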