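import Cfsg.Statements.S1565
import Mathlib
import Cfsg.Agent.Lib.Helper1.CoatomOrbits
import Cfsg.Agent.S1556
import Cfsg.Agent.Lib.Helper1.M24OctPairs

set_option autoImplicit false
open scoped Pointwise
open Cfsg

namespace Cfsg.Agent.S1565


open Cfsg.Agent.Lib.Helper1

theorem cnt8 : (Finset.univ.filter (fun m : Fin 4096 =>
    popc (combo m.val) = 8 ∧ popc (8536111 &&& combo m.val) = 8)).card = 1 := by
  decide +kernel

def nF (k : ℕ) : ℕ := if k = 0 then 30 else if k = 2 then 448 else if k = 4 then 280 else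
  if k = 8 then 1 else 0

theorem arith : ∀ S ∈ ({0, 2, 4, 8} : Finset ℕ).powerset, 8 ∈ S → (∑ k ∈ S, nF k) ∣ 759 →
    S = {8} ∨ S = ({0, 2, 4, 8} : Finset ℕ) := by
  decide

theorem inter_vals (o b : Finset GolayPt) (ho : o ∈ octads) (hb : b ∈ octads) :
    (o ∩ b).card ∈ ({0, 2, 4, 8} : Finset ℕ) := by
  obtain ⟨g0, hg0, rfl⟩ := exists_smul_oct0 ho
  have hp' : g0⁻¹ • b ∈ octads := smul_mem_octads (inv_mem hg0) hb
  obtain ⟨m, hm, hbm, h8⟩ := exists_idx_of_mem_wow hp'
  have e1 : (g0 • oct0 ∩ b).card = (supp 2503 ∩ supp m).card := by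
    have : b = g0 • supp m := by
      show b = g0 • support₂ (wordOf m)
      rw [← hbm, smul_inv_smul]
    rw [this, card_inter_smul]
    rfl
  rw [e1, Cfsg.Agent.S1556.card_inter_supp]
  rcases Cfsg.Agent.S1556.cover' m hm h8 with ⟨c, _⟩ | ⟨c, _⟩ | ⟨c, _⟩ | hc
  · rw [c]; decide
  · rw [c]; decide
  · rw [c]; decide
  · rw [hc, Cfsg.Agent.S1556.combo_base, Nat.and_self, Cfsg.Agent.S1556.popc_base]; decide


/-- The stabiliser of an octad is a maximal proper subgroup of the group of the length-24 code. -/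
theorem result (o : Finset Cfsg.GolayPt) (ho : o ∈ Cfsg.octads) : IsCoatom (MulAction.stabilizer Cfsg.M24 o) := by
  have horb := Cfsg.Agent.Lib.Helper1.OctPairs.orbit_M24_octad o ho
  apply isCoatom_stabilizer_of_classes (G := ↥Cfsg.M24) o (fun b => (o ∩ b).card)
    ({0, 2, 4, 8} : Finset ℕ) nF 759
  · intro y hy
    rw [horb] at hy
    exact inter_vals o y ho hy
  · intro y hy h
    rw [horb] at hy
    rw [Finset.inter_self] at h
    have h1 : o ∩ y = o := Finset.eq_of_subset_of_card_le Finset.inter_subset_left (by rw [h])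
    have h2 : o ⊆ y := by
      rw [← h1]; exact Finset.inter_subset_right
    exact (Finset.eq_of_subset_of_card_le h2 (by rw [ho.2, hy.2])).symm
  · intro y hy z hz h
    rw [horb] at hy hz
    obtain ⟨g, hg, hgo, hgy⟩ := Cfsg.Agent.S1556.octad_pair_conj o y z ho hy hz h
    exact ⟨⟨g, hg⟩, MulAction.mem_stabilizer_iff.2 hgo, hgy⟩
  · intro k hk
    rw [horb]
    have h := Cfsg.Agent.Lib.Helper1.OctPairs.count_meet o ho k
    simp only [Finset.mem_insert, Finset.mem_singleton] at hk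
    rcases hk with rfl | rfl | rfl | rfl
    · rw [h, Cfsg.Agent.Lib.Helper1.OctPairs.cnt0]; rfl
    · rw [h, Cfsg.Agent.Lib.Helper1.OctPairs.cnt2]; rfl
    · rw [h, Cfsg.Agent.Lib.Helper1.OctPairs.cnt4]; rfl
    · rw [h, cnt8]; rfl
  · rw [horb]; exact Cfsg.Agent.S0360.result
  · norm_num
  · have : (o ∩ o).card = 8 := by rw [Finset.inter_self]; exact ho.2
    simp only [this]
    exact arith

end Cfsg.Agent.S1565
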