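import Cfsg.Statements.S1567
import Mathlib
import Cfsg.Agent.Lib.Helper1.Leech
import Cfsg.Agent.Lib.Helper1.LeechIndex
import Cfsg.Agent.Lib.Helper9.LeechTS
import Cfsg.Agent.Lib.Helper1.GolayEnum

set_option autoImplicit false
open Cfsg

namespace Cfsg.Agent.S1567


open Cfsg.Agent.Lib.Helper1 Cfsg.Agent.Lib.Helper9.LeechTS

/-- the subgroup generated by the minimal vectors -/
def MV : AddSubgroup (GolayPt → ℤ) :=
  AddSubgroup.closure {x : GolayPt → ℤ | x ∈ leechLattice ∧ sqNorm x = 32}

theorem mem_MV {x : GolayPt → ℤ} (h1 : x ∈ leechLattice) (h2 : sqNorm x = 32) : x ∈ MV :=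
  AddSubgroup.subset_closure ⟨h1, h2⟩

theorem sqNorm_x0 : sqNorm x0 = 32 := by
  unfold sqNorm
  rw [Fintype.sum_option]
  simp [x0]

theorem x0_MV : x0 ∈ MV := mem_MV x0_mem sqNorm_x0

theorem sqNorm_two_lift (c : GolayPt → ZMod 2) :
    sqNorm (fun i => 2 * liftZ c i) = 4 * ((support₂ c).card : ℤ) := by
  unfold sqNorm
  have h : ∀ i, (2 * liftZ c i) ^ 2 = 4 * liftZ c i := by
    intro i
    rw [liftZ_eq_ite]
    split_ifs <;> norm_num
  simp_rw [h]
  rw [← Finset.mul_sum, sum_liftZ]

/-- twice the lift of the word with index `a` -/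
def octV (a : ℕ) : GolayPt → ℤ := fun i => 2 * liftZ (wordOf a) i

theorem octV_MV {a : ℕ} (h : popc (combo a) = 8) : octV a ∈ MV := by
  apply mem_MV (even_lift_mem (wordOf_mem a))
  show sqNorm (fun i => 2 * liftZ (wordOf a) i) = 32
  rw [sqNorm_two_lift, card_support₂, mask_wordOf, h]
  norm_num

theorem octV_even (a : ℕ) (i : GolayPt) : octV a i / 2 = liftZ (wordOf a) i := by
  unfold octV
  omega

/-- half of an even vector -/
def half (y : GolayPt → ℤ) : GolayPt → ℤ := fun i => y i / 2

/-- the property used in the induction over the code -/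
def P (c : GolayPt → ZMod 2) : Prop :=
  ∃ u ∈ MV, u ∈ leechLattice ∧ (∀ i, 2 ∣ u i) ∧ wordZ (half u) = c

theorem P_zero : P 0 := by
  refine ⟨0, MV.zero_mem, leechLattice.zero_mem, fun i => dvd_zero _, ?_⟩
  funext i
  simp [wordZ_apply, half]

theorem half_add {u v : GolayPt → ℤ} (hu : ∀ i, 2 ∣ u i) (hv : ∀ i, 2 ∣ v i) :
    half (u + v) = half u + half v := by
  funext i
  obtain ⟨a, ha⟩ := hu i
  obtain ⟨b, hb⟩ := hv i
  simp only [half, Pi.add_apply]
  omega

theorem P_add {c d : GolayPt → ZMod 2} (hc : P c) (hd : P d) : P (c + d) := by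
  obtain ⟨u, hu1, hu2, hu3, hu4⟩ := hc
  obtain ⟨v, hv1, hv2, hv3, hv4⟩ := hd
  refine ⟨u + v, MV.add_mem hu1 hv1, leechLattice.add_mem hu2 hv2,
    fun i => dvd_add (hu3 i) (hv3 i), ?_⟩
  rw [half_add hu3 hv3, wordZ_add, hu4, hv4]

theorem P_oct {a : ℕ} (h : popc (combo a) = 8) : P (wordOf a) := by
  refine ⟨octV a, octV_MV h, even_lift_mem (wordOf_mem a), fun i => ⟨liftZ (wordOf a) i, rfl⟩, ?_⟩
  have : half (octV a) = liftZ (wordOf a) := by
    funext i
    exact octV_even a i
  rw [this, wordZ_liftZ]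

def aw : List ℕ := [118, 41, 43, 35, 43, 15, 30, 35, 35, 35, 19, 19, 38, 41, 19, 38, 15, 15, 19, 15, 15, 30, 59]

theorem aw_ok : ∀ t : ZMod 23, popc (combo (aw.getD t.val 0)) = 8 ∧
    popc (combo (aw.getD t.val 0 ^^^ qIdx t)) = 8 := by
  decide +kernel

theorem ones_ok : popc (combo 15) = 8 ∧ popc (combo 125) = 8 ∧ popc (combo (15 ^^^ 125 ^^^ 2048)) = 8 ∧
    combo 2048 = 16777215 := by
  decide +kernel

theorem wordOf_xor (a b : ℕ) : wordOf (a ^^^ b) = wordOf a + wordOf b := by
  apply mask_injective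
  rw [mask_add, mask_wordOf, mask_wordOf, mask_wordOf, combo_xor]

theorem P_qr (t : ZMod 23) : P (qrWord t) := by
  obtain ⟨h1, h2⟩ := aw_ok t
  have h3 : qrWord t = wordOf (aw.getD t.val 0) + wordOf (aw.getD t.val 0 ^^^ qIdx t) := by
    rw [← wordOf_xor, ← Nat.xor_assoc, Nat.xor_self, Nat.zero_xor]
    apply mask_injective
    rw [mask_wordOf]
    exact (mask_qr_combo' t).2
  rw [h3]
  exact P_add (P_oct h1) (P_oct h2)

theorem P_one : P 1 := by
  obtain ⟨h1, h2, h3, h4⟩ := ones_ok
  have h5 : (1 : GolayPt → ZMod 2) = wordOf 15 + wordOf 125 + wordOf (15 ^^^ 125 ^^^ 2048) := by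
    rw [← wordOf_xor, ← wordOf_xor]
    apply mask_injective
    rw [mask_wordOf, mask_one]
    have : 15 ^^^ 125 ^^^ (15 ^^^ 125 ^^^ 2048) = 2048 := by decide
    rw [this, h4]
  rw [h5]
  exact P_add (P_add (P_oct h1) (P_oct h2)) (P_oct h3)

theorem P_all {c : GolayPt → ZMod 2} (hc : c ∈ golayCode) : P c := by
  unfold golayCode at hc
  induction hc using Submodule.span_induction with
  | mem x hx =>
    rcases hx with ⟨t, rfl⟩ | hx
    · exact P_qr t
    · rw [Set.mem_singleton_iff] at hx
      rw [hx]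
      exact P_one
  | zero => exact P_zero
  | add x y _ _ hx hy => exact P_add hx hy
  | smul a x _ hx =>
    have ha : a = 0 ∨ a = 1 := by
      revert a; decide
    rcases ha with rfl | rfl
    · rw [zero_smul]
      exact P_zero
    · rw [one_smul]
      exact hx

/-- the vectors with two non-zero coordinates `4` and `4 s` -/
def E2 (i j : GolayPt) (s : ℤ) : GolayPt → ℤ := Pi.single i 4 + Pi.single j (4 * s)

theorem E2_apply (i j : GolayPt) (s : ℤ) (k : GolayPt) :
    E2 i j s k = (if k = i then 4 else 0) + (if k = j then 4 * s else 0) := by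
  simp [E2, Pi.single_apply]

theorem E2_MV {i j : GolayPt} (hij : i ≠ j) {s : ℤ} (hs : s = 1 ∨ s = -1) : E2 i j s ∈ MV := by
  have hsum : ∀ f : GolayPt → ℤ, (∀ k, k ≠ i ∧ k ≠ j → f k = 0) → ∑ k, f k = f i + f j := by
    intro f hf
    exact Finset.sum_eq_add i j hij (fun c _ hc => hf c hc) (fun h => absurd (Finset.mem_univ _) h)
      (fun h => absurd (Finset.mem_univ _) h)
  have hji : j ≠ i := fun h => hij h.symm
  apply mem_MV
  · rw [mem_leechLattice_iff]
    refine ⟨0, fun k => (if k = i then 2 else 0) + (if k = j then 2 * s else 0), ?_, ?_, ?_⟩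
    · intro k
      show E2 i j s k = 0 + 2 * ((if k = i then 2 else 0) + (if k = j then 2 * s else 0))
      rw [E2_apply]
      split_ifs <;> ring
    · rw [hsum (E2 i j s) (fun k hk => by rw [E2_apply, if_neg hk.1, if_neg hk.2]; rfl)]
      rw [E2_apply, E2_apply, if_pos rfl, if_neg hij, if_neg hji, if_pos rfl]
      rcases hs with rfl | rfl <;> decide
    · have : wordZ (fun k => (if k = i then (2 : ℤ) else 0) + (if k = j then 2 * s else 0)) = 0 := by
        funext k
        rw [wordZ_apply]
        have h2 : (2 : ZMod 2) = 0 := by decide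
        have e : ((if k = i then (2 : ℤ) else 0) + (if k = j then 2 * s else 0)) =
            2 * ((if k = i then 1 else 0) + (if k = j then s else 0)) := by
          split_ifs <;> ring
        rw [e, Int.cast_mul, Int.cast_ofNat, h2, zero_mul]
        rfl
      rw [this]
      exact golayCode.zero_mem
  · unfold sqNorm
    rw [hsum (fun k => E2 i j s k ^ 2) (fun k hk => by
      show E2 i j s k ^ 2 = 0
      rw [E2_apply, if_neg hk.1, if_neg hk.2]; rfl)]
    show E2 i j s i ^ 2 + E2 i j s j ^ 2 = 32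
    rw [E2_apply, E2_apply, if_pos rfl, if_neg hij, if_neg hji, if_pos rfl]
    rcases hs with rfl | rfl <;> norm_num

theorem four_MV (z : GolayPt → ℤ) (h4 : ∀ i, 4 ∣ z i) (h8 : (8 : ℤ) ∣ ∑ i, z i) : z ∈ MV := by
  have hq : (some 0 : GolayPt) ≠ none := by decide
  have hD : ∀ i : GolayPt, Pi.single i (4 : ℤ) - Pi.single none 4 ∈ MV := by
    intro i
    by_cases hi : i = none
    · rw [hi, sub_self]
      exact MV.zero_mem
    · have h := E2_MV hi (Or.inr rfl : (-1 : ℤ) = 1 ∨ (-1 : ℤ) = -1)
      have e : E2 i none (-1) = Pi.single i (4 : ℤ) - Pi.single none 4 := by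
        unfold E2
        rw [sub_eq_add_neg, ← Pi.single_neg]
        norm_num
      rw [← e]
      exact h
  have hP2 : (2 : ℤ) • (Pi.single none (4 : ℤ) : GolayPt → ℤ) ∈ MV := by
    have h1 := E2_MV hq.symm (Or.inl rfl : (1 : ℤ) = 1 ∨ (1 : ℤ) = -1)
    have h2 := E2_MV hq.symm (Or.inr rfl : (-1 : ℤ) = 1 ∨ (-1 : ℤ) = -1)
    have e : (2 : ℤ) • (Pi.single none (4 : ℤ) : GolayPt → ℤ) =
        E2 none (some 0) 1 + E2 none (some 0) (-1) := by
      funext k
      simp only [E2_apply, Pi.add_apply, Pi.smul_apply, Pi.single_apply, smul_eq_mul]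
      split_ifs <;> ring
    rw [e]
    exact MV.add_mem h1 h2
  have hz : z = ∑ i, ((z i / 4) • (Pi.single i (4 : ℤ) - Pi.single none 4 : GolayPt → ℤ)) +
      (∑ i, z i / 4) • (Pi.single none (4 : ℤ) : GolayPt → ℤ) := by
    rw [Finset.sum_smul, ← Finset.sum_add_distrib]
    conv_lhs => rw [← Finset.univ_sum_single z]
    apply Finset.sum_congr rfl
    intro i _
    rw [← smul_add, sub_add_cancel]
    funext k
    obtain ⟨w, hw⟩ := h4 i
    simp only [Pi.smul_apply, Pi.single_apply, smul_eq_mul]
    split_ifs with h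
    · subst h
      omega
    · simp
  rw [hz]
  apply MV.add_mem
  · apply MV.sum_mem
    intro i _
    exact MV.zsmul_mem (hD i) _
  · have h2 : (2 : ℤ) ∣ ∑ i, z i / 4 := by
      have e : ∑ i, z i = 4 * ∑ i, z i / 4 := by
        rw [Finset.mul_sum]
        apply Finset.sum_congr rfl
        intro i _
        obtain ⟨w, hw⟩ := h4 i
        omega
      rw [e] at h8
      omega
    obtain ⟨s, hs⟩ := h2
    rw [hs, mul_comm, mul_smul]
    exact MV.zsmul_mem hP2 _

theorem even_MV {y : GolayPt → ℤ} (hy : y ∈ leechLattice) (h0 : 2 ∣ y none) : y ∈ MV := by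
  have hpar := leech_le_latA1 hy
  rw [mem_latA1] at hpar
  have hev : ∀ i, 2 ∣ y i := by
    intro i
    have := hpar i
    omega
  -- the word of the halves
  have hc : wordZ (half y) ∈ golayCode := by
    have h1 := leech_word hy
    obtain ⟨m, hm⟩ := h0
    have e : wordZ (half y) = wordZ (halfV y) + ((m : ℤ) : ZMod 2) • (1 : GolayPt → ZMod 2) := by
      funext i
      simp only [wordZ_apply, half, halfV, Pi.add_apply, Pi.smul_apply, Pi.one_apply, smul_eq_mul,
        mul_one]
      obtain ⟨a, ha⟩ := hev i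
      have e1 : y i / 2 = (y i - y none) / 2 + m := by omega
      rw [e1]
      push_cast
      rfl
    rw [e]
    exact golayCode.add_mem h1 (golayCode.smul_mem _ one_mem_golayCode)
  obtain ⟨u, hu1, hu2, hu3, hu4⟩ := P_all hc
  have hz : y - u ∈ MV := by
    apply four_MV
    · intro i
      have h1 : (wordZ (half y) i) = wordZ (half u) i := by rw [hu4]
      rw [wordZ_apply, wordZ_apply] at h1
      have h2 : (((half y i - half u i : ℤ)) : ZMod 2) = 0 := by
        push_cast
        rw [h1, sub_self]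
      rw [ZMod.intCast_zmod_eq_zero_iff_dvd] at h2
      obtain ⟨a, ha⟩ := hev i
      obtain ⟨b, hb⟩ := hu3 i
      simp only [half] at h2
      simp only [Pi.sub_apply]
      omega
    · have h1 := leech_sum (leechLattice.sub_mem hy hu2)
      have h2 : (4 : ℤ) ∣ (y - u) none := by
        have h1 : (wordZ (half y) none) = wordZ (half u) none := by rw [hu4]
        rw [wordZ_apply, wordZ_apply] at h1
        have h2 : (((half y none - half u none : ℤ)) : ZMod 2) = 0 := by
          push_cast
          rw [h1, sub_self]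
        rw [ZMod.intCast_zmod_eq_zero_iff_dvd] at h2
        obtain ⟨a, ha⟩ := hev none
        obtain ⟨b, hb⟩ := hu3 none
        simp only [half] at h2
        simp only [Pi.sub_apply]
        omega
      omega
  have : y = (y - u) + u := by abel
  rw [this]
  exact MV.add_mem hz hu1


/-- The rank-24 lattice is the additive subgroup generated by its 196560 minimal vectors. -/
theorem result : AddSubgroup.closure {x : Cfsg.GolayPt → ℤ | x ∈ Cfsg.leechLattice ∧ Cfsg.sqNorm x = 32} = Cfsg.leechLattice := by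
  show MV = leechLattice
  apply le_antisymm
  · unfold MV
    rw [AddSubgroup.closure_le]
    intro x hx
    exact hx.1
  · intro x hx
    by_cases h : 2 ∣ x none
    · exact even_MV hx h
    · have h1 : x - x0 ∈ MV := by
        apply even_MV (leechLattice.sub_mem hx x0_mem)
        show 2 ∣ x none - x0 none
        have : x0 none = -3 := rfl
        rw [this]
        omega
      have : x = (x - x0) + x0 := by abel
      rw [this]
      exact MV.add_mem h1 x0_MV

end Cfsg.Agent.S1567
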