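import Cfsg.Statements.S1568
import Mathlib
import Cfsg.Agent.Lib.Helper1.Leech48c

set_option autoImplicit false
open Cfsg

namespace Cfsg.Agent.S1568

open Cfsg.Agent.Lib.Helper1.Leech48 in


/-- Shape census of the lattice vectors of sum of squares 48 (customary norm 6): the four families (2^12, 0^12), (±3^3, ±1^21), (±4, ±2^8, 0^15) and (±5, ±1^23) have 5275648, 8290304, 3108864 and 98304 members. -/
theorem result : {x : Cfsg.GolayPt → ℤ | x ∈ Cfsg.leechLattice ∧ Cfsg.sqNorm x = 48 ∧ ∀ i, x i = 0 ∨ x i = 2 ∨ x i = -2}.ncard = 5275648 ∧ {x : Cfsg.GolayPt → ℤ | x ∈ Cfsg.leechLattice ∧ Cfsg.sqNorm x = 48 ∧ ∃ i j k, i ≠ j ∧ j ≠ k ∧ i ≠ k ∧ |x i| = 3 ∧ |x j| = 3 ∧ |x k| = 3}.ncard = 8290304 ∧ {x : Cfsg.GolayPt → ℤ | x ∈ Cfsg.leechLattice ∧ Cfsg.sqNorm x = 48 ∧ ∃ i, |x i| = 4}.ncard = 3108864 ∧ {x : Cfsg.GolayPt → ℤ | x ∈ Cfsg.leechLattice ∧ Cfsg.sqNorm x = 48 ∧ ∃ i, |x i| = 5}.ncard = 98304 := by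
  have e1 : {x : Cfsg.GolayPt → ℤ | x ∈ Cfsg.leechLattice ∧ Cfsg.sqNorm x = 48 ∧
      ∀ i, x i = 0 ∨ x i = 2 ∨ x i = -2} = ((F1 : Finset (GolayPt → ℤ)) : Set (GolayPt → ℤ)) := by
    ext x
    rw [Finset.mem_coe]
    constructor
    · rintro ⟨hx, hn, hv⟩
      rcases classify48 hx hn with h | h | h | h
      · exact h
      · exfalso
        have a := val2 h none
        have b := hv none
        omega
      · exfalso
        obtain ⟨_, k, hk⟩ := val3 h
        have b := hv k
        omega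
      · exfalso
        have a := (val4 h).1 none
        have b := hv none
        omega
    · intro h
      exact ⟨(mem48_F1 h).1, (mem48_F1 h).2, val1 h⟩
  have e2 : {x : Cfsg.GolayPt → ℤ | x ∈ Cfsg.leechLattice ∧ Cfsg.sqNorm x = 48 ∧
      ∃ i j k, i ≠ j ∧ j ≠ k ∧ i ≠ k ∧ |x i| = 3 ∧ |x j| = 3 ∧ |x k| = 3} =
      ((F2 : Finset (GolayPt → ℤ)) : Set (GolayPt → ℤ)) := by
    ext x
    rw [Finset.mem_coe]
    constructor
    · rintro ⟨hx, hn, i, _, _, _, _, _, hi, _, _⟩
      rw [abs_eq (by norm_num)] at hi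
      rcases classify48 hx hn with h | h | h | h
      · exfalso
        have a := val1 h i
        omega
      · exact h
      · exfalso
        have a := (val3 h).1 i
        omega
      · exfalso
        have a := (val4 h).1 i
        omega
    · intro h
      exact ⟨(mem48_F2 h).1, (mem48_F2 h).2, val2' h⟩
  have e3 : {x : Cfsg.GolayPt → ℤ | x ∈ Cfsg.leechLattice ∧ Cfsg.sqNorm x = 48 ∧
      ∃ i, |x i| = 4} = ((F3 : Finset (GolayPt → ℤ)) : Set (GolayPt → ℤ)) := by
    ext x
    rw [Finset.mem_coe]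
    constructor
    · rintro ⟨hx, hn, i, hi⟩
      rw [abs_eq (by norm_num)] at hi
      rcases classify48 hx hn with h | h | h | h
      · exfalso
        have a := val1 h i
        omega
      · exfalso
        have a := val2 h i
        omega
      · exact h
      · exfalso
        have a := (val4 h).1 i
        omega
    · intro h
      obtain ⟨_, k, hk⟩ := val3 h
      refine ⟨(mem48_F3 h).1, (mem48_F3 h).2, k, ?_⟩
      rw [abs_eq (by norm_num)]
      exact hk
  have e4 : {x : Cfsg.GolayPt → ℤ | x ∈ Cfsg.leechLattice ∧ Cfsg.sqNorm x = 48 ∧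
      ∃ i, |x i| = 5} = ((F4 : Finset (GolayPt → ℤ)) : Set (GolayPt → ℤ)) := by
    ext x
    rw [Finset.mem_coe]
    constructor
    · rintro ⟨hx, hn, i, hi⟩
      rw [abs_eq (by norm_num)] at hi
      rcases classify48 hx hn with h | h | h | h
      · exfalso
        have a := val1 h i
        omega
      · exfalso
        have a := val2 h i
        omega
      · exfalso
        have a := (val3 h).1 i
        omega
      · exact h
    · intro h
      obtain ⟨_, k, hk⟩ := val4 h
      refine ⟨(mem48_F4 h).1, (mem48_F4 h).2, k, ?_⟩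
      rw [abs_eq (by norm_num)]
      exact hk
  rw [e1, e2, e3, e4, Set.ncard_coe_finset, Set.ncard_coe_finset, Set.ncard_coe_finset,
    Set.ncard_coe_finset, card_F1, card_F2, card_F3, card_F4]
  exact ⟨rfl, rfl, rfl, rfl⟩
end Cfsg.Agent.S1568
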