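import Cfsg.Statements.S1569
import Mathlib
import Cfsg.Agent.Lib.Helper1.LeechCross3

set_option autoImplicit false
open scoped Pointwise
open Cfsg

namespace Cfsg.Agent.S1569

open Cfsg.Agent.Lib.Helper1.LeechCross in


/-- The cross through a lattice vector of customary norm 8 has exactly 48 members. -/
theorem result (x : Cfsg.GolayPt → ℤ) (hx : x ∈ Cfsg.leechLattice) (hxn : Cfsg.sqNorm x = 64) : (Cfsg.cross x).ncard = 48 := by
  have h := core.2 x hx hxn
  have hset : Cfsg.cross x = {w | w ∈ leechLattice ∧ sqNorm w = 64 ∧ cls w = cls x} := by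
    ext y
    unfold Cfsg.cross
    constructor
    · rintro ⟨hy, hn, hz⟩
      exact ⟨hy, hn.trans hxn, (cls_eq_iff' hy hx).2 hz⟩
    · rintro ⟨hy, hn, hc⟩
      exact ⟨hy, hn.trans hxn.symm, (cls_eq_iff' hy hx).1 hc⟩
  rw [hset]
  exact h
end Cfsg.Agent.S1569
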