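import Mathlib
import Cfsg.Statements.S1587

set_option autoImplicit false
open Cfsg

namespace Cfsg.Agent.S1587

open Matrix

theorem symm_form (B : Matrix (Fin 24) (Fin 24) ℤ) (hsymm : B.IsSymm) (u v : Fin 24 → ℤ) :
    u ⬝ᵥ (B *ᵥ v) = v ⬝ᵥ (B *ᵥ u) := by
  rw [Matrix.dotProduct_mulVec, ← Matrix.mulVec_transpose, hsymm.eq, dotProduct_comm]

/-- First step of the characterisation of the rank-24 lattice: in an even lattice without roots, norm-8 vectors congruent modulo 2 are equal, opposite or orthogonal. -/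
theorem result (B : Matrix (Fin 24) (Fin 24) ℤ) (hsymm : B.IsSymm) (hpos : ∀ x : Fin 24 → ℤ, x ≠ 0 → 0 < x ⬝ᵥ (B *ᵥ x)) (heven : ∀ x : Fin 24 → ℤ, (2 : ℤ) ∣ x ⬝ᵥ (B *ᵥ x)) (h2 : ∀ x : Fin 24 → ℤ, x ⬝ᵥ (B *ᵥ x) ≠ 2) (x y : Fin 24 → ℤ) (hx : x ⬝ᵥ (B *ᵥ x) = 8) (hy : y ⬝ᵥ (B *ᵥ y) = 8) (hc : ∀ i, (2 : ℤ) ∣ (x - y) i) : y = x ∨ y = -x ∨ x ⬝ᵥ (B *ᵥ y) = 0 := by
  have hyx : y ⬝ᵥ (B *ᵥ x) = x ⬝ᵥ (B *ᵥ y) := symm_form B hsymm y x
  set b : ℤ := x ⬝ᵥ (B *ᵥ y) with hb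
  -- z and w
  have hc' : ∀ i, (2 : ℤ) ∣ (x + y) i := by
    intro i
    have h1 := hc i
    have : (x + y) i = (x - y) i + 2 * y i := by simp [Pi.add_apply, Pi.sub_apply]; ring
    rw [this]
    exact dvd_add h1 (dvd_mul_right 2 _)
  set z : Fin 24 → ℤ := fun i => (x - y) i / 2 with hz
  set w : Fin 24 → ℤ := fun i => (x + y) i / 2 with hw
  have hzx : x - y = (2 : ℤ) • z := by
    funext i
    simp only [Pi.smul_apply, smul_eq_mul, hz]
    exact (Int.mul_ediv_cancel' (hc i)).symm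
  have hwx : x + y = (2 : ℤ) • w := by
    funext i
    simp only [Pi.smul_apply, smul_eq_mul, hw]
    exact (Int.mul_ediv_cancel' (hc' i)).symm
  have e1 : (x - y) ⬝ᵥ (B *ᵥ (x - y)) = 16 - 2 * b := by
    simp only [Matrix.mulVec_sub, dotProduct_sub, sub_dotProduct]
    rw [hyx, hx, hy]; ring
  have e2 : (x + y) ⬝ᵥ (B *ᵥ (x + y)) = 16 + 2 * b := by
    simp only [Matrix.mulVec_add, dotProduct_add, add_dotProduct]
    rw [hyx, hx, hy]; ring
  have e3 : ((2 : ℤ) • z) ⬝ᵥ (B *ᵥ ((2 : ℤ) • z)) = 4 * (z ⬝ᵥ (B *ᵥ z)) := by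
    simp only [Matrix.mulVec_smul, dotProduct_smul, smul_dotProduct, smul_eq_mul]
    ring
  have e4 : ((2 : ℤ) • w) ⬝ᵥ (B *ᵥ ((2 : ℤ) • w)) = 4 * (w ⬝ᵥ (B *ᵥ w)) := by
    simp only [Matrix.mulVec_smul, dotProduct_smul, smul_dotProduct, smul_eq_mul]
    ring
  rw [hzx, e3] at e1
  rw [hwx, e4] at e2
  set nz : ℤ := z ⬝ᵥ (B *ᵥ z) with hnz
  set nw : ℤ := w ⬝ᵥ (B *ᵥ w) with hnw
  have hnz0 : 0 ≤ nz := by
    by_cases h0 : z = 0
    · rw [hnz, h0]; simp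
    · exact (hpos z h0).le
  have hnw0 : 0 ≤ nw := by
    by_cases h0 : w = 0
    · rw [hnw, h0]; simp
    · exact (hpos w h0).le
  have hez : (2 : ℤ) ∣ nz := heven z
  have hew : (2 : ℤ) ∣ nw := heven w
  have hz2 : nz ≠ 2 := h2 z
  have hw2 : nw ≠ 2 := h2 w
  have hsum : nz + nw = 8 := by linarith
  obtain ⟨k, hk⟩ := hez
  have hk0 : 0 ≤ k := by omega
  have hk4 : k ≤ 4 := by omega
  have hcases : k = 0 ∨ k = 2 ∨ k = 4 := by omega
  rcases hcases with h | h | h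
  · -- nz = 0, z = 0
    left
    have hz0 : z = 0 := by
      by_contra hne
      have := hpos z hne
      rw [← hnz, hk, h] at this
      omega
    rw [hz0, smul_zero] at hzx
    exact (sub_eq_zero.1 hzx).symm
  · right; right
    have : nz = 4 := by rw [hk, h]; norm_num
    omega
  · right; left
    have hnw' : nw = 0 := by omega
    have hw0 : w = 0 := by
      by_contra hne
      have := hpos w hne
      rw [← hnw, hnw'] at this
      omega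
    rw [hw0, smul_zero] at hwx
    exact (eq_neg_of_add_eq_zero_right hwx)

end Cfsg.Agent.S1587
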