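import Cfsg.Statements.S1591
import Mathlib
import Cfsg.Agent.Lib.Helper1.TernaryGolay

set_option autoImplicit false
open Cfsg

namespace Cfsg.Agent.S1591


open Cfsg.Agent.Lib.Helper1.TG

theorem gram : ∀ k l : Fin 6, ∑ p : ArrayPt, Mat k p.1 p.2 * Mat l p.1 p.2 = 0 := by
  decide +kernel

theorem orth (c c' : Fin 6 → ZMod 3) : ∑ p, genC c p * genC c' p = 0 := by
  unfold genC
  simp_rw [Finset.sum_mul_sum]
  rw [Finset.sum_comm]
  apply Finset.sum_eq_zero
  intro k _
  rw [Finset.sum_comm]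
  apply Finset.sum_eq_zero
  intro l _
  have h : ∀ p : ArrayPt, c k * Mat k p.1 p.2 * (c' l * Mat l p.1 p.2) =
      (c k * c' l) * (Mat k p.1 p.2 * Mat l p.1 p.2) := fun p => by ring
  simp_rw [h]
  rw [← Finset.mul_sum, gram, mul_zero]


/-- Any two words of the length-12 ternary code have dot product zero. -/
theorem result (x y : Cfsg.ArrayPt → ZMod 3) (hx : x ∈ Cfsg.ternaryGolayCode) (hy : y ∈ Cfsg.ternaryGolayCode) : ∑ p, x p * y p = 0 := by
  rw [exists_genC hx, exists_genC hy]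
  exact orth _ _

end Cfsg.Agent.S1591
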