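import Cfsg.Statements.S1594
import Cfsg.Agent.Lib.Helper1.TG2
import Mathlib

set_option autoImplicit false
open Cfsg

namespace Cfsg.Agent.S1594

open Cfsg.Agent.Lib.Helper1.TG2

theorem card_units3 : Nat.card (ZMod 3)ˣ = 2 := by
  rw [Nat.card_eq_fintype_card]
  decide

/-- The monomial automorphism group of the length-12 ternary code has order 190080 and its permutation parts are exactly the automorphisms of its hexad system. -/
theorem result : Nat.card {f : Equiv.Perm Cfsg.ArrayPt × (Cfsg.ArrayPt → (ZMod 3)ˣ) // (∀ x ∈ Cfsg.ternaryGolayCode, Cfsg.monomialMap f.1 f.2 x ∈ Cfsg.ternaryGolayCode)} = 190080 ∧ {σ : Equiv.Perm Cfsg.ArrayPt | ∃ c : Cfsg.ArrayPt → (ZMod 3)ˣ, (∀ x ∈ Cfsg.ternaryGolayCode, Cfsg.monomialMap σ c x ∈ Cfsg.ternaryGolayCode)} = (Cfsg.setSystemAut {h : Finset Cfsg.ArrayPt | ∃ x ∈ Cfsg.ternaryGolayCode, Cfsg.ternarySupport x = h ∧ h.card = 6} : Set (Equiv.Perm Cfsg.ArrayPt)) := by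
  refine ⟨?_, ?_⟩
  · have hA : ∀ σ : ↥PS, ∃ c : ArrayPt → (ZMod 3)ˣ, valid σ.1 c := fun σ => σ.2
    choose c₀ hc₀ using hA
    let Φ : ↥PS × (ZMod 3)ˣ →
        {f : Equiv.Perm ArrayPt × (ArrayPt → (ZMod 3)ˣ) //
          (∀ x ∈ ternaryGolayCode, monomialMap f.1 f.2 x ∈ ternaryGolayCode)} :=
      fun p => ⟨(p.1.1, fun i => p.2 * c₀ p.1 i), valid_smul p.1.1 (c₀ p.1) p.2 (hc₀ p.1)⟩
    have hΦ : Function.Bijective Φ := by
      constructor
      · rintro ⟨σ, s⟩ ⟨σ', s'⟩ h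
        have h1 := congrArg Subtype.val h
        have h2 : σ.1 = σ'.1 := congrArg Prod.fst h1
        have h3 : (fun i => s * c₀ σ i) = (fun i => s' * c₀ σ' i) := congrArg Prod.snd h1
        have h4 : σ = σ' := Subtype.ext h2
        subst h4
        have h5 : s * c₀ σ (0, 0) = s' * c₀ σ (0, 0) := congrFun h3 (0, 0)
        rw [mul_right_cancel h5]
      · rintro ⟨⟨σ, c⟩, h⟩
        have hσ : σ ∈ PS := ⟨c, h⟩
        obtain ⟨s, hs⟩ := fiber σ (c₀ ⟨σ, hσ⟩) c (hc₀ ⟨σ, hσ⟩) h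
        refine ⟨(⟨σ, hσ⟩, s), ?_⟩
        apply Subtype.ext
        exact Prod.ext rfl (funext fun i => (hs i).symm)
    rw [← Nat.card_eq_of_bijective Φ hΦ, Nat.card_prod, card_PS, card_units3]
  · have h := congrArg (fun K : Subgroup (Equiv.Perm ArrayPt) => (K : Set (Equiv.Perm ArrayPt)))
      PS_eq_AA
    exact h

end Cfsg.Agent.S1594
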