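import Cfsg.Statements.S1595
import Cfsg.Agent.Lib.Lead.Steiner2

set_option autoImplicit false
open Cfsg

namespace Cfsg.Agent.S1595

/-- Leech triangle of S(5, 6, 12): blocks meet in 0, 2, 3 or 4 points, and a block is met exactly in a given 2-, 3- or 4-subset by 3, 2, 3 blocks respectively. -/
theorem result {α : Type*} [Fintype α] [DecidableEq α] (hα : Fintype.card α = 12) {B : Set (Finset α)} (hB : Cfsg.IsSteinerSystem 5 6 B) (b : Finset α) (hb : b ∈ B) : (∀ c ∈ B, c ≠ b → (b ∩ c).card = 0 ∨ (b ∩ c).card = 2 ∨ (b ∩ c).card = 3 ∨ (b ∩ c).card = 4) ∧ ∀ s ⊆ b, (s.card = 2 → {c : Finset α | c ∈ B ∧ b ∩ c = s}.ncard = 3) ∧ (s.card = 3 → {c : Finset α | c ∈ B ∧ b ∩ c = s}.ncard = 2) ∧ (s.card = 4 → {c : Finset α | c ∈ B ∧ b ∩ c = s}.ncard = 3) := by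
  classical
  have hbk : b.card = 6 := hB.1 b hb
  refine ⟨?_, ?_⟩
  · intro c hc hcb
    have e0 := Cfsg.Agent.Lib.Lead.Steiner.inter_equations hB hb 0 (by norm_num)
    have e1 := Cfsg.Agent.Lib.Lead.Steiner.inter_equations hB hb 1 (by norm_num)
    have e2 := Cfsg.Agent.Lib.Lead.Steiner.inter_equations hB hb 2 (by norm_num)
    have e3 := Cfsg.Agent.Lib.Lead.Steiner.inter_equations hB hb 3 (by norm_num)
    have e4 := Cfsg.Agent.Lib.Lead.Steiner.inter_equations hB hb 4 (by norm_num)
    rw [hα] at e0 e1 e2 e3 e4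
    simp only [Finset.sum_range_succ, Finset.sum_range_zero] at e0 e1 e2 e3 e4
    norm_num [Nat.choose] at e0 e1 e2 e3 e4
    have hlt := Cfsg.Agent.Lib.Lead.Steiner.card_inter_lt hB hb hc (Ne.symm hcb)
    have h1 : Cfsg.Agent.Lib.Lead.Steiner.interCount B b 1 = 0 := by omega
    have n1 := Cfsg.Agent.Lib.Lead.Steiner.card_inter_ne_of_interCount_eq_zero h1 hc (Ne.symm hcb)
    omega
  · intro s hs
    have hz0 : s.card > 0 → Cfsg.Agent.Lib.Lead.Steiner.interCountOver B b s 0 = 0 :=
      fun h => Cfsg.Agent.Lib.Lead.Steiner.interCountOver_eq_zero hs h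
    have hz1 : s.card > 1 → Cfsg.Agent.Lib.Lead.Steiner.interCountOver B b s 1 = 0 :=
      fun h => Cfsg.Agent.Lib.Lead.Steiner.interCountOver_eq_zero hs h
    have hz2 : s.card > 2 → Cfsg.Agent.Lib.Lead.Steiner.interCountOver B b s 2 = 0 :=
      fun h => Cfsg.Agent.Lib.Lead.Steiner.interCountOver_eq_zero hs h
    have hz3 : s.card > 3 → Cfsg.Agent.Lib.Lead.Steiner.interCountOver B b s 3 = 0 :=
      fun h => Cfsg.Agent.Lib.Lead.Steiner.interCountOver_eq_zero hs h
    have hne : s.card < 6 → s ≠ b := by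
      intro h heq
      rw [heq, hbk] at h
      omega
    refine ⟨?_, ?_, ?_⟩
    · intro h2
      rw [Cfsg.Agent.Lib.Lead.Steiner.ncard_inter_eq hs (hne (by omega)), h2]
      have e2 := Cfsg.Agent.Lib.Lead.Steiner.inter_equations_over hB hb hs 2 (by omega) (by norm_num)
      have e3 := Cfsg.Agent.Lib.Lead.Steiner.inter_equations_over hB hb hs 3 (by omega) (by norm_num)
      have e4 := Cfsg.Agent.Lib.Lead.Steiner.inter_equations_over hB hb hs 4 (by omega) (by norm_num)
      rw [hα, h2] at e2 e3 e4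
      simp only [Finset.sum_range_succ, Finset.sum_range_zero] at e2 e3 e4
      rw [hz0 (by omega), hz1 (by omega)] at e2 e3 e4
      norm_num [Nat.choose] at e2 e3 e4
      omega
    · intro h3
      rw [Cfsg.Agent.Lib.Lead.Steiner.ncard_inter_eq hs (hne (by omega)), h3]
      have e3 := Cfsg.Agent.Lib.Lead.Steiner.inter_equations_over hB hb hs 3 (by omega) (by norm_num)
      have e4 := Cfsg.Agent.Lib.Lead.Steiner.inter_equations_over hB hb hs 4 (by omega) (by norm_num)
      rw [hα, h3] at e3 e4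
      simp only [Finset.sum_range_succ, Finset.sum_range_zero] at e3 e4
      rw [hz0 (by omega), hz1 (by omega), hz2 (by omega)] at e3 e4
      norm_num [Nat.choose] at e3 e4
      omega
    · intro h4
      rw [Cfsg.Agent.Lib.Lead.Steiner.ncard_inter_eq hs (hne (by omega)), h4]
      have e4 := Cfsg.Agent.Lib.Lead.Steiner.inter_equations_over hB hb hs 4 (by omega) (by norm_num)
      rw [hα, h4] at e4
      simp only [Finset.sum_range_succ, Finset.sum_range_zero] at e4
      rw [hz0 (by omega), hz1 (by omega), hz2 (by omega), hz3 (by omega)] at e4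
      norm_num [Nat.choose] at e4
      omega

end Cfsg.Agent.S1595
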