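import Cfsg.Statements.S1596
import Mathlib
import Cfsg.Agent.Lib.Helper1.M24QuartetsD

set_option autoImplicit false
open scoped Pointwise
open Cfsg

namespace Cfsg.Agent.S1596


open Cfsg.Agent.Lib.Helper1

theorem mem_objQ_iff {n : ℕ} (hn : n ∈ qList) {x : ℕ} (hx : x < 2 ^ 24) :
    mset x ∈ objQ n ↔ x ∈ tql n := by
  unfold objQ
  rw [List.mem_toFinset, List.mem_map]
  constructor
  · rintro ⟨y, hy, hyx⟩
    rw [← mset_injOn ((q_ok n hn).2.2.1 y hy).1 hx hyx]
    exact hy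
  · intro h
    exact ⟨x, h, rfl⟩

theorem base (t u : Finset GolayPt) (ht : t.card = 3) (hu : u.card = 3) (htu : Disjoint t u)
    (hh : t ∪ u ∈ hexadsOn dod0) :
    ∃! Q : Finset (Finset GolayPt), Q ∈ quartets dod0 ∧ t ∈ Q ∧ u ∈ Q := by
  have hsub : t ∪ u ⊆ dod0 := by
    obtain ⟨_, o, _, hod⟩ := hh
    rw [← hod]
    exact Finset.inter_subset_right
  have t1 := triple_data ht (Finset.union_subset_left hsub)
  have t2 := triple_data hu (Finset.union_subset_right hsub)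
  have p12 := pair_data ht hu hh
  have hne : maskOf t ≠ maskOf u := by
    intro h
    have h1 : t = u := by rw [← mset_maskOf t, ← mset_maskOf u, h]
    rw [h1, Finset.disjoint_self_iff_empty] at htu
    rw [htu] at hu
    simp at hu
  obtain ⟨n, hn, h1, h2⟩ := q_exists _ t1 _ t2 (by rw [Nat.and_comm]; exact p12.2) p12.1
  refine ⟨objQ n, ⟨objQ_mem hn, ?_, ?_⟩, ?_⟩
  · rw [← mset_maskOf t]
    exact (mem_objQ_iff hn (maskOf_lt t)).2 h1
  · rw [← mset_maskOf u]
    exact (mem_objQ_iff hn (maskOf_lt u)).2 h2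
  · rintro Q' ⟨hQ', htQ, huQ⟩
    obtain ⟨n', hn', rfl⟩ := exists_code_of_mem_quartets hQ'
    rw [← mset_maskOf t] at htQ
    rw [← mset_maskOf u] at huQ
    have h1' := (mem_objQ_iff hn' (maskOf_lt t)).1 htQ
    have h2' := (mem_objQ_iff hn' (maskOf_lt u)).1 huQ
    rw [q_unique n hn n' hn' _ h1 _ h2 hne h1' h2']


/-- A quartet of a dodecad is determined by any two of its triples: two disjoint triples uniting to a hexad extend to exactly one quartet. -/
theorem result (d : Finset Cfsg.GolayPt) (hd : d ∈ Cfsg.dodecads) (t u : Finset Cfsg.GolayPt) (ht : t.card = 3) (hu : u.card = 3) (htu : Disjoint t u) (hh : t ∪ u ∈ Cfsg.hexadsOn d) : ∃! Q : Finset (Finset Cfsg.GolayPt), Q ∈ Cfsg.quartets d ∧ t ∈ Q ∧ u ∈ Q := by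
  obtain ⟨g0, hg0, rfl⟩ := exists_smul_dod0 hd
  have hinvM := inv_mem hg0
  have hh' : g0⁻¹ • t ∪ g0⁻¹ • u ∈ hexadsOn dod0 := by
    have h1 := smul_mem_hexadsOn hinvM hh
    rw [inv_smul_smul, Finset.smul_finset_union] at h1
    exact h1
  obtain ⟨Q, ⟨hQ, htQ, huQ⟩, huniq⟩ := base (g0⁻¹ • t) (g0⁻¹ • u)
    (by rw [Finset.card_smul_finset]; exact ht) (by rw [Finset.card_smul_finset]; exact hu)
    (by
      rw [Finset.disjoint_left]
      intro x hx hx'
      rw [Finset.mem_inv_smul_finset_iff] at hx hx'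
      exact Finset.disjoint_left.1 htu hx hx') hh'
  refine ⟨g0 • Q, ⟨smul_mem_quartets hg0 hQ, ?_, ?_⟩, ?_⟩
  · rw [← smul_inv_smul g0 t]
    exact Finset.smul_mem_smul_finset htQ
  · rw [← smul_inv_smul g0 u]
    exact Finset.smul_mem_smul_finset huQ
  · rintro Q' ⟨hQ', htQ', huQ'⟩
    have h1 := huniq (g0⁻¹ • Q') ⟨inv_smul_mem_quartets hg0 hQ', Finset.smul_mem_smul_finset htQ',
      Finset.smul_mem_smul_finset huQ'⟩
    rw [← h1, smul_inv_smul]

end Cfsg.Agent.S1596
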