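import Cfsg.Statements.S1597
import Mathlib
import Cfsg.Agent.Lib.Helper1.M24QuartetsC

set_option autoImplicit false
open scoped Pointwise
open Cfsg

namespace Cfsg.Agent.S1597


open Cfsg.Agent.Lib.Helper1


/-- A dodecad has 220 quartets and its stabiliser is transitive on them. -/
theorem result (d : Finset Cfsg.GolayPt) (hd : d ∈ Cfsg.dodecads) : (Cfsg.quartets d).ncard = 220 ∧ ∀ Q ∈ Cfsg.quartets d, ∀ Q' ∈ Cfsg.quartets d, ∃ g : Equiv.Perm Cfsg.GolayPt, g ∈ Cfsg.M24 ∧ g • d = d ∧ g • Q = Q' := by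
  obtain ⟨g0, hg0, rfl⟩ := exists_smul_dod0 hd
  constructor
  · have h1 : quartets (g0 • dod0) =
        (fun Q : Finset (Finset GolayPt) => g0 • Q) '' quartets dod0 := by
      ext Q
      constructor
      · intro hQ
        exact ⟨g0⁻¹ • Q, inv_smul_mem_quartets hg0 hQ, smul_inv_smul g0 Q⟩
      · rintro ⟨Q', hQ', rfl⟩
        exact smul_mem_quartets hg0 hQ'
    rw [h1, Set.ncard_image_of_injective _ (MulAction.injective g0)]
    exact ncard_quartets0
  · intro Q hQ Q' hQ'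
    obtain ⟨g, hg, hgd, hgQ⟩ := quartets_trans0 (inv_smul_mem_quartets hg0 hQ)
      (inv_smul_mem_quartets hg0 hQ')
    refine ⟨g0 * g * g0⁻¹, mul_mem (mul_mem hg0 hg) (inv_mem hg0), ?_, ?_⟩
    · rw [mul_smul, mul_smul, inv_smul_smul, hgd]
    · rw [mul_smul, mul_smul, hgQ, smul_inv_smul]

end Cfsg.Agent.S1597
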