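import Cfsg.Statements.S1598
import Cfsg.Agent.Lib.Helper1.AGL23
import Mathlib

set_option autoImplicit false
open scoped Pointwise
open Cfsg

namespace Cfsg.Agent.S1598

open Cfsg.Agent.Lib.Helper1
open Cfsg.Agent.Lib.Helper1.AGL
open Cfsg.Agent.S1599

/-- the base stabiliser as a group of permutations -/
noncomputable def e0 : ↥(MulAction.stabilizer ↥M24 z0) ≃* ↥K0 where
  toFun g := ⟨g.1.1, (mem_stab_iff g.1).1 g.2⟩
  invFun k := ⟨⟨k.1, (mem_stabX.1 k.2).1⟩, (mem_stab_iff _).2 k.2⟩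
  left_inv _ := rfl
  right_inv _ := rfl
  map_mul' _ _ := rfl

/-- A quartet stabiliser inside the dodecad stabiliser has order 432, a normal subgroup of order 9 with quotient GL(2, 3), and is transitive on the dodecad. -/
theorem result (d : Finset Cfsg.GolayPt) (hd : d ∈ Cfsg.dodecads) (Q : Finset (Finset Cfsg.GolayPt)) (hQ : Q ∈ Cfsg.quartets d) : Nat.card ↥(MulAction.stabilizer Cfsg.M24 d ⊓ MulAction.stabilizer Cfsg.M24 Q) = 432 ∧ (∃ (N : Subgroup ↥(MulAction.stabilizer Cfsg.M24 d ⊓ MulAction.stabilizer Cfsg.M24 Q)) (_ : N.Normal), Nat.card N = 9 ∧ Nonempty (↥(MulAction.stabilizer Cfsg.M24 d ⊓ MulAction.stabilizer Cfsg.M24 Q) ⧸ N ≃* GL (Fin 2) (ZMod 3))) ∧ ∀ p ∈ d, ∀ q ∈ d, ∃ g ∈ (MulAction.stabilizer Cfsg.M24 d ⊓ MulAction.stabilizer Cfsg.M24 Q), ((g : ↥Cfsg.M24) : Equiv.Perm Cfsg.GolayPt) p = q := by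
  obtain ⟨g0, hg0, rfl⟩ := exists_smul_dod0 hd
  have hQ1 : g0⁻¹ • Q ∈ quartets dod0 := inv_smul_mem_quartets hg0 hQ
  obtain ⟨h, hh, hhd, hhQ⟩ := quartets_trans0 (objQ_mem q0_mem) hQ1
  have hgM : g0 * h ∈ M24 := mul_mem hg0 hh
  have hgd : (g0 * h) • dod0 = g0 • dod0 := by rw [mul_smul, hhd]
  have hgQ : (g0 * h) • objQ 1237954224850713470709006616 = Q := by
    rw [mul_smul, hhQ, smul_inv_smul]
  have hgz : (⟨g0 * h, hgM⟩ : ↥M24) • z0 = (g0 • dod0, Q) := by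
    unfold z0
    rw [Prod.smul_mk]
    exact Prod.ext hgd hgQ
  have hstab : MulAction.stabilizer ↥M24 (g0 • dod0) ⊓ MulAction.stabilizer ↥M24 Q =
      MulAction.stabilizer ↥M24 ((⟨g0 * h, hgM⟩ : ↥M24) • z0) := by
    rw [hgz, stab_prod_eq]
  rw [hstab]
  set γ : ↥M24 := ⟨g0 * h, hgM⟩ with hγ
  let e : ↥(MulAction.stabilizer ↥M24 z0) ≃* ↥(MulAction.stabilizer ↥M24 (γ • z0)) :=
    MulAction.stabilizerEquivStabilizer rfl
  have hcard : Nat.card ↥(MulAction.stabilizer ↥M24 (γ • z0)) = 432 := by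
    rw [← Nat.card_congr e.toEquiv]
    exact card_stab
  let ψ : ↥(MulAction.stabilizer ↥M24 (γ • z0)) →* GL (Fin 2) (ZMod 3) :=
    linPart.comp (e0.toMonoidHom.comp e.symm.toMonoidHom)
  have hsurj : Function.Surjective ψ :=
    linPart_surjective.comp (e0.surjective.comp e.symm.surjective)
  refine ⟨hcard, ⟨ψ.ker, inferInstance, ?_,
    ⟨QuotientGroup.quotientKerEquivOfSurjective ψ hsurj⟩⟩, ?_⟩
  · have h1 := Subgroup.card_eq_card_quotient_mul_card_subgroup ψ.ker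
    rw [hcard, Nat.card_congr (QuotientGroup.quotientKerEquivOfSurjective ψ hsurj).toEquiv,
      card_GL23] at h1
    omega
  · intro p hp q hq
    rw [← hgd] at hp hq
    obtain ⟨p0, hp0, rfl⟩ := Finset.mem_smul_finset.1 hp
    obtain ⟨q0, hq0, rfl⟩ := Finset.mem_smul_finset.1 hq
    obtain ⟨i, rfl⟩ := gpt_bij.surjective p0
    obtain ⟨j, rfl⟩ := gpt_bij.surjective q0
    obtain ⟨k, hk, hkij⟩ := K0_trans i j ((gpt_mem_dod0 i).1 hp0) ((gpt_mem_dod0 j).1 hq0)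
    have hkM : k ∈ M24 := (mem_stabX.1 hk).1
    have hkz : (⟨k, hkM⟩ : ↥M24) • z0 = z0 :=
      MulAction.mem_stabilizer_iff.1 ((mem_stab_iff ⟨k, hkM⟩).2 hk)
    refine ⟨γ * ⟨k, hkM⟩ * γ⁻¹, ?_, ?_⟩
    · rw [MulAction.mem_stabilizer_iff, mul_smul, mul_smul, inv_smul_smul, hkz]
    · show (g0 * h) (k ((g0 * h)⁻¹ ((g0 * h) (gpt i)))) = (g0 * h) (gpt j)
      rw [perm_inv_apply_self, hkij]

end Cfsg.Agent.S1598
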