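import Cfsg.Statements.S1600
import Mathlib
import Cfsg.Agent.Lib.Helper1.M24FlagsD
import Cfsg.Agent.S0361

set_option autoImplicit false
open scoped Pointwise
open Cfsg

namespace Cfsg.Agent.S1600


open Cfsg.Agent.Lib.Helper1

theorem conj_apply {g0 g0' : Equiv.Perm GolayPt} {a x y : GolayPt} (h : g0 a = x) (h' : g0' a = y) :
    (g0' * g0⁻¹) x = y := by
  rw [← h, Equiv.Perm.mul_apply, Equiv.Perm.inv_def, Equiv.symm_apply_apply, h']

theorem orbit_M24_dodecad (d : Finset GolayPt) (hd : d ∈ dodecads) :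
    MulAction.orbit ↥M24 d = dodecads := by
  ext b
  constructor
  · rintro ⟨g, rfl⟩
    exact smul_mem_dodecads g.2 hd
  · intro hb
    obtain ⟨g, hg⟩ := M24_dodecad_transitive hd hb
    exact ⟨g, hg⟩

theorem card_stab_dodecad (d : Finset GolayPt) (hd : d ∈ dodecads) :
    Nat.card ↥(MulAction.stabilizer ↥M24 d) = 95040 := by
  have h1 := MulAction.index_stabilizer (G := ↥M24) d
  rw [orbit_M24_dodecad d hd, Cfsg.Agent.S0361.result] at h1
  have h2 := Subgroup.card_mul_index (MulAction.stabilizer ↥M24 d)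
  rw [h1, card_M24] at h2
  omega

theorem smul_mem_of_stab {d : Finset GolayPt} {g : ↥M24} (hg : g • d = d) {x : GolayPt}
    (hx : x ∈ d) : g • x ∈ d := by
  have : (g : Equiv.Perm GolayPt) • x ∈ (g : Equiv.Perm GolayPt) • d :=
    Finset.smul_mem_smul_finset hx
  have hg' : (g : Equiv.Perm GolayPt) • d = d := hg
  rw [hg'] at this
  exact this

theorem orbit0 (d : Finset GolayPt) (hd : d ∈ dodecads) (p : GolayPt) (hp : p ∈ d) :
    MulAction.orbit ↥(MulAction.stabilizer ↥M24 d) p = (d : Set GolayPt) := by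
  ext y
  constructor
  · rintro ⟨g, rfl⟩
    exact smul_mem_of_stab (MulAction.mem_stabilizer_iff.1 g.2) hp
  · intro hy
    obtain ⟨g0, hg0, h1, h2⟩ := flag_dod_in d hd p hp
    obtain ⟨g0', hg0', h1', h2'⟩ := flag_dod_in d hd y hy
    refine ⟨⟨⟨g0' * g0⁻¹, mul_mem hg0' (inv_mem hg0)⟩, ?_⟩, ?_⟩
    · rw [MulAction.mem_stabilizer_iff]
      show (g0' * g0⁻¹) • d = d
      rw [mul_smul, ← h1, inv_smul_smul, h1, h1']
    · show (g0' * g0⁻¹) p = y
      exact conj_apply h2 h2'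

theorem orbit1 (d : Finset GolayPt) (hd : d ∈ dodecads) (p q : GolayPt) (hp : p ∈ d) (hq : q ∈ d)
    (hpq : p ≠ q) :
    MulAction.orbit ↥(MulAction.stabilizer ↥M24 d ⊓ MulAction.stabilizer ↥M24 p) q =
      ((d.erase p : Finset GolayPt) : Set GolayPt) := by
  ext y
  rw [Finset.mem_coe, Finset.mem_erase]
  constructor
  · rintro ⟨g, rfl⟩
    have hg := Subgroup.mem_inf.1 g.2
    have hgp : (g.1 : ↥M24) • p = p := MulAction.mem_stabilizer_iff.1 hg.2
    refine ⟨?_, smul_mem_of_stab (MulAction.mem_stabilizer_iff.1 hg.1) hq⟩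
    intro h
    have h' : (g.1 : ↥M24) • q = (g.1 : ↥M24) • p := h.trans hgp.symm
    exact hpq (MulAction.injective (g.1 : ↥M24) h').symm
  · rintro ⟨hyp, hy⟩
    obtain ⟨g0, hg0, h1, h2, h3⟩ := flag_dod_in2 d hd p q hp hq hpq
    obtain ⟨g0', hg0', h1', h2', h3'⟩ := flag_dod_in2 d hd p y hp hy (Ne.symm hyp)
    refine ⟨⟨⟨g0' * g0⁻¹, mul_mem hg0' (inv_mem hg0)⟩, Subgroup.mem_inf.2 ⟨?_, ?_⟩⟩, ?_⟩
    · rw [MulAction.mem_stabilizer_iff]
      show (g0' * g0⁻¹) • d = d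
      rw [mul_smul, ← h1, inv_smul_smul, h1, h1']
    · rw [MulAction.mem_stabilizer_iff]
      show (g0' * g0⁻¹) p = p
      exact conj_apply h2 h2'
    · show (g0' * g0⁻¹) q = y
      exact conj_apply h3 h3'

theorem orbit2 (d : Finset GolayPt) (hd : d ∈ dodecads) (p q r : GolayPt) (hp : p ∈ d)
    (hq : q ∈ d) (hr : r ∈ d) (hpq : p ≠ q) (hpr : p ≠ r) (hqr : q ≠ r) :
    MulAction.orbit ↥(MulAction.stabilizer ↥M24 d ⊓ MulAction.stabilizer ↥M24 p ⊓
      MulAction.stabilizer ↥M24 q) r =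
      (((d.erase p).erase q : Finset GolayPt) : Set GolayPt) := by
  ext y
  rw [Finset.mem_coe, Finset.mem_erase, Finset.mem_erase]
  constructor
  · rintro ⟨g, rfl⟩
    have hg := Subgroup.mem_inf.1 g.2
    have hg' := Subgroup.mem_inf.1 hg.1
    have hgq : (g.1 : ↥M24) • q = q := MulAction.mem_stabilizer_iff.1 hg.2
    have hgp : (g.1 : ↥M24) • p = p := MulAction.mem_stabilizer_iff.1 hg'.2
    refine ⟨?_, ?_, smul_mem_of_stab (MulAction.mem_stabilizer_iff.1 hg'.1) hr⟩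
    · intro h
      have h' : (g.1 : ↥M24) • r = (g.1 : ↥M24) • q := h.trans hgq.symm
      exact hqr (MulAction.injective (g.1 : ↥M24) h').symm
    · intro h
      have h' : (g.1 : ↥M24) • r = (g.1 : ↥M24) • p := h.trans hgp.symm
      exact hpr (MulAction.injective (g.1 : ↥M24) h').symm
  · rintro ⟨hyq, hyp, hy⟩
    obtain ⟨g0, hg0, h1, h2, h3, h4⟩ := flag_dod_in3 d hd p q r hp hq hr hpq hpr hqr
    obtain ⟨g0', hg0', h1', h2', h3', h4'⟩ :=
      flag_dod_in3 d hd p q y hp hq hy hpq (Ne.symm hyp) (Ne.symm hyq)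
    refine ⟨⟨⟨g0' * g0⁻¹, mul_mem hg0' (inv_mem hg0)⟩,
      Subgroup.mem_inf.2 ⟨Subgroup.mem_inf.2 ⟨?_, ?_⟩, ?_⟩⟩, ?_⟩
    · rw [MulAction.mem_stabilizer_iff]
      show (g0' * g0⁻¹) • d = d
      rw [mul_smul, ← h1, inv_smul_smul, h1, h1']
    · rw [MulAction.mem_stabilizer_iff]
      show (g0' * g0⁻¹) p = p
      exact conj_apply h2 h2'
    · rw [MulAction.mem_stabilizer_iff]
      show (g0' * g0⁻¹) q = q
      exact conj_apply h3 h3'
    · show (g0' * g0⁻¹) r = y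
      exact conj_apply h4 h4'


/-- The pointwise stabiliser of three points of a dodecad inside the dodecad stabiliser (order 72) is transitive on the complementary dodecad. -/
theorem result (d : Finset Cfsg.GolayPt) (hd : d ∈ Cfsg.dodecads) (p q r : Cfsg.GolayPt) (hp : p ∈ d) (hq : q ∈ d) (hr : r ∈ d) (hpq : p ≠ q) (hpr : p ≠ r) (hqr : q ≠ r) : Nat.card ↥(MulAction.stabilizer Cfsg.M24 d ⊓ MulAction.stabilizer Cfsg.M24 p ⊓ MulAction.stabilizer Cfsg.M24 q ⊓ MulAction.stabilizer Cfsg.M24 r) = 72 ∧ ∀ x ∉ d, ∀ y ∉ d, ∃ g ∈ (MulAction.stabilizer Cfsg.M24 d ⊓ MulAction.stabilizer Cfsg.M24 p ⊓ MulAction.stabilizer Cfsg.M24 q ⊓ MulAction.stabilizer Cfsg.M24 r), ((g : ↥Cfsg.M24) : Equiv.Perm Cfsg.GolayPt) x = y := by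
  constructor
  · have c0 := card_stab_dodecad d hd
    have c1 := card_eq_ncard_orbit_mul (G := ↥M24) (MulAction.stabilizer ↥M24 d) p
    have c2 := card_eq_ncard_orbit_mul (G := ↥M24)
      (MulAction.stabilizer ↥M24 d ⊓ MulAction.stabilizer ↥M24 p) q
    have c3 := card_eq_ncard_orbit_mul (G := ↥M24)
      (MulAction.stabilizer ↥M24 d ⊓ MulAction.stabilizer ↥M24 p ⊓ MulAction.stabilizer ↥M24 q) r
    rw [orbit0 d hd p hp, Set.ncard_coe_finset, hd.2] at c1
    rw [orbit1 d hd p q hp hq hpq, Set.ncard_coe_finset, Finset.card_erase_of_mem hp, hd.2] at c2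
    rw [orbit2 d hd p q r hp hq hr hpq hpr hqr, Set.ncard_coe_finset,
      Finset.card_erase_of_mem (Finset.mem_erase.2 ⟨Ne.symm hpq, hq⟩),
      Finset.card_erase_of_mem hp, hd.2] at c3
    omega
  · intro x hx y hy
    obtain ⟨g0, hg0, h1, h2, h3, h4, h5⟩ :=
      flag_dod_in3_out d hd p q r x hp hq hr hpq hpr hqr hx
    obtain ⟨g0', hg0', h1', h2', h3', h4', h5'⟩ :=
      flag_dod_in3_out d hd p q r y hp hq hr hpq hpr hqr hy
    refine ⟨⟨g0' * g0⁻¹, mul_mem hg0' (inv_mem hg0)⟩,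
      Subgroup.mem_inf.2 ⟨Subgroup.mem_inf.2 ⟨Subgroup.mem_inf.2 ⟨?_, ?_⟩, ?_⟩, ?_⟩, ?_⟩
    · rw [MulAction.mem_stabilizer_iff]
      show (g0' * g0⁻¹) • d = d
      rw [mul_smul, ← h1, inv_smul_smul, h1, h1']
    · rw [MulAction.mem_stabilizer_iff]
      show (g0' * g0⁻¹) p = p
      exact conj_apply h2 h2'
    · rw [MulAction.mem_stabilizer_iff]
      show (g0' * g0⁻¹) q = q
      exact conj_apply h3 h3'
    · rw [MulAction.mem_stabilizer_iff]
      show (g0' * g0⁻¹) r = r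
      exact conj_apply h4 h4'
    · show (g0' * g0⁻¹) x = y
      exact conj_apply h5 h5'

end Cfsg.Agent.S1600
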