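import Cfsg.Statements.S1601
import Cfsg.Agent.Lib.Helper1.L11
import Cfsg.Agent.S0498

set_option autoImplicit false
open scoped Pointwise
open Cfsg

namespace Cfsg.Agent.S1601

/-- In the 3-transitive action of the smallest Mathieu group on the complementary dodecad, a point stabiliser is isomorphic to PSL(2, 11). -/
theorem result (d : Finset Cfsg.GolayPt) (hd : d ∈ Cfsg.dodecads) (p q : Cfsg.GolayPt) (hp : p ∈ d) (hq : q ∉ d) : Nonempty (↥(MulAction.stabilizer Cfsg.M24 d ⊓ MulAction.stabilizer Cfsg.M24 p ⊓ MulAction.stabilizer Cfsg.M24 q) ≃* Matrix.ProjectiveSpecialLinearGroup (Fin 2) (ZMod 11)) := by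
  haveI : Fact (Nat.Prime 11) := ⟨by norm_num⟩
  haveI := Cfsg.Agent.Lib.Helper1.L11_simple
  obtain ⟨h, hh, hhd, hhp, hhq⟩ := Cfsg.Agent.Lib.Helper1.exists_smul_flag2 d hd hp hq
  have hS := Cfsg.Agent.Lib.Helper1.stab_eq_conj d p q h hh hhd hhp hhq
  haveI : IsSimpleGroup ↥(MulAction.stabilizer Cfsg.M24 d ⊓ MulAction.stabilizer Cfsg.M24 p ⊓
      MulAction.stabilizer Cfsg.M24 q) :=
    Cfsg.Agent.Lib.Helper1.simple_transport Cfsg.Agent.Lib.Helper1.L11 _ h hS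
  obtain ⟨e⟩ := Cfsg.Agent.Lib.Helper1.iso_transport Cfsg.Agent.Lib.Helper1.L11 _ h hS
  have hcard : Nat.card ↥(MulAction.stabilizer Cfsg.M24 d ⊓ MulAction.stabilizer Cfsg.M24 p ⊓
      MulAction.stabilizer Cfsg.M24 q) = 660 := by
    rw [← Nat.card_congr e.toEquiv, Cfsg.Agent.Lib.Helper1.card_L11]
  exact Cfsg.Agent.S0498.result 11 (Or.inl rfl) (by rw [hcard]; norm_num) (F := ZMod 11) (ZMod.card 11)

end Cfsg.Agent.S1601
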