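import Cfsg.Statements.S1602
import Mathlib
import Cfsg.Agent.Lib.Helper1.M24QuartetsA
import Cfsg.Agent.Lib.Helper1.M24OctObj
import Cfsg.Agent.Lib.Helper1.M24OctStab
import Cfsg.Agent.Lib.Helper1.M24Classes
import Cfsg.Agent.Lib.Helper1.M24Chain
import Cfsg.Agent.Lib.Helper1.M12Trans
import Cfsg.Agent.Lib.Helper1.M12Trans2

set_option autoImplicit false
open scoped Pointwise
open Cfsg

namespace Cfsg.Agent.S1602


open Cfsg.Agent.Lib.Helper1

/-- a set of points coded by a mask -/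
def objY (m : ℕ) : Finset GolayPt := mset m

def chkY (T : Fin 24 → Fin 24) (pm m _w : ℕ) : Bool := decide (pullMask T pm = m)

theorem soundY : SoundChk objY chkY := by
  intro g _ T hT pm m w h
  unfold chkY at h
  rw [decide_eq_true_iff] at h
  unfold objY
  rw [smul_mset hT, h]

/-- the base dodecad together with a set of points -/
def objDP (n : ℕ) : Finset GolayPt × Finset GolayPt := (objO 1, mset n)

def chkDP (T : Fin 24 → Fin 24) (pn n w : ℕ) : Bool := chkO T 1 1 0 && chkY T pn n w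

theorem soundDP : SoundChk objDP chkDP := by
  intro g hg T hT pn n w h
  unfold chkDP at h
  rw [Bool.and_eq_true] at h
  unfold objDP
  rw [Prod.smul_mk, soundO g hg T hT _ _ _ h.1]
  exact Prod.ext rfl (soundY g hg T hT _ _ _ h.2)

def ws : List (List ℕ) := [[1, 2, 0, 4, 4, 1, 2, 3, 1, 1, 4, 0], [1, 3, 0, 4, 0, 0, 3, 3, 1, 3, 0]]

def tl : List (Fin 24 → Fin 24) := [![0, 12, 4, 8, 2, 22, 3, 17, 1, 6, 5, 15, 16, 9, 10, 19, 13, 23, 18, 21, 7, 14, 11, 20], ![0, 9, 1, 2, 16, 20, 8, 14, 4, 13, 21, 17, 12, 3, 10, 5, 18, 15, 6, 19, 11, 22, 7, 23]]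

theorem tl_ok : ∀ l < tl.length, ∀ i : Fin 24, tl.getD l id i = evalT (ws.getD l []) i := by
  decide +kernel

theorem tl_fix : ∀ l < tl.length, chkDP (tl.getD l id) 1 1 (([] : List ℕ).getD l 0) = true := by
  decide +kernel

theorem good : GoodTabs (stabX objDP 1) (tabOf tl) :=
  goodTabs_stabX soundDP 1 ws tl [] tl_ok tl_fix

def pr_c0_0 : List (ℕ × ℕ × ℕ × ℕ) :=
  [(1049600, 0, 0, 0), (4227072, 1, 1, 0), (8404992, 1, 0, 0), (16416, 2, 1, 0), (2080, 2, 0, 0),
    (2228224, 3, 1, 0), (8388736, 3, 1, 0), (2098176, 3, 0, 0), (32896, 4, 1, 0), (4195328, 4, 0, 0),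
    (1081344, 5, 1, 0), (524416, 5, 0, 0), (3072, 6, 1, 0), (1179648, 6, 0, 0), (12582912, 7, 1, 0),
    (540672, 7, 0, 0), (17408, 8, 1, 0), (1050624, 8, 0, 0), (4325376, 9, 1, 0), (2113536, 9, 1, 0),
    (8390656, 9, 0, 0), (131104, 10, 1, 0), (4718592, 10, 1, 0), (4210688, 10, 0, 0), (1064960, 11, 1, 0),
    (10485760, 10, 1, 0), (2129920, 10, 0, 0), (16512, 10, 1, 0), (1048608, 10, 1, 0), (2099200, 10, 1, 0),
    (2621440, 10, 0, 0), (1152, 11, 1, 0), (9437184, 11, 1, 0), (34816, 11, 1, 0), (32800, 11, 0, 0),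
    (2097184, 11, 0, 0), (2097280, 12, 1, 0), (655360, 11, 0, 0), (8389632, 12, 1, 0), (526336, 12, 0, 0),
    (132096, 13, 1, 0), (3145728, 13, 0, 0), (4194432, 14, 1, 0), (557056, 12, 0, 0), (525312, 13, 1, 0),
    (8519680, 12, 0, 0), (8388640, 13, 1, 0), (4196352, 13, 0, 0), (163840, 13, 1, 0), (33792, 13, 1, 0),
    (1572864, 13, 0, 0), (147456, 12, 0, 0), (18432, 11, 1, 0), (8912896, 11, 0, 0), (1056, 12, 1, 0),
    (6291456, 12, 1, 0), (49152, 11, 0, 0), (131200, 11, 0, 0), (8421376, 11, 1, 0), (4194336, 11, 0, 0),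
    (2176, 11, 0, 0), (133120, 12, 1, 0), (524320, 11, 1, 0), (1048704, 10, 1, 0), (5242880, 3, 0, 0)]

def pr_c0_L_0 : List ℕ := [160]

theorem pr_c0_reach_0 : ∀ c ∈ pr_c0_L_0, ReachX objY (stabX objDP 1) 160 c := by
  intro c hc
  rw [List.mem_singleton.1 hc]
  exact ReachX.refl _ _ _

def pr_c0_cert_0 : List (ℕ × ℕ × ℕ × ℕ) :=
  pr_c0_0

def pr_c0_L_1 : List ℕ := (pr_c0_cert_0.map (fun e => e.1)).reverse ++ pr_c0_L_0

theorem pr_c0_fold_0 : pr_c0_cert_0.foldl (stepX chkY (tabOf tl)) (some pr_c0_L_0) = some pr_c0_L_1 := by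
  decide +kernel

theorem pr_c0_reach_1 : ∀ c ∈ pr_c0_L_1, ReachX objY (stabX objDP 1) 160 c :=
  certX_sound soundY (stabX_le _ _) good 160 pr_c0_cert_0 pr_c0_L_0 pr_c0_L_1 pr_c0_reach_0 pr_c0_fold_0

def pr_c0_list : List ℕ := pr_c0_L_1

theorem pr_c0_reach : ∀ c ∈ pr_c0_list, ReachX objY (stabX objDP 1) 160 c := pr_c0_reach_1

def pr_lists : ℕ → List ℕ
  | 0 => pr_c0_list
  | _ => []

def pr_roots : ℕ → ℕ
  | 0 => 160
  | _ => 0

def pr_nF : ℕ → ℕ
  | 0 => 66
  | _ => 0

theorem pr_hreach : ∀ k < 1, ∀ c ∈ pr_lists k, ReachX objY (stabX objDP 1) (pr_roots k) c := by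
  intro k hk c hc
  interval_cases k
  · exact pr_c0_reach c hc

def pr_allL : List ℕ := (List.range 1).flatMap pr_lists

theorem pr_nodup : pr_allL.Nodup := by decide +kernel

theorem pr_len : pr_allL.length = 66 := by decide +kernel

theorem pr_lens : ∀ k < 1, (pr_lists k).length = pr_nF k := by decide +kernel

theorem pr_root_mem : ∀ k < 1, pr_roots k ∈ pr_lists k := by decide +kernel

def prList : List ℕ := [160, 1056, 1152, 2080, 2176, 3072, 16416, 16512, 17408, 18432, 32800, 32896, 33792, 34816, 49152, 131104, 131200, 132096, 133120, 147456, 163840, 524320, 524416, 525312, 526336, 540672, 557056, 655360, 1048608, 1048704, 1049600, 1050624, 1064960, 1081344, 1179648, 1572864, 2097184, 2097280, 2098176, 2099200, 2113536, 2129920, 2228224, 2621440, 3145728, 4194336, 4194432, 4195328, 4196352, 4210688, 4227072, 4325376, 4718592, 5242880, 6291456, 8388640, 8388736, 8389632, 8390656, 8404992, 8421376, 8519680, 8912896, 9437184, 10485760, 12582912]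

theorem pr_sub : ∀ m ∈ prList, m ∈ pr_c0_list := by decide +kernel

theorem pr_mask : ∀ i j : Fin 24, i ≠ j → dmask.testBit i = false → dmask.testBit j = false →
    (1 <<< (i : ℕ) ||| 1 <<< (j : ℕ)) ∈ prList := by
  decide +kernel

theorem pr_ok : ∀ m ∈ prList, m < 2 ^ 24 ∧ popc m = 2 ∧ m &&& dmask = 0 := by decide +kernel

theorem prList_nodup : prList.Nodup := by decide +kernel

theorem prList_length : prList.length = 66 := by decide +kernel

theorem mset_shift (i : Fin 24) : mset (1 <<< (i : ℕ)) = {gpt i} := by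
  apply mset_ext
  intro j
  rw [gpt_mem_mset, Finset.mem_singleton, Nat.one_shiftLeft, Nat.testBit_two_pow,
    decide_eq_true_iff]
  constructor
  · intro h
    rw [Fin.ext h]
  · intro h
    exact congrArg Fin.val (gpt_bij.injective h).symm

theorem gpt_mem_dod0' (i : Fin 24) : gpt i ∈ dod0 ↔ dmask.testBit i = true := by
  rw [gpt_mem_dod0, combo_one_eq]

theorem pair_mask {q q' : GolayPt} (hq : q ∉ dod0) (hq' : q' ∉ dod0) (hne : q ≠ q') :
    ∃ m ∈ prList, mset m = {q, q'} := by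
  obtain ⟨i, rfl⟩ := gpt_bij.surjective q
  obtain ⟨j, rfl⟩ := gpt_bij.surjective q'
  have hij : i ≠ j := fun h => hne (by rw [h])
  have hi : dmask.testBit i = false := by
    rw [← Bool.not_eq_true, ← gpt_mem_dod0']
    exact hq
  have hj : dmask.testBit j = false := by
    rw [← Bool.not_eq_true, ← gpt_mem_dod0']
    exact hq'
  refine ⟨_, pr_mask i j hij hi hj, ?_⟩
  rw [mset_or, mset_shift, mset_shift, Finset.insert_eq]

theorem mem_K1 {g : Equiv.Perm GolayPt} :
    g ∈ stabX objDP 1 ↔ g ∈ M24 ∧ g • dod0 = dod0 ∧ g (gpt 0) = gpt 0 := by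
  rw [mem_stabX]
  unfold objDP
  rw [Prod.smul_mk, Prod.mk.injEq]
  have h1 : mset 1 = {gpt 0} := mset_shift 0
  rw [h1, Finset.smul_finset_singleton, Finset.singleton_inj]
  exact Iff.rfl

theorem trans_pairs {q q' : GolayPt} (hq : q ∉ dod0) (hq' : q' ∉ dod0) (hne : q ≠ q') :
    ∃ g ∈ M24, g • dod0 = dod0 ∧ g (gpt 0) = gpt 0 ∧ g • mset 160 = {q, q'} := by
  obtain ⟨m, hm, hmq⟩ := pair_mask hq hq' hne
  obtain ⟨g, hg, hgm⟩ := pr_c0_reach m (pr_sub m hm)
  obtain ⟨h1, h2, h3⟩ := mem_K1.1 hg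
  exact ⟨g, h1, h2, h3, by rw [← hmq]; exact hgm⟩

theorem stab_flag (d : Finset GolayPt) (p : GolayPt) (s : Finset GolayPt) :
    MulAction.stabilizer ↥M24 ((d, p, s) : Finset GolayPt × GolayPt × Finset GolayPt) =
      MulAction.stabilizer ↥M24 d ⊓ MulAction.stabilizer ↥M24 p ⊓
        MulAction.stabilizer ↥M24 s := by
  ext g
  rw [Subgroup.mem_inf, Subgroup.mem_inf, MulAction.mem_stabilizer_iff,
    MulAction.mem_stabilizer_iff, MulAction.mem_stabilizer_iff, MulAction.mem_stabilizer_iff,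
    Prod.smul_mk, Prod.smul_mk, Prod.mk.injEq, Prod.mk.injEq, and_assoc]

theorem p0_mem : gpt 0 ∈ dod0 := (gpt_mem_dod0' 0).2 (by decide +kernel)

theorem notMem_of_fix {g : Equiv.Perm GolayPt} (hg : g • dod0 = dod0) {x : GolayPt}
    (hx : x ∉ dod0) : g x ∉ dod0 := by
  intro h
  apply hx
  have h2 : g • x ∈ g • dod0 := by
    rw [hg]
    exact h
  exact (Finset.smul_mem_smul_finset_iff g).1 h2

/-- the pairs of points outside the base dodecad -/
def pairsC : Set (Finset GolayPt) :=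
  {s | ∃ q q' : GolayPt, q ∉ dod0 ∧ q' ∉ dod0 ∧ q ≠ q' ∧ s = {q, q'}}

theorem ncard_pairsC : pairsC.ncard = 66 := by
  have h1 : pairsC = mset '' ((prList.toFinset : Finset ℕ) : Set ℕ) := by
    ext s
    constructor
    · rintro ⟨q, q', hq, hq', hne, rfl⟩
      obtain ⟨m, hm, hmq⟩ := pair_mask hq hq' hne
      exact ⟨m, by simpa using hm, hmq⟩
    · rintro ⟨m, hm, rfl⟩
      have hm' : m ∈ prList := by simpa using hm
      obtain ⟨hlt, h2, hand⟩ := pr_ok m hm'
      obtain ⟨x, y, hxy, hs⟩ := Finset.card_eq_two.1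
        (by rw [card_mset]; exact h2 : (mset m).card = 2)
      have hdisj : mset m ∩ dod0 = ∅ := by rw [dod0_eq, ← mset_and, hand, mset_zero]
      have hx : x ∉ dod0 := fun h => by
        have h3 : x ∈ mset m ∩ dod0 := Finset.mem_inter.2 ⟨by rw [hs]; simp, h⟩
        rw [hdisj] at h3
        exact absurd h3 (Finset.notMem_empty x)
      have hy : y ∉ dod0 := fun h => by
        have h3 : y ∈ mset m ∩ dod0 := Finset.mem_inter.2 ⟨by rw [hs]; simp, h⟩
        rw [hdisj] at h3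
        exact absurd h3 (Finset.notMem_empty y)
      exact ⟨x, y, hx, hy, hxy, hs⟩
  rw [h1, Set.InjOn.ncard_image, Set.ncard_coe_finset, List.toFinset_card_of_nodup prList_nodup,
    prList_length]
  intro a ha b hb h
  exact mset_injOn (pr_ok a (by simpa using ha)).1 (pr_ok b (by simpa using hb)).1 h

theorem mset_160 : mset 160 = {gpt 5, gpt 7} := by
  have h : (160 : ℕ) = 1 <<< ((5 : Fin 24) : ℕ) ||| 1 <<< ((7 : Fin 24) : ℕ) := by decide
  rw [h, mset_or, mset_shift, mset_shift, Finset.insert_eq]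

theorem notMem_5_7 : gpt 5 ∉ dod0 ∧ gpt 7 ∉ dod0 := by
  constructor
  · rw [gpt_mem_dod0']
    decide +kernel
  · rw [gpt_mem_dod0']
    decide +kernel

theorem orbit_pairs : MulAction.orbit
    ↥(MulAction.stabilizer ↥M24 dod0 ⊓ MulAction.stabilizer ↥M24 (gpt 0)) (mset 160) = pairsC := by
  ext s
  constructor
  · rintro ⟨k, rfl⟩
    have hk := k.2
    rw [Subgroup.mem_inf, MulAction.mem_stabilizer_iff, MulAction.mem_stabilizer_iff] at hk
    have hkd : (((k : ↥M24) : Equiv.Perm GolayPt)) • dod0 = dod0 := hk.1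
    refine ⟨((k : ↥M24) : Equiv.Perm GolayPt) (gpt 5), ((k : ↥M24) : Equiv.Perm GolayPt) (gpt 7),
      notMem_of_fix hkd notMem_5_7.1, notMem_of_fix hkd notMem_5_7.2, ?_, ?_⟩
    · intro h
      have h2 := gpt_bij.injective (((k : ↥M24) : Equiv.Perm GolayPt).injective h)
      revert h2
      decide
    · show ((k : ↥M24) : Equiv.Perm GolayPt) • mset 160 = _
      rw [mset_160, Finset.smul_finset_insert, Finset.smul_finset_singleton]
      rfl
  · rintro ⟨q, q', hq, hq', hne, rfl⟩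
    obtain ⟨g, hg, hgd, hgp, hgq⟩ := trans_pairs hq hq' hne
    exact ⟨⟨⟨g, hg⟩, Subgroup.mem_inf.2 ⟨MulAction.mem_stabilizer_iff.2 hgd,
      MulAction.mem_stabilizer_iff.2 hgp⟩⟩, hgq⟩

/-- the base subgroup -/
def K0 : Subgroup ↥M24 :=
  MulAction.stabilizer ↥M24 dod0 ⊓ MulAction.stabilizer ↥M24 (gpt 0) ⊓
    MulAction.stabilizer ↥M24 (mset 160)

theorem card_K0 : Nat.card ↥K0 = 120 := by
  have h := card_eq_ncard_orbit_mul (G := ↥M24) (X := Finset GolayPt)
    (MulAction.stabilizer ↥M24 dod0 ⊓ MulAction.stabilizer ↥M24 (gpt 0)) (mset 160)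
  rw [card_stab_dodecad_point dod0 dod0_mem p0_mem, orbit_pairs, ncard_pairsC] at h
  unfold K0
  omega

theorem K0_facts (g : ↥K0) : ((g : ↥M24) : Equiv.Perm GolayPt) ∈ M24 ∧
    ((g : ↥M24) : Equiv.Perm GolayPt) • dod0 = dod0 ∧
    ((g : ↥M24) : Equiv.Perm GolayPt) (gpt 0) = gpt 0 ∧
    ((g : ↥M24) : Equiv.Perm GolayPt) • mset 160 = mset 160 := by
  have hg := g.2
  unfold K0 at hg
  rw [Subgroup.mem_inf, Subgroup.mem_inf, MulAction.mem_stabilizer_iff,
    MulAction.mem_stabilizer_iff, MulAction.mem_stabilizer_iff] at hg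
  exact ⟨(g : ↥M24).2, hg.1.1, hg.1.2, hg.2⟩

theorem oct_unique' : ∀ a < 64, ∀ b < 64, popc (combo (64 * a + b)) = 8 →
    161 &&& combo (64 * a + b) = 161 → popc (combo (64 * a + b) &&& dmask) = 6 →
    64 * a + b = 1921 := by
  decide +kernel

theorem oct_unique (k : ℕ) (hk : k < 4096) (h8 : popc (combo k) = 8)
    (h1 : 161 &&& combo k = 161) (h6 : popc (combo k &&& dmask) = 6) : k = 1921 := by
  have h := oct_unique' (k / 64) (by omega) (k % 64) (by omega)
  rw [Nat.div_add_mod] at h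
  exact h h8 h1 h6

theorem o0_facts : popc (combo 1921) = 8 ∧ 161 &&& combo 1921 = 161 ∧
    popc (combo 1921 &&& dmask) = 6 ∧ (combo 1921 &&& dmask).testBit 0 = true := by
  decide +kernel

theorem mset_161 : mset 161 = {gpt 0} ∪ mset 160 := by
  have h : (161 : ℕ) = 1 <<< ((0 : Fin 24) : ℕ) ||| 160 := by decide
  rw [h, mset_or, mset_shift]

theorem card_o0_inter : (supp 1921 ∩ dod0).card = 6 := by
  have h := card_inter_supp' 1921 1
  rw [combo_one_eq] at h
  exact h.trans o0_facts.2.2.1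

theorem smul_o0 {g : Equiv.Perm GolayPt} (hg : g ∈ M24) (hd : g • dod0 = dod0)
    (hp : g (gpt 0) = gpt 0) (hq : g • mset 160 = mset 160) : g • supp 1921 = supp 1921 := by
  have hoct : g • supp 1921 ∈ octads := smul_mem_octads hg (supp_mem_octads o0_facts.1)
  obtain ⟨k, hk, hk8, hks⟩ := exists_supp_of_mem_octads hoct
  have h161 : g • mset 161 = mset 161 := by
    rw [mset_161, Finset.smul_finset_union, hq, Finset.smul_finset_singleton]
    congr
  have hsub : mset 161 ⊆ supp 1921 := by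
    rw [supp_eq_mset]
    exact mset_subset_of_and o0_facts.2.1
  have hsub' : mset 161 ⊆ mset (combo k) := by
    rw [← supp_eq_mset, hks, ← h161]
    exact Finset.smul_finset_subset_smul_finset hsub
  have h1 : 161 &&& combo k = 161 := and_eq_of_mset_subset (by norm_num) hsub'
  have h6 : popc (combo k &&& dmask) = 6 := by
    have h := card_inter_supp' k 1
    rw [combo_one_eq] at h
    rw [← h, hks]
    have h2 : g • supp 1921 ∩ supp 1 = g • (supp 1921 ∩ dod0) := by
      rw [Finset.smul_finset_inter, hd]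
      rfl
    rw [h2, Finset.card_smul_finset]
    exact card_o0_inter
  have hk1921 := oct_unique k hk hk8 h1 h6
  rw [← hks, hk1921]

/-- the five further points of the hexad through the base point -/
def FF : Finset GolayPt := (supp 1921 ∩ dod0) \ {gpt 0}

theorem FF_sub : FF ⊆ dod0 := fun _ hx =>
  (Finset.mem_inter.1 (Finset.mem_sdiff.1 hx).1).2

theorem p0_mem_o0 : gpt 0 ∈ supp 1921 ∩ dod0 := by
  rw [dod0_eq, supp_eq_mset, ← mset_and, gpt_mem_mset]
  exact o0_facts.2.2.2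

theorem card_FF : FF.card = 5 := by
  unfold FF
  rw [Finset.card_sdiff_of_subset (Finset.singleton_subset_iff.2 p0_mem_o0), card_o0_inter,
    Finset.card_singleton]

theorem smul_FF {g : Equiv.Perm GolayPt} (hg : g ∈ M24) (hd : g • dod0 = dod0)
    (hp : g (gpt 0) = gpt 0) (hq : g • mset 160 = mset 160) : g • FF = FF := by
  unfold FF
  rw [Finset.smul_finset_sdiff, Finset.smul_finset_inter, smul_o0 hg hd hp hq, hd,
    Finset.smul_finset_singleton]
  congr

/-- the action on the five points -/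
def rho : ↥K0 →* Equiv.Perm ↥FF where
  toFun g := (((g : ↥M24) : Equiv.Perm GolayPt)).subtypePerm
    (smul_eq_iff_mem.1 (smul_FF (K0_facts g).1 (K0_facts g).2.1 (K0_facts g).2.2.1
      (K0_facts g).2.2.2))
  map_one' := by
    apply Equiv.ext
    intro x
    rfl
  map_mul' g h := by
    apply Equiv.ext
    intro x
    rfl

theorem rho_injective : Function.Injective rho := by
  rw [injective_iff_map_eq_one]
  intro g hg
  have hfix : ∀ x (hx : x ∈ FF), ((g : ↥M24) : Equiv.Perm GolayPt) x = x := fun x hx =>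
    congrArg (fun e : Equiv.Perm ↥FF => ((e ⟨x, hx⟩ : ↥FF) : GolayPt)) hg
  have hcard : Fintype.card ↥FF = 5 := by rw [Fintype.card_coe, card_FF]
  let e : Fin 5 ↪ GolayPt :=
    (Fintype.equivFinOfCardEq hcard).symm.toEmbedding.trans (Function.Embedding.subtype _)
  have he : ∀ i, e i ∈ FF := fun i => ((Fintype.equivFinOfCardEq hcard).symm i).2
  have h1 := (dodecad_sharp5 dod0 dod0_mem e e (fun i => FF_sub (he i))
    (fun i => FF_sub (he i))).2 ((g : ↥M24) : Equiv.Perm GolayPt) (K0_facts g).1 (K0_facts g).2.1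
    (fun i => hfix _ (he i))
  exact Subtype.ext (Subtype.ext h1)

theorem rho_bijective : Function.Bijective rho := by
  apply rho_injective.bijective_of_nat_card_le
  rw [Nat.card_perm, card_K0, Nat.card_eq_fintype_card, Fintype.card_coe, card_FF]
  decide

/-- the base isomorphism -/
noncomputable def iso0 : ↥K0 ≃* Equiv.Perm (Fin 5) :=
  (MulEquiv.ofBijective rho rho_bijective).trans
    (Equiv.permCongrHom (Fintype.equivFinOfCardEq (by rw [Fintype.card_coe, card_FF])))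


/-- In the 12-point action of the smallest Mathieu group the setwise stabiliser of a pair is isomorphic to the symmetric group of degree 5. -/
theorem result (d : Finset Cfsg.GolayPt) (hd : d ∈ Cfsg.dodecads) (p q q' : Cfsg.GolayPt) (hp : p ∈ d) (hq : q ∉ d) (hq' : q' ∉ d) (hqq' : q ≠ q') : Nonempty (↥(MulAction.stabilizer Cfsg.M24 d ⊓ MulAction.stabilizer Cfsg.M24 p ⊓ MulAction.stabilizer Cfsg.M24 ({q, q'} : Finset Cfsg.GolayPt)) ≃* Equiv.Perm (Fin 5)) := by
  obtain ⟨g1, hg1, rfl⟩ := exists_smul_dod0 hd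
  have hpre : ∀ (a : Equiv.Perm GolayPt) (x : GolayPt), x ∈ a • dod0 → a⁻¹ x ∈ dod0 := by
    intro a x hx
    obtain ⟨u, hu, rfl⟩ := Finset.mem_smul_finset.1 hx
    show a⁻¹ (a u) ∈ dod0
    rw [Equiv.Perm.inv_def, Equiv.symm_apply_apply]
    exact hu
  have hpre' : ∀ (a : Equiv.Perm GolayPt) (x : GolayPt), x ∉ a • dod0 → a⁻¹ x ∉ dod0 := by
    intro a x hx h
    apply hx
    have h2 : a • (a⁻¹ x) ∈ a • dod0 := Finset.smul_mem_smul_finset h
    have h3 : a • (a⁻¹ x) = x := by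
      show a (a⁻¹ x) = x
      rw [Equiv.Perm.inv_def, Equiv.apply_symm_apply]
    rw [h3] at h2
    exact h2
  obtain ⟨g2, hg2, hg2d, hg2p⟩ := dodecad_trans1 dod0 dod0_mem p0_mem (hpre g1 p hp)
  have had : (g1 * g2) • dod0 = g1 • dod0 := by rw [mul_smul, hg2d]
  have hq1 : (g1 * g2)⁻¹ q ∉ dod0 := hpre' _ q (by rw [had]; exact hq)
  have hq1' : (g1 * g2)⁻¹ q' ∉ dod0 := hpre' _ q' (by rw [had]; exact hq')
  have hne1 : (g1 * g2)⁻¹ q ≠ (g1 * g2)⁻¹ q' := fun h => hqq' ((g1 * g2)⁻¹.injective h)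
  obtain ⟨g3, hg3, hg3d, hg3p, hg3q⟩ := trans_pairs hq1 hq1' hne1
  have hgM : g1 * g2 * g3 ∈ M24 := mul_mem (mul_mem hg1 hg2) hg3
  have e1 : (g1 * g2 * g3) • dod0 = g1 • dod0 := by rw [mul_smul, hg3d, had]
  have e2 : (g1 * g2 * g3) (gpt 0) = p := by
    rw [Equiv.Perm.mul_apply, hg3p, Equiv.Perm.mul_apply, hg2p, Equiv.Perm.inv_def,
      Equiv.apply_symm_apply]
  have e3 : (g1 * g2 * g3) • mset 160 = {q, q'} := by
    rw [mul_smul, hg3q, Finset.smul_finset_insert, Finset.smul_finset_singleton]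
    have h1 : (g1 * g2) • ((g1 * g2)⁻¹ q) = q := by
      show (g1 * g2) ((g1 * g2)⁻¹ q) = q
      rw [Equiv.Perm.inv_def, Equiv.apply_symm_apply]
    have h2 : (g1 * g2) • ((g1 * g2)⁻¹ q') = q' := by
      show (g1 * g2) ((g1 * g2)⁻¹ q') = q'
      rw [Equiv.Perm.inv_def, Equiv.apply_symm_apply]
    rw [h1, h2]
  have hz : ((g1 • dod0, p, ({q, q'} : Finset GolayPt)) :
      Finset GolayPt × GolayPt × Finset GolayPt) =
      (⟨g1 * g2 * g3, hgM⟩ : ↥M24) •
        ((dod0, gpt 0, mset 160) : Finset GolayPt × GolayPt × Finset GolayPt) := by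
    rw [Prod.smul_mk, Prod.smul_mk]
    exact Prod.ext e1.symm (Prod.ext e2.symm e3.symm)
  have iso1 := MulAction.stabilizerEquivStabilizer hz
  have hK0 : MulAction.stabilizer ↥M24
      ((dod0, gpt 0, mset 160) : Finset GolayPt × GolayPt × Finset GolayPt) = K0 :=
    stab_flag _ _ _
  exact ⟨((MulEquiv.subgroupCongr (stab_flag (g1 • dod0) p {q, q'})).symm.trans
    iso1.symm).trans ((MulEquiv.subgroupCongr hK0).trans iso0)⟩

end Cfsg.Agent.S1602
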