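import Cfsg.Statements.S1603
import Cfsg.Agent.Lib.Helper1.GL23b

set_option autoImplicit false
open scoped Pointwise
open Cfsg

namespace Cfsg.Agent.S1603

open Cfsg.Agent.Lib.Helper1
open scoped Pointwise

/-- Involution centralisers in the smallest Mathieu group are isomorphic to GL(2, 3). -/
theorem result (d : Finset Cfsg.GolayPt) (hd : d ∈ Cfsg.dodecads) (p : Cfsg.GolayPt) (hp : p ∈ d) (x : ↥(MulAction.stabilizer Cfsg.M24 d ⊓ MulAction.stabilizer Cfsg.M24 p)) (hx : orderOf x = 2) : Nonempty (↥(Subgroup.centralizer ({x} : Set ↥(MulAction.stabilizer Cfsg.M24 d ⊓ MulAction.stabilizer Cfsg.M24 p))) ≃* GL (Fin 2) (ZMod 3)) := by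
  obtain ⟨h, hh, hhd, hhp⟩ := exists_smul_flag d hd hp
  obtain ⟨X, hX⟩ : ∃ X : Equiv.Perm GolayPt, X = x.1.1 := ⟨_, rfl⟩
  have hXM : X ∈ M24 := by
    rw [hX]
    exact x.1.2
  have hxs := x.2
  rw [Subgroup.mem_inf, MulAction.mem_stabilizer_iff, MulAction.mem_stabilizer_iff] at hxs
  have hXd : X • d = d := by
    rw [hX]
    exact hxs.1
  have hXp : X p = p := by
    rw [hX]
    exact hxs.2
  have hX2 : X * X = 1 := by
    have h1 : x * x = 1 := by
      rw [← pow_two, ← hx]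
      exact pow_orderOf_eq_one x
    have h3 := congrArg (fun z : ↥(MulAction.stabilizer Cfsg.M24 d ⊓
      MulAction.stabilizer Cfsg.M24 p) => z.1.1) h1
    rw [hX]
    exact h3
  have hX1 : X ≠ 1 := by
    intro h1
    have h2 : x = 1 := by
      apply Subtype.ext
      apply Subtype.ext
      show x.1.1 = 1
      rw [← hX, h1]
    rw [h2, orderOf_one] at hx
    exact absurd hx (by norm_num)
  -- conjugation into the base group
  have conjM11 : ∀ (s : Equiv.Perm GolayPt), s ∈ M24 → s • dod0 = d → s (gpt 0) = p →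
      ∀ W : Equiv.Perm GolayPt, W ∈ M24 → W • d = d → W p = p → s⁻¹ * W * s ∈ M11 := by
    intro s hs hsd hsp W hW hWd hWp
    rw [mem_M11]
    refine ⟨?_, ?_⟩
    · unfold M12
      rw [Subgroup.mem_inf]
      refine ⟨mul_mem (mul_mem (inv_mem hs) hW) hs, ?_⟩
      rw [MulAction.mem_stabilizer_iff, mul_smul, mul_smul, hsd, hWd, ← hsd, inv_smul_smul]
    · rw [Equiv.Perm.mul_apply, Equiv.Perm.mul_apply, hsp, hWp, ← hsp, perm_inv_apply_self]
  have hy : h⁻¹ * X * h ∈ M11 := conjM11 h hh hhd hhp X hXM hXd hXp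
  have hyy : (h⁻¹ * X * h) * (h⁻¹ * X * h) = 1 := by
    have e : (h⁻¹ * X * h) * (h⁻¹ * X * h) = h⁻¹ * (X * X) * h := by group
    rw [e, hX2]
    group
  have hy2 : ∀ q, (h⁻¹ * X * h) ((h⁻¹ * X * h) q) = q := by
    intro q
    rw [← Equiv.Perm.mul_apply, hyy]
    rfl
  have hy1 : h⁻¹ * X * h ≠ 1 := by
    intro h1
    apply hX1
    have e : X = h * (h⁻¹ * X * h) * h⁻¹ := by group
    rw [e, h1]
    group
  obtain ⟨k, hk, hyk⟩ := invol_conj _ hy hy2 hy1
  obtain ⟨hk12, hk0⟩ := mem_M11.1 hk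
  have hk24 : k ∈ M24 := (Subgroup.mem_inf.1 hk12).1
  have hkd : k • dod0 = dod0 := MulAction.mem_stabilizer_iff.1 (Subgroup.mem_inf.1 hk12).2
  obtain ⟨t, ht⟩ : ∃ t, t = h * k := ⟨_, rfl⟩
  have htM : t ∈ M24 := by
    rw [ht]
    exact mul_mem hh hk24
  have htd : t • dod0 = d := by rw [ht, mul_smul, hkd, hhd]
  have htp : t (gpt 0) = p := by rw [ht, Equiv.Perm.mul_apply, hk0, hhp]
  have hXt : X = t * x0 * t⁻¹ := by
    have e : X = h * (h⁻¹ * X * h) * h⁻¹ := by group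
    rw [e, hyk, ht]
    group
  have hx0 : x0 = t⁻¹ * X * t := by
    rw [hXt]
    group
  obtain ⟨e⟩ := iso_transport2 C0 (MulAction.stabilizer Cfsg.M24 d ⊓ MulAction.stabilizer Cfsg.M24 p)
    (Subgroup.centralizer ({x} : Set ↥(MulAction.stabilizer Cfsg.M24 d ⊓
      MulAction.stabilizer Cfsg.M24 p))) t (by
    ext g
    rw [mem_map_conj, mem_C0', Subgroup.mem_map]
    constructor
    · rintro ⟨z', hz', rfl⟩
      rw [Subgroup.mem_map] at hz'
      obtain ⟨z, hz, rfl⟩ := hz'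
      rw [Subgroup.mem_centralizer_iff] at hz
      have hzx : x * z = z * x := hz x (Set.mem_singleton x)
      have hzs := z.2
      rw [Subgroup.mem_inf, MulAction.mem_stabilizer_iff, MulAction.mem_stabilizer_iff] at hzs
      have hZM : z.1.1 ∈ M24 := z.1.2
      have hZd : z.1.1 • d = d := hzs.1
      have hZp : z.1.1 p = p := hzs.2
      have hXZ : X * z.1.1 = z.1.1 * X := by
        have h3 := congrArg (fun w : ↥(MulAction.stabilizer Cfsg.M24 d ⊓
          MulAction.stabilizer Cfsg.M24 p) => w.1.1) hzx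
        rw [hX]
        exact h3
      show t⁻¹ * z.1.1 * t ∈ M11 ∧ x0 * (t⁻¹ * z.1.1 * t) = t⁻¹ * z.1.1 * t * x0
      refine ⟨conjM11 t htM htd htp _ hZM hZd hZp, ?_⟩
      rw [hx0]
      have e1 : t⁻¹ * X * t * (t⁻¹ * z.1.1 * t) = t⁻¹ * (X * z.1.1) * t := by group
      have e2 : t⁻¹ * z.1.1 * t * (t⁻¹ * X * t) = t⁻¹ * (z.1.1 * X) * t := by group
      rw [e1, e2, hXZ]
    · rintro ⟨hgM, hgc⟩
      have hgM24 : g ∈ M24 := by
        have e : g = t * (t⁻¹ * g * t) * t⁻¹ := by group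
        rw [e]
        exact mul_mem (mul_mem htM (Subgroup.mem_inf.1 (mem_M11.1 hgM).1).1) (inv_mem htM)
      have hgd : g • d = d := by
        have h1 : (t⁻¹ * g * t) • dod0 = dod0 :=
          MulAction.mem_stabilizer_iff.1 (Subgroup.mem_inf.1 (mem_M11.1 hgM).1).2
        rw [mul_smul, mul_smul, htd, inv_smul_eq_iff, htd] at h1
        exact h1
      have hgp : g p = p := by
        have h1 := (mem_M11.1 hgM).2
        rw [Equiv.Perm.mul_apply, Equiv.Perm.mul_apply, htp, Equiv.Perm.inv_eq_iff_eq, htp] at h1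
        exact h1
      have hgX : X * g = g * X := by
        rw [hXt]
        have e1 : t * x0 * t⁻¹ * g = t * (x0 * (t⁻¹ * g * t)) * t⁻¹ := by group
        have e2 : g * (t * x0 * t⁻¹) = t * ((t⁻¹ * g * t) * x0) * t⁻¹ := by group
        rw [e1, e2, hgc]
      have hzmem : (⟨g, hgM24⟩ : ↥Cfsg.M24) ∈ MulAction.stabilizer Cfsg.M24 d ⊓
          MulAction.stabilizer Cfsg.M24 p := by
        rw [Subgroup.mem_inf, MulAction.mem_stabilizer_iff, MulAction.mem_stabilizer_iff]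
        exact ⟨hgd, hgp⟩
      refine ⟨⟨g, hgM24⟩, ?_, rfl⟩
      rw [Subgroup.mem_map]
      refine ⟨⟨⟨g, hgM24⟩, hzmem⟩, ?_, rfl⟩
      rw [Subgroup.mem_centralizer_iff]
      intro w hw
      rw [Set.mem_singleton_iff] at hw
      rw [hw]
      apply Subtype.ext
      apply Subtype.ext
      show x.1.1 * g = g * x.1.1
      rw [← hX]
      exact hgX)
  obtain ⟨e'⟩ := C0_iso
  exact ⟨e.trans e'⟩

end Cfsg.Agent.S1603
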