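import Cfsg.Statements.S1605
import Mathlib
import Cfsg.Agent.Lib.Helper1.M24Flags
import Cfsg.Agent.Lib.Helper1.M24Simple3

set_option autoImplicit false
open scoped Pointwise
open Cfsg

namespace Cfsg.Agent.S1605

open Cfsg.Agent.Lib.Helper1

namespace P2
open Cfsg.Agent.Lib.Helper1

def ws : List (List ℕ) := [[2, 1, 1, 2, 4, 4, 1, 2, 1], [1, 1, 2, 0, 3, 1, 1, 1, 1, 2, 1]]

def tl : List (Fin 24 → Fin 24) := [![0, 12, 2, 16, 17, 6, 15, 4, 9, 11, 8, 22, 5, 13, 3, 1, 21, 20, 7, 14, 18, 19, 10, 23], ![0, 21, 7, 17, 6, 14, 22, 8, 5, 16, 4, 3, 10, 19, 15, 12, 1, 9, 20, 18, 11, 13, 2, 23]]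

theorem tl_ok : ∀ l < tl.length, ∀ i : Fin 24, tl.getD l id i = evalT (ws.getD l []) i := by
  decide +kernel

theorem tl_fix : ∀ l < tl.length, pullMask (tl.getD l id) (combo 0) = combo 0 := by
  decide +kernel

theorem tl_pts : ∀ l < tl.length, ∀ i ∈ ([23, 0] : List (Fin 24)), tl.getD l id i = i := by
  decide +kernel

theorem good : GoodTabs (stabKP 0 [23, 0]) (tabOf tl) :=
  goodTabs_stabKP _ _ ws tl tl_ok tl_fix tl_pts

def cert0_0 : List (ℕ × ℕ × ℕ) :=
  [(2848, 2073, 0), (4024, 2073, 1), (3963, 2848, 0), (2119, 2848, 1), (3109, 4024, 0), (2666, 4024, 1), (3621, 3963, 0), (3285, 3963, 1),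
    (2242, 2119, 1), (3590, 3109, 1), (3295, 2666, 0), (2209, 2666, 1), (2127, 3621, 0), (2504, 3621, 1), (3063, 3285, 0), (4039, 3285, 1),
    (3895, 2242, 0), (2399, 2242, 1), (2313, 3590, 0), (2229, 3590, 1), (3979, 3295, 0), (2799, 3295, 1), (2102, 2209, 0), (3737, 2127, 1),
    (2772, 2504, 0), (3600, 2504, 1), (2819, 3063, 1), (2598, 4039, 0), (3870, 4039, 1), (3003, 3895, 0), (3807, 3895, 1), (2909, 2399, 0),
    (2813, 2399, 1), (2148, 2313, 0), (3036, 2313, 1), (3576, 2229, 0), (2672, 2229, 1), (3348, 3979, 1), (3901, 2799, 0), (2364, 2799, 1),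
    (2495, 2102, 0), (2918, 2102, 1), (3148, 3737, 0), (2563, 3737, 1), (2156, 2772, 0), (3191, 3600, 0), (3645, 3600, 1), (2362, 2819, 1),
    (2369, 2598, 0), (2731, 2598, 1), (3713, 3870, 0), (2698, 3870, 1), (3371, 3003, 0), (3502, 3807, 0), (3361, 3807, 1), (3648, 2909, 1),
    (3414, 2813, 0), (3475, 2148, 0), (3391, 3036, 0), (2573, 3576, 1), (2680, 2672, 0), (2954, 2672, 1), (2264, 3348, 0), (3164, 2364, 0),
    (3113, 2364, 1), (2075, 2495, 0), (3941, 2918, 1), (2327, 3148, 0), (3578, 3148, 1), (4002, 2563, 0), (4068, 2156, 1), (3654, 3191, 0),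
    (3672, 3645, 0), (2448, 3645, 1), (3065, 2362, 0), (3234, 2362, 1), (2606, 2369, 1), (3695, 2731, 0), (3437, 2731, 1), (2651, 3713, 0),
    (3993, 2698, 0), (3939, 2698, 1), (2204, 3371, 0), (2737, 3371, 1), (2942, 3502, 0), (2860, 3502, 1), (3296, 3361, 0), (2283, 3648, 0),
    (3991, 3648, 1), (3631, 3414, 0), (3254, 3414, 1), (2690, 3475, 1), (3410, 3391, 0), (3914, 3391, 1), (3275, 2573, 0), (3469, 2573, 1)]

def cert0_1 : List (ℕ × ℕ × ℕ) :=
  [(3764, 2680, 0), (3537, 2680, 1), (3332, 2954, 1), (2676, 2264, 1), (3020, 3164, 0), (2483, 3113, 0), (2981, 3113, 1), (2960, 2075, 0),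
    (3078, 3941, 1), (2518, 2327, 0), (2831, 2327, 1), (2295, 3578, 0), (2430, 3578, 1), (2912, 4068, 0), (3683, 4068, 1), (3918, 3654, 0),
    (3868, 3654, 1), (3836, 3672, 0), (4047, 3672, 1), (2692, 2448, 0), (2529, 2448, 1), (3539, 3065, 1), (2360, 3234, 0), (3304, 3234, 1),
    (3312, 2606, 1), (2889, 3695, 1), (4082, 2651, 0), (3244, 2651, 1), (2098, 3939, 0), (3213, 3939, 1), (2248, 2737, 0), (2190, 2942, 0),
    (3556, 2860, 1), (3338, 2283, 1), (3770, 3991, 0), (3123, 3631, 0), (3318, 3254, 0), (2323, 3254, 1), (2901, 2690, 0), (3336, 3914, 0),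
    (2629, 3275, 0), (3860, 3275, 1), (2616, 3469, 0), (2641, 3469, 1), (3453, 3537, 0), (2162, 2676, 1), (3010, 2483, 0), (3225, 2981, 0),
    (2522, 2981, 1), (3779, 2518, 1), (3754, 2295, 1), (2291, 2430, 1), (4078, 2912, 1), (2477, 3683, 0), (3818, 3683, 1), (2589, 3918, 0),
    (3633, 3868, 0), (2553, 3868, 1), (2373, 4047, 1), (3533, 3539, 0), (4049, 2360, 1), (3689, 3304, 1), (3614, 4082, 0), (2206, 2098, 1),
    (2983, 3213, 0), (2891, 2248, 0), (2729, 2190, 0), (2410, 3338, 0), (2239, 3338, 1), (3199, 2629, 1), (2958, 2641, 0), (2436, 2641, 1),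
    (2285, 2162, 0), (3098, 2291, 0), (2454, 3818, 0), (3457, 3633, 0), (3928, 4049, 0), (3496, 2285, 0), (3291, 3098, 1)]

def cert0 : List (ℕ × ℕ × ℕ) :=
  cert0_0 ++ cert0_1

def fin0 : ℕ := 67732356634041422998931957432069196723453603861826087047239677969135142843782980409098937810088234817819924195371060005947197978637540534013257496711740368476703460050829057742046188343197273526487709363060600611995245061037399722226900708601942092291599775716199195185174814879391255540757907945307844460972404200356451350418601883449115622776436642102088298405362003620935699321802999597504732622321171858671579245017937696830940579694545814815521781114257256635143674916382583329897351059877088917468919478324625953201527166207491381824212090990122670750011792279817486827898612500615106411110600519289517379728180227145302237936796614007547385492409590090553756595671920801675202545191731250741860574515214374775476301173522613219495674013146537618716836309537465570363339739249002596137363821697682303725391823126613808288675310341434653913845641601764237695886860666637483267627782496845424948962642147006784099675522495359829788891656490759310738173418189096894766730374520327594738547852310944711496042646694454763102849028488152117971749301637858317936707086596271740284238655576887519124707456500086634152619631555920496895471330251713292458097952064136988150092028829713227369871862669077684714829462686933701319720960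

theorem fold0 : cert0.foldl (stepCertT (tabOf tl)) (some (1 <<< 2073)) = some fin0 := by
  decide +kernel

def finF : ℕ → ℕ
  | 0 => fin0
  | _ => 0

def rootF : ℕ → ℕ
  | 0 => 2073
  | _ => 0

def clsF (m : ℕ) : ℕ := popc (0 &&& combo m)

def famF (m : ℕ) : Prop := popc (combo m) = 8 ∧ (combo m).testBit 23 = true ∧ (combo m).testBit 0 = false

instance : DecidablePred famF := fun m => by unfold famF; infer_instance

theorem combo_base : combo 0 = 0 := by decide +kernel

theorem hreach : ∀ k m, (finF k).testBit m = true → ReachK (stabKP 0 [23, 0]) (rootF k) m := by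
  intro k m h
  unfold finF at h
  unfold rootF
  split at h
  · exact certT_sound' good _ cert0 fin0 fold0 m h
  · simp at h

def coverOK (m : ℕ) : Prop := famF m → (finF (clsF m)).testBit m = true

instance : DecidablePred coverOK := fun m => by unfold coverOK; infer_instance

theorem cover : ∀ a < 64, ∀ b < 64, coverOK (64 * a + b) := by
  decide +kernel

theorem hcover : ∀ m < 4096, famF m → (finF (clsF m)).testBit m = true := by
  intro m hm
  have := cover (m / 64) (by omega) (m % 64) (Nat.mod_lt _ (by norm_num))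
  rw [Nat.div_add_mod] at this
  exact this

theorem hcls (m : ℕ) : (supp 0 ∩ supp m).card = clsF m := by
  rw [card_inter_supp', combo_base]
  rfl

theorem base_conj : ∀ m m' : ℕ, m < 4096 → m' < 4096 → famF m → famF m' →
    clsF m = clsF m' → ∃ g ∈ stabKP 0 [23, 0], g • supp m = supp m' :=
  fun m m' hm hm' hf hf' h => conj_of_certs' famF clsF rootF finF hreach hcover hm hm' hf hf' h

theorem cnt0 : (Finset.univ.filter (fun m : Fin 4096 => popc (combo m.val) = 8 ∧
    ((combo m.val).testBit 23 = true ∧ (combo m.val).testBit 0 = false ∧ popc (0 &&& combo m.val) = 0))).card = 176 := by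
  decide +kernel

theorem gpt_mem_support₂ (w : GolayPt → ZMod 2) (i : Fin 24) :
    gpt i ∈ support₂ w ↔ (mask w).testBit i = true := by
  rw [mem_support₂_iff, mask_testBit, decide_eq_true_iff]

theorem gpt_not_mem_support₂ (w : GolayPt → ZMod 2) (i : Fin 24) :
    gpt i ∉ support₂ w ↔ (mask w).testBit i = false := by
  rw [gpt_mem_support₂, Bool.not_eq_true]

theorem count_base (k : ℕ) :
    {b : Finset GolayPt | b ∈ octads ∧ (gpt 23 ∈ b ∧ gpt 0 ∉ b ∧ (supp 0 ∩ b).card = k)}.ncard =
      (Finset.univ.filter (fun m : Fin 4096 => popc (combo m.val) = 8 ∧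
        ((combo m.val).testBit 23 = true ∧ (combo m.val).testBit 0 = false ∧ popc (0 &&& combo m.val) = k))).card := by
  apply ncard_wow_pred 8 (fun b => gpt 23 ∈ b ∧ gpt 0 ∉ b ∧ (supp 0 ∩ b).card = k)
    (fun v => v.testBit 23 = true ∧ v.testBit 0 = false ∧ popc (0 &&& v) = k)
  intro w
  unfold supp
  rw [card_inter_support₂, mask_wordOf, combo_base]
  exact (and_congr (gpt_mem_support₂ w 23) (and_congr (gpt_not_mem_support₂ w 0) Iff.rfl))

theorem count_transfer {g0 : Equiv.Perm GolayPt} (hg0 : g0 ∈ M24) (k : ℕ) :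
    {o' : Finset GolayPt | o' ∈ octads ∧ g0 (gpt 23) ∈ o' ∧ g0 (gpt 0) ∉ o' ∧ (g0 • supp 0 ∩ o').card = k}.ncard =
    {b : Finset GolayPt | b ∈ octads ∧ (gpt 23 ∈ b ∧ gpt 0 ∉ b ∧ (supp 0 ∩ b).card = k)}.ncard := by
  apply ncard_family_smul' g0 octads (fun b hb => smul_mem_octads hg0 hb)
    (fun b hb => smul_mem_octads (inv_mem hg0) hb)
  intro b
  rw [card_inter_smul]
  exact (and_congr (Finset.smul_mem_smul_finset_iff g0) (and_congr (Finset.smul_mem_smul_finset_iff g0).not Iff.rfl))

theorem conj_gen {g0 : Equiv.Perm GolayPt} (hg0 : g0 ∈ M24) (o' o'' : Finset GolayPt)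
    (ho' : o' ∈ octads) (ho'' : o'' ∈ octads)
    (hF' : (fun b : Finset GolayPt => g0 (gpt 23) ∈ b ∧ g0 (gpt 0) ∉ b) o') (hF'' : (fun b : Finset GolayPt => g0 (gpt 23) ∈ b ∧ g0 (gpt 0) ∉ b) o'')
    (h : (g0 • supp 0 ∩ o').card = (g0 • supp 0 ∩ o'').card) :
    ∃ g : Equiv.Perm GolayPt, g ∈ M24 ∧ (∀ i ∈ ([23, 0] : List (Fin 24)), g (g0 (gpt i)) = g0 (gpt i)) ∧
      g • (g0 • supp 0) = g0 • supp 0 ∧ g • o' = o'' :=
  conf_conj 8 0 [23, 0] hg0
    (fun m => (combo m).testBit 23 = true ∧ (combo m).testBit 0 = false) (fun b => g0 (gpt 23) ∈ b ∧ g0 (gpt 0) ∉ b)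
    (fun m hm => ⟨((smul_gpt_mem_smul_supp g0 m 23).1 hm.1), (by have := (smul_gpt_mem_smul_supp g0 m 0).not.1 hm.2; simpa using this)⟩) clsF hcls
    (fun m m' hm hm' h8 h8' hf hf' hc => base_conj m m' hm hm' ⟨h8, hf⟩ ⟨h8', hf'⟩ hc)
    o' o'' ho' ho'' hF' hF'' h

end P2

namespace P3
open Cfsg.Agent.Lib.Helper1

def ws : List (List ℕ) := [[4, 0, 3, 1, 2, 3, 1, 4, 0, 0, 4, 4, 1, 1, 4, 4, 1, 2, 1], [0, 3, 3, 0, 2, 3, 0, 4, 1, 2, 4, 0, 0, 0, 3, 2, 0, 0, 4]]

def tl : List (Fin 24 → Fin 24) := [![0, 15, 16, 13, 21, 9, 22, 7, 14, 3, 10, 6, 1, 5, 8, 17, 2, 12, 11, 20, 4, 19, 18, 23], ![0, 21, 18, 13, 6, 8, 16, 5, 14, 9, 19, 4, 10, 3, 7, 12, 11, 22, 1, 15, 20, 2, 17, 23]]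

theorem tl_ok : ∀ l < tl.length, ∀ i : Fin 24, tl.getD l id i = evalT (ws.getD l []) i := by
  decide +kernel

theorem tl_fix : ∀ l < tl.length, pullMask (tl.getD l id) (combo 2073) = combo 2073 := by
  decide +kernel

theorem tl_pts : ∀ l < tl.length, ∀ i ∈ ([23, 0] : List (Fin 24)), tl.getD l id i = i := by
  decide +kernel

theorem good : GoodTabs (stabKP 2073 [23, 0]) (tabOf tl) :=
  goodTabs_stabKP _ _ ws tl tl_ok tl_fix tl_pts

def cert2_0 : List (ℕ × ℕ × ℕ) :=
  [(3683, 2075, 0), (4049, 2075, 1), (2454, 3683, 1), (3348, 4049, 0), (2641, 4049, 1), (3901, 2454, 0), (3918, 2454, 1), (2291, 3348, 0),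
    (2430, 3348, 1), (3533, 2641, 1), (3065, 3901, 0), (2616, 3901, 1), (3963, 3918, 0), (2831, 3918, 1), (3318, 2291, 0), (3770, 2291, 1),
    (3496, 2430, 0), (3621, 2430, 1), (2313, 3533, 0), (4002, 3065, 0), (3123, 3065, 1), (3631, 2616, 0), (3779, 2616, 1), (2156, 3963, 0),
    (2563, 3963, 1), (2483, 2831, 0), (3109, 3318, 1), (2529, 3770, 0), (3979, 3496, 1), (2958, 3621, 0), (2477, 3621, 1), (3410, 2313, 0),
    (3600, 2313, 1), (2918, 4002, 1), (3285, 3123, 0), (2248, 3631, 0), (2960, 3779, 1), (3737, 2156, 0), (4068, 2156, 1), (3590, 2563, 0),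
    (3225, 2563, 1), (3437, 3109, 0), (3860, 3109, 1), (4039, 2529, 0), (3199, 3979, 0), (3928, 2958, 0), (3078, 2958, 1), (2373, 3410, 1),
    (2209, 3600, 1), (3295, 2248, 0), (3296, 2248, 1), (3036, 2960, 0), (2909, 4068, 1), (3361, 3590, 0), (3895, 3437, 0), (2589, 3437, 1),
    (3244, 4039, 0), (3010, 3078, 0), (2239, 3078, 1), (3457, 2373, 0), (4078, 2209, 1), (2522, 3295, 1), (3689, 3296, 0), (2690, 3296, 1),
    (3556, 2909, 0), (2162, 3361, 1), (2285, 3244, 1), (2676, 3457, 1), (3836, 2690, 1)]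

def cert2 : List (ℕ × ℕ × ℕ) :=
  cert2_0

def fin2 : ℕ := 3987918069371731394271881367735133434050229927825983940738623880832027797136243861256450278921548706323577374740551903266372366945119634320315385619452794049303512926310237271631759612743408702269283554451023068884783345170341783488753904200078971846743634442719531690149568531443531720136074031397955873733764250992469258548007800045327925428420215418174550372715836669203181009455132491685502276512403763314631649832562921808518645440741379248941122122097741130798146159301911413755937498181176757301228591708017237502221199603364609054701751149633950015994136771327973155622313063849441245642310165029677238039286709710042941726078381011500314904507523091988305649036538102782881311162382595346919650744962145770379070794078547131455609876143146970517300970656624447542337226139417650329855544334655721094581655713945404919164109912283241119312423135372546798341828149393721382033338961328624365522252901777549575203971315324697694595466257808745585618623711326736385712389977891077052959863072700811219034718000025250691336374094828759950373149336249522710483515500010402358309277179184126911662534869470250763733537649060079744442776081829515090113128742298819892987548987009491266060354573826628201702844958767313082908672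

theorem fold2 : cert2.foldl (stepCertT (tabOf tl)) (some (1 <<< 2075)) = some fin2 := by
  decide +kernel

def cert4_0 : List (ℕ × ℕ × ℕ) :=
  [(2954, 2098, 0), (2606, 2098, 1), (2848, 2954, 0), (3332, 2954, 1), (3991, 2606, 0), (2148, 2606, 1), (3672, 2848, 0), (3414, 2848, 1),
    (2889, 3332, 0), (2323, 3332, 1), (3713, 3991, 0), (2666, 3991, 1), (2981, 2148, 0), (2680, 2148, 1), (3020, 3672, 1), (3870, 3414, 0),
    (2119, 3414, 1), (2598, 2889, 0), (3502, 2323, 0), (3113, 2323, 1), (2504, 3713, 0), (2729, 3713, 1), (3275, 2981, 0), (3633, 2981, 1),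
    (4024, 2680, 0), (2229, 3020, 0), (3391, 3020, 1), (3475, 3870, 1), (3338, 2119, 0), (3539, 2119, 1), (2731, 2598, 0), (3576, 2598, 1),
    (2369, 3502, 1), (2692, 2504, 1), (2942, 2729, 0), (3578, 3275, 0), (3148, 3633, 0), (2242, 3633, 1), (2410, 4024, 0), (2399, 4024, 1),
    (3939, 2229, 0), (2912, 3391, 0), (3098, 3475, 0), (3537, 3475, 1), (3191, 3338, 0), (2629, 3338, 1), (3469, 3539, 0), (2819, 2731, 1),
    (3614, 3576, 0), (2327, 3576, 1), (2553, 2369, 0), (3453, 2369, 1), (2799, 2692, 0), (2102, 2692, 1), (2891, 2942, 0), (2204, 2942, 1),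
    (3807, 3578, 1), (3993, 2242, 0), (3764, 2242, 1), (3914, 2410, 1), (3654, 2399, 1), (3818, 3939, 0), (4082, 3939, 1), (4047, 2912, 0),
    (2983, 2912, 1), (2364, 3098, 0), (3063, 3537, 0), (3304, 3537, 1), (2362, 3191, 0), (3648, 3191, 1), (3234, 2629, 1), (2206, 3469, 0),
    (2295, 2819, 0), (2813, 2819, 1), (2518, 2327, 0), (3371, 2327, 1), (2698, 2553, 1), (3213, 3453, 0), (2672, 3453, 1), (2283, 2799, 0),
    (3312, 2799, 1), (2860, 2102, 1), (3164, 2891, 0), (2448, 2891, 1), (3291, 3807, 0), (2495, 3993, 0), (2573, 3914, 1), (3254, 3654, 0),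
    (3695, 3818, 1), (3003, 4082, 0), (2737, 2983, 0), (3868, 2364, 1), (3941, 3063, 1), (2901, 3304, 0), (3645, 3648, 1), (2436, 3234, 0)]

def cert4_1 : List (ℕ × ℕ × ℕ) :=
  [(2190, 2295, 0), (3754, 2518, 0), (2264, 3291, 1), (2772, 2495, 0), (2360, 2573, 0), (3336, 3695, 1), (2127, 3003, 0), (2651, 3868, 1)]

def cert4 : List (ℕ × ℕ × ℕ) :=
  cert4_0 ++ cert4_1

def fin4 : ℕ := 6374443856466969160466007606433406328940337393400010310650105408830311504664673654784248753116668611149634682063050810268082561169242089969294211109228757442739994712451882047041442873045386482421842580860957754311046171586705793873814680440186312044485614127347966349502524634794772382062183391390988858723863994936398209187059408340378769734801642668391374803264616695173251831234786710581923034580876809535694759518537477502242193425380443556658065899215951550434552875708067191614141356169591216016769088661660871569930596660412677276951033984048872073401765550848951367227629943676566516546829035425875576290623012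5089935955329479871922547082255070080330262247455850995729711728032070143898041691307511024673018164745973393956940654938758500889704942818701392884551099562216216687174405505722241881528735571382309519421690938283519162435463043234820716151061354798258150933636696889467634353451777548463535505665462002224136824504916292737589840726646237091098850509237279304352644230660553384754163600291629557692225605437117094089800969348931314216423114424934559582472582846722006254869553831521968583050670004344220654375818815417725081681927444920261244409276216030749394277880802814773531241920398423474496719233744896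

theorem fold4 : cert4.foldl (stepCertT (tabOf tl)) (some (1 <<< 2098)) = some fin4 := by
  decide +kernel

def cert8_0 : List (ℕ × ℕ × ℕ) :=
  []

def cert8 : List (ℕ × ℕ × ℕ) :=
  cert8_0

def fin8 : ℕ := 1084378782663392345323340881238361073499988332831986668303203490784386969180593201959204757353249616259227555986932484406050109147385125378502500943256716637487956571721440296892897771402002555121145053895238785103148981678572916909988977331489983645675539836190234259092828248897554067882447131662840781693728859009548955898307589379897495360724425908557386671307871780705238083873454927435853489736676716299136737286806075537299233557052027220987392372111798636536678865343082656391448522659213399662033332718881749686206041332213136444802095440539903060593758980888449093309458223008693321719814592728194253669669003067392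

theorem fold8 : cert8.foldl (stepCertT (tabOf tl)) (some (1 <<< 2073)) = some fin8 := by
  decide +kernel

def finF : ℕ → ℕ
  | 2 => fin2
  | 4 => fin4
  | 8 => fin8
  | _ => 0

def rootF : ℕ → ℕ
  | 2 => 2075
  | 4 => 2098
  | 8 => 2073
  | _ => 0

def clsF (m : ℕ) : ℕ := popc (8414120 &&& combo m)

def famF (m : ℕ) : Prop := popc (combo m) = 8 ∧ (combo m).testBit 23 = true ∧ (combo m).testBit 0 = false

instance : DecidablePred famF := fun m => by unfold famF; infer_instance

theorem combo_base : combo 2073 = 8414120 := by decide +kernel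

theorem hreach : ∀ k m, (finF k).testBit m = true → ReachK (stabKP 2073 [23, 0]) (rootF k) m := by
  intro k m h
  unfold finF at h
  unfold rootF
  split at h
  · exact certT_sound' good _ cert2 fin2 fold2 m h
  · exact certT_sound' good _ cert4 fin4 fold4 m h
  · exact certT_sound' good _ cert8 fin8 fold8 m h
  · simp at h

def coverOK (m : ℕ) : Prop := famF m → (finF (clsF m)).testBit m = true

instance : DecidablePred coverOK := fun m => by unfold coverOK; infer_instance

theorem cover : ∀ a < 64, ∀ b < 64, coverOK (64 * a + b) := by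
  decide +kernel

theorem hcover : ∀ m < 4096, famF m → (finF (clsF m)).testBit m = true := by
  intro m hm
  have := cover (m / 64) (by omega) (m % 64) (Nat.mod_lt _ (by norm_num))
  rw [Nat.div_add_mod] at this
  exact this

theorem hcls (m : ℕ) : (supp 2073 ∩ supp m).card = clsF m := by
  rw [card_inter_supp', combo_base]
  rfl

theorem base_conj : ∀ m m' : ℕ, m < 4096 → m' < 4096 → famF m → famF m' →
    clsF m = clsF m' → ∃ g ∈ stabKP 2073 [23, 0], g • supp m = supp m' :=
  fun m m' hm hm' hf hf' h => conj_of_certs' famF clsF rootF finF hreach hcover hm hm' hf hf' h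

theorem cnt2 : (Finset.univ.filter (fun m : Fin 4096 => popc (combo m.val) = 8 ∧
    ((combo m.val).testBit 23 = true ∧ (combo m.val).testBit 0 = false ∧ popc (8414120 &&& combo m.val) = 2))).card = 70 := by
  decide +kernel

theorem cnt4 : (Finset.univ.filter (fun m : Fin 4096 => popc (combo m.val) = 8 ∧
    ((combo m.val).testBit 23 = true ∧ (combo m.val).testBit 0 = false ∧ popc (8414120 &&& combo m.val) = 4))).card = 105 := by
  decide +kernel

theorem gpt_mem_support₂ (w : GolayPt → ZMod 2) (i : Fin 24) :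
    gpt i ∈ support₂ w ↔ (mask w).testBit i = true := by
  rw [mem_support₂_iff, mask_testBit, decide_eq_true_iff]

theorem gpt_not_mem_support₂ (w : GolayPt → ZMod 2) (i : Fin 24) :
    gpt i ∉ support₂ w ↔ (mask w).testBit i = false := by
  rw [gpt_mem_support₂, Bool.not_eq_true]

theorem count_base (k : ℕ) :
    {b : Finset GolayPt | b ∈ octads ∧ (gpt 23 ∈ b ∧ gpt 0 ∉ b ∧ (supp 2073 ∩ b).card = k)}.ncard =
      (Finset.univ.filter (fun m : Fin 4096 => popc (combo m.val) = 8 ∧
        ((combo m.val).testBit 23 = true ∧ (combo m.val).testBit 0 = false ∧ popc (8414120 &&& combo m.val) = k))).card := by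
  apply ncard_wow_pred 8 (fun b => gpt 23 ∈ b ∧ gpt 0 ∉ b ∧ (supp 2073 ∩ b).card = k)
    (fun v => v.testBit 23 = true ∧ v.testBit 0 = false ∧ popc (8414120 &&& v) = k)
  intro w
  unfold supp
  rw [card_inter_support₂, mask_wordOf, combo_base]
  exact (and_congr (gpt_mem_support₂ w 23) (and_congr (gpt_not_mem_support₂ w 0) Iff.rfl))

theorem count_transfer {g0 : Equiv.Perm GolayPt} (hg0 : g0 ∈ M24) (k : ℕ) :
    {o' : Finset GolayPt | o' ∈ octads ∧ g0 (gpt 23) ∈ o' ∧ g0 (gpt 0) ∉ o' ∧ (g0 • supp 2073 ∩ o').card = k}.ncard =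
    {b : Finset GolayPt | b ∈ octads ∧ (gpt 23 ∈ b ∧ gpt 0 ∉ b ∧ (supp 2073 ∩ b).card = k)}.ncard := by
  apply ncard_family_smul' g0 octads (fun b hb => smul_mem_octads hg0 hb)
    (fun b hb => smul_mem_octads (inv_mem hg0) hb)
  intro b
  rw [card_inter_smul]
  exact (and_congr (Finset.smul_mem_smul_finset_iff g0) (and_congr (Finset.smul_mem_smul_finset_iff g0).not Iff.rfl))

theorem conj_gen {g0 : Equiv.Perm GolayPt} (hg0 : g0 ∈ M24) (o' o'' : Finset GolayPt)
    (ho' : o' ∈ octads) (ho'' : o'' ∈ octads)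
    (hF' : (fun b : Finset GolayPt => g0 (gpt 23) ∈ b ∧ g0 (gpt 0) ∉ b) o') (hF'' : (fun b : Finset GolayPt => g0 (gpt 23) ∈ b ∧ g0 (gpt 0) ∉ b) o'')
    (h : (g0 • supp 2073 ∩ o').card = (g0 • supp 2073 ∩ o'').card) :
    ∃ g : Equiv.Perm GolayPt, g ∈ M24 ∧ (∀ i ∈ ([23, 0] : List (Fin 24)), g (g0 (gpt i)) = g0 (gpt i)) ∧
      g • (g0 • supp 2073) = g0 • supp 2073 ∧ g • o' = o'' :=
  conf_conj 8 2073 [23, 0] hg0
    (fun m => (combo m).testBit 23 = true ∧ (combo m).testBit 0 = false) (fun b => g0 (gpt 23) ∈ b ∧ g0 (gpt 0) ∉ b)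
    (fun m hm => ⟨((smul_gpt_mem_smul_supp g0 m 23).1 hm.1), (by have := (smul_gpt_mem_smul_supp g0 m 0).not.1 hm.2; simpa using this)⟩) clsF hcls
    (fun m m' hm hm' h8 h8' hf hf' hc => base_conj m m' hm hm' ⟨h8, hf⟩ ⟨h8', hf'⟩ hc)
    o' o'' ho' ho'' hF' hF'' h

end P3

theorem supp_zero : supp 0 = ∅ := by
  rw [← Finset.card_eq_zero]
  unfold supp
  rw [card_support₂, mask_wordOf, combo_zero]
  decide

theorem two_trans (p q : GolayPt) (hpq : p ≠ q) :
    ∃ g0 ∈ M24, g0 (gpt 23) = p ∧ g0 (gpt 0) = q := by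
  haveI := M24_five_pretransitive
  haveI : MulAction.IsMultiplyPretransitive M24 GolayPt 2 :=
    MulAction.isMultiplyPretransitive_of_le (G := M24) (α := GolayPt) (m := 2) (n := 5) (by norm_num)
      (by rw [card_golayPt_nat]; norm_num)
  have h2 : ∀ {a b c d : GolayPt}, a ≠ b → c ≠ d → ∃ g : M24, g • a = c ∧ g • b = d :=
    MulAction.is_two_pretransitive_iff.1 this
  have hne : gpt 23 ≠ gpt 0 := by
    intro h
    exact absurd (gpt_bij.injective h) (by decide)
  obtain ⟨g, hg1, hg2⟩ := h2 hne hpq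
  exact ⟨g.1, g.2, hg1, hg2⟩

theorem fam_size_base :
    {b : Finset GolayPt | b ∈ octads ∧ (gpt 23 ∈ b ∧ gpt 0 ∉ b)}.ncard = 176 := by
  have h := P2.count_base 0
  rw [P2.cnt0] at h
  rw [← h]
  congr 1
  ext b
  constructor
  · rintro ⟨h1, h2, h3⟩
    refine ⟨h1, h2, h3, ?_⟩
    rw [supp_zero, Finset.empty_inter, Finset.card_empty]
  · rintro ⟨h1, h2, h3, _⟩
    exact ⟨h1, h2, h3⟩

theorem part2 {g0 : Equiv.Perm GolayPt} (hg0 : g0 ∈ M24) (o o' : Finset GolayPt)
    (ho : o ∈ octads ∧ g0 (gpt 23) ∈ o ∧ g0 (gpt 0) ∉ o)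
    (ho' : o' ∈ octads ∧ g0 (gpt 23) ∈ o' ∧ g0 (gpt 0) ∉ o') :
    ∃ g : Equiv.Perm GolayPt, g ∈ M24 ∧ g (g0 (gpt 23)) = g0 (gpt 23) ∧
      g (g0 (gpt 0)) = g0 (gpt 0) ∧ g • o = o' := by
  obtain ⟨g, hg, hpts, _, hgo⟩ := P2.conj_gen hg0 o o' ho.1 ho'.1 ho.2 ho'.2 (by
    rw [supp_zero, Finset.smul_finset_empty, Finset.empty_inter, Finset.empty_inter])
  exact ⟨g, hg, hpts 23 (by simp), hpts 0 (by simp), hgo⟩

theorem base_mem : supp 2073 ∈ octads ∧ gpt 23 ∈ supp 2073 ∧ gpt 0 ∉ supp 2073 := by
  refine ⟨?_, ?_, ?_⟩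
  · exact wordOf_mem_octads (by decide +kernel)
  · rw [gpt_mem_supp]; decide +kernel
  · rw [gpt_mem_supp]; decide +kernel

theorem flag3 (p q : GolayPt) (hpq : p ≠ q) (o : Finset GolayPt)
    (ho : o ∈ octads ∧ p ∈ o ∧ q ∉ o) :
    ∃ g0 ∈ M24, g0 (gpt 23) = p ∧ g0 (gpt 0) = q ∧ g0 • supp 2073 = o := by
  obtain ⟨g1, hg1, rfl, rfl⟩ := two_trans p q hpq
  have hb : g1 • supp 2073 ∈ octads ∧ g1 (gpt 23) ∈ g1 • supp 2073 ∧ g1 (gpt 0) ∉ g1 • supp 2073 := by
    refine ⟨smul_mem_octads hg1 base_mem.1, ?_, ?_⟩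
    · exact (Finset.smul_mem_smul_finset_iff g1).2 base_mem.2.1
    · exact (Finset.smul_mem_smul_finset_iff g1).not.2 base_mem.2.2
  obtain ⟨g, hg, h1, h2, h3⟩ := part2 hg1 _ o hb ho
  refine ⟨g * g1, mul_mem hg hg1, ?_, ?_, ?_⟩
  · rw [Equiv.Perm.mul_apply, h1]
  · rw [Equiv.Perm.mul_apply, h2]
  · rw [mul_smul, h3]


/-- The two-point stabiliser acts on the 176 octads through the first point avoiding the second with rank 3 and subdegrees 1, 70, 105 (intersections 8, 2, 4). -/
theorem result (p q : Cfsg.GolayPt) (hpq : p ≠ q) : {x : Finset Cfsg.GolayPt | (x ∈ Cfsg.octads ∧ p ∈ x ∧ q ∉ x)}.ncard = 176 ∧ (∀ o o' : Finset Cfsg.GolayPt, (o ∈ Cfsg.octads ∧ p ∈ o ∧ q ∉ o) → (o' ∈ Cfsg.octads ∧ p ∈ o' ∧ q ∉ o') → ∃ g : Equiv.Perm Cfsg.GolayPt, g ∈ Cfsg.M24 ∧ g p = p ∧ g q = q ∧ g • o = o') ∧ ∀ o : Finset Cfsg.GolayPt, (o ∈ Cfsg.octads ∧ p ∈ o ∧ q ∉ o) → {x : Finset Cfsg.GolayPt | (x ∈ Cfsg.octads ∧ p ∈ x ∧ q ∉ x) ∧ (o ∩ x).card = 2}.ncard = 70 ∧ {x : Finset Cfsg.GolayPt | (x ∈ Cfsg.octads ∧ p ∈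 x ∧ q ∉ x) ∧ (o ∩ x).card = 4}.ncard = 105 ∧ ∀ o' o'' : Finset Cfsg.GolayPt, (o' ∈ Cfsg.octads ∧ p ∈ o' ∧ q ∉ o') → (o'' ∈ Cfsg.octads ∧ p ∈ o'' ∧ q ∉ o'') → (o ∩ o').card = (o ∩ o'').card → ∃ g : Equiv.Perm Cfsg.GolayPt, g ∈ Cfsg.M24 ∧ g p = p ∧ g q = q ∧ g • o = o ∧ g • o' = o'' := by
  refine ⟨?_, ?_, ?_⟩
  · obtain ⟨g0, hg0, rfl, rfl⟩ := two_trans p q hpq
    rw [← fam_size_base]
    apply ncard_family_smul' g0 octads (fun b hb => smul_mem_octads hg0 hb)
      (fun b hb => smul_mem_octads (inv_mem hg0) hb)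
    intro b
    exact and_congr (Finset.smul_mem_smul_finset_iff g0) (Finset.smul_mem_smul_finset_iff g0).not
  · intro o o' ho ho'
    obtain ⟨g0, hg0, rfl, rfl⟩ := two_trans p q hpq
    exact part2 hg0 o o' ho ho'
  · intro o ho
    obtain ⟨g0, hg0, rfl, rfl, rfl⟩ := flag3 p q hpq o ho
    refine ⟨?_, ?_, ?_⟩
    · have h1 := P3.count_transfer hg0 2
      rw [P3.count_base, P3.cnt2] at h1
      rw [← h1]
      congr 1
      ext b
      simp only [Set.mem_ofPred_eq, and_assoc]
    · have h1 := P3.count_transfer hg0 4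
      rw [P3.count_base, P3.cnt4] at h1
      rw [← h1]
      congr 1
      ext b
      simp only [Set.mem_ofPred_eq, and_assoc]
    · intro o' o'' ho' ho'' h
      obtain ⟨g, hg, hpts, hgo, hgo'⟩ := P3.conj_gen hg0 o' o'' ho'.1 ho''.1 ho'.2 ho''.2 h
      exact ⟨g, hg, hpts 23 (by simp), hpts 0 (by simp), hgo, hgo'⟩

end Cfsg.Agent.S1605
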