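import Cfsg.Statements.S1607
import Mathlib
import Cfsg.Agent.Lib.Helper1.M24Flags

set_option autoImplicit false
open scoped Pointwise
open Cfsg

namespace Cfsg.Agent.S1607

open Cfsg.Agent.Lib.Helper1

def ws : List (List ℕ) := [[1, 2, 0, 0, 4, 0, 3, 3, 3, 3, 1, 4, 2, 1, 3], [1, 1, 2, 3, 0, 3, 0, 3, 0, 2, 1, 1, 4, 1, 3]]

def tl : List (Fin 24 → Fin 24) := [![17, 3, 0, 2, 18, 14, 22, 9, 4, 7, 12, 16, 15, 11, 1, 19, 6, 5, 10, 13, 8, 20, 21, 23], ![1, 5, 0, 3, 16, 17, 8, 4, 18, 9, 21, 20, 6, 19, 14, 11, 10, 2, 22, 15, 13, 7, 12, 23]]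

theorem tl_ok : ∀ l < tl.length, ∀ i : Fin 24, tl.getD l id i = evalT (ws.getD l []) i := by
  decide +kernel

theorem tl_fix : ∀ l < tl.length, pullMask (tl.getD l id) (combo 2503) = combo 2503 := by
  decide +kernel

theorem tl_pts : ∀ l < tl.length, ∀ i ∈ ([23] : List (Fin 24)), tl.getD l id i = i := by
  decide +kernel

theorem good : GoodTabs (stabKP 2503 [23]) (tabOf tl) :=
  goodTabs_stabKP _ _ ws tl tl_ok tl_fix tl_pts

def cert2_0 : List (ℕ × ℕ × ℕ) :=
  [(3332, 2098, 0), (2680, 2098, 1), (3737, 3332, 0), (2313, 3332, 1), (2148, 2680, 0), (3807, 2680, 1), (3130, 3737, 0), (2190, 2313, 0),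
    (2775, 2313, 1), (2448, 2148, 0), (4039, 2148, 1), (3754, 3807, 0), (2518, 3807, 1), (3979, 3130, 0), (2676, 3130, 1), (3199, 2190, 0),
    (3410, 2190, 1), (3109, 2775, 0), (2522, 2775, 1), (2501, 2448, 0), (2737, 2448, 1), (3254, 4039, 0), (3496, 3754, 0), (3285, 3754, 1),
    (2901, 2518, 0), (2819, 2518, 1), (2598, 3979, 0), (3010, 2676, 0), (2248, 2676, 1), (3621, 3199, 0), (4068, 3199, 1), (2573, 3410, 0),
    (2327, 3109, 0), (3148, 3109, 1), (2291, 2522, 0), (3348, 2522, 1), (3695, 2501, 0), (2860, 2501, 1), (2589, 2737, 0), (3318, 2737, 1),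
    (3164, 3254, 0), (3533, 3254, 1), (2534, 3496, 0), (2606, 3496, 1), (3836, 3285, 0), (2867, 3285, 1), (3469, 2901, 1), (2264, 2819, 0),
    (3928, 2598, 0), (2156, 2598, 1), (3823, 2248, 0), (3296, 2248, 1), (3393, 3621, 0), (3918, 3621, 1), (2848, 4068, 0), (2425, 4068, 1),
    (2918, 2573, 0), (3036, 2573, 1), (2692, 2327, 0), (4023, 3148, 0), (2909, 2291, 1), (2205, 3348, 0), (3191, 3695, 0), (2283, 3695, 1),
    (3304, 2860, 0), (3426, 2589, 0), (4049, 2589, 1), (2410, 3318, 0), (2959, 3318, 1), (2483, 3164, 0), (2553, 2534, 0), (2960, 2534, 1),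
    (3312, 2606, 0), (2912, 2606, 1), (2364, 3836, 0), (2209, 2867, 1), (2285, 2264, 1), (2651, 3928, 0), (3667, 3928, 1), (2616, 2156, 0),
    (3275, 2156, 1), (3078, 3823, 0), (2373, 3823, 1), (2162, 3296, 1), (3895, 3393, 0), (3225, 3393, 1), (3065, 3918, 0), (3502, 3918, 1),
    (3860, 2425, 0), (3550, 2918, 0), (3113, 2692, 0), (3713, 2909, 1), (3453, 2205, 1), (2942, 3304, 1), (2831, 2959, 0), (3941, 2553, 0)]

def cert2_1 : List (ℕ × ℕ × ℕ) :=
  [(3475, 2960, 0), (3788, 3312, 0), (3770, 2364, 0), (2454, 2364, 1), (2127, 2209, 0), (2988, 2285, 1), (4082, 2651, 0), (3683, 2651, 1),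
    (3614, 2373, 0), (2690, 2373, 1), (3648, 3502, 0), (3590, 3860, 1), (3645, 3453, 0), (3963, 3614, 0), (2119, 2690, 1)]

def cert2 : List (ℕ × ℕ × ℕ) :=
  cert2_0 ++ cert2_1

def fin2 : ℕ := 63748329222010310302672956382087793563959058786213997780839828665813450119957630319775952930881727352302529358951604499417390014346537061159542287455195908266678408637169520746824543058664466932109118633443691221179169824383721729517515240048935114073828872880623896690005248875716151987436764709522804194854307655808739502091358486821040294279573112787371033991042733140974132418002810737526531961719918551422590824499582692040445871734364670594604640862775902779537838649590155851139802365013960964823151220314696242136089607297348592545512058025169259167850671402044623006372885595382716779644542753870377477347644245788721977207952218679538258537843793355161216580200698431069518948290047554599312772268443332839650416679781758874016206145244065821120164133781827872454706963728698416548315198843197174413328522110097867503253561031141760230028880660404142660861035473123120111407190042498767981344218367621770795279320275149662066156943123398466073062537473979182970164270337929864215978654060052644580115773039519541716498973880515625648535742189634340074115598358265041620360695448122851647228030250806759997150033825861995501353724257303577732757929587013175837774296328572327807353566583933628691399355819541079089217536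

theorem fold2 : cert2.foldl (stepCertT (tabOf tl)) (some (1 <<< 2098)) = some fin2 := by
  decide +kernel

def cert4_0 : List (ℕ × ℕ × ℕ) :=
  [(2362, 2073, 0), (2504, 2073, 1), (2332, 2362, 0), (3686, 2362, 1), (2399, 2504, 0), (3058, 2504, 1), (2578, 2332, 0), (3336, 2332, 1),
    (2889, 3686, 0), (3374, 3686, 1), (3098, 2399, 0), (3944, 2399, 1), (2981, 3058, 0), (2436, 3058, 1), (3578, 2578, 0), (3556, 2578, 1),
    (3391, 3336, 0), (3870, 3336, 1), (2542, 2889, 0), (3991, 2889, 1), (3633, 3374, 0), (3184, 3374, 1), (2851, 3098, 0), (3818, 3098, 1),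
    (2295, 3944, 0), (3776, 3944, 1), (2983, 2981, 0), (2802, 2981, 1), (4047, 2436, 0), (3452, 3578, 0), (2698, 3578, 1), (3958, 3556, 0),
    (2683, 3556, 1), (3235, 3391, 0), (3764, 3391, 1), (2251, 3870, 0), (4065, 3870, 1), (2641, 2542, 0), (2204, 2542, 1), (3972, 3991, 0),
    (2954, 3991, 1), (2891, 3633, 0), (3672, 3633, 1), (3773, 3184, 0), (3537, 3184, 1), (3244, 2851, 1), (2206, 3818, 0), (2711, 3818, 1),
    (3291, 2295, 0), (3654, 2295, 1), (2102, 3776, 0), (4078, 3776, 1), (3087, 2983, 0), (3093, 2802, 0), (3734, 2802, 1), (2761, 4047, 1),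
    (2731, 3452, 0), (3284, 3452, 1), (2087, 2698, 0), (2813, 3958, 0), (2906, 2683, 0), (4002, 3764, 0), (3108, 3764, 1), (2242, 2251, 1),
    (4024, 4065, 0), (3539, 2204, 0), (2996, 2204, 1), (2750, 3972, 0), (3161, 2954, 1), (3563, 3672, 0), (2369, 3672, 1), (2529, 3773, 1),
    (2370, 3537, 0), (2323, 2711, 0), (3992, 2711, 1), (2480, 3654, 1), (3338, 2102, 0), (3939, 2102, 1), (3872, 4078, 0), (2495, 3087, 0),
    (2357, 3087, 1), (3003, 3093, 0), (3295, 3093, 1), (3234, 3734, 0), (3631, 2761, 0), (2347, 2761, 1), (2666, 3284, 0), (3495, 2087, 1),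
    (3213, 2813, 0), (3457, 3108, 0), (2693, 3108, 1), (2799, 2242, 0), (3335, 2242, 1), (3361, 4024, 1), (3025, 3539, 1), (3779, 2750, 1)]

def cert4_1 : List (ℕ × ℕ × ℕ) :=
  [(3371, 3161, 0), (3210, 3161, 1), (2126, 3563, 1), (3600, 2369, 0), (3993, 2369, 1), (2729, 2529, 1), (3901, 2323, 1), (3868, 3992, 0),
    (3437, 2480, 0), (3573, 3338, 1), (2145, 3939, 0), (3689, 3872, 0), (2958, 3872, 1), (3155, 2357, 1), (2477, 3003, 0), (2563, 3003, 1),
    (2812, 3295, 0), (2772, 3295, 1), (2646, 3234, 0), (3753, 3631, 1), (2105, 2666, 1), (2430, 3495, 0), (2075, 3495, 1), (2672, 3213, 1),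
    (2933, 3457, 1), (2239, 2693, 0), (2629, 2799, 1), (3653, 3361, 1), (3123, 3025, 0), (2360, 3025, 1), (2824, 3779, 0), (3020, 3779, 1),
    (3414, 3210, 0), (4017, 2729, 0), (3063, 2729, 1), (3933, 3901, 0), (3867, 3689, 1), (3576, 2772, 1), (3474, 2105, 0), (3730, 2075, 0),
    (2276, 2933, 0), (2229, 3123, 0), (3914, 3474, 0)]

def cert4 : List (ℕ × ℕ × ℕ) :=
  cert4_0 ++ cert4_1

def fin4 : ℕ := 39845137435020815469999986769993160159196750652891715791331768764489584302847584852271062400279380217646349950700995319118322752698975393012611418954744266864024234802742086214404331035043329070137944952782769797303897441089756852928936434320389448423902753148199627984059413751160756097735884216258705278346533504567344914963595885062599709582766572857263362520551163872370220260970050641575477470304757442385310033480932292424313698201518217092663558184114839029343583397593224087625019780450582183061623513351735765535611169550144935248241942645783105718435414688990860401614684539289040681971903941499865585626571197336501988199344599730781327367136462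61036252802528843412271189409687337521983171118909564924993852286306884794669319494974405744847773290271679137300943509026555012708545581669499779164337596535025028378681441071130743261150357505766249201845945284938795282175304971144687833195330438987810734469417306623952910870536430119444758119048291476399997531938075738302378833110237954120414411764268989395665464119313573008857535264253577094439897957701995143177872507701872921450100467783238112905517560149395955310386646795021596839745624594876123605091317759413433823637561129169970773704489846255167180162203648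

theorem fold4 : cert4.foldl (stepCertT (tabOf tl)) (some (1 <<< 2073)) = some fin4 := by
  decide +kernel

def cert8_0 : List (ℕ × ℕ × ℕ) :=
  []

def cert8 : List (ℕ × ℕ × ℕ) :=
  cert8_0

def fin8 : ℕ := 3006624187638409629466899351779092038941892414074069416452190718257853451986701668285861806021270754669619661996208462082473823130812942125215258487750241891717552346529892497173795331828729054660749832889772641444253993862220124639759192601137711752943959018750416395372999635217716235126253180506716280198180679212861334903860543348982797089281671018926679601310321508184209979524059123056257511139088879246957654025145951369587857696603552179466932438294852475117516685105012659017792301773617919931531728209486021212023491778247288148002563003970693999612556172334803533983406752530362237374980842286340421281045616383985746677994850573419756237460414126866140021727152063101818000566242802103619017712230738379890108783038337410705767460955916075008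

theorem fold8 : cert8.foldl (stepCertT (tabOf tl)) (some (1 <<< 2503)) = some fin8 := by
  decide +kernel

def finF : ℕ → ℕ
  | 2 => fin2
  | 4 => fin4
  | 8 => fin8
  | _ => 0

def rootF : ℕ → ℕ
  | 2 => 2098
  | 4 => 2073
  | 8 => 2503
  | _ => 0

def clsF (m : ℕ) : ℕ := popc (8536111 &&& combo m)

def famF (m : ℕ) : Prop := popc (combo m) = 8 ∧ (combo m).testBit 23 = true

instance : DecidablePred famF := fun m => by unfold famF; infer_instance

theorem combo_base : combo 2503 = 8536111 := by decide +kernel

theorem hreach : ∀ k m, (finF k).testBit m = true → ReachK (stabKP 2503 [23]) (rootF k) m := by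
  intro k m h
  unfold finF at h
  unfold rootF
  split at h
  · exact certT_sound' good _ cert2 fin2 fold2 m h
  · exact certT_sound' good _ cert4 fin4 fold4 m h
  · exact certT_sound' good _ cert8 fin8 fold8 m h
  · simp at h

def coverOK (m : ℕ) : Prop := famF m → (finF (clsF m)).testBit m = true

instance : DecidablePred coverOK := fun m => by unfold coverOK; infer_instance

theorem cover : ∀ a < 64, ∀ b < 64, coverOK (64 * a + b) := by
  decide +kernel

theorem hcover : ∀ m < 4096, famF m → (finF (clsF m)).testBit m = true := by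
  intro m hm
  have := cover (m / 64) (by omega) (m % 64) (Nat.mod_lt _ (by norm_num))
  rw [Nat.div_add_mod] at this
  exact this

theorem hcls (m : ℕ) : (supp 2503 ∩ supp m).card = clsF m := by
  rw [card_inter_supp', combo_base]
  rfl

theorem base_conj : ∀ m m' : ℕ, m < 4096 → m' < 4096 → famF m → famF m' →
    clsF m = clsF m' → ∃ g ∈ stabKP 2503 [23], g • supp m = supp m' :=
  fun m m' hm hm' hf hf' h => conj_of_certs' famF clsF rootF finF hreach hcover hm hm' hf hf' h

theorem cnt2 : (Finset.univ.filter (fun m : Fin 4096 => popc (combo m.val) = 8 ∧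
    ((combo m.val).testBit 23 = true ∧ popc (8536111 &&& combo m.val) = 2))).card = 112 := by
  decide +kernel

theorem cnt4 : (Finset.univ.filter (fun m : Fin 4096 => popc (combo m.val) = 8 ∧
    ((combo m.val).testBit 23 = true ∧ popc (8536111 &&& combo m.val) = 4))).card = 140 := by
  decide +kernel

theorem gpt_mem_support₂ (w : GolayPt → ZMod 2) (i : Fin 24) :
    gpt i ∈ support₂ w ↔ (mask w).testBit i = true := by
  rw [mem_support₂_iff, mask_testBit, decide_eq_true_iff]

theorem count_base (k : ℕ) :
    {b : Finset GolayPt | b ∈ octads ∧ (gpt 23 ∈ b ∧ (supp 2503 ∩ b).card = k)}.ncard =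
      (Finset.univ.filter (fun m : Fin 4096 => popc (combo m.val) = 8 ∧
        ((combo m.val).testBit 23 = true ∧ popc (8536111 &&& combo m.val) = k))).card := by
  apply ncard_wow_pred 8 (fun b => gpt 23 ∈ b ∧ (supp 2503 ∩ b).card = k)
    (fun v => v.testBit 23 = true ∧ popc (8536111 &&& v) = k)
  intro w
  unfold supp
  rw [card_inter_support₂, mask_wordOf, combo_base]
  exact and_congr (gpt_mem_support₂ w 23) Iff.rfl

theorem count_transfer {g0 : Equiv.Perm GolayPt} (hg0 : g0 ∈ M24) (k : ℕ) :
    {o' : Finset GolayPt | o' ∈ octads ∧ g0 (gpt 23) ∈ o' ∧ (g0 • supp 2503 ∩ o').card = k}.ncard =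
    {b : Finset GolayPt | b ∈ octads ∧ (gpt 23 ∈ b ∧ (supp 2503 ∩ b).card = k)}.ncard := by
  apply ncard_family_smul' g0 octads (fun b hb => smul_mem_octads hg0 hb)
    (fun b hb => smul_mem_octads (inv_mem hg0) hb)
  intro b
  rw [card_inter_smul]
  exact and_congr (Finset.smul_mem_smul_finset_iff g0) Iff.rfl


/-- The point stabiliser acts on the 253 heptads of its S(4, 7, 23) with rank 3 and subdegrees 1, 112, 140 (intersections 8, 2, 4). -/
theorem result (x : Cfsg.GolayPt) (o : Finset Cfsg.GolayPt) (ho : o ∈ Cfsg.octads) (hx : x ∈ o) : {o' : Finset Cfsg.GolayPt | o' ∈ Cfsg.octads ∧ x ∈ o' ∧ (o ∩ o').card = 2}.ncard = 112 ∧ {o' : Finset Cfsg.GolayPt | o' ∈ Cfsg.octads ∧ x ∈ o' ∧ (o ∩ o').card = 4}.ncard = 140 ∧ ∀ o' o'' : Finset Cfsg.GolayPt, o' ∈ Cfsg.octads → o'' ∈ Cfsg.octads → x ∈ o' → x ∈ o'' → (o ∩ o').card = (o ∩ o'').card → ∃ g : Equiv.Perm Cfsg.GolayPt, g ∈ Cfsg.M24 ∧ g x = x ∧ g • o = o ∧ g • o' = o'' := by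
  obtain ⟨g0, hg0, rfl, rfl⟩ := flag_oct_in o ho x hx
  refine ⟨?_, ?_, ?_⟩
  · rw [count_transfer hg0, count_base]; exact cnt2
  · rw [count_transfer hg0, count_base]; exact cnt4
  · intro o' o'' ho' ho'' hx' hx'' h
    obtain ⟨g, hg, hpts, hgo, hgo'⟩ := conf_conj 8 2503 [23] hg0
      (fun m => (combo m).testBit 23 = true) (fun b => g0 (gpt 23) ∈ b)
      (fun m hm => (smul_gpt_mem_smul_supp g0 m 23).1 hm) clsF hcls
      (fun m m' hm hm' h8 h8' hf hf' hc => base_conj m m' hm hm' ⟨h8, hf⟩ ⟨h8', hf'⟩ hc)
      o' o'' ho' ho'' hx' hx'' h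
    exact ⟨g, hg, hpts 23 (List.mem_singleton.2 rfl), hgo, hgo'⟩

end Cfsg.Agent.S1607
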