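import Cfsg.Statements.S1610
import Mathlib

set_option autoImplicit false
open Cfsg

namespace Cfsg.Agent.S1610


/-- the model of the field with four elements: `(a, b)` stands for `a + b ω` -/
abbrev M4 := ZMod 2 × ZMod 2

/-- multiplication in the model -/
def mmul (x y : M4) : M4 := (x.1 * y.1 + x.2 * y.2, x.1 * y.2 + x.2 * y.1 + x.2 * y.2)

/-- the three spanning words in the model -/
def w1 : Fin 6 → M4 := ![(0, 1), (1, 1), (1, 1), (0, 1), (1, 1), (0, 1)]
def w2 : Fin 6 → M4 := ![(1, 1), (0, 1), (0, 1), (1, 1), (1, 1), (0, 1)]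
def w3 : Fin 6 → M4 := ![(1, 1), (0, 1), (1, 1), (0, 1), (0, 1), (1, 1)]

/-- the words in the model -/
def mword (t : M4 × M4 × M4) : Fin 6 → M4 :=
  fun i => mmul t.1 (w1 i) + mmul t.2.1 (w2 i) + mmul t.2.2 (w3 i)

/-- weights in the model -/
def mwt (t : M4 × M4 × M4) : ℕ := (Finset.univ.filter fun i => mword t i ≠ 0).card

theorem mword_inj : ∀ t t' : M4 × M4 × M4, mword t = mword t' → t = t' := by decide +kernel

theorem mword_zero : mword 0 = 0 := by decide +kernel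

theorem mwt_vals : ∀ t : M4 × M4 × M4, t ≠ 0 → mwt t = 4 ∨ mwt t = 6 := by decide +kernel

theorem count4 : (Finset.univ.filter fun t : M4 × M4 × M4 => mwt t = 4).card = 45 := by
  decide +kernel

theorem count6 : (Finset.univ.filter fun t : M4 × M4 × M4 => mwt t = 6).card = 18 := by
  decide +kernel

theorem m4_add_self : ∀ x y : M4, x + y = 0 → x = y := by decide +kernel

section field

variable {F : Type*} [Field F]

/-- the two elements of the prime field -/
def cc (a : ZMod 2) : F := if a = 0 then 0 else 1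

/-- evaluation of the model -/
def ev (ω : F) (x : M4) : F := cc x.1 + cc x.2 * ω

theorem zcases : ∀ a : ZMod 2, a = 0 ∨ a = 1 := by decide

theorem cc_zero : (cc (0 : ZMod 2) : F) = 0 := if_pos rfl

theorem cc_one : (cc (1 : ZMod 2) : F) = 1 := if_neg (by decide)

theorem cc_add (h2 : (2 : F) = 0) (a b : ZMod 2) : (cc (a + b) : F) = cc a + cc b := by
  have h11 : (1 : F) + 1 = 0 := by rw [one_add_one_eq_two, h2]
  have e11 : ((1 : ZMod 2) + 1) = 0 := by decide
  rcases zcases a with rfl | rfl <;> rcases zcases b with rfl | rfl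
  · rw [add_zero, cc_zero, add_zero]
  · rw [zero_add, cc_zero, zero_add]
  · rw [add_zero, cc_zero, add_zero]
  · rw [e11, cc_zero, cc_one, h11]

theorem cc_mul (a b : ZMod 2) : (cc (a * b) : F) = cc a * cc b := by
  rcases zcases a with rfl | rfl <;> rcases zcases b with rfl | rfl
  · rw [mul_zero, cc_zero, mul_zero]
  · rw [zero_mul, cc_zero, zero_mul]
  · rw [mul_zero, cc_zero, mul_zero]
  · rw [mul_one, cc_one, mul_one]

theorem cc_eq_zero (a : ZMod 2) : (cc a : F) = 0 ↔ a = 0 := by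
  rcases zcases a with rfl | rfl
  · rw [cc_zero]
    exact ⟨fun _ => rfl, fun _ => rfl⟩
  · rw [cc_one]
    exact ⟨fun h => absurd h one_ne_zero, fun h => absurd h (by decide)⟩

theorem ev_add (h2 : (2 : F) = 0) (ω : F) (x y : M4) : ev ω (x + y) = ev ω x + ev ω y := by
  unfold ev
  rw [Prod.fst_add, Prod.snd_add, cc_add h2, cc_add h2]
  ring

theorem ev_mul (h2 : (2 : F) = 0) (ω : F) (hω : ω ^ 2 + ω + 1 = 0) (x y : M4) :
    ev ω (mmul x y) = ev ω x * ev ω y := by
  unfold ev mmul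
  simp only [cc_add h2, cc_mul]
  linear_combination (-(cc x.2 * cc y.2 : F)) * hω + (cc x.2 * cc y.2 * (ω + 1) : F) * h2

theorem ev_zero (ω : F) : ev ω 0 = 0 := by
  show cc (0 : ZMod 2) + cc (0 : ZMod 2) * ω = 0
  rw [cc_zero, zero_mul, add_zero]

theorem omega_ne (h2 : (2 : F) = 0) (ω : F) (hω : ω ^ 2 + ω + 1 = 0) : ω ≠ 0 ∧ 1 + ω ≠ 0 := by
  constructor
  · intro h
    rw [h] at hω
    simp at hω
  · intro h
    have h3 : ω = -1 := by linear_combination h
    rw [h3] at hω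
    have : (1 : F) = 0 := by linear_combination hω
    exact one_ne_zero this

theorem ev_eq_zero (h2 : (2 : F) = 0) (ω : F) (hω : ω ^ 2 + ω + 1 = 0) (x : M4) :
    ev ω x = 0 ↔ x = 0 := by
  obtain ⟨hw0, hw1⟩ := omega_ne h2 ω hω
  obtain ⟨a, b⟩ := x
  have n10 : (1 : ZMod 2) ≠ 0 := by decide
  unfold ev
  rcases zcases a with rfl | rfl <;> rcases zcases b with rfl | rfl
  · simp only [cc_zero, zero_mul, add_zero]
    exact ⟨fun _ => rfl, fun _ => trivial⟩
  · simp only [cc_zero, cc_one, one_mul, zero_add]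
    exact ⟨fun h => absurd h hw0, fun h => absurd (congrArg Prod.snd h) n10⟩
  · simp only [cc_zero, cc_one, zero_mul, add_zero]
    exact ⟨fun h => absurd h one_ne_zero, fun h => absurd (congrArg Prod.fst h) n10⟩
  · simp only [cc_one, one_mul]
    exact ⟨fun h => absurd h hw1, fun h => absurd (congrArg Prod.fst h) n10⟩

theorem ev_injective (h2 : (2 : F) = 0) (ω : F) (hω : ω ^ 2 + ω + 1 = 0) :
    Function.Injective (ev ω) := by
  intro x y h
  apply m4_add_self
  rw [← ev_eq_zero h2 ω hω, ev_add h2, h]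
  have : ev ω y + ev ω y = 2 * ev ω y := by ring
  rw [this, h2, zero_mul]

theorem two_eq_zero [Fintype F] (hF : Fintype.card F = 4) : (2 : F) = 0 := by
  have h4 : ((Fintype.card F : ℕ) : F) = 0 := Nat.cast_card_eq_zero F
  rw [hF] at h4
  have h : (2 : F) * 2 = 0 := by
    have e : ((4 : ℕ) : F) = 2 * 2 := by norm_num
    rw [← e]
    exact h4
  exact mul_self_eq_zero.1 h

theorem ev_bijective [Fintype F] (hF : Fintype.card F = 4) (ω : F) (hω : ω ^ 2 + ω + 1 = 0) :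
    Function.Bijective (ev ω) := by
  rw [Fintype.bijective_iff_injective_and_card]
  refine ⟨ev_injective (two_eq_zero hF) ω hω, ?_⟩
  rw [hF]
  decide

/-- the words over the field -/
def W (ω : F) (t : M4 × M4 × M4) : Fin 6 → F := fun i => ev ω (mword t i)

theorem ev_w (h2 : (2 : F) = 0) (ω : F) (hω : ω ^ 2 + ω + 1 = 0) :
    (![ω, ω ^ 2, ω ^ 2, ω, ω ^ 2, ω] = fun i => ev ω (w1 i)) ∧
    (![ω ^ 2, ω, ω, ω ^ 2, ω ^ 2, ω] = fun i => ev ω (w2 i)) ∧
    (![ω ^ 2, ω, ω ^ 2, ω, ω, ω ^ 2] = fun i => ev ω (w3 i)) := by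
  have e1 : ev ω (0, 1) = ω := by
    show cc (0 : ZMod 2) + cc (1 : ZMod 2) * ω = ω
    rw [cc_zero, cc_one, one_mul, zero_add]
  have e2 : ev ω (1, 1) = ω ^ 2 := by
    show cc (1 : ZMod 2) + cc (1 : ZMod 2) * ω = ω ^ 2
    rw [cc_one, one_mul]
    linear_combination (-1 : F) * hω + (ω + 1) * h2
  refine ⟨?_, ?_, ?_⟩ <;>
  · funext i
    fin_cases i <;> simp [w1, w2, w3, e1, e2]

theorem W_eq (h2 : (2 : F) = 0) (ω : F) (hω : ω ^ 2 + ω + 1 = 0) (t : M4 × M4 × M4) :
    W ω t = ev ω t.1 • ![ω, ω ^ 2, ω ^ 2, ω, ω ^ 2, ω] + ev ω t.2.1 • ![ω ^ 2, ω, ω, ω ^ 2, ω ^ 2, ω] +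
      ev ω t.2.2 • ![ω ^ 2, ω, ω ^ 2, ω, ω, ω ^ 2] := by
  obtain ⟨h1, h2', h3⟩ := ev_w h2 ω hω
  rw [h1, h2', h3]
  funext i
  simp only [W, mword, Pi.add_apply, Pi.smul_apply, smul_eq_mul, ev_add h2, ev_mul h2 ω hω]

theorem mem_hex [Fintype F] (hF : Fintype.card F = 4) (ω : F) (hω : ω ^ 2 + ω + 1 = 0)
    (x : Fin 6 → F) : x ∈ Cfsg.hexacode F ω ↔ ∃ t, W ω t = x := by
  have h2 := two_eq_zero hF
  unfold Cfsg.hexacode
  rw [Submodule.mem_span_triple]
  constructor
  · rintro ⟨a, b, c, rfl⟩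
    obtain ⟨ta, rfl⟩ := (ev_bijective hF ω hω).2 a
    obtain ⟨tb, rfl⟩ := (ev_bijective hF ω hω).2 b
    obtain ⟨tc, rfl⟩ := (ev_bijective hF ω hω).2 c
    exact ⟨(ta, tb, tc), W_eq h2 ω hω _⟩
  · rintro ⟨t, rfl⟩
    exact ⟨_, _, _, (W_eq h2 ω hω t).symm⟩

theorem W_injective (h2 : (2 : F) = 0) (ω : F) (hω : ω ^ 2 + ω + 1 = 0) :
    Function.Injective (W ω) := by
  intro t t' h
  apply mword_inj
  funext i
  exact ev_injective h2 ω hω (congrFun h i)

theorem wt_W [DecidableEq F] (h2 : (2 : F) = 0) (ω : F) (hω : ω ^ 2 + ω + 1 = 0)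
    (t : M4 × M4 × M4) : (Finset.univ.filter fun i => W ω t i ≠ 0).card = mwt t := by
  unfold mwt
  congr 1
  ext i
  simp only [Finset.mem_filter, Finset.mem_univ, true_and, W, ne_eq, ev_eq_zero h2 ω hω]

theorem count_wt [Fintype F] [DecidableEq F] (hF : Fintype.card F = 4) (ω : F)
    (hω : ω ^ 2 + ω + 1 = 0) (k n : ℕ)
    (hk : (Finset.univ.filter fun t : M4 × M4 × M4 => mwt t = k).card = n) :
    {x : Fin 6 → F | x ∈ Cfsg.hexacode F ω ∧ (Finset.univ.filter fun i => x i ≠ 0).card = k}.ncard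
      = n := by
  have h2 := two_eq_zero hF
  have h1 : {x : Fin 6 → F | x ∈ Cfsg.hexacode F ω ∧
      (Finset.univ.filter fun i => x i ≠ 0).card = k} =
      W ω '' ((Finset.univ.filter fun t : M4 × M4 × M4 => mwt t = k : Finset _) : Set _) := by
    ext x
    constructor
    · rintro ⟨hx, hw⟩
      obtain ⟨t, rfl⟩ := (mem_hex hF ω hω x).1 hx
      rw [wt_W h2 ω hω] at hw
      exact ⟨t, by simpa using hw, rfl⟩
    · rintro ⟨t, ht, rfl⟩
      refine ⟨(mem_hex hF ω hω _).2 ⟨t, rfl⟩, ?_⟩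
      rw [wt_W h2 ω hω]
      simpa using ht
  rw [h1, Set.ncard_image_of_injective _ (W_injective h2 ω hω), Set.ncard_coe_finset, hk]

end field


/-- The hexacode has 64 words, minimum weight 4, and weight distribution 0^1 4^45 6^18. -/
theorem result (F : Type*) [Field F] [Fintype F] [DecidableEq F] (hF : Fintype.card F = 4) (ω : F) (hω : ω ^ 2 + ω + 1 = 0) : Nat.card ↥(Cfsg.hexacode F ω) = 64 ∧ (∀ x ∈ Cfsg.hexacode F ω, x ≠ 0 → (Finset.univ.filter fun i => x i ≠ 0).card = 4 ∨ (Finset.univ.filter fun i => x i ≠ 0).card = 6) ∧ {x : Fin 6 → F | x ∈ Cfsg.hexacode F ω ∧ (Finset.univ.filter fun i => x i ≠ 0).card = 4}.ncard = 45 ∧ {x : Fin 6 → F | x ∈ Cfsg.hexacode F ω ∧ (Finset.univ.filter fun i => x i ≠ 0).card = 6}.ncard = 18 := by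
  have h2 := two_eq_zero hF
  refine ⟨?_, ?_, count_wt hF ω hω 4 45 count4, count_wt hF ω hω 6 18 count6⟩
  · have h1 : ((Cfsg.hexacode F ω : Submodule F (Fin 6 → F)) : Set (Fin 6 → F)) =
        Set.range (W ω) := by
      ext x
      exact mem_hex hF ω hω x
    have h3 : Nat.card ↥(Cfsg.hexacode F ω) =
        ((Cfsg.hexacode F ω : Submodule F (Fin 6 → F)) : Set (Fin 6 → F)).ncard := rfl
    rw [h3, h1, ← Set.image_univ, Set.ncard_image_of_injective _ (W_injective h2 ω hω),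
      Set.ncard_univ, Nat.card_eq_fintype_card]
    decide
  · intro x hx hne
    obtain ⟨t, rfl⟩ := (mem_hex hF ω hω x).1 hx
    rw [wt_W h2 ω hω]
    apply mwt_vals
    rintro rfl
    apply hne
    funext i
    show ev ω (mword 0 i) = 0
    rw [mword_zero]
    exact ev_zero ω

end Cfsg.Agent.S1610
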