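import Cfsg.Statements.S1611
import Cfsg.Agent.S1610
import Mathlib

set_option autoImplicit false
open Cfsg

namespace Cfsg.Agent.S1611

open Cfsg.Agent.S1610

/-- the three nonzero elements of the model of the field with four elements -/
def uu : Fin 3 → M4 := ![(1, 0), (0, 1), (1, 1)]

/-- the three spanning words of the model -/
def wb : Fin 3 → Fin 6 → M4 := ![w1, w2, w3]

/-- the coefficient vectors of the three spanning words -/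
def eb : Fin 3 → M4 × M4 × M4 := ![((1, 0), 0, 0), (0, (1, 0), 0), (0, 0, (1, 0))]

/-- the monomial map in the model -/
def mmono (σ : Equiv.Perm (Fin 6)) (d : Fin 6 → Fin 3) (y : Fin 6 → M4) : Fin 6 → M4 :=
  fun i => mmul (uu (d i)) (y (σ.symm i))

/-- validity in the model, tested on the three spanning words -/
def mvalidB (σ : Equiv.Perm (Fin 6)) (d : Fin 6 → Fin 3) : Prop :=
  ∀ k : Fin 3, ∃ t' : M4 × M4 × M4, mword t' = mmono σ d (wb k)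

instance instDecMvalidB (σ : Equiv.Perm (Fin 6)) (d : Fin 6 → Fin 3) : Decidable (mvalidB σ d) := by
  unfold mvalidB
  infer_instance

theorem mword_eb : ∀ k, mword (eb k) = wb k := by decide +kernel

theorem uu_ne : ∀ k, uu k ≠ 0 := by decide

theorem uu_surj : ∀ x : M4, x ≠ 0 → ∃ k, uu k = x := by decide

theorem M1 : ∀ d0 d1 d2 d3 d4 d5 : Fin 3, mvalidB 1 ![d0, d1, d2, d3, d4, d5] →
    d0 = d1 ∧ d0 = d2 ∧ d0 = d3 ∧ d0 = d4 ∧ d0 = d5 := by decide +kernel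

theorem M3 : ∀ d0 d1 d2 d3 d4 d5 : Fin 3,
    ¬ mvalidB (Equiv.swap 0 1) ![d0, d1, d2, d3, d4, d5] := by decide +kernel

/-- the table of diagonal parts for the three-cycles -/
def dtab : List (Fin 6 → Fin 3) := [
  ![0, 0, 0, 0, 0, 0], ![0, 0, 0, 0, 0, 0], ![0, 0, 0, 0, 0, 0], ![0, 0, 0, 0, 0, 0], ![0, 0, 0, 0, 0, 0], ![0, 0, 0, 0, 0, 0],
  ![0, 0, 0, 0, 0, 0], ![0, 0, 0, 0, 0, 0], ![0, 0, 0, 0, 2, 1], ![0, 0, 0, 0, 1, 2], ![0, 0, 2, 1, 0, 0], ![0, 0, 1, 2, 0, 0],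
  ![0, 0, 0, 0, 0, 0], ![0, 0, 0, 0, 1, 2], ![0, 0, 0, 0, 0, 0], ![0, 0, 0, 0, 2, 1], ![0, 2, 1, 0, 2, 1], ![0, 1, 2, 0, 2, 1],
  ![0, 0, 0, 0, 0, 0], ![0, 0, 0, 0, 2, 1], ![0, 0, 0, 0, 1, 2], ![0, 0, 0, 0, 0, 0], ![0, 1, 0, 2, 1, 2], ![0, 2, 0, 1, 1, 2],
  ![0, 0, 0, 0, 0, 0], ![0, 0, 1, 2, 0, 0], ![0, 2, 2, 1, 1, 0], ![0, 1, 2, 1, 2, 0], ![0, 0, 0, 0, 0, 0], ![0, 0, 2, 1, 0, 0],
  ![0, 0, 0, 0, 0, 0], ![0, 0, 2, 1, 0, 0], ![0, 1, 1, 2, 0, 2], ![0, 2, 1, 2, 0, 1], ![0, 0, 1, 2, 0, 0], ![0, 0, 0, 0, 0, 0],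
  ![0, 0, 0, 0, 0, 0], ![0, 0, 0, 0, 0, 0], ![0, 0, 0, 0, 1, 2], ![0, 0, 0, 0, 2, 1], ![0, 0, 1, 2, 0, 0], ![0, 0, 2, 1, 0, 0],
  ![0, 0, 0, 0, 0, 0], ![0, 0, 0, 0, 0, 0], ![0, 0, 0, 0, 0, 0], ![0, 0, 0, 0, 0, 0], ![0, 0, 0, 0, 0, 0], ![0, 0, 0, 0, 0, 0],
  ![0, 0, 0, 0, 2, 1], ![0, 0, 0, 0, 0, 0], ![0, 0, 0, 0, 0, 0], ![0, 0, 0, 0, 1, 2], ![0, 2, 1, 2, 0, 1], ![0, 1, 2, 1, 2, 0],
  ![0, 0, 0, 0, 1, 2], ![0, 0, 0, 0, 0, 0], ![0, 0, 0, 0, 2, 1], ![0, 0, 0, 0, 0, 0], ![0, 1, 1, 2, 0, 2], ![0, 2, 2, 1, 1, 0],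
  ![0, 0, 2, 1, 0, 0], ![0, 0, 0, 0, 0, 0], ![0, 2, 0, 1, 1, 2], ![0, 1, 2, 0, 2, 1], ![0, 0, 0, 0, 0, 0], ![0, 0, 1, 2, 0, 0],
  ![0, 0, 1, 2, 0, 0], ![0, 0, 0, 0, 0, 0], ![0, 1, 0, 2, 1, 2], ![0, 2, 1, 0, 2, 1], ![0, 0, 2, 1, 0, 0], ![0, 0, 0, 0, 0, 0],
  ![0, 0, 0, 0, 0, 0], ![0, 0, 0, 0, 2, 1], ![0, 0, 0, 0, 0, 0], ![0, 0, 0, 0, 1, 2], ![0, 2, 2, 1, 1, 0], ![0, 1, 1, 2, 0, 2],
  ![0, 0, 0, 0, 1, 2], ![0, 0, 0, 0, 0, 0], ![0, 0, 0, 0, 0, 0], ![0, 0, 0, 0, 2, 1], ![0, 2, 0, 1, 1, 2], ![0, 1, 0, 2, 1, 2],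
  ![0, 0, 0, 0, 0, 0], ![0, 0, 0, 0, 0, 0], ![0, 0, 0, 0, 0, 0], ![0, 0, 0, 0, 0, 0], ![0, 0, 0, 0, 0, 0], ![0, 0, 0, 0, 0, 0],
  ![0, 0, 0, 0, 2, 1], ![0, 0, 0, 0, 1, 2], ![0, 0, 0, 0, 0, 0], ![0, 0, 0, 0, 0, 0], ![0, 2, 1, 1, 1, 1], ![0, 1, 2, 2, 2, 2],
  ![0, 2, 1, 0, 2, 1], ![0, 2, 1, 2, 0, 1], ![0, 0, 0, 0, 0, 0], ![0, 1, 2, 2, 2, 2], ![0, 0, 0, 0, 0, 0], ![0, 2, 1, 1, 1, 1],
  ![0, 1, 2, 0, 2, 1], ![0, 1, 2, 1, 2, 0], ![0, 0, 0, 0, 0, 0], ![0, 2, 1, 1, 1, 1], ![0, 1, 2, 2, 2, 2], ![0, 0, 0, 0, 0, 0],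
  ![0, 0, 0, 0, 0, 0], ![0, 0, 0, 0, 1, 2], ![0, 0, 0, 0, 2, 1], ![0, 0, 0, 0, 0, 0], ![0, 1, 2, 1, 2, 0], ![0, 2, 1, 2, 0, 1],
  ![0, 0, 0, 0, 2, 1], ![0, 0, 0, 0, 0, 0], ![0, 0, 0, 0, 1, 2], ![0, 0, 0, 0, 0, 0], ![0, 1, 2, 0, 2, 1], ![0, 2, 1, 0, 2, 1],
  ![0, 0, 0, 0, 1, 2], ![0, 0, 0, 0, 2, 1], ![0, 0, 0, 0, 0, 0], ![0, 0, 0, 0, 0, 0], ![0, 1, 2, 2, 2, 2], ![0, 2, 1, 1, 1, 1],
  ![0, 0, 0, 0, 0, 0], ![0, 0, 0, 0, 0, 0], ![0, 0, 0, 0, 0, 0], ![0, 0, 0, 0, 0, 0], ![0, 0, 0, 0, 0, 0], ![0, 0, 0, 0, 0, 0],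
  ![0, 1, 0, 2, 1, 2], ![0, 1, 1, 2, 0, 2], ![0, 2, 1, 1, 1, 1], ![0, 0, 0, 0, 0, 0], ![0, 0, 0, 0, 0, 0], ![0, 1, 2, 2, 2, 2],
  ![0, 2, 0, 1, 1, 2], ![0, 2, 2, 1, 1, 0], ![0, 1, 2, 2, 2, 2], ![0, 0, 0, 0, 0, 0], ![0, 2, 1, 1, 1, 1], ![0, 0, 0, 0, 0, 0],
  ![0, 0, 0, 0, 0, 0], ![0, 0, 2, 1, 0, 0], ![0, 2, 1, 0, 2, 1], ![0, 1, 0, 2, 1, 2], ![0, 0, 0, 0, 0, 0], ![0, 0, 1, 2, 0, 0],
  ![0, 0, 1, 2, 0, 0], ![0, 0, 0, 0, 0, 0], ![0, 2, 1, 2, 0, 1], ![0, 1, 1, 2, 0, 2], ![0, 0, 0, 0, 0, 0], ![0, 0, 2, 1, 0, 0],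
  ![0, 2, 2, 1, 1, 0], ![0, 2, 0, 1, 1, 2], ![0, 0, 0, 0, 0, 0], ![0, 2, 1, 1, 1, 1], ![0, 0, 0, 0, 0, 0], ![0, 1, 2, 2, 2, 2],
  ![0, 1, 2, 1, 2, 0], ![0, 1, 2, 0, 2, 1], ![0, 1, 2, 2, 2, 2], ![0, 0, 0, 0, 0, 0], ![0, 0, 0, 0, 0, 0], ![0, 2, 1, 1, 1, 1],
  ![0, 0, 0, 0, 0, 0], ![0, 0, 0, 0, 0, 0], ![0, 0, 0, 0, 0, 0], ![0, 0, 0, 0, 0, 0], ![0, 0, 0, 0, 0, 0], ![0, 0, 0, 0, 0, 0],
  ![0, 0, 2, 1, 0, 0], ![0, 0, 1, 2, 0, 0], ![0, 2, 1, 1, 1, 1], ![0, 1, 2, 2, 2, 2], ![0, 0, 0, 0, 0, 0], ![0, 0, 0, 0, 0, 0],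
  ![0, 0, 0, 0, 0, 0], ![0, 0, 1, 2, 0, 0], ![0, 1, 2, 0, 2, 1], ![0, 2, 0, 1, 1, 2], ![0, 0, 2, 1, 0, 0], ![0, 0, 0, 0, 0, 0],
  ![0, 0, 2, 1, 0, 0], ![0, 0, 0, 0, 0, 0], ![0, 1, 2, 1, 2, 0], ![0, 2, 2, 1, 1, 0], ![0, 0, 1, 2, 0, 0], ![0, 0, 0, 0, 0, 0],
  ![0, 1, 1, 2, 0, 2], ![0, 1, 0, 2, 1, 2], ![0, 0, 0, 0, 0, 0], ![0, 1, 2, 2, 2, 2], ![0, 2, 1, 1, 1, 1], ![0, 0, 0, 0, 0, 0],
  ![0, 2, 1, 2, 0, 1], ![0, 2, 1, 0, 2, 1], ![0, 2, 1, 1, 1, 1], ![0, 0, 0, 0, 0, 0], ![0, 1, 2, 2, 2, 2], ![0, 0, 0, 0, 0, 0],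
  ![0, 0, 1, 2, 0, 0], ![0, 0, 2, 1, 0, 0], ![0, 1, 2, 2, 2, 2], ![0, 2, 1, 1, 1, 1], ![0, 0, 0, 0, 0, 0], ![0, 0, 0, 0, 0, 0],
  ![0, 0, 0, 0, 0, 0], ![0, 0, 0, 0, 0, 0], ![0, 0, 0, 0, 0, 0], ![0, 0, 0, 0, 0, 0], ![0, 0, 0, 0, 0, 0], ![0, 0, 0, 0, 0, 0]]

/-- the diagonal part going with the three-cycle `(a b c)` -/
def dwit (a b c : Fin 6) : Fin 6 → Fin 3 :=
  dtab.getD (36 * a.val + 6 * b.val + c.val) (fun _ => 0)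

theorem M2 : ∀ a b c : Fin 6, a ≠ b → a ≠ c → b ≠ c →
    mvalidB (Equiv.swap a b * Equiv.swap b c) (dwit a b c) := by decide +kernel

section field

variable {F : Type*} [Field F]

/-- the monomial map given by `σ` and `c` keeps the hexacode -/
def valid (ω : F) (σ : Equiv.Perm (Fin 6)) (c : Fin 6 → Fˣ) : Prop :=
  ∀ x ∈ Cfsg.hexacode F ω, Cfsg.monomialMap σ c x ∈ Cfsg.hexacode F ω

/-- the monomial map as a linear map -/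
def monoLin (σ : Equiv.Perm (Fin 6)) (c : Fin 6 → Fˣ) : (Fin 6 → F) →ₗ[F] (Fin 6 → F) where
  toFun := Cfsg.monomialMap σ c
  map_add' x y := by
    funext i
    simp only [Cfsg.monomialMap, Pi.add_apply, mul_add]
  map_smul' a x := by
    funext i
    simp only [Cfsg.monomialMap, Pi.smul_apply, smul_eq_mul, RingHom.id_apply]
    ring

theorem valid_iff_basis [Fintype F] (hF : Fintype.card F = 4) (ω : F) (hω : ω ^ 2 + ω + 1 = 0)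
    (σ : Equiv.Perm (Fin 6)) (c : Fin 6 → Fˣ) :
    valid ω σ c ↔ ∀ k : Fin 3,
      Cfsg.monomialMap σ c (fun i => ev ω (wb k i)) ∈ Cfsg.hexacode F ω := by
  have h2 := two_eq_zero hF
  constructor
  · intro h k
    apply h
    rw [mem_hex hF ω hω]
    refine ⟨eb k, ?_⟩
    funext i
    show ev ω (mword (eb k) i) = ev ω (wb k i)
    rw [mword_eb]
  · intro h
    have key : Cfsg.hexacode F ω ≤ Submodule.comap (monoLin σ c) (Cfsg.hexacode F ω) := by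
      have hdef : Cfsg.hexacode F ω = Submodule.span F {![ω, ω ^ 2, ω ^ 2, ω, ω ^ 2, ω],
        ![ω ^ 2, ω, ω, ω ^ 2, ω ^ 2, ω], ![ω ^ 2, ω, ω ^ 2, ω, ω, ω ^ 2]} := rfl
      conv_lhs => rw [hdef]
      rw [Submodule.span_le]
      obtain ⟨e1, e2, e3⟩ := ev_w h2 ω hω
      intro b hb
      simp only [Set.mem_insert_iff, Set.mem_singleton_iff] at hb
      rcases hb with rfl | rfl | rfl
      · rw [e1]
        exact h 0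
      · rw [e2]
        exact h 1
      · rw [e3]
        exact h 2
    intro x hx
    exact key hx

theorem mono_ev (h2 : (2 : F) = 0) (ω : F) (hω : ω ^ 2 + ω + 1 = 0)
    (σ : Equiv.Perm (Fin 6)) (c : Fin 6 → Fˣ) (d : Fin 6 → Fin 3)
    (hcd : ∀ i, (c i : F) = ev ω (uu (d i))) (y : Fin 6 → M4) :
    Cfsg.monomialMap σ c (fun i => ev ω (y i)) = fun i => ev ω (mmono σ d y i) := by
  funext i
  show (c i : F) * ev ω (y (σ.symm i)) = ev ω (mmul (uu (d i)) (y (σ.symm i)))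
  rw [ev_mul h2 ω hω, hcd]

theorem transfer [Fintype F] (hF : Fintype.card F = 4) (ω : F) (hω : ω ^ 2 + ω + 1 = 0)
    (σ : Equiv.Perm (Fin 6)) (c : Fin 6 → Fˣ) (d : Fin 6 → Fin 3)
    (hcd : ∀ i, (c i : F) = ev ω (uu (d i))) : valid ω σ c ↔ mvalidB σ d := by
  have h2 := two_eq_zero hF
  rw [valid_iff_basis hF ω hω]
  unfold mvalidB
  refine forall_congr' fun k => ?_
  rw [mono_ev h2 ω hω σ c d hcd, mem_hex hF ω hω]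
  constructor
  · rintro ⟨t, ht⟩
    refine ⟨t, ?_⟩
    funext i
    exact ev_injective h2 ω hω (congrFun ht i)
  · rintro ⟨t, ht⟩
    refine ⟨t, ?_⟩
    funext i
    show ev ω (mword t i) = _
    rw [ht]

theorem exists_d [Fintype F] (hF : Fintype.card F = 4) (ω : F) (hω : ω ^ 2 + ω + 1 = 0)
    (c : Fin 6 → Fˣ) : ∃ d : Fin 6 → Fin 3, ∀ i, (c i : F) = ev ω (uu (d i)) := by
  have h : ∀ i, ∃ k : Fin 3, (c i : F) = ev ω (uu k) := by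
    intro i
    obtain ⟨x, hx⟩ := (ev_bijective hF ω hω).2 (c i : F)
    have hx0 : x ≠ 0 := by
      rintro rfl
      rw [ev_zero] at hx
      exact (c i).ne_zero hx.symm
    obtain ⟨k, rfl⟩ := uu_surj x hx0
    exact ⟨k, hx.symm⟩
  choose d hd using h
  exact ⟨d, hd⟩

theorem exists_c (h2 : (2 : F) = 0) (ω : F) (hω : ω ^ 2 + ω + 1 = 0)
    (d : Fin 6 → Fin 3) : ∃ c : Fin 6 → Fˣ, ∀ i, (c i : F) = ev ω (uu (d i)) := by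
  refine ⟨fun i => Units.mk0 (ev ω (uu (d i))) ?_, fun i => rfl⟩
  rw [Ne, ev_eq_zero h2 ω hω]
  exact uu_ne _

theorem diag_scalar [Fintype F] (hF : Fintype.card F = 4) (ω : F) (hω : ω ^ 2 + ω + 1 = 0)
    (c : Fin 6 → Fˣ) (h : valid ω 1 c) : ∀ i j, c i = c j := by
  obtain ⟨d, hd⟩ := exists_d hF ω hω c
  have hv : mvalidB 1 d := (transfer hF ω hω 1 c d hd).1 h
  have hd' : d = ![d 0, d 1, d 2, d 3, d 4, d 5] := by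
    funext i
    fin_cases i <;> rfl
  rw [hd'] at hv
  obtain ⟨e1, e2, e3, e4, e5⟩ := M1 _ _ _ _ _ _ hv
  have hconst : ∀ i, d i = d 0 := by
    intro i
    fin_cases i
    exacts [rfl, e1.symm, e2.symm, e3.symm, e4.symm, e5.symm]
  intro i j
  apply Units.ext
  rw [hd i, hd j, hconst i, hconst j]

theorem valid_one (ω : F) : valid ω 1 (fun _ => 1) := by
  intro x hx
  have e : Cfsg.monomialMap (1 : Equiv.Perm (Fin 6)) (fun _ => (1 : Fˣ)) x = x := by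
    funext i
    show ((1 : Fˣ) : F) * x i = x i
    rw [Units.val_one, one_mul]
  rw [e]
  exact hx

theorem valid_mul (ω : F) (σ₁ σ₂ : Equiv.Perm (Fin 6)) (c₁ c₂ : Fin 6 → Fˣ)
    (h1 : valid ω σ₁ c₁) (h2 : valid ω σ₂ c₂) :
    valid ω (σ₁ * σ₂) (fun i => c₁ i * c₂ (σ₁.symm i)) := by
  intro x hx
  have e : Cfsg.monomialMap (σ₁ * σ₂) (fun i => c₁ i * c₂ (σ₁.symm i)) x =
      Cfsg.monomialMap σ₁ c₁ (Cfsg.monomialMap σ₂ c₂ x) := by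
    funext i
    show ((c₁ i * c₂ (σ₁.symm i) : Fˣ) : F) * x (σ₂.symm (σ₁.symm i)) =
      (c₁ i : F) * ((c₂ (σ₁.symm i) : F) * x (σ₂.symm (σ₁.symm i)))
    rw [Units.val_mul, mul_assoc]
  rw [e]
  exact h1 _ (h2 _ hx)

theorem valid_inv [Finite F] (ω : F) (σ : Equiv.Perm (Fin 6)) (c : Fin 6 → Fˣ)
    (h : valid ω σ c) : valid ω σ⁻¹ (fun i => (c (σ i))⁻¹) := by
  have hgf : ∀ x : Fin 6 → F,
      Cfsg.monomialMap σ⁻¹ (fun i => (c (σ i))⁻¹) (Cfsg.monomialMap σ c x) = x := by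
    intro x
    funext i
    show (((c (σ i))⁻¹ : Fˣ) : F) * ((c (σ i) : F) * x (σ.symm (σ i))) = x i
    rw [Equiv.symm_apply_apply, ← mul_assoc, Units.inv_mul, one_mul]
  let f : ↥(Cfsg.hexacode F ω) → ↥(Cfsg.hexacode F ω) :=
    fun x => ⟨Cfsg.monomialMap σ c x.1, h x.1 x.2⟩
  have hinj : Function.Injective f := by
    intro x y hxy
    have h1 : Cfsg.monomialMap σ c x.1 = Cfsg.monomialMap σ c y.1 := congrArg Subtype.val hxy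
    apply Subtype.ext
    rw [← hgf x.1, ← hgf y.1, h1]
  have hsurj : Function.Surjective f := Finite.injective_iff_surjective.1 hinj
  intro y hy
  obtain ⟨x, hx⟩ := hsurj ⟨y, hy⟩
  have h1 : Cfsg.monomialMap σ c x.1 = y := congrArg Subtype.val hx
  rw [← h1, hgf]
  exact x.2

theorem valid_smul (ω : F) (σ : Equiv.Perm (Fin 6)) (c : Fin 6 → Fˣ) (s : Fˣ)
    (h : valid ω σ c) : valid ω σ (fun i => s * c i) := by
  intro x hx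
  have e : Cfsg.monomialMap σ (fun i => s * c i) x = (s : F) • Cfsg.monomialMap σ c x := by
    funext i
    show ((s * c i : Fˣ) : F) * x (σ.symm i) = (s : F) * ((c i : F) * x (σ.symm i))
    rw [Units.val_mul, mul_assoc]
  rw [e]
  exact Submodule.smul_mem _ _ (h x hx)

/-- two diagonal parts going with the same permutation differ by a scalar -/
theorem fiber [Fintype F] (hF : Fintype.card F = 4) (ω : F) (hω : ω ^ 2 + ω + 1 = 0)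
    (σ : Equiv.Perm (Fin 6)) (c₀ c : Fin 6 → Fˣ) (h0 : valid ω σ c₀) (h : valid ω σ c) :
    ∃ s : Fˣ, ∀ i, c i = s * c₀ i := by
  have hv : valid ω 1 (fun i => c i * (c₀ i)⁻¹) := by
    intro x hx
    have e : Cfsg.monomialMap (1 : Equiv.Perm (Fin 6)) (fun i => c i * (c₀ i)⁻¹) x =
        Cfsg.monomialMap σ c (Cfsg.monomialMap σ⁻¹ (fun i => (c₀ (σ i))⁻¹) x) := by
      funext i
      show ((c i * (c₀ i)⁻¹ : Fˣ) : F) * x i =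
        (c i : F) * ((((c₀ (σ (σ.symm i)))⁻¹ : Fˣ) : F) * x (σ (σ.symm i)))
      rw [Equiv.apply_symm_apply, Units.val_mul, mul_assoc]
    rw [e]
    exact h _ (valid_inv ω σ c₀ h0 _ hx)
  have hs := diag_scalar hF ω hω _ hv
  refine ⟨c 0 * (c₀ 0)⁻¹, fun i => ?_⟩
  have this : c i * (c₀ i)⁻¹ = c 0 * (c₀ 0)⁻¹ := hs i 0
  rw [← this, inv_mul_cancel_right]

/-- the permutation `σ` is the permutation part of a monomial automorphism -/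
def PP (ω : F) (σ : Equiv.Perm (Fin 6)) : Prop := ∃ c : Fin 6 → Fˣ, valid ω σ c

theorem PP_three [Fintype F] (hF : Fintype.card F = 4) (ω : F) (hω : ω ^ 2 + ω + 1 = 0)
    (g : Equiv.Perm (Fin 6)) (hg : g.IsThreeCycle) : PP ω g := by
  have h2 := two_eq_zero hF
  have hne : g.support.Nonempty := by
    rw [← Finset.card_pos, hg.card_support]
    norm_num
  obtain ⟨a, ha⟩ := hne
  have e := hg.eq_swap_mul_swap_iff_mem_support.2 ha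
  have nd := hg.nodup_iff_mem_support.2 ha
  have n1 : a ≠ g a := by
    intro hh
    rw [← hh] at nd
    simp at nd
  have n2 : a ≠ g (g a) := by
    intro hh
    rw [← hh] at nd
    simp at nd
  have n3 : g a ≠ g (g a) := by
    intro hh
    rw [← hh] at nd
    simp at nd
  obtain ⟨c, hc⟩ := exists_c h2 ω hω (dwit a (g a) (g (g a)))
  refine ⟨c, ?_⟩
  rw [e, transfer hF ω hω _ c _ hc]
  exact M2 a (g a) (g (g a)) n1 n2 n3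

theorem PP_alt [Fintype F] (hF : Fintype.card F = 4) (ω : F) (hω : ω ^ 2 + ω + 1 = 0)
    (σ : Equiv.Perm (Fin 6)) (hσ : σ ∈ alternatingGroup (Fin 6)) : PP ω σ := by
  rw [← Equiv.Perm.closure_three_cycles_eq_alternating] at hσ
  induction hσ using Subgroup.closure_induction with
  | mem x hx => exact PP_three hF ω hω x hx
  | one => exact ⟨_, valid_one ω⟩
  | mul x y _ _ hx hy =>
    obtain ⟨c₁, h1⟩ := hx
    obtain ⟨c₂, h2⟩ := hy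
    exact ⟨_, valid_mul ω x y c₁ c₂ h1 h2⟩
  | inv x _ hx =>
    obtain ⟨c₁, h1⟩ := hx
    exact ⟨_, valid_inv ω x c₁ h1⟩

theorem alt_of_PP [Fintype F] (hF : Fintype.card F = 4) (ω : F) (hω : ω ^ 2 + ω + 1 = 0)
    (σ : Equiv.Perm (Fin 6)) (h : PP ω σ) : σ ∈ alternatingGroup (Fin 6) := by
  by_contra hσ
  rw [Equiv.Perm.mem_alternatingGroup] at hσ
  have hs : Equiv.Perm.sign σ = -1 := by
    rcases Int.units_eq_one_or (Equiv.Perm.sign σ) with h1 | h1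
    · exact absurd h1 hσ
    · exact h1
  have h1 : Equiv.swap (0 : Fin 6) 1 * σ⁻¹ ∈ alternatingGroup (Fin 6) := by
    rw [Equiv.Perm.mem_alternatingGroup, map_mul, map_inv, hs,
      Equiv.Perm.sign_swap (by decide)]
    decide
  obtain ⟨c₁, hc₁⟩ := PP_alt hF ω hω _ h1
  obtain ⟨c₂, hc₂⟩ := h
  have h3 := valid_mul ω _ _ c₁ c₂ hc₁ hc₂
  rw [inv_mul_cancel_right] at h3
  obtain ⟨d, hd⟩ := exists_d hF ω hω (fun i => c₁ i * c₂ ((Equiv.swap (0 : Fin 6) 1 * σ⁻¹).symm i))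
  have hv := (transfer hF ω hω _ _ d hd).1 h3
  have hd' : d = ![d 0, d 1, d 2, d 3, d 4, d 5] := by
    funext i
    fin_cases i <;> rfl
  rw [hd'] at hv
  exact M3 _ _ _ _ _ _ hv

end field

/-- The monomial automorphism group of the hexacode has order 1080: its diagonal part is the scalars and its permutation parts form the alternating group of degree 6. -/
theorem result (F : Type*) [Field F] [Fintype F] [DecidableEq F] (hF : Fintype.card F = 4) (ω : F) (hω : ω ^ 2 + ω + 1 = 0) : Nat.card {f : Equiv.Perm (Fin 6) × (Fin 6 → Fˣ) // (∀ x ∈ Cfsg.hexacode F ω, Cfsg.monomialMap f.1 f.2 x ∈ Cfsg.hexacode F ω)} = 1080 ∧ (∀ c : Fin 6 → Fˣ, (∀ x ∈ Cfsg.hexacode F ω, Cfsg.monomialMap 1 c x ∈ Cfsg.hexacode F ω) → ∀ i j, c i = c j) ∧ {σ : Equiv.Perm (Fin 6) | ∃ c : Fin 6 → Fˣ, (∀ x ∈ Cfsg.hexacode F ω, Cfsg.monomialMap σ c x ∈ Cfsg.hexacode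 F ω)} = (alternatingGroup (Fin 6) : Set (Equiv.Perm (Fin 6))) := by
  refine ⟨?_, fun c h => diag_scalar hF ω hω c h, ?_⟩
  · have hA : ∀ σ : ↥(alternatingGroup (Fin 6)), ∃ c : Fin 6 → Fˣ, valid ω σ.1 c :=
      fun σ => PP_alt hF ω hω σ.1 σ.2
    choose c₀ hc₀ using hA
    let Φ : ↥(alternatingGroup (Fin 6)) × Fˣ →
        {f : Equiv.Perm (Fin 6) × (Fin 6 → Fˣ) //
          (∀ x ∈ Cfsg.hexacode F ω, Cfsg.monomialMap f.1 f.2 x ∈ Cfsg.hexacode F ω)} :=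
      fun p => ⟨(p.1.1, fun i => p.2 * c₀ p.1 i), valid_smul ω p.1.1 (c₀ p.1) p.2 (hc₀ p.1)⟩
    have hΦ : Function.Bijective Φ := by
      constructor
      · rintro ⟨σ, s⟩ ⟨σ', s'⟩ h
        have h1 := congrArg Subtype.val h
        have h2 : σ.1 = σ'.1 := congrArg Prod.fst h1
        have h3 : (fun i => s * c₀ σ i) = (fun i => s' * c₀ σ' i) := congrArg Prod.snd h1
        have h4 : σ = σ' := Subtype.ext h2
        subst h4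
        have h5 : s * c₀ σ 0 = s' * c₀ σ 0 := congrFun h3 0
        rw [mul_right_cancel h5]
      · rintro ⟨⟨σ, c⟩, h⟩
        have hσ : σ ∈ alternatingGroup (Fin 6) := alt_of_PP hF ω hω σ ⟨c, h⟩
        obtain ⟨s, hs⟩ := fiber hF ω hω σ (c₀ ⟨σ, hσ⟩) c (hc₀ ⟨σ, hσ⟩) h
        refine ⟨(⟨σ, hσ⟩, s), ?_⟩
        apply Subtype.ext
        exact Prod.ext rfl (funext fun i => (hs i).symm)
    rw [← Nat.card_eq_of_bijective Φ hΦ, Nat.card_prod, nat_card_alternatingGroup, Nat.card_units,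
      Nat.card_eq_fintype_card, Nat.card_eq_fintype_card, hF, Fintype.card_fin]
    decide
  · ext σ
    exact ⟨fun h => alt_of_PP hF ω hω σ h, fun h => PP_alt hF ω hω σ h⟩

end Cfsg.Agent.S1611
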