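import Cfsg.Statements.S1636
import Mathlib
import Cfsg.Agent.Lib.Helper1.Golay23

set_option autoImplicit false
open Cfsg

namespace Cfsg.Agent.S1636


open Cfsg.Agent.Lib.Helper1

theorem cnt7 : (Finset.univ.filter (fun m : Fin 4096 => popc (combo m.val % 2 ^ 23) = 7)).card = 253 := by
  decide +kernel

theorem ncard7 : {u : ZMod 23 → ZMod 2 | u ∈ code23 ∧ hammingNorm u = 7}.ncard = 253 := by
  rw [ncard_code23_pred (fun n => n = 7)]
  exact cnt7

theorem cnt8 : (Finset.univ.filter (fun m : Fin 4096 => popc (combo m.val % 2 ^ 23) = 8)).card = 506 := by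
  decide +kernel

theorem ncard8 : {u : ZMod 23 → ZMod 2 | u ∈ code23 ∧ hammingNorm u = 8}.ncard = 506 := by
  rw [ncard_code23_pred (fun n => n = 8)]
  exact cnt8

theorem cnt11 : (Finset.univ.filter (fun m : Fin 4096 => popc (combo m.val % 2 ^ 23) = 11)).card = 1288 := by
  decide +kernel

theorem ncard11 : {u : ZMod 23 → ZMod 2 | u ∈ code23 ∧ hammingNorm u = 11}.ncard = 1288 := by
  rw [ncard_code23_pred (fun n => n = 11)]
  exact cnt11

theorem cnt12 : (Finset.univ.filter (fun m : Fin 4096 => popc (combo m.val % 2 ^ 23) = 12)).card = 1288 := by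
  decide +kernel

theorem ncard12 : {u : ZMod 23 → ZMod 2 | u ∈ code23 ∧ hammingNorm u = 12}.ncard = 1288 := by
  rw [ncard_code23_pred (fun n => n = 12)]
  exact cnt12

theorem cnt15 : (Finset.univ.filter (fun m : Fin 4096 => popc (combo m.val % 2 ^ 23) = 15)).card = 506 := by
  decide +kernel

theorem ncard15 : {u : ZMod 23 → ZMod 2 | u ∈ code23 ∧ hammingNorm u = 15}.ncard = 506 := by
  rw [ncard_code23_pred (fun n => n = 15)]
  exact cnt15

theorem cnt16 : (Finset.univ.filter (fun m : Fin 4096 => popc (combo m.val % 2 ^ 23) = 16)).card = 253 := by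
  decide +kernel

theorem ncard16 : {u : ZMod 23 → ZMod 2 | u ∈ code23 ∧ hammingNorm u = 16}.ncard = 253 := by
  rw [ncard_code23_pred (fun n => n = 16)]
  exact cnt16



/-- The punctured length-23 code has weight distribution 0^1 7^253 8^506 11^1288 12^1288 15^506 16^253 23^1. -/
theorem result : {u : ZMod 23 → ZMod 2 | ∃ w ∈ Cfsg.golayCode, ∀ x : ZMod 23, u x = w (some x)}.ncard = 4096 ∧ {u : ZMod 23 → ZMod 2 | u ∈ {u : ZMod 23 → ZMod 2 | ∃ w ∈ Cfsg.golayCode, ∀ x : ZMod 23, u x = w (some x)} ∧ hammingNorm u = 7}.ncard = 253 ∧ {u : ZMod 23 → ZMod 2 | u ∈ {u : ZMod 23 → ZMod 2 | ∃ w ∈ Cfsg.golayCode, ∀ x : ZMod 23, u x = w (some x)} ∧ hammingNorm u = 8}.ncard = 506 ∧ {u : ZMod 23 → ZMod 2 | u ∈ {u : ZMod 23 → ZMod 2 | ∃ w ∈ Cfsg.golayCode, ∀ x : ZMod 23, u x = w (some x)} ∧ hammingNorm u = 11}.ncard = 1288 ∧ {u : ZMod 23 → ZMod 2 | u ∈ {u : ZMod 23 → ZMod 2 | ∃ w ∈ Cfsg.golayCode, ∀ x : ZMod 23,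 u x = w (some x)} ∧ hammingNorm u = 12}.ncard = 1288 ∧ {u : ZMod 23 → ZMod 2 | u ∈ {u : ZMod 23 → ZMod 2 | ∃ w ∈ Cfsg.golayCode, ∀ x : ZMod 23, u x = w (some x)} ∧ hammingNorm u = 15}.ncard = 506 ∧ {u : ZMod 23 → ZMod 2 | u ∈ {u : ZMod 23 → ZMod 2 | ∃ w ∈ Cfsg.golayCode, ∀ x : ZMod 23, u x = w (some x)} ∧ hammingNorm u = 16}.ncard = 253 ∧ ∀ u ∈ {u : ZMod 23 → ZMod 2 | ∃ w ∈ Cfsg.golayCode, ∀ x : ZMod 23, u x = w (some x)}, u ≠ 0 → 7 ≤ hammingNorm u := by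
  exact ⟨ncard_code23, ncard7, ncard8, ncard11, ncard12, ncard15, ncard16, fun u hu h0 => seven_le_of_ne_zero hu h0⟩

end Cfsg.Agent.S1636
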