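import Cfsg.Statements.S1637
import Mathlib
import Cfsg.Agent.Lib.Helper1.GolayCosets
import Cfsg.Agent.Lib.Helper1.Golay23
import Cfsg.Agent.Lib.Helper1.M24Cycle

set_option autoImplicit false
open Cfsg

namespace Cfsg.Agent.S1637


open Cfsg.Agent.Lib.Helper1

/-- extension of a length-23 word by zero -/
def ext0 (u : ZMod 23 → ZMod 2) : GolayPt → ZMod 2 := fun p =>
  match p with
  | none => 0
  | some x => u x

theorem punct_ext0 (u : ZMod 23 → ZMod 2) : punct (ext0 u) = u := rfl

theorem punct_sub (v w : GolayPt → ZMod 2) : punct (v - w) = punct v - punct w := rfl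

theorem hammingNorm_split (v : GolayPt → ZMod 2) :
    hammingNorm v = (if v none ≠ 0 then 1 else 0) + hammingNorm (punct v) := by
  unfold hammingNorm
  rw [Finset.card_filter, Finset.card_filter, Fintype.sum_option]
  rfl

theorem hammingNorm_punct_le (v : GolayPt → ZMod 2) : hammingNorm (punct v) ≤ hammingNorm v := by
  rw [hammingNorm_split v]
  omega

theorem hammingNorm_neg23 (x : ZMod 23 → ZMod 2) : hammingNorm (-x) = hammingNorm x := by
  unfold hammingNorm
  congr 1
  ext i
  simp only [Finset.mem_filter, Pi.neg_apply, neg_ne_zero]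

theorem dist_aux (u pv : ZMod 23 → ZMod 2) : hammingDist u (u - pv) = hammingNorm pv := by
  have e : -u + (u - pv) = -pv := by abel
  rw [hammingDist_eq_hammingNorm, e, hammingNorm_neg23]

theorem code23_sub {c c' : ZMod 23 → ZMod 2} (hc : c ∈ code23) (hc' : c' ∈ code23) :
    c - c' ∈ code23 := by
  obtain ⟨w, hw, rfl⟩ := mem_code23.1 hc
  obtain ⟨w', hw', rfl⟩ := mem_code23.1 hc'
  exact mem_code23.2 ⟨w - w', Submodule.sub_mem _ hw hw', rfl⟩

theorem uniq23 (u c c' : ZMod 23 → ZMod 2) (hc : c ∈ code23) (hc' : c' ∈ code23)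
    (h : hammingDist u c ≤ 3) (h' : hammingDist u c' ≤ 3) : c = c' := by
  by_contra hne
  have h0 : c - c' ≠ 0 := sub_ne_zero.2 hne
  have h7 := seven_le_of_ne_zero (code23_sub hc hc') h0
  have e : c - c' = -c' + c := by abel
  rw [e, ← hammingDist_eq_hammingNorm] at h7
  have htri := hammingDist_triangle c' u c
  rw [hammingDist_comm c' u] at htri
  omega

theorem exists23 (u : ZMod 23 → ZMod 2) : ∃ c ∈ code23, hammingDist u c ≤ 3 := by
  classical
  rcases golay_coset_structure (ext0 u) with ⟨_, v, hv3, hvC⟩ | ⟨h6, h4, hdis⟩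
  · refine ⟨punct (ext0 u - v), mem_code23.2 ⟨_, hvC, rfl⟩, ?_⟩
    rw [punct_sub, punct_ext0, dist_aux]
    exact (hammingNorm_punct_le v).trans hv3
  · set A : Set (GolayPt → ZMod 2) :=
      {v : GolayPt → ZMod 2 | hammingNorm v ≤ 4 ∧ ext0 u - v ∈ golayCode} with hA
    have hfin : A.Finite := Set.toFinite _
    have hcard : hfin.toFinset.card = 6 := by
      rw [← Set.ncard_eq_toFinset_card A hfin]; exact h6
    have hmemA : ∀ v, v ∈ hfin.toFinset ↔ hammingNorm v ≤ 4 ∧ ext0 u - v ∈ golayCode := by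
      intro v
      rw [Set.Finite.mem_toFinset]
      rfl
    have hsupp : ∀ v ∈ hfin.toFinset, (Finset.univ.filter (fun p => v p ≠ 0)).card = 4 := by
      intro v hv
      obtain ⟨h1, h2⟩ := (hmemA v).1 hv
      exact h4 v h2 h1
    have hpd : ((hfin.toFinset : Finset (GolayPt → ZMod 2)) : Set (GolayPt → ZMod 2)).PairwiseDisjoint
        (fun v => Finset.univ.filter (fun p => v p ≠ 0)) := by
      intro v hv v' hv' hne
      obtain ⟨h1, h2⟩ := (hmemA v).1 hv
      obtain ⟨h1', h2'⟩ := (hmemA v').1 hv'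
      rw [Function.onFun, Finset.disjoint_left]
      intro p hp hp'
      rw [Finset.mem_filter] at hp hp'
      rcases hdis v v' h2 h1 h2' h1' hne p with h | h
      · exact hp.2 h
      · exact hp'.2 h
    have hU : (hfin.toFinset.biUnion (fun v => Finset.univ.filter (fun p => v p ≠ 0))).card = 24 := by
      rw [Finset.card_biUnion hpd, Finset.sum_congr rfl hsupp, Finset.sum_const, hcard]
      rfl
    have hall : hfin.toFinset.biUnion (fun v => Finset.univ.filter (fun p => v p ≠ 0)) =
        Finset.univ := by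
      apply Finset.eq_univ_of_card
      rw [hU, fintype_card_golayPt]
    have hnone : (none : GolayPt) ∈
        hfin.toFinset.biUnion (fun v => Finset.univ.filter (fun p => v p ≠ 0)) := by
      rw [hall]; exact Finset.mem_univ _
    obtain ⟨v, hv, hvn⟩ := Finset.mem_biUnion.1 hnone
    rw [Finset.mem_filter] at hvn
    obtain ⟨h1, h2⟩ := (hmemA v).1 hv
    refine ⟨punct (ext0 u - v), mem_code23.2 ⟨_, h2, rfl⟩, ?_⟩
    rw [punct_sub, punct_ext0, dist_aux]
    have hs := hammingNorm_split v
    rw [if_pos hvn.2] at hs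
    have := h4 v h2 h1
    omega


/-- The punctured length-23 code is a perfect 3-error-correcting code: each word of length 23 is within distance 3 of exactly one codeword. -/
theorem result (u : ZMod 23 → ZMod 2) : ∃! c : ZMod 23 → ZMod 2, c ∈ {u : ZMod 23 → ZMod 2 | ∃ w ∈ Cfsg.golayCode, ∀ x : ZMod 23, u x = w (some x)} ∧ hammingDist u c ≤ 3 := by
  obtain ⟨c, hc, hd⟩ := exists23 u
  refine ⟨c, ⟨hc, hd⟩, ?_⟩
  rintro c' ⟨hc', hd'⟩
  exact uniq23 u c' c hc' hc hd' hd

end Cfsg.Agent.S1637
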