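import Cfsg.Statements.S1638
import Mathlib
import Cfsg.Agent.Lib.Helper1.M24Tetrads
import Cfsg.Agent.S1563

set_option autoImplicit false
open scoped Pointwise
open Cfsg

namespace Cfsg.Agent.S1638


open Cfsg.Agent.Lib.Helper1

theorem cardQ (p q : GolayPt) (hpq : p ≠ q) (s : Finset GolayPt)
    (hs : (s.card = 2 ∧ p ∉ s ∧ q ∉ s)) : (insert p (insert q s)).card = 4 := by
  rw [Finset.card_insert_of_notMem, Finset.card_insert_of_notMem hs.2.2, hs.1]
  rw [Finset.mem_insert, not_or]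
  exact ⟨hpq, hs.2.1⟩

theorem memQ (p q : GolayPt) (s : Finset GolayPt) (x : GolayPt) :
    x ∈ insert p (insert q s) ↔ x = p ∨ x = q ∨ x ∈ s := by
  rw [Finset.mem_insert, Finset.mem_insert]

theorem subQ (p q : GolayPt) (s o : Finset GolayPt) :
    insert p (insert q s) ⊆ o ↔ p ∈ o ∧ q ∈ o ∧ s ⊆ o := by
  rw [Finset.insert_subset_iff, Finset.insert_subset_iff]

theorem set_special (p q : GolayPt) (s : Finset GolayPt) :
    {t : Finset GolayPt | (t.card = 2 ∧ p ∉ t ∧ q ∉ t) ∧ Disjoint s t ∧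
      (∃ o ∈ octads, p ∈ o ∧ q ∈ o ∧ s ∪ t ⊆ o)} =
    (((octThru (insert p (insert q s))).biUnion
      (fun o => Finset.powersetCard 2 (o \ insert p (insert q s))) :
        Finset (Finset GolayPt)) : Set (Finset GolayPt)) := by
  ext t
  rw [Finset.mem_coe, Finset.mem_biUnion]
  constructor
  · rintro ⟨⟨hc, hp, hq⟩, hd, o, ho, hpo, hqo, hsub⟩
    refine ⟨o, mem_octThru.2 ⟨ho, (subQ p q s o).2
      ⟨hpo, hqo, Finset.subset_union_left.trans hsub⟩⟩, ?_⟩
    rw [Finset.mem_powersetCard]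
    refine ⟨fun x hx => ?_, hc⟩
    rw [Finset.mem_sdiff, memQ]
    refine ⟨hsub (Finset.mem_union_right _ hx), ?_⟩
    rintro (rfl | rfl | hxs)
    · exact hp hx
    · exact hq hx
    · exact Finset.disjoint_left.1 hd hxs hx
  · rintro ⟨o, ho, ht⟩
    rw [Finset.mem_powersetCard] at ht
    obtain ⟨ho1, ho2⟩ := mem_octThru.1 ho
    obtain ⟨hpo, hqo, hso⟩ := (subQ p q s o).1 ho2
    have hn : ∀ x ∈ t, x ∈ o ∧ ¬ (x = p ∨ x = q ∨ x ∈ s) := by
      intro x hx
      have := ht.1 hx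
      rw [Finset.mem_sdiff, memQ] at this
      exact this
    refine ⟨⟨ht.2, fun h => (hn p h).2 (Or.inl rfl), fun h => (hn q h).2 (Or.inr (Or.inl rfl))⟩,
      ?_, o, ho1, hpo, hqo, ?_⟩
    · rw [Finset.disjoint_left]
      intro x hxs hxt
      exact (hn x hxt).2 (Or.inr (Or.inr hxs))
    · exact Finset.union_subset hso (fun x hx => (hn x hx).1)

theorem count_special (p q : GolayPt) (hpq : p ≠ q) (s : Finset GolayPt)
    (hs : (s.card = 2 ∧ p ∉ s ∧ q ∉ s)) :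
    {t : Finset GolayPt | (t.card = 2 ∧ p ∉ t ∧ q ∉ t) ∧ Disjoint s t ∧
      (∃ o ∈ octads, p ∈ o ∧ q ∈ o ∧ s ∪ t ⊆ o)}.ncard = 30 := by
  have hQ := cardQ p q hpq s hs
  rw [set_special, Set.ncard_coe_finset, Finset.card_biUnion]
  · have : ∀ o ∈ octThru (insert p (insert q s)),
        (Finset.powersetCard 2 (o \ insert p (insert q s))).card = 6 := by
      intro o ho
      rw [Finset.card_powersetCard, card_sdiff_octThru hQ ho]
      rfl
    rw [Finset.sum_congr rfl this, Finset.sum_const, card_octThru hQ]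
    rfl
  · intro o ho o' ho' hne
    rw [Function.onFun, Finset.disjoint_left]
    intro t ht ht'
    rw [Finset.mem_powersetCard] at ht ht'
    apply hne
    have hne' : t.Nonempty := by
      rw [← Finset.card_pos, ht.2]; norm_num
    obtain ⟨x, hx⟩ := hne'
    have h1 := Finset.mem_sdiff.1 (ht.1 hx)
    have h2 := Finset.mem_sdiff.1 (ht'.1 hx)
    exact octThru_eq_of_common hQ ho ho' h1.2 h1.1 h2.1

theorem count_all (p q : GolayPt) (hpq : p ≠ q) (s : Finset GolayPt)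
    (hs : (s.card = 2 ∧ p ∉ s ∧ q ∉ s)) :
    {t : Finset GolayPt | (t.card = 2 ∧ p ∉ t ∧ q ∉ t) ∧ Disjoint s t}.ncard = 190 := by
  have hQ := cardQ p q hpq s hs
  have : {t : Finset GolayPt | (t.card = 2 ∧ p ∉ t ∧ q ∉ t) ∧ Disjoint s t} =
      ((Finset.powersetCard 2 (insert p (insert q s))ᶜ : Finset (Finset GolayPt)) :
        Set (Finset GolayPt)) := by
    ext t
    rw [Finset.mem_coe, Finset.mem_powersetCard]
    constructor
    · rintro ⟨⟨hc, hp, hq⟩, hd⟩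
      refine ⟨fun x hx => ?_, hc⟩
      rw [Finset.mem_compl, memQ]
      rintro (rfl | rfl | hxs)
      · exact hp hx
      · exact hq hx
      · exact Finset.disjoint_left.1 hd hxs hx
    · rintro ⟨hsub, hc⟩
      have hn : ∀ x ∈ t, ¬ (x = p ∨ x = q ∨ x ∈ s) := by
        intro x hx
        have := hsub hx
        rw [Finset.mem_compl, memQ] at this
        exact this
      refine ⟨⟨hc, fun h => hn p h (Or.inl rfl), fun h => hn q h (Or.inr (Or.inl rfl))⟩, ?_⟩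
      rw [Finset.disjoint_left]
      intro x hxs hxt
      exact hn x hxt (Or.inr (Or.inr hxs))
  rw [this, Set.ncard_coe_finset, Finset.card_powersetCard, Finset.card_compl, hQ,
    fintype_card_golayPt]
  rfl

theorem inj_of_ne6' {α : Type*} (a : Fin 6 → α) (h : ∀ i j : Fin 6, i < j → a i ≠ a j) :
    Function.Injective a := by
  intro i j hij
  by_contra hne
  rcases lt_or_gt_of_ne hne with h1 | h1
  · exact h i j h1 hij
  · exact h j i h1 hij.symm

theorem inj_of_ne5' {α : Type*} (a : Fin 5 → α) (h : ∀ i j : Fin 5, i < j → a i ≠ a j) :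
    Function.Injective a := by
  intro i j hij
  by_contra hne
  rcases lt_or_gt_of_ne hne with h1 | h1
  · exact h i j h1 hij
  · exact h j i h1 hij.symm

theorem five_trans' (p p' : Fin 5 → GolayPt) (hp : Function.Injective p)
    (hp' : Function.Injective p') : ∃ g ∈ M24, ∀ i, g (p i) = p' i := by
  obtain ⟨g1, hg1, h1⟩ := M24_to_base5 ⟨p, hp⟩
  obtain ⟨g2, hg2, h2⟩ := M24_to_base5 ⟨p', hp'⟩
  refine ⟨g2⁻¹ * g1, mul_mem (inv_mem hg2) hg1, fun i => ?_⟩
  have e1 : g1 (p i) = gpt (base5 i) := h1 i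
  have e2 : g2 (p' i) = gpt (base5 i) := h2 i
  rw [Equiv.Perm.mul_apply, e1, ← e2, Equiv.Perm.inv_def, Equiv.symm_apply_apply]

theorem special_iff (p q a b c d : GolayPt) :
    (∃ o ∈ octads, p ∈ o ∧ q ∈ o ∧ ({a, b} : Finset GolayPt) ∪ {c, d} ⊆ o) ↔
    (∃ o ∈ octads, ∀ i, ![p, q, a, b, c, d] i ∈ o) := by
  constructor
  · rintro ⟨o, ho, hp, hq, hsub⟩
    refine ⟨o, ho, fun i => ?_⟩
    have ha : a ∈ o := hsub (by simp)
    have hb : b ∈ o := hsub (by simp)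
    have hc : c ∈ o := hsub (by simp)
    have hd : d ∈ o := hsub (by simp)
    fin_cases i <;> assumption
  · rintro ⟨o, ho, h⟩
    refine ⟨o, ho, h 0, h 1, ?_⟩
    intro x hx
    simp only [Finset.mem_union, Finset.mem_insert, Finset.mem_singleton] at hx
    rcases hx with (rfl | rfl) | (rfl | rfl)
    · exact h 2
    · exact h 3
    · exact h 4
    · exact h 5

theorem conj_part (p q : GolayPt) (hpq : p ≠ q) (s : Finset GolayPt)
    (hs : (s.card = 2 ∧ p ∉ s ∧ q ∉ s)) (t t' : Finset GolayPt)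
    (ht : t.card = 2 ∧ p ∉ t ∧ q ∉ t) (ht' : t'.card = 2 ∧ p ∉ t' ∧ q ∉ t')
    (hts : t ≠ s) (hts' : t' ≠ s) (hc : (s ∩ t).card = (s ∩ t').card)
    (h : (∃ o ∈ octads, p ∈ o ∧ q ∈ o ∧ s ∪ t ⊆ o) ↔ (∃ o ∈ octads, p ∈ o ∧ q ∈ o ∧ s ∪ t' ⊆ o)) :
    ∃ g : Equiv.Perm GolayPt, g ∈ M24 ∧ g p = p ∧ g q = q ∧ g • s = s ∧ g • t = t' := by
  have hle : (s ∩ t).card ≤ 2 := hs.1 ▸ Finset.card_le_card Finset.inter_subset_left
  have hne2 : ∀ u : Finset GolayPt, u.card = 2 → u ≠ s → (s ∩ u).card ≠ 2 := by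
    intro u hu hus h2
    apply hus
    have e1 : s ∩ u = s :=
      Finset.eq_of_subset_of_card_le Finset.inter_subset_left (by rw [h2, hs.1])
    symm
    apply Finset.eq_of_subset_of_card_le _ (by rw [hs.1, hu])
    rw [← e1]; exact Finset.inter_subset_right
  have := hne2 t ht.1 hts
  have hcases : (s ∩ t).card = 0 ∨ (s ∩ t).card = 1 := by omega
  have nmem : ∀ {x y z : GolayPt}, x ∉ ({y, z} : Finset GolayPt) → x ≠ y ∧ x ≠ z := by
    intro x y z hx
    rw [Finset.mem_insert, Finset.mem_singleton, not_or] at hx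
    exact hx
  rcases hcases with h0 | h1
  · obtain ⟨a, b, c, d, hab, hac, had, hbc, hbd, hcd, rfl, rfl⟩ :=
      Cfsg.Agent.S1563.decomp0 s t hs.1 ht.1 h0
    obtain ⟨a', b', c', d', hab', hac', had', hbc', hbd', hcd', hs', rfl⟩ :=
      Cfsg.Agent.S1563.decomp0 _ t' hs.1 ht'.1 (hc ▸ h0)
    have hs2 := hs
    rw [hs'] at hs2
    obtain ⟨pa, pb⟩ := nmem hs.2.1
    obtain ⟨qa, qb⟩ := nmem hs.2.2
    obtain ⟨pc, pd⟩ := nmem ht.2.1
    obtain ⟨qc, qd⟩ := nmem ht.2.2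
    obtain ⟨pa', pb'⟩ := nmem hs2.2.1
    obtain ⟨qa', qb'⟩ := nmem hs2.2.2
    obtain ⟨pc', pd'⟩ := nmem ht'.2.1
    obtain ⟨qc', qd'⟩ := nmem ht'.2.2
    have hx : Function.Injective ![p, q, a, b, c, d] := by
      apply inj_of_ne6'
      intro i j hij
      fin_cases i <;> fin_cases j <;> first | exact absurd hij (by decide) | assumption
    have hy : Function.Injective ![p, q, a', b', c', d'] := by
      apply inj_of_ne6'
      intro i j hij
      fin_cases i <;> fin_cases j <;> first | exact absurd hij (by decide) | assumption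
    have h' : (∃ o ∈ octads, ∀ i, ![p, q, a, b, c, d] i ∈ o) ↔
        (∃ o ∈ octads, ∀ i, ![p, q, a', b', c', d'] i ∈ o) := by
      rw [← special_iff, ← special_iff, ← hs']
      exact h
    obtain ⟨g, hg, hgi⟩ := six_trans _ _ hx hy h'
    have e0 : g p = p := hgi 0
    have e1 : g q = q := hgi 1
    have e2 : g a = a' := hgi 2
    have e3 : g b = b' := hgi 3
    have e4 : g c = c' := hgi 4
    have e5 : g d = d' := hgi 5
    refine ⟨g, hg, e0, e1, ?_, ?_⟩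
    · rw [Cfsg.Agent.S1563.smul_pair, e2, e3, ← hs']
    · rw [Cfsg.Agent.S1563.smul_pair, e4, e5]
  · obtain ⟨u, v, c, huv, huc, hvc, rfl, rfl⟩ := Cfsg.Agent.S1563.decomp1 s t hs.1 ht.1 h1
    obtain ⟨u', v', c', huv', huc', hvc', hs', rfl⟩ :=
      Cfsg.Agent.S1563.decomp1 _ t' hs.1 ht'.1 (hc ▸ h1)
    have hs2 := hs
    rw [hs'] at hs2
    obtain ⟨pu, pv⟩ := nmem hs.2.1
    obtain ⟨qu, qv⟩ := nmem hs.2.2
    obtain ⟨_, pc⟩ := nmem ht.2.1
    obtain ⟨_, qc⟩ := nmem ht.2.2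
    obtain ⟨pu', pv'⟩ := nmem hs2.2.1
    obtain ⟨qu', qv'⟩ := nmem hs2.2.2
    obtain ⟨_, pc'⟩ := nmem ht'.2.1
    obtain ⟨_, qc'⟩ := nmem ht'.2.2
    have hx : Function.Injective ![p, q, u, v, c] := by
      apply inj_of_ne5'
      intro i j hij
      fin_cases i <;> fin_cases j <;> first | exact absurd hij (by decide) | assumption
    have hy : Function.Injective ![p, q, u', v', c'] := by
      apply inj_of_ne5'
      intro i j hij
      fin_cases i <;> fin_cases j <;> first | exact absurd hij (by decide) | assumption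
    obtain ⟨g, hg, hgi⟩ := five_trans' _ _ hx hy
    have e0 : g p = p := hgi 0
    have e1 : g q = q := hgi 1
    have e2 : g u = u' := hgi 2
    have e3 : g v = v' := hgi 3
    have e4 : g c = c' := hgi 4
    refine ⟨g, hg, e0, e1, ?_, ?_⟩
    · rw [Cfsg.Agent.S1563.smul_pair, e2, e3, ← hs']
    · rw [Cfsg.Agent.S1563.smul_pair, e2, e4]


/-- Fix two points p ≠ q and a pair s of two further points. Among the pairs avoiding p, q and disjoint from s, exactly 30 lie in an octad together with p, q and s and exactly 160 do not; and any two pairs other than s that meet s in equally many points and agree on that octad property are carried to one another by an element of the group of the length-24 code fixing p, q and s. -/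
theorem result (p q : Cfsg.GolayPt) (hpq : p ≠ q) (s : Finset Cfsg.GolayPt) (hs : (s.card = 2 ∧ p ∉ s ∧ q ∉ s)) : {t : Finset Cfsg.GolayPt | (t.card = 2 ∧ p ∉ t ∧ q ∉ t) ∧ Disjoint s t ∧ (∃ o ∈ Cfsg.octads, p ∈ o ∧ q ∈ o ∧ s ∪ t ⊆ o)}.ncard = 30 ∧ {t : Finset Cfsg.GolayPt | (t.card = 2 ∧ p ∉ t ∧ q ∉ t) ∧ Disjoint s t ∧ ¬ (∃ o ∈ Cfsg.octads, p ∈ o ∧ q ∈ o ∧ s ∪ t ⊆ o)}.ncard = 160 ∧ ∀ t t' : Finset Cfsg.GolayPt, (t.card = 2 ∧ p ∉ t ∧ q ∉ t) → (t'.card = 2 ∧ p ∉ t' ∧ q ∉ t') → t ≠ s → t' ≠ s → (s ∩ t).card = (s ∩ t').card → ((∃ o ∈ Cfsg.octads, p ∈ o ∧ q ∈ o ∧ s ∪ t ⊆ o) ↔ (∃ o ∈ Cfsg.octads, p ∈ o ∧ q ∈ o ∧ s ∪ t' ⊆ o)) → ∃ g : Equiv.Perm Cfsg.GolayPt, g ∈ Cfsg.M24 ∧ g p = p ∧ g q = q ∧ g • s = s ∧ g • t = t' := by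
  refine ⟨count_special p q hpq s hs, ?_, ?_⟩
  · have h1 := count_special p q hpq s hs
    have h2 := count_all p q hpq s hs
    have hsub : {t : Finset GolayPt | (t.card = 2 ∧ p ∉ t ∧ q ∉ t) ∧ Disjoint s t ∧
        (∃ o ∈ octads, p ∈ o ∧ q ∈ o ∧ s ∪ t ⊆ o)} ⊆
        {t : Finset GolayPt | (t.card = 2 ∧ p ∉ t ∧ q ∉ t) ∧ Disjoint s t} :=
      fun U hU => ⟨hU.1, hU.2.1⟩
    have hdiff : {t : Finset GolayPt | (t.card = 2 ∧ p ∉ t ∧ q ∉ t) ∧ Disjoint s t ∧
        ¬ (∃ o ∈ octads, p ∈ o ∧ q ∈ o ∧ s ∪ t ⊆ o)} =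
        {t : Finset GolayPt | (t.card = 2 ∧ p ∉ t ∧ q ∉ t) ∧ Disjoint s t} \
        {t : Finset GolayPt | (t.card = 2 ∧ p ∉ t ∧ q ∉ t) ∧ Disjoint s t ∧
        (∃ o ∈ octads, p ∈ o ∧ q ∈ o ∧ s ∪ t ⊆ o)} := by
      ext U
      constructor
      · rintro ⟨hc, hd, hn⟩
        exact ⟨⟨hc, hd⟩, fun h => hn h.2.2⟩
      · rintro ⟨⟨hc, hd⟩, hn⟩
        exact ⟨hc, hd, fun h => hn ⟨hc, hd, h⟩⟩
    rw [hdiff, Set.ncard_diff hsub (Set.toFinite _), h1, h2]
  · intro t t' ht ht' hts hts' hc h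
    exact conj_part p q hpq s hs t t' ht ht' hts hts' hc h

end Cfsg.Agent.S1638
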