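import Cfsg.Statements.S1691
import Mathlib

set_option autoImplicit false
open Cfsg

namespace Cfsg.Agent.S1691

set_option maxRecDepth 100000
open Cfsg Cfsg.Spor Cfsg.Spor.Fi24

abbrev rels : Set (FreeGroup Gen) := coxRelators edges ∪ {r | r ∈ extra}

theorem mem_nodes : ∀ x : Gen, x ∈ coxNodes edges := by
  intro x; cases x <;> decide

/-- the sign homomorphism -/
def sgnFun : Gen → Multiplicative (ZMod 2) := fun _ => Multiplicative.ofAdd 1

theorem sgn_sq : (Multiplicative.ofAdd (1 : ZMod 2)) * Multiplicative.ofAdd 1 = 1 := by decide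

theorem sgn_rel : ∀ r ∈ rels, FreeGroup.lift sgnFun r = 1 := by
  rintro r (⟨x, _, y, _, rfl⟩ | hr)
  · rw [map_pow, map_mul, FreeGroup.lift_apply_of, FreeGroup.lift_apply_of]
    show (Multiplicative.ofAdd (1 : ZMod 2) * Multiplicative.ofAdd 1) ^ _ = 1
    rw [sgn_sq, one_pow]
  · have hr' : r = l * (((a * b * c * d * e * f * h) ^ 9)⁻¹) ∨
        r = (d * c * b * a * k * l * d * e * f * g * j * d * h * i) ^ 17 := by
      simpa [extra] using hr
    rcases hr' with rfl | rfl
    · simp only [map_mul, map_pow, map_inv, FreeGroup.lift_apply_of, sgnFun]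
      decide
    · simp only [map_mul, map_pow, FreeGroup.lift_apply_of, sgnFun]
      decide

def sgn : Fi24 →* Multiplicative (ZMod 2) := PresentedGroup.toGroup sgn_rel


theorem rel_eq_one (x y : Gen) :
    ((PresentedGroup.of x : Fi24) * PresentedGroup.of y) ^ (coxLabel edges x y) = 1 := by
  have h : (FreeGroup.of x * FreeGroup.of y) ^ coxLabel edges x y ∈ rels :=
    Or.inl ⟨x, mem_nodes x, y, mem_nodes y, rfl⟩
  have := PresentedGroup.one_of_mem h
  rw [map_pow, map_mul] at this
  exact this

theorem gen_sq (x : Gen) : (PresentedGroup.of x : Fi24) * PresentedGroup.of x = 1 := by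
  have := rel_eq_one x x
  have h1 : coxLabel edges x x = 1 := if_pos rfl
  rw [h1, pow_one] at this
  exact this

/-- images of the generators in the abelianization -/
noncomputable def sA (x : Gen) : Abelianization Fi24 := Abelianization.of (PresentedGroup.of x)

theorem sA_sq (x : Gen) : sA x * sA x = 1 := by
  unfold sA
  rw [← map_mul, gen_sq, map_one]

theorem sA_edge (x y : Gen) (h : coxLabel edges x y = 3) : sA x = sA y := by
  have h1 := rel_eq_one x y
  rw [h] at h1
  have h2 := congrArg (Abelianization.of : Fi24 →* Abelianization Fi24) h1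
  rw [map_pow, map_mul, map_one] at h2
  change (sA x * sA y) ^ 3 = 1 at h2
  have hx := sA_sq x
  have hy := sA_sq y
  have h3 : (sA x * sA y) ^ 3 = sA x * sA y := by
    rw [mul_pow, pow_succ, pow_two, hx, one_mul, pow_succ, pow_two, hy, one_mul]
  rw [h3] at h2
  calc sA x = sA x * (sA y * sA y) := by rw [hy, mul_one]
    _ = (sA x * sA y) * sA y := by rw [mul_assoc]
    _ = sA y := by rw [h2, one_mul]

theorem sA_all (x : Gen) : sA x = sA Gen.d := by
  have e1 : sA Gen.l = sA Gen.k := sA_edge _ _ (by decide)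
  have e2 : sA Gen.k = sA Gen.a := sA_edge _ _ (by decide)
  have e3 : sA Gen.a = sA Gen.b := sA_edge _ _ (by decide)
  have e4 : sA Gen.b = sA Gen.c := sA_edge _ _ (by decide)
  have e5 : sA Gen.c = sA Gen.d := sA_edge _ _ (by decide)
  have e6 : sA Gen.d = sA Gen.e := sA_edge _ _ (by decide)
  have e7 : sA Gen.d = sA Gen.h := sA_edge _ _ (by decide)
  have e8 : sA Gen.e = sA Gen.f := sA_edge _ _ (by decide)
  have e9 : sA Gen.f = sA Gen.g := sA_edge _ _ (by decide)
  have e10 : sA Gen.g = sA Gen.j := sA_edge _ _ (by decide)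
  have e11 : sA Gen.h = sA Gen.i := sA_edge _ _ (by decide)
  cases x
  · rw [e1, e2, e3, e4, e5]
  · rw [e2, e3, e4, e5]
  · rw [e3, e4, e5]
  · rw [e4, e5]
  · rw [e5]
  · rfl
  · rw [← e6]
  · rw [← e8, ← e6]
  · rw [← e9, ← e8, ← e6]
  · rw [← e10, ← e9, ← e8, ← e6]
  · rw [← e7]
  · rw [← e11, ← e7]


theorem main1691 : (commutator Cfsg.Spor.Fi24).index = 2 := by
  have htop : Subgroup.zpowers (sA Gen.d) = ⊤ := by
    have h1 := PresentedGroup.closure_range_of rels
    have h2 := congrArg (Subgroup.map (Abelianization.of : Fi24 →* Abelianization Fi24)) h1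
    rw [MonoidHom.map_closure, Subgroup.map_top_of_surjective _ QuotientGroup.mk_surjective] at h2
    rw [← h2, Subgroup.zpowers_eq_closure]
    congr 1
    ext y
    constructor
    · intro hy
      rw [Set.mem_singleton_iff] at hy
      rw [hy]
      exact ⟨PresentedGroup.of Gen.d, ⟨Gen.d, rfl⟩, rfl⟩
    · rintro ⟨_, ⟨x, rfl⟩, rfl⟩
      exact sA_all x
  have hcard : (commutator Fi24).index = orderOf (sA Gen.d) := by
    rw [Subgroup.index_eq_card, ← Nat.card_zpowers, htop, Subgroup.card_top]
    rfl
  have h2 : orderOf (sA Gen.d) ∣ 2 := orderOf_dvd_of_pow_eq_one (by rw [pow_two]; exact sA_sq _)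
  have hne : (commutator Fi24).index ≠ 1 := by
    intro h
    rw [Subgroup.index_eq_one] at h
    have hle : commutator Fi24 ≤ sgn.ker := Abelianization.commutator_subset_ker sgn
    have hmem : (PresentedGroup.of Gen.d : Fi24) ∈ sgn.ker := hle (h ▸ Subgroup.mem_top _)
    rw [MonoidHom.mem_ker] at hmem
    have h3 : sgn (PresentedGroup.of Gen.d) = Multiplicative.ofAdd 1 :=
      PresentedGroup.toGroup.of sgn_rel
    rw [h3] at hmem
    exact absurd hmem (by decide)
  rw [hcard] at hne ⊢
  rcases (Nat.dvd_prime Nat.prime_two).1 h2 with h | h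
  · exact absurd h hne
  · exact h


/-- The commutator subgroup of the presented group Fi₂₄ has index 2 (the presented group is Fi₂₄′:2 with Fi₂₄′ its derived subgroup). -/
theorem result : (commutator Cfsg.Spor.Fi24).index = 2 := by
  exact main1691 

end Cfsg.Agent.S1691
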