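import Cfsg.Statements.S1717
import Mathlib

set_option autoImplicit false
open Cfsg

namespace Cfsg.Agent.S1717

open Subgroup

theorem abs_sylow {G : Type*} [Group G] [Finite G] (z : G) (hz : orderOf z = 2)
    (T : Sylow 2 (Subgroup.centralizer ({z} : Set G)))
    (hzT : ∃ c ∈ (T : Subgroup (Subgroup.centralizer ({z} : Set G))), (c : G) = z)
    (H : ∀ c : Subgroup.centralizer ({z} : Set G), c ∈ T → (∀ t ∈ T, c * t = t * c) → c = 1 ∨ (c : G) = z) :
    ¬ 2 ∣ ((T : Subgroup (Subgroup.centralizer ({z} : Set G))).map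
      (Subgroup.subtype (Subgroup.centralizer ({z} : Set G)))).index := by
  intro hdvd
  have hT'p : IsPGroup 2 ((T : Subgroup (Subgroup.centralizer ({z} : Set G))).map
      (Subgroup.subtype (Subgroup.centralizer ({z} : Set G)))) := T.isPGroup'.map _
  obtain ⟨S, hTS⟩ := hT'p.exists_le_sylow
  have hSnd : ¬ 2 ∣ (S : Subgroup G).index := S.not_dvd_index
  have hne : ((T : Subgroup (Subgroup.centralizer ({z} : Set G))).map
      (Subgroup.subtype (Subgroup.centralizer ({z} : Set G)))) ≠ S := by
    intro h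
    rw [h] at hdvd
    exact hSnd hdvd
  haveI : Group.IsNilpotent (S : Subgroup G) := S.isPGroup'.isNilpotent
  have hlt : (((T : Subgroup (Subgroup.centralizer ({z} : Set G))).map
      (Subgroup.subtype (Subgroup.centralizer ({z} : Set G)))).subgroupOf (S : Subgroup G)) < ⊤ := by
    rw [lt_top_iff_ne_top]
    intro h
    rw [Subgroup.subgroupOf_eq_top] at h
    exact hne (le_antisymm hTS h)
  have hnc := Group.normalizerCondition_of_isNilpotent (G := (S : Subgroup G)) _ hlt
  obtain ⟨x, hxN, hxT⟩ := SetLike.exists_of_lt hnc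
  rw [Subgroup.mem_normalizer_iff] at hxN
  rw [Subgroup.mem_subgroupOf] at hxT
  -- facts about y = x
  have hy1 : ∀ t ∈ ((T : Subgroup (Subgroup.centralizer ({z} : Set G))).map
      (Subgroup.subtype (Subgroup.centralizer ({z} : Set G)))), (x : G) * t * (x : G)⁻¹ ∈
      ((T : Subgroup (Subgroup.centralizer ({z} : Set G))).map
      (Subgroup.subtype (Subgroup.centralizer ({z} : Set G)))) := by
    intro t ht
    have := (hxN ⟨t, hTS ht⟩).1 (Subgroup.mem_subgroupOf.2 ht)
    exact Subgroup.mem_subgroupOf.1 this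
  have hy2 : ∀ t ∈ ((T : Subgroup (Subgroup.centralizer ({z} : Set G))).map
      (Subgroup.subtype (Subgroup.centralizer ({z} : Set G)))), (x : G)⁻¹ * t * (x : G) ∈
      ((T : Subgroup (Subgroup.centralizer ({z} : Set G))).map
      (Subgroup.subtype (Subgroup.centralizer ({z} : Set G)))) := by
    intro t ht
    have h1 : x * (x⁻¹ * ⟨t, hTS ht⟩ * x) * x⁻¹ = ⟨t, hTS ht⟩ := by group
    have := (hxN (x⁻¹ * ⟨t, hTS ht⟩ * x)).2 (by rw [h1]; exact Subgroup.mem_subgroupOf.2 ht)
    exact Subgroup.mem_subgroupOf.1 this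
  have hcomm : ∀ t ∈ ((T : Subgroup (Subgroup.centralizer ({z} : Set G))).map
      (Subgroup.subtype (Subgroup.centralizer ({z} : Set G)))), t * z = z * t := by
    intro t ht
    obtain ⟨c, -, rfl⟩ := Subgroup.mem_map.1 ht
    exact Subgroup.mem_centralizer_singleton_iff.1 c.2
  have hzT' : z ∈ ((T : Subgroup (Subgroup.centralizer ({z} : Set G))).map
      (Subgroup.subtype (Subgroup.centralizer ({z} : Set G)))) := by
    obtain ⟨c, hc, hcz⟩ := hzT
    exact Subgroup.mem_map.2 ⟨c, hc, hcz⟩
  obtain ⟨c, hcT, hc⟩ := Subgroup.mem_map.1 (hy1 z hzT')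
  have hc' : (c : G) = (x : G) * z * (x : G)⁻¹ := hc
  have hcentral : ∀ t ∈ T, c * t = t * c := by
    intro t ht
    apply Subtype.ext
    rw [Subgroup.coe_mul, Subgroup.coe_mul, hc']
    have h1 := hcomm _ (hy2 (t : G) (Subgroup.mem_map.2 ⟨t, ht, rfl⟩))
    calc (x : G) * z * (x : G)⁻¹ * (t : G) = (x : G) * (z * ((x : G)⁻¹ * (t : G) * (x : G))) * (x : G)⁻¹ := by group
      _ = (x : G) * (((x : G)⁻¹ * (t : G) * (x : G)) * z) * (x : G)⁻¹ := by rw [h1]
      _ = (t : G) * ((x : G) * z * (x : G)⁻¹) := by group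
  have hz1 : z ≠ 1 := by
    rintro rfl
    rw [orderOf_one] at hz
    omega
  have hxz : (x : G) * z * (x : G)⁻¹ = z := by
    rcases H c hcT hcentral with h | h
    · exfalso
      apply hz1
      have : (x : G) * z * (x : G)⁻¹ = 1 := by rw [← hc', h]; rfl
      have h2 : z = (x : G)⁻¹ * ((x : G) * z * (x : G)⁻¹) * (x : G) := by group
      rw [h2, this]
      group
    · rw [← hc', h]
  have hxC : (x : G) ∈ Subgroup.centralizer ({z} : Set G) := by
    rw [Subgroup.mem_centralizer_singleton_iff]
    calc (x : G) * z = ((x : G) * z * (x : G)⁻¹) * (x : G) := by group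
      _ = z * (x : G) := by rw [hxz]
  have hP : IsPGroup 2 ((S : Subgroup G).comap (Subgroup.centralizer ({z} : Set G)).subtype) :=
    S.isPGroup'.comap_subtype
  have hTP : (T : Subgroup (Subgroup.centralizer ({z} : Set G))) ≤
      (S : Subgroup G).comap (Subgroup.centralizer ({z} : Set G)).subtype := by
    intro t ht
    rw [Subgroup.mem_comap]
    exact hTS (Subgroup.mem_map.2 ⟨t, ht, rfl⟩)
  have hPT := T.is_maximal' hP hTP
  have hxP : (⟨(x : G), hxC⟩ : Subgroup.centralizer ({z} : Set G)) ∈
      (S : Subgroup G).comap (Subgroup.centralizer ({z} : Set G)).subtype := by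
    rw [Subgroup.mem_comap]
    exact x.2
  rw [hPT] at hxP
  exact hxT (Subgroup.mem_map.2 ⟨_, hxP, rfl⟩)

abbrev M5 := Matrix (Fin 5) (Fin 5) (ZMod 2)
abbrev SL5 := Matrix.SpecialLinearGroup (Fin 5) (ZMod 2)

theorem comm_single {M : M5} {i j : Fin 5}
    (h : M * Matrix.transvection i j 1 = Matrix.transvection i j 1 * M) :
    M * Matrix.single i j 1 = Matrix.single i j 1 * M := by
  unfold Matrix.transvection at h
  rw [mul_add, add_mul, mul_one, one_mul] at h
  exact add_left_cancel h

theorem comm_col {M : M5} {i j : Fin 5}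
    (h : M * Matrix.transvection i j 1 = Matrix.transvection i j 1 * M) (a : Fin 5) :
    M a i = if a = i then M j j else 0 := by
  have := congrFun (congrFun (comm_single h) a) j
  rw [Matrix.mul_single_apply_same, mul_one] at this
  rw [this]
  split_ifs with hai
  · subst hai
    rw [Matrix.single_mul_apply_same, one_mul]
  · rw [Matrix.single_mul_apply_of_ne _ _ _ _ _ hai]

theorem comm_row {M : M5} {i j : Fin 5}
    (h : M * Matrix.transvection i j 1 = Matrix.transvection i j 1 * M) (b : Fin 5) :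
    M j b = if b = j then M i i else 0 := by
  have := congrFun (congrFun (comm_single h) i) b
  rw [Matrix.single_mul_apply_same, one_mul] at this
  rw [← this]
  split_ifs with hbj
  · subst hbj
    rw [Matrix.mul_single_apply_same, mul_one]
  · rw [Matrix.mul_single_apply_of_ne _ _ _ _ _ hbj]

theorem zmod2_cases : ∀ c : ZMod 2, c ≠ 0 → c = 1 := by decide

theorem inC (x s : SL5) (hs : (s : M5) = Matrix.transvection 0 1 1) (hx : x * s = s * x) :
    (∀ a, x.1 a 0 = if a = 0 then 1 else 0) ∧ (∀ b, x.1 1 b = if b = 1 then 1 else 0) := by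
  have h : x.1 * Matrix.transvection 0 1 1 = Matrix.transvection 0 1 1 * x.1 := by
    have := congrArg (fun g : SL5 => g.1) hx
    simp only [Matrix.SpecialLinearGroup.coe_mul] at this
    rw [← hs]
    exact this
  have hcol := comm_col h
  have hrow := comm_row h
  have h01 : x.1 0 0 = x.1 1 1 := by
    have := hcol 0
    simpa using this
  have h00 : x.1 0 0 = 1 := by
    apply zmod2_cases
    intro h0
    have hdet : x.1.det = 0 := by
      apply Matrix.det_eq_zero_of_column_eq_zero 0
      intro a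
      rw [hcol a]
      split_ifs with ha
      · rw [← h01, h0]
      · rfl
    rw [x.2] at hdet
    exact one_ne_zero hdet
  refine ⟨fun a => ?_, fun b => ?_⟩
  · rw [hcol a, ← h01, h00]
  · rw [hrow b, h00]

theorem sq_one (M : M5) (hN : ∀ a k b, (M - 1) a k * (M - 1) k b = 0) : M * M = 1 := by
  have hNN : (M - 1) * (M - 1) = 0 := by
    ext a b
    rw [Matrix.mul_apply]
    exact Finset.sum_eq_zero (fun k _ => hN a k b)
  have h2 : (M - 1) + (M - 1) = 0 := by
    ext a b
    exact CharTwo.add_self_eq_zero ((M - 1) a b)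
  have : M * M = (M - 1) * (M - 1) + ((M - 1) + (M - 1)) + 1 := by noncomm_ring
  rw [this, hNN, h2]
  simp

theorem sq_A (M : M5) (h00 : M 0 0 = 1) (hrow : ∀ a b, a ≠ 0 → M a b = if a = b then 1 else 0) :
    M * M = 1 := by
  apply sq_one
  intro a k b
  simp only [Matrix.sub_apply, Matrix.one_apply]
  by_cases hk : k = 0
  · subst hk
    by_cases ha : a = 0
    · subst ha
      rw [h00]
      simp
    · rw [hrow a 0 ha]
      simp
  · rw [hrow k b hk]
    simp

theorem sq_B (M : M5) (h11 : M 1 1 = 1) (hcol : ∀ a b, b ≠ 1 → M a b = if a = b then 1 else 0) :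
    M * M = 1 := by
  apply sq_one
  intro a k b
  simp only [Matrix.sub_apply, Matrix.one_apply]
  by_cases hk : k = 1
  · subst hk
    by_cases hb : b = 1
    · subst hb
      rw [h11]
      simp
    · rw [hcol 1 b hb]
      simp
  · rw [hcol a k hk]
    simp

theorem eq_one_or (M : M5) (hrow : ∀ a b, a ≠ 0 → M a b = if a = b then 1 else 0)
    (hcol : ∀ a b, b ≠ 1 → M a b = if a = b then 1 else 0) :
    M = 1 ∨ M = Matrix.transvection 0 1 1 := by
  have h01 : M 0 1 = 0 ∨ M 0 1 = 1 := by
    by_cases h : M 0 1 = 0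
    · exact Or.inl h
    · exact Or.inr (zmod2_cases _ h)
  rcases h01 with h | h
  · left
    ext a b
    by_cases ha : a = 0
    · by_cases hb : b = 1
      · subst ha hb
        rw [h]
        simp
      · rw [hcol a b hb, Matrix.one_apply]
    · rw [hrow a b ha, Matrix.one_apply]
  · right
    ext a b
    unfold Matrix.transvection
    rw [Matrix.add_apply, Matrix.one_apply, Matrix.single_apply]
    by_cases ha : a = 0
    · by_cases hb : b = 1
      · subst ha hb
        rw [h]
        simp
      · rw [hcol a b hb]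
        simp [Ne.symm hb]
    · rw [hrow a b ha]
      simp [Ne.symm ha]

def phiA (s : SL5) (hs : (s : M5) = Matrix.transvection 0 1 1) :
    Subgroup.centralizer ({s} : Set SL5) →* Matrix (Fin 4) (Fin 4) (ZMod 2) where
  toFun g := g.1.1.submatrix Fin.succ Fin.succ
  map_one' := by
    show (1 : M5).submatrix Fin.succ Fin.succ = 1
    exact Matrix.submatrix_one _ (Fin.succ_injective _)
  map_mul' g h := by
    have hg := (inC g.1 s hs (Subgroup.mem_centralizer_singleton_iff.1 g.2)).1
    ext i j
    show (g.1.1 * h.1.1) i.succ j.succ = (g.1.1.submatrix Fin.succ Fin.succ * h.1.1.submatrix Fin.succ Fin.succ) i j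
    rw [Matrix.mul_apply, Matrix.mul_apply, Fin.sum_univ_succ, hg (Fin.succ i), if_neg (Fin.succ_ne_zero i),
      zero_mul, zero_add]
    rfl

def phiB (s : SL5) (hs : (s : M5) = Matrix.transvection 0 1 1) :
    Subgroup.centralizer ({s} : Set SL5) →* Matrix (Fin 4) (Fin 4) (ZMod 2) where
  toFun g := g.1.1.submatrix (Fin.succAbove 1) (Fin.succAbove 1)
  map_one' := by
    show (1 : M5).submatrix (Fin.succAbove 1) (Fin.succAbove 1) = 1
    exact Matrix.submatrix_one _ Fin.succAbove_right_injective
  map_mul' g h := by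
    have hh := (inC h.1 s hs (Subgroup.mem_centralizer_singleton_iff.1 h.2)).2
    ext i j
    show (g.1.1 * h.1.1) ((1 : Fin 5).succAbove i) ((1 : Fin 5).succAbove j) =
      (g.1.1.submatrix (Fin.succAbove 1) (Fin.succAbove 1) * h.1.1.submatrix (Fin.succAbove 1) (Fin.succAbove 1)) i j
    rw [Matrix.mul_apply, Matrix.mul_apply, Fin.sum_univ_succAbove _ 1, hh ((1 : Fin 5).succAbove j),
      if_neg (Fin.succAbove_ne 1 j), mul_zero, zero_add]
    rfl

theorem rowA (s : SL5) (hs : (s : M5) = Matrix.transvection 0 1 1)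
    (g : Subgroup.centralizer ({s} : Set SL5)) (hg : g ∈ (phiA s hs).ker) :
    ∀ a b, a ≠ 0 → g.1.1 a b = if a = b then 1 else 0 := by
  intro a b ha
  obtain ⟨i, rfl⟩ := Fin.exists_succ_eq.2 ha
  have hc := (inC g.1 s hs (Subgroup.mem_centralizer_singleton_iff.1 g.2)).1
  have hk : g.1.1.submatrix Fin.succ Fin.succ = 1 := hg
  refine Fin.cases ?_ (fun j => ?_) b
  · rw [hc, if_neg (Fin.succ_ne_zero i)]
  · have := congrFun (congrFun hk i) j
    rw [Matrix.submatrix_apply, Matrix.one_apply] at this
    rw [this]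
    simp [Fin.succ_inj]

theorem colB (s : SL5) (hs : (s : M5) = Matrix.transvection 0 1 1)
    (g : Subgroup.centralizer ({s} : Set SL5)) (hg : g ∈ (phiB s hs).ker) :
    ∀ a b, b ≠ 1 → g.1.1 a b = if a = b then 1 else 0 := by
  intro a b hb
  obtain ⟨j, rfl⟩ := Fin.exists_succAbove_eq hb
  have hc := (inC g.1 s hs (Subgroup.mem_centralizer_singleton_iff.1 g.2)).2
  have hk : g.1.1.submatrix (Fin.succAbove 1) (Fin.succAbove 1) = 1 := hg
  by_cases ha : a = 1
  · subst ha
    rw [hc, if_neg (Fin.succAbove_ne 1 j), if_neg (Fin.succAbove_ne 1 j).symm]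
  · obtain ⟨i, rfl⟩ := Fin.exists_succAbove_eq ha
    have := congrFun (congrFun hk i) j
    rw [Matrix.submatrix_apply, Matrix.one_apply] at this
    rw [this]
    simp

theorem pA (s : SL5) (hs : (s : M5) = Matrix.transvection 0 1 1) : IsPGroup 2 (phiA s hs).ker := by
  intro g
  refine ⟨1, ?_⟩
  rw [pow_one, sq]
  apply Subtype.ext
  apply Subtype.ext
  apply Subtype.ext
  have h00 := (inC g.1.1 s hs (Subgroup.mem_centralizer_singleton_iff.1 g.1.2)).1 0
  exact sq_A g.1.1.1 (by simpa using h00) (rowA s hs g.1 g.2)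

theorem pB (s : SL5) (hs : (s : M5) = Matrix.transvection 0 1 1) : IsPGroup 2 (phiB s hs).ker := by
  intro g
  refine ⟨1, ?_⟩
  rw [pow_one, sq]
  apply Subtype.ext
  apply Subtype.ext
  apply Subtype.ext
  have h11 := (inC g.1.1 s hs (Subgroup.mem_centralizer_singleton_iff.1 g.1.2)).2 1
  exact sq_B g.1.1.1 (by simpa using h11) (colB s hs g.1 g.2)

theorem tv_comm_A : ∀ j : Fin 5, j ≠ 0 → (Matrix.transvection 0 j 1 : M5) * Matrix.transvection 0 1 1 =
    Matrix.transvection 0 1 1 * Matrix.transvection 0 j 1 := by decide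
theorem tv_ker_A : ∀ j : Fin 5, j ≠ 0 →
    (Matrix.transvection 0 j 1 : M5).submatrix Fin.succ Fin.succ = 1 := by decide
theorem tv_comm_B : ∀ i : Fin 5, i ≠ 1 → (Matrix.transvection i 1 1 : M5) * Matrix.transvection 0 1 1 =
    Matrix.transvection 0 1 1 * Matrix.transvection i 1 1 := by decide
theorem tv_ker_B : ∀ i : Fin 5, i ≠ 1 →
    (Matrix.transvection i 1 1 : M5).submatrix (Fin.succAbove 1) (Fin.succAbove 1) = 1 := by decide

def mkSL (M : M5) (h : M.det = 1) : SL5 := ⟨M, h⟩

theorem mkSL_val (M : M5) (h : M.det = 1) : (mkSL M h).1 = M := rfl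

theorem F4 (s : SL5) (hs : (s : M5) = Matrix.transvection 0 1 1)
    (x : Subgroup.centralizer ({s} : Set SL5))
    (hA : ∀ a ∈ (phiA s hs).ker, x * a = a * x) (hB : ∀ b ∈ (phiB s hs).ker, x * b = b * x) :
    x = 1 ∨ (x : SL5) = s := by
  obtain ⟨hc0, hr1⟩ := inC x.1 s hs (Subgroup.mem_centralizer_singleton_iff.1 x.2)
  have h00 : x.1.1 0 0 = 1 := by simpa using hc0 0
  have h11 : x.1.1 1 1 = 1 := by simpa using hr1 1
  have hrow : ∀ a b, a ≠ 0 → x.1.1 a b = if a = b then 1 else 0 := by
    intro a b ha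
    have hdet : (Matrix.transvection 0 a 1 : M5).det = 1 :=
      Matrix.det_transvection_of_ne 0 a (Ne.symm ha) 1
    have hmem : mkSL (Matrix.transvection 0 a 1) hdet ∈ Subgroup.centralizer ({s} : Set SL5) := by
      refine Subgroup.mem_centralizer_singleton_iff.2 ?_
      apply Subtype.ext
      rw [Matrix.SpecialLinearGroup.coe_mul, Matrix.SpecialLinearGroup.coe_mul, hs]
      exact tv_comm_A a ha
    have hker : (⟨mkSL (Matrix.transvection 0 a 1) hdet, hmem⟩ : Subgroup.centralizer ({s} : Set SL5)) ∈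
        (phiA s hs).ker := by
      rw [MonoidHom.mem_ker]
      exact tv_ker_A a ha
    have h1 := hA _ hker
    have h2 : x.1.1 * Matrix.transvection 0 a 1 = Matrix.transvection 0 a 1 * x.1.1 :=
      congrArg (fun g : Subgroup.centralizer ({s} : Set SL5) => g.1.1) h1
    have := comm_row h2 b
    rw [this, h00]
    simp [eq_comm]
  have hcol : ∀ a b, b ≠ 1 → x.1.1 a b = if a = b then 1 else 0 := by
    intro a b hb
    have hdet : (Matrix.transvection b 1 1 : M5).det = 1 :=
      Matrix.det_transvection_of_ne b 1 hb 1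
    have hmem : mkSL (Matrix.transvection b 1 1) hdet ∈ Subgroup.centralizer ({s} : Set SL5) := by
      refine Subgroup.mem_centralizer_singleton_iff.2 ?_
      apply Subtype.ext
      rw [Matrix.SpecialLinearGroup.coe_mul, Matrix.SpecialLinearGroup.coe_mul, hs]
      exact tv_comm_B b hb
    have hker : (⟨mkSL (Matrix.transvection b 1 1) hdet, hmem⟩ : Subgroup.centralizer ({s} : Set SL5)) ∈
        (phiB s hs).ker := by
      rw [MonoidHom.mem_ker]
      exact tv_ker_B b hb
    have h1 := hB _ hker
    have h2 : x.1.1 * Matrix.transvection b 1 1 = Matrix.transvection b 1 1 * x.1.1 :=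
      congrArg (fun g : Subgroup.centralizer ({s} : Set SL5) => g.1.1) h1
    have := comm_col h2 a
    rw [this, h11]
  rcases eq_one_or x.1.1 hrow hcol with h | h
  · left
    apply Subtype.ext
    apply Subtype.ext
    exact h
  · right
    apply Subtype.ext
    rw [h, hs]

theorem main1717 {G : Type*} [Group G] [Finite G] (s : Matrix.SpecialLinearGroup (Fin 5) (ZMod 2)) (hs : (s : Matrix (Fin 5) (Fin 5) (ZMod 2)) = Matrix.transvection 0 1 1) (z : G) (hz : orderOf z = 2) (e : (Subgroup.centralizer ({z} : Set G)) ≃* Subgroup.centralizer ({s} : Set (Matrix.SpecialLinearGroup (Fin 5) (ZMod 2)))) (T : Sylow 2 (Subgroup.centralizer ({z} : Set G))) : ¬ 2 ∣ ((T : Subgroup (Subgroup.centralizer ({z} : Set G))).map (Subgroup.subtype (Subgroup.centralizer ({z} : Set G)))).index := by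
  have hzmem : z ∈ Subgroup.centralizer ({z} : Set G) := Subgroup.mem_centralizer_singleton_iff.2 rfl
  have hsmem : s ∈ Subgroup.centralizer ({s} : Set SL5) := Subgroup.mem_centralizer_singleton_iff.2 rfl
  have hAT : ∀ a ∈ (phiA s hs).ker, e.symm a ∈ (T : Subgroup (Subgroup.centralizer ({z} : Set G))) := by
    intro a ha
    haveI : ((phiA s hs).ker.map e.symm.toMonoidHom).Normal :=
      Subgroup.Normal.map inferInstance _ e.symm.surjective
    exact (IsPGroup.le_sylow_of_normal ((pA s hs).map e.symm.toMonoidHom) T)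
      (Subgroup.mem_map_of_mem e.symm.toMonoidHom ha)
  have hBT : ∀ a ∈ (phiB s hs).ker, e.symm a ∈ (T : Subgroup (Subgroup.centralizer ({z} : Set G))) := by
    intro a ha
    haveI : ((phiB s hs).ker.map e.symm.toMonoidHom).Normal :=
      Subgroup.Normal.map inferInstance _ e.symm.surjective
    exact (IsPGroup.le_sylow_of_normal ((pB s hs).map e.symm.toMonoidHom) T)
      (Subgroup.mem_map_of_mem e.symm.toMonoidHom ha)
  have hcent : ∀ c : Subgroup.centralizer ({z} : Set G), (∀ t ∈ T, c * t = t * c) →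
      e c = 1 ∨ ((e c : Subgroup.centralizer ({s} : Set SL5)) : SL5) = s := by
    intro c hc
    apply F4 s hs
    · intro a ha
      have := congrArg e (hc _ (hAT a ha))
      simpa using this
    · intro a ha
      have := congrArg e (hc _ (hBT a ha))
      simpa using this
  have hzc : ∀ t : Subgroup.centralizer ({z} : Set G),
      (⟨z, hzmem⟩ : Subgroup.centralizer ({z} : Set G)) * t = t * ⟨z, hzmem⟩ := by
    intro t
    apply Subtype.ext
    exact (Subgroup.mem_centralizer_singleton_iff.1 t.2).symm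
  have hz1 : (⟨z, hzmem⟩ : Subgroup.centralizer ({z} : Set G)) ≠ 1 := by
    intro h
    have : z = 1 := congrArg Subtype.val h
    rw [this, orderOf_one] at hz
    omega
  have hez : ((e ⟨z, hzmem⟩ : Subgroup.centralizer ({s} : Set SL5)) : SL5) = s := by
    rcases hcent ⟨z, hzmem⟩ (fun t _ => hzc t) with h | h
    · exfalso
      apply hz1
      exact e.injective (by rw [h, map_one])
    · exact h
  have hez' : e ⟨z, hzmem⟩ = ⟨s, hsmem⟩ := Subtype.ext hez
  apply abs_sylow z hz T
  · refine ⟨⟨z, hzmem⟩, ?_, rfl⟩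
    have : (⟨z, hzmem⟩ : Subgroup.centralizer ({z} : Set G)) = e.symm ⟨s, hsmem⟩ := by
      rw [← hez', e.symm_apply_apply]
    rw [this]
    apply hAT
    rw [MonoidHom.mem_ker]
    show (s : M5).submatrix Fin.succ Fin.succ = 1
    rw [hs]
    exact tv_ker_A 1 (by decide)
  · intro c hcT hc
    rcases hcent c hc with h | h
    · left
      exact e.injective (by rw [h, map_one])
    · right
      have h3 : e c = e ⟨z, hzmem⟩ := by
        rw [hez']
        exact Subtype.ext h
      have := e.injective h3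
      rw [this]


/-- Let G be a finite group with an involution z whose centraliser C is isomorphic to the centraliser of a transvection of SL(5, 2). Then a Sylow 2-subgroup of C, viewed in G, is a Sylow 2-subgroup of G (its index in G is odd). -/
theorem result {G : Type*} [Group G] [Finite G] (s : Matrix.SpecialLinearGroup (Fin 5) (ZMod 2)) (hs : (s : Matrix (Fin 5) (Fin 5) (ZMod 2)) = Matrix.transvection 0 1 1) (z : G) (hz : orderOf z = 2) (e : (Subgroup.centralizer ({z} : Set G)) ≃* Subgroup.centralizer ({s} : Set (Matrix.SpecialLinearGroup (Fin 5) (ZMod 2)))) (T : Sylow 2 (Subgroup.centralizer ({z} : Set G))) : ¬ 2 ∣ ((T : Subgroup (Subgroup.centralizer ({z} : Set G))).map (Subgroup.subtype (Subgroup.centralizer ({z} : Set G)))).index := by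
  exact main1717 s hs z hz e T

end Cfsg.Agent.S1717
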