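import Mathlib
import Cfsg.Statements.S1754
import Cfsg.Agent.Lib.Helper3.Quasi
import Cfsg.Agent.Lib.Helper3.Conj

set_option autoImplicit false
open Cfsg
open Cfsg.Agent.Lib.Helper3

namespace Cfsg.Agent.S1754

theorem result {G : Type*} [Group G] [Finite G]
    (A : Subgroup G) (hA : Cfsg.IsStandardSubgroup A) (t : G) (ht : orderOf t = 2) (htA : t ∈ Subgroup.centralizer (A : Set G)) :
    Subgroup.centralizer ({t} : Set G) ≤ Subgroup.normalizer (A : Set G) ∧
      Cfsg.IsComponent (A.subgroupOf (Subgroup.centralizer ({t} : Set G))) := by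
  obtain ⟨hq, ⟨-, htight⟩, -, hN⟩ := hA
  set K := Subgroup.centralizer (A : Set G) with hK
  have hle : Subgroup.centralizer ({t} : Set G) ≤ Subgroup.normalizer (A : Set G) := by
    intro g hg
    rw [hN]
    by_contra hgn
    have hodd := htight g hgn
    have htg : t ∈ K.map (MulAut.conj g).toMonoidHom := by
      rw [mem_map_conj]
      have h1 : g * t = t * g := (Subgroup.mem_centralizer_iff.mp hg t rfl).symm
      have h2 : g⁻¹ * t * g = t := by
        rw [mul_assoc, ← h1]; group
      rw [h2]; exact htA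
    have hmem : t ∈ K ⊓ K.map (MulAut.conj g).toMonoidHom := ⟨htA, htg⟩
    have hdvd : 2 ∣ Nat.card ↥(K ⊓ K.map (MulAut.conj g).toMonoidHom) := by
      have := orderOf_dvd_natCard (⟨t, hmem⟩ : ↥(K ⊓ K.map (MulAut.conj g).toMonoidHom))
      rwa [Subgroup.orderOf_mk, ht] at this
    exact (Nat.not_even_iff_odd.mpr hodd) (even_iff_two_dvd.mpr hdvd)
  refine ⟨hle, ?_, ?_⟩
  · exact (Subgroup.normal_subgroupOf_of_le_normalizer hle).isSubnormal
  · have hAC : A ≤ Subgroup.centralizer ({t} : Set G) := by
      intro a ha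
      rw [Subgroup.mem_centralizer_iff]
      intro z hz
      rw [Set.mem_singleton_iff] at hz
      rw [hz]
      exact (Subgroup.mem_centralizer_iff.mp htA a ha).symm
    exact isQuasisimple_of_mulEquiv (Subgroup.subgroupOfEquivOfLe hAC).symm hq

end Cfsg.Agent.S1754
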