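import Cfsg.Statements.S1755
import Cfsg.Agent.Lib.Helper1.NilpCenter
import Cfsg.Agent.Lib.Helper3.Transport

set_option autoImplicit false
open Cfsg

namespace Cfsg.Agent.S1755

theorem cyclic_invol_unique {Z : Type*} [Group Z] [Finite Z] [IsCyclic Z] (a b : Z)
    (ha : orderOf a = 2) (hb : orderOf b = 2) : a = b := by
  classical
  haveI := Fintype.ofFinite Z
  by_contra hab
  have h1 : a ≠ 1 := by intro h; rw [h, orderOf_one] at ha; omega
  have h2 : b ≠ 1 := by intro h; rw [h, orderOf_one] at hb; omega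
  have hsub : ({1, a, b} : Finset Z) ⊆ Finset.univ.filter (fun x : Z => x ^ 2 = 1) := by
    intro x hx
    simp only [Finset.mem_insert, Finset.mem_singleton] at hx
    simp only [Finset.mem_filter, Finset.mem_univ, true_and]
    rcases hx with hx | hx | hx
    · rw [hx, one_pow]
    · rw [hx]; exact (orderOf_dvd_iff_pow_eq_one.1 (by rw [ha]))
    · rw [hx]; exact (orderOf_dvd_iff_pow_eq_one.1 (by rw [hb]))
  have hc : ({1, a, b} : Finset Z).card = 3 := by
    rw [Finset.card_insert_of_notMem, Finset.card_insert_of_notMem, Finset.card_singleton]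
    · simpa using hab
    · simp only [Finset.mem_insert, Finset.mem_singleton, not_or]
      exact ⟨h1.symm, h2.symm⟩
  have h3 := Finset.card_le_card hsub
  have h4 : (Finset.univ.filter (fun x : Z => x ^ 2 = 1)).card ≤ 2 := by
    convert IsCyclic.card_pow_eq_one_le (α := Z) (n := 2) (by norm_num)
  omega

theorem exists_pow_invol {Q : Type*} [Group Q] (hQ : IsPGroup 2 Q) (x : Q) (hx : x ≠ 1) :
    ∃ n : ℕ, orderOf (x ^ n) = 2 := by
  obtain ⟨k, hk⟩ := hQ x
  have hd : orderOf x ∣ 2 ^ k := orderOf_dvd_of_pow_eq_one hk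
  obtain ⟨j, hjk, hj⟩ := (Nat.dvd_prime_pow Nat.prime_two).1 hd
  have hj0 : j ≠ 0 := by
    intro h0; rw [h0, pow_zero, orderOf_eq_one_iff] at hj; exact hx hj
  obtain ⟨i, rfl⟩ : ∃ i, j = i + 1 := ⟨j - 1, by omega⟩
  refine ⟨2 ^ i, ?_⟩
  rw [orderOf_pow_of_dvd (by positivity) (by rw [hj]; exact ⟨2, by ring⟩), hj, pow_succ]
  exact Nat.mul_div_cancel_left 2 (by positivity)

theorem key2 {G Q : Type*} [Group G] [Group Q] [Finite Q] (ι : Q →* G) (hι : Function.Injective ι)
    (hQ : Cfsg.IsOfSymplecticType Q) (B : Subgroup Q) (hBc : B.Characteristic)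
    (hBa : IsMulCommutative ↥B)
    (zQ : Q) (hzQord : orderOf zQ = 2) (hzQcen : zQ ∈ Subgroup.center Q) (g : G)
    (hnorm : g * ι zQ * g⁻¹ = ι zQ → ∃ φ : MulAut Q, ∀ q, ι (φ q) = g * ι q * g⁻¹) :
    (B.map ι).map (MulAut.conj g).toMonoidHom = B.map ι ∨
      (B.map ι).map (MulAut.conj g).toMonoidHom ⊓ B.map ι = ⊥ := by
  classical
  by_cases hB : B = ⊥
  · right; rw [hB]; simp
  have hQ2 : IsPGroup 2 Q := hQ.1
  have : Group.IsNilpotent Q := hQ2.isNilpotent
  have : B.Normal := inferInstance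
  obtain ⟨x, hxB, hxZ, hx1⟩ := Cfsg.Agent.Lib.Helper1.exists_mem_center_of_isNilpotent B hB
  obtain ⟨n, hn⟩ := exists_pow_invol hQ2 x hx1
  haveI hZcyc : IsCyclic ↥(Subgroup.center Q) := hQ.2 _ inferInstance inferInstance
  have hzB : zQ ∈ B := by
    have h1 : (⟨x ^ n, Subgroup.pow_mem _ hxZ n⟩ : ↥(Subgroup.center Q)) = ⟨zQ, hzQcen⟩ := by
      apply cyclic_invol_unique
      · rw [Subgroup.orderOf_mk]; exact hn
      · rw [Subgroup.orderOf_mk]; exact hzQord
    have h2 : x ^ n = zQ := congrArg Subtype.val h1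
    rw [← h2]; exact Subgroup.pow_mem _ hxB n
  haveI hBcyc : IsCyclic ↥B := hQ.2 B hBc hBa
  have hA : ∀ b ∈ B, ∀ n : ℕ, orderOf (b ^ n) = 2 → b ^ n = zQ := by
    intro b hb n hn
    have h1 : (⟨b ^ n, Subgroup.pow_mem _ hb n⟩ : ↥B) = ⟨zQ, hzB⟩ := by
      apply cyclic_invol_unique
      · rw [Subgroup.orderOf_mk]; exact hn
      · rw [Subgroup.orderOf_mk]; exact hzQord
    exact congrArg Subtype.val h1
  by_cases hint : (B.map ι).map (MulAut.conj g).toMonoidHom ⊓ B.map ι = ⊥
  · right; exact hint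
  left
  obtain ⟨⟨y, hy⟩, hy1⟩ := Subgroup.ne_bot_iff_exists_ne_one.1 hint
  obtain ⟨hyg, hyB⟩ := Subgroup.mem_inf.1 hy
  obtain ⟨b, hbB, rfl⟩ := Subgroup.mem_map.1 hyB
  obtain ⟨y', hy', hyy'⟩ := Subgroup.mem_map.1 hyg
  obtain ⟨b', hb'B, rfl⟩ := Subgroup.mem_map.1 hy'
  have hb1 : b ≠ 1 := by
    rintro rfl
    exact hy1 (Subtype.ext (map_one ι))
  obtain ⟨m, hm⟩ := exists_pow_invol hQ2 b hb1
  have h1 : b ^ m = zQ := hA b hbB m hm
  have hψinj : Function.Injective ((MulAut.conj g).toMonoidHom.comp ι) := by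
    intro a c hac
    exact hι ((MulAut.conj g).injective hac)
  have hψ : ((MulAut.conj g).toMonoidHom.comp ι) (b' ^ m) = ι zQ := by
    rw [map_pow, MonoidHom.comp_apply, hyy', ← map_pow, h1]
  have hord' : orderOf (b' ^ m) = 2 := by
    rw [← orderOf_injective _ hψinj, hψ, orderOf_injective _ hι, hzQord]
  have h2 : b' ^ m = zQ := hA b' hb'B m hord'
  have hfix : g * ι zQ * g⁻¹ = ι zQ := by
    rw [h2] at hψ; exact hψ
  obtain ⟨φ, hφ⟩ := hnorm hfix
  have hφB : B.map φ.toMonoidHom = B := Subgroup.characteristic_iff_map_eq.1 hBc φ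
  have hcomp : (MulAut.conj g).toMonoidHom.comp ι = ι.comp φ.toMonoidHom :=
    MonoidHom.ext fun q => (hφ q).symm
  rw [Subgroup.map_map, hcomp, ← Subgroup.map_map, hφB]

theorem central_mem_genFitting {C : Type*} [Group C] (c : C) (hc : c ∈ Subgroup.center C) :
    c ∈ Cfsg.generalizedFittingSubgroup C := by
  have h1 : Subgroup.center C ≤ Cfsg.fittingSubgroup C := by
    apply le_sSup
    refine ⟨inferInstance, ?_⟩
    letI : CommGroup ↥(Subgroup.center C) :=
      { (inferInstance : Group ↥(Subgroup.center C)) with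
        mul_comm := fun a b => IsMulCommutative.is_comm.comm a b }
    exact CommGroup.isNilpotent
  exact (show Cfsg.fittingSubgroup C ≤ Cfsg.layer C ⊔ Cfsg.fittingSubgroup C from le_sup_right)
    (h1 hc)

theorem key {G : Type*} [Group G] [Finite G] (z : G) (hz : orderOf z = 2)
    (C : Subgroup G) (hC : ∀ x : G, x ∈ C ↔ x * z = z * x)
    (Q : Subgroup ↥C) [hQn : Q.Normal] (hzQ : ∀ hzC : z ∈ C, (⟨z, hzC⟩ : ↥C) ∈ Q)
    (hQ : Cfsg.IsOfSymplecticType ↥Q) (B : Subgroup ↥Q) (hBc : B.Characteristic)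
    (hBa : IsMulCommutative ↥B) (g : G) :
    (B.map (C.subtype.comp Q.subtype)).map (MulAut.conj g).toMonoidHom =
        B.map (C.subtype.comp Q.subtype) ∨
      (B.map (C.subtype.comp Q.subtype)).map (MulAut.conj g).toMonoidHom ⊓
        B.map (C.subtype.comp Q.subtype) = ⊥ := by
  have hzC : z ∈ C := (hC z).2 rfl
  have hιinj : Function.Injective (C.subtype.comp Q.subtype) := by
    intro a b hab
    exact Subtype.ext (Subtype.ext hab)
  have hzQdef : (C.subtype.comp Q.subtype) ⟨⟨z, hzC⟩, hzQ hzC⟩ = z := rfl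
  have hzQord : orderOf (⟨⟨z, hzC⟩, hzQ hzC⟩ : ↥Q) = 2 := by
    rw [← orderOf_injective _ hιinj, hzQdef, hz]
  have hzQcen : (⟨⟨z, hzC⟩, hzQ hzC⟩ : ↥Q) ∈ Subgroup.center ↥Q := by
    rw [Subgroup.mem_center_iff]
    intro q
    apply hιinj
    rw [map_mul, map_mul, hzQdef]
    exact (hC _).1 (q : ↥C).2
  refine key2 (C.subtype.comp Q.subtype) hιinj hQ B hBc hBa _ hzQord hzQcen g ?_
  intro hfix
  rw [hzQdef] at hfix
  have hgC : g ∈ C := (hC g).2 (mul_inv_eq_iff_eq_mul.1 hfix)
  refine ⟨MulAut.conjNormal (⟨g, hgC⟩ : ↥C), fun q => ?_⟩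
  have := congrArg (fun c : ↥C => (c : G)) (MulAut.conjNormal_apply (H := Q) (⟨g, hgC⟩ : ↥C) q)
  simpa using this

/-- Let G be a finite group and let z be an involution of G such that Q, the generalized Fitting subgroup of the centralizer C of z, is a 2-group of symplectic type (every characteristic abelian subgroup of Q is cyclic). Let B be a characteristic abelian subgroup of Q, viewed as a subgroup of G. Then for every g in G, the conjugate of B by g either equals B or meets B trivially. -/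
theorem result {G : Type*} [Group G] [Finite G] (z : G) (hz : orderOf z = 2) (hQ : Cfsg.IsOfSymplecticType ↥(Cfsg.generalizedFittingSubgroup ↥(Subgroup.centralizer ({z} : Set G))))
    (B : Subgroup ↥(Cfsg.generalizedFittingSubgroup ↥(Subgroup.centralizer ({z} : Set G)))) (hBc : B.Characteristic) (hBa : IsMulCommutative ↥B) (g : G) :
    ((B.map (Cfsg.generalizedFittingSubgroup ↥(Subgroup.centralizer ({z} : Set G))).subtype).map (Subgroup.centralizer ({z} : Set G)).subtype).map (MulAut.conj g).toMonoidHom =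
        (B.map (Cfsg.generalizedFittingSubgroup ↥(Subgroup.centralizer ({z} : Set G))).subtype).map (Subgroup.centralizer ({z} : Set G)).subtype ∨
      ((B.map (Cfsg.generalizedFittingSubgroup ↥(Subgroup.centralizer ({z} : Set G))).subtype).map (Subgroup.centralizer ({z} : Set G)).subtype).map (MulAut.conj g).toMonoidHom ⊓
        (B.map (Cfsg.generalizedFittingSubgroup ↥(Subgroup.centralizer ({z} : Set G))).subtype).map (Subgroup.centralizer ({z} : Set G)).subtype = ⊥ := by
  have hzQ : ∀ hzC : z ∈ Subgroup.centralizer ({z} : Set G),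
      (⟨z, hzC⟩ : ↥(Subgroup.centralizer ({z} : Set G))) ∈
        Cfsg.generalizedFittingSubgroup ↥(Subgroup.centralizer ({z} : Set G)) := by
    intro hzC
    apply central_mem_genFitting
    rw [Subgroup.mem_center_iff]
    intro c
    apply Subtype.ext
    exact Subgroup.mem_centralizer_singleton_iff.1 c.2
  have := key z hz (Subgroup.centralizer ({z} : Set G))
    (fun x => Subgroup.mem_centralizer_singleton_iff)
    (Cfsg.generalizedFittingSubgroup _) hzQ hQ B hBc hBa g
  simpa only [Subgroup.map_map] using this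

end Cfsg.Agent.S1755
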