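import Cfsg.Statements.S1756
import Mathlib
import Cfsg.Agent.Lib.Lead.Extra2

set_option autoImplicit false
open Cfsg

namespace Cfsg.Agent.S1756

open Cfsg.Agent.Lib.Lead.Extra2

section
variable {E : Type*} [Group E]

def fixSub (τ : E →* E) : Subgroup E where
  carrier := {x | τ x = x}
  mul_mem' := fun {a b} ha hb => by
    show τ (a * b) = a * b
    rw [map_mul, show τ a = a from ha, show τ b = b from hb]
  one_mem' := by
    show τ 1 = 1
    exact map_one τ
  inv_mem' := fun {a} ha => by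
    show τ a⁻¹ = a⁻¹
    rw [map_inv, show τ a = a from ha]

theorem mem_fixSub (τ : E →* E) (x : E) : x ∈ fixSub τ ↔ τ x = x := Iff.rfl

theorem inner_of_index_two [Finite E] {z : E} (hD : Data E z) (τ : E →* E)
    (hinv : ∀ x, τ (τ x) = x) (hidx : (fixSub τ).index ≤ 2) :
    ∃ y : E, ∀ q : E, τ q = y * q * y⁻¹ := by
  classical
  by_cases htop : fixSub τ = ⊤
  · refine ⟨1, fun q => ?_⟩
    have h1 : q ∈ fixSub τ := by rw [htop]; exact Subgroup.mem_top q
    rw [(mem_fixSub τ q).1 h1]; group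
  have hidx2 : (fixSub τ).index = 2 := by
    have h0 : (fixSub τ).index ≠ 0 := Subgroup.index_ne_zero_of_finite
    have h1 : (fixSub τ).index ≠ 1 := fun h => htop (Subgroup.index_eq_one.1 h)
    omega
  haveI hFn : (fixSub τ).Normal := Subgroup.normal_of_index_eq_two hidx2
  have hmul2 : ∀ a b : E, a * b ∈ fixSub τ ↔ (a ∈ fixSub τ ↔ b ∈ fixSub τ) :=
    fun a b => Subgroup.mul_mem_iff_of_index_two hidx2
  have hτinj : Function.Injective τ := fun a b h => by rw [← hinv a, ← hinv b, h]
  have hzF : z ∈ fixSub τ := by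
    rw [mem_fixSub]
    have hc : τ z ∈ Subgroup.center E := by
      rw [Subgroup.mem_center_iff]
      intro g
      have h1 := hD.cen z hD.zc (τ g)
      have h2 := congrArg τ h1
      rw [map_mul, map_mul, hinv] at h2
      exact h2
    rcases hD.cval _ hc with h | h
    · exfalso; apply hD.z1; apply hτinj; rw [h, map_one]
    · exact h
  have hcenF : Subgroup.center E ≤ fixSub τ := by
    intro w hw
    rcases hD.cval w hw with h | h
    · rw [h]; exact (fixSub τ).one_mem
    · rw [h]; exact hzF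
  have hcard := card_centralizer_mul hD (fixSub τ)
  rw [inf_eq_left.2 hcenF] at hcard
  have hcz : Nat.card (Subgroup.center E) = 2 := by
    rw [Nat.card_eq_two_iff' (1 : Subgroup.center E)]
    refine ⟨⟨z, hD.zc⟩, ?_, ?_⟩
    · intro h; exact hD.z1 (congrArg Subtype.val h)
    · intro w hw
      rcases hD.cval w w.2 with h | h
      · exact absurd (Subtype.ext h) hw
      · exact Subtype.ext h
  have hFcard : Nat.card (fixSub τ) * 2 = Nat.card E := by
    rw [← hidx2]; exact (fixSub τ).card_mul_index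
  have hC4 : Nat.card (Subgroup.centralizer ((fixSub τ : Subgroup E) : Set E)) = 4 := by
    rw [hcz, ← hFcard] at hcard
    have hFpos : 0 < Nat.card (fixSub τ) := Nat.card_pos
    nlinarith
  have hex : ∃ y₀ ∈ Subgroup.centralizer ((fixSub τ : Subgroup E) : Set E),
      y₀ ∉ Subgroup.center E := by
    by_contra hno
    push Not at hno
    have hle : Subgroup.centralizer ((fixSub τ : Subgroup E) : Set E) ≤ Subgroup.center E := hno
    have := Subgroup.card_le_of_le hle
    omega
  obtain ⟨y₀, hy₀C, hy₀Z⟩ := hex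
  have step5 : ∀ y ∈ Subgroup.centralizer ((fixSub τ : Subgroup E) : Set E),
      y ∉ Subgroup.center E → ∀ q ∉ fixSub τ, y * q * y⁻¹ * q⁻¹ = z := by
    intro y hyC hyZ q hq
    rcases hD.cval _ (hD.comm y q) with h | h
    · exfalso
      apply hyZ
      rw [Subgroup.mem_center_iff]
      intro w
      have hyq : y * q = q * y := (cm_one y q).1 h
      by_cases hw : w ∈ fixSub τ
      · exact (Subgroup.mem_centralizer_iff.1 hyC w hw)
      · have hq' : q⁻¹ ∉ fixSub τ := fun hh => hq (by simpa using (fixSub τ).inv_mem hh)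
        have hu : q⁻¹ * w ∈ fixSub τ :=
          (hmul2 q⁻¹ w).2 ⟨fun h1 => absurd h1 hq', fun h1 => absurd h1 hw⟩
        have hyu := Subgroup.mem_centralizer_iff.1 hyC _ hu
        calc w * y = q * ((q⁻¹ * w) * y) := by group
          _ = q * (y * (q⁻¹ * w)) := by rw [hyu]
          _ = (q * y) * (q⁻¹ * w) := by group
          _ = (y * q) * (q⁻¹ * w) := by rw [hyq]
          _ = y * w := by group
    · exact h
  have step6 : ∀ x ∉ fixSub τ, τ x * x⁻¹ = z := by
    intro x hx
    have hτx : τ x = (τ x * x⁻¹) * x := by group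
    have hcC : τ x * x⁻¹ ∈ Subgroup.centralizer ((fixSub τ : Subgroup E) : Set E) := by
      rw [Subgroup.mem_centralizer_iff]
      intro u hu
      have hu' : x⁻¹ * u * x ∈ fixSub τ := by
        have := hFn.conj_mem u hu x⁻¹
        simpa using this
      have h1 : τ (x⁻¹ * u * x) = x⁻¹ * u * x := hu'
      have h2 : τ u = u := hu
      rw [map_mul, map_mul, map_inv, h2] at h1
      calc u * (τ x * x⁻¹) = τ x * ((τ x)⁻¹ * u * τ x) * x⁻¹ := by group
        _ = τ x * (x⁻¹ * u * x) * x⁻¹ := by rw [h1]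
        _ = (τ x * x⁻¹) * u := by group
    have hτc : τ (τ x * x⁻¹) * (τ x * x⁻¹) = 1 := by
      rw [map_mul, map_inv, hinv]; group
    by_contra hcz'
    have hcZ : τ x * x⁻¹ ∉ Subgroup.center E := by
      intro hh
      rcases hD.cval _ hh with h | h
      · apply hx
        show τ x = x
        rw [hτx, h, one_mul]
      · exact hcz' h
    have h5 := step5 _ hcC hcZ x hx
    by_cases hcF : τ x * x⁻¹ ∈ fixSub τ
    · have h1 : τ (τ x * x⁻¹) = τ x * x⁻¹ := hcF
      rw [h1] at hτc
      have hxx : τ (x * x) = x * x := hcenF (hD.sq x)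
      rw [map_mul] at hxx
      have hcinv : (τ x * x⁻¹)⁻¹ = τ x * x⁻¹ := inv_eq_of_mul_eq_one_left hτc
      have h6 : (τ x * x⁻¹) * x * (τ x * x⁻¹)⁻¹ * x⁻¹ = 1 := by
        rw [hcinv]
        calc (τ x * x⁻¹) * x * (τ x * x⁻¹) * x⁻¹ = (τ x * τ x) * x⁻¹ * x⁻¹ := by group
          _ = (x * x) * x⁻¹ * x⁻¹ := by rw [hxx]
          _ = 1 := by group
      rw [h6] at h5
      exact hD.z1 h5.symm
    · have hx' : x⁻¹ ∉ fixSub τ := fun hh => hx (by simpa using (fixSub τ).inv_mem hh)
      have hu : x⁻¹ * (τ x * x⁻¹) ∈ fixSub τ :=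
        (hmul2 x⁻¹ _).2 ⟨fun h1 => absurd h1 hx', fun h1 => absurd h1 hcF⟩
      have h1 : τ (x⁻¹ * (τ x * x⁻¹)) = x⁻¹ * (τ x * x⁻¹) := hu
      have h2 : τ (τ x * x⁻¹) = (τ x * x⁻¹) * (τ x * x⁻¹) := by
        calc τ (τ x * x⁻¹) = τ (x * (x⁻¹ * (τ x * x⁻¹))) := by congr 1; group
          _ = τ x * τ (x⁻¹ * (τ x * x⁻¹)) := map_mul _ _ _
          _ = τ x * (x⁻¹ * (τ x * x⁻¹)) := by rw [h1]
          _ = (τ x * x⁻¹) * (τ x * x⁻¹) := by group
      rw [h2] at hτc
      have h4 : ((τ x * x⁻¹) * (τ x * x⁻¹)) * ((τ x * x⁻¹) * (τ x * x⁻¹)) = 1 := by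
        rcases hD.cval _ (hD.sq (τ x * x⁻¹)) with h | h
        · rw [h, one_mul]
        · rw [h]; exact hD.zz
      have hc1 : τ x * x⁻¹ = 1 := by
        calc τ x * x⁻¹ = (((τ x * x⁻¹) * (τ x * x⁻¹)) * ((τ x * x⁻¹) * (τ x * x⁻¹))) *
              ((τ x * x⁻¹) * (τ x * x⁻¹) * (τ x * x⁻¹))⁻¹ := by group
          _ = 1 := by rw [h4, hτc]; group
      apply hcF; rw [hc1]; exact (fixSub τ).one_mem
  refine ⟨y₀, fun q => ?_⟩
  by_cases hq : q ∈ fixSub τ
  · have h1 : τ q = q := hq
    have h2 := Subgroup.mem_centralizer_iff.1 hy₀C q hq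
    rw [h1]
    calc q = (q * y₀) * y₀⁻¹ := by group
      _ = y₀ * q * y₀⁻¹ := by rw [h2]
  · have h1 := step6 q hq
    have h2 := step5 y₀ hy₀C hy₀Z q hq
    calc τ q = (τ q * q⁻¹) * q := by group
      _ = (y₀ * q * y₀⁻¹ * q⁻¹) * q := by rw [h1, h2]
      _ = y₀ * q * y₀⁻¹ := by group

end

/-- Let Q be an extraspecial 2-subgroup of the finite group G (special with centre of order 2) and t an involution of G normalizing Q such that the centralizer of t in Q has index at most 2 in Q. Then t lies in the product of Q with the centralizer of Q. -/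
theorem result {G : Type*} [Group G] [Finite G] (Q : Subgroup G)
    (hQ : Cfsg.IsExtraspecial 2 ↥Q) (t : G) (ht : orderOf t = 2) (htN : t ∈ Subgroup.normalizer (Q : Set G))
    (hi : (Subgroup.centralizer ({t} : Set G) ⊓ Q).relIndex Q ≤ 2) :
    t ∈ Q ⊔ Subgroup.centralizer (Q : Set G) := by
  classical
  obtain ⟨z, hD⟩ := exists_data hQ
  have htt : t * t = 1 := by rw [← pow_two, ← ht, pow_orderOf_eq_one]
  have hmem : ∀ q : ↥Q, t * (q : G) * t⁻¹ ∈ Q :=
    fun q => (Subgroup.mem_normalizer_iff.1 htN q).1 q.2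
  let τ : ↥Q →* ↥Q := MonoidHom.mk' (fun q => ⟨t * (q : G) * t⁻¹, hmem q⟩) (by
    intro a b
    apply Subtype.ext
    simp only [Subgroup.coe_mul]
    group)
  have hτ : ∀ q : ↥Q, ((τ q : ↥Q) : G) = t * (q : G) * t⁻¹ := fun q => rfl
  have hinv : ∀ q, τ (τ q) = q := by
    intro q
    apply Subtype.ext
    rw [hτ, hτ]
    calc t * (t * (q : G) * t⁻¹) * t⁻¹ = (t * t) * q * (t * t)⁻¹ := by group
      _ = q := by rw [htt]; group
  have hidx : (fixSub τ).index ≤ 2 := by
    have e : fixSub τ = (Subgroup.centralizer ({t} : Set G) ⊓ Q).subgroupOf Q := by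
      ext q
      rw [mem_fixSub, Subgroup.mem_subgroupOf, Subgroup.mem_inf, Subgroup.mem_centralizer_iff]
      constructor
      · intro h
        refine ⟨?_, q.2⟩
        intro s hs
        rw [Set.mem_singleton_iff] at hs
        rw [hs]
        have h1 := congrArg Subtype.val h
        rw [hτ] at h1
        calc t * (q : G) = (t * q * t⁻¹) * t := by group
          _ = q * t := by rw [h1]
      · rintro ⟨h, _⟩
        apply Subtype.ext
        rw [hτ]
        have h1 := h t (Set.mem_singleton t)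
        calc t * (q : G) * t⁻¹ = (t * q) * t⁻¹ := by group
          _ = q := by rw [h1]; group
    rw [e]; exact hi
  obtain ⟨y, hy⟩ := inner_of_index_two hD τ hinv hidx
  have hc : (y : G)⁻¹ * t ∈ Subgroup.centralizer (Q : Set G) := by
    rw [Subgroup.mem_centralizer_iff]
    intro q hq
    have h1 := congrArg Subtype.val (hy ⟨q, hq⟩)
    rw [hτ] at h1
    simp only [Subgroup.coe_mul, Subgroup.coe_inv] at h1
    have h2 : (y : G)⁻¹ * t * q = q * ((y : G)⁻¹ * t) := by
      calc (y : G)⁻¹ * t * q = (y : G)⁻¹ * (t * q * t⁻¹) * t := by group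
        _ = (y : G)⁻¹ * ((y : G) * q * (y : G)⁻¹) * t := by rw [h1]
        _ = q * ((y : G)⁻¹ * t) := by group
    exact h2.symm
  have e : t = (y : G) * ((y : G)⁻¹ * t) := by group
  rw [e]
  exact Subgroup.mul_mem_sup y.2 hc

end Cfsg.Agent.S1756
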