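import Mathlib
import Cfsg.Statements.S1780

set_option autoImplicit false
open Cfsg
open Polynomial

namespace Cfsg.Agent.S1780

lemma poly_id (k : ℕ) : ∃ q : ℤ[X], (X + 1 : ℤ[X]) ^ (2 ^ k) = X ^ (2 ^ k) + 1 + 2 * q := by
  induction k with
  | zero => exact ⟨0, by simp⟩
  | succ j ih =>
    obtain ⟨q, hq⟩ := ih
    refine ⟨X ^ (2 ^ j) + 2 * q ^ 2 + 2 * q * X ^ (2 ^ j) + 2 * q, ?_⟩
    rw [pow_succ, pow_mul, hq]
    ring

/-- In a ring, if `T^(2^k) = 1` and `2^e = 0` then `T + 1` is nilpotent. -/
lemma nilp {R : Type*} [Ring R] (T : R) (k e : ℕ) (hT : T ^ (2 ^ k) = 1) (h2 : (2 : R) ^ e = 0) :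
    (T + 1) ^ (2 ^ k * e) = 0 := by
  obtain ⟨q, hq⟩ := poly_id k
  have h := congrArg (Polynomial.aeval T) hq
  simp only [map_pow, map_add, map_mul, aeval_X, map_one, map_ofNat] at h
  rw [hT] at h
  have h' : (T + 1) ^ (2 ^ k) = 2 * (1 + aeval T q) := by rw [h]; noncomm_ring
  rw [pow_mul, h']
  have hc : Commute (2 : R) (1 + aeval T q) := by
    have : (2 : R) = ((2 : ℕ) : R) := by norm_cast
    rw [this]; exact Nat.cast_commute 2 _
  rw [hc.mul_pow, h2, zero_mul]

theorem result {A : Type*} [CommGroup A] [Finite A]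
    (hA : IsPGroup 2 A) (t : MulAut A) (ht : ∃ k : ℕ, orderOf t = 2 ^ k) (hC : ∀ a : A, t (t a) = a → t a = a) :
    ∀ a : A, t a = a := by
  obtain ⟨k, hk⟩ := ht
  obtain ⟨e, he⟩ := IsPGroup.iff_card.mp hA
  let T : AddMonoid.End (Additive A) := MonoidHom.toAdditive t.toMonoidHom
  have hTn : ∀ (n : ℕ) (a : Additive A), (T ^ n) a = Additive.ofMul ((t ^ n) a.toMul) := by
    intro n
    induction n with
    | zero => intro a; simp
    | succ m ih =>
      intro a
      rw [pow_succ, AddMonoid.End.coe_mul, Function.comp_apply, ih, pow_succ, MulAut.mul_apply]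
      rfl
  have hT : T ^ (2 ^ k) = 1 := by
    ext a
    rw [hTn, ← hk, pow_orderOf_eq_one]
    rfl
  have h2 : (2 : AddMonoid.End (Additive A)) ^ e = 0 := by
    ext a
    have : (2 : AddMonoid.End (Additive A)) ^ e = ((2 ^ e : ℕ) : AddMonoid.End (Additive A)) := by
      push_cast; rfl
    rw [this, AddMonoid.End.natCast_apply, ← he]
    show Additive.ofMul (a.toMul ^ Nat.card A) = 0
    rw [pow_card_eq_one']
    rfl
  have hN := nilp T k e hT h2
  -- downward induction
  have hP : ∀ m : ℕ, m ≤ 2 ^ k * e → ∀ a : Additive A, (T - 1) (((T + 1) ^ (2 ^ k * e - m)) a) = 0 := by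
    intro m
    induction m with
    | zero =>
      intro _ a
      rw [Nat.sub_zero, hN]; simp
    | succ j ih =>
      intro hj a
      have h1 := ih (by omega) a
      have e1 : 2 ^ k * e - j = (2 ^ k * e - (j + 1)) + 1 := by omega
      rw [e1, pow_succ', AddMonoid.End.coe_mul, Function.comp_apply] at h1
      set b := ((T + 1) ^ (2 ^ k * e - (j + 1))) a with hb
      -- (T-1)((T+1) b) = 0 → T(T b) = b → T b = b
      have h3 : T (T b) = b := by
        have : (T - 1) ((T + 1) b) = T (T b) - b := by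
          show T (T b + b) - (T b + b) = T (T b) - b
          rw [map_add]
          abel
        rw [this] at h1
        exact sub_eq_zero.mp h1
      have h4 : t (t b.toMul) = b.toMul := by
        have := congrArg Additive.toMul h3
        exact this
      have h5 := hC _ h4
      show T b - b = 0
      rw [sub_eq_zero]
      exact congrArg Additive.ofMul h5
  intro a
  have := hP (2 ^ k * e) le_rfl (Additive.ofMul a)
  rw [Nat.sub_self, pow_zero] at this
  have h6 : T (Additive.ofMul a) - Additive.ofMul a = 0 := this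
  rw [sub_eq_zero] at h6
  exact congrArg Additive.toMul h6

end Cfsg.Agent.S1780
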