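import Mathlib
import Cfsg.Statements.S1781
import Cfsg.Agent.S1780

set_option autoImplicit false
open Cfsg
open scoped commutatorElement

namespace Cfsg.Agent.S1781

variable {G : Type*} [Group G]

/-- Conjugation by a normalizing element as an automorphism of the subgroup. -/
def conjAut (Y : Subgroup G) (x : G) (hx : x ∈ Subgroup.normalizer (Y : Set G)) : MulAut Y where
  toFun b := ⟨x * b * x⁻¹, (Subgroup.mem_set_normalizer_iff.mp hx b).mp b.2⟩
  invFun b := ⟨x⁻¹ * b * x, (Subgroup.mem_set_normalizer_iff''.mp hx b).mp b.2⟩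
  left_inv b := by apply Subtype.ext; simp only []; group
  right_inv b := by apply Subtype.ext; simp only []; group
  map_mul' a b := by apply Subtype.ext; simp only [Subgroup.coe_mul]; group

lemma conjAut_apply (Y : Subgroup G) (x : G) (hx : x ∈ Subgroup.normalizer (Y : Set G)) (b : Y) :
    ((conjAut Y x hx b : Y) : G) = x * b * x⁻¹ := rfl

lemma conjAut_pow (Y : Subgroup G) (x : G) (hx : x ∈ Subgroup.normalizer (Y : Set G)) (n : ℕ) (b : Y) :
    (((conjAut Y x hx) ^ n) b : G) = x ^ n * b * (x ^ n)⁻¹ := by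
  induction n generalizing b with
  | zero => simp
  | succ m ih =>
    rw [pow_succ, MulAut.mul_apply, ih, conjAut_apply, pow_succ]
    group

/-- Key lemma. -/
lemma key [Finite G] (X Y : Subgroup G) (hX2 : IsPGroup 2 ↥X)
    (hY2 : IsPGroup 2 ↥Y) (hYa : IsMulCommutative ↥Y)
    (hti : ∀ h : G, X.map (MulAut.conj h).toMonoidHom = X ∨ X.map (MulAut.conj h).toMonoidHom ⊓ X = ⊥)
    (hXY : X ⊓ Y = ⊥) (x : G) (hxX : x ∈ X) (hxN : x ∈ Subgroup.normalizer (Y : Set G))
    (hx2 : x ^ 2 ≠ 1) : ∀ b ∈ Y, x * b * x⁻¹ = b := by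
  classical
  let _ : CommGroup Y :=
    { (inferInstance : Group Y) with mul_comm := fun a b => hYa.is_comm.comm a b }
  set t := conjAut Y x hxN with ht
  have hord : ∃ k : ℕ, orderOf t = 2 ^ k := by
    obtain ⟨k, hk⟩ := hX2 ⟨x, hxX⟩
    have hk' : x ^ (2 ^ k) = 1 := by
      have := congrArg Subtype.val hk
      simpa using this
    have h1 : t ^ (2 ^ k) = 1 := by
      ext b
      rw [ht, conjAut_pow, hk']
      simp
    obtain ⟨j, -, hj⟩ := (Nat.dvd_prime_pow Nat.prime_two).1 (orderOf_dvd_of_pow_eq_one h1)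
    exact ⟨j, hj⟩
  have hC : ∀ b : Y, t (t b) = b → t b = b := by
    intro b hb
    have hb' : x * (x * b * x⁻¹) * x⁻¹ = (b : G) := by
      have := congrArg Subtype.val hb
      simpa [ht, conjAut_apply] using this
    -- x^2 commutes with b
    have hcomm : (b : G) * x ^ 2 * (b : G)⁻¹ = x ^ 2 := by
      have : x ^ 2 * (b : G) = (b : G) * x ^ 2 := by
        calc x ^ 2 * (b : G) = (x * (x * b * x⁻¹) * x⁻¹) * x ^ 2 := by rw [pow_two]; group
          _ = (b : G) * x ^ 2 := by rw [hb']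
      rw [← this]; group
    have hx2X : x ^ 2 ∈ X := X.pow_mem hxX 2
    have hmem : x ^ 2 ∈ X.map (MulAut.conj (b : G)).toMonoidHom ⊓ X := by
      refine ⟨⟨x ^ 2, hx2X, ?_⟩, hx2X⟩
      simpa [MulAut.conj_apply] using hcomm
    have hXb : X.map (MulAut.conj (b : G)).toMonoidHom = X := by
      rcases hti (b : G) with h | h
      · exact h
      · exfalso
        rw [h, Subgroup.mem_bot] at hmem
        exact hx2 hmem
    -- b normalizes X, so b x⁻¹ b⁻¹ ∈ X
    have h1 : (b : G) * x⁻¹ * (b : G)⁻¹ ∈ X := by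
      rw [← hXb]
      exact ⟨x⁻¹, X.inv_mem hxX, by simp [MulAut.conj_apply]⟩
    have h2 : x * (b : G) * x⁻¹ * (b : G)⁻¹ ∈ X ⊓ Y := by
      constructor
      · have : x * (b : G) * x⁻¹ * (b : G)⁻¹ = x * ((b : G) * x⁻¹ * (b : G)⁻¹) := by group
        rw [this]; exact X.mul_mem hxX h1
      · exact Y.mul_mem (t b).2 (Y.inv_mem b.2)
    rw [hXY, Subgroup.mem_bot] at h2
    apply Subtype.ext
    rw [ht, conjAut_apply]
    calc x * (b : G) * x⁻¹ = (x * (b : G) * x⁻¹ * (b : G)⁻¹) * b := by group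
      _ = b := by rw [h2, one_mul]
  have hfix := Cfsg.Agent.S1780.result hY2 t hord hC
  intro b hb
  have := congrArg Subtype.val (hfix ⟨b, hb⟩)
  simpa [ht, conjAut_apply] using this

theorem result {G : Type*} [Group G] [Finite G] (A : Subgroup G)
    (hA2 : IsPGroup 2 ↥A) (hAa : IsMulCommutative ↥A)
    (hti : ∀ h : G, A.map (MulAut.conj h).toMonoidHom = A ∨ A.map (MulAut.conj h).toMonoidHom ⊓ A = ⊥)
    (g : G) (hg : A.map (MulAut.conj g).toMonoidHom ≠ A) :
    Cfsg.IsElementaryAbelian 2 (A ⊓ Subgroup.normalizer ((A.map (MulAut.conj g).toMonoidHom : Subgroup G) : Set G)) ∨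
      ⁅A, A.map (MulAut.conj g).toMonoidHom⁆ = ⊥ := by
  classical
  set B := A.map (MulAut.conj g).toMonoidHom with hB
  set N := A ⊓ Subgroup.normalizer ((B : Subgroup G) : Set G) with hN
  have hBA : B ⊓ A = ⊥ := by
    rcases hti g with h | h
    · exact absurd h hg
    · exact h
  have hAB : A ⊓ B = ⊥ := by rw [inf_comm]; exact hBA
  by_cases hsq : ∀ a ∈ N, a ^ 2 = 1
  · left
    refine ⟨⟨⟨fun a b => ?_⟩⟩, hsq⟩
    apply Subtype.ext
    have := hAa.is_comm.comm (⟨a.1, a.2.1⟩ : A) ⟨b.1, b.2.1⟩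
    have h' : (a.1 : G) * b.1 = b.1 * a.1 := congrArg Subtype.val this
    exact h'
  · right
    push Not at hsq
    obtain ⟨a, haN, ha2⟩ := hsq
    -- B is a commutative 2-group, TI
    have hequiv : A ≃* B := (A.equivMapOfInjective _ (MulAut.conj g).injective)
    have hB2 : IsPGroup 2 ↥B := hA2.of_equiv hequiv
    have hBa : IsMulCommutative ↥B := by
      refine ⟨⟨fun x y => ?_⟩⟩
      obtain ⟨x', rfl⟩ := hequiv.surjective x
      obtain ⟨y', rfl⟩ := hequiv.surjective y
      rw [← map_mul, ← map_mul, hAa.is_comm.comm x' y']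
    have hconj_conj : ∀ h : G, B.map (MulAut.conj h).toMonoidHom
        = (A.map (MulAut.conj (g⁻¹ * h * g)).toMonoidHom).map (MulAut.conj g).toMonoidHom := by
      intro h
      rw [hB, Subgroup.map_map, Subgroup.map_map]
      congr 1
      ext y
      simp only [MonoidHom.coe_comp, MulEquiv.coe_toMonoidHom, Function.comp_apply, MulAut.conj_apply]
      group
    have htiB : ∀ h : G, B.map (MulAut.conj h).toMonoidHom = B ∨
        B.map (MulAut.conj h).toMonoidHom ⊓ B = ⊥ := by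
      intro h
      rw [hconj_conj h]
      rcases hti (g⁻¹ * h * g) with h1 | h1
      · left; rw [h1]
      · right
        rw [hB, ← Subgroup.map_inf _ _ _ (MulAut.conj g).injective, h1, Subgroup.map_bot]
    -- a centralizes B
    have haB := key A B hA2 hB2 hBa hti hAB a haN.1 haN.2 ha2
    have ha1 : a ≠ 1 := by
      intro h; apply ha2; rw [h, one_pow]
    -- B normalizes A
    have hBnA : ∀ b ∈ B, A.map (MulAut.conj b).toMonoidHom = A := by
      intro b hb
      rcases hti b with h | h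
      · exact h
      · exfalso
        have hmem : a ∈ A.map (MulAut.conj b).toMonoidHom ⊓ A := by
          refine ⟨⟨a, haN.1, ?_⟩, haN.1⟩
          have := haB b hb
          show b * a * b⁻¹ = a
          calc b * a * b⁻¹ = a * (a⁻¹ * b * a * b⁻¹) := by group
            _ = a * (a⁻¹ * (a * b * a⁻¹) * a * b⁻¹) := by rw [this]
            _ = a := by group
        rw [h, Subgroup.mem_bot] at hmem
        exact ha1 hmem
    -- b₀ = g a g⁻¹
    set b₀ := g * a * g⁻¹ with hb₀
    have hb₀B : b₀ ∈ B := ⟨a, haN.1, rfl⟩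
    have hb₀2 : b₀ ^ 2 ≠ 1 := by
      intro h
      apply ha2
      have : b₀ ^ 2 = g * a ^ 2 * g⁻¹ := by rw [hb₀, conj_pow]
      rw [this] at h
      calc a ^ 2 = g⁻¹ * (g * a ^ 2 * g⁻¹) * g := by group
        _ = 1 := by rw [h]; group
    have hb₀N : b₀ ∈ Subgroup.normalizer ((A : Subgroup G) : Set G) := by
      rw [Subgroup.mem_normalizer_iff_map_conj_eq]
      exact hBnA b₀ hb₀B
    have hb₀A := key B A hB2 hA2 hAa htiB hBA b₀ hb₀B hb₀N hb₀2
    have hb₀1 : b₀ ≠ 1 := by
      intro h; apply hb₀2; rw [h, one_pow]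
    have hAnB : ∀ a' ∈ A, B.map (MulAut.conj a').toMonoidHom = B := by
      intro a' ha'
      rcases htiB a' with h | h
      · exact h
      · exfalso
        have hmem : b₀ ∈ B.map (MulAut.conj a').toMonoidHom ⊓ B := by
          refine ⟨⟨b₀, hb₀B, ?_⟩, hb₀B⟩
          have := hb₀A a' ha'
          show a' * b₀ * a'⁻¹ = b₀
          calc a' * b₀ * a'⁻¹ = b₀ * (b₀⁻¹ * a' * b₀ * a'⁻¹) := by group
            _ = b₀ * (b₀⁻¹ * (b₀ * a' * b₀⁻¹) * b₀ * a'⁻¹) := by rw [this]
            _ = b₀ := by group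
        rw [h, Subgroup.mem_bot] at hmem
        exact hb₀1 hmem
    rw [eq_bot_iff, Subgroup.commutator_le]
    intro a' ha' b hb
    rw [← hAB]
    constructor
    · -- ⁅a', b⁆ = a' * (b a'⁻¹ b⁻¹)
      have h1 : b * a'⁻¹ * b⁻¹ ∈ A := by
        rw [← hBnA b hb]
        exact ⟨a'⁻¹, A.inv_mem ha', rfl⟩
      have : ⁅a', b⁆ = a' * (b * a'⁻¹ * b⁻¹) := by rw [commutatorElement_def]; group
      rw [this]; exact A.mul_mem ha' h1
    · have h1 : a' * b * a'⁻¹ ∈ B := by
        rw [← hAnB a' ha']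
        exact ⟨b, hb, rfl⟩
      have : ⁅a', b⁆ = (a' * b * a'⁻¹) * b⁻¹ := by rw [commutatorElement_def]
      rw [this]; exact B.mul_mem h1 (B.inv_mem hb)

end Cfsg.Agent.S1781
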