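import Cfsg.Statements.S1782
import Mathlib
import Cfsg.Agent.Lib.Helper4.ConjSub
import Cfsg.Agent.Lib.Helper5.Frattini

set_option autoImplicit false
open Cfsg

namespace Cfsg.Agent.S1782

open Cfsg.Agent.Lib.Helper4

section
variable {S : Type*} [Group S]

theorem triv_inter {R T : Subgroup S} (h : R ⊓ T = ⊥) {y : S} (h1 : y ∈ R) (h2 : y ∈ T) : y = 1 := by
  have h3 : y ∈ R ⊓ T := ⟨h1, h2⟩
  rw [h] at h3
  exact Subgroup.mem_bot.1 h3

theorem lemB [Finite S] (R T : Subgroup S) (hcard : Nat.card R = Nat.card T)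
    (t : S) (ht : t ∈ T) (hRR' : R ⊓ cj t R = ⊥)
    (hcomm : ∀ a ∈ R, ∀ b ∈ cj t R, a * b = b * a)
    (hnorm : ∀ x ∈ R, cj x T = T) : cj t R = R := by
  have hmem : ∀ x : ↥R, (x : S) * t * (x : S)⁻¹ * t⁻¹ ∈ T := by
    intro x
    have h1 : (x : S) * t * (x : S)⁻¹ ∈ cj (x : S) T := conj_mem_cj (x : S) T ht
    rw [hnorm x x.2] at h1
    exact T.mul_mem h1 (T.inv_mem ht)
  let φ : ↥R → ↥T := fun x => ⟨(x : S) * t * (x : S)⁻¹ * t⁻¹, hmem x⟩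
  have hinj : Function.Injective φ := by
    intro x x' hxx
    have h1 : (x : S) * t * (x : S)⁻¹ * t⁻¹ = (x' : S) * t * (x' : S)⁻¹ * t⁻¹ :=
      congrArg Subtype.val hxx
    have h2 : t * ((x' : S)⁻¹ * (x : S)) * t⁻¹ = (x' : S)⁻¹ * (x : S) := by
      have h3 : (x : S) * t * (x : S)⁻¹ = (x' : S) * t * (x' : S)⁻¹ := mul_right_cancel h1
      calc t * ((x' : S)⁻¹ * (x : S)) * t⁻¹
          = (x' : S)⁻¹ * ((x' : S) * t * (x' : S)⁻¹) * (x : S) * t⁻¹ := by group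
        _ = (x' : S)⁻¹ * ((x : S) * t * (x : S)⁻¹) * (x : S) * t⁻¹ := by rw [h3]
        _ = (x' : S)⁻¹ * (x : S) := by group
    have hy : (x' : S)⁻¹ * (x : S) ∈ R := R.mul_mem (R.inv_mem x'.2) x.2
    have hy' : (x' : S)⁻¹ * (x : S) ∈ cj t R := by
      have h4 := conj_mem_cj t R hy
      rwa [h2] at h4
    have h5 := triv_inter hRR' hy hy'
    apply Subtype.ext
    have h6 : (x : S) = (x' : S) * ((x' : S)⁻¹ * (x : S)) := by group
    rw [h6, h5, mul_one]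
  have hbij : Function.Bijective φ :=
    Function.Injective.bijective_of_nat_card_le hinj (le_of_eq hcard.symm)
  obtain ⟨x₀, hx₀⟩ := hbij.2 ⟨t, ht⟩
  have h1 : (x₀ : S) * t * (x₀ : S)⁻¹ * t⁻¹ = t := congrArg Subtype.val hx₀
  have hρ : (x₀ : S)⁻¹ * t ∈ cj t R := by
    have h2 : t * (x₀ : S)⁻¹ * t⁻¹ ∈ cj t R := conj_mem_cj t R (R.inv_mem x₀.2)
    have h3 : (x₀ : S)⁻¹ * t = t * (x₀ : S)⁻¹ * t⁻¹ := by
      calc (x₀ : S)⁻¹ * t = (x₀ : S)⁻¹ * ((x₀ : S) * t * (x₀ : S)⁻¹ * t⁻¹) := by rw [h1]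
        _ = t * (x₀ : S)⁻¹ * t⁻¹ := by group
    rw [h3]; exact h2
  have hle : cj t R ≤ R := by
    intro y hy
    rw [mem_cj_iff] at hy
    have hc := hcomm _ hy _ hρ
    have h4 : y = (x₀ : S) * (t⁻¹ * y * t) * (x₀ : S)⁻¹ := by
      calc y = (x₀ : S) * (((x₀ : S)⁻¹ * t) * (t⁻¹ * y * t)) * t⁻¹ := by group
        _ = (x₀ : S) * ((t⁻¹ * y * t) * ((x₀ : S)⁻¹ * t)) * t⁻¹ := by rw [hc]
        _ = (x₀ : S) * (t⁻¹ * y * t) * (x₀ : S)⁻¹ := by group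
    rw [h4]
    exact R.mul_mem (R.mul_mem x₀.2 hy) (R.inv_mem x₀.2)
  apply Subgroup.eq_of_le_of_card_ge hle
  rw [Subgroup.card_map_of_injective (conj_injective t)]

theorem lemC (R T : Subgroup S) (x t : S) (hx : x ∈ R) (ht : t ∈ T)
    (hRR : R ⊓ cj t R = ⊥) (hR : ∀ a ∈ R, ∀ b ∈ cj t R, a * b = b * a)
    (hT : ∀ a ∈ T, ∀ b ∈ cj x T, a * b = b * a) (k : ℕ) (hk : cj (t ^ k) R = R) : x ^ k = 1 := by
  have hc1 : Commute (x * t * x⁻¹) t⁻¹ :=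
    (hT t⁻¹ (T.inv_mem ht) (x * t * x⁻¹) (conj_mem_cj x T ht)).symm
  have hc2 : Commute x (t * x⁻¹ * t⁻¹) :=
    hR x hx (t * x⁻¹ * t⁻¹) (conj_mem_cj t R (R.inv_mem hx))
  have h1 : (x * t * x⁻¹ * t⁻¹) ^ k = x * t ^ k * x⁻¹ * (t ^ k)⁻¹ := by
    rw [hc1.mul_pow, conj_pow, inv_pow]
  have h2 : (x * t * x⁻¹ * t⁻¹) ^ k = x ^ k * (t * (x ^ k)⁻¹ * t⁻¹) := by
    have e : x * t * x⁻¹ * t⁻¹ = x * (t * x⁻¹ * t⁻¹) := by group
    rw [e, hc2.mul_pow, conj_pow, inv_pow]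
  have h3 : x * t ^ k * x⁻¹ * (t ^ k)⁻¹ ∈ R := by
    have h4 : t ^ k * x⁻¹ * (t ^ k)⁻¹ ∈ cj (t ^ k) R := conj_mem_cj (t ^ k) R (R.inv_mem hx)
    rw [hk] at h4
    have e : x * t ^ k * x⁻¹ * (t ^ k)⁻¹ = x * (t ^ k * x⁻¹ * (t ^ k)⁻¹) := by group
    rw [e]; exact R.mul_mem hx h4
  rw [← h1, h2] at h3
  have h5 : t * (x ^ k)⁻¹ * t⁻¹ ∈ R := (Subgroup.mul_mem_cancel_left R (R.pow_mem hx k)).1 h3
  have h6 : t * (x ^ k)⁻¹ * t⁻¹ ∈ cj t R := conj_mem_cj t R (R.inv_mem (R.pow_mem hx k))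
  have h7 := triv_inter hRR h5 h6
  rw [conj_eq_one_iff, inv_eq_one] at h7
  exact h7

theorem lemN [Finite S] (hS : IsPGroup 2 S) (H X : Subgroup S) (hXH : X ≤ H) (hne : X ≠ H) :
    ∃ M : Subgroup S, X ≤ M ∧ M ≤ H ∧ Nat.card M < Nat.card H ∧
      ∀ h ∈ H, ∀ m ∈ M, h * m * h⁻¹ ∈ M := by
  haveI : Fact (Nat.Prime 2) := ⟨Nat.prime_two⟩
  have hHp : IsPGroup 2 H := hS.to_subgroup H
  haveI : Group.IsNilpotent H := hHp.isNilpotent
  have hK : X.subgroupOf H ≠ ⊤ := by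
    intro h
    rw [Subgroup.subgroupOf_eq_top] at h
    exact hne (le_antisymm hXH h)
  obtain ⟨M', hM'co, hM'le⟩ := (eq_top_or_exists_le_coatom (X.subgroupOf H)).resolve_left hK
  haveI hM'n : M'.Normal :=
    Subgroup.NormalizerCondition.normal_of_coatom M' Group.normalizerCondition_of_isNilpotent hM'co
  refine ⟨M'.map H.subtype, ?_, Subgroup.map_subtype_le M', ?_, ?_⟩
  · intro y hy
    exact ⟨⟨y, hXH hy⟩, hM'le (by rw [Subgroup.mem_subgroupOf]; exact hy), rfl⟩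
  · rw [Subgroup.card_map_of_injective H.subtype_injective]
    have h1 : Nat.card M' ≤ Nat.card H := Subgroup.card_le_card_group M'
    have h2 : Nat.card M' ≠ Nat.card H := fun h => hM'co.1 ((Subgroup.card_eq_iff_eq_top M').1 h)
    omega
  · rintro h hh m ⟨m', hm', rfl⟩
    exact ⟨⟨h, hh⟩ * m' * ⟨h, hh⟩⁻¹, hM'n.conj_mem m' hm' ⟨h, hh⟩, rfl⟩

theorem core [Finite S] (hS : IsPGroup 2 S) (Δ : Set (Subgroup S))
    (hinv : ∀ s : S, ∀ R ∈ Δ, cj s R ∈ Δ)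
    (hord : ∀ R ∈ Δ, ∀ T ∈ Δ, Nat.card ↥R = Nat.card ↥T)
    (hti : ∀ R ∈ Δ, ∀ T ∈ Δ, R = T ∨ R ⊓ T = ⊥)
    (R T : Subgroup S) (hR : R ∈ Δ) (hT : T ∈ Δ) (hne : R ≠ T)
    (hsqR : ∃ x ∈ R, x * x ≠ 1)
    (A1 : ∀ t ∈ T, cj t R ≠ R → ∀ a ∈ R, ∀ b ∈ cj t R, a * b = b * a)
    (A2 : ∀ x ∈ R, cj x T ≠ T → ∀ a ∈ T, ∀ b ∈ cj x T, a * b = b * a) :
    ∀ a ∈ R, ∀ b ∈ T, a * b = b * a := by
  classical
  by_contra hcon
  have hRT : R ⊓ T = ⊥ := (hti R hR T hT).resolve_left hne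
  have hRR : ∀ t, cj t R ≠ R → R ⊓ cj t R = ⊥ := fun t h =>
    (hti R hR _ (hinv t R hR)).resolve_left (Ne.symm h)
  have hTT : ∀ x, cj x T ≠ T → T ⊓ cj x T = ⊥ := fun x h =>
    (hti T hT _ (hinv x T hT)).resolve_left (Ne.symm h)
  have hboth : ¬ ((∀ x ∈ R, cj x T = T) ∧ (∀ t ∈ T, cj t R = R)) := by
    rintro ⟨h1, h2⟩
    apply hcon
    intro a ha b hb
    have hc1 : a * b * a⁻¹ * b⁻¹ ∈ T := by
      have h3 := conj_mem_cj a T hb
      rw [h1 a ha] at h3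
      exact T.mul_mem h3 (T.inv_mem hb)
    have hc2 : a * b * a⁻¹ * b⁻¹ ∈ R := by
      have h3 := conj_mem_cj b R (R.inv_mem ha)
      rw [h2 b hb] at h3
      have h4 := R.mul_mem ha h3
      have e : a * b * a⁻¹ * b⁻¹ = a * (b * a⁻¹ * b⁻¹) := by group
      rw [e]; exact h4
    have h1' := triv_inter hRT hc2 hc1
    calc a * b = (a * b * a⁻¹ * b⁻¹) * (b * a) := by group
      _ = b * a := by rw [h1', one_mul]
  have hexx : ∃ x ∈ R, cj x T ≠ T := by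
    by_contra hno
    push Not at hno
    apply hboth
    refine ⟨hno, ?_⟩
    intro t ht
    by_contra hne'
    exact hne' (lemB R T (hord R hR T hT) t ht (hRR t hne') (A1 t ht hne') hno)
  have hext : ∃ t ∈ T, cj t R ≠ R := by
    by_contra hno
    push Not at hno
    apply hboth
    refine ⟨?_, hno⟩
    intro x hx
    by_contra hne'
    exact hne' (lemB T R (hord T hT R hR) x hx (hTT x hne') (A2 x hx hne') hno)
  obtain ⟨x0, hx0, hx0n⟩ := hexx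
  obtain ⟨t0, ht0, ht0n⟩ := hext
  have C1 : ∀ x ∈ R, cj x T ≠ T → ∀ t ∈ T, cj t R ≠ R → ∀ k : ℕ, cj (t ^ k) R = R → x ^ k = 1 :=
    fun x hx hxn t ht htn k hk =>
      lemC R T x t hx ht (hRR t htn) (A1 t ht htn) (A2 x hx hxn) k hk
  have C2 : ∀ x ∈ R, cj x T ≠ T → ∀ t ∈ T, cj t R ≠ R → ∀ k : ℕ, cj (x ^ k) T = T → t ^ k = 1 :=
    fun x hx hxn t ht htn k hk =>
      lemC T R t x ht hx (hTT x hxn) (A2 x hx hxn) (A1 t ht htn) k hk
  have hex2 : ∃ t ∈ T, cj t R ≠ R ∧ cj (t ^ 2) R = R := by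
    obtain ⟨m, hm⟩ := hS t0
    have hex : ∃ j : ℕ, cj (t0 ^ 2 ^ j) R = R := ⟨m, by rw [hm, cj_one]⟩
    obtain ⟨j, hj, hmin⟩ : ∃ j, cj (t0 ^ 2 ^ j) R = R ∧ ∀ i < j, ¬ cj (t0 ^ 2 ^ i) R = R :=
      ⟨Nat.find hex, Nat.find_spec hex, fun i hi => Nat.find_min hex hi⟩
    have hj0 : j ≠ 0 := by
      rintro rfl
      apply ht0n
      simpa using hj
    obtain ⟨i, rfl⟩ := Nat.exists_eq_succ_of_ne_zero hj0
    refine ⟨t0 ^ 2 ^ i, T.pow_mem ht0 _, hmin i (Nat.lt_succ_self i), ?_⟩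
    rw [← pow_mul, ← pow_succ]; exact hj
  obtain ⟨t1, ht1, ht1n, ht1sq⟩ := hex2
  have I1 : ∀ x ∈ R, cj x T ≠ T → x ^ 2 = 1 := fun x hx hxn =>
    C1 x hx hxn t1 ht1 ht1n 2 ht1sq
  have I2 : ∀ t ∈ T, cj t R ≠ R → t ^ 2 = 1 := by
    intro t ht htn
    apply C2 x0 hx0 hx0n t ht htn 2
    rw [I1 x0 hx0 hx0n, cj_one]
  have hx0inv : x0⁻¹ = x0 := by
    have h := I1 x0 hx0 hx0n
    rw [pow_two] at h
    exact inv_eq_of_mul_eq_one_left h
  have hinvR0 : ∀ r ∈ R, cj r T = T → x0 * r * x0⁻¹ = r⁻¹ := by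
    intro r hr hrn
    have hxr : cj (x0 * r) T ≠ T := by
      rw [cj_mul, hrn]; exact hx0n
    have h2 := I1 (x0 * r) (R.mul_mem hx0 hr) hxr
    rw [pow_two] at h2
    rw [hx0inv]
    apply eq_inv_of_mul_eq_one_left
    rw [← h2]; group
  have hnoinv : ∀ r ∈ R, cj r T = T → r * r = 1 → r = 1 := by
    intro r hr hrn hr2
    have hrinv : r⁻¹ = r := inv_eq_of_mul_eq_one_left hr2
    have hρmem : t0 * r⁻¹ * t0⁻¹ ∈ cj t0 R := conj_mem_cj t0 R (R.inv_mem hr)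
    have hd : r * (t0 * r⁻¹ * t0⁻¹) ∈ T := by
      have h1 : r * t0 * r⁻¹ ∈ cj r T := conj_mem_cj r T ht0
      rw [hrn] at h1
      have h2 := T.mul_mem h1 (T.inv_mem ht0)
      have e : r * (t0 * r⁻¹ * t0⁻¹) = r * t0 * r⁻¹ * t0⁻¹ := by group
      rw [e]; exact h2
    have hxd : x0 * (r * (t0 * r⁻¹ * t0⁻¹)) * x0⁻¹ = r * (t0 * r⁻¹ * t0⁻¹) := by
      have hc : x0 * (t0 * r⁻¹ * t0⁻¹) = (t0 * r⁻¹ * t0⁻¹) * x0 :=
        A1 t0 ht0 ht0n x0 hx0 _ hρmem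
      calc x0 * (r * (t0 * r⁻¹ * t0⁻¹)) * x0⁻¹
          = (x0 * r * x0⁻¹) * (x0 * (t0 * r⁻¹ * t0⁻¹)) * x0⁻¹ := by group
        _ = r⁻¹ * ((t0 * r⁻¹ * t0⁻¹) * x0) * x0⁻¹ := by rw [hinvR0 r hr hrn, hc]
        _ = r⁻¹ * (t0 * r⁻¹ * t0⁻¹) := by group
        _ = r * (t0 * r⁻¹ * t0⁻¹) := by rw [hrinv]
    have hd' : r * (t0 * r⁻¹ * t0⁻¹) ∈ cj x0 T := by
      have h3 := conj_mem_cj x0 T hd
      rwa [hxd] at h3
    have hd1 : r * (t0 * r⁻¹ * t0⁻¹) = 1 := triv_inter (hTT x0 hx0n) hd hd'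
    have hrmem : r ∈ cj t0 R := by
      have h4 : r = (t0 * r⁻¹ * t0⁻¹)⁻¹ := eq_inv_of_mul_eq_one_left hd1
      rw [h4]; exact (cj t0 R).inv_mem hρmem
    exact triv_inter (hRR t0 ht0n) hr hrmem
  have hall : ∀ r ∈ R, r * r = 1 := by
    intro r hr
    by_cases hrn : cj r T = T
    · have hpow : ∀ k : ℕ, cj (r ^ k) T = T := by
        intro k
        induction k with
        | zero => rw [pow_zero, cj_one]
        | succ k ih => rw [pow_succ, cj_mul, hrn, ih]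
      have hr1 : r = 1 := by
        by_contra hne1
        obtain ⟨m, hm⟩ := hS r
        have hex : ∃ j : ℕ, r ^ 2 ^ j = 1 := ⟨m, hm⟩
        obtain ⟨j, hj, hmin⟩ : ∃ j, r ^ 2 ^ j = 1 ∧ ∀ i < j, ¬ r ^ 2 ^ i = 1 :=
          ⟨Nat.find hex, Nat.find_spec hex, fun i hi => Nat.find_min hex hi⟩
        have hj0 : j ≠ 0 := by
          rintro rfl
          apply hne1
          simpa using hj
        obtain ⟨i, rfl⟩ := Nat.exists_eq_succ_of_ne_zero hj0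
        apply hmin i (Nat.lt_succ_self i)
        apply hnoinv (r ^ 2 ^ i) (R.pow_mem hr _) (hpow _)
        rw [← pow_add, ← two_mul, ← pow_succ']; exact hj
      rw [hr1, one_mul]
    · have h := I1 r hr hrn
      rwa [pow_two] at h
  obtain ⟨y, hy, hy2⟩ := hsqR
  exact hy2 (hall y hy)

theorem main_aux [Finite S] (hS : IsPGroup 2 S) (Δ : Set (Subgroup S))
    (hinv : ∀ s : S, ∀ R ∈ Δ, cj s R ∈ Δ)
    (hsq : ∀ R ∈ Δ, ∃ x ∈ R, x * x ≠ 1)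
    (hord : ∀ R ∈ Δ, ∀ T ∈ Δ, Nat.card ↥R = Nat.card ↥T)
    (hti : ∀ R ∈ Δ, ∀ T ∈ Δ, R = T ∨ R ⊓ T = ⊥) :
    ∀ n : ℕ, ∀ H : Subgroup S, Nat.card H = n → ∀ R ∈ Δ, ∀ T ∈ Δ, R ≤ H → T ≤ H → R ≠ T →
      ∀ a ∈ R, ∀ b ∈ T, a * b = b * a := by
  intro n
  induction n using Nat.strong_induction_on with
  | _ n ih =>
    intro H hn R hR T hT hRH hTH hne
    have key : ∀ X ∈ Δ, X ≤ H → ∀ s ∈ H, cj s X ≠ X →
        ∀ a ∈ X, ∀ b ∈ cj s X, a * b = b * a := by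
      intro X hX hXH s hs hsn
      have hXne : X ≠ H := by
        rintro rfl
        apply hsn
        ext y
        rw [mem_cj_iff]
        constructor
        · intro h
          have h1 := X.mul_mem (X.mul_mem hs h) (X.inv_mem hs)
          have e : s * (s⁻¹ * y * s) * s⁻¹ = y := by group
          rwa [e] at h1
        · intro h
          exact X.mul_mem (X.mul_mem (X.inv_mem hs) h) hs
      obtain ⟨M, hXM, hMH, hMcard, hMnorm⟩ := lemN hS H X hXH hXne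
      have hcjM : cj s X ≤ M := by
        intro y hy
        rw [mem_cj_iff] at hy
        have h1 := hMnorm s hs _ (hXM hy)
        have e : s * (s⁻¹ * y * s) * s⁻¹ = y := by group
        rwa [e] at h1
      exact ih (Nat.card M) (by rw [← hn]; exact hMcard) M rfl X hX (cj s X) (hinv s X hX)
        hXM hcjM (Ne.symm hsn)
    exact core hS Δ hinv hord hti R T hR hT hne (hsq R hR)
      (fun t ht htn => key R hR hRH t (hTH ht) htn)
      (fun x hx hxn => key T hT hTH x (hRH hx) hxn)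

end

/-- Let S be a finite 2-group and Δ a set of subgroups of S closed under conjugation by S, all of the same order, each with nontrivial Frattini subgroup, and such that two distinct members of Δ meet trivially. Then any two distinct members of Δ commute elementwise. -/
theorem result {S : Type*} [Group S] [Finite S] (hS : IsPGroup 2 S)
    (Δ : Set (Subgroup S)) (hinv : ∀ s : S, ∀ R ∈ Δ, R.map (MulAut.conj s).toMonoidHom ∈ Δ)
    (hΦ : ∀ R ∈ Δ, frattini ↥R ≠ ⊥) (hord : ∀ R ∈ Δ, ∀ T ∈ Δ, Nat.card ↥R = Nat.card ↥T)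
    (hti : ∀ R ∈ Δ, ∀ T ∈ Δ, R = T ∨ R ⊓ T = ⊥) :
    ∀ R ∈ Δ, ∀ T ∈ Δ, R ≠ T → ⁅R, T⁆ = ⊥ := by
  intro R hR T hT hne
  have hsq : ∀ R ∈ Δ, ∃ x ∈ R, x * x ≠ 1 := by
    intro R hR
    by_contra hno
    push Not at hno
    apply hΦ R hR
    have hexp : ∀ a : ↥R, a ^ 2 = 1 := by
      intro a
      rw [pow_two]
      exact Subtype.ext (hno a a.2)
    have hcomm : ∀ a b : ↥R, a * b = b * a := by
      intro a b
      have ha := hexp a
      have hb := hexp b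
      have hab := hexp (a * b)
      rw [pow_two] at ha hb hab
      symm
      have e : b * a = (a * a) * (b * a) * (b * b) := by rw [ha, hb, one_mul, mul_one]
      have e2 : (a * a) * (b * a) * (b * b) = a * ((a * b) * (a * b)) * b := by group
      rw [e, e2, hab, mul_one]
    exact Cfsg.Agent.Lib.Helper5.frattini_eq_bot_of_elem_abelian Nat.prime_two hcomm hexp
  have hmain := main_aux hS Δ hinv hsq hord hti (Nat.card (⊤ : Subgroup S)) ⊤ rfl R hR T hT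
    le_top le_top hne
  rw [Subgroup.commutator_eq_bot_iff_le_centralizer]
  intro a ha
  rw [Subgroup.mem_centralizer_iff]
  intro b hb
  exact (hmain a ha b hb).symm

end Cfsg.Agent.S1782
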