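import Mathlib
import Cfsg.Statements.S1784
import Cfsg.Agent.S5595
import Cfsg.Agent.S5597
import Cfsg.Agent.S1265
import Cfsg.Agent.Lib.Helper3.Transport
import Cfsg.Agent.Lib.Helper9.LargeExtra2

set_option autoImplicit false
set_option maxHeartbeats 800000

open Cfsg
open Cfsg.Agent.S5595

namespace Cfsg.Agent.S1784

variable {G : Type*} [Group G]

theorem mem_zpowers_two {z : G} (hz : orderOf z = 2) (c : G) :
    c ∈ Subgroup.zpowers z ↔ c = 1 ∨ c = z := by
  constructor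
  · rintro ⟨k, rfl⟩
    show z ^ k = 1 ∨ z ^ k = z
    have h := zpow_mod_orderOf z k
    rw [hz] at h
    rcases Int.emod_two_eq_zero_or_one k with h2 | h2
    · left
      rw [← h, show (k % ((2 : ℕ) : ℤ)) = 0 from h2, zpow_zero]
    · right
      rw [← h, show (k % ((2 : ℕ) : ℤ)) = 1 from h2, zpow_one]
  · rintro (rfl | rfl)
    · exact Subgroup.one_mem _
    · exact Subgroup.mem_zpowers _

/-- bilinearity of the commutator pairing. -/
theorem comm_mul_iff {E : Subgroup G} {u : G} (hE : ES E u) {a b c : G} (ha : a ∈ E)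
    (hb : b ∈ E) (hc : c ∈ E) :
    (a * b) * c = c * (a * b) ↔ (a * c = c * a ↔ b * c = c * b) := by
  by_cases h1 : a * c = c * a
  · by_cases h2 : b * c = c * b
    · exact ⟨fun _ => ⟨fun _ => h2, fun _ => h1⟩,
        fun _ => by rw [mul_assoc, h2, ← mul_assoc, h1, mul_assoc]⟩
    · constructor
      · intro h
        exfalso
        apply h2
        have : a * (b * c) = a * (c * b) := by
          rw [← mul_assoc, h, ← mul_assoc, ← h1, mul_assoc]
        exact mul_left_cancel this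
      · intro h; exact absurd (h.mp h1) h2
  · by_cases h2 : b * c = c * b
    · constructor
      · intro h
        exfalso
        apply h1
        have : a * c * b = c * a * b := by
          rw [mul_assoc, ← h2, ← mul_assoc, h, mul_assoc]
        exact mul_right_cancel this
      · intro h; exact absurd (h.mpr h2) h1
    · exact ⟨fun _ => ⟨fun h => absurd h h1, fun h => absurd h h2⟩,
        fun _ => Cfsg.Agent.S5597.comm_mul_of_ne hE ha hb hc h1 h2⟩

theorem comm_inv_iff {a c : G} : a⁻¹ * c = c * a⁻¹ ↔ a * c = c * a := by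
  constructor
  · intro h
    calc a * c = a * (c * a⁻¹) * a := by group
      _ = a * (a⁻¹ * c) * a := by rw [h]
      _ = c * a := by group
  · intro h
    calc a⁻¹ * c = a⁻¹ * (c * a) * a⁻¹ := by group
      _ = a⁻¹ * (a * c) * a⁻¹ := by rw [h]
      _ = c * a⁻¹ := by group

/-- `F*(C_G(z))`, inside `G`. -/
def Fs (z : G) : Subgroup G :=
  (Cfsg.generalizedFittingSubgroup ↥(Subgroup.centralizer ({z} : Set G))).map
    (Subgroup.centralizer ({z} : Set G)).subtype

theorem ES_fstar [Finite G] (z : G) (hz : orderOf z = 2)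
    (hE : Cfsg.IsExtraspecial 2
      ↥(Cfsg.generalizedFittingSubgroup ↥(Subgroup.centralizer ({z} : Set G)))) :
    ES (Fs z) z := by
  have hz2 : z * z = 1 := by
    have := pow_orderOf_eq_one z
    rwa [hz, pow_two] at this
  have hz1 : z ≠ 1 := by
    intro h
    rw [h, orderOf_one] at hz
    omega
  have hzC : z ∈ Subgroup.centralizer ({z} : Set G) :=
    Subgroup.mem_centralizer_singleton_iff.mpr rfl
  have hself := Cfsg.Agent.S1265.result (G := ↥(Subgroup.centralizer ({z} : Set G)))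
  have hzF : (⟨z, hzC⟩ : ↥(Subgroup.centralizer ({z} : Set G)))
      ∈ Cfsg.generalizedFittingSubgroup ↥(Subgroup.centralizer ({z} : Set G)) := by
    apply hself
    rw [Subgroup.mem_centralizer_iff]
    intro h _
    apply Subtype.ext
    exact Subgroup.mem_centralizer_singleton_iff.mp h.2
  have hzQ : z ∈ Fs z := ⟨⟨z, hzC⟩, hzF, rfl⟩
  have hle : Fs z ≤ Subgroup.centralizer ({z} : Set G) := Subgroup.map_subtype_le _
  have hcent : ∀ u ∈ Fs z, u * z = z * u := fun u hu =>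
    Subgroup.mem_centralizer_singleton_iff.mp (hle hu)
  have hcenter : ∀ c ∈ (Subgroup.center
      ↥(Cfsg.generalizedFittingSubgroup ↥(Subgroup.centralizer ({z} : Set G)))).map
      (Cfsg.generalizedFittingSubgroup ↥(Subgroup.centralizer ({z} : Set G))).subtype,
      (c : G) = 1 ∨ (c : G) = z := by
    rintro _ ⟨c, hc, rfl⟩
    have hzc : (⟨⟨z, hzC⟩, hzF⟩ :
        ↥(Cfsg.generalizedFittingSubgroup ↥(Subgroup.centralizer ({z} : Set G))))
        ∈ Subgroup.center _ := by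
      rw [Subgroup.mem_center_iff]
      intro g
      apply Subtype.ext
      apply Subtype.ext
      exact Subgroup.mem_centralizer_singleton_iff.mp (g : ↥(Subgroup.centralizer ({z} : Set G))).2
    obtain ⟨w, -, hw⟩ := (Nat.card_eq_two_iff' (1 : ↥(Subgroup.center
      ↥(Cfsg.generalizedFittingSubgroup ↥(Subgroup.centralizer ({z} : Set G)))))).mp hE.2
    by_cases h1 : c = 1
    · left; rw [h1]; rfl
    · right
      have e1 := hw ⟨c, hc⟩ (by intro h; apply h1; exact congrArg Subtype.val h)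
      have e2 := hw ⟨⟨⟨z, hzC⟩, hzF⟩, hzc⟩ (by
        intro h; apply hz1
        have := congrArg (fun t : ↥(Subgroup.center
          ↥(Cfsg.generalizedFittingSubgroup ↥(Subgroup.centralizer ({z} : Set G)))) =>
            (((t : ↥(Cfsg.generalizedFittingSubgroup ↥(Subgroup.centralizer ({z} : Set G))))
              : ↥(Subgroup.centralizer ({z} : Set G))) : G)) h
        simpa using this)
      have e3 : (⟨c, hc⟩ : ↥(Subgroup.center
          ↥(Cfsg.generalizedFittingSubgroup ↥(Subgroup.centralizer ({z} : Set G)))))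
          = ⟨⟨⟨z, hzC⟩, hzF⟩, hzc⟩ := by rw [e1, e2]
      have := congrArg (fun t : ↥(Subgroup.center
          ↥(Cfsg.generalizedFittingSubgroup ↥(Subgroup.centralizer ({z} : Set G)))) =>
            (((t : ↥(Cfsg.generalizedFittingSubgroup ↥(Subgroup.centralizer ({z} : Set G))))
              : ↥(Subgroup.centralizer ({z} : Set G))) : G)) e3
      simpa using this
  have hnormal : (Cfsg.generalizedFittingSubgroup
      ↥(Subgroup.centralizer ({z} : Set G))).Normal :=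
    Subgroup.normal_of_characteristic _
  refine ⟨hz2, hzQ, hcent, ?_, ?_, ?_, ?_, ?_⟩
  · intro a ha u hu
    obtain ⟨u', hu', rfl⟩ := hu
    have haC : a ∈ Subgroup.centralizer ({z} : Set G) :=
      Subgroup.mem_centralizer_singleton_iff.mpr ha
    have := hnormal.conj_mem u' hu' ⟨a, haC⟩
    exact ⟨_, this, rfl⟩
  · rintro _ ⟨u', hu', rfl⟩ hc
    apply hcenter
    have hmem : (⟨u', hu'⟩ : ↥(Cfsg.generalizedFittingSubgroup
        ↥(Subgroup.centralizer ({z} : Set G)))) ∈ Subgroup.center _ := by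
      rw [Subgroup.mem_center_iff]
      intro g
      apply Subtype.ext
      apply Subtype.ext
      have := hc ((g : ↥(Subgroup.centralizer ({z} : Set G))) : G) ⟨g.1, g.2, rfl⟩
      exact this.symm
    exact ⟨⟨u', hu'⟩, hmem, rfl⟩
  · rintro _ ⟨u', hu', rfl⟩ _ ⟨v', hv', rfl⟩
    have := hcenter _ (Cfsg.Agent.Lib.Helper9.extraspecial_comm_mem hE hu' hv')
    simpa using this
  · rintro _ ⟨u', hu', rfl⟩
    have := hcenter _ (Cfsg.Agent.Lib.Helper9.extraspecial_sq_mem hE hu')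
    rw [pow_two] at this
    simpa using this
  · intro a ha
    have haC : a ∈ Subgroup.centralizer ({z} : Set G) :=
      Subgroup.mem_centralizer_singleton_iff.mpr (ha z hzQ)
    have : (⟨a, haC⟩ : ↥(Subgroup.centralizer ({z} : Set G)))
        ∈ Cfsg.generalizedFittingSubgroup ↥(Subgroup.centralizer ({z} : Set G)) := by
      apply hself
      rw [Subgroup.mem_centralizer_iff]
      intro h hh
      apply Subtype.ext
      exact (ha (h : G) ⟨h, hh, rfl⟩).symm
    exact ⟨_, this, rfl⟩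

theorem core1784 [Finite G] {Q : Subgroup G} {z α : G} (hQ : ES Q z) (hz1 : z ≠ 1)
    (hα2 : α * α = 1) (hαz : α * z = z * α) (hαQ : α ∉ Q)
    (Q₀ : Subgroup G)
    (hQ₀ : ∀ q, q ∈ Q₀ ↔ q ∈ Q ∧ (α * q * α⁻¹ * q⁻¹ = 1 ∨ α * q * α⁻¹ * q⁻¹ = z)) :
    Subgroup.closure ((fun q => α * q * α⁻¹ * q⁻¹) '' (Q : Set G))
      = (Subgroup.center ↥Q₀).map Q₀.subtype := by
  have hαi : α⁻¹ = α := inv_eq_of_mul_eq_one_right hα2
  have hzi : z⁻¹ = z := inv_eq_of_mul_eq_one_right hQ.z2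
  have hαc : ∀ q ∈ Q, α * q * α⁻¹ ∈ Q := hQ.norm α hαz
  have hκQ : ∀ q ∈ Q, α * q * α⁻¹ * q⁻¹ ∈ Q := fun q hq => Q.mul_mem (hαc q hq) (Q.inv_mem hq)
  -- Claim A
  have hA : ∀ q ∈ Q, ∀ q' ∈ Q, (α * q * α⁻¹ * q⁻¹) * q' = q' * (α * q * α⁻¹ * q⁻¹) ↔
      q * (α * q' * α⁻¹ * q'⁻¹) = (α * q' * α⁻¹ * q'⁻¹) * q := by
    intro q hq q' hq'
    have h1 := comm_mul_iff hQ (hαc q hq) (Q.inv_mem hq) hq'
    have h2 := comm_mul_iff hQ (hαc q' hq') (Q.inv_mem hq') hq
    rw [h1]
    have h2' : q * (α * q' * α⁻¹ * q'⁻¹) = (α * q' * α⁻¹ * q'⁻¹) * q ↔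
        (α * q' * α⁻¹ * q = q * (α * q' * α⁻¹) ↔ q'⁻¹ * q = q * q'⁻¹) := by
      rw [← h2]; exact eq_comm
    rw [h2', comm_inv_iff, comm_inv_iff]
    have hgen : ∀ s t : G, (α * s * α⁻¹) * t = t * (α * s * α⁻¹) ↔
        s * (α⁻¹ * t * α) = (α⁻¹ * t * α) * s := by
      intro s t
      constructor
      · intro h
        calc s * (α⁻¹ * t * α) = α⁻¹ * ((α * s * α⁻¹) * t) * α := by group
          _ = α⁻¹ * (t * (α * s * α⁻¹)) * α := by rw [h]
          _ = (α⁻¹ * t * α) * s := by group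
      · intro h
        calc (α * s * α⁻¹) * t = α * (s * (α⁻¹ * t * α)) * α⁻¹ := by group
          _ = α * ((α⁻¹ * t * α) * s) * α⁻¹ := by rw [h]
          _ = t * (α * s * α⁻¹) := by group
    have hsw : ∀ t : G, α⁻¹ * t * α = α * t * α⁻¹ := by
      intro t; rw [hαi]
    have h3 : (α * q * α⁻¹) * q' = q' * (α * q * α⁻¹) ↔
        (α * q' * α⁻¹) * q = q * (α * q' * α⁻¹) := by
      rw [hgen q q', hsw q']; exact eq_comm
    rw [h3]
    have h4 : (q * q' = q' * q) ↔ (q' * q = q * q') := eq_comm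
    rw [h4]
  -- Claim C
  have hCc : ∀ q ∈ Q, α * (α * q * α⁻¹ * q⁻¹) * α⁻¹ * (α * q * α⁻¹ * q⁻¹)⁻¹ = 1 ∨
      α * (α * q * α⁻¹ * q⁻¹) * α⁻¹ * (α * q * α⁻¹ * q⁻¹)⁻¹ = z := by
    intro q hq
    obtain ⟨w, hw⟩ : ∃ w, w = α * q * α⁻¹ * q⁻¹ := ⟨_, rfl⟩
    have hwQ : w ∈ Q := by rw [hw]; exact hκQ q hq
    have h1 : α * w * α⁻¹ = w⁻¹ := by
      rw [hw, hαi]
      calc α * (α * q * α * q⁻¹) * α = (α * α) * q * α * q⁻¹ * α := by group
        _ = q * α * q⁻¹ * α := by rw [hα2, one_mul]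
        _ = q * α⁻¹ * q⁻¹ * α⁻¹ := by rw [hαi]
        _ = (α * q * α * q⁻¹)⁻¹ := by rw [← hαi]; group
    rw [← hw, h1]
    have e : w⁻¹ * w⁻¹ = (w * w)⁻¹ := by group
    rw [e]
    rcases hQ.sq w hwQ with h | h
    · left; rw [h, inv_one]
    · right; rw [h, hzi]
  -- Claim B
  have hB : ∀ q' ∈ Q, (α * q' * α⁻¹ * q'⁻¹ = 1 ∨ α * q' * α⁻¹ * q'⁻¹ = z) ↔
      ∀ q ∈ Q, (α * q * α⁻¹ * q⁻¹) * q' = q' * (α * q * α⁻¹ * q⁻¹) := by
    intro q' hq'
    constructor
    · intro h q hq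
      rw [hA q hq q' hq']
      rcases h with h | h
      · rw [h, mul_one, one_mul]
      · rw [h]; exact hQ.cent q hq
    · intro h
      apply hQ.ctr _ (hκQ q' hq')
      intro v hv
      exact ((hA v hv q' hq').mp (h v hv)).symm
  obtain ⟨W, hW⟩ : ∃ W : Subgroup G,
      W = Subgroup.closure ((fun q => α * q * α⁻¹ * q⁻¹) '' (Q : Set G)) := ⟨_, rfl⟩
  rw [← hW]
  have hκW : ∀ q ∈ Q, α * q * α⁻¹ * q⁻¹ ∈ W := by
    intro q hq
    rw [hW]
    exact Subgroup.subset_closure ⟨q, hq, rfl⟩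
  have hWQ : W ≤ Q := by
    rw [hW, Subgroup.closure_le]
    rintro _ ⟨q, hq, rfl⟩
    exact hκQ q hq
  -- z ∈ W
  have hzW : z ∈ W := by
    obtain ⟨q₀, hq₀, hne⟩ : ∃ q₀ ∈ Q, α * q₀ ≠ q₀ * α := by
      by_contra hcon
      push Not at hcon
      exact hαQ (hQ.self α hcon)
    obtain ⟨w, hw⟩ : ∃ w, w = α * q₀ * α⁻¹ * q₀⁻¹ := ⟨_, rfl⟩
    have hwQ : w ∈ Q := by rw [hw]; exact hκQ q₀ hq₀
    have hwW : w ∈ W := by rw [hw]; exact hκW q₀ hq₀
    have hw1 : w ≠ 1 := by
      intro h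
      apply hne
      rw [hw] at h
      calc α * q₀ = (α * q₀ * α⁻¹ * q₀⁻¹) * (q₀ * α) := by group
        _ = q₀ * α := by rw [h, one_mul]
    by_cases hcen : ∀ v ∈ Q, w * v = v * w
    · rcases hQ.ctr w hwQ hcen with h | h
      · exact absurd h hw1
      · rw [← h]; exact hwW
    · push Not at hcen
      obtain ⟨q, hq, hqw⟩ := hcen
      have e := Cfsg.Agent.S5597.conj_of_ne hQ hq hwQ (fun h => hqw h.symm)
      have e2 : z = (q * w * q⁻¹) * w⁻¹ := by
        calc z = (z * w * q) * q⁻¹ * w⁻¹ := by group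
          _ = (q * w) * q⁻¹ * w⁻¹ := by rw [e]
          _ = (q * w * q⁻¹) * w⁻¹ := by group
      have e3 : q * w * q⁻¹ = (α * q * α⁻¹ * q⁻¹)⁻¹ * (α * (q * q₀) * α⁻¹ * (q * q₀)⁻¹) := by
        rw [hw]; group
      rw [e2, e3]
      exact W.mul_mem (W.mul_mem (W.inv_mem (hκW q hq)) (hκW _ (Q.mul_mem hq hq₀)))
        (W.inv_mem hwW)
  apply le_antisymm
  · rw [hW, Subgroup.closure_le]
    rintro _ ⟨q, hq, rfl⟩
    have hmem : α * q * α⁻¹ * q⁻¹ ∈ Q₀ := (hQ₀ _).mpr ⟨hκQ q hq, hCc q hq⟩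
    have hcen : (⟨α * q * α⁻¹ * q⁻¹, hmem⟩ : ↥Q₀) ∈ Subgroup.center ↥Q₀ := by
      rw [Subgroup.mem_center_iff]
      intro g'
      apply Subtype.ext
      have hg' := (hQ₀ g').mp g'.2
      exact ((hB g' hg'.1).mp hg'.2 q hq).symm
    exact ⟨⟨_, hmem⟩, hcen, rfl⟩
  · rintro _ ⟨c, hc, rfl⟩
    by_contra hcW
    have hcQ : (c : G) ∈ Q := ((hQ₀ c).mp c.2).1
    classical
    have hfin : (W : Set G).Finite := Set.toFinite _
    have hclos : Subgroup.closure (((hfin.toFinset : Finset G) : Set G) ∪ {z}) = W := by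
      rw [Set.Finite.coe_toFinset]
      have : (W : Set G) ∪ {z} = (W : Set G) := by
        apply Set.union_eq_self_of_subset_right
        intro t ht
        rw [Set.mem_singleton_iff] at ht
        rw [ht]; exact hzW
      rw [this, Subgroup.closure_eq]
    obtain ⟨g', hgQ, hgS, hgc⟩ := Cfsg.Agent.S5597.exists_sep hQ hfin.toFinset
      (fun s hs => hWQ ((Set.Finite.mem_toFinset hfin).mp hs)) (c : G) hcQ
      (by rw [hclos]; exact hcW)
    have hgQ₀ : g' ∈ Q₀ := by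
      rw [hQ₀]
      refine ⟨hgQ, (hB g' hgQ).mpr ?_⟩
      intro q hq
      exact (hgS _ ((Set.Finite.mem_toFinset hfin).mpr (hκW q hq))).symm
    apply hgc
    have := Subgroup.mem_center_iff.mp hc ⟨g', hgQ₀⟩
    exact congrArg Subtype.val this

theorem main1784 [Finite G] (z : G) (hz : orderOf z = 2)
    (hE : Cfsg.IsExtraspecial 2 ↥(Cfsg.generalizedFittingSubgroup ↥(Subgroup.centralizer ({z} : Set G))))
    (α : G) (hα : orderOf α = 2) (hαC : α ∈ Subgroup.centralizer ({z} : Set G))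
    (hαQ : α ∉ Fs z)
    (Q₀ : Subgroup G) (hQ₀ : ∀ q : G, q ∈ Q₀ ↔ (q ∈ Fs z ∧ α * q * α⁻¹ * q⁻¹ ∈ Subgroup.zpowers z)) :
    Subgroup.closure ((fun q : G => α * q * α⁻¹ * q⁻¹) '' (Fs z : Set G))
        = (Subgroup.center ↥Q₀).map Q₀.subtype ∧
      (¬ Q₀ ≤ (Fs z ⊓ Subgroup.centralizer ({α} : Set G)) ⊔ Subgroup.zpowers z →
        ∃ q ∈ Fs z, q * α * q⁻¹ = α * z) := by
  have hQ := ES_fstar z hz hE
  have hz1 : z ≠ 1 := by
    intro h
    rw [h, orderOf_one] at hz
    omega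
  have hα2 : α * α = 1 := by
    have := pow_orderOf_eq_one α
    rwa [hα, pow_two] at this
  have hαi : α⁻¹ = α := inv_eq_of_mul_eq_one_right hα2
  have hαz : α * z = z * α := Subgroup.mem_centralizer_singleton_iff.mp hαC
  have hQ₀' : ∀ q, q ∈ Q₀ ↔ q ∈ Fs z ∧ (α * q * α⁻¹ * q⁻¹ = 1 ∨ α * q * α⁻¹ * q⁻¹ = z) := by
    intro q
    rw [hQ₀, mem_zpowers_two hz]
  refine ⟨core1784 hQ hz1 hα2 hαz hαQ Q₀ hQ₀', ?_⟩
  intro hnot
  rw [SetLike.not_le_iff_exists] at hnot
  obtain ⟨q₁, hq₁, hq₁n⟩ := hnot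
  obtain ⟨hq₁Q, hκ⟩ := (hQ₀' q₁).mp hq₁
  refine ⟨q₁, hq₁Q, ?_⟩
  rcases hκ with h | h
  · exfalso
    apply hq₁n
    apply Subgroup.mem_sup_left
    have hq₁c : q₁ ∈ Subgroup.centralizer ({α} : Set G) := by
      rw [Subgroup.mem_centralizer_singleton_iff]
      calc q₁ * α = (α * q₁ * α⁻¹ * q₁⁻¹)⁻¹ * (α * q₁) := by group
        _ = α * q₁ := by rw [h, inv_one, one_mul]
    exact ⟨hq₁Q, hq₁c⟩
  · have h1 : q₁ * α⁻¹ * q₁⁻¹ = α⁻¹ * z := by
      calc q₁ * α⁻¹ * q₁⁻¹ = α⁻¹ * (α * q₁ * α⁻¹ * q₁⁻¹) := by group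
        _ = α⁻¹ * z := by rw [h]
    rw [hαi] at h1
    exact h1

/-- Let G be a finite group and let z be an involution of G such that Q, the generalized Fitting subgroup of the centralizer C of z, is a 2-group of symplectic type (every characteristic abelian subgroup of Q is cyclic); suppose Q is extraspecial, and view Q inside G. Let α be an involution of C that is not in Q, and let Q₀ be the subgroup of those q ∈ Q whose commutator with α lies in the subgroup generated by z. Then (a) the subgroup generated by the commutators α q α⁻¹ q⁻¹, q ∈ Q, equals the centre of Q₀; and (b) if Q₀ is not contained in the product of the centralizer of α in Q with the subgroup generated by z, then some element of Q conjugates α to α z. -/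
theorem result {G : Type*} [Group G] [Finite G] (z : G) (hz : orderOf z = 2) (hQ : Cfsg.IsOfSymplecticType ↥(Cfsg.generalizedFittingSubgroup ↥(Subgroup.centralizer ({z} : Set G)))) (hE : Cfsg.IsExtraspecial 2 ↥(Cfsg.generalizedFittingSubgroup ↥(Subgroup.centralizer ({z} : Set G))))
    (α : G) (hα : orderOf α = 2) (hαC : α ∈ Subgroup.centralizer ({z} : Set G)) (hαQ : α ∉ (Cfsg.generalizedFittingSubgroup ↥(Subgroup.centralizer ({z} : Set G))).map (Subgroup.centralizer ({z} : Set G)).subtype)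
    (Q₀ : Subgroup G) (hQ₀ : ∀ q : G, q ∈ Q₀ ↔ (q ∈ (Cfsg.generalizedFittingSubgroup ↥(Subgroup.centralizer ({z} : Set G))).map (Subgroup.centralizer ({z} : Set G)).subtype ∧ α * q * α⁻¹ * q⁻¹ ∈ Subgroup.zpowers z)) :
    Subgroup.closure ((fun q : G => α * q * α⁻¹ * q⁻¹) '' ((Cfsg.generalizedFittingSubgroup ↥(Subgroup.centralizer ({z} : Set G))).map (Subgroup.centralizer ({z} : Set G)).subtype : Set G)) = (Subgroup.center ↥Q₀).map Q₀.subtype ∧
      (¬ Q₀ ≤ ((Cfsg.generalizedFittingSubgroup ↥(Subgroup.centralizer ({z} : Set G))).map (Subgroup.centralizer ({z} : Set G)).subtype ⊓ Subgroup.centralizer ({α} : Set G)) ⊔ Subgroup.zpowers z →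
        ∃ q ∈ (Cfsg.generalizedFittingSubgroup ↥(Subgroup.centralizer ({z} : Set G))).map (Subgroup.centralizer ({z} : Set G)).subtype, q * α * q⁻¹ = α * z) := by
  exact main1784 z hz hE α hα hαC hαQ Q₀ hQ₀

end Cfsg.Agent.S1784
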