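import Mathlib
import Cfsg.Statements.S1785

set_option autoImplicit false
set_option maxHeartbeats 800000

open Cfsg

namespace Cfsg.Agent.S1785

/-- elementwise elementary abelian 2-group predicate -/
def EA {X : Type*} [Group X] (A : Subgroup X) : Prop :=
  (∀ x ∈ A, ∀ y ∈ A, x * y = y * x) ∧ ∀ x ∈ A, x ^ 2 = 1

theorem ea_iff {X : Type*} [Group X] (A : Subgroup X) : Cfsg.IsElementaryAbelian 2 A ↔ EA A := by
  constructor
  · rintro ⟨h1, h2⟩
    refine ⟨fun x hx y hy => ?_, h2⟩
    exact congrArg Subtype.val (h1.is_comm.comm ⟨x, hx⟩ ⟨y, hy⟩)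
  · rintro ⟨h1, h2⟩
    exact ⟨⟨⟨fun a b => Subtype.ext (h1 a a.2 b b.2)⟩⟩, h2⟩

theorem EA.mono {X : Type*} [Group X] {A B : Subgroup X} (hA : EA A) (h : B ≤ A) : EA B :=
  ⟨fun x hx y hy => hA.1 x (h hx) y (h hy), fun x hx => hA.2 x (h hx)⟩

theorem EA.inv_eq {X : Type*} [Group X] {A : Subgroup X} (hA : EA A) {x : X} (hx : x ∈ A) : x⁻¹ = x := by
  have := hA.2 x hx
  rw [pow_two] at this
  exact inv_eq_of_mul_eq_one_left this

/-- Halving lemma. -/
theorem card_le_sq {X : Type*} [Group X] [Finite X] (M : Subgroup X) (hM : EA M) (t : X) (ht : t ^ 2 = 1)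
    (hn : ∀ m ∈ M, t * m * t⁻¹ ∈ M) :
    Nat.card M ≤ Nat.card ↥(M ⊓ Subgroup.centralizer ({t} : Set X)) ^ 2 := by
  have htinv : t⁻¹ = t := by
    rw [pow_two] at ht; exact inv_eq_of_mul_eq_one_left ht
  let ψ : ↥M →* ↥M :=
    { toFun := fun m => ⟨(m : X) * (t * m * t⁻¹), M.mul_mem m.2 (hn m m.2)⟩
      map_one' := by apply Subtype.ext; simp
      map_mul' := by
        intro a b
        apply Subtype.ext
        show (a : X) * b * (t * (a * b) * t⁻¹) = (a : X) * (t * a * t⁻¹) * (b * (t * b * t⁻¹))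
        have h1 : t * ((a : X) * b) * t⁻¹ = (t * a * t⁻¹) * (t * b * t⁻¹) := by group
        rw [h1]
        have h2 : (b : X) * (t * a * t⁻¹) = (t * a * t⁻¹) * b := hM.1 _ b.2 _ (hn a a.2)
        calc (a : X) * b * ((t * a * t⁻¹) * (t * b * t⁻¹))
            = (a : X) * (b * (t * a * t⁻¹)) * (t * b * t⁻¹) := by group
          _ = (a : X) * ((t * a * t⁻¹) * b) * (t * b * t⁻¹) := by rw [h2]
          _ = _ := by group }
  have hψ : ∀ m : ↥M, ((ψ m : ↥M) : X) = (m : X) * (t * m * t⁻¹) := fun m => rfl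
  have hcard : Nat.card ψ.ker * Nat.card ψ.range = Nat.card M := by
    rw [← Subgroup.index_ker, Subgroup.card_mul_index]
  have memC : ∀ x : X, x ∈ M ⊓ Subgroup.centralizer ({t} : Set X) ↔ x ∈ M ∧ t * x * t⁻¹ = x := by
    intro x
    rw [Subgroup.mem_inf, Subgroup.mem_centralizer_singleton_iff]
    constructor
    · rintro ⟨h1, h2⟩; exact ⟨h1, by rw [← h2]; group⟩
    · rintro ⟨h1, h2⟩
      refine ⟨h1, ?_⟩
      calc x * t = (t * x * t⁻¹) * t := by rw [h2]
        _ = t * x := by group
  have hker : Nat.card ψ.ker ≤ Nat.card ↥(M ⊓ Subgroup.centralizer ({t} : Set X)) := by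
    refine Nat.card_le_card_of_injective (fun m => ⟨((m : ↥M) : X), ?_⟩) ?_
    · rw [memC]
      refine ⟨(m : ↥M).2, ?_⟩
      have h1 : ψ (m : ↥M) = 1 := m.2
      have h2 := congrArg Subtype.val h1
      rw [hψ] at h2
      have h3 : t * ((m : ↥M) : X) * t⁻¹ = ((m : ↥M) : X)⁻¹ := by
        have : ((m : ↥M) : X)⁻¹ * (((m : ↥M) : X) * (t * (m : ↥M) * t⁻¹)) = ((m : ↥M) : X)⁻¹ * 1 := by
          rw [h2]; rfl
        rw [mul_one] at this
        rw [← this]; group
      rw [h3, hM.inv_eq (m : ↥M).2]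
    · intro a b h
      have := congrArg Subtype.val h
      exact Subtype.ext (Subtype.ext this)
  have hrange : Nat.card ψ.range ≤ Nat.card ↥(M ⊓ Subgroup.centralizer ({t} : Set X)) := by
    refine Nat.card_le_card_of_injective (fun m => ⟨((m : ↥M) : X), ?_⟩) ?_
    · rw [memC]
      refine ⟨(m : ↥M).2, ?_⟩
      obtain ⟨m0, hm0⟩ := m.2
      have h1 : ((m : ↥M) : X) = (m0 : X) * (t * m0 * t⁻¹) := by rw [← hm0, hψ]
      rw [h1]
      have h2 : t * ((m0 : X) * (t * m0 * t⁻¹)) * t⁻¹ = (t * m0 * t⁻¹) * (t * t * m0 * (t * t)⁻¹) := by group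
      rw [h2]
      have h3 : t * t = 1 := by rw [← pow_two]; exact ht
      rw [h3]
      simp only [one_mul, inv_one, mul_one]
      exact hM.1 _ (hn m0 m0.2) _ m0.2
    · intro a b h
      have := congrArg Subtype.val h
      exact Subtype.ext (Subtype.ext this)
  calc Nat.card M = Nat.card ψ.ker * Nat.card ψ.range := hcard.symm
    _ ≤ Nat.card ↥(M ⊓ Subgroup.centralizer ({t} : Set X)) * Nat.card ↥(M ⊓ Subgroup.centralizer ({t} : Set X)) :=
        Nat.mul_le_mul hker hrange
    _ = _ := by rw [pow_two]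

theorem relIndex_pos' {X : Type*} [Group X] [Finite X] (H K : Subgroup X) : 0 < H.relIndex K := by
  unfold Subgroup.relIndex
  exact Nat.pos_of_ne_zero Subgroup.index_ne_zero_of_finite

/-- Fixed points of an elementary abelian 2-group acting on an elementary abelian 2-group. -/
theorem card_le_pow {X : Type*} [Group X] [Finite X] :
    ∀ (n : ℕ) (A B M : Subgroup X), EA A → B ≤ A → B.relIndex A = n → EA M →
      (∀ a ∈ A, ∀ m ∈ M, a * m * a⁻¹ ∈ M) → (∀ b ∈ B, ∀ m ∈ M, b * m = m * b) →
      Nat.card M ≤ Nat.card ↥(M ⊓ Subgroup.centralizer (A : Set X)) ^ n := by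
  intro n
  induction n using Nat.strong_induction_on with
  | _ n ih =>
    intro A B M hA hBA hn hM hnorm hcent
    by_cases hAB : A ≤ B
    · have hEq : M ⊓ Subgroup.centralizer (A : Set X) = M := by
        apply le_antisymm inf_le_left
        intro m hm
        refine Subgroup.mem_inf.mpr ⟨hm, ?_⟩
        rw [Subgroup.mem_centralizer_iff]
        intro a ha
        exact hcent a (hAB ha) m hm
      have hn1 : n = 1 := by rw [← hn]; exact Subgroup.relIndex_eq_one.mpr hAB
      rw [hEq, hn1, pow_one]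
    · obtain ⟨a, haA, haB⟩ := SetLike.not_le_iff_exists.mp hAB
      have hB'A : B ⊔ Subgroup.zpowers a ≤ A :=
        sup_le hBA (by rw [Subgroup.zpowers_le]; exact haA)
      have hBB' : B ≤ B ⊔ Subgroup.zpowers a := le_sup_left
      have haB' : a ∈ B ⊔ Subgroup.zpowers a :=
        (le_sup_right : Subgroup.zpowers a ≤ B ⊔ Subgroup.zpowers a) (Subgroup.mem_zpowers a)
      have hmul : B.relIndex (B ⊔ Subgroup.zpowers a) * (B ⊔ Subgroup.zpowers a).relIndex A = n := by
        rw [Subgroup.relIndex_mul_relIndex _ _ _ hBB' hB'A, hn]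
      have hk2 : 2 ≤ B.relIndex (B ⊔ Subgroup.zpowers a) := by
        have h0 := relIndex_pos' B (B ⊔ Subgroup.zpowers a)
        have h1 : B.relIndex (B ⊔ Subgroup.zpowers a) ≠ 1 := by
          intro h
          exact haB (Subgroup.relIndex_eq_one.mp h haB')
        omega
      have hn'pos := relIndex_pos' (B ⊔ Subgroup.zpowers a) A
      have hn'lt : (B ⊔ Subgroup.zpowers a).relIndex A < n := by nlinarith
      have hM' : EA (M ⊓ Subgroup.centralizer ({a} : Set X)) := hM.mono inf_le_left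
      have hnorm' : ∀ x ∈ A, ∀ m ∈ M ⊓ Subgroup.centralizer ({a} : Set X),
          x * m * x⁻¹ ∈ M ⊓ Subgroup.centralizer ({a} : Set X) := by
        intro x hx m hm
        have hm' := Subgroup.mem_inf.mp hm
        refine Subgroup.mem_inf.mpr ⟨hnorm x hx m hm'.1, ?_⟩
        have hma : m * a = a * m := Subgroup.mem_centralizer_singleton_iff.mp hm'.2
        rw [Subgroup.mem_centralizer_singleton_iff]
        have hxa : x * a = a * x := hA.1 x hx a haA
        have hxa' : x⁻¹ * a = a * x⁻¹ := by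
          calc x⁻¹ * a = x⁻¹ * (a * x) * x⁻¹ := by group
            _ = x⁻¹ * (x * a) * x⁻¹ := by rw [hxa]
            _ = a * x⁻¹ := by group
        calc x * m * x⁻¹ * a = x * m * (x⁻¹ * a) := by group
          _ = x * m * (a * x⁻¹) := by rw [hxa']
          _ = x * (m * a) * x⁻¹ := by group
          _ = x * (a * m) * x⁻¹ := by rw [hma]
          _ = (x * a) * m * x⁻¹ := by group
          _ = (a * x) * m * x⁻¹ := by rw [hxa]
          _ = a * (x * m * x⁻¹) := by group
      have hcent' : ∀ b ∈ B ⊔ Subgroup.zpowers a, ∀ m ∈ M ⊓ Subgroup.centralizer ({a} : Set X),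
          b * m = m * b := by
        intro b hb m hm
        have hm' := Subgroup.mem_inf.mp hm
        have hle : B ⊔ Subgroup.zpowers a ≤ Subgroup.centralizer ({m} : Set X) := by
          apply sup_le
          · intro b hb
            rw [Subgroup.mem_centralizer_singleton_iff]
            exact hcent b hb m hm'.1
          · rw [Subgroup.zpowers_le, Subgroup.mem_centralizer_singleton_iff]
            exact (Subgroup.mem_centralizer_singleton_iff.mp hm'.2).symm
        exact Subgroup.mem_centralizer_singleton_iff.mp (hle hb)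
      have ih' := ih _ hn'lt A (B ⊔ Subgroup.zpowers a) (M ⊓ Subgroup.centralizer ({a} : Set X))
        hA hB'A rfl hM' hnorm' hcent'
      have hEq : (M ⊓ Subgroup.centralizer ({a} : Set X)) ⊓ Subgroup.centralizer (A : Set X) =
          M ⊓ Subgroup.centralizer (A : Set X) := by
        rw [inf_assoc]
        congr 1
        apply inf_eq_right.mpr
        apply Subgroup.centralizer_le
        intro x hx
        rw [Set.mem_singleton_iff] at hx
        rw [hx]; exact haA
      rw [hEq] at ih'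
      have hL := card_le_sq M hM a (hA.2 a haA) (hnorm a haA)
      have hCpos : 0 < Nat.card ↥(M ⊓ Subgroup.centralizer (A : Set X)) := Nat.card_pos
      calc Nat.card M ≤ Nat.card ↥(M ⊓ Subgroup.centralizer ({a} : Set X)) ^ 2 := hL
        _ ≤ (Nat.card ↥(M ⊓ Subgroup.centralizer (A : Set X)) ^ (B ⊔ Subgroup.zpowers a).relIndex A) ^ 2 :=
            Nat.pow_le_pow_left ih' 2
        _ = Nat.card ↥(M ⊓ Subgroup.centralizer (A : Set X)) ^ ((B ⊔ Subgroup.zpowers a).relIndex A * 2) := by
            rw [pow_mul]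
        _ ≤ Nat.card ↥(M ⊓ Subgroup.centralizer (A : Set X)) ^ n := by
            apply Nat.pow_le_pow_right hCpos
            nlinarith

/-- An element of `C_E(A)` outside `A`. -/
theorem exists_escape {X : Type*} [Group X] [Finite X] (E : Subgroup X) [E.Normal] (hE : EA E)
    (hE32 : 32 ≤ Nat.card ↥E) (A : Subgroup X) (hA : EA A) (hcard : Nat.card ↥A = 8 ∨ Nat.card ↥A = 4) :
    ∃ c ∈ E ⊓ Subgroup.centralizer (A : Set X), c ∉ A := by
  by_contra hcon
  push Not at hcon
  have hDB : E ⊓ Subgroup.centralizer (A : Set X) ≤ A ⊓ E := by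
    intro c hc
    exact Subgroup.mem_inf.mpr ⟨hcon c hc, (Subgroup.mem_inf.mp hc).1⟩
  have hR := card_le_pow ((A ⊓ E).relIndex A) A (A ⊓ E) E hA inf_le_left rfl hE
    (fun a _ m hm => ‹E.Normal›.conj_mem m hm a)
    (fun b hb m hm => hE.1 b (Subgroup.mem_inf.mp hb).2 m hm)
  have h1 : Nat.card ↥(E ⊓ Subgroup.centralizer (A : Set X)) ≤ Nat.card ↥(A ⊓ E) :=
    Subgroup.card_le_of_le hDB
  have h2 : Nat.card ↥E ≤ Nat.card ↥(A ⊓ E) ^ (A ⊓ E).relIndex A :=
    hR.trans (Nat.pow_le_pow_left h1 _)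
  have h3 : Nat.card ↥(A ⊓ E) * (A ⊓ E).relIndex A = Nat.card ↥A := by
    have := Subgroup.relIndex_mul_relIndex ⊥ (A ⊓ E) A bot_le inf_le_left
    rwa [Subgroup.relIndex_bot_left, Subgroup.relIndex_bot_left] at this
  set b := Nat.card ↥(A ⊓ E) with hb
  set r := (A ⊓ E).relIndex A with hr
  have hbpos : 0 < b := Nat.card_pos
  rcases hcard with h8 | h4
  · rw [h8] at h3
    have hb8 : b ≤ 8 := Nat.le_of_dvd (by norm_num) ⟨r, h3.symm⟩
    interval_cases b
    · have : r = 8 := by omega
      rw [this] at h2; omega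
    · have : r = 4 := by omega
      rw [this] at h2; omega
    · omega
    · have : r = 2 := by omega
      rw [this] at h2; omega
    · omega
    · omega
    · omega
    · have : r = 1 := by omega
      rw [this] at h2; omega
  · rw [h4] at h3
    have hb4 : b ≤ 4 := Nat.le_of_dvd (by norm_num) ⟨r, h3.symm⟩
    interval_cases b
    · have : r = 4 := by omega
      rw [this] at h2; omega
    · have : r = 2 := by omega
      rw [this] at h2; omega
    · omega
    · have : r = 1 := by omega
      rw [this] at h2; omega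

/-- `A ⊔ C_E(A)` is elementary abelian. -/
theorem ea_sup {X : Type*} [Group X] (E : Subgroup X) (hE : EA E) (A : Subgroup X) (hA : EA A) :
    EA (A ⊔ (E ⊓ Subgroup.centralizer (A : Set X))) := by
  have hgen : ∀ y ∈ A ⊔ (E ⊓ Subgroup.centralizer (A : Set X)),
      (∀ a ∈ A, a * y = y * a) ∧ (∀ d ∈ E ⊓ Subgroup.centralizer (A : Set X), d * y = y * d) := by
    intro y hy
    constructor
    · intro a ha
      have hle : A ⊔ (E ⊓ Subgroup.centralizer (A : Set X)) ≤ Subgroup.centralizer ({a} : Set X) := by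
        apply sup_le
        · intro x hx
          rw [Subgroup.mem_centralizer_singleton_iff]
          exact hA.1 x hx a ha
        · intro x hx
          rw [Subgroup.mem_centralizer_singleton_iff]
          have := (Subgroup.mem_inf.mp hx).2
          rw [Subgroup.mem_centralizer_iff] at this
          exact (this a ha).symm
      exact (Subgroup.mem_centralizer_singleton_iff.mp (hle hy)).symm
    · intro d hd
      have hd' := Subgroup.mem_inf.mp hd
      have hle : A ⊔ (E ⊓ Subgroup.centralizer (A : Set X)) ≤ Subgroup.centralizer ({d} : Set X) := by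
        apply sup_le
        · intro x hx
          rw [Subgroup.mem_centralizer_singleton_iff]
          have := hd'.2
          rw [Subgroup.mem_centralizer_iff] at this
          exact this x hx
        · intro x hx
          rw [Subgroup.mem_centralizer_singleton_iff]
          exact hE.1 x (Subgroup.mem_inf.mp hx).1 d hd'.1
      exact (Subgroup.mem_centralizer_singleton_iff.mp (hle hy)).symm
  have hcomm : ∀ x ∈ A ⊔ (E ⊓ Subgroup.centralizer (A : Set X)),
      ∀ y ∈ A ⊔ (E ⊓ Subgroup.centralizer (A : Set X)), x * y = y * x := by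
    intro x hx y hy
    have hle : A ⊔ (E ⊓ Subgroup.centralizer (A : Set X)) ≤ Subgroup.centralizer ({y} : Set X) := by
      apply sup_le
      · intro a ha
        rw [Subgroup.mem_centralizer_singleton_iff]
        exact (hgen y hy).1 a ha
      · intro d hd
        rw [Subgroup.mem_centralizer_singleton_iff]
        exact (hgen y hy).2 d hd
    exact Subgroup.mem_centralizer_singleton_iff.mp (hle hx)
  refine ⟨hcomm, ?_⟩
  intro x hx
  have hx' := hx
  rw [Subgroup.sup_eq_closure] at hx'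
  induction hx' using Subgroup.closure_induction with
  | mem x hx0 =>
    rcases hx0 with h | h
    · exact hA.2 x h
    · exact hE.2 x (Subgroup.mem_inf.mp h).1
  | one => simp
  | mul x y hx0 hy0 ihx ihy =>
    have hx1 : x ∈ A ⊔ (E ⊓ Subgroup.centralizer (A : Set X)) := by rw [Subgroup.sup_eq_closure]; exact hx0
    have hy1 : y ∈ A ⊔ (E ⊓ Subgroup.centralizer (A : Set X)) := by rw [Subgroup.sup_eq_closure]; exact hy0
    rw [(show Commute x y from hcomm x hx1 y hy1).mul_pow, ihx hx1, ihy hy1, one_mul]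
  | inv x hx0 ih =>
    have hx1 : x ∈ A ⊔ (E ⊓ Subgroup.centralizer (A : Set X)) := by rw [Subgroup.sup_eq_closure]; exact hx0
    rw [inv_pow, ih hx1, inv_one]

/-- Let X be a finite 2-group having a normal elementary abelian subgroup of order at least 32. Then (a) for any two elementary abelian subgroups A, B of X of order 8 there is a chain A = A₁, A₂, …, Aₙ = B of elementary abelian subgroups of order 8 in which consecutive members commute elementwise; and (b) every elementary abelian subgroup of X of order 4 is contained in an elementary abelian subgroup of order 8. -/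
theorem result {X : Type*} [Group X] [Finite X]
    (hX : IsPGroup 2 X) (E : Subgroup X) [E.Normal] (hE : Cfsg.IsElementaryAbelian 2 E) (hE32 : 32 ≤ Nat.card ↥E) :
    (∀ A B : Subgroup X, Cfsg.IsElementaryAbelian 2 A → Nat.card ↥A = 8 → Cfsg.IsElementaryAbelian 2 B → Nat.card ↥B = 8 →
        Relation.ReflTransGen
          (fun C D : Subgroup X => Cfsg.IsElementaryAbelian 2 C ∧ Nat.card ↥C = 8 ∧ Cfsg.IsElementaryAbelian 2 D ∧ Nat.card ↥D = 8 ∧ ⁅C, D⁆ = ⊥)
          A B) ∧
      (∀ V : Subgroup X, Cfsg.IsElementaryAbelian 2 V → Nat.card ↥V = 4 →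
        ∃ A : Subgroup X, V ≤ A ∧ Cfsg.IsElementaryAbelian 2 A ∧ Nat.card ↥A = 8) := by
  have hE' : EA E := (ea_iff E).mp hE
  haveI : Fact (Nat.Prime 2) := ⟨Nat.prime_two⟩
  have hpow : ∀ H : Subgroup X, ∃ n, Nat.card ↥H = 2 ^ n := fun H => (hX.to_subgroup H).exists_card_eq
  have hcomm0 : ∀ (T C D : Subgroup X), EA T → C ≤ T → D ≤ T → ⁅C, D⁆ = ⊥ := by
    intro T C D hT hC hD
    rw [Subgroup.commutator_eq_bot_iff_le_centralizer]
    intro c hc
    rw [Subgroup.mem_centralizer_iff]
    intro d hd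
    exact hT.1 d (hD hd) c (hC hc)
  constructor
  · have step : ∀ A : Subgroup X, EA A → Nat.card ↥A = 8 → ¬ A ≤ E →
        ∃ A1 : Subgroup X, EA A1 ∧ Nat.card ↥A1 = 8 ∧ ⁅A, A1⁆ = ⊥ ∧
          (A1 ≤ E ∨ Nat.card ↥(A ⊓ E) < Nat.card ↥(A1 ⊓ E)) := by
      intro A hA hA8 hAE
      obtain ⟨c, hcD, hcA⟩ := exists_escape E hE' hE32 A hA (Or.inl hA8)
      have hTea : EA (A ⊔ (E ⊓ Subgroup.centralizer (A : Set X))) := ea_sup E hE' A hA
      have hAT : A ≤ A ⊔ (E ⊓ Subgroup.centralizer (A : Set X)) := le_sup_left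
      have hDT : E ⊓ Subgroup.centralizer (A : Set X) ≤ A ⊔ (E ⊓ Subgroup.centralizer (A : Set X)) :=
        le_sup_right
      have hDE : E ⊓ Subgroup.centralizer (A : Set X) ≤ E := inf_le_left
      obtain ⟨n, hn⟩ := hpow (E ⊓ Subgroup.centralizer (A : Set X))
      by_cases h8 : 8 ≤ Nat.card ↥(E ⊓ Subgroup.centralizer (A : Set X))
      · have h3 : 3 ≤ n := by
          by_contra hlt; push Not at hlt
          have : 2 ^ n ≤ 2 ^ 2 := Nat.pow_le_pow_right (by norm_num) (by omega)
          omega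
        have hdvd : 2 ^ 3 ∣ Nat.card ↥(E ⊓ Subgroup.centralizer (A : Set X)) := by
          rw [hn]; exact pow_dvd_pow 2 h3
        obtain ⟨K, hK⟩ := Sylow.exists_subgroup_card_pow_prime 2 hdvd
        refine ⟨K.map (E ⊓ Subgroup.centralizer (A : Set X)).subtype,
          hTea.mono ((Subgroup.map_subtype_le K).trans hDT), ?_, ?_,
          Or.inl ((Subgroup.map_subtype_le K).trans hDE)⟩
        · rw [Subgroup.card_map_of_injective (Subgroup.subtype_injective _), hK]; norm_num
        · exact hcomm0 _ A _ hTea hAT ((Subgroup.map_subtype_le K).trans hDT)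
      · push Not at h8
        have h2 : n ≤ 2 := by
          by_contra hlt; push Not at hlt
          have : 2 ^ 3 ≤ 2 ^ n := Nat.pow_le_pow_right (by norm_num) hlt
          omega
        have hH : Nat.card ↥((E ⊓ Subgroup.centralizer (A : Set X)).subgroupOf
            (A ⊔ (E ⊓ Subgroup.centralizer (A : Set X)))) = 2 ^ n := by
          rw [Nat.card_congr (Subgroup.subgroupOfEquivOfLe hDT).toEquiv, hn]
        have hdvd : 2 ^ 3 ∣ Nat.card ↥(A ⊔ (E ⊓ Subgroup.centralizer (A : Set X))) := by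
          have := Subgroup.card_dvd_of_le hAT
          rw [hA8] at this; exact this
        obtain ⟨K, hK8, hHK⟩ := Sylow.exists_subgroup_card_pow_prime_le 2 hdvd _ hH (by omega)
        have hDK : E ⊓ Subgroup.centralizer (A : Set X) ≤
            K.map (A ⊔ (E ⊓ Subgroup.centralizer (A : Set X))).subtype := by
          intro d hd
          exact ⟨⟨d, hDT hd⟩, hHK (Subgroup.mem_subgroupOf.mpr hd), rfl⟩
        refine ⟨K.map (A ⊔ (E ⊓ Subgroup.centralizer (A : Set X))).subtype,
          hTea.mono (Subgroup.map_subtype_le K), ?_, ?_, Or.inr ?_⟩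
        · rw [Subgroup.card_map_of_injective (Subgroup.subtype_injective _), hK8]; norm_num
        · exact hcomm0 _ A _ hTea hAT (Subgroup.map_subtype_le K)
        · have hBD : A ⊓ E ≤ E ⊓ Subgroup.centralizer (A : Set X) := by
            intro x hx
            have hx' := Subgroup.mem_inf.mp hx
            refine Subgroup.mem_inf.mpr ⟨hx'.2, ?_⟩
            rw [Subgroup.mem_centralizer_iff]
            intro a ha
            exact hA.1 a ha x hx'.1
          have hlt : Nat.card ↥(A ⊓ E) < Nat.card ↥(E ⊓ Subgroup.centralizer (A : Set X)) := by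
            rcases (Subgroup.card_le_of_le hBD).lt_or_eq with h | h
            · exact h
            · exfalso
              have := Subgroup.eq_of_le_of_card_ge hBD h.ge
              have hc' : c ∈ A ⊓ E := by rw [this]; exact hcD
              exact hcA (Subgroup.mem_inf.mp hc').1
          exact hlt.trans_le (Subgroup.card_le_of_le (le_inf hDK hDE))
    have reach : ∀ k : ℕ, ∀ A : Subgroup X, EA A → Nat.card ↥A = 8 → 8 - Nat.card ↥(A ⊓ E) ≤ k →
        ∃ A' : Subgroup X, EA A' ∧ Nat.card ↥A' = 8 ∧ A' ≤ E ∧ Relation.ReflTransGen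
          (fun C D : Subgroup X => Cfsg.IsElementaryAbelian 2 C ∧ Nat.card ↥C = 8 ∧ Cfsg.IsElementaryAbelian 2 D ∧ Nat.card ↥D = 8 ∧ ⁅C, D⁆ = ⊥) A A' := by
      intro k
      induction k with
      | zero =>
        intro A hA hA8 hk
        have hle : Nat.card ↥(A ⊓ E) ≤ 8 := by rw [← hA8]; exact Subgroup.card_le_of_le inf_le_left
        have : Nat.card ↥A ≤ Nat.card ↥(A ⊓ E) := by omega
        have hEq := Subgroup.eq_of_le_of_card_ge (inf_le_left : A ⊓ E ≤ A) this
        refine ⟨A, hA, hA8, ?_, Relation.ReflTransGen.refl⟩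
        rw [← hEq]; exact inf_le_right
      | succ k ih =>
        intro A hA hA8 hk
        by_cases hAE : A ≤ E
        · exact ⟨A, hA, hA8, hAE, Relation.ReflTransGen.refl⟩
        · obtain ⟨A1, hA1, hA18, hc, hor⟩ := step A hA hA8 hAE
          have hRA : (fun C D : Subgroup X => Cfsg.IsElementaryAbelian 2 C ∧ Nat.card ↥C = 8 ∧ Cfsg.IsElementaryAbelian 2 D ∧ Nat.card ↥D = 8 ∧ ⁅C, D⁆ = ⊥) A A1 :=
            ⟨(ea_iff A).mpr hA, hA8, (ea_iff A1).mpr hA1, hA18, hc⟩
          rcases hor with h | h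
          · exact ⟨A1, hA1, hA18, h, Relation.ReflTransGen.single hRA⟩
          · have hle : Nat.card ↥(A1 ⊓ E) ≤ 8 := by
              rw [← hA18]; exact Subgroup.card_le_of_le inf_le_left
            obtain ⟨A', hA', hA'8, hA'E, hchain⟩ := ih A1 hA1 hA18 (by omega)
            exact ⟨A', hA', hA'8, hA'E, Relation.ReflTransGen.head hRA hchain⟩
    intro A B hA hA8 hB hB8
    obtain ⟨A', hA', hA'8, hA'E, hchainA⟩ := reach 8 A ((ea_iff A).mp hA) hA8 (by omega)
    obtain ⟨B', hB', hB'8, hB'E, hchainB⟩ := reach 8 B ((ea_iff B).mp hB) hB8 (by omega)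
    have hsymm : ∀ C D : Subgroup X, (fun C D : Subgroup X => Cfsg.IsElementaryAbelian 2 C ∧ Nat.card ↥C = 8 ∧ Cfsg.IsElementaryAbelian 2 D ∧ Nat.card ↥D = 8 ∧ ⁅C, D⁆ = ⊥) C D →
        (fun C D : Subgroup X => Cfsg.IsElementaryAbelian 2 C ∧ Nat.card ↥C = 8 ∧ Cfsg.IsElementaryAbelian 2 D ∧ Nat.card ↥D = 8 ∧ ⁅C, D⁆ = ⊥) D C := by
      rintro C D ⟨h1, h2, h3, h4, h5⟩
      exact ⟨h3, h4, h1, h2, by rw [Subgroup.commutator_comm]; exact h5⟩
    have hrev : ∀ P Q : Subgroup X, Relation.ReflTransGen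
        (fun C D : Subgroup X => Cfsg.IsElementaryAbelian 2 C ∧ Nat.card ↥C = 8 ∧ Cfsg.IsElementaryAbelian 2 D ∧ Nat.card ↥D = 8 ∧ ⁅C, D⁆ = ⊥) P Q →
        Relation.ReflTransGen
        (fun C D : Subgroup X => Cfsg.IsElementaryAbelian 2 C ∧ Nat.card ↥C = 8 ∧ Cfsg.IsElementaryAbelian 2 D ∧ Nat.card ↥D = 8 ∧ ⁅C, D⁆ = ⊥) Q P := by
      intro P Q h
      induction h with
      | refl => exact Relation.ReflTransGen.refl
      | tail _ hbc ih => exact Relation.ReflTransGen.head (hsymm _ _ hbc) ih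
    have hmid : (fun C D : Subgroup X => Cfsg.IsElementaryAbelian 2 C ∧ Nat.card ↥C = 8 ∧ Cfsg.IsElementaryAbelian 2 D ∧ Nat.card ↥D = 8 ∧ ⁅C, D⁆ = ⊥) A' B' :=
      ⟨(ea_iff A').mpr hA', hA'8, (ea_iff B').mpr hB', hB'8, hcomm0 E A' B' hE' hA'E hB'E⟩
    have hchainB' := hrev _ _ hchainB
    exact (hchainA.trans (Relation.ReflTransGen.single hmid)).trans hchainB'
  · intro V hV hV4
    have hV' : EA V := (ea_iff V).mp hV
    obtain ⟨c, hcD, hcV⟩ := exists_escape E hE' hE32 V hV' (Or.inr hV4)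
    have hTea : EA (V ⊔ (E ⊓ Subgroup.centralizer (V : Set X))) := ea_sup E hE' V hV'
    have hVT : V ≤ V ⊔ (E ⊓ Subgroup.centralizer (V : Set X)) := le_sup_left
    have hDT : E ⊓ Subgroup.centralizer (V : Set X) ≤ V ⊔ (E ⊓ Subgroup.centralizer (V : Set X)) :=
      le_sup_right
    obtain ⟨k, hk⟩ := hpow (V ⊔ (E ⊓ Subgroup.centralizer (V : Set X)))
    have h4dvd := Subgroup.card_dvd_of_le hVT
    rw [hV4] at h4dvd
    have hne4 : Nat.card ↥(V ⊔ (E ⊓ Subgroup.centralizer (V : Set X))) ≠ 4 := by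
      intro h
      have := Subgroup.eq_of_le_of_card_ge hVT (by rw [h, hV4])
      exact hcV (by rw [this]; exact hDT hcD)
    have hk3 : 3 ≤ k := by
      by_contra hlt; push Not at hlt
      have hk2 : k ≤ 2 := by omega
      rw [hk] at h4dvd hne4
      interval_cases k
      · norm_num at h4dvd
      · norm_num at h4dvd
      · norm_num at hne4
    have hdvd : 2 ^ 3 ∣ Nat.card ↥(V ⊔ (E ⊓ Subgroup.centralizer (V : Set X))) := by
      rw [hk]; exact pow_dvd_pow 2 hk3
    have hH : Nat.card ↥(V.subgroupOf (V ⊔ (E ⊓ Subgroup.centralizer (V : Set X)))) = 2 ^ 2 := by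
      rw [Nat.card_congr (Subgroup.subgroupOfEquivOfLe hVT).toEquiv, hV4]; norm_num
    obtain ⟨K, hK8, hHK⟩ := Sylow.exists_subgroup_card_pow_prime_le 2 hdvd _ hH (by omega)
    refine ⟨K.map (V ⊔ (E ⊓ Subgroup.centralizer (V : Set X))).subtype, ?_,
      (ea_iff _).mpr (hTea.mono (Subgroup.map_subtype_le K)), ?_⟩
    · intro v hv
      exact ⟨⟨v, hVT hv⟩, hHK (Subgroup.mem_subgroupOf.mpr hv), rfl⟩
    · rw [Subgroup.card_map_of_injective (Subgroup.subtype_injective _), hK8]; norm_num

end Cfsg.Agent.S1785
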