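import Cfsg.Statements.S3743
import Cfsg.Agent.Lib.Helper7.PiCore
import Cfsg.Agent.S0008

set_option autoImplicit false
open Cfsg

namespace Cfsg.Agent.S3743

open Cfsg.Agent.Lib.Helper7

theorem key : ∀ (n : ℕ) (G : Type*) [Group G] [Finite G], Nat.card G = n →
    ∀ A : Subgroup G, A.IsSubnormal →
      (Group.IsNilpotent A → A ≤ Cfsg.fittingSubgroup G) ∧
        ∀ π : Set ℕ, IsPiGrp π A → A ≤ Cfsg.piCore π G := by
  intro n
  induction n using Nat.strong_induction_on with
  | _ n ih =>
  intro G _ _ hcard A hA
  by_cases hAtop : A = ⊤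
  · subst hAtop
    refine ⟨fun hnil => le_sSup ⟨inferInstance, hnil⟩, fun π hπ => le_piCore π ⊤ inferInstance hπ⟩
  · obtain ⟨K, hKn, hAK, hKlt⟩ := hA.exists_normal_and_le_and_lt_top_of_ne hAtop
    haveI := hKn
    have hlt : Nat.card K < n := by
      rw [← hcard]
      have h1 := K.card_mul_index
      have h2 : 1 < K.index := Subgroup.one_lt_index_of_ne_top hKlt.ne
      have h3 : 0 < Nat.card K := Nat.card_pos
      nlinarith
    have hsub : (A.subgroupOf K).IsSubnormal := hA.subgroupOf
    obtain ⟨ih1, ih2⟩ := ih _ hlt K rfl (A.subgroupOf K) hsub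
    have hAmap : A = (A.subgroupOf K).map K.subtype := (Subgroup.map_subgroupOf_eq_of_le hAK).symm
    constructor
    · intro hnil
      haveI := hnil
      have hnil' : Group.IsNilpotent (A.subgroupOf K) :=
        Group.nilpotent_of_mulEquiv (Subgroup.subgroupOfEquivOfLe hAK).symm
      have h1 := ih1 hnil'
      rw [hAmap]
      refine le_trans (Subgroup.map_mono h1) ?_
      apply le_sSup
      refine ⟨inferInstance, ?_⟩
      haveI : Group.IsNilpotent (Cfsg.fittingSubgroup K) := Cfsg.Agent.S0008.result
      exact Group.nilpotent_of_mulEquiv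
        ((Cfsg.fittingSubgroup K).equivMapOfInjective K.subtype K.subtype_injective)
    · intro π hπ
      have hπ' : IsPiGrp π (A.subgroupOf K) := by
        intro p hp hd
        apply hπ p hp
        rwa [Nat.card_congr (Subgroup.subgroupOfEquivOfLe hAK).toEquiv] at hd
      have h1 := ih2 π hπ'
      rw [hAmap]
      refine le_trans (Subgroup.map_mono h1) ?_
      apply le_piCore π _ inferInstance
      intro p hp hd
      rw [Subgroup.card_map_of_injective K.subtype_injective] at hd
      exact piCore_isPiGrp π p hp hd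

/-- In a finite group G, every subnormal nilpotent subgroup lies in the Fitting subgroup F(G), and, for a set of primes π, every subnormal subgroup all of whose prime divisors lie in π lies in O_π(G). -/
theorem result {G : Type*} [Group G] [Finite G] (A : Subgroup G) (hA : A.IsSubnormal) : (Group.IsNilpotent A → A ≤ Cfsg.fittingSubgroup G) ∧ ∀ π : Set ℕ, (∀ p : ℕ, p.Prime → p ∣ Nat.card A → p ∈ π) → A ≤ Cfsg.piCore π G := by
  obtain ⟨h1, h2⟩ := key _ G rfl A hA
  exact ⟨h1, fun π hπ => h2 π hπ⟩

end Cfsg.Agent.S3743
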