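import Cfsg.Statements.S1892
import Cfsg.Agent.Lib.Helper4.HH123
import Cfsg.Agent.Lib.Helper4.CoprimeComm
import Cfsg.Agent.S0027
import Cfsg.Agent.Lib.Helper9.Basic

set_option autoImplicit false
open Cfsg

namespace Cfsg.Agent.S1892


open scoped commutatorElement

/-- The subgroup of the normalizer of `W` acting trivially on `V / W`. -/
def trivAct {S : Type*} [Group S] (V W : Subgroup S) (hV : V.Normal) : Subgroup S where
  carrier := {g | g ∈ Subgroup.normalizer (W : Set S) ∧ ∀ v ∈ V, v⁻¹ * g⁻¹ * v * g ∈ W}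
  one_mem' := by
    refine ⟨Subgroup.one_mem _, ?_⟩
    intro v _
    have : v⁻¹ * (1 : S)⁻¹ * v * 1 = 1 := by group
    rw [this]; exact W.one_mem
  mul_mem' := by
    rintro g h ⟨hgN, hg⟩ ⟨hhN, hh⟩
    refine ⟨Subgroup.mul_mem _ hgN hhN, ?_⟩
    intro v hv
    have e : v⁻¹ * (g * h)⁻¹ * v * (g * h) = (v⁻¹ * h⁻¹ * v * h) * (h⁻¹ * (v⁻¹ * g⁻¹ * v * g) * h⁻¹⁻¹) := by
      group
    rw [e]
    refine W.mul_mem (hh v hv) ?_
    exact (Subgroup.mem_normalizer_iff.1 (Subgroup.inv_mem _ hhN) _).1 (hg v hv)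
  inv_mem' := by
    rintro g ⟨hgN, hg⟩
    refine ⟨Subgroup.inv_mem _ hgN, ?_⟩
    intro v hv
    have hw : g * v * g⁻¹ ∈ V := hV.conj_mem v hv g
    have := W.inv_mem (hg _ hw)
    have e : ((g * v * g⁻¹)⁻¹ * g⁻¹ * (g * v * g⁻¹) * g)⁻¹ = v⁻¹ * g⁻¹⁻¹ * v * g⁻¹ := by group
    rw [e] at this
    exact this

theorem mem_trivAct {S : Type*} [Group S] (V W : Subgroup S) (hV : V.Normal) (g : S) :
    g ∈ trivAct V W hV ↔ g ∈ Subgroup.normalizer (W : Set S) ∧ ∀ v ∈ V, v⁻¹ * g⁻¹ * v * g ∈ W :=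
  Iff.rfl

theorem conj_mem_trivAct {S : Type*} [Group S] (V W : Subgroup S) (hV : V.Normal) (x t : S)
    (hx : x ∈ Subgroup.normalizer (W : Set S)) (ht : t ∈ trivAct V W hV) :
    x * t * x⁻¹ ∈ trivAct V W hV := by
  obtain ⟨htN, ht⟩ := ht
  refine ⟨Subgroup.mul_mem _ (Subgroup.mul_mem _ hx htN) (Subgroup.inv_mem _ hx), ?_⟩
  intro v hv
  have hw : x⁻¹ * v * x⁻¹⁻¹ ∈ V := hV.conj_mem v hv x⁻¹
  have h1 := ht _ hw
  have h2 := (Subgroup.mem_normalizer_iff.1 hx _).1 h1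
  have e : x * ((x⁻¹ * v * x⁻¹⁻¹)⁻¹ * t⁻¹ * (x⁻¹ * v * x⁻¹⁻¹) * t) * x⁻¹
      = v⁻¹ * (x * t * x⁻¹)⁻¹ * v * (x * t * x⁻¹) := by group
  rw [e] at h2
  exact h2

/-- Let S be a finite p-solvable group with no nontrivial normal subgroup of order prime to p, A a p-subgroup of S, and Q a nontrivial A-invariant subgroup of order prime to p with [A, Q] = Q. Then the commutator [O_p(S), A, Q] is nontrivial. -/
theorem result {S : Type*} [Group S] [Finite S] {p : ℕ} [Fact p.Prime]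
    (hS : Cfsg.IsPSolvable p S) (hred : Cfsg.pPrimeCore p S = ⊥)
    (A Q : Subgroup S) (hA : IsPGroup p A) (hQ : ¬ p ∣ Nat.card Q) (hQ1 : Q ≠ ⊥)
    (hinv : ∀ a ∈ A, ∀ x ∈ Q, a * x * a⁻¹ ∈ Q) (hAQ : ⁅A, Q⁆ = Q) :
    ⁅⁅Cfsg.pCore p S, A⁆, Q⁆ ≠ ⊥ := by
  intro hbot
  obtain ⟨V, hVdef⟩ : ∃ V : Subgroup S, V = Cfsg.pCore p S := ⟨_, rfl⟩
  rw [← hVdef] at hbot
  have hVn : V.Normal := by rw [hVdef]; exact Cfsg.Agent.Lib.Helper9.pCore_normal' p
  have hVp : IsPGroup p V := by rw [hVdef]; exact Cfsg.Agent.Lib.Helper9.pCore_isPGroup'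
  have hCV : Subgroup.centralizer (V : Set S) ≤ V := by
    rw [hVdef]; exact Cfsg.Agent.Lib.Helper4.centralizer_pCore_le_of_psolvable hS hred
  have hNV : Subgroup.normalizer (V : Set S) = ⊤ := Subgroup.normalizer_eq_top_iff.2 hVn
  have hAN : A ≤ Subgroup.normalizer (V : Set S) := by rw [hNV]; exact le_top
  have hQN : Q ≤ Subgroup.normalizer (V : Set S) := by rw [hNV]; exact le_top
  obtain ⟨W, hWdef⟩ : ∃ W : Subgroup S, W = ⁅V, A⁆ := ⟨_, rfl⟩
  rw [← hWdef] at hbot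
  have hAW : A ≤ Subgroup.normalizer (W : Set S) := by
    rw [hWdef]; exact Cfsg.Agent.Lib.Helper4.le_normalizer_commutator_right A V hAN
  have hWQ : W ≤ Subgroup.centralizer (Q : Set S) := Subgroup.commutator_eq_bot_iff_le_centralizer.1 hbot
  have hQW : Q ≤ Subgroup.normalizer (W : Set S) := by
    intro q hq
    rw [Subgroup.mem_normalizer_iff]
    intro w
    constructor
    · intro hw
      have h1 := (Subgroup.mem_centralizer_iff.1 (hWQ hw)) q hq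
      have : q * w * q⁻¹ = w := by rw [h1]; group
      rw [this]; exact hw
    · intro hw
      have h1 := (Subgroup.mem_centralizer_iff.1 (hWQ hw)) q hq
      have e : w = q⁻¹ * (q * w * q⁻¹) * q := by group
      have h2 : q⁻¹ * (q * w * q⁻¹) * q = q * w * q⁻¹ := by
        have : q⁻¹ * (q * w * q⁻¹) * q = q⁻¹ * ((q * w * q⁻¹) * q) := by group
        rw [this, ← h1]; group
      rw [e, h2]; exact hw
  -- A ≤ T
  have hAT : A ≤ trivAct V W hVn := by
    intro a ha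
    refine ⟨hAW ha, ?_⟩
    intro v hv
    rw [hWdef]
    have : v⁻¹ * a⁻¹ * v * a = ⁅v⁻¹, a⁻¹⁆ := by rw [commutatorElement_def]; group
    rw [this]
    exact Subgroup.commutator_mem_commutator (V.inv_mem hv) (A.inv_mem ha)
  -- Q ≤ T
  have hQT : Q ≤ trivAct V W hVn := by
    rw [← hAQ, Subgroup.commutator_le]
    intro a ha x hx
    have : ⁅a, x⁆ = a * (x * a⁻¹ * x⁻¹) := by rw [commutatorElement_def]; group
    rw [this]
    exact Subgroup.mul_mem _ (hAT ha)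
      (conj_mem_trivAct V W hVn x a⁻¹ (hQW hx) (Subgroup.inv_mem _ (hAT ha)))
  -- ⁅V, Q⁆ ≤ W
  have hVQW : ⁅V, Q⁆ ≤ W := by
    rw [Subgroup.commutator_le]
    intro v hv q hq
    have h1 := (hQT (Q.inv_mem hq)).2 v⁻¹ (V.inv_mem hv)
    have : v⁻¹⁻¹ * q⁻¹⁻¹ * v⁻¹ * q⁻¹ = ⁅v, q⁆ := by rw [commutatorElement_def]; group
    rw [this] at h1
    exact h1
  have h2 : ⁅⁅V, Q⁆, Q⁆ = ⊥ := by
    rw [eq_bot_iff, ← hbot]
    exact Subgroup.commutator_mono hVQW le_rfl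
  have hcop : (Nat.card Q).Coprime (Nat.card V) := by
    obtain ⟨k, hk⟩ := IsPGroup.iff_card.1 hVp
    rw [hk]
    apply Nat.Coprime.pow_right
    exact (Nat.Coprime.symm ((Nat.Prime.coprime_iff_not_dvd (Fact.out : p.Prime)).2 hQ))
  have hsolv : Group.IsSolvable Q ∨ Group.IsSolvable V := by
    right
    haveI := hVp.isNilpotent
    infer_instance
  have h3 := Cfsg.Agent.S0027.result Q V hQN hcop hsolv
  rw [h2] at h3
  have h4 : V ≤ Subgroup.centralizer (Q : Set S) := Subgroup.commutator_eq_bot_iff_le_centralizer.1 h3.symm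
  have h5 : Q ≤ V := by
    refine le_trans ?_ hCV
    intro q hq
    rw [Subgroup.mem_centralizer_iff]
    intro v hv
    exact ((Subgroup.mem_centralizer_iff.1 (h4 hv)) q hq).symm
  have hQp : IsPGroup p Q := hVp.to_le h5
  obtain ⟨k, hk⟩ := IsPGroup.iff_card.1 hQp
  have hk0 : k = 0 := by
    by_contra hne
    apply hQ
    rw [hk]
    exact dvd_pow_self p hne
  rw [hk0, pow_zero] at hk
  exact hQ1 (Subgroup.card_eq_one.1 hk)

end Cfsg.Agent.S1892
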