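import Cfsg.Statements.S1894
import Cfsg.Agent.Lib.Helper4.PGroupLemmas

set_option autoImplicit false
open Cfsg

namespace Cfsg.Agent.S1894

/-- Let P be a finite p-group, A a normal subgroup of P and B an abelian subgroup of A that is normal in P. Then some subgroup C of A containing B is normal in P and is self-centralizing and normal in A (C ∈ SCN(A)). -/
theorem result {P : Type*} [Group P] [Finite P] {p : ℕ} [Fact p.Prime] (hP : IsPGroup p P)
    (A : Subgroup P) [A.Normal] (B : Subgroup P) [B.Normal] (hBA : B ≤ A) (hB : IsMulCommutative B) :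
    ∃ C : Subgroup P, C.Normal ∧ B ≤ C ∧ Cfsg.IsSCN A C := by
  classical
  let s : Set (Subgroup P) := {C | C.Normal ∧ C ≤ Subgroup.centralizer (C : Set P) ∧ B ≤ C ∧ C ≤ A}
  have hBs : B ∈ s := by
    refine ⟨inferInstance, ?_, le_rfl, hBA⟩
    intro a ha
    rw [Subgroup.mem_centralizer_iff]
    intro b hb
    have := hB.is_comm.comm (⟨b, hb⟩ : B) ⟨a, ha⟩
    exact congrArg Subtype.val this
  obtain ⟨C, hC⟩ := Set.Finite.exists_maximal (Set.toFinite s) ⟨B, hBs⟩
  obtain ⟨hCn, hCab, hBC, hCA⟩ := hC.prop
  refine ⟨C, hCn, hBC, hCA, ?_, ?_⟩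
  · rw [Subgroup.normalizer_eq_top]; exact le_top
  · apply le_antisymm _ (le_inf hCA hCab)
    by_contra hcon
    have hDn : (A ⊓ Subgroup.centralizer (C : Set P)).Normal := inferInstance
    set D := A ⊓ Subgroup.centralizer (C : Set P) with hD
    have hQ : IsPGroup p (P ⧸ C) := hP.to_quotient C
    have hDbar_n : (D.map (QuotientGroup.mk' C)).Normal :=
      Subgroup.Normal.map hDn _ (QuotientGroup.mk'_surjective C)
    have hDbar_ne : D.map (QuotientGroup.mk' C) ≠ ⊥ := by
      intro h
      apply hcon
      rw [Subgroup.map_eq_bot_iff, QuotientGroup.ker_mk'] at h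
      exact h
    obtain ⟨xb, hxbD, hxb1, hxbZ⟩ :=
      Lib.Helper4.exists_ne_one_mem_center_of_normal hQ (D.map (QuotientGroup.mk' C)) hDbar_ne
    obtain ⟨x, hxD, rfl⟩ := hxbD
    have hxC : x ∉ C := by
      intro h
      apply hxb1
      exact (QuotientGroup.eq_one_iff x).mpr h
    have hxA : x ∈ A := hxD.1
    have hxcen : x ∈ Subgroup.centralizer (C : Set P) := hxD.2
    let C' := C ⊔ Subgroup.zpowers x
    have hC'eq : C' = (Subgroup.zpowers ((QuotientGroup.mk' C) x)).comap (QuotientGroup.mk' C) := by
      rw [← MonoidHom.map_zpowers, QuotientGroup.comap_map_mk']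
    have hZn : (Subgroup.zpowers ((QuotientGroup.mk' C) x)).Normal := by
      refine ⟨fun n hn g => ?_⟩
      have hnZ : n ∈ Subgroup.center (P ⧸ C) := by
        have : Subgroup.zpowers ((QuotientGroup.mk' C) x) ≤ Subgroup.center (P ⧸ C) := by
          rw [Subgroup.zpowers_le]; exact hxbZ
        exact this hn
      rw [Subgroup.mem_center_iff] at hnZ
      have : g * n * g⁻¹ = n := by rw [hnZ g]; group
      rw [this]; exact hn
    have hC'n : C'.Normal := by
      rw [hC'eq]; exact Subgroup.Normal.comap hZn _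
    have hC'ab : C' ≤ Subgroup.centralizer (C' : Set P) := by
      have hcl : C' = Subgroup.closure ((C : Set P) ∪ {x}) := by
        rw [Subgroup.closure_union, Subgroup.closure_eq, ← Subgroup.zpowers_eq_closure]
      have hcomm : ∀ a ∈ ((C : Set P) ∪ {x}), ∀ b ∈ ((C : Set P) ∪ {x}), a * b = b * a := by
        rw [Subgroup.mem_centralizer_iff] at hxcen
        rintro a (ha | ha) b (hb | hb)
        · have := hCab ha
          rw [Subgroup.mem_centralizer_iff] at this
          exact (this b hb).symm
        · rw [Set.mem_singleton_iff.mp hb]; exact (hxcen a ha)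
        · rw [Set.mem_singleton_iff.mp ha]; exact (hxcen b hb).symm
        · rw [Set.mem_singleton_iff.mp ha, Set.mem_singleton_iff.mp hb]
      intro a ha
      rw [Subgroup.mem_centralizer_iff]
      intro b hb
      rw [hcl] at ha hb
      have hcc := Subgroup.isMulCommutative_closure hcomm
      have := hcc.is_comm.comm (⟨b, hb⟩ : Subgroup.closure ((C : Set P) ∪ {x})) ⟨a, ha⟩
      exact congrArg Subtype.val this
    have hC's : C' ∈ s := by
      refine ⟨hC'n, hC'ab, hBC.trans le_sup_left, sup_le hCA ?_⟩
      rw [Subgroup.zpowers_le]; exact hxA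
    have hle : C' ≤ C := hC.le_of_ge hC's le_sup_left
    exact hxC (hle (Subgroup.mem_sup_right (Subgroup.mem_zpowers x)))

end Cfsg.Agent.S1894
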