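import Cfsg.Statements.S1898
import Cfsg.Agent.Lib.Helper6.CoprimeAut
import Cfsg.Agent.Lib.Helper1.Class2

set_option autoImplicit false
open Cfsg

namespace Cfsg.Agent.S1898

open scoped commutatorElement

/-- Let X be a finite 2-group whose derived subgroup is elementary abelian and central. Then the subgroup generated by the elements of order dividing 4 has exponent dividing 4, and every automorphism of X fixing each element of order dividing 4 has 2-power order. -/
theorem result {X : Type*} [Group X] [Finite X] (hX : IsPGroup 2 X)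
    (hel : Cfsg.IsElementaryAbelian 2 (commutator X)) (hcen : commutator X ≤ Subgroup.center X) :
    (∀ x ∈ Subgroup.closure {g : X | g ^ 4 = 1}, x ^ 4 = 1) ∧
      ∀ φ : MulAut X, (∀ g : X, g ^ 4 = 1 → φ g = g) → ∃ k : ℕ, φ ^ (2 ^ k) = 1 := by
  have hcc : ∀ y z w : X, ⁅y, z⁆ * w = w * ⁅y, z⁆ := by
    intro y z w
    have h1 : ⁅y, z⁆ ∈ commutator X := by
      rw [commutator_def]
      exact Subgroup.commutator_mem_commutator (Subgroup.mem_top y) (Subgroup.mem_top z)
    exact (Subgroup.mem_center_iff.1 (hcen h1) w).symm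
  have hc2 : ∀ y z : X, ⁅y, z⁆ ^ 2 = 1 := by
    intro y z
    apply hel.2
    rw [commutator_def]
    exact Subgroup.commutator_mem_commutator (Subgroup.mem_top y) (Subgroup.mem_top z)
  have hmul : ∀ y z : X, (y * z) ^ 4 = y ^ 4 * z ^ 4 := by
    intro y z
    rw [Cfsg.Agent.Lib.Helper1.mul_pow_of_commute_commutator y z (hcc z y y) (hcc z y z) 4]
    have : Nat.choose 4 2 = 2 * 3 := by decide
    rw [this, pow_mul, hc2, one_pow, mul_one]
  constructor
  · intro x hx
    induction hx using Subgroup.closure_induction with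
    | mem w hw => exact hw
    | one => exact one_pow 4
    | mul u v _ _ hu hv => rw [hmul, hu, hv, one_mul]
    | inv u _ hu => rw [inv_pow, hu, inv_one]
  · intro φ hφ
    have hord : orderOf φ ≠ 0 := (orderOf_pos φ).ne'
    obtain ⟨k, m, hm, hkm⟩ := Nat.exists_eq_two_pow_mul_odd hord
    refine ⟨k, ?_⟩
    have hψm : (φ ^ (2 ^ k)) ^ m = 1 := by
      rw [← pow_mul, ← hkm, pow_orderOf_eq_one]
    have hpowfix : ∀ j : ℕ, ∀ g : X, g ^ 4 = 1 → (φ ^ j) g = g := by
      intro j
      induction j with
      | zero => intro g _; simp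
      | succ j ih =>
        intro g hg
        rw [pow_succ, MulAut.mul_apply, hφ g hg, ih g hg]
    have hall := Cfsg.Agent.Lib.Helper6.coprime_aut_fix _ X rfl 2 4 (Or.inr ⟨rfl, rfl⟩) hX
      (φ ^ (2 ^ k)) m hψm (Nat.Coprime.symm (Nat.coprime_two_left.mpr hm)) (hpowfix _)
    ext x
    rw [hall x]; rfl

end Cfsg.Agent.S1898
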