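import Cfsg.Statements.S1899
import Mathlib

set_option autoImplicit false
open Cfsg

namespace Cfsg.Agent.S1899

/-- Let a dihedral group of order 2n, n odd and n > 1, act on a finite abelian 2-group A through automorphisms d and t with d^n = 1, t² = 1 and t d t⁻¹ = d⁻¹, and suppose that d fixes only the identity. Then A is the internal direct product of C_A(t) and its image under d. -/
theorem result {A : Type*} [CommGroup A] [Finite A] (hA : IsPGroup 2 A)
    {n : ℕ} (hn : Odd n) (hn1 : 1 < n) (d t : MulAut A) (hd : d ^ n = 1) (ht : t ^ 2 = 1) (hdt : t * d * t⁻¹ = d⁻¹)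
    (hfix : ∀ a : A, d a = a → a = 1) :
    (MulEquiv.toMonoidHom t).eqLocus (MonoidHom.id A) ⊓ ((MulEquiv.toMonoidHom t).eqLocus (MonoidHom.id A)).map d.toMonoidHom = ⊥ ∧
      (MulEquiv.toMonoidHom t).eqLocus (MonoidHom.id A) ⊔ ((MulEquiv.toMonoidHom t).eqLocus (MonoidHom.id A)).map d.toMonoidHom = ⊤ := by
  have tt : ∀ a, t (t a) = a := by
    intro a
    have : (t ^ 2) a = a := by rw [ht]; rfl
    simpa [pow_two, MulAut.mul_apply] using this
  have htd : ∀ a, t (d a) = d⁻¹ (t a) := by
    intro a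
    have h1 : t * d = d⁻¹ * t := by
      rw [← hdt]; group
    have := congrArg (fun f : MulAut A => f a) h1
    simpa [MulAut.mul_apply] using this
  have htd' : ∀ a, t (d⁻¹ a) = d (t a) := by
    intro a
    have := htd (d⁻¹ a)
    rw [MulAut.apply_inv_self] at this
    rw [this, MulAut.apply_inv_self]
  have hd2 : ∀ c : A, d (d c) = c → c = 1 := by
    intro c hc
    apply hfix
    obtain ⟨k, hk⟩ := hn
    have h2 : ∀ j : ℕ, (d ^ (2 * j)) c = c := by
      intro j
      induction j with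
      | zero => simp
      | succ j ih =>
        have : d ^ (2 * (j + 1)) = d ^ (2 * j) * d * d := by
          rw [mul_add, pow_add, mul_one, pow_two, mul_assoc]
        rw [this, MulAut.mul_apply, MulAut.mul_apply, hc, ih]
    have h3 : d ^ (2 * (k + 1)) = d := by
      have : 2 * (k + 1) = n + 1 := by omega
      rw [this, pow_succ, hd, one_mul]
    have := h2 (k + 1)
    rwa [h3] at this
  constructor
  · rw [eq_bot_iff]
    rintro a ⟨ha1, ha2⟩
    rw [Subgroup.mem_bot]
    obtain ⟨c, hc, rfl⟩ := ha2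
    have hc' : t c = c := hc
    have ha' : t (d c) = d c := ha1
    rw [htd, hc'] at ha'
    have : d (d c) = c := by
      rw [← ha', MulAut.apply_inv_self]
    have hc1 := hd2 c this
    show d c = 1
    rw [hc1, map_one]
  · rw [eq_top_iff]
    intro b _
    -- φ a = a * (d (d a))⁻¹ ... choose e = d⁻² : e a = d⁻¹ (d⁻¹ a)
    let φ : A →* A :=
      { toFun := fun a => a * (d⁻¹ (d⁻¹ a))⁻¹
        map_one' := by simp
        map_mul' := by
          intro x y
          simp only [map_mul, mul_inv_rev]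
          generalize (d⁻¹ (d⁻¹ y))⁻¹ = u
          generalize (d⁻¹ (d⁻¹ x))⁻¹ = v
          rw [mul_mul_mul_comm x v y u, mul_comm v u] }
    have hφinj : Function.Injective φ := by
      rw [injective_iff_map_eq_one]
      intro a ha
      have h1 : a = d⁻¹ (d⁻¹ a) := by
        have : a * (d⁻¹ (d⁻¹ a))⁻¹ = 1 := ha
        exact mul_inv_eq_one.mp this
      apply hd2
      have := congrArg (fun x => d (d x)) h1
      simp only [MulAut.apply_inv_self] at this
      exact this
    have hφsurj : Function.Surjective φ := Finite.surjective_of_injective hφinj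
    obtain ⟨a, ha⟩ := hφsurj (t b)
    have ha' : a * (d⁻¹ (d⁻¹ a))⁻¹ = t b := ha
    -- b = t a * (t (d⁻¹ (d⁻¹ a)))⁻¹
    have hb : b = t a * (t (d⁻¹ (d⁻¹ a)))⁻¹ := by
      have := congrArg t ha'
      rw [tt, map_mul, map_inv] at this
      exact this.symm
    -- x = a * t a ∈ C, y = (a * t (d⁻¹ (d⁻¹ a)))⁻¹
    have hx : a * t a ∈ (MulEquiv.toMonoidHom t).eqLocus (MonoidHom.id A) := by
      show t (a * t a) = a * t a
      rw [map_mul, tt, mul_comm]
    have hy : (a * t (d⁻¹ (d⁻¹ a)))⁻¹ ∈ ((MulEquiv.toMonoidHom t).eqLocus (MonoidHom.id A)).map d.toMonoidHom := by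
      refine ⟨d⁻¹ ((a * t (d⁻¹ (d⁻¹ a)))⁻¹), ?_, ?_⟩
      · show t (d⁻¹ ((a * t (d⁻¹ (d⁻¹ a)))⁻¹)) = d⁻¹ ((a * t (d⁻¹ (d⁻¹ a)))⁻¹)
        rw [htd', map_inv, map_mul, tt]
        rw [htd', htd']
        simp only [map_inv, map_mul, MulAut.inv_apply_self, MulAut.apply_inv_self]
        rw [mul_comm]
      · show d (d⁻¹ ((a * t (d⁻¹ (d⁻¹ a)))⁻¹)) = _
        rw [MulAut.apply_inv_self]
    have : b = (a * t a) * (a * t (d⁻¹ (d⁻¹ a)))⁻¹ := by
      rw [hb, mul_inv, mul_mul_mul_comm, mul_inv_cancel, one_mul]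
    rw [this]
    exact Subgroup.mul_mem_sup hx hy

end Cfsg.Agent.S1899
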