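import Mathlib
import Cfsg.Statements.S1900
import Cfsg.Agent.S0058

set_option autoImplicit false

open Cfsg
open scoped commutatorElement

namespace Cfsg.Agent.S1900

section
variable {S : Type*} [Group S] [Finite S] {p : ℕ} [hp : Fact p.Prime]

theorem mem_sup_of_commute {A B : Subgroup S} (hAB : ∀ u ∈ A, ∀ w ∈ B, u * w = w * u) {m : S}
    (hm : m ∈ A ⊔ B) : ∃ u ∈ A, ∃ w ∈ B, m = u * w := by
  rw [Subgroup.sup_eq_closure] at hm
  induction hm using Subgroup.closure_induction with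
  | mem g hg =>
    rcases hg with h | h
    · exact ⟨g, h, 1, B.one_mem, (mul_one g).symm⟩
    · exact ⟨1, A.one_mem, g, h, (one_mul g).symm⟩
  | one => exact ⟨1, A.one_mem, 1, B.one_mem, (mul_one 1).symm⟩
  | mul g h _ _ ihg ihh =>
    obtain ⟨u, hu, w, hw, rfl⟩ := ihg
    obtain ⟨u', hu', w', hw', rfl⟩ := ihh
    refine ⟨u * u', A.mul_mem hu hu', w * w', B.mul_mem hw hw', ?_⟩
    have := hAB u' hu' w hw
    calc u * w * (u' * w') = u * (w * u') * w' := by group
      _ = u * (u' * w) * w' := by rw [← this]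
      _ = u * u' * (w * w') := by group
  | inv g _ ih =>
    obtain ⟨u, hu, w, hw, rfl⟩ := ih
    refine ⟨u⁻¹, A.inv_mem hu, w⁻¹, B.inv_mem hw, ?_⟩
    have := hAB u⁻¹ (A.inv_mem hu) w⁻¹ (B.inv_mem hw)
    rw [mul_inv_rev, this]

/-- the subgroup generated by the `R`-conjugates of `A` -/
def conjClosure (R A : Subgroup S) : Subgroup S :=
  Subgroup.closure {g | ∃ r ∈ R, ∃ v ∈ A, g = r * v * r⁻¹}

theorem le_conjClosure (R A : Subgroup S) : A ≤ conjClosure R A := by
  intro v hv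
  apply Subgroup.subset_closure
  exact ⟨1, R.one_mem, v, hv, by simp⟩

theorem conjClosure_le {R A : Subgroup S} (K : Subgroup S) (hAK : A ≤ K)
    (hK : ∀ r ∈ R, ∀ k ∈ K, r * k * r⁻¹ ∈ K) : conjClosure R A ≤ K := by
  unfold conjClosure
  rw [Subgroup.closure_le]
  rintro _ ⟨r, hr, v, hv, rfl⟩
  exact hK r hr v (hAK hv)

theorem conjClosure_conj_mem {R A : Subgroup S} {r' : S} (hr' : r' ∈ R) {m : S}
    (hm : m ∈ conjClosure R A) : r' * m * r'⁻¹ ∈ conjClosure R A := by
  have h : (conjClosure R A).map (MulAut.conj r').toMonoidHom ≤ conjClosure R A := by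
    unfold conjClosure
    rw [MonoidHom.map_closure, Subgroup.closure_le]
    rintro _ ⟨g, ⟨r, hr, v, hv, rfl⟩, rfl⟩
    apply Subgroup.subset_closure
    refine ⟨r' * r, R.mul_mem hr' hr, v, hv, ?_⟩
    simp only [MulEquiv.coe_toMonoidHom, MulAut.conj_apply]
    group
  have := h ⟨m, hm, rfl⟩
  simpa [MulAut.conj_apply] using this

theorem conjClosure_conj_mem' {R A : Subgroup S} {a : S} (haR : ∀ r ∈ R, a * r * a⁻¹ ∈ R)
    (haA : ∀ v ∈ A, a * v * a⁻¹ ∈ A) {m : S}
    (hm : m ∈ conjClosure R A) : a * m * a⁻¹ ∈ conjClosure R A := by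
  have h : (conjClosure R A).map (MulAut.conj a).toMonoidHom ≤ conjClosure R A := by
    unfold conjClosure
    rw [MonoidHom.map_closure, Subgroup.closure_le]
    rintro _ ⟨g, ⟨r, hr, v, hv, rfl⟩, rfl⟩
    apply Subgroup.subset_closure
    refine ⟨a * r * a⁻¹, haR r hr, a * v * a⁻¹, haA v hv, ?_⟩
    simp only [MulEquiv.coe_toMonoidHom, MulAut.conj_apply]
    group
  have := h ⟨m, hm, rfl⟩
  simpa [MulAut.conj_apply] using this

theorem exists_normal_proper (R A : Subgroup S) (hRp : IsPGroup p R) (hAR : A ≤ R)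
    (hne : A ≠ R) :
    ∃ K : Subgroup S, A ≤ K ∧ K ≤ R ∧ K ≠ R ∧ ∀ r ∈ R, ∀ k ∈ K, r * k * r⁻¹ ∈ K := by
  haveI : Group.IsNilpotent R := hRp.isNilpotent
  have hlt : A.subgroupOf R ≠ ⊤ := by
    intro h
    apply hne
    apply le_antisymm hAR
    intro r hr
    have : (⟨r, hr⟩ : R) ∈ A.subgroupOf R := by rw [h]; trivial
    exact this
  obtain ⟨K, hK, hAK⟩ := (eq_top_or_exists_le_coatom (A.subgroupOf R)).resolve_left hlt
  have hKn : K.Normal :=
    Subgroup.NormalizerCondition.normal_of_coatom K normalizerCondition_of_isNilpotent hK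
  refine ⟨K.map R.subtype, ?_, ?_, ?_, ?_⟩
  · intro v hv
    exact ⟨⟨v, hAR hv⟩, hAK (by rw [Subgroup.mem_subgroupOf]; exact hv), rfl⟩
  · rintro _ ⟨k, _, rfl⟩
    exact k.2
  · intro h
    apply hK.1
    rw [eq_top_iff]
    intro r _
    have hr : (r : S) ∈ K.map R.subtype := by rw [h]; exact r.2
    obtain ⟨k, hk, hkr⟩ := hr
    have : k = r := Subtype.ext hkr
    rw [← this]; exact hk
  · rintro r hr _ ⟨k, hk, rfl⟩
    exact ⟨⟨r, hr⟩ * k * ⟨r, hr⟩⁻¹, hKn.conj_mem k hk _, by simp⟩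

theorem main (P Q : Subgroup S) (hP : IsPGroup p P) (x y : S) (hx : x ∈ Q) (hy : y ∈ Q)
    (hQab : ∀ a ∈ Q, ∀ b ∈ Q, a * b = b * a)
    (h1 : ∀ r ∈ P, r * x = x * r → r * y = y * r → r = 1)
    (hgen : ∀ M : Subgroup S, M ≤ P → Q ≤ Subgroup.normalizer (M : Set S) →
      M ≤ (M ⊓ Subgroup.centralizer {x}) ⊔ (M ⊓ Subgroup.centralizer {y})) :
    ∀ n : ℕ, ∀ R : Subgroup S, R ≤ P → Q ≤ Subgroup.normalizer (R : Set S) → Nat.card R ≤ n →
      ∀ a ∈ R, a * x = x * a → ∀ b ∈ R, b * y = y * b → a * b = b * a := by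
  have hxy : x * y = y * x := hQab x hx y hy
  intro n
  induction n with
  | zero =>
    intro R _ _ hcard
    have : 0 < Nat.card R := Nat.card_pos
    omega
  | succ n ih =>
    intro R hRP hQR hcard a haR hax b hbR hby
    -- conjugation by elements of Q preserves R
    have hQconj : ∀ c ∈ Q, ∀ r ∈ R, c * r * c⁻¹ ∈ R := fun c hc r hr =>
      ((Subgroup.mem_normalizer_iff.1 (hQR hc)) r).1 hr
    by_cases hR2 : ∀ r ∈ R, r * y = y * r
    · have := h1 a (hRP haR) hax (hR2 a haR)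
      rw [this, one_mul, mul_one]
    · -- A := R ⊓ C(y)
      obtain ⟨A, hA⟩ : ∃ A : Subgroup S, A = R ⊓ Subgroup.centralizer {y} := ⟨_, rfl⟩
      have hAmem : ∀ v : S, v ∈ A ↔ v ∈ R ∧ v * y = y * v := by
        intro v
        rw [hA, Subgroup.mem_inf, Subgroup.mem_centralizer_singleton_iff]
      have hAR : A ≤ R := by rw [hA]; exact inf_le_left
      have hAne : A ≠ R := by
        intro h
        apply hR2
        intro r hr
        have : r ∈ A := by rw [h]; exact hr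
        exact ((hAmem r).1 this).2
      obtain ⟨K, hAK, hKR, hKne, hKn⟩ := exists_normal_proper R A (hP.to_le hRP) hAR hAne
      obtain ⟨M, hM⟩ : ∃ M : Subgroup S, M = conjClosure R A := ⟨_, rfl⟩
      have hAM : A ≤ M := by rw [hM]; exact le_conjClosure R A
      have hMK : M ≤ K := by rw [hM]; exact conjClosure_le K hAK hKn
      have hMR : M ≤ R := hMK.trans hKR
      have hcardM : Nat.card M ≤ n := by
        have h1 : Nat.card M ≤ Nat.card K := Subgroup.card_le_of_le hMK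
        have h2 : Nat.card K < Nat.card R := by
          by_contra hcon
          push Not at hcon
          exact hKne (Subgroup.eq_of_le_of_card_ge hKR hcon)
        omega
      -- A is invariant under Q
      have hQA : ∀ c ∈ Q, ∀ v ∈ A, c * v * c⁻¹ ∈ A := by
        intro c hc v hv
        rw [hAmem] at hv ⊢
        refine ⟨hQconj c hc v hv.1, ?_⟩
        have hcy : c * y = y * c := hQab c hc y hy
        calc c * v * c⁻¹ * y = c * v * (c⁻¹ * y * c) * c⁻¹ := by group
          _ = c * v * y * c⁻¹ := by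
              have : c⁻¹ * y * c = y := by rw [mul_assoc, hcy.symm, ← mul_assoc, inv_mul_cancel, one_mul]
              rw [this]
          _ = c * (v * y) * c⁻¹ := by group
          _ = c * (y * v) * c⁻¹ := by rw [hv.2]
          _ = (c * y) * v * c⁻¹ := by group
          _ = (y * c) * v * c⁻¹ := by rw [hcy]
          _ = y * (c * v * c⁻¹) := by group
      have hQMconj : ∀ c ∈ Q, ∀ m ∈ M, c * m * c⁻¹ ∈ M := by
        intro c hc m hm
        rw [hM] at hm ⊢
        exact conjClosure_conj_mem' (hQconj c hc) (hQA c hc) hm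
      have hQM : Q ≤ Subgroup.normalizer (M : Set S) := by
        intro c hc
        rw [Subgroup.mem_normalizer_iff]
        intro m
        constructor
        · exact hQMconj c hc m
        · intro h
          have := hQMconj c⁻¹ (Q.inv_mem hc) _ h
          have e : c⁻¹ * (c * m * c⁻¹) * c⁻¹⁻¹ = m := by group
          rwa [e] at this
      have hRM : ∀ r ∈ R, ∀ m ∈ M, r * m * r⁻¹ ∈ M := by
        intro r hr m hm
        rw [hM] at hm ⊢
        exact conjClosure_conj_mem hr hm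
      have ihM := ih M (hMR.trans hRP) hQM hcardM
      have hcomm : ∀ u ∈ M ⊓ Subgroup.centralizer {x}, ∀ w ∈ M ⊓ Subgroup.centralizer {y},
          u * w = w * u := fun u hu w hw =>
        ihM u hu.1 (Subgroup.mem_centralizer_singleton_iff.1 hu.2) w hw.1
          (Subgroup.mem_centralizer_singleton_iff.1 hw.2)
      have hdec : ∀ m ∈ M, ∃ u ∈ M ⊓ Subgroup.centralizer {x},
          ∃ w ∈ M ⊓ Subgroup.centralizer {y}, m = u * w := fun m hm =>
        mem_sup_of_commute hcomm (hgen M (hMR.trans hRP) hQM hm)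
      -- surjectivity on A
      have hsurjA : ∀ v ∈ A, ∃ v₀ ∈ A, v = v₀⁻¹ * (x * v₀ * x⁻¹) := by
        let φ : A → A := fun v => ⟨(v : S)⁻¹ * (x * (v : S) * x⁻¹),
          A.mul_mem (A.inv_mem v.2) (hQA x hx v v.2)⟩
        have hinj : Function.Injective φ := by
          intro v v' h
          have h' : (v : S)⁻¹ * (x * (v : S) * x⁻¹) = (v' : S)⁻¹ * (x * (v' : S) * x⁻¹) :=
            congrArg Subtype.val h
          have hv := (hAmem v).1 v.2
          have hv' := (hAmem v').1 v'.2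
          have hmem : (v' : S) * (v : S)⁻¹ ∈ A := A.mul_mem v'.2 (A.inv_mem v.2)
          have hc2 := ((hAmem _).1 hmem).2
          have hc1 : (v' : S) * (v : S)⁻¹ * x = x * ((v' : S) * (v : S)⁻¹) := by
            calc (v' : S) * (v : S)⁻¹ * x
                = (v' : S) * ((v : S)⁻¹ * (x * (v : S) * x⁻¹)) * x * (v : S)⁻¹ := by group
              _ = (v' : S) * ((v' : S)⁻¹ * (x * (v' : S) * x⁻¹)) * x * (v : S)⁻¹ := by rw [h']
              _ = x * ((v' : S) * (v : S)⁻¹) := by group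
          have := h1 _ (hRP (hAR hmem)) hc1 hc2
          apply Subtype.ext
          have e : (v' : S) = (v : S) := by
            calc (v' : S) = (v' : S) * (v : S)⁻¹ * (v : S) := by group
              _ = (v : S) := by rw [this, one_mul]
          exact e.symm
        have hsurj := Finite.injective_iff_surjective.1 hinj
        intro v hv
        obtain ⟨v₀, hv₀⟩ := hsurj ⟨v, hv⟩
        exact ⟨v₀, v₀.2, (congrArg Subtype.val hv₀).symm⟩
      -- R₁ normalizes A
      have hnormA : ∀ c ∈ R, c * x = x * c → ∀ v ∈ A, c * v * c⁻¹ ∈ A := by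
        intro c hcR hcx v hv
        obtain ⟨v₀, hv₀, rfl⟩ := hsurjA v hv
        obtain ⟨u, hu, w, hw, huw⟩ := hdec (c * v₀ * c⁻¹) (hRM c hcR v₀ (hAM hv₀))
        have hux : u * x = x * u := Subgroup.mem_centralizer_singleton_iff.1 hu.2
        have hwA : w ∈ A := (hAmem w).2 ⟨hMR hw.1, Subgroup.mem_centralizer_singleton_iff.1 hw.2⟩
        have hcx' : x * c = c * x := hcx.symm
        have e1 : c * (x * v₀ * x⁻¹) * c⁻¹ = x * (c * v₀ * c⁻¹) * x⁻¹ := by
          calc c * (x * v₀ * x⁻¹) * c⁻¹ = (c * x) * v₀ * (c * x)⁻¹ := by group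
            _ = (x * c) * v₀ * (x * c)⁻¹ := by rw [hcx]
            _ = x * (c * v₀ * c⁻¹) * x⁻¹ := by group
        have e2 : x * (u * w) * x⁻¹ = u * (x * w * x⁻¹) := by
          calc x * (u * w) * x⁻¹ = (x * u) * w * x⁻¹ := by group
            _ = (u * x) * w * x⁻¹ := by rw [hux]
            _ = u * (x * w * x⁻¹) := by group
        have e3 : c * (v₀⁻¹ * (x * v₀ * x⁻¹)) * c⁻¹ = w⁻¹ * (x * w * x⁻¹) := by
          calc c * (v₀⁻¹ * (x * v₀ * x⁻¹)) * c⁻¹
              = (c * v₀ * c⁻¹)⁻¹ * (c * (x * v₀ * x⁻¹) * c⁻¹) := by group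
            _ = (u * w)⁻¹ * (x * (u * w) * x⁻¹) := by rw [e1, huw]
            _ = (u * w)⁻¹ * (u * (x * w * x⁻¹)) := by rw [e2]
            _ = w⁻¹ * (x * w * x⁻¹) := by group
        rw [e3]
        exact A.mul_mem (A.inv_mem hwA) (hQA x hx w hwA)
      -- surjectivity on R₁
      obtain ⟨R₁, hR₁⟩ : ∃ R₁ : Subgroup S, R₁ = R ⊓ Subgroup.centralizer {x} := ⟨_, rfl⟩
      have hR₁mem : ∀ v : S, v ∈ R₁ ↔ v ∈ R ∧ v * x = x * v := by
        intro v
        rw [hR₁, Subgroup.mem_inf, Subgroup.mem_centralizer_singleton_iff]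
      have hR₁y : ∀ c ∈ R₁, y * c * y⁻¹ ∈ R₁ := by
        intro c hc
        rw [hR₁mem] at hc ⊢
        refine ⟨hQconj y hy c hc.1, ?_⟩
        calc y * c * y⁻¹ * x = y * c * (y⁻¹ * x * y) * y⁻¹ := by group
          _ = y * c * x * y⁻¹ := by
              have : y⁻¹ * x * y = x := by rw [mul_assoc, hxy, ← mul_assoc, inv_mul_cancel, one_mul]
              rw [this]
          _ = y * (c * x) * y⁻¹ := by group
          _ = y * (x * c) * y⁻¹ := by rw [hc.2]
          _ = (y * x) * c * y⁻¹ := by group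
          _ = (x * y) * c * y⁻¹ := by rw [hxy]
          _ = x * (y * c * y⁻¹) := by group
      have hsurj1 : ∀ c ∈ R₁, ∃ c₀ ∈ R₁, c = c₀ * (y * c₀⁻¹ * y⁻¹) := by
        let ψ : R₁ → R₁ := fun c => ⟨(c : S) * (y * (c : S)⁻¹ * y⁻¹),
          R₁.mul_mem c.2 (hR₁y _ (R₁.inv_mem c.2))⟩
        have hinj : Function.Injective ψ := by
          intro c c' h
          have h' : (c : S) * (y * (c : S)⁻¹ * y⁻¹) = (c' : S) * (y * (c' : S)⁻¹ * y⁻¹) :=
            congrArg Subtype.val h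
          have hmem : (c' : S)⁻¹ * (c : S) ∈ R₁ := R₁.mul_mem (R₁.inv_mem c'.2) c.2
          have hc1 := ((hR₁mem _).1 hmem).2
          have hc2 : (c' : S)⁻¹ * (c : S) * y = y * ((c' : S)⁻¹ * (c : S)) := by
            calc (c' : S)⁻¹ * (c : S) * y
                = (c' : S)⁻¹ * ((c : S) * (y * (c : S)⁻¹ * y⁻¹)) * y * (c : S) := by group
              _ = (c' : S)⁻¹ * ((c' : S) * (y * (c' : S)⁻¹ * y⁻¹)) * y * (c : S) := by rw [h']
              _ = y * ((c' : S)⁻¹ * (c : S)) := by group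
          have := h1 _ (hRP ((hR₁mem _).1 hmem).1) hc1 hc2
          apply Subtype.ext
          calc (c : S) = (c' : S) * ((c' : S)⁻¹ * (c : S)) := by group
            _ = (c' : S) := by rw [this, mul_one]
        have hsurj := Finite.injective_iff_surjective.1 hinj
        intro c hc
        obtain ⟨c₀, hc₀⟩ := hsurj ⟨c, hc⟩
        exact ⟨c₀, c₀.2, (congrArg Subtype.val hc₀).symm⟩
      -- final
      have haR₁ : a ∈ R₁ := (hR₁mem a).2 ⟨haR, hax⟩
      have hbA : b ∈ A := (hAmem b).2 ⟨hbR, hby⟩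
      obtain ⟨c₀, hc₀, rfl⟩ := hsurj1 a haR₁
      have hc₀' := (hR₁mem c₀).1 hc₀
      have hc₀inv := (hR₁mem c₀⁻¹).1 (R₁.inv_mem hc₀)
      -- b' := c₀⁻¹ b c₀ ∈ A
      have hb' : c₀⁻¹ * b * c₀⁻¹⁻¹ ∈ A := hnormA c₀⁻¹ hc₀inv.1 hc₀inv.2 b hbA
      have hb'y := ((hAmem _).1 hb').2
      have hyb : y⁻¹ * b * y = b := by
        rw [mul_assoc, hby, ← mul_assoc, inv_mul_cancel, one_mul]
      have hyb' : y * (c₀⁻¹ * b * c₀⁻¹⁻¹) * y⁻¹ = c₀⁻¹ * b * c₀⁻¹⁻¹ := by
        rw [← hb'y, mul_assoc, mul_inv_cancel, mul_one]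
      have key : c₀ * (y * c₀⁻¹ * y⁻¹) * b * (c₀ * (y * c₀⁻¹ * y⁻¹))⁻¹ = b := by
        calc c₀ * (y * c₀⁻¹ * y⁻¹) * b * (c₀ * (y * c₀⁻¹ * y⁻¹))⁻¹
            = c₀ * (y * (c₀⁻¹ * (y⁻¹ * b * y) * c₀⁻¹⁻¹) * y⁻¹) * c₀⁻¹ := by group
          _ = c₀ * (y * (c₀⁻¹ * b * c₀⁻¹⁻¹) * y⁻¹) * c₀⁻¹ := by rw [hyb]
          _ = c₀ * (c₀⁻¹ * b * c₀⁻¹⁻¹) * c₀⁻¹ := by rw [hyb']
          _ = b := by group
      calc c₀ * (y * c₀⁻¹ * y⁻¹) * b
          = (c₀ * (y * c₀⁻¹ * y⁻¹) * b * (c₀ * (y * c₀⁻¹ * y⁻¹))⁻¹) *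
              (c₀ * (y * c₀⁻¹ * y⁻¹)) := by group
        _ = b * (c₀ * (y * c₀⁻¹ * y⁻¹)) := by rw [key]

end

section
variable {S : Type*} [Group S] [Finite S]

theorem centralizer_eq_of_zpowers {X : Subgroup S} {x : S} (hX : Subgroup.zpowers x = X) :
    Subgroup.centralizer (X : Set S) = Subgroup.centralizer {x} := by
  apply le_antisymm
  · apply Subgroup.centralizer_le
    rw [Set.singleton_subset_iff, ← hX]; exact Subgroup.mem_zpowers x
  · intro g hg
    rw [Subgroup.mem_centralizer_singleton_iff] at hg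
    rw [Subgroup.mem_centralizer_iff]
    intro z hz
    rw [SetLike.mem_coe, ← hX] at hz
    obtain ⟨i, rfl⟩ := Subgroup.mem_zpowers_iff.1 hz
    have : Commute g x := hg
    exact (this.zpow_right i).eq.symm

theorem zpowers_eq_of_card_prime {q : ℕ} [hq : Fact q.Prime] {X : Subgroup S}
    (hc : Nat.card X = q) {x : S} (hx : x ∈ X) (hx1 : x ≠ 1) : Subgroup.zpowers x = X := by
  have hle : Subgroup.zpowers x ≤ X := Subgroup.zpowers_le.2 hx
  apply Subgroup.eq_of_le_of_card_ge hle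
  rw [hc, Nat.card_zpowers]
  have hd : orderOf x ∣ q := by
    rw [← hc]
    have := Subgroup.card_dvd_of_le hle
    rwa [Nat.card_zpowers] at this
  rcases (Nat.dvd_prime hq.out).1 hd with h | h
  · exact absurd (orderOf_eq_one_iff.1 h) hx1
  · exact h.ge

theorem exists_ne_one_of_card_prime {q : ℕ} [hq : Fact q.Prime] {X : Subgroup S}
    (hc : Nat.card X = q) : ∃ x ∈ X, x ≠ 1 := by
  by_contra hcon
  push Not at hcon
  have : X = ⊥ := (Subgroup.eq_bot_iff_forall _).2 hcon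
  rw [this, Subgroup.card_bot] at hc
  exact hq.out.one_lt.ne hc

end

theorem result {S : Type*} [Group S] [Finite S] {p q : ℕ} [Fact p.Prime] [Fact q.Prime] (hpq : p ≠ q)
    (P : Sylow p S) [(P : Subgroup S).Normal] (Q : Subgroup S) (hQ : Cfsg.IsElementaryAbelian q Q) (hQc : Nat.card Q = q ^ 2)
    (hS : (P : Subgroup S) ⊔ Q = ⊤)
    (X₁ X₂ : Subgroup S) (h₁ : X₁ ≤ Q) (h₂ : X₂ ≤ Q) (h₁₂ : X₁ ≠ X₂) (hc₁ : Nat.card X₁ = q) (hc₂ : Nat.card X₂ = q)
    (hf₁ : (P : Subgroup S) ⊓ Subgroup.centralizer (X₁ : Set S) ≠ ⊥)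
    (hf₂ : (P : Subgroup S) ⊓ Subgroup.centralizer (X₂ : Set S) ≠ ⊥)
    (honly : ∀ X : Subgroup S, X ≤ Q → Nat.card X = q →
      (P : Subgroup S) ⊓ Subgroup.centralizer (X : Set S) ≠ ⊥ → X = X₁ ∨ X = X₂) :
    ⁅(P : Subgroup S) ⊓ Subgroup.centralizer (X₁ : Set S), (P : Subgroup S) ⊓ Subgroup.centralizer (X₂ : Set S)⁆ = ⊥ ∧
      ((P : Subgroup S) ⊓ Subgroup.centralizer (X₁ : Set S)) ⊓ ((P : Subgroup S) ⊓ Subgroup.centralizer (X₂ : Set S)) = ⊥ ∧
      ((P : Subgroup S) ⊓ Subgroup.centralizer (X₁ : Set S)) ⊔ ((P : Subgroup S) ⊓ Subgroup.centralizer (X₂ : Set S)) = P := by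
  haveI := hQ.1
  have hqpr : q.Prime := Fact.out
  have hppr : p.Prime := Fact.out
  obtain ⟨x, hxX, hx1⟩ := exists_ne_one_of_card_prime hc₁
  obtain ⟨y, hyX, hy1⟩ := exists_ne_one_of_card_prime hc₂
  have hzx := zpowers_eq_of_card_prime hc₁ hxX hx1
  have hzy := zpowers_eq_of_card_prime hc₂ hyX hy1
  have hCx := centralizer_eq_of_zpowers hzx
  have hCy := centralizer_eq_of_zpowers hzy
  have hxQ : x ∈ Q := h₁ hxX
  have hyQ : y ∈ Q := h₂ hyX
  have hQab : ∀ a ∈ Q, ∀ b ∈ Q, a * b = b * a := by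
    intro a ha b hb
    have := hQ.1.is_comm.comm (⟨a, ha⟩ : Q) ⟨b, hb⟩
    exact congrArg Subtype.val this
  have hcase : ∀ a ∈ Q, a ≠ 1 → (P : Subgroup S) ⊓ Subgroup.centralizer {a} ≠ ⊥ →
      Subgroup.zpowers a = X₁ ∨ Subgroup.zpowers a = X₂ := by
    intro a ha ha1 hne
    have hcard : Nat.card (Subgroup.zpowers a) = q := by
      rw [Nat.card_zpowers]
      exact orderOf_eq_prime (hQ.2 a ha) ha1
    have hle : Subgroup.zpowers a ≤ Q := Subgroup.zpowers_le.2 ha
    apply honly _ hle hcard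
    rw [centralizer_eq_of_zpowers rfl]; exact hne
  have hyX₁ : y ∉ X₁ := by
    intro h
    apply h₁₂
    have : X₂ ≤ X₁ := by rw [← hzy]; exact Subgroup.zpowers_le.2 h
    exact (Subgroup.eq_of_le_of_card_ge this (by rw [hc₁, hc₂])).symm
  have hxX₂ : x ∉ X₂ := by
    intro h
    apply h₁₂
    have : X₁ ≤ X₂ := by rw [← hzx]; exact Subgroup.zpowers_le.2 h
    exact Subgroup.eq_of_le_of_card_ge this (by rw [hc₁, hc₂])
  have h1 : ∀ r ∈ (P : Subgroup S), r * x = x * r → r * y = y * r → r = 1 := by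
    intro r hr hrx hry
    have hz1 : x * y ≠ 1 := by
      intro h
      apply hyX₁
      have : y = x⁻¹ := eq_inv_of_mul_eq_one_right h
      rw [this]; exact X₁.inv_mem hxX
    have hzQ : x * y ∈ Q := Q.mul_mem hxQ hyQ
    by_contra hr1
    have hne : (P : Subgroup S) ⊓ Subgroup.centralizer {x * y} ≠ ⊥ := by
      intro h
      have : r ∈ (P : Subgroup S) ⊓ Subgroup.centralizer {x * y} := by
        refine ⟨hr, ?_⟩
        show r ∈ Subgroup.centralizer {x * y}
        rw [Subgroup.mem_centralizer_singleton_iff]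
        calc r * (x * y) = (r * x) * y := by group
          _ = (x * r) * y := by rw [hrx]
          _ = x * (r * y) := by group
          _ = x * (y * r) := by rw [hry]
          _ = x * y * r := by group
      rw [h, Subgroup.mem_bot] at this
      exact hr1 this
    rcases hcase (x * y) hzQ hz1 hne with h | h
    · apply hyX₁
      have hm : x * y ∈ X₁ := by rw [← h]; exact Subgroup.mem_zpowers _
      have : y = x⁻¹ * (x * y) := by group
      rw [this]; exact X₁.mul_mem (X₁.inv_mem hxX) hm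
    · apply hxX₂
      have hm : x * y ∈ X₂ := by rw [← h]; exact Subgroup.mem_zpowers _
      have : x = (x * y) * y⁻¹ := by group
      rw [this]; exact X₂.mul_mem hm (X₂.inv_mem hyX)
  have hncyc : ¬ IsCyclic Q := by
    intro hcyc
    obtain ⟨g, hg⟩ := hcyc.exists_generator
    have h1 : orderOf g = Nat.card Q := orderOf_eq_card_of_forall_mem_zpowers hg
    have h2 : g ^ q = 1 := by
      apply Subtype.ext
      rw [Subgroup.coe_pow]; exact hQ.2 g g.2
    have h3 : orderOf g ∣ q := orderOf_dvd_of_pow_eq_one h2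
    rw [h1, hQc] at h3
    have := Nat.le_of_dvd hqpr.pos h3
    nlinarith [hqpr.two_le]
  have hcopM : ∀ M : Subgroup S, M ≤ P → (Nat.card Q).Coprime (Nat.card M) := by
    intro M hM
    obtain ⟨k, hk⟩ := (IsPGroup.iff_card.1 (P.isPGroup'.to_le hM))
    rw [hQc, hk]
    exact Nat.Coprime.pow _ _ ((Nat.coprime_primes hqpr hppr).2 (Ne.symm hpq))
  have hgen : ∀ M : Subgroup S, M ≤ P → Q ≤ Subgroup.normalizer (M : Set S) →
      M ≤ (M ⊓ Subgroup.centralizer {x}) ⊔ (M ⊓ Subgroup.centralizer {y}) := by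
    intro M hMP hQM
    have h58 := Cfsg.Agent.S0058.result Q M hncyc hQM (hcopM M hMP)
    conv_lhs => rw [← h58]
    apply iSup₂_le
    rintro a ⟨haQ, ha1⟩
    by_cases hbot : M ⊓ Subgroup.centralizer {a} = ⊥
    · rw [hbot]; exact bot_le
    · have hne : (P : Subgroup S) ⊓ Subgroup.centralizer {a} ≠ ⊥ := by
        intro h
        apply hbot
        rw [eq_bot_iff, ← h]
        exact inf_le_inf_right _ hMP
      rcases hcase a haQ ha1 hne with h | h
      · have : Subgroup.centralizer {a} = Subgroup.centralizer {x} :=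
          (centralizer_eq_of_zpowers h).symm.trans hCx
        rw [this]; exact le_sup_left
      · have : Subgroup.centralizer {a} = Subgroup.centralizer {y} :=
          (centralizer_eq_of_zpowers h).symm.trans hCy
        rw [this]; exact le_sup_right
  have hmain := main (p := p) (P : Subgroup S) Q P.isPGroup' x y hxQ hyQ hQab h1 hgen
  have hPn : Q ≤ Subgroup.normalizer ((P : Subgroup S) : Set S) := by
    rw [Subgroup.normalizer_eq_top_iff.2 inferInstance]; exact le_top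
  rw [hCx, hCy]
  refine ⟨?_, ?_, ?_⟩
  · rw [Subgroup.commutator_eq_bot_iff_le_centralizer]
    intro a ha
    rw [Subgroup.mem_centralizer_iff]
    intro b hb
    exact (hmain (Nat.card (P : Subgroup S)) P le_rfl hPn le_rfl a ha.1
      (Subgroup.mem_centralizer_singleton_iff.1 ha.2) b hb.1
      (Subgroup.mem_centralizer_singleton_iff.1 hb.2)).symm
  · rw [eq_bot_iff]
    rintro r ⟨⟨hr, hrx⟩, ⟨_, hry⟩⟩
    rw [Subgroup.mem_bot]
    exact h1 r hr (Subgroup.mem_centralizer_singleton_iff.1 hrx)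
      (Subgroup.mem_centralizer_singleton_iff.1 hry)
  · apply le_antisymm
    · exact sup_le inf_le_left inf_le_left
    · exact hgen P le_rfl hPn

end Cfsg.Agent.S1900
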