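import Mathlib
import Cfsg.Statements.S1902
import Cfsg.Agent.S1302
import Cfsg.Agent.S1462
import Cfsg.Agent.Lib.Helper3.PSolv2
import Cfsg.Agent.Lib.Helper3.Conj

set_option autoImplicit false
open Cfsg
open Cfsg.Agent.Lib.Helper3

namespace Cfsg.Agent.S1902

/-- Let p be an odd prime, G a finite p-solvable group, and B an elementary abelian subgroup of order p² such that B is the subgroup generated by the elements of order p of some Sylow p-subgroup of C_G(b₀), for some nontrivial b₀ ∈ B. Then every B-invariant subgroup of G of order prime to p lies in O_{p'}(G). -/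
theorem result {G : Type*} [Group G] [Finite G] {p : ℕ} [Fact p.Prime] (hp : p ≠ 2)
    (hG : Cfsg.IsPSolvable p G) (B : Subgroup G) (hB : Cfsg.IsElementaryAbelian p B) (hBc : Nat.card B = p ^ 2)
    (b₀ : G) (hb₀ : b₀ ∈ B) (hb₁ : b₀ ≠ 1) (P : Sylow p ↥(Subgroup.centralizer ({b₀} : Set G)))
    (hBP : B = Subgroup.closure {x : G | x ∈ ((P : Subgroup ↥(Subgroup.centralizer ({b₀} : Set G))).map
      (Subgroup.centralizer ({b₀} : Set G)).subtype : Subgroup G) ∧ orderOf x = p})
    (Q : Subgroup G) (hQ : ¬ p ∣ Nat.card Q) (hinv : ∀ b ∈ B, ∀ x ∈ Q, b * x * b⁻¹ ∈ Q) :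
    Q ≤ Cfsg.pPrimeCore p G := by
  have hpp : p.Prime := Fact.out
  have hX : Cfsg.IsPConstrained p G := by
    rw [isPConstrained_iff]
    exact centralizer_pCore_le_of_psolvable_quotient hG _ (pPrimeCore_quotient_eq_bot p)
  have hBp : IsPGroup p ↥B := IsPGroup.of_card hBc
  have hBcomm : ∀ a ∈ B, ∀ b ∈ B, a * b = b * a := by
    intro a ha b hb
    have := hB.1.is_comm.comm (⟨a, ha⟩ : ↥B) ⟨b, hb⟩
    exact congrArg Subtype.val this
  have hBC : B ≤ Subgroup.centralizer ({b₀} : Set G) := by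
    intro b hb
    rw [Subgroup.mem_centralizer_iff]
    intro y hy
    rw [Set.mem_singleton_iff.mp hy]
    exact hBcomm b₀ hb₀ b hb
  have hgen : ∀ y, y ∈ ((P : Subgroup ↥(Subgroup.centralizer ({b₀} : Set G))).map
      (Subgroup.centralizer ({b₀} : Set G)).subtype : Subgroup G) → orderOf y = p → y ∈ B := by
    intro y hy hyo
    rw [hBP]
    exact Subgroup.subset_closure ⟨hy, hyo⟩
  have hBord : ∀ b ∈ B, b ≠ 1 → orderOf b = p := by
    intro b hb hb1
    exact orderOf_eq_prime (hB.2 b hb) hb1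
  have hAQ : B ≤ Subgroup.normalizer (Q : Set G) := by
    intro b hb
    apply mem_normalizer_of_conj_mem
    · exact hinv b hb
    · intro x hx
      have := hinv b⁻¹ (Subgroup.inv_mem _ hb) x hx
      simpa using this
  apply Cfsg.Agent.S1302.result p hp hX B hB.1 hBp _ Q hQ hAQ
  intro x hx hxo
  have hxp : x ^ p = 1 := by rw [← hxo]; exact pow_orderOf_eq_one x
  have hY := Cfsg.Agent.S1462.elemAb_sup p B hB x hx hxp
  have hxC : x ∈ Subgroup.centralizer ({b₀} : Set G) := by
    rw [Subgroup.mem_centralizer_iff]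
    intro y hy
    rw [Set.mem_singleton_iff.mp hy]
    exact Subgroup.mem_centralizer_iff.mp hx b₀ hb₀
  have hYC : B ⊔ Subgroup.zpowers x ≤ Subgroup.centralizer ({b₀} : Set G) :=
    sup_le hBC (by rw [Subgroup.zpowers_le]; exact hxC)
  have hYp : IsPGroup p ↥((B ⊔ Subgroup.zpowers x).subgroupOf
      (Subgroup.centralizer ({b₀} : Set G))) := by
    rintro ⟨y, hy⟩
    refine ⟨1, ?_⟩
    apply Subtype.ext
    apply Subtype.ext
    simpa using hY.2 (y : G) hy
  obtain ⟨c, hc⟩ := exists_le_conj_sylow P _ hYp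
  -- elements of Y conjugate back into P'
  have hconj : ∀ y ∈ B ⊔ Subgroup.zpowers x, (c : G)⁻¹ * y * (c : G) ∈
      ((P : Subgroup ↥(Subgroup.centralizer ({b₀} : Set G))).map
      (Subgroup.centralizer ({b₀} : Set G)).subtype : Subgroup G) := by
    intro y hy
    have h1 := hc (show (⟨y, hYC hy⟩ : ↥(Subgroup.centralizer ({b₀} : Set G))) ∈
      (B ⊔ Subgroup.zpowers x).subgroupOf (Subgroup.centralizer ({b₀} : Set G)) from hy)
    rw [mem_map_conj] at h1
    exact ⟨_, h1, rfl⟩
  have hord : ∀ y : G, orderOf ((c : G)⁻¹ * y * (c : G)) = orderOf y := by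
    intro y
    have := orderOf_injective (MulAut.conj (c : G)⁻¹).toMonoidHom (MulAut.conj (c : G)⁻¹).injective y
    simpa using this
  -- c⁻¹ B c ≤ B
  have hBle : B.map (MulAut.conj (c : G)⁻¹).toMonoidHom ≤ B := by
    rintro _ ⟨b, hb, rfl⟩
    show (c : G)⁻¹ * b * (c : G)⁻¹⁻¹ ∈ B
    rw [inv_inv]
    by_cases hb1 : b = 1
    · rw [hb1]; simp
    · apply hgen _ (hconj b (Subgroup.mem_sup_left hb))
      rw [hord]; exact hBord b hb hb1
  have hBeq : B.map (MulAut.conj (c : G)⁻¹).toMonoidHom = B := by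
    apply Subgroup.eq_of_le_of_card_ge hBle
    rw [card_map_conj]
  have hxB : (c : G)⁻¹ * x * (c : G) ∈ B := by
    apply hgen _ (hconj x (Subgroup.mem_sup_right (Subgroup.mem_zpowers x)))
    rw [hord]; exact hxo
  rw [← hBeq] at hxB
  obtain ⟨b, hb, hbx⟩ := hxB
  have hbx' : (c : G)⁻¹ * b * (c : G)⁻¹⁻¹ = (c : G)⁻¹ * x * (c : G) := hbx
  rw [inv_inv] at hbx'
  have : b = x := by
    have := congrArg (fun t => (c : G) * t * (c : G)⁻¹) hbx'
    simpa [mul_assoc] using this
  rw [← this]; exact hb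

end Cfsg.Agent.S1902
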