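import Cfsg.Statements.S1905
import Mathlib
import Cfsg.Agent.Lib.Helper6.SE
import Cfsg.Agent.Lib.Helper6.PG4
import Cfsg.Agent.S1225

set_option autoImplicit false
open Cfsg Cfsg.Agent.Lib.Helper6 Cfsg.Agent.Lib.Helper1

namespace Cfsg.Agent.S1905

variable {S : Type*} [Group S] [Finite S]

theorem invol_conj_or_comm (x y : S) (hx : orderOf x = 2) (hy : orderOf y = 2) :
    IsConj x y ∨ ∃ z, orderOf z = 2 ∧ z * x = x * z ∧ z * y = y * z := by
  have hx2 := sq_of_orderOf_two x hx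
  have hy2 := sq_of_orderOf_two y hy
  by_cases hodd : Odd (orderOf (x * y))
  · left
    exact Cfsg.Agent.S1875.isConj_of_odd x y hx2 hy2 _ (pow_odd_orderOf _ hodd)
  · right
    rw [Nat.not_odd_iff_even] at hodd
    obtain ⟨k, hk⟩ := hodd
    have hkpos : 0 < k := by
      have := orderOf_pos (x * y); omega
    have hk2 : (x * y) ^ (2 * k) = 1 := by
      rw [two_mul, ← hk]; exact pow_orderOf_eq_one _
    have hc1 : (x * y) ^ k ≠ 1 := pow_ne_one_of_lt_orderOf hkpos.ne' (by omega)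
    have hc2 : ((x * y) ^ k) ^ 2 = 1 := by rw [← pow_mul, mul_comm]; exact hk2
    have hco : orderOf ((x * y) ^ k) = 2 := orderOf_eq_prime hc2 hc1
    exact ⟨_, hco, (Cfsg.Agent.S1922.central_comm_left x y hx2 hy2 k hk2).symm,
      (Cfsg.Agent.S1922.central_comm_right x y hx2 hy2 k hk2).symm⟩

theorem all_invol_mem (M : Subgroup S) (hM : Even (Nat.card M))
    (hC : ∀ i ∈ M, orderOf i = 2 → Subgroup.centralizer ({i} : Set S) ≤ M)
    (hnc : ¬ ∀ x y : S, orderOf x = 2 → orderOf y = 2 → IsConj x y) :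
    ∀ w : S, orderOf w = 2 → w ∈ M := by
  obtain ⟨i, hiM, hi⟩ := exists_invol_of_even_card M hM
  have key : ∀ a ∈ M, orderOf a = 2 → ∀ w, orderOf w = 2 → ¬ IsConj a w → w ∈ M := by
    intro a haM ha w hw hnc
    rcases invol_conj_or_comm a w ha hw with h | ⟨z, hz, hza, hzw⟩
    · exact absurd h hnc
    · have hzM : z ∈ M := hC a haM ha (Subgroup.mem_centralizer_singleton_iff.2 hza)
      exact hC z hzM hz (Subgroup.mem_centralizer_singleton_iff.2 hzw.symm)
  intro w hw
  by_cases h1 : IsConj i w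
  · have : ∃ y, orderOf y = 2 ∧ ¬ IsConj i y := by
      by_contra hall
      push Not at hall
      apply hnc
      intro x y hx hy
      exact (hall x hx).symm.trans (hall y hy)
    obtain ⟨y, hy, hiy⟩ := this
    have hyM := key i hiM hi y hy hiy
    apply key y hyM hy w hw
    intro hyw
    exact hiy (h1.trans hyw.symm)
  · exact key i hiM hi w hw h1

theorem core_even (M : Subgroup S) (hM : Even (Nat.card M))
    (hall : ∀ w : S, orderOf w = 2 → w ∈ M) : ¬ Odd (Nat.card M.normalCore) := by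
  obtain ⟨i, hiM, hi⟩ := exists_invol_of_even_card M hM
  have : i ∈ M.normalCore := by
    show ∀ b : S, b * i * b⁻¹ ∈ M
    intro b
    apply hall
    rw [orderOf_conj]; exact hi
  exact not_odd_card_of_invol_mem this hi

theorem key_b (M : Subgroup S)
    (hC : ∀ i ∈ M, orderOf i = 2 → Subgroup.centralizer ({i} : Set S) ≤ M)
    (X : Sylow 2 M) (I : M)
    (hI : I ∈ (Subgroup.center ↥(X : Subgroup ↥M)).map (X : Subgroup ↥M).subtype)
    (hI2 : orderOf I = 2)
    (hN : Subgroup.normalizer (((X : Subgroup M).map M.subtype : Subgroup S) : Set S) ≤ M)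
    (g : S) (hg : g⁻¹ * (I : S) * g ∈ M) : g ∈ M := by
  haveI : Fact (Nat.Prime 2) := ⟨Nat.prime_two⟩
  obtain ⟨c, hc, hcI⟩ := hI
  have hcomm : ∀ x ∈ (X : Subgroup M), x * I = I * x := by
    intro x hx
    have := Subgroup.mem_center_iff.1 hc ⟨x, hx⟩
    have h2 := congrArg (X : Subgroup M).subtype this
    simp only [map_mul] at h2
    rw [hcI] at h2
    exact h2
  have hz'2 : orderOf (g⁻¹ * (I : S) * g) = 2 := by
    have := orderOf_conj g⁻¹ (I : S)
    rw [inv_inv] at this
    rw [this, Subgroup.orderOf_coe]; exact hI2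
  -- conjugates of X' lie in M
  have hXM : ∀ x ∈ (X : Subgroup M), g⁻¹ * (x : S) * g ∈ M := by
    intro x hx
    apply hC _ hg hz'2
    rw [Subgroup.mem_centralizer_singleton_iff]
    have h1 := hcomm x hx
    have h2 : (x : S) * (I : S) = (I : S) * (x : S) := by
      have := congrArg M.subtype h1
      simpa using this
    calc g⁻¹ * (x : S) * g * (g⁻¹ * (I : S) * g) = g⁻¹ * ((x : S) * (I : S)) * g := by group
      _ = g⁻¹ * ((I : S) * (x : S)) * g := by rw [h2]
      _ = g⁻¹ * (I : S) * g * (g⁻¹ * (x : S) * g) := by group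
  -- the 2-subgroup Y of M
  let f : M →* S := (MulAut.conj g).toMonoidHom.comp M.subtype
  have hf : Function.Injective f := by
    intro a b hab
    have : (MulAut.conj g) (a : S) = (MulAut.conj g) (b : S) := hab
    exact Subtype.ext ((MulAut.conj g).injective this)
  let Y : Subgroup M := ((X : Subgroup M).map M.subtype).comap f
  have hYp : IsPGroup 2 Y := by
    apply IsPGroup.comap_of_injective _ f hf
    exact IsPGroup.map X.isPGroup' M.subtype
  obtain ⟨Q, hQ⟩ := hYp.exists_le_sylow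
  obtain ⟨h, hh⟩ := MulAction.exists_smul_eq M X Q
  have hn : (h : S)⁻¹ * g⁻¹ ∈ Subgroup.normalizer (((X : Subgroup M).map M.subtype : Subgroup S) : Set S) := by
    apply mem_normalizer_of_conj_mem
    rintro _ ⟨x, hx, rfl⟩
    have hy : (⟨g⁻¹ * (x : S) * g, hXM x hx⟩ : M) ∈ Y := by
      show f ⟨g⁻¹ * (x : S) * g, hXM x hx⟩ ∈ (X : Subgroup M).map M.subtype
      refine ⟨x, hx, ?_⟩
      show (x : S) = g * (g⁻¹ * (x : S) * g) * g⁻¹
      group
    have hyQ := hQ hy
    rw [← hh] at hyQ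
    replace hyQ : (⟨g⁻¹ * (x : S) * g, hXM x hx⟩ : M) ∈ (h • X : Sylow 2 M) := hyQ
    rw [mem_sylow_smul_iff] at hyQ
    refine ⟨_, hyQ, ?_⟩
    show (h : S)⁻¹ * (g⁻¹ * (x : S) * g) * (h : S) = _
    simp only [Subgroup.coe_subtype, mul_inv_rev, inv_inv]
    group
  have hnM := hN hn
  have := M.mul_mem h.2 hnM
  rw [mul_inv_cancel_left] at this
  exact (Subgroup.inv_mem_iff M).1 this

theorem key_c (M : Subgroup S)
    (hC : ∀ i ∈ M, orderOf i = 2 → Subgroup.centralizer ({i} : Set S) ≤ M)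
    (X : Sylow 2 M) (I : M)
    (hI : I ∈ (Subgroup.center ↥(X : Subgroup ↥M)).map (X : Subgroup ↥M).subtype)
    (hI2 : orderOf I = 2)
    (hN : Subgroup.normalizer (((X : Subgroup M).map M.subtype : Subgroup S) : Set S) ≤ M)
    (t : S) (htM : t ∈ M) (ht : orderOf t = 2)
    (g : S) (hg : g⁻¹ * t * g ∈ M) : g ∈ M := by
  haveI : Fact (Nat.Prime 2) := ⟨Nat.prime_two⟩
  have hcomm : ∀ x ∈ (X : Subgroup M), x * I = I * x := by
    obtain ⟨c, hc, hcI⟩ := hI
    intro x hx
    have := Subgroup.mem_center_iff.1 hc ⟨x, hx⟩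
    have h2 := congrArg (X : Subgroup M).subtype this
    simp only [map_mul] at h2
    rw [hcI] at h2
    exact h2
  have htM2 : orderOf (⟨t, htM⟩ : M) = 2 := by
    rw [← Subgroup.orderOf_coe]; exact ht
  have hZp : IsPGroup 2 (Subgroup.zpowers (⟨t, htM⟩ : M)) := by
    apply IsPGroup.of_card (n := 1)
    rw [Nat.card_zpowers, htM2, pow_one]
  obtain ⟨Q, hQ⟩ := hZp.exists_le_sylow
  obtain ⟨h, hh⟩ := MulAction.exists_smul_eq M X Q
  have htQ : (⟨t, htM⟩ : M) ∈ Q := hQ (Subgroup.mem_zpowers _)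
  rw [← hh] at htQ
  replace htQ : (⟨t, htM⟩ : M) ∈ (h • X : Sylow 2 M) := htQ
  rw [mem_sylow_smul_iff] at htQ
  -- t0 = h⁻¹ t h ∈ X
  have h1 := hcomm _ htQ
  have h2 : ((h : S)⁻¹ * t * (h : S)) * (I : S) = (I : S) * ((h : S)⁻¹ * t * (h : S)) := by
    have := congrArg M.subtype h1
    simpa using this
  -- g' = h⁻¹ g
  have hg' : ((h : S)⁻¹ * g)⁻¹ * (I : S) * ((h : S)⁻¹ * g) ∈ M := by
    have hz'2 : orderOf (g⁻¹ * t * g) = 2 := by
      have := orderOf_conj g⁻¹ t
      rw [inv_inv] at this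
      rw [this]; exact ht
    apply hC _ hg hz'2
    rw [Subgroup.mem_centralizer_singleton_iff]
    have e1 : ((h : S)⁻¹ * g)⁻¹ * (I : S) * ((h : S)⁻¹ * g) * (g⁻¹ * t * g) =
        g⁻¹ * (h : S) * ((I : S) * ((h : S)⁻¹ * t * (h : S))) * (h : S)⁻¹ * g := by group
    have e2 : (g⁻¹ * t * g) * (((h : S)⁻¹ * g)⁻¹ * (I : S) * ((h : S)⁻¹ * g)) =
        g⁻¹ * (h : S) * (((h : S)⁻¹ * t * (h : S)) * (I : S)) * (h : S)⁻¹ * g := by group
    rw [e1, e2, h2]
  have := key_b M hC X I hI hI2 hN _ hg'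
  have := M.mul_mem h.2 this
  rw [mul_inv_cancel_left] at this
  exact this

theorem strongly_emb (M : Subgroup S) (hM : Even (Nat.card M))
    (hC : ∀ i ∈ M, orderOf i = 2 → Subgroup.centralizer ({i} : Set S) ≤ M)
    (hcore : Odd (Nat.card M.normalCore))
    (X : Sylow 2 M) (I : M)
    (hI : I ∈ (Subgroup.center ↥(X : Subgroup ↥M)).map (X : Subgroup ↥M).subtype)
    (hI2 : orderOf I = 2)
    (hN : Subgroup.normalizer (((X : Subgroup M).map M.subtype : Subgroup S) : Set S) ≤ M) :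
    IsStronglyEmbedded M := by
  have hne : M ≠ ⊤ := by
    intro h
    apply core_even M hM _ hcore
    intro w _; rw [h]; trivial
  rw [Cfsg.Agent.S0223.result M hne hM]
  refine ⟨hC, ?_⟩
  intro t htM s hsM ht hs hts
  obtain ⟨c, hc⟩ := isConj_iff.1 hts
  refine ⟨c, ?_, hc⟩
  have := key_c M hC X I hI hI2 hN t htM ht c⁻¹ (by rw [inv_inv, hc]; exact hsM)
  exact (Subgroup.inv_mem_iff M).1 this

theorem main1905 (M : Subgroup S) (hM : Even (Nat.card M))
    (hC : ∀ i ∈ M, orderOf i = 2 → Subgroup.centralizer ({i} : Set S) ≤ M) (hcore : Odd (Nat.card M.normalCore)) :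
    (∀ x y : S, orderOf x = 2 → orderOf y = 2 → IsConj x y) ∧
      ∀ (X : Sylow 2 M) (I : M), I ∈ (Subgroup.center ↥(X : Subgroup ↥M)).map (X : Subgroup ↥M).subtype → orderOf I = 2 →
        Subgroup.normalizer (((X : Subgroup M).map M.subtype : Subgroup S) : Set S) ≤ M →
        (∀ x y : M, orderOf x = 2 → orderOf y = 2 → IsConj x y) ∧
          ∃ M₀ : Subgroup M, Odd (Nat.card M₀) ∧
            ∀ m : M, ∃ a ∈ M₀, ∃ c ∈ Subgroup.centralizer ({I} : Set M), m = a * c := by
  have part1 : ∀ x y : S, orderOf x = 2 → orderOf y = 2 → IsConj x y := by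
    by_contra hnc
    exact core_even M hM (all_invol_mem M hM hC hnc) hcore
  refine ⟨part1, ?_⟩
  intro X I hI hI2 hN
  have hSE := strongly_emb M hM hC hcore X I hI hI2 hN
  have hu : ∃ u : S, orderOf u = 2 ∧ u ∉ M := by
    by_contra h
    push Not at h
    exact core_even M hM h hcore
  obtain ⟨u, hu2, huM⟩ := hu
  have hI2' : orderOf (I : S) = 2 := by rw [Subgroup.orderOf_coe]; exact hI2
  constructor
  · intro x y hx hy
    have hx' : orderOf (x : S) = 2 := by rw [Subgroup.orderOf_coe]; exact hx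
    have hy' : orderOf (y : S) = 2 := by rw [Subgroup.orderOf_coe]; exact hy
    obtain ⟨⟨d, hd, hdxy⟩, _⟩ := Cfsg.Agent.S1225.result M hSE u hu2 huM x y hx' x.2 hy' y.2
    rw [isConj_iff]
    refine ⟨⟨d, (Subgroup.mem_inf.1 hd).1⟩, ?_⟩
    apply Subtype.ext
    simpa using hdxy
  · refine ⟨(M ⊓ M.map (MulAut.conj u).toMonoidHom).subgroupOf M, ?_, ?_⟩
    · have := hSE.2.2 u huM
      rw [Nat.card_congr (Subgroup.subgroupOfEquivOfLe inf_le_left).toEquiv]; exact this
    · intro m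
      have hm2 : orderOf ((m : S) * I * (m : S)⁻¹) = 2 := by rw [orderOf_conj]; exact hI2'
      have hmM : (m : S) * I * (m : S)⁻¹ ∈ M := M.mul_mem (M.mul_mem m.2 I.2) (M.inv_mem m.2)
      obtain ⟨⟨d, hd, hdI⟩, _⟩ :=
        Cfsg.Agent.S1225.result M hSE u hu2 huM (I : S) _ hI2' I.2 hm2 hmM
      have hdM : d ∈ M := (Subgroup.mem_inf.1 hd).1
      refine ⟨⟨d, hdM⟩, ?_, (⟨d, hdM⟩ : M)⁻¹ * m, ?_, ?_⟩
      · rw [Subgroup.mem_subgroupOf]
        exact hd
      · rw [Subgroup.mem_centralizer_singleton_iff]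
        apply Subtype.ext
        show d⁻¹ * (m : S) * (I : S) = (I : S) * (d⁻¹ * (m : S))
        have e1 : d⁻¹ * (m : S) * (I : S) = d⁻¹ * ((m : S) * I * (m : S)⁻¹) * (m : S) := by group
        rw [e1, ← hdI]
        group
      · group


/-- Let M be a subgroup of even order of a finite group S such that M contains the centralizer in S of each of its involutions and the normal core of M in S has odd order. Then all involutions of S are conjugate. If moreover N_S(X) ≤ M for a Sylow 2-subgroup X of M and I is an involution in the centre of X, then all involutions of M are conjugate in M and M = M₀ C_M(I) for some subgroup M₀ of M of odd order. -/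
theorem result {S : Type*} [Group S] [Finite S] (M : Subgroup S) (hM : Even (Nat.card M))
    (hC : ∀ i ∈ M, orderOf i = 2 → Subgroup.centralizer ({i} : Set S) ≤ M) (hcore : Odd (Nat.card M.normalCore)) :
    (∀ x y : S, orderOf x = 2 → orderOf y = 2 → IsConj x y) ∧
      ∀ (X : Sylow 2 M) (I : M), I ∈ (Subgroup.center ↥(X : Subgroup ↥M)).map (X : Subgroup ↥M).subtype → orderOf I = 2 →
        Subgroup.normalizer (((X : Subgroup M).map M.subtype : Subgroup S) : Set S) ≤ M →
        (∀ x y : M, orderOf x = 2 → orderOf y = 2 → IsConj x y) ∧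
          ∃ M₀ : Subgroup M, Odd (Nat.card M₀) ∧
            ∀ m : M, ∃ a ∈ M₀, ∃ c ∈ Subgroup.centralizer ({I} : Set M), m = a * c := by
  exact main1905 M hM hC hcore

end Cfsg.Agent.S1905
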