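import Cfsg.Statements.S1907
import Cfsg.Agent.S1901
import Cfsg.Agent.S0116
import Cfsg.Agent.Lib.Helper1.Fitting
import Cfsg.Agent.Lib.Helper2.Index
import Cfsg.Agent.Lib.Helper9.Basic

set_option autoImplicit false
open Cfsg

namespace Cfsg.Agent.S1907


open Cfsg.Agent.Lib.Helper4

theorem partA {G : Type*} [Group G] [Finite G] {p : ℕ} [Fact p.Prime] (D H : Subgroup G)
    (hDn : D.Normal) (hD : (Nat.card D).Coprime p) (hH : IsPGroup p H) (y : G)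
    (hyN : y ∈ Subgroup.normalizer (H : Set G)) (hy : ∃ k : ℕ, orderOf y = p ^ k) (d : G)
    (hd : d ∈ D) (hdy : d⁻¹ * y * d ∈ Subgroup.normalizer (H : Set G)) :
    ∃ d₁ ∈ D ⊓ Subgroup.centralizer ({y} : Set G),
      ∃ d₂ ∈ D ⊓ Subgroup.centralizer (H : Set G), d = d₁ * d₂ := by
  obtain ⟨N, hNdef⟩ : ∃ N : Subgroup G, N = Subgroup.normalizer (H : Set G) := ⟨_, rfl⟩
  rw [← hNdef] at hyN hdy
  obtain ⟨D₀, hD₀def⟩ : ∃ D₀ : Subgroup G, D₀ = D ⊓ N := ⟨_, rfl⟩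
  have hD₀D : D₀ ≤ D := by rw [hD₀def]; exact inf_le_left
  have hD₀N : D₀ ≤ N := by rw [hD₀def]; exact inf_le_right
  have hD₀C : D₀ ≤ Subgroup.centralizer (H : Set G) := by
    intro c hc
    rw [Subgroup.mem_centralizer_iff]
    intro h hh
    have hcN : c ∈ Subgroup.normalizer (H : Set G) := by rw [← hNdef]; exact hD₀N hc
    have h1 : c * h * c⁻¹ * h⁻¹ ∈ H :=
      H.mul_mem ((Subgroup.mem_normalizer_iff.1 hcN h).1 hh) (H.inv_mem hh)
    have h2 : c * h * c⁻¹ * h⁻¹ ∈ D := by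
      have : c * h * c⁻¹ * h⁻¹ = c * (h * c⁻¹ * h⁻¹) := by group
      rw [this]
      exact D.mul_mem (hD₀D hc) (hDn.conj_mem _ (D.inv_mem (hD₀D hc)) h)
    have h3 := Cfsg.Agent.S1901.eq_one_of_mem_pgroup_of_mem_coprime H D hH hD _ h1 h2
    have : c * h = (c * h * c⁻¹ * h⁻¹) * (h * c) := by group
    rw [this, h3, one_mul]
  obtain ⟨k, hk⟩ := hy
  have hyk : y ^ p ^ k = 1 := by rw [← hk]; exact pow_orderOf_eq_one y
  have hpgrp : ∀ w : G, w ^ p ^ k = 1 → IsPGroup p (Subgroup.zpowers w) := by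
    intro w hw
    rintro ⟨v, hv⟩
    obtain ⟨i, rfl⟩ := Subgroup.mem_zpowers_iff.1 hv
    refine ⟨k, Subtype.ext ?_⟩
    show (w ^ i) ^ p ^ k = 1
    rw [← zpow_natCast, ← zpow_mul, mul_comm, zpow_mul, zpow_natCast, hw, one_zpow]
  have hYp : IsPGroup p (Subgroup.zpowers y) := hpgrp y hyk
  have hyD₀ : y ∈ Subgroup.normalizer (D₀ : Set G) := by
    rw [Subgroup.mem_normalizer_iff]
    intro c
    constructor
    · intro hc
      rw [hD₀def]
      exact ⟨hDn.conj_mem c (hD₀D hc) y, N.mul_mem (N.mul_mem hyN (hD₀N hc)) (N.inv_mem hyN)⟩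
    · intro hc
      have e : c = y⁻¹ * (y * c * y⁻¹) * y⁻¹⁻¹ := by group
      rw [e, hD₀def]
      exact ⟨hDn.conj_mem _ (hD₀D hc) y⁻¹,
        N.mul_mem (N.mul_mem (N.inv_mem hyN) (hD₀N hc)) (N.inv_mem (N.inv_mem hyN))⟩
  have hYN : Subgroup.zpowers y ≤ Subgroup.normalizer (D₀ : Set G) := by
    rw [Subgroup.zpowers_le]; exact hyD₀
  obtain ⟨w, hwdef⟩ : ∃ w : G, w = d⁻¹ * y * d := ⟨_, rfl⟩
  rw [← hwdef] at hdy
  have hwk : w ^ p ^ k = 1 := by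
    have : w = d⁻¹ * y * d⁻¹⁻¹ := by rw [hwdef]; group
    rw [this, conj_pow, hyk]; group
  have hXp : IsPGroup p (Subgroup.zpowers w) := hpgrp w hwk
  have hwE : w ∈ Subgroup.zpowers y ⊔ D₀ := by
    have e : w = y * (y⁻¹ * w) := by group
    rw [e]
    apply Subgroup.mul_mem _ (Subgroup.mem_sup_left (Subgroup.mem_zpowers y))
    apply Subgroup.mem_sup_right
    rw [hD₀def]
    refine ⟨?_, N.mul_mem (N.inv_mem hyN) hdy⟩
    have : y⁻¹ * w = (y⁻¹ * d⁻¹ * y⁻¹⁻¹) * d := by rw [hwdef]; group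
    rw [this]
    exact D.mul_mem (hDn.conj_mem _ (D.inv_mem hd) y⁻¹) hd
  have hXE : Subgroup.zpowers w ≤ Subgroup.zpowers y ⊔ D₀ := by
    rw [Subgroup.zpowers_le]; exact hwE
  have hidx : ¬ p ∣ (Subgroup.zpowers y).relIndex (Subgroup.zpowers y ⊔ D₀) := by
    rw [Cfsg.Agent.Lib.Helper2.relIndex_sup_of_le_normalizer _ D₀ hYN]
    intro hdvd
    have h1 : p ∣ Nat.card D :=
      (hdvd.trans (Subgroup.relIndex_dvd_card _ _)).trans (Subgroup.card_dvd_of_le hD₀D)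
    have h2 := Nat.Coprime.eq_one_of_dvd hD.symm h1
    exact (Fact.out : p.Prime).ne_one h2
  obtain ⟨u, huE, hu⟩ := Cfsg.Agent.S0116.exists_rel_conj (Subgroup.zpowers y ⊔ D₀)
    (Subgroup.zpowers y) (Subgroup.zpowers w) le_sup_left hXE hXp hidx
  obtain ⟨a, haY, c, hcD₀, rfl⟩ :=
    Cfsg.Agent.Lib.Helper2.exists_mul_of_mem_sup_of_le_normalizer hYN huE
  have hc' : a * c * a⁻¹ ∈ D₀ := (Subgroup.mem_normalizer_iff.1 (hYN haY) c).1 hcD₀
  have h1 := hu w (Subgroup.mem_zpowers w)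
  -- conj of w by c' lies in Y
  have h2 : (a * c * a⁻¹)⁻¹ * w * (a * c * a⁻¹) ∈ Subgroup.zpowers y := by
    have e : (a * c * a⁻¹)⁻¹ * w * (a * c * a⁻¹) = a * ((a * c)⁻¹ * w * (a * c)) * a⁻¹ := by group
    rw [e]
    exact Subgroup.mul_mem _ (Subgroup.mul_mem _ haY h1) (Subgroup.inv_mem _ haY)
  obtain ⟨c', hc'def⟩ : ∃ c' : G, c' = a * c * a⁻¹ := ⟨_, rfl⟩
  rw [← hc'def] at h2 hc'
  have hd₁D : d * c' ∈ D := D.mul_mem hd (hD₀D hc')
  have h3 : y⁻¹ * ((d * c')⁻¹ * y * (d * c')) ∈ Subgroup.zpowers y := by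
    have e : (d * c')⁻¹ * y * (d * c') = c'⁻¹ * w * c' := by rw [hwdef]; group
    rw [e]
    exact Subgroup.mul_mem _ (Subgroup.inv_mem _ (Subgroup.mem_zpowers y)) h2
  have h4 : y⁻¹ * ((d * c')⁻¹ * y * (d * c')) ∈ D := by
    have e : y⁻¹ * ((d * c')⁻¹ * y * (d * c')) = (y⁻¹ * (d * c')⁻¹ * y⁻¹⁻¹) * (d * c') := by group
    rw [e]
    exact D.mul_mem (hDn.conj_mem _ (D.inv_mem hd₁D) y⁻¹) hd₁D
  have h5 := Cfsg.Agent.S1901.eq_one_of_mem_pgroup_of_mem_coprime (Subgroup.zpowers y) D hYp hD _ h3 h4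
  refine ⟨d * c', ⟨hd₁D, ?_⟩, c'⁻¹, ⟨D.inv_mem (hD₀D hc'), hD₀C (D₀.inv_mem hc')⟩, by group⟩
  show d * c' ∈ Subgroup.centralizer ({y} : Set G)
  rw [Subgroup.mem_centralizer_iff]
  intro h hh
  rw [Set.mem_singleton_iff] at hh
  subst hh
  have e : h * (d * c') = (d * c') * h * (h⁻¹ * ((d * c')⁻¹ * h * (d * c'))) := by group
  rw [e, h5, mul_one]

/-- Let P be a Sylow p-subgroup of a finite group G, H = P ∩ O_{p',p}(G), N = N_G(H) and D = O_{p'}(G). (a) If y is an element of p-power order of N and d ∈ D with d⁻¹ y d ∈ N, then d = d₁ d₂ with d₁ ∈ C_D(y) and d₂ ∈ C_D(H). (b) Two elements of P that are conjugate in G are conjugate in N. -/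
theorem result {G : Type*} [Group G] [Finite G] {p : ℕ} [Fact p.Prime] (P : Sylow p G) :
    (∀ y ∈ Subgroup.normalizer (((P : Subgroup G) ⊓ Cfsg.pPrimePCore p G : Subgroup G) : Set G), (∃ k : ℕ, orderOf y = p ^ k) →
      ∀ d ∈ Cfsg.pPrimeCore p G, d⁻¹ * y * d ∈ Subgroup.normalizer (((P : Subgroup G) ⊓ Cfsg.pPrimePCore p G : Subgroup G) : Set G) →
        ∃ d₁ ∈ Cfsg.pPrimeCore p G ⊓ Subgroup.centralizer ({y} : Set G),
          ∃ d₂ ∈ Cfsg.pPrimeCore p G ⊓ Subgroup.centralizer (((P : Subgroup G) ⊓ Cfsg.pPrimePCore p G : Subgroup G) : Set G), d = d₁ * d₂) ∧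
    ∀ x y : G, x ∈ (P : Subgroup G) → y ∈ (P : Subgroup G) → IsConj x y →
      ∃ n ∈ Subgroup.normalizer (((P : Subgroup G) ⊓ Cfsg.pPrimePCore p G : Subgroup G) : Set G), n * x * n⁻¹ = y := by
  have hp : p.Prime := Fact.out
  obtain ⟨D, hDdef⟩ : ∃ D : Subgroup G, D = Cfsg.pPrimeCore p G := ⟨_, rfl⟩
  obtain ⟨L, hLdef⟩ : ∃ L : Subgroup G, L = Cfsg.pPrimePCore p G := ⟨_, rfl⟩
  rw [← hDdef, ← hLdef]
  have hDn : D.Normal := by rw [hDdef]; exact Cfsg.Agent.Lib.Helper1.pPrimeCore_normal p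
  have hD : (Nat.card D).Coprime p := by rw [hDdef]; exact Cfsg.Agent.Lib.Helper1.pPrimeCore_coprime p
  have hLn : L.Normal := by
    rw [hLdef]
    unfold Cfsg.pPrimePCore
    have : (Cfsg.pCore p (G ⧸ Cfsg.pPrimeCore p G)).Normal := Cfsg.Agent.Lib.Helper9.pCore_normal' p
    exact this.comap _
  obtain ⟨H, hHdef⟩ : ∃ H : Subgroup G, H = (P : Subgroup G) ⊓ L := ⟨_, rfl⟩
  rw [← hHdef]
  have hHP : H ≤ (P : Subgroup G) := by rw [hHdef]; exact inf_le_left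
  have hHL : H ≤ L := by rw [hHdef]; exact inf_le_right
  have hH : IsPGroup p H := P.isPGroup'.to_le hHP
  have hA := fun y hyN hy d hd hdy => partA D H hDn hD hH y hyN hy d hd hdy
  refine ⟨hA, ?_⟩
  -- D ≤ L
  have hDL : D ≤ L := by
    intro x hx
    rw [hLdef]
    show QuotientGroup.mk' (Cfsg.pPrimeCore p G) x ∈ Cfsg.pCore p (G ⧸ Cfsg.pPrimeCore p G)
    have : QuotientGroup.mk' (Cfsg.pPrimeCore p G) x = 1 := by
      rw [← MonoidHom.mem_ker, QuotientGroup.ker_mk', ← hDdef]; exact hx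
    rw [this]; exact Subgroup.one_mem _
  -- L = H ⊔ D
  have hLHD : L ≤ H ⊔ D := by
    intro x hx
    have hx' : QuotientGroup.mk' (Cfsg.pPrimeCore p G) x ∈ Cfsg.pCore p (G ⧸ Cfsg.pPrimeCore p G) := by
      rw [hLdef] at hx; exact hx
    have h1 := Cfsg.Agent.Lib.Helper9.pCore_le_sylow'
      (P.mapSurjective (QuotientGroup.mk'_surjective (Cfsg.pPrimeCore p G))) hx'
    have h1' : QuotientGroup.mk' (Cfsg.pPrimeCore p G) x ∈
        (P : Subgroup G).map (QuotientGroup.mk' (Cfsg.pPrimeCore p G)) := by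
      rw [← Sylow.coe_mapSurjective]; exact h1
    obtain ⟨t, ht, hteq⟩ := h1'
    have htx : t⁻¹ * x ∈ D := by
      rw [hDdef, ← QuotientGroup.ker_mk' (Cfsg.pPrimeCore p G), MonoidHom.mem_ker, map_mul, map_inv,
        hteq, inv_mul_cancel]
    have htL : t ∈ L := by
      have e : t = x * (t⁻¹ * x)⁻¹ := by group
      rw [e]
      exact L.mul_mem hx (L.inv_mem (hDL htx))
    have e : x = t * (t⁻¹ * x) := by group
    rw [e]
    exact Subgroup.mul_mem _ (Subgroup.mem_sup_left (by rw [hHdef]; exact ⟨ht, htL⟩))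
      (Subgroup.mem_sup_right htx)
  have hHDL : H ⊔ D = L := le_antisymm (sup_le hHL hDL) hLHD
  have hHND : H ≤ Subgroup.normalizer (D : Set G) := by
    rw [Subgroup.normalizer_eq_top_iff.2 hDn]; exact le_top
  have hidx : ¬ p ∣ H.relIndex L := by
    rw [← hHDL, Cfsg.Agent.Lib.Helper2.relIndex_sup_of_le_normalizer H D hHND]
    intro hdvd
    have h1 : p ∣ Nat.card D := hdvd.trans (Subgroup.relIndex_dvd_card _ _)
    exact hp.ne_one (Nat.Coprime.eq_one_of_dvd hD.symm h1)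
  -- P ≤ N(H)
  have hPN : (P : Subgroup G) ≤ Subgroup.normalizer (H : Set G) := by
    intro t ht
    rw [Subgroup.mem_normalizer_iff]
    intro h
    rw [hHdef]
    constructor
    · rintro ⟨h1, h2⟩
      exact ⟨Subgroup.mul_mem _ (Subgroup.mul_mem _ ht h1) (Subgroup.inv_mem _ ht), hLn.conj_mem h h2 t⟩
    · rintro ⟨h1, h2⟩
      have e : h = t⁻¹ * (t * h * t⁻¹) * t⁻¹⁻¹ := by group
      rw [e]
      exact ⟨Subgroup.mul_mem _ (Subgroup.mul_mem _ (Subgroup.inv_mem _ ht) h1)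
        (Subgroup.inv_mem _ (Subgroup.inv_mem _ ht)), hLn.conj_mem _ h2 t⁻¹⟩
  -- Frattini: every g is d * n
  have hfrat : ∀ g : G, ∃ d ∈ D, ∃ n ∈ Subgroup.normalizer (H : Set G), g = d * n := by
    intro g
    have hXL : cj g H ≤ L := by
      intro x hx
      rw [mem_cj_iff] at hx
      have e : x = g * (g⁻¹ * x * g) * g⁻¹ := by group
      rw [e]
      exact hLn.conj_mem _ (hHL hx) g
    obtain ⟨u, huL, hu⟩ := Cfsg.Agent.S0116.exists_rel_conj L H (cj g H) hHL hXL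
      (cj_isPGroup p g hH) hidx
    -- u⁻¹ g normalizes H
    have hle : cj (u⁻¹ * g) H ≤ H := by
      intro x hx
      rw [mem_cj_iff] at hx
      have hx' : u * x * u⁻¹ ∈ cj g H := by
        rw [mem_cj_iff]
        have e : g⁻¹ * (u * x * u⁻¹) * g = (u⁻¹ * g)⁻¹ * x * (u⁻¹ * g) := by group
        rw [e]; exact hx
      have := hu _ hx'
      have e : u⁻¹ * (u * x * u⁻¹) * u = x := by group
      rw [e] at this
      exact this
    have heq : cj (u⁻¹ * g) H = H := Subgroup.eq_of_le_of_card_ge hle (by rw [card_cj'])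
    have hn : u⁻¹ * g ∈ Subgroup.normalizer (H : Set G) := mem_normalizer_of_cj_eq heq
    have huHD : u ∈ H ⊔ D := by rw [hHDL]; exact huL
    obtain ⟨h, hh, d', hd', rfl⟩ :=
      Cfsg.Agent.Lib.Helper2.exists_mul_of_mem_sup_of_le_normalizer hHND huHD
    refine ⟨h * d' * h⁻¹, hDn.conj_mem d' hd' h, h * ((h * d')⁻¹ * g), ?_, by group⟩
    exact Subgroup.mul_mem _ (hPN (hHP hh)) hn
  intro x y hx hy hxy
  obtain ⟨g, hg⟩ := isConj_iff.1 hxy
  obtain ⟨d, hd, n, hn, rfl⟩ := hfrat g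
  obtain ⟨x', hx'def⟩ : ∃ x' : G, x' = n * x * n⁻¹ := ⟨_, rfl⟩
  have hyx' : y = d * x' * d⁻¹ := by rw [← hg, hx'def]; group
  have hx'N : x' ∈ Subgroup.normalizer (H : Set G) := by
    rw [hx'def]
    exact Subgroup.mul_mem _ (Subgroup.mul_mem _ hn (hPN hx)) (Subgroup.inv_mem _ hn)
  have hx'ord : ∃ k : ℕ, orderOf x' = p ^ k := by
    obtain ⟨k, hk⟩ := (IsPGroup.iff_orderOf.1 P.isPGroup') ⟨x, hx⟩
    refine ⟨k, ?_⟩
    rw [← hk, Subgroup.orderOf_mk, hx'def]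
    have : n * x * n⁻¹ = (MulAut.conj n) x := (MulAut.conj_apply n x).symm
    rw [this, MulEquiv.orderOf_eq]
  have hcond : d⁻¹⁻¹ * x' * d⁻¹ ∈ Subgroup.normalizer (H : Set G) := by
    rw [inv_inv, ← hyx']; exact hPN hy
  obtain ⟨d₁, hd₁, d₂, hd₂, hdd⟩ := hA x' hx'N hx'ord d⁻¹ (D.inv_mem hd) hcond
  have hd₁c : x' * d₁ = d₁ * x' := (Subgroup.mem_centralizer_iff.1 hd₁.2) x' rfl
  have hd₂N : d₂ ∈ Subgroup.normalizer (H : Set G) :=
    (Subgroup.centralizer_le_normalizer _) hd₂.2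
  refine ⟨d₂⁻¹ * n, Subgroup.mul_mem _ (Subgroup.inv_mem _ hd₂N) hn, ?_⟩
  have hdeq : d = (d₁ * d₂)⁻¹ := by rw [← hdd, inv_inv]
  have e0 : d₂⁻¹ * n * x * (d₂⁻¹ * n)⁻¹ = d₂⁻¹ * x' * d₂ := by rw [hx'def]; group
  rw [e0, hyx', hdeq]
  have e1 : (d₁ * d₂)⁻¹ * x' * (d₁ * d₂)⁻¹⁻¹ = d₂⁻¹ * (d₁⁻¹ * (x' * d₁)) * d₂ := by group
  rw [e1, hd₁c]
  group

end Cfsg.Agent.S1907
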