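import Cfsg.Statements.S1910
import Cfsg.Agent.S1231

set_option autoImplicit false
open Cfsg

namespace Cfsg.Agent.S1910

open Cfsg.Agent.S1231 (cj mem_cj card_cj cj_cj cj_mono mem_normalizer_of_cj_eq exists_cj_le exists_normalizing)

section general

variable {G : Type*} [Group G]

theorem cj_one (Q : Subgroup G) : cj 1 Q = Q := by
  ext a
  rw [mem_cj]
  simp

theorem eq_bot_of_le_odd [Finite G] {K M : Subgroup G} (hK : IsPGroup 2 K) (hKM : K ≤ M)
    (hM : Odd (Nat.card M)) : K = ⊥ := by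
  obtain ⟨n, hn⟩ := IsPGroup.iff_card.mp hK
  have hdvd : Nat.card K ∣ Nat.card M := Subgroup.card_dvd_of_le hKM
  rw [hn] at hdvd
  rcases Nat.eq_zero_or_pos n with h0 | hpos
  · rw [h0, pow_zero] at hn
    exact Subgroup.card_eq_one.mp hn
  · exfalso
    have h2 : 2 ∣ Nat.card M := (dvd_pow_self 2 (by omega)).trans hdvd
    exact (Nat.not_even_iff_odd.mpr hM) (even_iff_two_dvd.mpr h2)

/-- `T` is a Sylow 2-subgroup of `B` -/
def IsSyl2 (T B : Subgroup G) : Prop :=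
  T ≤ B ∧ IsPGroup 2 T ∧ ∃ m, Odd m ∧ Nat.card B = Nat.card T * m

theorem IsSyl2.card_dvd [Finite G] {T B V : Subgroup G} (h : IsSyl2 T B) (hV : V ≤ B)
    (hV2 : IsPGroup 2 V) : Nat.card V ∣ Nat.card T := by
  obtain ⟨_, _, m, hm, hc⟩ := h
  obtain ⟨n, hn⟩ := IsPGroup.iff_card.mp hV2
  have hdvd : Nat.card V ∣ Nat.card T * m := hc ▸ Subgroup.card_dvd_of_le hV
  rw [hn] at hdvd ⊢
  have hcop : Nat.Coprime (2 ^ n) m := Nat.Coprime.pow_left n (Nat.coprime_two_left.mpr hm)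
  exact hcop.dvd_of_dvd_mul_right hdvd

theorem IsSyl2.eq_of_le [Finite G] {T B V : Subgroup G} (h : IsSyl2 T B) (hV : V ≤ B)
    (hV2 : IsPGroup 2 V) (hTV : T ≤ V) : T = V :=
  Subgroup.eq_of_le_of_card_ge hTV (Nat.le_of_dvd Nat.card_pos (h.card_dvd hV hV2))

theorem isSyl2_of_relIndex [Finite G] {T B : Subgroup G} (hTB : T ≤ B) (hT : IsPGroup 2 T)
    (h : ¬ 2 ∣ T.relIndex B) : IsSyl2 T B := by
  refine ⟨hTB, hT, T.relIndex B, ?_, ?_⟩
  · exact Nat.not_even_iff_odd.mp (fun he => h (even_iff_two_dvd.mp he))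
  · have h1 := Subgroup.card_mul_index (T.subgroupOf B)
    rw [Nat.card_congr (Subgroup.subgroupOfEquivOfLe hTB).toEquiv] at h1
    exact h1.symm

theorem exists_isSyl2 [Finite G] {V B : Subgroup G} (hV : V ≤ B) (hV2 : IsPGroup 2 V) :
    ∃ T, V ≤ T ∧ IsSyl2 T B := by
  have hV' : IsPGroup 2 ↥(V.subgroupOf B) := hV2.comap_subtype
  obtain ⟨P, hP⟩ := hV'.exists_le_sylow
  refine ⟨(P : Subgroup ↥B).map B.subtype, ?_, Subgroup.map_subtype_le _, P.isPGroup'.map _,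
    (P : Subgroup ↥B).index, ?_, ?_⟩
  · intro v hv
    exact ⟨⟨v, hV hv⟩, hP (Subgroup.mem_subgroupOf.mpr hv), rfl⟩
  · exact Nat.not_even_iff_odd.mp (fun he => P.not_dvd_index (even_iff_two_dvd.mp he))
  · rw [Subgroup.card_map_of_injective B.subtype_injective]
    exact (Subgroup.card_mul_index _).symm

theorem exists_mul_of_mem_sup {M V : Subgroup G} (hVM : V ≤ Subgroup.normalizer (M : Set G)) {x : G}
    (hx : x ∈ M ⊔ V) : ∃ m ∈ M, ∃ v ∈ V, x = m * v := by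
  have h := Subgroup.coe_mul_of_right_le_normalizer_left M V hVM
  have hx' : x ∈ ((M ⊔ V : Subgroup G) : Set G) := hx
  rw [h] at hx'
  obtain ⟨m, hm, v, hv, rfl⟩ := Set.mem_mul.mp hx'
  exact ⟨m, hm, v, hv, rfl⟩

theorem card_sup_of_normalizes [Finite G] {M V : Subgroup G}
    (hVM : V ≤ Subgroup.normalizer (M : Set G)) (hdisj : M ⊓ V = ⊥) :
    Nat.card ↥(M ⊔ V) = Nat.card M * Nat.card V := by
  rw [← Nat.card_prod]
  symm
  apply Nat.card_congr
  refine Equiv.ofBijective (fun mv : M × V => (⟨mv.1.1 * mv.2.1,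
    Subgroup.mul_mem _ (Subgroup.mem_sup_left mv.1.2) (Subgroup.mem_sup_right mv.2.2)⟩ : ↥(M ⊔ V)))
    ⟨?_, ?_⟩
  · rintro ⟨⟨m, hm⟩, ⟨v, hv⟩⟩ ⟨⟨m', hm'⟩, ⟨v', hv'⟩⟩ h
    have h1 : m * v = m' * v' := congrArg Subtype.val h
    have h2 : m'⁻¹ * m = v' * v⁻¹ := by
      rw [inv_mul_eq_iff_eq_mul, ← mul_assoc, eq_mul_inv_iff_mul_eq]
      exact h1
    have h3 : m'⁻¹ * m ∈ M ⊓ V :=
      Subgroup.mem_inf.mpr ⟨M.mul_mem (M.inv_mem hm') hm, h2 ▸ V.mul_mem hv' (V.inv_mem hv)⟩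
    rw [hdisj, Subgroup.mem_bot] at h3
    have hmm : m' = m := inv_mul_eq_one.mp h3
    subst hmm
    have hvv : v = v' := mul_left_cancel h1
    subst hvv
    rfl
  · rintro ⟨x, hx⟩
    obtain ⟨m, hm, v, hv, rfl⟩ := exists_mul_of_mem_sup hVM hx
    exact ⟨⟨⟨m, hm⟩, ⟨v, hv⟩⟩, rfl⟩

theorem comm_of {M V : Subgroup G} (hVM : V ≤ Subgroup.normalizer (M : Set G)) (hdisj : V ⊓ M = ⊥)
    {v f : G} (hv : v ∈ V) (hfN : f ∈ Subgroup.normalizer (V : Set G)) (hfM : f ∈ M) :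
    v * f = f * v := by
  have h1 : v * f * v⁻¹ ∈ M := (Subgroup.mem_normalizer_iff.mp (hVM hv) f).mp hfM
  have h2 : f * v⁻¹ * f⁻¹ ∈ V := (Subgroup.mem_normalizer_iff.mp hfN v⁻¹).mp (V.inv_mem hv)
  have h3 : v * f * v⁻¹ * f⁻¹ ∈ V ⊓ M := by
    refine Subgroup.mem_inf.mpr ⟨?_, M.mul_mem h1 (M.inv_mem hfM)⟩
    have e : v * f * v⁻¹ * f⁻¹ = v * (f * v⁻¹ * f⁻¹) := by group
    rw [e]; exact V.mul_mem hv h2
  rw [hdisj, Subgroup.mem_bot] at h3
  have e : v * f = (v * f * v⁻¹ * f⁻¹) * (f * v) := by group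
  rw [e, h3, one_mul]

theorem decomp {M V S : Subgroup G} (hVM : V ≤ Subgroup.normalizer (M : Set G)) (hVS : V ≤ S)
    (hS : S ≤ M ⊔ V) {x : G} (hxS : x ∈ S) (hxN : x ∈ Subgroup.normalizer (V : Set G)) :
    ∃ f ∈ S ⊓ Subgroup.normalizer (V : Set G) ⊓ M, ∃ v ∈ V, x = f * v := by
  obtain ⟨m, hm, v, hv, rfl⟩ := exists_mul_of_mem_sup hVM (hS hxS)
  refine ⟨m, ?_, v, hv, rfl⟩
  have hmS : m ∈ S := by
    have := S.mul_mem hxS (S.inv_mem (hVS hv))
    rwa [mul_inv_cancel_right] at this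
  have hmN : m ∈ Subgroup.normalizer (V : Set G) := by
    have := (Subgroup.normalizer (V : Set G)).mul_mem hxN
      ((Subgroup.normalizer (V : Set G)).inv_mem (Subgroup.le_normalizer hv))
    rwa [mul_inv_cancel_right] at this
  exact Subgroup.mem_inf.mpr ⟨Subgroup.mem_inf.mpr ⟨hmS, hmN⟩, hm⟩

end general
section lemmaG

variable {G : Type*} [Group G] [Finite G]

theorem U_eq {M V S F : Subgroup G} (hVM : V ≤ Subgroup.normalizer (M : Set G)) (hVS : V ≤ S)
    (hS : S ≤ M ⊔ V) (hF : F = S ⊓ Subgroup.normalizer (V : Set G) ⊓ M) :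
    S ⊓ Subgroup.normalizer (V : Set G) = V ⊔ F := by
  apply le_antisymm
  · intro x hx
    obtain ⟨hxS, hxN⟩ := Subgroup.mem_inf.mp hx
    obtain ⟨f, hf, v, hv, rfl⟩ := decomp hVM hVS hS hxS hxN
    rw [← hF] at hf
    exact Subgroup.mul_mem _ (Subgroup.mem_sup_right hf) (Subgroup.mem_sup_left hv)
  · refine sup_le (le_inf hVS Subgroup.le_normalizer) ?_
    rw [hF]; exact inf_le_left

theorem card_U {M V S F : Subgroup G} (hVM : V ≤ Subgroup.normalizer (M : Set G))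
    (hdisj : V ⊓ M = ⊥) (hVS : V ≤ S)
    (hS : S ≤ M ⊔ V) (hF : F = S ⊓ Subgroup.normalizer (V : Set G) ⊓ M) :
    Nat.card ↥(S ⊓ Subgroup.normalizer (V : Set G)) = Nat.card V * Nat.card F := by
  rw [U_eq hVM hVS hS hF]
  have hFN : F ≤ Subgroup.normalizer (V : Set G) := by
    rw [hF]; exact inf_le_left.trans inf_le_right
  have hFM : F ≤ M := by rw [hF]; exact inf_le_right
  have hd : V ⊓ F = ⊥ := by
    rw [eq_bot_iff, ← hdisj]
    exact inf_le_inf_left V hFM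
  exact card_sup_of_normalizes hFN hd

theorem caseEq {M V S F : Subgroup G} (hVM : V ≤ Subgroup.normalizer (M : Set G))
    (hdisj : V ⊓ M = ⊥) (hVS : V ≤ S) (hSyl : IsSyl2 S (M ⊔ V))
    (hF : F = S ⊓ Subgroup.normalizer (V : Set G) ⊓ M)
    (hSN : S ≤ Subgroup.normalizer (V : Set G)) : IsSyl2 F M := by
  obtain ⟨hS, hS2, m, hm, hc⟩ := hSyl
  have hFM : F ≤ M := by rw [hF]; exact inf_le_right
  have hFS : F ≤ S := by rw [hF]; exact inf_le_left.trans inf_le_left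
  refine ⟨hFM, hS2.to_le hFS, m, hm, ?_⟩
  have h1 : Nat.card ↥(M ⊔ V) = Nat.card M * Nat.card V :=
    card_sup_of_normalizes hVM (by rw [inf_comm]; exact hdisj)
  have h2 : Nat.card ↥(S ⊓ Subgroup.normalizer (V : Set G)) = Nat.card V * Nat.card F :=
    card_U hVM hdisj hVS hS hF
  have h3 : S ⊓ Subgroup.normalizer (V : Set G) = S := inf_eq_left.mpr hSN
  rw [h3] at h2
  rw [h1, h2] at hc
  have hVpos : 0 < Nat.card V := Nat.card_pos
  have : Nat.card V * Nat.card M = Nat.card V * (Nat.card F * m) := by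
    rw [mul_comm, hc]; ring
  exact Nat.eq_of_mul_eq_mul_left hVpos this

theorem caseNe {M V S F : Subgroup G} (hVM : V ≤ Subgroup.normalizer (M : Set G))
    (hdisj : V ⊓ M = ⊥) (hVS : V ≤ S) (hS : S ≤ M ⊔ V) (hS2 : IsPGroup 2 S)
    (hF : F = S ⊓ Subgroup.normalizer (V : Set G) ⊓ M)
    (hSN : ¬ S ≤ Subgroup.normalizer (V : Set G)) :
    ∃ m ∈ M, m ∈ S ∧ m ∉ Subgroup.normalizer (V : Set G) ∧
      ∃ φ : ↥V →* ↥F, ∀ v : ↥V, ((φ v : ↥F) : G) = (v : G)⁻¹ * (m⁻¹ * (v : G) * m) := by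
  have hUne : S ⊓ Subgroup.normalizer (V : Set G) ≠ S := fun h => hSN (inf_eq_left.mp h)
  obtain ⟨y, hyS, hyU, hyN⟩ := exists_normalizing (p := 2) hS2 inf_le_left hUne
  obtain ⟨m, hm, v, hv, rfl⟩ := exists_mul_of_mem_sup hVM (hS hyS)
  have hvU : v ∈ S ⊓ Subgroup.normalizer (V : Set G) :=
    Subgroup.mem_inf.mpr ⟨hVS hv, Subgroup.le_normalizer hv⟩
  have hmS : m ∈ S := by
    have := S.mul_mem hyS (S.inv_mem (hVS hv))
    rwa [mul_inv_cancel_right] at this
  have hmNU : m ∈ Subgroup.normalizer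
      ((S ⊓ Subgroup.normalizer (V : Set G) : Subgroup G) : Set G) := by
    have := Subgroup.mul_mem _ hyN (Subgroup.inv_mem _ (Subgroup.le_normalizer hvU))
    rwa [mul_inv_cancel_right] at this
  have hmU : m ∉ S ⊓ Subgroup.normalizer (V : Set G) := fun h => hyU (Subgroup.mul_mem _ h hvU)
  have hmN : m ∉ Subgroup.normalizer (V : Set G) := fun h => hmU (Subgroup.mem_inf.mpr ⟨hmS, h⟩)
  refine ⟨m, hm, hmS, hmN, ?_⟩
  have hmem : ∀ w ∈ V, w⁻¹ * (m⁻¹ * w * m) ∈ F := by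
    intro w hw
    have hwU : w ∈ S ⊓ Subgroup.normalizer (V : Set G) :=
      Subgroup.mem_inf.mpr ⟨hVS hw, Subgroup.le_normalizer hw⟩
    have h1 : m⁻¹ * w * m ∈ S ⊓ Subgroup.normalizer (V : Set G) :=
      (Subgroup.mem_normalizer_iff''.mp hmNU w).mp hwU
    have h2 : w⁻¹ * (m⁻¹ * w * m) ∈ S ⊓ Subgroup.normalizer (V : Set G) :=
      Subgroup.mul_mem _ (Subgroup.inv_mem _ hwU) h1
    have h3 : w⁻¹ * m⁻¹ * w ∈ M := by
      have := (Subgroup.mem_normalizer_iff.mp (hVM (V.inv_mem hw)) m⁻¹).mp (M.inv_mem hm)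
      rwa [inv_inv] at this
    have h4 : w⁻¹ * (m⁻¹ * w * m) ∈ M := by
      have e : w⁻¹ * (m⁻¹ * w * m) = (w⁻¹ * m⁻¹ * w) * m := by group
      rw [e]; exact M.mul_mem h3 hm
    rw [hF]; exact Subgroup.mem_inf.mpr ⟨h2, h4⟩
  have hFN : ∀ f ∈ F, f ∈ Subgroup.normalizer (V : Set G) := fun f hf => by
    rw [hF] at hf; exact (Subgroup.mem_inf.mp (Subgroup.mem_inf.mp hf).1).2
  have hFM : ∀ f ∈ F, f ∈ M := fun f hf => by
    rw [hF] at hf; exact (Subgroup.mem_inf.mp hf).2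
  refine ⟨{ toFun := fun v => ⟨(v : G)⁻¹ * (m⁻¹ * (v : G) * m), hmem v v.2⟩,
            map_one' := ?_, map_mul' := ?_ }, fun v => rfl⟩
  · apply Subtype.ext
    simp
  · intro a b
    apply Subtype.ext
    have hc : (b : G)⁻¹ * ((a : G)⁻¹ * (m⁻¹ * a * m)) = ((a : G)⁻¹ * (m⁻¹ * a * m)) * (b : G)⁻¹ :=
      comm_of hVM hdisj (V.inv_mem b.2) (hFN _ (hmem a a.2)) (hFM _ (hmem a a.2))
    show ((a * b : ↥V) : G)⁻¹ * (m⁻¹ * ((a * b : ↥V) : G) * m) =
      ((a : G)⁻¹ * (m⁻¹ * a * m)) * ((b : G)⁻¹ * (m⁻¹ * b * m))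
    rw [Subgroup.coe_mul]
    calc ((a : G) * b)⁻¹ * (m⁻¹ * ((a : G) * b) * m)
        = ((b : G)⁻¹ * ((a : G)⁻¹ * (m⁻¹ * a * m))) * (m⁻¹ * b * m) := by group
      _ = (((a : G)⁻¹ * (m⁻¹ * a * m)) * (b : G)⁻¹) * (m⁻¹ * b * m) := by rw [hc]
      _ = _ := by group

theorem te_key {Q : Subgroup G} (hQ : Cfsg.IsTightlyEmbedded Q) {Y : Subgroup G} {a b : G}
    (hYa : Y ≤ cj a Q) (hYb : Y ≤ cj b Q) (hY2 : IsPGroup 2 Y) (hY : Y ≠ ⊥) :
    a⁻¹ * b ∈ Subgroup.normalizer (Q : Set G) := by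
  by_contra hn
  have hodd : Odd (Nat.card ↥(Q ⊓ cj (a⁻¹ * b) Q)) := hQ.2 (a⁻¹ * b) hn
  have h1 : cj a⁻¹ Y ≤ Q ⊓ cj (a⁻¹ * b) Q := by
    refine le_inf ?_ ?_
    · have := cj_mono (x := a⁻¹) hYa
      rwa [cj_cj, inv_mul_cancel, cj_one] at this
    · have := cj_mono (x := a⁻¹) hYb
      rwa [cj_cj] at this
  have h2 : cj a⁻¹ Y = ⊥ := eq_bot_of_le_odd (hY2.map _) h1 hodd
  apply hY
  have h3 : Nat.card (cj a⁻¹ Y) = 1 := Subgroup.card_eq_one.mpr h2
  rw [card_cj] at h3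
  exact Subgroup.card_eq_one.mp h3

theorem cj_normalizer {Q : Subgroup G} {g r : G}
    (h : g⁻¹ * r * g ∈ Subgroup.normalizer (Q : Set G)) :
    r ∈ Subgroup.normalizer ((cj g Q : Subgroup G) : Set G) := by
  rw [Subgroup.mem_normalizer_iff] at h ⊢
  intro y
  rw [mem_cj, mem_cj]
  have := h (g⁻¹ * y * g)
  have e : g⁻¹ * r * g * (g⁻¹ * y * g) * (g⁻¹ * r * g)⁻¹ = g⁻¹ * (r * y * r⁻¹) * g := by group
  rw [e] at this
  exact this

end lemmaG
section main

variable {G : Type*} [Group G] [Finite G]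

theorem mem_cj_mul_of_comm {Q : Subgroup G} {g r y : G} (h : y * r = r * y) (hy : y ∈ cj g Q) :
    y ∈ cj (r * g) Q := by
  rw [mem_cj] at hy ⊢
  have h1 : r⁻¹ * y * r = y := by rw [mul_assoc, h, ← mul_assoc, inv_mul_cancel, one_mul]
  have e : (r * g)⁻¹ * y * (r * g) = g⁻¹ * (r⁻¹ * y * r) * g := by group
  rw [e, h1]; exact hy

theorem comm_of_phi_eq_one {t s : G} (h1 : t⁻¹ * (s⁻¹ * t * s) = 1) : t * s = s * t := by
  have h2 : t = s⁻¹ * t * s := inv_mul_eq_one.mp h1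
  have e : s * (s⁻¹ * t * s) = t * s := by group
  rw [← e, ← h2]

theorem main (Q : Subgroup G) (hQ : Cfsg.IsTightlyEmbedded Q)
    (g : G) (hg : g ∉ Subgroup.normalizer (Q : Set G))
    (T : Subgroup G) (hT1 : T ≠ ⊥)
    (hT' : T ≤ cj g Q ⊓ Subgroup.normalizer (Q : Set G))
    (hTB : IsSyl2 T (cj g Q ⊓ Subgroup.normalizer (Q : Set G)))
    (S : Subgroup G) (hTS : T ≤ S) (hS : S ≤ Q ⊔ T) (hSQT : IsSyl2 S (Q ⊔ T))
    (R : Subgroup G) (hR' : R = S ⊓ Subgroup.normalizer (T : Set G) ⊓ Q) :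
    T ⊓ Q = ⊥ ∧ T ⊓ R = ⊥ ∧ ⁅T, R⁆ = ⊥ ∧ T ⊔ R = S ⊓ Subgroup.normalizer (T : Set G) ∧
      Nonempty (↥R ≃* ↥T) := by
  have hTX : T ≤ cj g Q := hT'.trans inf_le_left
  have hTN : T ≤ Subgroup.normalizer (Q : Set G) := hT'.trans inf_le_right
  have hT2 : IsPGroup 2 T := hTB.2.1
  have hS2 : IsPGroup 2 S := hSQT.2.1
  have hodd : Odd (Nat.card ↥(Q ⊓ cj g Q)) := hQ.2 g hg
  have hTQ : T ⊓ Q = ⊥ := by
    refine eq_bot_of_le_odd (hT2.to_le inf_le_left) ?_ hodd
    exact le_inf inf_le_right (inf_le_left.trans hTX)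
  have hRS : R ≤ S := by rw [hR']; exact inf_le_left.trans inf_le_left
  have hRN : R ≤ Subgroup.normalizer (T : Set G) := by
    rw [hR']; exact inf_le_left.trans inf_le_right
  have hRQ : R ≤ Q := by rw [hR']; exact inf_le_right
  have hR2 : IsPGroup 2 R := hS2.to_le hRS
  have hcomm : ∀ t ∈ T, ∀ r ∈ R, t * r = r * t :=
    fun t ht r hr => comm_of hTN hTQ ht (hRN hr) (hRQ hr)
  have hTR : T ⊓ R = ⊥ := by
    rw [eq_bot_iff, ← hTQ]; exact inf_le_inf_left T hRQ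
  have hU : S ⊓ Subgroup.normalizer (T : Set G) = T ⊔ R := U_eq hTN hTS hS hR'
  have hc3 : ⁅T, R⁆ = ⊥ := by
    rw [Subgroup.commutator_eq_bot_iff_le_centralizer]
    intro t ht
    rw [Subgroup.mem_centralizer_iff]
    intro r hr
    exact (hcomm t ht r hr).symm
  refine ⟨hTQ, hTR, hc3, hU.symm, ?_⟩
  have hUS : T ⊔ R ≤ S := sup_le hTS hRS
  -- R normalizes X
  have hRNX : R ≤ Subgroup.normalizer ((cj g Q : Subgroup G) : Set G) := by
    intro r hr
    apply cj_normalizer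
    have hb : T ≤ cj (r * g) Q := fun y hy => mem_cj_mul_of_comm (hcomm y hy r hr) (hTX hy)
    have := te_key hQ hTX hb hT2 hT1
    rwa [← mul_assoc] at this
  have hRX : R ⊓ cj g Q = ⊥ := by
    refine eq_bot_of_le_odd (hR2.to_le inf_le_left) ?_ hodd
    exact le_inf (inf_le_left.trans hRQ) inf_le_right
  -- application B
  have hB : Nat.card T ≤ Nat.card R ∧
      ((S ≤ Subgroup.normalizer (T : Set G) ∧ IsSyl2 R Q) ∨
        ∃ φ : ↥T →* ↥R, Function.Injective φ) := by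
    by_cases hSN : S ≤ Subgroup.normalizer (T : Set G)
    · have hRsyl : IsSyl2 R Q := caseEq hTN hTQ hTS hSQT hR' hSN
      refine ⟨?_, Or.inl ⟨hSN, hRsyl⟩⟩
      obtain ⟨_, _, m, hm, hc⟩ := hRsyl
      obtain ⟨n, hn⟩ := IsPGroup.iff_card.mp hT2
      have hdvd : Nat.card T ∣ Nat.card (cj g Q) := Subgroup.card_dvd_of_le hTX
      rw [card_cj, hc, hn] at hdvd
      have hcop : Nat.Coprime (2 ^ n) m := Nat.Coprime.pow_left n (Nat.coprime_two_left.mpr hm)
      have := hcop.dvd_of_dvd_mul_right hdvd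
      rw [hn]
      exact Nat.le_of_dvd Nat.card_pos this
    · obtain ⟨s, hsQ, hsS, hsN, φ, hφ⟩ := caseNe hTN hTQ hTS hS hS2 hR' hSN
      have hinj : Function.Injective φ := by
        rw [injective_iff_map_eq_one]
        intro t ht
        by_contra ht1
        have h1 : (t : G)⁻¹ * (s⁻¹ * (t : G) * s) = 1 := by
          rw [← hφ t, ht]; rfl
        have hts : (t : G) * s = s * (t : G) := comm_of_phi_eq_one h1
        have hsNX : s ∈ Subgroup.normalizer ((cj g Q : Subgroup G) : Set G) := by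
          apply cj_normalizer
          have hYb : T ⊓ Subgroup.centralizer {s} ≤ cj (s * g) Q := by
            intro y hy
            obtain ⟨hyT, hyC⟩ := Subgroup.mem_inf.mp hy
            have hys : y * s = s * y := (Subgroup.mem_centralizer_iff.mp hyC s rfl).symm
            exact mem_cj_mul_of_comm hys (hTX hyT)
          have hYne : T ⊓ Subgroup.centralizer {s} ≠ ⊥ := by
            intro h
            have hm : (t : G) ∈ T ⊓ Subgroup.centralizer {s} := by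
              refine Subgroup.mem_inf.mpr ⟨t.2, ?_⟩
              rw [Subgroup.mem_centralizer_iff]
              intro h hh
              rw [Set.mem_singleton_iff.mp hh]
              exact hts.symm
            rw [h, Subgroup.mem_bot] at hm
            exact ht1 (Subtype.ext hm)
          have := te_key hQ (inf_le_left.trans hTX) hYb (hT2.to_le inf_le_left) hYne
          rwa [← mul_assoc] at this
        have hTeq : T = (T ⊔ R) ⊓ (cj g Q ⊓ Subgroup.normalizer (Q : Set G)) :=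
          hTB.eq_of_le inf_le_right (hS2.to_le (inf_le_left.trans hUS)) (le_inf le_sup_left hT')
        have hconj : ∀ t' ∈ T, s⁻¹ * t' * s ∈ T := by
          intro t' ht'
          have hw1 : s⁻¹ * t' * s ∈ cj g Q :=
            (Subgroup.mem_normalizer_iff''.mp hsNX t').mp (hTX ht')
          have hw2 : s⁻¹ * t' * s ∈ Subgroup.normalizer (Q : Set G) :=
            Subgroup.mul_mem _ (Subgroup.mul_mem _
              (Subgroup.inv_mem _ (Subgroup.le_normalizer hsQ)) (hTN ht'))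
              (Subgroup.le_normalizer hsQ)
          have hw3 : s⁻¹ * t' * s ∈ T ⊔ R := by
            have hφm : t'⁻¹ * (s⁻¹ * t' * s) ∈ R := by
              have := (φ ⟨t', ht'⟩).2
              rw [hφ ⟨t', ht'⟩] at this
              exact this
            have e : s⁻¹ * t' * s = t' * (t'⁻¹ * (s⁻¹ * t' * s)) := by group
            rw [e]
            exact Subgroup.mul_mem _ (Subgroup.mem_sup_left ht') (Subgroup.mem_sup_right hφm)
          rw [hTeq]
          exact Subgroup.mem_inf.mpr ⟨hw3, Subgroup.mem_inf.mpr ⟨hw1, hw2⟩⟩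
        have hcjle : cj s⁻¹ T ≤ T := by
          intro a ha
          rw [mem_cj, inv_inv] at ha
          have := hconj _ ha
          have e : s⁻¹ * (s * a * s⁻¹) * s = a := by group
          rwa [e] at this
        have hcjeq : cj s⁻¹ T = T := Subgroup.eq_of_le_of_card_ge hcjle (by rw [card_cj])
        have := mem_normalizer_of_cj_eq hcjeq
        exact hsN (inv_mem_iff.mp this)
      exact ⟨Nat.card_le_card_of_injective φ hinj, Or.inr ⟨φ, hinj⟩⟩
  have hRne : R ≠ ⊥ := by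
    intro h
    have h1 : Nat.card R = 1 := Subgroup.card_eq_one.mpr h
    have h2 : Nat.card T = 1 := by
      have := hB.1
      have := Nat.card_pos (α := T)
      omega
    exact hT1 (Subgroup.card_eq_one.mp h2)
  -- a Sylow 2-subgroup S' of X R containing T R
  have hUX : T ⊔ R ≤ cj g Q ⊔ R := sup_le (hTX.trans le_sup_left) le_sup_right
  obtain ⟨S', hUS', hS'syl⟩ := exists_isSyl2 hUX (hS2.to_le hUS)
  have hS'2 : IsPGroup 2 S' := hS'syl.2.1
  have hS'le : S' ≤ cj g Q ⊔ R := hS'syl.1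
  have hRS' : R ≤ S' := le_sup_right.trans hUS'
  have hTS' : T ≤ S' := le_sup_left.trans hUS'
  have hTNR : T ≤ Subgroup.normalizer (R : Set G) := by
    intro t ht
    apply Subgroup.centralizer_le_normalizer
    rw [Subgroup.mem_centralizer_iff]
    intro r hr
    exact (hcomm t ht r hr).symm
  have hF'eq : T = S' ⊓ Subgroup.normalizer (R : Set G) ⊓ cj g Q := by
    refine hTB.eq_of_le ?_ ?_ (le_inf (le_inf hTS' hTNR) hTX)
    · refine le_inf inf_le_right ?_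
      intro f hf
      have hfN : f ∈ Subgroup.normalizer (R : Set G) :=
        (Subgroup.mem_inf.mp (Subgroup.mem_inf.mp hf).1).2
      have hb : R ≤ cj f Q := by
        intro y hy
        rw [mem_cj]
        exact hRQ ((Subgroup.mem_normalizer_iff''.mp hfN y).mp hy)
      have ha : R ≤ cj 1 Q := by rw [cj_one]; exact hRQ
      have := te_key hQ ha hb hR2 hRne
      simpa using this
    · exact hS'2.to_le (inf_le_left.trans inf_le_left)
  -- application A
  have hA : Nat.card R ≤ Nat.card T ∧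
      ((S' ≤ Subgroup.normalizer (R : Set G) ∧ IsSyl2 T (cj g Q)) ∨
        ∃ ψ : ↥R →* ↥T, Function.Injective ψ) := by
    by_cases hSN : S' ≤ Subgroup.normalizer (R : Set G)
    · have hsyl : IsSyl2 T (cj g Q) := caseEq hRNX hRX hRS' hS'syl hF'eq hSN
      refine ⟨?_, Or.inl ⟨hSN, hsyl⟩⟩
      obtain ⟨_, _, m, hm, hc⟩ := hsyl
      obtain ⟨n, hn⟩ := IsPGroup.iff_card.mp hR2
      have hdvd : Nat.card R ∣ Nat.card Q := Subgroup.card_dvd_of_le hRQ
      rw [← card_cj g Q, hc, hn] at hdvd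
      have hcop : Nat.Coprime (2 ^ n) m := Nat.Coprime.pow_left n (Nat.coprime_two_left.mpr hm)
      have := hcop.dvd_of_dvd_mul_right hdvd
      rw [hn]
      exact Nat.le_of_dvd Nat.card_pos this
    · obtain ⟨x, hxX, hxS', hxN, ψ, hψ⟩ := caseNe hRNX hRX hRS' hS'le hS'2 hF'eq hSN
      have hinj : Function.Injective ψ := by
        rw [injective_iff_map_eq_one]
        intro r hr
        by_contra hr1
        have h1 : (r : G)⁻¹ * (x⁻¹ * (r : G) * x) = 1 := by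
          rw [← hψ r, hr]; rfl
        have hrx : (r : G) * x = x * (r : G) := comm_of_phi_eq_one h1
        have hxNQ : x ∈ Subgroup.normalizer (Q : Set G) := by
          have ha : R ⊓ Subgroup.centralizer {x} ≤ cj 1 Q := by
            rw [cj_one]; exact inf_le_left.trans hRQ
          have hb : R ⊓ Subgroup.centralizer {x} ≤ cj x Q := by
            intro y hy
            obtain ⟨hyR, hyC⟩ := Subgroup.mem_inf.mp hy
            have hyx : x * y = y * x := Subgroup.mem_centralizer_iff.mp hyC x rfl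
            rw [mem_cj]
            have e : x⁻¹ * y * x = y := by
              rw [mul_assoc, ← hyx, ← mul_assoc, inv_mul_cancel, one_mul]
            rw [e]; exact hRQ hyR
          have hne : R ⊓ Subgroup.centralizer {x} ≠ ⊥ := by
            intro h
            have hm : (r : G) ∈ R ⊓ Subgroup.centralizer {x} := by
              refine Subgroup.mem_inf.mpr ⟨r.2, ?_⟩
              rw [Subgroup.mem_centralizer_iff]
              intro h hh
              rw [Set.mem_singleton_iff.mp hh]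
              exact hrx.symm
            rw [h, Subgroup.mem_bot] at hm
            exact hr1 (Subtype.ext hm)
          have := te_key hQ ha hb (hR2.to_le inf_le_left) hne
          simpa using this
        have hTeq : T = S' ⊓ (cj g Q ⊓ Subgroup.normalizer (Q : Set G)) :=
          hTB.eq_of_le inf_le_right (hS'2.to_le inf_le_left) (le_inf hTS' hT')
        have hxT : x ∈ T := by
          rw [hTeq]
          exact Subgroup.mem_inf.mpr ⟨hxS', Subgroup.mem_inf.mpr ⟨hxX, hxNQ⟩⟩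
        exact hxN (hTNR hxT)
      exact ⟨Nat.card_le_card_of_injective ψ hinj, Or.inr ⟨ψ, hinj⟩⟩
  have hcard : Nat.card R = Nat.card T := le_antisymm hA.1 hB.1
  rcases hB.2 with ⟨_, hRsyl⟩ | ⟨φ, hφ⟩
  · rcases hA.2 with ⟨_, hTsylX⟩ | ⟨ψ, hψ⟩
    · have hT2' : IsPGroup 2 ↥(T.subgroupOf (cj g Q)) := hT2.comap_subtype
      obtain ⟨P, hP⟩ := hT2'.exists_le_sylow
      have hTP : T ≤ (P : Subgroup ↥(cj g Q)).map (cj g Q).subtype := by
        intro v hv
        exact ⟨⟨v, hTX hv⟩, hP (Subgroup.mem_subgroupOf.mpr hv), rfl⟩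
      have hPT : T = (P : Subgroup ↥(cj g Q)).map (cj g Q).subtype :=
        hTsylX.eq_of_le (Subgroup.map_subtype_le _) (P.isPGroup'.map _) hTP
      have hgR2 : IsPGroup 2 ↥(cj g R) := hR2.map _
      obtain ⟨h, _, hh⟩ := exists_cj_le (cj g Q) P hgR2 (cj_mono hRQ)
      rw [← hPT, cj_cj] at hh
      have heq : cj (h * g) R = T :=
        Subgroup.eq_of_le_of_card_ge hh (by rw [card_cj]; exact hcard.ge)
      exact ⟨((MulAut.conj (h * g)).subgroupMap R).trans (MulEquiv.subgroupCongr heq)⟩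
    · exact ⟨MulEquiv.ofBijective ψ (hψ.bijective_of_nat_card_le hcard.ge)⟩
  · exact ⟨(MulEquiv.ofBijective φ (hφ.bijective_of_nat_card_le hcard.le)).symm⟩

end main

/-- Let Q be a tightly embedded subgroup of a finite group G, g an element outside N_G(Q), T a nontrivial Sylow 2-subgroup of Q^g ∩ N_G(Q), and S a Sylow 2-subgroup of QT containing T. Then T ∩ Q = 1, and N_S(T) is the direct product of T and N_S(T) ∩ Q, with N_S(T) ∩ Q isomorphic to T. -/
theorem result {G : Type*} [Group G] [Finite G] (Q : Subgroup G) (hQ : Cfsg.IsTightlyEmbedded Q)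
    (g : G) (hg : g ∉ Subgroup.normalizer (Q : Set G))
    (T : Subgroup G) (hT1 : T ≠ ⊥) (hT : T ≤ Q.map (MulAut.conj g).toMonoidHom ⊓ Subgroup.normalizer (Q : Set G))
    (hTsyl : IsPGroup 2 T ∧ ¬ 2 ∣ T.relIndex (Q.map (MulAut.conj g).toMonoidHom ⊓ Subgroup.normalizer (Q : Set G)))
    (S : Subgroup G) (hTS : T ≤ S) (hS : S ≤ Q ⊔ T) (hSsyl : IsPGroup 2 S ∧ ¬ 2 ∣ S.relIndex (Q ⊔ T)) :
    T ⊓ Q = ⊥ ∧
      T ⊓ (S ⊓ Subgroup.normalizer (T : Set G) ⊓ Q) = ⊥ ∧
      ⁅T, S ⊓ Subgroup.normalizer (T : Set G) ⊓ Q⁆ = ⊥ ∧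
      T ⊔ (S ⊓ Subgroup.normalizer (T : Set G) ⊓ Q) = S ⊓ Subgroup.normalizer (T : Set G) ∧
      Nonempty (↥(S ⊓ Subgroup.normalizer (T : Set G) ⊓ Q) ≃* T) := by
  exact main Q hQ g hg T hT1 hT (isSyl2_of_relIndex hT hTsyl.1 hTsyl.2) S hTS hS
    (isSyl2_of_relIndex hS hSsyl.1 hSsyl.2) _ rfl

end Cfsg.Agent.S1910
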