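import Mathlib
import Cfsg.Statements.S1921
import Cfsg.Agent.Lib.Helper3.Layer
import Cfsg.Agent.Lib.Helper3.Conj
import Cfsg.Agent.Lib.Helper3.Quasi

set_option autoImplicit false
open Cfsg
open Cfsg.Agent.Lib.Helper3
open scoped commutatorElement

namespace Cfsg.Agent.S1921

/-- Let a be an involution of a finite group H and L a component of H with a L a⁻¹ ≠ L; put M = ⟨L, aLa⁻¹⟩ and let J be the subgroup generated by the elements x · a x a⁻¹ with x ∈ L (the diagonal). Then every element of M outside J·Z(M) generates M together with J. -/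
theorem result {H : Type*} [Group H] [Finite H] (a : H) (ha : orderOf a = 2) (L : Subgroup H) (hL : Cfsg.IsComponent L)
    (hLa : L.map (MulAut.conj a).toMonoidHom ≠ L) (x : H) (hxM : x ∈ L ⊔ L.map (MulAut.conj a).toMonoidHom)
    (hxJ : x ∉ Subgroup.closure {y : H | ∃ l ∈ L, y = l * (a * l * a⁻¹)} ⊔
      ((L ⊔ L.map (MulAut.conj a).toMonoidHom) ⊓ Subgroup.centralizer ((L ⊔ L.map (MulAut.conj a).toMonoidHom : Subgroup H) : Set H))) :
    Subgroup.closure {y : H | ∃ l ∈ L, y = l * (a * l * a⁻¹)} ⊔ Subgroup.zpowers x = L ⊔ L.map (MulAut.conj a).toMonoidHom := by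
  classical
  set La := L.map (MulAut.conj a).toMonoidHom with hLadef
  set J := Subgroup.closure {y : H | ∃ l ∈ L, y = l * (a * l * a⁻¹)} with hJ
  set M := L ⊔ La with hM
  have hLac : Cfsg.IsComponent La := component_map_equiv hL (MulAut.conj a)
  have hcomm : ∀ k ∈ L, ∀ u ∈ La, u * k = k * u := by
    have h1 := components_commute hL hLac (Ne.symm hLa)
    rw [Subgroup.commutator_eq_bot_iff_le_centralizer] at h1
    intro k hk u hu
    exact Subgroup.mem_centralizer_iff.mp (h1 hk) u hu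
  have hconj : ∀ l ∈ L, a * l * a⁻¹ ∈ La := fun l hl => conj_mem_map_conj hl
  have hd : ∀ l ∈ L, l * (a * l * a⁻¹) ∈ J := fun l hl => Subgroup.subset_closure ⟨l, hl, rfl⟩
  have hJM : J ≤ M := by
    rw [hJ, Subgroup.closure_le]
    rintro y ⟨l, hl, rfl⟩
    exact Subgroup.mul_mem _ (Subgroup.mem_sup_left hl) (Subgroup.mem_sup_right (hconj l hl))
  set T := J ⊔ Subgroup.zpowers x with hT
  have hTM : T ≤ M := sup_le hJM (Subgroup.zpowers_le.mpr hxM)
  apply le_antisymm hTM
  -- decompose x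
  have hLN : L ≤ Subgroup.normalizer (La : Set H) := by
    intro l hl
    have : l ∈ Subgroup.centralizer (La : Set H) := by
      rw [Subgroup.mem_centralizer_iff]
      intro u hu
      exact hcomm l hl u hu
    exact Subgroup.centralizer_le_normalizer _ this
  have hx1 : x ∈ ((L ⊔ La : Subgroup H) : Set H) := hxM
  rw [Subgroup.coe_mul_of_left_le_normalizer_right L La hLN, Set.mem_mul] at hx1
  obtain ⟨l₁, hl₁, u, hu, hxe⟩ := hx1
  have hl₁ : l₁ ∈ L := hl₁
  have hu : u ∈ La := hu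
  have hl₂ : a⁻¹ * u * a ∈ L := mem_map_conj.mp hu
  set l₂ := a⁻¹ * u * a with hl₂def
  have hue : u = a * l₂ * a⁻¹ := by rw [hl₂def]; group
  -- y = l₁ l₂⁻¹ ∈ T ∩ L
  set y := l₁ * l₂⁻¹ with hy
  have hyL : y ∈ L := L.mul_mem hl₁ (L.inv_mem hl₂)
  have hxy : x = y * (l₂ * (a * l₂ * a⁻¹)) := by
    rw [← hxe, hue, hy]; group
  have hyT : y ∈ T := by
    have h1 : x ∈ T := Subgroup.mem_sup_right (Subgroup.mem_zpowers x)
    have h2 : l₂ * (a * l₂ * a⁻¹) ∈ T := Subgroup.mem_sup_left (hd l₂ hl₂)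
    have : y = x * (l₂ * (a * l₂ * a⁻¹))⁻¹ := by rw [hxy]; group
    rw [this]
    exact T.mul_mem h1 (T.inv_mem h2)
  -- T ∩ L is normal in L
  have hRn : ((T ⊓ L).subgroupOf L).Normal := by
    constructor
    intro r hr l
    rw [Subgroup.mem_subgroupOf] at hr ⊢
    have h1 : (l : H) * (a * (l : H) * a⁻¹) ∈ T := Subgroup.mem_sup_left (hd l l.2)
    have h2 : ((l : H) * (a * (l : H) * a⁻¹)) * (r : H) * ((l : H) * (a * (l : H) * a⁻¹))⁻¹ ∈ T :=
      T.mul_mem (T.mul_mem h1 hr.1) (T.inv_mem h1)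
    have h3 : (a * (l : H) * a⁻¹) * (r : H) = (r : H) * (a * (l : H) * a⁻¹) :=
      hcomm r r.2 _ (hconj l l.2)
    have e : ((l : H) * (a * (l : H) * a⁻¹)) * (r : H) * ((l : H) * (a * (l : H) * a⁻¹))⁻¹ =
        (l : H) * (r : H) * (l : H)⁻¹ := by
      calc ((l : H) * (a * (l : H) * a⁻¹)) * (r : H) * ((l : H) * (a * (l : H) * a⁻¹))⁻¹
          = (l : H) * ((a * (l : H) * a⁻¹) * (r : H)) * (a * (l : H) * a⁻¹)⁻¹ * (l : H)⁻¹ := by group
        _ = (l : H) * ((r : H) * (a * (l : H) * a⁻¹)) * (a * (l : H) * a⁻¹)⁻¹ * (l : H)⁻¹ := by rw [h3]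
        _ = (l : H) * (r : H) * (l : H)⁻¹ := by group
    rw [e] at h2
    simp only [Subgroup.coe_mul, Subgroup.coe_inv]
    exact ⟨h2, L.mul_mem (L.mul_mem l.2 r.2) (L.inv_mem l.2)⟩
  rcases quasisimple_normal hL.2 ((T ⊓ L).subgroupOf L) with h | h
  · -- L ≤ T
    have hLT : L ≤ T := by
      have := Subgroup.subgroupOf_eq_top.mp h
      exact this.trans inf_le_left
    apply sup_le hLT
    intro u' hu'
    have hl' : a⁻¹ * u' * a ∈ L := mem_map_conj.mp hu'
    have h1 : (a⁻¹ * u' * a) * (a * (a⁻¹ * u' * a) * a⁻¹) ∈ T := Subgroup.mem_sup_left (hd _ hl')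
    have h2 := T.mul_mem (T.inv_mem (hLT hl')) h1
    have e : (a⁻¹ * u' * a)⁻¹ * ((a⁻¹ * u' * a) * (a * (a⁻¹ * u' * a) * a⁻¹)) = u' := by group
    rwa [e] at h2
  · -- y central in L: contradiction
    exfalso
    apply hxJ
    have hyc : (⟨y, hyL⟩ : L) ∈ Subgroup.center ↥L := by
      apply h
      rw [Subgroup.mem_subgroupOf]
      exact ⟨hyT, hyL⟩
    have hyZ : y ∈ M ⊓ Subgroup.centralizer (M : Set H) := by
      refine ⟨Subgroup.mem_sup_left hyL, ?_⟩
      have hML : M ≤ Subgroup.centralizer ({y} : Set H) := by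
        apply sup_le
        · intro l hl
          rw [Subgroup.mem_centralizer_iff]
          intro z hz
          rw [Set.mem_singleton_iff] at hz; subst hz
          have := Subgroup.mem_center_iff.mp hyc ⟨l, hl⟩
          exact (congrArg Subtype.val this).symm
        · intro u' hu'
          rw [Subgroup.mem_centralizer_iff]
          intro z hz
          rw [Set.mem_singleton_iff] at hz; subst hz
          exact (hcomm _ hyL u' hu').symm
      show y ∈ Subgroup.centralizer (M : Set H)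
      rw [Subgroup.mem_centralizer_iff]
      intro m hm
      exact (Subgroup.mem_centralizer_iff.mp (hML hm) y rfl).symm
    rw [hxy]
    have h1 : l₂ * (a * l₂ * a⁻¹) ∈ J := hd l₂ hl₂
    exact Subgroup.mul_mem _ (Subgroup.mem_sup_right hyZ) (Subgroup.mem_sup_left h1)

end Cfsg.Agent.S1921
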