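import Cfsg.Statements.S1939

set_option autoImplicit false
open Cfsg

namespace Cfsg.Agent.S1939

/-- Let S be a Sylow p-subgroup of the finite group G and a an element of S that is the only G-conjugate of a lying in S. Then every power of a has the same property: for every n, the only G-conjugate of a^n lying in S is a^n. -/
theorem result {G : Type*} [Group G] [Finite G] {p : ℕ} [Fact p.Prime] (S : Sylow p G) (a : G)
    (haS : a ∈ (S : Subgroup G)) (hwc : ∀ g : G, g * a * g⁻¹ ∈ (S : Subgroup G) → g * a * g⁻¹ = a) (n : ℕ) :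
    ∀ g : G, g * a ^ n * g⁻¹ ∈ (S : Subgroup G) → g * a ^ n * g⁻¹ = a ^ n := by
  intro g hg
  -- a is central in S
  have hcen : ∀ s ∈ (S : Subgroup G), s * a = a * s := by
    intro s hs
    have h1 : s * a * s⁻¹ ∈ (S : Subgroup G) := S.1.mul_mem (S.1.mul_mem hs haS) (S.1.inv_mem hs)
    have h2 := hwc s h1
    calc s * a = s * a * s⁻¹ * s := by group
      _ = a * s := by rw [h2]
  set b := g * a ^ n * g⁻¹ with hb
  let C : Subgroup G := Subgroup.centralizer {b}
  have haC : a ∈ C := by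
    rw [Subgroup.mem_centralizer_singleton_iff]
    exact (hcen b hg).symm
  -- g S g⁻¹ ≤ C
  have hQC : (↑(g • S) : Subgroup G) ≤ C := by
    intro x hx
    rw [Sylow.coe_subgroup_smul, Subgroup.mem_pointwise_smul_iff_inv_smul_mem] at hx
    simp only [MulAut.smul_def, MulAut.inv_apply, MulAut.conj_symm_apply] at hx
    rw [Subgroup.mem_centralizer_singleton_iff]
    have h1 := hcen _ hx
    have h2 : (g⁻¹ * x * g) * a ^ n = a ^ n * (g⁻¹ * x * g) := by
      exact (Commute.pow_right h1 n).eq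
    rw [hb]
    calc x * (g * a ^ n * g⁻¹) = g * ((g⁻¹ * x * g) * a ^ n) * g⁻¹ := by group
      _ = g * (a ^ n * (g⁻¹ * x * g)) * g⁻¹ := by rw [h2]
      _ = g * a ^ n * g⁻¹ * x := by group
  let Q' : Sylow p C := (g • S).subtype hQC
  have hp : IsPGroup p ((Subgroup.zpowers a).subgroupOf C) := by
    apply IsPGroup.comap_subtype
    exact S.isPGroup'.to_le (by rw [Subgroup.zpowers_le]; exact haS)
  obtain ⟨R, hR⟩ := hp.exists_le_sylow
  obtain ⟨c, hc⟩ := MulAction.exists_smul_eq C Q' R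
  have hmem : (⟨a, haC⟩ : C) ∈ R := hR (by simp [Subgroup.mem_subgroupOf])
  rw [← hc] at hmem
  change (⟨a, haC⟩ : C) ∈ ((c • Q' : Sylow p C) : Subgroup C) at hmem
  rw [Sylow.coe_subgroup_smul, Subgroup.mem_pointwise_smul_iff_inv_smul_mem] at hmem
  simp only [MulAut.smul_def, MulAut.inv_apply, MulAut.conj_symm_apply] at hmem
  change (c⁻¹ * ⟨a, haC⟩ * c : C) ∈ ((g • S).subtype hQC : Sylow p C) at hmem
  have hmem2 : ((c⁻¹ * ⟨a, haC⟩ * c : C) : G) ∈ ((g • S : Sylow p G) : Subgroup G) := by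
    have h7 : (c⁻¹ * ⟨a, haC⟩ * c : C) ∈ (((g • S).subtype hQC : Sylow p C) : Subgroup C) := hmem
    rw [Sylow.coe_subtype, Subgroup.mem_subgroupOf] at h7
    exact h7
  rw [Sylow.coe_subgroup_smul, Subgroup.mem_pointwise_smul_iff_inv_smul_mem] at hmem2
  simp only [MulAut.smul_def, MulAut.inv_apply, MulAut.conj_symm_apply, Subgroup.coe_mul,
    Subgroup.coe_inv] at hmem2
  -- hmem2 : g⁻¹ * (c⁻¹ * a * c) * g ∈ S
  have hcb : (c : G) * b = b * c := by
    have := c.2
    rw [Subgroup.mem_centralizer_singleton_iff] at this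
    exact this
  have h3 : ((c : G) * g)⁻¹ * a * ((c : G) * g)⁻¹⁻¹ ∈ (S : Subgroup G) := by
    have : ((c : G) * g)⁻¹ * a * ((c : G) * g)⁻¹⁻¹ = g⁻¹ * ((c : G)⁻¹ * a * c) * g := by group
    rw [this]; exact hmem2
  have h4 := hwc _ h3
  have h5 : ((c : G) * g) * a = a * ((c : G) * g) := by
    calc ((c : G) * g) * a = ((c : G) * g) * (((c : G) * g)⁻¹ * a * ((c : G) * g)⁻¹⁻¹) := by rw [h4]
      _ = a * ((c : G) * g) := by group
  have h6 : ((c : G) * g) * a ^ n = a ^ n * ((c : G) * g) := (Commute.pow_right h5 n).eq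
  calc b = (c : G) * b * (c : G)⁻¹ := by rw [hcb]; group
    _ = ((c : G) * g) * a ^ n * ((c : G) * g)⁻¹ := by rw [hb]; group
    _ = a ^ n := by rw [h6]; group

end Cfsg.Agent.S1939
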