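import Cfsg.Statements.S1940

set_option autoImplicit false
open Cfsg

namespace Cfsg.Agent.S1940

/-- Let the finite group L act by automorphisms on the finite abelian group M, and let N be an L-invariant subgroup of M such that M/N is a p-group on which L acts trivially (every l • m lies in the coset mN). If every element of M is a product of an element of N and an element fixed by a Sylow p-subgroup T of L, then every element of M is a product of an element of N and an element fixed by all of L. -/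
theorem result {L : Type*} [Group L] [Finite L] {M : Type*} [CommGroup M] [Finite M] [MulDistribMulAction L M]
    {p : ℕ} [Fact p.Prime] (N : Subgroup M) (hN : ∀ (l : L) (m : M), m ∈ N → l • m ∈ N)
    (hquot : IsPGroup p (M ⧸ N)) (htriv : ∀ (l : L) (m : M), (l • m) * m⁻¹ ∈ N) (T : Sylow p L)
    (hT : ∀ m : M, ∃ n ∈ N, ∃ c : M, (∀ t ∈ (T : Subgroup L), t • c = c) ∧ m = n * c) :
    ∀ m : M, ∃ n ∈ N, ∃ c : M, (∀ l : L, l • c = c) ∧ m = n * c := by
  classical
  haveI : Fintype (L ⧸ (T : Subgroup L)) := Fintype.ofFinite _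
  set k := Fintype.card (L ⧸ (T : Subgroup L)) with hk
  let tr : M → M := fun c => ∏ q : L ⧸ (T : Subgroup L), (Quotient.out q : L) • c
  -- Lemma A: tr c is L-fixed when c is T-fixed
  have hA : ∀ c : M, (∀ t ∈ (T : Subgroup L), t • c = c) → ∀ l : L, l • tr c = tr c := by
    intro c hc l
    have h1 : l • tr c = ∏ q : L ⧸ (T : Subgroup L), (Quotient.out (l • q) : L) • c := by
      change l • (∏ q : L ⧸ (T : Subgroup L), (Quotient.out q : L) • c) = _
      rw [Finset.smul_prod']
      apply Finset.prod_congr rfl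
      intro q _
      rw [smul_smul]
      have hq : l • q = (QuotientGroup.mk (l * Quotient.out q) : L ⧸ (T : Subgroup L)) := by
        conv_lhs => rw [← QuotientGroup.out_eq' q]
        rfl
      rw [hq]
      obtain ⟨t, ht⟩ := QuotientGroup.mk_out_eq_mul (T : Subgroup L) (l * Quotient.out q)
      rw [ht, mul_smul (l * Quotient.out q) (t : L) c, hc t t.2]
    rw [h1]
    exact Equiv.prod_comp (MulAction.toPerm l) (fun q : L ⧸ (T : Subgroup L) => (Quotient.out q : L) • c)
  -- Lemma B
  have hB : ∀ c : M, tr c * (c ^ k)⁻¹ ∈ N := by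
    intro c
    have : tr c * (c ^ k)⁻¹ = ∏ q : L ⧸ (T : Subgroup L), ((Quotient.out q : L) • c) * c⁻¹ := by
      rw [Finset.prod_mul_distrib, Finset.prod_const, Finset.card_univ, inv_pow]
    rw [this]
    exact Subgroup.prod_mem N (fun q _ => htriv _ c)
  -- coprimality
  set e := Nat.card (M ⧸ N) with he
  have hke : Nat.Coprime k e := by
    obtain ⟨a, ha⟩ := (IsPGroup.iff_card (p := p) (G := M ⧸ N)).mp hquot
    rw [he, ha]
    apply Nat.Coprime.pow_right
    have h1 : ¬ p ∣ (T : Subgroup L).index := T.not_dvd_index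
    have h2 : (T : Subgroup L).index = k := by
      rw [Subgroup.index, Nat.card_eq_fintype_card]
    rw [h2] at h1
    exact (Nat.Coprime.symm ((Nat.Prime.coprime_iff_not_dvd Fact.out).mpr h1))
  have hpowe : ∀ m : M, m ^ e ∈ N := by
    intro m
    have := pow_card_eq_one' (G := M ⧸ N) (x := (QuotientGroup.mk m : M ⧸ N))
    rw [← QuotientGroup.mk_pow, QuotientGroup.eq_one_iff] at this
    exact this
  intro m
  -- Bezout
  have hbez : (k : ℤ) * Nat.gcdA k e + (e : ℤ) * Nat.gcdB k e = 1 := by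
    have := Nat.gcd_eq_gcd_ab k e
    rw [hke] at this
    simpa using this.symm
  set a := Nat.gcdA k e
  set b := Nat.gcdB k e
  obtain ⟨n₁, hn₁, c₁, hc₁, hm₁⟩ := hT (m ^ a)
  refine ⟨m * (tr c₁)⁻¹, ?_, tr c₁, hA c₁ hc₁, by group⟩
  have e1 : m = (m ^ a) ^ k * (m ^ e) ^ b := by
    rw [← zpow_natCast (m ^ a) k, ← zpow_mul, ← zpow_natCast m e, ← zpow_mul, ← zpow_add]
    have : a * (k : ℤ) + (e : ℤ) * b = 1 := by rw [mul_comm a]; exact hbez
    rw [this, zpow_one]
  have e2 : m * (tr c₁)⁻¹ = (m ^ e) ^ b * n₁ ^ k * (tr c₁ * (c₁ ^ k)⁻¹)⁻¹ := by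
    conv_lhs => rw [e1, hm₁, mul_pow]
    rw [mul_inv_rev, inv_inv]
    simp only [mul_comm, mul_left_comm, mul_assoc]
  rw [e2]
  exact N.mul_mem (N.mul_mem (N.zpow_mem (hpowe m) b) (N.pow_mem hn₁ k)) (N.inv_mem (hB c₁))

end Cfsg.Agent.S1940
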