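import Mathlib
import Cfsg.Statements.S1941
import Cfsg.Agent.Lib.Helper3.Cocycle
import Cfsg.Agent.Lib.Helper3.FStar2
import Cfsg.Agent.Lib.Helper1.Fitting2
import Cfsg.Agent.S1265

set_option autoImplicit false
set_option linter.style.haveILetI false
open Cfsg
open Cfsg.Agent.Lib.Helper3
open scoped commutatorElement

namespace Cfsg.Agent.S1941

/-- Let G be a finite group with no nontrivial normal subgroup of order prime to p, T a Sylow p-subgroup of G and E(G) the layer of G (the subgroup generated by its components). An automorphism of G of p-power order that fixes T and E(G) elementwise is inner. -/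
theorem result {G : Type*} [Group G] [Finite G] {p : ℕ} [Fact p.Prime] (hcore : Cfsg.pPrimeCore p G = ⊥)
    (T : Sylow p G) (α : MulAut G) (hα : ∃ j : ℕ, orderOf α = p ^ j) (hfixT : ∀ x ∈ (T : Subgroup G), α x = x)
    (hfixE : ∀ x ∈ Cfsg.layer G, α x = x) : ∃ g : G, ∀ x : G, α x = g * x * g⁻¹ := by
  classical
  have hp := (Fact.out : p.Prime)
  have hF : Cfsg.fittingSubgroup G ≤ Cfsg.pCore p G := by
    rw [Cfsg.Agent.Lib.Helper1.fitting_eq_pCoreSup]
    refine (Cfsg.Agent.Lib.Helper1.pCoreSup_le_sup p).trans ?_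
    rw [hcore, sup_bot_eq]
  have hQT : Cfsg.pCore p G ≤ (T : Subgroup G) := Cfsg.Agent.Lib.Helper1.pCore_le_sylow T
  obtain ⟨Fs, hFs⟩ : ∃ Fs : Subgroup G, Fs = Cfsg.generalizedFittingSubgroup G := ⟨_, rfl⟩
  haveI hFsn : Fs.Normal := by
    rw [hFs]
    have hFn : (Cfsg.fittingSubgroup G).Normal := fitting_normal
    have hEn : (Cfsg.layer G).Normal := layer_normal
    unfold Cfsg.generalizedFittingSubgroup
    infer_instance
  have hfixF : ∀ x ∈ Fs, α x = x := by
    let Fix : Subgroup G :=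
      { carrier := {x | α x = x}
        mul_mem' := by
          intro a b ha hb
          show α (a * b) = a * b
          rw [map_mul, ha, hb]
        one_mem' := map_one α
        inv_mem' := by
          intro a ha
          show α a⁻¹ = a⁻¹
          rw [map_inv, ha] }
    have h1 : Fs ≤ Fix := by
      rw [hFs]
      unfold Cfsg.generalizedFittingSubgroup
      exact sup_le (fun x hx => hfixE x hx) (fun x hx => hfixT x (hQT (hF hx)))
    exact fun x hx => h1 hx
  obtain ⟨Z₀, hZ₀⟩ : ∃ Z₀ : Subgroup G, Z₀ = Subgroup.centralizer (Fs : Set G) := ⟨_, rfl⟩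
  haveI hZn : Z₀.Normal := by rw [hZ₀]; infer_instance
  have hZF : Z₀ ≤ Fs := by rw [hZ₀, hFs]; exact Cfsg.Agent.S1265.result
  have hZab : ∀ a ∈ Z₀, ∀ b ∈ Z₀, a * b = b * a := by
    intro a ha b hb
    rw [hZ₀] at hb
    exact Subgroup.mem_centralizer_iff.mp hb a (hZF ha)
  have hZp : IsPGroup p Z₀ := by
    have hnil : Group.IsNilpotent ↥Z₀ := by
      apply isNilpotent_of_class_two
      have h1 : ⁅Z₀, Z₀⁆ = ⊥ := by
        rw [Subgroup.commutator_eq_bot_iff_le_centralizer]
        intro a ha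
        rw [Subgroup.mem_centralizer_iff]
        intro b hb
        exact hZab b hb a ha
      rw [h1, Subgroup.commutator_bot_left]
    have h1 : Z₀ ≤ Cfsg.fittingSubgroup G := normal_nilpotent_le_fitting hZn hnil
    exact Cfsg.Agent.Lib.Helper1.pCore_isPGroup.to_le (h1.trans hF)
  have hφZ : ∀ g : G, α g * g⁻¹ ∈ Z₀ := by
    intro g
    rw [hZ₀, Subgroup.mem_centralizer_iff]
    intro f hf
    have hc : g⁻¹ * f * g ∈ Fs := by
      have := hFsn.conj_mem f hf g⁻¹
      rwa [inv_inv] at this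
    have h1 : α (g⁻¹ * f * g) = g⁻¹ * f * g := hfixF _ hc
    rw [map_mul, map_mul, hfixF f hf, map_inv] at h1
    calc f * (α g * g⁻¹) = α g * ((α g)⁻¹ * f * α g) * g⁻¹ := by group
      _ = α g * (g⁻¹ * f * g) * g⁻¹ := by rw [h1]
      _ = α g * g⁻¹ * f := by group
  letI commZ : CommGroup ↥Z₀ :=
    { (inferInstance : Group ↥Z₀) with mul_comm := fun a b => Subtype.ext (hZab a a.2 b b.2) }
  have hcop : (Nat.card ↥Z₀).Coprime (T : Subgroup G).index := by
    obtain ⟨k, hk⟩ := hZp.exists_card_eq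
    rw [hk]
    exact (hp.coprime_iff_not_dvd.mpr T.not_dvd_index).pow_left k
  obtain ⟨w, hw⟩ := cocycle_trivial (B := ↥Z₀) (MulAut.conjNormal (H := Z₀)) (T : Subgroup G) hcop
    (fun g => (⟨α g * g⁻¹, hφZ g⟩ : ↥Z₀))
    (by
      intro h g
      apply Subtype.ext
      show α (h * g) * (h * g)⁻¹ = α h * h⁻¹ * (h * (α g * g⁻¹) * h⁻¹)
      rw [map_mul]; group)
    (by
      intro g t ht
      apply Subtype.ext
      show α (g * t) * (g * t)⁻¹ = α g * g⁻¹
      rw [map_mul, hfixT t ht]; group)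
  refine ⟨(w : G), fun x => ?_⟩
  have h1 := congrArg Subtype.val (hw x)
  have h2 : α x * x⁻¹ = (w : G) * (x * (w : G) * x⁻¹)⁻¹ := h1
  calc α x = α x * x⁻¹ * x := by group
    _ = (w : G) * (x * (w : G) * x⁻¹)⁻¹ * x := by rw [h2]
    _ = (w : G) * x * (w : G)⁻¹ := by group

end Cfsg.Agent.S1941
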