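import Cfsg.Statements.S1947
import Mathlib
import Cfsg.Agent.Lib.Helper6.CoprimeAut
import Cfsg.Agent.S0071

set_option autoImplicit false
open Cfsg Cfsg.Agent.Lib.Helper6

namespace Cfsg.Agent.S1947


theorem comm_pow_eq_one_h6 {G : Type*} [Group G] (g x : G) (k : ℕ) (hk : g ^ k = 1)
    (hc : Commute (x * g * x⁻¹ * g⁻¹) g) : (x * g * x⁻¹ * g⁻¹) ^ k = 1 := by
  have h1 : x * g * x⁻¹ = (x * g * x⁻¹ * g⁻¹) * g := by group
  have h2 : (x * g * x⁻¹) ^ k = 1 := by rw [conj_pow, hk]; group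
  rw [h1, hc.mul_pow, hk, mul_one] at h2
  exact h2

theorem commute_of_mem_upperCentralSeries_h6 {G : Type*} [Group G] [Finite G] {p : ℕ} [Fact p.Prime]
    (Q : Subgroup G) (hQ : IsPGroup p Q) (g : G) (hg : g ∈ Subgroup.normalizer (Q : Set G))
    (hgp : (orderOf g).Coprime p) :
    ∀ n : ℕ, ∀ x ∈ Q, x ∈ Subgroup.upperCentralSeries G n → g * x = x * g := by
  intro n
  induction n with
  | zero =>
    intro x _ hx
    rw [Subgroup.upperCentralSeries_zero, Subgroup.mem_bot] at hx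
    rw [hx, mul_one, one_mul]
  | succ n ih =>
    intro x hxQ hx
    rw [Subgroup.mem_upperCentralSeries_succ_iff] at hx
    have hc := hx g
    have hcQ : x * g * x⁻¹ * g⁻¹ ∈ Q := by
      have h1 : g * x⁻¹ * g⁻¹ ∈ Q := (Subgroup.mem_normalizer_iff.1 hg x⁻¹).1 (Q.inv_mem hxQ)
      have : x * g * x⁻¹ * g⁻¹ = x * (g * x⁻¹ * g⁻¹) := by group
      rw [this]; exact Q.mul_mem hxQ h1
    have hcomm : Commute (x * g * x⁻¹ * g⁻¹) g := (ih _ hcQ hc).symm
    have hpow := comm_pow_eq_one_h6 g x (orderOf g) (pow_orderOf_eq_one g) hcomm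
    obtain ⟨t, ht⟩ := hQ ⟨_, hcQ⟩
    have ht' : (x * g * x⁻¹ * g⁻¹) ^ p ^ t = 1 := by
      have := congrArg Subtype.val ht
      simpa using this
    have hd1 : orderOf (x * g * x⁻¹ * g⁻¹) ∣ orderOf g := orderOf_dvd_of_pow_eq_one hpow
    have hd2 : orderOf (x * g * x⁻¹ * g⁻¹) ∣ p ^ t := orderOf_dvd_of_pow_eq_one ht'
    have h1 : orderOf (x * g * x⁻¹ * g⁻¹) = 1 :=
      Nat.eq_one_of_dvd_coprimes (Nat.Coprime.pow_right t hgp) hd1 hd2
    rw [orderOf_eq_one_iff] at h1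
    have : x * g = (x * g * x⁻¹ * g⁻¹) * (g * x) := by group
    rw [this, h1, one_mul]


/-- Let G be a finite group and p a prime. If every element of G of order dividing p (dividing 4 when p = 2) lies in some fixed term Z_n(G) of the upper central series, then G has a normal p-complement. -/
theorem result {G : Type*} [Group G] [Finite G] {p : ℕ} [Fact p.Prime] (n : ℕ)
    (h : ∀ a : G, (a ^ p = 1 ∨ (p = 2 ∧ a ^ 4 = 1)) → a ∈ Subgroup.upperCentralSeries G n) : Cfsg.HasNormalPComplement p G := by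
  obtain ⟨P⟩ : Nonempty (Sylow p G) := inferInstance
  refine ⟨P, ?_⟩
  rw [Cfsg.Agent.S0071.result P]
  intro Q hQP g hg hgp
  have hQ : IsPGroup p Q := P.isPGroup'.to_le hQP
  by_cases hp2 : p = 2
  · apply mem_centralizer_of_commute_omega 4 (Or.inr ⟨rfl, hp2⟩) Q hQ g hg hgp
    intro x hx hx4
    exact commute_of_mem_upperCentralSeries_h6 Q hQ g hg hgp n x hx (h x (Or.inr ⟨hp2, hx4⟩))
  · apply mem_centralizer_of_commute_omega p (Or.inl ⟨rfl, hp2⟩) Q hQ g hg hgp
    intro x hx hxp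
    exact commute_of_mem_upperCentralSeries_h6 Q hQ g hg hgp n x hx (h x (Or.inl hxp))

end Cfsg.Agent.S1947
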