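import Mathlib
import Cfsg.Statements.S1948
import Cfsg.Agent.Lib.Helper3.PConstr
import Cfsg.Agent.Lib.Helper3.PSolv2
import Cfsg.Agent.Lib.Helper3.Frattini
import Cfsg.Agent.Lib.Helper3.SolvPSolv

set_option autoImplicit false
set_option linter.style.haveILetI false
open Cfsg
open Cfsg.Agent.Lib.Helper3
open scoped commutatorElement

namespace Cfsg.Agent.S1948

/-- Let S be a Sylow p-subgroup of the finite group G. Then G = N_G(S)·O_{p'}(G) if and only if G is p-constrained and N_G(S) controls fusion in S, in the sense that whenever a subgroup Q of S has a conjugate g Q g⁻¹ inside S, the element g is a product n c with n normalizing S and c centralizing Q. -/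
theorem result {G : Type*} [Group G] [Finite G] {p : ℕ} [Fact p.Prime] (S : Sylow p G) :
    Subgroup.normalizer ((S : Subgroup G) : Set G) ⊔ Cfsg.pPrimeCore p G = ⊤ ↔
      (Cfsg.IsPConstrained p G ∧
        ∀ Q : Subgroup G, Q ≤ (S : Subgroup G) → ∀ g : G, Q.map (MulAut.conj g).toMonoidHom ≤ (S : Subgroup G) →
          ∃ n ∈ Subgroup.normalizer ((S : Subgroup G) : Set G), ∃ c ∈ Subgroup.centralizer (Q : Set G), g = n * c) := by
  classical
  have hpp : p.Prime := Fact.out
  obtain ⟨O, hO⟩ : ∃ O : Subgroup G, O = Cfsg.pPrimeCore p G := ⟨_, rfl⟩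
  have hOn : O.Normal := by rw [hO]; exact pPrimeCore_normal' p
  have hOc : (Nat.card O).Coprime p := by rw [hO]; exact Cfsg.Agent.Lib.Helper1.pPrimeCore_coprime p
  have hSp : IsPGroup p (S : Subgroup G) := S.2
  have hSO : ∀ x, x ∈ (S : Subgroup G) → x ∈ O → x = 1 := fun x hx hxo =>
    eq_one_of_mem_pgroup_of_mem_pprime hSp hOc hx hxo
  have hSN : (S : Subgroup G) ≤ Subgroup.normalizer ((S : Subgroup G) : Set G) :=
    Subgroup.le_normalizer
  rw [← hO]
  constructor
  · intro htop
    have hmem : ∀ g : G, ∃ n ∈ Subgroup.normalizer ((S : Subgroup G) : Set G), ∃ o ∈ O,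
        g = n * o := by
      intro g
      have hg : g ∈ Subgroup.normalizer ((S : Subgroup G) : Set G) ⊔ O := by
        rw [htop]; exact Subgroup.mem_top g
      exact mem_mul_of_mem_sup_left_normal (by
        rw [Subgroup.normalizer_eq_top_iff.mpr hOn]; exact le_top) hg
    refine ⟨?_, ?_⟩
    · -- p-constraint via p-solvability
      have hSOn : ((S : Subgroup G) ⊔ O).Normal := by
        rw [← Subgroup.normalizer_eq_top_iff, eq_top_iff, ← htop]
        apply sup_le
        · intro n hn
          apply mem_normalizer_of_map_conj_le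
          rw [Subgroup.map_sup]
          apply sup_le
          · rintro _ ⟨x, hx, rfl⟩
            exact Subgroup.mem_sup_left ((Subgroup.mem_set_normalizer_iff.mp hn x).mp hx)
          · rintro _ ⟨x, hx, rfl⟩
            exact Subgroup.mem_sup_right (hOn.conj_mem x hx n)
        · exact le_sup_right.trans Subgroup.le_normalizer
      have hinf : O ⊓ (S : Subgroup G) = ⊥ := by
        rw [eq_bot_iff]
        intro x hx
        rw [Subgroup.mem_bot]
        exact hSO x hx.2 hx.1
      have hsol : Cfsg.IsPSolvable p G := by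
        refine ⟨3, ![⊥, O, (S : Subgroup G) ⊔ O, ⊤], rfl, rfl, ?_, ?_, ?_⟩
        · rw [Fin.monotone_iff_le_succ]
          intro i
          fin_cases i
          · exact bot_le
          · exact le_sup_right
          · exact le_top
        · intro i
          fin_cases i
          · exact Subgroup.normal_bot
          · exact hOn
          · exact hSOn
          · exact Subgroup.normal_top
        · intro i
          fin_cases i
          · right
            show ((⊥ : Subgroup G).relIndex O).Coprime p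
            rw [Subgroup.relIndex_bot_left]
            exact hOc
          · left
            obtain ⟨m, hm⟩ := IsPGroup.iff_card.mp hSp
            refine ⟨m, ?_⟩
            show O.relIndex ((S : Subgroup G) ⊔ O) = p ^ m
            haveI := hOn
            rw [Subgroup.relIndex_sup_right, ← Subgroup.inf_relIndex_right, hinf,
              Subgroup.relIndex_bot_left, hm]
          · right
            show (((S : Subgroup G) ⊔ O).relIndex ⊤).Coprime p
            rw [Subgroup.relIndex_top_right]
            have h1 : ((S : Subgroup G) ⊔ O).index ∣ (S : Subgroup G).index :=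
              Subgroup.index_dvd_of_le le_sup_left
            have h2 : ¬ p ∣ (S : Subgroup G).index := S.not_dvd_index
            exact ((Nat.Prime.coprime_iff_not_dvd hpp).mpr (fun h => h2 (h.trans h1))).symm
      rw [isPConstrained_iff]
      exact centralizer_pCore_le_of_psolvable_quotient hsol (Cfsg.pPrimeCore p G)
        (pPrimeCore_quotient_eq_bot p)
    · intro Q hQS g hQg
      obtain ⟨n, hn, o, ho, rfl⟩ := hmem g
      refine ⟨n, hn, o, ?_, rfl⟩
      rw [Subgroup.mem_centralizer_iff]
      intro q hq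
      have h1 : n * o * q * (n * o)⁻¹ ∈ (S : Subgroup G) := hQg ⟨q, hq, rfl⟩
      have h2 : o * q * o⁻¹ ∈ (S : Subgroup G) := by
        apply (Subgroup.mem_set_normalizer_iff.mp hn _).mpr
        have e : n * (o * q * o⁻¹) * n⁻¹ = n * o * q * (n * o)⁻¹ := by group
        rw [e]; exact h1
      have h3 : o * q * o⁻¹ * q⁻¹ ∈ (S : Subgroup G) :=
        Subgroup.mul_mem _ h2 (Subgroup.inv_mem _ (hQS hq))
      have h4 : o * q * o⁻¹ * q⁻¹ ∈ O := by
        have e : o * q * o⁻¹ * q⁻¹ = o * (q * o⁻¹ * q⁻¹) := by group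
        rw [e]
        exact O.mul_mem ho (hOn.conj_mem _ (O.inv_mem ho) q)
      have h5 := hSO _ h3 h4
      have e : q * o = (o * q * o⁻¹ * q⁻¹)⁻¹ * (o * q) := by group
      rw [e, h5, inv_one, one_mul]
  · rintro ⟨hcon, hfus⟩
    rw [isPConstrained_iff] at hcon
    obtain ⟨L, hL⟩ : ∃ L : Subgroup G, L = Cfsg.pPrimePCore p G := ⟨_, rfl⟩
    obtain ⟨P₁, hP₁⟩ : ∃ P₁ : Subgroup G, P₁ = (S : Subgroup G) ⊓ L := ⟨_, rfl⟩
    have hP₁S : P₁ ≤ (S : Subgroup G) := by rw [hP₁]; exact inf_le_left
    have hP₁p : IsPGroup p P₁ := hSp.to_le hP₁S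
    -- the image of `P₁` is `O_p(G/O)`
    have hQb : Cfsg.pCore p (G ⧸ Cfsg.pPrimeCore p G) ≤ (S : Subgroup G).map (ppi p G) := by
      have := Cfsg.Agent.Lib.Helper1.pCore_le_sylow (S.mapSurjective (ppi_surjective p))
      exact this
    have himg : ∀ y : G, ppi p G y ∈ Cfsg.pCore p (G ⧸ Cfsg.pPrimeCore p G) →
        ∃ s ∈ P₁, ppi p G s = ppi p G y := by
      intro y hy
      obtain ⟨s, hs, hsy⟩ := hQb hy
      refine ⟨s, ?_, hsy⟩
      have hsL : s ∈ L := by
        rw [hL, mem_pPrimePCore_iff, hsy]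
        exact hy
      rw [hP₁]
      exact ⟨hs, hsL⟩
    have hP₁img : ∀ s ∈ P₁, ppi p G s ∈ Cfsg.pCore p (G ⧸ Cfsg.pPrimeCore p G) := by
      intro s hs
      rw [hP₁] at hs
      have h2 : s ∈ L := hs.2
      rw [hL, mem_pPrimePCore_iff] at h2
      exact h2
    -- membership in `L` gives a factorization
    have hLfac : ∀ y ∈ L, ∃ s ∈ P₁, ∃ o ∈ O, y = s * o := by
      intro y hy
      rw [hL, mem_pPrimePCore_iff] at hy
      obtain ⟨s, hs, hsy⟩ := himg y hy
      refine ⟨s, hs, s⁻¹ * y, ?_, by group⟩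
      rw [hO, ← ppi_eq_one_iff, map_mul, map_inv, hsy, inv_mul_cancel]
    rw [eq_top_iff]
    intro g _
    -- Frattini
    have hLn : L.Normal := by rw [hL]; exact pPrimePCore_normal p
    have hd : ∀ x ∈ P₁, g * x * g⁻¹ ∈ P₁ ⊔ O := by
      intro x hx
      have hxL : x ∈ L := by rw [hP₁] at hx; exact hx.2
      obtain ⟨s, hs, o, ho, he⟩ := hLfac _ (hLn.conj_mem x hxL g)
      rw [he]
      exact Subgroup.mul_mem _ (Subgroup.mem_sup_left hs) (Subgroup.mem_sup_right ho)
    obtain ⟨o, ho, hog⟩ := exists_mul_mem_normalizer hOn hOc hP₁p g hd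
    have hconj : P₁.map (MulAut.conj (o * g)).toMonoidHom ≤ (S : Subgroup G) := by
      have h : P₁.map (MulAut.conj (o * g)).toMonoidHom = P₁ :=
        Subgroup.mem_normalizer_iff_map_conj_eq.mp hog
      rw [h]
      exact hP₁S
    obtain ⟨n, hn, c, hc, hnc⟩ := hfus P₁ hP₁S (o * g) hconj
    -- `c ∈ L`
    have hcL : ppi p G c ∈ Cfsg.pCore p (G ⧸ Cfsg.pPrimeCore p G) := by
      apply hcon
      rw [Subgroup.mem_centralizer_iff]
      intro y hy
      obtain ⟨y', rfl⟩ := ppi_surjective p y
      obtain ⟨s, hs, hsy⟩ := himg y' hy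
      rw [← hsy, ← map_mul, ← map_mul, Subgroup.mem_centralizer_iff.mp hc s hs]
    obtain ⟨s, hs, hsc⟩ := himg c hcL
    have hsc' : s⁻¹ * c ∈ O := by
      rw [hO, ← ppi_eq_one_iff, map_mul, map_inv, hsc, inv_mul_cancel]
    have e : g = o⁻¹ * (n * s) * (s⁻¹ * c) := by
      have : o * g = n * c := hnc
      calc g = o⁻¹ * (o * g) := by group
        _ = o⁻¹ * (n * c) := by rw [this]
        _ = o⁻¹ * (n * s) * (s⁻¹ * c) := by group
    rw [e]
    refine Subgroup.mul_mem _ (Subgroup.mul_mem _ (Subgroup.mem_sup_right (O.inv_mem ho)) ?_)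
      (Subgroup.mem_sup_right hsc')
    exact Subgroup.mem_sup_left (Subgroup.mul_mem _ hn (hSN (hP₁S hs)))

end Cfsg.Agent.S1948
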