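import Cfsg.Statements.S1952
import Mathlib

set_option autoImplicit false
open Cfsg

namespace Cfsg.Agent.S1952

open scoped IsMulCommutative

section IND
variable {B : Type*} [CommGroup B] {p : ℕ} [Fact p.Prime]

theorem pow_mod' {b : B} (hb : b ^ p = 1) (n : ℕ) : b ^ (n % p) = b ^ n := by
  conv_rhs => rw [← Nat.mod_add_div n p, pow_add, pow_mul, hb, one_pow, mul_one]

theorem prod_zmod_val {M : Type*} [CommMonoid M] (n : ℕ) [NeZero n] (f : ℕ → M) :
    ∏ i : ZMod n, f i.val = ∏ i ∈ Finset.range n, f i := by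
  cases n with
  | zero => exact absurd rfl (NeZero.ne 0)
  | succ k => exact Fin.prod_univ_eq_prod_range f (k + 1)

def sh (c : ZMod p → ZMod p) : ZMod p → ZMod p := fun i => c (i - 1)

def Psi (τ : B →* B) (x : B) (c : ZMod p → ZMod p) : B :=
  ∏ i : ZMod p, (τ^[i.val] x) ^ (c i).val

theorem Psi_add (τ : B →* B) (x : B) (hexp : ∀ b : B, b ^ p = 1) (c d : ZMod p → ZMod p) :
    Psi τ x (c + d) = Psi τ x c * Psi τ x d := by
  unfold Psi
  rw [← Finset.prod_mul_distrib]
  apply Finset.prod_congr rfl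
  intro i _
  rw [Pi.add_apply, ZMod.val_add, pow_mod' (hexp _), pow_add]

theorem Psi_zero (τ : B →* B) (x : B) : Psi τ x (0 : ZMod p → ZMod p) = 1 := by
  unfold Psi
  apply Finset.prod_eq_one
  intro i _
  rw [Pi.zero_apply, ZMod.val_zero, pow_zero]

theorem Psi_neg (τ : B →* B) (x : B) (hexp : ∀ b : B, b ^ p = 1) (c : ZMod p → ZMod p) :
    Psi τ x (-c) = (Psi τ x c)⁻¹ := by
  rw [eq_inv_iff_mul_eq_one, ← Psi_add τ x hexp, neg_add_cancel, Psi_zero]

theorem Psi_single (τ : B →* B) (x : B) (j t : ZMod p) :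
    Psi τ x (Pi.single j t) = (τ^[j.val] x) ^ t.val := by
  unfold Psi
  rw [Finset.prod_eq_single j]
  · rw [Pi.single_eq_same]
  · intro i _ hij
    rw [Pi.single_eq_of_ne hij, ZMod.val_zero, pow_zero]
  · intro h; exact absurd (Finset.mem_univ j) h

theorem iter_mod (τ : B →* B) (x : B) (hper : τ^[p] x = x) (n : ℕ) : τ^[n % p] x = τ^[n] x := by
  conv_rhs => rw [← Nat.mod_add_div n p]
  rw [Function.iterate_add_apply, Function.iterate_mul]
  rw [Function.iterate_fixed hper]

theorem Psi_shift (τ : B →* B) (x : B) (hper : τ^[p] x = x) (c : ZMod p → ZMod p) :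
    τ (Psi τ x c) = Psi τ x (sh c) := by
  unfold Psi
  rw [map_prod]
  have h1 : ∀ i : ZMod p, τ ((τ^[i.val] x) ^ (c i).val) = (τ^[(i + 1).val] x) ^ (c i).val := by
    intro i
    rw [map_pow, ← Function.iterate_succ_apply' τ, ZMod.val_add, ZMod.val_one, iter_mod τ x hper]
  rw [Finset.prod_congr rfl (fun i _ => h1 i)]
  apply Fintype.prod_equiv (Equiv.addRight (1 : ZMod p))
  intro i
  simp [sh]

theorem sh_iter (c : ZMod p → ZMod p) (n : ℕ) : sh^[n] c = fun i => c (i - n) := by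
  induction n with
  | zero => funext i; simp
  | succ n ih =>
    rw [Function.iterate_succ_apply', ih]
    funext i
    simp only [sh]
    push_cast
    ring_nf

theorem Psi_shift_iter (τ : B →* B) (x : B) (hper : τ^[p] x = x) (c : ZMod p → ZMod p) (n : ℕ) :
    τ^[n] (Psi τ x c) = Psi τ x (sh^[n] c) := by
  induction n with
  | zero => rfl
  | succ n ih =>
    rw [Function.iterate_succ_apply', Function.iterate_succ_apply', ih, Psi_shift τ x hper]

theorem Psi_const (τ : B →* B) (x : B) (t : ZMod p) :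
    Psi τ x (fun _ => t) = (∏ i ∈ Finset.range p, τ^[i] x) ^ t.val := by
  unfold Psi
  rw [Finset.prod_pow, prod_zmod_val p (fun i => τ^[i] x)]

theorem mem_of_pow_mem {H : Subgroup B} {b : B} (hb : b ^ p = 1) {k : ℕ} (hk : k.Coprime p)
    (h : b ^ k ∈ H) : b ∈ H := by
  have hd : orderOf b ∣ p := orderOf_dvd_of_pow_eq_one hb
  obtain ⟨m, hm⟩ := exists_pow_eq_self_of_coprime (Nat.Coprime.coprime_dvd_right hd hk)
  rw [← hm]
  exact H.pow_mem h m

theorem val_coprime {t : ZMod p} (ht : t ≠ 0) : (t.val).Coprime p := by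
  have hp : p.Prime := Fact.out
  rw [Nat.coprime_comm, Nat.Prime.coprime_iff_not_dvd hp]
  apply Nat.not_dvd_of_pos_of_lt
  · exact Nat.pos_of_ne_zero (fun h => ht ((ZMod.val_eq_zero t).1 h))
  · exact ZMod.val_lt t

theorem Psi_injective [Finite B] (τ : B →* B) (x : B) (hexp : ∀ b : B, b ^ p = 1)
    (hper : τ^[p] x = x) (hN : ∏ i ∈ Finset.range p, τ^[i] x ≠ 1) :
    Function.Injective (Psi (p := p) τ x) := by
  classical
  have hp : p.Prime := Fact.out
  by_contra hinj
  rw [Function.Injective] at hinj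
  push Not at hinj
  obtain ⟨c, d, hcd, hne⟩ := hinj
  let C : AddSubgroup (ZMod p → ZMod p) :=
    { carrier := {c | Psi τ x c = 1}
      zero_mem' := Psi_zero τ x
      add_mem' := by
        intro a b ha hb
        show Psi τ x (a + b) = 1
        rw [Psi_add τ x hexp, ha, hb, mul_one]
      neg_mem' := by
        intro a ha
        show Psi τ x (-a) = 1
        rw [Psi_neg τ x hexp, ha, inv_one] }
  have hmemC : ∀ c, c ∈ C ↔ Psi τ x c = 1 := fun c => Iff.rfl
  have he : c - d ∈ C := by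
    rw [hmemC]
    have := Psi_add τ x hexp (c - d) d
    rw [sub_add_cancel, hcd] at this
    exact mul_right_cancel (b := Psi τ x d) (by rw [one_mul]; exact this.symm)
  have hene : c - d ≠ 0 := sub_ne_zero.2 hne
  -- p ∣ card C
  have hcardV : Nat.card (ZMod p → ZMod p) = p ^ p := by
    rw [Nat.card_eq_fintype_card, Fintype.card_fun, ZMod.card]
  have hdvd : Nat.card C ∣ p ^ p := by
    rw [← hcardV]; exact AddSubgroup.card_addSubgroup_dvd_card C
  obtain ⟨k, -, hk⟩ := (Nat.dvd_prime_pow hp).1 hdvd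
  have hk0 : k ≠ 0 := by
    intro h0
    rw [h0, pow_zero] at hk
    have hsub : Subsingleton C := (Nat.card_eq_one_iff_unique.1 hk).1
    have := Subsingleton.elim (⟨c - d, he⟩ : C) ⟨0, C.zero_mem⟩
    exact hene (congrArg Subtype.val this)
  have hpC : p ∣ Fintype.card C := by
    rw [← Nat.card_eq_fintype_card, hk]
    exact dvd_pow_self p hk0
  -- the shift on C
  let f : Function.End C := fun c => ⟨sh c.1, by
    rw [hmemC, ← Psi_shift τ x hper, (hmemC c.1).1 c.2, map_one]⟩
  have hfi : ∀ (n : ℕ) (c : C), ((f^[n] c : C) : ZMod p → ZMod p) = sh^[n] c.1 := by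
    intro n c
    induction n with
    | zero => rfl
    | succ n ih => rw [Function.iterate_succ_apply', Function.iterate_succ_apply', ← ih]
  have hf : f ^ p ^ 1 = 1 := by
    rw [pow_one]
    funext c
    apply Subtype.ext
    show ((f^[p] c : C) : ZMod p → ZMod p) = c.1
    rw [hfi, sh_iter]
    funext i
    simp
  have hmod := Equiv.Perm.card_fixedPoints_modEq (p := p) (n := 1) hf
  have hpF : p ∣ Fintype.card (Function.fixedPoints f) := (Nat.ModEq.dvd_iff hmod (dvd_refl p)).1 hpC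
  have h0fix : (⟨0, C.zero_mem⟩ : C) ∈ Function.fixedPoints f := by
    show f ⟨0, C.zero_mem⟩ = ⟨0, C.zero_mem⟩
    apply Subtype.ext
    funext i
    rfl
  have hcard1 : 1 < Fintype.card (Function.fixedPoints f) := by
    have hpos : 0 < Fintype.card (Function.fixedPoints f) := Fintype.card_pos_iff.2 ⟨⟨_, h0fix⟩⟩
    have := Nat.le_of_dvd hpos hpF
    exact lt_of_lt_of_le hp.one_lt this
  obtain ⟨⟨e, hefix⟩, hene'⟩ := Fintype.exists_ne_of_one_lt_card hcard1 ⟨_, h0fix⟩
  have hfix : sh e.1 = e.1 := congrArg Subtype.val hefix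
  have hconst : ∀ n : ℕ, e.1 (n : ZMod p) = e.1 0 := by
    intro n
    induction n with
    | zero => simp
    | succ n ih =>
      have h1 : e.1 (((n + 1 : ℕ) : ZMod p) - 1) = e.1 ((n + 1 : ℕ) : ZMod p) := congrFun hfix _
      have h2 : ((n + 1 : ℕ) : ZMod p) - 1 = (n : ZMod p) := by push_cast; ring
      rw [h2] at h1
      rw [← h1, ih]
  have hconst' : e.1 = fun _ => e.1 0 := by
    funext i
    rw [← ZMod.natCast_zmod_val i]
    exact hconst _
  have ht : e.1 0 ≠ 0 := by
    intro h0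
    apply hene'
    apply Subtype.ext
    apply Subtype.ext
    show e.1 = 0
    rw [hconst', h0]
    rfl
  have hP1 : Psi τ x e.1 = 1 := (hmemC _).1 e.2
  rw [hconst', Psi_const] at hP1
  apply hN
  have hNp := hexp (∏ i ∈ Finset.range p, τ^[i] x)
  have h1 : orderOf (∏ i ∈ Finset.range p, τ^[i] x) ∣ (e.1 0).val := orderOf_dvd_of_pow_eq_one hP1
  have h2 : orderOf (∏ i ∈ Finset.range p, τ^[i] x) ∣ p := orderOf_dvd_of_pow_eq_one hNp
  have h3 : orderOf (∏ i ∈ Finset.range p, τ^[i] x) = 1 :=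
    Nat.eq_one_of_dvd_coprimes (val_coprime ht) h1 h2
  exact orderOf_eq_one_iff.1 h3


theorem exists_hyperplane [Finite B] (hexp : ∀ b : B, b ^ p = 1) (U' : Subgroup B) (x₀ : B)
    (hx₀ : x₀ ∉ U') : ∃ H' : Subgroup B, U' ≤ H' ∧ x₀ ∉ H' ∧ H'.index = p := by
  classical
  have hp : p.Prime := Fact.out
  let S : Set (Subgroup B) := {H | U' ≤ H ∧ x₀ ∉ H}
  have hSfin : S.Finite := Set.toFinite S
  obtain ⟨H', hle, hmax⟩ := hSfin.exists_le_maximal (show U' ∈ S from ⟨le_refl _, hx₀⟩)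
  have hH'S : H' ∈ S := hmax.prop
  refine ⟨H', hH'S.1, hH'S.2, ?_⟩
  set Z : Subgroup B := Subgroup.zpowers x₀ with hZ
  have hx₀Z : x₀ ∈ Z := Subgroup.mem_zpowers x₀
  have htop : Z ⊔ H' = ⊤ := by
    rw [eq_top_iff]
    intro b _
    by_cases hb : b ∈ H'
    · exact (le_sup_right : H' ≤ Z ⊔ H') hb
    · have hbig : H' ⊔ Subgroup.zpowers b ∉ S := by
        intro hin
        have := hmax.le_of_ge hin le_sup_left
        exact hb (this ((le_sup_right : Subgroup.zpowers b ≤ _) (Subgroup.mem_zpowers b)))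
      have hx₀in : x₀ ∈ H' ⊔ Subgroup.zpowers b := by
        by_contra hnot
        exact hbig ⟨hH'S.1.trans le_sup_left, hnot⟩
      obtain ⟨h, hh, z, hz, hhz⟩ := Subgroup.mem_sup.1 hx₀in
      obtain ⟨k, hk⟩ := (Submonoid.mem_powers_iff _ _).1 (mem_powers_iff_mem_zpowers.2 hz)
      have hnd : ¬ p ∣ k := by
        rintro ⟨m, rfl⟩
        rw [pow_mul, hexp, one_pow] at hk
        rw [← hk, mul_one] at hhz
        rw [hhz] at hh
        exact hH'S.2 hh
      have hcop : k.Coprime p := ((Nat.Prime.coprime_iff_not_dvd hp).2 hnd).symm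
      have hbk : b ^ k ∈ Z ⊔ H' := by
        have e : b ^ k = x₀ * h⁻¹ := by rw [hk, ← hhz, mul_comm h z, mul_inv_cancel_right]
        rw [e]
        exact Subgroup.mul_mem _ ((le_sup_left : Z ≤ Z ⊔ H') hx₀Z)
          ((le_sup_right : H' ≤ Z ⊔ H') (H'.inv_mem hh))
      exact mem_of_pow_mem (hexp b) hcop hbk
  have hx₀1 : x₀ ≠ 1 := fun h => hx₀ (h ▸ U'.one_mem)
  have hdisj : Disjoint Z H' := by
    rw [Subgroup.disjoint_def]
    intro w hwZ hwH
    by_contra hw1
    obtain ⟨k, hk⟩ := (Submonoid.mem_powers_iff _ _).1 (mem_powers_iff_mem_zpowers.2 hwZ)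
    have hnd : ¬ p ∣ k := by
      rintro ⟨m, rfl⟩
      rw [pow_mul, hexp, one_pow] at hk
      exact hw1 hk.symm
    have hcop : k.Coprime p := ((Nat.Prime.coprime_iff_not_dvd hp).2 hnd).symm
    rw [← hk] at hwH
    exact hH'S.2 (mem_of_pow_mem (hexp x₀) hcop hwH)
  have hcompl : Subgroup.IsComplement' Z H' := by
    apply Subgroup.isComplement'_of_disjoint_and_mul_eq_univ hdisj
    rw [← Subgroup.mul_normal, htop]
    rfl
  rw [hcompl.index_eq_card, hZ, Nat.card_zpowers]
  exact orderOf_eq_prime (hexp x₀) hx₀1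

theorem key_zero (τ : B →* B) (x : B) (hexp : ∀ b : B, b ^ p = 1)
    (H' : Subgroup B) (hU : ∀ c : ZMod p → ZMod p, c 0 = 0 → Psi τ x c ∈ H') (hx : x ∉ H')
    (e : ZMod p → ZMod p) (he : ∀ j : ℕ, Psi τ x (sh^[j] e) ∈ H') : e = 0 := by
  funext i₀
  by_contra hne
  have hne' : e i₀ ≠ 0 := hne
  set e' := sh^[(-i₀).val] e with he'
  have he'0 : e' 0 = e i₀ := by
    rw [he', sh_iter]
    show e (0 - (((-i₀).val : ℕ) : ZMod p)) = e i₀
    rw [ZMod.natCast_zmod_val, zero_sub, neg_neg]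
  set e'' := e' - Pi.single 0 (e' 0) with he''
  have he''0 : e'' 0 = 0 := by
    rw [he'', Pi.sub_apply, Pi.single_eq_same, sub_self]
  have hsum : Pi.single 0 (e' 0) + e'' = e' := by rw [he'']; abel
  have h1 : Psi τ x e' = x ^ (e' 0).val * Psi τ x e'' := by
    rw [← hsum, Psi_add τ x hexp, Psi_single, hsum, ZMod.val_zero, Function.iterate_zero, id]
  have h2 : x ^ (e' 0).val ∈ H' := by
    have e3 : x ^ (e' 0).val = Psi τ x e' * (Psi τ x e'')⁻¹ := by rw [h1]; group
    rw [e3]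
    exact H'.mul_mem (he _) (H'.inv_mem (hU e'' he''0))
  rw [he'0] at h2
  exact hx (mem_of_pow_mem (hexp x) (val_coprime hne') h2)

end IND

/-- Let P be a finite p-group with a normal elementary abelian subgroup A of index p, and let x ∈ A and y ∈ P with y outside A. If the product of the p conjugates y^(-i) x y^i (i = 0, …, p−1) is not the identity, then the wreath product Z_p ≀ Z_p, realised as a Sylow p-subgroup of the symmetric group of degree p², is a homomorphic image of P. -/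
theorem result {P : Type*} [Group P] [Finite P] {p : ℕ} [Fact p.Prime] (hP : IsPGroup p P) (A : Subgroup P) [A.Normal]
    (hA : Cfsg.IsElementaryAbelian p A) (hidx : A.index = p) (x y : P) (hx : x ∈ A) (hy : y ∉ A)
    (hprod : ((List.range p).map (fun i => (y ^ i)⁻¹ * x * y ^ i)).prod ≠ 1) :
    ∃ (Q : Sylow p (Equiv.Perm (Fin (p ^ 2)))) (f : P →* ↥(Q : Subgroup (Equiv.Perm (Fin (p ^ 2))))), Function.Surjective f := by
  classical
  have hp : p.Prime := Fact.out
  haveI hAc : IsMulCommutative A := hA.1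
  have hcomm : ∀ a ∈ A, ∀ b ∈ A, a * b = b * a := fun a ha b hb =>
    congrArg Subtype.val (hA.1.is_comm.comm ⟨a, ha⟩ ⟨b, hb⟩)
  let τ : A →* A := (MulAut.conjNormal (y⁻¹) : MulAut A).toMonoidHom
  let x' : A := ⟨x, hx⟩
  have hτ : ∀ a : A, ((τ a : A) : P) = y⁻¹ * a * y := by
    intro a
    show ((MulAut.conjNormal y⁻¹ a : A) : P) = _
    rw [MulAut.conjNormal_apply, inv_inv]
  have hτi : ∀ (i : ℕ) (a : A), ((τ^[i] a : A) : P) = (y ^ i)⁻¹ * a * y ^ i := by
    intro i a
    induction i with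
    | zero => simp
    | succ i ih =>
      rw [Function.iterate_succ_apply', hτ, ih, pow_succ]
      generalize y ^ i = q
      group
  have hexp : ∀ b : A, b ^ p = 1 := fun b => Subtype.ext (by simpa using hA.2 b b.2)
  have hyp : y ^ p ∈ A := by
    have := Subgroup.pow_index_mem A y
    rwa [hidx] at this
  have hper : τ^[p] x' = x' := by
    apply Subtype.ext
    rw [hτi]
    show (y ^ p)⁻¹ * x * y ^ p = x
    rw [mul_assoc, hcomm x hx _ hyp, ← mul_assoc, inv_mul_cancel, one_mul]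
  have e1 : ∀ n : ℕ, ((∏ i ∈ Finset.range n, τ^[i] x' : A) : P) =
      ((List.range n).map (fun i => (y ^ i)⁻¹ * x * y ^ i)).prod := by
    intro n
    induction n with
    | zero => simp
    | succ n ih =>
      rw [Finset.prod_range_succ, List.range_succ, List.map_append, List.prod_append,
        Subgroup.coe_mul, ih, hτi]
      simp
      rfl
  have hN : ∏ i ∈ Finset.range p, τ^[i] x' ≠ 1 := by
    intro h
    apply hprod
    rw [← e1, h]
    rfl
  have hinj := Psi_injective τ x' hexp hper hN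
  let U' : Subgroup A :=
    { carrier := {b | ∃ c : ZMod p → ZMod p, c 0 = 0 ∧ Psi τ x' c = b}
      one_mem' := ⟨(0 : ZMod p → ZMod p), rfl, Psi_zero τ x'⟩
      mul_mem' := by
        rintro _ _ ⟨c, hc, rfl⟩ ⟨d, hd, rfl⟩
        exact ⟨c + d, by rw [Pi.add_apply, hc, hd, add_zero], Psi_add τ x' hexp c d⟩
      inv_mem' := by
        rintro _ ⟨c, hc, rfl⟩
        exact ⟨-c, by rw [Pi.neg_apply, hc, neg_zero], Psi_neg τ x' hexp c⟩ }
  have hx0 : x' ∉ U' := by
    rintro ⟨c, hc, hcx⟩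
    have h1 : Psi τ x' (Pi.single (0 : ZMod p) (1 : ZMod p)) = x' := by
      rw [Psi_single, ZMod.val_zero, ZMod.val_one, pow_one, Function.iterate_zero, id]
    have h2 : c = Pi.single (0 : ZMod p) (1 : ZMod p) := hinj (hcx.trans h1.symm)
    rw [h2, Pi.single_eq_same] at hc
    exact one_ne_zero hc
  obtain ⟨H', hUH, hxH, hHidx⟩ := exists_hyperplane hexp U' x' hx0
  have hkey := key_zero τ x' hexp H' (fun c hc => hUH ⟨c, hc, rfl⟩) hxH
  set H : Subgroup P := H'.map A.subtype with hH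
  have hHA : H ≤ A := by
    rintro _ ⟨a, _, rfl⟩
    exact a.2
  have hHidx2 : H.index = p ^ 2 := by
    rw [hH, Subgroup.index_map_subtype, hHidx, hidx, pow_two]
  set K : Subgroup P := H.normalCore with hK
  have hKH : K ≤ H := Subgroup.normalCore_le H
  have hKn : K.Normal := Subgroup.normalCore_normal H
  have hmemH : ∀ a : A, (a : P) ∈ H → a ∈ H' := by
    rintro a ⟨a', ha', haa⟩
    have : a' = a := Subtype.ext haa
    rwa [← this]
  have hcount : p ^ p * Nat.card K ≤ Nat.card A := by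
    let F : (ZMod p → ZMod p) × K → A := fun ck =>
      Psi τ x' ck.1 * ⟨ck.2.1, hHA (hKH ck.2.2)⟩
    have hF : Function.Injective F := by
      rintro ⟨c, k⟩ ⟨d, k'⟩ hEq
      have hEq' : Psi τ x' c * (⟨k.1, hHA (hKH k.2)⟩ : A) =
          Psi τ x' d * (⟨k'.1, hHA (hKH k'.2)⟩ : A) := hEq
      have he : Psi τ x' (c - d) = (⟨k'.1, hHA (hKH k'.2)⟩ : A) * (⟨k.1, hHA (hKH k.2)⟩ : A)⁻¹ := by
        rw [sub_eq_add_neg, Psi_add τ x' hexp, Psi_neg τ x' hexp]
        have hc : Psi τ x' c = Psi τ x' d * (⟨k'.1, hHA (hKH k'.2)⟩ : A) *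
            (⟨k.1, hHA (hKH k.2)⟩ : A)⁻¹ := by
          rw [← hEq']; group
        rw [hc]
        calc Psi τ x' d * (⟨k'.1, hHA (hKH k'.2)⟩ : A) * (⟨k.1, hHA (hKH k.2)⟩ : A)⁻¹ *
              (Psi τ x' d)⁻¹
            = (Psi τ x' d)⁻¹ * (Psi τ x' d * (⟨k'.1, hHA (hKH k'.2)⟩ : A) *
              (⟨k.1, hHA (hKH k.2)⟩ : A)⁻¹) := mul_comm _ _
          _ = (⟨k'.1, hHA (hKH k'.2)⟩ : A) * (⟨k.1, hHA (hKH k.2)⟩ : A)⁻¹ := by group
      have heK : ((Psi τ x' (c - d) : A) : P) ∈ K := by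
        rw [he]
        exact K.mul_mem k'.2 (K.inv_mem k.2)
      have hcd : c - d = 0 := by
        apply hkey
        intro j
        apply hmemH
        rw [← Psi_shift_iter τ x' hper, hτi]
        apply hKH
        have := hKn.conj_mem _ heK ((y ^ j)⁻¹)
        rwa [inv_inv] at this
      have hcd' : c = d := sub_eq_zero.1 hcd
      subst hcd'
      have hk : (⟨k.1, hHA (hKH k.2)⟩ : A) = ⟨k'.1, hHA (hKH k'.2)⟩ := mul_left_cancel hEq'
      have hk' : k.1 = k'.1 := congrArg (fun a : A => (a : P)) hk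
      rw [Prod.mk.injEq]
      exact ⟨rfl, Subtype.ext hk'⟩
    have := Nat.card_le_card_of_injective F hF
    rwa [Nat.card_prod, Nat.card_eq_fintype_card (α := ZMod p → ZMod p), Fintype.card_fun,
      ZMod.card] at this
  have hPcard : Nat.card P = p * Nat.card A := by
    rw [← hidx, mul_comm]
    exact (Subgroup.card_mul_index A).symm
  have hKpos : 0 < Nat.card K := Nat.card_pos
  have hKidx : p ^ (p + 1) ≤ K.index := by
    have h1 : K.index * Nat.card K = Nat.card P := Subgroup.index_mul_card K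
    apply Nat.le_of_mul_le_mul_right _ hKpos
    rw [h1, hPcard, pow_succ, mul_comm (p ^ p) p, mul_assoc]
    exact Nat.mul_le_mul_left p hcount
  have hcardq : Nat.card (P ⧸ H) = p ^ 2 := hHidx2
  let e : (P ⧸ H) ≃ Fin (p ^ 2) := Finite.equivFinOfCardEq hcardq
  let φ : P →* Equiv.Perm (Fin (p ^ 2)) :=
    (e.permCongrHom).toMonoidHom.comp (MulAction.toPermHom P (P ⧸ H))
  have hker : φ.ker = K := by
    rw [hK, Subgroup.normalCore_eq_ker]
    ext g
    rw [MonoidHom.mem_ker, MonoidHom.mem_ker]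
    show e.permCongrHom (MulAction.toPermHom P (P ⧸ H) g) = 1 ↔ _
    rw [map_eq_one_iff _ e.permCongrHom.injective]
  have hrange_card : Nat.card φ.range = K.index := by
    rw [← hker]
    exact (Subgroup.index_ker φ).symm
  have hrange_p : IsPGroup p φ.range := hP.of_surjective φ.rangeRestrict φ.rangeRestrict_surjective
  obtain ⟨Q, hQ⟩ := hrange_p.exists_le_sylow
  have hQcard : Nat.card Q = p ^ (p + 1) := by
    rw [Sylow.card_eq_multiplicity, Nat.card_perm, Nat.card_fin, Nat.factorization_def _ hp,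
      pow_two, padicValNat_factorial_mul]
    have : padicValNat p (Nat.factorial p) = 1 := by
      have h := padicValNat_factorial_mul (p := p) 1
      rw [mul_one] at h
      rw [h]
      simp
    rw [this, add_comm]
  have hEq : φ.range = Q :=
    Subgroup.eq_of_le_of_card_ge hQ (by rw [hQcard, hrange_card]; exact hKidx)
  refine ⟨Q, φ.codRestrict Q (fun g => hQ ⟨g, rfl⟩), ?_⟩
  rintro ⟨q, hq⟩
  have hq' : q ∈ φ.range := by rw [hEq]; exact hq
  obtain ⟨g, hg⟩ := hq'
  exact ⟨g, Subtype.ext hg⟩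

end Cfsg.Agent.S1952
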