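import Cfsg.Statements.S1966
import Cfsg.Agent.Lib.Helper4.Cores

set_option autoImplicit false
open Cfsg

namespace Cfsg.Agent.S1966

/-- Let p be a prime, G a finite group with Sylow p-subgroup S and 𝓕 a conjugation family for S in G. Then the members of 𝓕 containing O_p(G) still form a conjugation family for S in G. -/
theorem result {G : Type*} [Group G] [Finite G] {p : ℕ} [Fact p.Prime] (S : Sylow p G) (𝓕 : Set (Subgroup G)) (h : Cfsg.IsConjugationFamily 𝓕 (S : Subgroup G)) : Cfsg.IsConjugationFamily {T : Subgroup G | T ∈ 𝓕 ∧ Cfsg.pCore p G ≤ T} (S : Subgroup G) := by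
  obtain ⟨h1, h2⟩ := h
  have hN : (Cfsg.pCore p G).Normal := Lib.Helper4.pCore_normal p
  have hS : Cfsg.pCore p G ≤ (S : Subgroup G) := Lib.Helper4.pCore_le_sylow S
  refine ⟨fun T hT => h1 T hT.1, ?_⟩
  intro A g hAne hAS hAg
  have hA' : (A ∪ (Cfsg.pCore p G : Set G)) ⊆ ((S : Subgroup G) : Set G) := by
    intro a ha
    rcases ha with ha | ha
    · exact hAS ha
    · exact hS ha
  have hAg' : (fun a => g⁻¹ * a * g) '' (A ∪ (Cfsg.pCore p G : Set G)) ⊆ ((S : Subgroup G) : Set G) := by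
    rintro _ ⟨a, ha, rfl⟩
    rcases ha with ha | ha
    · exact hAg ⟨a, ha, rfl⟩
    · apply hS
      have := hN.conj_mem a ha g⁻¹
      simpa using this
  obtain ⟨n, T, x, hx, hT, hxT, h0, hi⟩ := h2 (A ∪ (Cfsg.pCore p G : Set G)) g
    (hAne.mono Set.subset_union_left) hA' hAg'
  refine ⟨n, T, x, hx, ?_, hxT, ?_, ?_⟩
  · intro i
    refine ⟨hT i, ?_⟩
    rcases Nat.eq_zero_or_pos i.val with hi0 | hipos
    · have hn : 0 < n := by have := i.isLt; omega
      have : i = ⟨0, hn⟩ := Fin.ext hi0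
      rw [this]
      intro a ha
      exact h0 hn (Or.inr ha)
    · obtain ⟨j, hj⟩ : ∃ j, i.val = j + 1 := ⟨i.val - 1, by omega⟩
      have hjn : j < n := by have := i.isLt; omega
      have hjn1 : (⟨j, hjn⟩ : Fin n).val + 1 < n := by have := i.isLt; simp; omega
      have hsub := hi ⟨j, hjn⟩ hjn1
      have hieq : i = ⟨(⟨j, hjn⟩ : Fin n).val + 1, hjn1⟩ := Fin.ext (by simp [hj])
      rw [hieq]
      intro a ha
      apply hsub
      set c := ((List.ofFn x).take ((⟨j, hjn⟩ : Fin n).val + 1)).prod with hc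
      refine ⟨c * a * c⁻¹, Or.inr (hN.conj_mem a ha c), ?_⟩
      simp only
      group
  · intro hn a ha
    exact h0 hn (Or.inl ha)
  · intro i hi' 
    refine subset_trans ?_ (hi i hi')
    exact Set.image_mono Set.subset_union_left

end Cfsg.Agent.S1966
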