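import Cfsg.Statements.S1967

set_option autoImplicit false
open Cfsg

namespace Cfsg.Agent.S1967

theorem normalizer_map_conj {G : Type*} [Group G] (K : Subgroup G) (y x : G)
    (hx : x ∈ Subgroup.normalizer ((K.map (MulAut.conj y).toMonoidHom : Subgroup G) : Set G)) :
    y⁻¹ * x * y ∈ Subgroup.normalizer (K : Set G) := by
  rw [Subgroup.mem_normalizer_iff] at hx ⊢
  intro k
  have h1 := hx (y * k * y⁻¹)
  have e1 : ∀ z : G, z ∈ (K.map (MulAut.conj y).toMonoidHom : Subgroup G) ↔ y⁻¹ * z * y ∈ K := by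
    intro z
    constructor
    · rintro ⟨k', hk', rfl⟩
      simpa [MulAut.conj_apply, mul_assoc] using hk'
    · intro hz
      refine ⟨y⁻¹ * z * y, hz, ?_⟩
      simp [MulAut.conj_apply, mul_assoc]
  rw [e1, e1] at h1
  have h2 : y⁻¹ * (y * k * y⁻¹) * y = k := by group
  have h3 : y⁻¹ * (x * (y * k * y⁻¹) * x⁻¹) * y = y⁻¹ * x * y * k * (y⁻¹ * x * y)⁻¹ := by group
  rw [h2, h3] at h1
  exact h1

/-- Let p be a prime, G a finite group with Sylow p-subgroup S and W a conjugacy functor for p on G. Then W controls strong fusion in G if and only if, whenever T ≤ S and g ∈ G satisfy gTg⁻¹ ≤ S, one can write g = n c with n ∈ N_G(W(S)) and c ∈ C_G(T). -/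
theorem result {G : Type*} [Group G] [Finite G] {p : ℕ} [Fact p.Prime] (S : Sylow p G) (W : Subgroup G → Subgroup G) (hW : Cfsg.IsConjugacyFunctor p W) : Cfsg.ControlsStrongFusionIn p W ⊤ ↔ ∀ (T : Subgroup G) (g : G), T ≤ (S : Subgroup G) → T.map (MulAut.conj g).toMonoidHom ≤ (S : Subgroup G) → ∃ n ∈ Subgroup.normalizer ((W (S : Subgroup G) : Subgroup G) : Set G), ∃ c ∈ Subgroup.centralizer (T : Set G), g = n * c := by
  constructor
  · rintro ⟨T₀, -, hT₀p, hT₀i, hfus⟩ T g hTS hgTS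
    rw [Subgroup.relIndex_top_right] at hT₀i
    let P₀ : Sylow p G := hT₀p.toSylow hT₀i
    obtain ⟨y, hy⟩ := MulAction.exists_smul_eq G S P₀
    have hT₀eq : T₀ = (S : Subgroup G).map (MulAut.conj y).toMonoidHom := by
      have : (P₀ : Subgroup G) = T₀ := rfl
      rw [← this, ← hy]
      ext z
      rw [Sylow.coe_subgroup_smul, Subgroup.mem_pointwise_smul_iff_inv_smul_mem]
      constructor
      · intro hz
        refine ⟨_, hz, ?_⟩
        simp [MulAut.smul_def, MulAut.conj_apply, mul_assoc]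
      · rintro ⟨s, hs, rfl⟩
        have hs' : s ∈ (S : Subgroup G) := hs
        simpa [MulAut.smul_def, MulAut.conj_apply, mul_assoc] using hs'
    have hmemT₀ : ∀ s ∈ (S : Subgroup G), y * s * y⁻¹ ∈ T₀ := by
      intro s hs
      rw [hT₀eq]
      exact ⟨s, hs, by simp [MulAut.conj_apply]⟩
    obtain ⟨x, hx, hxa⟩ := hfus ((fun a => y * a * y⁻¹) '' (T : Set G)) (y * g * y⁻¹) (Subgroup.mem_top _)
      (by
        rintro _ ⟨t, ht, rfl⟩
        exact hmemT₀ t (hTS ht))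
      (by
        rintro _ ⟨_, ⟨t, ht, rfl⟩, rfl⟩
        have : g * t * g⁻¹ ∈ (S : Subgroup G) := hgTS ⟨t, ht, by simp [MulAut.conj_apply]⟩
        have h2 := hmemT₀ _ this
        have e : y * g * y⁻¹ * (y * t * y⁻¹) * (y * g * y⁻¹)⁻¹ = y * (g * t * g⁻¹) * y⁻¹ := by group
        show y * g * y⁻¹ * (y * t * y⁻¹) * (y * g * y⁻¹)⁻¹ ∈ T₀
        rw [e]; exact h2)
    have hx2 : x ∈ Subgroup.normalizer ((W T₀ : Subgroup G) : Set G) := hx.2
    rw [hT₀eq, (hW _ S.2).2.2 y] at hx2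
    have hn := normalizer_map_conj _ y x hx2
    refine ⟨y⁻¹ * x * y, hn, (y⁻¹ * x * y)⁻¹ * g, ?_, by group⟩
    rw [Subgroup.mem_centralizer_iff]
    intro t ht
    have h3 := hxa (y * t * y⁻¹) ⟨t, ht, rfl⟩
    have h4 : (y⁻¹ * x * y) * t * (y⁻¹ * x * y)⁻¹ = g * t * g⁻¹ := by
      have : (y⁻¹ * x * y) * t * (y⁻¹ * x * y)⁻¹ = y⁻¹ * (x * (y * t * y⁻¹) * x⁻¹) * y := by group
      rw [this, h3]; group
    have h5 : (y⁻¹ * x * y) * t = g * t * g⁻¹ * (y⁻¹ * x * y) := by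
      rw [← h4]; group
    calc t * ((y⁻¹ * x * y)⁻¹ * g) = (y⁻¹ * x * y)⁻¹ * ((y⁻¹ * x * y) * t) * ((y⁻¹ * x * y)⁻¹ * g) := by group
      _ = (y⁻¹ * x * y)⁻¹ * (g * t * g⁻¹ * (y⁻¹ * x * y)) * ((y⁻¹ * x * y)⁻¹ * g) := by rw [h5]
      _ = (y⁻¹ * x * y)⁻¹ * g * t := by group
  · intro h
    refine ⟨S, le_top, S.2, ?_, ?_⟩
    · rw [Subgroup.relIndex_top_right]
      exact S.not_dvd_index
    · intro A g _ hAS hgA
      have hcl : Subgroup.closure A ≤ (S : Subgroup G) := (Subgroup.closure_le _).2 hAS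
      have hmap : (Subgroup.closure A).map (MulAut.conj g).toMonoidHom ≤ (S : Subgroup G) := by
        rw [MonoidHom.map_closure, Subgroup.closure_le]
        rintro _ ⟨a, ha, rfl⟩
        have := hgA ⟨a, ha, rfl⟩
        simpa [MulAut.conj_apply] using this
      obtain ⟨n, hn, c, hc, rfl⟩ := h _ g hcl hmap
      refine ⟨n, ⟨Subgroup.mem_top _, hn⟩, ?_⟩
      intro a ha
      rw [Subgroup.mem_centralizer_iff] at hc
      have := hc a (Subgroup.subset_closure ha)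
      calc n * a * n⁻¹ = n * (a * c) * c⁻¹ * n⁻¹ := by group
        _ = n * (c * a) * c⁻¹ * n⁻¹ := by rw [this]
        _ = n * c * a * (n * c)⁻¹ := by group

end Cfsg.Agent.S1967
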