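import Mathlib
import Cfsg.Statements.S1969
import Cfsg.Agent.Lib.Helper3.SecFusion6
import Cfsg.Agent.Lib.Helper3.S4Section

set_option autoImplicit false
set_option linter.style.haveILetI false
open Cfsg
open Cfsg.Agent.Lib.Helper3
open scoped commutatorElement

universe u
namespace Cfsg.Agent.S1969

/-- Let p be a prime, G a finite group and W an isomorphism-invariant p-group functor (W assigns to every group Q a subgroup W(Q), nontrivial whenever Q is a nontrivial finite p-group, and every isomorphism from a finite p-group Q onto a group R carries W(Q) onto W(R)). Suppose that W(S*) is normal in G* whenever G* = K/R is a section of G with C_{G*}(O_p(G*)) ≤ O_p(G*) and S* is a Sylow p-subgroup of G*. Then W controls strong fusion in every section of G: for every section K/R and every Sylow p-subgroup T of K/R, the subgroup W(T) controls strong fusion in K/R. -/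
theorem result {G : Type u} [Group G] [Finite G] {p : ℕ} [Fact p.Prime] (W : ∀ (Q : Type u) [Group Q], Subgroup Q) (hW : Cfsg.IsCharPFunctor.{u} p W) (hloc : ∀ (K R : Subgroup G) [hR : (R.subgroupOf K).Normal], Subgroup.centralizer ((Cfsg.pCore p (↥K ⧸ R.subgroupOf K) : Subgroup (↥K ⧸ R.subgroupOf K)) : Set (↥K ⧸ R.subgroupOf K)) ≤ Cfsg.pCore p (↥K ⧸ R.subgroupOf K) → ∀ T : Sylow p (↥K ⧸ R.subgroupOf K), (Cfsg.inducedFunctor (G := (↥K ⧸ R.subgroupOf K)) W ((T : Subgroup (↥K ⧸ R.subgroupOf K)))).Normal) : ∀ (K R : Subgroup G) [hR : (R.subgroupOf K).Normal], ∀ T : Sylow p (↥K ⧸ R.subgroupOf K), Cfsg.ControlsStrongFusion p (Cfsg.inducedFunctor (G := (↥K ⧸ R.subgroupOf K)) W ((T : Subgroup (↥K ⧸ R.subgroupOf K)))) := by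
  intro K R hR T
  have h𝓦 : ∀ W' ∈ ({W} : Set (∀ (Q : Type u) [Group Q], Subgroup Q)),
      Cfsg.IsCharPFunctor.{u} p W' := by
    intro W' hW'
    rw [Set.mem_singleton_iff] at hW'
    subst hW'
    exact hW
  have hyp : SecHyp p {W} (↥K ⧸ R.subgroupOf K) := by
    intro Y _ _ hYG hY
    have hYG' : Cfsg.Involves Y G :=
      involves_trans hYG ⟨K, R, hR, ⟨MulEquiv.refl _⟩⟩
    obtain ⟨K', R', hn, ⟨e⟩⟩ := hYG'
    haveI := hn
    have hcp := charp_congr_equiv (p := p) e.symm hY
    obtain ⟨T'⟩ : Nonempty (Sylow p (↥K' ⧸ R'.subgroupOf K')) := inferInstance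
    exact ctl_of_equiv h𝓦 e (ctl_of_normal T' (hloc K' R' hcp T'))
  have hc : Ctl p {W} (↥K ⧸ R.subgroupOf K) :=
    sec_main h𝓦 (Nat.card (↥K ⧸ R.subgroupOf K)) _ rfl hyp
  refine ⟨T, wf_le _, fun A hA => ⟨hA, fun g hg => ?_⟩⟩
  obtain ⟨c, hc1, hc2⟩ := good_of_ctl h𝓦 hc T A g hA hg
  exact ⟨c, reach_mem_normalizer hc1, fun a ha => (hc2 a ha).symm⟩

end Cfsg.Agent.S1969
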