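import Cfsg.Statements.S1978
import Cfsg.Agent.Lib.Helper4.KSelfCent
import Cfsg.Agent.Lib.Helper4.KSeq

set_option autoImplicit false
open Cfsg

namespace Cfsg.Agent.S1978

open Cfsg.Agent.Lib.Helper4

theorem bot_mem_classTwo {P : Type*} [Group P] : (⊥ : Subgroup P) ∈ Cfsg.classTwoSubgroups P := by
  show ⁅(⊥ : Subgroup P), (⊥ : Subgroup P)⁆ ≤ Subgroup.centralizer (((⊥ : Subgroup P)) : Set P)
  rw [Subgroup.commutator_bot_left]; exact bot_le

theorem bot_mem_lower {P : Type*} [Group P] (Q : Subgroup P) : (⊥ : Subgroup P) ∈ Cfsg.kLowerStarFamily Q := by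
  refine ⟨bot_mem_classTwo, ?_, ?_⟩
  · rw [Subgroup.le_normalizer_iff]
    intro q _ k hk
    rw [Subgroup.mem_bot] at hk ⊢
    rw [hk]; group
  · intro A _ _ _ _ _
    rw [Subgroup.commutator_bot_left]; exact bot_le

theorem bot_mem_upper {P : Type*} [Group P] (Q : Subgroup P) : (⊥ : Subgroup P) ∈ Cfsg.kUpperStarFamily Q := by
  refine ⟨bot_mem_classTwo, ?_⟩
  rw [Subgroup.commutator_bot_left]; exact bot_le

theorem exists_max_mem {P : Type*} [Group P] [Finite P] (𝒦 : Set (Subgroup P)) (hne : 𝒦.Nonempty) :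
    ∃ B ∈ 𝒦, ∀ C ∈ 𝒦, B ≤ C → C = B := by
  obtain ⟨m, hm⟩ := Set.Finite.exists_maximal (Set.toFinite 𝒦) hne
  exact ⟨m, hm.1, fun C hC hle => le_antisymm (hm.2 hC hle) hle⟩

/-- Let P be a finite p-group. Each of the two K-infinity subgroups of P contains its own centralizer in P, which in turn contains Z(P); in particular both are nontrivial when P is. -/
theorem result {P : Type*} [Group P] [Finite P] {p : ℕ} [Fact p.Prime] (hP : IsPGroup p P) : Subgroup.centralizer (Cfsg.kInfLower P : Set P) ≤ Cfsg.kInfLower P ∧ Subgroup.center P ≤ Subgroup.centralizer (Cfsg.kInfLower P : Set P) ∧ Subgroup.centralizer (Cfsg.kInfUpper P : Set P) ≤ Cfsg.kInfUpper P ∧ Subgroup.center P ≤ Subgroup.centralizer (Cfsg.kInfUpper P : Set P) := by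
  refine ⟨?_, Subgroup.center_le_centralizer _, ?_, Subgroup.center_le_centralizer _⟩
  · obtain ⟨B, hB, hmax⟩ := exists_max_mem (Cfsg.kLowerStarFamily (Cfsg.kSeqOdd P 0)) ⟨⊥, bot_mem_lower _⟩
    have h1 := lower_selfcent hP _ B hB hmax
    have h2 : B ≤ Cfsg.kInfLower P := (le_sSup hB).trans (le_iSup (Cfsg.kSeqEven P) 0)
    exact (Subgroup.centralizer_le (by exact_mod_cast h2)).trans (h1.trans h2)
  · obtain ⟨n, hn⟩ := kSeq_eventually_const (P := P)
    have hU : Cfsg.kSeqOdd P (n + 1) = Cfsg.kInfUpper P := (hn (n + 1) (Nat.le_succ n)).2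
    obtain ⟨B, hB, hmax⟩ := exists_max_mem (Cfsg.kUpperStarFamily (Cfsg.kSeqEven P n)) ⟨⊥, bot_mem_upper _⟩
    have h1 := upper_selfcent hP _ B hB hmax
    have h2 : B ≤ Cfsg.kInfUpper P := by
      rw [← hU]
      exact le_sSup hB
    exact (Subgroup.centralizer_le (by exact_mod_cast h2)).trans (h1.trans h2)

end Cfsg.Agent.S1978
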