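import Cfsg.Statements.S1979
import Cfsg.Agent.Lib.Helper4.KTransfer
import Cfsg.Agent.Lib.Helper4.KSeq

set_option autoImplicit false
open Cfsg

namespace Cfsg.Agent.S1979

open Cfsg.Agent.Lib.Helper4

theorem sandwich {P : Type*} [Group P] (Q : Subgroup P)
    (hQ : ∀ n : ℕ, Cfsg.kSeqEven P n ≤ Q ∧ Cfsg.kSeqOdd P (n + 1) ≤ Q) (n : ℕ) :
    (Cfsg.kSeqOdd P (n + 1) ≤ (Cfsg.kSeqOdd ↥Q n).map Q.subtype ∧
      (Cfsg.kSeqOdd ↥Q n).map Q.subtype ≤ Cfsg.kSeqOdd P n) ∧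
    (Cfsg.kSeqEven P n ≤ (Cfsg.kSeqEven ↥Q n).map Q.subtype ∧
      (Cfsg.kSeqEven ↥Q n).map Q.subtype ≤ Cfsg.kSeqEven P (n + 1)) := by
  have hinj : Function.Injective Q.subtype := Q.subtype_injective
  have hrange : ∀ B : Subgroup P, B ≤ Q → ∃ B' : Subgroup Q, B = B'.map Q.subtype := by
    intro B hB
    refine ⟨B.comap Q.subtype, (Subgroup.map_comap_eq_self ?_).symm⟩
    rw [Subgroup.range_subtype]; exact hB
  -- step from A(n) to B(n)
  have stepB : ∀ n, (Cfsg.kSeqOdd P (n + 1) ≤ (Cfsg.kSeqOdd ↥Q n).map Q.subtype ∧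
      (Cfsg.kSeqOdd ↥Q n).map Q.subtype ≤ Cfsg.kSeqOdd P n) →
      (Cfsg.kSeqEven P n ≤ (Cfsg.kSeqEven ↥Q n).map Q.subtype ∧
      (Cfsg.kSeqEven ↥Q n).map Q.subtype ≤ Cfsg.kSeqEven P (n + 1)) := by
    intro n ⟨hA1, hA2⟩
    constructor
    · apply sSup_le
      intro B hB
      have hBQ : B ≤ Q := (le_sSup hB).trans (hQ n).1
      obtain ⟨B', rfl⟩ := hrange B hBQ
      have h1 : B'.map Q.subtype ∈ Cfsg.kLowerStarFamily ((Cfsg.kSeqOdd ↥Q n).map Q.subtype) :=
        kLowerStarFamily_anti hA2 hB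
      rw [lower_map_iff hinj] at h1
      exact Subgroup.map_mono (le_sSup h1)
    · rw [Subgroup.map_le_iff_le_comap]
      apply sSup_le
      intro B' hB'
      rw [← Subgroup.map_le_iff_le_comap]
      have h1 : B'.map Q.subtype ∈ Cfsg.kLowerStarFamily ((Cfsg.kSeqOdd ↥Q n).map Q.subtype) :=
        (lower_map_iff hinj _ _).2 hB'
      exact le_sSup (kLowerStarFamily_anti hA1 h1)
  have stepA : ∀ n, (Cfsg.kSeqEven P n ≤ (Cfsg.kSeqEven ↥Q n).map Q.subtype ∧
      (Cfsg.kSeqEven ↥Q n).map Q.subtype ≤ Cfsg.kSeqEven P (n + 1)) →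
      (Cfsg.kSeqOdd P (n + 2) ≤ (Cfsg.kSeqOdd ↥Q (n + 1)).map Q.subtype ∧
      (Cfsg.kSeqOdd ↥Q (n + 1)).map Q.subtype ≤ Cfsg.kSeqOdd P (n + 1)) := by
    intro n ⟨hB1, hB2⟩
    constructor
    · show sSup (Cfsg.kUpperStarFamily (Cfsg.kSeqEven P (n + 1))) ≤ _
      apply sSup_le
      intro B hB
      have hBQ : B ≤ Q := by
        have : B ≤ Cfsg.kSeqOdd P (n + 2) := le_sSup hB
        exact this.trans (hQ (n + 1)).2
      obtain ⟨B', rfl⟩ := hrange B hBQ
      have h1 : B'.map Q.subtype ∈ Cfsg.kUpperStarFamily ((Cfsg.kSeqEven ↥Q n).map Q.subtype) :=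
        kUpperStarFamily_anti hB2 hB
      rw [upper_map_iff hinj] at h1
      apply Subgroup.map_mono
      show B' ≤ sSup (Cfsg.kUpperStarFamily (Cfsg.kSeqEven ↥Q n))
      exact le_sSup h1
    · show (sSup (Cfsg.kUpperStarFamily (Cfsg.kSeqEven ↥Q n))).map Q.subtype ≤
        sSup (Cfsg.kUpperStarFamily (Cfsg.kSeqEven P n))
      rw [Subgroup.map_le_iff_le_comap]
      apply sSup_le
      intro B' hB'
      rw [← Subgroup.map_le_iff_le_comap]
      have h1 : B'.map Q.subtype ∈ Cfsg.kUpperStarFamily ((Cfsg.kSeqEven ↥Q n).map Q.subtype) :=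
        (upper_map_iff hinj _ _).2 hB'
      exact le_sSup (kUpperStarFamily_anti hB1 h1)
  have hA : ∀ n, (Cfsg.kSeqOdd P (n + 1) ≤ (Cfsg.kSeqOdd ↥Q n).map Q.subtype ∧
      (Cfsg.kSeqOdd ↥Q n).map Q.subtype ≤ Cfsg.kSeqOdd P n) := by
    intro n
    induction n with
    | zero =>
      have h0 : (Cfsg.kSeqOdd ↥Q 0).map Q.subtype = Q := by
        show (⊤ : Subgroup Q).map Q.subtype = Q
        rw [← MonoidHom.range_eq_map, Subgroup.range_subtype]
      rw [h0]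
      exact ⟨(hQ 0).2, le_top⟩
    | succ n ih => exact stepA n (stepB n ih)
  exact ⟨hA n, stepB n (hA n)⟩

/-- Let P be a finite p-group and Q a subgroup of P containing every term of the K-sequence of P of nonnegative index (every even-indexed term and every odd-indexed term after the initial term P). Then the K-infinity subgroups of Q, computed in Q and viewed in P, equal those of P. -/
theorem result {P : Type*} [Group P] [Finite P] {p : ℕ} [Fact p.Prime] (hP : IsPGroup p P) (Q : Subgroup P) (hQ : ∀ n : ℕ, Cfsg.kSeqEven P n ≤ Q ∧ Cfsg.kSeqOdd P (n + 1) ≤ Q) : (Cfsg.kInfLower ↥Q).map Q.subtype = Cfsg.kInfLower P ∧ (Cfsg.kInfUpper ↥Q).map Q.subtype = Cfsg.kInfUpper P := by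
  have hinj : Function.Injective Q.subtype := Q.subtype_injective
  have hs := sandwich Q hQ
  constructor
  · show (⨆ n, Cfsg.kSeqEven ↥Q n).map Q.subtype = ⨆ n, Cfsg.kSeqEven P n
    rw [Subgroup.map_iSup]
    apply le_antisymm
    · apply iSup_le
      intro n
      exact (hs n).2.2.trans (le_iSup (Cfsg.kSeqEven P) (n + 1))
    · apply iSup_le
      intro n
      exact (hs n).2.1.trans (le_iSup (fun n => (Cfsg.kSeqEven ↥Q n).map Q.subtype) n)
  · show (⨅ n, Cfsg.kSeqOdd ↥Q n).map Q.subtype = ⨅ n, Cfsg.kSeqOdd P n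
    rw [Subgroup.map_iInf _ hinj]
    apply le_antisymm
    · apply le_iInf
      intro n
      exact (iInf_le (fun n => (Cfsg.kSeqOdd ↥Q n).map Q.subtype) n).trans (hs n).1.2
    · apply le_iInf
      intro n
      exact (iInf_le (Cfsg.kSeqOdd P) (n + 1)).trans (hs n).1.1

end Cfsg.Agent.S1979
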