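import Mathlib
import Cfsg.Statements.S1990
import Cfsg.Agent.Lib.Helper3.PAP

set_option autoImplicit false
open Cfsg
open Cfsg.Agent.Lib.Helper3 Cfsg.Agent.Lib.Helper1

universe u

namespace Cfsg.Agent.S1990

/-- Let p be an odd prime, G a finite group with Sylow p-subgroup S, and W an isomorphism-invariant p-group functor (W assigns to every group Q a subgroup W(Q), nontrivial whenever Q is a nontrivial finite p-group, and every isomorphism from a finite p-group Q onto a group R carries W(Q) onto W(R)). Suppose N_G(W(S)) has a normal p-complement, and W(T) controls strong fusion in every section G* = K/R of G all of whose sections are p-stable in the normalizer form, for every Sylow p-subgroup T of G*. Then G has a normal p-complement. -/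
theorem result {G : Type u} [Group G] [Finite G] {p : ℕ} [Fact p.Prime] (hp : p ≠ 2) (W : ∀ (Q : Type u) [Group Q], Subgroup Q) (hW : Cfsg.IsCharPFunctor.{u} p W) (S : Sylow p G) (hN : Cfsg.HasNormalPComplement p ↥(Subgroup.normalizer ((Cfsg.inducedFunctor (G := G) W (S : Subgroup G) : Subgroup G) : Set G))) (hctl : ∀ (K R : Subgroup G) [hR : (R.subgroupOf K).Normal], (∀ (K' R' : Subgroup (↥K ⧸ R.subgroupOf K)) [hR' : (R'.subgroupOf K').Normal], Cfsg.IsNormalizerPStable p (↥K' ⧸ R'.subgroupOf K')) → ∀ T : Sylow p (↥K ⧸ R.subgroupOf K), Cfsg.ControlsStrongFusion p (Cfsg.inducedFunctor (G := (↥K ⧸ R.subgroupOf K)) W (T : Subgroup (↥K ⧸ R.subgroupOf K)))) : Cfsg.HasNormalPComplement p G := by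
  have hgood : ∀ (X : Type u) [Group X] [Finite X], Cfsg.Involves X G → GoodW p W X := by
    intro X _ _ hX
    obtain ⟨K, R, hn, ⟨e⟩⟩ := hX
    have hY : GoodW p W (↥K ⧸ R.subgroupOf K) := by
      intro T hco hc hnpc
      obtain ⟨K', hconf⟩ := exists_gtconf T hco hc hnpc
      have hpap : PAP p (↥K ⧸ R.subgroupOf K) := pap_of_gtconf hconf
      obtain ⟨T', hWT', hctl'⟩ := hctl K R
        (fun K'' R'' _ => normalizerPStable_of_pap hp (hpap.section K'' R'')) T
      rw [← Subgroup.normalizer_eq_top_iff, eq_top_iff]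
      intro y _
      have hQT' : ((Cfsg.pCore p (↥K ⧸ R.subgroupOf K) : Subgroup (↥K ⧸ R.subgroupOf K)) :
          Set (↥K ⧸ R.subgroupOf K)) ⊆
          ((T' : Subgroup (↥K ⧸ R.subgroupOf K)) : Set (↥K ⧸ R.subgroupOf K)) :=
        SetLike.coe_subset_coe.mpr (pCore_le_sylow T')
      obtain ⟨-, h2⟩ := hctl' _ hQT'
      have himg : (fun a => y * a * y⁻¹) '' ((Cfsg.pCore p (↥K ⧸ R.subgroupOf K) :
          Subgroup (↥K ⧸ R.subgroupOf K)) : Set (↥K ⧸ R.subgroupOf K))
          ⊆ ((T' : Subgroup (↥K ⧸ R.subgroupOf K)) : Set (↥K ⧸ R.subgroupOf K)) := by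
        rintro _ ⟨a, ha, rfl⟩
        exact hQT' ((Cfsg.pCore_normal p _).conj_mem a ha y)
      obtain ⟨x, hx, hxa⟩ := h2 y himg
      have hcent : x⁻¹ * y ∈ Subgroup.centralizer
          ((Cfsg.pCore p (↥K ⧸ R.subgroupOf K) : Subgroup (↥K ⧸ R.subgroupOf K)) :
            Set (↥K ⧸ R.subgroupOf K)) := by
        rw [Subgroup.mem_centralizer_iff]
        intro a ha
        have h3 := hxa a ha
        calc a * (x⁻¹ * y) = x⁻¹ * (x * a * x⁻¹) * y := by group
          _ = x⁻¹ * (y * a * y⁻¹) * y := by rw [h3]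
          _ = x⁻¹ * y * a := by group
      have hT : (T : Subgroup (↥K ⧸ R.subgroupOf K)) ≤ Subgroup.normalizer
          ((Cfsg.inducedFunctor W (T : Subgroup (↥K ⧸ R.subgroupOf K)) :
            Subgroup (↥K ⧸ R.subgroupOf K)) : Set (↥K ⧸ R.subgroupOf K)) :=
        le_trans Subgroup.le_normalizer (normalizer_le_normalizer_wf hW T.isPGroup')
      have h4 : x⁻¹ * y ∈ Subgroup.normalizer
          ((Cfsg.inducedFunctor W (T : Subgroup (↥K ⧸ R.subgroupOf K)) :
            Subgroup (↥K ⧸ R.subgroupOf K)) : Set (↥K ⧸ R.subgroupOf K)) :=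
        hT (pCore_le_sylow T (hc hcent))
      have h5 : y = x * (x⁻¹ * y) := by group
      rw [h5]
      exact Subgroup.mul_mem _ hx h4
    exact goodW_of_equiv hW e hY
  exact npc_of_functor hW hgood _ G involves_self rfl S hN

end Cfsg.Agent.S1990
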