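import Cfsg.Statements.S2007
import Cfsg.Agent.Lib.Helper4.NormalPComplement
import Cfsg.Agent.Lib.Helper4.SylowRel

set_option autoImplicit false
open Cfsg

namespace Cfsg.Agent.S2007

/-- Let p be a prime, G a finite group with Sylow p-subgroup S, and T a normal subgroup of S containing C_S(T). If N_G(T)/C_G(T) is a p-group (every element of N_G(T) of order prime to p centralizes T), then N_G(T) has a normal p-complement. -/
theorem result {G : Type*} [Group G] [Finite G] {p : ℕ} [Fact p.Prime] (S : Sylow p G) (T : Subgroup G) (hTS : T ≤ (S : Subgroup G)) (hTn : (S : Subgroup G) ≤ Subgroup.normalizer ((T : Subgroup G) : Set G)) (hC : (S : Subgroup G) ⊓ Subgroup.centralizer ((T : Subgroup G) : Set G) ≤ T) (hN : ∀ g ∈ Subgroup.normalizer ((T : Subgroup G) : Set G), (orderOf g).Coprime p → g ∈ Subgroup.centralizer ((T : Subgroup G) : Set G)) : Cfsg.HasNormalPComplement p ↥(Subgroup.normalizer ((T : Subgroup G) : Set G)) := by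
  classical
  set N : Subgroup G := Subgroup.normalizer ((T : Subgroup G) : Set G) with hNdef
  set CT : Subgroup G := Subgroup.centralizer ((T : Subgroup G) : Set G) with hCTdef
  set C : Subgroup N := CT.subgroupOf N with hCdef
  have hCn : C.Normal := Subgroup.normal_subgroupOf_centralizer_normalizer (T : Set G)
  have hi : ∀ g : N, (orderOf g).Coprime p → g ∈ C := by
    intro g hg
    rw [hCdef, Subgroup.mem_subgroupOf]
    apply hN _ g.2
    rw [Subgroup.orderOf_coe]; exact hg
  obtain ⟨Q⟩ : Nonempty (Sylow p C) := inferInstance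
  -- conjugate Q into S
  set QG : Subgroup G := ((Q : Subgroup C).map C.subtype).map N.subtype with hQG
  have hQGp : IsPGroup p QG := (Q.2.map _).map _
  have hQGN : QG ≤ N := by
    rintro _ ⟨x, _, rfl⟩
    exact x.2
  have hSidx : ¬ p ∣ (S : Subgroup G).relIndex N := fun hdvd =>
    S.not_dvd_index (dvd_trans hdvd (Subgroup.relIndex_dvd_index_of_le hTn))
  obtain ⟨n, hnN, hnQ⟩ := Cfsg.Agent.Lib.Helper4.exists_conj_le_of_relIndex p N (S : Subgroup G) QG S.2 hSidx hQGN hQGp
  -- conjugation by n preserves CT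
  have hconjCT : ∀ c : C, n * ((c : N) : G) * n⁻¹ ∈ CT := by
    intro c
    have h1 : (⟨n, hnN⟩ : N) * (c : N) * (⟨n, hnN⟩ : N)⁻¹ ∈ C := hCn.conj_mem _ c.2 _
    have h1' : (⟨n, hnN⟩ : N) * (c : N) * (⟨n, hnN⟩ : N)⁻¹ ∈ CT.subgroupOf N := h1
    rw [Subgroup.mem_subgroupOf] at h1'
    simpa using h1'
  have hcomm : ∀ c : C, ∀ q ∈ (Q : Subgroup C), q * c = c * q := by
    intro c q hq
    have hqG : ((q : N) : G) ∈ QG := ⟨(q : N), ⟨q, hq, rfl⟩, rfl⟩
    have h1 : n * ((q : N) : G) * n⁻¹ ∈ T := hC ⟨hnQ _ hqG, hconjCT q⟩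
    have h2 := hconjCT c
    rw [hCTdef, Subgroup.mem_centralizer_iff] at h2
    have h3 := h2 _ h1
    have h4 : ((q : N) : G) * ((c : N) : G) = ((c : N) : G) * ((q : N) : G) := by
      have e1 : n * ((q : N) : G) * n⁻¹ * (n * ((c : N) : G) * n⁻¹) = n * (((q : N) : G) * ((c : N) : G)) * n⁻¹ := by group
      have e2 : n * ((c : N) : G) * n⁻¹ * (n * ((q : N) : G) * n⁻¹) = n * (((c : N) : G) * ((q : N) : G)) * n⁻¹ := by group
      rw [e1, e2] at h3
      exact mul_left_cancel (mul_right_cancel h3)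
    apply Subtype.ext
    apply Subtype.ext
    simpa using h4
  have hQ : Subgroup.normalizer ((Q : Subgroup C) : Set C) ≤ Subgroup.centralizer ((Q : Subgroup C) : Set C) := by
    intro c _
    rw [Subgroup.mem_centralizer_iff]
    intro q hq
    exact hcomm c q hq
  exact Cfsg.Agent.Lib.Helper4.hasNormalPComplement_of_transfer p C hi Q hQ

end Cfsg.Agent.S2007
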