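import Cfsg.Statements.S2008

set_option autoImplicit false
open Cfsg

namespace Cfsg.Agent.S2008


theorem exists_third {H : Type*} [Group H] (E : Subgroup H) (hE : IsKleinFour ↥E) (z : H) (hzE : z ∈ E) :
    ∃ e ∈ E, e ≠ 1 ∧ e ≠ z := by
  by_contra hcon
  push Not at hcon
  have hfin : Finite ↥E := Nat.finite_of_card_ne_zero (by rw [hE.card_four]; norm_num)
  have hsurj : Function.Surjective (fun b : Bool => if b then (1 : E) else ⟨z, hzE⟩) := by
    intro e
    by_cases h1 : (e : H) = 1
    · exact ⟨true, by simp; exact Subtype.ext h1.symm⟩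
    · refine ⟨false, ?_⟩
      have := hcon e e.2 h1
      simp
      exact Subtype.ext this.symm
  have := Nat.card_le_card_of_surjective _ hsurj
  rw [hE.card_four] at this
  simp at this

theorem key {H : Type*} [Group H] (z : H) (hz : orderOf z = 2)
    (hN : ∀ N : Subgroup H, N.Normal → N ≠ ⊤ → N ⊓ Subgroup.centralizer ({z} : Set H) = ⊥)
    (E : Subgroup H) (hE : IsKleinFour ↥E) (hzE : z ∈ E) (hc : ∀ e ∈ E, e ≠ 1 → IsConj z e)
    (N : Subgroup H) [hNn : N.Normal] (hab : ∀ a ∈ N, ∀ b ∈ N, a * b = b * a) : N = ⊥ := by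
  obtain ⟨e₂, he₂E, he₂1, he₂z⟩ := exists_third E hE z hzE
  have hz1 : z ≠ 1 := by
    intro h; rw [h, orderOf_one] at hz; norm_num at hz
  by_cases htop : N = ⊤
  · exfalso
    have hcomm : ∀ a b : H, a * b = b * a := fun a b => hab a (htop ▸ Subgroup.mem_top a) b (htop ▸ Subgroup.mem_top b)
    obtain ⟨c, hc'⟩ := isConj_iff.mp (hc e₂ he₂E he₂1)
    apply he₂z
    rw [← hc', hcomm c z]; group
  · have hsq : ∀ e ∈ E, e * e = 1 := by
      intro e he
      have := IsKleinFour.mul_self (⟨e, he⟩ : E)
      exact congrArg Subtype.val this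
    -- each nonidentity e ∈ E has N ⊓ C(e) = ⊥
    have hfree : ∀ e ∈ E, e ≠ 1 → ∀ n ∈ N, n * e = e * n → n = 1 := by
      intro e he he1 n hn hne
      obtain ⟨c, hc'⟩ := isConj_iff.mp (hc e he he1)
      have h1 : c⁻¹ * n * c ∈ N := by
        have := hNn.conj_mem n hn c⁻¹
        simpa using this
      have h2 : c⁻¹ * n * c ∈ Subgroup.centralizer ({z} : Set H) := by
        rw [Subgroup.mem_centralizer_singleton_iff]
        have : e = c * z * c⁻¹ := hc'.symm
        have hz' : z = c⁻¹ * e * c := by rw [this]; group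
        rw [hz']
        calc c⁻¹ * n * c * (c⁻¹ * e * c) = c⁻¹ * (n * e) * c := by group
          _ = c⁻¹ * (e * n) * c := by rw [hne]
          _ = c⁻¹ * e * c * (c⁻¹ * n * c) := by group
      have h3 : c⁻¹ * n * c ∈ N ⊓ Subgroup.centralizer ({z} : Set H) := ⟨h1, h2⟩
      rw [hN N hNn htop, Subgroup.mem_bot] at h3
      calc n = c * (c⁻¹ * n * c) * c⁻¹ := by group
        _ = 1 := by rw [h3]; group
    -- each nonidentity e ∈ E inverts N
    have hinv : ∀ e ∈ E, e ≠ 1 → ∀ n ∈ N, e * n * e⁻¹ = n⁻¹ := by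
      intro e he he1 n hn
      have hen : e * n * e⁻¹ ∈ N := hNn.conj_mem n hn e
      have hm : n * (e * n * e⁻¹) ∈ N := N.mul_mem hn hen
      have hee : e⁻¹ = e := by
        have := hsq e he
        exact inv_eq_of_mul_eq_one_left this
      have hfix : n * (e * n * e⁻¹) * e = e * (n * (e * n * e⁻¹)) := by
        have h1 := hab n hn (e * n * e⁻¹) hen
        rw [h1, hee]
        have : e * n * e * n * e = e * n * (e * n * e) := by group
        calc e * n * e * n * e = e * n * (e * n * e) := by group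
          _ = e * (e * n * e * n) := by
            rw [hee] at h1
            rw [← h1]; group
          _ = e * (e * n * e * n) := rfl
      have := hfree e he he1 _ hm hfix
      exact (eq_inv_of_mul_eq_one_right this)
    have he₃E : z * e₂ ∈ E := E.mul_mem hzE he₂E
    have he₃1 : z * e₂ ≠ 1 := by
      intro h
      apply he₂z
      have hzz := hsq z hzE
      calc e₂ = z * z * e₂ := by rw [hzz, one_mul]
        _ = z * (z * e₂) := by group
        _ = z := by rw [h, mul_one]
    rw [Subgroup.eq_bot_iff_forall]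
    intro n hn
    apply hfree (z * e₂) he₃E he₃1 n hn
    have h1 := hinv e₂ he₂E he₂1 n hn
    have h2 := hinv z hzE hz1 n⁻¹ (N.inv_mem hn)
    rw [inv_inv] at h2
    have : (z * e₂) * n * (z * e₂)⁻¹ = n := by
      calc (z * e₂) * n * (z * e₂)⁻¹ = z * (e₂ * n * e₂⁻¹) * z⁻¹ := by group
        _ = n := by rw [h1, h2]
    calc n * (z * e₂) = ((z * e₂) * n * (z * e₂)⁻¹) * (z * e₂) := by rw [this]
      _ = z * e₂ * n := by group

/-- Let H be a finite group and z an involution such that every proper normal subgroup of H meets the centralizer of z trivially, and suppose z lies in a Klein four-subgroup E of H all three of whose involutions are conjugate to z in H. Then H has no non-trivial abelian normal subgroup. -/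
theorem result {H : Type*} [Group H] [Finite H] (z : H) (hz : orderOf z = 2) (hN : ∀ N : Subgroup H, N.Normal → N ≠ ⊤ → N ⊓ Subgroup.centralizer ({z} : Set H) = ⊥) (E : Subgroup H) (hE : IsKleinFour ↥E) (hzE : z ∈ E) (hc : ∀ e ∈ E, e ≠ 1 → IsConj z e) (N : Subgroup H) [N.Normal] (hab : IsMulCommutative ↥N) : N = ⊥ := by
  apply key z hz hN E hE hzE hc N
  intro a ha b hb
  have := hab.is_comm.comm (⟨a, ha⟩ : N) ⟨b, hb⟩
  exact congrArg Subtype.val this

end Cfsg.Agent.S2008
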