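import Cfsg.Statements.S2009
import Cfsg.Agent.S2008

set_option autoImplicit false
open Cfsg

namespace Cfsg.Agent.S2009


theorem abelian_of_fpf {H : Type*} [Group H] [Finite H] (z : H) (hz2 : z * z = 1) (N : Subgroup H) [hNn : N.Normal]
    (hfree : ∀ n ∈ N, n * z = z * n → n = 1) : ∀ a ∈ N, ∀ b ∈ N, a * b = b * a := by
  have hzinv : z⁻¹ = z := inv_eq_of_mul_eq_one_left hz2
  let f : N → N := fun n => ⟨(n : H)⁻¹ * (z * n * z⁻¹), N.mul_mem (N.inv_mem n.2) (hNn.conj_mem n n.2 z)⟩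
  have hinj : Function.Injective f := by
    intro m n hmn
    have h1 : (m : H)⁻¹ * (z * m * z⁻¹) = (n : H)⁻¹ * (z * n * z⁻¹) := congrArg Subtype.val hmn
    have h2 : ((n : H) * (m : H)⁻¹) * z = z * ((n : H) * (m : H)⁻¹) := by
      have e1 : (n : H) * (m : H)⁻¹ = (z * n * z⁻¹) * (z * m * z⁻¹)⁻¹ := by
        calc (n : H) * (m : H)⁻¹ = n * ((m : H)⁻¹ * (z * m * z⁻¹)) * (z * m * z⁻¹)⁻¹ := by group
          _ = n * ((n : H)⁻¹ * (z * n * z⁻¹)) * (z * m * z⁻¹)⁻¹ := by rw [h1]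
          _ = (z * n * z⁻¹) * (z * m * z⁻¹)⁻¹ := by group
      have e2 : (z * n * z⁻¹) * (z * m * z⁻¹)⁻¹ = z * ((n : H) * (m : H)⁻¹) * z⁻¹ := by group
      rw [e2] at e1
      calc ((n : H) * (m : H)⁻¹) * z = (z * ((n : H) * (m : H)⁻¹) * z⁻¹) * z := by rw [← e1]
        _ = z * ((n : H) * (m : H)⁻¹) := by group
    have h3 := hfree _ (N.mul_mem n.2 (N.inv_mem m.2)) h2
    apply Subtype.ext
    have : (n : H) = m := by
      calc (n : H) = ((n : H) * (m : H)⁻¹) * m := by group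
        _ = m := by rw [h3, one_mul]
    exact this.symm
  have hsurj : Function.Surjective f := Finite.surjective_of_injective hinj
  have hinv : ∀ x ∈ N, z * x * z⁻¹ = x⁻¹ := by
    intro x hx
    obtain ⟨n, hn⟩ := hsurj ⟨x, hx⟩
    have hx' : x = (n : H)⁻¹ * (z * n * z⁻¹) := (congrArg Subtype.val hn).symm
    rw [hx', hzinv]
    calc z * ((n : H)⁻¹ * (z * n * z)) * z = z * (n : H)⁻¹ * z * n * (z * z) := by group
      _ = z * (n : H)⁻¹ * z * n := by rw [hz2, mul_one]
      _ = ((n : H)⁻¹ * (z * n * z))⁻¹ := by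
        rw [mul_inv_rev, mul_inv_rev, mul_inv_rev, inv_inv, hzinv]; group
  intro a ha b hb
  have h1 := hinv (a * b) (N.mul_mem ha hb)
  have h2 := hinv a ha
  have h3 := hinv b hb
  have h4 : z * (a * b) * z⁻¹ = (z * a * z⁻¹) * (z * b * z⁻¹) := by group
  rw [h4, h2, h3] at h1
  have h5 : (a⁻¹ * b⁻¹)⁻¹ = ((a * b)⁻¹)⁻¹ := by rw [h1]
  rw [mul_inv_rev, inv_inv, inv_inv, inv_inv] at h5
  exact h5.symm

/-- Let H be a finite group and z an involution such that every proper normal subgroup of H meets the centralizer of z trivially, and suppose z lies in a Klein four-subgroup E of H all three of whose involutions are conjugate to z in H. Then H is simple. -/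
theorem result {H : Type*} [Group H] [Finite H] (z : H) (hz : orderOf z = 2) (hN : ∀ N : Subgroup H, N.Normal → N ≠ ⊤ → N ⊓ Subgroup.centralizer ({z} : Set H) = ⊥) (E : Subgroup H) (hE : IsKleinFour ↥E) (hzE : z ∈ E) (hc : ∀ e ∈ E, e ≠ 1 → IsConj z e) : IsSimpleGroup H := by
  have hz1 : z ≠ 1 := by
    intro h; rw [h, orderOf_one] at hz; norm_num at hz
  have hz2 : z * z = 1 := by
    have := pow_orderOf_eq_one z
    rw [hz, pow_two] at this
    exact this
  have : Nontrivial H := ⟨⟨z, 1, hz1⟩⟩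
  refine ⟨fun N hNn => ?_⟩
  by_cases htop : N = ⊤
  · exact Or.inr htop
  · left
    have := hNn
    apply Cfsg.Agent.S2008.key z hz hN E hE hzE hc N
    apply abelian_of_fpf z hz2 N
    intro n hn hnz
    have : n ∈ N ⊓ Subgroup.centralizer ({z} : Set H) := by
      refine Subgroup.mem_inf.mpr ⟨hn, ?_⟩
      rw [Subgroup.mem_centralizer_singleton_iff]
      exact hnz
    rw [hN N hNn htop, Subgroup.mem_bot] at this
    exact this

end Cfsg.Agent.S2009
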