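import Cfsg.Statements.S2011
import Cfsg.Agent.Lib.Helper9.FusionGroup
import Cfsg.Agent.Lib.Helper4.ConjSub
import Cfsg.Agent.Lib.Helper4.CoprimeSylow
import Cfsg.Agent.Lib.Helper1.Fitting
import Cfsg.Agent.Lib.Helper2.Index
import Cfsg.Agent.Lib.Helper3.NormAux

set_option autoImplicit false
open Cfsg

namespace Cfsg.Agent.S2011

open Cfsg.Agent.Lib.Helper4 in
/-- Let G be a finite group with Sylow p-subgroup P and Q ≤ P. Then Q is centric in the fusion system of G on P (C_P(R) ≤ R for every G-conjugate R of Q lying in P) if and only if C_G(Q) is the internal direct product of Z(Q) = Q ∩ C_G(Q) and the largest normal subgroup of C_G(Q) of order prime to p. -/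
theorem result {G : Type*} [Group G] [Finite G] (p : ℕ) [Fact p.Prime] (P : Sylow p G) (Q : Subgroup G) (hQ : Q ≤ P) : (Cfsg.groupFusionSystem (P : Subgroup G)).IsCentric Q ↔ Cfsg.IsInternalDirectProduct (Q ⊓ Subgroup.centralizer (Q : Set G)) ((Cfsg.pPrimeCore p ↥(Subgroup.centralizer (Q : Set G))).map (Subgroup.centralizer (Q : Set G)).subtype) (Subgroup.centralizer (Q : Set G)) := by
  classical
  have hp : p.Prime := Fact.out
  obtain ⟨C, hC⟩ : ∃ C : Subgroup G, C = Subgroup.centralizer (Q : Set G) := ⟨_, rfl⟩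
  rw [← hC]
  have hQp : IsPGroup p Q := P.isPGroup'.to_le hQ
  have hZC : ∀ z ∈ Q, ∀ c ∈ C, z * c = c * z := by
    intro z hz c hc
    rw [hC] at hc
    exact Subgroup.mem_centralizer_iff.mp hc z hz
  unfold Cfsg.FusionSystem.IsCentric Cfsg.FusionSystem.centralizerIn
  constructor
  · rintro ⟨-, hcen⟩
    -- D = Q C
    have hQC : Q ≤ Subgroup.normalizer (C : Set G) := by
      rw [hC]
      exact Subgroup.le_normalizer.trans
        (Cfsg.Agent.Lib.Helper3.normalizer_le_normalizer_centralizer Q)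
    obtain ⟨D, hD⟩ : ∃ D : Subgroup G, D = Q ⊔ C := ⟨_, rfl⟩
    have hQD : Q ≤ D := hD ▸ le_sup_left
    have hCD : C ≤ D := hD ▸ le_sup_right
    have hDC : D ≤ Subgroup.normalizer (C : Set G) := hD ▸ sup_le hQC Subgroup.le_normalizer
    have hQDp : IsPGroup p (Q.subgroupOf D) := hQp.comap_subtype
    obtain ⟨S, hS⟩ := hQDp.exists_le_sylow
    obtain ⟨T, hT⟩ : ∃ T : Subgroup G, T = (S : Subgroup ↥D).map D.subtype := ⟨_, rfl⟩
    have hTD : T ≤ D := hT ▸ Subgroup.map_subtype_le _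
    have hTp : IsPGroup p T := hT ▸ S.2.map _
    have hTidx : ¬ p ∣ T.relIndex D := hT ▸ sylow_map_relIndex D S
    have hQT : Q ≤ T := by
      intro x hx
      rw [hT]
      exact ⟨⟨x, hQD hx⟩, hS (Subgroup.mem_subgroupOf.mpr hx), rfl⟩
    obtain ⟨P₁, hP₁⟩ := hTp.exists_le_sylow
    obtain ⟨g, hg⟩ := MulAction.exists_smul_eq G P₁ P
    have hgT : cj g T ≤ (P : Subgroup G) := by
      have h1 : cj g T ≤ cj g (P₁ : Subgroup G) := cj_mono g hP₁
      rw [← sylow_smul_eq_cj g P₁, hg] at h1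
      exact h1
    have hR : cj g Q ≤ (P : Subgroup G) := (cj_mono g hQT).trans hgT
    have hcenR := hcen (cj g Q)
      ((Cfsg.Agent.Lib.Helper9.isConj_groupFusionSystem_iff _ _ _).mpr ⟨hQ, hR, g, rfl⟩)
    have hTC : T ⊓ C ≤ Q := by
      intro x hx
      obtain ⟨hxT, hxC⟩ := Subgroup.mem_inf.mp hx
      have h1 : g * x * g⁻¹ ∈ (P : Subgroup G) := hgT (conj_mem_cj g T hxT)
      have h2 : g * x * g⁻¹ ∈ Subgroup.centralizer ((cj g Q : Subgroup G) : Set G) := by
        rw [Subgroup.mem_centralizer_iff]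
        rintro _ ⟨y, hy, rfl⟩
        show g * y * g⁻¹ * (g * x * g⁻¹) = g * x * g⁻¹ * (g * y * g⁻¹)
        have := hZC y hy x hxC
        calc g * y * g⁻¹ * (g * x * g⁻¹) = g * (y * x) * g⁻¹ := by group
          _ = g * (x * y) * g⁻¹ := by rw [this]
          _ = g * x * g⁻¹ * (g * y * g⁻¹) := by group
      have h3 := hcenR (Subgroup.mem_inf.mpr ⟨h1, h2⟩)
      rw [mem_cj_iff] at h3
      have e : g⁻¹ * (g * x * g⁻¹) * g = x := by group
      rwa [e] at h3
    obtain ⟨Z, hZ⟩ : ∃ Z : Subgroup G, Z = Q ⊓ C := ⟨_, rfl⟩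
    rw [← hZ]
    have hZeq : T ⊓ C = Z := by
      rw [hZ]
      exact le_antisymm (le_inf hTC inf_le_right) (inf_le_inf_right _ hQT)
    have hZidx : ¬ p ∣ Z.relIndex C := by
      rw [← hZeq, Subgroup.inf_relIndex_right,
        ← Cfsg.Agent.Lib.Helper2.relIndex_sup_of_le_normalizer T C (hTD.trans hDC)]
      intro hd
      apply hTidx
      have := Subgroup.relIndex_mul_relIndex T (T ⊔ C) D le_sup_left (sup_le hTD hCD)
      rw [← this]
      exact Dvd.dvd.mul_right hd _
    have hZp : IsPGroup p Z := hQp.to_le (hZ ▸ inf_le_left)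
    have hZ'p : IsPGroup p (Z.subgroupOf C) := hZp.comap_subtype
    let Zs : Sylow p ↥C := hZ'p.toSylow hZidx
    have hZs : (Zs : Subgroup ↥C) = Z.subgroupOf C := rfl
    have hN : Subgroup.normalizer ((Zs : Subgroup ↥C) : Set ↥C) ≤
        Subgroup.centralizer ((Zs : Subgroup ↥C) : Set ↥C) := by
      intro c _
      rw [Subgroup.mem_centralizer_iff]
      intro z hz
      have hz' : (z : G) ∈ Z := Subgroup.mem_subgroupOf.mp hz
      rw [hZ] at hz'
      apply Subtype.ext
      exact hZC z (Subgroup.mem_inf.mp hz').1 c c.2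
    obtain ⟨K, hK⟩ : ∃ K : Subgroup ↥C, K = (MonoidHom.transferSylow Zs hN).ker := ⟨_, rfl⟩
    have hKn : K.Normal := hK ▸ inferInstance
    have hKc : K.IsComplement' (Zs : Subgroup ↥C) :=
      hK ▸ MonoidHom.ker_transferSylow_isComplement' Zs hN
    have hKcop : (Nat.card K).Coprime p := by
      have : ¬ p ∣ Nat.card K := hK ▸ MonoidHom.not_dvd_card_ker_transferSylow Zs hN
      exact ((Nat.Prime.coprime_iff_not_dvd hp).mpr this).symm
    have hKO : K ≤ Cfsg.pPrimeCore p ↥C := Cfsg.Agent.Lib.Helper1.le_pPrimeCore K hKn hKcop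
    obtain ⟨O, hO⟩ : ∃ O : Subgroup G, O = (Cfsg.pPrimeCore p ↥C).map C.subtype := ⟨_, rfl⟩
    rw [← hO]
    have hOC : O ≤ C := hO ▸ Subgroup.map_subtype_le _
    have hOcop : (Nat.card O).Coprime p := by
      rw [hO, Subgroup.card_map_of_injective C.subtype_injective]
      exact Cfsg.Agent.Lib.Helper1.pPrimeCore_coprime p
    have hZC' : Z ≤ C := hZ ▸ inf_le_right
    refine ⟨hZC', hOC, ?_, ?_, ?_⟩
    · intro a ha b hb
      rw [hZ] at ha
      exact hZC a (Subgroup.mem_inf.mp ha).1 b (hOC hb)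
    · obtain ⟨k, hk⟩ := (IsPGroup.iff_card).mp hZp
      apply disjoint_iff.mp
      apply Subgroup.disjoint_of_coprime_natCard
      rw [hk]
      exact Nat.Coprime.pow_left k hOcop.symm
    · apply le_antisymm (sup_le hZC' hOC)
      have h1 : K ⊔ (Zs : Subgroup ↥C) = ⊤ := hKc.sup_eq_top
      have h2 : C = (⊤ : Subgroup ↥C).map C.subtype := by
        rw [← MonoidHom.range_eq_map, Subgroup.range_subtype]
      rw [h2, ← h1, Subgroup.map_sup, hZs, Subgroup.subgroupOf_map_subtype, sup_comm]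
      exact sup_le_sup inf_le_left (hO ▸ Subgroup.map_mono hKO)
  · rintro ⟨hZC', hOC, hcomm, hdisj, hsup⟩
    refine ⟨hQ, ?_⟩
    intro R hconj
    obtain ⟨-, hRP, g, hgR⟩ :=
      (Cfsg.Agent.Lib.Helper9.isConj_groupFusionSystem_iff _ _ _).mp hconj
    have hgR' : cj g Q = R := hgR
    intro x hx
    obtain ⟨hxP, hxR⟩ := Subgroup.mem_inf.mp hx
    -- y = g⁻¹ x g
    obtain ⟨y, hy⟩ : ∃ y : G, y = g⁻¹ * x * g := ⟨_, rfl⟩
    have hyC : y ∈ C := by
      rw [hC, Subgroup.mem_centralizer_iff]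
      intro q hq
      have h1 : g * q * g⁻¹ ∈ R := hgR' ▸ conj_mem_cj g Q hq
      have h2 := Subgroup.mem_centralizer_iff.mp hxR _ h1
      rw [hy]
      calc q * (g⁻¹ * x * g) = g⁻¹ * ((g * q * g⁻¹) * x) * g := by group
        _ = g⁻¹ * (x * (g * q * g⁻¹)) * g := by rw [h2]
        _ = g⁻¹ * x * g * q := by group
    have hOcop : (Nat.card ↥((Cfsg.pPrimeCore p ↥C).map C.subtype)).Coprime p := by
      rw [Subgroup.card_map_of_injective C.subtype_injective]
      exact Cfsg.Agent.Lib.Helper1.pPrimeCore_coprime p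
    obtain ⟨O, hO⟩ : ∃ O : Subgroup G, O = (Cfsg.pPrimeCore p ↥C).map C.subtype := ⟨_, rfl⟩
    rw [← hO] at hOC hcomm hdisj hsup hOcop
    have hZO : Q ⊓ C ≤ Subgroup.normalizer (O : Set G) := by
      intro a ha
      have : a ∈ Subgroup.centralizer (O : Set G) := by
        rw [Subgroup.mem_centralizer_iff]
        intro b hb
        exact (hcomm a ha b hb).symm
      exact Subgroup.centralizer_le_normalizer _ this
    have hysup : y ∈ (Q ⊓ C) ⊔ O := by rw [hsup]; exact hyC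
    obtain ⟨z, hz, o, ho, hyzo⟩ :=
      Cfsg.Agent.Lib.Helper2.exists_mul_of_mem_sup_of_le_normalizer hZO hysup
    -- y is a p-element
    obtain ⟨k, hk⟩ := (P.isPGroup' ⟨x, hxP⟩)
    have hxk : x ^ (p ^ k) = 1 := by
      have := congrArg Subtype.val hk
      simpa using this
    have hyk : y ^ (p ^ k) = 1 := by
      rw [hy]
      have : g⁻¹ * x * g = g⁻¹ * x * g⁻¹⁻¹ := by rw [inv_inv]
      rw [this, conj_pow, hxk]; group
    obtain ⟨m, hm⟩ := (hQp ⟨z, (Subgroup.mem_inf.mp hz).1⟩)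
    have hzm : z ^ (p ^ m) = 1 := by
      have := congrArg Subtype.val hm
      simpa using this
    have hcz : Commute z o := hcomm z hz o ho
    have hopow : o ^ (p ^ (k + m)) = 1 := by
      have h1 : y ^ (p ^ (k + m)) = 1 := by rw [pow_add, pow_mul, hyk, one_pow]
      have h2 : z ^ (p ^ (k + m)) = 1 := by rw [pow_add, mul_comm, pow_mul, hzm, one_pow]
      rw [hyzo, hcz.mul_pow, h2, one_mul] at h1
      exact h1
    have ho1 : o = 1 := by
      have hd1 : orderOf o ∣ p ^ (k + m) := orderOf_dvd_of_pow_eq_one hopow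
      have hd2 : orderOf o ∣ Nat.card O := by
        have := orderOf_dvd_natCard (⟨o, ho⟩ : ↥O)
        rwa [Subgroup.orderOf_mk] at this
      have hcop2 : (Nat.card O).Coprime (p ^ (k + m)) := Nat.Coprime.pow_right _ hOcop
      exact orderOf_eq_one_iff.mp (Nat.eq_one_of_dvd_coprimes hcop2 hd2 hd1)
    rw [ho1, mul_one] at hyzo
    have hyQ : y ∈ Q := hyzo ▸ (Subgroup.mem_inf.mp hz).1
    rw [← hgR', mem_cj_iff, ← hy]
    exact hyQ

end Cfsg.Agent.S2011
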