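import Cfsg.Statements.S2014
import Cfsg.Agent.Lib.Helper4.PResidual
import Cfsg.Agent.Lib.Helper4.SylowRel

set_option autoImplicit false
open Cfsg

namespace Cfsg.Agent.S2014

/-- Let P be a Sylow p-subgroup of a finite group G and A, C ≤ P subgroups conjugate in G, with C extremal: N_P(C) is a Sylow p-subgroup of N_G(C). Then there is g with gAg⁻¹ = C and g N_P(A) g⁻¹ ≤ N_P(C); moreover, given any h with hAh⁻¹ = C, g can be chosen so that h g⁻¹ lies in O^p(N_G(C)), the subgroup of N_G(C) generated by its elements of order prime to p. -/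
theorem result {G : Type*} [Group G] [Finite G] (p : ℕ) [Fact p.Prime] (P : Sylow p G) (A C : Subgroup G) (hA : A ≤ P) (hC : C ≤ P) (hext : ¬ p ∣ ((P : Subgroup G) ⊓ Subgroup.normalizer ((C : Subgroup G) : Set G)).relIndex (Subgroup.normalizer ((C : Subgroup G) : Set G))) (h : G) (hh : A.map (MulAut.conj h).toMonoidHom = C) : ∃ g : G, A.map (MulAut.conj g).toMonoidHom = C ∧ ((P : Subgroup G) ⊓ Subgroup.normalizer ((A : Subgroup G) : Set G)).map (MulAut.conj g).toMonoidHom ≤ (P : Subgroup G) ⊓ Subgroup.normalizer ((C : Subgroup G) : Set G) ∧ h * g⁻¹ ∈ (Cfsg.pResidual p ↥(Subgroup.normalizer ((C : Subgroup G) : Set G))).map (Subgroup.normalizer ((C : Subgroup G) : Set G)).subtype := by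
  classical
  set N : Subgroup G := Subgroup.normalizer ((C : Subgroup G) : Set G) with hN
  set NA : Subgroup G := Subgroup.normalizer ((A : Subgroup G) : Set G) with hNA
  set Q : Subgroup G := ((P : Subgroup G) ⊓ NA).map (MulAut.conj h).toMonoidHom with hQdef
  have hQN : Q ≤ N := by
    have h1 : Q ≤ NA.map (MulAut.conj h).toMonoidHom := Subgroup.map_mono inf_le_right
    refine h1.trans ?_
    have h2 := Subgroup.le_normalizer_map (H := A) (MulAut.conj h).toMonoidHom
    rw [hh] at h2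
    exact h2
  have hPN : IsPGroup p ((P : Subgroup G) ⊓ N : Subgroup G) := P.2.to_le inf_le_left
  have hQp : IsPGroup p Q := by
    have h0 : IsPGroup p ((P : Subgroup G) ⊓ NA : Subgroup G) := P.2.to_le inf_le_left
    exact h0.map _
  obtain ⟨n, hnN, hnQ⟩ := Cfsg.Agent.Lib.Helper4.exists_conj_le_of_relIndex p N _ Q hPN hext hQN hQp
  -- decompose n = r * m in N
  have hsup := Cfsg.Agent.Lib.Helper4.sup_pResidual_eq_top p (G := N)
    (((P : Subgroup G) ⊓ N).subgroupOf N) hext
  have := Cfsg.Agent.Lib.Helper4.pResidual_normal p N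
  have hmem : (⟨n, hnN⟩ : N) ∈ ((P : Subgroup G) ⊓ N).subgroupOf N ⊔ pResidual p N := by
    rw [hsup]; exact Subgroup.mem_top _
  rw [Subgroup.mem_sup_of_normal_right] at hmem
  obtain ⟨r, hr, m, hm, hrm⟩ := hmem
  rw [Subgroup.mem_subgroupOf] at hr
  have hrm' : (r : G) * (m : G) = n := by
    have := congrArg (Subtype.val) hrm
    simpa using this
  have hmN : (m : G) ∈ N := m.2
  refine ⟨(m : G) * h, ?_, ?_, ?_⟩
  · -- conj (m h) A = conj m C = C
    have e : (MulAut.conj ((m : G) * h)).toMonoidHom = (MulAut.conj (m : G)).toMonoidHom.comp (MulAut.conj h).toMonoidHom := by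
      ext x; simp [MulAut.conj_apply, mul_assoc]
    rw [e, ← Subgroup.map_map, hh]
    exact (Subgroup.mem_normalizer_iff_map_conj_eq).1 hmN
  · rintro _ ⟨x, hx, rfl⟩
    have hq : h * x * h⁻¹ ∈ Q := ⟨x, hx, by simp [MulAut.conj_apply]⟩
    have h1 := hnQ _ hq
    have h2 : (m : G) * (h * x * h⁻¹) * (m : G)⁻¹ = (r : G)⁻¹ * (n * (h * x * h⁻¹) * n⁻¹) * (r : G) := by
      rw [← hrm']; group
    have h3 : (m : G) * (h * x * h⁻¹) * (m : G)⁻¹ ∈ (P : Subgroup G) ⊓ N := by
      rw [h2]
      exact Subgroup.mul_mem _ (Subgroup.mul_mem _ (Subgroup.inv_mem _ hr) h1) hr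
    have h4 : (MulAut.conj ((m : G) * h)).toMonoidHom x = (m : G) * (h * x * h⁻¹) * (m : G)⁻¹ := by
      simp [MulAut.conj_apply, mul_assoc]
    rw [h4]; exact h3
  · refine ⟨m⁻¹, Subgroup.inv_mem _ hm, ?_⟩
    simp

end Cfsg.Agent.S2014
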