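import Cfsg.Statements.S2162


set_option autoImplicit false
open Cfsg

namespace Cfsg.Agent.S2162


open Matrix Module

section
variable {F : Type*} [Field F]

theorem rank_pos_of_ne_zero {n : ℕ} (N : Matrix (Fin n) (Fin n) F) (hN : N ≠ 0) : 1 ≤ N.rank := by
  by_contra h
  have h0 : N.rank = 0 := by omega
  apply hN
  have h1 : LinearMap.range N.mulVecLin = ⊥ := Submodule.finrank_eq_zero.1 h0
  have h2 : N.mulVecLin = 0 := LinearMap.range_eq_bot.1 h1
  ext i j
  have h3 := congrFun (LinearMap.congr_fun h2 (Pi.single j 1)) i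
  simpa [Matrix.mulVecLin_apply, Matrix.mulVec_single_one] using h3

theorem sq_zero_of_sq_one [CharP F 2] {n : ℕ} (A : Matrix (Fin n) (Fin n) F) (hA : A * A = 1) :
    (A - 1) * (A - 1) = 0 := by
  have h2 : (2 : F) = 0 := CharTwo.two_eq_zero
  have h3 : A + A = 0 := by rw [← two_smul F A, h2, zero_smul]
  have h4 : (1 : Matrix (Fin n) (Fin n) F) + 1 = 0 := by
    rw [← two_smul F (1 : Matrix (Fin n) (Fin n) F), h2, zero_smul]
  calc (A - 1) * (A - 1) = A * A - (A + A) + 1 := by noncomm_ring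
    _ = 0 := by rw [hA, h3, sub_zero, h4]

theorem exists_adapted {n : ℕ} (N : Matrix (Fin n) (Fin n) F) (hN : N * N = 0) (r : ℕ)
    (hr : N.rank = r) (hr1 : 1 ≤ r) :
    ∃ B : Basis (Fin r ⊕ Fin r ⊕ Fin (n - 2 * r)) F (Fin n → F),
      (∀ i, N.mulVecLin (B (Sum.inl i)) = B (Sum.inr (Sum.inl i))) ∧
      (∀ x, N.mulVecLin (B (Sum.inr x)) = 0) := by
  classical
  have hff : ∀ v, N.mulVecLin (N.mulVecLin v) = 0 := by
    intro v
    simp only [Matrix.mulVecLin_apply, Matrix.mulVec_mulVec, hN, Matrix.zero_mulVec]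
  have hRK : LinearMap.range N.mulVecLin ≤ LinearMap.ker N.mulVecLin := by
    rintro _ ⟨v, rfl⟩
    exact LinearMap.mem_ker.2 (hff v)
  have hrankR : finrank F (LinearMap.range N.mulVecLin) = r := hr
  have hdim := LinearMap.finrank_range_add_finrank_ker N.mulVecLin
  rw [hrankR, Module.finrank_fin_fun] at hdim
  have hrK : r ≤ finrank F (LinearMap.ker N.mulVecLin) := by
    rw [← hrankR]
    exact Submodule.finrank_mono hRK
  obtain ⟨Z, hRZ, hRZsup, hZK⟩ : ∃ Z : Submodule F (Fin n → F),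
      LinearMap.range N.mulVecLin ⊓ Z = ⊥ ∧
      LinearMap.range N.mulVecLin ⊔ Z = LinearMap.ker N.mulVecLin ∧
      Z ≤ LinearMap.ker N.mulVecLin := by
    obtain ⟨Z₀, hZ₀⟩ := Submodule.exists_isCompl (LinearMap.range N.mulVecLin)
    refine ⟨Z₀ ⊓ LinearMap.ker N.mulVecLin, ?_, ?_, inf_le_right⟩
    · rw [← inf_assoc, hZ₀.inf_eq_bot, bot_inf_eq]
    · rw [← sup_inf_assoc_of_le Z₀ hRK, hZ₀.sup_eq_top, top_inf_eq]
  have hdimZ : finrank F Z = n - 2 * r := by
    have h1 := Submodule.finrank_sup_add_finrank_inf_eq (LinearMap.range N.mulVecLin) Z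
    rw [hRZsup, hRZ, finrank_bot, hrankR] at h1
    omega
  let bR : Basis (Fin r) F (LinearMap.range N.mulVecLin) := finBasisOfFinrankEq F _ hrankR
  let bZ : Basis (Fin (n - 2 * r)) F Z := finBasisOfFinrankEq F _ hdimZ
  have hu : ∀ i, ∃ u, N.mulVecLin u = (bR i : Fin n → F) :=
    fun i => LinearMap.mem_range.1 (bR i).2
  choose u hu using hu
  have hLIR : LinearIndependent F (fun i => ((bR i : LinearMap.range N.mulVecLin) : Fin n → F)) :=
    bR.linearIndependent.map' (Submodule.subtype _) (Submodule.ker_subtype _)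
  have hLIZ : LinearIndependent F (fun j => ((bZ j : Z) : Fin n → F)) :=
    bZ.linearIndependent.map' (Submodule.subtype _) (Submodule.ker_subtype _)
  have h3 : ∀ i, N.mulVecLin ((bR i : LinearMap.range N.mulVecLin) : Fin n → F) = 0 :=
    fun i => LinearMap.mem_ker.1 (hRK (bR i).2)
  have h4 : ∀ j, N.mulVecLin ((bZ j : Z) : Fin n → F) = 0 :=
    fun j => LinearMap.mem_ker.1 (hZK (bZ j).2)
  have hLI : LinearIndependent F (Sum.elim u (Sum.elim
      (fun i => ((bR i : LinearMap.range N.mulVecLin) : Fin n → F))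
      (fun j => ((bZ j : Z) : Fin n → F)))) := by
    rw [Fintype.linearIndependent_iff]
    intro c hc
    rw [Fintype.sum_sum_type, Fintype.sum_sum_type] at hc
    simp only [Sum.elim_inl, Sum.elim_inr] at hc
    have h1 : ∑ i, c (Sum.inl i) • ((bR i : LinearMap.range N.mulVecLin) : Fin n → F) = 0 := by
      have h2 := congrArg N.mulVecLin hc
      simp only [map_add, map_sum, map_smul, hu, h3, h4, smul_zero, Finset.sum_const_zero,
        add_zero, map_zero] at h2
      exact h2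
    have hc1 : ∀ i, c (Sum.inl i) = 0 := fun i =>
      Fintype.linearIndependent_iff.1 hLIR (fun i => c (Sum.inl i)) h1 i
    simp only [hc1, zero_smul, Finset.sum_const_zero, zero_add] at hc
    have hρ : ∑ i, c (Sum.inr (Sum.inl i)) • ((bR i : LinearMap.range N.mulVecLin) : Fin n → F)
        ∈ LinearMap.range N.mulVecLin :=
      Submodule.sum_mem _ (fun i _ => Submodule.smul_mem _ _ (bR i).2)
    have hζ : ∑ j, c (Sum.inr (Sum.inr j)) • ((bZ j : Z) : Fin n → F) ∈ Z :=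
      Submodule.sum_mem _ (fun j _ => Submodule.smul_mem _ _ (bZ j).2)
    have hρZ : ∑ i, c (Sum.inr (Sum.inl i)) • ((bR i : LinearMap.range N.mulVecLin) : Fin n → F)
        ∈ Z := by
      have h5 : ∑ i, c (Sum.inr (Sum.inl i)) • ((bR i : LinearMap.range N.mulVecLin) : Fin n → F)
          = - ∑ j, c (Sum.inr (Sum.inr j)) • ((bZ j : Z) : Fin n → F) :=
        eq_neg_of_add_eq_zero_left hc
      rw [h5]
      exact Z.neg_mem hζ
    have hρ0 : ∑ i, c (Sum.inr (Sum.inl i)) • ((bR i : LinearMap.range N.mulVecLin) : Fin n → F)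
        = 0 := by
      have h5 : ∑ i, c (Sum.inr (Sum.inl i)) • ((bR i : LinearMap.range N.mulVecLin) : Fin n → F)
          ∈ LinearMap.range N.mulVecLin ⊓ Z := ⟨hρ, hρZ⟩
      rw [hRZ] at h5
      exact (Submodule.mem_bot F).1 h5
    have hζ0 : ∑ j, c (Sum.inr (Sum.inr j)) • ((bZ j : Z) : Fin n → F) = 0 := by
      rw [hρ0, zero_add] at hc
      exact hc
    have hc2 : ∀ i, c (Sum.inr (Sum.inl i)) = 0 := fun i =>
      Fintype.linearIndependent_iff.1 hLIR (fun i => c (Sum.inr (Sum.inl i))) hρ0 i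
    have hc3 : ∀ j, c (Sum.inr (Sum.inr j)) = 0 := fun j =>
      Fintype.linearIndependent_iff.1 hLIZ (fun j => c (Sum.inr (Sum.inr j))) hζ0 j
    intro x
    rcases x with i | i | j
    · exact hc1 i
    · exact hc2 i
    · exact hc3 j
  have hcard : Fintype.card (Fin r ⊕ Fin r ⊕ Fin (n - 2 * r)) = finrank F (Fin n → F) := by
    rw [Module.finrank_fin_fun, Fintype.card_sum, Fintype.card_sum, Fintype.card_fin,
      Fintype.card_fin]
    omega
  haveI : Nonempty (Fin r ⊕ Fin r ⊕ Fin (n - 2 * r)) := ⟨Sum.inl ⟨0, hr1⟩⟩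
  refine ⟨basisOfLinearIndependentOfCardEqFinrank hLI hcard, ?_, ?_⟩
  · intro i
    rw [coe_basisOfLinearIndependentOfCardEqFinrank]
    exact hu i
  · intro x
    rw [coe_basisOfLinearIndependentOfCardEqFinrank]
    rcases x with i | j
    · exact h3 i
    · exact h4 j

theorem exists_intertwiner [Fintype F] [CharP F 2] {n : ℕ} (Na Nb : Matrix (Fin n) (Fin n) F)
    (ha : Na * Na = 0) (hb : Nb * Nb = 0) (r : ℕ) (hra : Na.rank = r) (hrb : Nb.rank = r)
    (hr1 : 1 ≤ r) :
    ∃ G : Matrix (Fin n) (Fin n) F, G.det = 1 ∧ G * Na = Nb * G := by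
  classical
  obtain ⟨Ba, ha1, ha2⟩ := exists_adapted Na ha r hra hr1
  obtain ⟨Bb, hb1, hb2⟩ := exists_adapted Nb hb r hrb hr1
  let φ : (Fin n → F) ≃ₗ[F] (Fin n → F) := Ba.equiv Bb (Equiv.refl _)
  have hφ : ∀ x, φ (Ba x) = Bb x := fun x => by
    simp only [φ, Basis.equiv_apply, Equiv.refl_apply]
  have hφint : (φ : (Fin n → F) →ₗ[F] (Fin n → F)) ∘ₗ Na.mulVecLin
      = Nb.mulVecLin ∘ₗ (φ : (Fin n → F) →ₗ[F] (Fin n → F)) := by
    apply Ba.ext
    intro x
    simp only [LinearMap.comp_apply, LinearEquiv.coe_coe]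
    rcases x with i | x
    · rw [ha1 i, hφ, hφ, hb1 i]
    · rw [ha2 x, map_zero, hφ, hb2 x]
  have hdetφ : LinearMap.det (φ : (Fin n → F) →ₗ[F] (Fin n → F)) ≠ 0 :=
    (LinearEquiv.isUnit_det' φ).ne_zero
  obtain ⟨μ, hμ⟩ := FiniteField.isSquare_of_char_two (ringChar.eq F 2)
    (LinearMap.det (φ : (Fin n → F) →ₗ[F] (Fin n → F)))⁻¹
  let d : Fin r → F := fun i => if i = (⟨0, hr1⟩ : Fin r) then μ else 1
  let c : Fin r ⊕ Fin r ⊕ Fin (n - 2 * r) → F := Sum.elim d (Sum.elim d (fun _ => 1))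
  let ψ : (Fin n → F) →ₗ[F] (Fin n → F) := Ba.constr F (fun x => c x • Ba x)
  have hψ : ∀ x, ψ (Ba x) = c x • Ba x := fun x => Ba.constr_basis F _ x
  have hψcomm : ψ ∘ₗ Na.mulVecLin = Na.mulVecLin ∘ₗ ψ := by
    apply Ba.ext
    intro x
    simp only [LinearMap.comp_apply]
    rcases x with i | x
    · rw [ha1 i, hψ, hψ, map_smul, ha1 i]
      rfl
    · rw [ha2 x, map_zero, hψ, map_smul, ha2 x, smul_zero]
  have hdetψ : LinearMap.det ψ = μ * μ := by
    rw [← LinearMap.det_toMatrix Ba ψ]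
    have hm : LinearMap.toMatrix Ba Ba ψ = Matrix.diagonal c := by
      ext x y
      rw [LinearMap.toMatrix_apply, hψ, map_smul, Basis.repr_self, Finsupp.smul_apply,
        Finsupp.single_apply, Matrix.diagonal_apply]
      by_cases hxy : x = y
      · subst hxy; simp
      · simp [hxy, Ne.symm hxy]
    rw [hm, Matrix.det_diagonal, Fintype.prod_sum_type, Fintype.prod_sum_type]
    simp [c, d, Finset.prod_ite_eq']
  refine ⟨LinearMap.toMatrix' ((φ : (Fin n → F) →ₗ[F] (Fin n → F)) ∘ₗ ψ), ?_, ?_⟩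
  · rw [LinearMap.det_toMatrix', LinearMap.det_comp, hdetψ, ← hμ, mul_inv_cancel₀ hdetφ]
  · have hint : ((φ : (Fin n → F) →ₗ[F] (Fin n → F)) ∘ₗ ψ) ∘ₗ Na.mulVecLin
        = Nb.mulVecLin ∘ₗ ((φ : (Fin n → F) →ₗ[F] (Fin n → F)) ∘ₗ ψ) := by
      rw [LinearMap.comp_assoc, hψcomm, ← LinearMap.comp_assoc, hφint, LinearMap.comp_assoc]
    have e1 : LinearMap.toMatrix' Na.mulVecLin = Na := by
      rw [← Matrix.toLin'_apply', LinearMap.toMatrix'_toLin']
    have e2 : LinearMap.toMatrix' Nb.mulVecLin = Nb := by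
      rw [← Matrix.toLin'_apply', LinearMap.toMatrix'_toLin']
    calc LinearMap.toMatrix' ((φ : (Fin n → F) →ₗ[F] (Fin n → F)) ∘ₗ ψ) * Na
        = LinearMap.toMatrix' ((φ : (Fin n → F) →ₗ[F] (Fin n → F)) ∘ₗ ψ)
            * LinearMap.toMatrix' Na.mulVecLin := by rw [e1]
      _ = LinearMap.toMatrix' (((φ : (Fin n → F) →ₗ[F] (Fin n → F)) ∘ₗ ψ) ∘ₗ Na.mulVecLin) :=
          (LinearMap.toMatrix'_comp _ _).symm
      _ = LinearMap.toMatrix' (Nb.mulVecLin ∘ₗ ((φ : (Fin n → F) →ₗ[F] (Fin n → F)) ∘ₗ ψ)) := by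
          rw [hint]
      _ = LinearMap.toMatrix' Nb.mulVecLin
            * LinearMap.toMatrix' ((φ : (Fin n → F) →ₗ[F] (Fin n → F)) ∘ₗ ψ) :=
          LinearMap.toMatrix'_comp _ _
      _ = Nb * LinearMap.toMatrix' ((φ : (Fin n → F) →ₗ[F] (Fin n → F)) ∘ₗ ψ) := by rw [e2]

end
/-- Conjugacy of involutions in the special linear group over a finite field of characteristic two, in dimension at least 3: two elements of order 2 of SL_n(F) are conjugate in SL_n(F) exactly when the matrices a − 1 and b − 1 have the same rank (the rank of a − 1 is the dimension of the commutator space [V, a]). -/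
theorem result {F : Type*} [Field F] [Fintype F] [CharP F 2] {n : ℕ} (hn : 3 ≤ n) (a b : Matrix.SpecialLinearGroup (Fin n) F) (ha : orderOf a = 2) (hb : orderOf b = 2) :
    IsConj a b ↔ ((a : Matrix (Fin n) (Fin n) F) - 1).rank = ((b : Matrix (Fin n) (Fin n) F) - 1).rank := by
  classical
  have ha2 : a ^ 2 = 1 := by rw [← ha]; exact pow_orderOf_eq_one a
  have hb2 : b ^ 2 = 1 := by rw [← hb]; exact pow_orderOf_eq_one b
  have ha1 : a ≠ 1 := by
    intro h
    rw [h, orderOf_one] at ha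
    omega
  constructor
  · intro hconj
    obtain ⟨c, hc⟩ := isConj_iff.1 hconj
    have h2 : (c : Matrix (Fin n) (Fin n) F) * ((c⁻¹ : Matrix.SpecialLinearGroup (Fin n) F) :
        Matrix (Fin n) (Fin n) F) = 1 := by
      rw [← Matrix.SpecialLinearGroup.coe_mul, mul_inv_cancel, Matrix.SpecialLinearGroup.coe_one]
    have h1 : (b : Matrix (Fin n) (Fin n) F) - 1 = (c : Matrix (Fin n) (Fin n) F) *
        ((a : Matrix (Fin n) (Fin n) F) - 1) * ((c⁻¹ : Matrix.SpecialLinearGroup (Fin n) F) :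
        Matrix (Fin n) (Fin n) F) := by
      rw [Matrix.mul_sub, Matrix.sub_mul, mul_one, h2, ← hc, Matrix.SpecialLinearGroup.coe_mul,
        Matrix.SpecialLinearGroup.coe_mul]
    rw [h1, Matrix.rank_mul_eq_left_of_isUnit_det _ _
        (by rw [Matrix.SpecialLinearGroup.det_coe]; exact isUnit_one),
      Matrix.rank_mul_eq_right_of_isUnit_det _ _
        (by rw [Matrix.SpecialLinearGroup.det_coe]; exact isUnit_one)]
  · intro hrank
    have hA : (a : Matrix (Fin n) (Fin n) F) * (a : Matrix (Fin n) (Fin n) F) = 1 := by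
      rw [← Matrix.SpecialLinearGroup.coe_mul, ← pow_two, ha2, Matrix.SpecialLinearGroup.coe_one]
    have hB : (b : Matrix (Fin n) (Fin n) F) * (b : Matrix (Fin n) (Fin n) F) = 1 := by
      rw [← Matrix.SpecialLinearGroup.coe_mul, ← pow_two, hb2, Matrix.SpecialLinearGroup.coe_one]
    have hNa := sq_zero_of_sq_one _ hA
    have hNb := sq_zero_of_sq_one _ hB
    have hne : (a : Matrix (Fin n) (Fin n) F) - 1 ≠ 0 := by
      intro h
      apply ha1
      apply Subtype.ext
      exact (sub_eq_zero.1 h).trans Matrix.SpecialLinearGroup.coe_one.symm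
    have hr1 := rank_pos_of_ne_zero _ hne
    obtain ⟨G, hG1, hG2⟩ := exists_intertwiner _ _ hNa hNb _ rfl hrank.symm hr1
    obtain ⟨σ, hσ⟩ : ∃ σ : Matrix.SpecialLinearGroup (Fin n) F,
        (σ : Matrix (Fin n) (Fin n) F) = G := ⟨⟨G, hG1⟩, rfl⟩
    rw [isConj_iff]
    refine ⟨σ, ?_⟩
    rw [mul_inv_eq_iff_eq_mul]
    apply Subtype.ext
    rw [Matrix.SpecialLinearGroup.coe_mul, Matrix.SpecialLinearGroup.coe_mul, hσ]
    rw [Matrix.mul_sub, Matrix.sub_mul, mul_one, one_mul] at hG2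
    exact sub_left_inj.1 hG2

end Cfsg.Agent.S2162
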