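import Cfsg.Statements.S2163

set_option autoImplicit false
open Cfsg

namespace Cfsg.Agent.S2163

/-- In characteristic two, `x * x = 1` forces `x = 1` in a field. -/
theorem eq_one_of_mul_self_eq_one {F : Type*} [Field F] [CharP F 2] (x : F) (h : x * x = 1) : x = 1 := by
  have h2 : (x + 1) * (x + 1) = 0 := by
    have : (x + 1) * (x + 1) = x * x + 1 + (x + x) := by ring
    rw [this, h, CharTwo.add_self_eq_zero, CharTwo.add_self_eq_zero, add_zero]
  have h3 : x + 1 = 0 := by
    rcases mul_eq_zero.1 h2 with h | h <;> exact h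
  have : x = -1 := eq_neg_of_add_eq_zero_left h3
  rw [this, CharTwo.neg_eq]

/-- Over a finite field of characteristic two and for n ≥ 3: for every ℓ with 1 ≤ ℓ and 2ℓ ≤ n, the matrix j_ℓ that is the identity plus the entries 1 in positions (n − ℓ + i, i) for i < ℓ (an identity block of size ℓ in the lower left corner) lies in SL_n(F), has order 2, and j_ℓ − 1 has rank ℓ. Together with the conjugacy criterion by rank, these matrices represent the conjugacy classes of involutions of SL_n(F). -/
theorem result {F : Type*} [Field F] [Fintype F] [CharP F 2] {n : ℕ} (hn : 3 ≤ n) (ℓ : ℕ) (h1 : 1 ≤ ℓ) (h2 : 2 * ℓ ≤ n) :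
    ∃ a : Matrix.SpecialLinearGroup (Fin n) F, (a : Matrix (Fin n) (Fin n) F) = 1 + Matrix.of (fun i j : Fin n => if j.val < ℓ ∧ i.val = j.val + (n - ℓ) then (1 : F) else 0) ∧ orderOf a = 2 ∧ ((a : Matrix (Fin n) (Fin n) F) - 1).rank = ℓ := by
  classical
  set E : Matrix (Fin n) (Fin n) F :=
    Matrix.of (fun i j : Fin n => if j.val < ℓ ∧ i.val = j.val + (n - ℓ) then (1 : F) else 0) with hE
  have hEapp : ∀ i j : Fin n, E i j = if j.val < ℓ ∧ i.val = j.val + (n - ℓ) then (1 : F) else 0 :=
    fun i j => rfl
  have hEE : E * E = 0 := by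
    ext i k
    rw [Matrix.mul_apply, Matrix.zero_apply]
    apply Finset.sum_eq_zero
    intro j _
    rw [hEapp, hEapp]
    by_cases h1' : j.val < ℓ ∧ i.val = j.val + (n - ℓ)
    · have h2' : ¬ (k.val < ℓ ∧ j.val = k.val + (n - ℓ)) := by
        rintro ⟨_, h3⟩
        omega
      rw [if_neg h2', mul_zero]
    · rw [if_neg h1', zero_mul]
  have : Nonempty (Fin n) := ⟨⟨0, by omega⟩⟩
  have hMM : (1 + E) * (1 + E) = 1 := by
    have : (1 + E) * (1 + E) = 1 + (E + E) + E * E := by
      rw [mul_add, add_mul, add_mul, one_mul, mul_one, one_mul]; abel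
    rw [this, hEE, CharTwo.add_self_eq_zero, add_zero, add_zero]
  have hdet : (1 + E).det = 1 := by
    apply eq_one_of_mul_self_eq_one
    rw [← Matrix.det_mul, hMM, Matrix.det_one]
  have hEne : E ≠ 0 := by
    intro h
    have h3 := congrFun (congrFun h ⟨n - ℓ, by omega⟩) ⟨0, by omega⟩
    rw [hEapp, if_pos ⟨by show 0 < ℓ; omega, by simp⟩, Matrix.zero_apply] at h3
    exact one_ne_zero h3
  let a : Matrix.SpecialLinearGroup (Fin n) F := ⟨1 + E, hdet⟩
  refine ⟨a, rfl, ?_, ?_⟩
  · have : Fact (Nat.Prime 2) := ⟨Nat.prime_two⟩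
    apply orderOf_eq_prime
    · rw [pow_two]
      apply Subtype.ext
      show (1 + E) * (1 + E) = 1
      exact hMM
    · intro h
      have h' : (1 + E : Matrix (Fin n) (Fin n) F) = 1 := congrArg Subtype.val h
      apply hEne
      have := congrArg (fun M => M - 1) h'
      simpa using this
  · show ((1 + E : Matrix (Fin n) (Fin n) F) - 1).rank = ℓ
    rw [add_sub_cancel_left]
    apply le_antisymm
    · -- rows supported on the image of k ↦ k + (n - ℓ)
      let r : Fin ℓ → Fin n := fun k => ⟨k.val + (n - ℓ), by have := k.isLt; omega⟩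
      have hsup : Function.support E.row ⊆ ((Finset.univ.image r : Finset (Fin n)) : Set (Fin n)) := by
        intro i hi
        rw [Function.mem_support] at hi
        have : ∃ j, E i j ≠ 0 := by
          by_contra hcon
          push Not at hcon
          apply hi
          funext j
          exact hcon j
        obtain ⟨j, hj⟩ := this
        rw [hEapp] at hj
        have hcond : j.val < ℓ ∧ i.val = j.val + (n - ℓ) := by
          by_contra hc
          rw [if_neg hc] at hj
          exact hj rfl
        rw [Finset.coe_image, Set.mem_image]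
        refine ⟨⟨j.val, hcond.1⟩, by simp, ?_⟩
        apply Fin.ext
        simp [r, hcond.2]
      calc E.rank ≤ (Finset.univ.image r).card := Matrix.rank_le_card_of_support_subset E _ hsup
        _ ≤ (Finset.univ : Finset (Fin ℓ)).card := Finset.card_image_le
        _ = ℓ := by simp
    · let r : Fin ℓ → Fin n := fun k => ⟨k.val + (n - ℓ), by have := k.isLt; omega⟩
      let c : Fin ℓ → Fin n := fun k => ⟨k.val, by have := k.isLt; omega⟩
      have hsub : E.submatrix r c = 1 := by
        ext k k'
        rw [Matrix.submatrix_apply, hEapp, Matrix.one_apply]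
        by_cases hkk : k = k'
        · subst hkk
          rw [if_pos rfl, if_pos ⟨k.isLt, rfl⟩]
        · rw [if_neg hkk, if_neg]
          rintro ⟨_, h4⟩
          apply hkk
          apply Fin.ext
          simp only [r, c] at h4
          omega
      calc ℓ = (1 : Matrix (Fin ℓ) (Fin ℓ) F).rank := by rw [Matrix.rank_one, Fintype.card_fin]
        _ = (E.submatrix r c).rank := by rw [hsub]
        _ ≤ E.rank := Matrix.rank_submatrix_le E r c

end Cfsg.Agent.S2163
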