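import Cfsg.Statements.S2165

set_option autoImplicit false
open Cfsg

namespace Cfsg.Agent.S2165

/-- In characteristic two, `x * x = 1` forces `x = 1` in a field. -/
theorem eq_one_of_mul_self_eq_one {F : Type*} [Field F] [CharP F 2] (x : F) (h : x * x = 1) : x = 1 := by
  have h2 : (x + 1) * (x + 1) = 0 := by
    have : (x + 1) * (x + 1) = x * x + 1 + (x + x) := by ring
    rw [this, h, CharTwo.add_self_eq_zero, CharTwo.add_self_eq_zero, add_zero]
  have h3 : x + 1 = 0 := by
    rcases mul_eq_zero.1 h2 with h | h <;> exact h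
  have : x = -1 := eq_neg_of_add_eq_zero_left h3
  rw [this, CharTwo.neg_eq]

/-- The involution of `Fin n` exchanging `i` and `i + (n - ℓ)` for `i < ℓ`. -/
def swapFun {n ℓ : ℕ} (h2 : 2 * ℓ ≤ n) (i : Fin n) : Fin n :=
  if h : i.val < ℓ then ⟨i.val + (n - ℓ), by have := i.isLt; omega⟩
  else if h' : n - ℓ ≤ i.val then ⟨i.val - (n - ℓ), by have := i.isLt; omega⟩
  else i

theorem swapFun_val {n ℓ : ℕ} (h2 : 2 * ℓ ≤ n) (i : Fin n) :
    (swapFun h2 i).val = if i.val < ℓ then i.val + (n - ℓ) else
      if n - ℓ ≤ i.val then i.val - (n - ℓ) else i.val := by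
  unfold swapFun
  split_ifs <;> rfl

theorem swapFun_invol {n ℓ : ℕ} (h2 : 2 * ℓ ≤ n) : Function.Involutive (swapFun h2) := by
  intro i
  apply Fin.ext
  rw [swapFun_val, swapFun_val]
  have := i.isLt
  split_ifs <;> omega

/-- The permutation. -/
def swapPerm {n ℓ : ℕ} (h2 : 2 * ℓ ≤ n) : Equiv.Perm (Fin n) := (swapFun_invol h2).toPerm _

theorem swapPerm_val {n ℓ : ℕ} (h2 : 2 * ℓ ≤ n) (i : Fin n) :
    (swapPerm h2 i).val = if i.val < ℓ then i.val + (n - ℓ) else
      if n - ℓ ≤ i.val then i.val - (n - ℓ) else i.val := swapFun_val h2 i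

theorem swapPerm_swapPerm {n ℓ : ℕ} (h2 : 2 * ℓ ≤ n) (i : Fin n) : swapPerm h2 (swapPerm h2 i) = i :=
  swapFun_invol h2 i

theorem cond_iff {n ℓ : ℕ} (h2 : 2 * ℓ ≤ n) (i j : Fin n) :
    ((j.val < ℓ ∧ i.val = j.val + (n - ℓ)) ∨ (i.val < ℓ ∧ j.val = i.val + (n - ℓ)) ∨
      (i = j ∧ ℓ ≤ i.val ∧ i.val < n - ℓ)) ↔ j = swapPerm h2 i := by
  rw [Fin.ext_iff, Fin.ext_iff, swapPerm_val]
  have := i.isLt
  have := j.isLt
  split_ifs <;> omega

/-- In SU_n(q), q even, n ≥ 3 (matrices of determinant 1 over the field with q² elements preserving Σ u_i v_i^q): for every ℓ with 1 ≤ ℓ and 2ℓ ≤ n, the permutation matrix of the involution of {0, …, n−1} exchanging i and n − ℓ + i for each i < ℓ lies in SU_n(q), has order 2, and differs from the identity by a matrix of rank ℓ. So every rank between 1 and n/2 occurs for involutions of SU_n(q). -/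
theorem result {F : Type*} [Field F] [Fintype F] [CharP F 2] {n q : ℕ} (hF : Fintype.card F = q ^ 2) (hn : 3 ≤ n) (ℓ : ℕ) (h1 : 1 ≤ ℓ) (h2 : 2 * ℓ ≤ n) :
    ∃ a : ↥(Cfsg.SU n F q), (((a : Matrix.SpecialLinearGroup (Fin n) F) : Matrix (Fin n) (Fin n) F) = Matrix.of (fun i j : Fin n => if (j.val < ℓ ∧ i.val = j.val + (n - ℓ)) ∨ (i.val < ℓ ∧ j.val = i.val + (n - ℓ)) ∨ (i = j ∧ ℓ ≤ i.val ∧ i.val < n - ℓ) then (1 : F) else 0)) ∧ orderOf a = 2 ∧ ((((a : Matrix.SpecialLinearGroup (Fin n) F) : Matrix (Fin n) (Fin n) F)) - 1).rank = ℓ := by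
  classical
  have hℓn : ℓ ≤ n := by omega
  set σ : Equiv.Perm (Fin n) := swapPerm h2 with hσ
  set A : Matrix (Fin n) (Fin n) F := Matrix.of (fun i j : Fin n => if (j.val < ℓ ∧ i.val = j.val + (n - ℓ)) ∨ (i.val < ℓ ∧ j.val = i.val + (n - ℓ)) ∨ (i = j ∧ ℓ ≤ i.val ∧ i.val < n - ℓ) then (1 : F) else 0) with hA
  have hAapp : ∀ i j : Fin n, A i j = if j = σ i then (1 : F) else 0 := by
    intro i j
    show (if (j.val < ℓ ∧ i.val = j.val + (n - ℓ)) ∨ (i.val < ℓ ∧ j.val = i.val + (n - ℓ)) ∨ (i = j ∧ ℓ ≤ i.val ∧ i.val < n - ℓ) then (1 : F) else 0) = _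
    by_cases h : j = σ i
    · rw [if_pos h, if_pos ((cond_iff h2 i j).2 h)]
    · rw [if_neg h, if_neg (fun hc => h ((cond_iff h2 i j).1 hc))]
  have hmulVec : ∀ (u : Fin n → F) (i : Fin n), (A.mulVec u) i = u (σ i) := by
    intro u i
    rw [Matrix.mulVec, dotProduct]
    simp only [hAapp]
    rw [Finset.sum_eq_single (σ i)]
    · rw [if_pos rfl, one_mul]
    · intro j _ hj
      rw [if_neg hj, zero_mul]
    · intro h; exact absurd (Finset.mem_univ _) h
  have hAA : A * A = 1 := by
    ext i k
    rw [Matrix.mul_apply, Matrix.one_apply]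
    simp only [hAapp]
    rw [Finset.sum_eq_single (σ i)]
    · rw [if_pos rfl, one_mul]
      by_cases hik : i = k
      · subst hik
        rw [if_pos rfl, if_pos (swapPerm_swapPerm h2 i).symm]
      · rw [if_neg hik, if_neg]
        intro hk
        apply hik
        rw [hk]
        exact (swapPerm_swapPerm h2 i).symm
    · intro j _ hj
      rw [if_neg hj, zero_mul]
    · intro h; exact absurd (Finset.mem_univ _) h
  have hdet : A.det = 1 := by
    apply eq_one_of_mul_self_eq_one
    rw [← Matrix.det_mul, hAA, Matrix.det_one]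
  let aSL : Matrix.SpecialLinearGroup (Fin n) F := ⟨A, hdet⟩
  have hmem : aSL ∈ Cfsg.SU n F q := by
    show ∀ u v, Cfsg.hermForm n F q ((Cfsg.slToMat n F aSL).mulVec u) ((Cfsg.slToMat n F aSL).mulVec v) = Cfsg.hermForm n F q u v
    intro u v
    have e : Cfsg.slToMat n F aSL = A := rfl
    rw [e]
    unfold Cfsg.hermForm
    simp only [hmulVec]
    exact Equiv.sum_comp σ (fun i => u i * v i ^ q)
  let a : ↥(Cfsg.SU n F q) := ⟨aSL, hmem⟩
  have hA00 : A ⟨0, by omega⟩ ⟨0, by omega⟩ = 0 := by
    rw [hAapp, if_neg]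
    intro h
    have := congrArg Fin.val h
    rw [swapPerm_val] at this
    simp only at this
    split_ifs at this <;> omega
  refine ⟨a, rfl, ?_, ?_⟩
  · have : Fact (Nat.Prime 2) := ⟨Nat.prime_two⟩
    apply orderOf_eq_prime
    · rw [pow_two]
      apply Subtype.ext
      apply Subtype.ext
      show A * A = 1
      exact hAA
    · intro h
      have h' : A = 1 := congrArg (fun x : ↥(Cfsg.SU n F q) => ((x : Matrix.SpecialLinearGroup (Fin n) F) : Matrix (Fin n) (Fin n) F)) h
      have := congrFun (congrFun h' ⟨0, by omega⟩) ⟨0, by omega⟩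
      rw [hA00, Matrix.one_apply_eq] at this
      exact zero_ne_one this
  · show (A - 1).rank = ℓ
    let c : Fin ℓ → Fin n := fun k => ⟨k.val, by have := k.isLt; omega⟩
    apply le_antisymm
    · -- kernel argument
      set φ : (Fin n → F) →ₗ[F] (Fin n → F) := (A - 1).mulVecLin with hφ
      set g : (Fin n → F) →ₗ[F] (Fin ℓ → F) := LinearMap.funLeft F F c with hg
      set ψ : (Fin n → F) →ₗ[F] (Fin ℓ → F) := g ∘ₗ φ with hψ
      have hφapp : ∀ (u : Fin n → F) (i : Fin n), φ u i = u (σ i) - u i := by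
        intro u i
        rw [hφ, Matrix.mulVecLin_apply, Matrix.sub_mulVec, Matrix.one_mulVec, Pi.sub_apply, hmulVec]
      have hker : LinearMap.ker ψ ≤ LinearMap.ker φ := by
        intro u hu
        rw [LinearMap.mem_ker] at hu ⊢
        have hu' : ∀ k : Fin ℓ, φ u (c k) = 0 := by
          intro k
          have := congrFun hu k
          simpa [hψ, hg, LinearMap.funLeft_apply] using this
        funext i
        rw [Pi.zero_apply]
        have hneg : ∀ i, φ u (σ i) = - φ u i := by
          intro i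
          rw [hφapp, hφapp, swapPerm_swapPerm]; ring
        by_cases hi1 : i.val < ℓ
        · exact hu' ⟨i.val, hi1⟩
        · by_cases hi2 : n - ℓ ≤ i.val
          · have hσi : (σ i).val < ℓ := by
              rw [swapPerm_val, if_neg hi1, if_pos hi2]
              have := i.isLt
              omega
            have h3 := hu' ⟨(σ i).val, hσi⟩
            have h4 : c ⟨(σ i).val, hσi⟩ = σ i := Fin.ext rfl
            rw [h4, hneg] at h3
            exact neg_eq_zero.1 h3
          · have hσi : σ i = i := by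
              apply Fin.ext
              rw [swapPerm_val, if_neg hi1, if_neg hi2]
            rw [hφapp, hσi, sub_self]
      have h1 := LinearMap.finrank_range_add_finrank_ker φ
      have h2' := LinearMap.finrank_range_add_finrank_ker ψ
      have h3 : Module.finrank F (LinearMap.ker ψ) ≤ Module.finrank F (LinearMap.ker φ) :=
        Submodule.finrank_mono hker
      have h4 : Module.finrank F (LinearMap.range ψ) ≤ ℓ := by
        have := Submodule.finrank_le (LinearMap.range ψ)
        simpa using this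
      show Module.finrank F (LinearMap.range φ) ≤ ℓ
      omega
    · have hsub : (A - 1).submatrix c c = 1 := by
        ext k k'
        rw [Matrix.submatrix_apply, Matrix.sub_apply, hAapp, Matrix.one_apply, Matrix.one_apply]
        have hne : c k' ≠ σ (c k) := by
          intro h
          have := congrArg Fin.val h
          rw [swapPerm_val] at this
          have hk := k.isLt
          have hk' := k'.isLt
          simp only [c] at this
          split_ifs at this <;> omega
        rw [if_neg hne, zero_sub]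
        by_cases hkk : k = k'
        · subst hkk
          rw [if_pos rfl, if_pos rfl, CharTwo.neg_eq]
        · rw [if_neg hkk, if_neg, neg_zero]
          intro h
          apply hkk
          apply Fin.ext
          have := congrArg Fin.val h
          simpa [c] using this
      calc ℓ = (1 : Matrix (Fin ℓ) (Fin ℓ) F).rank := by rw [Matrix.rank_one, Fintype.card_fin]
        _ = ((A - 1).submatrix c c).rank := by rw [hsub]
        _ ≤ (A - 1).rank := Matrix.rank_submatrix_le (A - 1) c c

end Cfsg.Agent.S2165
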