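import Mathlib
import Cfsg.Statements.S2167
import Cfsg.Agent.Lib.Helper2.SympForm
import Cfsg.Agent.Lib.Helper1.SympTrans
import Cfsg.Agent.S0752

set_option autoImplicit false
open Cfsg

namespace Cfsg.Agent.S2167

open Cfsg.Agent.Lib.Helper2 Matrix

section
variable {F : Type*} [Field F] {m : ℕ}

/-- `v ↦ f(v, A v)` is additive when `A` is a symplectic involution -/
theorem phi_add (A : Matrix (Fin m ⊕ Fin m) (Fin m ⊕ Fin m) F)
    (hA : A ∈ Matrix.symplecticGroup (Fin m) F) (hAA : A * A = 1) (v w : Fin m ⊕ Fin m → F) :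
    Cfsg.sympForm m F (v + w) (A *ᵥ (v + w))
      = Cfsg.sympForm m F v (A *ᵥ v) + Cfsg.sympForm m F w (A *ᵥ w) := by
  have h1 : Cfsg.sympForm m F w (A *ᵥ v) = - Cfsg.sympForm m F v (A *ᵥ w) := by
    have := sympForm_mulVec_mulVec m A hA w (A *ᵥ v)
    rw [Matrix.mulVec_mulVec, hAA, Matrix.one_mulVec] at this
    rw [← this, sympForm_swap]
  rw [Matrix.mulVec_add, sympForm_add_left, sympForm_add_right, sympForm_add_right, h1]
  ring

/-- the additive map `v ↦ f(v, A v)` -/
def phiHom (A : Matrix (Fin m ⊕ Fin m) (Fin m ⊕ Fin m) F)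
    (hA : A ∈ Matrix.symplecticGroup (Fin m) F) (hAA : A * A = 1) :
    (Fin m ⊕ Fin m → F) →+ F where
  toFun v := Cfsg.sympForm m F v (A *ᵥ v)
  map_zero' := by
    rw [Matrix.mulVec_zero]
    exact sympForm_self m 0
  map_add' := phi_add A hA hAA

theorem phiHom_apply (A : Matrix (Fin m ⊕ Fin m) (Fin m ⊕ Fin m) F)
    (hA : A ∈ Matrix.symplecticGroup (Fin m) F) (hAA : A * A = 1) (v : Fin m ⊕ Fin m → F) :
    phiHom A hA hAA v = Cfsg.sympForm m F v (A *ᵥ v) := rfl

theorem phiHom_smul (A : Matrix (Fin m ⊕ Fin m) (Fin m ⊕ Fin m) F)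
    (hA : A ∈ Matrix.symplecticGroup (Fin m) F) (hAA : A * A = 1) (c : F)
    (v : Fin m ⊕ Fin m → F) :
    phiHom A hA hAA (c • v) = c * c * phiHom A hA hAA v := by
  rw [phiHom_apply, phiHom_apply, Matrix.mulVec_smul, sympForm_smul_left, sympForm_smul_right]
  ring

theorem part1 [Fintype F] [CharP F 2] (A : Matrix (Fin m ⊕ Fin m) (Fin m ⊕ Fin m) F)
    (hA : A ∈ Matrix.symplecticGroup (Fin m) F) (hAA : A * A = 1) :
    Nat.card {v : Fin m ⊕ Fin m → F // Cfsg.sympForm m F v (A *ᵥ v) = 0}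
        = Fintype.card F ^ (2 * m) ∨
      Nat.card {v : Fin m ⊕ Fin m → F // Cfsg.sympForm m F v (A *ᵥ v) = 0} * Fintype.card F
        = Fintype.card F ^ (2 * m) := by
  classical
  set Φ := phiHom A hA hAA with hΦ
  have hcardV : Nat.card (Fin m ⊕ Fin m → F) = Fintype.card F ^ (2 * m) := by
    rw [Nat.card_eq_fintype_card, Fintype.card_fun, Fintype.card_sum, Fintype.card_fin, two_mul]
  have hker : Nat.card {v : Fin m ⊕ Fin m → F // Cfsg.sympForm m F v (A *ᵥ v) = 0}
      = Nat.card Φ.ker := rfl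
  have hmul := AddSubgroup.card_mul_index Φ.ker
  rw [AddSubgroup.index_ker, hcardV] at hmul
  rw [hker]
  by_cases hzero : ∀ v, Φ v = 0
  · left
    have hr : Nat.card Φ.range = 1 := by
      have : Φ.range = ⊥ := by
        rw [eq_bot_iff]
        rintro y ⟨v, rfl⟩
        rw [AddSubgroup.mem_bot]
        exact hzero v
      rw [this]
      exact AddSubgroup.card_bot
    rw [hr, mul_one] at hmul
    exact hmul
  · right
    have hr : Φ.range = ⊤ := by
      rw [eq_top_iff]
      intro z _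
      have : ∃ v, Φ v ≠ 0 := by
        by_contra h
        apply hzero
        intro v
        by_contra h'
        exact h ⟨v, h'⟩
      obtain ⟨v, hv⟩ := this
      obtain ⟨d, hd⟩ := FiniteField.isSquare_of_char_two (F := F) (CharP.ringChar_of_prime_eq_zero
        Nat.prime_two (CharP.cast_eq_zero F 2)) (z / Φ v)
      refine ⟨d • v, ?_⟩
      rw [phiHom_smul, ← hd, div_mul_cancel₀ _ hv]
    rw [hr] at hmul
    have htop : Nat.card (⊤ : AddSubgroup F) = Fintype.card F := by
      rw [← Nat.card_eq_fintype_card]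
      exact Nat.card_congr AddSubgroup.topEquiv.toEquiv
    rw [htop] at hmul
    exact hmul

/-- the bilinear form `(v, w) ↦ f(v, N w)` -/
def Gform (N : Matrix (Fin m ⊕ Fin m) (Fin m ⊕ Fin m) F) :
    LinearMap.BilinForm F (Fin m ⊕ Fin m → F) :=
  LinearMap.mk₂ F (fun v w => Cfsg.sympForm m F v (N *ᵥ w))
    (fun v v' w => sympForm_add_left m v v' _)
    (fun c v w => by rw [sympForm_smul_left]; rfl)
    (fun v w w' => by rw [Matrix.mulVec_add, sympForm_add_right])
    (fun c v w => by rw [Matrix.mulVec_smul, sympForm_smul_right]; rfl)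

theorem Gform_apply (N : Matrix (Fin m ⊕ Fin m) (Fin m ⊕ Fin m) F) (v w : Fin m ⊕ Fin m → F) :
    Gform N v w = Cfsg.sympForm m F v (N *ᵥ w) := rfl

theorem even_finrank_of_alt {U : Type*} [AddCommGroup U] [Module F U] [FiniteDimensional F U]
    (B : LinearMap.BilinForm F U) (hB : B.Nondegenerate) (hA : B.IsAlt) :
    Even (Module.finrank F U) := by
  classical
  obtain ⟨k, r, b, h1, h2, h3, h4⟩ := Cfsg.Agent.S0752.result B hA
  have hr : r = 0 := by
    by_contra hr
    have hpos : 0 < r := Nat.pos_of_ne_zero hr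
    have := b.ne_zero (Sum.inr ⟨0, hpos⟩)
    exact this (hB.1 _ (h4 _))
  subst hr
  have := Module.finrank_eq_card_basis b
  rw [Fintype.card_sum, Fintype.card_sum, Fintype.card_fin, Fintype.card_fin] at this
  rw [this]
  exact ⟨k, by omega⟩

theorem part2 (A : Matrix (Fin m ⊕ Fin m) (Fin m ⊕ Fin m) F)
    (hall : ∀ v : Fin m ⊕ Fin m → F, Cfsg.sympForm m F v (A *ᵥ v) = 0) :
    Even (A - 1).rank := by
  classical
  set N : Matrix (Fin m ⊕ Fin m) (Fin m ⊕ Fin m) F := A - 1 with hN
  have hGalt : ∀ v, Gform N v v = 0 := by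
    intro v
    rw [Gform_apply, hN, Matrix.sub_mulVec, Matrix.one_mulVec, sympForm_sub_right, hall,
      sympForm_self, sub_zero]
  have hGskew : ∀ v w, Gform N v w = - Gform N w v := by
    intro v w
    have h := hGalt (v + w)
    simp only [map_add, LinearMap.add_apply, hGalt] at h
    linear_combination h
  have hnd : ∀ y : Fin m ⊕ Fin m → F, (∀ x, Cfsg.sympForm m F x y = 0) → y = 0 := by
    intro y hy
    by_contra hne
    obtain ⟨z, hz⟩ := Cfsg.Agent.Lib.Helper1.exists_sympForm_ne_zero m y hne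
    apply hz
    rw [sympForm_swap, hy, neg_zero]
  obtain ⟨C, hC⟩ := Submodule.exists_isCompl (LinearMap.ker N.mulVecLin)
  -- every vector is a sum from ker and C
  have hdecomp : ∀ x : Fin m ⊕ Fin m → F, ∃ k ∈ LinearMap.ker N.mulVecLin, ∃ c ∈ C, k + c = x := by
    intro x
    have : x ∈ LinearMap.ker N.mulVecLin ⊔ C := by
      rw [hC.sup_eq_top]
      exact Submodule.mem_top
    exact Submodule.mem_sup.1 this
  have hker : ∀ k ∈ LinearMap.ker N.mulVecLin, N *ᵥ k = 0 := fun k hk => hk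
  have hzero : ∀ y ∈ C, N *ᵥ y = 0 → y = 0 := by
    intro y hyC hy
    have : y ∈ LinearMap.ker N.mulVecLin ⊓ C := ⟨hy, hyC⟩
    rw [hC.inf_eq_bot] at this
    exact this
  have hBnd : ((Gform N).restrict C).Nondegenerate := by
    refine ⟨?_, ?_⟩
    · intro x hx
      apply Subtype.ext
      apply hzero x.1 x.2
      apply hnd
      intro z
      obtain ⟨k, hk, c, hc, rfl⟩ := hdecomp z
      have h1 : Cfsg.sympForm m F c (N *ᵥ x.1) = 0 := by
        have := hx ⟨c, hc⟩
        have h2 : Gform N x.1 c = 0 := this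
        rw [hGskew, neg_eq_zero] at h2
        exact h2
      have h3 : Cfsg.sympForm m F k (N *ᵥ x.1) = 0 := by
        have : Gform N k x.1 = - Gform N x.1 k := hGskew k x.1
        rw [Gform_apply, Gform_apply, hker k hk, ] at this
        rw [this]
        unfold Cfsg.sympForm
        rw [Matrix.mulVec_zero, dotProduct_zero, neg_zero]
      rw [sympForm_add_left, h1, h3, add_zero]
    · intro y hy
      apply Subtype.ext
      apply hzero y.1 y.2
      apply hnd
      intro z
      obtain ⟨k, hk, c, hc, rfl⟩ := hdecomp z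
      have h1 : Cfsg.sympForm m F c (N *ᵥ y.1) = 0 := hy ⟨c, hc⟩
      have h3 : Cfsg.sympForm m F k (N *ᵥ y.1) = 0 := by
        have : Gform N k y.1 = - Gform N y.1 k := hGskew k y.1
        rw [Gform_apply, Gform_apply, hker k hk] at this
        rw [this]
        unfold Cfsg.sympForm
        rw [Matrix.mulVec_zero, dotProduct_zero, neg_zero]
      rw [sympForm_add_left, h1, h3, add_zero]
  have hBalt : ((Gform N).restrict C).IsAlt := fun x => hGalt x.1
  have heven := even_finrank_of_alt _ hBnd hBalt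
  have h1 := Submodule.finrank_add_eq_of_isCompl hC
  have h2 := LinearMap.finrank_range_add_finrank_ker N.mulVecLin
  have h3 : N.rank = Module.finrank F (LinearMap.range N.mulVecLin) := rfl
  have h4 : N.rank = Module.finrank F C := by omega
  rw [h4]
  exact heven

end

theorem result {F : Type*} [Field F] [Fintype F] [CharP F 2] {m : ℕ} (hm : 2 ≤ m) (a : ↥(Matrix.symplecticGroup (Fin m) F)) (ha : orderOf a = 2) :
    (Nat.card {v : Fin m ⊕ Fin m → F // Cfsg.sympForm m F v (Matrix.mulVec ((a : ↥(Matrix.symplecticGroup (Fin m) F)) : Matrix (Fin m ⊕ Fin m) (Fin m ⊕ Fin m) F) v) = 0} = Fintype.card F ^ (2 * m) ∨ Nat.card {v : Fin m ⊕ Fin m → F // Cfsg.sympForm m F v (Matrix.mulVec ((a : ↥(Matrix.symplecticGroup (Fin m) F)) : Matrix (Fin m ⊕ Fin m) (Fin m ⊕ Fin m) F) v) = 0} * Fintype.card F = Fintype.card F ^ (2 * m)) ∧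
    ((∀ v : Fin m ⊕ Fin m → F, Cfsg.sympForm m F v (Matrix.mulVec ((a : ↥(Matrix.symplecticGroup (Fin m) F)) : Matrix (Fin m ⊕ Fin m) (Fin m ⊕ Fin m) F) v) = 0) → Even (((a : ↥(Matrix.symplecticGroup (Fin m) F)) : Matrix (Fin m ⊕ Fin m) (Fin m ⊕ Fin m) F) - 1).rank) := by
  have hAA : (a : Matrix (Fin m ⊕ Fin m) (Fin m ⊕ Fin m) F) * (a : Matrix (Fin m ⊕ Fin m) (Fin m ⊕ Fin m) F) = 1 := by
    have h := pow_orderOf_eq_one a
    rw [ha, pow_two] at h
    exact congrArg Subtype.val h
  exact ⟨part1 a.1 a.2 hAA, part2 a.1⟩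

end Cfsg.Agent.S2167
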