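import Cfsg.Statements.S2231

set_option autoImplicit false
open Cfsg

namespace Cfsg.Agent.S2231

def AbSyl (p : ℕ) (X : Type*) [Group X] : Prop :=
  ∀ S : Sylow p X, ∀ x ∈ S, ∀ y ∈ S, x * y = y * x

theorem absyl_of_surjective {p : ℕ} [Fact p.Prime] {X Y : Type*} [Group X] [Group Y] [Finite X]
    (h : AbSyl p X) (f : X →* Y) (hf : Function.Surjective f) : AbSyl p Y := by
  intro S x hx y hy
  obtain ⟨S0, rfl⟩ := Sylow.mapSurjective_surjective hf p S
  have hx' : x ∈ (S0 : Subgroup X).map f := hx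
  have hy' : y ∈ (S0 : Subgroup X).map f := hy
  obtain ⟨x0, hx0, rfl⟩ := Subgroup.mem_map.1 hx'
  obtain ⟨y0, hy0, rfl⟩ := Subgroup.mem_map.1 hy'
  rw [← map_mul, ← map_mul, h S0 x0 hx0 y0 hy0]

theorem absyl_subgroup {p : ℕ} [Fact p.Prime] {G : Type*} [Group G]
    (h : AbSyl p G) (H : Subgroup G) : AbSyl p ↥H := by
  intro S x hx y hy
  have hP : IsPGroup p ((S : Subgroup H).map H.subtype) := S.isPGroup'.map _
  obtain ⟨Q, hQ⟩ := hP.exists_le_sylow
  have := h Q (x : G) (hQ (Subgroup.mem_map_of_mem _ hx)) (y : G) (hQ (Subgroup.mem_map_of_mem _ hy))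
  exact Subtype.ext this

section SL2
variable {p : ℕ} [Fact p.Prime] {K : Type*} [Field K] [Fintype K] [CharP K p]

def slAct (P : Subgroup (Matrix.SpecialLinearGroup (Fin 2) K)) : MulAction ↥P (Fin 2 → K) where
  smul g v := (g.1.1).mulVec v
  one_smul v := by
    show ((1 : ↥P).1.1).mulVec v = v
    simp
  mul_smul g h v := by
    show ((g * h).1.1).mulVec v = (g.1.1).mulVec ((h.1.1).mulVec v)
    simp only [Subgroup.coe_mul, Matrix.SpecialLinearGroup.coe_mul, Matrix.mulVec_mulVec]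

theorem sl2_pgroup_comm (P : Subgroup (Matrix.SpecialLinearGroup (Fin 2) K)) (hP : IsPGroup p P)
    (g : Matrix.SpecialLinearGroup (Fin 2) K) (hg : g ∈ P)
    (h : Matrix.SpecialLinearGroup (Fin 2) K) (hh : h ∈ P) : g * h = h * g := by
  classical
  letI := slAct P
  have hcard : p ∣ Nat.card (Fin 2 → K) := by
    obtain ⟨n, -, hn⟩ := FiniteField.card K p
    rw [Nat.card_eq_fintype_card, Fintype.card_fun, Fintype.card_fin, hn]
    exact dvd_pow (dvd_pow_self p (PNat.ne_zero n)) two_ne_zero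
  have h0 : (0 : Fin 2 → K) ∈ MulAction.fixedPoints ↥P (Fin 2 → K) := by
    intro g
    show (g.1.1).mulVec 0 = 0
    simp
  obtain ⟨v, hv, hv0⟩ :=
    hP.exists_fixed_point_of_prime_dvd_card_of_fixed_point (Fin 2 → K) hcard h0
  have hgv : (g.1).mulVec v = v := hv ⟨g, hg⟩
  have hhv : (h.1).mulVec v = v := hv ⟨h, hh⟩
  have hdg : (g.1).det = 1 := g.2
  have hdh : (h.1).det = 1 := h.2
  have hv' : v 0 ≠ 0 ∨ v 1 ≠ 0 := by
    by_contra hcon
    push Not at hcon
    apply hv0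
    funext i
    fin_cases i
    · exact hcon.1.symm
    · exact hcon.2.symm
  rw [Matrix.det_fin_two] at hdg hdh
  have e1 := congrFun hgv 0
  have e2 := congrFun hgv 1
  have f1 := congrFun hhv 0
  have f2 := congrFun hhv 1
  simp only [Matrix.mulVec, dotProduct, Fin.sum_univ_two] at e1 e2 f1 f2
  apply Subtype.ext
  rw [Matrix.SpecialLinearGroup.coe_mul, Matrix.SpecialLinearGroup.coe_mul]
  ext i j
  rcases hv' with hx | hy
  · fin_cases i <;> fin_cases j
    all_goals simp only [Matrix.mul_apply, Fin.sum_univ_two, Fin.zero_eta, Fin.mk_one]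
    all_goals grind
  · fin_cases i <;> fin_cases j
    all_goals simp only [Matrix.mul_apply, Fin.sum_univ_two, Fin.zero_eta, Fin.mk_one]
    all_goals grind

theorem psl_absyl : AbSyl p (Matrix.ProjectiveSpecialLinearGroup (Fin 2) K) := by
  have h0 : AbSyl p (Matrix.SpecialLinearGroup (Fin 2) K) :=
    fun S x hx y hy => sl2_pgroup_comm S.1 S.isPGroup' x hx y hy
  exact absyl_of_surjective h0 (QuotientGroup.mk' _) (QuotientGroup.mk'_surjective _)

end SL2

section Qd
variable {p : ℕ} [Fact p.Prime]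

def phiMat (u : ZMod p × ZMod p) : Matrix (Fin 3) (Fin 3) (ZMod p) :=
  !![1, 0, u.1; 0, 1, u.2; 0, 0, 1]

theorem phiMat_det (u : ZMod p × ZMod p) : (phiMat u).det = 1 := by
  simp [phiMat, Matrix.det_fin_three]

def phiSL (u : ZMod p × ZMod p) : Matrix.SpecialLinearGroup (Fin 3) (ZMod p) :=
  ⟨phiMat u, phiMat_det u⟩

theorem phiSL_mul (u w : ZMod p × ZMod p) : phiSL (u + w) = phiSL u * phiSL w := by
  apply Subtype.ext
  rw [Matrix.SpecialLinearGroup.coe_mul]
  show phiMat (u + w) = phiMat u * phiMat w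
  ext i j
  fin_cases i <;> fin_cases j <;>
    simp [phiMat, Matrix.mul_apply, Fin.sum_univ_three, add_comm]

theorem phiSL_zero : phiSL (0 : ZMod p × ZMod p) = 1 := by
  apply Subtype.ext
  show phiMat (0 : ZMod p × ZMod p) = 1
  rw [Matrix.one_fin_three]
  simp [phiMat]

def phi : Multiplicative (ZMod p × ZMod p) →* Matrix.SpecialLinearGroup (Fin 3) (ZMod p) where
  toFun u := phiSL (Multiplicative.toAdd u)
  map_one' := phiSL_zero
  map_mul' _ _ := phiSL_mul _ _

theorem psi_det (t : ZMod p) :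
    (Matrix.transvection (0 : Fin 3) (1 : Fin 3) t).det = 1 :=
  Matrix.det_transvection_of_ne _ _ (by decide) t

def psiSL (t : ZMod p) : Matrix.SpecialLinearGroup (Fin 3) (ZMod p) :=
  ⟨Matrix.transvection 0 1 t, psi_det t⟩

theorem psiSL_zero : psiSL (0 : ZMod p) = 1 := by
  apply Subtype.ext
  show Matrix.transvection (0 : Fin 3) (1 : Fin 3) (0 : ZMod p) = 1
  simp [Matrix.transvection]

theorem psiSL_add (s t : ZMod p) : psiSL (s + t) = psiSL s * psiSL t := by
  apply Subtype.ext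
  rw [Matrix.SpecialLinearGroup.coe_mul]
  show Matrix.transvection (0 : Fin 3) (1 : Fin 3) (s + t) =
    Matrix.transvection (0 : Fin 3) (1 : Fin 3) s * Matrix.transvection (0 : Fin 3) (1 : Fin 3) t
  exact (Matrix.transvection_mul_transvection_same (0 : Fin 3) (1 : Fin 3) (by decide) s t).symm

def psi : Multiplicative (ZMod p) →* Matrix.SpecialLinearGroup (Fin 3) (ZMod p) where
  toFun t := psiSL (Multiplicative.toAdd t)
  map_one' := psiSL_zero
  map_mul' _ _ := psiSL_add _ _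

theorem key_conj (g : Matrix.SpecialLinearGroup (Fin 3) (ZMod p))
    (hg : (g.1) 2 0 = 0 ∧ (g.1) 2 1 = 0 ∧ (g.1) 2 2 = 1) (u : ZMod p × ZMod p) :
    g * phiSL u = phiSL (g.1 0 0 * u.1 + g.1 0 1 * u.2, g.1 1 0 * u.1 + g.1 1 1 * u.2) * g := by
  apply Subtype.ext
  rw [Matrix.SpecialLinearGroup.coe_mul, Matrix.SpecialLinearGroup.coe_mul]
  show g.1 * phiMat u = phiMat _ * g.1
  ext i j
  fin_cases i <;> fin_cases j <;>
    simp [phiMat, Matrix.mul_apply, Fin.sum_univ_three, hg.1, hg.2.1, hg.2.2] <;> ring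

theorem qd_last_row (g : Matrix.SpecialLinearGroup (Fin 3) (ZMod p)) (hg : g ∈ Cfsg.qd p) :
    (g.1) 2 0 = 0 ∧ (g.1) 2 1 = 0 ∧ (g.1) 2 2 = 1 := by
  unfold Cfsg.qd at hg
  induction hg using Subgroup.closure_induction with
  | mem x hx => exact hx
  | one => simp
  | mul x y _ _ hx hy =>
    rw [Matrix.SpecialLinearGroup.coe_mul]
    simp [Matrix.mul_apply, Fin.sum_univ_three, hx.1, hx.2.1, hx.2.2, hy.1, hy.2.1, hy.2.2]
  | inv x _ hx =>
    obtain ⟨y, hy⟩ : ∃ y, y = x⁻¹ := ⟨_, rfl⟩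
    rw [← hy]
    have h1 : x.1 * y.1 = 1 := by
      rw [hy, ← Matrix.SpecialLinearGroup.coe_mul, mul_inv_cancel, Matrix.SpecialLinearGroup.coe_one]
    have e0 := congrFun (congrFun h1 2) 0
    have e1 := congrFun (congrFun h1 2) 1
    have e2 := congrFun (congrFun h1 2) 2
    simp [Matrix.mul_apply, Fin.sum_univ_three, hx.1, hx.2.1, hx.2.2] at e0 e1 e2
    exact ⟨e0, e1, e2⟩

theorem a0_mem : psi (p := p) (Multiplicative.ofAdd 1) ∈ Cfsg.qd p := by
  apply Subgroup.subset_closure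
  show (Matrix.transvection (0 : Fin 3) (1 : Fin 3) (1 : ZMod p)) 2 0 = 0 ∧
    (Matrix.transvection (0 : Fin 3) (1 : Fin 3) (1 : ZMod p)) 2 1 = 0 ∧
    (Matrix.transvection (0 : Fin 3) (1 : Fin 3) (1 : ZMod p)) 2 2 = 1
  simp [Matrix.transvection]

theorem b0_mem : phi (p := p) (Multiplicative.ofAdd (0, 1)) ∈ Cfsg.qd p := by
  apply Subgroup.subset_closure
  show (phiMat ((0, 1) : ZMod p × ZMod p)) 2 0 = 0 ∧ (phiMat ((0, 1) : ZMod p × ZMod p)) 2 1 = 0 ∧
    (phiMat ((0, 1) : ZMod p × ZMod p)) 2 2 = 1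
  simp [phiMat]

theorem ab_not_comm :
    psi (p := p) (Multiplicative.ofAdd 1) * phi (Multiplicative.ofAdd (0, 1)) ≠
      phi (Multiplicative.ofAdd (0, 1)) * psi (Multiplicative.ofAdd 1) := by
  intro hcomm
  have h1 := congrArg (fun M : Matrix.SpecialLinearGroup (Fin 3) (ZMod p) => M.1 0 2) hcomm
  simp only [Matrix.SpecialLinearGroup.coe_mul] at h1
  have h2 : (Matrix.transvection (0 : Fin 3) (1 : Fin 3) (1 : ZMod p) *
      phiMat ((0, 1) : ZMod p × ZMod p)) 0 2 =
      (phiMat ((0, 1) : ZMod p × ZMod p) * Matrix.transvection (0 : Fin 3) (1 : Fin 3) (1 : ZMod p)) 0 2 := h1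
  simp [phiMat, Matrix.mul_apply, Fin.sum_univ_three, Matrix.transvection, Matrix.single_apply] at h2

theorem mult_zmod_pgroup : IsPGroup p (Multiplicative (ZMod p)) := by
  apply IsPGroup.of_card (n := 1)
  rw [Nat.card_congr Multiplicative.toAdd, Nat.card_zmod, pow_one]

theorem mult_zmod2_pgroup : IsPGroup p (Multiplicative (ZMod p × ZMod p)) := by
  apply IsPGroup.of_card (n := 2)
  rw [Nat.card_congr Multiplicative.toAdd, Nat.card_prod, Nat.card_zmod, pow_two]

theorem qd_not_absyl : ¬ AbSyl p ↥(Cfsg.qd p) := by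
  intro hab
  have hVp : IsPGroup p ((phi (p := p)).range.subgroupOf (Cfsg.qd p)) :=
    (IsPGroup.of_surjective mult_zmod2_pgroup (phi (p := p)).rangeRestrict
      (phi (p := p)).rangeRestrict_surjective).comap_subtype
  have hAp : IsPGroup p ((psi (p := p)).range.subgroupOf (Cfsg.qd p)) :=
    (IsPGroup.of_surjective mult_zmod_pgroup (psi (p := p)).rangeRestrict
      (psi (p := p)).rangeRestrict_surjective).comap_subtype
  haveI hVn : ((phi (p := p)).range.subgroupOf (Cfsg.qd p)).Normal := by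
    refine ⟨fun n hn g => ?_⟩
    rw [Subgroup.mem_subgroupOf] at hn ⊢
    obtain ⟨u, hu⟩ := hn
    have hrow := qd_last_row g.1 g.2
    have h1 : ∃ u', ((g * n * g⁻¹ : ↥(Cfsg.qd p)) : Matrix.SpecialLinearGroup (Fin 3) (ZMod p))
        = phiSL u' := by
      refine ⟨(g.1.1 0 0 * (Multiplicative.toAdd u).1 + g.1.1 0 1 * (Multiplicative.toAdd u).2,
        g.1.1 1 0 * (Multiplicative.toAdd u).1 + g.1.1 1 1 * (Multiplicative.toAdd u).2), ?_⟩
      rw [Subgroup.coe_mul, Subgroup.coe_mul, Subgroup.coe_inv, ← hu]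
      show g.1 * phiSL (Multiplicative.toAdd u) * (g.1)⁻¹ = _
      rw [key_conj g.1 hrow, mul_inv_cancel_right]
    obtain ⟨u', hu'⟩ := h1
    rw [hu']
    exact ⟨Multiplicative.ofAdd u', rfl⟩
  have hsup := IsPGroup.to_sup_of_normal_left hVp hAp
  obtain ⟨S, hS⟩ := hsup.exists_le_sylow
  have ha : (⟨psi (p := p) (Multiplicative.ofAdd 1), a0_mem⟩ : ↥(Cfsg.qd p)) ∈ S :=
    hS (Subgroup.mem_sup_right (Subgroup.mem_subgroupOf.2 ⟨Multiplicative.ofAdd 1, rfl⟩))
  have hb : (⟨phi (p := p) (Multiplicative.ofAdd (0, 1)), b0_mem⟩ : ↥(Cfsg.qd p)) ∈ S :=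
    hS (Subgroup.mem_sup_left (Subgroup.mem_subgroupOf.2 ⟨Multiplicative.ofAdd (0, 1), rfl⟩))
  have hcomm := hab S _ ha _ hb
  exact ab_not_comm (congrArg Subtype.val hcomm)

end Qd

/-- Let p be an odd prime and K a finite field of characteristic p. Then Qd(p) (the natural semidirect product of an elementary abelian group of order p² by SL₂(p)) is not involved in the projective special linear group PSL₂(K). -/
theorem result {p : ℕ} [Fact p.Prime] (hp : p ≠ 2) {K : Type*} [Field K] [Fintype K] [CharP K p] : ¬ Cfsg.Involves ↥(Cfsg.qd p) (Matrix.ProjectiveSpecialLinearGroup (Fin 2) K) := by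
  rintro ⟨H, R, hN, ⟨e⟩⟩
  haveI := hN
  have h1 : AbSyl p (Matrix.ProjectiveSpecialLinearGroup (Fin 2) K) := psl_absyl
  have h2 : AbSyl p ↥H := absyl_subgroup h1 H
  have h3 : AbSyl p (↥H ⧸ R.subgroupOf H) :=
    absyl_of_surjective h2 (QuotientGroup.mk' _) (QuotientGroup.mk'_surjective _)
  have h4 : AbSyl p ↥(Cfsg.qd p) := absyl_of_surjective h3 e.toMonoidHom e.surjective
  exact qd_not_absyl h4

end Cfsg.Agent.S2231
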