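import Cfsg.Statements.S2261
import Mathlib


set_option autoImplicit false
open Cfsg

namespace Cfsg.Agent.S2261

section aux
variable {F : Type*} [Field F]

theorem smul_cancel {d : ℕ} (hd : 1 ≤ d) (u : GL (Fin d) F) (c c' : F)
    (h : c • (u : Matrix (Fin d) (Fin d) F) = c' • (u : Matrix (Fin d) (Fin d) F)) : c = c' := by
  have h1 := congrArg (fun X => X * ((u⁻¹ : GL (Fin d) F) : Matrix (Fin d) (Fin d) F)) h
  simp only [Matrix.smul_mul] at h1
  rw [← Units.val_mul, mul_inv_cancel, Units.val_one] at h1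
  have h2 := congrFun (congrFun h1 ⟨0, hd⟩) ⟨0, hd⟩
  simpa using h2

theorem pow_in_range {d : ℕ} (hd : 1 ≤ d) (M : Matrix (Fin d) (Fin d) F) (k : ℕ) :
    ∃ x : Fin d → F, M ^ k = ∑ i : Fin d, x i • M ^ (i : ℕ) := by
  classical
  have hmon := Matrix.charpoly_monic M
  have hnd : M.charpoly.natDegree = d := by
    rw [Matrix.charpoly_natDegree_eq_dim, Fintype.card_fin]
  have hne1 : M.charpoly ≠ 1 := by
    intro h
    rw [h, Polynomial.natDegree_one] at hnd
    omega
  obtain ⟨r, hr⟩ : ∃ r, r = (Polynomial.X ^ k : Polynomial F) %ₘ M.charpoly := ⟨_, rfl⟩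
  have hdeg : r.natDegree < d := by
    rw [hr]
    exact lt_of_lt_of_eq (Polynomial.natDegree_modByMonic_lt _ hmon hne1) hnd
  have h1 : Polynomial.aeval M (Polynomial.X ^ k : Polynomial F) = Polynomial.aeval M r := by
    have h2 := Polynomial.modByMonic_add_div (Polynomial.X ^ k : Polynomial F) M.charpoly
    conv_lhs => rw [← h2]
    rw [map_add, map_mul, Matrix.aeval_self_charpoly, zero_mul, add_zero, hr]
  rw [map_pow, Polynomial.aeval_X] at h1
  rw [h1, Polynomial.aeval_eq_sum_range' hdeg]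
  refine ⟨fun i => r.coeff i, ?_⟩
  rw [Fin.sum_univ_eq_sum_range (fun i => r.coeff i • M ^ i) d]

end aux

section main
variable {F : Type*} [Field F] [Fintype F]

theorem upper {d : ℕ} (hd : 1 ≤ d) (g₀ : GL (Fin d) F) :
    (Fintype.card F - 1) *
      orderOf (QuotientGroup.mk g₀ : GL (Fin d) F ⧸ Subgroup.center (GL (Fin d) F)) ≤
      Fintype.card F ^ d - 1 := by
  classical
  obtain ⟨o, ho⟩ : ∃ o, o =
    orderOf (QuotientGroup.mk g₀ : GL (Fin d) F ⧸ Subgroup.center (GL (Fin d) F)) := ⟨_, rfl⟩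
  rw [← ho]
  have hex : ∀ ci : Fˣ × Fin o, ∃ x : Fin d → F,
      (ci.1 : F) • (g₀ : Matrix (Fin d) (Fin d) F) ^ (ci.2 : ℕ) =
        ∑ i : Fin d, x i • (g₀ : Matrix (Fin d) (Fin d) F) ^ (i : ℕ) := by
    intro ci
    obtain ⟨x, hx⟩ := pow_in_range hd (g₀ : Matrix (Fin d) (Fin d) F) ci.2
    refine ⟨fun i => (ci.1 : F) * x i, ?_⟩
    rw [hx, Finset.smul_sum]
    apply Finset.sum_congr rfl
    intro i _
    rw [smul_smul]
  choose ψ hψ using hex
  have key : ∀ (c c' : Fˣ) (i j : ℕ), i ≤ j → j < o →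
      (c : F) • (g₀ : Matrix (Fin d) (Fin d) F) ^ i =
        (c' : F) • (g₀ : Matrix (Fin d) (Fin d) F) ^ j → i = j ∧ c = c' := by
    intro c c' i j hij hjo h
    obtain ⟨k, rfl⟩ := Nat.exists_eq_add_of_le hij
    have h1 : (c : F) • (1 : Matrix (Fin d) (Fin d) F) =
        (c' : F) • (g₀ : Matrix (Fin d) (Fin d) F) ^ k := by
      have e1 : ((g₀ ^ i)⁻¹ : GL (Fin d) F).val * (g₀ : Matrix (Fin d) (Fin d) F) ^ i = 1 := by
        rw [← Units.val_pow_eq_pow_val, ← Units.val_mul, inv_mul_cancel, Units.val_one]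
      have h2 : ((g₀ ^ i)⁻¹ : GL (Fin d) F).val * ((c : F) • (g₀ : Matrix (Fin d) (Fin d) F) ^ i) =
          ((g₀ ^ i)⁻¹ : GL (Fin d) F).val * ((c' : F) • (g₀ : Matrix (Fin d) (Fin d) F) ^ (i + k)) := by
        rw [h]
      rw [Matrix.mul_smul, Matrix.mul_smul, pow_add, ← Matrix.mul_assoc, e1, Matrix.one_mul] at h2
      exact h2
    have h3 : (g₀ ^ k) ∈ Subgroup.center (GL (Fin d) F) := by
      rw [Matrix.GeneralLinearGroup.mem_center_iff_val_mem_range_scalar]
      refine ⟨(c' : F)⁻¹ * c, ?_⟩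
      rw [Units.val_pow_eq_pow_val]
      have h4 : (g₀ : Matrix (Fin d) (Fin d) F) ^ k =
          ((c' : F)⁻¹ * c) • (1 : Matrix (Fin d) (Fin d) F) := by
        rw [mul_smul, h1, smul_smul, inv_mul_cancel₀ (Units.ne_zero c'), one_smul]
      rw [h4, Matrix.smul_one_eq_diagonal, Matrix.scalar_apply]
    have h4 : (QuotientGroup.mk g₀ : GL (Fin d) F ⧸ Subgroup.center (GL (Fin d) F)) ^ k = 1 := by
      rw [← QuotientGroup.mk_pow, QuotientGroup.eq_one_iff]; exact h3
    have h5 : o ∣ k := by rw [ho]; exact orderOf_dvd_of_pow_eq_one h4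
    have hk : k = 0 := by
      rcases Nat.eq_zero_or_pos k with h | h
      · exact h
      · have := Nat.le_of_dvd h h5; omega
    subst hk
    refine ⟨rfl, ?_⟩
    rw [pow_zero] at h1
    have h6 := congrFun (congrFun h1 ⟨0, hd⟩) ⟨0, hd⟩
    apply Units.ext
    simpa using h6
  have hinj : Set.InjOn ψ (Finset.univ : Finset (Fˣ × Fin o)) := by
    intro a _ b _ hab
    have h1 : (a.1 : F) • (g₀ : Matrix (Fin d) (Fin d) F) ^ (a.2 : ℕ) =
        (b.1 : F) • (g₀ : Matrix (Fin d) (Fin d) F) ^ (b.2 : ℕ) := by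
      rw [hψ a, hψ b, hab]
    rcases le_total (a.2 : ℕ) (b.2 : ℕ) with hle | hle
    · obtain ⟨e1, e2⟩ := key a.1 b.1 a.2 b.2 hle b.2.2 h1
      exact Prod.ext e2 (Fin.ext e1)
    · obtain ⟨e1, e2⟩ := key b.1 a.1 b.2 a.2 hle a.2.2 h1.symm
      exact Prod.ext e2.symm (Fin.ext e1.symm)
  have hne : ∀ a, ψ a ≠ 0 := by
    intro a h0
    have h1 := hψ a
    rw [h0] at h1
    simp only [Pi.zero_apply, zero_smul, Finset.sum_const_zero] at h1
    have h2 : (a.1 : F) • ((g₀ ^ (a.2 : ℕ) : GL (Fin d) F)).val =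
        (0 : F) • ((g₀ ^ (a.2 : ℕ) : GL (Fin d) F)).val := by
      rw [zero_smul, Units.val_pow_eq_pow_val]; exact h1
    exact Units.ne_zero a.1 (smul_cancel hd _ _ _ h2)
  have hcard : (Finset.univ : Finset (Fˣ × Fin o)).card ≤
      ((Finset.univ : Finset (Fin d → F)).erase 0).card := by
    refine Finset.card_le_card_of_injOn ψ ?_ hinj
    intro a _
    simpa using hne a
  rw [Finset.card_univ, Fintype.card_prod, Fintype.card_units, Fintype.card_fin,
    Finset.card_erase_of_mem (Finset.mem_univ _), Finset.card_univ, Fintype.card_pi_const] at hcard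
  exact hcard

theorem singer {d : ℕ} (hd : 1 ≤ d) : ∃ g₀ : GL (Fin d) F, Fintype.card F ^ d - 1 ≤
    (Fintype.card F - 1) *
      orderOf (QuotientGroup.mk g₀ : GL (Fin d) F ⧸ Subgroup.center (GL (Fin d) F)) := by
  classical
  obtain ⟨p, hchar⟩ := CharP.exists F
  haveI := hchar
  haveI : Fact p.Prime := ⟨CharP.char_is_prime F p⟩
  haveI : NeZero d := ⟨by omega⟩
  have hfr : Module.finrank F (FiniteField.Extension F p d) = d :=
    FiniteField.finrank_extension F p d
  have hcK : Nat.card (FiniteField.Extension F p d) = Fintype.card F ^ d := by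
    rw [FiniteField.natCard_extension, Nat.card_eq_fintype_card]
  obtain ⟨b⟩ : Nonempty (Module.Basis (Fin d) F (FiniteField.Extension F p d)) :=
    ⟨Module.finBasisOfFinrankEq F _ hfr⟩
  obtain ⟨ρ, hρdef⟩ : ∃ ρ : FiniteField.Extension F p d →ₐ[F] Matrix (Fin d) (Fin d) F,
      ρ = Algebra.leftMulMatrix b := ⟨_, rfl⟩
  have hρ : Function.Injective ρ := by rw [hρdef]; exact Algebra.leftMulMatrix_injective b
  obtain ⟨Φ, hΦ⟩ : ∃ Φ : (FiniteField.Extension F p d)ˣ →* GL (Fin d) F,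
      ∀ u, ((Φ u : GL (Fin d) F) : Matrix (Fin d) (Fin d) F) = ρ (u : FiniteField.Extension F p d) :=
    ⟨Units.map (ρ : FiniteField.Extension F p d →* Matrix (Fin d) (Fin d) F), fun u => rfl⟩
  obtain ⟨α, hα⟩ := IsCyclic.exists_ofOrder_eq_natCard (α := (FiniteField.Extension F p d)ˣ)
  have hαord : orderOf α = Fintype.card F ^ d - 1 := by rw [hα, Nat.card_units, hcK]
  refine ⟨Φ α, ?_⟩
  obtain ⟨o, ho⟩ : ∃ o, o =
    orderOf (QuotientGroup.mk (Φ α) : GL (Fin d) F ⧸ Subgroup.center (GL (Fin d) F)) := ⟨_, rfl⟩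
  rw [← ho]
  have hopos : 0 < o := by rw [ho]; exact orderOf_pos _
  have h1 : (QuotientGroup.mk (Φ α) : GL (Fin d) F ⧸ Subgroup.center (GL (Fin d) F)) ^ o = 1 := by
    rw [ho]; exact pow_orderOf_eq_one _
  rw [← QuotientGroup.mk_pow, QuotientGroup.eq_one_iff,
    Matrix.GeneralLinearGroup.mem_center_iff_val_mem_range_scalar] at h1
  obtain ⟨c, hc⟩ := h1
  have h3 : ((Φ α ^ o : GL (Fin d) F) : Matrix (Fin d) (Fin d) F) =
      ρ ((α : FiniteField.Extension F p d) ^ o) := by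
    rw [Units.val_pow_eq_pow_val, map_pow, hΦ]
  have h4 : Matrix.scalar (Fin d) c = ρ (algebraMap F (FiniteField.Extension F p d) c) := by
    rw [AlgHom.commutes]; rfl
  have h5 : (α : FiniteField.Extension F p d) ^ o = algebraMap F _ c :=
    hρ (by rw [← h3, ← hc, h4])
  have hc0 : c ≠ 0 := by
    rintro rfl
    rw [map_zero] at h5
    exact (pow_ne_zero o (Units.ne_zero α)) h5
  have h6 : (α : FiniteField.Extension F p d) ^ (o * (Fintype.card F - 1)) = 1 := by
    rw [pow_mul, h5, ← map_pow, FiniteField.pow_card_sub_one_eq_one c hc0, map_one]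
  have h7 : α ^ (o * (Fintype.card F - 1)) = 1 :=
    Units.ext (by rw [Units.val_pow_eq_pow_val, h6, Units.val_one])
  have h8 : orderOf α ∣ o * (Fintype.card F - 1) := orderOf_dvd_of_pow_eq_one h7
  rw [hαord] at h8
  have hq : 1 < Fintype.card F := Fintype.one_lt_card
  have hpos : 0 < o * (Fintype.card F - 1) := Nat.mul_pos hopos (by omega)
  have := Nat.le_of_dvd hpos h8
  rw [mul_comm]; exact this

end main

/-- Let F be a finite field with q elements and d ≥ 1. Then every element of PGL_d(F) = GL_d(F)/Z has order at most (q^d − 1)/(q − 1), and some element (the image of a Singer cycle) has exactly this order. -/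
theorem result {F : Type*} [Field F] [Fintype F] (d : ℕ) (hd : 1 ≤ d) :
    (∀ g : (GL (Fin d) F ⧸ Subgroup.center (GL (Fin d) F)), (Fintype.card F - 1) * orderOf g ≤ Fintype.card F ^ d - 1) ∧
    (∃ g : (GL (Fin d) F ⧸ Subgroup.center (GL (Fin d) F)), (Fintype.card F - 1) * orderOf g = Fintype.card F ^ d - 1) := by
  constructor
  · intro g
    obtain ⟨g₀, rfl⟩ := QuotientGroup.mk_surjective g
    exact upper hd g₀
  · obtain ⟨g₀, hg₀⟩ := singer (F := F) hd
    exact ⟨QuotientGroup.mk g₀, le_antisymm (upper hd g₀) hg₀⟩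


end Cfsg.Agent.S2261
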