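import Cfsg.Statements.S2268

set_option autoImplicit false
open Cfsg

namespace Cfsg.Agent.S2268

/-- Let G be a finite group with an abelian Sylow p-subgroup P and let Q ≤ P. Then N_G(Q) = (N_G(Q) ∩ N_G(P))·C_G(Q), so that N_G(Q)/C_G(Q) is a homomorphic image of the subgroup (N_G(Q) ∩ N_G(P))/C_G(P) of N_G(P)/C_G(P); in particular the order of N_G(Q)/C_G(Q) divides the order of N_G(P)/C_G(P). -/
theorem result {G : Type*} [Group G] [Finite G] {p : ℕ} [Fact p.Prime]
    (P : Sylow p G) (hP : IsMulCommutative (P : Subgroup G)) (Q : Subgroup G) (hQ : Q ≤ (P : Subgroup G)) :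
    Subgroup.normalizer (Q : Set G) =
      (Subgroup.normalizer (Q : Set G) ⊓ Subgroup.normalizer ((P : Subgroup G) : Set G)) ⊔ Subgroup.centralizer (Q : Set G) ∧
    ((Subgroup.centralizer (Q : Set G)).subgroupOf (Subgroup.normalizer (Q : Set G))).index ∣ ((Subgroup.centralizer ((P : Subgroup G) : Set G)).subgroupOf (Subgroup.normalizer ((P : Subgroup G) : Set G))).index := by
  have hPC : (P : Subgroup G) ≤ Subgroup.centralizer (Q : Set G) := by
    intro x hx
    rw [Subgroup.mem_centralizer_iff]
    intro q hq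
    have := hP.is_comm.comm (⟨q, hQ hq⟩ : (P : Subgroup G)) ⟨x, hx⟩
    exact congrArg Subtype.val this
  have hCN : Subgroup.centralizer (Q : Set G) ≤ Subgroup.normalizer (Q : Set G) :=
    Subgroup.centralizer_le_normalizer _
  have hpart1 : Subgroup.normalizer (Q : Set G) =
      (Subgroup.normalizer (Q : Set G) ⊓ Subgroup.normalizer ((P : Subgroup G) : Set G)) ⊔ Subgroup.centralizer (Q : Set G) := by
    apply le_antisymm
    · intro g hg
      -- g P g⁻¹ ≤ C(Q)
      have hgPC : (↑(g • P) : Subgroup G) ≤ Subgroup.centralizer (Q : Set G) := by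
        intro x hx
        rw [Sylow.coe_subgroup_smul, Subgroup.mem_pointwise_smul_iff_inv_smul_mem] at hx
        simp only [MulAut.smul_def, MulAut.inv_apply, MulAut.conj_symm_apply] at hx
        rw [Subgroup.mem_centralizer_iff]
        intro q hq
        have hq' : g⁻¹ * q * g ∈ Q := by
          have h1 := (Subgroup.mem_normalizer_iff'.mp hg (g⁻¹ * q * g))
          have h2 : g * (g⁻¹ * q * g) * g⁻¹ = q := by group
          rw [Subgroup.mem_normalizer_iff] at hg
          have h3 := (hg (g⁻¹ * q * g)).mpr (by rw [h2]; exact hq)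
          exact h3
        have h4 := hPC hx
        rw [Subgroup.mem_centralizer_iff] at h4
        have h5 := h4 _ hq'
        calc q * x = g * ((g⁻¹ * q * g) * (g⁻¹ * x * g)) * g⁻¹ := by group
          _ = g * ((g⁻¹ * x * g) * (g⁻¹ * q * g)) * g⁻¹ := by rw [h5]
          _ = x * q := by group
      obtain ⟨c, hc⟩ := MulAction.exists_smul_eq (Subgroup.centralizer (Q : Set G))
        ((g • P).subtype hgPC) (P.subtype hPC)
      simp_rw [Sylow.smul_subtype, Subgroup.smul_def, smul_smul] at hc
      have hn : (c : G) * g ∈ Subgroup.normalizer ((P : Subgroup G) : Set G) :=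
        Sylow.smul_eq_iff_mem_normalizer.mp (Sylow.subtype_injective hc)
      have hn2 : (c : G) * g ∈ Subgroup.normalizer (Q : Set G) :=
        Subgroup.mul_mem _ (hCN c.2) hg
      have : g = (c : G)⁻¹ * ((c : G) * g) := by group
      rw [this]
      exact Subgroup.mul_mem _ (Subgroup.mem_sup_right (Subgroup.inv_mem _ c.2))
        (Subgroup.mem_sup_left ⟨hn2, hn⟩)
    · exact sup_le inf_le_left hCN
  refine ⟨hpart1, ?_⟩
  set N := Subgroup.normalizer (Q : Set G) with hN
  set C := Subgroup.centralizer (Q : Set G) with hC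
  set NP := Subgroup.normalizer ((P : Subgroup G) : Set G) with hNP
  set D := Subgroup.centralizer ((P : Subgroup G) : Set G) with hD
  set M := N ⊓ NP with hM
  have hDM : D ≤ M := by
    refine le_inf ?_ (Subgroup.centralizer_le_normalizer _)
    exact (Subgroup.centralizer_le (show (Q : Set G) ⊆ ((P : Subgroup G) : Set G) from hQ)).trans hCN
  have hDC : D ≤ C := Subgroup.centralizer_le (show (Q : Set G) ⊆ ((P : Subgroup G) : Set G) from hQ)
  have hMN : M ≤ N := inf_le_left
  change C.relIndex N ∣ D.relIndex NP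
  have hA : C.relIndex N = C.relIndex M := by
    have h1 : (C.subgroupOf N).relIndex (M.subgroupOf N ⊔ C.subgroupOf N) = (C.subgroupOf N).relIndex (M.subgroupOf N) :=
      Subgroup.relIndex_sup_right _ _
    have h2 : M.subgroupOf N ⊔ C.subgroupOf N = ⊤ := by
      rw [← Subgroup.subgroupOf_sup hMN hCN, ← hpart1, Subgroup.subgroupOf_self]
    rw [h2, Subgroup.relIndex_top_right, Subgroup.relIndex_subgroupOf hMN] at h1
    exact h1
  rw [hA, ← Subgroup.inf_relIndex_right]
  have hB : (C ⊓ M).relIndex M ∣ D.relIndex M := Subgroup.relIndex_dvd_of_le_left M (le_inf hDC hDM)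
  have hC' : D.relIndex M ∣ D.relIndex NP :=
    Dvd.intro _ (Subgroup.relIndex_mul_relIndex D M NP hDM inf_le_right)
  exact hB.trans hC'

end Cfsg.Agent.S2268
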