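import Cfsg.Statements.S2270

set_option autoImplicit false
open Cfsg

namespace Cfsg.Agent.S2270

/-- Let n ≥ 3, p an odd prime, and P an abelian Sylow p-subgroup of the symmetric group S_n (with p dividing n!, so that P ≠ 1). Then N(P)/C(P) has even order. -/
theorem result (n : ℕ) (hn : 3 ≤ n) {p : ℕ} [Fact p.Prime] (hp : p ≠ 2) (hpn : p ≤ n)
    (P : Sylow p (Equiv.Perm (Fin n))) (hP : IsMulCommutative (P : Subgroup (Equiv.Perm (Fin n)))) :
    2 ∣ ((Subgroup.centralizer ((P : Subgroup (Equiv.Perm (Fin n))) : Set (Equiv.Perm (Fin n)))).subgroupOf (Subgroup.normalizer ((P : Subgroup (Equiv.Perm (Fin n))) : Set (Equiv.Perm (Fin n))))).index := by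
  classical
  have hpp : p.Prime := Fact.out
  set G := Equiv.Perm (Fin n) with hG
  set N : Subgroup G := Subgroup.normalizer ((P : Subgroup G) : Set G) with hN
  set C : Subgroup G := Subgroup.centralizer ((P : Subgroup G) : Set G) with hC
  have hCn : (C.subgroupOf N).Normal := Subgroup.normal_subgroupOf_centralizer_normalizer _
  -- an element of order p in P
  have hcardG : Nat.card G = n.factorial := by
    rw [Nat.card_eq_fintype_card, Fintype.card_perm, Fintype.card_fin]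
  have hpG : p ∣ Nat.card G := by rw [hcardG]; exact (Nat.Prime.dvd_factorial hpp).2 hpn
  have hpP : p ∣ Nat.card (P : Subgroup G) := P.dvd_card_of_dvd_card hpG
  obtain ⟨x, hx⟩ := exists_prime_orderOf_dvd_card' p hpP
  have hxP : (x : G) ∈ (P : Subgroup G) := x.2
  have hxo : orderOf (x : G) = p := by rw [Subgroup.orderOf_coe]; exact hx
  have hPC : (P : Subgroup G) ≤ C := by
    intro y hy
    rw [hC, Subgroup.mem_centralizer_iff]
    intro z hz
    have := hP.is_comm.comm ⟨z, hz⟩ ⟨y, hy⟩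
    exact congrArg Subtype.val this
  -- x is conjugate to its inverse
  have hconj : IsConj (x : G) (x : G)⁻¹ := by
    rw [Equiv.Perm.isConj_iff_cycleType_eq, Equiv.Perm.cycleType_inv]
  obtain ⟨g, hg⟩ := isConj_iff.1 hconj
  have h1 := P.conj_eq_normalizer_conj_of_mem_centralizer (x : G) g⁻¹ (hPC hxP) (by
    rw [inv_inv, hg]; exact hPC (Subgroup.inv_mem _ hxP))
  obtain ⟨m, hm, hmx⟩ := h1
  rw [inv_inv, hg] at hmx
  -- n₀ = m⁻¹ inverts x
  have hm' : m⁻¹ ∈ N := Subgroup.inv_mem _ hm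
  have hinv : m⁻¹ * (x : G) * (m⁻¹)⁻¹ = (x : G)⁻¹ := by rw [inv_inv]; exact hmx.symm
  have hpow : ∀ j : ℕ, (m⁻¹) ^ j * (x : G) * ((m⁻¹) ^ j)⁻¹ = if Even j then (x : G) else (x : G)⁻¹ := by
    intro j
    induction j with
    | zero => simp
    | succ j ih =>
      have e : (m⁻¹) ^ (j + 1) * (x : G) * ((m⁻¹) ^ (j + 1))⁻¹ =
          m⁻¹ * ((m⁻¹) ^ j * (x : G) * ((m⁻¹) ^ j)⁻¹) * (m⁻¹)⁻¹ := by
        rw [pow_succ']; group
      rw [e, ih]
      by_cases hj : Even j
      · rw [if_pos hj, if_neg (by rw [Nat.even_add_one]; exact not_not.2 hj), hinv]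
      · rw [if_neg hj, if_pos (by rw [Nat.even_add_one]; exact hj)]
        have : m⁻¹ * (x : G)⁻¹ * (m⁻¹)⁻¹ = (m⁻¹ * (x : G) * (m⁻¹)⁻¹)⁻¹ := by group
        rw [this, hinv, inv_inv]
  set nbar : N ⧸ C.subgroupOf N := QuotientGroup.mk (⟨m⁻¹, hm'⟩ : N) with hnbar
  have heven : Even (orderOf nbar) := by
    by_contra hodd
    have h2 : nbar ^ orderOf nbar = 1 := pow_orderOf_eq_one nbar
    rw [hnbar, ← QuotientGroup.mk_pow, QuotientGroup.eq_one_iff, Subgroup.mem_subgroupOf] at h2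
    have h3 : (m⁻¹) ^ orderOf nbar ∈ Subgroup.centralizer ((P : Subgroup G) : Set G) := h2
    rw [Subgroup.mem_centralizer_iff] at h3
    have h4 := h3 (x : G) hxP
    have h5 := hpow (orderOf nbar)
    rw [if_neg hodd] at h5
    have h6 : (m⁻¹) ^ orderOf nbar * (x : G) * ((m⁻¹) ^ orderOf nbar)⁻¹ = (x : G) := by
      rw [← h4]; group
    rw [h6] at h5
    have h7 : (x : G) ^ 2 = 1 := by
      rw [pow_two]
      nth_rw 1 [h5]
      group
    have h8 : p ∣ 2 := by rw [← hxo]; exact orderOf_dvd_of_pow_eq_one h7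
    have := (Nat.prime_dvd_prime_iff_eq hpp Nat.prime_two).1 h8
    exact hp this
  rw [Subgroup.index_eq_card]
  exact dvd_trans (even_iff_two_dvd.1 heven) (orderOf_dvd_natCard nbar)

end Cfsg.Agent.S2270
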