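import Cfsg.Statements.S2301
import Mathlib
import Cfsg.Agent.Lib.Helper2.SL2Unip


set_option autoImplicit false
open Cfsg

namespace Cfsg.Agent.S2301

open Cfsg.Agent.Lib.Helper2 Cfsg.Agent.Lib.Helper2.SL2Unip in
/-- Over a finite field with q elements of odd characteristic p, the elements of order p of SL₂ (the non-identity unipotent elements) fall into exactly two conjugacy classes, each of size (q² − 1)/2; two upper unitriangular matrices with non-zero off-diagonal entries b and b′ are conjugate exactly when bb′ is a square. -/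
theorem result {F : Type*} [Field F] [Fintype F] (p : ℕ) [Fact p.Prime] [CharP F p] (hp : p ≠ 2) :
    Nat.card {C : ConjClasses (Matrix.SpecialLinearGroup (Fin 2) F) // ∃ g : Matrix.SpecialLinearGroup (Fin 2) F, orderOf g = p ∧ ConjClasses.mk g = C} = 2 ∧
    (∀ g : Matrix.SpecialLinearGroup (Fin 2) F, orderOf g = p → Nat.card (ConjClasses.mk g).carrier = (Fintype.card F ^ 2 - 1) / 2) ∧
    ∀ g h : Matrix.SpecialLinearGroup (Fin 2) F, (g : Matrix (Fin 2) (Fin 2) F) 0 0 = 1 → (g : Matrix (Fin 2) (Fin 2) F) 1 1 = 1 → (g : Matrix (Fin 2) (Fin 2) F) 1 0 = 0 → (g : Matrix (Fin 2) (Fin 2) F) 0 1 ≠ 0 →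
      (h : Matrix (Fin 2) (Fin 2) F) 0 0 = 1 → (h : Matrix (Fin 2) (Fin 2) F) 1 1 = 1 → (h : Matrix (Fin 2) (Fin 2) F) 1 0 = 0 → (h : Matrix (Fin 2) (Fin 2) F) 0 1 ≠ 0 →
      (IsConj g h ↔ IsSquare ((g : Matrix (Fin 2) (Fin 2) F) 0 1 * (h : Matrix (Fin 2) (Fin 2) F) 0 1)) := by
  classical
  have hF : ringChar F ≠ 2 := by rw [ringChar.eq F p]; exact hp
  have h2 : (2 : F) ≠ 0 := Ring.two_ne_zero hF
  obtain ⟨ε, hε⟩ := FiniteField.exists_nonsquare hF
  have hε0 : ε ≠ 0 := by
    rintro rfl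
    exact hε ⟨0, by ring⟩
  refine ⟨?_, ?_, ?_⟩
  · have hcard : Nat.card Bool = 2 := by rw [Nat.card_eq_fintype_card, Fintype.card_bool]
    refine (Nat.card_congr ?_).symm.trans hcard
    refine Equiv.ofBijective (fun e : Bool =>
      (⟨ConjClasses.mk (uu (be ε e)), uu (be ε e), order_uu p (be_ne_zero hε0 e), rfl⟩ :
        {C : ConjClasses (Matrix.SpecialLinearGroup (Fin 2) F) //
          ∃ g : Matrix.SpecialLinearGroup (Fin 2) F, orderOf g = p ∧ ConjClasses.mk g = C})) ⟨?_, ?_⟩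
    · intro e e' h
      have h1 : ConjClasses.mk (uu (be ε e)) = ConjClasses.mk (uu (be ε e')) :=
        congrArg Subtype.val h
      rw [ConjClasses.mk_eq_mk_iff_isConj, uu_conj_iff (be_ne_zero hε0 e) (be_ne_zero hε0 e'),
        be_sq_iff hε] at h1
      exact h1
    · rintro ⟨C, g, hg, rfl⟩
      obtain ⟨b, hb, hgb⟩ := conj_uu_of_order p g hg
      obtain ⟨e, he⟩ := exists_be hF hε0 hε b hb
      refine ⟨e, Subtype.ext ?_⟩
      show ConjClasses.mk (uu (be ε e)) = ConjClasses.mk g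
      rw [ConjClasses.mk_eq_mk_iff_isConj]
      exact ((uu_conj_iff hb (be_ne_zero hε0 e)).2 he).symm.trans hgb.symm
  · intro g hg
    obtain ⟨b, hb, hgb⟩ := conj_uu_of_order p g hg
    have hmk : ConjClasses.mk g = ConjClasses.mk (uu b) := ConjClasses.mk_eq_mk_iff_isConj.2 hgb
    rw [hmk]
    have h1 := card_class_mul_card_centralizer (uu b)
    rw [card_cent_uu h2 hb, card_sl2] at h1
    have h3 : Nat.card (ConjClasses.mk (uu b)).carrier =
        Nat.card {h : Matrix.SpecialLinearGroup (Fin 2) F //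
          ConjClasses.mk h = ConjClasses.mk (uu b)} := by
      apply Nat.card_congr
      apply Equiv.subtypeEquivRight
      intro h
      exact ConjClasses.mem_carrier_iff_mk_eq
    rw [h3]
    obtain ⟨x, hx⟩ : ∃ x, x = Nat.card {h : Matrix.SpecialLinearGroup (Fin 2) F //
          ConjClasses.mk h = ConjClasses.mk (uu b)} := ⟨_, rfl⟩
    rw [← hx] at h1 ⊢
    have hq1 : 1 < Fintype.card F := Fintype.one_lt_card
    obtain ⟨k, hk⟩ : ∃ k, Fintype.card F = k + 1 := ⟨Fintype.card F - 1, by omega⟩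
    rw [hk] at h1 ⊢
    rw [Nat.add_sub_cancel] at h1
    have e1 : (k + 1) ^ 2 - 1 = k * (k + 2) := Nat.sub_eq_of_eq_add (by ring)
    rw [e1]
    have h4 : (k + 1) * (2 * x) = (k + 1) * (k * (k + 2)) := by
      calc (k + 1) * (2 * x) = x * (2 * (k + 1)) := by ring
        _ = (k + 1) * k * (k + 1 + 1) := h1
        _ = (k + 1) * (k * (k + 2)) := by ring
    have h5 : 2 * x = k * (k + 2) := Nat.eq_of_mul_eq_mul_left (by omega) h4
    omega
  · intro g h g00 g11 g10 g01 h00 h11 h10 h01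
    have hg := eq_uu g00 g11 g10
    have hh := eq_uu h00 h11 h10
    have h1 : IsConj g h ↔ IsConj (uu ((g : Matrix (Fin 2) (Fin 2) F) 0 1))
        (uu ((h : Matrix (Fin 2) (Fin 2) F) 0 1)) := by
      rw [← hg, ← hh]
    rw [h1]
    exact uu_conj_iff g01 h01


end Cfsg.Agent.S2301
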