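import Cfsg.Statements.S2302

set_option autoImplicit false
open Cfsg

namespace Cfsg.Agent.S2302

open Matrix

section
variable {F : Type*} [Field F] [Fintype F] [CharP F 2]

theorem orderOf_conj_eq {G : Type*} [Group G] (c a : G) : orderOf (c * a * c⁻¹) = orderOf a := by
  have := orderOf_injective (MulAut.conj c).toMonoidHom (MulAut.conj c).injective a
  simpa [MulAut.conj_apply] using this

theorem sqrt_exists (x : F) : ∃ a : F, a * a = x := by
  have hinj : Function.Injective (frobenius F 2) := frobenius_inj F 2
  have hsurj : Function.Surjective (frobenius F 2) := Finite.injective_iff_surjective.1 hinj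
  obtain ⟨a, ha⟩ := hsurj x
  exact ⟨a, by rw [← ha, frobenius_def, pow_two]⟩

theorem sq_inj (a b : F) (h : a * a = b * b) : a = b := by
  have hinj : Function.Injective (frobenius F 2) := frobenius_inj F 2
  apply hinj
  rw [frobenius_def, frobenius_def, pow_two, pow_two, h]

/-- the standard involution -/
def stdJ (F : Type*) [Field F] : Matrix.SpecialLinearGroup (Fin 2) F :=
  ⟨!![1, 1; 0, 1], by simp [Matrix.det_fin_two]⟩

omit [Fintype F] [CharP F 2] in
theorem stdJ_coe : ((stdJ F : Matrix.SpecialLinearGroup (Fin 2) F) : Matrix (Fin 2) (Fin 2) F) = !![1, 1; 0, 1] := rfl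

/-- entries of an involution -/
theorem invol_entries (g : Matrix.SpecialLinearGroup (Fin 2) F) (hg : orderOf g = 2) :
    (g : Matrix (Fin 2) (Fin 2) F) 0 0 = (g : Matrix (Fin 2) (Fin 2) F) 1 1 ∧
    (g : Matrix (Fin 2) (Fin 2) F) 0 0 * (g : Matrix (Fin 2) (Fin 2) F) 0 0 =
      1 + (g : Matrix (Fin 2) (Fin 2) F) 0 1 * (g : Matrix (Fin 2) (Fin 2) F) 1 0 ∧
    ((g : Matrix (Fin 2) (Fin 2) F) 0 1, (g : Matrix (Fin 2) (Fin 2) F) 1 0) ≠ (0 : F × F) := by
  set G := (g : Matrix (Fin 2) (Fin 2) F) with hG
  have hg2 : g ^ 2 = 1 := by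
    have := pow_orderOf_eq_one g
    rwa [hg] at this
  have hGG : G * G = 1 := by
    have := congrArg (fun y : Matrix.SpecialLinearGroup (Fin 2) F => (y : Matrix (Fin 2) (Fin 2) F)) hg2
    simpa [pow_two] using this
  have hdet : G.det = 1 := g.2
  rw [Matrix.det_fin_two] at hdet
  have e00 := congrFun (congrFun hGG 0) 0
  have e01 := congrFun (congrFun hGG 0) 1
  have e10 := congrFun (congrFun hGG 1) 0
  have e11 := congrFun (congrFun hGG 1) 1
  simp only [Matrix.mul_apply, Fin.sum_univ_two, Matrix.one_apply_eq, Matrix.one_apply_ne,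
    ne_eq, Fin.reduceEq, not_false_eq_true, Fin.isValue] at e00 e01 e10 e11
  have two : (2 : F) = 0 := CharTwo.two_eq_zero
  set t := G 0 0 + G 1 1 with ht
  have k00 : G 0 0 * t = 0 := by
    rw [ht]; linear_combination e00 + hdet + two
  have k11 : G 1 1 * t = 0 := by
    rw [ht]; linear_combination e11 + hdet + two
  have k01 : G 0 1 * t = 0 := by rw [ht]; linear_combination e01
  have k10 : G 1 0 * t = 0 := by rw [ht]; linear_combination e10
  have ht0 : t = 0 := by
    by_contra hne
    have h00 : G 0 0 = 0 := (mul_eq_zero.1 k00).resolve_right hne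
    have h11 : G 1 1 = 0 := (mul_eq_zero.1 k11).resolve_right hne
    have h01 : G 0 1 = 0 := (mul_eq_zero.1 k01).resolve_right hne
    rw [h00, h11, h01] at hdet
    simp at hdet
  have heq : G 0 0 = G 1 1 := by
    have : G 0 0 = - G 1 1 := eq_neg_of_add_eq_zero_left ht0
    rw [this, CharTwo.neg_eq]
  refine ⟨heq, ?_, ?_⟩
  · have : G 0 1 * G 1 0 + G 0 1 * G 1 0 = 0 := CharTwo.add_self_eq_zero _
    linear_combination e00 - this
  · intro h0
    have h01 : G 0 1 = 0 := congrArg Prod.fst h0
    have h10 : G 1 0 = 0 := congrArg Prod.snd h0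
    rw [h01, h10] at e00
    simp at e00
    have ha : G 0 0 = 1 := by
      have h1 : (G 0 0 + 1) * (G 0 0 + 1) = 0 := by
        have : G 0 0 + G 0 0 = 0 := CharTwo.add_self_eq_zero _
        linear_combination e00 + this + two
      have h2 : G 0 0 + 1 = 0 := by
        rcases mul_eq_zero.1 h1 with h | h <;> exact h
      have : G 0 0 = -1 := eq_neg_of_add_eq_zero_left h2
      rw [this, CharTwo.neg_eq]
    have hg1 : g = 1 := by
      apply Subtype.ext
      show G = 1
      ext i j
      fin_cases i <;> fin_cases j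
      · simpa using ha
      · simpa using h01
      · simpa using h10
      · simp; rw [← heq]; exact ha
    rw [hg1, orderOf_one] at hg
    omega

theorem conj_stdJ (g : Matrix.SpecialLinearGroup (Fin 2) F) (hg : orderOf g = 2) : IsConj (stdJ F) g := by
  classical
  obtain ⟨h1, h2, h3⟩ := invol_entries g hg
  set G := (g : Matrix (Fin 2) (Fin 2) F) with hG
  set a := G 0 0 with ha
  set b := G 0 1 with hb
  set c := G 1 0 with hc
  have hGeta : G = !![a, b; c, a] := by
    have e := Matrix.eta_fin_two G
    rw [← h1] at e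
    exact e
  have two : (2 : F) = 0 := CharTwo.two_eq_zero
  -- key: a matrix P of nonzero determinant with G * P = P * J gives conjugacy
  have key : ∀ P : Matrix (Fin 2) (Fin 2) F, P.det ≠ 0 → G * P = P * !![1, 1; 0, 1] → IsConj (stdJ F) g := by
    intro P hdet hGP
    obtain ⟨s, hs⟩ := sqrt_exists (P.det)⁻¹
    have hdet' : (s • P).det = 1 := by
      rw [Matrix.det_smul, Fintype.card_fin, pow_two, hs, inv_mul_cancel₀ hdet]
    rw [isConj_iff]
    let cP : Matrix.SpecialLinearGroup (Fin 2) F := ⟨s • P, hdet'⟩
    refine ⟨cP, ?_⟩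
    rw [mul_inv_eq_iff_eq_mul]
    apply Subtype.ext
    rw [Matrix.SpecialLinearGroup.coe_mul, Matrix.SpecialLinearGroup.coe_mul, stdJ_coe]
    show (s • P) * !![1, 1; 0, 1] = G * (s • P)
    rw [Matrix.smul_mul, Matrix.mul_smul, hGP]
  by_cases hc0 : c = 0
  · -- then a = 1, b ≠ 0
    have ha1 : a = 1 := by
      rw [hc0, mul_zero, add_zero] at h2
      have h1' : (a + 1) * (a + 1) = 0 := by
        have : a + a = 0 := CharTwo.add_self_eq_zero _
        linear_combination h2 + this + two
      have h2' : a + 1 = 0 := by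
        rcases mul_eq_zero.1 h1' with h | h <;> exact h
      have : a = -1 := eq_neg_of_add_eq_zero_left h2'
      rw [this, CharTwo.neg_eq]
    have hb0 : b ≠ 0 := by
      intro hb0
      apply h3
      rw [hb0, hc0]; rfl
    apply key !![b, 0; 0, 1]
    · simp [Matrix.det_fin_two, hb0]
    · rw [hGeta, ha1, hc0]
      ext i j
      fin_cases i <;> fin_cases j <;> simp
  · apply key !![a + 1, 1; c, 0]
    · simp [Matrix.det_fin_two, hc0]
    · rw [hGeta]
      have hbc2 : b * c + b * c = 0 := CharTwo.add_self_eq_zero _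
      have hac2 : a * c + a * c = 0 := CharTwo.add_self_eq_zero _
      ext i j
      fin_cases i <;> fin_cases j <;> simp <;>
        first
          | linear_combination h2 + hbc2
          | linear_combination (-1 : F) * two
          | linear_combination hac2

theorem card_nonzero_pairs : Nat.card {x : F × F // x ≠ 0} = Fintype.card F ^ 2 - 1 := by
  classical
  rw [Nat.card_eq_fintype_card, Fintype.card_subtype_compl, Fintype.card_prod]
  simp [sq]

theorem card_involutions :
    Nat.card {h : Matrix.SpecialLinearGroup (Fin 2) F // orderOf h = 2} = Fintype.card F ^ 2 - 1 := by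
  classical
  rw [← card_nonzero_pairs (F := F)]
  let ψ : {h : Matrix.SpecialLinearGroup (Fin 2) F // orderOf h = 2} → {x : F × F // x ≠ 0} := fun h =>
    ⟨((h.1 : Matrix (Fin 2) (Fin 2) F) 0 1, (h.1 : Matrix (Fin 2) (Fin 2) F) 1 0), (invol_entries h.1 h.2).2.2⟩
  have hψ : Function.Bijective ψ := by
    constructor
    · rintro ⟨h, hh⟩ ⟨h', hh'⟩ heq
      have e := congrArg Subtype.val heq
      have e01 : (h : Matrix (Fin 2) (Fin 2) F) 0 1 = (h' : Matrix (Fin 2) (Fin 2) F) 0 1 := congrArg Prod.fst e
      have e10 : (h : Matrix (Fin 2) (Fin 2) F) 1 0 = (h' : Matrix (Fin 2) (Fin 2) F) 1 0 := congrArg Prod.snd e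
      obtain ⟨k1, k2, -⟩ := invol_entries h hh
      obtain ⟨k1', k2', -⟩ := invol_entries h' hh'
      have e00 : (h : Matrix (Fin 2) (Fin 2) F) 0 0 = (h' : Matrix (Fin 2) (Fin 2) F) 0 0 := by
        apply sq_inj
        rw [k2, k2', e01, e10]
      apply Subtype.ext
      apply Subtype.ext
      ext i j
      fin_cases i <;> fin_cases j
      · exact e00
      · exact e01
      · exact e10
      · show (h : Matrix (Fin 2) (Fin 2) F) 1 1 = (h' : Matrix (Fin 2) (Fin 2) F) 1 1
        rw [← k1, ← k1', e00]
    · rintro ⟨⟨b, c⟩, hbc⟩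
      obtain ⟨a, ha⟩ := sqrt_exists (1 + b * c)
      have two : (2 : F) = 0 := CharTwo.two_eq_zero
      have hdet : (!![a, b; c, a] : Matrix (Fin 2) (Fin 2) F).det = 1 := by
        rw [Matrix.det_fin_two_of, ha]
        ring
      let h : Matrix.SpecialLinearGroup (Fin 2) F := ⟨!![a, b; c, a], hdet⟩
      have hh : orderOf h = 2 := by
        have : Fact (Nat.Prime 2) := ⟨Nat.prime_two⟩
        apply orderOf_eq_prime
        · rw [pow_two]
          apply Subtype.ext
          rw [Matrix.SpecialLinearGroup.coe_mul]
          show !![a, b; c, a] * !![a, b; c, a] = 1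
          ext i j
          fin_cases i <;> fin_cases j <;> simp
          · have : b * c + b * c = 0 := CharTwo.add_self_eq_zero _
            linear_combination ha + this
          · have : a * b + a * b = 0 := CharTwo.add_self_eq_zero _
            linear_combination this
          · have : c * a + c * a = 0 := CharTwo.add_self_eq_zero _
            linear_combination this
          · have : b * c + b * c = 0 := CharTwo.add_self_eq_zero _
            linear_combination ha + this
        · intro h1
          have h1' : (!![a, b; c, a] : Matrix (Fin 2) (Fin 2) F) = 1 := congrArg Subtype.val h1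
          have e01 := congrFun (congrFun h1' 0) 1
          have e10 := congrFun (congrFun h1' 1) 0
          simp at e01 e10
          apply hbc
          rw [e01, e10]; rfl
      exact ⟨⟨h, hh⟩, rfl⟩
  exact Nat.card_congr (Equiv.ofBijective ψ hψ)

end

/-- Over a finite field with q elements of characteristic 2, the involutions of SL₂ (the non-identity unipotent elements) form a single conjugacy class, of size q² − 1. -/
theorem result {F : Type*} [Field F] [Fintype F] [CharP F 2] (g h : Matrix.SpecialLinearGroup (Fin 2) F) (hg : orderOf g = 2) (hh : orderOf h = 2) :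
    IsConj g h ∧ Nat.card (ConjClasses.mk g).carrier = Fintype.card F ^ 2 - 1 := by
  have h1 := conj_stdJ g hg
  have h2 := conj_stdJ h hh
  refine ⟨h1.symm.trans h2, ?_⟩
  rw [← card_involutions (F := F)]
  have hset : (ConjClasses.mk g).carrier = {x : Matrix.SpecialLinearGroup (Fin 2) F | orderOf x = 2} := by
    ext x
    rw [ConjClasses.mem_carrier_iff_mk_eq, ConjClasses.mk_eq_mk_iff_isConj]
    show IsConj x g ↔ orderOf x = 2
    constructor
    · intro hx
      obtain ⟨c, hc⟩ := isConj_iff.1 hx
      have := orderOf_conj_eq c x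
      rw [hc] at this
      rw [← this]; exact hg
    · intro hx
      exact ((conj_stdJ x hx).symm).trans h1
  rw [hset]
  rfl

end Cfsg.Agent.S2302
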