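import Cfsg.Statements.S2303

set_option autoImplicit false
open Cfsg

namespace Cfsg.Agent.S2303

open Matrix

theorem card_nonzero_pairs {F : Type*} [Field F] [Fintype F] :
    Nat.card {x : F × F // x ≠ 0} = Fintype.card F ^ 2 - 1 := by
  classical
  rw [Nat.card_eq_fintype_card, Fintype.card_subtype_compl, Fintype.card_prod]
  simp [sq]

theorem comm_entries {F : Type*} [Field F] (x g : GL (Fin 2) F) (h : x * g = g * x) :
    (x : Matrix (Fin 2) (Fin 2) F) * (g : Matrix (Fin 2) (Fin 2) F) =
      (g : Matrix (Fin 2) (Fin 2) F) * (x : Matrix (Fin 2) (Fin 2) F) := by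
  have := congrArg (fun y : GL (Fin 2) F => (y : Matrix (Fin 2) (Fin 2) F)) h
  simpa using this

theorem part1 {F : Type*} [Field F] [Fintype F] (g : GL (Fin 2) F)
    (h01 : (g : Matrix (Fin 2) (Fin 2) F) 0 1 = 0) (h10 : (g : Matrix (Fin 2) (Fin 2) F) 1 0 = 0)
    (hne : (g : Matrix (Fin 2) (Fin 2) F) 0 0 ≠ (g : Matrix (Fin 2) (Fin 2) F) 1 1) :
    Nat.card (Subgroup.centralizer ({g} : Set (GL (Fin 2) F))) = (Fintype.card F - 1) ^ 2 := by
  classical
  set G := (g : Matrix (Fin 2) (Fin 2) F) with hG
  -- the map from pairs of units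
  have hdet : ∀ ad : Fˣ × Fˣ, (!![(ad.1 : F), 0; 0, (ad.2 : F)] : Matrix (Fin 2) (Fin 2) F).det ≠ 0 := by
    intro ad
    rw [Matrix.det_fin_two_of]
    simp
  have hGeta : G = !![G 0 0, 0; 0, G 1 1] := by
    ext i j
    fin_cases i <;> fin_cases j <;> simp [h01, h10]
  let φ : Fˣ × Fˣ → Subgroup.centralizer ({g} : Set (GL (Fin 2) F)) := fun ad =>
    ⟨Matrix.GeneralLinearGroup.mkOfDetNeZero _ (hdet ad), by
      rw [Subgroup.mem_centralizer_singleton_iff]
      apply Units.ext
      rw [Units.val_mul, Units.val_mul]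
      show !![(ad.1 : F), 0; 0, (ad.2 : F)] * G = G * !![(ad.1 : F), 0; 0, (ad.2 : F)]
      rw [hGeta]
      simp [Matrix.mul_fin_two, mul_comm]⟩
  have hφ : Function.Bijective φ := by
    constructor
    · intro ad ad' h
      have h' := congrArg (fun y : Subgroup.centralizer ({g} : Set (GL (Fin 2) F)) =>
        ((y : GL (Fin 2) F) : Matrix (Fin 2) (Fin 2) F)) h
      have h'' : (!![(ad.1 : F), 0; 0, (ad.2 : F)] : Matrix (Fin 2) (Fin 2) F) =
          !![(ad'.1 : F), 0; 0, (ad'.2 : F)] := h'
      have e0 := congrFun (congrFun h'' 0) 0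
      have e1 := congrFun (congrFun h'' 1) 1
      simp at e0 e1
      exact Prod.ext (Units.ext e0) (Units.ext e1)
    · rintro ⟨x, hx⟩
      rw [Subgroup.mem_centralizer_singleton_iff] at hx
      have hxm := comm_entries x g hx
      set X := (x : Matrix (Fin 2) (Fin 2) F) with hX
      have c01 := congrFun (congrFun hxm 0) 1
      have c10 := congrFun (congrFun hxm 1) 0
      simp only [Matrix.mul_apply, Fin.sum_univ_two] at c01 c10
      rw [← hG] at c01 c10
      rw [h01] at c01
      rw [h10] at c10
      have x01 : X 0 1 = 0 := by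
        have : X 0 1 * (G 1 1 - G 0 0) = 0 := by linear_combination c01
        rcases mul_eq_zero.1 this with h | h
        · exact h
        · exact absurd (sub_eq_zero.1 h).symm hne
      have x10 : X 1 0 = 0 := by
        have : X 1 0 * (G 0 0 - G 1 1) = 0 := by linear_combination c10
        rcases mul_eq_zero.1 this with h | h
        · exact h
        · exact absurd (sub_eq_zero.1 h) hne
      have hXeta : X = !![X 0 0, 0; 0, X 1 1] := by
        ext i j
        fin_cases i <;> fin_cases j <;> simp [x01, x10]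
      have hdetX : X.det ≠ 0 := by
        have := x.isUnit
        have h2 : IsUnit X.det := (Matrix.isUnit_iff_isUnit_det X).1 (by rw [hX]; exact Units.isUnit x)
        exact h2.ne_zero
      have hdX : X 0 0 * X 1 1 ≠ 0 := by
        rw [hXeta, Matrix.det_fin_two_of] at hdetX
        simpa using hdetX
      have hx00 : X 0 0 ≠ 0 := left_ne_zero_of_mul hdX
      have hx11 : X 1 1 ≠ 0 := right_ne_zero_of_mul hdX
      refine ⟨(Units.mk0 _ hx00, Units.mk0 _ hx11), ?_⟩
      apply Subtype.ext
      apply Units.ext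
      show !![X 0 0, 0; 0, X 1 1] = X
      exact hXeta.symm
  rw [← Nat.card_congr (Equiv.ofBijective φ hφ), Nat.card_prod, Nat.card_units, Nat.card_eq_fintype_card, sq]

theorem part2 {F : Type*} [Field F] [Fintype F] (g : GL (Fin 2) F)
    (hno : ∀ (c : F) (v : Fin 2 → F), v ≠ 0 → (g : Matrix (Fin 2) (Fin 2) F).mulVec v ≠ c • v) :
    Nat.card (Subgroup.centralizer ({g} : Set (GL (Fin 2) F))) = Fintype.card F ^ 2 - 1 := by
  classical
  set G := (g : Matrix (Fin 2) (Fin 2) F) with hG
  have hg10 : G 1 0 ≠ 0 := by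
    intro h
    apply hno (G 0 0) ![1, 0] (by
      intro h0
      have := congrFun h0 0
      simp at this)
    ext i
    fin_cases i
    · simp [Matrix.mulVec, dotProduct, Fin.sum_univ_two]
    · simp [Matrix.mulVec, dotProduct, Fin.sum_univ_two, h]
  have hdet : ∀ ab : {x : F × F // x ≠ 0}, (ab.1.1 • (1 : Matrix (Fin 2) (Fin 2) F) + ab.1.2 • G).det ≠ 0 := by
    rintro ⟨⟨a, b⟩, hab⟩ hd
    obtain ⟨v, hv, hMv⟩ := Matrix.exists_mulVec_eq_zero_iff.2 hd
    simp only at hMv
    rw [Matrix.add_mulVec, Matrix.smul_mulVec, Matrix.smul_mulVec, Matrix.one_mulVec] at hMv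
    by_cases hb : b = 0
    · rw [hb, zero_smul, add_zero] at hMv
      have ha : a = 0 := by
        by_contra ha
        apply hv
        have := congrArg (fun w => a⁻¹ • w) hMv
        simpa [smul_smul, inv_mul_cancel₀ ha] using this
      apply hab
      rw [ha, hb]; rfl
    · apply hno (-(a / b)) v hv
      have h1 : b • G.mulVec v = -(a • v) := eq_neg_of_add_eq_zero_right hMv
      have h2 := congrArg (fun w => b⁻¹ • w) h1
      simp only [smul_smul, inv_mul_cancel₀ hb, one_smul] at h2
      rw [h2]
      ext i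
      simp [div_eq_mul_inv]
      ring
  let φ : {x : F × F // x ≠ 0} → Subgroup.centralizer ({g} : Set (GL (Fin 2) F)) := fun ab =>
    ⟨Matrix.GeneralLinearGroup.mkOfDetNeZero _ (hdet ab), by
      rw [Subgroup.mem_centralizer_singleton_iff]
      apply Units.ext
      rw [Units.val_mul, Units.val_mul]
      show (ab.1.1 • (1 : Matrix (Fin 2) (Fin 2) F) + ab.1.2 • G) * G = G * (ab.1.1 • (1 : Matrix (Fin 2) (Fin 2) F) + ab.1.2 • G)
      rw [add_mul, mul_add]
      simp⟩
  have hφ : Function.Bijective φ := by
    constructor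
    · rintro ⟨⟨a, b⟩, hab⟩ ⟨⟨a', b'⟩, hab'⟩ h
      have h' := congrArg (fun y : Subgroup.centralizer ({g} : Set (GL (Fin 2) F)) =>
        ((y : GL (Fin 2) F) : Matrix (Fin 2) (Fin 2) F)) h
      have h'' : (a • (1 : Matrix (Fin 2) (Fin 2) F) + b • G) = a' • (1 : Matrix (Fin 2) (Fin 2) F) + b' • G := h'
      have e10 := congrFun (congrFun h'' 1) 0
      have e00 := congrFun (congrFun h'' 0) 0
      simp at e10 e00
      have hb : b = b' := by
        rcases e10 with h | h
        · exact h
        · exact absurd h hg10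
      subst hb
      have ha : a = a' := by linear_combination e00
      subst ha
      rfl
    · rintro ⟨x, hx⟩
      rw [Subgroup.mem_centralizer_singleton_iff] at hx
      have hxm := comm_entries x g hx
      set X := (x : Matrix (Fin 2) (Fin 2) F) with hX
      have c00 := congrFun (congrFun hxm 0) 0
      have c10 := congrFun (congrFun hxm 1) 0
      simp only [Matrix.mul_apply, Fin.sum_univ_two] at c00 c10
      rw [← hG] at c00 c10
      set b := X 1 0 / G 1 0 with hb
      set a := X 0 0 - b * G 0 0 with ha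
      have hbg : b * G 1 0 = X 1 0 := by rw [hb]; field_simp
      have hXeq : X = a • (1 : Matrix (Fin 2) (Fin 2) F) + b • G := by
        ext i j
        fin_cases i <;> fin_cases j
        · simp [ha]
        · simp
          have : X 0 1 * G 1 0 = G 0 1 * X 1 0 := by linear_combination c00
          have h2 : X 0 1 = b * G 0 1 := by
            rw [hb]; field_simp; linear_combination this
          exact h2
        · simp [hbg]
        · simp
          have h2 : X 1 1 * G 1 0 = (a + b * G 1 1) * G 1 0 := by
            rw [ha]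
            have : b * G 1 0 = X 1 0 := hbg
            linear_combination c10 + (G 0 0 - G 1 1) * this
          exact mul_right_cancel₀ hg10 h2
      have hab : (a, b) ≠ (0 : F × F) := by
        intro h0
        have ha0 : a = 0 := congrArg Prod.fst h0
        have hb0 : b = 0 := congrArg Prod.snd h0
        have hX0 : X = 0 := by rw [hXeq, ha0, hb0]; simp
        have h2 : IsUnit X.det := (Matrix.isUnit_iff_isUnit_det X).1 (by rw [hX]; exact Units.isUnit x)
        rw [hX0, Matrix.det_zero] at h2
        exact not_isUnit_zero h2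
      refine ⟨⟨(a, b), hab⟩, ?_⟩
      apply Subtype.ext
      apply Units.ext
      show a • (1 : Matrix (Fin 2) (Fin 2) F) + b • G = X
      exact hXeq.symm
  rw [← Nat.card_congr (Equiv.ofBijective φ hφ), card_nonzero_pairs]

/-- Over a finite field with q elements: a diagonal element of GL₂ with two distinct diagonal entries has centralizer of order (q − 1)² (so q(q + 1) conjugates), and an element of GL₂ with no eigenvector in F² has centralizer of order q² − 1 (so q(q − 1) conjugates). -/
theorem result {F : Type*} [Field F] [Fintype F] (g : Matrix.GeneralLinearGroup (Fin 2) F) :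
    ((g : Matrix (Fin 2) (Fin 2) F) 0 1 = 0 → (g : Matrix (Fin 2) (Fin 2) F) 1 0 = 0 → (g : Matrix (Fin 2) (Fin 2) F) 0 0 ≠ (g : Matrix (Fin 2) (Fin 2) F) 1 1 →
      Nat.card (Subgroup.centralizer ({g} : Set (Matrix.GeneralLinearGroup (Fin 2) F))) = (Fintype.card F - 1) ^ 2) ∧
    ((∀ (c : F) (v : Fin 2 → F), v ≠ 0 → (g : Matrix (Fin 2) (Fin 2) F).mulVec v ≠ c • v) →
      Nat.card (Subgroup.centralizer ({g} : Set (Matrix.GeneralLinearGroup (Fin 2) F))) = Fintype.card F ^ 2 - 1) := by
  exact ⟨part1 g, part2 g⟩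

end Cfsg.Agent.S2303
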