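import Mathlib
import Cfsg.Statements.S2433
import Cfsg.Agent.Lib.Helper1.SLCard

set_option autoImplicit false

open Cfsg

namespace Cfsg.Agent.S2433

open Matrix

variable {F : Type*} [Field F]

/-- the Borel subgroup of `SL₂` -/
abbrev Bsub (F : Type*) [Field F] : Subgroup (SpecialLinearGroup (Fin 2) F) :=
  (Cfsg.upperTriangularGL 2 F).comap Matrix.SpecialLinearGroup.toGL

lemma mem_B (x : SpecialLinearGroup (Fin 2) F) :
    x ∈ Bsub F ↔ (x : Matrix (Fin 2) (Fin 2) F) 1 0 = 0 := by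
  show (x : Matrix (Fin 2) (Fin 2) F).BlockTriangular id ↔ _
  constructor
  · intro h
    exact h (show (id (0 : Fin 2)) < id 1 by decide)
  · intro h i j hij
    fin_cases i <;> fin_cases j <;> simp_all

/-- the class function being induced, extended by zero -/
lemma ext_val (α : MulChar F ℂ) (y : SpecialLinearGroup (Fin 2) F) [Decidable ((y : Matrix (Fin 2) (Fin 2) F) 1 0 = 0)] :
    Cfsg.extendByZero (Bsub F)
      (fun b => α (((b : SpecialLinearGroup (Fin 2) F) : Matrix (Fin 2) (Fin 2) F) 0 0)) y =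
      if (y : Matrix (Fin 2) (Fin 2) F) 1 0 = 0 then α ((y : Matrix (Fin 2) (Fin 2) F) 0 0) else 0 := by
  unfold Cfsg.extendByZero
  split_ifs with h
  · have hy : y ∈ Bsub F := (mem_B y).mpr h
    exact Subtype.val_injective.extend_apply _ _ (⟨y, hy⟩ : Bsub F)
  · apply Function.extend_apply'
    rintro ⟨b, rfl⟩
    exact h ((mem_B b.1).mp b.2)

lemma det_eq (x : SpecialLinearGroup (Fin 2) F) :
    (x : Matrix (Fin 2) (Fin 2) F) 0 0 * (x : Matrix (Fin 2) (Fin 2) F) 1 1 -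
      (x : Matrix (Fin 2) (Fin 2) F) 0 1 * (x : Matrix (Fin 2) (Fin 2) F) 1 0 = 1 := by
  have := x.det_coe
  rw [Matrix.det_fin_two] at this
  exact this

lemma conj10 (x g : SpecialLinearGroup (Fin 2) F) :
    ((x⁻¹ * g * x : SpecialLinearGroup (Fin 2) F) : Matrix (Fin 2) (Fin 2) F) 1 0 =
      -(x : Matrix (Fin 2) (Fin 2) F) 1 0 * ((g : Matrix (Fin 2) (Fin 2) F) 0 0 * (x : Matrix (Fin 2) (Fin 2) F) 0 0 +
        (g : Matrix (Fin 2) (Fin 2) F) 0 1 * (x : Matrix (Fin 2) (Fin 2) F) 1 0) +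
      (x : Matrix (Fin 2) (Fin 2) F) 0 0 * ((g : Matrix (Fin 2) (Fin 2) F) 1 0 * (x : Matrix (Fin 2) (Fin 2) F) 0 0 +
        (g : Matrix (Fin 2) (Fin 2) F) 1 1 * (x : Matrix (Fin 2) (Fin 2) F) 1 0) := by
  simp only [Matrix.SpecialLinearGroup.coe_mul, Matrix.SpecialLinearGroup.coe_inv,
    Matrix.adjugate_fin_two, Matrix.mul_apply, Fin.sum_univ_two, Matrix.of_apply,
    Matrix.cons_val', Matrix.cons_val_zero, Matrix.cons_val_one, Matrix.empty_val',
    Matrix.cons_val_fin_one]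
  ring

lemma conj00 (x g : SpecialLinearGroup (Fin 2) F) :
    ((x⁻¹ * g * x : SpecialLinearGroup (Fin 2) F) : Matrix (Fin 2) (Fin 2) F) 0 0 =
      (x : Matrix (Fin 2) (Fin 2) F) 1 1 * ((g : Matrix (Fin 2) (Fin 2) F) 0 0 * (x : Matrix (Fin 2) (Fin 2) F) 0 0 +
        (g : Matrix (Fin 2) (Fin 2) F) 0 1 * (x : Matrix (Fin 2) (Fin 2) F) 1 0) -
      (x : Matrix (Fin 2) (Fin 2) F) 0 1 * ((g : Matrix (Fin 2) (Fin 2) F) 1 0 * (x : Matrix (Fin 2) (Fin 2) F) 0 0 +
        (g : Matrix (Fin 2) (Fin 2) F) 1 1 * (x : Matrix (Fin 2) (Fin 2) F) 1 0) := by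
  simp only [Matrix.SpecialLinearGroup.coe_mul, Matrix.SpecialLinearGroup.coe_inv,
    Matrix.adjugate_fin_two, Matrix.mul_apply, Fin.sum_univ_two, Matrix.of_apply,
    Matrix.cons_val', Matrix.cons_val_zero, Matrix.cons_val_one, Matrix.empty_val',
    Matrix.cons_val_fin_one]
  ring


section fin

variable [Fintype F] [DecidableEq F]

local notation "SL2" => SpecialLinearGroup (Fin 2) F

lemma card_filter10 :
    (Finset.univ.filter (fun x : SL2 => (x : Matrix (Fin 2) (Fin 2) F) 1 0 = 0)).card =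
      Nat.card (Bsub F) := by
  rw [Nat.card_congr (Equiv.subtypeEquivRight (fun x => mem_B (F := F) x)),
    Nat.card_eq_fintype_card, Fintype.card_subtype]

/-- the Weyl element -/
def wel : SL2 := ⟨!![0, -1; 1, 0], by simp [Matrix.det_fin_two]⟩

lemma wel_mul10 (x : SL2) :
    ((wel * x : SL2) : Matrix (Fin 2) (Fin 2) F) 1 0 = (x : Matrix (Fin 2) (Fin 2) F) 0 0 := by
  rw [Matrix.SpecialLinearGroup.coe_mul, Matrix.mul_apply, Fin.sum_univ_two]
  simp [wel]

lemma card_filter00 :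
    (Finset.univ.filter (fun x : SL2 => (x : Matrix (Fin 2) (Fin 2) F) 0 0 = 0)).card =
      Nat.card (Bsub F) := by
  rw [← card_filter10]
  apply Finset.card_equiv (Equiv.mulLeft (wel : SL2))
  intro x
  simp only [Finset.mem_filter, Finset.mem_univ, true_and, Equiv.coe_mulLeft, wel_mul10]

lemma cardB_ne_zero : (Nat.card (Bsub F) : ℂ) ≠ 0 := by
  have : Nat.card (Bsub F) ≠ 0 := Nat.card_pos.ne'
  exact_mod_cast this

lemma case1 (α : MulChar F ℂ) (g : SL2)
    (h01 : (g : Matrix (Fin 2) (Fin 2) F) 0 1 = 0) (h10 : (g : Matrix (Fin 2) (Fin 2) F) 1 0 = 0)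
    (hsq : (g : Matrix (Fin 2) (Fin 2) F) 0 0 ^ 2 ≠ 1) :
    Cfsg.indFun (Bsub F)
      (fun b => α (((b : SL2) : Matrix (Fin 2) (Fin 2) F) 0 0)) g =
      α ((g : Matrix (Fin 2) (Fin 2) F) 0 0) + α ((g : Matrix (Fin 2) (Fin 2) F) 1 1) := by
  unfold Cfsg.indFun
  have hdet := det_eq g
  rw [h01, zero_mul, sub_zero] at hdet
  have hne : (g : Matrix (Fin 2) (Fin 2) F) 1 1 - (g : Matrix (Fin 2) (Fin 2) F) 0 0 ≠ 0 := by
    intro h
    apply hsq
    have : (g : Matrix (Fin 2) (Fin 2) F) 1 1 = (g : Matrix (Fin 2) (Fin 2) F) 0 0 := sub_eq_zero.mp h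
    rw [this] at hdet
    rw [pow_two]; exact hdet
  have hterm : ∀ x : SL2, Cfsg.extendByZero (Bsub F)
      (fun b => α (((b : SL2) : Matrix (Fin 2) (Fin 2) F) 0 0)) (x⁻¹ * g * x) =
      (if (x : Matrix (Fin 2) (Fin 2) F) 1 0 = 0 then α ((g : Matrix (Fin 2) (Fin 2) F) 0 0) else 0) +
      (if (x : Matrix (Fin 2) (Fin 2) F) 0 0 = 0 then α ((g : Matrix (Fin 2) (Fin 2) F) 1 1) else 0) := by
    intro x
    have hx := det_eq x
    rw [ext_val, conj10, conj00, h01, h10]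
    by_cases hx10 : (x : Matrix (Fin 2) (Fin 2) F) 1 0 = 0
    · have hx00 : (x : Matrix (Fin 2) (Fin 2) F) 0 0 ≠ 0 := by
        intro h0; rw [hx10, h0] at hx; simp at hx
      rw [hx10] at hx ⊢
      rw [if_pos (by ring), if_pos rfl, if_neg hx00, add_zero]
      congr 1
      linear_combination (g : Matrix (Fin 2) (Fin 2) F) 0 0 * hx
    · by_cases hx00 : (x : Matrix (Fin 2) (Fin 2) F) 0 0 = 0
      · rw [hx00] at hx ⊢
        rw [if_pos (by ring), if_neg hx10, if_pos rfl, zero_add]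
        congr 1
        linear_combination (g : Matrix (Fin 2) (Fin 2) F) 1 1 * hx
      · rw [if_neg, if_neg hx10, if_neg hx00, add_zero]
        intro h
        have h2 : (x : Matrix (Fin 2) (Fin 2) F) 0 0 * (x : Matrix (Fin 2) (Fin 2) F) 1 0 *
            ((g : Matrix (Fin 2) (Fin 2) F) 1 1 - (g : Matrix (Fin 2) (Fin 2) F) 0 0) = 0 := by
          linear_combination h
        rcases mul_eq_zero.mp h2 with h3 | h3
        · rcases mul_eq_zero.mp h3 with h4 | h4
          · exact hx00 h4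
          · exact hx10 h4
        · exact hne h3
  rw [Finset.sum_congr rfl (fun x _ => hterm x), Finset.sum_add_distrib, ← Finset.sum_filter,
    ← Finset.sum_filter, Finset.sum_const, Finset.sum_const, card_filter10, card_filter00,
    nsmul_eq_mul, nsmul_eq_mul, ← mul_add, ← mul_assoc, inv_mul_cancel₀ cardB_ne_zero, one_mul]

lemma case2 (α : MulChar F ℂ) (g : SL2)
    (h : ∀ (c : F) (v : Fin 2 → F), v ≠ 0 → (g : Matrix (Fin 2) (Fin 2) F).mulVec v ≠ c • v) :
    Cfsg.indFun (Bsub F)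
      (fun b => α (((b : SL2) : Matrix (Fin 2) (Fin 2) F) 0 0)) g = 0 := by
  unfold Cfsg.indFun
  have hterm : ∀ x : SL2, Cfsg.extendByZero (Bsub F)
      (fun b => α (((b : SL2) : Matrix (Fin 2) (Fin 2) F) 0 0)) (x⁻¹ * g * x) = 0 := by
    intro x
    have hx := det_eq x
    rw [ext_val, if_neg]
    intro h0
    rw [conj10] at h0
    apply h (((x⁻¹ * g * x : SL2) : Matrix (Fin 2) (Fin 2) F) 0 0)
      ![(x : Matrix (Fin 2) (Fin 2) F) 0 0, (x : Matrix (Fin 2) (Fin 2) F) 1 0]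
    · intro hv
      have h1 := congrFun hv 0
      have h2 := congrFun hv 1
      simp at h1 h2
      rw [h1, h2] at hx
      simp at hx
    · rw [conj00]
      ext i
      fin_cases i
      · simp [Matrix.mulVec, dotProduct, Fin.sum_univ_two]
        linear_combination (-(g : Matrix (Fin 2) (Fin 2) F) 0 0 * (x : Matrix (Fin 2) (Fin 2) F) 0 0 -
          (g : Matrix (Fin 2) (Fin 2) F) 0 1 * (x : Matrix (Fin 2) (Fin 2) F) 1 0) * hx +
          (x : Matrix (Fin 2) (Fin 2) F) 0 1 * h0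
      · simp [Matrix.mulVec, dotProduct, Fin.sum_univ_two]
        linear_combination (-(g : Matrix (Fin 2) (Fin 2) F) 1 0 * (x : Matrix (Fin 2) (Fin 2) F) 0 0 -
          (g : Matrix (Fin 2) (Fin 2) F) 1 1 * (x : Matrix (Fin 2) (Fin 2) F) 1 0) * hx +
          (x : Matrix (Fin 2) (Fin 2) F) 1 1 * h0
  rw [Finset.sum_congr rfl (fun x _ => hterm x), Finset.sum_const_zero, mul_zero]


lemma case3 (α : MulChar F ℂ) (g : SL2)
    (h10 : (g : Matrix (Fin 2) (Fin 2) F) 1 0 = 0)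
    (heq : (g : Matrix (Fin 2) (Fin 2) F) 0 0 = (g : Matrix (Fin 2) (Fin 2) F) 1 1)
    (h01 : (g : Matrix (Fin 2) (Fin 2) F) 0 1 ≠ 0) :
    Cfsg.indFun (Bsub F)
      (fun b => α (((b : SL2) : Matrix (Fin 2) (Fin 2) F) 0 0)) g =
      α ((g : Matrix (Fin 2) (Fin 2) F) 0 0) := by
  unfold Cfsg.indFun
  have hterm : ∀ x : SL2, Cfsg.extendByZero (Bsub F)
      (fun b => α (((b : SL2) : Matrix (Fin 2) (Fin 2) F) 0 0)) (x⁻¹ * g * x) =
      (if (x : Matrix (Fin 2) (Fin 2) F) 1 0 = 0 then α ((g : Matrix (Fin 2) (Fin 2) F) 0 0) else 0) := by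
    intro x
    have hx := det_eq x
    rw [ext_val, conj10, conj00, h10, ← heq]
    by_cases hx10 : (x : Matrix (Fin 2) (Fin 2) F) 1 0 = 0
    · rw [hx10] at hx ⊢
      rw [if_pos (by ring), if_pos rfl]
      congr 1
      linear_combination (g : Matrix (Fin 2) (Fin 2) F) 0 0 * hx
    · rw [if_neg, if_neg hx10]
      intro h
      have h2 : (g : Matrix (Fin 2) (Fin 2) F) 0 1 * ((x : Matrix (Fin 2) (Fin 2) F) 1 0 *
          (x : Matrix (Fin 2) (Fin 2) F) 1 0) = 0 := by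
        linear_combination -h
      rcases mul_eq_zero.mp h2 with h3 | h3
      · exact h01 h3
      · rcases mul_eq_zero.mp h3 with h4 | h4 <;> exact hx10 h4
  rw [Finset.sum_congr rfl (fun x _ => hterm x), ← Finset.sum_filter, Finset.sum_const,
    card_filter10, nsmul_eq_mul, ← mul_assoc, inv_mul_cancel₀ cardB_ne_zero, one_mul]

lemma cardB : Nat.card (Bsub F) = Fintype.card F * (Fintype.card F - 1) := by
  have e : Bsub F ≃ Fˣ × F :=
    { toFun := fun b => (Units.mk0 ((b.1 : Matrix (Fin 2) (Fin 2) F) 0 0) (by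
          intro h0
          have hx := det_eq b.1
          rw [h0, (mem_B b.1).mp b.2] at hx
          simp at hx), (b.1 : Matrix (Fin 2) (Fin 2) F) 0 1)
      invFun := fun ut => ⟨⟨!![(ut.1 : F), ut.2; 0, ((ut.1⁻¹ : Fˣ) : F)], by
          simp [Matrix.det_fin_two]⟩, (mem_B _).mpr (by simp)⟩
      left_inv := by
        intro b
        apply Subtype.ext
        apply Subtype.ext
        have hx := det_eq b.1
        have hb10 := (mem_B b.1).mp b.2
        rw [hb10, mul_zero, sub_zero] at hx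
        ext i j
        fin_cases i <;> fin_cases j
        · simp
        · simp
        · simp [hb10]
        · simp
          exact (eq_inv_of_mul_eq_one_right hx).symm
      right_inv := by
        rintro ⟨u, t⟩
        apply Prod.ext
        · apply Units.ext; simp
        · simp }
  rw [Nat.card_congr e, Nat.card_prod, Nat.card_units, Nat.card_eq_fintype_card, mul_comm]

lemma cardSL : Fintype.card SL2 = (Fintype.card F + 1) * Nat.card (Bsub F) := by
  have h := Cfsg.Agent.Lib.Helper1.card_SL_field (F := F) 2 (by norm_num)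
  rw [Fin.prod_univ_two] at h
  simp only [Fin.val_zero, Fin.val_one, pow_zero, pow_one] at h
  rw [cardB, ← Nat.card_eq_fintype_card]
  have hq : 1 < Fintype.card F := Fintype.one_lt_card
  obtain ⟨k, hk⟩ : ∃ k, Fintype.card F = k + 1 := ⟨Fintype.card F - 1, by omega⟩
  rw [hk] at h ⊢
  have h1 : (k + 1) ^ 2 - 1 = k * (k + 2) := by
    have : (k + 1) ^ 2 = k * (k + 2) + 1 := by ring
    omega
  have h2 : (k + 1) ^ 2 - (k + 1) = k * (k + 1) := by
    have : (k + 1) ^ 2 = k * (k + 1) + (k + 1) := by ring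
    omega
  rw [h1, h2, Nat.add_sub_cancel] at h
  rw [Nat.add_sub_cancel]
  have hk0 : 0 < k := by omega
  apply Nat.eq_of_mul_eq_mul_left hk0
  rw [h]; ring

lemma case4 (α : MulChar F ℂ) (g : SL2)
    (h01 : (g : Matrix (Fin 2) (Fin 2) F) 0 1 = 0) (h10 : (g : Matrix (Fin 2) (Fin 2) F) 1 0 = 0)
    (heq : (g : Matrix (Fin 2) (Fin 2) F) 0 0 = (g : Matrix (Fin 2) (Fin 2) F) 1 1) :
    Cfsg.indFun (Bsub F)
      (fun b => α (((b : SL2) : Matrix (Fin 2) (Fin 2) F) 0 0)) g =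
      ((Fintype.card F : ℂ) + 1) * α ((g : Matrix (Fin 2) (Fin 2) F) 0 0) := by
  unfold Cfsg.indFun
  have hterm : ∀ x : SL2, Cfsg.extendByZero (Bsub F)
      (fun b => α (((b : SL2) : Matrix (Fin 2) (Fin 2) F) 0 0)) (x⁻¹ * g * x) =
      α ((g : Matrix (Fin 2) (Fin 2) F) 0 0) := by
    intro x
    have hx := det_eq x
    rw [ext_val, conj10, conj00, h10, h01, ← heq, if_pos (by ring)]
    congr 1
    linear_combination (g : Matrix (Fin 2) (Fin 2) F) 0 0 * hx
  rw [Finset.sum_congr rfl (fun x _ => hterm x), Finset.sum_const, Finset.card_univ, cardSL,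
    nsmul_eq_mul]
  push_cast
  have hN : (Nat.card (Bsub F) : ℂ) ≠ 0 := cardB_ne_zero
  field_simp

end fin


theorem result {F : Type*} [Field F] [Fintype F] [DecidableEq F] (hodd : Odd (Fintype.card F)) (α : MulChar F ℂ) (g : Matrix.SpecialLinearGroup (Fin 2) F) :
    ((g : Matrix (Fin 2) (Fin 2) F) 0 1 = 0 → (g : Matrix (Fin 2) (Fin 2) F) 1 0 = 0 → (g : Matrix (Fin 2) (Fin 2) F) 0 0 ^ 2 ≠ 1 →
      (Cfsg.indFun ((Cfsg.upperTriangularGL 2 F).comap Matrix.SpecialLinearGroup.toGL) (fun b => α (((b : Matrix.SpecialLinearGroup (Fin 2) F) : Matrix (Fin 2) (Fin 2) F) 0 0))) g = α ((g : Matrix (Fin 2) (Fin 2) F) 0 0) + α ((g : Matrix (Fin 2) (Fin 2) F) 1 1)) ∧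
    ((∀ (c : F) (v : Fin 2 → F), v ≠ 0 → (g : Matrix (Fin 2) (Fin 2) F).mulVec v ≠ c • v) → (Cfsg.indFun ((Cfsg.upperTriangularGL 2 F).comap Matrix.SpecialLinearGroup.toGL) (fun b => α (((b : Matrix.SpecialLinearGroup (Fin 2) F) : Matrix (Fin 2) (Fin 2) F) 0 0))) g = 0) ∧
    ((g : Matrix (Fin 2) (Fin 2) F) 1 0 = 0 → (g : Matrix (Fin 2) (Fin 2) F) 0 0 = (g : Matrix (Fin 2) (Fin 2) F) 1 1 → (g : Matrix (Fin 2) (Fin 2) F) 0 1 ≠ 0 →
      (Cfsg.indFun ((Cfsg.upperTriangularGL 2 F).comap Matrix.SpecialLinearGroup.toGL) (fun b => α (((b : Matrix.SpecialLinearGroup (Fin 2) F) : Matrix (Fin 2) (Fin 2) F) 0 0))) g = α ((g : Matrix (Fin 2) (Fin 2) F) 0 0)) ∧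
    ((g : Matrix (Fin 2) (Fin 2) F) 0 1 = 0 → (g : Matrix (Fin 2) (Fin 2) F) 1 0 = 0 → (g : Matrix (Fin 2) (Fin 2) F) 0 0 = (g : Matrix (Fin 2) (Fin 2) F) 1 1 →
      (Cfsg.indFun ((Cfsg.upperTriangularGL 2 F).comap Matrix.SpecialLinearGroup.toGL) (fun b => α (((b : Matrix.SpecialLinearGroup (Fin 2) F) : Matrix (Fin 2) (Fin 2) F) 0 0))) g = ((Fintype.card F : ℂ) + 1) * α ((g : Matrix (Fin 2) (Fin 2) F) 0 0)) := by
  exact ⟨case1 α g, case2 α g, case3 α g, case4 α g⟩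

end Cfsg.Agent.S2433
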