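import Mathlib
import Cfsg.Statements.S2432
import Cfsg.Agent.S2433
import Cfsg.Agent.Lib.Helper8.CharInd

set_option autoImplicit false

open Cfsg

namespace Cfsg.Agent.S2432

open Matrix Cfsg.Agent.S2433 ComplexConjugate

variable {F : Type*} [Field F]

local notation "SL2" => SpecialLinearGroup (Fin 2) F

/-- parametrisation of the Borel subgroup -/
def equivB : Bsub F ≃ Fˣ × F where
  toFun := fun b => (Units.mk0 ((b.1 : Matrix (Fin 2) (Fin 2) F) 0 0) (by
        intro h0
        have hx := det_eq b.1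
        rw [h0, (mem_B b.1).mp b.2] at hx
        simp at hx), (b.1 : Matrix (Fin 2) (Fin 2) F) 0 1)
  invFun := fun ut => ⟨⟨!![(ut.1 : F), ut.2; 0, ((ut.1⁻¹ : Fˣ) : F)], by
        simp [Matrix.det_fin_two]⟩, (mem_B _).mpr (by simp)⟩
  left_inv := by
    intro b
    apply Subtype.ext
    apply Subtype.ext
    have hx := det_eq b.1
    have hb10 := (mem_B b.1).mp b.2
    rw [hb10, mul_zero, sub_zero] at hx
    ext i j
    fin_cases i <;> fin_cases j
    · simp
    · simp
    · simp [hb10]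
    · simp
      exact (eq_inv_of_mul_eq_one_right hx).symm
  right_inv := by
    rintro ⟨u, t⟩
    apply Prod.ext
    · apply Units.ext; simp
    · simp

lemma equivB_symm_coe (u : Fˣ) (t : F) :
    (((equivB.symm (u, t) : Bsub F) : SL2) : Matrix (Fin 2) (Fin 2) F) =
      !![(u : F), t; 0, ((u⁻¹ : Fˣ) : F)] := rfl

section fin

variable [Fintype F] [DecidableEq F]

/-- sum of a multiplicative character over the units -/
lemma sum_units (χ : MulChar F ℂ) : ∑ u : Fˣ, χ (u : F) = ∑ a : F, χ a := by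
  apply Fintype.sum_of_injective (fun u : Fˣ => (u : F)) Units.val_injective
  · intro a ha
    apply MulChar.map_nonunit
    intro hu
    exact ha ⟨hu.unit, rfl⟩
  · intro u; rfl

lemma sum_units_eq (χ : MulChar F ℂ) [Decidable (χ = 1)] :
    ∑ u : Fˣ, χ (u : F) = if χ = 1 then ((Fintype.card F : ℂ) - 1) else 0 := by
  rw [sum_units]
  split_ifs with h
  · rw [h, MulChar.sum_one_eq_card_units, Fintype.card_units, Nat.cast_sub Fintype.card_pos]
    simp
  · exact MulChar.sum_eq_zero_of_ne_one h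

/-- the inner sum over the Borel subgroup for a fixed conjugating element -/
lemma inner_sum [Fintype (Bsub F)] (α β : MulChar F ℂ) (x : SL2) :
    ∑ b : Bsub F, α (((b : SL2) : Matrix (Fin 2) (Fin 2) F) 0 0) *
      conj (Cfsg.extendByZero (Bsub F)
        (fun b => β (((b : SL2) : Matrix (Fin 2) (Fin 2) F) 0 0)) (x⁻¹ * (b : SL2) * x)) =
    if (x : Matrix (Fin 2) (Fin 2) F) 1 0 = 0 then
      (Fintype.card F : ℂ) * ∑ u : Fˣ, (α * β⁻¹) (u : F)
    else ∑ u : Fˣ, (α * β) (u : F) := by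
  have hx := det_eq x
  rw [← Equiv.sum_comp (equivB (F := F)).symm, Fintype.sum_prod_type]
  have hval : ∀ (u : Fˣ) (t : F),
      α ((((equivB.symm (u, t) : Bsub F) : SL2) : Matrix (Fin 2) (Fin 2) F) 0 0) *
      conj (Cfsg.extendByZero (Bsub F)
        (fun b => β (((b : SL2) : Matrix (Fin 2) (Fin 2) F) 0 0))
          (x⁻¹ * ((equivB.symm (u, t) : Bsub F) : SL2) * x)) =
      if (-(x : Matrix (Fin 2) (Fin 2) F) 1 0 * ((u : F) * (x : Matrix (Fin 2) (Fin 2) F) 0 0 +
          t * (x : Matrix (Fin 2) (Fin 2) F) 1 0) +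
        (x : Matrix (Fin 2) (Fin 2) F) 0 0 * (((u⁻¹ : Fˣ) : F) * (x : Matrix (Fin 2) (Fin 2) F) 1 0)) = 0
      then α (u : F) * β⁻¹ ((x : Matrix (Fin 2) (Fin 2) F) 1 1 * ((u : F) * (x : Matrix (Fin 2) (Fin 2) F) 0 0 +
          t * (x : Matrix (Fin 2) (Fin 2) F) 1 0) -
        (x : Matrix (Fin 2) (Fin 2) F) 0 1 * (((u⁻¹ : Fˣ) : F) * (x : Matrix (Fin 2) (Fin 2) F) 1 0))
      else 0 := by
    intro u t
    rw [ext_val, conj10, conj00, equivB_symm_coe]
    simp only [Matrix.of_apply, Matrix.cons_val', Matrix.cons_val_zero, Matrix.cons_val_one,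
      Matrix.empty_val', Matrix.cons_val_fin_one, zero_mul, zero_add]
    split_ifs with h
    · rw [← MulChar.star_apply']
      rfl
    · simp
  simp_rw [hval]
  split_ifs with hx10
  · -- x in the Borel subgroup
    rw [hx10, mul_zero, sub_zero] at hx
    rw [Finset.mul_sum]
    apply Finset.sum_congr rfl
    intro u _
    have : ∀ t : F, (if (-(x : Matrix (Fin 2) (Fin 2) F) 1 0 * ((u : F) * (x : Matrix (Fin 2) (Fin 2) F) 0 0 +
          t * (x : Matrix (Fin 2) (Fin 2) F) 1 0) +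
        (x : Matrix (Fin 2) (Fin 2) F) 0 0 * (((u⁻¹ : Fˣ) : F) * (x : Matrix (Fin 2) (Fin 2) F) 1 0)) = 0
      then α (u : F) * β⁻¹ ((x : Matrix (Fin 2) (Fin 2) F) 1 1 * ((u : F) * (x : Matrix (Fin 2) (Fin 2) F) 0 0 +
          t * (x : Matrix (Fin 2) (Fin 2) F) 1 0) -
        (x : Matrix (Fin 2) (Fin 2) F) 0 1 * (((u⁻¹ : Fˣ) : F) * (x : Matrix (Fin 2) (Fin 2) F) 1 0))
      else 0) = (α * β⁻¹) (u : F) := by
      intro t
      rw [hx10, if_pos (by ring), MulChar.mul_apply]
      congr 2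
      linear_combination (u : F) * hx
    rw [Finset.sum_congr rfl (fun t _ => this t), Finset.sum_const, Finset.card_univ, nsmul_eq_mul]
  · -- x outside the Borel subgroup
    apply Finset.sum_congr rfl
    intro u _
    have hu : (u : F) * ((u⁻¹ : Fˣ) : F) = 1 := by
      rw [← Units.val_mul, mul_inv_cancel, Units.val_one]
    rw [Finset.sum_eq_single
      (((((u⁻¹ : Fˣ) : F) - (u : F)) * (x : Matrix (Fin 2) (Fin 2) F) 0 0) /
        (x : Matrix (Fin 2) (Fin 2) F) 1 0)]
    · have ht0 : (((((u⁻¹ : Fˣ) : F) - (u : F)) * (x : Matrix (Fin 2) (Fin 2) F) 0 0) /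
          (x : Matrix (Fin 2) (Fin 2) F) 1 0) * (x : Matrix (Fin 2) (Fin 2) F) 1 0 =
          (((u⁻¹ : Fˣ) : F) - (u : F)) * (x : Matrix (Fin 2) (Fin 2) F) 0 0 :=
        div_mul_cancel₀ _ hx10
      have hy : (x : Matrix (Fin 2) (Fin 2) F) 1 1 * ((u : F) * (x : Matrix (Fin 2) (Fin 2) F) 0 0 +
          (((((u⁻¹ : Fˣ) : F) - (u : F)) * (x : Matrix (Fin 2) (Fin 2) F) 0 0) /
          (x : Matrix (Fin 2) (Fin 2) F) 1 0) * (x : Matrix (Fin 2) (Fin 2) F) 1 0) -
          (x : Matrix (Fin 2) (Fin 2) F) 0 1 * (((u⁻¹ : Fˣ) : F) * (x : Matrix (Fin 2) (Fin 2) F) 1 0) =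
          ((u⁻¹ : Fˣ) : F) := by
        linear_combination (x : Matrix (Fin 2) (Fin 2) F) 1 1 * ht0 + ((u⁻¹ : Fˣ) : F) * hx
      rw [if_pos (by linear_combination -(x : Matrix (Fin 2) (Fin 2) F) 1 0 * ht0), hy,
        MulChar.mul_apply, MulChar.inv_apply', ← Units.val_inv_eq_inv_val, inv_inv]
    · intro t _ ht
      rw [if_neg]
      intro h
      apply ht
      rw [eq_div_iff hx10]
      have h2 : (x : Matrix (Fin 2) (Fin 2) F) 1 0 * (t * (x : Matrix (Fin 2) (Fin 2) F) 1 0 -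
          (((u⁻¹ : Fˣ) : F) - (u : F)) * (x : Matrix (Fin 2) (Fin 2) F) 0 0) = 0 := by
        linear_combination -h
      rcases mul_eq_zero.mp h2 with h3 | h3
      · exact absurd h3 hx10
      · linear_combination h3
    · intro h; exact absurd (Finset.mem_univ _) h


lemma sum_units_one : ∑ u : Fˣ, (1 : MulChar F ℂ) (u : F) = (Fintype.card F : ℂ) - 1 := by
  rw [sum_units, MulChar.sum_one_eq_card_units, Fintype.card_units, Nat.cast_sub Fintype.card_pos]
  simp

lemma sum_units_ne {χ : MulChar F ℂ} (h : χ ≠ 1) : ∑ u : Fˣ, χ (u : F) = 0 := by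
  rw [sum_units]
  exact MulChar.sum_eq_zero_of_ne_one h

lemma card_filter_not10 :
    (Finset.univ.filter (fun x : SL2 => ¬ (x : Matrix (Fin 2) (Fin 2) F) 1 0 = 0)).card =
      Fintype.card F * Nat.card (Bsub F) := by
  have h := Finset.card_filter_add_card_filter_not (s := (Finset.univ : Finset SL2))
    (fun x : SL2 => (x : Matrix (Fin 2) (Fin 2) F) 1 0 = 0)
  rw [card_filter10, Finset.card_univ, cardSL] at h
  have : (Fintype.card F + 1) * Nat.card (Bsub F) =
      Nat.card (Bsub F) + Fintype.card F * Nat.card (Bsub F) := by ring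
  omega

end fin


theorem result {F : Type*} [Field F] [Fintype F] [DecidableEq F] (hodd : Odd (Fintype.card F))
    (α β : MulChar F ℂ) [Decidable (α = β)] [Decidable (α = β⁻¹)] :
    Cfsg.classInner (Cfsg.indFun ((Cfsg.upperTriangularGL 2 F).comap Matrix.SpecialLinearGroup.toGL) (fun b => α (((b : Matrix.SpecialLinearGroup (Fin 2) F) : Matrix (Fin 2) (Fin 2) F) 0 0))) (Cfsg.indFun ((Cfsg.upperTriangularGL 2 F).comap Matrix.SpecialLinearGroup.toGL) (fun b => β (((b : Matrix.SpecialLinearGroup (Fin 2) F) : Matrix (Fin 2) (Fin 2) F) 0 0))) =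
      (if α = β then 1 else 0) + (if α = β⁻¹ then 1 else 0) := by
  haveI : Fintype (Bsub F) := Fintype.ofFinite _
  rw [Cfsg.Agent.Lib.Helper8.frobenius_reciprocity (Bsub F) _ _
    (Cfsg.Agent.Lib.Helper8.indFun_isClassFunction (Bsub F) _)]
  unfold Cfsg.classInner
  have hconj : ∀ b : Bsub F,
      α (((b : SpecialLinearGroup (Fin 2) F) : Matrix (Fin 2) (Fin 2) F) 0 0) *
      conj (Cfsg.indFun (Bsub F)
        (fun b => β (((b : SpecialLinearGroup (Fin 2) F) : Matrix (Fin 2) (Fin 2) F) 0 0))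
        (b : SpecialLinearGroup (Fin 2) F)) =
      (Nat.card (Bsub F) : ℂ)⁻¹ * ∑ x : SpecialLinearGroup (Fin 2) F,
        α (((b : SpecialLinearGroup (Fin 2) F) : Matrix (Fin 2) (Fin 2) F) 0 0) *
        conj (Cfsg.extendByZero (Bsub F)
          (fun b => β (((b : SpecialLinearGroup (Fin 2) F) : Matrix (Fin 2) (Fin 2) F) 0 0))
          (x⁻¹ * (b : SpecialLinearGroup (Fin 2) F) * x)) := by
    intro b
    rw [Cfsg.Agent.Lib.Helper8.indFun_apply, map_mul, map_inv₀, Complex.conj_natCast, map_sum,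
      Finset.mul_sum, Finset.mul_sum, Finset.mul_sum]
    apply Finset.sum_congr rfl
    intro x _
    ring
  rw [Finset.sum_congr rfl (fun b _ => hconj b), ← Finset.mul_sum, Finset.sum_comm,
    Finset.sum_congr rfl (fun x _ => inner_sum α β x), Finset.sum_ite, Finset.sum_const,
    Finset.sum_const, card_filter10, card_filter_not10, nsmul_eq_mul, nsmul_eq_mul, cardB]
  have hq : 1 < Fintype.card F := Fintype.one_lt_card
  have hq0 : (Fintype.card F : ℂ) ≠ 0 := by
    have : Fintype.card F ≠ 0 := by omega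
    exact_mod_cast this
  have hq1 : (Fintype.card F : ℂ) - 1 ≠ 0 := by
    intro h
    have h2 : (Fintype.card F : ℂ) = 1 := sub_eq_zero.mp h
    have : Fintype.card F = 1 := by exact_mod_cast h2
    omega
  have hA : ∑ u : Fˣ, (α * β⁻¹) (u : F) = if α = β then (Fintype.card F : ℂ) - 1 else 0 := by
    split_ifs with h
    · rw [h, mul_inv_cancel]; exact sum_units_one
    · exact sum_units_ne (fun h' => h (mul_inv_eq_one.mp h'))
  have hA' : ∑ u : Fˣ, (α * β) (u : F) = if α = β⁻¹ then (Fintype.card F : ℂ) - 1 else 0 := by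
    split_ifs with h
    · rw [h, inv_mul_cancel]; exact sum_units_one
    · exact sum_units_ne (fun h' => h (mul_eq_one_iff_eq_inv.mp h'))
  rw [hA, hA']
  push_cast [Nat.cast_sub (le_of_lt hq)]
  split_ifs <;> field_simp <;> ring

end Cfsg.Agent.S2432
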