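import Mathlib
import Cfsg.Statements.S2306
import Cfsg.Agent.S2432
import Cfsg.Agent.Lib.Helper8.CharInd
import Cfsg.Agent.Lib.Helper8.CharDecomp
import Cfsg.Agent.Lib.Helper8.CharOrth

set_option autoImplicit false

open Cfsg

namespace Cfsg.Agent.S2306

open Matrix Cfsg.Agent.S2433 Cfsg.Agent.S2432 ComplexConjugate

/-- the inner product formula of S2432 without the parity assumption -/
theorem inner_general {F : Type*} [Field F] [Fintype F] [DecidableEq F]
    (α β : MulChar F ℂ) [Decidable (α = β)] [Decidable (α = β⁻¹)] :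
    Cfsg.classInner (Cfsg.indFun ((Cfsg.upperTriangularGL 2 F).comap Matrix.SpecialLinearGroup.toGL) (fun b => α (((b : Matrix.SpecialLinearGroup (Fin 2) F) : Matrix (Fin 2) (Fin 2) F) 0 0))) (Cfsg.indFun ((Cfsg.upperTriangularGL 2 F).comap Matrix.SpecialLinearGroup.toGL) (fun b => β (((b : Matrix.SpecialLinearGroup (Fin 2) F) : Matrix (Fin 2) (Fin 2) F) 0 0))) =
      (if α = β then 1 else 0) + (if α = β⁻¹ then 1 else 0) := by
  haveI : Fintype (Bsub F) := Fintype.ofFinite _
  rw [Cfsg.Agent.Lib.Helper8.frobenius_reciprocity (Bsub F) _ _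
    (Cfsg.Agent.Lib.Helper8.indFun_isClassFunction (Bsub F) _)]
  unfold Cfsg.classInner
  have hconj : ∀ b : Bsub F,
      α (((b : SpecialLinearGroup (Fin 2) F) : Matrix (Fin 2) (Fin 2) F) 0 0) *
      conj (Cfsg.indFun (Bsub F)
        (fun b => β (((b : SpecialLinearGroup (Fin 2) F) : Matrix (Fin 2) (Fin 2) F) 0 0))
        (b : SpecialLinearGroup (Fin 2) F)) =
      (Nat.card (Bsub F) : ℂ)⁻¹ * ∑ x : SpecialLinearGroup (Fin 2) F,
        α (((b : SpecialLinearGroup (Fin 2) F) : Matrix (Fin 2) (Fin 2) F) 0 0) *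
        conj (Cfsg.extendByZero (Bsub F)
          (fun b => β (((b : SpecialLinearGroup (Fin 2) F) : Matrix (Fin 2) (Fin 2) F) 0 0))
          (x⁻¹ * (b : SpecialLinearGroup (Fin 2) F) * x)) := by
    intro b
    rw [Cfsg.Agent.Lib.Helper8.indFun_apply, map_mul, map_inv₀, Complex.conj_natCast, map_sum,
      Finset.mul_sum, Finset.mul_sum, Finset.mul_sum]
    apply Finset.sum_congr rfl
    intro x _
    ring
  rw [Finset.sum_congr rfl (fun b _ => hconj b), ← Finset.mul_sum, Finset.sum_comm,
    Finset.sum_congr rfl (fun x _ => inner_sum α β x), Finset.sum_ite, Finset.sum_const,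
    Finset.sum_const, card_filter10, card_filter_not10, nsmul_eq_mul, nsmul_eq_mul, cardB]
  have hq : 1 < Fintype.card F := Fintype.one_lt_card
  have hq0 : (Fintype.card F : ℂ) ≠ 0 := by
    have : Fintype.card F ≠ 0 := by omega
    exact_mod_cast this
  have hq1 : (Fintype.card F : ℂ) - 1 ≠ 0 := by
    intro h
    have h2 : (Fintype.card F : ℂ) = 1 := sub_eq_zero.mp h
    have : Fintype.card F = 1 := by exact_mod_cast h2
    omega
  have hA : ∑ u : Fˣ, (α * β⁻¹) (u : F) = if α = β then (Fintype.card F : ℂ) - 1 else 0 := by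
    split_ifs with h
    · rw [h, mul_inv_cancel]; exact sum_units_one
    · exact sum_units_ne (fun h' => h (mul_inv_eq_one.mp h'))
  have hA' : ∑ u : Fˣ, (α * β) (u : F) = if α = β⁻¹ then (Fintype.card F : ℂ) - 1 else 0 := by
    split_ifs with h
    · rw [h, inv_mul_cancel]; exact sum_units_one
    · exact sum_units_ne (fun h' => h (mul_eq_one_iff_eq_inv.mp h'))
  rw [hA, hA']
  push_cast [Nat.cast_sub (le_of_lt hq)]
  split_ifs <;> field_simp <;> ring

/-- one-dimensional representation attached to a monoid hom to `ℂ` -/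
noncomputable def linRep {H : Type*} [Group H] (f : H →* ℂ) : Representation ℂ H (Fin 1 → ℂ) where
  toFun h := f h • LinearMap.id
  map_one' := by
    rw [map_one, one_smul]
    rfl
  map_mul' a b := by
    rw [map_mul]
    ext v i
    simp only [LinearMap.smul_apply, LinearMap.id_coe, id_eq, Module.End.mul_apply,
      LinearMap.coe_comp, Function.comp_apply, Pi.smul_apply, smul_eq_mul, LinearMap.coe_single]
    ring

theorem linRep_character {H : Type*} [Group H] (f : H →* ℂ) (h : H) :
    (linRep f).character h = f h := by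
  unfold Representation.character linRep
  simp

theorem isCharacter_of_monoidHom {H : Type*} [Group H] (f : H →* ℂ) :
    IsCharacter H (fun h => f h) :=
  ⟨1, linRep f, funext (linRep_character f)⟩

/-- the diagonal-entry character of the Borel subgroup -/
noncomputable def diagHom {F : Type*} [Field F] [Fintype F] [DecidableEq F] (α : MulChar F ℂ) :
    Bsub F →* ℂ where
  toFun b := α (((b : Matrix.SpecialLinearGroup (Fin 2) F) : Matrix (Fin 2) (Fin 2) F) 0 0)
  map_one' := by simp
  map_mul' a b := by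
    have hb := (mem_B (b : Matrix.SpecialLinearGroup (Fin 2) F)).mp b.2
    rw [← map_mul]
    congr 1
    simp [Matrix.mul_apply, Fin.sum_univ_two, hb]

theorem result {F : Type*} [Field F] [Fintype F] [DecidableEq F] (α : MulChar F ℂ) :
    Cfsg.IsIrrCharacter (Matrix.SpecialLinearGroup (Fin 2) F) (Cfsg.indFun ((Cfsg.upperTriangularGL 2 F).comap Matrix.SpecialLinearGroup.toGL) (fun b => α (((b : Matrix.SpecialLinearGroup (Fin 2) F) : Matrix (Fin 2) (Fin 2) F) 0 0))) ↔ α ^ 2 ≠ 1 := by
  classical
  have hinner := inner_general α α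
  rw [if_pos rfl] at hinner
  have hchar : IsCharacter (Matrix.SpecialLinearGroup (Fin 2) F)
      (Cfsg.indFun (Bsub F) (fun b => α (((b : Matrix.SpecialLinearGroup (Fin 2) F) : Matrix (Fin 2) (Fin 2) F) 0 0))) :=
    Cfsg.Agent.Lib.Helper8.isCharacter_indFun (Bsub F) (isCharacter_of_monoidHom (diagHom α))
  have hiff : α = α⁻¹ ↔ α ^ 2 = 1 := by
    rw [pow_two]
    constructor
    · intro h
      nth_rewrite 1 [h]
      exact inv_mul_cancel α
    · intro h
      exact eq_inv_of_mul_eq_one_left h
  constructor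
  · intro hirr h2
    have h1 := Cfsg.Agent.Lib.Helper8.irr_classInner hirr hirr
    rw [if_pos rfl] at h1
    rw [h1, if_pos (hiff.mpr h2)] at hinner
    norm_num at hinner
  · intro h2
    apply Cfsg.Agent.Lib.Helper8.isIrrCharacter_of_norm_one hchar
    rw [hinner, if_neg (fun h => h2 (hiff.mp h))]
    norm_num

end Cfsg.Agent.S2306
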