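import Mathlib
import Cfsg.Statements.S2304
import Cfsg.Agent.S2306

set_option autoImplicit false

open Cfsg

namespace Cfsg.Agent.S2304

open Matrix ComplexConjugate

variable {F : Type*} [Field F]

local notation "GL2" => GeneralLinearGroup (Fin 2) F

/-- the Borel subgroup of `GL₂` -/
abbrev BG (F : Type*) [Field F] : Subgroup (GeneralLinearGroup (Fin 2) F) :=
  Cfsg.upperTriangularGL 2 F

lemma mem_BG (x : GL2) :
    x ∈ BG F ↔ (x : Matrix (Fin 2) (Fin 2) F) 1 0 = 0 := by
  show (x : Matrix (Fin 2) (Fin 2) F).BlockTriangular id ↔ _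
  constructor
  · intro h
    exact h (show (id (0 : Fin 2)) < id 1 by decide)
  · intro h i j hij
    fin_cases i <;> fin_cases j <;> simp_all

/-- the character being induced -/
noncomputable abbrev theta (α β : MulChar F ℂ) : BG F → ℂ :=
  fun b => α (((b : GL2) : Matrix (Fin 2) (Fin 2) F) 0 0) *
    β (((b : GL2) : Matrix (Fin 2) (Fin 2) F) 1 1)

lemma ext_valG (α β : MulChar F ℂ) (y : GL2) [Decidable ((y : Matrix (Fin 2) (Fin 2) F) 1 0 = 0)] :
    Cfsg.extendByZero (BG F) (theta α β) y =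
      if (y : Matrix (Fin 2) (Fin 2) F) 1 0 = 0 then
        α ((y : Matrix (Fin 2) (Fin 2) F) 0 0) * β ((y : Matrix (Fin 2) (Fin 2) F) 1 1) else 0 := by
  unfold Cfsg.extendByZero
  split_ifs with h
  · have hy : y ∈ BG F := (mem_BG y).mpr h
    exact Subtype.val_injective.extend_apply _ _ (⟨y, hy⟩ : BG F)
  · apply Function.extend_apply'
    rintro ⟨b, rfl⟩
    exact h ((mem_BG b.1).mp b.2)

/-- the determinant of `x`, expanded -/
def dt (x : GL2) : F :=
  (x : Matrix (Fin 2) (Fin 2) F) 0 0 * (x : Matrix (Fin 2) (Fin 2) F) 1 1 -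
    (x : Matrix (Fin 2) (Fin 2) F) 0 1 * (x : Matrix (Fin 2) (Fin 2) F) 1 0

lemma dt_ne (x : GL2) : dt x ≠ 0 := by
  have h := Matrix.GeneralLinearGroup.det_ne_zero x
  rw [Matrix.det_fin_two] at h
  exact h

lemma conj_eqs (x g : GL2) (i j : Fin 2) :
    ((x : Matrix (Fin 2) (Fin 2) F) * ((x⁻¹ * g * x : GL2) : Matrix (Fin 2) (Fin 2) F)) i j =
      ((g : Matrix (Fin 2) (Fin 2) F) * (x : Matrix (Fin 2) (Fin 2) F)) i j := by
  rw [← Units.val_mul, ← Units.val_mul]
  group

lemma conjG10 (x g : GL2) :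
    dt x * ((x⁻¹ * g * x : GL2) : Matrix (Fin 2) (Fin 2) F) 1 0 =
      -(x : Matrix (Fin 2) (Fin 2) F) 1 0 * ((g : Matrix (Fin 2) (Fin 2) F) 0 0 * (x : Matrix (Fin 2) (Fin 2) F) 0 0 +
        (g : Matrix (Fin 2) (Fin 2) F) 0 1 * (x : Matrix (Fin 2) (Fin 2) F) 1 0) +
      (x : Matrix (Fin 2) (Fin 2) F) 0 0 * ((g : Matrix (Fin 2) (Fin 2) F) 1 0 * (x : Matrix (Fin 2) (Fin 2) F) 0 0 +
        (g : Matrix (Fin 2) (Fin 2) F) 1 1 * (x : Matrix (Fin 2) (Fin 2) F) 1 0) := by
  have e00 := conj_eqs x g 0 0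
  have e10 := conj_eqs x g 1 0
  simp only [Matrix.mul_apply, Fin.sum_univ_two] at e00 e10
  unfold dt
  linear_combination (x : Matrix (Fin 2) (Fin 2) F) 0 0 * e10 - (x : Matrix (Fin 2) (Fin 2) F) 1 0 * e00

lemma conjG00 (x g : GL2) :
    dt x * ((x⁻¹ * g * x : GL2) : Matrix (Fin 2) (Fin 2) F) 0 0 =
      (x : Matrix (Fin 2) (Fin 2) F) 1 1 * ((g : Matrix (Fin 2) (Fin 2) F) 0 0 * (x : Matrix (Fin 2) (Fin 2) F) 0 0 +
        (g : Matrix (Fin 2) (Fin 2) F) 0 1 * (x : Matrix (Fin 2) (Fin 2) F) 1 0) -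
      (x : Matrix (Fin 2) (Fin 2) F) 0 1 * ((g : Matrix (Fin 2) (Fin 2) F) 1 0 * (x : Matrix (Fin 2) (Fin 2) F) 0 0 +
        (g : Matrix (Fin 2) (Fin 2) F) 1 1 * (x : Matrix (Fin 2) (Fin 2) F) 1 0) := by
  have e00 := conj_eqs x g 0 0
  have e10 := conj_eqs x g 1 0
  simp only [Matrix.mul_apply, Fin.sum_univ_two] at e00 e10
  unfold dt
  linear_combination (x : Matrix (Fin 2) (Fin 2) F) 1 1 * e00 - (x : Matrix (Fin 2) (Fin 2) F) 0 1 * e10

lemma conjG11 (x g : GL2) :
    dt x * ((x⁻¹ * g * x : GL2) : Matrix (Fin 2) (Fin 2) F) 1 1 =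
      -(x : Matrix (Fin 2) (Fin 2) F) 1 0 * ((g : Matrix (Fin 2) (Fin 2) F) 0 0 * (x : Matrix (Fin 2) (Fin 2) F) 0 1 +
        (g : Matrix (Fin 2) (Fin 2) F) 0 1 * (x : Matrix (Fin 2) (Fin 2) F) 1 1) +
      (x : Matrix (Fin 2) (Fin 2) F) 0 0 * ((g : Matrix (Fin 2) (Fin 2) F) 1 0 * (x : Matrix (Fin 2) (Fin 2) F) 0 1 +
        (g : Matrix (Fin 2) (Fin 2) F) 1 1 * (x : Matrix (Fin 2) (Fin 2) F) 1 1) := by
  have e01 := conj_eqs x g 0 1
  have e11 := conj_eqs x g 1 1
  simp only [Matrix.mul_apply, Fin.sum_univ_two] at e01 e11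
  unfold dt
  linear_combination (x : Matrix (Fin 2) (Fin 2) F) 0 0 * e11 - (x : Matrix (Fin 2) (Fin 2) F) 1 0 * e01

/-- parametrisation of the Borel subgroup -/
noncomputable def equivBG : BG F ≃ Fˣ × Fˣ × F where
  toFun := fun b => (Units.mk0 ((b.1 : Matrix (Fin 2) (Fin 2) F) 0 0) (by
        intro h0
        have hx := dt_ne b.1
        unfold dt at hx
        rw [h0, (mem_BG b.1).mp b.2] at hx
        simp at hx),
      Units.mk0 ((b.1 : Matrix (Fin 2) (Fin 2) F) 1 1) (by
        intro h0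
        have hx := dt_ne b.1
        unfold dt at hx
        rw [h0, (mem_BG b.1).mp b.2] at hx
        simp at hx),
      (b.1 : Matrix (Fin 2) (Fin 2) F) 0 1)
  invFun := fun ut => ⟨Matrix.GeneralLinearGroup.mkOfDetNeZero !![(ut.1 : F), ut.2.2; 0, (ut.2.1 : F)] (by
        simp [Matrix.det_fin_two]), (mem_BG _).mpr (by
          show (!![(ut.1 : F), ut.2.2; 0, (ut.2.1 : F)] : Matrix (Fin 2) (Fin 2) F) 1 0 = 0
          simp)⟩
  left_inv := by
    intro b
    apply Subtype.ext
    apply Units.ext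
    have hb10 := (mem_BG b.1).mp b.2
    show (!![_, _; 0, _] : Matrix (Fin 2) (Fin 2) F) = _
    ext i j
    fin_cases i <;> fin_cases j
    · simp
    · simp
    · simp [hb10]
    · simp
  right_inv := by
    rintro ⟨u, v, t⟩
    apply Prod.ext
    · apply Units.ext
      show (!![(u : F), t; 0, (v : F)] : Matrix (Fin 2) (Fin 2) F) 0 0 = _
      simp
    · apply Prod.ext
      · apply Units.ext
        show (!![(u : F), t; 0, (v : F)] : Matrix (Fin 2) (Fin 2) F) 1 1 = _
        simp
      · show (!![(u : F), t; 0, (v : F)] : Matrix (Fin 2) (Fin 2) F) 0 1 = _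
        simp

lemma equivBG_symm_coe (u v : Fˣ) (t : F) :
    (((equivBG.symm (u, v, t) : BG F) : GL2) : Matrix (Fin 2) (Fin 2) F) =
      !![(u : F), t; 0, (v : F)] := rfl


section fin

variable [Fintype F] [DecidableEq F]

open Cfsg.Agent.S2432

lemma conj_mulchar (χ : MulChar F ℂ) (a : F) : conj (χ a) = χ⁻¹ a := by
  rw [← MulChar.star_apply']
  rfl

/-- the inner sum over the Borel subgroup for a fixed conjugating element -/
lemma inner_sumG [Fintype (BG F)] (α β α' β' : MulChar F ℂ) (x : GL2) :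
    ∑ b : BG F, theta α β b *
      conj (Cfsg.extendByZero (BG F) (theta α' β') (x⁻¹ * (b : GL2) * x)) =
    if (x : Matrix (Fin 2) (Fin 2) F) 1 0 = 0 then
      (Fintype.card F : ℂ) * ((∑ u : Fˣ, (α * α'⁻¹) (u : F)) * (∑ v : Fˣ, (β * β'⁻¹) (v : F)))
    else (∑ u : Fˣ, (α * β'⁻¹) (u : F)) * (∑ v : Fˣ, (β * α'⁻¹) (v : F)) := by
  have hd := dt_ne x
  rw [← Equiv.sum_comp (equivBG (F := F)).symm, Fintype.sum_prod_type]
  simp_rw [Fintype.sum_prod_type]
  split_ifs with hx10
  · -- x in the Borel subgroup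
    have hterm : ∀ (u v : Fˣ) (t : F),
        theta α β (equivBG.symm (u, v, t)) *
        conj (Cfsg.extendByZero (BG F) (theta α' β')
          (x⁻¹ * ((equivBG.symm (u, v, t) : BG F) : GL2) * x)) =
        (α * α'⁻¹) (u : F) * (β * β'⁻¹) (v : F) := by
      intro u v t
      have h10 := conjG10 x ((equivBG.symm (u, v, t) : BG F) : GL2)
      have h00 := conjG00 x ((equivBG.symm (u, v, t) : BG F) : GL2)
      have h11 := conjG11 x ((equivBG.symm (u, v, t) : BG F) : GL2)
      rw [equivBG_symm_coe] at h10 h00 h11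
      simp only [Matrix.of_apply, Matrix.cons_val', Matrix.cons_val_zero, Matrix.cons_val_one,
        Matrix.empty_val', Matrix.cons_val_fin_one, zero_mul, zero_add, hx10, mul_zero, add_zero,
        neg_zero, sub_zero] at h10 h00 h11
      have hdx : dt x = (x : Matrix (Fin 2) (Fin 2) F) 0 0 * (x : Matrix (Fin 2) (Fin 2) F) 1 1 := by
        unfold dt; rw [hx10]; ring
      have e10 : ((x⁻¹ * ((equivBG.symm (u, v, t) : BG F) : GL2) * x : GL2) :
          Matrix (Fin 2) (Fin 2) F) 1 0 = 0 := by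
        rcases mul_eq_zero.mp h10 with h | h
        · exact absurd h hd
        · exact h
      have e00 : ((x⁻¹ * ((equivBG.symm (u, v, t) : BG F) : GL2) * x : GL2) :
          Matrix (Fin 2) (Fin 2) F) 0 0 = (u : F) := by
        apply mul_left_cancel₀ hd
        rw [h00, hdx]; ring
      have e11 : ((x⁻¹ * ((equivBG.symm (u, v, t) : BG F) : GL2) * x : GL2) :
          Matrix (Fin 2) (Fin 2) F) 1 1 = (v : F) := by
        apply mul_left_cancel₀ hd
        rw [h11, hdx]; ring
      rw [ext_valG, if_pos e10, e00, e11]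
      show α ((!![(u : F), t; 0, (v : F)] : Matrix (Fin 2) (Fin 2) F) 0 0) *
        β ((!![(u : F), t; 0, (v : F)] : Matrix (Fin 2) (Fin 2) F) 1 1) * _ = _
      simp only [Matrix.of_apply, Matrix.cons_val', Matrix.cons_val_zero, Matrix.cons_val_one,
        Matrix.empty_val', Matrix.cons_val_fin_one]
      rw [map_mul, conj_mulchar, conj_mulchar, MulChar.mul_apply, MulChar.mul_apply]
      ring
    simp_rw [hterm]
    simp only [Finset.sum_const, Finset.card_univ, nsmul_eq_mul]
    rw [Finset.sum_mul_sum, Finset.mul_sum]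
    apply Finset.sum_congr rfl
    intro u _
    rw [Finset.mul_sum]
  · -- x outside the Borel subgroup
    have hterm : ∀ (u v : Fˣ),
        ∑ t : F, theta α β (equivBG.symm (u, v, t)) *
        conj (Cfsg.extendByZero (BG F) (theta α' β')
          (x⁻¹ * ((equivBG.symm (u, v, t) : BG F) : GL2) * x)) =
        (α * β'⁻¹) (u : F) * (β * α'⁻¹) (v : F) := by
      intro u v
      have hgen : ∀ t : F,
          dt x * ((x⁻¹ * ((equivBG.symm (u, v, t) : BG F) : GL2) * x : GL2) :
            Matrix (Fin 2) (Fin 2) F) 1 0 =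
          (x : Matrix (Fin 2) (Fin 2) F) 1 0 * (((v : F) - (u : F)) * (x : Matrix (Fin 2) (Fin 2) F) 0 0 -
            t * (x : Matrix (Fin 2) (Fin 2) F) 1 0) := by
        intro t
        have h10 := conjG10 x ((equivBG.symm (u, v, t) : BG F) : GL2)
        rw [equivBG_symm_coe] at h10
        simp only [Matrix.of_apply, Matrix.cons_val', Matrix.cons_val_zero, Matrix.cons_val_one,
          Matrix.empty_val', Matrix.cons_val_fin_one, zero_mul, zero_add] at h10
        rw [h10]; ring
      rw [Finset.sum_eq_single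
        ((((v : F) - (u : F)) * (x : Matrix (Fin 2) (Fin 2) F) 0 0) /
          (x : Matrix (Fin 2) (Fin 2) F) 1 0)]
      · set t0 := ((((v : F) - (u : F)) * (x : Matrix (Fin 2) (Fin 2) F) 0 0) /
          (x : Matrix (Fin 2) (Fin 2) F) 1 0) with ht0def
        have ht0 : t0 * (x : Matrix (Fin 2) (Fin 2) F) 1 0 =
            ((v : F) - (u : F)) * (x : Matrix (Fin 2) (Fin 2) F) 0 0 :=
          div_mul_cancel₀ _ hx10
        have h00 := conjG00 x ((equivBG.symm (u, v, t0) : BG F) : GL2)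
        have h11 := conjG11 x ((equivBG.symm (u, v, t0) : BG F) : GL2)
        rw [equivBG_symm_coe] at h00 h11
        simp only [Matrix.of_apply, Matrix.cons_val', Matrix.cons_val_zero, Matrix.cons_val_one,
          Matrix.empty_val', Matrix.cons_val_fin_one, zero_mul, zero_add] at h00 h11
        have e10 : ((x⁻¹ * ((equivBG.symm (u, v, t0) : BG F) : GL2) * x : GL2) :
            Matrix (Fin 2) (Fin 2) F) 1 0 = 0 := by
          have h := hgen t0
          rw [ht0, sub_self, mul_zero] at h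
          rcases mul_eq_zero.mp h with h | h
          · exact absurd h hd
          · exact h
        have e00 : ((x⁻¹ * ((equivBG.symm (u, v, t0) : BG F) : GL2) * x : GL2) :
            Matrix (Fin 2) (Fin 2) F) 0 0 = (v : F) := by
          apply mul_left_cancel₀ hd
          rw [h00]; unfold dt
          linear_combination (x : Matrix (Fin 2) (Fin 2) F) 1 1 * ht0
        have e11 : ((x⁻¹ * ((equivBG.symm (u, v, t0) : BG F) : GL2) * x : GL2) :
            Matrix (Fin 2) (Fin 2) F) 1 1 = (u : F) := by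
          apply mul_left_cancel₀ hd
          rw [h11]; unfold dt
          linear_combination -(x : Matrix (Fin 2) (Fin 2) F) 1 1 * ht0
        rw [ext_valG, if_pos e10, e00, e11]
        show α ((!![(u : F), t0; 0, (v : F)] : Matrix (Fin 2) (Fin 2) F) 0 0) *
          β ((!![(u : F), t0; 0, (v : F)] : Matrix (Fin 2) (Fin 2) F) 1 1) * _ = _
        simp only [Matrix.of_apply, Matrix.cons_val', Matrix.cons_val_zero, Matrix.cons_val_one,
          Matrix.empty_val', Matrix.cons_val_fin_one]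
        rw [map_mul, conj_mulchar, conj_mulchar, MulChar.mul_apply, MulChar.mul_apply]
        ring
      · intro t _ ht
        rw [ext_valG, if_neg, map_zero, mul_zero]
        intro h
        apply ht
        have h2 := hgen t
        rw [h, mul_zero] at h2
        rw [eq_div_iff hx10]
        rcases mul_eq_zero.mp h2.symm with h3 | h3
        · exact absurd h3 hx10
        · linear_combination -h3
      · intro h; exact absurd (Finset.mem_univ _) h
    simp_rw [hterm]
    rw [Finset.sum_mul_sum]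

lemma card_filter10G [Fintype GL2] :
    (Finset.univ.filter (fun x : GL2 => (x : Matrix (Fin 2) (Fin 2) F) 1 0 = 0)).card =
      Nat.card (BG F) := by
  rw [Nat.card_congr (Equiv.subtypeEquivRight (fun x => mem_BG (F := F) x)),
    Nat.card_eq_fintype_card, Fintype.card_subtype]

lemma cardBG : Nat.card (BG F) = (Fintype.card F - 1) * ((Fintype.card F - 1) * Fintype.card F) := by
  rw [Nat.card_congr equivBG, Nat.card_prod, Nat.card_prod, Nat.card_units, Nat.card_eq_fintype_card]

lemma cardBG_ne_zero : (Nat.card (BG F) : ℂ) ≠ 0 := by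
  have : Nat.card (BG F) ≠ 0 := Nat.card_pos.ne'
  exact_mod_cast this

lemma cardGL [Fintype GL2] : Fintype.card GL2 = (Fintype.card F + 1) * Nat.card (BG F) := by
  have h := Matrix.card_GL_field (𝔽 := F) 2
  rw [Fin.prod_univ_two] at h
  simp only [Fin.val_zero, Fin.val_one, pow_zero, pow_one] at h
  rw [cardBG, ← Nat.card_eq_fintype_card, h]
  have hq : 1 < Fintype.card F := Fintype.one_lt_card
  obtain ⟨k, hk⟩ : ∃ k, Fintype.card F = k + 1 := ⟨Fintype.card F - 1, by omega⟩
  rw [hk]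
  have h1 : (k + 1) ^ 2 - 1 = k * (k + 2) := by
    have : (k + 1) ^ 2 = k * (k + 2) + 1 := by ring
    omega
  have h2 : (k + 1) ^ 2 - (k + 1) = k * (k + 1) := by
    have : (k + 1) ^ 2 = k * (k + 1) + (k + 1) := by ring
    omega
  rw [h1, h2, Nat.add_sub_cancel]
  ring

lemma card_filter_not10G [Fintype GL2] :
    (Finset.univ.filter (fun x : GL2 => ¬ (x : Matrix (Fin 2) (Fin 2) F) 1 0 = 0)).card =
      Fintype.card F * Nat.card (BG F) := by
  have h := Finset.card_filter_add_card_filter_not (s := (Finset.univ : Finset GL2))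
    (fun x : GL2 => (x : Matrix (Fin 2) (Fin 2) F) 1 0 = 0)
  rw [card_filter10G, Finset.card_univ, cardGL] at h
  have : (Fintype.card F + 1) * Nat.card (BG F) =
      Nat.card (BG F) + Fintype.card F * Nat.card (BG F) := by ring
  omega

theorem inner_GL (α β α' β' : MulChar F ℂ)
    [Decidable (α = α' ∧ β = β')] [Decidable (α = β' ∧ β = α')] :
    Cfsg.classInner (Cfsg.indFun (BG F) (theta α β)) (Cfsg.indFun (BG F) (theta α' β')) =
      (if α = α' ∧ β = β' then 1 else 0) + (if α = β' ∧ β = α' then 1 else 0) := by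
  classical
  haveI : Fintype (BG F) := Fintype.ofFinite _
  rw [Cfsg.Agent.Lib.Helper8.frobenius_reciprocity (BG F) _ _
    (Cfsg.Agent.Lib.Helper8.indFun_isClassFunction (BG F) _)]
  unfold Cfsg.classInner
  have hconj : ∀ b : BG F,
      theta α β b * conj (Cfsg.indFun (BG F) (theta α' β') (b : GL2)) =
      (Nat.card (BG F) : ℂ)⁻¹ * ∑ x : GL2,
        theta α β b * conj (Cfsg.extendByZero (BG F) (theta α' β') (x⁻¹ * (b : GL2) * x)) := by
    intro b
    rw [Cfsg.Agent.Lib.Helper8.indFun_apply, map_mul, map_inv₀, Complex.conj_natCast, map_sum,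
      Finset.mul_sum, Finset.mul_sum, Finset.mul_sum]
    apply Finset.sum_congr rfl
    intro x _
    ring
  rw [Finset.sum_congr rfl (fun b _ => hconj b), ← Finset.mul_sum, Finset.sum_comm,
    Finset.sum_congr rfl (fun x _ => inner_sumG α β α' β' x), Finset.sum_ite, Finset.sum_const,
    Finset.sum_const, card_filter10G, card_filter_not10G, nsmul_eq_mul, nsmul_eq_mul, cardBG]
  have hq : 1 < Fintype.card F := Fintype.one_lt_card
  have hq0 : (Fintype.card F : ℂ) ≠ 0 := by
    have : Fintype.card F ≠ 0 := by omega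
    exact_mod_cast this
  have hq1 : (Fintype.card F : ℂ) - 1 ≠ 0 := by
    intro h
    have h2 : (Fintype.card F : ℂ) = 1 := sub_eq_zero.mp h
    have : Fintype.card F = 1 := by exact_mod_cast h2
    omega
  have hS : ∀ a b : MulChar F ℂ, ∑ u : Fˣ, (a * b⁻¹) (u : F) =
      if a = b then (Fintype.card F : ℂ) - 1 else 0 := by
    intro a b
    split_ifs with h
    · rw [h, mul_inv_cancel]; exact sum_units_one
    · exact sum_units_ne (fun h' => h (mul_inv_eq_one.mp h'))
  rw [hS, hS, hS, hS]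
  push_cast [Nat.cast_sub (le_of_lt hq)]
  have e1 : (if α = α' ∧ β = β' then (1 : ℂ) else 0) =
      (if α = α' then 1 else 0) * (if β = β' then 1 else 0) := by
    by_cases h1 : α = α' <;> by_cases h2 : β = β' <;> simp [h1, h2]
  have e2 : (if α = β' ∧ β = α' then (1 : ℂ) else 0) =
      (if α = β' then 1 else 0) * (if β = α' then 1 else 0) := by
    by_cases h1 : α = β' <;> by_cases h2 : β = α' <;> simp [h1, h2]
  rw [e1, e2]
  split_ifs <;> field_simp <;> ring

/-- the character of the Borel subgroup, as a monoid hom -/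
noncomputable def thetaHom (α β : MulChar F ℂ) : BG F →* ℂ where
  toFun := theta α β
  map_one' := by simp [theta]
  map_mul' a b := by
    have ha := (mem_BG (a : GL2)).mp a.2
    have hb := (mem_BG (b : GL2)).mp b.2
    show α ((((a * b : BG F) : GL2) : Matrix (Fin 2) (Fin 2) F) 0 0) *
      β ((((a * b : BG F) : GL2) : Matrix (Fin 2) (Fin 2) F) 1 1) =
      α (((a : GL2) : Matrix (Fin 2) (Fin 2) F) 0 0) * β (((a : GL2) : Matrix (Fin 2) (Fin 2) F) 1 1) *
      (α (((b : GL2) : Matrix (Fin 2) (Fin 2) F) 0 0) * β (((b : GL2) : Matrix (Fin 2) (Fin 2) F) 1 1))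
    have h00 : (((a * b : BG F) : GL2) : Matrix (Fin 2) (Fin 2) F) 0 0 =
        ((a : GL2) : Matrix (Fin 2) (Fin 2) F) 0 0 * ((b : GL2) : Matrix (Fin 2) (Fin 2) F) 0 0 := by
      simp [Matrix.mul_apply, Fin.sum_univ_two, hb]
    have h11 : (((a * b : BG F) : GL2) : Matrix (Fin 2) (Fin 2) F) 1 1 =
        ((a : GL2) : Matrix (Fin 2) (Fin 2) F) 1 1 * ((b : GL2) : Matrix (Fin 2) (Fin 2) F) 1 1 := by
      simp [Matrix.mul_apply, Fin.sum_univ_two, ha]
    rw [h00, h11, map_mul, map_mul]
    ring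

theorem isCharacter_ind (α β : MulChar F ℂ) :
    IsCharacter GL2 (Cfsg.indFun (BG F) (theta α β)) :=
  Cfsg.Agent.Lib.Helper8.isCharacter_indFun (BG F)
    (Cfsg.Agent.S2306.isCharacter_of_monoidHom (thetaHom α β))

end fin

end Cfsg.Agent.S2304


namespace Cfsg.Agent.S2304

theorem result {F : Type*} [Field F] [Fintype F] [DecidableEq F] (α β : MulChar F ℂ) (hαβ : α ≠ β) :
    Cfsg.IsIrrCharacter (Matrix.GeneralLinearGroup (Fin 2) F) (Cfsg.indFun (Cfsg.upperTriangularGL 2 F) (fun b => α (((b : Matrix.GeneralLinearGroup (Fin 2) F) : Matrix (Fin 2) (Fin 2) F) 0 0) * β (((b : Matrix.GeneralLinearGroup (Fin 2) F) : Matrix (Fin 2) (Fin 2) F) 1 1))) := by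
  classical
  apply Cfsg.Agent.Lib.Helper8.isIrrCharacter_of_norm_one (isCharacter_ind α β)
  have h := inner_GL α β α β
  rw [if_pos ⟨rfl, rfl⟩, if_neg (fun h => hαβ h.1)] at h
  rw [h]; norm_num

end Cfsg.Agent.S2304
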