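import Mathlib
import Cfsg.Statements.S2305
import Cfsg.Agent.S2304

set_option autoImplicit false

open Cfsg

namespace Cfsg.Agent.S2305

open Matrix ComplexConjugate Cfsg.Agent.S2304

lemma ci_sub_sub {G : Type*} [Group G] [Fintype G] (a b : G → ℂ) :
    classInner (a - b) (a - b) =
      classInner a a - classInner a b - classInner b a + classInner b b := by
  unfold classInner
  rw [← mul_sub, ← mul_sub, ← mul_add, ← Finset.sum_sub_distrib, ← Finset.sum_sub_distrib,
    ← Finset.sum_add_distrib]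
  congr 1
  apply Finset.sum_congr rfl
  intro g _
  simp only [Pi.sub_apply, map_sub]
  ring

lemma ci_self_eq_zero {G : Type*} [Group G] [Fintype G] {f : G → ℂ} (h : classInner f f = 0) :
    f = 0 := by
  unfold classInner at h
  have hGne : (Nat.card G : ℂ) ≠ 0 := Nat.cast_ne_zero.mpr Nat.card_pos.ne'
  have h0 : ∑ g : G, f g * conj (f g) = 0 := by
    rcases mul_eq_zero.mp h with h | h
    · exact absurd (inv_eq_zero.mp h) hGne
    · exact h
  have h1 : ∀ g, f g * conj (f g) = ((Complex.normSq (f g) : ℝ) : ℂ) := fun g => Complex.mul_conj _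
  simp_rw [h1] at h0
  rw [← Complex.ofReal_sum] at h0
  have h2 : ∑ g : G, Complex.normSq (f g) = 0 := by exact_mod_cast h0
  funext g
  have := (Finset.sum_eq_zero_iff_of_nonneg (fun g _ => Complex.normSq_nonneg (f g))).mp h2 g
    (Finset.mem_univ _)
  exact Complex.normSq_eq_zero.mp this

theorem swap_eq {F : Type*} [Field F] [Fintype F] [DecidableEq F] (α β : MulChar F ℂ) :
    Cfsg.indFun (BG F) (theta α β) = Cfsg.indFun (BG F) (theta β α) := by
  classical
  have h11 := inner_GL α β α β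
  have h12 := inner_GL α β β α
  have h21 := inner_GL β α α β
  have h22 := inner_GL β α β α
  rw [if_pos (⟨rfl, rfl⟩ : α = α ∧ β = β)] at h11 h12
  rw [if_pos (⟨rfl, rfl⟩ : β = β ∧ α = α)] at h21 h22
  have h := ci_sub_sub (Cfsg.indFun (BG F) (theta α β)) (Cfsg.indFun (BG F) (theta β α))
  rw [h11, h12, h21, h22] at h
  have h0 : classInner (Cfsg.indFun (BG F) (theta α β) - Cfsg.indFun (BG F) (theta β α))
      (Cfsg.indFun (BG F) (theta α β) - Cfsg.indFun (BG F) (theta β α)) = 0 := by
    rw [h]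
    ring
  exact sub_eq_zero.mp (ci_self_eq_zero h0)

theorem result {F : Type*} [Field F] [Fintype F] [DecidableEq F] (α β α' β' : MulChar F ℂ) :
    Cfsg.indFun (Cfsg.upperTriangularGL 2 F) (fun b => α (((b : Matrix.GeneralLinearGroup (Fin 2) F) : Matrix (Fin 2) (Fin 2) F) 0 0) * β (((b : Matrix.GeneralLinearGroup (Fin 2) F) : Matrix (Fin 2) (Fin 2) F) 1 1)) = Cfsg.indFun (Cfsg.upperTriangularGL 2 F) (fun b => α' (((b : Matrix.GeneralLinearGroup (Fin 2) F) : Matrix (Fin 2) (Fin 2) F) 0 0) * β' (((b : Matrix.GeneralLinearGroup (Fin 2) F) : Matrix (Fin 2) (Fin 2) F) 1 1)) ↔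
      (α = α' ∧ β = β') ∨ (α = β' ∧ β = α') := by
  classical
  constructor
  · intro h
    have h1 := inner_GL α β α' β'
    have h2 := inner_GL α β α β
    rw [if_pos (⟨rfl, rfl⟩ : α = α ∧ β = β)] at h2
    have h3 : classInner (Cfsg.indFun (BG F) (theta α β)) (Cfsg.indFun (BG F) (theta α' β')) =
        classInner (Cfsg.indFun (BG F) (theta α β)) (Cfsg.indFun (BG F) (theta α β)) := by
      congr 1
      exact h.symm
    rw [h1, h2] at h3
    by_contra hcon
    rw [not_or] at hcon
    rw [if_neg hcon.1, if_neg hcon.2] at h3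
    split_ifs at h3 <;> norm_num at h3
  · rintro (⟨rfl, rfl⟩ | ⟨rfl, rfl⟩)
    · rfl
    · exact swap_eq α β

end Cfsg.Agent.S2305
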