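import Mathlib
import Cfsg.Statements.S2307
import Cfsg.Agent.S2306
import Cfsg.Agent.Lib.Helper8.CharLinear
import Cfsg.Agent.Lib.Helper8.CharSmallDegree

set_option autoImplicit false

open Cfsg

namespace Cfsg.Agent.S2307

open Matrix ComplexConjugate Cfsg.Agent.S2433 Cfsg.Agent.S2432 Cfsg.Agent.Lib.Helper8

/-- a character of norm two is the sum of two distinct irreducible characters -/
theorem norm_two_char {G : Type*} [Group G] [Fintype G] {χ : G → ℂ} (hχ : IsCharacter G χ)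
    (h2 : classInner χ χ = 2) :
    ∃ a b : G → ℂ, IsIrrCharacter G a ∧ IsIrrCharacter G b ∧ a ≠ b ∧ χ = a + b := by
  classical
  have := irr_finite (G := G)
  have : Fintype (IrrCharacter G) := Fintype.ofFinite _
  obtain ⟨m, hm⟩ := isCharacter_decomp hχ
  have hχ' : χ = fun g => ∑ ψ : IrrCharacter G, (m ψ : ℂ) * ψ.1 g := funext hm
  have hnorm : classInner χ χ = ∑ ψ : IrrCharacter G, ((m ψ * m ψ : ℕ) : ℂ) := by
    conv_lhs => rw [hχ']
    rw [classInner_sum_left]
    apply Finset.sum_congr rfl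
    intro ψ _
    rw [classInner_conj_symm, classInner_comb_irr (fun ψ => (m ψ : ℂ)) ψ]
    simp
  rw [h2] at hnorm
  have hint : ∑ ψ : IrrCharacter G, m ψ * m ψ = 2 := by
    have : ((∑ ψ : IrrCharacter G, m ψ * m ψ : ℕ) : ℂ) = 2 := by
      rw [hnorm]; push_cast; rfl
    exact_mod_cast this
  have hunit : ∀ k : ℕ, k ≠ 0 → k * k ≤ 2 → k = 1 := by
    intro k hk hle
    have h3 : k ≤ 1 := by nlinarith
    omega
  obtain ⟨ψ₁, h₁⟩ : ∃ ψ₁, m ψ₁ ≠ 0 := by
    by_contra hcon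
    have hcon' : ∀ ψ, m ψ = 0 := fun ψ => by_contra fun h => hcon ⟨ψ, h⟩
    simp [hcon'] at hint
  have hsplit₁ := Finset.add_sum_erase Finset.univ (fun ψ => m ψ * m ψ) (Finset.mem_univ ψ₁)
  rw [hint] at hsplit₁
  have hm1 : m ψ₁ = 1 := hunit _ h₁ (by omega)
  have hrest : ∑ ψ ∈ Finset.univ.erase ψ₁, m ψ * m ψ = 1 := by rw [hm1] at hsplit₁; omega
  obtain ⟨ψ₂, hψ₂mem, h₂⟩ : ∃ ψ₂ ∈ Finset.univ.erase ψ₁, m ψ₂ ≠ 0 := by
    by_contra hcon
    have hcon' : ∀ ψ ∈ Finset.univ.erase ψ₁, m ψ = 0 :=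
      fun ψ hψ => by_contra fun h => hcon ⟨ψ, hψ, h⟩
    rw [Finset.sum_eq_zero (fun ψ hψ => by simp [hcon' ψ hψ])] at hrest
    omega
  have hne12 : ψ₂ ≠ ψ₁ := (Finset.mem_erase.mp hψ₂mem).1
  have hsplit₂ := Finset.add_sum_erase (Finset.univ.erase ψ₁) (fun ψ => m ψ * m ψ) hψ₂mem
  rw [hrest] at hsplit₂
  have hm2 : m ψ₂ = 1 := hunit _ h₂ (by omega)
  have hrest2 : ∑ ψ ∈ (Finset.univ.erase ψ₁).erase ψ₂, m ψ * m ψ = 0 := by
    rw [hm2] at hsplit₂; omega
  have hothers : ∀ ψ ∈ (Finset.univ.erase ψ₁).erase ψ₂, m ψ = 0 := by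
    intro ψ hψ
    have := (Finset.sum_eq_zero_iff.mp hrest2) ψ hψ
    exact mul_self_eq_zero.mp this
  refine ⟨ψ₁.1, ψ₂.1, ψ₁.2, ψ₂.2, fun h => hne12 (Subtype.ext h.symm), ?_⟩
  funext g
  rw [hm g, ← Finset.add_sum_erase _ _ (Finset.mem_univ ψ₁),
    ← Finset.add_sum_erase _ _ hψ₂mem,
    Finset.sum_eq_zero (fun ψ hψ => by rw [hothers ψ hψ]; simp), hm1, hm2]
  simp

/-- inner products are invariant under automorphisms -/
theorem classInner_comp_equiv {G : Type*} [Group G] [Fintype G] (c : G ≃* G) (f g : G → ℂ) :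
    classInner (f ∘ c) (g ∘ c) = classInner f g := by
  unfold classInner
  congr 1
  exact Equiv.sum_comp c.toEquiv (fun x => f x * conj (g x))

theorem classInner_add_left {G : Type*} [Group G] [Fintype G] (a b f : G → ℂ) :
    classInner (a + b) f = classInner a f + classInner b f := by
  unfold classInner
  rw [← mul_add, ← Finset.sum_add_distrib]
  congr 1
  apply Finset.sum_congr rfl
  intro g _
  simp only [Pi.add_apply]
  ring


variable {F : Type*} [Field F]

local notation "SL2" => SpecialLinearGroup (Fin 2) F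

/-- upper unitriangular elements -/
def umat (a : F) : SL2 := ⟨!![1, a; 0, 1], by simp [Matrix.det_fin_two]⟩

lemma umat_coe (a : F) : ((umat a : SL2) : Matrix (Fin 2) (Fin 2) F) = !![1, a; 0, 1] := rfl

/-- conjugation by `diag(e, 1)` -/
def cfun (e : Fˣ) (g : SL2) : SL2 :=
  ⟨!![(g : Matrix (Fin 2) (Fin 2) F) 0 0, (e : F) * (g : Matrix (Fin 2) (Fin 2) F) 0 1;
      ((e⁻¹ : Fˣ) : F) * (g : Matrix (Fin 2) (Fin 2) F) 1 0, (g : Matrix (Fin 2) (Fin 2) F) 1 1], by
    have h := det_eq g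
    have he : (e : F) * ((e⁻¹ : Fˣ) : F) = 1 := by
      rw [← Units.val_mul, mul_inv_cancel, Units.val_one]
    rw [Matrix.det_fin_two_of]
    linear_combination h - (g : Matrix (Fin 2) (Fin 2) F) 0 1 * (g : Matrix (Fin 2) (Fin 2) F) 1 0 * he⟩

lemma cfun_coe (e : Fˣ) (g : SL2) :
    ((cfun e g : SL2) : Matrix (Fin 2) (Fin 2) F) =
      !![(g : Matrix (Fin 2) (Fin 2) F) 0 0, (e : F) * (g : Matrix (Fin 2) (Fin 2) F) 0 1;
      ((e⁻¹ : Fˣ) : F) * (g : Matrix (Fin 2) (Fin 2) F) 1 0, (g : Matrix (Fin 2) (Fin 2) F) 1 1] := rfl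

lemma cfun_mul (e : Fˣ) (g h : SL2) : cfun e (g * h) = cfun e g * cfun e h := by
  have he : (e : F) * ((e⁻¹ : Fˣ) : F) = 1 := by
    rw [← Units.val_mul, mul_inv_cancel, Units.val_one]
  apply Subtype.ext
  rw [Matrix.SpecialLinearGroup.coe_mul, cfun_coe, cfun_coe, cfun_coe,
    Matrix.SpecialLinearGroup.coe_mul]
  ext i j
  fin_cases i <;> fin_cases j <;>
    simp only [Matrix.mul_apply, Fin.sum_univ_two, Matrix.of_apply, Matrix.cons_val',
      Matrix.cons_val_zero, Matrix.cons_val_one, Matrix.empty_val', Matrix.cons_val_fin_one,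
      Fin.zero_eta, Fin.mk_one]
  · linear_combination (-(g : Matrix (Fin 2) (Fin 2) F) 0 1 * (h : Matrix (Fin 2) (Fin 2) F) 1 0) * he
  · ring
  · ring
  · linear_combination (-(g : Matrix (Fin 2) (Fin 2) F) 1 0 * (h : Matrix (Fin 2) (Fin 2) F) 0 1) * he

lemma cfun_inv (e : Fˣ) (g : SL2) : cfun e⁻¹ (cfun e g) = g := by
  have he : (e : F) * ((e⁻¹ : Fˣ) : F) = 1 := by
    rw [← Units.val_mul, mul_inv_cancel, Units.val_one]
  apply Subtype.ext
  rw [cfun_coe, cfun_coe]
  ext i j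
  fin_cases i <;> fin_cases j <;>
    simp only [Matrix.of_apply, Matrix.cons_val', Matrix.cons_val_zero, Matrix.cons_val_one,
      Matrix.empty_val', Matrix.cons_val_fin_one, Fin.zero_eta, Fin.mk_one, inv_inv]
  · linear_combination ((g : Matrix (Fin 2) (Fin 2) F) 0 1) * he
  · linear_combination ((g : Matrix (Fin 2) (Fin 2) F) 1 0) * he

/-- conjugation by `diag(e, 1)` as an automorphism -/
def cEquiv (e : Fˣ) : SL2 ≃* SL2 where
  toFun := cfun e
  invFun := cfun e⁻¹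
  left_inv := cfun_inv e
  right_inv := fun g => by
    have := cfun_inv e⁻¹ g
    rwa [inv_inv] at this
  map_mul' := cfun_mul e

lemma cEquiv_apply (e : Fˣ) (g : SL2) : cEquiv e g = cfun e g := rfl

lemma cfun_umat (e : Fˣ) (a : F) : cfun e (umat a) = umat ((e : F) * a) := by
  apply Subtype.ext
  rw [cfun_coe, umat_coe, umat_coe]
  ext i j
  fin_cases i <;> fin_cases j <;> simp

/-- the relation to conjugation inside `GL₂` -/
lemma eq_cfun_of_conj (e : Fˣ) (g h : SL2)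
    (hgh : Matrix.SpecialLinearGroup.toGL h =
      Matrix.GeneralLinearGroup.mkOfDetNeZero !![(e : F), 0; 0, 1] (by simp [Matrix.det_fin_two]) *
        Matrix.SpecialLinearGroup.toGL g *
      (Matrix.GeneralLinearGroup.mkOfDetNeZero !![(e : F), 0; 0, 1] (by simp [Matrix.det_fin_two]))⁻¹) :
    h = cfun e g := by
  have he : (e : F) * ((e⁻¹ : Fˣ) : F) = 1 := by
    rw [← Units.val_mul, mul_inv_cancel, Units.val_one]
  have h1 : Matrix.SpecialLinearGroup.toGL h *
      Matrix.GeneralLinearGroup.mkOfDetNeZero !![(e : F), 0; 0, 1] (by simp [Matrix.det_fin_two]) =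
      Matrix.GeneralLinearGroup.mkOfDetNeZero !![(e : F), 0; 0, 1] (by simp [Matrix.det_fin_two]) *
        Matrix.SpecialLinearGroup.toGL g := by
    rw [hgh]; group
  have h2 : (h : Matrix (Fin 2) (Fin 2) F) * !![(e : F), 0; 0, 1] =
      !![(e : F), 0; 0, 1] * (g : Matrix (Fin 2) (Fin 2) F) := by
    have := congrArg (fun z : GeneralLinearGroup (Fin 2) F => (z : Matrix (Fin 2) (Fin 2) F)) h1
    simpa using this
  have e00 := congrFun (congrFun h2 0) 0
  have e01 := congrFun (congrFun h2 0) 1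
  have e10 := congrFun (congrFun h2 1) 0
  have e11 := congrFun (congrFun h2 1) 1
  simp only [Matrix.mul_apply, Fin.sum_univ_two, Matrix.of_apply, Matrix.cons_val',
    Matrix.cons_val_zero, Matrix.cons_val_one, Matrix.empty_val', Matrix.cons_val_fin_one,
    mul_zero, add_zero, zero_add, mul_one, zero_mul, one_mul] at e00 e01 e10 e11
  apply Subtype.ext
  rw [cfun_coe]
  ext i j
  fin_cases i <;> fin_cases j <;>
    simp only [Matrix.of_apply, Matrix.cons_val', Matrix.cons_val_zero, Matrix.cons_val_one,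
      Matrix.empty_val', Matrix.cons_val_fin_one, Fin.zero_eta, Fin.mk_one]
  · have : (e : F) * ((h : Matrix (Fin 2) (Fin 2) F) 0 0 - (g : Matrix (Fin 2) (Fin 2) F) 0 0) = 0 := by
      linear_combination e00
    rcases mul_eq_zero.mp this with h0 | h0
    · exact absurd h0 e.ne_zero
    · exact sub_eq_zero.mp h0
  · exact e01
  · linear_combination ((e⁻¹ : Fˣ) : F) * e10 - (h : Matrix (Fin 2) (Fin 2) F) 1 0 * he
  · exact e11


lemma umat_zero : (umat (0 : F) : SL2) = 1 := by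
  apply Subtype.ext
  rw [umat_coe, Matrix.SpecialLinearGroup.coe_one]
  ext i j
  fin_cases i <;> fin_cases j <;> simp

/-- lower unitriangular elements -/
def lmat (b : F) : SL2 := ⟨!![1, 0; b, 1], by simp [Matrix.det_fin_two]⟩

lemma lmat_coe (b : F) : ((lmat b : SL2) : Matrix (Fin 2) (Fin 2) F) = !![1, 0; b, 1] := rfl

/-- the Weyl element -/
def wmat : SL2 := ⟨!![0, -1; 1, 0], by simp [Matrix.det_fin_two]⟩

lemma lmat_eq (b : F) : lmat b = wmat * umat (-b) * wmat⁻¹ := by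
  apply eq_mul_inv_of_mul_eq
  apply Subtype.ext
  rw [Matrix.SpecialLinearGroup.coe_mul, Matrix.SpecialLinearGroup.coe_mul, lmat_coe, umat_coe]
  show !![1, 0; b, 1] * !![0, -1; 1, 0] = !![0, -1; 1, 0] * !![1, -b; 0, 1]
  ext i j
  fin_cases i <;> fin_cases j <;> simp [Matrix.mul_apply, Fin.sum_univ_two]

/-- a normal subgroup containing the upper unitriangular elements is everything -/
lemma normal_eq_top (K : Subgroup SL2) [hn : K.Normal] (hK : ∀ a, umat a ∈ K) : K = ⊤ := by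
  have hl : ∀ b, lmat b ∈ K := by
    intro b
    rw [lmat_eq]
    exact hn.conj_mem _ (hK _) _
  have hmain : ∀ g : SL2, (g : Matrix (Fin 2) (Fin 2) F) 1 0 ≠ 0 → g ∈ K := by
    intro g hc
    have hd := det_eq g
    have : g = umat (((g : Matrix (Fin 2) (Fin 2) F) 0 0 - 1) / (g : Matrix (Fin 2) (Fin 2) F) 1 0) *
        lmat ((g : Matrix (Fin 2) (Fin 2) F) 1 0) *
        umat (((g : Matrix (Fin 2) (Fin 2) F) 1 1 - 1) / (g : Matrix (Fin 2) (Fin 2) F) 1 0) := by
      apply Subtype.ext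
      rw [Matrix.SpecialLinearGroup.coe_mul, Matrix.SpecialLinearGroup.coe_mul, umat_coe, umat_coe,
        lmat_coe]
      ext i j
      fin_cases i <;> fin_cases j <;>
        simp only [Matrix.mul_apply, Fin.sum_univ_two, Matrix.of_apply, Matrix.cons_val',
          Matrix.cons_val_zero, Matrix.cons_val_one, Matrix.empty_val', Matrix.cons_val_fin_one,
          Fin.zero_eta, Fin.mk_one] <;> field_simp <;>
        first | ring1 | linear_combination hd | linear_combination -hd | linear_combination 2 * hd |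
          linear_combination (-2) * hd | linear_combination (g : Matrix (Fin 2) (Fin 2) F) 1 0 * hd |
          linear_combination -(g : Matrix (Fin 2) (Fin 2) F) 1 0 * hd
    rw [this]
    exact K.mul_mem (K.mul_mem (hK _) (hl _)) (hK _)
  rw [eq_top_iff]
  intro g _
  by_cases hc : (g : Matrix (Fin 2) (Fin 2) F) 1 0 = 0
  · have hd := det_eq g
    rw [hc, mul_zero, sub_zero] at hd
    have h00 : (g : Matrix (Fin 2) (Fin 2) F) 0 0 ≠ 0 := by
      intro h0; rw [h0, zero_mul] at hd; exact zero_ne_one hd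
    have h1 : lmat 1 * g ∈ K := by
      apply hmain
      rw [Matrix.SpecialLinearGroup.coe_mul, lmat_coe]
      simp [Matrix.mul_apply, Fin.sum_univ_two, hc, h00]
    have : g = (lmat 1)⁻¹ * (lmat 1 * g) := by group
    rw [this]
    exact K.mul_mem (K.inv_mem (hl 1)) h1
  · exact hmain g hc

/-- the unipotent subgroup -/
def Usub (F : Type*) [Field F] : Subgroup (SpecialLinearGroup (Fin 2) F) where
  carrier := {g | (g : Matrix (Fin 2) (Fin 2) F) 1 0 = 0 ∧ (g : Matrix (Fin 2) (Fin 2) F) 0 0 = 1 ∧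
    (g : Matrix (Fin 2) (Fin 2) F) 1 1 = 1}
  one_mem' := by simp
  mul_mem' := by
    rintro a b ⟨ha1, ha2, ha3⟩ ⟨hb1, hb2, hb3⟩
    refine ⟨?_, ?_, ?_⟩ <;>
      simp [Matrix.SpecialLinearGroup.coe_mul, Matrix.mul_apply, Fin.sum_univ_two, ha1, ha2, ha3, hb1,
        hb2, hb3]
  inv_mem' := by
    rintro a ⟨ha1, ha2, ha3⟩
    refine ⟨?_, ?_, ?_⟩ <;>
      simp [Matrix.SpecialLinearGroup.coe_inv, Matrix.adjugate_fin_two, ha1, ha2, ha3]

lemma mem_Usub (g : SL2) : g ∈ Usub F ↔ (g : Matrix (Fin 2) (Fin 2) F) 1 0 = 0 ∧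
    (g : Matrix (Fin 2) (Fin 2) F) 0 0 = 1 ∧ (g : Matrix (Fin 2) (Fin 2) F) 1 1 = 1 := Iff.rfl

lemma umat_mem (a : F) : umat a ∈ Usub F := by
  rw [mem_Usub, umat_coe]; simp

/-- parametrisation of the unipotent subgroup -/
def equivU : Usub F ≃ F where
  toFun u := ((u : SL2) : Matrix (Fin 2) (Fin 2) F) 0 1
  invFun a := ⟨umat a, umat_mem a⟩
  left_inv := by
    rintro ⟨u, h1, h2, h3⟩
    apply Subtype.ext
    apply Subtype.ext
    show !![1, _; 0, 1] = (u : Matrix (Fin 2) (Fin 2) F)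
    ext i j
    fin_cases i <;> fin_cases j <;> simp [h1, h2, h3]
  right_inv := by
    intro a
    show (!![1, a; 0, 1] : Matrix (Fin 2) (Fin 2) F) 0 1 = a
    simp

/-- an additive character as a linear character of the unipotent subgroup -/
noncomputable def psiHom (ψ : AddChar F ℂ) : Usub F →* ℂ where
  toFun u := ψ (((u : SL2) : Matrix (Fin 2) (Fin 2) F) 0 1)
  map_one' := by simp
  map_mul' := by
    rintro ⟨a, ha1, ha2, ha3⟩ ⟨b, hb1, hb2, hb3⟩
    show ψ (((a * b : SL2) : Matrix (Fin 2) (Fin 2) F) 0 1) = ψ ((a : Matrix (Fin 2) (Fin 2) F) 0 1) *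
      ψ ((b : Matrix (Fin 2) (Fin 2) F) 0 1)
    rw [← AddChar.map_add_eq_mul]
    congr 1
    simp [Matrix.SpecialLinearGroup.coe_mul, Matrix.mul_apply, Fin.sum_univ_two, ha2, hb3]
    ring


section fin

variable [Fintype F] [DecidableEq F]

lemma ext_cfun (α : MulChar F ℂ) (e : Fˣ) (z : SL2) :
    Cfsg.extendByZero (Bsub F)
      (fun b => α (((b : SL2) : Matrix (Fin 2) (Fin 2) F) 0 0)) (cfun e z) =
    Cfsg.extendByZero (Bsub F)
      (fun b => α (((b : SL2) : Matrix (Fin 2) (Fin 2) F) 0 0)) z := by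
  rw [ext_val, ext_val, cfun_coe]
  simp [Units.ne_zero]

lemma ind_cfun (α : MulChar F ℂ) (e : Fˣ) (g : SL2) :
    Cfsg.indFun (Bsub F) (fun b => α (((b : SL2) : Matrix (Fin 2) (Fin 2) F) 0 0)) (cfun e g) =
    Cfsg.indFun (Bsub F) (fun b => α (((b : SL2) : Matrix (Fin 2) (Fin 2) F) 0 0)) g := by
  unfold Cfsg.indFun
  congr 1
  rw [← Equiv.sum_comp (cEquiv e).toEquiv]
  apply Finset.sum_congr rfl
  intro x _
  have h : ((cEquiv e).toEquiv x)⁻¹ * cfun e g * (cEquiv e).toEquiv x = cfun e (x⁻¹ * g * x) := by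
    show (cEquiv e x)⁻¹ * cEquiv e g * cEquiv e x = cEquiv e (x⁻¹ * g * x)
    rw [map_mul, map_mul, map_inv]
  rw [h, ext_cfun]

/-- a character constant on the non-trivial unipotent elements: integrality -/
lemma int_lemma (ψ : AddChar F ℂ) (hψ : ψ ≠ 1) {χ : SL2 → ℂ} (hχ : IsCharacter SL2 χ) (s : ℂ)
    (hs : ∀ a : F, a ≠ 0 → χ (umat a) = s) :
    ∃ k : ℕ, χ 1 - s = (Fintype.card F : ℂ) * k := by
  haveI : Fintype (Usub F) := Fintype.ofFinite _
  obtain ⟨k, hk⟩ := classInner_character_nat (isCharacter_restrict (Usub F) hχ)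
    (Cfsg.Agent.S2306.isCharacter_of_monoidHom (psiHom ψ))
  refine ⟨k, ?_⟩
  unfold classInner at hk
  rw [Nat.card_congr (equivU (F := F)), Nat.card_eq_fintype_card,
    ← Equiv.sum_comp (equivU (F := F)).symm] at hk
  have hterm : ∀ a : F, χ ((equivU.symm a : Usub F) : SL2) * conj (psiHom ψ (equivU.symm a)) =
      if a = 0 then χ 1 else s * conj (ψ a) := by
    intro a
    show χ (umat a) * conj (ψ ((!![1, a; 0, 1] : Matrix (Fin 2) (Fin 2) F) 0 1)) = _
    split_ifs with h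
    · rw [h, umat_zero]; simp
    · rw [hs a h]; simp
  rw [Finset.sum_congr rfl (fun a _ => hterm a)] at hk
  have hsum : ∑ a : F, (if a = 0 then χ 1 else s * conj (ψ a)) = χ 1 - s := by
    have h0 : ∑ a : F, ψ a = 0 := AddChar.sum_eq_zero_of_ne_one hψ
    have h1 : ∀ a : F, (if a = 0 then χ 1 else s * conj (ψ a)) =
        s * conj (ψ a) + (if a = 0 then χ 1 - s else 0) := by
      intro a
      split_ifs with h
      · rw [h]; simp
      · simp
    rw [Finset.sum_congr rfl (fun a _ => h1 a), Finset.sum_add_distrib, ← Finset.mul_sum,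
      ← map_sum, h0, map_zero, mul_zero, zero_add, Finset.sum_ite_eq' Finset.univ (0 : F)]
    simp
  rw [hsum] at hk
  have hq : (Fintype.card F : ℂ) ≠ 0 := by
    have : Fintype.card F ≠ 0 := Fintype.card_ne_zero
    exact_mod_cast this
  rw [← hk]
  field_simp

/-- an irreducible character trivial on the unipotent elements is constant -/
lemma const_of_unip {χ : SL2 → ℂ} (hχ : IsIrrCharacter SL2 χ) (h : ∀ a : F, χ (umat a) = χ 1) :
    ∀ g, χ g = χ 1 := by
  obtain ⟨n, ρ, hirr, rfl⟩ := hχ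
  have hK : MonoidHom.ker (ρ : SL2 →* (Module.End ℂ (Fin n → ℂ))) = ⊤ := by
    apply normal_eq_top
    intro a
    rw [MonoidHom.mem_ker]
    have := (character_eq_degree_iff ρ (umat a)).mp (by rw [h a, Representation.char_one])
    exact this
  intro g
  have hg : g ∈ MonoidHom.ker (ρ : SL2 →* (Module.End ℂ (Fin n → ℂ))) := by rw [hK]; trivial
  rw [MonoidHom.mem_ker] at hg
  unfold Representation.character
  rw [hg, map_one ρ]

/-- the induced character is orthogonal to constants when `α ≠ 1` -/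
lemma inner_const (α : MulChar F ℂ) (hα : α ≠ 1) (d : ℂ) :
    classInner (Cfsg.indFun (Bsub F) (fun b => α (((b : SL2) : Matrix (Fin 2) (Fin 2) F) 0 0)))
      (fun _ => d) = 0 := by
  haveI : Fintype (Bsub F) := Fintype.ofFinite _
  rw [frobenius_reciprocity (Bsub F) _ _ (fun _ _ => rfl)]
  unfold classInner
  rw [← Finset.sum_mul, ← Equiv.sum_comp (equivB (F := F)).symm, Fintype.sum_prod_type]
  have : ∀ (u : Fˣ) (t : F),
      α ((((equivB.symm (u, t) : Bsub F) : SL2) : Matrix (Fin 2) (Fin 2) F) 0 0) = α (u : F) := by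
    intro u t
    rw [equivB_symm_coe]; simp
  simp_rw [this]
  simp only [Finset.sum_const, Finset.card_univ, nsmul_eq_mul]
  rw [← Finset.mul_sum, sum_units_ne hα]
  ring

end fin


/-- the induced character -/
noncomputable abbrev Rf {F : Type*} [Field F] [Fintype F] [DecidableEq F] (α : MulChar F ℂ) :
    SpecialLinearGroup (Fin 2) F → ℂ :=
  Cfsg.indFun (Bsub F) (fun b => α (((b : SpecialLinearGroup (Fin 2) F) : Matrix (Fin 2) (Fin 2) F) 0 0))

theorem main' {F : Type*} [Field F] [Fintype F] [DecidableEq F]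
    (α : MulChar F ℂ) (hα : α ^ 2 = 1) (hα1 : α ≠ 1) :
    ∃ χ₁ χ₂ : SpecialLinearGroup (Fin 2) F → ℂ,
      IsIrrCharacter (SpecialLinearGroup (Fin 2) F) χ₁ ∧
      IsIrrCharacter (SpecialLinearGroup (Fin 2) F) χ₂ ∧ χ₁ ≠ χ₂ ∧ Rf α = χ₁ + χ₂ ∧
      χ₂ 1 = χ₁ 1 ∧ χ₁ 1 + χ₂ 1 = (Fintype.card F : ℂ) + 1 ∧
      ∃ e : Fˣ, ∀ g : SpecialLinearGroup (Fin 2) F, χ₂ (cfun e g) = χ₁ g := by
  classical
  have hRchar : IsCharacter (SpecialLinearGroup (Fin 2) F) (Rf α) :=
    isCharacter_indFun (Bsub F)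
      (Cfsg.Agent.S2306.isCharacter_of_monoidHom (Cfsg.Agent.S2306.diagHom α))
  have hinv : α = α⁻¹ := eq_inv_of_mul_eq_one_left (by rw [← pow_two]; exact hα)
  have hnorm : classInner (Rf α) (Rf α) = 2 := by
    have := Cfsg.Agent.S2306.inner_general α α
    rw [if_pos rfl, if_pos hinv] at this
    have h2 : classInner (Rf α) (Rf α) = 1 + 1 := this
    rw [h2]; norm_num
  obtain ⟨χ₁, χ₂, h1, h2, hne, hsum⟩ := norm_two_char hRchar hnorm
  have h11 := irr_classInner h1 h1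
  rw [if_pos rfl] at h11
  have h22 := irr_classInner h2 h2
  rw [if_pos rfl] at h22
  have h12 := irr_classInner h1 h2
  rw [if_neg hne] at h12
  have h21 := irr_classInner h2 h1
  rw [if_neg (Ne.symm hne)] at h21
  have hRc : ∀ e : Fˣ, Rf α ∘ cEquiv e = Rf α := fun e => funext (fun g => ind_cfun α e g)
  have hperm : ∀ (e : Fˣ) (χ : SpecialLinearGroup (Fin 2) F → ℂ),
      IsIrrCharacter (SpecialLinearGroup (Fin 2) F) χ → classInner (Rf α) χ = 1 →
      χ ∘ cEquiv e = χ₁ ∨ χ ∘ cEquiv e = χ₂ := by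
    intro e χ hχ hRχ
    have hirr : IsIrrCharacter (SpecialLinearGroup (Fin 2) F) (χ ∘ cEquiv e) :=
      isIrrCharacter_comp_surjective (cEquiv e).toMonoidHom (cEquiv e).surjective hχ
    have hval : classInner (Rf α) (χ ∘ cEquiv e) = 1 := by
      conv_lhs => rw [← hRc e]
      rw [classInner_comp_equiv, hRχ]
    rw [hsum, classInner_add_left, irr_classInner h1 hirr, irr_classInner h2 hirr] at hval
    by_contra hcon
    rw [not_or] at hcon
    rw [if_neg (fun h => hcon.1 h.symm), if_neg (fun h => hcon.2 h.symm)] at hval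
    norm_num at hval
  have hR1 : classInner (Rf α) χ₁ = 1 := by
    rw [hsum, classInner_add_left, h11, h21]; norm_num
  have hR2 : classInner (Rf α) χ₂ = 1 := by
    rw [hsum, classInner_add_left, h12, h22]; norm_num
  have hRu : Rf α (umat 1) = 1 := by
    have := case3 α (umat (1 : F)) (by rw [umat_coe]; simp) (by rw [umat_coe]; simp)
      (by rw [umat_coe]; simp)
    have h' : Rf α (umat 1) = α (((umat (1 : F) : SpecialLinearGroup (Fin 2) F) :
        Matrix (Fin 2) (Fin 2) F) 0 0) := this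
    rw [h', umat_coe]; simp
  have hRone : Rf α 1 = (Fintype.card F : ℂ) + 1 := by
    have := case4 α (1 : SpecialLinearGroup (Fin 2) F) (by simp) (by simp) (by simp)
    have h' : Rf α 1 = ((Fintype.card F : ℂ) + 1) * α (((1 : SpecialLinearGroup (Fin 2) F) :
        Matrix (Fin 2) (Fin 2) F) 0 0) := this
    rw [h']; simp
  have hd : χ₁ 1 + χ₂ 1 = (Fintype.card F : ℂ) + 1 := by
    have := congrFun hsum 1
    rw [Pi.add_apply] at this
    rw [← this]; exact hRone
  by_cases hall : ∀ e : Fˣ, χ₁ ∘ cEquiv e = χ₁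
  · exfalso
    have hall2 : ∀ e : Fˣ, χ₂ ∘ cEquiv e = χ₂ := by
      intro e
      have h := hRc e
      rw [hsum] at h
      funext g
      have hg := congrFun h g
      have hg1 := congrFun (hall e) g
      simp only [Function.comp_apply, Pi.add_apply] at hg hg1 ⊢
      rw [hg1] at hg
      exact add_left_cancel hg
    have hconst : ∀ (χ : SpecialLinearGroup (Fin 2) F → ℂ), (∀ e : Fˣ, χ ∘ cEquiv e = χ) →
        ∀ a : F, a ≠ 0 → χ (umat a) = χ (umat 1) := by
      intro χ hχ a ha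
      have := congrFun (hχ (Units.mk0 a ha)) (umat 1)
      simp only [Function.comp_apply, cEquiv_apply, cfun_umat, Units.val_mk0, mul_one] at this
      exact this
    obtain ⟨ψ, hψ⟩ := (AddChar.exists_apply_ne_zero (α := F) (a := 1)).mpr one_ne_zero
    have hψ1 : ψ ≠ 1 := by
      intro h
      apply hψ
      rw [h]; rfl
    obtain ⟨k₁, hk₁⟩ := int_lemma ψ hψ1 (irr_isCharacter h1) _ (hconst χ₁ hall)
    obtain ⟨k₂, hk₂⟩ := int_lemma ψ hψ1 (irr_isCharacter h2) _ (hconst χ₂ hall2)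
    have hs : χ₁ (umat 1) + χ₂ (umat 1) = 1 := by
      have := congrFun hsum (umat 1)
      rw [Pi.add_apply] at this
      rw [← this]; exact hRu
    have hq : (Fintype.card F : ℂ) ≠ 0 := by
      have : Fintype.card F ≠ 0 := Fintype.card_ne_zero
      exact_mod_cast this
    have hk : (k₁ : ℂ) + k₂ = 1 := by
      have : (Fintype.card F : ℂ) * ((k₁ : ℂ) + k₂) = (Fintype.card F : ℂ) * 1 := by
        linear_combination -hk₁ - hk₂ + hd - hs
      exact mul_left_cancel₀ hq this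
    have hk' : k₁ + k₂ = 1 := by exact_mod_cast hk
    have hfin : ∀ (χ : SpecialLinearGroup (Fin 2) F → ℂ),
        IsIrrCharacter (SpecialLinearGroup (Fin 2) F) χ → classInner (Rf α) χ = 1 →
        (∀ a : F, a ≠ 0 → χ (umat a) = χ (umat 1)) → χ 1 - χ (umat 1) = 0 → False := by
      intro χ hχ hRχ hc h0
      have hu : ∀ a : F, χ (umat a) = χ 1 := by
        intro a
        by_cases ha : a = 0
        · rw [ha, umat_zero]
        · rw [hc a ha]; exact (sub_eq_zero.mp h0).symm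
      have hconstχ := const_of_unip hχ hu
      have hχc : χ = fun _ => χ 1 := funext hconstχ
      have h0' := inner_const α hα1 (χ 1)
      rw [hχc] at hRχ
      exact zero_ne_one (h0'.symm.trans hRχ)
    rcases Nat.eq_zero_or_pos k₁ with hz | hp
    · apply hfin χ₁ h1 hR1 (hconst χ₁ hall)
      rw [hk₁, hz]; simp
    · have hz : k₂ = 0 := by omega
      apply hfin χ₂ h2 hR2 (hconst χ₂ hall2)
      rw [hk₂, hz]; simp
  · have hall' : ∃ e : Fˣ, χ₁ ∘ cEquiv e ≠ χ₁ := by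
      by_contra h
      exact hall (fun e => by_contra fun h' => h ⟨e, h'⟩)
    obtain ⟨e, he⟩ := hall'
    have h1e : χ₁ ∘ cEquiv e = χ₂ := (hperm e χ₁ h1 hR1).resolve_left he
    have h2e : χ₂ ∘ cEquiv e = χ₁ := by
      rcases hperm e χ₂ h2 hR2 with h | h
      · exact h
      · exfalso
        apply hne
        have h3 : χ₁ ∘ cEquiv e = χ₂ ∘ cEquiv e := by rw [h1e, h]
        funext g
        have := congrFun h3 ((cEquiv e).symm g)
        simpa using this
    have hdeg : χ₂ 1 = χ₁ 1 := by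
      have := congrFun h2e 1
      simp only [Function.comp_apply, map_one] at this
      exact this
    refine ⟨χ₁, χ₂, h1, h2, hne, hsum, hdeg, hd, e, ?_⟩
    intro g
    exact congrFun h2e g

theorem main {F : Type*} [Field F] [Fintype F] [DecidableEq F] (hodd : Odd (Fintype.card F))
    (α : MulChar F ℂ) (hα : α ^ 2 = 1) (hα1 : α ≠ 1) :
    ∃ χ₁ χ₂ : SpecialLinearGroup (Fin 2) F → ℂ,
      IsIrrCharacter (SpecialLinearGroup (Fin 2) F) χ₁ ∧
      IsIrrCharacter (SpecialLinearGroup (Fin 2) F) χ₂ ∧ χ₁ ≠ χ₂ ∧ Rf α = χ₁ + χ₂ ∧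
      χ₁ 1 = (((Fintype.card F + 1) / 2 : ℕ) : ℂ) ∧ χ₂ 1 = (((Fintype.card F + 1) / 2 : ℕ) : ℂ) ∧
      ∃ e : Fˣ, ∀ g : SpecialLinearGroup (Fin 2) F, χ₂ (cfun e g) = χ₁ g := by
  obtain ⟨χ₁, χ₂, h1, h2, hne, hsum, hdeg, hd, e, he⟩ := main' α hα hα1
  have hhalf : χ₁ 1 = (((Fintype.card F + 1) / 2 : ℕ) : ℂ) := by
    obtain ⟨m, hm⟩ := hodd
    rw [hdeg] at hd
    rw [hm] at hd ⊢
    have : (2 * m + 1 + 1) / 2 = m + 1 := by omega
    rw [this]
    push_cast at hd ⊢
    linear_combination hd / 2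
  exact ⟨χ₁, χ₂, h1, h2, hne, hsum, hhalf, by rw [hdeg]; exact hhalf, e, he⟩


theorem result {F : Type*} [Field F] [Fintype F] [DecidableEq F] (hodd : Odd (Fintype.card F)) (α : MulChar F ℂ)
    (hα : α ^ 2 = 1) (hα1 : α ≠ 1) :
    ∃ χ₁ χ₂ : Matrix.SpecialLinearGroup (Fin 2) F → ℂ, Cfsg.IsIrrCharacter (Matrix.SpecialLinearGroup (Fin 2) F) χ₁ ∧ Cfsg.IsIrrCharacter (Matrix.SpecialLinearGroup (Fin 2) F) χ₂ ∧ χ₁ ≠ χ₂ ∧
      Cfsg.indFun ((Cfsg.upperTriangularGL 2 F).comap Matrix.SpecialLinearGroup.toGL) (fun b => α (((b : Matrix.SpecialLinearGroup (Fin 2) F) : Matrix (Fin 2) (Fin 2) F) 0 0)) = χ₁ + χ₂ ∧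
      χ₁ 1 = (((Fintype.card F + 1) / 2 : ℕ) : ℂ) ∧ χ₂ 1 = (((Fintype.card F + 1) / 2 : ℕ) : ℂ) ∧
      ∃ x : Matrix.GeneralLinearGroup (Fin 2) F, ∀ g h : Matrix.SpecialLinearGroup (Fin 2) F,
        Matrix.SpecialLinearGroup.toGL h = x * Matrix.SpecialLinearGroup.toGL g * x⁻¹ → χ₂ h = χ₁ g := by
  obtain ⟨χ₁, χ₂, h1, h2, hne, hsum, hd1, hd2, e, he⟩ := main hodd α hα hα1
  refine ⟨χ₁, χ₂, h1, h2, hne, hsum, hd1, hd2,
    Matrix.GeneralLinearGroup.mkOfDetNeZero !![(e : F), 0; 0, 1] (by simp [Matrix.det_fin_two]), ?_⟩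
  intro g h hgh
  rw [eq_cfun_of_conj e g h hgh]
  exact he g

end Cfsg.Agent.S2307
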