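import Cfsg.Statements.S2308
import Mathlib

set_option autoImplicit false
open Cfsg

namespace Cfsg.Agent.S2308

open Matrix

section
variable {F : Type*} [Field F]

theorem mem_B (x : GL (Fin 2) F) : x ∈ Cfsg.upperTriangularGL 2 F ↔ x.1 1 0 = 0 := by
  show (x.1).BlockTriangular id ↔ _
  constructor
  · intro h; exact h (show id (0 : Fin 2) < id 1 by decide)
  · intro h i j hij
    fin_cases i <;> fin_cases j <;> simp_all

theorem of00 (a b c d : F) : (!![a, b; c, d] : Matrix (Fin 2) (Fin 2) F) 0 0 = a := rfl
theorem of01 (a b c d : F) : (!![a, b; c, d] : Matrix (Fin 2) (Fin 2) F) 0 1 = b := rfl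
theorem of10 (a b c d : F) : (!![a, b; c, d] : Matrix (Fin 2) (Fin 2) F) 1 0 = c := rfl
theorem of11 (a b c d : F) : (!![a, b; c, d] : Matrix (Fin 2) (Fin 2) F) 1 1 = d := rfl

theorem entry10' (A X : Matrix (Fin 2) (Fin 2) F) :
    (A * X) 1 0 = A 1 0 * X 0 0 + A 1 1 * X 1 0 := by
  rw [Matrix.mul_apply, Fin.sum_univ_two]

theorem entry10 (A M C : Matrix (Fin 2) (Fin 2) F) :
    (A * (M * C)) 1 0 = A 1 0 * (M 0 0 * C 0 0 + M 0 1 * C 1 0)
      + A 1 1 * (M 1 0 * C 0 0 + M 1 1 * C 1 0) := by
  rw [entry10', Matrix.mul_apply, Fin.sum_univ_two, Matrix.mul_apply, Fin.sum_univ_two]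

def xt (t : F) : GL (Fin 2) F :=
  ⟨!![1, 0; t, 1], !![1, 0; -t, 1],
    by simp [Matrix.mul_fin_two, Matrix.one_fin_two],
    by simp [Matrix.mul_fin_two, Matrix.one_fin_two]⟩

def xinf : GL (Fin 2) F :=
  ⟨!![0, 1; 1, 0], !![0, 1; 1, 0],
    by simp [Matrix.mul_fin_two, Matrix.one_fin_two],
    by simp [Matrix.mul_fin_two, Matrix.one_fin_two]⟩

def sec : Option F → GL (Fin 2) F
  | some t => xt t
  | none => xinf

def P (g : GL (Fin 2) F) : Option F → Prop
  | some t => g.1 0 1 * t * t + (g.1 0 0 - g.1 1 1) * t - g.1 1 0 = 0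
  | none => g.1 0 1 = 0

theorem fixed_iff (g : GL (Fin 2) F) (o : Option F) :
    g • (QuotientGroup.mk (sec o) : GL (Fin 2) F ⧸ Cfsg.upperTriangularGL 2 F)
      = QuotientGroup.mk (sec o) ↔ P g o := by
  rw [MulAction.Quotient.smul_mk, smul_eq_mul, eq_comm, QuotientGroup.eq, mem_B]
  cases o with
  | none =>
    show (xinf⁻¹ * (g * xinf)).1 1 0 = 0 ↔ g.1 0 1 = 0
    have : (xinf⁻¹ * (g * xinf)).1 = !![0, 1; 1, 0] * (g.1 * !![0, 1; 1, 0]) := rfl
    rw [this, entry10]
    simp only [of00, of01, of10, of11]
    constructor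
    · intro h; linear_combination h
    · intro h; linear_combination h
  | some t =>
    show ((xt t)⁻¹ * (g * xt t)).1 1 0 = 0 ↔
      g.1 0 1 * t * t + (g.1 0 0 - g.1 1 1) * t - g.1 1 0 = 0
    have : ((xt t)⁻¹ * (g * xt t)).1 = !![1, 0; -t, 1] * (g.1 * !![1, 0; t, 1]) := rfl
    rw [this, entry10]
    simp only [of00, of01, of10, of11]
    constructor
    · intro h; linear_combination (-1 : F) * h
    · intro h; linear_combination (-1 : F) * h

theorem sec_bij : Function.Bijective (fun o : Option F =>
    (QuotientGroup.mk (sec o) : GL (Fin 2) F ⧸ Cfsg.upperTriangularGL 2 F)) := by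
  constructor
  · intro o o' h
    have h' := (QuotientGroup.eq.1 h)
    rw [mem_B] at h'
    cases o with
    | none =>
      cases o' with
      | none => rfl
      | some s =>
        exfalso
        change (xinf⁻¹ * xt s).1 1 0 = 0 at h'
        have : (xinf⁻¹ * xt s).1 = !![0, 1; 1, 0] * !![1, 0; s, 1] := rfl
        rw [this, entry10'] at h'
        simp only [of00, of01, of10, of11] at h'
        simp at h'
    | some t =>
      cases o' with
      | none =>
        exfalso
        change ((xt t)⁻¹ * xinf).1 1 0 = 0 at h'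
        have : ((xt t)⁻¹ * xinf).1 = !![1, 0; -t, 1] * !![0, 1; 1, 0] := rfl
        rw [this, entry10'] at h'
        simp only [of00, of01, of10, of11] at h'
        simp at h'
      | some s =>
        change ((xt t)⁻¹ * xt s).1 1 0 = 0 at h'
        have : ((xt t)⁻¹ * xt s).1 = !![1, 0; -t, 1] * !![1, 0; s, 1] := rfl
        rw [this, entry10'] at h'
        simp only [of00, of01, of10, of11] at h'
        have hst : t = s := by linear_combination (-1 : F) * h'
        rw [hst]
  · intro c
    induction c using QuotientGroup.induction_on with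
    | H x =>
      by_cases h0 : x.1 0 0 = 0
      · refine ⟨none, ?_⟩
        show (QuotientGroup.mk xinf : GL (Fin 2) F ⧸ Cfsg.upperTriangularGL 2 F) = QuotientGroup.mk x
        rw [QuotientGroup.eq, mem_B]
        have : (xinf⁻¹ * x).1 = !![0, 1; 1, 0] * x.1 := rfl
        rw [this, entry10']
        simp only [of00, of01, of10, of11]
        rw [h0]; ring
      · refine ⟨some (x.1 1 0 / x.1 0 0), ?_⟩
        show (QuotientGroup.mk (xt (x.1 1 0 / x.1 0 0)) :
          GL (Fin 2) F ⧸ Cfsg.upperTriangularGL 2 F) = QuotientGroup.mk x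
        rw [QuotientGroup.eq, mem_B]
        have : ((xt (x.1 1 0 / x.1 0 0))⁻¹ * x).1 = !![1, 0; -(x.1 1 0 / x.1 0 0), 1] * x.1 := rfl
        rw [this, entry10']
        simp only [of00, of01, of10, of11]
        field_simp
        ring

theorem card_fixed (g : GL (Fin 2) F) :
    Nat.card (MulAction.fixedBy (GL (Fin 2) F ⧸ Cfsg.upperTriangularGL 2 F) g)
      = Set.ncard {o : Option F | P g o} := by
  rw [← Nat.card_coe_set_eq]
  symm
  apply Nat.card_congr
  exact Equiv.subtypeEquiv (Equiv.ofBijective _ sec_bij) (fun o => (fixed_iff g o).symm)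

end

theorem main2308 {F : Type*} [Field F] [Fintype F] (g : Matrix.GeneralLinearGroup (Fin 2) F) :
    ((∃ a : F, (g : Matrix (Fin 2) (Fin 2) F) = a • (1 : Matrix (Fin 2) (Fin 2) F)) → Cfsg.fixedPointCharacter (Cfsg.upperTriangularGL 2 F) g = Fintype.card F + 1) ∧
    ((g : Matrix (Fin 2) (Fin 2) F) 0 1 = 0 → (g : Matrix (Fin 2) (Fin 2) F) 1 0 = 0 → (g : Matrix (Fin 2) (Fin 2) F) 0 0 ≠ (g : Matrix (Fin 2) (Fin 2) F) 1 1 →
      Cfsg.fixedPointCharacter (Cfsg.upperTriangularGL 2 F) g = 2) ∧
    ((∀ (c : F) (v : Fin 2 → F), v ≠ 0 → (g : Matrix (Fin 2) (Fin 2) F).mulVec v ≠ c • v) → Cfsg.fixedPointCharacter (Cfsg.upperTriangularGL 2 F) g = 0) ∧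
    ((g : Matrix (Fin 2) (Fin 2) F) 1 0 = 0 → (g : Matrix (Fin 2) (Fin 2) F) 0 0 = (g : Matrix (Fin 2) (Fin 2) F) 1 1 → (g : Matrix (Fin 2) (Fin 2) F) 0 1 ≠ 0 →
      Cfsg.fixedPointCharacter (Cfsg.upperTriangularGL 2 F) g = 1) := by
  have hchar : Cfsg.fixedPointCharacter (Cfsg.upperTriangularGL 2 F) g
      = ((Set.ncard {o : Option F | P g o} : ℕ) : ℂ) := by
    unfold Cfsg.fixedPointCharacter
    rw [card_fixed]
  rw [hchar]
  refine ⟨?_, ?_, ?_, ?_⟩
  · rintro ⟨a, ha⟩
    have h00 : g.1 0 0 = a := by rw [ha]; simp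
    have h11 : g.1 1 1 = a := by rw [ha]; simp
    have h01 : g.1 0 1 = 0 := by rw [ha]; simp
    have h10 : g.1 1 0 = 0 := by rw [ha]; simp
    have hset : {o : Option F | P g o} = Set.univ := by
      ext o
      simp only [Set.mem_setOf_eq, Set.mem_univ, iff_true]
      cases o with
      | none => exact h01
      | some t => show g.1 0 1 * t * t + (g.1 0 0 - g.1 1 1) * t - g.1 1 0 = 0
                  rw [h00, h11, h01, h10]; ring
    rw [hset, Set.ncard_univ, Nat.card_eq_fintype_card, Fintype.card_option]
    push_cast; ring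
  · intro h01 h10 hne
    have hset : {o : Option F | P g o} = {none, some 0} := by
      ext o
      simp only [Set.mem_setOf_eq, Set.mem_insert_iff, Set.mem_singleton_iff]
      cases o with
      | none => simp [P, h01]
      | some t =>
        show g.1 0 1 * t * t + (g.1 0 0 - g.1 1 1) * t - g.1 1 0 = 0 ↔ _
        rw [h01, h10]
        constructor
        · intro h
          right
          have h' : (g.1 0 0 - g.1 1 1) * t = 0 := by linear_combination h
          rcases mul_eq_zero.1 h' with h'' | h''
          · exact absurd (sub_eq_zero.1 h'') hne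
          · rw [h'']
        · rintro (h | h)
          · exact absurd h (by simp)
          · have : t = 0 := Option.some_injective _ h
            rw [this]; ring
    rw [hset, Set.ncard_pair (by simp)]
    norm_num
  · intro hev
    have hset : {o : Option F | P g o} = ∅ := by
      ext o
      simp only [Set.mem_setOf_eq, Set.mem_empty_iff_false, iff_false]
      intro hP
      cases o with
      | none =>
        have h01 : g.1 0 1 = 0 := hP
        apply hev (g.1 1 1) ![0, 1]
        · intro h; have := congrFun h 1; simp at this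
        · ext i
          fin_cases i
          · simp [Matrix.mulVec, dotProduct, Fin.sum_univ_two, h01]
          · simp [Matrix.mulVec, dotProduct, Fin.sum_univ_two]
      | some t =>
        have hP' : g.1 0 1 * t * t + (g.1 0 0 - g.1 1 1) * t - g.1 1 0 = 0 := hP
        apply hev (g.1 0 0 + g.1 0 1 * t) ![1, t]
        · intro h; have := congrFun h 0; simp at this
        · ext i
          fin_cases i
          · simp [Matrix.mulVec, dotProduct, Fin.sum_univ_two]
          · simp [Matrix.mulVec, dotProduct, Fin.sum_univ_two]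
            linear_combination (-1 : F) * hP'
    rw [hset, Set.ncard_empty]
    norm_num
  · intro h10 heq hne
    have hset : {o : Option F | P g o} = {some 0} := by
      ext o
      simp only [Set.mem_setOf_eq, Set.mem_singleton_iff]
      cases o with
      | none => simp [P, hne]
      | some t =>
        show g.1 0 1 * t * t + (g.1 0 0 - g.1 1 1) * t - g.1 1 0 = 0 ↔ _
        rw [h10, heq]
        constructor
        · intro h
          have h' : g.1 0 1 * (t * t) = 0 := by linear_combination h
          rcases mul_eq_zero.1 h' with h'' | h''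
          · exact absurd h'' hne
          · have : t = 0 := mul_self_eq_zero.1 h''
            rw [this]
        · intro h
          have : t = 0 := Option.some_injective _ h
          rw [this]; ring
    rw [hset, Set.ncard_singleton]
    norm_num


/-- Values of the permutation character of GL₂ over a finite field F with q elements on the cosets of its upper triangular subgroup (equivalently, the number of lines of F² that an element maps to themselves): q + 1 at a scalar matrix, 2 at a diagonal matrix with two different diagonal entries, 0 at an element with no eigenvector in F², and 1 at an upper triangular matrix with equal diagonal entries and non-zero upper right entry. -/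
theorem result {F : Type*} [Field F] [Fintype F] (g : Matrix.GeneralLinearGroup (Fin 2) F) :
    ((∃ a : F, (g : Matrix (Fin 2) (Fin 2) F) = a • (1 : Matrix (Fin 2) (Fin 2) F)) → Cfsg.fixedPointCharacter (Cfsg.upperTriangularGL 2 F) g = Fintype.card F + 1) ∧
    ((g : Matrix (Fin 2) (Fin 2) F) 0 1 = 0 → (g : Matrix (Fin 2) (Fin 2) F) 1 0 = 0 → (g : Matrix (Fin 2) (Fin 2) F) 0 0 ≠ (g : Matrix (Fin 2) (Fin 2) F) 1 1 →
      Cfsg.fixedPointCharacter (Cfsg.upperTriangularGL 2 F) g = 2) ∧
    ((∀ (c : F) (v : Fin 2 → F), v ≠ 0 → (g : Matrix (Fin 2) (Fin 2) F).mulVec v ≠ c • v) → Cfsg.fixedPointCharacter (Cfsg.upperTriangularGL 2 F) g = 0) ∧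
    ((g : Matrix (Fin 2) (Fin 2) F) 1 0 = 0 → (g : Matrix (Fin 2) (Fin 2) F) 0 0 = (g : Matrix (Fin 2) (Fin 2) F) 1 1 → (g : Matrix (Fin 2) (Fin 2) F) 0 1 ≠ 0 →
      Cfsg.fixedPointCharacter (Cfsg.upperTriangularGL 2 F) g = 1) := by
  exact main2308 g

end Cfsg.Agent.S2308
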