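import Mathlib
import Cfsg.Statements.S2321
import Cfsg.Agent.S2307
import Cfsg.Agent.Lib.Helper8.BrauerDefect2

set_option autoImplicit false

open Cfsg

namespace Cfsg.Agent.S2321

open Matrix ComplexConjugate Cfsg.Agent.S2433 Cfsg.Agent.S2432 Cfsg.Agent.S2307
  Cfsg.Agent.Lib.Helper8

open Classical in
theorem sum_mulchar {F : Type*} [Field F] [Fintype F] [Fintype (MulChar F ℂ)] (a : F) :
    ∑ β : MulChar F ℂ, β a = if a = 1 then ((Fintype.card F : ℂ) - 1) else 0 := by
  split_ifs with h
  · have hc := MulChar.card_eq_card_units_of_hasEnoughRootsOfUnity F ℂ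
    rw [Nat.card_eq_fintype_card, Nat.card_eq_fintype_card, Fintype.card_units] at hc
    simp only [h, map_one, Finset.sum_const, Finset.card_univ, nsmul_eq_mul, mul_one, hc]
    rw [Nat.cast_sub Fintype.card_pos]; simp
  · obtain ⟨χ, hχ⟩ := MulChar.exists_apply_ne_one_of_hasEnoughRootsOfUnity F ℂ h
    refine eq_zero_of_mul_eq_self_left hχ ?_
    simp only [Finset.mul_sum, ← MulChar.mul_apply]
    exact Fintype.sum_bijective _ (Group.mulLeft_bijective χ) _ _ fun χ' ↦ rfl

variable {F : Type*} [Field F]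

local notation "SL2" => SpecialLinearGroup (Fin 2) F

lemma umat_mul (a b : F) : (umat a : SL2) * umat b = umat (a + b) := by
  apply Subtype.ext
  rw [Matrix.SpecialLinearGroup.coe_mul, umat_coe, umat_coe, umat_coe]
  ext i j
  fin_cases i <;> fin_cases j <;> simp [Matrix.mul_apply, Fin.sum_univ_two, add_comm]

lemma umat_pow (a : F) (k : ℕ) : (umat a : SL2) ^ k = umat (k • a) := by
  induction k with
  | zero => simp [umat_zero]
  | succ k ih => rw [pow_succ, ih, umat_mul, succ_nsmul]

lemma umat_ne_one {a : F} (ha : a ≠ 0) : (umat a : SL2) ≠ 1 := by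
  intro h
  have := congrArg (fun g : SL2 => (g : Matrix (Fin 2) (Fin 2) F) 0 1) h
  simp [umat_coe] at this
  exact ha this

lemma orderOf_umat (p : ℕ) [hp : Fact p.Prime] [CharP F p] {a : F} (ha : a ≠ 0) :
    orderOf (umat a : SL2) = p := by
  have h1 : (umat a : SL2) ^ p = 1 := by
    rw [umat_pow, nsmul_eq_mul, CharP.cast_eq_zero, zero_mul, umat_zero]
  have h2 := orderOf_dvd_of_pow_eq_one h1
  rcases (Nat.dvd_prime hp.out).mp h2 with h | h
  · exact absurd (orderOf_eq_one_iff.mp h) (umat_ne_one ha)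
  · exact h

section fin

variable [Fintype F] [DecidableEq F]

/-- an irreducible character of degree `q` vanishes on non-trivial unipotent elements -/
lemma vanish_unip {χ : SL2 → ℂ} (hχ : IsIrrCharacter SL2 χ) (hdeg : χ 1 = (Fintype.card F : ℂ))
    {a : F} (ha : a ≠ 0) : χ (umat a) = 0 := by
  obtain ⟨d, ρ, hirr, rfl⟩ := hχ
  obtain ⟨p, hp⟩ := CharP.exists F
  haveI := hp
  haveI : Fact p.Prime := ⟨CharP.char_is_prime F p⟩
  obtain ⟨n, hpn, hcard⟩ := FiniteField.card F p
  have hfr : Module.finrank ℂ (Fin d → ℂ) = Fintype.card F := by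
    rw [Representation.char_one] at hdeg
    exact_mod_cast hdeg
  have hG : Nat.card SL2 = (Fintype.card F + 1) * (Fintype.card F * (Fintype.card F - 1)) := by
    rw [Nat.card_eq_fintype_card, cardSL, cardB]
  have hq1 : 1 ≤ Fintype.card F := Fintype.card_pos
  apply defect_zero_vanish ρ hirr p (n : ℕ)
  · rw [hG, ← hcard]
    exact Dvd.dvd.mul_left (Dvd.intro _ rfl) _
  · rw [hG, pow_succ]
    intro hdvd
    have h1 : (Fintype.card F + 1) * (Fintype.card F * (Fintype.card F - 1)) =
        Fintype.card F * ((Fintype.card F + 1) * (Fintype.card F - 1)) := by ring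
    rw [h1, ← hcard] at hdvd
    have h2 : p ∣ (Fintype.card F + 1) * (Fintype.card F - 1) :=
      Nat.dvd_of_mul_dvd_mul_left Fintype.card_pos hdvd
    have hpq : p ∣ Fintype.card F := by
      rw [hcard]; exact dvd_pow_self p (PNat.ne_zero n)
    rcases (Nat.Prime.dvd_mul hpn).mp h2 with h3 | h3
    · have : p ∣ 1 := (Nat.dvd_add_right hpq).mp h3
      exact hpn.one_lt.ne' (Nat.dvd_one.mp this)
    · have h4 : p ∣ Fintype.card F - (Fintype.card F - 1) := Nat.dvd_sub hpq h3
      have : Fintype.card F - (Fintype.card F - 1) = 1 := by omega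
      rw [this] at h4
      exact hpn.one_lt.ne' (Nat.dvd_one.mp h4)
  · rw [hfr, hcard]
  · rw [orderOf_umat p ha]

/-- the multiplicities of `χ` in the principal series sum to one -/
lemma sum_mult [Fintype (MulChar F ℂ)] {χ : SL2 → ℂ} (hχ : IsIrrCharacter SL2 χ)
    (hdeg : χ 1 = (Fintype.card F : ℂ)) :
    ∑ β : MulChar F ℂ, classInner (Rf β) χ = 1 := by
  haveI : Fintype (Bsub F) := Fintype.ofFinite _
  have hcf : IsClassFunction SL2 χ := isClassFunction_of_isCharacter (irr_isCharacter hχ)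
  have h1 : ∀ β : MulChar F ℂ, classInner (Rf β) χ = (Nat.card (Bsub F) : ℂ)⁻¹ *
      ∑ ut : Fˣ × F, β (ut.1 : F) * conj (χ ((equivB.symm ut : Bsub F) : SL2)) := by
    intro β
    show classInner (Cfsg.indFun (Bsub F) _) χ = _
    rw [frobenius_reciprocity (Bsub F) _ _ hcf]
    unfold classInner
    congr 1
    rw [← Equiv.sum_comp (equivB (F := F)).symm]
    apply Finset.sum_congr rfl
    rintro ⟨u, t⟩ _
    beta_reduce
    rw [equivB_symm_coe]
    simp
  simp_rw [h1]
  rw [← Finset.mul_sum, Finset.sum_comm]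
  simp_rw [← Finset.sum_mul, sum_mulchar]
  rw [Fintype.sum_prod_type, Finset.sum_eq_single (1 : Fˣ)]
  · simp only [Units.val_one, if_true]
    have hval : ∀ t : F, χ ((equivB.symm ((1 : Fˣ), t) : Bsub F) : SL2) =
        if t = 0 then (Fintype.card F : ℂ) else 0 := by
      intro t
      have he : ((equivB.symm ((1 : Fˣ), t) : Bsub F) : SL2) = umat t := by
        apply Subtype.ext
        rw [equivB_symm_coe, umat_coe]
        simp
      rw [he]
      split_ifs with h
      · rw [h, umat_zero, hdeg]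
      · exact vanish_unip hχ hdeg h
    simp_rw [hval]
    rw [← Finset.mul_sum]
    have hs : ∑ t : F, conj (if t = 0 then (Fintype.card F : ℂ) else 0) = (Fintype.card F : ℂ) := by
      have : ∀ t : F, conj (if t = 0 then (Fintype.card F : ℂ) else 0) =
          if t = 0 then (Fintype.card F : ℂ) else 0 := by
        intro t; split_ifs <;> simp
      simp_rw [this]
      rw [Finset.sum_ite_eq' Finset.univ (0 : F)]
      simp
    rw [hs, cardB]
    have hq : 1 < Fintype.card F := Fintype.one_lt_card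
    have hq0 : (Fintype.card F : ℂ) ≠ 0 := by
      have : Fintype.card F ≠ 0 := by omega
      exact_mod_cast this
    have hq1 : (Fintype.card F : ℂ) - 1 ≠ 0 := by
      intro h
      have h2 : (Fintype.card F : ℂ) = 1 := sub_eq_zero.mp h
      have : Fintype.card F = 1 := by exact_mod_cast h2
      omega
    push_cast [Nat.cast_sub (le_of_lt hq)]
    field_simp
  · intro u _ hu
    have : (u : F) ≠ 1 := fun h => hu (Units.ext h)
    simp [this]
  · intro h; exact absurd (Finset.mem_univ _) h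

theorem steinberg {χ : SL2 → ℂ} (hχ : IsIrrCharacter SL2 χ) (hdeg : χ 1 = (Fintype.card F : ℂ)) :
    ∀ g, χ g = Rf (1 : MulChar F ℂ) g - 1 := by
  classical
  haveI : Fintype (MulChar F ℂ) := Fintype.ofFinite _
  have hsum := sum_mult hχ hdeg
  obtain ⟨β₀, hβ₀⟩ : ∃ β₀ : MulChar F ℂ, classInner (Rf β₀) χ ≠ 0 := by
    by_contra hcon
    have : ∀ β : MulChar F ℂ, classInner (Rf β) χ = 0 := fun β => by_contra fun h => hcon ⟨β, h⟩
    rw [Finset.sum_eq_zero (fun β _ => this β)] at hsum
    exact zero_ne_one hsum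
  have hq : 1 < Fintype.card F := Fintype.one_lt_card
  have hqne : (Fintype.card F : ℂ) ≠ 1 := by
    intro h
    have : Fintype.card F = 1 := by exact_mod_cast h
    omega
  have mem : ∀ (R a b ξ : SL2 → ℂ), IsIrrCharacter SL2 a → IsIrrCharacter SL2 b → R = a + b →
      IsIrrCharacter SL2 ξ → classInner R ξ ≠ 0 → ξ = a ∨ ξ = b := by
    intro R a b ξ ha hb hR hξ hne
    rw [hR, classInner_add_left, irr_classInner ha hξ, irr_classInner hb hξ] at hne
    by_contra hcon
    rw [not_or] at hcon
    rw [if_neg (fun h => hcon.1 h.symm), if_neg (fun h => hcon.2 h.symm)] at hne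
    simp at hne
  by_cases hsq : β₀ ^ 2 = 1
  · by_cases hone : β₀ = 1
    · subst hone
      have hRchar : IsCharacter SL2 (Rf (1 : MulChar F ℂ)) :=
        isCharacter_indFun (Bsub F)
          (Cfsg.Agent.S2306.isCharacter_of_monoidHom (Cfsg.Agent.S2306.diagHom 1))
      have hnorm : classInner (Rf (1 : MulChar F ℂ)) (Rf 1) = 2 := by
        have := Cfsg.Agent.S2306.inner_general (1 : MulChar F ℂ) 1
        rw [if_pos rfl, if_pos inv_one.symm] at this
        have h2 : classInner (Rf (1 : MulChar F ℂ)) (Rf 1) = 1 + 1 := this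
        rw [h2]; norm_num
      obtain ⟨a, b, ha, hb, hab, hsumab⟩ := norm_two_char hRchar hnorm
      have htriv : IsIrrCharacter SL2 (fun _ => (1 : ℂ)) := by
        refine ⟨1, Cfsg.Agent.S2306.linRep (1 : SL2 →* ℂ),
          irreducible_of_finrank_eq_one _ (by simp), ?_⟩
        funext g
        rw [Cfsg.Agent.S2306.linRep_character]
        rfl
      have hR1 : classInner (Rf (1 : MulChar F ℂ)) (fun _ => (1 : ℂ)) = 1 := by
        haveI : Fintype (Bsub F) := Fintype.ofFinite _
        show classInner (Cfsg.indFun (Bsub F) _) _ = _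
        rw [frobenius_reciprocity (Bsub F) _ _ (fun _ _ => rfl)]
        unfold classInner
        have : ∀ b : Bsub F, (1 : MulChar F ℂ) (((b : SL2) : Matrix (Fin 2) (Fin 2) F) 0 0) *
            conj (1 : ℂ) = 1 := by
          intro b
          have hb10 := (mem_B b.1).mp b.2
          have hd := det_eq b.1
          rw [hb10, mul_zero, sub_zero] at hd
          rw [MulChar.one_apply (IsUnit.of_mul_eq_one _ hd)]
          simp
        rw [Finset.sum_congr rfl (fun b _ => this b), Finset.sum_const, Finset.card_univ,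
          nsmul_eq_mul, mul_one, ← Nat.card_eq_fintype_card]
        exact inv_mul_cancel₀ cardB_ne_zero
      have hχ1 : χ ≠ fun _ => (1 : ℂ) := by
        intro h
        rw [h] at hdeg
        exact hqne hdeg.symm
      rcases mem _ a b χ ha hb hsumab hχ hβ₀ with h | h <;>
        rcases mem _ a b _ ha hb hsumab htriv (by rw [hR1]; exact one_ne_zero) with h' | h'
      · exact absurd (h.trans h'.symm) hχ1
      · intro g
        have := congrFun hsumab g
        rw [Pi.add_apply, ← h, ← h'] at this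
        rw [this]; ring
      · intro g
        have := congrFun hsumab g
        rw [Pi.add_apply, ← h, ← h'] at this
        rw [this]; ring
      · exact absurd (h.trans h'.symm) hχ1
    · exfalso
      obtain ⟨χ₁, χ₂, h1, h2, hne, hsum12, hdeg12, hd, _⟩ := main' β₀ hsq hone
      have hq2 : (Fintype.card F : ℂ) = 1 := by
        rcases mem _ χ₁ χ₂ χ h1 h2 hsum12 hχ hβ₀ with h | h
        · rw [h] at hdeg
          rw [hdeg12, hdeg] at hd
          linear_combination hd
        · rw [h] at hdeg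
          rw [← hdeg12, hdeg] at hd
          linear_combination hd
      exact hqne hq2
  · exfalso
    have hirr : IsIrrCharacter SL2 (Rf β₀) := (Cfsg.Agent.S2306.result β₀).mpr hsq
    rw [irr_classInner hirr hχ] at hβ₀
    have heq : Rf β₀ = χ := by
      by_contra h
      rw [if_neg h] at hβ₀
      exact hβ₀ rfl
    have h4 := case4 β₀ (1 : SL2) (by simp) (by simp) (by simp)
    have h4' : Rf β₀ 1 = ((Fintype.card F : ℂ) + 1) * β₀ (((1 : SL2) : Matrix (Fin 2) (Fin 2) F) 0 0) := h4
    rw [heq, hdeg] at h4'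
    simp at h4'

end fin

end Cfsg.Agent.S2321


namespace Cfsg.Agent.S2321

open Matrix Cfsg.Agent.S2433 Cfsg.Agent.S2307

theorem result {F : Type*} [Field F] [Fintype F] (χ : Matrix.SpecialLinearGroup (Fin 2) F → ℂ) (hχ : Cfsg.IsIrrCharacter (Matrix.SpecialLinearGroup (Fin 2) F) χ) (hdeg : χ 1 = (Fintype.card F : ℂ)) (g : Matrix.SpecialLinearGroup (Fin 2) F) :
    ((g : Matrix (Fin 2) (Fin 2) F) 0 1 = 0 → (g : Matrix (Fin 2) (Fin 2) F) 1 0 = 0 → (g : Matrix (Fin 2) (Fin 2) F) 0 0 ^ 2 ≠ 1 → χ g = 1) ∧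
    ((∀ (c : F) (v : Fin 2 → F), v ≠ 0 → (g : Matrix (Fin 2) (Fin 2) F).mulVec v ≠ c • v) → χ g = -1) ∧
    ((g : Matrix (Fin 2) (Fin 2) F) 1 0 = 0 → (g : Matrix (Fin 2) (Fin 2) F) 0 0 = (g : Matrix (Fin 2) (Fin 2) F) 1 1 → (g : Matrix (Fin 2) (Fin 2) F) 0 1 ≠ 0 → χ g = 0) := by
  classical
  have hst := steinberg hχ hdeg g
  have hd := det_eq g
  refine ⟨?_, ?_, ?_⟩
  · intro h01 h10 hsq
    have h := case1 (1 : MulChar F ℂ) g h01 h10 hsq
    have h' : Rf (1 : MulChar F ℂ) g = (1 : MulChar F ℂ) ((g : Matrix (Fin 2) (Fin 2) F) 0 0) +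
        (1 : MulChar F ℂ) ((g : Matrix (Fin 2) (Fin 2) F) 1 1) := h
    rw [h10, mul_zero, sub_zero] at hd
    have hd' : (g : Matrix (Fin 2) (Fin 2) F) 1 1 * (g : Matrix (Fin 2) (Fin 2) F) 0 0 = 1 := by
      rw [mul_comm]; exact hd
    rw [hst, h', MulChar.one_apply (IsUnit.of_mul_eq_one _ hd),
      MulChar.one_apply (IsUnit.of_mul_eq_one _ hd')]
    norm_num
  · intro hell
    have h := case2 (1 : MulChar F ℂ) g hell
    have h' : Rf (1 : MulChar F ℂ) g = 0 := h
    rw [hst, h']; norm_num
  · intro h10 heq h01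
    have h := case3 (1 : MulChar F ℂ) g h10 heq h01
    have h' : Rf (1 : MulChar F ℂ) g = (1 : MulChar F ℂ) ((g : Matrix (Fin 2) (Fin 2) F) 0 0) := h
    rw [h10, mul_zero, sub_zero] at hd
    rw [hst, h', MulChar.one_apply (IsUnit.of_mul_eq_one _ hd)]
    norm_num

end Cfsg.Agent.S2321
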