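import Mathlib
import Cfsg.Statements.S2320
import Cfsg.Agent.S2305
import Cfsg.Agent.S2321

set_option autoImplicit false

open Cfsg

namespace Cfsg.Agent.S2320

open Matrix ComplexConjugate Cfsg.Agent.S2304 Cfsg.Agent.Lib.Helper8

variable {F : Type*} [Field F]

local notation "GL2" => GeneralLinearGroup (Fin 2) F

/-- upper unitriangular elements of `GL₂` -/
noncomputable def gumat (a : F) : GL2 :=
  Matrix.GeneralLinearGroup.mkOfDetNeZero !![1, a; 0, 1] (by simp [Matrix.det_fin_two])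

lemma gumat_coe (a : F) : ((gumat a : GL2) : Matrix (Fin 2) (Fin 2) F) = !![1, a; 0, 1] := rfl

lemma gumat_zero : (gumat (0 : F) : GL2) = 1 := by
  apply Units.ext
  rw [gumat_coe, Units.val_one]
  ext i j
  fin_cases i <;> fin_cases j <;> simp

lemma gumat_mul (a b : F) : (gumat a : GL2) * gumat b = gumat (a + b) := by
  apply Units.ext
  rw [Units.val_mul, gumat_coe, gumat_coe, gumat_coe]
  ext i j
  fin_cases i <;> fin_cases j <;> simp [Matrix.mul_apply, Fin.sum_univ_two, add_comm]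

lemma gumat_pow (a : F) (k : ℕ) : (gumat a : GL2) ^ k = gumat (k • a) := by
  induction k with
  | zero => simp [gumat_zero]
  | succ k ih => rw [pow_succ, ih, gumat_mul, succ_nsmul]

lemma gumat_ne_one {a : F} (ha : a ≠ 0) : (gumat a : GL2) ≠ 1 := by
  intro h
  have := congrArg (fun g : GL2 => (g : Matrix (Fin 2) (Fin 2) F) 0 1) h
  simp [gumat_coe] at this
  exact ha this

lemma orderOf_gumat (p : ℕ) [hp : Fact p.Prime] [CharP F p] {a : F} (ha : a ≠ 0) :
    orderOf (gumat a : GL2) = p := by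
  have h1 : (gumat a : GL2) ^ p = 1 := by
    rw [gumat_pow, nsmul_eq_mul, CharP.cast_eq_zero, zero_mul, gumat_zero]
  have h2 := orderOf_dvd_of_pow_eq_one h1
  rcases (Nat.dvd_prime hp.out).mp h2 with h | h
  · exact absurd (orderOf_eq_one_iff.mp h) (gumat_ne_one ha)
  · exact h

/-- the Weyl element of `GL₂` -/
noncomputable def wG : GL2 :=
  Matrix.GeneralLinearGroup.mkOfDetNeZero !![0, -1; 1, 0] (by simp [Matrix.det_fin_two])

lemma wG_mul10 (x : GL2) :
    ((wG * x : GL2) : Matrix (Fin 2) (Fin 2) F) 1 0 = (x : Matrix (Fin 2) (Fin 2) F) 0 0 := by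
  rw [Units.val_mul, Matrix.mul_apply, Fin.sum_univ_two]
  show (!![0, -1; 1, 0] : Matrix (Fin 2) (Fin 2) F) 1 0 * _ + (!![0, -1; 1, 0] : Matrix (Fin 2) (Fin 2) F) 1 1 * _ = _
  simp

section fin

variable [Fintype F] [DecidableEq F]

lemma card_filter00G :
    (Finset.univ.filter (fun x : GL2 => (x : Matrix (Fin 2) (Fin 2) F) 0 0 = 0)).card =
      Nat.card (BG F) := by
  rw [← card_filter10G]
  apply Finset.card_equiv (Equiv.mulLeft (wG : GL2))
  intro x
  simp only [Finset.mem_filter, Finset.mem_univ, true_and, Equiv.coe_mulLeft, wG_mul10]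

/-- the induced character -/
noncomputable abbrev RG (α β : MulChar F ℂ) : GL2 → ℂ := Cfsg.indFun (BG F) (theta α β)

lemma case1G (α β : MulChar F ℂ) (g : GL2)
    (h01 : (g : Matrix (Fin 2) (Fin 2) F) 0 1 = 0) (h10 : (g : Matrix (Fin 2) (Fin 2) F) 1 0 = 0)
    (hne : (g : Matrix (Fin 2) (Fin 2) F) 0 0 ≠ (g : Matrix (Fin 2) (Fin 2) F) 1 1) :
    RG α β g = α ((g : Matrix (Fin 2) (Fin 2) F) 0 0) * β ((g : Matrix (Fin 2) (Fin 2) F) 1 1) +
      α ((g : Matrix (Fin 2) (Fin 2) F) 1 1) * β ((g : Matrix (Fin 2) (Fin 2) F) 0 0) := by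
  unfold RG Cfsg.indFun
  have hterm : ∀ x : GL2, Cfsg.extendByZero (BG F) (theta α β) (x⁻¹ * g * x) =
      (if (x : Matrix (Fin 2) (Fin 2) F) 1 0 = 0 then
        α ((g : Matrix (Fin 2) (Fin 2) F) 0 0) * β ((g : Matrix (Fin 2) (Fin 2) F) 1 1) else 0) +
      (if (x : Matrix (Fin 2) (Fin 2) F) 0 0 = 0 then
        α ((g : Matrix (Fin 2) (Fin 2) F) 1 1) * β ((g : Matrix (Fin 2) (Fin 2) F) 0 0) else 0) := by
    intro x
    have hd := dt_ne x
    have e10 := conjG10 x g
    have e00 := conjG00 x g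
    have e11 := conjG11 x g
    rw [h01, h10] at e10 e00 e11
    rw [ext_valG]
    by_cases hx10 : (x : Matrix (Fin 2) (Fin 2) F) 1 0 = 0
    · have hx00 : (x : Matrix (Fin 2) (Fin 2) F) 0 0 ≠ 0 := by
        intro h0; apply hd; unfold dt; rw [hx10, h0]; ring
      have hdx : dt x = (x : Matrix (Fin 2) (Fin 2) F) 0 0 * (x : Matrix (Fin 2) (Fin 2) F) 1 1 := by
        unfold dt; rw [hx10]; ring
      rw [hx10] at e10 e00 e11
      have y10 : ((x⁻¹ * g * x : GL2) : Matrix (Fin 2) (Fin 2) F) 1 0 = 0 := by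
        apply mul_left_cancel₀ hd; rw [e10]; ring
      have y00 : ((x⁻¹ * g * x : GL2) : Matrix (Fin 2) (Fin 2) F) 0 0 =
          (g : Matrix (Fin 2) (Fin 2) F) 0 0 := by
        apply mul_left_cancel₀ hd; rw [e00, hdx]; ring
      have y11 : ((x⁻¹ * g * x : GL2) : Matrix (Fin 2) (Fin 2) F) 1 1 =
          (g : Matrix (Fin 2) (Fin 2) F) 1 1 := by
        apply mul_left_cancel₀ hd; rw [e11, hdx]; ring
      rw [if_pos y10, y00, y11, if_pos hx10, if_neg hx00, add_zero]
    · by_cases hx00 : (x : Matrix (Fin 2) (Fin 2) F) 0 0 = 0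
      · have hdx : dt x = -(x : Matrix (Fin 2) (Fin 2) F) 0 1 * (x : Matrix (Fin 2) (Fin 2) F) 1 0 := by
          unfold dt; rw [hx00]; ring
        rw [hx00] at e10 e00 e11
        have y10 : ((x⁻¹ * g * x : GL2) : Matrix (Fin 2) (Fin 2) F) 1 0 = 0 := by
          apply mul_left_cancel₀ hd; rw [e10]; ring
        have y00 : ((x⁻¹ * g * x : GL2) : Matrix (Fin 2) (Fin 2) F) 0 0 =
            (g : Matrix (Fin 2) (Fin 2) F) 1 1 := by
          apply mul_left_cancel₀ hd; rw [e00, hdx]; ring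
        have y11 : ((x⁻¹ * g * x : GL2) : Matrix (Fin 2) (Fin 2) F) 1 1 =
            (g : Matrix (Fin 2) (Fin 2) F) 0 0 := by
          apply mul_left_cancel₀ hd; rw [e11, hdx]; ring
        rw [if_pos y10, y00, y11, if_neg hx10, if_pos hx00, zero_add]
      · rw [if_neg, if_neg hx10, if_neg hx00, add_zero]
        intro h
        rw [h, mul_zero] at e10
        have h2 : (x : Matrix (Fin 2) (Fin 2) F) 0 0 * (x : Matrix (Fin 2) (Fin 2) F) 1 0 *
            ((g : Matrix (Fin 2) (Fin 2) F) 1 1 - (g : Matrix (Fin 2) (Fin 2) F) 0 0) = 0 := by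
          linear_combination -e10
        rcases mul_eq_zero.mp h2 with h3 | h3
        · rcases mul_eq_zero.mp h3 with h4 | h4
          · exact hx00 h4
          · exact hx10 h4
        · exact hne (sub_eq_zero.mp h3).symm
  rw [Finset.sum_congr rfl (fun x _ => hterm x), Finset.sum_add_distrib, ← Finset.sum_filter,
    ← Finset.sum_filter, Finset.sum_const, Finset.sum_const, card_filter10G, card_filter00G,
    nsmul_eq_mul, nsmul_eq_mul, ← mul_add, ← mul_assoc, inv_mul_cancel₀ cardBG_ne_zero, one_mul]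

lemma case2G (α β : MulChar F ℂ) (g : GL2)
    (h : ∀ (c : F) (v : Fin 2 → F), v ≠ 0 → (g : Matrix (Fin 2) (Fin 2) F).mulVec v ≠ c • v) :
    RG α β g = 0 := by
  unfold RG Cfsg.indFun
  have hterm : ∀ x : GL2, Cfsg.extendByZero (BG F) (theta α β) (x⁻¹ * g * x) = 0 := by
    intro x
    have hd := dt_ne x
    rw [ext_valG, if_neg]
    intro h0
    have e0 := conj_eqs x g 0 0
    have e1 := conj_eqs x g 1 0
    simp only [Matrix.mul_apply, Fin.sum_univ_two] at e0 e1
    rw [h0, mul_zero, add_zero] at e0 e1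
    generalize ((x⁻¹ * g * x : GL2) : Matrix (Fin 2) (Fin 2) F) 0 0 = y00 at e0 e1
    apply h y00
      ![(x : Matrix (Fin 2) (Fin 2) F) 0 0, (x : Matrix (Fin 2) (Fin 2) F) 1 0]
    · intro hv
      have h1 := congrFun hv 0
      have h2 := congrFun hv 1
      simp at h1 h2
      apply hd
      unfold dt
      rw [h1, h2]; ring
    · ext i
      fin_cases i
      · simp [Matrix.mulVec, dotProduct, Fin.sum_univ_two]
        linear_combination -e0
      · simp [Matrix.mulVec, dotProduct, Fin.sum_univ_two]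
        linear_combination -e1
  rw [Finset.sum_congr rfl (fun x _ => hterm x), Finset.sum_const_zero, mul_zero]

lemma RG_one (α β : MulChar F ℂ) : RG α β 1 = (Fintype.card F : ℂ) + 1 := by
  unfold RG Cfsg.indFun
  have hterm : ∀ x : GL2, Cfsg.extendByZero (BG F) (theta α β) (x⁻¹ * 1 * x) = 1 := by
    intro x
    rw [mul_one, inv_mul_cancel, ext_valG, if_pos (by simp)]
    simp
  rw [Finset.sum_congr rfl (fun x _ => hterm x), Finset.sum_const, Finset.card_univ, cardGL,
    nsmul_eq_mul, mul_one]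
  push_cast
  have := cardBG_ne_zero (F := F)
  field_simp

/-- an irreducible character of degree `q` vanishes on non-trivial unipotent elements -/
lemma vanishG {χ : GL2 → ℂ} (hχ : IsIrrCharacter GL2 χ) (hdeg : χ 1 = (Fintype.card F : ℂ))
    {a : F} (ha : a ≠ 0) : χ (gumat a) = 0 := by
  obtain ⟨d, ρ, hirr, rfl⟩ := hχ
  obtain ⟨p, hp⟩ := CharP.exists F
  haveI := hp
  haveI : Fact p.Prime := ⟨CharP.char_is_prime F p⟩
  obtain ⟨n, hpn, hcard⟩ := FiniteField.card F p
  have hfr : Module.finrank ℂ (Fin d → ℂ) = Fintype.card F := by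
    rw [Representation.char_one] at hdeg
    exact_mod_cast hdeg
  have hG : Nat.card GL2 = Fintype.card F *
      ((Fintype.card F + 1) * ((Fintype.card F - 1) * (Fintype.card F - 1))) := by
    rw [Nat.card_eq_fintype_card, cardGL, cardBG]; ring
  have hpq : p ∣ Fintype.card F := by
    rw [hcard]; exact dvd_pow_self p (PNat.ne_zero n)
  have hq1 : 1 ≤ Fintype.card F := Fintype.card_pos
  have hnd1 : ¬ p ∣ Fintype.card F + 1 := by
    intro h3
    have : p ∣ 1 := (Nat.dvd_add_right hpq).mp h3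
    exact hpn.one_lt.ne' (Nat.dvd_one.mp this)
  have hnd2 : ¬ p ∣ Fintype.card F - 1 := by
    intro h3
    have h4 : p ∣ Fintype.card F - (Fintype.card F - 1) := Nat.dvd_sub hpq h3
    have : Fintype.card F - (Fintype.card F - 1) = 1 := by omega
    rw [this] at h4
    exact hpn.one_lt.ne' (Nat.dvd_one.mp h4)
  apply defect_zero_vanish ρ hirr p (n : ℕ)
  · rw [hG, ← hcard]
    exact Dvd.intro _ rfl
  · rw [hG, pow_succ]
    intro hdvd
    rw [← hcard] at hdvd
    have h2 : p ∣ (Fintype.card F + 1) * ((Fintype.card F - 1) * (Fintype.card F - 1)) :=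
      Nat.dvd_of_mul_dvd_mul_left Fintype.card_pos hdvd
    rcases (Nat.Prime.dvd_mul hpn).mp h2 with h3 | h3
    · exact hnd1 h3
    · rcases (Nat.Prime.dvd_mul hpn).mp h3 with h4 | h4 <;> exact hnd2 h4
  · rw [hfr, hcard]
  · rw [orderOf_gumat p ha]

/-- the multiplicities of `χ` in the principal series sum to one -/
lemma sum_multG [Fintype (MulChar F ℂ)] {χ : GL2 → ℂ} (hχ : IsIrrCharacter GL2 χ)
    (hdeg : χ 1 = (Fintype.card F : ℂ)) :
    ∑ α : MulChar F ℂ, ∑ β : MulChar F ℂ, classInner (RG α β) χ = 1 := by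
  haveI : Fintype (BG F) := Fintype.ofFinite _
  have hcf : IsClassFunction GL2 χ := isClassFunction_of_isCharacter (irr_isCharacter hχ)
  have h1 : ∀ α β : MulChar F ℂ, classInner (RG α β) χ = (Nat.card (BG F) : ℂ)⁻¹ *
      ∑ w : Fˣ × Fˣ × F, α (w.1 : F) * β (w.2.1 : F) *
        conj (χ ((equivBG.symm w : BG F) : GL2)) := by
    intro α β
    show classInner (Cfsg.indFun (BG F) _) χ = _
    rw [frobenius_reciprocity (BG F) _ _ hcf]
    unfold classInner
    congr 1
    rw [← Equiv.sum_comp (equivBG (F := F)).symm]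
    apply Finset.sum_congr rfl
    rintro ⟨u, v, t⟩ _
    beta_reduce
    unfold theta
    rw [equivBG_symm_coe]
    simp
  simp_rw [h1]
  simp_rw [← Finset.mul_sum]
  have hswap : ∑ α : MulChar F ℂ, ∑ β : MulChar F ℂ, ∑ w : Fˣ × Fˣ × F,
      α (w.1 : F) * β (w.2.1 : F) * conj (χ ((equivBG.symm w : BG F) : GL2)) =
      ∑ w : Fˣ × Fˣ × F, (∑ α : MulChar F ℂ, α (w.1 : F)) * (∑ β : MulChar F ℂ, β (w.2.1 : F)) *
        conj (χ ((equivBG.symm w : BG F) : GL2)) := by
    have : ∀ α : MulChar F ℂ, ∑ β : MulChar F ℂ, ∑ w : Fˣ × Fˣ × F,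
        α (w.1 : F) * β (w.2.1 : F) * conj (χ ((equivBG.symm w : BG F) : GL2)) =
        ∑ w : Fˣ × Fˣ × F, ∑ β : MulChar F ℂ,
        α (w.1 : F) * β (w.2.1 : F) * conj (χ ((equivBG.symm w : BG F) : GL2)) :=
      fun α => Finset.sum_comm
    rw [Finset.sum_congr rfl (fun α _ => this α), Finset.sum_comm]
    apply Finset.sum_congr rfl
    intro w _
    rw [Finset.sum_mul_sum, Finset.sum_mul]
    apply Finset.sum_congr rfl
    intro α _
    rw [Finset.sum_mul]
  rw [hswap]
  simp_rw [Cfsg.Agent.S2321.sum_mulchar]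
  rw [Fintype.sum_prod_type, Finset.sum_eq_single (1 : Fˣ)]
  · rw [Fintype.sum_prod_type, Finset.sum_eq_single (1 : Fˣ)]
    · simp only [Units.val_one, if_true]
      have hval : ∀ t : F, χ ((equivBG.symm ((1 : Fˣ), (1 : Fˣ), t) : BG F) : GL2) =
          if t = 0 then (Fintype.card F : ℂ) else 0 := by
        intro t
        have he : ((equivBG.symm ((1 : Fˣ), (1 : Fˣ), t) : BG F) : GL2) = gumat t := by
          apply Units.ext
          rw [equivBG_symm_coe, gumat_coe]
          simp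
        rw [he]
        split_ifs with h
        · rw [h, gumat_zero, hdeg]
        · exact vanishG hχ hdeg h
      simp_rw [hval]
      rw [← Finset.mul_sum]
      have hs : ∑ t : F, conj (if t = 0 then (Fintype.card F : ℂ) else 0) = (Fintype.card F : ℂ) := by
        have : ∀ t : F, conj (if t = 0 then (Fintype.card F : ℂ) else 0) =
            if t = 0 then (Fintype.card F : ℂ) else 0 := by
          intro t; split_ifs <;> simp
        simp_rw [this]
        rw [Finset.sum_ite_eq' Finset.univ (0 : F)]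
        simp
      rw [hs, cardBG]
      have hq : 1 < Fintype.card F := Fintype.one_lt_card
      have hq0 : (Fintype.card F : ℂ) ≠ 0 := by
        have : Fintype.card F ≠ 0 := by omega
        exact_mod_cast this
      have hq1 : (Fintype.card F : ℂ) - 1 ≠ 0 := by
        intro h
        have h2 : (Fintype.card F : ℂ) = 1 := sub_eq_zero.mp h
        have : Fintype.card F = 1 := by exact_mod_cast h2
        omega
      push_cast [Nat.cast_sub (le_of_lt hq)]
      field_simp
    · intro v _ hv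
      have : (v : F) ≠ 1 := fun h => hv (Units.ext h)
      simp [this]
    · intro h; exact absurd (Finset.mem_univ _) h
  · intro u _ hu
    have : (u : F) ≠ 1 := fun h => hu (Units.ext h)
    simp [this]
  · intro h; exact absurd (Finset.mem_univ _) h

/-- `β ∘ det` as a monoid hom -/
noncomputable def detHom (β : MulChar F ℂ) : GL2 →* ℂ where
  toFun g := β ((g : Matrix (Fin 2) (Fin 2) F).det)
  map_one' := by simp
  map_mul' a b := by
    rw [Units.val_mul, Matrix.det_mul, map_mul]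

lemma detHom_apply (β : MulChar F ℂ) (g : GL2) :
    detHom β g = β ((g : Matrix (Fin 2) (Fin 2) F).det) := rfl

theorem steinbergG {χ : GL2 → ℂ} (hχ : IsIrrCharacter GL2 χ) (hdeg : χ 1 = (Fintype.card F : ℂ)) :
    ∃ β : MulChar F ℂ, ∀ g, χ g = RG β β g - β ((g : Matrix (Fin 2) (Fin 2) F).det) := by
  classical
  haveI : Fintype (MulChar F ℂ) := Fintype.ofFinite _
  have hsum := sum_multG hχ hdeg
  obtain ⟨α₀, β₀, hβ₀⟩ : ∃ α₀ β₀ : MulChar F ℂ, classInner (RG α₀ β₀) χ ≠ 0 := by
    by_contra hcon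
    have : ∀ α β : MulChar F ℂ, classInner (RG α β) χ = 0 :=
      fun α β => by_contra fun h => hcon ⟨α, β, h⟩
    rw [Finset.sum_eq_zero (fun α _ => Finset.sum_eq_zero (fun β _ => this α β))] at hsum
    exact zero_ne_one hsum
  have hq : 1 < Fintype.card F := Fintype.one_lt_card
  have hqne : (Fintype.card F : ℂ) ≠ 1 := by
    intro h
    have : Fintype.card F = 1 := by exact_mod_cast h
    omega
  have mem : ∀ (R a b ξ : GL2 → ℂ), IsIrrCharacter GL2 a → IsIrrCharacter GL2 b → R = a + b →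
      IsIrrCharacter GL2 ξ → classInner R ξ ≠ 0 → ξ = a ∨ ξ = b := by
    intro R a b ξ ha hb hR hξ hne
    rw [hR, Cfsg.Agent.S2307.classInner_add_left, irr_classInner ha hξ, irr_classInner hb hξ] at hne
    by_contra hcon
    rw [not_or] at hcon
    rw [if_neg (fun h => hcon.1 h.symm), if_neg (fun h => hcon.2 h.symm)] at hne
    simp at hne
  by_cases hab : α₀ = β₀
  · subst hab
    refine ⟨α₀, ?_⟩
    have hRchar : IsCharacter GL2 (RG α₀ α₀) := isCharacter_ind α₀ α₀
    have hnorm : classInner (RG α₀ α₀) (RG α₀ α₀) = 2 := by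
      have := inner_GL α₀ α₀ α₀ α₀
      rw [if_pos ⟨rfl, rfl⟩] at this
      rw [this]; norm_num
    obtain ⟨a, b, ha, hb, hab, hsumab⟩ := Cfsg.Agent.S2307.norm_two_char hRchar hnorm
    have hdetirr : IsIrrCharacter GL2 (fun g => detHom α₀ g) := by
      refine ⟨1, Cfsg.Agent.S2306.linRep (detHom α₀),
        irreducible_of_finrank_eq_one _ (by simp), ?_⟩
      funext g
      rw [Cfsg.Agent.S2306.linRep_character]
    have hR1 : classInner (RG α₀ α₀) (fun g => detHom α₀ g) = 1 := by
      haveI : Fintype (BG F) := Fintype.ofFinite _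
      show classInner (Cfsg.indFun (BG F) _) _ = _
      rw [frobenius_reciprocity (BG F) _ _
        (isClassFunction_of_isCharacter (irr_isCharacter hdetirr))]
      unfold classInner
      have : ∀ b : BG F, theta α₀ α₀ b * conj (detHom α₀ (b : GL2)) = 1 := by
        intro b
        have hb10 := (mem_BG b.1).mp b.2
        have hd := dt_ne b.1
        unfold dt at hd
        rw [hb10, mul_zero, sub_zero] at hd
        unfold theta
        rw [detHom_apply, Matrix.det_fin_two, hb10, mul_zero, sub_zero, ← map_mul, conj_mulchar,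
          ← MulChar.mul_apply, mul_inv_cancel, MulChar.one_apply (isUnit_iff_ne_zero.mpr hd)]
      rw [Finset.sum_congr rfl (fun b _ => this b), Finset.sum_const, Finset.card_univ,
        nsmul_eq_mul, mul_one, ← Nat.card_eq_fintype_card]
      exact inv_mul_cancel₀ cardBG_ne_zero
    have hχ1 : χ ≠ fun g => detHom α₀ g := by
      intro h
      have hd1 : χ 1 = 1 := by rw [h]; exact map_one _
      exact hqne (hdeg.symm.trans hd1)
    rcases mem _ a b χ ha hb hsumab hχ hβ₀ with h | h <;>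
      rcases mem _ a b _ ha hb hsumab hdetirr (by rw [hR1]; exact one_ne_zero) with h' | h'
    · exact absurd (h.trans h'.symm) hχ1
    · intro g
      have := congrFun hsumab g
      rw [Pi.add_apply, ← h, ← h'] at this
      rw [this]
      simp only [detHom_apply]
      ring
    · intro g
      have := congrFun hsumab g
      rw [Pi.add_apply, ← h, ← h'] at this
      rw [this]
      simp only [detHom_apply]
      ring
    · exact absurd (h.trans h'.symm) hχ1
  · exfalso
    have hirr : IsIrrCharacter GL2 (RG α₀ β₀) := Cfsg.Agent.S2304.result α₀ β₀ hab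
    rw [irr_classInner hirr hχ] at hβ₀
    have heq : RG α₀ β₀ = χ := by
      by_contra h
      rw [if_neg h] at hβ₀
      exact hβ₀ rfl
    have h4 := RG_one α₀ β₀
    rw [heq, hdeg] at h4
    simp at h4

lemma norm_mulchar (β : MulChar F ℂ) {a : F} (ha : a ≠ 0) : ‖β a‖ = 1 := by
  have h1 : β a ^ (Fintype.card F - 1) = 1 := by
    rw [← map_pow, FiniteField.pow_card_sub_one_eq_one a ha, map_one]
  have h2 : ‖β a‖ ^ (Fintype.card F - 1) = 1 := by
    rw [← norm_pow, h1, norm_one]
  have hq : 1 < Fintype.card F := Fintype.one_lt_card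
  exact (pow_eq_one_iff_of_nonneg (norm_nonneg _) (by omega)).mp h2

end fin

end Cfsg.Agent.S2320


namespace Cfsg.Agent.S2320

open Matrix Cfsg.Agent.S2304

theorem result {F : Type*} [Field F] [Fintype F] (χ : Matrix.GeneralLinearGroup (Fin 2) F → ℂ) (hχ : Cfsg.IsIrrCharacter (Matrix.GeneralLinearGroup (Fin 2) F) χ) (hdeg : χ 1 = (Fintype.card F : ℂ)) (g : Matrix.GeneralLinearGroup (Fin 2) F) :
    ((g : Matrix (Fin 2) (Fin 2) F) 0 1 = 0 → (g : Matrix (Fin 2) (Fin 2) F) 1 0 = 0 → (g : Matrix (Fin 2) (Fin 2) F) 0 0 ≠ (g : Matrix (Fin 2) (Fin 2) F) 1 1 → ‖χ g‖ = 1) ∧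
    ((∀ (c : F) (v : Fin 2 → F), v ≠ 0 → (g : Matrix (Fin 2) (Fin 2) F).mulVec v ≠ c • v) → ‖χ g‖ = 1) := by
  classical
  obtain ⟨β, hβ⟩ := steinbergG hχ hdeg
  have hdet : (g : Matrix (Fin 2) (Fin 2) F).det ≠ 0 := Matrix.GeneralLinearGroup.det_ne_zero g
  refine ⟨?_, ?_⟩
  · intro h01 h10 hne
    rw [hβ g, case1G β β g h01 h10 hne]
    rw [Matrix.det_fin_two, h01, zero_mul, sub_zero] at hdet ⊢
    rw [map_mul]
    have h0 : (g : Matrix (Fin 2) (Fin 2) F) 0 0 ≠ 0 := left_ne_zero_of_mul hdet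
    have h1 : (g : Matrix (Fin 2) (Fin 2) F) 1 1 ≠ 0 := right_ne_zero_of_mul hdet
    have : β ((g : Matrix (Fin 2) (Fin 2) F) 0 0) * β ((g : Matrix (Fin 2) (Fin 2) F) 1 1) +
        β ((g : Matrix (Fin 2) (Fin 2) F) 1 1) * β ((g : Matrix (Fin 2) (Fin 2) F) 0 0) -
        β ((g : Matrix (Fin 2) (Fin 2) F) 0 0) * β ((g : Matrix (Fin 2) (Fin 2) F) 1 1) =
        β ((g : Matrix (Fin 2) (Fin 2) F) 0 0) * β ((g : Matrix (Fin 2) (Fin 2) F) 1 1) := by ring
    rw [this, norm_mul, norm_mulchar β h0, norm_mulchar β h1, mul_one]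
  · intro hell
    rw [hβ g, case2G β β g hell, zero_sub, norm_neg, norm_mulchar β hdet]

end Cfsg.Agent.S2320
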