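import Mathlib
import Cfsg.Statements.S2310
import Cfsg.Agent.S2320
import Cfsg.Agent.Lib.Helper8.CharSchur

set_option autoImplicit false

open Cfsg

namespace Cfsg.Agent.S2310

open Matrix ComplexConjugate Cfsg.Agent.S2304 Cfsg.Agent.S2320 Cfsg.Agent.Lib.Helper8

/-- multiplication by a central element preserves absolute values of an irreducible character -/
lemma central_norm {G : Type*} [Group G] [Finite G] {χ : G → ℂ} (hχ : IsIrrCharacter G χ) {z : G}
    (hz : z ∈ Subgroup.center G) (g : G) : Complex.normSq (χ (z * g)) = Complex.normSq (χ g) := by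
  obtain ⟨n, ρ, hρ, rfl⟩ := hχ
  obtain ⟨c, hc⟩ := central_scalar hρ hz
  have hnt : Nontrivial (Fin n → ℂ) := irreducible_nontrivial hρ
  have hρz : ρ z = c • (LinearMap.id : (Fin n → ℂ) →ₗ[ℂ] (Fin n → ℂ)) :=
    LinearMap.ext fun v => by rw [hc v]; rfl
  have hmul : ρ.character (z * g) = c * ρ.character g := by
    show LinearMap.trace ℂ _ (ρ (z * g)) = c * LinearMap.trace ℂ _ (ρ g)
    rw [map_mul, hρz, smul_mul_assoc, map_smul, smul_eq_mul]
    rfl
  have hpow : c ^ orderOf z = 1 := by
    have h1 : ρ (z ^ orderOf z) = 1 := by rw [pow_orderOf_eq_one, map_one]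
    rw [map_pow, hρz, smul_pow] at h1
    obtain ⟨v, hv⟩ := exists_ne (0 : Fin n → ℂ)
    have h2 := LinearMap.congr_fun h1 v
    have h3 : (LinearMap.id : (Fin n → ℂ) →ₗ[ℂ] (Fin n → ℂ)) ^ orderOf z = 1 := one_pow _
    rw [h3] at h2
    have h4 : c ^ orderOf z • v = v := h2
    have h5 : (c ^ orderOf z - 1) • v = 0 := by rw [sub_smul, h4, one_smul, sub_self]
    rcases smul_eq_zero.mp h5 with h6 | h6
    · exact sub_eq_zero.mp h6
    · exact absurd h6 hv
  have hnc : Complex.normSq c = 1 := by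
    have h1 : Complex.normSq c ^ orderOf z = 1 := by
      rw [← map_pow, hpow, map_one]
    exact (pow_eq_one_iff_of_nonneg (Complex.normSq_nonneg c) (orderOf_pos z).ne').mp h1
  rw [hmul, map_mul, hnc, one_mul]

/-- the squared absolute values of an irreducible character sum to the group order -/
lemma sum_normSq {G : Type*} [Group G] [Fintype G] {χ : G → ℂ} (hχ : IsIrrCharacter G χ) :
    ∑ g : G, Complex.normSq (χ g) = (Nat.card G : ℝ) := by
  have h := irr_classInner hχ hχ
  rw [if_pos rfl] at h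
  unfold classInner at h
  have h1 : ∀ g, χ g * conj (χ g) = ((Complex.normSq (χ g) : ℝ) : ℂ) := fun g => Complex.mul_conj _
  simp_rw [h1] at h
  rw [← Complex.ofReal_sum] at h
  have hG : (Nat.card G : ℂ) ≠ 0 := Nat.cast_ne_zero.mpr Nat.card_pos.ne'
  have h2 : ((∑ g : G, Complex.normSq (χ g) : ℝ) : ℂ) = (Nat.card G : ℂ) := by
    field_simp at h
    exact h
  exact_mod_cast h2

lemma sum_le {G : Type*} [Group G] [Fintype G] {χ : G → ℂ} (hχ : IsIrrCharacter G χ)
    {ι : Type*} [Fintype ι] (f : ι → G) (hf : Function.Injective f) :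
    ∑ i : ι, Complex.normSq (χ (f i)) ≤ (Nat.card G : ℝ) := by
  classical
  rw [← sum_normSq hχ, ← Finset.sum_image (s := Finset.univ) (g := f)
    (f := fun g => Complex.normSq (χ g)) (fun a _ b _ h => hf h)]
  exact Finset.sum_le_sum_of_subset_of_nonneg (Finset.subset_univ _)
    (fun g _ _ => Complex.normSq_nonneg _)

variable {F : Type*} [Field F]

local notation "GL2" => GeneralLinearGroup (Fin 2) F
local notation "SL2" => SpecialLinearGroup (Fin 2) F

/-- diagonal elements `diag(a, 1)` -/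
noncomputable def dmat (a : Fˣ) : GL2 :=
  Matrix.GeneralLinearGroup.mkOfDetNeZero !![(a : F), 0; 0, 1] (by simp [Matrix.det_fin_two])

lemma dmat_conj (a : Fˣ) (t : F) : dmat a * gumat t * (dmat a)⁻¹ = gumat ((a : F) * t) := by
  apply mul_inv_eq_of_eq_mul
  apply Units.ext
  rw [Units.val_mul, Units.val_mul, gumat_coe, gumat_coe]
  show !![(a : F), 0; 0, 1] * !![1, t; 0, 1] = !![1, (a : F) * t; 0, 1] * !![(a : F), 0; 0, 1]
  ext i j
  fin_cases i <;> fin_cases j <;> simp [Matrix.mul_apply, Fin.sum_univ_two]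

lemma unip_const {χ : GL2 → ℂ} (hχ : IsClassFunction GL2 χ) {t : F} (ht : t ≠ 0) :
    χ (gumat t) = χ (gumat 1) := by
  have := hχ (gumat 1) (dmat (Units.mk0 t ht))
  rw [dmat_conj, Units.val_mk0, mul_one] at this
  exact this

/-- scalar matrices -/
noncomputable def scal (a : Fˣ) : GL2 :=
  Matrix.GeneralLinearGroup.mkOfDetNeZero !![(a : F), 0; 0, (a : F)] (by simp [Matrix.det_fin_two])

lemma scal_central (a : Fˣ) : scal a ∈ Subgroup.center GL2 := by
  rw [Subgroup.mem_center_iff]
  intro g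
  apply Units.ext
  rw [Units.val_mul, Units.val_mul]
  show (g : Matrix (Fin 2) (Fin 2) F) * !![(a : F), 0; 0, (a : F)] =
    !![(a : F), 0; 0, (a : F)] * (g : Matrix (Fin 2) (Fin 2) F)
  ext i j
  fin_cases i <;> fin_cases j <;> simp [Matrix.mul_apply, Fin.sum_univ_two, mul_comm]

lemma scal_gumat_coe (a : Fˣ) (t : F) :
    ((scal a * gumat t : GL2) : Matrix (Fin 2) (Fin 2) F) = !![(a : F), (a : F) * t; 0, (a : F)] := by
  rw [Units.val_mul, gumat_coe]
  show !![(a : F), 0; 0, (a : F)] * !![1, t; 0, 1] = _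
  ext i j
  fin_cases i <;> fin_cases j <;> simp [Matrix.mul_apply, Fin.sum_univ_two]

/-- the lower unitriangular element -/
noncomputable def lG : GL2 :=
  Matrix.GeneralLinearGroup.mkOfDetNeZero !![1, 0; 1, 1] (by simp [Matrix.det_fin_two])

lemma lG_eq : (lG : GL2) = wG * gumat (-1) * wG⁻¹ := by
  apply eq_mul_inv_of_mul_eq
  apply Units.ext
  rw [Units.val_mul, Units.val_mul, gumat_coe]
  show !![1, 0; 1, 1] * !![0, -1; 1, 0] = !![0, -1; 1, 0] * !![1, -1; 0, 1]
  ext i j
  fin_cases i <;> fin_cases j <;> simp [Matrix.mul_apply, Fin.sum_univ_two]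

lemma toGL_umat (a : F) : Matrix.SpecialLinearGroup.toGL (Cfsg.Agent.S2307.umat a) = gumat a := by
  apply Units.ext
  rfl


section fin

variable [Fintype F] [DecidableEq F]

open Cfsg.Agent.S2307 in
/-- multiplicity of the trivial character of the unipotent subgroup -/
lemma int_lemma0 {χ : SL2 → ℂ} (hχ : IsCharacter SL2 χ) (s : ℂ)
    (hs : ∀ a : F, a ≠ 0 → χ (umat a) = s) :
    ∃ n : ℕ, χ 1 + ((Fintype.card F : ℂ) - 1) * s = (Fintype.card F : ℂ) * n := by
  haveI : Fintype (Usub F) := Fintype.ofFinite _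
  obtain ⟨k, hk⟩ := classInner_character_nat (isCharacter_restrict (Usub F) hχ)
    (Cfsg.Agent.S2306.isCharacter_of_monoidHom (1 : Usub F →* ℂ))
  refine ⟨k, ?_⟩
  unfold classInner at hk
  rw [Nat.card_congr (equivU (F := F)), Nat.card_eq_fintype_card,
    ← Equiv.sum_comp (equivU (F := F)).symm] at hk
  have hterm : ∀ a : F, χ ((equivU.symm a : Usub F) : SL2) *
      conj ((1 : Usub F →* ℂ) (equivU.symm a)) = if a = 0 then χ 1 else s := by
    intro a
    show χ (umat a) * conj (1 : ℂ) = _
    split_ifs with h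
    · rw [h, umat_zero]; simp
    · rw [hs a h]; simp
  rw [Finset.sum_congr rfl (fun a _ => hterm a)] at hk
  have hsum : ∑ a : F, (if a = 0 then χ 1 else s) = χ 1 + ((Fintype.card F : ℂ) - 1) * s := by
    have h1 : ∀ a : F, (if a = 0 then χ 1 else s) = s + (if a = 0 then χ 1 - s else 0) := by
      intro a
      split_ifs with h <;> ring
    rw [Finset.sum_congr rfl (fun a _ => h1 a), Finset.sum_add_distrib, Finset.sum_const,
      Finset.card_univ, Finset.sum_ite_eq' Finset.univ (0 : F), nsmul_eq_mul]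
    simp
    ring
  rw [hsum] at hk
  have hq : (Fintype.card F : ℂ) ≠ 0 := by
    have : Fintype.card F ≠ 0 := Fintype.card_ne_zero
    exact_mod_cast this
  rw [← hk]
  field_simp

/-- the restriction of a character of `GL₂` to the unipotent subgroup -/
lemma nk_lemma {χ : GL2 → ℂ} (hχ : IsCharacter GL2 χ) :
    ∃ n k : ℕ, χ 1 = (n : ℂ) + ((Fintype.card F : ℂ) - 1) * k ∧ χ (gumat 1) = (n : ℂ) - k := by
  have hcf := isClassFunction_of_isCharacter hχ
  have hχ' : IsCharacter SL2 (χ ∘ (Matrix.SpecialLinearGroup.toGL : SL2 →* GL2)) :=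
    isCharacter_comp _ hχ
  have hs : ∀ a : F, a ≠ 0 →
      (χ ∘ (Matrix.SpecialLinearGroup.toGL : SL2 →* GL2)) (Cfsg.Agent.S2307.umat a) =
        χ (gumat 1) := by
    intro a ha
    rw [Function.comp_apply, toGL_umat]
    exact unip_const hcf ha
  obtain ⟨ψ, hψ⟩ := (AddChar.exists_apply_ne_zero (α := F) (a := 1)).mpr one_ne_zero
  have hψ1 : ψ ≠ 1 := by
    intro h
    apply hψ
    rw [h]; rfl
  obtain ⟨k, hk⟩ := Cfsg.Agent.S2307.int_lemma ψ hψ1 hχ' _ hs
  obtain ⟨n, hn⟩ := int_lemma0 hχ' _ hs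
  rw [Function.comp_apply, map_one] at hk hn
  have hq : (Fintype.card F : ℂ) ≠ 0 := by
    have : Fintype.card F ≠ 0 := Fintype.card_ne_zero
    exact_mod_cast this
  refine ⟨n, k, ?_, ?_⟩
  · apply mul_left_cancel₀ hq
    linear_combination hn + ((Fintype.card F : ℂ) - 1) * hk
  · apply mul_left_cancel₀ hq
    linear_combination hn - hk

/-- an irreducible character trivial on the unipotent elements has small degree -/
lemma ker_bound {χ : GL2 → ℂ} (hχ : IsIrrCharacter GL2 χ) (h : ∀ a : F, χ (gumat a) = χ 1) :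
    Complex.normSq (χ 1) * (Fintype.card SL2 : ℝ) ≤ (Nat.card GL2 : ℝ) := by
  have hconst : ∀ s : SL2, χ (Matrix.SpecialLinearGroup.toGL s) = χ 1 := by
    obtain ⟨n, ρ, hirr, rfl⟩ := hχ
    have hK : (MonoidHom.ker (ρ : GL2 →* (Module.End ℂ (Fin n → ℂ)))).comap
        (Matrix.SpecialLinearGroup.toGL : SL2 →* GL2) = ⊤ := by
      apply Cfsg.Agent.S2307.normal_eq_top
      intro a
      rw [Subgroup.mem_comap, MonoidHom.mem_ker, toGL_umat]
      have := (character_eq_degree_iff ρ (gumat a)).mp (by rw [h a, Representation.char_one])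
      exact this
    intro s
    have hs : s ∈ (MonoidHom.ker (ρ : GL2 →* (Module.End ℂ (Fin n → ℂ)))).comap
        (Matrix.SpecialLinearGroup.toGL : SL2 →* GL2) := by rw [hK]; trivial
    rw [Subgroup.mem_comap, MonoidHom.mem_ker] at hs
    unfold Representation.character
    rw [hs, map_one ρ]
  have hinj : Function.Injective (Matrix.SpecialLinearGroup.toGL : SL2 → GL2) := by
    intro a b hab
    apply Subtype.ext
    have := congrArg (fun z : GL2 => (z : Matrix (Fin 2) (Fin 2) F)) hab
    exact this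
  have := sum_le hχ (Matrix.SpecialLinearGroup.toGL : SL2 → GL2) hinj
  simp_rw [hconst] at this
  rw [Finset.sum_const, Finset.card_univ, nsmul_eq_mul] at this
  linarith

/-- the norm inequality on scalar multiples of unipotent elements -/
lemma zu_bound {χ : GL2 → ℂ} (hχ : IsIrrCharacter GL2 χ) :
    ((Fintype.card F : ℝ) - 1) * (Complex.normSq (χ 1) +
      ((Fintype.card F : ℝ) - 1) * Complex.normSq (χ (gumat 1))) +
      Complex.normSq (χ (gumat 1)) ≤ (Nat.card GL2 : ℝ) := by
  have hcf := isClassFunction_of_isCharacter (irr_isCharacter hχ)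
  let f : Option (Fˣ × F) → GL2 := fun o =>
    match o with
    | none => lG
    | some (a, t) => scal a * gumat t
  have hf : Function.Injective f := by
    intro o₁ o₂ h
    rcases o₁ with _ | ⟨a, t⟩ <;> rcases o₂ with _ | ⟨b, r⟩
    · rfl
    · exfalso
      have := congrArg (fun z : GL2 => (z : Matrix (Fin 2) (Fin 2) F) 1 0) h
      simp only [f, scal_gumat_coe] at this
      have h2 : (lG : GL2).1 1 0 = (1 : F) := by
        show (!![1, 0; 1, 1] : Matrix (Fin 2) (Fin 2) F) 1 0 = 1
        simp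
      rw [h2] at this
      simp at this
    · exfalso
      have := congrArg (fun z : GL2 => (z : Matrix (Fin 2) (Fin 2) F) 1 0) h
      simp only [f, scal_gumat_coe] at this
      have h2 : (lG : GL2).1 1 0 = (1 : F) := by
        show (!![1, 0; 1, 1] : Matrix (Fin 2) (Fin 2) F) 1 0 = 1
        simp
      rw [h2] at this
      simp at this
    · have h00 := congrArg (fun z : GL2 => (z : Matrix (Fin 2) (Fin 2) F) 0 0) h
      have h01 := congrArg (fun z : GL2 => (z : Matrix (Fin 2) (Fin 2) F) 0 1) h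
      simp only [f, scal_gumat_coe] at h00 h01
      have h00' : (a : F) = (b : F) := by simpa using h00
      have h01' : (a : F) * t = (b : F) * r := by simpa using h01
      have hab : a = b := Units.ext h00'
      subst hab
      have htr : t = r := mul_left_cancel₀ a.ne_zero h01'
      rw [htr]
  have hle := sum_le hχ f hf
  rw [Fintype.sum_option, Fintype.sum_prod_type] at hle
  have h1 : χ (f none) = χ (gumat 1) := by
    show χ lG = _
    rw [lG_eq, hcf]
    exact unip_const hcf (neg_ne_zero.mpr one_ne_zero)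
  have h2 : ∀ (a : Fˣ) (t : F), Complex.normSq (χ (f (some (a, t)))) =
      if t = 0 then Complex.normSq (χ 1) else Complex.normSq (χ (gumat 1)) := by
    intro a t
    show Complex.normSq (χ (scal a * gumat t)) = _
    rw [central_norm hχ (scal_central a)]
    split_ifs with h
    · rw [h, gumat_zero]
    · rw [unip_const hcf h]
  simp_rw [h2] at hle
  rw [h1] at hle
  have h3 : ∑ t : F, (if t = 0 then Complex.normSq (χ 1) else Complex.normSq (χ (gumat 1))) =
      Complex.normSq (χ 1) + ((Fintype.card F : ℝ) - 1) * Complex.normSq (χ (gumat 1)) := by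
    have h4 : ∀ t : F, (if t = 0 then Complex.normSq (χ 1) else Complex.normSq (χ (gumat 1))) =
        Complex.normSq (χ (gumat 1)) +
          (if t = 0 then Complex.normSq (χ 1) - Complex.normSq (χ (gumat 1)) else 0) := by
      intro t
      split_ifs with h <;> ring
    rw [Finset.sum_congr rfl (fun t _ => h4 t), Finset.sum_add_distrib, Finset.sum_const,
      Finset.card_univ, Finset.sum_ite_eq' Finset.univ (0 : F), nsmul_eq_mul]
    simp
    ring
  rw [h3, Finset.sum_const, Finset.card_univ, Fintype.card_units, nsmul_eq_mul,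
    Nat.cast_sub Fintype.card_pos] at hle
  simp only [Nat.cast_one] at hle
  linarith

open Cfsg.Agent.S2433 in
lemma card_SL2_GL2 :
    Fintype.card SL2 = (Fintype.card F + 1) * (Fintype.card F * (Fintype.card F - 1)) ∧
    Nat.card GL2 = (Fintype.card F + 1) *
      ((Fintype.card F - 1) * ((Fintype.card F - 1) * Fintype.card F)) := by
  constructor
  · rw [cardSL, cardB]
  · rw [Nat.card_eq_fintype_card, cardGL, cardBG]

/-- values at the transvection, by degree -/
theorem nk_class (hq : 3 ≤ Fintype.card F) {χ : GL2 → ℂ} (hχ : IsIrrCharacter GL2 χ) :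
    (χ 1 = 1 → χ (gumat 1) = 1) ∧ (χ 1 = (Fintype.card F : ℂ) + 1 → χ (gumat 1) = 1) ∧
    (χ 1 = (Fintype.card F : ℂ) - 1 → χ (gumat 1) = -1) ∧
    (χ 1 = (Fintype.card F : ℂ) → χ (gumat 1) = 0) := by
  obtain ⟨n, k, h1, hs⟩ := nk_lemma (irr_isCharacter hχ)
  have hcf := isClassFunction_of_isCharacter (irr_isCharacter hχ)
  obtain ⟨Q, hQ⟩ : ∃ Q, Fintype.card F = Q + 3 := ⟨Fintype.card F - 3, by omega⟩
  obtain ⟨hSL, hGL⟩ := card_SL2_GL2 (F := F)
  have h1' : χ 1 = ((n + (Q + 2) * k : ℕ) : ℂ) := by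
    rw [h1, hQ]; push_cast; ring
  have hnat : ∀ D : ℕ, χ 1 = (D : ℂ) → n + (Q + 2) * k = D := by
    intro D hD
    rw [h1'] at hD
    exact_mod_cast hD
  -- bound B
  have hB : k = 0 → n * n ≤ Q + 2 := by
    intro hk
    have hall : ∀ a : F, χ (gumat a) = χ 1 := by
      intro a
      by_cases ha : a = 0
      · rw [ha, gumat_zero]
      · rw [unip_const hcf ha, hs, h1, hk]; simp
    have hb := ker_bound hχ hall
    rw [hSL, hGL, h1', hQ, hk] at hb
    simp only [mul_zero, add_zero, Complex.normSq_natCast] at hb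
    have hb' : n * n * ((Q + 3 + 1) * ((Q + 3) * (Q + 3 - 1))) ≤
        (Q + 3 + 1) * ((Q + 3 - 1) * ((Q + 3 - 1) * (Q + 3))) := by exact_mod_cast hb
    have e1 : Q + 3 - 1 = Q + 2 := by omega
    rw [e1] at hb'
    have hpos : 0 < (Q + 3 + 1) * ((Q + 3) * (Q + 2)) := by positivity
    have : n * n * ((Q + 3 + 1) * ((Q + 3) * (Q + 2))) ≤ (Q + 2) * ((Q + 3 + 1) * ((Q + 3) * (Q + 2))) := by
      calc n * n * ((Q + 3 + 1) * ((Q + 3) * (Q + 2))) ≤
          (Q + 3 + 1) * ((Q + 2) * ((Q + 2) * (Q + 3))) := hb'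
        _ = (Q + 2) * ((Q + 3 + 1) * ((Q + 3) * (Q + 2))) := by ring
    exact Nat.le_of_mul_le_mul_right this hpos
  -- bound C
  have hC : ((Q : ℝ) + 2) * (((n : ℝ) + (Q + 2) * k) ^ 2 + ((Q : ℝ) + 2) * ((n : ℝ) - k) ^ 2) +
      ((n : ℝ) - k) ^ 2 ≤ ((Q : ℝ) + 4) * ((Q + 2) * ((Q + 2) * (Q + 3))) := by
    have hc := zu_bound hχ
    rw [hGL, hs, h1', hQ] at hc
    have e1 : Q + 3 - 1 = Q + 2 := by omega
    rw [e1] at hc
    have e2 : Complex.normSq ((n : ℂ) - k) = ((n : ℝ) - k) ^ 2 := by
      have : ((n : ℂ) - k) = (((n : ℝ) - k : ℝ) : ℂ) := by push_cast; ring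
      rw [this, Complex.normSq_ofReal]; ring
    rw [e2, Complex.normSq_natCast] at hc
    push_cast at hc
    nlinarith [hc]
  have hmul : ∀ j : ℕ, j ≤ k → (Q + 2) * j ≤ (Q + 2) * k := fun j hj => Nat.mul_le_mul_left _ hj
  refine ⟨?_, ?_, ?_, ?_⟩
  · intro hd
    have h := hnat 1 (by rw [hd]; simp)
    rcases Nat.eq_zero_or_pos k with hk | hk
    · rw [hk] at h
      rw [hs, hk]
      have : n = 1 := by omega
      rw [this]; simp
    · have := hmul 1 hk
      omega
  · intro hd
    have h := hnat (Q + 3 + 1) (by rw [hd, hQ]; push_cast; ring)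
    rcases Nat.eq_zero_or_pos k with hk | hk
    · exfalso
      have hb := hB hk
      rw [hk] at h
      have : n = Q + 4 := by omega
      rw [this] at hb
      nlinarith
    · rcases Nat.eq_or_lt_of_le hk with hk1 | hk2
      · rw [← hk1] at h
        rw [hs, ← hk1]
        have : n = 2 := by omega
        rw [this]; norm_num
      · rcases Nat.eq_or_lt_of_le hk2 with hk2' | hk3
        · exfalso
          rw [← hk2'] at h
          have hQ0 : Q = 0 := by omega
          have hn0 : n = 0 := by omega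
          rw [hQ0, hn0, ← hk2'] at hC
          norm_num at hC
        · have := hmul 3 hk3
          omega
  · intro hd
    have h := hnat (Q + 2) (by rw [hd, hQ]; push_cast; ring)
    rcases Nat.eq_zero_or_pos k with hk | hk
    · exfalso
      have hb := hB hk
      rw [hk] at h
      have : n = Q + 2 := by omega
      rw [this] at hb
      nlinarith
    · rcases Nat.eq_or_lt_of_le hk with hk1 | hk2
      · rw [← hk1] at h
        rw [hs, ← hk1]
        have : n = 0 := by omega
        rw [this]; norm_num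
      · have := hmul 2 hk2
        omega
  · intro hd
    have h := hnat (Q + 3) (by rw [hd, hQ])
    rcases Nat.eq_zero_or_pos k with hk | hk
    · exfalso
      have hb := hB hk
      rw [hk] at h
      have : n = Q + 3 := by omega
      rw [this] at hb
      nlinarith
    · rcases Nat.eq_or_lt_of_le hk with hk1 | hk2
      · rw [← hk1] at h
        rw [hs, ← hk1]
        have : n = 1 := by omega
        rw [this]; norm_num
      · have := hmul 2 hk2
        omega

end fin

end Cfsg.Agent.S2310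


namespace Cfsg.Agent.S2310

open Matrix Cfsg.Agent.S2320

theorem result {F : Type*} [Field F] [Fintype F] (hq : 3 ≤ Fintype.card F) (χ : Matrix.GeneralLinearGroup (Fin 2) F → ℂ) (hχ : Cfsg.IsIrrCharacter (Matrix.GeneralLinearGroup (Fin 2) F) χ)
    (u : Matrix.GeneralLinearGroup (Fin 2) F) (hu : (u : Matrix (Fin 2) (Fin 2) F) = !![1, 1; 0, 1]) :
    (χ 1 = 1 → χ u = 1) ∧ (χ 1 = (Fintype.card F : ℂ) + 1 → χ u = 1) ∧
    (χ 1 = (Fintype.card F : ℂ) - 1 → χ u = -1) ∧ (χ 1 = (Fintype.card F : ℂ) → χ u = 0) := by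
  classical
  have hu' : u = gumat 1 := by
    apply Units.ext
    rw [hu, gumat_coe]
  rw [hu']
  exact nk_class hq hχ

end Cfsg.Agent.S2310
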