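import Mathlib
import Cfsg.Statements.S2309
import Cfsg.Agent.S2310

set_option autoImplicit false

open Cfsg

namespace Cfsg.Agent.S2309

open Matrix ComplexConjugate Cfsg.Agent.S2304 Cfsg.Agent.S2320 Cfsg.Agent.S2310
  Cfsg.Agent.Lib.Helper8

variable {F : Type*} [Field F]

local notation "GL2" => GeneralLinearGroup (Fin 2) F

section fin

variable [Fintype F] [DecidableEq F]

/-- weighted sum of the multiplicities of `χ` in the principal series -/
lemma sum_multG_ad [Fintype (MulChar F ℂ)] {χ : GL2 → ℂ} (hχ : IsIrrCharacter GL2 χ) (a d : Fˣ) :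
    ∑ α : MulChar F ℂ, ∑ β : MulChar F ℂ,
      α ((a⁻¹ : Fˣ) : F) * β ((d⁻¹ : Fˣ) : F) * classInner (RG α β) χ =
    (Fintype.card F : ℂ)⁻¹ * conj (∑ t : F, χ ((equivBG.symm (a, d, t) : BG F) : GL2)) := by
  haveI : Fintype (BG F) := Fintype.ofFinite _
  have hcf : IsClassFunction GL2 χ := isClassFunction_of_isCharacter (irr_isCharacter hχ)
  have h1 : ∀ α β : MulChar F ℂ, α ((a⁻¹ : Fˣ) : F) * β ((d⁻¹ : Fˣ) : F) * classInner (RG α β) χ =
      (Nat.card (BG F) : ℂ)⁻¹ *
      ∑ w : Fˣ × Fˣ × F, α (((a⁻¹ : Fˣ) : F) * (w.1 : F)) * β (((d⁻¹ : Fˣ) : F) * (w.2.1 : F)) *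
        conj (χ ((equivBG.symm w : BG F) : GL2)) := by
    intro α β
    have h0 : classInner (RG α β) χ = (Nat.card (BG F) : ℂ)⁻¹ *
        ∑ w : Fˣ × Fˣ × F, α (w.1 : F) * β (w.2.1 : F) *
          conj (χ ((equivBG.symm w : BG F) : GL2)) := by
      show classInner (Cfsg.indFun (BG F) _) χ = _
      rw [frobenius_reciprocity (BG F) _ _ hcf]
      unfold classInner
      congr 1
      rw [← Equiv.sum_comp (equivBG (F := F)).symm]
      apply Finset.sum_congr rfl
      rintro ⟨u, v, t⟩ _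
      beta_reduce
      unfold theta
      rw [equivBG_symm_coe]
      simp
    rw [h0, mul_left_comm, Finset.mul_sum]
    congr 1
    apply Finset.sum_congr rfl
    intro w _
    rw [map_mul, map_mul]
    ring
  simp_rw [h1]
  simp_rw [← Finset.mul_sum]
  have hswap : ∑ α : MulChar F ℂ, ∑ β : MulChar F ℂ, ∑ w : Fˣ × Fˣ × F,
      α (((a⁻¹ : Fˣ) : F) * (w.1 : F)) * β (((d⁻¹ : Fˣ) : F) * (w.2.1 : F)) *
        conj (χ ((equivBG.symm w : BG F) : GL2)) =
      ∑ w : Fˣ × Fˣ × F, (∑ α : MulChar F ℂ, α (((a⁻¹ : Fˣ) : F) * (w.1 : F))) *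
        (∑ β : MulChar F ℂ, β (((d⁻¹ : Fˣ) : F) * (w.2.1 : F))) *
        conj (χ ((equivBG.symm w : BG F) : GL2)) := by
    have : ∀ α : MulChar F ℂ, ∑ β : MulChar F ℂ, ∑ w : Fˣ × Fˣ × F,
        α (((a⁻¹ : Fˣ) : F) * (w.1 : F)) * β (((d⁻¹ : Fˣ) : F) * (w.2.1 : F)) *
          conj (χ ((equivBG.symm w : BG F) : GL2)) =
        ∑ w : Fˣ × Fˣ × F, ∑ β : MulChar F ℂ,
        α (((a⁻¹ : Fˣ) : F) * (w.1 : F)) * β (((d⁻¹ : Fˣ) : F) * (w.2.1 : F)) *
          conj (χ ((equivBG.symm w : BG F) : GL2)) :=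
      fun α => Finset.sum_comm
    rw [Finset.sum_congr rfl (fun α _ => this α), Finset.sum_comm]
    apply Finset.sum_congr rfl
    intro w _
    rw [Finset.sum_mul_sum, Finset.sum_mul]
    apply Finset.sum_congr rfl
    intro α _
    rw [Finset.sum_mul]
  rw [hswap]
  simp_rw [Cfsg.Agent.S2321.sum_mulchar]
  have hu : ∀ u : Fˣ, (((a⁻¹ : Fˣ) : F) * (u : F) = 1) ↔ u = a := by
    intro u
    rw [← Units.val_mul, Units.val_eq_one, inv_mul_eq_one, eq_comm]
  have hv : ∀ v : Fˣ, (((d⁻¹ : Fˣ) : F) * (v : F) = 1) ↔ v = d := by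
    intro v
    rw [← Units.val_mul, Units.val_eq_one, inv_mul_eq_one, eq_comm]
  simp_rw [hu, hv]
  rw [Fintype.sum_prod_type, Finset.sum_eq_single a]
  · rw [Fintype.sum_prod_type, Finset.sum_eq_single d]
    · simp only [if_true]
      rw [← Finset.mul_sum, ← map_sum, cardBG]
      have hq : 1 < Fintype.card F := Fintype.one_lt_card
      have hq0 : (Fintype.card F : ℂ) ≠ 0 := by
        have : Fintype.card F ≠ 0 := by omega
        exact_mod_cast this
      have hq1 : (Fintype.card F : ℂ) - 1 ≠ 0 := by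
        intro h
        have h2 : (Fintype.card F : ℂ) = 1 := sub_eq_zero.mp h
        have : Fintype.card F = 1 := by exact_mod_cast h2
        omega
      push_cast [Nat.cast_sub (le_of_lt hq)]
      field_simp
    · intro v _ hv'
      simp [hv']
    · intro h; exact absurd (Finset.mem_univ _) h
  · intro u _ hu'
    simp [hu']
  · intro h; exact absurd (Finset.mem_univ _) h

lemma equiv_one_one (t : F) : ((equivBG.symm ((1 : Fˣ), (1 : Fˣ), t) : BG F) : GL2) = gumat t := by
  apply Units.ext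
  rw [equivBG_symm_coe, gumat_coe]
  simp

lemma sum_unip {χ : GL2 → ℂ} (hcf : IsClassFunction GL2 χ) :
    ∑ t : F, χ (gumat t) = χ 1 + ((Fintype.card F : ℂ) - 1) * χ (gumat 1) := by
  have h1 : ∀ t : F, χ (gumat t) = χ (gumat 1) + (if t = 0 then χ 1 - χ (gumat 1) else 0) := by
    intro t
    split_ifs with h
    · rw [h, gumat_zero]; ring
    · rw [unip_const hcf h]; ring
  rw [Finset.sum_congr rfl (fun t _ => h1 t), Finset.sum_add_distrib, Finset.sum_const,
    Finset.card_univ, Finset.sum_ite_eq' Finset.univ (0 : F), nsmul_eq_mul]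
  simp
  ring

/-- all principal-series multiplicities vanish if the sum over the unipotent elements vanishes -/
lemma all_zero [Fintype (MulChar F ℂ)] {χ : GL2 → ℂ} (hχ : IsIrrCharacter GL2 χ)
    (h0 : ∑ t : F, χ (gumat t) = 0) : ∀ α β : MulChar F ℂ, classInner (RG α β) χ = 0 := by
  classical
  have hs := sum_multG_ad hχ 1 1
  simp_rw [equiv_one_one] at hs
  rw [h0, map_zero, mul_zero] at hs
  simp only [inv_one, Units.val_one, map_one, one_mul] at hs
  choose m hm using fun (α β : MulChar F ℂ) =>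
    classInner_character_nat (isCharacter_ind α β) (irr_isCharacter hχ)
  have hm' : ∀ α β : MulChar F ℂ, classInner (RG α β) χ = (m α β : ℂ) := hm
  simp_rw [hm'] at hs
  have hs' : ∑ α : MulChar F ℂ, ∑ β : MulChar F ℂ, m α β = 0 := by exact_mod_cast hs
  intro α β
  rw [hm']
  have h1 := (Finset.sum_eq_zero_iff.mp hs') α (Finset.mem_univ _)
  have h2 := (Finset.sum_eq_zero_iff.mp h1) β (Finset.mem_univ _)
  rw [h2]; simp

/-- upper triangular elements with distinct diagonal entries are conjugate to their diagonal -/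
lemma diag_conj (a d : Fˣ) (had : (a : F) ≠ d) (t : F) {χ : GL2 → ℂ} (hcf : IsClassFunction GL2 χ) :
    χ ((equivBG.symm (a, d, t) : BG F) : GL2) = χ ((equivBG.symm (a, d, 0) : BG F) : GL2) := by
  have hda : (d : F) - a ≠ 0 := sub_ne_zero.mpr (Ne.symm had)
  have : ((equivBG.symm (a, d, t) : BG F) : GL2) =
      gumat (t / ((d : F) - a)) * ((equivBG.symm (a, d, 0) : BG F) : GL2) *
        (gumat (t / ((d : F) - a)))⁻¹ := by
    apply eq_mul_inv_of_mul_eq
    apply Units.ext
    rw [Units.val_mul, Units.val_mul, equivBG_symm_coe, equivBG_symm_coe, gumat_coe]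
    ext i j
    fin_cases i <;> fin_cases j <;> simp [Matrix.mul_apply, Fin.sum_univ_two]
    field_simp
    ring
  rw [this, hcf]

/-- decomposition of the principal series attached to `(β, β)` -/
lemma RGbb (β : MulChar F ℂ) :
    ∃ ξ : GL2 → ℂ, IsIrrCharacter GL2 ξ ∧ RG β β = (fun g => detHom β g) + ξ := by
  classical
  have hRchar : IsCharacter GL2 (RG β β) := isCharacter_ind β β
  have hnorm : classInner (RG β β) (RG β β) = 2 := by
    have := inner_GL β β β β
    rw [if_pos ⟨rfl, rfl⟩] at this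
    rw [this]; norm_num
  obtain ⟨a, b, ha, hb, hab, hsumab⟩ := Cfsg.Agent.S2307.norm_two_char hRchar hnorm
  have hdetirr : IsIrrCharacter GL2 (fun g => detHom β g) := by
    refine ⟨1, Cfsg.Agent.S2306.linRep (detHom β),
      irreducible_of_finrank_eq_one _ (by simp), ?_⟩
    funext g
    rw [Cfsg.Agent.S2306.linRep_character]
  have hR1 : classInner (RG β β) (fun g => detHom β g) = 1 := by
    haveI : Fintype (BG F) := Fintype.ofFinite _
    show classInner (Cfsg.indFun (BG F) _) _ = _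
    rw [frobenius_reciprocity (BG F) _ _
      (isClassFunction_of_isCharacter (irr_isCharacter hdetirr))]
    unfold classInner
    have : ∀ b : BG F, theta β β b * conj (detHom β (b : GL2)) = 1 := by
      intro b
      have hb10 := (mem_BG b.1).mp b.2
      have hd := dt_ne b.1
      unfold dt at hd
      rw [hb10, mul_zero, sub_zero] at hd
      unfold theta
      rw [detHom_apply, Matrix.det_fin_two, hb10, mul_zero, sub_zero, ← map_mul, conj_mulchar,
        ← MulChar.mul_apply, mul_inv_cancel, MulChar.one_apply (isUnit_iff_ne_zero.mpr hd)]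
    rw [Finset.sum_congr rfl (fun b _ => this b), Finset.sum_const, Finset.card_univ,
      nsmul_eq_mul, mul_one, ← Nat.card_eq_fintype_card]
    exact inv_mul_cancel₀ cardBG_ne_zero
  have hne : classInner (RG β β) (fun g => detHom β g) ≠ 0 := by rw [hR1]; exact one_ne_zero
  rw [hsumab, Cfsg.Agent.S2307.classInner_add_left, irr_classInner ha hdetirr,
    irr_classInner hb hdetirr] at hne
  by_cases h1 : a = fun g => detHom β g
  · exact ⟨b, hb, by rw [hsumab, h1]⟩
  · by_cases h2 : b = fun g => detHom β g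
    · exact ⟨a, ha, by rw [hsumab, h2, add_comm]⟩
    · rw [if_neg h1, if_neg h2] at hne
      simp at hne

theorem part1 {χ : GL2 → ℂ} (hχ : IsIrrCharacter GL2 χ) (hdeg : χ 1 = (Fintype.card F : ℂ) - 1)
    (g : GL2) (h01 : (g : Matrix (Fin 2) (Fin 2) F) 0 1 = 0)
    (h10 : (g : Matrix (Fin 2) (Fin 2) F) 1 0 = 0)
    (hne : (g : Matrix (Fin 2) (Fin 2) F) 0 0 ≠ (g : Matrix (Fin 2) (Fin 2) F) 1 1) : χ g = 0 := by
  classical
  haveI : Fintype (MulChar F ℂ) := Fintype.ofFinite _
  have hcf := isClassFunction_of_isCharacter (irr_isCharacter hχ)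
  have hdet := dt_ne g
  unfold dt at hdet
  rw [h01, zero_mul, sub_zero] at hdet
  have h0 : (g : Matrix (Fin 2) (Fin 2) F) 0 0 ≠ 0 := left_ne_zero_of_mul hdet
  have h1 : (g : Matrix (Fin 2) (Fin 2) F) 1 1 ≠ 0 := right_ne_zero_of_mul hdet
  by_cases hq : 3 ≤ Fintype.card F
  · have hs := (nk_class hq hχ).2.2.1 hdeg
    have hsum0 : ∑ t : F, χ (gumat t) = 0 := by
      rw [sum_unip hcf, hs, hdeg]; ring
    have hz := all_zero hχ hsum0
    have hsum := sum_multG_ad hχ (Units.mk0 _ h0) (Units.mk0 _ h1)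
    simp_rw [hz, mul_zero] at hsum
    simp only [Finset.sum_const_zero] at hsum
    have hq0 : (Fintype.card F : ℂ) ≠ 0 := by
      have : Fintype.card F ≠ 0 := by omega
      exact_mod_cast this
    have hconj : conj (∑ t : F, χ ((equivBG.symm (Units.mk0 _ h0, Units.mk0 _ h1, t) : BG F) : GL2)) = 0 := by
      rcases mul_eq_zero.mp hsum.symm with h | h
      · exact absurd (inv_eq_zero.mp h) hq0
      · exact h
    have hsum2 : ∑ t : F, χ ((equivBG.symm (Units.mk0 _ h0, Units.mk0 _ h1, t) : BG F) : GL2) = 0 := by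
      have := congrArg conj hconj
      simpa using this
    simp_rw [diag_conj (Units.mk0 _ h0) (Units.mk0 _ h1) (by simpa using hne) _ hcf] at hsum2
    rw [Finset.sum_const, Finset.card_univ, nsmul_eq_mul] at hsum2
    have hg : ((equivBG.symm (Units.mk0 _ h0, Units.mk0 _ h1, (0 : F)) : BG F) : GL2) = g := by
      apply Units.ext
      rw [equivBG_symm_coe]
      ext i j
      fin_cases i <;> fin_cases j <;> simp [h01, h10]
    rw [hg] at hsum2
    rcases mul_eq_zero.mp hsum2 with h | h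
    · exact absurd h hq0
    · exact h
  · exfalso
    have hq2 : Fintype.card F = 2 := by
      have := Fintype.one_lt_card (α := F)
      omega
    have hu : Fintype.card Fˣ = 1 := by rw [Fintype.card_units, hq2]
    have hsub : Subsingleton Fˣ := Fintype.card_le_one_iff_subsingleton.mp hu.le
    have := congrArg Units.val (Subsingleton.elim (Units.mk0 _ h0) (Units.mk0 _ h1))
    exact hne this

theorem part2 {χ : GL2 → ℂ} (hχ : IsIrrCharacter GL2 χ) (hdeg : χ 1 = (Fintype.card F : ℂ) + 1)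
    (g : GL2)
    (hell : ∀ (c : F) (v : Fin 2 → F), v ≠ 0 → (g : Matrix (Fin 2) (Fin 2) F).mulVec v ≠ c • v) :
    χ g = 0 := by
  classical
  haveI : Fintype (MulChar F ℂ) := Fintype.ofFinite _
  have hcf := isClassFunction_of_isCharacter (irr_isCharacter hχ)
  have hq1 : 1 < Fintype.card F := Fintype.one_lt_card
  have hq0 : (Fintype.card F : ℂ) ≠ 0 := by
    have : Fintype.card F ≠ 0 := by omega
    exact_mod_cast this
  by_cases hq : 3 ≤ Fintype.card F
  · have hs := (nk_class hq hχ).2.1 hdeg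
    have hsum0 : ∑ t : F, χ (gumat t) = 2 * (Fintype.card F : ℂ) := by
      rw [sum_unip hcf, hs, hdeg]; ring
    have hsum := sum_multG_ad hχ 1 1
    simp_rw [equiv_one_one] at hsum
    rw [hsum0] at hsum
    simp only [inv_one, Units.val_one, map_one, one_mul] at hsum
    obtain ⟨α₀, β₀, hβ₀⟩ : ∃ α₀ β₀ : MulChar F ℂ, classInner (RG α₀ β₀) χ ≠ 0 := by
      by_contra hcon
      have : ∀ α β : MulChar F ℂ, classInner (RG α β) χ = 0 :=
        fun α β => by_contra fun h => hcon ⟨α, β, h⟩
      rw [Finset.sum_eq_zero (fun α _ => Finset.sum_eq_zero (fun β _ => this α β))] at hsum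
      have h2 : (Fintype.card F : ℂ)⁻¹ * conj (2 * (Fintype.card F : ℂ)) = 2 := by
        rw [map_mul, Complex.conj_natCast, map_ofNat]
        field_simp
      rw [h2] at hsum
      norm_num at hsum
    by_cases hab : α₀ = β₀
    · exfalso
      subst hab
      obtain ⟨ξ, hξ, hdec⟩ := RGbb α₀
      have hdetirr : IsIrrCharacter GL2 (fun g => detHom α₀ g) := by
        refine ⟨1, Cfsg.Agent.S2306.linRep (detHom α₀),
          irreducible_of_finrank_eq_one _ (by simp), ?_⟩
        funext g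
        rw [Cfsg.Agent.S2306.linRep_character]
      rw [hdec, Cfsg.Agent.S2307.classInner_add_left, irr_classInner hdetirr hχ,
        irr_classInner hξ hχ] at hβ₀
      by_cases h1 : (fun g => detHom α₀ g) = χ
      · have : χ 1 = 1 := by rw [← h1]; exact map_one _
        rw [this] at hdeg
        have : (Fintype.card F : ℂ) = 0 := by linear_combination -hdeg
        exact hq0 this
      · by_cases h2 : ξ = χ
        · have h3 := congrFun hdec 1
          rw [Pi.add_apply, h2, RG_one, hdeg] at h3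
          have h4 : (detHom α₀) (1 : GL2) = 1 := map_one _
          rw [h4] at h3
          norm_num at h3
        · rw [if_neg h1, if_neg h2] at hβ₀
          simp at hβ₀
    · have hirr : IsIrrCharacter GL2 (RG α₀ β₀) := Cfsg.Agent.S2304.result α₀ β₀ hab
      rw [irr_classInner hirr hχ] at hβ₀
      have heq : RG α₀ β₀ = χ := by
        by_contra h
        rw [if_neg h] at hβ₀
        exact hβ₀ rfl
      rw [← heq]
      exact case2G α₀ β₀ g hell
  · exfalso
    have hq2 : Fintype.card F = 2 := by omega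
    have hle := Cfsg.Agent.S2310.sum_le hχ (fun _ : Unit => (1 : GL2)) (fun _ _ _ => rfl)
    rw [(card_SL2_GL2 (F := F)).2, hq2, Finset.sum_const, Finset.card_univ, hdeg, hq2] at hle
    norm_num at hle

end fin

end Cfsg.Agent.S2309

namespace Cfsg.Agent.S2309

theorem result {F : Type*} [Field F] [Fintype F] (χ : Matrix.GeneralLinearGroup (Fin 2) F → ℂ) (hχ : Cfsg.IsIrrCharacter (Matrix.GeneralLinearGroup (Fin 2) F) χ) (g : Matrix.GeneralLinearGroup (Fin 2) F) :
    (χ 1 = (Fintype.card F : ℂ) - 1 → (g : Matrix (Fin 2) (Fin 2) F) 0 1 = 0 → (g : Matrix (Fin 2) (Fin 2) F) 1 0 = 0 → (g : Matrix (Fin 2) (Fin 2) F) 0 0 ≠ (g : Matrix (Fin 2) (Fin 2) F) 1 1 → χ g = 0) ∧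
    (χ 1 = (Fintype.card F : ℂ) + 1 → (∀ (c : F) (v : Fin 2 → F), v ≠ 0 → (g : Matrix (Fin 2) (Fin 2) F).mulVec v ≠ c • v) → χ g = 0) := by
  classical
  exact ⟨fun hdeg h01 h10 hne => part1 hχ hdeg g h01 h10 hne, fun hdeg hell => part2 hχ hdeg g hell⟩

end Cfsg.Agent.S2309
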