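import Mathlib
import Cfsg.Statements.S2438
import Cfsg.Agent.S2321
import Cfsg.Agent.S2310

set_option autoImplicit false

open Cfsg

namespace Cfsg.Agent.S2438

open Matrix ComplexConjugate Cfsg.Agent.S2433 Cfsg.Agent.S2432 Cfsg.Agent.S2307 Cfsg.Agent.S2321
  Cfsg.Agent.Lib.Helper8

variable {F : Type*} [Field F] [Fintype F] [DecidableEq F]

local notation "SL2" => SpecialLinearGroup (Fin 2) F

lemma qne0 : (Fintype.card F : ℂ) ≠ 0 := by
  have : Fintype.card F ≠ 0 := Fintype.card_ne_zero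
  exact_mod_cast this

lemma qne1 : (Fintype.card F : ℂ) - 1 ≠ 0 := by
  intro h
  have h2 : (Fintype.card F : ℂ) = 1 := sub_eq_zero.mp h
  have : Fintype.card F = 1 := by exact_mod_cast h2
  have hq : 1 < Fintype.card F := Fintype.one_lt_card
  omega

/-- the multiplicities of `χ` in the principal series sum to the multiplicity of `1_U` -/
lemma sum_mult_gen [Fintype (MulChar F ℂ)] {χ : SL2 → ℂ} (hχ : IsIrrCharacter SL2 χ) :
    ∑ β : MulChar F ℂ, classInner (Rf β) χ =
      (Fintype.card F : ℂ)⁻¹ * conj (∑ t : F, χ (umat t)) := by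
  haveI : Fintype (Bsub F) := Fintype.ofFinite _
  have hcf : IsClassFunction SL2 χ := isClassFunction_of_isCharacter (irr_isCharacter hχ)
  have h1 : ∀ β : MulChar F ℂ, classInner (Rf β) χ = (Nat.card (Bsub F) : ℂ)⁻¹ *
      ∑ ut : Fˣ × F, β (ut.1 : F) * conj (χ ((equivB.symm ut : Bsub F) : SL2)) := by
    intro β
    show classInner (Cfsg.indFun (Bsub F) _) χ = _
    rw [frobenius_reciprocity (Bsub F) _ _ hcf]
    unfold classInner
    congr 1
    rw [← Equiv.sum_comp (equivB (F := F)).symm]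
    apply Finset.sum_congr rfl
    rintro ⟨u, t⟩ _
    beta_reduce
    rw [equivB_symm_coe]
    simp
  simp_rw [h1]
  rw [← Finset.mul_sum, Finset.sum_comm]
  simp_rw [← Finset.sum_mul, sum_mulchar]
  rw [Fintype.sum_prod_type, Finset.sum_eq_single (1 : Fˣ)]
  · simp only [Units.val_one, if_true]
    have he : ∀ t : F, ((equivB.symm ((1 : Fˣ), t) : Bsub F) : SL2) = umat t := by
      intro t
      apply Subtype.ext
      rw [equivB_symm_coe, umat_coe]
      simp
    simp_rw [he]
    rw [← Finset.mul_sum, ← map_sum, cardB]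
    have hq : 1 < Fintype.card F := Fintype.one_lt_card
    have hq0 := qne0 (F := F)
    have hq1 := qne1 (F := F)
    push_cast [Nat.cast_sub (le_of_lt hq)]
    field_simp
  · intro u _ hu
    have : (u : F) ≠ 1 := fun h => hu (Units.ext h)
    simp [this]
  · intro h; exact absurd (Finset.mem_univ _) h

/-- multiplicity of a linear character of `U` -/
lemma mult_nat (ψ : AddChar F ℂ) {χ : SL2 → ℂ} (hχ : IsCharacter SL2 χ) :
    ∃ k : ℕ, ∑ a : F, χ (umat a) * conj (ψ a) = (Fintype.card F : ℂ) * k := by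
  haveI : Fintype (Usub F) := Fintype.ofFinite _
  obtain ⟨k, hk⟩ := classInner_character_nat (isCharacter_restrict (Usub F) hχ)
    (Cfsg.Agent.S2306.isCharacter_of_monoidHom (psiHom ψ))
  refine ⟨k, ?_⟩
  unfold classInner at hk
  rw [Nat.card_congr (equivU (F := F)), Nat.card_eq_fintype_card,
    ← Equiv.sum_comp (equivU (F := F)).symm] at hk
  have hterm : ∀ a : F, χ ((equivU.symm a : Usub F) : SL2) * conj (psiHom ψ (equivU.symm a)) =
      χ (umat a) * conj (ψ a) := by
    intro a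
    show χ (umat a) * conj (ψ ((!![1, a; 0, 1] : Matrix (Fin 2) (Fin 2) F) 0 1)) = _
    simp
  rw [Finset.sum_congr rfl (fun a _ => hterm a)] at hk
  rw [← hk]
  have hq0 := qne0 (F := F)
  field_simp

/-- invariance under the torus -/
lemma umat_sq_conj {χ : SL2 → ℂ} (hcf : IsClassFunction SL2 χ) (e : Fˣ) (t : F) :
    χ (umat ((e : F) ^ 2 * t)) = χ (umat t) := by
  have he : (e : F) * ((e⁻¹ : Fˣ) : F) = 1 := by
    rw [← Units.val_mul, mul_inv_cancel, Units.val_one]
  have h : umat ((e : F) ^ 2 * t) =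
      ((equivB.symm (e, 0) : Bsub F) : SL2) * umat t * ((equivB.symm (e, 0) : Bsub F) : SL2)⁻¹ := by
    rw [eq_mul_inv_iff_mul_eq]
    apply Subtype.ext
    rw [Matrix.SpecialLinearGroup.coe_mul, Matrix.SpecialLinearGroup.coe_mul, equivB_symm_coe,
      umat_coe, umat_coe]
    ext i j
    have he0 : (e : F) ≠ 0 := e.ne_zero
    fin_cases i <;> fin_cases j <;>
      simp [Matrix.mul_apply, Fin.sum_univ_two, Units.val_inv_eq_inv_val]
    field_simp
  rw [h, hcf]

/-- the squares lemma -/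
lemma squares_lemma (hodd : Odd (Fintype.card F)) (f : F → ℂ)
    (hf : ∀ (e : Fˣ) (t : F), f ((e : F) ^ 2 * t) = f t) :
    ∃ ε : F, ε ≠ 0 ∧ ∀ s : F, s ≠ 0 → f s + f (ε * s) = f 1 + f ε := by
  have hchar : ringChar F ≠ 2 := by
    intro h
    have := FiniteField.even_card_of_char_two h
    obtain ⟨m, hm⟩ := hodd
    omega
  obtain ⟨ε, hε⟩ := FiniteField.exists_nonsquare hchar
  have hε0 : ε ≠ 0 := by
    rintro rfl
    exact hε ⟨0, by simp⟩
  refine ⟨ε, hε0, ?_⟩
  intro s hs
  by_cases hsq : IsSquare s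
  · obtain ⟨r, hr⟩ := hsq
    have hr0 : r ≠ 0 := by
      rintro rfl
      simp at hr
      exact hs hr
    have h1 := hf (Units.mk0 r hr0) 1
    have h2 := hf (Units.mk0 r hr0) ε
    simp only [Units.val_mk0] at h1 h2
    have e1 : s = r ^ 2 * 1 := by rw [hr]; ring
    have e2 : ε * s = r ^ 2 * ε := by rw [hr]; ring
    rw [e2, h2, e1, h1]
  · have hqs : quadraticChar F s = -1 := quadraticChar_neg_one_iff_not_isSquare.mpr hsq
    have hqe : quadraticChar F ε = -1 := quadraticChar_neg_one_iff_not_isSquare.mpr hε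
    have hprod : quadraticChar F (ε * s) = 1 := by
      rw [map_mul, hqs, hqe]; norm_num
    have hes : ε * s ≠ 0 := mul_ne_zero hε0 hs
    obtain ⟨r, hr⟩ := (quadraticChar_one_iff_isSquare hes).mp hprod
    have hr0 : r ≠ 0 := by
      rintro rfl
      simp at hr
      rcases hr with h | h
      · exact hε0 h
      · exact hs h
    have h1 := hf (Units.mk0 r hr0) 1
    have h2 := hf (Units.mk0 (r / ε) (div_ne_zero hr0 hε0)) ε
    simp only [Units.val_mk0] at h1 h2
    have e1 : ε * s = r ^ 2 * 1 := by rw [hr]; ring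
    have e2 : s = (r / ε) ^ 2 * ε := by
      field_simp
      rw [pow_two, ← hr]; ring
    rw [e1, h1]
    nth_rewrite 1 [e2]
    rw [h2]
    ring

lemma sum_split (g : F → ℂ) : ∑ a : F, g a = g 0 + ∑ u : Fˣ, g (u : F) := by
  rw [← Finset.add_sum_erase Finset.univ g (Finset.mem_univ 0)]
  congr 1
  symm
  refine Finset.sum_bij (s := (Finset.univ : Finset Fˣ)) (t := Finset.univ.erase (0 : F))
    (fun u _ => (u : F)) ?_ ?_ ?_ ?_
  · intro u _
    exact Finset.mem_erase.mpr ⟨u.ne_zero, Finset.mem_univ _⟩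
  · intro a _ b _ h
    exact Units.ext h
  · intro b hb
    exact ⟨Units.mk0 b (Finset.ne_of_mem_erase hb), Finset.mem_univ _, rfl⟩
  · intro a _
    rfl

/-- arithmetic of cuspidal characters -/
lemma cusp_arith (hodd : Odd (Fintype.card F)) {χ : SL2 → ℂ} (hχ : IsCharacter SL2 χ)
    (hS : ∑ t : F, χ (umat t) = 0) :
    ∃ K : ℕ, (K : ℂ) * ((Fintype.card F : ℂ) - 1) = 2 * χ 1 := by
  have hcf : IsClassFunction SL2 χ := isClassFunction_of_isCharacter hχ
  obtain ⟨ε, hε0, hpair⟩ := squares_lemma hodd (fun t => χ (umat t))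
    (fun e t => umat_sq_conj hcf e t)
  beta_reduce at hpair
  obtain ⟨ψ, hψ⟩ := (AddChar.exists_apply_ne_zero (α := F) (a := 1)).mpr one_ne_zero
  have hψ1 : ψ ≠ 1 := by
    intro h
    apply hψ
    rw [h]; rfl
  obtain ⟨k₁, hk₁⟩ := mult_nat ψ hχ
  obtain ⟨k₂, hk₂⟩ := mult_nat (AddChar.mulShift ψ ε) hχ
  simp only [AddChar.mulShift_apply] at hk₂
  refine ⟨k₁ + k₂, ?_⟩
  set εu : Fˣ := Units.mk0 ε hε0 with hεu
  set V : ℂ := χ (umat 1) + χ (umat ε) with hV
  have hpair' : ∀ u : Fˣ, χ (umat (u : F)) + χ (umat (ε * u)) = V := fun u => hpair u u.ne_zero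
  have h0 : χ (umat (0 : F)) = χ 1 := by rw [umat_zero]
  -- (i)
  have hi : χ 1 + ∑ u : Fˣ, χ (umat (u : F)) = 0 := by
    rw [sum_split, h0] at hS
    exact hS
  -- (ii)
  have hshift : ∑ u : Fˣ, χ (umat (ε * (u : F))) = ∑ u : Fˣ, χ (umat (u : F)) := by
    apply Fintype.sum_equiv (Equiv.mulLeft εu)
    intro u
    simp [hεu]
  have hcardu : (Fintype.card Fˣ : ℂ) = (Fintype.card F : ℂ) - 1 := by
    rw [Fintype.card_units, Nat.cast_sub Fintype.card_pos]; simp
  have hii : 2 * ∑ u : Fˣ, χ (umat (u : F)) = ((Fintype.card F : ℂ) - 1) * V := by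
    have : ∑ u : Fˣ, (χ (umat (u : F)) + χ (umat (ε * (u : F)))) = ((Fintype.card F : ℂ) - 1) * V := by
      rw [Finset.sum_congr rfl (fun u _ => hpair' u), Finset.sum_const, Finset.card_univ,
        nsmul_eq_mul, hcardu]
    rw [Finset.sum_add_distrib, hshift] at this
    linear_combination this
  -- (iii)
  have hψsum : ∑ u : Fˣ, conj (ψ (u : F)) = -1 := by
    have h := AddChar.sum_eq_zero_of_ne_one hψ1
    rw [sum_split (fun a => ψ a)] at h
    simp only [AddChar.map_zero_eq_one] at h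
    rw [← map_sum]
    have : ∑ u : Fˣ, ψ (u : F) = -1 := by linear_combination h
    rw [this]; simp
  have h1 : χ 1 + ∑ u : Fˣ, χ (umat (u : F)) * conj (ψ (u : F)) = (Fintype.card F : ℂ) * k₁ := by
    rw [sum_split (fun a => χ (umat a) * conj (ψ a))] at hk₁
    simp only [AddChar.map_zero_eq_one, map_one, mul_one, h0] at hk₁
    exact hk₁
  have h2 : χ 1 + ∑ u : Fˣ, χ (umat (ε * (u : F))) * conj (ψ (u : F)) =
      (Fintype.card F : ℂ) * k₂ := by
    rw [sum_split (fun a => χ (umat a) * conj (ψ (ε * a)))] at hk₂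
    simp only [mul_zero, AddChar.map_zero_eq_one, map_one, mul_one, h0] at hk₂
    rw [← hk₂]
    congr 1
    symm
    apply Fintype.sum_equiv (Equiv.mulLeft εu)
    intro u
    have hu : ((Equiv.mulLeft εu) u : F) = ε * u := by simp [hεu]
    have hinv : χ (umat (ε * (ε * (u : F)))) = χ (umat (u : F)) := by
      have := umat_sq_conj hcf εu (u : F)
      rw [← this]
      congr 2
      simp [hεu]; ring
    rw [hu, hinv]
  have h3 : ∑ u : Fˣ, (χ (umat (u : F)) + χ (umat (ε * (u : F)))) * conj (ψ (u : F)) = -V := by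
    rw [Finset.sum_congr rfl (fun u _ => by rw [hpair' u]), ← Finset.mul_sum, hψsum]
    ring
  simp_rw [add_mul] at h3
  rw [Finset.sum_add_distrib] at h3
  have hq0 := qne0 (F := F)
  apply mul_left_cancel₀ hq0
  push_cast
  linear_combination (-((Fintype.card F : ℂ) - 1)) * (h1 + h2 - h3) + hii - 2 * hi

/-- the sign -/
def sg (b : Bool) : F := if b then -1 else 1

lemma sg_mul_self (b : Bool) : (sg b : F) * sg b = 1 := by cases b <;> simp [sg]

lemma sg_ne_zero (b : Bool) : (sg b : F) ≠ 0 := by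
  intro h
  have := sg_mul_self (F := F) b
  rw [h, mul_zero] at this
  exact zero_ne_one this

lemma sg_inj (h2 : (2 : F) ≠ 0) {b b' : Bool} (h : (sg b : F) = sg b') : b = b' := by
  cases b <;> cases b' <;> simp [sg] at h ⊢
  · apply h2; linear_combination h
  · apply h2; linear_combination -h

/-- the central elements `±1` -/
def Zb (b : Bool) : SL2 := ⟨!![sg b, 0; 0, sg b], by
  rw [Matrix.det_fin_two_of]; simp [sg_mul_self]⟩

lemma Zb_coe (b : Bool) : ((Zb b : SL2) : Matrix (Fin 2) (Fin 2) F) = !![sg b, 0; 0, sg b] := rfl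

lemma Zb_center (b : Bool) : (Zb b : SL2) ∈ Subgroup.center SL2 := by
  rw [Subgroup.mem_center_iff]
  intro g
  apply Subtype.ext
  rw [Matrix.SpecialLinearGroup.coe_mul, Matrix.SpecialLinearGroup.coe_mul, Zb_coe]
  ext i j
  fin_cases i <;> fin_cases j <;> simp [Matrix.mul_apply, Fin.sum_univ_two, mul_comm]

/-- signed conjugates of unipotent elements -/
def phi (b : Bool) (c t : F) : SL2 := Zb b * (lmat c * umat t * (lmat c)⁻¹)

lemma phi_coe (b : Bool) (c t : F) : ((phi b c t : SL2) : Matrix (Fin 2) (Fin 2) F) =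
    !![sg b * (1 - c * t), sg b * t; -(sg b * (c ^ 2 * t)), sg b * (1 + c * t)] := by
  unfold phi
  rw [Matrix.SpecialLinearGroup.coe_mul, Matrix.SpecialLinearGroup.coe_mul,
    Matrix.SpecialLinearGroup.coe_mul, Matrix.SpecialLinearGroup.coe_inv, Zb_coe, lmat_coe,
    umat_coe, Matrix.adjugate_fin_two_of]
  ext i j
  fin_cases i <;> fin_cases j <;>
    simp [Matrix.mul_apply, Fin.sum_univ_two, -mul_eq_mul_left_iff] <;> ring1

lemma Zb_00 (b : Bool) : ((Zb b : SL2) : Matrix (Fin 2) (Fin 2) F) 0 0 = sg b := by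
  rw [Zb_coe]; simp

lemma Zb_01 (b : Bool) : ((Zb b : SL2) : Matrix (Fin 2) (Fin 2) F) 0 1 = 0 := by
  rw [Zb_coe]; simp

lemma phi_00 (b : Bool) (c t : F) :
    ((phi b c t : SL2) : Matrix (Fin 2) (Fin 2) F) 0 0 = sg b * (1 - c * t) := by
  rw [phi_coe]; simp

lemma phi_01 (b : Bool) (c t : F) :
    ((phi b c t : SL2) : Matrix (Fin 2) (Fin 2) F) 0 1 = sg b * t := by
  rw [phi_coe]; simp

lemma phi_11 (b : Bool) (c t : F) :
    ((phi b c t : SL2) : Matrix (Fin 2) (Fin 2) F) 1 1 = sg b * (1 + c * t) := by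
  rw [phi_coe]; simp

/-- the injective family -/
def Phi : Bool ⊕ (Bool × F × Fˣ) → SL2
  | Sum.inl b => Zb b
  | Sum.inr ⟨b, c, t⟩ => phi b c (t : F)

lemma Phi_injective (h2 : (2 : F) ≠ 0) : Function.Injective (Phi (F := F)) := by
  rintro (b | ⟨b, c, t⟩) (b' | ⟨b', c', t'⟩) h
  · have h00 := congrArg (fun g : SL2 => (g : Matrix (Fin 2) (Fin 2) F) 0 0) h
    change ((Zb b : SL2) : Matrix (Fin 2) (Fin 2) F) 0 0 = ((Zb b' : SL2) : Matrix (Fin 2) (Fin 2) F) 0 0 at h00
    rw [Zb_00, Zb_00] at h00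
    rw [sg_inj h2 h00]
  · exfalso
    have h01 := congrArg (fun g : SL2 => (g : Matrix (Fin 2) (Fin 2) F) 0 1) h
    change ((Zb b : SL2) : Matrix (Fin 2) (Fin 2) F) 0 1 =
      ((phi b' c' (t' : F) : SL2) : Matrix (Fin 2) (Fin 2) F) 0 1 at h01
    rw [Zb_01, phi_01] at h01
    exact mul_ne_zero (sg_ne_zero b') t'.ne_zero h01.symm
  · exfalso
    have h01 := congrArg (fun g : SL2 => (g : Matrix (Fin 2) (Fin 2) F) 0 1) h
    change ((phi b c (t : F) : SL2) : Matrix (Fin 2) (Fin 2) F) 0 1 =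
      ((Zb b' : SL2) : Matrix (Fin 2) (Fin 2) F) 0 1 at h01
    rw [Zb_01, phi_01] at h01
    exact mul_ne_zero (sg_ne_zero b) t.ne_zero h01
  · have h00 := congrArg (fun g : SL2 => (g : Matrix (Fin 2) (Fin 2) F) 0 0) h
    have h01 := congrArg (fun g : SL2 => (g : Matrix (Fin 2) (Fin 2) F) 0 1) h
    have h11 := congrArg (fun g : SL2 => (g : Matrix (Fin 2) (Fin 2) F) 1 1) h
    change ((phi b c (t : F) : SL2) : Matrix (Fin 2) (Fin 2) F) 0 0 =
      ((phi b' c' (t' : F) : SL2) : Matrix (Fin 2) (Fin 2) F) 0 0 at h00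
    change ((phi b c (t : F) : SL2) : Matrix (Fin 2) (Fin 2) F) 0 1 =
      ((phi b' c' (t' : F) : SL2) : Matrix (Fin 2) (Fin 2) F) 0 1 at h01
    change ((phi b c (t : F) : SL2) : Matrix (Fin 2) (Fin 2) F) 1 1 =
      ((phi b' c' (t' : F) : SL2) : Matrix (Fin 2) (Fin 2) F) 1 1 at h11
    rw [phi_00, phi_00] at h00
    rw [phi_01, phi_01] at h01
    rw [phi_11, phi_11] at h11
    have hs : (sg b : F) = sg b' := by
      apply mul_left_cancel₀ h2
      linear_combination h00 + h11
    have hb := sg_inj h2 hs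
    subst hb
    have ht : (t : F) = t' := mul_left_cancel₀ (sg_ne_zero b) h01
    have ht' : t = t' := Units.ext ht
    subst ht'
    have hc : c = c' := by
      have h3 : sg b * (c * (t : F)) = sg b * (c' * t) := by linear_combination -h00
      have h4 := mul_left_cancel₀ (sg_ne_zero b) h3
      exact mul_right_cancel₀ t.ne_zero h4
    subst hc
    rfl

/-- the norm bound for cuspidal characters -/
lemma norm_bound (h2 : (2 : F) ≠ 0) {χ : SL2 → ℂ} (hχ : IsIrrCharacter SL2 χ)
    (hS : ∑ t : F, χ (umat t) = 0) :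
    2 * (Complex.normSq (χ 1) * (2 * (Fintype.card F : ℝ) - 1)) ≤
      ((Fintype.card F : ℝ) - 1) * (Nat.card SL2 : ℝ) := by
  have hcf : IsClassFunction SL2 χ := isClassFunction_of_isCharacter (irr_isCharacter hχ)
  have hle := Cfsg.Agent.S2310.sum_le hχ (Phi (F := F)) (Phi_injective h2)
  rw [Fintype.sum_sum_type] at hle
  have e1 : ∀ b : Bool, Complex.normSq (χ (Phi (Sum.inl b))) = Complex.normSq (χ 1) := by
    intro b
    have := Cfsg.Agent.S2310.central_norm hχ (Zb_center (F := F) b) 1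
    rw [mul_one] at this
    exact this
  have e2 : ∀ x : Bool × F × Fˣ, Complex.normSq (χ (Phi (Sum.inr x))) =
      Complex.normSq (χ (umat (x.2.2 : F))) := by
    rintro ⟨b, c, t⟩
    show Complex.normSq (χ (Zb b * (lmat c * umat (t : F) * (lmat c)⁻¹))) = _
    rw [Cfsg.Agent.S2310.central_norm hχ (Zb_center (F := F) b), hcf]
  rw [Finset.sum_congr rfl (fun b _ => e1 b), Finset.sum_congr rfl (fun x _ => e2 x),
    Fintype.sum_prod_type] at hle
  simp only [Fintype.sum_prod_type, Finset.sum_const, Finset.card_univ, Fintype.card_bool,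
    nsmul_eq_mul] at hle
  set T : ℝ := ∑ t : Fˣ, Complex.normSq (χ (umat (t : F))) with hT
  have h0 : χ (umat (0 : F)) = χ 1 := by rw [umat_zero]
  have hi : χ 1 = -∑ u : Fˣ, χ (umat (u : F)) := by
    rw [sum_split, h0] at hS
    linear_combination hS
  have hcardu : (Fintype.card Fˣ : ℝ) = (Fintype.card F : ℝ) - 1 := by
    rw [Fintype.card_units, Nat.cast_sub Fintype.card_pos]; simp
  have hCS : Complex.normSq (χ 1) ≤ ((Fintype.card F : ℝ) - 1) * T := by
    rw [hi, Complex.normSq_neg, Complex.normSq_eq_norm_sq]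
    have h1 : ‖∑ u : Fˣ, χ (umat (u : F))‖ ≤ ∑ u : Fˣ, ‖χ (umat (u : F))‖ := norm_sum_le _ _
    have h2' : (∑ u : Fˣ, ‖χ (umat (u : F))‖) ^ 2 ≤
        (Fintype.card Fˣ : ℝ) * ∑ u : Fˣ, ‖χ (umat (u : F))‖ ^ 2 := by
      have := sq_sum_le_card_mul_sum_sq (s := (Finset.univ : Finset Fˣ))
        (f := fun u => ‖χ (umat (u : F))‖)
      rw [Finset.card_univ] at this
      exact this
    have h3 : ∀ u : Fˣ, ‖χ (umat (u : F))‖ ^ 2 = Complex.normSq (χ (umat (u : F))) :=
      fun u => (Complex.normSq_eq_norm_sq _).symm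
    rw [Finset.sum_congr rfl (fun u _ => h3 u), hcardu] at h2'
    calc ‖∑ u : Fˣ, χ (umat (u : F))‖ ^ 2 ≤ (∑ u : Fˣ, ‖χ (umat (u : F))‖) ^ 2 :=
          pow_le_pow_left₀ (norm_nonneg _) h1 2
      _ ≤ _ := h2'
  have hq1 : (1 : ℝ) ≤ (Fintype.card F : ℝ) := by
    have : 1 ≤ Fintype.card F := Fintype.card_pos
    exact_mod_cast this
  push_cast at hle
  have hA := mul_le_mul_of_nonneg_left hle (by linarith : (0 : ℝ) ≤ (Fintype.card F : ℝ) - 1)
  have hB := mul_le_mul_of_nonneg_left hCS (by linarith : (0 : ℝ) ≤ (Fintype.card F : ℝ))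
  nlinarith [hA, hB]

/-- the sum of a principal series character over `U` -/
lemma sum_Rf (β : MulChar F ℂ) : ∑ t : F, Rf β (umat t) = 2 * (Fintype.card F : ℂ) := by
  rw [sum_split]
  have h0 : Rf β (umat (0 : F)) = (Fintype.card F : ℂ) + 1 := by
    rw [umat_zero]
    have h4 := case4 β (1 : SL2) (by simp) (by simp) (by simp)
    have h4' : Rf β 1 = ((Fintype.card F : ℂ) + 1) * β (((1 : SL2) : Matrix (Fin 2) (Fin 2) F) 0 0) := h4
    rw [h4']
    simp
  have h1 : ∀ u : Fˣ, Rf β (umat (u : F)) = 1 := by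
    intro u
    have h3 := case3 β (umat (u : F)) (by simp [umat_coe]) (by simp [umat_coe])
      (by simp [umat_coe])
    have h3' : Rf β (umat (u : F)) = β (((umat (u : F) : SL2) : Matrix (Fin 2) (Fin 2) F) 0 0) := h3
    rw [h3']
    simp [umat_coe]
  rw [h0, Finset.sum_congr rfl (fun u _ => h1 u), Finset.sum_const, Finset.card_univ,
    Fintype.card_units, nsmul_eq_mul, mul_one, Nat.cast_sub Fintype.card_pos]
  push_cast
  ring

/-- the constituents of the principal series -/
lemma constituent {χ : SL2 → ℂ} (hχ : IsIrrCharacter SL2 χ) (β : MulChar F ℂ)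
    (hne : classInner (Rf β) χ ≠ 0) :
    Rf β = χ ∨ (χ 1 = 1 ∨ χ 1 = (Fintype.card F : ℂ)) ∨
    ∃ (χ₁ χ₂ : SL2 → ℂ) (e : Fˣ), Rf β = χ₁ + χ₂ ∧ (χ = χ₁ ∨ χ = χ₂) ∧ χ₂ 1 = χ₁ 1 ∧
      χ₁ 1 + χ₂ 1 = (Fintype.card F : ℂ) + 1 ∧ ∀ g, χ₂ (cfun e g) = χ₁ g := by
  classical
  have mem : ∀ (R a b ξ : SL2 → ℂ), IsIrrCharacter SL2 a → IsIrrCharacter SL2 b → R = a + b →
      IsIrrCharacter SL2 ξ → classInner R ξ ≠ 0 → ξ = a ∨ ξ = b := by
    intro R a b ξ ha hb hR hξ hne
    rw [hR, classInner_add_left, irr_classInner ha hξ, irr_classInner hb hξ] at hne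
    by_contra hcon
    rw [not_or] at hcon
    rw [if_neg (fun h => hcon.1 h.symm), if_neg (fun h => hcon.2 h.symm)] at hne
    simp at hne
  by_cases hsq : β ^ 2 = 1
  · by_cases hone : β = 1
    · subst hone
      right; left
      have hRchar : IsCharacter SL2 (Rf (1 : MulChar F ℂ)) :=
        isCharacter_indFun (Bsub F)
          (Cfsg.Agent.S2306.isCharacter_of_monoidHom (Cfsg.Agent.S2306.diagHom 1))
      have hnorm : classInner (Rf (1 : MulChar F ℂ)) (Rf 1) = 2 := by
        have := Cfsg.Agent.S2306.inner_general (1 : MulChar F ℂ) 1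
        rw [if_pos rfl, if_pos inv_one.symm] at this
        have h2 : classInner (Rf (1 : MulChar F ℂ)) (Rf 1) = 1 + 1 := this
        rw [h2]; norm_num
      obtain ⟨a, b, ha, hb, hab, hsumab⟩ := norm_two_char hRchar hnorm
      have htriv : IsIrrCharacter SL2 (fun _ => (1 : ℂ)) := by
        refine ⟨1, Cfsg.Agent.S2306.linRep (1 : SL2 →* ℂ),
          irreducible_of_finrank_eq_one _ (by simp), ?_⟩
        funext g
        rw [Cfsg.Agent.S2306.linRep_character]
        rfl
      have hR1 : classInner (Rf (1 : MulChar F ℂ)) (fun _ => (1 : ℂ)) = 1 := by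
        haveI : Fintype (Bsub F) := Fintype.ofFinite _
        show classInner (Cfsg.indFun (Bsub F) _) _ = _
        rw [frobenius_reciprocity (Bsub F) _ _ (fun _ _ => rfl)]
        unfold classInner
        have : ∀ b : Bsub F, (1 : MulChar F ℂ) (((b : SL2) : Matrix (Fin 2) (Fin 2) F) 0 0) *
            conj (1 : ℂ) = 1 := by
          intro b
          have hb10 := (mem_B b.1).mp b.2
          have hd := det_eq b.1
          rw [hb10, mul_zero, sub_zero] at hd
          rw [MulChar.one_apply (IsUnit.of_mul_eq_one _ hd)]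
          simp
        rw [Finset.sum_congr rfl (fun b _ => this b), Finset.sum_const, Finset.card_univ,
          nsmul_eq_mul, mul_one, ← Nat.card_eq_fintype_card]
        exact inv_mul_cancel₀ cardB_ne_zero
      have hdeg1 : Rf (1 : MulChar F ℂ) 1 = (Fintype.card F : ℂ) + 1 := by
        have h4 := case4 (1 : MulChar F ℂ) (1 : SL2) (by simp) (by simp) (by simp)
        have h4' : Rf (1 : MulChar F ℂ) 1 = ((Fintype.card F : ℂ) + 1) *
          (1 : MulChar F ℂ) (((1 : SL2) : Matrix (Fin 2) (Fin 2) F) 0 0) := h4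
        rw [h4']
        simp
      have hs1 := congrFun hsumab 1
      rw [Pi.add_apply, hdeg1] at hs1
      rcases mem _ a b χ ha hb hsumab hχ hne with h | h <;>
        rcases mem _ a b _ ha hb hsumab htriv (by rw [hR1]; exact one_ne_zero) with h' | h'
      · left; rw [h, ← h']
      · right
        have : b 1 = 1 := by rw [← h']
        rw [h]; linear_combination (-1 : ℂ) * hs1 - this
      · right
        have : a 1 = 1 := by rw [← h']
        rw [h]; linear_combination (-1 : ℂ) * hs1 - this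
      · left; rw [h, ← h']
    · right; right
      obtain ⟨χ₁, χ₂, h1, h2, hne12, hsum12, hdeg12, hd, e, he⟩ := main' β hsq hone
      exact ⟨χ₁, χ₂, e, hsum12, mem _ χ₁ χ₂ χ h1 h2 hsum12 hχ hne, hdeg12, hd, he⟩
  · left
    have hirr : IsIrrCharacter SL2 (Rf β) := (Cfsg.Agent.S2306.result β).mpr hsq
    rw [irr_classInner hirr hχ] at hne
    by_contra h
    rw [if_neg h] at hne
    exact hne rfl

lemma Rf_one (β : MulChar F ℂ) : Rf β 1 = (Fintype.card F : ℂ) + 1 := by
  have h4 := case4 β (1 : SL2) (by simp) (by simp) (by simp)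
  have h4' : Rf β 1 = ((Fintype.card F : ℂ) + 1) *
    β (((1 : SL2) : Matrix (Fin 2) (Fin 2) F) 0 0) := h4
  rw [h4']
  simp

/-- the degrees of the constituents of the principal series -/
lemma deg_cases {χ : SL2 → ℂ} (hχ : IsIrrCharacter SL2 χ) (β : MulChar F ℂ)
    (hne : classInner (Rf β) χ ≠ 0) :
    χ 1 = (Fintype.card F : ℂ) + 1 ∨ χ 1 = 1 ∨ χ 1 = (Fintype.card F : ℂ) ∨
      2 * χ 1 = (Fintype.card F : ℂ) + 1 := by
  rcases constituent hχ β hne with h | h | ⟨χ₁, χ₂, e, hsum, hmem, hd12, hd, he⟩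
  · left; rw [← h, Rf_one]
  · rcases h with h | h
    · right; left; exact h
    · right; right; left; exact h
  · right; right; right
    rcases hmem with h | h
    · rw [h]; linear_combination hd - hd12
    · rw [h]; linear_combination hd + hd12

theorem main (hodd : Odd (Fintype.card F)) (hq : 5 ≤ Fintype.card F)
    (χ : SL2 → ℂ) (hχ : IsIrrCharacter SL2 χ) :
    (χ 1 = (Fintype.card F : ℂ) + 1 → ∑ t : F, χ (umat t) = 2 * (Fintype.card F : ℂ)) ∧
    (χ 1 = (Fintype.card F : ℂ) → ∑ t : F, χ (umat t) = (Fintype.card F : ℂ)) ∧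
    (χ 1 = (Fintype.card F : ℂ) - 1 → ∑ t : F, χ (umat t) = 0) ∧
    (χ 1 = (((Fintype.card F + 1) / 2 : ℕ) : ℂ) → ∑ t : F, χ (umat t) = (Fintype.card F : ℂ)) ∧
    (χ 1 = (((Fintype.card F - 1) / 2 : ℕ) : ℂ) → ∑ t : F, χ (umat t) = 0) := by
  classical
  haveI : Fintype (MulChar F ℂ) := Fintype.ofFinite _
  have hsum := sum_mult_gen hχ
  have hq0 := qne0 (F := F)
  have hchar : ringChar F ≠ 2 := by
    intro h
    have := FiniteField.even_card_of_char_two h
    obtain ⟨m, hm⟩ := hodd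
    omega
  have h2F : (2 : F) ≠ 0 := Ring.two_ne_zero hchar
  -- vanishing
  have hZ : (∀ β : MulChar F ℂ, classInner (Rf β) χ = 0) → ∑ t : F, χ (umat t) = 0 := by
    intro h
    rw [Finset.sum_congr rfl (fun β _ => h β), Finset.sum_const_zero] at hsum
    have h1 : conj (∑ t : F, χ (umat t)) = 0 := by
      rcases mul_eq_zero.mp hsum.symm with h' | h'
      · exact absurd (inv_eq_zero.mp h') hq0
      · exact h'
    exact (map_eq_zero _).mp h1
  have hE : ∑ t : F, χ (umat t) ≠ 0 → ∃ β : MulChar F ℂ, classInner (Rf β) χ ≠ 0 := by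
    intro h
    by_contra hcon
    exact h (hZ fun β => by_contra fun hβ => hcon ⟨β, hβ⟩)
  obtain ⟨m, hm⟩ := hodd
  have hm2 : 2 ≤ m := by omega
  have hqc : (Fintype.card F : ℂ) = 2 * (m : ℂ) + 1 := by rw [hm]; push_cast; ring
  refine ⟨?_, ?_, ?_, ?_, ?_⟩
  · -- degree q + 1
    intro hdeg
    have hS : ∑ t : F, χ (umat t) ≠ 0 := by
      intro hS
      obtain ⟨K, hK⟩ := cusp_arith ⟨m, hm⟩ (irr_isCharacter hχ) hS
      rw [hdeg, hqc] at hK
      have hKn : K * (2 * m) = 2 * (2 * m + 1 + 1) := by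
        have : (K : ℂ) * (2 * (m : ℂ)) = 2 * (2 * (m : ℂ) + 1 + 1) := by linear_combination hK
        exact_mod_cast this
      have hK3 : K ≤ 3 := by nlinarith
      have hm' : m = 2 := by
        interval_cases K
        · omega
        · omega
        · omega
        · omega
      have hq5 : Fintype.card F = 5 := by omega
      have hb := norm_bound h2F hχ hS
      have hG : Nat.card SL2 = 120 := by
        rw [Nat.card_eq_fintype_card, cardSL, cardB, hq5]
      rw [hdeg, hG, hq5] at hb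
      have h6 : Complex.normSq ((5 : ℕ) + 1 : ℂ) = 36 := by
        have : ((5 : ℕ) + 1 : ℂ) = ((6 : ℝ) : ℂ) := by push_cast; norm_num
        rw [this, Complex.normSq_ofReal]; norm_num
      rw [h6] at hb
      norm_num at hb
    obtain ⟨β, hβ⟩ := hE hS
    rcases constituent hχ β hβ with h | h | ⟨χ₁, χ₂, e, hsum12, hmem, hd12, hd, he⟩
    · rw [← h]; exact sum_Rf β
    · exfalso
      rw [hdeg, hqc] at h
      rcases h with h | h
      · have : (2 * m + 1 + 1 : ℕ) = 1 := by exact_mod_cast h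
        omega
      · have : (2 * m + 1 + 1 : ℕ) = 2 * m + 1 := by exact_mod_cast h
        omega
    · exfalso
      have h2 : 2 * χ 1 = (Fintype.card F : ℂ) + 1 := by
        rcases hmem with h | h
        · rw [h]; linear_combination hd - hd12
        · rw [h]; linear_combination hd + hd12
      rw [hdeg, hqc] at h2
      have : 2 * (2 * m + 1 + 1) = 2 * m + 1 + 1 := by exact_mod_cast h2
      omega
  · -- degree q
    intro hdeg
    rw [sum_split, umat_zero, hdeg,
      Finset.sum_congr rfl (fun u _ => vanish_unip hχ hdeg (Units.ne_zero u)),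
      Finset.sum_const_zero, add_zero]
  · -- degree q - 1
    intro hdeg
    apply hZ
    intro β
    by_contra hβ
    rw [hqc] at hdeg
    rcases deg_cases hχ β hβ with h | h | h | h <;> rw [hdeg] at h <;> try rw [hqc] at h
    · have : (2 * (m : ℂ)) = 2 * m + 1 + 1 := by linear_combination h
      have : 2 * m = 2 * m + 1 + 1 := by exact_mod_cast this
      omega
    · have : (2 * (m : ℂ)) = 1 := by linear_combination h
      have : 2 * m = 1 := by exact_mod_cast this
      omega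
    · have : (2 * (m : ℂ)) = 2 * m + 1 := by linear_combination h
      have : 2 * m = 2 * m + 1 := by exact_mod_cast this
      omega
    · have : (4 * (m : ℂ)) = 2 * m + 1 + 1 := by linear_combination h
      have : 4 * m = 2 * m + 1 + 1 := by exact_mod_cast this
      omega
  · -- degree (q + 1) / 2
    intro hdeg
    have hhalf : (Fintype.card F + 1) / 2 = m + 1 := by omega
    rw [hhalf] at hdeg
    have hS : ∑ t : F, χ (umat t) ≠ 0 := by
      intro hS
      obtain ⟨K, hK⟩ := cusp_arith ⟨m, hm⟩ (irr_isCharacter hχ) hS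
      rw [hdeg, hqc] at hK
      have hKn : K * (2 * m) = 2 * (m + 1) := by
        have : (K : ℂ) * (2 * (m : ℂ)) = 2 * ((m : ℂ) + 1) := by
          push_cast at hK; linear_combination hK
        exact_mod_cast this
      have hK1 : K ≤ 1 := by nlinarith
      interval_cases K
      · omega
      · omega
    obtain ⟨β, hβ⟩ := hE hS
    rcases constituent hχ β hβ with h | h | ⟨χ₁, χ₂, e, hsum12, hmem, hd12, hd, he⟩
    · exfalso
      have h1 := congrFun h 1
      rw [Rf_one, hdeg, hqc] at h1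
      have : 2 * m + 1 + 1 = m + 1 := by exact_mod_cast h1
      omega
    · exfalso
      rw [hdeg, hqc] at h
      rcases h with h | h
      · have : m + 1 = 1 := by exact_mod_cast h
        omega
      · have : m + 1 = 2 * m + 1 := by exact_mod_cast h
        omega
    · have hs12 : ∑ t : F, χ₁ (umat t) = ∑ t : F, χ₂ (umat t) := by
        have : ∀ t : F, χ₁ (umat t) = χ₂ (umat ((e : F) * t)) := by
          intro t
          rw [← he, cfun_umat]
        rw [Finset.sum_congr rfl (fun t _ => this t)]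
        exact Equiv.sum_comp (Equiv.mulLeft₀ (e : F) e.ne_zero) (fun t => χ₂ (umat t))
      have htot : ∑ t : F, χ₁ (umat t) + ∑ t : F, χ₂ (umat t) = 2 * (Fintype.card F : ℂ) := by
        rw [← Finset.sum_add_distrib, ← sum_Rf β, hsum12]
        rfl
      rcases hmem with h | h
      · rw [h]; linear_combination htot / 2 + hs12 / 2
      · rw [h]; linear_combination htot / 2 - hs12 / 2
  · -- degree (q - 1) / 2
    intro hdeg
    have hhalf : (Fintype.card F - 1) / 2 = m := by omega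
    rw [hhalf] at hdeg
    apply hZ
    intro β
    by_contra hβ
    rcases deg_cases hχ β hβ with h | h | h | h <;> rw [hdeg] at h <;> try rw [hqc] at h
    · have : m = 2 * m + 1 + 1 := by exact_mod_cast h
      omega
    · have : m = 1 := by exact_mod_cast h
      omega
    · have : m = 2 * m + 1 := by exact_mod_cast h
      omega
    · have : 2 * m = 2 * m + 1 + 1 := by exact_mod_cast h
      omega

/-- the sum over the unipotent subgroup as a sum over the field -/
lemma sum_convert (χ : SL2 → ℂ) :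
    (∑ g : SL2, if (g : Matrix (Fin 2) (Fin 2) F) 1 0 = 0 ∧
      (g : Matrix (Fin 2) (Fin 2) F) 0 0 = 1 ∧ (g : Matrix (Fin 2) (Fin 2) F) 1 1 = 1
      then χ g else 0) = ∑ t : F, χ (umat t) := by
  rw [← Finset.sum_filter]
  symm
  refine Finset.sum_bij (fun t _ => umat t) ?_ ?_ ?_ ?_
  · intro t _
    exact Finset.mem_filter.mpr ⟨Finset.mem_univ _, (mem_Usub _).mp (umat_mem t)⟩
  · intro a _ b _ h
    have := congrArg (fun g : SL2 => (g : Matrix (Fin 2) (Fin 2) F) 0 1) h
    simpa [umat_coe] using this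
  · intro g hg
    have hg' : g ∈ Usub F := (mem_Usub g).mpr (Finset.mem_filter.mp hg).2
    refine ⟨(g : Matrix (Fin 2) (Fin 2) F) 0 1, Finset.mem_univ _, ?_⟩
    exact congrArg Subtype.val (equivU.left_inv ⟨g, hg'⟩)
  · intro t _
    rfl

end Cfsg.Agent.S2438

namespace Cfsg.Agent.S2438

theorem result {F : Type*} [Field F] [Fintype F] [DecidableEq F] (hodd : Odd (Fintype.card F)) (hq : 5 ≤ Fintype.card F)
    (χ : Matrix.SpecialLinearGroup (Fin 2) F → ℂ) (hχ : Cfsg.IsIrrCharacter (Matrix.SpecialLinearGroup (Fin 2) F) χ) :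
    (χ 1 = (Fintype.card F : ℂ) + 1 →
      (∑ g : Matrix.SpecialLinearGroup (Fin 2) F, if (g : Matrix (Fin 2) (Fin 2) F) 1 0 = 0 ∧ (g : Matrix (Fin 2) (Fin 2) F) 0 0 = 1 ∧ (g : Matrix (Fin 2) (Fin 2) F) 1 1 = 1 then χ g else 0) = 2 * (Fintype.card F : ℂ)) ∧
    (χ 1 = (Fintype.card F : ℂ) →
      (∑ g : Matrix.SpecialLinearGroup (Fin 2) F, if (g : Matrix (Fin 2) (Fin 2) F) 1 0 = 0 ∧ (g : Matrix (Fin 2) (Fin 2) F) 0 0 = 1 ∧ (g : Matrix (Fin 2) (Fin 2) F) 1 1 = 1 then χ g else 0) = (Fintype.card F : ℂ)) ∧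
    (χ 1 = (Fintype.card F : ℂ) - 1 →
      (∑ g : Matrix.SpecialLinearGroup (Fin 2) F, if (g : Matrix (Fin 2) (Fin 2) F) 1 0 = 0 ∧ (g : Matrix (Fin 2) (Fin 2) F) 0 0 = 1 ∧ (g : Matrix (Fin 2) (Fin 2) F) 1 1 = 1 then χ g else 0) = 0) ∧
    (χ 1 = (((Fintype.card F + 1) / 2 : ℕ) : ℂ) →
      (∑ g : Matrix.SpecialLinearGroup (Fin 2) F, if (g : Matrix (Fin 2) (Fin 2) F) 1 0 = 0 ∧ (g : Matrix (Fin 2) (Fin 2) F) 0 0 = 1 ∧ (g : Matrix (Fin 2) (Fin 2) F) 1 1 = 1 then χ g else 0) = (Fintype.card F : ℂ)) ∧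
    (χ 1 = (((Fintype.card F - 1) / 2 : ℕ) : ℂ) →
      (∑ g : Matrix.SpecialLinearGroup (Fin 2) F, if (g : Matrix (Fin 2) (Fin 2) F) 1 0 = 0 ∧ (g : Matrix (Fin 2) (Fin 2) F) 0 0 = 1 ∧ (g : Matrix (Fin 2) (Fin 2) F) 1 1 = 1 then χ g else 0) = 0) := by
  have h := main hodd hq χ hχ
  rw [sum_convert]
  exact h

end Cfsg.Agent.S2438
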