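import Mathlib
import Cfsg.Statements.S2323
import Cfsg.Agent.S2438

set_option autoImplicit false

open Cfsg

namespace Cfsg.Agent.S2323

open Matrix ComplexConjugate Cfsg.Agent.S2433 Cfsg.Agent.S2432 Cfsg.Agent.S2307 Cfsg.Agent.S2321
  Cfsg.Agent.S2438 Cfsg.Agent.Lib.Helper8

variable {F : Type*} [Field F] [Fintype F] [DecidableEq F]

local notation "SL2" => SpecialLinearGroup (Fin 2) F

/-- the Fourier transform along a primitive additive character -/
noncomputable def Mt (ψ : AddChar F ℂ) (f : F → ℂ) (a : F) : ℂ := ∑ t : F, f t * conj (ψ (a * t))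

lemma fourier_zero {ψ : AddChar F ℂ} (hψ : ψ.IsPrimitive) (f : F → ℂ) :
    ∑ a : F, Mt ψ f a = (Fintype.card F : ℂ) * f 0 := by
  unfold Mt
  have h : ∀ t : F, ∑ a : F, f t * conj (ψ (a * t)) =
      if t = 0 then (Fintype.card F : ℂ) * f 0 else 0 := by
    intro t
    rw [← Finset.mul_sum, ← map_sum, AddChar.sum_mulShift t hψ]
    split_ifs with h
    · rw [h]; simp [mul_comm]
    · simp
  rw [Finset.sum_comm, Finset.sum_congr rfl (fun t _ => h t), Finset.sum_ite_eq' Finset.univ (0 : F)]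
  simp

lemma fourier_inv {ψ : AddChar F ℂ} (hψ : ψ.IsPrimitive) (f : F → ℂ) :
    ∑ a : F, Mt ψ f a * ψ a = (Fintype.card F : ℂ) * f 1 := by
  unfold Mt
  have key : ∀ a t : F, conj (ψ (a * t)) * ψ a = ψ (a * (1 - t)) := by
    intro a t
    rw [← AddChar.map_neg_eq_conj, ← AddChar.map_add_eq_mul]
    congr 1; ring
  have h : ∀ t : F, ∑ a : F, f t * conj (ψ (a * t)) * ψ a =
      if t = 1 then (Fintype.card F : ℂ) * f 1 else 0 := by
    intro t
    simp_rw [mul_assoc, key]
    rw [← Finset.mul_sum, AddChar.sum_mulShift (1 - t) hψ]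
    split_ifs with h1 h2 h2
    · rw [h2]; ring
    · exact absurd (sub_eq_zero.mp h1).symm h2
    · rw [h2] at h1; simp at h1
    · simp
  simp_rw [Finset.sum_mul]
  rw [Finset.sum_comm, Finset.sum_congr rfl (fun t _ => h t), Finset.sum_ite_eq' Finset.univ (1 : F)]
  simp

lemma parseval {ψ : AddChar F ℂ} (hψ : ψ.IsPrimitive) (f : F → ℂ) :
    ∑ a : F, Mt ψ f a * conj (Mt ψ f a) = (Fintype.card F : ℂ) * ∑ t : F, f t * conj (f t) := by
  have h1 : ∀ a : F, Mt ψ f a * conj (Mt ψ f a) =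
      ∑ t : F, ∑ s : F, f t * conj (f s) * ψ (a * (s - t)) := by
    intro a
    unfold Mt
    rw [map_sum, Finset.sum_mul_sum]
    apply Finset.sum_congr rfl; intro t _
    apply Finset.sum_congr rfl; intro s _
    rw [map_mul (starRingEnd ℂ) (f s) _, Complex.conj_conj, ← AddChar.map_neg_eq_conj]
    have : ψ (a * (s - t)) = ψ (-(a * t)) * ψ (a * s) := by
      rw [← AddChar.map_add_eq_mul]; congr 1; ring
    rw [this]; ring
  rw [Finset.sum_congr rfl (fun a _ => h1 a), Finset.sum_comm, Finset.mul_sum]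
  apply Finset.sum_congr rfl; intro t _
  rw [Finset.sum_comm]
  have h2 : ∀ s : F, ∑ a : F, f t * conj (f s) * ψ (a * (s - t)) =
      if s = t then (Fintype.card F : ℂ) * (f t * conj (f t)) else 0 := by
    intro s
    rw [← Finset.mul_sum, AddChar.sum_mulShift (s - t) hψ]
    split_ifs with h1 h2 h2
    · rw [h2]; ring
    · exact absurd (sub_eq_zero.mp h1) h2
    · rw [h2] at h1; simp at h1
    · simp
  rw [Finset.sum_congr rfl (fun s _ => h2 s), Finset.sum_ite_eq' Finset.univ t]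
  simp

/-- the squares dichotomy -/
lemma squares_dich (hodd : Odd (Fintype.card F)) :
    ∃ ε : F, ε ≠ 0 ∧ ∀ f : F → ℂ, (∀ (e : Fˣ) (t : F), f ((e : F) ^ 2 * t) = f t) →
      ∀ s : F, s ≠ 0 → (f s = f 1 ∧ f (ε * s) = f ε) ∨ (f s = f ε ∧ f (ε * s) = f 1) := by
  have hchar : ringChar F ≠ 2 := by
    intro h
    have := FiniteField.even_card_of_char_two h
    obtain ⟨m, hm⟩ := hodd
    omega
  obtain ⟨ε, hε⟩ := FiniteField.exists_nonsquare hchar
  have hε0 : ε ≠ 0 := by
    rintro rfl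
    exact hε ⟨0, by simp⟩
  refine ⟨ε, hε0, ?_⟩
  intro f hf s hs
  by_cases hsq : IsSquare s
  · left
    obtain ⟨r, hr⟩ := hsq
    have hr0 : r ≠ 0 := by
      rintro rfl
      simp at hr
      exact hs hr
    have h1 := hf (Units.mk0 r hr0) 1
    have h2 := hf (Units.mk0 r hr0) ε
    simp only [Units.val_mk0] at h1 h2
    have e1 : s = r ^ 2 * 1 := by rw [hr]; ring
    have e2 : ε * s = r ^ 2 * ε := by rw [hr]; ring
    rw [e2, h2]
    nth_rewrite 1 [e1]
    rw [h1]
    exact ⟨rfl, rfl⟩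
  · right
    have hqs : quadraticChar F s = -1 := quadraticChar_neg_one_iff_not_isSquare.mpr hsq
    have hqe : quadraticChar F ε = -1 := quadraticChar_neg_one_iff_not_isSquare.mpr hε
    have hprod : quadraticChar F (ε * s) = 1 := by
      rw [map_mul, hqs, hqe]; norm_num
    have hes : ε * s ≠ 0 := mul_ne_zero hε0 hs
    obtain ⟨r, hr⟩ := (quadraticChar_one_iff_isSquare hes).mp hprod
    have hr0 : r ≠ 0 := by
      rintro rfl
      simp at hr
      rcases hr with h | h
      · exact hε0 h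
      · exact hs h
    have h1 := hf (Units.mk0 r hr0) 1
    have h2 := hf (Units.mk0 (r / ε) (div_ne_zero hr0 hε0)) ε
    simp only [Units.val_mk0] at h1 h2
    have e1 : ε * s = r ^ 2 * 1 := by rw [hr]; ring
    have e2 : s = (r / ε) ^ 2 * ε := by
      field_simp
      rw [pow_two, ← hr]; ring
    rw [e1, h1]
    nth_rewrite 1 [e2]
    rw [h2]
    exact ⟨rfl, rfl⟩

/-- the norm inequality along the signed conjugates of the unipotent subgroup -/
lemma norm_le (h2 : (2 : F) ≠ 0) {χ : SL2 → ℂ} (hχ : IsIrrCharacter SL2 χ) :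
    2 * Complex.normSq (χ 1) +
      2 * ((Fintype.card F : ℝ) * ∑ t : Fˣ, Complex.normSq (χ (umat (t : F)))) ≤
      (Nat.card SL2 : ℝ) := by
  have hcf : IsClassFunction SL2 χ := isClassFunction_of_isCharacter (irr_isCharacter hχ)
  have hle := Cfsg.Agent.S2310.sum_le hχ (Phi (F := F)) (Phi_injective h2)
  rw [Fintype.sum_sum_type] at hle
  have e1 : ∀ b : Bool, Complex.normSq (χ (Phi (Sum.inl b))) = Complex.normSq (χ 1) := by
    intro b
    have := Cfsg.Agent.S2310.central_norm hχ (Zb_center (F := F) b) 1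
    rw [mul_one] at this
    exact this
  have e2 : ∀ x : Bool × F × Fˣ, Complex.normSq (χ (Phi (Sum.inr x))) =
      Complex.normSq (χ (umat (x.2.2 : F))) := by
    rintro ⟨b, c, t⟩
    show Complex.normSq (χ (Zb b * (lmat c * umat (t : F) * (lmat c)⁻¹))) = _
    rw [Cfsg.Agent.S2310.central_norm hχ (Zb_center (F := F) b), hcf]
  rw [Finset.sum_congr rfl (fun b _ => e1 b), Finset.sum_congr rfl (fun x _ => e2 x),
    Fintype.sum_prod_type] at hle
  simp only [Fintype.sum_prod_type, Finset.sum_const, Finset.card_univ, Fintype.card_bool,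
    nsmul_eq_mul] at hle
  push_cast at hle
  exact hle

/-- degree `q - 1`, odd `q`: the value at the transvection -/
lemma odd_minus (hodd : Odd (Fintype.card F)) (hq : 5 ≤ Fintype.card F) {χ : SL2 → ℂ}
    (hχ : IsIrrCharacter SL2 χ) (hdeg : χ 1 = (Fintype.card F : ℂ) - 1)
    (hS : ∑ t : F, χ (umat t) = 0) : χ (umat 1) = -1 := by
  have hchar : IsCharacter SL2 χ := irr_isCharacter hχ
  have hcf : IsClassFunction SL2 χ := isClassFunction_of_isCharacter hchar
  have hq0 := qne0 (F := F)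
  have hq1 := qne1 (F := F)
  have hcharF : ringChar F ≠ 2 := by
    intro h
    have := FiniteField.even_card_of_char_two h
    obtain ⟨m, hm⟩ := hodd
    omega
  have h2F : (2 : F) ≠ 0 := Ring.two_ne_zero hcharF
  obtain ⟨ψ, hψ⟩ := (AddChar.exists_apply_ne_zero (α := F) (a := 1)).mpr one_ne_zero
  have hψ1 : ψ ≠ 1 := by
    intro h
    apply hψ
    rw [h]; rfl
  have hprim : ψ.IsPrimitive := AddChar.IsPrimitive.of_ne_one hψ1
  obtain ⟨f, hf⟩ : ∃ f : F → ℂ, f = fun t => χ (umat t) := ⟨_, rfl⟩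
  have hfa : ∀ t, f t = χ (umat t) := fun t => by rw [hf]
  have hfsq : ∀ (e : Fˣ) (t : F), f ((e : F) ^ 2 * t) = f t := by
    intro e t
    rw [hfa, hfa]
    exact umat_sq_conj hcf e t
  have hf0 : f 0 = (Fintype.card F : ℂ) - 1 := by rw [hfa, umat_zero, hdeg]
  obtain ⟨M, hM⟩ : ∃ M : F → ℂ, M = Mt ψ f := ⟨_, rfl⟩
  have hMa : ∀ a, M a = ∑ t : F, f t * conj (ψ (a * t)) := fun a => by rw [hM]; rfl
  have hMnat : ∀ a : F, ∃ k : ℕ, M a = (Fintype.card F : ℂ) * k := by
    intro a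
    obtain ⟨k, hk⟩ := mult_nat (AddChar.mulShift ψ a) hchar
    simp only [AddChar.mulShift_apply] at hk
    refine ⟨k, ?_⟩
    rw [hMa, ← hk]
    apply Finset.sum_congr rfl
    intro t _
    rw [hfa]
  have hMsq : ∀ (e : Fˣ) (a : F), M ((e : F) ^ 2 * a) = M a := by
    intro e a
    rw [hMa, hMa]
    have he2 : (e : F) ^ 2 ≠ 0 := pow_ne_zero 2 e.ne_zero
    rw [← Equiv.sum_comp (Equiv.mulLeft₀ ((e : F) ^ 2) he2) (fun t => f t * conj (ψ (a * t)))]
    apply Finset.sum_congr rfl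
    intro t _
    show f t * conj (ψ ((e : F) ^ 2 * a * t)) =
      f ((e : F) ^ 2 * t) * conj (ψ (a * ((e : F) ^ 2 * t)))
    rw [hfsq]
    congr 3; ring
  have hM0 : M 0 = 0 := by
    rw [hMa]
    simp only [zero_mul, AddChar.map_zero_eq_one, map_one, mul_one]
    rw [← hS]
    apply Finset.sum_congr rfl
    intro t _
    rw [hfa]
  obtain ⟨ε, hε0, hdich⟩ := squares_dich hodd
  obtain ⟨k₁, hk₁⟩ := hMnat 1
  obtain ⟨k₂, hk₂⟩ := hMnat ε
  have hMd := hdich M hMsq
  obtain ⟨εu, hεu⟩ : ∃ εu : Fˣ, (εu : F) = ε := ⟨Units.mk0 ε hε0, rfl⟩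
  have hcardu : (Fintype.card Fˣ : ℂ) = (Fintype.card F : ℂ) - 1 := by
    rw [Fintype.card_units, Nat.cast_sub Fintype.card_pos]; simp
  have pair : ∀ (g : F → ℂ) (c : ℂ), (∀ s : F, s ≠ 0 → g s + g (ε * s) = c) →
      2 * ∑ u : Fˣ, g (u : F) = ((Fintype.card F : ℂ) - 1) * c := by
    intro g c hg
    have hshift : ∑ u : Fˣ, g (ε * (u : F)) = ∑ u : Fˣ, g (u : F) := by
      apply Fintype.sum_equiv (Equiv.mulLeft εu)
      intro u
      simp [hεu]
    have : ∑ u : Fˣ, (g (u : F) + g (ε * (u : F))) = ((Fintype.card F : ℂ) - 1) * c := by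
      rw [Finset.sum_congr rfl (fun (u : Fˣ) _ => hg (u : F) u.ne_zero), Finset.sum_const,
        Finset.card_univ, nsmul_eq_mul, hcardu]
    rw [Finset.sum_add_distrib, hshift] at this
    linear_combination this
  -- k₁ + k₂ = 2
  have hsum1 : ∀ s : F, s ≠ 0 → M s + M (ε * s) = M 1 + M ε := by
    intro s hs
    rcases hMd s hs with ⟨h1, h2⟩ | ⟨h1, h2⟩
    · rw [h1, h2]
    · rw [h1, h2]; ring
  have hp1 := pair M _ hsum1
  have hF0 := fourier_zero hprim f
  rw [← hM, sum_split, hM0, zero_add, hf0] at hF0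
  rw [hF0, hk₁, hk₂] at hp1
  have hk12 : k₁ + k₂ = 2 := by
    have : ((k₁ : ℂ) + k₂) = 2 := by
      apply mul_left_cancel₀ hq0
      apply mul_left_cancel₀ hq1
      linear_combination -hp1
    exact_mod_cast this
  -- Parseval
  have hsum2 : ∀ s : F, s ≠ 0 → M s * conj (M s) + M (ε * s) * conj (M (ε * s)) =
      M 1 * conj (M 1) + M ε * conj (M ε) := by
    intro s hs
    rcases hMd s hs with ⟨h1, h2⟩ | ⟨h1, h2⟩
    · rw [h1, h2]
    · rw [h1, h2]; ring
  have hp2 := pair (fun a => M a * conj (M a)) _ hsum2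
  beta_reduce at hp2
  have hPa := parseval hprim f
  rw [← hM, sum_split (fun a => M a * conj (M a)), hM0, zero_mul, zero_add,
    sum_split (fun t => f t * conj (f t)), hf0] at hPa
  obtain ⟨T, hT⟩ : ∃ T : ℝ, T = ∑ t : Fˣ, Complex.normSq (χ (umat (t : F))) := ⟨_, rfl⟩
  have hTc : ∑ u : Fˣ, f (u : F) * conj (f (u : F)) = (T : ℂ) := by
    rw [hT, Complex.ofReal_sum]
    apply Finset.sum_congr rfl
    intro u _
    rw [hfa, Complex.mul_conj]
  rw [hTc] at hPa
  rw [hPa, hk₁, hk₂] at hp2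
  have hPar : ((Fintype.card F : ℂ) - 1) *
      ((Fintype.card F : ℂ) ^ 2 * ((k₁ : ℂ) ^ 2 + (k₂ : ℂ) ^ 2)) =
      2 * ((Fintype.card F : ℂ) * (((Fintype.card F : ℂ) - 1) ^ 2 + T)) := by
    simp only [map_mul, map_sub, map_natCast, map_one] at hp2
    linear_combination -hp2
  have hParR : ((Fintype.card F : ℝ) - 1) *
      ((Fintype.card F : ℝ) ^ 2 * ((k₁ : ℝ) ^ 2 + (k₂ : ℝ) ^ 2)) =
      2 * ((Fintype.card F : ℝ) * (((Fintype.card F : ℝ) - 1) ^ 2 + T)) := by
    exact_mod_cast hPar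
  -- the norm inequality
  have hN := norm_le h2F hχ
  rw [← hT] at hN
  have hnsq : Complex.normSq (χ 1) = ((Fintype.card F : ℝ) - 1) ^ 2 := by
    have : χ 1 = (((Fintype.card F : ℝ) - 1 : ℝ) : ℂ) := by rw [hdeg]; push_cast; ring
    rw [this, Complex.normSq_ofReal]; ring
  have hG : (Nat.card SL2 : ℝ) = ((Fintype.card F : ℝ) + 1) *
      ((Fintype.card F : ℝ) * ((Fintype.card F : ℝ) - 1)) := by
    rw [Nat.card_eq_fintype_card, cardSL, cardB]
    push_cast [Nat.cast_sub Fintype.card_pos]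
    ring
  rw [hnsq, hG] at hN
  have hq5 : (5 : ℝ) ≤ (Fintype.card F : ℝ) := by exact_mod_cast hq
  have hk : k₁ = 1 ∧ k₂ = 1 := by
    have h1 : k₁ ≤ 2 := by omega
    interval_cases k₁
    · exfalso
      have : k₂ = 2 := by omega
      subst this
      norm_num at hParR
      nlinarith
    · exact ⟨rfl, by omega⟩
    · exfalso
      have : k₂ = 0 := by omega
      subst this
      norm_num at hParR
      nlinarith
  obtain ⟨rfl, rfl⟩ := hk
  -- all Fourier coefficients are equal to q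
  have hall : ∀ u : Fˣ, M (u : F) = (Fintype.card F : ℂ) := by
    intro u
    rcases hMd u u.ne_zero with ⟨h1, _⟩ | ⟨h1, _⟩
    · rw [h1, hk₁]; simp
    · rw [h1, hk₂]; simp
  have hFi := fourier_inv hprim f
  rw [← hM, sum_split (fun a => M a * ψ a), hM0, zero_mul, zero_add,
    Finset.sum_congr rfl (fun u _ => by rw [hall u]), ← Finset.mul_sum] at hFi
  have hψsum : ∑ u : Fˣ, ψ (u : F) = -1 := by
    have h := AddChar.sum_eq_zero_of_ne_one hψ1
    rw [sum_split (fun a => ψ a)] at h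
    simp only [AddChar.map_zero_eq_one] at h
    linear_combination h
  rw [hψsum] at hFi
  rw [← hfa]
  apply mul_left_cancel₀ hq0
  rw [← hFi]

lemma S_zero_of_all_zero {χ : SL2 → ℂ} (hχ : IsIrrCharacter SL2 χ)
    (h : ∀ β : MulChar F ℂ, classInner (Rf β) χ = 0) : ∑ t : F, χ (umat t) = 0 := by
  classical
  haveI : Fintype (MulChar F ℂ) := Fintype.ofFinite _
  have hsum := sum_mult_gen hχ
  have hq0 := qne0 (F := F)
  rw [Finset.sum_congr rfl (fun β _ => h β), Finset.sum_const_zero] at hsum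
  have h1 : conj (∑ t : F, χ (umat t)) = 0 := by
    rcases mul_eq_zero.mp hsum.symm with h' | h'
    · exact absurd (inv_eq_zero.mp h') hq0
    · exact h'
  exact (map_eq_zero _).mp h1

lemma exists_of_S_ne {χ : SL2 → ℂ} (hχ : IsIrrCharacter SL2 χ)
    (h : ∑ t : F, χ (umat t) ≠ 0) : ∃ β : MulChar F ℂ, classInner (Rf β) χ ≠ 0 := by
  by_contra hcon
  exact h (S_zero_of_all_zero hχ fun β => by_contra fun hβ => hcon ⟨β, hβ⟩)

/-- degree `q - 1` characters are cuspidal -/
lemma minus_cusp (hq : 4 ≤ Fintype.card F) {χ : SL2 → ℂ} (hχ : IsIrrCharacter SL2 χ)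
    (hdeg : χ 1 = (Fintype.card F : ℂ) - 1) : ∑ t : F, χ (umat t) = 0 := by
  apply S_zero_of_all_zero hχ
  intro β
  by_contra hβ
  obtain ⟨n, hn⟩ : ∃ n : ℕ, Fintype.card F = n + 4 := ⟨Fintype.card F - 4, by omega⟩
  have hqc : (Fintype.card F : ℂ) = (n : ℂ) + 4 := by rw [hn]; push_cast; ring
  rcases deg_cases hχ β hβ with h | h | h | h <;> rw [hdeg] at h <;> rw [hqc] at h
  · have : ((n : ℂ) + 3) = n + 5 := by linear_combination h
    have : n + 3 = n + 5 := by exact_mod_cast this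
    omega
  · have : ((n : ℂ) + 3) = 1 := by linear_combination h
    have : n + 3 = 1 := by exact_mod_cast this
    omega
  · have : ((n : ℂ) + 3) = n + 4 := by linear_combination h
    have : n + 3 = n + 4 := by exact_mod_cast this
    omega
  · have : (2 * ((n : ℂ) + 3)) = n + 5 := by linear_combination h
    have : 2 * (n + 3) = n + 5 := by exact_mod_cast this
    omega

/-- degree `q + 1` non-cuspidal characters take the value `1` at the transvection -/
lemma plus_value (hq : 4 ≤ Fintype.card F) {χ : SL2 → ℂ} (hχ : IsIrrCharacter SL2 χ)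
    (hdeg : χ 1 = (Fintype.card F : ℂ) + 1) (hS : ∑ t : F, χ (umat t) ≠ 0) :
    χ (umat 1) = 1 := by
  obtain ⟨β, hβ⟩ := exists_of_S_ne hχ hS
  obtain ⟨n, hn⟩ : ∃ n : ℕ, Fintype.card F = n + 4 := ⟨Fintype.card F - 4, by omega⟩
  have hqc : (Fintype.card F : ℂ) = (n : ℂ) + 4 := by rw [hn]; push_cast; ring
  rcases constituent hχ β hβ with h | h | ⟨χ₁, χ₂, e, hsum12, hmem, hd12, hd, he⟩
  · rw [← h]
    have h3 := case3 β (umat (1 : F)) (by simp [umat_coe]) (by simp [umat_coe])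
      (by simp [umat_coe])
    have h3' : Rf β (umat (1 : F)) =
      β (((umat (1 : F) : SL2) : Matrix (Fin 2) (Fin 2) F) 0 0) := h3
    rw [h3']
    simp [umat_coe]
  · exfalso
    rw [hdeg, hqc] at h
    rcases h with h | h
    · have : n + 4 + 1 = 1 := by exact_mod_cast h
      omega
    · have : n + 4 + 1 = n + 4 := by exact_mod_cast h
      omega
  · exfalso
    have h2 : 2 * χ 1 = (Fintype.card F : ℂ) + 1 := by
      rcases hmem with h | h
      · rw [h]; linear_combination hd - hd12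
      · rw [h]; linear_combination hd + hd12
    rw [hdeg, hqc] at h2
    have : 2 * (n + 4 + 1) = n + 4 + 1 := by exact_mod_cast h2
    omega

/-- in characteristic two all non-trivial unipotent elements are conjugate -/
lemma even_const (heven : ringChar F = 2) {χ : SL2 → ℂ} (hcf : IsClassFunction SL2 χ) (t : F)
    (ht : t ≠ 0) : χ (umat t) = χ (umat 1) := by
  obtain ⟨r, hr⟩ := FiniteField.isSquare_of_char_two heven t
  have hr0 : r ≠ 0 := by
    rintro rfl
    simp at hr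
    exact ht hr
  have := umat_sq_conj hcf (Units.mk0 r hr0) 1
  simp only [Units.val_mk0] at this
  rw [← this]
  congr 2
  rw [hr]; ring

lemma even_sum (heven : ringChar F = 2) {χ : SL2 → ℂ} (hcf : IsClassFunction SL2 χ) :
    ∑ t : F, χ (umat t) = χ 1 + ((Fintype.card F : ℂ) - 1) * χ (umat 1) := by
  rw [sum_split, umat_zero,
    Finset.sum_congr rfl (fun (u : Fˣ) _ => even_const heven hcf (u : F) u.ne_zero),
    Finset.sum_const, Finset.card_univ, Fintype.card_units, nsmul_eq_mul,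
    Nat.cast_sub Fintype.card_pos]
  simp

lemma even_plus_ne (heven : ringChar F = 2) (hq : 4 ≤ Fintype.card F) {χ : SL2 → ℂ}
    (hχ : IsIrrCharacter SL2 χ) (hdeg : χ 1 = (Fintype.card F : ℂ) + 1) :
    ∑ t : F, χ (umat t) ≠ 0 := by
  intro hS
  have hchar : IsCharacter SL2 χ := irr_isCharacter hχ
  have hcf : IsClassFunction SL2 χ := isClassFunction_of_isCharacter hchar
  rw [even_sum heven hcf, hdeg] at hS
  obtain ⟨ψ, hψ⟩ := (AddChar.exists_apply_ne_zero (α := F) (a := 1)).mpr one_ne_zero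
  have hψ1 : ψ ≠ 1 := by
    intro h
    apply hψ
    rw [h]; rfl
  obtain ⟨k, hk⟩ := int_lemma ψ hψ1 hchar (χ (umat 1)) (fun a ha => even_const heven hcf a ha)
  rw [hdeg] at hk
  have hq0 := qne0 (F := F)
  obtain ⟨n, hn⟩ : ∃ n : ℕ, Fintype.card F = n + 4 := ⟨Fintype.card F - 4, by omega⟩
  have hqc : (Fintype.card F : ℂ) = (n : ℂ) + 4 := by rw [hn]; push_cast; ring
  have hkey : (Fintype.card F : ℂ) + 1 = (k : ℂ) * ((Fintype.card F : ℂ) - 1) := by
    apply mul_left_cancel₀ hq0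
    linear_combination ((Fintype.card F : ℂ) - 1) * hk + hS
  rw [hqc] at hkey
  have hkn : n + 4 + 1 = k * (n + 3) := by
    have : ((n : ℂ) + 4 + 1) = (k : ℂ) * ((n : ℂ) + 3) := by linear_combination hkey
    exact_mod_cast this
  have hk1 : k ≤ 1 := by nlinarith
  interval_cases k
  · omega
  · omega

theorem main (hq : 4 ≤ Fintype.card F) (χ : SL2 → ℂ) (hχ : IsIrrCharacter SL2 χ) :
    (χ 1 = (Fintype.card F : ℂ) + 1 → χ (umat 1) = 1) ∧
    (χ 1 = (Fintype.card F : ℂ) - 1 → χ (umat 1) = -1) := by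
  have hchar : IsCharacter SL2 χ := irr_isCharacter hχ
  have hcf : IsClassFunction SL2 χ := isClassFunction_of_isCharacter hchar
  have hq0 := qne0 (F := F)
  have hq1 := qne1 (F := F)
  rcases Nat.even_or_odd (Fintype.card F) with heven | hodd
  · have hc2 : ringChar F = 2 := FiniteField.even_card_iff_char_two.mpr (Nat.even_iff.mp heven)
    refine ⟨fun hdeg => plus_value hq hχ hdeg (even_plus_ne hc2 hq hχ hdeg), fun hdeg => ?_⟩
    have hS := minus_cusp hq hχ hdeg
    rw [even_sum hc2 hcf, hdeg] at hS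
    apply mul_left_cancel₀ hq1
    linear_combination hS
  · have hq5 : 5 ≤ Fintype.card F := by
      obtain ⟨m, hm⟩ := hodd
      omega
    refine ⟨fun hdeg => plus_value hq hχ hdeg ?_, fun hdeg => ?_⟩
    · rw [(Cfsg.Agent.S2438.main hodd hq5 χ hχ).1 hdeg]
      exact mul_ne_zero two_ne_zero hq0
    · exact odd_minus hodd hq5 hχ hdeg (minus_cusp hq hχ hdeg)

end Cfsg.Agent.S2323

namespace Cfsg.Agent.S2323

open Matrix Cfsg.Agent.S2307

theorem result {F : Type*} [Field F] [Fintype F] (hq : 4 ≤ Fintype.card F) (χ : Matrix.SpecialLinearGroup (Fin 2) F → ℂ) (hχ : Cfsg.IsIrrCharacter (Matrix.SpecialLinearGroup (Fin 2) F) χ)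
    (u : Matrix.SpecialLinearGroup (Fin 2) F) (hu : (u : Matrix (Fin 2) (Fin 2) F) = !![1, 1; 0, 1]) :
    (χ 1 = (Fintype.card F : ℂ) + 1 → χ u = 1) ∧ (χ 1 = (Fintype.card F : ℂ) - 1 → χ u = -1) := by
  classical
  have hu' : u = umat 1 := by
    apply Subtype.ext
    rw [hu, umat_coe]
  rw [hu']
  exact main hq χ hχ

end Cfsg.Agent.S2323
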