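import Mathlib
import Cfsg.Statements.S2322
import Cfsg.Agent.S2323

set_option autoImplicit false

open Cfsg

namespace Cfsg.Agent.S2322

open Matrix ComplexConjugate Cfsg.Agent.S2433 Cfsg.Agent.S2432 Cfsg.Agent.S2307 Cfsg.Agent.S2321
  Cfsg.Agent.S2438 Cfsg.Agent.S2323 Cfsg.Agent.Lib.Helper8

variable {F : Type*} [Field F] [Fintype F] [DecidableEq F]

local notation "SL2" => SpecialLinearGroup (Fin 2) F

/-- central elements act by scalars on irreducible characters -/
lemma central_mul {G : Type*} [Group G] [Finite G] {χ : G → ℂ} (hχ : IsIrrCharacter G χ) {z : G}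
    (hz : z ∈ Subgroup.center G) : ∃ c : ℂ, ∀ g : G, χ (z * g) = c * χ g := by
  obtain ⟨n, ρ, hρ, rfl⟩ := hχ
  obtain ⟨c, hc⟩ := central_scalar hρ hz
  have hρz : ρ z = c • (LinearMap.id : (Fin n → ℂ) →ₗ[ℂ] (Fin n → ℂ)) :=
    LinearMap.ext fun v => by rw [hc v]; rfl
  refine ⟨c, fun g => ?_⟩
  show LinearMap.trace ℂ _ (ρ (z * g)) = c * LinearMap.trace ℂ _ (ρ g)
  rw [map_mul, hρz, smul_mul_assoc, map_smul, smul_eq_mul]
  rfl

/-- Borel elements with distinct eigenvalues are conjugate to diagonal elements -/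
lemma borel_conj {χ : SL2 → ℂ} (hcf : IsClassFunction SL2 χ) (u : Fˣ) (hu : (u : F) ^ 2 ≠ 1)
    (t : F) : χ ((equivB.symm (u, t) : Bsub F) : SL2) = χ ((equivB.symm (u, 0) : Bsub F) : SL2) := by
  have hu0 : (u : F) ≠ 0 := u.ne_zero
  have hd : ((u : F))⁻¹ - u ≠ 0 := by
    intro h
    apply hu
    have : (u : F)⁻¹ = u := sub_eq_zero.mp h
    field_simp at this
    exact this.symm
  have h : ((equivB.symm (u, t) : Bsub F) : SL2) =
      umat (t / ((u : F)⁻¹ - u)) * ((equivB.symm (u, 0) : Bsub F) : SL2) *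
        (umat (t / ((u : F)⁻¹ - u)))⁻¹ := by
    rw [eq_mul_inv_iff_mul_eq]
    apply Subtype.ext
    rw [Matrix.SpecialLinearGroup.coe_mul, Matrix.SpecialLinearGroup.coe_mul, equivB_symm_coe,
      equivB_symm_coe, umat_coe]
    ext i j
    fin_cases i <;> fin_cases j <;>
      simp [Matrix.mul_apply, Fin.sum_univ_two, Units.val_inv_eq_inv_val]
    field_simp
    ring
  rw [h, hcf]

/-- the sum over the `-1`-coset of the unipotent subgroup -/
lemma neg_coset_sum {χ : SL2 → ℂ} (hχ : IsIrrCharacter SL2 χ) (hS : ∑ t : F, χ (umat t) = 0) :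
    ∑ t : F, χ ((equivB.symm ((-1 : Fˣ), t) : Bsub F) : SL2) = 0 := by
  obtain ⟨c, hc⟩ := central_mul hχ (Zb_center (F := F) true)
  have h : ∀ t : F, ((equivB.symm ((-1 : Fˣ), t) : Bsub F) : SL2) = Zb true * umat (-t) := by
    intro t
    apply Subtype.ext
    rw [Matrix.SpecialLinearGroup.coe_mul, equivB_symm_coe, Zb_coe, umat_coe]
    ext i j
    fin_cases i <;> fin_cases j <;> simp [Matrix.mul_apply, Fin.sum_univ_two, sg]
  simp_rw [h, hc]
  have hneg : ∑ t : F, χ (umat (-t)) = ∑ t : F, χ (umat t) :=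
    Equiv.sum_comp (Equiv.neg F) (fun t => χ (umat t))
  rw [← Finset.mul_sum, hneg, hS, mul_zero]

/-- cuspidal characters vanish on the split torus -/
lemma torus_vanish {χ : SL2 → ℂ} (hχ : IsIrrCharacter SL2 χ)
    (hall : ∀ β : MulChar F ℂ, classInner (Rf β) χ = 0) (a : Fˣ) (ha : (a : F) ^ 2 ≠ 1) :
    χ ((equivB.symm (a, 0) : Bsub F) : SL2) = 0 := by
  classical
  haveI : Fintype (MulChar F ℂ) := Fintype.ofFinite _
  haveI : Fintype (Bsub F) := Fintype.ofFinite _
  have hcf : IsClassFunction SL2 χ := isClassFunction_of_isCharacter (irr_isCharacter hχ)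
  have hS := S_zero_of_all_zero hχ hall
  have hq0 := qne0 (F := F)
  have hq1 := qne1 (F := F)
  have h1 : ∀ β : MulChar F ℂ, classInner (Rf β) χ = (Nat.card (Bsub F) : ℂ)⁻¹ *
      ∑ ut : Fˣ × F, β (ut.1 : F) * conj (χ ((equivB.symm ut : Bsub F) : SL2)) := by
    intro β
    show classInner (Cfsg.indFun (Bsub F) _) χ = _
    rw [frobenius_reciprocity (Bsub F) _ _ hcf]
    unfold classInner
    congr 1
    rw [← Equiv.sum_comp (equivB (F := F)).symm]
    apply Finset.sum_congr rfl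
    rintro ⟨u, t⟩ _
    beta_reduce
    rw [equivB_symm_coe]
    simp
  obtain ⟨H, hH⟩ : ∃ H : Fˣ → ℂ, H = fun (u : Fˣ) => if (u : F) ^ 2 ≠ 1 then
      conj (χ ((equivB.symm (u, 0) : Bsub F) : SL2)) else 0 := ⟨_, rfl⟩
  have hinner : ∀ u : Fˣ, ∑ t : F, conj (χ ((equivB.symm (u, t) : Bsub F) : SL2)) =
      (Fintype.card F : ℂ) * H u := by
    intro u
    rw [hH]
    beta_reduce
    split_ifs with hu
    · rw [Finset.sum_congr rfl (fun t _ => by rw [borel_conj hcf u hu t]), Finset.sum_const,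
        Finset.card_univ, nsmul_eq_mul]
    · rw [not_not] at hu
      rw [← map_sum, mul_zero]
      have hu' : (u : F) * u = 1 := by rw [← pow_two]; exact hu
      rcases mul_self_eq_one_iff.mp hu' with h | h
      · have : u = 1 := Units.ext h
        subst this
        have he : ∀ t : F, ((equivB.symm ((1 : Fˣ), t) : Bsub F) : SL2) = umat t := by
          intro t
          apply Subtype.ext
          rw [equivB_symm_coe, umat_coe]
          simp
        simp_rw [he]
        rw [hS, map_zero]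
      · have : u = -1 := Units.ext (by rw [h]; simp)
        subst this
        rw [neg_coset_sum hχ hS, map_zero]
  have hβ : ∀ β : MulChar F ℂ, ∑ u : Fˣ, β (u : F) * H u = 0 := by
    intro β
    have h2 := h1 β
    rw [hall β, Fintype.sum_prod_type] at h2
    simp_rw [← Finset.mul_sum, hinner] at h2
    have h3 : ∑ u : Fˣ, β (u : F) * ((Fintype.card F : ℂ) * H u) = 0 := by
      rcases mul_eq_zero.mp h2.symm with h | h
      · exact absurd (inv_eq_zero.mp h) cardB_ne_zero
      · exact h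
    apply mul_left_cancel₀ hq0
    rw [mul_zero, Finset.mul_sum, ← h3]
    apply Finset.sum_congr rfl
    intro u _
    ring
  have hfin : ∑ β : MulChar F ℂ, β ((a⁻¹ : Fˣ) : F) * ∑ u : Fˣ, β (u : F) * H u = 0 := by
    rw [Finset.sum_congr rfl (fun β _ => by rw [hβ β, mul_zero]), Finset.sum_const_zero]
  simp_rw [Finset.mul_sum] at hfin
  rw [Finset.sum_comm] at hfin
  have hterm : ∀ u : Fˣ, ∑ β : MulChar F ℂ, β ((a⁻¹ : Fˣ) : F) * (β (u : F) * H u) =
      if u = a then ((Fintype.card F : ℂ) - 1) * H a else 0 := by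
    intro u
    have : ∀ β : MulChar F ℂ, β ((a⁻¹ : Fˣ) : F) * (β (u : F) * H u) =
        β (((a⁻¹ : Fˣ) : F) * (u : F)) * H u := by
      intro β
      rw [map_mul]; ring
    simp_rw [this]
    rw [← Finset.sum_mul, sum_mulchar]
    split_ifs with h1 h2 h2
    · rw [h2]
    · exfalso
      apply h2
      have : a⁻¹ * u = 1 := Units.ext (by rw [Units.val_mul]; exact h1)
      exact (inv_mul_eq_one.mp this).symm
    · exfalso
      apply h1
      rw [h2, ← Units.val_mul, inv_mul_cancel, Units.val_one]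
    · simp
  rw [Finset.sum_congr rfl (fun u _ => hterm u), Finset.sum_ite_eq' Finset.univ a] at hfin
  simp only [Finset.mem_univ, if_true] at hfin
  have hHa : H a = 0 := by
    rcases mul_eq_zero.mp hfin with h | h
    · exact absurd h hq1
    · exact h
  rw [hH] at hHa
  beta_reduce at hHa
  rw [if_pos ha] at hHa
  exact (map_eq_zero _).mp hHa

/-- elements without eigenvectors: the discriminant does not vanish -/
lemma ell_disc (h2 : (2 : F) ≠ 0) (g : SL2)
    (hell : ∀ (c : F) (v : Fin 2 → F), v ≠ 0 → (g : Matrix (Fin 2) (Fin 2) F).mulVec v ≠ c • v) :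
    ((g : Matrix (Fin 2) (Fin 2) F) 0 0 - (g : Matrix (Fin 2) (Fin 2) F) 1 1) ^ 2 +
      4 * (g : Matrix (Fin 2) (Fin 2) F) 0 1 * (g : Matrix (Fin 2) (Fin 2) F) 1 0 ≠ 0 := by
  intro hD
  by_cases hr : (g : Matrix (Fin 2) (Fin 2) F) 0 1 = 0
  · apply hell ((g : Matrix (Fin 2) (Fin 2) F) 1 1) ![0, 1]
    · intro hv
      have := congrFun hv 1
      simp at this
    · ext i
      fin_cases i
      · simp [Matrix.mulVec, dotProduct, Fin.sum_univ_two, hr]
      · simp [Matrix.mulVec, dotProduct, Fin.sum_univ_two]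
  · apply hell (((g : Matrix (Fin 2) (Fin 2) F) 0 0 + (g : Matrix (Fin 2) (Fin 2) F) 1 1) / 2)
      ![2 * (g : Matrix (Fin 2) (Fin 2) F) 0 1,
        (g : Matrix (Fin 2) (Fin 2) F) 1 1 - (g : Matrix (Fin 2) (Fin 2) F) 0 0]
    · intro hv
      have := congrFun hv 0
      simp at this
      rcases this with h | h
      · exact h2 h
      · exact hr h
    · ext i
      fin_cases i
      · simp [Matrix.mulVec, dotProduct, Fin.sum_univ_two]
        field_simp
        ring
      · simp [Matrix.mulVec, dotProduct, Fin.sum_univ_two]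
        field_simp
        linear_combination hD

/-- on elements without eigenvectors, conjugation by `diag(e, 1)` is inner -/
lemma ell_conj (hodd : Odd (Fintype.card F)) {χ : SL2 → ℂ} (hcf : IsClassFunction SL2 χ)
    (g : SL2)
    (hell : ∀ (c : F) (v : Fin 2 → F), v ≠ 0 → (g : Matrix (Fin 2) (Fin 2) F).mulVec v ≠ c • v)
    (e : Fˣ) : χ (cfun e g) = χ g := by
  have hchar : ringChar F ≠ 2 := by
    intro h
    have := FiniteField.even_card_of_char_two h
    obtain ⟨m, hm⟩ := hodd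
    omega
  have h2F : (2 : F) ≠ 0 := Ring.two_ne_zero hchar
  have hD := ell_disc h2F g hell
  obtain ⟨D, hDdef⟩ : ∃ D : F, D = ((g : Matrix (Fin 2) (Fin 2) F) 0 0 -
      (g : Matrix (Fin 2) (Fin 2) F) 1 1) ^ 2 +
      4 * (g : Matrix (Fin 2) (Fin 2) F) 0 1 * (g : Matrix (Fin 2) (Fin 2) F) 1 0 := ⟨_, rfl⟩
  rw [← hDdef] at hD
  have hcard : Fintype.card F % 2 = 1 := Nat.odd_iff.mp hodd
  obtain ⟨a, b, hab⟩ := FiniteField.exists_root_sum_quadratic
    (f := (Polynomial.X : Polynomial F) ^ 2 - Polynomial.C (((e⁻¹ : Fˣ) : F)))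
    (g := Polynomial.C (-D) * (Polynomial.X : Polynomial F) ^ 2)
    (Polynomial.degree_X_pow_sub_C (by decide) _)
    (Polynomial.degree_C_mul_X_pow 2 (neg_ne_zero.mpr hD)) hcard
  simp only [Polynomial.eval_sub, Polynomial.eval_pow, Polynomial.eval_X, Polynomial.eval_C,
    Polynomial.eval_mul] at hab
  have he : (e : F) * ((e⁻¹ : Fˣ) : F) = 1 := by
    rw [← Units.val_mul, mul_inv_cancel, Units.val_one]
  obtain ⟨x, hx⟩ : ∃ x : SL2, (x : Matrix (Fin 2) (Fin 2) F) =
      !![(e : F) * (a + b * ((g : Matrix (Fin 2) (Fin 2) F) 0 0 - (g : Matrix (Fin 2) (Fin 2) F) 1 1)),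
        2 * (e : F) * b * (g : Matrix (Fin 2) (Fin 2) F) 0 1;
        2 * b * (g : Matrix (Fin 2) (Fin 2) F) 1 0,
        a + b * ((g : Matrix (Fin 2) (Fin 2) F) 1 1 - (g : Matrix (Fin 2) (Fin 2) F) 0 0)] := by
    refine ⟨⟨_, ?_⟩, rfl⟩
    rw [Matrix.det_fin_two_of]
    rw [hDdef] at hab
    linear_combination (e : F) * hab + he
  have hconj : cfun e g = x * g * x⁻¹ := by
    rw [eq_mul_inv_iff_mul_eq]
    apply Subtype.ext
    rw [Matrix.SpecialLinearGroup.coe_mul, Matrix.SpecialLinearGroup.coe_mul, cfun_coe, hx]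
    have hg : (g : Matrix (Fin 2) (Fin 2) F) =
        !![(g : Matrix (Fin 2) (Fin 2) F) 0 0, (g : Matrix (Fin 2) (Fin 2) F) 0 1;
          (g : Matrix (Fin 2) (Fin 2) F) 1 0, (g : Matrix (Fin 2) (Fin 2) F) 1 1] := by
      ext i j
      fin_cases i <;> fin_cases j <;> rfl
    rw [hg]
    ext i j
    fin_cases i <;> fin_cases j <;>
      simp [Matrix.mul_apply, Fin.sum_univ_two]
    · ring
    · ring
    · have he0 : (e : F) ≠ 0 := e.ne_zero
      field_simp
      ring
    · have he0 : (e : F) ≠ 0 := e.ne_zero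
      field_simp
  rw [hconj, hcf]

/-- non-cuspidal characters of degree different from `1` and `q` vanish on the elements
without eigenvectors -/
lemma ell_noncusp (hodd : Odd (Fintype.card F)) {χ : SL2 → ℂ} (hχ : IsIrrCharacter SL2 χ)
    (hS : ∑ t : F, χ (umat t) ≠ 0) (hd1 : χ 1 ≠ 1) (hdq : χ 1 ≠ (Fintype.card F : ℂ)) (g : SL2)
    (hell : ∀ (c : F) (v : Fin 2 → F), v ≠ 0 → (g : Matrix (Fin 2) (Fin 2) F).mulVec v ≠ c • v) :
    χ g = 0 := by
  obtain ⟨β, hβ⟩ := exists_of_S_ne hχ hS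
  have hR : Rf β g = 0 := case2 β g hell
  rcases constituent hχ β hβ with h | h | ⟨χ₁, χ₂, e, hsum12, hmem, hd12, hd, he⟩
  · rw [← h]; exact hR
  · rcases h with h | h
    · exact absurd h hd1
    · exact absurd h hdq
  · have h12 := congrFun hsum12 g
    rw [hR, Pi.add_apply] at h12
    have h2irr : IsClassFunction SL2 χ₂ := by
      -- `χ₂` is one of the constituents, hence a class function; use the relation with `χ₁`
      intro y x
      have hχcf : IsClassFunction SL2 χ := isClassFunction_of_isCharacter (irr_isCharacter hχ)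
      have hRcf : IsClassFunction SL2 (Rf β) := indFun_isClassFunction (Bsub F) _
      rcases hmem with h | h
      · have e1 := congrFun hsum12 (x * y * x⁻¹)
        have e2 := congrFun hsum12 y
        rw [Pi.add_apply, ← h, hRcf, hχcf] at e1
        rw [Pi.add_apply, ← h] at e2
        have : χ₂ (x * y * x⁻¹) = Rf β y - χ y := by linear_combination -e1
        rw [this, e2]; ring
      · rw [← h]; exact hχcf y x
    have heq : χ₂ g = χ₁ g := by
      rw [← he g]
      exact (ell_conj hodd h2irr g hell e).symm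
    have h1 : χ₁ g = 0 := by
      have : 2 * χ₁ g = 0 := by rw [← heq] at h12 ⊢; linear_combination -h12
      rcases mul_eq_zero.mp this with h | h
      · exact absurd h two_ne_zero
      · exact h
    rcases hmem with h | h
    · rw [h, h1]
    · rw [h, heq, h1]

/-- the lower unipotent elements with signs -/
def Low : Bool × Fˣ → SL2 := fun x => Zb x.1 * lmat (x.2 : F)

lemma Low_coe (b : Bool) (s : Fˣ) : ((Low (b, s) : SL2) : Matrix (Fin 2) (Fin 2) F) =
    !![sg b, 0; sg b * (s : F), sg b] := by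
  unfold Low
  rw [Matrix.SpecialLinearGroup.coe_mul, Zb_coe, lmat_coe]
  ext i j
  fin_cases i <;> fin_cases j <;> simp [Matrix.mul_apply, Fin.sum_univ_two]

lemma Low_00 (b : Bool) (s : Fˣ) : ((Low (b, s) : SL2) : Matrix (Fin 2) (Fin 2) F) 0 0 = sg b := by
  rw [Low_coe]; simp

lemma Low_01 (b : Bool) (s : Fˣ) : ((Low (b, s) : SL2) : Matrix (Fin 2) (Fin 2) F) 0 1 = 0 := by
  rw [Low_coe]; simp

lemma Low_10 (b : Bool) (s : Fˣ) :
    ((Low (b, s) : SL2) : Matrix (Fin 2) (Fin 2) F) 1 0 = sg b * (s : F) := by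
  rw [Low_coe]; simp

lemma Zb_10 (b : Bool) : ((Zb b : SL2) : Matrix (Fin 2) (Fin 2) F) 1 0 = 0 := by
  rw [Zb_coe]; simp

/-- the extended family -/
def Psi : (Bool ⊕ (Bool × F × Fˣ)) ⊕ (Bool × Fˣ) → SL2 := Sum.elim Phi Low

lemma Psi_injective (h2 : (2 : F) ≠ 0) : Function.Injective (Psi (F := F)) := by
  have hPL : ∀ (i : Bool ⊕ (Bool × F × Fˣ)) (b' : Bool) (s' : Fˣ), Phi i ≠ Low (b', s') := by
    intro i b' s' h
    rcases i with b | ⟨b, c, t⟩
    · have h10 := congrArg (fun g : SL2 => (g : Matrix (Fin 2) (Fin 2) F) 1 0) h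
      change ((Zb b : SL2) : Matrix (Fin 2) (Fin 2) F) 1 0 =
        ((Low (b', s') : SL2) : Matrix (Fin 2) (Fin 2) F) 1 0 at h10
      rw [Zb_10, Low_10] at h10
      exact mul_ne_zero (sg_ne_zero b') s'.ne_zero h10.symm
    · have h01 := congrArg (fun g : SL2 => (g : Matrix (Fin 2) (Fin 2) F) 0 1) h
      change ((phi b c (t : F) : SL2) : Matrix (Fin 2) (Fin 2) F) 0 1 =
        ((Low (b', s') : SL2) : Matrix (Fin 2) (Fin 2) F) 0 1 at h01
      rw [phi_01, Low_01] at h01
      exact mul_ne_zero (sg_ne_zero b) t.ne_zero h01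
  rintro (i | ⟨b, s⟩) (j | ⟨b', s'⟩) h
  · exact congrArg Sum.inl (Phi_injective h2 h)
  · exact absurd h (hPL i b' s')
  · exact absurd h.symm (hPL j b s)
  · have h00 := congrArg (fun g : SL2 => (g : Matrix (Fin 2) (Fin 2) F) 0 0) h
    have h10 := congrArg (fun g : SL2 => (g : Matrix (Fin 2) (Fin 2) F) 1 0) h
    change ((Low (b, s) : SL2) : Matrix (Fin 2) (Fin 2) F) 0 0 =
      ((Low (b', s') : SL2) : Matrix (Fin 2) (Fin 2) F) 0 0 at h00
    change ((Low (b, s) : SL2) : Matrix (Fin 2) (Fin 2) F) 1 0 =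
      ((Low (b', s') : SL2) : Matrix (Fin 2) (Fin 2) F) 1 0 at h10
    rw [Low_00, Low_00] at h00
    rw [Low_10, Low_10] at h10
    have hb := sg_inj h2 h00
    subst hb
    have hs : (s : F) = s' := mul_left_cancel₀ (sg_ne_zero b) h10
    have hs' : s = s' := Units.ext hs
    subst hs'
    rfl

lemma Psi_eigen (i : (Bool ⊕ (Bool × F × Fˣ)) ⊕ (Bool × Fˣ)) :
    ∃ (c : F) (v : Fin 2 → F), v ≠ 0 ∧
      ((Psi i : SL2) : Matrix (Fin 2) (Fin 2) F).mulVec v = c • v := by
  rcases i with (b | ⟨b, c, t⟩) | ⟨b, s⟩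
  · refine ⟨sg b, ![1, 0], ?_, ?_⟩
    · intro hv
      have := congrFun hv 0
      simp at this
    · show ((Zb b : SL2) : Matrix (Fin 2) (Fin 2) F).mulVec _ = _
      rw [Zb_coe]
      ext i
      fin_cases i <;> simp [Matrix.mulVec, dotProduct, Fin.sum_univ_two]
  · refine ⟨sg b, ![1, c], ?_, ?_⟩
    · intro hv
      have := congrFun hv 0
      simp at this
    · show ((phi b c (t : F) : SL2) : Matrix (Fin 2) (Fin 2) F).mulVec _ = _
      rw [phi_coe]
      ext i
      fin_cases i <;> simp [Matrix.mulVec, dotProduct, Fin.sum_univ_two] <;> ring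
  · refine ⟨sg b, ![0, 1], ?_, ?_⟩
    · intro hv
      have := congrFun hv 1
      simp at this
    · show ((Low (b, s) : SL2) : Matrix (Fin 2) (Fin 2) F).mulVec _ = _
      rw [Low_coe]
      ext i
      fin_cases i <;> simp [Matrix.mulVec, dotProduct, Fin.sum_univ_two]

/-- the norm inequality including an element without eigenvectors -/
lemma ell_bound (h2 : (2 : F) ≠ 0) {χ : SL2 → ℂ} (hχ : IsIrrCharacter SL2 χ) (g : SL2)
    (hell : ∀ (c : F) (v : Fin 2 → F), v ≠ 0 → (g : Matrix (Fin 2) (Fin 2) F).mulVec v ≠ c • v) :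
    Complex.normSq (χ g) + 2 * Complex.normSq (χ 1) +
      2 * (((Fintype.card F : ℝ) + 1) * ∑ t : Fˣ, Complex.normSq (χ (umat (t : F)))) ≤
      (Nat.card SL2 : ℝ) := by
  have hcf : IsClassFunction SL2 χ := isClassFunction_of_isCharacter (irr_isCharacter hχ)
  have hinj : Function.Injective
      (fun o : Option ((Bool ⊕ (Bool × F × Fˣ)) ⊕ (Bool × Fˣ)) => o.elim g Psi) := by
    rintro (_ | i) (_ | j) h
    · rfl
    · exfalso
      obtain ⟨c, v, hv, hcv⟩ := Psi_eigen j
      have h' : g = Psi j := h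
      rw [← h'] at hcv
      exact hell c v hv hcv
    · exfalso
      obtain ⟨c, v, hv, hcv⟩ := Psi_eigen i
      have h' : Psi i = g := h
      rw [h'] at hcv
      exact hell c v hv hcv
    · exact congrArg some (Psi_injective h2 h)
  have hle := Cfsg.Agent.S2310.sum_le hχ _ hinj
  rw [Fintype.sum_option, Fintype.sum_sum_type, Fintype.sum_sum_type] at hle
  have e0 : Complex.normSq (χ ((none : Option ((Bool ⊕ (Bool × F × Fˣ)) ⊕ (Bool × Fˣ))).elim g Psi)) =
      Complex.normSq (χ g) := rfl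
  have e1 : ∀ b : Bool, Complex.normSq (χ ((some (Sum.inl (Sum.inl b)) :
      Option ((Bool ⊕ (Bool × F × Fˣ)) ⊕ (Bool × Fˣ))).elim g Psi)) = Complex.normSq (χ 1) := by
    intro b
    have := Cfsg.Agent.S2310.central_norm hχ (Zb_center (F := F) b) 1
    rw [mul_one] at this
    exact this
  have e2 : ∀ x : Bool × F × Fˣ, Complex.normSq (χ ((some (Sum.inl (Sum.inr x)) :
      Option ((Bool ⊕ (Bool × F × Fˣ)) ⊕ (Bool × Fˣ))).elim g Psi)) =
      Complex.normSq (χ (umat (x.2.2 : F))) := by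
    rintro ⟨b, c, t⟩
    show Complex.normSq (χ (Zb b * (lmat c * umat (t : F) * (lmat c)⁻¹))) = _
    rw [Cfsg.Agent.S2310.central_norm hχ (Zb_center (F := F) b), hcf]
  have e3 : ∀ x : Bool × Fˣ, Complex.normSq (χ ((some (Sum.inr x) :
      Option ((Bool ⊕ (Bool × F × Fˣ)) ⊕ (Bool × Fˣ))).elim g Psi)) =
      Complex.normSq (χ (umat (((-x.2 : Fˣ)) : F))) := by
    rintro ⟨b, s⟩
    show Complex.normSq (χ (Zb b * lmat (s : F))) = _
    rw [Cfsg.Agent.S2310.central_norm hχ (Zb_center (F := F) b), lmat_eq, hcf]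
    simp
  rw [e0, Finset.sum_congr rfl (fun b _ => e1 b), Finset.sum_congr rfl (fun x _ => e2 x),
    Finset.sum_congr rfl (fun x _ => e3 x), Fintype.sum_prod_type, Fintype.sum_prod_type] at hle
  have hneg : ∑ s : Fˣ, Complex.normSq (χ (umat (((-s : Fˣ)) : F))) =
      ∑ s : Fˣ, Complex.normSq (χ (umat (s : F))) :=
    Equiv.sum_comp (Equiv.neg Fˣ) (fun s : Fˣ => Complex.normSq (χ (umat (s : F))))
  simp only [Fintype.sum_prod_type, Finset.sum_const, Finset.card_univ, Fintype.card_bool,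
    nsmul_eq_mul, hneg] at hle
  push_cast at hle
  linarith

/-- the Cauchy–Schwarz bound for cuspidal characters -/
lemma cs_bound {χ : SL2 → ℂ} (hS : ∑ t : F, χ (umat t) = 0) :
    Complex.normSq (χ 1) ≤
      ((Fintype.card F : ℝ) - 1) * ∑ t : Fˣ, Complex.normSq (χ (umat (t : F))) := by
  have h0 : χ (umat (0 : F)) = χ 1 := by rw [umat_zero]
  have hi : χ 1 = -∑ u : Fˣ, χ (umat (u : F)) := by
    rw [sum_split, h0] at hS
    linear_combination hS
  have hcardu : (Fintype.card Fˣ : ℝ) = (Fintype.card F : ℝ) - 1 := by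
    rw [Fintype.card_units, Nat.cast_sub Fintype.card_pos]; simp
  rw [hi, Complex.normSq_neg, Complex.normSq_eq_norm_sq]
  have h1 : ‖∑ u : Fˣ, χ (umat (u : F))‖ ≤ ∑ u : Fˣ, ‖χ (umat (u : F))‖ := norm_sum_le _ _
  have h2' : (∑ u : Fˣ, ‖χ (umat (u : F))‖) ^ 2 ≤
      (Fintype.card Fˣ : ℝ) * ∑ u : Fˣ, ‖χ (umat (u : F))‖ ^ 2 := by
    have := sq_sum_le_card_mul_sum_sq (s := (Finset.univ : Finset Fˣ))
      (f := fun u => ‖χ (umat (u : F))‖)
    rw [Finset.card_univ] at this
    exact this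
  have h3 : ∀ u : Fˣ, ‖χ (umat (u : F))‖ ^ 2 = Complex.normSq (χ (umat (u : F))) :=
    fun u => (Complex.normSq_eq_norm_sq _).symm
  rw [Finset.sum_congr rfl (fun u _ => h3 u), hcardu] at h2'
  calc ‖∑ u : Fˣ, χ (umat (u : F))‖ ^ 2 ≤ (∑ u : Fˣ, ‖χ (umat (u : F))‖) ^ 2 :=
        pow_le_pow_left₀ (norm_nonneg _) h1 2
    _ ≤ _ := h2'

/-- `q = 3`: the cuspidal characters of degree two vanish on elements without eigenvectors -/
lemma ell_cusp3 (h2 : (2 : F) ≠ 0) (hq3 : Fintype.card F = 3) {χ : SL2 → ℂ}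
    (hχ : IsIrrCharacter SL2 χ) (hdeg : χ 1 = 2) (hS : ∑ t : F, χ (umat t) = 0) (g : SL2)
    (hell : ∀ (c : F) (v : Fin 2 → F), v ≠ 0 → (g : Matrix (Fin 2) (Fin 2) F).mulVec v ≠ c • v) :
    χ g = 0 := by
  have hb := ell_bound h2 hχ g hell
  have hcs := cs_bound (χ := χ) hS
  have hG : Nat.card SL2 = 24 := by
    rw [Nat.card_eq_fintype_card, cardSL, cardB, hq3]
  have h4 : Complex.normSq (χ 1) = 4 := by
    have : χ 1 = ((2 : ℝ) : ℂ) := by rw [hdeg]; norm_num
    rw [this, Complex.normSq_ofReal]; norm_num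
  rw [hG, hq3, h4] at hb
  rw [hq3, h4] at hcs
  push_cast at hb hcs
  have hnn := Complex.normSq_nonneg (χ g)
  have : Complex.normSq (χ g) = 0 := by linarith
  exact Complex.normSq_eq_zero.mp this

/-- the cuspidal degrees -/
lemma cusp_all (hodd : Odd (Fintype.card F)) (hq : 5 ≤ Fintype.card F) {χ : SL2 → ℂ}
    (hχ : IsIrrCharacter SL2 χ)
    (hdeg : χ 1 = (Fintype.card F : ℂ) - 1 ∨ χ 1 = (((Fintype.card F - 1) / 2 : ℕ) : ℂ))
    (β : MulChar F ℂ) : classInner (Rf β) χ = 0 := by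
  obtain ⟨m, hm⟩ := hodd
  have hm2 : 2 ≤ m := by omega
  have hqc : (Fintype.card F : ℂ) = 2 * (m : ℂ) + 1 := by rw [hm]; push_cast; ring
  by_contra hβ
  rcases hdeg with hdeg | hdeg
  · rw [hqc] at hdeg
    rcases deg_cases hχ β hβ with h | h | h | h <;> rw [hdeg] at h <;> try rw [hqc] at h
    · have : (2 * (m : ℂ)) = 2 * m + 1 + 1 := by linear_combination h
      have : 2 * m = 2 * m + 1 + 1 := by exact_mod_cast this
      omega
    · have : (2 * (m : ℂ)) = 1 := by linear_combination h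
      have : 2 * m = 1 := by exact_mod_cast this
      omega
    · have : (2 * (m : ℂ)) = 2 * m + 1 := by linear_combination h
      have : 2 * m = 2 * m + 1 := by exact_mod_cast this
      omega
    · have : (4 * (m : ℂ)) = 2 * m + 1 + 1 := by linear_combination h
      have : 4 * m = 2 * m + 1 + 1 := by exact_mod_cast this
      omega
  · have hhalf : (Fintype.card F - 1) / 2 = m := by omega
    rw [hhalf] at hdeg
    rcases deg_cases hχ β hβ with h | h | h | h <;> rw [hdeg] at h <;> try rw [hqc] at h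
    · have : m = 2 * m + 1 + 1 := by exact_mod_cast h
      omega
    · have : m = 1 := by exact_mod_cast h
      omega
    · have : m = 2 * m + 1 := by exact_mod_cast h
      omega
    · have : 2 * m = 2 * m + 1 + 1 := by exact_mod_cast h
      omega

theorem main (hodd : Odd (Fintype.card F)) (χ : SL2 → ℂ) (hχ : IsIrrCharacter SL2 χ) (g : SL2) :
    ((χ 1 = (Fintype.card F : ℂ) - 1 ∨ χ 1 = (((Fintype.card F - 1) / 2 : ℕ) : ℂ)) →
      (g : Matrix (Fin 2) (Fin 2) F) 0 1 = 0 → (g : Matrix (Fin 2) (Fin 2) F) 1 0 = 0 →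
      (g : Matrix (Fin 2) (Fin 2) F) 0 0 ^ 2 ≠ 1 → χ g = 0) ∧
    ((χ 1 = (Fintype.card F : ℂ) + 1 ∨ χ 1 = (((Fintype.card F + 1) / 2 : ℕ) : ℂ)) →
      (∀ (c : F) (v : Fin 2 → F), v ≠ 0 → (g : Matrix (Fin 2) (Fin 2) F).mulVec v ≠ c • v) →
      χ g = 0) := by
  have hchar : ringChar F ≠ 2 := by
    intro h
    have := FiniteField.even_card_of_char_two h
    obtain ⟨m, hm⟩ := hodd
    omega
  have h2F : (2 : F) ≠ 0 := Ring.two_ne_zero hchar
  have hq0 := qne0 (F := F)
  obtain ⟨m, hm⟩ := hodd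
  have hq2 : 1 < Fintype.card F := Fintype.one_lt_card
  have hm1 : 1 ≤ m := by omega
  have hqc : (Fintype.card F : ℂ) = 2 * (m : ℂ) + 1 := by rw [hm]; push_cast; ring
  refine ⟨?_, ?_⟩
  · intro hdeg h01 h10 hsq
    have hd := det_eq g
    rw [h01, zero_mul, sub_zero] at hd
    have ha : (g : Matrix (Fin 2) (Fin 2) F) 0 0 ≠ 0 := by
      intro h
      rw [h, zero_mul] at hd
      exact zero_ne_one hd
    by_cases hq5 : 5 ≤ Fintype.card F
    · have hall := cusp_all ⟨m, hm⟩ hq5 hχ hdeg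
      have h := torus_vanish hχ hall (Units.mk0 _ ha) (by rw [Units.val_mk0]; exact hsq)
      have hg : g = ((equivB.symm (Units.mk0 _ ha, 0) : Bsub F) : SL2) := by
        apply Subtype.ext
        rw [equivB_symm_coe]
        ext i j
        fin_cases i <;> fin_cases j
        · simp
        · simpa using h01
        · simpa using h10
        · simp only [Units.val_inv_eq_inv_val, Units.val_mk0]
          show (g : Matrix (Fin 2) (Fin 2) F) 1 1 = _
          exact eq_inv_of_mul_eq_one_right hd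
      rw [hg]; exact h
    · exfalso
      have hq3 : Fintype.card F = 3 := by omega
      have := FiniteField.pow_card_sub_one_eq_one _ ha
      rw [hq3] at this
      exact hsq this
  · intro hdeg hell
    have hd1 : χ 1 ≠ 1 := by
      rcases hdeg with h | h
      · rw [h, hqc]
        intro h'
        have : 2 * m + 1 + 1 = 1 := by exact_mod_cast h'
        omega
      · have hhalf : (Fintype.card F + 1) / 2 = m + 1 := by omega
        rw [h, hhalf]
        intro h'
        have : m + 1 = 1 := by exact_mod_cast h'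
        omega
    have hdq : χ 1 ≠ (Fintype.card F : ℂ) := by
      rcases hdeg with h | h
      · rw [h, hqc]
        intro h'
        have : 2 * m + 1 + 1 = 2 * m + 1 := by exact_mod_cast h'
        omega
      · have hhalf : (Fintype.card F + 1) / 2 = m + 1 := by omega
        rw [h, hhalf, hqc]
        intro h'
        have : m + 1 = 2 * m + 1 := by exact_mod_cast h'
        omega
    by_cases hq5 : 5 ≤ Fintype.card F
    · have hmain := Cfsg.Agent.S2438.main ⟨m, hm⟩ hq5 χ hχ
      have hS : ∑ t : F, χ (umat t) ≠ 0 := by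
        rcases hdeg with h | h
        · rw [hmain.1 h]; exact mul_ne_zero two_ne_zero hq0
        · rw [hmain.2.2.2.1 h]; exact hq0
      exact ell_noncusp ⟨m, hm⟩ hχ hS hd1 hdq g hell
    · have hq3 : Fintype.card F = 3 := by omega
      rcases hdeg with h | h
      · have hS : ∑ t : F, χ (umat t) ≠ 0 := by
          intro hS
          have hb := norm_bound h2F hχ hS
          have hG : Nat.card SL2 = 24 := by
            rw [Nat.card_eq_fintype_card, cardSL, cardB, hq3]
          rw [h, hG, hq3] at hb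
          have h16 : Complex.normSq ((3 : ℕ) + 1 : ℂ) = 16 := by
            have : ((3 : ℕ) + 1 : ℂ) = ((4 : ℝ) : ℂ) := by push_cast; norm_num
            rw [this, Complex.normSq_ofReal]; norm_num
          rw [h16] at hb
          norm_num at hb
        exact ell_noncusp ⟨m, hm⟩ hχ hS hd1 hdq g hell
      · by_cases hS : ∑ t : F, χ (umat t) = 0
        · have hhalf : (Fintype.card F + 1) / 2 = 2 := by omega
          rw [hhalf] at h
          exact ell_cusp3 h2F hq3 hχ (by rw [h]; norm_num) hS g hell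
        · exact ell_noncusp ⟨m, hm⟩ hχ hS hd1 hdq g hell

end Cfsg.Agent.S2322

namespace Cfsg.Agent.S2322

theorem result {F : Type*} [Field F] [Fintype F] (hodd : Odd (Fintype.card F)) (χ : Matrix.SpecialLinearGroup (Fin 2) F → ℂ) (hχ : Cfsg.IsIrrCharacter (Matrix.SpecialLinearGroup (Fin 2) F) χ) (g : Matrix.SpecialLinearGroup (Fin 2) F) :
    ((χ 1 = (Fintype.card F : ℂ) - 1 ∨ χ 1 = (((Fintype.card F - 1) / 2 : ℕ) : ℂ)) →
      (g : Matrix (Fin 2) (Fin 2) F) 0 1 = 0 → (g : Matrix (Fin 2) (Fin 2) F) 1 0 = 0 → (g : Matrix (Fin 2) (Fin 2) F) 0 0 ^ 2 ≠ 1 → χ g = 0) ∧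
    ((χ 1 = (Fintype.card F : ℂ) + 1 ∨ χ 1 = (((Fintype.card F + 1) / 2 : ℕ) : ℂ)) →
      (∀ (c : F) (v : Fin 2 → F), v ≠ 0 → (g : Matrix (Fin 2) (Fin 2) F).mulVec v ≠ c • v) → χ g = 0) := by
  classical
  exact main hodd χ hχ g

end Cfsg.Agent.S2322
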