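import Mathlib
import Cfsg.Statements.S2324
import Cfsg.Agent.S2322

set_option autoImplicit false

open Cfsg

namespace Cfsg.Agent.S2324

open Matrix ComplexConjugate Cfsg.Agent.S2433 Cfsg.Agent.S2432 Cfsg.Agent.S2307 Cfsg.Agent.S2321
  Cfsg.Agent.S2438 Cfsg.Agent.S2323 Cfsg.Agent.S2322 Cfsg.Agent.Lib.Helper8

variable {F : Type*} [Field F] [Fintype F] [DecidableEq F]

local notation "SL2" => SpecialLinearGroup (Fin 2) F

lemma diag_conj_umat (e : Fˣ) (t : F) :
    ((equivB.symm (e, 0) : Bsub F) : SL2) * umat t * ((equivB.symm (e, 0) : Bsub F) : SL2)⁻¹ =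
      umat ((e : F) ^ 2 * t) := by
  symm
  rw [eq_mul_inv_iff_mul_eq]
  apply Subtype.ext
  rw [Matrix.SpecialLinearGroup.coe_mul, Matrix.SpecialLinearGroup.coe_mul, equivB_symm_coe,
    umat_coe, umat_coe]
  ext i j
  have he0 : (e : F) ≠ 0 := e.ne_zero
  fin_cases i <;> fin_cases j <;>
    simp [Matrix.mul_apply, Fin.sum_univ_two, Units.val_inv_eq_inv_val]
  field_simp

lemma umat_inv (s : F) : (umat s : SL2)⁻¹ = umat (-s) := by
  apply inv_eq_of_mul_eq_one_right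
  rw [umat_mul, add_neg_cancel, umat_zero]

/-- `SL₂(q)` is perfect for `q ≥ 4` -/
lemma comm_top (hq : 4 ≤ Fintype.card F) : commutator SL2 = ⊤ := by
  haveI : (commutator SL2).Normal := by rw [commutator_def]; infer_instance
  apply normal_eq_top
  intro a
  obtain ⟨e, he⟩ : ∃ e : Fˣ, (e : F) ^ 2 ≠ 1 := by
    obtain ⟨g, hg⟩ := IsCyclic.exists_generator (α := Fˣ)
    refine ⟨g, fun h => ?_⟩
    have h1 : g ^ 2 = 1 := Units.ext (by rw [Units.val_pow_eq_pow_val, h]; rfl)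
    have h2 := orderOf_dvd_of_pow_eq_one h1
    have h3 : orderOf g = Fintype.card Fˣ := by
      rw [orderOf_eq_card_of_forall_mem_zpowers hg, Nat.card_eq_fintype_card]
    rw [h3, Fintype.card_units] at h2
    have := Nat.le_of_dvd (by norm_num) h2
    omega
  have hne : (e : F) ^ 2 - 1 ≠ 0 := sub_ne_zero.mpr he
  have h : umat a = ((equivB.symm (e, 0) : Bsub F) : SL2) * umat (a / ((e : F) ^ 2 - 1)) *
      ((equivB.symm (e, 0) : Bsub F) : SL2)⁻¹ * (umat (a / ((e : F) ^ 2 - 1)))⁻¹ := by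
    rw [diag_conj_umat, umat_inv, umat_mul]
    congr 1
    field_simp
    ring
  rw [h, ← commutatorElement_def, commutator_def]
  exact Subgroup.commutator_mem_commutator (Subgroup.mem_top _) (Subgroup.mem_top _)

lemma Zb_sq : (Zb true : SL2) * Zb true = 1 := by
  apply Subtype.ext
  rw [Matrix.SpecialLinearGroup.coe_mul, Zb_coe]
  ext i j
  fin_cases i <;> fin_cases j <;> simp [Matrix.mul_apply, Fin.sum_univ_two, sg]

lemma Zb_ne_one (h2 : (2 : F) ≠ 0) : (Zb true : SL2) ≠ 1 := by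
  intro h
  have := congrArg (fun g : SL2 => (g : Matrix (Fin 2) (Fin 2) F) 0 0) h
  simp only [Zb_00] at this
  simp [sg] at this
  apply h2
  linear_combination -this

/-- the central sign -/
lemma central_sign {χ : SL2 → ℂ} (hχ : IsIrrCharacter SL2 χ) :
    (∀ g, χ (Zb true * g) = χ g) ∨ (∀ g, χ (Zb true * g) = -χ g) := by
  obtain ⟨c, hc⟩ := central_mul hχ (Zb_center (F := F) true)
  have h1 : χ 1 = c * (c * χ 1) := by
    have := hc (Zb true * 1)
    rw [hc 1, ← mul_assoc, Zb_sq, one_mul] at this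
    exact this
  have hne : χ 1 ≠ 0 := irr_one_ne_zero ⟨χ, hχ⟩
  have h2 : (c - 1) * (c + 1) = 0 := by
    have : (c * c - 1) * χ 1 = 0 := by linear_combination -h1
    rcases mul_eq_zero.mp this with h | h
    · linear_combination h
    · exact absurd h hne
  rcases mul_eq_zero.mp h2 with h | h
  · left
    intro g
    rw [hc, sub_eq_zero.mp h, one_mul]
  · right
    intro g
    rw [hc, eq_neg_of_add_eq_zero_left h]
    ring

/-- irreducible characters of odd degree are trivial on the centre -/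
lemma sign_odd_degree (hq : 4 ≤ Fintype.card F) {χ : SL2 → ℂ} (hχ : IsIrrCharacter SL2 χ)
    (d : ℕ) (hd : χ 1 = d) (hdodd : Odd d) : ∀ g, χ (Zb true * g) = χ g := by
  rcases central_sign hχ with h | h
  · exact h
  · exfalso
    obtain ⟨n, ρ, hirr, rfl⟩ := hχ
    have hn : Module.finrank ℂ (Fin n → ℂ) = d := by
      rw [Representation.char_one] at hd
      exact_mod_cast hd
    obtain ⟨c, hc⟩ := central_scalar hirr (Zb_center (F := F) true)
    have hρz : ρ (Zb true) = c • (LinearMap.id : (Fin n → ℂ) →ₗ[ℂ] (Fin n → ℂ)) :=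
      LinearMap.ext fun v => by rw [hc v]; rfl
    -- the determinant character is trivial
    have hdet : ∀ g : SL2, LinearMap.det (ρ g) = 1 := by
      let f : SL2 →* ℂ := (LinearMap.det : ((Fin n → ℂ) →ₗ[ℂ] (Fin n → ℂ)) →* ℂ).comp ρ
      have hker : commutator SL2 ≤ MonoidHom.ker f := by
        rw [commutator_def, Subgroup.commutator_le]
        intro a _ b _
        rw [MonoidHom.mem_ker, commutatorElement_def, map_mul, map_mul, map_mul]
        have h1 : f a * f a⁻¹ = 1 := by rw [← map_mul, mul_inv_cancel, map_one]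
        have h2 : f b * f b⁻¹ = 1 := by rw [← map_mul, mul_inv_cancel, map_one]
        calc f a * f b * f a⁻¹ * f b⁻¹ = (f a * f a⁻¹) * (f b * f b⁻¹) := by ring
          _ = 1 := by rw [h1, h2, one_mul]
      intro g
      have hg : g ∈ MonoidHom.ker f := hker (by rw [comm_top hq]; trivial)
      exact MonoidHom.mem_ker.mp hg
    have h1 := hdet (Zb true)
    rw [hρz, LinearMap.det_smul, LinearMap.det_id, mul_one, hn] at h1
    -- the character value
    have hval : ρ.character (Zb true * 1) = c * ρ.character 1 := by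
      show LinearMap.trace ℂ _ (ρ (Zb true * 1)) = c * LinearMap.trace ℂ _ (ρ 1)
      rw [map_mul, hρz, smul_mul_assoc, map_smul, smul_eq_mul]
      rfl
    have hne : ρ.character 1 ≠ 0 := by
      rw [hd]
      obtain ⟨k, hk⟩ := hdodd
      have : d ≠ 0 := by omega
      exact_mod_cast this
    have hcm : c = -1 := by
      have := h 1
      rw [hval] at this
      have h3 : (c + 1) * ρ.character 1 = 0 := by linear_combination this
      rcases mul_eq_zero.mp h3 with h4 | h4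
      · exact eq_neg_of_add_eq_zero_left h4
      · exact absurd h4 hne
    rw [hcm, hdodd.neg_one_pow] at h1
    norm_num at h1

/-- the monomial subgroup -/
def Hmon (F : Type*) [Field F] : Subgroup (SpecialLinearGroup (Fin 2) F) where
  carrier := {g | ((g : Matrix (Fin 2) (Fin 2) F) 0 1 = 0 ∧ (g : Matrix (Fin 2) (Fin 2) F) 1 0 = 0) ∨
    ((g : Matrix (Fin 2) (Fin 2) F) 0 0 = 0 ∧ (g : Matrix (Fin 2) (Fin 2) F) 1 1 = 0)}
  one_mem' := Or.inl (by simp)
  mul_mem' := by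
    rintro a b (⟨ha1, ha2⟩ | ⟨ha1, ha2⟩) (⟨hb1, hb2⟩ | ⟨hb1, hb2⟩)
    · left
      constructor <;>
        simp [Matrix.SpecialLinearGroup.coe_mul, Matrix.mul_apply, Fin.sum_univ_two, ha1, ha2, hb1, hb2]
    · right
      constructor <;>
        simp [Matrix.SpecialLinearGroup.coe_mul, Matrix.mul_apply, Fin.sum_univ_two, ha1, ha2, hb1, hb2]
    · right
      constructor <;>
        simp [Matrix.SpecialLinearGroup.coe_mul, Matrix.mul_apply, Fin.sum_univ_two, ha1, ha2, hb1, hb2]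
    · left
      constructor <;>
        simp [Matrix.SpecialLinearGroup.coe_mul, Matrix.mul_apply, Fin.sum_univ_two, ha1, ha2, hb1, hb2]
  inv_mem' := by
    rintro a (⟨h1, h2⟩ | ⟨h1, h2⟩)
    · left
      constructor <;> simp [Matrix.SpecialLinearGroup.coe_inv, Matrix.adjugate_fin_two, h1, h2]
    · right
      constructor <;> simp [Matrix.SpecialLinearGroup.coe_inv, Matrix.adjugate_fin_two, h1, h2]

lemma upper_vanish {χ : SL2 → ℂ} (hχ : IsIrrCharacter SL2 χ)
    (hall : ∀ β : MulChar F ℂ, classInner (Rf β) χ = 0) (h : SL2)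
    (h10 : (h : Matrix (Fin 2) (Fin 2) F) 1 0 = 0)
    (hsq : (h : Matrix (Fin 2) (Fin 2) F) 0 0 ^ 2 ≠ 1) : χ h = 0 := by
  have hcf : IsClassFunction SL2 χ := isClassFunction_of_isCharacter (irr_isCharacter hχ)
  have hd := det_eq h
  rw [h10, mul_zero, sub_zero] at hd
  have ha : (h : Matrix (Fin 2) (Fin 2) F) 0 0 ≠ 0 := by
    intro h0
    rw [h0, zero_mul] at hd
    exact zero_ne_one hd
  have hg : h = ((equivB.symm (Units.mk0 _ ha, (h : Matrix (Fin 2) (Fin 2) F) 0 1) : Bsub F) : SL2) := by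
    apply Subtype.ext
    rw [equivB_symm_coe]
    ext i j
    fin_cases i <;> fin_cases j
    · simp
    · simp
    · simpa using h10
    · simp only [Units.val_inv_eq_inv_val, Units.val_mk0]
      show (h : Matrix (Fin 2) (Fin 2) F) 1 1 = _
      exact eq_inv_of_mul_eq_one_right hd
  rw [hg, borel_conj hcf _ (by rw [Units.val_mk0]; exact hsq)]
  exact torus_vanish hχ hall _ (by rw [Units.val_mk0]; exact hsq)

/-- the central sign of a cuspidal character of degree `(q - 1) / 2` when `-1` is a square -/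
lemma sign_cusp (h2 : (2 : F) ≠ 0) (i : F) (hi : i * i = -1) {χ : SL2 → ℂ}
    (hχ : IsIrrCharacter SL2 χ) (hall : ∀ β : MulChar F ℂ, classInner (Rf β) χ = 0)
    (hdeg : 2 * χ 1 = (Fintype.card F : ℂ) - 1) (hc : ∀ g, χ (Zb true * g) = χ g) : False := by
  have hcf : IsClassFunction SL2 χ := isClassFunction_of_isCharacter (irr_isCharacter hχ)
  have hi2 : i ^ 2 ≠ 1 := by
    rw [pow_two, hi]
    intro h
    apply h2
    linear_combination -h
  have hvan : ∀ g ∈ Hmon F, g ≠ 1 → g ≠ Zb true → χ g = 0 := by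
    rintro g (⟨h01, h10⟩ | ⟨h00, h11⟩) hg1 hgz
    · by_cases hsq : (g : Matrix (Fin 2) (Fin 2) F) 0 0 ^ 2 = 1
      · exfalso
        have hd := det_eq g
        rw [h01, zero_mul, sub_zero] at hd
        have hsq' : (g : Matrix (Fin 2) (Fin 2) F) 0 0 * (g : Matrix (Fin 2) (Fin 2) F) 0 0 = 1 := by
          rw [← pow_two]; exact hsq
        rcases mul_self_eq_one_iff.mp hsq' with h | h
        · apply hg1
          apply Subtype.ext
          rw [h, one_mul] at hd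
          ext a b
          fin_cases a <;> fin_cases b
          · simpa using h
          · simpa using h01
          · simpa using h10
          · simpa using hd
        · apply hgz
          apply Subtype.ext
          rw [h] at hd
          rw [Zb_coe]
          ext a b
          fin_cases a <;> fin_cases b
          · simpa [sg] using h
          · simpa using h01
          · simpa using h10
          · simp only [sg, if_true]
            show (g : Matrix (Fin 2) (Fin 2) F) 1 1 = -1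
            linear_combination -hd
      · exact upper_vanish hχ hall g h10 hsq
    · have hd := det_eq g
      rw [h00, zero_mul, zero_sub] at hd
      have hr : (g : Matrix (Fin 2) (Fin 2) F) 0 1 ≠ 0 := by
        intro h0
        rw [h0, zero_mul, neg_zero] at hd
        exact zero_ne_one hd
      obtain ⟨m, hm⟩ : ∃ m : SL2, (m : Matrix (Fin 2) (Fin 2) F) =
          !![(g : Matrix (Fin 2) (Fin 2) F) 0 1, 0; i, ((g : Matrix (Fin 2) (Fin 2) F) 0 1)⁻¹] := by
        refine ⟨⟨_, ?_⟩, rfl⟩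
        rw [Matrix.det_fin_two_of]
        field_simp
        ring
      have hconj : χ g = χ (m⁻¹ * g * m) := by
        have := hcf g m⁻¹
        rw [inv_inv] at this
        exact this.symm
      rw [hconj]
      apply upper_vanish hχ hall
      · rw [conj10, hm, h00, h11]
        simp
        linear_combination (-(g : Matrix (Fin 2) (Fin 2) F) 0 1) * hi -
          ((g : Matrix (Fin 2) (Fin 2) F) 0 1) * hd
      · have h00' : ((m⁻¹ * g * m : SL2) : Matrix (Fin 2) (Fin 2) F) 0 0 = i := by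
          rw [conj00, hm, h00, h11]
          simp
          field_simp
        rw [h00']
        exact hi2
  haveI : Fintype (Hmon F) := Fintype.ofFinite _
  obtain ⟨k, hk⟩ := classInner_character_nat
    (isCharacter_restrict (Hmon F) (irr_isCharacter hχ))
    (irr_isCharacter (principal_isIrrCharacter (G := ↥(Hmon F))))
  unfold classInner at hk
  have hsum : ∑ g : Hmon F, χ (g : SL2) * conj (1 : ℂ) = χ 1 + χ (Zb true) := by
    rw [Finset.sum_eq_add (⟨1, one_mem _⟩ : Hmon F)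
      (⟨Zb true, Or.inl ⟨Zb_01 true, Zb_10 true⟩⟩ : Hmon F)]
    · simp
    · intro h
      exact Zb_ne_one h2 (congrArg Subtype.val h).symm
    · intro g _ hg
      rw [hvan g.1 g.2 (fun h => hg.1 (Subtype.ext h)) (fun h => hg.2 (Subtype.ext h)), zero_mul]
    · intro h; exact absurd (Finset.mem_univ _) h
    · intro h; exact absurd (Finset.mem_univ _) h
  rw [hsum] at hk
  have hz := hc 1
  rw [mul_one] at hz
  rw [hz] at hk
  have hcard : Fintype.card F ≤ Nat.card (Hmon F) := by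
    let φ : Option Fˣ → Hmon F := fun o => o.elim
      ⟨wmat, Or.inr ⟨by simp [wmat], by simp [wmat]⟩⟩
      (fun a => ⟨((equivB.symm (a, 0) : Bsub F) : SL2),
        Or.inl ⟨by rw [equivB_symm_coe]; simp, by rw [equivB_symm_coe]; simp⟩⟩)
    have hφ : Function.Injective φ := by
      rintro (_ | a) (_ | b) h
      · rfl
      · exfalso
        have h00 := congrArg (fun g : Hmon F => ((g : SL2) : Matrix (Fin 2) (Fin 2) F) 0 0) h
        simp only [φ, Option.elim] at h00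
        rw [equivB_symm_coe] at h00
        have h0 : (0 : F) = (b : F) := by simpa [wmat] using h00
        exact b.ne_zero h0.symm
      · exfalso
        have h00 := congrArg (fun g : Hmon F => ((g : SL2) : Matrix (Fin 2) (Fin 2) F) 0 0) h
        simp only [φ, Option.elim] at h00
        rw [equivB_symm_coe] at h00
        have h0 : (a : F) = 0 := by simpa [wmat] using h00
        exact a.ne_zero h0
      · have h00 := congrArg (fun g : Hmon F => ((g : SL2) : Matrix (Fin 2) (Fin 2) F) 0 0) h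
        simp only [φ, Option.elim] at h00
        rw [equivB_symm_coe, equivB_symm_coe] at h00
        simp at h00
        rw [Units.ext h00]
    have := Fintype.card_le_of_injective φ hφ
    rw [Fintype.card_option, Fintype.card_units] at this
    rw [Nat.card_eq_fintype_card]
    have hq1 : 1 ≤ Fintype.card F := Fintype.card_pos
    omega
  have hHne : (Nat.card (Hmon F) : ℂ) ≠ 0 := Nat.cast_ne_zero.mpr Nat.card_pos.ne'
  have hq : 1 < Fintype.card F := Fintype.one_lt_card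
  have hkey : Fintype.card F - 1 = k * Nat.card (Hmon F) := by
    have : ((Fintype.card F - 1 : ℕ) : ℂ) = (k : ℂ) * (Nat.card (Hmon F) : ℂ) := by
      rw [← hk, Nat.cast_sub (le_of_lt hq)]
      push_cast
      field_simp
      linear_combination -hdeg
    exact_mod_cast this
  rcases Nat.eq_zero_or_pos k with h0 | hpos
  · rw [h0, zero_mul] at hkey
    omega
  · have : Nat.card (Hmon F) ≤ k * Nat.card (Hmon F) := Nat.le_mul_of_pos_left _ hpos
    omega

/-- a non-square together with the square-class dichotomy -/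
lemma exists_sqclass (hodd : Odd (Fintype.card F)) :
    ∃ ε : F, ε ≠ 0 ∧ ¬ IsSquare ε ∧ (∀ s : F, s ≠ 0 → (IsSquare (ε * s) ↔ ¬ IsSquare s)) ∧
      ∀ f : F → ℂ, (∀ (e : Fˣ) (t : F), f ((e : F) ^ 2 * t) = f t) →
      ∀ s : F, s ≠ 0 → (IsSquare s → f s = f 1) ∧ (¬ IsSquare s → f s = f ε) := by
  have hchar : ringChar F ≠ 2 := by
    intro h
    have := FiniteField.even_card_of_char_two h
    obtain ⟨m, hm⟩ := hodd
    omega
  obtain ⟨ε, hε⟩ := FiniteField.exists_nonsquare hchar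
  have hε0 : ε ≠ 0 := by
    rintro rfl
    exact hε ⟨0, by simp⟩
  have hqe : quadraticChar F ε = -1 := quadraticChar_neg_one_iff_not_isSquare.mpr hε
  refine ⟨ε, hε0, hε, ?_, ?_⟩
  · intro s hs
    have hes : ε * s ≠ 0 := mul_ne_zero hε0 hs
    rw [← quadraticChar_one_iff_isSquare hes, ← quadraticChar_neg_one_iff_not_isSquare, map_mul, hqe]
    rcases quadraticChar_dichotomy hs with h | h <;> rw [h] <;> norm_num
  · intro f hf s hs
    constructor
    · rintro ⟨r, hr⟩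
      have hr0 : r ≠ 0 := by
        rintro rfl
        simp at hr
        exact hs hr
      have h1 := hf (Units.mk0 r hr0) 1
      simp only [Units.val_mk0] at h1
      have e1 : s = r ^ 2 * 1 := by rw [hr]; ring
      rw [e1, h1]
    · intro hsq
      have hqs : quadraticChar F s = -1 := quadraticChar_neg_one_iff_not_isSquare.mpr hsq
      have hprod : quadraticChar F (ε * s) = 1 := by
        rw [map_mul, hqs, hqe]; norm_num
      have hes : ε * s ≠ 0 := mul_ne_zero hε0 hs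
      obtain ⟨r, hr⟩ := (quadraticChar_one_iff_isSquare hes).mp hprod
      have hr0 : r ≠ 0 := by
        rintro rfl
        simp at hr
        rcases hr with h | h
        · exact hε0 h
        · exact hs h
      have h2 := hf (Units.mk0 (r / ε) (div_ne_zero hr0 hε0)) ε
      simp only [Units.val_mk0] at h2
      have e2 : s = (r / ε) ^ 2 * ε := by
        field_simp
        rw [pow_two, ← hr]; ring
      rw [e2, h2]

/-- the quadratic sign as a complex number -/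
noncomputable def qc (a : F) : ℂ := if a = 0 then 0 else if IsSquare a then 1 else -1

/-- the quadratic Gauss sum -/
noncomputable def Gs (ψ : AddChar F ℂ) : ℂ := ∑ a : F, qc a * ψ a

lemma Gs_sq (hodd : Odd (Fintype.card F)) {ψ : AddChar F ℂ} (hψ : ψ.IsPrimitive) :
    Gs ψ ^ 2 = (-1 : ℂ) ^ ((Fintype.card F - 1) / 2) * (Fintype.card F : ℂ) := by
  have hchar : ringChar F ≠ 2 := by
    intro h
    have := FiniteField.even_card_of_char_two h
    obtain ⟨m, hm⟩ := hodd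
    omega
  have hG : Gs ψ = gaussSum ((quadraticChar F).ringHomComp (Int.castRingHom ℂ)) ψ := by
    unfold Gs gaussSum
    apply Finset.sum_congr rfl
    intro a _
    congr 1
    rw [MulChar.ringHomComp_apply, quadraticChar_apply, quadraticCharFun]
    unfold qc
    split_ifs <;> simp
  rw [hG, gaussSum_sq ((MulChar.ringHomComp_ne_one_iff (Int.cast_injective)).mpr
    (quadraticChar_ne_one hchar)) (MulChar.IsQuadratic.comp (quadraticChar_isQuadratic F) _) hψ]
  congr 1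
  rw [MulChar.ringHomComp_apply, quadraticChar_neg_one hchar,
    ZMod.χ₄_eq_neg_one_pow (Nat.odd_iff.mp hodd)]
  obtain ⟨m, hm⟩ := hodd
  have h1 : Fintype.card F / 2 = m := by omega
  have h2 : (Fintype.card F - 1) / 2 = m := by omega
  rw [h1, h2]
  simp

/-- the type of a character of degree `(q ± 1) / 2` -/
lemma type_lemma (ε : F) (hε0 : ε ≠ 0)
    (hεs : ∀ s : F, s ≠ 0 → (IsSquare (ε * s) ↔ ¬ IsSquare s))
    (hεd : ∀ f : F → ℂ, (∀ (e : Fˣ) (t : F), f ((e : F) ^ 2 * t) = f t) →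
      ∀ s : F, s ≠ 0 → (IsSquare s → f s = f 1) ∧ (¬ IsSquare s → f s = f ε))
    {ψ : AddChar F ℂ} (hψ1 : ψ ≠ 1) {χ : SL2 → ℂ} (hχ : IsCharacter SL2 χ) (n : ℕ)
    (hS : ∑ t : F, χ (umat t) = (Fintype.card F : ℂ) * n)
    (hdeg : 2 * χ 1 = 2 * (n : ℂ) + (Fintype.card F : ℂ) - 1) :
    ∃ k₁ k₂ : ℕ, k₁ + k₂ = 1 ∧
      (∀ s : F, s ≠ 0 → Mt ψ (fun t => χ (umat t)) s =
        (Fintype.card F : ℂ) * (if IsSquare s then (k₁ : ℂ) else k₂)) ∧
      2 * χ (umat 1) = 2 * (n : ℂ) - 1 + ((k₁ : ℂ) - k₂) * Gs ψ := by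
  classical
  have hcf : IsClassFunction SL2 χ := isClassFunction_of_isCharacter hχ
  have hq0 := qne0 (F := F)
  have hq1 := qne1 (F := F)
  have hprim : ψ.IsPrimitive := AddChar.IsPrimitive.of_ne_one hψ1
  obtain ⟨f, hf⟩ : ∃ f : F → ℂ, f = fun t => χ (umat t) := ⟨_, rfl⟩
  have hfa : ∀ t, f t = χ (umat t) := fun t => by rw [hf]
  have hfsq : ∀ (e : Fˣ) (t : F), f ((e : F) ^ 2 * t) = f t := by
    intro e t
    rw [hfa, hfa]
    exact umat_sq_conj hcf e t
  have hf0 : f 0 = χ 1 := by rw [hfa, umat_zero]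
  rw [← hf]
  obtain ⟨M, hM⟩ : ∃ M : F → ℂ, M = Mt ψ f := ⟨_, rfl⟩
  rw [← hM]
  have hMa : ∀ a, M a = ∑ t : F, f t * conj (ψ (a * t)) := fun a => by rw [hM]; rfl
  have hMnat : ∀ a : F, ∃ k : ℕ, M a = (Fintype.card F : ℂ) * k := by
    intro a
    obtain ⟨k, hk⟩ := mult_nat (AddChar.mulShift ψ a) hχ
    simp only [AddChar.mulShift_apply] at hk
    refine ⟨k, ?_⟩
    rw [hMa, ← hk]
    apply Finset.sum_congr rfl
    intro t _
    rw [hfa]
  have hMsq : ∀ (e : Fˣ) (a : F), M ((e : F) ^ 2 * a) = M a := by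
    intro e a
    rw [hMa, hMa]
    have he2 : (e : F) ^ 2 ≠ 0 := pow_ne_zero 2 e.ne_zero
    rw [← Equiv.sum_comp (Equiv.mulLeft₀ ((e : F) ^ 2) he2) (fun t => f t * conj (ψ (a * t)))]
    apply Finset.sum_congr rfl
    intro t _
    show f t * conj (ψ ((e : F) ^ 2 * a * t)) =
      f ((e : F) ^ 2 * t) * conj (ψ (a * ((e : F) ^ 2 * t)))
    rw [hfsq]
    congr 3; ring
  have hM0 : M 0 = (Fintype.card F : ℂ) * n := by
    rw [hMa]
    simp only [zero_mul, AddChar.map_zero_eq_one, map_one, mul_one]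
    rw [← hS]
    apply Finset.sum_congr rfl
    intro t _
    rw [hfa]
  obtain ⟨k₁, hk₁⟩ := hMnat 1
  obtain ⟨k₂, hk₂⟩ := hMnat ε
  have hMd := hεd M hMsq
  have hMs : ∀ s : F, s ≠ 0 → M s = (Fintype.card F : ℂ) * (if IsSquare s then (k₁ : ℂ) else k₂) := by
    intro s hs
    split_ifs with h
    · rw [(hMd s hs).1 h, hk₁]
    · rw [(hMd s hs).2 h, hk₂]
  obtain ⟨εu, hεu⟩ : ∃ εu : Fˣ, (εu : F) = ε := ⟨Units.mk0 ε hε0, rfl⟩
  have hcardu : (Fintype.card Fˣ : ℂ) = (Fintype.card F : ℂ) - 1 := by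
    rw [Fintype.card_units, Nat.cast_sub Fintype.card_pos]; simp
  have hpairM : ∀ s : F, s ≠ 0 → M s + M (ε * s) = (Fintype.card F : ℂ) * ((k₁ : ℂ) + k₂) := by
    intro s hs
    rw [hMs s hs, hMs (ε * s) (mul_ne_zero hε0 hs)]
    by_cases h : IsSquare s
    · rw [if_pos h, if_neg (fun h' => ((hεs s hs).mp h') h)]; ring
    · rw [if_neg h, if_pos ((hεs s hs).mpr h)]; ring
  have hshift : ∑ u : Fˣ, M (ε * (u : F)) = ∑ u : Fˣ, M (u : F) := by
    apply Fintype.sum_equiv (Equiv.mulLeft εu)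
    intro u
    simp [hεu]
  have hsumM : 2 * ∑ u : Fˣ, M (u : F) =
      ((Fintype.card F : ℂ) - 1) * ((Fintype.card F : ℂ) * ((k₁ : ℂ) + k₂)) := by
    have : ∑ u : Fˣ, (M (u : F) + M (ε * (u : F))) =
        ((Fintype.card F : ℂ) - 1) * ((Fintype.card F : ℂ) * ((k₁ : ℂ) + k₂)) := by
      rw [Finset.sum_congr rfl (fun (u : Fˣ) _ => hpairM (u : F) u.ne_zero), Finset.sum_const,
        Finset.card_univ, nsmul_eq_mul, hcardu]
    rw [Finset.sum_add_distrib, hshift] at this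
    linear_combination this
  have hF0 := fourier_zero hprim f
  rw [← hM, sum_split, hM0, hf0] at hF0
  have hk12 : k₁ + k₂ = 1 := by
    have : ((k₁ : ℂ) + k₂) = 1 := by
      apply mul_left_cancel₀ hq0
      apply mul_left_cancel₀ hq1
      linear_combination -hsumM + 2 * hF0 + (Fintype.card F : ℂ) * hdeg
    exact_mod_cast this
  refine ⟨k₁, k₂, hk12, hMs, ?_⟩
  -- the value at the transvection
  have hFi := fourier_inv hprim f
  rw [← hM, sum_split (fun a => M a * ψ a), hM0] at hFi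
  simp only [AddChar.map_zero_eq_one, mul_one] at hFi
  have hψsum : ∑ u : Fˣ, ψ (u : F) = -1 := by
    have h := AddChar.sum_eq_zero_of_ne_one hψ1
    rw [sum_split (fun a => ψ a)] at h
    simp only [AddChar.map_zero_eq_one] at h
    linear_combination h
  have hGs : ∑ u : Fˣ, qc (u : F) * ψ (u : F) = Gs ψ := by
    unfold Gs
    rw [sum_split (fun a => qc a * ψ a)]
    simp [qc]
  have hterm : ∀ u : Fˣ, M (u : F) * ψ (u : F) = (Fintype.card F : ℂ) / 2 *
      (((k₁ : ℂ) + k₂) * ψ (u : F) + ((k₁ : ℂ) - k₂) * (qc (u : F) * ψ (u : F))) := by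
    intro u
    rw [hMs (u : F) u.ne_zero]
    unfold qc
    rw [if_neg u.ne_zero]
    split_ifs <;> ring
  rw [Finset.sum_congr rfl (fun u _ => hterm u), ← Finset.mul_sum, Finset.sum_add_distrib,
    ← Finset.mul_sum, ← Finset.mul_sum, hψsum, hGs] at hFi
  rw [← hfa]
  apply mul_left_cancel₀ hq0
  have hk12' : ((k₁ : ℂ) + k₂) = 1 := by exact_mod_cast hk12
  rw [hk12'] at hFi
  linear_combination -2 * hFi

lemma Zb_false : (Zb false : SL2) = 1 := by
  apply Subtype.ext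
  rw [Zb_coe]
  ext i j
  fin_cases i <;> fin_cases j <;> simp [sg]

/-- the sum of the squared absolute values over the extended family -/
lemma Psi_sum {χ : SL2 → ℂ} (hχ : IsIrrCharacter SL2 χ) :
    ∑ i : (Bool ⊕ (Bool × F × Fˣ)) ⊕ (Bool × Fˣ), Complex.normSq (χ (Psi i)) =
      2 * Complex.normSq (χ 1) +
        2 * (((Fintype.card F : ℝ) + 1) * ∑ t : Fˣ, Complex.normSq (χ (umat (t : F)))) := by
  have hcf : IsClassFunction SL2 χ := isClassFunction_of_isCharacter (irr_isCharacter hχ)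
  rw [Fintype.sum_sum_type, Fintype.sum_sum_type]
  have e1 : ∀ b : Bool, Complex.normSq (χ (Psi (Sum.inl (Sum.inl b)))) = Complex.normSq (χ 1) := by
    intro b
    have := Cfsg.Agent.S2310.central_norm hχ (Zb_center (F := F) b) 1
    rw [mul_one] at this
    exact this
  have e2 : ∀ x : Bool × F × Fˣ, Complex.normSq (χ (Psi (Sum.inl (Sum.inr x)))) =
      Complex.normSq (χ (umat (x.2.2 : F))) := by
    rintro ⟨b, c, t⟩
    show Complex.normSq (χ (Zb b * (lmat c * umat (t : F) * (lmat c)⁻¹))) = _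
    rw [Cfsg.Agent.S2310.central_norm hχ (Zb_center (F := F) b), hcf]
  have e3 : ∀ x : Bool × Fˣ, Complex.normSq (χ (Psi (Sum.inr x))) =
      Complex.normSq (χ (umat (((-x.2 : Fˣ)) : F))) := by
    rintro ⟨b, s⟩
    show Complex.normSq (χ (Zb b * lmat (s : F))) = _
    rw [Cfsg.Agent.S2310.central_norm hχ (Zb_center (F := F) b), lmat_eq, hcf]
    simp
  rw [Finset.sum_congr rfl (fun b _ => e1 b), Finset.sum_congr rfl (fun x _ => e2 x),
    Finset.sum_congr rfl (fun x _ => e3 x), Fintype.sum_prod_type, Fintype.sum_prod_type]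
  have hneg : ∑ s : Fˣ, Complex.normSq (χ (umat (((-s : Fˣ)) : F))) =
      ∑ s : Fˣ, Complex.normSq (χ (umat (s : F))) :=
    Equiv.sum_comp (Equiv.neg Fˣ) (fun s : Fˣ => Complex.normSq (χ (umat (s : F))))
  simp only [Fintype.sum_prod_type, Finset.sum_const, Finset.card_univ, Fintype.card_bool,
    nsmul_eq_mul, hneg]
  push_cast
  ring

/-- two characters agreeing on the extended family with large mass there are equal -/
lemma mass_lemma (h2 : (2 : F) ≠ 0) {χ₁ χ₂ : SL2 → ℂ} (h1 : IsIrrCharacter SL2 χ₁)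
    (h2' : IsIrrCharacter SL2 χ₂) (hne : χ₁ ≠ χ₂)
    (heq : ∀ i : (Bool ⊕ (Bool × F × Fˣ)) ⊕ (Bool × Fˣ), χ₁ (Psi i) = χ₂ (Psi i)) :
    2 * ∑ i : (Bool ⊕ (Bool × F × Fˣ)) ⊕ (Bool × Fˣ), Complex.normSq (χ₁ (Psi i)) ≤
      (Nat.card SL2 : ℝ) := by
  classical
  obtain ⟨A, hA⟩ : ∃ A : ℝ, A = ∑ i : (Bool ⊕ (Bool × F × Fˣ)) ⊕ (Bool × Fˣ),
      Complex.normSq (χ₁ (Psi i)) := ⟨_, rfl⟩
  rw [← hA]
  have hA2 : A = ∑ i : (Bool ⊕ (Bool × F × Fˣ)) ⊕ (Bool × Fˣ), Complex.normSq (χ₂ (Psi i)) := by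
    rw [hA]
    exact Finset.sum_congr rfl (fun i _ => by rw [heq i])
  have hinj := Psi_injective (F := F) h2
  obtain ⟨R, hR⟩ : ∃ R : Finset SL2, R = Finset.univ.image (Psi (F := F)) := ⟨_, rfl⟩
  have hsumR : ∀ f : SL2 → ℝ, ∑ g ∈ R, f g =
      ∑ i : (Bool ⊕ (Bool × F × Fˣ)) ⊕ (Bool × Fˣ), f (Psi i) := by
    intro f
    rw [hR, Finset.sum_image (fun a _ b _ h => hinj h)]
  have hsumRc : ∀ f : SL2 → ℂ, ∑ g ∈ R, f g =
      ∑ i : (Bool ⊕ (Bool × F × Fˣ)) ⊕ (Bool × Fˣ), f (Psi i) := by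
    intro f
    rw [hR, Finset.sum_image (fun a _ b _ h => hinj h)]
  -- masses outside R
  have hout : ∀ χ : SL2 → ℂ, IsIrrCharacter SL2 χ →
      A = ∑ i : (Bool ⊕ (Bool × F × Fˣ)) ⊕ (Bool × Fˣ), Complex.normSq (χ (Psi i)) →
      ∑ g ∈ Rᶜ, Complex.normSq (χ g) = (Nat.card SL2 : ℝ) - A := by
    intro χ hχ hAχ
    have := Cfsg.Agent.S2310.sum_normSq hχ
    rw [← Finset.sum_add_sum_compl R, hsumR, ← hAχ] at this
    linarith
  have ho1 := hout χ₁ h1 hA
  have ho2 := hout χ₂ h2' hA2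
  -- orthogonality
  have horth : ∑ g : SL2, χ₁ g * conj (χ₂ g) = 0 := by
    have := irr_classInner h1 h2'
    rw [if_neg hne] at this
    unfold classInner at this
    rcases mul_eq_zero.mp this with h | h
    · exfalso
      have hG : (Nat.card SL2 : ℂ) ≠ 0 := Nat.cast_ne_zero.mpr Nat.card_pos.ne'
      exact hG (inv_eq_zero.mp h)
    · exact h
  rw [← Finset.sum_add_sum_compl R, hsumRc] at horth
  have hin : ∑ i : (Bool ⊕ (Bool × F × Fˣ)) ⊕ (Bool × Fˣ), χ₁ (Psi i) * conj (χ₂ (Psi i)) =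
      (A : ℂ) := by
    rw [hA, Complex.ofReal_sum]
    apply Finset.sum_congr rfl
    intro i _
    rw [← heq i, Complex.mul_conj]
  rw [hin] at horth
  have hcs : ‖∑ g ∈ Rᶜ, χ₁ g * conj (χ₂ g)‖ ^ 2 ≤
      ((Nat.card SL2 : ℝ) - A) * ((Nat.card SL2 : ℝ) - A) := by
    have hn1 : ‖∑ g ∈ Rᶜ, χ₁ g * conj (χ₂ g)‖ ≤ ∑ g ∈ Rᶜ, ‖χ₁ g‖ * ‖χ₂ g‖ := by
      refine le_trans (norm_sum_le _ _) (le_of_eq ?_)
      apply Finset.sum_congr rfl
      intro g _
      rw [norm_mul, Complex.norm_conj]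
    have hn2 := Finset.sum_mul_sq_le_sq_mul_sq Rᶜ (fun g => ‖χ₁ g‖) (fun g => ‖χ₂ g‖)
    have hn3 : ∀ χ : SL2 → ℂ, ∑ g ∈ Rᶜ, ‖χ g‖ ^ 2 = ∑ g ∈ Rᶜ, Complex.normSq (χ g) := by
      intro χ
      exact Finset.sum_congr rfl (fun g _ => (Complex.normSq_eq_norm_sq _).symm)
    rw [hn3 χ₁, hn3 χ₂, ho1, ho2] at hn2
    calc ‖∑ g ∈ Rᶜ, χ₁ g * conj (χ₂ g)‖ ^ 2 ≤ (∑ g ∈ Rᶜ, ‖χ₁ g‖ * ‖χ₂ g‖) ^ 2 :=
          pow_le_pow_left₀ (norm_nonneg _) hn1 2
      _ ≤ _ := hn2
  have hval : ∑ g ∈ Rᶜ, χ₁ g * conj (χ₂ g) = -(A : ℂ) := by linear_combination horth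
  rw [hval, norm_neg, Complex.norm_real] at hcs
  have hA0 : 0 ≤ A := by
    rw [hA]
    exact Finset.sum_nonneg (fun i _ => Complex.normSq_nonneg _)
  have hB0 : 0 ≤ (Nat.card SL2 : ℝ) - A := by
    rw [← ho1]
    exact Finset.sum_nonneg (fun i _ => Complex.normSq_nonneg _)
  rw [Real.norm_eq_abs, sq_abs] at hcs
  nlinarith

lemma Mt_sub (ψ : AddChar F ℂ) (f g : F → ℂ) (a : F) :
    Mt ψ (fun t => f t - g t) a = Mt ψ f a - Mt ψ g a := by
  unfold Mt
  rw [← Finset.sum_sub_distrib]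
  apply Finset.sum_congr rfl
  intro t _
  ring

/-- a function is determined by its Fourier transform -/
lemma Mt_inj {ψ : AddChar F ℂ} (hψ : ψ.IsPrimitive) (f g : F → ℂ)
    (h : ∀ a, Mt ψ f a = Mt ψ g a) : ∀ t, f t = g t := by
  have hP := parseval hψ (fun t => f t - g t)
  simp_rw [Mt_sub, h, sub_self, zero_mul, Finset.sum_const_zero] at hP
  have hq0 := qne0 (F := F)
  have h0 : ∑ t : F, (f t - g t) * conj (f t - g t) = 0 := by
    rcases mul_eq_zero.mp hP.symm with h' | h'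
    · exact absurd h' hq0
    · exact h'
  have h1 : ∑ t : F, Complex.normSq (f t - g t) = 0 := by
    have : ((∑ t : F, Complex.normSq (f t - g t) : ℝ) : ℂ) = 0 := by
      rw [Complex.ofReal_sum, ← h0]
      apply Finset.sum_congr rfl
      intro t _
      rw [Complex.mul_conj]
    exact_mod_cast this
  intro t
  have h2 := (Finset.sum_eq_zero_iff_of_nonneg (fun t _ => Complex.normSq_nonneg _)).mp h1 t
    (Finset.mem_univ t)
  exact sub_eq_zero.mp (Complex.normSq_eq_zero.mp h2)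

lemma sum_sq_class (ε : F) (hε0 : ε ≠ 0)
    (hεs : ∀ s : F, s ≠ 0 → (IsSquare (ε * s) ↔ ¬ IsSquare s)) (A B : ℂ) :
    2 * ∑ u : Fˣ, (if IsSquare (u : F) then A else B) = ((Fintype.card F : ℂ) - 1) * (A + B) := by
  classical
  obtain ⟨εu, hεu⟩ : ∃ εu : Fˣ, (εu : F) = ε := ⟨Units.mk0 ε hε0, rfl⟩
  have hcardu : (Fintype.card Fˣ : ℂ) = (Fintype.card F : ℂ) - 1 := by
    rw [Fintype.card_units, Nat.cast_sub Fintype.card_pos]; simp
  have hshift : ∑ u : Fˣ, (if IsSquare (ε * (u : F)) then A else B) =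
      ∑ u : Fˣ, (if IsSquare (u : F) then A else B) := by
    apply Fintype.sum_equiv (Equiv.mulLeft εu)
    intro u
    simp [hεu]
  have hpair : ∀ u : Fˣ, (if IsSquare (u : F) then A else B) +
      (if IsSquare (ε * (u : F)) then A else B) = A + B := by
    intro u
    by_cases h : IsSquare (u : F)
    · rw [if_pos h, if_neg (fun h' => ((hεs _ u.ne_zero).mp h') h)]
    · rw [if_neg h, if_pos ((hεs _ u.ne_zero).mpr h)]; ring
  have : ∑ u : Fˣ, ((if IsSquare (u : F) then A else B) +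
      (if IsSquare (ε * (u : F)) then A else B)) = ((Fintype.card F : ℂ) - 1) * (A + B) := by
    rw [Finset.sum_congr rfl (fun u _ => hpair u), Finset.sum_const, Finset.card_univ,
      nsmul_eq_mul, hcardu]
  rw [Finset.sum_add_distrib, hshift] at this
  linear_combination this

/-- two distinct cuspidal characters of degree `(q - 1) / 2` with the same central sign have
different types -/
lemma same_type_false (hodd : Odd (Fintype.card F)) (hq : 5 ≤ Fintype.card F) (ε : F) (hε0 : ε ≠ 0)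
    (hεs : ∀ s : F, s ≠ 0 → (IsSquare (ε * s) ↔ ¬ IsSquare s))
    {ψ : AddChar F ℂ} (hψ1 : ψ ≠ 1) {χ₁ χ₂ : SL2 → ℂ} (h1 : IsIrrCharacter SL2 χ₁)
    (h2 : IsIrrCharacter SL2 χ₂) (hne : χ₁ ≠ χ₂)
    (hd1 : 2 * χ₁ 1 = (Fintype.card F : ℂ) - 1) (hd2 : 2 * χ₂ 1 = (Fintype.card F : ℂ) - 1)
    (hS1 : ∑ t : F, χ₁ (umat t) = 0) (hS2 : ∑ t : F, χ₂ (umat t) = 0) (σ : ℂ)
    (hσ1 : ∀ g, χ₁ (Zb true * g) = σ * χ₁ g) (hσ2 : ∀ g, χ₂ (Zb true * g) = σ * χ₂ g)
    (k₁ k₂ : ℕ) (hk : k₁ + k₂ = 1)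
    (hM1 : ∀ s : F, s ≠ 0 → Mt ψ (fun t => χ₁ (umat t)) s =
      (Fintype.card F : ℂ) * (if IsSquare s then (k₁ : ℂ) else k₂))
    (hM2 : ∀ s : F, s ≠ 0 → Mt ψ (fun t => χ₂ (umat t)) s =
      (Fintype.card F : ℂ) * (if IsSquare s then (k₁ : ℂ) else k₂)) : False := by
  classical
  have hcharF : ringChar F ≠ 2 := by
    intro h
    have := FiniteField.even_card_of_char_two h
    obtain ⟨m, hm⟩ := hodd
    omega
  have h2F : (2 : F) ≠ 0 := Ring.two_ne_zero hcharF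
  have hprim : ψ.IsPrimitive := AddChar.IsPrimitive.of_ne_one hψ1
  have hq0 := qne0 (F := F)
  have hcf1 : IsClassFunction SL2 χ₁ := isClassFunction_of_isCharacter (irr_isCharacter h1)
  have hcf2 : IsClassFunction SL2 χ₂ := isClassFunction_of_isCharacter (irr_isCharacter h2)
  have hM0 : ∀ χ : SL2 → ℂ, ∑ t : F, χ (umat t) = 0 → Mt ψ (fun t => χ (umat t)) 0 = 0 := by
    intro χ hS
    unfold Mt
    simp only [zero_mul, AddChar.map_zero_eq_one, map_one, mul_one]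
    exact hS
  -- equality on the unipotent elements
  have hfeq : ∀ t : F, χ₁ (umat t) = χ₂ (umat t) := by
    apply Mt_inj hprim (fun t => χ₁ (umat t)) (fun t => χ₂ (umat t))
    intro a
    by_cases ha : a = 0
    · rw [ha, hM0 χ₁ hS1, hM0 χ₂ hS2]
    · rw [hM1 a ha, hM2 a ha]
  have hdeq : χ₁ 1 = χ₂ 1 := by
    have := hfeq 0
    rw [umat_zero] at this
    exact this
  have hb : ∀ (χ : SL2 → ℂ), (∀ g, χ (Zb true * g) = σ * χ g) → ∀ (b : Bool) (g : SL2),
      χ (Zb b * g) = (if b then σ else 1) * χ g := by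
    intro χ hσ b g
    cases b
    · rw [Zb_false]; simp
    · rw [hσ]; simp
  have heq : ∀ i : (Bool ⊕ (Bool × F × Fˣ)) ⊕ (Bool × Fˣ), χ₁ (Psi i) = χ₂ (Psi i) := by
    rintro ((b | ⟨b, c, t⟩) | ⟨b, s⟩)
    · show χ₁ (Zb b) = χ₂ (Zb b)
      have e1 := hb χ₁ hσ1 b 1
      have e2 := hb χ₂ hσ2 b 1
      rw [mul_one] at e1 e2
      rw [e1, e2, hdeq]
    · show χ₁ (Zb b * (lmat c * umat (t : F) * (lmat c)⁻¹)) =
        χ₂ (Zb b * (lmat c * umat (t : F) * (lmat c)⁻¹))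
      rw [hb χ₁ hσ1, hb χ₂ hσ2, hcf1, hcf2, hfeq]
    · show χ₁ (Zb b * lmat (s : F)) = χ₂ (Zb b * lmat (s : F))
      rw [hb χ₁ hσ1, hb χ₂ hσ2, lmat_eq, hcf1, hcf2, hfeq]
  have hmass := mass_lemma h2F h1 h2 hne heq
  rw [Psi_sum h1] at hmass
  -- the value of T
  obtain ⟨T, hT⟩ : ∃ T : ℝ, T = ∑ t : Fˣ, Complex.normSq (χ₁ (umat (t : F))) := ⟨_, rfl⟩
  rw [← hT] at hmass
  have hPa := parseval hprim (fun t => χ₁ (umat t))
  rw [sum_split (fun a => Mt ψ (fun t => χ₁ (umat t)) a * conj (Mt ψ (fun t => χ₁ (umat t)) a)),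
    hM0 χ₁ hS1, zero_mul, zero_add, sum_split (fun t => χ₁ (umat t) * conj (χ₁ (umat t))),
    umat_zero] at hPa
  have hTc : ∑ u : Fˣ, χ₁ (umat (u : F)) * conj (χ₁ (umat (u : F))) = (T : ℂ) := by
    rw [hT, Complex.ofReal_sum]
    apply Finset.sum_congr rfl
    intro u _
    rw [Complex.mul_conj]
  rw [hTc] at hPa
  have hk2 : ((k₁ : ℂ)) ^ 2 + (k₂ : ℂ) ^ 2 = 1 := by
    have h1' : k₁ ≤ 1 := by omega
    interval_cases k₁
    · have : k₂ = 1 := by omega
      subst this; norm_num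
    · have : k₂ = 0 := by omega
      subst this; norm_num
  have hterm : ∀ u : Fˣ, Mt ψ (fun t => χ₁ (umat t)) (u : F) *
      conj (Mt ψ (fun t => χ₁ (umat t)) (u : F)) =
      if IsSquare (u : F) then ((Fintype.card F : ℂ) * k₁) ^ 2 else ((Fintype.card F : ℂ) * k₂) ^ 2 := by
    intro u
    rw [hM1 (u : F) u.ne_zero]
    split_ifs <;> simp only [map_mul, map_natCast] <;> ring
  rw [Finset.sum_congr rfl (fun u _ => hterm u)] at hPa
  have hsq := sum_sq_class ε hε0 hεs (((Fintype.card F : ℂ) * k₁) ^ 2) (((Fintype.card F : ℂ) * k₂) ^ 2)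
  rw [hPa] at hsq
  have hχ1 : χ₁ 1 = (((Fintype.card F : ℝ) - 1) / 2 : ℝ) := by
    push_cast
    linear_combination hd1 / 2
  have hn1 : Complex.normSq (χ₁ 1) = (((Fintype.card F : ℝ) - 1) / 2) ^ 2 := by
    rw [hχ1, Complex.normSq_ofReal]; ring
  have hTval : 2 * ((Fintype.card F : ℝ) * ((((Fintype.card F : ℝ) - 1) / 2) ^ 2 + T)) =
      ((Fintype.card F : ℝ) - 1) * (Fintype.card F : ℝ) ^ 2 := by
    have hc : (2 : ℂ) * ((Fintype.card F : ℂ) * (χ₁ 1 * conj (χ₁ 1) + T)) =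
        ((Fintype.card F : ℂ) - 1) * (Fintype.card F : ℂ) ^ 2 := by
      rw [hsq]
      linear_combination ((Fintype.card F : ℂ) - 1) * (Fintype.card F : ℂ) ^ 2 * hk2
    rw [Complex.mul_conj, hn1] at hc
    exact_mod_cast hc
  rw [hn1] at hmass
  have hG : (Nat.card SL2 : ℝ) = ((Fintype.card F : ℝ) + 1) *
      ((Fintype.card F : ℝ) * ((Fintype.card F : ℝ) - 1)) := by
    rw [Nat.card_eq_fintype_card, cardSL, cardB]
    push_cast [Nat.cast_sub Fintype.card_pos]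
    ring
  rw [hG] at hmass
  have hq5 : (5 : ℝ) ≤ (Fintype.card F : ℝ) := by exact_mod_cast hq
  have hqpos : (0 : ℝ) < (Fintype.card F : ℝ) := by linarith
  have hTe : T = (Fintype.card F : ℝ) * ((Fintype.card F : ℝ) - 1) / 2 -
      (((Fintype.card F : ℝ) - 1) / 2) ^ 2 := by
    have h3 : (Fintype.card F : ℝ) * ((((Fintype.card F : ℝ) - 1) / 2) ^ 2 + T) =
        (Fintype.card F : ℝ) * (((Fintype.card F : ℝ) - 1) * (Fintype.card F : ℝ) / 2) := by
      linear_combination hTval / 2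
    have h4 := mul_left_cancel₀ hqpos.ne' h3
    linarith
  rw [hTe] at hmass
  nlinarith [mul_pos hqpos (by linarith : (0 : ℝ) < (Fintype.card F : ℝ) - 1)]


lemma mem_pair (R a b ξ : SL2 → ℂ) (ha : IsIrrCharacter SL2 a) (hb : IsIrrCharacter SL2 b)
    (hR : R = a + b) (hξ : IsIrrCharacter SL2 ξ) (hne : classInner R ξ ≠ 0) : ξ = a ∨ ξ = b := by
  classical
  rw [hR, classInner_add_left, irr_classInner ha hξ, irr_classInner hb hξ] at hne
  by_contra hcon
  rw [not_or] at hcon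
  rw [if_neg (fun h => hcon.1 h.symm), if_neg (fun h => hcon.2 h.symm)] at hne
  simp at hne

/-- values of a nontrivial quadratic character -/
lemma quad_unique (ε : F) (hε0 : ε ≠ 0)
    (hεd : ∀ f : F → ℂ, (∀ (e : Fˣ) (t : F), f ((e : F) ^ 2 * t) = f t) →
      ∀ s : F, s ≠ 0 → (IsSquare s → f s = f 1) ∧ (¬ IsSquare s → f s = f ε))
    (β : MulChar F ℂ) (hβ2 : β ^ 2 = 1) (hβ1 : β ≠ 1) :
    ∀ s : F, s ≠ 0 → (IsSquare s → β s = 1) ∧ (¬ IsSquare s → β s = -1) := by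
  have hfsq : ∀ (e : Fˣ) (t : F), β ((e : F) ^ 2 * t) = β t := by
    intro e t
    rw [map_mul, map_pow, ← MulChar.pow_apply_coe, hβ2, MulChar.one_apply_coe, one_mul]
  have hd := hεd (fun t => β t) hfsq
  have hεsq : β ε * β ε = 1 := by
    rw [← map_mul, ← pow_two]
    have := hfsq (Units.mk0 ε hε0) 1
    rw [mul_one, map_one] at this
    exact this
  have hεv : β ε = -1 := by
    rcases mul_self_eq_one_iff.mp hεsq with h | h
    · exfalso
      apply hβ1
      ext a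
      rw [MulChar.one_apply_coe]
      by_cases hs : IsSquare (a : F)
      · have := (hd a a.ne_zero).1 hs
        beta_reduce at this
        rw [this]; exact map_one β
      · have := (hd a a.ne_zero).2 hs
        beta_reduce at this
        rw [this]; exact h
    · exact h
  intro s hs
  refine ⟨fun h => ?_, fun h => ?_⟩
  · have := (hd s hs).1 h
    beta_reduce at this
    rw [this, map_one]
  · have := (hd s hs).2 h
    beta_reduce at this
    rw [this, hεv]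

lemma quad_eq (ε : F) (hε0 : ε ≠ 0)
    (hεd : ∀ f : F → ℂ, (∀ (e : Fˣ) (t : F), f ((e : F) ^ 2 * t) = f t) →
      ∀ s : F, s ≠ 0 → (IsSquare s → f s = f 1) ∧ (¬ IsSquare s → f s = f ε))
    (β : MulChar F ℂ) (hβ2 : β ^ 2 = 1) (hβ1 : β ≠ 1)
    (β' : MulChar F ℂ) (hβ2' : β' ^ 2 = 1) (hβ1' : β' ≠ 1) : β = β' := by
  ext a
  have h1 := quad_unique ε hε0 hεd β hβ2 hβ1 a a.ne_zero
  have h2 := quad_unique ε hε0 hεd β' hβ2' hβ1' a a.ne_zero
  by_cases hs : IsSquare (a : F)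
  · rw [h1.1 hs, h2.1 hs]
  · rw [h1.2 hs, h2.2 hs]

/-- a principal series constituent of degree `(q+1)/2` belongs to the quadratic character -/
lemma plus_quad (hq : 5 ≤ Fintype.card F) {χ : SL2 → ℂ} (hχ : IsIrrCharacter SL2 χ)
    (hdeg : 2 * χ 1 = (Fintype.card F : ℂ) + 1) (β : MulChar F ℂ)
    (hne : classInner (Rf β) χ ≠ 0) : β ^ 2 = 1 ∧ β ≠ 1 := by
  classical
  have hcard1 : (Fintype.card F : ℂ) ≠ 1 := by
    intro h
    have : Fintype.card F = 1 := by exact_mod_cast h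
    omega
  have hcardm1 : (Fintype.card F : ℂ) + 1 ≠ 0 := by
    intro h
    have h' : ((Fintype.card F + 1 : ℕ) : ℂ) = 0 := by push_cast; exact h
    have := Nat.cast_eq_zero.mp h'
    omega
  constructor
  · by_contra hsq
    have hirr : IsIrrCharacter SL2 (Rf β) := (Cfsg.Agent.S2306.result β).mpr hsq
    rw [irr_classInner hirr hχ] at hne
    have h : Rf β = χ := by
      by_contra h
      rw [if_neg h] at hne
      exact hne rfl
    have hχ1 : χ 1 = (Fintype.card F : ℂ) + 1 := by rw [← h, Rf_one]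
    apply hcardm1
    linear_combination hdeg - 2 * hχ1
  · intro hone
    subst hone
    have hRchar : IsCharacter SL2 (Rf (1 : MulChar F ℂ)) :=
      isCharacter_indFun (Bsub F)
        (Cfsg.Agent.S2306.isCharacter_of_monoidHom (Cfsg.Agent.S2306.diagHom 1))
    have hnorm : classInner (Rf (1 : MulChar F ℂ)) (Rf 1) = 2 := by
      have := Cfsg.Agent.S2306.inner_general (1 : MulChar F ℂ) 1
      rw [if_pos rfl, if_pos inv_one.symm] at this
      have h2 : classInner (Rf (1 : MulChar F ℂ)) (Rf 1) = 1 + 1 := this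
      rw [h2]; norm_num
    obtain ⟨a, b, ha, hb, hab, hsumab⟩ := norm_two_char hRchar hnorm
    have htriv : IsIrrCharacter SL2 (fun _ => (1 : ℂ)) := by
      refine ⟨1, Cfsg.Agent.S2306.linRep (1 : SL2 →* ℂ),
        irreducible_of_finrank_eq_one _ (by simp), ?_⟩
      funext g
      rw [Cfsg.Agent.S2306.linRep_character]
      rfl
    have hR1 : classInner (Rf (1 : MulChar F ℂ)) (fun _ => (1 : ℂ)) = 1 := by
      haveI : Fintype (Bsub F) := Fintype.ofFinite _
      show classInner (Cfsg.indFun (Bsub F) _) _ = _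
      rw [frobenius_reciprocity (Bsub F) _ _ (fun _ _ => rfl)]
      unfold classInner
      have : ∀ b : Bsub F, (1 : MulChar F ℂ) (((b : SL2) : Matrix (Fin 2) (Fin 2) F) 0 0) *
          conj (1 : ℂ) = 1 := by
        intro b
        have hb10 := (mem_B b.1).mp b.2
        have hd := det_eq b.1
        rw [hb10, mul_zero, sub_zero] at hd
        rw [MulChar.one_apply (IsUnit.of_mul_eq_one _ hd)]
        simp
      rw [Finset.sum_congr rfl (fun b _ => this b), Finset.sum_const, Finset.card_univ,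
        nsmul_eq_mul, mul_one, ← Nat.card_eq_fintype_card]
      exact inv_mul_cancel₀ cardB_ne_zero
    have hs1 := congrFun hsumab 1
    rw [Pi.add_apply, Rf_one] at hs1
    rcases mem_pair _ a b χ ha hb hsumab hχ hne with h | h <;>
      rcases mem_pair _ a b _ ha hb hsumab htriv (by rw [hR1]; exact one_ne_zero) with h' | h'
    · have hx : χ 1 = 1 := by rw [h, ← h']
      apply hcard1; linear_combination -hdeg + 2 * hx
    · have hb1 : b 1 = 1 := by rw [← h']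
      have hx : χ 1 = (Fintype.card F : ℂ) := by
        rw [h]; linear_combination (-1 : ℂ) * hs1 - hb1
      apply hcard1; linear_combination hdeg - 2 * hx
    · have ha1 : a 1 = 1 := by rw [← h']
      have hx : χ 1 = (Fintype.card F : ℂ) := by
        rw [h]; linear_combination (-1 : ℂ) * hs1 - ha1
      apply hcard1; linear_combination hdeg - 2 * hx
    · have hx : χ 1 = 1 := by rw [h, ← h']
      apply hcard1; linear_combination -hdeg + 2 * hx

lemma plus_sum (hodd : Odd (Fintype.card F)) (hq : 5 ≤ Fintype.card F) {χ₁ χ₂ : SL2 → ℂ}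
    (h1 : IsIrrCharacter SL2 χ₁) (h2 : IsIrrCharacter SL2 χ₂) (hne : χ₁ ≠ χ₂)
    (hd1 : 2 * χ₁ 1 = (Fintype.card F : ℂ) + 1) (hd2 : 2 * χ₂ 1 = (Fintype.card F : ℂ) + 1)
    (hS1 : ∑ t : F, χ₁ (umat t) ≠ 0) (hS2 : ∑ t : F, χ₂ (umat t) ≠ 0) :
    χ₁ (umat 1) + χ₂ (umat 1) = 1 := by
  classical
  obtain ⟨ε, hε0, hεn, hεs, hεd⟩ := exists_sqclass hodd
  obtain ⟨β₁, hβ₁⟩ := exists_of_S_ne h1 hS1
  obtain ⟨β₂, hβ₂⟩ := exists_of_S_ne h2 hS2
  obtain ⟨hb1, hb1'⟩ := plus_quad hq h1 hd1 β₁ hβ₁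
  obtain ⟨hb2, hb2'⟩ := plus_quad hq h2 hd2 β₂ hβ₂
  have hβ : β₂ = β₁ := quad_eq ε hε0 hεd β₂ hb2 hb2' β₁ hb1 hb1'
  rw [hβ] at hβ₂
  obtain ⟨a, b, ha, hb, hab, hsum, -, -, -⟩ := main' β₁ hb1 hb1'
  have hval : Rf β₁ (umat 1) = 1 := by
    have h3 := case3 β₁ (umat (1 : F)) (by rw [umat_coe]; simp) (by rw [umat_coe]; simp)
      (by rw [umat_coe]; simp)
    have h3' : Rf β₁ (umat 1) = β₁ (((umat (1 : F) : SL2) : Matrix (Fin 2) (Fin 2) F) 0 0) := h3
    rw [h3', umat_coe]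
    simp
  have hs1 := congrFun hsum (umat 1)
  rw [Pi.add_apply, hval] at hs1
  rcases mem_pair _ a b χ₁ ha hb hsum h1 hβ₁ with e1 | e1 <;>
    rcases mem_pair _ a b χ₂ ha hb hsum h2 hβ₂ with e2 | e2
  · exact absurd (e1.trans e2.symm) hne
  · rw [e1, e2]; exact hs1.symm
  · rw [e1, e2, add_comm]; exact hs1.symm
  · exact absurd (e1.trans e2.symm) hne

theorem main (hodd : Odd (Fintype.card F)) (hq : 5 ≤ Fintype.card F) :
    (∀ χ : SL2 → ℂ, IsIrrCharacter SL2 χ → χ 1 = (((Fintype.card F + 1) / 2 : ℕ) : ℂ) →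
      (2 * χ (umat 1) - 1) ^ 2 = (-1 : ℂ) ^ ((Fintype.card F - 1) / 2) * (Fintype.card F : ℂ)) ∧
    (∀ χ : SL2 → ℂ, IsIrrCharacter SL2 χ → χ 1 = (((Fintype.card F - 1) / 2 : ℕ) : ℂ) →
      (2 * χ (umat 1) + 1) ^ 2 = (-1 : ℂ) ^ ((Fintype.card F - 1) / 2) * (Fintype.card F : ℂ)) ∧
    (∀ χ₁ χ₂ : SL2 → ℂ, IsIrrCharacter SL2 χ₁ → IsIrrCharacter SL2 χ₂ → χ₁ ≠ χ₂ →
      χ₁ 1 = (((Fintype.card F + 1) / 2 : ℕ) : ℂ) → χ₂ 1 = (((Fintype.card F + 1) / 2 : ℕ) : ℂ) →
      χ₁ (umat 1) + χ₂ (umat 1) = 1) ∧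
    (∀ χ₁ χ₂ : SL2 → ℂ, IsIrrCharacter SL2 χ₁ → IsIrrCharacter SL2 χ₂ → χ₁ ≠ χ₂ →
      χ₁ 1 = (((Fintype.card F - 1) / 2 : ℕ) : ℂ) → χ₂ 1 = (((Fintype.card F - 1) / 2 : ℕ) : ℂ) →
      χ₁ (umat 1) + χ₂ (umat 1) = -1) := by
  classical
  have hodd' := hodd
  obtain ⟨m, hm⟩ := hodd'
  have hm2 : 2 ≤ m := by omega
  have hqc : (Fintype.card F : ℂ) = 2 * (m : ℂ) + 1 := by rw [hm]; push_cast; ring
  have hp : (Fintype.card F + 1) / 2 = m + 1 := by omega
  have hmn : (Fintype.card F - 1) / 2 = m := by omega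
  have hcharF : ringChar F ≠ 2 := by
    intro h
    have := FiniteField.even_card_of_char_two h
    omega
  have h2F : (2 : F) ≠ 0 := Ring.two_ne_zero hcharF
  obtain ⟨ε, hε0, hεn, hεs, hεd⟩ := exists_sqclass hodd
  obtain ⟨ψ, hψ⟩ := (AddChar.exists_apply_ne_zero (α := F) (a := 1)).mpr one_ne_zero
  have hψ1 : ψ ≠ 1 := by
    intro h
    apply hψ
    rw [h]; rfl
  have hprim : ψ.IsPrimitive := AddChar.IsPrimitive.of_ne_one hψ1
  have hG := Gs_sq hodd hprim
  have hplus : ∀ χ : SL2 → ℂ, IsIrrCharacter SL2 χ →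
      χ 1 = (((Fintype.card F + 1) / 2 : ℕ) : ℂ) →
      ∃ k₁ k₂ : ℕ, k₁ + k₂ = 1 ∧ 2 * χ (umat 1) = 1 + ((k₁ : ℂ) - k₂) * Gs ψ := by
    intro χ hχ hd
    have hS := (Cfsg.Agent.S2438.main hodd hq χ hχ).2.2.2.1 hd
    rw [hp] at hd
    obtain ⟨k₁, k₂, hk, -, hv⟩ := type_lemma ε hε0 hεs hεd hψ1 (irr_isCharacter hχ) 1
      (by rw [hS]; simp) (by rw [hd, hqc]; push_cast; ring)
    exact ⟨k₁, k₂, hk, by rw [hv]; push_cast; ring⟩
  have hminus : ∀ χ : SL2 → ℂ, IsIrrCharacter SL2 χ →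
      χ 1 = (((Fintype.card F - 1) / 2 : ℕ) : ℂ) →
      ∃ k₁ k₂ : ℕ, k₁ + k₂ = 1 ∧
      (∀ s : F, s ≠ 0 → Mt ψ (fun t => χ (umat t)) s =
        (Fintype.card F : ℂ) * (if IsSquare s then (k₁ : ℂ) else k₂)) ∧
      2 * χ (umat 1) = -1 + ((k₁ : ℂ) - k₂) * Gs ψ := by
    intro χ hχ hd
    have hS := (Cfsg.Agent.S2438.main hodd hq χ hχ).2.2.2.2 hd
    rw [hmn] at hd
    obtain ⟨k₁, k₂, hk, hM, hv⟩ := type_lemma ε hε0 hεs hεd hψ1 (irr_isCharacter hχ) 0
      (by rw [hS]; simp) (by rw [hd, hqc]; push_cast; ring)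
    exact ⟨k₁, k₂, hk, hM, by rw [hv]; push_cast; ring⟩
  have hksq : ∀ k₁ k₂ : ℕ, k₁ + k₂ = 1 → ((k₁ : ℂ) - k₂) ^ 2 = 1 := by
    intro k₁ k₂ hk
    have : (k₁ = 0 ∧ k₂ = 1) ∨ (k₁ = 1 ∧ k₂ = 0) := by omega
    rcases this with ⟨rfl, rfl⟩ | ⟨rfl, rfl⟩ <;> norm_num
  refine ⟨?_, ?_, ?_, ?_⟩
  · intro χ hχ hd
    obtain ⟨k₁, k₂, hk, hv⟩ := hplus χ hχ hd
    have : 2 * χ (umat 1) - 1 = ((k₁ : ℂ) - k₂) * Gs ψ := by rw [hv]; ring
    rw [this, mul_pow, hksq k₁ k₂ hk, one_mul, hG]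
  · intro χ hχ hd
    obtain ⟨k₁, k₂, hk, -, hv⟩ := hminus χ hχ hd
    have : 2 * χ (umat 1) + 1 = ((k₁ : ℂ) - k₂) * Gs ψ := by rw [hv]; ring
    rw [this, mul_pow, hksq k₁ k₂ hk, one_mul, hG]
  · intro χ₁ χ₂ h1 h2 hne hd1 hd2
    have hS1 := (Cfsg.Agent.S2438.main hodd hq χ₁ h1).2.2.2.1 hd1
    have hS2 := (Cfsg.Agent.S2438.main hodd hq χ₂ h2).2.2.2.1 hd2
    rw [hp] at hd1 hd2
    exact plus_sum hodd hq h1 h2 hne (by rw [hd1, hqc]; push_cast; ring)
      (by rw [hd2, hqc]; push_cast; ring) (by rw [hS1]; exact qne0) (by rw [hS2]; exact qne0)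
  · intro χ₁ χ₂ h1 h2 hne hd1 hd2
    obtain ⟨k₁, k₂, hk, hM1, hv1⟩ := hminus χ₁ h1 hd1
    obtain ⟨l₁, l₂, hl, hM2, hv2⟩ := hminus χ₂ h2 hd2
    have hS1 := (Cfsg.Agent.S2438.main hodd hq χ₁ h1).2.2.2.2 hd1
    have hS2 := (Cfsg.Agent.S2438.main hodd hq χ₂ h2).2.2.2.2 hd2
    have hall1 := cusp_all hodd hq h1 (Or.inr hd1)
    have hall2 := cusp_all hodd hq h2 (Or.inr hd2)
    have hdd1 : 2 * χ₁ 1 = (Fintype.card F : ℂ) - 1 := by rw [hd1, hmn, hqc]; ring
    have hdd2 : 2 * χ₂ 1 = (Fintype.card F : ℂ) - 1 := by rw [hd2, hmn, hqc]; ring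
    have hσ : ∃ σ : ℂ, (∀ g, χ₁ (Zb true * g) = σ * χ₁ g) ∧
        (∀ g, χ₂ (Zb true * g) = σ * χ₂ g) := by
      rcases Nat.even_or_odd m with hme | hmo
      · have hmod : Fintype.card F % 4 ≠ 3 := by
          obtain ⟨r, hr⟩ := hme
          omega
        obtain ⟨i, hi⟩ := FiniteField.isSquare_neg_one_iff.2 hmod
        refine ⟨-1, fun g => ?_, fun g => ?_⟩
        · rcases central_sign h1 with h | h
          · exact (sign_cusp h2F i hi.symm h1 hall1 hdd1 h).elim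
          · rw [h g]; ring
        · rcases central_sign h2 with h | h
          · exact (sign_cusp h2F i hi.symm h2 hall2 hdd2 h).elim
          · rw [h g]; ring
      · refine ⟨1, fun g => ?_, fun g => ?_⟩
        · rw [sign_odd_degree (by omega) h1 m (by rw [hd1, hmn]) hmo g, one_mul]
        · rw [sign_odd_degree (by omega) h2 m (by rw [hd2, hmn]) hmo g, one_mul]
    obtain ⟨σ, hσ1, hσ2⟩ := hσ
    have hkl : k₁ ≠ l₁ := by
      intro e1
      have e2 : l₂ = k₂ := by omega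
      rw [← e1, e2] at hM2
      exact same_type_false hodd hq ε hε0 hεs hψ1 h1 h2 hne hdd1 hdd2 hS1 hS2 σ hσ1 hσ2
        k₁ k₂ hk hM1 hM2
    have hz : ((k₁ : ℂ) - k₂) + ((l₁ : ℂ) - l₂) = 0 := by
      have : (k₁ = 0 ∧ k₂ = 1 ∧ l₁ = 1 ∧ l₂ = 0) ∨ (k₁ = 1 ∧ k₂ = 0 ∧ l₁ = 0 ∧ l₂ = 1) := by
        omega
      rcases this with ⟨rfl, rfl, rfl, rfl⟩ | ⟨rfl, rfl, rfl, rfl⟩ <;> norm_num
    linear_combination (hv1 + hv2) / 2 + hz * Gs ψ / 2

theorem result {F : Type*} [Field F] [Fintype F] (hodd : Odd (Fintype.card F)) (hq : 5 ≤ Fintype.card F)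
    (u : Matrix.SpecialLinearGroup (Fin 2) F) (hu : (u : Matrix (Fin 2) (Fin 2) F) = !![1, 1; 0, 1]) :
    (∀ χ : Matrix.SpecialLinearGroup (Fin 2) F → ℂ, Cfsg.IsIrrCharacter (Matrix.SpecialLinearGroup (Fin 2) F) χ → χ 1 = (((Fintype.card F + 1) / 2 : ℕ) : ℂ) → (2 * χ u - 1) ^ 2 = (-1 : ℂ) ^ ((Fintype.card F - 1) / 2) * (Fintype.card F : ℂ)) ∧
    (∀ χ : Matrix.SpecialLinearGroup (Fin 2) F → ℂ, Cfsg.IsIrrCharacter (Matrix.SpecialLinearGroup (Fin 2) F) χ → χ 1 = (((Fintype.card F - 1) / 2 : ℕ) : ℂ) → (2 * χ u + 1) ^ 2 = (-1 : ℂ) ^ ((Fintype.card F - 1) / 2) * (Fintype.card F : ℂ)) ∧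
    (∀ χ₁ χ₂ : Matrix.SpecialLinearGroup (Fin 2) F → ℂ, Cfsg.IsIrrCharacter (Matrix.SpecialLinearGroup (Fin 2) F) χ₁ → Cfsg.IsIrrCharacter (Matrix.SpecialLinearGroup (Fin 2) F) χ₂ → χ₁ ≠ χ₂ →
      χ₁ 1 = (((Fintype.card F + 1) / 2 : ℕ) : ℂ) → χ₂ 1 = (((Fintype.card F + 1) / 2 : ℕ) : ℂ) → χ₁ u + χ₂ u = 1) ∧
    (∀ χ₁ χ₂ : Matrix.SpecialLinearGroup (Fin 2) F → ℂ, Cfsg.IsIrrCharacter (Matrix.SpecialLinearGroup (Fin 2) F) χ₁ → Cfsg.IsIrrCharacter (Matrix.SpecialLinearGroup (Fin 2) F) χ₂ → χ₁ ≠ χ₂ →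
      χ₁ 1 = (((Fintype.card F - 1) / 2 : ℕ) : ℂ) → χ₂ 1 = (((Fintype.card F - 1) / 2 : ℕ) : ℂ) → χ₁ u + χ₂ u = -1) := by
  classical
  have hu' : u = umat 1 := by
    apply Subtype.ext
    rw [hu, umat_coe]
  rw [hu']
  exact main hodd hq

end Cfsg.Agent.S2324
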