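import Cfsg.Statements.S2325
import Mathlib
import Cfsg.Agent.Lib.Helper2.SL2Unip
import Cfsg.Agent.S2384
import Cfsg.Agent.S0268


set_option autoImplicit false
open Cfsg

namespace Cfsg.Agent.S2325

open Cfsg.Agent.Lib.Helper2 Cfsg.Agent.Lib.Helper2.SL2Unip in
/-- Over a finite field with q elements, q odd, the special linear group SL₂ has exactly q + 4 conjugacy classes. -/
theorem result {F : Type*} [Field F] [Fintype F] (hodd : Odd (Fintype.card F)) :
    Nat.card (ConjClasses (Matrix.SpecialLinearGroup (Fin 2) F)) = Fintype.card F + 4 := by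
  classical
  obtain ⟨p, hchar⟩ := CharP.exists F
  haveI := hchar
  haveI : Fact p.Prime := ⟨CharP.char_is_prime F p⟩
  have hpp : p.Prime := Fact.out
  have h2 : (2 : F) ≠ 0 := Cfsg.Agent.S0268.two_ne_zero_of_odd_card hodd
  have hp : p ≠ 2 := by
    rintro rfl
    apply h2
    have := CharP.cast_eq_zero F 2
    exact_mod_cast this
  have hF : ringChar F ≠ 2 := by rw [ringChar.eq F p]; exact hp
  obtain ⟨ε, hε⟩ := FiniteField.exists_nonsquare hF
  have hε0 : ε ≠ 0 := by
    rintro rfl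
    exact hε ⟨0, by ring⟩
  have hS := Cfsg.Agent.S2384.result (F := F) (q := Fintype.card F) rfl p 2 (by norm_num)
  obtain ⟨P, hP⟩ : ∃ P : ConjClasses (Matrix.SpecialLinearGroup (Fin 2) F) → Prop,
      P = fun c => ∃ g : Matrix.SpecialLinearGroup (Fin 2) F,
        ConjClasses.mk g = c ∧ (orderOf g).Coprime p := ⟨_, rfl⟩
  have hsplit : Nat.card (ConjClasses (Matrix.SpecialLinearGroup (Fin 2) F)) =
      Nat.card {c // P c} + Nat.card {c // ¬ P c} := by
    rw [← Nat.card_sum]; exact Nat.card_congr (Equiv.sumCompl P).symm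
  have hS' : Nat.card {c // P c} = Fintype.card F := by
    rw [hP]
    rw [hS]
    norm_num
  rw [hsplit, hS']
  congr 1
  have h4 : Nat.card (Bool × Bool) = 4 := by
    rw [Nat.card_eq_fintype_card, Fintype.card_prod, Fintype.card_bool]
  rw [← h4]
  symm
  apply Nat.card_congr
  have hnotP : ∀ (s : Bool) (b : F), b ≠ 0 → ¬ P (ConjClasses.mk (sg s * uu b)) := by
    intro s b hb
    rw [hP]
    rintro ⟨g, hg, hcop⟩
    rw [ConjClasses.mk_eq_mk_iff_isConj] at hg
    rw [orderOf_eq_of_isConj hg] at hcop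
    have hdvd := p_dvd_order p h2 s hb
    exact (hpp.coprime_iff_not_dvd.1 hcop.symm) hdvd
  refine Equiv.ofBijective (fun se : Bool × Bool =>
    (⟨ConjClasses.mk (sg se.1 * uu (be ε se.2)), hnotP se.1 _ (be_ne_zero hε0 se.2)⟩ :
      {c // ¬ P c})) ⟨?_, ?_⟩
  · intro se se' h
    have h1 : ConjClasses.mk (sg se.1 * uu (be ε se.2)) =
        ConjClasses.mk (sg se'.1 * uu (be ε se'.2)) := congrArg Subtype.val h
    rw [ConjClasses.mk_eq_mk_iff_isConj] at h1
    obtain ⟨x, hx⟩ := isConj_iff.1 h1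
    have htr := trace_conj x (sg se.1 * uu (be ε se.2))
    rw [hx, sg_uu_val, sg_uu_val, Matrix.trace_fin_two_of, Matrix.trace_fin_two_of] at htr
    have hes : (es se'.1 : F) = es se.1 := by
      apply mul_left_cancel₀ h2
      linear_combination htr
    have hs : se.1 = se'.1 := (es_injective h2 hes).symm
    rw [← hs, isConj_sg_mul, uu_conj_iff (be_ne_zero hε0 _) (be_ne_zero hε0 _), be_sq_iff hε] at h1
    exact Prod.ext hs h1
  · rintro ⟨c, hc⟩
    obtain ⟨g, rfl⟩ := ConjClasses.mk_surjective c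
    have hdvd : p ∣ orderOf g := by
      by_contra hnd
      apply hc
      rw [hP]
      exact ⟨g, rfl, (hpp.coprime_iff_not_dvd.2 hnd).symm⟩
    obtain ⟨m, hm⟩ := hdvd
    have ho0 : 0 < orderOf g := orderOf_pos g
    have hm0 : m ≠ 0 := by rintro rfl; rw [mul_zero] at hm; omega
    have hordh : orderOf (g ^ m) = p := by
      rw [orderOf_pow_of_dvd hm0 (by rw [hm]; exact dvd_mul_left _ _), hm]
      exact Nat.mul_div_cancel _ (Nat.pos_of_ne_zero hm0)
    obtain ⟨b, hb, hgb⟩ := conj_uu_of_order p (g ^ m) hordh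
    obtain ⟨x, hx⟩ := isConj_iff.1 hgb
    have hcomm : (x * g * x⁻¹) * uu b = uu b * (x * g * x⁻¹) := by
      rw [← hx]
      have : g * g ^ m = g ^ m * g := (Commute.self_pow g m).eq
      calc x * g * x⁻¹ * (x * g ^ m * x⁻¹) = x * (g * g ^ m) * x⁻¹ := by group
        _ = x * (g ^ m * g) * x⁻¹ := by rw [this]
        _ = x * g ^ m * x⁻¹ * (x * g * x⁻¹) := by group
    obtain ⟨h10, heq⟩ := cent_uu hb _ hcomm
    obtain ⟨s, y, hsy⟩ := cent_form h10 heq
    have hconj : IsConj g (sg s * uu y) := isConj_iff.2 ⟨x, hsy⟩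
    have hy : y ≠ 0 := by
      rintro rfl
      rw [uu_zero, mul_one] at hconj
      have ho : orderOf g = orderOf (sg s : Matrix.SpecialLinearGroup (Fin 2) F) :=
        orderOf_eq_of_isConj hconj
      have h2' : orderOf (sg s : Matrix.SpecialLinearGroup (Fin 2) F) ∣ 2 :=
        orderOf_dvd_of_pow_eq_one (by rw [pow_two, sg_sq])
      have h3 : p ∣ 2 := by
        rw [← ho, hm] at h2'
        exact dvd_trans (dvd_mul_right p m) h2'
      exact hp ((Nat.prime_dvd_prime_iff_eq hpp Nat.prime_two).1 h3)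
    obtain ⟨e, he⟩ := exists_be hF hε0 hε y hy
    refine ⟨(s, e), Subtype.ext ?_⟩
    show ConjClasses.mk (sg s * uu (be ε e)) = ConjClasses.mk g
    rw [ConjClasses.mk_eq_mk_iff_isConj]
    have h5 : IsConj (sg s * uu y) (sg s * uu (be ε e)) :=
      (isConj_sg_mul s _ _).2 ((uu_conj_iff hy (be_ne_zero hε0 e)).2 he)
    exact (hconj.trans h5).symm


end Cfsg.Agent.S2325
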