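import Cfsg.Statements.S2329
import Cfsg.Agent.Lib.Helper4.Unipotent

set_option autoImplicit false
open Cfsg

namespace Cfsg.Agent.S2329

open Matrix

/-- The standard transvection. -/
noncomputable def stdJ (F : Type*) [Field F] : GL (Fin 2) F :=
  Matrix.GeneralLinearGroup.mkOfDetNeZero !![1, 1; 0, 1] (by simp [Matrix.det_fin_two])

theorem stdJ_coe (F : Type*) [Field F] : ((stdJ F : GL (Fin 2) F) : Matrix (Fin 2) (Fin 2) F) = !![1, 1; 0, 1] := rfl

theorem conj_stdJ {F : Type*} [Field F] (p : ℕ) [hp : Fact p.Prime] [CharP F p]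
    (g : GL (Fin 2) F) (hg : orderOf g = p) : IsConj (stdJ F) g := by
  classical
  set N : Matrix (Fin 2) (Fin 2) F := (g : Matrix (Fin 2) (Fin 2) F) - 1 with hN
  have hgN : (g : Matrix (Fin 2) (Fin 2) F) = 1 + N := by rw [hN]; abel
  have hgp : g ^ p = 1 := by rw [← hg]; exact pow_orderOf_eq_one g
  have hnil : IsNilpotent N := by
    refine ⟨p, ?_⟩
    rw [hN, sub_pow_char_of_commute (p := p) (Commute.one_right _), one_pow, ← Units.val_pow_eq_pow_val, hgp,
      Units.val_one, sub_self]
  have hN2 : N * N = 0 := by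
    have := Cfsg.Agent.Lib.Helper4.nilpotent_pow_card_eq_zero N hnil
    rw [Fintype.card_fin, pow_two] at this
    exact this
  have hNne : N ≠ 0 := by
    intro h0
    have : g = 1 := by
      apply Units.ext
      rw [hgN, h0, add_zero, Units.val_one]
    rw [this, orderOf_one] at hg
    exact hp.out.ne_one hg.symm
  -- entries
  have e00 : N 0 0 * N 0 0 + N 0 1 * N 1 0 = 0 := by
    have := congrFun (congrFun hN2 0) 0
    simpa [Matrix.mul_apply, Fin.sum_univ_two] using this
  have e01 : N 0 0 * N 0 1 + N 0 1 * N 1 1 = 0 := by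
    have := congrFun (congrFun hN2 0) 1
    simpa [Matrix.mul_apply, Fin.sum_univ_two] using this
  have e10 : N 1 0 * N 0 0 + N 1 1 * N 1 0 = 0 := by
    have := congrFun (congrFun hN2 1) 0
    simpa [Matrix.mul_apply, Fin.sum_univ_two] using this
  have e11 : N 1 0 * N 0 1 + N 1 1 * N 1 1 = 0 := by
    have := congrFun (congrFun hN2 1) 1
    simpa [Matrix.mul_apply, Fin.sum_univ_two] using this
  have hNeta : N = !![N 0 0, N 0 1; N 1 0, N 1 1] := Matrix.eta_fin_two N
  -- it suffices to find invertible P with N * P = P * J₀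
  have key : ∀ P : Matrix (Fin 2) (Fin 2) F, P.det ≠ 0 → N * P = P * !![0, 1; 0, 0] →
      IsConj (stdJ F) g := by
    intro P hdet hNP
    rw [isConj_iff]
    refine ⟨Matrix.GeneralLinearGroup.mkOfDetNeZero P hdet, ?_⟩
    rw [mul_inv_eq_iff_eq_mul]
    apply Units.ext
    rw [Units.val_mul, Units.val_mul, stdJ_coe, hgN]
    show P * !![1, 1; 0, 1] = (1 + N) * P
    have : (!![1, 1; 0, 1] : Matrix (Fin 2) (Fin 2) F) = 1 + !![0, 1; 0, 0] := by
      ext i j; fin_cases i <;> fin_cases j <;> simp
    rw [this, mul_add, add_mul, mul_one, one_mul, hNP]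
  by_cases hc : N 1 0 = 0
  · -- then a = 0, d = 0, b ≠ 0
    have ha : N 0 0 = 0 := by
      rw [hc, mul_zero, add_zero] at e00
      exact mul_self_eq_zero.1 e00
    have hd : N 1 1 = 0 := by
      rw [hc, zero_mul, zero_add] at e11
      exact mul_self_eq_zero.1 e11
    have hb : N 0 1 ≠ 0 := by
      intro hb
      apply hNne
      rw [hNeta, ha, hb, hc, hd]
      ext i j; fin_cases i <;> fin_cases j <;> simp
    apply key !![N 0 1, 0; 0, 1]
    · simp [Matrix.det_fin_two, hb]
    · rw [hNeta, ha, hc, hd]
      ext i j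
      fin_cases i <;> fin_cases j <;> simp
  · have had : N 0 0 + N 1 1 = 0 := by
      have : N 1 0 * (N 0 0 + N 1 1) = 0 := by rw [← e10]; ring
      rcases mul_eq_zero.1 this with h | h
      · exact absurd h hc
      · exact h
    apply key !![N 0 0, 1; N 1 0, 0]
    · simp [Matrix.det_fin_two, hc]
    · have hd : N 1 1 = - N 0 0 := eq_neg_of_add_eq_zero_right had
      have e00' : N 0 0 * N 0 0 + N 0 1 * N 1 0 = 0 := e00
      rw [hNeta]
      simp only [Matrix.mul_fin_two]
      rw [hd]
      ext i j
      fin_cases i <;> fin_cases j <;> simp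
      · linear_combination e00
      · ring

/-- Over a finite field of characteristic p, any two elements of order p of GL₂ are conjugate: there is a single conjugacy class of non-identity unipotent elements. -/
theorem result {F : Type*} [Field F] [Fintype F] (p : ℕ) [Fact p.Prime] [CharP F p] (g h : Matrix.GeneralLinearGroup (Fin 2) F)
    (hg : orderOf g = p) (hh : orderOf h = p) : IsConj g h := by
  have h1 := conj_stdJ p g hg
  have h2 := conj_stdJ p h hh
  exact h1.symm.trans h2

end Cfsg.Agent.S2329
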