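import Cfsg.Statements.S2330
import Mathlib

set_option autoImplicit false
open Cfsg

namespace Cfsg.Agent.S2330

open Matrix

variable {F : Type*} [Field F]

/-- the scalar matrix as an element of GL₂ -/
noncomputable def scal (a : Fˣ) : GL (Fin 2) F :=
  Matrix.GeneralLinearGroup.mkOfDetNeZero (!![(a : F), 0; 0, (a : F)]) (by
    rw [Matrix.det_fin_two_of]; simp)

/-- the companion matrix of `X² - t X + d` -/
noncomputable def comp (t : F) (d : Fˣ) : GL (Fin 2) F :=
  Matrix.GeneralLinearGroup.mkOfDetNeZero (!![0, -(d : F); 1, t]) (by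
    rw [Matrix.det_fin_two_of]; simp)

theorem scal_val (a : Fˣ) : ((scal a : GL (Fin 2) F) : Matrix (Fin 2) (Fin 2) F) =
    !![(a : F), 0; 0, (a : F)] := rfl

theorem comp_val (t : F) (d : Fˣ) : ((comp t d : GL (Fin 2) F) : Matrix (Fin 2) (Fin 2) F) =
    !![0, -(d : F); 1, t] := rfl

theorem scal_comm (a : Fˣ) (c : GL (Fin 2) F) : c * scal a = scal a * c := by
  apply Units.ext
  rw [Matrix.GeneralLinearGroup.coe_mul, Matrix.GeneralLinearGroup.coe_mul, scal_val]
  ext i j
  fin_cases i <;> fin_cases j <;> simp [Matrix.mul_apply, Fin.sum_univ_two] <;> ring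

theorem isConj_scal (a : Fˣ) (h : GL (Fin 2) F) (hc : IsConj (scal a) h) : h = scal a := by
  obtain ⟨c, hc⟩ := isConj_iff.mp hc
  rw [← hc, scal_comm, mul_inv_cancel_right]

theorem det_comp (t : F) (d : Fˣ) : Matrix.GeneralLinearGroup.det (comp t d) = d := by
  apply Units.ext
  rw [Matrix.GeneralLinearGroup.val_det_apply, comp_val, Matrix.det_fin_two_of]
  simp

theorem trace_comp (t : F) (d : Fˣ) :
    Matrix.trace ((comp t d : GL (Fin 2) F) : Matrix (Fin 2) (Fin 2) F) = t := by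
  rw [comp_val, Matrix.trace_fin_two_of]; simp

theorem conj_aux (g P : GL (Fin 2) F) (C : GL (Fin 2) F) (h : g * P = P * C) : IsConj g C := by
  refine isConj_iff.mpr ⟨P⁻¹, ?_⟩
  rw [inv_inv, mul_assoc, h, inv_mul_cancel_left]

theorem mat_eq (g : GL (Fin 2) F) (v0 v1 : F) (P : GL (Fin 2) F)
    (hP : (P : Matrix (Fin 2) (Fin 2) F) =
      !![v0, (g : Matrix (Fin 2) (Fin 2) F) 0 0 * v0 + (g : Matrix (Fin 2) (Fin 2) F) 0 1 * v1;
         v1, (g : Matrix (Fin 2) (Fin 2) F) 1 0 * v0 + (g : Matrix (Fin 2) (Fin 2) F) 1 1 * v1]) :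
    g * P = P * comp (Matrix.trace (g : Matrix (Fin 2) (Fin 2) F))
      (Matrix.GeneralLinearGroup.det g) := by
  apply Units.ext
  rw [Matrix.GeneralLinearGroup.coe_mul, Matrix.GeneralLinearGroup.coe_mul, comp_val, hP,
    Matrix.GeneralLinearGroup.val_det_apply, Matrix.det_fin_two, Matrix.trace_fin_two]
  generalize (g : Matrix (Fin 2) (Fin 2) F) = M
  ext i j
  fin_cases i <;> fin_cases j <;> simp [Matrix.mul_apply, Fin.sum_univ_two] <;> ring

theorem conj_comp (g : GL (Fin 2) F)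
    (hns : ¬ ((g : Matrix (Fin 2) (Fin 2) F) 0 1 = 0 ∧ (g : Matrix (Fin 2) (Fin 2) F) 1 0 = 0 ∧
      (g : Matrix (Fin 2) (Fin 2) F) 0 0 = (g : Matrix (Fin 2) (Fin 2) F) 1 1)) :
    IsConj g (comp (Matrix.trace (g : Matrix (Fin 2) (Fin 2) F))
      (Matrix.GeneralLinearGroup.det g)) := by
  obtain ⟨v0, v1, hdet⟩ : ∃ v0 v1 : F,
      v0 * ((g : Matrix (Fin 2) (Fin 2) F) 1 0 * v0 + (g : Matrix (Fin 2) (Fin 2) F) 1 1 * v1) -
      ((g : Matrix (Fin 2) (Fin 2) F) 0 0 * v0 + (g : Matrix (Fin 2) (Fin 2) F) 0 1 * v1) * v1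
        ≠ 0 := by
    by_cases hc : (g : Matrix (Fin 2) (Fin 2) F) 1 0 = 0
    · by_cases hb : (g : Matrix (Fin 2) (Fin 2) F) 0 1 = 0
      · refine ⟨1, 1, ?_⟩
        rw [hc, hb]
        intro h
        apply hns
        refine ⟨hb, hc, ?_⟩
        have : (g : Matrix (Fin 2) (Fin 2) F) 1 1 - (g : Matrix (Fin 2) (Fin 2) F) 0 0 = 0 := by
          linear_combination h
        exact (sub_eq_zero.mp this).symm
      · refine ⟨0, 1, ?_⟩
        simpa using hb
    · refine ⟨1, 0, ?_⟩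
      simpa using hc
  exact conj_aux g (Matrix.GeneralLinearGroup.mkOfDetNeZero
    (!![v0, (g : Matrix (Fin 2) (Fin 2) F) 0 0 * v0 + (g : Matrix (Fin 2) (Fin 2) F) 0 1 * v1;
         v1, (g : Matrix (Fin 2) (Fin 2) F) 1 0 * v0 + (g : Matrix (Fin 2) (Fin 2) F) 1 1 * v1])
    (by rw [Matrix.det_fin_two_of]; exact hdet)) _ (mat_eq g v0 v1 _ rfl)

/-- the parametrisation of the classes -/
noncomputable def cls : Fˣ ⊕ (F × Fˣ) → ConjClasses (GL (Fin 2) F)
  | Sum.inl a => ConjClasses.mk (scal a)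
  | Sum.inr (t, d) => ConjClasses.mk (comp t d)

theorem cls_inj : Function.Injective (cls (F := F)) := by
  rintro (a | ⟨t, d⟩) (b | ⟨t', d'⟩) h
  · have h1 := isConj_scal a (scal b) (ConjClasses.mk_eq_mk_iff_isConj.mp h)
    have h2 := congrArg (fun x : GL (Fin 2) F => (x : Matrix (Fin 2) (Fin 2) F) 0 0) h1
    simp only [scal_val] at h2
    have h3 : (b : F) = a := by simpa using h2
    rw [Units.ext h3]
  · exfalso
    have h1 := isConj_scal a (comp t' d') (ConjClasses.mk_eq_mk_iff_isConj.mp h)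
    have h2 := congrArg (fun x : GL (Fin 2) F => (x : Matrix (Fin 2) (Fin 2) F) 1 0) h1
    simp only [scal_val, comp_val] at h2
    simp at h2
  · exfalso
    have h1 := isConj_scal b (comp t d) (ConjClasses.mk_eq_mk_iff_isConj.mp h.symm)
    have h2 := congrArg (fun x : GL (Fin 2) F => (x : Matrix (Fin 2) (Fin 2) F) 1 0) h1
    simp only [scal_val, comp_val] at h2
    simp at h2
  · obtain ⟨c, hc⟩ := isConj_iff.mp (ConjClasses.mk_eq_mk_iff_isConj.mp h)
    have ht : t' = t := by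
      have := congrArg (fun x : GL (Fin 2) F => Matrix.trace (x : Matrix (Fin 2) (Fin 2) F)) hc
      simp only [Matrix.GeneralLinearGroup.coe_mul] at this
      have h5 : ((c⁻¹ : GL (Fin 2) F) : Matrix (Fin 2) (Fin 2) F) =
          ((c⁻¹ : (Matrix (Fin 2) (Fin 2) F)ˣ) : Matrix (Fin 2) (Fin 2) F) := rfl
      rw [Matrix.trace_units_conj, trace_comp, trace_comp] at this
      exact this.symm
    have hd : d' = d := by
      have := congrArg Matrix.GeneralLinearGroup.det hc
      rw [map_mul, map_mul, map_inv, mul_comm, inv_mul_cancel_left, det_comp, det_comp] at this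
      exact this.symm
    rw [ht, hd]

theorem cls_surj : Function.Surjective (cls (F := F)) := by
  intro C
  obtain ⟨g, rfl⟩ := ConjClasses.mk_surjective C
  by_cases hs : ((g : Matrix (Fin 2) (Fin 2) F) 0 1 = 0 ∧ (g : Matrix (Fin 2) (Fin 2) F) 1 0 = 0 ∧
      (g : Matrix (Fin 2) (Fin 2) F) 0 0 = (g : Matrix (Fin 2) (Fin 2) F) 1 1)
  · have hdet : (g : Matrix (Fin 2) (Fin 2) F).det ≠ 0 := by
      rw [← Matrix.GeneralLinearGroup.val_det_apply]
      exact Units.ne_zero _
    have h0 : (g : Matrix (Fin 2) (Fin 2) F) 0 0 ≠ 0 := by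
      intro h0
      apply hdet
      rw [Matrix.det_fin_two, hs.1, h0]
      ring
    refine ⟨Sum.inl (Units.mk0 _ h0), ?_⟩
    show ConjClasses.mk (scal (Units.mk0 _ h0)) = ConjClasses.mk g
    congr 1
    apply Units.ext
    rw [scal_val]
    ext i j
    fin_cases i <;> fin_cases j <;> simp [hs.1, hs.2.1, hs.2.2]
  · refine ⟨Sum.inr (Matrix.trace (g : Matrix (Fin 2) (Fin 2) F),
      Matrix.GeneralLinearGroup.det g), ?_⟩
    show ConjClasses.mk (comp _ _) = ConjClasses.mk g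
    exact ConjClasses.mk_eq_mk_iff_isConj.mpr (conj_comp g hs).symm

/-- Over a finite field with q elements, the general linear group GL₂ has exactly q² − 1 conjugacy classes. -/
theorem result {F : Type*} [Field F] [Fintype F] :
    Nat.card (ConjClasses (Matrix.GeneralLinearGroup (Fin 2) F)) = Fintype.card F ^ 2 - 1 := by
  classical
  rw [← Nat.card_eq_of_bijective (cls (F := F)) ⟨cls_inj, cls_surj⟩]
  rw [Nat.card_eq_fintype_card, Fintype.card_sum, Fintype.card_prod, Fintype.card_units]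
  have hq : 0 < Fintype.card F := Fintype.card_pos
  obtain ⟨k, hk⟩ : ∃ k, Fintype.card F = k + 1 := ⟨Fintype.card F - 1, by omega⟩
  rw [hk]
  have : (k + 1) ^ 2 = k + (k + 1) * k + 1 := by ring
  rw [this]
  simp

end Cfsg.Agent.S2330
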