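import Cfsg.Statements.S2331
import Mathlib

set_option autoImplicit false
open Cfsg

namespace Cfsg.Agent.S2331

open Matrix

variable {F : Type*} [Field F]

theorem conj_aux {G : Type*} [Group G] (g P C : G) (h : g * P = P * C) : IsConj g C := by
  refine isConj_iff.mpr ⟨P⁻¹, ?_⟩
  rw [inv_inv, mul_assoc, h, inv_mul_cancel_left]

theorem mat_id (M : Matrix (Fin 2) (Fin 2) F) (v0 v1 : F) :
    M * !![v0, M 0 0 * v0 + M 0 1 * v1; v1, M 1 0 * v0 + M 1 1 * v1] =
    !![v0, M 0 0 * v0 + M 0 1 * v1; v1, M 1 0 * v0 + M 1 1 * v1] *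
      !![0, -(M.det); 1, M.trace] := by
  rw [Matrix.det_fin_two, Matrix.trace_fin_two]
  ext i j
  fin_cases i <;> fin_cases j <;> simp [Matrix.mul_apply, Fin.sum_univ_two] <;> ring

/-- the companion matrix of `X² - t X + 1` -/
noncomputable def comp (t : F) : Matrix.SpecialLinearGroup (Fin 2) F :=
  ⟨!![0, -1; 1, t], by rw [Matrix.det_fin_two_of]; ring⟩

theorem comp_val (t : F) : ((comp t : Matrix.SpecialLinearGroup (Fin 2) F) :
    Matrix (Fin 2) (Fin 2) F) = !![0, -1; 1, t] := rfl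

theorem trace_comp (t : F) :
    Matrix.trace ((comp t : Matrix.SpecialLinearGroup (Fin 2) F) : Matrix (Fin 2) (Fin 2) F) = t := by
  rw [comp_val, Matrix.trace_fin_two_of]; simp

theorem trace_conj (c x : Matrix.SpecialLinearGroup (Fin 2) F) :
    Matrix.trace ((c * x * c⁻¹ : Matrix.SpecialLinearGroup (Fin 2) F) : Matrix (Fin 2) (Fin 2) F) =
    Matrix.trace (x : Matrix (Fin 2) (Fin 2) F) := by
  rw [Matrix.SpecialLinearGroup.coe_mul, Matrix.trace_mul_comm, ← Matrix.SpecialLinearGroup.coe_mul,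
    inv_mul_cancel_left]

theorem conj_comp [Finite F] [CharP F 2] (g : Matrix.SpecialLinearGroup (Fin 2) F)
    (hns : ¬ ((g : Matrix (Fin 2) (Fin 2) F) 0 1 = 0 ∧ (g : Matrix (Fin 2) (Fin 2) F) 1 0 = 0 ∧
      (g : Matrix (Fin 2) (Fin 2) F) 0 0 = (g : Matrix (Fin 2) (Fin 2) F) 1 1)) :
    IsConj g (comp (Matrix.trace (g : Matrix (Fin 2) (Fin 2) F))) := by
  obtain ⟨v0, v1, hdet⟩ : ∃ v0 v1 : F,
      v0 * ((g : Matrix (Fin 2) (Fin 2) F) 1 0 * v0 + (g : Matrix (Fin 2) (Fin 2) F) 1 1 * v1) -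
      ((g : Matrix (Fin 2) (Fin 2) F) 0 0 * v0 + (g : Matrix (Fin 2) (Fin 2) F) 0 1 * v1) * v1
        ≠ 0 := by
    by_cases hc : (g : Matrix (Fin 2) (Fin 2) F) 1 0 = 0
    · by_cases hb : (g : Matrix (Fin 2) (Fin 2) F) 0 1 = 0
      · refine ⟨1, 1, ?_⟩
        rw [hc, hb]
        intro h
        apply hns
        refine ⟨hb, hc, ?_⟩
        have : (g : Matrix (Fin 2) (Fin 2) F) 1 1 - (g : Matrix (Fin 2) (Fin 2) F) 0 0 = 0 := by
          linear_combination h
        exact (sub_eq_zero.mp this).symm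
      · refine ⟨0, 1, ?_⟩
        simpa using hb
    · refine ⟨1, 0, ?_⟩
      simpa using hc
  obtain ⟨ε, hε⟩ := FiniteField.isSquare_of_char_two (ringChar.eq F 2)
    (v0 * ((g : Matrix (Fin 2) (Fin 2) F) 1 0 * v0 + (g : Matrix (Fin 2) (Fin 2) F) 1 1 * v1) -
      ((g : Matrix (Fin 2) (Fin 2) F) 0 0 * v0 + (g : Matrix (Fin 2) (Fin 2) F) 0 1 * v1) * v1)
  have hε0 : ε ≠ 0 := by
    rintro rfl
    apply hdet
    rw [hε]; ring
  have hP0 : (!![v0, (g : Matrix (Fin 2) (Fin 2) F) 0 0 * v0 + (g : Matrix (Fin 2) (Fin 2) F) 0 1 * v1;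
         v1, (g : Matrix (Fin 2) (Fin 2) F) 1 0 * v0 + (g : Matrix (Fin 2) (Fin 2) F) 1 1 * v1]).det
        = ε * ε := by
    rw [Matrix.det_fin_two_of, ← hε]
  have hP : (ε⁻¹ • !![v0, (g : Matrix (Fin 2) (Fin 2) F) 0 0 * v0 + (g : Matrix (Fin 2) (Fin 2) F) 0 1 * v1;
         v1, (g : Matrix (Fin 2) (Fin 2) F) 1 0 * v0 + (g : Matrix (Fin 2) (Fin 2) F) 1 1 * v1]).det
        = 1 := by
    rw [Matrix.det_smul, hP0, Fintype.card_fin]
    field_simp
  have key : (g : Matrix (Fin 2) (Fin 2) F) *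
      (ε⁻¹ • !![v0, (g : Matrix (Fin 2) (Fin 2) F) 0 0 * v0 + (g : Matrix (Fin 2) (Fin 2) F) 0 1 * v1;
         v1, (g : Matrix (Fin 2) (Fin 2) F) 1 0 * v0 + (g : Matrix (Fin 2) (Fin 2) F) 1 1 * v1]) =
      (ε⁻¹ • !![v0, (g : Matrix (Fin 2) (Fin 2) F) 0 0 * v0 + (g : Matrix (Fin 2) (Fin 2) F) 0 1 * v1;
         v1, (g : Matrix (Fin 2) (Fin 2) F) 1 0 * v0 + (g : Matrix (Fin 2) (Fin 2) F) 1 1 * v1]) *
      !![0, -1; 1, Matrix.trace (g : Matrix (Fin 2) (Fin 2) F)] := by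
    rw [Matrix.mul_smul, Matrix.smul_mul, mat_id, g.det_coe]
  exact conj_aux g (⟨_, hP⟩ : Matrix.SpecialLinearGroup (Fin 2) F) _ (Subtype.ext key)

/-- the parametrisation of the classes -/
noncomputable def cls : Option F → ConjClasses (Matrix.SpecialLinearGroup (Fin 2) F)
  | none => ConjClasses.mk 1
  | some t => ConjClasses.mk (comp t)

theorem isConj_one {G : Type*} [Group G] (h : G) (hc : IsConj (1 : G) h) : h = 1 := by
  obtain ⟨c, hc⟩ := isConj_iff.mp hc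
  rw [← hc, mul_one, mul_inv_cancel]

theorem comp_ne_one (t : F) : comp t ≠ 1 := by
  intro h
  have h2 := congrArg (fun x : Matrix.SpecialLinearGroup (Fin 2) F =>
    (x : Matrix (Fin 2) (Fin 2) F) 1 0) h
  simp only [comp_val, Matrix.SpecialLinearGroup.coe_one] at h2
  simp at h2

theorem cls_inj : Function.Injective (cls (F := F)) := by
  rintro (_ | t) (_ | t') h
  · rfl
  · exfalso
    exact comp_ne_one t' (isConj_one _ (ConjClasses.mk_eq_mk_iff_isConj.mp h))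
  · exfalso
    exact comp_ne_one t (isConj_one _ (ConjClasses.mk_eq_mk_iff_isConj.mp h.symm))
  · obtain ⟨c, hc⟩ := isConj_iff.mp (ConjClasses.mk_eq_mk_iff_isConj.mp h)
    have := congrArg (fun x : Matrix.SpecialLinearGroup (Fin 2) F =>
      Matrix.trace (x : Matrix (Fin 2) (Fin 2) F)) hc
    simp only [trace_conj, trace_comp] at this
    rw [this]

theorem cls_surj [Finite F] [CharP F 2] : Function.Surjective (cls (F := F)) := by
  intro C
  obtain ⟨g, rfl⟩ := ConjClasses.mk_surjective C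
  by_cases hs : ((g : Matrix (Fin 2) (Fin 2) F) 0 1 = 0 ∧ (g : Matrix (Fin 2) (Fin 2) F) 1 0 = 0 ∧
      (g : Matrix (Fin 2) (Fin 2) F) 0 0 = (g : Matrix (Fin 2) (Fin 2) F) 1 1)
  · have hdet : (g : Matrix (Fin 2) (Fin 2) F).det = 1 := g.det_coe
    have h0 : (g : Matrix (Fin 2) (Fin 2) F) 0 0 = 1 := by
      rw [Matrix.det_fin_two, hs.1, ← hs.2.2] at hdet
      have h2 : (2 : F) = 0 := CharTwo.two_eq_zero
      have h3 : ((g : Matrix (Fin 2) (Fin 2) F) 0 0 - 1) ^ 2 = 0 := by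
        linear_combination hdet + (1 - (g : Matrix (Fin 2) (Fin 2) F) 0 0) * h2
      exact sub_eq_zero.mp ((pow_eq_zero_iff (two_ne_zero)).mp h3)
    refine ⟨none, ?_⟩
    show ConjClasses.mk 1 = ConjClasses.mk g
    congr 1
    apply Subtype.ext
    rw [Matrix.SpecialLinearGroup.coe_one]
    ext i j
    fin_cases i <;> fin_cases j <;> simp [hs.1, hs.2.1, ← hs.2.2, h0]
  · refine ⟨some (Matrix.trace (g : Matrix (Fin 2) (Fin 2) F)), ?_⟩
    show ConjClasses.mk (comp _) = ConjClasses.mk g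
    exact ConjClasses.mk_eq_mk_iff_isConj.mpr (conj_comp g hs).symm

/-- Over a finite field with q elements, q even, the special linear group SL₂ has exactly q + 1 conjugacy classes. -/
theorem result {F : Type*} [Field F] [Fintype F] [CharP F 2] :
    Nat.card (ConjClasses (Matrix.SpecialLinearGroup (Fin 2) F)) = Fintype.card F + 1 := by
  classical
  rw [← Nat.card_eq_of_bijective (cls (F := F)) ⟨cls_inj, cls_surj⟩]
  rw [Nat.card_eq_fintype_card, Fintype.card_option]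

end Cfsg.Agent.S2331
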