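import Cfsg.Statements.S2352

set_option autoImplicit false
open Cfsg

namespace Cfsg.Agent.S2352


theorem exists_perm_extend {α : Type*} [Finite α] (ρ : α → α → Prop)
    (hfun : ∀ a b b', ρ a b → ρ a b' → b = b') (hinj : ∀ a a' b, ρ a b → ρ a' b → a = a') :
    ∃ σ : Equiv.Perm α, ∀ a b, ρ a b → σ a = b := by
  classical
  let p : α → Prop := fun a => ∃ b, ρ a b
  let q : α → Prop := fun b => ∃ a, ρ a b
  have hf : ∀ a : {a // p a}, q (Classical.choose a.2) :=
    fun a => ⟨a.1, Classical.choose_spec a.2⟩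
  let F : {a // p a} → {b // q b} := fun a => ⟨Classical.choose a.2, hf a⟩
  have hF : Function.Bijective F := by
    constructor
    · intro a a' h
      have h1 : Classical.choose a.2 = Classical.choose a'.2 := congrArg Subtype.val h
      have h2 := Classical.choose_spec a'.2
      rw [← h1] at h2
      exact Subtype.ext (hinj a.1 a'.1 _ (Classical.choose_spec a.2) h2)
    · intro b
      obtain ⟨a, ha⟩ := b.2
      refine ⟨⟨a, b.1, ha⟩, ?_⟩
      apply Subtype.ext
      exact hfun a _ _ (Classical.choose_spec (⟨b.1, ha⟩ : p a)) ha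
  refine ⟨(Equiv.ofBijective F hF).extendSubtype, ?_⟩
  intro a b hab
  rw [Equiv.extendSubtype_apply_of_mem (Equiv.ofBijective F hF) a ⟨b, hab⟩]
  have h3 : ((Equiv.ofBijective F hF) ⟨a, ⟨b, hab⟩⟩ : α) = Classical.choose (⟨b, hab⟩ : p a) := rfl
  rw [h3]
  exact hfun a _ _ (Classical.choose_spec (⟨b, hab⟩ : p a)) hab

theorem main (w : FreeGroup ℕ) (hw : w ≠ 1) :
    ∃ N : ℕ, ∀ n : ℕ, N ≤ n → ∃ f : ℕ → alternatingGroup (Fin n), FreeGroup.lift f w ≠ 1 := by
  classical
  obtain ⟨L, hL⟩ : ∃ L, L = w.toWord := ⟨_, rfl⟩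
  obtain ⟨l, hl⟩ : ∃ l, l = L.length := ⟨_, rfl⟩
  refine ⟨l + 3, fun n hn => ?_⟩
  obtain ⟨s, hs⟩ : ∃ s : ℕ → FreeGroup ℕ, ∀ k, s k = FreeGroup.mk (L.drop k) := ⟨_, fun _ => rfl⟩
  have hs0 : s 0 = w := by rw [hs, List.drop_zero, hL, FreeGroup.mk_toWord]
  have hsl : s l = 1 := by rw [hs, hl, List.drop_length, FreeGroup.one_eq_mk]
  have hnorm : FreeGroup.norm w = l := by rw [hl, hL]; rfl
  have hl1 : 1 ≤ l := by
    rw [hl, Nat.one_le_iff_ne_zero]
    intro h
    rw [List.length_eq_zero_iff, hL, FreeGroup.toWord_eq_nil_iff] at h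
    exact hw h
  have key : ∀ j k, j < k → k ≤ l → s j ≠ s k := by
    intro j k hjk hkl h
    have h1 : w = FreeGroup.mk (L.take j ++ L.drop k) := by
      rw [← FreeGroup.mul_mk, ← hs k, ← h, hs j, FreeGroup.mul_mk, List.take_append_drop, hL,
        FreeGroup.mk_toWord]
    have h2 : FreeGroup.norm w ≤ (L.take j ++ L.drop k).length := by
      have := FreeGroup.norm_mk_le (L₁ := L.take j ++ L.drop k)
      rwa [← h1] at this
    rw [hnorm] at h2
    simp only [List.length_append, List.length_take, List.length_drop] at h2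
    rw [← hl] at h2
    omega
  have hsinj : ∀ j k, j ≤ l → k ≤ l → s j = s k → j = k := by
    intro j k hj hk h
    rcases Nat.lt_trichotomy j k with h1 | h1 | h1
    · exact absurd h (key j k h1 hk)
    · exact h1
    · exact absurd h.symm (key k j h1 hj)
  have hσ : ∀ x : ℕ, ∃ σ : Equiv.Perm (Fin n), Equiv.Perm.sign σ = 1 ∧
      ∀ a b : Fin n, a.val ≤ l → b.val ≤ l →
        FreeGroup.of x * s a.val = s b.val → σ a = b := by
    intro x
    obtain ⟨σ, hσ⟩ := exists_perm_extend (α := Fin n)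
      (fun a b => a.val ≤ l ∧ b.val ≤ l ∧ FreeGroup.of x * s a.val = s b.val)
      (by
        rintro a b b' ⟨_, hb, h1⟩ ⟨_, hb', h2⟩
        exact Fin.ext (hsinj _ _ hb hb' (h1.symm.trans h2)))
      (by
        rintro a a' b ⟨ha, _, h1⟩ ⟨ha', _, h2⟩
        exact Fin.ext (hsinj _ _ ha ha' (mul_left_cancel (h1.trans h2.symm))))
    rcases Int.units_eq_one_or (Equiv.Perm.sign σ) with h | h
    · exact ⟨σ, h, fun a b ha hb hab => hσ a b ⟨ha, hb, hab⟩⟩
    · obtain ⟨u, hu⟩ : ∃ u : Fin n, u.val = l + 1 := ⟨⟨l + 1, by omega⟩, rfl⟩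
      obtain ⟨v, hv⟩ : ∃ v : Fin n, v.val = l + 2 := ⟨⟨l + 2, by omega⟩, rfl⟩
      have huv : u ≠ v := fun h' => by rw [h'] at hu; omega
      refine ⟨σ * Equiv.swap u v, ?_, ?_⟩
      · rw [Equiv.Perm.sign_mul, h, Equiv.Perm.sign_swap huv]; simp
      · intro a b ha hb hab
        rw [Equiv.Perm.mul_apply, Equiv.swap_apply_of_ne_of_ne]
        · exact hσ a b ⟨ha, hb, hab⟩
        · intro h'; rw [h'] at ha; omega
        · intro h'; rw [h'] at ha; omega
  choose σ hσ1 hσ2 using hσ
  refine ⟨fun x => ⟨σ x, Equiv.Perm.mem_alternatingGroup.2 (hσ1 x)⟩, ?_⟩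
  obtain ⟨G, hG⟩ : ∃ G : FreeGroup ℕ →* Equiv.Perm (Fin n),
      G = (alternatingGroup (Fin n)).subtype.comp
        (FreeGroup.lift fun x => (⟨σ x, Equiv.Perm.mem_alternatingGroup.2 (hσ1 x)⟩ :
          alternatingGroup (Fin n))) := ⟨_, rfl⟩
  have hGof : ∀ x, G (FreeGroup.of x) = σ x := by
    intro x
    rw [hG, MonoidHom.comp_apply, FreeGroup.lift_apply_of]
    rfl
  obtain ⟨pl, hpl⟩ : ∃ pl : Fin n, pl.val = l := ⟨⟨l, by omega⟩, rfl⟩
  have claim : ∀ i, i ≤ l → ∀ b : Fin n, b.val = l - i → G (s (l - i)) pl = b := by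
    intro i
    induction i with
    | zero =>
      intro _ b hb
      rw [Nat.sub_zero, hsl, map_one, Equiv.Perm.one_apply]
      exact Fin.ext (by rw [hpl, hb, Nat.sub_zero])
    | succ i ih =>
      intro hi b hb
      obtain ⟨b', hb'⟩ : ∃ b' : Fin n, b'.val = l - i := ⟨⟨l - i, by omega⟩, rfl⟩
      have ih' := ih (by omega) b' hb'
      have hlt : l - (i + 1) < L.length := by omega
      have hdrop : L.drop (l - (i + 1)) = L[l - (i + 1)] :: L.drop (l - i) := by
        rw [List.drop_eq_getElem_cons hlt]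
        congr 2
        omega
      obtain ⟨⟨x, bb⟩, hxb⟩ : ∃ xb : ℕ × Bool, xb = L[l - (i + 1)] := ⟨_, rfl⟩
      have hsk : s (l - (i + 1)) = FreeGroup.mk [(x, bb)] * s (l - i) := by
        rw [hs, hs, FreeGroup.mul_mk, hdrop, ← hxb]
        rfl
      cases bb with
      | true =>
        have h1 : s (l - (i + 1)) = FreeGroup.of x * s (l - i) := hsk
        rw [h1, map_mul, Equiv.Perm.mul_apply, ih', hGof]
        apply hσ2 x b' b (by omega) (by omega)
        rw [hb', hb, h1]
      | false =>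
        have h0 : FreeGroup.mk [(x, false)] = (FreeGroup.of x)⁻¹ := by
          rw [FreeGroup.of, FreeGroup.inv_mk]
          rfl
        have h1 : s (l - (i + 1)) = (FreeGroup.of x)⁻¹ * s (l - i) := by rw [hsk, h0]
        rw [h1, map_mul, map_inv, Equiv.Perm.mul_apply, ih', hGof, Equiv.Perm.inv_eq_iff_eq]
        symm
        apply hσ2 x b b' (by omega) (by omega)
        rw [hb', hb, h1, mul_inv_cancel_left]
  intro hw1
  obtain ⟨b0, hb0⟩ : ∃ b0 : Fin n, b0.val = 0 := ⟨⟨0, by omega⟩, rfl⟩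
  have h := claim l le_rfl b0 (by rw [hb0, Nat.sub_self])
  rw [Nat.sub_self, hs0] at h
  have hGw : G w = 1 := by
    rw [hG, MonoidHom.comp_apply, hw1, map_one]
  rw [hGw, Equiv.Perm.one_apply] at h
  have := congrArg Fin.val h
  rw [hpl, hb0] at this
  omega

/-- A non-trivial law holds in only finitely many alternating groups: for every non-trivial element w of the free group on countably many generators there is N such that for all n ≥ N some substitution of elements of the alternating group of degree n into w is not the identity. -/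
theorem result (w : FreeGroup ℕ) (hw : w ≠ 1) :
    ∃ N : ℕ, ∀ n : ℕ, N ≤ n → ∃ f : ℕ → alternatingGroup (Fin n), FreeGroup.lift f w ≠ 1 := by
  exact main w hw

end Cfsg.Agent.S2352
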