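import Mathlib
import Cfsg.Statements.S2356
import Cfsg.Agent.S2360

set_option autoImplicit false
open Cfsg

namespace Cfsg.Agent.S2356

open Cfsg.Agent.S0779 Cfsg.Agent.Lib.Helper5 Cfsg.Agent.Lib.Helper2.Herm Cfsg.Agent.S2360 Matrix

section
variable {F : Type*} [Field F] [Fintype F] {q : ℕ}

theorem herm_swap_zero (hF : Fintype.card F = q ^ 2) (u w : Fin 3 → F)
    (h0 : Cfsg.hermForm 3 F q u w = 0) : Cfsg.hermForm 3 F q w u = 0 := by
  have hq := one_lt_q hF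
  rw [← herm_pow_q 3 hF u w, h0, zero_pow (by omega)]

theorem Rm_comm_of_orth (hF : Fintype.card F = q ^ 2) (w u : Fin 3 → F)
    (h0 : Cfsg.hermForm 3 F q u w = 0) :
    Rm 3 q u * Rm 3 q w = Rm 3 q w * Rm 3 q u := by
  have h0' := herm_swap_zero hF u w h0
  apply Matrix.toLin'.injective
  apply LinearMap.ext
  intro x
  rw [Matrix.toLin'_apply, Matrix.toLin'_apply, ← Matrix.mulVec_mulVec, ← Matrix.mulVec_mulVec,
    Rm_mulVec, Rm_mulVec, Rm_mulVec, Rm_mulVec, herm_add_left, S2360.herm_neg_left, herm_smul_left,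
    herm_add_left, S2360.herm_neg_left, herm_smul_left, h0, h0']
  module

theorem Rm_self (n : ℕ) (w : Fin n → F) (hw : Cfsg.hermForm n F q w w = 1) :
    Rm n q w *ᵥ w = w := by
  rw [Rm_mulVec, hw]
  module

theorem orth_of_Rm_comm (hF : Fintype.card F = q ^ 2) (h2 : (2 : F) ≠ 0) (w u : Fin 3 → F)
    (hw : Cfsg.hermForm 3 F q w w = 1) (hu : Cfsg.hermForm 3 F q u u = 1)
    (hc : Rm 3 q u * Rm 3 q w = Rm 3 q w * Rm 3 q u) :
    Cfsg.hermForm 3 F q u w = 0 ∨ Rm 3 q u = Rm 3 q w := by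
  by_cases h0 : Cfsg.hermForm 3 F q u w = 0
  · left; exact h0
  · right
    have h0' : Cfsg.hermForm 3 F q w u ≠ 0 := by
      rw [← herm_pow_q 3 hF u w]; exact pow_ne_zero _ h0
    have h1 := congrArg (fun M : Matrix (Fin 3) (Fin 3) F => M *ᵥ w) hc
    simp only [← Matrix.mulVec_mulVec] at h1
    rw [Rm_self 3 w hw, Rm_mulVec 3 u w, Rm_mulVec, herm_add_left, S2360.herm_neg_left, herm_smul_left,
      hw] at h1
    set c := Cfsg.hermForm 3 F q w u with hcdef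
    set d := Cfsg.hermForm 3 F q u w with hddef
    have h3 : (4 * c) • u = (4 * c * d) • w := by
      linear_combination (norm := module) h1
    have h4 : (4 : F) * c ≠ 0 := by
      have : (4 : F) = 2 * 2 := by norm_num
      rw [this]
      exact mul_ne_zero (mul_ne_zero h2 h2) h0'
    have h5 : u = d • w := by
      have := congrArg (fun z => (4 * c)⁻¹ • z) h3
      simp only [smul_smul] at this
      rw [inv_mul_cancel₀ h4, one_smul, ← mul_assoc, inv_mul_cancel₀ h4, one_mul] at this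
      exact this
    have h6 : d * d ^ q = 1 := by
      have := hu
      rw [h5, herm_smul_left, herm_smul_right, hw, mul_one] at this
      exact this
    rw [h5]
    exact Rm_smul 3 w d h6

theorem commute_iff_mat (a b : ↥(Cfsg.SU 3 F q)) :
    Commute a b ↔ (a.1.1 : Matrix (Fin 3) (Fin 3) F) * b.1.1 = b.1.1 * a.1.1 := by
  constructor
  · intro h
    have := congrArg (fun z : ↥(Cfsg.SU 3 F q) => (z.1.1 : Matrix (Fin 3) (Fin 3) F)) h.eq
    exact this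
  · intro h
    show a * b = b * a
    apply Subtype.ext
    apply Subtype.ext
    exact h

theorem eq_of_Rm_eq (hF : Fintype.card F = q ^ 2) (h2 : (2:F) ≠ 0)
    (u v : {v : Fin 3 → F // Cfsg.hermForm 3 F q v v = 1}) (h : Rm 3 q u.1 = Rm 3 q v.1) :
    invOf hF h2 u = invOf hF h2 v := by
  apply Subtype.ext
  apply Subtype.ext
  apply Subtype.ext
  exact h

theorem comm_invOf_of_orth (hF : Fintype.card F = q ^ 2) (h2 : (2:F) ≠ 0)
    (u v : {v : Fin 3 → F // Cfsg.hermForm 3 F q v v = 1})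
    (h0 : Cfsg.hermForm 3 F q u.1 v.1 = 0) :
    Commute (invOf hF h2 u).1 (invOf hF h2 v).1 := by
  rw [commute_iff_mat]
  exact Rm_comm_of_orth hF v.1 u.1 h0

theorem orth_of_comm_invOf (hF : Fintype.card F = q ^ 2) (h2 : (2:F) ≠ 0)
    (u v : {v : Fin 3 → F // Cfsg.hermForm 3 F q v v = 1})
    (hc : Commute (invOf hF h2 u).1 (invOf hF h2 v).1) :
    Cfsg.hermForm 3 F q u.1 v.1 = 0 ∨ invOf hF h2 u = invOf hF h2 v := by
  rw [commute_iff_mat] at hc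
  rcases orth_of_Rm_comm hF h2 v.1 u.1 v.2 u.2 hc with h | h
  · left; exact h
  · right; exact eq_of_Rm_eq hF h2 u v h

theorem ne_of_orth (hF : Fintype.card F = q ^ 2) (h2 : (2:F) ≠ 0)
    (u v : {v : Fin 3 → F // Cfsg.hermForm 3 F q v v = 1})
    (h0 : Cfsg.hermForm 3 F q u.1 v.1 = 0) : invOf hF h2 u ≠ invOf hF h2 v := by
  intro h
  have h1 : Rm 3 q u.1 = Rm 3 q v.1 := by
    have := congrArg (fun z : {x : ↥(Cfsg.SU 3 F q) // x ≠ 1 ∧ x * x = 1} =>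
      (z.1.1.1 : Matrix (Fin 3) (Fin 3) F)) h
    exact this
  have h3 := Rm_self 3 v.1 v.2
  rw [← h1, Rm_mulVec, herm_swap_zero hF u.1 v.1 h0, mul_zero, zero_smul, add_zero] at h3
  have h4 : (2 : F) • v.1 = 0 := by linear_combination (norm := module) -h3
  rcases smul_eq_zero.mp h4 with h5 | h5
  · exact h2 h5
  · exact unit_ne_zero hF v.1 v.2 h5

theorem perp2_facts (hF : Fintype.card F = q ^ 2) (w v : Fin 3 → F)
    (hw : Cfsg.hermForm 3 F q w w = 1) (hv : Cfsg.hermForm 3 F q v v = 1)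
    (hvw : Cfsg.hermForm 3 F q v w = 0) :
    HNondeg 3 q (perpIn 3 q (perpIn 3 q ⊤ w) v) ∧
      Module.finrank F (perpIn 3 q (perpIn 3 q (⊤ : Submodule F (Fin 3 → F)) w) v) = 1 := by
  have htop := Cfsg.Agent.S2644.nondeg_top (q := q) hF 3
  have hS1 : HNondeg 3 q (perpIn 3 q ⊤ w) :=
    perpIn_nondeg hF _ ⊤ htop w Submodule.mem_top hw
  have hvS1 : v ∈ perpIn 3 q (⊤ : Submodule F (Fin 3 → F)) w :=
    mem_perpIn.2 ⟨Submodule.mem_top, hvw⟩
  have hS2 := perpIn_nondeg hF _ _ hS1 v hvS1 hv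
  have f1 := finrank_perpIn (q := q) 3 (⊤ : Submodule F (Fin 3 → F)) w Submodule.mem_top hw
  have f2 := finrank_perpIn (q := q) 3 (perpIn 3 q ⊤ w) v hvS1 hv
  rw [finrank_top, Module.finrank_fin_fun] at f1
  exact ⟨hS2, by omega⟩

theorem exists_unit_perp2 (hF : Fintype.card F = q ^ 2) (w v : Fin 3 → F)
    (hw : Cfsg.hermForm 3 F q w w = 1) (hv : Cfsg.hermForm 3 F q v v = 1)
    (hvw : Cfsg.hermForm 3 F q v w = 0) :
    ∃ e : Fin 3 → F, Cfsg.hermForm 3 F q e e = 1 ∧ Cfsg.hermForm 3 F q e w = 0 ∧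
      Cfsg.hermForm 3 F q e v = 0 := by
  obtain ⟨hS2, f2⟩ := perp2_facts hF w v hw hv hvw
  obtain ⟨r, hrS, hrON⟩ := exists_ON_family hF 3 1 _ f2 hS2
  refine ⟨r 0, ?_, ?_, ?_⟩
  · have := hrON 0 0
    rwa [if_pos rfl] at this
  · exact (mem_perpIn.1 (mem_perpIn.1 (hrS 0)).1).2
  · exact (mem_perpIn.1 (hrS 0)).2

theorem iso_zero_of_perp2 (hF : Fintype.card F = q ^ 2) (w v : Fin 3 → F)
    (hw : Cfsg.hermForm 3 F q w w = 1) (hv : Cfsg.hermForm 3 F q v v = 1)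
    (hvw : Cfsg.hermForm 3 F q v w = 0) (z : Fin 3 → F)
    (hzw : Cfsg.hermForm 3 F q z w = 0) (hzv : Cfsg.hermForm 3 F q z v = 0)
    (hzz : Cfsg.hermForm 3 F q z z = 0) : z = 0 := by
  obtain ⟨hS2, f2⟩ := perp2_facts hF w v hw hv hvw
  have hz : z ∈ perpIn 3 q (perpIn 3 q (⊤ : Submodule F (Fin 3 → F)) w) v :=
    mem_perpIn.2 ⟨mem_perpIn.2 ⟨Submodule.mem_top, hzw⟩, hzv⟩
  by_contra hz0
  apply hz0
  apply hS2 z hz
  intro s hs
  have hz0' : (⟨z, hz⟩ : perpIn 3 q (perpIn 3 q (⊤ : Submodule F (Fin 3 → F)) w) v) ≠ 0 := by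
    intro h
    exact hz0 (congrArg Subtype.val h)
  obtain ⟨c, hc⟩ := (finrank_eq_one_iff_of_nonzero' _ hz0').mp f2 ⟨s, hs⟩
  have hc' : c • z = s := congrArg Subtype.val hc
  rw [← hc', herm_smul_right, hzz, mul_zero]

theorem herm_sub_right (hF : Fintype.card F = q ^ 2) (n : ℕ) (x y z : Fin n → F) :
    Cfsg.hermForm n F q x (y - z) = Cfsg.hermForm n F q x y - Cfsg.hermForm n F q x z := by
  rw [sub_eq_add_neg, herm_add_right n hF, S2360.herm_neg_right hF, sub_eq_add_neg]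

theorem invOf_of_inv (hF : Fintype.card F = q ^ 2) (h2 : (2:F) ≠ 0) (y : ↥(Cfsg.SU 3 F q))
    (hy : y ≠ 1) (hy2 : y * y = 1) :
    ∃ V : {v : Fin 3 → F // Cfsg.hermForm 3 F q v v = 1}, y = (invOf hF h2 V).1 := by
  obtain ⟨v, hv, hyv⟩ := invol_of_su hF h2 y hy hy2
  refine ⟨⟨v, hv⟩, ?_⟩
  apply Subtype.ext
  apply Subtype.ext
  exact hyv

theorem far_iff (hF : Fintype.card F = q ^ 2) (h2 : (2:F) ≠ 0)
    (W U : {v : Fin 3 → F // Cfsg.hermForm 3 F q v v = 1}) :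
    (¬ Commute (invOf hF h2 W).1 (invOf hF h2 U).1 ∧
      ∀ y : ↥(Cfsg.SU 3 F q), y ≠ 1 → y * y = 1 →
        ¬ (Commute (invOf hF h2 W).1 y ∧ Commute y (invOf hF h2 U).1)) ↔
    (Cfsg.hermForm 3 F q U.1 W.1 ≠ 0 ∧ U.1 - Cfsg.hermForm 3 F q U.1 W.1 • W.1 ≠ 0 ∧
      Cfsg.hermForm 3 F q (U.1 - Cfsg.hermForm 3 F q U.1 W.1 • W.1)
        (U.1 - Cfsg.hermForm 3 F q U.1 W.1 • W.1) = 0) := by
  have hq := one_lt_q hF
  obtain ⟨w, hw⟩ := W
  obtain ⟨u, hu⟩ := U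
  simp only
  set a := Cfsg.hermForm 3 F q u w with ha
  set u' := u - a • w with hu'
  have hu'w : Cfsg.hermForm 3 F q u' w = 0 := by
    rw [hu', Cfsg.Agent.Lib.Helper5.herm_sub_left, herm_smul_left, hw, mul_one, sub_self]
  have hdec : u = a • w + u' := by rw [hu']; abel
  constructor
  · rintro ⟨hnc, hall⟩
    have ha0 : a ≠ 0 := by
      intro h0
      apply hnc
      exact (comm_invOf_of_orth hF h2 ⟨u, hu⟩ ⟨w, hw⟩ h0).symm
    have hu'0 : u' ≠ 0 := by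
      intro h0
      apply hnc
      have h1 : u = a • w := by rw [hdec, h0, add_zero]
      have h3 : a * a ^ q = 1 := by
        have := hu
        rw [h1, herm_smul_left, herm_smul_right, hw, mul_one] at this
        exact this
      have h4 : invOf hF h2 ⟨u, hu⟩ = invOf hF h2 ⟨w, hw⟩ := by
        apply eq_of_Rm_eq
        show Rm 3 q u = Rm 3 q w
        rw [h1]
        exact Rm_smul 3 w a h3
      rw [h4]
    refine ⟨ha0, hu'0, ?_⟩
    by_contra hne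
    set c := Cfsg.hermForm 3 F q u' u' with hc
    obtain ⟨l, hl⟩ := norm_surj hF c (herm_self_fix hF 3 u')
    have hl0 : l ≠ 0 := by
      rintro rfl
      rw [zero_mul] at hl
      exact hne hl.symm
    have hlq0 : l ^ q ≠ 0 := pow_ne_zero _ hl0
    set u'' := l⁻¹ • u' with hu''
    have hu''1 : Cfsg.hermForm 3 F q u'' u'' = 1 := by
      rw [hu'', herm_smul_left, herm_smul_right, ← hc, ← hl, inv_pow]
      field_simp
    have hu''w : Cfsg.hermForm 3 F q u'' w = 0 := by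
      rw [hu'', herm_smul_left, hu'w, mul_zero]
    obtain ⟨e, he1, hew, heu⟩ := exists_unit_perp2 hF w u'' hw hu''1 hu''w
    have hu'e : u' = l • u'' := by
      rw [hu'', smul_smul, mul_inv_cancel₀ hl0, one_smul]
    have heU : Cfsg.hermForm 3 F q e u = 0 := by
      rw [hdec, herm_add_right 3 hF, herm_smul_right, hew, hu'e, herm_smul_right, heu]
      ring
    apply hall (invOf hF h2 ⟨e, he1⟩).1 (invOf hF h2 ⟨e, he1⟩).2.1 (invOf hF h2 ⟨e, he1⟩).2.2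
    constructor
    · exact comm_invOf_of_orth hF h2 ⟨w, hw⟩ ⟨e, he1⟩ (herm_swap_zero hF e w hew)
    · exact comm_invOf_of_orth hF h2 ⟨e, he1⟩ ⟨u, hu⟩ heU
  · rintro ⟨ha0, hu'0, hiso⟩
    have hnc : ¬ Commute (invOf hF h2 ⟨w, hw⟩).1 (invOf hF h2 ⟨u, hu⟩).1 := by
      intro hcomm
      rcases orth_of_comm_invOf hF h2 ⟨w, hw⟩ ⟨u, hu⟩ hcomm with h | h
      · exact ha0 (herm_swap_zero hF w u h)
      · have h1 : Rm 3 q w = Rm 3 q u := by
          have := congrArg (fun z : {x : ↥(Cfsg.SU 3 F q) // x ≠ 1 ∧ x * x = 1} =>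
            (z.1.1.1 : Matrix (Fin 3) (Fin 3) F)) h
          exact this
        have h3 := Rm_self 3 u hu
        rw [← h1, Rm_mulVec, ← ha] at h3
        apply hu'0
        rw [hu']
        have h4 : (2 : F) • (u - a • w) = 0 := by linear_combination (norm := module) -h3
        exact (smul_eq_zero.mp h4).resolve_left h2
    refine ⟨hnc, ?_⟩
    intro y hy hy2 ⟨hc1, hc2⟩
    obtain ⟨V, rfl⟩ := invOf_of_inv hF h2 y hy hy2
    obtain ⟨v, hv⟩ := V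
    have h1 : Cfsg.hermForm 3 F q w v = 0 := by
      rcases orth_of_comm_invOf hF h2 ⟨w, hw⟩ ⟨v, hv⟩ hc1 with h | h
      · exact h
      · exfalso
        apply hnc
        rw [h]
        exact hc2
    have h3 : Cfsg.hermForm 3 F q v u = 0 := by
      rcases orth_of_comm_invOf hF h2 ⟨v, hv⟩ ⟨u, hu⟩ hc2 with h | h
      · exact h
      · exfalso
        apply hnc
        rw [← h]
        exact hc1
    have h4 : Cfsg.hermForm 3 F q u' v = 0 := by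
      rw [hu', Cfsg.Agent.Lib.Helper5.herm_sub_left, herm_smul_left, h1,
        herm_swap_zero hF v u h3]
      ring
    exact hu'0 (iso_zero_of_perp2 hF w v hw hv (herm_swap_zero hF w v h1) u' hu'w h4 hiso)

theorem card_split {α : Type*} [Finite α] (p r : α → Prop) :
    Nat.card {x // p x} = Nat.card {x // p x ∧ r x} + Nat.card {x // p x ∧ ¬ r x} := by
  classical
  haveI : Fintype α := Fintype.ofFinite α
  rw [Nat.card_eq_fintype_card, Nat.card_eq_fintype_card, Nat.card_eq_fintype_card,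
    Fintype.card_subtype, Fintype.card_subtype, Fintype.card_subtype,
    ← Finset.filter_filter, ← Finset.filter_filter]
  exact (Finset.card_filter_add_card_filter_not _).symm

theorem card_ne_add_one {α : Type*} [Finite α] (p : α → Prop) (a0 : α) (h0 : p a0) :
    Nat.card {x // p x ∧ x ≠ a0} + 1 = Nat.card {x // p x} := by
  have h := card_split p (fun x => x = a0)
  have h1 : Nat.card {x // p x ∧ x = a0} = 1 := by
    rw [Nat.card_eq_one_iff_unique]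
    exact ⟨⟨fun a b => Subtype.ext (a.2.2.trans b.2.2.symm)⟩, ⟨⟨a0, h0, rfl⟩⟩⟩
  rw [h1] at h
  have h3 : Nat.card {x // p x ∧ x ≠ a0} = Nat.card {x // p x ∧ ¬ x = a0} := rfl
  omega

theorem counts2 (hF : Fintype.card F = q ^ 2) :
    Nat.card {v : Fin 2 → F // Cfsg.hermForm 2 F q v v = 0} + q = q ^ 3 + q ^ 2 ∧
    Nat.card {v : Fin 2 → F // Cfsg.hermForm 2 F q v v = 1} + q = q ^ 3 := by
  have hq := one_lt_q hF
  have h1 := z_two hF
  have h2 := cnt_total hF 2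
  refine ⟨h1, ?_⟩
  obtain ⟨r, rfl⟩ : ∃ r, q = r + 1 := ⟨q - 1, by omega⟩
  have hr : 0 < r := by omega
  simp only [Nat.add_sub_cancel] at h2
  norm_num at h2
  have h3 : r * (Nat.card {v : Fin 2 → F // Cfsg.hermForm 2 F (r + 1) v v = 1} + (r + 1)) =
      r * (r + 1) ^ 3 := by
    nlinarith [h1, h2]
  exact Nat.eq_of_mul_eq_mul_left hr h3

theorem perp_counts (hF : Fintype.card F = q ^ 2) (w : Fin 3 → F)
    (hw : Cfsg.hermForm 3 F q w w = 1) :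
    Nat.card {u : Fin 3 → F // Cfsg.hermForm 3 F q u w = 0 ∧ Cfsg.hermForm 3 F q u u = 0} =
      Nat.card {v : Fin 2 → F // Cfsg.hermForm 2 F q v v = 0} ∧
    Nat.card {u : Fin 3 → F // Cfsg.hermForm 3 F q u w = 0 ∧ Cfsg.hermForm 3 F q u u = 1} =
      Nat.card {v : Fin 2 → F // Cfsg.hermForm 2 F q v v = 1} := by
  have hON : Cfsg.Agent.Lib.Helper2.Herm.IsON 3 q (fun _ : Fin 1 => w) := by
    intro i j
    rw [if_pos (Subsingleton.elim i j)]
    exact hw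
  obtain ⟨-, hS⟩ := std_frame hF 3 1 (fun _ : Fin 1 => w) hON
  have hmem : ∀ u : Fin 3 → F, u ∈ frameSub 3 q (fun _ : Fin 1 => w) ↔
      Cfsg.hermForm 3 F q u w = 0 := by
    intro u
    rw [mem_frameSub]
    exact ⟨fun h => h 0, fun h _ => h⟩
  constructor
  · rw [← hS.1]
    exact Nat.card_congr (Equiv.subtypeEquivRight (fun u => by rw [hmem]))
  · rw [← hS.2]
    exact Nat.card_congr (Equiv.subtypeEquivRight (fun u => by rw [hmem]))

theorem card_pred (hF : Fintype.card F = q ^ 2) (h2 : (2:F) ≠ 0)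
    (P : {x : ↥(Cfsg.SU 3 F q) // x ≠ 1 ∧ x * x = 1} → Prop) :
    Nat.card {u : {v : Fin 3 → F // Cfsg.hermForm 3 F q v v = 1} // P (invOf hF h2 u)} =
      Nat.card {x : {x : ↥(Cfsg.SU 3 F q) // x ≠ 1 ∧ x * x = 1} // P x} * (q + 1) := by
  classical
  let f : {u : {v : Fin 3 → F // Cfsg.hermForm 3 F q v v = 1} // P (invOf hF h2 u)} →
      {x : {x : ↥(Cfsg.SU 3 F q) // x ≠ 1 ∧ x * x = 1} // P x} := fun u => ⟨invOf hF h2 u.1, u.2⟩
  have hfib : ∀ x : {x : {x : ↥(Cfsg.SU 3 F q) // x ≠ 1 ∧ x * x = 1} // P x},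
      Nat.card {u // f u = x} = q + 1 := by
    intro x
    rw [← card_fiber hF h2 x.1]
    apply Nat.card_congr
    exact
      { toFun := fun z => ⟨z.1.1, congrArg Subtype.val z.2⟩
        invFun := fun z => ⟨⟨z.1, by rw [z.2]; exact x.2⟩, Subtype.ext z.2⟩
        left_inv := fun z => by
          apply Subtype.ext
          apply Subtype.ext
          rfl
        right_inv := fun z => by
          apply Subtype.ext
          rfl }
  haveI : Fintype {x : {x : ↥(Cfsg.SU 3 F q) // x ≠ 1 ∧ x * x = 1} // P x} := Fintype.ofFinite _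
  rw [← Nat.card_congr (Equiv.sigmaFiberEquiv f), Nat.card_sigma]
  simp only [hfib]
  rw [Finset.sum_const, smul_eq_mul, Finset.card_univ, Nat.card_eq_fintype_card]

/-- neighbours of `t` -/
theorem card_near (hF : Fintype.card F = q ^ 2) (h2 : (2:F) ≠ 0)
    (W : {v : Fin 3 → F // Cfsg.hermForm 3 F q v v = 1}) :
    Nat.card {x : {x : ↥(Cfsg.SU 3 F q) // x ≠ 1 ∧ x * x = 1} //
        x.1 ≠ (invOf hF h2 W).1 ∧ Commute (invOf hF h2 W).1 x.1} * (q + 1) + q = q ^ 3 := by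
  rw [← card_pred hF h2 (fun x => x.1 ≠ (invOf hF h2 W).1 ∧ Commute (invOf hF h2 W).1 x.1)]
  rw [← (counts2 hF).2, ← (perp_counts hF W.1 W.2).2]
  congr 1
  have e1 : {u : {v : Fin 3 → F // Cfsg.hermForm 3 F q v v = 1} //
      (invOf hF h2 u).1 ≠ (invOf hF h2 W).1 ∧ Commute (invOf hF h2 W).1 (invOf hF h2 u).1} ≃
      {u : {v : Fin 3 → F // Cfsg.hermForm 3 F q v v = 1} // Cfsg.hermForm 3 F q u.1 W.1 = 0} := by
    apply Equiv.subtypeEquivRight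
    intro u
    constructor
    · rintro ⟨hne, hc⟩
      rcases orth_of_comm_invOf hF h2 W u hc with h | h
      · exact herm_swap_zero hF W.1 u.1 h
      · exact absurd (congrArg Subtype.val h.symm) hne
    · intro h
      refine ⟨?_, (comm_invOf_of_orth hF h2 u W h).symm⟩
      intro h'
      exact ne_of_orth hF h2 u W h (Subtype.ext h')
  rw [Nat.card_congr e1]
  apply Nat.card_congr
  exact (Equiv.subtypeSubtypeEquivSubtypeInter
    (fun v : Fin 3 → F => Cfsg.hermForm 3 F q v v = 1)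
    (fun v : Fin 3 → F => Cfsg.hermForm 3 F q v W.1 = 0)).trans
    (Equiv.subtypeEquivRight (fun u => and_comm))

theorem decomp_norm (hF : Fintype.card F = q ^ 2) (w u' : Fin 3 → F)
    (hw : Cfsg.hermForm 3 F q w w = 1) (hu'w : Cfsg.hermForm 3 F q u' w = 0) (a : F) :
    Cfsg.hermForm 3 F q (a • w + u') (a • w + u') = a * a ^ q + Cfsg.hermForm 3 F q u' u' ∧
    Cfsg.hermForm 3 F q (a • w + u') w = a := by
  have hwu' := herm_swap_zero hF u' w hu'w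
  constructor
  · rw [herm_add_left, herm_add_right 3 hF, herm_add_right 3 hF, herm_smul_left, herm_smul_left,
      herm_smul_right, herm_smul_right, hw, hwu', hu'w]
    ring
  · rw [herm_add_left, herm_smul_left, hw, hu'w]
    ring

theorem card_far_vec (hF : Fintype.card F = q ^ 2)
    (W : {v : Fin 3 → F // Cfsg.hermForm 3 F q v v = 1}) :
    Nat.card {U : {v : Fin 3 → F // Cfsg.hermForm 3 F q v v = 1} //
      Cfsg.hermForm 3 F q U.1 W.1 ≠ 0 ∧ U.1 - Cfsg.hermForm 3 F q U.1 W.1 • W.1 ≠ 0 ∧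
      Cfsg.hermForm 3 F q (U.1 - Cfsg.hermForm 3 F q U.1 W.1 • W.1)
        (U.1 - Cfsg.hermForm 3 F q U.1 W.1 • W.1) = 0} =
    (q + 1) * Nat.card {u : Fin 3 → F //
      (Cfsg.hermForm 3 F q u W.1 = 0 ∧ Cfsg.hermForm 3 F q u u = 0) ∧ u ≠ 0} := by
  obtain ⟨w, hw⟩ := W
  simp only
  rw [← card_norm_fiber hF 1 (one_pow q) one_ne_zero, ← Nat.card_prod]
  symm
  apply Nat.card_congr
  refine Equiv.ofBijective (fun p => ⟨⟨p.1.1 • w + p.2.1, ?_⟩, ?_⟩) ⟨?_, ?_⟩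
  · rw [(decomp_norm hF w p.2.1 hw p.2.2.1.1 p.1.1).1, p.1.2, p.2.2.1.2, add_zero]
  · have h1 := (decomp_norm hF w p.2.1 hw p.2.2.1.1 p.1.1).2
    simp only
    rw [h1]
    have h3 : p.1.1 • w + p.2.1 - p.1.1 • w = p.2.1 := by abel
    rw [h3]
    refine ⟨?_, p.2.2.2, p.2.2.1.2⟩
    intro h0
    have := p.1.2
    rw [h0, zero_mul] at this
    exact zero_ne_one this
  · rintro ⟨⟨a, ha⟩, ⟨u', hu'⟩⟩ ⟨⟨b, hb⟩, ⟨v', hv'⟩⟩ h
    have h1 : a • w + u' = b • w + v' := by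
      have := congrArg (fun z : {U : {v : Fin 3 → F // Cfsg.hermForm 3 F q v v = 1} //
        Cfsg.hermForm 3 F q U.1 w ≠ 0 ∧ U.1 - Cfsg.hermForm 3 F q U.1 w • w ≠ 0 ∧
        Cfsg.hermForm 3 F q (U.1 - Cfsg.hermForm 3 F q U.1 w • w)
          (U.1 - Cfsg.hermForm 3 F q U.1 w • w) = 0} => z.1.1) h
      exact this
    have h3 : a = b := by
      have e1 := (decomp_norm hF w u' hw hu'.1.1 a).2
      have e2 := (decomp_norm hF w v' hw hv'.1.1 b).2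
      rw [h1] at e1
      exact e1.symm.trans e2
    subst h3
    have h4 : u' = v' := add_left_cancel h1
    subst h4
    rfl
  · rintro ⟨⟨u, hu⟩, ha0, hu'0, hiso⟩
    simp only at ha0 hu'0 hiso
    set a := Cfsg.hermForm 3 F q u w with ha
    set u' := u - a • w with hu'
    have hu'w : Cfsg.hermForm 3 F q u' w = 0 := by
      rw [hu', Cfsg.Agent.Lib.Helper5.herm_sub_left, herm_smul_left, hw, mul_one, sub_self]
    have hdec : a • w + u' = u := by rw [hu']; abel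
    have hN : a * a ^ q = 1 := by
      have := (decomp_norm hF w u' hw hu'w a).1
      rw [hdec, hu, hiso, add_zero] at this
      exact this.symm
    refine ⟨⟨⟨a, hN⟩, ⟨u', ⟨hu'w, hiso⟩, hu'0⟩⟩, ?_⟩
    apply Subtype.ext
    apply Subtype.ext
    exact hdec

theorem card_far (hF : Fintype.card F = q ^ 2) (h2 : (2:F) ≠ 0)
    (W : {v : Fin 3 → F // Cfsg.hermForm 3 F q v v = 1}) :
    Nat.card {x : {x : ↥(Cfsg.SU 3 F q) // x ≠ 1 ∧ x * x = 1} //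
        ¬ Commute (invOf hF h2 W).1 x.1 ∧
        ∀ y : ↥(Cfsg.SU 3 F q), y ≠ 1 → y * y = 1 →
          ¬ (Commute (invOf hF h2 W).1 y ∧ Commute y x.1)} + (q + 1) = q ^ 3 + q ^ 2 := by
  have hq := one_lt_q hF
  have h1 := card_pred hF h2 (fun x => ¬ Commute (invOf hF h2 W).1 x.1 ∧
        ∀ y : ↥(Cfsg.SU 3 F q), y ≠ 1 → y * y = 1 →
          ¬ (Commute (invOf hF h2 W).1 y ∧ Commute y x.1))
  have h3 := card_far_vec hF W
  rw [Nat.card_congr (Equiv.subtypeEquivRight (fun U => far_iff hF h2 W U)), h3] at h1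
  have hB := card_ne_add_one
    (fun u : Fin 3 → F => Cfsg.hermForm 3 F q u W.1 = 0 ∧ Cfsg.hermForm 3 F q u u = 0) 0
    ⟨Cfsg.Agent.Lib.Helper5.herm_zero_left 3 _, Cfsg.Agent.Lib.Helper5.herm_zero_left 3 _⟩
  have hZ := (perp_counts hF W.1 W.2).1
  have hZ2 := (counts2 hF).1
  have hC := Nat.eq_of_mul_eq_mul_right (show 0 < q + 1 by omega)
    (h1.symm.trans (mul_comm _ _))
  omega

theorem exists_v2 (hF : Fintype.card F = q ^ 2) (u v1 : Fin 3 → F)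
    (hu : Cfsg.hermForm 3 F q u u = 1) (hv1 : Cfsg.hermForm 3 F q v1 v1 = 1)
    (hβ : Cfsg.hermForm 3 F q u v1 * Cfsg.hermForm 3 F q u v1 ^ q ≠ 1) :
    ∃ v2 : Fin 3 → F, Cfsg.hermForm 3 F q v2 v2 = 1 ∧ Cfsg.hermForm 3 F q v2 v1 = 0 ∧
      Cfsg.hermForm 3 F q v2 u = 0 := by
  set β := Cfsg.hermForm 3 F q u v1 with hβdef
  set u2 := u - β • v1 with hu2
  have h1 : Cfsg.hermForm 3 F q u2 v1 = 0 := by
    rw [hu2, Cfsg.Agent.Lib.Helper5.herm_sub_left, herm_smul_left, hv1, mul_one, sub_self]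
  have h3 : Cfsg.hermForm 3 F q u2 u2 = 1 - β * β ^ q := by
    have e1 : Cfsg.hermForm 3 F q u2 u = 1 - β * β ^ q := by
      rw [hu2, Cfsg.Agent.Lib.Helper5.herm_sub_left, herm_smul_left, hu,
        ← herm_pow_q 3 hF u v1]
    rw [hu2, herm_sub_right hF, herm_smul_right, ← hu2, h1, e1]
    ring
  have hc0 : Cfsg.hermForm 3 F q u2 u2 ≠ 0 := by
    rw [h3]
    intro h
    exact hβ (sub_eq_zero.mp h).symm
  obtain ⟨l, hl⟩ := norm_surj hF _ (herm_self_fix hF 3 u2)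
  have hl0 : l ≠ 0 := by
    rintro rfl
    rw [zero_mul] at hl
    exact hc0 hl.symm
  have hlq0 : l ^ q ≠ 0 := pow_ne_zero _ hl0
  obtain ⟨u2', hu2'⟩ : ∃ x : Fin 3 → F, x = l⁻¹ • u2 := ⟨_, rfl⟩
  have hu2'1 : Cfsg.hermForm 3 F q u2' u2' = 1 := by
    rw [hu2', herm_smul_left, herm_smul_right, ← hl, inv_pow]
    field_simp
  have hu2'v : Cfsg.hermForm 3 F q u2' v1 = 0 := by
    rw [hu2', herm_smul_left, h1, mul_zero]
  obtain ⟨e, he1, hev, heu⟩ := exists_unit_perp2 hF v1 u2' hv1 hu2'1 hu2'v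
  refine ⟨e, he1, hev, ?_⟩
  have hdec : u = l • u2' + β • v1 := by
    rw [hu2', smul_smul, mul_inv_cancel₀ hl0, one_smul, hu2]
    abel
  rw [hdec, herm_add_right 3 hF, herm_smul_right, herm_smul_right, heu, hev]
  ring

theorem exists_v1 (hF : Fintype.card F = q ^ 2) (h2 : (2:F) ≠ 0) (w u : Fin 3 → F)
    (hw : Cfsg.hermForm 3 F q w w = 1)
    (hiso : Cfsg.hermForm 3 F q (u - Cfsg.hermForm 3 F q u w • w)
      (u - Cfsg.hermForm 3 F q u w • w) = 0) :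
    ∃ v1 : Fin 3 → F, Cfsg.hermForm 3 F q v1 v1 = 1 ∧ Cfsg.hermForm 3 F q v1 w = 0 ∧
      Cfsg.hermForm 3 F q u v1 * Cfsg.hermForm 3 F q u v1 ^ q ≠ 1 := by
  have hq := one_lt_q hF
  set a := Cfsg.hermForm 3 F q u w with ha
  set u' := u - a • w with hu'
  have hu'w : Cfsg.hermForm 3 F q u' w = 0 := by
    rw [hu', Cfsg.Agent.Lib.Helper5.herm_sub_left, herm_smul_left, hw, mul_one, sub_self]
  have hdec : u = a • w + u' := by rw [hu']; abel
  have htop := Cfsg.Agent.S2644.nondeg_top (q := q) hF 3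
  have hS1 : HNondeg 3 q (perpIn 3 q ⊤ w) :=
    perpIn_nondeg hF _ ⊤ htop w Submodule.mem_top hw
  have f1 := finrank_perpIn (q := q) 3 (⊤ : Submodule F (Fin 3 → F)) w Submodule.mem_top hw
  rw [finrank_top, Module.finrank_fin_fun] at f1
  obtain ⟨r, hrS, hrON⟩ := exists_ON_family hF 3 2 _ (by omega) hS1
  have h11 : Cfsg.hermForm 3 F q (r 0) (r 0) = 1 := by
    have := hrON 0 0
    rwa [if_pos rfl] at this
  have h22 : Cfsg.hermForm 3 F q (r 1) (r 1) = 1 := by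
    have := hrON 1 1
    rwa [if_pos rfl] at this
  have h12 : Cfsg.hermForm 3 F q (r 0) (r 1) = 0 := by
    have := hrON 0 1
    rwa [if_neg (by decide)] at this
  have h21 : Cfsg.hermForm 3 F q (r 1) (r 0) = 0 := by
    have := hrON 1 0
    rwa [if_neg (by decide)] at this
  have h1w : Cfsg.hermForm 3 F q (r 0) w = 0 := (mem_perpIn.1 (hrS 0)).2
  have h2w : Cfsg.hermForm 3 F q (r 1) w = 0 := (mem_perpIn.1 (hrS 1)).2
  set b := Cfsg.hermForm 3 F q u' (r 0) with hb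
  set c := Cfsg.hermForm 3 F q u' (r 1) with hc
  have f2 := finrank_perpIn (q := q) 3 (perpIn 3 q ⊤ w) (r 0) (hrS 0) h11
  have h2S : r 1 ∈ perpIn 3 q (perpIn 3 q (⊤ : Submodule F (Fin 3 → F)) w) (r 0) :=
    mem_perpIn.2 ⟨hrS 1, h21⟩
  have f3 := finrank_perpIn (q := q) 3 (perpIn 3 q (perpIn 3 q ⊤ w) (r 0)) (r 1) h2S h22
  have hbot : perpIn 3 q (perpIn 3 q (perpIn 3 q (⊤ : Submodule F (Fin 3 → F)) w) (r 0)) (r 1)
      = ⊥ := by
    apply Submodule.finrank_eq_zero.mp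
    omega
  have hz : u' - b • r 0 - c • r 1 = 0 := by
    have hmem : u' - b • r 0 - c • r 1 ∈
        perpIn 3 q (perpIn 3 q (perpIn 3 q (⊤ : Submodule F (Fin 3 → F)) w) (r 0)) (r 1) := by
      refine mem_perpIn.2 ⟨mem_perpIn.2 ⟨mem_perpIn.2 ⟨Submodule.mem_top, ?_⟩, ?_⟩, ?_⟩
      · rw [Cfsg.Agent.Lib.Helper5.herm_sub_left, Cfsg.Agent.Lib.Helper5.herm_sub_left,
          herm_smul_left, herm_smul_left, hu'w, h1w, h2w]
        ring
      · rw [Cfsg.Agent.Lib.Helper5.herm_sub_left, Cfsg.Agent.Lib.Helper5.herm_sub_left,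
          herm_smul_left, herm_smul_left, h11, h21, ← hb]
        ring
      · rw [Cfsg.Agent.Lib.Helper5.herm_sub_left, Cfsg.Agent.Lib.Helper5.herm_sub_left,
          herm_smul_left, herm_smul_left, h12, h22, ← hc]
        ring
    rw [hbot] at hmem
    exact (Submodule.mem_bot F).mp hmem
  have hu'eq : u' = b • r 0 + c • r 1 := by
    have : u' = (u' - b • r 0 - c • r 1) + (b • r 0 + c • r 1) := by abel
    rw [this, hz, zero_add]
  have hbc : b * b ^ q + c * c ^ q = 0 := by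
    have h := hiso
    rw [hu'eq, herm_add_left, herm_add_right 3 hF, herm_add_right 3 hF] at h
    simp only [herm_smul_left, herm_smul_right, h11, h12, h21, h22] at h
    linear_combination h
  have hub : Cfsg.hermForm 3 F q u (r 0) = b := by
    rw [hdec, herm_add_left, herm_smul_left, herm_swap_zero hF (r 0) w h1w, ← hb]
    ring
  have huc : Cfsg.hermForm 3 F q u (r 1) = c := by
    rw [hdec, herm_add_left, herm_smul_left, herm_swap_zero hF (r 1) w h2w, ← hc]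
    ring
  by_cases hb1 : b * b ^ q = 1
  · refine ⟨r 1, h22, h2w, ?_⟩
    rw [huc]
    intro hc1
    apply h2
    have : (1 : F) + 1 = 0 := by rw [← hbc, hb1, hc1]
    linear_combination this
  · refine ⟨r 0, h11, h1w, ?_⟩
    rw [hub]
    exact hb1

theorem exists_path (hF : Fintype.card F = q ^ 2) (h2 : (2:F) ≠ 0)
    (W U : {v : Fin 3 → F // Cfsg.hermForm 3 F q v v = 1}) :
    ∃ y z : ↥(Cfsg.SU 3 F q), y ≠ 1 ∧ y * y = 1 ∧ z ≠ 1 ∧ z * z = 1 ∧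
      Commute (invOf hF h2 W).1 y ∧ Commute y z ∧ Commute z (invOf hF h2 U).1 := by
  by_cases hc : Commute (invOf hF h2 W).1 (invOf hF h2 U).1
  · exact ⟨(invOf hF h2 W).1, (invOf hF h2 W).1, (invOf hF h2 W).2.1, (invOf hF h2 W).2.2,
      (invOf hF h2 W).2.1, (invOf hF h2 W).2.2, Commute.refl _, Commute.refl _, hc⟩
  by_cases hex : ∃ y : ↥(Cfsg.SU 3 F q), y ≠ 1 ∧ y * y = 1 ∧
      Commute (invOf hF h2 W).1 y ∧ Commute y (invOf hF h2 U).1
  · obtain ⟨y, hy, hy2, hc1, hc2⟩ := hex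
    exact ⟨y, y, hy, hy2, hy, hy2, hc1, Commute.refl _, hc2⟩
  have hfar := (far_iff hF h2 W U).mp ⟨hc, fun y hy hy2 hcc => hex ⟨y, hy, hy2, hcc.1, hcc.2⟩⟩
  obtain ⟨ha0, hu'0, hiso⟩ := hfar
  obtain ⟨v1, hv11, hv1w, hβ⟩ := exists_v1 hF h2 W.1 U.1 W.2 hiso
  obtain ⟨v2, hv21, hv2v1, hv2u⟩ := exists_v2 hF U.1 v1 U.2 hv11 hβ
  refine ⟨(invOf hF h2 ⟨v1, hv11⟩).1, (invOf hF h2 ⟨v2, hv21⟩).1,
    (invOf hF h2 ⟨v1, hv11⟩).2.1, (invOf hF h2 ⟨v1, hv11⟩).2.2,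
    (invOf hF h2 ⟨v2, hv21⟩).2.1, (invOf hF h2 ⟨v2, hv21⟩).2.2, ?_, ?_, ?_⟩
  · exact comm_invOf_of_orth hF h2 W ⟨v1, hv11⟩ (herm_swap_zero hF v1 W.1 hv1w)
  · exact comm_invOf_of_orth hF h2 ⟨v1, hv11⟩ ⟨v2, hv21⟩ (herm_swap_zero hF v2 v1 hv2v1)
  · exact comm_invOf_of_orth hF h2 ⟨v2, hv21⟩ U hv2u

theorem partition (t : ↥(Cfsg.SU 3 F q)) (ht : t ≠ 1) (ht2 : t * t = 1) :
    Nat.card {x : ↥(Cfsg.SU 3 F q) // x ≠ 1 ∧ x * x = 1} =
      1 + Nat.card {x : ↥(Cfsg.SU 3 F q) // x ≠ 1 ∧ x * x = 1 ∧ x ≠ t ∧ Commute t x} +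
      Nat.card {x : ↥(Cfsg.SU 3 F q) // x ≠ 1 ∧ x * x = 1 ∧ ¬ Commute t x ∧
        ∃ y : ↥(Cfsg.SU 3 F q), y ≠ 1 ∧ y * y = 1 ∧ Commute t y ∧ Commute y x} +
      Nat.card {x : ↥(Cfsg.SU 3 F q) // x ≠ 1 ∧ x * x = 1 ∧ ¬ Commute t x ∧
        ∀ y : ↥(Cfsg.SU 3 F q), y ≠ 1 → y * y = 1 → ¬ (Commute t y ∧ Commute y x)} := by
  have s1 := card_split (fun x : ↥(Cfsg.SU 3 F q) => x ≠ 1 ∧ x * x = 1) (fun x => Commute t x)
  have s2 := card_split (fun x : ↥(Cfsg.SU 3 F q) => (x ≠ 1 ∧ x * x = 1) ∧ Commute t x)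
    (fun x => x = t)
  have s3 := card_split (fun x : ↥(Cfsg.SU 3 F q) => (x ≠ 1 ∧ x * x = 1) ∧ ¬ Commute t x)
    (fun x => ∃ y : ↥(Cfsg.SU 3 F q), y ≠ 1 ∧ y * y = 1 ∧ Commute t y ∧ Commute y x)
  have e1 : Nat.card {x : ↥(Cfsg.SU 3 F q) // ((x ≠ 1 ∧ x * x = 1) ∧ Commute t x) ∧ x = t} = 1 := by
    rw [Nat.card_eq_one_iff_unique]
    exact ⟨⟨fun a b => Subtype.ext (a.2.2.trans b.2.2.symm)⟩,
      ⟨⟨t, ⟨⟨ht, ht2⟩, Commute.refl t⟩, rfl⟩⟩⟩
  have e2 : Nat.card {x : ↥(Cfsg.SU 3 F q) // ((x ≠ 1 ∧ x * x = 1) ∧ Commute t x) ∧ ¬ x = t} =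
      Nat.card {x : ↥(Cfsg.SU 3 F q) // x ≠ 1 ∧ x * x = 1 ∧ x ≠ t ∧ Commute t x} := by
    apply Nat.card_congr
    apply Equiv.subtypeEquivRight
    intro x
    constructor
    · rintro ⟨⟨⟨h1, h2⟩, h3⟩, h4⟩
      exact ⟨h1, h2, h4, h3⟩
    · rintro ⟨h1, h2, h4, h3⟩
      exact ⟨⟨⟨h1, h2⟩, h3⟩, h4⟩
  have e3 : Nat.card {x : ↥(Cfsg.SU 3 F q) // ((x ≠ 1 ∧ x * x = 1) ∧ ¬ Commute t x) ∧
      ∃ y : ↥(Cfsg.SU 3 F q), y ≠ 1 ∧ y * y = 1 ∧ Commute t y ∧ Commute y x} =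
      Nat.card {x : ↥(Cfsg.SU 3 F q) // x ≠ 1 ∧ x * x = 1 ∧ ¬ Commute t x ∧
        ∃ y : ↥(Cfsg.SU 3 F q), y ≠ 1 ∧ y * y = 1 ∧ Commute t y ∧ Commute y x} := by
    apply Nat.card_congr
    apply Equiv.subtypeEquivRight
    intro x
    constructor
    · rintro ⟨⟨⟨h1, h2⟩, h3⟩, h4⟩
      exact ⟨h1, h2, h3, h4⟩
    · rintro ⟨h1, h2, h3, h4⟩
      exact ⟨⟨⟨h1, h2⟩, h3⟩, h4⟩
  have e4 : Nat.card {x : ↥(Cfsg.SU 3 F q) // ((x ≠ 1 ∧ x * x = 1) ∧ ¬ Commute t x) ∧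
      ¬ ∃ y : ↥(Cfsg.SU 3 F q), y ≠ 1 ∧ y * y = 1 ∧ Commute t y ∧ Commute y x} =
      Nat.card {x : ↥(Cfsg.SU 3 F q) // x ≠ 1 ∧ x * x = 1 ∧ ¬ Commute t x ∧
        ∀ y : ↥(Cfsg.SU 3 F q), y ≠ 1 → y * y = 1 → ¬ (Commute t y ∧ Commute y x)} := by
    apply Nat.card_congr
    apply Equiv.subtypeEquivRight
    intro x
    constructor
    · rintro ⟨⟨⟨h1, h2⟩, h3⟩, h4⟩
      exact ⟨h1, h2, h3, fun y hy hy2 hc => h4 ⟨y, hy, hy2, hc.1, hc.2⟩⟩
    · rintro ⟨h1, h2, h3, h4⟩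
      refine ⟨⟨⟨h1, h2⟩, h3⟩, ?_⟩
      rintro ⟨y, hy, hy2, hc1, hc2⟩
      exact h4 y hy hy2 ⟨hc1, hc2⟩
  rw [e1, e2] at s2
  rw [e3, e4] at s3
  omega

end

theorem arith (s q : ℕ) (hs : q = s + 3) (I A B C : ℕ)
    (hI : I * (q + 1) = q ^ 5 + q ^ 2) (hA : A * (q + 1) + q = q ^ 3)
    (hC : C + (q + 1) = q ^ 3 + q ^ 2) (hP : I = 1 + A + B + C) :
    A = q * (q - 1) ∧ B = q * (q - 2) * (q ^ 2 - 1) ∧ C = (q + 1) * (q ^ 2 - 1) := by
  subst hs
  have e1 : s + 3 - 1 = s + 2 := by omega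
  have e2 : s + 3 - 2 = s + 1 := by omega
  have e3 : (s + 3) ^ 2 - 1 = s ^ 2 + 6 * s + 8 := by
    have : (s + 3) ^ 2 = s ^ 2 + 6 * s + 9 := by ring
    omega
  rw [e1, e2, e3]
  have hA' : A = (s + 3) * (s + 2) := by
    apply Nat.eq_of_mul_eq_mul_right (show 0 < s + 3 + 1 by omega)
    nlinarith [hA]
  have hC' : C = (s + 3 + 1) * (s ^ 2 + 6 * s + 8) := by
    nlinarith [hC]
  have hI' : I = (s + 3) ^ 2 * (s ^ 2 + 5 * s + 7) := by
    apply Nat.eq_of_mul_eq_mul_right (show 0 < s + 3 + 1 by omega)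
    nlinarith [hI]
  refine ⟨hA', ?_, hC'⟩
  rw [hI', hA', hC'] at hP
  nlinarith [hP]

theorem result {F : Type*} [Field F] [Fintype F] {q : ℕ} (hq : Odd q)
    (hF : Fintype.card F = q ^ 2) (t : ↥(Cfsg.SU 3 F q)) (ht : t ≠ 1) (ht2 : t * t = 1) :
    Nat.card {x : ↥(Cfsg.SU 3 F q) // x ≠ 1 ∧ x * x = 1 ∧ x ≠ t ∧ Commute t x} = q * (q - 1) ∧
    Nat.card {x : ↥(Cfsg.SU 3 F q) // x ≠ 1 ∧ x * x = 1 ∧ ¬ Commute t x ∧
        ∃ y : ↥(Cfsg.SU 3 F q), y ≠ 1 ∧ y * y = 1 ∧ Commute t y ∧ Commute y x} = q * (q - 2) * (q ^ 2 - 1) ∧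
    Nat.card {x : ↥(Cfsg.SU 3 F q) // x ≠ 1 ∧ x * x = 1 ∧ ¬ Commute t x ∧
        ∀ y : ↥(Cfsg.SU 3 F q), y ≠ 1 → y * y = 1 → ¬ (Commute t y ∧ Commute y x)} = (q + 1) * (q ^ 2 - 1) ∧
    ∀ x : ↥(Cfsg.SU 3 F q), x ≠ 1 → x * x = 1 →
      ∃ y z : ↥(Cfsg.SU 3 F q), y ≠ 1 ∧ y * y = 1 ∧ z ≠ 1 ∧ z * z = 1 ∧
        Commute t y ∧ Commute y z ∧ Commute z x := by
  have h2 : (2 : F) ≠ 0 := by
    intro h
    have h3 : ringChar F = 2 := CharP.ringChar_of_prime_eq_zero Nat.prime_two (by exact_mod_cast h)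
    have h4 := FiniteField.even_card_iff_char_two.mp h3
    rw [hF] at h4
    have h5 : Odd (q ^ 2) := hq.pow
    rcases h5 with ⟨k, hk⟩
    omega
  have hq1 := Cfsg.Agent.Lib.Helper2.Herm.one_lt_q hF
  obtain ⟨W, rfl⟩ := invOf_of_inv hF h2 t ht ht2
  have hI := Cfsg.Agent.S2360.card_inv hF h2
  have hA := card_near hF h2 W
  have hC := card_far hF h2 W
  have hP := partition (invOf hF h2 W).1 ht ht2
  have eA : Nat.card {x : {x : ↥(Cfsg.SU 3 F q) // x ≠ 1 ∧ x * x = 1} //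
        x.1 ≠ (invOf hF h2 W).1 ∧ Commute (invOf hF h2 W).1 x.1} =
      Nat.card {x : ↥(Cfsg.SU 3 F q) // x ≠ 1 ∧ x * x = 1 ∧ x ≠ (invOf hF h2 W).1 ∧
        Commute (invOf hF h2 W).1 x} := by
    apply Nat.card_congr
    refine (Equiv.subtypeSubtypeEquivSubtypeInter
      (fun x : ↥(Cfsg.SU 3 F q) => x ≠ 1 ∧ x * x = 1)
      (fun x : ↥(Cfsg.SU 3 F q) => x ≠ (invOf hF h2 W).1 ∧ Commute (invOf hF h2 W).1 x)).trans
      (Equiv.subtypeEquivRight (fun x => ?_))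
    constructor
    · rintro ⟨⟨a, b⟩, c, d⟩
      exact ⟨a, b, c, d⟩
    · rintro ⟨a, b, c, d⟩
      exact ⟨⟨a, b⟩, c, d⟩
  have eC : Nat.card {x : {x : ↥(Cfsg.SU 3 F q) // x ≠ 1 ∧ x * x = 1} //
        ¬ Commute (invOf hF h2 W).1 x.1 ∧
        ∀ y : ↥(Cfsg.SU 3 F q), y ≠ 1 → y * y = 1 →
          ¬ (Commute (invOf hF h2 W).1 y ∧ Commute y x.1)} =
      Nat.card {x : ↥(Cfsg.SU 3 F q) // x ≠ 1 ∧ x * x = 1 ∧ ¬ Commute (invOf hF h2 W).1 x ∧
        ∀ y : ↥(Cfsg.SU 3 F q), y ≠ 1 → y * y = 1 →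
          ¬ (Commute (invOf hF h2 W).1 y ∧ Commute y x)} := by
    apply Nat.card_congr
    refine (Equiv.subtypeSubtypeEquivSubtypeInter
      (fun x : ↥(Cfsg.SU 3 F q) => x ≠ 1 ∧ x * x = 1)
      (fun x : ↥(Cfsg.SU 3 F q) => ¬ Commute (invOf hF h2 W).1 x ∧
        ∀ y : ↥(Cfsg.SU 3 F q), y ≠ 1 → y * y = 1 →
          ¬ (Commute (invOf hF h2 W).1 y ∧ Commute y x))).trans
      (Equiv.subtypeEquivRight (fun x => ?_))
    constructor
    · rintro ⟨⟨a, b⟩, c, d⟩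
      exact ⟨a, b, c, d⟩
    · rintro ⟨a, b, c, d⟩
      exact ⟨⟨a, b⟩, c, d⟩
  rw [eA] at hA
  rw [eC] at hC
  refine ⟨?_, ?_, ?_, ?_⟩
  rotate_left 3
  · intro x hx hx2
    obtain ⟨U, rfl⟩ := invOf_of_inv hF h2 x hx hx2
    exact exists_path hF h2 W U
  all_goals
    obtain ⟨s, hs⟩ : ∃ s, q = s + 3 := ⟨q - 3, by rcases hq with ⟨k, hk⟩; omega⟩
    have key := arith s q hs _ _ _ _ hI hA hC hP
    first
      | exact key.1
      | exact key.2.1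
      | exact key.2.2

end Cfsg.Agent.S2356
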