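import Cfsg.Statements.S2367
import Cfsg.Agent.Lib.Helper4.PrimePowList

set_option autoImplicit false
open Cfsg

namespace Cfsg.Agent.S2367


open Cfsg.Agent.Lib.Helper4

theorem of_list {G : Type*} [Group G] (N : ℕ) (hN : Nat.card G = N) (l : List (ℕ × ℕ))
    (hl : N = ppProd l) (h : ∀ x ∈ l, x.1.Prime) (hc : ppCheck l = true)
    (p : ℕ) (hodd : p ≠ 2) (h3 : (Nat.card G).factorization p = 3) :
    p ^ 3 < 2 ^ (Nat.card G).factorization 2 := by
  rw [hN, hl] at h3 ⊢
  exact ppCheck_spec l h hc p hodd h3

theorem two_pow_gt (p : ℕ) (hp : 5 ≤ p) : p ^ 3 < 2 ^ (p + 2) := by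
  induction p, hp using Nat.le_induction with
  | base => norm_num
  | succ n hn ih =>
    have : 2 ^ (n + 1 + 2) = 2 * 2 ^ (n + 2) := by ring
    rw [this]
    nlinarith [ih, hn, mul_le_mul hn hn (by norm_num) (by omega)]

theorem alt_case (n : ℕ) (hn : 5 ≤ n) (p : ℕ) (hp : p.Prime) (hodd : p ≠ 2)
    (h3 : (Nat.card (alternatingGroup (Fin n))).factorization p = 3) :
    p ^ 3 < 2 ^ (Nat.card (alternatingGroup (Fin n))).factorization 2 := by
  have : Nontrivial (Fin n) := Fin.nontrivial_iff_two_le.2 (by omega)
  have hcard : 2 * Nat.card (alternatingGroup (Fin n)) = n.factorial := by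
    rw [two_mul_nat_card_alternatingGroup, Nat.card_perm, Nat.card_eq_fintype_card, Fintype.card_fin]
  have hA0 : Nat.card (alternatingGroup (Fin n)) ≠ 0 := Nat.card_pos.ne'
  have hfac : n.factorial.factorization = Finsupp.single 2 1 + (Nat.card (alternatingGroup (Fin n))).factorization := by
    rw [← hcard, Nat.factorization_mul (by norm_num) hA0, Nat.prime_two.factorization]
  have hvp : n.factorial.factorization p = 3 := by
    rw [hfac, Finsupp.add_apply, Finsupp.single_apply, if_neg (Ne.symm hodd), zero_add, h3]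
  have hv2 : n.factorial.factorization 2 = 1 + (Nat.card (alternatingGroup (Fin n))).factorization 2 := by
    rw [hfac, Finsupp.add_apply, Finsupp.single_apply, if_pos rfl]
  -- n ≥ 3p
  have hmono : ∀ a b : ℕ, a ≤ b → ∀ q : ℕ, a.factorial.factorization q ≤ b.factorial.factorization q := by
    intro a b hab q
    exact (Nat.factorization_le_iff_dvd (Nat.factorial_ne_zero _) (Nat.factorial_ne_zero _)).2
      (Nat.factorial_dvd_factorial hab) q
  have hp2 : 2 ≤ p := hp.two_le
  have hp3 : 3 ≤ p := by omega
  have h3p : 3 * p ≤ n := by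
    by_contra hlt
    push Not at hlt
    have hlog : Nat.log p n < 2 := by
      apply Nat.log_lt_of_lt_pow (by omega)
      nlinarith
    rw [Nat.factorization_factorial hp hlog] at hvp
    have : n / p ≤ 2 := by
      rw [← Nat.lt_succ_iff, Nat.div_lt_iff_lt_mul hp.pos]
      omega
    simp at hvp
    omega
  have hpne3 : p ≠ 3 := by
    rintro rfl
    have h9 := hmono 9 n (by omega) 3
    have : (Nat.factorial 9).factorization 3 = 4 := by
      rw [Nat.factorization_factorial Nat.prime_three (b := 3) (by
        apply Nat.log_lt_of_lt_pow (by norm_num); norm_num)]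
      decide
    omega
  have hp5 : 5 ≤ p := by
    rcases Nat.lt_or_ge p 5 with h | h
    · exfalso
      interval_cases p
      · exact hpne3 rfl
      · exact absurd hp (by decide)
    · exact h
  -- lower bound on the 2-part
  have hn15 : 15 ≤ n := by omega
  have hlog2 : 3 ≤ Nat.log 2 n := by
    apply Nat.le_log_of_pow_le (by norm_num)
    omega
  have hsum : n / 2 + n / 4 + n / 8 ≤ n.factorial.factorization 2 := by
    rw [Nat.factorization_factorial Nat.prime_two (Nat.lt_succ_self _)]
    have hsub : Finset.Ico 1 4 ⊆ Finset.Ico 1 (Nat.log 2 n).succ := by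
      apply Finset.Ico_subset_Ico le_rfl
      omega
    calc n / 2 + n / 4 + n / 8 = ∑ i ∈ Finset.Ico 1 4, n / 2 ^ i := by
          simp [Finset.sum_Ico_eq_sum_range, Finset.sum_range_succ]
      _ ≤ _ := Finset.sum_le_sum_of_subset hsub
  have hk : p + 2 ≤ (Nat.card (alternatingGroup (Fin n))).factorization 2 := by omega
  calc p ^ 3 < 2 ^ (p + 2) := two_pow_gt p hp5
    _ ≤ _ := Nat.pow_le_pow_right (by norm_num) hk

/-- Let G be an alternating group of degree at least 5 or a simple group with the order of one of the 26 sporadic groups, and let p be an odd prime such that p³ is the exact power of p dividing the order of G. Then p³ is less than the 2-part of the order of G. -/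
theorem result {G : Type*} [Group G] [Finite G] (hG : Cfsg.IsAlternating G ∨ Cfsg.IsSporadic G)
    (p : ℕ) (hp : p.Prime) (hodd : p ≠ 2) (h3 : (Nat.card G).factorization p = 3) :
    p ^ 3 < 2 ^ (Nat.card G).factorization 2 := by
  rcases hG with hA | hS
  · obtain ⟨n, hn, ⟨e⟩⟩ := hA
    have hc : Nat.card G = Nat.card (alternatingGroup (Fin n)) := Nat.card_congr e.toEquiv
    rw [hc] at h3 ⊢
    exact alt_case n hn p hp hodd h3
  · unfold IsSporadic at hS
    rcases hS with h | h | h | h | h | h | h | h | h | h | h | h | h | h | h | h | h | h | h | h | h | h | h | h | h | h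
    · exact of_list 7920 h.2 [(2, 4), (3, 2), (5, 1), (11, 1)] (by decide) (by decide) (by decide) p hodd h3
    · exact of_list 95040 h.2 [(2, 6), (3, 3), (5, 1), (11, 1)] (by decide) (by decide) (by decide) p hodd h3
    · exact of_list 443520 h.2 [(2, 7), (3, 2), (5, 1), (7, 1), (11, 1)] (by decide) (by decide) (by decide) p hodd h3
    · exact of_list 10200960 h.2 [(2, 7), (3, 2), (5, 1), (7, 1), (11, 1), (23, 1)] (by decide) (by decide) (by decide) p hodd h3
    · exact of_list 244823040 h.2 [(2, 10), (3, 3), (5, 1), (7, 1), (11, 1), (23, 1)] (by decide) (by decide) (by decide) p hodd h3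
    · exact of_list 175560 h.2 [(2, 3), (3, 1), (5, 1), (7, 1), (11, 1), (19, 1)] (by decide) (by decide) (by decide) p hodd h3
    · exact of_list 604800 h.2 [(2, 7), (3, 3), (5, 2), (7, 1)] (by decide) (by decide) (by decide) p hodd h3
    · exact of_list 50232960 h.2 [(2, 7), (3, 5), (5, 1), (17, 1), (19, 1)] (by decide) (by decide) (by decide) p hodd h3
    · exact of_list 86775571046077562880 h.2 [(2, 21), (3, 3), (5, 1), (7, 1), (11, 3), (23, 1), (29, 1), (31, 1), (37, 1), (43, 1)] (by decide) (by decide) (by decide) p hodd h3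
    · exact of_list 4157776806543360000 h.2 [(2, 21), (3, 9), (5, 4), (7, 2), (11, 1), (13, 1), (23, 1)] (by decide) (by decide) (by decide) p hodd h3
    · exact of_list 42305421312000 h.2 [(2, 18), (3, 6), (5, 3), (7, 1), (11, 1), (23, 1)] (by decide) (by decide) (by decide) p hodd h3
    · exact of_list 495766656000 h.2 [(2, 10), (3, 7), (5, 3), (7, 1), (11, 1), (23, 1)] (by decide) (by decide) (by decide) p hodd h3
    · exact of_list 64561751654400 h.2 [(2, 17), (3, 9), (5, 2), (7, 1), (11, 1), (13, 1)] (by decide) (by decide) (by decide) p hodd h3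
    · exact of_list 4089470473293004800 h.2 [(2, 18), (3, 13), (5, 2), (7, 1), (11, 1), (13, 1), (17, 1), (23, 1)] (by decide) (by decide) (by decide) p hodd h3
    · exact of_list 1255205709190661721292800 h.2 [(2, 21), (3, 16), (5, 2), (7, 3), (11, 1), (13, 1), (17, 1), (23, 1), (29, 1)] (by decide) (by decide) (by decide) p hodd h3
    · exact of_list 44352000 h.2 [(2, 9), (3, 2), (5, 3), (7, 1), (11, 1)] (by decide) (by decide) (by decide) p hodd h3
    · exact of_list 898128000 h.2 [(2, 7), (3, 6), (5, 3), (7, 1), (11, 1)] (by decide) (by decide) (by decide) p hodd h3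
    · exact of_list 4030387200 h.2 [(2, 10), (3, 3), (5, 2), (7, 3), (17, 1)] (by decide) (by decide) (by decide) p hodd h3
    · exact of_list 145926144000 h.2 [(2, 14), (3, 3), (5, 3), (7, 1), (13, 1), (29, 1)] (by decide) (by decide) (by decide) p hodd h3
    · exact of_list 448345497600 h.2 [(2, 13), (3, 7), (5, 2), (7, 1), (11, 1), (13, 1)] (by decide) (by decide) (by decide) p hodd h3
    · exact of_list 460815505920 h.2 [(2, 9), (3, 4), (5, 1), (7, 3), (11, 1), (19, 1), (31, 1)] (by decide) (by decide) (by decide) p hodd h3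
    · exact of_list 273030912000000 h.2 [(2, 14), (3, 6), (5, 6), (7, 1), (11, 1), (19, 1)] (by decide) (by decide) (by decide) p hodd h3
    · exact of_list 51765179004000000 h.2 [(2, 8), (3, 7), (5, 6), (7, 1), (11, 1), (31, 1), (37, 1), (67, 1)] (by decide) (by decide) (by decide) p hodd h3
    · exact of_list 90745943887872000 h.2 [(2, 15), (3, 10), (5, 3), (7, 2), (13, 1), (19, 1), (31, 1)] (by decide) (by decide) (by decide) p hodd h3
    · exact of_list 4154781481226426191177580544000000 h.2 [(2, 41), (3, 13), (5, 6), (7, 2), (11, 1), (13, 1), (17, 1), (19, 1), (23, 1), (31, 1), (47, 1)] (by decide) (by decide) (by decide) p hodd h3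
    · exact of_list 808017424794512875886459904961710757005754368000000000 h.2 [(2, 46), (3, 20), (5, 9), (7, 6), (11, 2), (13, 3), (17, 1), (19, 1), (23, 1), (29, 1), (31, 1), (41, 1), (47, 1), (59, 1), (71, 1)] (by decide) (by decide) (by decide) p hodd h3

end Cfsg.Agent.S2367
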