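import Cfsg.Statements.S2368
import Cfsg.Agent.Lib.Helper4.Unipotent
import Cfsg.Agent.Lib.Helper4.ShiftMatrix

set_option autoImplicit false
open Cfsg

namespace Cfsg.Agent.S2368

/-- Let F be a finite field of characteristic p and m ≥ 1. Every element of GL(m, F) of p-power order has order less than p·m, and GL(m, F) has an element of p-power order at least m; so the largest order of a p-element of GL(m, F) is the least power of p that is at least m. -/
theorem result {F : Type*} [Field F] [Fintype F] (p : ℕ) [Fact p.Prime] [CharP F p] (m : ℕ) (hm : 1 ≤ m) :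
    (∀ g : Matrix.GeneralLinearGroup (Fin m) F, (∃ j : ℕ, orderOf g = p ^ j) → orderOf g < p * m) ∧
      ∃ g : Matrix.GeneralLinearGroup (Fin m) F, (∃ j : ℕ, orderOf g = p ^ j) ∧ m ≤ orderOf g := by
  classical
  have hp : p.Prime := Fact.out
  have : NeZero m := ⟨by omega⟩
  constructor
  · rintro g ⟨j, hj⟩
    have hg1 : g ^ (p ^ j) = 1 := by rw [← hj]; exact pow_orderOf_eq_one g
    have hnil : IsNilpotent ((g : Matrix (Fin m) (Fin m) F) - 1) := by
      refine ⟨p ^ j, ?_⟩
      rw [sub_pow_char_pow_of_commute (p := p) (n := j) (Commute.one_right _), one_pow,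
        ← Units.val_pow_eq_pow_val, hg1, Units.val_one, sub_self]
    obtain ⟨h1, -⟩ := Cfsg.Agent.Lib.Helper4.unipotent_order p m g hnil
    have h2 : orderOf g ≤ p ^ Nat.clog p m := Nat.le_of_dvd (pow_pos hp.pos _) h1
    refine lt_of_le_of_lt h2 ?_
    rcases Nat.lt_or_ge 1 m with hm1 | hm1
    · have h3 := Nat.pow_pred_clog_lt_self hp.one_lt hm1
      have h4 : 0 < Nat.clog p m := Nat.clog_pos hp.one_lt hm1
      have h5 : p ^ Nat.clog p m = p * p ^ (Nat.clog p m).pred := by
        rw [← pow_succ']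
        congr 1
        have := Nat.succ_pred_eq_of_pos h4
        omega
      rw [h5]
      exact Nat.mul_lt_mul_of_pos_left h3 hp.pos
    · have hm' : m = 1 := le_antisymm hm1 hm
      subst hm'
      rw [Nat.clog_one_right, pow_zero, mul_one]
      exact hp.one_lt
  · -- Jordan block
    set N : Matrix (Fin m) (Fin m) F := Cfsg.Agent.Lib.Helper4.shiftMat F m 1 with hN
    have hNm : N ^ m = 0 := by
      rw [hN, Cfsg.Agent.Lib.Helper4.shiftMat_one_pow, Cfsg.Agent.Lib.Helper4.shiftMat_self_eq_zero]
    have hnil : IsNilpotent N := ⟨m, hNm⟩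
    have hunit : IsUnit (1 + N) := hnil.isUnit_one_add
    set u : Matrix.GeneralLinearGroup (Fin m) F := hunit.unit with hu
    have hu1 : (u : Matrix (Fin m) (Fin m) F) - 1 = N := by
      rw [hu, IsUnit.unit_spec]; abel
    obtain ⟨h1, h2⟩ := Cfsg.Agent.Lib.Helper4.unipotent_order p m u (by rw [hu1]; exact hnil)
    have h3 : orderOf u = p ^ Nat.clog p m := by
      apply h2
      rw [hu1, hN, Cfsg.Agent.Lib.Helper4.shiftMat_one_pow]
      exact Cfsg.Agent.Lib.Helper4.shiftMat_pred_ne_zero F m hm
    refine ⟨u, ⟨_, h3⟩, ?_⟩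
    rw [h3]
    exact Nat.le_pow_clog hp.one_lt m

end Cfsg.Agent.S2368
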