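import Cfsg.Statements.S2391
import Cfsg.Agent.Lib.Helper4.FixedFlag

set_option autoImplicit false
open Cfsg

namespace Cfsg.Agent.S2391


open Cfsg.Agent.Lib.Helper4

/-- The natural representation of `SL_n(F)` on `F^n`. -/
noncomputable def natRep (F : Type*) [Field F] (n : ℕ) :
    Matrix.SpecialLinearGroup (Fin n) F →* Module.End F (Fin n → F) where
  toFun g := Matrix.mulVecLin (g : Matrix (Fin n) (Fin n) F)
  map_one' := by
    rw [Matrix.SpecialLinearGroup.coe_one, Matrix.mulVecLin_one]; rfl
  map_mul' g h := by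
    rw [Matrix.SpecialLinearGroup.coe_mul, Matrix.mulVecLin_mul]; rfl

theorem natRep_apply (F : Type*) [Field F] (n : ℕ) (g : Matrix.SpecialLinearGroup (Fin n) F) :
    natRep F n g = Matrix.mulVecLin (g : Matrix (Fin n) (Fin n) F) := rfl

/-- The Borel–Tits property of `SL_n(q)` in flag form: for a field `F` of characteristic `p` with finitely many elements and a non-trivial `p`-subgroup `U` of `SL_n(F)`, there is a flag `0 = V₀ < V₁ < ⋯ < V_{k+1} = F^n` with at least one proper non-zero member such that every element of the normaliser of `U` maps each `V_i` onto itself and every element of `U` acts trivially on each quotient `V_{i+1}/V_i` (so the normaliser lies in the parabolic subgroup of the flag and `U` in its unipotent radical). -/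
theorem result {F : Type*} [Field F] [Fintype F] (p : ℕ) [Fact p.Prime] [CharP F p] (n : ℕ)
    (U : Subgroup (Matrix.SpecialLinearGroup (Fin n) F)) (hU : IsPGroup p ↥U) (hne : U ≠ ⊥) :
    ∃ (k : ℕ) (V : Fin (k + 2) → Submodule F (Fin n → F)), 1 ≤ k ∧ StrictMono V ∧ V 0 = ⊥ ∧ V (Fin.last (k + 1)) = ⊤ ∧
      (∀ g ∈ Subgroup.normalizer (U : Set (Matrix.SpecialLinearGroup (Fin n) F)), ∀ i, (V i).map (Matrix.mulVecLin (g : Matrix (Fin n) (Fin n) F)) = V i) ∧
      (∀ u ∈ U, ∀ i : Fin (k + 1), ∀ v ∈ V i.succ, (u : Matrix (Fin n) (Fin n) F).mulVec v - v ∈ V (Fin.castSucc i)) := by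
  classical
  have hfaith : ∃ u ∈ U, natRep F n u ≠ 1 := by
    by_contra hcon
    push Not at hcon
    apply hne
    rw [Subgroup.eq_bot_iff_forall]
    intro u hu
    have h1 := hcon u hu
    rw [natRep_apply] at h1
    apply Subtype.ext
    have h2 : Matrix.mulVecLin (u : Matrix (Fin n) (Fin n) F) = Matrix.mulVecLin (1 : Matrix (Fin n) (Fin n) F) := by
      rw [h1, Matrix.mulVecLin_one]; rfl
    have h3 : (u : Matrix (Fin n) (Fin n) F) = 1 := by
      rw [← Matrix.toLin'_apply', ← Matrix.toLin'_apply'] at h2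
      exact Matrix.toLin'.injective h2
    rw [h3]; rfl
  obtain ⟨k, W, hk, hmono, h0, hlast, hnorm, hU'⟩ := exists_flag p (natRep F n) U hU hfaith
  refine ⟨k, W, hk, hmono, h0, hlast, ?_, ?_⟩
  · intro g hg i
    have := hnorm g hg i
    rwa [natRep_apply] at this
  · intro u hu i v hv
    have := hU' u hu i v hv
    rwa [natRep_apply, Matrix.mulVecLin_apply] at this

end Cfsg.Agent.S2391
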