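import Cfsg.Statements.S2403
import Cfsg.Agent.Lib.Helper1.SLn

set_option autoImplicit false
open Cfsg

namespace Cfsg.Agent.S2403


open Matrix Matrix.SpecialLinearGroup Cfsg.Agent.Lib.Helper1
open scoped commutatorElement

section
variable {K : Type*} [Field K] {n : ℕ}

/-- the sign of the wrap-around entry -/
def eps (n : ℕ) (K : Type*) [Field K] (i : Fin (n + 1)) : K := if i = 0 then (-1) ^ n else 1

theorem eps_sq (i : Fin (n + 1)) : eps n K i * eps n K i = 1 := by
  unfold eps
  split_ifs
  · rw [← mul_pow, neg_mul_neg, one_mul, one_pow]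
  · rw [one_mul]

theorem W_apply (hn : 1 ≤ n) (k i : Fin (n + 1)) :
    (Matrix.of (fun i j : Fin (n + 1) => if j.val = i.val + 1 then (1 : K)
      else if i.val = n ∧ j.val = 0 then (-1) ^ n else 0)) k i =
    if k + 1 = i then eps n K i else 0 := by
  rw [Matrix.of_apply]
  unfold eps
  have hk := k.isLt
  have hi := i.isLt
  have hval : (k + 1 : Fin (n + 1)).val = if k.val = n then 0 else k.val + 1 := by
    rw [Fin.val_add_one]
    by_cases hkl : k = Fin.last n
    · rw [if_pos hkl, if_pos (by rw [hkl]; rfl)]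
    · rw [if_neg hkl, if_neg (fun h => hkl (Fin.ext (by rw [h]; rfl)))]
  have hiff : k + 1 = i ↔ (if k.val = n then 0 else k.val + 1) = i.val := by
    rw [← hval]; exact Fin.ext_iff
  have hi0 : i = 0 ↔ i.val = 0 := by rw [Fin.ext_iff]; rfl
  by_cases h1 : i.val = k.val + 1
  · have hkn : k.val ≠ n := by omega
    rw [if_pos h1, if_pos (hiff.2 (by rw [if_neg hkn]; exact h1.symm)),
      if_neg (fun h => by rw [hi0] at h; omega)]
  · rw [if_neg h1]
    by_cases h2 : k.val = n ∧ i.val = 0
    · rw [if_pos h2, if_pos (hiff.2 (by rw [if_pos h2.1]; exact h2.2.symm)), if_pos (hi0.2 h2.2)]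
    · rw [if_neg h2, if_neg]
      intro h
      rw [hiff] at h
      by_cases hkn : k.val = n
      · rw [if_pos hkn] at h; exact h2 ⟨hkn, h.symm⟩
      · rw [if_neg hkn] at h; exact h1 h.symm

theorem W_mul_single (W : Matrix (Fin (n + 1)) (Fin (n + 1)) K)
    (hW : ∀ k i, W k i = if k + 1 = i then eps n K i else 0) (i j : Fin (n + 1)) (c : K) :
    W * Matrix.single (i + 1) (j + 1) c =
      Matrix.single i j (c * eps n K (i + 1) * eps n K (j + 1)) * W := by
  ext k l
  by_cases hl : l = j + 1
  · subst hl
    rw [Matrix.mul_single_apply_same]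
    by_cases hk : k = i
    · subst hk
      rw [Matrix.single_mul_apply_same, hW, hW, if_pos rfl, if_pos rfl, mul_assoc (c * _), eps_sq,
        mul_one, mul_comm]
    · rw [Matrix.single_mul_apply_of_ne _ _ _ _ _ hk, hW,
        if_neg (fun h => hk (add_right_cancel h)), zero_mul]
  · rw [Matrix.mul_single_apply_of_ne _ _ _ _ _ hl]
    by_cases hk : k = i
    · subst hk
      rw [Matrix.single_mul_apply_same, hW, if_neg (fun h => hl h.symm), mul_zero]
    · rw [Matrix.single_mul_apply_of_ne _ _ _ _ _ hk]

theorem conj_w (w : SpecialLinearGroup (Fin (n + 1)) K)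
    (hW : ∀ k i, (w : Matrix (Fin (n + 1)) (Fin (n + 1)) K) k i =
      if k + 1 = i then eps n K i else 0)
    (i j : Fin (n + 1)) (hij : i ≠ j) (hij' : i + 1 ≠ j + 1) (c : K) :
    w * transvection hij' c =
      transvection hij (c * eps n K (i + 1) * eps n K (j + 1)) * w := by
  apply Subtype.ext
  show (w : Matrix (Fin (n + 1)) (Fin (n + 1)) K) * (1 + Matrix.single (i + 1) (j + 1) c) =
    (1 + Matrix.single i j (c * eps n K (i + 1) * eps n K (j + 1))) *
      (w : Matrix (Fin (n + 1)) (Fin (n + 1)) K)
  rw [Matrix.mul_add, Matrix.add_mul, Matrix.mul_one, Matrix.one_mul, W_mul_single _ hW]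

/-- all transvections in position `(i, j)` lie in `H` -/
def Q (H : Subgroup (SpecialLinearGroup (Fin (n + 1)) K)) (i j : Fin (n + 1)) : Prop :=
  ∀ (hij : i ≠ j) (c : K), transvection hij c ∈ H

theorem shift_up (H : Subgroup (SpecialLinearGroup (Fin (n + 1)) K))
    (w : SpecialLinearGroup (Fin (n + 1)) K) (hw : w ∈ H)
    (hW : ∀ k i, (w : Matrix (Fin (n + 1)) (Fin (n + 1)) K) k i =
      if k + 1 = i then eps n K i else 0)
    (i j : Fin (n + 1)) (h : Q H i j) : Q H (i + 1) (j + 1) := by
  intro hij' c
  have hij : i ≠ j := fun e => hij' (by rw [e])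
  have h1 := conj_w w hW i j hij hij' c
  have h2 : transvection hij' c =
      w⁻¹ * (transvection hij (c * eps n K (i + 1) * eps n K (j + 1)) * w) := by
    rw [← h1, inv_mul_cancel_left]
  rw [h2]
  exact H.mul_mem (H.inv_mem hw) (H.mul_mem (h hij _) hw)

theorem all_adjacent (H : Subgroup (SpecialLinearGroup (Fin (n + 1)) K))
    (w : SpecialLinearGroup (Fin (n + 1)) K) (hw : w ∈ H)
    (hW : ∀ k i, (w : Matrix (Fin (n + 1)) (Fin (n + 1)) K) k i =
      if k + 1 = i then eps n K i else 0)
    (h01 : Q H 0 1) : ∀ a : Fin (n + 1), Q H a (a + 1) := by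
  intro a
  induction a using Fin.induction with
  | zero => rw [zero_add]; exact h01
  | succ i ih =>
    rw [← Fin.coeSucc_eq_succ]
    exact shift_up H w hw hW _ _ ih

theorem Q_trans (H : Subgroup (SpecialLinearGroup (Fin (n + 1)) K)) (i k j : Fin (n + 1))
    (hik : i ≠ k) (hkj : k ≠ j) (h1 : Q H i k) (h2 : Q H k j) : Q H i j := by
  intro hij c
  rw [← commutator_transvection hik hkj hij c, commutatorElement_def]
  exact H.mul_mem (H.mul_mem (H.mul_mem (h1 hik c) (h2 hkj 1)) (H.inv_mem (h1 hik c)))
    (H.inv_mem (h2 hkj 1))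

theorem all_dist (hn : 1 ≤ n) (H : Subgroup (SpecialLinearGroup (Fin (n + 1)) K))
    (hadj : ∀ a : Fin (n + 1), Q H a (a + 1)) : ∀ d a : Fin (n + 1), Q H a (a + d) := by
  intro d
  induction d using Fin.induction with
  | zero =>
    intro a hij
    exact absurd (add_zero a).symm hij
  | succ i ih =>
    intro a
    rw [← Fin.coeSucc_eq_succ, ← add_assoc]
    by_cases hd : a + i.castSucc = a
    · rw [hd]; exact hadj a
    · have h1 : a + i.castSucc ≠ a + i.castSucc + 1 := by
        intro h
        have h2 : (1 : Fin (n + 1)) = 0 := add_eq_left.mp h.symm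
        rw [Fin.one_eq_zero_iff] at h2
        omega
      intro hij c
      exact Q_trans H a (a + i.castSucc) _ (Ne.symm hd) h1 (ih a) (hadj _) hij c

theorem gen_top [Fintype K] (hK : Fintype.card K ≤ 3) (hn : 1 ≤ n)
    (x w : SpecialLinearGroup (Fin (n + 1)) K)
    (hx : (x : Matrix (Fin (n + 1)) (Fin (n + 1)) K) =
      Matrix.transvection (0 : Fin (n + 1)) (1 : Fin (n + 1)) 1)
    (hw : (w : Matrix (Fin (n + 1)) (Fin (n + 1)) K) =
      Matrix.of (fun i j => if j.val = i.val + 1 then 1
        else if i.val = n ∧ j.val = 0 then (-1) ^ n else 0)) :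
    Subgroup.closure ({x, w} : Set (SpecialLinearGroup (Fin (n + 1)) K)) = ⊤ := by
  obtain ⟨H, hH⟩ : ∃ H, H = Subgroup.closure ({x, w} : Set (SpecialLinearGroup (Fin (n + 1)) K)) :=
    ⟨_, rfl⟩
  rw [← hH]
  have hxH : x ∈ H := by rw [hH]; exact Subgroup.subset_closure (by simp)
  have hwH : w ∈ H := by rw [hH]; exact Subgroup.subset_closure (by simp)
  have hW : ∀ k i, (w : Matrix (Fin (n + 1)) (Fin (n + 1)) K) k i =
      if k + 1 = i then eps n K i else 0 := by
    intro k i
    rw [hw]
    exact W_apply hn k i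
  have h01 : (0 : Fin (n + 1)) ≠ 1 := by
    intro h
    have := Fin.one_eq_zero_iff.1 h.symm
    omega
  have hx' : x = transvection h01 1 := Subtype.ext (by rw [hx]; rfl)
  have hQ01 : Q H 0 1 := by
    intro h01' c
    let A : AddSubgroup K :=
      { carrier := {c | transvection h01 c ∈ H}
        zero_mem' := by
          show transvection h01 0 ∈ H
          rw [transvection_coeff_zero]
          exact H.one_mem
        add_mem' := by
          intro a b ha hb
          show transvection h01 (a + b) ∈ H
          rw [transvection_add]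
          exact H.mul_mem ha hb
        neg_mem' := by
          intro a ha
          show transvection h01 (-a) ∈ H
          rw [← transvection_inv]
          exact H.inv_mem ha }
    have h1A : (1 : K) ∈ A := by
      show transvection h01 1 ∈ H
      rw [← hx']
      exact hxH
    have hdvd : Nat.card A ∣ Nat.card K := AddSubgroup.card_addSubgroup_dvd_card A
    have h2 : 1 < Nat.card A :=
      Finite.one_lt_card_iff_nontrivial.mpr
        ⟨⟨0, A.zero_mem⟩, ⟨1, h1A⟩, fun h => zero_ne_one (congrArg Subtype.val h)⟩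
    have hN : Nat.card K ≤ 3 := by rw [Nat.card_eq_fintype_card]; exact hK
    have hpos : 0 < Nat.card K := Nat.card_pos
    have hcard : Nat.card A = Nat.card K := by
      obtain ⟨e, he⟩ := hdvd
      have he1 : e = 1 := by
        rcases Nat.lt_or_ge e 2 with h | h
        · interval_cases e
          · rw [mul_zero] at he; omega
          · rfl
        · nlinarith
      rw [he, he1, mul_one]
    have hAtop : A = ⊤ := AddSubgroup.eq_top_of_card_eq A hcard
    have hc : c ∈ A := by rw [hAtop]; exact AddSubgroup.mem_top c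
    exact hc
  have hadj := all_adjacent H w hwH hW hQ01
  have hall := all_dist hn H hadj
  haveI : Nontrivial (Fin (n + 1)) := Fin.nontrivial_iff_two_le.2 (by omega)
  rw [eq_top_iff]
  intro M _
  refine transvection_induction (fun M => M ∈ H) ?_ (fun _ _ => H.mul_mem) M
  intro i j hij a
  have h3 := hall (j - i) i
  rw [add_sub_cancel] at h3
  exact h3 hij a

end
/-- Explicit two-element generation of `PSL_{n+1}(K)` over the fields with two or three elements: with `x = 1 + E₁₂` and `w` the monomial matrix with entries `1` in positions `(i, i+1)` and `(−1)^n` in position `(n+1, 1)`, the elements `x` and `w` generate `SL_{n+1}(K)` modulo its centre. -/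
theorem result {K : Type*} [Field K] [Fintype K] (hK : Fintype.card K ≤ 3) (n : ℕ) (hn : 1 ≤ n)
    (x w : Matrix.SpecialLinearGroup (Fin (n + 1)) K)
    (hx : (x : Matrix (Fin (n + 1)) (Fin (n + 1)) K) = Matrix.transvection (0 : Fin (n + 1)) (1 : Fin (n + 1)) 1)
    (hw : (w : Matrix (Fin (n + 1)) (Fin (n + 1)) K) =
      Matrix.of (fun i j => if j.val = i.val + 1 then 1 else if i.val = n ∧ j.val = 0 then (-1) ^ n else 0)) :
    Subgroup.closure ({x, w} : Set (Matrix.SpecialLinearGroup (Fin (n + 1)) K)) ⊔
      Subgroup.center (Matrix.SpecialLinearGroup (Fin (n + 1)) K) = ⊤ := by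
  rw [gen_top hK hn x w hx hw]
  exact top_sup_eq _

end Cfsg.Agent.S2403
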