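import Cfsg.Statements.S2437
import Mathlib

set_option autoImplicit false
open Cfsg

namespace Cfsg.Agent.S2437

open Matrix
open scoped Classical

abbrev SLB (F : Type*) [Field F] : Subgroup (Matrix.SpecialLinearGroup (Fin 2) F) :=
  (Cfsg.upperTriangularGL 2 F).comap Matrix.SpecialLinearGroup.toGL

section
variable {F : Type*} [Field F]

theorem mem_SLB (g : Matrix.SpecialLinearGroup (Fin 2) F) : g ∈ SLB F ↔ g.1 1 0 = 0 := by
  show (g.1).BlockTriangular id ↔ _
  constructor
  · intro h; exact h (show id (0 : Fin 2) < id 1 by decide)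
  · intro h i j hij
    fin_cases i <;> fin_cases j <;> simp_all

theorem diag_mul (g : Matrix.SpecialLinearGroup (Fin 2) F) (h : g.1 1 0 = 0) :
    g.1 0 0 * g.1 1 1 = 1 := by
  have := g.2
  rw [Matrix.det_fin_two, h, mul_zero, sub_zero] at this
  exact this

theorem SLB_ext (x y : SLB F) (h0 : x.1.1 0 0 = y.1.1 0 0) (h1 : x.1.1 0 1 = y.1.1 0 1) : x = y := by
  have hx10 := (mem_SLB x.1).1 x.2
  have hy10 := (mem_SLB y.1).1 y.2
  have hx := diag_mul x.1 hx10
  have hy := diag_mul y.1 hy10
  have hx11 : x.1.1 1 1 = (x.1.1 0 0)⁻¹ := eq_inv_of_mul_eq_one_right hx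
  have hy11 : y.1.1 1 1 = (y.1.1 0 0)⁻¹ := eq_inv_of_mul_eq_one_right hy
  apply Subtype.ext
  apply Matrix.SpecialLinearGroup.ext
  intro i j
  fin_cases i <;> fin_cases j
  · exact h0
  · exact h1
  · exact hx10.trans hy10.symm
  · exact hx11.trans ((congrArg (·⁻¹) h0).trans hy11.symm)

theorem mul_entry (x y : SLB F) (i j : Fin 2) :
    (x * y).1.1 i j = x.1.1 i 0 * y.1.1 0 j + x.1.1 i 1 * y.1.1 1 j := by
  show (x.1.1 * y.1.1) i j = _
  rw [Matrix.mul_apply, Fin.sum_univ_two]

noncomputable def toPair (x : SLB F) : Fˣ × F :=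
  (Units.mk0 (x.1.1 0 0)
    (left_ne_zero_of_mul_eq_one (diag_mul x.1 ((mem_SLB x.1).1 x.2))), x.1.1 0 1)

noncomputable def ofPair (p : Fˣ × F) : SLB F :=
  ⟨⟨!![(p.1 : F), p.2; 0, ((p.1 : F))⁻¹], by
    rw [Matrix.det_fin_two_of, mul_zero, sub_zero, mul_inv_cancel₀ (Units.ne_zero _)]⟩,
    (mem_SLB _).2 (by simp)⟩

noncomputable def eB : SLB F ≃ Fˣ × F where
  toFun := toPair
  invFun := ofPair
  left_inv x := SLB_ext _ _ (by simp [toPair, ofPair]) (by simp [toPair, ofPair])
  right_inv p := by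
    apply Prod.ext
    · apply Units.ext; simp [toPair, ofPair]
    · simp [toPair, ofPair]

def alpha (a : Fˣ) : F := (a : F) - (a : F)⁻¹

def condP (p q : Fˣ × F) : Prop := q.2 * alpha p.1 = p.2 * alpha q.1

theorem commute_iff (x y : SLB F) : Commute x y ↔ condP (toPair x) (toPair y) := by
  have hx10 := (mem_SLB x.1).1 x.2
  have hy10 := (mem_SLB y.1).1 y.2
  have hx := diag_mul x.1 hx10
  have hy := diag_mul y.1 hy10
  have hx11 : x.1.1 1 1 = (x.1.1 0 0)⁻¹ := eq_inv_of_mul_eq_one_right hx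
  have hy11 : y.1.1 1 1 = (y.1.1 0 0)⁻¹ := eq_inv_of_mul_eq_one_right hy
  have key : Commute x y ↔ x.1.1 0 0 * y.1.1 0 1 + x.1.1 0 1 * y.1.1 1 1
      = y.1.1 0 0 * x.1.1 0 1 + y.1.1 0 1 * x.1.1 1 1 := by
    constructor
    · intro h
      have h1 := congrArg (fun z : SLB F => z.1.1 0 1) h.eq
      simp only [mul_entry] at h1
      exact h1
    · intro h
      show x * y = y * x
      apply SLB_ext
      · rw [mul_entry, mul_entry, hx10, hy10]; ring
      · rw [mul_entry, mul_entry]; exact h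
  rw [key, hx11, hy11]
  unfold condP alpha toPair
  simp only [Units.val_mk0]
  constructor
  · intro h; linear_combination h
  · intro h; linear_combination h

noncomputable def ePairs : {p : SLB F × SLB F // Commute p.1 p.2} ≃
    {q : (Fˣ × F) × (Fˣ × F) // condP q.1 q.2} :=
  Equiv.subtypeEquiv (Equiv.prodCongr eB eB) (fun p => commute_iff p.1 p.2)

def eSigma : {q : (Fˣ × F) × (Fˣ × F) // condP q.1 q.2} ≃
    Σ ac : Fˣ × Fˣ, {bd : F × F // bd.2 * alpha ac.1 = bd.1 * alpha ac.2} where
  toFun q := ⟨(q.1.1.1, q.1.2.1), ⟨(q.1.1.2, q.1.2.2), q.2⟩⟩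
  invFun s := ⟨((s.1.1, s.2.1.1), (s.1.2, s.2.1.2)), s.2.2⟩
  left_inv q := by rcases q with ⟨⟨⟨a, b⟩, ⟨c, d⟩⟩, h⟩; rfl
  right_inv s := by rcases s with ⟨⟨a, c⟩, ⟨⟨b, d⟩, h⟩⟩; rfl

end

section
variable {F : Type*} [Field F] [Fintype F]

theorem fiber_card (α γ : F) : Nat.card {bd : F × F // bd.2 * α = bd.1 * γ} =
    if α = 0 ∧ γ = 0 then Fintype.card F * Fintype.card F else Fintype.card F := by
  by_cases hα : α = 0
  · by_cases hγ : γ = 0
    · rw [if_pos ⟨hα, hγ⟩]
      subst hα; subst hγ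
      have : Nat.card {bd : F × F // bd.2 * (0:F) = bd.1 * 0} = Nat.card (F × F) :=
        Nat.card_congr (Equiv.subtypeUnivEquiv (fun bd => by simp))
      rw [this, Nat.card_prod, Nat.card_eq_fintype_card]
    · rw [if_neg (fun h => hγ h.2)]
      subst hα
      rw [← Nat.card_eq_fintype_card (α := F)]
      apply Nat.card_congr
      refine ⟨fun x => x.1.2, fun d => ⟨(0, d), by simp⟩, ?_, ?_⟩
      · rintro ⟨⟨b, d⟩, h⟩
        have hb : b = 0 := by
          simp only [mul_zero] at h
          rcases mul_eq_zero.1 h.symm with h | h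
          · exact h
          · exact absurd h hγ
        subst hb; rfl
      · intro d; rfl
  · rw [if_neg (fun h => hα h.1)]
    rw [← Nat.card_eq_fintype_card (α := F)]
    apply Nat.card_congr
    refine ⟨fun x => x.1.1, fun b => ⟨(b, b * γ / α), by field_simp⟩, ?_, ?_⟩
    · rintro ⟨⟨b, d⟩, h⟩
      have hd : d = b * γ / α := eq_div_of_mul_eq hα h
      subst hd; rfl
    · intro b; rfl

theorem card_alpha_zero (hodd : Odd (Fintype.card F)) :
    (Finset.univ.filter (fun a : Fˣ => alpha a = 0)).card = 2 := by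
  have h2 : (2 : F) ≠ 0 := by
    apply Ring.two_ne_zero
    intro h
    have := (FiniteField.even_card_iff_char_two (F := F)).1 h
    rcases hodd with ⟨k, hk⟩
    omega
  have h1 : (1 : Fˣ) ≠ -1 := by
    intro h
    have h' : (1 : F) = -1 := by
      have := congrArg (fun u : Fˣ => (u : F)) h
      simpa using this
    apply h2
    linear_combination h'
  have hset : Finset.univ.filter (fun a : Fˣ => alpha a = 0) = {1, -1} := by
    ext a
    simp only [Finset.mem_filter, Finset.mem_univ, true_and, Finset.mem_insert,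
      Finset.mem_singleton]
    unfold alpha
    constructor
    · intro h
      have ha : (a : F) ≠ 0 := Units.ne_zero a
      have h3 : (a : F) * a = 1 := by
        have : (a : F) = (a : F)⁻¹ := sub_eq_zero.1 h
        calc (a : F) * a = (a : F) * (a : F)⁻¹ := by rw [← this]
          _ = 1 := mul_inv_cancel₀ ha
      rcases mul_self_eq_one_iff.1 h3 with h4 | h4
      · left; exact Units.ext h4
      · right; exact Units.ext (by simpa using h4)
    · rintro (rfl | rfl) <;> simp
  rw [hset, Finset.card_pair h1]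

theorem main2437 {F : Type*} [Field F] [Fintype F] (hodd : Odd (Fintype.card F)) :
    Nat.card (ConjClasses ((Cfsg.upperTriangularGL 2 F).comap Matrix.SpecialLinearGroup.toGL)) = Fintype.card F + 3 := by
  have hcomm := card_comm_eq_card_conjClasses_mul_card (SLB F)
  have hB : Nat.card (SLB F) = Nat.card Fˣ * Fintype.card F := by
    rw [Nat.card_congr eB, Nat.card_prod, Nat.card_eq_fintype_card (α := F)]
  have hpairs : Nat.card {p : SLB F × SLB F // Commute p.1 p.2} =
      ∑ ac : Fˣ × Fˣ, (if alpha ac.1 = 0 ∧ alpha ac.2 = 0 then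
        Fintype.card F * Fintype.card F else Fintype.card F) := by
    rw [Nat.card_congr (ePairs.trans eSigma), Nat.card_sigma]
    apply Finset.sum_congr rfl
    intro ac _
    exact fiber_card _ _
  have h4 : (Finset.univ.filter
      (fun ac : Fˣ × Fˣ => alpha ac.1 = 0 ∧ alpha ac.2 = 0)).card = 4 := by
    rw [← Finset.univ_product_univ, Finset.filter_product (fun a : Fˣ => alpha a = 0) (fun c : Fˣ => alpha c = 0), Finset.card_product,
      card_alpha_zero hodd]
  have hn := Finset.card_filter_add_card_filter_not (s := (Finset.univ : Finset (Fˣ × Fˣ)))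
    (fun ac : Fˣ × Fˣ => alpha ac.1 = 0 ∧ alpha ac.2 = 0)
  rw [h4, Finset.card_univ, Fintype.card_prod, ← Nat.card_eq_fintype_card (α := Fˣ),
    Nat.card_units, Nat.card_eq_fintype_card (α := F)] at hn
  rw [Finset.sum_ite, Finset.sum_const, Finset.sum_const, smul_eq_mul, smul_eq_mul, h4] at hpairs
  rw [hpairs, hB, Nat.card_units, Nat.card_eq_fintype_card (α := F)] at hcomm
  have hq2 : 2 ≤ Fintype.card F := Fintype.one_lt_card
  obtain ⟨m, hm⟩ : ∃ m, Fintype.card F = m + 3 := by
    rcases hodd with ⟨k, hk⟩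
    exact ⟨Fintype.card F - 3, by omega⟩
  rw [hm] at hcomm hn ⊢
  have e1 : m + 3 - 1 = m + 2 := by omega
  rw [e1] at hcomm hn
  set c := (Finset.univ.filter
      (fun ac : Fˣ × Fˣ => ¬ (alpha ac.1 = 0 ∧ alpha ac.2 = 0))).card with hc
  have hc' : c = m * m + 4 * m := by nlinarith
  rw [hc'] at hcomm
  have hfin : Nat.card (ConjClasses (SLB F)) * ((m + 2) * (m + 3)) = (m + 6) * ((m + 2) * (m + 3)) := by
    rw [← hcomm]; ring
  have := Nat.eq_of_mul_eq_mul_right (by positivity) hfin
  rw [this]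

end


/-- Over a finite field F with q elements, q odd, the upper triangular subgroup of SL₂ (a Borel subgroup, of order q(q − 1)) has exactly q + 3 conjugacy classes. -/
theorem result {F : Type*} [Field F] [Fintype F] (hodd : Odd (Fintype.card F)) :
    Nat.card (ConjClasses ((Cfsg.upperTriangularGL 2 F).comap Matrix.SpecialLinearGroup.toGL)) = Fintype.card F + 3 := by
  exact main2437 hodd

end Cfsg.Agent.S2437
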