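import Cfsg.Statements.S2450
import Mathlib
import Cfsg.Agent.Lib.Helper2.SL2Cover


set_option autoImplicit false
open Cfsg

namespace Cfsg.Agent.S2450


set_option linter.style.haveILetI false
set_option linter.unusedSectionVars false
set_option linter.unusedVariables false

open Cfsg.Agent.S2507 (e00 e01 e10 e11)
open Cfsg.Agent.S2508 (pr pr_surj pr_eq_iff exists_avoid)
open Cfsg.Agent.S2475 (ext2)
open Cfsg.Agent.Lib.Helper2.SL2Unip Cfsg.Agent.Lib.Helper2.SL2Tori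
  Cfsg.Agent.Lib.Helper2.SL2Orders Cfsg.Agent.Lib.Helper2.SL2Cover

section
variable {F : Type*} [Field F]

theorem conj_val (s c : F) (hc : c ≠ 0) (τ : F) :
    ((uu s * Mn c hc τ * (uu s)⁻¹ : Matrix.SpecialLinearGroup (Fin 2) F) :
      Matrix (Fin 2) (Fin 2) F) =
      !![s * c, -(s ^ 2 * c) - c⁻¹ + s * τ; c, τ - s * c] := by
  rw [uu_inv, Matrix.SpecialLinearGroup.coe_mul, Matrix.SpecialLinearGroup.coe_mul, uu_val, uu_val,
    Mn_val, Matrix.mul_fin_two, Matrix.mul_fin_two]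
  apply ext2
  · rw [e00, e00]; ring
  · rw [e01, e01]; ring
  · rw [e10, e10]; ring
  · rw [e11, e11]; ring

theorem tr_W (s ca cb : F) (ha : ca ≠ 0) (hb : cb ≠ 0) (τa τb : F) :
    tr2 (Mn ca ha τa * (uu s * Mn cb hb τb * (uu s)⁻¹)) =
      -(ca * cb) * s ^ 2 + (ca * τb - τa * cb) * s + (τa * τb - cb * ca⁻¹ - ca * cb⁻¹) := by
  have h00 := entry_mul (Mn ca ha τa) (uu s * Mn cb hb τb * (uu s)⁻¹) 0 0
  have h11 := entry_mul (Mn ca ha τa) (uu s * Mn cb hb τb * (uu s)⁻¹) 1 1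
  rw [tr2, h00, h11, conj_val, Mn_val]
  simp only [e00, e01, e10, e11]
  ring

end

open Cfsg.Agent.S2507 (e00 e01 e10 e11) in
/-- The Arad–Herzog conjecture for PSL(2,q): let F be a finite field with q ≥ 4 elements. For any two non-identity elements a, b of PSL(2,F), the set of products of a conjugate of a with a conjugate of b is not a single conjugacy class. -/
theorem result {F : Type*} [Field F] [Fintype F] (h4 : 4 ≤ Fintype.card F)
    (a b : Matrix.ProjectiveSpecialLinearGroup (Fin 2) F) (ha : a ≠ 1) (hb : b ≠ 1) (c : Matrix.ProjectiveSpecialLinearGroup (Fin 2) F) :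
    {g : Matrix.ProjectiveSpecialLinearGroup (Fin 2) F | ∃ u v : Matrix.ProjectiveSpecialLinearGroup (Fin 2) F, g = (u * a * u⁻¹) * (v * b * v⁻¹)} ≠ {g | IsConj c g} := by
  classical
  intro heq
  obtain ⟨a₀, rfl⟩ := pr_surj a
  obtain ⟨b₀, rfl⟩ := pr_surj b
  obtain ⟨c₀, rfl⟩ := pr_surj c
  have hzz : pr (zz : Matrix.SpecialLinearGroup (Fin 2) F) = 1 := (pr_eq_one_iff zz).2 (Or.inr rfl)
  have ha1 : a₀ ≠ 1 := by
    rintro rfl
    exact ha (map_one _)
  have haz : a₀ ≠ zz := by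
    rintro rfl
    exact ha hzz
  have hb1 : b₀ ≠ 1 := by
    rintro rfl
    exact hb (map_one _)
  have hbz : b₀ ≠ zz := by
    rintro rfl
    exact hb hzz
  obtain ⟨Pa, ca, hca, hPa⟩ := exists_normal a₀ ha1 haz
  obtain ⟨Pb, cb, hcb, hPb⟩ := exists_normal b₀ hb1 hbz
  obtain ⟨θ, hθ⟩ : ∃ θ, θ = tr2 c₀ := ⟨_, rfl⟩
  obtain ⟨A₂, hA₂⟩ : ∃ A₂ : F, A₂ = -(ca * cb) := ⟨_, rfl⟩
  obtain ⟨B₁, hB₁⟩ : ∃ B₁ : F, B₁ = ca * tr2 b₀ - tr2 a₀ * cb := ⟨_, rfl⟩
  obtain ⟨C₀, hC₀⟩ : ∃ C₀ : F, C₀ = tr2 a₀ * tr2 b₀ - cb * ca⁻¹ - ca * cb⁻¹ := ⟨_, rfl⟩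
  have hA₂0 : A₂ ≠ 0 := by
    rw [hA₂]
    exact neg_ne_zero.2 (mul_ne_zero hca hcb)
  -- every value of the quadratic is `θ` or `-θ`
  have key : ∀ s : F, A₂ * s ^ 2 + B₁ * s + C₀ = θ ∨ A₂ * s ^ 2 + B₁ * s + C₀ = -θ := by
    intro s
    have hmem : pr (Mn ca hca (tr2 a₀) * (uu s * Mn cb hcb (tr2 b₀) * (uu s)⁻¹)) ∈
        {g : Matrix.ProjectiveSpecialLinearGroup (Fin 2) F | ∃ u v :
          Matrix.ProjectiveSpecialLinearGroup (Fin 2) F,
          g = (u * pr a₀ * u⁻¹) * (v * pr b₀ * v⁻¹)} := by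
      refine ⟨pr Pa⁻¹, pr (uu s * Pb⁻¹), ?_⟩
      rw [← map_inv, ← map_inv, ← map_mul, ← map_mul, ← map_mul, ← map_mul, ← map_mul, ← hPa, ← hPb]
      congr 1
      group
    rw [heq] at hmem
    obtain ⟨k, hk⟩ := isConj_iff.1 hmem
    obtain ⟨k₀, rfl⟩ := pr_surj k
    rw [← map_inv, ← map_mul, ← map_mul, pr_eq_iff] at hk
    have htr := tr_W s ca cb hca hcb (tr2 a₀) (tr2 b₀)
    rw [← hA₂, ← hB₁, ← hC₀] at htr
    rw [← htr]
    rcases hk with hk | hk
    · left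
      rw [hθ, ← tr2_conj k₀ c₀]
      congr 1
      exact (inv_mul_eq_one.1 hk).symm
    · right
      rw [hθ, ← tr2_conj k₀ c₀, ← tr2_zz_mul]
      congr 1
      rw [inv_mul_eq_iff_eq_mul] at hk
      rw [hk, zz_comm]
  by_cases h2 : (2 : F) = 0
  · -- characteristic two
    have hθθ : -θ = θ := by linear_combination (-θ) * h2
    have key' : ∀ s : F, A₂ * s ^ 2 + B₁ * s + C₀ = θ := by
      intro s
      rcases key s with h | h
      · exact h
      · rw [h, hθθ]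
    obtain ⟨s₁, hs₁⟩ := exists_avoid ({0, -B₁ / A₂} : Finset F) (by
      have := Finset.card_le_two (a := (0 : F)) (b := -B₁ / A₂)
      omega)
    simp only [Finset.mem_insert, Finset.mem_singleton, not_or] at hs₁
    have h3 := key' s₁
    have h4 := key' 0
    have h5 : s₁ * (A₂ * s₁ + B₁) = 0 := by linear_combination h3 - h4
    rcases mul_eq_zero.1 h5 with h6 | h6
    · exact hs₁.1 h6
    · apply hs₁.2
      field_simp
      linear_combination h6
  · -- odd characteristic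
    obtain ⟨e, he⟩ := exists_avoid ({0, 1, -1} : Finset F) (by
      have := Finset.card_le_three (a := (0 : F)) (b := 1) (c := -1)
      omega)
    simp only [Finset.mem_insert, Finset.mem_singleton, not_or] at he
    obtain ⟨he0, he1, hem1⟩ := he
    obtain ⟨κ, hκ⟩ : ∃ κ : F, κ = -B₁ / (2 * A₂) := ⟨_, rfl⟩
    have hκ' : 2 * A₂ * κ + B₁ = 0 := by
      rw [hκ]; field_simp; ring
    have hshift : ∀ t : F, A₂ * (κ + t) ^ 2 + B₁ * (κ + t) + C₀ =
        (A₂ * κ ^ 2 + B₁ * κ + C₀) + A₂ * t ^ 2 := by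
      intro t
      linear_combination t * hκ'
    have k0 := key κ
    have k1 := key (κ + 1)
    have k2 := key (κ + e)
    rw [hshift] at k1 k2
    obtain ⟨V, hV⟩ : ∃ V : F, V = A₂ * κ ^ 2 + B₁ * κ + C₀ := ⟨_, rfl⟩
    rw [← hV] at k0 k1 k2
    have d01 : V ≠ V + A₂ * 1 ^ 2 := by
      intro h
      apply hA₂0
      linear_combination (-1 : F) * h
    have d02 : V ≠ V + A₂ * e ^ 2 := by
      intro h
      have h7 : A₂ * e ^ 2 = 0 := by linear_combination (-1 : F) * h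
      rcases mul_eq_zero.1 h7 with h8 | h8
      · exact hA₂0 h8
      · exact he0 (pow_eq_zero_iff (by norm_num) |>.1 h8)
    have d12 : V + A₂ * 1 ^ 2 ≠ V + A₂ * e ^ 2 := by
      intro h
      have h7 : A₂ * ((e - 1) * (e + 1)) = 0 := by linear_combination (-1 : F) * h
      rcases mul_eq_zero.1 h7 with h8 | h8
      · exact hA₂0 h8
      · rcases mul_eq_zero.1 h8 with h9 | h9
        · exact he1 (sub_eq_zero.1 h9)
        · exact hem1 (eq_neg_of_add_eq_zero_left h9)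
    rcases k0 with k0 | k0 <;> rcases k1 with k1 | k1 <;> rcases k2 with k2 | k2
    · exact d01 (k0.trans k1.symm)
    · exact d01 (k0.trans k1.symm)
    · exact d02 (k0.trans k2.symm)
    · exact d12 (k1.trans k2.symm)
    · exact d12 (k1.trans k2.symm)
    · exact d02 (k0.trans k2.symm)
    · exact d01 (k0.trans k1.symm)
    · exact d01 (k0.trans k1.symm)

end Cfsg.Agent.S2450
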