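import Cfsg.Statements.S2455
import Mathlib
import Cfsg.Agent.Lib.Helper2.SL2Cover


set_option autoImplicit false
open Cfsg

namespace Cfsg.Agent.S2455


set_option linter.style.haveILetI false
set_option linter.unusedSectionVars false
set_option linter.unusedVariables false

open Cfsg.Agent.S2507 (upper_conj e00 e01 e10 e11)
open Cfsg.Agent.S2508 (pr pr_surj sq_of_trace_zero)
open Cfsg.Agent.Lib.Helper2.SL2Unip Cfsg.Agent.Lib.Helper2.SL2Tori Cfsg.Agent.Lib.Helper2.SL2Nonsplit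
  Cfsg.Agent.Lib.Helper2.SL2Orders Cfsg.Agent.Lib.Helper2.SL2Cover in
/-- A strong covering result in the direction of Thompson's conjecture (non-identity elements) for PSL(2,q), q odd: let F be a finite field of odd characteristic p with at least 5 elements and let x ∈ PSL(2,F) have order greater than 2 and not divisible by p (so x is not unipotent). Then every non-identity element of PSL(2,F) is a product of two conjugates of x. -/
theorem result {F : Type*} [Field F] [Fintype F] (p : ℕ) [Fact p.Prime] [CharP F p] (hp : p ≠ 2) (h5 : 5 ≤ Fintype.card F)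
    (x : Matrix.ProjectiveSpecialLinearGroup (Fin 2) F) (hx2 : 2 < orderOf x) (hxp : ¬ p ∣ orderOf x) : ∀ g : Matrix.ProjectiveSpecialLinearGroup (Fin 2) F, g ≠ 1 → ∃ u v : Matrix.ProjectiveSpecialLinearGroup (Fin 2) F, g = (u * x * u⁻¹) * (v * x * v⁻¹) := by
  classical
  obtain ⟨n, hpp, hqn⟩ := FiniteField.card F p
  have hodd : Odd (Fintype.card F) := by
    rw [hqn]
    exact Odd.pow (hpp.odd_of_ne_two hp)
  have hodd' : Fintype.card F % 2 = 1 := Nat.odd_iff.1 hodd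
  have h2 : (2 : F) ≠ 0 := Cfsg.Agent.S0268.two_ne_zero_of_odd_card hodd
  have h4 : (4 : F) ≠ 0 := by
    have : (4 : F) = 2 * 2 := by norm_num
    rw [this]; exact mul_ne_zero h2 h2
  have hzz : pr (zz : Matrix.SpecialLinearGroup (Fin 2) F) = 1 := (pr_eq_one_iff zz).2 (Or.inr rfl)
  obtain ⟨x₀, rfl⟩ := pr_surj x
  obtain ⟨τ, hτ⟩ : ∃ τ, τ = tr2 x₀ := ⟨_, rfl⟩
  have hτ0 : τ ≠ 0 := by
    intro h0
    have h1 : x₀ * x₀ = zz := sq_of_trace_zero x₀ (by rw [← h0, hτ]; rfl)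
    have h3 : pr x₀ ^ 2 = 1 := by rw [← map_pow, pow_two, h1, hzz]
    have h5 := orderOf_le_of_pow_eq_one (by norm_num) h3
    omega
  have unip : ∀ w : Matrix.SpecialLinearGroup (Fin 2) F, tr2 w = 2 → pr w ^ p = 1 := by
    intro w hw
    by_cases hw1 : w = 1
    · rw [hw1, map_one, one_pow]
    · obtain ⟨b, hb, hcb⟩ := conj_uu_of_trace w hw hw1
      obtain ⟨c, hc⟩ := isConj_iff.1 hcb
      rw [← map_pow, pow_conj_one c w p (by
        rw [hc, uu_pow, CharP.cast_eq_zero, zero_mul, uu_zero]), map_one]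
  have hτ4 : τ ^ 2 ≠ 4 := by
    intro h
    have h3 : (τ - 2) * (τ + 2) = 0 := by linear_combination h
    have h5 : pr x₀ ^ p = 1 := by
      rcases mul_eq_zero.1 h3 with h6 | h6
      · exact unip x₀ (by rw [← hτ]; exact sub_eq_zero.1 h6)
      · have h7 := unip (zz * x₀) (by
          rw [tr2_zz_mul, ← hτ, eq_neg_of_add_eq_zero_left h6, neg_neg])
        rwa [map_mul, hzz, one_mul] at h7
    have h8 := orderOf_dvd_of_pow_eq_one h5
    rcases (Nat.dvd_prime hpp).1 h8 with h9 | h9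
    · omega
    · exact hxp (by rw [h9])
  have hnc : ∀ w : Matrix.SpecialLinearGroup (Fin 2) F, tr2 w = τ → w ≠ 1 ∧ w ≠ zz := by
    intro w hw
    constructor
    · rintro rfl
      rw [tr2_one] at hw
      apply hτ4
      rw [← hw]; norm_num
    · rintro rfl
      rw [tr2_zz] at hw
      apply hτ4
      rw [← hw]; norm_num
  have hN : ∀ c' : F, c' ≠ 0 → ∃ a b : F, a ^ 2 + a * b * (tr2 x₀) + b ^ 2 = c' :=
    fun c' _ => norm_surj_odd hodd' _ (by rw [← hτ]; exact hτ4) c'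
  have main : ∀ g₁ : Matrix.SpecialLinearGroup (Fin 2) F, pr g₁ ≠ 1 → tr2 g₁ ≠ 2 →
      ∃ u v : Matrix.ProjectiveSpecialLinearGroup (Fin 2) F,
        pr g₁ = (u * pr x₀ * u⁻¹) * (v * pr x₀ * v⁻¹) := by
    intro g₁ hg hσ
    have hg1 : g₁ ≠ 1 := by
      rintro rfl
      exact hg (map_one _)
    have hgz : g₁ ≠ zz := by
      rintro rfl
      exact hg hzz
    obtain ⟨P, c, hc, hP⟩ := exists_normal g₁ hg1 hgz
    obtain ⟨p', r, s, hrs1, hrs2⟩ := exists_prs hodd' (tr2 g₁) τ hσ hτ0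
    obtain ⟨y, y', hyy, hty, hty'⟩ := cover_normal c hc (tr2 g₁) τ p' r s hrs1 hrs2
    have hc1 : IsConj x₀ y := conj_of_trace x₀ y (hnc x₀ hτ.symm).1 (hnc x₀ hτ.symm).2
      (hnc y hty).1 (hnc y hty).2 (by rw [← hτ, hty]) hN
    have hc2 : IsConj x₀ y' := conj_of_trace x₀ y' (hnc x₀ hτ.symm).1 (hnc x₀ hτ.symm).2
      (hnc y' hty').1 (hnc y' hty').2 (by rw [← hτ, hty']) hN
    obtain ⟨u, hu⟩ := isConj_iff.1 hc1
    obtain ⟨v, hv⟩ := isConj_iff.1 hc2
    refine ⟨pr (P * u), pr (P * v), ?_⟩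
    rw [← map_inv, ← map_inv, ← map_mul, ← map_mul, ← map_mul, ← map_mul, ← map_mul]
    congr 1
    have e1 : g₁ = P * (P⁻¹ * g₁ * P) * P⁻¹ := by group
    rw [e1, hP, hyy, ← hu, ← hv]
    group
  intro g hg
  obtain ⟨g₀, rfl⟩ := pr_surj g
  by_cases hσ : tr2 g₀ = 2
  · have h7 := main (zz * g₀) (by rw [map_mul, hzz, one_mul]; exact hg) (by
      rw [tr2_zz_mul, hσ]
      intro h
      apply h4
      linear_combination (-1 : F) * h)
    rwa [map_mul, hzz, one_mul] at h7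
  · exact main g₀ hg hσ

end Cfsg.Agent.S2455
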