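import Cfsg.Statements.S2456
import Mathlib
import Cfsg.Agent.Lib.Helper2.SL2Cover


set_option autoImplicit false
open Cfsg

namespace Cfsg.Agent.S2456


set_option linter.style.haveILetI false
set_option linter.unusedSectionVars false
set_option linter.unusedVariables false

open Cfsg.Agent.S2507 (upper_conj e00 e01 e10 e11 zz_eq_one)
open Cfsg.Agent.S2508 (pr pr_surj sq_of_trace_zero)
open Cfsg.Agent.Lib.Helper2.SL2Unip Cfsg.Agent.Lib.Helper2.SL2Tori Cfsg.Agent.Lib.Helper2.SL2Nonsplit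
  Cfsg.Agent.Lib.Helper2.SL2Orders Cfsg.Agent.Lib.Helper2.SL2Cover in
/-- A strong covering result in the direction of Thompson's conjecture (non-identity elements) for PSL(2,q), q even: let F be a finite field of characteristic 2 with q ≥ 4 elements and let x ∈ PSL(2,F) have order greater than 2 and not dividing q + 1. Then every non-identity element of PSL(2,F) is a product of two conjugates of x. -/
theorem result {F : Type*} [Field F] [Fintype F] [CharP F 2] (h4 : 4 ≤ Fintype.card F)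
    (x : Matrix.ProjectiveSpecialLinearGroup (Fin 2) F) (hx2 : 2 < orderOf x) (hxq : ¬ orderOf x ∣ Fintype.card F + 1) : ∀ g : Matrix.ProjectiveSpecialLinearGroup (Fin 2) F, g ≠ 1 → ∃ u v : Matrix.ProjectiveSpecialLinearGroup (Fin 2) F, g = (u * x * u⁻¹) * (v * x * v⁻¹) := by
  classical
  obtain ⟨x₀, rfl⟩ := pr_surj x
  have hz1 : (zz : Matrix.SpecialLinearGroup (Fin 2) F) = 1 := zz_eq_one
  obtain ⟨τ, hτ⟩ : ∃ τ, τ = tr2 x₀ := ⟨_, rfl⟩
  have hτ0 : τ ≠ 0 := by
    intro h0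
    have h1 : x₀ * x₀ = zz := sq_of_trace_zero x₀ (by rw [← h0, hτ]; rfl)
    have h2 : pr x₀ ^ 2 = 1 := by rw [← map_pow, pow_two, h1, hz1, map_one]
    have h3 := orderOf_le_of_pow_eq_one (by norm_num) h2
    omega
  have hx1 : x₀ ≠ 1 := by
    rintro rfl
    rw [map_one, orderOf_one] at hx2
    omega
  have hsplit : ∃ a : F, a ≠ 0 ∧ τ = a + a⁻¹ := by
    by_cases hev : ∃ (c : F) (v : Fin 2 → F), v ≠ 0 ∧
        (x₀ : Matrix (Fin 2) (Fin 2) F).mulVec v = c • v
    · obtain ⟨c, v, hv, hgv⟩ := hev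
      obtain ⟨y, hy⟩ := upper_conj x₀ c v hv hgv
      have hdet := (y * x₀ * y⁻¹).det_coe
      rw [Matrix.det_fin_two, hy, mul_zero, sub_zero] at hdet
      refine ⟨((y * x₀ * y⁻¹ : Matrix.SpecialLinearGroup (Fin 2) F) :
        Matrix (Fin 2) (Fin 2) F) 0 0, left_ne_zero_of_mul_eq_one hdet, ?_⟩
      rw [hτ, ← tr2_conj y x₀, tr2, eq_inv_of_mul_eq_one_right hdet]
    · push Not at hev
      exfalso
      obtain ⟨a, b, hab⟩ := Cfsg.Agent.S2475.exists_aniso (F := F) (by omega)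
      obtain ⟨y, hy⟩ := conj_into hab x₀ hev
      apply hxq
      apply orderOf_dvd_of_pow_eq_one
      rw [← map_pow]
      have h5 : x₀ ^ (Fintype.card F + 1) = 1 := by
        apply pow_conj_one y x₀
        have h3 := pow_card_eq_one' (G := Tns a b) (x := ⟨y * x₀ * y⁻¹, hy⟩)
        rw [card_Tns hab] at h3
        have h4 := congrArg (fun t : Tns a b => (t : Matrix.SpecialLinearGroup (Fin 2) F)) h3
        simpa using h4
      rw [h5, map_one]
  obtain ⟨a, ha0, hτa⟩ := hsplit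
  intro g hg
  obtain ⟨g₀, rfl⟩ := pr_surj g
  have hg1 : g₀ ≠ 1 := by
    rintro rfl
    exact hg (map_one _)
  obtain ⟨P, c, hc, hP⟩ := exists_normal g₀ hg1 (by rw [hz1]; exact hg1)
  obtain ⟨y, y', hyy, hty, hty'⟩ := cover_normal c hc (tr2 g₀) τ 0 a a⁻¹
    (by rw [zero_mul, sub_zero, hτa]) (by rw [mul_inv_cancel₀ ha0]; ring)
  have hne : ∀ w : Matrix.SpecialLinearGroup (Fin 2) F, tr2 w = τ → w ≠ 1 := by
    rintro w hw rfl
    rw [tr2_one] at hw
    exact hτ0 (by rw [← hw]; exact CharTwo.two_eq_zero)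
  have hN : ∀ c' : F, c' ≠ 0 → ∃ a b : F, a ^ 2 + a * b * (tr2 x₀) + b ^ 2 = c' :=
    fun c' _ => norm_surj_two _ c'
  have hc1 : IsConj x₀ y := conj_of_trace x₀ y hx1 (by rw [hz1]; exact hx1) (hne y hty)
    (by rw [hz1]; exact hne y hty) (by rw [← hτ, hty]) hN
  have hc2 : IsConj x₀ y' := conj_of_trace x₀ y' hx1 (by rw [hz1]; exact hx1) (hne y' hty')
    (by rw [hz1]; exact hne y' hty') (by rw [← hτ, hty']) hN
  obtain ⟨u, hu⟩ := isConj_iff.1 hc1
  obtain ⟨v, hv⟩ := isConj_iff.1 hc2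
  refine ⟨pr (P * u), pr (P * v), ?_⟩
  rw [← map_inv, ← map_inv, ← map_mul, ← map_mul, ← map_mul, ← map_mul, ← map_mul]
  congr 1
  have e1 : g₀ = P * (P⁻¹ * g₀ * P) * P⁻¹ := by group
  rw [e1, hP, hyy, ← hu, ← hv]
  group

end Cfsg.Agent.S2456
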