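import Cfsg.Statements.S2466
import Cfsg.Agent.Lib.Helper4.AltOrders

set_option autoImplicit false
open Cfsg

namespace Cfsg.Agent.S2466

/-- Adjacency of odd primes in the prime graph of the alternating groups: let r ≠ s be odd primes at most n. The alternating group of degree n has an element of order r·s if and only if r + s ≤ n. -/
theorem result (n r s : ℕ) (hr : r.Prime) (hs : s.Prime) (hr2 : r ≠ 2) (hs2 : s ≠ 2) (hrs : r ≠ s) (hrn : r ≤ n) (hsn : s ≤ n) :
    (r * s ∈ Set.range (orderOf : alternatingGroup (Fin n) → ℕ)) ↔ r + s ≤ n := by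
  rw [Cfsg.Agent.Lib.Helper4.mem_range_orderOf_alternating_iff]
  have hcop : Nat.Coprime r s := (Nat.coprime_primes hr hs).2 hrs
  have hrs_le : r + s ≤ r * s := by nlinarith [hr.two_le, hs.two_le]
  constructor
  · rintro ⟨m, h2, hsum, -, hlcm⟩
    obtain ⟨a, ha, hra⟩ := Cfsg.Agent.Lib.Helper4.prime_dvd_multiset_lcm hr m (by rw [hlcm]; exact dvd_mul_right r s)
    obtain ⟨b, hb, hsb⟩ := Cfsg.Agent.Lib.Helper4.prime_dvd_multiset_lcm hs m (by rw [hlcm]; exact dvd_mul_left s r)
    have ha2 := h2 a ha
    have hb2 := h2 b hb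
    refine le_trans ?_ hsum
    by_cases hab : a = b
    · subst hab
      have h1 : r * s ∣ a := Nat.Coprime.mul_dvd_of_dvd_of_dvd hcop hra hsb
      have h3 : r * s ≤ a := Nat.le_of_dvd (by omega) h1
      have h4 : a ≤ m.sum := Multiset.le_sum_of_mem ha
      omega
    · obtain ⟨t, rfl⟩ := Multiset.exists_cons_of_mem ha
      have hbt : b ∈ t := by
        rcases Multiset.mem_cons.1 hb with h | h
        · exact absurd h.symm hab
        · exact h
      obtain ⟨t', rfl⟩ := Multiset.exists_cons_of_mem hbt
      rw [Multiset.sum_cons, Multiset.sum_cons]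
      have h5 : r ≤ a := Nat.le_of_dvd (by omega) hra
      have h6 : s ≤ b := Nat.le_of_dvd (by omega) hsb
      omega
  · intro hle
    refine ⟨{r, s}, ?_, ?_, ?_, ?_⟩
    · intro a ha
      simp only [Multiset.insert_eq_cons, Multiset.mem_cons, Multiset.mem_singleton] at ha
      rcases ha with rfl | rfl
      · exact hr.two_le
      · exact hs.two_le
    · simpa using hle
    · have hro : Odd r := hr.odd_of_ne_two hr2
      have hso : Odd s := hs.odd_of_ne_two hs2
      have : Even (r + s) := hro.add_odd hso
      simp only [Multiset.insert_eq_cons, Multiset.sum_cons, Multiset.sum_singleton, Multiset.card_cons,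
        Multiset.card_singleton]
      exact this.add (by decide)
    · simp only [Multiset.insert_eq_cons, Multiset.lcm_cons, Multiset.lcm_singleton]
      simp only [normalize_eq]
      exact Nat.Coprime.lcm_eq_mul hcop

end Cfsg.Agent.S2466
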