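import Cfsg.Statements.S2467
import Cfsg.Agent.Lib.Helper4.AltOrders

set_option autoImplicit false
open Cfsg

namespace Cfsg.Agent.S2467

theorem parity_filter (m : Multiset ℕ) :
    (m.sum + m.card) % 2 = (m.filter Even).card % 2 := by
  induction m using Multiset.induction_on with
  | empty => simp
  | cons a s ih =>
    rw [Multiset.sum_cons, Multiset.card_cons]
    by_cases ha : Even a
    · rw [Multiset.filter_cons_of_pos _ ha, Multiset.card_cons]
      have := Nat.even_iff.1 ha
      omega
    · rw [Multiset.filter_cons_of_neg _ ha]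
      have := Nat.odd_iff.1 (Nat.not_even_iff_odd.1 ha)
      omega

/-- Adjacency of 2 and an odd prime in the prime graph of the alternating groups: let r be an odd prime at most n, with n ≥ 4. The alternating group of degree n has an element of order 2r if and only if r + 4 ≤ n. -/
theorem result (n r : ℕ) (hn : 4 ≤ n) (hr : r.Prime) (hr2 : r ≠ 2) (hrn : r ≤ n) :
    (2 * r ∈ Set.range (orderOf : alternatingGroup (Fin n) → ℕ)) ↔ r + 4 ≤ n := by
  rw [Cfsg.Agent.Lib.Helper4.mem_range_orderOf_alternating_iff]
  have hro : Odd r := hr.odd_of_ne_two hr2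
  have hcop : Nat.Coprime 2 r := (Nat.coprime_primes Nat.prime_two hr).2 (Ne.symm hr2)
  constructor
  · rintro ⟨m, h2, hsum, hev, hlcm⟩
    refine le_trans ?_ hsum
    set E := m.filter Even with hE
    set O := m.filter (fun a => ¬ Even a) with hO
    have hmEO : E + O = m := Multiset.filter_add_not _ m
    have hsumEO : m.sum = E.sum + O.sum := by rw [← hmEO, Multiset.sum_add]
    have hpar := parity_filter m
    have hcardE : E.card % 2 = 0 := by
      rw [← hpar]; exact Nat.even_iff.1 hev
    obtain ⟨a, ha, h2a⟩ := Cfsg.Agent.Lib.Helper4.prime_dvd_multiset_lcm Nat.prime_two m (by rw [hlcm]; exact dvd_mul_right 2 r)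
    obtain ⟨b, hb, hrb⟩ := Cfsg.Agent.Lib.Helper4.prime_dvd_multiset_lcm hr m (by rw [hlcm]; exact dvd_mul_left r 2)
    have haE : a ∈ E := Multiset.mem_filter.2 ⟨ha, even_iff_two_dvd.2 h2a⟩
    have hE2 : ∀ x ∈ E, 2 ≤ x := fun x hx => h2 x (Multiset.mem_filter.1 hx).1
    have hcardE1 : 1 ≤ E.card := Multiset.card_pos_iff_exists_mem.2 ⟨a, haE⟩
    have hcardE2 : 2 ≤ E.card := by omega
    have hb2 := h2 b hb
    by_cases hbe : Even b
    · have hbE : b ∈ E := Multiset.mem_filter.2 ⟨hb, hbe⟩
      obtain ⟨E', hE'⟩ := Multiset.exists_cons_of_mem hbE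
      have h1 : 2 * r ∣ b := Nat.Coprime.mul_dvd_of_dvd_of_dvd hcop (even_iff_two_dvd.1 hbe) hrb
      have h3 : 2 * r ≤ b := Nat.le_of_dvd (by omega) h1
      have hcard' : 1 ≤ E'.card := by
        have : E.card = E'.card + 1 := by rw [hE', Multiset.card_cons]
        omega
      have hE'2 : ∀ x ∈ E', 2 ≤ x := fun x hx => hE2 x (by rw [hE']; exact Multiset.mem_cons_of_mem hx)
      have h4 : E'.card • 2 ≤ E'.sum := Multiset.card_nsmul_le_sum hE'2
      have h5 : E.sum = b + E'.sum := by rw [hE', Multiset.sum_cons]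
      have := hr.two_le
      simp only [smul_eq_mul] at h4
      omega
    · have hbO : b ∈ O := Multiset.mem_filter.2 ⟨hb, hbe⟩
      have h3 : r ≤ b := Nat.le_of_dvd (by omega) hrb
      have h4 : b ≤ O.sum := Multiset.le_sum_of_mem hbO
      have h5 : E.card • 2 ≤ E.sum := Multiset.card_nsmul_le_sum hE2
      simp only [smul_eq_mul] at h5
      omega
  · intro hle
    refine ⟨{r, 2, 2}, ?_, ?_, ?_, ?_⟩
    · intro a ha
      simp only [Multiset.insert_eq_cons, Multiset.mem_cons, Multiset.mem_singleton] at ha
      rcases ha with rfl | rfl | rfl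
      · exact hr.two_le
      · exact le_rfl
      · exact le_rfl
    · simp only [Multiset.insert_eq_cons, Multiset.sum_cons, Multiset.sum_singleton]
      omega
    · simp only [Multiset.insert_eq_cons, Multiset.sum_cons, Multiset.sum_singleton, Multiset.card_cons,
        Multiset.card_singleton]
      have := Nat.odd_iff.1 hro
      rw [Nat.even_iff]
      omega
    · simp only [Multiset.insert_eq_cons, Multiset.lcm_cons, Multiset.lcm_singleton]
      simp only [normalize_eq]
      have : Nat.lcm 2 2 = 2 := by decide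
      show Nat.lcm r (Nat.lcm 2 2) = 2 * r
      rw [this, Nat.lcm_comm, Nat.Coprime.lcm_eq_mul hcop]

end Cfsg.Agent.S2467
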