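import Cfsg.Statements.S2477
import Cfsg.Agent.Lib.Helper4.AltOrders

set_option autoImplicit false
open Cfsg

namespace Cfsg.Agent.S2477

set_option maxRecDepth 100000 in
set_option synthInstance.maxHeartbeats 4000000 in
set_option synthInstance.maxSize 100000 in
theorem main_check : ∀ c2 < 6, ∀ c3 < 4, ∀ c4 < 3, ∀ c5 < 3, ∀ c6 < 2, ∀ c7 < 2, ∀ c8 < 2, ∀ c9 < 2, ∀ c10 < 2,
    2*c2 + 3*c3 + 4*c4 + 5*c5 + 6*c6 + 7*c7 + 8*c8 + 9*c9 + 10*c10 ≤ 10 →
    (2*c2 + 3*c3 + 4*c4 + 5*c5 + 6*c6 + 7*c7 + 8*c8 + 9*c9 + 10*c10 + (c2+c3+c4+c5+c6+c7+c8+c9+c10)) % 2 = 0 →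
    Nat.lcm (if c2 = 0 then 1 else 2) (Nat.lcm (if c3 = 0 then 1 else 3) (Nat.lcm (if c4 = 0 then 1 else 4)
      (Nat.lcm (if c5 = 0 then 1 else 5) (Nat.lcm (if c6 = 0 then 1 else 6) (Nat.lcm (if c7 = 0 then 1 else 7)
      (Nat.lcm (if c8 = 0 then 1 else 8) (Nat.lcm (if c9 = 0 then 1 else 9) (if c10 = 0 then 1 else 10))))))))
      ∈ ({1,2,3,4,5,6,7,8,9,10,12,15,21} : Finset ℕ) := by
  decide

theorem lcm_mem_of_cycleType (m : Multiset ℕ) (h2 : ∀ a ∈ m, 2 ≤ a) (hsum : m.sum ≤ 10)
    (hev : Even (m.sum + m.card)) : m.lcm ∈ ({1,2,3,4,5,6,7,8,9,10,12,15,21} : Finset ℕ) := by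
  classical
  set S9 : Finset ℕ := {2,3,4,5,6,7,8,9,10} with hS9
  have hmem : ∀ a ∈ m, a ∈ S9 := by
    intro a ha
    have h1 := h2 a ha
    have h3 : a ≤ m.sum := Multiset.le_sum_of_mem ha
    have h4 : a ≤ 10 := h3.trans hsum
    rw [hS9]
    interval_cases a <;> simp
  have hsub : m.toFinset ⊆ S9 := fun a ha => hmem a (Multiset.mem_toFinset.1 ha)
  have F1 := Finset.sum_multiset_count_of_subset m S9 hsub
  have F2 : ∑ a ∈ S9, m.count a = m.card := Multiset.sum_count_eq_card hmem
  rw [hS9] at F1 F2
  rw [Finset.sum_insert (by decide), Finset.sum_insert (by decide), Finset.sum_insert (by decide),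
    Finset.sum_insert (by decide), Finset.sum_insert (by decide), Finset.sum_insert (by decide),
    Finset.sum_insert (by decide), Finset.sum_insert (by decide), Finset.sum_singleton] at F1 F2
  simp only [smul_eq_mul] at F1
  -- lcm
  have hlcm : m.lcm = S9.lcm (fun k => if m.count k = 0 then 1 else k) := by
    apply Nat.dvd_antisymm
    · rw [Multiset.lcm_dvd]
      intro b hb
      have h1 : m.count b ≠ 0 := Multiset.count_ne_zero.2 hb
      have h3 := Finset.dvd_lcm (f := fun k => if m.count k = 0 then 1 else k) (hmem b hb)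
      simpa [h1] using h3
    · apply Finset.lcm_dvd
      intro b _
      by_cases h1 : m.count b = 0
      · simp [h1]
      · simp only [h1, if_false]
        exact Multiset.dvd_lcm (Multiset.count_ne_zero.1 h1)
  rw [hlcm, hS9]
  simp only [Finset.lcm_insert, Finset.lcm_singleton, normalize_eq]
  have hb : ∀ k, k * m.count k ≤ 10 := by
    intro k
    by_cases hk : k ∈ m
    · have : (m.filter (· = k)).card • k ≤ (m.filter (· = k)).sum := Multiset.card_nsmul_le_sum (by
        intro x hx; exact (Multiset.mem_filter.1 hx).2.ge)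
      have h5 : (m.filter (· = k)).sum ≤ m.sum := by
        have := Multiset.filter_add_not (· = k) m
        calc (m.filter (· = k)).sum ≤ (m.filter (· = k)).sum + (m.filter (fun a => ¬ a = k)).sum := Nat.le_add_right _ _
          _ = m.sum := by rw [← Multiset.sum_add, this]
      have h6 : (m.filter (· = k)).card = m.count k := by
        rw [Multiset.count_eq_card_filter_eq]
        congr 1
        apply Multiset.filter_congr
        intro x _
        exact eq_comm
      rw [h6, smul_eq_mul] at this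
      calc k * m.count k = m.count k * k := mul_comm _ _
        _ ≤ (m.filter (· = k)).sum := this
        _ ≤ 10 := h5.trans hsum
    · rw [Multiset.count_eq_zero_of_notMem hk]; omega
  have b2 := hb 2; have b3 := hb 3; have b4 := hb 4; have b5 := hb 5; have b6 := hb 6
  have b7 := hb 7; have b8 := hb 8; have b9 := hb 9; have b10 := hb 10
  have hev' := Nat.even_iff.1 hev
  exact main_check (m.count 2) (by omega) (m.count 3) (by omega) (m.count 4) (by omega) (m.count 5) (by omega)
    (m.count 6) (by omega) (m.count 7) (by omega) (m.count 8) (by omega) (m.count 9) (by omega)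
    (m.count 10) (by omega) (by omega) (by omega)

/-- The set of element orders of the alternating group of degree 10 is {1, 2, 3, 4, 5, 6, 7, 8, 9, 10, 12, 15, 21}. -/
theorem result : Set.range (orderOf : alternatingGroup (Fin 10) → ℕ) = {1, 2, 3, 4, 5, 6, 7, 8, 9, 10, 12, 15, 21} := by
  ext k
  rw [Cfsg.Agent.Lib.Helper4.mem_range_orderOf_alternating_iff]
  constructor
  · rintro ⟨m, h2, hsum, hev, rfl⟩
    have := lcm_mem_of_cycleType m h2 hsum hev
    simpa using this
  · intro hk
    simp only [Set.mem_insert_iff, Set.mem_singleton_iff] at hk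
    rcases hk with rfl | rfl | rfl | rfl | rfl | rfl | rfl | rfl | rfl | rfl | rfl | rfl | rfl
    · exact ⟨0, by simp, by simp, by simp, by simp⟩
    · exact ⟨{2, 2}, by simp, by simp, by decide, by decide⟩
    · exact ⟨{3}, by simp, by simp, by decide, by decide⟩
    · exact ⟨{4, 2}, by simp, by simp, by decide, by decide⟩
    · exact ⟨{5}, by simp, by simp, by decide, by decide⟩
    · exact ⟨{3, 2, 2}, by simp, by simp, by decide, by decide⟩
    · exact ⟨{7}, by simp, by simp, by decide, by decide⟩
    · exact ⟨{8, 2}, by simp, by simp, by decide, by decide⟩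
    · exact ⟨{9}, by simp, by simp, by decide, by decide⟩
    · exact ⟨{5, 2, 2}, by simp, by simp, by decide, by decide⟩
    · exact ⟨{4, 3, 2}, by simp, by simp, by decide, by decide⟩
    · exact ⟨{5, 3}, by simp, by simp, by decide, by decide⟩
    · exact ⟨{7, 3}, by simp, by simp, by decide, by decide⟩

end Cfsg.Agent.S2477
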