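import Cfsg.Statements.S2485
import Mathlib
import Cfsg.Agent.S2507


set_option autoImplicit false
open scoped Pointwise
open Cfsg

namespace Cfsg.Agent.S2485

open Matrix
open Cfsg.Agent.S2507 (e00 e01 e10 e11)
open Cfsg.Agent.S2475 (ext2 mul2)

section
variable {q : ℕ} [Fact q.Prime]

/-- the projection -/
def prj : GL (Fin 2) (ZMod q) →* GL (Fin 2) (ZMod q) ⧸ Subgroup.center (GL (Fin 2) (ZMod q)) :=
  QuotientGroup.mk' _

theorem prj_surj : Function.Surjective (prj (q := q)) := QuotientGroup.mk'_surjective _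

theorem prj_eq {A B : GL (Fin 2) (ZMod q)} (h : prj A = prj B) :
    ∃ c : ZMod q, (B : Matrix (Fin 2) (Fin 2) (ZMod q)) =
      c • (A : Matrix (Fin 2) (Fin 2) (ZMod q)) := by
  have h1 : A⁻¹ * B ∈ Subgroup.center (GL (Fin 2) (ZMod q)) := QuotientGroup.eq.1 h
  rw [Matrix.GeneralLinearGroup.mem_center_iff_val_mem_range_scalar] at h1
  obtain ⟨c, hc⟩ := h1
  refine ⟨c, ?_⟩
  have h2 : (B : Matrix (Fin 2) (Fin 2) (ZMod q)) =
      (A : Matrix (Fin 2) (Fin 2) (ZMod q)) *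
        ((A⁻¹ * B : GL (Fin 2) (ZMod q)) : Matrix (Fin 2) (Fin 2) (ZMod q)) := by
    rw [← Units.val_mul, mul_inv_cancel_left]
  rw [h2, ← hc, Matrix.scalar_apply, ← Matrix.smul_one_eq_diagonal, Matrix.mul_smul, Matrix.mul_one]

theorem prj_eq_of {A B : GL (Fin 2) (ZMod q)} (c : ZMod q)
    (h : (B : Matrix (Fin 2) (Fin 2) (ZMod q)) = c • (A : Matrix (Fin 2) (Fin 2) (ZMod q))) :
    prj A = prj B := by
  show (QuotientGroup.mk A : GL (Fin 2) (ZMod q) ⧸ Subgroup.center (GL (Fin 2) (ZMod q))) =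
    QuotientGroup.mk B
  rw [QuotientGroup.eq, Matrix.GeneralLinearGroup.mem_center_iff_val_mem_range_scalar]
  refine ⟨c, ?_⟩
  rw [Units.val_mul, h, Matrix.mul_smul, ← Units.val_mul, inv_mul_cancel, Units.val_one,
    Matrix.scalar_apply, ← Matrix.smul_one_eq_diagonal]

/-- the elliptic involution -/
def m0 : Matrix (Fin 2) (Fin 2) (ZMod q) := !![0, 1; -1, 0]

theorem m0_det : (m0 (q := q)).det ≠ 0 := by
  rw [m0, Matrix.det_fin_two_of]; simp

theorem m0_sq : (m0 (q := q)) * m0 = -1 := by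
  rw [m0, Matrix.mul_fin_two]
  apply ext2 <;> simp

def M0 : GL (Fin 2) (ZMod q) := Matrix.GeneralLinearGroup.mkOfDetNeZero m0 m0_det

theorem M0_val : ((M0 : GL (Fin 2) (ZMod q)) : Matrix (Fin 2) (Fin 2) (ZMod q)) = m0 := rfl

theorem prj_M0_ne : prj (M0 (q := q)) ≠ 1 := by
  intro h
  rw [← map_one prj] at h
  obtain ⟨c, hc⟩ := prj_eq h.symm
  have h1 := congrFun (congrFun hc 0) 1
  rw [M0_val, Units.val_one] at h1
  simp [m0] at h1

/-- matrices commuting with m0 up to a scalar -/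
theorem comm_cases (A : Matrix (Fin 2) (Fin 2) (ZMod q)) (hA : A ≠ 0) (c : ZMod q)
    (h : m0 * A = c • (A * m0)) :
    (A 1 0 = - A 0 1 ∧ A 1 1 = A 0 0) ∨ (A 1 0 = A 0 1 ∧ A 1 1 = - A 0 0) := by
  have h00 := congrFun (congrFun h 0) 0
  have h01 := congrFun (congrFun h 0) 1
  have h10 := congrFun (congrFun h 1) 0
  have h11 := congrFun (congrFun h 1) 1
  simp only [m0, Matrix.smul_apply, mul2, e00, e01, e10, e11, smul_eq_mul] at h00 h01 h10 h11
  have hc : c ^ 2 - 1 = 0 := by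
    by_contra hne
    apply hA
    apply ext2
    · have h1 : (c ^ 2 - 1) * A 0 0 = 0 := by linear_combination h10 - c * h01
      rcases mul_eq_zero.1 h1 with h | h
      · exact absurd h hne
      · rw [h]; rfl
    · have h1 : (c ^ 2 - 1) * A 0 1 = 0 := by linear_combination c * h00 + h11
      rcases mul_eq_zero.1 h1 with h | h
      · exact absurd h hne
      · rw [h]; rfl
    · have h1 : (c ^ 2 - 1) * A 1 0 = 0 := by linear_combination -h00 - c * h11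
      rcases mul_eq_zero.1 h1 with h | h
      · exact absurd h hne
      · rw [h]; rfl
    · have h1 : (c ^ 2 - 1) * A 1 1 = 0 := by linear_combination -h01 + c * h10
      rcases mul_eq_zero.1 h1 with h | h
      · exact absurd h hne
      · rw [h]; rfl
  have hc' : (c - 1) * (c + 1) = 0 := by linear_combination hc
  rcases mul_eq_zero.1 hc' with h | h
  · left
    have hc1 : c = 1 := by linear_combination h
    subst hc1
    exact ⟨by linear_combination h00, by linear_combination h01⟩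
  · right
    have hc1 : c = -1 := by linear_combination h
    subst hc1
    exact ⟨by linear_combination h00, by linear_combination h01⟩

theorem frob {k : ℕ} (hk : q + 1 = 2 ^ k) (hk3 : 3 ≤ k) (a b : ZMod q) :
    (!![a, b; -b, a] : Matrix (Fin 2) (Fin 2) (ZMod q)) ^ (q + 1) =
      (a ^ 2 + b ^ 2) • (1 : Matrix (Fin 2) (Fin 2) (ZMod q)) := by
  have hsplit : (!![a, b; -b, a] : Matrix (Fin 2) (Fin 2) (ZMod q)) =
      a • (1 : Matrix (Fin 2) (Fin 2) (ZMod q)) + b • m0 := by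
    apply ext2 <;> simp [m0]
  have hcomm : Commute (a • (1 : Matrix (Fin 2) (Fin 2) (ZMod q))) (b • m0) := by
    show _ * _ = _ * _
    rw [Matrix.smul_mul, Matrix.mul_smul, Matrix.one_mul, Matrix.smul_mul, Matrix.mul_smul,
      Matrix.mul_one, smul_comm]
  have h8 : 2 ^ k = 2 ^ 3 * 2 ^ (k - 3) := by rw [← pow_add]; congr 1; omega
  have hpos : 0 < 2 ^ (k - 3) := by positivity
  have hq1 : q = 2 * (4 * 2 ^ (k - 3) - 1) + 1 := by omega
  have hodd : Odd (4 * 2 ^ (k - 3) - 1) := ⟨2 * 2 ^ (k - 3) - 1, by omega⟩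
  have hm0' : (m0 (q := q)) ^ (2 * (4 * 2 ^ (k - 3) - 1) + 1) = - m0 := by
    rw [pow_succ, pow_mul, pow_two, m0_sq, hodd.neg_one_pow, neg_one_mul]
  have hm0 : (m0 (q := q)) ^ q = - m0 := by
    rw [← hq1] at hm0'
    exact hm0'
  have key : (a • (1 : Matrix (Fin 2) (Fin 2) (ZMod q)) + b • m0) ^ (q + 1) =
      (a ^ 2 + b ^ 2) • (1 : Matrix (Fin 2) (Fin 2) (ZMod q)) := by
    rw [pow_succ, add_pow_char_of_commute q hcomm, smul_pow, smul_pow, one_pow, ZMod.pow_card,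
      ZMod.pow_card, hm0]
    apply ext2 <;> simp [m0, mul2] <;> ring
  rw [hsplit]; exact key

theorem pow_of_comm {k : ℕ} (hk : q + 1 = 2 ^ k) (hk3 : 3 ≤ k)
    (t : GL (Fin 2) (ZMod q) ⧸ Subgroup.center (GL (Fin 2) (ZMod q)))
    (ht : t * prj M0 = prj M0 * t) : t ^ (2 ^ (k + 1)) = 1 := by
  obtain ⟨A, rfl⟩ := prj_surj t
  have h1 : prj (A * M0) = prj (M0 * A) := by rw [map_mul, map_mul]; exact ht
  obtain ⟨c, hc⟩ := prj_eq h1
  rw [Units.val_mul, Units.val_mul, M0_val] at hc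
  obtain ⟨a, ha⟩ : ∃ a, a = (A : Matrix (Fin 2) (Fin 2) (ZMod q)) 0 0 := ⟨_, rfl⟩
  obtain ⟨b, hb⟩ : ∃ b, b = (A : Matrix (Fin 2) (Fin 2) (ZMod q)) 0 1 := ⟨_, rfl⟩
  rcases comm_cases _ (Units.ne_zero A) c hc with ⟨h10, h11⟩ | ⟨h10, h11⟩
  · have hval : (A : Matrix (Fin 2) (Fin 2) (ZMod q)) = !![a, b; -b, a] := by
      rw [Matrix.eta_fin_two (A : Matrix (Fin 2) (Fin 2) (ZMod q)), h10, h11, ← ha, ← hb]
    have h3 : prj (A ^ (q + 1)) = 1 := by
      rw [← map_one prj]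
      symm
      apply prj_eq_of (a ^ 2 + b ^ 2)
      rw [Units.val_pow_eq_pow_val, hval, Units.val_one]
      exact frob hk hk3 a b
    rw [map_pow] at h3
    rw [pow_succ, pow_mul, ← hk, h3, one_pow]
  · have hval : (A : Matrix (Fin 2) (Fin 2) (ZMod q)) = !![a, b; b, -a] := by
      rw [Matrix.eta_fin_two (A : Matrix (Fin 2) (Fin 2) (ZMod q)), h10, h11, ← ha, ← hb]
    have h3 : prj (A ^ 2) = 1 := by
      rw [← map_one prj]
      symm
      apply prj_eq_of (a ^ 2 + b ^ 2)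
      rw [Units.val_pow_eq_pow_val, hval, Units.val_one, pow_two, Matrix.mul_fin_two]
      apply ext2 <;> simp <;> ring
    rw [map_pow] at h3
    rw [pow_succ', pow_mul, h3, one_pow]

theorem sum_sq (hq4 : q % 4 = 3) (x y : ZMod q) (h : x ^ 2 + y ^ 2 = 0) : x = 0 ∧ y = 0 := by
  by_cases hy : y = 0
  · subst hy
    rw [zero_pow two_ne_zero, add_zero] at h
    exact ⟨pow_eq_zero_iff two_ne_zero |>.1 h, rfl⟩
  · exfalso
    have hyy : y * y⁻¹ = 1 := mul_inv_cancel₀ hy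
    have h1 : IsSquare (-1 : ZMod q) :=
      ⟨x * y⁻¹, by linear_combination (-(y⁻¹) ^ 2) * h + (y * y⁻¹ + 1) * hyy⟩
    exact (ZMod.exists_sq_eq_neg_one_iff.1 h1) hq4

theorem key (hq4 : q % 4 = 3) (h2 : (2 : ZMod q) ≠ 0)
    (y : GL (Fin 2) (ZMod q) ⧸ Subgroup.center (GL (Fin 2) (ZMod q))) :
    ∃ t : GL (Fin 2) (ZMod q) ⧸ Subgroup.center (GL (Fin 2) (ZMod q)), t ≠ 1 ∧
      t * prj M0 = prj M0 * t ∧ t * (y * prj M0 * y⁻¹) = (y * prj M0 * y⁻¹) * t := by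
  obtain ⟨Y, rfl⟩ := prj_surj y
  obtain ⟨M', hM'⟩ : ∃ M' : GL (Fin 2) (ZMod q), M' = Y * M0 * Y⁻¹ := ⟨_, rfl⟩
  have hz' : prj Y * prj M0 * (prj Y)⁻¹ = prj M' := by rw [hM', map_mul, map_mul, map_inv]
  have hM'1 : prj M' ≠ 1 := by
    intro h
    apply prj_M0_ne (q := q)
    rw [h] at hz'
    calc prj M0 = (prj Y)⁻¹ * (prj Y * prj M0 * (prj Y)⁻¹) * prj Y := by group
      _ = 1 := by rw [hz']; group
  rw [hz']
  have hsq : (M' : Matrix (Fin 2) (Fin 2) (ZMod q)) * (M' : Matrix (Fin 2) (Fin 2) (ZMod q)) = -1 := by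
    have h1 : M' * M' = Y * (M0 * M0) * Y⁻¹ := by rw [hM']; group
    have h2 : ((M0 * M0 : GL (Fin 2) (ZMod q)) : Matrix (Fin 2) (Fin 2) (ZMod q)) = -1 := by
      rw [Units.val_mul, M0_val, m0_sq]
    calc (M' : Matrix (Fin 2) (Fin 2) (ZMod q)) * (M' : Matrix (Fin 2) (Fin 2) (ZMod q))
        = ((M' * M' : GL (Fin 2) (ZMod q)) : Matrix (Fin 2) (Fin 2) (ZMod q)) :=
          (Units.val_mul _ _).symm
      _ = (Y : Matrix (Fin 2) (Fin 2) (ZMod q)) *
          ((M0 * M0 : GL (Fin 2) (ZMod q)) : Matrix (Fin 2) (Fin 2) (ZMod q)) *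
          ((Y⁻¹ : GL (Fin 2) (ZMod q)) : Matrix (Fin 2) (Fin 2) (ZMod q)) := by
          rw [h1, Units.val_mul, Units.val_mul]
      _ = -1 := by
          rw [h2, mul_neg, mul_one, neg_mul, ← Units.val_mul, mul_inv_cancel, Units.val_one]
  obtain ⟨N, hN⟩ : ∃ N : Matrix (Fin 2) (Fin 2) (ZMod q),
      N = m0 * (M' : Matrix (Fin 2) (Fin 2) (ZMod q)) -
        (M' : Matrix (Fin 2) (Fin 2) (ZMod q)) * m0 := ⟨_, rfl⟩
  have hNm0 : m0 * N = (-1 : ZMod q) • (N * m0) := by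
    have h1 : m0 * N + N * m0 = (m0 * m0) * (M' : Matrix (Fin 2) (Fin 2) (ZMod q)) -
        (M' : Matrix (Fin 2) (Fin 2) (ZMod q)) * (m0 * m0) := by rw [hN]; noncomm_ring
    rw [m0_sq] at h1
    rw [neg_one_smul]
    apply eq_neg_of_add_eq_zero_left
    rw [h1]; simp
  have hNM' : (M' : Matrix (Fin 2) (Fin 2) (ZMod q)) * N = (-1 : ZMod q) • (N * (M' : Matrix (Fin 2) (Fin 2) (ZMod q))) := by
    have h1 : (M' : Matrix (Fin 2) (Fin 2) (ZMod q)) * N + N * (M' : Matrix (Fin 2) (Fin 2) (ZMod q)) =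
        m0 * ((M' : Matrix (Fin 2) (Fin 2) (ZMod q)) * (M' : Matrix (Fin 2) (Fin 2) (ZMod q))) -
        ((M' : Matrix (Fin 2) (Fin 2) (ZMod q)) * (M' : Matrix (Fin 2) (Fin 2) (ZMod q))) * m0 := by
      rw [hN]; noncomm_ring
    rw [hsq] at h1
    rw [neg_one_smul]
    apply eq_neg_of_add_eq_zero_left
    rw [h1]; simp
  obtain ⟨a, ha⟩ : ∃ a, a = (M' : Matrix (Fin 2) (Fin 2) (ZMod q)) 0 0 := ⟨_, rfl⟩
  obtain ⟨b, hb⟩ : ∃ b, b = (M' : Matrix (Fin 2) (Fin 2) (ZMod q)) 0 1 := ⟨_, rfl⟩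
  obtain ⟨c, hc⟩ : ∃ c, c = (M' : Matrix (Fin 2) (Fin 2) (ZMod q)) 1 0 := ⟨_, rfl⟩
  obtain ⟨d, hd⟩ : ∃ d, d = (M' : Matrix (Fin 2) (Fin 2) (ZMod q)) 1 1 := ⟨_, rfl⟩
  have hMval : (M' : Matrix (Fin 2) (Fin 2) (ZMod q)) = !![a, b; c, d] := by
    rw [Matrix.eta_fin_two (M' : Matrix (Fin 2) (Fin 2) (ZMod q)), ← ha, ← hb, ← hc, ← hd]
  have hNval : N = !![c + b, d - a; d - a, -b - c] := by
    rw [hN, hMval, m0, Matrix.mul_fin_two, Matrix.mul_fin_two]
    apply ext2 <;> simp <;> ring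
  have hdet : N.det = -((c + b) ^ 2 + (d - a) ^ 2) := by
    rw [hNval, Matrix.det_fin_two_of]; ring
  by_cases hd0 : N.det = 0
  · -- the two involutions commute
    rw [hdet, neg_eq_zero] at hd0
    obtain ⟨e1, e2⟩ := sum_sq hq4 _ _ hd0
    have hN0 : N = 0 := by
      rw [hNval]
      apply ext2
      · rw [e00, e1]; rfl
      · rw [e01, e2]; rfl
      · rw [e10, e2]; rfl
      · rw [e11]
        have : -b - c = 0 := by linear_combination -e1
        rw [this]; rfl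
    have hcomm : M0 * M' = M' * M0 := by
      apply Units.ext
      rw [Units.val_mul, Units.val_mul, M0_val]
      rw [hN0] at hN
      exact (sub_eq_zero.1 hN.symm)
    refine ⟨prj M', hM'1, ?_, rfl⟩
    rw [← map_mul, ← map_mul, hcomm]
  · refine ⟨prj (Matrix.GeneralLinearGroup.mkOfDetNeZero N hd0), ?_, ?_, ?_⟩
    · intro h
      rw [← map_one prj] at h
      obtain ⟨e, he⟩ := prj_eq h.symm
      have he' : N = e • (1 : Matrix (Fin 2) (Fin 2) (ZMod q)) := by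
        rw [← Units.val_one (α := Matrix (Fin 2) (Fin 2) (ZMod q))]
        exact he
      rw [hNval] at he'
      have h00 := congrFun (congrFun he' 0) 0
      have h01 := congrFun (congrFun he' 0) 1
      have h11 := congrFun (congrFun he' 1) 1
      simp only [e00, e01, e11, Matrix.smul_apply, Matrix.one_apply_eq, smul_eq_mul, mul_one,
        Matrix.one_apply_ne (show (0 : Fin 2) ≠ 1 by decide), mul_zero] at h00 h01 h11
      apply hd0
      rw [hdet, h01]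
      have h5 : (2 : ZMod q) * (c + b) = 0 := by linear_combination h00 - h11
      rcases mul_eq_zero.1 h5 with h | h
      · exact absurd h h2
      · rw [h]; ring
    · rw [← map_mul, ← map_mul]
      apply prj_eq_of (-1 : ZMod q)
      rw [Units.val_mul, Units.val_mul, M0_val]
      exact hNm0
    · rw [← map_mul, ← map_mul]
      apply prj_eq_of (-1 : ZMod q)
      rw [Units.val_mul, Units.val_mul]
      exact hNM'

end

/-- Let q = 2^k − 1 ≥ 7 be a prime and let G = PGL(2,q), the general linear group of degree 2 over the field with q elements modulo its centre. Then any two Sylow 2-subgroups of G have a non-trivial intersection: for a Sylow 2-subgroup H and every x ∈ G, H ∩ H^x ≠ 1. -/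
theorem result {q k : ℕ} [Fact q.Prime] (hk : q + 1 = 2 ^ k) (hq : 7 ≤ q)
    (H : Sylow 2 (GL (Fin 2) (ZMod q) ⧸ Subgroup.center (GL (Fin 2) (ZMod q))))
    (x : GL (Fin 2) (ZMod q) ⧸ Subgroup.center (GL (Fin 2) (ZMod q))) :
    (H : Subgroup (GL (Fin 2) (ZMod q) ⧸ Subgroup.center (GL (Fin 2) (ZMod q)))) ⊓ MulAut.conj x • (H : Subgroup _) ≠ ⊥ := by
  classical
  haveI : Fact (Nat.Prime 2) := ⟨Nat.prime_two⟩
  have hk3 : 3 ≤ k := by
    by_contra h
    push_neg at h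
    have : 2 ^ k ≤ 2 ^ 2 := Nat.pow_le_pow_right (by norm_num) (by omega)
    omega
  have hq4 : q % 4 = 3 := by
    have : 2 ^ k = 2 ^ 2 * 2 ^ (k - 2) := by rw [← pow_add]; congr 1; omega
    omega
  have h2 : (2 : ZMod q) ≠ 0 := by
    intro h
    have h3 : ((2 : ℕ) : ZMod q) = 0 := by exact_mod_cast h
    have h4 := (ZMod.natCast_eq_zero_iff 2 q).1 h3
    have := Nat.le_of_dvd (by norm_num) h4
    omega
  obtain ⟨C, hC⟩ : ∃ C : Subgroup (GL (Fin 2) (ZMod q) ⧸ Subgroup.center (GL (Fin 2) (ZMod q))),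
      C = Subgroup.centralizer {prj M0} := ⟨_, rfl⟩
  have hCmem : ∀ t, t ∈ C ↔ t * prj M0 = prj M0 * t := by
    intro t
    rw [hC, Subgroup.mem_centralizer_singleton_iff]
  have hCp : IsPGroup 2 C := by
    rintro ⟨t, ht⟩
    refine ⟨k + 1, ?_⟩
    apply Subtype.ext
    rw [Subgroup.coe_pow, Subgroup.coe_one]
    exact pow_of_comm hk hk3 t ((hCmem t).1 ht)
  obtain ⟨H₀, hCH⟩ := hCp.exists_le_sylow
  obtain ⟨g, hg⟩ := MulAction.exists_smul_eq
    (GL (Fin 2) (ZMod q) ⧸ Subgroup.center (GL (Fin 2) (ZMod q))) H₀ H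
  intro hbot
  obtain ⟨t, ht1, htz, hty⟩ := key hq4 h2 (g⁻¹ * x * g)
  have htC : t ∈ C := (hCmem t).2 htz
  have hmem : ∀ u, u ∈ (H : Subgroup (GL (Fin 2) (ZMod q) ⧸ Subgroup.center (GL (Fin 2) (ZMod q)))) ↔
      g⁻¹ * u * g ∈ (H₀ : Subgroup (GL (Fin 2) (ZMod q) ⧸ Subgroup.center (GL (Fin 2) (ZMod q)))) := by
    intro u
    rw [← hg, Sylow.coe_subgroup_smul, Subgroup.mem_pointwise_smul_iff_inv_smul_mem, MulAut.smul_def,
      MulAut.conj_inv_apply]
  have hu1 : g * t * g⁻¹ ∈ (H : Subgroup (GL (Fin 2) (ZMod q) ⧸ Subgroup.center (GL (Fin 2) (ZMod q)))) := by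
    rw [hmem]
    have : g⁻¹ * (g * t * g⁻¹) * g = t := by group
    rw [this]; exact hCH htC
  have hu2 : g * t * g⁻¹ ∈ MulAut.conj x •
      (H : Subgroup (GL (Fin 2) (ZMod q) ⧸ Subgroup.center (GL (Fin 2) (ZMod q)))) := by
    rw [Subgroup.mem_pointwise_smul_iff_inv_smul_mem, MulAut.smul_def, MulAut.conj_inv_apply, hmem]
    apply hCH
    rw [hCmem]
    have e1 : g⁻¹ * (x⁻¹ * (g * t * g⁻¹) * x) * g = (g⁻¹ * x * g)⁻¹ * t * (g⁻¹ * x * g) := by group
    rw [e1]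
    calc (g⁻¹ * x * g)⁻¹ * t * (g⁻¹ * x * g) * prj M0
        = (g⁻¹ * x * g)⁻¹ * (t * ((g⁻¹ * x * g) * prj M0 * (g⁻¹ * x * g)⁻¹)) * (g⁻¹ * x * g) := by
          group
      _ = (g⁻¹ * x * g)⁻¹ * (((g⁻¹ * x * g) * prj M0 * (g⁻¹ * x * g)⁻¹) * t) * (g⁻¹ * x * g) := by
          rw [hty]
      _ = prj M0 * ((g⁻¹ * x * g)⁻¹ * t * (g⁻¹ * x * g)) := by group
  have hu : g * t * g⁻¹ ∈ (H : Subgroup (GL (Fin 2) (ZMod q) ⧸ Subgroup.center (GL (Fin 2) (ZMod q)))) ⊓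
      MulAut.conj x • (H : Subgroup (GL (Fin 2) (ZMod q) ⧸ Subgroup.center (GL (Fin 2) (ZMod q)))) :=
    ⟨hu1, hu2⟩
  rw [hbot, Subgroup.mem_bot] at hu
  apply ht1
  calc t = g⁻¹ * (g * t * g⁻¹) * g := by group
    _ = 1 := by rw [hu]; group

end Cfsg.Agent.S2485
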