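import Cfsg.Statements.S2503
import Mathlib
import Cfsg.Agent.Lib.Helper2.SL2Cover


set_option autoImplicit false
open Cfsg

namespace Cfsg.Agent.S2503


set_option linter.style.haveILetI false
set_option linter.unusedSectionVars false
set_option linter.unusedVariables false

open Cfsg.Agent.S2507 (e00 e01 e10 e11 val_eq)
open Cfsg.Agent.S2508 (pr pr_surj)
open Cfsg.Agent.S2475 (ext2)
open Cfsg.Agent.S1217 (Mat Mat_apply)
open Cfsg.Agent.Lib.Helper2.SL2Unip Cfsg.Agent.Lib.Helper2.SL2Tori Cfsg.Agent.Lib.Helper2.SL2Nonsplit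
  Cfsg.Agent.Lib.Helper2.SL2Orders Cfsg.Agent.Lib.Helper2.SL2Cover Cfsg.Agent.Lib.Helper2.Quad

section
variable {F : Type*} [Field F]

/-- torus elements from coordinates -/
def tn (a b x y : F) (h : x ^ 2 + a * x * y + b * y ^ 2 = 1) : Matrix.SpecialLinearGroup (Fin 2) F :=
  mk2 x (-b * y) y (x + a * y) (by linear_combination h)

theorem tn_val (a b x y : F) (h : x ^ 2 + a * x * y + b * y ^ 2 = 1) :
    ((tn a b x y h : Matrix.SpecialLinearGroup (Fin 2) F) : Matrix (Fin 2) (Fin 2) F) =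
      !![x, -b * y; y, x + a * y] := rfl

theorem tn_mem (a b x y : F) (h : x ^ 2 + a * x * y + b * y ^ 2 = 1) : tn a b x y h ∈ Tns a b := by
  rw [mem_Tns]
  exact ⟨⟨x, y⟩, by rw [tn_val, Mat_apply]⟩

/-- the unipotent subgroup -/
def uuHom : Multiplicative F →* Matrix.SpecialLinearGroup (Fin 2) F where
  toFun t := uu (Multiplicative.toAdd t)
  map_one' := by rw [toAdd_one, uu_zero]
  map_mul' s t := by rw [toAdd_mul, uu_mul]

theorem uuHom_injective : Function.Injective (uuHom (F := F)) := by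
  intro s t h
  exact Multiplicative.toAdd.injective (uu_injective h)

/-- the transported norm form in characteristic two -/
theorem norm_transport (h2 : (2 : F) = 0) (a b α β γ δ x y : F) (hdet : α * δ - β * γ = 1) :
    (α * x + β * y) ^ 2 + a * (α * x + β * y) * (γ * x + δ * y) + b * (γ * x + δ * y) ^ 2 =
      (x ^ 2 + a * x * y + b * y ^ 2) + ((α ^ 2 + a * α * γ + b * γ ^ 2) + 1) * x ^ 2 +
        ((β ^ 2 + a * β * δ + b * δ ^ 2) + b) * y ^ 2 := by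
  linear_combination (a * x * y) * hdet +
    (α * β * x * y + a * β * γ * x * y + b * γ * δ * x * y - x ^ 2 - b * y ^ 2) * h2

/-- a norm-one vector mapped to a norm-one vector -/
theorem exists_pair [Finite F] [CharP F 2] {a b : F} (hab : Aniso a b)
    (g : Matrix.SpecialLinearGroup (Fin 2) F) :
    ∃ x y : F, x ^ 2 + a * x * y + b * y ^ 2 = 1 ∧
      ((g : Matrix (Fin 2) (Fin 2) F) 0 0 * x + (g : Matrix (Fin 2) (Fin 2) F) 0 1 * y) ^ 2 +
        a * ((g : Matrix (Fin 2) (Fin 2) F) 0 0 * x + (g : Matrix (Fin 2) (Fin 2) F) 0 1 * y) *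
          ((g : Matrix (Fin 2) (Fin 2) F) 1 0 * x + (g : Matrix (Fin 2) (Fin 2) F) 1 1 * y) +
        b * ((g : Matrix (Fin 2) (Fin 2) F) 1 0 * x + (g : Matrix (Fin 2) (Fin 2) F) 1 1 * y) ^ 2 = 1 := by
  have h2 : (2 : F) = 0 := CharTwo.two_eq_zero
  obtain ⟨α, hα⟩ : ∃ α, α = (g : Matrix (Fin 2) (Fin 2) F) 0 0 := ⟨_, rfl⟩
  obtain ⟨β, hβ⟩ : ∃ β, β = (g : Matrix (Fin 2) (Fin 2) F) 0 1 := ⟨_, rfl⟩
  obtain ⟨γ, hγ⟩ : ∃ γ, γ = (g : Matrix (Fin 2) (Fin 2) F) 1 0 := ⟨_, rfl⟩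
  obtain ⟨δ, hδ⟩ : ∃ δ, δ = (g : Matrix (Fin 2) (Fin 2) F) 1 1 := ⟨_, rfl⟩
  have hdet : α * δ - β * γ = 1 := by
    have := g.det_coe
    rw [Matrix.det_fin_two, ← hα, ← hβ, ← hγ, ← hδ] at this
    exact this
  rw [← hα, ← hβ, ← hγ, ← hδ]
  obtain ⟨s, hs⟩ := FiniteField.isSquare_of_char_two (ringChar.eq F 2)
    ((α ^ 2 + a * α * γ + b * γ ^ 2) + 1)
  obtain ⟨t, ht⟩ := FiniteField.isSquare_of_char_two (ringChar.eq F 2)
    ((β ^ 2 + a * β * δ + b * δ ^ 2) + b)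
  by_cases hst : s = 0 ∧ t = 0
  · refine ⟨1, 0, by ring, ?_⟩
    rw [norm_transport h2 a b α β γ δ 1 0 hdet, hs, ht, hst.1, hst.2]
    ring
  · obtain ⟨N₀, hN₀⟩ : ∃ N₀ : F, N₀ = t ^ 2 + a * t * s + b * s ^ 2 := ⟨_, rfl⟩
    have hN₀0 : N₀ ≠ 0 := by
      intro h0
      apply hst
      have := hab t s (by rw [← hN₀, h0])
      exact ⟨this.2, this.1⟩
    obtain ⟨r, hr⟩ := FiniteField.isSquare_of_char_two (ringChar.eq F 2) N₀
    have hr0 : r ≠ 0 := by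
      rintro rfl
      apply hN₀0
      rw [hr, mul_zero]
    have hz : (t / r) ^ 2 + a * (t / r) * (s / r) + b * (s / r) ^ 2 = 1 := by
      field_simp
      linear_combination hr - hN₀
    refine ⟨t / r, s / r, hz, ?_⟩
    rw [norm_transport h2 a b α β γ δ (t / r) (s / r) hdet, hz, hs, ht]
    field_simp
    linear_combination (s ^ 2 * t ^ 2) * h2

/-- the `ABA` factorisation in `SL₂` -/
theorem aba [Finite F] [CharP F 2] {a b : F} (hab : Aniso a b)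
    (g : Matrix.SpecialLinearGroup (Fin 2) F) :
    ∃ a₁ ∈ Tns a b, ∃ t : F, ∃ a₂ ∈ Tns a b, g = a₁ * uu t * a₂ := by
  obtain ⟨x, y, hxy, hxy'⟩ := exists_pair hab g
  obtain ⟨α, hα⟩ : ∃ α, α = (g : Matrix (Fin 2) (Fin 2) F) 0 0 := ⟨_, rfl⟩
  obtain ⟨β, hβ⟩ : ∃ β, β = (g : Matrix (Fin 2) (Fin 2) F) 0 1 := ⟨_, rfl⟩
  obtain ⟨γ, hγ⟩ : ∃ γ, γ = (g : Matrix (Fin 2) (Fin 2) F) 1 0 := ⟨_, rfl⟩
  obtain ⟨δ, hδ⟩ : ∃ δ, δ = (g : Matrix (Fin 2) (Fin 2) F) 1 1 := ⟨_, rfl⟩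
  have hgval : (g : Matrix (Fin 2) (Fin 2) F) = !![α, β; γ, δ] := by
    rw [hα, hβ, hγ, hδ]; exact val_eq g
  rw [← hα, ← hβ, ← hγ, ← hδ] at hxy'
  obtain ⟨x', hx'⟩ : ∃ x', x' = α * x + β * y := ⟨_, rfl⟩
  obtain ⟨y', hy'⟩ : ∃ y', y' = γ * x + δ * y := ⟨_, rfl⟩
  rw [← hx', ← hy'] at hxy'
  obtain ⟨u, hu⟩ : ∃ u, u = (tn a b x' y' hxy')⁻¹ * g * tn a b x y hxy := ⟨_, rfl⟩
  have huval : (u : Matrix (Fin 2) (Fin 2) F) =
      !![x' + a * y', -(-b * y'); -y', x'] * !![α, β; γ, δ] * !![x, -b * y; y, x + a * y] := by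
    rw [hu, Matrix.SpecialLinearGroup.coe_mul, Matrix.SpecialLinearGroup.coe_mul, entry_inv, tn_val,
      tn_val, hgval]
    simp only [e00, e01, e10, e11]
  rw [Matrix.mul_fin_two, Matrix.mul_fin_two] at huval
  have h00 : (u : Matrix (Fin 2) (Fin 2) F) 0 0 = 1 := by
    rw [huval, e00]
    linear_combination hxy' + (x' + a * y' + b * y' * 0) * 0 + (-(x' + a * y')) * hx' + (-(b * y')) * hy'
  have h10 : (u : Matrix (Fin 2) (Fin 2) F) 1 0 = 0 := by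
    rw [huval, e10]
    linear_combination y' * hx' - x' * hy'
  have h11 : (u : Matrix (Fin 2) (Fin 2) F) 1 1 = 1 := by
    have hd := u.det_coe
    rw [Matrix.det_fin_two, h00, h10, mul_zero, sub_zero, one_mul] at hd
    exact hd
  have hu' := eq_uu h00 h11 h10
  refine ⟨tn a b x' y' hxy', tn_mem a b x' y' hxy', (u : Matrix (Fin 2) (Fin 2) F) 0 1,
    (tn a b x y hxy)⁻¹, (Tns a b).inv_mem (tn_mem a b x y hxy), ?_⟩
  rw [← hu', hu]
  group

end

open Cfsg.Agent.S2507 (e00 e01 e10 e11) in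
/-- Let F be a finite field with q = 2^t ≥ 4 elements and L = PSL(2,F). Then L has a cyclic subgroup A of order q + 1 and an elementary abelian 2-subgroup B of order q such that L = ABA: every element of L is a product a·b·a' with a, a' ∈ A and b ∈ B. -/
theorem result {F : Type*} [Field F] [Fintype F]
    (h2 : 2 ∣ Fintype.card F) (h4 : 4 ≤ Fintype.card F) :
    ∃ A B : Subgroup (Matrix.ProjectiveSpecialLinearGroup (Fin 2) F),
      IsCyclic A ∧ Nat.card A = Fintype.card F + 1 ∧ IsMulCommutative B ∧ (∀ b ∈ B, b * b = 1) ∧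
        Nat.card B = Fintype.card F ∧
        ∀ g : Matrix.ProjectiveSpecialLinearGroup (Fin 2) F, ∃ a ∈ A, ∃ b ∈ B, ∃ c ∈ A, g = a * b * c := by
  classical
  have hc2 : ringChar F = 2 := FiniteField.even_card_iff_char_two.2 (Nat.mod_eq_zero_of_dvd h2)
  haveI : CharP F 2 := ringChar.of_eq hc2
  obtain ⟨a, b, hab⟩ := Cfsg.Agent.S2475.exists_aniso (F := F) (by omega)
  haveI := Tns_cyclic hab
  have hinj := pr_injective (F := F)
  refine ⟨(Tns a b).map pr, (uuHom (F := F)).range.map pr, ?_, ?_, ?_, ?_, ?_, ?_⟩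
  · exact isCyclic_of_surjective ((Tns a b).equivMapOfInjective pr hinj)
      ((Tns a b).equivMapOfInjective pr hinj).surjective
  · rw [← Nat.card_congr ((Tns a b).equivMapOfInjective pr hinj).toEquiv, card_Tns hab]
  · refine ⟨⟨fun x y => ?_⟩⟩
    obtain ⟨x, hx⟩ := x
    obtain ⟨y, hy⟩ := y
    obtain ⟨_, ⟨s, rfl⟩, rfl⟩ := Subgroup.mem_map.1 hx
    obtain ⟨_, ⟨t, rfl⟩, rfl⟩ := Subgroup.mem_map.1 hy
    apply Subtype.ext
    show pr (uuHom s) * pr (uuHom t) = pr (uuHom t) * pr (uuHom s)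
    rw [← map_mul, ← map_mul, ← map_mul, ← map_mul, mul_comm]
  · intro x hx
    obtain ⟨_, ⟨s, rfl⟩, rfl⟩ := Subgroup.mem_map.1 hx
    rw [← map_mul]
    show pr (uu (Multiplicative.toAdd s) * uu (Multiplicative.toAdd s)) = 1
    rw [uu_mul, CharTwo.add_self_eq_zero, uu_zero, map_one]
  · rw [← Nat.card_congr ((uuHom (F := F)).range.equivMapOfInjective pr hinj).toEquiv,
      ← Nat.card_congr (MonoidHom.ofInjective (uuHom_injective (F := F))).toEquiv,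
      Nat.card_congr Multiplicative.toAdd, Nat.card_eq_fintype_card]
  · intro g
    obtain ⟨g₀, rfl⟩ := pr_surj g
    obtain ⟨a₁, ha₁, t, a₂, ha₂, hg⟩ := aba hab g₀
    refine ⟨pr a₁, Subgroup.mem_map.2 ⟨a₁, ha₁, rfl⟩, pr (uu t),
      Subgroup.mem_map.2 ⟨uu t, ⟨Multiplicative.ofAdd t, rfl⟩, rfl⟩, pr a₂,
      Subgroup.mem_map.2 ⟨a₂, ha₂, rfl⟩, ?_⟩
    rw [hg, map_mul, map_mul]

end Cfsg.Agent.S2503
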