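import Cfsg.Statements.S2505
import Mathlib

set_option autoImplicit false
open Cfsg

namespace Cfsg.Agent.S2505

/-- the largest product of a partition of `n` -/
def fmax : ℕ → ℕ
  | 0 => 1
  | 1 => 1
  | 2 => 2
  | 3 => 3
  | 4 => 4
  | (n+5) => 3 * fmax (n+2)

theorem fmax_step (n : ℕ) : fmax (n+5) = 3 * fmax (n+2) := by
  rw [fmax]

theorem fmax_add_three {n : ℕ} (h : n ≠ 1) : fmax (n+3) = 3 * fmax n := by
  match n, h with
  | 0, _ => rfl
  | 1, h => exact absurd rfl h
  | (m+2), _ => exact fmax_step m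

theorem three_mul_fmax_le (m : ℕ) : 3 * fmax m ≤ fmax (m+3) := by
  by_cases h : m = 1
  · subst h; decide
  · exact (fmax_add_three h).ge

theorem le_fmax : ∀ n, n ≤ fmax n
  | 0 => by decide
  | 1 => by decide
  | 2 => by decide
  | 3 => by decide
  | 4 => by decide
  | (n+5) => by
    have := le_fmax (n+2)
    rw [fmax_step]; omega

theorem fmax_mul_le_aux : ∀ (N a b : ℕ), a + b ≤ N → fmax a * fmax b ≤ fmax (a + b) := by
  intro N
  induction N with
  | zero =>
    intro a b h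
    have ha : a = 0 := by omega
    have hb : b = 0 := by omega
    subst ha; subst hb; decide
  | succ N ih =>
    intro a b h
    by_cases ha : 5 ≤ a
    · obtain ⟨a', rfl⟩ : ∃ a', a = a' + 5 := ⟨a - 5, by omega⟩
      have h1 : fmax (a'+5) = 3 * fmax (a'+2) := fmax_step a'
      have h2 := ih (a'+2) b (by omega)
      have h3 : 3 * fmax (a'+2+b) ≤ fmax (a'+2+b+3) := three_mul_fmax_le _
      have h4 : a' + 5 + b = a'+2+b+3 := by omega
      rw [h1, h4]
      calc 3 * fmax (a'+2) * fmax b = 3 * (fmax (a'+2) * fmax b) := by ring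
        _ ≤ 3 * fmax (a'+2+b) := Nat.mul_le_mul_left 3 h2
        _ ≤ _ := h3
    · by_cases hb : 5 ≤ b
      · obtain ⟨b', rfl⟩ : ∃ b', b = b' + 5 := ⟨b - 5, by omega⟩
        have h1 : fmax (b'+5) = 3 * fmax (b'+2) := fmax_step b'
        have h2 := ih a (b'+2) (by omega)
        have h3 : 3 * fmax (a+(b'+2)) ≤ fmax (a+(b'+2)+3) := three_mul_fmax_le _
        have h4 : a + (b' + 5) = a+(b'+2)+3 := by omega
        rw [h1, h4]
        calc fmax a * (3 * fmax (b'+2)) = 3 * (fmax a * fmax (b'+2)) := by ring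
          _ ≤ 3 * fmax (a+(b'+2)) := Nat.mul_le_mul_left 3 h2
          _ ≤ _ := h3
      · have ha' : a ≤ 4 := by omega
        have hb' : b ≤ 4 := by omega
        interval_cases a <;> interval_cases b <;> decide

theorem fmax_mul_le (a b : ℕ) : fmax a * fmax b ≤ fmax (a + b) :=
  fmax_mul_le_aux (a+b) a b le_rfl

theorem prod_le_fmax_sum {ι : Type*} (s : Finset ι) (n : ι → ℕ) :
    ∏ i ∈ s, n i ≤ fmax (∑ i ∈ s, n i) := by
  classical
  induction s using Finset.induction_on with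
  | empty => simp [fmax]
  | insert a s ha ih =>
    rw [Finset.prod_insert ha, Finset.sum_insert ha]
    calc n a * ∏ i ∈ s, n i ≤ fmax (n a) * fmax (∑ i ∈ s, n i) := Nat.mul_le_mul (le_fmax _) ih
      _ ≤ _ := fmax_mul_le _ _

theorem fmax_three_mul (k : ℕ) : fmax (3 * k) = 3 ^ k := by
  induction k with
  | zero => rfl
  | succ k ih =>
    have h : 3 * (k+1) = 3 * k + 3 := by ring
    rw [h, fmax_add_three (by omega), ih, pow_succ]; ring

theorem fmax_three_mul_add_two (k : ℕ) : fmax (3 * k + 2) = 2 * 3 ^ k := by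
  induction k with
  | zero => rfl
  | succ k ih =>
    have h : 3 * (k+1) + 2 = 3 * k + 2 + 3 := by ring
    rw [h, fmax_add_three (by omega), ih, pow_succ]; ring

theorem fmax_three_mul_add_one (k : ℕ) : fmax (3 * (k+1) + 1) = 4 * 3 ^ k := by
  induction k with
  | zero => rfl
  | succ k ih =>
    have h : 3 * (k+1+1) + 1 = 3 * (k+1) + 1 + 3 := by ring
    rw [h, fmax_add_three (by omega), ih, pow_succ]; ring

/-- upper bound for abelian permutation groups -/
theorem card_le_fmax {Ω : Type*} [Fintype Ω] (A : Subgroup (Equiv.Perm Ω))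
    (hA : IsMulCommutative A) : Nat.card A ≤ fmax (Fintype.card Ω) := by
  classical
  letI : Fintype (MulAction.orbitRel.Quotient A Ω) := Fintype.ofFinite _
  let φ : A → (∀ q : MulAction.orbitRel.Quotient A Ω, MulAction.orbit A (Quotient.out q)) :=
    fun a q => ⟨a • Quotient.out q, MulAction.mem_orbit _ _⟩
  have hφ : Function.Injective φ := by
    intro a b hab
    have h1 : ∀ q : MulAction.orbitRel.Quotient A Ω,
        a • (Quotient.out q : Ω) = b • (Quotient.out q : Ω) := fun q => by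
      have := congrFun hab q
      exact congrArg Subtype.val this
    apply Subtype.ext
    apply Equiv.ext
    intro x
    have hx : x ∈ MulAction.orbit A
        (Quotient.out (Quotient.mk'' x : MulAction.orbitRel.Quotient A Ω)) := by
      have h := (Quotient.out_eq' (Quotient.mk'' x : MulAction.orbitRel.Quotient A Ω)).symm
      exact (MulAction.orbitRel_apply).mp (Quotient.eq''.mp h)
    obtain ⟨c, hc⟩ := hx
    have hc' : c • (Quotient.out (Quotient.mk'' x : MulAction.orbitRel.Quotient A Ω)) = x := hc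
    show a • x = b • x
    rw [← hc', smul_smul, smul_smul, hA.is_comm.comm a c, hA.is_comm.comm b c, ← smul_smul,
      ← smul_smul, h1]
  have h2 : Nat.card A ≤ Nat.card (∀ q : MulAction.orbitRel.Quotient A Ω,
      MulAction.orbit A (Quotient.out q)) := Nat.card_le_card_of_injective φ hφ
  rw [Nat.card_pi] at h2
  have h3 : Fintype.card Ω = ∑ q : MulAction.orbitRel.Quotient A Ω,
      Nat.card (MulAction.orbit A (Quotient.out q)) := by
    rw [← Nat.card_eq_fintype_card, Nat.card_congr (MulAction.selfEquivSigmaOrbits A Ω),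
      Nat.card_sigma]
  rw [h3]
  exact h2.trans (prod_le_fmax_sum Finset.univ _)

/-- existence predicate -/
def E (n c : ℕ) : Prop :=
  ∃ A : Subgroup (Equiv.Perm (Fin n)), IsMulCommutative A ∧ Nat.card A = c

theorem E_zero : E 0 1 :=
  ⟨⊥, ⟨⟨fun x y => by
    have hx : x = 1 := Subsingleton.elim _ _
    have hy : y = 1 := Subsingleton.elim _ _
    rw [hx, hy]⟩⟩, Subgroup.card_bot⟩

theorem E_rot (n : ℕ) (hn : 2 ≤ n) : E n n := by
  refine ⟨Subgroup.zpowers (finRotate n), inferInstance, ?_⟩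
  rw [Nat.card_zpowers, (isCycle_finRotate_of_le hn).orderOf, support_finRotate_of_le hn,
    Finset.card_univ, Fintype.card_fin]

theorem E_add {m n a b : ℕ} (h1 : E m a) (h2 : E n b) : E (m + n) (a * b) := by
  obtain ⟨A, hA, rfl⟩ := h1
  obtain ⟨B, hB, rfl⟩ := h2
  let ψ : Equiv.Perm (Fin m) × Equiv.Perm (Fin n) →* Equiv.Perm (Fin (m + n)) :=
    (finSumFinEquiv.permCongrHom :
      Equiv.Perm (Fin m ⊕ Fin n) ≃* Equiv.Perm (Fin (m+n))).toMonoidHom.comp
      (Equiv.Perm.sumCongrHom (Fin m) (Fin n))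
  have hψ : Function.Injective ψ := by
    intro x y hxy
    have h1 : (finSumFinEquiv.permCongrHom :
      Equiv.Perm (Fin m ⊕ Fin n) ≃* Equiv.Perm (Fin (m+n))) (Equiv.Perm.sumCongrHom (Fin m) (Fin n) x)
      = (finSumFinEquiv.permCongrHom :
      Equiv.Perm (Fin m ⊕ Fin n) ≃* Equiv.Perm (Fin (m+n))) (Equiv.Perm.sumCongrHom (Fin m) (Fin n) y) := hxy
    exact Equiv.Perm.sumCongrHom_injective ((MulEquiv.injective _) h1)
  refine ⟨(A.prod B).map ψ, ?_, ?_⟩
  · refine ⟨⟨fun x y => ?_⟩⟩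
    obtain ⟨x, hx⟩ := x
    obtain ⟨y, hy⟩ := y
    obtain ⟨⟨a1, b1⟩, hab1, rfl⟩ := hx
    obtain ⟨⟨a2, b2⟩, hab2, rfl⟩ := hy
    have hab1' := Subgroup.mem_prod.mp hab1
    have hab2' := Subgroup.mem_prod.mp hab2
    apply Subtype.ext
    show ψ (a1,b1) * ψ (a2,b2) = ψ (a2,b2) * ψ (a1,b1)
    rw [← map_mul, ← map_mul]
    congr 1
    have ha := hA.is_comm.comm ⟨a1, hab1'.1⟩ ⟨a2, hab2'.1⟩
    have hb := hB.is_comm.comm ⟨b1, hab1'.2⟩ ⟨b2, hab2'.2⟩
    exact Prod.ext (congrArg Subtype.val ha) (congrArg Subtype.val hb)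
  · rw [Subgroup.card_map_of_injective hψ, Nat.card_congr (Subgroup.prodEquiv A B).toEquiv,
      Nat.card_prod]

theorem E_three_mul (k : ℕ) : E (3 * k) (3 ^ k) := by
  induction k with
  | zero => exact E_zero
  | succ k ih =>
    have h := E_add ih (E_rot 3 (by norm_num))
    have e1 : 3 * k + 3 = 3 * (k+1) := by ring
    have e2 : 3 ^ k * 3 = 3 ^ (k+1) := by ring
    rw [e1, e2] at h
    exact h

/-- The largest order of an abelian subgroup of the symmetric group of degree n is 3^k when n = 3k, 4·3^(k−1) when n = 3k + 1, and 2·3^k when n = 3k + 2, for every k ≥ 1. -/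
theorem result (k : ℕ) (hk : 1 ≤ k) :
    IsGreatest {c : ℕ | ∃ A : Subgroup (Equiv.Perm (Fin (3 * k))), IsMulCommutative A ∧ Nat.card A = c} (3 ^ k) ∧
    IsGreatest {c : ℕ | ∃ A : Subgroup (Equiv.Perm (Fin (3 * k + 1))), IsMulCommutative A ∧ Nat.card A = c}
      (4 * 3 ^ (k - 1)) ∧
    IsGreatest {c : ℕ | ∃ A : Subgroup (Equiv.Perm (Fin (3 * k + 2))), IsMulCommutative A ∧ Nat.card A = c}
      (2 * 3 ^ k) := by
  refine ⟨⟨?_, ?_⟩, ⟨?_, ?_⟩, ⟨?_, ?_⟩⟩
  · exact E_three_mul k
  · rintro c ⟨A, hA, rfl⟩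
    have h := card_le_fmax A hA
    rwa [Fintype.card_fin, fmax_three_mul] at h
  · obtain ⟨j, rfl⟩ : ∃ j, k = j + 1 := ⟨k - 1, by omega⟩
    have h := E_add (E_three_mul j) (E_rot 4 (by norm_num))
    have e1 : 3 * j + 4 = 3 * (j+1) + 1 := by ring
    have e2 : 3 ^ j * 4 = 4 * 3 ^ (j + 1 - 1) := by
      rw [Nat.add_sub_cancel]; ring
    rw [e1, e2] at h
    exact h
  · rintro c ⟨A, hA, rfl⟩
    obtain ⟨j, rfl⟩ : ∃ j, k = j + 1 := ⟨k - 1, by omega⟩
    have h := card_le_fmax A hA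
    rw [Fintype.card_fin, fmax_three_mul_add_one] at h
    simpa using h
  · have h := E_add (E_three_mul k) (E_rot 2 le_rfl)
    have e2 : 3 ^ k * 2 = 2 * 3 ^ k := by ring
    rw [e2] at h
    exact h
  · rintro c ⟨A, hA, rfl⟩
    have h := card_le_fmax A hA
    rwa [Fintype.card_fin, fmax_three_mul_add_two] at h

end Cfsg.Agent.S2505
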