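import Cfsg.Statements.S2504
import Mathlib
import Cfsg.Agent.S2505

set_option autoImplicit false
open Cfsg

namespace Cfsg.Agent.S2504

open Cfsg.Agent.S2505

/-! ### potential functions -/

/-- largest product of a partition of `n` with no part equal to `2` -/
def hmax : ℕ → ℕ
  | 0 => 1
  | 1 => 1
  | 2 => 1
  | 3 => 3
  | 4 => 4
  | 5 => 5
  | 6 => 9
  | 7 => 12
  | 8 => 16
  | (n+9) => 3 * hmax (n+6)

theorem hmax_step (n : ℕ) : hmax (n+9) = 3 * hmax (n+6) := by
  rw [hmax]

theorem hmax_add_three {m : ℕ} (h : 6 ≤ m) : hmax (m+3) = 3 * hmax m := by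
  obtain ⟨n, rfl⟩ : ∃ n, m = n + 6 := ⟨m - 6, by omega⟩
  exact hmax_step n

theorem three_mul_hmax_le (m : ℕ) : 3 * hmax m ≤ hmax (m+3) := by
  by_cases h : 6 ≤ m
  · exact (hmax_add_three h).ge
  · have : m ≤ 5 := by omega
    interval_cases m <;> decide

theorem le_hmax : ∀ n, n ≠ 2 → n ≤ hmax n
  | 0, _ => by decide
  | 1, _ => by decide
  | 2, h => absurd rfl h
  | 3, _ => by decide
  | 4, _ => by decide
  | 5, _ => by decide
  | 6, _ => by decide
  | 7, _ => by decide
  | 8, _ => by decide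
  | (n+9), _ => by
    have := le_hmax (n+6) (by omega)
    rw [hmax_step]; omega

theorem hmax_mul_le_aux : ∀ (N a b : ℕ), a + b ≤ N → hmax a * hmax b ≤ hmax (a + b) := by
  intro N
  induction N with
  | zero =>
    intro a b h
    have ha : a = 0 := by omega
    have hb : b = 0 := by omega
    subst ha; subst hb; decide
  | succ N ih =>
    intro a b h
    by_cases ha : 9 ≤ a
    · obtain ⟨a', rfl⟩ : ∃ a', a = a' + 9 := ⟨a - 9, by omega⟩
      have h1 : hmax (a'+9) = 3 * hmax (a'+6) := hmax_step a'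
      have h2 := ih (a'+6) b (by omega)
      have h3 : 3 * hmax (a'+6+b) ≤ hmax (a'+6+b+3) := three_mul_hmax_le _
      have h4 : a' + 9 + b = a'+6+b+3 := by omega
      rw [h1, h4]
      calc 3 * hmax (a'+6) * hmax b = 3 * (hmax (a'+6) * hmax b) := by ring
        _ ≤ 3 * hmax (a'+6+b) := Nat.mul_le_mul_left 3 h2
        _ ≤ _ := h3
    · by_cases hb : 9 ≤ b
      · obtain ⟨b', rfl⟩ : ∃ b', b = b' + 9 := ⟨b - 9, by omega⟩
        have h1 : hmax (b'+9) = 3 * hmax (b'+6) := hmax_step b'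
        have h2 := ih a (b'+6) (by omega)
        have h3 : 3 * hmax (a+(b'+6)) ≤ hmax (a+(b'+6)+3) := three_mul_hmax_le _
        have h4 : a + (b' + 9) = a+(b'+6)+3 := by omega
        rw [h1, h4]
        calc hmax a * (3 * hmax (b'+6)) = 3 * (hmax a * hmax (b'+6)) := by ring
          _ ≤ 3 * hmax (a+(b'+6)) := Nat.mul_le_mul_left 3 h2
          _ ≤ _ := h3
      · have ha' : a ≤ 8 := by omega
        have hb' : b ≤ 8 := by omega
        interval_cases a <;> interval_cases b <;> decide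

theorem hmax_mul_le (a b : ℕ) : hmax a * hmax b ≤ hmax (a + b) :=
  hmax_mul_le_aux (a+b) a b le_rfl

theorem hmax_val (k : ℕ) : hmax (3 * (k+2) + 2) = 16 * 3 ^ k := by
  induction k with
  | zero => rfl
  | succ k ih =>
    have h : 3 * (k+1+2) + 2 = 3 * (k+2) + 2 + 3 := by ring
    rw [h, hmax_add_three (by omega), ih, pow_succ]; ring

/-- largest product of a partition of `n` with some part different from `3` -/
def gmax : ℕ → ℕ
  | 0 => 0
  | 1 => 1
  | 2 => 2
  | 3 => 2
  | 4 => 4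
  | 5 => 6
  | 6 => 8
  | (n+7) => 3 * gmax (n+4)

theorem gmax_step (n : ℕ) : gmax (n+7) = 3 * gmax (n+4) := by
  rw [gmax]

theorem gmax_add_three {m : ℕ} (h : 4 ≤ m) : gmax (m+3) = 3 * gmax m := by
  obtain ⟨n, rfl⟩ : ∃ n, m = n + 4 := ⟨m - 4, by omega⟩
  exact gmax_step n

theorem three_mul_gmax_le (m : ℕ) : 3 * gmax m ≤ gmax (m+3) := by
  by_cases h : 4 ≤ m
  · exact (gmax_add_three h).ge
  · have : m ≤ 3 := by omega
    interval_cases m <;> decide

theorem le_gmax : ∀ n, n ≠ 3 → n ≤ gmax n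
  | 0, _ => by decide
  | 1, _ => by decide
  | 2, _ => by decide
  | 3, h => absurd rfl h
  | 4, _ => by decide
  | 5, _ => by decide
  | 6, _ => by decide
  | (n+7), _ => by
    have := le_gmax (n+4) (by omega)
    rw [gmax_step]; omega

theorem gmax_fmax_mul_le_aux : ∀ (N a b : ℕ), a + b ≤ N → gmax a * fmax b ≤ gmax (a + b) := by
  intro N
  induction N with
  | zero =>
    intro a b h
    have ha : a = 0 := by omega
    have hb : b = 0 := by omega
    subst ha; subst hb; decide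
  | succ N ih =>
    intro a b h
    by_cases ha : 7 ≤ a
    · obtain ⟨a', rfl⟩ : ∃ a', a = a' + 7 := ⟨a - 7, by omega⟩
      have h1 : gmax (a'+7) = 3 * gmax (a'+4) := gmax_step a'
      have h2 := ih (a'+4) b (by omega)
      have h3 : 3 * gmax (a'+4+b) ≤ gmax (a'+4+b+3) := three_mul_gmax_le _
      have h4 : a' + 7 + b = a'+4+b+3 := by omega
      rw [h1, h4]
      calc 3 * gmax (a'+4) * fmax b = 3 * (gmax (a'+4) * fmax b) := by ring
        _ ≤ 3 * gmax (a'+4+b) := Nat.mul_le_mul_left 3 h2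
        _ ≤ _ := h3
    · by_cases hb : 5 ≤ b
      · obtain ⟨b', rfl⟩ : ∃ b', b = b' + 5 := ⟨b - 5, by omega⟩
        have h1 : fmax (b'+5) = 3 * fmax (b'+2) := fmax_step b'
        have h2 := ih a (b'+2) (by omega)
        have h3 : 3 * gmax (a+(b'+2)) ≤ gmax (a+(b'+2)+3) := three_mul_gmax_le _
        have h4 : a + (b' + 5) = a+(b'+2)+3 := by omega
        rw [h1, h4]
        calc gmax a * (3 * fmax (b'+2)) = 3 * (gmax a * fmax (b'+2)) := by ring
          _ ≤ 3 * gmax (a+(b'+2)) := Nat.mul_le_mul_left 3 h2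
          _ ≤ _ := h3
      · have ha' : a ≤ 6 := by omega
        have hb' : b ≤ 4 := by omega
        interval_cases a <;> interval_cases b <;> decide

theorem gmax_fmax_mul_le (a b : ℕ) : gmax a * fmax b ≤ gmax (a + b) :=
  gmax_fmax_mul_le_aux (a+b) a b le_rfl

theorem gmax_val (k : ℕ) : gmax (3 * (k+2)) = 8 * 3 ^ k := by
  induction k with
  | zero => rfl
  | succ k ih =>
    have h : 3 * (k+1+2) = 3 * (k+2) + 3 := by ring
    rw [h, gmax_add_three (by omega), ih, pow_succ]; ring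

theorem prod_le_hmax_sum {ι : Type*} (s : Finset ι) (n : ι → ℕ) (h2 : ∀ i ∈ s, n i ≠ 2) :
    ∏ i ∈ s, n i ≤ hmax (∑ i ∈ s, n i) := by
  classical
  induction s using Finset.induction_on with
  | empty => simp [hmax]
  | insert a s ha ih =>
    rw [Finset.prod_insert ha, Finset.sum_insert ha]
    calc n a * ∏ i ∈ s, n i ≤ hmax (n a) * hmax (∑ i ∈ s, n i) :=
          Nat.mul_le_mul (le_hmax _ (h2 a (Finset.mem_insert_self a s)))
            (ih (fun i hi => h2 i (Finset.mem_insert_of_mem hi)))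
      _ ≤ _ := hmax_mul_le _ _

theorem prod_le_gmax_sum {ι : Type*} [DecidableEq ι] (s : Finset ι) (n : ι → ℕ) (i0 : ι)
    (hi0 : i0 ∈ s) (h3 : n i0 ≠ 3) :
    ∏ i ∈ s, n i ≤ gmax (∑ i ∈ s, n i) := by
  rw [← Finset.mul_prod_erase s n hi0, ← Finset.add_sum_erase s n hi0]
  calc n i0 * ∏ i ∈ s.erase i0, n i ≤ gmax (n i0) * fmax (∑ i ∈ s.erase i0, n i) :=
        Nat.mul_le_mul (le_gmax _ h3) (prod_le_fmax_sum _ _)
    _ ≤ _ := gmax_fmax_mul_le _ _

theorem main_comb {ι : Type*} [Fintype ι] [DecidableEq ι] (n : ι → ℕ) (k : ℕ)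
    (hsum : ∑ i, n i = 3 * (k+2) + 2) :
    ∏ i, n i ≤ 16 * 3 ^ k ∨ ∃ i0, n i0 = 2 ∧ ∀ i, i ≠ i0 → n i = 3 := by
  by_cases h : ∀ i, n i ≠ 2
  · left
    have := prod_le_hmax_sum Finset.univ n (fun i _ => h i)
    rwa [hsum, hmax_val] at this
  · push Not at h
    obtain ⟨i0, hi0⟩ := h
    by_cases h' : ∀ i, i ≠ i0 → n i = 3
    · right; exact ⟨i0, hi0, h'⟩
    · left
      push Not at h'
      obtain ⟨i1, hi1, hi1'⟩ := h'
      have hp : n i0 * ∏ i ∈ Finset.univ.erase i0, n i = ∏ i, n i :=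
        Finset.mul_prod_erase _ _ (Finset.mem_univ _)
      have hs : n i0 + ∑ i ∈ Finset.univ.erase i0, n i = ∑ i, n i :=
        Finset.add_sum_erase _ _ (Finset.mem_univ _)
      have hs' : ∑ i ∈ Finset.univ.erase i0, n i = 3 * (k+2) := by omega
      have := prod_le_gmax_sum (Finset.univ.erase i0) n i1
        (Finset.mem_erase.mpr ⟨hi1, Finset.mem_univ _⟩) hi1'
      rw [hs', gmax_val] at this
      rw [← hp, hi0]; omega

/-! ### orbits -/

theorem mem_orbit_out {Ω : Type*} (A : Subgroup (Equiv.Perm Ω)) (x : Ω) :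
    x ∈ MulAction.orbit A
      (Quotient.out (Quotient.mk'' x : MulAction.orbitRel.Quotient A Ω)) := by
  have h := (Quotient.out_eq' (Quotient.mk'' x : MulAction.orbitRel.Quotient A Ω)).symm
  exact (MulAction.orbitRel_apply).mp (Quotient.eq''.mp h)

theorem card_le_prod_orbits {Ω : Type*} [Fintype Ω] (A : Subgroup (Equiv.Perm Ω))
    (hA : IsMulCommutative A) [Fintype (MulAction.orbitRel.Quotient A Ω)] :
    Nat.card A ≤ ∏ q : MulAction.orbitRel.Quotient A Ω,
      Nat.card (MulAction.orbit A (Quotient.out q)) := by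
  classical
  let φ : A → (∀ q : MulAction.orbitRel.Quotient A Ω, MulAction.orbit A (Quotient.out q)) :=
    fun a q => ⟨a • Quotient.out q, MulAction.mem_orbit _ _⟩
  have hφ : Function.Injective φ := by
    intro a b hab
    have h1 : ∀ q : MulAction.orbitRel.Quotient A Ω,
        a • (Quotient.out q : Ω) = b • (Quotient.out q : Ω) := fun q => by
      have := congrFun hab q
      exact congrArg Subtype.val this
    apply Subtype.ext
    apply Equiv.ext
    intro x
    obtain ⟨c, hc⟩ := mem_orbit_out A x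
    have hc' : c • (Quotient.out (Quotient.mk'' x : MulAction.orbitRel.Quotient A Ω)) = x := hc
    show a • x = b • x
    rw [← hc', smul_smul, smul_smul, hA.is_comm.comm a c, hA.is_comm.comm b c, ← smul_smul,
      ← smul_smul, h1]
  have h2 := Nat.card_le_card_of_injective φ hφ
  rwa [Nat.card_pi] at h2

theorem sum_orbits {Ω : Type*} [Fintype Ω] (A : Subgroup (Equiv.Perm Ω))
    [Fintype (MulAction.orbitRel.Quotient A Ω)] :
    ∑ q : MulAction.orbitRel.Quotient A Ω,
      Nat.card (MulAction.orbit A (Quotient.out q)) = Fintype.card Ω := by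
  rw [← Nat.card_eq_fintype_card, Nat.card_congr (MulAction.selfEquivSigmaOrbits A Ω),
    Nat.card_sigma]

theorem eq_or_eq_of_ncard_two {α : Type*} {s : Set α} (hs : s.ncard = 2) {x y w : α}
    (hx : x ∈ s) (hy : y ∈ s) (hxy : x ≠ y) (hw : w ∈ s) : w = x ∨ w = y := by
  obtain ⟨u, v, huv, rfl⟩ := Set.ncard_eq_two.mp hs
  simp only [Set.mem_insert_iff, Set.mem_singleton_iff] at hx hy hw
  rcases hx with rfl | rfl <;> rcases hy with rfl | rfl <;> rcases hw with rfl | rfl <;> simp_all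

theorem bad_case {Ω : Type*} [Fintype Ω] [DecidableEq Ω] (B : Subgroup (Equiv.Perm Ω))
    (hB : IsMulCommutative B) (hle : B ≤ alternatingGroup Ω) (x : Ω)
    (h2 : Nat.card (MulAction.orbit B x) = 2)
    (h3 : ∀ z : Ω, z ∉ MulAction.orbit B x → Nat.card (MulAction.orbit B z) = 3) : False := by
  have hnorm : ∀ z : Ω, (MulAction.stabilizer B z).Normal := fun z => ⟨fun n hn g => by
    rw [hB.is_comm.comm g n, mul_inv_cancel_right]; exact hn⟩
  have hpow : ∀ (z : Ω) (b : B), b ^ (Nat.card (MulAction.orbit B z)) • z = z := by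
    intro z b
    haveI := hnorm z
    have h := (MulAction.stabilizer B z).pow_index_mem b
    rw [MulAction.index_stabilizer, ← Nat.card_coe_set_eq] at h
    exact MulAction.mem_stabilizer_iff.mp h
  have hncard : (MulAction.orbit B x).ncard = 2 := by
    rw [← Nat.card_coe_set_eq]; exact h2
  have hxo : x ∈ MulAction.orbit B x := MulAction.mem_orbit_self x
  have hfix : ∀ b : B, b • x = x := by
    intro b
    have hb2 : b ^ 2 • x = x := by
      have := hpow x b
      rwa [h2] at this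
    have hb3 : b ^ 3 • x = x := by
      by_contra hne
      have hyo : b ^ 3 • x ∈ MulAction.orbit B x := MulAction.mem_orbit x (b^3)
      have hyyo : b ^ 3 • (b ^ 3 • x) ∈ MulAction.orbit B x :=
        MulAction.mem_orbit_of_mem_orbit (b^3) hyo
      have hyy : b ^ 3 • (b ^ 3 • x) = x := by
        rcases eq_or_eq_of_ncard_two hncard hxo hyo (Ne.symm hne) hyyo with h | h
        · exact h
        · exact absurd (smul_left_cancel (b^3) h) hne
      have hswap : ((b ^ 3 : B) : Equiv.Perm Ω) = Equiv.swap x (b ^ 3 • x) := by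
        apply Equiv.ext
        intro z
        show (b ^ 3) • z = Equiv.swap x (b ^ 3 • x) z
        by_cases hzx : z = x
        · subst hzx; rw [Equiv.swap_apply_left]
        · by_cases hzy : z = b ^ 3 • x
          · rw [hzy, Equiv.swap_apply_right]; exact hyy
          · rw [Equiv.swap_apply_of_ne_of_ne hzx hzy]
            have hz : z ∉ MulAction.orbit B x := fun hz => by
              rcases eq_or_eq_of_ncard_two hncard hxo hyo (Ne.symm hne) hz with h | h
              · exact hzx h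
              · exact hzy h
            have := hpow z b
            rwa [h3 z hz] at this
      have hsign : Equiv.Perm.sign ((b ^ 3 : B) : Equiv.Perm Ω) = 1 :=
        Equiv.Perm.mem_alternatingGroup.mp (hle (b^3).2)
      rw [hswap, Equiv.Perm.sign_swap (Ne.symm hne)] at hsign
      exact absurd hsign (by decide)
    have e : b ^ 3 = b * b ^ 2 := pow_succ' b 2
    rw [e, mul_smul, hb2] at hb3
    exact hb3
  obtain ⟨u, v, huv, hs⟩ := Set.ncard_eq_two.mp hncard
  have hu : u ∈ MulAction.orbit B x := by rw [hs]; simp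
  have hv : v ∈ MulAction.orbit B x := by rw [hs]; simp
  obtain ⟨b1, hb1⟩ := hu
  obtain ⟨b2, hb2⟩ := hv
  have e1 : b1 • x = u := hb1
  have e2 : b2 • x = v := hb2
  rw [hfix b1] at e1
  rw [hfix b2] at e2
  exact huv (e1.symm.trans e2)

theorem card_le_of_alt {Ω : Type*} [Fintype Ω] [DecidableEq Ω] (k : ℕ)
    (hΩ : Fintype.card Ω = 3 * (k+2) + 2) (B : Subgroup (Equiv.Perm Ω))
    (hB : IsMulCommutative B) (hle : B ≤ alternatingGroup Ω) : Nat.card B ≤ 16 * 3 ^ k := by
  classical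
  letI : Fintype (MulAction.orbitRel.Quotient B Ω) := Fintype.ofFinite _
  have h1 := card_le_prod_orbits B hB
  have h2 := sum_orbits B
  rw [hΩ] at h2
  rcases main_comb (fun q : MulAction.orbitRel.Quotient B Ω =>
    Nat.card (MulAction.orbit B (Quotient.out q))) k h2 with h | ⟨q0, hq0, hq⟩
  · exact h1.trans h
  · exfalso
    refine bad_case B hB hle (Quotient.out q0) hq0 ?_
    intro z hz
    have hzq : (Quotient.mk'' z : MulAction.orbitRel.Quotient B Ω) ≠ q0 := by
      intro h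
      apply hz
      have := mem_orbit_out B z
      rwa [h] at this
    have h3 := hq _ hzq
    have horb : MulAction.orbit B z = MulAction.orbit B
        (Quotient.out (Quotient.mk'' z : MulAction.orbitRel.Quotient B Ω)) :=
      MulAction.orbit_eq_iff.mpr (mem_orbit_out B z)
    rw [horb]; exact h3

/-! ### transfer between `alternatingGroup` and `Perm` -/

theorem map_subtype_comm {n : ℕ} (A : Subgroup (alternatingGroup (Fin n)))
    (hA : IsMulCommutative A) :
    IsMulCommutative (A.map (alternatingGroup (Fin n)).subtype) := by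
  refine ⟨⟨fun x y => ?_⟩⟩
  obtain ⟨x, hx⟩ := x
  obtain ⟨y, hy⟩ := y
  obtain ⟨a, ha, rfl⟩ := hx
  obtain ⟨b, hb, rfl⟩ := hy
  apply Subtype.ext
  have := hA.is_comm.comm ⟨a, ha⟩ ⟨b, hb⟩
  have h2 : a * b = b * a := congrArg Subtype.val this
  show (alternatingGroup (Fin n)).subtype a * (alternatingGroup (Fin n)).subtype b
    = (alternatingGroup (Fin n)).subtype b * (alternatingGroup (Fin n)).subtype a
  rw [← map_mul, ← map_mul, h2]

theorem card_alt_le {n : ℕ} (A : Subgroup (alternatingGroup (Fin n)))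
    (hA : IsMulCommutative A) : Nat.card A ≤ fmax n := by
  have h := card_le_fmax (A.map (alternatingGroup (Fin n)).subtype) (map_subtype_comm A hA)
  rwa [Subgroup.card_map_of_injective (Subgroup.subtype_injective _), Fintype.card_fin] at h

theorem card_alt_le' (k : ℕ) (A : Subgroup (alternatingGroup (Fin (3 * (k+2) + 2))))
    (hA : IsMulCommutative A) : Nat.card A ≤ 16 * 3 ^ k := by
  have h := card_le_of_alt k (Fintype.card_fin _)
    (A.map (alternatingGroup (Fin (3 * (k+2) + 2))).subtype) (map_subtype_comm A hA)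
    (Subgroup.map_subtype_le A)
  rwa [Subgroup.card_map_of_injective (Subgroup.subtype_injective _)] at h

/-! ### existence -/

def EA (n c : ℕ) : Prop :=
  ∃ A : Subgroup (Equiv.Perm (Fin n)), IsMulCommutative A ∧ Nat.card A = c ∧
    A ≤ alternatingGroup (Fin n)

theorem exists_of_EA {n c : ℕ} (h : EA n c) :
    ∃ A : Subgroup (alternatingGroup (Fin n)), IsMulCommutative A ∧ Nat.card A = c := by
  obtain ⟨B, hB, rfl, hle⟩ := h
  refine ⟨B.subgroupOf (alternatingGroup (Fin n)), ?_, ?_⟩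
  · refine ⟨⟨fun x y => ?_⟩⟩
    obtain ⟨x, hx⟩ := x
    obtain ⟨y, hy⟩ := y
    have hx' : (x : Equiv.Perm (Fin n)) ∈ B := Subgroup.mem_subgroupOf.mp hx
    have hy' : (y : Equiv.Perm (Fin n)) ∈ B := Subgroup.mem_subgroupOf.mp hy
    have := hB.is_comm.comm ⟨_, hx'⟩ ⟨_, hy'⟩
    apply Subtype.ext
    show x * y = y * x
    apply Subtype.ext
    show (x : Equiv.Perm (Fin n)) * (y : Equiv.Perm (Fin n)) = y * x
    exact congrArg Subtype.val this
  · exact Nat.card_congr (Subgroup.subgroupOfEquivOfLe hle).toEquiv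

theorem EA_zero : EA 0 1 :=
  ⟨⊥, ⟨⟨fun x y => by
    have hx : x = 1 := Subsingleton.elim _ _
    have hy : y = 1 := Subsingleton.elim _ _
    rw [hx, hy]⟩⟩, Subgroup.card_bot, bot_le⟩

theorem EA_three : EA 3 3 := by
  refine ⟨Subgroup.zpowers (finRotate 3), inferInstance, ?_, ?_⟩
  · rw [Nat.card_zpowers, (isCycle_finRotate_of_le (by norm_num)).orderOf,
      support_finRotate_of_le (by norm_num), Finset.card_univ, Fintype.card_fin]
  · rw [Subgroup.zpowers_le]
    exact Equiv.Perm.mem_alternatingGroup.mpr (by rw [sign_finRotate]; decide)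

def a4 : Equiv.Perm (Fin 4) := Equiv.swap 0 1 * Equiv.swap 2 3
def b4 : Equiv.Perm (Fin 4) := Equiv.swap 0 2 * Equiv.swap 1 3
def V4fin : Finset (Equiv.Perm (Fin 4)) := {1, a4, b4, a4 * b4}

theorem V4fin_mul : ∀ x ∈ V4fin, ∀ y ∈ V4fin, x * y ∈ V4fin := by decide
theorem V4fin_inv : ∀ x ∈ V4fin, x⁻¹ ∈ V4fin := by decide
theorem V4fin_comm : ∀ x ∈ V4fin, ∀ y ∈ V4fin, x * y = y * x := by decide
theorem V4fin_sign : ∀ x ∈ V4fin, Equiv.Perm.sign x = 1 := by decide
theorem V4fin_card : V4fin.card = 4 := by decide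

def V4 : Subgroup (Equiv.Perm (Fin 4)) where
  carrier := {σ | σ ∈ V4fin}
  mul_mem' := fun {x y} hx hy => V4fin_mul x hx y hy
  one_mem' := by
    show (1 : Equiv.Perm (Fin 4)) ∈ V4fin
    decide
  inv_mem' := fun {x} hx => V4fin_inv x hx

theorem EA_four : EA 4 4 := by
  refine ⟨V4, ⟨⟨fun x y => Subtype.ext (V4fin_comm x.1 x.2 y.1 y.2)⟩⟩, ?_, ?_⟩
  · have h : Nat.card V4 = Nat.card {σ // σ ∈ V4fin} :=
      Nat.card_congr (Equiv.subtypeEquivRight (fun x => Iff.rfl))
    rw [h, Nat.card_eq_fintype_card, Fintype.card_coe, V4fin_card]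
  · intro x hx
    exact Equiv.Perm.mem_alternatingGroup.mpr (V4fin_sign x hx)

theorem EA_add {m n a b : ℕ} (h1 : EA m a) (h2 : EA n b) : EA (m + n) (a * b) := by
  obtain ⟨A, hA, rfl, hAle⟩ := h1
  obtain ⟨B, hB, rfl, hBle⟩ := h2
  let ψ : Equiv.Perm (Fin m) × Equiv.Perm (Fin n) →* Equiv.Perm (Fin (m + n)) :=
    (finSumFinEquiv.permCongrHom :
      Equiv.Perm (Fin m ⊕ Fin n) ≃* Equiv.Perm (Fin (m+n))).toMonoidHom.comp
      (Equiv.Perm.sumCongrHom (Fin m) (Fin n))
  have hψ : Function.Injective ψ := by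
    intro x y hxy
    have h1 : (finSumFinEquiv.permCongrHom :
      Equiv.Perm (Fin m ⊕ Fin n) ≃* Equiv.Perm (Fin (m+n)))
        (Equiv.Perm.sumCongrHom (Fin m) (Fin n) x)
      = (finSumFinEquiv.permCongrHom :
      Equiv.Perm (Fin m ⊕ Fin n) ≃* Equiv.Perm (Fin (m+n)))
        (Equiv.Perm.sumCongrHom (Fin m) (Fin n) y) := hxy
    exact Equiv.Perm.sumCongrHom_injective ((MulEquiv.injective _) h1)
  refine ⟨(A.prod B).map ψ, ?_, ?_, ?_⟩
  · refine ⟨⟨fun x y => ?_⟩⟩
    obtain ⟨x, hx⟩ := x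
    obtain ⟨y, hy⟩ := y
    obtain ⟨⟨a1, b1⟩, hab1, rfl⟩ := hx
    obtain ⟨⟨a2, b2⟩, hab2, rfl⟩ := hy
    have hab1' := Subgroup.mem_prod.mp hab1
    have hab2' := Subgroup.mem_prod.mp hab2
    apply Subtype.ext
    show ψ (a1,b1) * ψ (a2,b2) = ψ (a2,b2) * ψ (a1,b1)
    rw [← map_mul, ← map_mul]
    congr 1
    have ha := hA.is_comm.comm ⟨a1, hab1'.1⟩ ⟨a2, hab2'.1⟩
    have hb := hB.is_comm.comm ⟨b1, hab1'.2⟩ ⟨b2, hab2'.2⟩
    exact Prod.ext (congrArg Subtype.val ha) (congrArg Subtype.val hb)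
  · rw [Subgroup.card_map_of_injective hψ, Nat.card_congr (Subgroup.prodEquiv A B).toEquiv,
      Nat.card_prod]
  · rintro x ⟨⟨a1, b1⟩, hab1, rfl⟩
    have hab1' := Subgroup.mem_prod.mp hab1
    have ha : Equiv.Perm.sign a1 = 1 := Equiv.Perm.mem_alternatingGroup.mp (hAle hab1'.1)
    have hb : Equiv.Perm.sign b1 = 1 := Equiv.Perm.mem_alternatingGroup.mp (hBle hab1'.2)
    apply Equiv.Perm.mem_alternatingGroup.mpr
    show Equiv.Perm.sign (finSumFinEquiv.permCongr (Equiv.Perm.sumCongr a1 b1)) = 1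
    rw [Equiv.Perm.sign_permCongr, Equiv.Perm.sign_sumCongr, ha, hb, one_mul]

theorem EA_three_mul (k : ℕ) : EA (3 * k) (3 ^ k) := by
  induction k with
  | zero => exact EA_zero
  | succ k ih =>
    have h := EA_add ih EA_three
    have e1 : 3 * k + 3 = 3 * (k+1) := by ring
    have e2 : 3 ^ k * 3 = 3 ^ (k+1) := by ring
    rw [e1, e2] at h
    exact h

/-- The largest order of an abelian subgroup of the alternating group of degree n is 3^k when n = 3k, 4·3^(k−1) when n = 3k + 1, and 16·3^(k−2) when n = 3k + 2, for every k ≥ 2 (so for all degrees n ≥ 6). -/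
theorem result (k : ℕ) (hk : 2 ≤ k) :
    IsGreatest {c : ℕ | ∃ A : Subgroup (alternatingGroup (Fin (3 * k))), IsMulCommutative A ∧ Nat.card A = c} (3 ^ k) ∧
    IsGreatest {c : ℕ | ∃ A : Subgroup (alternatingGroup (Fin (3 * k + 1))), IsMulCommutative A ∧ Nat.card A = c}
      (4 * 3 ^ (k - 1)) ∧
    IsGreatest {c : ℕ | ∃ A : Subgroup (alternatingGroup (Fin (3 * k + 2))), IsMulCommutative A ∧ Nat.card A = c}
      (16 * 3 ^ (k - 2)) := by
  obtain ⟨j, rfl⟩ : ∃ j, k = j + 2 := ⟨k - 2, by omega⟩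
  refine ⟨⟨?_, ?_⟩, ⟨?_, ?_⟩, ⟨?_, ?_⟩⟩
  · exact exists_of_EA (EA_three_mul (j+2))
  · rintro c ⟨A, hA, rfl⟩
    have h := card_alt_le A hA
    rwa [fmax_three_mul] at h
  · have h := EA_add (EA_three_mul (j+1)) EA_four
    have e1 : 3 * (j+1) + 4 = 3 * (j+2) + 1 := by ring
    have e2 : 3 ^ (j+1) * 4 = 4 * 3 ^ (j + 2 - 1) := by
      rw [show j + 2 - 1 = j + 1 by omega]; ring
    rw [e1, e2] at h
    exact exists_of_EA h
  · rintro c ⟨A, hA, rfl⟩
    have h := card_alt_le A hA
    have e : fmax (3 * (j+2) + 1) = 4 * 3 ^ (j+1) := fmax_three_mul_add_one (j+1)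
    rw [e] at h
    rw [show j + 2 - 1 = j + 1 by omega]
    exact h
  · have h := EA_add (EA_add (EA_three_mul j) EA_four) EA_four
    have e1 : 3 * j + 4 + 4 = 3 * (j+2) + 2 := by ring
    have e2 : 3 ^ j * 4 * 4 = 16 * 3 ^ (j + 2 - 2) := by
      rw [Nat.add_sub_cancel]; ring
    rw [e1, e2] at h
    exact exists_of_EA h
  · rintro c ⟨A, hA, rfl⟩
    have h := card_alt_le' j A hA
    rw [Nat.add_sub_cancel]
    exact h

end Cfsg.Agent.S2504
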