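import Mathlib
import Cfsg.Statements.S2514

set_option autoImplicit false
open Cfsg

namespace Cfsg.Agent.S2514

theorem order_eq_of_pow_iff {A B : Type*} [Monoid A] [Monoid B] (a : A) (b : B)
    (h : ∀ N : ℕ, a ^ N = 1 ↔ b ^ N = 1) : orderOf a = orderOf b :=
  Nat.dvd_antisymm (orderOf_dvd_iff_pow_eq_one.mpr ((h _).mpr (pow_orderOf_eq_one b)))
    (orderOf_dvd_iff_pow_eq_one.mpr ((h _).mp (pow_orderOf_eq_one a)))

theorem exists_orderOf_eq_of_dvd {K : Type*} [Group K] [Finite K] (g : K) {d : ℕ}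
    (hd : d ∣ orderOf g) : ∃ y : K, orderOf y = d := by
  obtain ⟨e, he⟩ := hd
  have hpos : 0 < orderOf g := orderOf_pos g
  have he0 : e ≠ 0 := by
    rintro rfl
    rw [mul_zero] at he
    omega
  refine ⟨g ^ e, ?_⟩
  rw [orderOf_pow_of_dvd he0 ⟨d, by rw [he]; ring⟩, he]
  exact Nat.mul_div_cancel _ (Nat.pos_of_ne_zero he0)

theorem exists_max_order {K : Type*} [Group K] [Finite K] (g : K) :
    ∃ M, (M ∈ Set.range (orderOf : K → ℕ) ∧
      ∀ m ∈ Set.range (orderOf : K → ℕ), M ∣ m → m = M) ∧ orderOf g ∣ M := by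
  classical
  haveI := Fintype.ofFinite K
  obtain ⟨y, hy, hmax⟩ := Finset.exists_max_image
    (Finset.univ.filter (fun y : K => orderOf g ∣ orderOf y)) orderOf ⟨g, by simp⟩
  rw [Finset.mem_filter] at hy
  refine ⟨orderOf y, ⟨⟨y, rfl⟩, ?_⟩, hy.2⟩
  rintro _ ⟨z, rfl⟩ hdvd
  have h1 : orderOf z ≤ orderOf y :=
    hmax z (by rw [Finset.mem_filter]; exact ⟨Finset.mem_univ _, hy.2.trans hdvd⟩)
  have h2 : orderOf y ≤ orderOf z := Nat.le_of_dvd (orderOf_pos z) hdvd
  omega

theorem pi_pow_eq_one {G : Type*} [Group G] {n : ℕ} (x : Fin n → G) (N : ℕ) :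
    x ^ N = 1 ↔ ∀ i, x i ^ N = 1 := by
  rw [funext_iff]; rfl

theorem prod_pow_eq_one {G H : Type*} [Group G] [Group H] {n : ℕ} (f : Fin n → G) (h : H) (N : ℕ) :
    ((f, h) : (Fin n → G) × H) ^ N = 1 ↔ (∀ i, f i ^ N = 1) ∧ h ^ N = 1 := by
  rw [Prod.ext_iff, ← pi_pow_eq_one]; rfl

theorem pow_eq_one_iff_of_order_eq {A B : Type*} [Monoid A] [Monoid B] {a : A} {b : B}
    (h : orderOf a = orderOf b) (N : ℕ) : a ^ N = 1 ↔ b ^ N = 1 := by
  rw [← orderOf_dvd_iff_pow_eq_one, h, orderOf_dvd_iff_pow_eq_one]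

theorem result {G H : Type*} [Group G] [Finite G] [Group H] [Finite H] (k : ℕ) (hk : 1 ≤ k)
    (hsub : {n : ℕ | n ∈ Set.range (orderOf : H → ℕ) ∧ ∀ m ∈ Set.range (orderOf : H → ℕ), n ∣ m → m = n} ⊆ {n : ℕ | n ∈ Set.range (orderOf : G → ℕ) ∧ ∀ m ∈ Set.range (orderOf : G → ℕ), n ∣ m → m = n})
    (hfew : ({n : ℕ | n ∈ Set.range (orderOf : G → ℕ) ∧ ∀ m ∈ Set.range (orderOf : G → ℕ), n ∣ m → m = n} \ {n : ℕ | n ∈ Set.range (orderOf : H → ℕ) ∧ ∀ m ∈ Set.range (orderOf : H → ℕ), n ∣ m → m = n}).ncard < k) :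
    Set.range (orderOf : (Fin k → G) → ℕ) = Set.range (orderOf : (Fin (k - 1) → G) × H → ℕ) := by
  have key : ∀ k' : ℕ, k' + 1 = k → Set.range (orderOf : (Fin k → G) → ℕ) =
      Set.range (orderOf : (Fin k' → G) × H → ℕ) := by
    intro k' hk'
    subst hk'
    have hHG : ∀ h : H, ∃ g : G, orderOf g = orderOf h := by
      intro h
      obtain ⟨M, hM, hdvd⟩ := exists_max_order h
      obtain ⟨⟨y, hy⟩, -⟩ := hsub hM
      exact exists_orderOf_eq_of_dvd y (by rw [hy]; exact hdvd)
    apply Set.eq_of_subset_of_subset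
    · rintro _ ⟨x, rfl⟩
      have hm : ∀ i, ∃ M, (M ∈ Set.range (orderOf : G → ℕ) ∧
          ∀ m ∈ Set.range (orderOf : G → ℕ), M ∣ m → m = M) ∧ orderOf (x i) ∣ M :=
        fun i => exists_max_order (x i)
      choose m hm1 hm2 using hm
      by_cases ha : ∃ i, ∃ h : H, orderOf h = orderOf (x i)
      · obtain ⟨i, h, hh⟩ := ha
        refine ⟨(fun j => x (i.succAbove j), h), ?_⟩
        apply order_eq_of_pow_iff
        intro N
        rw [prod_pow_eq_one, pi_pow_eq_one, Fin.forall_iff_succAbove i,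
          pow_eq_one_iff_of_order_eq hh N]
        exact and_comm
      · have hninj : ¬ Function.Injective m := by
          intro hinj
          have hsubset : Set.range m ⊆ ({n : ℕ | n ∈ Set.range (orderOf : G → ℕ) ∧ ∀ m ∈ Set.range (orderOf : G → ℕ), n ∣ m → m = n} \ {n : ℕ | n ∈ Set.range (orderOf : H → ℕ) ∧ ∀ m ∈ Set.range (orderOf : H → ℕ), n ∣ m → m = n}) := by
            rintro _ ⟨i, rfl⟩
            refine ⟨hm1 i, ?_⟩
            rintro ⟨⟨h, hh⟩, -⟩
            obtain ⟨h', hh'⟩ := exists_orderOf_eq_of_dvd h (d := orderOf (x i)) (by rw [hh]; exact hm2 i)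
            exact ha ⟨i, h', hh'⟩
          have hfin : ({n : ℕ | n ∈ Set.range (orderOf : G → ℕ) ∧ ∀ m ∈ Set.range (orderOf : G → ℕ), n ∣ m → m = n} \ {n : ℕ | n ∈ Set.range (orderOf : H → ℕ) ∧ ∀ m ∈ Set.range (orderOf : H → ℕ), n ∣ m → m = n}).Finite :=
            (Set.finite_range (orderOf : G → ℕ)).subset (fun n hn => hn.1.1)
          have hle := Set.ncard_le_ncard hsubset hfin
          rw [Set.ncard_range_of_injective hinj, Nat.card_fin] at hle
          omega
        rw [Function.Injective] at hninj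
        simp only [not_forall] at hninj
        obtain ⟨i, j, hij, hne⟩ := hninj
        obtain ⟨y0, hy0⟩ := (hm1 i).1
        obtain ⟨y, hy⟩ := exists_orderOf_eq_of_dvd y0
          (d := Nat.lcm (orderOf (x i)) (orderOf (x j)))
          (by rw [hy0]; exact Nat.lcm_dvd (hm2 i) (hij ▸ hm2 j))
        refine ⟨(fun t => (Function.update (Function.update x i y) j 1) (j.succAbove t), 1), ?_⟩
        apply order_eq_of_pow_iff
        intro N
        rw [prod_pow_eq_one, pi_pow_eq_one]
        simp only [one_pow, and_true]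
        have hy' : y ^ N = 1 ↔ x i ^ N = 1 ∧ x j ^ N = 1 := by
          rw [← orderOf_dvd_iff_pow_eq_one, hy, Nat.lcm_dvd_iff, orderOf_dvd_iff_pow_eq_one,
            orderOf_dvd_iff_pow_eq_one]
        constructor
        · intro hall t
          have hyN : y ^ N = 1 := by
            obtain ⟨t', ht'⟩ := Fin.exists_succAbove_eq hne
            have := hall t'
            rwa [ht', Function.update_of_ne hne, Function.update_self] at this
          by_cases htj : t = j
          · rw [htj]; exact (hy'.mp hyN).2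
          · by_cases hti : t = i
            · rw [hti]; exact (hy'.mp hyN).1
            · obtain ⟨t', ht'⟩ := Fin.exists_succAbove_eq htj
              have := hall t'
              rwa [ht', Function.update_of_ne htj, Function.update_of_ne hti] at this
        · intro hall t
          have hall' : ∀ t, t ≠ j → (Function.update (Function.update x i y) j 1) t ^ N = 1 := by
            intro t htj
            rw [Function.update_of_ne htj]
            by_cases hti : t = i
            · subst hti; rw [Function.update_self]; exact hy'.mpr ⟨hall t, hall j⟩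
            · rw [Function.update_of_ne hti]; exact hall t
          exact hall' _ (Fin.succAbove_ne j t)
    · rintro _ ⟨⟨f, h⟩, rfl⟩
      obtain ⟨g, hg⟩ := hHG h
      refine ⟨(Fin.cons g f : Fin (k' + 1) → G), ?_⟩
      apply order_eq_of_pow_iff
      intro N
      rw [prod_pow_eq_one, pi_pow_eq_one, Fin.forall_fin_succ]
      simp only [Fin.cons_zero, Fin.cons_succ]
      rw [pow_eq_one_iff_of_order_eq hg N]
      exact and_comm
  obtain ⟨k', hk'⟩ : ∃ k', k' + 1 = k := ⟨k - 1, by omega⟩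
  have h2 := key k' hk'
  have h3 : k - 1 = k' := by omega
  rw [h3]
  exact h2

end Cfsg.Agent.S2514
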