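import Mathlib
import Cfsg.Statements.S2516

set_option autoImplicit false
open Cfsg

namespace Cfsg.Agent.S2516

theorem result {F : Type*} [Field F] (p : ℕ) [Fact p.Prime] [CharP F p] {V : Type*} [AddCommGroup V] [Module F V] [FiniteDimensional F V] [Nontrivial V]
    {G : Type*} [Group G] [Finite G] (ρ : Representation F G V) (g : G) :
    (∃ x : Multiplicative V ⋊[(MulAutMultiplicative V).symm.toMonoidHom.comp
        ((DistribMulAction.toAddAut ((V →ₗ[F] V)ˣ) V).comp ρ.asGroupHom)] G,
        x.right = g ∧ orderOf x = p * orderOf g) ↔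
      ¬ (minpoly F (ρ g) ∣ ∑ i ∈ Finset.range (orderOf g), (Polynomial.X : Polynomial F) ^ i) := by
  have hp : p.Prime := Fact.out
  have hφ_apply : ∀ (h : G) (v : Multiplicative V),
      ((MulAutMultiplicative V).symm.toMonoidHom.comp
        ((DistribMulAction.toAddAut ((V →ₗ[F] V)ˣ) V).comp ρ.asGroupHom)) h v =
        Multiplicative.ofAdd (ρ h (Multiplicative.toAdd v)) := by
    intro h v; rfl
  have hpow : ∀ (g : G) (v : Multiplicative V) (n : ℕ),
      ((⟨v, g⟩ : Multiplicative V ⋊[(MulAutMultiplicative V).symm.toMonoidHom.comp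
        ((DistribMulAction.toAddAut ((V →ₗ[F] V)ˣ) V).comp ρ.asGroupHom)] G) ^ n) =
      ⟨Multiplicative.ofAdd (∑ i ∈ Finset.range n, ((ρ g) ^ i) (Multiplicative.toAdd v)), g ^ n⟩ := by
    intro g v n
    induction n with
    | zero =>
      rw [pow_zero, pow_zero, Finset.range_zero, Finset.sum_empty]
      rfl
    | succ n ih =>
      rw [pow_succ, ih]
      ext
      · rw [SemidirectProduct.mul_left]
        simp only []
        rw [hφ_apply, map_pow, Finset.sum_range_succ, ofAdd_add]
      · rw [SemidirectProduct.mul_right]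
        simp only []
        rw [pow_succ]
  have hk : 0 < orderOf g := orderOf_pos g
  have haeval : Polynomial.aeval (ρ g) (∑ i ∈ Finset.range (orderOf g), (Polynomial.X : Polynomial F) ^ i) =
      ∑ i ∈ Finset.range (orderOf g), (ρ g) ^ i := by
    simp [map_sum]
  rw [minpoly.dvd_iff, haeval]
  constructor
  · rintro ⟨x, hxr, hxo⟩ hS
    have hx : x = ⟨x.left, g⟩ := by
      ext
      · rfl
      · exact hxr
    have hxk : x ^ orderOf g = 1 := by
      rw [hx, hpow, pow_orderOf_eq_one]
      have : ∑ i ∈ Finset.range (orderOf g), ((ρ g) ^ i) (Multiplicative.toAdd x.left) =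
          (∑ i ∈ Finset.range (orderOf g), (ρ g) ^ i) (Multiplicative.toAdd x.left) := by
        rw [LinearMap.sum_apply]
      rw [this, hS]
      ext
      · simp
      · simp
    have hdvd := orderOf_dvd_of_pow_eq_one hxk
    rw [hxo] at hdvd
    have hle := Nat.le_of_dvd hk hdvd
    have h2 := hp.two_le
    nlinarith
  · intro hS
    obtain ⟨v, hv⟩ : ∃ v, (∑ i ∈ Finset.range (orderOf g), (ρ g) ^ i) v ≠ 0 := by
      by_contra hcon
      apply hS
      ext v
      by_contra hv
      exact hcon ⟨v, hv⟩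
    refine ⟨⟨Multiplicative.ofAdd v, g⟩, rfl, ?_⟩
    obtain ⟨x, hx⟩ : ∃ x : Multiplicative V ⋊[(MulAutMultiplicative V).symm.toMonoidHom.comp
        ((DistribMulAction.toAddAut ((V →ₗ[F] V)ˣ) V).comp ρ.asGroupHom)] G,
        x = ⟨Multiplicative.ofAdd v, g⟩ := ⟨_, rfl⟩
    rw [← hx]
    have hxk : x ^ orderOf g = ⟨Multiplicative.ofAdd ((∑ i ∈ Finset.range (orderOf g), (ρ g) ^ i) v), 1⟩ := by
      rw [hx, hpow, pow_orderOf_eq_one, LinearMap.sum_apply]
      rfl
    have hxkp : x ^ (orderOf g * p) = 1 := by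
      rw [pow_mul, hxk, hpow]
      ext
      · simp only [map_one, one_pow, Module.End.one_apply, Finset.sum_const, Finset.card_range,
          SemidirectProduct.one_left]
        rw [← Nat.cast_smul_eq_nsmul F, CharP.cast_eq_zero, zero_smul]
        rfl
      · simp
    have h1 : orderOf g ∣ orderOf x := by
      rw [orderOf_dvd_iff_pow_eq_one]
      have hr : ∀ n : ℕ, (x ^ n).right = g ^ n := by
        intro n; rw [hx, hpow]
      have := congrArg SemidirectProduct.right (pow_orderOf_eq_one x)
      rw [hr] at this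
      exact this
    have h2 : orderOf x ∣ orderOf g * p := orderOf_dvd_of_pow_eq_one hxkp
    obtain ⟨d, hd⟩ := h1
    rw [hd] at h2
    have h3 : d ∣ p := Nat.dvd_of_mul_dvd_mul_left hk h2
    rcases (Nat.dvd_prime hp).mp h3 with rfl | rfl
    · exfalso
      rw [mul_one] at hd
      have := pow_orderOf_eq_one x
      rw [hd, hxk] at this
      have h4 : Multiplicative.ofAdd ((∑ i ∈ Finset.range (orderOf g), (ρ g) ^ i) v) = 1 :=
        congrArg SemidirectProduct.left this
      exact hv (ofAdd_eq_one.mp h4)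
    · rw [hd, mul_comm]

end Cfsg.Agent.S2516
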