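import Cfsg.Statements.S2530

set_option autoImplicit false
open Cfsg

namespace Cfsg.Agent.S2530


universe u

/-- Coxeter relations of type A for the first `m` members of an `ℕ`-indexed family. -/
def Rel {G : Type*} [Group G] (t : ℕ → G) (m : ℕ) : Prop :=
  (∀ i, i < m → t i * t i = 1) ∧
  (∀ i j, i + 1 < j → j < m → t i * t j = t j * t i) ∧
  (∀ i, i + 1 < m → t i * t (i + 1) * t i = t (i + 1) * t i * t (i + 1))

/-- `cw t k = t 0 * t 1 * ... * t (k-1)` -/
def cw {G : Type*} [Group G] (t : ℕ → G) : ℕ → G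
  | 0 => 1
  | (k + 1) => cw t k * t k

theorem cw_zero {G : Type*} [Group G] (t : ℕ → G) : cw t 0 = 1 := rfl

theorem cw_succ {G : Type*} [Group G] (t : ℕ → G) (k : ℕ) : cw t (k + 1) = cw t k * t k := rfl

theorem cw_comm {G : Type*} [Group G] (t : ℕ → G) (m : ℕ) (h : Rel t m) :
    ∀ k j, k < j → j < m → cw t k * t j = t j * cw t k := by
  intro k
  induction k with
  | zero => intro j _ _; rw [cw_zero, one_mul, mul_one]
  | succ k ih =>
    intro j hkj hjm
    rw [cw_succ, mul_assoc, h.2.1 k j hkj hjm, ← mul_assoc, ih j (by omega) hjm, mul_assoc]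

theorem cw_braid {G : Type*} [Group G] (t : ℕ → G) (m : ℕ) (h : Rel t m) (j : ℕ) :
    ∀ k, j + 2 ≤ k → k ≤ m → cw t k * t j = t (j + 1) * cw t k := by
  have key : ∀ d, j + 2 + d ≤ m → cw t (j + 2 + d) * t j = t (j + 1) * cw t (j + 2 + d) := by
    intro d
    induction d with
    | zero =>
      intro hm
      have e1 : cw t (j + 2 + 0) = cw t j * t j * t (j + 1) := rfl
      rw [e1]
      have hc := cw_comm t m h j (j + 1) (by omega) (by omega)
      calc cw t j * t j * t (j + 1) * t j = cw t j * (t j * t (j + 1) * t j) := by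
            simp only [mul_assoc]
        _ = cw t j * (t (j + 1) * t j * t (j + 1)) := by rw [h.2.2 j (by omega)]
        _ = cw t j * t (j + 1) * (t j * t (j + 1)) := by simp only [mul_assoc]
        _ = t (j + 1) * cw t j * (t j * t (j + 1)) := by rw [hc]
        _ = t (j + 1) * (cw t j * t j * t (j + 1)) := by simp only [mul_assoc]
    | succ d ih =>
      intro hm
      have e1 : cw t (j + 2 + (d + 1)) = cw t (j + 2 + d) * t (j + 2 + d) := rfl
      rw [e1]
      have hr := h.2.1 j (j + 2 + d) (by omega) (by omega)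
      calc cw t (j + 2 + d) * t (j + 2 + d) * t j
          = cw t (j + 2 + d) * (t (j + 2 + d) * t j) := by rw [mul_assoc]
        _ = cw t (j + 2 + d) * (t j * t (j + 2 + d)) := by rw [hr]
        _ = cw t (j + 2 + d) * t j * t (j + 2 + d) := by rw [mul_assoc]
        _ = t (j + 1) * cw t (j + 2 + d) * t (j + 2 + d) := by rw [ih (by omega)]
        _ = t (j + 1) * (cw t (j + 2 + d) * t (j + 2 + d)) := by rw [mul_assoc]
  intro k hk hkm
  obtain ⟨d, rfl⟩ := Nat.exists_eq_add_of_le hk
  exact key d hkm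

theorem coset_step {G : Type*} [Group G] (t : ℕ → G) (m : ℕ) (h : Rel t (m + 1))
    (H : Subgroup G) (hH : ∀ i, 1 ≤ i → i ≤ m → t i ∈ H) :
    ∀ k, k ≤ m + 1 → ∀ j, j ≤ m →
      ∃ h' ∈ H, ∃ k', k' ≤ m + 1 ∧ cw t k * t j = h' * cw t k' := by
  intro k hk j hj
  rcases lt_trichotomy j k with hjk | hjk | hjk
  · by_cases h1 : j + 1 = k
    · subst h1
      refine ⟨1, H.one_mem, j, by omega, ?_⟩
      rw [cw_succ, mul_assoc, h.1 j (by omega), mul_one, one_mul]
    · refine ⟨t (j + 1), hH (j + 1) (by omega) (by omega), k, hk, ?_⟩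
      exact cw_braid t (m + 1) h j k (by omega) hk
  · subst hjk
    exact ⟨1, H.one_mem, j + 1, by omega, by rw [one_mul, cw_succ]⟩
  · refine ⟨t j, hH j (by omega) hj, k, hk, ?_⟩
    exact cw_comm t (m + 1) h k j hjk (by omega)

theorem card_bound {G : Type*} [Group G] (t : ℕ → G) (m : ℕ) (h : Rel t (m + 1))
    (hgen : Subgroup.closure {g | ∃ i, i < m + 1 ∧ g = t i} = ⊤)
    (H : Subgroup G) (hH : ∀ i, 1 ≤ i → i ≤ m → t i ∈ H) [Finite H] :
    Finite G ∧ Nat.card G ≤ Nat.card H * (m + 2) := by
  have step : ∀ x : G, (∃ h' ∈ H, ∃ k, k ≤ m + 1 ∧ x = h' * cw t k) → ∀ i, i < m + 1 →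
      ∃ h' ∈ H, ∃ k, k ≤ m + 1 ∧ x * t i = h' * cw t k := by
    rintro x ⟨h', hh', k, hk, rfl⟩ i hi
    obtain ⟨h'', hh'', k', hk', he⟩ := coset_step t m h H hH k hk i (by omega)
    exact ⟨h' * h'', H.mul_mem hh' hh'', k', hk', by rw [mul_assoc, he, mul_assoc]⟩
  have hX : ∀ g : G, ∃ h' ∈ H, ∃ k, k ≤ m + 1 ∧ g = h' * cw t k := by
    intro g
    have hg : g ∈ Subgroup.closure {g | ∃ i, i < m + 1 ∧ g = t i} := by rw [hgen]; trivial
    induction hg using Subgroup.closure_induction_right with
    | one => exact ⟨1, H.one_mem, 0, by omega, by rw [cw_zero, one_mul]⟩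
    | mul_right x hx y hy ih =>
      obtain ⟨i, hi, rfl⟩ := hy
      exact step x ih i hi
    | mul_inv_cancel x hx y hy ih =>
      obtain ⟨i, hi, rfl⟩ := hy
      have hinv : (t i)⁻¹ = t i := inv_eq_of_mul_eq_one_right (h.1 i hi)
      rw [hinv]
      exact step x ih i hi
  have hsurj : Function.Surjective (fun p : ↥H × Fin (m + 2) => (p.1 : G) * cw t p.2.val) := by
    intro g
    obtain ⟨h', hh', k, hk, rfl⟩ := hX g
    exact ⟨(⟨h', hh'⟩, ⟨k, by omega⟩), rfl⟩
  refine ⟨Finite.of_surjective _ hsurj, ?_⟩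
  have := Nat.card_le_card_of_surjective _ hsurj
  rwa [Nat.card_prod, Nat.card_fin] at this

theorem coxeterA_card : ∀ (m : ℕ) (G : Type u) [Group G] (t : ℕ → G), Rel t m →
    Subgroup.closure {g | ∃ i, i < m ∧ g = t i} = ⊤ →
    Finite G ∧ Nat.card G ≤ (m + 1).factorial := by
  intro m
  induction m with
  | zero =>
    intro G _ t _ hgen
    have hset : {g : G | ∃ i, i < 0 ∧ g = t i} = ∅ := by
      ext g; simp
    rw [hset, Subgroup.closure_empty] at hgen
    haveI : Subsingleton G := by
      refine ⟨fun a b => ?_⟩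
      have ha : a ∈ (⊥ : Subgroup G) := by rw [hgen]; trivial
      have hb : b ∈ (⊥ : Subgroup G) := by rw [hgen]; trivial
      rw [Subgroup.mem_bot] at ha hb; rw [ha, hb]
    refine ⟨inferInstance, ?_⟩
    rw [Nat.card_of_subsingleton (1 : G)]
    exact Nat.factorial_pos _
  | succ m ih =>
    intro G _ t hrel hgen
    obtain ⟨S, hS⟩ : ∃ S : Set G, S = {g | ∃ i, 1 ≤ i ∧ i < m + 1 ∧ g = t i} := ⟨_, rfl⟩
    have hSmem : ∀ g, g ∈ S ↔ ∃ i, 1 ≤ i ∧ i < m + 1 ∧ g = t i := by
      intro g; rw [hS]; rfl
    have hex : ∀ i, ∃ x : ↥(Subgroup.closure S), i < m → (x : G) = t (i + 1) := by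
      intro i
      by_cases hi : i < m
      · refine ⟨⟨t (i + 1), Subgroup.subset_closure ?_⟩, fun _ => rfl⟩
        exact (hSmem _).2 ⟨i + 1, by omega, by omega, rfl⟩
      · exact ⟨1, fun h => absurd h hi⟩
    choose t' ht' using hex
    have hrel' : Rel t' m := by
      refine ⟨?_, ?_, ?_⟩
      · intro i hi
        apply Subtype.ext
        rw [Subgroup.coe_mul, ht' i hi, Subgroup.coe_one]
        exact hrel.1 (i + 1) (by omega)
      · intro i j hij hj
        apply Subtype.ext
        rw [Subgroup.coe_mul, Subgroup.coe_mul, ht' i (by omega), ht' j hj]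
        exact hrel.2.1 (i + 1) (j + 1) (by omega) (by omega)
      · intro i hi
        apply Subtype.ext
        simp only [Subgroup.coe_mul]
        rw [ht' i (by omega), ht' (i + 1) hi]
        exact hrel.2.2 (i + 1) (by omega)
    have hgen' : Subgroup.closure {g : ↥(Subgroup.closure S) | ∃ i, i < m ∧ g = t' i} = ⊤ := by
      have hset : {g : ↥(Subgroup.closure S) | ∃ i, i < m ∧ g = t' i} =
          ((↑) : ↥(Subgroup.closure S) → G) ⁻¹' S := by
        ext g
        constructor
        · rintro ⟨i, hi, rfl⟩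
          show (t' i : G) ∈ S
          exact (hSmem _).2 ⟨i + 1, by omega, by omega, ht' i hi⟩
        · intro hg
          have hg' : (g : G) ∈ S := hg
          obtain ⟨i, h1, h2, hx⟩ := (hSmem _).1 hg'
          obtain ⟨i', rfl⟩ := Nat.exists_eq_succ_of_ne_zero (by omega : i ≠ 0)
          exact ⟨i', by omega, Subtype.ext (hx.trans (ht' i' (by omega)).symm)⟩
      rw [hset]
      exact Subgroup.closure_closure_coe_preimage
    obtain ⟨hfin, hcard⟩ := ih ↥(Subgroup.closure S) t' hrel' hgen'
    haveI := hfin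
    obtain ⟨hG, hGc⟩ := card_bound t m hrel hgen (Subgroup.closure S)
      (fun i h1 h2 => Subgroup.subset_closure ((hSmem _).2 ⟨i, h1, by omega, rfl⟩))
    refine ⟨hG, hGc.trans ?_⟩
    rw [Nat.factorial_succ (m + 1)]
    calc Nat.card ↥(Subgroup.closure S) * (m + 2) ≤ (m + 1).factorial * (m + 2) :=
          Nat.mul_le_mul_right _ hcard
      _ = (m + 1 + 1) * (m + 1).factorial := by ring

theorem swap_braid_pow {α : Type*} [DecidableEq α] (a b c : α) (hab : a ≠ b) (hbc : b ≠ c)
    (hac : a ≠ c) : (Equiv.swap a b * Equiv.swap b c) ^ 3 = 1 := by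
  have h1 : Equiv.swap a b * Equiv.swap b c * Equiv.swap a b = Equiv.swap a c := by
    have := Equiv.swap_apply_apply (Equiv.swap a b) b c
    rw [Equiv.swap_apply_right, Equiv.swap_apply_of_ne_of_ne hac.symm hbc.symm,
      Equiv.swap_inv] at this
    exact this.symm
  have h2 : Equiv.swap b c * Equiv.swap a b * Equiv.swap b c = Equiv.swap a c := by
    have := Equiv.swap_apply_apply (Equiv.swap b c) a b
    rw [Equiv.swap_apply_left, Equiv.swap_apply_of_ne_of_ne hab hac, Equiv.swap_inv] at this
    exact this.symm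
  calc (Equiv.swap a b * Equiv.swap b c) ^ 3
      = (Equiv.swap a b * Equiv.swap b c * Equiv.swap a b) *
        (Equiv.swap b c * Equiv.swap a b * Equiv.swap b c) := by
        rw [pow_three']; simp only [mul_assoc]
    _ = 1 := by rw [h1, h2, Equiv.swap_mul_self]

theorem swap_far_pow {α : Type*} [DecidableEq α] (a b c d : α) (hca : c ≠ a) (hcb : c ≠ b)
    (hda : d ≠ a) (hdb : d ≠ b) : (Equiv.swap a b * Equiv.swap c d) ^ 2 = 1 := by
  have h1 : Equiv.swap a b * Equiv.swap c d * Equiv.swap a b = Equiv.swap c d := by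
    have := Equiv.swap_apply_apply (Equiv.swap a b) c d
    rw [Equiv.swap_apply_of_ne_of_ne hca hcb, Equiv.swap_apply_of_ne_of_ne hda hdb,
      Equiv.swap_inv] at this
    exact this.symm
  calc (Equiv.swap a b * Equiv.swap c d) ^ 2
      = (Equiv.swap a b * Equiv.swap c d * Equiv.swap a b) * Equiv.swap c d := by
        rw [pow_two]; simp only [mul_assoc]
    _ = 1 := by rw [h1, Equiv.swap_mul_self]

theorem comm_of_sq {G : Type*} [Group G] (a b : G) (ha : a * a = 1) (hb : b * b = 1)
    (h : (a * b) ^ 2 = 1) : a * b = b * a := by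
  have h2 : a * b * (a * b) = 1 := by rw [← pow_two]; exact h
  have ha' : a⁻¹ = a := inv_eq_of_mul_eq_one_right ha
  have hb' : b⁻¹ = b := inv_eq_of_mul_eq_one_right hb
  have := eq_inv_of_mul_eq_one_left h2
  rw [mul_inv_rev, ha', hb'] at this
  exact this

theorem braid_of_cube {G : Type*} [Group G] (a b : G) (ha : a * a = 1) (hb : b * b = 1)
    (h : (a * b) ^ 3 = 1) : a * b * a = b * a * b := by
  have h3 : (a * b * a) * (b * a * b) = 1 := by
    rw [← h, pow_three']; simp only [mul_assoc]
  have ha' : a⁻¹ = a := inv_eq_of_mul_eq_one_right ha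
  have hb' : b⁻¹ = b := inv_eq_of_mul_eq_one_right hb
  have := eq_inv_of_mul_eq_one_left h3
  rw [mul_inv_rev, mul_inv_rev, ha', hb'] at this
  rw [this, mul_assoc]

theorem A_apply (n : ℕ) (i j : Fin n) : (CoxeterMatrix.A n) i j =
    if i = j then 1 else (if (j : ℕ) + 1 = i ∨ (i : ℕ) + 1 = j then 3 else 2) := rfl

theorem liftable (n : ℕ) : (CoxeterMatrix.A n).IsLiftable
    (fun i : Fin n => Equiv.swap i.castSucc i.succ) := by
  intro i j
  beta_reduce
  rw [A_apply]
  split_ifs with h1 h2
  · subst h1; rw [pow_one, Equiv.swap_mul_self]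
  · rcases h2 with h2 | h2
    · -- j + 1 = i : i.castSucc = j.succ
      have e : i.castSucc = j.succ := Fin.ext (by simp [← h2])
      rw [e, Equiv.swap_comm j.succ i.succ, Equiv.swap_comm j.castSucc j.succ]
      apply swap_braid_pow
      · intro h; have := congrArg Fin.val h; simp at this; omega
      · intro h; have := congrArg Fin.val h; simp at this
      · intro h; have := congrArg Fin.val h; simp at this; omega
    · have e : j.castSucc = i.succ := Fin.ext (by simp [← h2])
      rw [e]
      apply swap_braid_pow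
      · intro h; have := congrArg Fin.val h; simp at this
      · intro h; have := congrArg Fin.val h; simp at this; omega
      · intro h; have := congrArg Fin.val h; simp at this; omega
  · have hij : (i : ℕ) ≠ j := fun h => h1 (Fin.ext h)
    apply swap_far_pow
    · intro h; have := congrArg Fin.val h; simp at this; omega
    · intro h; have := congrArg Fin.val h; simp at this; omega
    · intro h; have := congrArg Fin.val h; simp at this; omega
    · intro h; have := congrArg Fin.val h; simp at this; omega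

/-- The Coxeter presentation of the symmetric group: for every n, the symmetric group on n+1 letters is the Coxeter group of type A_n with the adjacent transpositions (i, i+1) as simple reflections; that is, it is presented by generators r_1, …, r_n subject to r_i² = 1, (r_i r_j)² = 1 for |i − j| > 1 and (r_i r_{i+1})³ = 1, with r_i mapping to (i, i+1). -/
theorem result (n : ℕ) :
    ∃ cs : CoxeterSystem (CoxeterMatrix.A n) (Equiv.Perm (Fin (n + 1))), ∀ i : Fin n, cs.simple i = Equiv.swap i.castSucc i.succ := by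
  classical
  obtain ⟨cs0, hcs0⟩ : ∃ cs0 : CoxeterSystem (CoxeterMatrix.A n) (CoxeterMatrix.A n).Group,
      cs0 = (CoxeterMatrix.A n).toCoxeterSystem := ⟨_, rfl⟩
  obtain ⟨π, hπdef⟩ : ∃ π : (CoxeterMatrix.A n).Group →* Equiv.Perm (Fin (n + 1)),
      π = cs0.lift ⟨_, liftable n⟩ := ⟨_, rfl⟩
  have hπ : ∀ i, π (cs0.simple i) = Equiv.swap i.castSucc i.succ := by
    intro i; rw [hπdef]; exact cs0.lift_apply_simple (liftable n) i
  have hsurj : Function.Surjective π := by
    rw [← MonoidHom.range_eq_top, eq_top_iff,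
      ← Subgroup.closure_eq_top_of_mclosure_eq_top (Equiv.Perm.mclosure_swap_castSucc_succ n),
      Subgroup.closure_le]
    rintro _ ⟨i, rfl⟩
    exact ⟨cs0.simple i, hπ i⟩
  have hex : ∀ i : ℕ, ∃ x : (CoxeterMatrix.A n).Group, ∀ hi : i < n, x = cs0.simple ⟨i, hi⟩ := by
    intro i
    by_cases hi : i < n
    · exact ⟨cs0.simple ⟨i, hi⟩, fun _ => rfl⟩
    · exact ⟨1, fun h => absurd h hi⟩
  choose t ht using hex
  have hrel : Rel t n := by
    refine ⟨?_, ?_, ?_⟩
    · intro i hi
      rw [ht i hi]; exact cs0.simple_mul_simple_self _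
    · intro i j hij hj
      rw [ht i (by omega), ht j hj]
      apply comm_of_sq _ _ (cs0.simple_mul_simple_self _) (cs0.simple_mul_simple_self _)
      have := cs0.simple_mul_simple_pow ⟨i, by omega⟩ ⟨j, hj⟩
      rw [A_apply, if_neg (by intro h; have := congrArg Fin.val h; simp at this; omega),
        if_neg (by simp; omega)] at this
      exact this
    · intro i hi
      rw [ht i (by omega), ht (i + 1) hi]
      apply braid_of_cube _ _ (cs0.simple_mul_simple_self _) (cs0.simple_mul_simple_self _)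
      have := cs0.simple_mul_simple_pow ⟨i, by omega⟩ ⟨i + 1, hi⟩
      rw [A_apply, if_neg (by intro h; have := congrArg Fin.val h; simp at this),
        if_pos (by simp)] at this
      exact this
  have hgen : Subgroup.closure {g | ∃ i, i < n ∧ g = t i} = ⊤ := by
    rw [eq_top_iff, ← cs0.subgroup_closure_range_simple, Subgroup.closure_le]
    rintro _ ⟨i, rfl⟩
    exact Subgroup.subset_closure ⟨i.val, i.2, (ht i.val i.2).symm⟩
  obtain ⟨hfin, hcard⟩ := coxeterA_card n (CoxeterMatrix.A n).Group t hrel hgen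
  haveI := hfin
  have hbij : Function.Bijective π := hsurj.bijective_of_nat_card_le (by
    rw [Nat.card_eq_fintype_card (α := Equiv.Perm (Fin (n + 1))), Fintype.card_perm,
      Fintype.card_fin]
    exact hcard)
  refine ⟨⟨(MulEquiv.ofBijective π hbij).symm⟩, fun i => ?_⟩
  show π (PresentedGroup.of i) = _
  have := hπ i
  rw [hcs0] at this
  exact this

end Cfsg.Agent.S2530
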