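import Mathlib
import Cfsg.Statements.S2532

set_option autoImplicit false
open Cfsg

namespace Cfsg.Agent.S2532

open Equiv

section Construct

variable {Γ X : Type*} [Group Γ] [MulAction Γ X] {r : ℕ} (x : Fin r → X)

/-- membership in the union of the chosen orbits -/
def inO (y : X) : Prop := ∃ (g : Γ) (i : Fin r), g • x i = y

variable (hS : ∀ i j, MulAction.stabilizer Γ (x i) = MulAction.stabilizer Γ (x j))
  (hO : ∀ (i j : Fin r) (g : Γ), g • x i = x j → i = j)

include hS hO in
theorem wd {g g' : Γ} {i i' : Fin r} (h : g • x i = g' • x i') :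
    i = i' ∧ ∀ j, g • x j = g' • x j := by
  have h1 : (g'⁻¹ * g) • x i = x i' := by
    rw [mul_smul, h, inv_smul_smul]
  have hi : i = i' := hO i i' _ h1
  subst hi
  refine ⟨rfl, fun j => ?_⟩
  have h2 : g'⁻¹ * g ∈ MulAction.stabilizer Γ (x i) := h1
  rw [hS i j] at h2
  have h3 : (g'⁻¹ * g) • x j = x j := h2
  rw [mul_smul, inv_smul_eq_iff] at h3
  exact h3

open Classical in
/-- the permutation of the chosen orbits induced by a permutation of the indices -/
noncomputable def piFun (σ : Perm (Fin r)) (y : X) : X :=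
  if h : inO (Γ := Γ) x y then
    (Classical.choose h) • x (σ (Classical.choose (Classical.choose_spec h)))
  else y

include hS hO in
theorem piFun_apply (σ : Perm (Fin r)) (g : Γ) (i : Fin r) :
    piFun (Γ := Γ) x σ (g • x i) = g • x (σ i) := by
  have h : inO (Γ := Γ) x (g • x i) := ⟨g, i, rfl⟩
  unfold piFun
  rw [dif_pos h]
  have hs := Classical.choose_spec (Classical.choose_spec h)
  obtain ⟨h1, h2⟩ := wd x hS hO hs
  rw [h1]
  exact h2 (σ i)

theorem piFun_not (σ : Perm (Fin r)) (y : X) (h : ¬ inO (Γ := Γ) x y) :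
    piFun (Γ := Γ) x σ y = y := by
  unfold piFun
  rw [dif_neg h]

include hS hO in
theorem piFun_mul (σ τ : Perm (Fin r)) (y : X) :
    piFun (Γ := Γ) x σ (piFun (Γ := Γ) x τ y) = piFun (Γ := Γ) x (σ * τ) y := by
  by_cases h : inO (Γ := Γ) x y
  · obtain ⟨g, i, rfl⟩ := h
    rw [piFun_apply x hS hO, piFun_apply x hS hO, piFun_apply x hS hO]
    rfl
  · rw [piFun_not x τ y h, piFun_not x σ y h, piFun_not x _ y h]

include hS hO in
theorem piFun_one (y : X) : piFun (Γ := Γ) x 1 y = y := by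
  by_cases h : inO (Γ := Γ) x y
  · obtain ⟨g, i, rfl⟩ := h
    rw [piFun_apply x hS hO]
    rfl
  · exact piFun_not x 1 y h

include hS hO in
theorem piFun_smul (σ : Perm (Fin r)) (g₀ : Γ) (y : X) :
    piFun (Γ := Γ) x σ (g₀ • y) = g₀ • piFun (Γ := Γ) x σ y := by
  by_cases h : inO (Γ := Γ) x y
  · obtain ⟨g, i, rfl⟩ := h
    rw [← mul_smul, piFun_apply x hS hO, piFun_apply x hS hO, mul_smul]
  · have h' : ¬ inO (Γ := Γ) x (g₀ • y) := by
      rintro ⟨g, i, hg⟩
      apply h
      refine ⟨g₀⁻¹ * g, i, ?_⟩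
      rw [mul_smul, hg, inv_smul_smul]
    rw [piFun_not x σ y h, piFun_not x σ _ h']

/-- the homomorphism -/
noncomputable def piHom : Perm (Fin r) →* Perm X :=
  MonoidHom.mk' (fun σ => ⟨piFun (Γ := Γ) x σ, piFun (Γ := Γ) x σ⁻¹,
      fun y => by rw [piFun_mul x hS hO, inv_mul_cancel, piFun_one x hS hO],
      fun y => by rw [piFun_mul x hS hO, mul_inv_cancel, piFun_one x hS hO]⟩)
    (fun σ τ => by
      ext y
      exact (piFun_mul x hS hO σ τ y).symm)

theorem piHom_apply (σ : Perm (Fin r)) (y : X) :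
    piHom (Γ := Γ) x hS hO σ y = piFun (Γ := Γ) x σ y := rfl

theorem piHom_injective : Function.Injective (piHom (Γ := Γ) x hS hO) := by
  rw [injective_iff_map_eq_one]
  intro σ h
  ext i
  have h1 : piHom (Γ := Γ) x hS hO σ ((1 : Γ) • x i) = (1 : Γ) • x i := by
    rw [h]
    rfl
  rw [piHom_apply, piFun_apply x hS hO] at h1
  nth_rewrite 2 [one_smul] at h1
  have := hO (σ i) i 1 h1
  rw [this]
  rfl

end Construct

section Pigeon

theorem exists_points {Γ X : Type*} [Group Γ] [Finite Γ] [MulAction Γ X] [Fintype X] (r : ℕ)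
    (hbig : 2 ^ (Nat.card Γ) * r * Nat.card Γ < Fintype.card X) :
    ∃ x : Fin r → X, (∀ i j, MulAction.stabilizer Γ (x i) = MulAction.stabilizer Γ (x j)) ∧
      (∀ (i j : Fin r) (g : Γ), g • x i = x j → i = j) := by
  classical
  haveI : Fintype Γ := Fintype.ofFinite Γ
  haveI : Fintype (MulAction.orbitRel.Quotient Γ X) := Fintype.ofFinite _
  let rep : MulAction.orbitRel.Quotient Γ X → X := Quotient.out
  have hrep : ∀ y : X, ∃ g : Γ, g • rep (Quotient.mk'' y) = y := by
    intro y
    have h1 : (Quotient.mk'' (rep (Quotient.mk'' y)) : MulAction.orbitRel.Quotient Γ X) =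
        Quotient.mk'' y := Quotient.out_eq _
    have h2 := Quotient.exact h1
    obtain ⟨g, hg⟩ := h2
    refine ⟨g⁻¹, ?_⟩
    rw [← hg]
    exact inv_smul_smul g y
  have hsurj : Function.Surjective
      (fun p : Γ × MulAction.orbitRel.Quotient Γ X => p.1 • rep p.2) := by
    intro y
    obtain ⟨g, hg⟩ := hrep y
    exact ⟨(g, Quotient.mk'' y), hg⟩
  have hcard : Fintype.card X ≤ Fintype.card Γ * Fintype.card (MulAction.orbitRel.Quotient Γ X) := by
    have := Fintype.card_le_of_surjective _ hsurj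
    rwa [Fintype.card_prod] at this
  haveI : Fintype (Subgroup Γ) := Fintype.ofFinite _
  have hsub : Fintype.card (Subgroup Γ) ≤ 2 ^ Fintype.card Γ := by
    have := Fintype.card_le_of_injective (fun K : Subgroup Γ => (K : Set Γ)) SetLike.coe_injective
    rwa [Fintype.card_set] at this
  let col : MulAction.orbitRel.Quotient Γ X → Subgroup Γ := fun ω => MulAction.stabilizer Γ (rep ω)
  have hpig : Fintype.card (Subgroup Γ) * r < Fintype.card (MulAction.orbitRel.Quotient Γ X) := by
    rw [Nat.card_eq_fintype_card] at hbig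
    by_contra hcon
    rw [not_lt] at hcon
    have h1 : Fintype.card X ≤ Fintype.card Γ * (2 ^ Fintype.card Γ * r) :=
      hcard.trans (Nat.mul_le_mul_left _ (hcon.trans (Nat.mul_le_mul_right _ hsub)))
    have h2 : Fintype.card Γ * (2 ^ Fintype.card Γ * r) = 2 ^ Fintype.card Γ * r * Fintype.card Γ := by
      ring
    omega
  obtain ⟨S, hS⟩ := Fintype.exists_lt_card_fiber_of_mul_lt_card col hpig
  have hle : Fintype.card (Fin r) ≤
      Fintype.card {ω : MulAction.orbitRel.Quotient Γ X // col ω = S} := by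
    rw [Fintype.card_fin, Fintype.card_subtype]
    exact hS.le
  obtain ⟨e⟩ := Function.Embedding.nonempty_of_card_le hle
  refine ⟨fun i => rep (e i).1, ?_, ?_⟩
  · intro i j
    exact ((e i).2).trans ((e j).2).symm
  · intro i j g hg
    have hg' : g • rep (e i).1 = rep (e j).1 := hg
    have h1 : (e i).1 = (e j).1 := by
      rw [← Quotient.out_eq (e i).1, ← Quotient.out_eq (e j).1]
      apply Quotient.sound
      exact ⟨g⁻¹, by
        show g⁻¹ • rep (e j).1 = rep (e i).1
        rw [← hg', inv_smul_smul]⟩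
    exact e.injective (Subtype.ext h1)

end Pigeon

theorem result :
    ∃ f : ℕ → ℕ → ℕ, ∀ (m r : ℕ) (H : Subgroup ↥(alternatingGroup (Fin m))), f (Nat.card H) r ≤ m →
      ∃ K : Subgroup ↥(alternatingGroup (Fin m)), Nonempty (↥K ≃* ↥(alternatingGroup (Fin r))) ∧
        K ≤ Subgroup.centralizer (H : Set ↥(alternatingGroup (Fin m))) := by
  refine ⟨fun n r => 2 ^ n * r * n + 1, ?_⟩
  intro m r H hm
  classical
  letI act : MulAction ↥H (Fin m) :=
    MulAction.compHom (Fin m) ((alternatingGroup (Fin m)).subtype.comp H.subtype)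
  have hbig : 2 ^ Nat.card ↥H * r * Nat.card ↥H < Fintype.card (Fin m) := by
    rw [Fintype.card_fin]
    have : 2 ^ Nat.card ↥H * r * Nat.card ↥H + 1 ≤ m := hm
    omega
  obtain ⟨x, hS, hO⟩ := exists_points (Γ := ↥H) (X := Fin m) r hbig
  have hinj := piHom_injective (Γ := ↥H) x hS hO
  have hcomm : ∀ (σ : Equiv.Perm (Fin r)) (g : ↥H) (y : Fin m),
      piHom (Γ := ↥H) x hS hO σ (g • y) = g • piHom (Γ := ↥H) x hS hO σ y :=
    fun σ g y => piFun_smul x hS hO σ g y
  have heven : ∀ σ ∈ alternatingGroup (Fin r),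
      piHom (Γ := ↥H) x hS hO σ ∈ alternatingGroup (Fin m) := by
    intro σ hσ
    have h3 : ∀ τ : Equiv.Perm (Fin r), τ.IsThreeCycle →
        τ ∈ (Equiv.Perm.sign.comp (piHom (Γ := ↥H) x hS hO)).ker := by
      intro τ hτ
      rw [MonoidHom.mem_ker]
      have hτ3 : τ ^ 3 = 1 := by
        rw [← hτ.orderOf]
        exact pow_orderOf_eq_one τ
      have h1 : (Equiv.Perm.sign.comp (piHom (Γ := ↥H) x hS hO)) τ ^ 3 = 1 := by
        rw [← map_pow, hτ3, map_one]
      have h2 : (Equiv.Perm.sign.comp (piHom (Γ := ↥H) x hS hO)) τ ^ 2 = 1 := Int.units_sq _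
      calc (Equiv.Perm.sign.comp (piHom (Γ := ↥H) x hS hO)) τ
          = (Equiv.Perm.sign.comp (piHom (Γ := ↥H) x hS hO)) τ ^ 3 *
            ((Equiv.Perm.sign.comp (piHom (Γ := ↥H) x hS hO)) τ ^ 2)⁻¹ := by group
        _ = 1 := by rw [h1, h2, inv_one, mul_one]
    have hle : alternatingGroup (Fin r) ≤
        (Equiv.Perm.sign.comp (piHom (Γ := ↥H) x hS hO)).ker := by
      rw [← Equiv.Perm.closure_three_cycles_eq_alternating, Subgroup.closure_le]
      exact h3
    exact Equiv.Perm.mem_alternatingGroup.2 (MonoidHom.mem_ker.1 (hle hσ))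
  let φ' : alternatingGroup (Fin r) →* alternatingGroup (Fin m) :=
    ((piHom (Γ := ↥H) x hS hO).comp (alternatingGroup (Fin r)).subtype).codRestrict _
      (fun σ => heven σ.1 σ.2)
  have hinj' : Function.Injective φ' := by
    intro a b hab
    apply Subtype.ext
    apply hinj
    exact congrArg Subtype.val hab
  refine ⟨φ'.range, ⟨(MonoidHom.ofInjective hinj').symm⟩, ?_⟩
  rintro k ⟨σ, rfl⟩
  rw [Subgroup.mem_centralizer_iff]
  intro h hh
  apply Subtype.ext
  apply Equiv.ext
  intro y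
  show (h : Equiv.Perm (Fin m)) (piHom (Γ := ↥H) x hS hO σ.1 y) =
    piHom (Γ := ↥H) x hS hO σ.1 ((h : Equiv.Perm (Fin m)) y)
  exact (hcomm σ.1 ⟨h, hh⟩ y).symm

end Cfsg.Agent.S2532
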