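import Cfsg.Statements.S2533
import Mathlib

set_option autoImplicit false
open Cfsg

namespace Cfsg.Agent.S2533


abbrev MT (p m : ℕ) := Matrix (Fin (m + (m + 1))) (Fin (m + (m + 1))) (ZMod p)

abbrev SLT (p m : ℕ) := Matrix.SpecialLinearGroup (Fin (m + (m + 1))) (ZMod p)

def Sh (p m s : ℕ) : MT p m :=
  Matrix.of fun i j => if j.val < m ∧ i.val = j.val + s then 1 else 0

def N3 (p m : ℕ) : MT p m :=
  Matrix.of fun i j => if j.val = 0 ∧ i.val = 2 * m then 1 else 0

def LL (p m : ℕ) (A : MT p m) : Prop := ∀ i j, A i j ≠ 0 → m ≤ i.val ∧ j.val < m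

theorem LL_Sh (p m s : ℕ) (hs : m ≤ s) : LL p m (Sh p m s) := by
  intro i j h
  simp only [Sh, Matrix.of_apply] at h
  split_ifs at h with hc
  · omega
  · exact absurd rfl h

theorem LL_N3 (p m : ℕ) (hm : 1 ≤ m) : LL p m (N3 p m) := by
  intro i j h
  simp only [N3, Matrix.of_apply] at h
  split_ifs at h with hc
  · omega
  · exact absurd rfl h

theorem LL_add {p m : ℕ} {A B : MT p m} (hA : LL p m A) (hB : LL p m B) : LL p m (A + B) := by
  intro i j h
  by_cases h1 : A i j = 0
  · by_cases h2 : B i j = 0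
    · exact absurd (by rw [Matrix.add_apply, h1, h2, add_zero]) h
    · exact hB i j h2
  · exact hA i j h1

theorem LL_smul {p m : ℕ} {A : MT p m} (c : ZMod p) (hA : LL p m A) : LL p m (c • A) := by
  intro i j h
  apply hA i j
  intro h0
  apply h
  rw [Matrix.smul_apply, h0, smul_zero]

theorem LL_mul {p m : ℕ} {A B : MT p m} (hA : LL p m A) (hB : LL p m B) : A * B = 0 := by
  ext i j
  rw [Matrix.mul_apply, Matrix.zero_apply]
  apply Finset.sum_eq_zero
  intro k _
  by_cases h1 : A i k = 0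
  · rw [h1, zero_mul]
  · by_cases h2 : B k j = 0
    · rw [h2, mul_zero]
    · have := (hA i k h1).2
      have := (hB k j h2).1
      omega

theorem LL_diag {p m : ℕ} {A : MT p m} (hA : LL p m A) (i : Fin (m + (m + 1))) : A i i = 0 := by
  by_contra h
  have := hA i i h
  omega

theorem det_one_add {p m : ℕ} {A : MT p m} (hA : LL p m A) : (1 + A).det = 1 := by
  rw [Matrix.det_of_isLowerTriangular (1 + A) ?_]
  · apply Finset.prod_eq_one
    intro i _
    rw [Matrix.add_apply, Matrix.one_apply_eq, LL_diag hA, add_zero]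
  · intro i j hij
    have hlt : i < j := hij
    rw [Matrix.add_apply, Matrix.one_apply_ne (ne_of_lt hlt), zero_add]
    by_contra h
    have := hA i j h
    have : i.val < j.val := hlt
    omega

def Amat (p m : ℕ) (a : Fin 3 → ZMod p) : MT p m :=
  a 0 • Sh p m m + a 1 • Sh p m (m + 1) + a 2 • N3 p m

theorem LL_Amat (p m : ℕ) (hm : 1 ≤ m) (a : Fin 3 → ZMod p) : LL p m (Amat p m a) :=
  LL_add (LL_add (LL_smul _ (LL_Sh p m m le_rfl)) (LL_smul _ (LL_Sh p m (m + 1) (Nat.le_succ m))))
    (LL_smul _ (LL_N3 p m hm))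

theorem Amat_zero (p m : ℕ) : Amat p m 0 = 0 := by simp [Amat]

theorem Amat_add (p m : ℕ) (a b : Fin 3 → ZMod p) :
    Amat p m (a + b) = Amat p m a + Amat p m b := by
  simp only [Amat, Pi.add_apply, add_smul]; abel

theorem Amat_smul (p m : ℕ) (c : ZMod p) (a : Fin 3 → ZMod p) :
    Amat p m (c • a) = c • Amat p m a := by
  simp only [Amat, Pi.smul_apply, smul_eq_mul, mul_smul, smul_add]

theorem Amat_apply (p m : ℕ) (a : Fin 3 → ZMod p) (i j : Fin (m + (m + 1))) :
    Amat p m a i j = a 0 * (if j.val < m ∧ i.val = j.val + m then 1 else 0)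
      + a 1 * (if j.val < m ∧ i.val = j.val + (m + 1) then 1 else 0)
      + a 2 * (if j.val = 0 ∧ i.val = 2 * m then 1 else 0) := by
  simp only [Amat, Sh, N3, Matrix.add_apply, Matrix.smul_apply, Matrix.of_apply, smul_eq_mul]

theorem Amat_e0 (p m : ℕ) (hm : 2 ≤ m) (a : Fin 3 → ZMod p) (h1 : m < m + (m + 1))
    (h0 : 0 < m + (m + 1)) : Amat p m a ⟨m, h1⟩ ⟨0, h0⟩ = a 0 := by
  rw [Amat_apply]
  dsimp only
  split_ifs <;> first | omega | simp

theorem Amat_e1 (p m : ℕ) (hm : 2 ≤ m) (a : Fin 3 → ZMod p) (h1 : m + 1 < m + (m + 1))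
    (h0 : 0 < m + (m + 1)) : Amat p m a ⟨m + 1, h1⟩ ⟨0, h0⟩ = a 1 := by
  rw [Amat_apply]
  dsimp only
  split_ifs <;> first | omega | simp

theorem Amat_e2 (p m : ℕ) (hm : 2 ≤ m) (a : Fin 3 → ZMod p) (h1 : 2 * m < m + (m + 1))
    (h0 : 0 < m + (m + 1)) : Amat p m a ⟨2 * m, h1⟩ ⟨0, h0⟩ = a 2 := by
  rw [Amat_apply]
  dsimp only
  split_ifs <;> first | omega | simp

theorem Amat_100 (p m : ℕ) : Amat p m ![1, 0, 0] = Sh p m m := by simp [Amat]

theorem Amat_010 (p m : ℕ) : Amat p m ![0, 1, 0] = Sh p m (m + 1) := by simp [Amat]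

def dvec (p m : ℕ) (c : ZMod p) : Fin (m + (m + 1)) → ZMod p := fun i => if i.val < m then c else 1

theorem diag_mul_LL {p m : ℕ} {A : MT p m} (hA : LL p m A) (c : ZMod p) :
    Matrix.diagonal (dvec p m c) * A = A := by
  ext i j
  rw [Matrix.diagonal_mul]
  by_cases h : A i j = 0
  · rw [h, mul_zero]
  · have := (hA i j h).1
    have hd : dvec p m c i = 1 := if_neg (by omega)
    rw [hd, one_mul]

theorem LL_mul_diag {p m : ℕ} {A : MT p m} (hA : LL p m A) (c : ZMod p) :
    A * Matrix.diagonal (dvec p m c) = c • A := by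
  ext i j
  rw [Matrix.mul_diagonal, Matrix.smul_apply, smul_eq_mul]
  by_cases h : A i j = 0
  · rw [h, zero_mul, mul_zero]
  · have := (hA i j h).2
    have hd : dvec p m c j = c := if_pos this
    rw [hd, mul_comm]

theorem det_diag (p m : ℕ) (c : ZMod p) : (Matrix.diagonal (dvec p m c)).det = c ^ m := by
  rw [Matrix.det_diagonal, Fin.prod_univ_add]
  have h1 : ∀ i : Fin m, dvec p m c (Fin.castAdd (m + 1) i) = c := fun i => if_pos (by simp)
  have h2 : ∀ i : Fin (m + 1), dvec p m c (Fin.natAdd m i) = 1 := fun i => if_neg (by simp)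
  simp only [h1, h2, Finset.prod_const, Finset.card_univ, Fintype.card_fin, one_pow, mul_one]

def cc (p : ℕ) (u : ℤˣ) : ZMod p := ((u : ℤ) : ZMod p)

theorem cc_mul (p : ℕ) (u v : ℤˣ) : cc p (u * v) = cc p u * cc p v := by simp [cc]

theorem cc_one (p : ℕ) : cc p 1 = 1 := by simp [cc]

theorem cc_sq (p : ℕ) (u : ℤˣ) : cc p u * cc p u = 1 := by
  rw [← cc_mul, Int.units_mul_self, cc_one]

theorem cc_neg_one (p : ℕ) : cc p (-1) = -1 := by simp [cc]

def f1 (p m : ℕ) (hm : 1 ≤ m) : Multiplicative (Fin 3 → ZMod p) →* SLT p m where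
  toFun a := ⟨1 + Amat p m (Multiplicative.toAdd a), det_one_add (LL_Amat p m hm _)⟩
  map_one' := by
    apply Subtype.ext
    show 1 + Amat p m 0 = 1
    rw [Amat_zero, add_zero]
  map_mul' a b := by
    apply Subtype.ext
    show 1 + Amat p m (Multiplicative.toAdd a + Multiplicative.toAdd b)
      = (1 + Amat p m (Multiplicative.toAdd a)) * (1 + Amat p m (Multiplicative.toAdd b))
    rw [Amat_add, mul_add, mul_one, add_mul, one_mul,
      LL_mul (LL_Amat p m hm _) (LL_Amat p m hm _), add_zero, add_assoc]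

def f2 (p m : ℕ) (hm : Even m) : ℤˣ →* SLT p m where
  toFun u := ⟨Matrix.diagonal (dvec p m (cc p u)), by
    rw [det_diag]
    obtain ⟨k, hk⟩ := hm
    rw [hk, ← two_mul, pow_mul, sq, cc_sq, one_pow]⟩
  map_one' := by
    apply Subtype.ext
    show Matrix.diagonal (dvec p m (cc p 1)) = 1
    rw [cc_one]
    have : dvec p m 1 = fun _ => 1 := by funext i; simp [dvec]
    rw [this, Matrix.diagonal_one]
  map_mul' u v := by
    apply Subtype.ext
    show Matrix.diagonal (dvec p m (cc p (u * v)))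
      = Matrix.diagonal (dvec p m (cc p u)) * Matrix.diagonal (dvec p m (cc p v))
    rw [Matrix.diagonal_mul_diagonal, cc_mul]
    congr 1
    funext i
    simp only [dvec]
    split_ifs <;> simp

def psi (p : ℕ) : ℤˣ →* MulAut (Multiplicative (Fin 3 → ZMod p)) :=
  (MulAutMultiplicative _).symm.toMonoidHom.comp (DistribMulAction.toAddAut ℤˣ (Fin 3 → ZMod p))

theorem psi_apply (p : ℕ) (u : ℤˣ) (a : Multiplicative (Fin 3 → ZMod p)) :
    psi p u a = Multiplicative.ofAdd (cc p u • Multiplicative.toAdd a) := by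
  show Multiplicative.ofAdd (u • Multiplicative.toAdd a) = _
  congr 1
  funext i
  rw [Units.smul_def]
  simp [cc, zsmul_eq_mul]

theorem lift_cond (p m : ℕ) (hm1 : 1 ≤ m) (hme : Even m) (u : ℤˣ) :
    (f1 p m hm1).comp (psi p u).toMonoidHom
      = (MulAut.conj (f2 p m hme u)).toMonoidHom.comp (f1 p m hm1) := by
  apply MonoidHom.ext
  intro a
  simp only [MonoidHom.comp_apply, MulEquiv.coe_toMonoidHom, MulAut.conj_apply]
  rw [eq_mul_inv_iff_mul_eq]
  apply Subtype.ext
  show (1 + Amat p m (Multiplicative.toAdd (psi p u a))) * Matrix.diagonal (dvec p m (cc p u))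
    = Matrix.diagonal (dvec p m (cc p u)) * (1 + Amat p m (Multiplicative.toAdd a))
  rw [psi_apply, toAdd_ofAdd, Amat_smul, add_mul, one_mul, mul_add, mul_one,
    diag_mul_LL (LL_Amat p m hm1 _), Matrix.smul_mul, LL_mul_diag (LL_Amat p m hm1 _), smul_smul,
    cc_sq, one_smul]

def phi0 (p m : ℕ) (hm1 : 1 ≤ m) (hme : Even m) :
    (Multiplicative (Fin 3 → ZMod p) ⋊[psi p] ℤˣ) →* SLT p m :=
  SemidirectProduct.lift (f1 p m hm1) (f2 p m hme) (lift_cond p m hm1 hme)

theorem phi0_val (p m : ℕ) (hm1 : 1 ≤ m) (hme : Even m)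
    (x : Multiplicative (Fin 3 → ZMod p) ⋊[psi p] ℤˣ) :
    (phi0 p m hm1 hme x).val = (1 + Amat p m (Multiplicative.toAdd x.left))
      * Matrix.diagonal (dvec p m (cc p x.right)) := rfl

theorem phi0_inl (p m : ℕ) (hm1 : 1 ≤ m) (hme : Even m) (a : Multiplicative (Fin 3 → ZMod p)) :
    (phi0 p m hm1 hme (SemidirectProduct.inl a)).val = 1 + Amat p m (Multiplicative.toAdd a) := by
  rw [phi0, SemidirectProduct.lift_inl]
  rfl

theorem phi0_inr (p m : ℕ) (hm1 : 1 ≤ m) (hme : Even m) (u : ℤˣ) :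
    (phi0 p m hm1 hme (SemidirectProduct.inr u)).val = Matrix.diagonal (dvec p m (cc p u)) := by
  rw [phi0, SemidirectProduct.lift_inr]
  rfl

theorem center_bot (p m : ℕ) (hr : ∀ r : ZMod p, r ^ (m + (m + 1)) = 1 → r = 1) :
    Subgroup.center (SLT p m) = ⊥ := by
  rw [Subgroup.eq_bot_iff_forall]
  intro A hA
  rw [Matrix.SpecialLinearGroup.mem_center_iff] at hA
  obtain ⟨r, hr1, hr2⟩ := hA
  rw [Fintype.card_fin] at hr1
  have h1 := hr r hr1
  apply Subtype.ext
  rw [← hr2, h1, map_one]
  rfl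

def Gf (p m : ℕ) (G : MT p m) (a b : ℕ) : ZMod p :=
  if h : a < m + (m + 1) ∧ b < m + (m + 1) then G ⟨a, h.1⟩ ⟨b, h.2⟩ else 0

theorem Gf_eq {p m : ℕ} (G : MT p m) (i j : Fin (m + (m + 1))) :
    Gf p m G i.val j.val = G i j := by
  rw [Gf, dif_pos ⟨i.isLt, j.isLt⟩]

theorem Gf_mk {p m : ℕ} (G : MT p m) (a b : ℕ) (ha : a < m + (m + 1)) (hb : b < m + (m + 1)) :
    Gf p m G a b = G ⟨a, ha⟩ ⟨b, hb⟩ := by
  rw [Gf, dif_pos ⟨ha, hb⟩]

theorem mul_Sh_apply {p m : ℕ} (G : MT p m) (s : ℕ) (i j k : Fin (m + (m + 1)))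
    (hj : j.val < m) (hk : k.val = j.val + s) : (G * Sh p m s) i j = G i k := by
  rw [Matrix.mul_apply, Finset.sum_eq_single k]
  · simp only [Sh, Matrix.of_apply]
    rw [if_pos ⟨hj, hk⟩, mul_one]
  · intro k' _ hk'
    simp only [Sh, Matrix.of_apply]
    rw [if_neg, mul_zero]
    rintro ⟨_, h⟩
    exact hk' (Fin.ext (by omega))
  · intro h
    exact absurd (Finset.mem_univ k) h

theorem Sh_mul_apply {p m : ℕ} (G : MT p m) (s : ℕ) (i j k : Fin (m + (m + 1)))
    (hk : k.val < m) (hi : i.val = k.val + s) : (Sh p m s * G) i j = G k j := by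
  rw [Matrix.mul_apply, Finset.sum_eq_single k]
  · simp only [Sh, Matrix.of_apply]
    rw [if_pos ⟨hk, hi⟩, one_mul]
  · intro k' _ hk'
    simp only [Sh, Matrix.of_apply]
    rw [if_neg, zero_mul]
    rintro ⟨_, h⟩
    exact hk' (Fin.ext (by omega))
  · intro h
    exact absurd (Finset.mem_univ k) h

theorem Sh_mul_apply_zero {p m : ℕ} (G : MT p m) (s : ℕ) (i j : Fin (m + (m + 1)))
    (h : ∀ k : Fin (m + (m + 1)), k.val < m → i.val ≠ k.val + s) : (Sh p m s * G) i j = 0 := by
  rw [Matrix.mul_apply]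
  apply Finset.sum_eq_zero
  intro k _
  simp only [Sh, Matrix.of_apply]
  rw [if_neg, zero_mul]
  rintro ⟨h1, h2⟩
  exact h k h1 h2

theorem fact1 {p m : ℕ} (G : MT p m) (s : ℕ) (hS : G * Sh p m s = Sh p m s * G) (a j : ℕ)
    (ha : a < m) (hj : j < m) (has : a + s < m + (m + 1)) (hjs : j + s < m + (m + 1)) :
    Gf p m G (a + s) (j + s) = Gf p m G a j := by
  have ha' : a < m + (m + 1) := by omega
  have hj' : j < m + (m + 1) := by omega
  rw [Gf_mk G _ _ has hjs, Gf_mk G _ _ ha' hj']
  have := congrFun (congrFun hS ⟨a + s, has⟩) ⟨j, hj'⟩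
  rw [mul_Sh_apply G s ⟨a + s, has⟩ ⟨j, hj'⟩ ⟨j + s, hjs⟩ hj rfl,
    Sh_mul_apply G s ⟨a + s, has⟩ ⟨j, hj'⟩ ⟨a, ha'⟩ ha rfl] at this
  exact this

theorem fact2 {p m : ℕ} (G : MT p m) (s : ℕ) (hS : G * Sh p m s = Sh p m s * G) (i j : ℕ)
    (hi : i < m + (m + 1)) (hj : j < m) (hjs : j + s < m + (m + 1))
    (h : ∀ k, k < m → i ≠ k + s) : Gf p m G i (j + s) = 0 := by
  have hj' : j < m + (m + 1) := by omega
  rw [Gf_mk G _ _ hi hjs]
  have := congrFun (congrFun hS ⟨i, hi⟩) ⟨j, hj'⟩
  rw [mul_Sh_apply G s ⟨i, hi⟩ ⟨j, hj'⟩ ⟨j + s, hjs⟩ hj rfl,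
    Sh_mul_apply_zero G s ⟨i, hi⟩ ⟨j, hj'⟩ (fun k hk => h k.val hk)] at this
  exact this

theorem fact3 {p m : ℕ} [Fact p.Prime] (hp2 : (2 : ZMod p) ≠ 0) (G : MT p m)
    (h3 : G * Matrix.diagonal (dvec p m (-1)) = Matrix.diagonal (dvec p m (-1)) * G)
    (i j : Fin (m + (m + 1)))
    (hij : (i.val < m ∧ m ≤ j.val) ∨ (m ≤ i.val ∧ j.val < m)) : G i j = 0 := by
  have := congrFun (congrFun h3 i) j
  rw [Matrix.mul_diagonal, Matrix.diagonal_mul] at this
  have h2 : (2 : ZMod p) * G i j = 0 := by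
    rcases hij with ⟨h, h'⟩ | ⟨h, h'⟩
    · have e1 : dvec p m (-1) i = -1 := if_pos h
      have e2 : dvec p m (-1) j = 1 := if_neg (by omega)
      rw [e1, e2] at this
      linear_combination this
    · have e1 : dvec p m (-1) i = 1 := if_neg (by omega)
      have e2 : dvec p m (-1) j = -1 := if_pos h'
      rw [e1, e2] at this
      linear_combination -this
  exact (mul_eq_zero.mp h2).resolve_left hp2

theorem toeplitz {R : Type*} [Zero R] (m : ℕ) (B : ℕ → ℕ → R)
    (h1 : ∀ a b, a < m → b < m → B (a + 1) (b + 1) = B a b)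
    (h2 : ∀ b, b < m → B 0 (b + 1) = 0)
    (h3 : ∀ b, b < m → B m b = 0) (a b : ℕ) (ha : a ≤ m) (hb : b ≤ m) :
    B a b = if a = b then B 0 0 else 0 := by
  have key : ∀ k a b, a + k ≤ m → b + k ≤ m → B (a + k) (b + k) = B a b := by
    intro k
    induction k with
    | zero => intro a b _ _; rfl
    | succ k ih =>
      intro a b ha hb
      rw [← add_assoc, ← add_assoc, h1 (a + k) (b + k) (by omega) (by omega),
        ih a b (by omega) (by omega)]
  rcases lt_trichotomy a b with h | h | h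
  · rw [if_neg (by omega)]
    have h4 := key a 0 (b - a) (by omega) (by omega)
    rw [zero_add, Nat.sub_add_cancel h.le] at h4
    rw [h4]
    have h5 := h2 (b - a - 1) (by omega)
    rwa [show b - a - 1 + 1 = b - a by omega] at h5
  · subst h
    rw [if_pos rfl]
    have h4 := key a 0 0 (by omega) (by omega)
    rwa [zero_add] at h4
  · rw [if_neg (by omega)]
    have h4 := key (m - a) a b (by omega) (by omega)
    rw [show a + (m - a) = m by omega] at h4
    rw [← h4]
    exact h3 _ (by omega)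

theorem core {p m : ℕ} [Fact p.Prime] (hp2 : (2 : ZMod p) ≠ 0) (G : MT p m)
    (h1 : G * Sh p m m = Sh p m m * G) (h2 : G * Sh p m (m + 1) = Sh p m (m + 1) * G)
    (h3 : G * Matrix.diagonal (dvec p m (-1)) = Matrix.diagonal (dvec p m (-1)) * G) :
    G = (Gf p m G m m) • (1 : MT p m) := by
  have T : ∀ a b, a ≤ m → b ≤ m →
      Gf p m G (a + m) (b + m) = if a = b then Gf p m G m m else 0 := by
    intro a b ha hb
    have h4 := toeplitz m (fun a b => Gf p m G (a + m) (b + m)) ?_ ?_ ?_ a b ha hb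
    · simp only [zero_add] at h4
      exact h4
    · intro a b ha hb
      show Gf p m G (a + 1 + m) (b + 1 + m) = Gf p m G (a + m) (b + m)
      rw [fact1 G m h1 a b ha hb (by omega) (by omega)]
      rw [show a + 1 + m = a + (m + 1) by omega, show b + 1 + m = b + (m + 1) by omega]
      exact fact1 G (m + 1) h2 a b ha hb (by omega) (by omega)
    · intro b hb
      show Gf p m G (0 + m) (b + 1 + m) = 0
      rw [show b + 1 + m = b + (m + 1) by omega, zero_add]
      exact fact2 G (m + 1) h2 m b (by omega) hb (by omega) (fun k hk => by omega)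
    · intro b hb
      show Gf p m G (m + m) (b + m) = 0
      exact fact2 G m h1 (m + m) b (by omega) hb (by omega) (fun k hk => by omega)
  ext i j
  rw [Matrix.smul_apply, Matrix.one_apply, smul_eq_mul, mul_ite, mul_one, mul_zero]
  by_cases hi : i.val < m
  · by_cases hj : j.val < m
    · rw [← Gf_eq G i j, ← fact1 G m h1 i.val j.val hi hj (by omega) (by omega),
        T _ _ (by omega) (by omega)]
      by_cases hij : i = j
      · rw [if_pos hij, if_pos (by rw [hij])]
      · rw [if_neg hij, if_neg]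
        intro h
        exact hij (Fin.ext h)
    · rw [fact3 hp2 G h3 i j (Or.inl ⟨hi, by omega⟩), if_neg]
      intro h
      rw [h] at hi
      exact hj hi
  · by_cases hj : j.val < m
    · rw [fact3 hp2 G h3 i j (Or.inr ⟨by omega, hj⟩), if_neg]
      intro h
      rw [h] at hi
      exact hi hj
    · have h4 := T (i.val - m) (j.val - m) (by omega) (by omega)
      rw [Nat.sub_add_cancel (by omega), Nat.sub_add_cancel (by omega), Gf_eq] at h4
      rw [h4]
      by_cases hij : i = j
      · rw [if_pos hij, if_pos (by rw [hij])]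
      · rw [if_neg hij, if_neg]
        intro h
        apply hij
        apply Fin.ext
        omega

theorem main_n (p : ℕ) [Fact p.Prime] (hp : p ≠ 2) (m : ℕ) (hm : 2 ≤ m) (hme : Even m)
    (hr : ∀ r : ZMod p, r ^ (m + (m + 1)) = 1 → r = 1) :
    ∃ φ : (Multiplicative (Fin 3 → ZMod p) ⋊[psi p] ℤˣ) →*
        Matrix.ProjectiveSpecialLinearGroup (Fin (m + (m + 1))) (ZMod p),
      Function.Injective φ ∧ Subgroup.centralizer (φ.range : Set
        (Matrix.ProjectiveSpecialLinearGroup (Fin (m + (m + 1))) (ZMod p))) = ⊥ := by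
  have hm1 : 1 ≤ m := by omega
  have hp2 : (2 : ZMod p) ≠ 0 := by
    intro h
    have h1 := (ZMod.natCast_eq_zero_iff 2 p).mp (by exact_mod_cast h)
    have h2 := Nat.le_of_dvd (by norm_num) h1
    have h3 := (Fact.out : p.Prime).two_le
    omega
  have hc := center_bot p m hr
  have hmk : Function.Injective (QuotientGroup.mk' (Subgroup.center (SLT p m))) := by
    rw [← MonoidHom.ker_eq_bot_iff, QuotientGroup.ker_mk', hc]
  have hinj0 : Function.Injective (phi0 p m hm1 hme) := by
    rw [injective_iff_map_eq_one]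
    intro x hx
    have hval := congrArg Subtype.val hx
    rw [phi0_val] at hval
    have hA := LL_Amat p m hm1 (Multiplicative.toAdd x.left)
    rw [add_mul, one_mul, LL_mul_diag hA] at hval
    have h0 : 0 < m + (m + 1) := by omega
    have e00 := congrFun (congrFun hval ⟨0, h0⟩) ⟨0, h0⟩
    have hd0 : dvec p m (cc p x.right) ⟨0, h0⟩ = cc p x.right := if_pos (show (0 : ℕ) < m by omega)
    rw [Matrix.add_apply, Matrix.smul_apply, LL_diag hA, smul_zero, add_zero,
      Matrix.diagonal_apply_eq, hd0] at e00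
    have hc1 : cc p x.right = 1 := e00
    have hu : x.right = 1 := by
      rcases Int.units_eq_one_or x.right with h | h
      · exact h
      · exfalso
        rw [h, cc_neg_one] at hc1
        apply hp2
        linear_combination -hc1
    have hA0 : ∀ i j : Fin (m + (m + 1)), i ≠ j →
        Amat p m (Multiplicative.toAdd x.left) i j = 0 := by
      intro i j hij
      have h5 := congrFun (congrFun hval i) j
      rw [Matrix.add_apply, Matrix.smul_apply, Matrix.diagonal_apply_ne _ hij, hc1, one_smul,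
        zero_add] at h5
      rw [h5]
      exact Matrix.one_apply_ne hij
    have a0 : Multiplicative.toAdd x.left 0 = 0 := by
      rw [← Amat_e0 p m hm (Multiplicative.toAdd x.left) (by omega) h0]
      apply hA0
      intro h
      have := congrArg Fin.val h
      dsimp only at this
      omega
    have a1 : Multiplicative.toAdd x.left 1 = 0 := by
      rw [← Amat_e1 p m hm (Multiplicative.toAdd x.left) (by omega) h0]
      apply hA0
      intro h
      have := congrArg Fin.val h
      dsimp only at this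
      omega
    have a2 : Multiplicative.toAdd x.left 2 = 0 := by
      rw [← Amat_e2 p m hm (Multiplicative.toAdd x.left) (by omega) h0]
      apply hA0
      intro h
      have := congrArg Fin.val h
      dsimp only at this
      omega
    apply SemidirectProduct.ext
    · rw [SemidirectProduct.one_left]
      have h6 : Multiplicative.toAdd x.left = 0 := by
        funext i
        fin_cases i
        · exact a0
        · exact a1
        · exact a2
      exact Multiplicative.toAdd.injective (h6.trans toAdd_one.symm)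
    · rw [SemidirectProduct.one_right]
      exact hu
  refine ⟨(QuotientGroup.mk' _).comp (phi0 p m hm1 hme), hmk.comp hinj0, ?_⟩
  rw [Subgroup.eq_bot_iff_forall]
  intro x hx
  obtain ⟨g, rfl⟩ := QuotientGroup.mk'_surjective _ x
  have hcomm : ∀ h, phi0 p m hm1 hme h * g = g * phi0 p m hm1 hme h := by
    intro h
    apply hmk
    rw [map_mul, map_mul]
    exact (Subgroup.mem_centralizer_iff.mp hx) _ ⟨h, rfl⟩
  have hcv : ∀ h, (phi0 p m hm1 hme h).val * g.val = g.val * (phi0 p m hm1 hme h).val :=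
    fun h => congrArg Subtype.val (hcomm h)
  have hG1 : g.val * Sh p m m = Sh p m m * g.val := by
    have h4 := hcv (SemidirectProduct.inl (Multiplicative.ofAdd ![1, 0, 0]))
    rw [phi0_inl, toAdd_ofAdd, Amat_100, add_mul, one_mul, mul_add, mul_one] at h4
    exact (add_left_cancel h4).symm
  have hG2 : g.val * Sh p m (m + 1) = Sh p m (m + 1) * g.val := by
    have h4 := hcv (SemidirectProduct.inl (Multiplicative.ofAdd ![0, 1, 0]))
    rw [phi0_inl, toAdd_ofAdd, Amat_010, add_mul, one_mul, mul_add, mul_one] at h4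
    exact (add_left_cancel h4).symm
  have hG3 : g.val * Matrix.diagonal (dvec p m (-1)) = Matrix.diagonal (dvec p m (-1)) * g.val := by
    have h4 := hcv (SemidirectProduct.inr (-1))
    rw [phi0_inr, cc_neg_one] at h4
    exact h4.symm
  have hg := core hp2 g.val hG1 hG2 hG3
  have hdet := g.prop
  rw [hg, Matrix.det_smul, Fintype.card_fin, Matrix.det_one, mul_one] at hdet
  have hl := hr _ hdet
  rw [hl, one_smul] at hg
  have hg1 : g = 1 := Subtype.ext hg
  rw [hg1, map_one]

/-- For every odd prime `p` there is a finite group `H` of order `2p³` which, for infinitely many `n`, embeds in the projective special linear group `PSL(n, p)` as a subgroup with trivial centralizer. -/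
theorem result
    (p : ℕ) [Fact p.Prime] (hp : p ≠ 2) :
    ∃ (H : Type) (_ : Group H) (_ : Finite H), Nat.card H = 2 * p ^ 3 ∧
      ∀ N : ℕ, ∃ n, N ≤ n ∧ ∃ φ : H →* Matrix.ProjectiveSpecialLinearGroup (Fin n) (ZMod p),
        Function.Injective φ ∧ Subgroup.centralizer (φ.range : Set (Matrix.ProjectiveSpecialLinearGroup (Fin n) (ZMod p))) = ⊥ := by
  classical
  haveI : Finite (Multiplicative (Fin 3 → ZMod p) ⋊[psi p] ℤˣ) :=
    Finite.of_equiv _ SemidirectProduct.equivProd.symm
  refine ⟨Multiplicative (Fin 3 → ZMod p) ⋊[psi p] ℤˣ, inferInstance, inferInstance, ?_, ?_⟩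
  · have h1 : Nat.card (Multiplicative (Fin 3 → ZMod p)) = p ^ 3 := by
      rw [Nat.card_congr Multiplicative.toAdd, Nat.card_eq_fintype_card, Fintype.card_fun,
        ZMod.card, Fintype.card_fin]
    rw [SemidirectProduct.card, h1, Nat.card_eq_fintype_card, Fintype.card_units_int, mul_comm]
  · intro N
    have hp3 : 3 ≤ p := by
      have h3 := (Fact.out : p.Prime).two_le
      omega
    have hm : 2 ≤ (p - 1) * (N + 1) := by
      have := Nat.mul_le_mul (show 2 ≤ p - 1 by omega) (Nat.succ_le_of_lt (Nat.succ_pos N))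
      omega
    have hN : N + 1 ≤ (p - 1) * (N + 1) := Nat.le_mul_of_pos_left _ (by omega)
    have hme : Even ((p - 1) * (N + 1)) := by
      apply Even.mul_right
      rcases (Fact.out : p.Prime).eq_two_or_odd' with h | ⟨k, hk⟩
      · exact absurd h hp
      · exact ⟨k, by omega⟩
    refine ⟨(p - 1) * (N + 1) + ((p - 1) * (N + 1) + 1), by omega,
      main_n p hp _ hm hme ?_⟩
    intro r hr
    have hr0 : r ≠ 0 := by
      intro h0
      rw [h0, zero_pow (by omega)] at hr
      exact zero_ne_one hr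
    have h4 : r ^ ((p - 1) * (N + 1)) = 1 := by
      rw [pow_mul, ZMod.pow_card_sub_one_eq_one hr0, one_pow]
    rw [pow_add, pow_succ, h4, one_mul, one_mul] at hr
    exact hr

end Cfsg.Agent.S2533
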