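import Cfsg.Statements.S2540
import Cfsg.Agent.S0249
import Cfsg.Agent.Lib.Helper2.StabMax
import Cfsg.Agent.Lib.Helper2.SpSimple

set_option autoImplicit false
open Cfsg

namespace Cfsg.Agent.S2540


open Matrix Cfsg.Agent.Lib.Helper2 Cfsg.Agent.Lib.Helper2.StabMax

section
variable {F : Type*} [Field F] {n : ℕ}

/-- a matrix sending each vector to a multiple of itself is scalar -/
theorem scalar_of_fix (A : Matrix (Fin n) (Fin n) F)
    (h : ∀ v : Fin n → F, v ≠ 0 → ∃ a : F, A *ᵥ v = a • v) :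
    ∃ c : F, A = c • (1 : Matrix (Fin n) (Fin n) F) := by
  have h1 : A ∈ Set.range (Matrix.scalar (Fin n)) := by
    rw [Matrix.mem_range_scalar_iff_commute_single']
    intro i j
    exact (SpSimple.comm_of_fix A h (Matrix.single i j 1)).symm
  obtain ⟨c, hc⟩ := h1
  refine ⟨c, ?_⟩
  rw [← hc, Matrix.scalar_apply, Matrix.smul_one_eq_diagonal]

theorem key (G : Subgroup (GL (Fin n) F))
    (hG : ∀ s : SpecialLinearGroup (Fin n) F, ∀ g ∈ G,
      SpecialLinearGroup.toGL s * g * (SpecialLinearGroup.toGL s)⁻¹ ∈ G)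
    (hN : G.comap SpecialLinearGroup.toGL ≤ Subgroup.center (SpecialLinearGroup (Fin n) F))
    (g : GL (Fin n) F) (hg : g ∈ G) :
    ∃ c : F, (g : Matrix (Fin n) (Fin n) F) = c • (1 : Matrix (Fin n) (Fin n) F) := by
  apply scalar_of_fix
  intro v hv
  by_contra hcon
  obtain ⟨u, hu⟩ : ∃ u : Fin n → F, u = (g : Matrix (Fin n) (Fin n) F) *ᵥ v := ⟨_, rfl⟩
  rw [← hu] at hcon
  have hnot : u ∉ Submodule.span F {v} := by
    intro hmem
    rw [Submodule.mem_span_singleton] at hmem
    obtain ⟨a, ha⟩ := hmem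
    exact hcon ⟨a, ha.symm⟩
  obtain ⟨ψ, hψU, hψu⟩ := exists_sep (Submodule.span F {v}) u hnot
  have hψv : ψ ⬝ᵥ v = 0 := hψU v (Submodule.mem_span_singleton_self v)
  have hψv' : (-ψ) ⬝ᵥ v = 0 := by rw [neg_dotProduct, hψv, neg_zero]
  obtain ⟨M, hM⟩ : ∃ M : Matrix (Fin n) (Fin n) F, M = (g : Matrix (Fin n) (Fin n) F) * T v ψ *
      ((g⁻¹ : GL (Fin n) F) : Matrix (Fin n) (Fin n) F) * T v (-ψ) := ⟨_, rfl⟩
  have hdet : M.det = 1 := by
    rw [hM, Matrix.det_mul, Matrix.det_mul, Matrix.det_mul, T_det v ψ hψv, T_det v (-ψ) hψv',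
      mul_one, mul_one, ← Matrix.det_mul, ← Units.val_mul, mul_inv_cancel, Units.val_one,
      Matrix.det_one]
  have ht : SpecialLinearGroup.toGL (⟨T v ψ, T_det v ψ hψv⟩ : SpecialLinearGroup (Fin n) F) =
      tvGL v ψ hψv := Units.ext rfl
  have hc'G : SpecialLinearGroup.toGL (⟨M, hdet⟩ : SpecialLinearGroup (Fin n) F) ∈ G := by
    have h1 : SpecialLinearGroup.toGL (⟨M, hdet⟩ : SpecialLinearGroup (Fin n) F) =
        g * (tvGL v ψ hψv * g⁻¹ * (tvGL v ψ hψv)⁻¹) := by
      apply Units.ext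
      show M = (g : Matrix (Fin n) (Fin n) F) *
        (T v ψ * ((g⁻¹ : GL (Fin n) F) : Matrix (Fin n) (Fin n) F) * T v (-ψ))
      rw [hM, Matrix.mul_assoc, Matrix.mul_assoc, Matrix.mul_assoc]
    rw [h1]
    have h2 := hG ⟨T v ψ, T_det v ψ hψv⟩ g⁻¹ (G.inv_mem hg)
    rw [ht] at h2
    exact G.mul_mem hg h2
  have hcen := hN (Subgroup.mem_comap.mpr hc'G)
  obtain ⟨r, -, hr⟩ := Matrix.SpecialLinearGroup.mem_center_iff.mp hcen
  have hr' : M = Matrix.scalar (Fin n) r := hr.symm
  have e1 : T v ψ *ᵥ v = v := by rw [T_mulVec, hψv, zero_smul, add_zero]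
  have e2 : T v (-ψ) *ᵥ (u + v) = u := by
    rw [T_mulVec, neg_dotProduct, dotProduct_add, hψu, hψv, add_zero, neg_smul, one_smul,
      add_neg_cancel_right]
  have e3 : ((g⁻¹ : GL (Fin n) F) : Matrix (Fin n) (Fin n) F) *ᵥ u = v := by
    rw [hu, Matrix.mulVec_mulVec, ← Units.val_mul, inv_mul_cancel, Units.val_one,
      Matrix.one_mulVec]
  have e4 : M *ᵥ (u + v) = u := by
    rw [hM, ← Matrix.mulVec_mulVec, ← Matrix.mulVec_mulVec, ← Matrix.mulVec_mulVec, e2, e3, e1,
      ← hu]
  have hfin : u = r • (u + v) := by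
    rw [hr', Matrix.scalar_apply, ← Matrix.smul_one_eq_diagonal, Matrix.smul_mulVec,
      Matrix.one_mulVec] at e4
    exact e4.symm
  by_cases hr1 : r = 1
  · rw [hr1, one_smul] at hfin
    exact hv (add_eq_left.mp hfin.symm)
  · have h1r : (1 - r) ≠ 0 := sub_ne_zero.mpr (Ne.symm hr1)
    refine hcon ⟨(1 - r)⁻¹ * r, ?_⟩
    funext i
    have hi := congrFun hfin i
    simp only [Pi.smul_apply, Pi.add_apply, smul_eq_mul] at hi ⊢
    have h3 : (1 - r) * u i = r * v i := by linear_combination hi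
    rw [mul_assoc, ← h3, inv_mul_cancel_left₀ h1r]

theorem exists_sq_ne_one [Fintype F] (h4 : 4 ≤ Fintype.card F) :
    ∃ a : F, a ≠ 0 ∧ a ^ 2 ≠ 1 := by
  classical
  by_contra hcon
  push Not at hcon
  have hsub : (Finset.univ : Finset F) ⊆ {0, 1, -1} := by
    intro a _
    by_cases h0 : a = 0
    · simp [h0]
    · have h1 := hcon a h0
      rw [pow_two, mul_self_eq_one_iff] at h1
      rcases h1 with h1 | h1
      · simp [h1]
      · simp [h1]
  have h1 := Finset.card_le_card hsub
  have h2 : ({0, 1, -1} : Finset F).card ≤ 3 := Finset.card_le_three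
  rw [Finset.card_univ] at h1
  omega

end
/-- Let F be a finite field and n ≥ 1, excluding the case n = 2 with #F ≤ 3. A subgroup of GL_n(F) that is normalized by every element of SL_n(F) either consists of scalar matrices or contains SL_n(F). -/
theorem result {F : Type*} [Field F] [Fintype F] (n : ℕ) (hn : 1 ≤ n) (hex : ¬ (n = 2 ∧ Fintype.card F ≤ 3)) (G : Subgroup (Matrix.GeneralLinearGroup (Fin n) F)) (hG : ∀ s : Matrix.SpecialLinearGroup (Fin n) F, ∀ g ∈ G, (Matrix.SpecialLinearGroup.toGL s) * g * (Matrix.SpecialLinearGroup.toGL s)⁻¹ ∈ G) : (∀ g ∈ G, ∃ c : F, (g : Matrix (Fin n) (Fin n) F) = c • (1 : Matrix (Fin n) (Fin n) F)) ∨ (Matrix.SpecialLinearGroup.toGL : Matrix.SpecialLinearGroup (Fin n) F →* _).range ≤ G := by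
  classical
  rcases Nat.lt_or_ge n 2 with h2 | h2
  · left
    intro g _
    have hn1 : n = 1 := by omega
    subst hn1
    refine ⟨(g : Matrix (Fin 1) (Fin 1) F) 0 0, ?_⟩
    ext i j
    fin_cases i
    fin_cases j
    simp
  have hNn : (G.comap (Matrix.SpecialLinearGroup.toGL :
      Matrix.SpecialLinearGroup (Fin n) F →* _)).Normal := by
    constructor
    intro x hx s
    show Matrix.SpecialLinearGroup.toGL (s * x * s⁻¹) ∈ G
    rw [map_mul, map_mul, map_inv]
    exact hG s _ hx
  have hsimple : IsSimpleGroup (Matrix.ProjectiveSpecialLinearGroup (Fin n) F) := by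
    rcases Nat.lt_or_ge n 3 with h3 | h3
    · have hn2 : n = 2 := by omega
      subst hn2
      apply Matrix.ProjectiveSpecialLinearGroup.rank_two_simple
      rw [Nat.card_eq_fintype_card]
      by_contra hc
      exact hex ⟨rfl, by omega⟩
    · exact Cfsg.Agent.S0249.result n h3
  have hperf : commutator (Matrix.SpecialLinearGroup (Fin n) F) = ⊤ := by
    rcases Nat.lt_or_ge n 3 with h3 | h3
    · have hn2 : n = 2 := by omega
      subst hn2
      have h4 : 4 ≤ Fintype.card F := by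
        by_contra hc
        exact hex ⟨rfl, by omega⟩
      obtain ⟨a, ha, hasq⟩ := exists_sq_ne_one h4
      exact Matrix.SL2.commutator_eq_top ha hasq
    · exact Cfsg.Agent.Lib.Helper1.SL_commutator_eq_top (by rw [Fintype.card_fin]; exact h3)
  have hπ : Function.Surjective (QuotientGroup.mk'
      (Subgroup.center (Matrix.SpecialLinearGroup (Fin n) F))) := QuotientGroup.mk'_surjective _
  have hNmap := hNn.map _ hπ
  rcases hsimple.eq_bot_or_eq_top_of_normal _ hNmap with hb | ht
  · left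
    have hle : G.comap (Matrix.SpecialLinearGroup.toGL :
        Matrix.SpecialLinearGroup (Fin n) F →* _) ≤
        Subgroup.center (Matrix.SpecialLinearGroup (Fin n) F) := by
      have h1 := (Subgroup.map_eq_bot_iff _).1 hb
      rwa [QuotientGroup.ker_mk'] at h1
    intro g hg
    exact key G hG hle g hg
  · right
    have hsup : G.comap (Matrix.SpecialLinearGroup.toGL :
        Matrix.SpecialLinearGroup (Fin n) F →* _) ⊔
        Subgroup.center (Matrix.SpecialLinearGroup (Fin n) F) = ⊤ := by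
      have h1 := Subgroup.comap_map_eq (QuotientGroup.mk'
        (Subgroup.center (Matrix.SpecialLinearGroup (Fin n) F)))
        (G.comap (Matrix.SpecialLinearGroup.toGL : Matrix.SpecialLinearGroup (Fin n) F →* _))
      rw [ht, Subgroup.comap_top, QuotientGroup.ker_mk'] at h1
      exact h1.symm
    have := hNn
    have hcomm := Subgroup.Normal.commutator_le_of_self_sup_commutative_eq_top hsup
      (Subgroup.center.isMulCommutative _)
    rw [hperf] at hcomm
    rintro _ ⟨s, rfl⟩
    exact hcomm (Subgroup.mem_top s)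

end Cfsg.Agent.S2540
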