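import Mathlib
import Cfsg.Statements.S2541

set_option autoImplicit false
open Cfsg

namespace Cfsg.Agent.S2541

theorem perm6_pow (σ : Equiv.Perm (Fin 6)) (h : σ ^ 8 = 1) : σ ^ 4 = 1 := by
  rw [← orderOf_dvd_iff_pow_eq_one] at h ⊢
  rw [← Equiv.Perm.lcm_cycleType] at h ⊢
  rw [Multiset.lcm_dvd] at h ⊢
  intro n hn
  have h8 := h n hn
  have hle : n ≤ 6 := by
    have h1 := Equiv.Perm.le_card_support_of_mem_cycleType hn
    have h2 : σ.support.card ≤ Fintype.card (Fin 6) := Finset.card_le_univ _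
    simpa using h1.trans h2
  have hpos : 0 < n := Nat.pos_of_dvd_of_pos h8 (by norm_num)
  interval_cases n <;> omega

theorem result {F : Type*} [Field F] [Fintype F] (hF : Fintype.card F = 9) : ¬ Nonempty (Equiv.Perm (Fin 6) ≃* Matrix.ProjGenLinGroup (Fin 2) F) := by
  rintro ⟨e⟩
  classical
  obtain ⟨ζ, hζ⟩ := IsCyclic.exists_generator (α := Fˣ)
  have hord : orderOf ζ = 8 := by
    rw [orderOf_eq_card_of_forall_mem_zpowers hζ, Nat.card_eq_fintype_card, Fintype.card_units, hF]
  let d : F →* Matrix (Fin 2) (Fin 2) F :=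
    { toFun := fun a => Matrix.diagonal ![a, 1]
      map_one' := by
        rw [← Matrix.diagonal_one]; congr 1; ext i; fin_cases i <;> simp
      map_mul' := fun a b => by
        rw [Matrix.diagonal_mul_diagonal]; congr 1; ext i; fin_cases i <;> simp }
  have hker : ∀ u : Fˣ, Matrix.ProjGenLinGroup.mk (Units.map d u) = 1 → u = 1 := by
    intro u hu
    rw [Matrix.ProjGenLinGroup.mk_eq_one, Matrix.GeneralLinearGroup.center_eq_range_scalar] at hu
    obtain ⟨v, hv⟩ := hu
    have h00 := congrArg (fun g : Matrix.GeneralLinearGroup (Fin 2) F => (g : Matrix (Fin 2) (Fin 2) F) 0 0) hv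
    have h11 := congrArg (fun g : Matrix.GeneralLinearGroup (Fin 2) F => (g : Matrix (Fin 2) (Fin 2) F) 1 1) hv
    simp [d, Matrix.GeneralLinearGroup.coe_scalar] at h00 h11
    ext
    rw [← h00, h11, Units.val_one]
  have h8 : (e.symm (Matrix.ProjGenLinGroup.mk (Units.map d ζ))) ^ 8 = 1 := by
    rw [← map_pow, ← map_pow, ← map_pow, ← hord, pow_orderOf_eq_one, map_one, map_one, map_one]
  have h4 := perm6_pow _ h8
  have h4'' : Matrix.ProjGenLinGroup.mk (Units.map d (ζ ^ 4)) = 1 := by
    have := congrArg e h4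
    rw [map_pow, MulEquiv.apply_symm_apply, map_one] at this
    rw [map_pow, map_pow]; exact this
  have h4' := hker _ h4''
  rw [← orderOf_dvd_iff_pow_eq_one, hord] at h4'
  omega

end Cfsg.Agent.S2541
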