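import Mathlib
import Cfsg.Statements.S2542
import Cfsg.Agent.S0803
import Cfsg.Agent.S0804
import Cfsg.Agent.Lib.Helper1.PSL2Small

set_option autoImplicit false
open Cfsg

namespace Cfsg.Agent.S2542

/-- if `t` is an involution normalising `K` but not in `K`, then `2 |K|` divides `|G|` -/
theorem two_card_dvd {G : Type*} [Group G] [Finite G] (K : Subgroup G) (t : G) (htt : t * t = 1)
    (htK : t ∉ K) (hconj : ∀ k ∈ K, t * k * t ∈ K) : 2 * Nat.card K ∣ Nat.card G := by
  have hti : t⁻¹ = t := inv_eq_of_mul_eq_one_right htt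
  have htN : t ∈ Subgroup.normalizer (K : Set G) := by
    apply Cfsg.Agent.S0803.mem_normalizer_of_conj
    intro v hv
    rw [hti]
    exact hconj v hv
  have hle : K ≤ Subgroup.normalizer (K : Set G) := Subgroup.le_normalizer
  obtain ⟨N, hN⟩ : ∃ N : Subgroup G, N = Subgroup.normalizer (K : Set G) := ⟨_, rfl⟩
  rw [← hN] at htN hle
  haveI : (K.subgroupOf N).Normal := by rw [hN]; exact Subgroup.normal_in_normalizer
  obtain ⟨x, hx⟩ : ∃ x : N ⧸ K.subgroupOf N, x = QuotientGroup.mk ⟨t, htN⟩ := ⟨_, rfl⟩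
  have hx2 : x ^ 2 = 1 := by
    rw [hx, ← QuotientGroup.mk_pow, QuotientGroup.eq_one_iff, Subgroup.mem_subgroupOf]
    show ((⟨t, htN⟩ : N) ^ 2 : N).1 ∈ K
    rw [pow_two]
    show t * t ∈ K
    rw [htt]; exact K.one_mem
  have hx1 : x ≠ 1 := by
    rw [hx, Ne, QuotientGroup.eq_one_iff, Subgroup.mem_subgroupOf]
    exact htK
  haveI : Fact (Nat.Prime 2) := ⟨Nat.prime_two⟩
  have ho : orderOf x = 2 := orderOf_eq_prime hx2 hx1
  have h2 : 2 ∣ Nat.card (N ⧸ K.subgroupOf N) := by rw [← ho]; exact orderOf_dvd_natCard x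
  have hcard := Subgroup.card_eq_card_quotient_mul_card_subgroup (K.subgroupOf N)
  have hK : Nat.card (K.subgroupOf N) = Nat.card K :=
    Nat.card_congr (Subgroup.subgroupOfEquivOfLe hle).toEquiv
  rw [hK] at hcard
  have h3 : 2 * Nat.card K ∣ Nat.card N := by
    rw [hcard]; exact Nat.mul_dvd_mul_right h2 _
  exact h3.trans (Subgroup.card_subgroup_dvd_card N)

theorem two_trans {G : Type*} [Group G] [Finite G] [IsSimpleGroup G] (H : Subgroup G)
    [IsSimpleGroup H] (hG : Nat.card G = 660) (hH : Nat.card H = 60) :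
    MulAction.IsMultiplyPretransitive G (G ⧸ H) 2 := by
  classical
  have hidx : H.index = 11 := by
    have h := Subgroup.index_mul_card H
    rw [hH, hG] at h
    omega
  have hΩ : Nat.card (G ⧸ H) = 11 := hidx
  -- (1) `H` is self-normalising
  have hN : Subgroup.normalizer (H : Set G) = H := by
    have hle : H ≤ Subgroup.normalizer (H : Set G) := Subgroup.le_normalizer
    have hd := Subgroup.index_dvd_of_le hle
    rw [hidx] at hd
    rcases (Nat.dvd_prime (by norm_num : Nat.Prime 11)).1 hd with h1 | h11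
    · exfalso
      have htop : Subgroup.normalizer (H : Set G) = ⊤ := Subgroup.index_eq_one.1 h1
      have hnorm : H.Normal := Subgroup.normalizer_eq_top_iff.1 htop
      rcases hnorm.eq_bot_or_eq_top with hb | ht
      · rw [hb, Subgroup.index_bot, hG] at hidx
        omega
      · rw [ht, Subgroup.index_top] at hidx
        omega
    · symm
      apply Subgroup.eq_of_le_of_card_ge hle
      have h := Subgroup.index_mul_card (Subgroup.normalizer (H : Set G))
      rw [h11, hG] at h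
      rw [hH]
      omega
  have hself : ∀ u : G, (∀ h ∈ H, u⁻¹ * h * u ∈ H) → u ∈ H := by
    intro u hu
    have h1 : u⁻¹ ∈ Subgroup.normalizer (H : Set G) := by
      apply Cfsg.Agent.S0803.mem_normalizer_of_conj
      intro v hv
      rw [inv_inv]
      exact hu v hv
    rw [hN] at h1
    exact (Subgroup.inv_mem_iff H).1 h1
  -- (2) proper subgroups of `H` have index at least 5
  have hidx5 : ∀ K : Subgroup H, K ≠ ⊤ → 5 ≤ K.index := by
    intro K hK
    let φ : H →* Equiv.Perm (H ⧸ K) := MulAction.toPermHom H (H ⧸ K)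
    have hinj : Function.Injective φ := by
      rcases IsSimpleGroup.eq_bot_or_eq_top_of_normal φ.ker inferInstance with h | h
      · exact (MonoidHom.ker_eq_bot_iff φ).1 h
      · exfalso
        apply hK
        rw [eq_top_iff, ← h, ← Subgroup.normalCore_eq_ker K]
        exact Subgroup.normalCore_le K
    have hd := Subgroup.card_dvd_of_injective φ hinj
    rw [hH, Nat.card_perm] at hd
    have hk : Nat.card (H ⧸ K) = K.index := rfl
    rw [hk] at hd
    obtain ⟨k, hk'⟩ : ∃ k, k = K.index := ⟨_, rfl⟩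
    rw [← hk'] at hd ⊢
    by_contra hlt
    have hlt' : k < 5 := not_le.1 hlt
    interval_cases k <;> revert hd <;> decide
  -- (3) an involution outside `H`
  haveI : Fact (Nat.Prime 2) := ⟨Nat.prime_two⟩
  obtain ⟨t₀, ht₀⟩ := exists_prime_orderOf_dvd_card' (G := G) 2 (by rw [hG]; norm_num)
  have hcore : H.normalCore = ⊥ := by
    rcases IsSimpleGroup.eq_bot_or_eq_top_of_normal H.normalCore inferInstance with h | h
    · exact h
    · exfalso
      have hHt : H = ⊤ := by rw [eq_top_iff, ← h]; exact Subgroup.normalCore_le H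
      rw [hHt, Subgroup.index_top] at hidx
      omega
  obtain ⟨g, hg⟩ : ∃ g : G, g * t₀ * g⁻¹ ∉ H := by
    by_contra hall
    have hall' : ∀ g : G, g * t₀ * g⁻¹ ∈ H := fun g => by
      by_contra h; exact hall ⟨g, h⟩
    have hmem : t₀ ∈ H.normalCore := hall'
    rw [hcore, Subgroup.mem_bot] at hmem
    rw [hmem, orderOf_one] at ht₀
    norm_num at ht₀
  obtain ⟨t, ht⟩ : ∃ t : G, t = g * t₀ * g⁻¹ := ⟨_, rfl⟩
  have htH : t ∉ H := by rw [ht]; exact hg
  have htt : t * t = 1 := by
    have h2 : t₀ ^ 2 = 1 := by rw [← ht₀]; exact pow_orderOf_eq_one t₀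
    rw [pow_two] at h2
    rw [ht]
    calc g * t₀ * g⁻¹ * (g * t₀ * g⁻¹) = g * (t₀ * t₀) * g⁻¹ := by group
      _ = 1 := by rw [h2, mul_one, mul_inv_cancel]
  have hti : t⁻¹ = t := inv_eq_of_mul_eq_one_right htt
  -- (4) orbits of `H` on `G ⧸ H`
  obtain ⟨x₀, hx₀⟩ : ∃ x₀ : G ⧸ H, x₀ = QuotientGroup.mk 1 := ⟨_, rfl⟩
  have hmk0 : ∀ u : G, (QuotientGroup.mk u : G ⧸ H) = x₀ ↔ u ∈ H := by
    intro u
    rw [hx₀, QuotientGroup.eq, mul_one, Subgroup.inv_mem_iff]
  have hSt : ∀ u : G, u ∉ H → MulAction.stabilizer H (QuotientGroup.mk u : G ⧸ H) ≠ ⊤ := by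
    intro u hu htop
    apply hu
    apply hself u
    intro h hh
    have hm : (⟨h, hh⟩ : H) ∈ MulAction.stabilizer H (QuotientGroup.mk u : G ⧸ H) := by
      rw [htop]; exact Subgroup.mem_top _
    rw [MulAction.mem_stabilizer_iff] at hm
    have e : (QuotientGroup.mk (h * u) : G ⧸ H) = QuotientGroup.mk u := hm
    rw [QuotientGroup.eq] at e
    have e2 := H.inv_mem e
    have e3 : ((h * u)⁻¹ * u)⁻¹ = u⁻¹ * h * u := by group
    rw [e3] at e2
    exact e2
  have hx0 : ∀ u : G, u ∉ H → x₀ ∉ MulAction.orbit H (QuotientGroup.mk u : G ⧸ H) := by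
    intro u hu hx
    rw [MulAction.mem_orbit_iff] at hx
    obtain ⟨h, hh⟩ := hx
    have e : (QuotientGroup.mk ((h : G) * u) : G ⧸ H) = x₀ := hh
    rw [hmk0] at e
    apply hu
    have e2 := H.mul_mem (H.inv_mem h.2) e
    rwa [inv_mul_cancel_left] at e2
  have hcompl : ({x₀}ᶜ : Set (G ⧸ H)).ncard = 10 := by
    have h := Set.ncard_add_ncard_compl ({x₀} : Set (G ⧸ H))
    rw [Set.ncard_singleton, hΩ] at h
    omega
  have hOle : ∀ u : G, u ∉ H → (MulAction.orbit H (QuotientGroup.mk u : G ⧸ H)).ncard ≤ 10 := by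
    intro u hu
    rw [← hcompl]
    apply Set.ncard_le_ncard _ (Set.toFinite _)
    intro z hz hzx
    rw [Set.mem_singleton_iff] at hzx
    rw [hzx] at hz
    exact hx0 u hu hz
  have hOS : ∀ u : G, (MulAction.orbit H (QuotientGroup.mk u : G ⧸ H)).ncard *
      Nat.card (MulAction.stabilizer H (QuotientGroup.mk u : G ⧸ H)) = 60 := by
    intro u
    rw [← MulAction.index_stabilizer, Subgroup.index_mul_card, hH]
  have hO5 : ∀ u : G, u ∉ H → 5 ≤ (MulAction.orbit H (QuotientGroup.mk u : G ⧸ H)).ncard := by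
    intro u hu
    rw [← MulAction.index_stabilizer]
    exact hidx5 _ (hSt u hu)
  -- (4e) the stabiliser of `tH` in `H`
  obtain ⟨K, hK⟩ : ∃ K : Subgroup G, K =
      (MulAction.stabilizer H (QuotientGroup.mk t : G ⧸ H)).map H.subtype := ⟨_, rfl⟩
  have hKcard : Nat.card K = Nat.card (MulAction.stabilizer H (QuotientGroup.mk t : G ⧸ H)) := by
    rw [hK]; exact Subgroup.card_map_of_injective H.subtype_injective
  have hmemK : ∀ k : G, k ∈ K ↔ k ∈ H ∧ t * k * t ∈ H := by
    intro k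
    rw [hK, Subgroup.mem_map]
    constructor
    · rintro ⟨h, hh, rfl⟩
      refine ⟨h.2, ?_⟩
      rw [MulAction.mem_stabilizer_iff] at hh
      have e : (QuotientGroup.mk ((h : G) * t) : G ⧸ H) = QuotientGroup.mk t := hh
      rw [QuotientGroup.eq] at e
      have e2 := H.inv_mem e
      have e3 : (((h : G) * t)⁻¹ * t)⁻¹ = t⁻¹ * (h : G) * t := by group
      rw [e3, hti] at e2
      exact e2
    · rintro ⟨hk, hk2⟩
      refine ⟨⟨k, hk⟩, ?_, rfl⟩
      rw [MulAction.mem_stabilizer_iff]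
      show (QuotientGroup.mk (k * t) : G ⧸ H) = QuotientGroup.mk t
      rw [QuotientGroup.eq]
      have e2 := H.inv_mem hk2
      have e3 : (t * k * t)⁻¹ = (k * t)⁻¹ * t⁻¹ := by group
      rw [e3, hti] at e2
      exact e2
  have htK : t ∉ K := fun h => htH ((hmemK t).1 h).1
  have hconjK : ∀ k ∈ K, t * k * t ∈ K := by
    intro k hk
    obtain ⟨h1, h2⟩ := (hmemK k).1 hk
    rw [hmemK]
    refine ⟨h2, ?_⟩
    have e : t * (t * k * t) * t = k := by
      calc t * (t * k * t) * t = (t * t) * k * (t * t) := by group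
        _ = k := by rw [htt, one_mul, mul_one]
    rw [e]; exact h1
  have h2K := two_card_dvd K t htt htK hconjK
  rw [hG, hKcard] at h2K
  -- (4f) the orbit of `tH` has 6 or 10 points
  have hot : (MulAction.orbit H (QuotientGroup.mk t : G ⧸ H)).ncard = 10 := by
    have h1 := hOS t
    have h2 := hO5 t htH
    have h3 := hOle t htH
    obtain ⟨o, ho⟩ : ∃ o, o = (MulAction.orbit H (QuotientGroup.mk t : G ⧸ H)).ncard := ⟨_, rfl⟩
    obtain ⟨s, hs⟩ : ∃ s, s = Nat.card (MulAction.stabilizer H (QuotientGroup.mk t : G ⧸ H)) :=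
      ⟨_, rfl⟩
    rw [← ho, ← hs] at h1
    rw [← ho] at h2 h3 ⊢
    rw [← hs] at h2K
    have ho6 : o ≠ 6 := by
      intro h6
      -- the four remaining points
      obtain ⟨A, hA⟩ : ∃ A : Set (G ⧸ H), A =
          insert x₀ (MulAction.orbit H (QuotientGroup.mk t : G ⧸ H)) := ⟨_, rfl⟩
      have hAcard : A.ncard = 7 := by
        rw [hA, Set.ncard_insert_of_notMem (hx0 t htH) (Set.toFinite _), ← ho, h6]
      have hAc : Aᶜ.ncard = 4 := by
        have h := Set.ncard_add_ncard_compl A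
        rw [hAcard, hΩ] at h
        omega
      have hne : Aᶜ.Nonempty := by
        rw [← Set.ncard_pos (Set.toFinite _), hAc]; norm_num
      obtain ⟨y, hy⟩ := hne
      obtain ⟨u, rfl⟩ := QuotientGroup.mk_surjective y
      have hyx : (QuotientGroup.mk u : G ⧸ H) ≠ x₀ := by
        intro h; apply hy; rw [hA, h]; exact Set.mem_insert _ _
      have huH : u ∉ H := fun h => hyx ((hmk0 u).2 h)
      have hdisj : Disjoint (MulAction.orbit H (QuotientGroup.mk u : G ⧸ H))
          (MulAction.orbit H (QuotientGroup.mk t : G ⧸ H)) := by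
        rcases MulAction.orbit.eq_or_disjoint (G := H) (QuotientGroup.mk u : G ⧸ H)
          (QuotientGroup.mk t : G ⧸ H) with h | h
        · exfalso
          apply hy
          rw [hA]
          apply Set.mem_insert_of_mem
          rw [← h]
          exact MulAction.mem_orbit_self _
        · exact h
      have hsub : MulAction.orbit H (QuotientGroup.mk u : G ⧸ H) ⊆ Aᶜ := by
        intro z hz hzA
        rw [hA] at hzA
        rcases hzA with h | h
        · rw [h] at hz; exact hx0 u huH hz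
        · exact (Set.disjoint_left.1 hdisj) hz h
      have hle := Set.ncard_le_ncard hsub (Set.toFinite _)
      rw [hAc] at hle
      have h5 := hO5 u huH
      omega
    interval_cases o
    · exfalso
      have hs12 : s = 12 := by omega
      rw [hs12] at h2K
      norm_num at h2K
    · exact absurd rfl ho6
    · omega
    · omega
    · omega
    · rfl
  have hOt : MulAction.orbit H (QuotientGroup.mk t : G ⧸ H) = {x₀}ᶜ := by
    apply Set.eq_of_subset_of_ncard_le
    · intro z hz hzx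
      rw [Set.mem_singleton_iff] at hzx
      rw [hzx] at hz
      exact hx0 t htH hz
    · rw [hcompl, hot]
    · exact Set.toFinite _
  -- (5) conclusion
  have hmove : ∀ u v : G, u ∉ H → v ∉ H → ∃ h : H,
      (QuotientGroup.mk ((h : G) * u) : G ⧸ H) = QuotientGroup.mk v := by
    intro u v hu hv
    have hu' : (QuotientGroup.mk u : G ⧸ H) ∈ MulAction.orbit H (QuotientGroup.mk t : G ⧸ H) := by
      rw [hOt]; intro h; exact hu ((hmk0 u).1 h)
    have hv' : (QuotientGroup.mk v : G ⧸ H) ∈ MulAction.orbit H (QuotientGroup.mk t : G ⧸ H) := by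
      rw [hOt]; intro h; exact hv ((hmk0 v).1 h)
    rw [MulAction.mem_orbit_iff] at hu' hv'
    obtain ⟨h₁, e₁⟩ := hu'
    obtain ⟨h₂, e₂⟩ := hv'
    refine ⟨h₂ * h₁⁻¹, ?_⟩
    have e₁' : (QuotientGroup.mk ((h₁ : G) * t) : G ⧸ H) = QuotientGroup.mk u := e₁
    have e₂' : (QuotientGroup.mk ((h₂ : G) * t) : G ⧸ H) = QuotientGroup.mk v := e₂
    rw [← e₂', QuotientGroup.eq]
    rw [QuotientGroup.eq] at e₁'
    have e3 : (((h₂ * h₁⁻¹ : H) : G) * u)⁻¹ * ((h₂ : G) * t) = (((h₁ : G) * t)⁻¹ * u)⁻¹ := by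
      rw [Subgroup.coe_mul, Subgroup.coe_inv]; group
    rw [e3]
    exact H.inv_mem e₁'
  rw [MulAction.is_two_pretransitive_iff]
  intro a b c d hab hcd
  obtain ⟨a', rfl⟩ := QuotientGroup.mk_surjective a
  obtain ⟨b', rfl⟩ := QuotientGroup.mk_surjective b
  obtain ⟨c', rfl⟩ := QuotientGroup.mk_surjective c
  obtain ⟨d', rfl⟩ := QuotientGroup.mk_surjective d
  have hu : a'⁻¹ * b' ∉ H := fun h => hab (QuotientGroup.eq.2 h)
  have hv : c'⁻¹ * d' ∉ H := fun h => hcd (QuotientGroup.eq.2 h)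
  obtain ⟨h, hh⟩ := hmove _ _ hu hv
  refine ⟨c' * (h : G) * a'⁻¹, ?_, ?_⟩
  · show (QuotientGroup.mk (c' * (h : G) * a'⁻¹ * a') : G ⧸ H) = QuotientGroup.mk c'
    rw [QuotientGroup.eq]
    have e : (c' * (h : G) * a'⁻¹ * a')⁻¹ * c' = ((h : G))⁻¹ := by group
    rw [e]; exact H.inv_mem h.2
  · show (QuotientGroup.mk (c' * (h : G) * a'⁻¹ * b') : G ⧸ H) = QuotientGroup.mk d'
    rw [QuotientGroup.eq] at hh ⊢
    have e : (c' * (h : G) * a'⁻¹ * b')⁻¹ * d' = ((h : G) * (a'⁻¹ * b'))⁻¹ * (c'⁻¹ * d') := by group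
    rw [e]; exact hh

theorem result {F : Type*} [Field F] [Fintype F] (hF : Fintype.card F = 11) : ∃ H : Subgroup (Matrix.ProjectiveSpecialLinearGroup (Fin 2) F), H.index = 11 ∧ Nonempty (H ≃* alternatingGroup (Fin 5)) ∧ MulAction.IsMultiplyPretransitive (Matrix.ProjectiveSpecialLinearGroup (Fin 2) F) ((Matrix.ProjectiveSpecialLinearGroup (Fin 2) F) ⧸ H) 2 := by
  have hG : Nat.card (Matrix.ProjectiveSpecialLinearGroup (Fin 2) F) = 660 := by
    have h := Cfsg.Agent.Lib.Helper1.card_PSL2 F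
    rw [hF] at h
    have h2 : Nat.gcd 2 (11 - 1) = 2 := by decide
    rw [h2] at h
    omega
  haveI : IsSimpleGroup (Matrix.ProjectiveSpecialLinearGroup (Fin 2) F) :=
    Matrix.ProjectiveSpecialLinearGroup.rank_two_simple (by
      rw [Nat.card_eq_fintype_card, hF]; norm_num)
  obtain ⟨H, ⟨e⟩⟩ := (Cfsg.Agent.S0804.result hF).2 (by norm_num)
  have hH : Nat.card H = 60 := by
    rw [Nat.card_congr e.toEquiv, nat_card_alternatingGroup, Nat.card_fin]
    rfl
  haveI : IsSimpleGroup (alternatingGroup (Fin 5)) := alternatingGroup.isSimpleGroup_five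
  haveI : IsSimpleGroup H := e.isSimpleGroup
  refine ⟨H, ?_, ⟨e⟩, two_trans H hG hH⟩
  have h1 := Subgroup.index_mul_card H
  rw [hH, hG] at h1
  omega

end Cfsg.Agent.S2542
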