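import Mathlib
import Cfsg.Statements.S2543
import Cfsg.Agent.S0498
import Cfsg.Agent.S3377
import Cfsg.Agent.S0808

set_option autoImplicit false
open Cfsg
open scoped Pointwise

namespace Cfsg.Agent.S2543

open Cfsg.Agent.S0498.P11

/-! ## A decidable model of the simple group of order 660 -/

/-- The concrete group. -/
abbrev K660 : Subgroup (Equiv.Perm Pt) :=
  Subgroup.closure ({Uperm, Hperm, Tc0} : Set (Equiv.Perm Pt))

/-- Index set of the Bruhat normal forms. -/
abbrev I := (Fin 11 × Fin 5) ⊕ (Fin 11 × Fin 11 × Fin 5)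

/-- The Bruhat normal form. -/
def w : I → Equiv.Perm Pt
  | Sum.inl (b, j) => Uperm ^ (b : ℕ) * Hperm ^ (j : ℕ)
  | Sum.inr (i, b, j) => Uperm ^ (i : ℕ) * Tc0 * (Uperm ^ (b : ℕ) * Hperm ^ (j : ℕ))

theorem allI {P : I → Prop} (h1 : ∀ b : Fin 11, ∀ j : Fin 5, P (Sum.inl (b, j)))
    (h2 : ∀ i b : Fin 11, ∀ j : Fin 5, P (Sum.inr (i, b, j))) : ∀ x, P x := by
  intro x
  match x with
  | Sum.inl (b, j) => exact h1 b j
  | Sum.inr (i, b, j) => exact h2 i b j

theorem w_mem (x : I) : w x ∈ K660 := by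
  have hU : Uperm ∈ K660 := Subgroup.subset_closure (by simp)
  have hH : Hperm ∈ K660 := Subgroup.subset_closure (by simp)
  have hT : Tc0 ∈ K660 := Subgroup.subset_closure (by simp)
  match x with
  | Sum.inl (b, j) =>
    exact Subgroup.mul_mem _ (Subgroup.pow_mem _ hU _) (Subgroup.pow_mem _ hH _)
  | Sum.inr (i, b, j) =>
    exact Subgroup.mul_mem _ (Subgroup.mul_mem _ (Subgroup.pow_mem _ hU _) hT)
      (Subgroup.mul_mem _ (Subgroup.pow_mem _ hU _) (Subgroup.pow_mem _ hH _))

def gv (o : Pt) : Fin 11 := o.getD 0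

def lg (x : Fin 11) : Fin 5 :=
  if x = 1 then 0 else if x = 4 then 1 else if x = 5 then 2 else if x = 9 then 3 else 4

/-- Decoding a normal form. -/
def dec (π : Equiv.Perm Pt) : I :=
  match π none with
  | none => Sum.inl (gv (π (some 0)), lg (gv (π (some 1)) - gv (π (some 0))))
  | some i =>
    Sum.inr (i, gv (Tc0 (Option.map (fun y => y - i) (π (some 0)))),
      lg (gv (Tc0 (Option.map (fun y => y - i) (π (some 1))))
        - gv (Tc0 (Option.map (fun y => y - i) (π (some 0))))))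

set_option maxRecDepth 100000 in
theorem dec_w : ∀ x : I, dec (w x) = x := by
  apply allI <;> decide

theorem w_injective : Function.Injective w := by
  intro x y h
  rw [← dec_w x, ← dec_w y, h]

theorem card_K660 : Nat.card K660 = 660 := by
  obtain ⟨hs, hc⟩ := psl_simple_card (F := ZMod 11) (by rw [ZMod.card])
  haveI := hs
  obtain ⟨e⟩ := exists_iso (G := Matrix.ProjectiveSpecialLinearGroup (Fin 2) (ZMod 11)) hc
  rw [← Nat.card_congr e.toEquiv, hc]

theorem wK_bij : Function.Bijective (fun x : I => (⟨w x, w_mem x⟩ : K660)) := by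
  have hinj : Function.Injective (fun x : I => (⟨w x, w_mem x⟩ : K660)) := by
    intro x y h
    exact w_injective (congrArg Subtype.val h)
  exact hinj.bijective_of_nat_card_le (by
    rw [card_K660, Nat.card_eq_fintype_card]
    simp [Fintype.card_sum, Fintype.card_prod])

/-- The model: a simple group of order 660 embeds in `Perm Pt` with image the set of normal
forms. -/
theorem model {G : Type*} [Group G] [Finite G] [IsSimpleGroup G] (h : Nat.card G = 660) :
    ∃ (φ : G →* Equiv.Perm Pt) (eI : G ≃ I), Function.Injective φ ∧ ∀ g, φ g = w (eI g) := by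
  obtain ⟨e⟩ := exists_iso h
  refine ⟨(K660.subtype).comp e.toMonoidHom, e.toEquiv.trans (Equiv.ofBijective _ wK_bij).symm,
    ?_, ?_⟩
  · intro a b hab
    apply e.injective
    exact Subtype.ext hab
  · intro g
    have h1 := (Equiv.ofBijective _ wK_bij).apply_symm_apply (e g)
    have h2 := congrArg Subtype.val h1
    exact h2.symm

/-! ## Computations in the model -/

set_option maxRecDepth 100000 in
theorem count3 : Fintype.card {x : I // (w x) ^ 3 = 1 ∧ w x ≠ 1} = 110 := by
  decide +kernel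

set_option synthInstance.maxHeartbeats 400000 in
set_option synthInstance.maxSize 1024 in
set_option maxRecDepth 100000 in
theorem conj3 : ∀ x : I, (w x) ^ 3 = 1 → w x ≠ 1 →
    ∃ l : I, w l * w (Sum.inr (0, 1, 0)) = w x * w l := by
  apply allI <;> decide +kernel

set_option maxRecDepth 100000 in
theorem countY : Fintype.card {y : I // (w y) ^ 5 = 1 ∧
    (w (Sum.inr (0, 1, 0)) * w y) ^ 2 = 1} = 24 := by
  decide +kernel


/-! ## `A₅` from the presentation -/

theorem closure_iso_A5 {G : Type*} [Group G] (x y : G) (hx : x ^ 3 = 1) (hy : y ^ 5 = 1)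
    (hxy : (x * y) ^ 2 = 1) (hne : x ≠ 1) :
    Nonempty (Subgroup.closure ({x, y} : Set G) ≃* alternatingGroup (Fin 5)) := by
  obtain ⟨e⟩ := Cfsg.Agent.S3377.result
  obtain ⟨rels, hrels⟩ : ∃ rels : Set (FreeGroup (Fin 2)),
      rels = {FreeGroup.of (0 : Fin 2) ^ 3, FreeGroup.of (1 : Fin 2) ^ 5,
        (FreeGroup.of (0 : Fin 2) * FreeGroup.of 1) ^ 2} := ⟨_, rfl⟩
  rw [← hrels] at e
  let f : Fin 2 → G := ![x, y]
  have hf : ∀ r ∈ rels, FreeGroup.lift f r = 1 := by
    intro r hr
    rw [hrels] at hr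
    rcases hr with rfl | rfl | rfl
    · rw [map_pow, FreeGroup.lift_apply_of]; exact hx
    · rw [map_pow, FreeGroup.lift_apply_of]; exact hy
    · rw [map_pow, map_mul, FreeGroup.lift_apply_of, FreeGroup.lift_apply_of]; exact hxy
  let ψ₀ : PresentedGroup rels →* G := PresentedGroup.toGroup hf
  let ψ : alternatingGroup (Fin 5) →* G := ψ₀.comp e.symm.toMonoidHom
  have hsimple : IsSimpleGroup (alternatingGroup (Fin 5)) := alternatingGroup.isSimpleGroup_five
  have hinj : Function.Injective ψ := by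
    rcases hsimple.eq_bot_or_eq_top_of_normal ψ.ker inferInstance with h | h
    · exact (MonoidHom.ker_eq_bot_iff ψ).1 h
    · exfalso
      apply hne
      have h1 : e (PresentedGroup.of 0) ∈ ψ.ker := by rw [h]; exact Subgroup.mem_top _
      have h2 : ψ (e (PresentedGroup.of 0)) = 1 := MonoidHom.mem_ker.1 h1
      have h3 : ψ (e (PresentedGroup.of 0)) = x := by
        show ψ₀ (e.symm (e (PresentedGroup.of 0))) = x
        rw [e.symm_apply_apply]
        exact PresentedGroup.toGroup.of hf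
      rw [← h3]; exact h2
  have hrange : ψ.range = Subgroup.closure ({x, y} : Set G) := by
    have h1 : ψ.range = ψ₀.range := by
      apply le_antisymm
      · rintro _ ⟨a, rfl⟩
        exact ⟨e.symm a, rfl⟩
      · rintro _ ⟨b, rfl⟩
        refine ⟨e b, ?_⟩
        show ψ₀ (e.symm (e b)) = ψ₀ b
        rw [e.symm_apply_apply]
    rw [h1, MonoidHom.range_eq_map, ← PresentedGroup.closure_range_of, MonoidHom.map_closure]
    congr 1
    ext g
    constructor
    · rintro ⟨_, ⟨i, rfl⟩, rfl⟩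
      fin_cases i
      · left; exact PresentedGroup.toGroup.of hf
      · right; exact PresentedGroup.toGroup.of hf
    · rintro (rfl | rfl)
      · exact ⟨_, ⟨0, rfl⟩, PresentedGroup.toGroup.of hf⟩
      · exact ⟨_, ⟨1, rfl⟩, PresentedGroup.toGroup.of hf⟩
  exact ⟨(MulEquiv.subgroupCongr hrange.symm).trans (MonoidHom.ofInjective hinj).symm⟩

/-! ## Counting generating pairs -/

theorem card_eq_of_fibers {A B : Type*} [Finite A] [Finite B] (f : A → B) (k : ℕ)
    (h : ∀ b, Nat.card {a // f a = b} = k) : Nat.card A = Nat.card B * k := by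
  classical
  haveI := Fintype.ofFinite B
  rw [← Nat.card_congr (Equiv.sigmaFiberEquiv f), Nat.card_sigma,
    Finset.sum_congr rfl (fun b _ => h b), Finset.sum_const, Finset.card_univ, smul_eq_mul,
    Nat.card_eq_fintype_card]

/-- Pairs `(x, y)` with `x³ = y⁵ = (xy)² = 1`, `x ≠ 1`. -/
abbrev Pairs (M : Type*) [Group M] : Type _ :=
  {p : M × M // p.1 ^ 3 = 1 ∧ p.2 ^ 5 = 1 ∧ (p.1 * p.2) ^ 2 = 1 ∧ p.1 ≠ 1}

theorem card_pairs_congr {M N : Type*} [Group M] [Group N] (e : M ≃* N) :
    Nat.card (Pairs M) = Nat.card (Pairs N) := by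
  apply Nat.card_congr
  refine (Equiv.prodCongr e.toEquiv e.toEquiv).subtypeEquiv (fun p => ?_)
  show _ ↔ (e p.1) ^ 3 = 1 ∧ (e p.2) ^ 5 = 1 ∧ (e p.1 * e p.2) ^ 2 = 1 ∧ e p.1 ≠ 1
  rw [← map_pow, ← map_pow, ← map_mul, ← map_pow, MulEquiv.map_eq_one_iff,
    MulEquiv.map_eq_one_iff, MulEquiv.map_eq_one_iff, MulEquiv.map_ne_one_iff]

set_option maxRecDepth 1000000 in
theorem a5_pairs : Fintype.card (Pairs (alternatingGroup (Fin 5))) = 120 := by
  decide +kernel

theorem a5_pairs' : Nat.card (Pairs (alternatingGroup (Fin 5))) = 120 := by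
  rw [Nat.card_eq_fintype_card]; exact a5_pairs

theorem card_A5 : Nat.card (alternatingGroup (Fin 5)) = 60 := by
  rw [Nat.card_eq_fintype_card]; decide

section fibers

variable {G : Type*} [Group G]

/-- The subgroup generated by a pair. -/
def clOf (p : Pairs G) : Subgroup G := Subgroup.closure ({p.1.1, p.1.2} : Set G)

theorem clOf_iso (p : Pairs G) : Nonempty (clOf p ≃* alternatingGroup (Fin 5)) :=
  closure_iso_A5 p.1.1 p.1.2 p.2.1 p.2.2.1 p.2.2.2.1 p.2.2.2.2

/-- Pairs of a subgroup, viewed in the group. -/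
def incl (H : Subgroup G) (q : Pairs ↥H) : Pairs G :=
  ⟨((q.1.1 : G), (q.1.2 : G)), by
    obtain ⟨h1, h2, h3, h4⟩ := q.2
    refine ⟨?_, ?_, ?_, ?_⟩
    · have := congrArg Subtype.val h1
      simpa using this
    · have := congrArg Subtype.val h2
      simpa using this
    · have := congrArg Subtype.val h3
      simpa using this
    · intro h
      apply h4
      exact Subtype.ext h⟩

theorem clOf_incl [Finite G] (H : Subgroup G)
    (hH : Nonempty (H ≃* alternatingGroup (Fin 5))) (q : Pairs ↥H) :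
    clOf (incl H q) = H := by
  apply Subgroup.eq_of_le_of_card_ge
  · unfold clOf
    rw [Subgroup.closure_le]
    intro g hg
    rcases hg with rfl | rfl
    · exact q.1.1.2
    · exact q.1.2.2
  · obtain ⟨e⟩ := hH
    obtain ⟨e'⟩ := clOf_iso (incl H q)
    rw [Nat.card_congr e.toEquiv, Nat.card_congr e'.toEquiv]

theorem card_fiber [Finite G] (H : Subgroup G)
    (hH : Nonempty (H ≃* alternatingGroup (Fin 5))) :
    Nat.card {p : Pairs G // clOf p = H} = 120 := by
  have hbij : Function.Bijective (fun q : Pairs ↥H =>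
      (⟨incl H q, clOf_incl H hH q⟩ : {p : Pairs G // clOf p = H})) := by
    constructor
    · intro q1 q2 h
      have h1 : ((q1.1.1 : G), (q1.1.2 : G)) = ((q2.1.1 : G), (q2.1.2 : G)) :=
        congrArg (fun z : {p : Pairs G // clOf p = H} => z.1.1) h
      apply Subtype.ext
      apply Prod.ext
      · exact Subtype.ext (congrArg Prod.fst h1)
      · exact Subtype.ext (congrArg Prod.snd h1)
    · rintro ⟨p, hp⟩
      have hx : p.1.1 ∈ H := by
        rw [← hp]; exact Subgroup.subset_closure (by simp)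
      have hy : p.1.2 ∈ H := by
        rw [← hp]; exact Subgroup.subset_closure (by simp)
      obtain ⟨h1, h2, h3, h4⟩ := p.2
      refine ⟨⟨(⟨p.1.1, hx⟩, ⟨p.1.2, hy⟩), ?_, ?_, ?_, ?_⟩, ?_⟩
      · apply Subtype.ext
        simpa using h1
      · apply Subtype.ext
        simpa using h2
      · apply Subtype.ext
        simpa using h3
      · intro h
        apply h4
        exact congrArg Subtype.val h
      · apply Subtype.ext
        apply Subtype.ext
        rfl
  rw [← Nat.card_congr (Equiv.ofBijective _ hbij)]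
  obtain ⟨e⟩ := hH
  rw [card_pairs_congr e]
  exact a5_pairs'

end fibers


/-! ## The count in a simple group of order 660 -/

section main

variable {G : Type*} [Group G] [Finite G] [IsSimpleGroup G]

theorem card_pairs_660 (h : Nat.card G = 660) : Nat.card (Pairs G) = 2640 := by
  obtain ⟨φ, eI, hinj, hφ⟩ := model h
  have hone : ∀ g : G, φ g = 1 ↔ g = 1 := fun g =>
    ⟨fun hg => hinj (by rw [hg, map_one]), fun hg => by rw [hg, map_one]⟩
  have hX3 : Nat.card {x : G // x ^ 3 = 1 ∧ x ≠ 1} = 110 := by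
    have e1 : {x : G // x ^ 3 = 1 ∧ x ≠ 1} ≃ {x : I // (w x) ^ 3 = 1 ∧ w x ≠ 1} :=
      eI.subtypeEquiv (fun g => by
        rw [← hφ g, ← map_pow, hone, Ne, Ne, hone])
    rw [Nat.card_congr e1, Nat.card_eq_fintype_card]
    exact count3
  obtain ⟨x0, hx0⟩ : ∃ x0 : G, x0 = eI.symm (Sum.inr (0, 1, 0)) := ⟨_, rfl⟩
  have hx0φ : φ x0 = w (Sum.inr (0, 1, 0)) := by rw [hφ, hx0, Equiv.apply_symm_apply]
  have hY0 : Nat.card {y : G // y ^ 5 = 1 ∧ (x0 * y) ^ 2 = 1} = 24 := by
    have e1 : {y : G // y ^ 5 = 1 ∧ (x0 * y) ^ 2 = 1} ≃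
        {y : I // (w y) ^ 5 = 1 ∧ (w (Sum.inr (0, 1, 0)) * w y) ^ 2 = 1} :=
      eI.subtypeEquiv (fun g => by
        rw [← hφ g, ← hx0φ, ← map_mul, ← map_pow, ← map_pow, hone, hone])
    rw [Nat.card_congr e1, Nat.card_eq_fintype_card]
    exact countY
  have hY : ∀ x : {x : G // x ^ 3 = 1 ∧ x ≠ 1},
      Nat.card {y : G // y ^ 5 = 1 ∧ (x.1 * y) ^ 2 = 1} = 24 := by
    intro x
    have hx3 : (w (eI x.1)) ^ 3 = 1 ∧ w (eI x.1) ≠ 1 := by
      rw [← hφ, ← map_pow, hone, Ne, hone]
      exact x.2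
    obtain ⟨l, hl⟩ := conj3 (eI x.1) hx3.1 hx3.2
    obtain ⟨c, hc⟩ : ∃ c : G, c = eI.symm l := ⟨_, rfl⟩
    have hcφ : φ c = w l := by rw [hφ, hc, Equiv.apply_symm_apply]
    have hcx : c * x0 = x.1 * c := by
      apply hinj
      rw [map_mul, map_mul, hcφ, hx0φ, hφ x.1]
      exact hl
    have hθx : MulAut.conj c⁻¹ x.1 = x0 := by
      rw [MulAut.conj_apply, inv_inv]
      calc c⁻¹ * x.1 * c = c⁻¹ * (x.1 * c) := by group
        _ = c⁻¹ * (c * x0) := by rw [hcx]
        _ = x0 := by group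
    rw [← hY0]
    apply Nat.card_congr
    refine (MulAut.conj c⁻¹).toEquiv.subtypeEquiv (fun y => ?_)
    show _ ↔ (MulAut.conj c⁻¹ y) ^ 5 = 1 ∧ (x0 * MulAut.conj c⁻¹ y) ^ 2 = 1
    rw [← hθx, ← map_mul, ← map_pow, ← map_pow, MulEquiv.map_eq_one_iff, MulEquiv.map_eq_one_iff]
  have key := card_eq_of_fibers
    (fun p : Pairs G => (⟨p.1.1, p.2.1, p.2.2.2.2⟩ : {x : G // x ^ 3 = 1 ∧ x ≠ 1})) 24 ?_
  · rw [key, hX3]
  · intro x
    rw [← hY x]
    symm
    have hbij : Function.Bijective (fun y : {y : G // y ^ 5 = 1 ∧ (x.1 * y) ^ 2 = 1} =>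
        (⟨⟨(x.1, y.1), x.2.1, y.2.1, y.2.2, x.2.2⟩, rfl⟩ :
          {p : Pairs G // (⟨p.1.1, p.2.1, p.2.2.2.2⟩ : {x : G // x ^ 3 = 1 ∧ x ≠ 1}) = x})) := by
      constructor
      · intro y1 y2 h12
        have h1 : (x.1, y1.1) = (x.1, y2.1) :=
          congrArg (fun z : {p : Pairs G //
            (⟨p.1.1, p.2.1, p.2.2.2.2⟩ : {x : G // x ^ 3 = 1 ∧ x ≠ 1}) = x} => z.1.1) h12
        exact Subtype.ext (congrArg Prod.snd h1)
      · rintro ⟨p, hp⟩
        have hp1 : p.1.1 = x.1 := congrArg Subtype.val hp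
        obtain ⟨h1, h2, h3, h4⟩ := p.2
        refine ⟨⟨p.1.2, h2, ?_⟩, ?_⟩
        · rw [← hp1]; exact h3
        · apply Subtype.ext
          apply Subtype.ext
          apply Prod.ext
          · exact hp1.symm
          · rfl
    exact Nat.card_congr (Equiv.ofBijective _ hbij)

theorem card_A5_subgroups (h : Nat.card G = 660) :
    Nat.card {H : Subgroup G // Nonempty (H ≃* alternatingGroup (Fin 5))} = 22 := by
  have h1 := card_pairs_660 h
  have h2 := card_eq_of_fibers (fun p : Pairs G =>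
    (⟨clOf p, clOf_iso p⟩ : {H : Subgroup G // Nonempty (H ≃* alternatingGroup (Fin 5))})) 120 ?_
  · rw [h1] at h2
    omega
  · intro H
    rw [← card_fiber H.1 H.2]
    apply Nat.card_congr
    exact Equiv.subtypeEquivRight (fun p => by rw [Subtype.ext_iff])

end main


section classes

open Pointwise

variable {G : Type*} [Group G] [Finite G] [IsSimpleGroup G]

theorem smul_eq_map (g : G) (H : Subgroup G) :
    MulAut.conj g • H = H.map (MulAut.conj g).toMonoidHom := rfl

set_option maxRecDepth 100000 in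
theorem two_classes (h : Nat.card G = 660) :
    ∃ H K : Subgroup G, Nonempty (H ≃* alternatingGroup (Fin 5)) ∧
      Nonempty (K ≃* alternatingGroup (Fin 5)) ∧ (∀ g : G, MulAut.conj g • H ≠ K) ∧
      ∀ L : Subgroup G, Nonempty (L ≃* alternatingGroup (Fin 5)) →
        ∃ g : G, MulAut.conj g • L = H ∨ MulAut.conj g • L = K := by
  obtain ⟨A, hAdef⟩ : ∃ A : Set (Subgroup G),
      A = {H : Subgroup G | Nonempty (↥H ≃* alternatingGroup (Fin 5))} := ⟨_, rfl⟩
  have hA : A.ncard = 22 := by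
    rw [← Nat.card_coe_set_eq, hAdef]
    exact card_A5_subgroups h
  obtain ⟨O, hOdef⟩ : ∃ O : Subgroup G → Set (Subgroup G),
      O = fun H => {W | ∃ g : G, W = MulAut.conj g • H} := ⟨_, rfl⟩
  have hOA : ∀ H ∈ A, O H ⊆ A := by
    intro H hH W hW
    rw [hOdef] at hW
    obtain ⟨g, rfl⟩ := hW
    rw [hAdef] at hH ⊢
    obtain ⟨e⟩ := hH
    rw [smul_eq_map]
    exact ⟨(H.equivMapOfInjective _ (MulAut.conj g).injective).symm.trans e⟩
  have hOcard : ∀ H ∈ A, (O H).ncard = 11 := by
    intro H hH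
    rw [hAdef] at hH
    obtain ⟨e⟩ := hH
    have hH60 : Nat.card H = 60 := by rw [Nat.card_congr e.toEquiv, card_A5]
    have hos := Cfsg.Agent.S0808.card_orbit_normalizer H
    rw [h] at hos
    have hdvd1 : 60 ∣ Nat.card (Subgroup.normalizer (H : Set G)) := by
      rw [← hH60]; exact Subgroup.card_dvd_of_le Subgroup.le_normalizer
    have hdvd2 : Nat.card (Subgroup.normalizer (H : Set G)) ∣ 660 := by
      rw [← h]; exact Subgroup.card_subgroup_dvd_card _
    have hne : Nat.card (Subgroup.normalizer (H : Set G)) ≠ 660 := by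
      intro hc
      have htop : Subgroup.normalizer (H : Set G) = ⊤ := by
        apply Subgroup.eq_top_of_card_eq
        rw [hc, h]
      have hnorm : H.Normal := Subgroup.normalizer_eq_top_iff.1 htop
      rcases hnorm.eq_bot_or_eq_top with hb | ht
      · rw [hb, Subgroup.card_bot] at hH60; norm_num at hH60
      · rw [ht, Subgroup.card_top, h] at hH60; norm_num at hH60
    have hle : Nat.card (Subgroup.normalizer (H : Set G)) ≤ 660 :=
      Nat.le_of_dvd (by norm_num) hdvd2
    have key : ∀ n ≤ 660, 60 ∣ n → n ∣ 660 → n ≠ 660 → n = 60 := by decide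
    have hN := key _ hle hdvd1 hdvd2 hne
    rw [hN] at hos
    have h11 : Nat.card {W : Subgroup G // ∃ g : G, W = H.map (MulAut.conj g).toMonoidHom}
        = 11 := by omega
    rw [← Nat.card_coe_set_eq, hOdef]
    exact h11
  have hAne : A.Nonempty := by
    rw [← Set.ncard_pos, hA]; norm_num
  obtain ⟨H, hH⟩ := hAne
  have hlt : (O H).ncard < A.ncard := by rw [hOcard H hH, hA]; norm_num
  obtain ⟨K, hK, hKO⟩ := Set.exists_mem_notMem_of_ncard_lt_ncard hlt
  have hdisj : Disjoint (O H) (O K) := by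
    rw [Set.disjoint_left]
    intro W hW1 hW2
    apply hKO
    rw [hOdef] at hW1 hW2 ⊢
    obtain ⟨g1, rfl⟩ := hW1
    obtain ⟨g2, hg2⟩ := hW2
    refine ⟨g2⁻¹ * g1, ?_⟩
    rw [map_mul, mul_smul, hg2, map_inv, inv_smul_smul]
  have hun : O H ∪ O K = A := by
    apply Set.eq_of_subset_of_ncard_le (Set.union_subset (hOA H hH) (hOA K hK))
    rw [Set.ncard_union_eq hdisj, hOcard H hH, hOcard K hK, hA]
  have hHA := hH
  have hKA := hK
  rw [hAdef] at hHA hKA
  refine ⟨H, K, hHA, hKA, ?_, ?_⟩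
  · intro g hg
    apply hKO
    rw [hOdef]
    exact ⟨g, hg.symm⟩
  · intro L hL
    have hLA : L ∈ A := by rw [hAdef]; exact hL
    rw [← hun] at hLA
    rw [hOdef] at hLA
    rcases hLA with ⟨g, hg⟩ | ⟨g, hg⟩
    · refine ⟨g⁻¹, Or.inl ?_⟩
      rw [hg, map_inv, inv_smul_smul]
    · refine ⟨g⁻¹, Or.inr ?_⟩
      rw [hg, map_inv, inv_smul_smul]

end classes

/-- Let F be a field with 11 elements. PSL_2(F) has exactly 22 subgroups isomorphic to the alternating group A_5, and they form two conjugacy classes: there are two such subgroups that are not conjugate, and every such subgroup is conjugate to one of these two. -/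
theorem result {F : Type*} [Field F] [Fintype F] (hF : Fintype.card F = 11) : Nat.card {H : Subgroup (Matrix.ProjectiveSpecialLinearGroup (Fin 2) F) // Nonempty (H ≃* alternatingGroup (Fin 5))} = 22 ∧ ∃ H K : Subgroup (Matrix.ProjectiveSpecialLinearGroup (Fin 2) F), Nonempty (H ≃* alternatingGroup (Fin 5)) ∧ Nonempty (K ≃* alternatingGroup (Fin 5)) ∧ (∀ g : Matrix.ProjectiveSpecialLinearGroup (Fin 2) F, MulAut.conj g • H ≠ K) ∧ ∀ L : Subgroup (Matrix.ProjectiveSpecialLinearGroup (Fin 2) F), Nonempty (L ≃* alternatingGroup (Fin 5)) → ∃ g : Matrix.ProjectiveSpecialLinearGroup (Fin 2) F, MulAut.conj g • L = H ∨ MulAut.conj g • L = K := by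
  obtain ⟨hs, hc⟩ := psl_simple_card hF
  haveI := hs
  exact ⟨card_A5_subgroups hc, two_classes hc⟩

end Cfsg.Agent.S2543
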