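import Mathlib
import Cfsg.Statements.S2552

set_option autoImplicit false
open Cfsg

namespace Cfsg.Agent.S2552

theorem exists_equiv_map {K V : Type*} [Field K] [AddCommGroup V] [Module K V]
    [FiniteDimensional K V] (U₁ U₂ : Submodule K V)
    (h : Module.finrank K U₁ = Module.finrank K U₂) :
    ∃ φ : V ≃ₗ[K] V, U₁.map (φ : V →ₗ[K] V) = U₂ := by
  obtain ⟨C₁, hC₁⟩ := Submodule.exists_isCompl U₁
  obtain ⟨C₂, hC₂⟩ := Submodule.exists_isCompl U₂
  have hC : Module.finrank K C₁ = Module.finrank K C₂ := by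
    have h1 := Submodule.finrank_add_eq_of_isCompl hC₁
    have h2 := Submodule.finrank_add_eq_of_isCompl hC₂
    omega
  let eU : U₁ ≃ₗ[K] U₂ := LinearEquiv.ofFinrankEq _ _ h
  let eC : C₁ ≃ₗ[K] C₂ := LinearEquiv.ofFinrankEq _ _ hC
  let φ : V ≃ₗ[K] V := (Submodule.prodEquivOfIsCompl U₁ C₁ hC₁).symm.trans
    ((eU.prodCongr eC).trans (Submodule.prodEquivOfIsCompl U₂ C₂ hC₂))
  refine ⟨φ, ?_⟩
  apply Submodule.eq_of_le_of_finrank_eq
  · rintro _ ⟨u, hu, rfl⟩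
    have h1 : (Submodule.prodEquivOfIsCompl U₁ C₁ hC₁).symm u = ((⟨u, hu⟩ : ↥U₁), 0) :=
      Submodule.prodEquivOfIsCompl_symm_apply_left U₁ C₁ hC₁ (⟨u, hu⟩ : ↥U₁)
    have h2 : φ u = (eU ⟨u, hu⟩ : V) := by
      show (Submodule.prodEquivOfIsCompl U₂ C₂ hC₂) ((eU.prodCongr eC)
        ((Submodule.prodEquivOfIsCompl U₁ C₁ hC₁).symm u)) = _
      rw [h1]
      simp
    show φ u ∈ U₂
    rw [h2]
    exact (eU ⟨u, hu⟩).2
  · rw [LinearEquiv.finrank_map_eq φ U₁]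
    exact h

theorem vecMulVec_mulVec' {F : Type*} [Field F] {n : ℕ} (a f w : Fin n → F) :
    (Matrix.vecMulVec a f).mulVec w = (f ⬝ᵥ w) • a := by
  funext j
  simp only [Matrix.mulVec, Matrix.vecMulVec_apply, dotProduct, Pi.smul_apply, smul_eq_mul,
    Finset.sum_mul]
  apply Finset.sum_congr rfl
  intro x _
  ring

theorem result {F : Type*} [Field F] [Fintype F] (n : ℕ) (hn : 1 ≤ n) (U₁ U₂ : Submodule F (Fin n → F)) (h : Module.finrank F U₁ = Module.finrank F U₂) : ∃ g : Matrix.SpecialLinearGroup (Fin n) F, U₁.map ((Matrix.SpecialLinearGroup.toLin' g : (Fin n → F) ≃ₗ[F] (Fin n → F)) : (Fin n → F) →ₗ[F] (Fin n → F)) = U₂ := by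
  classical
  obtain ⟨φ, hφ⟩ := exists_equiv_map U₁ U₂ h
  by_cases hbot : U₂ = ⊥
  · refine ⟨1, ?_⟩
    have h1 : U₁ = ⊥ := by
      rw [← Submodule.finrank_eq_zero (R := F), h, hbot, finrank_bot]
    rw [h1, hbot, Submodule.map_bot]
  obtain ⟨u, huU, hu0⟩ := (Submodule.ne_bot_iff U₂).1 hbot
  obtain ⟨i, hi⟩ : ∃ i, u i ≠ 0 := by
    by_contra hcon
    apply hu0
    funext j
    by_contra hj
    exact hcon ⟨j, hj⟩
  set P : Matrix (Fin n) (Fin n) F := LinearMap.toMatrix' (φ : (Fin n → F) →ₗ[F] (Fin n → F)) with hP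
  have hPdet : P.det ≠ 0 := by
    have h1 : LinearMap.toMatrix' ((φ.symm : (Fin n → F) ≃ₗ[F] (Fin n → F)) : (Fin n → F) →ₗ[F] (Fin n → F)) * P = 1 := by
      rw [hP, ← LinearMap.toMatrix'_comp]
      have : ((φ.symm : (Fin n → F) ≃ₗ[F] (Fin n → F)) : (Fin n → F) →ₗ[F] (Fin n → F)) ∘ₗ
          (φ : (Fin n → F) →ₗ[F] (Fin n → F)) = LinearMap.id := by
        apply LinearMap.ext
        intro v
        simp
      rw [this, LinearMap.toMatrix'_id]
    intro h0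
    have := congrArg Matrix.det h1
    rw [Matrix.det_mul, h0, mul_zero, Matrix.det_one] at this
    exact zero_ne_one this
  set c : F := P.det⁻¹ with hc
  set f : Fin n → F := (u i)⁻¹ • Pi.single i 1 with hf
  have hfu : f ⬝ᵥ u = 1 := by
    rw [hf, smul_dotProduct, single_dotProduct, one_mul, smul_eq_mul, inv_mul_cancel₀ hi]
  set M : Matrix (Fin n) (Fin n) F := 1 + Matrix.vecMulVec ((c - 1) • u) f with hM
  have hMdet : M.det = c := by
    rw [hM, Matrix.vecMulVec_eq (Fin 1), Matrix.det_one_add_replicateCol_mul_replicateRow,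
      dotProduct_smul, hfu]
    simp
  have hdet : (M * P).det = 1 := by
    rw [Matrix.det_mul, hMdet, hc, inv_mul_cancel₀ hPdet]
  have hMU : ∀ w ∈ U₂, M.mulVec w ∈ U₂ := by
    intro w hw
    have : M.mulVec w = w + ((c - 1) * (f ⬝ᵥ w)) • u := by
      rw [hM, Matrix.add_mulVec, Matrix.one_mulVec, vecMulVec_mulVec']
      congr 1
      rw [smul_smul, mul_comm]
    rw [this]
    exact U₂.add_mem hw (U₂.smul_mem _ huU)
  refine ⟨⟨M * P, hdet⟩, ?_⟩
  have hlin : ((Matrix.SpecialLinearGroup.toLin' (⟨M * P, hdet⟩ : Matrix.SpecialLinearGroup (Fin n) F) :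
      (Fin n → F) ≃ₗ[F] (Fin n → F)) : (Fin n → F) →ₗ[F] (Fin n → F))
      = (Matrix.toLin' M) ∘ₗ (φ : (Fin n → F) →ₗ[F] (Fin n → F)) := by
    apply LinearMap.ext
    intro v
    show (M * P).mulVec v = _
    rw [LinearMap.comp_apply, Matrix.toLin'_apply, ← Matrix.mulVec_mulVec, hP,
      LinearMap.toMatrix'_mulVec]
  apply Submodule.eq_of_le_of_finrank_eq
  · rw [hlin, Submodule.map_comp, hφ]
    rintro _ ⟨w, hw, rfl⟩
    rw [Matrix.toLin'_apply]
    exact hMU w hw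
  · rw [LinearEquiv.finrank_map_eq, h]

end Cfsg.Agent.S2552
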