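import Mathlib
import Cfsg.Statements.S2564
import Cfsg.Agent.Lib.Helper5.PlusF2

set_option autoImplicit false
open Cfsg

namespace Cfsg.Agent.S2564

open Cfsg.Agent.Lib.Helper5

theorem result (m : ℕ) (hm : 1 ≤ m) (q : (Fin m ⊕ Fin m → ZMod 2) → ZMod 2) (hq : (∀ u v : (Fin m ⊕ Fin m → ZMod 2), q (u + v) = q u + q v + (Cfsg.quadFormPlus m (ZMod 2) (u + v) - Cfsg.quadFormPlus m (ZMod 2) u - Cfsg.quadFormPlus m (ZMod 2) v))) (w : (Fin m ⊕ Fin m → ZMod 2)) :
    (∀ u v : (Fin m ⊕ Fin m → ZMod 2), (q (u + v) + (Cfsg.quadFormPlus m (ZMod 2) (u + v + w) - Cfsg.quadFormPlus m (ZMod 2) (u + v) - Cfsg.quadFormPlus m (ZMod 2) w)) =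
        (q u + (Cfsg.quadFormPlus m (ZMod 2) (u + w) - Cfsg.quadFormPlus m (ZMod 2) u - Cfsg.quadFormPlus m (ZMod 2) w)) + (q v + (Cfsg.quadFormPlus m (ZMod 2) (v + w) - Cfsg.quadFormPlus m (ZMod 2) v - Cfsg.quadFormPlus m (ZMod 2) w)) +
        (Cfsg.quadFormPlus m (ZMod 2) (u + v) - Cfsg.quadFormPlus m (ZMod 2) u - Cfsg.quadFormPlus m (ZMod 2) v)) ∧
    ((∃ g : (Fin m ⊕ Fin m → ZMod 2) ≃ₗ[ZMod 2] (Fin m ⊕ Fin m → ZMod 2), ∀ v, q v + (Cfsg.quadFormPlus m (ZMod 2) (v + w) - Cfsg.quadFormPlus m (ZMod 2) v - Cfsg.quadFormPlus m (ZMod 2) w) = q (g v)) ↔ q w = 0) := by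
  classical
  have hq' : ∀ u v, q (u + v) = q u + q v + fpol m u v := hq
  constructor
  · intro u v
    show q (u + v) + fpol m (u + v) w = (q u + fpol m u w) + (q v + fpol m v w) + fpol m u v
    rw [hq', fpol_add_left]; ring
  · constructor
    · rintro ⟨g, hg⟩
      by_contra hw
      have hw1 : q w = 1 := by
        have : ∀ a : ZMod 2, a ≠ 0 → a = 1 := by decide
        exact this _ hw
      have h1 := charSum_shift (fpol m) q hq' w hw1
      have h2 : charSum (fun v => q v + fpol m v w) = charSum q := by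
        have : (fun v => q v + fpol m v w) = fun v => q (g.toEquiv v) := by
          ext v; exact hg v
        rw [this]; exact charSum_comp_equiv q g.toEquiv
      have h3 := charSum_ne_zero (fpol m) (fpol_add_left m) (fpol_add_right m) (fpol_self_two m)
        (fpol_nondeg_two m) q hq'
      rw [h2] at h1
      omega
    · intro hw
      let g₀ : (Fin m ⊕ Fin m → ZMod 2) →ₗ[ZMod 2] (Fin m ⊕ Fin m → ZMod 2) :=
        LinearMap.id + (fpolLin m w).smulRight w
      have hg₀ : ∀ v, g₀ v = v + fpol m v w • w := fun v => rfl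
      have hinv : Function.Involutive g₀ := by
        intro v
        rw [hg₀, hg₀, fpol_add_left, fpol_smul_left, fpol_self_two, mul_zero, add_zero, add_assoc,
          ← add_smul, CharTwo.add_self_eq_zero, zero_smul, add_zero]
      refine ⟨LinearEquiv.ofInvolutive g₀ hinv, ?_⟩
      intro v
      show q v + fpol m v w = q (g₀ v)
      rw [hg₀]
      rcases (show fpol m v w = 0 ∨ fpol m v w = 1 from by
        have : ∀ a : ZMod 2, a = 0 ∨ a = 1 := by decide
        exact this _) with h | h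
      · rw [h, zero_smul, add_zero, add_zero]
      · rw [h, one_smul, hq', hw, add_zero, h]

end Cfsg.Agent.S2564
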