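import Mathlib
import Cfsg.Statements.S2617
import Cfsg.Agent.Lib.Helper5.WittIndex2

set_option autoImplicit false
open Cfsg

namespace Cfsg.Agent.S2617

open Cfsg.Agent.Lib.Helper5 Module

theorem result {F : Type*} [Field F] [Finite F] {m : ℕ} (hm : 1 ≤ m) (ζ : F) (hζ : ∀ t : F, t ^ 2 + t + ζ ≠ 0) (g : (Fin m ⊕ Fin m → F) ≃ₗ[F] ((Fin (m - 1) ⊕ Fin (m - 1)) ⊕ Fin 2 → F)) : ¬ (∀ v : Fin m ⊕ Fin m → F, Cfsg.quadFormMinus (m - 1) F 1 ζ (g v) = Cfsg.quadFormPlus m F v) := by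
  intro h
  have hN := aniso_of_irred ζ hζ
  have h1 : finrank F ((LinearMap.range (plusIncl (F := F) m)).map g.toLinearMap) ≤ m - 1 := by
    apply finrank_le_of_ts_minus (m - 1) 1 ζ hN
    rintro _ ⟨_, ⟨x, rfl⟩, rfl⟩
    have := h (plusIncl m x)
    rw [quadFormPlus_plusIncl] at this
    exact this
  rw [LinearEquiv.finrank_map_eq, finrank_range_plusIncl] at h1
  omega

end Cfsg.Agent.S2617
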