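import Mathlib
import Cfsg.Statements.S2561
import Cfsg.Agent.Lib.Helper5.PlusF2
import Cfsg.Agent.Lib.Helper5.QFIso
import Cfsg.Agent.S2564
import Cfsg.Agent.S2617

set_option autoImplicit false
open Cfsg

namespace Cfsg.Agent.S2561

open Cfsg.Agent.Lib.Helper5

theorem chi2_sum {ι : Type*} (s : Finset ι) (a : ι → ZMod 2) :
    chi2 (∑ i ∈ s, a i) = ∏ i ∈ s, chi2 (a i) := by
  classical
  induction s using Finset.induction with
  | empty => simp [chi2_zero]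
  | insert j s hj ih => rw [Finset.sum_insert hj, Finset.prod_insert hj, chi2_add, ih]

def pairEquiv (m : ℕ) : (Fin m ⊕ Fin m → ZMod 2) ≃ (Fin m → ZMod 2 × ZMod 2) where
  toFun v i := (v (Sum.inl i), v (Sum.inr i))
  invFun p := Sum.elim (fun i => (p i).1) (fun i => (p i).2)
  left_inv v := by ext (i | i) <;> rfl
  right_inv p := by ext i <;> rfl

theorem charSum_plus (m : ℕ) : charSum (Cfsg.quadFormPlus m (ZMod 2)) = 2 ^ m := by
  have h := Equiv.sum_comp (pairEquiv m)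
    (fun p : Fin m → ZMod 2 × ZMod 2 => ∏ i, chi2 ((p i).1 * (p i).2))
  have h2 : ∑ x : ZMod 2 × ZMod 2, chi2 (x.1 * x.2) = 2 := by decide
  unfold charSum Cfsg.quadFormPlus
  simp only [chi2_sum]
  calc ∑ v : Fin m ⊕ Fin m → ZMod 2, ∏ i, chi2 (v (Sum.inl i) * v (Sum.inr i))
      = ∑ p : Fin m → ZMod 2 × ZMod 2, ∏ i, chi2 ((p i).1 * (p i).2) := h
    _ = ∏ i : Fin m, ∑ x : ZMod 2 × ZMod 2, chi2 (x.1 * x.2) :=
        (Fintype.prod_sum (fun (_ : Fin m) (x : ZMod 2 × ZMod 2) => chi2 (x.1 * x.2))).symm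
    _ = 2 ^ m := by rw [h2]; simp

theorem card_zeros (m : ℕ) (hm : 1 ≤ m) :
    Nat.card {w : Fin m ⊕ Fin m → ZMod 2 // Cfsg.quadFormPlus m (ZMod 2) w = 0}
      = 2 ^ (2 * m - 1) + 2 ^ (m - 1) ∧
    Nat.card {w : Fin m ⊕ Fin m → ZMod 2 // ¬ Cfsg.quadFormPlus m (ZMod 2) w = 0}
      = 2 ^ (2 * m - 1) - 2 ^ (m - 1) := by
  classical
  rw [Nat.card_eq_fintype_card, Nat.card_eq_fintype_card, Fintype.card_subtype, Fintype.card_subtype]
  have hsum := Finset.card_filter_add_card_filter_not (s := (Finset.univ : Finset (Fin m ⊕ Fin m → ZMod 2)))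
    (fun w => Cfsg.quadFormPlus m (ZMod 2) w = 0)
  have hcard : (Finset.univ : Finset (Fin m ⊕ Fin m → ZMod 2)).card = 2 ^ (2 * m) := by
    rw [Finset.card_univ, Fintype.card_fun, ZMod.card, Fintype.card_sum, Fintype.card_fin, two_mul]
  rw [hcard] at hsum
  have hdiff := charSum_plus m
  unfold charSum chi2 at hdiff
  rw [Finset.sum_ite, Finset.sum_const, Finset.sum_const] at hdiff
  simp only [nsmul_eq_mul, mul_one, mul_neg] at hdiff
  have e1 : 2 ^ (2 * m) = 2 * 2 ^ (2 * m - 1) := by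
    rw [← pow_succ']; congr 1; omega
  have e2 : 2 ^ m = 2 * 2 ^ (m - 1) := by
    rw [← pow_succ']; congr 1; omega
  have e2' : ((2 : ℤ) ^ m) = 2 * ((2 ^ (m - 1) : ℕ) : ℤ) := by
    have := congrArg (fun n : ℕ => (n : ℤ)) e2
    simp only [Nat.cast_pow, Nat.cast_mul, Nat.cast_ofNat] at this
    rw [this]; push_cast; ring
  rw [e2'] at hdiff
  rw [e1] at hsum
  constructor <;> omega

def IsPol (m : ℕ) (q : (Fin m ⊕ Fin m → ZMod 2) → ZMod 2) : Prop :=
  ∀ u v, q (u + v) = q u + q v + fpol m u v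

def qw (m : ℕ) (w : Fin m ⊕ Fin m → ZMod 2) : (Fin m ⊕ Fin m → ZMod 2) → ZMod 2 :=
  fun v => Cfsg.quadFormPlus m (ZMod 2) v + fpol m v w

def IsPlus (m : ℕ) (q : (Fin m ⊕ Fin m → ZMod 2) → ZMod 2) : Prop :=
  ∃ g : (Fin m ⊕ Fin m → ZMod 2) ≃ₗ[ZMod 2] (Fin m ⊕ Fin m → ZMod 2),
    ∀ v, q v = Cfsg.quadFormPlus m (ZMod 2) (g v)

def IsMinus (m : ℕ) (q : (Fin m ⊕ Fin m → ZMod 2) → ZMod 2) : Prop :=
  ∃ g : (Fin m ⊕ Fin m → ZMod 2) ≃ₗ[ZMod 2] ((Fin (m - 1) ⊕ Fin (m - 1)) ⊕ Fin 2 → ZMod 2),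
    ∀ v, q v = Cfsg.quadFormMinus (m - 1) (ZMod 2) 1 1 (g v)

theorem isPol_plus (m : ℕ) : IsPol m (Cfsg.quadFormPlus m (ZMod 2)) := by
  intro u v; unfold fpol; ring

theorem isPol_qw (m : ℕ) (w : Fin m ⊕ Fin m → ZMod 2) : IsPol m (qw m w) := by
  intro u v
  unfold qw
  rw [fpol_add_left, isPol_plus m u v]
  ring

theorem add_self_fun {ι : Type*} (w : ι → ZMod 2) : w + w = 0 := by
  ext s
  exact CharTwo.add_self_eq_zero (w s)

theorem qw_injective (m : ℕ) : Function.Injective (qw m) := by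
  intro w w' h
  by_contra hne
  have h0 : w + w' ≠ 0 := by
    intro h0
    apply hne
    calc w = w + (w' + w') := by rw [add_self_fun, add_zero]
      _ = (w + w') + w' := by rw [add_assoc]
      _ = w' := by rw [h0, zero_add]
  obtain ⟨u, hu⟩ := fpol_nondeg_two m (w + w') h0
  have h1 := congrFun h u
  unfold qw at h1
  have h2 : fpol m u w = fpol m u w' := add_left_cancel h1
  rw [fpol_add_right, h2, CharTwo.add_self_eq_zero] at hu
  exact zero_ne_one hu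

theorem fpol_smul_right {F : Type*} [Field F] (m : ℕ) (c : F) (u v : Fin m ⊕ Fin m → F) :
    fpol m u (c • v) = c * fpol m u v := by
  rw [fpol_comm, fpol_smul_left, fpol_comm]

theorem qw_surjective (m : ℕ) (q : (Fin m ⊕ Fin m → ZMod 2) → ZMod 2) (hq : IsPol m q) :
    ∃ w, qw m w = q := by
  classical
  let Λ : (Fin m ⊕ Fin m → ZMod 2) →ₗ[ZMod 2] (Fin m ⊕ Fin m → ZMod 2) →ₗ[ZMod 2] ZMod 2 :=
    LinearMap.mk₂ (ZMod 2) (fun w v => fpol m v w)
      (fun w w' v => fpol_add_right m v w w')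
      (fun c w v => by rw [fpol_smul_right]; rfl)
      (fun w v v' => fpol_add_left m v v' w)
      (fun c w v => by rw [fpol_smul_left]; rfl)
  have hΛ : ∀ w v, Λ w v = fpol m v w := fun w v => rfl
  have hinj : Function.Injective Λ := by
    rw [injective_iff_map_eq_zero]
    intro w hw
    by_contra hne
    obtain ⟨u, hu⟩ := fpol_nondeg_two m w hne
    have := congrArg (fun l : (Fin m ⊕ Fin m → ZMod 2) →ₗ[ZMod 2] ZMod 2 => l u) hw
    simp only [hΛ, LinearMap.zero_apply] at this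
    rw [hu] at this
    exact one_ne_zero this
  have hsurj : Function.Surjective Λ :=
    (LinearMap.injective_iff_surjective_of_finrank_eq_finrank
      (Subspace.dual_finrank_eq (K := ZMod 2) (V := (Fin m ⊕ Fin m → ZMod 2))).symm).mp hinj
  let ℓ : (Fin m ⊕ Fin m → ZMod 2) →+ ZMod 2 :=
    AddMonoidHom.mk' (fun v => q v - Cfsg.quadFormPlus m (ZMod 2) v) (by
      intro u v
      rw [hq u v, isPol_plus m u v]
      ring)
  obtain ⟨w, hw⟩ := hsurj (ℓ.toZModLinearMap 2)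
  refine ⟨w, ?_⟩
  ext v
  have := congrArg (fun l : (Fin m ⊕ Fin m → ZMod 2) →ₗ[ZMod 2] ZMod 2 => l v) hw
  simp only [hΛ] at this
  unfold qw
  rw [this]
  show Cfsg.quadFormPlus m (ZMod 2) v + (q v - Cfsg.quadFormPlus m (ZMod 2) v) = q v
  ring

theorem card_transfer (m : ℕ) (R : ((Fin m ⊕ Fin m → ZMod 2) → ZMod 2) → Prop) :
    Nat.card {q // IsPol m q ∧ R q} = Nat.card {w // R (qw m w)} := by
  symm
  apply Nat.card_congr
  refine Equiv.ofBijective (fun w => ⟨qw m w.1, isPol_qw m w.1, w.2⟩) ⟨?_, ?_⟩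
  · intro a b h
    exact Subtype.ext (qw_injective m (congrArg Subtype.val h))
  · rintro ⟨q, hq, hR⟩
    obtain ⟨w, rfl⟩ := qw_surjective m q hq
    exact ⟨⟨w, hR⟩, rfl⟩

theorem isPlus_qw_iff (m : ℕ) (hm : 1 ≤ m) (w : Fin m ⊕ Fin m → ZMod 2) :
    IsPlus m (qw m w) ↔ Cfsg.quadFormPlus m (ZMod 2) w = 0 :=
  (Cfsg.Agent.S2564.result m hm (Cfsg.quadFormPlus m (ZMod 2)) (isPol_plus m) w).2

theorem plus_or_minus (m : ℕ) (hm : 1 ≤ m) (q : (Fin m ⊕ Fin m → ZMod 2) → ZMod 2)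
    (hq : IsPol m q) : IsPlus m q ∨ IsMinus m q := by
  classical
  have hq0 : q 0 = 0 := by
    have := hq 0 0
    rw [add_zero] at this
    have h2 : fpol m (0 : Fin m ⊕ Fin m → ZMod 2) 0 = 0 := fpol_self_two m 0
    rw [h2, add_zero, CharTwo.add_self_eq_zero] at this
    exact this
  have hpol : ∀ x y, QuadraticMap.polar q x y = fpol m x y := by
    intro x y
    unfold QuadraticMap.polar
    rw [hq]
    ring
  let Q : QuadraticForm (ZMod 2) (Fin m ⊕ Fin m → ZMod 2) := QuadraticMap.ofPolar q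
    (by
      intro a x
      have h01 : ∀ a : ZMod 2, a = 0 ∨ a = 1 := by decide
      rcases h01 a with rfl | rfl
      · rw [zero_smul, hq0, mul_zero, zero_smul]
      · rw [one_smul, one_mul, one_smul])
    (by
      intro x x' y
      rw [hpol, hpol, hpol, fpol_add_left])
    (by
      intro a x y
      rw [hpol, hpol, fpol_smul_left]; rfl)
  have hQ : (QuadraticMap.polarBilin Q).Nondegenerate := by
    constructor
    · intro x hx
      by_contra hne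
      obtain ⟨u, hu⟩ := fpol_nondeg_two m x hne
      have := hx u
      change QuadraticMap.polar q x u = 0 at this
      rw [hpol, fpol_comm, hu] at this
      exact one_ne_zero this
    · intro y hy
      by_contra hne
      obtain ⟨u, hu⟩ := fpol_nondeg_two m y hne
      have := hy u
      change QuadraticMap.polar q u y = 0 at this
      rw [hpol, hu] at this
      exact one_ne_zero this
  have hV : Module.finrank (ZMod 2) (Fin m ⊕ Fin m → ZMod 2) = 2 * m := by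
    rw [Module.finrank_fintype_fun_eq_card, Fintype.card_sum, Fintype.card_fin, two_mul]
  rcases exists_iso_plus_or_minus hm hV Q hQ with ⟨g, hg⟩ | ⟨ζ, hζ, g, hg⟩
  · exact Or.inl ⟨g, hg⟩
  · right
    have h01 : ∀ a : ZMod 2, a = 0 ∨ a = 1 := by decide
    rcases h01 ζ with rfl | rfl
    · exact absurd (by decide) (hζ 0)
    · exact ⟨g, hg⟩

theorem not_plus_and_minus (m : ℕ) (hm : 1 ≤ m) (q : (Fin m ⊕ Fin m → ZMod 2) → ZMod 2)
    (h1 : IsPlus m q) (h2 : IsMinus m q) : False := by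
  obtain ⟨g₁, hg₁⟩ := h1
  obtain ⟨g₂, hg₂⟩ := h2
  apply Cfsg.Agent.S2617.result hm (1 : ZMod 2) (by decide) (g₁.symm.trans g₂)
  intro v
  rw [LinearEquiv.trans_apply, ← hg₂, hg₁, LinearEquiv.apply_symm_apply]

theorem result (m : ℕ) (hm : 1 ≤ m) :
    Nat.card {q : (Fin m ⊕ Fin m → ZMod 2) → ZMod 2 // (∀ u v : (Fin m ⊕ Fin m → ZMod 2), q (u + v) = q u + q v + (Cfsg.quadFormPlus m (ZMod 2) (u + v) - Cfsg.quadFormPlus m (ZMod 2) u - Cfsg.quadFormPlus m (ZMod 2) v))} = 2 ^ (2 * m) ∧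
    (∀ q : (Fin m ⊕ Fin m → ZMod 2) → ZMod 2, (∀ u v : (Fin m ⊕ Fin m → ZMod 2), q (u + v) = q u + q v + (Cfsg.quadFormPlus m (ZMod 2) (u + v) - Cfsg.quadFormPlus m (ZMod 2) u - Cfsg.quadFormPlus m (ZMod 2) v)) →
      (∃ g : (Fin m ⊕ Fin m → ZMod 2) ≃ₗ[ZMod 2] (Fin m ⊕ Fin m → ZMod 2), ∀ v, q v = Cfsg.quadFormPlus m (ZMod 2) (g v)) ∨
      (∃ g : (Fin m ⊕ Fin m → ZMod 2) ≃ₗ[ZMod 2] ((Fin (m - 1) ⊕ Fin (m - 1)) ⊕ Fin 2 → ZMod 2), ∀ v, q v = Cfsg.quadFormMinus (m - 1) (ZMod 2) 1 1 (g v))) ∧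
    Nat.card {q : (Fin m ⊕ Fin m → ZMod 2) → ZMod 2 // (∀ u v : (Fin m ⊕ Fin m → ZMod 2), q (u + v) = q u + q v + (Cfsg.quadFormPlus m (ZMod 2) (u + v) - Cfsg.quadFormPlus m (ZMod 2) u - Cfsg.quadFormPlus m (ZMod 2) v)) ∧ ∃ g : (Fin m ⊕ Fin m → ZMod 2) ≃ₗ[ZMod 2] (Fin m ⊕ Fin m → ZMod 2), ∀ v, q v = Cfsg.quadFormPlus m (ZMod 2) (g v)} = 2 ^ (2 * m - 1) + 2 ^ (m - 1) ∧
    Nat.card {q : (Fin m ⊕ Fin m → ZMod 2) → ZMod 2 // (∀ u v : (Fin m ⊕ Fin m → ZMod 2), q (u + v) = q u + q v + (Cfsg.quadFormPlus m (ZMod 2) (u + v) - Cfsg.quadFormPlus m (ZMod 2) u - Cfsg.quadFormPlus m (ZMod 2) v)) ∧ ∃ g : (Fin m ⊕ Fin m → ZMod 2) ≃ₗ[ZMod 2] ((Fin (m - 1) ⊕ Fin (m - 1)) ⊕ Fin 2 → ZMod 2), ∀ v, q v = Cfsg.quadFormMinus (m - 1) (ZMod 2) 1 1 (g v)} = 2 ^ (2 * m - 1) - 2 ^ (m - 1) := by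
  classical
  have hz := card_zeros m hm
  refine ⟨?_, ?_, ?_, ?_⟩
  · have h1 : Nat.card {q // IsPol m q} = Nat.card {q // IsPol m q ∧ True} :=
      Nat.card_congr (Equiv.subtypeEquivRight (fun q => by simp))
    have h2 := card_transfer m (fun _ => True)
    have h3 : Nat.card {w : Fin m ⊕ Fin m → ZMod 2 // True} = 2 ^ (2 * m) := by
      rw [Nat.card_congr (Equiv.subtypeUnivEquiv (fun _ => trivial)), Nat.card_eq_fintype_card,
        Fintype.card_fun, ZMod.card, Fintype.card_sum, Fintype.card_fin, two_mul]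
    exact h1.trans (h2.trans h3)
  · intro q hq
    exact plus_or_minus m hm q hq
  · have h2 := card_transfer m (IsPlus m)
    have h3 : Nat.card {w // IsPlus m (qw m w)} =
        Nat.card {w : Fin m ⊕ Fin m → ZMod 2 // Cfsg.quadFormPlus m (ZMod 2) w = 0} :=
      Nat.card_congr (Equiv.subtypeEquivRight (fun w => isPlus_qw_iff m hm w))
    exact h2.trans (h3.trans hz.1)
  · have h2 := card_transfer m (IsMinus m)
    have h3 : Nat.card {w // IsMinus m (qw m w)} =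
        Nat.card {w : Fin m ⊕ Fin m → ZMod 2 // ¬ Cfsg.quadFormPlus m (ZMod 2) w = 0} := by
      apply Nat.card_congr (Equiv.subtypeEquivRight (fun w => ?_))
      rw [← isPlus_qw_iff m hm w]
      constructor
      · intro hmin hpl
        exact not_plus_and_minus m hm _ hpl hmin
      · intro hnp
        rcases plus_or_minus m hm _ (isPol_qw m w) with h | h
        · exact absurd h hnp
        · exact h
    exact h2.trans (h3.trans hz.2)

end Cfsg.Agent.S2561
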