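import Mathlib
import Cfsg.Statements.S2562
import Cfsg.Agent.Lib.Helper5.WittIndex2

set_option autoImplicit false
open Cfsg

namespace Cfsg.Agent.S2562

open Cfsg.Agent.Lib.Helper5 Module

theorem result (m : ℕ) (hm : 1 ≤ m) :
    (∃ U : Submodule (ZMod 2) (Fin m ⊕ Fin m → ZMod 2), (∀ u ∈ U, Cfsg.quadFormPlus m (ZMod 2) u = 0) ∧ Module.finrank (ZMod 2) ↥U = m) ∧
    (∀ U : Submodule (ZMod 2) (Fin m ⊕ Fin m → ZMod 2), (∀ u ∈ U, Cfsg.quadFormPlus m (ZMod 2) u = 0) → Module.finrank (ZMod 2) ↥U ≤ m) ∧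
    (∃ U : Submodule (ZMod 2) ((Fin (m - 1) ⊕ Fin (m - 1)) ⊕ Fin 2 → ZMod 2), (∀ u ∈ U, Cfsg.quadFormMinus (m - 1) (ZMod 2) 1 1 u = 0) ∧ Module.finrank (ZMod 2) ↥U = m - 1) ∧
    (∀ U : Submodule (ZMod 2) ((Fin (m - 1) ⊕ Fin (m - 1)) ⊕ Fin 2 → ZMod 2), (∀ u ∈ U, Cfsg.quadFormMinus (m - 1) (ZMod 2) 1 1 u = 0) → Module.finrank (ZMod 2) ↥U ≤ m - 1) := by
  have hN : ∀ z : Fin 2 → ZMod 2, z 0 ^ 2 + 1 * z 0 * z 1 + 1 * z 1 ^ 2 = 0 → z = 0 :=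
    aniso_of_irred (1 : ZMod 2) (by decide)
  refine ⟨⟨LinearMap.range (plusIncl (F := ZMod 2) m), ?_, finrank_range_plusIncl m⟩,
    fun U hU => finrank_le_of_ts_plus m U hU,
    ⟨LinearMap.range (minusIncl (F := ZMod 2) (m - 1)), ?_, finrank_range_minusIncl (m - 1)⟩,
    fun U hU => finrank_le_of_ts_minus (m - 1) 1 1 hN U hU⟩
  · rintro _ ⟨x, rfl⟩
    exact quadFormPlus_plusIncl m x
  · rintro _ ⟨x, rfl⟩
    exact quadFormMinus_minusIncl (m - 1) 1 1 x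

end Cfsg.Agent.S2562
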