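import Mathlib
import Cfsg.Statements.S2566
import Cfsg.Agent.S0287

set_option autoImplicit false
open Cfsg

namespace Cfsg.Agent.S2566

abbrev I4 := Fin 2 ⊕ Fin 2

/-- 2×2 matrix of a permutation of three points acting on the sum-zero plane. -/
def g2 (σ : Equiv.Perm (Fin 3)) : Matrix (Fin 2) (Fin 2) (ZMod 2) :=
  Matrix.of fun j i =>
    (if σ (Fin.castSucc i) = Fin.castSucc j then 1 else 0) + (if σ 2 = Fin.castSucc j then 1 else 0)

def rI : I4 → Fin 2
  | .inl _ => 0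
  | .inr _ => 1

def cI : I4 → Fin 2
  | .inl i => i
  | .inr i => Fin.rev i

def mA (σ : Equiv.Perm (Fin 3)) : Matrix I4 I4 (ZMod 2) :=
  Matrix.of fun k l => if cI k = cI l then g2 σ (rI k) (rI l) else 0

def mB (σ : Equiv.Perm (Fin 3)) : Matrix I4 I4 (ZMod 2) :=
  Matrix.of fun k l => if rI k = rI l then g2 σ (cI k) (cI l) else 0

def sw : Matrix I4 I4 (ZMod 2) :=
  Matrix.of fun k l => if (rI k = cI l ∧ cI k = rI l) then 1 else 0

set_option maxRecDepth 100000 in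
theorem mA_mul : ∀ σ τ : Equiv.Perm (Fin 3), mA (σ * τ) = mA σ * mA τ := by decide

set_option maxRecDepth 100000 in
theorem mB_mul : ∀ σ τ : Equiv.Perm (Fin 3), mB (σ * τ) = mB σ * mB τ := by decide

set_option maxRecDepth 100000 in
theorem mA_one : mA 1 = 1 := by decide

set_option maxRecDepth 100000 in
theorem mB_one : mB 1 = 1 := by decide

set_option maxRecDepth 100000 in
theorem sw_sw : sw * sw = 1 := by decide

set_option maxRecDepth 100000 in
theorem mA_pres : ∀ σ : Equiv.Perm (Fin 3), ∀ u : I4 → ZMod 2,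
    Cfsg.quadFormPlus 2 (ZMod 2) ((mA σ).mulVec u) = Cfsg.quadFormPlus 2 (ZMod 2) u := by decide

set_option maxRecDepth 100000 in
theorem mB_pres : ∀ σ : Equiv.Perm (Fin 3), ∀ u : I4 → ZMod 2,
    Cfsg.quadFormPlus 2 (ZMod 2) ((mB σ).mulVec u) = Cfsg.quadFormPlus 2 (ZMod 2) u := by decide

set_option maxRecDepth 100000 in
theorem sw_pres : ∀ u : I4 → ZMod 2,
    Cfsg.quadFormPlus 2 (ZMod 2) (sw.mulVec u) = Cfsg.quadFormPlus 2 (ZMod 2) u := by decide

set_option maxRecDepth 100000 in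
theorem mA_inj : ∀ σ : Equiv.Perm (Fin 3), mA σ = 1 → σ = 1 := by decide

set_option maxRecDepth 100000 in
theorem mB_inj : ∀ σ : Equiv.Perm (Fin 3), mB σ = 1 → σ = 1 := by decide

set_option maxRecDepth 100000 in
theorem mAB_comm : ∀ σ τ : Equiv.Perm (Fin 3), mA σ * mB τ = mB τ * mA σ := by decide

set_option maxRecDepth 100000 in
theorem mAB_inj : ∀ σ τ : Equiv.Perm (Fin 3), mA σ * mB τ = 1 → σ = 1 ∧ τ = 1 := by decide

set_option maxRecDepth 100000 in
theorem sw_conj : ∀ σ : Equiv.Perm (Fin 3), sw * mA σ * sw = mB σ := by decide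

abbrev G4 := ↥(Cfsg.isometryGroup (ZMod 2) (Cfsg.quadFormPlus 2 (ZMod 2)))

def hA0 : Equiv.Perm (Fin 3) →* Matrix I4 I4 (ZMod 2) where
  toFun := mA
  map_one' := mA_one
  map_mul' := mA_mul

def hB0 : Equiv.Perm (Fin 3) →* Matrix I4 I4 (ZMod 2) where
  toFun := mB
  map_one' := mB_one
  map_mul' := mB_mul

def hA : Equiv.Perm (Fin 3) →* G4 :=
  (hA0.toHomUnits).codRestrict _ (fun σ => by
    intro u v
    exact mA_pres σ u)

def hB : Equiv.Perm (Fin 3) →* G4 :=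
  (hB0.toHomUnits).codRestrict _ (fun σ => by
    intro u v
    exact mB_pres σ u)

theorem hA_val (σ : Equiv.Perm (Fin 3)) : ((hA σ : GL I4 (ZMod 2)) : Matrix I4 I4 (ZMod 2)) = mA σ := rfl

theorem hB_val (σ : Equiv.Perm (Fin 3)) : ((hB σ : GL I4 (ZMod 2)) : Matrix I4 I4 (ZMod 2)) = mB σ := rfl

def swG : G4 := ⟨⟨sw, sw, sw_sw, sw_sw⟩, fun u _ => sw_pres u⟩

theorem swG_val : ((swG : GL I4 (ZMod 2)) : Matrix I4 I4 (ZMod 2)) = sw := rfl

theorem swG_inv_val : (((swG⁻¹ : G4) : GL I4 (ZMod 2)) : Matrix I4 I4 (ZMod 2)) = sw := rfl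

theorem G4_ext {x y : G4} (h : ((x : GL I4 (ZMod 2)) : Matrix I4 I4 (ZMod 2)) = ((y : GL I4 (ZMod 2)) : Matrix I4 I4 (ZMod 2))) : x = y :=
  Subtype.ext (Units.ext h)

theorem hA_inj : Function.Injective hA := by
  rw [injective_iff_map_eq_one]
  intro σ h
  apply mA_inj
  rw [← hA_val, h]
  rfl

theorem hB_inj : Function.Injective hB := by
  rw [injective_iff_map_eq_one]
  intro σ h
  apply mB_inj
  rw [← hB_val, h]
  rfl

theorem hAB_comm : ∀ σ τ, Commute (hA σ) (hB τ) := by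
  intro σ τ
  apply G4_ext
  show mA σ * mB τ = mB τ * mA σ
  exact mAB_comm σ τ

theorem result :
    Nat.card ↥(Cfsg.isometryGroup (ZMod 2) (Cfsg.quadFormPlus 2 (ZMod 2))) = 72 ∧
    ∃ (A B : Subgroup ↥(Cfsg.isometryGroup (ZMod 2) (Cfsg.quadFormPlus 2 (ZMod 2)))),
      Nonempty (↥A ≃* Equiv.Perm (Fin 3)) ∧ Nonempty (↥B ≃* Equiv.Perm (Fin 3)) ∧ A ⊓ B = ⊥ ∧ (∀ a ∈ A, ∀ b ∈ B, a * b = b * a) ∧
      (A ⊔ B).index = 2 ∧ ∃ g : ↥(Cfsg.isometryGroup (ZMod 2) (Cfsg.quadFormPlus 2 (ZMod 2))), A.map (MulAut.conj g).toMonoidHom = B := by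
  classical
  refine ⟨?_, hA.range, hB.range, ⟨(MonoidHom.ofInjective hA_inj).symm⟩,
    ⟨(MonoidHom.ofInjective hB_inj).symm⟩, ?_, ?_, ?_, swG, ?_⟩
  · have h := Cfsg.Agent.S0287.result (F := ZMod 2) (q := 2) (ZMod.card 2) 2 (by norm_num)
    rw [h]
    norm_num [Finset.prod_range_one]
  · rw [eq_bot_iff]
    rintro x ⟨⟨σ, rfl⟩, ⟨τ, hτ⟩⟩
    have h1 : mA σ * mB τ⁻¹ = 1 := by
      have h2 : mB τ = mA σ := by
        rw [← hA_val, ← hB_val, hτ]
      rw [← h2, ← mB_mul, mul_inv_cancel, mB_one]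
    have h3 := (mAB_inj σ τ⁻¹ h1).1
    rw [h3, map_one]
    exact Subgroup.mem_bot.2 rfl
  · rintro a ⟨σ, rfl⟩ b ⟨τ, rfl⟩
    exact hAB_comm σ τ
  · let f := MonoidHom.noncommCoprod hA hB hAB_comm
    have hf : Function.Injective f := by
      rw [injective_iff_map_eq_one]
      rintro ⟨σ, τ⟩ h
      have h1 : mA σ * mB τ = 1 := by
        have h2 : hA σ * hB τ = 1 := h
        have h3 := congrArg (fun x : G4 => ((x : GL I4 (ZMod 2)) : Matrix I4 I4 (ZMod 2))) h2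
        exact h3
      obtain ⟨h4, h5⟩ := mAB_inj σ τ h1
      rw [h4, h5]
      rfl
    have hr : f.range = hA.range ⊔ hB.range := MonoidHom.noncommCoprod_range hA hB hAB_comm
    have hc : Nat.card f.range = 36 := by
      rw [← Nat.card_congr (MonoidHom.ofInjective hf).toEquiv, Nat.card_prod, Nat.card_perm]
      simp [Nat.factorial]
    rw [← hr]
    have h72 : Nat.card G4 = 72 := by
      have h := Cfsg.Agent.S0287.result (F := ZMod 2) (q := 2) (ZMod.card 2) 2 (by norm_num)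
      rw [h]
      norm_num [Finset.prod_range_one]
    have h1 := f.range.card_mul_index
    rw [hc, h72] at h1
    omega
  · ext x
    constructor
    · rintro ⟨y, ⟨σ, rfl⟩, rfl⟩
      refine ⟨σ, ?_⟩
      apply G4_ext
      show mB σ = sw * mA σ * sw
      exact (sw_conj σ).symm
    · rintro ⟨σ, rfl⟩
      refine ⟨hA σ, ⟨σ, rfl⟩, ?_⟩
      apply G4_ext
      show sw * mA σ * sw = mB σ
      exact sw_conj σ

end Cfsg.Agent.S2566
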