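import Cfsg.Statements.S2567
import Mathlib

set_option autoImplicit false
open Cfsg

namespace Cfsg.Agent.S2567

/-- Lifting elements of prime order from PGL to GL: let F be a finite field with q elements, r a prime not dividing q − 1, and x an element of order r in GL_n(F) modulo its centre (the scalar matrices). Then x has exactly one preimage in GL_n(F) of order r. -/
theorem result {F : Type*} [Field F] [Fintype F] {q n r : ℕ} (hF : Fintype.card F = q) (hr : r.Prime) (hdiv : ¬ r ∣ q - 1) (x : GL (Fin n) F ⧸ Subgroup.center (GL (Fin n) F)) (hx : orderOf x = r) : ∃! g : GL (Fin n) F, (QuotientGroup.mk g : GL (Fin n) F ⧸ Subgroup.center (GL (Fin n) F)) = x ∧ orderOf g = r := by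
  classical
  have hrp : Fact r.Prime := ⟨hr⟩
  -- central elements have order dividing q - 1
  have hZ : ∀ z ∈ Subgroup.center (GL (Fin n) F), z ^ (q - 1) = 1 := by
    intro z hz
    rw [Matrix.GeneralLinearGroup.center_eq_range_scalar] at hz
    obtain ⟨c, rfl⟩ := hz
    rw [← map_pow]
    have : c ^ (q - 1) = 1 := by
      have h1 : Fintype.card Fˣ = q - 1 := by rw [Fintype.card_units, hF]
      rw [← h1]
      exact pow_card_eq_one
    rw [this, map_one]
  have hcop : Nat.Coprime r (q - 1) := (Nat.Prime.coprime_iff_not_dvd hr).mpr hdiv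
  have hZr : ∀ z ∈ Subgroup.center (GL (Fin n) F), z ^ r = 1 → z = 1 := by
    intro z hz hzr
    have h1 : orderOf z ∣ r := orderOf_dvd_of_pow_eq_one hzr
    have h2 : orderOf z ∣ q - 1 := orderOf_dvd_of_pow_eq_one (hZ z hz)
    have h3 : orderOf z ∣ 1 := by
      have := Nat.dvd_gcd h1 h2
      rwa [hcop] at this
    exact orderOf_eq_one_iff.mp (Nat.dvd_one.mp h3)
  obtain ⟨g0, hg0⟩ := QuotientGroup.mk_surjective x
  have hz0 : g0 ^ r ∈ Subgroup.center (GL (Fin n) F) := by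
    rw [← QuotientGroup.eq_one_iff, QuotientGroup.mk_pow, hg0, ← hx]
    exact pow_orderOf_eq_one x
  -- Bezout
  have hbez : (r : ℤ) * Nat.gcdA r (q - 1) + ((q - 1 : ℕ) : ℤ) * Nat.gcdB r (q - 1) = 1 := by
    have := Nat.gcd_eq_gcd_ab r (q - 1)
    rw [hcop] at this
    exact_mod_cast this.symm
  obtain ⟨u, hu⟩ : ∃ u : ℤ, u = Nat.gcdA r (q - 1) := ⟨_, rfl⟩
  obtain ⟨v, hv⟩ : ∃ v : ℤ, v = Nat.gcdB r (q - 1) := ⟨_, rfl⟩
  rw [← hu, ← hv] at hbez
  obtain ⟨z, hzdef⟩ : ∃ z, z = g0 ^ r := ⟨_, rfl⟩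
  rw [← hzdef] at hz0
  have hzu : (z ^ (-u)) ∈ Subgroup.center (GL (Fin n) F) := Subgroup.zpow_mem _ hz0 _
  have hcomm : Commute g0 (z ^ (-u)) := (Subgroup.mem_center_iff.mp hzu g0)
  have hgr : (g0 * z ^ (-u)) ^ r = 1 := by
    rw [hcomm.mul_pow, ← hzdef]
    have h1 : (z ^ (-u)) ^ r = z ^ (-(u * r)) := by
      rw [← zpow_natCast, ← zpow_mul]; congr 1; ring
    rw [h1]
    have h3 : z ^ (((q - 1 : ℕ) : ℤ) * v) = 1 := by
      rw [zpow_mul, zpow_natCast, hZ z hz0, one_zpow]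
    have h4 : z * z ^ (-(u * r)) = z ^ (((q - 1 : ℕ) : ℤ) * v) := by
      rw [← zpow_one_add]; congr 1; linarith [hbez]
    rw [h4, h3]
  have hgx : (QuotientGroup.mk (g0 * z ^ (-u)) : GL (Fin n) F ⧸ Subgroup.center (GL (Fin n) F)) = x := by
    rw [QuotientGroup.mk_mul, hg0, (QuotientGroup.eq_one_iff _).mpr hzu, mul_one]
  have hord : orderOf (g0 * z ^ (-u)) = r := by
    have h1 : orderOf (g0 * z ^ (-u)) ∣ r := orderOf_dvd_of_pow_eq_one hgr
    rcases (Nat.dvd_prime hr).mp h1 with h | h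
    · exfalso
      have h2 : g0 * z ^ (-u) = 1 := orderOf_eq_one_iff.mp h
      rw [h2, QuotientGroup.mk_one] at hgx
      rw [← hgx, orderOf_one] at hx
      exact hr.one_lt.ne hx
    · exact h
  refine ⟨g0 * z ^ (-u), ⟨hgx, hord⟩, ?_⟩
  rintro g' ⟨hg'x, hg'r⟩
  -- g' = g * w with w central
  have hw : (g0 * z ^ (-u))⁻¹ * g' ∈ Subgroup.center (GL (Fin n) F) := by
    rw [← QuotientGroup.eq, hgx, hg'x]
  have hcomm2 : Commute (g0 * z ^ (-u)) ((g0 * z ^ (-u))⁻¹ * g') :=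
    (Subgroup.mem_center_iff.mp hw (g0 * z ^ (-u)))
  have hw1 : ((g0 * z ^ (-u))⁻¹ * g') ^ r = 1 := by
    have h1 : g' = (g0 * z ^ (-u)) * ((g0 * z ^ (-u))⁻¹ * g') := by group
    have h2 : g' ^ r = 1 := by rw [← hg'r]; exact pow_orderOf_eq_one g'
    rw [h1, hcomm2.mul_pow, hgr, one_mul] at h2
    exact h2
  have := hZr _ hw hw1
  have h3 : g' = (g0 * z ^ (-u)) * ((g0 * z ^ (-u))⁻¹ * g') := by group
  rw [h3, this, mul_one]

end Cfsg.Agent.S2567
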