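import Cfsg.Statements.S2568
import Mathlib
import Cfsg.Agent.S2388
import Cfsg.Agent.Lib.Helper2.SemiClasses

set_option autoImplicit false
open Cfsg

namespace Cfsg.Agent.S2568


open Polynomial Module UniqueFactorizationMonoid

universe u

theorem card_tuples (t m : ℕ) :
    Nat.card {a : Fin t → ℕ // ∑ j, a j ≤ m} = Nat.choose (m + t) t := by
  classical
  let e1 : {a : Fin t → ℕ // ∑ j, a j ≤ m} ≃ {P : Fin (t + 1) → ℕ // ∑ j, P j = m} :=
    { toFun := fun a => ⟨Fin.cons (m - ∑ j, a.1 j) a.1, by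
        have h := a.2
        rw [Fin.sum_univ_succ]
        simp only [Fin.cons_zero, Fin.cons_succ]
        omega⟩
      invFun := fun P => ⟨Fin.tail P.1, by
        have h := P.2
        rw [Fin.sum_univ_succ] at h
        simp only [Fin.tail]
        omega⟩
      left_inv := fun a => by
        apply Subtype.ext
        simp only [Fin.tail_cons]
      right_inv := fun P => by
        apply Subtype.ext
        have h := P.2
        rw [Fin.sum_univ_succ] at h
        have h0 : m - ∑ j, Fin.tail P.1 j = P.1 0 := by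
          simp only [Fin.tail]
          omega
        show Fin.cons (m - ∑ j, Fin.tail P.1 j) (Fin.tail P.1) = P.1
        rw [h0]
        exact Fin.cons_self_tail P.1 }
  let e2 : {P : Fin (t + 1) → ℕ // ∑ j, P j = m} ≃
      {P : Fin (t + 1) →₀ ℕ // (P.sum fun _ => id) = m} :=
    Finsupp.equivFunOnFinite.symm.subtypeEquiv (fun P => by
      rw [Finsupp.sum_fintype _ _ (fun _ => rfl)]
      simp)
  rw [Nat.card_congr (e1.trans e2), ← Nat.card_congr (Sym.equivNatSum (Fin (t + 1)) m),
    Nat.card_eq_fintype_card, Sym.card_sym_eq_choose, Fintype.card_fin]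
  have h : t + 1 + m - 1 = m + t := by omega
  rw [h, Nat.choose_symm_add]

structure Fam (F : Type u) [Field F] (r i t : ℕ) where
  μ : Fin t → F[X]
  inj : Function.Injective μ
  monic : ∀ j, (μ j).Monic
  irr : ∀ j, Irreducible (μ j)
  deg : ∀ j, (μ j).natDegree = i
  dvd : ∀ j, μ j ∣ cyclotomic r F
  complete : ∀ ν : F[X], ν.Monic → Irreducible ν → ν ∣ cyclotomic r F → ∃ j, ν = μ j
  eval1 : (cyclotomic r F).eval 1 ≠ 0

namespace Fam

variable {F : Type u} [Field F] {r i t : ℕ}

theorem not_dvd_X_sub (S : Fam F r i t) (j : Fin t) : ¬ S.μ j ∣ X - C 1 := by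
  intro h
  have h1 : S.μ j = X - C 1 :=
    eq_of_monic_of_associated (S.monic j) (monic_X_sub_C 1)
      ((S.irr j).associated_of_dvd (irreducible_X_sub_C 1) h)
  have h2 : X - C 1 ∣ cyclotomic r F := h1 ▸ S.dvd j
  rw [dvd_iff_isRoot] at h2
  exact S.eval1 h2

theorem not_dvd_of_ne (S : Fam F r i t) {j k : Fin t} (hjk : j ≠ k) : ¬ S.μ j ∣ S.μ k := by
  intro h
  exact hjk (S.inj (eq_of_monic_of_associated (S.monic j) (S.monic k)
    ((S.irr j).associated_of_dvd (S.irr k) h)))

noncomputable def Psi (S : Fam F r i t) (n : ℕ) (a : Fin t → ℕ) : F[X] :=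
  (X - C 1) ^ (n - i * ∑ j, a j) * ∏ j, S.μ j ^ a j

theorem pow_dvd_le (S : Fam F r i t) (n : ℕ) (a : Fin t → ℕ) (j : Fin t) (c : ℕ)
    (h : S.μ j ^ c ∣ S.Psi n a) : c ≤ a j := by
  classical
  by_contra hlt
  push Not at hlt
  have h1 : S.μ j ^ (a j + 1) ∣ S.Psi n a := dvd_trans (pow_dvd_pow _ hlt) h
  have hsplit : S.Psi n a = S.μ j ^ a j * ((X - C 1) ^ (n - i * ∑ j, a j) *
      ∏ k ∈ Finset.univ.erase j, S.μ k ^ a k) := by
    unfold Psi
    rw [← Finset.mul_prod_erase Finset.univ (fun k => S.μ k ^ a k) (Finset.mem_univ j)]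
    ring
  rw [hsplit, pow_succ] at h1
  have h2 : S.μ j ∣ (X - C 1) ^ (n - i * ∑ j, a j) *
      ∏ k ∈ Finset.univ.erase j, S.μ k ^ a k :=
    (mul_dvd_mul_iff_left (pow_ne_zero _ (S.monic j).ne_zero)).1 h1
  have hp : Prime (S.μ j) := (S.irr j).prime
  rcases hp.dvd_or_dvd h2 with h3 | h3
  · exact S.not_dvd_X_sub j (hp.dvd_of_dvd_pow h3)
  · obtain ⟨k, hk, hdk⟩ := hp.exists_mem_finset_dvd h3
    exact S.not_dvd_of_ne (Finset.ne_of_mem_erase hk).symm (hp.dvd_of_dvd_pow hdk)

theorem pow_dvd_Psi (S : Fam F r i t) (n : ℕ) (a : Fin t → ℕ) (j : Fin t) :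
    S.μ j ^ a j ∣ S.Psi n a :=
  Dvd.dvd.mul_left (Finset.dvd_prod_of_mem (fun k => S.μ k ^ a k) (Finset.mem_univ j)) _

theorem Psi_inj (S : Fam F r i t) (n : ℕ) {a b : Fin t → ℕ} (h : S.Psi n a = S.Psi n b) :
    a = b := by
  funext j
  apply le_antisymm
  · apply S.pow_dvd_le n b j
    rw [← h]
    exact S.pow_dvd_Psi n a j
  · apply S.pow_dvd_le n a j
    rw [h]
    exact S.pow_dvd_Psi n b j

theorem Psi_monic (S : Fam F r i t) (n : ℕ) (a : Fin t → ℕ) : (S.Psi n a).Monic :=
  ((monic_X_sub_C 1).pow _).mul (monic_prod_of_monic _ _ (fun j _ => (S.monic j).pow _))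

theorem Psi_natDegree (S : Fam F r i t) (n : ℕ) (a : Fin t → ℕ) (h : i * ∑ j, a j ≤ n) :
    (S.Psi n a).natDegree = n := by
  unfold Psi
  rw [Monic.natDegree_mul ((monic_X_sub_C 1).pow _)
    (monic_prod_of_monic _ _ (fun j _ => (S.monic j).pow _)),
    Monic.natDegree_pow (monic_X_sub_C 1), natDegree_X_sub_C,
    natDegree_prod_of_monic _ _ (fun j _ => (S.monic j).pow _)]
  have h1 : ∀ j ∈ (Finset.univ : Finset (Fin t)), (S.μ j ^ a j).natDegree = a j * i :=
    fun j _ => by rw [Monic.natDegree_pow (S.monic j), S.deg j]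
  rw [Finset.sum_congr rfl h1, ← Finset.sum_mul, mul_one, mul_comm (∑ j, a j) i]
  omega

theorem Psi_zero (S : Fam F r i t) (n : ℕ) : S.Psi n 0 = (X - C 1) ^ n := by
  simp [Psi]

theorem dvd_of_irreducible_dvd_Psi [Fact r.Prime] (S : Fam F r i t) (n : ℕ) (a : Fin t → ℕ)
    (ν : F[X]) (hν : Irreducible ν) (h : ν ∣ S.Psi n a) : ν ∣ X ^ r - 1 := by
  rw [← cyclotomic_prime_mul_X_sub_one F r]
  have hp := hν.prime
  rcases hp.dvd_or_dvd h with h1 | h1
  · have h2 := hp.dvd_of_dvd_pow h1
    rw [C_1] at h2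
    exact Dvd.dvd.mul_left h2 _
  · obtain ⟨k, -, hk⟩ := hp.exists_mem_finset_dvd h1
    exact Dvd.dvd.mul_right ((hp.dvd_of_dvd_pow hk).trans (S.dvd k)) _

theorem factor_form [Fact r.Prime] (S : Fam F r i t) : ∀ (d : ℕ) (f : F[X]), f.Monic →
    f.natDegree = d → (∀ ν : F[X], Irreducible ν → ν ∣ f → ν ∣ X ^ r - 1) →
    ∃ a : Fin t → ℕ, i * ∑ j, a j ≤ d ∧ f = S.Psi d a := by
  classical
  intro d
  induction d using Nat.strong_induction_on with
  | _ d ih =>
    intro f hf hd hfac
    by_cases hd0 : d = 0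
    · subst hd0
      refine ⟨0, by simp, ?_⟩
      rw [(Monic.natDegree_eq_zero hf).1 hd]
      simp [Psi]
    · have hnu : ¬ IsUnit f := by
        intro hu
        have := natDegree_eq_zero_of_isUnit hu
        omega
      obtain ⟨ν₀, hirr₀, hdvd₀⟩ := WfDvdMonoid.exists_irreducible_factor hnu hf.ne_zero
      obtain ⟨ν, hν⟩ : ∃ ν : F[X], ν = normalize ν₀ := ⟨_, rfl⟩
      have hνm : ν.Monic := by rw [hν]; exact monic_normalize hirr₀.ne_zero
      have hνirr : Irreducible ν := by rw [hν]; exact (associated_normalize ν₀).irreducible hirr₀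
      have hνdvd : ν ∣ f := by rw [hν]; exact normalize_dvd_iff.2 hdvd₀
      obtain ⟨f', hf'⟩ := hνdvd
      have hf'm : f'.Monic := by
        apply Monic.of_mul_monic_left hνm
        rw [← hf']; exact hf
      have hdeg : f.natDegree = ν.natDegree + f'.natDegree := by
        rw [hf']; exact Monic.natDegree_mul hνm hf'm
      have hνpos : 0 < ν.natDegree := hνirr.natDegree_pos
      have hfac' : ∀ ν' : F[X], Irreducible ν' → ν' ∣ f' → ν' ∣ X ^ r - 1 :=
        fun ν' h1 h2 => hfac ν' h1 (hf' ▸ Dvd.dvd.mul_left h2 ν)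
      obtain ⟨a', ha', hfa'⟩ := ih f'.natDegree (by omega) f' hf'm rfl hfac'
      have hνX : ν ∣ X ^ r - 1 := hfac ν hνirr ⟨f', hf'⟩
      rw [← cyclotomic_prime_mul_X_sub_one F r] at hνX
      rcases hνirr.prime.dvd_or_dvd hνX with h1 | h1
      · obtain ⟨j, hj⟩ := S.complete ν hνm hνirr h1
        have hνdeg : ν.natDegree = i := by rw [hj, S.deg]
        have hs : ∑ k, (a' + Pi.single j 1 : Fin t → ℕ) k = ∑ k, a' k + 1 := by
          simp [Finset.sum_add_distrib]
        have hmul : i * (∑ k, a' k + 1) = i * ∑ k, a' k + i := by ring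
        refine ⟨a' + Pi.single j 1, ?_, ?_⟩
        · rw [hs, hmul]
          omega
        · rw [hf', hfa', hj]
          unfold Psi
          have he : d - i * (∑ k, a' k + 1) = f'.natDegree - i * ∑ k, a' k := by
            rw [hmul]
            omega
          have hprod : ∏ k, S.μ k ^ (a' + Pi.single j 1 : Fin t → ℕ) k = S.μ j * ∏ k, S.μ k ^ a' k := by
            simp only [Pi.add_apply, pow_add, Finset.prod_mul_distrib]
            rw [mul_comm]
            congr 1
            rw [Finset.prod_eq_single j]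
            · simp
            · intro k _ hk
              simp [Pi.single_apply, hk]
            · intro h
              exact absurd (Finset.mem_univ j) h
          rw [hs, he, hprod]
          ring
      · have h1' : ν ∣ X - C 1 := by rw [C_1]; exact h1
        have hνeq : ν = X - C 1 :=
          eq_of_monic_of_associated hνm (monic_X_sub_C 1)
            (hνirr.associated_of_dvd (irreducible_X_sub_C 1) h1')
        have hνdeg : ν.natDegree = 1 := by rw [hνeq, natDegree_X_sub_C]
        refine ⟨a', by omega, ?_⟩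
        rw [hf', hfa', hνeq]
        unfold Psi
        have he : d - i * ∑ k, a' k = (f'.natDegree - i * ∑ k, a' k) + 1 := by omega
        rw [he, pow_succ]
        ring

end Fam

theorem exists_model_pow {F : Type u} [Field F] (k : ℕ) :
    ∀ (d : ℕ) (f : F[X]), f.Monic → f.natDegree = d →
    (∀ ν : F[X], Irreducible ν → ν ∣ f → ν ∣ X ^ k - 1) →
    ∃ (V : Type u) (_ : AddCommGroup V) (_ : Module F V) (_ : FiniteDimensional F V)
      (A : Module.End F V), A ^ k = 1 ∧ LinearMap.charpoly A = f := by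
  intro d
  induction d using Nat.strong_induction_on with
  | _ d ih =>
    intro f hf hd hfac
    classical
    by_cases hd0 : d = 0
    · subst hd0
      have hf1 : f = 1 := (Monic.natDegree_eq_zero hf).1 hd
      refine ⟨PUnit.{u+1}, inferInstance, inferInstance, inferInstance, 1, one_pow _, ?_⟩
      rw [hf1]
      apply (Monic.natDegree_eq_zero (LinearMap.charpoly_monic _)).1
      rw [LinearMap.charpoly_natDegree]
      exact Module.finrank_zero_of_subsingleton
    · have hnu : ¬ IsUnit f := by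
        intro hu
        have := natDegree_eq_zero_of_isUnit hu
        omega
      obtain ⟨μ₀, hirr₀, hdvd₀⟩ := WfDvdMonoid.exists_irreducible_factor hnu hf.ne_zero
      obtain ⟨μ, hμ⟩ : ∃ μ : F[X], μ = normalize μ₀ := ⟨_, rfl⟩
      have hμm : μ.Monic := by rw [hμ]; exact monic_normalize hirr₀.ne_zero
      have hμirr : Irreducible μ := by rw [hμ]; exact (associated_normalize μ₀).irreducible hirr₀
      have hμdvd : μ ∣ f := by rw [hμ]; exact normalize_dvd_iff.2 hdvd₀
      have hμX : μ ∣ X ^ k - 1 := hfac μ hμirr hμdvd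
      obtain ⟨f', hf'⟩ := hμdvd
      have hf'm : f'.Monic := by
        apply Monic.of_mul_monic_left hμm
        rw [← hf']; exact hf
      have hdeg : f.natDegree = μ.natDegree + f'.natDegree := by
        rw [hf']; exact Monic.natDegree_mul hμm hf'm
      have hμpos : 0 < μ.natDegree := hμirr.natDegree_pos
      have hfac' : ∀ ν' : F[X], Irreducible ν' → ν' ∣ f' → ν' ∣ X ^ k - 1 :=
        fun ν' h1 h2 => hfac ν' h1 (hf' ▸ Dvd.dvd.mul_left h2 μ)
      obtain ⟨V', i1, i2, i3, A', hA'k, hA'f⟩ := ih f'.natDegree (by omega) f' hf'm rfl hfac'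
      let _ := i1
      let _ := i2
      have _ := i3
      have hμne : μ ≠ 0 := hμm.ne_zero
      haveI : Module.Finite F (AdjoinRoot μ) := Monic.finite_adjoinRoot hμm
      have hroot : AdjoinRoot.root μ ^ k = 1 := by
        have h := AdjoinRoot.mk_eq_zero.2 hμX
        rw [map_sub, map_pow, AdjoinRoot.mk_X, map_one] at h
        exact sub_eq_zero.1 h
      have hRk : (Algebra.lmul F (AdjoinRoot μ) (AdjoinRoot.root μ)) ^ k = 1 := by
        rw [← map_pow, hroot, map_one]
      have hRc : LinearMap.charpoly (Algebra.lmul F (AdjoinRoot μ) (AdjoinRoot.root μ)) = μ := by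
        have h1 := charpoly_leftMulMatrix (AdjoinRoot.powerBasis hμne)
        rw [AdjoinRoot.powerBasis_gen hμne, Algebra.leftMulMatrix_apply,
          LinearMap.charpoly_toMatrix,
          AdjoinRoot.minpoly_root hμne, hμm.leadingCoeff, inv_one, C_1, mul_one] at h1
        exact h1
      refine ⟨AdjoinRoot μ × V', inferInstance, inferInstance, inferInstance,
        (Algebra.lmul F (AdjoinRoot μ) (AdjoinRoot.root μ)).prodMap A', ?_, ?_⟩
      · apply LinearMap.ext
        intro v
        rw [Cfsg.Agent.Lib.Helper2.SemiClasses.prodMap_pow_apply, hRk, hA'k]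
        rfl
      · rw [LinearMap.charpoly_prodMap, hRc, hA'f, hf']

theorem exists_gl_pow {F : Type u} [Field F] (k : ℕ) (hk : 0 < k) (n : ℕ)
    (f : F[X]) (hf : f.Monic) (hd : f.natDegree = n)
    (hfac : ∀ ν : F[X], Irreducible ν → ν ∣ f → ν ∣ X ^ k - 1) :
    ∃ g : GL (Fin n) F, g ^ k = 1 ∧ (g : Matrix (Fin n) (Fin n) F).charpoly = f := by
  obtain ⟨V, i1, i2, i3, A, hAk, hAf⟩ := exists_model_pow k n f hf hd hfac
  let _ := i1
  let _ := i2
  have _ := i3
  have hfin : finrank F V = n := by rw [← LinearMap.charpoly_natDegree A, hAf, hd]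
  let b : Basis (Fin n) F V := Module.finBasisOfFinrankEq F V hfin
  obtain ⟨M, hM⟩ : ∃ M : Matrix (Fin n) (Fin n) F, M = LinearMap.toMatrixAlgEquiv b A := ⟨_, rfl⟩
  have hMk : M ^ k = 1 := by rw [hM, ← map_pow, hAk, map_one]
  have hMc : M.charpoly = f := by
    rw [hM, ← hAf]; exact LinearMap.charpoly_toMatrix A b
  refine ⟨Units.ofPowEqOne M k hMk hk.ne', Units.pow_ofPowEqOne hMk hk.ne', ?_⟩
  rw [Units.val_ofPowEqOne]; exact hMc

theorem factor_dvd_of_pow_eq_one {F : Type u} [Field F] {n : ℕ} (M : Matrix (Fin n) (Fin n) F)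
    {k : ℕ} (hk : (k : F) ≠ 0) (hM : M ^ k = 1)
    (ν : F[X]) (hν : Irreducible ν) (hdvd : ν ∣ M.charpoly) : ν ∣ X ^ k - 1 := by
  by_contra hnd
  have hcop : IsCoprime ν (X ^ k - 1) := (hν.coprime_iff_not_dvd).2 hnd
  obtain ⟨u, w, huw⟩ := hcop
  obtain ⟨B, hB⟩ : ∃ B : Module.End F (Fin n → F), B = Matrix.toLinAlgEquiv' M := ⟨_, rfl⟩
  have hss : B.IsSemisimple := by rw [hB]; exact Cfsg.Agent.S2388.semisimple_of_pow M hk hM
  obtain ⟨v, hv0, hv⟩ := Cfsg.Agent.Lib.Helper2.SemiConj.exists_ker_ne_zero n B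
    (Module.finrank_fin_fun F) hss ν hν (by rw [hB, Cfsg.Agent.S2388.charpoly_toLin]; exact hdvd)
  have hBk : aeval B (X ^ k - 1 : F[X]) = 0 := by
    rw [map_sub, map_pow, aeval_X, map_one, hB, ← map_pow, hM, map_one, sub_self]
  have h1 := congrArg (fun P : F[X] => aeval B P v) huw
  simp only [map_add, map_mul, map_one, LinearMap.add_apply, Module.End.mul_apply, hv, hBk,
    map_zero, LinearMap.zero_apply, Module.End.one_apply, add_zero] at h1
  exact hv0 h1.symm
/-- Number of conjugacy classes of elements of a given prime order r, coprime to the characteristic, in GL_n(q): if i is the multiplicative order of q modulo r and t = (r − 1)/i, the classes correspond to the non-zero t-tuples of natural numbers (a_1, …, a_t) with i(a_1 + ⋯ + a_t) ≤ n (a_j is the multiplicity of the j-th Frobenius orbit of nontrivial r-th roots of unity among the eigenvalues), so there are exactly C(⌊n/i⌋ + t, t) − 1 of them. -/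
theorem result {F : Type*} [Field F] [Fintype F] {p q : ℕ} [Fact p.Prime] [CharP F p] (hF : Fintype.card F = q) (n r i t : ℕ) (hr : r.Prime) (hrp : r ≠ p) (hi : i = orderOf (q : ZMod r)) (ht : t * i = r - 1) : Nat.card {C : ConjClasses (GL (Fin n) F) // ∃ g : GL (Fin n) F, ConjClasses.mk g = C ∧ orderOf g = r} = Nat.choose (n / i + t) t - 1 := by
  classical
  haveI : Fact r.Prime := ⟨hr⟩
  have hp : p.Prime := Fact.out
  obtain ⟨f, hf⟩ : ∃ f : ℕ, Fintype.card F = p ^ f := by
    obtain ⟨f, -, hf⟩ := FiniteField.card F p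
    exact ⟨f, hf⟩
  have hcop : p.Coprime r := (Nat.coprime_primes hp hr).2 (Ne.symm hrp)
  have hrF : ((r : ℕ) : F) ≠ 0 := Cfsg.Agent.S2388.cast_ne_zero_of_coprime p hcop.symm
  have hipos : 0 < i := by
    rcases Nat.eq_zero_or_pos i with h | h
    · rw [h, mul_zero] at ht
      have := hr.two_le
      omega
    · exact h
  have hord : orderOf (ZMod.unitOfCoprime (p ^ f) (hcop.pow_left f)) = i := by
    rw [hi, ← hF, hf, ← orderOf_units, ZMod.coe_unitOfCoprime]
  obtain ⟨s, hs⟩ : ∃ s : Finset (Polynomial F), s = (normalizedFactors (cyclotomic r F)).toFinset :=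
    ⟨_, rfl⟩
  have hscard : s.card = t := by
    rw [hs, normalizedFactors_cyclotomic_card hf hcop, hord, Nat.totient_prime hr, ← ht,
      Nat.mul_div_cancel _ hipos]
  have hsub : ∀ x ∈ s, x ∈ normalizedFactors (cyclotomic r F) := fun x hx =>
    Multiset.mem_toFinset.1 (by rw [← hs]; exact hx)
  let e := Finset.equivFinOfCardEq hscard
  have hmem : ∀ j, (e.symm j : Polynomial F) ∈ normalizedFactors (cyclotomic r F) := fun j =>
    hsub _ (e.symm j).2
  let S : Fam F r i t :=
    { μ := fun j => (e.symm j : Polynomial F)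
      inj := fun j k h => e.symm.injective (Subtype.ext h)
      monic := fun j => by
        have h := normalize_normalized_factor _ (hmem j)
        rw [← h]
        exact monic_normalize (irreducible_of_normalized_factor _ (hmem j)).ne_zero
      irr := fun j => irreducible_of_normalized_factor _ (hmem j)
      deg := fun j => (natDegree_of_mem_normalizedFactors_cyclotomic hf hcop (hmem j)).trans hord
      dvd := fun j => dvd_of_mem_normalizedFactors (hmem j)
      complete := fun ν hm hirr hd => by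
        have h1 : ν ∈ normalizedFactors (cyclotomic r F) :=
          (mem_normalizedFactors_iff' (cyclotomic_ne_zero r F)).2 ⟨hirr, hm.normalize_eq_self, hd⟩
        have h2 : ν ∈ s := by rw [hs]; exact Multiset.mem_toFinset.2 h1
        refine ⟨e ⟨ν, h2⟩, ?_⟩
        simp
      eval1 := by rw [eval_one_cyclotomic_prime]; exact hrF }
  have key : ∀ a : {a : Fin t → ℕ // i * ∑ j, a j ≤ n ∧ a ≠ 0},
      ∃ g : GL (Fin n) F, g ^ r = 1 ∧ (g : Matrix (Fin n) (Fin n) F).charpoly = S.Psi n a.1 :=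
    fun a => exists_gl_pow r hr.pos n _ (S.Psi_monic n a.1) (S.Psi_natDegree n a.1 a.2.1)
      (fun ν hν h => S.dvd_of_irreducible_dvd_Psi n a.1 ν hν h)
  choose G hG1 hG2 using key
  have hone : ((1 : GL (Fin n) F) : Matrix (Fin n) (Fin n) F).charpoly = S.Psi n 0 := by
    rw [Units.val_one, Matrix.charpoly_one, Fintype.card_fin, S.Psi_zero, C_1]
  have hpowM : ∀ g : GL (Fin n) F, g ^ r = 1 → (g : Matrix (Fin n) (Fin n) F) ^ r = 1 := by
    intro g hg
    rw [← Units.val_pow_eq_pow_val, hg, Units.val_one]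
  have heq1 : ∀ g : GL (Fin n) F, g ^ r = 1 →
      (g : Matrix (Fin n) (Fin n) F).charpoly = S.Psi n 0 → g = 1 := by
    intro g hg hc
    obtain ⟨P, hP⟩ := Cfsg.Agent.S2388.gl_conj (g : Matrix (Fin n) (Fin n) F)
      ((1 : GL (Fin n) F) : Matrix (Fin n) (Fin n) F) hrF (hpowM g hg) hrF
      (by rw [Units.val_one, one_pow]) (hc.trans hone.symm)
    have h4 : P * g = 1 * P := Units.ext (by rw [Units.val_mul, Units.val_mul]; exact hP)
    rw [one_mul] at h4
    exact mul_left_cancel (a := P) (by rw [h4, mul_one])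
  have hne : ∀ a, G a ≠ 1 := by
    intro a h
    have h1 := hG2 a
    rw [h, hone] at h1
    exact a.2.2 (S.Psi_inj n h1).symm
  have hordG : ∀ a, orderOf (G a) = r := fun a => orderOf_eq_prime (hG1 a) (hne a)
  let Θ : {a : Fin t → ℕ // i * ∑ j, a j ≤ n ∧ a ≠ 0} →
      {C : ConjClasses (GL (Fin n) F) // ∃ g : GL (Fin n) F, ConjClasses.mk g = C ∧ orderOf g = r} :=
    fun a => ⟨ConjClasses.mk (G a), G a, rfl, hordG a⟩
  have hinj : Function.Injective Θ := by
    intro a b h
    have h1 : ConjClasses.mk (G a) = ConjClasses.mk (G b) := congrArg Subtype.val h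
    have h2 := Cfsg.Agent.Lib.Helper2.SemiClasses.charpoly_eq_of_isConj
      (ConjClasses.mk_eq_mk_iff_isConj.1 h1)
    rw [hG2, hG2] at h2
    exact Subtype.ext (S.Psi_inj n h2)
  have hsurj : Function.Surjective Θ := by
    rintro ⟨C, g, rfl, hg⟩
    have hgr : g ^ r = 1 := by rw [← hg]; exact pow_orderOf_eq_one g
    have hMr := hpowM g hgr
    obtain ⟨a, ha, hfa⟩ := S.factor_form n (g : Matrix (Fin n) (Fin n) F).charpoly
      (Matrix.charpoly_monic _) (by rw [Matrix.charpoly_natDegree_eq_dim, Fintype.card_fin])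
      (fun ν hν h => factor_dvd_of_pow_eq_one _ hrF hMr ν hν h)
    have ha0 : a ≠ 0 := by
      intro h0
      rw [h0] at hfa
      have := heq1 g hgr hfa
      rw [this, orderOf_one] at hg
      exact hr.one_lt.ne hg
    refine ⟨⟨a, ha, ha0⟩, ?_⟩
    apply Subtype.ext
    change ConjClasses.mk (G ⟨a, ha, ha0⟩) = ConjClasses.mk g
    rw [ConjClasses.mk_eq_mk_iff_isConj]
    obtain ⟨P, hP⟩ := Cfsg.Agent.S2388.gl_conj
      ((G ⟨a, ha, ha0⟩ : GL (Fin n) F) : Matrix (Fin n) (Fin n) F)
      (g : Matrix (Fin n) (Fin n) F) hrF (hpowM _ (hG1 _)) hrF hMr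
      (by rw [hG2, hfa])
    rw [isConj_iff]
    refine ⟨P, ?_⟩
    have h4 : P * G ⟨a, ha, ha0⟩ = g * P :=
      Units.ext (by rw [Units.val_mul, Units.val_mul]; exact hP)
    rw [h4, mul_inv_cancel_right]
  rw [← Nat.card_eq_of_bijective Θ ⟨hinj, hsurj⟩]
  -- count the tuples
  have hcard := card_tuples t (n / i)
  have hfin : Finite {a : Fin t → ℕ // ∑ j, a j ≤ n / i} := by
    apply Nat.finite_of_card_ne_zero
    rw [hcard]
    exact (Nat.choose_pos (Nat.le_add_left _ _)).ne'
  haveI := hfin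
  haveI : Fintype {a : Fin t → ℕ // ∑ j, a j ≤ n / i} := Fintype.ofFinite _
  have h0mem : ∑ j, (0 : Fin t → ℕ) j ≤ n / i := by simp
  let E : {a : Fin t → ℕ // i * ∑ j, a j ≤ n ∧ a ≠ 0} ≃
      {x : {a : Fin t → ℕ // ∑ j, a j ≤ n / i} // ¬ (x = ⟨0, h0mem⟩)} :=
    { toFun := fun a => ⟨⟨a.1, (Nat.le_div_iff_mul_le hipos).2 (by rw [mul_comm]; exact a.2.1)⟩,
        fun h => a.2.2 (congrArg Subtype.val h)⟩
      invFun := fun x => ⟨x.1.1, by
          have := (Nat.le_div_iff_mul_le hipos).1 x.1.2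
          rw [mul_comm]; exact this,
        fun h => x.2 (Subtype.ext h)⟩
      left_inv := fun a => rfl
      right_inv := fun x => rfl }
  rw [Nat.card_congr E, Nat.card_eq_fintype_card,
    Fintype.card_subtype_compl (fun x : {a : Fin t → ℕ // ∑ j, a j ≤ n / i} => x = ⟨0, h0mem⟩),
    Fintype.card_subtype_eq, ← Nat.card_eq_fintype_card, hcard]

end Cfsg.Agent.S2568
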