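import Cfsg.Statements.S2570
import Mathlib
import Cfsg.Agent.Lib.Helper2.JordanType


set_option autoImplicit false
open Cfsg

namespace Cfsg.Agent.S2570

theorem allOnes_iff {n : ℕ} (μ : Nat.Partition n) :
    (∀ a ∈ μ.parts, a ≤ 1) ↔ μ.parts = Multiset.replicate n 1 := by
  constructor
  · intro h
    have h1 : ∀ b ∈ μ.parts, b = 1 := by
      intro b hb
      have h2 := h b hb
      have h3 := μ.parts_pos hb
      omega
    have h2 : μ.parts = Multiset.replicate (Multiset.card μ.parts) 1 :=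
      Multiset.eq_replicate_card.2 h1
    have h3 : Multiset.card μ.parts = n := by
      have h4 := μ.parts_sum
      rw [h2, Multiset.sum_replicate] at h4
      simpa using h4
    rw [h2, h3]
  · intro h a ha
    rw [h] at ha
    rw [Multiset.eq_of_mem_replicate ha]

/-- Number of conjugacy classes of elements of order p in GL_n over a finite field of characteristic p: they correspond to the Jordan types, that is, to the partitions of n with all parts at most p other than the partition into ones, so there are (number of partitions of n with parts ≤ p) − 1 of them. -/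
theorem result {F : Type*} [Field F] [Fintype F] {p : ℕ} [Fact p.Prime] [CharP F p] (n : ℕ) : Nat.card {C : ConjClasses (GL (Fin n) F) // ∃ g : GL (Fin n) F, ConjClasses.mk g = C ∧ orderOf g = p} = (Finset.univ.filter (fun μ : Nat.Partition n => ∀ a ∈ μ.parts, a ≤ p)).card - 1 := by
  classical
  have hp : p.Prime := Fact.out
  obtain ⟨Φ, hΦ⟩ := Cfsg.Agent.Lib.Helper2.JordanType.exists_equiv (F := F) n
  have hpow : ∀ g : GL (Fin n) F, g ^ p = 1 ↔ ((g : Matrix (Fin n) (Fin n) F) - 1) ^ p = 0 := by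
    intro g
    have := Cfsg.Agent.Lib.Helper2.JordanType.pow_ppow_eq_one_iff p g 1
    rwa [pow_one] at this
  have hone : ∀ g : GL (Fin n) F, g = 1 ↔ ((g : Matrix (Fin n) (Fin n) F) - 1) ^ 1 = 0 := by
    intro g
    rw [pow_one, sub_eq_zero]
    constructor
    · intro h; rw [h]; rfl
    · intro h
      apply Units.ext
      rw [h]
      rfl
  have hnil : ∀ g : GL (Fin n) F, orderOf g = p →
      IsNilpotent ((g : Matrix (Fin n) (Fin n) F) - 1) := by
    intro g hg
    refine ⟨p, ?_⟩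
    rw [← hpow, ← hg, pow_orderOf_eq_one]
  have key : ∀ C : {C : ConjClasses (GL (Fin n) F) // ∃ g : GL (Fin n) F,
        IsNilpotent ((g : Matrix (Fin n) (Fin n) F) - 1) ∧ ConjClasses.mk g = C},
      (∃ g : GL (Fin n) F, ConjClasses.mk g = C.1 ∧ orderOf g = p) ↔
      ((∀ a ∈ (Φ C).parts, a ≤ p) ∧ ¬ (∀ a ∈ (Φ C).parts, a ≤ 1)) := by
    intro C
    constructor
    · rintro ⟨g, hg, ho⟩
      rw [orderOf_eq_prime_iff] at ho
      refine ⟨(hΦ C g hg p).1 ((hpow g).1 ho.1), ?_⟩
      intro hQ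
      exact ho.2 ((hone g).2 ((hΦ C g hg 1).2 hQ))
    · rintro ⟨hP, hQ⟩
      obtain ⟨g, -, hg⟩ := C.2
      refine ⟨g, hg, orderOf_eq_prime_iff.2 ⟨(hpow g).2 ((hΦ C g hg p).2 hP), ?_⟩⟩
      intro h1
      exact hQ ((hΦ C g hg 1).1 ((hone g).1 h1))
  let e1 : {C : ConjClasses (GL (Fin n) F) // ∃ g : GL (Fin n) F,
        ConjClasses.mk g = C ∧ orderOf g = p} ≃
      {C : {C : ConjClasses (GL (Fin n) F) // ∃ g : GL (Fin n) F,
        IsNilpotent ((g : Matrix (Fin n) (Fin n) F) - 1) ∧ ConjClasses.mk g = C} //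
        ∃ g : GL (Fin n) F, ConjClasses.mk g = C.1 ∧ orderOf g = p} :=
    { toFun := fun C => ⟨⟨C.1, by
        obtain ⟨g, hg, ho⟩ := C.2
        exact ⟨g, hnil g ho, hg⟩⟩, C.2⟩
      invFun := fun C => ⟨C.1.1, C.2⟩
      left_inv := fun C => rfl
      right_inv := fun C => rfl }
  have e2 := Equiv.subtypeEquiv (p := fun C : {C : ConjClasses (GL (Fin n) F) // ∃ g : GL (Fin n) F,
        IsNilpotent ((g : Matrix (Fin n) (Fin n) F) - 1) ∧ ConjClasses.mk g = C} =>
      ∃ g : GL (Fin n) F, ConjClasses.mk g = C.1 ∧ orderOf g = p)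
    (q := fun μ : Nat.Partition n => (∀ a ∈ μ.parts, a ≤ p) ∧ ¬ (∀ a ∈ μ.parts, a ≤ 1)) Φ key
  rw [Nat.card_congr (e1.trans e2), Nat.card_eq_fintype_card, Fintype.card_subtype]
  let μ₁ : Nat.Partition n := ⟨Multiset.replicate n 1, fun {i} hi => by
    rw [Multiset.eq_of_mem_replicate hi]; exact Nat.one_pos, by simp⟩
  have hμ₁ : ∀ μ : Nat.Partition n, (∀ a ∈ μ.parts, a ≤ 1) ↔ μ = μ₁ := by
    intro μ
    rw [allOnes_iff]
    constructor
    · intro h; exact Nat.Partition.ext h
    · intro h; rw [h]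
  have hmem : μ₁ ∈ Finset.univ.filter (fun μ : Nat.Partition n => ∀ a ∈ μ.parts, a ≤ p) := by
    rw [Finset.mem_filter]
    refine ⟨Finset.mem_univ _, ?_⟩
    intro a ha
    have : a = 1 := Multiset.eq_of_mem_replicate ha
    rw [this]
    exact hp.one_lt.le
  rw [← Finset.card_erase_of_mem hmem]
  congr 1
  ext μ
  rw [Finset.mem_filter, Finset.mem_erase, Finset.mem_filter, hμ₁]
  constructor
  · rintro ⟨-, h1, h2⟩
    exact ⟨h2, Finset.mem_univ _, h1⟩
  · rintro ⟨h2, -, h1⟩
    exact ⟨Finset.mem_univ _, h1, h2⟩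


end Cfsg.Agent.S2570
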