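import Mathlib
import Cfsg.Statements.S2572
import Cfsg.Agent.Lib.Helper5.Transv

set_option autoImplicit false
open Cfsg

namespace Cfsg.Agent.S2572

open Matrix

section CountC0

variable {F : Type*} [Field F] (m : ℕ)

abbrev J (m : ℕ) := Unit ⊕ (Fin m ⊕ Unit)

/-- the model nilpotent -/
def E0 : Matrix (J m) (J m) F := Matrix.single (Sum.inr (Sum.inr ())) (Sum.inl ()) 1

/-- parametrised centraliser element -/
def pm (a : F) (B : Matrix (Fin m) (Fin m) F) (c r : Fin m → F) (z : F) : Matrix (J m) (J m) F :=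
  Matrix.fromBlocks (Matrix.of fun _ _ => a) 0
    (Matrix.of fun k _ => Sum.elim c (fun _ => z) k)
    (Matrix.fromBlocks B 0 (Matrix.of fun _ j => r j) (Matrix.of fun _ _ => a))

theorem det_pm (a : F) (B : Matrix (Fin m) (Fin m) F) (c r : Fin m → F) (z : F) :
    (pm m a B c r z).det = a * (B.det * a) := by
  unfold pm
  rw [Matrix.det_fromBlocks_zero₁₂, Matrix.det_fromBlocks_zero₁₂]
  simp [Matrix.det_unique]

theorem mul_E0_apply (A : Matrix (J m) (J m) F) (i j : J m) :
    (A * E0 (F := F) m) i j = if j = Sum.inl () then A i (Sum.inr (Sum.inr ())) else 0 := by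
  unfold E0
  by_cases h : j = Sum.inl ()
  · subst h
    simp
  · rw [if_neg h]
    exact Matrix.mul_single_apply_of_ne _ _ _ _ _ h _

theorem E0_mul_apply (A : Matrix (J m) (J m) F) (i j : J m) :
    (E0 (F := F) m * A) i j = if i = Sum.inr (Sum.inr ()) then A (Sum.inl ()) j else 0 := by
  unfold E0
  by_cases h : i = Sum.inr (Sum.inr ())
  · subst h
    simp
  · rw [if_neg h]
    exact Matrix.single_mul_apply_of_ne _ _ _ _ _ h _

theorem pm_comm (a : F) (B : Matrix (Fin m) (Fin m) F) (c r : Fin m → F) (z : F) :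
    pm m a B c r z * E0 (F := F) m = E0 (F := F) m * pm m a B c r z := by
  ext i j
  rw [mul_E0_apply, E0_mul_apply]
  rcases i with _ | i | _ <;> rcases j with _ | j | _ <;> simp [pm]

theorem eq_pm_of_comm (A : Matrix (J m) (J m) F) (h : A * E0 (F := F) m = E0 (F := F) m * A) :
    A = pm m (A (Sum.inl ()) (Sum.inl ())) (Matrix.of fun i j => A (Sum.inr (Sum.inl i)) (Sum.inr (Sum.inl j)))
      (fun i => A (Sum.inr (Sum.inl i)) (Sum.inl ())) (fun j => A (Sum.inr (Sum.inr ())) (Sum.inr (Sum.inl j)))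
      (A (Sum.inr (Sum.inr ())) (Sum.inl ())) := by
  have h' : ∀ i j : J m, (A * E0 (F := F) m) i j = (E0 (F := F) m * A) i j := fun i j => by rw [h]
  simp only [mul_E0_apply, E0_mul_apply] at h'
  ext i j
  rcases i with _ | i | _ <;> rcases j with _ | j | _
  · simp [pm]
  · have := h' (Sum.inr (Sum.inr ())) (Sum.inr (Sum.inl j))
    simp at this
    simp [pm, this]
  · have := h' (Sum.inr (Sum.inr ())) (Sum.inr (Sum.inr ()))
    simp at this
    simp [pm, this]
  · simp [pm]
  · simp [pm]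
  · have := h' (Sum.inr (Sum.inl i)) (Sum.inl ())
    simp at this
    simp [pm, this]
  · simp [pm]
  · simp [pm]
  · have := h' (Sum.inr (Sum.inr ())) (Sum.inl ())
    simp at this
    simp [pm, this]

end CountC0

section Card

variable {F : Type*} [Field F] [Fintype F] (m : ℕ)

def C0 : Set (GL (J m) F) := {A | A.val * E0 (F := F) m = E0 (F := F) m * A.val}

abbrev Par (F : Type*) [Field F] (m : ℕ) := Fˣ × GL (Fin m) F × (Fin m → F) × (Fin m → F) × F

theorem det_psi_ne (x : Par F m) :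
    (pm m x.1.val x.2.1.val x.2.2.1 x.2.2.2.1 x.2.2.2.2).det ≠ 0 := by
  rw [det_pm]
  exact mul_ne_zero x.1.ne_zero (mul_ne_zero (Matrix.isUnits_det_units x.2.1).ne_zero x.1.ne_zero)

noncomputable def psi (x : Par F m) : GL (J m) F :=
  Matrix.GeneralLinearGroup.mkOfDetNeZero (pm m x.1.val x.2.1.val x.2.2.1 x.2.2.2.1 x.2.2.2.2)
    (det_psi_ne m x)

theorem psi_val (x : Par F m) :
    (psi m x).val = pm m x.1.val x.2.1.val x.2.2.1 x.2.2.2.1 x.2.2.2.2 := rfl

theorem psi_mem (x : Par F m) : psi m x ∈ C0 (F := F) m := by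
  show (psi m x).val * E0 (F := F) m = E0 (F := F) m * (psi m x).val
  rw [psi_val]
  exact pm_comm m _ _ _ _ _

theorem pm_inj (a a' : F) (B B' : Matrix (Fin m) (Fin m) F) (c c' r r' : Fin m → F) (z z' : F)
    (h : pm m a B c r z = pm m a' B' c' r' z') : a = a' ∧ B = B' ∧ c = c' ∧ r = r' ∧ z = z' := by
  have h' : ∀ i j : J m, pm m a B c r z i j = pm m a' B' c' r' z' i j := fun i j => by rw [h]
  refine ⟨?_, ?_, ?_, ?_, ?_⟩
  · simpa [pm] using h' (Sum.inl ()) (Sum.inl ())
  · ext i j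
    simpa [pm] using h' (Sum.inr (Sum.inl i)) (Sum.inr (Sum.inl j))
  · ext i
    simpa [pm] using h' (Sum.inr (Sum.inl i)) (Sum.inl ())
  · ext j
    simpa [pm] using h' (Sum.inr (Sum.inr ())) (Sum.inr (Sum.inl j))
  · simpa [pm] using h' (Sum.inr (Sum.inr ())) (Sum.inl ())

theorem psi_inj : Function.Injective (psi (F := F) m) := by
  rintro ⟨a, B, c, r, z⟩ ⟨a', B', c', r', z'⟩ h
  have h1 := congrArg Units.val h
  rw [psi_val, psi_val] at h1
  obtain ⟨h2, h3, h4, h5, h6⟩ := pm_inj m _ _ _ _ _ _ _ _ _ _ h1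
  simp only at h2 h3 h4 h5 h6
  rw [Units.ext h2, Units.ext h3, h4, h5, h6]

theorem psi_surj (A : GL (J m) F) (hA : A ∈ C0 (F := F) m) : ∃ x, psi m x = A := by
  have h1 := eq_pm_of_comm m A.val hA
  have hdet : A.val.det ≠ 0 := (Matrix.isUnits_det_units A).ne_zero
  rw [h1, det_pm] at hdet
  have ha : A.val (Sum.inl ()) (Sum.inl ()) ≠ 0 := fun h => hdet (by rw [h, zero_mul])
  have hB : (Matrix.of fun i j => A.val (Sum.inr (Sum.inl i)) (Sum.inr (Sum.inl j)) :
      Matrix (Fin m) (Fin m) F).det ≠ 0 := fun h => hdet (by rw [h, zero_mul, mul_zero])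
  refine ⟨(Units.mk0 _ ha, Matrix.GeneralLinearGroup.mkOfDetNeZero _ hB,
    (fun i => A.val (Sum.inr (Sum.inl i)) (Sum.inl ())),
    (fun j => A.val (Sum.inr (Sum.inr ())) (Sum.inr (Sum.inl j))),
    A.val (Sum.inr (Sum.inr ())) (Sum.inl ())), ?_⟩
  apply Units.ext
  rw [psi_val]
  exact h1.symm

theorem card_C0 : Nat.card (C0 (F := F) m) =
    (Fintype.card F - 1) * (∏ i : Fin m, (Fintype.card F ^ m - Fintype.card F ^ (i : ℕ))) *
      Fintype.card F ^ m * Fintype.card F ^ m * Fintype.card F := by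
  classical
  have e : Par F m ≃ C0 (F := F) m :=
    Equiv.ofBijective (fun x => ⟨psi m x, psi_mem m x⟩)
      ⟨fun x y h => psi_inj m (congrArg Subtype.val h),
       fun ⟨A, hA⟩ => by
         obtain ⟨x, hx⟩ := psi_surj m A hA
         exact ⟨x, Subtype.ext hx⟩⟩
  rw [← Nat.card_congr e, Nat.card_prod, Nat.card_prod, Nat.card_prod, Nat.card_prod,
    Matrix.card_GL_field, Nat.card_eq_fintype_card, Fintype.card_units, Nat.card_eq_fintype_card,
    Fintype.card_fun, Fintype.card_fin, Nat.card_eq_fintype_card]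
  ring

end Card

section Transport

open Cfsg.Agent.Lib.Helper5

variable {F : Type*} [Field F] [Fintype F] (m : ℕ)

def fJ : J m → Fin (m + 2)
  | Sum.inl _ => 0
  | Sum.inr (Sum.inl i) => i.succ.succ
  | Sum.inr (Sum.inr _) => 1

theorem fJ_bij : Function.Bijective (fJ m) := by
  rw [Fintype.bijective_iff_injective_and_card]
  constructor
  · rintro (_ | i | _) (_ | j | _) h
    · rfl
    · exact absurd h (by simp [fJ, Fin.ext_iff])
    · exact absurd h (by simp [fJ, Fin.ext_iff])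
    · exact absurd h (by simp [fJ, Fin.ext_iff])
    · have : i = j := by
        simpa [fJ] using h
      rw [this]
    · exact absurd h (by simp [fJ, Fin.ext_iff])
    · exact absurd h (by simp [fJ, Fin.ext_iff])
    · exact absurd h (by simp [fJ, Fin.ext_iff])
    · rfl
  · simp [J]
    omega

theorem card_centralizer (t : GL (Fin (m + 2)) F)
    (ht : Cfsg.IsTransvection (t : Matrix (Fin (m + 2)) (Fin (m + 2)) F)) :
    Nat.card (Subgroup.centralizer ({t} : Set (GL (Fin (m + 2)) F))) = Nat.card (C0 (F := F) m) := by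
  classical
  obtain ⟨hrank, hsq⟩ := ht
  set M : Matrix (Fin (m + 2)) (Fin (m + 2)) F := t.val - 1 with hM
  let N : (Fin (m + 2) → F) →ₗ[F] (Fin (m + 2) → F) := Matrix.toLin' M
  have hr : Module.finrank F (LinearMap.range N) = 1 := by
    rw [← hrank]
    rfl
  have hs : N ∘ₗ N = 0 := by
    show Matrix.toLin' M ∘ₗ Matrix.toLin' M = 0
    rw [← Matrix.toLin'_mul, hsq, map_zero]
  obtain ⟨b, hb0, hb⟩ := exists_adapted_basis N hr hs
  let e : Fin (m + 2) ≃ J m := (Equiv.ofBijective (fJ m) (fJ_bij m)).symm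
  let b' : Module.Basis (J m) F (Fin (m + 2) → F) := b.reindex e
  have hb' : ∀ j, b' j = b (fJ m j) := fun j => by
    show (b.reindex e) j = _
    rw [Module.Basis.reindex_apply]
    rfl
  let Φ : Matrix (Fin (m + 2)) (Fin (m + 2)) F ≃ₐ[F] Matrix (J m) (J m) F :=
    (Matrix.toLinAlgEquiv').trans (LinearMap.toMatrixAlgEquiv b')
  have hΦ : Φ M = E0 (F := F) m := by
    ext i j
    show LinearMap.toMatrixAlgEquiv b' (Matrix.toLinAlgEquiv' M) i j = _
    rw [LinearMap.toMatrixAlgEquiv_apply]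
    have hN : ∀ v, (Matrix.toLinAlgEquiv' M) v = N v := fun v => rfl
    rw [hN, hb']
    rcases j with _ | j | _
    · show b'.repr (N (b 0)) i = _
      rw [hb0]
      have : b 1 = b' (Sum.inr (Sum.inr ())) := (hb' (Sum.inr (Sum.inr ()))).symm
      rw [this, Module.Basis.repr_self, E0, Matrix.single_apply, Finsupp.single_apply]
      simp
    · have h0 : fJ m (Sum.inr (Sum.inl j)) ≠ 0 := by
        simp [fJ, Fin.ext_iff]
      rw [hb _ h0, map_zero, E0, Matrix.single_apply]
      simp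
    · have h0 : fJ m (Sum.inr (Sum.inr ())) ≠ 0 := by
        simp [fJ, Fin.ext_iff]
      rw [hb _ h0, map_zero, E0, Matrix.single_apply]
      simp
  let Ψ : GL (Fin (m + 2)) F ≃* GL (J m) F := Units.mapEquiv Φ.toMulEquiv
  have hΨ : ∀ A : GL (Fin (m + 2)) F, (Ψ A).val = Φ A.val := fun A => rfl
  apply Nat.card_congr
  refine Equiv.subtypeEquiv Ψ.toEquiv ?_
  intro A
  show A ∈ Subgroup.centralizer ({t} : Set (GL (Fin (m + 2)) F)) ↔
    (Ψ A).val * E0 (F := F) m = E0 (F := F) m * (Ψ A).val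
  rw [Subgroup.mem_centralizer_singleton_iff, hΨ, ← hΦ, ← map_mul, ← map_mul]
  constructor
  · intro h
    have h1 : t.val * A.val = A.val * t.val := by
      rw [← Units.val_mul, ← Units.val_mul, h]
    rw [hM, mul_sub, sub_mul, h1, mul_one, one_mul]
  · intro h
    have h1 := Φ.injective h
    rw [hM, mul_sub, sub_mul, mul_one, one_mul] at h1
    apply Units.ext
    rw [Units.val_mul, Units.val_mul]
    exact sub_left_inj.1 h1

end Transport

theorem result {F : Type*} [Field F] [Fintype F] {q n : ℕ} (hF : Fintype.card F = q) (hn : 2 ≤ n) (t : GL (Fin n) F) (ht : Cfsg.IsTransvection (t : Matrix (Fin n) (Fin n) F)) : Nat.card ↥(Subgroup.centralizer ({t} : Set (GL (Fin n) F))) = q ^ (2 * n - 3) * (q - 1) * ∏ i : Fin (n - 2), (q ^ (n - 2) - q ^ (i : ℕ)) := by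
  classical
  obtain ⟨m, rfl⟩ : ∃ m, n = m + 2 := ⟨n - 2, by omega⟩
  subst hF
  rw [card_centralizer m t ht, card_C0]
  have e1 : 2 * (m + 2) - 3 = 2 * m + 1 := by omega
  rw [e1]
  show _ = Fintype.card F ^ (2 * m + 1) * (Fintype.card F - 1) *
    ∏ i : Fin m, (Fintype.card F ^ m - Fintype.card F ^ (i : ℕ))
  ring

end Cfsg.Agent.S2572
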