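import Mathlib
import Cfsg.Statements.S2574
import Cfsg.Agent.Lib.Helper5.RegUnip
import Cfsg.Agent.S2573

set_option autoImplicit false
open Cfsg

namespace Cfsg.Agent.S2574

open Cfsg.Agent.Lib.Helper5
open scoped Matrix

theorem transpose_pow_mul_J {F : Type*} [Field F] {m : ℕ}
    (A : Matrix (Fin m ⊕ Fin m) (Fin m ⊕ Fin m) F)
    (hA : Aᵀ * Matrix.J (Fin m) F * A = Matrix.J (Fin m) F) (k : ℕ) :
    ∃ C : Matrix (Fin m ⊕ Fin m) (Fin m ⊕ Fin m) F,
      ((A - 1)ᵀ) ^ k * Matrix.J (Fin m) F = C * (A - 1) ^ k := by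
  induction k with
  | zero => exact ⟨Matrix.J (Fin m) F, by simp⟩
  | succ k ih =>
    obtain ⟨C, hC⟩ := ih
    have h1 : (A - 1)ᵀ * Matrix.J (Fin m) F = -(Aᵀ * Matrix.J (Fin m) F * (A - 1)) := by
      rw [Matrix.transpose_sub, Matrix.transpose_one, Matrix.sub_mul, Matrix.one_mul,
        Matrix.mul_sub, Matrix.mul_one, hA]
      abel
    have hcomm : Commute ((A - 1)ᵀ ^ k) Aᵀ := by
      apply Commute.pow_left
      rw [Matrix.transpose_sub, Matrix.transpose_one]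
      exact (Commute.refl _).sub_left (Commute.one_left _)
    refine ⟨-(Aᵀ * C), ?_⟩
    calc (A - 1)ᵀ ^ (k + 1) * Matrix.J (Fin m) F
        = (A - 1)ᵀ ^ k * ((A - 1)ᵀ * Matrix.J (Fin m) F) := by rw [pow_succ, Matrix.mul_assoc]
      _ = -((A - 1)ᵀ ^ k * Aᵀ * Matrix.J (Fin m) F * (A - 1)) := by
          rw [h1, Matrix.mul_neg, Matrix.mul_assoc, Matrix.mul_assoc, Matrix.mul_assoc]
      _ = -(Aᵀ * ((A - 1)ᵀ ^ k * Matrix.J (Fin m) F) * (A - 1)) := by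
          rw [hcomm.eq, Matrix.mul_assoc Aᵀ]
      _ = -(Aᵀ * C) * (A - 1) ^ (k + 1) := by
          rw [hC, pow_succ, Matrix.neg_mul, Matrix.mul_assoc, Matrix.mul_assoc, Matrix.mul_assoc]

theorem result {F : Type*} [Field F] [Finite F] {m : ℕ} (u : Matrix.symplecticGroup (Fin m) F) (hnil : ((u : Matrix (Fin m ⊕ Fin m) (Fin m ⊕ Fin m) F) - 1) ^ (2 * m) = 0) (hreg : ((u : Matrix (Fin m ⊕ Fin m) (Fin m ⊕ Fin m) F) - 1).rank = 2 * m - 1) (W : Submodule F (Fin m ⊕ Fin m → F)) (hW : ∀ v ∈ W, (u : Matrix (Fin m ⊕ Fin m) (Fin m ⊕ Fin m) F).mulVec v ∈ W) (hdim : 2 * Module.finrank F W ≤ 2 * m) : ∀ v ∈ W, ∀ w ∈ W, Cfsg.sympForm m F v w = 0 := by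
  classical
  set A : Matrix (Fin m ⊕ Fin m) (Fin m ⊕ Fin m) F := (u : Matrix (Fin m ⊕ Fin m) (Fin m ⊕ Fin m) F) with hAdef
  have hA : Aᵀ * Matrix.J (Fin m) F * A = Matrix.J (Fin m) F := SymplecticGroup.mem_iff'.1 u.2
  have hcard : Fintype.card (Fin m ⊕ Fin m) = 2 * m := by
    rw [Fintype.card_sum, Fintype.card_fin, two_mul]
  have hfr : Module.finrank F (Fin m ⊕ Fin m → F) = 2 * m := by
    rw [Module.finrank_fintype_fun_eq_card, hcard]
  have hk : Module.finrank F (LinearMap.ker (Matrix.mulVecLin (A - 1))) ≤ 1 := by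
    apply Cfsg.Agent.S2573.finrank_ker_le_one (A - 1)
    rw [hreg, hcard]
  have hpow0 : (Matrix.mulVecLin (A - 1)) ^ (2 * m) = 0 := by
    rw [← Cfsg.Agent.S2573.mulVecLin_pow', hnil]
    exact Matrix.mulVecLin_zero
  have hnil' : IsNilpotent (Matrix.mulVecLin (A - 1)) := ⟨2 * m, hpow0⟩
  have hW' : ∀ v ∈ W, (Matrix.mulVecLin (A - 1)) v ∈ W := by
    intro v hv
    rw [Matrix.mulVecLin_apply, Matrix.sub_mulVec, Matrix.one_mulVec]
    exact W.sub_mem (hW v hv) hv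
  have key := eq_ker_pow_of_invariant (K := F) (V := Fin m ⊕ Fin m → F) (Matrix.mulVecLin (A - 1)) hnil' hk W hW'
  have hle := ker_pow_le_range_pow (K := F) (V := Fin m ⊕ Fin m → F) (Matrix.mulVecLin (A - 1))
    (by rw [hfr]; exact hpow0) hk (Module.finrank F W) (by rw [hfr]; exact hdim)
  set d := Module.finrank F W with hd
  obtain ⟨C, hC⟩ := transpose_pow_mul_J A hA d
  intro v hv w hw
  have hv' : v ∈ LinearMap.ker ((Matrix.mulVecLin (A - 1)) ^ d) := by rw [← key]; exact hv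
  have hw' : w ∈ LinearMap.ker ((Matrix.mulVecLin (A - 1)) ^ d) := by rw [← key]; exact hw
  obtain ⟨x, hx⟩ := hle hv'
  rw [← Cfsg.Agent.S2573.mulVecLin_pow'] at hx hw'
  rw [LinearMap.mem_ker, Matrix.mulVecLin_apply] at hw'
  rw [Matrix.mulVecLin_apply] at hx
  unfold Cfsg.sympForm
  rw [← hx, ← Matrix.vecMul_transpose, ← Matrix.dotProduct_mulVec, Matrix.mulVec_mulVec,
    Matrix.transpose_pow, hC, ← Matrix.mulVec_mulVec, hw', Matrix.mulVec_zero, dotProduct_zero]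

end Cfsg.Agent.S2574
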