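import Mathlib
import Cfsg.Statements.S2575
import Cfsg.Agent.Lib.Helper5.NegOnePow

set_option autoImplicit false
open Cfsg

namespace Cfsg.Agent.S2575

open Cfsg.Agent.Lib.Helper5

theorem result {F : Type*} [Field F] [Fintype F] {q : ℕ} (hF : Fintype.card F = q) (hq : Odd q) {n : ℕ} (hn : 1 ≤ n) (i : ℕ) (hi : i ≤ n) : (∃ c : F, c ≠ 0 ∧ (c • Matrix.diagonal (fun j : Fin n => if (j : ℕ) < i then (-1 : F) else 1)).det = 1) ↔ (Even i ∨ padicValNat 2 n < padicValNat 2 (q - 1)) := by
  subst hF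
  have hdet : ∀ c : F, (c • Matrix.diagonal (fun j : Fin n => if (j : ℕ) < i then (-1 : F) else 1)).det = c ^ n * (-1) ^ i := by
    intro c
    rw [Matrix.det_smul, Matrix.det_diagonal, Fintype.card_fin, prod_diag_neg_one i hi]
  simp only [hdet]
  have hn0 : n ≠ 0 := by omega
  constructor
  · rintro ⟨c, hc0, hc⟩
    by_cases hev : Even i
    · exact Or.inl hev
    · right
      rw [Nat.not_even_iff_odd] at hev
      rw [hev.neg_one_pow] at hc
      apply (exists_pow_eq_neg_one_iff hq hn0).mp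
      refine ⟨c, hc0, ?_⟩
      have : c ^ n = -(c ^ n * -1) := by ring
      rw [this, hc]
  · rintro (hev | hlt)
    · exact ⟨1, one_ne_zero, by rw [one_pow, hev.neg_one_pow, one_mul]⟩
    · by_cases hev : Even i
      · exact ⟨1, one_ne_zero, by rw [one_pow, hev.neg_one_pow, one_mul]⟩
      · rw [Nat.not_even_iff_odd] at hev
        obtain ⟨c, hc0, hc⟩ := (exists_pow_eq_neg_one_iff hq hn0).mpr hlt
        exact ⟨c, hc0, by rw [hc, hev.neg_one_pow]; ring⟩

end Cfsg.Agent.S2575
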