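import Mathlib
import Cfsg.Statements.S2576
import Cfsg.Agent.Lib.Helper5.NegOnePow

set_option autoImplicit false
open Cfsg

namespace Cfsg.Agent.S2576

open Cfsg.Agent.Lib.Helper5

theorem result {F : Type*} [Field F] [Fintype F] {q : ℕ} (hF : Fintype.card F = q) (hq : Odd q) {m : ℕ} (hm : 1 ≤ m) (μ : F) (hμ : orderOf μ = 2 ^ padicValNat 2 (q - 1)) : (∃ c : F, c ≠ 0 ∧ (c • Matrix.blockDiagonal (fun _ : Fin m => !![(0 : F), 1; μ, 0])).det = 1) ↔ (q % 4 = 3 ∨ padicValNat 2 (q - 1) < padicValNat 2 (2 * m)) := by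
  subst hF
  have h1 : 1 < Fintype.card F := Fintype.one_lt_card
  have hne : Fintype.card F - 1 ≠ 0 := by omega
  have hneg := ff_neg_one_ne_one hq
  have hm0 : m ≠ 0 := by omega
  obtain ⟨r, hr_odd, hr⟩ := two_adic_decomp _ hne
  obtain ⟨s, hs_odd, hs⟩ := two_adic_decomp m hm0
  have hv2m : padicValNat 2 (2 * m) = 1 + padicValNat 2 m := by
    rw [padicValNat.mul (by norm_num) hm0, padicValNat_self]
  rw [hv2m]
  obtain ⟨a, ha⟩ : ∃ a, a = padicValNat 2 (Fintype.card F - 1) := ⟨_, rfl⟩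
  obtain ⟨b, hb⟩ : ∃ b, b = padicValNat 2 m := ⟨_, rfl⟩
  rw [← ha] at hr hμ ⊢
  rw [← hb] at hs ⊢
  have hdet : ∀ c : F, (c • Matrix.blockDiagonal (fun _ : Fin m => !![(0 : F), 1; μ, 0])).det = c ^ (2 * m) * (-μ) ^ m := by
    intro c
    rw [Matrix.det_smul, Matrix.det_blockDiagonal]
    simp [Matrix.det_fin_two_of]
  simp only [hdet]
  have ha1 : 1 ≤ a := by
    by_contra h0
    have : a = 0 := by omega
    rw [this, pow_zero, one_mul] at hr
    rcases hq with ⟨k, hk⟩; rcases hr_odd with ⟨l, hl⟩; omega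
  obtain ⟨a', rfl⟩ : ∃ a', a = a' + 1 := ⟨a - 1, by omega⟩
  have hμneg : μ ^ (2 ^ a') = -1 := by
    have h2 : μ ^ (2 ^ a') * μ ^ (2 ^ a') = 1 := by
      rw [← pow_add, ← two_mul, ← pow_succ', ← hμ, pow_orderOf_eq_one]
    rcases mul_self_eq_one_iff.mp h2 with h | h
    · exfalso
      refine pow_ne_one_of_lt_orderOf (x := μ) (n := 2 ^ a') (by positivity) ?_ h
      rw [hμ]; exact Nat.pow_lt_pow_right (by norm_num) (by omega)
    · exact h
  rcases Nat.eq_zero_or_pos a' with rfl | hpos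
  · have hμ1 : μ = -1 := by simpa using hμneg
    have hq3 : Fintype.card F % 4 = 3 := by
      rw [zero_add, pow_one] at hr
      rcases hr_odd with ⟨l, hl⟩; omega
    constructor
    · intro _; exact Or.inl hq3
    · intro _; exact ⟨1, one_ne_zero, by rw [hμ1]; simp⟩
  · obtain ⟨a'', rfl⟩ : ∃ a'', a' = a'' + 1 := ⟨a' - 1, by omega⟩
    have hq1 : Fintype.card F % 4 = 1 := by
      have : Fintype.card F - 1 = 4 * (2 ^ a'' * r) := by rw [hr, pow_succ, pow_succ]; ring
      omega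
    have hev : Even (2 ^ (a'' + 1)) := Nat.even_pow.mpr ⟨even_two, by omega⟩
    constructor
    · rintro ⟨c, hc0, hc⟩
      right
      by_contra hlt
      rw [not_lt] at hlt
      have hble : b ≤ a'' + 1 := by omega
      have hc' : (c ^ (2 * m) * (-μ) ^ m) ^ (r * 2 ^ (a'' + 1 - b)) = 1 := by rw [hc, one_pow]
      have h3 : 2 ^ (a'' + 1) = 2 ^ (a'' + 1 - b) * 2 ^ b := by
        rw [← pow_add]; congr 1; omega
      have e1 : 2 * m * (r * 2 ^ (a'' + 1 - b)) = (Fintype.card F - 1) * s := by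
        rw [hr, pow_succ _ (a'' + 1), h3]
        rw [hs]; ring
      have e2 : m * (r * 2 ^ (a'' + 1 - b)) = 2 ^ (a'' + 1) * (s * r) := by
        rw [h3]
        rw [hs]; ring
      rw [mul_pow, ← pow_mul, ← pow_mul, e1, e2, pow_mul c, FiniteField.pow_card_sub_one_eq_one c hc0,
        one_pow, one_mul, pow_mul, neg_pow, hμneg, hev.neg_one_pow, one_mul,
        (hs_odd.mul hr_odd).neg_one_pow] at hc'
      exact hneg hc'
    · rintro (h | h)
      · omega
      · have hdvd : 2 ^ (a'' + 1 + 1) ∣ m := by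
          rw [hs]
          exact Dvd.dvd.mul_right (pow_dvd_pow 2 (by omega)) s
        have hμm : μ ^ m = 1 := by
          rw [← orderOf_dvd_iff_pow_eq_one, hμ]; exact hdvd
        have hme : Even m := by
          have : 2 ∣ m := Dvd.dvd.trans (dvd_pow_self 2 (by omega)) hdvd
          exact even_iff_two_dvd.mpr this
        exact ⟨1, one_ne_zero, by rw [one_pow, one_mul, neg_pow, hμm, hme.neg_one_pow, one_mul]⟩

end Cfsg.Agent.S2576
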