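import Mathlib
import Cfsg.Statements.S2585
import Cfsg.Agent.S0304

set_option autoImplicit false
open Cfsg

namespace Cfsg.Agent.S2585

open Cfsg.Agent.S0304

section
variable {F : Type*} [Field F] [Fintype F] [CharP F 2] (m : ℕ)

theorem exists_lam (S : Matrix (Fin m ⊕ Fin m) (Fin m ⊕ Fin m) F)
    (hS : S ∈ Matrix.symplecticGroup (Fin m) F) :
    ∃ lam : Fin m ⊕ Fin m → F, ∀ x, Cfsg.quadFormPlus m F x + Cfsg.quadFormPlus m F (S.mulVec x)
      = (∑ t, lam t * x t) ^ 2 := by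
  classical
  haveI : Fact (Nat.Prime 2) := ⟨Nat.prime_two⟩
  have hSB := (mem_symplectic_iff_Bp m S).1 hS
  let D : (Fin m ⊕ Fin m → F) →+ F := AddMonoidHom.mk'
    (fun x => Cfsg.quadFormPlus m F x + Cfsg.quadFormPlus m F (S.mulVec x)) (by
      intro x y
      rw [Qp_add, Matrix.mulVec_add, Qp_add, hSB]
      have h := CharTwo.add_self_eq_zero (Bp m x y)
      linear_combination h)
  have hDdef : ∀ x, D x = Cfsg.quadFormPlus m F x + Cfsg.quadFormPlus m F (S.mulVec x) :=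
    fun x => rfl
  have hDsmul : ∀ (c : F) x, D (c • x) = c ^ 2 * D x := by
    intro c x
    rw [hDdef, hDdef, Matrix.mulVec_smul, Qp_smul, Qp_smul]; ring
  have hsq : ∀ a : F, ∃ b, b ^ 2 = a := by
    intro a
    obtain ⟨b, hb⟩ := FiniteField.isSquare_of_char_two (ringChar.eq F 2) a
    exact ⟨b, by rw [hb, sq]⟩
  choose lam hlam using fun t => hsq (D (Pi.single t 1))
  refine ⟨lam, ?_⟩
  intro x
  rw [← hDdef]
  have hx : ∑ t, x t • (Pi.single t (1:F) : Fin m ⊕ Fin m → F) = x := by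
    conv_rhs => rw [← Finset.univ_sum_single x]
    apply Finset.sum_congr rfl
    intro t _
    ext s
    simp [Pi.single_apply]
  conv_lhs => rw [← hx]
  rw [map_sum, sum_pow_char 2]
  apply Finset.sum_congr rfl
  intro t _
  rw [hDsmul, mul_pow, hlam]; ring

end

theorem result {F : Type*} [Field F] [Fintype F] [CharP F 2] {m : ℕ} (A : Matrix.symplecticGroup (Fin m) F) : ∃ Q : QuadraticForm F (Fin m ⊕ Fin m → F), (∀ u v : Fin m ⊕ Fin m → F, QuadraticMap.polar ⇑Q u v = Cfsg.sympForm m F u v) ∧ ∀ v : Fin m ⊕ Fin m → F, Q ((A : Matrix (Fin m ⊕ Fin m) (Fin m ⊕ Fin m) F).mulVec v) = Q v := by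
  classical
  obtain ⟨S, hS⟩ := A
  obtain ⟨lam, hlam⟩ := exists_lam m S hS
  let ℓ : (Fin m ⊕ Fin m → F) →ₗ[F] F := ∑ t, lam t • LinearMap.proj t
  have hℓ : ∀ x, ℓ x = ∑ t, lam t * x t := by
    intro x
    simp [ℓ, LinearMap.sum_apply]
  let f : (Fin m ⊕ Fin m → F) →ₗ[F] (Fin m ⊕ Fin m → F) := Matrix.toLin' S - LinearMap.id
  have hf : ∀ x, f x = S.mulVec x - x := by
    intro x
    simp [f]
  have hker : ℓ ∈ (LinearMap.ker f).dualAnnihilator := by
    rw [Submodule.mem_dualAnnihilator]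
    intro x hx
    rw [LinearMap.mem_ker, hf, sub_eq_zero] at hx
    have h := hlam x
    rw [hx, CharTwo.add_self_eq_zero, ← hℓ] at h
    exact (pow_eq_zero_iff two_ne_zero).1 h.symm
  rw [← LinearMap.range_dualMap_eq_dualAnnihilator_ker] at hker
  obtain ⟨c, hc⟩ := hker
  have hc' : ∀ x, c (S.mulVec x) = c x + ℓ x := by
    intro x
    have h := LinearMap.congr_fun hc x
    rw [LinearMap.dualMap_apply, hf, map_sub] at h
    rw [← h]; ring
  let Q : QuadraticForm F (Fin m ⊕ Fin m → F) :=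
    (∑ i : Fin m, QuadraticMap.linMulLin (LinearMap.proj (Sum.inl i)) (LinearMap.proj (Sum.inr i)))
      + QuadraticMap.linMulLin c c
  have hQ : ∀ x, Q x = Cfsg.quadFormPlus m F x + c x ^ 2 := by
    intro x
    simp [Q, Cfsg.quadFormPlus, QuadraticMap.sum_apply, sq]
  refine ⟨Q, ?_, ?_⟩
  · intro u v
    unfold QuadraticMap.polar
    rw [hQ, hQ, hQ, Qp_add, map_add, CharTwo.add_sq]
    show _ = dotProduct u ((Matrix.J (Fin m) F).mulVec v)
    rw [← Bp_J]; ring
  · intro v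
    show Q (S.mulVec v) = Q v
    rw [hQ, hQ, hc', CharTwo.add_sq, hℓ, ← hlam]
    have h := CharTwo.add_self_eq_zero (Cfsg.quadFormPlus m F (S.mulVec v))
    linear_combination h

end Cfsg.Agent.S2585
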