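import Cfsg.Statements.S2594
import Mathlib
import Cfsg.Agent.Lib.Helper2.SpPerfect
import Cfsg.Agent.Lib.Helper2.HermField
import Cfsg.Agent.Lib.Helper1.SympTrans
import Cfsg.Agent.S0839
import Cfsg.Agent.S0245

set_option autoImplicit false
open Cfsg

namespace Cfsg.Agent.S2594

open Matrix Cfsg.Agent.Lib.Helper2 Cfsg.Agent.Lib.Helper2.SpPerf Cfsg.Agent.Lib.Helper1

section
variable {F : Type*} [Field F] (m : ℕ)

theorem vecMulVec_mulVec' {ι : Type*} [Fintype ι] (a b x : ι → F) :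
    Matrix.vecMulVec a b *ᵥ x = (b ⬝ᵥ x) • a := by
  ext i
  simp only [Matrix.mulVec, dotProduct, Matrix.vecMulVec_apply, Pi.smul_apply, smul_eq_mul,
    Finset.sum_mul]
  apply Finset.sum_congr rfl
  intro j _
  ring

/-- an element of the symplectic group with `t - 1` of rank one is a transvection -/
theorem exists_tv_of_rank_one (t : Matrix.symplecticGroup (Fin m) F)
    (ht : ((t : Matrix (Fin m ⊕ Fin m) (Fin m ⊕ Fin m) F) - 1).rank = 1) :
    ∃ (a : Fin m ⊕ Fin m → F) (c : F), a ≠ 0 ∧ c ≠ 0 ∧ t = tv m a c := by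
  obtain ⟨a, b, hab⟩ := Cfsg.Agent.S0839.rank_one_decomp _ ht
  have ha : a ≠ 0 := by
    rintro rfl
    have h0 : Matrix.vecMulVec (0 : Fin m ⊕ Fin m → F) b = 0 := by
      ext i j; simp [Matrix.vecMulVec_apply]
    rw [hab, h0, Matrix.rank_zero] at ht
    exact zero_ne_one ht
  have ht1 : (t : Matrix (Fin m ⊕ Fin m) (Fin m ⊕ Fin m) F) = 1 + Matrix.vecMulVec a b := by
    rw [← hab]; abel
  have hact : ∀ x : Fin m ⊕ Fin m → F, t.1 *ᵥ x = x + (b ⬝ᵥ x) • a := by
    intro x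
    rw [ht1, Matrix.add_mulVec, Matrix.one_mulVec, vecMulVec_mulVec']
  have hinv : ∀ x y : Fin m ⊕ Fin m → F,
      (b ⬝ᵥ y) * Cfsg.sympForm m F x a = (b ⬝ᵥ x) * Cfsg.sympForm m F y a := by
    intro x y
    have h := sympForm_mulVec_mulVec m t.1 t.2 x y
    rw [hact, hact] at h
    simp only [sympForm_add_left, sympForm_add_right, sympForm_smul_left, sympForm_smul_right,
      sympForm_self] at h
    have h2 := sympForm_swap m a y
    rw [h2] at h
    linear_combination h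
  obtain ⟨y0, hy0⟩ := exists_sympForm_ne_zero m a ha
  have hy0' : Cfsg.sympForm m F y0 a ≠ 0 := sympForm_ne_zero_swap m hy0
  obtain ⟨c, hc⟩ : ∃ c : F, c = (b ⬝ᵥ y0) / Cfsg.sympForm m F y0 a := ⟨_, rfl⟩
  have hbx : ∀ x : Fin m ⊕ Fin m → F, b ⬝ᵥ x = c * Cfsg.sympForm m F x a := by
    intro x
    have h := hinv x y0
    rw [hc]
    field_simp
    linear_combination -h
  have htv : t = tv m a c := by
    apply sp_ext
    intro x
    rw [hact, tv_mulVec, hbx]
  refine ⟨a, c, ha, ?_, htv⟩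
  rintro rfl
  rw [tv_zero_right] at htv
  rw [htv] at ht
  have h1 : ((1 : Matrix.symplecticGroup (Fin m) F) : Matrix (Fin m ⊕ Fin m) (Fin m ⊕ Fin m) F)
      - 1 = 0 := sub_self _
  rw [h1, Matrix.rank_zero] at ht
  exact zero_ne_one ht

/-- in characteristic two, transvections with parameter one determine their vector -/
theorem tv_one_inj (h2 : (2 : F) = 0) (v w : Fin m ⊕ Fin m → F) (hv : v ≠ 0)
    (h : tv m w (1 : F) = tv m v 1) : w = v := by
  obtain ⟨x1, hx1⟩ := exists_sympForm_ne_zero m v hv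
  have hx1' : Cfsg.sympForm m F x1 v ≠ 0 := sympForm_ne_zero_swap m hx1
  have h1 : (tv m w (1 : F)).1 *ᵥ x1 = (tv m v 1).1 *ᵥ x1 := by rw [h]
  rw [tv_mulVec, tv_mulVec, one_mul, one_mul] at h1
  have h3 : Cfsg.sympForm m F x1 w • w = Cfsg.sympForm m F x1 v • v := add_left_cancel h1
  obtain ⟨μ, hμ⟩ : ∃ μ : F, μ = Cfsg.sympForm m F x1 w := ⟨_, rfl⟩
  obtain ⟨ν, hν⟩ : ∃ ν : F, ν = Cfsg.sympForm m F x1 v := ⟨_, rfl⟩
  rw [← hμ, ← hν] at h3
  rw [← hν] at hx1'
  have hvw : v = (μ / ν) • w := by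
    rw [div_eq_inv_mul, ← smul_smul, h3, smul_smul, inv_mul_cancel₀ hx1', one_smul]
  have h4 : ν = (μ / ν) * μ := by
    have e : Cfsg.sympForm m F x1 v = (μ / ν) * Cfsg.sympForm m F x1 w := by
      conv_lhs => rw [hvw]
      rw [sympForm_smul_right]
    rw [← hν, ← hμ] at e
    exact e
  have h5 : (ν - μ) ^ 2 = 0 := by
    have h6 : ν * ν = μ * μ := by
      have := h4
      field_simp at this
      linear_combination this
    linear_combination h6 + (μ * μ - ν * μ) * h2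
  have h7 : ν = μ := sub_eq_zero.1 (pow_eq_zero_iff (two_ne_zero) |>.1 h5)
  rw [hvw, ← h7, div_self hx1', one_smul]

theorem mem_centralizer_tv_iff (h2 : (2 : F) = 0) (v : Fin m ⊕ Fin m → F) (hv : v ≠ 0)
    (g : Matrix.symplecticGroup (Fin m) F) :
    g ∈ Subgroup.centralizer ({tv m v (1 : F)} : Set (Matrix.symplecticGroup (Fin m) F)) ↔
      g ∈ MulAction.stabilizer (Matrix.symplecticGroup (Fin m) F) v := by
  rw [Subgroup.mem_centralizer_singleton_iff, MulAction.mem_stabilizer_iff, tv_conj]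
  constructor
  · intro h
    exact tv_one_inj m h2 v _ hv (mul_right_cancel h)
  · intro h
    have h' : g.1 *ᵥ v = v := h
    rw [h']

theorem orbit_eq (v : Fin m ⊕ Fin m → F) (hv : v ≠ 0) :
    MulAction.orbit (Matrix.symplecticGroup (Fin m) F) v = {w | w ≠ 0} := by
  ext w
  rw [MulAction.mem_orbit_iff, Set.mem_ofPred_eq]
  constructor
  · rintro ⟨g, rfl⟩
    exact (smul_ne_zero_iff_ne g).2 hv
  · intro hw
    obtain ⟨g, hg⟩ := Cfsg.Agent.S0271.result m v w hv hw
    exact ⟨g, hg⟩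

end
/-- Over a finite field with q elements, q even, an element t of Sp_2m(F) with rank(t − 1) = 1 (a symplectic transvection) has centraliser in Sp_2m(F) of order q^(2m−1) · |Sp_(2m−2)(q)| = q^(2m−1) · q^((m−1)²) · Π_(i=1)^(m−1) (q^(2i) − 1). -/
theorem result {F : Type*} [Field F] [Fintype F] [CharP F 2] {q : ℕ} (hF : Fintype.card F = q) {m : ℕ} (hm : 1 ≤ m) (t : Matrix.symplecticGroup (Fin m) F) (ht : ((t : Matrix (Fin m ⊕ Fin m) (Fin m ⊕ Fin m) F) - 1).rank = 1) : Nat.card ↥(Subgroup.centralizer ({t} : Set ↥(Matrix.symplecticGroup (Fin m) F))) = q ^ (2 * m - 1) * (q ^ ((m - 1) ^ 2) * ∏ i : Fin (m - 1), (q ^ (2 * ((i : ℕ) + 1)) - 1)) := by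
  classical
  subst hF
  obtain ⟨k, rfl⟩ : ∃ k, m = k + 1 := ⟨m - 1, by omega⟩
  have h2 : (2 : F) = 0 := by
    have := CharP.cast_eq_zero F 2
    exact_mod_cast this
  obtain ⟨a, c, ha, hc, rfl⟩ := exists_tv_of_rank_one (k + 1) t ht
  obtain ⟨r, hr⟩ := FiniteField.isSquare_of_char_two (ringChar.eq F 2) c
  have hr0 : r ≠ 0 := by
    rintro rfl
    rw [mul_zero] at hr
    exact hc hr
  have htv : tv (k + 1) a c = tv (k + 1) (r • a) 1 := by
    rw [tv_smul, mul_one, hr, sq]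
  have hv : r • a ≠ 0 := smul_ne_zero hr0 ha
  rw [htv]
  have hcard : Nat.card (Subgroup.centralizer ({tv (k + 1) (r • a) (1 : F)} :
      Set (Matrix.symplecticGroup (Fin (k + 1)) F))) =
      Nat.card (MulAction.stabilizer (Matrix.symplecticGroup (Fin (k + 1)) F) (r • a)) :=
    Nat.card_congr (Equiv.subtypeEquivRight (mem_centralizer_tv_iff (k + 1) h2 _ hv))
  rw [hcard]
  have h1 := Subgroup.card_eq_card_quotient_mul_card_subgroup
    (MulAction.stabilizer (Matrix.symplecticGroup (Fin (k + 1)) F) (r • a))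
  rw [← Nat.card_congr (MulAction.orbitEquivQuotientStabilizer
    (Matrix.symplecticGroup (Fin (k + 1)) F) (r • a)), orbit_eq (k + 1) _ hv,
    Cfsg.Agent.S0245.result rfl (k + 1)] at h1
  have h3 : Nat.card ({w : Fin (k + 1) ⊕ Fin (k + 1) → F | w ≠ 0} : Set _) =
      Fintype.card F ^ (2 * (k + 1)) - 1 := by
    show Nat.card {w : Fin (k + 1) ⊕ Fin (k + 1) → F // w ≠ 0} = _
    rw [Cfsg.Agent.Lib.Helper2.Herm.card_ne, Nat.card_eq_fintype_card, Fintype.card_fun,
      Fintype.card_sum, Fintype.card_fin, two_mul]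
  rw [h3, Finset.prod_range_succ] at h1
  rw [Fin.prod_univ_eq_prod_range (fun i => Fintype.card F ^ (2 * (i + 1)) - 1) (k + 1 - 1),
    Nat.add_sub_cancel]
  have hq : 1 < Fintype.card F := Fintype.one_lt_card
  have hpos : 0 < Fintype.card F ^ (2 * (k + 1)) - 1 := by
    have : 1 < Fintype.card F ^ (2 * (k + 1)) := Nat.one_lt_pow (by omega) hq
    omega
  have h4 : (Fintype.card F ^ (2 * (k + 1)) - 1) *
      Nat.card (MulAction.stabilizer (Matrix.symplecticGroup (Fin (k + 1)) F) (r • a)) =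
      (Fintype.card F ^ (2 * (k + 1)) - 1) * (Fintype.card F ^ (2 * (k + 1) - 1) *
      (Fintype.card F ^ k ^ 2 * ∏ i ∈ Finset.range k, (Fintype.card F ^ (2 * (i + 1)) - 1))) := by
    rw [← h1]
    have e1 : 2 * (k + 1) - 1 = 2 * k + 1 := by omega
    rw [e1]
    ring
  exact Nat.eq_of_mul_eq_mul_left hpos h4

end Cfsg.Agent.S2594
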