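import Mathlib
import Cfsg.Statements.S2599

set_option autoImplicit false
open Cfsg

namespace Cfsg.Agent.S2599

theorem result {F : Type*} [Field F] [Fintype F] {p : ℕ} [Fact p.Prime] [CharP F p] {n : ℕ} (Q : QuadraticForm F (Fin n → F)) (hQ : (QuadraticMap.polarBilin Q).Nondegenerate) (x : ↥(Cfsg.isometryGroup F ⇑Q)) (hx : (orderOf x).Coprime p) (U : Submodule F (Fin n → F)) (hU0 : U ≠ ⊥) (hUx : ∀ u ∈ U, ((x : Matrix.GeneralLinearGroup (Fin n) F) : Matrix (Fin n) (Fin n) F).mulVec u ∈ U) (hirr : ∀ W : Submodule F (Fin n → F), W ≤ U → (∀ w ∈ W, ((x : Matrix.GeneralLinearGroup (Fin n) F) : Matrix (Fin n) (Fin n) F).mulVec w ∈ W) → W = ⊥ ∨ W = U) : U ⊓ LinearMap.BilinForm.orthogonal (QuadraticMap.polarBilin Q) U = ⊥ ∨ (∀ u ∈ U, Q u = 0) ∨ (p = 2 ∧ Module.finrank F U = 1 ∧ (∃ u ∈ U, Q u ≠ 0) ∧ ∀ u ∈ U, ((x : Matrix.GeneralLinearGroup (Fin n) F) : Matrix (Fin n) (Fin n) F).mulVec u = u) := by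
  classical
  set X : Matrix (Fin n) (Fin n) F :=
    ((x : Matrix.GeneralLinearGroup (Fin n) F) : Matrix (Fin n) (Fin n) F) with hX
  have hXQ : ∀ u, Q (X.mulVec u) = Q u := by
    intro u
    have := x.2 u u
    simpa using this
  have hXpolar : ∀ u v, QuadraticMap.polar Q (X.mulVec u) (X.mulVec v) = QuadraticMap.polar Q u v := by
    intro u v
    unfold QuadraticMap.polar
    rw [← Matrix.mulVec_add, hXQ, hXQ, hXQ]
  -- X maps U onto U
  have hXinj : Function.Injective (fun u : Fin n → F => X.mulVec u) := by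
    intro u v huv
    have h1 : ((x⁻¹ : ↥(Cfsg.isometryGroup F ⇑Q)) : Matrix.GeneralLinearGroup (Fin n) F).1 * X = 1 := by
      rw [hX]
      have : ((x⁻¹ : ↥(Cfsg.isometryGroup F ⇑Q)) : Matrix.GeneralLinearGroup (Fin n) F)
          * (x : Matrix.GeneralLinearGroup (Fin n) F) = 1 := by
        rw [← Subgroup.coe_mul, inv_mul_cancel, Subgroup.coe_one]
      exact congrArg Units.val this
    have := congrArg (fun w => (((x⁻¹ : ↥(Cfsg.isometryGroup F ⇑Q)) :
      Matrix.GeneralLinearGroup (Fin n) F).1).mulVec w) huv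
    simp only [Matrix.mulVec_mulVec, h1, Matrix.one_mulVec] at this
    exact this
  have hsurj : ∀ w ∈ U, ∃ w' ∈ U, X.mulVec w' = w := by
    let φ : U →ₗ[F] U := (Matrix.mulVecLin X).restrict hUx
    have hφinj : Function.Injective φ := by
      intro a b hab
      apply Subtype.ext
      apply hXinj
      exact congrArg Subtype.val hab
    have hφsurj := LinearMap.surjective_of_injective hφinj
    intro w hw
    obtain ⟨⟨w', hw'⟩, h⟩ := hφsurj ⟨w, hw⟩
    exact ⟨w', hw', congrArg Subtype.val h⟩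
  -- the radical
  have hR := hirr (U ⊓ LinearMap.BilinForm.orthogonal (QuadraticMap.polarBilin Q) U) inf_le_left (by
    intro w hw
    refine ⟨hUx w hw.1, ?_⟩
    apply LinearMap.BilinForm.mem_orthogonal_iff.2
    intro m hm
    obtain ⟨m', hm', rfl⟩ := hsurj m hm
    show QuadraticMap.polar Q (X.mulVec m') (X.mulVec w) = 0
    rw [hXpolar]
    exact (LinearMap.BilinForm.mem_orthogonal_iff.1 hw.2) m' hm')
  rcases hR with hR | hR
  · exact Or.inl hR
  right
  have hperp : ∀ u ∈ U, ∀ v ∈ U, QuadraticMap.polar Q u v = 0 := by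
    intro u hu v hv
    have : v ∈ U ⊓ LinearMap.BilinForm.orthogonal (QuadraticMap.polarBilin Q) U := by rw [hR]; exact hv
    exact (LinearMap.BilinForm.mem_orthogonal_iff.1 this.2) u hu
  by_cases hp2 : p = 2
  · subst hp2
    have hchar : ringChar F = 2 := ringChar.eq F 2
    have hneg : ∀ v : Fin n → F, -v = v := by
      intro v
      funext i
      simp [CharTwo.neg_eq]
    -- the singular vectors of U
    let U₀ : Submodule F (Fin n → F) :=
      { carrier := {u | u ∈ U ∧ Q u = 0}
        add_mem' := by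
          rintro a b ⟨ha, ha0⟩ ⟨hb, hb0⟩
          refine ⟨U.add_mem ha hb, ?_⟩
          rw [QuadraticMap.map_add (⇑Q) a b, ha0, hb0, hperp a ha b hb]
          simp
        zero_mem' := ⟨U.zero_mem, by simp⟩
        smul_mem' := by
          rintro a u ⟨hu, hu0⟩
          refine ⟨U.smul_mem a hu, ?_⟩
          rw [QuadraticMap.map_smul, hu0]
          simp }
    have hU₀ := hirr U₀ (fun u hu => hu.1) (by
      rintro w ⟨hw, hw0⟩
      exact ⟨hUx w hw, by rw [hXQ]; exact hw0⟩)
    rcases hU₀ with hU₀ | hU₀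
    · right
      have hzero : ∀ u ∈ U, Q u = 0 → u = 0 := by
        intro u hu hu0
        have : u ∈ U₀ := ⟨hu, hu0⟩
        rw [hU₀] at this
        exact this
      obtain ⟨u, huU, hu0⟩ := (Submodule.ne_bot_iff U).1 hU0
      have hQu : Q u ≠ 0 := fun h => hu0 (hzero u huU h)
      refine ⟨rfl, ?_, ⟨u, huU, hQu⟩, ?_⟩
      · rw [finrank_eq_one_iff_of_nonzero' (⟨u, huU⟩ : U) (fun h => hu0 (congrArg Subtype.val h))]
        rintro ⟨w, hw⟩
        obtain ⟨a, ha⟩ := FiniteField.isSquare_of_char_two hchar (Q w / Q u)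
        refine ⟨a, ?_⟩
        apply Subtype.ext
        show a • u = w
        have h0 : Q (a • u + w) = 0 := by
          rw [QuadraticMap.map_add (⇑Q) (a • u) w, QuadraticMap.map_smul, QuadraticMap.polar_smul_left,
            hperp u huU w hw, smul_zero, add_zero, smul_eq_mul, ← ha, div_mul_cancel₀ _ hQu]
          exact CharTwo.add_self_eq_zero _
        have := hzero _ (U.add_mem (U.smul_mem a huU) hw) h0
        have h1 : a • u = -w := eq_neg_of_add_eq_zero_left this
        rw [h1, hneg]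
      · intro w hw
        have h0 : Q (X.mulVec w + w) = 0 := by
          rw [QuadraticMap.map_add (⇑Q) (X.mulVec w) w, hXQ, hperp _ (hUx w hw) w hw]
          simp only [add_zero]
          exact CharTwo.add_self_eq_zero _
        have := hzero _ (U.add_mem (hUx w hw) hw) h0
        have h1 : X.mulVec w = -w := eq_neg_of_add_eq_zero_left this
        rw [h1, hneg]
    · left
      intro u hu
      have : u ∈ U₀ := by rw [hU₀]; exact hu
      exact this.2
  · left
    intro u hu
    have h2 : (2 : F) ≠ 0 := by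
      apply Ring.two_ne_zero
      rw [ringChar.eq F p]
      exact hp2
    have := hperp u hu u hu
    rw [QuadraticMap.polar_self] at this
    simp only [nsmul_eq_mul, Nat.cast_ofNat] at this
    exact (mul_eq_zero.1 this).resolve_left h2

end Cfsg.Agent.S2599
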