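import Mathlib
import Cfsg.Statements.S2618
import Cfsg.Agent.Lib.Helper5.QF

set_option autoImplicit false
open Cfsg

namespace Cfsg.Agent.S2618

open Cfsg.Agent.Lib.Helper5 QuadraticMap

theorem result {F V : Type*} [Field F] [Finite F] [AddCommGroup V] [Module F V] [FiniteDimensional F V] {m : ℕ} (hV : Module.finrank F V = 2 * m + 1) (Q : QuadraticForm F V) (hQ : (QuadraticMap.polarBilin Q).Nondegenerate) : ∃ b : Module.Basis (Unit ⊕ (Fin m ⊕ Fin m)) F V, Q (b (Sum.inl ())) ≠ 0 ∧ (∀ i, QuadraticMap.polar ⇑Q (b (Sum.inl ())) (b (Sum.inr (Sum.inl i))) = 0 ∧ QuadraticMap.polar ⇑Q (b (Sum.inl ())) (b (Sum.inr (Sum.inr i))) = 0) ∧ (∀ i, Q (b (Sum.inr (Sum.inl i))) = 0 ∧ Q (b (Sum.inr (Sum.inr i))) = 0) ∧ (∀ i j, QuadraticMap.polar ⇑Q (b (Sum.inr (Sum.inl i))) (b (Sum.inr (Sum.inr j))) = if i = j then 1 else 0) ∧ (∀ i j, QuadraticMap.polar ⇑Q (b (Sum.inr (Sum.inl i))) (b (Sum.inr (Sum.inl j))) = 0 ∧ QuadraticMap.polar ⇑Q (b (Sum.inr (Sum.inr i))) (b (Sum.inr (Sum.inr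 j))) = 0) := by
  classical
  obtain ⟨k, e, f, H, han⟩ := exists_maximal_hypFam hQ
  have hdim := finrank_perp H
  have hle := finrank_le_two_of_anisotropic Q (perp Q e f) han
  have hnd := perp_nondeg hQ H
  have h1 : Module.finrank F (perp Q e f) = 1 := by omega
  obtain rfl : m = k := by omega
  haveI : Nontrivial (perp Q e f) := Module.nontrivial_of_finrank_pos (R := F) (by omega)
  obtain ⟨⟨x, hxW⟩, hx0'⟩ := exists_ne (0 : perp Q e f)
  have hx0 : x ≠ 0 := fun h => hx0' (Subtype.ext h)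
  have hQx : Q x ≠ 0 := fun h => hx0 (han x hxW h)
  have hall := (finrank_eq_one_iff_of_nonzero' (⟨x, hxW⟩ : perp Q e f) hx0').1 h1
  have hxx : polar Q x x ≠ 0 := by
    intro h
    apply hx0
    apply hnd x hxW
    intro y hy
    obtain ⟨c, hc⟩ := hall ⟨y, hy⟩
    have hc' : y = c • x := by
      have := congrArg Subtype.val hc
      exact this.symm
    rw [hc', polar_smul_right, h, smul_zero]
  have hdual : ∀ i j : Unit ⊕ (Fin m ⊕ Fin m),
      polar Q (Sum.elim (fun _ => (polar Q x x)⁻¹ • x) (Sum.elim f e) j)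
        (Sum.elim (fun _ => x) (Sum.elim e f) i) = if i = j then 1 else 0 := by
    intro i j
    rcases i with a | a <;> rcases j with c | c
    · simp only [Sum.elim_inl, if_true]
      rw [polar_smul_left, smul_eq_mul, inv_mul_cancel₀ hxx]
    · simp only [Sum.elim_inl, Sum.elim_inr, reduceCtorEq, if_false]
      rcases c with c | c
      · exact (hxW c).2
      · exact (hxW c).1
    · simp only [Sum.elim_inl, Sum.elim_inr, reduceCtorEq, if_false]
      rcases a with a | a
      · simp only [Sum.elim_inl]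
        rw [polar_smul_left, polar_comm Q x (e a), (hxW a).1, smul_zero]
      · simp only [Sum.elim_inr]
        rw [polar_smul_left, polar_comm Q x (f a), (hxW a).2, smul_zero]
    · simp only [Sum.elim_inr, Sum.inr.injEq]
      exact hyp_dual H a c
  obtain ⟨b, hb⟩ := exists_basis_of_dual Q (Sum.elim (fun _ => x) (Sum.elim e f))
    (Sum.elim (fun _ => (polar Q x x)⁻¹ • x) (Sum.elim f e)) hdual
    (by simp only [Fintype.card_sum, Fintype.card_fin, Fintype.card_unit]; omega)
  refine ⟨b, ?_, ?_, ?_, ?_, ?_⟩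
  · rw [hb]
    exact hQx
  · intro i
    rw [hb, hb, hb]
    refine ⟨?_, ?_⟩
    · show polar Q x (e i) = 0
      rw [polar_comm]; exact (hxW i).1
    · show polar Q x (f i) = 0
      rw [polar_comm]; exact (hxW i).2
  · intro i
    rw [hb, hb]
    exact ⟨H.e_sing i, H.f_sing i⟩
  · intro i j
    rw [hb, hb]
    exact H.ef i j
  · intro i j
    rw [hb, hb, hb, hb]
    exact ⟨H.ee i j, H.ff i j⟩

end Cfsg.Agent.S2618
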