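import Mathlib
import Cfsg.Statements.S2619
import Cfsg.Agent.Lib.Helper5.QF3

set_option autoImplicit false
open Cfsg

namespace Cfsg.Agent.S2619

theorem result {F V ι : Type*} [Field F] [Finite F] [CharP F 2] [AddCommGroup V] [Module F V] [Fintype ι] (b : Module.Basis ι F V) (B : LinearMap.BilinForm F V) (hB : B.IsAlt) (c : ι → F) : ∃! Q : QuadraticForm F V, QuadraticMap.polarBilin Q = B ∧ ∀ i, Q (b i) = c i := by
  classical
  let _lo : LinearOrder ι := IsWellOrder.linearOrder WellOrderingRel
  let B' : LinearMap.BilinMap F V F :=
    b.constr F fun i => b.constr F fun j =>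
      if i = j then c i else if i < j then B (b i) (b j) else 0
  have hB' : ∀ i j, B' (b i) (b j) = if i = j then c i else if i < j then B (b i) (b j) else 0 := by
    intro i j
    show (b.constr F (fun i => b.constr F fun j =>
      if i = j then c i else if i < j then B (b i) (b j) else 0) (b i)) (b j) = _
    rw [Module.Basis.constr_basis, Module.Basis.constr_basis]
  refine ⟨B'.toQuadraticMap, ⟨?_, ?_⟩, ?_⟩
  · rw [LinearMap.BilinMap.polarBilin_toQuadraticMap]
    apply b.ext
    intro i
    apply b.ext
    intro j
    rw [LinearMap.add_apply, LinearMap.add_apply, LinearMap.flip_apply, hB', hB']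
    rcases lt_trichotomy i j with h | h | h
    · rw [if_neg h.ne, if_pos h, if_neg h.ne', if_neg h.not_gt, add_zero]
    · subst h
      rw [if_pos rfl, hB.self_eq_zero]
      exact CharTwo.add_self_eq_zero _
    · rw [if_neg h.ne', if_neg h.not_gt, if_neg h.ne, if_pos h, zero_add, ← hB.neg_eq,
        CharTwo.neg_eq]
  · intro i
    rw [LinearMap.BilinMap.toQuadraticMap_apply, hB', if_pos rfl]
  · rintro Q' ⟨hQ'1, hQ'2⟩
    ext v
    have hpol : ∀ x y, QuadraticMap.polar (Q' - B'.toQuadraticMap) x y = 0 := by
      intro x y
      have h1 : QuadraticMap.polar Q' x y = B x y := by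
        rw [← hQ'1]; rfl
      have h2 : QuadraticMap.polar B'.toQuadraticMap x y = B x y := by
        have h3 : QuadraticMap.polarBilin B'.toQuadraticMap = B := by
          rw [LinearMap.BilinMap.polarBilin_toQuadraticMap]
          apply b.ext
          intro i
          apply b.ext
          intro j
          rw [LinearMap.add_apply, LinearMap.add_apply, LinearMap.flip_apply, hB', hB']
          rcases lt_trichotomy i j with h | h | h
          · rw [if_neg h.ne, if_pos h, if_neg h.ne', if_neg h.not_gt, add_zero]
          · subst h
            rw [if_pos rfl, hB.self_eq_zero]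
            exact CharTwo.add_self_eq_zero _
          · rw [if_neg h.ne', if_neg h.not_gt, if_neg h.ne, if_pos h, zero_add, ← hB.neg_eq,
              CharTwo.neg_eq]
        rw [← h3]; rfl
      have h4 : QuadraticMap.polar (⇑(Q' - B'.toQuadraticMap)) x y
          = QuadraticMap.polar Q' x y - QuadraticMap.polar B'.toQuadraticMap x y := by
        simp only [QuadraticMap.polar, sub_apply]
        ring
      rw [h4, h1, h2, sub_self]
    have hD := Cfsg.Agent.Lib.Helper5.Q_orth_sum (Q' - B'.toQuadraticMap) b
      (fun i j _ => hpol (b i) (b j)) (fun i => b.repr v i) Finset.univ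
    rw [b.sum_repr v] at hD
    have hz : ∀ i, (Q' - B'.toQuadraticMap) (b i) = 0 := by
      intro i
      rw [sub_apply, hQ'2, LinearMap.BilinMap.toQuadraticMap_apply, hB', if_pos rfl,
        sub_self]
    simp only [hz, mul_zero, Finset.sum_const_zero] at hD
    rw [sub_apply] at hD
    exact sub_eq_zero.1 hD

end Cfsg.Agent.S2619
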