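import Mathlib
import Cfsg.Statements.S2621
import Cfsg.Agent.Lib.Helper5.Disc
import Cfsg.Agent.S2620

set_option autoImplicit false
open Cfsg

namespace Cfsg.Agent.S2621

open Cfsg.Agent.Lib.Helper5

theorem polar_minus {F : Type*} [Field F] (k : ℕ) (a c : F)
    (u v : (Fin k ⊕ Fin k) ⊕ Fin 2 → F) :
    QuadraticMap.polar (Cfsg.quadFormMinus k F a c) u v
      = u ⬝ᵥ (Matrix.fromBlocks (Matrix.fromBlocks (0 : Matrix (Fin k) (Fin k) F)
        (1 : Matrix (Fin k) (Fin k) F) (1 : Matrix (Fin k) (Fin k) F) (0 : Matrix (Fin k) (Fin k) F))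
        (0 : Matrix (Fin k ⊕ Fin k) (Fin 2) F) (0 : Matrix (Fin 2) (Fin k ⊕ Fin k) F)
        (!![2, a; a, 2 * c] : Matrix (Fin 2) (Fin 2) F)).mulVec v := by
  rw [Matrix.fromBlocks_mulVec]
  simp only [Matrix.zero_mulVec, zero_add, add_zero]
  rw [dotProduct, Fintype.sum_sum_type]
  simp only [Sum.elim_inl, Sum.elim_inr]
  have h1 := Cfsg.Agent.S2620.polar_plus k (u ∘ Sum.inl) (v ∘ Sum.inl)
  rw [dotProduct] at h1
  simp only [Function.comp_apply] at h1
  rw [← h1]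
  unfold QuadraticMap.polar Cfsg.quadFormMinus Cfsg.quadFormPlus
  rw [Fin.sum_univ_two]
  simp only [Matrix.mulVec, dotProduct, Fin.sum_univ_two, Matrix.of_apply, Matrix.cons_val',
    Matrix.cons_val_zero, Matrix.cons_val_one, Matrix.cons_val_fin_one, Function.comp_apply,
    Pi.add_apply]
  ring

theorem aux {F : Type*} [Field F] [Fintype F] {q : ℕ} (hF : Fintype.card F = q) (hq : Odd q)
    (k : ℕ) (a c : F)
    (hac : ∀ z₁ z₂ : F, z₁ ^ 2 + a * z₁ * z₂ + c * z₂ ^ 2 = 0 → z₁ = 0 ∧ z₂ = 0)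
    {ι : Type*} [Fintype ι] [DecidableEq ι]
    (b : Module.Basis ι F ((Fin k ⊕ Fin k) ⊕ Fin 2 → F)) :
    IsSquare (Matrix.of (fun i j : ι =>
      QuadraticMap.polar (Cfsg.quadFormMinus k F a c) (b i) (b j))).det
      ↔ ¬ IsSquare ((-1 : F) ^ (k + 1)) := by
  classical
  obtain ⟨t, ht, hdet⟩ := det_gram_basis (Matrix.fromBlocks (Matrix.fromBlocks
    (0 : Matrix (Fin k) (Fin k) F) (1 : Matrix (Fin k) (Fin k) F) (1 : Matrix (Fin k) (Fin k) F)
    (0 : Matrix (Fin k) (Fin k) F)) (0 : Matrix (Fin k ⊕ Fin k) (Fin 2) F)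
    (0 : Matrix (Fin 2) (Fin k ⊕ Fin k) F) (!![2, a; a, 2 * c] : Matrix (Fin 2) (Fin 2) F)) b
  have hG : Matrix.of (fun i j : ι => QuadraticMap.polar (Cfsg.quadFormMinus k F a c) (b i) (b j))
      = Matrix.of (fun i j : ι => b i ⬝ᵥ (Matrix.fromBlocks (Matrix.fromBlocks
        (0 : Matrix (Fin k) (Fin k) F) (1 : Matrix (Fin k) (Fin k) F) (1 : Matrix (Fin k) (Fin k) F)
        (0 : Matrix (Fin k) (Fin k) F)) (0 : Matrix (Fin k ⊕ Fin k) (Fin 2) F)
        (0 : Matrix (Fin 2) (Fin k ⊕ Fin k) F)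
        (!![2, a; a, 2 * c] : Matrix (Fin 2) (Fin 2) F)).mulVec (b j)) := by
    ext i j
    rw [Matrix.of_apply, Matrix.of_apply, polar_minus]
  rw [hG, hdet, Matrix.det_fromBlocks_zero₂₁, det_hyp, Matrix.det_fin_two_of,
    isSquare_sq_mul_iff ht]
  -- now arithmetic
  have hodd : ringChar F ≠ 2 := by
    intro h2
    have := FiniteField.even_card_of_char_two h2
    rw [hF] at this
    exact (Nat.not_even_iff_odd.2 hq) (Nat.even_iff.2 this)
  have h2 : (2 : F) ≠ 0 := Ring.two_ne_zero hodd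
  set d : F := a * a - 4 * c with hd
  have hdns : ¬ IsSquare d := by
    rintro ⟨s, hs⟩
    have := hac ((s - a) / 2) 1 (by
      field_simp
      rw [hd] at hs
      linear_combination (-1 : F) * hs)
    exact one_ne_zero this.2
  have hd0 : d ≠ 0 := by
    intro h
    apply hdns
    rw [h]
    exact ⟨0, by simp⟩
  have hm1 : (-1 : F) ^ k * (2 * (2 * c) - a * a) = (-1) ^ (k + 1) * d := by
    rw [pow_succ, hd]
    ring
  rw [hm1]
  have hx0 : ((-1 : F) ^ (k + 1)) ≠ 0 := pow_ne_zero _ (neg_ne_zero.2 one_ne_zero)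
  rw [← quadraticChar_one_iff_isSquare (mul_ne_zero hx0 hd0), map_mul,
    quadraticChar_neg_one_iff_not_isSquare.2 hdns, ← quadraticChar_neg_one_iff_not_isSquare]
  constructor
  · intro h
    linarith
  · intro h
    rw [h]; norm_num

theorem result {F : Type*} [Field F] [Fintype F] {q : ℕ} (hF : Fintype.card F = q) (hq : Odd q) {m : ℕ} (hm : 1 ≤ m) (a c : F) (hac : ∀ z₁ z₂ : F, z₁ ^ 2 + a * z₁ * z₂ + c * z₂ ^ 2 = 0 → z₁ = 0 ∧ z₂ = 0) {ι : Type*} [Fintype ι] [DecidableEq ι] (b : Module.Basis ι F ((Fin (m - 1) ⊕ Fin (m - 1)) ⊕ Fin 2 → F)) : IsSquare (Matrix.of (fun i j : ι => QuadraticMap.polar (Cfsg.quadFormMinus (m - 1) F a c) (b i) (b j))).det ↔ ¬ Even (m * (q - 1) / 2) := by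
  classical
  rw [aux hF hq (m - 1) a c hac b, ← isSquare_neg_one_pow_iff hF hq m, Nat.sub_add_cancel hm]

end Cfsg.Agent.S2621
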