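import Mathlib
import Cfsg.Statements.S2622

set_option autoImplicit false
open Cfsg

namespace Cfsg.Agent.S2622



theorem exists_sqrt {F : Type*} [Field F] [Finite F] [CharP F 2] (a : F) : ∃ s : F, s * s = a := by
  have h2 : ringChar F = 2 := ringChar.eq F 2
  obtain ⟨s, hs⟩ := FiniteField.isSquare_of_char_two h2 a
  exact ⟨s, hs.symm⟩

theorem two_eq_zero' {F : Type*} [Field F] [CharP F 2] : (1 : F) + 1 = 0 := by
  have : ((2 : ℕ) : F) = 0 := CharP.cast_eq_zero F 2
  rw [← this]; norm_num

/-- the step: given a unit vector `v` whose orthogonal complement is non-alternating (or `n = 0`),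
and the induction hypothesis. -/
theorem step {F : Type*} [Field F] [Finite F] [CharP F 2] {V : Type*} [AddCommGroup V] [Module F V]
    [FiniteDimensional F V] (n : ℕ)
    (IH : ∀ (W : Submodule F V), Module.finrank F W = n →
      ∀ B : LinearMap.BilinForm F W, B.IsSymm → B.Nondegenerate → (∃ v, B v v ≠ 0) →
      ∃ b : Fin n → W, ∀ i j, B (b i) (b j) = if i = j then 1 else 0)
    (hV : Module.finrank F V = n + 1) (B : LinearMap.BilinForm F V) (hS : B.IsSymm) (hB : B.Nondegenerate)
    (v : V) (hv : B v v = 1)
    (hw : n = 0 ∨ ∃ w ∈ B.orthogonal (F ∙ v), B w w ≠ 0) :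
    ∃ b : Fin (n + 1) → V, ∀ i j, B (b i) (b j) = if i = j then 1 else 0 := by
  classical
  have hv0 : B v v ≠ 0 := by rw [hv]; exact one_ne_zero
  have hcompl := LinearMap.BilinForm.isCompl_span_singleton_orthogonal hv0
  have hnd := LinearMap.BilinForm.restrict_nondegenerate_orthogonal_spanSingleton B hB hS.isRefl hv0
  have hvne : v ≠ 0 := by
    rintro rfl
    simp at hv0
  have hdim : Module.finrank F (B.orthogonal (F ∙ v)) = n := by
    have h1 := Submodule.finrank_add_eq_of_isCompl hcompl
    rw [finrank_span_singleton hvne, hV] at h1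
    omega
  have hortho : ∀ w ∈ B.orthogonal (F ∙ v), B v w = 0 := by
    intro w hw
    exact (LinearMap.BilinForm.mem_orthogonal_iff.1 hw) v (Submodule.mem_span_singleton_self v)
  have hfam : ∃ b' : Fin n → B.orthogonal (F ∙ v),
      ∀ i j, B (b' i : V) (b' j : V) = if i = j then 1 else 0 := by
    rcases hw with h0 | ⟨w, hwW, hww⟩
    · subst h0
      exact ⟨Fin.elim0, fun i => Fin.elim0 i⟩
    · have hSW : (B.restrict (B.orthogonal (F ∙ v))).IsSymm := ⟨fun x y => hS.eq x y⟩
      obtain ⟨b', hb'⟩ := IH _ hdim (B.restrict (B.orthogonal (F ∙ v))) hSW hnd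
        ⟨⟨w, hwW⟩, hww⟩
      exact ⟨b', hb'⟩
  obtain ⟨b', hb'⟩ := hfam
  refine ⟨Fin.cons v (fun i => (b' i : V)), ?_⟩
  intro i j
  refine Fin.cases ?_ (fun i' => ?_) i <;> refine Fin.cases ?_ (fun j' => ?_) j
  · simp [hv]
  · simp only [Fin.cons_zero, Fin.cons_succ]
    rw [hortho _ (b' j').2, if_neg (Fin.succ_ne_zero j').symm]
  · simp only [Fin.cons_zero, Fin.cons_succ]
    rw [hS.eq, hortho _ (b' i').2, if_neg (Fin.succ_ne_zero i')]
  · simp only [Fin.cons_succ]
    rw [hb' i' j']
    simp [Fin.succ_inj]

theorem ortho_family {F : Type*} [Field F] [Finite F] [CharP F 2] :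
    ∀ (n : ℕ) {V : Type*} [AddCommGroup V] [Module F V] [FiniteDimensional F V],
      Module.finrank F V = n → ∀ B : LinearMap.BilinForm F V, B.IsSymm → B.Nondegenerate →
      (∃ v, B v v ≠ 0) → ∃ b : Fin n → V, ∀ i j, B (b i) (b j) = if i = j then 1 else 0 := by
  intro n
  induction n with
  | zero =>
    intro V _ _ _ _ B _ _ _
    exact ⟨Fin.elim0, fun i => Fin.elim0 i⟩
  | succ n ih =>
    intro V _ _ _ hV B hS hB hna
    classical
    have IH : ∀ (W : Submodule F V), Module.finrank F W = n →
      ∀ B : LinearMap.BilinForm F W, B.IsSymm → B.Nondegenerate → (∃ v, B v v ≠ 0) →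
      ∃ b : Fin n → W, ∀ i j, B (b i) (b j) = if i = j then 1 else 0 := fun W hW => ih hW
    obtain ⟨v₀, hv₀⟩ := hna
    obtain ⟨s, hs⟩ := exists_sqrt (B v₀ v₀)
    have hs0 : s ≠ 0 := by
      rintro rfl
      rw [mul_zero] at hs
      exact hv₀ hs.symm
    set v : V := s⁻¹ • v₀ with hvdef
    have hv : B v v = 1 := by
      simp only [hvdef, map_smul, LinearMap.smul_apply, smul_eq_mul]
      rw [← hs]
      field_simp
    have hv0 : B v v ≠ 0 := by rw [hv]; exact one_ne_zero
    by_cases hcase : n = 0 ∨ ∃ w ∈ B.orthogonal (F ∙ v), B w w ≠ 0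
    · exact step n IH hV B hS hB v hv hcase
    · -- the complement is alternating and nonzero
      have hn0 : n ≠ 0 := fun h => hcase (Or.inl h)
      have halt : ∀ w ∈ B.orthogonal (F ∙ v), B w w = 0 := by
        intro w hw
        by_contra h
        exact hcase (Or.inr ⟨w, hw, h⟩)
      have hcompl := LinearMap.BilinForm.isCompl_span_singleton_orthogonal hv0
      have hnd := LinearMap.BilinForm.restrict_nondegenerate_orthogonal_spanSingleton B hB hS.isRefl hv0
      have hvne : v ≠ 0 := by
        rintro h
        rw [h] at hv0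
        simp at hv0
      have hdim : Module.finrank F (B.orthogonal (F ∙ v)) = n := by
        have h1 := Submodule.finrank_add_eq_of_isCompl hcompl
        rw [finrank_span_singleton hvne, hV] at h1
        omega
      have hortho : ∀ w ∈ B.orthogonal (F ∙ v), B v w = 0 := by
        intro w hw
        exact (LinearMap.BilinForm.mem_orthogonal_iff.1 hw) v (Submodule.mem_span_singleton_self v)
      -- a nonzero e in the complement
      have hnt : Nontrivial (B.orthogonal (F ∙ v)) := by
        apply Module.nontrivial_of_finrank_pos (R := F)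
        omega
      obtain ⟨e, he⟩ := exists_ne (0 : B.orthogonal (F ∙ v))
      have hef : ∃ f : B.orthogonal (F ∙ v), B (e : V) (f : V) ≠ 0 := by
        by_contra hcon
        apply he
        apply hnd.1 e
        intro f
        by_contra h
        exact hcon ⟨f, h⟩
      obtain ⟨f₀, hf₀⟩ := hef
      set f : V := (B (e : V) (f₀ : V))⁻¹ • (f₀ : V) with hfdef
      have hfW : f ∈ B.orthogonal (F ∙ v) := Submodule.smul_mem _ _ f₀.2
      have hef1 : B (e : V) f = 1 := by
        rw [hfdef, map_smul, smul_eq_mul, inv_mul_cancel₀ hf₀]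
      have hve : B v (e : V) = 0 := hortho _ e.2
      have hev : B (e : V) v = 0 := by rw [hS.eq]; exact hve
      have hvf : B v f = 0 := hortho _ hfW
      have hfv : B f v = 0 := by rw [hS.eq]; exact hvf
      have hee : B (e : V) (e : V) = 0 := halt _ e.2
      have hff : B f f = 0 := halt _ hfW
      have hfe : B f (e : V) = 1 := by rw [hS.eq]; exact hef1
      have h2 : (1 : F) + 1 = 0 := two_eq_zero'
      have hv' : B (v + e) (v + e) = 1 := by
        simp only [map_add, LinearMap.add_apply, hv, hve, hev, hee]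
        ring
      have hu1 : B (v + e) (v + f) = 0 := by
        simp only [map_add, LinearMap.add_apply, hv, hvf, hev, hef1]
        rw [add_zero, zero_add]; exact h2
      have hu2 : B (v + f) (v + f) ≠ 0 := by
        simp only [map_add, LinearMap.add_apply, hv, hvf, hfv, hff]
        simp
      refine step n IH hV B hS hB (v + e) hv' (Or.inr ⟨v + f, ?_, hu2⟩)
      rw [LinearMap.BilinForm.mem_orthogonal_iff]
      intro x hx
      obtain ⟨c, rfl⟩ := Submodule.mem_span_singleton.1 hx
      show B (c • (v + e)) (v + f) = 0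
      rw [map_smul, LinearMap.smul_apply, hu1, smul_zero]

theorem result {F V : Type*} [Field F] [Finite F] [CharP F 2] [AddCommGroup V] [Module F V] [FiniteDimensional F V] {n : ℕ} (hV : Module.finrank F V = n) (B : LinearMap.BilinForm F V) (hS : B.IsSymm) (hB : B.Nondegenerate) (hna : ∃ v : V, B v v ≠ 0) : ∃ b : Module.Basis (Fin n) F V, ∀ i j, B (b i) (b j) = if i = j then 1 else 0 := by
  classical
  obtain ⟨b, hb⟩ := ortho_family n hV B hS hB hna
  have hli : LinearIndependent F b := by
    apply LinearMap.BilinForm.linearIndependent_of_iIsOrtho (B := B)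
    · intro i j hij
      show B (b i) (b j) = 0
      rw [hb, if_neg hij]
    · intro i
      rw [hb, if_pos rfl]
      exact one_ne_zero
  have hcard : Fintype.card (Fin n) = Module.finrank F V := by rw [Fintype.card_fin, hV]
  have hspan := hli.span_eq_top_of_card_eq_finrank' hcard
  refine ⟨Module.Basis.mk hli (le_of_eq hspan.symm), ?_⟩
  intro i j
  rw [Module.Basis.mk_apply, Module.Basis.mk_apply]
  exact hb i j

end Cfsg.Agent.S2622
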