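import Mathlib
import Cfsg.Statements.S2623
import Cfsg.Agent.Lib.Helper5.QF3

set_option autoImplicit false
open Cfsg

namespace Cfsg.Agent.S2623

open Cfsg.Agent.Lib.Helper5 QuadraticMap

section
variable {F : Type*} [Field F]

theorem gram_eq {n : ℕ} (Q : QuadraticForm F (Fin n → F)) :
    Matrix.of (fun i j : Fin n => polar Q (Pi.single i 1) (Pi.single j 1))
      = LinearMap.BilinForm.toMatrix' (polarBilin Q) := by
  ext i j
  rw [LinearMap.BilinForm.toMatrix'_apply]
  rfl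

theorem gram_det_basis {n : ℕ} (Q : QuadraticForm F (Fin n → F))
    (c : Module.Basis (Fin n) F (Fin n → F)) :
    (Matrix.of (fun i j : Fin n => polar Q (c i) (c j))).det
      = ((Pi.basisFun F (Fin n)).toMatrix c).det ^ 2
        * (Matrix.of (fun i j : Fin n => polar Q (Pi.single i 1) (Pi.single j 1))).det := by
  have h := LinearMap.BilinForm.toMatrix_mul_basis_toMatrix (Pi.basisFun F (Fin n)) c (polarBilin Q)
  have h1 : Matrix.of (fun i j : Fin n => polar Q (c i) (c j))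
      = LinearMap.BilinForm.toMatrix c (polarBilin Q) := by
    ext i j
    rw [LinearMap.BilinForm.toMatrix_apply]
    rfl
  rw [h1, ← h, Matrix.det_mul, Matrix.det_mul, Matrix.det_transpose,
    LinearMap.BilinForm.toMatrix_basisFun, gram_eq]
  ring

theorem basis_of_orth {n : ℕ} (Q : QuadraticForm F (Fin n → F)) (h2 : (2 : F) ≠ 0)
    (b : Fin n → (Fin n → F)) (horth : ∀ i j, i ≠ j → polar Q (b i) (b j) = 0)
    (hne : ∀ i, Q (b i) ≠ 0) : ∃ c : Module.Basis (Fin n) F (Fin n → F), ∀ i, c i = b i := by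
  have hli : LinearIndependent F b := by
    apply LinearMap.BilinForm.linearIndependent_of_iIsOrtho (B := polarBilin Q)
    · intro i j hij
      exact horth i j hij
    · intro i
      show polar Q (b i) (b i) ≠ 0
      rw [polar_self]
      simp only [nsmul_eq_mul, Nat.cast_ofNat]
      exact mul_ne_zero h2 (hne i)
  have hspan := hli.span_eq_top_of_card_eq_finrank'
    (by rw [Fintype.card_fin, Module.finrank_fin_fun])
  refine ⟨Module.Basis.mk hli (le_of_eq hspan.symm), ?_⟩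
  intro i
  rw [Module.Basis.mk_apply]

theorem gram_det_orth {m : ℕ} (Q : QuadraticForm F (Fin (m + 1) → F))
    (b : Fin (m + 1) → (Fin (m + 1) → F)) (horth : ∀ i j, i ≠ j → polar Q (b i) (b j) = 0)
    (hone : ∀ i, i ≠ Fin.last m → Q (b i) = 1) :
    (Matrix.of (fun i j : Fin (m + 1) => polar Q (b i) (b j))).det
      = 2 ^ (m + 1) * Q (b (Fin.last m)) := by
  have h1 : Matrix.of (fun i j : Fin (m + 1) => polar Q (b i) (b j))
      = Matrix.diagonal (fun i => 2 * Q (b i)) := by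
    ext i j
    by_cases hij : i = j
    · subst hij
      rw [Matrix.diagonal_apply_eq, Matrix.of_apply, polar_self]
      simp
    · rw [Matrix.diagonal_apply_ne _ hij, Matrix.of_apply, horth i j hij]
  rw [h1, Matrix.det_diagonal, Fin.prod_univ_castSucc]
  have : ∀ i : Fin m, 2 * Q (b i.castSucc) = 2 := by
    intro i
    rw [hone _ (Fin.castSucc_lt_last i).ne, mul_one]
  simp only [this, Finset.prod_const, Finset.card_univ, Fintype.card_fin]
  ring

end

theorem result {F : Type*} [Field F] [Fintype F] (h2 : (2 : F) ≠ 0) {n : ℕ} (Q₁ Q₂ : QuadraticForm F (Fin n → F)) (h₁ : (QuadraticMap.polarBilin Q₁).Nondegenerate) (h₂ : (QuadraticMap.polarBilin Q₂).Nondegenerate) : (∃ g : (Fin n → F) ≃ₗ[F] (Fin n → F), ∀ v, Q₂ (g v) = Q₁ v) ↔ IsSquare ((Matrix.of (fun i j : Fin n => QuadraticMap.polar ⇑Q₁ (Pi.single i 1) (Pi.single j 1))).det * (Matrix.of (fun i j : Fin n => QuadraticMap.polar ⇑Q₂ (Pi.single i 1) (Pi.single j 1))).det) := by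
  classical
  constructor
  · rintro ⟨g, hg⟩
    have hcomp : polarBilin Q₁ = LinearMap.BilinForm.comp (polarBilin Q₂)
        (g : (Fin n → F) →ₗ[F] (Fin n → F)) (g : (Fin n → F) →ₗ[F] (Fin n → F)) := by
      apply LinearMap.ext₂
      intro x y
      show polar Q₁ x y = polar Q₂ (g x) (g y)
      unfold polar
      rw [← map_add, hg, hg, hg]
    rw [gram_eq, gram_eq, hcomp, LinearMap.BilinForm.toMatrix'_comp, Matrix.det_mul, Matrix.det_mul,
      Matrix.det_transpose]
    refine ⟨(LinearMap.toMatrix' (g : (Fin n → F) →ₗ[F] (Fin n → F))).det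
      * (LinearMap.BilinForm.toMatrix' (polarBilin Q₂)).det, ?_⟩
    ring
  · rintro ⟨r, hr⟩
    rcases Nat.eq_zero_or_pos n with hn | hn
    · subst hn
      refine ⟨LinearEquiv.refl F _, ?_⟩
      intro v
      have hall : ∀ v : Fin 0 → F, v = 0 := fun v => Subsingleton.elim _ _
      rw [hall ((LinearEquiv.refl F (Fin 0 → F)) v), hall v, QuadraticMap.map_zero,
        QuadraticMap.map_zero]
    obtain ⟨m, rfl⟩ : ∃ m, n = m + 1 := ⟨n - 1, by omega⟩
    obtain ⟨b₁, ho₁, h1₁, hd₁⟩ := exists_orth_family h2 m Q₁ h₁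
      (by rw [Module.finrank_fin_fun])
    obtain ⟨b₂, ho₂, h1₂, hd₂⟩ := exists_orth_family h2 m Q₂ h₂
      (by rw [Module.finrank_fin_fun])
    have hne₁ : ∀ i, Q₁ (b₁ i) ≠ 0 := by
      intro i
      by_cases hi : i = Fin.last m
      · rw [hi]; exact hd₁
      · rw [h1₁ i hi]; exact one_ne_zero
    have hne₂ : ∀ i, Q₂ (b₂ i) ≠ 0 := by
      intro i
      by_cases hi : i = Fin.last m
      · rw [hi]; exact hd₂
      · rw [h1₂ i hi]; exact one_ne_zero
    obtain ⟨c₁, hc₁⟩ := basis_of_orth Q₁ h2 b₁ ho₁ hne₁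
    obtain ⟨c₂, hc₂⟩ := basis_of_orth Q₂ h2 b₂ ho₂ hne₂
    have e₁ := gram_det_basis Q₁ c₁
    have e₂ := gram_det_basis Q₂ c₂
    simp only [hc₁] at e₁
    simp only [hc₂] at e₂
    rw [gram_det_orth Q₁ b₁ ho₁ h1₁] at e₁
    rw [gram_det_orth Q₂ b₂ ho₂ h1₂] at e₂
    set d₁ := Q₁ (b₁ (Fin.last m)) with hd₁def
    set d₂ := Q₂ (b₂ (Fin.last m)) with hd₂def
    set p₁ := ((Pi.basisFun F (Fin (m + 1))).toMatrix c₁).det with hp₁
    set p₂ := ((Pi.basisFun F (Fin (m + 1))).toMatrix c₂).det with hp₂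
    set D₁ := (Matrix.of (fun i j : Fin (m + 1) => polar Q₁ (Pi.single i 1) (Pi.single j 1))).det
      with hD₁
    set D₂ := (Matrix.of (fun i j : Fin (m + 1) => polar Q₂ (Pi.single i 1) (Pi.single j 1))).det
      with hD₂
    have h2m : (2 : F) ^ (m + 1) ≠ 0 := pow_ne_zero _ h2
    -- d₁ = s² d₂
    set s : F := p₁ * p₂ * r / (2 ^ (m + 1) * d₂) with hs
    have hsd : s * s * d₂ = d₁ := by
      have hkey : (2 : F) ^ (m + 1) * d₁ * (2 ^ (m + 1) * d₂) = (p₁ * p₂ * r) ^ 2 := by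
        rw [e₁, e₂]
        linear_combination (p₁ ^ 2 * p₂ ^ 2) * hr
      rw [hs]
      field_simp
      linear_combination (-1 : F) * hkey
    have hs0 : s ≠ 0 := by
      intro h
      rw [h] at hsd
      apply hd₁
      rw [← hsd]; ring
    set b₂' : Fin (m + 1) → (Fin (m + 1) → F) :=
      fun i => if i = Fin.last m then s • b₂ i else b₂ i with hb₂'
    have hb₂'eq : ∀ i, ∃ t : F, b₂' i = t • b₂ i ∧ Q₂ (b₂' i) = Q₁ (b₁ i) := by
      intro i
      by_cases hi : i = Fin.last m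
      · refine ⟨s, by rw [hb₂']; simp [hi], ?_⟩
        rw [hb₂']
        simp only [hi, if_true]
        rw [QuadraticMap.map_smul, smul_eq_mul]
        exact hsd
      · refine ⟨1, by rw [hb₂']; simp [hi], ?_⟩
        rw [hb₂']
        simp only [hi, if_false]
        rw [h1₂ i hi, h1₁ i hi]
    have ho₂' : ∀ i j, i ≠ j → polar Q₂ (b₂' i) (b₂' j) = 0 := by
      intro i j hij
      obtain ⟨t, ht, _⟩ := hb₂'eq i
      obtain ⟨t', ht', _⟩ := hb₂'eq j
      rw [ht, ht', polar_smul_left, polar_smul_right, ho₂ i j hij]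
      simp
    have hne₂' : ∀ i, Q₂ (b₂' i) ≠ 0 := by
      intro i
      rw [(hb₂'eq i).choose_spec.2]
      exact hne₁ i
    obtain ⟨c₂', hc₂'⟩ := basis_of_orth Q₂ h2 b₂' ho₂' hne₂'
    refine ⟨c₁.equiv c₂' (Equiv.refl _), ?_⟩
    intro v
    have hv : v = ∑ i, c₁.repr v i • b₁ i := by
      conv_lhs => rw [← c₁.sum_repr v]
      simp only [hc₁]
    have hgv : (c₁.equiv c₂' (Equiv.refl _)) v = ∑ i, c₁.repr v i • b₂' i := by
      conv_lhs => rw [← c₁.sum_repr v]
      rw [map_sum]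
      apply Finset.sum_congr rfl
      intro i _
      rw [map_smul, Module.Basis.equiv_apply, Equiv.refl_apply, hc₂']
    rw [hgv, Q_orth_sum Q₂ b₂' ho₂']
    conv_rhs => rw [hv, Q_orth_sum Q₁ b₁ ho₁]
    apply Finset.sum_congr rfl
    intro i _
    rw [(hb₂'eq i).choose_spec.2]

end Cfsg.Agent.S2623
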