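import Mathlib
import Cfsg.Statements.S2625

set_option autoImplicit false
open Cfsg

namespace Cfsg.Agent.S2625

theorem result {F : Type*} [Field F] [Fintype F] {n : ℕ} (hn : Odd n) (Q : QuadraticForm F (Fin n → F)) (hQ : (QuadraticMap.polarBilin Q).Nondegenerate) (g : (Fin n → F) ≃ₗ[F] (Fin n → F)) (c : F) (hg : ∀ v, Q (g v) = c * Q v) : IsSquare c := by
  classical
  by_cases h2 : (2 : F) = 0
  · have hchar : ringChar F = 2 :=
      CharP.ringChar_of_prime_eq_zero Nat.prime_two (by exact_mod_cast h2)
    exact FiniteField.isSquare_of_char_two hchar c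
  · by_cases hc : c = 0
    · subst hc
      exact ⟨0, by simp⟩
    have hcomp : LinearMap.BilinForm.comp (QuadraticMap.polarBilin Q)
        (g : (Fin n → F) →ₗ[F] (Fin n → F)) (g : (Fin n → F) →ₗ[F] (Fin n → F))
        = c • QuadraticMap.polarBilin Q := by
      apply LinearMap.ext₂
      intro x y
      show QuadraticMap.polar Q (g x) (g y) = c * QuadraticMap.polar Q x y
      unfold QuadraticMap.polar
      rw [← map_add, hg, hg, hg]
      ring
    have hdet := congrArg (fun B => (LinearMap.BilinForm.toMatrix' B).det) hcomp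
    simp only [LinearMap.BilinForm.toMatrix'_comp, Matrix.det_mul, Matrix.det_transpose,
      map_smul, Matrix.det_smul, Fintype.card_fin] at hdet
    have hD : (LinearMap.BilinForm.toMatrix' (QuadraticMap.polarBilin Q)).det ≠ 0 := by
      have := (LinearMap.BilinForm.nondegenerate_iff_det_ne_zero (Pi.basisFun F (Fin n))).1 hQ
      rwa [LinearMap.BilinForm.toMatrix_basisFun] at this
    set p := (LinearMap.toMatrix' (g : (Fin n → F) →ₗ[F] (Fin n → F))).det with hp
    set D := (LinearMap.BilinForm.toMatrix' (QuadraticMap.polarBilin Q)).det with hDdef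
    have hcn : c ^ n = p * p := by
      apply mul_right_cancel₀ hD
      linear_combination -hdet
    obtain ⟨j, hj⟩ := hn
    have hcj : c ^ j ≠ 0 := pow_ne_zero _ hc
    refine ⟨p / c ^ j, ?_⟩
    field_simp
    rw [hj, pow_succ, pow_mul] at hcn
    linear_combination hcn

end Cfsg.Agent.S2625
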