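import Mathlib
import Cfsg.Statements.S2626

set_option autoImplicit false
open Cfsg

namespace Cfsg.Agent.S2626

section
variable {F : Type*} [Field F]

/-- Block-diagonal embedding of matrices, as a monoid homomorphism. -/
def blockMat (k l : ℕ) :
    Matrix (Fin k) (Fin k) F × Matrix (Fin l) (Fin l) F →* Matrix (Fin k ⊕ Fin l) (Fin k ⊕ Fin l) F where
  toFun p := Matrix.fromBlocks p.1 0 0 p.2
  map_one' := by simp [Matrix.fromBlocks_one]
  map_mul' := by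
    intro p q
    simp [Matrix.fromBlocks_multiply]

/-- Block-diagonal embedding of general linear groups. -/
def blockGL (k l : ℕ) :
    Matrix.GeneralLinearGroup (Fin k) F × Matrix.GeneralLinearGroup (Fin l) F →*
      Matrix.GeneralLinearGroup (Fin k ⊕ Fin l) F :=
  (Units.map (blockMat k l)).comp MulEquiv.prodUnits.symm.toMonoidHom

theorem blockGL_coe (k l : ℕ) (a : Matrix.GeneralLinearGroup (Fin k) F)
    (b : Matrix.GeneralLinearGroup (Fin l) F) :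
    ((blockGL k l (a, b) : Matrix.GeneralLinearGroup (Fin k ⊕ Fin l) F) :
      Matrix (Fin k ⊕ Fin l) (Fin k ⊕ Fin l) F)
      = Matrix.fromBlocks (a : Matrix (Fin k) (Fin k) F) 0 0 (b : Matrix (Fin l) (Fin l) F) := rfl

theorem mem_commutator_map {G H : Type*} [Group G] [Group H] (f : G →* H) {g : G}
    (hg : g ∈ commutator G) : f g ∈ commutator H := by
  have h1 : f g ∈ Subgroup.map f ⁅(⊤ : Subgroup G), ⊤⁆ := Subgroup.mem_map_of_mem f hg
  rw [Subgroup.map_commutator] at h1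
  exact Subgroup.commutator_mono le_top le_top h1

end

theorem result {F : Type*} [Field F] [Fintype F] {k l : ℕ} (Q₁ : QuadraticForm F (Fin k → F)) (Q₂ : QuadraticForm F (Fin l → F)) (h₁ : (QuadraticMap.polarBilin Q₁).Nondegenerate) (h₂ : (QuadraticMap.polarBilin Q₂).Nondegenerate) (g₁ : ↥(Cfsg.isometryGroup F ⇑Q₁)) (g₂ : ↥(Cfsg.isometryGroup F ⇑Q₂)) (hg₁ : g₁ ∈ Cfsg.Omega F ⇑Q₁) (hg₂ : g₂ ∈ Cfsg.Omega F ⇑Q₂) : ∃ g : ↥(Cfsg.isometryGroup F (fun v : Fin k ⊕ Fin l → F => Q₁ (v ∘ Sum.inl) + Q₂ (v ∘ Sum.inr))), g ∈ Cfsg.Omega F (fun v : Fin k ⊕ Fin l → F => Q₁ (v ∘ Sum.inl) + Q₂ (v ∘ Sum.inr)) ∧ ((g : Matrix.GeneralLinearGroup (Fin k ⊕ Fin l) F) : Matrix (Fin k ⊕ Fin l) (Fin k ⊕ Fin l) F) = Matrix.fromBlocks ((g₁ : Matrix.GeneralLinearGroup (Fin k) F) : Matrix (Fin k) (Fin k) F) 0 0 ((g₂ : Matrix.GeneralLinearGroup (Fin l) F) : Matrix (Fin l) (Fin l) F) := by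
  classical
  set Q : (Fin k ⊕ Fin l → F) → F := fun v => Q₁ (v ∘ Sum.inl) + Q₂ (v ∘ Sum.inr) with hQ
  have hmem : ∀ (a : ↥(Cfsg.isometryGroup F ⇑Q₁)) (b : ↥(Cfsg.isometryGroup F ⇑Q₂)),
      blockGL k l ((a : Matrix.GeneralLinearGroup (Fin k) F), (b : Matrix.GeneralLinearGroup (Fin l) F))
        ∈ Cfsg.isometryGroup F Q := by
    intro a b u v
    show Q ((blockGL k l ((a : Matrix.GeneralLinearGroup (Fin k) F),
      (b : Matrix.GeneralLinearGroup (Fin l) F)) : Matrix (Fin k ⊕ Fin l) (Fin k ⊕ Fin l) F).mulVec u) = Q u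
    rw [blockGL_coe, Matrix.fromBlocks_mulVec]
    have ha := a.2 (u ∘ Sum.inl) (u ∘ Sum.inl)
    have hb := b.2 (u ∘ Sum.inr) (u ∘ Sum.inr)
    simp only [Units.coeHom_apply] at ha hb
    simp only [hQ, Matrix.zero_mulVec, add_zero, zero_add, Sum.elim_comp_inl, Sum.elim_comp_inr]
    rw [ha, hb]
  let ψ : ↥(Cfsg.isometryGroup F ⇑Q₁) × ↥(Cfsg.isometryGroup F ⇑Q₂) →* ↥(Cfsg.isometryGroup F Q) :=
    MonoidHom.codRestrict ((blockGL k l).comp
      (MonoidHom.prodMap (Cfsg.isometryGroup F ⇑Q₁).subtype (Cfsg.isometryGroup F ⇑Q₂).subtype))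
      (Cfsg.isometryGroup F Q) (fun p => hmem p.1 p.2)
  refine ⟨ψ (g₁, g₂), ?_, rfl⟩
  apply mem_commutator_map ψ
  show (g₁, g₂) ∈ ⁅(⊤ : Subgroup (↥(Cfsg.isometryGroup F ⇑Q₁) × ↥(Cfsg.isometryGroup F ⇑Q₂))), ⊤⁆
  rw [← Subgroup.top_prod_top, Subgroup.commutator_prod_prod]
  exact ⟨hg₁, hg₂⟩

end Cfsg.Agent.S2626
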