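import Mathlib
import Cfsg.Statements.S2636

set_option autoImplicit false
open Cfsg

namespace Cfsg.Agent.S2636

theorem result {F : Type*} [Field F] [Fintype F] {q₀ r n : ℕ} (hr : r.Prime) (hn : 1 ≤ n) (hF : Fintype.card F = q₀ ^ r) (σ : F ≃+* F) (hσ : orderOf σ = r) : Nat.card {g : GL (Fin n) F // ∃ c : F, c ≠ 0 ∧ (g : Matrix (Fin n) (Fin n) F).map σ = c • (g : Matrix (Fin n) (Fin n) F)} = (q₀ ^ r - 1) / (q₀ - 1) * ∏ i : Fin n, (q₀ ^ n - q₀ ^ (i : ℕ)) := by
  classical
  have hr0 : r ≠ 0 := hr.ne_zero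
  -- the fixed field
  obtain ⟨F₀, hF₀def⟩ : ∃ F₀ : Subfield F, F₀ = FixedPoints.subfield (Subgroup.zpowers σ) F := ⟨_, rfl⟩
  have hmemF₀ : ∀ x : F, x ∈ F₀ ↔ σ x = x := by
    intro x
    rw [hF₀def]
    constructor
    · intro hx
      exact hx ⟨σ, Subgroup.mem_zpowers σ⟩
    · intro hx
      rintro ⟨τ, hτ⟩
      have h1 : Subgroup.zpowers σ ≤ MulAction.stabilizer (F ≃+* F) x := by
        rw [Subgroup.zpowers_le]
        exact hx
      exact h1 hτ
  haveI : Finite (Subgroup.zpowers σ) :=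
    finite_zpowers.2 (orderOf_pos_iff.1 (by rw [hσ]; exact hr.pos))
  haveI : Fintype (Subgroup.zpowers σ) := Fintype.ofFinite _
  have hfin : Module.finrank F₀ F = r := by
    rw [hF₀def, FixedPoints.finrank_eq_card (Subgroup.zpowers σ) F, ← Nat.card_eq_fintype_card,
      Nat.card_zpowers, hσ]
  haveI : Fintype F₀ := Fintype.ofFinite _
  have hcardF₀ : Fintype.card F₀ = q₀ := by
    have h1 := Module.card_eq_pow_finrank (K := F₀) (V := F)
    rw [hfin, hF] at h1
    exact (Nat.pow_left_injective hr0 h1).symm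
  have hq₀2 : 2 ≤ q₀ := by
    rw [← hcardF₀]
    exact Fintype.one_lt_card
  -- the homomorphism
  let ι : GL (Fin n) F₀ →* GL (Fin n) F := Matrix.GeneralLinearGroup.map F₀.subtype
  let sc : Fˣ →* GL (Fin n) F := Units.map (Matrix.scalar (Fin n)).toMonoidHom
  have hι : ∀ (h : GL (Fin n) F₀) i j, ((ι h : GL (Fin n) F) : Matrix (Fin n) (Fin n) F) i j =
      ((h : Matrix (Fin n) (Fin n) F₀) i j : F) := fun h i j => rfl
  have hsc : ∀ d : Fˣ, ((sc d : GL (Fin n) F) : Matrix (Fin n) (Fin n) F) =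
      Matrix.scalar (Fin n) (d : F) := fun d => rfl
  have hcomm : ∀ (d : Fˣ) (h : GL (Fin n) F₀), Commute (sc d) (ι h) := by
    intro d h
    rw [← Commute.units_val_iff, hsc]
    exact Matrix.scalar_commute _ (fun r' => Commute.all _ _) _
  let Ψ : Fˣ × GL (Fin n) F₀ →* GL (Fin n) F := MonoidHom.noncommCoprod sc ι hcomm
  have hΨ : ∀ (d : Fˣ) (h : GL (Fin n) F₀) i j,
      ((Ψ (d, h) : GL (Fin n) F) : Matrix (Fin n) (Fin n) F) i j =
        (d : F) * ((h : Matrix (Fin n) (Fin n) F₀) i j : F) := by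
    intro d h i j
    show ((sc d * ι h : GL (Fin n) F) : Matrix (Fin n) (Fin n) F) i j = _
    rw [Units.val_mul, hsc, Matrix.scalar_apply, ← Matrix.smul_eq_diagonal_mul, Matrix.smul_apply,
      hι, smul_eq_mul]
  -- the range of Ψ
  have hrange : ∀ g : GL (Fin n) F, g ∈ Ψ.range ↔
      ∃ c : F, c ≠ 0 ∧ (g : Matrix (Fin n) (Fin n) F).map σ = c • (g : Matrix (Fin n) (Fin n) F) := by
    intro g
    constructor
    · rintro ⟨⟨d, h⟩, rfl⟩
      refine ⟨σ (d : F) / (d : F), div_ne_zero ((map_ne_zero σ).2 d.ne_zero) d.ne_zero, ?_⟩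
      ext i j
      rw [Matrix.map_apply, Matrix.smul_apply, hΨ, map_mul, smul_eq_mul,
        (hmemF₀ _).1 ((h : Matrix (Fin n) (Fin n) F₀) i j).2]
      field_simp
    · rintro ⟨c, hc, hgc⟩
      have hne : ∃ i j, (g : Matrix (Fin n) (Fin n) F) i j ≠ 0 := by
        by_contra hcon
        have h0 : (g : Matrix (Fin n) (Fin n) F) = 0 := by
          ext i j
          by_contra h
          exact hcon ⟨i, j, h⟩
        have hdet : (g : Matrix (Fin n) (Fin n) F).det ≠ 0 := by
          have := Matrix.GeneralLinearGroup.det_ne_zero g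
          exact this
        rw [h0] at hdet
        haveI : Nonempty (Fin n) := ⟨⟨0, hn⟩⟩
        exact hdet Matrix.det_zero
      obtain ⟨i₀, j₀, he⟩ := hne
      obtain ⟨e, hedef⟩ : ∃ e : F, e = (g : Matrix (Fin n) (Fin n) F) i₀ j₀ := ⟨_, rfl⟩
      rw [← hedef] at he
      have hσe : σ e = c * e := by
        have := congrFun (congrFun hgc i₀) j₀
        rw [Matrix.map_apply, Matrix.smul_apply, smul_eq_mul, ← hedef] at this
        exact this
      have hentry : ∀ i j, e⁻¹ * (g : Matrix (Fin n) (Fin n) F) i j ∈ F₀ := by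
        intro i j
        rw [hmemF₀, map_mul, map_inv₀, hσe]
        have := congrFun (congrFun hgc i) j
        rw [Matrix.map_apply, Matrix.smul_apply, smul_eq_mul] at this
        rw [this]
        field_simp
      let H : Matrix (Fin n) (Fin n) F₀ := fun i j => ⟨e⁻¹ * (g : Matrix (Fin n) (Fin n) F) i j, hentry i j⟩
      have hHmap : H.map F₀.subtype = e⁻¹ • (g : Matrix (Fin n) (Fin n) F) := by
        ext i j
        rfl
      have hHdet : H.det ≠ 0 := by
        intro h0
        have h1 : (F₀.subtype) H.det = 0 := by rw [h0, map_zero]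
        rw [RingHom.map_det, RingHom.mapMatrix_apply, hHmap, Matrix.det_smul] at h1
        have h2 : (g : Matrix (Fin n) (Fin n) F).det ≠ 0 := Matrix.GeneralLinearGroup.det_ne_zero g
        exact (mul_ne_zero (pow_ne_zero _ (inv_ne_zero he)) h2) h1
      refine ⟨(Units.mk0 e he, Matrix.GeneralLinearGroup.mkOfDetNeZero H hHdet), ?_⟩
      apply Units.ext
      ext i j
      rw [hΨ]
      show e * (e⁻¹ * (g : Matrix (Fin n) (Fin n) F) i j) = _
      field_simp
  -- the kernel of Ψ
  have hker : Nat.card Ψ.ker = q₀ - 1 := by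
    have hF₀u : Nat.card F₀ˣ = q₀ - 1 := by
      rw [Nat.card_units, Nat.card_eq_fintype_card, hcardF₀]
    rw [← hF₀u]
    symm
    have hθmem : ∀ l : F₀ˣ, ((Units.map F₀.subtype.toMonoidHom l)⁻¹,
        (Units.map (Matrix.scalar (Fin n)).toMonoidHom l : GL (Fin n) F₀)) ∈ Ψ.ker := by
      intro l
      rw [MonoidHom.mem_ker]
      apply Units.ext
      ext i j
      rw [hΨ]
      have e1 : (((Units.map F₀.subtype.toMonoidHom l)⁻¹ : Fˣ) : F) = ((l : F₀) : F)⁻¹ := by
        rw [Units.val_inv_eq_inv_val]; rfl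
      have e2 : ((Units.map (Matrix.scalar (Fin n)).toMonoidHom l : GL (Fin n) F₀) :
          Matrix (Fin n) (Fin n) F₀) = Matrix.scalar (Fin n) (l : F₀) := rfl
      rw [e1, e2]
      show ((l : F₀) : F)⁻¹ * ((Matrix.scalar (Fin n) (l : F₀)) i j : F) = (1 : Matrix (Fin n) (Fin n) F) i j
      rw [Matrix.scalar_apply, Matrix.diagonal_apply, Matrix.one_apply]
      by_cases hij : i = j
      · rw [if_pos hij, if_pos hij]
        have : ((l : F₀) : F) ≠ 0 := by
          have := l.ne_zero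
          exact fun h => this (Subtype.ext h)
        field_simp
      · rw [if_neg hij, if_neg hij]
        simp
    apply Nat.card_congr
    refine Equiv.ofBijective (fun l => ⟨_, hθmem l⟩) ⟨?_, ?_⟩
    · intro l l' hll
      have h1 := congrArg (fun x : Ψ.ker => ((x : Fˣ × GL (Fin n) F₀).1 : F)) hll
      simp only at h1
      apply Units.ext
      apply Subtype.ext
      have h2 : (((Units.map F₀.subtype.toMonoidHom l)⁻¹ : Fˣ) : F) = ((l : F₀) : F)⁻¹ := by
        rw [Units.val_inv_eq_inv_val]; rfl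
      have h3 : (((Units.map F₀.subtype.toMonoidHom l')⁻¹ : Fˣ) : F) = ((l' : F₀) : F)⁻¹ := by
        rw [Units.val_inv_eq_inv_val]; rfl
      rw [h2, h3] at h1
      exact inv_injective h1
    · rintro ⟨⟨d, h⟩, hdh⟩
      rw [MonoidHom.mem_ker] at hdh
      have hent : ∀ i j, (d : F) * ((h : Matrix (Fin n) (Fin n) F₀) i j : F) =
          (1 : Matrix (Fin n) (Fin n) F) i j := by
        intro i j
        rw [← hΨ, hdh]
        rfl
      have hd0 : (d : F) ≠ 0 := d.ne_zero
      have hdF₀ : (d : F)⁻¹ ∈ F₀ := by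
        have := hent ⟨0, hn⟩ ⟨0, hn⟩
        rw [Matrix.one_apply_eq] at this
        have h2 : ((h : Matrix (Fin n) (Fin n) F₀) ⟨0, hn⟩ ⟨0, hn⟩ : F) = (d : F)⁻¹ := by
          field_simp
          rw [mul_comm]
          exact this
        rw [← h2]
        exact ((h : Matrix (Fin n) (Fin n) F₀) ⟨0, hn⟩ ⟨0, hn⟩).2
      have hl0 : (⟨(d : F)⁻¹, hdF₀⟩ : F₀) ≠ 0 := by
        intro h0
        have := congrArg Subtype.val h0
        exact inv_ne_zero hd0 this
      refine ⟨Units.mk0 ⟨(d : F)⁻¹, hdF₀⟩ hl0, ?_⟩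
      apply Subtype.ext
      apply Prod.ext
      · apply Units.ext
        show (((Units.map F₀.subtype.toMonoidHom (Units.mk0 ⟨(d : F)⁻¹, hdF₀⟩ hl0))⁻¹ : Fˣ) : F) = (d : F)
        rw [Units.val_inv_eq_inv_val]
        show ((d : F)⁻¹)⁻¹ = (d : F)
        rw [inv_inv]
      · apply Units.ext
        ext i j
        show ((Matrix.scalar (Fin n) (⟨(d : F)⁻¹, hdF₀⟩ : F₀)) i j : F) = ((h : Matrix (Fin n) (Fin n) F₀) i j : F)
        have := hent i j
        rw [Matrix.scalar_apply, Matrix.diagonal_apply]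
        rw [Matrix.one_apply] at this
        by_cases hij : i = j
        · rw [if_pos hij] at this ⊢
          show (d : F)⁻¹ = _
          field_simp
          linear_combination (-1 : F) * this
        · rw [if_neg hij] at this ⊢
          rcases mul_eq_zero.1 this with h0 | h0
          · exact absurd h0 hd0
          · rw [h0]; rfl
  -- counting
  have hcount : Nat.card Ψ.ker * Nat.card Ψ.range = Nat.card (Fˣ × GL (Fin n) F₀) := by
    rw [← Subgroup.index_ker, Subgroup.card_mul_index]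
  have hX : Nat.card {g : GL (Fin n) F // ∃ c : F, c ≠ 0 ∧
      (g : Matrix (Fin n) (Fin n) F).map σ = c • (g : Matrix (Fin n) (Fin n) F)} = Nat.card Ψ.range := by
    apply Nat.card_congr
    exact Equiv.subtypeEquivRight (fun g => (hrange g).symm)
  rw [hX]
  have hdom : Nat.card (Fˣ × GL (Fin n) F₀) = (q₀ ^ r - 1) * ∏ i : Fin n, (q₀ ^ n - q₀ ^ (i : ℕ)) := by
    rw [Nat.card_prod, Nat.card_units, Nat.card_eq_fintype_card, hF, Matrix.card_GL_field, hcardF₀]
  rw [hker, hdom] at hcount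
  have hdvd : q₀ - 1 ∣ q₀ ^ r - 1 := by
    simpa only [one_pow] using Nat.sub_dvd_pow_sub_pow q₀ 1 r
  obtain ⟨k, hk⟩ := hdvd
  have hpos : 0 < q₀ - 1 := by omega
  rw [hk, Nat.mul_div_cancel_left _ hpos]
  rw [hk, mul_assoc] at hcount
  exact Nat.eq_of_mul_eq_mul_left hpos hcount

end Cfsg.Agent.S2636
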