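import Cfsg.Statements.S2638


set_option autoImplicit false
open Cfsg

namespace Cfsg.Agent.S2638


open Polynomial Matrix

section
variable {F : Type*} [Field F] [Fintype F]

theorem minpoly_irred {p q : ℕ} [Fact p.Prime] [CharP F p] (hF : Fintype.card F = q) {n r : ℕ}
    (hn : 1 ≤ n) (hr : r.Prime) (hrp : r ≠ p) (hi : orderOf (q : ZMod r) = n)
    (A : Matrix (Fin n) (Fin n) F) (hAr : A ^ r = 1) (hA1 : A ≠ 1) :
    Irreducible (minpoly F A) ∧ (minpoly F A).natDegree = n := by
  classical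
  haveI : Fact r.Prime := ⟨hr⟩
  haveI : Nonempty (Fin n) := ⟨⟨0, hn⟩⟩
  obtain ⟨μ, hμ⟩ : ∃ μ : F[X], μ = minpoly F A := ⟨_, rfl⟩
  rw [← hμ]
  have hint : IsIntegral F A := Matrix.isIntegral A
  have hmonic : μ.Monic := hμ ▸ minpoly.monic hint
  have haeval : aeval A μ = 0 := hμ ▸ minpoly.aeval F A
  have hmin : ∀ P : F[X], aeval A P = 0 → μ ∣ P := fun P hP => hμ ▸ minpoly.dvd F A hP
  have hμ0 : μ ≠ 0 := hmonic.ne_zero
  have hdeg_le : μ.natDegree ≤ n := by
    have h1 := Polynomial.natDegree_le_of_dvd (Matrix.minpoly_dvd_charpoly A)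
      (Matrix.charpoly_monic A).ne_zero
    rw [Matrix.charpoly_natDegree_eq_dim, Fintype.card_fin, ← hμ] at h1
    exact h1
  have hdvd : μ ∣ X ^ r - 1 := by
    apply hmin
    rw [map_sub, map_pow, aeval_X, map_one, hAr, sub_self]
  obtain ⟨g, hg⟩ : ∃ g : F[X], g = EuclideanDomain.gcd μ (cyclotomic r F) := ⟨_, rfl⟩
  have hgμ : g ∣ μ := hg ▸ EuclideanDomain.gcd_dvd_left _ _
  have hgΦ : g ∣ cyclotomic r F := hg ▸ EuclideanDomain.gcd_dvd_right _ _
  have hg0 : g ≠ 0 := fun h => hμ0 (zero_dvd_iff.1 (h ▸ hgμ))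
  have hμg : μ ∣ g * (X - 1) := by
    have h1 := EuclideanDomain.gcd_eq_gcd_ab μ (cyclotomic r F)
    rw [← hg] at h1
    rw [h1, add_mul]
    apply dvd_add
    · rw [mul_assoc]
      exact dvd_mul_right _ _
    · have h2 : cyclotomic r F * EuclideanDomain.gcdB μ (cyclotomic r F) * (X - 1)
          = EuclideanDomain.gcdB μ (cyclotomic r F) * (cyclotomic r F * (X - 1)) := by ring
      rw [h2, cyclotomic_prime_mul_X_sub_one]
      exact dvd_mul_of_dvd_right hdvd _
  have hgu : ¬ IsUnit g := by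
    intro hu
    have h1 : μ ∣ X - 1 := (hu.dvd_mul_left).1 hμg
    obtain ⟨c, hc⟩ := h1
    have h2 : aeval A (X - 1 : F[X]) = 0 := by rw [hc, map_mul, haeval, zero_mul]
    apply hA1
    rw [map_sub, aeval_X, map_one] at h2
    exact sub_eq_zero.1 h2
  obtain ⟨P, hPirr, hPg⟩ := WfDvdMonoid.exists_irreducible_factor hgu hg0
  obtain ⟨f, hp, hcard⟩ := FiniteField.card F p
  have hcop : p.Coprime r := (Nat.coprime_primes hp hr).2 (Ne.symm hrp)
  have hPdeg := Polynomial.natDegree_of_dvd_cyclotomic_of_irreducible hcard hcop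
    (hPg.trans hgΦ) hPirr
  have hord : orderOf (ZMod.unitOfCoprime (p ^ (f : ℕ)) (hcop.pow_left f)) = n := by
    rw [← orderOf_units, ZMod.coe_unitOfCoprime, ← hcard, hF]
    exact hi
  rw [hord] at hPdeg
  have hPμ : P ∣ μ := hPg.trans hgμ
  have h1 : P.natDegree ≤ μ.natDegree := Polynomial.natDegree_le_of_dvd hPμ hμ0
  have hassoc : Associated P μ :=
    Polynomial.associated_of_dvd_of_natDegree_le hPμ hμ0 (by omega)
  exact ⟨hassoc.irreducible hPirr, by omega⟩

end
/-- If an element x of GL_n(q), n ≥ 1, has prime order r and the multiplicative order of q modulo r is n (r is a primitive prime divisor of q^n − 1, so x acts irreducibly), then the centraliser of x in GL_n(q) is cyclic of order q^n − 1 (the multiplicative group of the field with q^n elements, a Singer cycle). -/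
theorem result {F : Type*} [Field F] [Fintype F] {p q : ℕ} [Fact p.Prime] [CharP F p] (hF : Fintype.card F = q) {n r : ℕ} (hn : 1 ≤ n) (hr : r.Prime) (hrp : r ≠ p) (hi : orderOf (q : ZMod r) = n) (x : GL (Fin n) F) (hx : orderOf x = r) : IsCyclic ↥(Subgroup.centralizer ({x} : Set (GL (Fin n) F))) ∧ Nat.card ↥(Subgroup.centralizer ({x} : Set (GL (Fin n) F))) = q ^ n - 1 := by
  classical
  haveI : Nonempty (Fin n) := ⟨⟨0, hn⟩⟩
  have hAr : (x : Matrix (Fin n) (Fin n) F) ^ r = 1 := by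
    have h1 : x ^ r = 1 := by rw [← hx]; exact pow_orderOf_eq_one x
    have h2 := congrArg (fun g : GL (Fin n) F => (g : Matrix (Fin n) (Fin n) F)) h1
    simpa using h2
  have hA1 : (x : Matrix (Fin n) (Fin n) F) ≠ 1 := by
    intro h
    have h1 : x = 1 := Units.ext h
    rw [h1, orderOf_one] at hx
    exact hr.one_lt.ne hx
  obtain ⟨hirr, hdeg⟩ := minpoly_irred hF hn hr hrp hi _ hAr hA1
  obtain ⟨A, hA⟩ : ∃ A : Matrix (Fin n) (Fin n) F, A = (x : Matrix (Fin n) (Fin n) F) := ⟨_, rfl⟩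
  rw [← hA] at hirr hdeg hAr hA1
  obtain ⟨μ, hμ⟩ : ∃ μ : F[X], μ = minpoly F A := ⟨_, rfl⟩
  rw [← hμ] at hirr hdeg
  have haeval : aeval A μ = 0 := hμ ▸ minpoly.aeval F A
  have hμ0 : μ ≠ 0 := hirr.ne_zero
  haveI : Fact (Irreducible μ) := ⟨hirr⟩
  haveI hfin : Module.Finite F (AdjoinRoot μ) := (AdjoinRoot.powerBasis hμ0).finite
  haveI : Finite (AdjoinRoot μ) := Module.finite_of_finite F
  have hfr : Module.finrank F (AdjoinRoot μ) = n := by
    rw [(AdjoinRoot.powerBasis hμ0).finrank, AdjoinRoot.powerBasis_dim, hdeg]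
  have hker : ∀ a ∈ Ideal.span {μ}, aeval A a = 0 := by
    intro a ha
    obtain ⟨c, rfl⟩ := Ideal.mem_span_singleton.1 ha
    rw [map_mul, haeval, zero_mul]
  let φ : AdjoinRoot μ →ₐ[F] Matrix (Fin n) (Fin n) F :=
    Ideal.Quotient.liftₐ (Ideal.span {μ}) (aeval A) hker
  have hφmk : ∀ P : F[X], φ (AdjoinRoot.mk μ P) = aeval A P := fun P => rfl
  have hmem : ∀ l : AdjoinRoot μ, φ l ∈ Algebra.adjoin F {A} := by
    intro l
    obtain ⟨P, rfl⟩ := AdjoinRoot.mk_surjective l
    rw [hφmk]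
    exact Polynomial.aeval_mem_adjoin_singleton F A
  have hcomm : ∀ (G : Matrix (Fin n) (Fin n) F), Commute G A → ∀ l : AdjoinRoot μ,
      Commute G (φ l) := fun G hG l =>
    Algebra.commute_of_mem_adjoin_singleton_of_commute (hmem l) hG
  have hφinj : Function.Injective (φ : AdjoinRoot μ →* Matrix (Fin n) (Fin n) F) :=
    (φ : AdjoinRoot μ →+* Matrix (Fin n) (Fin n) F).injective
  let v₀ : Fin n → F := Pi.single ⟨0, hn⟩ 1
  have hv₀ : v₀ ≠ 0 := by
    intro h
    have h1 := congrFun h ⟨0, hn⟩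
    simp [v₀] at h1
  let T : AdjoinRoot μ →ₗ[F] (Fin n → F) :=
    { toFun := fun l => φ l *ᵥ v₀
      map_add' := fun a b => by rw [map_add, Matrix.add_mulVec]
      map_smul' := fun c a => by rw [map_smul, Matrix.smul_mulVec, RingHom.id_apply] }
  have hTapp : ∀ l, T l = φ l *ᵥ v₀ := fun l => rfl
  have hTinj : Function.Injective T := by
    rw [injective_iff_map_eq_zero]
    intro l hl
    by_contra hl0
    apply hv₀
    have h1 : φ l⁻¹ * φ l = 1 := by rw [← map_mul, inv_mul_cancel₀ hl0, map_one]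
    have h2 : v₀ = (φ l⁻¹ * φ l) *ᵥ v₀ := by rw [h1, Matrix.one_mulVec]
    rw [h2, ← Matrix.mulVec_mulVec, ← hTapp l, hl, Matrix.mulVec_zero]
  have hTsurj : Function.Surjective T :=
    (LinearMap.injective_iff_surjective_of_finrank_eq_finrank
      (by rw [hfr, Module.finrank_fin_fun])).1 hTinj
  let ψ : (AdjoinRoot μ)ˣ →* GL (Fin n) F :=
    Units.map (φ : AdjoinRoot μ →* Matrix (Fin n) (Fin n) F)
  have hψval : ∀ u : (AdjoinRoot μ)ˣ, ((ψ u : GL (Fin n) F) : Matrix (Fin n) (Fin n) F)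
      = φ (u : AdjoinRoot μ) := fun u => rfl
  have hψinj : Function.Injective ψ := Units.map_injective hφinj
  have hrange : Subgroup.centralizer ({x} : Set (GL (Fin n) F)) = ψ.range := by
    ext g
    rw [Subgroup.mem_centralizer_singleton_iff, MonoidHom.mem_range]
    constructor
    · intro hg
      have hgA : Commute (g : Matrix (Fin n) (Fin n) F) A := by
        rw [hA]
        have h1 : ((g * x : GL (Fin n) F) : Matrix (Fin n) (Fin n) F)
            = ((x * g : GL (Fin n) F) : Matrix (Fin n) (Fin n) F) := by rw [hg]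
        rw [Units.val_mul, Units.val_mul] at h1
        exact h1
      obtain ⟨l, hl⟩ := hTsurj ((g : Matrix (Fin n) (Fin n) F) *ᵥ v₀)
      rw [hTapp] at hl
      have hgl : (g : Matrix (Fin n) (Fin n) F) = φ l := by
        apply Matrix.toLin'.injective
        apply LinearMap.ext
        intro v
        obtain ⟨l', rfl⟩ := hTsurj v
        rw [Matrix.toLin'_apply, Matrix.toLin'_apply, hTapp, Matrix.mulVec_mulVec,
          Matrix.mulVec_mulVec, (hcomm _ hgA l').eq, ← Matrix.mulVec_mulVec, ← hl,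
          Matrix.mulVec_mulVec, ← map_mul, ← map_mul, mul_comm]
      have hl0 : l ≠ 0 := by
        intro h0
        rw [h0, map_zero] at hgl
        exact g.ne_zero hgl
      refine ⟨Units.mk0 l hl0, Units.ext ?_⟩
      rw [hψval, Units.val_mk0]
      exact hgl.symm
    · rintro ⟨u, rfl⟩
      apply Units.ext
      rw [Units.val_mul, Units.val_mul, hψval, ← hA]
      exact ((hcomm A (Commute.refl A) (u : AdjoinRoot μ)).eq).symm
  let e : (AdjoinRoot μ)ˣ ≃* ↥(Subgroup.centralizer ({x} : Set (GL (Fin n) F))) :=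
    (MonoidHom.ofInjective hψinj).trans (MulEquiv.subgroupCongr hrange.symm)
  refine ⟨(e.isCyclic).1 inferInstance, ?_⟩
  rw [← Nat.card_congr e.toEquiv, Nat.card_units, Module.natCard_eq_pow_finrank (K := F), hfr,
    Nat.card_eq_fintype_card, hF]

end Cfsg.Agent.S2638
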