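import Mathlib
import Cfsg.Statements.S2639
import Cfsg.Agent.Lib.Helper5.SpEmbed

set_option autoImplicit false
open Cfsg

namespace Cfsg.Agent.S2639

open Cfsg.Agent.Lib.Helper5

theorem result {K F : Type*} [Field K] [Fintype K] [Field F] [Fintype F] {q : ℕ} (hK : Fintype.card K = q ^ 2) (hF : Fintype.card F = q) (m : ℕ) : ∃ φ : ↥(Cfsg.GU m K q) →* ↥(Matrix.symplecticGroup (Fin m) F), Function.Injective φ := by
  classical
  subst hF
  obtain ⟨_i, hfr⟩ := exists_algebra_of_card_sq (F := F) (K := K) hK
  have hsep : ∀ x : K, (∀ c : K, Algebra.trace F K (c * x) = 0) → x = 0 := by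
    intro x hx
    exact (traceForm_nondegenerate F K).2 x (fun c => hx c)
  obtain ⟨σ, hσdef⟩ : ∃ σ : K ≃ₐ[F] K, σ = FiniteField.frobeniusAlgEquivOfAlgebraic F K := ⟨_, rfl⟩
  have hσapply : ∀ x : K, σ x = x ^ Fintype.card F := by
    intro x; rw [hσdef]; rfl
  have hσord : orderOf σ = 2 := by
    rw [hσdef, FiniteField.orderOf_frobeniusAlgEquivOfAlgebraic, hfr]
  have hσσ : ∀ x : K, σ (σ x) = x := by
    intro x
    have h2 : σ ^ 2 = 1 := by rw [← hσord]; exact pow_orderOf_eq_one σ
    have := congrArg (fun τ : K ≃ₐ[F] K => τ x) h2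
    simpa [pow_two, AlgEquiv.mul_apply] using this
  obtain ⟨x₀, hx₀⟩ : ∃ x₀ : K, σ x₀ ≠ x₀ := by
    by_contra hcon
    have hall : ∀ x : K, σ x = x := by
      intro x; by_contra hx; exact hcon ⟨x, hx⟩
    have h1 : σ = 1 := AlgEquiv.ext hall
    rw [h1, orderOf_one] at hσord
    omega
  obtain ⟨lam, hlam⟩ : ∃ lam : K, lam = x₀ - σ x₀ := ⟨_, rfl⟩
  have hlam0 : lam ≠ 0 := by rw [hlam]; exact sub_ne_zero.mpr (Ne.symm hx₀)
  have hlamσ : σ lam = -lam := by rw [hlam, map_sub, hσσ, neg_sub]
  have htr : ∀ y : K, algebraMap F K (Algebra.trace F K y) = y + σ y := by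
    intro y
    rw [FiniteField.algebraMap_trace_eq_sum_pow, hfr, Finset.sum_range_succ, Finset.sum_range_one,
      pow_zero, pow_one, pow_one, Nat.card_eq_fintype_card, hσapply]
  let B : LinearMap.BilinForm F (Fin m → K) :=
    LinearMap.mk₂ F (fun u v => Algebra.trace F K (lam * ∑ i, u i * σ (v i)))
      (fun u u' v => by
        simp only [Pi.add_apply, add_mul, Finset.sum_add_distrib, mul_add, map_add])
      (fun c u v => by
        simp only [Pi.smul_apply, smul_mul_assoc, ← Finset.smul_sum, mul_smul_comm, map_smul])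
      (fun u v v' => by
        simp only [Pi.add_apply, map_add, mul_add, Finset.sum_add_distrib])
      (fun c u v => by
        simp only [Pi.smul_apply, map_smul, mul_smul_comm, ← Finset.smul_sum])
  have hBdef : ∀ u v, B u v = Algebra.trace F K (lam * ∑ i, u i * σ (v i)) := fun u v => rfl
  have hA : B.IsAlt := by
    intro u
    rw [hBdef]
    apply (algebraMap F K).injective
    rw [htr, map_zero, map_mul, hlamσ, map_sum]
    have : ∑ i, σ (u i * σ (u i)) = ∑ i, u i * σ (u i) := by
      apply Finset.sum_congr rfl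
      intro i _
      rw [map_mul, hσσ, mul_comm]
    rw [this]
    ring
  have hleft : ∀ u, (∀ v, B u v = 0) → u = 0 := by
    intro u hu
    ext j
    have h1 : lam * u j = 0 := by
      apply hsep
      intro c
      have := hu (Pi.single j (σ.symm c))
      rw [hBdef, Finset.sum_eq_single j] at this
      · rw [Pi.single_eq_same, AlgEquiv.apply_symm_apply] at this
        rw [← this]
        congr 1
        ring
      · intro i _ hij
        rw [Pi.single_eq_of_ne hij, map_zero, mul_zero]
      · intro h; exact absurd (Finset.mem_univ _) h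
    rcases mul_eq_zero.mp h1 with h | h
    · exact absurd h hlam0
    · exact h
  have hB : B.Nondegenerate := by
    refine ⟨hleft, ?_⟩
    intro y hy
    apply hleft
    intro u
    rw [← hA.neg_eq, hy u, neg_zero]
  have hdim : Module.finrank F (Fin m → K) = 2 * m := by
    rw [Module.finrank_pi_fintype]
    simp only [hfr, Finset.sum_const, Finset.card_univ, Fintype.card_fin, smul_eq_mul]
    ring
  let ρ : ↥(Cfsg.GU m K (Fintype.card F)) →* ((Fin m → K) ≃ₗ[F] (Fin m → K)) :=
    MonoidHom.mk' (fun g =>
      { toFun := fun v => ((g : GL (Fin m) K) : Matrix (Fin m) (Fin m) K).mulVec v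
        invFun := fun v => (((g : GL (Fin m) K)⁻¹ : GL (Fin m) K) : Matrix (Fin m) (Fin m) K).mulVec v
        map_add' := fun v v' => Matrix.mulVec_add _ v v'
        map_smul' := fun c v => Matrix.mulVec_smul _ c v
        left_inv := fun v => by
          beta_reduce
          rw [Matrix.mulVec_mulVec, ← Units.val_mul, inv_mul_cancel, Units.val_one,
            Matrix.one_mulVec]
        right_inv := fun v => by
          beta_reduce
          rw [Matrix.mulVec_mulVec, ← Units.val_mul, mul_inv_cancel, Units.val_one,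
            Matrix.one_mulVec] })
      (fun g g' => by
        apply LinearEquiv.ext
        intro v
        show (((g * g' : ↥(Cfsg.GU m K (Fintype.card F))) : GL (Fin m) K) : Matrix (Fin m) (Fin m) K).mulVec v
          = ((g : GL (Fin m) K) : Matrix (Fin m) (Fin m) K).mulVec
            (((g' : GL (Fin m) K) : Matrix (Fin m) (Fin m) K).mulVec v)
        rw [Matrix.mulVec_mulVec, Subgroup.coe_mul, Units.val_mul])
  have hρapply : ∀ g v, ρ g v = ((g : GL (Fin m) K) : Matrix (Fin m) (Fin m) K).mulVec v :=
    fun g v => rfl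
  have hρ : Function.Injective ρ := by
    intro g g' h
    apply Subtype.ext
    apply Units.ext
    apply Matrix.toLin'.injective
    apply LinearMap.ext
    intro v
    rw [Matrix.toLin'_apply, Matrix.toLin'_apply, ← hρapply, ← hρapply, h]
  have hpres : ∀ g u v, B (ρ g u) (ρ g v) = B u v := by
    intro g u v
    rw [hBdef, hBdef, hρapply, hρapply]
    have := g.2 u v
    have h2 : ∑ i, ((g : GL (Fin m) K) : Matrix (Fin m) (Fin m) K).mulVec u i *
        σ (((g : GL (Fin m) K) : Matrix (Fin m) (Fin m) K).mulVec v i) = ∑ i, u i * σ (v i) := by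
      simp only [hσapply]
      exact this
    rw [h2]
  exact exists_embedding_symplectic B hB hA hdim ρ hρ hpres

end Cfsg.Agent.S2639
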