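import Mathlib
import Cfsg.Statements.S2640
import Cfsg.Agent.Lib.Helper5.OEmbed
import Cfsg.Agent.Lib.Helper5.QFIso
import Cfsg.Agent.Lib.Helper5.WittIndex2

set_option autoImplicit false
open Cfsg

namespace Cfsg.Agent.S2640

open Cfsg.Agent.Lib.Helper5

theorem result {K F : Type*} [Field K] [Fintype K] [Field F] [Fintype F] {q : ℕ} (hK : Fintype.card K = q ^ 2) (hF : Fintype.card F = q) (m : ℕ) (hm : Even m) : ∃ φ : ↥(Cfsg.GU m K q) →* ↥(Cfsg.isometryGroup F (Cfsg.quadFormPlus m F)), Function.Injective φ := by
  classical
  subst hF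
  obtain ⟨_i, σ, Q, ρ, hfr, hσapply, hσσ, hQnd, hρ, hpres, hQh⟩ :=
    gu_quadratic_setup (F := F) (K := K) hK m
  rcases Nat.eq_zero_or_pos m with rfl | hmpos
  · refine ⟨1, ?_⟩
    intro g g' _
    apply Subtype.ext
    apply Units.ext
    ext i
    exact i.elim0
  have hm1 : 1 ≤ m := hmpos
  have hV : Module.finrank F (Fin m → K) = 2 * m := by
    rw [Module.finrank_pi_fintype]
    simp only [hfr, Finset.sum_const, Finset.card_univ, Fintype.card_fin, smul_eq_mul]
    ring
  rcases exists_iso_plus_or_minus hm1 hV Q hQnd with ⟨g, hg⟩ | ⟨ζ, hζ, g, hg⟩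
  · exact exists_embedding_isometryGroup (fun v => Q v) (Cfsg.quadFormPlus m F) g hg ρ hρ hpres
  · exfalso
    obtain ⟨k, rfl⟩ := hm
    obtain ⟨μ, hμ⟩ := FiniteField.norm_surjective F K (-1 : F)
    have hμ' : μ * σ μ = -1 := by
      have := FiniteField.algebraMap_norm_eq_prod_pow F K μ
      rw [hμ, hfr, Finset.prod_range_succ, Finset.prod_range_one, pow_zero, pow_one, pow_one,
        Nat.card_eq_fintype_card, ← hσapply, map_neg, map_one] at this
      exact this.symm
    let ι₀ : (Fin k → K) →ₗ[F] (Fin (k + k) → K) :=
      { toFun := fun x => Fin.append x (μ • x)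
        map_add' := fun x y => by
          ext i
          refine Fin.addCases (fun j => ?_) (fun j => ?_) i
          · simp only [Pi.add_apply, Fin.append_left]
          · simp only [Pi.add_apply, Fin.append_right, Pi.smul_apply, smul_eq_mul, mul_add]
        map_smul' := fun c x => by
          ext i
          refine Fin.addCases (fun j => ?_) (fun j => ?_) i
          · simp only [Pi.smul_apply, Fin.append_left, RingHom.id_apply]
          · simp only [Pi.smul_apply, Fin.append_right, RingHom.id_apply, smul_eq_mul,
              mul_smul_comm] }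
    have hι₀ : ∀ x, ι₀ x = Fin.append x (μ • x) := fun x => rfl
    have hinj : Function.Injective ι₀ := by
      intro x y h
      ext j
      have := congrFun h (Fin.castAdd k j)
      rw [hι₀, hι₀, Fin.append_left, Fin.append_left] at this
      exact this
    have hts : ∀ x, Q (ι₀ x) = 0 := by
      intro x
      apply (algebraMap F K).injective
      rw [hQh, map_zero, Fin.sum_univ_add, hι₀]
      simp only [Fin.append_left, Fin.append_right, Pi.smul_apply, smul_eq_mul, map_mul]
      rw [← Finset.sum_add_distrib]
      apply Finset.sum_eq_zero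
      intro j _
      have : x j * σ (x j) + μ * x j * (σ μ * σ (x j)) = (1 + μ * σ μ) * (x j * σ (x j)) := by
        ring
      rw [this, hμ']
      ring
    have hdimU : Module.finrank F (LinearMap.range ι₀) = k + k := by
      rw [LinearMap.finrank_range_of_inj hinj, Module.finrank_pi_fintype]
      simp only [hfr, Finset.sum_const, Finset.card_univ, Fintype.card_fin, smul_eq_mul]
      ring
    have h1 : Module.finrank F ((LinearMap.range ι₀).map g.toLinearMap) ≤ k + k - 1 := by
      apply finrank_le_of_ts_minus (k + k - 1) 1 ζ (aniso_of_irred ζ hζ)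
      rintro _ ⟨_, ⟨x, rfl⟩, rfl⟩
      have := hg (ι₀ x)
      rw [hts] at this
      exact this.symm
    rw [LinearEquiv.finrank_map_eq, hdimU] at h1
    omega

end Cfsg.Agent.S2640
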