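import Mathlib
import Cfsg.Statements.S2641
import Cfsg.Agent.Lib.Helper5.OEmbed2

set_option autoImplicit false
open Cfsg

namespace Cfsg.Agent.S2641

open Cfsg.Agent.Lib.Helper5

theorem result {K F : Type*} [Field K] [Fintype K] [Field F] [Fintype F] {q : ℕ} (hK : Fintype.card K = q ^ 2) (hF : Fintype.card F = q) (m : ℕ) (hm : Odd m) (a b : F) (hab : ∀ z₁ z₂ : F, z₁ ^ 2 + a * z₁ * z₂ + b * z₂ ^ 2 = 0 → z₁ = 0 ∧ z₂ = 0) : ∃ φ : ↥(Cfsg.GU m K q) →* ↥(Cfsg.isometryGroup F (Cfsg.quadFormMinus (m - 1) F a b)), Function.Injective φ := by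
  classical
  subst hF
  obtain ⟨_i, hfr⟩ := exists_algebra_of_card_sq (F := F) (K := K) hK
  obtain ⟨j, rfl⟩ := hm
  obtain ⟨Q, ρ, hQnd, hρ, hpres, hQh⟩ := gu_quadratic_setup' (F := F) (K := K) hfr (2 * j + 1)
  obtain ⟨Q', ρ', hQnd', -, -, hQh'⟩ := gu_quadratic_setup' (F := F) (K := K) hfr (2 * j)
  obtain ⟨g', hg'⟩ := herm_even_iso hfr (2 * j) ⟨j, by ring⟩ Q' hQnd' hQh'
  obtain ⟨t, ht⟩ := exists_norm_iso (K := K) hfr a b hab
  have hsub : 2 * j + 1 - 1 = 2 * j := rfl
  let E : (Fin (2 * j + 1) → K) ≃ₗ[F] ((Fin (2 * j) ⊕ Fin (2 * j)) ⊕ Fin 2 → F) :=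
    { toFun := fun u => Sum.elim (g' (Fin.tail u)) (t.symm (u 0))
      invFun := fun w => Fin.cons (t (fun i => w (Sum.inr i))) (g'.symm (fun i => w (Sum.inl i)))
      map_add' := fun u u' => by
        ext s
        rcases s with s | s
        · simp only [Sum.elim_inl, Pi.add_apply]
          have : Fin.tail (u + u') = Fin.tail u + Fin.tail u' := rfl
          rw [this, map_add]
          rfl
        · simp only [Sum.elim_inr, Pi.add_apply, map_add]
      map_smul' := fun c u => by
        ext s
        rcases s with s | s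
        · simp only [Sum.elim_inl, Pi.smul_apply, RingHom.id_apply]
          have : Fin.tail (c • u) = c • Fin.tail u := rfl
          rw [this, map_smul]
          rfl
        · simp only [Sum.elim_inr, Pi.smul_apply, RingHom.id_apply, map_smul]
      left_inv := fun u => by
        beta_reduce
        simp only [Sum.elim_inr, Sum.elim_inl]
        rw [LinearEquiv.apply_symm_apply, LinearEquiv.symm_apply_apply]
        exact Fin.cons_self_tail u
      right_inv := fun w => by
        beta_reduce
        ext s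
        rcases s with s | s
        · simp only [Sum.elim_inl, Fin.tail_cons, LinearEquiv.apply_symm_apply]
        · simp only [Sum.elim_inr, Fin.cons_zero, LinearEquiv.symm_apply_apply] }
  have hE : ∀ u, E u = Sum.elim (g' (Fin.tail u)) (t.symm (u 0)) := fun u => rfl
  have hiso : ∀ u, Q u = Cfsg.quadFormMinus (2 * j) F a b (E u) := by
    intro u
    apply (algebraMap F K).injective
    rw [hQh, hE]
    unfold Cfsg.quadFormMinus
    simp only [Sum.elim_inl, Sum.elim_inr]
    rw [map_add, ht, LinearEquiv.apply_symm_apply, Fin.sum_univ_succ]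
    have h1 := hg' (Fin.tail u)
    unfold Cfsg.quadFormPlus at h1
    rw [← h1, hQh']
    rw [add_comm]
    rfl
  exact exists_embedding_isometryGroup (fun v => Q v) (Cfsg.quadFormMinus (2 * j) F a b) E hiso ρ hρ hpres

end Cfsg.Agent.S2641
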