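import Mathlib
import Cfsg.Statements.S2665
import Cfsg.Agent.Lib.Helper5.Lang

set_option autoImplicit false
open scoped MatrixGroups
open Cfsg

namespace Cfsg.Agent.S2665

theorem result {K : Type*} [Field K] [IsAlgClosed K] (p : ℕ) [Fact p.Prime] [CharP K p]
    (f : ℕ) (hf : 1 ≤ f) (n : ℕ) (g : GL (Fin n) K) :
    ∃ x : GL (Fin n) K, g = x * (Matrix.GeneralLinearGroup.map (iterateFrobenius K p f) x)⁻¹ := by
  classical
  set σ : K →+* K := iterateFrobenius K p f with hσdef
  have hq2 : 2 ≤ p ^ f := by
    have hp := (Fact.out : p.Prime).two_le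
    calc 2 ≤ p := hp
      _ = p ^ 1 := (pow_one p).symm
      _ ≤ p ^ f := Nat.pow_le_pow_right (by omega) hf
  have hσ : ∀ c, σ c = c ^ (p ^ f) := fun c => rfl
  let G : Matrix (Fin n) (Fin n) K := (g : Matrix (Fin n) (Fin n) K)
  let T : (Fin n → K) → (Fin n → K) := fun v => G.mulVec (fun i => σ (v i))
  have hT : Cfsg.Agent.Lib.Helper5.SemiLin σ T := by
    refine ⟨?_, ?_⟩
    · intro x y
      show G.mulVec (fun i => σ ((x + y) i)) = G.mulVec (fun i => σ (x i)) + G.mulVec (fun i => σ (y i))
      rw [← Matrix.mulVec_add]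
      congr 1
      funext i
      simp
    · intro c x
      show G.mulVec (fun i => σ ((c • x) i)) = σ c • G.mulVec (fun i => σ (x i))
      rw [← Matrix.mulVec_smul]
      congr 1
      funext i
      simp
  have hinj : Function.Injective T := by
    intro v w hvw
    have hgg : ((g⁻¹ : GL (Fin n) K) : Matrix (Fin n) (Fin n) K) * G = 1 := by
      show ((g⁻¹ : GL (Fin n) K) : Matrix (Fin n) (Fin n) K) * (g : Matrix (Fin n) (Fin n) K) = 1
      rw [← Units.val_mul, inv_mul_cancel, Units.val_one]
    have h1 : (fun i => σ (v i)) = fun i => σ (w i) := by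
      have h2 := congrArg (fun u => ((g⁻¹ : GL (Fin n) K) : Matrix (Fin n) (Fin n) K).mulVec u) hvw
      simp only [T, Matrix.mulVec_mulVec, hgg, Matrix.one_mulVec] at h2
      exact h2
    funext i
    exact σ.injective (congrFun h1 i)
  have hspan := Cfsg.Agent.Lib.Helper5.span_fixed_eq_top hq2 hσ hT hinj
  obtain ⟨b, hbsub, hbspan, hbli⟩ := exists_linearIndependent K {v | T v = v}
  have hbfin : b.Finite := hbli.setFinite
  haveI : Fintype b := hbfin.fintype
  have hbtop : ⊤ ≤ Submodule.span K (Set.range (fun x : b => (x : Fin n → K))) := by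
    rw [Subtype.range_coe, hbspan, hspan]
  let B : Module.Basis b K (Fin n → K) := Module.Basis.mk hbli hbtop
  have hcard : Fintype.card (Fin n) = Fintype.card b := by
    rw [Fintype.card_fin, ← Module.finrank_eq_card_basis B, Module.finrank_fin_fun]
  let e : Fin n ≃ b := Fintype.equivOfCardEq hcard
  let xM : Matrix (Fin n) (Fin n) K := Matrix.of fun i j => (e j : Fin n → K) i
  have hcol : xM.col = fun j => (e j : Fin n → K) := by
    funext j i
    rfl
  have hunit : IsUnit xM := by
    rw [← Matrix.linearIndependent_cols_iff_isUnit, hcol]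
    exact hbli.comp e e.injective
  have hfix : G * xM.map σ = xM := by
    ext i j
    have hj : T (e j : Fin n → K) = (e j : Fin n → K) := hbsub (e j).2
    have h3 := congrFun hj i
    rw [Matrix.mul_apply]
    exact h3
  refine ⟨hunit.unit, ?_⟩
  rw [eq_mul_inv_iff_mul_eq]
  apply Units.ext
  show G * xM.map σ = xM
  exact hfix

end Cfsg.Agent.S2665
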