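import Cfsg.Statements.S2666
import Cfsg.Agent.Lib.Lead.Shintani

set_option autoImplicit false
open Cfsg

namespace Cfsg.Agent.S2666

/-- Shintani descent, in an abstract form. Let `σ` be an automorphism of a group `X` such that the maps `a ↦ a·σ(a)⁻¹` and `a ↦ a·σᵉ(a)⁻¹` are surjective on `X` (the Lang–Steinberg property, which holds when `X` is a connected algebraic group and `σ` a Steinberg endomorphism), where `e ≥ 1`. Write `G` for the subgroup of fixed points of `σᵉ` and `H` for the subgroup of fixed points of `σ`. The `G`-conjugacy classes in the coset `G σ` of the semidirect product of `G` by `σ` correspond to the orbits of `G` on itself under twisted conjugation `g ↦ k g σ(k)⁻¹`, and the `e`-th power of `g σ` has `G`-part the norm `g σ(g) ⋯ σ^(e-1)(g)`. For `g` in `G` and any `a` with `g = a σ(a)⁻¹`, put `x = σᵉ(a)⁻¹ a`. Then: (1) `x` lies in `H`, and `a⁻¹ · (g σ(g) ⋯ σ^(e-1)(g)) · a = x`; (2) for `g,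 g'` in `G` with such elements `a, b` and `x, x'`, the elements `g, g'` are twisted-conjugate under `G` if and only if `x, x'` are conjugate in `H`; (3) every element of `H` arises as such an `x`. So `g ↦ x` induces a well-defined bijection from the twisted `G`-classes of `G` onto the conjugacy classes of `H` (the Shintani map). -/
theorem result {X : Type*} [Group X] (σ : MulAut X) (e : ℕ) (he : 1 ≤ e)
    (hL : ∀ g : X, ∃ a : X, g = a * (σ a)⁻¹) (hLe : ∀ g : X, ∃ a : X, g = a * ((σ ^ e) a)⁻¹) :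
    (∀ g ∈ (MulEquiv.toMonoidHom (σ ^ e)).eqLocus (MonoidHom.id X), ∀ a : X, g = a * (σ a)⁻¹ →
        ((σ ^ e) a)⁻¹ * a ∈ (MulEquiv.toMonoidHom σ).eqLocus (MonoidHom.id X) ∧
          a⁻¹ * ((List.range e).map (fun i => (σ ^ i) g)).prod * a = ((σ ^ e) a)⁻¹ * a) ∧
    (∀ g ∈ (MulEquiv.toMonoidHom (σ ^ e)).eqLocus (MonoidHom.id X), ∀ g' ∈ (MulEquiv.toMonoidHom (σ ^ e)).eqLocus (MonoidHom.id X), ∀ a b : X,
        g = a * (σ a)⁻¹ → g' = b * (σ b)⁻¹ →
          ((∃ k ∈ (MulEquiv.toMonoidHom (σ ^ e)).eqLocus (MonoidHom.id X), g' = k * g * (σ k)⁻¹) ↔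
            (∃ h ∈ (MulEquiv.toMonoidHom σ).eqLocus (MonoidHom.id X), ((σ ^ e) b)⁻¹ * b = h * (((σ ^ e) a)⁻¹ * a) * h⁻¹))) ∧
    (∀ x ∈ (MulEquiv.toMonoidHom σ).eqLocus (MonoidHom.id X), ∃ g ∈ (MulEquiv.toMonoidHom (σ ^ e)).eqLocus (MonoidHom.id X), ∃ a : X,
        g = a * (σ a)⁻¹ ∧ ((σ ^ e) a)⁻¹ * a = x) := by
  refine ⟨?_, ?_, ?_⟩
  · intro g hg a ha
    have hg' : (σ ^ e) g = g := hg
    have hgx : (σ ^ e) (a * (σ a)⁻¹) = a * (σ a)⁻¹ := by rw [← ha]; exact hg'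
    refine ⟨Cfsg.Agent.Lib.Lead.Shintani.descent_fixed σ e a hgx, ?_⟩
    rw [ha, Cfsg.Agent.Lib.Lead.Shintani.norm_eq σ a e]
    group
  · intro g hg g' hg' a b ha hb
    have hgτ : (σ ^ e) g = g := hg
    have hgτ' : (σ ^ e) g' = g' := hg'
    have hgx : (σ ^ e) (a * (σ a)⁻¹) = a * (σ a)⁻¹ := by rw [← ha]; exact hgτ
    have hgx' : (σ ^ e) (b * (σ b)⁻¹) = b * (σ b)⁻¹ := by rw [← hb]; exact hgτ'
    constructor
    · rintro ⟨k, hk, hkg⟩
      have hkτ : (σ ^ e) k = k := hk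
      -- m = (k a)⁻¹ b is σ-fixed
      have hm : σ ((k * a)⁻¹ * b) = (k * a)⁻¹ * b := by
        rw [hb, ha] at hkg
        simp only [map_mul, map_inv, mul_inv_rev]
        have h1 : (σ a)⁻¹ * (σ k)⁻¹ * σ b = a⁻¹ * k⁻¹ * (k * (a * (σ a)⁻¹) * (σ k)⁻¹) * σ b := by group
        rw [h1, ← hkg]; group
      have hmτ : (σ ^ e) ((k * a)⁻¹ * b) = (k * a)⁻¹ * b :=
        Cfsg.Agent.Lib.Lead.Shintani.pow_fixed σ _ hm e
      refine ⟨((k * a)⁻¹ * b)⁻¹, ?_, ?_⟩
      · rw [Cfsg.Agent.Lib.Lead.Shintani.mem_fix_iff, map_inv, hm]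
      · -- b = k a m
        have hbm : b = k * a * ((k * a)⁻¹ * b) := by group
        have h2 : (σ ^ e) b = k * (σ ^ e) a * ((k * a)⁻¹ * b) := by
          conv_lhs => rw [hbm]
          rw [map_mul, map_mul, hmτ, hkτ]
        rw [h2]
        group
    · rintro ⟨h, hh, hconj⟩
      have hhσ : σ h = h := hh
      have hhτ : (σ ^ e) h = h := Cfsg.Agent.Lib.Lead.Shintani.pow_fixed σ _ hhσ e
      refine ⟨b * h * a⁻¹, ?_, ?_⟩
      · rw [Cfsg.Agent.Lib.Lead.Shintani.mem_fix_iff]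
        simp only [map_mul, map_inv]
        rw [hhτ]
        -- from x_b h = h x_a
        have h1 : ((σ ^ e) b)⁻¹ * b * h = h * (((σ ^ e) a)⁻¹ * a) := by
          rw [hconj]; group
        calc (σ ^ e) b * h * ((σ ^ e) a)⁻¹
            = (σ ^ e) b * (h * (((σ ^ e) a)⁻¹ * a)) * a⁻¹ := by group
          _ = (σ ^ e) b * (((σ ^ e) b)⁻¹ * b * h) * a⁻¹ := by rw [h1]
          _ = b * h * a⁻¹ := by group
      · rw [hb, ha]
        simp only [map_mul, map_inv]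
        rw [hhσ]
        group
  · intro x hx
    have hxσ : σ x = x := hx
    obtain ⟨c, hc⟩ := hLe x⁻¹
    have hax : ((σ ^ e) c⁻¹)⁻¹ * c⁻¹ = x := by
      rw [map_inv, inv_inv]
      have : x = (c * ((σ ^ e) c)⁻¹)⁻¹ := by rw [← hc, inv_inv]
      rw [this]; group
    clear hc
    generalize c⁻¹ = a at hax
    refine ⟨a * (σ a)⁻¹, ?_, a, rfl, hax⟩
    rw [Cfsg.Agent.Lib.Lead.Shintani.mem_fix_iff]
    -- τ a = a x⁻¹
    have h1 : (σ ^ e) a = a * x⁻¹ := by
      rw [← hax]; group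
    have h2 : (σ ^ e) (σ a) = σ a * x⁻¹ := by
      rw [← Cfsg.Agent.Lib.Lead.Shintani.apply_pow_comm, h1, map_mul, map_inv, hxσ]
    rw [map_mul, map_inv, h1, h2]
    group

end Cfsg.Agent.S2666
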