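import Cfsg.Statements.S2669
import Cfsg.Agent.Lib.Lead.Shintani
import Cfsg.Agent.Lib.Lead.Fibered

set_option autoImplicit false
open Cfsg

namespace Cfsg.Agent.S2669

/-- Shintani descent preserves numbers of fixed points on coset spaces (abstract form). Let `σ` be an automorphism of a group `X` and `e ≥ 1`; write `G` for the fixed points of `σᵉ` and `H` for the fixed points of `σ`, and assume `G` is finite. Let `Y` be a `σ`-stable subgroup of `X` on which the maps `a ↦ a σ(a)⁻¹` and `a ↦ a σᵉ(a)⁻¹` are surjective (as for a closed connected `σ`-stable subgroup of an algebraic group). Let `g ∈ G`, let `a ∈ X` satisfy `g = a σ(a)⁻¹` and put `x = σᵉ(a)⁻¹ a` (the Shintani image, an element of `H`). The element `g σ` of the semidirect product acts on the cosets of `Y ∩ G` in `G` by `k (Y ∩ G) ↦ g σ(k) (Y ∩ G)`, fixing that coset exactly when `k⁻¹ g σ(k) ∈ Y`; and `x` fixes the coset `h (Y ∩ H)`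 of `H` exactly when `h⁻¹ x h ∈ Y`. Then the two numbers of fixed cosets agree; in cross-multiplied form, `#{k ∈ G : k⁻¹ g σ(k) ∈ Y} · |Y ∩ H| = #{h ∈ H : h⁻¹ x h ∈ Y} · |Y ∩ G|`. -/
theorem result {X : Type*} [Group X] (σ : MulAut X) (e : ℕ) (he : 1 ≤ e)
    [Finite ↥((MulEquiv.toMonoidHom (σ ^ e)).eqLocus (MonoidHom.id X))]
    (Y : Subgroup X) (hY : ∀ y : X, y ∈ Y ↔ σ y ∈ Y)
    (hYL : ∀ y ∈ Y, ∃ a ∈ Y, y = a * (σ a)⁻¹) (hYLe : ∀ y ∈ Y, ∃ a ∈ Y, y = a * ((σ ^ e) a)⁻¹)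
    (g : X) (hg : g ∈ (MulEquiv.toMonoidHom (σ ^ e)).eqLocus (MonoidHom.id X)) (a : X) (ha : g = a * (σ a)⁻¹) :
    Nat.card {k : ↥((MulEquiv.toMonoidHom (σ ^ e)).eqLocus (MonoidHom.id X)) // (k : X)⁻¹ * g * σ k ∈ Y} *
        Nat.card ↥(Y ⊓ (MulEquiv.toMonoidHom σ).eqLocus (MonoidHom.id X)) =
      Nat.card {h : ↥((MulEquiv.toMonoidHom σ).eqLocus (MonoidHom.id X)) // (h : X)⁻¹ * (((σ ^ e) a)⁻¹ * a) * h ∈ Y} *
        Nat.card ↥(Y ⊓ (MulEquiv.toMonoidHom (σ ^ e)).eqLocus (MonoidHom.id X)) := by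
  classical
  obtain ⟨Xτ, hXτ⟩ : ∃ S : Subgroup X, S = (MulEquiv.toMonoidHom (σ ^ e)).eqLocus (MonoidHom.id X) := ⟨_, rfl⟩
  obtain ⟨Xσ, hXσ⟩ : ∃ S : Subgroup X, S = (MulEquiv.toMonoidHom σ).eqLocus (MonoidHom.id X) := ⟨_, rfl⟩
  have memτ : ∀ z : X, z ∈ Xτ ↔ (σ ^ e) z = z := by intro z; rw [hXτ]; exact Iff.rfl
  have memσ : ∀ z : X, z ∈ Xσ ↔ σ z = z := by intro z; rw [hXσ]; exact Iff.rfl
  have hle : Xσ ≤ Xτ := by
    intro z hz
    rw [memτ]
    exact Cfsg.Agent.Lib.Lead.Shintani.pow_fixed σ z ((memσ z).mp hz) e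
  have hfinτ : Finite Xτ := by rw [hXτ]; infer_instance
  have hfinσ : Finite Xσ := Finite.of_injective _ (Subgroup.inclusion_injective hle)
  have hYpow : ∀ n : ℕ, ∀ y ∈ Y, (σ ^ n) y ∈ Y := by
    intro n
    induction n with
    | zero => intro y hy; simpa using hy
    | succ n ih =>
      intro y hy
      rw [pow_succ', MulAut.mul_apply]
      exact (hY _).mp (ih y hy)
  have hYτ : ∀ y ∈ Y, (σ ^ e) y ∈ Y := hYpow e
  have hgτ : (σ ^ e) g = g := hg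
  -- the relation
  have I1 : ∀ k : Xτ, (∃ h : Xσ, (k : X)⁻¹ * a * (h : X) ∈ Y) ↔ (k : X)⁻¹ * g * σ (k : X) ∈ Y := by
    intro k
    constructor
    · rintro ⟨h, hy⟩
      have hh : σ (h : X) = h := (memσ _).mp h.2
      have h1 : (k : X)⁻¹ * g * σ (k : X) =
          ((k : X)⁻¹ * a * (h : X)) * (σ ((k : X)⁻¹ * a * (h : X)))⁻¹ := by
        rw [ha]
        simp only [map_mul, map_inv, hh]
        group
      rw [h1]
      exact Y.mul_mem hy (Y.inv_mem ((hY _).mp hy))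
    · intro hy
      obtain ⟨y, hyY, hyeq⟩ := hYL _ hy
      have hσ : σ (a⁻¹ * (k : X) * y) = a⁻¹ * (k : X) * y := by
        simp only [map_mul, map_inv]
        rw [ha] at hyeq
        calc (σ a)⁻¹ * σ (k : X) * σ y
            = a⁻¹ * (k : X) * ((k : X)⁻¹ * (a * (σ a)⁻¹) * σ (k : X)) * σ y := by group
          _ = a⁻¹ * (k : X) * (y * (σ y)⁻¹) * σ y := by rw [hyeq]
          _ = a⁻¹ * (k : X) * y := by group
      refine ⟨⟨a⁻¹ * (k : X) * y, (memσ _).mpr hσ⟩, ?_⟩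
      have : (k : X)⁻¹ * a * (a⁻¹ * (k : X) * y) = y := by group
      rw [this]
      exact hyY
  have I2 : ∀ h : Xσ, (∃ k : Xτ, (k : X)⁻¹ * a * (h : X) ∈ Y) ↔
      (h : X)⁻¹ * (((σ ^ e) a)⁻¹ * a) * (h : X) ∈ Y := by
    intro h
    have hh : (σ ^ e) (h : X) = h := (memτ _).mp (hle h.2)
    constructor
    · rintro ⟨k, hy⟩
      have hk : (σ ^ e) (k : X) = k := (memτ _).mp k.2
      have h1 : (h : X)⁻¹ * (((σ ^ e) a)⁻¹ * a) * (h : X) =
          ((σ ^ e) ((k : X)⁻¹ * a * (h : X)))⁻¹ * ((k : X)⁻¹ * a * (h : X)) := by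
        simp only [map_mul, map_inv, hh, hk]
        group
      rw [h1]
      exact Y.mul_mem (Y.inv_mem (hYτ _ hy)) hy
    · intro hy
      obtain ⟨c, hcY, hceq⟩ := hYLe _ (Y.inv_mem hy)
      have hτ : (σ ^ e) (a * (h : X) * c) = a * (h : X) * c := by
        simp only [map_mul, hh]
        calc (σ ^ e) a * (h : X) * (σ ^ e) c
            = a * (h : X) * ((h : X)⁻¹ * (((σ ^ e) a)⁻¹ * a) * (h : X))⁻¹ * (σ ^ e) c := by group
          _ = a * (h : X) * (c * ((σ ^ e) c)⁻¹) * (σ ^ e) c := by rw [hceq]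
          _ = a * (h : X) * c := by group
      refine ⟨⟨a * (h : X) * c, (memτ _).mpr hτ⟩, ?_⟩
      have : (a * (h : X) * c)⁻¹ * a * (h : X) = c⁻¹ := by group
      rw [this]
      exact Y.inv_mem hcY
  -- counting
  have C1 := Cfsg.Agent.Lib.Lead.card_fibered (A := Xτ) (B := Xσ)
    (fun k h => (k : X)⁻¹ * a * (h : X) ∈ Y) (Y.subgroupOf Xσ) (by
      intro k h h' hP
      rw [Subgroup.mem_subgroupOf]
      have : (k : X)⁻¹ * a * (h' : X) = ((k : X)⁻¹ * a * (h : X)) * (((h⁻¹ * h' : Xσ) : X)) := by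
        simp only [Subgroup.coe_mul, Subgroup.coe_inv]; group
      rw [this]
      exact Subgroup.mul_mem_cancel_left Y hP)
  have C2 := Cfsg.Agent.Lib.Lead.card_fibered (A := Xσ) (B := Xτ)
    (fun h k => (k : X)⁻¹ * a * (h : X) ∈ Y) (Y.subgroupOf Xτ) (by
      intro h k k' hP
      rw [Subgroup.mem_subgroupOf]
      have : (k' : X)⁻¹ * a * (h : X) = (((k⁻¹ * k' : Xτ) : X))⁻¹ * ((k : X)⁻¹ * a * (h : X)) := by
        simp only [Subgroup.coe_mul, Subgroup.coe_inv]; group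
      rw [this, Subgroup.mul_mem_cancel_right Y hP, Subgroup.inv_mem_iff])
  have hswap : Nat.card {ab : Xτ × Xσ // (ab.1 : X)⁻¹ * a * (ab.2 : X) ∈ Y} =
      Nat.card {ab : Xσ × Xτ // (ab.2 : X)⁻¹ * a * (ab.1 : X) ∈ Y} := by
    apply Nat.card_congr
    exact (Equiv.prodComm Xτ Xσ).subtypeEquiv (fun _ => Iff.rfl)
  rw [hswap, C2] at C1
  have E1 : Nat.card {k : Xτ // ∃ h : Xσ, (k : X)⁻¹ * a * (h : X) ∈ Y} =
      Nat.card {k : Xτ // (k : X)⁻¹ * g * σ (k : X) ∈ Y} :=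
    Nat.card_congr (Equiv.subtypeEquivRight I1)
  have E2 : Nat.card {h : Xσ // ∃ k : Xτ, (k : X)⁻¹ * a * (h : X) ∈ Y} =
      Nat.card {h : Xσ // (h : X)⁻¹ * (((σ ^ e) a)⁻¹ * a) * (h : X) ∈ Y} :=
    Nat.card_congr (Equiv.subtypeEquivRight I2)
  have E3 : Nat.card (Y.subgroupOf Xσ) = Nat.card ↥(Y ⊓ Xσ) := by
    rw [← Subgroup.inf_subgroupOf_right]
    exact Nat.card_congr (Subgroup.subgroupOfEquivOfLe inf_le_right).toEquiv
  have E4 : Nat.card (Y.subgroupOf Xτ) = Nat.card ↥(Y ⊓ Xτ) := by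
    rw [← Subgroup.inf_subgroupOf_right]
    exact Nat.card_congr (Subgroup.subgroupOfEquivOfLe inf_le_right).toEquiv
  rw [E1, E2, E3, E4] at C1
  subst hXτ hXσ
  exact C1.symm

end Cfsg.Agent.S2669
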