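import Mathlib
import Cfsg.Statements.S2677
import Cfsg.Agent.S0277
import Cfsg.Agent.Lib.Helper2.HermFrame3
import Cfsg.Agent.Lib.Helper2.HermField

set_option autoImplicit false
open Cfsg

namespace Cfsg.Agent.S2677

open Cfsg.Agent.Lib.Helper2.Herm

theorem result {K : Type*} [Field K] [Fintype K] {q₀ q r n : ℕ} (hr : r.Prime) (hr2 : r ≠ 2) (hn : 1 ≤ n) (hq : q = q₀ ^ r) (hK : Fintype.card K = q ^ 2) (σ : K ≃+* K) (hσ : orderOf σ = r) : (Nat.card {g : ↥(Cfsg.GU n K q) // ∃ c : K, c ≠ 0 ∧ ((g : GL (Fin n) K) : Matrix (Fin n) (Fin n) K).map σ = c • ((g : GL (Fin n) K) : Matrix (Fin n) (Fin n) K)} : ℤ) = ((q + 1) / (q₀ + 1) : ℕ) * ((q₀ : ℤ) ^ (n * (n - 1) / 2) * ∏ i : Fin n, ((q₀ : ℤ) ^ ((i : ℕ) + 1) - (-1) ^ ((i : ℕ) + 1))) := by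
  classical
  subst hq
  have hr0 : r ≠ 0 := hr.ne_zero
  have hrodd : Odd r := hr.odd_of_ne_two hr2
  -- the fixed field
  obtain ⟨K₀, hK₀def⟩ : ∃ K₀ : Subfield K, K₀ = FixedPoints.subfield (Subgroup.zpowers σ) K := ⟨_, rfl⟩
  have hmemK₀ : ∀ x : K, x ∈ K₀ ↔ σ x = x := by
    intro x
    rw [hK₀def]
    constructor
    · intro hx
      exact hx ⟨σ, Subgroup.mem_zpowers σ⟩
    · intro hx
      rintro ⟨τ, hτ⟩
      have h1 : Subgroup.zpowers σ ≤ MulAction.stabilizer (K ≃+* K) x := by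
        rw [Subgroup.zpowers_le]
        exact hx
      exact h1 hτ
  haveI : Finite (Subgroup.zpowers σ) :=
    finite_zpowers.2 (orderOf_pos_iff.1 (by rw [hσ]; exact hr.pos))
  haveI : Fintype (Subgroup.zpowers σ) := Fintype.ofFinite _
  have hfin : Module.finrank K₀ K = r := by
    rw [hK₀def, FixedPoints.finrank_eq_card (Subgroup.zpowers σ) K, ← Nat.card_eq_fintype_card,
      Nat.card_zpowers, hσ]
  haveI : Fintype K₀ := Fintype.ofFinite _
  have hcardK₀ : Fintype.card K₀ = q₀ ^ 2 := by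
    have h1 := Module.card_eq_pow_finrank (K := K₀) (V := K)
    rw [hfin, hK] at h1
    have h2 : (q₀ ^ 2) ^ r = Fintype.card K₀ ^ r := by rw [← h1]; ring
    exact (Nat.pow_left_injective hr0 h2).symm
  have hq₀1 : 1 < q₀ := one_lt_q hcardK₀
  have hpowK₀ : ∀ x : K, x ∈ K₀ → x ^ (q₀ ^ r) = x ^ q₀ := by
    intro x hx
    have h1 : x ^ (q₀ ^ 2) = x := by
      have := FiniteField.pow_card (⟨x, hx⟩ : K₀)
      rw [hcardK₀] at this
      exact congrArg Subtype.val this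
    obtain ⟨k, hk⟩ := hrodd
    have h2 : ∀ j : ℕ, x ^ ((q₀ ^ 2) ^ j) = x := by
      intro j
      induction j with
      | zero => simp
      | succ j ih => rw [pow_succ, pow_mul, ih, h1]
    rw [hk, pow_succ, pow_mul x, pow_mul q₀, h2 k]
  -- embedding of matrices
  let ι : GL (Fin n) K₀ →* GL (Fin n) K := Matrix.GeneralLinearGroup.map K₀.subtype
  have hι : ∀ (h : GL (Fin n) K₀) i j, ((ι h : GL (Fin n) K) : Matrix (Fin n) (Fin n) K) i j =
      ((h : Matrix (Fin n) (Fin n) K₀) i j : K) := fun h i j => rfl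
  have hON : ∀ (H : Matrix (Fin n) (Fin n) K₀), IsON n q₀ (fun i k => H k i) →
      IsON n (q₀ ^ r) (fun i k => ((H k i : K₀) : K)) := by
    intro H hH i j
    have h1 := hH i j
    unfold Cfsg.hermForm at h1 ⊢
    have h2 := congrArg K₀.subtype h1
    rw [map_sum, apply_ite K₀.subtype, map_one, map_zero] at h2
    rw [← h2]
    apply Finset.sum_congr rfl
    intro k _
    rw [map_mul, map_pow]
    show (H k i : K) * (H k j : K) ^ (q₀ ^ r) = (H k i : K) * (H k j : K) ^ q₀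
    rw [hpowK₀ _ (H k j).2]
  have hιmem : ∀ h : GL (Fin n) K₀, h ∈ Cfsg.GU n K₀ q₀ → ι h ∈ Cfsg.GU n K (q₀ ^ r) := by
    intro h hh
    have h1 : IsON n q₀ (fun i k => (h : Matrix (Fin n) (Fin n) K₀) k i) :=
      ON_of_preserves hcardK₀ n _ hh
    have h2 := hON _ h1
    exact fun u v => preserves_of_ON hK n ((ι h : GL (Fin n) K) : Matrix (Fin n) (Fin n) K) h2 u v
  -- scalars
  have hscal : ∀ {L : Type _} [Field L] (m : ℕ) (d : L), d * d ^ m = 1 → ∀ u v : Fin n → L,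
      Cfsg.hermForm n L m ((Matrix.scalar (Fin n) d).mulVec u) ((Matrix.scalar (Fin n) d).mulVec v) =
        Cfsg.hermForm n L m u v := by
    intro L _ m d hd u v
    have hsv : ∀ w : Fin n → L, (Matrix.scalar (Fin n) d).mulVec w = d • w := by
      intro w
      rw [Matrix.scalar_apply, ← Matrix.smul_one_eq_diagonal, Matrix.smul_mulVec, Matrix.one_mulVec]
    rw [hsv, hsv]
    unfold Cfsg.hermForm
    calc ∑ i, (d • u) i * ((d • v) i) ^ m = ∑ i, (d * d ^ m) * (u i * (v i) ^ m) := by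
          apply Finset.sum_congr rfl
          intro i _
          simp only [Pi.smul_apply, smul_eq_mul, mul_pow]
          ring
      _ = ∑ i, u i * (v i) ^ m := by rw [hd]; simp
  let U₁ : Subgroup Kˣ :=
    { carrier := {d | (d : K) * (d : K) ^ (q₀ ^ r) = 1}
      mul_mem' := by
        intro a b ha hb
        have ha' : (a : K) * (a : K) ^ (q₀ ^ r) = 1 := ha
        have hb' : (b : K) * (b : K) ^ (q₀ ^ r) = 1 := hb
        show ((a * b : Kˣ) : K) * ((a * b : Kˣ) : K) ^ (q₀ ^ r) = 1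
        rw [Units.val_mul, mul_pow]
        calc (a : K) * (b : K) * ((a : K) ^ (q₀ ^ r) * (b : K) ^ (q₀ ^ r))
            = ((a : K) * (a : K) ^ (q₀ ^ r)) * ((b : K) * (b : K) ^ (q₀ ^ r)) := by ring
          _ = 1 := by rw [ha', hb', one_mul]
      one_mem' := by
        show ((1 : Kˣ) : K) * ((1 : Kˣ) : K) ^ (q₀ ^ r) = 1
        simp
      inv_mem' := by
        intro a ha
        have ha' : (a : K) * (a : K) ^ (q₀ ^ r) = 1 := ha
        show ((a⁻¹ : Kˣ) : K) * ((a⁻¹ : Kˣ) : K) ^ (q₀ ^ r) = 1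
        rw [Units.val_inv_eq_inv_val, inv_pow, ← mul_inv, ha', inv_one] }
  have hU₁mem : ∀ d : Kˣ, d ∈ U₁ ↔ (d : K) * (d : K) ^ (q₀ ^ r) = 1 := fun d => Iff.rfl
  let sc : Kˣ →* GL (Fin n) K := Units.map (Matrix.scalar (Fin n)).toMonoidHom
  have hsc : ∀ d : Kˣ, ((sc d : GL (Fin n) K) : Matrix (Fin n) (Fin n) K) =
      Matrix.scalar (Fin n) (d : K) := fun d => rfl
  have hscmem : ∀ d : Kˣ, d ∈ U₁ → sc d ∈ Cfsg.GU n K (q₀ ^ r) := by
    intro d hd u v
    exact hscal (q₀ ^ r) (d : K) hd u v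
  let sc' : U₁ →* ↥(Cfsg.GU n K (q₀ ^ r)) :=
    (sc.comp U₁.subtype).codRestrict (Cfsg.GU n K (q₀ ^ r)) (fun d => hscmem d d.2)
  let ι' : ↥(Cfsg.GU n K₀ q₀) →* ↥(Cfsg.GU n K (q₀ ^ r)) :=
    (ι.comp (Cfsg.GU n K₀ q₀).subtype).codRestrict (Cfsg.GU n K (q₀ ^ r)) (fun h => hιmem h h.2)
  have hcomm : ∀ (d : U₁) (h : ↥(Cfsg.GU n K₀ q₀)), Commute (sc' d) (ι' h) := by
    intro d h
    have h1 : Commute (sc (d : Kˣ)) (ι (h : GL (Fin n) K₀)) := by
      rw [← Commute.units_val_iff, hsc]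
      exact Matrix.scalar_commute _ (fun r' => Commute.all _ _) _
    exact Subtype.ext h1.eq
  let Ψ : U₁ × ↥(Cfsg.GU n K₀ q₀) →* ↥(Cfsg.GU n K (q₀ ^ r)) := MonoidHom.noncommCoprod sc' ι' hcomm
  have hΨ : ∀ (d : U₁) (h : ↥(Cfsg.GU n K₀ q₀)) i j,
      (((Ψ (d, h) : ↥(Cfsg.GU n K (q₀ ^ r))) : GL (Fin n) K) : Matrix (Fin n) (Fin n) K) i j =
        ((d : Kˣ) : K) * (((h : GL (Fin n) K₀) : Matrix (Fin n) (Fin n) K₀) i j : K) := by
    intro d h i j
    show ((sc (d : Kˣ) * ι (h : GL (Fin n) K₀) : GL (Fin n) K) : Matrix (Fin n) (Fin n) K) i j = _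
    rw [Units.val_mul, hsc, Matrix.scalar_apply, ← Matrix.smul_eq_diagonal_mul, Matrix.smul_apply,
      hι, smul_eq_mul]
  -- the range of Ψ
  have hrange : ∀ g : ↥(Cfsg.GU n K (q₀ ^ r)), g ∈ Ψ.range ↔
      ∃ c : K, c ≠ 0 ∧ ((g : GL (Fin n) K) : Matrix (Fin n) (Fin n) K).map σ =
        c • ((g : GL (Fin n) K) : Matrix (Fin n) (Fin n) K) := by
    intro g
    constructor
    · rintro ⟨⟨d, h⟩, rfl⟩
      have hd0 : ((d : Kˣ) : K) ≠ 0 := (d : Kˣ).ne_zero
      refine ⟨σ ((d : Kˣ) : K) / ((d : Kˣ) : K), div_ne_zero ((map_ne_zero σ).2 hd0) hd0, ?_⟩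
      ext i j
      rw [Matrix.map_apply, Matrix.smul_apply, hΨ, map_mul, smul_eq_mul,
        (hmemK₀ _).1 (((h : GL (Fin n) K₀) : Matrix (Fin n) (Fin n) K₀) i j).2]
      field_simp
    · rintro ⟨c, hc, hgc⟩
      obtain ⟨M, hMdef⟩ : ∃ M : Matrix (Fin n) (Fin n) K,
          M = ((g : GL (Fin n) K) : Matrix (Fin n) (Fin n) K) := ⟨_, rfl⟩
      rw [← hMdef] at hgc
      have hMdet : M.det ≠ 0 := by
        rw [hMdef]
        exact Matrix.GeneralLinearGroup.det_ne_zero (g : GL (Fin n) K)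
      have hne : ∃ i j, M i j ≠ 0 := by
        by_contra hcon
        have h0 : M = 0 := by
          ext i j
          by_contra h
          exact hcon ⟨i, j, h⟩
        rw [h0] at hMdet
        haveI : Nonempty (Fin n) := ⟨⟨0, hn⟩⟩
        exact hMdet Matrix.det_zero
      obtain ⟨i₀, j₀, he⟩ := hne
      obtain ⟨e, hedef⟩ : ∃ e : K, e = M i₀ j₀ := ⟨_, rfl⟩
      rw [← hedef] at he
      have hσe : σ e = c * e := by
        have := congrFun (congrFun hgc i₀) j₀
        rw [Matrix.map_apply, Matrix.smul_apply, smul_eq_mul, ← hedef] at this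
        exact this
      have hentry : ∀ i j, e⁻¹ * M i j ∈ K₀ := by
        intro i j
        rw [hmemK₀, map_mul, map_inv₀, hσe]
        have := congrFun (congrFun hgc i) j
        rw [Matrix.map_apply, Matrix.smul_apply, smul_eq_mul] at this
        rw [this]
        field_simp
      have hgON : IsON n (q₀ ^ r) (fun i k => M k i) := by
        rw [hMdef]
        exact ON_of_preserves hK n _ g.2
      have hNe0 : e * e ^ (q₀ ^ r) ≠ 0 := mul_ne_zero he (pow_ne_zero _ he)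
      have hcol : ∀ i j, ∑ k, (e⁻¹ * M k i) * (e⁻¹ * M k j) ^ (q₀ ^ r) =
          (e * e ^ (q₀ ^ r))⁻¹ * (if i = j then 1 else 0) := by
        intro i j
        have := hgON i j
        unfold Cfsg.hermForm at this
        rw [← this, Finset.mul_sum]
        apply Finset.sum_congr rfl
        intro k _
        rw [mul_pow, inv_pow, mul_inv]
        ring
      have hμK₀ : (e * e ^ (q₀ ^ r))⁻¹ ∈ K₀ := by
        have h1 := hcol ⟨0, hn⟩ ⟨0, hn⟩
        rw [if_pos rfl, mul_one] at h1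
        rw [← h1]
        apply sum_mem
        intro k _
        exact K₀.mul_mem (hentry _ _) (K₀.pow_mem (hentry _ _) _)
      have hNe : e * e ^ (q₀ ^ r) ∈ K₀ := by
        have := K₀.inv_mem hμK₀
        rwa [inv_inv] at this
      have hNeq : (e * e ^ (q₀ ^ r)) ^ (q₀ ^ r) = e * e ^ (q₀ ^ r) := by
        rw [mul_pow, Cfsg.Agent.S0779.pow_q_q hK e]
        ring
      have hNeq₀ : (⟨e * e ^ (q₀ ^ r), hNe⟩ : K₀) ^ q₀ = ⟨e * e ^ (q₀ ^ r), hNe⟩ := by
        apply Subtype.ext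
        show (e * e ^ (q₀ ^ r)) ^ q₀ = _
        rw [← hpowK₀ _ hNe, hNeq]
      obtain ⟨l, hl⟩ := norm_surj hcardK₀ _ hNeq₀
      have hlK : (l : K) * (l : K) ^ q₀ = e * e ^ (q₀ ^ r) := congrArg Subtype.val hl
      have hl0 : (l : K) ≠ 0 := by
        intro h0
        rw [h0, zero_mul] at hlK
        exact hNe0 hlK.symm
      let H : Matrix (Fin n) (Fin n) K₀ := fun i j => l * ⟨e⁻¹ * M i j, hentry i j⟩
      have hHval : ∀ i j, ((H i j : K₀) : K) = (l : K) * (e⁻¹ * M i j) := fun i j => rfl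
      have hHON : IsON n q₀ (fun i k => H k i) := by
        intro i j
        unfold Cfsg.hermForm
        apply K₀.subtype.injective
        rw [map_sum, apply_ite K₀.subtype, map_one, map_zero]
        have h1 : ∀ k, K₀.subtype (H k i * H k j ^ q₀) =
            ((l : K) * (l : K) ^ q₀) * ((e⁻¹ * M k i) * (e⁻¹ * M k j) ^ (q₀ ^ r)) := by
          intro k
          rw [map_mul, map_pow]
          show ((H k i : K₀) : K) * ((H k j : K₀) : K) ^ q₀ = _
          rw [hHval, hHval, mul_pow, hpowK₀ _ (hentry k j)]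
          ring
        simp only [h1]
        rw [← Finset.mul_sum, hcol, hlK, ← mul_assoc, mul_inv_cancel₀ hNe0, one_mul]
      have hdU : Units.mk0 (e / (l : K)) (div_ne_zero he hl0) ∈ U₁ := by
        rw [hU₁mem]
        show e / (l : K) * (e / (l : K)) ^ (q₀ ^ r) = 1
        rw [div_pow, hpowK₀ _ l.2]
        have : e / (l : K) * (e ^ (q₀ ^ r) / (l : K) ^ q₀) =
            (e * e ^ (q₀ ^ r)) / ((l : K) * (l : K) ^ q₀) := by
          field_simp
        rw [this, hlK, div_self hNe0]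
      refine ⟨(⟨Units.mk0 (e / (l : K)) (div_ne_zero he hl0), hdU⟩, guOfON hcardK₀ n H hHON), ?_⟩
      apply Subtype.ext
      apply Units.ext
      ext i j
      rw [hΨ]
      have hgM : ((g : GL (Fin n) K) : Matrix (Fin n) (Fin n) K) i j = M i j := by rw [hMdef]
      rw [hgM]
      show e / (l : K) * ((H i j : K₀) : K) = M i j
      rw [hHval]
      field_simp
  -- the kernel of Ψ
  have hker : Nat.card Ψ.ker = q₀ + 1 := by
    have hU₀ : Nat.card {x : K₀ // x * x ^ q₀ = 1} = q₀ + 1 :=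
      card_norm_fiber hcardK₀ 1 (one_pow _) one_ne_zero
    rw [← hU₀]
    symm
    have hx0 : ∀ x : {x : K₀ // x * x ^ q₀ = 1}, ((x : K₀) : K) ≠ 0 := by
      intro x h0
      have h1 := congrArg Subtype.val x.2
      have h2 : ((x : K₀) : K) * ((x : K₀) : K) ^ q₀ = 1 := h1
      rw [h0, zero_mul] at h2
      exact zero_ne_one h2
    have hxU : ∀ x : {x : K₀ // x * x ^ q₀ = 1}, Units.mk0 (((x : K₀) : K)⁻¹) (inv_ne_zero (hx0 x)) ∈ U₁ := by
      intro x
      rw [hU₁mem]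
      show ((x : K₀) : K)⁻¹ * (((x : K₀) : K)⁻¹) ^ (q₀ ^ r) = 1
      rw [hpowK₀ _ (K₀.inv_mem (x : K₀).2), inv_pow, ← mul_inv]
      have h2 : ((x : K₀) : K) * ((x : K₀) : K) ^ q₀ = 1 := congrArg Subtype.val x.2
      rw [h2, inv_one]
    have hx0' : ∀ x : {x : K₀ // x * x ^ q₀ = 1}, (x : K₀) ≠ 0 := by
      intro x h0
      exact hx0 x (by rw [h0]; rfl)
    have hxGU : ∀ x : {x : K₀ // x * x ^ q₀ = 1},
        (Units.map (Matrix.scalar (Fin n)).toMonoidHom (Units.mk0 (x : K₀) (hx0' x)) : GL (Fin n) K₀) ∈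
          Cfsg.GU n K₀ q₀ := by
      intro x u v
      exact hscal q₀ (x : K₀) x.2 u v
    have hθmem : ∀ x : {x : K₀ // x * x ^ q₀ = 1},
        ((⟨Units.mk0 (((x : K₀) : K)⁻¹) (inv_ne_zero (hx0 x)), hxU x⟩ : U₁),
          (⟨_, hxGU x⟩ : ↥(Cfsg.GU n K₀ q₀))) ∈ Ψ.ker := by
      intro x
      rw [MonoidHom.mem_ker]
      apply Subtype.ext
      apply Units.ext
      ext i j
      rw [hΨ]
      show ((x : K₀) : K)⁻¹ * ((Matrix.scalar (Fin n) (x : K₀)) i j : K) =
        (1 : Matrix (Fin n) (Fin n) K) i j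
      rw [Matrix.scalar_apply, Matrix.diagonal_apply, Matrix.one_apply]
      by_cases hij : i = j
      · rw [if_pos hij, if_pos hij]
        exact inv_mul_cancel₀ (hx0 x)
      · rw [if_neg hij, if_neg hij]
        simp
    apply Nat.card_congr
    refine Equiv.ofBijective (fun x => ⟨_, hθmem x⟩) ⟨?_, ?_⟩
    · intro x x' hxx
      have h1 := congrArg (fun y : Ψ.ker => (((y : U₁ × ↥(Cfsg.GU n K₀ q₀)).1 : Kˣ) : K)) hxx
      have h2 : (((x : K₀) : K))⁻¹ = (((x' : K₀) : K))⁻¹ := h1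
      apply Subtype.ext
      apply Subtype.ext
      exact inv_injective h2
    · rintro ⟨⟨d, h⟩, hdh⟩
      rw [MonoidHom.mem_ker] at hdh
      have hent : ∀ i j, ((d : Kˣ) : K) * (((h : GL (Fin n) K₀) : Matrix (Fin n) (Fin n) K₀) i j : K) =
          (1 : Matrix (Fin n) (Fin n) K) i j := by
        intro i j
        rw [← hΨ, hdh]
        rfl
      have hd0 : ((d : Kˣ) : K) ≠ 0 := (d : Kˣ).ne_zero
      have h00 : (((h : GL (Fin n) K₀) : Matrix (Fin n) (Fin n) K₀) ⟨0, hn⟩ ⟨0, hn⟩ : K) =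
          ((d : Kˣ) : K)⁻¹ := by
        have := hent ⟨0, hn⟩ ⟨0, hn⟩
        rw [Matrix.one_apply_eq] at this
        field_simp
        rw [mul_comm]
        exact this
      have hdK₀ : ((d : Kˣ) : K)⁻¹ ∈ K₀ := by
        rw [← h00]
        exact (((h : GL (Fin n) K₀) : Matrix (Fin n) (Fin n) K₀) ⟨0, hn⟩ ⟨0, hn⟩).2
      have hdU : ((d : Kˣ) : K) * ((d : Kˣ) : K) ^ (q₀ ^ r) = 1 := d.2
      have hxprop : (⟨((d : Kˣ) : K)⁻¹, hdK₀⟩ : K₀) * (⟨((d : Kˣ) : K)⁻¹, hdK₀⟩ : K₀) ^ q₀ = 1 := by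
        apply Subtype.ext
        show ((d : Kˣ) : K)⁻¹ * (((d : Kˣ) : K)⁻¹) ^ q₀ = 1
        rw [← hpowK₀ _ hdK₀, inv_pow, ← mul_inv, hdU, inv_one]
      refine ⟨⟨⟨((d : Kˣ) : K)⁻¹, hdK₀⟩, hxprop⟩, ?_⟩
      apply Subtype.ext
      apply Prod.ext
      · apply Subtype.ext
        apply Units.ext
        show (((d : Kˣ) : K)⁻¹)⁻¹ = ((d : Kˣ) : K)
        rw [inv_inv]
      · apply Subtype.ext
        apply Units.ext
        ext i j
        show ((Matrix.scalar (Fin n) (⟨((d : Kˣ) : K)⁻¹, hdK₀⟩ : K₀)) i j : K) =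
          (((h : GL (Fin n) K₀) : Matrix (Fin n) (Fin n) K₀) i j : K)
        have := hent i j
        rw [Matrix.scalar_apply, Matrix.diagonal_apply]
        rw [Matrix.one_apply] at this
        by_cases hij : i = j
        · rw [if_pos hij] at this ⊢
          show ((d : Kˣ) : K)⁻¹ = _
          field_simp
          linear_combination (-1 : K) * this
        · rw [if_neg hij] at this ⊢
          rcases mul_eq_zero.1 this with h0 | h0
          · exact absurd h0 hd0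
          · rw [h0]; rfl
  -- counting
  have hcount : Nat.card Ψ.ker * Nat.card Ψ.range = Nat.card (U₁ × ↥(Cfsg.GU n K₀ q₀)) := by
    rw [← Subgroup.index_ker, Subgroup.card_mul_index]
  have hX : Nat.card {g : ↥(Cfsg.GU n K (q₀ ^ r)) // ∃ c : K, c ≠ 0 ∧
      ((g : GL (Fin n) K) : Matrix (Fin n) (Fin n) K).map σ =
        c • ((g : GL (Fin n) K) : Matrix (Fin n) (Fin n) K)} = Nat.card Ψ.range := by
    apply Nat.card_congr
    exact Equiv.subtypeEquivRight (fun g => (hrange g).symm)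
  rw [hX]
  have hU₁card : Nat.card U₁ = q₀ ^ r + 1 := by
    rw [← card_norm_fiber hK 1 (one_pow _) one_ne_zero]
    apply Nat.card_congr
    refine
      { toFun := fun d => ⟨((d : Kˣ) : K), d.2⟩
        invFun := fun x => ⟨Units.mk0 (x : K) (by
          intro h0
          have := x.2
          rw [h0, zero_mul] at this
          exact zero_ne_one this), x.2⟩
        left_inv := fun d => by
          apply Subtype.ext
          apply Units.ext
          rfl
        right_inv := fun x => rfl }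
  have hG₀ := Cfsg.Agent.S0277.result hcardK₀ n
  have hdom : Nat.card (U₁ × ↥(Cfsg.GU n K₀ q₀)) = (q₀ ^ r + 1) * Nat.card ↥(Cfsg.GU n K₀ q₀) := by
    rw [Nat.card_prod, hU₁card]
  rw [hker, hdom] at hcount
  have hdvd : q₀ + 1 ∣ q₀ ^ r + 1 := by
    simpa only [one_pow] using hrodd.nat_add_dvd_pow_add_pow q₀ 1
  obtain ⟨k, hk⟩ := hdvd
  have hpos : 0 < q₀ + 1 := by omega
  rw [hk, Nat.mul_div_cancel_left _ hpos]
  rw [hk, mul_assoc] at hcount
  have hfinal : Nat.card Ψ.range = k * Nat.card ↥(Cfsg.GU n K₀ q₀) := Nat.eq_of_mul_eq_mul_left hpos hcount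
  rw [hfinal, Nat.cast_mul]
  congr 1
  rw [hG₀, Nat.cast_mul, Nat.cast_pow, Nat.cast_prod, Finset.prod_range]
  congr 1
  apply Finset.prod_congr rfl
  intro i _
  by_cases hi : Even (i : ℕ)
  · rw [if_pos hi]
    have : Odd ((i : ℕ) + 1) := hi.add_one
    rw [this.neg_one_pow]
    push_cast
    ring
  · rw [if_neg hi]
    have hodd : Odd (i : ℕ) := Nat.not_even_iff_odd.1 hi
    have : Even ((i : ℕ) + 1) := hodd.add_one
    rw [this.neg_one_pow]
    have h1 : 1 ≤ q₀ ^ ((i : ℕ) + 1) := Nat.one_le_pow _ _ (by omega)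
    rw [Nat.cast_sub h1]
    push_cast
    ring

end Cfsg.Agent.S2677
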