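import Mathlib
import Cfsg.Statements.S2678
import Cfsg.Agent.Lib.Helper5.SpEmbed

set_option autoImplicit false
open Cfsg

namespace Cfsg.Agent.S2678

open Cfsg.Agent.Lib.Helper5

theorem dot_J_self {K : Type*} [Field K] (a : ℕ) (u : Fin a ⊕ Fin a → K) :
    u ⬝ᵥ (Matrix.J (Fin a) K).mulVec u = 0 := by
  unfold Matrix.J
  rw [Matrix.fromBlocks_mulVec]
  simp only [Matrix.zero_mulVec, Matrix.neg_mulVec, Matrix.one_mulVec, zero_add, add_zero]
  rw [dotProduct, Fintype.sum_sum_type, ← Finset.sum_add_distrib]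
  apply Finset.sum_eq_zero
  intro i _
  simp only [Sum.elim_inl, Sum.elim_inr, Pi.neg_apply, Function.comp_apply]
  ring

theorem result {K F : Type*} [Field K] [Fintype K] [Field F] [Fintype F] {q : ℕ} (hK : Fintype.card K = q ^ 2) (hF : Fintype.card F = q) (a : ℕ) : ∃ φ : ↥(Matrix.symplecticGroup (Fin a) K) →* ↥(Matrix.symplecticGroup (Fin (2 * a)) F), Function.Injective φ := by
  classical
  obtain ⟨_i, hfr⟩ := exists_algebra_of_card_sq (F := F) (K := K) (by rw [hK, hF])
  have hsep : ∀ x : K, (∀ c : K, Algebra.trace F K (c * x) = 0) → x = 0 := by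
    intro x hx
    exact (traceForm_nondegenerate F K).2 x (fun c => hx c)
  let B : LinearMap.BilinForm F (Fin a ⊕ Fin a → K) :=
    LinearMap.mk₂ F (fun u v => Algebra.trace F K (u ⬝ᵥ (Matrix.J (Fin a) K).mulVec v))
      (fun u u' v => by rw [add_dotProduct, map_add])
      (fun c u v => by rw [smul_dotProduct, map_smul])
      (fun u v v' => by rw [Matrix.mulVec_add, dotProduct_add, map_add])
      (fun c u v => by rw [Matrix.mulVec_smul, dotProduct_smul, map_smul])
  have hBdef : ∀ u v, B u v = Algebra.trace F K (u ⬝ᵥ (Matrix.J (Fin a) K).mulVec v) :=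
    fun u v => rfl
  have hA : B.IsAlt := by
    intro u
    rw [hBdef, dot_J_self, map_zero]
  have hJJ : ∀ w : Fin a ⊕ Fin a → K,
      (Matrix.J (Fin a) K).mulVec ((-Matrix.J (Fin a) K).mulVec w) = w := by
    intro w
    rw [Matrix.mulVec_mulVec, mul_neg, Matrix.J_squared, neg_neg, Matrix.one_mulVec]
  have hleft : ∀ u, (∀ v, B u v = 0) → u = 0 := by
    intro u hu
    apply dotProduct_eq_zero
    intro w
    apply hsep
    intro c
    have := hu ((-Matrix.J (Fin a) K).mulVec (c • w))
    rw [hBdef, hJJ, dotProduct_smul, smul_eq_mul] at this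
    exact this
  have hB : B.Nondegenerate := by
    refine ⟨hleft, ?_⟩
    intro y hy
    apply hleft
    intro u
    rw [← hA.neg_eq, hy u, neg_zero]
  have hdim : Module.finrank F (Fin a ⊕ Fin a → K) = 2 * (2 * a) := by
    rw [Module.finrank_pi_fintype]
    simp only [hfr, Finset.sum_const, Finset.card_univ, Fintype.card_sum, Fintype.card_fin,
      smul_eq_mul]
    ring
  let ρ : ↥(Matrix.symplecticGroup (Fin a) K) →* ((Fin a ⊕ Fin a → K) ≃ₗ[F] (Fin a ⊕ Fin a → K)) :=
    MonoidHom.mk' (fun A =>
      { toFun := fun v => (A : Matrix (Fin a ⊕ Fin a) (Fin a ⊕ Fin a) K).mulVec v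
        invFun := fun v => ((A⁻¹ : Matrix.symplecticGroup (Fin a) K) : Matrix (Fin a ⊕ Fin a) (Fin a ⊕ Fin a) K).mulVec v
        map_add' := fun v v' => Matrix.mulVec_add _ v v'
        map_smul' := fun c v => Matrix.mulVec_smul _ c v
        left_inv := fun v => by
          beta_reduce
          rw [Matrix.mulVec_mulVec, ← Submonoid.coe_mul, inv_mul_cancel, Submonoid.coe_one,
            Matrix.one_mulVec]
        right_inv := fun v => by
          beta_reduce
          rw [Matrix.mulVec_mulVec, ← Submonoid.coe_mul, mul_inv_cancel, Submonoid.coe_one,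
            Matrix.one_mulVec] })
      (fun A A' => by
        apply LinearEquiv.ext
        intro v
        show (A * A' : Matrix.symplecticGroup (Fin a) K).1.mulVec v = A.1.mulVec (A'.1.mulVec v)
        rw [Matrix.mulVec_mulVec]
        rfl)
  have hρapply : ∀ A v, ρ A v = (A : Matrix (Fin a ⊕ Fin a) (Fin a ⊕ Fin a) K).mulVec v :=
    fun A v => rfl
  have hρ : Function.Injective ρ := by
    intro A A' h
    apply Subtype.ext
    apply Matrix.toLin'.injective
    apply LinearMap.ext
    intro v
    rw [Matrix.toLin'_apply, Matrix.toLin'_apply, ← hρapply, ← hρapply, h]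
  have hpres : ∀ A u v, B (ρ A u) (ρ A v) = B u v := by
    intro A u v
    rw [hBdef, hBdef, hρapply, hρapply]
    congr 1
    have hAJ := SymplecticGroup.mem_iff'.mp A.2
    rw [Matrix.mulVec_mulVec, ← Matrix.vecMul_transpose, ← Matrix.dotProduct_mulVec,
      Matrix.mulVec_mulVec, ← mul_assoc, hAJ]
  exact exists_embedding_symplectic B hB hA hdim ρ hρ hpres

end Cfsg.Agent.S2678
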