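import Mathlib
import Cfsg.Statements.S2679
import Cfsg.Agent.Lib.Helper5.OEmbed3

set_option autoImplicit false
open Cfsg

namespace Cfsg.Agent.S2679

open Cfsg.Agent.Lib.Helper5

theorem result {F K : Type*} [Field F] [Fintype F] [Field K] [Fintype K] {q : ℕ} (hF : Fintype.card F = q) (hK : Fintype.card K = q ^ 2) {m : ℕ} (hm : 1 ≤ m) (a c : F) (hac : ∀ z₁ z₂ : F, z₁ ^ 2 + a * z₁ * z₂ + c * z₂ ^ 2 = 0 → z₁ = 0 ∧ z₂ = 0) : ∃ φ : ↥(Cfsg.isometryGroup F (Cfsg.quadFormMinus (m - 1) F a c)) →* ↥(Cfsg.isometryGroup K (Cfsg.quadFormPlus m K)), Function.Injective φ := by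
  classical
  subst hF
  obtain ⟨_i, hfr⟩ := exists_algebra_of_card_sq (F := F) (K := K) hK
  obtain ⟨k, rfl⟩ : ∃ k, m = k + 1 := ⟨m - 1, by omega⟩
  obtain ⟨r, s, hrs, hsum, hprod⟩ := exists_roots_vieta (K := K) hfr a c hac
  let ll : Fin k → (Fin k ⊕ Fin k) ⊕ Fin 2 := fun i => Sum.inl (Sum.inl i)
  let lr : Fin k → (Fin k ⊕ Fin k) ⊕ Fin 2 := fun i => Sum.inl (Sum.inr i)
  let r0 : (Fin k ⊕ Fin k) ⊕ Fin 2 := Sum.inr 0
  let r1 : (Fin k ⊕ Fin k) ⊕ Fin 2 := Sum.inr 1
  let pr : ((Fin k ⊕ Fin k) ⊕ Fin 2) → (((Fin k ⊕ Fin k) ⊕ Fin 2 → K) →ₗ[K] K) :=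
    fun x => LinearMap.proj x
  let QK : QuadraticForm K ((Fin k ⊕ Fin k) ⊕ Fin 2 → K) :=
    (∑ i : Fin k, QuadraticMap.linMulLin (pr (ll i)) (pr (lr i)))
      + (QuadraticMap.linMulLin (pr r0) (pr r0)
        + algebraMap F K a • QuadraticMap.linMulLin (pr r0) (pr r1)
        + algebraMap F K c • QuadraticMap.linMulLin (pr r1) (pr r1))
  have hQK : ∀ v, QK v = Cfsg.quadFormMinus k K (algebraMap F K a) (algebraMap F K c) v := by
    intro v
    unfold Cfsg.quadFormMinus
    simp only [QK, QuadraticMap.add_apply, QuadraticMap.sum_apply, QuadraticMap.smul_apply,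
      QuadraticMap.linMulLin_apply, pr, LinearMap.proj_apply, ll, lr, r0, r1, smul_eq_mul]
    ring
  have hQ : ∀ w : (Fin k ⊕ Fin k) ⊕ Fin 2 → F,
      QK (fun i => algebraMap F K (w i)) = algebraMap F K (Cfsg.quadFormMinus k F a c w) := by
    intro w
    rw [hQK]
    unfold Cfsg.quadFormMinus
    simp only [map_add, map_sum, map_mul, map_pow]
  obtain ⟨ρ, hρ, hpres⟩ := base_change_isometry (Cfsg.quadFormMinus k F a c) QK hQ
  let e0 : ((Fin k ⊕ Fin k) ⊕ Fin 2 → K) →ₗ[K] (Fin (k + 1) ⊕ Fin (k + 1) → K) :=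
    { toFun := fun v => Sum.elim (Fin.cons (v r0 - r * v r1) (fun i => v (ll i)))
        (Fin.cons (v r0 - s * v r1) (fun i => v (lr i)))
      map_add' := fun v v' => by
        ext x
        rcases x with j | j
        · refine Fin.cases ?_ (fun i => ?_) j
          · simp only [Sum.elim_inl, Fin.cons_zero, Pi.add_apply]
            ring
          · simp only [Sum.elim_inl, Fin.cons_succ, Pi.add_apply]
        · refine Fin.cases ?_ (fun i => ?_) j
          · simp only [Sum.elim_inr, Fin.cons_zero, Pi.add_apply]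
            ring
          · simp only [Sum.elim_inr, Fin.cons_succ, Pi.add_apply]
      map_smul' := fun d v => by
        ext x
        rcases x with j | j
        · refine Fin.cases ?_ (fun i => ?_) j
          · simp only [Sum.elim_inl, Fin.cons_zero, Pi.smul_apply, smul_eq_mul, RingHom.id_apply]
            ring
          · simp only [Sum.elim_inl, Fin.cons_succ, Pi.smul_apply, smul_eq_mul, RingHom.id_apply]
        · refine Fin.cases ?_ (fun i => ?_) j
          · simp only [Sum.elim_inr, Fin.cons_zero, Pi.smul_apply, smul_eq_mul, RingHom.id_apply]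
            ring
          · simp only [Sum.elim_inr, Fin.cons_succ, Pi.smul_apply, smul_eq_mul, RingHom.id_apply] }
  have he0 : ∀ v, e0 v = Sum.elim (Fin.cons (v r0 - r * v r1) (fun i => v (ll i)))
        (Fin.cons (v r0 - s * v r1) (fun i => v (lr i))) := fun v => rfl
  have hinj : Function.Injective e0 := by
    rw [← LinearMap.ker_eq_bot, LinearMap.ker_eq_bot']
    intro v hv
    rw [he0] at hv
    have h1 : ∀ i, v (ll i) = 0 := by
      intro i
      have := congrFun hv (Sum.inl i.succ)
      simpa only [Sum.elim_inl, Fin.cons_succ, Pi.zero_apply] using this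
    have h2 : ∀ i, v (lr i) = 0 := by
      intro i
      have := congrFun hv (Sum.inr i.succ)
      simpa only [Sum.elim_inr, Fin.cons_succ, Pi.zero_apply] using this
    have h3 : v r0 - r * v r1 = 0 := by
      have := congrFun hv (Sum.inl 0)
      simpa only [Sum.elim_inl, Fin.cons_zero, Pi.zero_apply] using this
    have h4 : v r0 - s * v r1 = 0 := by
      have := congrFun hv (Sum.inr 0)
      simpa only [Sum.elim_inr, Fin.cons_zero, Pi.zero_apply] using this
    have h5 : v r1 = 0 := by
      have : (r - s) * v r1 = 0 := by linear_combination h4 - h3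
      rcases mul_eq_zero.1 this with h | h
      · exact absurd (sub_eq_zero.1 h) hrs
      · exact h
    have h6 : v r0 = 0 := by
      rw [h5, mul_zero, sub_zero] at h3
      exact h3
    ext x
    rcases x with (i | i) | i
    · exact h1 i
    · exact h2 i
    · fin_cases i
      · exact h6
      · exact h5
  have hdim : Module.finrank K ((Fin k ⊕ Fin k) ⊕ Fin 2 → K) =
      Module.finrank K (Fin (k + 1) ⊕ Fin (k + 1) → K) := by
    rw [Module.finrank_fintype_fun_eq_card, Module.finrank_fintype_fun_eq_card]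
    simp only [Fintype.card_sum, Fintype.card_fin]
    ring
  have hiso : ∀ v, QK v = Cfsg.quadFormPlus (k + 1) K
      (LinearMap.linearEquivOfInjective e0 hinj hdim v) := by
    intro v
    rw [LinearMap.linearEquivOfInjective_apply, hQK, he0]
    unfold Cfsg.quadFormPlus Cfsg.quadFormMinus
    rw [Fin.sum_univ_succ]
    simp only [Sum.elim_inl, Sum.elim_inr, Fin.cons_zero, Fin.cons_succ, ll, lr, r0, r1]
    linear_combination (v (Sum.inr 0) * v (Sum.inr 1)) * hsum - (v (Sum.inr 1)) ^ 2 * hprod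
  exact exists_embedding_isometryGroup (fun v => QK v) (Cfsg.quadFormPlus (k + 1) K)
    (LinearMap.linearEquivOfInjective e0 hinj hdim) hiso ρ hρ hpres

end Cfsg.Agent.S2679
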