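import Mathlib
import Cfsg.Statements.S2738

set_option autoImplicit false
open Cfsg

namespace Cfsg.Agent.S2738

theorem result (F : Type*) [Field F] [Fintype F] (hF : Fintype.card F = 4) : Nat.card ↥(Subgroup.center (Matrix.SpecialLinearGroup (Fin 3) F)) = 3 ∧ ¬ ∃ K : Subgroup (Matrix.SpecialLinearGroup (Fin 3) F), Subgroup.IsComplement' (Subgroup.center (Matrix.SpecialLinearGroup (Fin 3) F)) K := by
  classical
  have hunits : Fintype.card Fˣ = 3 := by rw [Fintype.card_units, hF]
  have hpow : ∀ u : Fˣ, u ^ 3 = 1 := fun u => by rw [← hunits]; exact pow_card_eq_one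
  constructor
  · rw [Nat.card_congr (Matrix.SpecialLinearGroup.center_equiv_rootsOfUnity' (0 : Fin 3)).toEquiv]
    have htop : rootsOfUnity (Fintype.card (Fin 3)) F = ⊤ := by
      rw [eq_top_iff]
      intro u _
      rw [mem_rootsOfUnity, Fintype.card_fin]
      exact hpow u
    rw [htop, Subgroup.card_top, Nat.card_eq_fintype_card, hunits]
  · rintro ⟨K, hK⟩
    obtain ⟨u, hu⟩ := Fintype.exists_ne_of_one_lt_card (by rw [hunits]; norm_num) (1 : Fˣ)
    set ω : F := (u : F) with hω
    have hω3 : ω ^ 3 = 1 := by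
      have := congrArg Units.val (hpow u)
      simpa using this
    have hω1 : ω ≠ 1 := fun h => hu (Units.ext h)
    let xM : Matrix (Fin 3) (Fin 3) F := !![1, 0, 0; 0, ω, 0; 0, 0, ω ^ 2]
    let yM : Matrix (Fin 3) (Fin 3) F := !![0, 1, 0; 0, 0, 1; 1, 0, 0]
    let sM : Matrix (Fin 3) (Fin 3) F := ω • (1 : Matrix (Fin 3) (Fin 3) F)
    have hxdet : xM.det = 1 := by
      rw [Matrix.det_fin_three]
      simp [xM]
      linear_combination hω3
    have hydet : yM.det = 1 := by
      rw [Matrix.det_fin_three]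
      simp [yM]
    have hsdet : sM.det = 1 := by
      simp only [sM, Matrix.det_smul, Fintype.card_fin, Matrix.det_one, mul_one]
      exact hω3
    let x : Matrix.SpecialLinearGroup (Fin 3) F := ⟨xM, hxdet⟩
    let y : Matrix.SpecialLinearGroup (Fin 3) F := ⟨yM, hydet⟩
    let s : Matrix.SpecialLinearGroup (Fin 3) F := ⟨sM, hsdet⟩
    have hs_center : s ∈ Subgroup.center (Matrix.SpecialLinearGroup (Fin 3) F) := by
      rw [Subgroup.mem_center_iff]
      intro g
      apply Subtype.ext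
      show (g : Matrix (Fin 3) (Fin 3) F) * sM = sM * (g : Matrix (Fin 3) (Fin 3) F)
      simp only [sM, Matrix.mul_smul, Matrix.smul_mul, Matrix.mul_one, Matrix.one_mul]
    have hrel : y * x = s * (x * y) := by
      apply Subtype.ext
      show yM * xM = sM * (xM * yM)
      simp only [sM, Matrix.smul_mul, Matrix.one_mul]
      ext i j
      fin_cases i <;> fin_cases j <;>
        simp [xM, yM, Matrix.mul_apply, Fin.sum_univ_three]
      · ring
      · linear_combination (-1 : F) * hω3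
    have hs1 : s ≠ 1 := by
      intro h
      have := congrArg (fun A : Matrix.SpecialLinearGroup (Fin 3) F =>
        (A : Matrix (Fin 3) (Fin 3) F) 0 0) h
      simp [s, sM] at this
      exact hω1 this
    -- decompose
    have hex := hK.existsUnique
    obtain ⟨⟨z₁, k₁⟩, hx, _⟩ := hK.existsUnique x
    obtain ⟨⟨z₂, k₂⟩, hy, _⟩ := hK.existsUnique y
    simp only at hx hy
    have hz₁ : ∀ g : Matrix.SpecialLinearGroup (Fin 3) F, g * (z₁ : Matrix.SpecialLinearGroup (Fin 3) F) = z₁ * g :=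
      fun g => Subgroup.mem_center_iff.1 z₁.2 g
    have hz₂ : ∀ g : Matrix.SpecialLinearGroup (Fin 3) F, g * (z₂ : Matrix.SpecialLinearGroup (Fin 3) F) = z₂ * g :=
      fun g => Subgroup.mem_center_iff.1 z₂.2 g
    have hsc : ∀ g : Matrix.SpecialLinearGroup (Fin 3) F, g * s = s * g :=
      fun g => Subgroup.mem_center_iff.1 hs_center g
    -- k₂ k₁ = s k₁ k₂
    have hkk : (k₂ : Matrix.SpecialLinearGroup (Fin 3) F) * k₁ = s * (k₁ * k₂) := by
      have h1 : y * x = (z₂ : Matrix.SpecialLinearGroup (Fin 3) F) * z₁ * (k₂ * k₁) := by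
        rw [← hx, ← hy]
        calc (z₂ : Matrix.SpecialLinearGroup (Fin 3) F) * k₂ * (z₁ * k₁)
            = z₂ * (k₂ * z₁) * k₁ := by group
          _ = z₂ * (z₁ * k₂) * k₁ := by rw [hz₁]
          _ = z₂ * z₁ * (k₂ * k₁) := by group
      have h2 : x * y = (z₂ : Matrix.SpecialLinearGroup (Fin 3) F) * z₁ * (k₁ * k₂) := by
        rw [← hx, ← hy]
        calc (z₁ : Matrix.SpecialLinearGroup (Fin 3) F) * k₁ * (z₂ * k₂)
            = z₁ * (k₁ * z₂) * k₂ := by group
          _ = z₁ * (z₂ * k₁) * k₂ := by rw [hz₂]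
          _ = (z₁ * z₂) * (k₁ * k₂) := by group
          _ = (z₂ * z₁) * (k₁ * k₂) := by rw [hz₂ z₁]
      rw [h1, h2] at hrel
      have h3 : (z₂ : Matrix.SpecialLinearGroup (Fin 3) F) * z₁ * (k₂ * k₁)
          = z₂ * z₁ * (s * (k₁ * k₂)) := by
        rw [hrel, ← mul_assoc, ← hsc, mul_assoc]
      exact mul_left_cancel h3
    have hsK : s ∈ K := by
      have : s = (k₂ : Matrix.SpecialLinearGroup (Fin 3) F) * k₁ * (k₁ * k₂)⁻¹ :=
        eq_mul_inv_of_mul_eq hkk.symm
      rw [this]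
      exact K.mul_mem (K.mul_mem k₂.2 k₁.2) (K.inv_mem (K.mul_mem k₁.2 k₂.2))
    have hdisj := hK.disjoint
    have : s ∈ Subgroup.center (Matrix.SpecialLinearGroup (Fin 3) F) ⊓ K := ⟨hs_center, hsK⟩
    rw [hdisj.eq_bot, Subgroup.mem_bot] at this
    exact hs1 this

end Cfsg.Agent.S2738
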