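import Mathlib
import Cfsg.Statements.S2739
import Cfsg.Agent.Lib.Helper1.SLCard
import Cfsg.Agent.S2550

set_option autoImplicit false
open Cfsg
open scoped Pointwise

namespace Cfsg.Agent.S2739

/-! ## A concrete field with four elements -/

structure F4c where
  re : ZMod 2
  im : ZMod 2
deriving DecidableEq, Fintype

namespace F4c

instance instZero : Zero F4c := ⟨⟨0, 0⟩⟩
instance instOne : One F4c := ⟨⟨1, 0⟩⟩
instance instAdd : Add F4c := ⟨fun a b => ⟨a.re + b.re, a.im + b.im⟩⟩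
instance instMul : Mul F4c :=
  ⟨fun a b => ⟨a.re * b.re + a.im * b.im, a.re * b.im + a.im * b.re + a.im * b.im⟩⟩
instance instNeg : Neg F4c := ⟨fun a => a⟩

instance instCommRing : CommRing F4c where
  add_assoc := by decide
  zero_add := by decide
  add_zero := by decide
  nsmul := nsmulRec
  zsmul := zsmulRec
  neg_add_cancel := by decide
  add_comm := by decide
  left_distrib := by decide
  right_distrib := by decide
  zero_mul := by decide
  mul_zero := by decide
  mul_assoc := by decide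
  one_mul := by decide
  mul_one := by decide
  mul_comm := by decide

end F4c

def wc : F4c := ⟨0, 1⟩
def w2c : F4c := ⟨1, 1⟩

def Dc : Matrix (Fin 3) (Fin 3) F4c := !![1, 0, 0; 0, wc, 0; 0, 0, w2c]
def Sc : Matrix (Fin 3) (Fin 3) F4c := !![0, 0, 1; 1, 0, 0; 0, 1, 0]
def G1c : Matrix (Fin 3) (Fin 3) F4c := !![1, 1, 1; 1, w2c, wc; 1, wc, w2c]
def G2c : Matrix (Fin 3) (Fin 3) F4c := !![1, 1, w2c; 1, w2c, 1; wc, w2c, w2c]
def G3c : Matrix (Fin 3) (Fin 3) F4c := !![1, 1, wc; 1, w2c, w2c; w2c, 1, w2c]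

theorem det_Dc : Dc.det = 1 := by rw [Matrix.det_fin_three]; decide
theorem det_Sc : Sc.det = 1 := by rw [Matrix.det_fin_three]; decide
theorem det_G1c : G1c.det = 1 := by rw [Matrix.det_fin_three]; decide
theorem det_G2c : G2c.det = 1 := by rw [Matrix.det_fin_three]; decide
theorem det_G3c : G3c.det = 1 := by rw [Matrix.det_fin_three]; decide

theorem Dc_cube : Dc * Dc * Dc = 1 := by decide
theorem Sc_cube : Sc * Sc * Sc = 1 := by decide
theorem comm_c : Sc * Dc = w2c • (Dc * Sc) := by decide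
theorem conj1 : G1c * Dc = Sc * G1c := by decide
theorem conj2 : G2c * Dc = w2c • (Dc * Sc * G2c) := by decide
theorem conj3 : G3c * Dc = wc • (Dc * Dc * Sc * G3c) := by decide

theorem ker_c : ∀ i j : Fin 3, (∃ c : F4c, Dc ^ (i : ℕ) * Sc ^ (j : ℕ) = c • 1) →
    i = 0 ∧ j = 0 := by decide


/-! ## Transport to an arbitrary field with four elements -/

section transport

variable {F : Type*} [Field F]

/-- The embedding of the concrete field. -/
def iota (c2 : ZMod 2 →+* F) (ω : F) (hω : ω ^ 2 = ω + 1) : F4c →+* F where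
  toFun x := c2 x.re + c2 x.im * ω
  map_one' := by
    show c2 1 + c2 0 * ω = 1
    simp
  map_mul' := by
    rintro ⟨a, b⟩ ⟨c, d⟩
    show c2 (a * c + b * d) + c2 (a * d + b * c + b * d) * ω
      = (c2 a + c2 b * ω) * (c2 c + c2 d * ω)
    simp only [map_add, map_mul]
    linear_combination (-(c2 b * c2 d)) * hω
  map_zero' := by
    show c2 0 + c2 0 * ω = 0
    simp
  map_add' := by
    rintro ⟨a, b⟩ ⟨c, d⟩
    show c2 (a + c) + c2 (b + d) * ω = (c2 a + c2 b * ω) + (c2 c + c2 d * ω)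
    simp only [map_add]
    ring

theorem iota_injective (c2 : ZMod 2 →+* F) (ω : F) (hω : ω ^ 2 = ω + 1) :
    Function.Injective (iota c2 ω hω) := by
  rw [injective_iff_map_eq_zero]
  rintro ⟨a, b⟩ h
  have h' : c2 a + c2 b * ω = 0 := h
  have hcases : ∀ a : ZMod 2, a = 0 ∨ a = 1 := by decide
  rcases hcases a with rfl | rfl <;> rcases hcases b with rfl | rfl
  · rfl
  · exfalso
    have hω0 : ω = 0 := by simpa using h'
    rw [hω0] at hω
    simp at hω
  · exfalso
    simp at h'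
  · exfalso
    have h1 : 1 + ω = 0 := by simpa using h'
    have h3 : ω ^ 2 = 0 := by rw [hω, add_comm]; exact h1
    have hω0 : ω = 0 := pow_eq_zero_iff (two_ne_zero) |>.1 h3
    rw [hω0, add_zero] at h1
    exact one_ne_zero h1

variable (ι : F4c →+* F)

/-- The image of a concrete matrix of determinant one. -/
def toSL (M : Matrix (Fin 3) (Fin 3) F4c) (h : M.det = 1) :
    Matrix.SpecialLinearGroup (Fin 3) F :=
  ⟨ι.mapMatrix M, by rw [← RingHom.map_det, h, map_one]⟩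

theorem toSL_coe (M : Matrix (Fin 3) (Fin 3) F4c) (h : M.det = 1) :
    ((toSL ι M h : Matrix.SpecialLinearGroup (Fin 3) F) : Matrix (Fin 3) (Fin 3) F)
      = ι.mapMatrix M := rfl

theorem mapMatrix_smul (c : F4c) (M : Matrix (Fin 3) (Fin 3) F4c) :
    ι.mapMatrix (c • M) = ι c • ι.mapMatrix M := by
  ext i j
  simp [RingHom.mapMatrix_apply, Matrix.map_apply, Matrix.smul_apply]

theorem scalar_of_map (hι : Function.Injective ι) (M : Matrix (Fin 3) (Fin 3) F4c) (r : F)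
    (h : ι.mapMatrix M = r • (1 : Matrix (Fin 3) (Fin 3) F)) : ∃ c : F4c, M = c • 1 := by
  refine ⟨M 0 0, ?_⟩
  have h00 : ι (M 0 0) = r := by
    have := congrFun (congrFun h 0) 0
    simpa [RingHom.mapMatrix_apply, Matrix.map_apply] using this
  ext a b
  by_cases hab : a = b
  · subst hab
    apply hι
    have := congrFun (congrFun h a) a
    simp [RingHom.mapMatrix_apply, Matrix.map_apply] at this
    simp [this, h00]
  · apply hι
    have := congrFun (congrFun h a) b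
    simp [RingHom.mapMatrix_apply, Matrix.map_apply, Matrix.one_apply, hab] at this
    simp [this, Matrix.one_apply, hab]

end transport


/-! ## The abstract argument -/

section abstract

variable {G : Type*} [Group G] [Finite G]

theorem conj_zpowers (h a : G) :
    MulAut.conj h • Subgroup.zpowers a = Subgroup.zpowers (h * a * h⁻¹) := by
  show (Subgroup.zpowers a).map (MulAut.conj h).toMonoidHom = _
  rw [MonoidHom.map_zpowers]
  rfl

theorem zpowers_sq_of_cube {a : G} (h3 : a ^ 3 = 1) :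
    Subgroup.zpowers (a ^ 2) = Subgroup.zpowers a := by
  have : a ^ 2 = a⁻¹ := by
    apply eq_inv_of_mul_eq_one_left
    rw [← pow_succ]
    exact h3
  rw [this, Subgroup.zpowers_inv]

instance fact3 : Fact (Nat.Prime 3) := ⟨Nat.prime_three⟩

theorem abstract_key (hG : Nat.card G = 20160)
    (d σ c1 c2 c3 : G) (hd3 : d ^ 3 = 1) (hσ3 : σ ^ 3 = 1) (hcomm : σ * d = d * σ)
    (h1 : c1 * d = σ * c1) (h2 : c2 * d = d * σ * c2) (h3 : c3 * d = d * d * σ * c3)
    (hker : ∀ i j : ℕ, i < 3 → j < 3 → d ^ i * σ ^ j = 1 → i = 0 ∧ j = 0)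
    (X : Subgroup G) (hX : Nat.card X = 3) :
    ∃ g : G, MulAut.conj g • X = Subgroup.zpowers d := by
  classical
  have hc : Commute σ d := hcomm
  have hmulpow : ∀ i j i' j' : ℕ, d ^ i * σ ^ j * (d ^ i' * σ ^ j') = d ^ (i + i') * σ ^ (j + j') := by
    intro i j i' j'
    have e : σ ^ j * d ^ i' = d ^ i' * σ ^ j := (hc.pow_pow j i').eq
    calc d ^ i * σ ^ j * (d ^ i' * σ ^ j') = d ^ i * (σ ^ j * d ^ i') * σ ^ j' := by group
      _ = d ^ i * (d ^ i' * σ ^ j) * σ ^ j' := by rw [e]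
      _ = d ^ (i + i') * σ ^ (j + j') := by rw [pow_add, pow_add]; group
  have hpow3 : ∀ i j : ℕ, d ^ (3 * i) * σ ^ (3 * j) = 1 := by
    intro i j
    rw [pow_mul, pow_mul, hd3, hσ3, one_pow, one_pow, one_mul]
  -- the subgroup generated by d and σ
  let S : Subgroup G :=
    { carrier := {g | ∃ i j : ℕ, g = d ^ i * σ ^ j}
      mul_mem' := by
        rintro a b ⟨i, j, rfl⟩ ⟨i', j', rfl⟩
        exact ⟨i + i', j + j', hmulpow i j i' j'⟩
      one_mem' := ⟨0, 0, by simp⟩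
      inv_mem' := by
        rintro a ⟨i, j, rfl⟩
        refine ⟨2 * i, 2 * j, ?_⟩
        apply inv_eq_of_mul_eq_one_right
        rw [hmulpow]
        have e1 : i + 2 * i = 3 * i := by ring
        have e2 : j + 2 * j = 3 * j := by ring
        rw [e1, e2]
        exact hpow3 i j }
  have hSmem : ∀ g : G, g ∈ S ↔ ∃ i j : ℕ, g = d ^ i * σ ^ j := fun g => Iff.rfl
  have hSp : IsPGroup 3 S := by
    rintro ⟨g, hg⟩
    obtain ⟨i, j, rfl⟩ := (hSmem g).1 hg
    refine ⟨1, ?_⟩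
    apply Subtype.ext
    show (d ^ i * σ ^ j) ^ 3 ^ 1 = 1
    rw [pow_one]
    have hc' : Commute (d ^ i) (σ ^ j) := (hc.pow_pow j i).symm
    rw [hc'.mul_pow, ← pow_mul, ← pow_mul, mul_comm i 3, mul_comm j 3]
    exact hpow3 i j
  obtain ⟨P0, hSP0⟩ := hSp.exists_le_sylow
  -- the nine elements
  have hmemP0 : ∀ p : Fin 3 × Fin 3, d ^ (p.1 : ℕ) * σ ^ (p.2 : ℕ) ∈ (P0 : Subgroup G) :=
    fun p => hSP0 ⟨_, _, rfl⟩
  have hfinj : Function.Injective (fun p : Fin 3 × Fin 3 =>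
      (⟨d ^ (p.1 : ℕ) * σ ^ (p.2 : ℕ), hmemP0 p⟩ : (P0 : Subgroup G))) := by
    rintro ⟨i, j⟩ ⟨i', j'⟩ hEq
    have hEq' : d ^ (i : ℕ) * σ ^ (j : ℕ) = d ^ (i' : ℕ) * σ ^ (j' : ℕ) := congrArg Subtype.val hEq
    have hprod : d ^ ((i : ℕ) + (3 - (i' : ℕ))) * σ ^ ((j : ℕ) + (3 - (j' : ℕ))) = 1 := by
      rw [← hmulpow, hEq', hmulpow]
      have e1 : (i' : ℕ) + (3 - (i' : ℕ)) = 3 * 1 := by have := i'.2; omega
      have e2 : (j' : ℕ) + (3 - (j' : ℕ)) = 3 * 1 := by have := j'.2; omega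
      rw [e1, e2]
      exact hpow3 1 1
    rw [pow_eq_pow_mod _ hd3, pow_eq_pow_mod _ hσ3] at hprod
    have := hker _ _ (Nat.mod_lt _ (by norm_num)) (Nat.mod_lt _ (by norm_num)) hprod
    have hi := i.2
    have hi' := i'.2
    have hj := j.2
    have hj' := j'.2
    apply Prod.ext
    · apply Fin.ext
      show (i : ℕ) = (i' : ℕ)
      omega
    · apply Fin.ext
      show (j : ℕ) = (j' : ℕ)
      omega
  have hP0card : Nat.card (P0 : Subgroup G) = 9 := by
    obtain ⟨k, hk⟩ := IsPGroup.iff_card.mp P0.isPGroup'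
    have hge : 9 ≤ Nat.card (P0 : Subgroup G) := by
      have := Nat.card_le_card_of_injective _ hfinj
      simpa using this
    have hdvd : Nat.card (P0 : Subgroup G) ∣ 20160 := by
      have := Subgroup.card_subgroup_dvd_card (P0 : Subgroup G)
      rwa [hG] at this
    rw [hk] at hge hdvd ⊢
    have hk2 : k ≤ 2 := by
      by_contra hlt
      have h3' : 3 ^ 3 ∣ 3 ^ k := pow_dvd_pow _ (by omega)
      have h4 := h3'.trans hdvd
      norm_num at h4
    have hk2' : 2 ≤ k := by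
      by_contra hlt
      have hle : 3 ^ k ≤ 3 ^ 1 := Nat.pow_le_pow_right (by norm_num) (by omega)
      omega
    have : k = 2 := by omega
    rw [this]
    norm_num
  have hfbij := hfinj.bijective_of_nat_card_le (by rw [hP0card]; simp)
  -- every non-identity element of P0 is conjugate to d or d ^ 2
  have hcl : ∀ a : G, a ∈ (P0 : Subgroup G) → a ≠ 1 →
      ∃ h : G, h * a * h⁻¹ = d ∨ h * a * h⁻¹ = d ^ 2 := by
    intro a ha ha1
    obtain ⟨⟨i, j⟩, hij⟩ := hfbij.2 ⟨a, ha⟩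
    have ha' : d ^ (i : ℕ) * σ ^ (j : ℕ) = a := congrArg Subtype.val hij
    have e1 : σ = c1 * d * c1⁻¹ := by rw [h1, mul_inv_cancel_right]
    have e2 : d * σ = c2 * d * c2⁻¹ := by rw [h2, mul_inv_cancel_right]
    have e3 : d * d * σ = c3 * d * c3⁻¹ := by rw [h3, mul_inv_cancel_right]
    have e2' : d ^ 2 * σ ^ 2 = c2 * d ^ 2 * c2⁻¹ := by
      have : d ^ 2 * σ ^ 2 = (d * σ) ^ 2 := by
        rw [(hc.symm).mul_pow]
      rw [this, e2, conj_pow]
    have e3' : d * σ ^ 2 = c3 * d ^ 2 * c3⁻¹ := by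
      have hc2 : Commute (d * d) σ := (hc.symm).mul_left (hc.symm)
      have : d * σ ^ 2 = (d * d * σ) ^ 2 := by
        rw [hc2.mul_pow]
        have : (d * d) ^ 2 = d := by
          calc (d * d) ^ 2 = d ^ 3 * d := by
                simp only [pow_succ, pow_zero, one_mul, mul_assoc]
            _ = d := by rw [hd3, one_mul]
        rw [this]
      rw [this, e3, conj_pow]
    have e1' : σ ^ 2 = c1 * d ^ 2 * c1⁻¹ := by
      rw [e1, conj_pow]
    subst ha'
    fin_cases i <;> fin_cases j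
    · exfalso
      apply ha1
      simp
    · refine ⟨c1⁻¹, Or.inl ?_⟩
      show c1⁻¹ * (d ^ 0 * σ ^ 1) * c1⁻¹⁻¹ = d
      rw [pow_zero, one_mul, pow_one, e1]
      group
    · refine ⟨c1⁻¹, Or.inr ?_⟩
      show c1⁻¹ * (d ^ 0 * σ ^ 2) * c1⁻¹⁻¹ = d ^ 2
      rw [pow_zero, one_mul, e1']
      group
    · refine ⟨1, Or.inl ?_⟩
      show 1 * (d ^ 1 * σ ^ 0) * 1⁻¹ = d
      simp
    · refine ⟨c2⁻¹, Or.inl ?_⟩
      show c2⁻¹ * (d ^ 1 * σ ^ 1) * c2⁻¹⁻¹ = d
      rw [pow_one, pow_one, e2]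
      group
    · refine ⟨c3⁻¹, Or.inr ?_⟩
      show c3⁻¹ * (d ^ 1 * σ ^ 2) * c3⁻¹⁻¹ = d ^ 2
      rw [pow_one, e3']
      group
    · refine ⟨1, Or.inr ?_⟩
      show 1 * (d ^ 2 * σ ^ 0) * 1⁻¹ = d ^ 2
      simp
    · refine ⟨c3⁻¹, Or.inl ?_⟩
      show c3⁻¹ * (d ^ 2 * σ ^ 1) * c3⁻¹⁻¹ = d
      rw [pow_one, pow_two, e3]
      group
    · refine ⟨c2⁻¹, Or.inr ?_⟩
      show c2⁻¹ * (d ^ 2 * σ ^ 2) * c2⁻¹⁻¹ = d ^ 2
      rw [e2']
      group
  -- the subgroup X
  have hXp : IsPGroup 3 X := IsPGroup.of_card (n := 1) (by rw [hX]; norm_num)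
  obtain ⟨Q, hXQ⟩ := hXp.exists_le_sylow
  obtain ⟨g, hg⟩ := MulAction.exists_smul_eq G Q P0
  have hXne : X ≠ ⊥ := by
    intro hb
    rw [hb, Subgroup.card_bot] at hX
    norm_num at hX
  obtain ⟨⟨x, hxX⟩, hx1'⟩ := (Subgroup.ne_bot_iff_exists_ne_one).1 hXne
  have hx1 : x ≠ 1 := by
    intro h
    apply hx1'
    exact Subtype.ext h
  have hxo : orderOf x = 3 := by
    apply orderOf_eq_prime
    · have := pow_card_eq_one' (G := X) (x := ⟨x, hxX⟩)
      rw [hX] at this
      exact congrArg Subtype.val this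
    · exact hx1
  have hXz : X = Subgroup.zpowers x := by
    symm
    apply Subgroup.eq_of_le_of_card_ge
    · rw [Subgroup.zpowers_le]; exact hxX
    · rw [hX, Nat.card_zpowers, hxo]
  have hgx : g * x * g⁻¹ ∈ (P0 : Subgroup G) := by
    have hmem : g * x * g⁻¹ ∈ MulAut.conj g • (Q : Subgroup G) := by
      rw [← MulAut.conj_apply]
      exact Subgroup.smul_mem_pointwise_smul _ _ _ (hXQ hxX)
    rw [← Sylow.coe_subgroup_smul, hg] at hmem
    exact hmem
  have hgx1 : g * x * g⁻¹ ≠ 1 := by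
    intro h
    apply hx1
    have : x = g⁻¹ * (g * x * g⁻¹) * g := by group
    rw [this, h]
    group
  obtain ⟨h, hh⟩ := hcl _ hgx hgx1
  refine ⟨h * g, ?_⟩
  rw [hXz, conj_zpowers]
  have e : h * g * x * (h * g)⁻¹ = h * (g * x * g⁻¹) * h⁻¹ := by group
  rw [e]
  rcases hh with hh | hh
  · rw [hh]
  · rw [hh, zpowers_sq_of_cube hd3]

end abstract


/-! ## `PSL₃` over a field with four elements -/

theorem wc_cube : wc ^ 3 = 1 := by decide
theorem w2c_cube : w2c ^ 3 = 1 := by decide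

section final

variable {F : Type*} [Field F] [Fintype F]

local notation "SL3" => Matrix.SpecialLinearGroup (Fin 3) F
local notation "PSL3" => Matrix.ProjectiveSpecialLinearGroup (Fin 3) F

theorem mk_eq_of_smul (A B : SL3) (r : F)
    (h : (A : Matrix (Fin 3) (Fin 3) F) = r • (B : Matrix (Fin 3) (Fin 3) F)) :
    (QuotientGroup.mk A : PSL3) = QuotientGroup.mk B := by
  have hc : A * B⁻¹ ∈ Subgroup.center SL3 := by
    apply Cfsg.Agent.S2550.scalar_mem_center (r := r)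
    rw [Matrix.SpecialLinearGroup.coe_mul, h, Matrix.smul_mul,
      ← Matrix.SpecialLinearGroup.coe_mul, mul_inv_cancel, Matrix.SpecialLinearGroup.coe_one]
  have h1 := (QuotientGroup.eq_one_iff (A * B⁻¹)).2 hc
  rw [QuotientGroup.mk_mul, QuotientGroup.mk_inv, mul_inv_eq_one] at h1
  exact h1

theorem card_PSL34 (hF : Fintype.card F = 4) : Nat.card PSL3 = 20160 := by
  have h := Cfsg.Agent.Lib.Helper1.card_PSL_field (F := F) 3 (by norm_num)
  rw [hF, Fin.prod_univ_three] at h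
  norm_num at h
  omega

variable (ι : F4c →+* F)

/-- The image in `PSL₃` of a concrete matrix of determinant one. -/
def pm (M : Matrix (Fin 3) (Fin 3) F4c) : PSL3 :=
  if h : M.det = 1 then QuotientGroup.mk (toSL ι M h) else 1

theorem pm_of_det {M : Matrix (Fin 3) (Fin 3) F4c} (h : M.det = 1) :
    pm ι M = QuotientGroup.mk (toSL ι M h) := dif_pos h

theorem pm_mul {A B : Matrix (Fin 3) (Fin 3) F4c} (hA : A.det = 1) (hB : B.det = 1) :
    pm ι (A * B) = pm ι A * pm ι B := by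
  have hAB : (A * B).det = 1 := by rw [Matrix.det_mul, hA, hB, one_mul]
  rw [pm_of_det ι hA, pm_of_det ι hB, pm_of_det ι hAB, ← QuotientGroup.mk_mul]
  congr 1
  apply Subtype.ext
  rw [Matrix.SpecialLinearGroup.coe_mul, toSL_coe, toSL_coe, toSL_coe, map_mul]

theorem pm_one : pm ι 1 = 1 := by
  rw [pm_of_det ι Matrix.det_one]
  have : toSL ι 1 Matrix.det_one = 1 := by
    apply Subtype.ext
    rw [toSL_coe, map_one]
    rfl
  rw [this]
  rfl

theorem pm_smul {c : F4c} {B : Matrix (Fin 3) (Fin 3) F4c} (hB : B.det = 1) (hc : c ^ 3 = 1) :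
    pm ι (c • B) = pm ι B := by
  have hcB : (c • B).det = 1 := by
    rw [Matrix.det_smul, hB, mul_one, Fintype.card_fin, hc]
  rw [pm_of_det ι hcB, pm_of_det ι hB]
  apply mk_eq_of_smul _ _ (ι c)
  rw [toSL_coe, toSL_coe, mapMatrix_smul]

theorem pm_pow {M : Matrix (Fin 3) (Fin 3) F4c} (hM : M.det = 1) (n : ℕ) :
    pm ι (M ^ n) = pm ι M ^ n := by
  induction n with
  | zero => rw [pow_zero, pow_zero, pm_one]
  | succ n ih =>
    rw [pow_succ, pow_succ, pm_mul ι (by rw [Matrix.det_pow, hM, one_pow]) hM, ih]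

theorem pm_eq_one (hι : Function.Injective ι) {M : Matrix (Fin 3) (Fin 3) F4c}
    (hM : M.det = 1) (h : pm ι M = 1) : ∃ c : F4c, M = c • 1 := by
  rw [pm_of_det ι hM, QuotientGroup.eq_one_iff, Matrix.SpecialLinearGroup.mem_center_iff] at h
  obtain ⟨r, -, hr⟩ := h
  apply scalar_of_map ι hι M r
  rw [← toSL_coe ι M hM, ← hr]
  ext i j
  simp [Matrix.one_apply, Matrix.scalar_apply, Matrix.diagonal_apply]

end final

/-- In the projective special linear group PSL(3, 4) all subgroups of order 3 are conjugate. -/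
theorem result (F : Type*) [Field F] [Fintype F] (hF : Fintype.card F = 4) (X Y : Subgroup (Matrix.ProjectiveSpecialLinearGroup (Fin 3) F)) (hX : Nat.card ↥X = 3) (hY : Nat.card ↥Y = 3) : ∃ g : Matrix.ProjectiveSpecialLinearGroup (Fin 3) F, MulAut.conj g • X = Y := by
  classical
  have h2 : (2 : F) = 0 := by
    have h4 : ((4 : ℕ) : F) = 0 := by
      rw [← hF]
      exact Nat.cast_card_eq_zero F
    have h4' : (2 : F) * 2 = 0 := by
      have : ((4 : ℕ) : F) = 2 * 2 := by norm_num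
      rw [← this]
      exact h4
    exact mul_self_eq_zero.1 h4'
  haveI : CharP F 2 := CharTwo.of_one_ne_zero_of_two_eq_zero one_ne_zero h2
  obtain ⟨ω, hω⟩ : ∃ ω : F, ω ^ 2 = ω + 1 := by
    have hex : ∃ x : F, x ≠ 0 ∧ x ≠ 1 := by
      by_contra hcon
      have hall : ∀ x : F, x = 0 ∨ x = 1 := by
        intro x
        by_contra hx
        apply hcon
        exact ⟨x, fun h => hx (Or.inl h), fun h => hx (Or.inr h)⟩
      have hle : Fintype.card F ≤ 2 := by
        have hsub : (Finset.univ : Finset F) ⊆ {0, 1} := by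
          intro x _
          rcases hall x with rfl | rfl <;> simp
        calc Fintype.card F = (Finset.univ : Finset F).card := rfl
          _ ≤ ({0, 1} : Finset F).card := Finset.card_le_card hsub
          _ ≤ 2 := Finset.card_le_two
      omega
    obtain ⟨x, hx0, hx1⟩ := hex
    have hx3 : x ^ 3 = 1 := by
      have := FiniteField.pow_card_sub_one_eq_one x hx0
      rwa [hF] at this
    refine ⟨x, ?_⟩
    have hfac : (x - 1) * (x ^ 2 + x + 1) = 0 := by linear_combination hx3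
    rcases mul_eq_zero.1 hfac with h | h
    · exact absurd (sub_eq_zero.1 h) hx1
    · linear_combination h - (x + 1) * h2
  obtain ⟨ι, hι⟩ : ∃ ι : F4c →+* F, Function.Injective ι :=
    ⟨iota (ZMod.castHom (dvd_refl 2) F) ω hω, iota_injective _ ω hω⟩
  have hDS : (Dc * Sc).det = 1 := by rw [Matrix.det_mul, det_Dc, det_Sc, one_mul]
  have hDD : (Dc * Dc).det = 1 := by rw [Matrix.det_mul, det_Dc, one_mul]
  have hDDS : (Dc * Dc * Sc).det = 1 := by rw [Matrix.det_mul, hDD, det_Sc, one_mul]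
  have hd3' : pm ι Dc * pm ι Dc * pm ι Dc = 1 := by
    rw [← pm_mul ι det_Dc det_Dc, ← pm_mul ι hDD det_Dc, Dc_cube, pm_one]
  have hs3' : pm ι Sc * pm ι Sc * pm ι Sc = 1 := by
    have hSS : (Sc * Sc).det = 1 := by rw [Matrix.det_mul, det_Sc, one_mul]
    rw [← pm_mul ι det_Sc det_Sc, ← pm_mul ι hSS det_Sc, Sc_cube, pm_one]
  have hd3 : pm ι Dc ^ 3 = 1 := by
    rw [← hd3']
    simp only [pow_succ, pow_zero, one_mul]
  have hs3 : pm ι Sc ^ 3 = 1 := by
    rw [← hs3']
    simp only [pow_succ, pow_zero, one_mul]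
  have hcomm : pm ι Sc * pm ι Dc = pm ι Dc * pm ι Sc := by
    rw [← pm_mul ι det_Sc det_Dc, comm_c, pm_smul ι hDS w2c_cube, pm_mul ι det_Dc det_Sc]
  have h1 : pm ι G1c * pm ι Dc = pm ι Sc * pm ι G1c := by
    rw [← pm_mul ι det_G1c det_Dc, conj1, pm_mul ι det_Sc det_G1c]
  have h2' : pm ι G2c * pm ι Dc = pm ι Dc * pm ι Sc * pm ι G2c := by
    have hdet : (Dc * Sc * G2c).det = 1 := by rw [Matrix.det_mul, hDS, det_G2c, one_mul]
    rw [← pm_mul ι det_G2c det_Dc, conj2, pm_smul ι hdet w2c_cube, pm_mul ι hDS det_G2c,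
      pm_mul ι det_Dc det_Sc]
  have h3 : pm ι G3c * pm ι Dc = pm ι Dc * pm ι Dc * pm ι Sc * pm ι G3c := by
    have hdet : (Dc * Dc * Sc * G3c).det = 1 := by rw [Matrix.det_mul, hDDS, det_G3c, one_mul]
    rw [← pm_mul ι det_G3c det_Dc, conj3, pm_smul ι hdet wc_cube, pm_mul ι hDDS det_G3c,
      pm_mul ι hDD det_Sc, pm_mul ι det_Dc det_Dc]
  have hker : ∀ i j : ℕ, i < 3 → j < 3 → pm ι Dc ^ i * pm ι Sc ^ j = 1 → i = 0 ∧ j = 0 := by
    intro i j hi hj h
    have hdi : (Dc ^ i).det = 1 := by rw [Matrix.det_pow, det_Dc, one_pow]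
    have hsj : (Sc ^ j).det = 1 := by rw [Matrix.det_pow, det_Sc, one_pow]
    rw [← pm_pow ι det_Dc, ← pm_pow ι det_Sc, ← pm_mul ι hdi hsj] at h
    have hdet : (Dc ^ i * Sc ^ j).det = 1 := by rw [Matrix.det_mul, hdi, hsj, one_mul]
    obtain ⟨c, hc⟩ := pm_eq_one ι hι hdet h
    have := ker_c ⟨i, hi⟩ ⟨j, hj⟩ ⟨c, hc⟩
    exact ⟨congrArg Fin.val this.1, congrArg Fin.val this.2⟩
  have hG := card_PSL34 hF
  obtain ⟨g1, hg1⟩ := abstract_key hG (pm ι Dc) (pm ι Sc) (pm ι G1c) (pm ι G2c) (pm ι G3c)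
    hd3 hs3 hcomm h1 h2' h3 hker X hX
  obtain ⟨g2, hg2⟩ := abstract_key hG (pm ι Dc) (pm ι Sc) (pm ι G1c) (pm ι G2c) (pm ι G3c)
    hd3 hs3 hcomm h1 h2' h3 hker Y hY
  refine ⟨g2⁻¹ * g1, ?_⟩
  rw [map_mul, mul_smul, hg1, ← hg2, map_inv, inv_smul_smul]

end Cfsg.Agent.S2739
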