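import Cfsg.Statements.S2758
import Mathlib
import Cfsg.Agent.Lib.Helper4.ElemAbTwo2
import Cfsg.Agent.S1236

set_option autoImplicit false
open Cfsg

namespace Cfsg.Agent.S2758

set_option maxRecDepth 100000
open Cfsg

variable {G : Type*} [Group G] [Finite G] {p : ℕ} [Fact p.Prime]

theorem two_pow_order (x : G) (k m : ℕ) (hx : orderOf x = 2 ^ k) : ∃ i, orderOf (x ^ m) = 2 ^ i := by
  have h1 : orderOf (x ^ m) ∣ 2 ^ k := by rw [← hx]; exact orderOf_pow_dvd m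
  obtain ⟨i, -, hi⟩ := (Nat.dvd_prime_pow Nat.prime_two).1 h1
  exact ⟨i, hi⟩

omit [Finite G] in
theorem p_pow_order (P : Subgroup G) (hP : IsPGroup p P) (y : G) (hy : y ∈ P) :
    ∃ l, orderOf y = p ^ l := by
  obtain ⟨k, hk⟩ := hP ⟨y, hy⟩
  have hk' : y ^ (p ^ k) = 1 := by
    have := congrArg Subtype.val hk
    simpa using this
  obtain ⟨i, -, hi⟩ := (Nat.dvd_prime_pow (Fact.out : p.Prime)).1 (orderOf_dvd_of_pow_eq_one hk')
  exact ⟨i, hi⟩

theorem two_to_three (x : G) (P : Subgroup G) (k : ℕ) (hx : orderOf x = 2 ^ k) (hP : IsPGroup p P)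
    (hxN : x ∈ Subgroup.normalizer (P : Set G)) (hxC : x ∉ Subgroup.centralizer (P : Set G)) :
    ∃ x y : G, (∃ k : ℕ, orderOf x = 2 ^ k) ∧ (∃ k : ℕ, orderOf y = p ^ k) ∧ y ≠ 1 ∧
      x * y * x⁻¹ = y⁻¹ := by
  classical
  have hex : ∃ j, x ^ (2 ^ j) ∈ Subgroup.centralizer (P : Set G) :=
    ⟨k, by rw [← hx, pow_orderOf_eq_one]; exact Subgroup.one_mem _⟩
  have hj1 : Nat.find hex ≠ 0 := by
    intro h
    have := Nat.find_spec hex
    rw [h, pow_zero, pow_one] at this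
    exact hxC this
  obtain ⟨j, hj⟩ : ∃ j, Nat.find hex = j + 1 := ⟨Nat.find hex - 1, by omega⟩
  have hx'C : x ^ (2 ^ j) ∉ Subgroup.centralizer (P : Set G) := Nat.find_min hex (by omega)
  have hx'2 : (x ^ (2 ^ j)) ^ 2 ∈ Subgroup.centralizer (P : Set G) := by
    have := Nat.find_spec hex
    rw [hj, pow_succ, pow_mul] at this
    exact this
  have hx'N : x ^ (2 ^ j) ∈ Subgroup.normalizer (P : Set G) := Subgroup.pow_mem _ hxN _
  obtain ⟨x', hx'⟩ : ∃ x', x' = x ^ (2 ^ j) := ⟨_, rfl⟩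
  rw [← hx'] at hx'C hx'2 hx'N
  rw [Subgroup.mem_centralizer_iff] at hx'C
  push Not at hx'C
  obtain ⟨g, hg, hgx⟩ := hx'C
  have hconj : x' * g * x'⁻¹ ∈ P := (Subgroup.mem_normalizer_iff.1 hx'N g).1 hg
  refine ⟨x', g⁻¹ * (x' * g * x'⁻¹), ?_, ?_, ?_, ?_⟩
  · rw [hx']; exact two_pow_order x k _ hx
  · exact p_pow_order P hP _ (P.mul_mem (P.inv_mem hg) hconj)
  · intro h
    apply hgx
    have : x' * g * x'⁻¹ = g := by
      have := congrArg (fun z => g * z) h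
      simpa using this
    calc g * x' = (x' * g * x'⁻¹) * x' := by rw [this]
      _ = x' * g := by group
  · have hc : g * x' ^ 2 = x' ^ 2 * g := (Subgroup.mem_centralizer_iff.1 hx'2) g hg
    have h1 : x' * (x' * g * x'⁻¹) * x'⁻¹ = g := by
      have : x' * (x' * g * x'⁻¹) * x'⁻¹ = (x' ^ 2 * g) * (x' ^ 2)⁻¹ := by
        rw [pow_two]; group
      rw [this, ← hc, mul_inv_cancel_right]
    calc x' * (g⁻¹ * (x' * g * x'⁻¹)) * x'⁻¹
        = (x' * g * x'⁻¹)⁻¹ * (x' * (x' * g * x'⁻¹) * x'⁻¹) := by group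
      _ = (x' * g * x'⁻¹)⁻¹ * g := by rw [h1]
      _ = (g⁻¹ * (x' * g * x'⁻¹))⁻¹ := by group


theorem three_to_one (hp : p ≠ 2) (x y : G) (k l : ℕ) (hx : orderOf x = 2 ^ k)
    (hy : orderOf y = p ^ l) (hy1 : y ≠ 1) (hxy : x * y * x⁻¹ = y⁻¹) :
    Involves (DihedralGroup p) G := by
  have hpp : p.Prime := Fact.out
  obtain ⟨l, rfl⟩ : ∃ l', l = l' + 1 := by
    cases l with
    | zero => rw [pow_zero, orderOf_eq_one_iff] at hy; exact absurd hy hy1
    | succ l => exact ⟨l, rfl⟩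
  obtain ⟨y', hy'⟩ : ∃ y', y' = y ^ (p ^ l) := ⟨_, rfl⟩
  have hy'p : y' ^ p = 1 := by
    rw [hy', ← pow_mul, ← pow_succ, ← hy, pow_orderOf_eq_one]
  have hy'1 : y' ≠ 1 := by
    intro h
    rw [hy'] at h
    have := orderOf_dvd_of_pow_eq_one h
    rw [hy] at this
    have h2 := Nat.le_of_dvd (pow_pos hpp.pos _) this
    have h3 : p ^ l < p ^ (l + 1) := Nat.pow_lt_pow_right hpp.one_lt (by omega)
    omega
  have hy'ord : orderOf y' = p := orderOf_eq_prime hy'p hy'1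
  have hxy' : x * y' * x⁻¹ = y'⁻¹ := by rw [hy', ← conj_pow, hxy, inv_pow]
  have hx2y : x ^ 2 * y' = y' * x ^ 2 := by
    have h1 : x * y' = y'⁻¹ * x := by rw [← hxy']; group
    have h2 : x * y'⁻¹ = y' * x := by
      have : x * y'⁻¹ * x⁻¹ = y' := by
        rw [← inv_inj, mul_inv_rev, mul_inv_rev, inv_inv, inv_inv, ← mul_assoc, hxy']
      calc x * y'⁻¹ = (x * y'⁻¹ * x⁻¹) * x := by group
        _ = y' * x := by rw [this]
    calc x ^ 2 * y' = x * (x * y') := by rw [pow_two, mul_assoc]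
      _ = x * (y'⁻¹ * x) := by rw [h1]
      _ = (x * y'⁻¹) * x := by rw [mul_assoc]
      _ = y' * x * x := by rw [h2]
      _ = y' * x ^ 2 := by rw [pow_two, mul_assoc]
  let K : Subgroup G := Subgroup.zpowers x ⊔ Subgroup.zpowers y'
  let R : Subgroup G := Subgroup.zpowers (x ^ 2)
  have hxK : x ∈ K := Subgroup.mem_sup_left (Subgroup.mem_zpowers x)
  have hyK : y' ∈ K := Subgroup.mem_sup_right (Subgroup.mem_zpowers y')
  have hRK : R ≤ K := Subgroup.zpowers_le.2 (K.pow_mem hxK 2)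
  have hcent : K ≤ Subgroup.centralizer (R : Set G) := by
    apply sup_le
    · rw [Subgroup.zpowers_le, Subgroup.mem_centralizer_iff]
      intro h hh
      obtain ⟨i, rfl⟩ := Subgroup.mem_zpowers_iff.1 hh
      exact (((Commute.refl x).pow_left 2).zpow_left i).eq
    · rw [Subgroup.zpowers_le, Subgroup.mem_centralizer_iff]
      intro h hh
      obtain ⟨i, rfl⟩ := Subgroup.mem_zpowers_iff.1 hh
      have : Commute (x ^ 2) y' := hx2y
      exact (this.zpow_left i).eq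
  haveI hnorm : (R.subgroupOf K).Normal :=
    (Subgroup.normal_subgroupOf_iff_le_normalizer hRK).2
      (hcent.trans (Subgroup.centralizer_le_normalizer _))
  refine ⟨K, R, hnorm, ?_⟩
  -- elements of the quotient
  let b : ↥K ⧸ R.subgroupOf K := QuotientGroup.mk ⟨x, hxK⟩
  let a : ↥K ⧸ R.subgroupOf K := QuotientGroup.mk ⟨y', hyK⟩
  have hbb : b * b = 1 := by
    show (QuotientGroup.mk (⟨x, hxK⟩ * ⟨x, hxK⟩ : ↥K) : ↥K ⧸ R.subgroupOf K) = 1
    rw [QuotientGroup.eq_one_iff, Subgroup.mem_subgroupOf]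
    show x * x ∈ R
    rw [← pow_two]; exact Subgroup.mem_zpowers _
  have hba : b * a * b⁻¹ = a⁻¹ := by
    show (QuotientGroup.mk ((⟨x, hxK⟩ * ⟨y', hyK⟩ * ⟨x, hxK⟩⁻¹ : ↥K)) : ↥K ⧸ R.subgroupOf K) =
      QuotientGroup.mk ((⟨y', hyK⟩ : ↥K)⁻¹)
    congr 1
    apply Subtype.ext
    exact hxy'
  have hap : a ^ p = 1 := by
    show (QuotientGroup.mk ((⟨y', hyK⟩ : ↥K) ^ p) : ↥K ⧸ R.subgroupOf K) = 1
    have : (⟨y', hyK⟩ : ↥K) ^ p = 1 := Subtype.ext hy'p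
    rw [this]; rfl
  have haa : a * a ≠ 1 := by
    intro h
    have h1 : (QuotientGroup.mk (⟨y', hyK⟩ * ⟨y', hyK⟩ : ↥K) : ↥K ⧸ R.subgroupOf K) = 1 := h
    rw [QuotientGroup.eq_one_iff, Subgroup.mem_subgroupOf] at h1
    have h2 : y' * y' ∈ R := h1
    obtain ⟨i, hi⟩ := Subgroup.mem_zpowers_iff.1 h2
    -- y'*y' has order p and is a 2-element
    have h3 : (y' * y') ^ (2 ^ k) = 1 := by
      rw [← hi, ← zpow_natCast, ← zpow_mul, mul_comm, zpow_mul, zpow_natCast, ← pow_mul, mul_comm,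
        pow_mul, ← hx, pow_orderOf_eq_one, one_pow, one_zpow]
    have h4 : (y' * y') ^ p = 1 := by rw [← pow_two, ← pow_mul, mul_comm, pow_mul, hy'p, one_pow]
    have h5 : orderOf (y' * y') ∣ Nat.gcd (2 ^ k) p :=
      Nat.dvd_gcd (orderOf_dvd_of_pow_eq_one h3) (orderOf_dvd_of_pow_eq_one h4)
    have h6 : Nat.gcd (2 ^ k) p = 1 := by
      apply Nat.Coprime.pow_left
      exact (Nat.coprime_primes Nat.prime_two hpp).2 (fun h => hp h.symm)
    rw [h6, Nat.dvd_one, orderOf_eq_one_iff, ← pow_two] at h5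
    have h7 : orderOf y' ∣ 2 := orderOf_dvd_of_pow_eq_one h5
    rw [hy'ord] at h7
    exact hp ((Nat.prime_dvd_prime_iff_eq hpp Nat.prime_two).1 h7)
  have ha1 : a ≠ 1 := by
    intro h; apply haa; rw [h, one_mul]
  have haord : orderOf a = p := orderOf_eq_prime hap ha1
  obtain ⟨e⟩ := Cfsg.Agent.Lib.Helper4.ea_dihedral b a hbb hba haa
  rw [haord] at e
  have htop : Subgroup.zpowers b ⊔ Subgroup.zpowers a = ⊤ := by
    have h1 : Subgroup.zpowers (⟨x, hxK⟩ : ↥K) ⊔ Subgroup.zpowers (⟨y', hyK⟩ : ↥K) = ⊤ := by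
      apply Subgroup.map_injective K.subtype_injective
      rw [Subgroup.map_sup, MonoidHom.map_zpowers, MonoidHom.map_zpowers, ← MonoidHom.range_eq_map,
        Subgroup.range_subtype]
      rfl
    have h2 := congrArg (Subgroup.map (QuotientGroup.mk' (R.subgroupOf K))) h1
    rw [Subgroup.map_sup, MonoidHom.map_zpowers, MonoidHom.map_zpowers,
      Subgroup.map_top_of_surjective _ (QuotientGroup.mk'_surjective _)] at h2
    exact h2
  exact ⟨(Subgroup.topEquiv.symm.trans (MulEquiv.subgroupCongr htop.symm)).trans e⟩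


open Cfsg.Agent.S1236 in
theorem rot_normal (m : ℕ) : (rot m).Normal := by
  constructor
  rintro _ ⟨i, rfl⟩ g
  cases g with
  | r j =>
    refine ⟨i, ?_⟩
    rw [DihedralGroup.inv_r, DihedralGroup.r_mul_r, DihedralGroup.r_mul_r]
    congr 1; ring
  | sr j =>
    refine ⟨-i, ?_⟩
    rw [DihedralGroup.inv_sr, DihedralGroup.sr_mul_r, DihedralGroup.sr_mul_sr]
    congr 1; ring

theorem sr_pow_odd {m : ℕ} (j : ZMod m) (c : ℕ) (hc : ¬ 2 ∣ c) :
    (DihedralGroup.sr j) ^ c = DihedralGroup.sr j := by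
  obtain ⟨d, rfl⟩ : ∃ d, c = 2 * d + 1 := ⟨c / 2, by omega⟩
  rw [pow_succ, pow_mul, pow_two, DihedralGroup.sr_mul_self, one_pow, one_mul]

open Cfsg.Agent.S1236 in
theorem one_to_two (hp : p ≠ 2) (h : Involves (DihedralGroup p) G) :
    ∃ (x : G) (P : Subgroup G), (∃ k : ℕ, orderOf x = 2 ^ k) ∧ IsPGroup p ↥P ∧
      x ∈ Subgroup.normalizer (P : Set G) ∧ x ∉ Subgroup.centralizer (P : Set G) := by
  have hpp : p.Prime := Fact.out
  obtain ⟨K, R, hn, ⟨e⟩⟩ := h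
  haveI := hn
  let φ : ↥K →* DihedralGroup p := e.toMonoidHom.comp (QuotientGroup.mk' (R.subgroupOf K))
  have hφ : Function.Surjective φ := e.surjective.comp (QuotientGroup.mk'_surjective _)
  haveI := rot_normal p
  let M : Subgroup ↥K := (rot p).comap φ
  haveI hMn : M.Normal := Subgroup.Normal.comap inferInstance φ
  obtain ⟨m₀, hm₀⟩ := hφ (DihedralGroup.r 1)
  obtain ⟨a, c, hc, hac⟩ := Nat.exists_eq_pow_mul_and_not_dvd (orderOf_pos m₀).ne' p hpp.ne_one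
  have hzM : m₀ ^ c ∈ M := by
    show φ (m₀ ^ c) ∈ rot p
    rw [map_pow, hm₀, DihedralGroup.r_one_pow]
    exact ⟨_, rfl⟩
  have hφz : φ (m₀ ^ c) = DihedralGroup.r (c : ZMod p) := by
    rw [map_pow, hm₀, DihedralGroup.r_one_pow]
  have hc0 : (c : ZMod p) ≠ 0 := by
    rw [Ne, ZMod.natCast_eq_zero_iff]; exact hc
  have hzp : (m₀ ^ c) ^ (p ^ a) = 1 := by
    rw [← pow_mul, mul_comm, ← hac, pow_orderOf_eq_one]
  have hzpg : IsPGroup p (Subgroup.zpowers (⟨m₀ ^ c, hzM⟩ : ↥M)) := by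
    have h1 : orderOf (⟨m₀ ^ c, hzM⟩ : ↥M) ∣ p ^ a := by
      apply orderOf_dvd_of_pow_eq_one
      apply Subtype.ext
      exact hzp
    obtain ⟨i, -, hi⟩ := (Nat.dvd_prime_pow hpp).1 h1
    apply IsPGroup.of_card (n := i)
    rw [Nat.card_zpowers, hi]
  obtain ⟨P, hP⟩ := hzpg.exists_le_sylow
  have hfr := Sylow.normalizer_sup_eq_top P
  obtain ⟨k₀, hk₀⟩ := hφ (DihedralGroup.sr 0)
  have hk₀mem : k₀ ∈ Subgroup.normalizer (((P : Subgroup ↥M).map M.subtype : Subgroup ↥K) : Set ↥K) ⊔ M := by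
    rw [hfr]; trivial
  obtain ⟨n, hnN, m, hm, hnm⟩ := Subgroup.mem_sup_of_normal_right.1 hk₀mem
  have hφn : ∃ j, φ n = DihedralGroup.sr j := by
    apply not_mem_rot
    intro hcon
    have h1 : φ k₀ ∈ rot p := by
      rw [← hnm, map_mul]
      exact (rot p).mul_mem hcon hm
    rw [hk₀] at h1
    obtain ⟨i, hi⟩ := h1
    cases hi
  obtain ⟨j, hj⟩ := hφn
  obtain ⟨a2, c2, hc2, hac2⟩ := Nat.exists_eq_pow_mul_and_not_dvd (orderOf_pos n).ne' 2 (by norm_num)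
  have hφn2 : φ (n ^ c2) = DihedralGroup.sr j := by
    rw [map_pow, hj, sr_pow_odd j c2 hc2]
  have hn2N : n ^ c2 ∈ Subgroup.normalizer (((P : Subgroup ↥M).map M.subtype : Subgroup ↥K) : Set ↥K) :=
    Subgroup.pow_mem _ hnN _
  have hn2ord : ∃ i, orderOf (n ^ c2) = 2 ^ i := by
    have h1 : orderOf (n ^ c2) ∣ 2 ^ a2 := by
      apply orderOf_dvd_of_pow_eq_one
      rw [← pow_mul, mul_comm, ← hac2, pow_orderOf_eq_one]
    obtain ⟨i, -, hi⟩ := (Nat.dvd_prime_pow Nat.prime_two).1 h1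
    exact ⟨i, hi⟩
  refine ⟨((n ^ c2 : ↥K) : G), (((P : Subgroup ↥M).map M.subtype).map K.subtype), ?_, ?_, ?_, ?_⟩
  · obtain ⟨i, hi⟩ := hn2ord
    exact ⟨i, by rw [Subgroup.orderOf_coe, hi]⟩
  · exact (P.2.map _).map _
  · apply Subgroup.mem_normalizer_fintype
    rintro _ ⟨q, hq, rfl⟩
    refine ⟨n ^ c2 * q * (n ^ c2)⁻¹, ?_, rfl⟩
    exact (Subgroup.mem_normalizer_iff.1 hn2N q).1 hq
  · intro hcon
    rw [Subgroup.mem_centralizer_iff] at hcon
    have hzP : ((m₀ ^ c : ↥K) : G) ∈ (((P : Subgroup ↥M).map M.subtype).map K.subtype) := by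
      refine ⟨m₀ ^ c, ⟨⟨m₀ ^ c, hzM⟩, hP (Subgroup.mem_zpowers _), rfl⟩, rfl⟩
    have h1 := hcon _ hzP
    have h2 : (m₀ ^ c) * (n ^ c2) = (n ^ c2) * (m₀ ^ c) := Subtype.ext h1
    have h3 := congrArg φ h2
    rw [map_mul, map_mul, hφz, hφn2, DihedralGroup.r_mul_sr, DihedralGroup.sr_mul_r] at h3
    have h4 : j - (c : ZMod p) = j + c := DihedralGroup.sr.inj h3
    have h5 : (2 : ZMod p) * c = 0 := by
      have : (j + c) - (j - (c : ZMod p)) = 0 := by rw [h4, sub_self]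
      rw [← this]; ring
    rcases mul_eq_zero.1 h5 with h6 | h6
    · have : ((2 : ℕ) : ZMod p) = 0 := by exact_mod_cast h6
      rw [ZMod.natCast_eq_zero_iff] at this
      exact hp ((Nat.prime_dvd_prime_iff_eq hpp Nat.prime_two).1 this)
    · exact hc0 h6


theorem main2758 {G : Type*} [Group G] [Finite G] {p : ℕ} [Fact p.Prime] (hp : p ≠ 2) : (Cfsg.Involves (DihedralGroup p) G ↔ ∃ (x : G) (P : Subgroup G), (∃ k : ℕ, orderOf x = 2 ^ k) ∧ IsPGroup p ↥P ∧ x ∈ Subgroup.normalizer (P : Set G) ∧ x ∉ Subgroup.centralizer (P : Set G)) ∧ (Cfsg.Involves (DihedralGroup p) G ↔ ∃ x y : G, (∃ k : ℕ, orderOf x = 2 ^ k) ∧ (∃ k : ℕ, orderOf y = p ^ k) ∧ y ≠ 1 ∧ x * y * x⁻¹ = y⁻¹) := by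
  have h23 : (∃ (x : G) (P : Subgroup G), (∃ k : ℕ, orderOf x = 2 ^ k) ∧ IsPGroup p ↥P ∧ x ∈ Subgroup.normalizer (P : Set G) ∧ x ∉ Subgroup.centralizer (P : Set G)) →
      ∃ x y : G, (∃ k : ℕ, orderOf x = 2 ^ k) ∧ (∃ k : ℕ, orderOf y = p ^ k) ∧ y ≠ 1 ∧ x * y * x⁻¹ = y⁻¹ := by
    rintro ⟨x, P, ⟨k, hk⟩, hP, hN, hC⟩
    exact two_to_three x P k hk hP hN hC
  have h31 : (∃ x y : G, (∃ k : ℕ, orderOf x = 2 ^ k) ∧ (∃ k : ℕ, orderOf y = p ^ k) ∧ y ≠ 1 ∧ x * y * x⁻¹ = y⁻¹) →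
      Cfsg.Involves (DihedralGroup p) G := by
    rintro ⟨x, y, ⟨k, hk⟩, ⟨l, hl⟩, hy1, hxy⟩
    exact three_to_one hp x y k l hk hl hy1 hxy
  exact ⟨⟨one_to_two hp, fun h => h31 (h23 h)⟩, ⟨fun h => h23 (one_to_two hp h), h31⟩⟩


/-- For an odd prime p and a finite group G the following are equivalent: the dihedral group of order 2p is involved in G; some element of 2-power order normalizes but does not centralize some p-subgroup of G; some element of 2-power order inverts some nonidentity element of p-power order. -/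
theorem result {G : Type*} [Group G] [Finite G] {p : ℕ} [Fact p.Prime] (hp : p ≠ 2) : (Cfsg.Involves (DihedralGroup p) G ↔ ∃ (x : G) (P : Subgroup G), (∃ k : ℕ, orderOf x = 2 ^ k) ∧ IsPGroup p ↥P ∧ x ∈ Subgroup.normalizer (P : Set G) ∧ x ∉ Subgroup.centralizer (P : Set G)) ∧ (Cfsg.Involves (DihedralGroup p) G ↔ ∃ x y : G, (∃ k : ℕ, orderOf x = 2 ^ k) ∧ (∃ k : ℕ, orderOf y = p ^ k) ∧ y ≠ 1 ∧ x * y * x⁻¹ = y⁻¹) := by
  exact main2758 hp

end Cfsg.Agent.S2758
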