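import Cfsg.Statements.S2760
import Cfsg.Agent.Lib.Helper5.CharP

set_option autoImplicit false
open Cfsg

namespace Cfsg.Agent.S2760

theorem result {G : Type*} [Group G] [Finite G] (hchar : Subgroup.centralizer (Cfsg.pCore 2 G : Set G) ≤ Cfsg.pCore 2 G) (H : Subgroup G) (hH : H.Normal ∨ ((Cfsg.pResidual 2 ↥H).map H.subtype).Normal) : Subgroup.centralizer (Cfsg.pCore 2 ↥H : Set ↥H) ≤ Cfsg.pCore 2 ↥H := by
  rcases hH with hH | hK
  · apply Cfsg.Agent.Lib.Helper5.charp_of_normalizedBy hchar H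
    rw [Subgroup.normalizer_eq_top_iff.mpr hH]
    exact le_top
  · set K := (Cfsg.pResidual 2 ↥H).map H.subtype with hKdef
    have hKH : K ≤ H := Subgroup.map_subtype_le _
    have hKc := Cfsg.Agent.Lib.Helper5.charp_of_normalizedBy hchar K
      (by rw [Subgroup.normalizer_eq_top_iff.mpr hK]; exact le_top)
    apply Cfsg.Agent.Lib.Helper5.charp_of_coprime_trivial
    intro x hx hxc
    have hxres : x ∈ Cfsg.pResidual 2 ↥H := Subgroup.subset_closure hxc
    have hxK : (x : G) ∈ K := ⟨x, hxres, rfl⟩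
    have hle := Cfsg.Agent.Lib.Helper5.pCoreOf_le_pCoreOf_of_normal (p := 2) K H hKH (hK.subgroupOf H)
    have h1 : (⟨x, hxK⟩ : K) ∈ Subgroup.centralizer (Cfsg.pCore 2 ↥K : Set K) := by
      rw [Subgroup.mem_centralizer_iff]
      intro q hq
      have hq' : (q : G) ∈ Cfsg.pCoreOf 2 H := hle ⟨q, hq, rfl⟩
      obtain ⟨q'', hq'', hqq⟩ := hq'
      have h5 := (Subgroup.mem_centralizer_iff.mp hx) q'' hq''
      apply Subtype.ext
      have h6 := congrArg (fun z : ↥H => (z : G)) h5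
      simp only [Subgroup.coe_mul] at h6 ⊢
      rw [← hqq]
      exact h6
    have h2 := hKc h1
    obtain ⟨k, hk⟩ := Cfsg.Agent.Lib.Helper5.isPGroup_mem_pow _
      (Cfsg.Agent.Lib.Helper5.isPGroup_pCore 2 ↥K) _ h2
    have hk' : (x : G) ^ 2 ^ k = 1 := by
      have := congrArg (fun z : ↥K => (z : G)) hk
      simpa using this
    have hxc' : (orderOf (x : G)).Coprime 2 := by rwa [Subgroup.orderOf_coe]
    have := Cfsg.Agent.Lib.Helper5.pelement_coprime_eq_one (p := 2) (x : G) hxc' ⟨k, hk'⟩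
    exact Subtype.ext this

end Cfsg.Agent.S2760
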