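import Cfsg.Statements.S3799
import Mathlib
import Cfsg.Agent.Lib.Helper9.ExtraSub

set_option autoImplicit false
open Cfsg

namespace Cfsg.Agent.S3799

set_option maxRecDepth 100000
open Cfsg Matrix
open scoped commutatorElement

/-- The Heisenberg group of dimension `2n+1` over `ZMod p`. -/
@[ext] structure Heis (n p : ℕ) where
  a : Fin n → ZMod p
  b : Fin n → ZMod p
  c : ZMod p

variable {n p : ℕ}

instance : Mul (Heis n p) := ⟨fun x y => ⟨x.a + y.a, x.b + y.b, x.c + y.c + x.a ⬝ᵥ y.b⟩⟩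
instance : One (Heis n p) := ⟨⟨0, 0, 0⟩⟩
instance : Inv (Heis n p) := ⟨fun x => ⟨-x.a, -x.b, -x.c + x.a ⬝ᵥ x.b⟩⟩

@[simp] theorem mul_a (x y : Heis n p) : (x * y).a = x.a + y.a := rfl
@[simp] theorem mul_b (x y : Heis n p) : (x * y).b = x.b + y.b := rfl
@[simp] theorem mul_c (x y : Heis n p) : (x * y).c = x.c + y.c + x.a ⬝ᵥ y.b := rfl
@[simp] theorem one_a : (1 : Heis n p).a = 0 := rfl
@[simp] theorem one_b : (1 : Heis n p).b = 0 := rfl
@[simp] theorem one_c : (1 : Heis n p).c = 0 := rfl
@[simp] theorem inv_a (x : Heis n p) : (x⁻¹).a = -x.a := rfl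
@[simp] theorem inv_b (x : Heis n p) : (x⁻¹).b = -x.b := rfl
@[simp] theorem inv_c (x : Heis n p) : (x⁻¹).c = -x.c + x.a ⬝ᵥ x.b := rfl

instance : Group (Heis n p) where
  mul_assoc x y z := by
    ext1
    · simp [add_assoc]
    · simp [add_assoc]
    · simp only [mul_c, mul_a, mul_b, add_dotProduct, dotProduct_add]; ring
  one_mul x := by ext1 <;> simp
  mul_one x := by ext1 <;> simp
  inv_mul_cancel x := by ext1 <;> simp


def heisEquiv (n p : ℕ) : Heis n p ≃ (Fin n → ZMod p) × (Fin n → ZMod p) × ZMod p where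
  toFun x := (x.a, x.b, x.c)
  invFun t := ⟨t.1, t.2.1, t.2.2⟩
  left_inv x := rfl
  right_inv t := rfl

theorem card_heis [Fact p.Prime] : Nat.card (Heis n p) = p ^ (1 + 2 * n) := by
  rw [Nat.card_congr (heisEquiv n p), Nat.card_prod, Nat.card_prod, Nat.card_fun, Nat.card_zmod,
    Nat.card_fin]
  ring

instance [Fact p.Prime] : Finite (Heis n p) := by
  apply Nat.finite_of_card_ne_zero
  rw [card_heis]
  exact pow_ne_zero _ (Fact.out : p.Prime).ne_zero

theorem pow_a (x : Heis n p) (k : ℕ) : (x ^ k).a = k • x.a := by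
  induction k with
  | zero => simp
  | succ k ih => rw [pow_succ, mul_a, ih, succ_nsmul]

theorem pow_b (x : Heis n p) (k : ℕ) : (x ^ k).b = k • x.b := by
  induction k with
  | zero => simp
  | succ k ih => rw [pow_succ, mul_b, ih, succ_nsmul]

theorem pow_c (x : Heis n p) (k : ℕ) :
    (x ^ k).c = k • x.c + (k.choose 2) • (x.a ⬝ᵥ x.b) := by
  induction k with
  | zero => simp
  | succ k ih =>
    rw [pow_succ, mul_c, ih, pow_a, smul_dotProduct, Nat.choose_succ_succ' k 1, Nat.choose_one_right,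
      succ_nsmul, add_nsmul]
    ring

theorem nsmul_p_vec [Fact p.Prime] (v : Fin n → ZMod p) : p • v = 0 := by
  ext i
  simp

theorem pow_p [Fact p.Prime] (hp : p ≠ 2) (x : Heis n p) : x ^ p = 1 := by
  have hpp : p.Prime := Fact.out
  ext1
  · rw [pow_a, nsmul_p_vec]; rfl
  · rw [pow_b, nsmul_p_vec]; rfl
  · rw [pow_c]
    have h2 : p ∣ p.choose 2 := hpp.dvd_choose_self (by norm_num) (by
      have := hpp.two_le; omega)
    obtain ⟨m, hm⟩ := h2
    rw [hm]
    simp

theorem mem_center_iff (x : Heis n p) : x ∈ Subgroup.center (Heis n p) ↔ x.a = 0 ∧ x.b = 0 := by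
  rw [Subgroup.mem_center_iff]
  constructor
  · intro h
    constructor
    · ext j
      have := congrArg Heis.c (h ⟨0, Pi.single j 1, 0⟩)
      simp at this
      simpa using this
    · ext j
      have := congrArg Heis.c (h ⟨Pi.single j 1, 0, 0⟩)
      simp at this
      simpa using this
  · rintro ⟨ha, hb⟩ g
    ext1
    · simp [ha]
    · simp [hb]
    · simp [ha, hb, add_comm]

def centerEquiv (n p : ℕ) : Subgroup.center (Heis n p) ≃ ZMod p where
  toFun x := x.1.c
  invFun c := ⟨⟨0, 0, c⟩, (mem_center_iff _).2 ⟨rfl, rfl⟩⟩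
  left_inv x := by
    obtain ⟨x, hx⟩ := x
    obtain ⟨ha, hb⟩ := (mem_center_iff _).1 hx
    apply Subtype.ext
    ext1
    · exact ha.symm
    · exact hb.symm
    · rfl
  right_inv c := rfl

theorem card_center [Fact p.Prime] : Nat.card (Subgroup.center (Heis n p)) = p := by
  rw [Nat.card_congr (centerEquiv n p), Nat.card_zmod]

theorem comm_mem_center (x y : Heis n p) : ⁅x, y⁆ ∈ Subgroup.center (Heis n p) := by
  rw [mem_center_iff, commutatorElement_def]
  constructor
  · simp
  · simp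

theorem pow_mem_center [Fact p.Prime] (x : Heis n p) : x ^ p ∈ Subgroup.center (Heis n p) := by
  rw [mem_center_iff, pow_a, pow_b, nsmul_p_vec, nsmul_p_vec]
  exact ⟨rfl, rfl⟩

theorem not_comm [Fact p.Prime] (hn : 1 ≤ n) : ∃ x y : Heis n p, x * y ≠ y * x := by
  refine ⟨⟨Pi.single ⟨0, hn⟩ 1, 0, 0⟩, ⟨0, Pi.single ⟨0, hn⟩ 1, 0⟩, ?_⟩
  intro h
  have := congrArg Heis.c h
  simp at this


abbrev Idx (n : ℕ) := Fin 1 ⊕ (Fin n ⊕ Fin 1)

def heisMat (x : Heis n p) : Matrix (Idx n) (Idx n) (ZMod p) :=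
  fromBlocks (1 : Matrix (Fin 1) (Fin 1) (ZMod p))
    (fromCols (replicateRow (Fin 1) x.a) (of fun _ _ => x.c)) 0
    (fromBlocks (1 : Matrix (Fin n) (Fin n) (ZMod p)) (replicateCol (Fin 1) x.b) 0
      (1 : Matrix (Fin 1) (Fin 1) (ZMod p)))

theorem heisMat_one : heisMat (1 : Heis n p) = 1 := by
  unfold heisMat
  have h0 : (of fun _ _ => (1 : Heis n p).c : Matrix (Fin 1) (Fin 1) (ZMod p)) = 0 := rfl
  rw [h0, one_a, one_b, replicateRow_zero, replicateCol_zero, fromCols_zero, fromBlocks_one,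
    fromBlocks_one]

theorem heisMat_mul (x y : Heis n p) : heisMat (x * y) = heisMat x * heisMat y := by
  unfold heisMat
  rw [fromBlocks_multiply, fromCols_mul_fromBlocks, fromBlocks_multiply]
  simp only [mul_one, Matrix.mul_zero, Matrix.zero_mul, add_zero, zero_add]
  congr 1
  · ext i j
    rcases j with j | j
    · simp [add_comm]
    · simp [replicateRow_mul_replicateCol]
      ring
  · congr 1
    ext i j
    simp [add_comm]


def heisHom0 (n p : ℕ) : Heis n p →* Matrix (Idx n) (Idx n) (ZMod p) where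
  toFun := heisMat
  map_one' := heisMat_one
  map_mul' := heisMat_mul

theorem heisMat_injective : Function.Injective (heisMat : Heis n p → _) := by
  intro x y h
  ext1
  · ext j
    have := congrFun (congrFun h (Sum.inl 0)) (Sum.inr (Sum.inl j))
    simpa [heisMat] using this
  · ext j
    have := congrFun (congrFun h (Sum.inr (Sum.inl j))) (Sum.inr (Sum.inr 0))
    simpa [heisMat] using this
  · have := congrFun (congrFun h (Sum.inl 0)) (Sum.inr (Sum.inr 0))
    simpa [heisMat] using this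

noncomputable def idxEquiv (n : ℕ) : Idx n ≃ Fin (n + 2) :=
  Fintype.equivOfCardEq (by simp [Idx]; omega)

noncomputable def heisHom (n p : ℕ) : Heis n p →* Matrix.GeneralLinearGroup (Fin (n + 2)) (ZMod p) :=
  (Units.mapEquiv (Matrix.reindexAlgEquiv (ZMod p) (ZMod p) (idxEquiv n)).toMulEquiv).toMonoidHom.comp
    (heisHom0 n p).toHomUnits

theorem heisHom_injective : Function.Injective (heisHom n p) := by
  unfold heisHom
  rw [MonoidHom.coe_comp]
  apply Function.Injective.comp
  · exact (Units.mapEquiv _).injective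
  · intro x y h
    apply heisMat_injective
    have := congrArg Units.val h
    simpa [heisHom0] using this


theorem extraspecial_transfer {H K : Type} [Group H] [Finite H] [Group K] (e : H ≃* K)
    (p : ℕ) [Fact p.Prime] (hH : IsPGroup p H)
    (hcard : Nat.card (Subgroup.center H) = p)
    (hcomm : ∀ x y : H, ⁅x, y⁆ ∈ Subgroup.center H)
    (hpow : ∀ x : H, x ^ p ∈ Subgroup.center H)
    (hna : ∃ x y : H, x * y ≠ y * x) : IsExtraspecial p K := by
  haveI : Finite K := Finite.of_equiv H e.toEquiv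
  have hcen : ∀ z : H, z ∈ Subgroup.center H → e z ∈ Subgroup.center K := by
    intro z hz
    rw [Subgroup.mem_center_iff] at hz ⊢
    intro g
    obtain ⟨g', rfl⟩ := e.surjective g
    rw [← map_mul, ← map_mul, hz g']
  apply Cfsg.Agent.Lib.Helper9.isExtraspecial_of_center p
  · exact hH.of_equiv e
  · rw [← hcard]
    exact Nat.card_congr (Subgroup.centerCongr e).symm.toEquiv
  · intro x y
    obtain ⟨x', rfl⟩ := e.surjective x
    obtain ⟨y', rfl⟩ := e.surjective y
    rw [← map_commutatorElement]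
    exact hcen _ (hcomm x' y')
  · intro x
    obtain ⟨x', rfl⟩ := e.surjective x
    rw [← map_pow]
    exact hcen _ (hpow x')
  · obtain ⟨x, y, hxy⟩ := hna
    refine ⟨e x, e y, ?_⟩
    rw [← map_mul, ← map_mul]
    exact fun h => hxy (e.injective h)

theorem main3799 (p : ℕ) [Fact p.Prime] (hp : p ≠ 2) (n : ℕ) (hn : 1 ≤ n) : ∃ E : Subgroup (Matrix.GeneralLinearGroup (Fin (n + 2)) (ZMod p)), Cfsg.IsExtraspecial p ↥E ∧ Nat.card E = p ^ (1 + 2 * n) ∧ ∀ x ∈ E, x ^ p = 1 := by
  let e : Heis n p ≃* (heisHom n p).range := MonoidHom.ofInjective heisHom_injective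
  refine ⟨(heisHom n p).range, ?_, ?_, ?_⟩
  · exact extraspecial_transfer e p (IsPGroup.of_card card_heis) card_center comm_mem_center
      pow_mem_center (not_comm hn)
  · rw [← Nat.card_congr e.toEquiv, card_heis]
  · rintro x ⟨h, rfl⟩
    rw [← map_pow, pow_p hp, map_one]


/-- For every odd prime p and every n ≥ 1 there is an extraspecial p-group of order p^(1+2n) and exponent p; concretely, the general linear group of degree n + 2 over the field with p elements contains such a subgroup. -/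
theorem result (p : ℕ) [Fact p.Prime] (hp : p ≠ 2) (n : ℕ) (hn : 1 ≤ n) : ∃ E : Subgroup (Matrix.GeneralLinearGroup (Fin (n + 2)) (ZMod p)), Cfsg.IsExtraspecial p ↥E ∧ Nat.card E = p ^ (1 + 2 * n) ∧ ∀ x ∈ E, x ^ p = 1 := by
  exact main3799 p hp n hn

end Cfsg.Agent.S3799
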