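import Cfsg.Statements.S3074
import Mathlib
import Cfsg.Agent.S3799

set_option autoImplicit false
open Cfsg

namespace Cfsg.Agent.S3074

set_option maxRecDepth 100000
open Cfsg Matrix Cfsg.Agent.S3799
open scoped commutatorElement

variable {p : ℕ}

def uMat (x : Heis 1 p) : Matrix (Fin 3) (Fin 3) (ZMod p) :=
  !![1, x.a 0, x.c; 0, 1, x.b 0; 0, 0, 1]

theorem uMat_det (x : Heis 1 p) : (uMat x).det = 1 := by
  simp [uMat, Matrix.det_fin_three]

theorem uMat_one : uMat (1 : Heis 1 p) = 1 := by
  ext i j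
  fin_cases i <;> fin_cases j <;> simp [uMat]

theorem uMat_mul (x y : Heis 1 p) : uMat (x * y) = uMat x * uMat y := by
  ext i j
  fin_cases i <;> fin_cases j <;>
    simp [uMat, Matrix.mul_apply, Fin.sum_univ_three, dotProduct, add_comm, add_assoc]

def uHom0 (p : ℕ) : Heis 1 p →* Matrix.SpecialLinearGroup (Fin 3) (ZMod p) where
  toFun x := ⟨uMat x, uMat_det x⟩
  map_one' := Subtype.ext uMat_one
  map_mul' x y := Subtype.ext (uMat_mul x y)


theorem uHom0_coe (x : Heis 1 p) :
    ((uHom0 p x : Matrix.SpecialLinearGroup (Fin 3) (ZMod p)) : Matrix (Fin 3) (Fin 3) (ZMod p)) =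
      uMat x := rfl

theorem uHom0_mem (x : Heis 1 p) : uHom0 p x ∈ qd p := by
  apply Subgroup.subset_closure
  refine ⟨?_, ?_, ?_⟩ <;> rw [uHom0_coe] <;> simp [uMat]

def uHom (p : ℕ) : Heis 1 p →* qd p := (uHom0 p).codRestrict (qd p) uHom0_mem

theorem uHom_injective : Function.Injective (uHom p) := by
  intro x y h
  have h1 : uMat x = uMat y := by
    have := congrArg (fun z : qd p => (z.1.1 : Matrix (Fin 3) (Fin 3) (ZMod p))) h
    exact this
  ext1
  · ext j
    have := congrFun (congrFun h1 0) 1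
    have hj : j = 0 := Subsingleton.elim _ _
    subst hj
    simpa [uMat] using this
  · ext j
    have := congrFun (congrFun h1 1) 2
    have hj : j = 0 := Subsingleton.elim _ _
    subst hj
    simpa [uMat] using this
  · have := congrFun (congrFun h1 0) 2
    simpa [uMat] using this


theorem not_dvd_pow_sub_one [Fact p.Prime] (k : ℕ) (hk : 0 < k) : ¬ p ∣ p ^ k - 1 := by
  have hpp : p.Prime := Fact.out
  intro h
  have h1 : 1 ≤ p ^ k := Nat.one_le_pow _ _ hpp.pos
  have h2 : p ∣ p ^ k := dvd_pow_self p hk.ne'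
  have h3 : p ∣ 1 := by
    have : p ^ k = (p ^ k - 1) + 1 := by omega
    rw [this] at h2
    exact (Nat.dvd_add_right h).1 h2
  exact hpp.one_lt.ne' (Nat.dvd_one.1 h3)

theorem card_GL3 [Fact p.Prime] :
    Nat.card (GL (Fin 3) (ZMod p)) = p ^ 3 * ((p ^ 3 - 1) * (p ^ 2 - 1) * (p - 1)) := by
  have hpp : p.Prime := Fact.out
  rw [Matrix.card_GL_field, Fin.prod_univ_three]
  simp only [ZMod.card, Fin.val_zero, Fin.val_one, Fin.val_two, pow_zero, pow_one]
  have e1 : p ^ 3 - p = p * (p ^ 2 - 1) := by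
    rw [Nat.mul_sub, mul_one]; ring_nf
  have e2 : p ^ 3 - p ^ 2 = p ^ 2 * (p - 1) := by
    rw [Nat.mul_sub, mul_one]; ring_nf
  rw [e1, e2]
  ring

theorem card_dvd_of_pgroup [Fact p.Prime] {G : Type} [Group G] [Finite G]
    (f : G →* Matrix.SpecialLinearGroup (Fin 3) (ZMod p)) (hf : Function.Injective f)
    (hG : IsPGroup p G) : Nat.card G ∣ p ^ 3 := by
  have hpp : p.Prime := Fact.out
  obtain ⟨k, hk⟩ := IsPGroup.iff_card.1 hG
  have h1 : Nat.card G ∣ Nat.card (GL (Fin 3) (ZMod p)) := by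
    apply Subgroup.card_dvd_of_injective (Matrix.SpecialLinearGroup.toGL.comp f)
    rw [MonoidHom.coe_comp]
    apply Function.Injective.comp _ hf
    intro a b hab
    apply Subtype.ext
    have := congrArg Units.val hab
    simpa using this
  rw [card_GL3, hk] at h1
  rw [hk]
  apply Nat.Coprime.dvd_of_dvd_mul_right _ h1
  apply Nat.Coprime.pow_left
  rw [Nat.Prime.coprime_iff_not_dvd hpp]
  intro h
  rcases (Nat.Prime.dvd_mul hpp).1 h with h | h
  · rcases (Nat.Prime.dvd_mul hpp).1 h with h | h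
    · exact not_dvd_pow_sub_one 3 (by norm_num) h
    · exact not_dvd_pow_sub_one 2 (by norm_num) h
  · have := not_dvd_pow_sub_one (p := p) 1 (by norm_num)
    rw [pow_one] at this
    exact this h


theorem main3074 (p : ℕ) [Fact p.Prime] (hp : p ≠ 2) (P : Sylow p ↥(Cfsg.qd p)) :
    Cfsg.IsExtraspecial p ↥P ∧ Nat.card P = p ^ 3 ∧ Monoid.exponent ↥P = p := by
  have hpp : p.Prime := Fact.out
  haveI : Finite (qd p) := inferInstance
  -- the unitriangular subgroup
  let U : Subgroup (qd p) := (uHom p).range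
  let e0 : Heis 1 p ≃* U := MonoidHom.ofInjective uHom_injective
  have hUcard : Nat.card U = p ^ 3 := by
    rw [← Nat.card_congr e0.toEquiv, card_heis]
  have hU : IsPGroup p U := IsPGroup.of_card hUcard
  obtain ⟨Q, hQ⟩ := hU.exists_le_sylow
  have hQcard : Nat.card Q ∣ p ^ 3 :=
    card_dvd_of_pgroup ((qd p).subtype.comp (Q : Subgroup (qd p)).subtype)
      (by
        rw [MonoidHom.coe_comp]
        exact Function.Injective.comp (Subgroup.subtype_injective _) (Subgroup.subtype_injective _))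
      Q.2
  have hUQ : U = Q := by
    apply Subgroup.eq_of_le_of_card_ge hQ
    rw [hUcard]
    exact Nat.le_of_dvd (pow_pos hpp.pos 3) hQcard
  obtain ⟨g, rfl⟩ := MulAction.exists_smul_eq (qd p) Q P
  let e : Heis 1 p ≃* (g • Q : Sylow p (qd p)) :=
    (e0.trans (MulEquiv.subgroupCongr hUQ)).trans (Sylow.equivSMul Q g)
  have hcard : Nat.card (g • Q : Sylow p (qd p)) = p ^ 3 := by
    rw [← Nat.card_congr e.toEquiv, card_heis]
  refine ⟨?_, hcard, ?_⟩
  · exact extraspecial_transfer e p (IsPGroup.of_card card_heis) card_center comm_mem_center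
      pow_mem_center (not_comm le_rfl)
  · have h1 : Monoid.exponent (g • Q : Sylow p (qd p)) ∣ p := by
      apply Monoid.exponent_dvd_of_forall_pow_eq_one
      intro x
      obtain ⟨x', rfl⟩ := e.surjective x
      rw [← map_pow, pow_p hp, map_one]
    rcases (Nat.dvd_prime hpp).1 h1 with h | h
    · exfalso
      rw [Monoid.exp_eq_one_iff] at h
      have := Nat.card_eq_one_iff_unique.2 ⟨h, ⟨1⟩⟩
      rw [hcard] at this
      have h2 : 1 < p ^ 3 := Nat.one_lt_pow (by norm_num) hpp.one_lt
      omega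
    · exact h


/-- Let p be an odd prime. A Sylow p-subgroup of Qd(p), the split extension of an elementary abelian group of order p² by SL₂(p) acting naturally, is extraspecial of order p³ and exponent p. -/
theorem result (p : ℕ) [Fact p.Prime] (hp : p ≠ 2) (P : Sylow p ↥(Cfsg.qd p)) :
    Cfsg.IsExtraspecial p ↥P ∧ Nat.card P = p ^ 3 ∧ Monoid.exponent ↥P = p := by
  exact main3074 p hp P

end Cfsg.Agent.S3074
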