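import Cfsg.Statements.S2763
import Mathlib
import Cfsg.Agent.S3074
import Cfsg.Agent.S2231


set_option autoImplicit false
open Cfsg

namespace Cfsg.Agent.S2763


set_option maxRecDepth 100000
open Cfsg Matrix Cfsg.Agent.S3799 Cfsg.Agent.S3074
open scoped Pointwise

section transport
variable {G : Type*} [Group G]

theorem mem_normalizer_conj (K : Subgroup G) (g x : G) :
    x ∈ Subgroup.normalizer ((MulAut.conj g • K : Subgroup G) : Set G) ↔
      g⁻¹ * x * g ∈ Subgroup.normalizer (K : Set G) := by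
  rw [Subgroup.mem_normalizer_iff, Subgroup.mem_normalizer_iff]
  constructor
  · intro h y
    have := h (g * y * g⁻¹)
    rw [Subgroup.mem_pointwise_smul_iff_inv_smul_mem,
      Subgroup.mem_pointwise_smul_iff_inv_smul_mem] at this
    simp only [MulAut.smul_def, MulAut.conj_inv_apply] at this
    have e1 : g⁻¹ * (g * y * g⁻¹) * g = y := by group
    have e2 : g⁻¹ * (x * (g * y * g⁻¹) * x⁻¹) * g = g⁻¹ * x * g * y * (g⁻¹ * x * g)⁻¹ := by group
    rw [e1, e2] at this
    exact this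
  · intro h y
    have := h (g⁻¹ * y * g)
    rw [Subgroup.mem_pointwise_smul_iff_inv_smul_mem,
      Subgroup.mem_pointwise_smul_iff_inv_smul_mem]
    simp only [MulAut.smul_def, MulAut.conj_inv_apply]
    have e2 : g⁻¹ * (x * y * x⁻¹) * g = g⁻¹ * x * g * (g⁻¹ * y * g) * (g⁻¹ * x * g)⁻¹ := by group
    rw [e2]
    exact this

theorem transport (Q S : Subgroup G) (g : G) (hS : S = MulAut.conj g • Q)
    (hQ : ∀ T : Subgroup Q, T ≠ ⊥ → T.Characteristic →
      Subgroup.normalizer ((T.map Q.subtype : Subgroup G) : Set G) =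
        Subgroup.normalizer (Q : Set G))
    (T : Subgroup S) (hT : T ≠ ⊥) (hTc : T.Characteristic) :
    Subgroup.normalizer ((T.map S.subtype : Subgroup G) : Set G) =
      Subgroup.normalizer (S : Set G) := by
  subst hS
  let e : Q ≃* ↥(MulAut.conj g • Q) := Subgroup.equivSMul (MulAut.conj g) Q
  have he : ∀ q : Q, ((e q : ↥(MulAut.conj g • Q)) : G) = g * q * g⁻¹ := by
    intro q; rfl
  let T' : Subgroup Q := T.comap e.toMonoidHom
  have hT'mem : ∀ q : Q, q ∈ T' ↔ e q ∈ T := fun q => Iff.rfl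
  have hT' : T' ≠ ⊥ := by
    intro h0
    apply hT
    rw [Subgroup.eq_bot_iff_forall]
    intro t ht
    have h1 : e.symm t ∈ T' := by
      rw [hT'mem, MulEquiv.apply_symm_apply]; exact ht
    rw [h0, Subgroup.mem_bot] at h1
    have := congrArg e h1
    rwa [MulEquiv.apply_symm_apply, map_one] at this
  have hT'c : T'.Characteristic := by
    rw [Subgroup.characteristic_iff_comap_eq]
    intro φ
    ext q
    rw [Subgroup.mem_comap, hT'mem, hT'mem]
    have h1 := hTc.fixed ((e.symm.trans φ).trans e)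
    have h2 : e q ∈ T.comap ((e.symm.trans φ).trans e).toMonoidHom ↔ e q ∈ T := by rw [h1]
    rw [Subgroup.mem_comap] at h2
    have h3 : ((e.symm.trans φ).trans e).toMonoidHom (e q) = e (φ q) := by
      simp
    rw [h3] at h2
    exact h2
  have hmap : (T.map (MulAut.conj g • Q).subtype : Subgroup G) =
      MulAut.conj g • (T'.map Q.subtype) := by
    ext x
    rw [Subgroup.mem_pointwise_smul_iff_inv_smul_mem]
    simp only [MulAut.smul_def, MulAut.conj_inv_apply, Subgroup.mem_map]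
    constructor
    · rintro ⟨t, ht, rfl⟩
      refine ⟨e.symm t, ?_, ?_⟩
      · rw [hT'mem, MulEquiv.apply_symm_apply]; exact ht
      · have := he (e.symm t)
        rw [MulEquiv.apply_symm_apply] at this
        show ((e.symm t : Q) : G) = g⁻¹ * (t : G) * g
        rw [this]; group
    · rintro ⟨q, hq, hqx⟩
      refine ⟨e q, (hT'mem q).1 hq, ?_⟩
      show ((e q : ↥(MulAut.conj g • Q)) : G) = x
      rw [he]
      rw [show (q : G) = g⁻¹ * x * g from hqx]; group
  ext x
  rw [hmap, mem_normalizer_conj, mem_normalizer_conj, hQ T' hT' hT'c]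

theorem transport_top (Q : Subgroup G) (g : G) (h : Subgroup.normalizer (Q : Set G) ≠ ⊤) :
    Subgroup.normalizer ((MulAut.conj g • Q : Subgroup G) : Set G) ≠ ⊤ := by
  intro h1
  apply h
  rw [Subgroup.eq_top_iff']
  intro x
  have : g * x * g⁻¹ ∈ Subgroup.normalizer ((MulAut.conj g • Q : Subgroup G) : Set G) := by
    rw [h1]; trivial
  rw [mem_normalizer_conj] at this
  convert this using 1; group

theorem normalizer_le_of_char (U : Subgroup G) (T : Subgroup U) (hTc : T.Characteristic) :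
    Subgroup.normalizer (U : Set G) ≤
      Subgroup.normalizer ((T.map U.subtype : Subgroup G) : Set G) := by
  intro g hg
  have hg1 : ∀ u : G, u ∈ U → g * u * g⁻¹ ∈ U :=
    fun u hu => (Subgroup.mem_normalizer_iff.1 hg u).1 hu
  have hg2 : ∀ u : G, u ∈ U → g⁻¹ * u * g ∈ U := fun u hu => by
    have := (Subgroup.mem_normalizer_iff.1 hg (g⁻¹ * u * g)).2
    apply this
    convert hu using 1; group
  let φ : U ≃* U :=
    { toFun := fun u => ⟨g * u * g⁻¹, hg1 u u.2⟩
      invFun := fun u => ⟨g⁻¹ * u * g, hg2 u u.2⟩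
      left_inv := fun u => by
        apply Subtype.ext
        show g⁻¹ * (g * (u : G) * g⁻¹) * g = u
        group
      right_inv := fun u => by
        apply Subtype.ext
        show g * (g⁻¹ * (u : G) * g) * g⁻¹ = u
        group
      map_mul' := fun u v => by
        apply Subtype.ext
        show g * ((u : G) * (v : G)) * g⁻¹ = (g * (u : G) * g⁻¹) * (g * (v : G) * g⁻¹)
        group }
  have h1 := hTc.fixed φ
  have h2 := hTc.fixed φ.symm
  rw [Subgroup.mem_normalizer_iff]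
  intro h
  constructor
  · rintro ⟨t, ht, rfl⟩
    refine ⟨φ t, ?_, rfl⟩
    have : t ∈ T.comap φ.toMonoidHom := by rw [h1]; exact ht
    exact this
  · rintro ⟨t, ht, htg⟩
    refine ⟨φ.symm t, ?_, ?_⟩
    · have : t ∈ T.comap φ.symm.toMonoidHom := by rw [h2]; exact ht
      exact this
    · show g⁻¹ * (t : G) * g = h
      rw [show (t : G) = g * h * g⁻¹ from htg]; group

end transport

variable {p : ℕ}

def sigF {n : ℕ} (x : Heis n p) : Heis n p := ⟨-x.b, -x.a, x.a ⬝ᵥ x.b - x.c⟩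

@[simp] theorem sigF_a {n : ℕ} (x : Heis n p) : (sigF x).a = -x.b := rfl
@[simp] theorem sigF_b {n : ℕ} (x : Heis n p) : (sigF x).b = -x.a := rfl
@[simp] theorem sigF_c {n : ℕ} (x : Heis n p) : (sigF x).c = x.a ⬝ᵥ x.b - x.c := rfl

theorem sigF_mul {n : ℕ} (x y : Heis n p) : sigF (x * y) = sigF x * sigF y := by
  ext1
  · simp only [sigF_a, mul_b, mul_a]; rw [neg_add]
  · simp only [sigF_b, mul_b, mul_a]; rw [neg_add]
  · simp only [sigF_c, sigF_a, sigF_b, mul_c, mul_a, mul_b, add_dotProduct, dotProduct_add,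
      neg_dotProduct, dotProduct_neg, neg_neg]
    rw [dotProduct_comm x.b y.a]; ring

theorem sigF_sigF {n : ℕ} (x : Heis n p) : sigF (sigF x) = x := by
  ext1
  · simp
  · simp
  · simp only [sigF_c, sigF_a, sigF_b, neg_dotProduct, dotProduct_neg, neg_neg]
    rw [dotProduct_comm x.b x.a]; ring

def sigH (n p : ℕ) : Heis n p ≃* Heis n p where
  toFun := sigF
  invFun := sigF
  left_inv := sigF_sigF
  right_inv := sigF_sigF
  map_mul' := sigF_mul

theorem sigH_apply {n : ℕ} (x : Heis n p) : sigH n p x = sigF x := rfl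

variable [Fact p.Prime]

def MM (g : qd p) : Matrix (Fin 3) (Fin 3) (ZMod p) := g.1.1

theorem MM_mul (g h : qd p) : MM (g * h) = MM g * MM h := rfl
theorem MM_uHom (x : Heis 1 p) : MM (uHom p x) = uMat x := rfl
theorem last_row (g : qd p) : MM g 2 0 = 0 ∧ MM g 2 1 = 0 ∧ MM g 2 2 = 1 :=
  Cfsg.Agent.S2231.qd_last_row g.1 g.2
theorem MM_det (g : qd p) : (MM g).det = 1 := g.1.2

theorem uMat_apply (x : Heis 1 p) : uMat x 0 0 = 1 ∧ uMat x 0 1 = x.a 0 ∧ uMat x 0 2 = x.c ∧
    uMat x 1 0 = 0 ∧ uMat x 1 1 = 1 ∧ uMat x 1 2 = x.b 0 ∧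
    uMat x 2 0 = 0 ∧ uMat x 2 1 = 0 ∧ uMat x 2 2 = 1 := by
  simp [uMat]

theorem entry_eq {A B C D : Matrix (Fin 3) (Fin 3) (ZMod p)} (h : A * B = C * D) (i j : Fin 3) :
    A i 0 * B 0 j + A i 1 * B 1 j + A i 2 * B 2 j =
      C i 0 * D 0 j + C i 1 * D 1 j + C i 2 * D 2 j := by
  have := congrFun (congrFun h i) j
  simpa only [Matrix.mul_apply, Fin.sum_univ_three] using this

theorem conj_eqs (g : qd p) (h k : Heis 1 p) (hk : g * uHom p h = uHom p k * g) :
    MM g 1 0 * h.a 0 = 0 ∧ k.a 0 * MM g 1 0 = 0 ∧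
      k.b 0 = MM g 1 0 * h.c + MM g 1 1 * h.b 0 := by
  have hM : MM g * uMat h = uMat k * MM g := by
    have := congrArg MM hk
    rwa [MM_mul, MM_mul, MM_uHom, MM_uHom] at this
  obtain ⟨g0, g1, g2⟩ := last_row g
  obtain ⟨H00, H01, H02, H10, H11, H12, H20, H21, H22⟩ := uMat_apply h
  obtain ⟨K00, K01, K02, K10, K11, K12, K20, K21, K22⟩ := uMat_apply k
  have e00 := entry_eq hM 0 0
  have e11 := entry_eq hM 1 1
  have e12 := entry_eq hM 1 2
  rw [H00, H10, H20, K00, K01, K02, g0] at e00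
  rw [H01, H11, H21, K10, K11, K12, g1] at e11
  rw [H02, H12, H22, K10, K11, K12, g2] at e12
  refine ⟨?_, ?_, ?_⟩
  · linear_combination e11
  · linear_combination -e00
  · linear_combination -e12

def UU (p : ℕ) : Subgroup (qd p) := (uHom p).range

theorem mem_UU_iff (k : qd p) : k ∈ UU p ↔ MM k 0 0 = 1 ∧ MM k 1 0 = 0 ∧ MM k 1 1 = 1 := by
  constructor
  · rintro ⟨x, rfl⟩
    rw [MM_uHom]
    simp [uMat]
  · rintro ⟨h00, h10, h11⟩
    obtain ⟨r0, r1, r2⟩ := last_row k
    refine ⟨⟨fun _ => MM k 0 1, fun _ => MM k 1 2, MM k 0 2⟩, ?_⟩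
    apply Subtype.ext
    apply Subtype.ext
    show uMat _ = MM k
    ext i j
    fin_cases i <;> fin_cases j <;> simp [uMat, h00, h10, h11, r0, r1, r2]

theorem tri (g k h : qd p) (hc : MM g 1 0 = 0) (hk : k * g = g * h) :
    (MM k 0 0 = 1 ∧ MM k 1 0 = 0 ∧ MM k 1 1 = 1) ↔
      (MM h 0 0 = 1 ∧ MM h 1 0 = 0 ∧ MM h 1 1 = 1) := by
  have hM : MM k * MM g = MM g * MM h := by rw [← MM_mul, ← MM_mul, hk]
  obtain ⟨g0, g1, g2⟩ := last_row g
  obtain ⟨k0, k1, k2⟩ := last_row k
  obtain ⟨h0, h1, h2⟩ := last_row h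
  have had : MM g 0 0 * MM g 1 1 = 1 := by
    have := MM_det g
    rw [Matrix.det_fin_three] at this
    rw [g0, g1, g2, hc] at this
    linear_combination this
  have e00 := entry_eq hM 0 0
  have e10 := entry_eq hM 1 0
  have e11 := entry_eq hM 1 1
  rw [hc, g0, h0] at e00
  rw [hc, g0, h0] at e10
  rw [g1, h1, hc] at e11
  constructor
  · rintro ⟨a1, a2, a3⟩
    have b2 : MM h 1 0 = 0 := by
      linear_combination (-(MM h 1 0)) * had - MM g 0 0 * e10 + MM g 0 0 * MM g 0 0 * a2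
    refine ⟨?_, b2, ?_⟩
    · linear_combination (-(MM h 0 0 - 1)) * had - MM g 1 1 * e00 + MM g 1 1 * MM g 0 0 * a1
        - MM g 1 1 * MM g 0 1 * b2
    · linear_combination (-(MM h 1 1 - 1)) * had - MM g 0 0 * e11 + MM g 0 0 * MM g 0 1 * a2
        + MM g 0 0 * MM g 1 1 * a3
  · rintro ⟨b1, b2, b3⟩
    have c2 : MM k 1 0 = 0 := by
      linear_combination (-(MM k 1 0)) * had + MM g 1 1 * e10 + MM g 1 1 * MM g 1 1 * b2
    refine ⟨?_, c2, ?_⟩
    · linear_combination (-(MM k 0 0 - 1)) * had + MM g 1 1 * e00 + MM g 1 1 * MM g 0 0 * b1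
        + MM g 1 1 * MM g 0 1 * b2
    · linear_combination (-(MM k 1 1 - 1)) * had + MM g 0 0 * e11 + MM g 0 0 * MM g 1 1 * b3
        - MM g 0 0 * MM g 0 1 * c2

theorem mem_norm_UU (g : qd p) :
    g ∈ Subgroup.normalizer ((UU p : Subgroup (qd p)) : Set (qd p)) ↔ MM g 1 0 = 0 := by
  constructor
  · intro hg
    rw [Subgroup.mem_normalizer_iff] at hg
    have h1 : uHom p ⟨fun _ => 1, fun _ => 0, 0⟩ ∈ UU p := ⟨_, rfl⟩
    obtain ⟨k, hk⟩ := (hg _).1 h1
    have := (conj_eqs g ⟨fun _ => 1, fun _ => 0, 0⟩ k (by rw [hk]; group)).1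
    simpa using this
  · intro hc
    rw [Subgroup.mem_normalizer_iff]
    intro h
    rw [mem_UU_iff, mem_UU_iff]
    exact (tri g (g * h * g⁻¹) h hc (by group)).symm

theorem norm_T_le (T : Subgroup (UU p)) (hT : T ≠ ⊥) (hTc : T.Characteristic) (g : qd p)
    (hg : g ∈ Subgroup.normalizer ((T.map (UU p).subtype : Subgroup (qd p)) : Set (qd p))) :
    MM g 1 0 = 0 := by
  by_contra hc
  let e0 : Heis 1 p ≃* UU p := MonoidHom.ofInjective uHom_injective
  have he0 : ∀ x, ((e0 x : UU p) : qd p) = uHom p x := fun x => rfl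
  have key : ∀ x : Heis 1 p, e0 x ∈ T →
      ∃ k : Heis 1 p, e0 k ∈ T ∧ g * uHom p x = uHom p k * g := by
    intro x hx
    rw [Subgroup.mem_normalizer_iff] at hg
    have h1 : uHom p x ∈ T.map (UU p).subtype := ⟨e0 x, hx, he0 x⟩
    obtain ⟨t, ht, htg⟩ := (hg _).1 h1
    refine ⟨e0.symm t, by rwa [MulEquiv.apply_symm_apply], ?_⟩
    have h2 : uHom p (e0.symm t) = g * uHom p x * g⁻¹ := by
      rw [← he0, MulEquiv.apply_symm_apply]; exact htg
    rw [h2]; group
  have hsig : ∀ x : Heis 1 p, e0 x ∈ T → e0 (sigF x) ∈ T := by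
    intro x hx
    have h1 := hTc.fixed ((e0.symm.trans (sigH 1 p)).trans e0)
    have h2 : e0 x ∈ T.comap ((e0.symm.trans (sigH 1 p)).trans e0).toMonoidHom := by
      rw [h1]; exact hx
    rw [Subgroup.mem_comap] at h2
    have h3 : ((e0.symm.trans (sigH 1 p)).trans e0).toMonoidHom (e0 x) = e0 (sigF x) := by
      simp [sigH_apply]
    rwa [h3] at h2
  have ha : ∀ x : Heis 1 p, e0 x ∈ T → x.a 0 = 0 := by
    intro x hx
    obtain ⟨k, hk, hkg⟩ := key x hx
    have := (conj_eqs g x k hkg).1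
    rcases mul_eq_zero.1 this with h | h
    · exact absurd h hc
    · exact h
  have hb : ∀ x : Heis 1 p, e0 x ∈ T → x.b 0 = 0 := by
    intro x hx
    have := ha _ (hsig x hx)
    simpa using this
  obtain ⟨t, ht, ht1⟩ : ∃ t ∈ T, t ≠ 1 := by
    by_contra hne
    push Not at hne
    exact hT ((Subgroup.eq_bot_iff_forall T).2 hne)
  obtain ⟨x, hx⟩ : ∃ x, e0 x = t := ⟨e0.symm t, e0.apply_symm_apply t⟩
  have hxT : e0 x ∈ T := by rw [hx]; exact ht
  obtain ⟨k, hk, hkg⟩ := key x hxT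
  have h3 := (conj_eqs g x k hkg).2.2
  rw [hb x hxT, hb k hk, mul_zero, add_zero] at h3
  have hxc : x.c = 0 := by
    rcases mul_eq_zero.1 h3.symm with h | h
    · exact absurd h hc
    · exact h
  apply ht1
  have hx1 : x = 1 := by
    ext1
    · ext j
      have hj : j = 0 := Subsingleton.elim _ _
      subst hj
      simpa using ha x hxT
    · ext j
      have hj : j = 0 := Subsingleton.elim _ _
      subst hj
      simpa using hb x hxT
    · simpa using hxc
  rw [← hx, hx1, map_one]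

theorem exists_sylow (p : ℕ) [Fact p.Prime] :
    ∃ Q : Sylow p (qd p), (Q : Subgroup (qd p)) = UU p := by
  have hpp : p.Prime := Fact.out
  haveI : Finite (qd p) := inferInstance
  let e0 : Heis 1 p ≃* UU p := MonoidHom.ofInjective uHom_injective
  have hUcard : Nat.card (UU p) = p ^ 3 := by
    rw [← Nat.card_congr e0.toEquiv, card_heis]
  have hU : IsPGroup p (UU p) := IsPGroup.of_card hUcard
  obtain ⟨Q, hQ⟩ := hU.exists_le_sylow
  have hQcard : Nat.card Q ∣ p ^ 3 :=
    card_dvd_of_pgroup ((qd p).subtype.comp (Q : Subgroup (qd p)).subtype)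
      (by
        rw [MonoidHom.coe_comp]
        exact Function.Injective.comp (Subgroup.subtype_injective _)
          (Subgroup.subtype_injective _))
      Q.2
  refine ⟨Q, (Subgroup.eq_of_le_of_card_ge hQ ?_).symm⟩
  rw [hUcard]
  exact Nat.le_of_dvd (pow_pos hpp.pos 3) hQcard

def wSL (p : ℕ) : Matrix.SpecialLinearGroup (Fin 3) (ZMod p) :=
  ⟨!![0, -1, 0; 1, 0, 0; 0, 0, 1], by simp [Matrix.det_fin_three]⟩

theorem wSL_mem (p : ℕ) : wSL p ∈ qd p := by
  apply Subgroup.subset_closure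
  refine ⟨?_, ?_, ?_⟩ <;> simp [wSL]

def wEl (p : ℕ) : qd p := ⟨wSL p, wSL_mem p⟩

theorem MM_wEl (p : ℕ) : MM (wEl p) 1 0 = 1 := by
  simp [MM, wEl, wSL]
/-- In the group Qd(p) (p prime; the natural semidirect product of an elementary abelian group of order p² by SL₂(p)), the normalizer of every nontrivial characteristic subgroup of a Sylow p-subgroup S equals the normalizer of S, which is a proper subgroup; in particular no such characteristic subgroup is normal. -/
theorem result {p : ℕ} [Fact p.Prime] (S : Sylow p ↥(Cfsg.qd p)) (T : Subgroup ↥(S : Subgroup ↥(Cfsg.qd p))) (hT : T ≠ ⊥) (hTc : T.Characteristic) : Subgroup.normalizer ((T.map (S : Subgroup ↥(Cfsg.qd p)).subtype : Subgroup ↥(Cfsg.qd p)) : Set ↥(Cfsg.qd p)) = Subgroup.normalizer ((S : Subgroup ↥(Cfsg.qd p)) : Set ↥(Cfsg.qd p)) ∧ Subgroup.normalizer ((S : Subgroup ↥(Cfsg.qd p)) : Set ↥(Cfsg.qd p)) ≠ ⊤ := by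
  obtain ⟨Q, hQ⟩ := exists_sylow p
  obtain ⟨g, hg⟩ := MulAction.exists_smul_eq (qd p) Q S
  have hS : (S : Subgroup (qd p)) = MulAut.conj g • (UU p) := by
    rw [← hg, Sylow.coe_subgroup_smul, hQ]
  have mainU : ∀ T : Subgroup (UU p), T ≠ ⊥ → T.Characteristic →
      Subgroup.normalizer ((T.map (UU p).subtype : Subgroup (qd p)) : Set (qd p)) =
        Subgroup.normalizer ((UU p : Subgroup (qd p)) : Set (qd p)) := by
    intro T hT hTc
    apply le_antisymm
    · intro g hg
      rw [mem_norm_UU]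
      exact norm_T_le T hT hTc g hg
    · exact normalizer_le_of_char _ T hTc
  have hUtop : Subgroup.normalizer ((UU p : Subgroup (qd p)) : Set (qd p)) ≠ ⊤ := by
    intro h
    have : wEl p ∈ Subgroup.normalizer ((UU p : Subgroup (qd p)) : Set (qd p)) := by
      rw [h]; trivial
    rw [mem_norm_UU, MM_wEl] at this
    exact one_ne_zero this
  refine ⟨transport (UU p) S g hS mainU T hT hTc, ?_⟩
  rw [hS]
  exact transport_top _ g hUtop


end Cfsg.Agent.S2763
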