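import Cfsg.Statements.S3835
import Mathlib
import Cfsg.Agent.S2231
import Cfsg.Agent.Lib.Helper3.SL2Gen

set_option autoImplicit false
open Cfsg

namespace Cfsg.Agent.S3835


open Cfsg.Agent.S2231 Cfsg.Agent.Lib.Helper3

theorem unit_eq_one_of_odd_pow (u : ℤˣ) (n : ℕ) (hn : Odd n) (h : u ^ n = 1) : u = 1 := by
  rcases Int.units_eq_one_or u with h1 | h1
  · exact h1
  · exfalso
    rw [h1, Odd.neg_one_pow hn] at h
    exact absurd h (by decide)

section
variable {p : ℕ} [Fact p.Prime]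

theorem not_sq_dvd_factorial : ¬ p * p ∣ p.factorial := by
  intro h
  have hp := (Fact.out : p.Prime)
  rw [← Nat.mul_factorial_pred hp.ne_zero] at h
  have h2 := Nat.dvd_of_mul_dvd_mul_left hp.pos h
  have h3 := (hp.dvd_factorial).mp h2
  have := hp.two_le
  omega

theorem perm_absyl (n : ℕ) (hn : n < p ^ 2) : AbSyl p (Equiv.Perm (Fin n)) := by
  intro S a ha b hb
  have hp := (Fact.out : p.Prime)
  apply Equiv.ext
  intro x
  have hSp : IsPGroup p ↥(S : Subgroup (Equiv.Perm (Fin n))) := S.isPGroup'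
  obtain ⟨k, hk⟩ := hSp.card_orbit x
  have hle : Nat.card (MulAction.orbit ↥(S : Subgroup (Equiv.Perm (Fin n))) x) ≤ n := by
    have h1 := Nat.card_le_card_of_injective
      (Subtype.val : MulAction.orbit ↥(S : Subgroup (Equiv.Perm (Fin n))) x → Fin n)
      Subtype.val_injective
    rwa [Nat.card_eq_fintype_card (α := Fin n), Fintype.card_fin] at h1
  have hk1 : k ≤ 1 := by
    by_contra hk2
    have h2 : p ^ 2 ≤ p ^ k := Nat.pow_le_pow_right hp.pos (by omega)
    omega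
  have hkp : p ^ k ≤ p := by
    calc p ^ k ≤ p ^ 1 := Nat.pow_le_pow_right hp.pos hk1
      _ = p := pow_one p
  let f := MulAction.toPermHom ↥(S : Subgroup (Equiv.Perm (Fin n)))
    (MulAction.orbit ↥(S : Subgroup (Equiv.Perm (Fin n))) x)
  have hfp : IsPGroup p f.range :=
    IsPGroup.of_surjective hSp f.rangeRestrict f.rangeRestrict_surjective
  obtain ⟨j, hj⟩ := IsPGroup.iff_card.mp hfp
  have hdvd : p ^ j ∣ p.factorial := by
    rw [← hj]
    refine (Subgroup.card_subgroup_dvd_card f.range).trans ?_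
    rw [Nat.card_perm, hk]
    exact Nat.factorial_dvd_factorial hkp
  have hj1 : j ≤ 1 := by
    by_contra hj2
    apply not_sq_dvd_factorial (p := p)
    refine dvd_trans ?_ hdvd
    rw [← pow_two]
    exact pow_dvd_pow p (by omega)
  have hcard : Nat.card f.range ∣ p := by
    rw [hj]
    interval_cases j
    · simp
    · simp
  haveI := isCyclic_of_card_dvd_prime hcard
  have hc : f ⟨a, ha⟩ * f ⟨b, hb⟩ = f ⟨b, hb⟩ * f ⟨a, ha⟩ := by
    have h3 := mul_comm' (⟨f ⟨a, ha⟩, ⟨_, rfl⟩⟩ : f.range) ⟨f ⟨b, hb⟩, ⟨_, rfl⟩⟩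
    exact congrArg Subtype.val h3
  have h4 := congrArg (fun σ => ((σ ⟨x, MulAction.mem_orbit_self x⟩ :
    MulAction.orbit ↥(S : Subgroup (Equiv.Perm (Fin n))) x) : Fin n)) hc
  exact h4

/-! ### the affine action of `qd p` on the plane -/

def act (M : Matrix (Fin 3) (Fin 3) (ZMod p)) (x : Fin 2 → ZMod p) : Fin 2 → ZMod p :=
  ![M 0 0 * x 0 + M 0 1 * x 1 + M 0 2, M 1 0 * x 0 + M 1 1 * x 1 + M 1 2]

theorem act_one (x : Fin 2 → ZMod p) : act (1 : Matrix (Fin 3) (Fin 3) (ZMod p)) x = x := by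
  ext i
  fin_cases i <;> simp [act]

theorem act_mul (M N : Matrix (Fin 3) (Fin 3) (ZMod p))
    (hN : N 2 0 = 0 ∧ N 2 1 = 0 ∧ N 2 2 = 1) (x : Fin 2 → ZMod p) :
    act (M * N) x = act M (act N x) := by
  ext i
  fin_cases i <;>
    simp [act, Matrix.mul_apply, Fin.sum_univ_three, hN.1, hN.2.1, hN.2.2] <;> ring

def qdAct : MulAction ↥(Cfsg.qd p) (Fin 2 → ZMod p) where
  smul M x := act M.1.1 x
  one_smul x := act_one x
  mul_smul M N x := act_mul M.1.1 N.1.1 (qd_last_row N.1 N.2) x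

noncomputable def psiW : ↥(Cfsg.qd p) →* Equiv.Perm (Fin 2 → ZMod p) :=
  @MulAction.toPermHom _ _ _ qdAct

theorem psiW_apply (M : ↥(Cfsg.qd p)) (x : Fin 2 → ZMod p) : psiW M x = act M.1.1 x := rfl

theorem psiW_injective : Function.Injective (psiW (p := p)) := by
  rw [injective_iff_map_eq_one]
  intro M hM
  have h : ∀ x, act M.1.1 x = x := fun x => by
    rw [← psiW_apply, hM]; rfl
  have hrow := qd_last_row M.1 M.2
  have h0 := h ![0, 0]
  have h1 := h ![1, 0]
  have h2 := h ![0, 1]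
  have e00 := congrFun h0 0
  have e01 := congrFun h0 1
  have e10 := congrFun h1 0
  have e11 := congrFun h1 1
  have e20 := congrFun h2 0
  have e21 := congrFun h2 1
  simp [act] at e00 e01 e10 e11 e20 e21
  rw [e00] at e10 e20
  rw [e01] at e11 e21
  simp at e10 e11 e20 e21
  apply Subtype.ext
  apply Subtype.ext
  ext i j
  fin_cases i <;> fin_cases j <;>
    simp [e00, e01, e10, e11, e20, e21, hrow.1, hrow.2.1, hrow.2.2]

def slAct2 : MulAction (Matrix.SpecialLinearGroup (Fin 2) (ZMod p)) (Fin 2 → ZMod p) where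
  smul A x := A.1.mulVec x
  one_smul x := by
    show (1 : Matrix (Fin 2) (Fin 2) (ZMod p)).mulVec x = x
    rw [Matrix.one_mulVec]
  mul_smul A B x := by
    show (A.1 * B.1).mulVec x = A.1.mulVec (B.1.mulVec x)
    rw [Matrix.mulVec_mulVec]

noncomputable def lam : Matrix.SpecialLinearGroup (Fin 2) (ZMod p) →* Equiv.Perm (Fin 2 → ZMod p) :=
  @MulAction.toPermHom _ _ _ slAct2

theorem lam_apply (A : Matrix.SpecialLinearGroup (Fin 2) (ZMod p)) (x : Fin 2 → ZMod p) :
    lam A x = A.1.mulVec x := rfl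

theorem sign_lam (hp2 : p ≠ 2) (A : Matrix.SpecialLinearGroup (Fin 2) (ZMod p)) :
    Equiv.Perm.sign (lam A) = 1 := by
  have hodd : Odd p := (Fact.out : p.Prime).eq_two_or_odd'.resolve_left hp2
  let χ : Matrix.SpecialLinearGroup (Fin 2) (ZMod p) →* ℤˣ := Equiv.Perm.sign.comp lam
  have hker : Subgroup.closure {tmat (1 : ZMod p), smat (1 : ZMod p)} ≤ χ.ker := by
    rw [Subgroup.closure_le]
    intro g hg
    rcases hg with rfl | rfl
    · show χ (tmat 1) = 1
      apply unit_eq_one_of_odd_pow _ p hodd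
      rw [← map_pow, tmat_pow, ZMod.natCast_self, zero_mul, tmat_zero, map_one]
    · show χ (smat 1) = 1
      apply unit_eq_one_of_odd_pow _ p hodd
      rw [← map_pow, smat_pow, ZMod.natCast_self, zero_mul, smat_zero, map_one]
  rw [sl2_closure (1 : ZMod p) one_ne_zero] at hker
  exact hker (Subgroup.mem_top A)

theorem sign_addLeft (hp2 : p ≠ 2) (v : Fin 2 → ZMod p) :
    Equiv.Perm.sign (Equiv.addLeft v) = 1 := by
  have hodd : Odd p := (Fact.out : p.Prime).eq_two_or_odd'.resolve_left hp2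
  apply unit_eq_one_of_odd_pow _ p hodd
  rw [← map_pow, Equiv.nsmul_addLeft]
  have : p • v = 0 := by
    funext i
    simp
  rw [this, Equiv.addLeft_zero]
  exact map_one _

theorem det_blk (M : Matrix (Fin 3) (Fin 3) (ZMod p)) (hM : M 2 0 = 0 ∧ M 2 1 = 0 ∧ M 2 2 = 1) :
    (!![M 0 0, M 0 1; M 1 0, M 1 1] : Matrix (Fin 2) (Fin 2) (ZMod p)).det = M.det := by
  rw [Matrix.det_fin_two_of, Matrix.det_fin_three, hM.1, hM.2.1, hM.2.2]
  ring

def blkSL (M : ↥(Cfsg.qd p)) : Matrix.SpecialLinearGroup (Fin 2) (ZMod p) :=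
  ⟨!![M.1.1 0 0, M.1.1 0 1; M.1.1 1 0, M.1.1 1 1], by
    rw [det_blk _ (qd_last_row M.1 M.2)]
    exact M.1.2⟩

theorem blkSL_val (M : ↥(Cfsg.qd p)) :
    (blkSL M).1 = !![M.1.1 0 0, M.1.1 0 1; M.1.1 1 0, M.1.1 1 1] := rfl

theorem sign_psiW (hp2 : p ≠ 2) (M : ↥(Cfsg.qd p)) : Equiv.Perm.sign (psiW M) = 1 := by
  have hfac : psiW M = Equiv.addLeft ![M.1.1 0 2, M.1.1 1 2] * lam (blkSL M) := by
    ext x i
    rw [psiW_apply, Equiv.Perm.mul_apply, lam_apply, blkSL_val]
    fin_cases i <;> simp [act, Matrix.mulVec, dotProduct, Fin.sum_univ_two] <;> ring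
  rw [hfac, map_mul, sign_addLeft hp2, sign_lam hp2, one_mul]

theorem sign_viaEmbedding {α β : Type*} [Fintype α] [DecidableEq α] [Fintype β] [DecidableEq β]
    (ι : α ↪ β) (e : Equiv.Perm α) :
    Equiv.Perm.sign (Equiv.Perm.viaEmbeddingHom ι e) = Equiv.Perm.sign e := by
  rw [Equiv.Perm.viaEmbeddingHom_apply]
  unfold Equiv.Perm.viaEmbedding
  exact @Equiv.Perm.sign_extendDomain _ _ _ _ _ _ e _ (fun a => Classical.propDecidable _) _

end

/-- Let p be an odd prime and n a natural number. The alternating group of degree n has a subgroup isomorphic to Qd(p) (the natural semidirect product of an elementary abelian group of order p² by SL₂(p)) if and only if n ≥ p²; and if n < p² then Qd(p) is not even involved in it. -/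
theorem result {p : ℕ} [Fact p.Prime] (hp : p ≠ 2) (n : ℕ) : ((∃ H : Subgroup (alternatingGroup (Fin n)), Nonempty (↥H ≃* ↥(Cfsg.qd p))) ↔ p ^ 2 ≤ n) ∧ (n < p ^ 2 → ¬ Cfsg.Involves ↥(Cfsg.qd p) ↥(alternatingGroup (Fin n))) := by
  classical
  have key : ∀ m : ℕ, m < p ^ 2 → ¬ Cfsg.Involves ↥(Cfsg.qd p) ↥(alternatingGroup (Fin m)) := by
    intro m hm
    rintro ⟨H, R, hN, ⟨e⟩⟩
    haveI := hN
    have h0 : AbSyl p (Equiv.Perm (Fin m)) := perm_absyl m hm
    have h1 : AbSyl p ↥(alternatingGroup (Fin m)) := absyl_subgroup h0 _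
    have h2 : AbSyl p ↥H := absyl_subgroup h1 H
    have h3 : AbSyl p (↥H ⧸ R.subgroupOf H) :=
      absyl_of_surjective h2 (QuotientGroup.mk' _) (QuotientGroup.mk'_surjective _)
    have h4 : AbSyl p ↥(Cfsg.qd p) := absyl_of_surjective h3 e.toMonoidHom e.surjective
    exact qd_not_absyl h4
  refine ⟨⟨?_, ?_⟩, key n⟩
  · rintro ⟨H, ⟨e⟩⟩
    by_contra hlt
    rw [not_le] at hlt
    have h0 : AbSyl p (Equiv.Perm (Fin n)) := perm_absyl n hlt
    have h1 : AbSyl p ↥(alternatingGroup (Fin n)) := absyl_subgroup h0 _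
    have h2 : AbSyl p ↥H := absyl_subgroup h1 H
    have h4 : AbSyl p ↥(Cfsg.qd p) := absyl_of_surjective h2 e.toMonoidHom e.surjective
    exact qd_not_absyl h4
  · intro hn
    have hcard : Fintype.card (Fin 2 → ZMod p) ≤ Fintype.card (Fin n) := by
      rw [Fintype.card_fun, ZMod.card, Fintype.card_fin, Fintype.card_fin]
      exact hn
    obtain ⟨ι⟩ := Function.Embedding.nonempty_of_card_le hcard
    let Ψ : ↥(Cfsg.qd p) →* Equiv.Perm (Fin n) := (Equiv.Perm.viaEmbeddingHom ι).comp psiW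
    have hΨinj : Function.Injective Ψ :=
      (Equiv.Perm.viaEmbeddingHom_injective ι).comp psiW_injective
    have hmem : ∀ M, Ψ M ∈ alternatingGroup (Fin n) := by
      intro M
      rw [Equiv.Perm.mem_alternatingGroup]
      show Equiv.Perm.sign (Equiv.Perm.viaEmbeddingHom ι (psiW M)) = 1
      rw [sign_viaEmbedding, sign_psiW hp]
    let Ψ' : ↥(Cfsg.qd p) →* ↥(alternatingGroup (Fin n)) := Ψ.codRestrict _ hmem
    have hΨ'inj : Function.Injective Ψ' := by
      intro a b hab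
      apply hΨinj
      exact congrArg Subtype.val hab
    exact ⟨Ψ'.range, ⟨(MonoidHom.ofInjective hΨ'inj).symm⟩⟩

end Cfsg.Agent.S3835
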