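import Cfsg.Statements.S2761
import Mathlib
import Cfsg.Agent.S3835
import Cfsg.Agent.S2763


set_option autoImplicit false
open Cfsg

namespace Cfsg.Agent.S2761


set_option maxRecDepth 100000
open Cfsg Matrix Cfsg.Agent.S3799 Cfsg.Agent.S3074

def cMat : Matrix (Fin 3) (Fin 3) (ZMod 2) := !![0, 1, 0; 1, 1, 0; 0, 0, 1]

theorem cMat_det : cMat.det = 1 := by
  simp [cMat, Matrix.det_fin_three]

def cSL : Matrix.SpecialLinearGroup (Fin 3) (ZMod 2) := ⟨cMat, cMat_det⟩

theorem cSL_mem : cSL ∈ qd 2 := by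
  apply Subgroup.subset_closure
  refine ⟨?_, ?_, ?_⟩ <;> simp [cSL, cMat]

def cEl : qd 2 := ⟨cSL, cSL_mem⟩

theorem cMat_cube : cMat ^ 3 = 1 := by
  ext i j
  fin_cases i <;> fin_cases j <;>
    simp [cMat, pow_succ, Matrix.mul_apply, Fin.sum_univ_three] <;> decide

theorem cEl_cube : cEl ^ 3 = 1 := by
  apply Subtype.ext
  apply Subtype.ext
  show cMat ^ 3 = 1
  exact cMat_cube

theorem cEl_ne : cEl ≠ 1 := by
  intro h
  have h1 : cMat = 1 := by
    have := congrArg (fun z : qd 2 => (z.1.1 : Matrix (Fin 3) (Fin 3) (ZMod 2))) h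
    exact this
  have := congrFun (congrFun h1 0) 0
  simp [cMat] at this
/-- The group Qd(2), the natural semidirect product of an elementary abelian group of order 4 by SL₂(2) (realised as the affine subgroup of SL₃(2)), is isomorphic to the symmetric group of degree 4. -/
theorem result : Nonempty (↥(Cfsg.qd 2) ≃* Equiv.Perm (Fin 4)) := by
  haveI : Fact (Nat.Prime 2) := ⟨Nat.prime_two⟩
  haveI : Fact (Nat.Prime 3) := ⟨Nat.prime_three⟩
  haveI : Finite (qd 2) := inferInstance
  have h8 : 8 ∣ Nat.card (qd 2) := by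
    have hU : Nat.card (Cfsg.Agent.S2763.UU 2) = 8 := by
      have e0 : Heis 1 2 ≃* Cfsg.Agent.S2763.UU 2 := MonoidHom.ofInjective uHom_injective
      rw [← Nat.card_congr e0.toEquiv, card_heis]
      norm_num
    rw [← hU]
    exact Subgroup.card_subgroup_dvd_card _
  have h3 : 3 ∣ Nat.card (qd 2) := by
    have : orderOf cEl = 3 := orderOf_eq_prime cEl_cube cEl_ne
    have h := orderOf_dvd_natCard cEl
    rwa [this] at h
  have h24 : 24 ∣ Nat.card (qd 2) :=
    Nat.Coprime.mul_dvd_of_dvd_of_dvd (by norm_num : Nat.Coprime 8 3) h8 h3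
  have hpos : 0 < Nat.card (qd 2) := Nat.card_pos
  have hcardP : Nat.card (Equiv.Perm (Fin 2 → ZMod 2)) = 24 := by
    rw [Nat.card_perm, Nat.card_fun, Nat.card_zmod, Nat.card_fin]
    rfl
  have hbij : Function.Bijective (Cfsg.Agent.S3835.psiW (p := 2)) := by
    apply Function.Injective.bijective_of_nat_card_le Cfsg.Agent.S3835.psiW_injective
    rw [hcardP]
    exact Nat.le_of_dvd hpos h24
  have e : (Fin 2 → ZMod 2) ≃ Fin 4 := Fintype.equivFinOfCardEq (by simp)
  exact ⟨(MulEquiv.ofBijective _ hbij).trans (Equiv.permCongrHom e)⟩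


end Cfsg.Agent.S2761
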