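import Cfsg.Statements.S2762
import Mathlib
import Cfsg.Agent.Lib.Helper4.Cores

set_option autoImplicit false
open Cfsg

namespace Cfsg.Agent.S2762

open Matrix

variable {F : Type*} [Field F]

theorem det_blk (M : Matrix (Fin 3) (Fin 3) F) (h0 : M 2 0 = 0) (h1 : M 2 1 = 0) (h2 : M 2 2 = 1)
    (hdet : M.det = 1) : M 0 0 * M 1 1 - M 0 1 * M 1 0 = 1 := by
  rw [Matrix.det_fin_three, h0, h1, h2] at hdet
  linear_combination hdet

theorem memQ (M : Matrix.SpecialLinearGroup (Fin 3) F) :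
    M ∈ Cfsg.qdOver F ↔ M.1 2 0 = 0 ∧ M.1 2 1 = 0 ∧ M.1 2 2 = 1 := by
  constructor
  · intro h
    unfold Cfsg.qdOver at h
    induction h using Subgroup.closure_induction with
    | mem x hx => exact hx
    | one => simp
    | mul x y _ _ hx hy =>
      obtain ⟨hx0, hx1, hx2⟩ := hx
      obtain ⟨hy0, hy1, hy2⟩ := hy
      simp only [Matrix.SpecialLinearGroup.coe_mul, Matrix.mul_apply, Fin.sum_univ_three]
      rw [hx0, hx1, hx2, hy0, hy1, hy2]
      simp
    | inv x _ hx =>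
      obtain ⟨hx0, hx1, hx2⟩ := hx
      have hd := det_blk x.1 hx0 hx1 hx2 x.2
      simp only [Matrix.SpecialLinearGroup.coe_inv, Matrix.adjugate_fin_three]
      refine ⟨?_, ?_, ?_⟩
      · simp [hx0, hx1]
      · simp [hx0, hx1]
      · simpa using hd
  · intro h
    exact Subgroup.subset_closure h

def blk (M : Matrix (Fin 3) (Fin 3) F) : Matrix (Fin 2) (Fin 2) F := !![M 0 0, M 0 1; M 1 0, M 1 1]

theorem blk_mul (M N : Matrix (Fin 3) (Fin 3) F) (h0 : N 2 0 = 0) (h1 : N 2 1 = 0) :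
    blk (M * N) = blk M * blk N := by
  ext i j
  fin_cases i <;> fin_cases j <;>
    simp [blk, Matrix.mul_apply, Fin.sum_univ_three, Fin.sum_univ_two, h0, h1]

theorem blk_one : blk (1 : Matrix (Fin 3) (Fin 3) F) = 1 := by
  ext i j
  fin_cases i <;> fin_cases j <;> simp [blk]

def piQ : ↥(Cfsg.qdOver F) →* Matrix.SpecialLinearGroup (Fin 2) F where
  toFun M := ⟨blk M.1.1, by
    rw [Matrix.det_fin_two]
    obtain ⟨h0, h1, h2⟩ := (memQ M.1).1 M.2
    simpa [blk] using det_blk M.1.1 h0 h1 h2 M.1.2⟩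
  map_one' := by
    apply Subtype.ext
    exact blk_one
  map_mul' M N := by
    apply Subtype.ext
    obtain ⟨h0, h1, h2⟩ := (memQ N.1).1 N.2
    exact blk_mul M.1.1 N.1.1 h0 h1

def emb (A : Matrix (Fin 2) (Fin 2) F) : Matrix (Fin 3) (Fin 3) F :=
  !![A 0 0, A 0 1, 0; A 1 0, A 1 1, 0; 0, 0, 1]

theorem det_emb (A : Matrix (Fin 2) (Fin 2) F) : (emb A).det = A.det := by
  rw [Matrix.det_fin_three, Matrix.det_fin_two]
  simp [emb]

theorem emb_mul (A B : Matrix (Fin 2) (Fin 2) F) : emb (A * B) = emb A * emb B := by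
  ext i j
  fin_cases i <;> fin_cases j <;>
    simp [emb, Matrix.mul_apply, Fin.sum_univ_three, Fin.sum_univ_two]

theorem emb_one : emb (1 : Matrix (Fin 2) (Fin 2) F) = 1 := by
  ext i j
  fin_cases i <;> fin_cases j <;> simp [emb]

def iotaQ : Matrix.SpecialLinearGroup (Fin 2) F →* ↥(Cfsg.qdOver F) where
  toFun A := ⟨⟨emb A.1, by rw [det_emb]; exact A.2⟩,
    (memQ _).2 ⟨by simp [emb], by simp [emb], by simp [emb]⟩⟩
  map_one' := by
    apply Subtype.ext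
    apply Subtype.ext
    exact emb_one
  map_mul' A B := by
    apply Subtype.ext
    apply Subtype.ext
    exact emb_mul A.1 B.1

def tra (v : Fin 2 → F) : Matrix (Fin 3) (Fin 3) F := !![1, 0, v 0; 0, 1, v 1; 0, 0, 1]

theorem det_tra (v : Fin 2 → F) : (tra v).det = 1 := by
  rw [Matrix.det_fin_three]
  simp [tra]

def tauQ (v : Fin 2 → F) : ↥(Cfsg.qdOver F) :=
  ⟨⟨tra v, det_tra v⟩, (memQ _).2 ⟨by simp [tra], by simp [tra], by simp [tra]⟩⟩

theorem piQ_val (M : ↥(Cfsg.qdOver F)) : (piQ M).1 = blk M.1.1 := rfl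
theorem iotaQ_val (A : Matrix.SpecialLinearGroup (Fin 2) F) : (iotaQ A).1.1 = emb A.1 := rfl
theorem tauQ_val (v : Fin 2 → F) : (tauQ v).1.1 = tra v := rfl

theorem blk_emb (A : Matrix (Fin 2) (Fin 2) F) : blk (emb A) = A := by
  ext i j
  fin_cases i <;> fin_cases j <;> simp [blk, emb]

theorem emb_blk (M : Matrix (Fin 3) (Fin 3) F) (h0 : M 2 0 = 0) (h1 : M 2 1 = 0) (h2 : M 2 2 = 1)
    (h02 : M 0 2 = 0) (h12 : M 1 2 = 0) : emb (blk M) = M := by
  ext i j
  fin_cases i <;> fin_cases j <;> simp [blk, emb, h0, h1, h2, h02, h12]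

theorem decomp_mat (M : Matrix (Fin 3) (Fin 3) F) (h0 : M 2 0 = 0) (h1 : M 2 1 = 0) (h2 : M 2 2 = 1) :
    M = tra ![M 0 2, M 1 2] * emb (blk M) := by
  ext i j
  fin_cases i <;> fin_cases j <;>
    simp [tra, emb, blk, Matrix.mul_apply, Fin.sum_univ_three, h0, h1, h2]

theorem pi_iota (A : Matrix.SpecialLinearGroup (Fin 2) F) : piQ (iotaQ A) = A := by
  apply Subtype.ext
  rw [piQ_val, iotaQ_val, blk_emb]

theorem decomp (M : ↥(Cfsg.qdOver F)) :
    M = tauQ ![M.1.1 0 2, M.1.1 1 2] * iotaQ (piQ M) := by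
  obtain ⟨h0, h1, h2⟩ := (memQ M.1).1 M.2
  apply Subtype.ext
  apply Subtype.ext
  exact decomp_mat M.1.1 h0 h1 h2

theorem mem_ker (M : ↥(Cfsg.qdOver F)) :
    M ∈ (piQ (F := F)).ker ↔ M.1.1 0 0 = 1 ∧ M.1.1 0 1 = 0 ∧ M.1.1 1 0 = 0 ∧ M.1.1 1 1 = 1 := by
  rw [MonoidHom.mem_ker]
  constructor
  · intro h
    have h' : blk M.1.1 = 1 := congrArg Subtype.val h
    have h00 := congrFun (congrFun h' 0) 0
    have h01 := congrFun (congrFun h' 0) 1
    have h10 := congrFun (congrFun h' 1) 0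
    have h11 := congrFun (congrFun h' 1) 1
    simp [blk] at h00 h01 h10 h11
    exact ⟨h00, h01, h10, h11⟩
  · rintro ⟨h00, h01, h10, h11⟩
    apply Subtype.ext
    rw [piQ_val]
    ext i j
    fin_cases i <;> fin_cases j <;> simp [blk, h00, h01, h10, h11]

theorem mem_range (M : ↥(Cfsg.qdOver F)) :
    M ∈ (iotaQ (F := F)).range ↔ M.1.1 0 2 = 0 ∧ M.1.1 1 2 = 0 := by
  constructor
  · rintro ⟨A, rfl⟩
    rw [iotaQ_val]
    simp [emb]
  · rintro ⟨h02, h12⟩
    refine ⟨piQ M, ?_⟩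
    obtain ⟨h0, h1, h2⟩ := (memQ M.1).1 M.2
    apply Subtype.ext
    apply Subtype.ext
    rw [iotaQ_val, piQ_val]
    exact emb_blk M.1.1 h0 h1 h2 h02 h12

section charp
variable {p : ℕ} [Fact p.Prime] [CharP F p]

theorem pow_p_of_sq_zero {n : Type*} [Fintype n] [DecidableEq n] [Nonempty n] (X : Matrix n n F)
    (h : (X - 1) * (X - 1) = 0) : X ^ p = 1 := by
  have hp2 : 2 ≤ p := (Fact.out : p.Prime).two_le
  have hNp : (X - 1) ^ p = 0 := by
    obtain ⟨k, hk⟩ : ∃ k, p = 2 + k := ⟨p - 2, by omega⟩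
    rw [hk, pow_add, sq, h, zero_mul]
  have hX : X = 1 + (X - 1) := by abel
  have hc : Commute (1 : Matrix n n F) (X - 1) := Commute.one_left _
  calc X ^ p = (1 + (X - 1)) ^ p := by rw [← hX]
    _ = 1 ^ p + (X - 1) ^ p := add_pow_char_of_commute p hc
    _ = 1 := by rw [one_pow, hNp, add_zero]

theorem ker_isPGroup : IsPGroup p (piQ (F := F)).ker := by
  intro g
  refine ⟨1, ?_⟩
  rw [pow_one]
  obtain ⟨h0, h1, h2⟩ := (memQ g.1.1).1 g.1.2
  obtain ⟨h00, h01, h10, h11⟩ := (mem_ker g.1).1 g.2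
  apply Subtype.ext
  apply Subtype.ext
  apply Subtype.ext
  show g.1.1.1 ^ p = 1
  apply pow_p_of_sq_zero
  ext i j
  fin_cases i <;> fin_cases j <;>
    simp [Matrix.mul_apply, Fin.sum_univ_three, h0, h1, h2, h00, h01, h10, h11]

theorem fixed_vec [Fintype F] (P : Subgroup (Matrix.SpecialLinearGroup (Fin 2) F)) [P.Normal]
    (hP : IsPGroup p P) (u : Matrix.SpecialLinearGroup (Fin 2) F) (hu : u ^ p = 1) :
    ∃ w : Fin 2 → F, w ≠ 0 ∧ u.1.mulVec w = w ∧ ∀ g ∈ P, g.1.mulVec w = w := by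
  have hp : p.Prime := Fact.out
  have hZ : IsPGroup p (Subgroup.zpowers u) := by
    have hdvd : orderOf u ∣ p := orderOf_dvd_of_pow_eq_one hu
    rcases (Nat.dvd_prime hp).1 hdvd with h | h
    · apply IsPGroup.of_card (n := 0)
      rw [Nat.card_zpowers, h, pow_zero]
    · apply IsPGroup.of_card (n := 1)
      rw [Nat.card_zpowers, h, pow_one]
  have hH : IsPGroup p ↥(P ⊔ Subgroup.zpowers u) := IsPGroup.to_sup_of_normal_left hP hZ
  have hcard : p ∣ Nat.card (Fin 2 → F) := by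
    obtain ⟨n, -, hn⟩ := FiniteField.card F p
    rw [Nat.card_fun, Nat.card_eq_fintype_card, hn, Nat.card_eq_fintype_card, Fintype.card_fin]
    exact dvd_pow (dvd_pow_self p n.ne_zero) (by norm_num)
  have h0 : (0 : Fin 2 → F) ∈ MulAction.fixedPoints ↥(P ⊔ Subgroup.zpowers u) (Fin 2 → F) := by
    intro h
    show h.1.1.mulVec 0 = 0
    exact Matrix.mulVec_zero _
  obtain ⟨w, hw, hw0⟩ := hH.exists_fixed_point_of_prime_dvd_card_of_fixed_point (Fin 2 → F) hcard h0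
  refine ⟨w, fun h => hw0 h.symm, ?_, ?_⟩
  · exact hw ⟨u, Subgroup.mem_sup_right (Subgroup.mem_zpowers u)⟩
  · intro g hg
    exact hw ⟨g, Subgroup.mem_sup_left hg⟩

def uU : Matrix.SpecialLinearGroup (Fin 2) F := ⟨!![1, 1; 0, 1], by simp [Matrix.det_fin_two]⟩
def uL : Matrix.SpecialLinearGroup (Fin 2) F := ⟨!![1, 0; 1, 1], by simp [Matrix.det_fin_two]⟩

theorem uU_pow : (uU (F := F)) ^ p = 1 := by
  apply Subtype.ext
  rw [Matrix.SpecialLinearGroup.coe_pow]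
  apply pow_p_of_sq_zero
  ext i j
  fin_cases i <;> fin_cases j <;> simp [uU, Matrix.mul_apply, Fin.sum_univ_two]

theorem uL_pow : (uL (F := F)) ^ p = 1 := by
  apply Subtype.ext
  rw [Matrix.SpecialLinearGroup.coe_pow]
  apply pow_p_of_sq_zero
  ext i j
  fin_cases i <;> fin_cases j <;> simp [uL, Matrix.mul_apply, Fin.sum_univ_two]

theorem sl2_normal_p_trivial [Fintype F] (P : Subgroup (Matrix.SpecialLinearGroup (Fin 2) F)) [P.Normal]
    (hP : IsPGroup p P) : P = ⊥ := by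
  rw [Subgroup.eq_bot_iff_forall]
  intro g hg
  obtain ⟨w, hw0, hwu, hwP⟩ := fixed_vec P hP uU uU_pow
  obtain ⟨w', hw'0, hw'u, hw'P⟩ := fixed_vec P hP uL uL_pow
  have h1 : w 1 = 0 := by
    have := congrFun hwu 0
    simpa [uU, Matrix.mulVec, dotProduct, Fin.sum_univ_two] using this
  have h0 : w 0 ≠ 0 := by
    intro h
    apply hw0
    funext i
    fin_cases i
    · exact h
    · exact h1
  have h1' : w' 0 = 0 := by
    have := congrFun hw'u 1
    simpa [uL, Matrix.mulVec, dotProduct, Fin.sum_univ_two] using this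
  have h0' : w' 1 ≠ 0 := by
    intro h
    apply hw'0
    funext i
    fin_cases i
    · exact h1'
    · exact h
  have e0 := congrFun (hwP g hg) 0
  have e1 := congrFun (hwP g hg) 1
  have e0' := congrFun (hw'P g hg) 0
  have e1' := congrFun (hw'P g hg) 1
  simp only [Matrix.mulVec, dotProduct, Fin.sum_univ_two, h1, h1', mul_zero, add_zero, zero_add] at e0 e1 e0' e1'
  have g00 : g.1 0 0 = 1 := by
    have : (g.1 0 0 - 1) * w 0 = 0 := by rw [sub_mul, one_mul, e0, sub_self]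
    rcases mul_eq_zero.1 this with h | h
    · exact sub_eq_zero.1 h
    · exact absurd h h0
  have g10 : g.1 1 0 = 0 := by
    rcases mul_eq_zero.1 e1 with h | h
    · exact h
    · exact absurd h h0
  have g11 : g.1 1 1 = 1 := by
    have : (g.1 1 1 - 1) * w' 1 = 0 := by rw [sub_mul, one_mul, e1', sub_self]
    rcases mul_eq_zero.1 this with h | h
    · exact sub_eq_zero.1 h
    · exact absurd h h0'
  have g01 : g.1 0 1 = 0 := by
    rcases mul_eq_zero.1 e0' with h | h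
    · exact h
    · exact absurd h h0'
  apply Subtype.ext
  ext i j
  fin_cases i <;> fin_cases j <;> simp [g00, g01, g10, g11]

theorem piQ_surj : Function.Surjective (piQ (F := F)) := fun A => ⟨iotaQ A, pi_iota A⟩

theorem pcore_eq [Fintype F] : Cfsg.pCore p ↥(Cfsg.qdOver F) = (piQ (F := F)).ker := by
  apply le_antisymm
  · intro M hM
    haveI := Cfsg.Agent.Lib.Helper4.pCore_normal p (G := ↥(Cfsg.qdOver F))
    have hP : IsPGroup p (Cfsg.pCore p ↥(Cfsg.qdOver F)) := Cfsg.Agent.Lib.Helper4.pCore_isPGroup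
    haveI : ((Cfsg.pCore p ↥(Cfsg.qdOver F)).map piQ).Normal :=
      Subgroup.Normal.map inferInstance _ piQ_surj
    have hbot := sl2_normal_p_trivial _ (hP.map piQ)
    have h1 : piQ M ∈ (Cfsg.pCore p ↥(Cfsg.qdOver F)).map piQ := Subgroup.mem_map_of_mem _ hM
    rw [hbot] at h1
    exact Subgroup.mem_bot.1 h1
  · apply le_sSup
    exact ⟨MonoidHom.normal_ker _, ker_isPGroup⟩

end charp

theorem tau_mem_ker (v : Fin 2 → F) : tauQ v ∈ (piQ (F := F)).ker := by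
  rw [mem_ker, tauQ_val]
  simp [tra]

theorem tra_eq (M : Matrix (Fin 3) (Fin 3) F) (h0 : M 2 0 = 0) (h1 : M 2 1 = 0) (h2 : M 2 2 = 1)
    (h00 : M 0 0 = 1) (h01 : M 0 1 = 0) (h10 : M 1 0 = 0) (h11 : M 1 1 = 1) :
    tra ![M 0 2, M 1 2] = M := by
  ext i j
  fin_cases i <;> fin_cases j <;> simp [tra, h0, h1, h2, h00, h01, h10, h11]

theorem mul_entry (M N : Matrix (Fin 3) (Fin 3) F) (h2 : N 2 2 = 1)
    (h00 : M 0 0 = 1) (h01 : M 0 1 = 0) (h10 : M 1 0 = 0) (h11 : M 1 1 = 1) :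
    (M * N) 0 2 = M 0 2 + N 0 2 ∧ (M * N) 1 2 = M 1 2 + N 1 2 := by
  constructor
  · rw [Matrix.mul_apply, Fin.sum_univ_three, h2, h00, h01]
    ring
  · rw [Matrix.mul_apply, Fin.sum_univ_three, h2, h10, h11]
    ring

def psiQ : Additive ↥(piQ (F := F)).ker ≃+ (Fin 2 → F) where
  toFun x := ![(Additive.toMul x).1.1.1 0 2, (Additive.toMul x).1.1.1 1 2]
  invFun v := Additive.ofMul ⟨tauQ v, tau_mem_ker v⟩
  left_inv x := by
    obtain ⟨h0, h1, h2⟩ := (memQ (Additive.toMul x).1.1).1 (Additive.toMul x).1.2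
    obtain ⟨h00, h01, h10, h11⟩ := (mem_ker (Additive.toMul x).1).1 (Additive.toMul x).2
    apply Additive.toMul.injective
    apply Subtype.ext
    apply Subtype.ext
    apply Subtype.ext
    exact tra_eq _ h0 h1 h2 h00 h01 h10 h11
  right_inv v := by
    funext i
    fin_cases i <;> simp [tauQ_val, tra]
  map_add' x y := by
    obtain ⟨h0, h1, h2⟩ := (memQ (Additive.toMul y).1.1).1 (Additive.toMul y).1.2
    obtain ⟨h00, h01, h10, h11⟩ := (mem_ker (Additive.toMul x).1).1 (Additive.toMul x).2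
    obtain ⟨e0, e1⟩ := mul_entry (Additive.toMul x).1.1.1 (Additive.toMul y).1.1.1 h2 h00 h01 h10 h11
    show ![((Additive.toMul x).1.1.1 * (Additive.toMul y).1.1.1) 0 2,
      ((Additive.toMul x).1.1.1 * (Additive.toMul y).1.1.1) 1 2] =
      ![(Additive.toMul x).1.1.1 0 2, (Additive.toMul x).1.1.1 1 2] +
      ![(Additive.toMul y).1.1.1 0 2, (Additive.toMul y).1.1.1 1 2]
    rw [e0, e1]
    funext i
    fin_cases i <;> simp

theorem iotaQ_inj : Function.Injective (iotaQ (F := F)) := Function.LeftInverse.injective pi_iota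

theorem natural_module :
    Cfsg.IsNaturalSL2Module F (piQ (F := F)).ker (iotaQ (F := F)).range := by
  refine ⟨?_, piQ.comp (iotaQ (F := F)).range.subtype, psiQ, ?_, ?_, ?_⟩
  · intro k _
    rw [Subgroup.mem_normalizer_iff]
    intro h
    constructor
    · intro hh
      exact (MonoidHom.normal_ker piQ).conj_mem h hh k
    · intro hh
      have := (MonoidHom.normal_ker piQ).conj_mem _ hh k⁻¹
      simpa [mul_assoc] using this
  · intro A
    exact ⟨⟨iotaQ A, ⟨A, rfl⟩⟩, pi_iota A⟩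
  · ext k
    rw [MonoidHom.mem_ker, Subgroup.mem_subgroupOf]
    constructor
    · intro hk
      obtain ⟨A, hA⟩ := k.2
      have h1 : piQ k.1 = 1 := hk
      rw [← hA, pi_iota] at h1
      have : k.1 = 1 := by rw [← hA, h1, map_one]
      rw [this]
      exact one_mem _
    · intro hk
      show piQ k.1 = 1
      rw [← MonoidHom.mem_ker, mem_ker]
      obtain ⟨h0, h1, h2⟩ := (memQ k.1.1).1 k.1.2
      have key : ∀ v : Fin 2 → F, k.1.1.1 0 0 * v 0 + k.1.1.1 0 1 * v 1 = v 0 ∧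
          k.1.1.1 1 0 * v 0 + k.1.1.1 1 1 * v 1 = v 1 := by
        intro v
        have hc := Subgroup.mem_centralizer_iff.1 hk (tauQ v) (tau_mem_ker v)
        have hm : tra v * k.1.1.1 = k.1.1.1 * tra v :=
          congrArg (fun M : ↥(Cfsg.qdOver F) => M.1.1) hc
        have e0 := congrFun (congrFun hm 0) 2
        have e1 := congrFun (congrFun hm 1) 2
        simp only [tra, Matrix.mul_apply, Fin.sum_univ_three, h2] at e0 e1
        simp at e0 e1
        constructor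
        · linear_combination -e0
        · linear_combination -e1
      have k0 := key ![1, 0]
      have k1 := key ![0, 1]
      simp at k0 k1
      exact ⟨k0.1, k1.1, k0.2, k1.2⟩
  · intro l v
    refine ⟨⟨l.1 * v.1 * l.1⁻¹, (MonoidHom.normal_ker piQ).conj_mem v.1 v.2 l.1⟩, rfl, ?_⟩
    obtain ⟨l02, l12⟩ := (mem_range l.1).1 l.2
    obtain ⟨h0, h1, h2⟩ := (memQ l.1.1).1 l.1.2
    obtain ⟨v0, v1, v2⟩ := (memQ v.1.1).1 v.1.2
    have hg : (l.1 * v.1 * l.1⁻¹) * l.1 = l.1 * v.1 := by group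
    have hm : (l.1 * v.1 * l.1⁻¹).1.1 * l.1.1.1 = l.1.1.1 * v.1.1.1 :=
      congrArg (fun M : ↥(Cfsg.qdOver F) => M.1.1) hg
    have key : ∀ X : Matrix (Fin 3) (Fin 3) F, X * l.1.1.1 = l.1.1.1 * v.1.1.1 →
        X 0 2 = l.1.1.1 0 0 * v.1.1.1 0 2 + l.1.1.1 0 1 * v.1.1.1 1 2 ∧
        X 1 2 = l.1.1.1 1 0 * v.1.1.1 0 2 + l.1.1.1 1 1 * v.1.1.1 1 2 := by
      intro X hX
      have e0 := congrFun (congrFun hX 0) 2
      have e1 := congrFun (congrFun hX 1) 2
      simp only [Matrix.mul_apply, Fin.sum_univ_three, l02, l12, h2, v2] at e0 e1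
      simp at e0 e1
      exact ⟨e0, e1⟩
    obtain ⟨e0, e1⟩ := key _ hm
    show ![(l.1 * v.1 * l.1⁻¹).1.1 0 2, (l.1 * v.1 * l.1⁻¹).1.1 1 2] =
      (blk l.1.1.1).mulVec ![v.1.1.1 0 2, v.1.1.1 1 2]
    rw [e0, e1]
    funext i
    fin_cases i <;> simp [blk, Matrix.mulVec, dotProduct, Fin.sum_univ_two]

theorem main2762 {F : Type*} [Field F] [Fintype F] {p : ℕ} [Fact p.Prime] [CharP F p] : (∀ M : ↥(Cfsg.qdOver F), M ∈ Cfsg.pCore p ↥(Cfsg.qdOver F) ↔ ((M : Matrix.SpecialLinearGroup (Fin 3) F) : Matrix (Fin 3) (Fin 3) F) 0 0 = 1 ∧ ((M : Matrix.SpecialLinearGroup (Fin 3) F) : Matrix (Fin 3) (Fin 3) F) 0 1 = 0 ∧ ((M : Matrix.SpecialLinearGroup (Fin 3) F) : Matrix (Fin 3) (Fin 3) F) 1 0 = 0 ∧ ((M : Matrix.SpecialLinearGroup (Fin 3) F) : Matrix (Fin 3) (Fin 3) F) 1 1 = 1) ∧ ∃ K : Subgroup ↥(Cfsg.qdOver F), (∀ M : ↥(Cfsg.qdOver F), M ∈ K ↔ ((M : Matrix.SpecialLinearGroup (Fin 3) F) : Matrix (Fin 3) (Fin 3) F) 0 2 = 0 ∧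 ((M : Matrix.SpecialLinearGroup (Fin 3) F) : Matrix (Fin 3) (Fin 3) F) 1 2 = 0) ∧ K ⊓ Cfsg.pCore p ↥(Cfsg.qdOver F) = ⊥ ∧ K ⊔ Cfsg.pCore p ↥(Cfsg.qdOver F) = ⊤ ∧ Nonempty (↥K ≃* Matrix.SpecialLinearGroup (Fin 2) F) ∧ Cfsg.IsNaturalSL2Module F (Cfsg.pCore p ↥(Cfsg.qdOver F)) K := by
  have hcore := pcore_eq (F := F) (p := p)
  refine ⟨?_, (iotaQ (F := F)).range, ?_, ?_, ?_, ?_, ?_⟩
  · intro M
    rw [hcore]
    exact mem_ker M
  · intro M
    exact mem_range M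
  · rw [hcore, eq_bot_iff]
    rintro M ⟨⟨A, rfl⟩, hk⟩
    have h1 : piQ (iotaQ A) = 1 := hk
    rw [pi_iota] at h1
    rw [h1, map_one]
    exact Subgroup.mem_bot.2 rfl
  · rw [hcore, eq_top_iff]
    intro M _
    rw [decomp M]
    exact mul_mem (Subgroup.mem_sup_right (tau_mem_ker _)) (Subgroup.mem_sup_left ⟨_, rfl⟩)
  · exact ⟨(MonoidHom.ofInjective iotaQ_inj).symm⟩
  · rw [hcore]
    exact natural_module


/-- Structure of Qd over a finite field F of characteristic p (the affine subgroup of SL₃(F)): its largest normal p-subgroup is the group of translations (matrices with upper-left block the identity), the block-diagonal matrices form a complement isomorphic to SL₂(F), and the translation subgroup is a natural SL₂(F)-module for that complement. -/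
theorem result {F : Type*} [Field F] [Fintype F] {p : ℕ} [Fact p.Prime] [CharP F p] : (∀ M : ↥(Cfsg.qdOver F), M ∈ Cfsg.pCore p ↥(Cfsg.qdOver F) ↔ ((M : Matrix.SpecialLinearGroup (Fin 3) F) : Matrix (Fin 3) (Fin 3) F) 0 0 = 1 ∧ ((M : Matrix.SpecialLinearGroup (Fin 3) F) : Matrix (Fin 3) (Fin 3) F) 0 1 = 0 ∧ ((M : Matrix.SpecialLinearGroup (Fin 3) F) : Matrix (Fin 3) (Fin 3) F) 1 0 = 0 ∧ ((M : Matrix.SpecialLinearGroup (Fin 3) F) : Matrix (Fin 3) (Fin 3) F) 1 1 = 1) ∧ ∃ K : Subgroup ↥(Cfsg.qdOver F), (∀ M : ↥(Cfsg.qdOver F), M ∈ K ↔ ((M : Matrix.SpecialLinearGroup (Fin 3) F) : Matrix (Fin 3) (Fin 3) F) 0 2 = 0 ∧ ((M : Matrix.SpecialLinearGroup (Fin 3) F) : Matrix (Fin 3) (Fin 3) F) 1 2 = 0) ∧ K ⊓ Cfsg.pCore p ↥(Cfsg.qdOver F) = ⊥ ∧ K ⊔ Cfsg.pCore p ↥(Cfsg.qdOver F) = ⊤ ∧ Nonempty (↥K ≃* Matrix.SpecialLinearGroup (Fin 2) F) ∧ Cfsg.IsNaturalSL2Module F (Cfsg.pCore p ↥(Cfsg.qdOver F)) K := by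
  exact main2762 

end Cfsg.Agent.S2762
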