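import Cfsg.Statements.S2779
import Mathlib
import Cfsg.Agent.Lib.Helper2.SL2Sylow


set_option autoImplicit false
open Cfsg

namespace Cfsg.Agent.S2779


open Matrix Cfsg.Agent.Lib.Helper2.GL2 in
theorem low0 {F : Type*} [Field F] (x : F) (y : Fin 2 → F) : (lowM x *ᵥ y) 0 = y 0 := by
  rw [Matrix.mulVec, dotProduct, Fin.sum_univ_two, lowM_00, lowM_01]; ring

open Matrix Cfsg.Agent.Lib.Helper2.GL2 in
theorem low1 {F : Type*} [Field F] (x : F) (y : Fin 2 → F) : (lowM x *ᵥ y) 1 = x * y 0 + y 1 := by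
  rw [Matrix.mulVec, dotProduct, Fin.sum_univ_two, lowM_10, lowM_11]; ring
/-- Let L act on the elementary abelian p-group V (inside a finite group, by conjugation, faithfully) as SL₂(F) on its natural module, F a field with p^n elements, and let S be a Sylow p-subgroup of L. Then [V, S, S] = 1; |V| = p^(2n) and |C_V(S)| = p^n; and for every nonidentity s ∈ S and every v ∈ V outside C_V(S): C_V(s) = C_V(S) = [V, S] = [V, s] = the subgroup generated by the commutators [v, t], t ∈ S. -/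
theorem result {G : Type*} [Group G] [Finite G] {p : ℕ} [Fact p.Prime] {F : Type*} [Field F] [Fintype F] (n : ℕ) (hF : Fintype.card F = p ^ n) (V L : Subgroup G) (hnat : Cfsg.IsNaturalSL2Module F V L) (hf : L ⊓ Subgroup.centralizer (V : Set G) = ⊥) (S : Sylow p ↥L) (T : Subgroup G) (hT : T = ((S : Subgroup ↥L).map L.subtype)) : ⁅⁅V, T⁆, T⁆ = ⊥ ∧ Nat.card V = p ^ (2 * n) ∧ Nat.card ↥(V ⊓ Subgroup.centralizer ((T : Subgroup G) : Set G)) = p ^ n ∧ ∀ s ∈ T, s ≠ 1 → (V ⊓ Subgroup.centralizer ({s} : Set G)) = (V ⊓ Subgroup.centralizer ((T : Subgroup G) : Set G)) ∧ ⁅V, T⁆ = (V ⊓ Subgroup.centralizer ((T : Subgroup G) : Set G)) ∧ ⁅V, Subgroup.zpowers s⁆ = (V ⊓ Subgroup.centralizer ((T : Subgroup G) : Set G)) ∧ ∀ v ∈ V, v ∉ Subgroup.centralizer (T : Set G) → Subgroup.closure {x : G | ∃ t ∈ T, x = v * t * v⁻¹ * t⁻¹} = (V ⊓ Subgroup.centralizer ((T : Subgroup G) : Set G)) := by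
  classical
  open Matrix Cfsg.Agent.Lib.Helper2.GL2 in
  obtain ⟨hLV, ρ, ψ, hsurj, hker, hact⟩ := hnat
  haveI : CharP F p := charP_of_card_eq_prime_pow hF
  have hp := (Fact.out : p.Prime)
  have hinj : Function.Injective ρ := by
    rw [← MonoidHom.ker_eq_bot_iff, hker, Subgroup.subgroupOf_eq_bot, disjoint_iff, inf_comm]
    exact hf
  obtain ⟨e, he⟩ : ∃ e : ↥L ≃* Matrix.SpecialLinearGroup (Fin 2) F, ∀ l, e l = ρ l :=
    ⟨MulEquiv.ofBijective ρ ⟨hinj, hsurj⟩, fun _ => rfl⟩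
  have hrange : (S : Subgroup ↥L) ≤ e.symm.toMonoidHom.range := by
    intro s _
    exact ⟨e s, e.symm_apply_apply s⟩
  obtain ⟨P', hP'⟩ : ∃ P' : Sylow p (Matrix.SpecialLinearGroup (Fin 2) F),
      (P' : Subgroup _) = Subgroup.comap e.symm.toMonoidHom (S : Subgroup ↥L) :=
    ⟨S.comapOfInjective e.symm.toMonoidHom e.symm.injective hrange, Sylow.coe_comapOfInjective _ _ _ _⟩
  obtain ⟨g, hg⟩ := Cfsg.Agent.Lib.Helper2.SL2.exists_conj_low_SL p P'
  obtain ⟨A, hA⟩ : ∃ A : Matrix (Fin 2) (Fin 2) F, A = (g : Matrix (Fin 2) (Fin 2) F) := ⟨_, rfl⟩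
  obtain ⟨A', hA'⟩ : ∃ A' : Matrix (Fin 2) (Fin 2) F,
      A' = ((g⁻¹ : GL (Fin 2) F) : Matrix (Fin 2) (Fin 2) F) := ⟨_, rfl⟩
  have hAA' : A * A' = 1 := by rw [hA, hA', ← Units.val_mul, mul_inv_cancel, Units.val_one]
  have hA'A : A' * A = 1 := by rw [hA, hA', ← Units.val_mul, inv_mul_cancel, Units.val_one]
  have hSiff : ∀ l : ↥L, l ∈ S ↔ ∃ x : F, A' * (ρ l : Matrix (Fin 2) (Fin 2) F) * A = lowM x := by
    intro l
    have h1 : ρ l ∈ P' ↔ l ∈ S := by
      have h2 : (ρ l ∈ (P' : Subgroup _)) ↔ e.symm.toMonoidHom (ρ l) ∈ (S : Subgroup ↥L) := by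
        rw [hP']; exact Subgroup.mem_comap
      have h3 : e.symm.toMonoidHom (ρ l) = l := by
        rw [← he l]; exact e.symm_apply_apply l
      rw [h3] at h2; exact h2
    rw [← h1, hg (ρ l), mem_Lsub, hA, hA']
    rfl
  obtain ⟨κ, hκ⟩ : ∃ κ : ↥V → Fin 2 → F, ∀ v, κ v = A' *ᵥ ψ (Additive.ofMul v) := ⟨_, fun _ => rfl⟩
  have κ_mul : ∀ v w : ↥V, κ (v * w) = κ v + κ w := by
    intro v w
    rw [hκ, hκ, hκ, ofMul_mul, map_add, Matrix.mulVec_add]
  have κ_inv : ∀ v : ↥V, κ v⁻¹ = - κ v := by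
    intro v; rw [hκ, hκ, ofMul_inv, map_neg, Matrix.mulVec_neg]
  have κ_inj : ∀ v w : ↥V, κ v = κ w → v = w := by
    intro v w h
    rw [hκ, hκ] at h
    have h2 := congrArg (fun u => A *ᵥ u) h
    simp only [Matrix.mulVec_mulVec, hAA', Matrix.one_mulVec] at h2
    have h3 := ψ.injective h2
    exact Additive.ofMul.injective h3
  have κ_surj : ∀ y : Fin 2 → F, ∃ v : ↥V, κ v = y := by
    intro y
    refine ⟨Additive.toMul (ψ.symm (A *ᵥ y)), ?_⟩
    rw [hκ]
    simp only [ofMul_toMul, AddEquiv.apply_symm_apply, Matrix.mulVec_mulVec, hA'A, Matrix.one_mulVec]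
  have hconjV : ∀ (l : ↥L) (v : ↥V), (l : G) * (v : G) * (l : G)⁻¹ ∈ V := by
    intro l v
    obtain ⟨w, hw, -⟩ := hact l v
    rw [← hw]; exact w.2
  have κ_act : ∀ (l : ↥L) (x : F), A' * (ρ l : Matrix (Fin 2) (Fin 2) F) * A = lowM x → ∀ (v : ↥V),
      κ ⟨(l : G) * (v : G) * (l : G)⁻¹, hconjV l v⟩ = lowM x *ᵥ κ v := by
    intro l x hx v
    obtain ⟨w, hw, hψ⟩ := hact l v
    have hw' : (⟨(l : G) * (v : G) * (l : G)⁻¹, hconjV l v⟩ : ↥V) = w := Subtype.ext hw.symm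
    rw [hw', hκ, hψ, hκ, Matrix.mulVec_mulVec, Matrix.mulVec_mulVec]
    congr 1
    calc A' * (ρ l : Matrix (Fin 2) (Fin 2) F)
        = A' * (ρ l : Matrix (Fin 2) (Fin 2) F) * (A * A') := by rw [hAA', mul_one]
      _ = (A' * (ρ l : Matrix (Fin 2) (Fin 2) F) * A) * A' := by simp only [mul_assoc]
      _ = lowM x * A' := by rw [hx]
  have hTmem : ∀ t : G, t ∈ T ↔ ∃ l : ↥L, l ∈ S ∧ (l : G) = t := by
    intro t; rw [hT]; constructor
    · rintro ⟨l, hl, rfl⟩; exact ⟨l, hl, rfl⟩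
    · rintro ⟨l, hl, rfl⟩; exact ⟨l, hl, rfl⟩
  have hparam : ∀ l : ↥L, l ∈ S → ∃ x : F, A' * (ρ l : Matrix (Fin 2) (Fin 2) F) * A = lowM x :=
    fun l hl => (hSiff l).1 hl
  have hexists : ∀ x : F, ∃ l : ↥L, l ∈ S ∧ A' * (ρ l : Matrix (Fin 2) (Fin 2) F) * A = lowM x := by
    intro x
    have hdet : (A * lowM x * A').det = 1 := by
      rw [Matrix.det_mul, Matrix.det_mul, Cfsg.Agent.Lib.Helper2.SL2.lowM_det, mul_one,
        ← Matrix.det_mul, hAA', Matrix.det_one]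
    obtain ⟨l, hl⟩ := hsurj ⟨A * lowM x * A', hdet⟩
    have hval : (ρ l : Matrix (Fin 2) (Fin 2) F) = A * lowM x * A' := by rw [hl]
    have hx : A' * (ρ l : Matrix (Fin 2) (Fin 2) F) * A = lowM x := by
      rw [hval]
      calc A' * (A * lowM x * A') * A = (A' * A) * lowM x * (A' * A) := by simp only [mul_assoc]
        _ = lowM x := by rw [hA'A, one_mul, mul_one]
    exact ⟨l, (hSiff l).2 ⟨x, hx⟩, hx⟩
  have hx0 : ∀ l : ↥L, A' * (ρ l : Matrix (Fin 2) (Fin 2) F) * A = lowM 0 → l = 1 := by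
    intro l hx
    apply hinj
    rw [map_one]
    apply Subtype.ext
    rw [lowM_zero] at hx
    have h1 : (ρ l : Matrix (Fin 2) (Fin 2) F) =
        A * (A' * (ρ l : Matrix (Fin 2) (Fin 2) F) * A) * A' := by
      calc (ρ l : Matrix (Fin 2) (Fin 2) F)
          = (A * A') * (ρ l : Matrix (Fin 2) (Fin 2) F) * (A * A') := by rw [hAA', one_mul, mul_one]
        _ = A * (A' * (ρ l : Matrix (Fin 2) (Fin 2) F) * A) * A' := by simp only [mul_assoc]
    rw [h1, hx, mul_one, hAA']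
    rfl
  have hfix : ∀ (l : ↥L) (x : F), A' * (ρ l : Matrix (Fin 2) (Fin 2) F) * A = lowM x → ∀ v : ↥V,
      ((l : G) * (v : G) * (l : G)⁻¹ = (v : G) ↔ x * κ v 0 = 0) := by
    intro l x hx v
    have hk := κ_act l x hx v
    constructor
    · intro h
      have hw : (⟨(l : G) * (v : G) * (l : G)⁻¹, hconjV l v⟩ : ↥V) = v := Subtype.ext h
      rw [hw] at hk
      have h1 := congrFun hk 1
      rw [low1] at h1
      linear_combination -h1
    · intro h
      have hw : (⟨(l : G) * (v : G) * (l : G)⁻¹, hconjV l v⟩ : ↥V) = v := by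
        apply κ_inj
        rw [hk]
        funext i
        revert i
        rw [Fin.forall_fin_two]
        exact ⟨low0 x _, by rw [low1, h, zero_add]⟩
      exact congrArg Subtype.val hw
  have hcentT : ∀ (v : G) (hv : v ∈ V),
      v ∈ Subgroup.centralizer (T : Set G) ↔ κ ⟨v, hv⟩ 0 = 0 := by
    intro v hv
    rw [Subgroup.mem_centralizer_iff]
    constructor
    · intro h
      obtain ⟨l, hl, hx⟩ := hexists 1
      have ht : (l : G) ∈ T := (hTmem _).2 ⟨l, hl, rfl⟩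
      have h1 := h (l : G) ht
      have h2 : (l : G) * v * (l : G)⁻¹ = v := by rw [h1]; group
      have h3 := (hfix l 1 hx ⟨v, hv⟩).1 h2
      rwa [one_mul] at h3
    · intro h t ht
      obtain ⟨l, hl, rfl⟩ := (hTmem t).1 ht
      obtain ⟨x, hx⟩ := hparam l hl
      have h2 : (l : G) * v * (l : G)⁻¹ = v := (hfix l x hx ⟨v, hv⟩).2 (by rw [h, mul_zero])
      calc (l : G) * v = ((l : G) * v * (l : G)⁻¹) * (l : G) := by group
        _ = v * (l : G) := by rw [h2]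
  have hcents : ∀ (s : G), s ∈ T → s ≠ 1 → ∀ (v : G) (hv : v ∈ V),
      v ∈ Subgroup.centralizer ({s} : Set G) ↔ κ ⟨v, hv⟩ 0 = 0 := by
    intro s hs hs1 v hv
    obtain ⟨l, hl, rfl⟩ := (hTmem s).1 hs
    obtain ⟨x, hx⟩ := hparam l hl
    have hxne : x ≠ 0 := by
      rintro rfl
      apply hs1
      rw [hx0 l hx]; rfl
    rw [Subgroup.mem_centralizer_singleton_iff]
    have hiff := hfix l x hx ⟨v, hv⟩
    constructor
    · intro h
      have h2 : (l : G) * v * (l : G)⁻¹ = v := by rw [← h]; group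
      have h3 := hiff.1 h2
      rcases mul_eq_zero.1 h3 with h4 | h4
      · exact absurd h4 hxne
      · exact h4
    · intro h
      have h2 : (l : G) * v * (l : G)⁻¹ = v := hiff.2 (by rw [h, mul_zero])
      calc v * (l : G) = ((l : G) * v * (l : G)⁻¹) * (l : G) := by rw [h2]
        _ = (l : G) * v := by group
  have hcomm : ∀ (l : ↥L) (x : F), A' * (ρ l : Matrix (Fin 2) (Fin 2) F) * A = lowM x → ∀ v : ↥V,
      ∃ hc : (v : G) * (l : G) * (v : G)⁻¹ * (l : G)⁻¹ ∈ V,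
        κ ⟨_, hc⟩ 0 = 0 ∧ κ ⟨_, hc⟩ 1 = - (x * κ v 0) := by
    intro l x hx v
    have h1 := hconjV l v⁻¹
    have e1 : (v : G) * (l : G) * (v : G)⁻¹ * (l : G)⁻¹ =
        (v : G) * ((l : G) * ((v⁻¹ : ↥V) : G) * (l : G)⁻¹) := by
      rw [Subgroup.coe_inv]; group
    have hc : (v : G) * (l : G) * (v : G)⁻¹ * (l : G)⁻¹ ∈ V := by
      rw [e1]; exact V.mul_mem v.2 h1
    refine ⟨hc, ?_⟩
    have hsub : (⟨_, hc⟩ : ↥V) = v * ⟨(l : G) * ((v⁻¹ : ↥V) : G) * (l : G)⁻¹, h1⟩ := Subtype.ext e1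
    rw [hsub, κ_mul, κ_act l x hx v⁻¹, κ_inv]
    constructor
    · rw [Pi.add_apply, low0, Pi.neg_apply]; ring
    · rw [Pi.add_apply, low1, Pi.neg_apply, Pi.neg_apply]; ring
  -- key: realize elements of C as commutators
  have hreal : ∀ (c : G) (hcV : c ∈ V), κ ⟨c, hcV⟩ 0 = 0 → ∀ (v : ↥V) (l : ↥L) (x : F),
      A' * (ρ l : Matrix (Fin 2) (Fin 2) F) * A = lowM x → - (x * κ v 0) = κ ⟨c, hcV⟩ 1 →
      (v : G) * (l : G) * (v : G)⁻¹ * (l : G)⁻¹ = c := by
    intro c hcV hc0 v l x hx hval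
    obtain ⟨hc, h0, h1⟩ := hcomm l x hx v
    have : (⟨_, hc⟩ : ↥V) = ⟨c, hcV⟩ := by
      apply κ_inj
      funext i
      revert i
      rw [Fin.forall_fin_two]
      exact ⟨by rw [h0, hc0], by rw [h1, hval]⟩
    exact congrArg Subtype.val this
  have hgenC : ∀ (v : ↥V) (l : ↥L), l ∈ S →
      (v : G) * (l : G) * (v : G)⁻¹ * (l : G)⁻¹ ∈ V ⊓ Subgroup.centralizer (T : Set G) := by
    intro v l hl
    obtain ⟨x, hx⟩ := hparam l hl
    obtain ⟨hc, h0, -⟩ := hcomm l x hx v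
    exact Subgroup.mem_inf.2 ⟨hc, (hcentT _ hc).2 h0⟩
  have hD : ⁅V, T⁆ = V ⊓ Subgroup.centralizer (T : Set G) := by
    apply le_antisymm
    · rw [Subgroup.commutator_le]
      intro v hv t ht
      obtain ⟨l, hl, rfl⟩ := (hTmem t).1 ht
      rw [commutatorElement_def]
      exact hgenC ⟨v, hv⟩ l hl
    · intro c hc
      obtain ⟨hcV, hcT⟩ := Subgroup.mem_inf.1 hc
      have hc0 := (hcentT c hcV).1 hcT
      obtain ⟨v, hv⟩ := κ_surj ![1, 0]
      obtain ⟨l, hl, hx⟩ := hexists (- (κ ⟨c, hcV⟩ 1))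
      have hv0 : κ v 0 = 1 := by rw [hv]; simp
      have h := hreal c hcV hc0 v l _ hx (by rw [hv0]; ring)
      rw [← h, ← commutatorElement_def]
      exact Subgroup.commutator_mem_commutator v.2 ((hTmem _).2 ⟨l, hl, rfl⟩)
  refine ⟨?_, ?_, ?_, ?_⟩
  · rw [hD]
    exact Subgroup.commutator_eq_bot_iff_le_centralizer.2 inf_le_right
  · have h1 : Nat.card ↥V = Nat.card (Fin 2 → F) :=
      (Nat.card_congr Additive.ofMul).trans (Nat.card_congr ψ.toEquiv)
    rw [h1, Nat.card_eq_fintype_card, Fintype.card_fun, Fintype.card_fin, hF, ← pow_mul, mul_comm]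
  · have hmemV : ∀ c : ↥(V ⊓ Subgroup.centralizer (T : Set G)), (c : G) ∈ V :=
      fun c => (Subgroup.mem_inf.1 c.2).1
    have hbij : Function.Bijective
        (fun c : ↥(V ⊓ Subgroup.centralizer (T : Set G)) => κ ⟨(c : G), hmemV c⟩ 1) := by
      constructor
      · intro c c' h
        have h0 := (hcentT _ (hmemV c)).1 (Subgroup.mem_inf.1 c.2).2
        have h0' := (hcentT _ (hmemV c')).1 (Subgroup.mem_inf.1 c'.2).2
        have : (⟨(c : G), hmemV c⟩ : ↥V) = ⟨(c' : G), hmemV c'⟩ := by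
          apply κ_inj
          funext i
          revert i
          rw [Fin.forall_fin_two]
          exact ⟨by rw [h0, h0'], h⟩
        have h5 : (c : G) = (c' : G) := congrArg (fun w : ↥V => (w : G)) this
        exact Subtype.ext h5
      · intro y
        obtain ⟨v, hv⟩ := κ_surj ![0, y]
        have hv0 : κ v 0 = 0 := by rw [hv]; simp
        have hv1 : κ v 1 = y := by rw [hv]; simp
        have hvC : (v : G) ∈ V ⊓ Subgroup.centralizer (T : Set G) :=
          Subgroup.mem_inf.2 ⟨v.2, (hcentT _ v.2).2 hv0⟩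
        exact ⟨⟨(v : G), hvC⟩, hv1⟩
    rw [Nat.card_congr (Equiv.ofBijective _ hbij), Nat.card_eq_fintype_card, hF]
  · intro s hs hs1
    refine ⟨?_, hD, ?_, ?_⟩
    · ext c
      rw [Subgroup.mem_inf, Subgroup.mem_inf]
      constructor
      · rintro ⟨hcV, hcs⟩
        exact ⟨hcV, (hcentT c hcV).2 ((hcents s hs hs1 c hcV).1 hcs)⟩
      · rintro ⟨hcV, hcT⟩
        exact ⟨hcV, (hcents s hs hs1 c hcV).2 ((hcentT c hcV).1 hcT)⟩
    · apply le_antisymm
      · rw [← hD]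
        exact Subgroup.commutator_mono le_rfl (Subgroup.zpowers_le.2 hs)
      · intro c hc
        obtain ⟨hcV, hcT⟩ := Subgroup.mem_inf.1 hc
        have hc0 := (hcentT c hcV).1 hcT
        obtain ⟨l, hl, hls⟩ := (hTmem s).1 hs
        obtain ⟨x, hx⟩ := hparam l hl
        have hxne : x ≠ 0 := by
          rintro rfl
          apply hs1
          rw [← hls, hx0 l hx]; rfl
        obtain ⟨v, hv⟩ := κ_surj ![- (κ ⟨c, hcV⟩ 1) / x, 0]
        have hv0 : κ v 0 = - (κ ⟨c, hcV⟩ 1) / x := by rw [hv]; simp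
        have h := hreal c hcV hc0 v l x hx (by rw [hv0]; field_simp)
        rw [← h, ← commutatorElement_def, hls]
        exact Subgroup.commutator_mem_commutator v.2 (Subgroup.mem_zpowers s)
    · intro v hvV hvT
      apply le_antisymm
      · rw [Subgroup.closure_le]
        rintro x ⟨t, ht, rfl⟩
        obtain ⟨l, hl, rfl⟩ := (hTmem t).1 ht
        exact hgenC ⟨v, hvV⟩ l hl
      · intro c hc
        obtain ⟨hcV, hcT⟩ := Subgroup.mem_inf.1 hc
        have hc0 := (hcentT c hcV).1 hcT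
        have hv0 : κ ⟨v, hvV⟩ 0 ≠ 0 := fun h => hvT ((hcentT v hvV).2 h)
        obtain ⟨l, hl, hx⟩ := hexists (- (κ ⟨c, hcV⟩ 1) / κ ⟨v, hvV⟩ 0)
        have h := hreal c hcV hc0 ⟨v, hvV⟩ l _ hx (by field_simp)
        apply Subgroup.subset_closure
        exact ⟨(l : G), (hTmem _).2 ⟨l, hl, rfl⟩, h.symm⟩

end Cfsg.Agent.S2779
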