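import Cfsg.Statements.S2780
import Mathlib
import Cfsg.Agent.Lib.Helper2.SL2Sylow


set_option autoImplicit false
open Cfsg

namespace Cfsg.Agent.S2780


open Matrix Cfsg.Agent.Lib.Helper2.GL2 in
theorem low0 {F : Type*} [Field F] (x : F) (y : Fin 2 → F) : (lowM x *ᵥ y) 0 = y 0 := by
  rw [Matrix.mulVec, dotProduct, Fin.sum_univ_two, lowM_00, lowM_01]; ring

open Matrix Cfsg.Agent.Lib.Helper2.GL2 in
theorem low1 {F : Type*} [Field F] (x : F) (y : Fin 2 → F) : (lowM x *ᵥ y) 1 = x * y 0 + y 1 := by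
  rw [Matrix.mulVec, dotProduct, Fin.sum_univ_two, lowM_10, lowM_11]; ring

open Matrix in
theorem mv0 {F : Type*} [Field F] (N : Matrix (Fin 2) (Fin 2) F) (y : Fin 2 → F) :
    (N *ᵥ y) 0 = N 0 0 * y 0 + N 0 1 * y 1 := by
  rw [Matrix.mulVec, dotProduct, Fin.sum_univ_two]

open Matrix in
theorem mv1 {F : Type*} [Field F] (N : Matrix (Fin 2) (Fin 2) F) (y : Fin 2 → F) :
    (N *ᵥ y) 1 = N 1 0 * y 0 + N 1 1 * y 1 := by
  rw [Matrix.mulVec, dotProduct, Fin.sum_univ_two]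
/-- Let L act on the elementary abelian p-group V (inside a finite group, faithfully) as SL₂(F) on its natural module, F a field with p^n elements, S a Sylow p-subgroup of L. Then: for every g ∈ L not normalizing S, V is the internal direct product of C_V(S) and C_V(gSg⁻¹); every nonidentity element of L of order prime to p acts on V without nonidentity fixed points; and C_V(S) and V/C_V(S) are irreducible for N_L(S): the only N_L(S)-invariant subgroups of C_V(S) are 1 and C_V(S), and the only N_L(S)-invariant subgroups between C_V(S) and V are those two. -/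
theorem result {G : Type*} [Group G] [Finite G] {p : ℕ} [Fact p.Prime] {F : Type*} [Field F] [Fintype F] (n : ℕ) (hF : Fintype.card F = p ^ n) (V L : Subgroup G) (hnat : Cfsg.IsNaturalSL2Module F V L) (hf : L ⊓ Subgroup.centralizer (V : Set G) = ⊥) (S : Sylow p ↥L) (T : Subgroup G) (hT : T = ((S : Subgroup ↥L).map L.subtype)) : (∀ g ∈ L, g ∉ Subgroup.normalizer (T : Set G) → Cfsg.IsInternalDirectProduct (V ⊓ Subgroup.centralizer ((T : Subgroup G) : Set G)) (V ⊓ Subgroup.centralizer ((T.map (MulAut.conj g).toMonoidHom : Subgroup G) : Set G)) V) ∧ (∀ x ∈ L, x ≠ 1 → (orderOf x).Coprime p → (V ⊓ Subgroup.centralizer ({x} : Set G)) = ⊥) ∧ (∀ U : Subgroup G, U ≤ (V ⊓ Subgroup.centralizer ((T : Subgroup G) : Set G)) → L ⊓ Subgroup.normalizer (T : Set G) ≤ Subgroup.normalizer (U : Set G) → U = ⊥ ∨ U = (V ⊓ Subgroup.centralizer ((T : Subgroup G) : Set G))) ∧ (∀ U : Subgroup G, (V ⊓ Subgroup.centralizer ((T : Subgroup G) : Set G))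 ≤ U → U ≤ V → L ⊓ Subgroup.normalizer (T : Set G) ≤ Subgroup.normalizer (U : Set G) → U = (V ⊓ Subgroup.centralizer ((T : Subgroup G) : Set G)) ∨ U = V) := by
  classical
  open Matrix Cfsg.Agent.Lib.Helper2.GL2 in
  obtain ⟨hLV, ρ, ψ, hsurj, hker, hact⟩ := hnat
  haveI : CharP F p := charP_of_card_eq_prime_pow hF
  have hp := (Fact.out : p.Prime)
  have hinj : Function.Injective ρ := by
    rw [← MonoidHom.ker_eq_bot_iff, hker, Subgroup.subgroupOf_eq_bot, disjoint_iff, inf_comm]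
    exact hf
  obtain ⟨e, he⟩ : ∃ e : ↥L ≃* Matrix.SpecialLinearGroup (Fin 2) F, ∀ l, e l = ρ l :=
    ⟨MulEquiv.ofBijective ρ ⟨hinj, hsurj⟩, fun _ => rfl⟩
  have hrange : (S : Subgroup ↥L) ≤ e.symm.toMonoidHom.range := by
    intro s _
    exact ⟨e s, e.symm_apply_apply s⟩
  obtain ⟨P', hP'⟩ : ∃ P' : Sylow p (Matrix.SpecialLinearGroup (Fin 2) F),
      (P' : Subgroup _) = Subgroup.comap e.symm.toMonoidHom (S : Subgroup ↥L) :=
    ⟨S.comapOfInjective e.symm.toMonoidHom e.symm.injective hrange, Sylow.coe_comapOfInjective _ _ _ _⟩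
  obtain ⟨g, hg⟩ := Cfsg.Agent.Lib.Helper2.SL2.exists_conj_low_SL p P'
  obtain ⟨A, hA⟩ : ∃ A : Matrix (Fin 2) (Fin 2) F, A = (g : Matrix (Fin 2) (Fin 2) F) := ⟨_, rfl⟩
  obtain ⟨A', hA'⟩ : ∃ A' : Matrix (Fin 2) (Fin 2) F,
      A' = ((g⁻¹ : GL (Fin 2) F) : Matrix (Fin 2) (Fin 2) F) := ⟨_, rfl⟩
  have hAA' : A * A' = 1 := by rw [hA, hA', ← Units.val_mul, mul_inv_cancel, Units.val_one]
  have hA'A : A' * A = 1 := by rw [hA, hA', ← Units.val_mul, inv_mul_cancel, Units.val_one]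
  have hSiff : ∀ l : ↥L, l ∈ S ↔ ∃ x : F, A' * (ρ l : Matrix (Fin 2) (Fin 2) F) * A = lowM x := by
    intro l
    have h1 : ρ l ∈ P' ↔ l ∈ S := by
      have h2 : (ρ l ∈ (P' : Subgroup _)) ↔ e.symm.toMonoidHom (ρ l) ∈ (S : Subgroup ↥L) := by
        rw [hP']; exact Subgroup.mem_comap
      have h3 : e.symm.toMonoidHom (ρ l) = l := by
        rw [← he l]; exact e.symm_apply_apply l
      rw [h3] at h2; exact h2
    rw [← h1, hg (ρ l), mem_Lsub, hA, hA']
    rfl
  obtain ⟨κ, hκ⟩ : ∃ κ : ↥V → Fin 2 → F, ∀ v, κ v = A' *ᵥ ψ (Additive.ofMul v) := ⟨_, fun _ => rfl⟩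
  have κ_mul : ∀ v w : ↥V, κ (v * w) = κ v + κ w := by
    intro v w
    rw [hκ, hκ, hκ, ofMul_mul, map_add, Matrix.mulVec_add]
  have κ_inv : ∀ v : ↥V, κ v⁻¹ = - κ v := by
    intro v; rw [hκ, hκ, ofMul_inv, map_neg, Matrix.mulVec_neg]
  have κ_inj : ∀ v w : ↥V, κ v = κ w → v = w := by
    intro v w h
    rw [hκ, hκ] at h
    have h2 := congrArg (fun u => A *ᵥ u) h
    simp only [Matrix.mulVec_mulVec, hAA', Matrix.one_mulVec] at h2
    have h3 := ψ.injective h2
    exact Additive.ofMul.injective h3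
  have κ_surj : ∀ y : Fin 2 → F, ∃ v : ↥V, κ v = y := by
    intro y
    refine ⟨Additive.toMul (ψ.symm (A *ᵥ y)), ?_⟩
    rw [hκ]
    simp only [ofMul_toMul, AddEquiv.apply_symm_apply, Matrix.mulVec_mulVec, hA'A, Matrix.one_mulVec]
  have hconjV : ∀ (l : ↥L) (v : ↥V), (l : G) * (v : G) * (l : G)⁻¹ ∈ V := by
    intro l v
    obtain ⟨w, hw, -⟩ := hact l v
    rw [← hw]; exact w.2
  have κ_act : ∀ (l : ↥L) (x : F), A' * (ρ l : Matrix (Fin 2) (Fin 2) F) * A = lowM x → ∀ (v : ↥V),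
      κ ⟨(l : G) * (v : G) * (l : G)⁻¹, hconjV l v⟩ = lowM x *ᵥ κ v := by
    intro l x hx v
    obtain ⟨w, hw, hψ⟩ := hact l v
    have hw' : (⟨(l : G) * (v : G) * (l : G)⁻¹, hconjV l v⟩ : ↥V) = w := Subtype.ext hw.symm
    rw [hw', hκ, hψ, hκ, Matrix.mulVec_mulVec, Matrix.mulVec_mulVec]
    congr 1
    calc A' * (ρ l : Matrix (Fin 2) (Fin 2) F)
        = A' * (ρ l : Matrix (Fin 2) (Fin 2) F) * (A * A') := by rw [hAA', mul_one]
      _ = (A' * (ρ l : Matrix (Fin 2) (Fin 2) F) * A) * A' := by simp only [mul_assoc]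
      _ = lowM x * A' := by rw [hx]
  have hTmem : ∀ t : G, t ∈ T ↔ ∃ l : ↥L, l ∈ S ∧ (l : G) = t := by
    intro t; rw [hT]; constructor
    · rintro ⟨l, hl, rfl⟩; exact ⟨l, hl, rfl⟩
    · rintro ⟨l, hl, rfl⟩; exact ⟨l, hl, rfl⟩
  have hparam : ∀ l : ↥L, l ∈ S → ∃ x : F, A' * (ρ l : Matrix (Fin 2) (Fin 2) F) * A = lowM x :=
    fun l hl => (hSiff l).1 hl
  have hexists : ∀ x : F, ∃ l : ↥L, l ∈ S ∧ A' * (ρ l : Matrix (Fin 2) (Fin 2) F) * A = lowM x := by
    intro x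
    have hdet : (A * lowM x * A').det = 1 := by
      rw [Matrix.det_mul, Matrix.det_mul, Cfsg.Agent.Lib.Helper2.SL2.lowM_det, mul_one,
        ← Matrix.det_mul, hAA', Matrix.det_one]
    obtain ⟨l, hl⟩ := hsurj ⟨A * lowM x * A', hdet⟩
    have hval : (ρ l : Matrix (Fin 2) (Fin 2) F) = A * lowM x * A' := by rw [hl]
    have hx : A' * (ρ l : Matrix (Fin 2) (Fin 2) F) * A = lowM x := by
      rw [hval]
      calc A' * (A * lowM x * A') * A = (A' * A) * lowM x * (A' * A) := by simp only [mul_assoc]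
        _ = lowM x := by rw [hA'A, one_mul, mul_one]
    exact ⟨l, (hSiff l).2 ⟨x, hx⟩, hx⟩
  have hx0 : ∀ l : ↥L, A' * (ρ l : Matrix (Fin 2) (Fin 2) F) * A = lowM 0 → l = 1 := by
    intro l hx
    apply hinj
    rw [map_one]
    apply Subtype.ext
    rw [lowM_zero] at hx
    have h1 : (ρ l : Matrix (Fin 2) (Fin 2) F) =
        A * (A' * (ρ l : Matrix (Fin 2) (Fin 2) F) * A) * A' := by
      calc (ρ l : Matrix (Fin 2) (Fin 2) F)
          = (A * A') * (ρ l : Matrix (Fin 2) (Fin 2) F) * (A * A') := by rw [hAA', one_mul, mul_one]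
        _ = A * (A' * (ρ l : Matrix (Fin 2) (Fin 2) F) * A) * A' := by simp only [mul_assoc]
    rw [h1, hx, mul_one, hAA']
    rfl
  have hfix : ∀ (l : ↥L) (x : F), A' * (ρ l : Matrix (Fin 2) (Fin 2) F) * A = lowM x → ∀ v : ↥V,
      ((l : G) * (v : G) * (l : G)⁻¹ = (v : G) ↔ x * κ v 0 = 0) := by
    intro l x hx v
    have hk := κ_act l x hx v
    constructor
    · intro h
      have hw : (⟨(l : G) * (v : G) * (l : G)⁻¹, hconjV l v⟩ : ↥V) = v := Subtype.ext h
      rw [hw] at hk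
      have h1 := congrFun hk 1
      rw [low1] at h1
      linear_combination -h1
    · intro h
      have hw : (⟨(l : G) * (v : G) * (l : G)⁻¹, hconjV l v⟩ : ↥V) = v := by
        apply κ_inj
        rw [hk]
        funext i
        revert i
        rw [Fin.forall_fin_two]
        exact ⟨low0 x _, by rw [low1, h, zero_add]⟩
      exact congrArg Subtype.val hw
  have hcentT : ∀ (v : G) (hv : v ∈ V),
      v ∈ Subgroup.centralizer (T : Set G) ↔ κ ⟨v, hv⟩ 0 = 0 := by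
    intro v hv
    rw [Subgroup.mem_centralizer_iff]
    constructor
    · intro h
      obtain ⟨l, hl, hx⟩ := hexists 1
      have ht : (l : G) ∈ T := (hTmem _).2 ⟨l, hl, rfl⟩
      have h1 := h (l : G) ht
      have h2 : (l : G) * v * (l : G)⁻¹ = v := by rw [h1]; group
      have h3 := (hfix l 1 hx ⟨v, hv⟩).1 h2
      rwa [one_mul] at h3
    · intro h t ht
      obtain ⟨l, hl, rfl⟩ := (hTmem t).1 ht
      obtain ⟨x, hx⟩ := hparam l hl
      have h2 : (l : G) * v * (l : G)⁻¹ = v := (hfix l x hx ⟨v, hv⟩).2 (by rw [h, mul_zero])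
      calc (l : G) * v = ((l : G) * v * (l : G)⁻¹) * (l : G) := by group
        _ = v * (l : G) := by rw [h2]
  have hcents : ∀ (s : G), s ∈ T → s ≠ 1 → ∀ (v : G) (hv : v ∈ V),
      v ∈ Subgroup.centralizer ({s} : Set G) ↔ κ ⟨v, hv⟩ 0 = 0 := by
    intro s hs hs1 v hv
    obtain ⟨l, hl, rfl⟩ := (hTmem s).1 hs
    obtain ⟨x, hx⟩ := hparam l hl
    have hxne : x ≠ 0 := by
      rintro rfl
      apply hs1
      rw [hx0 l hx]; rfl
    rw [Subgroup.mem_centralizer_singleton_iff]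
    have hiff := hfix l x hx ⟨v, hv⟩
    constructor
    · intro h
      have h2 : (l : G) * v * (l : G)⁻¹ = v := by rw [← h]; group
      have h3 := hiff.1 h2
      rcases mul_eq_zero.1 h3 with h4 | h4
      · exact absurd h4 hxne
      · exact h4
    · intro h
      have h2 : (l : G) * v * (l : G)⁻¹ = v := hiff.2 (by rw [h, mul_zero])
      calc v * (l : G) = ((l : G) * v * (l : G)⁻¹) * (l : G) := by rw [h2]
        _ = (l : G) * v := by group
  obtain ⟨M, hM⟩ : ∃ M : ↥L → Matrix (Fin 2) (Fin 2) F,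
      ∀ l, M l = A' * (ρ l : Matrix (Fin 2) (Fin 2) F) * A := ⟨_, fun _ => rfl⟩
  have M_mul : ∀ l l' : ↥L, M (l * l') = M l * M l' := by
    intro l l'
    rw [hM, hM, hM, map_mul, Matrix.SpecialLinearGroup.coe_mul]
    calc A' * ((ρ l : Matrix (Fin 2) (Fin 2) F) * (ρ l' : Matrix (Fin 2) (Fin 2) F)) * A
        = A' * (ρ l : Matrix (Fin 2) (Fin 2) F) * 1 * (ρ l' : Matrix (Fin 2) (Fin 2) F) * A := by
          simp only [mul_one, mul_assoc]
      _ = A' * (ρ l : Matrix (Fin 2) (Fin 2) F) * (A * A') *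
            (ρ l' : Matrix (Fin 2) (Fin 2) F) * A := by rw [hAA']
      _ = _ := by simp only [mul_assoc]
  have M_one : M 1 = 1 := by
    rw [hM, map_one, Matrix.SpecialLinearGroup.coe_one, mul_one, hA'A]
  have M_det : ∀ l : ↥L, (M l).det = 1 := by
    intro l
    rw [hM, Matrix.det_mul, Matrix.det_mul, Matrix.SpecialLinearGroup.det_coe, mul_one,
      ← Matrix.det_mul, hA'A, Matrix.det_one]
  have hsurjM : ∀ N : Matrix (Fin 2) (Fin 2) F, N.det = 1 → ∃ l : ↥L, M l = N := by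
    intro N hN
    have hdet : (A * N * A').det = 1 := by
      rw [Matrix.det_mul, Matrix.det_mul, hN, mul_one, ← Matrix.det_mul, hAA', Matrix.det_one]
    obtain ⟨l, hl⟩ := hsurj ⟨A * N * A', hdet⟩
    have hval : (ρ l : Matrix (Fin 2) (Fin 2) F) = A * N * A' := by rw [hl]
    refine ⟨l, ?_⟩
    rw [hM, hval]
    calc A' * (A * N * A') * A = (A' * A) * N * (A' * A) := by simp only [mul_assoc]
      _ = N := by rw [hA'A, one_mul, mul_one]
  have κ_actM : ∀ (l : ↥L) (v : ↥V),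
      κ ⟨(l : G) * (v : G) * (l : G)⁻¹, hconjV l v⟩ = M l *ᵥ κ v := by
    intro l v
    obtain ⟨w, hw, hψ⟩ := hact l v
    have hw' : (⟨(l : G) * (v : G) * (l : G)⁻¹, hconjV l v⟩ : ↥V) = w := Subtype.ext hw.symm
    rw [hw', hκ, hψ, hκ, Matrix.mulVec_mulVec, Matrix.mulVec_mulVec, hM]
    congr 1
    calc A' * (ρ l : Matrix (Fin 2) (Fin 2) F)
        = A' * (ρ l : Matrix (Fin 2) (Fin 2) F) * (A * A') := by rw [hAA', mul_one]
      _ = (A' * (ρ l : Matrix (Fin 2) (Fin 2) F) * A) * A' := by simp only [mul_assoc]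
  have hSM : ∀ l : ↥L, l ∈ S ↔ ∃ x : F, M l = lowM x := by
    intro l
    rw [hM]
    exact hSiff l
  have hM1 : ∀ l : ↥L, M l = 1 → l = 1 := by
    intro l h
    apply hx0 l
    rw [← hM, h, lowM_zero]
  have κ_one : κ 1 = 0 := by
    rw [hκ, ofMul_one, map_zero, Matrix.mulVec_zero]
  have κ_eq_one : ∀ v : ↥V, κ v 0 = 0 → κ v 1 = 0 → v = 1 := by
    intro v h0 h1
    apply κ_inj
    rw [κ_one]
    funext i
    revert i
    rw [Fin.forall_fin_two]
    exact ⟨by rw [h0]; rfl, by rw [h1]; rfl⟩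
  have hVcomm : ∀ v w : ↥V, v * w = w * v := by
    intro v w
    apply κ_inj
    rw [κ_mul, κ_mul, add_comm]
  have htri : ∀ l : ↥L, M l 0 1 = 0 → M l 0 0 ≠ 0 := by
    intro l h01 h00
    have h := M_det l
    rw [Matrix.det_fin_two, h01, h00] at h
    simp at h
  have htri_inv : ∀ l : ↥L, M l 0 1 = 0 → M l⁻¹ 0 1 = 0 := by
    intro l h01
    have h1 : M l * M l⁻¹ = 1 := by rw [← M_mul, mul_inv_cancel, M_one]
    have h2 := congrFun (congrFun h1 0) 1
    rw [Matrix.mul_apply, Fin.sum_univ_two, Matrix.one_apply_ne (by decide), h01, zero_mul,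
      add_zero] at h2
    rcases mul_eq_zero.1 h2 with h3 | h3
    · exact absurd h3 (htri l h01)
    · exact h3
  have hnormS : ∀ l : ↥L, M l 0 1 = 0 → ∀ s : ↥L, s ∈ S → l * s * l⁻¹ ∈ S := by
    intro l hl s hs
    obtain ⟨x, hx⟩ := (hSM s).1 hs
    rw [hSM]
    refine ⟨M l 1 1 * x / M l 0 0, ?_⟩
    rw [M_mul, M_mul, hx, tri_conj _ hl (htri l hl) x, mul_assoc, ← M_mul, mul_inv_cancel,
      M_one, mul_one]
  have hnormT : ∀ l : ↥L, M l 0 1 = 0 → (l : G) ∈ Subgroup.normalizer (T : Set G) := by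
    intro l hl
    rw [Subgroup.mem_normalizer_iff]
    intro t
    constructor
    · intro ht
      obtain ⟨s, hs, rfl⟩ := (hTmem t).1 ht
      exact (hTmem _).2 ⟨l * s * l⁻¹, hnormS l hl s hs, rfl⟩
    · intro ht
      obtain ⟨s, hs, hst⟩ := (hTmem _).1 ht
      have h2 := hnormS l⁻¹ (htri_inv l hl) s hs
      refine (hTmem t).2 ⟨l⁻¹ * s * l⁻¹⁻¹, h2, ?_⟩
      show (l : G)⁻¹ * (s : G) * ((l : G)⁻¹)⁻¹ = t
      rw [hst]
      group
  have htorus : ∀ d : F, d ≠ 0 → ∃ l : ↥L, (l : G) ∈ Subgroup.normalizer (T : Set G) ∧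
      ∀ v : ↥V, κ ⟨(l : G) * (v : G) * (l : G)⁻¹, hconjV l v⟩ 0 = d * κ v 0 ∧
        κ ⟨(l : G) * (v : G) * (l : G)⁻¹, hconjV l v⟩ 1 = d⁻¹ * κ v 1 := by
    intro d hd
    obtain ⟨l, hl⟩ := hsurjM !![d, 0; 0, d⁻¹]
      (by rw [Matrix.det_fin_two_of, mul_inv_cancel₀ hd, mul_zero, sub_zero])
    have h01 : M l 0 1 = 0 := by rw [hl]; simp
    refine ⟨l, hnormT l h01, fun v => ?_⟩
    rw [κ_actM, mv0, mv1, hl]
    simp
  refine ⟨?_, ?_, ?_, ?_⟩
  · intro h hhL hhN
    obtain ⟨hl, hhl⟩ : ∃ hl : ↥L, (hl : G) = h := ⟨⟨h, hhL⟩, rfl⟩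
    have hb : M hl⁻¹ 0 1 ≠ 0 := by
      intro h0
      have h1 := htri_inv hl⁻¹ h0
      rw [inv_inv] at h1
      apply hhN
      rw [← hhl]
      exact hnormT hl h1
    have hinvcoe : ((hl⁻¹ : ↥L) : G) = h⁻¹ := by rw [Subgroup.coe_inv, hhl]
    have hC2 : ∀ (c : G) (hc : c ∈ V),
        c ∈ Subgroup.centralizer ((T.map (MulAut.conj h).toMonoidHom : Subgroup G) : Set G) ↔
          M hl⁻¹ 0 0 * κ ⟨c, hc⟩ 0 + M hl⁻¹ 0 1 * κ ⟨c, hc⟩ 1 = 0 := by
      intro c hc
      have hk := κ_actM hl⁻¹ ⟨c, hc⟩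
      have h0 := hcentT _ (hconjV hl⁻¹ ⟨c, hc⟩)
      rw [hk, mv0] at h0
      refine Iff.trans ?_ h0
      have key : ∀ t : G, (t * (((hl⁻¹ : ↥L) : G) * ((⟨c, hc⟩ : ↥V) : G) * ((hl⁻¹ : ↥L) : G)⁻¹) =
          (((hl⁻¹ : ↥L) : G) * ((⟨c, hc⟩ : ↥V) : G) * ((hl⁻¹ : ↥L) : G)⁻¹) * t) ↔
          (h * t * h⁻¹ * c = c * (h * t * h⁻¹)) := by
        intro t
        rw [hinvcoe, inv_inv]
        show t * (h⁻¹ * c * h) = h⁻¹ * c * h * t ↔ _
        constructor
        · intro h2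
          calc h * t * h⁻¹ * c = h * (t * (h⁻¹ * c * h)) * h⁻¹ := by group
            _ = h * (h⁻¹ * c * h * t) * h⁻¹ := by rw [h2]
            _ = c * (h * t * h⁻¹) := by group
        · intro h1
          calc t * (h⁻¹ * c * h) = h⁻¹ * ((h * t * h⁻¹) * c) * h := by group
            _ = h⁻¹ * (c * (h * t * h⁻¹)) * h := by rw [h1]
            _ = h⁻¹ * c * h * t := by group
      rw [Subgroup.mem_centralizer_iff, Subgroup.mem_centralizer_iff]
      constructor
      · intro hcomm t ht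
        exact (key t).2 (hcomm _ (Subgroup.mem_map.2 ⟨t, ht, rfl⟩))
      · intro hcomm u hu
        obtain ⟨t, ht, rfl⟩ := Subgroup.mem_map.1 hu
        exact (key t).1 (hcomm t ht)
    refine ⟨inf_le_left, inf_le_left, ?_, ?_, ?_⟩
    · intro a ha b hb'
      have := hVcomm ⟨a, (Subgroup.mem_inf.1 ha).1⟩ ⟨b, (Subgroup.mem_inf.1 hb').1⟩
      exact congrArg Subtype.val this
    · rw [eq_bot_iff]
      intro c hc
      obtain ⟨hc1, hc2⟩ := Subgroup.mem_inf.1 hc
      obtain ⟨hcV, hcT⟩ := Subgroup.mem_inf.1 hc1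
      have h0 := (hcentT c hcV).1 hcT
      have h1 := (hC2 c hcV).1 (Subgroup.mem_inf.1 hc2).2
      rw [h0, mul_zero, zero_add] at h1
      have h1' : κ ⟨c, hcV⟩ 1 = 0 := by
        rcases mul_eq_zero.1 h1 with h | h
        · exact absurd h hb
        · exact h
      have : (⟨c, hcV⟩ : ↥V) = 1 := κ_eq_one _ h0 h1'
      rw [Subgroup.mem_bot]
      exact congrArg Subtype.val this
    · apply le_antisymm (sup_le inf_le_left inf_le_left)
      intro v hv
      obtain ⟨q, hq⟩ : ∃ q : F, q = M hl⁻¹ 0 0 * κ ⟨v, hv⟩ 0 / M hl⁻¹ 0 1 := ⟨_, rfl⟩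
      have hqb : M hl⁻¹ 0 1 * q = M hl⁻¹ 0 0 * κ ⟨v, hv⟩ 0 := by
        rw [hq]; field_simp
      obtain ⟨c1, hc1⟩ := κ_surj ![0, κ ⟨v, hv⟩ 1 + q]
      obtain ⟨c2, hc2⟩ := κ_surj ![κ ⟨v, hv⟩ 0, - q]
      have c10 : κ c1 0 = 0 := by rw [hc1]; simp
      have c11 : κ c1 1 = κ ⟨v, hv⟩ 1 + q := by rw [hc1]; simp
      have c20 : κ c2 0 = κ ⟨v, hv⟩ 0 := by rw [hc2]; simp
      have c21 : κ c2 1 = - q := by rw [hc2]; simp
      have e : (⟨v, hv⟩ : ↥V) = c1 * c2 := by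
        apply κ_inj
        rw [κ_mul]
        funext i
        revert i
        rw [Fin.forall_fin_two]
        constructor
        · rw [Pi.add_apply, c10, c20, zero_add]
        · rw [Pi.add_apply, c11, c21]; ring
      have e' : v = (c1 : G) * (c2 : G) := congrArg Subtype.val e
      rw [e']
      apply Subgroup.mul_mem_sup
      · exact Subgroup.mem_inf.2 ⟨c1.2, (hcentT _ c1.2).2 c10⟩
      · refine Subgroup.mem_inf.2 ⟨c2.2, (hC2 _ c2.2).2 ?_⟩
        show M hl⁻¹ 0 0 * κ c2 0 + M hl⁻¹ 0 1 * κ c2 1 = 0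
        rw [c20, c21]
        linear_combination -hqb
  · intro x hxL hx1 hcop
    rw [eq_bot_iff]
    intro c hc
    obtain ⟨hcV, hcx⟩ := Subgroup.mem_inf.1 hc
    rw [Subgroup.mem_bot]
    by_contra hc1
    obtain ⟨xl, hxl⟩ : ∃ xl : ↥L, (xl : G) = x := ⟨⟨x, hxL⟩, rfl⟩
    have hfixc : (xl : G) * c * (xl : G)⁻¹ = c := by
      rw [hxl]
      have h := Subgroup.mem_centralizer_singleton_iff.1 hcx
      rw [← h]; group
    have hy := κ_actM xl ⟨c, hcV⟩
    have hw : (⟨(xl : G) * ((⟨c, hcV⟩ : ↥V) : G) * (xl : G)⁻¹, hconjV xl ⟨c, hcV⟩⟩ : ↥V) =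
        ⟨c, hcV⟩ := Subtype.ext hfixc
    rw [hw] at hy
    obtain ⟨y, hy_def⟩ : ∃ y, y = κ ⟨c, hcV⟩ := ⟨_, rfl⟩
    rw [← hy_def] at hy
    have hyne : y 0 ≠ 0 ∨ y 1 ≠ 0 := by
      by_contra hcon
      push_neg at hcon
      apply hc1
      have := κ_eq_one ⟨c, hcV⟩ (by rw [← hy_def]; exact hcon.1) (by rw [← hy_def]; exact hcon.2)
      exact congrArg Subtype.val this
    obtain ⟨N, hN⟩ : ∃ N, N = M xl := ⟨_, rfl⟩
    rw [← hN] at hy
    have hdet : N 0 0 * N 1 1 - N 0 1 * N 1 0 = 1 := by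
      rw [← Matrix.det_fin_two, hN]; exact M_det xl
    have e0 : N 0 0 * y 0 + N 0 1 * y 1 = y 0 := by
      have := congrFun hy 0; rw [mv0] at this; exact this.symm
    have e1 : N 1 0 * y 0 + N 1 1 * y 1 = y 1 := by
      have := congrFun hy 1; rw [mv1] at this; exact this.symm
    have htr : N 0 0 + N 1 1 = 2 := by
      rcases hyne with h | h
      · have h3 : (2 - (N 0 0 + N 1 1)) * y 0 = 0 := by
          linear_combination (N 1 1 - 1) * e0 - N 0 1 * e1 - y 0 * hdet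
        rcases mul_eq_zero.1 h3 with h2 | h2
        · linear_combination -h2
        · exact absurd h2 h
      · have h3 : (2 - (N 0 0 + N 1 1)) * y 1 = 0 := by
          linear_combination (N 0 0 - 1) * e1 - N 1 0 * e0 - y 1 * hdet
        rcases mul_eq_zero.1 h3 with h2 | h2
        · linear_combination -h2
        · exact absurd h2 h
    obtain ⟨E, hE⟩ : ∃ E, E = N - 1 := ⟨_, rfl⟩
    have hE00 : E 0 0 = N 0 0 - 1 := by rw [hE, Matrix.sub_apply, Matrix.one_apply_eq]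
    have hE11 : E 1 1 = N 1 1 - 1 := by rw [hE, Matrix.sub_apply, Matrix.one_apply_eq]
    have hE01 : E 0 1 = N 0 1 := by
      rw [hE, Matrix.sub_apply, Matrix.one_apply_ne (by decide), sub_zero]
    have hE10 : E 1 0 = N 1 0 := by
      rw [hE, Matrix.sub_apply, Matrix.one_apply_ne (by decide), sub_zero]
    have hE2 : E * E = 0 := by
      apply ext2
      · rw [Matrix.mul_apply, Fin.sum_univ_two, Matrix.zero_apply, hE00, hE01, hE10]
        linear_combination N 0 0 * htr - hdet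
      · rw [Matrix.mul_apply, Fin.sum_univ_two, Matrix.zero_apply, hE00, hE01, hE11]
        linear_combination N 0 1 * htr
      · rw [Matrix.mul_apply, Fin.sum_univ_two, Matrix.zero_apply, hE00, hE10, hE11]
        linear_combination N 1 0 * htr
      · rw [Matrix.mul_apply, Fin.sum_univ_two, Matrix.zero_apply, hE01, hE10, hE11]
        linear_combination N 1 1 * htr - hdet
    have hNE : N = 1 + E := by rw [hE]; abel
    have hpow : ∀ k : ℕ, M (xl ^ k) = 1 + (k : F) • E := by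
      intro k
      induction k with
      | zero => rw [pow_zero, M_one, Nat.cast_zero, zero_smul, add_zero]
      | succ k ih =>
        rw [pow_succ, M_mul, ih, ← hN, hNE, mul_add, mul_one, add_mul, one_mul, Matrix.smul_mul,
          hE2, smul_zero, add_zero, Nat.cast_succ, add_smul, one_smul, add_assoc]
    have hk := hpow (orderOf x)
    have hxk : xl ^ orderOf x = 1 := by
      apply Subtype.ext
      rw [Subgroup.coe_pow, hxl, pow_orderOf_eq_one]; rfl
    rw [hxk, M_one] at hk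
    have hk2 : ((orderOf x : ℕ) : F) • E = 0 :=
      add_left_cancel (hk.symm.trans (add_zero 1).symm)
    rcases smul_eq_zero.1 hk2 with h | h
    · have hdvd : p ∣ orderOf x := (CharP.cast_eq_zero_iff F p _).1 h
      have := (Nat.Coprime.symm hcop).eq_one_of_dvd hdvd
      exact hp.one_lt.ne' this
    · apply hx1
      have h2 : xl = 1 := hM1 xl (by rw [← hN, hNE, h, add_zero])
      rw [← hxl, h2]; rfl
  · intro U hUC hUN
    by_cases hU : U = ⊥
    · exact Or.inl hU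
    · right
      apply le_antisymm hUC
      obtain ⟨u, huU, hu1⟩ : ∃ u ∈ U, u ≠ 1 := by
        by_contra hcon
        push_neg at hcon
        exact hU ((Subgroup.eq_bot_iff_forall U).2 hcon)
      obtain ⟨huV, huT⟩ := Subgroup.mem_inf.1 (hUC huU)
      have hu0 := (hcentT u huV).1 huT
      have hz : κ ⟨u, huV⟩ 1 ≠ 0 := by
        intro h
        apply hu1
        have := κ_eq_one ⟨u, huV⟩ hu0 h
        exact congrArg Subtype.val this
      intro c hc
      obtain ⟨hcV, hcT⟩ := Subgroup.mem_inf.1 hc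
      have hc0 := (hcentT c hcV).1 hcT
      by_cases hw : κ ⟨c, hcV⟩ 1 = 0
      · have : (⟨c, hcV⟩ : ↥V) = 1 := κ_eq_one _ hc0 hw
        have hc1 : c = 1 := congrArg Subtype.val this
        rw [hc1]; exact U.one_mem
      · obtain ⟨l, hlN, hlact⟩ := htorus (κ ⟨u, huV⟩ 1 / κ ⟨c, hcV⟩ 1) (div_ne_zero hz hw)
        have hlU : (l : G) ∈ Subgroup.normalizer (U : Set G) :=
          hUN (Subgroup.mem_inf.2 ⟨l.2, hlN⟩)
        have h1 := (Subgroup.mem_normalizer_iff.1 hlU u).1 huU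
        obtain ⟨h0', h1'⟩ := hlact ⟨u, huV⟩
        have : (⟨(l : G) * ((⟨u, huV⟩ : ↥V) : G) * (l : G)⁻¹, hconjV l ⟨u, huV⟩⟩ : ↥V) =
            ⟨c, hcV⟩ := by
          apply κ_inj
          funext i
          revert i
          rw [Fin.forall_fin_two]
          constructor
          · rw [h0', hu0, mul_zero, hc0]
          · rw [h1']; field_simp
        have e : (l : G) * u * (l : G)⁻¹ = c := congrArg Subtype.val this
        rw [← e]; exact h1
  · intro U hCU hUV hUN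
    by_cases hU : U = V ⊓ Subgroup.centralizer (T : Set G)
    · exact Or.inl hU
    · right
      apply le_antisymm hUV
      obtain ⟨u, huU, huC⟩ : ∃ u ∈ U, u ∉ V ⊓ Subgroup.centralizer (T : Set G) := by
        by_contra hcon
        push_neg at hcon
        exact hU (le_antisymm hcon hCU)
      have huV := hUV huU
      have hy0 : κ ⟨u, huV⟩ 0 ≠ 0 :=
        fun h => huC (Subgroup.mem_inf.2 ⟨huV, (hcentT u huV).2 h⟩)
      intro v hv
      by_cases hw : κ ⟨v, hv⟩ 0 = 0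
      · exact hCU (Subgroup.mem_inf.2 ⟨hv, (hcentT v hv).2 hw⟩)
      · obtain ⟨l, hlN, hlact⟩ := htorus (κ ⟨v, hv⟩ 0 / κ ⟨u, huV⟩ 0) (div_ne_zero hw hy0)
        have hlU : (l : G) ∈ Subgroup.normalizer (U : Set G) :=
          hUN (Subgroup.mem_inf.2 ⟨l.2, hlN⟩)
        have h1 := (Subgroup.mem_normalizer_iff.1 hlU u).1 huU
        obtain ⟨h0', h1'⟩ := hlact ⟨u, huV⟩
        obtain ⟨c, hc⟩ := κ_surj
          ![0, κ ⟨v, hv⟩ 1 - (κ ⟨v, hv⟩ 0 / κ ⟨u, huV⟩ 0)⁻¹ * κ ⟨u, huV⟩ 1]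
        have hc0 : κ c 0 = 0 := by rw [hc]; simp
        have hc1 : κ c 1 =
            κ ⟨v, hv⟩ 1 - (κ ⟨v, hv⟩ 0 / κ ⟨u, huV⟩ 0)⁻¹ * κ ⟨u, huV⟩ 1 := by rw [hc]; simp
        have hcU : (c : G) ∈ U := hCU (Subgroup.mem_inf.2 ⟨c.2, (hcentT _ c.2).2 hc0⟩)
        have : (⟨v, hv⟩ : ↥V) =
            ⟨(l : G) * ((⟨u, huV⟩ : ↥V) : G) * (l : G)⁻¹, hconjV l ⟨u, huV⟩⟩ * c := by
          apply κ_inj
          rw [κ_mul]
          funext i
          revert i
          rw [Fin.forall_fin_two]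
          constructor
          · rw [Pi.add_apply, h0', hc0, add_zero]; field_simp
          · rw [Pi.add_apply, h1', hc1]; ring
        have e : v = (l : G) * u * (l : G)⁻¹ * (c : G) := congrArg Subtype.val this
        rw [e]; exact U.mul_mem h1 hcU

end Cfsg.Agent.S2780
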