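import Mathlib
import Cfsg.Statements.S2781
import Cfsg.Agent.Lib.Helper3.Avg
import Cfsg.Agent.Lib.Helper3.PRes
import Cfsg.Agent.Lib.Helper3.Frattini
import Cfsg.Agent.Lib.Helper3.Comp

set_option autoImplicit false
set_option linter.style.haveILetI false
open Cfsg
open Cfsg.Agent.Lib.Helper3
open scoped commutatorElement

namespace Cfsg.Agent.S2781

/-- Let H act faithfully by conjugation on the elementary abelian p-subgroup V of a finite group, let O^p(H) be the subgroup of H generated by its elements of order prime to p, and T a Sylow p-subgroup of O^p(H). If V is generated by the H-conjugates of C_V(T) (V is the smallest H-invariant subgroup containing C_V(T)), then V = [V, O^p(H)]·C_V(O^p(H)). -/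
theorem result {G : Type*} [Group G] [Finite G] {p : ℕ} [Fact p.Prime] (V H : Subgroup G) (hV : Cfsg.IsElementaryAbelian p V) (hHV : H ≤ Subgroup.normalizer (V : Set G)) (hf : H ⊓ Subgroup.centralizer (V : Set G) = ⊥) (R : Subgroup G) (hR : R = (Cfsg.pResidual p ↥H).map H.subtype) (S : Sylow p ↥R) (T : Subgroup G) (hT : T = ((S : Subgroup ↥R).map R.subtype)) (hgen : ∀ W : Subgroup G, H ≤ Subgroup.normalizer (W : Set G) → (V ⊓ Subgroup.centralizer ((T : Subgroup G) : Set G)) ≤ W → V ≤ W) : ⁅V, R⁆ ⊔ (V ⊓ Subgroup.centralizer ((R : Subgroup G) : Set G)) = V := by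
  classical
  have hp := (Fact.out : p.Prime)
  obtain ⟨hVcomm, hVexp⟩ := hV
  have hVc : ∀ a ∈ V, ∀ b ∈ V, a * b = b * a := by
    intro a ha b hb
    have := hVcomm.is_comm.comm (⟨a, ha⟩ : ↥V) ⟨b, hb⟩
    exact congrArg Subtype.val this
  have hRH : R ≤ H := by rw [hR]; exact Subgroup.map_subtype_le _
  have hHVc : ∀ h ∈ H, ∀ x ∈ V, h * x * h⁻¹ ∈ V := by
    intro h hh x hx
    exact conj_mem_of_mem_normalizer (hHV hh) hx
  have hRV : ∀ r ∈ R, ∀ x ∈ V, r * x * r⁻¹ ∈ V := fun r hr x hx => hHVc r (hRH hr) x hx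
  have hHR : ∀ h ∈ H, ∀ x ∈ R, h * x * h⁻¹ ∈ R := by
    intro h hh x hx
    rw [hR] at hx ⊢
    obtain ⟨y, hy, rfl⟩ := hx
    have hn := pRes_normal p ↥H
    exact ⟨(⟨h, hh⟩ : ↥H) * y * (⟨h, hh⟩ : ↥H)⁻¹, hn.conj_mem y hy _, rfl⟩
  have hTR : T ≤ R := by rw [hT]; exact Subgroup.map_subtype_le _
  have hidx : ¬ p ∣ T.relIndex R := by
    have h1 : T.subgroupOf R = (S : Subgroup ↥R) := by
      rw [hT]; exact Subgroup.comap_map_eq_self_of_injective (Subgroup.subtype_injective R) _
    show ¬ p ∣ (T.subgroupOf R).index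
    rw [h1]; exact S.not_dvd_index
  have hWV : ⁅V, R⁆ ≤ V := by
    rw [Subgroup.commutator_le]
    intro a ha r hr
    have : ⁅a, r⁆ = a * (r * a⁻¹ * r⁻¹) := by rw [commutatorElement_def]; group
    rw [this]; exact V.mul_mem ha (hRV r hr _ (V.inv_mem ha))
  apply le_antisymm
  · exact sup_le hWV inf_le_left
  · apply hgen
    · intro h hh
      apply mem_normalizer_of_map_conj_le
      rw [Subgroup.map_sup]
      apply sup_le_sup
      · rw [Subgroup.map_commutator]
        apply Subgroup.commutator_mono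
        · rintro _ ⟨x, hx, rfl⟩
          exact hHVc h hh x hx
        · rintro _ ⟨x, hx, rfl⟩
          exact hHR h hh x hx
      · rintro _ ⟨x, hx, rfl⟩
        obtain ⟨hxV, hxC⟩ := Subgroup.mem_inf.mp hx
        refine Subgroup.mem_inf.mpr ⟨hHVc h hh x hxV, ?_⟩
        rw [Subgroup.mem_centralizer_iff]
        intro r hr
        have hr' : h⁻¹ * r * h ∈ R := by
          have := hHR h⁻¹ (H.inv_mem hh) r hr
          rwa [inv_inv] at this
        have h1 := Subgroup.mem_centralizer_iff.mp hxC _ hr'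
        show r * (h * x * h⁻¹) = h * x * h⁻¹ * r
        calc r * (h * x * h⁻¹) = h * (h⁻¹ * r * h * x) * h⁻¹ := by group
          _ = h * (x * (h⁻¹ * r * h)) * h⁻¹ := by rw [h1]
          _ = h * x * h⁻¹ * r := by group
    · intro v hv
      obtain ⟨hvV, hvT⟩ := Subgroup.mem_inf.mp hv
      have := mem_sup_of_avg (p := p) V R T hVc hRV v hvV
        (fun t ht => (Subgroup.mem_centralizer_iff.mp hvT t ht)) (hVexp v hvV) hidx
      rw [sup_comm]; exact this

end Cfsg.Agent.S2781
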