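import Mathlib
import Cfsg.Statements.S2791
import Cfsg.Agent.Lib.Helper5.SCFusion

set_option autoImplicit false
open Cfsg

namespace Cfsg.Agent.S2791

open Cfsg.Agent.Lib.Helper5

theorem result {G : Type*} [Group G] [Finite G] {p : ℕ} [Fact p.Prime] (S : Sylow p G) (A : Subgroup G) (hA : IsMulCommutative ↥A) (hsc : Cfsg.IsStronglyClosed A (S : Subgroup G)) : Cfsg.ControlsStrongFusion p A := by
  classical
  have hA' : ∀ a ∈ A, ∀ b ∈ A, a * b = b * a := by
    intro a ha b hb
    have := mul_comm' (⟨a, ha⟩ : A) ⟨b, hb⟩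
    exact congrArg Subtype.val this
  have hmain := sc_controls S A hA' hsc
  refine ⟨S, hsc.1, ?_⟩
  intro B hB
  refine ⟨hB, ?_⟩
  intro g hg
  have hcl : Subgroup.closure B ≤ (S : Subgroup G) := (Subgroup.closure_le _).2 hB
  have hconj : ∀ b ∈ Subgroup.closure B, g * b * g⁻¹ ∈ (S : Subgroup G) := by
    have : Subgroup.closure B ≤ (S : Subgroup G).comap (MulAut.conj g).toMonoidHom := by
      rw [Subgroup.closure_le]
      intro b hb
      show g * b * g⁻¹ ∈ (S : Subgroup G)
      exact hg ⟨b, hb, rfl⟩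
    intro b hb
    exact this hb
  obtain ⟨y, hy, hy'⟩ := hmain (Subgroup.closure B) hcl g hconj
  exact ⟨y, hy, fun a ha => (hy' a (Subgroup.subset_closure ha)).symm⟩

end Cfsg.Agent.S2791
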