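import Mathlib
import Cfsg.Statements.S2804
import Cfsg.Agent.Lib.Helper3.SubnRes
import Cfsg.Agent.Lib.Helper3.SylPre
import Cfsg.Agent.Lib.Helper3.Subn
import Cfsg.Agent.Lib.Helper3.Comp

set_option autoImplicit false
set_option linter.style.haveILetI false
open Cfsg
open Cfsg.Agent.Lib.Helper3
open scoped commutatorElement

namespace Cfsg.Agent.S2804

/-- Let L be a finite group and p a prime with C_L(O_p(L)) ≤ O_p(L), V a p-reduced normal subgroup of L and K a subnormal subgroup of L. Then [V, O^p(K)] is contained in K and is a p-reduced normal subgroup of K, where O^p(K) is the subgroup of K generated by its elements of order prime to p. -/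
theorem result {L : Type*} [Group L] [Finite L] {p : ℕ} [Fact p.Prime] (hchar : Subgroup.centralizer (Cfsg.pCore p L : Set L) ≤ Cfsg.pCore p L) (V : Subgroup L) (hV : Cfsg.IsPReducedNormal p V) (K : Subgroup L) (hK : K.IsSubnormal) : ⁅V, (Cfsg.pResidual p ↥K).map K.subtype⁆ ≤ K ∧ Cfsg.IsPReducedNormal p ((⁅V, (Cfsg.pResidual p ↥K).map K.subtype⁆).subgroupOf K) := by
  classical
  have hp := (Fact.out : p.Prime)
  obtain ⟨hVn, ⟨hVcomm, hVexp⟩, hCn, hcore⟩ := hV
  haveI := hVn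
  have hVc : ∀ a ∈ V, ∀ b ∈ V, a * b = b * a := by
    intro a ha b hb
    have := hVcomm.is_comm.comm (⟨a, ha⟩ : ↥V) ⟨b, hb⟩
    exact congrArg Subtype.val this
  have hVp : IsPGroup p V := by
    rintro ⟨x, hx⟩
    refine ⟨1, Subtype.ext ?_⟩
    simpa using hVexp x hx
  obtain ⟨R, hRdef⟩ : ∃ R : Subgroup L, R = (Cfsg.pResidual p ↥K).map K.subtype := ⟨_, rfl⟩
  rw [← hRdef]
  have hRres : R = pResOf p K := by rw [hRdef]; exact map_pRes_eq p K
  have hRK : R ≤ K := by rw [hRdef]; exact Subgroup.map_subtype_le _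
  have hVR : V ≤ Subgroup.normalizer (R : Set L) := by
    rw [hRres]; exact normal_pgroup_le_normalizer_pResOf K V hK hVn hVp
  have hWR : ⁅V, R⁆ ≤ R := by
    rw [Subgroup.commutator_le]
    intro v hv r hr
    have : ⁅v, r⁆ = (v * r * v⁻¹) * r⁻¹ := by rw [commutatorElement_def]
    rw [this]; exact R.mul_mem (conj_mem_of_mem_normalizer (hVR hv) hr) (R.inv_mem hr)
  have hWK0 : ⁅V, R⁆ ≤ K := hWR.trans hRK
  have hWV0 : ⁅V, R⁆ ≤ V := Subgroup.commutator_le_left V R
  refine ⟨hWK0, ?_⟩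
  obtain ⟨W, hWdef⟩ : ∃ W : Subgroup L, W = ⁅V, R⁆ := ⟨_, rfl⟩
  rw [← hWdef] at hWK0 hWV0 ⊢
  have hKR : ∀ k ∈ K, ∀ x ∈ R, k * x * k⁻¹ ∈ R := by
    intro k hk x hx; rw [hRres] at hx ⊢; exact pResOf_conj_mem p K hk hx
  have hKW : ∀ k ∈ K, ∀ x ∈ W, k * x * k⁻¹ ∈ W := by
    intro k hk x hx
    have h1 : W.map (MulAut.conj k).toMonoidHom ≤ W := by
      rw [hWdef, Subgroup.map_commutator]
      apply Subgroup.commutator_mono
      · rintro _ ⟨y, hy, rfl⟩; exact hVn.conj_mem y hy k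
      · rintro _ ⟨y, hy, rfl⟩; exact hKR k hk y hy
    exact h1 ⟨x, hx, rfl⟩
  have hW'n : (W.subgroupOf K).Normal := ⟨fun x hx k => by
    rw [Subgroup.mem_subgroupOf] at hx ⊢
    exact hKW k.1 k.2 x.1 hx⟩
  have hW'e : Cfsg.IsElementaryAbelian p (W.subgroupOf K) := by
    refine ⟨⟨⟨fun a b => ?_⟩⟩, ?_⟩
    · apply Subtype.ext; apply Subtype.ext
      exact hVc _ (hWV0 (Subgroup.mem_subgroupOf.mp a.2)) _ (hWV0 (Subgroup.mem_subgroupOf.mp b.2))
    · intro a ha
      apply Subtype.ext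
      have := hVexp a.1 (hWV0 (Subgroup.mem_subgroupOf.mp ha))
      simpa using this
  haveI := hW'n
  have hC'n : (Subgroup.centralizer ((W.subgroupOf K : Subgroup ↥K) : Set ↥K)).Normal :=
    Subgroup.normal_centralizer
  refine ⟨hW'n, hW'e, hC'n, ?_⟩
  obtain ⟨C', hC'def⟩ : ∃ C' : Subgroup ↥K,
      C' = Subgroup.centralizer ((W.subgroupOf K : Subgroup ↥K) : Set ↥K) := ⟨_, rfl⟩
  have hC'nn : C'.Normal := by rw [hC'def]; exact hC'n
  obtain ⟨D', hD'def⟩ : ∃ D' : Subgroup ↥K,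
      D' = (Cfsg.pCore p (↥K ⧸ C')).comap (QuotientGroup.mk' C') := ⟨_, rfl⟩
  have hD'n : D'.Normal := by
    rw [hD'def]
    have : (Cfsg.pCore p (↥K ⧸ C')).Normal := pCore_normal' p
    exact this.comap _
  have hD'pow : ∀ x ∈ D', ∃ k : ℕ, x ^ (p ^ k) ∈ C' := by
    intro x hx
    rw [hD'def] at hx
    exact exists_pow_mem_of_mem_comap_pCore C' hx
  obtain ⟨CV, hCVdef⟩ : ∃ CV : Subgroup L, CV = Subgroup.centralizer (V : Set L) := ⟨_, rfl⟩
  have hCVn : CV.Normal := by rw [hCVdef]; exact hCn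
  have hstep : ∀ g : ↥K, g ∈ D' → (orderOf g).Coprime p → (g : L) ∈ CV := by
    intro g hgD hgcop
    obtain ⟨k, hk⟩ := hD'pow g hgD
    have hq : (QuotientGroup.mk' C' g) ^ (p ^ k) = 1 := by
      rw [← map_pow]; exact (QuotientGroup.eq_one_iff _).mpr hk
    have hd1 : orderOf (QuotientGroup.mk' C' g) ∣ p ^ k := orderOf_dvd_of_pow_eq_one hq
    have hd2 : orderOf (QuotientGroup.mk' C' g) ∣ orderOf g := orderOf_map_dvd _ g
    have hcop : Nat.Coprime (orderOf g) (p ^ k) := Nat.Coprime.pow_right k hgcop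
    have hone : orderOf (QuotientGroup.mk' C' g) = 1 :=
      Nat.dvd_one.mp (hcop ▸ Nat.dvd_gcd hd2 hd1)
    have hgC' : g ∈ C' := (QuotientGroup.eq_one_iff g).mp (orderOf_eq_one_iff.mp hone)
    have hgW : ∀ w ∈ W, w * (g : L) = (g : L) * w := by
      intro w hw
      have h1 : (⟨w, hWK0 hw⟩ : ↥K) ∈ W.subgroupOf K := Subgroup.mem_subgroupOf.mpr hw
      rw [hC'def] at hgC'
      have := Subgroup.mem_centralizer_iff.mp hgC' _ h1
      exact congrArg Subtype.val this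
    have hgR : (g : L) ∈ R := by
      rw [hRdef]; exact ⟨g, Subgroup.subset_closure hgcop, rfl⟩
    rw [hCVdef, Subgroup.mem_centralizer_iff]
    intro v hv
    obtain ⟨w, hw⟩ : ∃ w, w = v⁻¹ * ((g : L) * v * (g : L)⁻¹) := ⟨_, rfl⟩
    have hwW : w ∈ W := by
      rw [hWdef, hw]
      have : v⁻¹ * ((g : L) * v * (g : L)⁻¹) = ⁅v⁻¹, (g : L)⁆ := by
        rw [commutatorElement_def]; group
      rw [this]; exact Subgroup.commutator_mem_commutator (V.inv_mem hv) hgR
    have hgv : (g : L) * v * (g : L)⁻¹ = v * w := by rw [hw]; group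
    have hgw : (g : L) * w * (g : L)⁻¹ = w := by
      rw [← hgW w hwW]; group
    have hpow : ∀ j : ℕ, (g : L) ^ j * v * ((g : L) ^ j)⁻¹ = v * w ^ j := by
      intro j
      induction j with
      | zero => simp
      | succ j ih =>
        calc (g : L) ^ (j + 1) * v * ((g : L) ^ (j + 1))⁻¹
            = (g : L) * ((g : L) ^ j * v * ((g : L) ^ j)⁻¹) * (g : L)⁻¹ := by
              rw [pow_succ']; group
          _ = (g : L) * (v * w ^ j) * (g : L)⁻¹ := by rw [ih]
          _ = ((g : L) * v * (g : L)⁻¹) * ((g : L) * w ^ j * (g : L)⁻¹) := by group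
          _ = v * w * w ^ j := by rw [← conj_pow, hgv, hgw]
          _ = v * w ^ (j + 1) := by rw [pow_succ']; group
    have h1 := hpow (orderOf (g : L))
    rw [pow_orderOf_eq_one, one_mul, inv_one, mul_one] at h1
    have hwj : w ^ orderOf (g : L) = 1 := by
      have := h1.symm
      exact mul_eq_left.mp this
    have hwp : w ^ p = 1 := hVexp w (hWV0 hwW)
    have hcop' : Nat.Coprime (orderOf (g : L)) p := by
      rw [Subgroup.orderOf_coe]; exact hgcop
    have hw1 : w = 1 := by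
      have hd1 : orderOf w ∣ orderOf (g : L) := orderOf_dvd_of_pow_eq_one hwj
      have hd2 : orderOf w ∣ p := orderOf_dvd_of_pow_eq_one hwp
      exact orderOf_eq_one_iff.mp (Nat.dvd_one.mp (hcop' ▸ Nat.dvd_gcd hd1 hd2))
    rw [hw1, mul_one] at hgv
    calc v * (g : L) = ((g : L) * v * (g : L)⁻¹) * (g : L) := by rw [hgv]
      _ = (g : L) * v := by group
  have hDpow : ∀ d : ↥K, d ∈ D' → ∃ k : ℕ, ((d : L)) ^ (p ^ k) ∈ CV := by
    intro d hd
    obtain ⟨k, hk⟩ := pow_mem_pRes p (⟨d, hd⟩ : ↥D')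
    refine ⟨k, ?_⟩
    have hle : Cfsg.pResidual p ↥D' ≤ (CV.comap K.subtype).comap D'.subtype := by
      unfold Cfsg.pResidual
      rw [Subgroup.closure_le]
      intro g hg
      have hgcop : (orderOf g).Coprime p := hg
      show ((g : ↥K) : L) ∈ CV
      apply hstep g.1 g.2
      rw [Subgroup.orderOf_coe]
      exact hgcop
    have h3 := hle hk
    have h4 : ((((⟨d, hd⟩ : ↥D') ^ p ^ k : ↥D') : ↥K) : L) ∈ CV := h3
    simpa using h4
  have hDsn : (D'.map K.subtype).IsSubnormal :=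
    Subgroup.IsSubnormal.trans' (Subgroup.Normal.isSubnormal hD'n) hK
  have hDbar_sn : ((D'.map K.subtype).map (QuotientGroup.mk' CV)).IsSubnormal :=
    hDsn.map (QuotientGroup.mk'_surjective CV)
  have hDbar_p : IsPGroup p ((D'.map K.subtype).map (QuotientGroup.mk' CV)) := by
    rintro ⟨y, hy⟩
    obtain ⟨x, ⟨d, hd, rfl⟩, rfl⟩ := hy
    obtain ⟨k, hk⟩ := hDpow d hd
    refine ⟨k, Subtype.ext ?_⟩
    show (QuotientGroup.mk' CV (K.subtype d)) ^ (p ^ k) = 1
    rw [← map_pow]; exact (QuotientGroup.eq_one_iff _).mpr hk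
  have hDbar_le := subnormal_pgroup_le_pCore p hDbar_sn hDbar_p
  have hcore' : Cfsg.pCore p (L ⧸ CV) = ⊥ := by subst hCVdef; exact hcore
  rw [hcore'] at hDbar_le
  have hDCV : ∀ d : ↥K, d ∈ D' → (d : L) ∈ CV := by
    intro d hd
    have : QuotientGroup.mk' CV (d : L) ∈ (⊥ : Subgroup (L ⧸ CV)) :=
      hDbar_le ⟨(d : L), ⟨d, hd, rfl⟩, rfl⟩
    rw [Subgroup.mem_bot] at this
    exact (QuotientGroup.eq_one_iff _).mp this
  have hD'C' : D' ≤ C' := by
    intro d hd
    rw [hC'def, Subgroup.mem_centralizer_iff]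
    intro w hw
    apply Subtype.ext
    have h1 := hDCV d hd
    rw [hCVdef] at h1
    exact Subgroup.mem_centralizer_iff.mp h1 (w : L) (hWV0 (Subgroup.mem_subgroupOf.mp hw))
  have hfinal : Cfsg.pCore p (↥K ⧸ C') = ⊥ := by
    rw [eq_bot_iff]
    intro y hy
    obtain ⟨x, rfl⟩ := QuotientGroup.mk_surjective y
    have hxD : x ∈ D' := by rw [hD'def]; exact hy
    rw [Subgroup.mem_bot]
    exact (QuotientGroup.eq_one_iff x).mpr (hD'C' hxD)
  subst hC'def
  exact hfinal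

end Cfsg.Agent.S2804
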