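import Cfsg.Statements.S2809
import Cfsg.Agent.Lib.Helper5.Coprime

set_option autoImplicit false
open Cfsg

namespace Cfsg.Agent.S2809

open scoped commutatorElement

theorem result {H : Type*} [Group H] [Finite H] {p : ℕ} [Fact p.Prime] (R : Subgroup H) (hR : IsPGroup p ↥R) (hC : Subgroup.centralizer (R : Set H) ≤ R) (L : Subgroup H) (hL : L ≤ Subgroup.normalizer (R : Set H)) (hnil : ∃ n : ℕ, Cfsg.iterCommutator R L n = ⊥) : IsPGroup p ↥L := by
  obtain ⟨n, hn⟩ := hnil
  have hle : ∀ i, Cfsg.iterCommutator R L i ≤ R := by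
    intro i
    induction i with
    | zero => exact le_rfl
    | succ i ih =>
      show ⁅Cfsg.iterCommutator R L i, L⁆ ≤ R
      rw [Subgroup.commutator_le]
      intro a ha b hb
      have ha' := ih ha
      have hb' := hL hb
      have h1 : b * a⁻¹ * b⁻¹ ∈ R := (Subgroup.mem_normalizer_iff.mp hb' a⁻¹).mp (R.inv_mem ha')
      have h2 : ⁅a, b⁆ = a * (b * a⁻¹ * b⁻¹) := by rw [commutatorElement_def]; group
      rw [h2]
      exact R.mul_mem ha' h1
  apply Cfsg.Agent.Lib.Helper5.isPGroup_of_coprime_trivial L (fun g _ => isOfFinOrder_of_finite g)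
  intro x hxL _ hxc
  have key : ∀ j i, i + j = n → ∀ r ∈ Cfsg.iterCommutator R L i, x * r = r * x := by
    intro j
    induction j with
    | zero =>
      intro i hi r hr
      have : i = n := by omega
      rw [this, hn, Subgroup.mem_bot] at hr
      rw [hr]; simp
    | succ j ih =>
      intro i hi r hr
      have ih' := ih (i + 1) (by omega)
      have hc : r⁻¹ * (x * r * x⁻¹) ∈ Cfsg.iterCommutator R L (i + 1) := by
        show r⁻¹ * (x * r * x⁻¹) ∈ ⁅Cfsg.iterCommutator R L i, L⁆
        have h3 : r⁻¹ * (x * r * x⁻¹) = ⁅r⁻¹, x⁆ := by rw [commutatorElement_def]; group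
        rw [h3]
        exact Subgroup.commutator_mem_commutator (Subgroup.inv_mem _ hr) hxL
      have hcp : ∃ k : ℕ, (r⁻¹ * (x * r * x⁻¹)) ^ p ^ k = 1 := by
        obtain ⟨k, hk⟩ := hR ⟨_, hle _ hc⟩
        refine ⟨k, ?_⟩
        have := congrArg Subtype.val hk
        simpa using this
      have h1 : x * r * x⁻¹ = r * (r⁻¹ * (x * r * x⁻¹)) := by group
      have hc1 := Cfsg.Agent.Lib.Helper5.eq_one_of_coprime_conj x r _ hxc hcp (ih' _ hc) h1
      rw [hc1, mul_one] at h1
      calc x * r = x * r * x⁻¹ * x := by group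
        _ = r * x := by rw [h1]
  have hxR : x ∈ Subgroup.centralizer (R : Set H) := by
    rw [Subgroup.mem_centralizer_iff]
    intro r hr
    exact (key n 0 (by omega) r hr).symm
  have hxR' := hC hxR
  apply Cfsg.Agent.Lib.Helper5.pelement_coprime_eq_one x hxc
  obtain ⟨k, hk⟩ := hR ⟨x, hxR'⟩
  refine ⟨k, ?_⟩
  have := congrArg Subtype.val hk
  simpa using this

end Cfsg.Agent.S2809
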