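import Cfsg.Statements.S2810
import Cfsg.Agent.Lib.Helper5.Coprime
import Cfsg.Agent.Lib.Helper5.PCore

set_option autoImplicit false
open Cfsg

namespace Cfsg.Agent.S2810

open scoped commutatorElement

theorem result {H : Type*} [Group H] [Finite H] {p : ℕ} [Fact p.Prime] (hchar : Subgroup.centralizer (Cfsg.pCore p H : Set H) ≤ Cfsg.pCore p H) (L : Subgroup H) (n : ℕ) (A : Fin (n + 1) → Subgroup H) (h0 : A 0 = ⊥) (hn : A (Fin.last n) = Cfsg.pCore p H) (hmono : Monotone A) (hnorm : ∀ i, (A i).Normal) (hcent : ∀ i : Fin n, ⁅A i.succ, L⁆ ≤ A i.castSucc) : L ≤ Cfsg.pCore p H := by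
  have hpc : IsPGroup p (Cfsg.pCore p H) := Cfsg.Agent.Lib.Helper5.isPGroup_pCore p H
  have hAp : ∀ i, IsPGroup p (A i) := by
    intro i
    apply hpc.to_le
    rw [← hn]
    exact hmono (Fin.le_last i)
  have hN : ∀ g ∈ Subgroup.normalClosure (L : Set H), ∀ i : Fin n, ∀ a ∈ A i.succ,
      ⁅a, g⁆ ∈ A i.castSucc := by
    intro g hg
    unfold Subgroup.normalClosure at hg
    induction hg using Subgroup.closure_induction with
    | mem g hg =>
      intro i a ha
      rw [Group.mem_conjugatesOfSet_iff] at hg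
      obtain ⟨l, hl, hconj⟩ := hg
      rw [isConj_iff] at hconj
      obtain ⟨h, rfl⟩ := hconj
      have h1 : h⁻¹ * a * h ∈ A i.succ := by
        have := (hnorm i.succ).conj_mem a ha h⁻¹
        simpa using this
      have h2 : ⁅h⁻¹ * a * h, l⁆ ∈ A i.castSucc :=
        hcent i (Subgroup.commutator_mem_commutator h1 hl)
      have h3 : ⁅a, h * l * h⁻¹⁆ = h * ⁅h⁻¹ * a * h, l⁆ * h⁻¹ := by
        simp only [commutatorElement_def]; group
      rw [h3]
      exact (hnorm i.castSucc).conj_mem _ h2 h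
    | one =>
      intro i a ha
      simp [commutatorElement_def]
    | mul g h _ _ ihg ihh =>
      intro i a ha
      have h3 : ⁅a, g * h⁆ = ⁅a, g⁆ * (g * ⁅a, h⁆ * g⁻¹) := by
        simp only [commutatorElement_def]; group
      rw [h3]
      exact (A i.castSucc).mul_mem (ihg i a ha) ((hnorm i.castSucc).conj_mem _ (ihh i a ha) g)
    | inv g _ ihg =>
      intro i a ha
      have h3 : ⁅a, g⁻¹⁆ = g⁻¹ * (⁅a, g⁆)⁻¹ * g⁻¹⁻¹ := by
        simp only [commutatorElement_def]; group
      rw [h3]
      exact (hnorm i.castSucc).conj_mem _ ((A i.castSucc).inv_mem (ihg i a ha)) g⁻¹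
  have hNp : IsPGroup p (Subgroup.normalClosure (L : Set H)) := by
    apply Cfsg.Agent.Lib.Helper5.isPGroup_of_coprime_trivial _ (fun g _ => isOfFinOrder_of_finite g)
    intro x hxN _ hxc
    have key : ∀ i : Fin (n + 1), ∀ r ∈ A i, x * r = r * x := by
      intro i
      induction i using Fin.induction with
      | zero =>
        intro r hr
        rw [h0, Subgroup.mem_bot] at hr
        rw [hr]; simp
      | succ i ih =>
        apply Cfsg.Agent.Lib.Helper5.coprime_centralizes_step x hxc (A i.succ) (A i.castSucc) (hAp _) ih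
        intro r hr
        have h3 : r⁻¹ * (x * r * x⁻¹) = ⁅r⁻¹, x⁆ := by rw [commutatorElement_def]; group
        rw [h3]
        exact hN x hxN i r⁻¹ ((A i.succ).inv_mem hr)
    have hxC : x ∈ Subgroup.centralizer (Cfsg.pCore p H : Set H) := by
      rw [Subgroup.mem_centralizer_iff]
      intro r hr
      rw [SetLike.mem_coe, ← hn] at hr
      exact (key _ r hr).symm
    exact Cfsg.Agent.Lib.Helper5.pelement_coprime_eq_one x hxc
      (Cfsg.Agent.Lib.Helper5.isPGroup_mem_pow _ hpc x (hchar hxC))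
  exact (Subgroup.le_normalClosure).trans
    (Cfsg.Agent.Lib.Helper5.le_pCore _ Subgroup.normalClosure_normal hNp)

end Cfsg.Agent.S2810
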