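import Cfsg.Statements.S2813
import Cfsg.Agent.Lib.Helper5.Coprime
import Cfsg.Agent.Lib.Helper5.PCore

set_option autoImplicit false
open Cfsg

namespace Cfsg.Agent.S2813

open scoped commutatorElement

theorem result {H : Type*} [Group H] [Finite H] {p : ℕ} [Fact p.Prime] (K : Subgroup H) (hO : Cfsg.pCore p ↥K = ⊥) (Y : Subgroup H) (hY : IsPGroup p ↥Y) (hYK : Y ≤ Subgroup.normalizer (K : Set H)) (hq : ⁅⁅K, Y⁆, Y⁆ = ⊥) : ⁅K, Y⁆ = ⊥ := by
  set N : Subgroup H := ⁅K, Y⁆ with hNdef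
  have hNK : N ≤ K := by
    rw [hNdef, Subgroup.commutator_le]
    intro k hk y hy
    have h1 : y * k⁻¹ * y⁻¹ ∈ K := (Subgroup.mem_normalizer_iff.mp (hYK hy) k⁻¹).mp (K.inv_mem hk)
    have h2 : ⁅k, y⁆ = k * (y * k⁻¹ * y⁻¹) := by rw [commutatorElement_def]; group
    rw [h2]
    exact K.mul_mem hk h1
  have hYN : ∀ n ∈ N, ∀ y ∈ Y, y * n = n * y := by
    intro n hn y hy
    have h1 : ⁅n, y⁆ ∈ ⁅N, Y⁆ := Subgroup.commutator_mem_commutator hn hy
    rw [hq, Subgroup.mem_bot, commutatorElement_def] at h1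
    have h2 : n * y = (n * y * n⁻¹ * y⁻¹) * (y * n) := by group
    rw [h2, h1, one_mul]
  have hconj : ∀ k ∈ K, ∀ n ∈ N, k * n * k⁻¹ ∈ N := by
    intro k hk n hn
    rw [hNdef] at hn
    unfold Bracket.bracket Subgroup.commutator at hn
    simp only at hn
    induction hn using Subgroup.closure_induction with
    | mem g hg =>
      obtain ⟨k', hk', y, hy, rfl⟩ := hg
      have h3 : k * ⁅k', y⁆ * k⁻¹ = ⁅k * k', y⁆ * (⁅k, y⁆)⁻¹ := by
        simp only [commutatorElement_def]; group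
      rw [h3]
      exact N.mul_mem (Subgroup.commutator_mem_commutator (K.mul_mem hk hk') hy)
        (N.inv_mem (Subgroup.commutator_mem_commutator hk hy))
    | one => simp
    | mul a b _ _ iha ihb =>
      have : k * (a * b) * k⁻¹ = (k * a * k⁻¹) * (k * b * k⁻¹) := by group
      rw [this]
      exact N.mul_mem iha ihb
    | inv a _ iha =>
      have : k * a⁻¹ * k⁻¹ = (k * a * k⁻¹)⁻¹ := by group
      rw [this]
      exact N.inv_mem iha
  have hNcomm : ∀ a ∈ N, ∀ b ∈ N, a * b = b * a := by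
    have h1 : ⁅⁅Y, N⁆, K⁆ = ⊥ := by
      have : ⁅Y, N⁆ = ⊥ := by rw [Subgroup.commutator_comm]; exact hq
      rw [this, Subgroup.commutator_bot_left]
    have h2 : ⁅⁅N, K⁆, Y⁆ = ⊥ := by
      rw [eq_bot_iff, ← hq]
      apply Subgroup.commutator_mono _ le_rfl
      rw [Subgroup.commutator_le]
      intro n hn k hk
      have h3 : ⁅n, k⁆ = n * (k * n⁻¹ * k⁻¹) := by rw [commutatorElement_def]; group
      rw [h3]
      exact N.mul_mem hn (hconj k hk _ (N.inv_mem hn))
    have h3 := Subgroup.commutator_commutator_eq_bot_of_rotate h1 h2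
    intro a ha b hb
    have h4 : ⁅a, b⁆ ∈ ⁅⁅K, Y⁆, N⁆ := Subgroup.commutator_mem_commutator ha hb
    rw [h3, Subgroup.mem_bot, commutatorElement_def] at h4
    have h5 : a * b = (a * b * a⁻¹ * b⁻¹) * (b * a) := by group
    rw [h5, h4, one_mul]
  have hNp : ∀ n ∈ N, ∃ j : ℕ, n ^ p ^ j = 1 := by
    intro n hn
    have hn' := hn
    rw [hNdef] at hn'
    unfold Bracket.bracket Subgroup.commutator at hn'
    simp only at hn'
    have hsub : {g | ∃ g₁ ∈ K, ∃ g₂ ∈ Y, ⁅g₁, g₂⁆ = g} ⊆ (N : Set H) := by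
      rintro _ ⟨k, hk, y, hy, rfl⟩
      exact Subgroup.commutator_mem_commutator hk hy
    have hcl : ∀ g ∈ Subgroup.closure {g | ∃ g₁ ∈ K, ∃ g₂ ∈ Y, ⁅g₁, g₂⁆ = g}, g ∈ N ∧ ∃ j : ℕ, g ^ p ^ j = 1 := by
      intro g hg
      induction hg using Subgroup.closure_induction with
      | mem g hg =>
        refine ⟨hsub hg, ?_⟩
        obtain ⟨k, hk, y, hy, rfl⟩ := hg
        obtain ⟨j, hj⟩ := Cfsg.Agent.Lib.Helper5.isPGroup_mem_pow Y hY y hy
        refine ⟨j, ?_⟩
        have hc : ⁅k, y⁆ ∈ N := Subgroup.commutator_mem_commutator hk hy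
        have hcy : Commute (⁅k, y⁆) y := (hYN _ hc y hy).symm
        have h6 : k * y * k⁻¹ = ⁅k, y⁆ * y := by rw [commutatorElement_def]; group
        have h7 : (k * y * k⁻¹) ^ p ^ j = 1 := by
          rw [conj_pow, hj]; group
        rw [h6, hcy.mul_pow, hj, mul_one] at h7
        exact h7
      | one => exact ⟨N.one_mem, 0, by simp⟩
      | mul a b _ _ iha ihb =>
        obtain ⟨haN, ja, hja⟩ := iha
        obtain ⟨hbN, jb, hjb⟩ := ihb
        refine ⟨N.mul_mem haN hbN, ja + jb, ?_⟩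
        have hab : Commute a b := hNcomm a haN b hbN
        rw [hab.mul_pow, pow_add, pow_mul, hja, one_pow, mul_comm (p ^ ja), pow_mul, hjb, one_pow, one_mul]
      | inv a _ iha =>
        obtain ⟨haN, ja, hja⟩ := iha
        exact ⟨N.inv_mem haN, ja, by rw [inv_pow, hja, inv_one]⟩
    exact (hcl n hn').2
  have hsubn : (N.subgroupOf K).Normal := by
    constructor
    intro n hn k
    rw [Subgroup.mem_subgroupOf] at hn ⊢
    simpa using hconj k.1 k.2 n.1 hn
  have hsubp : IsPGroup p (N.subgroupOf K) := by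
    rintro ⟨n, hn⟩
    rw [Subgroup.mem_subgroupOf] at hn
    obtain ⟨j, hj⟩ := hNp _ hn
    refine ⟨j, ?_⟩
    apply Subtype.ext
    apply Subtype.ext
    simpa using hj
  have hle := Cfsg.Agent.Lib.Helper5.le_pCore _ hsubn hsubp
  rw [hO, le_bot_iff, Subgroup.subgroupOf_eq_bot] at hle
  exact disjoint_of_le_iff_left_eq_bot hNK |>.mp hle

end Cfsg.Agent.S2813
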