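import Cfsg.Statements.S2814
import Cfsg.Agent.Lib.Helper5.SubnClosure
import Cfsg.Agent.Lib.Helper5.YL2

set_option autoImplicit false
open Cfsg

namespace Cfsg.Agent.S2814

open Cfsg.Agent.Lib.Helper5
open scoped commutatorElement

theorem result {H : Type*} [Group H] [Finite H] {p : ℕ} [Fact p.Prime] (A : Subgroup H) (K : Subgroup H) (hK : K = Cfsg.subnormalClosure A) : (Subgroup.normalClosure ((A.subgroupOf K : Subgroup ↥K) : Set ↥K)).map K.subtype = K ∧ Subgroup.normalizer (A : Set H) ≤ Subgroup.normalizer (K : Set H) ∧ A ⊔ (Cfsg.pResidual p ↥K).map K.subtype = K ∧ (IsPGroup p ↥A → ⁅(Cfsg.pResidual p ↥K).map K.subtype, A⁆ = (Cfsg.pResidual p ↥K).map K.subtype) := by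
  have hKsn : K.IsSubnormal := hK ▸ subnormalClosure_isSubnormal A
  have hAK : A ≤ K := hK ▸ le_subnormalClosure A
  have hmin : ∀ S : Subgroup H, A ≤ S → S.IsSubnormal → K ≤ S :=
    fun S hAS hS => hK ▸ subnormalClosure_le A S hAS hS
  have hDK : (Cfsg.pResidual p ↥K).map K.subtype ≤ K := Subgroup.map_subtype_le _
  -- (3)
  have h3 : A ⊔ (Cfsg.pResidual p ↥K).map K.subtype = K := by
    apply le_antisymm (sup_le hAK hDK)
    exact hmin _ le_sup_left (isSubnormal_sup_pResidual A K hAK hKsn)
  refine ⟨?_, ?_, h3, ?_⟩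
  · -- (1)
    apply le_antisymm (Subgroup.map_subtype_le _)
    apply hmin
    · intro a ha
      exact ⟨⟨a, hAK ha⟩, Subgroup.subset_normalClosure (by
        show (⟨a, hAK ha⟩ : ↥K) ∈ A.subgroupOf K
        rw [Subgroup.mem_subgroupOf]; exact ha), rfl⟩
    · exact Subgroup.IsSubnormal.trans' (Subgroup.normalClosure_normal.isSubnormal) hKsn
  · -- (2)
    have key : ∀ n ∈ Subgroup.normalizer (A : Set H), K ≤ K.map (MulAut.conj n).toMonoidHom := by
      intro n hn
      apply hmin
      · have h1 : A.map (MulAut.conj n).toMonoidHom = A := (mem_normalizer_iff_map_conj A n).mp hn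
        rw [← h1]
        exact Subgroup.map_mono hAK
      · exact hKsn.map (MulAut.conj n).surjective
    intro n hn
    apply mem_normalizer_of_map_conj_le
    · have := Subgroup.map_mono (f := (MulAut.conj n).toMonoidHom)
        (key n⁻¹ (Subgroup.inv_mem _ hn))
      rwa [map_conj_conj_inv] at this
    · have := Subgroup.map_mono (f := (MulAut.conj n⁻¹).toMonoidHom) (key n hn)
      rwa [map_conj_inv_conj] at this
  · -- (4)
    intro hAp
    obtain ⟨D, hDdef⟩ : ∃ D : Subgroup H, D = (Cfsg.pResidual p ↥K).map K.subtype := ⟨_, rfl⟩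
    rw [← hDdef] at h3 hDK ⊢
    have hDn : K ≤ Subgroup.normalizer (D : Set H) := by
      haveI := Cfsg.Agent.Lib.Helper3.pRes_normal p ↥K
      rw [hDdef]
      rw [← Subgroup.normal_subgroupOf_iff_le_normalizer (Subgroup.map_subtype_le _)]
      have : ((Cfsg.pResidual p ↥K).map K.subtype).subgroupOf K = Cfsg.pResidual p ↥K :=
        Subgroup.comap_map_eq_self_of_injective K.subtype_injective _
      rw [this]
      infer_instance
    have hED : ⁅D, A⁆ ≤ D := by
      rw [Subgroup.commutator_le]
      intro d hd a ha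
      have h5 : a * d⁻¹ * a⁻¹ ∈ D :=
        (Subgroup.mem_normalizer_iff.mp (hDn (hAK ha)) _).mp (D.inv_mem hd)
      have h6 : ⁅d, a⁆ = d * (a * d⁻¹ * a⁻¹) := by rw [commutatorElement_def]; group
      rw [h6]
      exact D.mul_mem hd h5
    apply le_antisymm hED
    -- E := ⁅D, A⁆ normalized by K
    have hKE : K ≤ Subgroup.normalizer ((⁅D, A⁆ : Subgroup H) : Set H) := by
      rw [← h3, sup_comm]
      exact sup_le (Subgroup.normalizer_commutator_ge_left D A)
        (Subgroup.normalizer_commutator_ge_right D A)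
    -- A ⊔ E normalized by K
    have hKAE : K ≤ Subgroup.normalizer ((A ⊔ ⁅D, A⁆ : Subgroup H) : Set H) := by
      rw [← h3]
      apply sup_le
      · exact (le_sup_left : A ≤ A ⊔ ⁅D, A⁆).trans Subgroup.le_normalizer
      · intro d hd
        have hdK : d ∈ K := hDK hd
        have key2 : ∀ d' ∈ D, (A ⊔ ⁅D, A⁆).map (MulAut.conj d').toMonoidHom ≤ A ⊔ ⁅D, A⁆ := by
          intro d' hd'
          rw [Subgroup.map_sup]
          apply sup_le
          · rintro _ ⟨a, ha, rfl⟩
            simp only [MulEquiv.toMonoidHom_eq_coe, MonoidHom.coe_coe, MulAut.conj_apply]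
            have h7 : d' * a * d'⁻¹ = ⁅d', a⁆ * a := by rw [commutatorElement_def]; group
            rw [h7]
            exact Subgroup.mul_mem _
              (Subgroup.mem_sup_right (Subgroup.commutator_mem_commutator hd' ha))
              (Subgroup.mem_sup_left ha)
          · have h8 := (mem_normalizer_iff_map_conj _ d').mp (hKE (hDK hd'))
            rw [h8]
            exact le_sup_right
        exact mem_normalizer_of_map_conj_le _ d (key2 d hd) (key2 d⁻¹ (D.inv_mem hd))
    have hAE : A ⊔ ⁅D, A⁆ = K := by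
      apply le_antisymm (sup_le hAK (hED.trans hDK))
      exact hmin _ le_sup_left
        (isSubnormal_of_le_normalizer _ K (sup_le hAK (hED.trans hDK)) hKsn hKAE)
    -- every p'-element of K lies in E
    have hEK : ⁅D, A⁆ ≤ K := hED.trans hDK
    haveI hEn : ((⁅D, A⁆ : Subgroup H).subgroupOf K).Normal :=
      (Subgroup.normal_subgroupOf_iff_le_normalizer hEK).mpr hKE
    have hquot : IsPGroup p (↥K ⧸ (⁅D, A⁆ : Subgroup H).subgroupOf K) := by
      -- image of A
      have hsurj : Function.Surjective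
          ((QuotientGroup.mk' ((⁅D, A⁆ : Subgroup H).subgroupOf K)).comp
            (Subgroup.inclusion hAK)) := by
        intro x
        obtain ⟨k, rfl⟩ := QuotientGroup.mk_surjective x
        have hk : (k : H) ∈ A ⊔ ⁅D, A⁆ := by rw [hAE]; exact k.2
        have hnorm : ⁅D, A⁆ ≤ Subgroup.normalizer (A : Set H) → True := fun _ => trivial
        obtain ⟨a, ha, e, he, hke⟩ := (mem_sup_of_le_normalizer A _
          (Subgroup.normalizer_commutator_ge_right D A) (k : H)).mp hk
        refine ⟨⟨a, ha⟩, ?_⟩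
        simp only [MonoidHom.coe_comp, Function.comp_apply, QuotientGroup.mk'_apply]
        rw [QuotientGroup.eq]
        rw [Subgroup.mem_subgroupOf]
        simp only [Subgroup.coe_mul, Subgroup.coe_inv, Subgroup.coe_inclusion]
        rw [hke]
        have : a⁻¹ * (a * e) = e := by group
        rw [this]
        exact he
      exact hAp.of_surjective _ hsurj
    intro y hy
    rw [hDdef] at hy
    obtain ⟨x, hx, rfl⟩ := hy
    have hxE : x ∈ (⁅D, A⁆ : Subgroup H).subgroupOf K := by
      revert hx x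
      show Cfsg.pResidual p ↥K ≤ (⁅D, A⁆ : Subgroup H).subgroupOf K
      unfold Cfsg.pResidual
      rw [Subgroup.closure_le]
      intro x hx
      have hx' : (orderOf x).Coprime p := hx
      rw [SetLike.mem_coe, ← QuotientGroup.eq_one_iff]
      obtain ⟨k, hk⟩ := hquot (QuotientGroup.mk x)
      have h9 : orderOf (QuotientGroup.mk x : ↥K ⧸ (⁅D, A⁆ : Subgroup H).subgroupOf K) ∣ p ^ k :=
        orderOf_dvd_of_pow_eq_one hk
      have h10 : orderOf (QuotientGroup.mk x : ↥K ⧸ (⁅D, A⁆ : Subgroup H).subgroupOf K) ∣ orderOf x :=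
        orderOf_map_dvd (QuotientGroup.mk' _) x
      have h11 : orderOf (QuotientGroup.mk x : ↥K ⧸ (⁅D, A⁆ : Subgroup H).subgroupOf K) = 1 :=
        Nat.eq_one_of_dvd_coprimes (Nat.Coprime.pow_right k hx') h10 h9
      exact orderOf_eq_one_iff.mp h11
    exact Subgroup.mem_subgroupOf.mp hxE

end Cfsg.Agent.S2814
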