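import Cfsg.Statements.S2818
import Cfsg.Agent.Lib.Helper5.Frattini

set_option autoImplicit false
open Cfsg

namespace Cfsg.Agent.S2818

open scoped commutatorElement

theorem result {G : Type*} [Group G] [Finite G] {p : ℕ} [Fact p.Prime] (P : Subgroup G) (hP : IsPGroup p ↥P) (H : Subgroup G) (hH : H ≤ Subgroup.normalizer (P : Set G)) (h : ⁅P, H⁆ ≤ Cfsg.omegaOne p (P ⊓ Subgroup.centralizer (P : Set G))) : ⁅(frattini ↥P).map P.subtype, H⁆ = ⊥ := by
  have hp : p.Prime := Fact.out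
  set Z : Subgroup G := Cfsg.omegaOne p (P ⊓ Subgroup.centralizer (P : Set G)) with hZdef
  have hZle : Z ≤ P ⊓ Subgroup.centralizer (P : Set G) := by
    rw [hZdef]
    unfold Cfsg.omegaOne
    rw [Subgroup.closure_le]
    intro x hx
    exact hx.1
  have hZcomm : ∀ z ∈ Z, ∀ x ∈ P, z * x = x * z := by
    intro z hz x hx
    have : z ∈ Subgroup.centralizer (P : Set G) := (hZle hz).2
    rw [Subgroup.mem_centralizer_iff] at this
    exact (this x hx).symm
  have hZexp : ∀ z ∈ Z, z ^ p = 1 := by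
    intro z hz
    have hz' := hz
    rw [hZdef] at hz'
    unfold Cfsg.omegaOne at hz'
    have hcl : ∀ g ∈ Subgroup.closure {x : G | x ∈ P ⊓ Subgroup.centralizer (P : Set G) ∧ x ^ p = 1},
        g ∈ Z ∧ g ^ p = 1 := by
      intro g hg
      induction hg using Subgroup.closure_induction with
      | mem g hg => exact ⟨Subgroup.subset_closure hg, hg.2⟩
      | one => exact ⟨Z.one_mem, one_pow _⟩
      | mul a b _ _ iha ihb =>
        refine ⟨Z.mul_mem iha.1 ihb.1, ?_⟩
        have hab : Commute a b := hZcomm a iha.1 b (hZle ihb.1).1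
        rw [hab.mul_pow, iha.2, ihb.2, one_mul]
      | inv a _ iha =>
        exact ⟨Z.inv_mem iha.1, by rw [inv_pow, iha.2, inv_one]⟩
    exact (hcl z hz').2
  have hmem : ∀ h' ∈ H, ∀ x : ↥P, (x : G)⁻¹ * (h' * x * h'⁻¹) ∈ Z := by
    intro h' hh' x
    have h3 : (x : G)⁻¹ * (h' * x * h'⁻¹) = ⁅(x : G)⁻¹, h'⁆ := by
      rw [commutatorElement_def]; group
    rw [h3]
    exact h (Subgroup.commutator_mem_commutator (P.inv_mem x.2) hh')
  rw [eq_bot_iff, Subgroup.commutator_le]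
  intro g hg h' hh'
  obtain ⟨g', hg', rfl⟩ := hg
  let φ : ↥P →* ↥Z := MonoidHom.mk' (fun x => ⟨(x : G)⁻¹ * (h' * x * h'⁻¹), hmem h' hh' x⟩) (by
    intro a b
    apply Subtype.ext
    simp only [Subgroup.coe_mul]
    have hc := hZcomm _ (hmem h' hh' a) (b : G)⁻¹ (P.inv_mem b.2)
    calc ((a : G) * (b : G))⁻¹ * (h' * ((a : G) * (b : G)) * h'⁻¹)
        = (b : G)⁻¹ * ((a : G)⁻¹ * (h' * a * h'⁻¹)) * (h' * b * h'⁻¹) := by group
      _ = ((a : G)⁻¹ * (h' * a * h'⁻¹)) * (b : G)⁻¹ * (h' * b * h'⁻¹) := by rw [← hc]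
      _ = (a : G)⁻¹ * (h' * a * h'⁻¹) * ((b : G)⁻¹ * (h' * b * h'⁻¹)) := by group)
  have hker : frattini ↥P ≤ φ.ker := by
    apply Cfsg.Agent.Lib.Helper5.frattini_le_ker_of_elem_abelian hp φ
    · intro a b
      apply Subtype.ext
      simp only [Subgroup.coe_mul]
      exact hZcomm a a.2 b (hZle b.2).1
    · intro a
      apply Subtype.ext
      simpa using hZexp a a.2
  have h5 := hker hg'
  rw [MonoidHom.mem_ker] at h5
  have h6 : (g' : G)⁻¹ * (h' * g' * h'⁻¹) = 1 := by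
    have := congrArg Subtype.val h5
    simpa [φ] using this
  rw [Subgroup.mem_bot, commutatorElement_def]
  have h7 : h' * g' * h'⁻¹ = g' := by
    have := congrArg (fun t => (g' : G) * t) h6
    simpa using this
  calc P.subtype g' * h' * (P.subtype g')⁻¹ * h'⁻¹
      = (g' : G) * (h' * g' * h'⁻¹)⁻¹ := by simp only [Subgroup.coe_subtype]; group
    _ = 1 := by rw [h7]; group

end Cfsg.Agent.S2818
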