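import Mathlib
import Cfsg.Statements.S2819
import Cfsg.Agent.Lib.Helper3.Transport
import Cfsg.Agent.Lib.Helper5.Frattini

set_option autoImplicit false
open Cfsg

namespace Cfsg.Agent.S2819

theorem result {G : Type*} [Group G] [Finite G] {p : ℕ} [Fact p.Prime] (P : Subgroup G) (hP : IsPGroup p ↥P) (H : Subgroup G) (hH : H ≤ Subgroup.normalizer (P : Set G)) (Y : Subgroup G) (hYH : Y ≤ H) (hYc : Y ≤ Subgroup.centralizer ((⁅P, P⁆ : Subgroup G) : Set G)) (hel : Cfsg.IsElementaryAbelian p ⁅P, Y⁆) (NY : Subgroup G) (hNY : NY = (Subgroup.normalClosure ((Y.subgroupOf H : Subgroup ↥H) : Set ↥H)).map H.subtype) : (Cfsg.pResidual p ↥NY).map NY.subtype ≤ Subgroup.centralizer (((frattini ↥P).map P.subtype : Subgroup G) : Set G) := by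
  classical
  have hp : p.Prime := Fact.out
  obtain ⟨Φ, hΦdef⟩ : ∃ Φ : Subgroup G, Φ = (frattini ↥P).map P.subtype := ⟨_, rfl⟩
  obtain ⟨D, hDdef⟩ : ∃ D : Subgroup G, D = ⁅P, P⁆ := ⟨_, rfl⟩
  rw [← hΦdef]
  have hD' : D = (commutator ↥P).map P.subtype := by rw [hDdef, Subgroup.map_subtype_commutator]
  have hΦP : Φ ≤ P := by rw [hΦdef]; exact Subgroup.map_subtype_le _
  have hDP : D ≤ P := by rw [hD']; exact Subgroup.map_subtype_le _
  haveI : (commutator ↥P).Characteristic := Subgroup.commutator_characteristic ⊤ ⊤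
  have hNΦ : Subgroup.normalizer (P : Set G) ≤ Subgroup.normalizer (Φ : Set G) := by
    rw [hΦdef]; exact Cfsg.Agent.Lib.Helper3.normalizer_le_normalizer_map_char P (frattini ↥P)
  have hND : Subgroup.normalizer (P : Set G) ≤ Subgroup.normalizer (D : Set G) := by
    rw [hD']; exact Cfsg.Agent.Lib.Helper3.normalizer_le_normalizer_map_char P (commutator ↥P)
  -- the stabilizer of the chain Φ ≥ D ≥ 1
  let K : Subgroup G :=
    { carrier := {g | (∀ x ∈ Φ, g * x * g⁻¹ * x⁻¹ ∈ D) ∧ (∀ a ∈ D, g * a * g⁻¹ = a)}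
      one_mem' := ⟨fun x _ => by rw [one_mul, inv_one, mul_one, mul_inv_cancel]; exact D.one_mem,
        fun a _ => by rw [one_mul, inv_one, mul_one]⟩
      mul_mem' := by
        rintro g g' ⟨h1, h2⟩ ⟨h1', h2'⟩
        refine ⟨fun x hx => ?_, fun a ha => ?_⟩
        · have e : (g * g') * x * (g * g')⁻¹ * x⁻¹ =
              (g * (g' * x * g'⁻¹ * x⁻¹) * g⁻¹) * (g * x * g⁻¹ * x⁻¹) := by group
          rw [e, h2 _ (h1' x hx)]
          exact D.mul_mem (h1' x hx) (h1 x hx)
        · have e : (g * g') * a * (g * g')⁻¹ = g * (g' * a * g'⁻¹) * g⁻¹ := by group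
          rw [e, h2' a ha, h2 a ha]
      inv_mem' := by
        rintro g ⟨h1, h2⟩
        have h2i : ∀ a ∈ D, g⁻¹ * a * g⁻¹⁻¹ = a := by
          intro a ha
          have := h2 a ha
          calc g⁻¹ * a * g⁻¹⁻¹ = g⁻¹ * (g * a * g⁻¹) * g := by rw [this, inv_inv]
            _ = a := by group
        refine ⟨fun x hx => ?_, h2i⟩
        have e : g⁻¹ * x * g⁻¹⁻¹ * x⁻¹ = g⁻¹ * (g * x * g⁻¹ * x⁻¹)⁻¹ * g⁻¹⁻¹ := by group
        rw [e, h2i _ (D.inv_mem (h1 x hx))]
        exact D.inv_mem (h1 x hx) }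
  have hKmem : ∀ g : G, g ∈ K ↔ (∀ x ∈ Φ, g * x * g⁻¹ * x⁻¹ ∈ D) ∧ (∀ a ∈ D, g * a * g⁻¹ = a) :=
    fun g => Iff.rfl
  -- Y ≤ K
  have hYK : Y ≤ K := by
    intro y hy
    have hyN : y ∈ Subgroup.normalizer (P : Set G) := hH (hYH hy)
    rw [hKmem]
    have hcent : ∀ a ∈ D, y * a * y⁻¹ = a := by
      intro a ha
      have := (Subgroup.mem_centralizer_iff.mp (hYc hy)) a (by rw [← hDdef]; exact ha)
      rw [← this, mul_inv_cancel_right]
    refine ⟨?_, hcent⟩
    -- the commutator map into the abelianization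
    let σ : ↥P ≃* ↥P := Cfsg.Agent.Lib.Helper3.normAut P y hyN
    let φ : ↥P →* Abelianization ↥P := MonoidHom.mk'
      (fun x => Abelianization.of (σ x * x⁻¹)) (by
        intro x z
        simp only [map_mul, mul_inv_rev]
        rw [mul_comm (Abelianization.of z⁻¹) (Abelianization.of x⁻¹)]
        exact mul_mul_mul_comm _ _ _ _)
    have hφexp : ∀ x : ↥P, (φ x) ^ p = 1 := by
      intro x
      show (Abelianization.of (σ x * x⁻¹)) ^ p = 1
      rw [← map_pow]
      have : (σ x * x⁻¹) ^ p = 1 := by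
        apply Subtype.ext
        rw [Subgroup.coe_pow, Subgroup.coe_mul, Subgroup.coe_inv, Subgroup.coe_one,
          Cfsg.Agent.Lib.Helper3.normAut_apply]
        apply hel.2
        rw [Subgroup.commutator_comm]
        have := Subgroup.commutator_mem_commutator hy x.2
        rw [commutatorElement_def] at this
        exact this
      rw [this, map_one]
    have hfr : frattini ↥P ≤ φ.rangeRestrict.ker := by
      apply Cfsg.Agent.Lib.Helper5.frattini_le_ker_of_elem_abelian hp
      · intro a b; exact mul_comm a b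
      · rintro ⟨a, x, rfl⟩
        apply Subtype.ext
        rw [Subgroup.coe_pow, Subgroup.coe_one]
        exact hφexp x
    intro x hx
    rw [hΦdef] at hx
    obtain ⟨x', hx', rfl⟩ := hx
    have h1 := hfr hx'
    rw [MonoidHom.mem_ker] at h1
    have h2 : φ x' = 1 := by
      have := congrArg Subtype.val h1
      simpa using this
    have h3 : σ x' * x'⁻¹ ∈ commutator ↥P := by
      rw [← Abelianization.ker_of, MonoidHom.mem_ker]
      exact h2
    rw [hD']
    exact ⟨σ x' * x'⁻¹, h3, rfl⟩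
  -- K ∩ H is normal in H, so NY ≤ K
  have hNYK : NY ≤ K := by
    rw [hNY, Subgroup.map_le_iff_le_comap]
    haveI : (K.comap H.subtype).Normal := by
      constructor
      intro n hn h
      rw [Subgroup.mem_comap] at hn ⊢
      have hhN : (h : G) ∈ Subgroup.normalizer (P : Set G) := hH h.2
      have hhΦ := hNΦ hhN
      have hhD := hND hhN
      rw [hKmem] at hn ⊢
      obtain ⟨h1, h2⟩ := hn
      simp only [Subgroup.subtype_apply] at h1 h2
      simp only [Subgroup.subtype_apply, Subgroup.coe_mul, Subgroup.coe_inv]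
      refine ⟨fun x hx => ?_, fun a ha => ?_⟩
      · have hx' : (h : G)⁻¹ * x * (h : G) ∈ Φ := (Subgroup.mem_normalizer_iff''.mp hhΦ x).mp hx
        have e : (h : G) * (n : G) * (h : G)⁻¹ * x * ((h : G) * (n : G) * (h : G)⁻¹)⁻¹ * x⁻¹ =
            (h : G) * ((n : G) * ((h : G)⁻¹ * x * (h : G)) * (n : G)⁻¹ * ((h : G)⁻¹ * x * (h : G))⁻¹) * (h : G)⁻¹ := by
          group
        rw [e]
        exact (Subgroup.mem_normalizer_iff.mp hhD _).mp (h1 _ hx')
      · have ha' : (h : G)⁻¹ * a * (h : G) ∈ D := (Subgroup.mem_normalizer_iff''.mp hhD a).mp ha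
        have e : (h : G) * (n : G) * (h : G)⁻¹ * a * ((h : G) * (n : G) * (h : G)⁻¹)⁻¹ =
            (h : G) * ((n : G) * ((h : G)⁻¹ * a * (h : G)) * (n : G)⁻¹) * (h : G)⁻¹ := by
          group
        rw [e, h2 _ ha']
        group
    apply Subgroup.normalClosure_le_normal
    intro y hy
    rw [SetLike.mem_coe, Subgroup.mem_subgroupOf] at hy
    rw [SetLike.mem_coe, Subgroup.mem_comap]
    exact hYK hy
  -- p'-elements of K centralize Φ
  have hcent : ∀ g ∈ K, (orderOf g).Coprime p → g ∈ Subgroup.centralizer (Φ : Set G) := by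
    intro g hg hco
    rw [hKmem] at hg
    obtain ⟨h1, h2⟩ := hg
    rw [Subgroup.mem_centralizer_iff]
    intro x hx
    have hpow : ∀ m : ℕ, g ^ m * x * (g ^ m)⁻¹ = (g * x * g⁻¹ * x⁻¹) ^ m * x := by
      intro m
      induction m with
      | zero => simp
      | succ m ih =>
        have e : g ^ (m + 1) * x * (g ^ (m + 1))⁻¹ = g * (g ^ m * x * (g ^ m)⁻¹) * g⁻¹ := by
          rw [pow_succ']; group
        rw [e, ih]
        have hc : g * (g * x * g⁻¹ * x⁻¹) ^ m = (g * x * g⁻¹ * x⁻¹) ^ m * g := by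
          have h3 := h2 _ (D.pow_mem (h1 x hx) m)
          calc g * (g * x * g⁻¹ * x⁻¹) ^ m = (g * (g * x * g⁻¹ * x⁻¹) ^ m * g⁻¹) * g := by group
            _ = (g * x * g⁻¹ * x⁻¹) ^ m * g := by rw [h3]
        rw [← mul_assoc, hc, pow_succ]
        group
    have hcard : (g * x * g⁻¹ * x⁻¹) ^ Nat.card P = 1 := by
      have hmem : g * x * g⁻¹ * x⁻¹ ∈ P := hDP (h1 x hx)
      have h5 : (⟨_, hmem⟩ : ↥P) ^ Nat.card P = 1 := pow_card_eq_one'
      have h6 := congrArg Subtype.val h5
      rw [Subgroup.coe_pow, Subgroup.coe_one] at h6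
      exact h6
    have hcomm : g ^ Nat.card P * x = x * g ^ Nat.card P := by
      have := hpow (Nat.card P)
      rw [hcard, one_mul] at this
      calc g ^ Nat.card P * x = (g ^ Nat.card P * x * (g ^ Nat.card P)⁻¹) * g ^ Nat.card P := by group
        _ = x * g ^ Nat.card P := by rw [this]
    obtain ⟨k, hk⟩ := hP.exists_card_eq
    have hco' : (Nat.card P).Coprime (orderOf g) := by
      rw [hk]
      exact (Nat.Coprime.pow_right k hco).symm
    obtain ⟨j, hj⟩ := exists_pow_eq_self_of_coprime hco'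
    have : Commute (g ^ Nat.card P) x := hcomm
    have h4 : Commute ((g ^ Nat.card P) ^ j) x := this.pow_left j
    rw [hj] at h4
    exact h4.eq.symm
  rw [Subgroup.map_le_iff_le_comap]
  unfold Cfsg.pResidual
  rw [Subgroup.closure_le]
  intro g hg
  rw [SetLike.mem_coe, Subgroup.mem_comap]
  apply hcent _ (hNYK g.2)
  have : orderOf (g : G) = orderOf g := Subgroup.orderOf_coe g
  rw [this]
  exact hg

end Cfsg.Agent.S2819
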