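import Cfsg.Statements.S2820
import Cfsg.Agent.Lib.Helper5.SubnClosure2

set_option autoImplicit false
open Cfsg

namespace Cfsg.Agent.S2820

open Cfsg.Agent.Lib.Helper5

theorem result {H : Type*} [Group H] [Finite H] {p : ℕ} [Fact p.Prime] (A B : Subgroup H) (hA : A.IsSubnormal) (hB : B.IsSubnormal) (hAp : IsPGroup p ↥A) (hBres : (Cfsg.pResidual p ↥B).map B.subtype = B) : A ≤ Subgroup.normalizer (B : Set H) ∧ (Cfsg.pResidual p ↥(A ⊔ B)).map (A ⊔ B).subtype = B := by
  have hA1 : A ≤ Cfsg.pCore p H := Cfsg.Agent.Lib.Helper3.subnormal_pgroup_le_pCore p hA hAp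
  have hAB : A ≤ Subgroup.normalizer (B : Set H) := by
    have := hA1.trans (pCore_le_normalizer_pResidualOf (p := p) B hB)
    rwa [hBres] at this
  refine ⟨hAB, ?_⟩
  apply le_antisymm
  · rw [pResidualOf_le_iff]
    intro x hx hxc
    exact mem_of_coprime_of_mem_sup B A hAp hAB x hx hxc
  · have := pResidualOf_mono (p := p) B (A ⊔ B) le_sup_right
    rwa [hBres] at this

end Cfsg.Agent.S2820
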