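import Cfsg.Statements.S2821
import Cfsg.Agent.Lib.Helper5.YL
import Cfsg.Agent.Lib.Helper5.SylowLib2
import Cfsg.Agent.Lib.Helper5.Basic

set_option autoImplicit false
open Cfsg

namespace Cfsg.Agent.S2821

theorem result {H : Type*} [Group H] [Finite H] {p : ℕ} [Fact p.Prime] (T : Sylow p H) (L : Subgroup H) (hTL : (T : Subgroup H) ≤ L) (hL : Subgroup.centralizer (Cfsg.pCore p ↥L : Set ↥L) ≤ Cfsg.pCore p ↥L) (T₀ : Subgroup H) (hT₀ : T₀ = (T : Subgroup H) ⊓ Subgroup.centralizer (((Cfsg.largestPReducedOf p L) : Subgroup H) : Set H)) : (∃ P : Sylow p ↥(Subgroup.centralizer (((Cfsg.largestPReducedOf p L) : Subgroup H) : Set H)), (P : Subgroup ↥(Subgroup.centralizer (((Cfsg.largestPReducedOf p L) : Subgroup H) : Set H))) = T₀.subgroupOf (Subgroup.centralizer (((Cfsg.largestPReducedOf p L) : Subgroup H) : Set H))) ∧ (Cfsg.pCoreOf p L) ≤ T₀ ∧ T₀ ≤ L ⊓ Subgroup.centralizer (((Cfsg.largestPReducedOf p L) : Subgroup H) : Set H) ∧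 (Cfsg.omegaOne p ((T : Subgroup H) ⊓ Subgroup.centralizer (((T : Subgroup H) : Subgroup H) : Set H))) ≤ Cfsg.sylowCenterClosure p L ∧ Cfsg.sylowCenterClosure p L ≤ (Cfsg.largestPReducedOf p L) ∧ (Cfsg.largestPReducedOf p L) ≤ (Cfsg.omegaOne p ((Cfsg.pCoreOf p L) ⊓ Subgroup.centralizer (((Cfsg.pCoreOf p L) : Subgroup H) : Set H))) := by
  obtain ⟨hYn, hYe, hYr⟩ := Cfsg.Agent.Lib.Helper5.largestPReducedOf_spec (p := p) L hL
  have hYL : Cfsg.largestPReducedOf p L ≤ L := Cfsg.Agent.Lib.Helper5.largestPReducedOf_le L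
  have hTC : (T : Subgroup H) ≤ Subgroup.normalizer
      ((Subgroup.centralizer (((Cfsg.largestPReducedOf p L) : Subgroup H) : Set H) : Subgroup H) : Set H) :=
    (hTL.trans hYn).trans (Cfsg.Agent.Lib.Helper5.normalizer_le_normalizer_centralizer _)
  refine ⟨?_, ?_, ?_, ?_, ?_, ?_⟩
  · obtain ⟨P, hP⟩ := Cfsg.Agent.Lib.Helper5.exists_sylow_inf_of_le_normalizer T _ hTC
    exact ⟨P, by rw [hP, hT₀]⟩
  · rw [hT₀]
    refine le_inf ?_ (Cfsg.Agent.Lib.Helper5.pCoreOf_le_centralizer_of_pRedOf L _ hYr)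
    have h1 := Cfsg.Agent.Lib.Helper5.pCore_le_sylow (T.subtype hTL)
    rintro _ ⟨d, hd, rfl⟩
    have h2 := h1 hd
    rw [Sylow.coe_subtype] at h2
    exact Subgroup.mem_subgroupOf.mp h2
  · rw [hT₀]
    exact inf_le_inf_right _ hTL
  · unfold Cfsg.sylowCenterClosure
    have h1 : ((T.subtype hTL : Sylow p L) : Subgroup L).map L.subtype = (T : Subgroup H) := by
      rw [Sylow.coe_subtype]
      exact Subgroup.map_subgroupOf_eq_of_le hTL
    have h2 := le_iSup (fun S : Sylow p L => Cfsg.omegaOne p (((S : Subgroup L).map L.subtype) ⊓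
      Subgroup.centralizer (((S : Subgroup L).map L.subtype : Subgroup H) : Set H))) (T.subtype hTL)
    simp only [h1] at h2
    exact h2
  · exact Cfsg.Agent.Lib.Helper5.sylowCenterClosure_le_largestPReducedOf L hL
  · exact Cfsg.Agent.Lib.Helper5.le_omegaOne_center_pCoreOf L _ hYL hYn hYe hYr

end Cfsg.Agent.S2821
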