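import Mathlib
import Cfsg.Statements.S2823
import Cfsg.Agent.Lib.Helper3.Avg
import Cfsg.Agent.Lib.Helper3.PRes
import Cfsg.Agent.Lib.Helper3.Frattini
import Cfsg.Agent.Lib.Helper3.Comp
import Cfsg.Agent.Lib.Helper5.SPE
import Cfsg.Agent.Lib.Helper1.Fitting

set_option autoImplicit false
set_option linter.style.haveILetI false
open Cfsg
open Cfsg.Agent.Lib.Helper3
open scoped commutatorElement

namespace Cfsg.Agent.S2823

/-- Let H be a finite group, p a prime, T a Sylow p-subgroup and L a subgroup of characteristic p containing T; let Z_L be the subgroup generated by the Ω₁(Z(S)) over the Sylow p-subgroups S of L and O^p(L) the subgroup generated by the elements of L of order prime to p. Then Z_L = Ω₁(Z(L))·[Z_L, O^p(L)] and [Z_L, L] = [Z_L, O^p(L)]. -/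
theorem result {H : Type*} [Group H] [Finite H] {p : ℕ} [Fact p.Prime] (T : Sylow p H) (L : Subgroup H) (hTL : (T : Subgroup H) ≤ L) (hL : Subgroup.centralizer (Cfsg.pCore p ↥L : Set ↥L) ≤ Cfsg.pCore p ↥L) : Cfsg.sylowCenterClosure p L = (Cfsg.omegaOne p (L ⊓ Subgroup.centralizer ((L : Subgroup H) : Set H))) ⊔ ⁅Cfsg.sylowCenterClosure p L, (Cfsg.pResidual p ↥L).map L.subtype⁆ ∧ ⁅Cfsg.sylowCenterClosure p L, L⁆ = ⁅Cfsg.sylowCenterClosure p L, (Cfsg.pResidual p ↥L).map L.subtype⁆ := by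
  classical
  have hp := (Fact.out : p.Prime)
  obtain ⟨V, hVdef⟩ : ∃ V : Subgroup H, V = Cfsg.sylowCenterClosure p L := ⟨_, rfl⟩
  obtain ⟨R, hRdef⟩ : ∃ R : Subgroup H, R = (Cfsg.pResidual p ↥L).map L.subtype := ⟨_, rfl⟩
  rw [← hVdef, ← hRdef]
  -- the induction principle
  have hprinc : ∀ K : Subgroup H, (∀ (S : Sylow p ↥L) (x : H),
      x ∈ (S : Subgroup ↥L).map L.subtype →
      x ∈ Subgroup.centralizer ((((S : Subgroup ↥L).map L.subtype : Subgroup H)) : Set H) →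
      x ^ p = 1 → x ∈ K) → V ≤ K := by
    intro K hK
    rw [hVdef]
    unfold Cfsg.sylowCenterClosure
    apply iSup_le
    intro S
    unfold Cfsg.omegaOne
    rw [Subgroup.closure_le]
    rintro x ⟨hx, hxp⟩
    obtain ⟨h1, h2⟩ := Subgroup.mem_inf.mp hx
    exact hK S x h1 h2 hxp
  have hgenV : ∀ (S : Sylow p ↥L) (x : H),
      x ∈ (S : Subgroup ↥L).map L.subtype →
      x ∈ Subgroup.centralizer ((((S : Subgroup ↥L).map L.subtype : Subgroup H)) : Set H) →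
      x ^ p = 1 → x ∈ V := by
    intro S x h1 h2 h3
    rw [hVdef]
    unfold Cfsg.sylowCenterClosure
    refine (le_iSup (fun S : Sylow p ↥L => Cfsg.omegaOne p (((S : Subgroup ↥L).map L.subtype) ⊓
      Subgroup.centralizer (((S : Subgroup ↥L).map L.subtype : Subgroup H) : Set H))) S) ?_
    unfold Cfsg.omegaOne
    exact Subgroup.subset_closure ⟨Subgroup.mem_inf.mpr ⟨h1, h2⟩, h3⟩
  have hVL : V ≤ L := by
    apply hprinc
    intro S x h1 _ _
    exact Subgroup.map_subtype_le _ h1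
  -- V is elementary abelian
  obtain ⟨Q, hQdef⟩ : ∃ Q : Subgroup H, Q = (Cfsg.pCore p ↥L).map L.subtype := ⟨_, rfl⟩
  obtain ⟨Yp, hYp⟩ : ∃ Yp : Subgroup H, ∀ y, y ∈ Yp ↔
      ((y ∈ Q ∧ y ∈ Subgroup.centralizer (Q : Set H)) ∧ y ^ p = 1) := by
    refine ⟨{ carrier := {y | (y ∈ Q ∧ y ∈ Subgroup.centralizer (Q : Set H)) ∧ y ^ p = 1}
              mul_mem' := ?_
              one_mem' := ?_
              inv_mem' := ?_ }, fun y => Iff.rfl⟩
    · rintro a b ⟨⟨ha1, ha2⟩, ha3⟩ ⟨⟨hb1, hb2⟩, hb3⟩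
      refine ⟨⟨Q.mul_mem ha1 hb1, Subgroup.mul_mem _ ha2 hb2⟩, ?_⟩
      have hcomm : Commute a b := Subgroup.mem_centralizer_iff.mp hb2 a ha1
      rw [hcomm.mul_pow, ha3, hb3, one_mul]
    · exact ⟨⟨Q.one_mem, Subgroup.one_mem _⟩, one_pow _⟩
    · rintro a ⟨⟨ha1, ha2⟩, ha3⟩
      exact ⟨⟨Q.inv_mem ha1, Subgroup.inv_mem _ ha2⟩, by rw [inv_pow, ha3, inv_one]⟩
  have hVYp : V ≤ Yp := by
    apply hprinc
    intro S x h1 h2 h3
    rw [hYp]
    have hQS : Q ≤ (S : Subgroup ↥L).map L.subtype := by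
      rw [hQdef]; exact Subgroup.map_mono (Cfsg.Agent.Lib.Helper1.pCore_le_sylow S)
    have hxCQ : x ∈ Subgroup.centralizer (Q : Set H) :=
      Subgroup.centralizer_le (fun q hq => hQS hq) h2
    refine ⟨⟨?_, hxCQ⟩, h3⟩
    obtain ⟨y, hy, rfl⟩ := h1
    rw [hQdef]
    refine ⟨y, hL ?_, rfl⟩
    rw [Subgroup.mem_centralizer_iff]
    intro q hq
    apply Subtype.ext
    have hqQ : (q : H) ∈ Q := by rw [hQdef]; exact ⟨q, hq, rfl⟩
    exact Subgroup.mem_centralizer_iff.mp hxCQ q.1 hqQ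
  have hVc : ∀ a ∈ V, ∀ b ∈ V, a * b = b * a := by
    intro a ha b hb
    have h1 := ((hYp a).mp (hVYp ha)).1.1
    have h2 := ((hYp b).mp (hVYp hb)).1.2
    exact Subgroup.mem_centralizer_iff.mp h2 a h1
  have hVexp : ∀ a ∈ V, a ^ p = 1 := fun a ha => ((hYp a).mp (hVYp ha)).2
  -- conjugation of Sylow subgroups
  have hS2 : ∀ (S : Sylow p ↥L) (l : ↥L) (y : H),
      y ∈ ((l • S : Sylow p ↥L) : Subgroup ↥L).map L.subtype ↔
        (l : H)⁻¹ * y * (l : H) ∈ (S : Subgroup ↥L).map L.subtype := by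
    intro S l y
    rw [Cfsg.Agent.Lib.Helper5.sylow_smul_coe]
    constructor
    · rintro ⟨_, ⟨z, hz, rfl⟩, rfl⟩
      refine ⟨z, hz, ?_⟩
      simp only [MulAut.conj_apply, MulEquiv.coe_toMonoidHom, Subgroup.coe_subtype,
        Subgroup.coe_mul, Subgroup.coe_inv]
      group
    · rintro ⟨z, hz, hzy⟩
      refine ⟨l * z * l⁻¹, ⟨z, hz, by simp [MulAut.conj_apply]⟩, ?_⟩
      simp only [Subgroup.coe_subtype, Subgroup.coe_mul, Subgroup.coe_inv] at hzy ⊢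
      rw [hzy]; group
  have hLV : ∀ l ∈ L, ∀ x ∈ V, l * x * l⁻¹ ∈ V := by
    intro l hl
    have h1 : V ≤ V.comap (MulAut.conj l).toMonoidHom := by
      apply hprinc
      intro S x hx1 hx2 hx3
      rw [Subgroup.mem_comap]
      show (MulAut.conj l) x ∈ V
      rw [MulAut.conj_apply]
      apply hgenV ((⟨l, hl⟩ : ↥L) • S)
      · rw [hS2]
        have : ((⟨l, hl⟩ : ↥L) : H)⁻¹ * (l * x * l⁻¹) * ((⟨l, hl⟩ : ↥L) : H) = x := by
          show l⁻¹ * (l * x * l⁻¹) * l = x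
          group
        rw [this]; exact hx1
      · rw [Subgroup.mem_centralizer_iff]
        intro y hy
        have hy' := (hS2 S ⟨l, hl⟩ y).mp hy
        have h2 := Subgroup.mem_centralizer_iff.mp hx2 _ hy'
        have h2' : l⁻¹ * y * l * x = x * (l⁻¹ * y * l) := h2
        calc y * (l * x * l⁻¹) = l * (l⁻¹ * y * l * x) * l⁻¹ := by group
          _ = l * (x * (l⁻¹ * y * l)) * l⁻¹ := by rw [h2']
          _ = l * x * l⁻¹ * y := by group
      · rw [conj_pow, hx3, mul_one, mul_inv_cancel]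
    intro x hx
    have := h1 hx
    rw [Subgroup.mem_comap] at this
    exact this
  -- L = R S
  have hRL : R ≤ L := by rw [hRdef]; exact Subgroup.map_subtype_le _
  have hF3 : ∀ (S : Sylow p ↥L), ∀ l ∈ L, ∃ r ∈ R, ∃ s ∈ (S : Subgroup ↥L).map L.subtype,
      l = r * s := by
    intro S l hl
    haveI hNn : (Cfsg.pResidual p ↥L).Normal := pRes_normal p ↥L
    have hq : IsPGroup p (↥L ⧸ Cfsg.pResidual p ↥L) := isPGroup_quotient_pRes p ↥L
    obtain ⟨k, hk⟩ := IsPGroup.iff_card.mp hq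
    have hk' : (Cfsg.pResidual p ↥L).index = p ^ k := hk
    have h1 : (Cfsg.pResidual p ↥L ⊔ (S : Subgroup ↥L)).index ∣ p ^ k := by
      rw [← hk']; exact Subgroup.index_dvd_of_le le_sup_left
    have h2 : (Cfsg.pResidual p ↥L ⊔ (S : Subgroup ↥L)).index ∣ (S : Subgroup ↥L).index :=
      Subgroup.index_dvd_of_le le_sup_right
    obtain ⟨j, _, hj⟩ := (Nat.dvd_prime_pow hp).mp h1
    have hj0 : j = 0 := by
      by_contra hne
      exact S.not_dvd_index ((hj ▸ dvd_pow_self p hne).trans h2)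
    rw [hj0, pow_zero, Subgroup.index_eq_one] at hj
    have hl' : (⟨l, hl⟩ : ↥L) ∈ ((Cfsg.pResidual p ↥L ⊔ (S : Subgroup ↥L) : Subgroup ↥L) : Set ↥L) := by
      rw [hj]; trivial
    rw [Subgroup.normal_mul] at hl'
    obtain ⟨n, hn, s, hs, hns⟩ := Set.mem_mul.mp hl'
    refine ⟨n.1, by rw [hRdef]; exact ⟨n, hn, rfl⟩, s.1, ⟨s, hs, rfl⟩, ?_⟩
    have := congrArg Subtype.val hns
    exact this.symm
  have hRV : ∀ r ∈ R, ∀ x ∈ V, r * x * r⁻¹ ∈ V := fun r hr x hx => hLV r (hRL hr) x hx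
  have hWV : ⁅V, R⁆ ≤ V := by
    rw [Subgroup.commutator_le]
    intro a ha r hr
    have : ⁅a, r⁆ = a * (r * a⁻¹ * r⁻¹) := by rw [commutatorElement_def]; group
    rw [this]; exact V.mul_mem ha (hRV r hr _ (V.inv_mem ha))
  -- [V, L] ≤ [V, R]
  obtain ⟨K, hK⟩ : ∃ K : Subgroup H, ∀ x, x ∈ K ↔ (x ∈ V ∧ ∀ l ∈ L, ⁅l, x⁆ ∈ ⁅V, R⁆) := by
    refine ⟨{ carrier := {x | x ∈ V ∧ ∀ l ∈ L, ⁅l, x⁆ ∈ ⁅V, R⁆}
              mul_mem' := ?_
              one_mem' := ?_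
              inv_mem' := ?_ }, fun y => Iff.rfl⟩
    · rintro a b ⟨ha1, ha2⟩ ⟨hb1, hb2⟩
      refine ⟨V.mul_mem ha1 hb1, ?_⟩
      intro l hl
      have h1 : ⁅l, a * b⁆ = ⁅l, a⁆ * (a * ⁅l, b⁆ * a⁻¹) := by
        simp only [commutatorElement_def]; group
      have h2 : a * ⁅l, b⁆ * a⁻¹ = ⁅l, b⁆ := by
        rw [hVc a ha1 _ (hWV (hb2 l hl)), mul_inv_cancel_right]
      rw [h1, h2]
      exact Subgroup.mul_mem _ (ha2 l hl) (hb2 l hl)
    · refine ⟨V.one_mem, fun l _ => ?_⟩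
      rw [commutatorElement_one_right]; exact Subgroup.one_mem _
    · rintro a ⟨ha1, ha2⟩
      refine ⟨V.inv_mem ha1, ?_⟩
      intro l hl
      have h1 : ⁅l, a⁻¹⁆ = a⁻¹ * ⁅l, a⁆⁻¹ * a := by
        simp only [commutatorElement_def]; group
      have hw : ⁅l, a⁆⁻¹ ∈ ⁅V, R⁆ := Subgroup.inv_mem _ (ha2 l hl)
      have h2 : a⁻¹ * ⁅l, a⁆⁻¹ * a = ⁅l, a⁆⁻¹ := by
        rw [hVc a⁻¹ (V.inv_mem ha1) _ (hWV hw), inv_mul_cancel_right]
      rw [h1, h2]; exact hw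
  have hVK : V ≤ K := by
    apply hprinc
    intro S x hx1 hx2 hx3
    rw [hK]
    refine ⟨hgenV S x hx1 hx2 hx3, ?_⟩
    intro l hl
    obtain ⟨r, hr, s, hs, rfl⟩ := hF3 S l hl
    have hsx : s * x = x * s := Subgroup.mem_centralizer_iff.mp hx2 s hs
    have h1 : ⁅r * s, x⁆ = ⁅r, x⁆ := by
      simp only [commutatorElement_def]
      calc r * s * x * (r * s)⁻¹ * x⁻¹ = r * (s * x) * s⁻¹ * r⁻¹ * x⁻¹ := by group
        _ = r * (x * s) * s⁻¹ * r⁻¹ * x⁻¹ := by rw [hsx]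
        _ = r * x * r⁻¹ * x⁻¹ := by group
    rw [h1, Subgroup.commutator_comm]
    exact Subgroup.commutator_mem_commutator hr (hgenV S x hx1 hx2 hx3)
  have hF5 : ⁅V, L⁆ ≤ ⁅V, R⁆ := by
    rw [Subgroup.commutator_le]
    intro a ha l hl
    have h1 := ((hK a).mp (hVK ha)).2 l hl
    rw [← commutatorElement_inv]
    exact Subgroup.inv_mem _ h1
  have hsecond : ⁅V, L⁆ = ⁅V, R⁆ := le_antisymm hF5 (Subgroup.commutator_mono le_rfl hRL)
  refine ⟨?_, hsecond⟩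
  apply le_antisymm
  · apply hprinc
    intro S x hx1 hx2 hx3
    have hidx : ¬ p ∣ ((S : Subgroup ↥L).map L.subtype).relIndex L := by
      have h1 : ((S : Subgroup ↥L).map L.subtype).subgroupOf L = (S : Subgroup ↥L) :=
        Subgroup.comap_map_eq_self_of_injective (Subgroup.subtype_injective L) _
      show ¬ p ∣ (((S : Subgroup ↥L).map L.subtype).subgroupOf L).index
      rw [h1]; exact S.not_dvd_index
    have h1 := mem_sup_of_avg (p := p) V L ((S : Subgroup ↥L).map L.subtype) hVc hLV x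
      (hgenV S x hx1 hx2 hx3) (fun t ht => Subgroup.mem_centralizer_iff.mp hx2 t ht) hx3 hidx
    rw [hsecond] at h1
    have hle : V ⊓ Subgroup.centralizer ((L : Subgroup H) : Set H) ⊔ ⁅V, R⁆ ≤
        Cfsg.omegaOne p (L ⊓ Subgroup.centralizer ((L : Subgroup H) : Set H)) ⊔ ⁅V, R⁆ := by
      refine sup_le_sup ?_ le_rfl
      intro y hy
      obtain ⟨hyV, hyC⟩ := Subgroup.mem_inf.mp hy
      unfold Cfsg.omegaOne
      exact Subgroup.subset_closure ⟨Subgroup.mem_inf.mpr ⟨hVL hyV, hyC⟩, hVexp y hyV⟩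
    exact hle h1
  · refine sup_le ?_ hWV
    unfold Cfsg.omegaOne
    rw [Subgroup.closure_le]
    rintro z ⟨hz, hzp⟩
    obtain ⟨hzL, hzC⟩ := Subgroup.mem_inf.mp hz
    have hzpg : IsPGroup p (Subgroup.zpowers (⟨z, hzL⟩ : ↥L)) := by
      rintro ⟨y, hy⟩
      obtain ⟨k, rfl⟩ := Subgroup.mem_zpowers_iff.mp hy
      refine ⟨1, Subtype.ext ?_⟩
      have hz1 : (⟨z, hzL⟩ : ↥L) ^ p = 1 := Subtype.ext (by simpa using hzp)
      show ((⟨z, hzL⟩ : ↥L) ^ k) ^ (p ^ 1) = 1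
      rw [pow_one, ← zpow_natCast, ← zpow_mul, mul_comm, zpow_mul, zpow_natCast, hz1, one_zpow]
    obtain ⟨S, hS⟩ := hzpg.exists_le_sylow
    have hzS : z ∈ (S : Subgroup ↥L).map L.subtype :=
      ⟨⟨z, hzL⟩, hS (Subgroup.mem_zpowers _), rfl⟩
    have hzCS : z ∈ Subgroup.centralizer ((((S : Subgroup ↥L).map L.subtype : Subgroup H)) : Set H) :=
      Subgroup.centralizer_le (fun q hq => Subgroup.map_subtype_le _ hq) hzC
    exact hgenV S z hzS hzCS hzp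

end Cfsg.Agent.S2823
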