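import Mathlib
import Cfsg.Statements.S2826
import Cfsg.Agent.Lib.Helper3.Avg2
import Cfsg.Agent.Lib.Helper3.PRes
import Cfsg.Agent.Lib.Helper3.SecFusion2

set_option autoImplicit false
set_option linter.style.haveILetI false
open Cfsg
open Cfsg.Agent.Lib.Helper3
open scoped commutatorElement

namespace Cfsg.Agent.S2826

/-- Let H be a finite group of characteristic p, T a Sylow p-subgroup, and V a normal elementary abelian p-subgroup of H containing Ω₁(Z(T)). Then C_H(Ω₁(Z(T))) = C_H([V, O^p(H)] ∩ Ω₁(Z(T))), O^p(H) being generated by the elements of order prime to p. -/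
theorem result {H : Type*} [Group H] [Finite H] {p : ℕ} [Fact p.Prime] (hH : Subgroup.centralizer (Cfsg.pCore p H : Set H) ≤ Cfsg.pCore p H) (T : Sylow p H) (V : Subgroup H) [V.Normal] (hV : Cfsg.IsElementaryAbelian p V) (hZV : (Cfsg.omegaOne p ((T : Subgroup H) ⊓ Subgroup.centralizer (((T : Subgroup H) : Subgroup H) : Set H))) ≤ V) : Subgroup.centralizer ((Cfsg.omegaOne p ((T : Subgroup H) ⊓ Subgroup.centralizer (((T : Subgroup H) : Subgroup H) : Set H))) : Set H) = Subgroup.centralizer (((⁅V, Cfsg.pResidual p H⁆ ⊓ (Cfsg.omegaOne p ((T : Subgroup H) ⊓ Subgroup.centralizer (((T : Subgroup H) : Subgroup H) : Set H)))) : Subgroup H) : Set H) := by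
  classical
  have hp := (Fact.out : p.Prime)
  obtain ⟨hVcomm, hVexp⟩ := hV
  have hVc : ∀ a ∈ V, ∀ b ∈ V, a * b = b * a := by
    intro a ha b hb
    have := hVcomm.is_comm.comm (⟨a, ha⟩ : ↥V) ⟨b, hb⟩
    exact congrArg Subtype.val this
  have hVn : V.Normal := inferInstance
  obtain ⟨R, hRdef⟩ : ∃ R : Subgroup H, R = Cfsg.pResidual p H := ⟨_, rfl⟩
  have hRn : R.Normal := by rw [hRdef]; exact pRes_normal p H
  obtain ⟨Z, hZdef⟩ : ∃ Z : Subgroup H, Z = Cfsg.omegaOne p ((T : Subgroup H) ⊓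
      Subgroup.centralizer (((T : Subgroup H) : Subgroup H) : Set H)) := ⟨_, rfl⟩
  rw [← hZdef] at hZV ⊢
  rw [← hRdef]
  have hVp : IsPGroup p V := by
    rintro ⟨x, hx⟩
    refine ⟨1, Subtype.ext ?_⟩
    simpa using hVexp x hx
  have hVT : V ≤ (T : Subgroup H) := by
    have h1 : IsPGroup p (V ⊔ (T : Subgroup H) : Subgroup H) :=
      IsPGroup.to_sup_of_normal_left hVp T.isPGroup'
    have h2 := T.is_maximal' h1 le_sup_right
    rw [← h2]; exact le_sup_left
  have hWV : ⁅V, R⁆ ≤ V := Subgroup.commutator_le_left V R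
  have hRV : ∀ r ∈ R, ∀ x ∈ V, r * x * r⁻¹ ∈ V := fun r _ x hx => hVn.conj_mem x hx r
  have hNtop : ∀ (A : Subgroup H), A.Normal → ∀ g : H, g ∈ Subgroup.normalizer (A : Set H) := by
    intro A hA g
    haveI := hA
    rw [Subgroup.normalizer_eq_top]; trivial
  have hidx : ¬ p ∣ ((T : Subgroup H) ⊓ R).relIndex R := by
    have hRtop : (⊤ : Subgroup H) ≤ Subgroup.normalizer (R : Set H) := fun g _ => hNtop R hRn g
    exact not_dvd_relIndex_inf (p := p) ⊤ R (T : Subgroup H) le_top hRtop T.isPGroup'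
      (by rw [Subgroup.relIndex_top_right]; exact T.not_dvd_index)
  apply le_antisymm
  · exact Subgroup.centralizer_le (fun x hx => (Subgroup.mem_inf.mp hx).2)
  · intro g hg
    have hZle : Z ≤ Subgroup.centralizer ({g} : Set H) := by
      rw [hZdef]
      unfold Cfsg.omegaOne
      rw [Subgroup.closure_le]
      rintro v ⟨hvT, hvp⟩
      obtain ⟨hvT1, hvT2⟩ := Subgroup.mem_inf.mp hvT
      have hvZ : v ∈ Z := by
        rw [hZdef]; unfold Cfsg.omegaOne
        exact Subgroup.subset_closure ⟨hvT, hvp⟩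
      have hvV : v ∈ V := hZV hvZ
      obtain ⟨u, huV, huR, huw, huinv⟩ := exists_avg_inv V R ((T : Subgroup H) ⊓ R) hVc hRV v hvV
        (fun t ht => Subgroup.mem_centralizer_iff.mp hvT2 t (Subgroup.mem_inf.mp ht).1)
      obtain ⟨n, hn⟩ : ∃ n : ℕ, n = ((T : Subgroup H) ⊓ R).relIndex R := ⟨_, rfl⟩
      rw [← hn] at huw hidx
      have hcop : Nat.Coprime n p := ((Nat.Prime.coprime_iff_not_dvd hp).mpr hidx).symm
      obtain ⟨m, -, hm⟩ := Nat.exists_mul_mod_eq_one_of_coprime hcop hp.one_lt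
      have hvnm : v ^ (n * m) = v := by
        conv_lhs => rw [← Nat.div_add_mod (n * m) p, hm, pow_add, pow_mul, hvp, one_pow, one_mul,
          pow_one]
      -- u is central
      have hucent : ∀ h : H, h * u = u * h := by
        intro h
        obtain ⟨r, hr, s, hs, rfl⟩ := exists_mul_of_pRes_sylow T h
        have h1 : r * u * r⁻¹ = u := huR r (hRdef ▸ hr)
        have hsN : s ∈ Subgroup.normalizer ((((T : Subgroup H) ⊓ R : Subgroup H)) : Set H) := by
          rw [Subgroup.mem_set_normalizer_iff]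
          intro x
          constructor
          · intro hx
            obtain ⟨hx1, hx2⟩ := Subgroup.mem_inf.mp hx
            exact Subgroup.mem_inf.mpr ⟨Subgroup.mul_mem _ (Subgroup.mul_mem _ hs hx1)
              (Subgroup.inv_mem _ hs), hRn.conj_mem x hx2 s⟩
          · intro hx
            obtain ⟨hx1, hx2⟩ := Subgroup.mem_inf.mp hx
            have e : x = s⁻¹ * (s * x * s⁻¹) * s := by group
            rw [e]
            refine Subgroup.mem_inf.mpr ⟨Subgroup.mul_mem _ (Subgroup.mul_mem _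
              (Subgroup.inv_mem _ hs) hx1) hs, ?_⟩
            have := hRn.conj_mem _ hx2 s⁻¹
            rwa [inv_inv] at this
        have hsv : s * v * s⁻¹ = v := by
          have := Subgroup.mem_centralizer_iff.mp hvT2 s hs
          rw [this, mul_inv_cancel_right]
        have h2 : s * u * s⁻¹ = u := huinv s (hNtop R hRn s) hsN (hNtop V hVn s) hsv
        calc r * s * u = r * (s * u * s⁻¹) * s := by group
          _ = r * u * s := by rw [h2]
          _ = (r * u * r⁻¹) * r * s := by group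
          _ = u * (r * s) := by rw [h1]; group
      -- decomposition
      obtain ⟨w₁, hw₁⟩ : ∃ w₁ : H, w₁ = u * (v ^ n)⁻¹ := ⟨_, rfl⟩
      rw [← hw₁] at huw
      have hvn : v ^ n = w₁⁻¹ * u := by rw [hw₁]; group
      have hcomm : Commute w₁⁻¹ u := (hucent w₁⁻¹)
      have hv_eq : v = (w₁⁻¹) ^ m * u ^ m := by
        rw [← hcomm.mul_pow, ← hvn, ← pow_mul, hvnm]
      have hw'W : (w₁⁻¹) ^ m ∈ ⁅V, R⁆ := Subgroup.pow_mem _ (Subgroup.inv_mem _ huw) m
      have hucent' : ∀ h : H, h * u ^ m = u ^ m * h := by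
        intro h
        exact (Commute.pow_right (hucent h) m)
      have hw'eq : (w₁⁻¹) ^ m = v * (u ^ m)⁻¹ := by
        rw [hv_eq]; group
      have hw'Z : (w₁⁻¹) ^ m ∈ Z := by
        rw [hZdef]; unfold Cfsg.omegaOne
        apply Subgroup.subset_closure
        refine ⟨Subgroup.mem_inf.mpr ⟨hVT (hWV hw'W), ?_⟩, hVexp _ (hWV hw'W)⟩
        rw [hw'eq, Subgroup.mem_centralizer_iff]
        intro t ht
        have h1 := Subgroup.mem_centralizer_iff.mp hvT2 t ht
        have h2 : t * (u ^ m)⁻¹ = (u ^ m)⁻¹ * t := by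
          have := hucent' t
          calc t * (u ^ m)⁻¹ = (u ^ m)⁻¹ * (u ^ m * t) * (u ^ m)⁻¹ := by group
            _ = (u ^ m)⁻¹ * (t * u ^ m) * (u ^ m)⁻¹ := by rw [this]
            _ = (u ^ m)⁻¹ * t := by group
        calc t * (v * (u ^ m)⁻¹) = (t * v) * (u ^ m)⁻¹ := by group
          _ = v * (t * (u ^ m)⁻¹) := by rw [h1]; group
          _ = v * (u ^ m)⁻¹ * t := by rw [h2]; group
      have hgw : (w₁⁻¹) ^ m * g = g * (w₁⁻¹) ^ m :=
        Subgroup.mem_centralizer_iff.mp hg _ (Subgroup.mem_inf.mpr ⟨hw'W, hw'Z⟩)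
      rw [SetLike.mem_coe, Subgroup.mem_centralizer_iff]
      intro h hh
      rw [Set.mem_singleton_iff] at hh
      subst hh
      rw [hv_eq]
      calc h * ((w₁⁻¹) ^ m * u ^ m) = (h * (w₁⁻¹) ^ m) * u ^ m := by group
        _ = (w₁⁻¹) ^ m * (h * u ^ m) := by rw [← hgw]; group
        _ = (w₁⁻¹) ^ m * u ^ m * h := by rw [hucent' h]; group
    rw [Subgroup.mem_centralizer_iff]
    intro z hz
    have := Subgroup.mem_centralizer_iff.mp (hZle hz) g (Set.mem_singleton g)
    exact this.symm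

end Cfsg.Agent.S2826
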