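import Cfsg.Statements.S2827
import Cfsg.Agent.Lib.Helper5.PIrr
import Cfsg.Agent.Lib.Helper5.WC3

set_option autoImplicit false
open Cfsg

namespace Cfsg.Agent.S2827

open Cfsg.Agent.Lib.Helper5
open scoped commutatorElement

theorem result {H : Type*} [Group H] [Finite H] {p : ℕ} [Fact p.Prime] (hH : Cfsg.IsPIrreducible p H) (T : Sylow p H) : Subgroup.normalClosure ((T : Subgroup H) : Set H) = ⊤ ∧ commutator H ⊔ (T : Subgroup H) = ⊤ ∧ Cfsg.pResidual p H ≤ commutator H ∧ ∀ Y : Subgroup H, Y ≤ (T : Subgroup H) → (T : Subgroup H) ≤ Subgroup.normalizer (Y : Set H) → ¬ Y ≤ Cfsg.pCore p H → ⁅Cfsg.pResidual p H, Y⁆ = Cfsg.pResidual p H ∧ Cfsg.pResidual p H ≤ Subgroup.normalClosure (Y : Set H) := by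
  have hTp : IsPGroup p (T : Subgroup H) := T.isPGroup'
  haveI hDn : (Cfsg.pResidual p H).Normal := Cfsg.Agent.Lib.Helper3.pRes_normal p H
  have hT1 : Subgroup.normalClosure ((T : Subgroup H) : Set H) = ⊤ :=
    eq_top_of_pirr_of_sylow_le hH _ T Subgroup.le_normalClosure
  have hcn : (commutator H ⊔ (T : Subgroup H)).Normal := by
    constructor
    intro n hn g
    have h1 : g * n * g⁻¹ = ⁅g, n⁆ * n := by rw [commutatorElement_def]; group
    rw [h1]
    apply Subgroup.mul_mem _ _ hn
    apply Subgroup.mem_sup_left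
    rw [commutator_def]
    exact Subgroup.commutator_mem_commutator (Subgroup.mem_top g) (Subgroup.mem_top n)
  have hT2 : commutator H ⊔ (T : Subgroup H) = ⊤ :=
    @eq_top_of_pirr_of_sylow_le H _ p _ _ hH _ hcn T le_sup_right
  refine ⟨hT1, hT2, ?_, ?_⟩
  · apply pResidual_le_of_sylow_sup_eq_top (commutator H) (T : Subgroup H) hTp
    rw [sup_comm]; exact hT2
  · intro Y hYT hTY hYO
    have hYp : IsPGroup p Y := hTp.to_le hYT
    have hN : ¬ Cfsg.IsPClosed p ↥(Subgroup.normalClosure (Y : Set H)) := by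
      intro hc
      exact hYO (le_pCore_of_pclosed_normal _ hc Y Subgroup.le_normalClosure hYp)
    have hDN : Cfsg.pResidual p H ≤ Subgroup.normalClosure (Y : Set H) :=
      hH.2 _ Subgroup.normalClosure_normal hN
    refine ⟨?_, hDN⟩
    have hED : ⁅Cfsg.pResidual p H, Y⁆ ≤ Cfsg.pResidual p H := Subgroup.commutator_le_left _ _
    apply le_antisymm hED
    have hTD : (T : Subgroup H) ⊔ Cfsg.pResidual p H = ⊤ := sylow_sup_pResidual T
    -- E normal in H
    have hTE : (T : Subgroup H) ≤ Subgroup.normalizer ((⁅Cfsg.pResidual p H, Y⁆ : Subgroup H) : Set H) := by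
      intro t ht
      apply normalizer_inf_le_normalizer_commutator
      refine ⟨?_, hTY ht⟩
      rw [Subgroup.normalizer_eq_top]; trivial
    have hDE : Cfsg.pResidual p H ≤
        Subgroup.normalizer ((⁅Cfsg.pResidual p H, Y⁆ : Subgroup H) : Set H) :=
      Subgroup.normalizer_commutator_ge_left _ _
    -- Y ⊔ E normal in H
    have hYE : (Y ⊔ ⁅Cfsg.pResidual p H, Y⁆).Normal := by
      rw [← Subgroup.normalizer_eq_top_iff, eq_top_iff, ← hTD]
      apply sup_le
      · intro t ht
        apply mem_normalizer_of_map_conj_le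
        · rw [Subgroup.map_sup, (mem_normalizer_iff_map_conj _ t).mp (hTY ht),
            (mem_normalizer_iff_map_conj _ t).mp (hTE ht)]
        · rw [Subgroup.map_sup,
            (mem_normalizer_iff_map_conj _ t⁻¹).mp (Subgroup.inv_mem _ (hTY ht)),
            (mem_normalizer_iff_map_conj _ t⁻¹).mp (Subgroup.inv_mem _ (hTE ht))]
      · intro d hd
        have key2 : ∀ d' ∈ Cfsg.pResidual p H,
            (Y ⊔ ⁅Cfsg.pResidual p H, Y⁆).map (MulAut.conj d').toMonoidHom ≤
              Y ⊔ ⁅Cfsg.pResidual p H, Y⁆ := by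
          intro d' hd'
          rw [Subgroup.map_sup]
          apply sup_le
          · rintro _ ⟨a, ha, rfl⟩
            simp only [MulEquiv.toMonoidHom_eq_coe, MonoidHom.coe_coe, MulAut.conj_apply]
            have h7 : d' * a * d'⁻¹ = ⁅d', a⁆ * a := by rw [commutatorElement_def]; group
            rw [h7]
            exact Subgroup.mul_mem _
              (Subgroup.mem_sup_right (Subgroup.commutator_mem_commutator hd' ha))
              (Subgroup.mem_sup_left ha)
          · rw [(mem_normalizer_iff_map_conj _ d').mp (hDE hd')]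
            exact le_sup_right
        exact mem_normalizer_of_map_conj_le _ d (key2 d hd)
          (key2 d⁻¹ (Subgroup.inv_mem _ hd))
    have hNle : Subgroup.normalClosure (Y : Set H) ≤ Y ⊔ ⁅Cfsg.pResidual p H, Y⁆ :=
      Subgroup.normalClosure_le_normal (le_sup_left : Y ≤ _)
    conv_lhs => unfold Cfsg.pResidual
    rw [Subgroup.closure_le]
    intro x hx
    have hx' : (orderOf x).Coprime p := hx
    have hxD : x ∈ Cfsg.pResidual p H := Subgroup.subset_closure hx
    exact mem_of_coprime_of_mem_sup _ Y hYp (Subgroup.normalizer_commutator_ge_right _ _) x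
      (hNle (hDN hxD)) hx'

end Cfsg.Agent.S2827
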