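import Cfsg.Statements.S2828
import Mathlib
import Cfsg.Agent.Lib.Helper4.Cores

set_option autoImplicit false
open Cfsg

namespace Cfsg.Agent.S2828

set_option maxRecDepth 100000
open Cfsg

variable {G K : Type*} [Group G] [Group K] {p : ℕ} [Fact p.Prime]

theorem pclosed_iff_of_surj [Finite G] (f : G →* K) (hf : Function.Surjective f)
    (hk : IsPGroup p f.ker) : IsPClosed p G ↔ IsPClosed p K := by
  constructor
  · intro h Q
    obtain ⟨P, rfl⟩ := Sylow.mapSurjective_surjective hf p Q
    have := h P
    rw [Sylow.coe_mapSurjective]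
    exact this.map f hf
  · intro h P
    have hn : ((P : Subgroup G).map f).Normal := h (P.mapSurjective hf)
    have hcomap : ((P : Subgroup G).map f).comap f = P :=
      P.3 (IsPGroup.comap_of_ker_isPGroup (P.2.map f) f hk) (Subgroup.le_comap_map f P)
    rw [← hcomap]
    exact hn.comap f

theorem pResidual_le_map [Finite G] (f : G →* K) (hf : Function.Surjective f) :
    pResidual p K ≤ (pResidual p G).map f := by
  unfold pResidual
  rw [Subgroup.closure_le]
  intro y hy
  obtain ⟨g, rfl⟩ := hf y
  have hy' : Nat.Coprime (orderOf (f g)) p := hy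
  have hpp : p.Prime := Fact.out
  have hpos : 0 < orderOf g := orderOf_pos g
  obtain ⟨k, m, hm, hkm⟩ := Nat.exists_eq_pow_mul_and_not_dvd hpos.ne' p hpp.ne_one
  have h1 : g ^ (p ^ k) ∈ Subgroup.closure {g : G | Nat.Coprime (orderOf g) p} := by
    apply Subgroup.subset_closure
    show Nat.Coprime (orderOf (g ^ (p ^ k))) p
    have : orderOf (g ^ (p ^ k)) ∣ m := by
      apply orderOf_dvd_of_pow_eq_one
      rw [← pow_mul, ← hkm, pow_orderOf_eq_one]
    exact Nat.Coprime.coprime_dvd_left this ((Nat.Prime.coprime_iff_not_dvd hpp).2 hm).symm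
  have h2 : f g ^ (p ^ k) ∈ (Subgroup.closure {g : G | Nat.Coprime (orderOf g) p}).map f :=
    ⟨_, h1, map_pow f g _⟩
  have hcop : Nat.Coprime (p ^ k) (orderOf (f g)) := (Nat.Coprime.pow_right k hy').symm
  by_cases h1' : orderOf (f g) = 1
  · rw [orderOf_eq_one_iff] at h1'
    show f g ∈ _
    rw [h1']; exact Subgroup.one_mem _
  · have hlt : 1 < orderOf (f g) := by
      have : 0 < orderOf (f g) := by
        haveI : Finite K := Finite.of_surjective f hf
        exact orderOf_pos _
      omega
    obtain ⟨b, -, hb⟩ := Nat.exists_mul_mod_eq_one_of_coprime hcop hlt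
    have : (f g ^ (p ^ k)) ^ b = f g := by
      rw [← pow_mul, ← pow_mod_orderOf, hb, pow_one]
    show f g ∈ _
    rw [← this]
    exact Subgroup.pow_mem _ h2 b

omit [Fact p.Prime] in
theorem mem_of_coprime (N D : Subgroup G) [N.Normal] (hD : IsPGroup p D) (g : G)
    (hg : Nat.Coprime (orderOf g) p) (n d : G) (hn : n ∈ N) (hd : d ∈ D) (h : g = n * d) :
    g ∈ N := by
  have h1 : (QuotientGroup.mk' N) g = (QuotientGroup.mk' N) d := by
    rw [h, map_mul]
    have : (QuotientGroup.mk' N) n = 1 := (QuotientGroup.eq_one_iff n).2 hn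
    rw [this, one_mul]
  obtain ⟨k, hk⟩ := hD ⟨d, hd⟩
  have hk' : d ^ (p ^ k) = 1 := by
    have := congrArg Subtype.val hk
    simpa using this
  have h2 : ((QuotientGroup.mk' N) g) ^ (p ^ k) = 1 := by rw [h1, ← map_pow, hk', map_one]
  have h3 : ((QuotientGroup.mk' N) g) ^ (orderOf g) = 1 := by
    rw [← map_pow, pow_orderOf_eq_one, map_one]
  have h4 : orderOf ((QuotientGroup.mk' N) g) ∣ Nat.gcd (p ^ k) (orderOf g) :=
    Nat.dvd_gcd (orderOf_dvd_of_pow_eq_one h2) (orderOf_dvd_of_pow_eq_one h3)
  have h5 : Nat.gcd (p ^ k) (orderOf g) = 1 := Nat.Coprime.pow_left k hg.symm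
  rw [h5, Nat.dvd_one, orderOf_eq_one_iff] at h4
  exact (QuotientGroup.eq_one_iff g).1 h4


section main
variable {H : Type*} [Group H] [Finite H] (D : Subgroup H) [D.Normal]

theorem mk_surj : Function.Surjective (QuotientGroup.mk' D) := QuotientGroup.mk'_surjective D

theorem pclosed_quot (hD : IsPGroup p ↥D) : IsPClosed p H ↔ IsPClosed p (H ⧸ D) := by
  apply pclosed_iff_of_surj (QuotientGroup.mk' D) (mk_surj D)
  rw [QuotientGroup.ker_mk']
  exact hD

theorem pclosed_sub (hD : IsPGroup p ↥D) (N : Subgroup H) :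
    IsPClosed p ↥N ↔ IsPClosed p ↥(N.map (QuotientGroup.mk' D)) := by
  apply pclosed_iff_of_surj ((QuotientGroup.mk' D).subgroupMap N)
    ((QuotientGroup.mk' D).subgroupMap_surjective N)
  intro g
  have hg : (QuotientGroup.mk' D) (g.1 : H) = 1 := by
    have := g.2
    rw [MonoidHom.mem_ker] at this
    have := congrArg Subtype.val this
    simpa using this
  have hgD : (g.1 : H) ∈ D := by
    rwa [QuotientGroup.mk'_apply, QuotientGroup.eq_one_iff] at hg
  obtain ⟨k, hk⟩ := hD ⟨_, hgD⟩
  refine ⟨k, ?_⟩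
  apply Subtype.ext
  apply Subtype.ext
  have := congrArg Subtype.val hk
  simpa using this

theorem ascend (N' : Subgroup (H ⧸ D))
    (h : pResidual p H ≤ N'.comap (QuotientGroup.mk' D)) : pResidual p (H ⧸ D) ≤ N' := by
  refine (pResidual_le_map (QuotientGroup.mk' D) (mk_surj D)).trans ?_
  rw [Subgroup.map_le_iff_le_comap]
  exact h

theorem descend (hD : IsPGroup p ↥D) (N : Subgroup H) [N.Normal]
    (h : pResidual p (H ⧸ D) ≤ N.map (QuotientGroup.mk' D)) : pResidual p H ≤ N := by
  unfold pResidual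
  rw [Subgroup.closure_le]
  intro g hg
  have hg' : Nat.Coprime (orderOf g) p := hg
  have h1 : (QuotientGroup.mk' D) g ∈ pResidual p (H ⧸ D) := by
    apply Subgroup.subset_closure
    show Nat.Coprime (orderOf ((QuotientGroup.mk' D) g)) p
    exact Nat.Coprime.coprime_dvd_left (orderOf_map_dvd _ g) hg'
  obtain ⟨n, hn, hng⟩ := h h1
  have hd : n⁻¹ * g ∈ D := by
    have : (QuotientGroup.mk' D) (n⁻¹ * g) = 1 := by
      rw [map_mul, map_inv, hng, inv_mul_cancel]
    rwa [QuotientGroup.mk'_apply, QuotientGroup.eq_one_iff] at this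
  exact mem_of_coprime N D hD g hg' n (n⁻¹ * g) hn hd (by rw [mul_inv_cancel_left])

theorem pCore_comap (hD : IsPGroup p ↥D) :
    (pCore p (H ⧸ D)).comap (QuotientGroup.mk' D) = pCore p H := by
  apply le_antisymm
  · apply le_sSup
    refine ⟨?_, ?_⟩
    · haveI := Cfsg.Agent.Lib.Helper4.pCore_normal (G := H ⧸ D) p
      exact Subgroup.Normal.comap inferInstance _
    · apply IsPGroup.comap_of_ker_isPGroup Cfsg.Agent.Lib.Helper4.pCore_isPGroup
      rw [QuotientGroup.ker_mk']
      exact hD
  · rw [← Subgroup.map_le_iff_le_comap]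
    apply le_sSup
    refine ⟨?_, ?_⟩
    · haveI := Cfsg.Agent.Lib.Helper4.pCore_normal (G := H) p
      exact Subgroup.Normal.map inferInstance _ (mk_surj D)
    · exact IsPGroup.map Cfsg.Agent.Lib.Helper4.pCore_isPGroup _

theorem main2828 {p : ℕ} [Fact p.Prime] (D : Subgroup H) [D.Normal] (hD : IsPGroup p ↥D) : (Cfsg.IsPIrreducible p H ↔ Cfsg.IsPIrreducible p (H ⧸ D)) ∧ (Cfsg.IsStronglyPIrreducible p H ↔ Cfsg.IsStronglyPIrreducible p (H ⧸ D)) := by
  have hsurj := mk_surj D
  constructor
  · constructor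
    · rintro ⟨h1, h2⟩
      refine ⟨fun h => h1 ((pclosed_quot D hD).2 h), ?_⟩
      intro N' hN' hnc
      apply ascend
      haveI := hN'
      apply h2 _ (Subgroup.Normal.comap inferInstance _)
      intro hc
      apply hnc
      have := (pclosed_sub D hD _).1 hc
      rwa [Subgroup.map_comap_eq_self_of_surjective hsurj] at this
    · rintro ⟨h1, h2⟩
      refine ⟨fun h => h1 ((pclosed_quot D hD).1 h), ?_⟩
      intro N hN hnc
      haveI := hN
      apply descend D hD
      apply h2 _ (Subgroup.Normal.map inferInstance _ hsurj)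
      intro hc
      exact hnc ((pclosed_sub D hD _).2 hc)
  · constructor
    · rintro ⟨h1, h2⟩
      refine ⟨fun h => h1 ((pclosed_quot D hD).2 h), ?_⟩
      intro N' hN' hnc
      apply ascend
      haveI := hN'
      apply h2 _ (Subgroup.Normal.comap inferInstance _)
      intro hc
      apply hnc
      have h3 := Subgroup.map_mono (f := QuotientGroup.mk' D) hc
      rw [Subgroup.map_commutator, Subgroup.map_comap_eq_self_of_surjective hsurj,
        Subgroup.map_top_of_surjective _ hsurj] at h3
      refine h3.trans ?_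
      rw [Subgroup.map_le_iff_le_comap, pCore_comap D hD]
    · rintro ⟨h1, h2⟩
      refine ⟨fun h => h1 ((pclosed_quot D hD).1 h), ?_⟩
      intro N hN hnc
      haveI := hN
      apply descend D hD
      apply h2 _ (Subgroup.Normal.map inferInstance _ hsurj)
      intro hc
      apply hnc
      rw [← pCore_comap D hD, ← Subgroup.map_le_iff_le_comap, Subgroup.map_commutator,
        Subgroup.map_top_of_surjective _ hsurj]
      exact hc

end main


/-- Let H be a finite group, p a prime and D a normal p-subgroup of H. Then H is p-irreducible if and only if H/D is p-irreducible, and H is strongly p-irreducible if and only if H/D is strongly p-irreducible. -/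
theorem result {H : Type*} [Group H] [Finite H] {p : ℕ} [Fact p.Prime] (D : Subgroup H) [D.Normal] (hD : IsPGroup p ↥D) : (Cfsg.IsPIrreducible p H ↔ Cfsg.IsPIrreducible p (H ⧸ D)) ∧ (Cfsg.IsStronglyPIrreducible p H ↔ Cfsg.IsStronglyPIrreducible p (H ⧸ D)) := by
  exact main2828 D hD

end Cfsg.Agent.S2828
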