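import Cfsg.Statements.S2829
import Cfsg.Agent.Lib.Helper5.PCore

set_option autoImplicit false
open Cfsg

namespace Cfsg.Agent.S2829

open scoped commutatorElement

theorem result {H : Type*} [Group H] [Finite H] {p : ℕ} [Fact p.Prime] (hH : Cfsg.IsStronglyPIrreducible p H) : Cfsg.IsPIrreducible p H := by
  obtain ⟨h1, h2⟩ := hH
  refine ⟨h1, ?_⟩
  intro N hN hNcl
  apply h2 N hN
  intro hle
  apply hNcl
  intro P
  have hQn : ((Cfsg.pCore p H).subgroupOf N).Normal := (Cfsg.pCore_normal p H).subgroupOf N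
  have hQp : IsPGroup p ((Cfsg.pCore p H).subgroupOf N) :=
    (Cfsg.Agent.Lib.Helper5.isPGroup_pCore p H).comap_of_injective N.subtype N.subtype_injective
  have hQP : (Cfsg.pCore p H).subgroupOf N ≤ (P : Subgroup N) := hQp.le_sylow_of_normal P
  constructor
  intro x hx n
  have h3 : n * x * n⁻¹ = ⁅n, x⁆ * x := by rw [commutatorElement_def]; group
  rw [h3]
  apply Subgroup.mul_mem _ _ hx
  apply hQP
  rw [Subgroup.mem_subgroupOf]
  apply hle
  have h4 : ((⁅n, x⁆ : ↥N) : H) = ⁅(n : H), (x : H)⁆ := by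
    simp [commutatorElement_def]
  rw [h4]
  exact Subgroup.commutator_mem_commutator n.2 (Subgroup.mem_top _)

end Cfsg.Agent.S2829
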