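import Mathlib
import Cfsg.Statements.S2830
import Cfsg.Agent.Lib.Helper3.PClosed
import Cfsg.Agent.Lib.Helper3.PRes
import Cfsg.Agent.Lib.Helper1.Fitting

set_option autoImplicit false
set_option linter.style.haveILetI false
open Cfsg
open Cfsg.Agent.Lib.Helper3
open scoped commutatorElement

namespace Cfsg.Agent.S2830

/-- Let H act by conjugation on the elementary abelian p-subgroup V of a finite group G (H ≤ N(V)), with H p-irreducible and O^p(H) not centralizing V. Then C_H(V) is p-closed and C_T(V) ≤ O_p(H) for every p-subgroup T of H. If in addition O_p(H) centralizes V, then C_T(V) = T ∩ O_p(H) for every p-subgroup T of H, and V is p-reduced for H: O_p(H/C_H(V)) = 1. -/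
theorem result {G : Type*} [Group G] [Finite G] {p : ℕ} [Fact p.Prime] (V H : Subgroup G) (hV : Cfsg.IsElementaryAbelian p V) (hHV : H ≤ Subgroup.normalizer (V : Set G)) (hH : Cfsg.IsPIrreducible p ↥H) (hnc : ¬ (Cfsg.pResidual p ↥H).map H.subtype ≤ Subgroup.centralizer (V : Set G)) [hn : ((Subgroup.centralizer (V : Set G)).subgroupOf H).Normal] : Cfsg.IsPClosed p ↥(H ⊓ Subgroup.centralizer (V : Set G)) ∧ (∀ T : Subgroup G, T ≤ H → IsPGroup p ↥T → T ⊓ Subgroup.centralizer (V : Set G) ≤ Cfsg.pCoreOf p H) ∧ (Cfsg.pCoreOf p H ≤ Subgroup.centralizer (V : Set G) → (∀ T : Subgroup G, T ≤ H → IsPGroup p ↥T → T ⊓ Subgroup.centralizer (V : Set G) = T ⊓ Cfsg.pCoreOf p H) ∧ Cfsg.pCore p (↥H ⧸ (Subgroup.centralizer (V : Set G)).subgroupOf H) = ⊥) := by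
  classical
  have hp := (Fact.out : p.Prime)
  obtain ⟨C', hC'def⟩ : ∃ C' : Subgroup ↥H, C' = (Subgroup.centralizer (V : Set G)).subgroupOf H :=
    ⟨_, rfl⟩
  have hC'n : C'.Normal := by rw [hC'def]; exact hn
  -- C' is p-closed
  have hC'cl : Cfsg.IsPClosed p ↥C' := by
    by_contra hcon
    have h1 := hH.2 C' hC'n hcon
    apply hnc
    rintro _ ⟨x, hx, rfl⟩
    have := h1 hx
    rw [hC'def] at this
    exact Subgroup.mem_subgroupOf.mp this
  obtain ⟨P₀⟩ : Nonempty (Sylow p ↥C') := inferInstance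
  have hP₀n : (P₀ : Subgroup ↥C').Normal := hC'cl P₀
  haveI := hC'n
  have hP₀Hn : ((P₀ : Subgroup ↥C').map C'.subtype).Normal := normal_sylow_map_normal C' P₀ hP₀n
  have hP₀core : (P₀ : Subgroup ↥C').map C'.subtype ≤ Cfsg.pCore p ↥H :=
    Cfsg.Agent.Lib.Helper1.le_pCore _ hP₀Hn (P₀.isPGroup'.map _)
  have hclaim2 : ∀ T : Subgroup G, T ≤ H → IsPGroup p ↥T →
      T ⊓ Subgroup.centralizer (V : Set G) ≤ Cfsg.pCoreOf p H := by
    intro T hTH hTp x hx
    obtain ⟨hxT, hxC⟩ := Subgroup.mem_inf.mp hx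
    have hxC' : (⟨x, hTH hxT⟩ : ↥H) ∈ C' := by
      rw [hC'def]; exact Subgroup.mem_subgroupOf.mpr hxC
    obtain ⟨k, hk⟩ := hTp ⟨x, hxT⟩
    have hk' : x ^ (p ^ k) = 1 := by
      have := congrArg Subtype.val hk
      simpa using this
    have hk'' : (⟨⟨x, hTH hxT⟩, hxC'⟩ : ↥C') ^ (p ^ k) = 1 := by
      apply Subtype.ext; apply Subtype.ext
      simpa using hk'
    have hz := isPGroup_zpowers_of_pow (p := p) (⟨⟨x, hTH hxT⟩, hxC'⟩ : ↥C') k hk''
    have hle := le_of_normal_sylow P₀ hP₀n _ hz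
    have hmem : (⟨⟨x, hTH hxT⟩, hxC'⟩ : ↥C') ∈ (P₀ : Subgroup ↥C') := hle (Subgroup.mem_zpowers _)
    have h2 : (⟨x, hTH hxT⟩ : ↥H) ∈ Cfsg.pCore p ↥H := hP₀core ⟨_, hmem, rfl⟩
    unfold Cfsg.pCoreOf
    exact ⟨_, h2, rfl⟩
  refine ⟨?_, hclaim2, ?_⟩
  · -- transfer p-closedness
    have heq : (H ⊓ Subgroup.centralizer (V : Set G)).subgroupOf H = C' := by
      rw [hC'def]; exact Subgroup.inf_subgroupOf_left _ _
    have e1 : ↥C' ≃* ↥((H ⊓ Subgroup.centralizer (V : Set G)).subgroupOf H) :=
      MulEquiv.subgroupCongr heq.symm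
    have e2 : ↥((H ⊓ Subgroup.centralizer (V : Set G)).subgroupOf H) ≃*
        ↥(H ⊓ Subgroup.centralizer (V : Set G)) := Subgroup.subgroupOfEquivOfLe inf_le_left
    exact isPClosed_of_mulEquiv (e1.trans e2) hC'cl
  · intro hOp
    refine ⟨?_, ?_⟩
    · intro T hTH hTp
      apply le_antisymm
      · exact le_inf inf_le_left (hclaim2 T hTH hTp)
      · exact le_inf inf_le_left (inf_le_right.trans hOp)
    · have hcoreC' : Cfsg.pCore p ↥H ≤ C' := by
        intro x hx
        rw [hC'def]
        apply Subgroup.mem_subgroupOf.mpr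
        apply hOp
        unfold Cfsg.pCoreOf
        exact ⟨x, hx, rfl⟩
      obtain ⟨N, hNdef⟩ : ∃ N : Subgroup ↥H, N = (Cfsg.pCore p (↥H ⧸ C')).comap (QuotientGroup.mk' C') :=
        ⟨_, rfl⟩
      have hNn : N.Normal := by
        rw [hNdef]
        have : (Cfsg.pCore p (↥H ⧸ C')).Normal := pCore_normal' p
        exact this.comap _
      have hC'N : C' ≤ N := by
        intro x hx
        rw [hNdef, Subgroup.mem_comap]
        have : QuotientGroup.mk' C' x = 1 := (QuotientGroup.eq_one_iff x).mpr hx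
        rw [this]; exact one_mem _
      have hNpow : ∀ x ∈ N, ∃ k : ℕ, x ^ (p ^ k) ∈ C' := by
        intro x hx
        rw [hNdef] at hx
        exact exists_pow_mem_of_mem_comap_pCore C' hx
      have hNcl : Cfsg.IsPClosed p ↥N := by
        by_contra hcon
        have h1 := hH.2 N hNn hcon
        apply hnc
        have h2 : Cfsg.pResidual p ↥H ≤ C' := by
          unfold Cfsg.pResidual
          rw [Subgroup.closure_le]
          intro g hg
          have hgcop : Nat.Coprime (orderOf g) p := hg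
          have hgN : g ∈ N := h1 (Subgroup.subset_closure hg)
          obtain ⟨k, hk⟩ := hNpow g hgN
          have hq : (QuotientGroup.mk' C' g) ^ (p ^ k) = 1 := by
            rw [← map_pow]; exact (QuotientGroup.eq_one_iff _).mpr hk
          have hd1 : orderOf (QuotientGroup.mk' C' g) ∣ p ^ k := orderOf_dvd_of_pow_eq_one hq
          have hd2 : orderOf (QuotientGroup.mk' C' g) ∣ orderOf g := orderOf_map_dvd _ g
          have hcop : Nat.Coprime (orderOf g) (p ^ k) := Nat.Coprime.pow_right k hgcop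
          have hone : orderOf (QuotientGroup.mk' C' g) = 1 :=
            Nat.dvd_one.mp (hcop ▸ Nat.dvd_gcd hd2 hd1)
          have := orderOf_eq_one_iff.mp hone
          exact (QuotientGroup.eq_one_iff g).mp this
        rintro _ ⟨x, hx, rfl⟩
        have := h2 hx
        rw [hC'def] at this
        exact Subgroup.mem_subgroupOf.mp this
      obtain ⟨PN⟩ : Nonempty (Sylow p ↥N) := inferInstance
      have hPNn : (PN : Subgroup ↥N).Normal := hNcl PN
      haveI := hNn
      have hPNHn : ((PN : Subgroup ↥N).map N.subtype).Normal := normal_sylow_map_normal N PN hPNn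
      have hPNC' : (PN : Subgroup ↥N).map N.subtype ≤ C' :=
        (Cfsg.Agent.Lib.Helper1.le_pCore _ hPNHn (PN.isPGroup'.map _)).trans hcoreC'
      have hPNN : (PN : Subgroup ↥N).map N.subtype ≤ N := Subgroup.map_subtype_le _
      have hidx : ¬ p ∣ ((PN : Subgroup ↥N).map N.subtype).relIndex N := by
        have h1 : ((PN : Subgroup ↥N).map N.subtype).subgroupOf N = (PN : Subgroup ↥N) :=
          Subgroup.comap_map_eq_self_of_injective (Subgroup.subtype_injective N) _
        show ¬ p ∣ (((PN : Subgroup ↥N).map N.subtype).subgroupOf N).index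
        rw [h1]; exact PN.not_dvd_index
      have hNC' : N ≤ C' := by
        have h1 := Subgroup.relIndex_mul_relIndex ((PN : Subgroup ↥N).map N.subtype) C' N hPNC' hC'N
        have h3 : ¬ p ∣ C'.relIndex N := fun hd => hidx (h1 ▸ Dvd.dvd.mul_left hd _)
        obtain ⟨m, hm⟩ := relIndex_eq_pow_of_forall_pow_mem (p := p) C' N hNpow
        have hm0 : m = 0 := by
          by_contra hne
          exact h3 (hm ▸ dvd_pow_self p hne)
        rw [hm0, pow_zero] at hm
        exact Subgroup.relIndex_eq_one.mp hm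
      have hfinal : Cfsg.pCore p (↥H ⧸ C') = ⊥ := by
        rw [eq_bot_iff]
        intro y hy
        obtain ⟨x, rfl⟩ := QuotientGroup.mk_surjective y
        have hxN : x ∈ N := by rw [hNdef]; exact hy
        rw [Subgroup.mem_bot]
        exact (QuotientGroup.eq_one_iff x).mpr (hNC' hxN)
      subst hC'def
      exact hfinal

end Cfsg.Agent.S2830
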