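import Cfsg.Statements.S2831
import Cfsg.Agent.Lib.Helper5.SylowLib
import Cfsg.Agent.Lib.Helper5.PResidual

set_option autoImplicit false
open Cfsg

namespace Cfsg.Agent.S2831

theorem sup_sylow_eq_top_of_minimalOver {H : Type*} [Group H] [Finite H] {p : ℕ} [Fact p.Prime]
    (T : Sylow p H) (hmin : Cfsg.IsMinimalOver (T : Subgroup H)) (N : Subgroup H) [hN : N.Normal]
    (hNcl : ¬ Cfsg.IsPClosed p ↥N) : N ⊔ (T : Subgroup H) = ⊤ := by
  obtain ⟨hcl, M, ⟨hMco, hTM⟩, hMuniq⟩ := hmin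
  by_contra hne
  obtain ⟨M', hM'co, hM'⟩ := (eq_top_or_exists_le_coatom (N ⊔ (T : Subgroup H))).resolve_left hne
  have hM'M : M' = M := hMuniq M' ⟨hM'co, le_sup_right.trans hM'⟩
  have hNM : N ≤ M := hM'M ▸ (le_sup_left.trans hM')
  have hfr := Cfsg.Agent.Lib.Helper5.frattini_inf_normal T N
  have hTn := Cfsg.Agent.Lib.Helper5.sylow_le_normalizer_inf_normal T N
  have hnorm : Subgroup.normalizer ((((T : Subgroup H) ⊓ N : Subgroup H)) : Set H) = ⊤ := by
    by_contra hne2
    obtain ⟨M'', hM''co, hM''⟩ := (eq_top_or_exists_le_coatom _).resolve_left hne2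
    have hM''M : M'' = M := hMuniq M'' ⟨hM''co, hTn.trans hM''⟩
    have : (⊤ : Subgroup H) ≤ M := by
      rw [← hfr]
      exact sup_le (hM''M ▸ hM'') hNM
    exact hMco.1 (top_le_iff.mp this)
  have hTNn : ((T : Subgroup H) ⊓ N).Normal := Subgroup.normalizer_eq_top_iff.mp hnorm
  obtain ⟨P, hP⟩ := Cfsg.Agent.Lib.Helper5.exists_sylow_inf_normal T N
  have hPn : (P : Subgroup N).Normal := by
    have h1 : (P : Subgroup N) = ((T : Subgroup H) ⊓ N).subgroupOf N := by
      ext x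
      rw [Subgroup.mem_subgroupOf, ← hP]
      constructor
      · intro hx
        exact ⟨x, hx, rfl⟩
      · rintro ⟨y, hy, hyx⟩
        have : y = x := Subtype.ext hyx
        rwa [← this]
    rw [h1]
    exact hTNn.subgroupOf N
  apply hNcl
  intro P'
  haveI := Sylow.unique_of_normal P hPn
  have : P' = P := Subsingleton.elim _ _
  rw [this]
  exact hPn


theorem result {H : Type*} [Group H] [Finite H] {p : ℕ} [Fact p.Prime] (T : Sylow p H) (hmin : Cfsg.IsMinimalOver (T : Subgroup H)) : Cfsg.IsPIrreducible p H := by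
  have hmin' := hmin
  obtain ⟨hcl, M, ⟨hMco, hTM⟩, hMuniq⟩ := hmin
  refine ⟨?_, ?_⟩
  · intro hpc
    haveI := hpc T
    rw [Subgroup.normalClosure_eq_self] at hcl
    rw [hcl] at hTM
    exact hMco.1 (top_le_iff.mp hTM)
  · intro N hN hNcl
    haveI := hN
    exact Cfsg.Agent.Lib.Helper5.pResidual_le_of_sup_eq_top N (T : Subgroup H) T.isPGroup'
      (sup_sylow_eq_top_of_minimalOver T hmin' N hNcl)

end Cfsg.Agent.S2831
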