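import Cfsg.Statements.S2832
import Cfsg.Agent.Lib.Helper5.QuotLib
import Cfsg.Agent.Lib.Helper5.PResidual

set_option autoImplicit false
open Cfsg

namespace Cfsg.Agent.S2832

theorem result {H : Type*} [Group H] [Finite H] {p : ℕ} [Fact p.Prime] (T : Sylow p H) (hmin : Cfsg.IsMinimalOver (T : Subgroup H)) (N : Subgroup H) [N.Normal] : IsPGroup p (H ⧸ N) ∨ Cfsg.IsMinimalOver ((T : Subgroup H).map (QuotientGroup.mk' N)) := by
  obtain ⟨hcl, M, ⟨hMco, hTM⟩, hMuniq⟩ := hmin
  by_cases hNT : N ⊔ (T : Subgroup H) = ⊤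
  · left
    exact Cfsg.Agent.Lib.Helper5.isPGroup_quotient_of_sup_eq_top N (T : Subgroup H) T.isPGroup' hNT
  · right
    obtain ⟨M', hM'co, hM'⟩ := (eq_top_or_exists_le_coatom (N ⊔ (T : Subgroup H))).resolve_left hNT
    have hM'M : M' = M := hMuniq M' ⟨hM'co, le_sup_right.trans hM'⟩
    have hNM : N ≤ M := hM'M ▸ (le_sup_left.trans hM')
    have hsurj : Function.Surjective (QuotientGroup.mk' N) := QuotientGroup.mk'_surjective N
    refine ⟨?_, ?_⟩
    · have h1 := Subgroup.map_normalClosure ((T : Subgroup H) : Set H) (QuotientGroup.mk' N) hsurj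
      rw [hcl] at h1
      rw [Subgroup.coe_map, ← h1, ← MonoidHom.range_eq_map, MonoidHom.range_eq_top.mpr hsurj]
    · refine ⟨M.map (QuotientGroup.mk' N),
        ⟨Cfsg.Agent.Lib.Helper5.isCoatom_map_mk N M hMco hNM, Subgroup.map_mono hTM⟩, ?_⟩
      rintro K ⟨hKco, hTK⟩
      have h2 := Cfsg.Agent.Lib.Helper5.isCoatom_comap_mk N K hKco
      have h3 : (T : Subgroup H) ≤ K.comap (QuotientGroup.mk' N) := by
        rw [← Subgroup.map_le_iff_le_comap]
        exact hTK
      have h4 := hMuniq _ ⟨h2, h3⟩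
      rw [← h4, Subgroup.map_comap_eq_self_of_surjective hsurj]

end Cfsg.Agent.S2832
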