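import Cfsg.Statements.S2833
import Cfsg.Agent.Lib.Helper5.Basic
import Cfsg.Agent.Lib.Helper5.YL2

set_option autoImplicit false
open Cfsg

namespace Cfsg.Agent.S2833

open Cfsg.Agent.Lib.Helper5
open scoped commutatorElement

variable {G : Type*} [Group G]

theorem comm_le_of_le_normalizer (V X : Subgroup G) (hX : X ≤ Subgroup.normalizer (V : Set G)) :
    ⁅V, X⁆ ≤ V := by
  rw [Subgroup.commutator_le]
  intro v hv x hx
  have h1 : x * v⁻¹ * x⁻¹ ∈ V := (Subgroup.mem_normalizer_iff.mp (hX hx) v⁻¹).mp (V.inv_mem hv)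
  have h2 : ⁅v, x⁆ = v * (x * v⁻¹ * x⁻¹) := by
    rw [commutatorElement_def]; group
  rw [h2]
  exact V.mul_mem hv h1

/-- the commutator with a join -/
theorem comm_sup [Finite G] (V X Y : Subgroup G) (hX : X ≤ Subgroup.normalizer (V : Set G))
    (hY : Y ≤ Subgroup.normalizer (V : Set G)) : ⁅V, X ⊔ Y⁆ = ⁅V, X⁆ ⊔ ⁅V, Y⁆ := by
  apply le_antisymm
  · set M : Subgroup G := ⁅V, X⁆ ⊔ ⁅V, Y⁆ with hM
    have hXV := comm_le_of_le_normalizer V X hX
    have hYV := comm_le_of_le_normalizer V Y hY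
    -- both `X` and `Y` normalize `M`
    have key : ∀ (A B : Subgroup G), A ≤ Subgroup.normalizer (V : Set G) → ⁅V, B⁆ ≤ V →
        ∀ a ∈ A, (⁅V, A⁆ ⊔ ⁅V, B⁆).map (MulAut.conj a).toMonoidHom ≤ ⁅V, A⁆ ⊔ ⁅V, B⁆ := by
      intro A B hA hBV a ha
      rw [Subgroup.map_sup]
      apply sup_le
      · have h1 : a ∈ Subgroup.normalizer ((⁅V, A⁆ : Subgroup G) : Set G) :=
          Subgroup.normalizer_commutator_ge_right V A ha
        rw [mem_normalizer_iff_map_conj] at h1
        rw [h1]; exact le_sup_left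
      · rintro _ ⟨w, hw, rfl⟩
        show a * w * a⁻¹ ∈ _
        have h1 : a * w * a⁻¹ = (⁅w, a⁆)⁻¹ * w := by
          rw [commutatorElement_def]; group
        rw [h1]
        apply Subgroup.mul_mem
        · apply Subgroup.inv_mem
          exact le_sup_left (a := ⁅V, A⁆) (Subgroup.commutator_mem_commutator (hBV hw) ha)
        · exact le_sup_right (a := ⁅V, A⁆) hw
    have hXM : X ≤ Subgroup.normalizer (M : Set G) := by
      intro x hx
      exact mem_normalizer_of_map_conj_le M x (key X Y hX hYV x hx)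
        (key X Y hX hYV x⁻¹ (X.inv_mem hx))
    have hYM : Y ≤ Subgroup.normalizer (M : Set G) := by
      intro y hy
      have h1 := key Y X hY hXV y hy
      have h2 := key Y X hY hXV y⁻¹ (Y.inv_mem hy)
      rw [sup_comm] at h1 h2
      exact mem_normalizer_of_map_conj_le M y h1 h2
    let C : Subgroup G :=
      { carrier := {l | l ∈ Subgroup.normalizer (M : Set G) ∧ ∀ v ∈ V, ⁅v, l⁆ ∈ M}
        one_mem' := ⟨Subgroup.one_mem _, fun v _ => by simp [commutatorElement_def, M.one_mem]⟩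
        mul_mem' := by
          rintro a b ⟨ha, ha'⟩ ⟨hb, hb'⟩
          refine ⟨Subgroup.mul_mem _ ha hb, fun v hv => ?_⟩
          have h1 : ⁅v, a * b⁆ = ⁅v, a⁆ * (a * ⁅v, b⁆ * a⁻¹) := by
            simp only [commutatorElement_def]; group
          rw [h1]
          exact M.mul_mem (ha' v hv) ((Subgroup.mem_normalizer_iff.mp ha _).mp (hb' v hv))
        inv_mem' := by
          rintro a ⟨ha, ha'⟩
          refine ⟨Subgroup.inv_mem _ ha, fun v hv => ?_⟩
          have h1 : ⁅v, a⁻¹⁆ = a⁻¹ * (⁅v, a⁆)⁻¹ * a⁻¹⁻¹ := by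
            simp only [commutatorElement_def]; group
          rw [h1]
          exact (Subgroup.mem_normalizer_iff.mp (Subgroup.inv_mem _ ha) _).mp
            (M.inv_mem (ha' v hv)) }
    have hXC : X ≤ C := fun x hx => ⟨hXM hx, fun v hv =>
      le_sup_left (a := ⁅V, X⁆) (Subgroup.commutator_mem_commutator hv hx)⟩
    have hYC : Y ≤ C := fun y hy => ⟨hYM hy, fun v hv =>
      le_sup_right (a := ⁅V, X⁆) (Subgroup.commutator_mem_commutator hv hy)⟩
    rw [Subgroup.commutator_le]
    intro v hv l hl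
    exact ((sup_le hXC hYC) hl).2 v hv
  · exact sup_le (Subgroup.commutator_mono le_rfl le_sup_left)
      (Subgroup.commutator_mono le_rfl le_sup_right)


theorem result {G : Type*} [Group G] [Finite G] (V L : Subgroup G) (hLV : L ≤ Subgroup.normalizer (V : Set G)) (X : Subgroup G) (hX : X ≤ L) (g : G) (hg : g ∈ L) (hq : ⁅⁅V, X⁆, X⁆ = ⊥) (hgen : X ⊔ X.map (MulAut.conj g).toMonoidHom = L) (W : Subgroup G) (hW : W = ⁅V, L⁆) : ⁅V, X⁆ ⊔ ⁅V, X.map (MulAut.conj g).toMonoidHom⁆ = W ∧ W ⊓ Subgroup.centralizer (X : Set G) = ⁅V, X⁆ ∧ W ⊓ Subgroup.centralizer (L : Set G) = ⁅V, X⁆ ⊓ ⁅V, X.map (MulAut.conj g).toMonoidHom⁆ := by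
  set Y : Subgroup G := X.map (MulAut.conj g).toMonoidHom with hY
  have hgV : V.map (MulAut.conj g).toMonoidHom = V := by
    rw [← mem_normalizer_iff_map_conj]; exact hLV hg
  have hYL : Y ≤ L := by rw [← hgen]; exact le_sup_right
  have hXN : X ≤ Subgroup.normalizer (V : Set G) := hX.trans hLV
  have hYN : Y ≤ Subgroup.normalizer (V : Set G) := hYL.trans hLV
  have hVY : ⁅V, Y⁆ = (⁅V, X⁆).map (MulAut.conj g).toMonoidHom := by
    rw [Subgroup.map_commutator, hgV]
  have hW' : W = ⁅V, X⁆ ⊔ ⁅V, Y⁆ := by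
    rw [hW, ← hgen, comm_sup V X Y hXN hYN]
  have hXc : ⁅V, X⁆ ≤ Subgroup.centralizer (X : Set G) :=
    Subgroup.commutator_eq_bot_iff_le_centralizer.mp hq
  have hYc : ⁅V, Y⁆ ≤ Subgroup.centralizer (Y : Set G) := by
    apply Subgroup.commutator_eq_bot_iff_le_centralizer.mp
    rw [hVY, hY, ← Subgroup.map_commutator, hq, Subgroup.map_bot]
  have hXV := comm_le_of_le_normalizer V X hXN
  have hcentL : ∀ w : G, w ∈ Subgroup.centralizer (X : Set G) → w ∈ Subgroup.centralizer (Y : Set G) →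
      w ∈ Subgroup.centralizer (L : Set G) := by
    intro w h1 h2
    have h3 : X ≤ Subgroup.centralizer ({w} : Set G) := by
      intro x hx
      rw [Subgroup.mem_centralizer_iff]
      intro s hs
      rw [Set.mem_singleton_iff] at hs
      rw [hs]
      exact (Subgroup.mem_centralizer_iff.mp h1 x hx).symm
    have h4 : Y ≤ Subgroup.centralizer ({w} : Set G) := by
      intro x hx
      rw [Subgroup.mem_centralizer_iff]
      intro s hs
      rw [Set.mem_singleton_iff] at hs
      rw [hs]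
      exact (Subgroup.mem_centralizer_iff.mp h2 x hx).symm
    have h5 : L ≤ Subgroup.centralizer ({w} : Set G) := by
      rw [← hgen]; exact sup_le h3 h4
    rw [Subgroup.mem_centralizer_iff]
    intro l hl
    exact (Subgroup.mem_centralizer_iff.mp (h5 hl) w rfl).symm
  have part2 : W ⊓ Subgroup.centralizer (X : Set G) = ⁅V, X⁆ := by
    apply le_antisymm
    · intro w hw
      obtain ⟨hwW, hwC⟩ := Subgroup.mem_inf.mp hw
      rw [hW'] at hwW
      have hnorm : ⁅V, X⁆ ≤ Subgroup.normalizer ((⁅V, Y⁆ : Subgroup G) : Set G) :=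
        hXV.trans (Subgroup.normalizer_commutator_ge_left V Y)
      obtain ⟨a, ha, b, hb, rfl⟩ := (mem_sup_of_le_normalizer _ _ hnorm w).mp hwW
      have hbX : b ∈ Subgroup.centralizer (X : Set G) := by
        have : b = a⁻¹ * (a * b) := by group
        rw [this]
        exact Subgroup.mul_mem _ (Subgroup.inv_mem _ (hXc ha)) hwC
      have hbL := hcentL b hbX (hYc hb)
      have hbg : g * b = b * g := Subgroup.mem_centralizer_iff.mp hbL g hg
      have hb' : g⁻¹ * b * g ∈ ⁅V, X⁆ := by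
        rw [hVY] at hb
        exact (mem_map_conj_iff _ g b).mp hb
      have hb'' : g⁻¹ * b * g = b := by
        rw [mul_assoc, ← hbg]; group
      rw [hb''] at hb'
      exact Subgroup.mul_mem _ ha hb'
    · apply le_inf _ hXc
      rw [hW']; exact le_sup_left
  refine ⟨hW'.symm, part2, ?_⟩
  apply le_antisymm
  · intro w hw
    obtain ⟨hwW, hwC⟩ := Subgroup.mem_inf.mp hw
    have hwX : w ∈ Subgroup.centralizer (X : Set G) :=
      Subgroup.centralizer_le (show (X : Set G) ⊆ L from hX) hwC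
    have h1 : w ∈ ⁅V, X⁆ := by
      rw [← part2]; exact Subgroup.mem_inf.mpr ⟨hwW, hwX⟩
    refine Subgroup.mem_inf.mpr ⟨h1, ?_⟩
    rw [hVY, mem_map_conj_iff]
    have hwg : g * w = w * g := Subgroup.mem_centralizer_iff.mp hwC g hg
    have : g⁻¹ * w * g = w := by
      rw [mul_assoc, ← hwg]; group
    rw [this]; exact h1
  · intro w hw
    obtain ⟨h1, h2⟩ := Subgroup.mem_inf.mp hw
    refine Subgroup.mem_inf.mpr ⟨?_, hcentL w (hXc h1) (hYc h2)⟩
    rw [hW']; exact le_sup_left (a := ⁅V, X⁆) h1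

end Cfsg.Agent.S2833
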