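import Cfsg.Statements.S2835
import Cfsg.Agent.Lib.Helper5.Basic
import Cfsg.Agent.Lib.Helper5.MaxP
import Cfsg.Agent.Lib.Helper5.PCore

set_option autoImplicit false
open Cfsg

namespace Cfsg.Agent.S2835

open Cfsg.Agent.Lib.Helper5

theorem result {L : Type*} [Group L] [Finite L] {p : ℕ} [Fact p.Prime] (L₀ : Subgroup L) (hL₀ : IsCoatom L₀) (T : Sylow p ↥L₀) (Y : Subgroup L) (hYT : Y ≤ (T : Subgroup ↥L₀).map L₀.subtype) (hmin : Cfsg.IsMinimalOver Y) : Subgroup.normalizer (((T : Subgroup ↥L₀).map L₀.subtype : Subgroup L) : Set L) ≤ L₀ ∧ Cfsg.pCore p L ≤ L₀ ∧ (∃ P : Sylow p L, (P : Subgroup L) = (T : Subgroup ↥L₀).map L₀.subtype) ∧ Subgroup.normalizer (L₀ : Set L) = L₀ ∧ (∀ g : L, g ∉ L₀ → Y ⊔ Y.map (MulAut.conj g).toMonoidHom = ⊤) ∧ (IsMulCommutative ↥Y → ∀ g : L, g ∉ L₀ → Y ⊓ Y.map (MulAut.conj g).toMonoidHom = Y ⊓ Subgroup.center L) := by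
  classical
  obtain ⟨hncl, Muniq, hMu, hMuniq⟩ := hmin
  set T' : Subgroup L := (T : Subgroup ↥L₀).map L₀.subtype with hT'
  have hT'L₀ : T' ≤ L₀ := Subgroup.map_subtype_le _
  have hYL₀ : Y ≤ L₀ := hYT.trans hT'L₀
  have huniq : ∀ M : Subgroup L, IsCoatom M → Y ≤ M → M = L₀ := by
    intro M hM hYM
    rw [hMuniq M ⟨hM, hYM⟩, hMuniq L₀ ⟨hL₀, hYL₀⟩]
  have hproper : ∀ K : Subgroup L, Y ≤ K → K ≠ ⊤ → K ≤ L₀ := by
    intro K hYK hK
    obtain ⟨M, hM, hKM⟩ := (eq_top_or_exists_le_coatom K).resolve_left hK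
    rw [← huniq M hM (hYK.trans hKM)]; exact hKM
  have hnn : ∀ K : Subgroup L, K.Normal → Y ≤ K → K = ⊤ := by
    intro K hK hYK
    rw [eq_top_iff, ← hncl]
    exact Subgroup.normalClosure_le_normal hYK
  have hL₀top : L₀ ≠ ⊤ := hL₀.1
  -- (d)
  have hd : Subgroup.normalizer (L₀ : Set L) = L₀ := by
    rcases (Subgroup.le_normalizer (H := L₀)).eq_or_lt with h | h
    · exact h.symm
    · exfalso
      have h1 := hL₀.2 _ h
      rw [Subgroup.normalizer_eq_top_iff] at h1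
      exact hL₀top (hnn L₀ h1 hYL₀)
  -- (a)
  have ha : Subgroup.normalizer ((T' : Subgroup L) : Set L) ≤ L₀ := by
    apply hproper _ (hYT.trans Subgroup.le_normalizer)
    intro h1
    rw [Subgroup.normalizer_eq_top_iff] at h1
    have h2 := hnn T' h1 hYT
    apply hL₀top
    rw [eq_top_iff, ← h2]; exact hT'L₀
  -- (c)
  have hT'p : IsPGroup p T' := T.isPGroup'.map _
  obtain ⟨P, hP⟩ := hT'p.exists_le_sylow
  have hmaxp := isMaxPIn_of_sylow (p := p) L₀ T
  have hPT : (P : Subgroup L) = T' := by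
    by_contra hne
    have hlt : T' < (P : Subgroup L) := lt_of_le_of_ne hP (Ne.symm hne)
    obtain ⟨x, hxP, hxN, hxT⟩ := exists_mem_normalizer_not_mem T' (P : Subgroup L) P.isPGroup' hlt
    set B : Subgroup L := T' ⊔ Subgroup.zpowers x with hB
    have hBP : B ≤ P := sup_le hP (by rw [Subgroup.zpowers_le]; exact hxP)
    have hBp : IsPGroup p B := P.isPGroup'.to_le hBP
    have hBL₀ : B ≤ L₀ :=
      (sup_le Subgroup.le_normalizer (by rw [Subgroup.zpowers_le]; exact hxN)).trans ha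
    have hBT := hmaxp.2.2 B hBp hBL₀ le_sup_left
    apply hxT
    have hBT' : B = T' := hBT
    rw [← hBT']
    exact le_sup_right (a := T') (Subgroup.mem_zpowers x)
  -- (e)
  have he : ∀ g : L, g ∉ L₀ → Y ⊔ Y.map (MulAut.conj g).toMonoidHom = ⊤ := by
    intro g hg
    by_contra hK
    have h1 := hproper _ le_sup_left hK
    have h2 : Y.map (MulAut.conj g).toMonoidHom ≤ L₀ := le_sup_right.trans h1
    have h3 : Y ≤ L₀.map (MulAut.conj g⁻¹).toMonoidHom := by
      have := Subgroup.map_mono (f := (MulAut.conj g⁻¹).toMonoidHom) h2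
      rwa [map_conj_inv_conj] at this
    have h4 : IsCoatom (L₀.map (MulAut.conj g⁻¹).toMonoidHom) := by
      have := ((MulAut.conj g⁻¹).mapSubgroup).isCoatom_iff L₀
      rw [MulEquiv.mapSubgroup_apply] at this
      exact this.mpr hL₀
    have h5 := huniq _ h4 h3
    rw [← mem_normalizer_iff_map_conj, hd] at h5
    exact hg (by simpa using L₀.inv_mem h5)
  refine ⟨ha, ?_, ⟨P, hPT⟩, hd, he, ?_⟩
  · exact (pCore_le_sylow P).trans (by rw [hPT]; exact hT'L₀)
  · intro hYc g hg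
    have hcomm : ∀ a ∈ Y, ∀ b ∈ Y, a * b = b * a := by
      intro a ha b hb
      exact congrArg Subtype.val (hYc.is_comm.comm (⟨a, ha⟩ : Y) ⟨b, hb⟩)
    apply le_antisymm
    · intro w hw
      obtain ⟨hw1, hw2⟩ := Subgroup.mem_inf.mp hw
      refine Subgroup.mem_inf.mpr ⟨hw1, ?_⟩
      have h1 : Y ≤ Subgroup.centralizer ({w} : Set L) := by
        intro y hy
        rw [Subgroup.mem_centralizer_iff]
        intro s hs
        rw [Set.mem_singleton_iff] at hs
        rw [hs]; exact hcomm w hw1 y hy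
      have h2 : Y.map (MulAut.conj g).toMonoidHom ≤ Subgroup.centralizer ({w} : Set L) := by
        rintro _ ⟨y, hy, rfl⟩
        obtain ⟨w₀, hw₀, rfl⟩ := hw2
        rw [Subgroup.mem_centralizer_iff]
        intro s hs
        rw [Set.mem_singleton_iff] at hs
        rw [hs]
        show g * w₀ * g⁻¹ * (g * y * g⁻¹) = g * y * g⁻¹ * (g * w₀ * g⁻¹)
        have := hcomm w₀ hw₀ y hy
        calc g * w₀ * g⁻¹ * (g * y * g⁻¹) = g * (w₀ * y) * g⁻¹ := by group
          _ = g * (y * w₀) * g⁻¹ := by rw [this]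
          _ = g * y * g⁻¹ * (g * w₀ * g⁻¹) := by group
      have h3 : (⊤ : Subgroup L) ≤ Subgroup.centralizer ({w} : Set L) := by
        rw [← he g hg]; exact sup_le h1 h2
      rw [Subgroup.mem_center_iff]
      intro l
      exact (Subgroup.mem_centralizer_iff.mp (h3 (Subgroup.mem_top l)) w rfl).symm
    · intro w hw
      obtain ⟨hw1, hw2⟩ := Subgroup.mem_inf.mp hw
      refine Subgroup.mem_inf.mpr ⟨hw1, ?_⟩
      rw [mem_map_conj_iff]
      have := Subgroup.mem_center_iff.mp hw2 g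
      have h1 : g⁻¹ * w * g = w := by
        rw [mul_assoc, ← this]; group
      rw [h1]; exact hw1

end Cfsg.Agent.S2835
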