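import Mathlib
import Cfsg.Statements.S2836
import Cfsg.Agent.S2835
import Cfsg.Agent.Lib.Helper5.PMin
import Cfsg.Agent.Lib.Helper5.SubnSylow
import Cfsg.Agent.Lib.Helper5.PIrr
import Cfsg.Agent.Lib.Helper5.CopGen3
import Cfsg.Agent.Lib.Helper4.HallConv

set_option autoImplicit false
open Cfsg

namespace Cfsg.Agent.S2836

open Cfsg.Agent.Lib.Helper5

variable {L : Type*} [Group L] {p : ℕ}

/-- coatoms of a quotient pull back to coatoms -/
theorem isCoatom_comap_mk' (O : Subgroup L) [O.Normal] (M : Subgroup (L ⧸ O)) (hM : IsCoatom M) :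
    IsCoatom (M.comap (QuotientGroup.mk' O)) := by
  have hsurj := QuotientGroup.mk'_surjective O
  constructor
  · intro h
    apply hM.1
    rw [← Subgroup.map_comap_eq_self_of_surjective hsurj M, h,
      Subgroup.map_top_of_surjective _ hsurj]
  · intro K hK
    have hOK : O ≤ K := (QuotientGroup.le_comap_mk' O M).trans hK.le
    have h1 : M < K.map (QuotientGroup.mk' O) := by
      apply lt_of_le_of_ne
      · rw [← Subgroup.map_comap_eq_self_of_surjective hsurj M]
        exact Subgroup.map_mono hK.le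
      · intro h
        have h2 : K ≤ M.comap (QuotientGroup.mk' O) := by
          rw [h]; exact Subgroup.le_comap_map _ _
        exact absurd hK (not_lt_of_ge h2)
    have h3 := hM.2 _ h1
    have h4 := QuotientGroup.comap_map_mk' O K
    rw [h3, Subgroup.comap_top, sup_of_le_right hOK] at h4
    exact h4.symm

/-- coatoms over the kernel push forward to coatoms -/
theorem isCoatom_map_mk' (O : Subgroup L) [O.Normal] (M : Subgroup L) (hOM : O ≤ M)
    (hM : IsCoatom M) : IsCoatom (M.map (QuotientGroup.mk' O)) := by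
  have hsurj := QuotientGroup.mk'_surjective O
  have hcm : (M.map (QuotientGroup.mk' O)).comap (QuotientGroup.mk' O) = M := by
    rw [QuotientGroup.comap_map_mk', sup_of_le_right hOM]
  constructor
  · intro h
    apply hM.1
    rw [← hcm, h, Subgroup.comap_top]
  · intro K hK
    have h1 : M < K.comap (QuotientGroup.mk' O) := by
      apply lt_of_le_of_ne
      · rw [← hcm]; exact Subgroup.comap_mono hK.le
      · intro h
        have h2 : K = M.map (QuotientGroup.mk' O) := by
          rw [h, Subgroup.map_comap_eq_self_of_surjective hsurj]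
        exact absurd hK (by rw [h2]; exact lt_irrefl _)
    have h3 := hM.2 _ h1
    rw [← Subgroup.map_comap_eq_self_of_surjective hsurj K, h3,
      Subgroup.map_top_of_surjective _ hsurj]

/-- index of a supplement of a normal subgroup -/
theorem index_mul_card_inf [Finite L] (D M : Subgroup L) [D.Normal] (h : D ⊔ M = ⊤) :
    M.index * Nat.card ↥(D ⊓ M) = Nat.card D := by
  have h1 : D.relIndex M = D.index := by
    have := Subgroup.relIndex_sup_right (H := M) (K := D)
    rw [sup_comm, h, Subgroup.relIndex_top_right] at this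
    exact this.symm
  have h2 : Nat.card M = D.index * Nat.card ↥(D ⊓ M) := by
    have h3 := Subgroup.card_mul_index (D.subgroupOf M)
    have h4 : Nat.card (D.subgroupOf M) = Nat.card ↥(D ⊓ M) := by
      have : D.subgroupOf M = (D ⊓ M).subgroupOf M := by
        rw [Subgroup.inf_subgroupOf_right]
      rw [this]
      exact Nat.card_congr (Subgroup.subgroupOfEquivOfLe inf_le_right).toEquiv
    rw [← h3, h4]
    have : (D.subgroupOf M).index = D.index := h1
    rw [this, mul_comm]
  have h5 := Subgroup.card_mul_index M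
  have h6 := Subgroup.card_mul_index D
  have hpos : 0 < D.index := Nat.pos_of_ne_zero Subgroup.index_ne_zero_of_finite
  have h7 : D.index * (M.index * Nat.card ↥(D ⊓ M)) = D.index * Nat.card D := by
    calc D.index * (M.index * Nat.card ↥(D ⊓ M)) = (D.index * Nat.card ↥(D ⊓ M)) * M.index := by ring
      _ = Nat.card M * M.index := by rw [← h2]
      _ = Nat.card L := h5
      _ = Nat.card D * D.index := h6.symm
      _ = D.index * Nat.card D := by ring
  exact Nat.eq_of_mul_eq_mul_left hpos h7


theorem result {L : Type*} [Group L] [Finite L] {p : ℕ} [Fact p.Prime] (L₀ : Subgroup L) (hL₀ : IsCoatom L₀) (T : Sylow p ↥L₀) (Y : Subgroup L) (hYT : Y ≤ (T : Subgroup ↥L₀).map L₀.subtype) (hmin : Cfsg.IsMinimalOver Y) : (Cfsg.pCore p L ≤ L₀.normalCore ∧ (L₀.normalCore).map (QuotientGroup.mk' (Cfsg.pCore p L)) = frattini (L ⧸ Cfsg.pCore p L) ∧ Cfsg.IsPClosed p ↥(L₀.normalCore)) ∧ ∀ (N : Subgroup L) [N.Normal], N ≤ L₀ → Cfsg.IsPClosed p ↥N ∧ Group.IsNilpotent (↥N ⧸ Cfsg.pCore p ↥N) ∧ (Nat.card (↥N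 ⧸ Cfsg.pCore p ↥N)).Coprime p := by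
  classical
  have hpp : p.Prime := Fact.out
  obtain ⟨ha, hb, ⟨P, hPT⟩, hd, he, -⟩ := Cfsg.Agent.S2835.result L₀ hL₀ T Y hYT hmin
  obtain ⟨hncl, Muniq, hMu, hMuniq⟩ := hmin
  have hT'L₀ : (T : Subgroup ↥L₀).map L₀.subtype ≤ L₀ := Subgroup.map_subtype_le _
  have hYP : Y ≤ (P : Subgroup L) := by rw [hPT]; exact hYT
  have hPL₀ : (P : Subgroup L) ≤ L₀ := by rw [hPT]; exact hT'L₀
  have hYL₀ : Y ≤ L₀ := hYP.trans hPL₀
  have huniq : ∀ M : Subgroup L, IsCoatom M → Y ≤ M → M = L₀ := by
    intro M hM hYM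
    rw [hMuniq M ⟨hM, hYM⟩, hMuniq L₀ ⟨hL₀, hYL₀⟩]
  have hproper : ∀ K : Subgroup L, Y ≤ K → K ≠ ⊤ → K ≤ L₀ :=
    fun K hYK hK => le_of_unique_coatom huniq K hYK hK
  set O : Subgroup L := Cfsg.pCore p L with hO
  set D : Subgroup L := L₀.normalCore with hD
  have hOP : O ≤ (P : Subgroup L) := pCore_le_sylow P
  -- normal subgroups inside `L₀`
  have hF3 : ∀ N : Subgroup L, N.Normal → N ≤ L₀ → ((P : Subgroup L) ⊓ N).Normal := by
    intro N hN hNL₀
    haveI := hN
    have hcard := card_sylow_inf_subnormal P N hN.isSubnormal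
    have hc1 : Nat.card (((P : Subgroup L) ⊓ N).subgroupOf N) = p ^ (Nat.card N).factorization p := by
      rw [← hcard]
      exact Nat.card_congr (Subgroup.subgroupOfEquivOfLe inf_le_right).toEquiv
    have hfr := Sylow.normalizer_sup_eq_top (Sylow.ofCard (((P : Subgroup L) ⊓ N).subgroupOf N) hc1)
    rw [Sylow.coe_ofCard, Subgroup.subgroupOf_map_subtype, inf_of_le_left inf_le_right] at hfr
    have hPn : (P : Subgroup L) ≤ Subgroup.normalizer (((P : Subgroup L) ⊓ N : Subgroup L) : Set L) := by
      intro x hx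
      apply mem_normalizer_inf _ _ x (Subgroup.le_normalizer hx)
      rw [Subgroup.normalizer_eq_top_iff.mpr hN]; exact Subgroup.mem_top x
    rw [← Subgroup.normalizer_eq_top_iff]
    by_contra hne
    have h1 := hproper _ (hYP.trans hPn) hne
    apply hL₀.1
    rw [eq_top_iff, ← hfr]
    exact sup_le h1 hNL₀
  have hF4 : ∀ N : Subgroup L, N.Normal → N ≤ L₀ → (P : Subgroup L) ⊓ N ≤ O := by
    intro N hN hNL₀
    exact le_pCore _ (hF3 N hN hNL₀) (P.isPGroup'.to_le inf_le_left)
  -- the structure of such a normal subgroup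
  have hF5 : ∀ N : Subgroup L, N.Normal → N ≤ L₀ →
      Cfsg.IsPClosed p ↥N ∧ Cfsg.pCore p ↥N = O.subgroupOf N ∧
        (Nat.card (↥N ⧸ Cfsg.pCore p ↥N)).Coprime p := by
    intro N hN hNL₀
    haveI := hN
    have hcard := card_sylow_inf_subnormal P N hN.isSubnormal
    have hc1 : Nat.card (((P : Subgroup L) ⊓ N).subgroupOf N) = p ^ (Nat.card N).factorization p := by
      rw [← hcard]
      exact Nat.card_congr (Subgroup.subgroupOfEquivOfLe inf_le_right).toEquiv
    set Q : Sylow p ↥N := Sylow.ofCard (((P : Subgroup L) ⊓ N).subgroupOf N) hc1 with hQ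
    have hQc : (Q : Subgroup ↥N) = ((P : Subgroup L) ⊓ N).subgroupOf N := Sylow.coe_ofCard _ _
    haveI hPNn := hF3 N hN hNL₀
    have hQn : (Q : Subgroup ↥N).Normal := by
      rw [hQc]; exact Subgroup.normal_subgroupOf
    have hcore : Cfsg.pCore p ↥N = (Q : Subgroup ↥N) :=
      le_antisymm (pCore_le_sylow Q) (le_pCore _ hQn Q.isPGroup')
    have hQO : (Q : Subgroup ↥N) = O.subgroupOf N := by
      rw [hQc]
      ext x
      simp only [Subgroup.mem_subgroupOf, Subgroup.mem_inf]
      constructor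
      · rintro ⟨h1, h2⟩
        exact hF4 N hN hNL₀ (Subgroup.mem_inf.mpr ⟨h1, h2⟩)
      · intro h1
        exact ⟨hOP h1, x.2⟩
    refine ⟨isPClosed_of_sylow_normal Q hQn, by rw [hcore, hQO], ?_⟩
    rw [← Subgroup.index_eq_card, hcore]
    exact (Nat.Prime.coprime_iff_not_dvd hpp).mpr Q.not_dvd_index |>.symm
  have hDn : D.Normal := Subgroup.normalCore_normal L₀
  have hDL₀ : D ≤ L₀ := Subgroup.normalCore_le L₀
  have hOD : O ≤ D := (Subgroup.normal_le_normalCore).mpr hb
  have hOL₀ : O ≤ L₀ := hb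
  have hsurj := QuotientGroup.mk'_surjective O
  -- the Frattini subgroup of the quotient
  have hfrat : D.map (QuotientGroup.mk' O) = frattini (L ⧸ O) := by
    apply le_antisymm
    · unfold frattini Order.radical
      apply le_iInf₂
      intro Mb hMb
      have hMb' : IsCoatom Mb := hMb
      set M : Subgroup L := Mb.comap (QuotientGroup.mk' O) with hM
      have hMco : IsCoatom M := isCoatom_comap_mk' O Mb hMb'
      have hOM : O ≤ M := QuotientGroup.le_comap_mk' O Mb
      rw [Subgroup.map_le_iff_le_comap]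
      by_contra hDM
      have hsup : D ⊔ M = ⊤ := by
        apply hMco.2
        apply lt_of_le_of_ne le_sup_right
        intro h
        apply hDM
        rw [← hM, h]; exact le_sup_left
      have hprod := index_mul_card_inf D M hsup
      have hU : Nat.card ↥((P : Subgroup L) ⊓ D) = p ^ (Nat.card D).factorization p :=
        card_sylow_inf_subnormal P D hDn.isSubnormal
      have hUle : (P : Subgroup L) ⊓ D ≤ D ⊓ M :=
        le_inf inf_le_right ((hF4 D hDn hDL₀).trans hOM)
      have hnd : ¬ p ∣ M.index := by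
        intro hdvd
        have h1 : p ^ (Nat.card D).factorization p ∣ Nat.card ↥(D ⊓ M) := by
          rw [← hU]; exact Subgroup.card_dvd_of_le hUle
        have h2' : p * p ^ (Nat.card D).factorization p ∣ M.index * Nat.card ↥(D ⊓ M) :=
          Nat.mul_dvd_mul hdvd h1
        rw [hprod] at h2'
        have h2 : p ^ ((Nat.card D).factorization p + 1) ∣ Nat.card D := by
          rw [pow_succ, mul_comm]; exact h2'
        exact Nat.pow_succ_factorization_not_dvd Nat.card_pos.ne' hpp h2
      obtain ⟨g, hg⟩ := Cfsg.Agent.Lib.Helper4.exists_conj_mem_of_not_dvd_index p M (P : Subgroup L)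
        P.isPGroup' hnd
      have hPM : (P : Subgroup L) ≤ M.map (MulAut.conj g).toMonoidHom := by
        intro q hq
        rw [mem_map_conj_iff]
        exact hg q hq
      have h3 := huniq _ ((isCoatom_map_conj M g).mpr hMco) (hYP.trans hPM)
      apply hDM
      have h4 : D ≤ M.map (MulAut.conj g).toMonoidHom := by rw [h3]; exact hDL₀
      intro x hx
      have h5 := h4 (hDn.conj_mem x hx g)
      rw [mem_map_conj_iff] at h5
      have h6 : g⁻¹ * (g * x * g⁻¹) * g = x := by group
      rw [h6] at h5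
      exact h5
    · have hco : IsCoatom (L₀.map (QuotientGroup.mk' O)) := isCoatom_map_mk' O L₀ hOL₀ hL₀
      have h1 : frattini (L ⧸ O) ≤ L₀.map (QuotientGroup.mk' O) := frattini_le_coatom hco
      have h2 : (frattini (L ⧸ O)).comap (QuotientGroup.mk' O) ≤ L₀ := by
        have := Subgroup.comap_mono (f := QuotientGroup.mk' O) h1
        rwa [QuotientGroup.comap_map_mk', sup_of_le_right hOL₀] at this
      haveI : ((frattini (L ⧸ O)).comap (QuotientGroup.mk' O)).Normal := by
        haveI : (frattini (L ⧸ O)).Normal := inferInstance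
        exact Subgroup.Normal.comap inferInstance _
      have h3 : (frattini (L ⧸ O)).comap (QuotientGroup.mk' O) ≤ D :=
        (Subgroup.normal_le_normalCore).mpr h2
      rw [← Subgroup.map_comap_eq_self_of_surjective hsurj (frattini (L ⧸ O))]
      exact Subgroup.map_mono h3
  refine ⟨⟨hOD, hfrat, (hF5 D hDn hDL₀).1⟩, ?_⟩
  intro N hN hNL₀
  obtain ⟨h1, h2, h3⟩ := hF5 N hN hNL₀
  refine ⟨h1, ?_, h3⟩
  -- nilpotency
  have hND : N ≤ D := (Subgroup.normal_le_normalCore).mpr hNL₀
  set ψ : ↥N →* L ⧸ O := (QuotientGroup.mk' O).comp N.subtype with hψ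
  have hker : ψ.ker = Cfsg.pCore p ↥N := by
    rw [h2]
    ext x
    rw [MonoidHom.mem_ker, Subgroup.mem_subgroupOf]
    show (QuotientGroup.mk' O) (x : L) = 1 ↔ _
    rw [QuotientGroup.mk'_apply, QuotientGroup.eq_one_iff]
  have hrange : ψ.range ≤ frattini (L ⧸ O) := by
    rw [← hfrat]
    rintro _ ⟨x, rfl⟩
    exact ⟨x, hND x.2, rfl⟩
  haveI : Group.IsNilpotent ↥(frattini (L ⧸ O)) := frattini_nilpotent
  haveI h4 : Group.IsNilpotent ↥(ψ.range.subgroupOf (frattini (L ⧸ O))) := inferInstance
  haveI h5 : Group.IsNilpotent ↥ψ.range :=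
    Group.nilpotent_of_mulEquiv (Subgroup.subgroupOfEquivOfLe hrange)
  haveI h6 : Group.IsNilpotent (↥N ⧸ ψ.ker) :=
    Group.nilpotent_of_mulEquiv (QuotientGroup.quotientKerEquivRange ψ).symm
  exact Group.nilpotent_of_mulEquiv (QuotientGroup.quotientMulEquivOfEq hker)

end Cfsg.Agent.S2836
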