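import Mathlib
import Cfsg.Statements.S2837
import Cfsg.Agent.S2835
import Cfsg.Agent.S2833
import Cfsg.Agent.Lib.Helper5.Frattini
import Cfsg.Agent.Lib.Helper5.CopGen3
import Cfsg.Agent.Lib.Helper5.PCore
import Cfsg.Agent.Lib.Helper5.YL2
import Cfsg.Agent.Lib.Helper1.PGroupMax

set_option autoImplicit false
open Cfsg

namespace Cfsg.Agent.S2837

open Cfsg.Agent.Lib.Helper5
open scoped commutatorElement

variable {L : Type*} [Group L]

/-- commutators of a join of two mutually normalizing abelian subgroups -/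
theorem comm_two_abelian [Finite L] (B C : Subgroup L) (hBC : B ≤ Subgroup.normalizer (C : Set L))
    (hCB : C ≤ Subgroup.normalizer (B : Set L)) (hB : ⁅B, B⁆ = ⊥) (hC : ⁅C, C⁆ = ⊥) :
    ⁅B, B ⊔ C⁆ = ⁅B, C⁆ ∧ ⁅B ⊔ C, B ⊔ C⁆ = ⁅B, C⁆ := by
  have h1 : ⁅B, B ⊔ C⁆ = ⁅B, C⁆ := by
    rw [Cfsg.Agent.S2833.comm_sup B B C Subgroup.le_normalizer hCB, hB, bot_sup_eq]
  have h2 : ⁅C, B ⊔ C⁆ = ⁅B, C⁆ := by
    rw [Cfsg.Agent.S2833.comm_sup C B C hBC Subgroup.le_normalizer, hC, sup_bot_eq,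
      Subgroup.commutator_comm]
  refine ⟨h1, ?_⟩
  have hBn : B ≤ Subgroup.normalizer ((B ⊔ C : Subgroup L) : Set L) :=
    le_sup_left.trans Subgroup.le_normalizer
  have hCn : C ≤ Subgroup.normalizer ((B ⊔ C : Subgroup L) : Set L) :=
    le_sup_right.trans Subgroup.le_normalizer
  rw [Cfsg.Agent.S2833.comm_sup (B ⊔ C) B C hBn hCn, Subgroup.commutator_comm (B ⊔ C) B,
    Subgroup.commutator_comm (B ⊔ C) C, h1, h2, sup_idem]


theorem result {L : Type*} [Group L] [Finite L] {p : ℕ} [Fact p.Prime] (hchar : Subgroup.centralizer (Cfsg.pCore p L : Set L) ≤ Cfsg.pCore p L) (L₀ : Subgroup L) (hL₀ : IsCoatom L₀) (Y : Subgroup L) (hYL₀ : Y ≤ L₀) (hYel : Cfsg.IsElementaryAbelian p Y) (hmin : Cfsg.IsMinimalOver Y) (hOY : Cfsg.pCore p L ≤ Subgroup.normalizer (Y : Set L)) (A : Subgroup L) (hA : A = Subgroup.normalClosure (((Cfsg.pCore p L ⊓ Y : Subgroup L)) : Set L)) (g : L) (hg : g ∉ L₀) : (frattini ↥A).map A.subtype = ⁅A, A⁆ ∧ ⁅A, A⁆ = ⁅A ⊓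 Y, A⁆ ∧ ⁅A ⊓ Y, A⁆ = ⁅A ⊓ Y, A ⊓ Y.map (MulAut.conj g).toMonoidHom⁆ ∧ ⁅A ⊓ Y, A⁆ ≤ Y ⊓ Subgroup.center L ∧ Y ⊓ Y.map (MulAut.conj g).toMonoidHom = Y ⊓ Subgroup.center L ∧ (A ⊓ Y) ⊓ (A ⊓ Y.map (MulAut.conj g).toMonoidHom) = Y ⊓ Subgroup.center L ∧ A ⊓ Subgroup.center L = Y ⊓ Subgroup.center L := by
  classical
  have hpp : p.Prime := Fact.out
  obtain ⟨hYc, hYexp⟩ := hYel
  have hYp : IsPGroup p Y := by
    intro y
    refine ⟨1, ?_⟩
    apply Subtype.ext
    rw [pow_one, Subgroup.coe_pow, hYexp y y.2]; rfl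
  have hYp' : IsPGroup p (Y.subgroupOf L₀) := hYp.comap_of_injective L₀.subtype L₀.subtype_injective
  obtain ⟨T, hT⟩ := hYp'.exists_le_sylow
  have hYT : Y ≤ (T : Subgroup ↥L₀).map L₀.subtype := by
    intro y hy
    exact ⟨⟨y, hYL₀ hy⟩, hT (by rw [Subgroup.mem_subgroupOf]; exact hy), rfl⟩
  obtain ⟨-, -, -, -, he, hf⟩ := Cfsg.Agent.S2835.result L₀ hL₀ T Y hYT hmin
  have hgen := he g hg
  have h5 := hf hYc g hg
  set Q : Subgroup L := Cfsg.pCore p L with hQ
  set B : Subgroup L := Q ⊓ Y with hB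
  set Yg : Subgroup L := Y.map (MulAut.conj g).toMonoidHom with hYg
  set Bg : Subgroup L := B.map (MulAut.conj g).toMonoidHom with hBg
  haveI hQn : Q.Normal := Cfsg.pCore_normal p L
  have hQg : ∀ l : L, Q.map (MulAut.conj l).toMonoidHom = Q := by
    intro l
    rw [← mem_normalizer_iff_map_conj, Subgroup.normalizer_eq_top_iff.mpr hQn]
    exact Subgroup.mem_top l
  have hBgeq : Bg = Q ⊓ Yg := by
    rw [hBg, hB, Subgroup.map_inf _ _ _ (MulAut.conj g).injective, hQg g]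
  have hYcomm : ∀ a ∈ Y, ∀ b ∈ Y, a * b = b * a := by
    intro a ha b hb
    exact congrArg Subtype.val (hYc.is_comm.comm (⟨a, ha⟩ : Y) ⟨b, hb⟩)
  have hYgcomm : ∀ a ∈ Yg, ∀ b ∈ Yg, a * b = b * a := by
    rintro _ ⟨a, ha, rfl⟩ _ ⟨b, hb, rfl⟩
    show g * a * g⁻¹ * (g * b * g⁻¹) = g * b * g⁻¹ * (g * a * g⁻¹)
    have := hYcomm a ha b hb
    calc g * a * g⁻¹ * (g * b * g⁻¹) = g * (a * b) * g⁻¹ := by group
      _ = g * (b * a) * g⁻¹ := by rw [this]
      _ = g * b * g⁻¹ * (g * a * g⁻¹) := by group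
  have hBY : B ≤ Y := inf_le_right
  have hBQ : B ≤ Q := inf_le_left
  have hBgYg : Bg ≤ Yg := by rw [hBgeq]; exact inf_le_right
  have hBgQ : Bg ≤ Q := by rw [hBgeq]; exact inf_le_left
  have hBB : ⁅B, B⁆ = ⊥ := by
    rw [Subgroup.commutator_eq_bot_iff_le_centralizer]
    intro a ha
    rw [Subgroup.mem_centralizer_iff]
    intro b hb
    exact hYcomm b (hBY hb) a (hBY ha)
  have hBgBg : ⁅Bg, Bg⁆ = ⊥ := by
    rw [Subgroup.commutator_eq_bot_iff_le_centralizer]
    intro a ha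
    rw [Subgroup.mem_centralizer_iff]
    intro b hb
    exact hYgcomm b (hBgYg hb) a (hBgYg ha)
  -- `[Q, Y] ≤ B`
  have hQY : ⁅Q, Y⁆ ≤ B := by
    apply le_inf (Subgroup.commutator_le_left Q Y)
    rw [Subgroup.commutator_comm]
    exact Cfsg.Agent.S2833.comm_le_of_le_normalizer Y Q hOY
  have hOYg : Q ≤ Subgroup.normalizer (Yg : Set L) := by
    rw [hYg, normalizer_map_conj]
    have := Subgroup.map_mono (f := (MulAut.conj g).toMonoidHom) hOY
    rwa [hQg g] at this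
  have hQYg : ⁅Q, Yg⁆ ≤ Bg := by
    rw [hBgeq]
    apply le_inf (Subgroup.commutator_le_left Q Yg)
    rw [Subgroup.commutator_comm]
    exact Cfsg.Agent.S2833.comm_le_of_le_normalizer Yg Q hOYg
  have htopQ : ∀ K : Subgroup L, K ≤ Subgroup.normalizer (Q : Set L) := by
    intro K
    rw [Subgroup.normalizer_eq_top_iff.mpr hQn]; exact le_top
  have hYNB : Y ≤ Subgroup.normalizer (B : Set L) := fun y hy =>
    mem_normalizer_inf _ _ y (htopQ Y hy) (Subgroup.le_normalizer hy)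
  have hQNB : Q ≤ Subgroup.normalizer (B : Set L) := fun y hy =>
    mem_normalizer_inf _ _ y (htopQ Q hy) (hOY hy)
  have hYgNBg : Yg ≤ Subgroup.normalizer (Bg : Set L) := by
    rw [hBgeq]
    exact fun y hy => mem_normalizer_inf _ _ y (htopQ Yg hy) (Subgroup.le_normalizer hy)
  have hQNBg : Q ≤ Subgroup.normalizer (Bg : Set L) := by
    rw [hBgeq]
    exact fun y hy => mem_normalizer_inf _ _ y (htopQ Q hy) (hOYg hy)
  set M : Subgroup L := B ⊔ Bg with hM
  -- `M` is normal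
  have key : ∀ (y : L) (B₁ B₂ : Subgroup L), y ∈ Subgroup.normalizer (B₁ : Set L) →
      (∀ c ∈ B₂, ⁅y, c⁆ ∈ B₁) → (B₁ ⊔ B₂).map (MulAut.conj y).toMonoidHom ≤ B₁ ⊔ B₂ := by
    intro y B₁ B₂ h1 h2
    rw [Subgroup.map_sup]
    apply sup_le
    · rw [(mem_normalizer_iff_map_conj _ _).mp h1]; exact le_sup_left
    · rintro _ ⟨c, hc, rfl⟩
      show y * c * y⁻¹ ∈ _
      have : y * c * y⁻¹ = ⁅y, c⁆ * c := by rw [commutatorElement_def]; group
      rw [this]
      exact Subgroup.mul_mem _ (le_sup_left (a := B₁) (h2 c hc)) (le_sup_right (a := B₁) hc)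
  have hYM : Y ≤ Subgroup.normalizer (M : Set L) := by
    intro y hy
    have hcomm1 : ∀ z ∈ Y, ∀ c ∈ Bg, ⁅z, c⁆ ∈ B := by
      intro z hz c hc
      have h1 : ⁅c, z⁆ ∈ B := hQY (Subgroup.commutator_mem_commutator (hBgQ hc) hz)
      have h2 : ⁅z, c⁆ = (⁅c, z⁆)⁻¹ := by simp only [commutatorElement_def]; group
      rw [h2]; exact B.inv_mem h1
    exact mem_normalizer_of_map_conj_le M y (key y B Bg (hYNB hy) (hcomm1 y hy))
      (key y⁻¹ B Bg (hYNB (Y.inv_mem hy)) (hcomm1 y⁻¹ (Y.inv_mem hy)))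
  have hYgM : Yg ≤ Subgroup.normalizer (M : Set L) := by
    intro y hy
    have hcomm1 : ∀ z ∈ Yg, ∀ c ∈ B, ⁅z, c⁆ ∈ Bg := by
      intro z hz c hc
      have h1 : ⁅c, z⁆ ∈ Bg := hQYg (Subgroup.commutator_mem_commutator (hBQ hc) hz)
      have h2 : ⁅z, c⁆ = (⁅c, z⁆)⁻¹ := by simp only [commutatorElement_def]; group
      rw [h2]; exact Bg.inv_mem h1
    have h3 := key y Bg B (hYgNBg hy) (hcomm1 y hy)
    have h4 := key y⁻¹ Bg B (hYgNBg (Yg.inv_mem hy)) (hcomm1 y⁻¹ (Yg.inv_mem hy))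
    rw [sup_comm] at h3 h4
    exact mem_normalizer_of_map_conj_le M y h3 h4
  haveI hMn : M.Normal := by
    rw [← Subgroup.normalizer_eq_top_iff, eq_top_iff, ← hgen]
    exact sup_le hYM hYgM
  haveI hAn : A.Normal := by rw [hA]; exact Subgroup.normalClosure_normal
  have hBA : B ≤ A := by rw [hA]; exact Subgroup.subset_normalClosure
  have hAM : A = M := by
    apply le_antisymm
    · rw [hA]; exact Subgroup.normalClosure_le_normal (le_sup_left : B ≤ M)
    · apply sup_le hBA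
      rintro _ ⟨b, hb, rfl⟩
      exact hAn.conj_mem b (hBA hb) g
  have hAQ : A ≤ Q := by rw [hA]; exact Subgroup.normalClosure_le_normal hBQ
  have hAY : A ⊓ Y = B := by
    apply le_antisymm
    · exact le_inf (inf_le_left.trans hAQ) inf_le_right
    · exact le_inf hBA hBY
  have hBgA : Bg ≤ A := by rw [hAM]; exact le_sup_right
  have hAYg : A ⊓ Yg = Bg := by
    apply le_antisymm
    · rw [hBgeq]; exact le_inf (inf_le_left.trans hAQ) inf_le_right
    · exact le_inf hBgA hBgYg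
  obtain ⟨hc1, hc2⟩ := comm_two_abelian B Bg (hBQ.trans hQNBg) (hBgQ.trans hQNB) hBB hBgBg
  -- the commutator is central
  have hBBg : ⁅B, Bg⁆ ≤ Y ⊓ Subgroup.center L := by
    rw [← h5]
    apply le_inf
    · exact (Cfsg.Agent.S2833.comm_le_of_le_normalizer B Bg (hBgQ.trans hQNB)).trans hBY
    · rw [Subgroup.commutator_comm]
      exact (Cfsg.Agent.S2833.comm_le_of_le_normalizer Bg B (hBQ.trans hQNBg)).trans hBgYg
  have hcenQ : Subgroup.center L ≤ Q := by
    refine le_trans ?_ hchar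
    intro z hz
    rw [Subgroup.mem_centralizer_iff]
    intro q _
    exact (Subgroup.mem_center_iff.mp hz q)
  have hYZ_B : Y ⊓ Subgroup.center L ≤ B := by
    intro z hz
    obtain ⟨h1, h2⟩ := Subgroup.mem_inf.mp hz
    exact Subgroup.mem_inf.mpr ⟨hcenQ h2, h1⟩
  have hYZ_Bg : Y ⊓ Subgroup.center L ≤ Bg := by
    intro z hz
    obtain ⟨h1, h2⟩ := Subgroup.mem_inf.mp hz
    rw [hBg, mem_map_conj_iff]
    have h3 : g⁻¹ * z * g = z := by
      rw [mul_assoc, ← Subgroup.mem_center_iff.mp h2 g]; group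
    rw [h3]; exact hYZ_B hz
  -- (1) the Frattini subgroup
  have hAp : IsPGroup p A := (Cfsg.Agent.Lib.Helper5.isPGroup_pCore p L).to_le hAQ
  have hfrat : (frattini ↥A).map A.subtype = ⁅A, A⁆ := by
    have hcomm_map : (commutator ↥A).map A.subtype = ⁅A, A⁆ := by
      rw [commutator, Subgroup.map_commutator, ← MonoidHom.range_eq_map, Subgroup.range_subtype]
    apply le_antisymm
    · rw [← hcomm_map]
      apply Subgroup.map_mono
      have hexp : ∀ e : Abelianization ↥A, e ^ p = 1 := by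
        intro e
        obtain ⟨a, rfl⟩ : ∃ a : ↥A, Abelianization.of a = e := QuotientGroup.mk_surjective e
        have ha : (a : L) ∈ B ⊔ Bg := by rw [← hM, ← hAM]; exact a.2
        obtain ⟨b, hb, c, hc, habc⟩ := (mem_sup_of_le_normalizer B Bg (hBQ.trans hQNBg) a).mp ha
        have hbp : (⟨b, hBA hb⟩ : ↥A) ^ p = 1 := by
          apply Subtype.ext
          rw [Subgroup.coe_pow]
          exact hYexp b (hBY hb)
        have hcp : (⟨c, hBgA hc⟩ : ↥A) ^ p = 1 := by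
          apply Subtype.ext
          rw [Subgroup.coe_pow]
          obtain ⟨y, hy, rfl⟩ := hBgYg hc
          show (g * y * g⁻¹) ^ p = 1
          rw [conj_pow, hYexp y hy]; group
        have haeq : a = (⟨b, hBA hb⟩ : ↥A) * ⟨c, hBgA hc⟩ := Subtype.ext habc
        rw [haeq, map_mul, mul_pow, ← map_pow, ← map_pow, hbp, hcp, map_one, one_mul]
      have h1 := frattini_le_ker_of_elem_abelian hpp (Abelianization.of (G := ↥A))
        (fun a b => mul_comm a b) hexp
      rwa [Abelianization.ker_of] at h1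
    · rw [← hcomm_map]
      apply Subgroup.map_mono
      unfold frattini Order.radical
      apply le_iInf₂
      intro Mb hMb
      exact Cfsg.Agent.Lib.Helper1.commutator_le_coatom_of_isPGroup hAp hMb
  refine ⟨hfrat, ?_, ?_, ?_, h5, ?_, ?_⟩
  · rw [hAY, hAM, hc1, hc2]
  · rw [hAY, hAYg, hAM, hc1]
  · rw [hAY, hAM, hc1]; exact hBBg
  · rw [hAY, hAYg]
    apply le_antisymm
    · rw [← h5]; exact inf_le_inf hBY hBgYg
    · exact le_inf hYZ_B hYZ_Bg
  · apply le_antisymm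
    · intro a ha
      obtain ⟨haA, haZ⟩ := Subgroup.mem_inf.mp ha
      refine Subgroup.mem_inf.mpr ⟨?_, haZ⟩
      have ha' : a ∈ B ⊔ Bg := by rw [← hM, ← hAM]; exact haA
      obtain ⟨b, hb, c, hc, rfl⟩ := (mem_sup_of_le_normalizer B Bg (hBQ.trans hQNBg) a).mp ha'
      -- `c` is central
      have hcY : Y ≤ Subgroup.centralizer ({c} : Set L) := by
        intro y hy
        rw [Subgroup.mem_centralizer_iff]
        intro s hs
        rw [Set.mem_singleton_iff] at hs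
        rw [hs]
        have h1 : (b * c) * y = y * (b * c) := (Subgroup.mem_center_iff.mp haZ y).symm
        have h2 : b * y = y * b := hYcomm b (hBY hb) y hy
        calc c * y = b⁻¹ * ((b * c) * y) := by group
          _ = b⁻¹ * (y * (b * c)) := by rw [h1]
          _ = b⁻¹ * (y * b) * c := by group
          _ = b⁻¹ * (b * y) * c := by rw [h2]
          _ = y * c := by group
      have hcYg : Yg ≤ Subgroup.centralizer ({c} : Set L) := by
        intro y hy
        rw [Subgroup.mem_centralizer_iff]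
        intro s hs
        rw [Set.mem_singleton_iff] at hs
        rw [hs]
        exact hYgcomm c (hBgYg hc) y hy
      have hctop : (⊤ : Subgroup L) ≤ Subgroup.centralizer ({c} : Set L) := by
        rw [← hgen]; exact sup_le hcY hcYg
      have hcZ : c ∈ Subgroup.center L := by
        rw [Subgroup.mem_center_iff]
        intro l
        exact (Subgroup.mem_centralizer_iff.mp (hctop (Subgroup.mem_top l)) c rfl).symm
      have hcY' : c ∈ Y := by
        obtain ⟨y, hy, hyc⟩ := hBgYg hc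
        have h1 : g⁻¹ * c * g = c := by
          rw [mul_assoc, ← Subgroup.mem_center_iff.mp hcZ g]; group
        have h2 : g⁻¹ * c * g = y := by
          rw [← hyc]; show g⁻¹ * (g * y * g⁻¹) * g = y; group
        rw [← h1, h2]; exact hy
      exact Y.mul_mem (hBY hb) hcY'
    · exact le_inf (hYZ_B.trans hBA) inf_le_right

end Cfsg.Agent.S2837
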