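import Cfsg.Statements.S2839
import Cfsg.Agent.Lib.Helper5.WC2

set_option autoImplicit false
open Cfsg

namespace Cfsg.Agent.S2839

theorem result {H : Type*} [Group H] [Finite H] {p : ℕ} [Fact p.Prime] (Q : Subgroup H) (hQp : IsPGroup p ↥Q) (hQ1 : Q ≠ ⊥) (hwc : Cfsg.IsWeaklyClosedSubgroup p Q) (K : Subgroup H) (hQK : Q ≤ K) (N' : Subgroup H) [N'.Normal] : Cfsg.IsWeaklyClosedSubgroup p (Q.subgroupOf K) ∧ (∀ g : H, ((Q : Subgroup H).map (MulAut.conj (g : H)).toMonoidHom) ≤ K → ∃ k ∈ K, ((Q : Subgroup H).map (MulAut.conj (g : H)).toMonoidHom) = ((Q : Subgroup H).map (MulAut.conj (k : H)).toMonoidHom)) ∧ Cfsg.IsParabolic p ((Subgroup.normalizer ((Q : Subgroup H) : Set H)).subgroupOf K) ∧ (N' ⊓ Subgroup.normalizer ((Q : Subgroup H) : Set H)) ⊔ (Cfsg.pResidual p ↥N').map N'.subtype = N' ∧ Cfsg.IsWeaklyClosedSubgroup p (Q.map (QuotientGroup.mk' N')) := by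
  obtain ⟨h1, h3⟩ := Cfsg.Agent.Lib.Helper5.wc_subgroupOf Q hQp hwc K hQK
  refine ⟨h1, ?_, h3, Cfsg.Agent.Lib.Helper5.wc_frattini Q hQp hwc N',
    Cfsg.Agent.Lib.Helper5.wc_quotient Q hQp hwc N'⟩
  intro g hg
  exact Cfsg.Agent.Lib.Helper5.wc_conj_in Q hQp hwc K hQK g hg

end Cfsg.Agent.S2839
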