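import Cfsg.Statements.S2841
import Cfsg.Agent.Lib.Helper5.WC3

set_option autoImplicit false
open Cfsg

namespace Cfsg.Agent.S2841

theorem result {H : Type*} [Group H] [Finite H] {p : ℕ} [Fact p.Prime] (Q : Subgroup H) (hQp : IsPGroup p ↥Q) (hQ1 : Q ≠ ⊥) (hwc : Cfsg.IsWeaklyClosedSubgroup p Q) (N' : Subgroup H) [N'.Normal] : (∀ n : H, n ∈ N' → ∃ a ∈ N' ⊓ Subgroup.normalizer ((Q : Subgroup H) : Set H), ∃ b ∈ ⁅N', Q⁆, n = a * b) ∧ (∀ c : H, c ∈ ⁅N', Q⁆ → ∃ a ∈ Q ⊓ ⁅N', Q⁆, ∃ b ∈ ⁅⁅N', Q⁆, Q⁆, c = a * b) := by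
  have hN : N'.Normal := inferInstance
  have hQN : Q ≤ Subgroup.normalizer (N' : Set H) := by
    rw [Subgroup.normalizer_eq_top_iff.mpr hN]; exact le_top
  exact ⟨Cfsg.Agent.Lib.Helper5.wc_factor Q hQp hwc N' hQN,
    Cfsg.Agent.Lib.Helper5.wc_commutator_factor Q hQp hwc N'⟩

end Cfsg.Agent.S2841
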