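import Cfsg.Statements.S2842
import Cfsg.Agent.Lib.Helper5.WCCharP

set_option autoImplicit false
open Cfsg

namespace Cfsg.Agent.S2842

open Cfsg.Agent.Lib.Helper5

theorem result {H : Type*} [Group H] [Finite H] {p : ℕ} [Fact p.Prime] (Q : Subgroup H) (hQp : IsPGroup p ↥Q) (hQ1 : Q ≠ ⊥) (hwc : Cfsg.IsWeaklyClosedSubgroup p Q) (hCQ : Subgroup.centralizer ((Q : Subgroup H) : Set H) ≤ Q) (L : Subgroup H) (hQL : Q ≤ L) (hyp : Subgroup.centralizer (Cfsg.pCore p H : Set H) ≤ Cfsg.pCore p H ∨ ∃ y : H, y ≠ 1 ∧ y ∈ (Cfsg.pCoreOf p L) ⊓ Subgroup.centralizer ((Q : Subgroup H) : Set H) ∧ Subgroup.centralizer (Cfsg.pCore p ↥(Subgroup.centralizer ({y} : Set H)) : Set ↥(Subgroup.centralizer ({y} : Set H))) ≤ Cfsg.pCore p ↥(Subgroup.centralizer ({y} : Set H))) : ⁅Q, Subgroup.centralizer (((Cfsg.pCoreOf p L) : Subgroup H) : Set H)⁆ ≤ Q ⊓ (Cfsg.pCoreOf p L) ∧ IsPGroup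 p ↥(Subgroup.centralizer (((Cfsg.pCoreOf p L) : Subgroup H) : Set H)) ∧ Subgroup.centralizer (Cfsg.pCore p ↥L : Set ↥L) ≤ Cfsg.pCore p ↥L := by
  have hov : ∀ L' : Subgroup H, Q ≤ L' → Cfsg.pCoreOf p L ≤ Cfsg.pCoreOf p L' → CPin p L' := by
    intro L' hQL' hPP'
    rcases hyp with hH | ⟨y, _, hy, hyc⟩
    · exact cpin_of_wc_le Q hQp hwc hCQ ⊤ L' (cpin_top_of_charp hH) hQL' le_top
    · exact cpin_of_wc_of_centralizer Q hQp hwc hCQ L' hQL' y (hPP' hy.1) hy.2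
        (cpin_of_charp _ hyc)
  obtain ⟨h1, h2⟩ := wc_overgroup_main Q hQp hwc hCQ L hQL hov
  exact ⟨h1, h2, charp_of_cpin L (hov L hQL le_rfl)⟩

end Cfsg.Agent.S2842
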