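import Cfsg.Statements.S2843
import Cfsg.Agent.Lib.Helper5.WCCharP
import Cfsg.Agent.Lib.Helper5.Large
import Cfsg.Agent.Lib.Helper5.WC5

set_option autoImplicit false
open Cfsg

namespace Cfsg.Agent.S2843

open Cfsg.Agent.Lib.Helper5

theorem normalizer_le_normalizer_pCoreOf {G : Type*} [Group G] {p : ℕ} [Fact p.Prime]
    (C : Subgroup G) :
    Subgroup.normalizer (C : Set G) ≤ Subgroup.normalizer ((Cfsg.pCoreOf p C : Subgroup G) : Set G) := by
  have key : ∀ m ∈ Subgroup.normalizer (C : Set G),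
      (Cfsg.pCoreOf p C).map (MulAut.conj m).toMonoidHom ≤ Cfsg.pCoreOf p C := by
    intro m hm
    have hCm : C.map (MulAut.conj m).toMonoidHom = C := (mem_normalizer_iff_map_conj C m).mp hm
    apply le_pCoreOf C
    · have := Subgroup.map_mono (f := (MulAut.conj m).toMonoidHom) (pCoreOf_le p C)
      rwa [hCm] at this
    · rw [normalizer_map_conj]
      have := Subgroup.map_mono (f := (MulAut.conj m).toMonoidHom) (pCoreOf_normalizer (p := p) C)
      rwa [hCm] at this
    · exact (isPGroup_pCoreOf p C).map _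
  intro n hn
  exact mem_normalizer_of_map_conj_le _ n (key n hn) (key n⁻¹ (Subgroup.inv_mem _ hn))

theorem mem_normalizer_iSup {G : Type*} [Group G] {ι : Sort*} (K : ι → Subgroup G) (x : G)
    (h : ∀ i, x ∈ Subgroup.normalizer ((K i : Subgroup G) : Set G)) :
    x ∈ Subgroup.normalizer ((⨆ i, K i : Subgroup G) : Set G) := by
  rw [mem_normalizer_iff_map_conj, Subgroup.map_iSup]
  congr 1
  ext i : 1
  exact (mem_normalizer_iff_map_conj (K i) x).mp (h i)

/-- `C_H(Y)` normalizes every large `p`-subgroup normalizing the nontrivial `p`-group `Y`. -/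
theorem centralizer_le_normalizer_large {H : Type*} [Group H] [Finite H] {p : ℕ} [Fact p.Prime]
    (Q : Subgroup H) (hQp : IsPGroup p ↥Q) (hL : Cfsg.IsLarge Q) (Y : Subgroup H)
    (hYp : IsPGroup p ↥Y) (hY1 : Y ≠ ⊥) (hQY : Q ≤ Subgroup.normalizer (Y : Set H)) :
    Subgroup.centralizer (Y : Set H) ≤ Subgroup.normalizer (Q : Set H) := by
  have hRp : IsPGroup p (Y ⊔ Q : Subgroup H) := hYp.to_sup_of_normal_left' hQp hQY
  obtain ⟨z, hzY, hz1, hzc⟩ := exists_central_of_normalizedBy (p := p) Y (Y ⊔ Q) hRp le_sup_left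
    (sup_le Subgroup.le_normalizer hQY) hY1
  have hzQ : Subgroup.zpowers z ≤ Subgroup.centralizer (Q : Set H) := by
    rw [Subgroup.zpowers_le]
    exact Subgroup.mem_centralizer_iff.mpr (fun q hq => hzc q (Subgroup.mem_sup_right hq))
  have hU1 : Subgroup.zpowers z ≠ ⊥ := by rw [Ne, Subgroup.zpowers_eq_bot]; exact hz1
  have h1 := hL.2 _ hzQ hU1
  refine le_trans ?_ h1
  refine le_trans ?_ (Subgroup.centralizer_le_normalizer _)
  apply Subgroup.centralizer_le
  have : Subgroup.zpowers z ≤ Y := by rw [Subgroup.zpowers_le]; exact hzY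
  exact this

theorem large_wc' {H : Type*} [Group H] [Finite H] {p : ℕ} [Fact p.Prime] (Q : Subgroup H)
    (hQp : IsPGroup p ↥Q) (hQ1 : Q ≠ ⊥) (hL : Cfsg.IsLarge Q) :
    Cfsg.IsWeaklyClosedSubgroup p Q := by
  obtain ⟨T, hT⟩ := hQp.exists_le_sylow
  refine ⟨T, hT, ?_⟩
  intro g hg
  exact (cj_eq_self_iff Q g).mpr (IsLarge.mem_normalizer_of_le_sylow Q hL T hT hQ1 g hg)

theorem cj_le_weakClosure' {H : Type*} [Group H] (Q L : Subgroup H) (g : H)
    (hg : Q.map (MulAut.conj g).toMonoidHom ≤ L) :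
    Q.map (MulAut.conj g).toMonoidHom ≤ Cfsg.weakClosure Q L := by
  unfold Cfsg.weakClosure
  exact le_iSup (fun g : {g : H // Q.map (MulAut.conj g).toMonoidHom ≤ L} =>
      Q.map (MulAut.conj (g : H)).toMonoidHom) ⟨g, hg⟩

open scoped commutatorElement


theorem result {H : Type*} [Group H] [Finite H] {p : ℕ} [Fact p.Prime] (Q : Subgroup H) (hQp : IsPGroup p ↥Q) (hQ1 : Q ≠ ⊥) (hL : Cfsg.IsLarge Q) (L : Subgroup H) (hQL : Q ≤ L) (Y : Subgroup H) (hYp : IsPGroup p ↥Y) (hY1 : Y ≠ ⊥) (hLY : L ≤ Subgroup.normalizer ((Y : Subgroup H) : Set H)) : Cfsg.weakClosure Q L = Cfsg.weakClosure Q (L ⊔ Subgroup.centralizer ((Y : Subgroup H) : Set H)) ∧ ⁅Cfsg.weakClosure Q L, Subgroup.centralizer ((Y : Subgroup H) : Set H)⁆ ≤ (Cfsg.pCoreOf p (Cfsg.weakClosure Q L)) ∧ Subgroup.centralizer ((Y : Subgroup H) : Set H) ≤ Subgroup.normalizer (((Cfsg.weakClosure Q L) : Subgroup H) : Set H) := by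
  have hwc := Cfsg.Agent.S2843.large_wc' Q hQp hQ1 hL
  have hLC : L ≤ Subgroup.normalizer ((Subgroup.centralizer (Y : Set H) : Subgroup H) : Set H) :=
    hLY.trans (normalizer_le_normalizer_centralizer Y)
  -- Claim A for conjugates inside L
  have hA : ∀ g : H, Q.map (MulAut.conj g).toMonoidHom ≤ L →
      Subgroup.centralizer (Y : Set H) ≤
        Subgroup.normalizer ((Q.map (MulAut.conj g).toMonoidHom : Subgroup H) : Set H) := by
    intro g hg
    exact centralizer_le_normalizer_large _ (hQp.map _) (isLarge_map_conj Q hL g) Y hYp hY1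
      (hg.trans hLY)
  have hA1 : Subgroup.centralizer (Y : Set H) ≤ Subgroup.normalizer (Q : Set H) :=
    centralizer_le_normalizer_large Q hQp hL Y hYp hY1 (hQL.trans hLY)
  have hWL : Cfsg.weakClosure Q L ≤ L := by
    unfold Cfsg.weakClosure
    apply iSup_le
    rintro ⟨g, hg⟩
    exact hg
  -- (3)
  have h3 : Subgroup.centralizer (Y : Set H) ≤
      Subgroup.normalizer ((Cfsg.weakClosure Q L : Subgroup H) : Set H) := by
    intro c hc
    unfold Cfsg.weakClosure
    apply mem_normalizer_iSup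
    rintro ⟨g, hg⟩
    exact hA g hg hc
  refine ⟨?_, ?_, h3⟩
  · -- (1)
    apply le_antisymm
    · unfold Cfsg.weakClosure
      apply iSup_le
      rintro ⟨g, hg⟩
      exact le_iSup (fun g : {g : H // Q.map (MulAut.conj g).toMonoidHom ≤
          L ⊔ Subgroup.centralizer (Y : Set H)} =>
        Q.map (MulAut.conj (g : H)).toMonoidHom) ⟨g, hg.trans le_sup_left⟩
    · unfold Cfsg.weakClosure
      apply iSup_le
      rintro ⟨g, hg⟩
      obtain ⟨k, hk, hkQ⟩ := wc_conj_in Q hQp hwc _ (hQL.trans le_sup_left) g hg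
      obtain ⟨l, hl, c, hc, rfl⟩ := (mem_sup_of_le_normalizer L _ hLC k).mp hk
      have h5 : cj Q (l * c) = cj Q l := by
        rw [← cj_cj, (cj_eq_self_iff Q c).mpr (hA1 hc)]
      have h6 : cj Q l ≤ L := by
        rintro _ ⟨q, hq, rfl⟩
        simp only [MulEquiv.toMonoidHom_eq_coe, MonoidHom.coe_coe, MulAut.conj_apply]
        exact L.mul_mem (L.mul_mem hl (hQL hq)) (L.inv_mem hl)
      change cj Q g ≤ _
      rw [hkQ, h5]
      exact le_iSup (fun g : {g : H // Q.map (MulAut.conj g).toMonoidHom ≤ L} =>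
        Q.map (MulAut.conj (g : H)).toMonoidHom) ⟨l, h6⟩
  · -- (2)
    obtain ⟨W, hWdef⟩ : ∃ W : Subgroup H, W = Cfsg.weakClosure Q L := ⟨_, rfl⟩
    obtain ⟨C, hCdef⟩ : ∃ C : Subgroup H, C = Subgroup.centralizer (Y : Set H) := ⟨_, rfl⟩
    rw [← hWdef, ← hCdef]
    rw [← hWdef] at hWL
    have h3 : C ≤ Subgroup.normalizer (W : Set H) := by rw [hWdef, hCdef]; exact h3
    have hLC : L ≤ Subgroup.normalizer (C : Set H) := by rw [hCdef]; exact hLC
    have hA : ∀ g : H, Q.map (MulAut.conj g).toMonoidHom ≤ L →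
        C ≤ Subgroup.normalizer ((Q.map (MulAut.conj g).toMonoidHom : Subgroup H) : Set H) := by
      rw [hCdef]; exact hA
    have hWNK := pCoreOf_normalizer (p := p) W
    have hCNK : C ≤ Subgroup.normalizer ((Cfsg.pCoreOf p W : Subgroup H) : Set H) :=
      h3.trans (normalizer_le_normalizer_pCoreOf W)
    have hLNC' : L ≤ Subgroup.normalizer ((Cfsg.pCoreOf p C : Subgroup H) : Set H) :=
      hLC.trans (normalizer_le_normalizer_pCoreOf C)
    have hKK : Cfsg.pCoreOf p C ⊓ W ≤ Cfsg.pCoreOf p W := by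
      apply le_pCoreOf W _ inf_le_right _ ((isPGroup_pCoreOf p C).to_le inf_le_left)
      intro w hw
      exact mem_normalizer_inf _ _ w (hLNC' (hWL hw)) (Subgroup.le_normalizer hw)
    have hgen : ∀ g : H, Q.map (MulAut.conj g).toMonoidHom ≤ L →
        Q.map (MulAut.conj g).toMonoidHom ≤ chainStab ⊤ C (Cfsg.pCoreOf p W) := by
      intro g hg q hq
      have hqW : q ∈ W := by
        rw [hWdef]; exact cj_le_weakClosure' Q L g hg hq
      refine ⟨⟨⟨Subgroup.mem_top q, hLC (hg hq)⟩, hWNK hqW⟩, ?_⟩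
      intro c hc
      apply hKK
      have h7 : c⁻¹ * q * c⁻¹⁻¹ ∈ Q.map (MulAut.conj g).toMonoidHom :=
        (Subgroup.mem_normalizer_iff.mp (hA g hg (C.inv_mem hc)) q).mp hq
      have h8 : c⁻¹ * (q * c * q⁻¹) = (c⁻¹ * q * c⁻¹⁻¹) * q⁻¹ := by group
      have h9 : c⁻¹ * (q * c * q⁻¹) ∈ Q.map (MulAut.conj g).toMonoidHom := by
        rw [h8]; exact Subgroup.mul_mem _ h7 (Subgroup.inv_mem _ hq)
      have h10 : c⁻¹ * (q * c * q⁻¹) ∈ C :=
        C.mul_mem (C.inv_mem hc) ((Subgroup.mem_normalizer_iff.mp (hLC (hg hq)) c).mp hc)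
      refine ⟨?_, ?_⟩
      · apply le_pCoreOf C (Q.map (MulAut.conj g).toMonoidHom ⊓ C) inf_le_right _
          ((hQp.map _).to_le inf_le_left) ⟨h9, h10⟩
        intro c' hc'
        exact mem_normalizer_inf _ _ c' (hA g hg hc') (Subgroup.le_normalizer hc')
      · rw [hWdef]; exact cj_le_weakClosure' Q L g hg h9
    have hWSt : W ≤ chainStab ⊤ C (Cfsg.pCoreOf p W) := by
      conv_lhs => rw [hWdef]
      unfold Cfsg.weakClosure
      apply iSup_le
      rintro ⟨g, hg⟩
      exact hgen g hg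
    rw [Subgroup.commutator_le]
    intro w hw c hc
    have h11 := (hWSt hw).2 c hc
    have h12 : ⁅w, c⁆ = c * (c⁻¹ * (w * c * w⁻¹)) * c⁻¹ := by
      rw [commutatorElement_def]; group
    rw [h12]
    exact (Subgroup.mem_normalizer_iff.mp (hCNK hc) _).mp h11

end Cfsg.Agent.S2843
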