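import Cfsg.Statements.S2844
import Cfsg.Agent.Lib.Helper5.Large

set_option autoImplicit false
open Cfsg

namespace Cfsg.Agent.S2844

theorem result {H : Type*} [Group H] [Finite H] {p : ℕ} [Fact p.Prime] (Q : Subgroup H) (hQp : IsPGroup p ↥Q) (hQ1 : Q ≠ ⊥) (hL : Cfsg.IsLarge Q) (Qb : Subgroup H) (hQb : Qb = Cfsg.largeBullet p Q) : (∀ g : H, g ∉ Subgroup.normalizer ((Q : Subgroup H) : Set H) → Subgroup.centralizer ((Q : Subgroup H) : Set H) ⊓ Subgroup.centralizer ((((Q : Subgroup H).map (MulAut.conj (g : H)).toMonoidHom) : Subgroup H) : Set H) = ⊥ ∧ Subgroup.centralizer ((Qb : Subgroup H) : Set H) ⊓ Subgroup.centralizer ((((Qb : Subgroup H).map (MulAut.conj (g : H)).toMonoidHom) : Subgroup H) : Set H) = ⊥ ∧ (Q ⊓ Subgroup.centralizer ((Q : Subgroup H) : Set H)) ⊓ (((Q : Subgroup H).map (MulAut.conj (g : H)).toMonoidHom) ⊓ Subgroup.centralizer ((((Q : Subgroup H).map (MulAut.conj (g : H)).toMonoidHom) : Subgroup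 H) : Set H)) = ⊥ ∧ (Qb ⊓ Subgroup.centralizer ((Qb : Subgroup H) : Set H)) ⊓ (((Qb : Subgroup H).map (MulAut.conj (g : H)).toMonoidHom) ⊓ Subgroup.centralizer ((((Qb : Subgroup H).map (MulAut.conj (g : H)).toMonoidHom) : Subgroup H) : Set H)) = ⊥) ∧ Subgroup.normalizer ((Q : Subgroup H) : Set H) = Subgroup.normalizer ((Qb : Subgroup H) : Set H) ∧ Cfsg.IsLarge Qb := by
  obtain ⟨hQQb, hN, hLb⟩ := Cfsg.Agent.Lib.Helper5.IsLarge.bullet Q hQp hQ1 hL
  rw [← hQb] at hQQb hN hLb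
  refine ⟨?_, hN, hLb⟩
  intro g hg
  have ha := Cfsg.Agent.Lib.Helper5.IsLarge.centralizer_inf_eq_bot Q hQp hQ1 hL g hg
  have hb : Subgroup.centralizer ((Qb : Subgroup H) : Set H) ⊓
      Subgroup.centralizer ((((Qb : Subgroup H).map (MulAut.conj (g : H)).toMonoidHom) : Subgroup H) : Set H) = ⊥ := by
    rw [eq_bot_iff, ← ha]
    exact inf_le_inf (Subgroup.centralizer_le hQQb)
      (Subgroup.centralizer_le (Subgroup.map_mono hQQb))
  refine ⟨ha, hb, ?_, ?_⟩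
  · rw [eq_bot_iff, ← ha]
    exact inf_le_inf inf_le_right inf_le_right
  · rw [eq_bot_iff, ← hb]
    exact inf_le_inf inf_le_right inf_le_right

end Cfsg.Agent.S2844
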