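import Cfsg.Statements.S2845
import Cfsg.Agent.Lib.Helper5.WCCharP
import Cfsg.Agent.Lib.Helper5.Large
import Cfsg.Agent.Lib.Helper9.SylowConj

set_option autoImplicit false
open Cfsg

namespace Cfsg.Agent.S2845

open Cfsg.Agent.Lib.Helper5

theorem large_wc {H : Type*} [Group H] [Finite H] {p : ℕ} [Fact p.Prime] (Q : Subgroup H)
    (hQp : IsPGroup p ↥Q) (hQ1 : Q ≠ ⊥) (hL : Cfsg.IsLarge Q) :
    Cfsg.IsWeaklyClosedSubgroup p Q := by
  obtain ⟨T, hT⟩ := hQp.exists_le_sylow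
  refine ⟨T, hT, ?_⟩
  intro g hg
  exact (cj_eq_self_iff Q g).mpr (IsLarge.mem_normalizer_of_le_sylow Q hL T hT hQ1 g hg)

theorem large_overgroup {H : Type*} [Group H] [Finite H] {p : ℕ} [Fact p.Prime] (Q : Subgroup H)
    (hQp : IsPGroup p ↥Q) (hQ1 : Q ≠ ⊥) (hL : Cfsg.IsLarge Q) (L : Subgroup H) (hQL : Q ≤ L)
    (hP : Cfsg.pCoreOf p L ≠ ⊥) :
    CPin p L ∧ IsPGroup p ↥(Subgroup.centralizer ((Cfsg.pCoreOf p L : Subgroup H) : Set H)) := by
  have hwc := large_wc Q hQp hQ1 hL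
  have hCQ := hL.1
  -- N(Q) has characteristic p
  have hNQ : CPin p (Subgroup.normalizer (Q : Set H)) := by
    intro x _ hxc hx
    have hQle : Q ≤ Cfsg.pCoreOf p (Subgroup.normalizer (Q : Set H)) :=
      le_pCoreOf _ Q Subgroup.le_normalizer le_rfl hQp
    have hxQ : x ∈ Subgroup.centralizer (Q : Set H) :=
      Subgroup.mem_centralizer_iff.mpr (fun q hq => (hx q (hQle hq)).symm)
    exact eq_one_of_mem_pgroup_of_coprime Q hQp x (hCQ hxQ) hxc
  -- C(y) has characteristic p for y ∈ C(Q)#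
  have hCy : ∀ y : H, y ≠ 1 → y ∈ Subgroup.centralizer (Q : Set H) →
      CPin p (Subgroup.centralizer ({y} : Set H)) := by
    intro y hy1 hyQ
    have hU : Subgroup.zpowers y ≤ Subgroup.centralizer (Q : Set H) := by
      rw [Subgroup.zpowers_le]; exact hyQ
    have hU1 : Subgroup.zpowers y ≠ ⊥ := by rw [Ne, Subgroup.zpowers_eq_bot]; exact hy1
    have h1 := hL.2 _ hU hU1
    have h2 : Subgroup.centralizer ({y} : Set H) ≤ Subgroup.normalizer (Q : Set H) := by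
      rw [centralizer_singleton_eq_zpowers]
      exact (Subgroup.centralizer_le_normalizer _).trans h1
    have hQM : Q ≤ Subgroup.centralizer ({y} : Set H) := by
      intro q hq
      rw [Subgroup.mem_centralizer_iff]
      intro h hh
      rw [Set.mem_singleton_iff] at hh
      rw [hh]
      exact (Subgroup.mem_centralizer_iff.mp hyQ q hq).symm
    exact cpin_of_wc_le Q hQp hwc hCQ _ _ hNQ hQM h2
  -- y
  have hPp : IsPGroup p (Cfsg.pCoreOf p L) := isPGroup_pCoreOf p L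
  have hLP := pCoreOf_normalizer (p := p) L
  have hRp : IsPGroup p (Cfsg.pCoreOf p L ⊔ Q : Subgroup H) :=
    hPp.to_sup_of_normal_left' hQp (hQL.trans hLP)
  obtain ⟨y, hyP, hy1, hyc⟩ := exists_central_of_normalizedBy (p := p) (Cfsg.pCoreOf p L)
    (Cfsg.pCoreOf p L ⊔ Q) hRp le_sup_left (sup_le Subgroup.le_normalizer (hQL.trans hLP)) hP
  have hyQ : y ∈ Subgroup.centralizer (Q : Set H) :=
    Subgroup.mem_centralizer_iff.mpr (fun q hq => hyc q (Subgroup.mem_sup_right hq))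
  have hov : ∀ L' : Subgroup H, Q ≤ L' → Cfsg.pCoreOf p L ≤ Cfsg.pCoreOf p L' → CPin p L' :=
    fun L' hQL' hPP' => cpin_of_wc_of_centralizer Q hQp hwc hCQ L' hQL' y (hPP' hyP) hyQ
      (hCy y hy1 hyQ)
  exact ⟨hov L hQL le_rfl, (wc_overgroup_main Q hQp hwc hCQ L hQL hov).2⟩

theorem pCoreOf_ne_bot {H : Type*} [Group H] {p : ℕ} (L : Subgroup H)
    (h : Cfsg.pCore p ↥L ≠ ⊥) : Cfsg.pCoreOf p L ≠ ⊥ := by
  intro h2
  apply h
  unfold Cfsg.pCoreOf at h2
  exact (Subgroup.map_eq_bot_iff_of_injective _ L.subtype_injective).mp h2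

theorem cj_le_weakClosure {H : Type*} [Group H] (Q L : Subgroup H) (g : H)
    (hg : Q.map (MulAut.conj g).toMonoidHom ≤ L) :
    Q.map (MulAut.conj g).toMonoidHom ≤ Cfsg.weakClosure Q L := by
  unfold Cfsg.weakClosure
  exact le_iSup (fun g : {g : H // Q.map (MulAut.conj g).toMonoidHom ≤ L} =>
      Q.map (MulAut.conj (g : H)).toMonoidHom) ⟨g, hg⟩

theorem self_le_weakClosure {H : Type*} [Group H] (Q L : Subgroup H) (hQL : Q ≤ L) :
    Q ≤ Cfsg.weakClosure Q L := by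
  have h1 : Q.map (MulAut.conj (1 : H)).toMonoidHom ≤ L := by rw [map_conj_one]; exact hQL
  have := cj_le_weakClosure Q L 1 h1
  rwa [map_conj_one] at this

/-- a conjugate of `Q` inside a given Sylow subgroup -/
theorem exists_large_conj_le {H : Type*} [Group H] [Finite H] {p : ℕ} [Fact p.Prime]
    (Q : Subgroup H) (hQp : IsPGroup p ↥Q) (hQ1 : Q ≠ ⊥) (hL : Cfsg.IsLarge Q) (T : Sylow p H) :
    ∃ Q' : Subgroup H, IsPGroup p ↥Q' ∧ Q' ≠ ⊥ ∧ Cfsg.IsLarge Q' ∧ Q' ≤ (T : Subgroup H) := by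
  obtain ⟨g, hg⟩ := Cfsg.Agent.Lib.Helper9.exists_conj_le_sylow p T hQp
  exact ⟨_, hQp.map _, map_conj_ne_bot Q g hQ1, isLarge_map_conj Q hL g, hg⟩


theorem result {H : Type*} [Group H] [Finite H] {p : ℕ} [Fact p.Prime] (Q : Subgroup H) (hQp : IsPGroup p ↥Q) (hQ1 : Q ≠ ⊥) (hL : Cfsg.IsLarge Q) : (∀ L : Subgroup H, Q ≤ L → Cfsg.pCore p ↥L ≠ ⊥ → IsPGroup p ↥(Subgroup.centralizer (((Cfsg.pCoreOf p L) : Subgroup H) : Set H)) ∧ Subgroup.centralizer (Cfsg.pCore p ↥L : Set ↥L) ≤ Cfsg.pCore p ↥L ∧ (Cfsg.weakClosure Q L = Q ∨ Subgroup.centralizer (((Cfsg.weakClosure Q L) : Subgroup H) : Set H) = ⊥)) ∧ (∀ R : Subgroup H, Cfsg.IsParabolic p R → Cfsg.pCore p ↥R ≠ ⊥ → Subgroup.centralizer (((Cfsg.pCoreOf p R) : Subgroup H) : Set H) ≤ (Cfsg.pCoreOf p R)) ∧ Cfsg.IsOfParabolicCharacteristic p H := by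
  refine ⟨?_, ?_, ?_⟩
  · intro L hQL hPL
    obtain ⟨h1, h2⟩ := large_overgroup Q hQp hQ1 hL L hQL (pCoreOf_ne_bot L hPL)
    refine ⟨h2, charp_of_cpin L h1, ?_⟩
    by_cases hall : ∀ g : H, Q.map (MulAut.conj g).toMonoidHom ≤ L →
        g ∈ Subgroup.normalizer (Q : Set H)
    · left
      apply le_antisymm
      · unfold Cfsg.weakClosure
        apply iSup_le
        rintro ⟨g, hg⟩
        exact ((cj_eq_self_iff Q g).mpr (hall g hg)).le
      · exact self_le_weakClosure Q L hQL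
    · right
      rw [not_forall] at hall
      obtain ⟨g, hg⟩ := hall
      rw [Classical.not_imp] at hg
      obtain ⟨hgL, hgN⟩ := hg
      have h3 := IsLarge.centralizer_inf_eq_bot Q hQp hQ1 hL g hgN
      rw [eq_bot_iff, ← h3]
      apply le_inf
      · exact Subgroup.centralizer_le (self_le_weakClosure Q L hQL)
      · exact Subgroup.centralizer_le (cj_le_weakClosure Q L g hgL)
  · intro R hR hPR
    obtain ⟨T, hT⟩ := hR
    obtain ⟨Q', hQ'p, hQ'1, hQ'L, hQ'T⟩ := exists_large_conj_le Q hQp hQ1 hL T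
    obtain ⟨_, h2⟩ := large_overgroup Q' hQ'p hQ'1 hQ'L R (hQ'T.trans hT) (pCoreOf_ne_bot R hPR)
    have hRC : R ≤ Subgroup.normalizer ((Subgroup.centralizer
        ((Cfsg.pCoreOf p R : Subgroup H) : Set H) : Subgroup H) : Set H) :=
      (pCoreOf_normalizer R).trans (normalizer_le_normalizer_centralizer _)
    have hCT : Subgroup.centralizer ((Cfsg.pCoreOf p R : Subgroup H) : Set H) ≤ (T : Subgroup H) :=
      le_sylow_of_normalizedBy T _ h2 (hT.trans hRC)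
    exact le_pCoreOf R _ (hCT.trans hT) hRC h2
  · intro R₀ hR₀p hR₀1 hpar
    obtain ⟨T, hT⟩ := hpar
    obtain ⟨Q', hQ'p, hQ'1, hQ'L, hQ'T⟩ := exists_large_conj_le Q hQp hQ1 hL T
    have hR₀P : R₀ ≤ Cfsg.pCoreOf p (Subgroup.normalizer (R₀ : Set H)) :=
      le_pCoreOf _ R₀ Subgroup.le_normalizer le_rfl hR₀p
    have hPne : Cfsg.pCoreOf p (Subgroup.normalizer (R₀ : Set H)) ≠ ⊥ :=
      fun h => hR₀1 (le_bot_iff.mp (h ▸ hR₀P))
    obtain ⟨h1, _⟩ := large_overgroup Q' hQ'p hQ'1 hQ'L _ (hQ'T.trans hT) hPne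
    exact charp_of_cpin _ h1

end Cfsg.Agent.S2845
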