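import Cfsg.Statements.S2848
import Cfsg.Agent.Lib.Helper5.YL7

set_option autoImplicit false
open Cfsg

namespace Cfsg.Agent.S2848

theorem result {G : Type*} [Group G] [Finite G] {p : ℕ} [Fact p.Prime] (S : Sylow p G) (Q : Subgroup G) (hQp : IsPGroup p ↥Q) (hQ1 : Q ≠ ⊥) (hQS : Q ≤ (S : Subgroup G)) (hQ : Cfsg.IsLarge Q) (M : Subgroup G) (hSM : (S : Subgroup G) ≤ M) (hM : Cfsg.IsInFrakM p M) : Cfsg.IsWeaklyClosedSubgroup p (((Cfsg.pCoreOf p M)).subgroupOf (M ⊔ Subgroup.centralizer (((Cfsg.largestPReducedOf p M) : Subgroup G) : Set G))) := by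
  have hcp := Cfsg.Agent.Lib.Helper5.charp_of_mem_charPSubgroups M hM.1
  exact Cfsg.Agent.Lib.Helper5.pCoreOf_weaklyClosed S M hSM hcp hM.2.2.2.2.1

end Cfsg.Agent.S2848
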