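import Cfsg.Statements.S2849
import Cfsg.Agent.Lib.Helper5.YL6

set_option autoImplicit false
open Cfsg

namespace Cfsg.Agent.S2849

theorem result {G : Type*} [Group G] [Finite G] {p : ℕ} [Fact p.Prime] (S : Sylow p G) (Q : Subgroup G) (hQp : IsPGroup p ↥Q) (hQ1 : Q ≠ ⊥) (hQS : Q ≤ (S : Subgroup G)) (hQ : Cfsg.IsLarge Q) (M : Subgroup G) (hSM : (S : Subgroup G) ≤ M) (hM : Cfsg.IsInFrakM p M) (hasym : ¬ Cfsg.IsSymmetricIn (Cfsg.largestPReducedOf p M)) (R : Subgroup G) (hYR : (Cfsg.largestPReducedOf p M) ≤ R) (hRM : R ≤ (M ⊔ Subgroup.centralizer (((Cfsg.largestPReducedOf p M) : Subgroup G) : Set G))) : Cfsg.IsElementaryAbelian p ((Subgroup.normalClosure ((((Cfsg.largestPReducedOf p M)).subgroupOf (Subgroup.normalizer ((R : Subgroup G) : Set G)) : Subgroup ↥(Subgroup.normalizer ((R : Subgroup G) : Set G))) : Set ↥(Subgroup.normalizer ((R : Subgroup G) : Set G)))).map (Subgroup.normalizer ((R : Subgroup G) : Set G)).subtype) := by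
  have hcp := Cfsg.Agent.Lib.Helper5.charp_of_mem_charPSubgroups M hM.1
  obtain ⟨hn, he, _⟩ := Cfsg.Agent.Lib.Helper5.largestPReducedOf_spec (p := p) M hcp
  have hRN : R ≤ Subgroup.normalizer ((Cfsg.largestPReducedOf p M : Subgroup G) : Set G) :=
    hRM.trans (sup_le hn (Subgroup.centralizer_le_normalizer _))
  exact Cfsg.Agent.Lib.Helper5.asym_normalClosure_elemAbelian _ R he hasym hYR hRN

end Cfsg.Agent.S2849
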