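import Cfsg.Statements.S2872
import Cfsg.Agent.Lib.Helper5.Basic
import Cfsg.Agent.Lib.Helper1.PGroupMax

set_option autoImplicit false
open Cfsg

namespace Cfsg.Agent.S2872

open MulAction in
theorem exists_hom_neg_one {G : Type*} [Group G] [Finite G] (S : Sylow 2 G)
    (M' : Subgroup ↥(S : Subgroup G)) (hM' : M'.index = 2)
    (z : G) (hz2 : z ^ 2 = 1) (hzS : z ∈ (S : Subgroup G))
    (hzc : ∀ s ∈ (S : Subgroup G), s * z = z * s) (hzM : (⟨z, hzS⟩ : ↥(S : Subgroup G)) ∉ M')
    (hN : ∀ g ∈ Subgroup.normalizer ((S : Subgroup G) : Set G), g * z * g⁻¹ = z) :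
    ∃ V : G →* ℤˣ, V z = -1 := by
  classical
  haveI : Fintype (G ⧸ (S : Subgroup G)) := Fintype.ofFinite _
  let ϕ : ↥(S : Subgroup G) →* ℤˣ :=
    { toFun := fun x => if x ∈ M' then 1 else -1
      map_one' := by simp [M'.one_mem]
      map_mul' := by
        intro a b
        have h := Subgroup.mul_mem_iff_of_index_two hM' (a := a) (b := b)
        by_cases ha : a ∈ M' <;> by_cases hb : b ∈ M' <;> simp [h, ha, hb] }
  have hϕz : ϕ ⟨z, hzS⟩ = -1 := by
    show (if (⟨z, hzS⟩ : ↥(S : Subgroup G)) ∈ M' then (1 : ℤˣ) else -1) = -1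
    rw [if_neg hzM]
  refine ⟨MonoidHom.transfer ϕ, ?_⟩
  set χ : G → ℤˣ := fun y => if h : y ∈ (S : Subgroup G) then ϕ ⟨y, h⟩ else 1 with hχdef
  have hχ : ∀ (a : G) (h : a ∈ (S : Subgroup G)), ϕ ⟨a, h⟩ = χ a := by
    intro a h
    rw [hχdef]
    simp only [dif_pos h]
  have hχ1 : χ 1 = 1 := by
    rw [← hχ 1 (Subgroup.one_mem _)]
    exact map_one ϕ
  have hχconj : ∀ (y h : G), y ∈ (S : Subgroup G) → h ∈ (S : Subgroup G) →
      χ (h⁻¹ * y * h) = χ y := by
    intro y h hy hh
    rw [← hχ _ (Subgroup.mul_mem _ (Subgroup.mul_mem _ (Subgroup.inv_mem _ hh) hy) hh), ← hχ y hy]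
    have : (⟨h⁻¹ * y * h, Subgroup.mul_mem _ (Subgroup.mul_mem _ (Subgroup.inv_mem _ hh) hy) hh⟩ :
        ↥(S : Subgroup G)) = (⟨h, hh⟩ : ↥(S : Subgroup G))⁻¹ * ⟨y, hy⟩ * ⟨h, hh⟩ := rfl
    rw [this, map_mul, map_mul, map_inv, mul_comm, ← mul_assoc, mul_inv_cancel, one_mul]
  set gfun : G ⧸ (S : Subgroup G) → ℤˣ :=
    fun c => if z • c = c then χ (c.out⁻¹ * z * c.out) else 1 with hgdef
  -- fixedness criterion
  have hfix : ∀ w t : G, w • (t : G ⧸ (S : Subgroup G)) = (t : G ⧸ (S : Subgroup G)) ↔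
      t⁻¹ * w * t ∈ (S : Subgroup G) := by
    intro w t
    rw [MulAction.Quotient.smul_coe, smul_eq_mul, QuotientGroup.eq]
    have e : (w * t)⁻¹ * t = (t⁻¹ * w * t)⁻¹ := by group
    rw [e, Subgroup.inv_mem_iff]
  -- Step A + B : transfer = product of gfun over all cosets
  have hAB : MonoidHom.transfer ϕ z = ∏ c : G ⧸ (S : Subgroup G), gfun c := by
    haveI : Fintype (Quotient (MulAction.orbitRel (Subgroup.zpowers z) (G ⧸ (S : Subgroup G)))) :=
      Fintype.ofFinite _
    rw [MonoidHom.transfer_eq_prod_quotient_orbitRel_zpowers_quot]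
    have hA : ∀ q : Quotient (MulAction.orbitRel (Subgroup.zpowers z) (G ⧸ (S : Subgroup G))),
        ϕ ⟨q.out.out⁻¹ * z ^ Function.minimalPeriod (z • ·) q.out * q.out.out,
          QuotientGroup.out_conj_pow_minimalPeriod_mem (S : Subgroup G) z q.out⟩ = gfun q.out := by
      intro q
      rw [hχ]
      have hdvd : Function.minimalPeriod (z • ·) q.out ∣ 2 := by
        rw [← MulAction.pow_smul_eq_iff_minimalPeriod_dvd, hz2, one_smul]
      rcases (Nat.dvd_prime Nat.prime_two).1 hdvd with h1 | h2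
      · have hf : z • q.out = q.out := Function.minimalPeriod_eq_one_iff_isFixedPt.mp h1
        rw [h1, pow_one, hgdef]
        simp only [hf, if_true]
      · have hnf : ¬ z • q.out = q.out := by
          intro hf
          have := Function.minimalPeriod_eq_one_iff_isFixedPt.mpr
            (show Function.IsFixedPt (z • ·) q.out from hf)
          omega
        rw [h2, hz2, hgdef]
        simp only [hnf, if_false]
        have : q.out.out⁻¹ * 1 * q.out.out = 1 := by group
        rw [this, hχ1]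
    rw [Finset.prod_congr rfl (fun q _ => hA q)]
    apply Finset.prod_bij_ne_one (fun q _ _ => q.out)
    · intro q _ _; exact Finset.mem_univ _
    · intro q₁ _ _ q₂ _ _ h
      exact Quotient.out_injective h
    · intro c _ hc
      have hcf : z • c = c := by
        by_contra hcon
        apply hc
        rw [hgdef]
        simp only [hcon, if_false]
      have hout : (Quotient.mk'' c : Quotient (MulAction.orbitRel (Subgroup.zpowers z)
          (G ⧸ (S : Subgroup G)))).out = c := by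
        have h1 : (Quotient.mk'' (Quotient.mk'' c : Quotient (MulAction.orbitRel
            (Subgroup.zpowers z) (G ⧸ (S : Subgroup G)))).out :
            Quotient (MulAction.orbitRel (Subgroup.zpowers z) (G ⧸ (S : Subgroup G)))) =
            Quotient.mk'' c := Quotient.out_eq' _
        rw [Quotient.eq''] at h1
        rw [MulAction.orbitRel_apply] at h1
        obtain ⟨⟨w, hw⟩, hwc⟩ := h1
        obtain ⟨k, rfl⟩ := hw
        have hst : z ∈ MulAction.stabilizer G c := MulAction.mem_stabilizer_iff.mpr hcf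
        have hk : z ^ k ∈ MulAction.stabilizer G c := Subgroup.zpow_mem _ hst k
        have hk' : z ^ k • c = c := MulAction.mem_stabilizer_iff.mp hk
        rw [← hwc]
        exact hk'
      refine ⟨Quotient.mk'' c, Finset.mem_univ _, ?_, hout⟩
      rw [hout]; exact hc
    · intro q _ _; rfl
  rw [hAB]
  have hginv : ∀ s : G, s ∈ (S : Subgroup G) → ∀ c : G ⧸ (S : Subgroup G),
      gfun (s • c) = gfun c := by
    intro s hs c
    have hcomm : z • (s • c) = s • (z • c) := by
      rw [smul_smul, smul_smul, hzc s hs]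
    rw [hgdef]
    by_cases hf : z • c = c
    · have hf' : z • (s • c) = s • c := by rw [hcomm, hf]
      simp only [hf, hf', if_true]
      set t := c.out with ht
      set t' := (s • c).out with ht'
      have e1 : ((t' : G) : G ⧸ (S : Subgroup G)) = ((s * t : G) : G ⧸ (S : Subgroup G)) := by
        rw [ht', QuotientGroup.out_eq', ← smul_eq_mul, ← MulAction.Quotient.smul_coe, ht,
          QuotientGroup.out_eq']
      have hh : (s * t)⁻¹ * t' ∈ (S : Subgroup G) := QuotientGroup.eq.mp e1.symm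
      have hy : t⁻¹ * z * t ∈ (S : Subgroup G) := by
        rw [← hfix z t, ht, QuotientGroup.out_eq']
        exact hf
      have e2 : t'⁻¹ * z * t' = ((s * t)⁻¹ * t')⁻¹ * (t⁻¹ * z * t) * ((s * t)⁻¹ * t') := by
        have hsz : s⁻¹ * z * s = z := by
          rw [mul_assoc, ← hzc s hs, ← mul_assoc, inv_mul_cancel, one_mul]
        calc t'⁻¹ * z * t' = t'⁻¹ * (s * t) * (t⁻¹ * (s⁻¹ * z * s) * t) * ((s * t)⁻¹ * t') := by
              group
          _ = ((s * t)⁻¹ * t')⁻¹ * (t⁻¹ * z * t) * ((s * t)⁻¹ * t') := by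
              rw [hsz]; group
      rw [e2, hχconj _ _ hy hh]
    · have hf' : ¬ z • (s • c) = s • c := by
        intro h
        apply hf
        rw [hcomm] at h
        exact smul_left_cancel s h
      simp only [hf, hf', if_false]
  have hgfix : ∀ c : G ⧸ (S : Subgroup G), (∀ s ∈ (S : Subgroup G), s • c = c) → gfun c = -1 := by
    intro c hc
    set t := c.out with ht
    have hct : ((t : G) : G ⧸ (S : Subgroup G)) = c := by rw [ht, QuotientGroup.out_eq']
    have hle : (S : Subgroup G).map (MulAut.conj t⁻¹).toMonoidHom ≤ (S : Subgroup G) := by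
      rintro _ ⟨s, hs, rfl⟩
      have := (hfix s t).mp (by rw [hct]; exact hc s hs)
      simpa using this
    have heq : (S : Subgroup G).map (MulAut.conj t⁻¹).toMonoidHom = (S : Subgroup G) := by
      apply Subgroup.eq_of_le_of_card_ge hle
      rw [Subgroup.card_map_of_injective (MulAut.conj t⁻¹).injective]
    have htN : t⁻¹ ∈ Subgroup.normalizer ((S : Subgroup G) : Set G) :=
      (Cfsg.Agent.Lib.Helper5.mem_normalizer_iff_map_conj _ _).mpr heq
    have hz' := hN t⁻¹ htN
    rw [inv_inv] at hz'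
    have hzc' : z • c = c := hc z hzS
    rw [hgdef]
    simp only [hzc', if_true]
    rw [← ht, hz', ← hχ z hzS, hϕz]
  have hprod : ∏ c : G ⧸ (S : Subgroup G), gfun c =
      (-1) ^ (Finset.univ.filter (fun c : G ⧸ (S : Subgroup G) => gfun c = -1)).card := by
    rw [← Finset.prod_filter_mul_prod_filter_not Finset.univ
      (fun c : G ⧸ (S : Subgroup G) => gfun c = -1)]
    have h1 : ∏ c ∈ Finset.univ.filter (fun c : G ⧸ (S : Subgroup G) => gfun c = -1), gfun c =
        (-1) ^ (Finset.univ.filter (fun c : G ⧸ (S : Subgroup G) => gfun c = -1)).card := by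
      rw [Finset.prod_congr rfl (fun c hc => (Finset.mem_filter.mp hc).2), Finset.prod_const]
    have h2 : ∏ c ∈ Finset.univ.filter (fun c : G ⧸ (S : Subgroup G) => ¬ gfun c = -1), gfun c
        = 1 := by
      apply Finset.prod_eq_one
      intro c hc
      rcases Int.units_eq_one_or (gfun c) with h | h
      · exact h
      · exact absurd h (Finset.mem_filter.mp hc).2
    rw [h1, h2, mul_one]
  rw [hprod]
  apply Odd.neg_one_pow
  -- the S-action on F₋
  let F := {c : G ⧸ (S : Subgroup G) // gfun c = -1}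
  letI : MulAction ↥(S : Subgroup G) F :=
    { smul := fun s c => ⟨(s : G) • c.1, by rw [hginv s s.2]; exact c.2⟩
      one_smul := fun c => Subtype.ext (one_smul G c.1)
      mul_smul := fun s t c => Subtype.ext (mul_smul (s : G) (t : G) c.1) }
  have hS2 : IsPGroup 2 ↥(S : Subgroup G) := S.isPGroup'
  have h1 := hS2.card_modEq_card_fixedPoints F
  have h2 := hS2.card_modEq_card_fixedPoints (G ⧸ (S : Subgroup G))
  have e : MulAction.fixedPoints ↥(S : Subgroup G) F ≃
      MulAction.fixedPoints ↥(S : Subgroup G) (G ⧸ (S : Subgroup G)) :=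
    { toFun := fun x => ⟨x.1.1, fun s => congrArg Subtype.val (x.2 s)⟩
      invFun := fun x => ⟨⟨x.1, hgfix x.1 (fun s hs => x.2 ⟨s, hs⟩)⟩, fun s => Subtype.ext (x.2 s)⟩
      left_inv := fun x => rfl
      right_inv := fun x => rfl }
  have h3 : Nat.card F ≡ Nat.card (G ⧸ (S : Subgroup G)) [MOD 2] := by
    rw [Nat.card_congr e] at h1
    exact h1.trans h2.symm
  have h4 : Nat.card F = (Finset.univ.filter (fun c : G ⧸ (S : Subgroup G) => gfun c = -1)).card := by
    rw [Nat.card_eq_fintype_card, Fintype.card_subtype]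
  have h5 : ¬ 2 ∣ Nat.card (G ⧸ (S : Subgroup G)) := S.not_dvd_index
  rw [← h4, ← Nat.not_even_iff_odd, even_iff_two_dvd]
  intro h6
  apply h5
  exact (Nat.modEq_zero_iff_dvd.mp ((h3.symm.trans (Nat.modEq_zero_iff_dvd.mpr h6))))


theorem result {G : Type*} [Group G] [Finite G] (S : Sylow 2 G) : Cfsg.pResidual 2 G ≠ ⊤ ∨ Cfsg.omegaOne 2 ((S : Subgroup G) ⊓ Subgroup.centralizer ((S : Subgroup G) : Set G)) ≤ (frattini ↥(S : Subgroup G)).map (S : Subgroup G).subtype ∨ ∃ g ∈ Subgroup.normalizer ((S : Subgroup G) : Set G), ∃ z ∈ Cfsg.omegaOne 2 ((S : Subgroup G) ⊓ Subgroup.centralizer ((S : Subgroup G) : Set G)), g * z * g⁻¹ ≠ z := by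
  by_contra hcon
  rw [not_or, not_or] at hcon
  obtain ⟨h1, h2, h3⟩ := hcon
  have h1' : Cfsg.pResidual 2 G = ⊤ := not_not.mp h1
  have h3' : ∀ g ∈ Subgroup.normalizer ((S : Subgroup G) : Set G),
      ∀ z ∈ Cfsg.omegaOne 2 ((S : Subgroup G) ⊓ Subgroup.centralizer ((S : Subgroup G) : Set G)),
        g * z * g⁻¹ = z := by
    intro g hg z hz
    by_contra hne
    exact h3 ⟨g, hg, z, hz, hne⟩
  have hex : ∃ z : G, z ∈ (S : Subgroup G) ⊓ Subgroup.centralizer ((S : Subgroup G) : Set G) ∧
      z ^ 2 = 1 ∧ z ∉ (frattini ↥(S : Subgroup G)).map (S : Subgroup G).subtype := by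
    by_contra hno
    apply h2
    unfold Cfsg.omegaOne
    rw [Subgroup.closure_le]
    intro x hx
    by_contra hxn
    exact hno ⟨x, hx.1, hx.2, hxn⟩
  obtain ⟨z, hzZ, hz2, hzΦ⟩ := hex
  have hzS : z ∈ (S : Subgroup G) := hzZ.1
  have hzc : ∀ s ∈ (S : Subgroup G), s * z = z * s := by
    intro s hs
    exact (Subgroup.mem_centralizer_iff.mp hzZ.2) s hs
  have hzΩ : z ∈ Cfsg.omegaOne 2 ((S : Subgroup G) ⊓ Subgroup.centralizer ((S : Subgroup G) : Set G)) :=
    Subgroup.subset_closure ⟨hzZ, hz2⟩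
  have hco : ∃ M' : Subgroup ↥(S : Subgroup G), IsCoatom M' ∧ (⟨z, hzS⟩ : ↥(S : Subgroup G)) ∉ M' := by
    by_contra hno
    apply hzΦ
    refine ⟨⟨z, hzS⟩, ?_, rfl⟩
    show (⟨z, hzS⟩ : ↥(S : Subgroup G)) ∈ frattini ↥(S : Subgroup G)
    simp only [frattini, Order.radical, Subgroup.mem_iInf]
    intro M' hM'
    by_contra hz
    exact hno ⟨M', hM', hz⟩
  obtain ⟨M', hM'co, hzM'⟩ := hco
  have hS2 : IsPGroup 2 ↥(S : Subgroup G) := S.isPGroup'
  haveI : M'.Normal := Cfsg.Agent.Lib.Helper1.coatom_normal_of_isPGroup hS2 hM'co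
  have hidx : M'.index = 2 := by
    rw [Subgroup.index_eq_card]
    exact Cfsg.Agent.Lib.Helper1.card_quotient_coatom_of_isPGroup hS2 hM'co
  obtain ⟨V, hV⟩ := exists_hom_neg_one S M' hidx z hz2 hzS hzc hzM'
    (fun g hg => h3' g hg z hzΩ)
  have hle : Cfsg.pResidual 2 G ≤ V.ker := by
    unfold Cfsg.pResidual
    rw [Subgroup.closure_le]
    intro g hg
    have hg' : (orderOf g).Coprime 2 := hg
    rw [SetLike.mem_coe, MonoidHom.mem_ker]
    have h5 : orderOf (V g) ∣ orderOf g := orderOf_map_dvd V g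
    have h6 : orderOf (V g) ∣ 2 := by
      apply orderOf_dvd_of_pow_eq_one
      rcases Int.units_eq_one_or (V g) with h | h
      · rw [h, one_pow]
      · rw [h]; decide
    have h7 : orderOf (V g) ∣ Nat.gcd (orderOf g) 2 := Nat.dvd_gcd h5 h6
    rw [hg', Nat.dvd_one] at h7
    exact orderOf_eq_one_iff.mp h7
  rw [h1'] at hle
  have : z ∈ V.ker := hle (Subgroup.mem_top z)
  rw [MonoidHom.mem_ker, hV] at this
  exact absurd this (by decide)

end Cfsg.Agent.S2872
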