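import Cfsg.Statements.S2873
import Mathlib
import Cfsg.Agent.Lib.Helper4.Cores

set_option autoImplicit false
open Cfsg

namespace Cfsg.Agent.S2873

open Subgroup DihedralGroup

structure Ctx {G : Type*} [Group G] (r : ℕ) (Q R : Subgroup G) (π : G →* DihedralGroup r) : Prop where
  ker : ∀ x, π x = 1 ↔ x ∈ Q
  inj : ∀ x ∈ normalizer (R : Set G), ∀ y ∈ normalizer (R : Set G), π x = π y → x = y
  surj : ∀ d, ∃ x ∈ normalizer (R : Set G), π x = d
  dec : ∀ g : G, ∃ y ∈ Q, ∃ n ∈ normalizer (R : Set G), g = y * n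
  syl : ∀ z : G, orderOf z = r → ∃ g : G, ∀ x, x ∈ R ↔ g * x * g⁻¹ ∈ zpowers z
  cent1 : ∀ ρ₀ ∈ R, ρ₀ ≠ 1 → ∀ x ∈ Q, x * ρ₀ = ρ₀ * x → x = 1
  gen : ∃ ρ ∈ R, ∃ k : ZMod r, k ≠ 0 ∧ π ρ = DihedralGroup.r k

section build
variable {G : Type*} [Group G] [Finite G] {r : ℕ} [Fact r.Prime]

theorem two_ne_zero' (hr : r ≠ 2) : (2 : ZMod r) ≠ 0 := by
  intro h
  have h2 : ((2 : ℕ) : ZMod r) = 0 := by exact_mod_cast h
  rw [ZMod.natCast_eq_zero_iff] at h2
  have hp : r.Prime := Fact.out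
  have := (Nat.prime_dvd_prime_iff_eq hp Nat.prime_two).1 h2
  exact hr this

theorem orderOf_r_of_ne (k : ZMod r) (hk : k ≠ 0) : orderOf (DihedralGroup.r k) = r := by
  apply orderOf_eq_prime
  · rw [DihedralGroup.r_pow]
    simp
  · intro h
    rw [DihedralGroup.one_def] at h
    injection h with h
    exact hk h

theorem card_G (Q : Subgroup G) (π : G →* DihedralGroup r) (hπ : Function.Surjective π)
    (hker : π.ker = Q) : Nat.card G = Nat.card Q * (2 * r) := by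
  have h1 := Subgroup.card_mul_index π.ker
  rw [Subgroup.index_ker, MonoidHom.range_eq_top.2 hπ, Subgroup.card_top, DihedralGroup.nat_card, hker] at h1
  exact h1.symm

theorem card_R (hr : r ≠ 2) (Q : Subgroup G) (hQ : IsPGroup 2 Q) (π : G →* DihedralGroup r)
    (hπ : Function.Surjective π) (hker : π.ker = Q) (R : Sylow r G) : Nat.card (R : Subgroup G) = r := by
  have hp : r.Prime := Fact.out
  rw [R.card_eq_multiplicity, card_G Q π hπ hker]
  obtain ⟨n, hn⟩ := IsPGroup.iff_card.1 hQ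
  rw [hn]
  have : (2 ^ n * (2 * r)).factorization r = 1 := by
    rw [Nat.factorization_def _ hp]
    have h2 : padicValNat r 2 = 0 := by
      apply padicValNat.eq_zero_of_not_dvd
      intro h
      exact hr ((Nat.prime_dvd_prime_iff_eq hp Nat.prime_two).1 h)
    rw [padicValNat.mul (by positivity) (by have := hp.pos; positivity), padicValNat.pow,
      padicValNat.mul (by norm_num) hp.ne_zero, h2, padicValNat_self]
    simp
  rw [this, pow_one]

theorem mkCtx (hr : r ≠ 2) (Q : Subgroup G) [hN : Q.Normal] (hQ : IsPGroup 2 Q) (π : G →* DihedralGroup r)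
    (hπ : Function.Surjective π) (hker : π.ker = Q) (R : Sylow r G)
    (hC : Q ⊓ Subgroup.centralizer ((R : Subgroup G) : Set G) = ⊥) :
    Ctx r Q (R : Subgroup G) π := by
  have hp : r.Prime := Fact.out
  have hcR := card_R hr Q hQ π hπ hker R
  have hkerI : ∀ x, π x = 1 ↔ x ∈ Q := by
    intro x
    rw [← hker, MonoidHom.mem_ker]
  -- R ∩ Q = 1
  have hdisj : ∀ x ∈ (R : Subgroup G), x ∈ Q → x = 1 := by
    intro x hx hxQ
    have := IsPGroup.disjoint_of_ne r 2 hr (R : Subgroup G) Q R.isPGroup' hQ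
    rw [Subgroup.disjoint_def] at this
    exact this hx hxQ
  -- rotations
  have hrot : ∀ ρ ∈ (R : Subgroup G), ρ ≠ 1 → ∃ k : ZMod r, k ≠ 0 ∧ π ρ = DihedralGroup.r k := by
    intro ρ hρ hρ1
    have hpow : ρ ^ r = 1 := by
      have : (⟨ρ, hρ⟩ : (R : Subgroup G)) ^ Nat.card (R : Subgroup G) = 1 := pow_card_eq_one'
      rw [hcR] at this
      exact congrArg Subtype.val this
    have hpow' : (π ρ) ^ r = 1 := by rw [← map_pow, hpow, map_one]
    rcases hh : π ρ with k | i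
    · refine ⟨k, ?_, rfl⟩
      rintro rfl
      apply hρ1
      apply hdisj ρ hρ
      rw [← hkerI, hh]
      rfl
    · exfalso
      rw [hh] at hpow'
      have := orderOf_dvd_of_pow_eq_one hpow'
      rw [DihedralGroup.orderOf_sr] at this
      exact hr ((Nat.prime_dvd_prime_iff_eq Nat.prime_two hp).1 this).symm
  -- generators
  have hgen : ∀ ρ ∈ (R : Subgroup G), ρ ≠ 1 → (R : Subgroup G) = zpowers ρ := by
    intro ρ hρ hρ1
    symm
    apply Subgroup.eq_of_le_of_card_ge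
    · rw [Subgroup.zpowers_le]
      exact hρ
    · rw [hcR, Nat.card_zpowers]
      apply le_of_eq
      symm
      apply orderOf_eq_prime _ hρ1
      have : (⟨ρ, hρ⟩ : (R : Subgroup G)) ^ Nat.card (R : Subgroup G) = 1 := pow_card_eq_one'
      rw [hcR] at this
      exact congrArg Subtype.val this
  -- existence of a nontrivial element
  have hex : ∃ ρ ∈ (R : Subgroup G), ρ ≠ 1 := by
    by_contra hcon
    push Not at hcon
    have : (R : Subgroup G) = ⊥ := by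
      rw [Subgroup.eq_bot_iff_forall]
      exact hcon
    rw [this, Subgroup.card_bot] at hcR
    exact hp.one_lt.ne hcR
  obtain ⟨ρ, hρ, hρ1⟩ := hex
  obtain ⟨k, hk, hπρ⟩ := hrot ρ hρ hρ1
  -- Frattini
  have hmapR : Subgroup.map π (R : Subgroup G) = zpowers (DihedralGroup.r k) := by
    rw [hgen ρ hρ hρ1, MonoidHom.map_zpowers, hπρ]
  have hidx : (Subgroup.map π (R : Subgroup G)).index = 2 := by
    rw [hmapR]
    have h1 := Subgroup.card_mul_index (zpowers (DihedralGroup.r k))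
    rw [Nat.card_zpowers, orderOf_r_of_ne k hk, DihedralGroup.nat_card, mul_comm] at h1
    exact Nat.eq_of_mul_eq_mul_right hp.pos h1
  haveI hmn : (Subgroup.map π (R : Subgroup G)).Normal := Subgroup.normal_of_index_eq_two hidx
  have hXeq : Subgroup.comap π (Subgroup.map π (R : Subgroup G)) = (R : Subgroup G) ⊔ Q := by
    rw [Subgroup.comap_map_eq, hker]
  haveI hXn : ((R : Subgroup G) ⊔ Q).Normal := by
    rw [← hXeq]
    exact Subgroup.normal_comap π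
  have hRX : (R : Subgroup G) ≤ (R : Subgroup G) ⊔ Q := le_sup_left
  have hfr := Sylow.normalizer_sup_eq_top (R.subtype hRX)
  rw [Sylow.coe_subtype, Subgroup.map_subgroupOf_eq_of_le hRX] at hfr
  have htop : Q ⊔ normalizer ((R : Subgroup G) : Set G) = ⊤ := by
    rw [eq_top_iff, ← hfr]
    apply sup_le
    · exact le_sup_right
    · apply sup_le
      · exact le_trans Subgroup.le_normalizer le_sup_right
      · exact le_sup_left
  -- N ∩ Q = 1
  have hNQ : ∀ x ∈ normalizer ((R : Subgroup G) : Set G), x ∈ Q → x = 1 := by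
    intro x hxN hxQ
    have hx : x ∈ Q ⊓ Subgroup.centralizer ((R : Subgroup G) : Set G) := by
      refine Subgroup.mem_inf.2 ⟨hxQ, ?_⟩
      refine Subgroup.mem_centralizer_iff.2 ?_
      intro y hy
      have hy' : y ∈ (R : Subgroup G) := hy
      have h1 : x * y * x⁻¹ * y⁻¹ ∈ (R : Subgroup G) :=
        mul_mem ((Subgroup.mem_normalizer_iff.1 hxN y).1 hy') (inv_mem hy')
      have h2 : x * y * x⁻¹ * y⁻¹ ∈ Q := by
        have : x * y * x⁻¹ * y⁻¹ = x * (y * x⁻¹ * y⁻¹) := by group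
        rw [this]
        exact mul_mem hxQ (hN.conj_mem _ (inv_mem hxQ) y)
      have h3 := hdisj _ h1 h2
      have : x * y = (x * y * x⁻¹ * y⁻¹) * (y * x) := by group
      rw [this, h3, one_mul]
    rw [hC] at hx
    exact Subgroup.mem_bot.1 hx
  have hinj : ∀ x ∈ normalizer ((R : Subgroup G) : Set G), ∀ y ∈ normalizer ((R : Subgroup G) : Set G),
      π x = π y → x = y := by
    intro x hx y hy hxy
    have h1 : x⁻¹ * y ∈ Q := by
      rw [← hkerI, map_mul, map_inv, hxy, inv_mul_cancel]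
    have h2 := hNQ _ (mul_mem (inv_mem hx) hy) h1
    exact inv_mul_eq_one.1 h2
  have hdec : ∀ g : G, ∃ y ∈ Q, ∃ n ∈ normalizer ((R : Subgroup G) : Set G), g = y * n := by
    intro g
    have hg : g ∈ Q ⊔ normalizer ((R : Subgroup G) : Set G) := by rw [htop]; exact Subgroup.mem_top g
    rw [Subgroup.mem_sup_of_normal_left] at hg
    obtain ⟨y, hy, n, hn, rfl⟩ := hg
    exact ⟨y, hy, n, hn, rfl⟩
  refine ⟨hkerI, hinj, ?_, hdec, ?_, ?_, ⟨ρ, hρ, k, hk, hπρ⟩⟩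
  · intro d
    obtain ⟨g, rfl⟩ := hπ d
    obtain ⟨y, hy, n, hn, rfl⟩ := hdec g
    refine ⟨n, hn, ?_⟩
    rw [map_mul, (hkerI y).2 hy, one_mul]
  · intro z hz
    have hcz : Nat.card (zpowers z) = r ^ (Nat.card G).factorization r := by
      rw [Nat.card_zpowers, hz, ← R.card_eq_multiplicity, hcR]
    obtain ⟨g, hg⟩ := MulAction.exists_smul_eq G R (Sylow.ofCard (zpowers z) hcz)
    refine ⟨g, ?_⟩
    intro x
    have h1 : ((g • R : Sylow r G) : Subgroup G) = zpowers z := by rw [hg]; rfl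
    rw [Sylow.coe_subgroup_smul] at h1
    rw [← h1, Subgroup.mem_smul_pointwise_iff_exists]
    constructor
    · intro hx
      exact ⟨x, hx, rfl⟩
    · rintro ⟨s, hs, hsx⟩
      rw [MulAut.smul_def, MulAut.conj_apply] at hsx
      have : s = x := by
        have := congrArg (fun t => g⁻¹ * t * g) hsx
        simpa [mul_assoc] using this
      rw [← this]
      exact hs
  · intro ρ₀ hρ₀ hρ₀1 x hxQ hcomm
    have hx : x ∈ Q ⊓ Subgroup.centralizer ((R : Subgroup G) : Set G) := by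
      refine Subgroup.mem_inf.2 ⟨hxQ, ?_⟩
      refine Subgroup.mem_centralizer_iff.2 ?_
      intro y hy
      have hy' : y ∈ (R : Subgroup G) := hy
      rw [hgen ρ₀ hρ₀ hρ₀1, Subgroup.mem_zpowers_iff] at hy'
      obtain ⟨t, rfl⟩ := hy'
      have hc : Commute x ρ₀ := hcomm
      exact ((hc.zpow_right t).eq).symm
    rw [hC] at hx
    exact Subgroup.mem_bot.1 hx

end build

theorem inv_mem_normalizer {G : Type*} [Group G] (b z : G) (hb : b * b = 1) (hz : b * z * b⁻¹ = z⁻¹) :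
    b ∈ normalizer ((zpowers z : Subgroup G) : Set G) := by
  have key : ∀ x ∈ zpowers z, b * x * b⁻¹ ∈ zpowers z := by
    intro x hx
    obtain ⟨t, rfl⟩ := Subgroup.mem_zpowers_iff.1 hx
    rw [← conj_zpow, hz]
    exact zpow_mem (inv_mem (Subgroup.mem_zpowers z)) t
  rw [Subgroup.mem_normalizer_iff]
  intro x
  refine ⟨key x, fun h => ?_⟩
  have h2 := key _ h
  have hb' : b⁻¹ = b := inv_eq_of_mul_eq_one_right hb
  have e : b * (b * x * b⁻¹) * b⁻¹ = x := by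
    rw [hb']
    calc b * (b * x * b) * b = (b * b) * x * (b * b) := by group
    _ = x := by rw [hb, one_mul, mul_one]
  rwa [e] at h2

theorem conj_mem_normalizer {G : Type*} [Group G] (R P : Subgroup G) (y b : G)
    (hP : ∀ x, x ∈ R ↔ y * x * y⁻¹ ∈ P) (hb : b ∈ normalizer (P : Set G)) :
    y⁻¹ * b * y ∈ normalizer (R : Set G) := by
  rw [Subgroup.mem_normalizer_iff] at hb ⊢
  intro x
  rw [hP x, hP (y⁻¹ * b * y * x * (y⁻¹ * b * y)⁻¹), hb (y * x * y⁻¹)]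
  have : y * (y⁻¹ * b * y * x * (y⁻¹ * b * y)⁻¹) * y⁻¹ = b * (y * x * y⁻¹) * b⁻¹ := by group
  rw [this]

section main
variable {G : Type*} [Group G] [Finite G] {r : ℕ} [Fact r.Prime] {Q R : Subgroup G} [hN : Q.Normal]
  {π : G →* DihedralGroup r}

theorem iso (c : Ctx r Q R π) : Nonempty (↥(normalizer (R : Set G)) ≃* DihedralGroup r) := by
  refine ⟨MulEquiv.ofBijective (π.comp (normalizer (R : Set G)).subtype) ⟨?_, ?_⟩⟩
  · intro x y hxy
    exact Subtype.ext (c.inj x x.2 y y.2 hxy)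
  · intro d
    obtain ⟨x, hx, rfl⟩ := c.surj d
    exact ⟨⟨x, hx⟩, rfl⟩

theorem pi_invol (hr : r ≠ 2) (c : Ctx r Q R π) (a : G) (ha : a * a = 1) (haQ : a ∉ Q) :
    ∃ j, π a = sr j := by
  rcases hh : π a with k | j
  · exfalso
    have h1 : π a * π a = 1 := by rw [← map_mul, ha, map_one]
    rw [hh, r_mul_r, one_def] at h1
    injection h1 with h1
    have : (2 : ZMod r) * k = 0 := by rw [two_mul]; exact h1
    rcases mul_eq_zero.1 this with h | h
    · exact two_ne_zero' hr h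
    · apply haQ
      rw [← c.ker, hh, h]
      rfl
  · exact ⟨j, rfl⟩

theorem lemL (c : Ctx r Q R π) (b d : G) (hb : b * b = 1) (hd : d * d = 1) (i j : ZMod r)
    (hbi : π b = sr i) (hdj : π d = sr j) (hij : i ≠ j) :
    ∃ y ∈ Q, y⁻¹ * b * y ∈ normalizer (R : Set G) ∧ y⁻¹ * d * y ∈ normalizer (R : Set G) := by
  have hp : r.Prime := Fact.out
  have hbinv : b⁻¹ = b := inv_eq_of_mul_eq_one_right hb
  have hdinv : d⁻¹ = d := inv_eq_of_mul_eq_one_right hd
  have hbw : b * (b * d) * b⁻¹ = (b * d)⁻¹ := by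
    rw [mul_inv_rev, hbinv, hdinv, ← mul_assoc, hb, one_mul]
  have hdw : d * (b * d) * d⁻¹ = (b * d)⁻¹ := by
    rw [mul_inv_rev, hbinv, hdinv, mul_assoc, mul_assoc, hd, mul_one]
  have hπw : π (b * d) = DihedralGroup.r (j - i) := by rw [map_mul, hbi, hdj, sr_mul_sr]
  have hord : orderOf (π (b * d)) = r := by
    rw [hπw]
    exact orderOf_r_of_ne _ (sub_ne_zero.2 hij.symm)
  have hdvd : r ∣ orderOf (b * d) := by
    rw [← hord]
    exact orderOf_map_dvd π (b * d)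
  have hmpos : 0 < orderOf (b * d) := orderOf_pos (b * d)
  have hzord : orderOf ((b * d) ^ (orderOf (b * d) / r)) = r := by
    rw [orderOf_pow_of_dvd _ (Nat.div_dvd_of_dvd hdvd)]
    · exact Nat.div_div_self hdvd hmpos.ne'
    · exact (Nat.div_pos (Nat.le_of_dvd hmpos hdvd) hp.pos).ne'
  have hbz : b * ((b * d) ^ (orderOf (b * d) / r)) * b⁻¹ = ((b * d) ^ (orderOf (b * d) / r))⁻¹ := by
    rw [← conj_pow, hbw, inv_pow]
  have hdz : d * ((b * d) ^ (orderOf (b * d) / r)) * d⁻¹ = ((b * d) ^ (orderOf (b * d) / r))⁻¹ := by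
    rw [← conj_pow, hdw, inv_pow]
  obtain ⟨g, hg⟩ := c.syl _ hzord
  obtain ⟨y, hy, n, hn, rfl⟩ := c.dec g
  have hP : ∀ x, x ∈ R ↔ y * x * y⁻¹ ∈ zpowers ((b * d) ^ (orderOf (b * d) / r)) := by
    intro x
    have hn' : n⁻¹ ∈ normalizer (R : Set G) := inv_mem hn
    rw [Subgroup.mem_normalizer_iff.1 hn' x, hg]
    have : y * n * (n⁻¹ * x * n⁻¹⁻¹) * (y * n)⁻¹ = y * x * y⁻¹ := by group
    rw [this]
  exact ⟨y, hy, conj_mem_normalizer R _ y b hP (inv_mem_normalizer b _ hb hbz),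
    conj_mem_normalizer R _ y d hP (inv_mem_normalizer d _ hd hdz)⟩

theorem invol_facts (hr : r ≠ 2) (c : Ctx r Q R π) (a : G) (haN : a ∈ normalizer (R : Set G))
    (ha : orderOf a = 2) : a * a = 1 ∧ ∃ j, π a = sr j := by
  have ha2 : a * a = 1 := by rw [← sq, ← ha, pow_orderOf_eq_one]
  have ha1 : a ≠ 1 := by
    rintro rfl
    rw [orderOf_one] at ha
    omega
  have haQ : a ∉ Q := by
    intro h
    apply ha1
    apply c.inj a haN 1 (one_mem _)
    rw [map_one, c.ker]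
    exact h
  exact ⟨ha2, pi_invol hr c a ha2 haQ⟩

theorem conj_invol (hr : r ≠ 2) (c : Ctx r Q R π) (a : G) (haN : a ∈ normalizer (R : Set G))
    (ha : orderOf a = 2) (b : G) (hb : orderOf b = 2) (hbQ : b ∉ Q) : ∃ g : G, g * a * g⁻¹ = b := by
  obtain ⟨ha2, j, hj⟩ := invol_facts hr c a haN ha
  have hb2 : b * b = 1 := by rw [← sq, ← hb, pow_orderOf_eq_one]
  obtain ⟨i, hi⟩ := pi_invol hr c b hb2 hbQ
  obtain ⟨d, hdN, hd⟩ := c.surj (sr (i + 1))
  have hd2 : d * d = 1 := by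
    apply c.inj _ (mul_mem hdN hdN) 1 (one_mem _)
    rw [map_mul, hd, map_one, sr_mul_self]
  obtain ⟨y, hy, hyb, -⟩ := lemL c b d hb2 hd2 i (i+1) hi hd (by simp)
  obtain ⟨n, hnN, hn⟩ := c.surj (DihedralGroup.r ((j - i) * 2⁻¹))
  have hπy : π y = 1 := (c.ker y).2 hy
  have h2 : (2:ZMod r) * 2⁻¹ = 1 := mul_inv_cancel₀ (two_ne_zero' hr)
  have key : n * a * n⁻¹ = y⁻¹ * b * y := by
    apply c.inj _ (mul_mem (mul_mem hnN haN) (inv_mem hnN)) _ hyb
    rw [map_mul, map_mul, map_inv, hn, hj, map_mul, map_mul, map_inv, hπy, hi]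
    simp only [inv_one, one_mul, mul_one, r_mul_sr, inv_r, sr_mul_r]
    congr 1
    linear_combination (i - j) * h2
  refine ⟨y * n, ?_⟩
  calc y * n * a * (y * n)⁻¹ = y * (n * a * n⁻¹) * y⁻¹ := by group
    _ = b := by rw [key]; group

theorem card_sq (hr : r ≠ 2) (c : Ctx r Q R π) (a : G) (haN : a ∈ normalizer (R : Set G))
    (ha : orderOf a = 2) :
    Nat.card ↥(Q ⊓ centralizer ({a} : Set G)) ^ 2 = Nat.card ↥Q := by
  obtain ⟨ha2, j, hj⟩ := invol_facts hr c a haN ha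
  obtain ⟨ρ, hρ, k, hk, hπρ⟩ := c.gen
  have hρN : ρ ∈ normalizer (R : Set G) := Subgroup.le_normalizer hρ
  have ha'N : ρ * a * ρ⁻¹ ∈ normalizer (R : Set G) := mul_mem (mul_mem hρN haN) (inv_mem hρN)
  have ha'2 : (ρ * a * ρ⁻¹) * (ρ * a * ρ⁻¹) = 1 := by
    calc (ρ * a * ρ⁻¹) * (ρ * a * ρ⁻¹) = ρ * (a * a) * ρ⁻¹ := by group
    _ = 1 := by rw [ha2]; group
  have hπa' : π (ρ * a * ρ⁻¹) = sr (j - k - k) := by
    rw [map_mul, map_mul, map_inv, hπρ, hj]
    simp only [r_mul_sr, inv_r, sr_mul_r]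
    congr 1
    ring
  have hjk : j ≠ j - k - k := by
    intro h
    have : (2 : ZMod r) * k = 0 := by linear_combination h
    rcases mul_eq_zero.1 this with h | h
    · exact two_ne_zero' hr h
    · exact hk h
  have hainv : a⁻¹ = a := inv_eq_of_mul_eq_one_right ha2
  -- intersection trivial
  have hint : ∀ x ∈ Q, x * a = a * x → x * (ρ * a * ρ⁻¹) = (ρ * a * ρ⁻¹) * x → x = 1 := by
    intro x hxQ h1 h2
    have hρ₀ : a * (ρ * a * ρ⁻¹) ∈ R := by
      have : a * (ρ * a * ρ⁻¹) = (a * ρ * a⁻¹) * ρ⁻¹ := by rw [hainv]; group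
      rw [this]
      exact mul_mem ((Subgroup.mem_normalizer_iff.1 haN ρ).1 hρ) (inv_mem hρ)
    have hne : a * (ρ * a * ρ⁻¹) ≠ 1 := by
      intro h
      have := congrArg π h
      rw [map_mul, hj, hπa', sr_mul_sr, map_one, one_def] at this
      injection this with this
      exact hjk (by linear_combination -this)
    apply c.cent1 _ hρ₀ hne x hxQ
    rw [← mul_assoc, h1, mul_assoc, h2, mul_assoc]
    simp only [mul_assoc]
  -- surjectivity
  have hsurj : ∀ q ∈ Q, ∃ x ∈ Q, x * a = a * x ∧ ∃ y ∈ Q, y * a = a * y ∧ q = x * (ρ * y * ρ⁻¹) := by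
    intro q hq
    have hb2 : (q⁻¹ * a * q) * (q⁻¹ * a * q) = 1 := by
      calc (q⁻¹ * a * q) * (q⁻¹ * a * q) = q⁻¹ * (a * a) * q := by group
      _ = 1 := by rw [ha2]; group
    have hπq : π q = 1 := (c.ker q).2 hq
    have hπb : π (q⁻¹ * a * q) = sr j := by
      rw [map_mul, map_mul, map_inv, hπq, hj]
      simp
    obtain ⟨y, hy, hyb, hya'⟩ := lemL c (q⁻¹ * a * q) (ρ * a * ρ⁻¹) hb2 ha'2 j (j - k - k) hπb hπa' hjk
    have hπy : π y = 1 := (c.ker y).2 hy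
    have e1 : y⁻¹ * (q⁻¹ * a * q) * y = a := by
      apply c.inj _ hyb _ haN
      rw [map_mul, map_mul, map_inv, hπy, hπb, hj]
      simp
    have e2 : y⁻¹ * (ρ * a * ρ⁻¹) * y = ρ * a * ρ⁻¹ := by
      apply c.inj _ hya' _ ha'N
      rw [map_mul, map_mul, map_inv, hπy]
      simp
    refine ⟨q * y, mul_mem hq hy, ?_, ρ⁻¹ * y⁻¹ * ρ, ?_, ?_, ?_⟩
    · calc q * y * a = q * y * (y⁻¹ * (q⁻¹ * a * q) * y) := by rw [e1]
        _ = a * (q * y) := by group
    · have := hN.conj_mem _ (inv_mem hy) ρ⁻¹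
      rwa [inv_inv] at this
    · calc ρ⁻¹ * y⁻¹ * ρ * a = ρ⁻¹ * (y⁻¹ * (ρ * a * ρ⁻¹) * y) * y⁻¹ * ρ := by group
        _ = a * (ρ⁻¹ * y⁻¹ * ρ) := by rw [e2]; group
    · group
  -- the bijection
  have hmem : ∀ p : ↥(Q ⊓ centralizer ({a} : Set G)) × ↥(Q ⊓ centralizer ({a} : Set G)),
      (p.1 : G) * (ρ * (p.2 : G) * ρ⁻¹) ∈ Q := by
    intro p
    exact mul_mem (Subgroup.mem_inf.1 p.1.2).1 (hN.conj_mem _ (Subgroup.mem_inf.1 p.2.2).1 ρ)
  have hbij : Function.Bijective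
      (fun p : ↥(Q ⊓ centralizer ({a} : Set G)) × ↥(Q ⊓ centralizer ({a} : Set G)) =>
        (⟨(p.1 : G) * (ρ * (p.2 : G) * ρ⁻¹), hmem p⟩ : ↥Q)) := by
    constructor
    · rintro ⟨⟨x₁, hx₁⟩, ⟨y₁, hy₁⟩⟩ ⟨⟨x₂, hx₂⟩, ⟨y₂, hy₂⟩⟩ h
      have h' : x₁ * (ρ * y₁ * ρ⁻¹) = x₂ * (ρ * y₂ * ρ⁻¹) := congrArg Subtype.val h
      obtain ⟨hx₁Q, hx₁a⟩ := Subgroup.mem_inf.1 hx₁
      obtain ⟨hx₂Q, hx₂a⟩ := Subgroup.mem_inf.1 hx₂
      obtain ⟨hy₁Q, hy₁a⟩ := Subgroup.mem_inf.1 hy₁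
      obtain ⟨hy₂Q, hy₂a⟩ := Subgroup.mem_inf.1 hy₂
      rw [Subgroup.mem_centralizer_singleton_iff] at hx₁a hx₂a hy₁a hy₂a
      have hu : x₂⁻¹ * x₁ = ρ * (y₂ * y₁⁻¹) * ρ⁻¹ := by
        have : x₁ = x₂ * (ρ * y₂ * ρ⁻¹) * (ρ * y₁ * ρ⁻¹)⁻¹ := by rw [← h']; group
        rw [this]
        group
      have hc1 : Commute (x₂⁻¹ * x₁) a := (Commute.inv_left hx₂a).mul_left hx₁a
      have hcv : Commute (y₂ * y₁⁻¹) a := (Commute.mul_left hy₂a (Commute.inv_left hy₁a))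
      have hc2 : (x₂⁻¹ * x₁) * (ρ * a * ρ⁻¹) = (ρ * a * ρ⁻¹) * (x₂⁻¹ * x₁) := by
        rw [hu]
        calc ρ * (y₂ * y₁⁻¹) * ρ⁻¹ * (ρ * a * ρ⁻¹) = ρ * ((y₂ * y₁⁻¹) * a) * ρ⁻¹ := by group
          _ = ρ * (a * (y₂ * y₁⁻¹)) * ρ⁻¹ := by rw [hcv.eq]
          _ = (ρ * a * ρ⁻¹) * (ρ * (y₂ * y₁⁻¹) * ρ⁻¹) := by group
      have hu1 := hint _ (mul_mem (inv_mem hx₂Q) hx₁Q) hc1.eq hc2
      have hx : x₁ = x₂ := by
        have := inv_mul_eq_one.1 hu1
        exact this.symm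
      have hy : y₁ = y₂ := by
        rw [hu1] at hu
        have : y₂ * y₁⁻¹ = 1 := by
          have h3 : ρ⁻¹ * 1 * ρ = ρ⁻¹ * (ρ * (y₂ * y₁⁻¹) * ρ⁻¹) * ρ := by rw [← hu]
          have h4 : ρ⁻¹ * (ρ * (y₂ * y₁⁻¹) * ρ⁻¹) * ρ = y₂ * y₁⁻¹ := by group
          rw [h4] at h3
          rw [← h3]
          group
        exact (mul_inv_eq_one.1 this).symm
      subst hx
      subst hy
      rfl
    · rintro ⟨q, hq⟩
      obtain ⟨x, hxQ, hxa, y, hyQ, hya, hqe⟩ := hsurj q hq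
      refine ⟨(⟨x, Subgroup.mem_inf.2 ⟨hxQ, Subgroup.mem_centralizer_singleton_iff.2 hxa⟩⟩,
        ⟨y, Subgroup.mem_inf.2 ⟨hyQ, Subgroup.mem_centralizer_singleton_iff.2 hya⟩⟩), ?_⟩
      apply Subtype.ext
      exact hqe.symm
  have := Nat.card_congr (Equiv.ofBijective _ hbij)
  rw [Nat.card_prod] at this
  rw [sq, this]

end main

theorem main2873 {G : Type*} [Group G] [Finite G] {r : ℕ} [Fact r.Prime] (hr : r ≠ 2) [hN : (Cfsg.pCore 2 G).Normal] (hquot : Nonempty (G ⧸ Cfsg.pCore 2 G ≃* DihedralGroup r)) (R : Sylow r G) (hC : Cfsg.pCore 2 G ⊓ Subgroup.centralizer ((R : Subgroup G) : Set G) = ⊥) : Nonempty (↥(Subgroup.normalizer ((R : Subgroup G) : Set G)) ≃* DihedralGroup r) ∧ ∀ a : G, a ∈ Subgroup.normalizer ((R : Subgroup G) : Set G) → orderOf a = 2 → (∀ b : G, orderOf b = 2 → b ∉ Cfsg.pCore 2 G → ∃ g : G, g * a * g⁻¹ = b) ∧ Nat.card ↥(Cfsg.pCore 2 G ⊓ Subgroup.centralizer ({a} : Set G)) ^ 2 = Nat.card ↥(Cfsg.pCore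 2 G) := by
  obtain ⟨e⟩ := hquot
  have hπ : Function.Surjective (e.toMonoidHom.comp (QuotientGroup.mk' (Cfsg.pCore 2 G))) := by
    intro d
    obtain ⟨x, hx⟩ := QuotientGroup.mk'_surjective (Cfsg.pCore 2 G) (e.symm d)
    refine ⟨x, ?_⟩
    have hx' : ((x : G) : G ⧸ Cfsg.pCore 2 G) = e.symm d := hx
    simp [hx']
  have hker : (e.toMonoidHom.comp (QuotientGroup.mk' (Cfsg.pCore 2 G))).ker = Cfsg.pCore 2 G := by
    ext x
    simp [MonoidHom.mem_ker]
  have c := mkCtx hr (Cfsg.pCore 2 G) Cfsg.Agent.Lib.Helper4.pCore_isPGroup _ hπ hker R hC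
  refine ⟨iso c, fun a haN ha => ⟨fun b hb hbQ => conj_invol hr c a haN ha b hb hbQ, card_sq hr c a haN ha⟩⟩


/-- Let G be a finite group and r an odd prime such that G ⧸ O₂(G) is dihedral of order 2r, and let R be a Sylow r-subgroup of G with C_{O₂(G)}(R) = 1. Then N_G(R) is dihedral of order 2r; for any involution a of N_G(R), every involution of G outside O₂(G) is conjugate to a; and |C_{O₂(G)}(a)|² = |O₂(G)|. -/
theorem result {G : Type*} [Group G] [Finite G] {r : ℕ} [Fact r.Prime] (hr : r ≠ 2) [hN : (Cfsg.pCore 2 G).Normal] (hquot : Nonempty (G ⧸ Cfsg.pCore 2 G ≃* DihedralGroup r)) (R : Sylow r G) (hC : Cfsg.pCore 2 G ⊓ Subgroup.centralizer ((R : Subgroup G) : Set G) = ⊥) : Nonempty (↥(Subgroup.normalizer ((R : Subgroup G) : Set G)) ≃* DihedralGroup r) ∧ ∀ a : G, a ∈ Subgroup.normalizer ((R : Subgroup G) : Set G) → orderOf a = 2 → (∀ b : G, orderOf b = 2 → b ∉ Cfsg.pCore 2 G → ∃ g : G, g * a * g⁻¹ = b)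 ∧ Nat.card ↥(Cfsg.pCore 2 G ⊓ Subgroup.centralizer ({a} : Set G)) ^ 2 = Nat.card ↥(Cfsg.pCore 2 G) := by
  exact main2873 hr hquot R hC

end Cfsg.Agent.S2873
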