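import Mathlib
import Cfsg.Statements.S2879
import Cfsg.Agent.S0044
import Cfsg.Agent.Lib.Helper1.Fitting2
import Cfsg.Agent.Lib.Helper4.SL23Rec
import Cfsg.Agent.Lib.Helper4.Cores
import Cfsg.Agent.Lib.Helper5.PCore

set_option autoImplicit false
set_option maxHeartbeats 800000

open Cfsg

namespace Cfsg.Agent.S2879

open Subgroup

variable {G : Type*} [Group G]

/-- index-two-like property of the cyclic subgroup generated by `a` in `P` -/
def Idx2 (P : Subgroup G) (a : G) : Prop :=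
  a ∈ P ∧ ∀ x ∈ P, ∀ y ∈ P, (x * y ∈ zpowers a ↔ (x ∈ zpowers a ↔ y ∈ zpowers a))

theorem mem_zpowers_conj (h a x : G) :
    x ∈ zpowers (h * a * h⁻¹) ↔ h⁻¹ * x * h ∈ zpowers a := by
  constructor
  · rintro ⟨k, rfl⟩
    refine ⟨k, ?_⟩
    simp only
    rw [conj_zpow]; group
  · rintro ⟨k, hk⟩
    refine ⟨k, ?_⟩
    simp only at hk ⊢
    rw [conj_zpow, hk]; group

theorem Idx2.conj {P : Subgroup G} [hPn : P.Normal] {a : G} (h : G) (ha : Idx2 P a) :
    Idx2 P (h * a * h⁻¹) := by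
  refine ⟨hPn.conj_mem a ha.1 h, ?_⟩
  intro x hx y hy
  rw [mem_zpowers_conj, mem_zpowers_conj, mem_zpowers_conj]
  have hx' : h⁻¹ * x * h ∈ P := by simpa using hPn.conj_mem x hx h⁻¹
  have hy' : h⁻¹ * y * h ∈ P := by simpa using hPn.conj_mem y hy h⁻¹
  have := ha.2 _ hx' _ hy'
  rw [← this]
  have : h⁻¹ * x * h * (h⁻¹ * y * h) = h⁻¹ * (x * y) * h := by group
  rw [this]

theorem nt_odd_pow (m k r : ℕ) (hr : Odd r) (h : k ^ r ≡ 1 [MOD 2 ^ m]) :
    k ≡ 1 [MOD 2 ^ m] := by
  rcases Nat.eq_zero_or_pos m with rfl | hm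
  · simp [Nat.modEq_one]
  have hr0 : r ≠ 0 := by rintro rfl; simp at hr
  have hcop : Nat.Coprime k (2 ^ m) := by
    have h1 : Nat.Coprime (k ^ r) (2 ^ m) := by
      have := h.gcd_eq
      rw [Nat.Coprime, this]; simp
    exact (Nat.coprime_pow_left_iff (Nat.pos_of_ne_zero hr0) _ _).mp h1
  let u : (ZMod (2 ^ m))ˣ := ZMod.unitOfCoprime k hcop
  have hu : u ^ r = 1 := by
    apply Units.ext
    rw [Units.val_pow_eq_pow_val, ZMod.coe_unitOfCoprime, Units.val_one]
    have := (ZMod.natCast_eq_natCast_iff _ _ _).mpr h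
    push_cast at this
    exact this
  have h1 : orderOf u ∣ r := orderOf_dvd_of_pow_eq_one hu
  have h2 : orderOf u ∣ 2 ^ (m - 1) := by
    have : Nat.card (ZMod (2 ^ m))ˣ = 2 ^ (m - 1) := by
      rw [Nat.card_eq_fintype_card, ZMod.card_units_eq_totient,
        Nat.totient_prime_pow Nat.prime_two hm]
      simp
    rw [← this]; exact orderOf_dvd_natCard u
  have hc : Nat.Coprime r (2 ^ (m - 1)) :=
    Nat.Coprime.pow_right _ (Nat.coprime_two_right.mpr hr)
  have h3 : orderOf u = 1 := (Nat.Coprime.coprime_dvd_left h1 hc).eq_one_of_dvd h2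
  have h4 : u = 1 := orderOf_eq_one_iff.mp h3
  have h5 : ((k : ℕ) : ZMod (2 ^ m)) = ((1 : ℕ) : ZMod (2 ^ m)) := by
    have := congrArg Units.val h4
    rw [ZMod.coe_unitOfCoprime, Units.val_one] at this
    rw [this]; simp
  exact (ZMod.natCast_eq_natCast_iff _ _ _).mp h5

/-- an element of odd order normalising the cyclic subgroup of "index two" centralises `P` -/
theorem c1 [Finite G] {P : Subgroup G} [hPn : P.Normal] (hP : IsPGroup 2 P) {a : G}
    (ha : Idx2 P a) (h : G) (hodd : Odd (orderOf h)) (hfix : h * a * h⁻¹ ∈ zpowers a) :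
    h ∈ centralizer (P : Set G) := by
  classical
  obtain ⟨m, hm⟩ : ∃ m : ℕ, orderOf a = 2 ^ m := by
    obtain ⟨m, hm⟩ := IsPGroup.iff_orderOf.mp hP ⟨a, ha.1⟩
    exact ⟨m, by rw [← hm, Subgroup.orderOf_mk]⟩
  obtain ⟨k, hk⟩ : ∃ k : ℕ, a ^ k = h * a * h⁻¹ := by
    have : h * a * h⁻¹ ∈ Submonoid.powers a :=
      (isOfFinOrder_of_finite a).mem_powers_iff_mem_zpowers.mpr hfix
    exact (Submonoid.mem_powers_iff _ _).mp this
  have hit : ∀ j : ℕ, h ^ j * a * (h ^ j)⁻¹ = a ^ (k ^ j) := by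
    intro j
    induction j with
    | zero => simp
    | succ j ih =>
      calc h ^ (j + 1) * a * (h ^ (j + 1))⁻¹ = h * (h ^ j * a * (h ^ j)⁻¹) * h⁻¹ := by
            rw [pow_succ']; group
        _ = h * a ^ (k ^ j) * h⁻¹ := by rw [ih]
        _ = (h * a * h⁻¹) ^ (k ^ j) := by rw [conj_pow]
        _ = a ^ (k ^ (j + 1)) := by rw [← hk, ← pow_mul, ← pow_succ']
  have h1 : a ^ (k ^ orderOf h) = a ^ 1 := by
    rw [← hit, pow_orderOf_eq_one, pow_one]; group
  have h2 : k ^ orderOf h ≡ 1 [MOD 2 ^ m] := by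
    rw [← hm]; exact pow_eq_pow_iff_modEq.mp h1
  have h3 := nt_odd_pow m k (orderOf h) hodd h2
  have hcomm : h * a * h⁻¹ = a := by
    rw [← hk]
    have : a ^ k = a ^ 1 := by
      rw [pow_eq_pow_iff_modEq, hm]; exact h3
    rw [this, pow_one]
  have hcommz : ∀ d ∈ zpowers a, h * d * h⁻¹ = d := by
    rintro d ⟨j, rfl⟩
    simp only
    rw [← conj_zpow, hcomm]
  rw [Subgroup.mem_centralizer_iff]
  intro x hx
  have hxP : x ∈ P := hx
  suffices hs : h * x * h⁻¹ = x by
    calc x * h = (h * x * h⁻¹) * h := by rw [hs]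
      _ = h * x := by group
  by_cases hxa : x ∈ zpowers a
  · exact hcommz x hxa
  have hx1 : h * x * h⁻¹ ∈ P := hPn.conj_mem x hxP h
  have hx2 : h * x * h⁻¹ ∉ zpowers a := by
    intro hc
    apply hxa
    have h5 := hcommz _ hc
    have h6 : h * x * h⁻¹ = x := by
      calc h * x * h⁻¹ = h⁻¹ * (h * (h * x * h⁻¹) * h⁻¹) * h := by group
        _ = h⁻¹ * (h * x * h⁻¹) * h := by rw [h5]
        _ = x := by group
    rw [← h6]; exact hc
  have hx3 : x⁻¹ ∉ zpowers a := fun hc => hxa (by simpa using (zpowers a).inv_mem hc)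
  have hx4 : h * x * h⁻¹ * x⁻¹ ∈ zpowers a :=
    (ha.2 _ hx1 _ (P.inv_mem hxP)).mpr ⟨fun hc => absurd hc hx2, fun hc => absurd hc hx3⟩
  obtain ⟨d, hd⟩ : ∃ d : G, d = h * x * h⁻¹ * x⁻¹ := ⟨_, rfl⟩
  have hdz : d ∈ zpowers a := by rw [hd]; exact hx4
  have hdx : h * x * h⁻¹ = d * x := by rw [hd]; group
  have hit2 : ∀ i : ℕ, h ^ i * x * (h ^ i)⁻¹ = d ^ i * x := by
    intro i
    induction i with
    | zero => simp
    | succ i ih =>
      calc h ^ (i + 1) * x * (h ^ (i + 1))⁻¹ = h * (h ^ i * x * (h ^ i)⁻¹) * h⁻¹ := by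
            rw [pow_succ']; group
        _ = h * (d ^ i * x) * h⁻¹ := by rw [ih]
        _ = (h * d * h⁻¹) ^ i * (h * x * h⁻¹) := by rw [conj_pow]; group
        _ = d ^ i * (d * x) := by rw [hcommz d hdz, hdx]
        _ = d ^ (i + 1) * x := by rw [pow_succ]; group
  have h7 : d ^ orderOf h = 1 := by
    have := hit2 (orderOf h)
    rw [pow_orderOf_eq_one] at this
    have h8 : x = d ^ orderOf h * x := by rw [← this]; group
    calc d ^ orderOf h = (d ^ orderOf h * x) * x⁻¹ := by group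
      _ = x * x⁻¹ := by rw [← h8]
      _ = 1 := mul_inv_cancel x
  have hdP : d ∈ P := by
    have : zpowers a ≤ P := (zpowers_le).mpr ha.1
    exact this hdz
  obtain ⟨t, ht⟩ : ∃ t : ℕ, orderOf d = 2 ^ t := by
    obtain ⟨t, ht⟩ := IsPGroup.iff_orderOf.mp hP ⟨d, hdP⟩
    exact ⟨t, by rw [← ht, Subgroup.orderOf_mk]⟩
  have h9 : orderOf d ∣ orderOf h := orderOf_dvd_of_pow_eq_one h7
  have h10 : orderOf d = 1 := by
    rw [ht] at h9 ⊢
    rcases Nat.eq_zero_or_pos t with rfl | htp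
    · rfl
    · exfalso
      have : 2 ∣ orderOf h := dvd_trans (dvd_pow_self 2 (by omega)) h9
      exact (Nat.not_even_iff_odd.mpr hodd) (even_iff_two_dvd.mpr this)
  rw [hdx, orderOf_eq_one_iff.mp h10, one_mul]


/-- structure of the Sylow 2-subgroup: a cyclic subgroup of index two, all elements outside
of which have order dividing four -/
theorem struct_T {S : Type*} [Group S] [Finite S]
    (hT : (∃ n : ℕ, 4 ≤ n ∧ Nonempty (S ≃* DihedralGroup n)) ∨ Cfsg.IsQuasiDihedral S) :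
    ∃ c : S, Nat.card S = 2 * orderOf c ∧ 4 ≤ orderOf c ∧
      ∀ x : S, x ∉ zpowers c → x ^ 4 = 1 := by
  rcases hT with ⟨n, hn, ⟨e⟩⟩ | ⟨n, hn, hcard, x0, y, hx0, hy, hrel⟩
  · haveI : NeZero n := ⟨by omega⟩
    have ho : orderOf (e.symm (DihedralGroup.r 1)) = n := by
      rw [MulEquiv.orderOf_eq, DihedralGroup.orderOf_r_one]
    refine ⟨e.symm (DihedralGroup.r 1), ?_, ?_, ?_⟩
    · rw [ho, Nat.card_congr e.toEquiv, DihedralGroup.nat_card]
    · rw [ho]; exact hn
    · intro x hx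
      have h1 : ∀ i : ZMod n, e x ≠ DihedralGroup.r i := by
        intro i hi
        apply hx
        refine ⟨(i.val : ℤ), ?_⟩
        simp only
        apply e.injective
        rw [map_zpow, MulEquiv.apply_symm_apply, hi, zpow_natCast, DihedralGroup.r_one_pow,
          ZMod.natCast_zmod_val]
      have h2 : (e x) ^ 4 = 1 := by
        rcases hex : e x with i | i
        · exact absurd hex (h1 i)
        · have : (DihedralGroup.sr i : DihedralGroup n) ^ 4
              = (DihedralGroup.sr i * DihedralGroup.sr i) * (DihedralGroup.sr i * DihedralGroup.sr i) := by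
            rw [show (4 : ℕ) = 2 + 2 from rfl, pow_add, pow_two]
          rw [this, DihedralGroup.sr_mul_self, one_mul]
      apply e.injective
      rw [map_pow, h2, map_one]
  · have hn1 : 2 ^ (n - 1) * 2 = 2 ^ n := by
      rw [← pow_succ]; congr 1; omega
    obtain ⟨M, hM⟩ : ∃ M : ℕ, M = 2 ^ (n - 1) - 1 := ⟨_, rfl⟩
    have hM1 : M + 1 = 2 ^ (n - 1) := by
      have : 1 ≤ 2 ^ (n - 1) := Nat.one_le_two_pow
      omega
    have h4 : 4 ≤ 2 ^ (n - 1) := by
      calc 4 = 2 ^ 2 := by norm_num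
        _ ≤ 2 ^ (n - 1) := Nat.pow_le_pow_right (by norm_num) (by omega)
    rw [← hM] at hrel
    have hy2 : y * y = 1 := by rw [← pow_two, ← hy, pow_orderOf_eq_one]
    have hyinv : y⁻¹ = y := inv_eq_of_mul_eq_one_left hy2
    have hynot : y ∉ zpowers x0 := by
      rintro ⟨j, hj⟩
      simp only at hj
      have hc : y * x0 * y⁻¹ = x0 := by
        rw [← hj, ← zpow_add_one, zpow_add_one, mul_assoc, ← zpow_neg, ← zpow_one_add]
        rw [show (1 : ℤ) + -j = -j + 1 by ring, zpow_add_one, ← mul_assoc, ← zpow_add]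
        simp
      rw [hc] at hrel
      have h5 : x0 ^ 1 = x0 ^ M := by rw [pow_one]; exact hrel
      rw [pow_eq_pow_iff_modEq, hx0] at h5
      have h6 : 1 = M := h5.eq_of_lt_of_lt (by omega) (by omega)
      omega
    have hidx : (zpowers x0).index = 2 := by
      have h5 := (zpowers x0).card_mul_index
      rw [Nat.card_zpowers, hx0, hcard, pow_succ] at h5
      have : 0 < 2 ^ n := by positivity
      exact Nat.eq_of_mul_eq_mul_left this h5
    refine ⟨x0, ?_, ?_, ?_⟩
    · rw [hcard, hx0, pow_succ, mul_comm]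
    · rw [hx0]; omega
    · intro x hx
      have h5 : x * y ∈ zpowers x0 :=
        (Subgroup.mul_mem_iff_of_index_two hidx).mpr
          ⟨fun h => absurd h hx, fun h => absurd h hynot⟩
      obtain ⟨j, hj⟩ := h5
      simp only at hj
      have hx' : x = x0 ^ j * y := by
        calc x = (x * y) * y⁻¹ := by group
          _ = x0 ^ j * y := by rw [← hj, hyinv]
      have hconj : y * x0 ^ j * y⁻¹ = x0 ^ ((M : ℤ) * j) := by
        rw [← conj_zpow, hrel, zpow_mul, zpow_natCast]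
      have hsq : x * x = x0 ^ ((2 ^ (n - 1) : ℕ) * j : ℤ) := by
        calc x * x = x0 ^ j * (y * x0 ^ j * y⁻¹) * (y * y) := by rw [hx']; group
          _ = x0 ^ j * x0 ^ ((M : ℤ) * j) := by rw [hconj, hy2, mul_one]
          _ = x0 ^ ((2 ^ (n - 1) : ℕ) * j : ℤ) := by
            rw [← zpow_add, ← hM1]; congr 1; push_cast; ring
      calc x ^ 4 = (x * x) * (x * x) := by
            rw [show (4 : ℕ) = 2 + 2 from rfl, pow_add, pow_two]
        _ = x0 ^ (((2 ^ n : ℕ) : ℤ) * j) := by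
          rw [hsq, ← zpow_add, ← hn1]; congr 1; push_cast; ring
        _ = 1 := by rw [zpow_mul, zpow_natCast, ← hx0, pow_orderOf_eq_one, one_zpow]


theorem mem_A4 [Finite G] {a x : G} (ho : orderOf a = 4) (hx : x ∈ zpowers a) :
    x = 1 ∨ x = a ∨ x = a ^ 2 ∨ x = a ^ 3 := by
  classical
  rw [mem_zpowers_iff_mem_range_orderOf, ho] at hx
  obtain ⟨j, hj, rfl⟩ := Finset.mem_image.mp hx
  rw [Finset.mem_range] at hj
  interval_cases j
  · left; exact pow_zero a
  · right; left; exact pow_one a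
  · right; right; left; rfl
  · right; right; right; rfl

theorem pow4 {a : G} (ho : orderOf a = 4) : a ^ 4 = 1 := by rw [← ho, pow_orderOf_eq_one]

theorem sq_ne_one {a : G} (ho : orderOf a = 4) : a ^ 2 ≠ 1 := by
  intro h
  have := orderOf_dvd_of_pow_eq_one h
  rw [ho] at this
  omega

theorem ne_one4 {a : G} (ho : orderOf a = 4) : a ≠ 1 := by
  rintro rfl
  rw [orderOf_one] at ho
  omega

theorem cube_eq_inv {a : G} (ho : orderOf a = 4) : a ^ 3 = a⁻¹ := by
  have h4 := pow4 ho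
  have h5 : a ^ 4 = a ^ 3 * a := pow_succ a 3
  calc a ^ 3 = a ^ 4 * a⁻¹ := by rw [h5, mul_inv_cancel_right]
    _ = a⁻¹ := by rw [h4, one_mul]

/-- in a cyclic group of order four an element of order four is the generator or its inverse -/
theorem gen4 [Finite G] {a x : G} (ho : orderOf a = 4) (hx : x ∈ zpowers a) (hox : orderOf x = 4) :
    x = a ∨ x = a⁻¹ := by
  rcases mem_A4 ho hx with h | h | h | h
  · exact absurd h (ne_one4 hox)
  · left; exact h
  · exfalso
    apply sq_ne_one hox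
    rw [h, ← pow_mul]
    exact pow4 ho
  · right; rw [h, cube_eq_inv ho]

/-- the quaternion relations -/
theorem q8_rel [Finite G] {P : Subgroup G} {a b k : G} (ha : Idx2 P a) (hb : Idx2 P b)
    (hoa : orderOf a = 4) (hob : orderOf b = 4) (hok : orderOf k = 4)
    (hbA : b ∉ zpowers a) (hkP : k ∈ P) (hkA : k ∉ zpowers a) (hkB : k ∉ zpowers b) :
    b ^ 2 = a ^ 2 ∧ b * a * b⁻¹ = a⁻¹ ∧ (k = a * b ∨ k = a⁻¹ * b) := by
  have haA : a ∈ zpowers a := mem_zpowers a
  have hbP : b ∈ P := hb.1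
  have haP : a ∈ P := ha.1
  have hbinvA : b⁻¹ ∉ zpowers a := fun hc => hbA (by simpa using (zpowers a).inv_mem hc)
  have a4 := pow4 hoa
  have b4 := pow4 hob
  have k4 := pow4 hok
  -- b ^ 2 = a ^ 2
  have hb2A : b * b ∈ zpowers a := (ha.2 b hbP b hbP).mpr Iff.rfl
  have hsq : b ^ 2 = a ^ 2 := by
    rw [← pow_two] at hb2A
    rcases mem_A4 hoa hb2A with h | h | h | h
    · exact absurd h (sq_ne_one hob)
    · exfalso
      apply sq_ne_one hoa
      rw [← h, ← pow_mul]; exact b4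
    · exact h
    · exfalso
      apply sq_ne_one hoa
      have : (b ^ 2) ^ 2 = (a ^ 3) ^ 2 := by rw [h]
      rw [← pow_mul, b4, ← pow_mul] at this
      have h6 : a ^ (3 * 2) = a ^ 4 * a ^ 2 := by rw [← pow_add]
      rw [h6, a4, one_mul] at this
      exact this.symm
  -- normality
  have hbaA : b * a ∉ zpowers a := by
    intro hc
    exact hbA (((ha.2 b hbP a haP).mp hc).mpr haA)
  have hconjA : b * a * b⁻¹ ∈ zpowers a :=
    (ha.2 (b * a) (P.mul_mem hbP haP) b⁻¹ (P.inv_mem hbP)).mpr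
      ⟨fun h => absurd h hbaA, fun h => absurd h hbinvA⟩
  have hoc : orderOf (b * a * b⁻¹) = 4 := by
    rw [← MulAut.conj_apply, MulEquiv.orderOf_eq, hoa]
  have hcases := gen4 hoa hconjA hoc
  -- k = a^i * b
  have hkb : k * b⁻¹ ∈ zpowers a :=
    (ha.2 k hkP b⁻¹ (P.inv_mem hbP)).mpr ⟨fun h => absurd h hkA, fun h => absurd h hbinvA⟩
  have hk_form : k = 1 * b ∨ k = a * b ∨ k = a ^ 2 * b ∨ k = a ^ 3 * b := by
    rcases mem_A4 hoa hkb with h | h | h | h
    · left; rw [← h]; group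
    · right; left; rw [← h]; group
    · right; right; left; rw [← h]; group
    · right; right; right; rw [← h]; group
  have hk0 : k ≠ 1 * b := by
    intro h; apply hkB; rw [h, one_mul]; exact mem_zpowers b
  have hk2 : k ≠ a ^ 2 * b := by
    intro h; apply hkB
    rw [h, ← hsq, ← pow_succ]
    exact Subgroup.pow_mem _ (mem_zpowers b) _
  have hk13 : k = a * b ∨ k = a⁻¹ * b := by
    rcases hk_form with h | h | h | h
    · exact absurd h hk0
    · left; exact h
    · exact absurd h hk2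
    · right; rw [h, cube_eq_inv hoa]
  refine ⟨hsq, ?_, hk13⟩
  rcases hcases with hcomm | hinv
  · exfalso
    -- abelian case: k has order at most two
    have hba : b * a = a * b := by
      calc b * a = (b * a * b⁻¹) * b := by group
        _ = a * b := by rw [hcomm]
    apply sq_ne_one hok
    rcases hk13 with h | h
    · rw [h, pow_two]
      calc a * b * (a * b) = a * (b * a) * b := by group
        _ = a * (a * b) * b := by rw [hba]
        _ = a ^ 2 * b ^ 2 := by rw [pow_two, pow_two]; group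
        _ = a ^ 4 := by rw [hsq, ← pow_add]
        _ = 1 := a4
    · have hba' : b * a⁻¹ = a⁻¹ * b := by
        calc b * a⁻¹ = a⁻¹ * (a * b) * a⁻¹ := by group
          _ = a⁻¹ * (b * a) * a⁻¹ := by rw [hba]
          _ = a⁻¹ * b := by group
      rw [h, pow_two]
      calc a⁻¹ * b * (a⁻¹ * b) = a⁻¹ * (b * a⁻¹) * b := by group
        _ = a⁻¹ * (a⁻¹ * b) * b := by rw [hba']
        _ = (a ^ 2)⁻¹ * b ^ 2 := by rw [pow_two, pow_two]; group
        _ = 1 := by rw [hsq, inv_mul_cancel]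
  · exact hinv


theorem conj_mem_zpowers {h u v w : G} (huv : h * u * h⁻¹ = v) (hw : w ∈ zpowers u) :
    h * w * h⁻¹ ∈ zpowers v := by
  obtain ⟨j, rfl⟩ := hw
  refine ⟨j, ?_⟩
  simp only
  rw [← huv, conj_zpow]

/-- an element commuting with `a` and `b` centralises `P` -/
theorem cent_of_ab {P : Subgroup G} {a b : G} (ha : Idx2 P a) (hbP : b ∈ P)
    (hbA : b ∉ zpowers a) (z : G) (hza : Commute z a) (hzb : Commute z b) :
    z ∈ centralizer (P : Set G) := by
  have hbinvA : b⁻¹ ∉ zpowers a := fun hc => hbA (by simpa using (zpowers a).inv_mem hc)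
  have hzA : ∀ d ∈ zpowers a, Commute z d := by
    rintro d ⟨j, rfl⟩
    exact hza.zpow_right j
  rw [Subgroup.mem_centralizer_iff]
  intro w hw
  have hwP : w ∈ P := hw
  suffices hs : Commute z w from hs.eq.symm
  by_cases hwA : w ∈ zpowers a
  · exact hzA w hwA
  · have h1 : w * b⁻¹ ∈ zpowers a :=
      (ha.2 w hwP b⁻¹ (P.inv_mem hbP)).mpr ⟨fun h => absurd h hwA, fun h => absurd h hbinvA⟩
    have h2 : Commute z (w * b⁻¹ * b) := (hzA _ h1).mul_right hzb
    rwa [inv_mul_cancel_right] at h2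

theorem ab_conj {a b : G} (hob : orderOf b = 4) (hsq : b ^ 2 = a ^ 2)
    (hrel : b * a * b⁻¹ = a⁻¹) : a * b * a⁻¹ = b⁻¹ := by
  calc a * b * a⁻¹ = a * (b * a * b⁻¹)⁻¹ * b := by group
    _ = a * (a⁻¹)⁻¹ * b := by rw [hrel]
    _ = a ^ 2 * b := by rw [inv_inv, pow_two]
    _ = b ^ 3 := by rw [← hsq, ← pow_succ]
    _ = b⁻¹ := cube_eq_inv hob

/-- the kernel of the action on the three cyclic subgroups of order four is `P` -/
theorem ker_le [Finite G] {P : Subgroup G} (hcent : centralizer (P : Set G) ≤ P) {a b : G}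
    (ha : Idx2 P a) (hbP : b ∈ P) (hoa : orderOf a = 4) (hob : orderOf b = 4)
    (hbA : b ∉ zpowers a) (hsq : b ^ 2 = a ^ 2) (hrel : b * a * b⁻¹ = a⁻¹)
    (x : G) (hxa : x * a * x⁻¹ ∈ zpowers a) (hxb : x * b * x⁻¹ ∈ zpowers b) : x ∈ P := by
  have hab := ab_conj hob hsq hrel
  have hoxa : orderOf (x * a * x⁻¹) = 4 := by
    rw [← MulAut.conj_apply, MulEquiv.orderOf_eq, hoa]
  have hoxb : orderOf (x * b * x⁻¹) = 4 := by
    rw [← MulAut.conj_apply, MulEquiv.orderOf_eq, hob]
  obtain ⟨y, hyP, hya, hyb⟩ : ∃ y ∈ P, y * a * y⁻¹ = x * a * x⁻¹ ∧ y * b * y⁻¹ = x * b * x⁻¹ := by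
    rcases gen4 hoa hxa hoxa with h1 | h1 <;> rcases gen4 hob hxb hoxb with h2 | h2
    · exact ⟨1, one_mem _, by rw [h1]; group, by rw [h2]; group⟩
    · exact ⟨a, ha.1, by rw [h1]; group, by rw [h2, hab]⟩
    · exact ⟨b, hbP, by rw [h1, hrel], by rw [h2]; group⟩
    · refine ⟨a * b, P.mul_mem ha.1 hbP, ?_, ?_⟩
      · rw [h1]
        calc a * b * a * (a * b)⁻¹ = a * (b * a * b⁻¹) * a⁻¹ := by group
          _ = a⁻¹ := by rw [hrel]; group
      · rw [h2]
        calc a * b * b * (a * b)⁻¹ = a * b * a⁻¹ := by group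
          _ = b⁻¹ := hab
  have hza : Commute (y⁻¹ * x) a := by
    show y⁻¹ * x * a = a * (y⁻¹ * x)
    calc y⁻¹ * x * a = y⁻¹ * (x * a * x⁻¹) * x := by group
      _ = y⁻¹ * (y * a * y⁻¹) * x := by rw [hya]
      _ = a * (y⁻¹ * x) := by group
  have hzb : Commute (y⁻¹ * x) b := by
    show y⁻¹ * x * b = b * (y⁻¹ * x)
    calc y⁻¹ * x * b = y⁻¹ * (x * b * x⁻¹) * x := by group
      _ = y⁻¹ * (y * b * y⁻¹) * x := by rw [hyb]
      _ = b * (y⁻¹ * x) := by group
  have hz := hcent (cent_of_ab ha hbP hbA _ hza hzb)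
  have : x = y * (y⁻¹ * x) := by group
  rw [this]
  exact P.mul_mem hyP hz

theorem ab_inv {a b : G} (hoa : orderOf a = 4) (hsq : b ^ 2 = a ^ 2)
    (hrel : b * a * b⁻¹ = a⁻¹) : a * b * (a⁻¹ * b) = 1 := by
  calc a * b * (a⁻¹ * b) = a * (b * a * b⁻¹)⁻¹ * (b * b) := by group
    _ = a * a * (a * a) := by rw [hrel, inv_inv, ← pow_two b, hsq, pow_two]
    _ = a ^ 4 := by rw [show (4 : ℕ) = 2 + 2 from rfl, pow_add, pow_two]
    _ = 1 := pow4 hoa

/-- `P` is covered by the three cyclic subgroups -/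
theorem cover [Finite G] {P : Subgroup G} {a b k : G} (ha : Idx2 P a) (hbP : b ∈ P)
    (hoa : orderOf a = 4) (hob : orderOf b = 4) (hbA : b ∉ zpowers a) (hsq : b ^ 2 = a ^ 2)
    (hrel : b * a * b⁻¹ = a⁻¹) (hk : k = a * b ∨ k = a⁻¹ * b) (w : G) (hw : w ∈ P) :
    w ∈ zpowers a ∨ w ∈ zpowers b ∨ w ∈ zpowers k := by
  have hbinvA : b⁻¹ ∉ zpowers a := fun hc => hbA (by simpa using (zpowers a).inv_mem hc)
  by_cases hwA : w ∈ zpowers a
  · left; exact hwA
  right
  have h1 : w * b⁻¹ ∈ zpowers a :=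
    (ha.2 w hw b⁻¹ (P.inv_mem hbP)).mpr ⟨fun h => absurd h hwA, fun h => absurd h hbinvA⟩
  have hinv := ab_inv hoa hsq hrel
  have hab_k : a * b ∈ zpowers k := by
    rcases hk with h | h
    · rw [h]; exact mem_zpowers _
    · have : a * b = k⁻¹ := by rw [h]; exact eq_inv_of_mul_eq_one_left hinv
      rw [this]; exact (zpowers k).inv_mem (mem_zpowers k)
  have hab_k' : a⁻¹ * b ∈ zpowers k := by
    rcases hk with h | h
    · have : a⁻¹ * b = k⁻¹ := by rw [h]; exact (eq_inv_of_mul_eq_one_right hinv)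
      rw [this]; exact (zpowers k).inv_mem (mem_zpowers k)
    · rw [h]; exact mem_zpowers _
  rcases mem_A4 hoa h1 with h | h | h | h
  · left
    have : w = b := by
      calc w = (w * b⁻¹) * b := by group
        _ = b := by rw [h, one_mul]
    rw [this]; exact mem_zpowers b
  · right
    have : w = a * b := by
      calc w = (w * b⁻¹) * b := by group
        _ = a * b := by rw [h]
    rw [this]; exact hab_k
  · left
    have : w = b ^ 3 := by
      calc w = (w * b⁻¹) * b := by group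
        _ = a ^ 2 * b := by rw [h]
        _ = b ^ 3 := by rw [← hsq, ← pow_succ]
    rw [this]; exact Subgroup.pow_mem _ (mem_zpowers b) _
  · right
    have : w = a⁻¹ * b := by
      calc w = (w * b⁻¹) * b := by group
        _ = a ^ 3 * b := by rw [h]
        _ = a⁻¹ * b := by rw [cube_eq_inv hoa]
    rw [this]; exact hab_k'

theorem sq_odd {h : G} (hodd : Odd (orderOf h)) : Odd (orderOf (h ^ 2)) := by
  rw [Nat.Coprime.orderOf_pow (Nat.coprime_two_right.mpr hodd)]
  exact hodd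

theorem sq_not_cent {P : Subgroup G} {h : G} (hodd : Odd (orderOf h))
    (hC : h ∉ centralizer (P : Set G)) : h ^ 2 ∉ centralizer (P : Set G) := by
  intro hc
  apply hC
  obtain ⟨t, ht⟩ := hodd
  have : h = (h ^ 2) ^ (t + 1) := by
    rw [← pow_mul, show 2 * (t + 1) = orderOf h + 1 by omega, pow_succ, pow_orderOf_eq_one,
      one_mul]
  rw [this]
  exact Subgroup.pow_mem _ hc _

/-- every element of odd order lies in `P ⊔ ⟨g⟩` -/
theorem odd_in_U [Finite G] {P : Subgroup G} [hPn : P.Normal] (hP2 : IsPGroup 2 P)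
    (hcent : centralizer (P : Set G) ≤ P) {a b k g : G} (ha : Idx2 P a)
    (hoa : orderOf a = 4) (hb : g * a * g⁻¹ = b) (hk : g * b * g⁻¹ = k) (hl : g * k * g⁻¹ = a)
    (hbA : b ∉ zpowers a) (hsq : b ^ 2 = a ^ 2) (hrel : b * a * b⁻¹ = a⁻¹)
    (hkab : k = a * b ∨ k = a⁻¹ * b) (h : G) (hodd : Odd (orderOf h)) :
    h ∈ P ⊔ zpowers g := by
  by_cases hC : h ∈ centralizer (P : Set G)
  · exact Subgroup.mem_sup_left (hcent hC)
  have hIb : Idx2 P b := hb ▸ ha.conj g
  have hIk : Idx2 P k := hk ▸ hIb.conj g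
  have hob : orderOf b = 4 := by rw [← hb, ← MulAut.conj_apply, MulEquiv.orderOf_eq, hoa]
  have hok : orderOf k = 4 := by rw [← hk, ← MulAut.conj_apply, MulEquiv.orderOf_eq, hob]
  have ha' : h * a * h⁻¹ ∉ zpowers a := fun hc => hC (c1 hP2 ha h hodd hc)
  have hb' : h * b * h⁻¹ ∉ zpowers b := fun hc => hC (c1 hP2 hIb h hodd hc)
  have hcov := cover ha hIb.1 hoa hob hbA hsq hrel hkab
  have hhaP : h * a * h⁻¹ ∈ P := hPn.conj_mem a ha.1 h
  have hhbP : h * b * h⁻¹ ∈ P := hPn.conj_mem b hIb.1 h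
  have hgi : g⁻¹ ∈ zpowers g := (zpowers g).inv_mem (mem_zpowers g)
  have hginv_b : g⁻¹ * b * g⁻¹⁻¹ = a := by rw [← hb]; group
  have hginv_k : g⁻¹ * k * g⁻¹⁻¹ = b := by rw [← hk]; group
  rcases hcov _ hhaP with hA | hB | hK
  · exact absurd hA ha'
  · rcases hcov _ hhbP with hA2 | hB2 | hK2
    · exfalso
      apply sq_not_cent hodd hC
      apply c1 hP2 ha (h ^ 2) (sq_odd hodd)
      have h1 : h * (h * a * h⁻¹) * h⁻¹ ∈ zpowers (h * b * h⁻¹) := conj_mem_zpowers rfl hB
      have h2 : zpowers (h * b * h⁻¹) ≤ zpowers a := zpowers_le.mpr hA2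
      have h3 : h ^ 2 * a * (h ^ 2)⁻¹ = h * (h * a * h⁻¹) * h⁻¹ := by rw [pow_two]; group
      rw [h3]
      exact h2 h1
    · exact absurd hB2 hb'
    · have hx : g⁻¹ * h ∈ P := by
        apply ker_le hcent ha hIb.1 hoa hob hbA hsq hrel
        · have : g⁻¹ * h * a * (g⁻¹ * h)⁻¹ = g⁻¹ * (h * a * h⁻¹) * g⁻¹⁻¹ := by group
          rw [this]
          exact conj_mem_zpowers hginv_b hB
        · have : g⁻¹ * h * b * (g⁻¹ * h)⁻¹ = g⁻¹ * (h * b * h⁻¹) * g⁻¹⁻¹ := by group
          rw [this]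
          exact conj_mem_zpowers hginv_k hK2
      have : h = g * (g⁻¹ * h) := by group
      rw [this]
      exact Subgroup.mul_mem _ (Subgroup.mem_sup_right (mem_zpowers g)) (Subgroup.mem_sup_left hx)
  · rcases hcov _ hhbP with hA2 | hB2 | hK2
    · have hx : g * h ∈ P := by
        apply ker_le hcent ha hIb.1 hoa hob hbA hsq hrel
        · have : g * h * a * (g * h)⁻¹ = g * (h * a * h⁻¹) * g⁻¹ := by group
          rw [this]
          exact conj_mem_zpowers hl hK
        · have : g * h * b * (g * h)⁻¹ = g * (h * b * h⁻¹) * g⁻¹ := by group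
          rw [this]
          exact conj_mem_zpowers hb hA2
      have : h = g⁻¹ * (g * h) := by group
      rw [this]
      exact Subgroup.mul_mem _ (Subgroup.mem_sup_right hgi) (Subgroup.mem_sup_left hx)
    · exact absurd hB2 hb'
    · exfalso
      apply hbA
      have hoha : orderOf (h * a * h⁻¹) = 4 := by
        rw [← MulAut.conj_apply, MulEquiv.orderOf_eq, hoa]
      have hkz : k ∈ zpowers (h * a * h⁻¹) := by
        rcases gen4 hok hK hoha with h1 | h1
        · rw [h1]; exact mem_zpowers k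
        · rw [h1, zpowers_inv]; exact mem_zpowers k
      have h2 : zpowers k ≤ zpowers (h * a * h⁻¹) := zpowers_le.mpr hkz
      have h3 := (mem_zpowers_conj h a _).mp (h2 hK2)
      have h4 : h⁻¹ * (h * b * h⁻¹) * h = b := by group
      rwa [h4] at h3


theorem cent_le [Finite G] (hsol : IsSolvable G) (hO : Cfsg.oddCore G = ⊥) :
    centralizer ((pCore 2 G : Subgroup G) : Set G) ≤ pCore 2 G := by
  haveI : Group.IsSolvable G := hsol
  haveI : Fact (Nat.Prime 2) := ⟨Nat.prime_two⟩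
  have h1 : fittingSubgroup G ≤ pCore 2 G := by
    rw [Lib.Helper1.fitting_eq_pCoreSup]
    refine (Lib.Helper1.pCoreSup_le_sup 2).trans ?_
    have : pPrimeCore 2 G = ⊥ := hO
    rw [this, sup_bot_eq]
  have h2 := Cfsg.Agent.S0044.result (G := G)
  exact (Subgroup.centralizer_le (SetLike.coe_subset_coe.mpr h1)).trans (h2.trans h1)

open scoped Pointwise in
theorem mem_sup_normal {P : Subgroup G} [hPn : P.Normal] (g n : G) (hn : n ∈ P ⊔ zpowers g) :
    ∃ p ∈ P, ∃ z ∈ zpowers g, n = p * z := by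
  have : n ∈ ((P ⊔ zpowers g : Subgroup G) : Set G) := hn
  rw [Subgroup.normal_mul] at this
  obtain ⟨p, hp, z, hz, rfl⟩ := Set.mem_mul.mp this
  exact ⟨p, hp, z, hz, rfl⟩

open Cfsg.Agent.S2427 Cfsg.Agent.Lib.Helper4 in
theorem main2879 [Finite G] (hsol : IsSolvable G) (hO : Cfsg.oddCore G = ⊥) (T : Sylow 2 G)
    (hT : (∃ n : ℕ, 4 ≤ n ∧ Nonempty (↥(T : Subgroup G) ≃* DihedralGroup n)) ∨
      Cfsg.IsQuasiDihedral ↥(T : Subgroup G))
    (hne : (T : Subgroup G) ≠ ⊤)
    (hZ : ((T : Subgroup G) ⊓ Subgroup.centralizer ((T : Subgroup G) : Set G)).Normal) :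
    ∃ U : Subgroup G, U.Normal ∧
      Nonempty (↥U ≃* Matrix.SpecialLinearGroup (Fin 2) (ZMod 3)) := by
  classical
  haveI : Fact (Nat.Prime 2) := ⟨Nat.prime_two⟩
  obtain ⟨P, hPdef⟩ : ∃ P : Subgroup G, P = pCore 2 G := ⟨_, rfl⟩
  haveI hPn : P.Normal := by rw [hPdef]; exact Lib.Helper4.pCore_normal 2
  have hP2 : IsPGroup 2 P := by rw [hPdef]; exact Lib.Helper4.pCore_isPGroup
  have hPT : P ≤ T := by rw [hPdef]; exact Lib.Helper4.pCore_le_sylow T
  have hcent : centralizer (P : Set G) ≤ P := by rw [hPdef]; exact cent_le hsol hO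
  obtain ⟨c, hcard, hc4, hcout⟩ := struct_T hT
  -- element of odd order
  obtain ⟨g, hgodd, hgne⟩ : ∃ g : G, Odd (orderOf g) ∧ g ≠ 1 := by
    have hidx : (T : Subgroup G).index ≠ 1 := fun h => hne (Subgroup.index_eq_one.mp h)
    obtain ⟨q, hq, hqd⟩ := Nat.exists_prime_and_dvd hidx
    haveI : Fact q.Prime := ⟨hq⟩
    have hq2 : q ≠ 2 := by
      rintro rfl
      have hcop := Sylow.card_coprime_index T
      have h2c : 2 ∣ Nat.card (T : Subgroup G) := by rw [hcard]; exact dvd_mul_right 2 _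
      have := Nat.dvd_gcd h2c hqd
      rw [hcop] at this
      omega
    have hqG : q ∣ Nat.card G := dvd_trans hqd (Subgroup.index_dvd_card _)
    obtain ⟨g, hg⟩ := exists_prime_orderOf_dvd_card' q hqG
    refine ⟨g, by rw [hg]; exact hq.odd_of_ne_two hq2, ?_⟩
    rintro rfl
    rw [orderOf_one] at hg
    exact hq.one_lt.ne hg
  have odd_P : ∀ x ∈ P, Odd (orderOf x) → x = 1 := by
    intro x hx hodd
    obtain ⟨t, ht⟩ := IsPGroup.iff_orderOf.mp hP2 ⟨x, hx⟩
    rw [Subgroup.orderOf_mk] at ht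
    rcases Nat.eq_zero_or_pos t with rfl | htp
    · rw [pow_zero] at ht; exact orderOf_eq_one_iff.mp ht
    · exfalso
      rw [ht] at hodd
      exact (Nat.not_even_iff_odd.mpr hodd) (Nat.even_pow.mpr ⟨even_two, by omega⟩)
  have hgP : g ∉ P := fun h => hgne (odd_P g h hgodd)
  have hgC : g ∉ centralizer (P : Set G) := fun h => hgP (hcent h)
  -- index two in T
  have hc0 : 0 < orderOf c := by omega
  have hidxT : (zpowers c).index = 2 := by
    have h5 := (zpowers c).card_mul_index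
    rw [Nat.card_zpowers, hcard] at h5
    have : orderOf c * (zpowers c).index = orderOf c * 2 := by rw [h5, mul_comm]
    exact Nat.eq_of_mul_eq_mul_left hc0 this
  have hmemc : ∀ x : (T : Subgroup G), x ∈ zpowers c ↔ (x : G) ∈ zpowers (c : G) := by
    intro x
    constructor
    · rintro ⟨j, rfl⟩
      exact ⟨j, by simp⟩
    · rintro ⟨j, hj⟩
      refine ⟨j, Subtype.ext ?_⟩
      simpa using hj
  -- generator of P ⊓ zpowers c
  have hcyc : IsCyclic ↥(P ⊓ zpowers (c : G)) := Subgroup.isCyclic_of_le inf_le_right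
  obtain ⟨a, haz⟩ := (Subgroup.isCyclic_iff_exists_zpowers_eq_top _).mp hcyc
  have hmemA : ∀ x ∈ P, (x ∈ zpowers a ↔ x ∈ zpowers (c : G)) := by
    intro x hx
    rw [haz, Subgroup.mem_inf]
    exact ⟨fun h => h.2, fun h => ⟨hx, h⟩⟩
  have haP : a ∈ P := by
    have : a ∈ zpowers a := mem_zpowers a
    rw [haz] at this
    exact this.1
  have ha : Idx2 P a := by
    refine ⟨haP, ?_⟩
    intro x hx y hy
    rw [hmemA x hx, hmemA y hy, hmemA _ (P.mul_mem hx hy)]
    have := Subgroup.mul_mem_iff_of_index_two hidxT (a := ⟨x, hPT hx⟩) (b := ⟨y, hPT hy⟩)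
    rw [hmemc, hmemc, hmemc] at this
    exact this
  obtain ⟨b, hb⟩ : ∃ b : G, g * a * g⁻¹ = b := ⟨_, rfl⟩
  obtain ⟨k, hk⟩ : ∃ k : G, g * b * g⁻¹ = k := ⟨_, rfl⟩
  have hIb : Idx2 P b := hb ▸ ha.conj g
  have hIk : Idx2 P k := hk ▸ hIb.conj g
  have hbA : b ∉ zpowers a := by
    intro hc; rw [← hb] at hc; exact hgC (c1 hP2 ha g hgodd hc)
  have hkB : k ∉ zpowers b := by
    intro hc; rw [← hk] at hc; exact hgC (c1 hP2 hIb g hgodd hc)
  have hkA : k ∉ zpowers a := by
    intro hc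
    apply sq_not_cent hgodd hgC
    apply c1 hP2 ha (g ^ 2) (sq_odd hgodd)
    have : g ^ 2 * a * (g ^ 2)⁻¹ = k := by rw [← hk, ← hb, pow_two]; group
    rw [this]; exact hc
  have hob' : orderOf b = orderOf a := by rw [← hb, ← MulAut.conj_apply, MulEquiv.orderOf_eq]
  have hok' : orderOf k = orderOf b := by rw [← hk, ← MulAut.conj_apply, MulEquiv.orderOf_eq]
  have hb4 : b ^ 4 = 1 := by
    have hbT : b ∈ (T : Subgroup G) := hPT hIb.1
    have hbc : (⟨b, hbT⟩ : (T : Subgroup G)) ∉ zpowers c := by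
      rw [hmemc]
      intro hc'
      exact hbA ((hmemA b hIb.1).mpr hc')
    have h1 := hcout _ hbc
    have h2 := congrArg Subtype.val h1
    simpa using h2
  obtain ⟨m, hm⟩ : ∃ m : ℕ, orderOf a = 2 ^ m := by
    obtain ⟨m, hm⟩ := IsPGroup.iff_orderOf.mp hP2 ⟨a, haP⟩
    exact ⟨m, by rw [← hm, Subgroup.orderOf_mk]⟩
  have hm2 : m ≤ 2 := by
    have h1 : orderOf b ∣ 4 := orderOf_dvd_of_pow_eq_one hb4
    rw [hob', hm] at h1
    have h2 : 2 ^ m ≤ 4 := Nat.le_of_dvd (by norm_num) h1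
    by_contra hcon
    push_neg at hcon
    have : 2 ^ 3 ≤ 2 ^ m := Nat.pow_le_pow_right (by norm_num) hcon
    omega
  have hm0 : m ≠ 0 := by
    rintro rfl
    rw [pow_zero, orderOf_eq_one_iff] at hm
    apply hbA
    rw [← hb, hm]; simp
  have hbinvA : b⁻¹ ∉ zpowers a := fun hc => hbA (by simpa using (zpowers a).inv_mem hc)
  have hmcases : m = 1 ∨ m = 2 := by omega
  rcases hmcases with rfl | rfl
  · -- Klein four case: contradiction
    exfalso
    have hoa : orderOf a = 2 := by rw [hm]; norm_num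
    have hA2 : ∀ x ∈ zpowers a, x = 1 ∨ x = a := by
      intro x hx
      rw [mem_zpowers_iff_mem_range_orderOf, hoa] at hx
      obtain ⟨j, hj, rfl⟩ := Finset.mem_image.mp hx
      rw [Finset.mem_range] at hj
      interval_cases j
      · left; exact pow_zero a
      · right; exact pow_one a
    have hform : ∀ w ∈ P, w = 1 ∨ w = a ∨ w = b ∨ w = a * b := by
      intro w hw
      by_cases hwA : w ∈ zpowers a
      · rcases hA2 w hwA with h | h
        · left; exact h
        · right; left; exact h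
      · have h1 : w * b⁻¹ ∈ zpowers a :=
          (ha.2 w hw b⁻¹ (P.inv_mem hIb.1)).mpr
            ⟨fun h => absurd h hwA, fun h => absurd h hbinvA⟩
        rcases hA2 _ h1 with h | h
        · right; right; left
          calc w = (w * b⁻¹) * b := by group
            _ = b := by rw [h, one_mul]
        · right; right; right
          calc w = (w * b⁻¹) * b := by group
            _ = a * b := by rw [h]
    have hkab : k = a * b := by
      rcases hform k hIk.1 with h | h | h | h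
      · exfalso; apply hkA; rw [h]; exact one_mem _
      · exfalso; apply hkA; rw [h]; exact mem_zpowers a
      · exfalso; apply hkB; rw [h]; exact mem_zpowers b
      · exact h
    haveI : Nontrivial (T : Subgroup G) := by
      have : 1 < Nat.card (T : Subgroup G) := by rw [hcard]; omega
      exact Finite.one_lt_card_iff_nontrivial.mp this
    have hTp : IsPGroup 2 (T : Subgroup G) := T.isPGroup'
    haveI := IsPGroup.center_nontrivial hTp
    obtain ⟨z, hz1⟩ := exists_ne (1 : Subgroup.center (T : Subgroup G))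
    have hzG1 : ((z : (T : Subgroup G)) : G) ≠ 1 := by
      intro h
      apply hz1
      apply Subtype.ext
      apply Subtype.ext
      exact h
    have hzcent : ((z : (T : Subgroup G)) : G) ∈ centralizer ((T : Subgroup G) : Set G) := by
      rw [Subgroup.mem_centralizer_iff]
      intro t ht
      have h1 := Subgroup.mem_center_iff.mp z.2 ⟨t, ht⟩
      exact congrArg Subtype.val h1
    have hzZ : ((z : (T : Subgroup G)) : G) ∈
        (T : Subgroup G) ⊓ centralizer ((T : Subgroup G) : Set G) :=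
      Subgroup.mem_inf.mpr ⟨(z : (T : Subgroup G)).2, hzcent⟩
    have hZP : (T : Subgroup G) ⊓ centralizer ((T : Subgroup G) : Set G) ≤ P :=
      inf_le_right.trans ((Subgroup.centralizer_le (SetLike.coe_subset_coe.mpr hPT)).trans hcent)
    have hginv_b : g⁻¹ * b * g⁻¹⁻¹ = a := by rw [← hb]; group
    have hginv_k : g⁻¹ * k * g⁻¹⁻¹ = b := by rw [← hk]; group
    have habZ : a ∈ (T : Subgroup G) ⊓ centralizer ((T : Subgroup G) : Set G) ∧
        b ∈ (T : Subgroup G) ⊓ centralizer ((T : Subgroup G) : Set G) := by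
      rcases hform _ (hZP hzZ) with h | h | h | h
      · exact absurd h hzG1
      · rw [h] at hzZ
        exact ⟨hzZ, hb ▸ hZ.conj_mem a hzZ g⟩
      · rw [h] at hzZ
        exact ⟨hginv_b ▸ hZ.conj_mem b hzZ g⁻¹, hzZ⟩
      · rw [h, ← hkab] at hzZ
        have hbZ := hginv_k ▸ hZ.conj_mem k hzZ g⁻¹
        exact ⟨hginv_b ▸ hZ.conj_mem b hbZ g⁻¹, hbZ⟩
    have hTP : (T : Subgroup G) ≤ P := by
      intro t ht
      apply hcent
      apply cent_of_ab ha hIb.1 hbA
      · exact ((Subgroup.mem_centralizer_iff.mp habZ.1.2) t ht)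
      · exact ((Subgroup.mem_centralizer_iff.mp habZ.2.2) t ht)
    have hcA : (c : G) ∈ zpowers a := (hmemA _ (hTP c.2)).mpr (mem_zpowers _)
    have hd := orderOf_dvd_of_mem_zpowers hcA
    rw [Subgroup.orderOf_coe, hoa] at hd
    have := Nat.le_of_dvd (by norm_num) hd
    omega
  · -- quaternion case
    have hoa : orderOf a = 4 := by rw [hm]; norm_num
    have hob : orderOf b = 4 := by rw [hob', hoa]
    have hok : orderOf k = 4 := by rw [hok', hob]
    obtain ⟨hsq, hrel, hkab⟩ := q8_rel ha hIb hoa hob hok hbA hIk.1 hkA hkB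
    have hl : g * k * g⁻¹ = a := by
      rcases hkab with h | h
      · calc g * k * g⁻¹ = (g * a * g⁻¹) * (g * b * g⁻¹) := by rw [h]; group
          _ = b * k := by rw [hb, hk]
          _ = b * (a * b) := by rw [h]
          _ = (b * a * b⁻¹) * b ^ 2 := by rw [pow_two]; group
          _ = a⁻¹ * a ^ 2 := by rw [hrel, hsq]
          _ = a := by rw [pow_two]; group
      · calc g * k * g⁻¹ = (g * a * g⁻¹)⁻¹ * (g * b * g⁻¹) := by rw [h]; group
          _ = b⁻¹ * k := by rw [hb, hk]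
          _ = b⁻¹ * (a⁻¹ * b) := by rw [h]
          _ = b⁻¹ * ((b * a * b⁻¹) * b) := by rw [hrel]
          _ = a := by group
    have e3 : g ^ 3 = g * g * g := by rw [pow_succ, pow_two]
    have hg3a : Commute (g ^ 3) a := by
      show g ^ 3 * a = a * g ^ 3
      rw [e3]
      calc g * g * g * a = (g * (g * (g * a * g⁻¹) * g⁻¹) * g⁻¹) * (g * g * g) := by group
        _ = a * (g * g * g) := by rw [hb, hk, hl]
    have hg3b : Commute (g ^ 3) b := by
      show g ^ 3 * b = b * g ^ 3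
      rw [e3]
      calc g * g * g * b = (g * (g * (g * b * g⁻¹) * g⁻¹) * g⁻¹) * (g * g * g) := by group
        _ = b * (g * g * g) := by rw [hk, hl, hb]
    have hg3P : g ^ 3 ∈ P := hcent (cent_of_ab ha hIb.1 hbA _ hg3a hg3b)
    have hg3 : g ^ 3 = 1 := by
      apply odd_P _ hg3P
      exact Odd.of_dvd_nat hgodd (orderOf_pow_dvd 3)
    have hog : orderOf g = 3 := by
      have hd : orderOf g ∣ 3 := orderOf_dvd_of_pow_eq_one hg3
      rcases (Nat.dvd_prime Nat.prime_three).mp hd with h | h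
      · exact absurd (orderOf_eq_one_iff.mp h) hgne
      · exact h
    have hPU : P ≤ P ⊔ zpowers g := le_sup_left
    have hgU : g ∈ P ⊔ zpowers g := Subgroup.mem_sup_right (mem_zpowers g)
    refine ⟨P ⊔ zpowers g, ?_, ?_⟩
    · constructor
      intro n hn y
      obtain ⟨p, hp, z, hz, rfl⟩ := mem_sup_normal g n hn
      have h1 : y * (p * z) * y⁻¹ = (y * p * y⁻¹) * (y * z * y⁻¹) := by group
      rw [h1]
      apply Subgroup.mul_mem _ (hPU (hPn.conj_mem p hp y))
      apply odd_in_U hP2 hcent ha hoa hb hk hl hbA hsq hrel hkab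
      rw [← MulAut.conj_apply, MulEquiv.orderOf_eq]
      exact Odd.of_dvd_nat hgodd (orderOf_dvd_of_mem_zpowers hz)
    · obtain ⟨i0, hi0P, hi04, hj2, hconj, hk3⟩ : ∃ i0 : G, i0 ∈ P ∧ orderOf i0 = 4 ∧
          (g * i0 * g⁻¹) ^ 2 = i0 ^ 2 ∧ (g * i0 * g⁻¹) * i0 * (g * i0 * g⁻¹)⁻¹ = i0⁻¹ ∧
          g * (g * i0 * g⁻¹) * g⁻¹ = i0⁻¹ * (g * i0 * g⁻¹) := by
        rcases hkab with h | h
        · have hjinv : g * a⁻¹ * g⁻¹ = b⁻¹ := by rw [← hb]; group
          refine ⟨a⁻¹, P.inv_mem haP, by rw [orderOf_inv, hoa], ?_, ?_, ?_⟩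
          · rw [hjinv, inv_pow, inv_pow, hsq]
          · rw [hjinv, inv_inv, inv_inv]
            calc b⁻¹ * a⁻¹ * b = b⁻¹ * (b * a * b⁻¹) * b := by rw [hrel]
              _ = a := by group
          · rw [hjinv, inv_inv]
            calc g * b⁻¹ * g⁻¹ = (g * b * g⁻¹)⁻¹ := by group
              _ = (a * b)⁻¹ := by rw [hk, h]
              _ = b⁻¹ * a⁻¹ := by group
              _ = b⁻¹ * (b * a * b⁻¹) := by rw [hrel]
              _ = a * b⁻¹ := by group
        · refine ⟨a, haP, hoa, ?_, ?_, ?_⟩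
          · rw [hb, hsq]
          · rw [hb, hrel]
          · rw [hb, hk, h]
      have hcardP : Nat.card P = 8 := by
        have hAP : zpowers a ≤ P := zpowers_le.mpr haP
        have hidx : ((zpowers a).subgroupOf P).index = 2 := by
          rw [Subgroup.index_eq_two_iff]
          refine ⟨⟨b, hIb.1⟩, ?_⟩
          intro x
          have hiff := ha.2 x x.2 b hIb.1
          by_cases hx : (x : G) ∈ zpowers a
          · right
            refine ⟨Subgroup.mem_subgroupOf.mpr hx, ?_⟩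
            intro hc
            have hc' : (x : G) * b ∈ zpowers a := Subgroup.mem_subgroupOf.mp hc
            exact hbA ((hiff.mp hc').mp hx)
          · left
            refine ⟨Subgroup.mem_subgroupOf.mpr ?_, fun hc => hx (Subgroup.mem_subgroupOf.mp hc)⟩
            exact hiff.mpr ⟨fun h => absurd h hx, fun h => absurd h hbA⟩
        have h1 := ((zpowers a).subgroupOf P).card_mul_index
        rw [hidx, Nat.card_congr (Subgroup.subgroupOfEquivOfLe hAP).toEquiv, Nat.card_zpowers,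
          hoa] at h1
        omega
      refine sl23_iso_aux (L := ↥(P ⊔ zpowers g)) (P.subgroupOf (P ⊔ zpowers g)) ⟨g, hgU⟩
        ⟨i0, hPU hi0P⟩ ?_ ?_ ?_ ?_ ?_ ?_ ?_ ?_
      · rw [Nat.card_congr (Subgroup.subgroupOfEquivOfLe hPU).toEquiv, hcardP]
      · exact Subgroup.mem_subgroupOf.mpr hi0P
      · rw [Subgroup.orderOf_mk, hi04]
      · rw [Subgroup.orderOf_mk, hog]
      · exact Subtype.ext hj2
      · exact Subtype.ext hconj
      · exact Subtype.ext hk3
      · rw [eq_top_iff]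
        intro x _
        obtain ⟨p, hp, z, hz, hxpz⟩ := mem_sup_normal g x.1 x.2
        obtain ⟨j, rfl⟩ := hz
        have : x = (⟨p, hPU hp⟩ : ↥(P ⊔ zpowers g)) * (⟨g, hgU⟩ : ↥(P ⊔ zpowers g)) ^ j := by
          apply Subtype.ext
          rw [hxpz]
          simp
        rw [this]
        exact Subgroup.mul_mem_sup (Subgroup.mem_subgroupOf.mpr hp)
          (Subgroup.zpow_mem _ (mem_zpowers _) _)

/-- Let G be a finite solvable group with O(G) = 1 whose Sylow 2-subgroup T is dihedral of order at least 8 or semidihedral, with G ≠ T and Z(T) normal in G. Then G has a normal subgroup isomorphic to SL₂(3). -/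
theorem result {G : Type*} [Group G] [Finite G] (hsol : IsSolvable G) (hO : Cfsg.oddCore G = ⊥) (T : Sylow 2 G) (hT : (∃ n : ℕ, 4 ≤ n ∧ Nonempty (↥(T : Subgroup G) ≃* DihedralGroup n)) ∨ Cfsg.IsQuasiDihedral ↥(T : Subgroup G)) (hne : (T : Subgroup G) ≠ ⊤) (hZ : ((T : Subgroup G) ⊓ Subgroup.centralizer ((T : Subgroup G) : Set G)).Normal) : ∃ U : Subgroup G, U.Normal ∧ Nonempty (↥U ≃* Matrix.SpecialLinearGroup (Fin 2) (ZMod 3)) := by
  exact main2879 hsol hO T hT hne hZ

end Cfsg.Agent.S2879
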