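import Cfsg.Statements.S2880
import Mathlib
import Cfsg.Agent.Lib.Helper9.ExtraSub

set_option autoImplicit false
open Cfsg

namespace Cfsg.Agent.S2880

open scoped commutatorElement

section
variable {E : Type*} [Group E]

theorem half_count {B : Type*} [Group B] [Fintype B] [DecidableEq E] (c : B → E) (z : E)
    (hz : z * z = 1) (hval : ∀ b, c b = 1 ∨ c b = z) (hmul : ∀ a b, c (a * b) = c a * c b)
    (b₀ : B) (hb₀ : c b₀ ≠ 1) :
    2 * (Finset.univ.filter (fun b => c b = 1)).card = Fintype.card B ∧
    2 * (Finset.univ.filter (fun b => ¬ c b = 1)).card = Fintype.card B := by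
  have hb₀z : c b₀ = z := (hval b₀).resolve_left hb₀
  have h1 : (Finset.univ.filter (fun b => c b = 1)).card =
      (Finset.univ.filter (fun b => ¬ c b = 1)).card := by
    apply Finset.card_equiv (Equiv.mulRight b₀)
    intro b
    simp only [Finset.mem_filter, Finset.mem_univ, true_and, Equiv.coe_mulRight]
    rw [hmul, hb₀z]
    constructor
    · intro h
      rw [h, one_mul, ← hb₀z]
      exact hb₀
    · intro h
      rcases hval b with h1 | h1
      · exact h1
      · exfalso
        apply h
        rw [h1, hz]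
  have h2 := Finset.card_filter_add_card_filter_not (s := (Finset.univ : Finset B))
    (fun b => c b = 1)
  rw [Finset.card_univ] at h2
  constructor <;> omega

theorem card_filter_mem [Fintype E] [DecidableEq E] (H : Subgroup E) [DecidablePred (· ∈ H)] :
    (Finset.univ.filter (· ∈ H)).card = Nat.card H := by
  rw [Nat.card_eq_fintype_card, Fintype.card_subtype]

end

/-- Let E be an extraspecial 2-group of order 2^(2m+1) of plus type, that is, containing an elementary abelian subgroup of order 2^(m+1) (equivalently, a central product of m dihedral groups of order 8). Then E has exactly 2^(2m) − 2^m elements of order 4. -/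
theorem result {E : Type*} [Group E] [Finite E] (m : ℕ) (hm : 1 ≤ m) (hE : Cfsg.IsExtraspecial 2 E) (hcard : Nat.card E = 2 ^ (2 * m + 1)) (hplus : ∃ A : Subgroup E, Cfsg.IsElementaryAbelian 2 A ∧ Nat.card A = 2 ^ (m + 1)) : Nat.card {x : E // orderOf x = 4} = 2 ^ (2 * m) - 2 ^ m := by
  classical
  obtain ⟨A, hAel, hAcard⟩ := hplus
  obtain ⟨⟨hP, hΦ, hcomm⟩, hZ2⟩ := hE
  haveI : Fact (Nat.Prime 2) := ⟨Nat.prime_two⟩
  haveI : Fintype E := Fintype.ofFinite E
  obtain ⟨zz, hzz1, hzzu⟩ := (Nat.card_eq_two_iff' (1 : Subgroup.center E)).1 hZ2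
  have hzZ : (zz : E) ∈ Subgroup.center E := zz.2
  have hz1 : (zz : E) ≠ 1 := fun h => hzz1 (Subtype.ext h)
  have hZval : ∀ w ∈ Subgroup.center E, w = 1 ∨ w = (zz : E) := by
    intro w hw
    by_cases h : w = 1
    · left; exact h
    · right
      have h2 := hzzu ⟨w, hw⟩ (fun h' => h (congrArg Subtype.val h'))
      exact congrArg Subtype.val h2
  have hzsq : (zz : E) * (zz : E) = 1 := by
    rcases hZval ((zz : E) * (zz : E)) ((Subgroup.center E).mul_mem hzZ hzZ) with h | h
    · exact h
    · exfalso
      apply hz1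
      have h3 : (zz : E) * (zz : E) = (zz : E) * 1 := by rw [h, mul_one]
      exact mul_left_cancel h3
  have hcen : ∀ w ∈ Subgroup.center E, ∀ g : E, g * w = w * g :=
    fun w hw g => (Subgroup.mem_center_iff.1 hw g)
  have hsqZ : ∀ x : E, x * x ∈ Subgroup.center E := by
    intro x
    have h := Cfsg.Agent.Lib.Helper9.pow_mem_frattini_of_isPGroup 2 hP x
    rw [hΦ, pow_two] at h
    exact h
  have hcommZ : ∀ x y : E, x * y * x⁻¹ * y⁻¹ ∈ Subgroup.center E := by
    intro x y
    have h1 : ⁅x, y⁆ ∈ commutator E :=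
      Subgroup.commutator_mem_commutator (Subgroup.mem_top x) (Subgroup.mem_top y)
    rw [hcomm, commutatorElement_def] at h1
    exact h1
  have hcm_r : ∀ x a b : E, x * (a * b) * x⁻¹ * (a * b)⁻¹ =
      (x * a * x⁻¹ * a⁻¹) * (x * b * x⁻¹ * b⁻¹) := by
    intro x a b
    calc x * (a * b) * x⁻¹ * (a * b)⁻¹
        = x * a * x⁻¹ * ((x * b * x⁻¹ * b⁻¹) * a⁻¹) := by group
      _ = x * a * x⁻¹ * (a⁻¹ * (x * b * x⁻¹ * b⁻¹)) := by
          rw [← hcen _ (hcommZ x b) a⁻¹]
      _ = (x * a * x⁻¹ * a⁻¹) * (x * b * x⁻¹ * b⁻¹) := by group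
  have hcm_l : ∀ x y a : E, (x * y) * a * (x * y)⁻¹ * a⁻¹ =
      (x * a * x⁻¹ * a⁻¹) * (y * a * y⁻¹ * a⁻¹) := by
    intro x y a
    calc (x * y) * a * (x * y)⁻¹ * a⁻¹
        = x * (y * a * y⁻¹ * a⁻¹) * (a * x⁻¹ * a⁻¹) := by group
      _ = (y * a * y⁻¹ * a⁻¹) * x * (a * x⁻¹ * a⁻¹) := by
          rw [hcen _ (hcommZ y a) x]
      _ = (y * a * y⁻¹ * a⁻¹) * (x * a * x⁻¹ * a⁻¹) := by group
      _ = (x * a * x⁻¹ * a⁻¹) * (y * a * y⁻¹ * a⁻¹) := (hcen _ (hcommZ y a) _).symm
  have hcm_one : ∀ x a : E, x * a * x⁻¹ * a⁻¹ = 1 ↔ x * a = a * x := by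
    intro x a
    constructor
    · intro h
      calc x * a = (x * a * x⁻¹ * a⁻¹) * (a * x) := by group
        _ = a * x := by rw [h, one_mul]
    · intro h
      calc x * a * x⁻¹ * a⁻¹ = (a * x) * x⁻¹ * a⁻¹ := by rw [h]
        _ = 1 := by group
  -- facts on A
  have hAcomm : ∀ a ∈ A, ∀ b ∈ A, a * b = b * a := by
    intro a ha b hb
    have h := hAel.1.is_comm.comm ⟨a, ha⟩ ⟨b, hb⟩
    exact congrArg Subtype.val h
  have hAsq : ∀ a ∈ A, a * a = 1 := by
    intro a ha
    have h := hAel.2 a ha
    rwa [pow_two] at h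
  have hAinv : ∀ a ∈ A, a⁻¹ = a := fun a ha => inv_eq_of_mul_eq_one_left (hAsq a ha)
  have hA_le_C : A ≤ Subgroup.centralizer (A : Set E) := by
    intro a ha
    rw [Subgroup.mem_centralizer_iff]
    intro b hb
    exact hAcomm b hb a ha
  have hnE : Fintype.card E = 2 ^ (2 * m + 1) := by rw [← Nat.card_eq_fintype_card]; exact hcard
  have hnA : Fintype.card A = 2 ^ (m + 1) := by rw [← Nat.card_eq_fintype_card]; exact hAcard
  -- the per-element count for x not centralizing A
  have hhalfA : ∀ x : E, x ∉ Subgroup.centralizer (A : Set E) →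
      2 * (Finset.univ.filter (fun a : A => x * (a : E) * x⁻¹ * (a : E)⁻¹ = 1)).card = Fintype.card A ∧
      2 * (Finset.univ.filter (fun a : A => ¬ x * (a : E) * x⁻¹ * (a : E)⁻¹ = 1)).card
        = Fintype.card A := by
    intro x hx
    rw [Subgroup.mem_centralizer_iff] at hx
    push Not at hx
    obtain ⟨a₀, ha₀, hne⟩ := hx
    apply half_count (B := A) (fun a : A => x * (a : E) * x⁻¹ * (a : E)⁻¹) (zz : E) hzsq
      (fun a => hZval _ (hcommZ x a)) (fun a b => by simpa using hcm_r x a b) ⟨a₀, ha₀⟩
    intro h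
    exact hne ((hcm_one x a₀).1 h).symm
  -- Count 1
  have hcount1 := Finset.sum_card_bipartiteAbove_eq_sum_card_bipartiteBelow
    (s := (Finset.univ : Finset E)) (t := (Finset.univ : Finset A))
    (fun (x : E) (a : A) => x * (a : E) = (a : E) * x)
  simp only [Finset.bipartiteAbove, Finset.bipartiteBelow] at hcount1
  have hL1 : ∀ x ∈ Finset.univ.filter (fun x : E => x ∈ Subgroup.centralizer (A : Set E)),
      (Finset.univ.filter (fun a : A => x * (a : E) = (a : E) * x)).card = Fintype.card A := by
    intro x hx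
    rw [Finset.mem_filter] at hx
    rw [Finset.filter_true_of_mem, Finset.card_univ]
    intro a _
    exact ((Subgroup.mem_centralizer_iff.1 hx.2) a a.2).symm
  have hL2 : ∀ x ∈ Finset.univ.filter (fun x : E => ¬ x ∈ Subgroup.centralizer (A : Set E)),
      2 * (Finset.univ.filter (fun a : A => x * (a : E) = (a : E) * x)).card = Fintype.card A := by
    intro x hx
    rw [Finset.mem_filter] at hx
    have h := (hhalfA x hx.2).1
    have e : (Finset.univ.filter (fun a : A => x * (a : E) = (a : E) * x)) =
        (Finset.univ.filter (fun a : A => x * (a : E) * x⁻¹ * (a : E)⁻¹ = 1)) :=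
      Finset.filter_congr (fun a _ => (hcm_one x a).symm)
    rw [e]; exact h
  have hR1 : ∀ a ∈ Finset.univ.filter (fun a : A => (a : E) ∈ Subgroup.center E),
      (Finset.univ.filter (fun x : E => x * (a : E) = (a : E) * x)).card = Fintype.card E := by
    intro a ha
    rw [Finset.mem_filter] at ha
    rw [Finset.filter_true_of_mem, Finset.card_univ]
    intro x _
    exact hcen _ ha.2 x
  have hR2 : ∀ a ∈ Finset.univ.filter (fun a : A => ¬ (a : E) ∈ Subgroup.center E),
      2 * (Finset.univ.filter (fun x : E => x * (a : E) = (a : E) * x)).card = Fintype.card E := by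
    intro a ha
    rw [Finset.mem_filter] at ha
    have hx := ha.2
    rw [Subgroup.mem_center_iff] at hx
    push Not at hx
    obtain ⟨x₀, hx₀⟩ := hx
    have h := (half_count (B := E) (fun x : E => x * (a : E) * x⁻¹ * (a : E)⁻¹) (zz : E) hzsq
      (fun x => hZval _ (hcommZ x a)) (fun x y => hcm_l x y a) x₀
      (fun h => hx₀ ((hcm_one x₀ a).1 h))).1
    have e : (Finset.univ.filter (fun x : E => x * (a : E) = (a : E) * x)) =
        (Finset.univ.filter (fun x : E => x * (a : E) * x⁻¹ * (a : E)⁻¹ = 1)) :=
      Finset.filter_congr (fun x _ => (hcm_one x a).symm)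
    rw [e]; exact h
  -- assemble count 1
  have hCcard : (Finset.univ.filter (fun x : E => x ∈ Subgroup.centralizer (A : Set E))).card =
      Nat.card (Subgroup.centralizer (A : Set E)) := card_filter_mem _
  have hCsplit := Finset.card_filter_add_card_filter_not (s := (Finset.univ : Finset E))
    (fun x : E => x ∈ Subgroup.centralizer (A : Set E))
  have hZsplit := Finset.card_filter_add_card_filter_not (s := (Finset.univ : Finset A))
    (fun a : A => (a : E) ∈ Subgroup.center E)
  rw [Finset.card_univ] at hCsplit hZsplit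
  have hLsum : 2 * ∑ x : E, (Finset.univ.filter (fun a : A => x * (a : E) = (a : E) * x)).card =
      2 * ((Finset.univ.filter (fun x : E => x ∈ Subgroup.centralizer (A : Set E))).card
        * Fintype.card A) +
      (Finset.univ.filter (fun x : E => ¬ x ∈ Subgroup.centralizer (A : Set E))).card
        * Fintype.card A := by
    rw [← Finset.sum_filter_add_sum_filter_not Finset.univ
      (fun x : E => x ∈ Subgroup.centralizer (A : Set E)), mul_add, Finset.sum_const_nat hL1]
    congr 1
    rw [Finset.mul_sum, Finset.sum_const_nat hL2]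
  have hRsum : 2 * ∑ a : A, (Finset.univ.filter (fun x : E => x * (a : E) = (a : E) * x)).card =
      2 * ((Finset.univ.filter (fun a : A => (a : E) ∈ Subgroup.center E)).card
        * Fintype.card E) +
      (Finset.univ.filter (fun a : A => ¬ (a : E) ∈ Subgroup.center E)).card
        * Fintype.card E := by
    rw [← Finset.sum_filter_add_sum_filter_not Finset.univ
      (fun a : A => (a : E) ∈ Subgroup.center E), mul_add, Finset.sum_const_nat hR1]
    congr 1
    rw [Finset.mul_sum, Finset.sum_const_nat hR2]
  rw [hcount1] at hLsum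
  rw [hLsum] at hRsum
  -- bound on A ∩ Z
  have hAZle : (Finset.univ.filter (fun a : A => (a : E) ∈ Subgroup.center E)).card ≤ 2 ∧
      ((zz : E) ∉ A →
        (Finset.univ.filter (fun a : A => (a : E) ∈ Subgroup.center E)).card ≤ 1) := by
    constructor
    · by_cases hzA : (zz : E) ∈ A
      · have hsub : (Finset.univ.filter (fun a : A => (a : E) ∈ Subgroup.center E)) ⊆
            {(1 : A), ⟨(zz : E), hzA⟩} := by
          intro a ha
          rw [Finset.mem_filter] at ha
          rw [Finset.mem_insert, Finset.mem_singleton]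
          rcases hZval _ ha.2 with h | h
          · left; exact Subtype.ext h
          · right; exact Subtype.ext h
        exact le_trans (Finset.card_le_card hsub) Finset.card_le_two
      · have hsub : (Finset.univ.filter (fun a : A => (a : E) ∈ Subgroup.center E)) ⊆
            {(1 : A)} := by
          intro a ha
          rw [Finset.mem_filter] at ha
          rw [Finset.mem_singleton]
          rcases hZval _ ha.2 with h | h
          · exact Subtype.ext h
          · exfalso; apply hzA; rw [← h]; exact a.2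
        have := Finset.card_le_card hsub
        rw [Finset.card_singleton] at this
        omega
    · intro hzA
      have hsub : (Finset.univ.filter (fun a : A => (a : E) ∈ Subgroup.center E)) ⊆
          {(1 : A)} := by
        intro a ha
        rw [Finset.mem_filter] at ha
        rw [Finset.mem_singleton]
        rcases hZval _ ha.2 with h | h
        · exact Subtype.ext h
        · exfalso; apply hzA; rw [← h]; exact a.2
      have := Finset.card_le_card hsub
      rw [Finset.card_singleton] at this
      exact this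
  have hCge : Nat.card A ≤ Nat.card (Subgroup.centralizer (A : Set E)) :=
    Subgroup.card_le_of_le hA_le_C
  -- derive C = A
  have hCA : Subgroup.centralizer (A : Set E) = A := by
    symm
    apply Subgroup.eq_of_le_of_card_ge hA_le_C
    rw [← hCcard] at hCge ⊢
    rw [hAcard] at hCge ⊢
    simp only [hnE, hnA] at hRsum hCsplit hZsplit
    generalize (Finset.univ.filter (fun x : E => x ∈ Subgroup.centralizer (A : Set E))).card = nC
      at *
    generalize (Finset.univ.filter (fun x : E => ¬ x ∈ Subgroup.centralizer (A : Set E))).card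
      = nC' at *
    generalize (Finset.univ.filter (fun a : A => (a : E) ∈ Subgroup.center E)).card = nZ at *
    generalize (Finset.univ.filter (fun a : A => ¬ (a : E) ∈ Subgroup.center E)).card = nZ' at *
    have hp : (2 : ℕ) ^ (2 * m + 1) * 2 = 2 ^ (m + 1) * 2 ^ (m + 1) := by
      rw [← pow_succ, ← pow_add]; congr 1; omega
    have hkey : nC * 2 ^ (m + 1) = nZ * 2 ^ (2 * m + 1) := by
      have e1 : nC' = 2 ^ (2 * m + 1) - nC := by omega
      have e2 : nZ' = 2 ^ (m + 1) - nZ := by omega
      nlinarith [hRsum, hCsplit, hZsplit]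
    have hpos : 0 < (2 : ℕ) ^ (m + 1) := by positivity
    have h3 : nC * 2 ^ (m + 1) ≤ 2 ^ (m + 1) * 2 ^ (m + 1) := by
      rw [hkey, ← hp]
      calc nZ * 2 ^ (2 * m + 1) ≤ 2 * 2 ^ (2 * m + 1) := Nat.mul_le_mul_right _ hAZle.1
        _ = 2 ^ (2 * m + 1) * 2 := by ring
    exact Nat.le_of_mul_le_mul_right (by rw [mul_comm (2 ^ (m + 1)) (2 ^ (m + 1))] at h3; exact h3) hpos
  
  have hnotA : ∀ x : E, x ∉ A → x ∉ Subgroup.centralizer (A : Set E) := fun x hx => by
    rw [hCA]; exact hx
  have hsqid : ∀ x : E, ∀ a ∈ A, (x * a) * (x * a) = (x * a * x⁻¹ * a⁻¹) * (x * x) := by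
    intro x a ha
    calc (x * a) * (x * a) = x * a * x⁻¹ * ((x * x) * a) := by group
      _ = x * a * x⁻¹ * (a * (x * x)) := by rw [← hcen _ (hsqZ x) a]
      _ = (x * a * x⁻¹ * a⁻¹) * (x * x) := by rw [hAinv a ha]; group
  have hcount2 := Finset.sum_card_bipartiteAbove_eq_sum_card_bipartiteBelow
    (s := (Finset.univ : Finset E)) (t := (Finset.univ : Finset A))
    (fun (x : E) (a : A) => ¬ (x * (a : E)) * (x * (a : E)) = 1)
  simp only [Finset.bipartiteAbove, Finset.bipartiteBelow] at hcount2
  have hM1 : ∀ x ∈ Finset.univ.filter (fun x : E => x ∈ A),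
      (Finset.univ.filter (fun a : A => ¬ (x * (a : E)) * (x * (a : E)) = 1)).card = 0 := by
    intro x hx
    rw [Finset.mem_filter] at hx
    rw [Finset.filter_false_of_mem, Finset.card_empty]
    intro a _
    rw [not_not]
    exact hAsq _ (A.mul_mem hx.2 a.2)
  have hM2 : ∀ x ∈ Finset.univ.filter (fun x : E => ¬ x ∈ A),
      2 * (Finset.univ.filter (fun a : A => ¬ (x * (a : E)) * (x * (a : E)) = 1)).card
        = Fintype.card A := by
    intro x hx
    rw [Finset.mem_filter] at hx
    have hh := hhalfA x (hnotA x hx.2)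
    rcases hZval _ (hsqZ x) with hx2 | hx2
    · have e : (Finset.univ.filter (fun a : A => ¬ (x * (a : E)) * (x * (a : E)) = 1)) =
          (Finset.univ.filter (fun a : A => ¬ x * (a : E) * x⁻¹ * (a : E)⁻¹ = 1)) := by
        apply Finset.filter_congr
        intro a _
        rw [hsqid x a a.2, hx2, mul_one]
      rw [e]; exact hh.2
    · have e : (Finset.univ.filter (fun a : A => ¬ (x * (a : E)) * (x * (a : E)) = 1)) =
          (Finset.univ.filter (fun a : A => x * (a : E) * x⁻¹ * (a : E)⁻¹ = 1)) := by
        apply Finset.filter_congr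
        intro a _
        rw [hsqid x a a.2, hx2]
        constructor
        · intro h
          rcases hZval _ (hcommZ x a) with h1 | h1
          · exact h1
          · exfalso; apply h; rw [h1, hzsq]
        · intro h
          rw [h, one_mul]; exact hz1
      rw [e]; exact hh.1
  have hQ : ∀ a : A,
      (Finset.univ.filter (fun x : E => ¬ (x * (a : E)) * (x * (a : E)) = 1)).card =
      (Finset.univ.filter (fun x : E => ¬ x * x = 1)).card := by
    intro a
    apply Finset.card_equiv (Equiv.mulRight (a : E))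
    intro x
    simp only [Finset.mem_filter, Finset.mem_univ, true_and, Equiv.coe_mulRight]
  have hAsplit := Finset.card_filter_add_card_filter_not (s := (Finset.univ : Finset E))
    (fun x : E => x ∈ A)
  rw [Finset.card_univ] at hAsplit
  have hAfc : (Finset.univ.filter (fun x : E => x ∈ A)).card = Nat.card A := card_filter_mem _
  have hMsum : 2 * ∑ x : E,
      (Finset.univ.filter (fun a : A => ¬ (x * (a : E)) * (x * (a : E)) = 1)).card =
      (Finset.univ.filter (fun x : E => ¬ x ∈ A)).card * Fintype.card A := by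
    rw [← Finset.sum_filter_add_sum_filter_not Finset.univ (fun x : E => x ∈ A), mul_add,
      Finset.sum_const_nat hM1, mul_zero, mul_zero, zero_add, Finset.mul_sum,
      Finset.sum_const_nat hM2]
  have hQsum : ∑ a : A,
      (Finset.univ.filter (fun x : E => ¬ (x * (a : E)) * (x * (a : E)) = 1)).card =
      Fintype.card A * (Finset.univ.filter (fun x : E => ¬ x * x = 1)).card := by
    rw [Finset.sum_congr rfl (fun a _ => hQ a), Finset.sum_const, Finset.card_univ, smul_eq_mul]
  rw [hcount2, hQsum] at hMsum
  have hfin : Nat.card {x : E // orderOf x = 4} =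
      (Finset.univ.filter (fun x : E => ¬ x * x = 1)).card := by
    rw [Nat.card_eq_fintype_card, Fintype.card_subtype]
    refine congrArg Finset.card (Finset.filter_congr ?_)
    intro x _
    constructor
    · intro h hx
      have h2 : orderOf x ∣ 2 := orderOf_dvd_of_pow_eq_one (by rw [pow_two]; exact hx)
      rw [h] at h2
      omega
    · intro hx
      have h4 : x ^ 2 ^ (1 + 1) = 1 := by
        have e : x ^ 2 ^ (1 + 1) = (x * x) * (x * x) := by
          rw [show (2 : ℕ) ^ (1 + 1) = 2 + 2 from rfl, pow_add, pow_two]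
        rw [e]
        rcases hZval _ (hsqZ x) with h | h
        · rw [h, one_mul]
        · rw [h]; exact hzsq
      have hn : ¬ x ^ 2 ^ 1 = 1 := by
        rw [pow_one, pow_two]; exact hx
      have h5 := orderOf_eq_prime_pow hn h4
      rw [h5]; norm_num
  rw [hfin]
  rw [hnA] at hMsum
  rw [hAfc, hAcard, hnE] at hAsplit
  generalize (Finset.univ.filter (fun x : E => ¬ x * x = 1)).card = nQ at *
  generalize (Finset.univ.filter (fun x : E => ¬ x ∈ A)).card = nA' at *
  have hpos : 0 < (2 : ℕ) ^ (m + 1) := by positivity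
  have h1 : 2 * nQ = nA' := by
    apply Nat.eq_of_mul_eq_mul_right hpos
    rw [← hMsum]; ring
  have e1 : (2 : ℕ) ^ (2 * m + 1) = 2 * 2 ^ (2 * m) := by rw [pow_succ]; ring
  have e2 : (2 : ℕ) ^ (m + 1) = 2 * 2 ^ m := by rw [pow_succ]; ring
  rw [e1, e2] at hAsplit
  omega

end Cfsg.Agent.S2880
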