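import Cfsg.Statements.S2881
import Mathlib
import Cfsg.Agent.S2880
import Cfsg.Agent.Lib.Lead.Extra2

set_option autoImplicit false
open Cfsg

namespace Cfsg.Agent.S2881

theorem pow_mod_five (k r : ℕ) : 2 ^ (4 * k + r) % 5 = 2 ^ r % 5 := by
  rw [pow_add, pow_mul, Nat.mul_mod, Nat.pow_mod]
  norm_num

/-- Let E be an extraspecial 2-group of order 2^(2m+1) of plus type (containing an elementary abelian subgroup of order 2^(m+1)), and let ω be an automorphism of E of order 5 whose fixed points are exactly the centre of E. Then m is divisible by 4. -/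
theorem result {E : Type*} [Group E] [Finite E] (m : ℕ) (hm : 1 ≤ m) (hE : Cfsg.IsExtraspecial 2 E) (hcard : Nat.card E = 2 ^ (2 * m + 1)) (hplus : ∃ A : Subgroup E, Cfsg.IsElementaryAbelian 2 A ∧ Nat.card A = 2 ^ (m + 1)) (ω : E ≃* E) (hω : orderOf ω = 5) (hfix : ∀ x : E, ω x = x ↔ x ∈ Subgroup.center E) : 4 ∣ m := by
  classical
  haveI : Fact (Nat.Prime 5) := ⟨by norm_num⟩
  haveI : Fintype E := Fintype.ofFinite E
  have hcount := Cfsg.Agent.S2880.result m hm hE hcard hplus
  obtain ⟨z, hD⟩ := Cfsg.Agent.Lib.Lead.Extra2.exists_data hE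
  have hω5 : ∀ x : E, ω (ω (ω (ω (ω x)))) = x := by
    intro x
    have h := pow_orderOf_eq_one ω
    rw [hω] at h
    have h2 := congrArg (fun f : E ≃* E => f x) h
    simpa [pow_succ, MulAut.mul_apply] using h2
  have hord : ∀ x : E, orderOf (ω x) = orderOf x := fun x => MulEquiv.orderOf_eq ω x
  let f : Function.End {x : E // orderOf x = 4} := fun x => ⟨ω x.1, by rw [hord]; exact x.2⟩
  have hf5 : f ^ 5 ^ 1 = 1 := by
    rw [pow_one]
    funext x
    apply Subtype.ext
    have h1 : (f ^ 5) x = f (f (f (f (f x)))) := rfl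
    rw [h1]
    exact hω5 x.1
  have hmod := Equiv.Perm.card_fixedPoints_modEq (p := 5) (n := 1) hf5
  have hfp : Fintype.card (Function.fixedPoints f) = 0 := by
    rw [Fintype.card_eq_zero_iff]
    constructor
    rintro ⟨x, hx⟩
    have h1 : ω x.1 = x.1 := congrArg Subtype.val hx
    have h2 := (hfix x.1).1 h1
    have h3 : x.1 * x.1 = 1 := by
      rcases hD.cval _ h2 with h | h
      · rw [h, one_mul]
      · rw [h]; exact hD.zz
    have h4 : orderOf x.1 ∣ 2 := orderOf_dvd_of_pow_eq_one (by rw [pow_two]; exact h3)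
    rw [x.2] at h4
    omega
  rw [hfp] at hmod
  have h5 : 5 ∣ Fintype.card {x : E // orderOf x = 4} := (Nat.modEq_zero_iff_dvd).1 hmod
  rw [← Nat.card_eq_fintype_card, hcount] at h5
  have e1 : (2 : ℕ) ^ (2 * m) - 2 ^ m = 2 ^ m * (2 ^ m - 1) := by
    rw [Nat.mul_sub, mul_one, ← pow_add]
    congr 2
    omega
  rw [e1] at h5
  have hcop : Nat.Coprime 5 (2 ^ m) := Nat.Coprime.pow_right m (by norm_num)
  have h6 : 5 ∣ 2 ^ m - 1 := hcop.dvd_of_dvd_mul_left h5
  have hpos : 1 ≤ 2 ^ m := Nat.one_le_two_pow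
  have h7 : 2 ^ m % 5 = 1 := by omega
  have hdm := Nat.div_add_mod m 4
  rw [← hdm, pow_mod_five] at h7
  have hr : m % 4 < 4 := Nat.mod_lt _ (by norm_num)
  have h8 : m % 4 = 0 := by
    generalize m % 4 = r at *
    interval_cases r <;> simp_all
  exact Nat.dvd_of_mod_eq_zero h8

end Cfsg.Agent.S2881
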