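import Cfsg.Statements.S2896
import Cfsg.Agent.Lib.Helper5.CPin2
import Cfsg.Agent.Lib.Helper5.SPE
import Cfsg.Agent.Lib.Helper9.SylowConj

set_option autoImplicit false
open Cfsg

namespace Cfsg.Agent.S2896

open Cfsg.Agent.Lib.Helper5

theorem result {G : Type*} [Group G] [Finite G] {p : ℕ} [Fact p.Prime] (hdiv : p ∣ Nat.card G) (S : Sylow p G) (X : Subgroup G) (hX : X ≤ (S : Subgroup G)) : (∀ z : G, z ≠ 1 → z ∈ X → (∀ x ∈ X, x * z = z * x) → Cfsg.generalizedFittingSubgroup ↥(Subgroup.centralizer ({z} : Set G)) = Cfsg.pCore p ↥(Subgroup.centralizer ({z} : Set G)) → Cfsg.generalizedFittingSubgroup ↥(Subgroup.normalizer (X : Set G)) = Cfsg.pCore p ↥(Subgroup.normalizer (X : Set G))) ∧ (Cfsg.IsOfParabolicCharacteristic p G ↔ ∀ z : G, z ≠ 1 → z ∈ Cfsg.omegaOne p ((S : Subgroup G) ⊓ Subgroup.centralizer ((S : Subgroup G) : Set G)) → Cfsg.generalizedFittingSubgroup ↥(Subgroup.centralizer ({z} : Set G)) = Cfsg.pCore p ↥(Subgroup.centralizer ({z} : Set G))) ∧ ((∀ z : G, z ∈ (S : Subgroup G) → orderOf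 z = p → Cfsg.generalizedFittingSubgroup ↥(Subgroup.centralizer ({z} : Set G)) = Cfsg.pCore p ↥(Subgroup.centralizer ({z} : Set G))) → Cfsg.IsOfLocalCharacteristic p G) := by
  classical
  have hSp : IsPGroup p (S : Subgroup G) := S.isPGroup'
  refine ⟨?_, ?_, ?_⟩
  · -- (i)
    intro z _ hzX hzc hF
    rw [← cpin_iff_genFitting] at hF ⊢
    exact cpin_normalizer_of_center X (hSp.to_le hX) z hzX hzc hF
  · -- (ii)
    constructor
    · intro hG z hz1 hzO
      have hzS := omegaOne_le _ hzO
      have hRle : Subgroup.zpowers z ≤ (S : Subgroup G) := by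
        rw [Subgroup.zpowers_le]; exact hzS.1
      have hRp : IsPGroup p (Subgroup.zpowers z) := hSp.to_le hRle
      have hRne : Subgroup.zpowers z ≠ ⊥ := by rw [Ne, Subgroup.zpowers_eq_bot]; exact hz1
      have hSC : (S : Subgroup G) ≤ Subgroup.centralizer (Subgroup.zpowers z : Set G) := by
        rw [← centralizer_singleton_eq_zpowers]
        intro s hs
        rw [Subgroup.mem_centralizer_iff]
        intro y hy
        rw [Set.mem_singleton_iff] at hy
        rw [hy]
        exact (Subgroup.mem_centralizer_iff.mp hzS.2 s hs).symm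
      have h1 := hG (Subgroup.zpowers z) hRp hRne
        ⟨S, hSC.trans (Subgroup.centralizer_le_normalizer _)⟩
      have h2 : CPin p (Subgroup.normalizer (Subgroup.zpowers z : Set G)) := cpin_of_charp _ h1
      have h3 := cpin_of_normalizedBy _ (Subgroup.centralizer (Subgroup.zpowers z : Set G)) h2
        (Subgroup.centralizer_le_normalizer _) (normalizer_le_normalizer_centralizer _)
      rw [← centralizer_singleton_eq_zpowers] at h3
      exact (cpin_iff_genFitting _).mp h3
    · intro hyp R hRp hRne hpar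
      obtain ⟨T, hT⟩ := hpar
      obtain ⟨g, hg⟩ := MulAction.exists_smul_eq G T S
      apply charp_of_cpin
      apply cpin_normalizer_of_conj R g
      have hR'p : IsPGroup p (R.map (MulAut.conj g).toMonoidHom) := hRp.map _
      have hR'ne : R.map (MulAut.conj g).toMonoidHom ≠ ⊥ := map_conj_ne_bot R g hRne
      have hSN : (S : Subgroup G) ≤
          Subgroup.normalizer ((R.map (MulAut.conj g).toMonoidHom : Subgroup G) : Set G) := by
        rw [normalizer_map_conj, ← hg, sylow_smul_coe]
        exact Subgroup.map_mono hT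
      obtain ⟨R', hR'def⟩ : ∃ R' : Subgroup G, R' = R.map (MulAut.conj g).toMonoidHom := ⟨_, rfl⟩
      rw [← hR'def] at hR'p hR'ne hSN ⊢
      have hR'P : R' ≤ Cfsg.pCoreOf p (Subgroup.normalizer (R' : Set G)) :=
        le_pCoreOf _ R' Subgroup.le_normalizer le_rfl hR'p
      have hPS : Cfsg.pCoreOf p (Subgroup.normalizer (R' : Set G)) ≤ (S : Subgroup G) :=
        le_sylow_of_normalizedBy S _ (isPGroup_pCoreOf p _) (hSN.trans (pCoreOf_normalizer _))
      have hPne : Cfsg.pCoreOf p (Subgroup.normalizer (R' : Set G)) ≠ ⊥ :=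
        fun h => hR'ne (le_bot_iff.mp (h ▸ hR'P))
      obtain ⟨u, huP, huo, huc⟩ := exists_central_orderOf_eq (p := p)
        (Cfsg.pCoreOf p (Subgroup.normalizer (R' : Set G))) (S : Subgroup G) hSp hPS
        (hSN.trans (pCoreOf_normalizer _)) hPne
      have hup : u ^ p = 1 := by
        have := pow_orderOf_eq_one u
        rwa [huo] at this
      have hu1 : u ≠ 1 := by
        intro h
        rw [h, orderOf_one] at huo
        exact (Fact.out : p.Prime).one_lt.ne huo
      have huO : u ∈ Cfsg.omegaOne p ((S : Subgroup G) ⊓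
          Subgroup.centralizer ((S : Subgroup G) : Set G)) :=
        Subgroup.subset_closure ⟨⟨hPS huP, Subgroup.mem_centralizer_iff.mpr huc⟩, hup⟩
      have hF := hyp u hu1 huO
      rw [← cpin_iff_genFitting] at hF
      exact cpin_normalizer_of_central_elt R' hR'p u huP
        (fun r hr => huc r (hPS (hR'P hr))) hF
  · -- (iii)
    intro hyp
    refine ⟨hdiv, ?_⟩
    intro T hTp hTne
    obtain ⟨g, hg⟩ := Cfsg.Agent.Lib.Helper9.exists_conj_le_sylow p S hTp
    apply charp_of_cpin
    apply cpin_normalizer_of_conj T g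
    have hT'p : IsPGroup p (T.map (MulAut.conj g).toMonoidHom) := hTp.map _
    have hT'ne : T.map (MulAut.conj g).toMonoidHom ≠ ⊥ := map_conj_ne_bot T g hTne
    obtain ⟨T', hT'def⟩ : ∃ T' : Subgroup G, T' = T.map (MulAut.conj g).toMonoidHom := ⟨_, rfl⟩
    rw [← hT'def] at hT'p hT'ne hg ⊢
    obtain ⟨u, huT, huo, huc⟩ := exists_central_orderOf_eq (p := p) T' T' hT'p le_rfl
      Subgroup.le_normalizer hT'ne
    have hF := hyp u (hg huT) huo
    rw [← cpin_iff_genFitting] at hF
    exact cpin_normalizer_of_center T' hT'p u huT huc hF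

end Cfsg.Agent.S2896
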