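import Cfsg.Statements.S2897
import Cfsg.Agent.Lib.Helper5.CPin
import Cfsg.Agent.Lib.Helper5.MaxP
import Cfsg.Agent.Lib.Helper5.SPE

set_option autoImplicit false
open Cfsg

namespace Cfsg.Agent.S2897

open Cfsg.Agent.Lib.Helper5

theorem result {G : Type*} [Group G] [Finite G] {p : ℕ} [Fact p.Prime] (hdiv : p ∣ Nat.card G) (hG : Cfsg.IsOfParabolicCharacteristic p G) (S : Sylow p G) (G₁ : Subgroup G) [G₁.Normal] (hne : Cfsg.omegaOne p (((S : Subgroup G) ⊓ G₁) ⊓ Subgroup.centralizer (((S : Subgroup G) ⊓ G₁ : Subgroup G) : Set G)) ≠ ⊥) (hle : Cfsg.omegaOne p (((S : Subgroup G) ⊓ G₁) ⊓ Subgroup.centralizer (((S : Subgroup G) ⊓ G₁ : Subgroup G) : Set G)) ≤ Cfsg.omegaOne p ((S : Subgroup G) ⊓ Subgroup.centralizer ((S : Subgroup G) : Set G))) : Cfsg.IsOfParabolicCharacteristic p ↥G₁ := by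
  classical
  -- elementwise form of the hypothesis
  have hstar : ∀ u ∈ (S : Subgroup G) ⊓ G₁, (∀ t ∈ (S : Subgroup G) ⊓ G₁, t * u = u * t) → u ^ p = 1 →
      ∀ s ∈ S, s * u = u * s := by
    intro u hu hcen hup
    have h1 : u ∈ Cfsg.omegaOne p (((S : Subgroup G) ⊓ G₁) ⊓
        Subgroup.centralizer (((S : Subgroup G) ⊓ G₁ : Subgroup G) : Set G)) :=
      Subgroup.subset_closure ⟨⟨hu, Subgroup.mem_centralizer_iff.mpr hcen⟩, hup⟩
    have h2 := omegaOne_le _ (hle h1)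
    exact Subgroup.mem_centralizer_iff.mp h2.2
  intro R₀ hR₀p hR₀ne hpar
  obtain ⟨T₀, hT₀⟩ := hpar
  obtain ⟨Q, hQ⟩ := T₀.exists_comap_subtype_eq
  obtain ⟨g, hg⟩ := MulAction.exists_smul_eq G S Q
  -- transported hypothesis
  have hstarQ : ∀ u ∈ (Q : Subgroup G) ⊓ G₁, (∀ t ∈ (Q : Subgroup G) ⊓ G₁, t * u = u * t) → u ^ p = 1 →
      ∀ s ∈ (Q : Subgroup G), s * u = u * s := by
    have hQS : ∀ y : G, y ∈ (Q : Subgroup G) ↔ g⁻¹ * y * g ∈ (S : Subgroup G) := by
      intro y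
      rw [← hg, sylow_smul_coe, mem_map_conj_iff]
    have hG1 : ∀ y : G, y ∈ G₁ ↔ g⁻¹ * y * g ∈ G₁ := by
      intro y
      constructor
      · intro hy
        have := (inferInstance : G₁.Normal).conj_mem y hy g⁻¹
        simpa using this
      · intro hy
        have := (inferInstance : G₁.Normal).conj_mem _ hy g
        simpa [mul_assoc] using this
    intro u hu hcen hup s hs
    have h1 : g⁻¹ * u * g ∈ (S : Subgroup G) ⊓ G₁ := ⟨(hQS u).mp hu.1, (hG1 u).mp hu.2⟩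
    have h2 : ∀ t ∈ (S : Subgroup G) ⊓ G₁, t * (g⁻¹ * u * g) = (g⁻¹ * u * g) * t := by
      intro t ht
      have h3 : g * t * g⁻¹ ∈ (Q : Subgroup G) ⊓ G₁ := by
        constructor
        · apply (hQS _).mpr
          have : g⁻¹ * (g * t * g⁻¹) * g = t := by group
          rw [this]; exact ht.1
        · apply (hG1 _).mpr
          have : g⁻¹ * (g * t * g⁻¹) * g = t := by group
          rw [this]; exact ht.2
      have h4 := hcen _ h3
      calc t * (g⁻¹ * u * g) = g⁻¹ * ((g * t * g⁻¹) * u) * g := by group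
        _ = g⁻¹ * (u * (g * t * g⁻¹)) * g := by rw [h4]
        _ = (g⁻¹ * u * g) * t := by group
    have h5 : (g⁻¹ * u * g) ^ p = 1 := by
      have : g⁻¹ * u * g = g⁻¹ * u * g⁻¹⁻¹ := by group
      rw [this, conj_pow, hup]; group
    have h6 := hstar _ h1 h2 h5 (g⁻¹ * s * g) ((hQS s).mp hs)
    calc s * u = g * ((g⁻¹ * s * g) * (g⁻¹ * u * g)) * g⁻¹ := by group
      _ = g * ((g⁻¹ * u * g) * (g⁻¹ * s * g)) * g⁻¹ := by rw [h6]
      _ = u * s := by group
  obtain ⟨R, hRdef⟩ : ∃ R : Subgroup G, R = R₀.map G₁.subtype := ⟨_, rfl⟩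
  obtain ⟨L, hLdef⟩ : ∃ L : Subgroup G, L = (Subgroup.normalizer (R₀ : Set ↥G₁)).map G₁.subtype :=
    ⟨_, rfl⟩
  have hR₀eq : R₀ = R.subgroupOf G₁ := by
    rw [hRdef]
    exact (Subgroup.comap_map_eq_self_of_injective G₁.subtype_injective R₀).symm
  have hRG₁ : R ≤ G₁ := by
    rw [hRdef]; rintro _ ⟨y, _, rfl⟩; exact y.2
  have hLeq : L = Subgroup.normalizer (R : Set G) ⊓ G₁ := by
    rw [hLdef, hR₀eq, ← Subgroup.subgroupOf_normalizer_eq hRG₁, Subgroup.subgroupOf_map_subtype]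
  have hLG₁ : L ≤ G₁ := by rw [hLeq]; exact inf_le_right
  have hLNR : L ≤ Subgroup.normalizer (R : Set G) := by rw [hLeq]; exact inf_le_left
  have hRL : R ≤ L := by rw [hLeq]; exact le_inf Subgroup.le_normalizer hRG₁
  have hRp : IsPGroup p R := by rw [hRdef]; exact hR₀p.map _
  have hRne : R ≠ ⊥ := by
    rw [hRdef]; intro h
    exact hR₀ne ((Subgroup.map_eq_bot_iff_of_injective _ G₁.subtype_injective).mp h)
  have hTL : (Q : Subgroup G) ⊓ G₁ ≤ L := by
    rw [hLdef]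
    intro y hy
    refine ⟨⟨y, hy.2⟩, hT₀ ?_, rfl⟩
    rw [← hQ]
    exact hy.1
  have hTp : IsPGroup p ((Q : Subgroup G) ⊓ G₁ : Subgroup G) := Q.isPGroup'.to_le inf_le_left
  have hPLT : Cfsg.pCoreOf p L ≤ (Q : Subgroup G) ⊓ G₁ := by
    have h1 : (Cfsg.pCoreOf p L).subgroupOf G₁ ≤ (T₀ : Subgroup ↥G₁) := by
      apply le_sylow_of_normalizedBy T₀ _
        ((isPGroup_pCoreOf p L).comap_of_injective _ G₁.subtype_injective)
      intro t ht
      have htL : (t : G) ∈ L := hTL ⟨by rw [← hQ] at ht; exact ht, t.2⟩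
      have := pCoreOf_normalizer (p := p) L htL
      rw [Subgroup.mem_normalizer_iff] at this ⊢
      intro y
      rw [Subgroup.mem_comap, Subgroup.mem_comap]
      exact this y
    intro y hy
    have hyG₁ : y ∈ G₁ := hLG₁ (pCoreOf_le p L hy)
    have := h1 (show (⟨y, hyG₁⟩ : ↥G₁) ∈ (Cfsg.pCoreOf p L).subgroupOf G₁ from hy)
    rw [← hQ] at this
    exact ⟨this, hyG₁⟩
  have hRPL : R ≤ Cfsg.pCoreOf p L := le_pCoreOf L R hRL hLNR hRp
  have hPLne : Cfsg.pCoreOf p L ≠ ⊥ := fun h => hRne (le_bot_iff.mp (h ▸ hRPL))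
  obtain ⟨z, hzP, hz1, hzc⟩ := exists_central_of_normalizedBy (p := p) (Cfsg.pCoreOf p L)
    ((Q : Subgroup G) ⊓ G₁) hTp hPLT (hTL.trans (pCoreOf_normalizer L)) hPLne
  obtain ⟨m, hm⟩ := (IsPGroup.iff_orderOf.mp (isPGroup_pCoreOf p L)) ⟨z, hzP⟩
  rw [Subgroup.orderOf_mk] at hm
  have hm0 : m ≠ 0 := by
    rintro rfl
    rw [pow_zero, orderOf_eq_one_iff] at hm
    exact hz1 hm
  have hpdvd : p ∣ orderOf z := by rw [hm]; exact dvd_pow_self p hm0
  have huo : orderOf (z ^ (orderOf z / p)) = p :=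
    orderOf_pow_orderOf_div (by rw [hm]; exact (pow_pos (Fact.out : p.Prime).pos m).ne') hpdvd
  obtain ⟨u, hudef⟩ : ∃ u, u = z ^ (orderOf z / p) := ⟨_, rfl⟩
  rw [← hudef] at huo
  have huP : u ∈ Cfsg.pCoreOf p L := hudef ▸ Subgroup.pow_mem _ hzP _
  have huc : ∀ t ∈ (Q : Subgroup G) ⊓ G₁, t * u = u * t := fun t ht => by
    rw [hudef]; exact (Commute.pow_right (show Commute t z from hzc t ht) _).eq
  have hup : u ^ p = 1 := by
    have := pow_orderOf_eq_one u
    rwa [huo] at this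
  have hu1 : u ≠ 1 := by
    intro h
    rw [h, orderOf_one] at huo
    exact (Fact.out : p.Prime).one_lt.ne huo
  have huQ := hstarQ u (hPLT huP) huc hup
  have hUP : Subgroup.zpowers u ≤ Cfsg.pCoreOf p L := by rw [Subgroup.zpowers_le]; exact huP
  have hUp : IsPGroup p (Subgroup.zpowers u) := (isPGroup_pCoreOf p L).to_le hUP
  have hUne : Subgroup.zpowers u ≠ ⊥ := by rw [Ne, Subgroup.zpowers_eq_bot]; exact hu1
  have hQU : (Q : Subgroup G) ≤ Subgroup.centralizer (Subgroup.zpowers u : Set G) := by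
    intro s hs
    rw [Subgroup.mem_centralizer_iff]
    rintro _ ⟨n, rfl⟩
    exact ((Commute.zpow_right (show Commute s u from huQ s hs) n).eq).symm
  have hNU := hG (Subgroup.zpowers u) hUp hUne
    ⟨Q, hQU.trans (Subgroup.centralizer_le_normalizer _)⟩
  have hcpN : CPin p (Subgroup.normalizer (Subgroup.zpowers u : Set G)) := cpin_of_charp _ hNU
  have hX₁ : CPin p (G₁ ⊓ Subgroup.centralizer (Subgroup.zpowers u : Set G)) := by
    apply cpin_of_normalizedBy _ _ hcpN (inf_le_right.trans (Subgroup.centralizer_le_normalizer _))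
    intro n hn
    apply mem_normalizer_inf
    · rw [Subgroup.normalizer_eq_top]; trivial
    · exact normalizer_le_normalizer_centralizer _ hn
  have hRX₁ : R ≤ G₁ ⊓ Subgroup.centralizer (Subgroup.zpowers u : Set G) := by
    refine le_inf hRG₁ ?_
    intro r hr
    rw [Subgroup.mem_centralizer_iff]
    rintro _ ⟨n, rfl⟩
    have hrT := hPLT (hRPL hr)
    exact ((Commute.zpow_right (show Commute r u from huc r hrT) n).eq).symm
  have h3 := cpin_normalizer _ R hX₁ hRX₁ hRp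
  have h4 : G₁ ⊓ Subgroup.centralizer (Subgroup.zpowers u : Set G) ⊓ Subgroup.normalizer (R : Set G)
      = L ⊓ Subgroup.centralizer (Subgroup.zpowers u : Set G) := by
    rw [hLeq]; ext y; simp only [Subgroup.mem_inf]; tauto
  rw [h4] at h3
  have hcpL : CPin p L := cpin_of_centralizer L _ hUP h3
  have hcharL := charp_of_cpin L hcpL
  subst hLdef
  exact charp_of_equiv ((Subgroup.normalizer (R₀ : Set ↥G₁)).equivMapOfInjective G₁.subtype
    G₁.subtype_injective).symm hcharL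

end Cfsg.Agent.S2897
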