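import Cfsg.Statements.S2898
import Cfsg.Agent.Lib.Helper5.PCore
import Cfsg.Agent.Lib.Helper5.MaxP
import Cfsg.Agent.Lib.Helper5.CopGen3
import Cfsg.Agent.Lib.Helper9.SylowConj

set_option autoImplicit false
open Cfsg

namespace Cfsg.Agent.S2898

open Cfsg.Agent.Lib.Helper5

theorem fix_trivial {G : Type*} [Group G] [Finite G] (hG : Cfsg.IsOfParabolicCharacteristic 2 G)
    (S : Sylow 2 G) (z : G) (hz1 : z ≠ 1) (hzmem : z ∈ S) (hzS : ∀ s ∈ S, s * z = z * s) (k : G)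
    (hk : k ∈ Cfsg.oddCore G) (hkz : k * z = z * k) : k = 1 := by
  have hRp : IsPGroup 2 (Subgroup.zpowers z) := by
    have : Subgroup.zpowers z ≤ S := by rw [Subgroup.zpowers_le]; exact hzmem
    exact S.isPGroup'.to_le this
  have hRne : Subgroup.zpowers z ≠ ⊥ := by
    rw [Ne, Subgroup.zpowers_eq_bot]; exact hz1
  have hcent_le : ∀ g : G, g * z = z * g →
      g ∈ Subgroup.normalizer (Subgroup.zpowers z : Set G) := by
    intro g hg
    apply Subgroup.centralizer_le_normalizer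
    rw [Subgroup.mem_centralizer_iff]
    intro h hh
    obtain ⟨n, rfl⟩ := hh
    exact ((Commute.zpow_right (show Commute g z from hg) n).eq).symm
  have hpar : Cfsg.IsParabolic 2 (Subgroup.normalizer (Subgroup.zpowers z : Set G)) :=
    ⟨S, fun s hs => hcent_le s (hzS s hs)⟩
  have h := hG _ hRp hRne hpar
  have hkN : k ∈ Subgroup.normalizer (Subgroup.zpowers z : Set G) := hcent_le k hkz
  have hKn : (Cfsg.oddCore G).Normal := (pPrimeCore_mem 2).1
  have hKc : (Nat.card (Cfsg.oddCore G)).Coprime 2 := (pPrimeCore_mem 2).2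
  set N := Subgroup.normalizer (Subgroup.zpowers z : Set G) with hNdef
  haveI hKN : ((Cfsg.oddCore G).subgroupOf N).Normal := hKn.subgroupOf N
  have hKNc : (Nat.card ((Cfsg.oddCore G).subgroupOf N)).Coprime 2 := by
    apply Nat.Coprime.coprime_dvd_left _ hKc
    have : Nat.card ((Cfsg.oddCore G).subgroupOf N) = Nat.card ((Cfsg.oddCore G ⊓ N : Subgroup G)) := by
      rw [← Subgroup.inf_subgroupOf_right]
      exact Nat.card_congr (Subgroup.subgroupOfEquivOfLe inf_le_right).toEquiv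
    rw [this]
    exact Subgroup.card_dvd_of_le inf_le_left
  haveI : (Cfsg.pCore 2 ↥N).Normal := Cfsg.pCore_normal 2 ↥N
  have hPp : IsPGroup 2 (Cfsg.pCore 2 ↥N) := isPGroup_pCore 2 ↥N
  have hdisj : (Cfsg.oddCore G).subgroupOf N ⊓ Cfsg.pCore 2 ↥N = ⊥ := by
    apply Subgroup.inf_eq_bot_of_coprime
    obtain ⟨n, hn⟩ := (IsPGroup.iff_card.mp hPp)
    rw [hn]
    exact Nat.Coprime.pow_right n hKNc
  have hcomm : ⁅(Cfsg.oddCore G).subgroupOf N, Cfsg.pCore 2 ↥N⁆ = ⊥ := by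
    rw [eq_bot_iff, ← hdisj]
    exact Subgroup.commutator_le_inf _ _
  have hle : (Cfsg.oddCore G).subgroupOf N ≤ Subgroup.centralizer (Cfsg.pCore 2 ↥N : Set ↥N) :=
    Subgroup.commutator_eq_bot_iff_le_centralizer.mp hcomm
  have hk' : (⟨k, hkN⟩ : ↥N) ∈ (Cfsg.oddCore G).subgroupOf N := by
    rw [Subgroup.mem_subgroupOf]; exact hk
  have hk2 : (⟨k, hkN⟩ : ↥N) ∈ (Cfsg.oddCore G).subgroupOf N ⊓ Cfsg.pCore 2 ↥N :=
    ⟨hk', h (hle hk')⟩
  rw [hdisj, Subgroup.mem_bot] at hk2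
  exact congrArg Subtype.val hk2


theorem result {G : Type*} [Group G] [Finite G] (h2 : 2 ∣ Nat.card G) (hG : Cfsg.IsOfParabolicCharacteristic 2 G) [hN : (Cfsg.oddCore G).Normal] (hZ : Subgroup.center (G ⧸ Cfsg.oddCore G) = ⊥) : Cfsg.oddCore G = ⊥ := by
  by_contra hK
  haveI : Fact (Nat.Prime 2) := ⟨Nat.prime_two⟩
  obtain ⟨S⟩ : Nonempty (Sylow 2 G) := inferInstance
  have hSne : (S : Subgroup G) ≠ ⊥ := S.ne_bot_of_dvd_card h2
  have hKn : (Cfsg.oddCore G).Normal := hN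
  have hKc : (Nat.card (Cfsg.oddCore G)).Coprime 2 := (pPrimeCore_mem 2).2
  obtain ⟨z0, hz0S, hz01, hz0c⟩ := exists_central_of_normalizedBy (p := 2) (S : Subgroup G) S
    S.isPGroup' le_rfl Subgroup.le_normalizer hSne
  -- an involution
  obtain ⟨m, hm⟩ := (IsPGroup.iff_orderOf.mp S.isPGroup') ⟨z0, hz0S⟩
  rw [Subgroup.orderOf_mk] at hm
  have hm0 : m ≠ 0 := by
    rintro rfl
    rw [pow_zero, orderOf_eq_one_iff] at hm
    exact hz01 hm
  have h2dvd : 2 ∣ orderOf z0 := by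
    rw [hm]; exact dvd_pow_self 2 hm0
  have hzo : orderOf (z0 ^ (orderOf z0 / 2)) = 2 :=
    orderOf_pow_orderOf_div (by rw [hm]; positivity) h2dvd
  set z := z0 ^ (orderOf z0 / 2) with hzdef
  have hzS : z ∈ S := Subgroup.pow_mem _ hz0S _
  have hzc : ∀ s ∈ S, s * z = z * s := fun s hs =>
    (Commute.pow_right (show Commute s z0 from hz0c s hs) _).eq
  have hz1 : z ≠ 1 := by
    intro h
    rw [h, orderOf_one] at hzo
    omega
  have hzz : z * z = 1 := by
    have := pow_orderOf_eq_one z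
    rwa [hzo, pow_two] at this
  have hzinv : z⁻¹ = z := inv_eq_of_mul_eq_one_right hzz
  have hzz' : ∀ x : G, z * (z * x) = x := fun x => by rw [← mul_assoc, hzz, one_mul]
  -- z inverts K
  have hinv : ∀ k ∈ Cfsg.oddCore G, z * k * z⁻¹ = k⁻¹ := by
    let f : ↥(Cfsg.oddCore G) → ↥(Cfsg.oddCore G) := fun k =>
      ⟨(k : G)⁻¹ * (z * k * z⁻¹), Subgroup.mul_mem _ (Subgroup.inv_mem _ k.2) (hKn.conj_mem _ k.2 z)⟩
    have hfinj : Function.Injective f := by
      intro a b hab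
      have h1 : (a : G)⁻¹ * (z * a * z⁻¹) = (b : G)⁻¹ * (z * b * z⁻¹) := congrArg Subtype.val hab
      have h2 : ((b : G) * (a : G)⁻¹) * z = z * ((b : G) * (a : G)⁻¹) := by
        have h3 : (b : G) * ((a : G)⁻¹ * (z * a * z⁻¹)) * z * (a : G)⁻¹
            = (b : G) * ((b : G)⁻¹ * (z * b * z⁻¹)) * z * (a : G)⁻¹ := by rw [h1]
        have h4 : (b : G) * ((a : G)⁻¹ * (z * a * z⁻¹)) * z * (a : G)⁻¹ = (b : G) * (a : G)⁻¹ * z := by
          group
        have h5 : (b : G) * ((b : G)⁻¹ * (z * b * z⁻¹)) * z * (a : G)⁻¹ = z * ((b : G) * (a : G)⁻¹) := by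
          group
        rw [← h4, h3, h5]
      have h6 := fix_trivial hG S z hz1 hzS hzc _
        (Subgroup.mul_mem _ b.2 (Subgroup.inv_mem _ a.2)) h2
      apply Subtype.ext
      have : (b : G) = a := by
        have := mul_inv_eq_one.mp h6
        exact this
      exact this.symm
    have hfsurj : Function.Surjective f := Finite.injective_iff_surjective.mp hfinj
    intro k hk
    obtain ⟨a, ha⟩ := hfsurj ⟨k, hk⟩
    have hk' : k = (a : G)⁻¹ * (z * a * z⁻¹) := (congrArg Subtype.val ha).symm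
    rw [hk', hzinv]
    apply eq_inv_of_mul_eq_one_right
    simp only [mul_assoc, hzz', hzz, mul_one, mul_inv_cancel_left, inv_mul_cancel]
  haveI hCn : (Subgroup.centralizer (Cfsg.oddCore G : Set G)).Normal := Subgroup.normal_centralizer
  have hSC : (S : Subgroup G) ⊓ Subgroup.centralizer (Cfsg.oddCore G : Set G) = ⊥ := by
    by_contra hne
    obtain ⟨z', hz'Q, hz'1, hz'c⟩ := exists_central_of_normalizedBy (p := 2)
      ((S : Subgroup G) ⊓ Subgroup.centralizer (Cfsg.oddCore G : Set G)) S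
      S.isPGroup' inf_le_left
      (fun s hs => mem_normalizer_inf _ _ s (Subgroup.le_normalizer hs)
        (by rw [Subgroup.normalizer_eq_top]; trivial)) hne
    apply hK
    rw [eq_bot_iff]
    intro k hk
    rw [Subgroup.mem_bot]
    apply fix_trivial hG S z' hz'1 hz'Q.1 hz'c k hk
    exact Subgroup.mem_centralizer_iff.mp hz'Q.2 k hk
  have hCc : (Nat.card (Subgroup.centralizer (Cfsg.oddCore G : Set G))).Coprime 2 := by
    rw [Nat.coprime_comm, Nat.Prime.coprime_iff_not_dvd Nat.prime_two]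
    intro hdvd
    obtain ⟨c, hc⟩ := exists_prime_orderOf_dvd_card' 2 hdvd
    have hcp : IsPGroup 2 (Subgroup.zpowers (c : G)) := by
      apply IsPGroup.of_card (n := 1)
      rw [Nat.card_zpowers, Subgroup.orderOf_coe, hc, pow_one]
    obtain ⟨g, hg⟩ := Cfsg.Agent.Lib.Helper9.exists_conj_le_sylow 2 S hcp
    have h1 : g * c * g⁻¹ ∈ (S : Subgroup G) := hg ⟨c, Subgroup.mem_zpowers _, rfl⟩
    have h2 : g * c * g⁻¹ ∈ Subgroup.centralizer (Cfsg.oddCore G : Set G) :=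
      hCn.conj_mem _ c.2 g
    have h3 : g * c * g⁻¹ ∈ (⊥ : Subgroup G) := by rw [← hSC]; exact ⟨h1, h2⟩
    rw [Subgroup.mem_bot, conj_eq_one_iff] at h3
    have h4 : c = 1 := Subtype.ext h3
    rw [h4, orderOf_one] at hc
    omega
  have hCK : Subgroup.centralizer (Cfsg.oddCore G : Set G) ≤ Cfsg.oddCore G :=
    le_pPrimeCore _ hCn hCc
  have hcen : (QuotientGroup.mk z : G ⧸ Cfsg.oddCore G) ∈ Subgroup.center (G ⧸ Cfsg.oddCore G) := by
    rw [Subgroup.mem_center_iff]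
    intro x
    obtain ⟨g, rfl⟩ := QuotientGroup.mk_surjective x
    rw [← QuotientGroup.mk_mul, ← QuotientGroup.mk_mul, QuotientGroup.eq]
    apply hCK
    rw [Subgroup.mem_centralizer_iff]
    intro k hk
    have h1 := hinv _ (hKn.conj_mem k hk g)
    have h1' : z * g * k = g * k⁻¹ * g⁻¹ * z * g := by
      calc z * g * k = (z * (g * k * g⁻¹) * z⁻¹) * (z * g) := by group
        _ = (g * k * g⁻¹)⁻¹ * (z * g) := by rw [h1]
        _ = g * k⁻¹ * g⁻¹ * z * g := by group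
    have h3 : k * z⁻¹ = z⁻¹ * k⁻¹ := by
      calc k * z⁻¹ = z⁻¹ * (z * k * z⁻¹) := by group
        _ = z⁻¹ * k⁻¹ := by rw [hinv k hk]
    calc k * ((g * z)⁻¹ * (z * g)) = (k * z⁻¹) * g⁻¹ * z * g := by group
      _ = z⁻¹ * k⁻¹ * g⁻¹ * z * g := by rw [h3]
      _ = (g * z)⁻¹ * (g * k⁻¹ * g⁻¹ * z * g) := by group
      _ = (g * z)⁻¹ * (z * g * k) := by rw [h1']
      _ = (g * z)⁻¹ * (z * g) * k := by group
  rw [hZ, Subgroup.mem_bot, QuotientGroup.eq_one_iff] at hcen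
  have hdvd : orderOf z ∣ Nat.card (Cfsg.oddCore G) := by
    have := orderOf_dvd_natCard (⟨z, hcen⟩ : ↥(Cfsg.oddCore G))
    rwa [Subgroup.orderOf_mk] at this
  rw [hzo] at hdvd
  have := Nat.Coprime.eq_one_of_dvd hKc.symm hdvd
  omega

end Cfsg.Agent.S2898
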