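import Mathlib
import Cfsg.Statements.S2905
import Cfsg.Agent.S2836
import Cfsg.Agent.Lib.Helper5.PMin
import Cfsg.Agent.Lib.Helper5.SubnSylow
import Cfsg.Agent.Lib.Helper5.PIrr
import Cfsg.Agent.Lib.Helper5.CopGen3
import Cfsg.Agent.Lib.Helper5.PResidual
import Cfsg.Agent.Lib.Helper4.HallConv
import Cfsg.Agent.Lib.Helper2.Subnormal

set_option autoImplicit false
open Cfsg

namespace Cfsg.Agent.S2905

open Cfsg.Agent.Lib.Helper5

variable {P : Type*} [Group P] {p : ℕ}

theorem mem_normalizer_sup (A B : Subgroup P) (x : P) (hA : x ∈ Subgroup.normalizer (A : Set P))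
    (hB : x ∈ Subgroup.normalizer (B : Set P)) :
    x ∈ Subgroup.normalizer ((A ⊔ B : Subgroup P) : Set P) := by
  rw [mem_normalizer_iff_map_conj] at hA hB ⊢
  rw [Subgroup.map_sup, hA, hB]

/-- a finite join of subnormal subgroups is subnormal -/
theorem isSubnormal_iSup_of_finite [Finite P] {ι : Type*} [Finite ι] (f : ι → Subgroup P)
    (hf : ∀ i, (f i).IsSubnormal) : (⨆ i, f i).IsSubnormal := by
  classical
  haveI := Fintype.ofFinite ι
  rw [← Finset.sup_univ_eq_iSup]
  apply Finset.sup_induction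
  · exact (Subgroup.normal_bot : (⊥ : Subgroup P).Normal).isSubnormal
  · intro a ha b hb
    exact Cfsg.Agent.Lib.Helper2.isSubnormal_sup a b ha hb
  · intro i _
    exact hf i

/-- Frattini argument with a unique maximal subgroup over a Sylow subgroup -/
theorem sylow_inf_normal_of_unique [Finite P] [Fact p.Prime] (S : Sylow p P) (M : Subgroup P)
    (hMtop : M ≠ ⊤)
    (hproper : ∀ K : Subgroup P, (S : Subgroup P) ≤ K → K ≠ ⊤ → K ≤ M)
    (N : Subgroup P) (hN : N.Normal) (hNM : N ≤ M) : ((S : Subgroup P) ⊓ N).Normal := by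
  haveI := hN
  have hcard := card_sylow_inf_subnormal S N hN.isSubnormal
  have hc1 : Nat.card (((S : Subgroup P) ⊓ N).subgroupOf N) = p ^ (Nat.card N).factorization p := by
    rw [← hcard]
    exact Nat.card_congr (Subgroup.subgroupOfEquivOfLe inf_le_right).toEquiv
  have hfr := Sylow.normalizer_sup_eq_top (Sylow.ofCard (((S : Subgroup P) ⊓ N).subgroupOf N) hc1)
  rw [Sylow.coe_ofCard, Subgroup.subgroupOf_map_subtype, inf_of_le_left inf_le_right] at hfr
  have hPn : (S : Subgroup P) ≤ Subgroup.normalizer (((S : Subgroup P) ⊓ N : Subgroup P) : Set P) := by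
    intro x hx
    apply mem_normalizer_inf _ _ x (Subgroup.le_normalizer hx)
    rw [Subgroup.normalizer_eq_top_iff.mpr hN]; exact Subgroup.mem_top x
  rw [← Subgroup.normalizer_eq_top_iff]
  by_contra hne
  have h1 := hproper _ hPn hne
  apply hMtop
  rw [eq_top_iff, ← hfr]
  exact sup_le h1 hNM

theorem card_sup_dvd_of_normal [Finite P] (A B : Subgroup P) [hB : B.Normal] :
    Nat.card (A ⊔ B : Subgroup P) ∣ Nat.card A * Nat.card B := by
  have h1 : Nat.card (B.subgroupOf (A ⊔ B)) * (B.subgroupOf (A ⊔ B)).index =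
      Nat.card (A ⊔ B : Subgroup P) := Subgroup.card_mul_index _
  have h2 : Nat.card (B.subgroupOf (A ⊔ B)) = Nat.card B :=
    Nat.card_congr (Subgroup.subgroupOfEquivOfLe (le_sup_right : B ≤ A ⊔ B)).toEquiv
  have h3 : (B.subgroupOf (A ⊔ B)).index = B.relIndex A := by
    have := Subgroup.relIndex_sup_right (H := A) (K := B)
    exact this
  rw [← h1, h2, h3, mul_comm]
  exact Nat.mul_dvd_mul (Subgroup.relIndex_dvd_card B A) dvd_rfl


theorem result {P : Type*} [Group P] [Finite P] {p : ℕ} [Fact p.Prime] (hP : Cfsg.IsPMinimal p P) (S : Sylow p P) (M : Subgroup P) (hM : IsCoatom M) (hSM : (S : Subgroup P) ≤ M) [hF : M.normalCore.Normal] : (∀ N : Subgroup P, N.IsSubnormal → N ≤ M → N ⊓ (S : Subgroup P) ≤ Cfsg.pCore p P) ∧ ((∀ T : Sylow p ↥(Cfsg.pResidual p P), (T : Subgroup ↥(Cfsg.pResidual p P)).Normal) → (Nat.card P).primeFactors.card ≤ 2) ∧ (∀ N : Subgroup P, N.Normal → Cfsg.pResidual p P ≤ N ∨ N ≤ M.normalCore) ∧ (∀ N : Subgroup P, N.Normal → M.normalCore ≤ N → N ≤ Cfsg.pResidual p P ⊔ M.normalCore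 → N = M.normalCore ∨ N = Cfsg.pResidual p P ⊔ M.normalCore) ∧ M.normalCore < Cfsg.pResidual p P ⊔ M.normalCore := by
  classical
  have hpp : p.Prime := Fact.out
  obtain ⟨hnn, M', ⟨hM', hSM'⟩, huniq0⟩ := hP S
  have hMM' : M = M' := huniq0 M ⟨hM, hSM⟩
  have huniq : ∀ K : Subgroup P, IsCoatom K → (S : Subgroup P) ≤ K → K = M := by
    intro K hK hSK
    rw [hMM']; exact huniq0 K ⟨hK, hSK⟩
  have hproper : ∀ K : Subgroup P, (S : Subgroup P) ≤ K → K ≠ ⊤ → K ≤ M :=
    fun K hSK hK => le_of_unique_coatom huniq K hSK hK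
  have hMtop : M ≠ ⊤ := hM.1
  set Q : Subgroup P := Cfsg.pResidual p P with hQ
  set F : Subgroup P := M.normalCore with hFdef
  haveI hQn : Q.Normal := pResidual_normal p P
  have hSQ : (S : Subgroup P) ⊔ Q = ⊤ := sylow_sup_pResidual S
  have hFM : F ≤ M := Subgroup.normalCore_le M
  -- (c)
  have hc : ∀ N : Subgroup P, N.Normal → Q ≤ N ∨ N ≤ F := by
    intro N hN
    haveI := hN
    by_cases hNM : N ≤ M
    · right; exact (Subgroup.normal_le_normalCore).mpr hNM
    · left
      have h1 : (S : Subgroup P) ⊔ N = ⊤ := by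
        by_contra hne
        exact hNM (le_sup_right.trans (hproper _ le_sup_left hne))
      exact pResidual_le_of_sylow_sup_eq_top N (S : Subgroup P) S.isPGroup' h1
  -- (e)
  have he : F < Q ⊔ F := by
    apply lt_of_le_of_ne le_sup_right
    intro h
    have h1 : Q ≤ M := by
      calc Q ≤ Q ⊔ F := le_sup_left
        _ = F := h.symm
        _ ≤ M := hFM
    apply hMtop
    rw [eq_top_iff, ← hSQ]
    exact sup_le hSM h1
  -- (d)
  have hd : ∀ N : Subgroup P, N.Normal → F ≤ N → N ≤ Q ⊔ F → N = F ∨ N = Q ⊔ F := by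
    intro N hN hFN hNQ
    rcases hc N hN with h | h
    · right; exact le_antisymm hNQ (sup_le h hFN)
    · left; exact le_antisymm h hFN
  -- (a)
  have hFS : F ⊓ (S : Subgroup P) ≤ Cfsg.pCore p P := by
    rw [inf_comm]
    exact le_pCore _ (sylow_inf_normal_of_unique S M hMtop hproper F hF hFM)
      (S.isPGroup'.to_le inf_le_left)
  have ha : ∀ N : Subgroup P, N.IsSubnormal → N ≤ M → N ⊓ (S : Subgroup P) ≤ Cfsg.pCore p P := by
    intro N hN hNM
    -- the join of the `S`-conjugates
    set X : Subgroup P := ⨆ s : ↥(S : Subgroup P), N.map (MulAut.conj (s : P)).toMonoidHom with hX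
    have hXsub : X.IsSubnormal := by
      apply isSubnormal_iSup_of_finite
      intro s
      exact Subgroup.IsSubnormal.map (MulAut.conj (s : P)).surjective hN
    have hXM : X ≤ M := by
      apply iSup_le
      intro s
      rintro _ ⟨n, hn, rfl⟩
      show (s : P) * n * (s : P)⁻¹ ∈ M
      exact M.mul_mem (M.mul_mem (hSM s.2) (hNM hn)) (M.inv_mem (hSM s.2))
    have hNX : N ≤ X := by
      have := le_iSup (fun s : ↥(S : Subgroup P) => N.map (MulAut.conj (s : P)).toMonoidHom) 1
      simp only [OneMemClass.coe_one, map_one] at this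
      intro n hn
      apply this
      exact ⟨n, hn, rfl⟩
    have hSX : (S : Subgroup P) ≤ Subgroup.normalizer (X : Set P) := by
      have key : ∀ t ∈ (S : Subgroup P), X.map (MulAut.conj t).toMonoidHom ≤ X := by
        intro t ht
        rw [hX, Subgroup.map_iSup]
        apply iSup_le
        intro s
        rw [Subgroup.map_map]
        have h1 : (MulAut.conj t).toMonoidHom.comp (MulAut.conj (s : P)).toMonoidHom =
            (MulAut.conj ((⟨t, ht⟩ * s : ↥(S : Subgroup P)) : P)).toMonoidHom := by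
          ext y
          simp [mul_assoc]
        rw [h1]
        exact le_iSup (fun s : ↥(S : Subgroup P) => N.map (MulAut.conj (s : P)).toMonoidHom)
          (⟨t, ht⟩ * s)
      intro t ht
      exact mem_normalizer_of_map_conj_le X t (key t ht) (key t⁻¹ (Subgroup.inv_mem _ ht))
    -- pass to the quotient by `F`
    have hsurj := QuotientGroup.mk'_surjective F
    set Qb : Subgroup (P ⧸ F) := (Q ⊔ F).map (QuotientGroup.mk' F) with hQb
    have hQFn : (Q ⊔ F).Normal := inferInstance
    have hQbn : Qb.Normal := Subgroup.Normal.map hQFn _ hsurj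
    have hQb1 : Qb ≠ ⊥ := by
      intro h
      have h1 : Q ⊔ F ≤ F := by
        intro x hx
        have h2 : QuotientGroup.mk' F x ∈ Qb := ⟨x, hx, rfl⟩
        rw [h, Subgroup.mem_bot, QuotientGroup.mk'_apply, QuotientGroup.eq_one_iff] at h2
        exact h2
      exact absurd he (not_lt_of_ge h1)
    have hQbmin : ∀ Lb : Subgroup (P ⧸ F), Lb.Normal → Lb ≤ Qb → Lb = ⊥ ∨ Lb = Qb := by
      intro Lb hLb hLbQ
      have h1 : (Lb.comap (QuotientGroup.mk' F)).Normal := Subgroup.Normal.comap hLb _
      have h2 : F ≤ Lb.comap (QuotientGroup.mk' F) := QuotientGroup.le_comap_mk' F Lb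
      have h3 : Lb.comap (QuotientGroup.mk' F) ≤ Q ⊔ F := by
        have := Subgroup.comap_mono (f := QuotientGroup.mk' F) hLbQ
        rwa [hQb, QuotientGroup.comap_map_mk', sup_of_le_right (le_sup_right : F ≤ Q ⊔ F)] at this
      rcases hd _ h1 h2 h3 with h | h
      · left
        rw [← Subgroup.map_comap_eq_self_of_surjective hsurj Lb, h, QuotientGroup.map_mk'_self]
      · right
        rw [← Subgroup.map_comap_eq_self_of_surjective hsurj Lb, h]
    have hXb : (X.map (QuotientGroup.mk' F)).IsSubnormal := Subgroup.IsSubnormal.map hsurj hXsub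
    have h3 := Cfsg.Agent.Lib.Helper2.minNormal_le_normalizer _ Qb hXb hQbn hQb1 hQbmin
    have hQN : Q ≤ Subgroup.normalizer ((F ⊔ X : Subgroup P) : Set P) := by
      intro q hq
      have h4 : QuotientGroup.mk' F q ∈ Subgroup.normalizer
          ((X.map (QuotientGroup.mk' F) : Subgroup (P ⧸ F)) : Set (P ⧸ F)) :=
        h3 ⟨q, le_sup_left (a := Q) hq, rfl⟩
      have h5 := Subgroup.comap_normalizer_eq_of_surjective (X.map (QuotientGroup.mk' F)) hsurj
      rw [QuotientGroup.comap_map_mk'] at h5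
      rw [← h5]
      exact h4
    have hSN : (S : Subgroup P) ≤ Subgroup.normalizer ((F ⊔ X : Subgroup P) : Set P) := by
      intro s hs
      apply mem_normalizer_sup
      · rw [Subgroup.normalizer_eq_top_iff.mpr hF]; exact Subgroup.mem_top s
      · exact hSX hs
    haveI hFXn : (F ⊔ X).Normal := by
      rw [← Subgroup.normalizer_eq_top_iff, eq_top_iff, ← hSQ]
      exact sup_le hSN hQN
    have hFXF : F ⊔ X ≤ F := (Subgroup.normal_le_normalCore).mpr (sup_le hFM hXM)
    have hNF : N ≤ F := hNX.trans (le_sup_right.trans hFXF)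
    exact (inf_le_inf_right _ hNF).trans hFS
  -- (b)
  have hb : (∀ T : Sylow p ↥Q, (T : Subgroup ↥Q).Normal) → (Nat.card P).primeFactors.card ≤ 2 := by
    intro hT
    set U : Subgroup P := (S : Subgroup P) ⊓ Q with hU
    have hUcard : Nat.card U = p ^ (Nat.card Q).factorization p :=
      card_sylow_inf_subnormal S Q hQn.isSubnormal
    have hc1 : Nat.card (U.subgroupOf Q) = p ^ (Nat.card Q).factorization p := by
      rw [← hUcard]
      exact Nat.card_congr (Subgroup.subgroupOfEquivOfLe inf_le_right).toEquiv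
    have hT₀n := hT (Sylow.ofCard (U.subgroupOf Q) hc1)
    haveI hchar : ((Sylow.ofCard (U.subgroupOf Q) hc1 : Sylow p ↥Q) : Subgroup ↥Q).Characteristic :=
      Sylow.characteristic_of_normal _ hT₀n
    haveI hUn : U.Normal := by
      have := ConjAct.normal_of_characteristic_of_normal (H := Q)
        (K := ((Sylow.ofCard (U.subgroupOf Q) hc1 : Sylow p ↥Q) : Subgroup ↥Q))
      rwa [Sylow.coe_ofCard, Subgroup.subgroupOf_map_subtype, inf_of_le_left inf_le_right] at this
    have hUQ : U ≤ Q := inf_le_right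
    have hcardP0 : Nat.card P ≠ 0 := Nat.card_pos.ne'
    by_contra hcard
    have h3 : 2 < (Nat.card P).primeFactors.card := not_le.mp hcard
    have h4 : 1 < ((Nat.card P).primeFactors.erase p).card := by
      have := Finset.pred_card_le_card_erase (s := (Nat.card P).primeFactors) (a := p)
      omega
    obtain ⟨t₁, ht₁, t₂, ht₂, hne⟩ := Finset.one_lt_card.mp h4
    obtain ⟨ht₁p, ht₁f⟩ := Finset.mem_erase.mp ht₁
    obtain ⟨ht₂p, ht₂f⟩ := Finset.mem_erase.mp ht₂
    have ht₁pr : t₁.Prime := Nat.prime_of_mem_primeFactors ht₁f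
    have ht₂pr : t₂.Prime := Nat.prime_of_mem_primeFactors ht₂f
    have ht₁d : t₁ ∣ Nat.card P := Nat.dvd_of_mem_primeFactors ht₁f
    have ht₂d : t₂ ∣ Nat.card P := Nat.dvd_of_mem_primeFactors ht₂f
    -- `M` contains a Sylow `t`-subgroup for every prime `t ≠ p`
    have key : ∀ t : ℕ, t.Prime → t ≠ p → ∃ R : Subgroup P,
        Nat.card R = t ^ (Nat.card P).factorization t ∧ R ≤ M := by
      intro t htpr htp
      haveI : Fact t.Prime := ⟨htpr⟩
      obtain ⟨t', ht'pr, ht'd, ht'p, ht't⟩ : ∃ t' : ℕ, t'.Prime ∧ t' ∣ Nat.card P ∧ t' ≠ p ∧ t' ≠ t := by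
        by_cases h : t = t₁
        · exact ⟨t₂, ht₂pr, ht₂d, ht₂p, fun h' => hne (by rw [← h, ← h'])⟩
        · exact ⟨t₁, ht₁pr, ht₁d, ht₁p, fun h' => h h'.symm⟩
      obtain ⟨R₀⟩ : Nonempty (Sylow t P) := inferInstance
      have hR₀Q : (R₀ : Subgroup P) ≤ Q := by
        intro x hx
        apply Subgroup.subset_closure
        obtain ⟨k, hk⟩ := (IsPGroup.iff_orderOf.mp R₀.isPGroup') ⟨x, hx⟩
        rw [Subgroup.orderOf_mk] at hk
        show Nat.Coprime (orderOf x) p
        rw [hk]
        exact Nat.Coprime.pow_left _ ((Nat.coprime_primes htpr hpp).mpr htp)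
      set W₀ : Subgroup P := (R₀ : Subgroup P) ⊔ U with hW₀
      have hNW : Subgroup.normalizer ((W₀ : Subgroup P) : Set P) ⊔ Q = ⊤ := by
        have h5 : Subgroup.normalizer (((R₀ : Subgroup P)) : Set P) ⊔ Q = ⊤ :=
          Sylow.normalizer_sup_eq_top' R₀ hR₀Q
        rw [eq_top_iff, ← h5]
        apply sup_le_sup_right
        intro x hx
        apply mem_normalizer_sup _ _ x hx
        rw [Subgroup.normalizer_eq_top_iff.mpr hUn]; exact Subgroup.mem_top x
      have hidx := Cfsg.Agent.S2836.index_mul_card_inf Q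
        (Subgroup.normalizer ((W₀ : Subgroup P) : Set P)) (by rw [sup_comm]; exact hNW)
      have hUle : U ≤ Q ⊓ Subgroup.normalizer ((W₀ : Subgroup P) : Set P) :=
        le_inf hUQ (le_sup_right.trans Subgroup.le_normalizer)
      have hnd : ¬ p ∣ (Subgroup.normalizer ((W₀ : Subgroup P) : Set P)).index := by
        intro hdvd
        have h1 : p ^ (Nat.card Q).factorization p ∣
            Nat.card ↥(Q ⊓ Subgroup.normalizer ((W₀ : Subgroup P) : Set P)) := by
          rw [← hUcard]; exact Subgroup.card_dvd_of_le hUle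
        have h2' := Nat.mul_dvd_mul hdvd h1
        rw [hidx] at h2'
        have h2 : p ^ ((Nat.card Q).factorization p + 1) ∣ Nat.card Q := by
          rw [pow_succ, mul_comm]; exact h2'
        exact Nat.pow_succ_factorization_not_dvd Nat.card_pos.ne' hpp h2
      obtain ⟨g, hg⟩ := Cfsg.Agent.Lib.Helper4.exists_conj_mem_of_not_dvd_index p
        (Subgroup.normalizer ((W₀ : Subgroup P) : Set P)) (S : Subgroup P) S.isPGroup' hnd
      set R : Subgroup P := (R₀ : Subgroup P).map (MulAut.conj g).toMonoidHom with hR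
      set W : Subgroup P := W₀.map (MulAut.conj g).toMonoidHom with hW
      have hUg : U.map (MulAut.conj g).toMonoidHom = U := by
        rw [← mem_normalizer_iff_map_conj, Subgroup.normalizer_eq_top_iff.mpr hUn]
        exact Subgroup.mem_top g
      have hWeq : W = R ⊔ U := by rw [hW, hW₀, Subgroup.map_sup, hUg]
      have hSW : (S : Subgroup P) ≤ Subgroup.normalizer ((W : Subgroup P) : Set P) := by
        intro s hs
        rw [hW, normalizer_map_conj, mem_map_conj_iff]
        exact hg s hs
      have hRcard : Nat.card R = t ^ (Nat.card P).factorization t := by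
        rw [← R₀.card_eq_multiplicity]
        exact (Nat.card_congr ((R₀ : Subgroup P).equivMapOfInjective (MulAut.conj g).toMonoidHom
          (MulAut.conj g).injective).toEquiv).symm
      refine ⟨R, hRcard, ?_⟩
      by_cases hK : (S : Subgroup P) ⊔ W = ⊤
      · exfalso
        haveI hWn : W.Normal := by
          rw [← Subgroup.normalizer_eq_top_iff, eq_top_iff, ← hK]
          exact sup_le hSW Subgroup.le_normalizer
        have h5 : Nat.card P ∣ Nat.card (S : Subgroup P) * Nat.card W := by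
          have := card_sup_dvd_of_normal (S : Subgroup P) W
          rwa [hK, Subgroup.card_top] at this
        have h6 : Nat.card W ∣ Nat.card R * Nat.card U := by
          rw [hWeq]; exact card_sup_dvd_of_normal R U
        have h7 : t' ∣ Nat.card (S : Subgroup P) * (Nat.card R * Nat.card U) :=
          ht'd.trans (h5.trans (Nat.mul_dvd_mul dvd_rfl h6))
        rw [S.card_eq_multiplicity, hRcard, hUcard] at h7
        rcases (Nat.Prime.dvd_mul ht'pr).mp h7 with h8 | h8
        · exact ht'p ((Nat.prime_dvd_prime_iff_eq ht'pr hpp).mp (ht'pr.dvd_of_dvd_pow h8))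
        · rcases (Nat.Prime.dvd_mul ht'pr).mp h8 with h9 | h9
          · exact ht't ((Nat.prime_dvd_prime_iff_eq ht'pr htpr).mp (ht'pr.dvd_of_dvd_pow h9))
          · exact ht'p ((Nat.prime_dvd_prime_iff_eq ht'pr hpp).mp (ht'pr.dvd_of_dvd_pow h9))
      · have h5 := hproper _ le_sup_left hK
        calc R ≤ W := by rw [hWeq]; exact le_sup_left
          _ ≤ (S : Subgroup P) ⊔ W := le_sup_right
          _ ≤ M := h5
    -- hence `M` is everything
    apply hMtop
    apply Subgroup.eq_top_of_le_card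
    apply Nat.le_of_dvd Nat.card_pos
    have hcardM0 : Nat.card M ≠ 0 := Nat.card_pos.ne'
    rw [← Nat.factorization_prime_le_iff_dvd hcardP0 hcardM0]
    intro r hr
    by_cases hrp : r = p
    · rw [hrp, ← Nat.Prime.pow_dvd_iff_le_factorization hpp hcardM0, ← S.card_eq_multiplicity]
      exact Subgroup.card_dvd_of_le hSM
    · obtain ⟨R, hRc, hRM⟩ := key r hr hrp
      rw [← Nat.Prime.pow_dvd_iff_le_factorization hr hcardM0, ← hRc]
      exact Subgroup.card_dvd_of_le hRM
  exact ⟨ha, hb, hc, hd, he⟩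

end Cfsg.Agent.S2905
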