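import Mathlib
import Cfsg.Statements.S2906
import Cfsg.Agent.Lib.Helper3.PMin2

set_option autoImplicit false
set_option linter.style.haveILetI false
open Cfsg
open Cfsg.Agent.Lib.Helper3
open scoped commutatorElement

namespace Cfsg.Agent.S2906

/-- Let P be a finite p-minimal group with O_p(P) = 1, S a Sylow p-subgroup of P and K a component of P. Then O^p(P) = F*(P) = E(P) is generated by the S-conjugates of K, and the subgroup K·N_S(K) is again p-minimal. -/
theorem result {P : Type*} [Group P] [Finite P] {p : ℕ} [Fact p.Prime] (hP : Cfsg.IsPMinimal p P) (hOp : Cfsg.pCore p P = ⊥) (S : Sylow p P) (K : Subgroup P) (hK : Cfsg.IsComponent K) : Cfsg.pResidual p P = Cfsg.generalizedFittingSubgroup P ∧ Cfsg.generalizedFittingSubgroup P = Cfsg.layer P ∧ Cfsg.layer P = ⨆ s : ↥(S : Subgroup P), K.map (MulAut.conj (s : P)).toMonoidHom ∧ Cfsg.IsPMinimal p ↥(K ⊔ ((S : Subgroup P) ⊓ Subgroup.normalizer (K : Set P))) := by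
  have hp := (Fact.out : p.Prime)
  obtain ⟨M, hPM⟩ := pMinAt_of_isPMinimal hP S
  have hPM2 := hPM
  obtain ⟨hSn, hMco, hSM, hover⟩ := hPM2
  haveI hEn : (Cfsg.layer P).Normal := layer_normal
  have hconjcomp : ∀ g : P, Cfsg.IsComponent (K.map (MulAut.conj g).toMonoidHom) :=
    fun g => component_map_equiv hK (MulAut.conj g)
  -- K is not a p'-group
  have hKp : ¬ (Nat.card ↥K).Coprime p := by
    intro hc
    have h1 : K ≤ Cfsg.pPrimeCore p P := subnormal_pprime_le_pPrimeCore p hK.1 hc
    haveI : (Cfsg.pPrimeCore p P).Normal := pPrimeCore_normal' p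
    have h2 := pMinAt_pprime_nilpotent hPM (Cfsg.pPrimeCore p P)
      (Cfsg.Agent.Lib.Helper1.pPrimeCore_coprime p)
    haveI h3 : Group.IsSolvable ↥(Cfsg.pPrimeCore p P) := by
      haveI := h2; infer_instance
    have h4 : Group.IsSolvable ↥K :=
      Group.isSolvable_of_isSolvable_injective (f := Subgroup.inclusion h1)
        (Subgroup.inclusion_injective h1)
    exact component_not_solvable hK h4
  obtain ⟨NK, hNKdef⟩ : ∃ NK : Subgroup P, NK = Subgroup.normalClosure (K : Set P) := ⟨_, rfl⟩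
  haveI hNKn : NK.Normal := by rw [hNKdef]; exact Subgroup.normalClosure_normal
  have hKNK : K ≤ NK := by rw [hNKdef]; exact Subgroup.le_normalClosure
  have hNKE : NK ≤ Cfsg.layer P := by
    rw [hNKdef]
    exact Subgroup.normalClosure_le_normal (SetLike.coe_subset_coe.mpr (component_le_layer hK))
  have hNKS : NK ⊔ (S : Subgroup P) = ⊤ := by
    rcases hover _ (le_sup_right : (S : Subgroup P) ≤ NK ⊔ (S : Subgroup P)) with h | h
    · exact h
    · exfalso
      have hc := pMinAt_coprime hPM hOp NK (le_sup_left.trans h)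
      exact hKp (Nat.Coprime.coprime_dvd_left (Subgroup.card_dvd_of_le hKNK) hc)
  have hRNK : Cfsg.pResidual p P ≤ NK := pRes_le_of_sup_sylow_eq_top S NK hNKS
  have hER : Cfsg.layer P ≤ Cfsg.pResidual p P := by
    calc Cfsg.layer P ≤ pResOf p (Cfsg.generalizedFittingSubgroup P) := layer_le_pResOf p
      _ ≤ pResOf p ⊤ := pResOf_mono p le_top
      _ = Cfsg.pResidual p P := pResOf_top p
  have hE_eq_R : Cfsg.layer P = Cfsg.pResidual p P := le_antisymm hER (hRNK.trans hNKE)
  have hNK_eq_E : NK = Cfsg.layer P := le_antisymm hNKE (hER.trans hRNK)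
  have hFE : Cfsg.fittingSubgroup P ≤ Cfsg.layer P := by
    rw [hE_eq_R]
    refine le_trans ?_ pPrimeCore_le_pResidual
    rw [Cfsg.Agent.Lib.Helper1.fitting_eq_pCoreSup]
    refine (Cfsg.Agent.Lib.Helper1.pCoreSup_le_sup p).trans ?_
    rw [hOp, bot_sup_eq]
  have hW_eq_E : Cfsg.generalizedFittingSubgroup P = Cfsg.layer P := by
    unfold Cfsg.generalizedFittingSubgroup
    exact sup_eq_left.mpr hFE
  -- E0
  obtain ⟨E0, hE0def⟩ : ∃ E0 : Subgroup P,
      E0 = ⨆ s : ↥(S : Subgroup P), K.map (MulAut.conj (s : P)).toMonoidHom := ⟨_, rfl⟩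
  have hE0E : E0 ≤ Cfsg.layer P := by
    rw [hE0def]; apply iSup_le; intro s; exact component_le_layer (hconjcomp s)
  have hKE0 : K ≤ E0 := by rw [hE0def]; exact le_iSup_conj _ K
  have hEnorm : Cfsg.layer P ≤ Subgroup.normalizer (E0 : Set P) := by
    intro g hg
    apply mem_normalizer_of_map_conj_le
    rw [hE0def, Subgroup.map_iSup]
    apply iSup_le
    intro s
    have hgn : g ∈ Subgroup.normalizer
        ((K.map (MulAut.conj (s : P)).toMonoidHom : Subgroup P) : Set P) :=
      layer_le_normalizer_component (hconjcomp s) hg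
    have h' : (K.map (MulAut.conj (s : P)).toMonoidHom).map (MulAut.conj g).toMonoidHom =
        K.map (MulAut.conj (s : P)).toMonoidHom :=
      Subgroup.mem_normalizer_iff_map_conj_eq.mp hgn
    exact h'.le.trans
      (le_iSup (fun s : ↥(S : Subgroup P) => K.map (MulAut.conj (s : P)).toMonoidHom) s)
  have hSnorm : (S : Subgroup P) ≤ Subgroup.normalizer (E0 : Set P) := by
    rw [hE0def]; exact le_normalizer_iSup_conj _ K
  have hE0n : E0.Normal := by
    rw [← Subgroup.normalizer_eq_top_iff, eq_top_iff, ← hNKS]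
    exact sup_le (hNKE.trans hEnorm) hSnorm
  have hE0_eq : Cfsg.layer P = E0 := by
    apply le_antisymm _ hE0E
    rw [← hNK_eq_E, hNKdef]
    haveI := hE0n
    exact Subgroup.normalClosure_le_normal (SetLike.coe_subset_coe.mpr hKE0)
  refine ⟨hE_eq_R.symm.trans hW_eq_E.symm, hW_eq_E, hE0_eq.trans hE0def, ?_⟩
  -- p-minimality of X = K ⊔ S0
  obtain ⟨S0, hS0def⟩ : ∃ S0 : Subgroup P,
      S0 = (S : Subgroup P) ⊓ Subgroup.normalizer (K : Set P) := ⟨_, rfl⟩
  have hS0S : S0 ≤ (S : Subgroup P) := by rw [hS0def]; exact inf_le_left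
  have hS0N : S0 ≤ Subgroup.normalizer (K : Set P) := by rw [hS0def]; exact inf_le_right
  have hS0p : IsPGroup p ↥S0 := S.2.to_le hS0S
  have hSKS0 : (S : Subgroup P) ⊓ K ≤ S0 := by
    rw [hS0def]; exact le_inf inf_le_left (inf_le_right.trans Subgroup.le_normalizer)
  have hSKcard : Nat.card ↥((S : Subgroup P) ⊓ K) = p ^ (Nat.card ↥K).factorization p :=
    card_sylow_inf_normal2 S (Cfsg.layer P) K (component_le_layer hK)
      (layer_le_normalizer_component hK)
  have hSKne : (S : Subgroup P) ⊓ K ≠ ⊥ := by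
    intro hb
    rw [hb, Subgroup.card_bot] at hSKcard
    apply hKp
    have h3 : (Nat.card ↥K).factorization p = 0 := by
      by_contra hne
      have : 1 < p ^ (Nat.card ↥K).factorization p := Nat.one_lt_pow hne hp.one_lt
      omega
    rcases (Nat.factorization_eq_zero_iff _ _).mp h3 with h4 | h4 | h4
    · exact absurd hp h4
    · exact ((Nat.Prime.coprime_iff_not_dvd hp).mpr h4).symm
    · exact absurd h4 Nat.card_pos.ne'
  have hKM : ¬ K ≤ M := by
    intro hKM
    apply hMco.1
    rw [eq_top_iff, ← hNKS]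
    refine sup_le ?_ hSM
    rw [hNK_eq_E, hE0_eq, hE0def]
    apply iSup_le
    intro s
    rintro _ ⟨k, hk, rfl⟩
    exact M.mul_mem (M.mul_mem (hSM s.2) (hKM hk)) (M.inv_mem (hSM s.2))
  -- decomposition of elements of K ⊔ S0
  have hdecomp : ∀ u ∈ K ⊔ S0, ∃ s ∈ S0, ∃ k ∈ K, u = s * k := by
    intro u hu
    exact Cfsg.Agent.Lib.Helper2.exists_mul_of_mem_sup_of_le_normalizer hS0N
      (by rw [sup_comm]; exact hu)
  -- key overgroup lemma
  have hkey : ∀ U : Subgroup P, S0 ≤ U → U ≤ K ⊔ S0 → K ≤ U ∨ U ≤ M := by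
    intro U hS0U hUX
    obtain ⟨W, hWdef⟩ : ∃ W : Subgroup P,
        W = ⨆ s : ↥(S : Subgroup P), (U ⊓ K).map (MulAut.conj (s : P)).toMonoidHom := ⟨_, rfl⟩
    have hVW : U ⊓ K ≤ W := by rw [hWdef]; exact le_iSup_conj _ _
    have hSW : (S : Subgroup P) ≤ Subgroup.normalizer (W : Set P) := by
      rw [hWdef]; exact le_normalizer_iSup_conj _ _
    rcases hover _ (le_sup_right : (S : Subgroup P) ≤ W ⊔ (S : Subgroup P)) with htop | hle
    · left
      haveI hWn : W.Normal := by
        rw [← Subgroup.normalizer_eq_top_iff, eq_top_iff, ← htop]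
        exact sup_le Subgroup.le_normalizer hSW
      have hRW : Cfsg.pResidual p P ≤ W := pRes_le_of_sup_sylow_eq_top S W htop
      have hKW : K ≤ W := ((component_le_layer hK).trans hER).trans hRW
      have hWT : W ≤ (U ⊓ K) ⊔ Subgroup.centralizer (K : Set P) := by
        rw [hWdef]
        apply iSup_le
        intro s
        by_cases hsN : (s : P) ∈ Subgroup.normalizer (K : Set P)
        · refine le_trans ?_ le_sup_left
          rintro _ ⟨x, hx, rfl⟩
          have hsS0 : (s : P) ∈ S0 := by rw [hS0def]; exact ⟨s.2, hsN⟩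
          refine ⟨?_, ?_⟩
          · exact U.mul_mem (U.mul_mem (hS0U hsS0) hx.1) (U.inv_mem (hS0U hsS0))
          · exact (Subgroup.mem_normalizer_iff.mp hsN x).mp hx.2
        · refine le_trans ?_ le_sup_right
          have hne : K.map (MulAut.conj (s : P)).toMonoidHom ≠ K := by
            intro heq
            exact hsN (Subgroup.mem_normalizer_iff_map_conj_eq.mpr heq)
          have hcomm := components_commute (hconjcomp s) hK hne
          have hle : K.map (MulAut.conj (s : P)).toMonoidHom ≤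
              Subgroup.centralizer (K : Set P) :=
            Subgroup.commutator_eq_bot_iff_le_centralizer.mp hcomm
          exact (Subgroup.map_mono inf_le_right).trans hle
      have hVC : U ⊓ K ≤ Subgroup.normalizer
          ((Subgroup.centralizer (K : Set P) : Subgroup P) : Set P) :=
        (inf_le_right.trans Subgroup.le_normalizer).trans
          (normalizer_le_normalizer_centralizer K)
      have hdec : ∀ a ∈ K, ∃ v ∈ U ⊓ K, ∃ c ∈ Subgroup.centralizer (K : Set P), a = v * c :=
        fun a ha => Cfsg.Agent.Lib.Helper2.exists_mul_of_mem_sup_of_le_normalizer hVC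
          (hWT (hKW ha))
      have hKK : ⁅K, K⁆ ≤ U ⊓ K := by
        rw [Subgroup.commutator_le]
        intro a ha b hb
        obtain ⟨v1, hv1, c1, hc1, rfl⟩ := hdec a ha
        obtain ⟨v2, hv2, c2, hc2, rfl⟩ := hdec b hb
        have hc1K := Subgroup.mem_centralizer_iff.mp hc1
        have hc2K := Subgroup.mem_centralizer_iff.mp hc2
        have e1 : v1 * c1 = c1 * v1 := hc1K v1 hv1.2
        have e2 : v2 * c2 = c2 * v2 := hc2K v2 hv2.2
        have e3 : c1 * (c2 * v2) = (c2 * v2) * c1 := by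
          rw [← e2]; exact (hc1K _ hb).symm
        rw [e1, e2, commElem_mul_left e1.symm e3, commElem_mul_right (hc2K v1 hv1.2).symm e2.symm]
        rw [commutatorElement_def]
        exact (U ⊓ K).mul_mem ((U ⊓ K).mul_mem ((U ⊓ K).mul_mem hv1 hv2) ((U ⊓ K).inv_mem hv1))
          ((U ⊓ K).inv_mem hv2)
      rw [component_perfect hK] at hKK
      exact hKK.trans inf_le_left
    · right
      have hVM : U ⊓ K ≤ M := hVW.trans (le_sup_left.trans hle)
      intro u hu
      obtain ⟨s, hs, k, hk, rfl⟩ := hdecomp u (hUX hu)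
      have hkU : k ∈ U := by
        have : k = s⁻¹ * (s * k) := by group
        rw [this]
        exact U.mul_mem (U.inv_mem (hS0U hs)) hu
      exact M.mul_mem (hSM (hS0S hs)) (hVM ⟨hkU, hk⟩)
  -- now the subtype
  obtain ⟨X, hXdef⟩ : ∃ X : Subgroup P, X = K ⊔ S0 := ⟨_, rfl⟩
  rw [← hS0def, ← hXdef]
  have hKX : K ≤ X := by rw [hXdef]; exact le_sup_left
  have hS0X : S0 ≤ X := by rw [hXdef]; exact le_sup_right
  have hS0'p : IsPGroup p ↥(S0.subgroupOf X) := hS0p.comap_subtype
  obtain ⟨Q, hQ⟩ := hS0'p.exists_le_sylow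
  have hQmapp : IsPGroup p ↥((Q : Subgroup ↥X).map X.subtype) := Q.2.map _
  have hS0Qm : S0 ≤ (Q : Subgroup ↥X).map X.subtype := by
    intro s hs
    exact ⟨⟨s, hS0X hs⟩, hQ (Subgroup.mem_subgroupOf.mpr hs), rfl⟩
  have hQeq : (Q : Subgroup ↥X) = S0.subgroupOf X := by
    apply le_antisymm _ hQ
    intro q hq
    rw [Subgroup.mem_subgroupOf]
    have hqX : (q : P) ∈ K ⊔ S0 := by rw [← hXdef]; exact q.2
    obtain ⟨s, hs, k, hk, hqsk⟩ := hdecomp _ hqX
    have hqm : (q : P) ∈ (Q : Subgroup ↥X).map X.subtype := ⟨q, hq, rfl⟩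
    have hkm : k ∈ (Q : Subgroup ↥X).map X.subtype ⊓ K := by
      refine ⟨?_, hk⟩
      have : k = s⁻¹ * (q : P) := by rw [hqsk]; group
      rw [this]
      exact Subgroup.mul_mem _ (Subgroup.inv_mem _ (hS0Qm hs)) hqm
    have hTeq : (S : Subgroup P) ⊓ K = (Q : Subgroup ↥X).map X.subtype ⊓ K := by
      apply Subgroup.eq_of_le_of_card_ge (le_inf (hSKS0.trans hS0Qm) inf_le_right)
      rw [hSKcard]
      exact Cfsg.Agent.Lib.Helper9.card_le_of_isPGroup_le p (hQmapp.to_le inf_le_left)
        inf_le_right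
    rw [hqsk]
    exact S0.mul_mem hs (hSKS0 (hTeq ▸ hkm))
  apply isPMinimal_of_sylow Q (M.subgroupOf X)
  · -- not normal
    intro hQn
    rw [hQeq] at hQn
    apply hSKne
    have hKS0 : ∀ k ∈ K, ∀ s ∈ S0, k * s * k⁻¹ ∈ S0 := by
      intro k hk s hs
      have := hQn.conj_mem ⟨s, hS0X hs⟩ (Subgroup.mem_subgroupOf.mpr hs) ⟨k, hKX hk⟩
      exact Subgroup.mem_subgroupOf.mp this
    have hKnorm : K ≤ Subgroup.normalizer (((S : Subgroup P) ⊓ K : Subgroup P) : Set P) := by
      intro k hk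
      apply mem_normalizer_of_map_conj_le
      rintro _ ⟨x, hx, rfl⟩
      refine ⟨hS0S (hKS0 k hk x (hSKS0 hx)), ?_⟩
      exact K.mul_mem (K.mul_mem hk hx.2) (K.inv_mem hk)
    have h1 : (S : Subgroup P) ⊓ K ≤ (Cfsg.pCore p ↥K).map K.subtype :=
      le_pCore_map inf_le_right (S.2.to_le inf_le_left) hKnorm
    have h2 := pCore_subnormal_le p hK.1
    rw [hOp] at h2
    exact le_bot_iff.mp (h1.trans h2)
  · -- M ⊓ X ≠ ⊤
    intro h
    rw [Subgroup.subgroupOf_eq_top] at h
    exact hKM (hKX.trans h)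
  · -- Q ≤ M.subgroupOf X
    rw [hQeq]
    intro x hx
    rw [Subgroup.mem_subgroupOf] at hx ⊢
    exact hSM (hS0S hx)
  · intro U' hU'
    rw [hQeq] at hU'
    have hS0U : S0 ≤ U'.map X.subtype := by
      intro s hs
      exact ⟨⟨s, hS0X hs⟩, hU' (Subgroup.mem_subgroupOf.mpr hs), rfl⟩
    have hUX : U'.map X.subtype ≤ K ⊔ S0 := by
      rw [← hXdef]; exact Subgroup.map_subtype_le _
    rcases hkey _ hS0U hUX with h | h
    · left
      rw [eq_top_iff]
      intro x _
      have hx : (x : P) ∈ U'.map X.subtype := by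
        have : X ≤ U'.map X.subtype := hXdef.le.trans (sup_le h hS0U)
        exact this x.2
      obtain ⟨y, hy, hyx⟩ := hx
      have : y = x := Subtype.ext hyx
      rw [← this]; exact hy
    · right
      intro x hx
      rw [Subgroup.mem_subgroupOf]
      exact h ⟨x, hx, rfl⟩

end Cfsg.Agent.S2906
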