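import Cfsg.Statements.S2907

set_option autoImplicit false
open Cfsg

namespace Cfsg.Agent.S2907

open scoped commutatorElement

theorem result {X : Type*} [Group X] [Finite X] {p : ℕ} [Fact p.Prime] (hX : Cfsg.IsSemiExtraspecial p X) (x : X) (hx : x ∉ Subgroup.center X) : (Subgroup.centralizer ({x} : Set X)).index = Nat.card ↥(Subgroup.center X) ∧ {z : X | ∃ y : X, z = x * y * x⁻¹ * y⁻¹} = (Subgroup.center X : Set X) := by
  classical
  have hpp : p.Prime := Fact.out
  obtain ⟨⟨hpg, hfr, hcomm⟩, hext⟩ := hX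
  -- commutators are central
  have hc : ∀ y : X, x * y * x⁻¹ * y⁻¹ ∈ Subgroup.center X := by
    intro y
    rw [← hcomm]
    have : x * y * x⁻¹ * y⁻¹ = ⁅x, y⁆ := rfl
    rw [this]
    exact Subgroup.commutator_mem_commutator (Subgroup.mem_top x) (Subgroup.mem_top y)
  -- the commutator homomorphism
  let f : X →* Subgroup.center X :=
    { toFun := fun y => ⟨x * y * x⁻¹ * y⁻¹, hc y⟩
      map_one' := by apply Subtype.ext; simp
      map_mul' := by
        intro y z
        apply Subtype.ext
        show x * (y * z) * x⁻¹ * (y * z)⁻¹ = (x * y * x⁻¹ * y⁻¹) * (x * z * x⁻¹ * z⁻¹)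
        calc x * (y * z) * x⁻¹ * (y * z)⁻¹
            = x * y * x⁻¹ * ((x * z * x⁻¹ * z⁻¹) * y⁻¹) := by group
          _ = x * y * x⁻¹ * (y⁻¹ * (x * z * x⁻¹ * z⁻¹)) := by
            rw [← Subgroup.mem_center_iff.mp (hc z) y⁻¹]
          _ = (x * y * x⁻¹ * y⁻¹) * (x * z * x⁻¹ * z⁻¹) := by group }
  have hf : ∀ y, ((f y : Subgroup.center X) : X) = x * y * x⁻¹ * y⁻¹ := fun y => rfl
  have hker : f.ker = Subgroup.centralizer ({x} : Set X) := by
    ext y
    rw [MonoidHom.mem_ker, Subgroup.mem_centralizer_iff]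
    constructor
    · intro h s hs
      rw [Set.mem_singleton_iff] at hs
      rw [hs]
      have h1 : x * y * x⁻¹ * y⁻¹ = 1 := by rw [← hf, h]; rfl
      have h2 : x * y = y * x := by
        calc x * y = (x * y * x⁻¹ * y⁻¹) * y * x := by group
          _ = y * x := by rw [h1, one_mul]
      exact h2
    · intro h
      apply Subtype.ext
      rw [hf]
      have h2 : x * y = y * x := h x rfl
      show x * y * x⁻¹ * y⁻¹ = 1
      rw [h2]; group
  -- the range is everything
  have hrange : f.range = ⊤ := by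
    by_contra hne
    obtain ⟨M, hM, hle⟩ := (eq_top_or_exists_le_coatom f.range).resolve_left hne
    set Y : Subgroup X := M.map (Subgroup.center X).subtype with hY
    have hYle : Y ≤ Subgroup.center X := by
      rw [hY]; exact Subgroup.map_subtype_le M
    have hYsub : Y.subgroupOf (Subgroup.center X) = M := by
      rw [hY, Subgroup.subgroupOf]
      exact Subgroup.comap_map_eq_self_of_injective (Subgroup.subtype_injective _) M
    obtain ⟨hYn, hE⟩ := hext Y hYle (by rw [hYsub]; exact hM)
    obtain ⟨-, hcard⟩ := hE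
    have hIY : ∀ y : X, x * y * x⁻¹ * y⁻¹ ∈ Y := by
      intro y
      rw [hY, Subgroup.mem_map]
      exact ⟨f y, hle ⟨y, rfl⟩, rfl⟩
    -- the image of `x` is central in the quotient
    have hxbar : (QuotientGroup.mk' Y x) ∈ Subgroup.center (X ⧸ Y) := by
      rw [Subgroup.mem_center_iff]
      intro q
      obtain ⟨y, rfl⟩ := QuotientGroup.mk'_surjective Y q
      rw [← map_mul, ← map_mul]
      symm
      rw [QuotientGroup.mk'_eq_mk']
      refine ⟨(x * y)⁻¹ * (y * x), ?_, by group⟩
      have h1 := Y.inv_mem (‹Y.Normal›.conj_mem _ (hIY y) (x * y)⁻¹)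
      have h2 : ((x * y)⁻¹ * (x * y * x⁻¹ * y⁻¹) * (x * y)⁻¹⁻¹)⁻¹ = (x * y)⁻¹ * (y * x) := by group
      rwa [h2] at h1
    -- the image of the centre
    set C : Subgroup (X ⧸ Y) := (Subgroup.center X).map (QuotientGroup.mk' Y) with hC
    have hCle : C ≤ Subgroup.center (X ⧸ Y) := by
      rintro q ⟨z, hz, rfl⟩
      rw [Subgroup.mem_center_iff]
      intro r
      obtain ⟨y, rfl⟩ := QuotientGroup.mk'_surjective Y r
      rw [← map_mul, ← map_mul, Subgroup.mem_center_iff.mp hz y]
    have hCne : C ≠ ⊥ := by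
      intro hbot
      have hYtop : M = ⊤ := by
        rw [eq_top_iff]
        intro z _
        have h1 : QuotientGroup.mk' Y (z : X) ∈ C := ⟨z, z.2, rfl⟩
        rw [hbot, Subgroup.mem_bot, QuotientGroup.mk'_apply, QuotientGroup.eq_one_iff] at h1
        rw [← hYsub]
        exact h1
      exact hM.1 hYtop
    have hCeq : C = Subgroup.center (X ⧸ Y) := by
      have hd : Nat.card C ∣ p := by
        rw [← hcard]; exact Subgroup.card_dvd_of_le hCle
      rcases (Nat.dvd_prime hpp).mp hd with h1 | h1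
      · exact absurd (Subgroup.card_eq_one.mp h1) hCne
      · exact Subgroup.eq_of_le_of_card_ge hCle (by rw [h1, hcard])
    rw [← hCeq] at hxbar
    obtain ⟨z, hz, hzx⟩ := hxbar
    rw [QuotientGroup.mk'_eq_mk'] at hzx
    obtain ⟨w, hw, hzw⟩ := hzx
    apply hx
    rw [← hzw]
    exact (Subgroup.center X).mul_mem hz (hYle hw)
  constructor
  · rw [← hker, Subgroup.index_ker, hrange]
    exact Nat.card_congr (Subgroup.topEquiv).toEquiv
  · ext z
    constructor
    · rintro ⟨y, rfl⟩
      exact hc y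
    · intro hz
      have : (⟨z, hz⟩ : Subgroup.center X) ∈ f.range := by rw [hrange]; exact Subgroup.mem_top _
      obtain ⟨y, hy⟩ := this
      refine ⟨y, ?_⟩
      rw [← hf, hy]

end Cfsg.Agent.S2907
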