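import Cfsg.Statements.S2909
import Cfsg.Agent.Lib.Helper5.CopGen3
import Cfsg.Agent.Lib.Helper5.PB
import Cfsg.Agent.Lib.Helper5.ThreeSub
import Cfsg.Agent.S0028

set_option autoImplicit false
open Cfsg

namespace Cfsg.Agent.S2909

open scoped commutatorElement

theorem step1 {G : Type*} [Group G] [Finite G] {p : ℕ} [Fact p.Prime] (E : Subgroup G) [E.Normal]
    (hE : IsPGroup p ↥E) (U : Subgroup G) (hUcomm : ∀ a ∈ U, ∀ b ∈ U, a * b = b * a)
    (hUexp : ∀ a ∈ U, a ^ p = 1)
    (R : Subgroup G) (hR : ¬ p ∣ Nat.card ↥R) (hRU : U ≤ Subgroup.normalizer (R : Set G))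
    (u : G) (hu : u ∈ U) (hu1 : u ≠ 1)
    (hcond : E ⊓ Subgroup.centralizer (U : Set G) = E ⊓ Subgroup.centralizer ({u} : Set G) ∨
      ⁅E, U⁆ = ⁅E, Subgroup.zpowers u⁆) :
    ⁅R ⊓ Subgroup.centralizer ({u} : Set G), U⁆ ≤ Subgroup.centralizer (E : Set G) := by
  have hp : p.Prime := Fact.out
  set D : Subgroup G := R ⊓ Subgroup.centralizer ({u} : Set G) with hD
  set Z : Subgroup G := Subgroup.zpowers u with hZ
  have hCZ : Subgroup.centralizer ((Z : Subgroup G) : Set G) = Subgroup.centralizer ({u} : Set G) := by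
    rw [hZ, Subgroup.zpowers_eq_closure, Subgroup.centralizer_closure]
  have hUCu : U ≤ Subgroup.centralizer ({u} : Set G) := by
    intro v hv
    rw [Subgroup.mem_centralizer_iff]
    intro z hz
    rw [Set.mem_singleton_iff] at hz
    rw [hz]
    exact hUcomm u hu v hv
  have hUD : U ≤ Subgroup.normalizer (D : Set G) := by
    intro v hv
    exact Cfsg.Agent.Lib.Helper5.mem_normalizer_inf _ _ v (hRU hv)
      (Subgroup.le_normalizer (hUCu hv))
  set X : Subgroup G := ⁅D, U⁆ with hX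
  have hXD : X ≤ D := Subgroup.le_normalizer_iff_commutator_le_left.mp hUD
  have hXR : X ≤ R := hXD.trans inf_le_left
  have hXu : X ≤ Subgroup.centralizer ((Z : Subgroup G) : Set G) := by
    rw [hCZ]; exact hXD.trans inf_le_right
  have hXp : ¬ p ∣ Nat.card ↥X := fun h => hR (h.trans (Subgroup.card_dvd_of_le hXR))
  have hZp : IsPGroup p ↥Z :=
    Cfsg.Agent.Lib.Helper5.isPGroup_of_exp Z (fun e he => hUexp e ((Subgroup.zpowers_le.mpr hu) he))
  have hZX : Z ≤ Subgroup.centralizer ((X : Subgroup G) : Set G) :=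
    Subgroup.le_centralizer_iff.mp hXu
  have hEtop : Subgroup.normalizer ((E : Subgroup G) : Set G) = ⊤ := Subgroup.normalizer_eq_top E
  have hDCu : D ≤ Subgroup.centralizer ({u} : Set G) := inf_le_right
  rcases hcond with ha | hb
  · -- case (a)
    set F : Subgroup G := E ⊓ Subgroup.centralizer ({u} : Set G) with hF
    have hFU : F ≤ Subgroup.centralizer (U : Set G) := by
      rw [← ha]; exact inf_le_right
    have hUF : ⁅U, F⁆ = ⊥ :=
      Subgroup.commutator_eq_bot_iff_le_centralizer.mpr (Subgroup.le_centralizer_iff.mp hFU)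
    have hFU' : ⁅F, U⁆ = ⊥ := Subgroup.commutator_eq_bot_iff_le_centralizer.mpr hFU
    have hDF : D ≤ Subgroup.normalizer (F : Set G) := by
      intro d hd
      apply Cfsg.Agent.Lib.Helper5.mem_normalizer_inf
      · rw [hEtop]; exact Subgroup.mem_top d
      · exact Subgroup.le_normalizer (hDCu hd)
    have h1 : ⁅⁅U, F⁆, D⁆ = ⊥ := by rw [hUF, Subgroup.commutator_bot_left]
    have h2 : ⁅⁅F, D⁆, U⁆ = ⊥ := by
      rw [eq_bot_iff, ← hFU']
      exact Subgroup.commutator_mono (Subgroup.le_normalizer_iff_commutator_le_left.mp hDF) le_rfl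
    have h3 : ⁅X, F⁆ = ⊥ := Subgroup.commutator_commutator_eq_bot_of_rotate h1 h2
    have hXF : X ≤ Subgroup.centralizer (F : Set G) :=
      Subgroup.commutator_eq_bot_iff_le_centralizer.mp h3
    have hcop : (Nat.card ↥X).Coprime p :=
      ((Nat.Prime.coprime_iff_not_dvd hp).mpr hXp).symm
    apply Cfsg.Agent.S0028.result p Z X E hZp hcop hE hZX
    · rw [hEtop]; exact le_top
    · rw [hEtop]; exact le_top
    · rw [hCZ]
      exact Subgroup.le_centralizer_iff.mp hXF
  · -- case (b)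
    set E₁ : Subgroup G := ⁅E, U⁆ with hE₁
    have hDE₁ : D ≤ Subgroup.normalizer (E₁ : Set G) := by
      intro d hd
      rw [Cfsg.Agent.Lib.Helper5.mem_normalizer_iff_map_conj, hb, Subgroup.map_commutator]
      have e1 : E.map (MulAut.conj d).toMonoidHom = E := by
        rw [← Cfsg.Agent.Lib.Helper5.mem_normalizer_iff_map_conj, hEtop]; exact Subgroup.mem_top d
      have e2 : Z.map (MulAut.conj d).toMonoidHom = Z := by
        apply Cfsg.Agent.Lib.Helper5.map_conj_eq_of_le_centralizer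
        rw [hCZ]; exact hDCu hd
      rw [e1, e2]
    have hUE₁ : U ≤ Subgroup.normalizer (E₁ : Set G) := Subgroup.normalizer_commutator_ge_right E U
    have hEE₁ : E ≤ Subgroup.normalizer (E₁ : Set G) := Subgroup.normalizer_commutator_ge_left E U
    have a : ⁅⁅U, E⁆, D⁆ ≤ E₁ := by
      rw [Subgroup.commutator_comm U E]
      exact Subgroup.le_normalizer_iff_commutator_le_left.mp hDE₁
    have b : ⁅⁅E, D⁆, U⁆ ≤ E₁ :=
      Subgroup.commutator_mono (Subgroup.commutator_le_left E D) le_rfl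
    have c := Cfsg.Agent.Lib.Helper5.three_subgroups_mod E₁ D U E hDE₁ hUE₁ hEE₁ a b
    have hcomm : ⁅E, X⁆ ≤ ⁅E, Z⁆ := by
      rw [Subgroup.commutator_comm E X, ← hb]
      exact c
    have hZXbot : ⁅Z, X⁆ = ⊥ := Subgroup.commutator_eq_bot_iff_le_centralizer.mpr hZX
    have h4 := Cfsg.Agent.Lib.Helper5.commutator_eq_bot_of_le_commutator E Z X hE hZp hXp
      (by rw [hEtop]; exact le_top) (by rw [hEtop]; exact le_top) hZXbot hcomm
    exact Subgroup.le_centralizer_iff.mp (Subgroup.commutator_eq_bot_iff_le_centralizer.mp h4)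

theorem result {G : Type*} [Group G] [Finite G] {p : ℕ} [Fact p.Prime] (E : Subgroup G) [E.Normal] (hE : IsPGroup p ↥E) (U : Subgroup G) (hU : Cfsg.IsElementaryAbelian p U) (hnc : ¬ IsCyclic ↥U) (hcond : (∀ u ∈ U, u ≠ 1 → E ⊓ Subgroup.centralizer (U : Set G) = E ⊓ Subgroup.centralizer ({u} : Set G)) ∨ (∀ u ∈ U, u ≠ 1 → ⁅E, U⁆ = ⁅E, Subgroup.zpowers u⁆)) (R : Subgroup G) (hR : ¬ p ∣ Nat.card ↥R) (hRU : U ≤ Subgroup.normalizer (R : Set G)) : ⁅R, U⁆ ≤ Subgroup.centralizer (E : Set G) := by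
  have hp : p.Prime := Fact.out
  haveI := hU.1
  have hUcomm : ∀ a ∈ U, ∀ b ∈ U, a * b = b * a := by
    intro a ha b hb
    have := mul_comm' (⟨a, ha⟩ : ↥U) ⟨b, hb⟩
    exact congrArg Subtype.val this
  have hUp : IsPGroup p ↥U := Cfsg.Agent.Lib.Helper5.isPGroup_of_exp U hU.2
  have hcopUR : (Nat.card ↥U).Coprime (Nat.card ↥R) :=
    Cfsg.Agent.Lib.Helper5.coprime_of_pgroup_of_not_dvd U R hUp hR
  have hgen := Cfsg.Agent.Lib.Helper5.iSup_centralizer_eq_of_not_cyclic U R hnc hRU hcopUR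
  haveI hCn : (Subgroup.centralizer (E : Set G)).Normal := Subgroup.normal_centralizer
  let N : Subgroup G :=
    { carrier := {r | ∀ v ∈ U, ⁅r, v⁆ ∈ Subgroup.centralizer (E : Set G)}
      one_mem' := by
        intro v _
        rw [commutatorElement_one_left]
        exact Subgroup.one_mem _
      mul_mem' := by
        intro r₁ r₂ h₁ h₂ v hv
        rw [commutatorElement_mul_left_eq_conj_mul]
        exact Subgroup.mul_mem _ (hCn.conj_mem _ (h₂ v hv) r₁) (h₁ v hv)
      inv_mem' := by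
        intro r h v hv
        rw [commutatorElement_inv_left]
        have h1 : ⁅v, r⁆ ∈ Subgroup.centralizer (E : Set G) := by
          rw [← commutatorElement_inv]
          exact Subgroup.inv_mem _ (h v hv)
        have := hCn.conj_mem _ h1 r⁻¹
        simpa using this }
  suffices h : R ≤ N by
    rw [Subgroup.commutator_le]
    intro r hr v hv
    exact h hr v hv
  rw [← hgen]
  apply iSup₂_le
  intro u hu r hr v hv
  have hc : E ⊓ Subgroup.centralizer (U : Set G) = E ⊓ Subgroup.centralizer ({u} : Set G) ∨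
      ⁅E, U⁆ = ⁅E, Subgroup.zpowers u⁆ := by
    rcases hcond with h | h
    · exact Or.inl (h u hu.1 hu.2)
    · exact Or.inr (h u hu.1 hu.2)
  exact step1 E hE U hUcomm hU.2 R hR hRU u hu.1 hu.2 hc
    (Subgroup.commutator_mem_commutator hr hv)

end Cfsg.Agent.S2909
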