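import Cfsg.Statements.S2910
import Mathlib
import Cfsg.Agent.Lib.Helper6.CoprimeAut
import Cfsg.Agent.S0071
import Cfsg.Agent.Lib.Helper3.Quasi

set_option autoImplicit false
open Cfsg Cfsg.Agent.Lib.Helper6

namespace Cfsg.Agent.S2910

/-- Let p be an odd prime dividing the order of the finite group G and P a Sylow p-subgroup of G. If Ω₁(P) (generated by the elements of order dividing p) is contained in the centre of G, then G has a normal p-complement. In particular, if G is quasisimple then Ω₁(P) is not central in G. -/
theorem result {G : Type*} [Group G] [Finite G] {p : ℕ} [Fact p.Prime] (hp : p ≠ 2) (hdiv : p ∣ Nat.card G) (P : Sylow p G) (hZ : Cfsg.omegaOne p (P : Subgroup G) ≤ Subgroup.center G) : Cfsg.HasNormalPComplement p G ∧ ¬ Cfsg.IsQuasisimple G := by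
  have hcomp : ∃ N : Subgroup G, N.Normal ∧ N.IsComplement' (P : Subgroup G) := by
    rw [Cfsg.Agent.S0071.result P]
    intro Q hQP g hg hgp
    apply mem_centralizer_of_commute_omega p (Or.inl ⟨rfl, hp⟩) Q (P.isPGroup'.to_le hQP) g hg hgp
    intro x hx hxp
    have hxΩ : x ∈ Cfsg.omegaOne p (P : Subgroup G) :=
      Subgroup.subset_closure ⟨hQP hx, hxp⟩
    exact (Subgroup.mem_center_iff.1 (hZ hxΩ) g)
  refine ⟨⟨P, hcomp⟩, ?_⟩
  intro hqs
  obtain ⟨N, hNn, hNP⟩ := hcomp
  have hcard := hNP.card_mul_card
  have hPne : (P : Subgroup G) ≠ ⊥ := P.ne_bot_of_dvd_card hdiv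
  have hperf : Group.IsPerfect G := hqs.1
  haveI : Nontrivial G := by
    rw [← Finite.one_lt_card_iff_nontrivial]
    have := (Fact.out : p.Prime).two_le
    exact lt_of_lt_of_le (by omega) (Nat.le_of_dvd Nat.card_pos hdiv)
  rcases Cfsg.Agent.Lib.Helper3.quasisimple_normal hqs N with hN | hN
  · rw [hN, Subgroup.card_top] at hcard
    have h1 : Nat.card (P : Subgroup G) = 1 := by
      have hpos : 0 < Nat.card G := Nat.card_pos
      have : Nat.card G * Nat.card (P : Subgroup G) = Nat.card G * 1 := by rw [mul_one]; exact hcard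
      exact Nat.eq_of_mul_eq_mul_left hpos this
    exact hPne (Subgroup.card_eq_one.1 h1)
  · -- G is solvable, contradiction with perfect
    haveI hNs : Group.IsSolvable N := by
      apply Group.isSolvable_of_comm
      intro a b
      apply Subtype.ext
      have := Subgroup.mem_center_iff.1 (hN b.2) (a : G)
      simpa using this
    haveI hQs : Group.IsSolvable (G ⧸ N) := by
      have hpg : IsPGroup p (G ⧸ N) := by
        obtain ⟨k, hk⟩ := IsPGroup.iff_card.1 P.isPGroup'
        apply IsPGroup.of_card (n := k)
        have h1 : Nat.card (G ⧸ N) = N.index := rfl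
        have h2 := N.card_mul_index
        rw [h1, ← hk]
        have hpos : 0 < Nat.card N := Nat.card_pos
        have : Nat.card N * N.index = Nat.card N * Nat.card (P : Subgroup G) := by rw [h2, hcard]
        exact Nat.eq_of_mul_eq_mul_left hpos this
      haveI := hpg.isNilpotent
      infer_instance
    have hsolv : Group.IsSolvable G :=
      Group.isSolvable_of_ker_le_range (N.subtype) (QuotientGroup.mk' N)
        (by rw [QuotientGroup.ker_mk', Subgroup.range_subtype])
    have hlt := Group.IsSolvable.commutator_lt_top_of_nontrivial G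
    rw [hperf.commutator_eq_top] at hlt
    exact lt_irrefl _ hlt

end Cfsg.Agent.S2910
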