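import Cfsg.Statements.S2911
import Mathlib
import Cfsg.Agent.S0111
import Cfsg.Agent.Lib.Helper4.ConjSub

set_option autoImplicit false
open Cfsg

namespace Cfsg.Agent.S2911

open Cfsg.Agent.Lib.Helper4

abbrev P0 := Multiplicative (ZMod 2) × DihedralGroup 4

def c0 : P0 := (Multiplicative.ofAdd 1, 1)
def r0 : P0 := (1, DihedralGroup.r 1)
def z0 : P0 := (1, DihedralGroup.r 2)

def eps : DihedralGroup 4 →* Multiplicative (ZMod 2) where
  toFun := fun d => match d with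
    | DihedralGroup.r _ => 1
    | DihedralGroup.sr _ => Multiplicative.ofAdd 1
  map_one' := by decide
  map_mul' := by decide

def chi2 : P0 →* Multiplicative (ZMod 2) := MonoidHom.fst _ _
def chi6 : P0 →* Multiplicative (ZMod 2) := (MonoidHom.fst _ _) * (eps.comp (MonoidHom.snd _ _))

def NCI (y : P0) : Prop := y * y = 1 ∧ ¬ ∀ w : P0, w * y = y * w

instance : DecidablePred NCI := fun y => by unfold NCI; infer_instance

def Good (χ : P0 →* Multiplicative (ZMod 2)) (y : P0) : Prop := NCI y ∧ χ y = 1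

instance (χ : P0 →* Multiplicative (ZMod 2)) : DecidablePred (Good χ) :=
  fun y => by unfold Good; infer_instance

theorem sq_cases : ∀ x : P0, x * x = 1 ∨ x * x = z0 := by decide
theorem r0_sq : r0 * r0 = z0 := by decide
theorem z0_ne_one : z0 ≠ 1 := by decide
theorem c0_ne_one : c0 ≠ 1 := by decide
theorem c0_sq : c0 * c0 = 1 := by decide
theorem z0_sq : z0 * z0 = 1 := by decide
theorem c0z0_sq : (c0 * z0) * (c0 * z0) = 1 := by decide
theorem c0_central : ∀ w : P0, w * c0 = c0 * w := by decide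
theorem z0_central : ∀ w : P0, w * z0 = z0 * w := by decide
theorem c0z0_central : ∀ w : P0, w * (c0 * z0) = (c0 * z0) * w := by decide
theorem central_cases : ∀ x : P0, (∀ w : P0, w * x = x * w) → x = 1 ∨ x = c0 ∨ x = z0 ∨ x = c0 * z0 := by
  decide
theorem conj_r0 : ∀ y : P0, y * y = 1 → (¬ ∀ w : P0, w * y = y * w) → r0 * y * r0⁻¹ = z0 * y := by decide
theorem chi_cases : ∀ y : P0, NCI y → chi2 y = 1 ∨ chi6 y = 1 := by decide
set_option synthInstance.maxHeartbeats 200000 in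
set_option synthInstance.maxSize 2000 in
theorem FF2 : ∀ y₁ y₂ y : P0, Good chi2 y₁ → Good chi2 y₂ → Good chi2 y →
    y₂ ≠ y₁ → y₂ ≠ z0 * y₁ → (y = y₁ ∨ y = z0 * y₁ ∨ y = y₂ ∨ y = z0 * y₂) := by decide
set_option synthInstance.maxHeartbeats 200000 in
set_option synthInstance.maxSize 2000 in
theorem FF6 : ∀ y₁ y₂ y : P0, Good chi6 y₁ → Good chi6 y₂ → Good chi6 y →
    y₂ ≠ y₁ → y₂ ≠ z0 * y₁ → (y = y₁ ∨ y = z0 * y₁ ∨ y = y₂ ∨ y = z0 * y₂) := by decide
theorem zmod2_xor : ∀ t v : Multiplicative (ZMod 2), v ≠ 1 → Xor (t * v = 1) (t = 1) := by decide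

section
variable {G : Type*} [Group G]

theorem conj_eq_one' {n a : G} (h : n * a * n⁻¹ = 1) : a = 1 := by
  have e : a = n⁻¹ * (n * a * n⁻¹) * n := by group
  rw [e, h]; group

theorem exists_cj_le_sylow [Finite G] (S : Sylow 2 G) (C Q : Subgroup G)
    (hSC : (S : Subgroup G) ≤ C) (hQC : Q ≤ C) (hQ : IsPGroup 2 Q) :
    ∃ h ∈ C, cj h Q ≤ (S : Subgroup G) := by
  classical
  have hQ' : IsPGroup 2 (Q.subgroupOf C) := hQ.comap_subtype
  obtain ⟨R', hR'⟩ := hQ'.exists_le_sylow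
  obtain ⟨h, hh⟩ := MulAction.exists_smul_eq C R' (S.subtype hSC)
  refine ⟨(h : G), h.2, ?_⟩
  intro x hx
  rw [mem_cj_iff] at hx
  have hxC : (h : G)⁻¹ * x * (h : G) ∈ C := hQC hx
  have h1 : (⟨(h : G)⁻¹ * x * (h : G), hxC⟩ : C) ∈ (R' : Subgroup C) :=
    hR' (by rw [Subgroup.mem_subgroupOf]; exact hx)
  have h2 : h * ⟨(h : G)⁻¹ * x * (h : G), hxC⟩ * h⁻¹ ∈ ((h • R' : Sylow 2 C) : Subgroup C) := by
    rw [sylow_smul_eq_cj]; exact conj_mem_cj h _ h1
  rw [hh] at h2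
  have h3 : ((h * ⟨(h : G)⁻¹ * x * (h : G), hxC⟩ * h⁻¹ : C) : G) ∈ (S : Subgroup G) := by
    rw [Sylow.coe_subtype] at h2
    exact Subgroup.mem_subgroupOf.1 h2
  have h4 : ((h * ⟨(h : G)⁻¹ * x * (h : G), hxC⟩ * h⁻¹ : C) : G) = x := by
    simp [mul_assoc]
  rwa [h4] at h3

theorem burnside_fusion [Finite G] (S : Sylow 2 G) (x y g : G)
    (hx : ∀ w ∈ (S : Subgroup G), w * x = x * w) (hy : ∀ w ∈ (S : Subgroup G), w * y = y * w)
    (hg : g * x * g⁻¹ = y) :
    ∃ n ∈ Subgroup.normalizer ((S : Subgroup G) : Set G), n * x * n⁻¹ = y := by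
  classical
  set C : Subgroup G := Subgroup.centralizer {y} with hC
  have hSC : (S : Subgroup G) ≤ C := by
    intro w hw
    rw [hC, Subgroup.mem_centralizer_iff]
    intro t ht
    rw [Set.mem_singleton_iff] at ht
    rw [ht]
    exact (hy w hw).symm
  have hQC : cj g (S : Subgroup G) ≤ C := by
    intro w hw
    rw [mem_cj_iff] at hw
    rw [hC, Subgroup.mem_centralizer_iff]
    intro t ht
    rw [Set.mem_singleton_iff] at ht
    rw [ht, ← hg]
    have h1 := hx _ hw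
    calc g * x * g⁻¹ * w = g * (x * (g⁻¹ * w * g)) * g⁻¹ := by group
      _ = g * (g⁻¹ * w * g * x) * g⁻¹ := by rw [h1]
      _ = w * (g * x * g⁻¹) := by group
  obtain ⟨h, hhC, hle⟩ := exists_cj_le_sylow S C (cj g (S : Subgroup G)) hSC hQC
    (cj_isPGroup 2 g S.2)
  have hc : Nat.card (cj h (cj g (S : Subgroup G))) = Nat.card (S : Subgroup G) := by
    rw [Subgroup.card_map_of_injective (conj_injective h),
      Subgroup.card_map_of_injective (conj_injective g)]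
  have heq : cj (h * g) (S : Subgroup G) = (S : Subgroup G) := by
    rw [cj_mul]
    exact Subgroup.eq_of_le_of_card_ge hle hc.ge
  refine ⟨h * g, ?_, ?_⟩
  · rw [Subgroup.mem_normalizer_iff]
    intro w
    constructor
    · intro hw
      have := conj_mem_cj (h * g) (S : Subgroup G) hw
      rwa [heq] at this
    · intro hw
      rw [← heq, mem_cj_iff] at hw
      have e : (h * g)⁻¹ * ((h * g) * w * (h * g)⁻¹) * (h * g) = w := by group
      rwa [e] at hw
  · have hh : y * h = h * y := by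
      rw [hC, Subgroup.mem_centralizer_iff] at hhC
      exact hhC y (Set.mem_singleton y)
    calc h * g * x * (h * g)⁻¹ = h * (g * x * g⁻¹) * h⁻¹ := by group
      _ = h * y * h⁻¹ := by rw [hg]
      _ = y * h * h⁻¹ := by rw [hh]
      _ = y := by group

theorem pow_odd_mem_sylow [Finite G] (S : Sylow 2 G) (n : G)
    (hn : n ∈ Subgroup.normalizer ((S : Subgroup G) : Set G)) :
    ∃ m : ℕ, Odd m ∧ n ^ m ∈ (S : Subgroup G) := by
  obtain ⟨a, m, hm, ho⟩ := Nat.exists_eq_two_pow_mul_odd (orderOf_pos n).ne'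
  refine ⟨m, hm, ?_⟩
  have hP : IsPGroup 2 (Subgroup.zpowers (n ^ m)) := by
    apply IsPGroup.of_card (n := a)
    rw [Nat.card_zpowers]
    have hmd : m ∣ orderOf n := ⟨2 ^ a, by rw [ho, mul_comm]⟩
    rw [orderOf_pow_of_dvd hm.pos.ne' hmd, ho]
    exact Nat.mul_div_cancel _ hm.pos
  have h1 := IsPGroup.inf_normalizer_sylow hP S
  have h2 : n ^ m ∈ Subgroup.zpowers (n ^ m) ⊓ Subgroup.normalizer ((S : Subgroup G) : Set G) :=
    ⟨Subgroup.mem_zpowers _, Subgroup.pow_mem _ hn m⟩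
  have h3 : n ^ m ∈ Subgroup.zpowers (n ^ m) ⊓ (S : Subgroup G) := by
    rw [← h1]; exact h2
  exact h3.2

structure Emb (S : Sylow 2 G) where
  ι : P0 →* G
  inj : Function.Injective ι
  ran : ∀ w : G, w ∈ (S : Subgroup G) ↔ ∃ x : P0, ι x = w

variable {S : Sylow 2 G}

theorem Emb.mem (E : Emb S) (x : P0) : E.ι x ∈ (S : Subgroup G) := (E.ran _).2 ⟨x, rfl⟩

theorem Emb.cen (E : Emb S) (x : P0) (hx : ∀ w : P0, w * x = x * w) :
    ∀ w ∈ (S : Subgroup G), w * E.ι x = E.ι x * w := by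
  intro w hw
  obtain ⟨w', rfl⟩ := (E.ran _).1 hw
  rw [← map_mul, ← map_mul, hx w']

theorem norm_fix_z (E : Emb S) (n : G)
    (hn : n ∈ Subgroup.normalizer ((S : Subgroup G) : Set G)) :
    n * E.ι z0 * n⁻¹ = E.ι z0 := by
  have hr' : n * E.ι r0 * n⁻¹ ∈ (S : Subgroup G) :=
    (Subgroup.mem_normalizer_iff.1 hn _).1 (E.mem r0)
  obtain ⟨y, hy⟩ := (E.ran _).1 hr'
  have hz : E.ι z0 = E.ι r0 * E.ι r0 := by rw [← map_mul, r0_sq]
  have h1 : n * E.ι z0 * n⁻¹ = E.ι (y * y) := by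
    rw [map_mul, hy, hz]; group
  rcases sq_cases y with h | h
  · exfalso
    rw [h, map_one] at h1
    have h2 : E.ι z0 = 1 := conj_eq_one' h1
    exact z0_ne_one (E.inj (by rw [h2, map_one]))
  · rw [h1, h]

theorem norm_fix_c [Finite G] (E : Emb S) (n : G)
    (hn : n ∈ Subgroup.normalizer ((S : Subgroup G) : Set G)) :
    n * E.ι c0 * n⁻¹ = E.ι c0 := by
  have hc' : n * E.ι c0 * n⁻¹ ∈ (S : Subgroup G) :=
    (Subgroup.mem_normalizer_iff.1 hn _).1 (E.mem c0)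
  obtain ⟨y, hy⟩ := (E.ran _).1 hc'
  have hycen : ∀ w : P0, w * y = y * w := by
    intro w
    apply E.inj
    rw [map_mul, map_mul, hy]
    have hw' : n⁻¹ * E.ι w * n ∈ (S : Subgroup G) := by
      have := (Subgroup.mem_normalizer_iff.1 (Subgroup.inv_mem _ hn) (E.ι w)).1 (E.mem w)
      simpa using this
    obtain ⟨w', hw'e⟩ := (E.ran _).1 hw'
    have hcomm : E.ι w' * E.ι c0 = E.ι c0 * E.ι w' := by
      rw [← map_mul, ← map_mul, c0_central w']
    have e1 : E.ι w = n * E.ι w' * n⁻¹ := by rw [hw'e]; group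
    rw [e1]
    calc n * E.ι w' * n⁻¹ * (n * E.ι c0 * n⁻¹) = n * (E.ι w' * E.ι c0) * n⁻¹ := by group
      _ = n * (E.ι c0 * E.ι w') * n⁻¹ := by rw [hcomm]
      _ = n * E.ι c0 * n⁻¹ * (n * E.ι w' * n⁻¹) := by group
  have hzz := norm_fix_z E n hn
  rcases central_cases y hycen with h | h | h | h
  · exfalso
    rw [h, map_one] at hy
    have h2 : E.ι c0 = 1 := conj_eq_one' hy.symm
    exact c0_ne_one (E.inj (by rw [h2, map_one]))
  · rw [← hy, h]
  · exfalso
    rw [h, ← hzz] at hy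
    have h2 : E.ι z0 = E.ι c0 := by
      have e : E.ι z0 = n⁻¹ * (n * E.ι z0 * n⁻¹) * n := by group
      rw [e, hy]; group
    have h3 : z0 = c0 := E.inj h2
    revert h3; decide
  · exfalso
    have hcz : n * E.ι c0 * n⁻¹ = E.ι c0 * E.ι z0 := by rw [← hy, h, map_mul]
    have hz1 : E.ι z0 * E.ι z0 = 1 := by rw [← map_mul, z0_sq, map_one]
    have hcz2 : n * (E.ι c0 * E.ι z0) * n⁻¹ = E.ι c0 := by
      calc n * (E.ι c0 * E.ι z0) * n⁻¹ = (n * E.ι c0 * n⁻¹) * (n * E.ι z0 * n⁻¹) := by group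
        _ = E.ι c0 * E.ι z0 * E.ι z0 := by rw [hcz, hzz]
        _ = E.ι c0 := by rw [mul_assoc, hz1, mul_one]
    have key : ∀ k : ℕ, n ^ (2 * k + 1) * E.ι c0 * (n ^ (2 * k + 1))⁻¹ = E.ι c0 * E.ι z0 := by
      intro k
      induction k with
      | zero => simpa using hcz
      | succ k ih =>
        have e : n ^ (2 * (k + 1) + 1) = n * n * n ^ (2 * k + 1) := by
          rw [show 2 * (k + 1) + 1 = 2 + (2 * k + 1) by ring, pow_add, pow_two]
        rw [e]
        generalize n ^ (2 * k + 1) = q at ih ⊢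
        calc n * n * q * E.ι c0 * (n * n * q)⁻¹
            = n * (n * (q * E.ι c0 * q⁻¹) * n⁻¹) * n⁻¹ := by group
          _ = n * (n * (E.ι c0 * E.ι z0) * n⁻¹) * n⁻¹ := by rw [ih]
          _ = n * E.ι c0 * n⁻¹ := by rw [hcz2]
          _ = E.ι c0 * E.ι z0 := hcz
    obtain ⟨m, ⟨k, rfl⟩, hmS⟩ := pow_odd_mem_sylow S n hn
    have h5 := E.cen c0 c0_central _ hmS
    have h6 := key k
    rw [h5] at h6
    have h7 : E.ι z0 = 1 := by
      have e : E.ι z0 = (E.ι c0)⁻¹ * (E.ι c0 * n ^ (2 * k + 1) * (n ^ (2 * k + 1))⁻¹) := by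
        rw [h6]; group
      rw [e]; group
    exact z0_ne_one (E.inj (by rw [h7, map_one]))

theorem central_conj_eq [Finite G] (E : Emb S) (x y : P0) (hx : ∀ w : P0, w * x = x * w)
    (hy : ∀ w : P0, w * y = y * w) (h : IsConj (E.ι x) (E.ι y)) : x = y := by
  obtain ⟨g, hg⟩ := isConj_iff.1 h
  obtain ⟨n, hn, hnx⟩ := burnside_fusion S (E.ι x) (E.ι y) g (E.cen x hx) (E.cen y hy) hg
  have hfix : n * E.ι x * n⁻¹ = E.ι x := by
    rcases central_cases x hx with h1 | h1 | h1 | h1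
    · rw [h1, map_one]; group
    · rw [h1]; exact norm_fix_c E n hn
    · rw [h1]; exact norm_fix_z E n hn
    · rw [h1, map_mul]
      calc n * (E.ι c0 * E.ι z0) * n⁻¹ = (n * E.ι c0 * n⁻¹) * (n * E.ι z0 * n⁻¹) := by group
        _ = E.ι c0 * E.ι z0 := by rw [norm_fix_c E n hn, norm_fix_z E n hn]
  exact E.inj (by rw [← hfix, hnx])

theorem conj_sq (E : Emb S) (x y : P0) (h : IsConj (E.ι x) (E.ι y)) (hx : x * x = 1) :
    y * y = 1 := by
  obtain ⟨g, hg⟩ := isConj_iff.1 h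
  apply E.inj
  rw [map_mul, map_one, ← hg]
  have : E.ι x * E.ι x = 1 := by rw [← map_mul, hx, map_one]
  calc g * E.ι x * g⁻¹ * (g * E.ι x * g⁻¹) = g * (E.ι x * E.ι x) * g⁻¹ := by group
    _ = 1 := by rw [this]; group

theorem conj_z (E : Emb S) (y : P0) (hy : NCI y) : IsConj (E.ι y) (E.ι (z0 * y)) := by
  rw [isConj_iff]
  refine ⟨E.ι r0, ?_⟩
  rw [← map_inv, ← map_mul, ← map_mul, conj_r0 y hy.1 hy.2]

theorem thompson_step [Finite G] (E : Emb S) (hno : ¬ ∃ H : Subgroup G, H.index = 2)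
    (χ : P0 →* Multiplicative (ZMod 2)) (u : P0) (hu2 : u * u = 1) (hχ : χ u ≠ 1) :
    ∃ y : P0, χ y = 1 ∧ IsConj (E.ι u) (E.ι y) := by
  have hu1 : u ≠ 1 := by
    intro h; rw [h] at hχ; exact hχ (map_one χ)
  set Q : Subgroup G := χ.ker.map E.ι with hQ
  have hS : (S : Subgroup G) = (⊤ : Subgroup P0).map E.ι := by
    ext w
    rw [E.ran, Subgroup.mem_map]
    constructor
    · rintro ⟨x, hx⟩; exact ⟨x, Subgroup.mem_top x, hx⟩
    · rintro ⟨x, -, hx⟩; exact ⟨x, hx⟩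
  have hQS : Q ≤ (S : Subgroup G) := by
    rw [hS]; exact Subgroup.map_mono le_top
  have hidx : Q.relIndex (S : Subgroup G) = 2 := by
    rw [hS, hQ, Subgroup.relIndex_map_map_of_injective _ _ E.inj, Subgroup.relIndex_top_right,
      Subgroup.index_eq_two_iff]
    refine ⟨u, fun b => ?_⟩
    rw [MonoidHom.mem_ker, MonoidHom.mem_ker, map_mul]
    exact zmod2_xor (χ b) (χ u) hχ
  have hord : orderOf (E.ι u) = 2 := by
    apply orderOf_eq_prime
    · rw [pow_two, ← map_mul, hu2, map_one]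
    · intro h; exact hu1 (E.inj (by rw [h, map_one]))
  have huQ : E.ι u ∉ Q := by
    intro hmem
    obtain ⟨y, hy, hyu⟩ := Subgroup.mem_map.1 hmem
    have : y = u := E.inj hyu
    rw [this] at hy
    exact hχ (MonoidHom.mem_ker.1 hy)
  rcases Cfsg.Agent.S0111.result S Q hQS hidx (E.ι u) hord (E.mem u) huQ with
    ⟨M, -, hM, -⟩ | ⟨g, hg⟩
  · exact absurd ⟨M, hM⟩ hno
  · obtain ⟨y, hy, hyg⟩ := Subgroup.mem_map.1 hg
    exact ⟨y, MonoidHom.mem_ker.1 hy, isConj_iff.2 ⟨g, hyg.symm⟩⟩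

theorem lemmaA [Finite G] (E : Emb S) (hno : ¬ ∃ H : Subgroup G, H.index = 2)
    (χ : P0 →* Multiplicative (ZMod 2)) (hc : χ c0 ≠ 1) (hcz : χ (c0 * z0) ≠ 1)
    (FF : ∀ y₁ y₂ y : P0, Good χ y₁ → Good χ y₂ → Good χ y →
      y₂ ≠ y₁ → y₂ ≠ z0 * y₁ → (y = y₁ ∨ y = z0 * y₁ ∨ y = y₂ ∨ y = z0 * y₂))
    (y : P0) (hy : Good χ y) :
    IsConj (E.ι c0) (E.ι y) ∨ IsConj (E.ι (c0 * z0)) (E.ι y) := by
  obtain ⟨y₁, h1, hc1⟩ := thompson_step E hno χ c0 c0_sq hc
  obtain ⟨y₂, h2, hc2⟩ := thompson_step E hno χ (c0 * z0) c0z0_sq hcz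
  have hne : c0 ≠ c0 * z0 := by decide
  have hN1 : NCI y₁ := by
    refine ⟨conj_sq E _ _ hc1 c0_sq, fun hcen => ?_⟩
    have := central_conj_eq E c0 y₁ c0_central hcen hc1
    rw [← this] at h1
    exact hc h1
  have hN2 : NCI y₂ := by
    refine ⟨conj_sq E _ _ hc2 c0z0_sq, fun hcen => ?_⟩
    have := central_conj_eq E (c0 * z0) y₂ c0z0_central hcen hc2
    rw [← this] at h2
    exact hcz h2
  have hn1 : y₂ ≠ y₁ := by
    intro h
    rw [h] at hc2
    exact hne (central_conj_eq E c0 (c0 * z0) c0_central c0z0_central (hc1.trans hc2.symm))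
  have hn2 : y₂ ≠ z0 * y₁ := by
    intro h
    rw [h] at hc2
    exact hne (central_conj_eq E c0 (c0 * z0) c0_central c0z0_central
      ((hc1.trans (conj_z E y₁ hN1)).trans hc2.symm))
  rcases FF y₁ y₂ y ⟨hN1, h1⟩ ⟨hN2, h2⟩ hy hn1 hn2 with h | h | h | h
  · left; rw [h]; exact hc1
  · left; rw [h]; exact hc1.trans (conj_z E y₁ hN1)
  · right; rw [h]; exact hc2
  · right; rw [h]; exact hc2.trans (conj_z E y₂ hN2)

theorem z_isolated [Finite G] (E : Emb S) (hno : ¬ ∃ H : Subgroup G, H.index = 2)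
    (y : P0) (hy2 : y * y = 1) (hconj : IsConj (E.ι z0) (E.ι y)) : y = z0 := by
  by_cases hcen : ∀ w : P0, w * y = y * w
  · exact (central_conj_eq E z0 y z0_central hcen hconj).symm
  · exfalso
    have hN : NCI y := ⟨hy2, hcen⟩
    have hcases : IsConj (E.ι c0) (E.ι y) ∨ IsConj (E.ι (c0 * z0)) (E.ι y) := by
      rcases chi_cases y hN with h | h
      · exact lemmaA E hno chi2 (by decide) (by decide) FF2 y ⟨hN, h⟩
      · exact lemmaA E hno chi6 (by decide) (by decide) FF6 y ⟨hN, h⟩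
    rcases hcases with h | h
    · have := central_conj_eq E z0 c0 z0_central c0_central (hconj.trans h.symm)
      revert this; decide
    · have := central_conj_eq E z0 (c0 * z0) z0_central c0z0_central (hconj.trans h.symm)
      revert this; decide

end

/-- A finite group whose Sylow 2-subgroups are isomorphic to the direct product of a group of order 2 and a dihedral group of order 8 has a subgroup of index two. -/
theorem result {G : Type*} [Group G] [Finite G] (S : Sylow 2 G) (hS : Nonempty (↥(S : Subgroup G) ≃* Multiplicative (ZMod 2) × DihedralGroup 4)) : ∃ H : Subgroup G, H.index = 2 := by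
  classical
  by_contra hno
  obtain ⟨e⟩ := hS
  let E : Emb S :=
    { ι := (S : Subgroup G).subtype.comp e.symm.toMonoidHom
      inj := fun a b h => e.symm.injective (Subtype.ext h)
      ran := by
        intro w
        constructor
        · intro hw
          refine ⟨e ⟨w, hw⟩, ?_⟩
          simp
        · rintro ⟨x, rfl⟩
          exact (e.symm x).2 }
  obtain ⟨x, hx1, hcx⟩ := thompson_step E hno chi2 c0 c0_sq (by decide)
  have hxN : NCI x := by
    refine ⟨conj_sq E _ _ hcx c0_sq, fun hcen => ?_⟩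
    have := central_conj_eq E c0 x c0_central hcen hcx
    rw [← this] at hx1
    revert hx1; decide
  obtain ⟨g₀, hg₀⟩ := isConj_iff.1 hcx.symm
  set C : Subgroup G := Subgroup.centralizer {E.ι c0} with hC
  have hSC : (S : Subgroup G) ≤ C := by
    intro w hw
    rw [hC, Subgroup.mem_centralizer_iff]
    intro t ht
    rw [Set.mem_singleton_iff] at ht
    rw [ht]
    exact (E.cen c0 c0_central w hw).symm
  set A : Subgroup G := Subgroup.zpowers (E.ι z0) with hA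
  have hAS : A ≤ (S : Subgroup G) := by
    rw [hA, Subgroup.zpowers_le]; exact E.mem z0
  have hAx : ∀ a ∈ A, a * E.ι x = E.ι x * a := by
    intro a ha
    obtain ⟨k, rfl⟩ := Subgroup.mem_zpowers_iff.1 ha
    have hzx : Commute (E.ι z0) (E.ι x) := by
      show E.ι z0 * E.ι x = E.ι x * E.ι z0
      rw [← map_mul, ← map_mul, ← z0_central x]
    exact (hzx.zpow_left k)
  have hQC : cj g₀ A ≤ C := by
    intro w hw
    rw [mem_cj_iff] at hw
    rw [hC, Subgroup.mem_centralizer_iff]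
    intro t ht
    rw [Set.mem_singleton_iff] at ht
    rw [ht, ← hg₀]
    have h1 := hAx _ hw
    calc g₀ * E.ι x * g₀⁻¹ * w = g₀ * (E.ι x * (g₀⁻¹ * w * g₀)) * g₀⁻¹ := by group
      _ = g₀ * (g₀⁻¹ * w * g₀ * E.ι x) * g₀⁻¹ := by rw [h1]
      _ = w * (g₀ * E.ι x * g₀⁻¹) := by group
  obtain ⟨h, hhC, hle⟩ := exists_cj_le_sylow S C (cj g₀ A) hSC hQC
    (cj_isPGroup 2 g₀ (S.2.to_le hAS))
  have hhc : E.ι c0 * h = h * E.ι c0 := by
    rw [hC, Subgroup.mem_centralizer_iff] at hhC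
    exact hhC _ (Set.mem_singleton _)
  have hgx : (h * g₀) * E.ι x * (h * g₀)⁻¹ = E.ι c0 := by
    calc (h * g₀) * E.ι x * (h * g₀)⁻¹ = h * (g₀ * E.ι x * g₀⁻¹) * h⁻¹ := by group
      _ = h * E.ι c0 * h⁻¹ := by rw [hg₀]
      _ = E.ι c0 * h * h⁻¹ := by rw [hhc]
      _ = E.ι c0 := by group
  have hgzS : (h * g₀) * E.ι z0 * (h * g₀)⁻¹ ∈ (S : Subgroup G) := by
    apply hle
    have h1 : g₀ * E.ι z0 * g₀⁻¹ ∈ cj g₀ A := conj_mem_cj g₀ A (Subgroup.mem_zpowers _)
    have h2 := conj_mem_cj h _ h1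
    have e1 : (h * g₀) * E.ι z0 * (h * g₀)⁻¹ = h * (g₀ * E.ι z0 * g₀⁻¹) * h⁻¹ := by group
    rw [e1]; exact h2
  obtain ⟨y, hy⟩ := (E.ran _).1 hgzS
  have hzy : IsConj (E.ι z0) (E.ι y) := isConj_iff.2 ⟨h * g₀, hy.symm⟩
  have hyz : y = z0 := z_isolated E hno y (conj_sq E _ _ hzy z0_sq) hzy
  rw [hyz] at hy
  have hfin : IsConj (E.ι (z0 * x)) (E.ι (z0 * c0)) := by
    rw [isConj_iff]
    refine ⟨h * g₀, ?_⟩
    rw [map_mul, map_mul]
    calc (h * g₀) * (E.ι z0 * E.ι x) * (h * g₀)⁻¹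
        = ((h * g₀) * E.ι z0 * (h * g₀)⁻¹) * ((h * g₀) * E.ι x * (h * g₀)⁻¹) := by group
      _ = E.ι z0 * E.ι c0 := by rw [← hy, hgx]
  have hcc : IsConj (E.ι c0) (E.ι (z0 * c0)) := (hcx.trans (conj_z E x hxN)).trans hfin
  have hz0c0 : ∀ w : P0, w * (z0 * c0) = (z0 * c0) * w := by decide
  have := central_conj_eq E c0 (z0 * c0) c0_central hz0c0 hcc
  revert this; decide

end Cfsg.Agent.S2911
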