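import Mathlib
import Cfsg.Statements.S2922
import Cfsg.Agent.Lib.Helper3.CharP2
import Cfsg.Agent.Lib.Helper3.NormAux

set_option autoImplicit false
open Cfsg
open Cfsg.Agent.Lib.Helper3
open Cfsg.Agent.Lib.Helper1

namespace Cfsg.Agent.S2922

theorem result {X : Type*} [Group X] [Finite X] {p : ℕ} [Fact p.Prime] (B C : Subgroup X) (hB : IsPGroup p ↥B) (hCB : C ≤ B) (hCn : (C.subgroupOf B).Normal) (hC : Cfsg.generalizedFittingSubgroup ↥(Subgroup.normalizer (C : Set X)) = Cfsg.pCore p ↥(Subgroup.normalizer (C : Set X))) : Cfsg.generalizedFittingSubgroup ↥(Subgroup.normalizer (B : Set X)) = Cfsg.pCore p ↥(Subgroup.normalizer (B : Set X)) ∧ Cfsg.generalizedFittingSubgroup ↥(Subgroup.centralizer (B : Set X)) = Cfsg.pCore p ↥(Subgroup.centralizer (B : Set X)) := by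
  set M := Subgroup.normalizer (C : Set X) with hM
  set U := (Cfsg.pCore p ↥M).map M.subtype with hU
  have hUp : IsPGroup p ↥U := (pCore_isPGroup (p := p) (G := ↥M)).map _
  have hMU : M ≤ Subgroup.normalizer (U : Set X) := by
    have : (Cfsg.pCore p ↥M).Normal := pCore_normal' p
    exact le_normalizer_map_of_normal _
  have hMCU : M ⊓ Subgroup.centralizer (U : Set X) ≤ U := local_of_genFitting_eq_pCore hC
  have hBM : B ≤ M := (Subgroup.normal_subgroupOf_iff_le_normalizer hCB).mp hCn
  have hCBM : Subgroup.centralizer (B : Set X) ≤ M :=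
    (Subgroup.centralizer_le hCB).trans (Subgroup.centralizer_le_normalizer _)
  constructor
  · -- N_X(B)
    set N := Subgroup.normalizer (B : Set X) with hN
    set H₁ := M ⊓ N with hH₁
    have hBH₁ : B ≤ H₁ := le_inf hBM Subgroup.le_normalizer
    have hH₁B : H₁ ≤ Subgroup.normalizer (B : Set X) := inf_le_right
    have hloc : H₁ ⊓ Subgroup.centralizer (((Cfsg.pCore p ↥H₁).map H₁.subtype : Subgroup X) : Set X) ≤
        (Cfsg.pCore p ↥H₁).map H₁.subtype := by
      apply charp_local hB hUp (hBM.trans hMU) (inf_le_left.trans hMU)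
      · exact (inf_le_inf_right _ inf_le_left).trans hMCU
      · apply le_pCore_map
        · intro x hx
          have hxM : x ∈ M := (Subgroup.map_subtype_le _) hx.1
          exact ⟨hxM, Subgroup.centralizer_le_normalizer _ hx.2⟩
        · exact hUp.to_le inf_le_left
        · refine le_trans ?_ (normalizer_inf_normalizer_le _ _)
          exact le_inf (inf_le_left.trans hMU)
            (hH₁B.trans (normalizer_le_normalizer_centralizer B))
      · left
        exact le_pCore_map hBH₁ hB hH₁B
    have hfin := charp_of_sub (p := p) (N := N) (H₁ := H₁) inf_le_right ?_ hloc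
    · exact genFitting_eq_pCore_of_local hfin
    · rintro x ⟨hxN, hxC⟩
      have hxC' : x ∈ Subgroup.centralizer
        (((Cfsg.pCore p ↥N).map N.subtype : Subgroup X) : Set X) := hxC
      refine ⟨?_, hxN⟩
      apply hCBM
      have hBO : B ≤ (Cfsg.pCore p ↥N).map N.subtype :=
        le_pCore_map Subgroup.le_normalizer hB le_rfl
      exact Subgroup.centralizer_le hBO hxC'
  · -- C_X(B)
    set H := Subgroup.centralizer (B : Set X) with hH
    have hloc : H ⊓ Subgroup.centralizer (((Cfsg.pCore p ↥H).map H.subtype : Subgroup X) : Set X) ≤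
        (Cfsg.pCore p ↥H).map H.subtype := by
      apply charp_local hB hUp (hBM.trans hMU) (hCBM.trans hMU)
      · exact (inf_le_inf_right _ hCBM).trans hMCU
      · apply le_pCore_map inf_le_right (hUp.to_le inf_le_left)
        refine le_trans ?_ (normalizer_inf_normalizer_le _ _)
        exact le_inf (hCBM.trans hMU) Subgroup.le_normalizer
      · right
        exact le_rfl
    exact genFitting_eq_pCore_of_local hloc

end Cfsg.Agent.S2922
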