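import Cfsg.Statements.S2923
import Cfsg.Agent.Lib.Helper5.CharP

set_option autoImplicit false
open Cfsg

namespace Cfsg.Agent.S2923

theorem result {X : Type*} [Group X] [Finite X] {p : ℕ} [Fact p.Prime] (hX : Subgroup.centralizer (Cfsg.pCore p X : Set X) ≤ Cfsg.pCore p X) (Y : Subgroup X) (hY : Y.IsSubnormal) : Subgroup.centralizer (Cfsg.pCore p ↥Y : Set ↥Y) ≤ Cfsg.pCore p ↥Y := by
  induction hY with
  | top =>
    exact Cfsg.Agent.Lib.Helper5.charp_of_equiv (Subgroup.topEquiv (G := X)).symm hX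
  | step H K h_le hSubn hN ih =>
    have h1 : Subgroup.centralizer (Cfsg.pCore p ↥(H.subgroupOf K) : Set ↥(H.subgroupOf K)) ≤
        Cfsg.pCore p ↥(H.subgroupOf K) := by
      apply Cfsg.Agent.Lib.Helper5.charp_of_normalizedBy ih
      rw [Subgroup.normalizer_eq_top_iff.mpr hN]
      exact le_top
    exact Cfsg.Agent.Lib.Helper5.charp_of_equiv (Subgroup.subgroupOfEquivOfLe h_le) h1

end Cfsg.Agent.S2923
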