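import Mathlib
import Cfsg.Statements.S2925
import Cfsg.Agent.Lib.Helper3.Layer
import Cfsg.Agent.Lib.Helper3.Conj
import Cfsg.Agent.S0542

set_option autoImplicit false
open Cfsg
open Cfsg.Agent.Lib.Helper3
open scoped commutatorElement

namespace Cfsg.Agent.S2925

/-- Let K be a component of the finite group X and T a Sylow 2-subgroup of X. If some abelian normal subgroup Y of T does not normalize K, then K ⧸ Z(K) has abelian Sylow 2-subgroups. -/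
theorem result {X : Type*} [Group X] [Finite X] (K : Subgroup X) (hK : Cfsg.IsComponent K) (T : Sylow 2 X) (Y : Subgroup X) (hYT : Y ≤ (T : Subgroup X)) (hYn : (Y.subgroupOf (T : Subgroup X)).Normal) (hYab : IsMulCommutative ↥Y) (hnot : ¬ Y ≤ Subgroup.normalizer (K : Set X)) (P : Sylow 2 (↥K ⧸ Subgroup.center ↥K)) : IsMulCommutative ↥(P : Subgroup (↥K ⧸ Subgroup.center ↥K)) := by
  classical
  have : Fact (Nat.Prime 2) := ⟨Nat.prime_two⟩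
  obtain ⟨a, haY, haK⟩ := SetLike.not_le_iff_exists.mp hnot
  set Ka := K.map (MulAut.conj a).toMonoidHom with hKadef
  have hKa : Cfsg.IsComponent Ka := component_map_equiv hK (MulAut.conj a)
  have hne : Ka ≠ K := by
    intro h
    apply haK
    exact Subgroup.mem_normalizer_iff_map_conj_eq.mpr h
  have hcomm : ∀ k ∈ K, ∀ u ∈ Ka, u * k = k * u := by
    have h1 := components_commute hK hKa (Ne.symm hne)
    rw [Subgroup.commutator_eq_bot_iff_le_centralizer] at h1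
    intro k hk u hu
    exact Subgroup.mem_centralizer_iff.mp (h1 hk) u hu
  -- commutators of elements of `T ∩ K` lie in `Ka`
  have hA : ∀ s₁ ∈ (T : Subgroup X) ⊓ K, ∀ s₂ ∈ (T : Subgroup X) ⊓ K,
      s₁⁻¹ * s₂⁻¹ * s₁ * s₂ ∈ Ka := by
    intro s₁ hs₁ s₂ hs₂
    have hc : ∀ s ∈ (T : Subgroup X) ⊓ K, s * a * s⁻¹ * a⁻¹ ∈ Y := by
      intro s hs
      have h1 : (⟨a, hYT haY⟩ : (T : Subgroup X)) ∈ Y.subgroupOf (T : Subgroup X) := by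
        rw [Subgroup.mem_subgroupOf]; exact haY
      have h2 := hYn.conj_mem _ h1 ⟨s, hs.1⟩
      rw [Subgroup.mem_subgroupOf] at h2
      exact Y.mul_mem h2 (Y.inv_mem haY)
    have hu : ∀ s ∈ (T : Subgroup X) ⊓ K, a * s⁻¹ * a⁻¹ ∈ Ka := by
      intro s hs
      exact conj_mem_map_conj (K.inv_mem hs.2)
    have hYc : ∀ y₁ ∈ Y, ∀ y₂ ∈ Y, y₁ * y₂ = y₂ * y₁ := by
      intro y₁ h₁ y₂ h₂
      have := hYab.is_comm.comm (⟨y₁, h₁⟩ : Y) ⟨y₂, h₂⟩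
      exact congrArg Subtype.val this
    set u₁ := a * s₁⁻¹ * a⁻¹ with hu₁
    set u₂ := a * s₂⁻¹ * a⁻¹ with hu₂
    have e₁ : s₁ * a * s₁⁻¹ * a⁻¹ = s₁ * u₁ := by rw [hu₁]; group
    have e₂ : s₂ * a * s₂⁻¹ * a⁻¹ = s₂ * u₂ := by rw [hu₂]; group
    have h := hYc _ (hc s₁ hs₁) _ (hc s₂ hs₂)
    rw [e₁, e₂] at h
    have h12 : u₁ * s₂ = s₂ * u₁ := hcomm s₂ hs₂.2 u₁ (hu s₁ hs₁)
    have h21 : u₂ * s₁ = s₁ * u₂ := hcomm s₁ hs₁.2 u₂ (hu s₂ hs₂)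
    have key : s₁ * s₂ * u₁ * u₂ = s₂ * s₁ * u₂ * u₁ := by
      calc s₁ * s₂ * u₁ * u₂ = s₁ * (s₂ * u₁) * u₂ := by group
        _ = s₁ * (u₁ * s₂) * u₂ := by rw [h12]
        _ = s₁ * u₁ * (s₂ * u₂) := by group
        _ = s₂ * u₂ * (s₁ * u₁) := h
        _ = s₂ * (u₂ * s₁) * u₁ := by group
        _ = s₂ * (s₁ * u₂) * u₁ := by rw [h21]
        _ = s₂ * s₁ * u₂ * u₁ := by group
    have e : s₁⁻¹ * s₂⁻¹ * s₁ * s₂ = u₂ * u₁ * u₂⁻¹ * u₁⁻¹ := by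
      calc s₁⁻¹ * s₂⁻¹ * s₁ * s₂ = s₁⁻¹ * s₂⁻¹ * (s₁ * s₂ * u₁ * u₂) * u₂⁻¹ * u₁⁻¹ := by group
        _ = s₁⁻¹ * s₂⁻¹ * (s₂ * s₁ * u₂ * u₁) * u₂⁻¹ * u₁⁻¹ := by rw [key]
        _ = u₂ * u₁ * u₂⁻¹ * u₁⁻¹ := by group
    rw [e]
    exact Ka.mul_mem (Ka.mul_mem (Ka.mul_mem (hu s₂ hs₂) (hu s₁ hs₁)) (Ka.inv_mem (hu s₂ hs₂)))
      (Ka.inv_mem (hu s₁ hs₁))
  obtain ⟨Q, hQ⟩ := Cfsg.Agent.S0542.result 2 K hK.1 T
  have hQmem : ∀ s : ↥K, s ∈ (Q : Subgroup ↥K) → (s : X) ∈ (T : Subgroup X) ⊓ K := by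
    intro s hs
    rw [hQ, Subgroup.mem_subgroupOf] at hs
    exact ⟨hs, s.2⟩
  have hB : ∀ s₁ ∈ (Q : Subgroup ↥K), ∀ s₂ ∈ (Q : Subgroup ↥K),
      s₁⁻¹ * s₂⁻¹ * s₁ * s₂ ∈ Subgroup.center ↥K := by
    intro s₁ h₁ s₂ h₂
    have h := hA _ (hQmem s₁ h₁) _ (hQmem s₂ h₂)
    rw [Subgroup.mem_center_iff]
    intro k
    apply Subtype.ext
    have := hcomm (k : X) k.2 _ h
    simp only [Subgroup.coe_mul, Subgroup.coe_inv]
    exact this.symm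
  set π := QuotientGroup.mk' (Subgroup.center ↥K) with hπ
  have hπs : Function.Surjective π := QuotientGroup.mk'_surjective _
  set Qb : Sylow 2 (↥K ⧸ Subgroup.center ↥K) := Q.mapSurjective hπs with hQb
  have hQbc : ∀ x ∈ (Qb : Subgroup (↥K ⧸ Subgroup.center ↥K)),
      ∀ y ∈ (Qb : Subgroup (↥K ⧸ Subgroup.center ↥K)), x * y = y * x := by
    intro x hx y hy
    rw [hQb, Sylow.coe_mapSurjective] at hx hy
    obtain ⟨s₁, h₁, rfl⟩ := Subgroup.mem_map.mp hx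
    obtain ⟨s₂, h₂, rfl⟩ := Subgroup.mem_map.mp hy
    rw [← map_mul, ← map_mul]
    symm
    rw [hπ, QuotientGroup.mk'_apply, QuotientGroup.mk'_apply, QuotientGroup.eq]
    have := hB s₁ h₁ s₂ h₂
    have e : (s₂ * s₁)⁻¹ * (s₁ * s₂) = s₁⁻¹ * s₂⁻¹ * s₁ * s₂ := by group
    rw [e]; exact this
  obtain ⟨g, hg⟩ := MulAction.exists_smul_eq (↥K ⧸ Subgroup.center ↥K) Qb P
  have hPmem : ∀ x ∈ (P : Subgroup (↥K ⧸ Subgroup.center ↥K)),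
      g⁻¹ * x * g ∈ (Qb : Subgroup (↥K ⧸ Subgroup.center ↥K)) := by
    intro x hx
    rw [← hg, sylow_smul_coe, mem_map_conj] at hx
    exact hx
  refine ⟨⟨fun x y => ?_⟩⟩
  apply Subtype.ext
  have h := hQbc _ (hPmem x x.2) _ (hPmem y y.2)
  simp only [Subgroup.coe_mul]
  have e1 : (x : ↥K ⧸ Subgroup.center ↥K) * y = g * ((g⁻¹ * x * g) * (g⁻¹ * y * g)) * g⁻¹ := by group
  have e2 : (y : ↥K ⧸ Subgroup.center ↥K) * x = g * ((g⁻¹ * y * g) * (g⁻¹ * x * g)) * g⁻¹ := by group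
  rw [e1, e2, h]

end Cfsg.Agent.S2925
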