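import Cfsg.Statements.S2939
import Mathlib

set_option autoImplicit false
open Cfsg

namespace Cfsg.Agent.S2939

open scoped Pointwise

section
variable {G : Type*} [Group G]

theorem mem_scr {g y : G} {H : Subgroup G} :
    y ∈ subgroupConjRight g H ↔ g * y * g⁻¹ ∈ H := by
  unfold subgroupConjRight
  rw [Subgroup.mem_map_equiv, MulAut.conj_symm_apply, inv_inv]

theorem scr_one (H : Subgroup G) : subgroupConjRight 1 H = H := by
  ext y; rw [mem_scr]; simp

theorem scr_mul (g h : G) (H : Subgroup G) :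
    subgroupConjRight (g * h) H = subgroupConjRight h (subgroupConjRight g H) := by
  ext y; rw [mem_scr, mem_scr, mem_scr]
  have : g * h * y * (g * h)⁻¹ = g * (h * y * h⁻¹) * g⁻¹ := by group
  rw [this]

theorem scr_self {x : G} {H : Subgroup G} (hx : x ∈ H) : subgroupConjRight x H = H := by
  ext y; rw [mem_scr]
  constructor
  · intro h
    have : y = x⁻¹ * (x * y * x⁻¹) * x := by group
    rw [this]; exact H.mul_mem (H.mul_mem (H.inv_mem hx) h) hx
  · intro h; exact H.mul_mem (H.mul_mem hx h) (H.inv_mem hx)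

theorem scr_inf (g : G) (H K : Subgroup G) :
    subgroupConjRight g (H ⊓ K) = subgroupConjRight g H ⊓ subgroupConjRight g K := by
  ext y; rw [Subgroup.mem_inf, mem_scr, mem_scr, mem_scr, Subgroup.mem_inf]

theorem card_scr (g : G) (H : Subgroup G) : Nat.card (subgroupConjRight g H) = Nat.card H :=
  Subgroup.card_map_of_injective (MulAut.conj g⁻¹).injective

theorem mem_cR {g y : G} {A : Set G} : y ∈ conjRight g A ↔ g * y * g⁻¹ ∈ A := by
  unfold conjRight
  constructor
  · rintro ⟨a, ha, rfl⟩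
    have : g * (g⁻¹ * a * g) * g⁻¹ = a := by group
    rw [this]; exact ha
  · intro h
    exact ⟨g * y * g⁻¹, h, by group⟩

theorem mem_SM_iff [Finite G] {p : ℕ} [Fact p.Prime] (𝓕 : Set (Subgroup G)) (R X : Subgroup G) :
    X ∈ sylowMembers p 𝓕 R ↔
      X ∈ 𝓕 ∧ Nat.card ↥(R ⊓ X) = p ^ (Nat.card X).factorization p := by
  unfold sylowMembers
  rw [Set.mem_setOf_eq]
  constructor
  · rintro ⟨hX, P, hP⟩
    refine ⟨hX, ?_⟩
    rw [← hP, Subgroup.card_map_of_injective (Subgroup.subtype_injective _)]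
    exact P.card_eq_multiplicity
  · rintro ⟨hX, hc⟩
    refine ⟨hX, ?_⟩
    have hle : R ⊓ X ≤ X := inf_le_right
    have hc' : Nat.card ((R ⊓ X).subgroupOf X) = p ^ (Nat.card X).factorization p := by
      rw [Nat.card_congr (Subgroup.subgroupOfEquivOfLe hle).toEquiv, hc]
    exact ⟨Sylow.ofCard _ hc', Subgroup.map_subgroupOf_eq_of_le hle⟩

theorem SM_conj [Finite G] {p : ℕ} [Fact p.Prime] (𝓕 : Set (Subgroup G)) (h𝓕 : IsNormalSet 𝓕)
    {R X : Subgroup G} (w : G) (h : X ∈ sylowMembers p 𝓕 R) :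
    subgroupConjRight w X ∈ sylowMembers p 𝓕 (subgroupConjRight w R) := by
  rw [mem_SM_iff] at h ⊢
  refine ⟨h𝓕 X h.1 w, ?_⟩
  rw [← scr_inf, card_scr, card_scr, h.2]

theorem coe_smul_sylow {p : ℕ} (g : G) (S : Sylow p G) :
    ((g • S : Sylow p G) : Subgroup G) = subgroupConjRight g⁻¹ (S : Subgroup G) := by
  ext y
  rw [mem_scr, inv_inv]
  have : ((g • S : Sylow p G) : Subgroup G) = MulAut.conj g • (S : Subgroup G) := rfl
  rw [this, Subgroup.mem_pointwise_smul_iff_inv_smul_mem]
  rfl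

theorem mem_normalizer_of_scr_eq {g : G} {H : Subgroup G} (h : subgroupConjRight g H = H) :
    g ∈ Subgroup.normalizer (H : Set G) := by
  rw [Subgroup.mem_normalizer_iff]
  intro y
  constructor
  · intro hy
    have : y ∈ subgroupConjRight g H := by rw [h]; exact hy
    exact mem_scr.mp this
  · intro hy
    have : y ∈ subgroupConjRight g H := mem_scr.mpr hy
    rwa [h] at this

theorem take_succ_prod {n : ℕ} (y : Fin n → G) (k : ℕ) (hk : k < n) :
    ((List.ofFn y).take (k + 1)).prod = ((List.ofFn y).take k).prod * y ⟨k, hk⟩ := by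
  have hlen : k < (List.ofFn y).length := by rw [List.length_ofFn]; exact hk
  rw [List.prod_take_succ _ _ hlen, List.getElem_ofFn]

/-- the partial products `x_{k-1} ⋯ x_0` -/
def wseq {n : ℕ} (x : Fin n → G) : ℕ → G
  | 0 => 1
  | (k + 1) => (if h : k < n then x ⟨k, h⟩ else 1) * wseq x k

theorem wseq_zero {n : ℕ} (x : Fin n → G) : wseq x 0 = 1 := rfl

theorem wseq_succ {n : ℕ} (x : Fin n → G) (k : ℕ) (hk : k < n) :
    wseq x (k + 1) = x ⟨k, hk⟩ * wseq x k := by
  rw [wseq, dif_pos hk]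

theorem forward [Finite G] {p : ℕ} [Fact p.Prime] (𝓕 : Set (Subgroup G)) (h𝓕 : IsNormalSet 𝓕)
    (hC : ControlsSylowIntersections p 𝓕) : FamilyStronglyControlsFusion p 𝓕 := by
  intro S A g hAS hne hAg
  have hgg : subgroupConjRight g (subgroupConjRight g⁻¹ (S : Subgroup G)) = (S : Subgroup G) := by
    rw [← scr_mul, inv_mul_cancel, scr_one]
  by_cases hT : g • S = S
  · refine ⟨0, Fin.elim0, Fin.elim0, g, ?_, fun i => i.elim0, ?_, fun i => i.elim0⟩
    · apply mem_normalizer_of_scr_eq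
      have h1 : ((g • S : Sylow p G) : Subgroup G) = (S : Subgroup G) := by rw [hT]
      rw [coe_smul_sylow] at h1
      calc subgroupConjRight g (S : Subgroup G)
          = subgroupConjRight g (subgroupConjRight g⁻¹ (S : Subgroup G)) := by rw [h1]
        _ = S := hgg
    · simp
  · have hAT : ∀ a ∈ A, a ∈ ((g • S : Sylow p G) : Subgroup G) := by
      intro a ha
      rw [coe_smul_sylow, mem_scr, inv_inv]
      apply hAg
      rw [mem_cR]
      have : g * (g⁻¹ * a * g) * g⁻¹ = a := by group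
      rw [this]; exact ha
    have hne' : (S : Subgroup G) ⊓ ((g • S : Sylow p G) : Subgroup G) ≠ ⊥ := by
      obtain ⟨a, haA, ha1⟩ := hne
      intro hbot
      have : a ∈ (S : Subgroup G) ⊓ ((g • S : Sylow p G) : Subgroup G) :=
        Subgroup.mem_inf.mpr ⟨hAS haA, hAT a haA⟩
      rw [hbot] at this
      exact ha1 (Subgroup.mem_bot.mp this)
    obtain ⟨n, c, X, x, hc0, hcn, hstep⟩ := hC S (g • S) (Ne.symm hT) hne'
    have hcw : ∀ k (hk : k < n + 1),
        subgroupConjRight (wseq x k) (c ⟨k, hk⟩ : Subgroup G) = (S : Subgroup G) := by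
      intro k
      induction k with
      | zero =>
        intro hk
        have e0 : (⟨0, hk⟩ : Fin (n + 1)) = 0 := by apply Fin.ext; simp
        rw [wseq_zero, scr_one, e0, hc0]
      | succ k ih =>
        intro hk
        have hk' : k < n := Nat.lt_of_succ_lt_succ hk
        have hs := (hstep ⟨k, hk'⟩).2.2.2.1
        have e1 : (⟨k, hk'⟩ : Fin n).succ = ⟨k + 1, hk⟩ := rfl
        have e2 : (⟨k, hk'⟩ : Fin n).castSucc = ⟨k, Nat.lt_succ_of_lt hk'⟩ := rfl
        rw [e1, e2] at hs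
        rw [wseq_succ x k hk', scr_mul, hs]
        exact ih _
    obtain ⟨y, hy⟩ : ∃ y : Fin n → G, ∀ i, y i = (wseq x i.val)⁻¹ * x i * wseq x i.val :=
      ⟨_, fun _ => rfl⟩
    obtain ⟨Y, hY⟩ : ∃ Y : Fin n → Subgroup G, ∀ i, Y i = subgroupConjRight (wseq x i.val) (X i) :=
      ⟨_, fun _ => rfl⟩
    have hprod : ∀ k, k ≤ n → ((List.ofFn y).take k).prod = wseq x k := by
      intro k
      induction k with
      | zero => intro _; simp [wseq_zero]
      | succ k ih =>
        intro hk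
        have hk' : k < n := hk
        rw [take_succ_prod y k hk', ih (Nat.le_of_lt hk'), wseq_succ x k hk', hy]
        show wseq x k * ((wseq x k)⁻¹ * x ⟨k, hk'⟩ * wseq x k) = x ⟨k, hk'⟩ * wseq x k
        group
    have hwn : (List.ofFn y).prod = wseq x n := by
      rw [← hprod n le_rfl, List.take_of_length_le (by rw [List.length_ofFn])]
    have hcn' : subgroupConjRight (wseq x n)⁻¹ (S : Subgroup G) =
        ((g • S : Sylow p G) : Subgroup G) := by
      have h1 := hcw n (Nat.lt_succ_self n)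
      have eL : (⟨n, Nat.lt_succ_self n⟩ : Fin (n + 1)) = Fin.last n := rfl
      rw [eL, hcn] at h1
      rw [← h1, ← scr_mul, mul_inv_cancel, scr_one]
    refine ⟨n, Y, y, (wseq x n)⁻¹ * g, ?_, ?_, ?_, ?_⟩
    · apply mem_normalizer_of_scr_eq
      rw [scr_mul, hcn', coe_smul_sylow, hgg]
    · intro i
      constructor
      · rw [hY i]
        have h1 := SM_conj 𝓕 h𝓕 (wseq x i.val) (hstep i).1
        have e2 : i.castSucc = ⟨i.val, Nat.lt_succ_of_lt i.2⟩ := rfl
        rw [e2, hcw i.val (Nat.lt_succ_of_lt i.2)] at h1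
        exact h1
      · rw [hY i, hy i, mem_scr]
        have : wseq x i.val * ((wseq x i.val)⁻¹ * x i * wseq x i.val) * (wseq x i.val)⁻¹ = x i := by
          group
        rw [this]
        exact (hstep i).2.2.1
    · rw [hwn, mul_inv_cancel_left]
    · intro i z hz
      rw [hprod (i.val + 1) (Nat.succ_le_of_lt i.2), mem_cR] at hz
      have hws : wseq x (i.val + 1) = x i * wseq x i.val := wseq_succ x i.val i.2
      obtain ⟨h1, h2⟩ := Subgroup.mem_inf.mp
        ((hstep i).2.2.2.2 (Subgroup.mem_inf.mpr ⟨hAS hz, hAT _ hz⟩))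
      refine ⟨?_, ?_⟩
      · have e1 : i.succ = ⟨i.val + 1, Nat.succ_lt_succ i.2⟩ := by apply Fin.ext; simp
        rw [e1] at h1
        have hzS : z ∈ subgroupConjRight (wseq x (i.val + 1))
            (c ⟨i.val + 1, Nat.succ_lt_succ i.2⟩ : Subgroup G) := mem_scr.mpr h1
        rw [hcw (i.val + 1) (Nat.succ_lt_succ i.2)] at hzS
        exact hzS
      · have hzY : z ∈ Y i := by
          rw [hY i, mem_scr]
          have hxi := (hstep i).2.2.1
          have : wseq x i.val * z * (wseq x i.val)⁻¹ =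
              (x i)⁻¹ * (wseq x (i.val + 1) * z * (wseq x (i.val + 1))⁻¹) * x i := by
            rw [hws]; group
          rw [this]
          exact (X i).mul_mem ((X i).mul_mem ((X i).inv_mem hxi) h2) hxi
        exact hzY

theorem backward [Finite G] {p : ℕ} [Fact p.Prime] (𝓕 : Set (Subgroup G)) (h𝓕 : IsNormalSet 𝓕)
    (hF : FamilyStronglyControlsFusion p 𝓕) : ControlsSylowIntersections p 𝓕 := by
  intro S T hST hne
  obtain ⟨g, hg⟩ := MulAction.exists_smul_eq G S T
  have hTcoe : (T : Subgroup G) = subgroupConjRight g⁻¹ (S : Subgroup G) := by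
    rw [← hg, coe_smul_sylow]
  have hAg : conjRight g ((S : Set G) ∩ (T : Set G)) ⊆ (S : Set G) := by
    intro z hz
    rw [mem_cR] at hz
    have h2 : g * z * g⁻¹ ∈ (T : Subgroup G) := hz.2
    rw [hTcoe, mem_scr, inv_inv] at h2
    have : g⁻¹ * (g * z * g⁻¹) * g = z := by group
    rw [this] at h2
    exact h2
  have hne' : ∃ a ∈ (S : Set G) ∩ (T : Set G), a ≠ 1 := by
    by_contra hcon
    push Not at hcon
    apply hne
    rw [eq_bot_iff]
    intro a ha
    obtain ⟨ha1, ha2⟩ := Subgroup.mem_inf.mp ha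
    exact Subgroup.mem_bot.mpr (hcon a ⟨ha1, ha2⟩)
  obtain ⟨n, Y, y, y₀, hy₀, hY, hgprod, htake⟩ :=
    hF S ((S : Set G) ∩ (T : Set G)) g Set.inter_subset_left hne' hAg
  obtain ⟨w, hw⟩ : ∃ w : ℕ → G, ∀ k, w k = ((List.ofFn y).take k).prod := ⟨_, fun _ => rfl⟩
  have hw0 : w 0 = 1 := by rw [hw]; simp
  have hwsucc : ∀ i : Fin n, w (i.val + 1) = w i.val * y i := by
    intro i
    rw [hw, hw, take_succ_prod y i.val i.2]
  have hwn : w n = g * y₀⁻¹ := by
    rw [hw, List.take_of_length_le (by rw [List.length_ofFn])]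
    have : (List.ofFn y).prod * y₀ * y₀⁻¹ = g * y₀⁻¹ := by rw [← hgprod]
    rw [← this, mul_inv_cancel_right]
  have hXalt : ∀ i : Fin n, subgroupConjRight (w i.val)⁻¹ (Y i) =
      subgroupConjRight (w (i.val + 1))⁻¹ (Y i) := by
    intro i
    rw [hwsucc i, mul_inv_rev, scr_mul, scr_self ((Y i).inv_mem (hY i).2)]
  refine ⟨n, fun i => w i.val • S, fun i => subgroupConjRight (w i.val)⁻¹ (Y i),
    fun i => w i.val * y i * (w i.val)⁻¹, ?_, ?_, ?_⟩
  · show w ((0 : Fin (n + 1)).val) • S = S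
    rw [Fin.val_zero, hw0, one_smul]
  · show w ((Fin.last n).val) • S = T
    rw [Fin.val_last, hwn, mul_smul,
      (Sylow.smul_eq_iff_mem_normalizer (g := y₀⁻¹) (P := S)).mpr (inv_mem hy₀), hg]
  · intro i
    refine ⟨?_, ?_, ?_, ?_, ?_⟩
    · show subgroupConjRight (w i.val)⁻¹ (Y i) ∈
        sylowMembers p 𝓕 ((w (i.castSucc).val • S : Sylow p G) : Subgroup G)
      rw [Fin.val_castSucc, coe_smul_sylow]
      exact SM_conj 𝓕 h𝓕 (w i.val)⁻¹ (hY i).1
    · show subgroupConjRight (w i.val)⁻¹ (Y i) ∈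
        sylowMembers p 𝓕 ((w (i.succ).val • S : Sylow p G) : Subgroup G)
      rw [Fin.val_succ, coe_smul_sylow, hXalt i]
      exact SM_conj 𝓕 h𝓕 (w (i.val + 1))⁻¹ (hY i).1
    · show w i.val * y i * (w i.val)⁻¹ ∈ subgroupConjRight (w i.val)⁻¹ (Y i)
      rw [mem_scr, inv_inv]
      have : (w i.val)⁻¹ * (w i.val * y i * (w i.val)⁻¹) * w i.val = y i := by group
      rw [this]
      exact (hY i).2
    · show subgroupConjRight (w i.val * y i * (w i.val)⁻¹)
          ((w (i.succ).val • S : Sylow p G) : Subgroup G) =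
        ((w (i.castSucc).val • S : Sylow p G) : Subgroup G)
      rw [Fin.val_succ, Fin.val_castSucc, coe_smul_sylow, coe_smul_sylow, ← scr_mul, hwsucc i]
      congr 1
      group
    · show (S : Subgroup G) ⊓ (T : Subgroup G) ≤
        ((w (i.succ).val • S : Sylow p G) : Subgroup G) ⊓ subgroupConjRight (w i.val)⁻¹ (Y i)
      intro a ha
      rw [Fin.val_succ, coe_smul_sylow, hXalt i]
      obtain ⟨haS, haT⟩ := Subgroup.mem_inf.mp ha
      have hz := htake i
      rw [← hw (i.val + 1)] at hz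
      have hid : w (i.val + 1) * ((w (i.val + 1))⁻¹ * a * w (i.val + 1)) * (w (i.val + 1))⁻¹ = a := by
        group
      have hz' := hz (mem_cR.mpr (by rw [hid]; exact ⟨haS, haT⟩))
      refine Subgroup.mem_inf.mpr ⟨mem_scr.mpr ?_, mem_scr.mpr ?_⟩
      · rw [inv_inv]; exact hz'.1
      · rw [inv_inv]; exact hz'.2

end

/-- Let p be a prime dividing the order of the finite group G and 𝓕 a family of subgroups of G closed under conjugation, with conjugates taken as X^g = g⁻¹Xg. Then 𝓕 controls Sylow p-intersections in G (any two distinct Sylow p-subgroups S and T with S ∩ T ≠ 1 are joined by a chain S = S₀, S₁, …, Sₙ = T of Sylow p-subgroups where, for each i, some member Xᵢ of 𝓕 meets both S_{i-1} and Sᵢ in Sylow p-subgroups of Xᵢ, satisfies S ∩ T ≤ Sᵢ ∩ Xᵢ, and contains an element xᵢ with Sᵢ^{xᵢ} = S_{i-1}) if and only if 𝓕 strongly controls p-fusion in G (whenever A is a subset of a Sylow p-subgroup S, A contains an element other than 1, and A^g ⊆ S, the element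 g factorises as g = y₁⋯yₙy with y ∈ N_G(S) and each yᵢ in a member Yᵢ of 𝓕 that meets S in a Sylow p-subgroup of Yᵢ, with A^{y₁⋯yᵢ} ⊆ S ∩ Yᵢ for each i). -/
theorem result {G : Type*} [Group G] [Finite G] {p : ℕ} [Fact p.Prime] (hdiv : p ∣ Nat.card G) (𝓕 : Set (Subgroup G)) (h𝓕 : Cfsg.IsNormalSet 𝓕) : Cfsg.ControlsSylowIntersections p 𝓕 ↔ Cfsg.FamilyStronglyControlsFusion p 𝓕 := by
  exact ⟨forward 𝓕 h𝓕, backward 𝓕 h𝓕⟩

end Cfsg.Agent.S2939
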