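import Cfsg.Statements.S2940
import Cfsg.Agent.Lib.Helper5.SPE

set_option autoImplicit false
open Cfsg

namespace Cfsg.Agent.S2940

theorem result {G : Type*} [Group G] [Finite G] {p : ℕ} [Fact p.Prime] (S : Sylow p G) (G₁ G₂ : Subgroup G) (h1 : (S : Subgroup G) ≤ G₁) (h2 : (S : Subgroup G) ≤ G₂) (hfact : ∀ g : G, ∃ g₁ ∈ G₁, ∃ g₂ ∈ G₂, g = g₁ * g₂) (g : G) : ∃ U : Sylow p G, (S : Subgroup G) ⊓ Cfsg.subgroupConjRight g (S : Subgroup G) ≤ (U : Subgroup G) ∧ (U : Subgroup G) ≤ G₁ ⊓ Cfsg.subgroupConjRight g G₂ := by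
  obtain ⟨h₁, hh₁, h₂, hh₂, hg⟩ := hfact g⁻¹
  set D : Subgroup G := G₁ ⊓ Cfsg.subgroupConjRight g G₂ with hD
  have hStop : Cfsg.Agent.Lib.Helper5.IsMaxPIn p ⊤ (S : Subgroup G) :=
    (Cfsg.Agent.Lib.Helper5.isMaxPIn_top_iff _).mpr ⟨S, rfl⟩
  have hS₁top := hStop.map_conj h₁
  rw [← MonoidHom.range_eq_map, MonoidHom.range_eq_top.mpr (MulAut.conj h₁).surjective] at hS₁top
  have hS₁D : (S : Subgroup G).map (MulAut.conj h₁).toMonoidHom ≤ D := by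
    rintro _ ⟨s, hs, rfl⟩
    simp only [MulEquiv.coe_toMonoidHom, MulAut.conj_apply]
    refine Subgroup.mem_inf.mpr ⟨?_, ?_⟩
    · exact G₁.mul_mem (G₁.mul_mem hh₁ (h1 hs)) (G₁.inv_mem hh₁)
    · unfold Cfsg.subgroupConjRight
      rw [Cfsg.Agent.Lib.Helper5.mem_map_conj_iff, hg]
      have : (h₁ * h₂)⁻¹ * (h₁ * s * h₁⁻¹) * (h₁ * h₂) = h₂⁻¹ * s * h₂ := by group
      rw [this]
      exact G₂.mul_mem (G₂.mul_mem (G₂.inv_mem hh₂) (h2 hs)) hh₂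
  have hS₁ := hS₁top.of_le le_top hS₁D
  have hI : (S : Subgroup G) ⊓ Cfsg.subgroupConjRight g (S : Subgroup G) ≤ D := by
    refine inf_le_inf h1 ?_
    unfold Cfsg.subgroupConjRight
    exact Subgroup.map_mono h2
  obtain ⟨U', hU', hIU'⟩ := Cfsg.Agent.Lib.Helper5.exists_isMaxPIn_ge D _ (S.isPGroup'.to_inf_left) hI
  obtain ⟨d, hd, hdU⟩ := hS₁.conj hU'
  rw [Cfsg.Agent.Lib.Helper5.map_conj_conj] at hdU
  refine ⟨(d * h₁) • S, ?_, ?_⟩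
  · rw [Cfsg.Agent.Lib.Helper5.sylow_smul_coe, hdU]
    exact hIU'
  · rw [Cfsg.Agent.Lib.Helper5.sylow_smul_coe, hdU]
    exact hU'.1

end Cfsg.Agent.S2940
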