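import Cfsg.Statements.S2941
import Mathlib

set_option autoImplicit false
open Cfsg

namespace Cfsg.Agent.S2941


open scoped commutatorElement in
theorem jcomp_norm {G : Type*} [Group G] [Finite G] (K J Q : Subgroup G)
    (hJ2 : IsPGroup 2 ↥J)
    (hgen : Subgroup.closure {g : G | g ∈ K ∧ Odd (orderOf g)} = K)
    (hKJ : ⁅K, J⁆ = K)
    (hQ1 : K ⊔ J ≤ Subgroup.normalizer (Q : Set G))
    (hQ2 : Q ≤ Subgroup.normalizer (J : Set G)) :
    Q ≤ Subgroup.normalizer (K : Set G) := by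
  -- Step 1: J normalizes K
  have hJK : ∀ a ∈ J, ∀ k ∈ K, a * k * a⁻¹ ∈ K := by
    intro a ha
    have h : ⁅K, J⁆ ≤ (⁅K, J⁆).comap (MulAut.conj a).toMonoidHom := by
      rw [Subgroup.commutator_le]
      intro k hk b hb
      rw [Subgroup.mem_comap]
      have e : (MulAut.conj a).toMonoidHom ⁅k, b⁆ = ⁅k, a⁆⁻¹ * ⁅k, a * b⁆ := by
        simp only [MulEquiv.coe_toMonoidHom, MulAut.conj_apply, commutatorElement_def]
        group
      rw [e]
      exact mul_mem (inv_mem (Subgroup.commutator_mem_commutator hk ha))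
        (Subgroup.commutator_mem_commutator hk (mul_mem ha hb))
    rw [hKJ] at h
    intro k hk
    have := h hk
    rw [Subgroup.mem_comap] at this
    simpa [MulAut.conj_apply] using this
  have hJN : J ≤ Subgroup.normalizer (K : Set G) := by
    intro a ha
    rw [Subgroup.mem_normalizer_iff]
    intro h
    constructor
    · exact hJK a ha h
    · intro h'
      have := hJK a⁻¹ (inv_mem ha) _ h'
      have e : a⁻¹ * (a * h * a⁻¹) * a⁻¹⁻¹ = h := by group
      rw [e] at this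
      exact this
  have hXN : K ⊔ J ≤ Subgroup.normalizer (K : Set G) := sup_le Subgroup.le_normalizer hJN
  -- Step 2: X is generated by X-conjugates of J, each normalized by Q
  have hXcl : K ⊔ J ≤ Subgroup.closure {g : G | ∃ x ∈ K ⊔ J, ∃ b ∈ J, g = x * b * x⁻¹} := by
    apply sup_le
    · rw [← hKJ, Subgroup.commutator_le]
      intro k hk b hb
      have e : ⁅k, b⁆ = (k * b * k⁻¹) * (1 * b⁻¹ * 1⁻¹) := by
        rw [commutatorElement_def]; group
      rw [e]
      refine mul_mem (Subgroup.subset_closure ⟨k, ?_, b, hb, rfl⟩)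
        (Subgroup.subset_closure ⟨1, one_mem _, b⁻¹, inv_mem hb, rfl⟩)
      rw [hKJ]
      exact Subgroup.mem_sup_left hk
    · intro b hb
      refine Subgroup.subset_closure ⟨1, one_mem _, b, hb, ?_⟩
      group
  have hQX : ∀ q ∈ Q, ∀ y ∈ K ⊔ J, q * y * q⁻¹ ∈ K ⊔ J := by
    intro q hq y hy
    have h : Subgroup.closure {g : G | ∃ x ∈ K ⊔ J, ∃ b ∈ J, g = x * b * x⁻¹}
        ≤ (K ⊔ J).comap (MulAut.conj q).toMonoidHom := by
      rw [Subgroup.closure_le]
      rintro g ⟨x, hx, b, hb, rfl⟩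
      show (MulAut.conj q).toMonoidHom (x * b * x⁻¹) ∈ K ⊔ J
      have hq' : x⁻¹ * q * x⁻¹⁻¹ ∈ Q :=
        (Subgroup.mem_normalizer_iff.mp (hQ1 (inv_mem hx)) q).mp hq
      have hb' : (x⁻¹ * q * x⁻¹⁻¹) * b * (x⁻¹ * q * x⁻¹⁻¹)⁻¹ ∈ J :=
        (Subgroup.mem_normalizer_iff.mp (hQ2 hq') b).mp hb
      have e : (MulAut.conj q).toMonoidHom (x * b * x⁻¹)
          = x * ((x⁻¹ * q * x⁻¹⁻¹) * b * (x⁻¹ * q * x⁻¹⁻¹)⁻¹) * x⁻¹ := by
        simp only [MulEquiv.coe_toMonoidHom, MulAut.conj_apply]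
        group
      rw [e]
      exact mul_mem (mul_mem hx (Subgroup.mem_sup_right hb')) (inv_mem hx)
    have := h (hXcl hy)
    rw [Subgroup.mem_comap] at this
    simpa [MulAut.conj_apply] using this
  -- Step 3: odd-order elements of X lie in K
  have hNn : (K.subgroupOf (K ⊔ J)).Normal :=
    (Subgroup.normal_subgroupOf_iff_le_normalizer le_sup_left).mpr hXN
  have hsurj : Function.Surjective
      ((QuotientGroup.mk' (K.subgroupOf (K ⊔ J))).comp
        (Subgroup.inclusion (le_sup_right : J ≤ K ⊔ J))) := by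
    rw [← MonoidHom.range_eq_top]
    have h1 : K.subgroupOf (K ⊔ J) ⊔ J.subgroupOf (K ⊔ J) ≤
        (((QuotientGroup.mk' (K.subgroupOf (K ⊔ J))).comp
        (Subgroup.inclusion (le_sup_right : J ≤ K ⊔ J))).range).comap
          (QuotientGroup.mk' (K.subgroupOf (K ⊔ J))) := by
      apply sup_le
      · intro n hn
        rw [Subgroup.mem_comap]
        have : (QuotientGroup.mk' (K.subgroupOf (K ⊔ J))) n = 1 :=
          (QuotientGroup.eq_one_iff n).mpr hn
        rw [this]
        exact one_mem _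
      · intro j hj
        rw [Subgroup.mem_comap]
        refine ⟨⟨j.1, Subgroup.mem_subgroupOf.mp hj⟩, ?_⟩
        show (QuotientGroup.mk' (K.subgroupOf (K ⊔ J)))
          (Subgroup.inclusion (le_sup_right : J ≤ K ⊔ J) ⟨j.1, _⟩) = _
        exact congrArg _ (Subtype.ext (Subgroup.coe_inclusion _ _))
    rw [codisjoint_iff.mp (Subgroup.codisjoint_subgroupOf_sup K J)] at h1
    rw [eq_top_iff]
    intro z _
    obtain ⟨y, rfl⟩ := QuotientGroup.mk'_surjective _ z
    exact h1 (Subgroup.mem_top y)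
  have hP : IsPGroup 2 (↥(K ⊔ J) ⧸ K.subgroupOf (K ⊔ J)) := hJ2.of_surjective _ hsurj
  have hodd : ∀ y ∈ K ⊔ J, Odd (orderOf y) → y ∈ K := by
    intro y hy hyo
    obtain ⟨m, hm⟩ := hP ((QuotientGroup.mk' (K.subgroupOf (K ⊔ J))) ⟨y, hy⟩)
    have h1 : orderOf ((QuotientGroup.mk' (K.subgroupOf (K ⊔ J))) ⟨y, hy⟩) ∣ 2 ^ m :=
      orderOf_dvd_of_pow_eq_one hm
    have h2 : orderOf ((QuotientGroup.mk' (K.subgroupOf (K ⊔ J))) ⟨y, hy⟩) ∣ orderOf y := by
      apply orderOf_dvd_of_pow_eq_one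
      rw [← map_pow]
      have : (⟨y, hy⟩ : ↥(K ⊔ J)) ^ orderOf y = 1 := by
        apply Subtype.ext
        simp [pow_orderOf_eq_one]
      rw [this, map_one]
    have hcop : Nat.Coprime (2 ^ m) (orderOf y) :=
      (Nat.coprime_two_left.mpr hyo).pow_left m
    have h3 := Nat.dvd_gcd h1 h2
    rw [hcop.gcd_eq_one] at h3
    have h4 : (QuotientGroup.mk' (K.subgroupOf (K ⊔ J))) ⟨y, hy⟩ = 1 :=
      orderOf_eq_one_iff.mp (Nat.dvd_one.mp h3)
    have h5 : (⟨y, hy⟩ : ↥(K ⊔ J)) ∈ K.subgroupOf (K ⊔ J) :=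
      (QuotientGroup.eq_one_iff _).mp h4
    exact Subgroup.mem_subgroupOf.mp h5
  -- Step 4
  have hconj : ∀ q ∈ Q, ∀ k ∈ K, q * k * q⁻¹ ∈ K := by
    intro q hq
    have h : Subgroup.closure {g : G | g ∈ K ∧ Odd (orderOf g)} ≤
        K.comap (MulAut.conj q).toMonoidHom := by
      rw [Subgroup.closure_le]
      rintro g ⟨hgK, hgo⟩
      show (MulAut.conj q).toMonoidHom g ∈ K
      have h1 : (MulAut.conj q).toMonoidHom g ∈ K ⊔ J := by
        have := hQX q hq g (Subgroup.mem_sup_left hgK)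
        simpa [MulAut.conj_apply] using this
      apply hodd _ h1
      rw [orderOf_injective (MulAut.conj q).toMonoidHom (MulAut.conj q).injective g]
      exact hgo
    rw [hgen] at h
    intro k hk
    have := h hk
    rw [Subgroup.mem_comap] at this
    simpa [MulAut.conj_apply] using this
  intro q hq
  rw [Subgroup.mem_normalizer_iff]
  intro h
  constructor
  · exact hconj q hq h
  · intro h'
    have := hconj q⁻¹ (inv_mem hq) _ h'
    have e : q⁻¹ * (q * h * q⁻¹) * q⁻¹⁻¹ = h := by group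
    rw [e] at this
    exact this

/-- Let G be a finite group of characteristic 2 type in which every 2-local subgroup is solvable and the centralizer of Ω₁(Z(S)) lies in N_G(S) for every Sylow 2-subgroup S, and let T be a nontrivial 2-subgroup and K a J(T)-component (J the Thompson subgroup generated by the elementary abelian 2-subgroups of largest order). If a subgroup Q is normalized by ⟨K, J(T)⟩ and normalizes J(T), then Q normalizes K. -/
theorem result {G : Type*} [Group G] [Finite G] (hL : Cfsg.IsCharacteristicTwoType G) (hN : ∀ N : Subgroup G, Cfsg.IsTwoLocal N → Group.IsSolvable ↥N)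
    (hZ : ∀ S : Sylow 2 G, Subgroup.centralizer (Cfsg.omegaCenterOf (S : Subgroup G) : Set G) ≤ Subgroup.normalizer ((S : Subgroup G) : Set G)) (T : Subgroup G) (hT : IsPGroup 2 ↥T) (hT1 : T ≠ ⊥) (K : Subgroup G) (hK : Cfsg.IsJComponent T K)
    (Q : Subgroup G) (hQ1 : K ⊔ Cfsg.thompsonSubgroupOf 2 T ≤ Subgroup.normalizer (Q : Set G)) (hQ2 : Q ≤ Subgroup.normalizer (Cfsg.thompsonSubgroupOf 2 T : Set G)) :
    Q ≤ Subgroup.normalizer (K : Set G) := by
  unfold Cfsg.IsJComponent at hK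
  obtain ⟨hgen, hKJ, -⟩ := hK
  have hJT : Cfsg.thompsonSubgroupOf 2 T ≤ T := by
    unfold Cfsg.thompsonSubgroupOf
    exact Subgroup.map_subtype_le _
  exact jcomp_norm K (Cfsg.thompsonSubgroupOf 2 T) Q (hT.to_le hJT) hgen hKJ hQ1 hQ2

end Cfsg.Agent.S2941
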