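import Cfsg.Statements.S2947
import Cfsg.Agent.Lib.Helper5.SPE
import Cfsg.Agent.Lib.Helper5.PCore

set_option autoImplicit false
open Cfsg

namespace Cfsg.Agent.S2947

theorem result {G : Type*} [Group G] [Finite G] (hL : Cfsg.IsCharacteristicTwoType G) (hN : ∀ N : Subgroup G, Cfsg.IsTwoLocal N → Group.IsSolvable ↥N)
    (hZ : ∀ S : Sylow 2 G, Subgroup.centralizer (Cfsg.omegaCenterOf (S : Subgroup G) : Set G) ≤ Subgroup.normalizer ((S : Subgroup G) : Set G)) (hO : Cfsg.pCore 2 G = ⊥) (S : Sylow 2 G) (M : Subgroup G) (hM : Cfsg.IsTwoLocal M)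
    (hMJ : Subgroup.normalizer (Cfsg.thompsonSubgroupOf 2 (S : Subgroup G) : Set G) ≤ M) :
    Cfsg.IsStronglyEmbedded M ↔ Cfsg.straddlingTwoSubgroups M = ∅ := by
  constructor
  · rintro ⟨hMtop, hMeven, hMconj⟩
    have hnc : Cfsg.Agent.Lib.Helper5.NormCond 2 M := by
      apply Cfsg.Agent.Lib.Helper5.normCond_of_inf_conj
      intro g hg hdvd
      have := hMconj g hg
      rw [← Nat.not_even_iff_odd] at this
      exact this (even_iff_two_dvd.mpr hdvd)
    rw [Set.eq_empty_iff_forall_notMem]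
    rintro T ⟨hT2, hT1, hTM, L, ⟨U, hU2, hU1, rfl⟩, hTL, hLM⟩
    apply hLM
    have hTU : IsPGroup 2 (U ⊔ T : Subgroup G) := hU2.to_sup_of_normal_left' hT2 hTL
    have hne : (U ⊔ T) ⊓ M ≠ ⊥ := by
      intro h
      apply hT1
      rw [eq_bot_iff, ← h]
      exact le_inf le_sup_right hTM
    have hUTM := hnc.le_of_pgroup_of_inf_ne_bot _ hTU hne
    exact hnc U (le_sup_left.trans hUTM) hU2 hU1
  · intro hemp
    obtain ⟨U, hU2, hU1, hMU⟩ := hM
    have hUM : U ≤ M := hMU ▸ Subgroup.le_normalizer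
    have hnc : Cfsg.Agent.Lib.Helper5.NormCond 2 M := by
      intro A hAM hA2 hA1
      by_contra hNA
      have : A ∈ Cfsg.straddlingTwoSubgroups M :=
        ⟨hA2, hA1, hAM, _, ⟨A, hA2, hA1, rfl⟩, Subgroup.le_normalizer, hNA⟩
      rw [hemp] at this
      exact this
    have hdvd : 2 ∣ Nat.card M := by
      have h1 : 2 ∣ Nat.card U := by
        rcases hU2.card_eq_or_dvd with h | h
        · exact absurd (Subgroup.card_eq_one.mp h) hU1
        · exact h
      exact h1.trans (Subgroup.card_dvd_of_le hUM)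
    refine ⟨?_, even_iff_two_dvd.mpr hdvd, ?_⟩
    · intro htop
      rw [htop] at hMU
      have hUn : U.Normal := Subgroup.normalizer_eq_top_iff.mp hMU.symm
      have := Cfsg.Agent.Lib.Helper5.le_pCore U hUn hU2
      rw [hO] at this
      exact hU1 (le_bot_iff.mp this)
    · intro g hg
      rw [← Nat.not_even_iff_odd, even_iff_two_dvd]
      intro hd
      exact hg (hnc.mem_of_dvd_card_inf_conj g hd)

end Cfsg.Agent.S2947
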