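import Cfsg.Statements.S2955
import Cfsg.Agent.Lib.Helper5.SylGraph
import Cfsg.Agent.Lib.Helper5.MaxP
import Cfsg.Agent.Lib.Helper5.Basic

set_option autoImplicit false
open Cfsg

namespace Cfsg.Agent.S2955

open Cfsg.Agent.Lib.Helper5

variable {G : Type*} [Group G] {p : ℕ}

theorem mem_sylowMembers_iff (𝓕 : Set (Subgroup G)) (D X : Subgroup G) :
    X ∈ Cfsg.sylowMembers p 𝓕 D ↔ X ∈ 𝓕 ∧ IsMaxPIn p X (D ⊓ X) := by
  constructor
  · rintro ⟨hX, P, hP⟩
    refine ⟨hX, ?_⟩
    rw [← hP]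
    exact isMaxPIn_of_sylow X P
  · rintro ⟨hX, hmax⟩
    exact ⟨hX, hmax.exists_sylow⟩

theorem sylowMembers_conj (𝓕 : Set (Subgroup G)) (h𝓕 : Cfsg.IsNormalSet 𝓕) (D X : Subgroup G) (g : G)
    (hX : X ∈ Cfsg.sylowMembers p 𝓕 D) :
    X.map (MulAut.conj g).toMonoidHom ∈
      Cfsg.sylowMembers p 𝓕 (D.map (MulAut.conj g).toMonoidHom) := by
  rw [mem_sylowMembers_iff] at hX ⊢
  obtain ⟨hXF, hmax⟩ := hX
  refine ⟨?_, ?_⟩
  · have := h𝓕 X hXF g⁻¹
    unfold Cfsg.subgroupConjRight at this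
    rwa [inv_inv] at this
  · have := hmax.map_conj g
    rwa [Subgroup.map_inf _ _ _ (MulAut.conj g).injective] at this


theorem result {G : Type*} [Group G] [Finite G] (p : ℕ) [Fact p.Prime] (hdiv : p ∣ Nat.card G)
    (𝓕 : Set (Subgroup G)) (h𝓕 : Cfsg.IsNormalSet 𝓕) (hc : Cfsg.ControlsSylowIntersections p 𝓕)
    (hconn : Cfsg.IsSylowChainConnected p G) (S : Sylow p G) :
    (⨆ X ∈ Cfsg.sylowMembers p 𝓕 (S : Subgroup G), X) ⊔ Subgroup.normalizer ((S : Subgroup G) : Set G) = ⊤ := by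
  classical
  set H : Subgroup G := (⨆ X ∈ Cfsg.sylowMembers p 𝓕 (S : Subgroup G), X) ⊔
    Subgroup.normalizer ((S : Subgroup G) : Set G) with hH
  have hreach := (isSylowChainConnected_iff.mp hconn) S
  have step : ∀ (D D' : Sylow p G) (X : Subgroup G) (x : G), (∃ k ∈ H, D = k • S) →
      X ∈ Cfsg.sylowMembers p 𝓕 (D : Subgroup G) → x ∈ X →
      Cfsg.subgroupConjRight x (D' : Subgroup G) = (D : Subgroup G) → ∃ k ∈ H, D' = k • S := by
    rintro D D' X x ⟨k, hk, rfl⟩ hX hx hconj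
    rw [sylow_smul_coe] at hX hconj
    have h1 := sylowMembers_conj 𝓕 h𝓕 _ X k⁻¹ hX
    rw [map_conj_inv_conj] at h1
    have h2 : k⁻¹ * x * k ∈ X.map (MulAut.conj k⁻¹).toMonoidHom := by
      rw [mem_map_conj_iff]
      simpa [mul_assoc] using hx
    have h3 : k⁻¹ * x * k ∈ H := by
      apply le_sup_left (b := Subgroup.normalizer ((S : Subgroup G) : Set G))
      exact (le_iSup₂ (f := fun (X : Subgroup G)
        (_ : X ∈ Cfsg.sylowMembers p 𝓕 (S : Subgroup G)) => X) _ h1) h2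
    refine ⟨x * k, ?_, ?_⟩
    · have : x * k = k * (k⁻¹ * x * k) := by group
      rw [this]
      exact H.mul_mem hk h3
    · apply Sylow.ext
      rw [sylow_smul_coe]
      unfold Cfsg.subgroupConjRight at hconj
      have h4 := congrArg (fun K : Subgroup G => K.map (MulAut.conj x).toMonoidHom) hconj
      simp only [map_conj_conj_inv] at h4
      rw [h4, Subgroup.map_map]
      congr 1
      ext y
      simp [mul_assoc]
  have hgood : ∀ T : Sylow p G, SReach S T → ∃ h ∈ H, T = h • S := by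
    intro T hT
    unfold SReach at hT
    induction hT with
    | refl => exact ⟨1, H.one_mem, by rw [one_smul]⟩
    | @tail P Q _ hbc ih =>
      obtain ⟨n, c, X, x, hc0, hcl, hci⟩ := hc P Q hbc.1 hbc.2
      have hall : ∀ i : Fin (n + 1), ∃ k ∈ H, c i = k • S := by
        intro i
        induction i using Fin.induction with
        | zero => rw [hc0]; exact ih
        | succ i ihi =>
          obtain ⟨hX1, -, hx, hconj, -⟩ := hci i
          exact step (c i.castSucc) (c i.succ) (X i) (x i) ihi hX1 hx hconj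
      rw [← hcl]
      exact hall (Fin.last n)
  rw [eq_top_iff]
  intro g _
  obtain ⟨h, hh, hT⟩ := hgood (g • S) (hreach _)
  have h1 : (h⁻¹ * g) • S = S := by
    rw [mul_smul, hT, smul_smul, inv_mul_cancel, one_smul]
  have h2 : h⁻¹ * g ∈ Subgroup.normalizer ((S : Subgroup G) : Set G) :=
    Sylow.smul_eq_iff_mem_normalizer.mp h1
  have h3 : g = h * (h⁻¹ * g) := by group
  rw [h3]
  exact H.mul_mem hh (le_sup_right (a := ⨆ X ∈ Cfsg.sylowMembers p 𝓕 (S : Subgroup G), X) h2)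

end Cfsg.Agent.S2955
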