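import Cfsg.Statements.S2958

set_option autoImplicit false
open Cfsg

namespace Cfsg.Agent.S2958

theorem map_conj_mul {G : Type*} [Group G] (H : Subgroup G) (a b : G) :
    (H.map (MulAut.conj b).toMonoidHom).map (MulAut.conj a).toMonoidHom =
      H.map (MulAut.conj (a * b)).toMonoidHom := by
  rw [Subgroup.map_map]
  congr 1
  ext x
  simp [mul_assoc]

theorem mem_normalizer_of_map_le {G : Type*} [Group G] (N : Subgroup G) (x : G)
    (h1 : N.map (MulAut.conj x).toMonoidHom ≤ N) (h2 : N.map (MulAut.conj x⁻¹).toMonoidHom ≤ N) :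
    x ∈ Subgroup.normalizer (N : Set G) := by
  rw [Subgroup.mem_normalizer_iff]
  intro n
  constructor
  · intro hn
    exact h1 ⟨n, hn, by simp⟩
  · intro hn
    have := h2 ⟨_, hn, rfl⟩
    simpa [mul_assoc] using this


theorem result {G : Type*} [Group G] (X A B : Subgroup G) (hgen : (⨆ g : G, X.map (MulAut.conj g).toMonoidHom) = ⊤) (hcover : ∀ g : G, X.map (MulAut.conj g).toMonoidHom ≤ A ∨ X.map (MulAut.conj g).toMonoidHom ≤ B) : A = ⊤ ∨ B = ⊤ := by
  by_cases hall : ∀ g : G, X.map (MulAut.conj g).toMonoidHom ≤ A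
  · left
    rw [eq_top_iff, ← hgen]
    exact iSup_le hall
  · right
    obtain ⟨g₀, hg₀⟩ := not_forall.mp hall
    set N : Subgroup G := ⨆ g : {g : G // ¬ X.map (MulAut.conj g).toMonoidHom ≤ A},
      X.map (MulAut.conj g.1).toMonoidHom with hN
    have hNB : N ≤ B := by
      apply iSup_le
      rintro ⟨g, hg⟩
      rcases hcover g with h | h
      · exact absurd h hg
      · exact h
    have hle : ∀ g : G, ¬ X.map (MulAut.conj g).toMonoidHom ≤ A →
        X.map (MulAut.conj g).toMonoidHom ≤ N := by
      intro g hg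
      exact le_iSup (fun g : {g : G // ¬ X.map (MulAut.conj g).toMonoidHom ≤ A} =>
        X.map (MulAut.conj g.1).toMonoidHom) ⟨g, hg⟩
    have hA1 : ∀ x ∈ A, N.map (MulAut.conj x).toMonoidHom ≤ N := by
      intro x hx
      rw [hN, Subgroup.map_iSup]
      apply iSup_le
      rintro ⟨g, hg⟩
      rw [map_conj_mul]
      apply hle
      intro hcon
      apply hg
      have h3 : (X.map (MulAut.conj (x * g)).toMonoidHom).map (MulAut.conj x⁻¹).toMonoidHom ≤
          A.map (MulAut.conj x⁻¹).toMonoidHom := Subgroup.map_mono hcon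
      rw [map_conj_mul] at h3
      have h4 : A.map (MulAut.conj x⁻¹).toMonoidHom ≤ A := by
        rintro _ ⟨a, ha, rfl⟩
        simp only [MulEquiv.coe_toMonoidHom, MulAut.conj_apply]
        exact A.mul_mem (A.mul_mem (A.inv_mem hx) ha) (by simpa using hx)
      have h5 : x⁻¹ * (x * g) = g := by group
      rw [h5] at h3
      exact h3.trans h4
    have hAN : A ≤ Subgroup.normalizer (N : Set G) := by
      intro x hx
      exact mem_normalizer_of_map_le N x (hA1 x hx) (hA1 x⁻¹ (A.inv_mem hx))
    have hnorm : Subgroup.normalizer (N : Set G) = ⊤ := by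
      rw [eq_top_iff, ← hgen]
      apply iSup_le
      intro g
      by_cases hg : X.map (MulAut.conj g).toMonoidHom ≤ A
      · exact hg.trans hAN
      · exact (hle g hg).trans Subgroup.le_normalizer
    have hNn : N.Normal := Subgroup.normalizer_eq_top_iff.mp hnorm
    rw [eq_top_iff]
    refine le_trans ?_ hNB
    rw [← hgen]
    apply iSup_le
    intro g
    have h6 : X.map (MulAut.conj g).toMonoidHom =
        (X.map (MulAut.conj g₀).toMonoidHom).map (MulAut.conj (g * g₀⁻¹)).toMonoidHom := by
      rw [map_conj_mul]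
      congr 3
      group
    rw [h6]
    rintro _ ⟨n, hn, rfl⟩
    simp only [MulEquiv.coe_toMonoidHom, MulAut.conj_apply]
    exact hNn.conj_mem n (hle g₀ hg₀ hn) _

end Cfsg.Agent.S2958
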