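import Cfsg.Statements.S2960
import Cfsg.Agent.Lib.Helper5.CharP
import Cfsg.Agent.Lib.Helper5.Basic

set_option autoImplicit false
open Cfsg

namespace Cfsg.Agent.S2960

theorem result {G : Type*} [Group G] [Finite G] {p : ℕ} [Fact p.Prime] (hG : Subgroup.centralizer (Cfsg.pCore p G : Set G) ≤ Cfsg.pCore p G) (T : Sylow p G) (Q : Subgroup G) (hQT : Q ≤ (T : Subgroup G)) (hQn : (T : Subgroup G) ≤ Subgroup.normalizer (Q : Set G)) (hC : (T : Subgroup G) ⊓ Subgroup.centralizer (Q : Set G) ≤ Q) : Subgroup.centralizer (Q : Set G) ≤ Q := by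
  have hRT : Cfsg.pCore p G ≤ (T : Subgroup G) := Cfsg.Agent.Lib.Helper5.pCore_le_sylow T
  have hQp := Cfsg.Agent.Lib.Helper5.isPGroup_pCore p G
  have hQn' : Cfsg.pCore p G ≤ Subgroup.normalizer (Q : Set G) := hRT.trans hQn
  have hRn := Cfsg.pCore_normal p G
  have hCp : IsPGroup p (Subgroup.centralizer (Q : Set G)) := by
    apply Cfsg.Agent.Lib.Helper5.isPGroup_of_coprime_trivial _ (fun g _ => isOfFinOrder_of_finite g)
    intro x hx _ hxc
    have hcent : ∀ c ∈ Cfsg.pCore p G ⊓ Subgroup.centralizer (Q : Set G), x * c = c * x := by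
      intro c hc
      have hcQ : c ∈ Q := hC ⟨hRT hc.1, hc.2⟩
      rw [Subgroup.mem_centralizer_iff] at hx
      exact (hx c hcQ).symm
    have hstep : ∀ r ∈ Cfsg.pCore p G,
        r⁻¹ * (x * r * x⁻¹) ∈ Cfsg.pCore p G ⊓ Subgroup.centralizer (Q : Set G) := by
      intro r hr
      constructor
      · exact Subgroup.mul_mem _ (Subgroup.inv_mem _ hr) (hRn.conj_mem r hr x)
      · have h3 : r⁻¹ * x * r⁻¹⁻¹ ∈ Subgroup.centralizer (Q : Set G) :=
          Cfsg.Agent.Lib.Helper5.conj_mem_centralizer_of_mem_normalizer Q r⁻¹ x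
            (Subgroup.inv_mem _ (hQn' hr)) hx
        have h4 : r⁻¹ * (x * r * x⁻¹) = (r⁻¹ * x * r⁻¹⁻¹) * x⁻¹ := by group
        rw [h4]
        exact Subgroup.mul_mem _ h3 (Subgroup.inv_mem _ hx)
    have key := Cfsg.Agent.Lib.Helper5.coprime_centralizes_step x hxc (Cfsg.pCore p G)
      (Cfsg.pCore p G ⊓ Subgroup.centralizer (Q : Set G)) hQp.to_inf_left hcent hstep
    have hxC : x ∈ Subgroup.centralizer (Cfsg.pCore p G : Set G) := by
      rw [Subgroup.mem_centralizer_iff]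
      intro r hr
      exact (key r hr).symm
    exact Cfsg.Agent.Lib.Helper5.pelement_coprime_eq_one x hxc
      (Cfsg.Agent.Lib.Helper5.isPGroup_mem_pow _ hQp _ (hG hxC))
  have hTN : (T : Subgroup G) ≤
      Subgroup.normalizer ((Subgroup.centralizer (Q : Set G) : Subgroup G) : Set G) :=
    hQn.trans (Cfsg.Agent.Lib.Helper5.normalizer_le_normalizer_centralizer Q)
  have hCT := Cfsg.Agent.Lib.Helper5.le_sylow_of_normalizedBy T _ hCp hTN
  intro c hc
  exact hC ⟨hCT hc, hc⟩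

end Cfsg.Agent.S2960
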