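import Cfsg.Statements.S2961
import Cfsg.Agent.Lib.Helper5.CharPLocal

set_option autoImplicit false
open Cfsg

namespace Cfsg.Agent.S2961

theorem result {G : Type*} [Group G] [Finite G] {p : ℕ} [Fact p.Prime] (hG : Subgroup.centralizer (Cfsg.pCore p G : Set G) ≤ Cfsg.pCore p G) (T : Sylow p G) (Q : Subgroup G) (hQT : Q ≤ (T : Subgroup G)) (hQn : (T : Subgroup G) ≤ Subgroup.normalizer (Q : Set G)) (hC : (T : Subgroup G) ⊓ Subgroup.centralizer (Q : Set G) ≤ Q) (L : Subgroup G) (hQL : Q ≤ L) : Subgroup.centralizer (Cfsg.pCore p ↥L : Set ↥L) ≤ Cfsg.pCore p ↥L := by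
  have key := Cfsg.Agent.Lib.Helper5.charP_of_le_of_centric hG T Q hQT hQn hC L hQL
  intro x hx
  have hx' : (x : G) ∈ L ⊓ Subgroup.centralizer ((Cfsg.pCoreOf p L : Subgroup G) : Set G) := by
    refine Subgroup.mem_inf.mpr ⟨x.2, ?_⟩
    rw [Subgroup.mem_centralizer_iff]
    rintro _ ⟨d, hd, rfl⟩
    have := (Subgroup.mem_centralizer_iff.mp hx) d hd
    have h2 := congrArg Subtype.val this
    simpa using h2
  obtain ⟨x', hx'1, hx'2⟩ := key hx'
  have : x' = x := Subtype.ext hx'2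
  rw [← this]
  exact hx'1

end Cfsg.Agent.S2961
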