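import Cfsg.Statements.S2963

set_option autoImplicit false
open Cfsg

namespace Cfsg.Agent.S2963

theorem result (n : ℕ) (hn : Odd n) (h : Cfsg.IsPMinimal 2 (Equiv.Perm (Fin n))) : ∃ m : ℕ, n = 2 ^ m + 1 := by
  classical
  haveI : Fact (Nat.Prime 2) := ⟨Nat.prime_two⟩
  obtain ⟨S⟩ : Nonempty (Sylow 2 (Equiv.Perm (Fin n))) := inferInstance
  obtain ⟨hnn, M, ⟨hMco, hSM⟩, hMuniq⟩ := h S
  have hMtop : M ≠ ⊤ := hMco.1
  have hle : ∀ K : Subgroup (Equiv.Perm (Fin n)), (S : Subgroup _) ≤ K → K ≠ ⊤ → K ≤ M := by
    intro K hSK hK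
    obtain ⟨M', hM', hKM'⟩ := (eq_top_or_exists_le_coatom K).resolve_left hK
    rw [← hMuniq M' ⟨hM', hSK.trans hKM'⟩]; exact hKM'
  -- a fixed point
  have h2n : ¬ 2 ∣ Nat.card (Fin n) := by
    rw [Nat.card_fin]
    exact hn.not_two_dvd_nat
  obtain ⟨c, hc⟩ := S.isPGroup'.nonempty_fixed_point_of_prime_not_dvd_card (Fin n) h2n
  have hcfix : ∀ s ∈ (S : Subgroup (Equiv.Perm (Fin n))), s c = c := by
    intro s hs
    exact hc ⟨s, hs⟩
  by_cases hall : ∀ d : Fin n, d = c
  · exfalso
    apply hnn
    haveI : Subsingleton (Fin n) := ⟨fun a b => by rw [hall a, hall b]⟩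
    haveI : Subsingleton (Equiv.Perm (Fin n)) := inferInstance
    constructor
    intro a ha g
    have : g * a * g⁻¹ = a := Subsingleton.elim _ _
    rw [this]; exact ha
  · simp only [not_forall] at hall
    obtain ⟨d, hd⟩ := hall
    set O : Set (Fin n) := MulAction.orbit ↥(S : Subgroup (Equiv.Perm (Fin n))) d with hO
    have hOmem : ∀ x, x ∈ O ↔ ∃ s ∈ (S : Subgroup (Equiv.Perm (Fin n))), s d = x := by
      intro x
      constructor
      · rintro ⟨t, rfl⟩
        exact ⟨t.1, t.2, rfl⟩
      · rintro ⟨s, hs, rfl⟩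
        exact ⟨⟨s, hs⟩, rfl⟩
    have hcO : c ∉ O := by
      rw [hOmem]
      rintro ⟨s, hs, hsd⟩
      apply hd
      have h1 := hcfix s hs
      exact s.injective (by rw [hsd, h1])
    have hdO : d ∈ O := MulAction.mem_orbit_self d
    have hSO : ∀ s ∈ (S : Subgroup (Equiv.Perm (Fin n))), ∀ x, s x ∈ O ↔ x ∈ O := by
      intro s hs x
      rw [hOmem, hOmem]
      constructor
      · rintro ⟨t, ht, htd⟩
        refine ⟨s⁻¹ * t, Subgroup.mul_mem _ (Subgroup.inv_mem _ hs) ht, ?_⟩
        rw [Equiv.Perm.mul_apply, htd]; simp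
      · rintro ⟨t, ht, rfl⟩
        exact ⟨s * t, Subgroup.mul_mem _ hs ht, rfl⟩
    by_cases hB : ∃ e : Fin n, e ≠ c ∧ e ∉ O
    · exfalso
      obtain ⟨e, hec, heO⟩ := hB
      -- the point stabilizer
      have hStab : MulAction.stabilizer (Equiv.Perm (Fin n)) c ≤ M := by
        apply hle
        · intro s hs
          rw [MulAction.mem_stabilizer_iff]
          exact hcfix s hs
        · intro htop
          have h1 : Equiv.swap c d ∈ MulAction.stabilizer (Equiv.Perm (Fin n)) c := by
            rw [htop]; exact Subgroup.mem_top _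
          rw [MulAction.mem_stabilizer_iff, Equiv.Perm.smul_def, Equiv.swap_apply_left] at h1
          exact hd h1
      -- the set stabilizer
      let K : Subgroup (Equiv.Perm (Fin n)) :=
        { carrier := {σ | ∀ x, σ x ∈ O ↔ x ∈ O}
          one_mem' := fun x => by simp
          mul_mem' := by
            intro σ τ hσ hτ x
            rw [Equiv.Perm.mul_apply, hσ, hτ]
          inv_mem' := by
            intro σ hσ x
            rw [← hσ (σ⁻¹ x)]; simp }
      have hKmem : ∀ σ, σ ∈ K ↔ ∀ x, σ x ∈ O ↔ x ∈ O := fun σ => Iff.rfl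
      have hKM : K ≤ M := by
        apply hle
        · intro s hs
          exact hSO s hs
        · intro htop
          have h1 : Equiv.swap d e ∈ K := by rw [htop]; exact Subgroup.mem_top _
          have h2 := (h1 d).mpr hdO
          rw [Equiv.swap_apply_left] at h2
          exact heO h2
      have hτK : Equiv.swap c e ∈ K := by
        intro x
        by_cases hxc : x = c
        · rw [hxc, Equiv.swap_apply_left]
          exact ⟨fun h => absurd h heO, fun h => absurd h hcO⟩
        · by_cases hxe : x = e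
          · rw [hxe, Equiv.swap_apply_right]
            exact ⟨fun h => absurd h hcO, fun h => absurd h heO⟩
          · rw [Equiv.swap_apply_of_ne_of_ne hxc hxe]
      have hτM : Equiv.swap c e ∈ M := hKM hτK
      -- all transpositions through `c` lie in `M`
      have hcx : ∀ x : Fin n, x ≠ c → Equiv.swap c x ∈ M := by
        intro x hxc
        by_cases hxe : x = e
        · rw [hxe]; exact hτM
        · have hσ : Equiv.swap e x ∈ M := by
            apply hStab
            rw [MulAction.mem_stabilizer_iff, Equiv.Perm.smul_def]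
            exact Equiv.swap_apply_of_ne_of_ne (Ne.symm hec) (Ne.symm hxc)
          have h1 := Equiv.swap_apply_apply (Equiv.swap e x) c e
          rw [Equiv.swap_apply_of_ne_of_ne (Ne.symm hec) (Ne.symm hxc), Equiv.swap_apply_left] at h1
          rw [h1]
          exact M.mul_mem (M.mul_mem hσ hτM) (M.inv_mem hσ)
      have hswap : ∀ σ : Equiv.Perm (Fin n), σ.IsSwap → σ ∈ M := by
        rintro σ ⟨x, y, hxy, rfl⟩
        by_cases hxc : x = c
        · rw [hxc]
          exact hcx y (fun h => hxy (by rw [hxc, h]))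
        · by_cases hyc : y = c
          · rw [hyc, Equiv.swap_comm]
            exact hcx x hxc
          · have h1 := Equiv.swap_apply_apply (Equiv.swap c x) c y
            rw [Equiv.swap_apply_left, Equiv.swap_apply_of_ne_of_ne hyc (Ne.symm hxy)] at h1
            rw [h1]
            exact M.mul_mem (M.mul_mem (hcx x hxc) (hcx y hyc)) (M.inv_mem (hcx x hxc))
      apply hMtop
      rw [eq_top_iff, ← Equiv.Perm.closure_isSwap, Subgroup.closure_le]
      intro σ hσ
      exact hswap σ hσ
    · simp only [not_exists, not_and, not_not] at hB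
      have hOeq : O = {c}ᶜ := by
        ext x
        simp only [Set.mem_compl_iff, Set.mem_singleton_iff]
        constructor
        · intro hx hxc
          rw [hxc] at hx; exact hcO hx
        · intro hx
          exact hB x hx
      obtain ⟨m, hm⟩ := S.isPGroup'.card_orbit d
      refine ⟨m, ?_⟩
      have h1 : Nat.card ↥O = n - 1 := by
        rw [Nat.card_coe_set_eq, hOeq, Set.ncard_compl, Set.ncard_singleton, Nat.card_fin]
      have h2 : Nat.card ↥O = 2 ^ m := hm
      have h3 : 1 ≤ n := by
        rcases hn with ⟨k, rfl⟩; omega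
      omega

end Cfsg.Agent.S2963
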