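import Cfsg.Statements.S2968
import Cfsg.Agent.Lib.Helper5.Isolated

set_option autoImplicit false
open Cfsg

namespace Cfsg.Agent.S2968

theorem result {G : Type*} [Group G] [Finite G] {p : ℕ} [Fact p.Prime] (P : Sylow p G) (x : G) (hxP : x ∈ (P : Subgroup G)) (hx : ∃ k : ℕ, orderOf x = p ^ k) (hiso : Cfsg.IsIsolated x) : x ∈ (P : Subgroup G) ⊓ Subgroup.centralizer ((P : Subgroup G) : Set G) ∧ Cfsg.IsStronglyClosed (Subgroup.zpowers x) (P : Subgroup G) ∧ Cfsg.IsWeaklyClosed (Subgroup.zpowers x) (P : Subgroup G) := by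
  have hp : p.Prime := Fact.out
  obtain ⟨k, hk⟩ := hx
  have hzp : IsPGroup p (Subgroup.zpowers x) := by
    apply IsPGroup.of_card (n := k)
    rw [Nat.card_zpowers, hk]
  have hcent := Cfsg.Agent.Lib.Helper5.isolated_central_in_pgroup x hiso (P : Subgroup G) P.isPGroup' hxP
  have hzP : Subgroup.zpowers x ≤ (P : Subgroup G) := (Subgroup.zpowers_le).mpr hxP
  have hxcP : x ∈ Subgroup.centralizer ((P : Subgroup G) : Set G) := by
    rw [Subgroup.mem_centralizer_iff]
    intro r hr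
    exact hcent r hr
  refine ⟨Subgroup.mem_inf.mpr ⟨hxP, hxcP⟩, ⟨hzP, ?_⟩, ⟨hzP, ?_⟩⟩
  · intro y hy g hgy
    have hxy : Commute x y := by
      rw [Subgroup.mem_zpowers_iff] at hy
      obtain ⟨m, rfl⟩ := hy
      exact (Commute.refl x).zpow_right m
    have hxC : x ∈ Subgroup.centralizer ({g * y * g⁻¹} : Set G) := by
      rw [Subgroup.mem_centralizer_iff]
      intro w hw
      rw [Set.mem_singleton_iff] at hw
      subst hw
      exact hcent _ hgy
    have hx'C : g * x * g⁻¹ ∈ Subgroup.centralizer ({g * y * g⁻¹} : Set G) := by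
      rw [Subgroup.mem_centralizer_iff]
      intro w hw
      rw [Set.mem_singleton_iff] at hw
      subst hw
      calc g * y * g⁻¹ * (g * x * g⁻¹) = g * (y * x) * g⁻¹ := by group
        _ = g * (x * y) * g⁻¹ := by rw [hxy.eq]
        _ = g * x * g⁻¹ * (g * y * g⁻¹) := by group
    have hzp' : IsPGroup p (Subgroup.zpowers (g * x * g⁻¹)) := by
      apply IsPGroup.of_card (n := k)
      rw [Nat.card_zpowers]
      have := MulEquiv.orderOf_eq (MulAut.conj g) x
      rw [MulAut.conj_apply] at this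
      rw [this, hk]
    obtain ⟨Q, hQ, hxQ⟩ := Cfsg.Agent.Lib.Helper5.exists_isMaxPIn_ge _ _ hzp ((Subgroup.zpowers_le).mpr hxC)
    obtain ⟨Q', hQ', hxQ'⟩ := Cfsg.Agent.Lib.Helper5.exists_isMaxPIn_ge _ _ hzp' ((Subgroup.zpowers_le).mpr hx'C)
    obtain ⟨c, hc, hcQ⟩ := hQ'.conj hQ
    have h1 : c * (g * x * g⁻¹) * c⁻¹ ∈ Q := by
      rw [← hcQ]
      exact ⟨g * x * g⁻¹, hxQ' (Subgroup.mem_zpowers _), by simp⟩
    have h2 := Cfsg.Agent.Lib.Helper5.isolated_central_in_pgroup x hiso Q hQ.2.1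
      (hxQ (Subgroup.mem_zpowers x)) _ h1
    have h3 : c * (g * x * g⁻¹) * c⁻¹ = (c * g) * x * (c * g)⁻¹ := by group
    rw [h3] at h2
    have h4 := hiso (c * g) h2.symm
    have h5 : Commute (c * g) x := by
      have : (c * g) * x = ((c * g) * x * (c * g)⁻¹) * (c * g) := by group
      rw [h4] at this
      exact this
    have h6 : Commute (c * g) y := by
      rw [Subgroup.mem_zpowers_iff] at hy
      obtain ⟨m, rfl⟩ := hy
      exact h5.zpow_right m
    have h7 : c * (g * y * g⁻¹) * c⁻¹ = y := by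
      have : c * (g * y * g⁻¹) * c⁻¹ = ((c * g) * y) * (c * g)⁻¹ := by group
      rw [this, h6.eq]
      group
    rw [Subgroup.mem_centralizer_iff] at hc
    have h8 := hc _ (Set.mem_singleton _)
    have h9 : c * (g * y * g⁻¹) * c⁻¹ = g * y * g⁻¹ := by
      rw [← h8]; group
    rw [← h9, h7]
    exact hy
  · intro g hg
    have h1 : g * x * g⁻¹ ∈ (P : Subgroup G) := hg ⟨x, Subgroup.mem_zpowers x, by simp⟩
    have h2 := hiso g (hcent _ h1).symm
    rw [MonoidHom.map_zpowers]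
    simp only [MulEquiv.coe_toMonoidHom, MulAut.conj_apply]
    rw [h2]

end Cfsg.Agent.S2968
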