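import Cfsg.Statements.S2969
import Cfsg.Agent.Lib.Helper5.Isolated

set_option autoImplicit false
open Cfsg

namespace Cfsg.Agent.S2969

theorem result {G : Type*} [Group G] [Finite G] {p : ℕ} [Fact p.Prime] (x : G) (hx : ∃ k : ℕ, orderOf x = p ^ k) (hiso : Cfsg.IsIsolated x) : (∀ R : Subgroup G, IsPGroup p ↥R → x ∈ R → Subgroup.normalizer (R : Set G) ≤ Subgroup.centralizer ({x} : Set G)) ∧ (∀ H N : Subgroup G, N ≤ H → H ≤ Subgroup.normalizer (N : Set G) → x ∈ N → N ⊔ (H ⊓ Subgroup.centralizer ({x} : Set G)) = H) := by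
  have hp : p.Prime := Fact.out
  obtain ⟨k, hk⟩ := hx
  have hzp : IsPGroup p (Subgroup.zpowers x) := by
    apply IsPGroup.of_card (n := k)
    rw [Nat.card_zpowers, hk]
  refine ⟨fun R hR hxR => Cfsg.Agent.Lib.Helper5.isolated_normalizer_le_centralizer x hiso R hR hxR, ?_⟩
  intro H N hNH hHN hxN
  apply le_antisymm (sup_le hNH inf_le_left)
  intro h hh
  obtain ⟨P, hP, hxP⟩ := Cfsg.Agent.Lib.Helper5.exists_isMaxPIn_ge N _ hzp ((Subgroup.zpowers_le).mpr hxN)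
  have hPh := hP.map_conj h
  rw [(Cfsg.Agent.Lib.Helper5.mem_normalizer_iff_map_conj N h).mp (hHN hh)] at hPh
  obtain ⟨n, hn, hnP⟩ := hPh.conj hP
  rw [Cfsg.Agent.Lib.Helper5.map_conj_conj] at hnP
  have h1 : n * h ∈ Subgroup.normalizer (P : Set G) :=
    (Cfsg.Agent.Lib.Helper5.mem_normalizer_iff_map_conj P _).mpr hnP
  have h2 := Cfsg.Agent.Lib.Helper5.isolated_normalizer_le_centralizer x hiso P hP.2.1
    (hxP (Subgroup.mem_zpowers x)) h1
  have h3 : h = n⁻¹ * (n * h) := by group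
  rw [h3]
  exact Subgroup.mul_mem_sup (N.inv_mem hn) ⟨H.mul_mem (hNH hn) hh, h2⟩

end Cfsg.Agent.S2969
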