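import Cfsg.Statements.S2970
import Cfsg.Agent.Lib.Helper5.Isolated
import Cfsg.Agent.Lib.Helper5.CyclicSylow

set_option autoImplicit false
open Cfsg

namespace Cfsg.Agent.S2970

theorem result {G : Type*} [Group G] [Finite G] {p : ℕ} [Fact p.Prime] (x : G) (hx : ∃ k : ℕ, orderOf x = p ^ k) (hiso : Cfsg.IsIsolated x) : (∀ (N : Subgroup G) [N.Normal], Cfsg.IsIsolated (QuotientGroup.mk x : G ⧸ N)) ∧ (x ≠ 1 → (∀ P : Sylow p G, IsCyclic ↥(P : Subgroup G)) → Cfsg.HasNormalPComplement p G) := by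
  have hp : p.Prime := Fact.out
  obtain ⟨k, hk⟩ := hx
  have hzp : ∀ g : G, IsPGroup p (Subgroup.zpowers (g * x * g⁻¹)) := by
    intro g
    apply IsPGroup.of_card (n := k)
    rw [Nat.card_zpowers, ← hk]
    have : g * x * g⁻¹ = (MulAut.conj g) x := by simp
    rw [this, MulEquiv.orderOf_eq]
  have hzpx : IsPGroup p (Subgroup.zpowers x) := by
    have := hzp 1
    rwa [one_mul, inv_one, mul_one] at this
  constructor
  · intro N _ gbar hcomm
    obtain ⟨g, rfl⟩ := QuotientGroup.mk_surjective gbar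
    set π := QuotientGroup.mk' N with hπ
    set y := g * x * g⁻¹ with hy
    have hcomm' : Commute (π x) (π y) := by
      have : π y = (QuotientGroup.mk g : G ⧸ N) * (QuotientGroup.mk x) * (QuotientGroup.mk g)⁻¹ := by
        rw [hy, hπ]; simp
      rw [this]
      exact hcomm
    set A := Subgroup.closure ({π x, π y} : Set (G ⧸ N)) with hA
    have hAc : A ≤ Subgroup.centralizer ({π x} : Set (G ⧸ N)) := by
      rw [hA, Subgroup.closure_le]
      intro z hz
      rw [SetLike.mem_coe, Subgroup.mem_centralizer_singleton_iff]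
      rcases hz with rfl | hz
      · rfl
      · rw [Set.mem_singleton_iff] at hz
        subst hz
        exact hcomm'.eq.symm
    set L := A.comap π with hL
    have hxL : x ∈ L := by
      show π x ∈ A
      exact Subgroup.subset_closure (by simp)
    have hyL : y ∈ L := by
      show π y ∈ A
      exact Subgroup.subset_closure (by simp)
    obtain ⟨S₁, hS₁, hxS₁⟩ := Cfsg.Agent.Lib.Helper5.exists_isMaxPIn_ge L (Subgroup.zpowers x) hzpx
      ((Subgroup.zpowers_le).mpr hxL)
    obtain ⟨S₂, hS₂, hyS₂⟩ := Cfsg.Agent.Lib.Helper5.exists_isMaxPIn_ge L (Subgroup.zpowers y) (hzp g)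
      ((Subgroup.zpowers_le).mpr hyL)
    obtain ⟨l, hl, hlS⟩ := hS₂.conj hS₁
    -- l y l⁻¹ ∈ S₁
    have h1 : l * y * l⁻¹ ∈ S₁ := by
      rw [← hlS]
      exact ⟨y, hyS₂ (Subgroup.mem_zpowers y), by simp⟩
    have hxS : x ∈ S₁ := hxS₁ (Subgroup.mem_zpowers x)
    have h2 := Cfsg.Agent.Lib.Helper5.isolated_central_in_pgroup x hiso S₁ hS₁.2.1 hxS _ h1
    have h3 : l * y * l⁻¹ = (l * g) * x * (l * g)⁻¹ := by rw [hy]; group
    have h4 := hiso (l * g) (by rw [← h3]; exact h2.symm)
    rw [← h3] at h4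
    -- so y = l⁻¹ x l
    have h5 : y = l⁻¹ * x * l := by rw [← h4]; group
    have hlA : π l ∈ A := hl
    have h6 := hAc hlA
    rw [Subgroup.mem_centralizer_singleton_iff] at h6
    have h7 : π y = π x := by
      rw [h5, map_mul, map_mul, map_inv]
      calc (π l)⁻¹ * π x * π l = (π l)⁻¹ * (π x * π l) := by group
        _ = (π l)⁻¹ * (π l * π x) := by rw [h6]
        _ = π x := by group
    have : (QuotientGroup.mk g : G ⧸ N) * (QuotientGroup.mk x) * (QuotientGroup.mk g)⁻¹ = π y := by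
      rw [hy, hπ]; simp
    rw [this, h7]
    rfl
  · intro hx1 hcyc
    -- a Sylow containing x
    obtain ⟨P, hP⟩ := hzpx.exists_le_sylow
    have hxP : x ∈ (P : Subgroup G) := hP (Subgroup.mem_zpowers x)
    have hN := Cfsg.Agent.Lib.Helper5.isolated_normalizer_le_centralizer x hiso (P : Subgroup G) P.isPGroup' hxP
    have hNC := Cfsg.Agent.Lib.Helper5.normalizer_le_centralizer_of_cyclic P (hcyc P) x hxP hx1 hN
    refine ⟨P, (MonoidHom.transferSylow P hNC).ker, inferInstance, ?_⟩
    exact MonoidHom.ker_transferSylow_isComplement' P hNC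

end Cfsg.Agent.S2970
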