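import Mathlib
import Cfsg.Statements.S2971
import Cfsg.Agent.Lib.Helper5.Isolated
import Cfsg.Agent.Lib.Helper5.CyclicSylow
import Cfsg.Agent.Lib.Helper5.PCore
import Cfsg.Agent.Lib.Helper6.NormalEA

set_option autoImplicit false
open Cfsg

namespace Cfsg.Agent.S2971

open Cfsg.Agent.Lib.Helper5

theorem result {G : Type*} [Group G] [Finite G] {p : ℕ} [Fact p.Prime] (hp : p ≠ 2) (hrk : Cfsg.PRankLE p 1 G) (x : G) (hx : orderOf x = p) (hiso : Cfsg.IsIsolated x) : Cfsg.InZStar p x := by
  classical
  have hp' : p.Prime := Fact.out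
  have hxp : IsPGroup p (Subgroup.zpowers x) := by
    apply IsPGroup.of_card (n := 1)
    rw [Nat.card_zpowers, hx, pow_one]
  obtain ⟨P, hP⟩ := hxp.exists_le_sylow
  have hxP : x ∈ (P : Subgroup G) := hP (Subgroup.mem_zpowers x)
  have hx1 : x ≠ 1 := by
    intro h
    rw [h, orderOf_one] at hx
    exact hp'.one_lt.ne hx
  have hcyc : IsCyclic (P : Subgroup G) := by
    by_contra hnc
    obtain ⟨A, -, hAe, hAc⟩ := Cfsg.Agent.Lib.Helper6.exists_normal_ea_sq hp _ (P : Subgroup G) rfl P.2 hnc
    haveI := hAe.1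
    have h1 := hrk (A.map (P : Subgroup G).subtype) inferInstance (by
      rintro _ ⟨a, ha, rfl⟩
      have := hAe.2 a ha
      have h2 := congrArg Subtype.val this
      simpa using h2)
    rw [Subgroup.card_map_of_injective (Subgroup.subtype_injective _), hAc] at h1
    have h3 := (Nat.pow_le_pow_iff_right hp'.one_lt).mp h1
    omega
  have hN1 := isolated_normalizer_le_centralizer x hiso (P : Subgroup G) P.2 hxP
  have hN2 := normalizer_le_centralizer_of_cyclic P hcyc x hxP hx1 hN1
  have hcomp := MonoidHom.ker_transferSylow_isComplement' P hN2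
  have hKcard : (Nat.card (MonoidHom.transferSylow P hN2).ker).Coprime p := by
    have h1 := hcomp.index_eq_card
    rw [← h1]
    exact ((Nat.Prime.coprime_iff_not_dvd hp').mpr P.not_dvd_index).symm
  have hKle := le_pPrimeCore (p := p) (MonoidHom.transferSylow P hN2).ker inferInstance hKcard
  intro g
  apply hKle
  rw [MonoidHom.mem_ker]
  have hPcomm : ∀ a b : (P : Subgroup G), a * b = b * a := by
    intro a b
    apply Subtype.ext
    exact Subgroup.mem_centralizer_iff.mp (hN2 (Subgroup.le_normalizer b.2)) a a.2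
  rw [map_mul, map_mul, map_mul, map_inv, map_inv,
    hPcomm ((MonoidHom.transferSylow P hN2) g) ((MonoidHom.transferSylow P hN2) x),
    mul_inv_cancel_right, mul_inv_cancel]

end Cfsg.Agent.S2971
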