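import Mathlib
import Cfsg.Statements.S2972
import Cfsg.Agent.Lib.Helper5.Isolated
import Cfsg.Agent.Lib.Helper5.PCore
import Cfsg.Agent.Lib.Helper5.SubnSylow
import Cfsg.Agent.Lib.Helper5.CopGen3
import Cfsg.Agent.Lib.Helper5.Flavell
import Cfsg.Agent.Lib.Helper6.NormalEA
import Cfsg.Agent.Lib.Helper3.Subn
import Cfsg.Agent.Lib.Helper3.PComp

set_option autoImplicit false
open Cfsg

namespace Cfsg.Agent.S2972

open Cfsg.Agent.Lib.Helper5
open scoped commutatorElement

section Aux
variable {G : Type*} [Group G] [Finite G] {p : ℕ} [Fact p.Prime]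

theorem not_central (x : G) (hnz : ¬ Cfsg.InZStar p x) : ¬ (∀ g : G, g * x * g⁻¹ = x) := by
  intro h
  apply hnz
  intro g
  rw [h g, mul_inv_cancel]
  exact Subgroup.one_mem _

theorem core_bot (x : G) (hnz : ¬ Cfsg.InZStar p x)
    (hquot : ∀ (N : Subgroup G) [N.Normal], N ≠ ⊥ → Cfsg.InZStar p (QuotientGroup.mk x : G ⧸ N)) :
    Cfsg.pPrimeCore p G = ⊥ := by
  by_contra hne
  haveI : (Cfsg.pPrimeCore p G).Normal := (pPrimeCore_mem p).1
  have h := hquot (Cfsg.pPrimeCore p G) hne
  apply hnz
  intro g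
  have h1 := h (g : G ⧸ Cfsg.pPrimeCore p G)
  rw [Cfsg.Agent.Lib.Helper3.pPrimeCore_quotient_eq_bot, Subgroup.mem_bot] at h1
  have h2 : ((g * x * g⁻¹ * x⁻¹ : G) : G ⧸ Cfsg.pPrimeCore p G) = 1 := by
    rw [← h1]
    simp
  exact (QuotientGroup.eq_one_iff _).mp h2

theorem normal_mem_eq_top (x : G) (hiso : Cfsg.IsIsolated x)
    (hcore : Cfsg.pPrimeCore p G = ⊥) (hnc : ¬ (∀ g : G, g * x * g⁻¹ = x))
    (hmin : ∀ (H : Subgroup G) (hxH : x ∈ H), H ≠ ⊤ → Cfsg.InZStar p (⟨x, hxH⟩ : ↥H))
    (L : Subgroup G) (hLn : L.Normal) (hxL : x ∈ L) : L = ⊤ := by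
  by_contra hL
  have h := hmin L hxL hL
  have hLcore : Cfsg.pPrimeCore p L = ⊥ := by
    have h1 := Cfsg.Agent.Lib.Helper3.pPrimeCore_subnormal_le p hLn.isSubnormal
    rw [hcore, le_bot_iff] at h1
    exact (Subgroup.map_eq_bot_iff_of_injective _ L.subtype_injective).mp h1
  have hcen : ∀ l ∈ L, l * x * l⁻¹ = x := by
    intro l hl
    have h1 := h ⟨l, hl⟩
    rw [hLcore, Subgroup.mem_bot] at h1
    have h2 := congrArg Subtype.val h1
    simp only [Subgroup.coe_mul, Subgroup.coe_inv, Subgroup.coe_one] at h2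
    calc l * x * l⁻¹ = (l * x * l⁻¹ * x⁻¹) * x := by group
      _ = x := by rw [h2, one_mul]
  apply hnc
  intro g
  apply hiso g
  have h1 : g * x * g⁻¹ ∈ L := hLn.conj_mem x hxL g
  have h2 := hcen _ h1
  show x * (g * x * g⁻¹) = (g * x * g⁻¹) * x
  calc x * (g * x * g⁻¹) = ((g * x * g⁻¹) * x * (g * x * g⁻¹)⁻¹) * (g * x * g⁻¹) := by rw [h2]
    _ = (g * x * g⁻¹) * x := by group

theorem normal_of_commutator_le (L : Subgroup G) (h : commutator G ≤ L) : L.Normal := by
  constructor
  intro n hn g
  have h1 : ⁅g, n⁆ ∈ L := by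
    apply h
    rw [commutator_def]
    exact Subgroup.commutator_mem_commutator (Subgroup.mem_top g) (Subgroup.mem_top n)
  have h2 : g * n * g⁻¹ = ⁅g, n⁆ * n := by
    rw [commutatorElement_def]; group
  rw [h2]
  exact L.mul_mem h1 hn

theorem exists_commuting_in_subnormal (x : G) (hx : orderOf x = p) (hiso : Cfsg.IsIsolated x)
    (hcore : Cfsg.pPrimeCore p G = ⊥) (K : Subgroup G) (hK : K.IsSubnormal) (hKne : K ≠ ⊥) :
    ∃ t ∈ K, t ≠ 1 ∧ x * t = t * x := by
  have hp' : p.Prime := Fact.out
  have hdvd : p ∣ Nat.card K := by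
    by_contra hnd
    apply hKne
    have h1 := Cfsg.Agent.Lib.Helper3.subnormal_pprime_le_pPrimeCore p hK
      ((Nat.Prime.coprime_iff_not_dvd hp').mpr hnd).symm
    rw [hcore] at h1
    exact le_bot_iff.mp h1
  have hxp : IsPGroup p (Subgroup.zpowers x) := by
    apply IsPGroup.of_card (n := 1)
    rw [Nat.card_zpowers, hx, pow_one]
  obtain ⟨P, hP⟩ := hxp.exists_le_sylow
  have hxP : x ∈ (P : Subgroup G) := hP (Subgroup.mem_zpowers x)
  have hcard := card_sylow_inf_subnormal P K hK
  have hfac : 1 ≤ (Nat.card K).factorization p :=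
    (hp'.dvd_iff_one_le_factorization Nat.card_pos.ne').mp hdvd
  have hne : ((P : Subgroup G) ⊓ K) ≠ ⊥ := by
    intro hb
    rw [hb, Subgroup.card_bot] at hcard
    have : 1 < p ^ (Nat.card K).factorization p := Nat.one_lt_pow (by omega) hp'.one_lt
    omega
  obtain ⟨⟨t, ht⟩, ht1⟩ := Subgroup.ne_bot_iff_exists_ne_one.mp hne
  refine ⟨t, ht.2, ?_, ?_⟩
  · intro h
    apply ht1
    exact Subtype.ext h
  · exact (isolated_central_in_pgroup x hiso (P : Subgroup G) P.2 hxP t ht.1).symm

/-- a central minimal normal subgroup is impossible -/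
theorem central_case (x : G) (hiso : Cfsg.IsIsolated x)
    (hcore : Cfsg.pPrimeCore p G = ⊥) (hnc : ¬ (∀ g : G, g * x * g⁻¹ = x))
    (hquot : ∀ (N : Subgroup G) [N.Normal], N ≠ ⊥ → Cfsg.InZStar p (QuotientGroup.mk x : G ⧸ N))
    (T : Subgroup G) (hTn : T.Normal) (hTne : T ≠ ⊥)
    (hTmin : ∀ K : Subgroup G, K.Normal → K ≤ T → K = ⊥ ∨ K = T)
    (hTc : T ≤ Subgroup.center G) : False := by
  classical
  have hp' : p.Prime := Fact.out
  haveI := hTn
  -- p divides card T
  have hdvd : p ∣ Nat.card T := by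
    by_contra hnd
    apply hTne
    have h1 := le_pPrimeCore (p := p) T hTn ((Nat.Prime.coprime_iff_not_dvd hp').mpr hnd).symm
    rw [hcore] at h1
    exact le_bot_iff.mp h1
  obtain ⟨z, hz⟩ := exists_prime_orderOf_dvd_card' p hdvd
  have hzT : (z : G) ∈ T := z.2
  have hzo : orderOf (z : G) = p := by rw [Subgroup.orderOf_coe]; exact hz
  have hz1 : (z : G) ≠ 1 := by
    intro h
    rw [h, orderOf_one] at hzo
    exact hp'.one_lt.ne hzo
  have hZn : (Subgroup.zpowers (z : G)).Normal := by
    constructor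
    intro n hn g
    have hc : n ∈ Subgroup.center G := hTc ((Subgroup.zpowers_le.mpr hzT) hn)
    have h1 : g * n * g⁻¹ = n := by
      rw [Subgroup.mem_center_iff] at hc
      rw [hc g]; group
    rw [h1]; exact hn
  have hTZ : Subgroup.zpowers (z : G) = T := by
    rcases hTmin _ hZn (Subgroup.zpowers_le.mpr hzT) with h | h
    · exfalso
      exact (Subgroup.zpowers_ne_bot.mpr hz1) h
    · exact h
  have hTcard : Nat.card T = p := by rw [← hTZ, Nat.card_zpowers, hzo]
  -- the preimage of the p'-core of the quotient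
  set M : Subgroup G := (Cfsg.pPrimeCore p (G ⧸ T)).comap (QuotientGroup.mk' T) with hM
  haveI hMn : M.Normal := by
    haveI : (Cfsg.pPrimeCore p (G ⧸ T)).Normal := (pPrimeCore_mem p).1
    exact Subgroup.Normal.comap inferInstance _
  have hTM : T ≤ M := by
    intro t ht
    rw [hM, Subgroup.mem_comap]
    have : (QuotientGroup.mk' T) t = 1 := by
      rw [QuotientGroup.mk'_apply, QuotientGroup.eq_one_iff]; exact ht
    rw [this]; exact Subgroup.one_mem _
  have hMcard : Nat.card M = p * Nat.card (Cfsg.pPrimeCore p (G ⧸ T)) := by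
    rw [hM, Cfsg.Agent.Lib.Helper6.card_comap_mk', hTcard]
  have hm' : (Nat.card (Cfsg.pPrimeCore p (G ⧸ T))).Coprime p := card_pPrimeCore_coprime p
  have hfacM : (Nat.card M).factorization p = 1 := by
    rw [hMcard, Nat.factorization_mul hp'.ne_zero Nat.card_pos.ne', Finsupp.add_apply,
      hp'.factorization_self, Nat.factorization_eq_zero_of_not_dvd]
    intro hd
    have := Nat.Coprime.eq_one_of_dvd hm'.symm hd
    exact hp'.one_lt.ne' this
  have hT'card : Nat.card (T.subgroupOf M) = p ^ (Nat.card M).factorization p := by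
    rw [hfacM, pow_one, Nat.card_congr (Subgroup.subgroupOfEquivOfLe hTM).toEquiv, hTcard]
  set Q : Sylow p M := Sylow.ofCard (T.subgroupOf M) hT'card with hQ
  have hQT : (Q : Subgroup M) = T.subgroupOf M := Sylow.coe_ofCard _ _
  have hQc : Subgroup.normalizer ((Q : Subgroup M) : Set M) ≤
      Subgroup.centralizer ((Q : Subgroup M) : Set M) := by
    intro m _
    rw [Subgroup.mem_centralizer_iff]
    intro t ht
    rw [SetLike.mem_coe, hQT, Subgroup.mem_subgroupOf] at ht
    have hc := hTc ht
    rw [Subgroup.mem_center_iff] at hc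
    apply Subtype.ext
    simp only [Subgroup.coe_mul]
    exact (hc m.1).symm
  have hcomp := MonoidHom.ker_transferSylow_isComplement' Q hQc
  have hKcard : (Nat.card (MonoidHom.transferSylow Q hQc).ker).Coprime p := by
    have h1 := hcomp.index_eq_card
    rw [← h1]
    exact ((Nat.Prime.coprime_iff_not_dvd hp').mpr Q.not_dvd_index).symm
  have hKsub : ((MonoidHom.transferSylow Q hQc).ker.map M.subtype).IsSubnormal :=
    (Subgroup.Normal.isSubnormal inferInstance).trans' hMn.isSubnormal
  have hKbot : (MonoidHom.transferSylow Q hQc).ker = ⊥ := by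
    have h1 := Cfsg.Agent.Lib.Helper3.subnormal_pprime_le_pPrimeCore p hKsub (by
      rw [Subgroup.card_map_of_injective M.subtype_injective]; exact hKcard)
    rw [hcore, le_bot_iff] at h1
    exact (Subgroup.map_eq_bot_iff_of_injective _ M.subtype_injective).mp h1
  have hMT : M = T := by
    have h1 := hcomp.card_mul_card
    rw [hKbot, Subgroup.card_bot, one_mul, hQT,
      Nat.card_congr (Subgroup.subgroupOfEquivOfLe hTM).toEquiv] at h1
    symm
    apply Subgroup.eq_of_le_of_card_ge hTM
    rw [h1]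
  -- all commutators with x lie in T
  have hcomm : ∀ g : G, g * x * g⁻¹ * x⁻¹ ∈ T := by
    intro g
    have h1 := hquot T hTne (g : G ⧸ T)
    rw [← hMT, hM, Subgroup.mem_comap]
    have h2 : (QuotientGroup.mk' T) (g * x * g⁻¹ * x⁻¹) =
        (g : G ⧸ T) * (x : G ⧸ T) * (g : G ⧸ T)⁻¹ * (x : G ⧸ T)⁻¹ := by
      simp
    rw [h2]
    exact h1
  apply hnc
  intro g
  apply hiso g
  have hc := hTc (hcomm g)
  rw [Subgroup.mem_center_iff] at hc
  have h3 : g * x * g⁻¹ = (g * x * g⁻¹ * x⁻¹) * x := by group
  show x * (g * x * g⁻¹) = (g * x * g⁻¹) * x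
  rw [h3, ← mul_assoc, hc x]

theorem exists_minimal_normal_in (X : Subgroup G) (P : Subgroup G → Prop) (hX : P X) :
    ∃ K : Subgroup G, P K ∧ K ≤ X ∧ ∀ K' : Subgroup G, P K' → K' ≤ K → K' = K := by
  have hfin : ({K : Subgroup G | P K ∧ K ≤ X}).Finite := Set.toFinite _
  obtain ⟨K, hK, hmin⟩ := hfin.exists_minimal ⟨X, hX, le_refl _⟩
  refine ⟨K, hK.1, hK.2, ?_⟩
  intro K' hK' hle
  exact le_antisymm hle (hmin ⟨hK', hle.trans hK.2⟩ hle)

end Aux

theorem result {G : Type*} [Group G] [Finite G] {p : ℕ} [Fact p.Prime] (x : G) (hx : orderOf x = p) (hiso : Cfsg.IsIsolated x) (hnz : ¬ Cfsg.InZStar p x) (hmin : ∀ (H : Subgroup G) (hxH : x ∈ H), H ≠ ⊤ → Cfsg.InZStar p (⟨x, hxH⟩ : ↥H)) (hquot : ∀ (N : Subgroup G) [N.Normal], N ≠ ⊥ → Cfsg.InZStar p (QuotientGroup.mk x : G ⧸ N)) : IsSimpleGroup ↥(commutator G) ∧ ¬ IsMulCommutative ↥(commutator G) ∧ commutator G ⊔ Subgroup.zpowers x = ⊤ := by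
  classical
  have hp' : p.Prime := Fact.out
  have hnc := not_central x hnz
  have hcore := core_bot x hnz hquot
  have hA := normal_mem_eq_top x hiso hcore hnc hmin
  have h3 : commutator G ⊔ Subgroup.zpowers x = ⊤ :=
    hA _ (normal_of_commutator_le _ le_sup_left) (le_sup_right (a := commutator G) (Subgroup.mem_zpowers x))
  have hRn : (commutator G).Normal := inferInstance
  have hRne : commutator G ≠ ⊥ := by
    intro h
    apply hnc
    intro g
    have h1 : ⁅g, x⁆ ∈ commutator G := by
      rw [commutator_def]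
      exact Subgroup.commutator_mem_commutator (Subgroup.mem_top g) (Subgroup.mem_top x)
    rw [h, Subgroup.mem_bot, commutatorElement_def] at h1
    calc g * x * g⁻¹ = (g * x * g⁻¹ * x⁻¹) * x := by group
      _ = x := by rw [h1, one_mul]
  -- a minimal normal subgroup of G inside the commutator subgroup
  obtain ⟨T, ⟨hTn, hTne⟩, hTR, hTmin'⟩ := exists_minimal_normal_in (commutator G)
    (fun K => K.Normal ∧ K ≠ ⊥) ⟨hRn, hRne⟩
  have hTmin : ∀ K : Subgroup G, K.Normal → K ≤ T → K = ⊥ ∨ K = T := by
    intro K hKn hKT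
    by_cases hK : K = ⊥
    · exact Or.inl hK
    · exact Or.inr (hTmin' K ⟨hKn, hK⟩ hKT)
  haveI := hTn
  -- the dichotomy
  have hTx : T ⊔ Subgroup.zpowers x = ⊤ := by
    by_contra hne
    have hxTx : x ∈ T ⊔ Subgroup.zpowers x := le_sup_right (a := T) (Subgroup.mem_zpowers x)
    have h := hmin _ hxTx hne
    -- x centralizes T
    have hcen : ∀ t ∈ T, t * x * t⁻¹ * x⁻¹ = 1 := by
      intro t ht
      have h1 := h ⟨t, le_sup_left (b := Subgroup.zpowers x) ht⟩
      -- the commutator lies in T and in the p'-core of T⟨x⟩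
      set D : Subgroup G := T ⊓ (Cfsg.pPrimeCore p ↥(T ⊔ Subgroup.zpowers x)).map
        (T ⊔ Subgroup.zpowers x).subtype with hD
      have hmem : t * x * t⁻¹ * x⁻¹ ∈ D := by
        refine Subgroup.mem_inf.mpr ⟨?_, ?_⟩
        · have h2 : x * t⁻¹ * x⁻¹ ∈ T := hTn.conj_mem _ (T.inv_mem ht) x
          have h4 : t * x * t⁻¹ * x⁻¹ = t * (x * t⁻¹ * x⁻¹) := by group
          rw [h4]
          exact T.mul_mem ht h2
        · refine ⟨_, h1, ?_⟩
          simp
      -- D is a subnormal p'-subgroup of G
      have hDsub : D.IsSubnormal := by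
        have hpn : (Cfsg.pPrimeCore p ↥(T ⊔ Subgroup.zpowers x)).Normal := (pPrimeCore_mem p).1
        have hTsub : T.IsSubnormal := hTn.isSubnormal
        -- D is normal in T
        refine Subgroup.IsSubnormal.step D T inf_le_left hTsub ?_
        rw [Subgroup.normal_subgroupOf_iff_le_normalizer inf_le_left]
        intro s hs
        apply mem_normalizer_inf
        · exact Subgroup.le_normalizer hs
        · rw [Subgroup.mem_normalizer_iff]
          intro y
          constructor
          · rintro ⟨y', hy', rfl⟩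
            refine ⟨⟨s, le_sup_left (b := Subgroup.zpowers x) hs⟩ * y' *
              ⟨s, le_sup_left (b := Subgroup.zpowers x) hs⟩⁻¹, hpn.conj_mem y' hy' _, ?_⟩
            simp
          · rintro ⟨y', hy', hyy⟩
            have h5 := hpn.conj_mem y' hy' ⟨s, le_sup_left (b := Subgroup.zpowers x) hs⟩⁻¹
            refine ⟨_, h5, ?_⟩
            have h6 : (y' : G) = s * y * s⁻¹ := by rw [← hyy]; simp
            simp only [Subgroup.subtype_apply, Subgroup.coe_mul, Subgroup.coe_inv, inv_inv]
            rw [h6]; group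
      have hDcop : (Nat.card D).Coprime p := by
        have h5 : Nat.card D ∣ Nat.card ((Cfsg.pPrimeCore p ↥(T ⊔ Subgroup.zpowers x)).map
            (T ⊔ Subgroup.zpowers x).subtype) := Subgroup.card_dvd_of_le inf_le_right
        rw [Subgroup.card_map_of_injective (Subgroup.subtype_injective _)] at h5
        exact Nat.Coprime.coprime_dvd_left h5 (card_pPrimeCore_coprime p)
      have hDbot := Cfsg.Agent.Lib.Helper3.subnormal_pprime_le_pPrimeCore p hDsub hDcop
      rw [hcore] at hDbot
      exact (Subgroup.mem_bot.mp (hDbot hmem))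
    -- the centralizer of T is normal and contains x
    have hCn : (Subgroup.centralizer (T : Set G)).Normal := inferInstance
    have hxC : x ∈ Subgroup.centralizer (T : Set G) := by
      rw [Subgroup.mem_centralizer_iff]
      intro t ht
      have h1 := hcen t ht
      calc t * x = (t * x * t⁻¹ * x⁻¹) * (x * t) := by group
        _ = x * t := by rw [h1, one_mul]
    have hCtop := hA _ hCn hxC
    have hTc : T ≤ Subgroup.center G := by
      intro t ht
      rw [Subgroup.mem_center_iff]
      intro g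
      have hg : g ∈ Subgroup.centralizer (T : Set G) := by rw [hCtop]; trivial
      exact (Subgroup.mem_centralizer_iff.mp hg t ht).symm
    exact central_case x hiso hcore hnc hquot T hTn hTne hTmin hTc
  -- the quotient by T is commutative, so the commutator subgroup is T
  have hRT : commutator G = T := by
    have hle : commutator G ≤ T := by
      have hz : Subgroup.zpowers ((QuotientGroup.mk' T) x) = ⊤ := by
        rw [← MonoidHom.map_zpowers]
        have h4 : (T ⊔ Subgroup.zpowers x).map (QuotientGroup.mk' T) = ⊤ := by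
          rw [hTx, ← MonoidHom.range_eq_map, MonoidHom.range_eq_top]
          exact QuotientGroup.mk'_surjective T
        rw [Subgroup.map_sup] at h4
        have h5 : T.map (QuotientGroup.mk' T) = ⊥ := by
          rw [Subgroup.map_eq_bot_iff, QuotientGroup.ker_mk']
        rw [h5, bot_sup_eq] at h4
        exact h4
      have hqcomm : ∀ a b : G ⧸ T, a * b = b * a := by
        intro a b
        have ha : a ∈ Subgroup.zpowers ((QuotientGroup.mk' T) x) := by rw [hz]; trivial
        have hb : b ∈ Subgroup.zpowers ((QuotientGroup.mk' T) x) := by rw [hz]; trivial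
        obtain ⟨i, rfl⟩ := Subgroup.mem_zpowers_iff.mp ha
        obtain ⟨j, rfl⟩ := Subgroup.mem_zpowers_iff.mp hb
        rw [← zpow_add, ← zpow_add, add_comm]
      rw [commutator_def, Subgroup.commutator_le]
      intro a _ b _
      rw [← QuotientGroup.eq_one_iff, commutatorElement_def]
      simp only [QuotientGroup.mk_mul, QuotientGroup.mk_inv]
      rw [hqcomm (a : G ⧸ T) (b : G ⧸ T), mul_inv_cancel_right, mul_inv_cancel]
    exact hTmin' _ ⟨hRn, hRne⟩ hle
  -- the key: normal subgroups of T are trivial or T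
  have hkey : ∀ K : Subgroup G, K ≤ T → (K.subgroupOf T).Normal → K ≠ ⊥ → K = T := by
    intro K hKT hKn hKne
    obtain ⟨K₀, ⟨hK₀T, hK₀n, hK₀ne⟩, hK₀K, hK₀min⟩ := exists_minimal_normal_in K
      (fun K' => K' ≤ T ∧ (K'.subgroupOf T).Normal ∧ K' ≠ ⊥) ⟨hKT, hKn, hKne⟩
    have hK₀sub : K₀.IsSubnormal :=
      Subgroup.IsSubnormal.step K₀ T hK₀T hTn.isSubnormal hK₀n
    obtain ⟨t, htK, ht1, htx⟩ := exists_commuting_in_subnormal x hx hiso hcore K₀ hK₀sub hK₀ne
    have hTN : T ≤ Subgroup.normalizer (K₀ : Set G) :=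
      (Subgroup.normal_subgroupOf_iff_le_normalizer hK₀T).mp hK₀n
    -- the conjugate of K₀ by x
    have hconjT : (K₀.map (MulAut.conj x).toMonoidHom) ≤ T := by
      rintro _ ⟨k, hk, rfl⟩
      simp only [MulEquiv.coe_toMonoidHom, MulAut.conj_apply]
      exact hTn.conj_mem k (hK₀T hk) x
    have hTNx : T ≤ Subgroup.normalizer ((K₀.map (MulAut.conj x).toMonoidHom : Subgroup G) : Set G) := by
      rw [normalizer_map_conj]
      intro s hs
      rw [mem_map_conj_iff]
      apply hTN
      have := hTn.conj_mem s hs x⁻¹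
      simpa using this
    have hinf : K₀ ⊓ K₀.map (MulAut.conj x).toMonoidHom = K₀ := by
      apply hK₀min
      · refine ⟨inf_le_left.trans hK₀T, ?_, ?_⟩
        · rw [Subgroup.normal_subgroupOf_iff_le_normalizer (inf_le_left.trans hK₀T)]
          intro s hs
          exact mem_normalizer_inf _ _ s (hTN hs) (hTNx hs)
        · intro hb
          apply ht1
          have : t ∈ K₀ ⊓ K₀.map (MulAut.conj x).toMonoidHom := by
            refine Subgroup.mem_inf.mpr ⟨htK, ?_⟩
            rw [mem_map_conj_iff]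
            have h7 : x⁻¹ * t * x = t := by
              calc x⁻¹ * t * x = x⁻¹ * (t * x) := by group
                _ = x⁻¹ * (x * t) := by rw [htx]
                _ = t := by group
            rw [h7]; exact htK
          rw [hb, Subgroup.mem_bot] at this
          exact this
      · exact inf_le_left
    have hxN : x ∈ Subgroup.normalizer (K₀ : Set G) := by
      rw [mem_normalizer_iff_map_conj]
      apply map_conj_eq_of_ge
      exact hinf.symm.le.trans inf_le_right
    have hK₀G : K₀.Normal := by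
      rw [← Subgroup.normalizer_eq_top_iff, eq_top_iff, ← hTx]
      exact sup_le hTN (Subgroup.zpowers_le.mpr hxN)
    have h8 := hTmin' K₀ ⟨hK₀G, hK₀ne⟩ hK₀T
    apply le_antisymm hKT
    rw [← h8]
    exact hK₀K
  rw [hRT]
  refine ⟨?_, ?_, hTx⟩
  · haveI : Nontrivial T := (Subgroup.nontrivial_iff_ne_bot T).mpr hTne
    refine ⟨fun H hH => ?_⟩
    by_cases hHb : H = ⊥
    · exact Or.inl hHb
    · right
      have h9 : (H.map T.subtype).subgroupOf T = H :=
        Subgroup.comap_map_eq_self_of_injective T.subtype_injective H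
      have h10 := hkey (H.map T.subtype) (Subgroup.map_subtype_le H) (by rw [h9]; exact hH) (by
        intro hb
        apply hHb
        exact (Subgroup.map_eq_bot_iff_of_injective _ T.subtype_injective).mp hb)
      rw [← h9, h10]
      exact Subgroup.subgroupOf_self T
  · intro hcomm
    obtain ⟨t, htT, ht1, htx⟩ := exists_commuting_in_subnormal x hx hiso hcore T hTn.isSubnormal hTne
    have hCT : T ⊓ Subgroup.centralizer ({x} : Set G) = T := by
      apply hkey _ inf_le_left
      · rw [Subgroup.normal_subgroupOf_iff_le_normalizer inf_le_left]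
        intro s hs
        rw [Subgroup.mem_normalizer_iff]
        intro y
        have hsy : ∀ y ∈ T, s * y * s⁻¹ = y := by
          intro y hy
          have h11 := hcomm.is_comm.comm ⟨s, hs⟩ ⟨y, hy⟩
          have h12 : s * y = y * s := congrArg Subtype.val h11
          rw [h12]; group
        constructor
        · intro hy
          rw [hsy y hy.1]; exact hy
        · intro hy
          have hyT : y ∈ T := by
            have h13 := hTn.conj_mem _ hy.1 s⁻¹
            have h14 : s⁻¹ * (s * y * s⁻¹) * s⁻¹⁻¹ = y := by group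
            rw [h14] at h13
            exact h13
          rw [hsy y hyT] at hy
          exact hy
      · intro hb
        apply ht1
        have : t ∈ T ⊓ Subgroup.centralizer ({x} : Set G) := by
          refine Subgroup.mem_inf.mpr ⟨htT, ?_⟩
          rw [Subgroup.mem_centralizer_iff]
          intro y hy
          rw [Set.mem_singleton_iff] at hy
          subst hy
          exact htx
        rw [hb, Subgroup.mem_bot] at this
        exact this
    have hTC : T ≤ Subgroup.centralizer ({x} : Set G) := by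
      rw [← hCT]; exact inf_le_right
    have hxC : Subgroup.zpowers x ≤ Subgroup.centralizer ({x} : Set G) := by
      rw [Subgroup.zpowers_le, Subgroup.mem_centralizer_iff]
      intro y hy
      rw [Set.mem_singleton_iff] at hy
      rw [hy]
    have htop : Subgroup.centralizer ({x} : Set G) = ⊤ := by
      rw [eq_top_iff, ← hTx]
      exact sup_le hTC hxC
    apply hnc
    intro g
    have hg : g ∈ Subgroup.centralizer ({x} : Set G) := by rw [htop]; trivial
    have h15 := Subgroup.mem_centralizer_iff.mp hg x rfl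
    rw [← h15]; group

end Cfsg.Agent.S2972
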