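import Mathlib
import Cfsg.Statements.S2975
import Cfsg.Agent.S2972
import Cfsg.Agent.Lib.Helper5.MaxP
import Cfsg.Agent.Lib.Helper5.SPE

set_option autoImplicit false
open Cfsg

namespace Cfsg.Agent.S2975

open Cfsg.Agent.Lib.Helper5

section Aux

theorem exists_invariant_sylow {G : Type*} [Group G] [Finite G] {p q : ℕ} [Fact p.Prime]
    [Fact q.Prime] (x : G) (hxp : IsPGroup p (Subgroup.zpowers x)) (L : Subgroup G)
    (hxL : x ∈ Subgroup.normalizer (L : Set G)) (hL : (Nat.card L).Coprime p) :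
    ∃ S : Sylow q L,
      x ∈ Subgroup.normalizer (((S : Subgroup L).map L.subtype : Subgroup G) : Set G) := by
  classical
  have hp' : p.Prime := Fact.out
  set A : Subgroup (Subgroup.normalizer (L : Set G)) :=
    (Subgroup.zpowers x).subgroupOf (Subgroup.normalizer (L : Set G)) with hA
  have hAp : IsPGroup p A := hxp.comap_subtype
  have hnd : ¬ p ∣ Nat.card (Sylow q L) := by
    obtain ⟨P₀⟩ : Nonempty (Sylow q L) := inferInstance
    intro hd
    have h1 : Nat.card (Sylow q L) ∣ Nat.card L :=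
      (Sylow.card_dvd_index P₀).trans (Subgroup.index_dvd_card _)
    have h2 := Nat.Coprime.eq_one_of_dvd hL.symm (hd.trans h1)
    exact hp'.one_lt.ne' h2
  obtain ⟨S, hS⟩ := hAp.nonempty_fixed_point_of_prime_not_dvd_card (Sylow q L) hnd
  refine ⟨S, ?_⟩
  have hfix : (⟨x, hxL⟩ : Subgroup.normalizer (L : Set G)) • S = S := by
    have := hS ⟨⟨x, hxL⟩, by rw [hA, Subgroup.mem_subgroupOf]; exact Subgroup.mem_zpowers x⟩
    exact this
  have h1 : ∀ s ∈ (S : Subgroup L),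
      (⟨x, hxL⟩ : Subgroup.normalizer (L : Set G)) • s ∈ (S : Subgroup L) := by
    intro s hs
    have h2 := Subgroup.smul_mem_pointwise_smul s (⟨x, hxL⟩ : Subgroup.normalizer (L : Set G))
      (S : Subgroup L) hs
    rw [← Sylow.pointwise_smul_def, hfix] at h2
    exact h2
  rw [mem_normalizer_iff_map_conj]
  apply map_conj_eq_of_le
  rintro _ ⟨_, ⟨s, hs, rfl⟩, rfl⟩
  refine ⟨_, h1 s hs, ?_⟩
  rfl

theorem exists_invariant_sylow_of_inZStar {H : Type*} [Group H] [Finite H] {p q : ℕ}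
    [Fact p.Prime] [Fact q.Prime] (hqp : q ≠ p) (x : H) (hx : orderOf x = p)
    (hz : Cfsg.InZStar p x) :
    ∃ S : Sylow q H, x ∈ Subgroup.normalizer ((S : Subgroup H) : Set H) := by
  classical
  have hp' : p.Prime := Fact.out
  have hq' : q.Prime := Fact.out
  haveI hKn : (Cfsg.pPrimeCore p H).Normal := (pPrimeCore_mem p).1
  obtain ⟨S₁⟩ : Nonempty (Sylow q H) := inferInstance
  set L : Subgroup H := (S₁ : Subgroup H) ⊔ Cfsg.pPrimeCore p H with hL
  have hS₁cop : (Nat.card (S₁ : Subgroup H)).Coprime p := by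
    rw [S₁.card_eq_multiplicity]
    exact Nat.Coprime.pow_left _ ((Nat.coprime_primes hq' hp').mpr hqp)
  have hLcop : (Nat.card L).Coprime p := card_sup_coprime _ _ hS₁cop (card_pPrimeCore_coprime p)
  have hxL : x ∈ Subgroup.normalizer (L : Set H) := by
    rw [mem_normalizer_iff_map_conj]
    apply map_conj_eq_of_le
    rw [hL, Subgroup.map_sup]
    apply sup_le
    · rintro _ ⟨s, hs, rfl⟩
      simp only [MulEquiv.coe_toMonoidHom, MulAut.conj_apply]
      have h1 : x * s * x⁻¹ = (s * x * s⁻¹ * x⁻¹)⁻¹ * s := by group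
      rw [h1]
      exact Subgroup.mul_mem _
        (le_sup_right (a := (S₁ : Subgroup H)) (Subgroup.inv_mem _ (hz s)))
        (le_sup_left (b := Cfsg.pPrimeCore p H) hs)
    · have : (Cfsg.pPrimeCore p H).map (MulAut.conj x).toMonoidHom = Cfsg.pPrimeCore p H := by
        rw [← mem_normalizer_iff_map_conj, Subgroup.normalizer_eq_top_iff.mpr hKn]; trivial
      rw [this]; exact le_sup_right
  have hxp : IsPGroup p (Subgroup.zpowers x) := by
    apply IsPGroup.of_card (n := 1); rw [Nat.card_zpowers, hx, pow_one]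
  obtain ⟨S, hS⟩ := exists_invariant_sylow (q := q) x hxp L hxL hLcop
  have hcard : Nat.card ((S : Subgroup L).map L.subtype) = q ^ (Nat.card H).factorization q := by
    rw [Subgroup.card_map_of_injective L.subtype_injective, S.card_eq_multiplicity]
    congr 1
    apply le_antisymm
    · exact (Nat.factorization_le_iff_dvd Nat.card_pos.ne' Nat.card_pos.ne').mpr
        (Subgroup.card_subgroup_dvd_card L) q
    · have h1 : Nat.card (S₁ : Subgroup H) ∣ Nat.card L := Subgroup.card_dvd_of_le le_sup_left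
      rw [S₁.card_eq_multiplicity] at h1
      exact (hq'.pow_dvd_iff_le_factorization Nat.card_pos.ne').mp h1
  refine ⟨Sylow.ofCard _ hcard, ?_⟩
  rw [Sylow.coe_ofCard]
  exact hS

theorem centralizer_transitive {G : Type*} [Group G] [Finite G] {p q : ℕ} [Fact p.Prime]
    [Fact q.Prime] (x : G) (hx : orderOf x = p) (hiso : Cfsg.IsIsolated x) (S₁ S₂ : Sylow q G)
    (h₁ : x ∈ Subgroup.normalizer ((S₁ : Subgroup G) : Set G))
    (h₂ : x ∈ Subgroup.normalizer ((S₂ : Subgroup G) : Set G)) :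
    ∃ c ∈ Subgroup.centralizer ({x} : Set G),
      (S₁ : Subgroup G).map (MulAut.conj c).toMonoidHom = (S₂ : Subgroup G) := by
  classical
  obtain ⟨g, hg⟩ := MulAction.exists_smul_eq G S₁ S₂
  have hg' : (S₁ : Subgroup G).map (MulAut.conj g).toMonoidHom = S₂ := by
    rw [← sylow_smul_coe, hg]
  set H := Subgroup.normalizer ((S₁ : Subgroup G) : Set G) with hH
  have hyH : g⁻¹ * x * g ∈ H := by
    rw [← hg', normalizer_map_conj, mem_map_conj_iff] at h₂
    exact h₂
  have hxp : IsPGroup p (Subgroup.zpowers (⟨x, h₁⟩ : H)) := by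
    apply IsPGroup.of_card (n := 1)
    rw [Nat.card_zpowers, pow_one, ← hx, ← Subgroup.orderOf_coe]
  have hyo : orderOf (g⁻¹ * x * g) = p := by
    rw [← hx]
    have := (MulAut.conj g⁻¹).orderOf_eq x
    simpa [MulAut.conj_apply] using this
  have hyp : IsPGroup p (Subgroup.zpowers (⟨g⁻¹ * x * g, hyH⟩ : H)) := by
    apply IsPGroup.of_card (n := 1)
    rw [Nat.card_zpowers, pow_one, ← hyo, ← Subgroup.orderOf_coe]
  obtain ⟨P₀, hP₀⟩ := hxp.exists_le_sylow
  obtain ⟨P₁, hP₁⟩ := hyp.exists_le_sylow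
  obtain ⟨h, hh⟩ := MulAction.exists_smul_eq H P₁ P₀
  have hxP₀ : (⟨x, h₁⟩ : H) ∈ (P₀ : Subgroup H) := hP₀ (Subgroup.mem_zpowers _)
  have hyP₀ : h * ⟨g⁻¹ * x * g, hyH⟩ * h⁻¹ ∈ (P₀ : Subgroup H) := by
    rw [← hh, sylow_smul_coe]
    exact ⟨_, hP₁ (Subgroup.mem_zpowers _), by simp [MulAut.conj_apply]⟩
  have hPp : IsPGroup p ((P₀ : Subgroup H).map H.subtype) := P₀.2.map _
  have hcomm := isolated_central_in_pgroup x hiso _ hPp ⟨_, hxP₀, rfl⟩
    ((h : G) * (g⁻¹ * x * g) * (h : G)⁻¹) ⟨_, hyP₀, by simp⟩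
  have hconj : ((h : G) * g⁻¹) * x * ((h : G) * g⁻¹)⁻¹ = x := by
    apply hiso
    show x * (((h : G) * g⁻¹) * x * ((h : G) * g⁻¹)⁻¹) =
      (((h : G) * g⁻¹) * x * ((h : G) * g⁻¹)⁻¹) * x
    have e : ((h : G) * g⁻¹) * x * ((h : G) * g⁻¹)⁻¹ = (h : G) * (g⁻¹ * x * g) * (h : G)⁻¹ := by
      group
    rw [e]; exact hcomm.symm
  refine ⟨g * (h : G)⁻¹, ?_, ?_⟩
  · rw [Subgroup.mem_centralizer_iff]
    intro y hy
    rw [Set.mem_singleton_iff] at hy; subst hy
    have e2 : (g * (h : G)⁻¹) = ((h : G) * g⁻¹)⁻¹ := by group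
    rw [e2]
    calc y * ((h : G) * g⁻¹)⁻¹
        = ((h : G) * g⁻¹)⁻¹ * (((h : G) * g⁻¹) * y * ((h : G) * g⁻¹)⁻¹) := by group
      _ = ((h : G) * g⁻¹)⁻¹ * y := by rw [hconj]
  · rw [← hg', ← map_conj_conj]
    congr 1
    rw [← mem_normalizer_iff_map_conj]
    exact Subgroup.inv_mem _ h.2

theorem part_a {G : Type*} [Group G] [Finite G] {p : ℕ} [Fact p.Prime] (x : G)
    (hx : orderOf x = p)
    (hcore : Cfsg.pPrimeCore p G = ⊥)
    (hmin : ∀ (H : Subgroup G) (hxH : x ∈ H), H ≠ ⊤ → Cfsg.InZStar p (⟨x, hxH⟩ : ↥H))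
    (q : ℕ) [Fact q.Prime] (Q : Subgroup G) (hQ : IsPGroup q ↥Q)
    (hxQ : x ∈ Subgroup.normalizer (Q : Set G))
    (hmax : ∀ R : Subgroup G, IsPGroup q ↥R → x ∈ Subgroup.normalizer (R : Set G) → Q ≤ R → R = Q) :
    Q = ⊥ ∨ ∃ S : Sylow q G, (S : Subgroup G) = Q := by
  classical
  have hp' : p.Prime := Fact.out
  have hq' : q.Prime := Fact.out
  by_cases hqp : q = p
  · subst hqp
    right
    have hxp : IsPGroup q (Subgroup.zpowers x) := by
      apply IsPGroup.of_card (n := 1); rw [Nat.card_zpowers, hx, pow_one]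
    have h1 : IsPGroup q (Q ⊔ Subgroup.zpowers x : Subgroup G) :=
      IsPGroup.to_sup_of_normal_left' hQ hxp (Subgroup.zpowers_le.mpr hxQ)
    obtain ⟨P, hP⟩ := h1.exists_le_sylow
    refine ⟨P, ?_⟩
    exact hmax P P.2 (Subgroup.le_normalizer (hP (le_sup_right (a := Q) (Subgroup.mem_zpowers x))))
      (le_sup_left.trans hP)
  · by_cases hQb : Q = ⊥
    · left; exact hQb
    right
    have hQcop : (Nat.card Q).Coprime p := by
      obtain ⟨k, hk⟩ := IsPGroup.iff_card.mp hQ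
      rw [hk]
      exact Nat.Coprime.pow_left _ ((Nat.coprime_primes hq' hp').mpr hqp)
    set H := Subgroup.normalizer (Q : Set G) with hH
    have hHne : H ≠ ⊤ := by
      intro h
      apply hQb
      have h1 := le_pPrimeCore (p := p) Q (Subgroup.normalizer_eq_top_iff.mp h) hQcop
      rw [hcore] at h1
      exact le_bot_iff.mp h1
    have hz := hmin H hxQ hHne
    have hxo : orderOf (⟨x, hxQ⟩ : H) = p := by rw [← hx, ← Subgroup.orderOf_coe]
    obtain ⟨S, hS⟩ := exists_invariant_sylow_of_inZStar (q := q) hqp (⟨x, hxQ⟩ : H) hxo hz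
    set S' : Subgroup G := (S : Subgroup H).map H.subtype with hS'
    have hxS' : x ∈ Subgroup.normalizer (S' : Set G) := by
      rw [mem_normalizer_iff_map_conj]
      apply map_conj_eq_of_le
      rintro _ ⟨_, ⟨s, hs, rfl⟩, rfl⟩
      refine ⟨(⟨x, hxQ⟩ : H) * s * (⟨x, hxQ⟩ : H)⁻¹, ?_, by simp⟩
      exact (Subgroup.mem_normalizer_iff.mp hS s).mp hs
    have hS'q : IsPGroup q S' := S.2.map _
    have hS'H : S' ≤ H := Subgroup.map_subtype_le _
    have hQS' : IsPGroup q (Q ⊔ S' : Subgroup G) :=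
      IsPGroup.to_sup_of_normal_left' hQ hS'q hS'H
    have hR := hmax (Q ⊔ S') hQS' (mem_normalizer_sup' _ _ x hxQ hxS') le_sup_left
    have hS'Q : S' ≤ Q := by rw [← hR]; exact le_sup_right
    have hS'card : Nat.card S' = q ^ (Nat.card H).factorization q := by
      rw [hS', Subgroup.card_map_of_injective H.subtype_injective, S.card_eq_multiplicity]
    obtain ⟨P, hP⟩ := hQ.exists_le_sylow
    refine ⟨P, ?_⟩
    by_contra hne
    have hlt : Q < (P : Subgroup G) := lt_of_le_of_ne hP (fun h => hne h.symm)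
    obtain ⟨g, hgP, hgN, hgQ⟩ := exists_mem_normalizer_not_mem Q (P : Subgroup G) P.2 hlt
    have hgq : IsPGroup q (Subgroup.zpowers g) :=
      P.2.to_le (Subgroup.zpowers_le.mpr hgP)
    have hRq : IsPGroup q (Q ⊔ Subgroup.zpowers g : Subgroup G) :=
      IsPGroup.to_sup_of_normal_left' hQ hgq (Subgroup.zpowers_le.mpr hgN)
    have hRH : Q ⊔ Subgroup.zpowers g ≤ H :=
      sup_le Subgroup.le_normalizer (Subgroup.zpowers_le.mpr hgN)
    obtain ⟨j, hj⟩ := IsPGroup.iff_card.mp hRq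
    have hjle : j ≤ (Nat.card H).factorization q := by
      have h1 : Nat.card (Q ⊔ Subgroup.zpowers g : Subgroup G) ∣ Nat.card H :=
        Subgroup.card_dvd_of_le hRH
      rw [hj] at h1
      exact (hq'.pow_dvd_iff_le_factorization Nat.card_pos.ne').mp h1
    have hQR : Q < Q ⊔ Subgroup.zpowers g := by
      apply lt_of_le_of_ne le_sup_left
      intro h
      apply hgQ
      rw [h]
      exact le_sup_right (a := Q) (Subgroup.mem_zpowers g)
    have hcardlt : Nat.card Q < Nat.card (Q ⊔ Subgroup.zpowers g : Subgroup G) := by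
      by_contra hge
      exact hQR.ne (Subgroup.eq_of_le_of_card_ge hQR.le (not_lt.mp hge))
    have h3 : Nat.card S' ≤ Nat.card Q :=
      Nat.le_of_dvd Nat.card_pos (Subgroup.card_dvd_of_le hS'Q)
    have h4 : q ^ j ≤ q ^ (Nat.card H).factorization q :=
      Nat.pow_le_pow_right hq'.pos hjle
    rw [hS'card] at h3
    rw [hj] at hcardlt
    omega

end Aux

theorem result {G : Type*} [Group G] [Finite G] {p : ℕ} [Fact p.Prime] (x : G) (hx : orderOf x = p) (hiso : Cfsg.IsIsolated x) (hnz : ¬ Cfsg.InZStar p x) (hmin : ∀ (H : Subgroup G) (hxH : x ∈ H), H ≠ ⊤ → Cfsg.InZStar p (⟨x, hxH⟩ : ↥H)) (hquot : ∀ (N : Subgroup G) [N.Normal], N ≠ ⊥ → Cfsg.InZStar p (QuotientGroup.mk x : G ⧸ N)) (q : ℕ) [Fact q.Prime] : (∀ Q : Subgroup G, IsPGroup q ↥Q → x ∈ Subgroup.normalizer (Q : Set G) → (∀ R : Subgroup G, IsPGroup q ↥R → x ∈ Subgroup.normalizer (R : Set G) → Q ≤ R → R = Q) → Q = ⊥ ∨ ∃ S : Sylow q G, (S : Subgroup G) = Q) ∧ (∀ S₁ S₂ : Sylow q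 G, x ∈ Subgroup.normalizer ((S₁ : Subgroup G) : Set G) → x ∈ Subgroup.normalizer ((S₂ : Subgroup G) : Set G) → ∃ c ∈ Subgroup.centralizer ({x} : Set G), (S₁ : Subgroup G).map (MulAut.conj c).toMonoidHom = (S₂ : Subgroup G)) := by
  have hcore := Cfsg.Agent.S2972.core_bot x hnz hquot
  refine ⟨?_, ?_⟩
  · intro Q hQ hxQ hmax
    exact part_a x hx hcore hmin q Q hQ hxQ hmax
  · intro S₁ S₂ h₁ h₂
    exact centralizer_transitive x hx hiso S₁ S₂ h₁ h₂

end Cfsg.Agent.S2975
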