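import Cfsg.Statements.S2998
import Cfsg.Agent.Lib.Helper5.SPE
import Cfsg.Agent.Lib.Helper5.SylowLib
import Cfsg.Agent.Lib.Helper5.YL2

set_option autoImplicit false
open Cfsg

namespace Cfsg.Agent.S2998

theorem result {G : Type*} [Group G] [Finite G] {p : ℕ} [Fact p.Prime] (P : Sylow p G) (x : G) (hxP : x ∈ (P : Subgroup G)) (hlc : ∀ R : Subgroup G, R ≤ (P : Subgroup G) → R ≠ ⊥ → Subgroup.normalizer (R : Set G) ≤ Subgroup.centralizer ({x} : Set G)) : (P : Subgroup G) ≤ Subgroup.centralizer ({x} : Set G) ∧ (∀ g : G, g * x * g⁻¹ ∈ (P : Subgroup G) → g * x * g⁻¹ = x) ∧ ∀ (N : Subgroup G) [N.Normal], ∀ R : Subgroup (G ⧸ N), R ≤ (P : Subgroup G).map (QuotientGroup.mk' N) → R ≠ ⊥ → Subgroup.normalizer (R : Set (G ⧸ N)) ≤ Subgroup.centralizer ({(QuotientGroup.mk x : G ⧸ N)} : Set (G ⧸ N)) := by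
  classical
  have hp : p.Prime := Fact.out
  set M := Subgroup.centralizer ({x} : Set G) with hM
  have hmemM : ∀ g : G, g ∈ M ↔ g * x = x * g := fun g => Subgroup.mem_centralizer_singleton_iff
  -- the case x = 1
  by_cases hx1 : x = 1
  · subst hx1
    have hall : ∀ g : G, g ∈ M := fun g => by rw [hmemM]; simp
    refine ⟨fun g _ => hall g, fun g _ => by simp, ?_⟩
    intro N _ R _ _ g _
    rw [Subgroup.mem_centralizer_singleton_iff]
    simp
  have hP1 : (P : Subgroup G) ≠ ⊥ := by
    intro h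
    apply hx1
    have := hxP
    rw [h, Subgroup.mem_bot] at this
    exact this
  have hPM : (P : Subgroup G) ≤ M := Subgroup.le_normalizer.trans (hlc _ le_rfl hP1)
  -- the case M = ⊤
  by_cases hMtop : M = ⊤
  · have hall : ∀ g : G, g ∈ M := fun g => by rw [hMtop]; exact Subgroup.mem_top g
    refine ⟨hPM, ?_, ?_⟩
    · intro g _
      have := (hmemM g).mp (hall g)
      rw [this]; group
    · intro N _ R _ _ g _
      obtain ⟨g, rfl⟩ := QuotientGroup.mk_surjective g
      rw [Subgroup.mem_centralizer_singleton_iff]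
      have := (hmemM g).mp (hall g)
      rw [← QuotientGroup.mk_mul, ← QuotientGroup.mk_mul, this]
  -- M is strongly p-embedded
  have hdvd : p ∣ Nat.card G := by
    obtain ⟨k, hk⟩ := P.isPGroup' ⟨x, hxP⟩
    have hk' : x ^ p ^ k = 1 := by
      have := congrArg Subtype.val hk
      simpa using this
    have h1 : orderOf x ∣ p ^ k := orderOf_dvd_of_pow_eq_one hk'
    obtain ⟨j, _, hj⟩ := (Nat.dvd_prime_pow hp).mp h1
    have hj0 : j ≠ 0 := by
      intro h0
      rw [h0, pow_zero, orderOf_eq_one_iff] at hj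
      exact hx1 hj
    have : p ∣ orderOf x := by rw [hj]; exact dvd_pow_self p hj0
    exact this.trans (orderOf_dvd_natCard x)
  have hspe : Cfsg.IsStronglyPEmbedded p M :=
    ⟨hdvd, hMtop, P, (Cfsg.Agent.Lib.Helper5.kGeneratedCore_one_le_iff (P : Subgroup G) M P.isPGroup').mpr
      (fun Q hQP hQ1 => hlc Q hQP hQ1)⟩
  have hNC := Cfsg.Agent.Lib.Helper5.normCond_of_spe hspe
  have hxM : x ∈ M := hPM hxP
  refine ⟨hPM, ?_, ?_⟩
  · intro g hg
    have hzp : IsPGroup p (Subgroup.zpowers x) := P.isPGroup'.to_le ((Subgroup.zpowers_le).mpr hxP)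
    have hz1 : Subgroup.zpowers x ≠ ⊥ := by
      rw [Ne, Subgroup.zpowers_eq_bot]
      exact hx1
    have hgM : g ∈ M := by
      apply hNC.mem_of_conj_le (Subgroup.zpowers x) ((Subgroup.zpowers_le).mpr hxM) hzp hz1 g
      rw [MonoidHom.map_zpowers, Subgroup.zpowers_le]
      apply hPM
      simpa using hg
    have := (hmemM g).mp hgM
    rw [this]; group
  · intro N _ R hR hR1 gbar hgbar
    obtain ⟨g, rfl⟩ := QuotientGroup.mk_surjective gbar
    rw [Subgroup.mem_centralizer_singleton_iff]
    -- it suffices to write mk g = mk m with m ∈ M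
    suffices h : ∃ m ∈ M, (QuotientGroup.mk g : G ⧸ N) = QuotientGroup.mk m by
      obtain ⟨m, hm, hgm⟩ := h
      rw [hgm, ← QuotientGroup.mk_mul, ← QuotientGroup.mk_mul, (hmemM m).mp hm]
    by_cases hpN : p ∣ Nat.card N
    · -- Frattini
      obtain ⟨P', hP'⟩ := Cfsg.Agent.Lib.Helper5.exists_sylow_inf_normal P N
      have hP'1 : (P' : Subgroup N) ≠ ⊥ := P'.ne_bot_of_dvd_card hpN
      have hPN1 : (P : Subgroup G) ⊓ N ≠ ⊥ := by
        rw [← hP']
        intro h
        rw [Subgroup.map_eq_bot_iff_of_injective _ N.subtype_injective] at h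
        exact hP'1 h
      have h1 := hlc _ inf_le_left hPN1
      have h2 := Cfsg.Agent.Lib.Helper5.frattini_inf_normal P N
      have hg : g ∈ Subgroup.normalizer ((((P : Subgroup G) ⊓ N : Subgroup G)) : Set G) ⊔ N := by
        rw [h2]; exact Subgroup.mem_top g
      have hNN : Subgroup.normalizer (N : Set G) = ⊤ := Subgroup.normalizer_eq_top_iff.mpr inferInstance
      obtain ⟨a, ha, n, hn, rfl⟩ :=
        (Cfsg.Agent.Lib.Helper5.mem_sup_of_le_normalizer _ N (by rw [hNN]; exact le_top) g).mp hg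
      exact ⟨a, h1 ha, QuotientGroup.mk_mul_of_mem a hn⟩
    · -- N is a p'-group
      have hNcop : (Nat.card N).Coprime p := (Nat.Coprime.symm ((Nat.Prime.coprime_iff_not_dvd hp).mpr hpN))
      set π := QuotientGroup.mk' N with hπ
      set K := R.comap π with hK
      set R₀ := (P : Subgroup G) ⊓ K with hR₀
      have hR₀p : IsPGroup p R₀ := P.isPGroup'.to_inf_left
      -- every element of K is r * n
      have hKdec : ∀ b ∈ K, ∃ r ∈ R₀, ∃ n ∈ N, b = r * n := by
        intro b hb
        have hb' : π b ∈ R := hb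
        obtain ⟨r, hr, hrb⟩ := hR hb'
        have hrK : r ∈ K := by
          show π r ∈ R
          rw [hrb]; exact hb'
        refine ⟨r, ⟨hr, hrK⟩, r⁻¹ * b, ?_, by group⟩
        have : π (r⁻¹ * b) = 1 := by rw [map_mul, map_inv, hrb]; group
        rwa [hπ, QuotientGroup.mk'_apply, QuotientGroup.eq_one_iff] at this
      have hmax : Cfsg.Agent.Lib.Helper5.IsMaxPIn p K R₀ := by
        refine ⟨inf_le_right, hR₀p, ?_⟩
        intro B hB hBK hRB
        apply le_antisymm _ hRB
        intro b hb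
        obtain ⟨r, hr, n, hn, rfl⟩ := hKdec b (hBK hb)
        have hnB : n ∈ B := by
          have : n = r⁻¹ * (r * n) := by group
          rw [this]
          exact B.mul_mem (B.inv_mem (hRB hr)) hb
        have hn1 : n = 1 := by
          obtain ⟨k, hk⟩ := hB ⟨n, hnB⟩
          have hk' : n ^ p ^ k = 1 := by
            have := congrArg Subtype.val hk
            simpa using this
          have h1 : orderOf n ∣ p ^ k := orderOf_dvd_of_pow_eq_one hk'
          have h2 : orderOf n ∣ Nat.card N := by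
            have := orderOf_dvd_natCard (⟨n, hn⟩ : N)
            rwa [Subgroup.orderOf_mk] at this
          have h3 : (orderOf n).Coprime (orderOf n) :=
            Nat.Coprime.coprime_dvd_left h2 (Nat.Coprime.coprime_dvd_right h1 (Nat.Coprime.pow_right k hNcop))
          rw [Nat.coprime_self] at h3
          exact orderOf_eq_one_iff.mp h3
        rw [hn1, mul_one]
        exact hr
      have hR₀1 : R₀ ≠ ⊥ := by
        intro h
        apply hR1
        rw [eq_bot_iff]
        intro q hq
        obtain ⟨r, hr, hrq⟩ := hR hq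
        have hrK : r ∈ K := by
          show π r ∈ R
          rw [hrq]; exact hq
        have : r ∈ R₀ := ⟨hr, hrK⟩
        rw [h, Subgroup.mem_bot] at this
        rw [Subgroup.mem_bot, ← hrq, this, map_one]
      -- g normalizes K
      have hgK : g ∈ Subgroup.normalizer (K : Set G) := by
        have := Subgroup.le_normalizer_comap π (H := R)
        apply this
        exact hgbar
      have hKg : K.map (MulAut.conj g).toMonoidHom = K :=
        (Cfsg.Agent.Lib.Helper5.mem_normalizer_iff_map_conj K g).mp hgK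
      have hmax2 := hmax.map_conj g
      rw [hKg] at hmax2
      obtain ⟨k, hkK, hk⟩ := hmax.conj hmax2
      -- k⁻¹ g normalizes R₀
      have hn : k⁻¹ * g ∈ Subgroup.normalizer (R₀ : Set G) := by
        rw [Cfsg.Agent.Lib.Helper5.mem_normalizer_iff_map_conj]
        have : (MulAut.conj (k⁻¹ * g)).toMonoidHom =
            (MulAut.conj k⁻¹).toMonoidHom.comp (MulAut.conj g).toMonoidHom := by
          ext z; simp [mul_assoc]
        rw [this, ← Subgroup.map_map, ← hk, Cfsg.Agent.Lib.Helper5.map_conj_inv_conj]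
      have hnM : k⁻¹ * g ∈ M := hlc R₀ inf_le_left hR₀1 hn
      obtain ⟨r, hr, n, hn', rfl⟩ := hKdec k hkK
      refine ⟨r * (n⁻¹ * r⁻¹ * g), M.mul_mem (hPM hr.1) (by simpa [mul_assoc] using hnM), ?_⟩
      rw [QuotientGroup.eq]
      have : g⁻¹ * (r * (n⁻¹ * r⁻¹ * g)) = g⁻¹ * (r * n⁻¹ * r⁻¹) * g := by group
      rw [this]
      have hN : N.Normal := inferInstance
      have h1 := hN.conj_mem _ (N.inv_mem hn') r
      have h2 := hN.conj_mem _ h1 g⁻¹
      simpa using h2

end Cfsg.Agent.S2998
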