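import Cfsg.Statements.S3003
import Cfsg.Agent.Lib.Helper5.CopGen3

set_option autoImplicit false
open Cfsg

namespace Cfsg.Agent.S3003

theorem isCoatom_of_index_prime {G : Type*} [Group G] [Finite G] (M : Subgroup G)
    (h : M.index.Prime) : IsCoatom M := by
  constructor
  · intro htop
    rw [htop, Subgroup.index_top] at h
    exact Nat.not_prime_one h
  · intro K hK
    have h1 : K.index ∣ M.index := Subgroup.index_dvd_of_le hK.le
    rcases (Nat.dvd_prime h).mp h1 with h2 | h2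
    · exact Subgroup.index_eq_one.mp h2
    · exfalso
      have e1 := Subgroup.card_mul_index M
      have e2 := Subgroup.card_mul_index K
      rw [h2] at e2
      have hpos : 0 < M.index := h.pos
      have : Nat.card M = Nat.card K := by
        have : Nat.card M * M.index = Nat.card K * M.index := by rw [e1, e2]
        exact Nat.eq_of_mul_eq_mul_right hpos this
      have : M = K := Subgroup.eq_of_le_of_card_ge hK.le (by rw [this])
      exact hK.ne this

theorem part1 {G : Type*} [Group G] [Finite G] {p : ℕ} [Fact p.Prime] (Q : Subgroup G)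
    (hQp : IsPGroup p ↥Q) (hlarge : Cfsg.IsLarge Q) (G₁ : Subgroup G) (hQG : Q ≤ G₁)
    (R : Subgroup G) (hR : (Nat.card ↥R).Coprime p)
    (hGR : G₁ ≤ Subgroup.normalizer (R : Set G)) (U : Subgroup G)
    (h : ∃ x ∈ U, x ≠ 1 ∧ ∃ g ∈ G₁, g * x * g⁻¹ ∈ Q ⊓ Subgroup.centralizer (Q : Set G)) :
    R ⊓ Subgroup.centralizer (U : Set G) = ⊥ := by
  obtain ⟨x, hxU, hx1, g, hg, hz⟩ := h
  have hQR : Q ⊓ R = ⊥ := by
    obtain ⟨k, hk⟩ := IsPGroup.iff_card.mp hQp
    apply (Subgroup.disjoint_of_coprime_natCard _).eq_bot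
    rw [hk]
    exact (hR.symm).pow_left k
  set z := g * x * g⁻¹ with hzdef
  have hz1 : z ≠ 1 := by
    intro h
    apply hx1
    have : x = g⁻¹ * z * g := by rw [hzdef]; group
    rw [this, h]; group
  -- any element of R commuting with z is trivial
  have key : ∀ r ∈ R, r * z = z * r → r = 1 := by
    intro r hrR hrz
    have hZC : Subgroup.zpowers z ≤ Subgroup.centralizer (Q : Set G) :=
      Subgroup.zpowers_le.mpr hz.2
    have hZne : Subgroup.zpowers z ≠ ⊥ := by
      intro h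
      exact hz1 (Subgroup.zpowers_eq_bot.mp h)
    have hN := hlarge.2 (Subgroup.zpowers z) hZC hZne
    have hrN : r ∈ Subgroup.normalizer ((Subgroup.zpowers z : Subgroup G) : Set G) := by
      apply Subgroup.centralizer_le_normalizer
      rw [Subgroup.mem_centralizer_iff]
      intro y hy
      obtain ⟨k, rfl⟩ := hy
      exact ((Commute.zpow_right (show Commute r z from hrz) k).eq).symm
    have hrNQ : r ∈ Subgroup.normalizer (Q : Set G) := hN hrN
    have hrC : r ∈ Subgroup.centralizer (Q : Set G) := by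
      rw [Subgroup.mem_centralizer_iff]
      intro q hq
      have h1 : r * q * r⁻¹ ∈ Q := (Subgroup.mem_normalizer_iff.mp hrNQ q).mp hq
      have h2 : q * r⁻¹ * q⁻¹ ∈ R :=
        (Subgroup.mem_normalizer_iff.mp (hGR (hQG hq)) r⁻¹).mp (R.inv_mem hrR)
      have h3 : r * q * r⁻¹ * q⁻¹ ∈ Q ⊓ R := by
        refine ⟨Q.mul_mem h1 (Q.inv_mem hq), ?_⟩
        have : r * q * r⁻¹ * q⁻¹ = r * (q * r⁻¹ * q⁻¹) := by group
        rw [this]
        exact R.mul_mem hrR h2
      rw [hQR, Subgroup.mem_bot] at h3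
      have : r * q = (r * q * r⁻¹ * q⁻¹) * (q * r) := by group
      rw [this, h3, one_mul]
    have : r ∈ Q ⊓ R := ⟨hlarge.1 hrC, hrR⟩
    rw [hQR, Subgroup.mem_bot] at this
    exact this
  rw [eq_bot_iff]
  rintro r ⟨hrR, hrU⟩
  rw [Subgroup.mem_bot]
  have hrx : x * r = r * x := (Subgroup.mem_centralizer_iff.mp hrU) x hxU
  have h1 : g * r * g⁻¹ ∈ R := (Subgroup.mem_normalizer_iff.mp (hGR hg) r).mp hrR
  have h2 : (g * r * g⁻¹) * z = z * (g * r * g⁻¹) := by
    rw [hzdef]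
    have e1 : g * r * g⁻¹ * (g * x * g⁻¹) = g * (r * x) * g⁻¹ := by group
    have e2 : g * x * g⁻¹ * (g * r * g⁻¹) = g * (x * r) * g⁻¹ := by group
    rw [e1, e2, hrx]
  have h3 := key _ h1 h2
  have : r = g⁻¹ * (g * r * g⁻¹) * g := by group
  rw [this, h3]; group

theorem result {G : Type*} [Group G] [Finite G] {p : ℕ} [Fact p.Prime] (Q : Subgroup G) (hQp : IsPGroup p ↥Q) (hlarge : Cfsg.IsLarge Q) (G₁ : Subgroup G) (hQG : Q ≤ G₁) (R : Subgroup G) (hR : (Nat.card ↥R).Coprime p) (hGR : G₁ ≤ Subgroup.normalizer (R : Set G)) (U : Subgroup G) (hUG : U ≤ G₁) (hUp : IsPGroup p ↥U) : ((∃ x ∈ U, x ≠ 1 ∧ ∃ g ∈ G₁, g * x * g⁻¹ ∈ Q ⊓ Subgroup.centralizer (Q : Set G)) → R ⊓ Subgroup.centralizer (U : Set G) = ⊥) ∧ (Cfsg.IsElementaryAbelian p U → p ^ 2 ≤ Nat.card ↥U → (∀ U₀ : Subgroup G, U₀ ≤ U → IsCoatom (U₀.subgroupOf U) → ∃ x ∈ U₀, x ≠ 1 ∧ ∃ g ∈ G₁, g * x * g⁻¹ ∈ Q ⊓ Subgroup.centralizer (Q : Set G)) → R = ⊥) := by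
  refine ⟨fun h => part1 Q hQp hlarge G₁ hQG R hR hGR U h, ?_⟩
  intro hEA hcard hall
  have hp : p.Prime := Fact.out
  haveI := hEA.1
  have hcommU : ∀ a ∈ U, ∀ b ∈ U, a * b = b * a := by
    intro a ha b hb
    have := mul_comm' (⟨a, ha⟩ : ↥U) ⟨b, hb⟩
    exact congrArg Subtype.val this
  have hRp : ¬ p ∣ Nat.card R := by
    intro h
    have := Nat.dvd_gcd h (dvd_refl p)
    rw [hR] at this
    exact hp.one_lt.ne' (Nat.dvd_one.mp this)
  have hUR : U ≤ Subgroup.normalizer (R : Set G) := hUG.trans hGR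
  have hgen := Cfsg.Agent.Lib.Helper5.le_iSup_hyperplane p U R hcommU hEA.2 hRp hUR _ ⊥ bot_le rfl
  have e : R ⊓ Subgroup.centralizer (((⊥ : Subgroup G) : Subgroup G) : Set G) = R := by
    rw [inf_eq_left]
    intro x _
    rw [Subgroup.mem_centralizer_iff]
    intro z hz
    have : z = 1 := Subgroup.mem_bot.mp hz
    rw [this, one_mul, mul_one]
  rw [e] at hgen
  rw [eq_bot_iff]
  refine hgen.trans (iSup_le ?_)
  rintro ⟨B, hBU, hBrel⟩
  -- find a coatom U₀ of U with C_R(B) ≤ C_R(U₀)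
  have hex : ∃ U₀ : Subgroup G, U₀ ≤ B ∧ U₀ ≤ U ∧ IsCoatom (U₀.subgroupOf U) := by
    have hdvd : B.relIndex U ∣ Nat.card U := Subgroup.relIndex_dvd_card B U
    obtain ⟨k, hk⟩ := IsPGroup.iff_card.mp hUp
    rw [hk] at hdvd
    obtain ⟨j, hj, hjeq⟩ := (Nat.dvd_prime_pow hp).mp hdvd
    have hj1 : j ≤ 1 := by
      by_contra hcon
      have h2 : 2 ≤ j := by omega
      have : p ^ 2 ≤ p ^ j := Nat.pow_le_pow_right hp.pos h2
      have h3 : p < p ^ 2 := by
        rw [sq]; exact lt_mul_of_one_lt_left hp.pos hp.one_lt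
      omega
    rcases Nat.le_one_iff_eq_zero_or_eq_one.mp hj1 with h0 | h1
    · -- B = U: take any coatom
      rw [h0, pow_zero, Subgroup.relIndex_eq_one] at hjeq
      haveI : Nontrivial ↥U := by
        rw [← Finite.one_lt_card_iff_nontrivial]
        have : 1 < p ^ 2 := Nat.one_lt_pow (by norm_num) hp.one_lt
        omega
      rcases eq_top_or_exists_le_coatom (⊥ : Subgroup ↥U) with h | ⟨b, hb, _⟩
      · exact absurd h bot_ne_top
      · refine ⟨b.map U.subtype, (Subgroup.map_subtype_le b).trans hjeq, Subgroup.map_subtype_le b, ?_⟩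
        rw [Subgroup.subgroupOf, Subgroup.comap_map_eq_self_of_injective U.subtype_injective]
        exact hb
    · refine ⟨B, le_rfl, hBU, ?_⟩
      apply isCoatom_of_index_prime
      rw [h1, pow_one] at hjeq
      show (B.relIndex U).Prime
      rw [hjeq]; exact hp
  obtain ⟨U₀, hU₀B, hU₀U, hco⟩ := hex
  have h1 := part1 Q hQp hlarge G₁ hQG R hR hGR U₀ (hall U₀ hU₀U hco)
  rw [← h1]
  exact inf_le_inf_left _ (Subgroup.centralizer_le hU₀B)

end Cfsg.Agent.S3003
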