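import Cfsg.Statements.S3006
import Cfsg.Agent.Lib.Helper5.CL2

set_option autoImplicit false
open scoped Pointwise
open Cfsg

namespace Cfsg.Agent.S3006

theorem result {p : ℕ} [Fact p.Prime] (P : Type*) [Group P] [Finite P] (hP : IsPGroup p P) (Q A : Subgroup P) (hQ : Cfsg.IsCentrallyLarge Q) (hA : A ∈ Cfsg.maxAbelianSubgroups P) : ((Q ⊔ A : Subgroup P) : Set P) = (Q : Set P) * (A : Set P) ∧ Cfsg.IsCentrallyLarge (Q ⊔ A) ∧ (Q ⊔ A) ⊓ Subgroup.centralizer ((Q ⊓ A : Subgroup P) : Set P) = (Q ⊓ Subgroup.centralizer (Q : Set P)) ⊔ A ∧ (((Q ⊓ Subgroup.centralizer (Q : Set P)) ⊔ A : Subgroup P) : Set P) = ((Q ⊓ Subgroup.centralizer (Q : Set P)) : Set P) * (A : Set P) ∧ Subgroup.centralizer ((Cfsg.thompsonSubgroupA P ⊓ Subgroup.centralizer (Cfsg.thompsonSubgroupA P : Set P) : Subgroup P) : Set P) ≤ Cfsg.centrallyLargeJoin P := by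
  obtain ⟨h1, h2, _, _⟩ := Cfsg.Agent.Lib.Helper5.cl_mul_maxAbelian Q A hQ hA
  obtain ⟨h3, h4⟩ := Cfsg.Agent.Lib.Helper5.cl_maxAbelian_centralizer Q A hQ hA
  refine ⟨h1, h2, h3, h4, ?_⟩
  apply Cfsg.Agent.Lib.Helper5.centralizer_center_thompson_le _
    (Cfsg.Agent.Lib.Helper5.isCentrallyLarge_centrallyLargeJoin P)
  apply sSup_le
  intro A' hA'
  have h5 := (Cfsg.Agent.Lib.Helper5.cl_mul_maxAbelian (Cfsg.centrallyLargeJoin P) A'
    (Cfsg.Agent.Lib.Helper5.isCentrallyLarge_centrallyLargeJoin P) hA').2.1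
  have h6 : Cfsg.centrallyLargeJoin P ⊔ A' ≤ Cfsg.centrallyLargeJoin P := le_sSup h5
  exact le_sup_right.trans h6

end Cfsg.Agent.S3006
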