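import Cfsg.Statements.S3007
import Cfsg.Agent.Lib.Helper5.CL3

set_option autoImplicit false
open Cfsg

namespace Cfsg.Agent.S3007

theorem result {p : ℕ} [Fact p.Prime] (P : Type*) [Group P] [Finite P] (hP : IsPGroup p P) (Q R : Subgroup P) (hQ : Cfsg.IsMinimalCentrallyLarge Q) (hR : Cfsg.IsMinimalCentrallyLarge R) : (Q ⊓ R) ⊔ (Q ⊓ Subgroup.centralizer (Q : Set P)) = Q ∧ ⁅Q, Q⁆ = ⁅R, R⁆ ∧ Nat.card ↥Q = Nat.card ↥R ∧ Nat.card ↥(Q ⊓ Subgroup.centralizer (Q : Set P)) = Nat.card ↥(R ⊓ Subgroup.centralizer (R : Set P)) ∧ (IsMulCommutative ↥Q → ∀ X : Subgroup P, Cfsg.IsMinimalCentrallyLarge X ↔ X ∈ Cfsg.maxAbelianSubgroups P) := by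
  have hQ2 := (Cfsg.Agent.Lib.Helper5.isCentralizerLarge_of_isCentrallyLarge Q hQ.1).2
  have hR2 := (Cfsg.Agent.Lib.Helper5.isCentralizerLarge_of_isCentrallyLarge R hR.1).2
  obtain ⟨h2, h3, h4⟩ := Cfsg.Agent.Lib.Helper5.minCL_pair Q R hQ hR
  refine ⟨?_, h2, h3, ?_, fun hab X => Cfsg.Agent.Lib.Helper5.minCL_iff_maxAbelian Q hQ hab X⟩
  · rw [← hQ2]
    exact Cfsg.Agent.Lib.Helper5.minCL_eq Q R hQ hR.1
  · rw [← hQ2, ← hR2]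
    exact h4

end Cfsg.Agent.S3007
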