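import Cfsg.Statements.S3011
import Mathlib
import Cfsg.Agent.Lib.Helper2.Sidki

set_option autoImplicit false
open Cfsg

namespace Cfsg.Agent.S3011

/-- Let G be a finite group and V a nontrivial elementary abelian 2-subgroup of G of order at most 4 such that, whenever an element of V inverts an element h of G of odd order, some nontrivial element of V commutes with h. Then V meets O₂(G) nontrivially. (The case of order at most 4 has a short argument from the Baer–Suzuki theorem.) -/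
theorem result {G : Type*} [Group G] [Finite G] (V : Subgroup G) (hV : Cfsg.IsElementaryAbelian 2 V) (hV1 : V ≠ ⊥) (hS : Cfsg.IsSidkiPair V) (h4 : Nat.card V ≤ 4) : V ⊓ Cfsg.pCore 2 G ≠ ⊥ := by
  obtain ⟨hVc, hVsq⟩ := hV
  have hcomm : ∀ a ∈ V, ∀ b ∈ V, a * b = b * a := by
    intro a ha b hb
    have h1 : (⟨a, ha⟩ : V) * ⟨b, hb⟩ = ⟨b, hb⟩ * ⟨a, ha⟩ := hVc.is_comm.comm _ _
    exact congrArg Subtype.val h1
  obtain ⟨v, hvV, hv1, N, hN, hN2, hvN⟩ :=
    Cfsg.Agent.Lib.Helper2.Sidki.sidki_four V hcomm hVsq hV1 hS h4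
  intro hbot
  have hle : N ≤ Cfsg.pCore 2 G := le_sSup ⟨hN, hN2⟩
  have hmem : v ∈ V ⊓ Cfsg.pCore 2 G := ⟨hvV, hle hvN⟩
  rw [hbot] at hmem
  exact hv1 (Subgroup.mem_bot.1 hmem)


end Cfsg.Agent.S3011
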