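import Cfsg.Statements.S3012

set_option autoImplicit false
open Cfsg

namespace Cfsg.Agent.S3012

theorem result {G : Type*} [Group G] [Finite G] (V K : Subgroup G) [K.Normal] (hV : Cfsg.IsElementaryAbelian 2 V) (hV1 : V ≠ ⊥) (hS : Cfsg.IsSidkiPair V) (hVK : V ⊓ K = ⊥) : Cfsg.IsSidkiPair (V.map (QuotientGroup.mk' K)) := by
  obtain ⟨hVc, hV2⟩ := hV
  intro hbar vbar hvbar hodd hinv
  obtain ⟨v, hv, rfl⟩ := hvbar
  induction hbar using QuotientGroup.induction_on with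
  | H h₀ =>
  have hv2 : v⁻¹ = v := by
    have := hV2 v hv
    rw [pow_two] at this
    exact inv_eq_of_mul_eq_one_left this
  set c : G := h₀⁻¹ * (v * h₀ * v⁻¹) with hc
  have hcinv : v * c * v⁻¹ = c⁻¹ := by
    rw [hc]
    have hvv : v * v = 1 := by
      have := hV2 v hv
      rwa [pow_two] at this
    calc v * (h₀⁻¹ * (v * h₀ * v⁻¹)) * v⁻¹ = v * h₀⁻¹ * v * h₀ * (v * v)⁻¹ := by group
      _ = v * h₀⁻¹ * v * h₀ := by rw [hvv]; simp
      _ = v * h₀⁻¹ * v⁻¹ * h₀ := by rw [hv2]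
      _ = (h₀⁻¹ * (v * h₀ * v⁻¹))⁻¹ := by group
  have hcfin : orderOf c ≠ 0 := (isOfFinOrder_of_finite c).orderOf_pos.ne'
  obtain ⟨a, m, hm, hcm⟩ := Nat.exists_eq_two_pow_mul_odd hcfin
  have hc'ord : orderOf (c ^ 2 ^ a) = m := by
    rw [orderOf_pow' c (pow_ne_zero _ two_ne_zero), hcm, Nat.gcd_eq_right (Dvd.intro _ rfl),
      Nat.mul_div_cancel_left _ (pow_pos two_pos a)]
  have hc'inv : v * c ^ 2 ^ a * v⁻¹ = (c ^ 2 ^ a)⁻¹ := by
    rw [← conj_pow, hcinv, inv_pow]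
  obtain ⟨w, hw, hw1, hwc⟩ := hS (c ^ 2 ^ a) v hv (hc'ord ▸ hm) hc'inv
  refine ⟨QuotientGroup.mk' K w, Subgroup.mem_map_of_mem _ hw, ?_, ?_⟩
  · intro h1
    apply hw1
    have hwK : w ∈ K := by
      rwa [QuotientGroup.mk'_apply, QuotientGroup.eq_one_iff] at h1
    have : w ∈ V ⊓ K := ⟨hw, hwK⟩
    rw [hVK, Subgroup.mem_bot] at this
    exact this
  · have hπc : (QuotientGroup.mk' K c) = ((QuotientGroup.mk h₀ : G ⧸ K) ^ 2)⁻¹ := by
      have h1 : QuotientGroup.mk' K c =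
          (QuotientGroup.mk h₀ : G ⧸ K)⁻¹ * (QuotientGroup.mk' K v * (QuotientGroup.mk h₀ : G ⧸ K) *
            (QuotientGroup.mk' K v)⁻¹) := by
        rw [hc]
        simp
      rw [h1, hinv, pow_two, mul_inv_rev]
    have hcomm1 : Commute (QuotientGroup.mk' K w) (QuotientGroup.mk' K (c ^ 2 ^ a)) := by
      have : Commute w (c ^ 2 ^ a) := hwc
      exact this.map (QuotientGroup.mk' K)
    rw [map_pow, hπc, inv_pow, ← pow_mul] at hcomm1
    have hcomm2 : Commute (QuotientGroup.mk' K w) ((QuotientGroup.mk h₀ : G ⧸ K) ^ (2 * 2 ^ a)) := by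
      have := hcomm1.inv_right
      rwa [inv_inv] at this
    have hcop : (2 * 2 ^ a).Coprime (orderOf (QuotientGroup.mk h₀ : G ⧸ K)) := by
      rw [← pow_succ']
      exact Nat.Coprime.pow_left _ (Nat.coprime_two_left.mpr hodd)
    obtain ⟨b, hb⟩ := exists_pow_eq_self_of_coprime hcop
    have := hcomm2.pow_right b
    rw [hb] at this
    exact this

end Cfsg.Agent.S3012
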