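import Cfsg.Statements.S3013

set_option autoImplicit false
open Cfsg

namespace Cfsg.Agent.S3013

theorem result {G : Type*} [Group G] [Finite G] (V : Subgroup G) (hV : Cfsg.IsElementaryAbelian 2 V) (hV1 : V ≠ ⊥) (hS : Cfsg.IsSidkiPair V) (v x : G) (hv : v ∈ V) (hx : Odd (orderOf x)) (hinv : v * x * v⁻¹ = x⁻¹) (C : Subgroup G) (hC : C = Subgroup.centralizer ({v} : Set G) ⊓ Subgroup.centralizer ({x} : Set G)) : C ⊓ V ≠ ⊥ ∧ Cfsg.IsSidkiPair ((C ⊓ V).subgroupOf C) := by
  subst hC
  obtain ⟨hVc, hV2⟩ := hV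
  have hVcomm : ∀ a ∈ V, ∀ b ∈ V, a * b = b * a := by
    intro a ha b hb
    have := hVc.is_comm.comm ⟨a, ha⟩ ⟨b, hb⟩
    exact congrArg Subtype.val this
  have hmemC : ∀ w ∈ V, w * x = x * w → w ∈ Subgroup.centralizer ({v} : Set G) ⊓ Subgroup.centralizer ({x} : Set G) := by
    intro w hw hwx
    refine Subgroup.mem_inf.mpr ⟨?_, ?_⟩
    · rw [Subgroup.mem_centralizer_iff]
      intro y hy
      rw [Set.mem_singleton_iff] at hy
      subst hy
      exact hVcomm y hv w hw
    · rw [Subgroup.mem_centralizer_iff]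
      intro y hy
      rw [Set.mem_singleton_iff] at hy
      subst hy
      exact hwx.symm
  constructor
  · obtain ⟨w, hw, hw1, hwx⟩ := hS x v hv hx hinv
    intro hbot
    apply hw1
    have : w ∈ (Subgroup.centralizer ({v} : Set G) ⊓ Subgroup.centralizer ({x} : Set G)) ⊓ V := ⟨hmemC w hw hwx, hw⟩
    rw [hbot, Subgroup.mem_bot] at this
    exact this
  · intro h u hu hho hinvh
    rw [Subgroup.mem_subgroupOf] at hu
    have huV : (u : G) ∈ V := (Subgroup.mem_inf.mp hu).2
    have hhC : (h : G) ∈ Subgroup.centralizer ({v} : Set G) ⊓ Subgroup.centralizer ({x} : Set G) := h.2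
    have huC : (u : G) ∈ Subgroup.centralizer ({v} : Set G) ⊓ Subgroup.centralizer ({x} : Set G) := u.2
    have hhv : v * (h : G) = (h : G) * v := by
      have := (Subgroup.mem_inf.mp hhC).1
      rw [Subgroup.mem_centralizer_iff] at this
      exact this v (Set.mem_singleton v)
    have hhx : x * (h : G) = (h : G) * x := by
      have := (Subgroup.mem_inf.mp hhC).2
      rw [Subgroup.mem_centralizer_iff] at this
      exact this x (Set.mem_singleton x)
    have hux : x * (u : G) = (u : G) * x := by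
      have := (Subgroup.mem_inf.mp huC).2
      rw [Subgroup.mem_centralizer_iff] at this
      exact this x (Set.mem_singleton x)
    have hinvh' : (u : G) * (h : G) * (u : G)⁻¹ = (h : G)⁻¹ := by
      have := congrArg Subtype.val hinvh
      simpa using this
    have hho' : Odd (orderOf (h : G)) := by rwa [Subgroup.orderOf_coe]
    have hxh : Commute x (h : G) := hhx
    have hodd : Odd (orderOf (x * (h : G))) := by
      have hdvd := hxh.orderOf_mul_dvd_lcm
      have hl : Odd (Nat.lcm (orderOf x) (orderOf (h : G))) :=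
        Odd.of_dvd_nat (hx.mul hho') (Nat.lcm_dvd_mul _ _)
      exact Odd.of_dvd_nat hl hdvd
    have hinv2 : (v * (u : G)) * (x * (h : G)) * (v * (u : G))⁻¹ = (x * (h : G))⁻¹ := by
      calc (v * (u : G)) * (x * (h : G)) * (v * (u : G))⁻¹
          = v * (((u : G) * x) * ((h : G) * (u : G)⁻¹)) * v⁻¹ := by group
        _ = v * ((x * (u : G)) * ((h : G) * (u : G)⁻¹)) * v⁻¹ := by rw [hux]
        _ = v * (x * ((u : G) * (h : G) * (u : G)⁻¹)) * v⁻¹ := by group
        _ = v * (x * (h : G)⁻¹) * v⁻¹ := by rw [hinvh']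
        _ = (v * x * v⁻¹) * (v * (h : G) * v⁻¹)⁻¹ := by group
        _ = x⁻¹ * (v * (h : G) * v⁻¹)⁻¹ := by rw [hinv]
        _ = x⁻¹ * ((h : G) * v * v⁻¹)⁻¹ := by rw [hhv]
        _ = x⁻¹ * (h : G)⁻¹ := by group
        _ = ((h : G) * x)⁻¹ := by group
        _ = (x * (h : G))⁻¹ := by rw [hhx]
    obtain ⟨w, hw, hw1, hwc⟩ := hS (x * (h : G)) (v * (u : G)) (V.mul_mem hv huV) hodd hinv2
    have hwv : w * v = v * w := hVcomm w hw v hv
    have hwc2 : w * (x⁻¹ * (h : G)) = (x⁻¹ * (h : G)) * w := by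
      have h1 : x⁻¹ * (h : G) = v * (x * (h : G)) * v⁻¹ := by
        calc x⁻¹ * (h : G) = (v * x * v⁻¹) * ((h : G) * v * v⁻¹) := by rw [hinv]; group
          _ = (v * x * v⁻¹) * (v * (h : G) * v⁻¹) := by rw [hhv]
          _ = v * (x * (h : G)) * v⁻¹ := by group
      rw [h1]
      calc w * (v * (x * (h : G)) * v⁻¹) = (w * v) * (x * (h : G)) * v⁻¹ := by group
        _ = (v * w) * (x * (h : G)) * v⁻¹ := by rw [hwv]
        _ = v * (w * (x * (h : G))) * v⁻¹ := by group
        _ = v * ((x * (h : G)) * w) * v⁻¹ := by rw [hwc]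
        _ = v * (x * (h : G)) * (w * v⁻¹) := by group
        _ = v * (x * (h : G)) * (v⁻¹ * w) := by
            have : w * v⁻¹ = v⁻¹ * w := by
              calc w * v⁻¹ = v⁻¹ * (v * w) * v⁻¹ := by group
                _ = v⁻¹ * (w * v) * v⁻¹ := by rw [hwv]
                _ = v⁻¹ * w := by group
            rw [this]
        _ = v * (x * (h : G)) * v⁻¹ * w := by group
    have hwh2 : Commute w ((h : G) ^ 2) := by
      have h2 : (h : G) ^ 2 = (x * (h : G)) * (x⁻¹ * (h : G)) := by
        calc (h : G) ^ 2 = (h : G) * (h : G) := by rw [pow_two]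
          _ = (x * (h : G)) * x⁻¹ * (h : G) := by rw [hhx]; group
          _ = (x * (h : G)) * (x⁻¹ * (h : G)) := by group
      rw [h2]
      exact Commute.mul_right hwc hwc2
    have hwh : Commute w (h : G) := by
      obtain ⟨m, hm⟩ := hho'
      have h3 : (h : G) = ((h : G) ^ 2) ^ (m + 1) := by
        rw [← pow_mul]
        have : 2 * (m + 1) = orderOf (h : G) + 1 := by omega
        rw [this, pow_succ, pow_orderOf_eq_one, one_mul]
      rw [h3]
      exact hwh2.pow_right _
    have hwx : w * x = x * w := by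
      have h4 : x = (x * (h : G)) * (h : G)⁻¹ := by group
      have h5 : Commute w ((x * (h : G)) * (h : G)⁻¹) :=
        Commute.mul_right hwc hwh.inv_right
      rw [← h4] at h5
      exact h5
    have hwC := hmemC w hw hwx
    refine ⟨⟨w, hwC⟩, ?_, ?_, ?_⟩
    · rw [Subgroup.mem_subgroupOf]
      exact ⟨hwC, hw⟩
    · intro h1
      exact hw1 (congrArg Subtype.val h1)
    · apply Subtype.ext
      simp only [Subgroup.coe_mul]
      exact hwh

end Cfsg.Agent.S3013
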