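import Cfsg.Statements.S3014
import Cfsg.Agent.Lib.Helper5.Flavell

set_option autoImplicit false
open Cfsg

namespace Cfsg.Agent.S3014

theorem result {G : Type*} [Group G] [Finite G] (H M : Subgroup G) (hHM : H ≤ M) (hcl : ∀ g : G, (H ⊔ H.map (MulAut.conj g).toMonoidHom) ⊓ M = H) (hmaxH : IsCoatom (H.subgroupOf M)) (hmaxM : IsCoatom M) : Subgroup.normalClosure (H : Set G) ⊓ M = H := by
  obtain ⟨N, hN, hHN, hNM⟩ := Cfsg.Agent.Lib.Helper5.flavell_normal H M hHM hcl hmaxH hmaxM
  haveI := hN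
  apply le_antisymm
  · have h1 : Subgroup.normalClosure (H : Set G) ≤ N := Subgroup.normalClosure_le_normal hHN
    exact (inf_le_inf_right _ h1).trans hNM.le
  · exact le_inf Subgroup.le_normalClosure hHM

end Cfsg.Agent.S3014
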