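import Cfsg.Statements.S3015
import Cfsg.Agent.Lib.Helper5.Flavell
import Cfsg.Agent.Lib.Helper1.PGroupMax

set_option autoImplicit false
open Cfsg

namespace Cfsg.Agent.S3015

open Cfsg.Agent.Lib.Helper5

theorem isCoatom_of_prime_index {G : Type*} [Group G] [Finite G] (M : Subgroup G)
    (h : M.index.Prime) : IsCoatom M := by
  constructor
  · intro htop
    rw [htop, Subgroup.index_top] at h
    exact Nat.not_prime_one h
  · intro K hK
    have h1 : K.index ∣ M.index := Subgroup.index_dvd_of_le hK.le
    rcases (Nat.dvd_prime h).mp h1 with h2 | h2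
    · exact Subgroup.index_eq_one.mp h2
    · exfalso
      have e1 := Subgroup.card_mul_index M
      have e2 := Subgroup.card_mul_index K
      rw [h2] at e2
      have hpos : 0 < M.index := h.pos
      have : Nat.card M = Nat.card K := by
        have : Nat.card M * M.index = Nat.card K * M.index := by rw [e1, e2]
        exact Nat.eq_of_mul_eq_mul_right hpos this
      have : M = K := Subgroup.eq_of_le_of_card_ge hK.le (by rw [this])
      exact hK.ne this

theorem bad_case {G : Type*} [Group G] [Finite G] [IsSimpleGroup G] (M H : Subgroup G)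
    (hmaxM : IsCoatom M) (hHM : H ≤ M) [hHn : (H.subgroupOf M).Normal]
    (hp : (H.subgroupOf M).index.Prime)
    (hNMM : Subgroup.normalizer (M : Set G) = M) (t : G) (htM : t ∉ M)
    (hHtM : H.map (MulAut.conj t).toMonoidHom ≤ M) (hHbot : H ≠ ⊥) : False := by
  classical
  haveI : Fact (H.subgroupOf M).index.Prime := ⟨hp⟩
  set p := (H.subgroupOf M).index with hpdef
  have hMN : M ≤ Subgroup.normalizer (H : Set G) :=
    (Subgroup.normal_subgroupOf_iff_le_normalizer hHM).mp hHn
  have hMtop : M ≠ ⊤ := hmaxM.1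
  have hNH : Subgroup.normalizer (H : Set G) = M := by
    rcases eq_or_lt_of_le hMN with h | h
    · exact h.symm
    · exfalso
      have h2 : H.Normal := Subgroup.normalizer_eq_top_iff.mp (hmaxM.2 _ h)
      rcases h2.eq_bot_or_eq_top with h3 | h3
      · exact hHbot h3
      · apply hMtop
        rw [eq_top_iff, ← h3]
        exact hHM
  let S : Set G := {x | x ∈ M ∧ (orderOf x).Coprime p}
  have hSH : ∀ x ∈ S, x ∈ H := by
    intro x hx
    have h1 : orderOf (QuotientGroup.mk' (H.subgroupOf M) ⟨x, hx.1⟩) ∣ orderOf x := by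
      have := orderOf_map_dvd (QuotientGroup.mk' (H.subgroupOf M)) (⟨x, hx.1⟩ : M)
      rwa [← Subgroup.orderOf_coe] at this
    have h2 : orderOf (QuotientGroup.mk' (H.subgroupOf M) ⟨x, hx.1⟩) ∣ p := by
      have h := orderOf_dvd_natCard (QuotientGroup.mk' (H.subgroupOf M) ⟨x, hx.1⟩)
      rw [← Subgroup.index_eq_card] at h
      exact h
    have h3 : orderOf (QuotientGroup.mk' (H.subgroupOf M) ⟨x, hx.1⟩) = 1 :=
      Nat.eq_one_of_dvd_coprimes hx.2 h1 h2
    rw [orderOf_eq_one_iff, QuotientGroup.mk'_apply, QuotientGroup.eq_one_iff,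
      Subgroup.mem_subgroupOf] at h3
    exact h3
  have hconjS : ∀ g : G, (g ∈ M ∨ g = t) → ∀ x ∈ S, g * x * g⁻¹ ∈ S := by
    intro g hg x hx
    have hord : orderOf (g * x * g⁻¹) = orderOf x := by
      have := (MulAut.conj g).orderOf_eq x
      simpa [MulAut.conj_apply] using this
    refine ⟨?_, by rw [hord]; exact hx.2⟩
    rcases hg with hg | hg
    · exact M.mul_mem (M.mul_mem hg hx.1) (M.inv_mem hg)
    · subst hg
      apply hHtM
      exact ⟨x, hSH x hx, by simp [MulAut.conj_apply]⟩
  set R := Subgroup.closure S with hR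
  have hRH : R ≤ H := (Subgroup.closure_le _).mpr hSH
  have hnormR : ∀ g : G, (g ∈ M ∨ g = t) → g ∈ Subgroup.normalizer (R : Set G) := by
    intro g hg
    rw [mem_normalizer_iff_map_conj]
    apply map_conj_eq_of_le
    rw [Subgroup.map_le_iff_le_comap, hR, Subgroup.closure_le]
    intro x hx
    rw [SetLike.mem_coe, Subgroup.mem_comap]
    apply Subgroup.subset_closure
    have := hconjS g hg x hx
    simpa [MulAut.conj_apply] using this
  have hRbot : R = ⊥ := by
    have h1 : M < Subgroup.normalizer (R : Set G) := by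
      apply lt_of_le_of_ne
      · intro m hm; exact hnormR m (Or.inl hm)
      · intro h
        apply htM
        rw [h]
        exact hnormR t (Or.inr rfl)
    have h2 : R.Normal := Subgroup.normalizer_eq_top_iff.mp (hmaxM.2 _ h1)
    rcases h2.eq_bot_or_eq_top with h3 | h3
    · exact h3
    · exfalso
      apply hMtop
      rw [eq_top_iff, ← h3]
      exact hRH.trans hHM
  have hpg : IsPGroup p M := by
    intro m
    have hpos : orderOf (m : G) ≠ 0 := (orderOf_pos _).ne'
    obtain ⟨k, n', hn', hkn⟩ := Nat.exists_eq_pow_mul_and_not_dvd hpos p hp.ne_one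
    refine ⟨k, ?_⟩
    have h1 : (m : G) ^ p ^ k ∈ S := by
      refine ⟨M.pow_mem m.2 _, ?_⟩
      have h2 : orderOf ((m : G) ^ p ^ k) ∣ n' := by
        apply orderOf_dvd_of_pow_eq_one
        rw [← pow_mul, ← hkn, pow_orderOf_eq_one]
      have h3 : Nat.Coprime n' p := ((Nat.Prime.coprime_iff_not_dvd hp).mpr hn').symm
      exact Nat.Coprime.coprime_dvd_left h2 h3
    have h4 : (m : G) ^ p ^ k ∈ R := Subgroup.subset_closure h1
    rw [hRbot, Subgroup.mem_bot] at h4
    apply Subtype.ext
    rw [Subgroup.coe_pow, h4, Subgroup.coe_one]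
  -- index of the conjugate
  have hcardH : Nat.card (H.subgroupOf M) = Nat.card H :=
    Nat.card_congr (Subgroup.subgroupOfEquivOfLe hHM).toEquiv
  have hcardHt : Nat.card ((H.map (MulAut.conj t).toMonoidHom).subgroupOf M) = Nat.card H := by
    rw [Nat.card_congr (Subgroup.subgroupOfEquivOfLe hHtM).toEquiv,
      Subgroup.card_map_of_injective (MulAut.conj t).injective]
  have hidx' : ((H.map (MulAut.conj t).toMonoidHom).subgroupOf M).index = p := by
    have e1 := Subgroup.card_mul_index (H.subgroupOf M)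
    have e2 := Subgroup.card_mul_index ((H.map (MulAut.conj t).toMonoidHom).subgroupOf M)
    rw [hcardH] at e1
    rw [hcardHt, ← e1] at e2
    exact Nat.eq_of_mul_eq_mul_left Nat.card_pos e2
  have hco : IsCoatom ((H.map (MulAut.conj t).toMonoidHom).subgroupOf M) :=
    isCoatom_of_prime_index _ (by rw [hidx']; exact hp)
  have hnor : ((H.map (MulAut.conj t).toMonoidHom).subgroupOf M).Normal :=
    Cfsg.Agent.Lib.Helper1.coatom_normal_of_isPGroup hpg hco
  have h5 : M ≤ M.map (MulAut.conj t).toMonoidHom := by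
    have := (Subgroup.normal_subgroupOf_iff_le_normalizer hHtM).mp hnor
    rwa [normalizer_map_conj, hNH] at this
  have h6 := map_conj_eq_of_ge M t h5
  apply htM
  rw [← hNMM, mem_normalizer_iff_map_conj]
  exact h6

theorem result {G : Type*} [Group G] [Finite G] [IsSimpleGroup G] (hG : ¬ IsMulCommutative G) (M H : Subgroup G) (hmaxM : IsCoatom M) (hHM : H ≤ M) (hHn : (H.subgroupOf M).Normal) (hidx : (H.relIndex M).Prime) : ∃ g : G, H ⊔ H.map (MulAut.conj g).toMonoidHom = ⊤ := by
  classical
  by_contra hcon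
  have hcon' : ∀ g : G, H ⊔ H.map (MulAut.conj g).toMonoidHom ≠ ⊤ := fun g h => hcon ⟨g, h⟩
  haveI := hHn
  have hp : (H.subgroupOf M).index.Prime := hidx
  have hmaxH : IsCoatom (H.subgroupOf M) := isCoatom_of_prime_index _ hp
  have hMN : M ≤ Subgroup.normalizer (H : Set G) :=
    (Subgroup.normal_subgroupOf_iff_le_normalizer hHM).mp hHn
  have hsimple : ∀ N : Subgroup G, N.Normal → N = ⊥ ∨ N = ⊤ := fun N hN => hN.eq_bot_or_eq_top
  have hMtop : M ≠ ⊤ := hmaxM.1
  have hHneM : H ≠ M := by
    intro h
    have : H.subgroupOf M = ⊤ := by rw [Subgroup.subgroupOf_eq_top]; exact h.ge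
    rw [this, Subgroup.index_top] at hp
    exact Nat.not_prime_one hp
  have hMnn : ¬ M.Normal := by
    intro h
    rcases hsimple M h with h1 | h1
    · apply hHneM
      rw [h1] at hHM ⊢
      exact le_bot_iff.mp hHM
    · exact hMtop h1
  have hNMM : Subgroup.normalizer (M : Set G) = M := by
    rcases eq_or_lt_of_le (Subgroup.le_normalizer : M ≤ Subgroup.normalizer (M : Set G)) with h | h
    · exact h.symm
    · exfalso; exact hMnn (Subgroup.normalizer_eq_top_iff.mp (hmaxM.2 _ h))
  have htame : ∀ t : G, t ∉ M → M ⊓ M.map (MulAut.conj t).toMonoidHom ≤ H := by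
    intro t htM
    by_contra hD
    have h1 := le_normalizer_sup_conj hHM hMN hmaxH t hD
    rcases eq_or_lt_of_le h1 with h | h
    · have hXM : H ⊔ H.map (MulAut.conj t).toMonoidHom ≤ M := by
        rw [h]; exact Subgroup.le_normalizer
      have hHtM : H.map (MulAut.conj t).toMonoidHom ≤ M := le_sup_right.trans hXM
      have hHbot : H ≠ ⊥ := by
        intro hb
        have h2 : H ⊔ H.map (MulAut.conj t).toMonoidHom = ⊥ := by
          rw [hb, Subgroup.map_bot, sup_idem]
        have h3 : Subgroup.normalizer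
            ((H ⊔ H.map (MulAut.conj t).toMonoidHom : Subgroup G) : Set G) = ⊤ := by
          rw [h2]
          exact Subgroup.normalizer_eq_top_iff.mpr inferInstance
        apply hMtop
        rw [h, h3]
      exact bad_case M H hmaxM hHM hp hNMM t htM hHtM hHbot
    · have h2 := hmaxM.2 _ h
      have hXn : (H ⊔ H.map (MulAut.conj t).toMonoidHom).Normal :=
        Subgroup.normalizer_eq_top_iff.mp h2
      rcases hsimple _ hXn with h3 | h3
      · have hH : H = ⊥ := by rw [eq_bot_iff, ← h3]; exact le_sup_left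
        rcases coatom_subgroupOf_cases hmaxH (M ⊓ M.map (MulAut.conj t).toMonoidHom)
          (by rw [hH]; exact bot_le) inf_le_left with h4 | h4
        · exact hD h4.le
        · have h5 : M ≤ M.map (MulAut.conj t).toMonoidHom := inf_eq_left.mp h4
          have h6 := map_conj_eq_of_ge M t h5
          apply htM
          rw [← hNMM, mem_normalizer_iff_map_conj]
          exact h6
      · exact hcon' t h3
  have hcomm : ∀ x y : M ⧸ H.subgroupOf M, x * y = y * x := by
    haveI : Fact (H.subgroupOf M).index.Prime := ⟨hp⟩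
    haveI : IsCyclic (M ⧸ H.subgroupOf M) :=
      isCyclic_of_prime_card (p := (H.subgroupOf M).index) (Subgroup.index_eq_card _).symm
    obtain ⟨c, hc⟩ := IsCyclic.exists_generator (α := M ⧸ H.subgroupOf M)
    intro x y
    obtain ⟨i, rfl⟩ := Subgroup.mem_zpowers_iff.mp (hc x)
    obtain ⟨j, rfl⟩ := Subgroup.mem_zpowers_iff.mp (hc y)
    rw [← zpow_add, ← zpow_add, add_comm]
  obtain ⟨N, hN, hNM, hNc⟩ := exists_normal_inf_eq_of_tame H M hHM hcomm (by
      intro t ht y hy hy'
      apply htame t⁻¹ (fun h => ht (by simpa using M.inv_mem h))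
      refine Subgroup.mem_inf.mpr ⟨hy', ?_⟩
      rw [mem_map_conj_iff]
      simpa [mul_assoc] using hy)
  rcases hsimple N hN with h | h
  · apply hG
    refine ⟨⟨fun a b => ?_⟩⟩
    have h1 := hNc a b
    rw [h, Subgroup.mem_bot] at h1
    calc a * b = (a * b * a⁻¹ * b⁻¹) * (b * a) := by group
      _ = b * a := by rw [h1, one_mul]
  · apply hHneM
    rw [← hNM, h, top_inf_eq]

end Cfsg.Agent.S3015
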