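import Cfsg.Statements.S3020
import Cfsg.Agent.Lib.Helper5.MaxP
import Cfsg.Agent.Lib.Helper5.PCore

set_option autoImplicit false
open Cfsg

namespace Cfsg.Agent.S3020

theorem result {G : Type*} [Group G] [Finite G] {p : ℕ} [Fact p.Prime] (H : Subgroup G) (hHp : IsPGroup p H) (hHab : IsMulCommutative H) (hcl : Cfsg.IsExtremelyClosed H) (g : G) (T : Subgroup G) (hT : T = H ⊔ H.map (MulAut.conj g).toMonoidHom) : H ⊔ (Cfsg.pPrimeCore p ↥T).map T.subtype = T ∧ H ⊓ (Cfsg.pPrimeCore p ↥T).map T.subtype = ⊥ := by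
  have hp : p.Prime := Fact.out
  have hHT : H ≤ T := hT ▸ le_sup_left
  have hTN : T ⊓ Subgroup.normalizer (H : Set G) = H := by rw [hT]; exact hcl g
  have hmax : Cfsg.Agent.Lib.Helper5.IsMaxPIn p T H := by
    refine ⟨hHT, hHp, ?_⟩
    intro B hB hBT hHB
    by_contra hne
    have hlt : H < B := lt_of_le_of_ne hHB (fun h => hne h.symm)
    obtain ⟨x, hxB, hxN, hxH⟩ := Cfsg.Agent.Lib.Helper5.exists_mem_normalizer_not_mem H B hB hlt
    apply hxH
    rw [← hTN]
    exact ⟨hBT hxB, hxN⟩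
  obtain ⟨P, hP⟩ := hmax.exists_sylow
  have hPH : (P : Subgroup ↥T) = H.subgroupOf T := by
    ext x
    rw [Subgroup.mem_subgroupOf, ← hP]
    constructor
    · intro hx
      exact ⟨x, hx, rfl⟩
    · rintro ⟨y, hy, hyx⟩
      have : y = x := Subtype.ext hyx
      rwa [← this]
  have hNC : Subgroup.normalizer ((P : Subgroup ↥T) : Set ↥T) ≤
      Subgroup.centralizer ((P : Subgroup ↥T) : Set ↥T) := by
    intro n hn
    rw [hPH, ← Subgroup.subgroupOf_normalizer_eq hHT, Subgroup.mem_subgroupOf] at hn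
    have hnH : (n : G) ∈ H := by
      rw [← hTN]
      exact ⟨n.2, hn⟩
    rw [Subgroup.mem_centralizer_iff]
    intro q hq
    rw [SetLike.mem_coe, hPH, Subgroup.mem_subgroupOf] at hq
    apply Subtype.ext
    simp only [Subgroup.coe_mul]
    have := hHab.is_comm.comm ⟨(q : G), hq⟩ ⟨(n : G), hnH⟩
    exact congrArg Subtype.val this
  have hK := MonoidHom.ker_transferSylow_isComplement' P hNC
  have hKc : (Nat.card (MonoidHom.transferSylow P hNC).ker).Coprime p :=
    ((Nat.Prime.coprime_iff_not_dvd hp).mpr (MonoidHom.not_dvd_card_ker_transferSylow P hNC)).symm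
  have hKle := Cfsg.Agent.Lib.Helper5.le_pPrimeCore _ (MonoidHom.normal_ker (MonoidHom.transferSylow P hNC)) hKc
  constructor
  · apply le_antisymm (sup_le hHT (Subgroup.map_subtype_le _))
    intro t ht
    have h1 : (⟨t, ht⟩ : ↥T) ∈ (MonoidHom.transferSylow P hNC).ker ⊔ (P : Subgroup ↥T) := by
      rw [hK.sup_eq_top]; trivial
    obtain ⟨k, hk, q, hq, hkq⟩ := Subgroup.mem_sup_of_normal_left.mp h1
    have h2 : t = (k : G) * (q : G) := by
      have := congrArg Subtype.val hkq
      simpa using this.symm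
    rw [h2]
    rw [hPH, Subgroup.mem_subgroupOf] at hq
    exact Subgroup.mul_mem _ ((le_sup_right : (Cfsg.pPrimeCore p ↥T).map T.subtype ≤ _)
      ⟨k, hKle hk, rfl⟩) ((le_sup_left : H ≤ _) hq)
  · have hcop : (Nat.card ((Cfsg.pPrimeCore p ↥T).map T.subtype)).Coprime p := by
      rw [Subgroup.card_map_of_injective T.subtype_injective]
      exact Cfsg.Agent.Lib.Helper5.card_pPrimeCore_coprime p
    have hpg : IsPGroup p (H ⊓ (Cfsg.pPrimeCore p ↥T).map T.subtype : Subgroup G) := hHp.to_inf_left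
    rcases hpg.card_eq_or_dvd with h | h
    · exact Subgroup.card_eq_one.mp h
    · exfalso
      have h2 : p ∣ Nat.card ((Cfsg.pPrimeCore p ↥T).map T.subtype) :=
        h.trans (Subgroup.card_dvd_of_le inf_le_right)
      have := Nat.Coprime.eq_one_of_dvd hcop.symm h2
      exact hp.one_lt.ne' this

end Cfsg.Agent.S3020
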