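import Cfsg.Statements.S3021
import Cfsg.Agent.Lib.Helper5.MaxP
import Cfsg.Agent.Lib.Helper5.Basic

set_option autoImplicit false
open Cfsg

namespace Cfsg.Agent.S3021

theorem result {G : Type*} [Group G] [Finite G] {p : ℕ} [Fact p.Prime] (H : Subgroup G) (hHp : IsPGroup p H) (hcl : Cfsg.IsExtremelyClosed H) : (∀ Q : Subgroup G, IsPGroup p Q → H ≤ Q → Subgroup.normalizer (Q : Set G) ≤ Subgroup.normalizer (H : Set G)) ∧ ∀ P : Sylow p G, H ≤ (P : Subgroup G) → (P : Subgroup G) ≤ Subgroup.normalizer (H : Set G) ∧ Cfsg.IsStronglyClosed H (P : Subgroup G) := by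
  have key : ∀ g : G, H.map (MulAut.conj g).toMonoidHom ≤ Subgroup.normalizer (H : Set G) →
      H.map (MulAut.conj g).toMonoidHom ≤ H := by
    intro g hg
    have h1 := hcl g
    have h2 : H ⊔ H.map (MulAut.conj g).toMonoidHom ≤ Subgroup.normalizer (H : Set G) :=
      sup_le Subgroup.le_normalizer hg
    rw [inf_of_le_left h2] at h1
    exact le_sup_right.trans (le_of_eq h1)
  have hnormal : ∀ Q : Subgroup G, IsPGroup p Q → H ≤ Q → Q ≤ Subgroup.normalizer (H : Set G) := by
    intro Q hQ hHQ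
    by_contra hne
    have hlt : Q ⊓ Subgroup.normalizer (H : Set G) < Q :=
      lt_of_le_of_ne inf_le_left (fun h => hne (h ▸ inf_le_right))
    obtain ⟨g, hgQ, hgN, hgM⟩ := Cfsg.Agent.Lib.Helper5.exists_mem_normalizer_not_mem _ Q hQ hlt
    have hHM : H ≤ Q ⊓ Subgroup.normalizer (H : Set G) := le_inf hHQ Subgroup.le_normalizer
    have hstep : ∀ g' : G, g' ∈ Subgroup.normalizer
        (((Q ⊓ Subgroup.normalizer (H : Set G) : Subgroup G)) : Set G) →
        H.map (MulAut.conj g').toMonoidHom ≤ H := by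
      intro g' hg'
      apply key
      have h3 := Subgroup.map_mono (f := (MulAut.conj g').toMonoidHom) hHM
      rw [(Cfsg.Agent.Lib.Helper5.mem_normalizer_iff_map_conj _ g').mp hg'] at h3
      exact h3.trans inf_le_right
    have hgH : g ∈ Subgroup.normalizer (H : Set G) :=
      Cfsg.Agent.Lib.Helper5.mem_normalizer_of_map_conj_le H g (hstep g hgN)
        (hstep g⁻¹ (Subgroup.inv_mem _ hgN))
    exact hgM ⟨hgQ, hgH⟩
  have hpart1 : ∀ Q : Subgroup G, IsPGroup p Q → H ≤ Q →
      Subgroup.normalizer (Q : Set G) ≤ Subgroup.normalizer (H : Set G) := by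
    intro Q hQ hHQ n hn
    have hQN := hnormal Q hQ hHQ
    have hstep : ∀ n' : G, n' ∈ Subgroup.normalizer (Q : Set G) →
        H.map (MulAut.conj n').toMonoidHom ≤ H := by
      intro n' hn'
      apply key
      have h3 := Subgroup.map_mono (f := (MulAut.conj n').toMonoidHom) hHQ
      rw [(Cfsg.Agent.Lib.Helper5.mem_normalizer_iff_map_conj _ n').mp hn'] at h3
      exact h3.trans hQN
    exact Cfsg.Agent.Lib.Helper5.mem_normalizer_of_map_conj_le H n (hstep n hn)
      (hstep n⁻¹ (Subgroup.inv_mem _ hn))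
  refine ⟨hpart1, ?_⟩
  intro P hHP
  have hPN := hnormal (P : Subgroup G) P.isPGroup' hHP
  refine ⟨hPN, hHP, ?_⟩
  intro x hx g hgx
  have h1 := hcl g
  have h2 : g * x * g⁻¹ ∈ (H ⊔ H.map (MulAut.conj g).toMonoidHom) ⊓ Subgroup.normalizer (H : Set G) := by
    refine Subgroup.mem_inf.mpr ⟨?_, hPN hgx⟩
    exact (le_sup_right : H.map (MulAut.conj g).toMonoidHom ≤ _) ⟨x, hx, by simp⟩
  rw [h1] at h2
  exact h2

end Cfsg.Agent.S3021
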