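import Mathlib
import Cfsg.Statements.S3025
import Cfsg.Agent.Lib.Helper5.Basic
import Cfsg.Agent.Lib.Helper5.CopGen3
import Cfsg.Agent.Lib.Helper5.Flavell
import Cfsg.Agent.Lib.Helper6.NormalEA
import Cfsg.Agent.Lib.Helper6.UniqInv2
import Cfsg.Agent.Lib.Helper6.QuatRec

set_option autoImplicit false
open Cfsg

namespace Cfsg.Agent.S3025

open Cfsg.Agent.Lib.Helper5

section Aux
variable {F : Type*} [Group F] [Finite F]

theorem exists_minimal_in (X : Subgroup F) (P : Subgroup F → Prop) (hX : P X) :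
    ∃ K : Subgroup F, P K ∧ K ≤ X ∧ ∀ K' : Subgroup F, P K' → K' ≤ K → K' = K := by
  have hfin : ({K : Subgroup F | P K ∧ K ≤ X}).Finite := Set.toFinite _
  obtain ⟨K, hK, hmin⟩ := hfin.exists_minimal ⟨X, hX, le_refl _⟩
  refine ⟨K, hK.1, hK.2, ?_⟩
  intro K' hK' hle
  exact le_antisymm hle (hmin ⟨hK', hle.trans hK.2⟩ hle)

/-- structure of the centralizer in the abelian case -/
theorem abelian_case (H : Subgroup F) (hH : H ≠ ⊥)
    (hmin : ∀ R : Subgroup F, R ≠ ⊥ → H ≤ Subgroup.normalizer (R : Set F) → H ≤ R)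
    (N : Subgroup F) (hNn : N.Normal) (hNne : N ≠ ⊥) (hHN : H ≤ N)
    (hkey : ∀ K : Subgroup F, K ≤ N → (K.subgroupOf N).Normal → K ≠ ⊥ → K = N)
    (hNC : N ≤ Subgroup.centralizer (N : Set F)) :
    (H = N ∧ (Nat.card N).Prime ∧ IsCyclic ↥(Subgroup.centralizer (N : Set F)) ∧
          (∃ k : ℕ, 1 ≤ k ∧ Nat.card ↥(Subgroup.centralizer (N : Set F)) = Nat.card N ^ k) ∧
          (∃ g : F, Subgroup.centralizer (N : Set F) ⊔ Subgroup.zpowers g = ⊤) ∧
          (Subgroup.centralizer (N : Set F)).index ∣ Nat.card N - 1) ∨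
       (H = N ∧ Nat.card N = 2 ∧ Subgroup.centralizer (N : Set F) = ⊤ ∧
          ∃ k : ℕ, 1 ≤ k ∧ Nonempty (F ≃* QuaternionGroup (2 ^ k))) := by
  classical
  haveI := hNn
  set C := Subgroup.centralizer (N : Set F) with hC
  have hNcomm : ∀ a ∈ N, ∀ b ∈ N, a * b = b * a := fun a ha b hb =>
    (Subgroup.mem_centralizer_iff.mp (hNC hb) a ha)
  -- prime order
  have hcard1 : Nat.card N ≠ 1 := fun h => hNne (Subgroup.card_eq_one.mp h)
  set p := (Nat.card N).minFac with hpdef
  have hp : p.Prime := Nat.minFac_prime hcard1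
  haveI : Fact p.Prime := ⟨hp⟩
  obtain ⟨w, hw⟩ := exists_prime_orderOf_dvd_card' (G := N) p (Nat.minFac_dvd _)
  have hwN : (w : F) ∈ N := w.2
  have hwo : orderOf (w : F) = p := by rw [Subgroup.orderOf_coe]; exact hw
  have hw1 : (w : F) ≠ 1 := by
    intro h
    rw [h, orderOf_one] at hwo
    exact hp.one_lt.ne hwo
  have hZN : Subgroup.zpowers (w : F) = N := by
    apply hkey _ (Subgroup.zpowers_le.mpr hwN)
    · rw [Subgroup.normal_subgroupOf_iff_le_normalizer (Subgroup.zpowers_le.mpr hwN)]
      intro s hs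
      rw [Subgroup.mem_normalizer_iff]
      intro y
      have hsy : ∀ y ∈ N, s * y * s⁻¹ = y := by
        intro y hy
        rw [hNcomm s hs y hy]; group
      constructor
      · intro hy
        rw [hsy y ((Subgroup.zpowers_le.mpr hwN) hy)]; exact hy
      · intro hy
        have hyN : y ∈ N := by
          have h13 := hNn.conj_mem _ ((Subgroup.zpowers_le.mpr hwN) hy) s⁻¹
          have h14 : s⁻¹ * (s * y * s⁻¹) * s⁻¹⁻¹ = y := by group
          rw [h14] at h13
          exact h13
        rw [hsy y hyN] at hy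
        exact hy
    · exact Subgroup.zpowers_ne_bot.mpr hw1
  have hpN : Nat.card N = p := by rw [← hZN, Nat.card_zpowers, hwo]
  have hHeqN : H = N := by
    apply Subgroup.eq_of_le_of_card_ge hHN
    have h1 : Nat.card H ∣ Nat.card N := Subgroup.card_dvd_of_le hHN
    rw [hpN] at h1 ⊢
    rcases (Nat.dvd_prime hp).mp h1 with h2 | h2
    · exact absurd (Subgroup.card_eq_one.mp h2) hH
    · exact h2.ge
  have hCsub : ∀ R : Subgroup F, R ≤ C → R ≠ ⊥ → N ≤ R := by
    intro R hRC hRne
    have h1 : H ≤ R := by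
      apply hmin R hRne
      rw [hHeqN]
      intro n hn
      apply Subgroup.centralizer_le_normalizer
      rw [Subgroup.mem_centralizer_iff]
      intro r hr
      exact (Subgroup.mem_centralizer_iff.mp (hRC hr) n hn).symm
    rwa [hHeqN] at h1
  -- C is a p-group
  have hCcard : Nat.card C = p ^ (Nat.card C).primeFactorsList.length := by
    apply Nat.eq_prime_pow_of_unique_prime_dvd Nat.card_pos.ne'
    intro r hr hrd
    haveI : Fact r.Prime := ⟨hr⟩
    obtain ⟨c, hc⟩ := exists_prime_orderOf_dvd_card' (G := C) r hrd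
    have hco : orderOf (c : F) = r := by rw [Subgroup.orderOf_coe]; exact hc
    have hc1 : (c : F) ≠ 1 := by
      intro h
      rw [h, orderOf_one] at hco
      exact hr.one_lt.ne hco
    have h1 := hCsub (Subgroup.zpowers (c : F)) (Subgroup.zpowers_le.mpr c.2)
      (Subgroup.zpowers_ne_bot.mpr hc1)
    have h2 : Nat.card N ∣ Nat.card (Subgroup.zpowers (c : F)) := Subgroup.card_dvd_of_le h1
    rw [hpN, Nat.card_zpowers, hco] at h2
    exact ((Nat.prime_dvd_prime_iff_eq hp hr).mp h2).symm
  set k := (Nat.card C).primeFactorsList.length with hkdef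
  have hCp : IsPGroup p C := IsPGroup.of_card hCcard
  have hk1 : 1 ≤ k := by
    by_contra hk0
    have hk0' : k = 0 := by omega
    have h1 : Nat.card N ∣ Nat.card C := Subgroup.card_dvd_of_le hNC
    rw [hpN, hCcard, hk0', pow_zero] at h1
    exact hp.one_lt.ne' (Nat.dvd_one.mp h1)
  -- the action homomorphism
  set φ : F →* MulAut N := MulAut.conjNormal with hφ
  have hker : φ.ker = C := by
    ext g
    rw [MonoidHom.mem_ker, hC, Subgroup.mem_centralizer_iff]
    constructor
    · intro h n hn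
      have h1 := DFunLike.congr_fun h ⟨n, hn⟩
      have h2 := congrArg Subtype.val h1
      rw [hφ, MulAut.conjNormal_apply] at h2
      simp only [MulAut.one_apply] at h2
      calc n * g = (g * n * g⁻¹) * g := by rw [h2]
        _ = g * n := by group
    · intro h
      ext ⟨n, hn⟩
      rw [hφ, MulAut.conjNormal_apply]
      simp only [MulAut.one_apply]
      rw [← h n hn]; group
  haveI hNcyc : IsCyclic N := isCyclic_of_prime_card hpN
  have hidx : C.index ∣ p - 1 := by
    rw [← hker, Subgroup.index_ker]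
    have h1 : Nat.card φ.range ∣ Nat.card (MulAut N) := Subgroup.card_subgroup_dvd_card _
    rw [IsCyclic.card_mulAut, hpN, Nat.totient_prime hp] at h1
    exact h1
  by_cases hcyc : IsCyclic C
  · left
    refine ⟨hHeqN, by rw [hpN]; exact hp, hcyc, ⟨k, hk1, by rw [hpN]; exact hCcard⟩, ?_,
      by rw [hpN]; exact hidx⟩
    haveI : Fact (Nat.card N).Prime := ⟨by rw [hpN]; exact hp⟩
    haveI : IsCyclic (MulAut N) := (IsCyclic.mulAutMulEquiv N).isCyclic.mpr inferInstance
    obtain ⟨⟨a, ha⟩, hgen⟩ := IsCyclic.exists_generator (α := φ.range)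
    obtain ⟨g, rfl⟩ := ha
    refine ⟨g, ?_⟩
    rw [eq_top_iff]
    intro f _
    have h1 := hgen ⟨φ f, MonoidHom.mem_range.mpr ⟨f, rfl⟩⟩
    obtain ⟨i, hi⟩ := Subgroup.mem_zpowers_iff.mp h1
    have hi' : φ g ^ i = φ f := by
      have := congrArg Subtype.val hi
      simpa using this
    have h2 : f * (g ^ i)⁻¹ ∈ C := by
      rw [← hker, MonoidHom.mem_ker, map_mul, map_inv, map_zpow, hi', mul_inv_cancel]
    have h3 : f = (f * (g ^ i)⁻¹) * g ^ i := by group
    rw [h3]
    exact Subgroup.mul_mem _ (le_sup_left (b := Subgroup.zpowers g) h2)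
      (le_sup_right (a := C) (Subgroup.zpow_mem _ (Subgroup.mem_zpowers g) i))
  · right
    have hp2 : p = 2 := by
      by_contra hne
      obtain ⟨A, -, hAe, hAc⟩ := Cfsg.Agent.Lib.Helper6.exists_normal_ea_sq hne _ ↥C rfl hCp hcyc
      set A' : Subgroup F := A.map C.subtype with hA'
      have hA'C : A' ≤ C := Subgroup.map_subtype_le _
      have hA'card : Nat.card A' = p ^ 2 := by
        rw [hA', Subgroup.card_map_of_injective C.subtype_injective, hAc]
      have hA'ne : A' ≠ ⊥ := by
        intro hb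
        rw [hb, Subgroup.card_bot] at hA'card
        have : 1 < p ^ 2 := Nat.one_lt_pow (by norm_num) hp.one_lt
        omega
      have hNA' : N ≤ A' := hCsub A' hA'C hA'ne
      have hlt : N < A' := by
        apply lt_of_le_of_ne hNA'
        intro h
        rw [← h, hpN] at hA'card
        have : p < p ^ 2 := by
          calc p = p ^ 1 := (pow_one p).symm
            _ < p ^ 2 := Nat.pow_lt_pow_right hp.one_lt (by norm_num)
        omega
      obtain ⟨a, haA, haN⟩ := SetLike.exists_of_lt hlt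
      have ha1 : a ≠ 1 := fun h => haN (h ▸ N.one_mem)
      have hap : a ^ p = 1 := by
        obtain ⟨a', ha', rfl⟩ := haA
        have := hAe.2 a' ha'
        have h2 := congrArg Subtype.val this
        simpa using h2
      have hao : orderOf a = p := orderOf_eq_prime hap ha1
      have h1 := hCsub (Subgroup.zpowers a) (Subgroup.zpowers_le.mpr (hA'C haA))
        (Subgroup.zpowers_ne_bot.mpr ha1)
      have h2 : N = Subgroup.zpowers a := by
        apply Subgroup.eq_of_le_of_card_ge h1
        rw [Nat.card_zpowers, hao, hpN]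
      apply haN
      rw [h2]
      exact Subgroup.mem_zpowers a
    have hpN2 : Nat.card N = 2 := by rw [hpN, hp2]
    have hCtop : C = ⊤ := by
      rw [hp2] at hidx
      exact Subgroup.index_eq_one.mp (Nat.dvd_one.mp hidx)
    have hCp2 : IsPGroup 2 C := by rw [← hp2]; exact hCp
    have huniq : ∀ A B : Subgroup C, Nat.card A = 2 → Nat.card B = 2 → A = B := by
      have haux : ∀ A : Subgroup C, Nat.card A = 2 → A.map C.subtype = N := by
        intro A hA
        have hne : A.map C.subtype ≠ ⊥ := by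
          intro hb
          have h1 : Nat.card (A.map C.subtype) = 2 := by
            rw [Subgroup.card_map_of_injective C.subtype_injective, hA]
          rw [hb, Subgroup.card_bot] at h1
          omega
        have h1 := hCsub (A.map C.subtype) (Subgroup.map_subtype_le _) hne
        symm
        apply Subgroup.eq_of_le_of_card_ge h1
        rw [Subgroup.card_map_of_injective C.subtype_injective, hA, hpN2]
      intro A B hA hB
      apply Subgroup.map_injective C.subtype_injective
      rw [haux A hA, haux B hB]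
    obtain ⟨n, hn3, hcardC, a, b, hao, hb, hb2, hba⟩ :=
      Cfsg.Agent.Lib.Helper6.two_group_unique_involution hCp2 huniq hcyc
    haveI : NeZero (2 ^ (n - 2)) := ⟨by positivity⟩
    have hpow1 : 2 ^ (n - 1) = 2 * 2 ^ (n - 2) := by
      rw [← pow_succ']; congr 1; omega
    have hpow2 : 2 ^ n = 4 * 2 ^ (n - 2) := by
      have : (4 : ℕ) = 2 ^ 2 := by norm_num
      rw [this, ← pow_add]; congr 1; omega
    obtain ⟨e⟩ := Cfsg.Agent.Lib.Helper6.nonempty_mulEquiv_quaternion (G := ↥C) (2 ^ (n - 2)) a b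
      (by rw [hao, hpow1]) hb2 hba hb (by rw [hcardC, hpow2])
    refine ⟨hHeqN, hpN2, hCtop, n - 2, by omega,
      ⟨((MulEquiv.subgroupCongr hCtop).trans Subgroup.topEquiv).symm.trans e⟩⟩

end Aux

theorem result {F : Type*} [Group F] [Finite F] (H : Subgroup F) (hH : H ≠ ⊥)
    (hmin : ∀ R : Subgroup F, R ≠ ⊥ → H ≤ Subgroup.normalizer (R : Set F) → H ≤ R) :
    ∃ N : Subgroup F, N.Normal ∧ N ≠ ⊥ ∧ (∀ M : Subgroup F, M.Normal → M ≠ ⊥ → N ≤ M) ∧ IsSimpleGroup ↥N ∧
      (Subgroup.centralizer (N : Set F) = ⊥ ∨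
       (H = N ∧ (Nat.card N).Prime ∧ IsCyclic ↥(Subgroup.centralizer (N : Set F)) ∧
          (∃ k : ℕ, 1 ≤ k ∧ Nat.card ↥(Subgroup.centralizer (N : Set F)) = Nat.card N ^ k) ∧
          (∃ g : F, Subgroup.centralizer (N : Set F) ⊔ Subgroup.zpowers g = ⊤) ∧
          (Subgroup.centralizer (N : Set F)).index ∣ Nat.card N - 1) ∨
       (H = N ∧ Nat.card N = 2 ∧ Subgroup.centralizer (N : Set F) = ⊤ ∧
          ∃ k : ℕ, 1 ≤ k ∧ Nonempty (F ≃* QuaternionGroup (2 ^ k)))) := by
  classical
  have htop : (⊤ : Subgroup F) ≠ ⊥ := by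
    intro h
    apply hH
    rw [eq_bot_iff, ← h]
    exact le_top
  obtain ⟨N, ⟨hNn, hNne⟩, -, hNmin⟩ := exists_minimal_in (⊤ : Subgroup F)
    (fun K => K.Normal ∧ K ≠ ⊥) ⟨inferInstance, htop⟩
  haveI := hNn
  have hHN : H ≤ N := hmin N hNne (by rw [Subgroup.normalizer_eq_top_iff.mpr hNn]; exact le_top)
  have hNleast : ∀ M : Subgroup F, M.Normal → M ≠ ⊥ → N ≤ M := by
    intro M hMn hMne
    haveI := hMn
    have hHM : H ≤ M := hmin M hMne (by rw [Subgroup.normalizer_eq_top_iff.mpr hMn]; exact le_top)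
    have h1 : (M ⊓ N).Normal := inferInstance
    have h2 : M ⊓ N ≠ ⊥ := by
      intro hb
      apply hH
      rw [eq_bot_iff, ← hb]
      exact le_inf hHM hHN
    have h3 := hNmin (M ⊓ N) ⟨h1, h2⟩ inf_le_right
    exact h3.symm.le.trans inf_le_left
  have hkey : ∀ K : Subgroup F, K ≤ N → (K.subgroupOf N).Normal → K ≠ ⊥ → K = N := by
    intro K hKN hKn hKne
    obtain ⟨K₀, ⟨hK₀N, hK₀n, hK₀ne⟩, hK₀K, hK₀min⟩ := exists_minimal_in K
      (fun K' => K' ≤ N ∧ (K'.subgroupOf N).Normal ∧ K' ≠ ⊥) ⟨hKN, hKn, hKne⟩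
    have hNK₀ : N ≤ Subgroup.normalizer (K₀ : Set F) :=
      (Subgroup.normal_subgroupOf_iff_le_normalizer hK₀N).mp hK₀n
    have hHK₀ : H ≤ K₀ := hmin K₀ hK₀ne (hHN.trans hNK₀)
    have hconj : ∀ f : F, K₀.map (MulAut.conj f).toMonoidHom = K₀ := by
      intro f
      have hKf_le : K₀.map (MulAut.conj f).toMonoidHom ≤ N := by
        rintro _ ⟨k, hk, rfl⟩
        simp only [MulEquiv.coe_toMonoidHom, MulAut.conj_apply]
        exact hNn.conj_mem k (hK₀N hk) f
      have hNKf : N ≤ Subgroup.normalizer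
          ((K₀.map (MulAut.conj f).toMonoidHom : Subgroup F) : Set F) := by
        rw [normalizer_map_conj]
        intro s hs
        rw [mem_map_conj_iff]
        apply hNK₀
        have := hNn.conj_mem s hs f⁻¹
        simpa using this
      have hKf_ne : K₀.map (MulAut.conj f).toMonoidHom ≠ ⊥ := map_conj_ne_bot K₀ f hK₀ne
      have hHKf : H ≤ K₀.map (MulAut.conj f).toMonoidHom := hmin _ hKf_ne (hHN.trans hNKf)
      have hinf : K₀ ⊓ K₀.map (MulAut.conj f).toMonoidHom = K₀ := by
        apply hK₀min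
        · refine ⟨inf_le_left.trans hK₀N, ?_, ?_⟩
          · rw [Subgroup.normal_subgroupOf_iff_le_normalizer (inf_le_left.trans hK₀N)]
            intro s hs
            exact mem_normalizer_inf _ _ s (hNK₀ hs) (hNKf hs)
          · intro hb
            apply hH
            rw [eq_bot_iff, ← hb]
            exact le_inf hHK₀ hHKf
        · exact inf_le_left
      apply map_conj_eq_of_ge
      exact hinf.symm.le.trans inf_le_right
    have hK₀F : K₀.Normal := by
      rw [← Subgroup.normalizer_eq_top_iff, eq_top_iff]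
      intro f _
      rw [mem_normalizer_iff_map_conj]
      exact hconj f
    have h8 := hNmin K₀ ⟨hK₀F, hK₀ne⟩ hK₀N
    apply le_antisymm hKN
    rw [← h8]
    exact hK₀K
  have hsimple : IsSimpleGroup N := by
    haveI : Nontrivial N := (Subgroup.nontrivial_iff_ne_bot N).mpr hNne
    refine ⟨fun K hK => ?_⟩
    by_cases hKb : K = ⊥
    · exact Or.inl hKb
    · right
      have h9 : (K.map N.subtype).subgroupOf N = K :=
        Subgroup.comap_map_eq_self_of_injective N.subtype_injective K
      have h10 := hkey (K.map N.subtype) (Subgroup.map_subtype_le K) (by rw [h9]; exact hK) (by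
        intro hb
        apply hKb
        exact (Subgroup.map_eq_bot_iff_of_injective _ N.subtype_injective).mp hb)
      rw [← h9, h10]
      exact Subgroup.subgroupOf_self N
  refine ⟨N, hNn, hNne, hNleast, hsimple, ?_⟩
  by_cases hCb : Subgroup.centralizer (N : Set F) = ⊥
  · left; exact hCb
  right
  have hCn : (Subgroup.centralizer (N : Set F)).Normal := inferInstance
  have hNC : N ≤ Subgroup.centralizer (N : Set F) := hNleast _ hCn hCb
  exact abelian_case H hH hmin N hNn hNne hHN hkey hNC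

end Cfsg.Agent.S3025
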