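import Cfsg.Statements.S3027
import Cfsg.Agent.Lib.Helper5.CopGen3

set_option autoImplicit false
open Cfsg

namespace Cfsg.Agent.S3027

open scoped commutatorElement

open Cfsg.Agent.Lib.Helper5

/-- supplement criterion in the quotient -/
theorem sup_eq_top_iff_map {G : Type*} [Group G] (D : Subgroup G) [D.Normal] (X : Subgroup G) :
    X ⊔ D = ⊤ ↔ X.map (QuotientGroup.mk' D) = ⊤ := by
  constructor
  · intro h
    have h1 : (X ⊔ D).map (QuotientGroup.mk' D) = ⊤ := by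
      rw [h, ← MonoidHom.range_eq_map]
      exact MonoidHom.range_eq_top.mpr (QuotientGroup.mk'_surjective D)
    rwa [Subgroup.map_sup, QuotientGroup.map_mk'_self, sup_bot_eq] at h1
  · intro h
    have h1 := congrArg (Subgroup.comap (QuotientGroup.mk' D)) h
    rw [QuotientGroup.comap_map_mk', Subgroup.comap_top, sup_comm] at h1
    exact h1

theorem perfect_quot {G : Type*} [Group G] (D : Subgroup G) [D.Normal]
    (hperf : ⁅(⊤ : Subgroup G), (⊤ : Subgroup G)⁆ ⊔ D = ⊤) :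
    ⁅(⊤ : Subgroup (G ⧸ D)), (⊤ : Subgroup (G ⧸ D))⁆ = ⊤ := by
  have h1 := (sup_eq_top_iff_map D _).mp hperf
  rw [Subgroup.map_commutator, ← MonoidHom.range_eq_map,
    MonoidHom.range_eq_top.mpr (QuotientGroup.mk'_surjective D)] at h1
  exact h1

/-- two supplements normal in a common overgroup intersect in a supplement -/
theorem inf_supplement_of_normal {G : Type*} [Group G] (D : Subgroup G) [D.Normal]
    (hperf : ⁅(⊤ : Subgroup G), (⊤ : Subgroup G)⁆ ⊔ D = ⊤) (W X Y : Subgroup G)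
    (hXW : X ≤ W) (hYW : Y ≤ W)
    (hX : W ≤ Subgroup.normalizer (X : Set G)) (hY : W ≤ Subgroup.normalizer (Y : Set G))
    (hXD : X ⊔ D = ⊤) (hYD : Y ⊔ D = ⊤) : (X ⊓ Y) ⊔ D = ⊤ := by
  rw [sup_eq_top_iff_map] at hXD hYD ⊢
  have h1 : ⁅X, Y⁆ ≤ X ⊓ Y := by
    apply le_inf
    · rw [Subgroup.commutator_le]
      intro x hx y hy
      have h2 : y * x⁻¹ * y⁻¹ ∈ X :=
        (Subgroup.mem_normalizer_iff.mp (hX (hYW hy)) _).mp (X.inv_mem hx)
      have h3 : ⁅x, y⁆ = x * (y * x⁻¹ * y⁻¹) := by rw [commutatorElement_def]; group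
      rw [h3]
      exact X.mul_mem hx h2
    · rw [Subgroup.commutator_le]
      intro x hx y hy
      have h2 : x * y * x⁻¹ ∈ Y := (Subgroup.mem_normalizer_iff.mp (hY (hXW hx)) _).mp hy
      rw [commutatorElement_def]
      exact Y.mul_mem h2 (Y.inv_mem hy)
  have h4 := Subgroup.map_mono (f := QuotientGroup.mk' D) h1
  rw [Subgroup.map_commutator, hXD, hYD, perfect_quot D hperf] at h4
  exact top_le_iff.mp h4

/-- the intersection of two subnormal supplements is a supplement -/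
theorem inf_supplement {G : Type*} [Group G] (D : Subgroup G) [D.Normal]
    (hperf : ⁅(⊤ : Subgroup G), (⊤ : Subgroup G)⁆ ⊔ D = ⊤) (X : Subgroup G)
    (hX : X.IsSubnormal) :
    X ⊔ D = ⊤ → ∀ Y : Subgroup G, Y.IsSubnormal → Y ⊔ D = ⊤ → (X ⊓ Y) ⊔ D = ⊤ := by
  induction hX with
  | top => intro _ Y _ hYD; rwa [top_inf_eq]
  | step X X₁ hle hX₁ hn ihX =>
    intro hXD Y hY
    have hX₁D : X₁ ⊔ D = ⊤ := top_le_iff.mp (hXD ▸ sup_le_sup_right hle D)
    have hX₁X : X₁ ≤ Subgroup.normalizer (X : Set G) :=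
      (Subgroup.normal_subgroupOf_iff_le_normalizer hle).mp hn
    induction hY with
    | top => intro _; rwa [inf_top_eq]
    | step Y Y₁ hle' hY₁ hn' ihY =>
      intro hYD
      have hY₁D : Y₁ ⊔ D = ⊤ := top_le_iff.mp (hYD ▸ sup_le_sup_right hle' D)
      have hY₁Y : Y₁ ≤ Subgroup.normalizer (Y : Set G) :=
        (Subgroup.normal_subgroupOf_iff_le_normalizer hle').mp hn'
      have h1 : (X ⊓ Y₁) ⊔ D = ⊤ := ihY hY₁D
      have h2 : (X₁ ⊓ Y) ⊔ D = ⊤ :=
        ihX hX₁D Y (Subgroup.IsSubnormal.step Y Y₁ hle' hY₁ hn') hYD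
      have h3 := inf_supplement_of_normal D hperf (X₁ ⊓ Y₁) (X ⊓ Y₁) (X₁ ⊓ Y)
        (inf_le_inf_right _ hle) (inf_le_inf_left _ hle')
        (fun w hw => mem_normalizer_inf _ _ w (hX₁X hw.1) (Subgroup.le_normalizer hw.2))
        (fun w hw => mem_normalizer_inf _ _ w (Subgroup.le_normalizer hw.1) (hY₁Y hw.2))
        h1 h2
      have h4 : (X ⊓ Y₁) ⊓ (X₁ ⊓ Y) = X ⊓ Y := by
        apply le_antisymm
        · exact le_inf (inf_le_left.trans inf_le_left) (inf_le_right.trans inf_le_right)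
        · exact le_inf (inf_le_inf_left _ hle') (inf_le_inf_right _ hle)
      rwa [h4] at h3


theorem result {G : Type*} [Group G] [Finite G] (D : Subgroup G) [D.Normal] (hperf : ⁅(⊤ : Subgroup G), (⊤ : Subgroup G)⁆ ⊔ D = ⊤) :
    ∃ B : Subgroup G, B.Normal ∧ B ⊔ D = ⊤ ∧ ∀ B' : Subgroup G, B'.IsSubnormal → B' ⊔ D = ⊤ → B ≤ B' := by
  classical
  have key : ∀ t : Set (Subgroup G), t.Finite →
      t ⊆ {Y : Subgroup G | Y.IsSubnormal ∧ Y ⊔ D = ⊤} →
      sInf t ∈ {Y : Subgroup G | Y.IsSubnormal ∧ Y ⊔ D = ⊤} := by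
    intro t ht
    induction t, ht using Set.Finite.induction_on with
    | empty =>
      intro _
      rw [sInf_empty]
      exact ⟨Subgroup.IsSubnormal.top, top_sup_eq _⟩
    | insert ha hs ih =>
      intro hsub
      rw [sInf_insert]
      have h1 := hsub (Set.mem_insert _ _)
      have h2 := ih (fun K hK => hsub (Set.mem_insert_of_mem _ hK))
      exact ⟨h1.1.inf h2.1, inf_supplement D hperf _ h1.1 h1.2 _ h2.1 h2.2⟩
  have hB := key _ (Set.toFinite _) le_rfl
  obtain ⟨B, hBdef⟩ : ∃ B : Subgroup G, B = sInf {Y : Subgroup G | Y.IsSubnormal ∧ Y ⊔ D = ⊤} :=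
    ⟨_, rfl⟩
  rw [← hBdef] at hB
  have hmin : ∀ B' : Subgroup G, B'.IsSubnormal → B' ⊔ D = ⊤ → B ≤ B' :=
    fun B' h1 h2 => hBdef ▸ sInf_le ⟨h1, h2⟩
  refine ⟨B, ?_, hB.2, hmin⟩
  have hconj : ∀ g : G, B ≤ B.map (MulAut.conj g).toMonoidHom := by
    intro g
    apply hmin _ (hB.1.map (MulAut.conj g).surjective)
    have h1 : (B ⊔ D).map (MulAut.conj g).toMonoidHom = ⊤ := by
      rw [hB.2, ← MonoidHom.range_eq_map]
      exact MonoidHom.range_eq_top.mpr (MulAut.conj g).surjective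
    rw [Subgroup.map_sup] at h1
    have h2 : D.map (MulAut.conj g).toMonoidHom = D := by
      apply (mem_normalizer_iff_map_conj D g).mp
      rw [Subgroup.normalizer_eq_top]; trivial
    rwa [h2] at h1
  rw [← Subgroup.normalizer_eq_top_iff, eq_top_iff]
  intro g _
  apply mem_normalizer_of_map_conj_le
  · have := Subgroup.map_mono (f := (MulAut.conj g).toMonoidHom) (hconj g⁻¹)
    rwa [map_conj_conj_inv] at this
  · have := Subgroup.map_mono (f := (MulAut.conj g⁻¹).toMonoidHom) (hconj g)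
    rwa [map_conj_inv_conj] at this

end Cfsg.Agent.S3027
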