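import Mathlib
import Cfsg.Statements.S3028
import Cfsg.Agent.Lib.Helper7.SubnJoin
import Cfsg.Agent.Lib.Helper5.SubnSylow
import Cfsg.Agent.Lib.Helper5.SubnClosure
import Cfsg.Agent.Lib.Helper3.Comp
import Cfsg.Agent.Lib.Helper3.Subn
import Cfsg.Agent.Lib.Helper4.Cores

set_option autoImplicit false
set_option maxHeartbeats 800000

open Cfsg
open Cfsg.Agent.Lib.Helper7.SubnJoin
open scoped commutatorElement

namespace Cfsg.Agent.S3028

universe u

/-- product formula when `H` normalizes `N` -/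
theorem card_sup_mul_card_inf {G : Type*} [Group G] [Finite G] (H N : Subgroup G)
    (h : H ≤ Subgroup.normalizer (N : Set G)) :
    Nat.card (H ⊔ N : Subgroup G) * Nat.card (H ⊓ N : Subgroup G) = Nat.card H * Nat.card N := by
  haveI := Subgroup.normal_subgroupOf_of_le_normalizer h
  haveI := Subgroup.normal_subgroupOf_sup_of_le_normalizer h
  have e := QuotientGroup.quotientInfEquivProdNormalizerQuotient H N h
  have h1 : (N.subgroupOf H).index = (N.subgroupOf (H ⊔ N)).index := by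
    rw [Subgroup.index, Subgroup.index]
    exact Nat.card_congr e.toEquiv
  have h3 : Nat.card (N.subgroupOf H) * (N.subgroupOf H).index = Nat.card H :=
    Subgroup.card_mul_index _
  have h4 : Nat.card (N.subgroupOf (H ⊔ N)) * (N.subgroupOf (H ⊔ N)).index =
      Nat.card (H ⊔ N : Subgroup G) := Subgroup.card_mul_index _
  have h5 : Nat.card (N.subgroupOf H) = Nat.card (H ⊓ N : Subgroup G) := by
    have : N.subgroupOf H = (H ⊓ N).subgroupOf H := by
      rw [inf_comm, Subgroup.inf_subgroupOf_right]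
    rw [this]
    exact Nat.card_congr (Subgroup.subgroupOfEquivOfLe inf_le_left).toEquiv
  have h6 : Nat.card (N.subgroupOf (H ⊔ N)) = Nat.card N :=
    Nat.card_congr (Subgroup.subgroupOfEquivOfLe le_sup_right).toEquiv
  rw [h5] at h3
  rw [h6] at h4
  rw [← h4, ← h3, h1]
  ring

/-- the `p`-part of a natural number -/
def pp (p n : ℕ) : ℕ := p ^ n.factorization p

theorem pp_mul (p : ℕ) {a b : ℕ} (ha : a ≠ 0) (hb : b ≠ 0) : pp p (a * b) = pp p a * pp p b := by
  unfold pp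
  rw [Nat.factorization_mul ha hb, Finsupp.add_apply, pow_add]

theorem pp_pos (p : ℕ) [hp : Fact p.Prime] (n : ℕ) : 0 < pp p n :=
  pow_pos hp.out.pos _

theorem card_inf_sylow {G : Type*} [Group G] [Finite G] {p : ℕ} [Fact p.Prime] (S : Sylow p G)
    (A : Subgroup G) (hA : A.IsSubnormal) :
    Nat.card (A ⊓ (S : Subgroup G) : Subgroup G) = pp p (Nat.card A) := by
  rw [inf_comm]
  exact Cfsg.Agent.Lib.Helper5.card_sylow_inf_subnormal S A hA

theorem normalizing_case {G : Type u} [Group G] [Finite G] {p : ℕ} [Fact p.Prime] (S : Sylow p G)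
    (A₁ A₂ : Subgroup G) (h₁ : A₁.IsSubnormal) (h₂ : A₂.IsSubnormal)
    (hn : A₁ ≤ Subgroup.normalizer (A₂ : Set G)) :
    (A₁ ⊔ A₂) ⊓ (S : Subgroup G) ≤ (A₁ ⊓ (S : Subgroup G)) ⊔ (A₂ ⊓ (S : Subgroup G)) := by
  have hJ : (A₁ ⊔ A₂).IsSubnormal := sup_isSubnormal h₁ h₂
  have hD : (A₁ ⊓ A₂).IsSubnormal := h₁.inf h₂
  have c1 := card_inf_sylow S A₁ h₁
  have c2 := card_inf_sylow S A₂ h₂
  have cJ := card_inf_sylow S _ hJ
  have cD := card_inf_sylow S _ hD
  have hPn : A₁ ⊓ (S : Subgroup G) ≤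
      Subgroup.normalizer ((A₂ ⊓ (S : Subgroup G) : Subgroup G) : Set G) := by
    intro x hx
    apply mem_normalizer_of_forall
    rintro y ⟨hy1, hy2⟩
    have hxn := (Subgroup.mem_normalizer_iff.1 (hn hx.1) y).1 hy1
    exact ⟨hxn, (S : Subgroup G).mul_mem ((S : Subgroup G).mul_mem hx.2 hy2)
      ((S : Subgroup G).inv_mem hx.2)⟩
  have f1 := card_sup_mul_card_inf A₁ A₂ hn
  have f2 := card_sup_mul_card_inf _ _ hPn
  have e1 : (A₁ ⊓ (S : Subgroup G)) ⊓ (A₂ ⊓ (S : Subgroup G)) = (A₁ ⊓ A₂) ⊓ (S : Subgroup G) :=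
    (inf_inf_distrib_right A₁ A₂ (S : Subgroup G)).symm
  rw [e1, cD, c1, c2] at f2
  have f3 : pp p (Nat.card (A₁ ⊔ A₂ : Subgroup G)) * pp p (Nat.card (A₁ ⊓ A₂ : Subgroup G)) =
      pp p (Nat.card A₁) * pp p (Nat.card A₂) := by
    rw [← pp_mul p Nat.card_pos.ne' Nat.card_pos.ne', ← pp_mul p Nat.card_pos.ne' Nat.card_pos.ne',
      f1]
  have f4 : Nat.card ((A₁ ⊓ (S : Subgroup G)) ⊔ (A₂ ⊓ (S : Subgroup G)) : Subgroup G) =
      pp p (Nat.card (A₁ ⊔ A₂ : Subgroup G)) := by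
    have hpos := pp_pos p (Nat.card (A₁ ⊓ A₂ : Subgroup G))
    exact Nat.eq_of_mul_eq_mul_right hpos (f2.trans f3.symm)
  have hle : (A₁ ⊓ (S : Subgroup G)) ⊔ (A₂ ⊓ (S : Subgroup G)) ≤ (A₁ ⊔ A₂) ⊓ (S : Subgroup G) :=
    sup_le (le_inf (inf_le_left.trans le_sup_left) inf_le_right)
      (le_inf (inf_le_left.trans le_sup_right) inf_le_right)
  have hcard : Nat.card ((A₁ ⊔ A₂) ⊓ (S : Subgroup G) : Subgroup G) ≤
      Nat.card ((A₁ ⊓ (S : Subgroup G)) ⊔ (A₂ ⊓ (S : Subgroup G)) : Subgroup G) := by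
    rw [cJ, f4]
  exact (Subgroup.eq_of_le_of_card_ge hle hcard).ge

/-- the statement for a group -/
def Good (p : ℕ) (X : Type u) [Group X] : Prop :=
  ∀ (B₁ B₂ : Subgroup X), B₁.IsSubnormal → B₂.IsSubnormal → ∀ S' : Sylow p X,
    (B₁ ⊔ B₂) ⊓ (S' : Subgroup X) ≤ (B₁ ⊓ (S' : Subgroup X)) ⊔ (B₂ ⊓ (S' : Subgroup X))

theorem transfer_subgroup {G : Type u} [Group G] [Finite G] {p : ℕ} [Fact p.Prime] (S : Sylow p G)
    (H A₁ A₂ : Subgroup G) (hH : H.IsSubnormal) (h₁ : A₁.IsSubnormal) (h₂ : A₂.IsSubnormal)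
    (hA₁ : A₁ ≤ H) (hA₂ : A₂ ≤ H) (good : Good p ↥H) :
    (A₁ ⊔ A₂) ⊓ (S : Subgroup G) ≤ (A₁ ⊓ (S : Subgroup G)) ⊔ (A₂ ⊓ (S : Subgroup G)) := by
  have hc : Nat.card ((S : Subgroup G).subgroupOf H) = p ^ (Nat.card H).factorization p := by
    rw [← Cfsg.Agent.Lib.Helper5.card_sylow_inf_subnormal S H hH]
    have : (S : Subgroup G).subgroupOf H = ((S : Subgroup G) ⊓ H).subgroupOf H :=
      (Subgroup.inf_subgroupOf_right _ _).symm
    rw [this]
    exact Nat.card_congr (Subgroup.subgroupOfEquivOfLe inf_le_right).toEquiv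
  have key := good (A₁.subgroupOf H) (A₂.subgroupOf H) h₁.subgroupOf h₂.subgroupOf
    (Sylow.ofCard _ hc)
  rw [Sylow.coe_ofCard] at key
  intro g hg
  have hgH : g ∈ H := (sup_le hA₁ hA₂) hg.1
  have h3 : (⟨g, hgH⟩ : H) ∈
      (A₁.subgroupOf H ⊔ A₂.subgroupOf H) ⊓ (S : Subgroup G).subgroupOf H := by
    rw [← Subgroup.subgroupOf_sup hA₁ hA₂]
    exact ⟨hg.1, hg.2⟩
  have h4 := key h3
  have h5 : ((A₁.subgroupOf H ⊓ (S : Subgroup G).subgroupOf H) ⊔
      (A₂.subgroupOf H ⊓ (S : Subgroup G).subgroupOf H)).map H.subtype ≤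
      (A₁ ⊓ (S : Subgroup G)) ⊔ (A₂ ⊓ (S : Subgroup G)) := by
    rw [Subgroup.map_sup]
    apply sup_le_sup
    · rintro _ ⟨y, hy, rfl⟩
      exact ⟨hy.1, hy.2⟩
    · rintro _ ⟨y, hy, rfl⟩
      exact ⟨hy.1, hy.2⟩
  exact h5 ⟨⟨g, hgH⟩, h4, rfl⟩

theorem transfer_quotient {G : Type u} [Group G] [Finite G] {p : ℕ} [Fact p.Prime] (S : Sylow p G)
    (D A₁ A₂ : Subgroup G) [D.Normal] (h₁ : A₁.IsSubnormal) (h₂ : A₂.IsSubnormal)
    (hD₁ : D ≤ A₁) (hD₂ : D ≤ A₂) (good : Good p (G ⧸ D)) :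
    (A₁ ⊔ A₂) ⊓ (S : Subgroup G) ≤ (A₁ ⊓ (S : Subgroup G)) ⊔ (A₂ ⊓ (S : Subgroup G)) := by
  have hπ : Function.Surjective (QuotientGroup.mk' D) := QuotientGroup.mk'_surjective D
  have key := good (A₁.map (QuotientGroup.mk' D)) (A₂.map (QuotientGroup.mk' D))
    (h₁.map hπ) (h₂.map hπ) (S.mapSurjective hπ)
  rw [Sylow.coe_mapSurjective] at key
  have hsub : ∀ (A : Subgroup G), D ≤ A →
      A.map (QuotientGroup.mk' D) ⊓ (S : Subgroup G).map (QuotientGroup.mk' D) ≤
        (A ⊓ (S : Subgroup G)).map (QuotientGroup.mk' D) := by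
    intro A hDA y hy
    obtain ⟨⟨a, ha, rfl⟩, ⟨s, hs, hsa⟩⟩ := hy
    have h1 : a⁻¹ * s ∈ D := QuotientGroup.eq.1 hsa.symm
    have h2 : s ∈ A := by
      have := A.mul_mem ha (hDA h1)
      simpa using this
    exact ⟨s, ⟨h2, hs⟩, hsa⟩
  intro g hg
  have h3 : QuotientGroup.mk' D g ∈ (A₁.map (QuotientGroup.mk' D) ⊔ A₂.map (QuotientGroup.mk' D)) ⊓
      (S : Subgroup G).map (QuotientGroup.mk' D) := by
    refine ⟨?_, ⟨g, hg.2, rfl⟩⟩
    rw [← Subgroup.map_sup]
    exact ⟨g, hg.1, rfl⟩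
  have h4 := key h3
  have h5 : (A₁.map (QuotientGroup.mk' D) ⊓ (S : Subgroup G).map (QuotientGroup.mk' D)) ⊔
      (A₂.map (QuotientGroup.mk' D) ⊓ (S : Subgroup G).map (QuotientGroup.mk' D)) ≤
      ((A₁ ⊓ (S : Subgroup G)) ⊔ (A₂ ⊓ (S : Subgroup G))).map (QuotientGroup.mk' D) := by
    rw [Subgroup.map_sup]
    exact sup_le_sup (hsub A₁ hD₁) (hsub A₂ hD₂)
  obtain ⟨t, ht, htg⟩ := h5 h4
  have h6 : t⁻¹ * g ∈ D := QuotientGroup.eq.1 htg
  have hTS : (A₁ ⊓ (S : Subgroup G)) ⊔ (A₂ ⊓ (S : Subgroup G)) ≤ (S : Subgroup G) :=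
    sup_le inf_le_right inf_le_right
  have h7 : t⁻¹ * g ∈ A₁ ⊓ (S : Subgroup G) :=
    ⟨hD₁ h6, (S : Subgroup G).mul_mem ((S : Subgroup G).inv_mem (hTS ht)) hg.2⟩
  have h8 := Subgroup.mul_mem _ ht ((le_sup_left : A₁ ⊓ (S : Subgroup G) ≤ _) h7)
  simpa using h8


/-- relative simplicity of a subgroup -/
def RelSimple {G : Type*} [Group G] (A : Subgroup G) : Prop :=
  ∀ B : Subgroup G, B ≤ A → A ≤ Subgroup.normalizer (B : Set G) → B = ⊥ ∨ B = A

theorem isSimpleGroup_of_relSimple {G : Type*} [Group G] [Finite G] {A : Subgroup G}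
    (hA : RelSimple A) (hne : A ≠ ⊥) : IsSimpleGroup ↥A := by
  haveI : Nontrivial ↥A := (Subgroup.nontrivial_iff_ne_bot A).2 hne
  refine ⟨fun H hH => ?_⟩
  have h1 : H.map A.subtype ≤ A := by
    rintro _ ⟨y, _, rfl⟩
    exact y.2
  have h2 : A ≤ Subgroup.normalizer ((H.map A.subtype : Subgroup G) : Set G) := by
    intro a ha
    apply mem_normalizer_of_forall
    rintro _ ⟨z, hz, rfl⟩
    refine ⟨⟨a, ha⟩ * z * (⟨a, ha⟩ : A)⁻¹, hH.conj_mem z hz _, ?_⟩
    simp
  rcases hA _ h1 h2 with h | h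
  · left
    exact (Subgroup.map_eq_bot_iff_of_injective H A.subtype_injective).1 h
  · right
    rw [eq_top_iff]
    intro z _
    have hz : (z : G) ∈ H.map A.subtype := by rw [h]; exact z.2
    obtain ⟨w, hw, hwz⟩ := hz
    have : w = z := Subtype.ext hwz
    rwa [this] at hw

theorem card_prime_of_relSimple_comm {G : Type*} [Group G] [Finite G] {A : Subgroup G}
    (hA : RelSimple A) (hne : A ≠ ⊥) (hc : ∀ x ∈ A, ∀ y ∈ A, x * y = y * x) :
    (Nat.card A).Prime := by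
  have h1 : Nat.card A ≠ 1 := by
    intro h
    exact hne (Subgroup.card_eq_one.1 h)
  have hr : (Nat.card A).minFac.Prime := Nat.minFac_prime h1
  haveI : Fact (Nat.card A).minFac.Prime := ⟨hr⟩
  obtain ⟨x, hx⟩ := exists_prime_orderOf_dvd_card' (G := ↥A) (Nat.card A).minFac
    (Nat.minFac_dvd _)
  have hxo : orderOf (x : G) = (Nat.card A).minFac := by
    rw [Subgroup.orderOf_coe]; exact hx
  have h2 : Subgroup.zpowers (x : G) ≤ A := by
    rw [Subgroup.zpowers_le]; exact x.2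
  have h3 : A ≤ Subgroup.normalizer ((Subgroup.zpowers (x : G) : Subgroup G) : Set G) := by
    refine le_trans ?_ (Subgroup.centralizer_le_normalizer _)
    intro a ha
    rw [Subgroup.mem_centralizer_iff]
    rintro y ⟨k, rfl⟩
    have hcm : Commute (x : G) a := hc _ x.2 _ ha
    exact (hcm.zpow_left k).eq
  rcases hA _ h2 h3 with h | h
  · exfalso
    have hx1 : (x : G) = 1 := by
      rw [← Subgroup.zpowers_eq_bot]; exact h
    rw [hx1, orderOf_one] at hxo
    exact hr.one_lt.ne hxo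
  · have : Nat.card A = (Nat.card A).minFac := by
      conv_lhs => rw [← h]
      rw [Nat.card_zpowers, hxo]
    rw [this]; exact hr

theorem isComponent_of_relSimple {G : Type*} [Group G] [Finite G] {A : Subgroup G}
    (hA : RelSimple A) (hsn : A.IsSubnormal)
    (hnc : ¬ ∀ x ∈ A, ∀ y ∈ A, x * y = y * x) : Cfsg.IsComponent A := by
  have hne : A ≠ ⊥ := by
    rintro rfl
    apply hnc
    intro x hx y hy
    rw [Subgroup.mem_bot] at hx hy
    rw [hx, hy]
  haveI hsimple := isSimpleGroup_of_relSimple hA hne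
  push_neg at hnc
  obtain ⟨x, hx, y, hy, hxy⟩ := hnc
  refine ⟨hsn, ?_, ?_⟩
  · rw [Subgroup.isPerfect_iff]
    have h1 : ⁅A, A⁆ ≤ A := by
      rw [Subgroup.commutator_le]
      intro a ha b hb
      exact A.mul_mem (A.mul_mem (A.mul_mem ha hb) (A.inv_mem ha)) (A.inv_mem hb)
    have h2 : A ≤ Subgroup.normalizer ((⁅A, A⁆ : Subgroup G) : Set G) := by
      intro a ha
      rw [mem_normalizer_iff_cj]
      unfold cj
      rw [Subgroup.map_commutator]
      have : A.map (MulAut.conj a).toMonoidHom = A :=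
        mem_normalizer_iff_cj.1 (Subgroup.le_normalizer ha)
      rw [this]
    rcases hA _ h1 h2 with h | h
    · exfalso
      have : ⁅x, y⁆ ∈ ⁅A, A⁆ := Subgroup.commutator_mem_commutator hx hy
      rw [h, Subgroup.mem_bot, commutatorElement_eq_one_iff_mul_comm] at this
      exact hxy this
    · exact h
  · have hz : (⟨x, hx⟩ : A) ∉ Subgroup.center ↥A := by
      intro hz
      have := Subgroup.mem_center_iff.1 hz ⟨y, hy⟩
      apply hxy
      have h3 := congrArg Subtype.val this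
      exact h3.symm
    haveI : Nontrivial (↥A ⧸ Subgroup.center ↥A) := by
      refine nontrivial_of_ne (QuotientGroup.mk (⟨x, hx⟩ : A)) 1 ?_
      rwa [Ne, QuotientGroup.eq_one_iff]
    exact IsSimpleGroup.isSimpleGroup_of_surjective (QuotientGroup.mk' (Subgroup.center ↥A))
      (QuotientGroup.mk'_surjective _)

theorem simple_pair {G : Type u} [Group G] [Finite G] (A₁ A₂ : Subgroup G)
    (h₁ : A₁.IsSubnormal) (h₂ : A₂.IsSubnormal)
    (hs₁ : RelSimple A₁) (hs₂ : RelSimple A₂) (hD : A₁ ⊓ A₂ = ⊥) :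
    ⁅A₁, A₂⁆ = ⊥ ∨ ∃ r k : ℕ, r.Prime ∧ Nat.card (A₁ ⊔ A₂ : Subgroup G) = r ^ k := by
  by_cases hb₁ : A₁ = ⊥
  · left; rw [hb₁]; exact Subgroup.commutator_bot_left _
  by_cases hb₂ : A₂ = ⊥
  · left; rw [hb₂]; exact Subgroup.commutator_bot_right _
  by_cases hc₁ : ∀ x ∈ A₁, ∀ y ∈ A₁, x * y = y * x
  swap
  · left
    have hcomp := isComponent_of_relSimple hs₁ h₁ hc₁
    rcases Cfsg.Agent.Lib.Helper3.component_subnormal hcomp h₂ with h | h
    · exfalso
      apply hb₁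
      rw [eq_bot_iff, ← hD]
      exact le_inf le_rfl h
    · exact h
  by_cases hc₂ : ∀ x ∈ A₂, ∀ y ∈ A₂, x * y = y * x
  swap
  · left
    have hcomp := isComponent_of_relSimple hs₂ h₂ hc₂
    rcases Cfsg.Agent.Lib.Helper3.component_subnormal hcomp h₁ with h | h
    · exfalso
      apply hb₂
      rw [eq_bot_iff, ← hD]
      exact le_inf h le_rfl
    · rw [Subgroup.commutator_comm]; exact h
  have hp₁ := card_prime_of_relSimple_comm hs₁ hb₁ hc₁
  have hp₂ := card_prime_of_relSimple_comm hs₂ hb₂ hc₂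
  haveI : Fact (Nat.card A₁).Prime := ⟨hp₁⟩
  haveI : Fact (Nat.card A₂).Prime := ⟨hp₂⟩
  have hg₁ : IsPGroup (Nat.card A₁) ↥A₁ := IsPGroup.of_card (n := 1) (by rw [pow_one])
  have hg₂ : IsPGroup (Nat.card A₂) ↥A₂ := IsPGroup.of_card (n := 1) (by rw [pow_one])
  have hle₁ := Cfsg.Agent.Lib.Helper3.subnormal_pgroup_le_pCore (Nat.card A₁) h₁ hg₁
  have hle₂ := Cfsg.Agent.Lib.Helper3.subnormal_pgroup_le_pCore (Nat.card A₂) h₂ hg₂
  by_cases hrs : Nat.card A₁ = Nat.card A₂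
  · right
    rw [← hrs] at hle₂
    have hle : A₁ ⊔ A₂ ≤ Cfsg.pCore (Nat.card A₁) G := sup_le hle₁ hle₂
    have hpg : IsPGroup (Nat.card A₁) ↥(A₁ ⊔ A₂ : Subgroup G) :=
      (Cfsg.Agent.Lib.Helper4.pCore_isPGroup).to_le hle
    obtain ⟨k, hk⟩ := IsPGroup.iff_card.1 hpg
    exact ⟨_, k, hp₁, hk⟩
  · left
    have hdisj : Disjoint (Cfsg.pCore (Nat.card A₁) G) (Cfsg.pCore (Nat.card A₂) G) :=
      IsPGroup.disjoint_of_ne _ _ hrs _ _ Cfsg.Agent.Lib.Helper4.pCore_isPGroup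
        Cfsg.Agent.Lib.Helper4.pCore_isPGroup
    rw [eq_bot_iff, Subgroup.commutator_le]
    intro a ha b hb
    have := Subgroup.commute_of_normal_of_disjoint _ _ (Cfsg.pCore_normal _ G)
      (Cfsg.pCore_normal _ G) hdisj a b (hle₁ ha) (hle₂ hb)
    rw [Subgroup.mem_bot, commutatorElement_eq_one_iff_commute]
    exact this


theorem card_lt_of_ne_top {G : Type*} [Group G] [Finite G] {H : Subgroup G} (h : H ≠ ⊤) :
    Nat.card H < Nat.card G := by
  rcases (Subgroup.card_le_card_group H).lt_or_eq with h1 | h1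
  · exact h1
  · exact absurd ((Subgroup.card_eq_iff_eq_top H).1 h1) h

theorem card_lt_of_lt' {G : Type*} [Group G] [Finite G] {H K : Subgroup G} (hle : H ≤ K)
    (hne : ¬ K ≤ H) : Nat.card H < Nat.card K := by
  by_contra hc
  push_neg at hc
  exact hne (Subgroup.eq_of_le_of_card_ge hle hc).ge

/-- enlarge `A₁` by a subnormal piece `B` of `A₂` -/
theorem reduce {G : Type u} [Group G] [Finite G] {p : ℕ} [Fact p.Prime] (S : Sylow p G)
    (outer : ∀ (H : Subgroup G), H ≠ ⊤ → Good p ↥H)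
    (A₁ A₂ B : Subgroup G) (h₁ : A₁.IsSubnormal) (h₂ : A₂.IsSubnormal) (hB : B.IsSubnormal)
    (hBA₂ : B ≤ A₂) (hBA₁ : ¬ B ≤ A₁) (hne : A₁ ⊔ B ≠ ⊤)
    (innerIH : ∀ (C₁ C₂ : Subgroup G), C₁.IsSubnormal → C₂.IsSubnormal →
        Nat.card A₁ + Nat.card A₂ < Nat.card C₁ + Nat.card C₂ →
        (C₁ ⊔ C₂) ⊓ (S : Subgroup G) ≤ (C₁ ⊓ (S : Subgroup G)) ⊔ (C₂ ⊓ (S : Subgroup G))) :
    (A₁ ⊔ A₂) ⊓ (S : Subgroup G) ≤ (A₁ ⊓ (S : Subgroup G)) ⊔ (A₂ ⊓ (S : Subgroup G)) := by
  have hH : (A₁ ⊔ B).IsSubnormal := sup_isSubnormal h₁ hB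
  have k1 : (A₁ ⊔ B) ⊓ (S : Subgroup G) ≤ (A₁ ⊓ (S : Subgroup G)) ⊔ (B ⊓ (S : Subgroup G)) :=
    transfer_subgroup S (A₁ ⊔ B) A₁ B hH h₁ hB le_sup_left le_sup_right (outer _ hne)
  have hlt : Nat.card A₁ < Nat.card (A₁ ⊔ B : Subgroup G) :=
    card_lt_of_lt' le_sup_left (fun h => hBA₁ (le_sup_right.trans h))
  have k2 := innerIH (A₁ ⊔ B) A₂ hH h₂ (by omega)
  have k3 : (A₁ ⊔ B) ⊓ (S : Subgroup G) ≤ (A₁ ⊓ (S : Subgroup G)) ⊔ (A₂ ⊓ (S : Subgroup G)) :=
    k1.trans (sup_le_sup le_rfl (inf_le_inf_right _ hBA₂))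
  have k4 : (A₁ ⊔ A₂) ⊓ (S : Subgroup G) ≤ (A₁ ⊔ B ⊔ A₂) ⊓ (S : Subgroup G) :=
    inf_le_inf_right _ (sup_le (le_sup_left.trans le_sup_left) le_sup_right)
  exact k4.trans (k2.trans (sup_le k3 le_sup_right))

theorem main (p : ℕ) [Fact p.Prime] : ∀ n : ℕ, ∀ (G : Type u) [Group G] [Finite G],
    Nat.card G = n → Good p G := by
  intro n
  induction n using Nat.strong_induction_on with
  | _ n ih =>
    intro G _ _ hn
    have outer : ∀ (H : Subgroup G), H ≠ ⊤ → Good p ↥H := by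
      intro H hH
      exact ih _ (by rw [← hn]; exact card_lt_of_ne_top hH) ↥H rfl
    have inner : ∀ k : ℕ, ∀ (A₁ A₂ : Subgroup G), A₁.IsSubnormal → A₂.IsSubnormal →
        2 * Nat.card G - (Nat.card A₁ + Nat.card A₂) = k → ∀ S : Sylow p G,
        (A₁ ⊔ A₂) ⊓ (S : Subgroup G) ≤ (A₁ ⊓ (S : Subgroup G)) ⊔ (A₂ ⊓ (S : Subgroup G)) := by
      intro k
      induction k using Nat.strong_induction_on with
      | _ k ihk =>
        intro A₁ A₂ h₁ h₂ hk S
        have innerIH : ∀ (C₁ C₂ : Subgroup G), C₁.IsSubnormal → C₂.IsSubnormal →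
            Nat.card A₁ + Nat.card A₂ < Nat.card C₁ + Nat.card C₂ →
            (C₁ ⊔ C₂) ⊓ (S : Subgroup G) ≤
              (C₁ ⊓ (S : Subgroup G)) ⊔ (C₂ ⊓ (S : Subgroup G)) := by
          intro C₁ C₂ hc₁ hc₂ hlt
          have b1 := Subgroup.card_le_card_group C₁
          have b2 := Subgroup.card_le_card_group C₂
          exact ihk (2 * Nat.card G - (Nat.card C₁ + Nat.card C₂)) (by omega) C₁ C₂ hc₁ hc₂ rfl S
        have innerIH' : ∀ (C₁ C₂ : Subgroup G), C₁.IsSubnormal → C₂.IsSubnormal →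
            Nat.card A₂ + Nat.card A₁ < Nat.card C₁ + Nat.card C₂ →
            (C₁ ⊔ C₂) ⊓ (S : Subgroup G) ≤
              (C₁ ⊓ (S : Subgroup G)) ⊔ (C₂ ⊓ (S : Subgroup G)) := by
          intro C₁ C₂ hc₁ hc₂ hlt
          exact innerIH C₁ C₂ hc₁ hc₂ (by omega)
        -- symmetric form of the goal
        have swap : (A₂ ⊔ A₁) ⊓ (S : Subgroup G) ≤
            (A₂ ⊓ (S : Subgroup G)) ⊔ (A₁ ⊓ (S : Subgroup G)) →
            (A₁ ⊔ A₂) ⊓ (S : Subgroup G) ≤
            (A₁ ⊓ (S : Subgroup G)) ⊔ (A₂ ⊓ (S : Subgroup G)) := by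
          intro h
          rw [sup_comm A₁ A₂, sup_comm (A₁ ⊓ (S : Subgroup G))]
          exact h
        by_cases hJ : A₁ ⊔ A₂ = ⊤
        swap
        · exact transfer_subgroup S (A₁ ⊔ A₂) A₁ A₂ (sup_isSubnormal h₁ h₂) h₁ h₂ le_sup_left
            le_sup_right (outer _ hJ)
        by_cases hn₁ : A₁ ≤ Subgroup.normalizer (A₂ : Set G)
        · exact normalizing_case S A₁ A₂ h₁ h₂ hn₁
        by_cases hn₂ : A₂ ≤ Subgroup.normalizer (A₁ : Set G)
        · exact swap (normalizing_case S A₂ A₁ h₂ h₁ hn₂)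
        have hA₁top : A₁ ≠ ⊤ := by
          rintro rfl
          apply hn₂
          rw [Subgroup.normalizer_eq_top_iff.2 inferInstance]
          exact le_top
        have hA₂top : A₂ ≠ ⊤ := by
          rintro rfl
          apply hn₁
          rw [Subgroup.normalizer_eq_top_iff.2 inferInstance]
          exact le_top
        obtain ⟨N, hNn, hA₁N, hNlt⟩ := h₁.exists_normal_and_le_and_lt_top_of_ne hA₁top
        obtain ⟨N', hN'n, hA₂N', hN'lt⟩ := h₂.exists_normal_and_le_and_lt_top_of_ne hA₂top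
        by_cases hP1 : A₂ ⊓ N ≤ A₁
        swap
        · refine reduce S outer A₁ A₂ (A₂ ⊓ N) h₁ h₂ (h₂.inf hNn.isSubnormal) inf_le_left hP1 ?_
            innerIH
          intro htop
          have : A₁ ⊔ A₂ ⊓ N ≤ N := sup_le hA₁N inf_le_right
          rw [htop] at this
          exact hNlt.ne (top_le_iff.1 this)
        by_cases hP2 : A₁ ⊓ N' ≤ A₂
        swap
        · apply swap
          refine reduce S outer A₂ A₁ (A₁ ⊓ N') h₂ h₁ (h₁.inf hN'n.isSubnormal) inf_le_left hP2 ?_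
            innerIH'
          intro htop
          have : A₂ ⊔ A₁ ⊓ N' ≤ N' := sup_le hA₂N' inf_le_right
          rw [htop] at this
          exact hN'lt.ne (top_le_iff.1 this)
        have hD_eq₂ : A₁ ⊓ A₂ = A₂ ⊓ N :=
          le_antisymm (le_inf inf_le_right (inf_le_left.trans hA₁N)) (le_inf hP1 inf_le_left)
        have hD_eq₁ : A₁ ⊓ A₂ = A₁ ⊓ N' :=
          le_antisymm (le_inf inf_le_left (inf_le_right.trans hA₂N')) (le_inf inf_le_left hP2)
        have hDn : (A₁ ⊓ A₂).Normal := by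
          have e₂ : A₂ ≤ Subgroup.normalizer ((A₁ ⊓ A₂ : Subgroup G) : Set G) := by
            rw [hD_eq₂]
            intro a ha
            apply mem_normalizer_of_forall
            rintro y ⟨hy1, hy2⟩
            exact ⟨A₂.mul_mem (A₂.mul_mem ha hy1) (A₂.inv_mem ha), hNn.conj_mem y hy2 a⟩
          have e₁ : A₁ ≤ Subgroup.normalizer ((A₁ ⊓ A₂ : Subgroup G) : Set G) := by
            rw [hD_eq₁]
            intro a ha
            apply mem_normalizer_of_forall
            rintro y ⟨hy1, hy2⟩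
            exact ⟨A₁.mul_mem (A₁.mul_mem ha hy1) (A₁.inv_mem ha), hN'n.conj_mem y hy2 a⟩
          have h3 : A₁ ⊔ A₂ ≤ Subgroup.normalizer ((A₁ ⊓ A₂ : Subgroup G) : Set G) := sup_le e₁ e₂
          rw [hJ, top_le_iff] at h3
          exact Subgroup.normalizer_eq_top_iff.1 h3
        by_cases hD : A₁ ⊓ A₂ = ⊥
        swap
        · haveI := hDn
          refine transfer_quotient S (A₁ ⊓ A₂) A₁ A₂ h₁ h₂ inf_le_left inf_le_right ?_
          refine ih _ ?_ (G ⧸ (A₁ ⊓ A₂)) rfl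
          rw [← hn, Subgroup.card_eq_card_quotient_mul_card_subgroup (A₁ ⊓ A₂)]
          have h1 : 1 < Nat.card (A₁ ⊓ A₂ : Subgroup G) := by
            rw [Subgroup.one_lt_card_iff_ne_bot]; exact hD
          have h2 : 0 < Nat.card (G ⧸ (A₁ ⊓ A₂)) := Nat.card_pos
          nlinarith
        have hN₂ : A₂ ⊓ N = ⊥ := by rw [← hD_eq₂]; exact hD
        have hN₁ : A₁ ⊓ N' = ⊥ := by rw [← hD_eq₁]; exact hD
        -- card identities
        have hNtop : Subgroup.normalizer (N : Set G) = ⊤ := Subgroup.normalizer_eq_top_iff.2 hNn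
        have hN'top : Subgroup.normalizer (N' : Set G) = ⊤ := Subgroup.normalizer_eq_top_iff.2 hN'n
        by_cases hs₂ : RelSimple A₂
        swap
        · unfold RelSimple at hs₂
          push_neg at hs₂
          obtain ⟨B, hBA₂, hBn, hB0, hB1⟩ := hs₂
          have hBsn : B.IsSubnormal :=
            Cfsg.Agent.Lib.Helper5.isSubnormal_of_le_normalizer B A₂ hBA₂ h₂ hBn
          have hBA₁ : ¬ B ≤ A₁ := fun h => hB0 (le_bot_iff.1 (hD ▸ le_inf h hBA₂))
          refine reduce S outer A₁ A₂ B h₁ h₂ hBsn hBA₂ hBA₁ ?_ innerIH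
          intro htop
          apply hB1
          have t1 : B ⊔ N = ⊤ := by
            rw [eq_top_iff, ← htop]
            exact sup_le (hA₁N.trans le_sup_right) le_sup_left
          have t2 : A₂ ⊔ N = ⊤ := by
            rw [eq_top_iff, ← hJ]
            exact sup_le (hA₁N.trans le_sup_right) le_sup_left
          have f1 := card_sup_mul_card_inf B N (by rw [hNtop]; exact le_top)
          have f2 := card_sup_mul_card_inf A₂ N (by rw [hNtop]; exact le_top)
          have hBN : B ⊓ N = ⊥ := le_bot_iff.1 (hN₂ ▸ inf_le_inf_right N hBA₂)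
          rw [t1, hBN, Subgroup.card_bot, mul_one] at f1
          rw [t2, hN₂, Subgroup.card_bot, mul_one] at f2
          have hNpos : 0 < Nat.card N := Nat.card_pos
          have : Nat.card A₂ = Nat.card B :=
            Nat.eq_of_mul_eq_mul_right hNpos (f2.symm.trans f1)
          exact Subgroup.eq_of_le_of_card_ge hBA₂ this.le
        by_cases hs₁ : RelSimple A₁
        swap
        · unfold RelSimple at hs₁
          push_neg at hs₁
          obtain ⟨B, hBA₁, hBn, hB0, hB1⟩ := hs₁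
          have hBsn : B.IsSubnormal :=
            Cfsg.Agent.Lib.Helper5.isSubnormal_of_le_normalizer B A₁ hBA₁ h₁ hBn
          have hBA₂ : ¬ B ≤ A₂ := fun h => hB0 (le_bot_iff.1 (hD ▸ le_inf hBA₁ h))
          apply swap
          refine reduce S outer A₂ A₁ B h₂ h₁ hBsn hBA₁ hBA₂ ?_ innerIH'
          intro htop
          apply hB1
          have t1 : B ⊔ N' = ⊤ := by
            rw [eq_top_iff, ← htop]
            exact sup_le (hA₂N'.trans le_sup_right) le_sup_left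
          have t2 : A₁ ⊔ N' = ⊤ := by
            rw [eq_top_iff, ← hJ]
            exact sup_le le_sup_left (hA₂N'.trans le_sup_right)
          have f1 := card_sup_mul_card_inf B N' (by rw [hN'top]; exact le_top)
          have f2 := card_sup_mul_card_inf A₁ N' (by rw [hN'top]; exact le_top)
          have hBN : B ⊓ N' = ⊥ := le_bot_iff.1 (hN₁ ▸ inf_le_inf_right N' hBA₁)
          rw [t1, hBN, Subgroup.card_bot, mul_one] at f1
          rw [t2, hN₁, Subgroup.card_bot, mul_one] at f2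
          have hNpos : 0 < Nat.card N' := Nat.card_pos
          have : Nat.card A₁ = Nat.card B :=
            Nat.eq_of_mul_eq_mul_right hNpos (f2.symm.trans f1)
          exact Subgroup.eq_of_le_of_card_ge hBA₁ this.le
        rcases simple_pair A₁ A₂ h₁ h₂ hs₁ hs₂ hD with hcomm | ⟨r, k', hr, hrk⟩
        · exfalso
          apply hn₁
          refine le_trans ?_ (Subgroup.centralizer_le_normalizer _)
          rw [← Subgroup.commutator_eq_bot_iff_le_centralizer]
          exact hcomm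
        · rw [hJ, Subgroup.card_top] at hrk
          have hS := S.card_eq_multiplicity
          by_cases hrp : r = p
          · have hStop : (S : Subgroup G) = ⊤ := by
              apply Subgroup.eq_top_of_card_eq
              rw [hS, hrk, hrp, Nat.factorization_pow, Finsupp.smul_apply,
                Nat.Prime.factorization_self (Fact.out : p.Prime), smul_eq_mul, mul_one]
            rw [hStop]
            simp
          · have hSbot : (S : Subgroup G) = ⊥ := by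
              apply Subgroup.eq_bot_of_card_eq
              have : r.factorization p = 0 := by
                rw [Nat.factorization_eq_zero_iff]
                right; left
                intro hdvd
                exact hrp ((Nat.prime_dvd_prime_iff_eq (Fact.out : p.Prime) hr).1 hdvd).symm
              rw [hS, hrk, Nat.factorization_pow, Finsupp.smul_apply, this, smul_zero, pow_zero]
            rw [hSbot]
            simp
    intro A₁ A₂ h₁ h₂ S
    exact inner _ A₁ A₂ h₁ h₂ rfl S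

/-- Let G be a finite group, p a prime, S a Sylow p-subgroup of G and A₁, A₂ subnormal subgroups of G. Then the join of S ∩ A₁ and S ∩ A₂ is a Sylow p-subgroup of the join of A₁ and A₂; equivalently ⟨A₁, A₂⟩ ∩ S = ⟨A₁ ∩ S, A₂ ∩ S⟩. -/
theorem result {G : Type*} [Group G] [Finite G] {p : ℕ} [Fact p.Prime] (S : Sylow p G) (A₁ A₂ : Subgroup G)
    (h₁ : A₁.IsSubnormal) (h₂ : A₂.IsSubnormal) :
    (A₁ ⊔ A₂) ⊓ (S : Subgroup G) = (A₁ ⊓ (S : Subgroup G)) ⊔ (A₂ ⊓ (S : Subgroup G)) := by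
  apply le_antisymm
  · exact main p _ G rfl A₁ A₂ h₁ h₂ S
  · exact sup_le (le_inf (inf_le_left.trans le_sup_left) inf_le_right)
      (le_inf (inf_le_left.trans le_sup_right) inf_le_right)

end Cfsg.Agent.S3028
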