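import Cfsg.Statements.S3036
import Cfsg.Agent.Lib.Helper5.CD2
import Cfsg.Agent.Lib.Helper5.CL

set_option autoImplicit false
open Cfsg

namespace Cfsg.Agent.S3036

theorem result {G : Type*} [Group G] [Finite G] [IsSimpleGroup G] (hG : ¬ IsMulCommutative G) (A : Subgroup G) (hA1 : A ≠ ⊥) (hA2 : A ≠ ⊤) : Nat.card A * Nat.card ↥(Subgroup.centralizer (A : Set G)) < Nat.card G := by
  have hcenter : Subgroup.center G = ⊥ := by
    rcases (Subgroup.center G).normal_of_characteristic.eq_bot_or_eq_top with h | h
    · exact h
    · exfalso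
      apply hG
      rw [isMulCommutative_iff]
      intro a b
      have ha : a ∈ Subgroup.center G := by rw [h]; exact Subgroup.mem_top a
      exact (Subgroup.mem_center_iff.mp ha b).symm
  obtain ⟨X, hX⟩ := Cfsg.Agent.Lib.Helper5.exists_isCentralizerLarge G
  have hmax : Cfsg.maxCentralizerProduct G = Nat.card G := by
    rcases Cfsg.Agent.Lib.Helper5.isCentralizerLarge_simple X hX with h | h
    · subst h
      unfold Cfsg.IsCentralizerLarge at hX
      rw [← hX]
      have : Subgroup.centralizer ((⊥ : Subgroup G) : Set G) = ⊤ := by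
        rw [Subgroup.centralizer_eq_top_iff_subset]
        intro x hx
        have : x = 1 := by simpa using hx
        rw [this]; exact Subgroup.one_mem _
      rw [this, Subgroup.card_bot, Subgroup.card_top, one_mul]
    · subst h
      unfold Cfsg.IsCentralizerLarge at hX
      rw [← hX, Subgroup.coe_top, Subgroup.centralizer_univ, hcenter, Subgroup.card_bot, Subgroup.card_top,
        mul_one]
  by_contra hcon
  rw [not_lt] at hcon
  have h1 := Cfsg.Agent.Lib.Helper5.cdm_le_max A
  have h2 : Cfsg.IsCentralizerLarge A := by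
    unfold Cfsg.IsCentralizerLarge
    unfold Cfsg.Agent.Lib.Helper5.cdm at h1
    omega
  rcases Cfsg.Agent.Lib.Helper5.isCentralizerLarge_simple A h2 with h | h
  · exact hA1 h
  · exact hA2 h

end Cfsg.Agent.S3036
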