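import Cfsg.Statements.S3053
import Mathlib
import Cfsg.Agent.Lib.Helper4.ConjSub
import Cfsg.Agent.Lib.Helper1.Class2
import Cfsg.Agent.Lib.Helper9.ExtraSub

set_option autoImplicit false
open Cfsg

namespace Cfsg.Agent.S3053

open Cfsg.Agent.Lib.Helper4
open scoped commutatorElement

section
variable {G : Type*} [Group G]

theorem conj_eq_one' {n a : G} (h : n * a * n⁻¹ = 1) : a = 1 := by
  have e : a = n⁻¹ * (n * a * n⁻¹) * n := by group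
  rw [e, h]; group

theorem mem_cent_single {k h : G} : k ∈ Subgroup.centralizer ({h} : Set G) ↔ h * k = k * h := by
  rw [Subgroup.mem_centralizer_iff]
  constructor
  · intro H; exact H h rfl
  · intro H t ht
    rw [Set.mem_singleton_iff.1 ht]; exact H

theorem exists_cj_le_sylow' [Finite G] {p : ℕ} [Fact p.Prime] (S : Sylow p G) (C Q : Subgroup G)
    (hSC : (S : Subgroup G) ≤ C) (hQC : Q ≤ C) (hQ : IsPGroup p Q) :
    ∃ h ∈ C, cj h Q ≤ (S : Subgroup G) := by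
  classical
  have hQ' : IsPGroup p (Q.subgroupOf C) := hQ.comap_subtype
  obtain ⟨R', hR'⟩ := hQ'.exists_le_sylow
  obtain ⟨h, hh⟩ := MulAction.exists_smul_eq C R' (S.subtype hSC)
  refine ⟨(h : G), h.2, ?_⟩
  intro x hx
  rw [mem_cj_iff] at hx
  have hxC : (h : G)⁻¹ * x * (h : G) ∈ C := hQC hx
  have h1 : (⟨(h : G)⁻¹ * x * (h : G), hxC⟩ : C) ∈ (R' : Subgroup C) :=
    hR' (by rw [Subgroup.mem_subgroupOf]; exact hx)
  have h2 : h * ⟨(h : G)⁻¹ * x * (h : G), hxC⟩ * h⁻¹ ∈ ((h • R' : Sylow p C) : Subgroup C) := by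
    rw [sylow_smul_eq_cj]; exact conj_mem_cj h _ h1
  rw [hh] at h2
  have h3 : ((h * ⟨(h : G)⁻¹ * x * (h : G), hxC⟩ * h⁻¹ : C) : G) ∈ (S : Subgroup G) := by
    rw [Sylow.coe_subtype] at h2
    exact Subgroup.mem_subgroupOf.1 h2
  have h4 : ((h * ⟨(h : G)⁻¹ * x * (h : G), hxC⟩ * h⁻¹ : C) : G) = x := by
    simp [mul_assoc]
  rwa [h4] at h3

/-- if `t` inverts commuting elements `z₁`, `x`, it inverts `z₁ ^ m * x`. -/
theorem inv_of_inv {t z₁ x : G} (hz : t * z₁ * t⁻¹ = z₁⁻¹) (hx : t * x * t⁻¹ = x⁻¹)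
    (hc : x * z₁ = z₁ * x) (m : ℕ) : t * (z₁ ^ m * x) * t⁻¹ = (z₁ ^ m * x)⁻¹ := by
  have h1 : t * z₁ ^ m * t⁻¹ = (z₁ ^ m)⁻¹ := by rw [← conj_pow, hz, inv_pow]
  have h2 : x * z₁ ^ m = z₁ ^ m * x := (Commute.pow_right (show Commute x z₁ from hc) m).eq
  calc t * (z₁ ^ m * x) * t⁻¹ = (t * z₁ ^ m * t⁻¹) * (t * x * t⁻¹) := by group
    _ = (z₁ ^ m)⁻¹ * x⁻¹ := by rw [h1, hx]
    _ = (x * z₁ ^ m)⁻¹ := by group
    _ = (z₁ ^ m * x)⁻¹ := by rw [h2]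

theorem main_arg [Finite G] {p : ℕ} [Fact p.Prime] (hp2 : p ≠ 2) (P : Sylow p G)
    (Z Ω : Subgroup G)
    (hZS : Z ≤ (P : Subgroup G)) (hΩS : Ω ≤ (P : Subgroup G))
    (hZc : ∀ ζ ∈ Z, ∀ a ∈ (P : Subgroup G), a * ζ = ζ * a)
    (hZcen : ∀ w ∈ (P : Subgroup G), (∀ a ∈ (P : Subgroup G), a * w = w * a) → w ∈ Z)
    (hcomm : ∀ a ∈ (P : Subgroup G), ∀ b ∈ (P : Subgroup G), a * b * a⁻¹ * b⁻¹ ∈ Z)
    (hpowZ : ∀ a ∈ (P : Subgroup G), a ^ p ∈ Z)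
    (hpowmul : ∀ a ∈ (P : Subgroup G), ∀ b ∈ (P : Subgroup G), (a * b) ^ p = a ^ p * b ^ p)
    (hΩ : ∀ a, a ∈ Ω ↔ a ∈ (P : Subgroup G) ∧ a ^ p = 1)
    (hΩab : ∀ a ∈ Ω, ∀ b ∈ Ω, a * b = b * a)
    (hc₀ : ∃ c₀ ∈ (P : Subgroup G), c₀ ^ p ≠ 1)
    (hZp : ∀ ζ ∈ Z, ζ ^ p = 1)
    (hZcyc : ∀ ζ₀ ∈ Z, ζ₀ ≠ 1 → ∀ ζ ∈ Z, ∃ j : ℕ, ζ₀ ^ j = ζ)
    (z : G) (hz : z ∈ Z) (g : G) (hx : g * z * g⁻¹ ∈ (P : Subgroup G)) : g * z * g⁻¹ ∈ Z := by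
  classical
  have hp : p.Prime := Fact.out
  obtain ⟨S, hS⟩ : ∃ S : Subgroup G, S = (P : Subgroup G) := ⟨_, rfl⟩
  rw [← hS] at hZS hΩS hZc hZcen hcomm hpowZ hpowmul hΩ hc₀ hx
  obtain ⟨x, hxdef⟩ : ∃ x : G, x = g * z * g⁻¹ := ⟨_, rfl⟩
  rw [← hxdef] at hx ⊢
  by_contra hxZ
  have hxp : x ^ p = 1 := by
    rw [hxdef, conj_pow, hZp z hz]; group
  have hxΩ : x ∈ Ω := (hΩ x).2 ⟨hx, hxp⟩
  have hZΩ : Z ≤ Ω := fun ζ hζ => (hΩ ζ).2 ⟨hZS hζ, hZp ζ hζ⟩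
  -- centralizers of non-central elements of Ω
  have hcent : ∀ w ∈ Ω, w ∉ Z → ∀ k ∈ S, k * w = w * k → k ∈ Ω := by
    intro w hwΩ hwZ k hkS hkw
    by_contra hkΩ
    have hkp : k ^ p ≠ 1 := fun h => hkΩ ((hΩ k).2 ⟨hkS, h⟩)
    apply hwZ
    apply hZcen w (hΩS hwΩ)
    intro c hcS
    obtain ⟨m, hm⟩ := hZcyc (k ^ p) (hpowZ k hkS) hkp (c ^ p) (hpowZ c hcS)
    have hkmS : (k ^ m)⁻¹ ∈ S := S.inv_mem (S.pow_mem hkS m)
    have hω : c * (k ^ m)⁻¹ ∈ Ω := by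
      rw [hΩ]
      refine ⟨S.mul_mem hcS hkmS, ?_⟩
      rw [hpowmul c hcS _ hkmS, inv_pow, ← pow_mul, mul_comm m p, pow_mul, hm, mul_inv_cancel]
    have h1 : (c * (k ^ m)⁻¹) * w = w * (c * (k ^ m)⁻¹) := hΩab _ hω _ hwΩ
    have h2 : k ^ m * w = w * k ^ m := (Commute.pow_left (show Commute k w from hkw) m).eq
    generalize k ^ m = km at h1 h2
    calc c * w = (c * km⁻¹) * (km * w) := by group
      _ = (c * km⁻¹) * (w * km) := by rw [h2]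
      _ = ((c * km⁻¹) * w) * km := by group
      _ = (w * (c * km⁻¹)) * km := by rw [h1]
      _ = w * c := by group
  -- extremal conjugation
  have hstep3 : ∃ q : G, q * x * q⁻¹ = z ∧ (∀ ω ∈ Ω, q * ω * q⁻¹ ∈ Ω) ∧
      (∀ ω ∈ Ω, q⁻¹ * ω * q ∈ Ω) := by
    obtain ⟨Cz, hCz⟩ : ∃ Cz : Subgroup G, Cz = Subgroup.centralizer {z} := ⟨_, rfl⟩
    have hSCz : (P : Subgroup G) ≤ Cz := by
      intro a ha
      rw [hCz, mem_cent_single]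
      rw [← hS] at ha
      exact (hZc z hz a ha).symm
    have hQCz : cj g⁻¹ Ω ≤ Cz := by
      intro w hw
      rw [mem_cj_iff, inv_inv] at hw
      rw [hCz, mem_cent_single]
      have h1 := hΩab _ hw _ hxΩ
      have h2 : g * (w * z) * g⁻¹ = g * (z * w) * g⁻¹ := by
        calc g * (w * z) * g⁻¹ = (g * w * g⁻¹) * x := by rw [hxdef]; group
          _ = x * (g * w * g⁻¹) := h1
          _ = g * (z * w) * g⁻¹ := by rw [hxdef]; group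
      exact (mul_left_cancel (mul_right_cancel h2)).symm
    have hΩp : IsPGroup p Ω := P.2.to_le (hS ▸ hΩS)
    obtain ⟨h, hhC, hle⟩ := exists_cj_le_sylow' P Cz (cj g⁻¹ Ω) hSCz hQCz (cj_isPGroup p g⁻¹ hΩp)
    have hhz : z * h = h * z := by rw [hCz, mem_cent_single] at hhC; exact hhC
    have hq1 : ∀ ω ∈ Ω, (h * g⁻¹) * ω * (h * g⁻¹)⁻¹ ∈ Ω := by
      intro ω hω
      rw [hΩ]
      constructor
      · rw [hS]
        apply hle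
        have h1 : g⁻¹ * ω * (g⁻¹)⁻¹ ∈ cj g⁻¹ Ω := conj_mem_cj g⁻¹ Ω hω
        have h2 := conj_mem_cj h _ h1
        have e : (h * g⁻¹) * ω * (h * g⁻¹)⁻¹ = h * (g⁻¹ * ω * (g⁻¹)⁻¹) * h⁻¹ := by group
        rw [e]; exact h2
      · rw [conj_pow, ((hΩ ω).1 hω).2]; group
    have hcjle : cj (h * g⁻¹) Ω ≤ Ω := by
      intro w hw
      rw [mem_cj_iff] at hw
      have := hq1 _ hw
      have e : (h * g⁻¹) * ((h * g⁻¹)⁻¹ * w * (h * g⁻¹)) * (h * g⁻¹)⁻¹ = w := by group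
      rwa [e] at this
    have hcjeq : cj (h * g⁻¹) Ω = Ω :=
      Subgroup.eq_of_le_of_card_ge hcjle
        (le_of_eq (Subgroup.card_map_of_injective (conj_injective (h * g⁻¹))).symm)
    refine ⟨h * g⁻¹, ?_, hq1, ?_⟩
    · calc (h * g⁻¹) * x * (h * g⁻¹)⁻¹ = h * (g⁻¹ * x * g) * h⁻¹ := by group
        _ = h * z * h⁻¹ := by rw [hxdef]; group
        _ = z * h * h⁻¹ := by rw [hhz]
        _ = z := by group
    · intro ω hω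
      rw [← hcjeq, mem_cj_iff] at hω
      exact hω
  obtain ⟨q, hqx, hqΩ, hqΩ'⟩ := hstep3
  obtain ⟨a, haS, hap⟩ := hc₀
  have haΩ : a ∉ Ω := fun h => hap ((hΩ a).1 h).2
  have hz1 : z ≠ 1 := by
    intro h
    apply hxZ
    rw [hxdef, h]
    have : g * 1 * g⁻¹ = 1 := by group
    rw [this]; exact Z.one_mem
  -- commutator with a
  have hcommne : ∀ w ∈ Ω, w ∉ Z → a * w * a⁻¹ * w⁻¹ ≠ 1 := by
    intro w hwΩ hwZ h
    apply haΩ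
    apply hcent w hwΩ hwZ a haS
    calc a * w = (a * w * a⁻¹ * w⁻¹) * (w * a) := by group
      _ = w * a := by rw [h, one_mul]
  obtain ⟨z₁, hz₁⟩ : ∃ z₁ : G, z₁ = a * x * a⁻¹ * x⁻¹ := ⟨_, rfl⟩
  have hz₁Z : z₁ ∈ Z := by rw [hz₁]; exact hcomm a haS x hx
  have hz₁1 : z₁ ≠ 1 := by rw [hz₁]; exact hcommne x hxΩ hxZ
  have hxz₁ : x * z₁ = z₁ * x := hZc z₁ hz₁Z x hx
  have hax : a * x * a⁻¹ = x * z₁ := by rw [hxz₁, hz₁]; group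
  have haz₁ : a * z₁ * a⁻¹ = z₁ := by rw [hZc z₁ hz₁Z a haS]; group
  obtain ⟨y₁, hy₁⟩ : ∃ y₁ : G, y₁ = q * z₁ * q⁻¹ := ⟨_, rfl⟩
  have hy₁Ω : y₁ ∈ Ω := by rw [hy₁]; exact hqΩ z₁ (hZΩ hz₁Z)
  have hy₁Z : y₁ ∉ Z := by
    intro hy
    have hy1 : y₁ ≠ 1 := by
      intro h; rw [hy₁] at h; exact hz₁1 (conj_eq_one' h)
    obtain ⟨m, hm⟩ := hZcyc y₁ hy hy1 z hz
    apply hxZ
    have hxm : x = z₁ ^ m := by
      have h1 : q * x * q⁻¹ = q * z₁ ^ m * q⁻¹ := by rw [hqx, ← hm, hy₁, conj_pow]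
      exact mul_left_cancel (mul_right_cancel h1)
    rw [hxm]; exact Z.pow_mem hz₁Z m
  obtain ⟨ζ, hζ⟩ : ∃ ζ : G, ζ = a * y₁ * a⁻¹ * y₁⁻¹ := ⟨_, rfl⟩
  have hζZ : ζ ∈ Z := by rw [hζ]; exact hcomm a haS y₁ (hΩS hy₁Ω)
  have hζ1 : ζ ≠ 1 := by rw [hζ]; exact hcommne y₁ hy₁Ω hy₁Z
  obtain ⟨x₁, hx₁⟩ : ∃ x₁ : G, x₁ = q⁻¹ * ζ * q := ⟨_, rfl⟩
  obtain ⟨j, hj⟩ := hZcyc ζ hζZ hζ1 z hz
  have hxq : x = q⁻¹ * z * q := by rw [← hqx]; group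
  have hx₁j : x₁ ^ j = x := by
    have e : x₁ = q⁻¹ * ζ * (q⁻¹)⁻¹ := by rw [hx₁, inv_inv]
    rw [e, conj_pow, hj, inv_inv, hxq]
  obtain ⟨b₀, hb₀⟩ : ∃ b₀ : G, b₀ = q⁻¹ * a * q := ⟨_, rfl⟩
  have haζ : a * ζ * a⁻¹ = ζ := by rw [hZc ζ hζZ a haS]; group
  have hb₀x₁ : b₀ * x₁ * b₀⁻¹ = x₁ := by
    calc b₀ * x₁ * b₀⁻¹ = q⁻¹ * (a * ζ * a⁻¹) * q := by rw [hb₀, hx₁]; group
      _ = x₁ := by rw [haζ, hx₁]
  have hay₁ : a * y₁ * a⁻¹ = ζ * y₁ := by rw [hζ]; group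
  have hb₀z₁ : b₀ * z₁ * b₀⁻¹ = x₁ * z₁ := by
    calc b₀ * z₁ * b₀⁻¹ = q⁻¹ * (a * (q * z₁ * q⁻¹) * a⁻¹) * q := by rw [hb₀]; group
      _ = q⁻¹ * (ζ * (q * z₁ * q⁻¹)) * q := by rw [← hy₁, hay₁]
      _ = x₁ * z₁ := by rw [hx₁]; group
  have hb₀comm : Commute b₀ x₁ := by
    show b₀ * x₁ = x₁ * b₀
    calc b₀ * x₁ = (b₀ * x₁ * b₀⁻¹) * b₀ := by group
      _ = x₁ * b₀ := by rw [hb₀x₁]
  have hb₀pow : ∀ m : ℕ, b₀ ^ m * z₁ * (b₀ ^ m)⁻¹ = x₁ ^ m * z₁ := by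
    intro m
    induction m with
    | zero => simp
    | succ m ih =>
      have hc1 : b₀ * x₁ ^ m * b₀⁻¹ = x₁ ^ m := by rw [← conj_pow, hb₀x₁]
      rw [pow_succ' b₀]
      calc b₀ * b₀ ^ m * z₁ * (b₀ * b₀ ^ m)⁻¹ = b₀ * (b₀ ^ m * z₁ * (b₀ ^ m)⁻¹) * b₀⁻¹ := by group
        _ = b₀ * (x₁ ^ m * z₁) * b₀⁻¹ := by rw [ih]
        _ = (b₀ * x₁ ^ m * b₀⁻¹) * (b₀ * z₁ * b₀⁻¹) := by group
        _ = x₁ ^ m * (x₁ * z₁) := by rw [hc1, hb₀z₁]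
        _ = x₁ ^ (m + 1) * z₁ := by rw [pow_succ, mul_assoc]
  obtain ⟨b, hb⟩ : ∃ b : G, b = b₀ ^ ((p - 1) * j) := ⟨_, rfl⟩
  have hxinv : x ^ (p - 1) = x⁻¹ := by
    apply eq_inv_of_mul_eq_one_left
    rw [← pow_succ, Nat.sub_add_cancel hp.one_le, hxp]
  have hbz₁ : b * z₁ * b⁻¹ = x⁻¹ * z₁ := by
    rw [hb, hb₀pow, mul_comm (p - 1) j, pow_mul, hx₁j, hxinv]
  have hbx : b * x * b⁻¹ = x := by
    have hc : Commute b x := by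
      rw [hb, ← hx₁j]
      exact hb₀comm.pow_pow _ _
    calc b * x * b⁻¹ = x * b * b⁻¹ := by rw [hc.eq]
      _ = x := by group
  -- the element inverting z₁ and x
  obtain ⟨t₀, ht₀⟩ : ∃ t₀ : G, t₀ = a * b * a := ⟨_, rfl⟩
  have ht₀z : t₀ * z₁ * t₀⁻¹ = x⁻¹ := by
    calc t₀ * z₁ * t₀⁻¹ = a * (b * (a * z₁ * a⁻¹) * b⁻¹) * a⁻¹ := by rw [ht₀]; group
      _ = a * (x⁻¹ * z₁) * a⁻¹ := by rw [haz₁, hbz₁]
      _ = (a * x * a⁻¹)⁻¹ * (a * z₁ * a⁻¹) := by group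
      _ = (z₁ * x)⁻¹ * z₁ := by rw [hax, haz₁, hxz₁]
      _ = x⁻¹ := by group
  have ht₀x : t₀ * x * t₀⁻¹ = z₁ := by
    calc t₀ * x * t₀⁻¹ = a * (b * (a * x * a⁻¹) * b⁻¹) * a⁻¹ := by rw [ht₀]; group
      _ = a * ((b * x * b⁻¹) * (b * z₁ * b⁻¹)) * a⁻¹ := by rw [hax]; group
      _ = a * (x * (x⁻¹ * z₁)) * a⁻¹ := by rw [hbx, hbz₁]
      _ = a * z₁ * a⁻¹ := by group
      _ = z₁ := haz₁
  obtain ⟨t, ht⟩ : ∃ t : G, t = t₀ * t₀ := ⟨_, rfl⟩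
  have htz : t * z₁ * t⁻¹ = z₁⁻¹ := by
    calc t * z₁ * t⁻¹ = t₀ * (t₀ * z₁ * t₀⁻¹) * t₀⁻¹ := by rw [ht]; group
      _ = (t₀ * x * t₀⁻¹)⁻¹ := by rw [ht₀z]; group
      _ = z₁⁻¹ := by rw [ht₀x]
  have htx : t * x * t⁻¹ = x⁻¹ := by
    calc t * x * t⁻¹ = t₀ * (t₀ * x * t₀⁻¹) * t₀⁻¹ := by rw [ht]; group
      _ = x⁻¹ := by rw [ht₀x, ht₀z]
  have htz' : t⁻¹ * z₁ * (t⁻¹)⁻¹ = z₁⁻¹ := by
    calc t⁻¹ * z₁ * (t⁻¹)⁻¹ = (t⁻¹ * z₁⁻¹ * t)⁻¹ := by group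
      _ = (t⁻¹ * (t * z₁ * t⁻¹) * t)⁻¹ := by rw [htz]
      _ = z₁⁻¹ := by group
  have htx' : t⁻¹ * x * (t⁻¹)⁻¹ = x⁻¹ := by
    calc t⁻¹ * x * (t⁻¹)⁻¹ = (t⁻¹ * x⁻¹ * t)⁻¹ := by group
      _ = (t⁻¹ * (t * x * t⁻¹) * t)⁻¹ := by rw [htx]
      _ = x⁻¹ := by group
  -- the centralizer C of z₁ and x
  obtain ⟨C, hC⟩ : ∃ C : Subgroup G,
      C = Subgroup.centralizer {z₁} ⊓ Subgroup.centralizer {x} := ⟨_, rfl⟩
  have memC : ∀ k : G, k ∈ C ↔ z₁ * k = k * z₁ ∧ x * k = k * x := by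
    intro k
    rw [hC, Subgroup.mem_inf, mem_cent_single, mem_cent_single]
  have hE1 : ∀ c ∈ S, ∃ m : ℕ, c⁻¹ * x * c = z₁ ^ m * x := by
    intro c hc
    have h1 : c⁻¹ * x * (c⁻¹)⁻¹ * x⁻¹ ∈ Z := hcomm c⁻¹ (S.inv_mem hc) x hx
    obtain ⟨m, hm⟩ := hZcyc z₁ hz₁Z hz₁1 _ h1
    refine ⟨m, ?_⟩
    rw [hm]; group
  have hSnormC : ∀ c ∈ S, ∀ k ∈ C, c * k * c⁻¹ ∈ C := by
    intro c hc k hk
    obtain ⟨hk1, hk2⟩ := (memC k).1 hk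
    rw [memC]
    have hcz : c * z₁ = z₁ * c := hZc z₁ hz₁Z c hc
    constructor
    · have hcz' : c⁻¹ * z₁ = z₁ * c⁻¹ := hZc z₁ hz₁Z c⁻¹ (S.inv_mem hc)
      calc z₁ * (c * k * c⁻¹) = (z₁ * c) * k * c⁻¹ := by group
        _ = (c * z₁) * k * c⁻¹ := by rw [hcz]
        _ = c * (z₁ * k) * c⁻¹ := by group
        _ = c * (k * z₁) * c⁻¹ := by rw [hk1]
        _ = c * k * (z₁ * c⁻¹) := by group
        _ = c * k * (c⁻¹ * z₁) := by rw [hcz']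
        _ = c * k * c⁻¹ * z₁ := by group
    · obtain ⟨m, hm⟩ := hE1 c hc
      have hkm : (z₁ ^ m * x) * k = k * (z₁ ^ m * x) := by
        have h1 : z₁ ^ m * k = k * z₁ ^ m := (Commute.pow_left (show Commute z₁ k from hk1) m).eq
        calc (z₁ ^ m * x) * k = z₁ ^ m * (x * k) := by group
          _ = z₁ ^ m * (k * x) := by rw [hk2]
          _ = (z₁ ^ m * k) * x := by group
          _ = (k * z₁ ^ m) * x := by rw [h1]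
          _ = k * (z₁ ^ m * x) := by group
      calc x * (c * k * c⁻¹) = c * ((c⁻¹ * x * c) * k) * c⁻¹ := by group
        _ = c * (k * (c⁻¹ * x * c)) * c⁻¹ := by rw [hm, hkm]
        _ = c * k * c⁻¹ * x := by group
  have htC : ∀ c ∈ S, t * c * t⁻¹ * c⁻¹ ∈ C := by
    intro c hc
    rw [memC]
    have hcz : c * z₁ = z₁ * c := hZc z₁ hz₁Z c hc
    constructor
    · -- conjugating z₁ by the commutator gives z₁
      have h1 : c⁻¹ * z₁ * c = z₁ := by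
        calc c⁻¹ * z₁ * c = c⁻¹ * (z₁ * c) := by group
          _ = c⁻¹ * (c * z₁) := by rw [hcz]
          _ = z₁ := by group
      have h2 : (t * c * t⁻¹ * c⁻¹) * z₁ * (t * c * t⁻¹ * c⁻¹)⁻¹ = z₁ := by
        calc (t * c * t⁻¹ * c⁻¹) * z₁ * (t * c * t⁻¹ * c⁻¹)⁻¹
            = t * (c * (t⁻¹ * (c⁻¹ * z₁ * c) * (t⁻¹)⁻¹) * c⁻¹) * t⁻¹ := by group
          _ = t * (c * z₁⁻¹ * c⁻¹) * t⁻¹ := by rw [h1, htz']
          _ = t * (c⁻¹ * z₁ * c)⁻¹ * t⁻¹ := by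
              have : c * z₁⁻¹ * c⁻¹ = (c * z₁ * c⁻¹)⁻¹ := by group
              rw [this, hcz]
              have : z₁ * c * c⁻¹ = c⁻¹ * z₁ * c := by rw [h1]; group
              rw [this]
          _ = (t * z₁ * t⁻¹)⁻¹ := by rw [h1]; group
          _ = z₁ := by rw [htz, inv_inv]
      calc z₁ * (t * c * t⁻¹ * c⁻¹)
          = ((t * c * t⁻¹ * c⁻¹) * z₁ * (t * c * t⁻¹ * c⁻¹)⁻¹) * (t * c * t⁻¹ * c⁻¹) := by rw [h2]
        _ = (t * c * t⁻¹ * c⁻¹) * z₁ := by group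
    · obtain ⟨m, hm⟩ := hE1 c hc
      have h1 := inv_of_inv htz' htx' hxz₁ m
      have h2 : (t * c * t⁻¹ * c⁻¹) * x * (t * c * t⁻¹ * c⁻¹)⁻¹ = x := by
        calc (t * c * t⁻¹ * c⁻¹) * x * (t * c * t⁻¹ * c⁻¹)⁻¹
            = t * (c * (t⁻¹ * (c⁻¹ * x * c) * (t⁻¹)⁻¹) * c⁻¹) * t⁻¹ := by group
          _ = t * (c * (c⁻¹ * x * c)⁻¹ * c⁻¹) * t⁻¹ := by rw [hm, h1]
          _ = (t * x * t⁻¹)⁻¹ := by group
          _ = x := by rw [htx, inv_inv]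
      calc x * (t * c * t⁻¹ * c⁻¹)
          = ((t * c * t⁻¹ * c⁻¹) * x * (t * c * t⁻¹ * c⁻¹)⁻¹) * (t * c * t⁻¹ * c⁻¹) := by rw [h2]
        _ = (t * c * t⁻¹ * c⁻¹) * x := by group
  -- the subgroup L = C S
  let L : Subgroup G :=
    { carrier := {ℓ | ∃ k ∈ C, ∃ c ∈ S, ℓ = k * c}
      one_mem' := ⟨1, C.one_mem, 1, S.one_mem, by group⟩
      mul_mem' := by
        rintro _ _ ⟨k, hk, c, hc, rfl⟩ ⟨k', hk', c', hc', rfl⟩
        exact ⟨k * (c * k' * c⁻¹), C.mul_mem hk (hSnormC c hc k' hk'), c * c', S.mul_mem hc hc',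
          by group⟩
      inv_mem' := by
        rintro _ ⟨k, hk, c, hc, rfl⟩
        refine ⟨c⁻¹ * k⁻¹ * (c⁻¹)⁻¹, hSnormC c⁻¹ (S.inv_mem hc) k⁻¹ (C.inv_mem hk), c⁻¹,
          S.inv_mem hc, by group⟩ }
  have hSL : (P : Subgroup G) ≤ L := by
    intro c hc
    rw [← hS] at hc
    exact ⟨1, C.one_mem, c, hc, by group⟩
  have hQL : cj t (P : Subgroup G) ≤ L := by
    intro w hw
    rw [mem_cj_iff, ← hS] at hw
    refine ⟨t * (t⁻¹ * w * t) * t⁻¹ * (t⁻¹ * w * t)⁻¹, htC _ hw, t⁻¹ * w * t, hw, by group⟩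
  obtain ⟨ℓ, hℓL, hℓle⟩ := exists_cj_le_sylow' P L (cj t (P : Subgroup G)) hSL hQL
    (cj_isPGroup p t P.2)
  obtain ⟨k, hkC, c₀, hc₀S, hℓ⟩ := hℓL
  obtain ⟨k', hk'⟩ : ∃ k' : G, k' = c₀⁻¹ * k * (c₀⁻¹)⁻¹ := ⟨_, rfl⟩
  have hk'C : k' ∈ C := by rw [hk']; exact hSnormC c₀⁻¹ (S.inv_mem hc₀S) k hkC
  obtain ⟨hk'1, hk'2⟩ := (memC k').1 hk'C
  obtain ⟨t', ht'⟩ : ∃ t' : G, t' = k' * t := ⟨_, rfl⟩
  have ht'S : ∀ c ∈ S, t' * c * t'⁻¹ ∈ S := by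
    intro c hc
    have h1 : t * c * t⁻¹ ∈ cj t (P : Subgroup G) := conj_mem_cj t _ (hS ▸ hc)
    have h2 : ℓ * (t * c * t⁻¹) * ℓ⁻¹ ∈ (P : Subgroup G) := hℓle (conj_mem_cj ℓ _ h1)
    rw [← hS] at h2
    have h3 := S.mul_mem (S.mul_mem (S.inv_mem hc₀S) h2) hc₀S
    have e : t' * c * t'⁻¹ = c₀⁻¹ * (ℓ * (t * c * t⁻¹) * ℓ⁻¹) * c₀ := by
      rw [ht', hk', hℓ]; group
    rw [e]; exact h3
  have ht'z : t' * z₁ * t'⁻¹ = z₁⁻¹ := by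
    have hk'1i : z₁⁻¹ * k' = k' * z₁⁻¹ := (Commute.inv_left (show Commute z₁ k' from hk'1)).eq
    calc t' * z₁ * t'⁻¹ = k' * (t * z₁ * t⁻¹) * k'⁻¹ := by rw [ht']; group
      _ = (k' * z₁⁻¹) * k'⁻¹ := by rw [htz]
      _ = (z₁⁻¹ * k') * k'⁻¹ := by rw [hk'1i]
      _ = z₁⁻¹ := by group
  have ht'C : t' * a * t'⁻¹ * a⁻¹ ∈ C := by
    have h1 := htC a haS
    have h2 := hSnormC a haS k'⁻¹ (C.inv_mem hk'C)
    have e : t' * a * t'⁻¹ * a⁻¹ = k' * (t * a * t⁻¹ * a⁻¹) * (a * k'⁻¹ * a⁻¹) := by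
      rw [ht']; group
    rw [e]
    exact C.mul_mem (C.mul_mem hk'C h1) h2
  -- final contradiction
  obtain ⟨w, hw⟩ : ∃ w : G, w = t' * a * t'⁻¹ * a⁻¹ := ⟨_, rfl⟩
  have hwS : w ∈ S := by rw [hw]; exact S.mul_mem (ht'S a haS) (S.inv_mem haS)
  have hwC : w ∈ C := by rw [hw]; exact ht'C
  have hwΩ : w ∈ Ω := hcent x hxΩ hxZ w hwS ((memC w).1 hwC).2.symm
  have hwp : w ^ p = 1 := ((hΩ w).1 hwΩ).2
  have hd : t' * a * t'⁻¹ = w * a := by rw [hw]; group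
  have hdp : (t' * a * t'⁻¹) ^ p = a ^ p := by
    rw [hd, hpowmul w hwS a haS, hwp, one_mul]
  obtain ⟨m, hm⟩ := hZcyc z₁ hz₁Z hz₁1 (a ^ p) (hpowZ a haS)
  have hdp' : (t' * a * t'⁻¹) ^ p = (a ^ p)⁻¹ := by
    rw [conj_pow, ← hm, ← conj_pow, ht'z, inv_pow]
  have hsq : (a ^ p) ^ 2 = 1 := by
    rw [pow_two]
    have : a ^ p = (a ^ p)⁻¹ := hdp.symm.trans hdp'
    calc a ^ p * a ^ p = a ^ p * (a ^ p)⁻¹ := by rw [← this]
      _ = 1 := mul_inv_cancel _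
  have hpp : (a ^ p) ^ p = 1 := hZp _ (hpowZ a haS)
  have h1 : orderOf (a ^ p) ∣ 2 := orderOf_dvd_of_pow_eq_one hsq
  have h2 : orderOf (a ^ p) ∣ p := orderOf_dvd_of_pow_eq_one hpp
  have hcop : Nat.Coprime 2 p := (Nat.coprime_primes Nat.prime_two hp).2 (Ne.symm hp2)
  have h3 : orderOf (a ^ p) = 1 := Nat.eq_one_of_dvd_coprimes hcop h1 h2
  exact hap (orderOf_eq_one_iff.1 h3)

end

/-- Let p be an odd prime and G a finite group with a Sylow p-subgroup P that is extraspecial of order p³ and exponent p². Then the centre of P is strongly closed in P with respect to G: a G-conjugate of an element of Z(P) that lies in P already lies in Z(P). In particular a nontrivial central element of P is conjugate in G to no noncentral element of P. -/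
theorem result {G : Type*} [Group G] [Finite G]
    {p : ℕ} [Fact p.Prime] (hp : p ≠ 2) (P : Sylow p G) (hE : Cfsg.IsExtraspecial p ↥P)
    (hcard : Nat.card P = p ^ 3) (hexp : Monoid.exponent ↥P = p ^ 2) :
    Cfsg.IsStronglyClosed ((Subgroup.center ↥P).map (P : Subgroup G).subtype) (P : Subgroup G) := by
  classical
  have hp' : p.Prime := Fact.out
  obtain ⟨⟨hPG, hfrat, hcomm⟩, hcen⟩ := hE
  have A1 : ∀ a b : ↥P, a * b * a⁻¹ * b⁻¹ ∈ Subgroup.center ↥P := by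
    intro a b
    rw [← hcomm]
    have := Subgroup.commutator_mem_commutator (Subgroup.mem_top a) (Subgroup.mem_top b)
    rw [commutatorElement_def] at this
    exact this
  have A2 : ∀ a : ↥P, a ^ p ∈ Subgroup.center ↥P := by
    intro a
    rw [← hfrat]
    exact Cfsg.Agent.Lib.Helper9.pow_mem_frattini_of_isPGroup p hPG a
  have A3 : ∀ ζ ∈ Subgroup.center ↥P, ζ ^ p = 1 := by
    intro ζ hζ
    have h := pow_card_eq_one' (G := Subgroup.center ↥P) (x := ⟨ζ, hζ⟩)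
    rw [hcen] at h
    exact congrArg Subtype.val h
  have h2p : 2 < p := lt_of_le_of_ne hp'.two_le (Ne.symm hp)
  have A4 : ∀ a b : ↥P, (a * b) ^ p = a ^ p * b ^ p := by
    intro a b
    have hcc : ⁅b, a⁆ ∈ Subgroup.center ↥P := by
      rw [commutatorElement_def]; exact A1 b a
    have hc1 := Subgroup.mem_center_iff.1 hcc
    have h1 := Cfsg.Agent.Lib.Helper1.mul_pow_of_commute_commutator a b (hc1 a).symm (hc1 b).symm p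
    obtain ⟨m, hm⟩ := Nat.Prime.dvd_choose_self hp' (by norm_num : (2 : ℕ) ≠ 0) h2p
    rw [h1, hm, pow_mul, A3 _ hcc, one_pow, mul_one]
  let π : ↥P →* ↥P := MonoidHom.mk' (fun a => a ^ p) A4
  have hπ : ∀ a : ↥P, π a = a ^ p := fun a => rfl
  have A6 : ∃ c₀ : ↥P, c₀ ^ p ≠ 1 := by
    by_contra hno
    push Not at hno
    have h1 : Monoid.exponent ↥P ∣ p := Monoid.exponent_dvd_of_forall_pow_eq_one hno
    rw [hexp] at h1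
    have h2 := Nat.le_of_dvd hp'.pos h1
    have h3 : p < p ^ 2 := by
      rw [pow_two]; nlinarith [hp'.two_le]
    omega
  -- order of the kernel
  have hrange_le : π.range ≤ Subgroup.center ↥P := by
    rintro _ ⟨a, rfl⟩
    exact A2 a
  have hrange_card : Nat.card π.range = p := by
    have hd : Nat.card π.range ∣ Nat.card (Subgroup.center ↥P) :=
      Subgroup.card_dvd_of_le hrange_le
    rw [hcen] at hd
    rcases (Nat.dvd_prime hp').1 hd with h1 | h1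
    · exfalso
      obtain ⟨c₀, hc₀⟩ := A6
      have hb : π.range = ⊥ := Subgroup.card_eq_one.1 h1
      have : π c₀ ∈ π.range := ⟨c₀, rfl⟩
      rw [hb, Subgroup.mem_bot] at this
      exact hc₀ this
    · exact h1
  have hker_card : Nat.card π.ker = p ^ 2 := by
    have h1 : Nat.card π.ker * π.ker.index = Nat.card ↥P := Subgroup.card_mul_index π.ker
    have hcard' : Nat.card ↥P = p ^ 3 := hcard
    rw [Subgroup.index_ker, hrange_card, hcard'] at h1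
    have : Nat.card π.ker * p = p ^ 2 * p := by rw [h1]; ring
    exact Nat.eq_of_mul_eq_mul_right hp'.pos this
  have hker_comm : ∀ a b : π.ker, a * b = b * a :=
    (IsPGroup.isMulCommutative_of_card_eq_prime_sq hker_card).is_comm.comm
  -- apply the main argument
  refine ⟨Subgroup.map_subtype_le _, ?_⟩
  intro z hz g hx
  refine main_arg hp P ((Subgroup.center ↥P).map (P : Subgroup G).subtype)
    (π.ker.map (P : Subgroup G).subtype) (Subgroup.map_subtype_le _) (Subgroup.map_subtype_le _)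
    ?_ ?_ ?_ ?_ ?_ ?_ ?_ ?_ ?_ ?_ z hz g hx
  · rintro _ ⟨ζ, hζ, rfl⟩ a ha
    exact congrArg Subtype.val (Subgroup.mem_center_iff.1 hζ ⟨a, ha⟩)
  · intro w hw hall
    exact ⟨⟨w, hw⟩, Subgroup.mem_center_iff.2 (fun b => Subtype.ext (hall b.1 b.2)), rfl⟩
  · intro a ha b hb
    exact ⟨_, A1 ⟨a, ha⟩ ⟨b, hb⟩, rfl⟩
  · intro a ha
    exact ⟨_, A2 ⟨a, ha⟩, rfl⟩
  · intro a ha b hb
    exact congrArg Subtype.val (A4 ⟨a, ha⟩ ⟨b, hb⟩)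
  · intro a
    constructor
    · rintro ⟨a', ha', rfl⟩
      refine ⟨a'.2, ?_⟩
      have : a' ^ p = 1 := ha'
      exact congrArg Subtype.val this
    · rintro ⟨ha, hap⟩
      exact ⟨⟨a, ha⟩, MonoidHom.mem_ker.2 (Subtype.ext hap), rfl⟩
  · rintro _ ⟨a, ha, rfl⟩ _ ⟨b, hb, rfl⟩
    exact congrArg (fun u : π.ker => ((u : ↥P) : G)) (hker_comm ⟨a, ha⟩ ⟨b, hb⟩)
  · obtain ⟨c₀, hc₀⟩ := A6
    refine ⟨c₀.1, c₀.2, ?_⟩
    intro h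
    exact hc₀ (Subtype.ext h)
  · rintro _ ⟨ζ, hζ, rfl⟩
    exact congrArg Subtype.val (A3 ζ hζ)
  · rintro _ ⟨ζ₀, hζ₀, rfl⟩ hne _ ⟨ζ, hζ, rfl⟩
    have hne' : (⟨ζ₀, hζ₀⟩ : Subgroup.center ↥P) ≠ 1 := by
      intro h
      apply hne
      have : ζ₀ = 1 := congrArg Subtype.val h
      rw [this]; rfl
    have hmem : (⟨ζ, hζ⟩ : Subgroup.center ↥P) ∈ Subgroup.zpowers (⟨ζ₀, hζ₀⟩ : Subgroup.center ↥P) := by
      rw [zpowers_eq_top_of_prime_card hcen hne']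
      exact Subgroup.mem_top _
    obtain ⟨j, hj⟩ := (Submonoid.mem_powers_iff _ _).1 (mem_powers_iff_mem_zpowers.2 hmem)
    refine ⟨j, ?_⟩
    have := congrArg (fun u : Subgroup.center ↥P => ((u : ↥P) : G)) hj
    simpa using this

end Cfsg.Agent.S3053
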