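import Cfsg.Statements.S3056
import Cfsg.Agent.Lib.Helper5.SylGraph

set_option autoImplicit false
open Cfsg

namespace Cfsg.Agent.S3056

theorem result {G : Type*} [Group G] [Finite G]
    (p : ℕ) [Fact p.Prime] :
    ¬ Cfsg.IsSylowChainConnected p G ↔
      ∃ H : Subgroup G, H ≠ ⊤ ∧ p ∣ Nat.card H ∧
        ∀ g : G, g ∉ H → ¬ p ∣ Nat.card ↥(H ⊓ H.map (MulAut.conj g).toMonoidHom) := by
  rw [Cfsg.Agent.Lib.Helper5.isSylowChainConnected_iff]
  constructor
  · intro hnc
    have hex : ∃ S₀ T₀ : Sylow p G, ¬ Cfsg.Agent.Lib.Helper5.SReach S₀ T₀ := by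
      by_contra hcon
      apply hnc
      intro S T
      by_contra hST
      exact hcon ⟨S, T, hST⟩
    obtain ⟨S₀, T₀, hST⟩ := hex
    obtain ⟨g, hg⟩ := MulAction.exists_smul_eq G S₀ T₀
    refine ⟨Cfsg.Agent.Lib.Helper5.compStab S₀, ?_, ?_, ?_⟩
    · intro htop
      apply hST
      have : g ∈ Cfsg.Agent.Lib.Helper5.compStab S₀ := by rw [htop]; exact Subgroup.mem_top g
      rw [Cfsg.Agent.Lib.Helper5.mem_compStab, hg] at this
      exact this
    · have hS1 : (S₀ : Subgroup G) ≠ ⊥ := by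
        intro hbot
        apply hST
        have : T₀ = S₀ := by
          apply Sylow.ext
          rw [← hg, Cfsg.Agent.Lib.Helper5.sylow_smul_coe, hbot, Subgroup.map_bot]
        rw [this]
        exact Relation.ReflTransGen.refl
      have hdvd : p ∣ Nat.card ↥(S₀ : Subgroup G) := by
        rcases S₀.isPGroup'.card_eq_or_dvd with h | h
        · exact absurd (Subgroup.card_eq_one.mp h) hS1
        · exact h
      exact hdvd.trans (Subgroup.card_dvd_of_le (Cfsg.Agent.Lib.Helper5.le_compStab S₀))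
    · intro g' hg'
      exact Cfsg.Agent.Lib.Helper5.compStab_spe S₀ g' hg'
  · rintro ⟨H, hHtop, hpH, hcl⟩ hconn
    have hN : Cfsg.Agent.Lib.Helper5.NormCond p H := Cfsg.Agent.Lib.Helper5.normCond_of_inf_conj hcl
    obtain ⟨S, hS, hS1⟩ := Cfsg.Agent.Lib.Helper5.exists_isMaxPIn_ne_bot H hpH
    obtain ⟨P, hP⟩ := (Cfsg.Agent.Lib.Helper5.isMaxPIn_top_iff S).mp (hN.isMaxPIn_top hS hS1)
    have hPH : (P : Subgroup G) ≤ H := hP ▸ hS.1
    have hP1 : (P : Subgroup G) ≠ ⊥ := hP ▸ hS1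
    have hex : ∃ g : G, g ∉ H := by
      by_contra hcon
      apply hHtop
      rw [eq_top_iff]
      intro x _
      by_contra hx
      exact hcon ⟨x, hx⟩
    obtain ⟨g, hg⟩ := hex
    have key : ∀ Q : Sylow p G, Cfsg.Agent.Lib.Helper5.SReach P Q → (Q : Subgroup G) ≤ H := by
      intro Q hQ
      unfold Cfsg.Agent.Lib.Helper5.SReach at hQ
      induction hQ with
      | refl => exact hPH
      | @tail Q' Q _ hbc ih =>
        apply hN.le_of_pgroup_of_inf_ne_bot _ Q.isPGroup'
        intro hbot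
        apply hbc.2
        rw [eq_bot_iff, ← hbot, inf_comm]
        exact inf_le_inf_left _ ih
    have h1 := key (g • P) (hconn P (g • P))
    rw [Cfsg.Agent.Lib.Helper5.sylow_smul_coe] at h1
    exact hg (hN.mem_of_conj_le _ hPH P.isPGroup' hP1 g h1)

end Cfsg.Agent.S3056
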