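import Mathlib
import Cfsg.Statements.S3057
import Cfsg.Agent.Lib.Helper5.SylGraph
import Cfsg.Agent.Lib.Helper5.PCore
import Cfsg.Agent.Lib.Helper5.SubnSylow
import Cfsg.Agent.Lib.Helper5.QuatCyc
import Cfsg.Agent.Lib.Helper5.CopGen2
import Cfsg.Agent.Lib.Helper5.SPE
import Cfsg.Agent.Lib.Helper6.NormalEA
import Cfsg.Agent.Lib.Helper6.UniqInv2
import Cfsg.Agent.Lib.Helper6.QuatRec
import Cfsg.Agent.Lib.Helper3.PSolv2
import Cfsg.Agent.Lib.Helper3.PComp

set_option autoImplicit false
open Cfsg

namespace Cfsg.Agent.S3057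

open Cfsg.Agent.Lib.Helper5

section Aux

theorem exists_abelian_noncyclic {R : Type*} [Group R] [Finite R] {p : ℕ} [Fact p.Prime]
    (hR : IsPGroup p R) (hnc : ¬ IsCyclic R)
    (hnq : ¬ (p = 2 ∧ ∃ n : ℕ, Nonempty (R ≃* QuaternionGroup (2 ^ n)))) :
    ∃ A : Subgroup R, IsMulCommutative A ∧ ¬ IsCyclic A := by
  classical
  have hp : p.Prime := Fact.out
  by_cases hp2 : p = 2
  · subst hp2
    have hnq' : ¬ ∃ n : ℕ, Nonempty (R ≃* QuaternionGroup (2 ^ n)) := fun h => hnq ⟨rfl, h⟩
    have hex : ∃ X Y : Subgroup R, Nat.card X = 2 ∧ Nat.card Y = 2 ∧ X ≠ Y := by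
      by_contra hcon
      have huniq : ∀ X Y : Subgroup R, Nat.card X = 2 → Nat.card Y = 2 → X = Y := by
        intro X Y hX hY
        by_contra hne
        exact hcon ⟨X, Y, hX, hY, hne⟩
      obtain ⟨n, hn3, hcard, a, b, hao, hb, hb2, hba⟩ :=
        Cfsg.Agent.Lib.Helper6.two_group_unique_involution hR huniq hnc
      haveI : NeZero (2 ^ (n - 2)) := ⟨by positivity⟩
      have hpow1 : 2 ^ (n - 1) = 2 * 2 ^ (n - 2) := by
        rw [← pow_succ']; congr 1; omega
      have hpow2 : 2 ^ n = 4 * 2 ^ (n - 2) := by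
        have : (4 : ℕ) = 2 ^ 2 := by norm_num
        rw [this, ← pow_add]; congr 1; omega
      have e := Cfsg.Agent.Lib.Helper6.nonempty_mulEquiv_quaternion (G := R) (2 ^ (n - 2)) a b
        (by rw [hao, hpow1]) hb2 hba hb (by rw [hcard, hpow2])
      exact hnq' ⟨n - 2, e⟩
    obtain ⟨X, Y, hX, hY, hXY⟩ := hex
    haveI : Nontrivial R := by
      by_contra h
      rw [not_nontrivial_iff_subsingleton] at h
      exact hnc isCyclic_of_subsingleton
    haveI hcn := hR.center_nontrivial
    have h2 : 2 ∣ Nat.card (Subgroup.center R) := by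
      obtain ⟨k, hk⟩ := IsPGroup.iff_card.mp (hR.to_subgroup (Subgroup.center R))
      rw [hk]
      have hk0 : k ≠ 0 := by
        rintro rfl
        rw [pow_zero] at hk
        have := (Subgroup.nontrivial_iff_ne_bot _).mp hcn
        exact this (Subgroup.card_eq_one.mp hk)
      exact dvd_pow_self 2 hk0
    obtain ⟨z, hz⟩ := exists_prime_orderOf_dvd_card' (G := Subgroup.center R) 2 h2
    have hzo : orderOf (z : R) = 2 := by rw [Subgroup.orderOf_coe]; exact hz
    have hzc : ∀ g : R, g * (z : R) = (z : R) * g := fun g => Subgroup.mem_center_iff.mp z.2 g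
    obtain ⟨W, hW, hWne⟩ : ∃ W : Subgroup R, Nat.card W = 2 ∧ W ≠ Subgroup.zpowers (z : R) := by
      by_cases h : X = Subgroup.zpowers (z : R)
      · exact ⟨Y, hY, fun h' => hXY (h.trans h'.symm)⟩
      · exact ⟨X, hX, h⟩
    obtain ⟨u, hu⟩ := exists_prime_orderOf_dvd_card' (G := W) 2 (by rw [hW])
    have huo : orderOf (u : R) = 2 := by rw [Subgroup.orderOf_coe]; exact hu
    have hWu : W = Subgroup.zpowers (u : R) :=
      (Subgroup.eq_of_le_of_card_ge (Subgroup.zpowers_le.mpr u.2)
        (by rw [hW, Nat.card_zpowers, huo])).symm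
    have huz : (u : R) ≠ (z : R) := by
      intro h
      apply hWne
      rw [hWu, h]
    have hz1 : (z : R) ≠ 1 := by
      intro h
      rw [h, orderOf_one] at hzo
      omega
    have hu1 : (u : R) ≠ 1 := by
      intro h
      rw [h, orderOf_one] at huo
      omega
    have hcomm : IsMulCommutative (Subgroup.closure ({(z : R), (u : R)} : Set R)) := by
      apply Subgroup.isMulCommutative_closure
      intro x hx y hy
      rcases hx with rfl | hx <;> rcases hy with rfl | hy
      · rfl
      · exact (hzc y).symm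
      · exact hzc x
      · rw [Set.mem_singleton_iff] at hx hy
        rw [hx, hy]
    refine ⟨Subgroup.closure ({(z : R), (u : R)} : Set R), hcomm, ?_⟩
    intro hcyc
    haveI := hcyc
    haveI : Fintype (Subgroup.closure ({(z : R), (u : R)} : Set R)) := Fintype.ofFinite _
    have hle := IsCyclic.card_pow_eq_one_le (α := Subgroup.closure ({(z : R), (u : R)} : Set R))
      (n := 2) (by norm_num)
    have hzm : (z : R) ∈ Subgroup.closure ({(z : R), (u : R)} : Set R) :=
      Subgroup.subset_closure (by simp)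
    have hum : (u : R) ∈ Subgroup.closure ({(z : R), (u : R)} : Set R) :=
      Subgroup.subset_closure (by simp)
    have hsub : ({1, ⟨(z : R), hzm⟩, ⟨(u : R), hum⟩} :
        Finset (Subgroup.closure ({(z : R), (u : R)} : Set R))) ⊆
        Finset.univ.filter (fun a => a ^ 2 = 1) := by
      intro a ha
      rw [Finset.mem_filter]
      refine ⟨Finset.mem_univ _, ?_⟩
      simp only [Finset.mem_insert, Finset.mem_singleton] at ha
      rcases ha with rfl | rfl | rfl
      · simp
      · apply Subtype.ext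
        simp only [Subgroup.coe_pow, Subgroup.coe_one]
        rw [← hzo]; exact pow_orderOf_eq_one _
      · apply Subtype.ext
        simp only [Subgroup.coe_pow, Subgroup.coe_one]
        rw [← huo]; exact pow_orderOf_eq_one _
    have hc3 : ({1, ⟨(z : R), hzm⟩, ⟨(u : R), hum⟩} :
        Finset (Subgroup.closure ({(z : R), (u : R)} : Set R))).card = 3 := by
      rw [Finset.card_insert_of_notMem, Finset.card_insert_of_notMem, Finset.card_singleton]
      · intro h
        rw [Finset.mem_singleton] at h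
        exact huz (congrArg Subtype.val h).symm
      · intro h
        simp only [Finset.mem_insert, Finset.mem_singleton] at h
        rcases h with h | h
        · exact hz1 (congrArg Subtype.val h).symm
        · exact hu1 (congrArg Subtype.val h).symm
    have := Finset.card_le_card hsub
    omega
  · obtain ⟨A, -, hAe, hAc⟩ := Cfsg.Agent.Lib.Helper6.exists_normal_ea_sq hp2 _ R rfl hR hnc
    refine ⟨A, hAe.1, ?_⟩
    intro hcyc
    haveI := hcyc
    obtain ⟨g, hg⟩ := IsCyclic.exists_generator (α := A)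
    have ho : orderOf g = Nat.card A := orderOf_eq_card_of_forall_mem_zpowers hg
    have hgp : g ^ p = 1 := by
      apply Subtype.ext
      simpa using hAe.2 g.1 g.2
    have h1 := orderOf_dvd_of_pow_eq_one hgp
    rw [ho, hAc] at h1
    have h2 := Nat.le_of_dvd hp.pos h1
    nlinarith [hp.one_lt]

variable {G : Type*} [Group G] [Finite G] {p : ℕ} [Fact p.Prime]

theorem not_connected_of_unique (P : Sylow p G) (hdiv : p ∣ Nat.card G)
    (hcore : Cfsg.pCore p G = ⊥)
    (hT : IsCyclic ↥(P : Subgroup G) ∨ ∃ n : ℕ, Nonempty (↥(P : Subgroup G) ≃* QuaternionGroup n)) :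
    ¬ ∀ S T : Sylow p G, SReach S T := by
  classical
  have hp : p.Prime := Fact.out
  intro hconn
  have hPne : (P : Subgroup G) ≠ ⊥ := P.ne_bot_of_dvd_card hdiv
  obtain ⟨x, hxP, hxo⟩ := exists_orderOf_eq_prime_of_ne_bot (P : Subgroup G) P.2 hPne
  have hx1 : x ≠ 1 := by
    intro h
    rw [h, orderOf_one] at hxo
    exact hp.one_lt.ne hxo
  -- uniqueness in every conjugate of P
  have huniq : ∀ (g : G) (y w : G), y ∈ ((g • P : Sylow p G) : Subgroup G) →
      w ∈ ((g • P : Sylow p G) : Subgroup G) → orderOf y = p → orderOf w = p →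
      w ∈ Subgroup.zpowers y := by
    intro g y w hy hw hyo hwo
    rw [sylow_smul_coe, mem_map_conj_iff] at hy hw
    have hyo' : orderOf (g⁻¹ * y * g) = p := by
      rw [← hyo]
      have := (MulAut.conj g⁻¹).orderOf_eq y
      simpa [MulAut.conj_apply] using this
    have hwp : (g⁻¹ * w * g) ^ p = 1 := by
      have h1 : (g⁻¹ * w * g) ^ p = g⁻¹ * w ^ p * g := by
        have := map_pow (MulAut.conj g⁻¹) w p
        simpa [MulAut.conj_apply] using this.symm
      rw [h1, ← hwo, pow_orderOf_eq_one]; group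
    have h2 := mem_zpowers_of_cyclic_or_quaternion (P : Subgroup G) hT _ _ hy hw hyo' hwp
    obtain ⟨k, hk⟩ := Subgroup.mem_zpowers_iff.mp h2
    rw [Subgroup.mem_zpowers_iff]
    refine ⟨k, ?_⟩
    have h3 : (g⁻¹ * y * g) ^ k = g⁻¹ * y ^ k * g := by
      have := map_zpow (MulAut.conj g⁻¹) y k
      simpa [MulAut.conj_apply] using this.symm
    rw [h3] at hk
    calc y ^ k = g * (g⁻¹ * y ^ k * g) * g⁻¹ := by group
      _ = g * (g⁻¹ * w * g) * g⁻¹ := by rw [hk]
      _ = w := by group
  -- x lies in every Sylow reachable from P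
  have hall : ∀ T : Sylow p G, SReach P T → x ∈ (T : Subgroup G) := by
    intro T hT'
    unfold SReach at hT'
    induction hT' with
    | refl => exact hxP
    | @tail S T _ hbc ih =>
      obtain ⟨g, rfl⟩ := MulAction.exists_smul_eq G P S
      have hpg : IsPGroup p (((g • P : Sylow p G) : Subgroup G) ⊓ (T : Subgroup G) : Subgroup G) :=
        (g • P : Sylow p G).2.to_le inf_le_left
      obtain ⟨y, hy, hyo⟩ := exists_orderOf_eq_prime_of_ne_bot _ hpg hbc.2
      have h1 := huniq g y x hy.1 ih hyo hxo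
      exact (Subgroup.zpowers_le.mpr hy.2) h1
  -- so the subgroup generated by x is normal
  have hnorm : (Subgroup.zpowers x).Normal := by
    constructor
    intro n hn g
    obtain ⟨k, rfl⟩ := Subgroup.mem_zpowers_iff.mp hn
    have h1 : x ∈ ((g⁻¹ • P : Sylow p G) : Subgroup G) := hall _ (hconn P _)
    rw [sylow_smul_coe, mem_map_conj_iff, inv_inv] at h1
    have h2 : orderOf (g * x * g⁻¹) = p := by
      rw [← hxo]
      have := (MulAut.conj g).orderOf_eq x
      simpa [MulAut.conj_apply] using this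
    have h3 := huniq 1 x (g * x * g⁻¹) (by rw [one_smul]; exact hxP) (by rw [one_smul]; exact h1)
      hxo h2
    have h4 : g * x ^ k * g⁻¹ = (g * x * g⁻¹) ^ k := by
      have := map_zpow (MulAut.conj g) x k
      simpa [MulAut.conj_apply] using this.symm
    rw [h4]
    exact Subgroup.zpow_mem _ h3 k
  have hZp : IsPGroup p (Subgroup.zpowers x) := by
    apply IsPGroup.of_card (n := 1)
    rw [Nat.card_zpowers, hxo, pow_one]
  have hle := le_pCore (Subgroup.zpowers x) hnorm hZp
  rw [hcore] at hle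
  exact hx1 (Subgroup.mem_bot.mp (hle (Subgroup.mem_zpowers x)))

theorem connected_of_noncyclic (P : Sylow p G) (hdiv : p ∣ Nat.card G)
    (hsol : Cfsg.IsPSolvable p G)
    (A : Subgroup G) (hAP : A ≤ (P : Subgroup G)) [hAc : IsMulCommutative A] (hAnc : ¬ IsCyclic A) :
    ∀ S T : Sylow p G, SReach S T := by
  classical
  have hp : p.Prime := Fact.out
  set K := Cfsg.pPrimeCore p G with hK
  haveI hKn : K.Normal := (pPrimeCore_mem p).1
  have hKcop : (Nat.card K).Coprime p := card_pPrimeCore_coprime p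
  set H := compStab P with hH
  -- centralizers of nonidentity elements of P lie in H
  have hcent : ∀ a ∈ (P : Subgroup G), a ≠ 1 → Subgroup.centralizer ({a} : Set G) ≤ H := by
    intro a haP ha1 g hg
    rw [hH, mem_compStab]
    apply sreach_of_common (Subgroup.zpowers a) (Subgroup.zpowers_ne_bot.mpr ha1)
      (Subgroup.zpowers_le.mpr haP)
    rw [Subgroup.zpowers_le, sylow_smul_coe, mem_map_conj_iff]
    have h1 : g⁻¹ * a * g = a := by
      have := Subgroup.mem_centralizer_iff.mp hg a rfl
      rw [mul_assoc, this]; group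
    rw [h1]; exact haP
  -- normalizers of nontrivial subgroups of P lie in H
  have hnorm : ∀ R : Subgroup G, R ≤ (P : Subgroup G) → R ≠ ⊥ →
      Subgroup.normalizer (R : Set G) ≤ H := by
    intro R hRP hRne g hg
    rw [hH, mem_compStab]
    apply sreach_of_common R hRne hRP
    rw [sylow_smul_coe]
    have h1 : R.map (MulAut.conj g).toMonoidHom = R := (mem_normalizer_iff_map_conj R g).mp hg
    rw [← h1]
    exact Subgroup.map_mono hRP
  -- K ≤ H by coprime generation
  have hKH : K ≤ H := by
    have hAp : IsPGroup p A := P.2.to_le hAP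
    obtain ⟨k, hk⟩ := IsPGroup.iff_card.mp hAp
    have hcop : (Nat.card A).Coprime (Nat.card K) := by
      rw [hk]
      exact Nat.Coprime.pow_left _ hKcop.symm
    have hgen := iSup_centralizer_eq_of_not_cyclic A K hAnc
      (by rw [Subgroup.normalizer_eq_top_iff.mpr hKn]; exact le_top) hcop
    rw [← hgen]
    apply iSup₂_le
    intro a ha
    exact inf_le_right.trans (hcent a (hAP ha.1) ha.2)
  -- the p-core of the quotient by K
  have hQ0 : Cfsg.pPrimeCore p (G ⧸ K) = ⊥ := Cfsg.Agent.Lib.Helper3.pPrimeCore_quotient_eq_bot p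
  have hcen := Cfsg.Agent.Lib.Helper3.centralizer_pCore_le_of_psolvable_quotient hsol K hQ0
  set D := Cfsg.pCore p (G ⧸ K) with hD
  have hDp : IsPGroup p D := isPGroup_pCore p (G ⧸ K)
  have hDne : D ≠ ⊥ := by
    intro hb
    rw [hb] at hcen
    have h1 : Subgroup.centralizer ((⊥ : Subgroup (G ⧸ K)) : Set (G ⧸ K)) = ⊤ := by
      rw [Subgroup.coe_bot, Subgroup.centralizer_eq_top_iff_subset]
      intro x hx
      rw [Set.mem_singleton_iff] at hx
      rw [hx]; exact Subgroup.one_mem _
    rw [h1, top_le_iff] at hcen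
    -- the quotient is trivial, so K = ⊤
    have h2 : K = ⊤ := by
      rw [eq_top_iff]
      intro g _
      have h3 : (g : G ⧸ K) ∈ (⊥ : Subgroup (G ⧸ K)) := by rw [hcen]; trivial
      rw [Subgroup.mem_bot, QuotientGroup.eq_one_iff] at h3
      exact h3
    have h4 : Nat.card K = Nat.card G := by rw [h2, Subgroup.card_top]
    rw [h4] at hKcop
    exact hp.one_lt.ne' (Nat.Coprime.eq_one_of_dvd hKcop.symm hdiv)
  haveI hDn : D.Normal := by
    rw [hD]; unfold Cfsg.pCore
    exact Cfsg.Agent.Lib.Helper3.pCore_normal' p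
  set L : Subgroup G := D.comap (QuotientGroup.mk' K) with hL
  haveI hLn : L.Normal := Subgroup.Normal.comap hDn _
  have hKL : K ≤ L := by
    intro t ht
    rw [hL, Subgroup.mem_comap]
    have : (QuotientGroup.mk' K) t = 1 := by
      rw [QuotientGroup.mk'_apply, QuotientGroup.eq_one_iff]; exact ht
    rw [this]; exact Subgroup.one_mem _
  obtain ⟨m, hm⟩ := IsPGroup.iff_card.mp hDp
  have hm0 : m ≠ 0 := by
    rintro rfl
    rw [pow_zero] at hm
    exact hDne (Subgroup.card_eq_one.mp hm)
  have hLcard : Nat.card L = Nat.card K * p ^ m := by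
    rw [hL, Cfsg.Agent.Lib.Helper6.card_comap_mk', hm]
  have hfacL : (Nat.card L).factorization p = m := by
    rw [hLcard, Nat.factorization_mul Nat.card_pos.ne' (pow_ne_zero _ hp.ne_zero),
      Finsupp.add_apply, Nat.factorization_eq_zero_of_not_dvd, zero_add,
      hp.factorization_pow, Finsupp.single_eq_same]
    intro hd
    exact hp.one_lt.ne' (Nat.Coprime.eq_one_of_dvd hKcop.symm hd)
  set R := (P : Subgroup G) ⊓ L with hR
  have hRcard : Nat.card R = p ^ m := by
    rw [hR, card_sylow_inf_subnormal P L hLn.isSubnormal, hfacL]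
  have hRne : R ≠ ⊥ := by
    intro hb
    rw [hb, Subgroup.card_bot] at hRcard
    have : 1 < p ^ m := Nat.one_lt_pow hm0 hp.one_lt
    omega
  have hRP : R ≤ (P : Subgroup G) := inf_le_left
  -- L = K ⊔ R
  have hLKR : L = K ⊔ R := by
    symm
    apply Subgroup.eq_of_le_of_card_ge (sup_le hKL inf_le_right)
    have h1 : Nat.card K ∣ Nat.card (K ⊔ R : Subgroup G) := Subgroup.card_dvd_of_le le_sup_left
    have h2 : Nat.card R ∣ Nat.card (K ⊔ R : Subgroup G) := Subgroup.card_dvd_of_le le_sup_right
    have h3 : (Nat.card K).Coprime (Nat.card R) := by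
      rw [hRcard]; exact Nat.Coprime.pow_right _ hKcop
    have h4 := Nat.Coprime.mul_dvd_of_dvd_of_dvd h3 h1 h2
    rw [hLcard, ← hRcard]
    exact Nat.le_of_dvd Nat.card_pos h4
  have hLH : L ≤ H := by
    rw [hLKR]
    exact sup_le hKH (hRP.trans (le_compStab P))
  -- Frattini
  have hRsyl : Nat.card (R.subgroupOf L) = p ^ (Nat.card L).factorization p := by
    rw [Nat.card_congr (Subgroup.subgroupOfEquivOfLe (inf_le_right : R ≤ L)).toEquiv, hRcard, hfacL]
  have hfrat := Sylow.normalizer_sup_eq_top (Sylow.ofCard (R.subgroupOf L) hRsyl)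
  rw [Sylow.coe_ofCard, Subgroup.subgroupOf_map_subtype, inf_eq_left.mpr (inf_le_right : R ≤ L)] at hfrat
  have hHtop : H = ⊤ := by
    rw [eq_top_iff, ← hfrat]
    exact sup_le (hnorm R hRP hRne) hLH
  intro S T
  have hPall : ∀ S : Sylow p G, SReach P S := by
    intro S
    obtain ⟨g, rfl⟩ := MulAction.exists_smul_eq G P S
    have : g ∈ H := by rw [hHtop]; trivial
    exact (mem_compStab P g).mp this
  exact (hPall S).symm.trans (hPall T)

end Aux

theorem result {G : Type*} [Group G] [Finite G]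
    (p : ℕ) [Fact p.Prime] (hdiv : p ∣ Nat.card G) (hsol : Cfsg.IsPSolvable p G) (P : Sylow p G) :
    ¬ Cfsg.IsSylowChainConnected p G ↔
      Cfsg.pCore p G = ⊥ ∧ (IsCyclic ↥P ∨ (p = 2 ∧ ∃ n : ℕ, Nonempty (↥P ≃* QuaternionGroup (2 ^ n)))) := by
  classical
  have hp : p.Prime := Fact.out
  rw [isSylowChainConnected_iff]
  constructor
  · intro hnc
    have hcore : Cfsg.pCore p G = ⊥ := by
      by_contra hne
      apply hnc
      intro S T
      exact sreach_of_common (Cfsg.pCore p G) hne (pCore_le_sylow S) (pCore_le_sylow T)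
    refine ⟨hcore, ?_⟩
    by_contra hcon
    rw [not_or] at hcon
    obtain ⟨hncyc, hnq⟩ := hcon
    have hncyc' : ¬ IsCyclic ↥(P : Subgroup G) := hncyc
    have hnq' : ¬ (p = 2 ∧ ∃ n : ℕ, Nonempty (↥(P : Subgroup G) ≃* QuaternionGroup (2 ^ n))) := hnq
    obtain ⟨A₀, hA₀c, hA₀nc⟩ := exists_abelian_noncyclic (R := ↥(P : Subgroup G)) P.2 hncyc' hnq'
    haveI := hA₀c
    apply hnc
    apply connected_of_noncyclic P hdiv hsol (A₀.map (P : Subgroup G).subtype)
      (Subgroup.map_subtype_le _)
    intro hc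
    apply hA₀nc
    exact (A₀.equivMapOfInjective _ (Subgroup.subtype_injective _)).isCyclic.mpr hc
  · rintro ⟨hcore, hT⟩
    apply not_connected_of_unique P hdiv hcore
    rcases hT with h | ⟨_, n, hn⟩
    · exact Or.inl h
    · exact Or.inr ⟨2 ^ n, hn⟩

end Cfsg.Agent.S3057
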