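import Cfsg.Statements.S3058
import Cfsg.Agent.Lib.Helper5.RankTwo
import Cfsg.Agent.S2868
import Cfsg.Agent.S3056
import Cfsg.Agent.Lib.Helper5.PCore

set_option autoImplicit false
open Cfsg

namespace Cfsg.Agent.S3058

theorem result {G : Type*} [Group G] [Finite G]
    (p : ℕ) [Fact p.Prime] (hG : ¬ Cfsg.IsSylowChainConnected p G)
    (N M : Subgroup G) [N.Normal] [M.Normal] (hN : p ∣ Nat.card N) (hM : p ∣ Nat.card M) :
    p ∣ Nat.card ↥(N ⊓ M) := by
  have hp : p.Prime := Fact.out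
  obtain ⟨H, hHtop, hpH, hcl⟩ := (Cfsg.Agent.S3056.result p).mp hG
  have hnc : Cfsg.Agent.Lib.Helper5.NormCond p H := Cfsg.Agent.Lib.Helper5.normCond_of_inf_conj hcl
  have hspe : Cfsg.IsStronglyPEmbedded p H := Cfsg.Agent.Lib.Helper5.spe_of_normCond hnc hHtop hpH
  obtain ⟨_, _, S, hΓ⟩ := id hspe
  have hS1 : (S : Subgroup G) ≠ ⊥ :=
    S.ne_bot_of_dvd_card (hpH.trans (Subgroup.card_subgroup_dvd_card H))
  have hΓ' := (Cfsg.Agent.Lib.Helper5.kGeneratedCore_one_le_iff (S : Subgroup G) H S.isPGroup').mp hΓ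
  have hSH : (S : Subgroup G) ≤ H := Subgroup.le_normalizer.trans (hΓ' _ le_rfl hS1)
  by_contra hD
  set D : Subgroup G := N ⊓ M with hDdef
  haveI hDn : D.Normal := Subgroup.normal_inf_normal N M
  obtain ⟨a, haS, haN, hao⟩ := Cfsg.Agent.Lib.Helper5.exists_orderOf_eq_prime_mem_sylow_inf S N hN
  obtain ⟨b, hbS, hbM, hbo⟩ := Cfsg.Agent.Lib.Helper5.exists_orderOf_eq_prime_mem_sylow_inf S M hM
  have hSD : (S : Subgroup G) ⊓ D = ⊥ := by
    obtain ⟨k, hk⟩ := IsPGroup.iff_card.mp S.isPGroup'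
    apply (Subgroup.disjoint_of_coprime_natCard _).eq_bot
    rw [hk]
    exact ((Nat.Prime.coprime_iff_not_dvd hp).mpr hD).pow_left k
  have hab : Commute a b := by
    have h1 : a * b * a⁻¹ * b⁻¹ ∈ (S : Subgroup G) ⊓ D := by
      refine ⟨?_, ?_, ?_⟩
      · exact Subgroup.mul_mem _ (Subgroup.mul_mem _ (Subgroup.mul_mem _ haS hbS)
          (Subgroup.inv_mem _ haS)) (Subgroup.inv_mem _ hbS)
      · have : a * b * a⁻¹ * b⁻¹ = a * (b * a⁻¹ * b⁻¹) := by group
        rw [this]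
        exact N.mul_mem haN (‹N.Normal›.conj_mem _ (N.inv_mem haN) b)
      · exact M.mul_mem (‹M.Normal›.conj_mem _ hbM a) (M.inv_mem hbM)
    rw [hSD, Subgroup.mem_bot] at h1
    show a * b = b * a
    have : a * b = (a * b * a⁻¹ * b⁻¹) * (b * a) := by group
    rw [this, h1, one_mul]
  have hdisj : Subgroup.zpowers a ⊓ Subgroup.zpowers b = ⊥ := by
    rw [eq_bot_iff, ← hSD]
    refine le_inf (inf_le_left.trans (Subgroup.zpowers_le.mpr haS)) ?_
    exact le_inf (inf_le_left.trans (Subgroup.zpowers_le.mpr haN))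
      (inf_le_right.trans (Subgroup.zpowers_le.mpr hbM))
  obtain ⟨hexp, hcard⟩ := Cfsg.Agent.Lib.Helper5.rank_two_of_commuting a b hao hbo hab hdisj
  set E : Subgroup G := Subgroup.zpowers a ⊔ Subgroup.zpowers b with hE
  have hES : E ≤ (S : Subgroup G) :=
    sup_le (Subgroup.zpowers_le.mpr haS) (Subgroup.zpowers_le.mpr hbS)
  -- D ≤ H
  have hDH : D ≤ H := by
    have hED : E ≤ Subgroup.normalizer (D : Set G) := by
      rw [Subgroup.normalizer_eq_top]; exact le_top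
    refine (Cfsg.Agent.Lib.Helper5.le_genC E hexp hcard D hED hD).trans ?_
    unfold Cfsg.Agent.Lib.Helper5.genC
    apply iSup₂_le
    intro e he
    refine inf_le_right.trans ?_
    have hZH : Subgroup.zpowers e ≤ H := Subgroup.zpowers_le.mpr (hSH (hES he.1))
    have hZp : IsPGroup p (Subgroup.zpowers e) :=
      Cfsg.Agent.Lib.Helper5.isPGroup_of_exp _ (fun x hx => hexp x ((Subgroup.zpowers_le.mpr he.1) hx))
    have hZ1 : Subgroup.zpowers e ≠ ⊥ := fun h => he.2 (Subgroup.zpowers_eq_bot.mp h)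
    refine le_trans ?_ (hnc _ hZH hZp hZ1)
    refine le_trans ?_ (Subgroup.centralizer_le_normalizer _)
    rw [Subgroup.zpowers_eq_closure, Subgroup.centralizer_closure]
  -- M ≤ H
  have haH : a ∈ H := hSH haS
  have hZa : Subgroup.zpowers a ≤ H := Subgroup.zpowers_le.mpr haH
  have hZap : IsPGroup p (Subgroup.zpowers a) := by
    apply IsPGroup.of_card (n := 1)
    rw [Nat.card_zpowers, hao, pow_one]
  have hZa1 : Subgroup.zpowers a ≠ ⊥ := by
    intro h
    have := Subgroup.zpowers_eq_bot.mp h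
    rw [this, orderOf_one] at hao
    exact hp.one_lt.ne hao
  have hMH : M ≤ H := by
    intro m hm
    have hZaD : Subgroup.zpowers a ≤ Subgroup.normalizer (D : Set G) := by
      rw [Subgroup.normalizer_eq_top]; exact le_top
    have hcop : (Nat.card (Subgroup.zpowers a)).Coprime (Nat.card D) := by
      rw [Nat.card_zpowers, hao]
      exact (Nat.Prime.coprime_iff_not_dvd hp).mpr hD
    have hsolv : Group.IsSolvable (Subgroup.zpowers a) := inferInstance
    have hB : Cfsg.Agent.Lib.Helper4.cj m (Subgroup.zpowers a) ≤ D ⊔ Subgroup.zpowers a := by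
      rintro _ ⟨_, ⟨i, rfl⟩, rfl⟩
      show m * a ^ i * m⁻¹ ∈ D ⊔ Subgroup.zpowers a
      have h1 : m * a * m⁻¹ * a⁻¹ ∈ D := by
        refine ⟨?_, ?_⟩
        · exact N.mul_mem (‹N.Normal›.conj_mem _ haN m) (N.inv_mem haN)
        · have : m * a * m⁻¹ * a⁻¹ = m * (a * m⁻¹ * a⁻¹) := by group
          rw [this]
          exact M.mul_mem hm (‹M.Normal›.conj_mem _ (M.inv_mem hm) a)
      have h2 : m * a * m⁻¹ ∈ D ⊔ Subgroup.zpowers a := by
        have : m * a * m⁻¹ = (m * a * m⁻¹ * a⁻¹) * a := by group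
        rw [this]
        exact Subgroup.mul_mem _ (Subgroup.mem_sup_left h1)
          (Subgroup.mem_sup_right (Subgroup.mem_zpowers a))
      have h3 : m * a ^ i * m⁻¹ = (m * a * m⁻¹) ^ i := by
        rw [conj_zpow]
      rw [h3]
      exact Subgroup.zpow_mem _ h2 i
    obtain ⟨k, hk, hkeq⟩ := Cfsg.Agent.Lib.Helper4.sz_act_conj (Subgroup.zpowers a) D hZaD hcop
      (Or.inl hsolv) _ hB (Cfsg.Agent.Lib.Helper4.card_cj' m _)
    have hkm : k⁻¹ * m ∈ Subgroup.normalizer ((Subgroup.zpowers a : Subgroup G) : Set G) := by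
      rw [Cfsg.Agent.Lib.Helper5.mem_normalizer_iff_map_conj]
      have h1 : Cfsg.Agent.Lib.Helper4.cj (k⁻¹ * m) (Subgroup.zpowers a) =
          Cfsg.Agent.Lib.Helper4.cj k⁻¹ (Cfsg.Agent.Lib.Helper4.cj m (Subgroup.zpowers a)) :=
        Cfsg.Agent.Lib.Helper4.cj_mul _ _ _
      rw [← hkeq, Cfsg.Agent.Lib.Helper4.cj_inv_cj'] at h1
      exact h1
    have h4 := hnc _ hZa hZap hZa1 hkm
    have : m = k * (k⁻¹ * m) := by group
    rw [this]
    exact H.mul_mem (hDH hk) h4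
  -- contradiction
  have hcore : M ≤ H.normalCore := (Subgroup.normal_le_normalCore).mpr hMH
  have h2 := (Cfsg.Agent.S2868.result H hspe).2.1
  have hMX : M ≤ Cfsg.pPrimeCore p G := hcore.trans h2
  have hXc := Cfsg.Agent.Lib.Helper5.card_pPrimeCore_coprime (G := G) p
  have hdvd : p ∣ Nat.card (Cfsg.pPrimeCore p G) := hM.trans (Subgroup.card_dvd_of_le hMX)
  have := Nat.dvd_gcd hdvd (dvd_refl p)
  rw [hXc] at this
  exact hp.one_lt.ne' (Nat.dvd_one.mp this)

end Cfsg.Agent.S3058
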