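import Cfsg.Statements.S3059
import Cfsg.Agent.Lib.Helper5.SPE
import Cfsg.Agent.Lib.Helper5.SylowLib
import Cfsg.Agent.Lib.Helper5.Coprime

set_option autoImplicit false
open Cfsg

namespace Cfsg.Agent.S3059

theorem result {G : Type*} [Group G] [Finite G]
    (p : ℕ) [Fact p.Prime] (H : Subgroup G) (hH : H ≠ ⊤) (hpH : p ∣ Nat.card H)
    (hse : ∀ g : G, g ∉ H → ¬ p ∣ Nat.card ↥(H ⊓ H.map (MulAut.conj g).toMonoidHom))
    (N : Subgroup G) [N.Normal] (hN : p ∣ Nat.card N) :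
    H ⊔ Subgroup.closure {g : G | g ∈ N ∧ (orderOf g).Coprime p} = ⊤ := by
  have hp : p.Prime := Fact.out
  have hnc : Cfsg.Agent.Lib.Helper5.NormCond p H := Cfsg.Agent.Lib.Helper5.normCond_of_inf_conj hse
  set K : Subgroup G := Subgroup.closure {g : G | g ∈ N ∧ (orderOf g).Coprime p} with hKdef
  have hNn : N.Normal := inferInstance
  haveI hKn : K.Normal := by
    apply Cfsg.Agent.Lib.Helper5.closure_normal_of_conj_invariant
    rintro s ⟨hsN, hso⟩ g
    refine ⟨hNn.conj_mem s hsN g, ?_⟩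
    have := MulEquiv.orderOf_eq (MulAut.conj g) s
    rw [MulAut.conj_apply] at this
    rw [this]
    exact hso
  obtain ⟨S₀, hS₀, hS₀1⟩ := Cfsg.Agent.Lib.Helper5.exists_isMaxPIn_ne_bot H hpH
  obtain ⟨P₀, hP₀⟩ := (Cfsg.Agent.Lib.Helper5.isMaxPIn_top_iff S₀).mp (hnc.isMaxPIn_top hS₀ hS₀1)
  have hP₀H : (P₀ : Subgroup G) ≤ H := hP₀ ▸ hS₀.1
  have hfr := Cfsg.Agent.Lib.Helper5.frattini_inf_normal P₀ N
  obtain ⟨PN, hPN⟩ := Cfsg.Agent.Lib.Helper5.exists_sylow_inf_normal P₀ N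
  have hne : (P₀ : Subgroup G) ⊓ N ≠ ⊥ := by
    rw [← hPN]
    intro h0
    rw [Subgroup.map_eq_bot_iff_of_injective _ N.subtype_injective] at h0
    exact PN.ne_bot_of_dvd_card hN h0
  have hNH : Subgroup.normalizer ((((P₀ : Subgroup G) ⊓ N : Subgroup G)) : Set G) ≤ H :=
    hnc _ (inf_le_left.trans hP₀H) (P₀.isPGroup'.to_inf_left) hne
  have hHN : H ⊔ N = ⊤ := by
    rw [eq_top_iff, ← hfr]
    exact sup_le_sup_right hNH N
  have hsurj : Function.Surjective (QuotientGroup.mk' K) := QuotientGroup.mk'_surjective K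
  have hNp : IsPGroup p (N.map (QuotientGroup.mk' K)) := by
    rintro ⟨_, ⟨n, hn, rfl⟩⟩
    obtain ⟨a, h1, h2⟩ := Cfsg.Agent.Lib.Helper5.pprime_part (p := p) n (isOfFinOrder_of_finite n)
    refine ⟨a, ?_⟩
    apply Subtype.ext
    simp only [Subgroup.coe_pow, Subgroup.coe_one]
    rw [← map_pow, QuotientGroup.mk'_apply, QuotientGroup.eq_one_iff]
    exact Subgroup.subset_closure ⟨N.pow_mem hn _, h2⟩
  haveI hNmapn : (N.map (QuotientGroup.mk' K)).Normal := hNn.map _ hsurj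
  have hle := hNp.le_sylow_of_normal (P₀.mapSurjective hsurj)
  rw [Sylow.coe_mapSurjective] at hle
  have hNle : N ≤ H ⊔ K := by
    intro n hn
    obtain ⟨y, hy, hyn⟩ := hle (Subgroup.mem_map_of_mem _ hn)
    have h3 : y⁻¹ * n ∈ K := by
      rw [← QuotientGroup.eq_one_iff, QuotientGroup.mk_mul, QuotientGroup.mk_inv]
      have : (QuotientGroup.mk y : G ⧸ K) = QuotientGroup.mk n := hyn
      rw [this]
      group
    have h4 : n = y * (y⁻¹ * n) := by group
    rw [h4]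
    exact Subgroup.mul_mem_sup (hP₀H hy) h3
  rw [eq_top_iff, ← hHN]
  exact sup_le le_sup_left hNle

end Cfsg.Agent.S3059
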