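import Cfsg.Statements.S3062
import Cfsg.Agent.Lib.Helper5.DStar2

set_option autoImplicit false
open Cfsg

namespace Cfsg.Agent.S3062

theorem result {S : Type*} [Group S] [Finite S] {p : ℕ} [Fact p.Prime]
    (hS : IsPGroup p S) :
    Subgroup.center S ≤ Cfsg.dStar S ∧
    Cfsg.dStar S ≤ Cfsg.thompsonSubgroupA S ⊓ Subgroup.centralizer (Cfsg.thompsonSubgroupA S : Set S) ∧
    ∀ A : Subgroup S, A.Normal → IsMulCommutative A →
      (∀ B : Subgroup S, B.Normal → IsMulCommutative B → A ≤ B → B = A) → Cfsg.dStar S ≤ A := by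
  have hD := Cfsg.Agent.Lib.Helper5.dStar_mem_dStarFamily hS
  haveI hDn := Cfsg.Agent.Lib.Helper5.dStar_normal hS
  have hDab : Cfsg.dStar S ≤ Subgroup.centralizer (Cfsg.dStar S : Set S) :=
    (Cfsg.Agent.Lib.Helper5.isMulCommutative_iff_le_centralizer _).mp hD.1
  refine ⟨le_sSup Cfsg.Agent.Lib.Helper5.center_mem_dStarFamily, le_inf ?_ ?_, ?_⟩
  · obtain ⟨A₀, hA₀⟩ := Cfsg.Agent.Lib.Helper5.exists_mem_maxAbelianSubgroups S
    exact (Cfsg.Agent.Lib.Helper5.dStar_le_of_mem_maxAbelian hS A₀ hA₀).trans (le_sSup hA₀)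
  · rw [Subgroup.le_centralizer_iff]
    apply sSup_le
    intro A hA
    rw [Subgroup.le_centralizer_iff]
    exact (Cfsg.Agent.Lib.Helper5.dStar_le_of_mem_maxAbelian hS A hA).trans
      ((Cfsg.Agent.Lib.Helper5.isMulCommutative_iff_le_centralizer A).mp hA.1)
  · intro A hAn hAab hmax
    have hAab' := (Cfsg.Agent.Lib.Helper5.isMulCommutative_iff_le_centralizer A).mp hAab
    have hN : Cfsg.dStar S ≤ Subgroup.normalizer (A : Set S) := by
      rw [Subgroup.normalizer_eq_top]; exact le_top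
    have hC := Cfsg.Agent.Lib.Helper5.dStar_le_centralizer_of_le_normalizer hS A hAab' hN
    have hsupab : IsMulCommutative ↥(Cfsg.dStar S ⊔ A) := by
      rw [Cfsg.Agent.Lib.Helper5.isMulCommutative_iff_le_centralizer]
      exact Cfsg.Agent.Lib.Helper5.abelian_sup _ _ hDab hAab' hC
    have hsupn : (Cfsg.dStar S ⊔ A).Normal := inferInstance
    have := hmax _ hsupn hsupab le_sup_right
    rw [← this]
    exact le_sup_left

end Cfsg.Agent.S3062
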