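import Cfsg.Statements.S3063
import Mathlib
import Cfsg.Agent.Lib.Helper2.EA
import Cfsg.Agent.Lib.Helper2.Index


set_option autoImplicit false
open Cfsg

namespace Cfsg.Agent.S3063


section gillam
variable {S : Type*} [Group S]

theorem comm_sup {H K : Subgroup S} (hH : ∀ a ∈ H, ∀ b ∈ H, a * b = b * a)
    (hK : ∀ a ∈ K, ∀ b ∈ K, a * b = b * a) (hHK : ∀ a ∈ H, ∀ b ∈ K, a * b = b * a) :
    ∀ a ∈ H ⊔ K, ∀ b ∈ H ⊔ K, a * b = b * a := by
  have h1 : H ⊔ K ≤ Subgroup.centralizer ((H ⊔ K : Subgroup S) : Set S) := by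
    apply sup_le
    · rw [Subgroup.le_centralizer_iff]
      apply sup_le
      · intro a ha
        rw [Subgroup.mem_centralizer_iff]
        intro h hh
        exact hH h hh a ha
      · intro a ha
        rw [Subgroup.mem_centralizer_iff]
        intro h hh
        exact hHK h hh a ha
    · rw [Subgroup.le_centralizer_iff]
      apply sup_le
      · intro a ha
        rw [Subgroup.mem_centralizer_iff]
        intro k hk
        exact (hHK a ha k hk).symm
      · intro a ha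
        rw [Subgroup.mem_centralizer_iff]
        intro k hk
        exact hK k hk a ha
  intro a ha b hb
  exact Subgroup.mem_centralizer_iff.mp (h1 hb) a ha

theorem arith (a m c e s i j u w : ℕ) (ha : 0 < a) (he : 0 < e) (hj : 0 < j)
    (e1 : u * j = m * a) (e2 : w * e = a * a) (e3 : s * i = c * m)
    (i1 : w ≤ u) (i2 : e ≤ c) (i3 : i ≤ j) : a ≤ s := by
  have h1 : c * m ≤ s * j := by
    rw [← e3]
    exact Nat.mul_le_mul_left s i3
  have h2 : u * c ≤ s * a := by
    have : u * c * j ≤ s * a * j := by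
      calc u * c * j = (u * j) * c := by ring
        _ = (c * m) * a := by rw [e1]; ring
        _ ≤ (s * j) * a := Nat.mul_le_mul_right a h1
        _ = s * a * j := by ring
    exact Nat.le_of_mul_le_mul_right this hj
  have h3 : a * (a * e) ≤ s * (a * e) := by
    calc a * (a * e) = (a * a) * e := by ring
      _ ≤ (a * a) * c := Nat.mul_le_mul_left _ i2
      _ = (w * e) * c := by rw [e2]
      _ = (w * c) * e := by ring
      _ ≤ (u * c) * e := Nat.mul_le_mul_right e (Nat.mul_le_mul_right c i1)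
      _ ≤ (s * a) * e := Nat.mul_le_mul_right e h2
      _ = s * (a * e) := by ring
  exact Nat.le_of_mul_le_mul_right h3 (Nat.mul_pos ha he)

theorem replace_step [Finite S] (A : Subgroup S) (hAc : ∀ a ∈ A, ∀ b ∈ A, a * b = b * a)
    (x : S) (hx : ∀ a ∈ A, x * a * x⁻¹ ∈ Subgroup.normalizer (A : Set S))
    (M₀ : Subgroup S) (hM₀ : M₀ = Subgroup.closure {c | ∃ a ∈ A, c = x * a * x⁻¹ * a⁻¹}) :
    Nat.card A ≤ Nat.card (M₀ ⊔ (A ⊓ Subgroup.centralizer (M₀ : Set S)) : Subgroup S) := by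
  obtain ⟨Ax, hAx⟩ : ∃ Ax, Ax = A.map (MulAut.conj x).toMonoidHom := ⟨_, rfl⟩
  obtain ⟨C, hC⟩ : ∃ C, C = A ⊓ Subgroup.centralizer (M₀ : Set S) := ⟨_, rfl⟩
  rw [← hC]
  have hAxmem : ∀ y, y ∈ Ax ↔ ∃ a ∈ A, y = x * a * x⁻¹ := by
    intro y
    rw [hAx, Subgroup.mem_map]
    constructor
    · rintro ⟨a, ha, rfl⟩
      exact ⟨a, ha, rfl⟩
    · rintro ⟨a, ha, rfl⟩
      exact ⟨a, ha, rfl⟩
  have hAxcard : Nat.card Ax = Nat.card A := by
    rw [hAx]
    exact Subgroup.card_map_of_injective (MulAut.conj x).injective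
  have hAxc : ∀ y ∈ Ax, ∀ y' ∈ Ax, y * y' = y' * y := by
    intro y hy y' hy'
    obtain ⟨a, ha, rfl⟩ := (hAxmem y).mp hy
    obtain ⟨a', ha', rfl⟩ := (hAxmem y').mp hy'
    calc x * a * x⁻¹ * (x * a' * x⁻¹) = x * (a * a') * x⁻¹ := by group
      _ = x * (a' * a) * x⁻¹ := by rw [hAc a ha a' ha']
      _ = x * a' * x⁻¹ * (x * a * x⁻¹) := by group
  have hAxN : Ax ≤ Subgroup.normalizer (A : Set S) := by
    intro y hy
    obtain ⟨a, ha, rfl⟩ := (hAxmem y).mp hy
    exact hx a ha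
  have hM₀N : M₀ ≤ Subgroup.normalizer (A : Set S) := by
    rw [hM₀, Subgroup.closure_le]
    rintro c ⟨a, ha, rfl⟩
    exact Subgroup.mul_mem _ (hx a ha) (Subgroup.inv_mem _ (Subgroup.le_normalizer ha))
  have hgen : ∀ a ∈ A, x * a * x⁻¹ * a⁻¹ ∈ M₀ := by
    intro a ha
    rw [hM₀]
    exact Subgroup.subset_closure ⟨a, ha, rfl⟩
  have hCM : C ≤ Subgroup.normalizer (M₀ : Set S) := by
    apply Cfsg.Agent.Lib.Helper2.le_normalizer_of_commute
    intro c hc m hm
    rw [hC] at hc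
    have := Subgroup.mem_centralizer_iff.mp (Subgroup.mem_inf.mp hc).2 m hm
    exact this.symm
  have e1 := Cfsg.Agent.Lib.Helper2.card_sup_mul_card_inf M₀ A hM₀N
  have e2 := Cfsg.Agent.Lib.Helper2.card_sup_mul_card_inf Ax A hAxN
  have e3 := Cfsg.Agent.Lib.Helper2.card_sup_mul_card_inf C M₀ hCM
  rw [hAxcard] at e2
  have i1 : Ax ⊔ A ≤ M₀ ⊔ A := by
    apply sup_le
    · intro y hy
      obtain ⟨a, ha, rfl⟩ := (hAxmem y).mp hy
      have : x * a * x⁻¹ = (x * a * x⁻¹ * a⁻¹) * a := by group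
      rw [this]
      exact Subgroup.mul_mem _ (Subgroup.mem_sup_left (hgen a ha)) (Subgroup.mem_sup_right ha)
    · exact le_sup_right
  have i2 : Ax ⊓ A ≤ C := by
    intro y hy
    obtain ⟨hyx, hyA⟩ := Subgroup.mem_inf.mp hy
    rw [hC]
    refine Subgroup.mem_inf.mpr ⟨hyA, ?_⟩
    have hle : M₀ ≤ Subgroup.centralizer ({y} : Set S) := by
      rw [hM₀, Subgroup.closure_le]
      rintro c ⟨a, ha, rfl⟩
      show x * a * x⁻¹ * a⁻¹ ∈ Subgroup.centralizer ({y} : Set S)
      rw [Subgroup.mem_centralizer_iff]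
      intro h hh
      rw [Set.mem_singleton_iff] at hh
      rw [hh]
      have h1 : y * (x * a * x⁻¹) = (x * a * x⁻¹) * y :=
        hAxc y hyx _ ((hAxmem _).mpr ⟨a, ha, rfl⟩)
      have h2 : y * a⁻¹ = a⁻¹ * y := hAc y hyA a⁻¹ (A.inv_mem ha)
      calc y * (x * a * x⁻¹ * a⁻¹) = (y * (x * a * x⁻¹)) * a⁻¹ := by group
        _ = (x * a * x⁻¹) * (y * a⁻¹) := by rw [h1]; group
        _ = x * a * x⁻¹ * a⁻¹ * y := by rw [h2]; group
    rw [Subgroup.mem_centralizer_iff]
    intro m hm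
    have := Subgroup.mem_centralizer_iff.mp (hle hm) y (Set.mem_singleton y)
    exact this.symm
  have i3 : C ⊓ M₀ ≤ M₀ ⊓ A := by
    intro y hy
    obtain ⟨hyC, hyM⟩ := Subgroup.mem_inf.mp hy
    rw [hC] at hyC
    exact Subgroup.mem_inf.mpr ⟨hyM, (Subgroup.mem_inf.mp hyC).1⟩
  have hs : M₀ ⊔ C = C ⊔ M₀ := sup_comm _ _
  rw [hs]
  exact arith (Nat.card A) (Nat.card M₀) (Nat.card C) (Nat.card (Ax ⊓ A : Subgroup S))
    (Nat.card (C ⊔ M₀ : Subgroup S)) (Nat.card (C ⊓ M₀ : Subgroup S))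
    (Nat.card (M₀ ⊓ A : Subgroup S)) (Nat.card (M₀ ⊔ A : Subgroup S))
    (Nat.card (Ax ⊔ A : Subgroup S)) Nat.card_pos Nat.card_pos Nat.card_pos e1 e2 e3
    (Subgroup.card_le_of_le i1) (Subgroup.card_le_of_le i2) (Subgroup.card_le_of_le i3)

theorem main [Finite S] {p : ℕ} [Fact p.Prime] (hS : IsPGroup p S)
    (hmeta : IsMulCommutative ↥(commutator S)) (A₀ : Subgroup S)
    (hA₀ : A₀ ∈ Cfsg.maxAbelianSubgroups S) :
    ∃ B ∈ Cfsg.maxAbelianSubgroups S, B.Normal ∧ B ≤ Subgroup.normalClosure (A₀ : Set S) := by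
  classical
  haveI : Group.IsNilpotent S := hS.isNilpotent
  obtain ⟨K, hK⟩ : ∃ K, K = Subgroup.normalClosure (A₀ : Set S) := ⟨_, rfl⟩
  have hKn : K.Normal := by
    rw [hK]
    exact Subgroup.normalClosure_normal
  obtain ⟨M, hM⟩ : ∃ M, M = commutator S := ⟨_, rfl⟩
  have hMc : ∀ m ∈ M, ∀ m' ∈ M, m * m' = m' * m := by
    rw [hM]
    exact (Cfsg.Agent.Lib.Helper2.isMulCommutative_iff_forall_mem _).mp hmeta
  have hcommM : ∀ g a : S, g * a * g⁻¹ * a⁻¹ ∈ M := by
    intro g a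
    rw [hM, commutator_def]
    have := Subgroup.commutator_mem_commutator (Subgroup.mem_top g) (Subgroup.mem_top a)
    rwa [commutatorElement_def] at this
  have step : ∀ A : Subgroup S, A ∈ Cfsg.maxAbelianSubgroups S → A ≤ K → ¬ A.Normal →
      ∃ A' : Subgroup S, A' ∈ Cfsg.maxAbelianSubgroups S ∧ A' ≤ K ∧
        Nat.card (A ⊓ M : Subgroup S) < Nat.card (A' ⊓ M : Subgroup S) := by
    intro A hA hAK hAn
    have hAc : ∀ a ∈ A, ∀ b ∈ A, a * b = b * a :=
      (Cfsg.Agent.Lib.Helper2.isMulCommutative_iff_forall_mem _).mp hA.1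
    have hNtop : Subgroup.normalizer (A : Set S) ≠ ⊤ := by
      intro h
      exact hAn (Subgroup.normalizer_eq_top_iff.mp h)
    have hlt := Group.normalizerCondition_of_isNilpotent (G := S) _ (lt_top_iff_ne_top.mpr hNtop)
    obtain ⟨x, hxN, hxA⟩ := SetLike.exists_of_lt hlt
    have hx : ∀ a ∈ A, x * a * x⁻¹ ∈ Subgroup.normalizer (A : Set S) := by
      intro a ha
      exact (Subgroup.mem_normalizer_iff.mp hxN a).mp (Subgroup.le_normalizer ha)
    obtain ⟨M₀, hM₀⟩ : ∃ M₀, M₀ = Subgroup.closure {c | ∃ a ∈ A, c = x * a * x⁻¹ * a⁻¹} :=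
      ⟨_, rfl⟩
    have hM₀M : M₀ ≤ M := by
      rw [hM₀, Subgroup.closure_le]
      rintro c ⟨a, _, rfl⟩
      exact hcommM x a
    have hgen : ∀ a ∈ A, x * a * x⁻¹ * a⁻¹ ∈ M₀ := by
      intro a ha
      rw [hM₀]
      exact Subgroup.subset_closure ⟨a, ha, rfl⟩
    have hcard := replace_step A hAc x hx M₀ hM₀
    obtain ⟨A', hA'⟩ : ∃ A', A' = M₀ ⊔ (A ⊓ Subgroup.centralizer (M₀ : Set S)) := ⟨_, rfl⟩
    rw [← hA'] at hcard
    have hA'c : ∀ a ∈ A', ∀ b ∈ A', a * b = b * a := by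
      rw [hA']
      apply comm_sup
      · intro a ha b hb
        exact hMc a (hM₀M ha) b (hM₀M hb)
      · intro a ha b hb
        exact hAc a (Subgroup.mem_inf.mp ha).1 b (Subgroup.mem_inf.mp hb).1
      · intro a ha b hb
        exact Subgroup.mem_centralizer_iff.mp (Subgroup.mem_inf.mp hb).2 a ha
    have hA'max : A' ∈ Cfsg.maxAbelianSubgroups S :=
      ⟨(Cfsg.Agent.Lib.Helper2.isMulCommutative_iff_forall_mem _).mpr hA'c,
        fun B hB => le_trans (hA.2 B hB) hcard⟩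
    have hA'K : A' ≤ K := by
      rw [hA']
      apply sup_le
      · rw [hM₀, Subgroup.closure_le]
        rintro c ⟨a, ha, rfl⟩
        exact K.mul_mem (hKn.conj_mem a (hAK ha) x) (K.inv_mem (hAK ha))
      · exact le_trans inf_le_left hAK
    refine ⟨A', hA'max, hA'K, ?_⟩
    by_contra hle
    push Not at hle
    have h1 : A ⊓ M ≤ A' ⊓ M := by
      intro y hy
      obtain ⟨hyA, hyM⟩ := Subgroup.mem_inf.mp hy
      refine Subgroup.mem_inf.mpr ⟨?_, hyM⟩
      rw [hA']
      apply Subgroup.mem_sup_right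
      refine Subgroup.mem_inf.mpr ⟨hyA, ?_⟩
      rw [Subgroup.mem_centralizer_iff]
      intro m hm
      exact hMc m (hM₀M hm) y hyM
    have h2 : A ⊓ M = A' ⊓ M := Subgroup.eq_of_le_of_card_ge h1 hle
    have h3 : M₀ ≤ A := by
      have : M₀ ≤ A' ⊓ M := le_inf (by rw [hA']; exact le_sup_left) hM₀M
      rw [← h2] at this
      exact le_trans this inf_le_left
    have h4 : ∀ a ∈ A, x * a * x⁻¹ ∈ A := by
      intro a ha
      have : x * a * x⁻¹ = (x * a * x⁻¹ * a⁻¹) * a := by group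
      rw [this]
      exact A.mul_mem (h3 (hgen a ha)) ha
    have h5 : A.map (MulAut.conj x).toMonoidHom ≤ A := by
      rintro _ ⟨a, ha, rfl⟩
      exact h4 a ha
    have h6 : A.map (MulAut.conj x).toMonoidHom = A := by
      apply Subgroup.eq_of_le_of_card_ge h5
      rw [Subgroup.card_map_of_injective (MulAut.conj x).injective]
    apply hxA
    rw [Subgroup.mem_normalizer_iff]
    intro h
    constructor
    · exact h4 h
    · intro hh
      rw [← h6] at hh
      obtain ⟨a, ha, hah⟩ := hh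
      have : a = h := (MulAut.conj x).injective hah
      rw [← this]
      exact ha
  have key : ∀ n : ℕ, ∀ A : Subgroup S, A ∈ Cfsg.maxAbelianSubgroups S → A ≤ K →
      Nat.card M ≤ Nat.card (A ⊓ M : Subgroup S) + n →
      ∃ B ∈ Cfsg.maxAbelianSubgroups S, B.Normal ∧ B ≤ K := by
    intro n
    induction n with
    | zero =>
      intro A hA hAK hn
      by_cases hAn : A.Normal
      · exact ⟨A, hA, hAn, hAK⟩
      · obtain ⟨A', _, _, hlt⟩ := step A hA hAK hAn
        have : Nat.card (A' ⊓ M : Subgroup S) ≤ Nat.card M := Subgroup.card_le_of_le inf_le_right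
        omega
    | succ n ih =>
      intro A hA hAK hn
      by_cases hAn : A.Normal
      · exact ⟨A, hA, hAn, hAK⟩
      · obtain ⟨A', hA'max, hA'K, hlt⟩ := step A hA hAK hAn
        exact ih A' hA'max hA'K (by omega)
  have hA₀K : A₀ ≤ K := by
    rw [hK]
    exact Subgroup.subset_normalClosure
  obtain ⟨B, hB, hBn, hBK⟩ := key (Nat.card M) A₀ hA₀ hA₀K (Nat.le_add_left _ _)
  rw [hK] at hBK
  exact ⟨B, hB, hBn, hBK⟩

end gillam
/-- A weak replacement Theorem for metabelian p-groups: let S be a finite p-group whose derived subgroup is abelian and A an abelian subgroup of S of largest possible order. Then the normal closure of A in S contains an abelian subgroup B of the same order as A that is normal in S. -/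
theorem result {S : Type*} [Group S] [Finite S] {p : ℕ} [Fact p.Prime]
    (hS : IsPGroup p S) (hmeta : IsMulCommutative ↥(commutator S))
    (A : Subgroup S) (hA : A ∈ Cfsg.maxAbelianSubgroups S) :
    ∃ B ∈ Cfsg.maxAbelianSubgroups S, B.Normal ∧ B ≤ Subgroup.normalClosure (A : Set S) := by
  exact main hS hmeta A hA

end Cfsg.Agent.S3063
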