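import Mathlib
import Cfsg.Statements.S3064
import Cfsg.Agent.S0035
import Cfsg.Agent.S0042
import Cfsg.Agent.Lib.Helper7.NilpotentSylow

set_option autoImplicit false

open Cfsg
open scoped Pointwise

namespace Cfsg.Agent.S3064

universe u

/-- the inductive hypothesis on `(G, x)` -/
def Q (p : ℕ) (G : Type u) [Group G] (x : G) : Prop :=
  (∃ S : Sylow p G, x ∈ S) ∧
  (∀ S : Sylow p G, x ∈ S → ∀ g : G, g⁻¹ * x * g ∈ S → g⁻¹ * x * g = x) ∧
  (∀ H : Subgroup G, (Nat.card H).Coprime p → (∀ h ∈ H, x * h * x⁻¹ ∈ H) →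
    ∀ h ∈ H, x * h = h * x)

theorem isPGroup_zpowers {p : ℕ} {G : Type*} [Group G] (x : G) (k : ℕ) (hk : x ^ (p ^ k) = 1) :
    IsPGroup p (Subgroup.zpowers x) := by
  rintro ⟨y, hy⟩
  obtain ⟨i, rfl⟩ := Subgroup.mem_zpowers_iff.1 hy
  refine ⟨k, ?_⟩
  apply Subtype.ext
  simp only [Subgroup.coe_pow, Subgroup.coe_one]
  rw [← zpow_natCast, ← zpow_mul, mul_comm, zpow_mul, zpow_natCast, hk, one_zpow]

/-- `Q` passes to subgroups containing `x` -/
theorem Q_subgroup {p : ℕ} [Fact p.Prime] {G : Type u} [Group G] [Finite G] (x : G) (h : Q p G x)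
    (H : Subgroup G) (hxH : x ∈ H) : Q p H ⟨x, hxH⟩ := by
  obtain ⟨⟨S, hxS⟩, h2, h3⟩ := h
  refine ⟨?_, ?_, ?_⟩
  · obtain ⟨k, hk⟩ := S.isPGroup' ⟨x, hxS⟩
    have hk' : x ^ (p ^ k) = 1 := by
      have := congrArg Subtype.val hk
      simpa using this
    have hk'' : (⟨x, hxH⟩ : H) ^ (p ^ k) = 1 := by
      apply Subtype.ext
      simpa using hk'
    obtain ⟨T, hT⟩ := (isPGroup_zpowers (⟨x, hxH⟩ : H) k hk'').exists_le_sylow
    exact ⟨T, hT (Subgroup.mem_zpowers _)⟩
  · intro T hxT g hg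
    have hTp : IsPGroup p ((T : Subgroup H).map H.subtype) := T.isPGroup'.map _
    obtain ⟨S', hS'⟩ := hTp.exists_le_sylow
    have h1 : x ∈ S' := hS' ⟨⟨x, hxH⟩, hxT, rfl⟩
    have h2' : (g : G)⁻¹ * x * (g : G) ∈ S' := hS' ⟨g⁻¹ * ⟨x, hxH⟩ * g, hg, by simp⟩
    have := h2 S' h1 (g : G) h2'
    apply Subtype.ext
    simpa using this
  · intro K hK hnorm k hk
    have hcard : Nat.card (K.map H.subtype) = Nat.card K :=
      Subgroup.card_map_of_injective H.subtype_injective
    have h4 := h3 (K.map H.subtype) (by rw [hcard]; exact hK) (by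
      rintro _ ⟨k', hk', rfl⟩
      exact ⟨⟨x, hxH⟩ * k' * (⟨x, hxH⟩ : H)⁻¹, hnorm k' hk', by simp⟩) (k : G) ⟨k, hk, rfl⟩
    apply Subtype.ext
    simpa using h4

theorem main {p : ℕ} [Fact p.Prime] : ∀ (n : ℕ) (G : Type u) [Group G] [Finite G] (x : G),
    Nat.card G = n → Q p G x → x ∈ Subgroup.center G := by
  intro n
  induction n using Nat.strong_induction_on with
  | _ n ih =>
  intro G _ _ x hn hQ
  by_contra hxZ
  obtain ⟨⟨S, hxS⟩, h2, h3⟩ := hQ
  have hQ : Q p G x := ⟨⟨S, hxS⟩, h2, h3⟩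
  set C := Subgroup.centralizer ({x} : Set G) with hC
  have hxC : x ∈ C := by
    rw [hC, Subgroup.mem_centralizer_singleton_iff]
  have hZC : Subgroup.center G ≤ C := Subgroup.center_le_centralizer _
  -- Step 2
  have step2 : ∀ g : G, g ∉ C → Subgroup.closure ({x, g⁻¹ * x * g} : Set G) = ⊤ := by
    intro g hg
    by_contra hne
    set H := Subgroup.closure ({x, g⁻¹ * x * g} : Set G) with hH
    have hxH : x ∈ H := Subgroup.subset_closure (by simp)
    have hyH : g⁻¹ * x * g ∈ H := Subgroup.subset_closure (by simp)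
    have hlt : Nat.card H < n := by
      rw [← hn]
      have hle : Nat.card H ≤ Nat.card G := Subgroup.card_le_card_group H
      rcases hle.lt_or_eq with h | h
      · exact h
      · exact absurd ((Subgroup.card_eq_iff_eq_top H).1 h) hne
    have hcen := ih _ hlt H ⟨x, hxH⟩ rfl (Q_subgroup x hQ H hxH)
    -- a Sylow of H containing y
    obtain ⟨T0, hT0⟩ := (Q_subgroup x hQ H hxH).1
    -- y is a p-element of H
    obtain ⟨k, hk⟩ := S.isPGroup' ⟨x, hxS⟩
    have hk' : x ^ (p ^ k) = 1 := by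
      have := congrArg Subtype.val hk
      simpa using this
    have hyk : (⟨g⁻¹ * x * g, hyH⟩ : H) ^ (p ^ k) = 1 := by
      apply Subtype.ext
      simp only [Subgroup.coe_pow, Subgroup.coe_one]
      have : g⁻¹ * x * g = MulAut.conj g⁻¹ x := by simp
      rw [this, ← map_pow, hk', map_one]
    obtain ⟨T, hT⟩ := (isPGroup_zpowers (⟨g⁻¹ * x * g, hyH⟩ : H) k hyk).exists_le_sylow
    have hyT : (⟨g⁻¹ * x * g, hyH⟩ : H) ∈ T := hT (Subgroup.mem_zpowers _)
    -- x is in T since central
    have hxT : (⟨x, hxH⟩ : H) ∈ T := by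
      obtain ⟨c, hc⟩ := MulAction.exists_smul_eq H T0 T
      rw [← hc]
      change (⟨x, hxH⟩ : H) ∈ ((c • T0 : Sylow p H) : Subgroup H)
      rw [Sylow.coe_subgroup_smul]
      refine (Subgroup.mem_smul_pointwise_iff_exists _ _ _).2 ⟨⟨x, hxH⟩, hT0, ?_⟩
      rw [MulAut.smul_def, MulAut.conj_apply]
      have := Subgroup.mem_center_iff.1 hcen c
      rw [this, mul_inv_cancel_right]
    have hTp : IsPGroup p ((T : Subgroup H).map H.subtype) := T.isPGroup'.map _
    obtain ⟨S', hS'⟩ := hTp.exists_le_sylow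
    have h1 : x ∈ S' := hS' ⟨⟨x, hxH⟩, hxT, rfl⟩
    have h2' : g⁻¹ * x * g ∈ S' := hS' ⟨⟨g⁻¹ * x * g, hyH⟩, hyT, rfl⟩
    have h5 := h2 S' h1 g h2'
    apply hg
    rw [hC, Subgroup.mem_centralizer_singleton_iff]
    calc g * x = g * (g⁻¹ * x * g) := by rw [h5]
      _ = x * g := by group
  -- S ≤ C
  have hSC : (S : Subgroup G) ≤ C := by
    intro s hs
    rw [hC, Subgroup.mem_centralizer_singleton_iff]
    have h5 := h2 S hxS s ((S : Subgroup G).mul_mem ((S : Subgroup G).mul_mem
      ((S : Subgroup G).inv_mem hs) hxS) hs)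
    calc s * x = s * (s⁻¹ * x * s) := by rw [h5]
      _ = x * s := by group
  -- the quotient by the centre
  set Z := Subgroup.center G with hZ
  set π := QuotientGroup.mk' Z with hπ
  set Cb := C.map π with hCb
  have hmemCb : ∀ g : G, π g ∈ Cb → g ∈ C := by
    rintro g ⟨c, hc, hcg⟩
    have h5 : c⁻¹ * g ∈ Z := by
      rw [← QuotientGroup.eq]
      exact hcg
    have : g = c * (c⁻¹ * g) := by group
    rw [this]
    exact C.mul_mem hc (hZC h5)
  have hfrob : Cfsg.IsFrobeniusComplement Cb := by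
    refine ⟨?_, ?_, ?_⟩
    · intro hbot
      have h5 : π x ∈ Cb := Subgroup.mem_map_of_mem _ hxC
      rw [hbot, Subgroup.mem_bot] at h5
      have h6 : x ∈ Z := by
        rw [← QuotientGroup.ker_mk' Z]
        exact h5
      exact hxZ h6
    · intro htop
      apply hxZ
      rw [Subgroup.mem_center_iff]
      intro g
      have h5 : g ∈ C := hmemCb g (by rw [htop]; exact Subgroup.mem_top _)
      rw [hC, Subgroup.mem_centralizer_singleton_iff] at h5
      exact h5
    · intro gb hgb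
      obtain ⟨g, rfl⟩ := QuotientGroup.mk'_surjective Z gb
      have hg : g ∉ C := fun h => hgb (Subgroup.mem_map_of_mem _ h)
      have hg' : g⁻¹ ∉ C := fun h => hg (by simpa using C.inv_mem h)
      have hgen := step2 g⁻¹ hg'
      rw [inv_inv] at hgen
      rw [eq_bot_iff]
      rintro u ⟨hu1, hu2⟩
      obtain ⟨c₁, hc₁, rfl⟩ := hu1
      obtain ⟨s, hs, hsu⟩ := (Subgroup.mem_smul_pointwise_iff_exists _ _ _).1 hu2
      obtain ⟨c₂, hc₂, rfl⟩ := hs
      rw [MulAut.smul_def, MulAut.conj_apply] at hsu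
      -- w = g c₂ g⁻¹
      have hw : π (g * c₂ * g⁻¹) = π c₁ := by
        rw [map_mul, map_mul, map_inv]
        exact hsu
      have hwC : g * c₂ * g⁻¹ ∈ C := by
        apply hmemCb
        rw [hw]
        exact Subgroup.mem_map_of_mem _ hc₁
      have hwZ : g * c₂ * g⁻¹ ∈ Z := by
        rw [hZ, Subgroup.mem_center_iff]
        have hle : Subgroup.closure ({x, g * x * g⁻¹} : Set G) ≤
            Subgroup.centralizer ({g * c₂ * g⁻¹} : Set G) := by
          rw [Subgroup.closure_le]
          rintro y hy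
          rcases hy with rfl | rfl
          · rw [SetLike.mem_coe, Subgroup.mem_centralizer_singleton_iff]
            rw [hC, Subgroup.mem_centralizer_singleton_iff] at hwC
            exact hwC.symm
          · rw [SetLike.mem_coe, Subgroup.mem_centralizer_singleton_iff]
            have hc₂' : c₂ ∈ C := hc₂
            rw [hC, Subgroup.mem_centralizer_singleton_iff] at hc₂'
            have hc₂ := hc₂'
            calc g * x * g⁻¹ * (g * c₂ * g⁻¹) = g * (x * c₂) * g⁻¹ := by group
              _ = g * (c₂ * x) * g⁻¹ := by rw [hc₂]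
              _ = g * c₂ * g⁻¹ * (g * x * g⁻¹) := by group
        rw [hgen] at hle
        intro y
        have := hle (Subgroup.mem_top y)
        rw [Subgroup.mem_centralizer_singleton_iff] at this
        exact this
      rw [Subgroup.mem_bot, ← hw]
      rw [← MonoidHom.mem_ker, QuotientGroup.ker_mk']
      exact hwZ
  obtain ⟨N, hN1, hNn, hNc⟩ := Cfsg.Agent.S0035.result Cb hfrob
  obtain ⟨N', hN'1, -, hN'nil⟩ := Cfsg.Agent.S0042.result Cb hfrob
  have hNN' : N' = N := SetLike.coe_injective (by rw [hN1, hN'1])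
  rw [hNN'] at hN'nil
  haveI := hNn
  -- K = preimage of N
  set K := N.comap π with hK
  haveI hKn : K.Normal := Subgroup.Normal.comap hNn π
  haveI hKnil : Group.IsNilpotent K := by
    haveI := hN'nil
    apply Subgroup.isNilpotent_of_ker_le_center (π.subgroupComap N)
    intro k hk
    rw [MonoidHom.mem_ker] at hk
    have h5 : π (k : G) = 1 := by
      have := congrArg Subtype.val hk
      exact this
    have h6 : (k : G) ∈ Z := by
      have h7 : (k : G) ∈ (QuotientGroup.mk' Z).ker := h5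
      rwa [QuotientGroup.ker_mk'] at h7
    rw [Subgroup.mem_center_iff]
    intro y
    apply Subtype.ext
    have := Subgroup.mem_center_iff.1 h6 (y : G)
    simpa using this
  -- K ≤ C
  have hKC : K ≤ C := by
    have htop : (C.subgroupOf K) = ⊤ := by
      apply Cfsg.Agent.Lib.Helper7.eq_top_of_forall_sylow_le
      intro q hq
      obtain ⟨Qs⟩ : Nonempty (Sylow q K) := inferInstance
      refine ⟨Qs, ?_⟩
      haveI : (Qs : Subgroup K).Normal := inferInstance
      haveI : (Qs : Subgroup K).Characteristic := Sylow.characteristic_of_normal Qs inferInstance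
      haveI hQn : ((Qs : Subgroup K).map K.subtype).Normal :=
        ConjAct.normal_of_characteristic_of_normal
      intro u hu
      rw [Subgroup.mem_subgroupOf]
      have huQ : (u : G) ∈ (Qs : Subgroup K).map K.subtype := ⟨u, hu, rfl⟩
      by_cases hqp : q = p
      · subst hqp
        have hpg : IsPGroup q ((Qs : Subgroup K).map K.subtype) := Qs.isPGroup'.map _
        exact hSC (hpg.le_sylow_of_normal S huQ)
      · have hcard : Nat.card ((Qs : Subgroup K).map K.subtype) = Nat.card (Qs : Subgroup K) :=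
          Subgroup.card_map_of_injective K.subtype_injective
        obtain ⟨a, ha⟩ := IsPGroup.iff_card.1 Qs.isPGroup'
        have hcop : (Nat.card ((Qs : Subgroup K).map K.subtype)).Coprime p := by
          rw [hcard, ha]
          exact Nat.Coprime.pow_left a ((Nat.coprime_primes hq.out Fact.out).2 hqp)
        have h5 := h3 _ hcop (fun h hh => hQn.conj_mem h hh x) (u : G) huQ
        rw [hC, Subgroup.mem_centralizer_singleton_iff]
        exact h5.symm
    intro k hk
    have : (⟨k, hk⟩ : K) ∈ C.subgroupOf K := by rw [htop]; exact Subgroup.mem_top _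
    exact Subgroup.mem_subgroupOf.1 this
  -- N ≤ Cb
  have hNCb : N ≤ Cb := by
    intro nb hnb
    obtain ⟨k, rfl⟩ := QuotientGroup.mk'_surjective Z nb
    have hkK : k ∈ K := hnb
    exact Subgroup.mem_map_of_mem _ (hKC hkK)
  have hsup := hNc.sup_eq_top
  rw [sup_eq_right.2 hNCb] at hsup
  exact hfrob.2.1 hsup

theorem result {G : Type*} [Group G] [Finite G] {p : ℕ} [Fact p.Prime]
    (S : Sylow p G) (x : G) (hx : x ∈ S)
    (hU : ∀ g : G, g⁻¹ * x * g ∈ S → g⁻¹ * x * g = x)
    (hb : ∀ H : Subgroup G, (Nat.card H).Coprime p → (∀ h ∈ H, x * h * x⁻¹ ∈ H) → ∀ h ∈ H, x * h = h * x) :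
    x ∈ Subgroup.center G := by
  apply main (p := p) _ G x rfl
  refine ⟨⟨S, hx⟩, ?_, hb⟩
  intro S' hxS' g hg
  obtain ⟨c, hc⟩ := MulAction.exists_smul_eq G S S'
  have hmem : ∀ y : G, y ∈ S' → c⁻¹ * y * c ∈ S := by
    intro y hy
    rw [← hc] at hy
    change y ∈ ((c • S : Sylow p G) : Subgroup G) at hy
    rw [Sylow.coe_subgroup_smul] at hy
    obtain ⟨s, hs, rfl⟩ := (Subgroup.mem_smul_pointwise_iff_exists _ _ _).1 hy
    rw [MulAut.smul_def, MulAut.conj_apply]
    have : c⁻¹ * (c * s * c⁻¹) * c = s := by group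
    rw [this]
    exact hs
  have h1 := hU c (hmem x hxS')
  have h2 : (g * c)⁻¹ * x * (g * c) = x := by
    apply hU
    have := hmem _ hg
    have h3 : (g * c)⁻¹ * x * (g * c) = c⁻¹ * (g⁻¹ * x * g) * c := by group
    rw [h3]
    exact this
  have h4 : g⁻¹ * x * g = c * ((g * c)⁻¹ * x * (g * c)) * c⁻¹ := by group
  rw [h4, h2]
  calc c * x * c⁻¹ = c * (c⁻¹ * x * c) * c⁻¹ := by rw [h1]
    _ = x := by group

end Cfsg.Agent.S3064
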