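import Mathlib
import Cfsg.Statements.S3075

set_option autoImplicit false
open Cfsg

namespace Cfsg.Agent.S3075

section Mat

open Matrix

variable (F : Type*) [Field F]

/-- upper unitriangular transvection -/
def uu : Matrix.SpecialLinearGroup (Fin 2) F := ⟨!![1,1;0,1], by simp [Matrix.det_fin_two]⟩
/-- lower unitriangular transvection -/
def vv : Matrix.SpecialLinearGroup (Fin 2) F := ⟨!![1,0;-1,1], by simp [Matrix.det_fin_two]⟩

lemma uu_pow (k : ℕ) : ((uu F)^k).1 = !![1,(k:F);0,1] := by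
  induction k with
  | zero => 
    ext i j; fin_cases i <;> fin_cases j <;> simp
  | succ k ih =>
    rw [pow_succ, Matrix.SpecialLinearGroup.coe_mul, ih]
    ext i j; fin_cases i <;> fin_cases j <;> simp [uu, Matrix.mul_apply, Fin.sum_univ_two]
    ring

lemma vv_pow (k : ℕ) : ((vv F)^k).1 = !![1,0;-(k:F),1] := by
  induction k with
  | zero => 
    ext i j; fin_cases i <;> fin_cases j <;> simp
  | succ k ih =>
    rw [pow_succ, Matrix.SpecialLinearGroup.coe_mul, ih]
    ext i j; fin_cases i <;> fin_cases j <;> simp [vv, Matrix.mul_apply, Fin.sum_univ_two]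
    ring

lemma ww_val : ((uu F * vv F * uu F)^2).1 = !![-1,0;0,-1] := by
  rw [pow_two]
  simp only [Matrix.SpecialLinearGroup.coe_mul]
  ext i j; fin_cases i <;> fin_cases j <;> simp [uu, vv, Matrix.mul_apply, Fin.sum_univ_two]

lemma ww_comm (g : Matrix.SpecialLinearGroup (Fin 2) F) :
    (uu F * vv F * uu F)^2 * g = g * (uu F * vv F * uu F)^2 := by
  apply Subtype.ext
  rw [Matrix.SpecialLinearGroup.coe_mul, Matrix.SpecialLinearGroup.coe_mul, ww_val]
  ext i j; fin_cases i <;> fin_cases j <;> simp [Matrix.mul_apply, Fin.sum_univ_two]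

lemma ww_ne_one (h2 : (2:F) ≠ 0) : (uu F * vv F * uu F)^2 ≠ 1 := by
  intro h
  have h1 := congrArg (fun g : Matrix.SpecialLinearGroup (Fin 2) F => g.1 0 0) h
  simp only [ww_val] at h1
  simp at h1
  apply h2
  have : (2:F) = 1 - (-1) := by ring
  rw [this, h1]; ring

lemma ww_sq : ((uu F * vv F * uu F)^2)^2 = 1 := by
  apply Subtype.ext
  rw [pow_two ((uu F * vv F * uu F)^2), Matrix.SpecialLinearGroup.coe_mul, ww_val]
  ext i j; fin_cases i <;> fin_cases j <;> simp [Matrix.mul_apply, Fin.sum_univ_two]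

end Mat



/-- an element whose `p`-th power centralizes a normal subgroup of order `p` centralizes it -/
theorem centralizes_of_card_prime {N : Type*} [Group N] [Finite N] {p : ℕ} [Fact p.Prime]
    (B : Subgroup N) [B.Normal] (hB : Nat.card B = p) (x : N)
    (hx : ∀ b ∈ B, x ^ p * b = b * x ^ p) : ∀ b ∈ B, x * b = b * x := by
  have hp : p.Prime := Fact.out
  haveI : IsCyclic B := isCyclic_of_prime_card hB
  set ψ : MulAut B := MulAut.conjNormal x with hψ
  have h1 : ψ ^ p = 1 := by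
    rw [hψ, ← map_pow]
    ext b
    rw [MulAut.conjNormal_apply, MulAut.one_apply, hx b b.2]
    group
  have h2 : orderOf ψ ∣ p := orderOf_dvd_of_pow_eq_one h1
  have h3 : orderOf ψ ∣ p - 1 := by
    have := orderOf_dvd_natCard ψ
    rwa [IsCyclic.card_mulAut, hB, Nat.totient_prime hp] at this
  have h4 : orderOf ψ = 1 := by
    have h5 : orderOf ψ ∣ Nat.gcd p (p - 1) := Nat.dvd_gcd h2 h3
    have h6 : Nat.gcd p (p - 1) = 1 := by
      have : Nat.Coprime (p - 1) p := by
        have hh : Nat.Coprime (p - 1) (p - 1 + 1) := by simp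
        rwa [Nat.sub_add_cancel hp.one_lt.le] at hh
      exact this.symm
    rw [h6] at h5
    exact Nat.dvd_one.mp h5
  have h5 : ψ = 1 := orderOf_eq_one_iff.mp h4
  intro b hb
  have h6 := congrArg (fun f : MulAut B => ((f ⟨b, hb⟩ : B) : N)) h5
  simp only [hψ, MulAut.conjNormal_apply, MulAut.one_apply] at h6
  calc x * b = x * b * x⁻¹ * x := by group
    _ = b * x := by rw [h6]

theorem split_aux {N Q : Type*} [Group N] [Finite N] [Group Q] {p : ℕ} [Fact p.Prime] (hp : p ≠ 2)
    (A : Subgroup N) [A.Normal] (hAcomm : ∀ a ∈ A, ∀ b ∈ A, a * b = b * a)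
    (hAcard : Nat.card A = p ^ 2)
    (hAexp : ∀ a ∈ A, a ^ p = 1)
    (hAself : Subgroup.centralizer (A : Set N) = A)
    (φ : N →* Q) (hφ : Function.Surjective φ) (hker : φ.ker = A)
    (u v : Q) (hu : u ^ p = 1) (hv : v ^ p = 1)
    (hw : ∀ g : Q, (u * v * u) ^ 2 * g = g * (u * v * u) ^ 2) (hw1 : (u * v * u) ^ 2 ≠ 1)
    (hw2 : ((u * v * u) ^ 2) ^ 2 = 1) :
    ∃ U : Subgroup N, A ⊓ U = ⊥ ∧ A ⊔ U = ⊤ := by
  have hpp : p.Prime := Fact.out
  have hpodd : Odd p := hpp.odd_of_ne_two hp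
  obtain ⟨x, hx⟩ := hφ u
  obtain ⟨y, hy⟩ := hφ v
  set t : N := (x * y * x) ^ 2 with ht
  have hφt : φ t = (u * v * u) ^ 2 := by
    rw [ht, map_pow, map_mul, map_mul, hx, hy]
  have hmemA : ∀ n : N, n ∈ A ↔ φ n = 1 := by
    intro n; rw [← hker, MonoidHom.mem_ker]
  have hxp : x ^ p ∈ A := by rw [hmemA, map_pow, hx, hu]
  have hyp : y ^ p ∈ A := by rw [hmemA, map_pow, hy, hv]
  have htA : t ∉ A := by rw [hmemA, hφt]; exact hw1
  have ht2 : t ^ 2 ∈ A := by rw [hmemA, map_pow, hφt, hw2]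
  have hconj : ∀ n : N, ∃ c ∈ A, n * t * n⁻¹ = t * c := by
    intro n
    refine ⟨t⁻¹ * (n * t * n⁻¹), ?_, by group⟩
    rw [hmemA]
    simp only [map_mul, map_inv, hφt]
    rw [← hw (φ n)]
    group
  -- the subgroup of `A` inverted by `t`
  let Am : Subgroup N :=
    { carrier := {a | a ∈ A ∧ t * a * t⁻¹ = a⁻¹}
      one_mem' := ⟨A.one_mem, by simp⟩
      mul_mem' := by
        rintro a b ⟨ha, ha'⟩ ⟨hb, hb'⟩
        refine ⟨A.mul_mem ha hb, ?_⟩
        calc t * (a * b) * t⁻¹ = (t * a * t⁻¹) * (t * b * t⁻¹) := by group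
          _ = a⁻¹ * b⁻¹ := by rw [ha', hb']
          _ = (a * b)⁻¹ := by rw [mul_inv_rev, hAcomm _ (A.inv_mem ha) _ (A.inv_mem hb)]
      inv_mem' := by
        rintro a ⟨ha, ha'⟩
        refine ⟨A.inv_mem ha, ?_⟩
        calc t * a⁻¹ * t⁻¹ = (t * a * t⁻¹)⁻¹ := by group
          _ = a⁻¹⁻¹ := by rw [ha'] }
  have hAm_mem : ∀ a, a ∈ Am ↔ a ∈ A ∧ t * a * t⁻¹ = a⁻¹ := fun a => Iff.rfl
  have hAmA : Am ≤ A := fun a ha => ha.1
  haveI hAmN : Am.Normal := by
    constructor
    intro a ha n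
    obtain ⟨haA, hat⟩ := ha
    refine ⟨‹A.Normal›.conj_mem a haA n, ?_⟩
    obtain ⟨c, hc, hnc⟩ := hconj n⁻¹
    rw [inv_inv] at hnc
    have h1 : t * (n * a * n⁻¹) * t⁻¹ = n * ((n⁻¹ * t * n) * a * (n⁻¹ * t * n)⁻¹) * n⁻¹ := by group
    rw [h1, hnc]
    have h2 : t * c * a * (t * c)⁻¹ = t * (c * a * c⁻¹) * t⁻¹ := by group
    rw [h2]
    have h3 : c * a * c⁻¹ = a := by rw [hAcomm c hc a haA]; group
    rw [h3, hat]
    group
  have hdvd : Nat.card Am ∣ p ^ 2 := by
    rw [← hAcard]; exact Subgroup.card_dvd_of_le hAmA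
  obtain ⟨i, hi, hcard⟩ := (Nat.dvd_prime_pow hpp).mp hdvd
  have hsq_one : ∀ a ∈ A, a ^ 2 = 1 → a = 1 := by
    intro a ha h2
    have h3 : orderOf a ∣ Nat.gcd 2 p := Nat.dvd_gcd (orderOf_dvd_of_pow_eq_one h2)
      (orderOf_dvd_of_pow_eq_one (hAexp a ha))
    have h4 : Nat.gcd 2 p = 1 := by
      have : Nat.Coprime 2 p := (Nat.coprime_primes Nat.prime_two hpp).mpr (Ne.symm hp)
      exact this
    rw [h4] at h3
    exact orderOf_eq_one_iff.mp (Nat.dvd_one.mp h3)
  -- `t` inverts all of `A`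
  have hinv : ∀ a ∈ A, t * a * t⁻¹ = a⁻¹ := by
    interval_cases i
    · -- card = 1
      exfalso
      have hbot : Am = ⊥ := Subgroup.card_eq_one.mp (by simpa using hcard)
      apply htA
      rw [← hAself, Subgroup.mem_centralizer_iff]
      intro a ha
      have hb : a * (t * a * t⁻¹)⁻¹ ∈ Am := by
        refine ⟨A.mul_mem ha (A.inv_mem (‹A.Normal›.conj_mem a ha t)), ?_⟩
        have h1 : t * (a * (t * a * t⁻¹)⁻¹) * t⁻¹ = (t * a * t⁻¹) * (t ^ 2 * a⁻¹ * (t ^ 2)⁻¹) := by
          group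
        rw [h1]
        have h2 : t ^ 2 * a⁻¹ * (t ^ 2)⁻¹ = a⁻¹ := by
          rw [hAcomm _ ht2 _ (A.inv_mem ha)]; group
        rw [h2]
        group
      rw [hbot, Subgroup.mem_bot] at hb
      have h3 : a = t * a * t⁻¹ := by
        have := mul_inv_eq_one.mp hb
        exact this
      calc a * t = (t * a * t⁻¹) * t := by rw [← h3]
        _ = t * a := by group
    · -- card = p
      exfalso
      have hcp : Nat.card Am = p := by simpa using hcard
      have hxc := centralizes_of_card_prime Am hcp x (fun b hb => hAcomm _ hxp _ (hAmA hb))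
      have hyc := centralizes_of_card_prime Am hcp y (fun b hb => hAcomm _ hyp _ (hAmA hb))
      have htc : ∀ b ∈ Am, t * b = b * t := by
        intro b hb
        have hx1 := hxc b hb
        have hy1 := hyc b hb
        have hxyx : (x * y * x) * b = b * (x * y * x) := by
          calc (x * y * x) * b = x * y * (x * b) := by group
            _ = x * y * (b * x) := by rw [hx1]
            _ = x * (y * b) * x := by group
            _ = x * (b * y) * x := by rw [hy1]
            _ = (x * b) * y * x := by group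
            _ = (b * x) * y * x := by rw [hx1]
            _ = b * (x * y * x) := by group
        rw [ht, pow_two]
        calc (x * y * x) * (x * y * x) * b = (x * y * x) * ((x * y * x) * b) := by group
          _ = (x * y * x) * (b * (x * y * x)) := by rw [hxyx]
          _ = ((x * y * x) * b) * (x * y * x) := by group
          _ = (b * (x * y * x)) * (x * y * x) := by rw [hxyx]
          _ = b * ((x * y * x) * (x * y * x)) := by group
      have hbot : Am = ⊥ := by
        rw [Subgroup.eq_bot_iff_forall]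
        intro a ha
        apply hsq_one a (hAmA ha)
        have h1 : t * a * t⁻¹ = a⁻¹ := ha.2
        rw [htc a ha] at h1
        have h2 : a = a⁻¹ := by
          calc a = a * t * t⁻¹ := by group
            _ = a⁻¹ := h1
        calc a ^ 2 = a * a := pow_two a
          _ = a * a⁻¹ := by rw [← h2]
          _ = 1 := mul_inv_cancel a
      have : Nat.card Am = 1 := by rw [hbot]; exact Subgroup.card_bot
      rw [hcp] at this
      exact hpp.one_lt.ne' this
    · -- card = p ^ 2
      have hAmeq : Am = A := Subgroup.eq_of_le_of_card_ge hAmA (by rw [hcard, hAcard])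
      intro a ha
      rw [← hAmeq] at ha
      exact ha.2
  have hinv' : ∀ a ∈ A, t⁻¹ * a * t = a⁻¹ := by
    intro a ha
    have h1 := hinv (t⁻¹ * a * t) (by
      have := ‹A.Normal›.conj_mem a ha t⁻¹
      rwa [inv_inv] at this)
    have h2 : t * (t⁻¹ * a * t) * t⁻¹ = a := by group
    rw [h2] at h1
    have h3 : (t⁻¹ * a * t)⁻¹⁻¹ = a⁻¹ := by rw [← h1]
    rwa [inv_inv] at h3
  refine ⟨Subgroup.centralizer ({t} : Set N), ?_, ?_⟩
  · rw [Subgroup.eq_bot_iff_forall]
    intro a ha
    obtain ⟨haA, haC⟩ := Subgroup.mem_inf.mp ha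
    rw [Subgroup.mem_centralizer_iff] at haC
    have h1 : t * a = a * t := haC t rfl
    apply hsq_one a haA
    have h2 := hinv a haA
    rw [h1] at h2
    have h3 : a = a⁻¹ := by
      calc a = a * t * t⁻¹ := by group
        _ = a⁻¹ := h2
    calc a ^ 2 = a * a := pow_two a
      _ = a * a⁻¹ := by rw [← h3]
      _ = 1 := mul_inv_cancel a
  · rw [eq_top_iff]
    intro n _
    obtain ⟨c, hc, hnc⟩ := hconj n
    obtain ⟨k, hk⟩ := hpodd
    set b : N := (c ^ (k + 1))⁻¹ with hb
    have hbA : b ∈ A := A.inv_mem (A.pow_mem hc _)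
    have hbt : b * t * b⁻¹ = t * c := by
      have h1 : b * t * b⁻¹ = t * (t⁻¹ * b * t) * b⁻¹ := by group
      rw [h1, hinv' b hbA, hb, inv_inv, mul_assoc, ← pow_add]
      have h2 : k + 1 + (k + 1) = p + 1 := by omega
      rw [h2, pow_succ, hAexp c hc, one_mul]
    have hmem : b⁻¹ * n ∈ Subgroup.centralizer ({t} : Set N) := by
      rw [Subgroup.mem_centralizer_iff]
      intro s hs
      rw [Set.mem_singleton_iff] at hs
      subst hs
      calc t * (b⁻¹ * n) = b⁻¹ * (b * t * b⁻¹) * b * b⁻¹ * n := by group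
        _ = b⁻¹ * (n * t * n⁻¹) * b * b⁻¹ * n := by rw [hbt, hnc]
        _ = b⁻¹ * n * t := by group
    have : n = b * (b⁻¹ * n) := by group
    rw [this]
    exact Subgroup.mul_mem_sup hbA hmem


theorem result {N : Type*} [Group N] [Finite N] {p : ℕ} [Fact p.Prime] (hp : p ≠ 2)
    (A : Subgroup N) [A.Normal] (hAcomm : IsMulCommutative A) (hAcard : Nat.card A = p ^ 2) (hAexp : Monoid.exponent ↥A = p)
    (hAself : Subgroup.centralizer (A : Set N) = A)
    {F : Type*} [Field F] [Fintype F] (hF : Fintype.card F = p) (e : N ⧸ A ≃* Matrix.SpecialLinearGroup (Fin 2) F) :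
    ∃ U : Subgroup N, A ⊓ U = ⊥ ∧ A ⊔ U = ⊤ := by
  have hpp : p.Prime := Fact.out
  haveI : CharP F p := charP_of_card_eq_prime hF
  have h2 : (2 : F) ≠ 0 := by
    intro h
    have h3 : ((2:ℕ) : F) = 0 := by exact_mod_cast h
    rw [CharP.cast_eq_zero_iff F p] at h3
    exact hp ((Nat.prime_dvd_prime_iff_eq hpp Nat.prime_two).mp h3)
  have hp0 : ((p : ℕ) : F) = 0 := CharP.cast_eq_zero F p
  let φ : N →* Matrix.SpecialLinearGroup (Fin 2) F := e.toMonoidHom.comp (QuotientGroup.mk' A)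
  have hφ : Function.Surjective φ := e.surjective.comp (QuotientGroup.mk'_surjective A)
  have hker : φ.ker = A := by
    ext n
    rw [MonoidHom.mem_ker]
    show e (QuotientGroup.mk' A n) = 1 ↔ n ∈ A
    rw [MulEquiv.map_eq_one_iff, QuotientGroup.mk'_apply, QuotientGroup.eq_one_iff]
  have hcomm : ∀ a ∈ A, ∀ b ∈ A, a * b = b * a := by
    intro a ha b hb
    have h := hAcomm.is_comm.comm (⟨a, ha⟩ : A) ⟨b, hb⟩
    exact congrArg Subtype.val h
  have hexp : ∀ a ∈ A, a ^ p = 1 := by
    intro a ha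
    have h := Monoid.pow_exponent_eq_one (⟨a, ha⟩ : A)
    rw [hAexp] at h
    exact congrArg Subtype.val h
  have hu : (uu F) ^ p = 1 := by
    apply Subtype.ext
    rw [uu_pow, hp0]
    ext i j; fin_cases i <;> fin_cases j <;> simp
  have hv : (vv F) ^ p = 1 := by
    apply Subtype.ext
    rw [vv_pow, hp0]
    ext i j; fin_cases i <;> fin_cases j <;> simp
  exact split_aux hp A hcomm hAcard hexp hAself φ hφ hker (uu F) (vv F) hu hv (ww_comm F)
    (ww_ne_one F h2) (ww_sq F)

end Cfsg.Agent.S3075
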