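import Mathlib
import Cfsg.Statements.S3076
import Cfsg.Agent.Lib.Helper3.SylPre

set_option autoImplicit false
set_option linter.style.haveILetI false
open Cfsg
open Cfsg.Agent.Lib.Helper3
open scoped commutatorElement

namespace Cfsg.Agent.S3076

/-- Let P be a Sylow p-subgroup of the finite group G and H ≤ P a subgroup with N_P(H) a Sylow p-subgroup of N_G(H). Let N be the preimage in N_G(H) of O_p(N_G(H)/C_G(H)). Then H is a Sylow p-subgroup of N if and only if C_P(H) ≤ H and O_{p',p}(N_G(H)) = H·C_G(H). -/
theorem result {G : Type*} [Group G] [Finite G] {p : ℕ} [Fact p.Prime]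
    (P : Sylow p G) (H : Subgroup G) (hHP : H ≤ (P : Subgroup G))
    (hSyl : ¬ p ∣ ((P : Subgroup G) ⊓ Subgroup.normalizer (H : Set G)).relIndex (Subgroup.normalizer (H : Set G)))
    [hC : ((Subgroup.centralizer (H : Set G)).subgroupOf (Subgroup.normalizer (H : Set G))).Normal] :
    (H ≤ ((Cfsg.pCore p (↥(Subgroup.normalizer (H : Set G)) ⧸
              (Subgroup.centralizer (H : Set G)).subgroupOf (Subgroup.normalizer (H : Set G)))).comap
            (QuotientGroup.mk' _)).map (Subgroup.normalizer (H : Set G)).subtype ∧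
      ¬ p ∣ H.relIndex (((Cfsg.pCore p (↥(Subgroup.normalizer (H : Set G)) ⧸
              (Subgroup.centralizer (H : Set G)).subgroupOf (Subgroup.normalizer (H : Set G)))).comap
            (QuotientGroup.mk' _)).map (Subgroup.normalizer (H : Set G)).subtype)) ↔
    ((P : Subgroup G) ⊓ Subgroup.centralizer (H : Set G) ≤ H ∧
      (Cfsg.pPrimePCore p ↥(Subgroup.normalizer (H : Set G))).map (Subgroup.normalizer (H : Set G)).subtype =
        H ⊔ Subgroup.centralizer (H : Set G)) := by
  have hp := (Fact.out : p.Prime)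
  obtain ⟨M, hMdef⟩ : ∃ M : Subgroup G, M = Subgroup.normalizer (H : Set G) := ⟨_, rfl⟩
  have hHM : H ≤ Subgroup.normalizer (H : Set G) := Subgroup.le_normalizer
  have hCM : Subgroup.centralizer (H : Set G) ≤ Subgroup.normalizer (H : Set G) :=
    Subgroup.centralizer_le_normalizer _
  have hHp : IsPGroup p H := P.isPGroup'.to_le hHP
  haveI hHMn : (H.subgroupOf (Subgroup.normalizer (H : Set G))).Normal := Subgroup.normal_in_normalizer
  have hHMp : IsPGroup p (H.subgroupOf (Subgroup.normalizer (H : Set G))) := hHp.comap_subtype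
  have hQp : IsPGroup p ((P : Subgroup G).subgroupOf (Subgroup.normalizer (H : Set G))) :=
    P.isPGroup'.comap_subtype
  have hQidx : ¬ p ∣ ((P : Subgroup G).subgroupOf (Subgroup.normalizer (H : Set G))).index := by
    rw [Subgroup.inf_relIndex_right] at hSyl
    exact hSyl
  have hHQ : H.subgroupOf (Subgroup.normalizer (H : Set G)) ≤
      (P : Subgroup G).subgroupOf (Subgroup.normalizer (H : Set G)) :=
    fun x hx => Subgroup.mem_subgroupOf.mpr (hHP (Subgroup.mem_subgroupOf.mp hx))
  have hCeq : (Subgroup.centralizer (H : Set G)).subgroupOf (Subgroup.normalizer (H : Set G)) =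
      Subgroup.centralizer ((H.subgroupOf (Subgroup.normalizer (H : Set G)) : Subgroup _) : Set _) := by
    ext x
    rw [Subgroup.mem_subgroupOf, Subgroup.mem_centralizer_iff, Subgroup.mem_centralizer_iff]
    constructor
    · intro h y hy
      apply Subtype.ext
      exact h y.1 (Subgroup.mem_subgroupOf.mp hy)
    · intro h y hy
      have := h ⟨y, hHM hy⟩ (Subgroup.mem_subgroupOf.mpr hy)
      exact congrArg Subtype.val this
  have key := sylow_preimage_iff (p := p) (H.subgroupOf (Subgroup.normalizer (H : Set G))) hHMp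
    ((P : Subgroup G).subgroupOf (Subgroup.normalizer (H : Set G))) hQp hQidx hHQ
    ((Subgroup.centralizer (H : Set G)).subgroupOf (Subgroup.normalizer (H : Set G))) hCeq
  have hHN' := le_comap_pCore_quot (p := p)
    ((Subgroup.centralizer (H : Set G)).subgroupOf (Subgroup.normalizer (H : Set G)))
    (H.subgroupOf (Subgroup.normalizer (H : Set G))) hHMp
  have hmapH : (H.subgroupOf (Subgroup.normalizer (H : Set G))).map
      (Subgroup.normalizer (H : Set G)).subtype = H := Subgroup.map_subgroupOf_eq_of_le hHM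
  have hmapC : ((Subgroup.centralizer (H : Set G)).subgroupOf (Subgroup.normalizer (H : Set G))).map
      (Subgroup.normalizer (H : Set G)).subtype = Subgroup.centralizer (H : Set G) :=
    Subgroup.map_subgroupOf_eq_of_le hCM
  have hmapsup : (H.subgroupOf (Subgroup.normalizer (H : Set G)) ⊔
      (Subgroup.centralizer (H : Set G)).subgroupOf (Subgroup.normalizer (H : Set G))).map
      (Subgroup.normalizer (H : Set G)).subtype = H ⊔ Subgroup.centralizer (H : Set G) := by
    rw [Subgroup.map_sup, hmapH, hmapC]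
  have hrel : ∀ N' : Subgroup ↥(Subgroup.normalizer (H : Set G)),
      H.relIndex (N'.map (Subgroup.normalizer (H : Set G)).subtype) =
        (H.subgroupOf (Subgroup.normalizer (H : Set G))).relIndex N' := by
    intro N'
    have := Subgroup.relIndex_map_map_of_injective
      (H.subgroupOf (Subgroup.normalizer (H : Set G))) N'
      (Subgroup.subtype_injective (Subgroup.normalizer (H : Set G)))
    rw [hmapH] at this
    exact this
  have hiff : ((P : Subgroup G) ⊓ Subgroup.centralizer (H : Set G) ≤ H) ↔
      ((P : Subgroup G).subgroupOf (Subgroup.normalizer (H : Set G)) ⊓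
        (Subgroup.centralizer (H : Set G)).subgroupOf (Subgroup.normalizer (H : Set G)) ≤
        H.subgroupOf (Subgroup.normalizer (H : Set G))) := by
    constructor
    · intro h x hx
      obtain ⟨h1, h2⟩ := Subgroup.mem_inf.mp hx
      exact Subgroup.mem_subgroupOf.mpr (h (Subgroup.mem_inf.mpr
        ⟨Subgroup.mem_subgroupOf.mp h1, Subgroup.mem_subgroupOf.mp h2⟩))
    · intro h x hx
      obtain ⟨h1, h2⟩ := Subgroup.mem_inf.mp hx
      have := h (x := ⟨x, hCM h2⟩) (Subgroup.mem_inf.mpr
        ⟨Subgroup.mem_subgroupOf.mpr h1, Subgroup.mem_subgroupOf.mpr h2⟩)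
      exact Subgroup.mem_subgroupOf.mp this
  constructor
  · rintro ⟨_, h2⟩
    rw [hrel] at h2
    obtain ⟨h3, h4⟩ := key.mp h2
    refine ⟨hiff.mpr h3, ?_⟩
    rw [h4, hmapsup]
  · rintro ⟨h1, h2⟩
    have h4 : Cfsg.pPrimePCore p ↥(Subgroup.normalizer (H : Set G)) =
        H.subgroupOf (Subgroup.normalizer (H : Set G)) ⊔
        (Subgroup.centralizer (H : Set G)).subgroupOf (Subgroup.normalizer (H : Set G)) := by
      apply Subgroup.map_injective (Subgroup.subtype_injective (Subgroup.normalizer (H : Set G)))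
      rw [h2, hmapsup]
    have h5 := key.mpr ⟨hiff.mp h1, h4⟩
    refine ⟨?_, ?_⟩
    · intro x hx
      exact Subgroup.mem_map.mpr ⟨⟨x, hHM hx⟩, hHN' (Subgroup.mem_subgroupOf.mpr hx), rfl⟩
    · rw [hrel]; exact h5

end Cfsg.Agent.S3076
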