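import Cfsg.Statements.S3087

set_option autoImplicit false
open Cfsg

namespace Cfsg.Agent.S3087

theorem result {G V : Type*} [Group G] [Finite G] [AddCommGroup V] [Finite V] (p : ℕ) [Fact p.Prime] [Module (ZMod p) V]
    (ρ : Representation (ZMod p) G V) (W : Submodule (ZMod p) V) (hW : ∀ g : G, ∀ w ∈ W, ρ g w ∈ W)
    (A : Subgroup G)
    (hP : ∀ B : Subgroup G, B ≤ A →
      Nat.card ↥B * Nat.card {v : V // ∀ b ∈ B, ρ b v = v} ≤ Nat.card ↥A * Nat.card {v : V // ∀ a ∈ A, ρ a v = v})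
    (B : Subgroup G) (hBA : B ≤ A) (hCB : ∀ a ∈ A, (∀ w ∈ W, ρ a w = w) → a ∈ B) :
    Nat.card ↥B * Nat.card {w : W // ∀ b ∈ B, ρ b w = w} ≤ Nat.card ↥A * Nat.card {w : W // ∀ a ∈ A, ρ a w = w} := by
  classical
  -- abbreviations for the fixed-point sets
  have key : Nat.card {w : W // ∀ b ∈ B, ρ b w = w} * Nat.card {v : V // ∀ a ∈ A, ρ a v = v} ≤
      Nat.card {v : V // ∀ b ∈ B, ρ b v = v} * Nat.card {w : W // ∀ a ∈ A, ρ a w = w} := by
    haveI : Fintype {w : W // ∀ b ∈ B, ρ b w = w} := Fintype.ofFinite _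
    haveI : Fintype {v : V // ∀ a ∈ A, ρ a v = v} := Fintype.ofFinite _
    haveI : Fintype {v : V // ∀ b ∈ B, ρ b v = v} := Fintype.ofFinite _
    haveI : Fintype {w : W // ∀ a ∈ A, ρ a w = w} := Fintype.ofFinite _
    let f : {w : W // ∀ b ∈ B, ρ b w = w} × {v : V // ∀ a ∈ A, ρ a v = v} → {v : V // ∀ b ∈ B, ρ b v = v} :=
      fun x => ⟨(x.1.1 : V) + x.2.1, fun b hb => by
        rw [map_add, x.1.2 b hb, x.2.2 b (hBA hb)]⟩
    have h1 := Finset.card_le_mul_card_image (f := f)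
      (Finset.univ : Finset ({w : W // ∀ b ∈ B, ρ b w = w} × {v : V // ∀ a ∈ A, ρ a v = v}))
      (Fintype.card {w : W // ∀ a ∈ A, ρ a w = w}) (by
      intro z hz
      obtain ⟨x₀, _, h0⟩ := Finset.mem_image.mp hz
      have hdiff : ∀ x ∈ Finset.univ.filter (fun x => f x = z),
          ((x.1.1 : V) - (x₀.1.1 : V)) = (x₀.2.1 : V) - (x.2.1 : V) := by
        intro x hx
        have hx' := (Finset.mem_filter.mp hx).2
        have e1 : (x.1.1 : V) + x.2.1 = (x₀.1.1 : V) + x₀.2.1 :=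
          congrArg Subtype.val (hx'.trans h0.symm)
        have : (x.1.1 : V) = (x₀.1.1 : V) + x₀.2.1 - x.2.1 := by rw [← e1]; abel
        rw [this]; abel
      let g : ({w : W // ∀ b ∈ B, ρ b w = w} × {v : V // ∀ a ∈ A, ρ a v = v}) →
          {w : W // ∀ a ∈ A, ρ a w = w} := fun x =>
        if h : ∀ a ∈ A, ρ a ((x.1.1 - x₀.1.1 : W) : V) = ((x.1.1 - x₀.1.1 : W) : V) then
          ⟨x.1.1 - x₀.1.1, h⟩ else ⟨0, fun a _ => by simp⟩
      have hfix : ∀ x ∈ Finset.univ.filter (fun x => f x = z),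
          ∀ a ∈ A, ρ a ((x.1.1 - x₀.1.1 : W) : V) = ((x.1.1 - x₀.1.1 : W) : V) := by
        intro x hx a ha
        have e := hdiff x hx
        have e' : ((x.1.1 - x₀.1.1 : W) : V) = (x₀.2.1 : V) - (x.2.1 : V) := by
          rw [← e]; rfl
        rw [e', map_sub, x₀.2.2 a ha, x.2.2 a ha]
      have hcard := Finset.card_le_card_of_injOn g (s := Finset.univ.filter (fun x => f x = z))
        (t := Finset.univ) (fun _ _ => Finset.mem_univ _) (by
          intro x hx x' hx' hg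
          have h1 := hfix x hx
          have h1' := hfix x' hx'
          simp only [g, dif_pos h1, dif_pos h1'] at hg
          have e1 : x.1.1 - x₀.1.1 = x'.1.1 - x₀.1.1 := congrArg Subtype.val hg
          have e2 : x.1.1 = x'.1.1 := sub_left_injective e1
          have e3 : x.1 = x'.1 := Subtype.ext e2
          have hxz := (Finset.mem_filter.mp hx).2
          have hxz' := (Finset.mem_filter.mp hx').2
          have e4 : (x.1.1 : V) + x.2.1 = (x'.1.1 : V) + x'.2.1 :=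
            congrArg Subtype.val (hxz.trans hxz'.symm)
          rw [e2] at e4
          have e5 : (x.2.1 : V) = x'.2.1 := add_left_cancel e4
          exact Prod.ext e3 (Subtype.ext e5))
      simpa using hcard)
    have h2 : (Finset.univ.image f).card ≤ Fintype.card {v : V // ∀ b ∈ B, ρ b v = v} :=
      Finset.card_le_univ _
    simp only [Nat.card_eq_fintype_card]
    calc Fintype.card {w : W // ∀ b ∈ B, ρ b w = w} * Fintype.card {v : V // ∀ a ∈ A, ρ a v = v}
        = (Finset.univ : Finset ({w : W // ∀ b ∈ B, ρ b w = w} × {v : V // ∀ a ∈ A, ρ a v = v})).card := by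
          rw [Finset.card_univ, Fintype.card_prod]
      _ ≤ Fintype.card {w : W // ∀ a ∈ A, ρ a w = w} * (Finset.univ.image f).card := h1
      _ ≤ Fintype.card {w : W // ∀ a ∈ A, ρ a w = w} * Fintype.card {v : V // ∀ b ∈ B, ρ b v = v} :=
          Nat.mul_le_mul_left _ h2
      _ = _ := mul_comm _ _
  have hPB := hP B hBA
  have hpos : 0 < Nat.card {v : V // ∀ a ∈ A, ρ a v = v} := by
    haveI : Nonempty {v : V // ∀ a ∈ A, ρ a v = v} := ⟨⟨0, fun a _ => by simp⟩⟩
    exact Nat.card_pos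
  have h3 : Nat.card ↥B * Nat.card {w : W // ∀ b ∈ B, ρ b w = w} * Nat.card {v : V // ∀ a ∈ A, ρ a v = v} ≤
      Nat.card ↥A * Nat.card {w : W // ∀ a ∈ A, ρ a w = w} * Nat.card {v : V // ∀ a ∈ A, ρ a v = v} := by
    calc Nat.card ↥B * Nat.card {w : W // ∀ b ∈ B, ρ b w = w} * Nat.card {v : V // ∀ a ∈ A, ρ a v = v}
        = Nat.card ↥B * (Nat.card {w : W // ∀ b ∈ B, ρ b w = w} * Nat.card {v : V // ∀ a ∈ A, ρ a v = v}) := by ring
      _ ≤ Nat.card ↥B * (Nat.card {v : V // ∀ b ∈ B, ρ b v = v} * Nat.card {w : W // ∀ a ∈ A, ρ a w = w}) :=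
          Nat.mul_le_mul_left _ key
      _ = (Nat.card ↥B * Nat.card {v : V // ∀ b ∈ B, ρ b v = v}) * Nat.card {w : W // ∀ a ∈ A, ρ a w = w} := by ring
      _ ≤ (Nat.card ↥A * Nat.card {v : V // ∀ a ∈ A, ρ a v = v}) * Nat.card {w : W // ∀ a ∈ A, ρ a w = w} :=
          Nat.mul_le_mul_right _ hPB
      _ = _ := by ring
  exact Nat.le_of_mul_le_mul_right h3 hpos

end Cfsg.Agent.S3087
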