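import Cfsg.Statements.S3116
import Mathlib
import Cfsg.Agent.Lib.Helper6.AutTwo
import Cfsg.Agent.Lib.Helper6.MaxClass2c
import Cfsg.Agent.Lib.Helper6.QuatRec

set_option autoImplicit false
open Cfsg Cfsg.Agent.Lib.Helper6

namespace Cfsg.Agent.S3116


theorem orderOf_le_of_pow_eq_one {X : Type*} [Group X] (x : X) (m : ℕ) (hm : 0 < m)
    (h : x ^ m = 1) : orderOf x ≤ m :=
  Nat.le_of_dvd hm (orderOf_dvd_of_pow_eq_one h)

theorem main3116 {X : Type*} [Group X] [Finite X] (h2 : IsPGroup 2 X)
    (h : (∃ n : ℕ, 4 ≤ n ∧ Nonempty (X ≃* DihedralGroup n)) ∨ Cfsg.IsQuasiDihedral X) :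
    IsPGroup 2 (MulAut X) := by
  rcases h with ⟨n, hn, ⟨e⟩⟩ | ⟨n, hn, hcard, x, y, hx, hy, hxy⟩
  · haveI : NeZero n := ⟨by omega⟩
    have ha : orderOf (e.symm (DihedralGroup.r 1)) = n := by
      rw [MulEquiv.orderOf_eq, DihedralGroup.orderOf_r_one]
    have hcard : Nat.card X = 2 * n := by
      rw [Nat.card_congr e.toEquiv, DihedralGroup.nat_card]
    have hidx : (Subgroup.zpowers (e.symm (DihedralGroup.r 1))).index = 2 := by
      have h1 := Subgroup.card_mul_index (Subgroup.zpowers (e.symm (DihedralGroup.r 1)))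
      rw [Nat.card_zpowers, ha, hcard, mul_comm 2 n] at h1
      exact Nat.eq_of_mul_eq_mul_left (by omega) h1
    apply isPGroup_mulAut_of_char_cyclic h2 _ hidx
    intro w hw
    rw [ha] at hw
    have hw' : orderOf (e w) = n := by rw [MulEquiv.orderOf_eq]; exact hw
    rcases hew : e w with i | i
    · have h3 : w = e.symm (DihedralGroup.r 1) ^ i.val := by
        rw [← map_pow, DihedralGroup.r_one_pow, ZMod.natCast_zmod_val, ← hew, e.symm_apply_apply]
      rw [h3]
      exact Subgroup.pow_mem _ (Subgroup.mem_zpowers _) _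
    · exfalso
      rw [hew, DihedralGroup.orderOf_sr] at hw'
      omega
  · have hy2 : y ^ 2 = 1 := by rw [← hy]; exact pow_orderOf_eq_one y
    have hidx : (Subgroup.zpowers x).index = 2 := by
      have h1 := Subgroup.card_mul_index (Subgroup.zpowers x)
      rw [Nat.card_zpowers, hx, hcard, pow_succ] at h1
      exact Nat.eq_of_mul_eq_mul_left (by positivity) h1
    have hyx : y ∉ Subgroup.zpowers x := by
      intro hmem
      obtain ⟨k, hk⟩ := Subgroup.mem_zpowers_iff.1 hmem
      have hcomm : y * x = x * y := by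
        rw [← hk]; exact ((Commute.refl x).zpow_left k).eq
      have h3 : x = x ^ (2 ^ (n - 1) - 1) := by
        rw [← hxy, hcomm]; group
      have h4 : x ^ (2 ^ (n - 1) - 2) = 1 := by
        have h5 : 2 ≤ 2 ^ (n - 1) := by
          calc 2 = 2 ^ 1 := rfl
            _ ≤ 2 ^ (n - 1) := Nat.pow_le_pow_right (by norm_num) (by omega)
        have : x ^ (2 ^ (n - 1) - 1) = x ^ (2 ^ (n - 1) - 2) * x := by
          rw [← pow_succ]; congr 1; omega
        rw [this] at h3
        exact (mul_eq_right.1 h3.symm)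
      have h6 := orderOf_dvd_of_pow_eq_one h4
      rw [hx] at h6
      have h7 : 2 ^ 2 ≤ 2 ^ (n - 1) := Nat.pow_le_pow_right (by norm_num) (by omega)
      have h8 : 2 ^ n = 2 * 2 ^ (n - 1) := by rw [← pow_succ']; congr 1; omega
      have h9 := Nat.le_of_dvd (by omega) h6
      omega
    have hx2N : x ^ (2 * 2 ^ (n - 1)) = 1 := by
      have : 2 * 2 ^ (n - 1) = 2 ^ n := by rw [← pow_succ']; congr 1; omega
      rw [this, ← hx]; exact pow_orderOf_eq_one x
    apply isPGroup_mulAut_of_char_cyclic h2 x hidx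
    intro w hw
    by_contra hwx
    obtain ⟨k, rfl⟩ := exists_eq_mul_zpow_of_index_two x y hidx hyx w hwx
    have h3 := orderOf_le_of_pow_eq_one _ 4 (by norm_num)
      (pow_four_eq_one_of_semidihedral_rel x y _ Nat.one_le_two_pow hx2N hy2 hxy k)
    rw [hw, hx] at h3
    have : 2 ^ 3 ≤ 2 ^ n := Nat.pow_le_pow_right (by norm_num) hn
    omega



/-- The automorphism group of a dihedral 2-group of order at least 8, or of a quasi-dihedral (semidihedral) 2-group of order at least 16, is a 2-group. -/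
theorem result {X : Type*} [Group X] [Finite X] (h2 : IsPGroup 2 X)
    (h : (∃ n : ℕ, 4 ≤ n ∧ Nonempty (X ≃* DihedralGroup n)) ∨ Cfsg.IsQuasiDihedral X) : IsPGroup 2 (MulAut X) := by
  exact main3116 h2 h

end Cfsg.Agent.S3116
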