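import Cfsg.Statements.S3163

set_option autoImplicit false
open Cfsg

namespace Cfsg.Agent.S3163

/-- Let S be a non-abelian finite 2-group which is the product S = AB of two elementary abelian subgroups A and B, and suppose that the centralizer in S of every element of A outside B is exactly A. Then the centralizer of every element of B outside A is exactly B; A and B are maximal elementary abelian subgroups of S and the only ones; the centre of S is A ∩ B; and every element of S outside A ∪ B has centralizer of order at most min(|A|, |B|). -/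
theorem result {S : Type*} [Group S] [Finite S] (hS : IsPGroup 2 S) (hna : ¬ IsMulCommutative S) (A B : Subgroup S)
    (hA : Cfsg.IsElementaryAbelian 2 A) (hB : Cfsg.IsElementaryAbelian 2 B) (hAB : ∀ s : S, ∃ a ∈ A, ∃ b ∈ B, s = a * b)
    (hC : ∀ a ∈ A, a ∉ B → Subgroup.centralizer ({a} : Set S) = A) :
    (∀ b ∈ B, b ∉ A → Subgroup.centralizer ({b} : Set S) = B) ∧
      (∀ E : Subgroup S, Cfsg.IsElementaryAbelian 2 E → (∀ E' : Subgroup S, Cfsg.IsElementaryAbelian 2 E' → E ≤ E' → E' = E) → E = A ∨ E = B) ∧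
      (∀ E' : Subgroup S, Cfsg.IsElementaryAbelian 2 E' → A ≤ E' → E' = A) ∧ (∀ E' : Subgroup S, Cfsg.IsElementaryAbelian 2 E' → B ≤ E' → E' = B) ∧
      Subgroup.center S = A ⊓ B ∧
      (∀ x : S, x ∉ A → x ∉ B → Nat.card ↥(Subgroup.centralizer ({x} : Set S)) ≤ min (Nat.card ↥A) (Nat.card ↥B)) := by
  classical
  obtain ⟨hAcomm, hAexp⟩ := hA
  obtain ⟨hBcomm, hBexp⟩ := hB
  have hAc : ∀ a ∈ A, ∀ a' ∈ A, a * a' = a' * a := by
    intro a ha a' ha'
    exact congrArg Subtype.val (hAcomm.is_comm.comm ⟨a, ha⟩ ⟨a', ha'⟩)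
  have hBc : ∀ b ∈ B, ∀ b' ∈ B, b * b' = b' * b := by
    intro b hb b' hb'
    exact congrArg Subtype.val (hBcomm.is_comm.comm ⟨b, hb⟩ ⟨b', hb'⟩)
  have hA2 : ∀ a ∈ A, a * a = 1 := fun a ha => by rw [← pow_two]; exact hAexp a ha
  have hB2 : ∀ b ∈ B, b * b = 1 := fun b hb => by rw [← pow_two]; exact hBexp b hb
  have hAinv : ∀ a ∈ A, a⁻¹ = a := fun a ha => inv_eq_of_mul_eq_one_right (hA2 a ha)
  have hBinv : ∀ b ∈ B, b⁻¹ = b := fun b hb => inv_eq_of_mul_eq_one_right (hB2 b hb)
  have mem_cs : ∀ x g : S, g ∈ Subgroup.centralizer ({x} : Set S) ↔ x * g = g * x := by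
    intro x g
    rw [Subgroup.mem_centralizer_iff]
    constructor
    · intro h; exact h x rfl
    · intro h y hy; rw [Set.mem_singleton_iff.mp hy]; exact h
  obtain ⟨a0, ha0A, ha0B⟩ : ∃ a ∈ A, a ∉ B := by
    by_contra h
    push Not at h
    apply hna
    refine ⟨⟨fun s t => ?_⟩⟩
    obtain ⟨a, ha, b, hb, rfl⟩ := hAB s
    obtain ⟨a', ha', b', hb', rfl⟩ := hAB t
    exact hBc _ (B.mul_mem (h a ha) hb) _ (B.mul_mem (h a' ha') hb')
  obtain ⟨b0, hb0B, hb0A⟩ : ∃ b ∈ B, b ∉ A := by
    by_contra h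
    push Not at h
    apply hna
    refine ⟨⟨fun s t => ?_⟩⟩
    obtain ⟨a, ha, b, hb, rfl⟩ := hAB s
    obtain ⟨a', ha', b', hb', rfl⟩ := hAB t
    exact hAc _ (A.mul_mem ha (h b hb)) _ (A.mul_mem ha' (h b' hb'))
  have h1 : ∀ b ∈ B, b ∉ A → Subgroup.centralizer ({b} : Set S) = B := by
    intro b hbB hbA
    ext x
    rw [mem_cs]
    constructor
    · intro hx
      obtain ⟨a, ha, b', hb', rfl⟩ := hAB x
      have hab : b * a = a * b := by
        have e1 : b * a * b' = a * b * b' := by
          calc b * a * b' = b * (a * b') := by group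
            _ = (a * b') * b := hx
            _ = a * (b' * b) := by group
            _ = a * (b * b') := by rw [hBc b' hb' b hbB]
            _ = a * b * b' := by group
        exact mul_right_cancel e1
      by_cases haB : a ∈ B
      · exact B.mul_mem haB hb'
      · exfalso
        apply hbA
        rw [← hC a ha haB, mem_cs]
        exact hab.symm
    · intro hx
      exact hBc b hbB x hx
  have h3 : ∀ E' : Subgroup S, Cfsg.IsElementaryAbelian 2 E' → A ≤ E' → E' = A := by
    intro E' hE' hAE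
    apply le_antisymm _ hAE
    intro e he
    rw [← hC a0 ha0A ha0B, mem_cs]
    exact congrArg Subtype.val (hE'.1.is_comm.comm ⟨a0, hAE ha0A⟩ ⟨e, he⟩)
  have h4 : ∀ E' : Subgroup S, Cfsg.IsElementaryAbelian 2 E' → B ≤ E' → E' = B := by
    intro E' hE' hBE
    apply le_antisymm _ hBE
    intro e he
    rw [← h1 b0 hb0B hb0A, mem_cs]
    exact congrArg Subtype.val (hE'.1.is_comm.comm ⟨b0, hBE hb0B⟩ ⟨e, he⟩)
  have hDc : ∀ d ∈ A ⊓ B, ∀ s : S, s * d = d * s := by
    rintro d ⟨hdA, hdB⟩ s
    obtain ⟨a, ha, b, hb, rfl⟩ := hAB s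
    calc a * b * d = a * (b * d) := by group
      _ = a * (d * b) := by rw [hBc b hb d hdB]
      _ = (a * d) * b := by group
      _ = (d * a) * b := by rw [hAc a ha d hdA]
      _ = d * (a * b) := by group
  have h5 : Subgroup.center S = A ⊓ B := by
    ext z
    constructor
    · intro hz
      rw [Subgroup.mem_center_iff] at hz
      have hzA : z ∈ A := by
        rw [← hC a0 ha0A ha0B, mem_cs]
        exact hz a0
      refine ⟨hzA, ?_⟩
      by_contra hzB
      apply hb0A
      rw [← hC z hzA hzB, mem_cs]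
      exact (hz b0).symm
    · intro hz
      rw [Subgroup.mem_center_iff]
      exact hDc z hz
  have hinv : ∀ x : S, x * x = 1 → x ∈ A ∨ x ∈ B := by
    intro x hx2
    obtain ⟨a, ha, b, hb, rfl⟩ := hAB x
    by_cases haB : a ∈ B
    · exact Or.inr (B.mul_mem haB hb)
    by_cases hbA : b ∈ A
    · exact Or.inl (A.mul_mem ha hbA)
    exfalso
    apply hbA
    rw [← hC a ha haB, mem_cs]
    have e1 : a * b = (a * b)⁻¹ := eq_inv_of_mul_eq_one_left hx2
    rw [mul_inv_rev, hAinv a ha, hBinv b hb] at e1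
    exact e1
  have h2 : ∀ E : Subgroup S, Cfsg.IsElementaryAbelian 2 E →
      (∀ E' : Subgroup S, Cfsg.IsElementaryAbelian 2 E' → E ≤ E' → E' = E) → E = A ∨ E = B := by
    intro E hE hmax
    have hEun : ∀ e ∈ E, e ∈ A ∨ e ∈ B :=
      fun e he => hinv e (by rw [← pow_two]; exact hE.2 e he)
    by_cases hEA : E ≤ A
    · exact Or.inl (hmax A ⟨hAcomm, hAexp⟩ hEA).symm
    by_cases hEB : E ≤ B
    · exact Or.inr (hmax B ⟨hBcomm, hBexp⟩ hEB).symm
    exfalso
    obtain ⟨e1, he1, he1A⟩ := SetLike.not_le_iff_exists.mp hEA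
    obtain ⟨e2, he2, he2B⟩ := SetLike.not_le_iff_exists.mp hEB
    have he1B : e1 ∈ B := (hEun e1 he1).resolve_left he1A
    have he2A : e2 ∈ A := (hEun e2 he2).resolve_right he2B
    rcases hEun (e1 * e2) (E.mul_mem he1 he2) with h | h
    · apply he1A
      have e : e1 = (e1 * e2) * e2⁻¹ := by group
      rw [e]; exact A.mul_mem h (A.inv_mem he2A)
    · apply he2B
      have e : e2 = e1⁻¹ * (e1 * e2) := by group
      rw [e]; exact B.mul_mem (B.inv_mem he1B) h
  have hSD : Nat.card S * Nat.card ↥(A ⊓ B) ≤ Nat.card ↥A * Nat.card ↥B := by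
    choose fa hfa fb hfb hfab using hAB
    rw [← Nat.card_prod, ← Nat.card_prod]
    apply Nat.card_le_card_of_injective (fun sd : S × ↥(A ⊓ B) =>
      ((⟨fa sd.1 * sd.2, A.mul_mem (hfa sd.1) sd.2.2.1⟩ : ↥A),
        (⟨(sd.2 : S)⁻¹ * fb sd.1, B.mul_mem (B.inv_mem sd.2.2.2) (hfb sd.1)⟩ : ↥B)))
    rintro ⟨s, d⟩ ⟨s', d'⟩ h
    simp only [Prod.mk.injEq, Subtype.mk.injEq] at h
    obtain ⟨h1', h2'⟩ := h
    have hs : s = s' := by
      calc s = fa s * fb s := hfab s
        _ = (fa s * d) * ((d : S)⁻¹ * fb s) := by group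
        _ = (fa s' * d') * ((d' : S)⁻¹ * fb s') := by rw [h1', h2']
        _ = fa s' * fb s' := by group
        _ = s' := (hfab s').symm
    subst hs
    have hd : (d : S) = d' := mul_left_cancel h1'
    rw [Prod.mk.injEq]; exact ⟨rfl, Subtype.ext hd⟩
  have hCA : ∀ (C K : Subgroup S), C ⊓ K = A ⊓ B →
      Nat.card ↥C * Nat.card ↥K ≤ Nat.card S * Nat.card ↥(A ⊓ B) := by
    intro C K hCK
    have h : (C ⊓ K).index ≤ C.index * K.index := Subgroup.index_inf_le
    rw [hCK] at h
    have e1 := C.card_mul_index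
    have e2 := K.card_mul_index
    have e3 := (A ⊓ B).card_mul_index
    have hpos : 0 < (A ⊓ B).index := Nat.pos_of_ne_zero Subgroup.index_ne_zero_of_finite
    apply Nat.le_of_mul_le_mul_right _ hpos
    calc Nat.card ↥C * Nat.card ↥K * (A ⊓ B).index
        ≤ Nat.card ↥C * Nat.card ↥K * (C.index * K.index) := Nat.mul_le_mul_left _ h
      _ = (Nat.card ↥C * C.index) * (Nat.card ↥K * K.index) := by ring
      _ = Nat.card S * Nat.card S := by rw [e1, e2]
      _ = Nat.card S * (Nat.card ↥(A ⊓ B) * (A ⊓ B).index) := by rw [e3]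
      _ = Nat.card S * Nat.card ↥(A ⊓ B) * (A ⊓ B).index := by ring
  have h6 : ∀ x : S, x ∉ A → x ∉ B →
      Nat.card ↥(Subgroup.centralizer ({x} : Set S)) ≤ min (Nat.card ↥A) (Nat.card ↥B) := by
    intro x hxA hxB
    obtain ⟨a, ha, b, hb, rfl⟩ := hAB x
    have haB : a ∉ B := fun h => hxB (B.mul_mem h hb)
    have hbA : b ∉ A := fun h => hxA (A.mul_mem ha h)
    have hCinfA : Subgroup.centralizer ({a * b} : Set S) ⊓ A = A ⊓ B := by
      ext c
      constructor
      · intro hc
        have hcC : c ∈ Subgroup.centralizer ({a * b} : Set S) := hc.1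
        have hcA : c ∈ A := hc.2
        rw [mem_cs] at hcC
        refine ⟨hcA, ?_⟩
        show c ∈ B
        rw [← h1 b hb hbA, mem_cs]
        have e1 : a * (b * c) = a * (c * b) := by
          calc a * (b * c) = a * b * c := by group
            _ = c * (a * b) := hcC
            _ = (c * a) * b := by group
            _ = (a * c) * b := by rw [hAc c hcA a ha]
            _ = a * (c * b) := by group
        exact mul_left_cancel e1
      · intro hd
        refine ⟨?_, hd.1⟩
        show c ∈ Subgroup.centralizer ({a * b} : Set S)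
        rw [mem_cs]
        exact hDc c hd (a * b)
    have hCinfB : Subgroup.centralizer ({a * b} : Set S) ⊓ B = A ⊓ B := by
      ext c
      constructor
      · intro hc
        have hcC : c ∈ Subgroup.centralizer ({a * b} : Set S) := hc.1
        have hcB : c ∈ B := hc.2
        rw [mem_cs] at hcC
        refine ⟨?_, hcB⟩
        show c ∈ A
        rw [← hC a ha haB, mem_cs]
        have e1 : (a * c) * b = (c * a) * b := by
          calc (a * c) * b = a * (c * b) := by group
            _ = a * (b * c) := by rw [hBc c hcB b hb]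
            _ = a * b * c := by group
            _ = c * (a * b) := hcC
            _ = (c * a) * b := by group
        exact mul_right_cancel e1
      · intro hd
        refine ⟨?_, hd.2⟩
        show c ∈ Subgroup.centralizer ({a * b} : Set S)
        rw [mem_cs]
        exact hDc c hd (a * b)
    have hposA : 0 < Nat.card ↥A := Nat.card_pos
    have hposB : 0 < Nat.card ↥B := Nat.card_pos
    apply le_min
    · have h := (hCA _ B hCinfB).trans hSD
      exact Nat.le_of_mul_le_mul_right h hposB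
    · have h := (hCA _ A hCinfA).trans hSD
      rw [mul_comm (Nat.card ↥A)] at h
      exact Nat.le_of_mul_le_mul_right h hposA
  exact ⟨h1, h2, h3, h4, h5, h6⟩

end Cfsg.Agent.S3163
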