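import Cfsg.Statements.S3166
import Mathlib

set_option autoImplicit false
open Cfsg

namespace Cfsg.Agent.S3166

theorem odd_pow_modEq_one {Q p m : ℕ} (hQ : ∃ n, Q = 2 ^ n) (hpodd : Odd p) (hm : Odd m)
    (h : Q ∣ p ^ m - 1) : Q ∣ p - 1 := by
  obtain ⟨n, rfl⟩ := hQ
  have hp1 : 1 ≤ p := hpodd.pos
  obtain ⟨p', rfl⟩ : ∃ p', p = p' + 1 := ⟨p - 1, by omega⟩
  have hgeo : (∑ i ∈ Finset.range m, (p' + 1) ^ i) * p' = (p' + 1) ^ m - 1 := by
    have := geom_sum_mul ((p' : ℤ) + 1) m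
    have h1 : 1 ≤ (p' + 1) ^ m := Nat.one_le_pow _ _ (by omega)
    zify [h1]
    rw [← this]; ring
  have hS : Odd (∑ i ∈ Finset.range m, (p' + 1) ^ i) := by
    rw [Finset.odd_sum_iff_odd_card_odd]
    have : (Finset.range m).filter (fun i => Odd ((p' + 1) ^ i)) = Finset.range m := by
      apply Finset.filter_true_of_mem
      intro i _
      exact hpodd.pow
    rw [this, Finset.card_range]
    exact hm
  rw [← hgeo] at h
  have hc : Nat.Coprime (2 ^ n) (∑ i ∈ Finset.range m, (p' + 1) ^ i) :=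
    Nat.Coprime.pow_left n (Nat.coprime_two_left.mpr hS)
  simpa using hc.dvd_of_dvd_mul_left h
theorem even_case (Q r : ℤ) (hQ : 2 ≤ Q) (hr : 0 ≤ r) (h : r^2 = Q^4 - Q^3 + Q^2 - Q + 1) : False := by
  rcases le_or_gt (2 * r) (2 * Q^2 - Q) with h1 | h1
  · have h2 := mul_self_le_mul_self (by positivity : (0:ℤ) ≤ 2 * r) h1
    nlinarith [sq_nonneg (Q - 2), sq_nonneg Q]
  · have h1' : 2 * Q^2 - Q + 1 ≤ 2 * r := by omega
    have h0 : (0:ℤ) ≤ 2 * Q^2 - Q + 1 := by nlinarith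
    have h2 := mul_self_le_mul_self h0 h1'
    nlinarith

theorem cube_case (Q u : ℤ) (hQ : 2 ≤ Q) (hu : 1 ≤ u)
    (h : (Q*u+1)^3 = Q^4 - Q^3 + Q^2 - Q + 1) : False := by
  have hQpos : 0 < Q := by linarith
  have e1 : Q * (Q^2*u^3 + 3*Q*u^2 + 3*u) = Q * (Q^3 - Q^2 + Q - 1) := by
    linear_combination h
  have e2 := mul_left_cancel₀ hQpos.ne' e1
  have hdvd : Q ∣ 3 * u + 1 := ⟨Q^2 - Q + 1 - Q*u^3 - 3*u^2, by linear_combination e2⟩
  have hle : Q ≤ 3 * u + 1 := Int.le_of_dvd (by linarith) hdvd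
  have h23 : Q^2 ≤ Q^3 := by nlinarith [sq_nonneg Q]
  have hN : Q^4 - Q^3 + Q^2 - Q + 1 ≤ Q^4 := by linarith
  have h3 : (Q*u)^3 < (Q*u+1)^3 := by
    have : 0 < Q * u := by positivity
    nlinarith [sq_nonneg (Q*u)]
  have h4 : Q^3 * u^3 < Q^3 * Q := by
    calc Q^3 * u^3 = (Q*u)^3 := by ring
      _ < (Q*u+1)^3 := h3
      _ ≤ Q^4 := by rw [h]; exact hN
      _ = Q^3 * Q := by ring
  have h5 : u^3 < Q := lt_of_mul_lt_mul_left h4 (by positivity)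
  have hu1 : u ≤ 1 := by
    by_contra hcon
    have : 2 ≤ u := by omega
    nlinarith [sq_nonneg u, mul_nonneg (by linarith : (0:ℤ) ≤ u - 2) (by linarith : (0:ℤ) ≤ u)]
  have : u = 1 := le_antisymm hu1 hu
  subst this
  have hQ4 : Q ≤ 4 := by linarith
  interval_cases Q <;> norm_num at h


/-- Let q = 2^n with n ≥ 1. If q⁴ − q³ + q² − q + 1 is a power p^m of a prime p, then m = 1: the value is never a prime power with exponent greater than 1. -/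
theorem result (n p m : ℕ) (hn : 1 ≤ n) (hp : p.Prime) (h : (2 ^ n) ^ 4 - (2 ^ n) ^ 3 + (2 ^ n) ^ 2 - 2 ^ n + 1 = p ^ m) : m = 1 := by
  by_contra hm1
  have hQ2 : 2 ≤ 2 ^ n := by
    calc 2 = 2 ^ 1 := by norm_num
      _ ≤ 2 ^ n := Nat.pow_le_pow_right (by norm_num) hn
  have hQeven : Even (2 ^ n) := (Nat.even_pow.mpr ⟨even_two, by omega⟩)
  have hQdef : ∃ n', 2 ^ n = 2 ^ n' := ⟨n, rfl⟩
  generalize 2 ^ n = Q at h hQdef hQ2 hQeven
  have h34 : Q ^ 3 ≤ Q ^ 4 := Nat.pow_le_pow_right (by omega) (by norm_num)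
  have h12 : Q ≤ Q ^ 2 := by nlinarith
  have hN : p ^ m + Q ^ 3 + Q = Q ^ 4 + Q ^ 2 + 1 := by omega
  have hNz : (p : ℤ) ^ m = (Q : ℤ) ^ 4 - Q ^ 3 + Q ^ 2 - Q + 1 := by
    have : ((p ^ m + Q ^ 3 + Q : ℕ) : ℤ) = ((Q ^ 4 + Q ^ 2 + 1 : ℕ) : ℤ) := by rw [hN]
    push_cast at this; linarith
  have hQz : (2 : ℤ) ≤ Q := by exact_mod_cast hQ2
  have hppos : (0 : ℤ) < p := by exact_mod_cast hp.pos
  rcases Nat.even_or_odd' m with ⟨k, hk | hk⟩
  · -- even case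
    have e : (p : ℤ) ^ m = ((p : ℤ) ^ k) ^ 2 := by rw [hk]; ring
    rw [e] at hNz
    exact even_case Q ((p : ℤ) ^ k) hQz (by positivity) hNz
  · -- odd case
    have hk1 : 1 ≤ k := by omega
    have hmodd : Odd m := ⟨k, hk⟩
    have hpmodd : Odd (p ^ m) := by
      obtain ⟨a, ha⟩ := hQeven
      have e4 : Even (Q ^ 4) := Nat.even_pow.mpr ⟨⟨a, ha⟩, by norm_num⟩
      have e3 : Even (Q ^ 3) := Nat.even_pow.mpr ⟨⟨a, ha⟩, by norm_num⟩
      have e2 : Even (Q ^ 2) := Nat.even_pow.mpr ⟨⟨a, ha⟩, by norm_num⟩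
      obtain ⟨a4, ha4⟩ := e4
      obtain ⟨a3, ha3⟩ := e3
      obtain ⟨a2, ha2⟩ := e2
      rw [Nat.odd_iff]; omega
    have hpodd : Odd p := (Nat.odd_pow_iff (by omega : m ≠ 0)).mp hpmodd
    have hdvd : Q ∣ p ^ m - 1 := by
      have h1 : Q ∣ (p ^ m - 1) + (Q ^ 3 + Q) := by
        have : (p ^ m - 1) + (Q ^ 3 + Q) = Q * (Q ^ 3 + Q) := by
          have : 1 ≤ p ^ m := Nat.one_le_pow _ _ hp.pos
          have e : Q * (Q ^ 3 + Q) = Q ^ 4 + Q ^ 2 := by ring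
          omega
        rw [this]; exact dvd_mul_right _ _
      have h2 : Q ∣ Q ^ 3 + Q := ⟨Q ^ 2 + 1, by ring⟩
      exact (Nat.dvd_add_iff_left h2).mpr h1
    have hdvd1 := odd_pow_modEq_one hQdef hpodd hmodd hdvd
    obtain ⟨u, hu⟩ := hdvd1
    have hp2 := hp.two_le
    have hpu : p = Q * u + 1 := by omega
    have hu1 : 1 ≤ u := by
      rcases Nat.eq_zero_or_pos u with h0 | h0
      · subst h0; omega
      · exact h0
    have hpuz : (p : ℤ) = Q * u + 1 := by exact_mod_cast hpu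
    have huz : (1 : ℤ) ≤ u := by exact_mod_cast hu1
    rcases Nat.lt_or_ge k 2 with hk2 | hk2
    · have : m = 3 := by omega
      subst this
      rw [hpuz] at hNz
      exact cube_case Q u hQz huz hNz
    · have hm5 : 5 ≤ m := by omega
      have h1 : (p : ℤ) ^ 5 ≤ (p : ℤ) ^ m := pow_le_pow_right₀ (by linarith) hm5
      have h2 : ((Q : ℤ) + 1) ^ 5 ≤ (p : ℤ) ^ 5 := by
        apply pow_le_pow_left₀ (by linarith)
        rw [hpuz]; nlinarith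
      have h5 : ((Q : ℤ) + 1) ^ 5 = Q ^ 5 + 5 * Q ^ 4 + 10 * Q ^ 3 + 10 * Q ^ 2 + 5 * Q + 1 := by ring
      have h23 : (Q : ℤ) ^ 2 ≤ (Q : ℤ) ^ 3 := by nlinarith [sq_nonneg (Q : ℤ)]
      have hp5 : (0 : ℤ) < (Q : ℤ) ^ 5 := by positivity
      have hp4 : (0 : ℤ) < (Q : ℤ) ^ 4 := by positivity
      have hp3 : (0 : ℤ) < (Q : ℤ) ^ 3 := by positivity
      have hp2' : (0 : ℤ) < (Q : ℤ) ^ 2 := by positivity
      linarith

end Cfsg.Agent.S3166
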