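import Cfsg.Statements.S3178
import Mathlib
import Cfsg.Agent.Lib.Helper6.Modular2
import Cfsg.Agent.Lib.Helper6.Modular3
import Cfsg.Agent.Lib.Helper6.Transfer3
import Cfsg.Agent.Lib.Helper6.NPC

set_option autoImplicit false
open Cfsg Cfsg.Agent.Lib.Helper6

namespace Cfsg.Agent.S3178

/-- Groups with a modular Sylow 2-subgroup have a normal 2-complement. Let S, of order 2^(n+1) with n ≥ 3, be a Sylow 2-subgroup of a finite group G, and suppose S contains an element a of order 2^n and an involution b with b a b⁻¹ = a^(2^(n-1) + 1); so S is the non-abelian 2-group with a cyclic subgroup of index 2 that is neither dihedral, semidihedral nor generalized quaternion. Then G has a normal 2-complement. -/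
theorem result {G : Type*} [Group G] [Finite G]
    (S : Sylow 2 G) (n : ℕ) (hn : 3 ≤ n) (hS : Nat.card ↥(S : Subgroup G) = 2 ^ (n + 1))
    (a b : G) (ha : a ∈ (S : Subgroup G)) (hb : b ∈ (S : Subgroup G))
    (hao : orderOf a = 2 ^ n) (hbo : orderOf b = 2) (hrel : b * a * b⁻¹ = a ^ (2 ^ (n - 1) + 1)) :
    Cfsg.HasNormalPComplement 2 G := by
  classical
  have h2 : Fact (Nat.Prime 2) := ⟨Nat.prime_two⟩
  have hb2 : b * b = 1 := by rw [← pow_two, ← hbo, pow_orderOf_eq_one]
  obtain ⟨z, hz⟩ : ∃ z, z = a ^ (2 ^ (n - 1)) := ⟨_, rfl⟩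
  have hzo : orderOf z = 2 := by rw [hz]; exact mod_z_order hn hao
  have hz1 : z ≠ 1 := by
    intro h; rw [h, orderOf_one] at hzo; omega
  have hzz : z * z = 1 := by rw [← pow_two, ← hzo, pow_orderOf_eq_one]
  have hzb : Commute z b := by rw [hz]; exact mod_zb hn hao hrel
  have hza : Commute z a := by rw [hz]; exact (Commute.refl a).pow_left _
  have hbaz : b * a = z * a * b := by rw [hz]; exact mod_ba hrel
  have hba : b ∉ Subgroup.zpowers a := by
    intro h
    obtain ⟨k, hk⟩ := Subgroup.mem_zpowers_iff.mp h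
    have hc : Commute b a := by rw [← hk]; exact (Commute.refl a).zpow_left k
    have h3 : b * a = 1 * a * b := by rw [one_mul]; exact hc.eq
    rw [hbaz] at h3
    exact hz1 (mul_right_cancel (mul_right_cancel h3))
  have hNF := index_two_normal_form (S : Subgroup G) a b ha hb (by rw [hS, hao, pow_succ']) hba
  have hzpow : ∀ i : ℕ, z ^ i = 1 ∨ z ^ i = z := by
    intro i
    rw [← pow_mod_orderOf, hzo]
    rcases Nat.mod_two_eq_zero_or_one i with h | h <;> rw [h]
    · left; exact pow_zero z
    · right; exact pow_one z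
  have hz2n : z ^ (2 ^ (n - 1)) = 1 := by
    rw [← orderOf_dvd_iff_pow_eq_one, hzo]; exact dvd_pow_self 2 (by omega)
  -- the three properties of the power map
  have hP : ∀ u ∈ (S : Subgroup G), (u ^ (2 ^ (n - 1)) = 1 ∨ u ^ (2 ^ (n - 1)) = z) ∧
      (Commute u b ↔ u ^ (2 ^ (n - 1)) = 1) ∧
      (u * a) ^ (2 ^ (n - 1)) = u ^ (2 ^ (n - 1)) * z := by
    intro u hu
    have hcomm_ai : ∀ i : ℕ, Commute (a ^ i) b ↔ z ^ i = 1 := by
      intro i
      have h1 : b * a ^ i = a ^ i * z ^ i * b := by rw [hz]; exact mod_bai hn hao hrel i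
      constructor
      · intro hc
        have h3 : a ^ i * 1 * b = a ^ i * z ^ i * b := by
          rw [mul_one, ← h1]; exact hc.eq
        exact (mul_left_cancel (mul_right_cancel h3)).symm
      · intro hzi
        rw [hzi, mul_one] at h1
        exact h1.symm
    obtain ⟨i, hi | hi⟩ := hNF u hu
    · have hpi : u ^ (2 ^ (n - 1)) = z ^ i := by rw [hi, hz]; exact mod_pow_ai i
      refine ⟨hpi ▸ hzpow i, ?_, ?_⟩
      · rw [hpi, hi]; exact hcomm_ai i
      · rw [hpi, hi, ← pow_succ, hz, mod_pow_ai (i + 1), pow_succ]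
    · have hpi : u ^ (2 ^ (n - 1)) = z ^ i := by
        rw [hi, hz]; exact mod_pow_aib hn hao hb2 hrel i
      refine ⟨hpi ▸ hzpow i, ?_, ?_⟩
      · rw [hpi, hi, ← hcomm_ai i]
        constructor
        · intro hc
          have h3 : a ^ i * b * b = b * a ^ i * b := by rw [mul_assoc b]; exact hc.eq
          exact mul_right_cancel h3
        · intro hc
          exact hc.mul_left (Commute.refl b)
      · have e1 : u * a = a ^ (i + 2 ^ (n - 1) + 1) * b := by
          rw [hi, mul_assoc, hbaz, hz, pow_succ, pow_add]; simp only [mul_assoc]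
        rw [e1, hpi]
        have := mod_pow_aib hn hao hb2 hrel (i + 2 ^ (n - 1) + 1)
        rw [this, ← hz, pow_succ, pow_add, hz2n, mul_one]
  -- the subgroup M
  set M : Subgroup G := (S : Subgroup G) ⊓ Subgroup.centralizer {b} with hMdef
  have hMmem : ∀ u ∈ (S : Subgroup G), (u ∈ M ↔ u ^ (2 ^ (n - 1)) = 1) := by
    intro u hu
    rw [hMdef, Subgroup.mem_inf, Subgroup.mem_centralizer_singleton_iff, ← (hP u hu).2.1]
    constructor
    · rintro ⟨_, h⟩; exact h
    · intro h; exact ⟨hu, h.eq⟩
  have hMle : M ≤ (S : Subgroup G) := inf_le_left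
  have hapow : a ^ (2 ^ (n - 1)) = z := hz.symm
  have hM : M.relIndex (S : Subgroup G) = 2 := by
    show (M.subgroupOf (S : Subgroup G)).index = 2
    rw [Subgroup.index_eq_two_iff_exists_notMem_and]
    refine ⟨⟨a, ha⟩, ?_, fun y => ?_⟩
    · rw [Subgroup.mem_subgroupOf, hMmem a ha, hapow]; exact hz1
    · simp only [Subgroup.mem_subgroupOf, Subgroup.coe_mul]
      rw [hMmem _ y.2, hMmem _ (mul_mem y.2 ha), (hP _ y.2).2.2]
      rcases (hP _ y.2).1 with h | h
      · right; exact h
      · left; rw [h, hzz]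
  have hord : ∀ y ∈ (S : Subgroup G), y ∉ M → 2 ^ (n - 1) < orderOf y := by
    intro y hy hyM
    rw [hMmem y hy] at hyM
    obtain ⟨k, hk⟩ := S.2 ⟨y, hy⟩
    have hk' : y ^ (2 ^ k) = 1 := congrArg Subtype.val hk
    obtain ⟨j, hjk, hj⟩ := (Nat.dvd_prime_pow Nat.prime_two).mp (orderOf_dvd_of_pow_eq_one hk')
    rw [hj]
    apply Nat.pow_lt_pow_right (by norm_num)
    by_contra hlt
    push Not at hlt
    apply hyM
    rw [← orderOf_dvd_iff_pow_eq_one, hj]
    exact pow_dvd_pow 2 hlt
  have hcon : ∀ g : G, g * a * g⁻¹ ∉ M := by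
    intro g hg
    have hgS : g * a * g⁻¹ ∈ (S : Subgroup G) := hMle hg
    rw [hMmem _ hgS, conj_pow, hapow] at hg
    apply hz1
    have : z = g⁻¹ * (g * z * g⁻¹) * g := by group
    rw [this, hg]; group
  obtain ⟨H, hHn, hHi, haH⟩ := thompson_transfer_ker S M hM n hord a hao hcon
  obtain ⟨Q, hQeq, hQcard⟩ := exists_sylow_of_index_two S H hHi a ha haH n hS
  have hQmem : ∀ x : H, x ∈ (Q : Subgroup H) ↔ (x : G) ∈ (S : Subgroup G) := by
    intro x; rw [hQeq, Subgroup.mem_subgroupOf]
  -- Burnside's condition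
  have hBurn : Subgroup.normalizer ((Q : Subgroup H) : Set H) ≤
      Subgroup.centralizer ((Q : Subgroup H) : Set H) := by
    by_cases hbH : b ∈ H
    · -- type 2^(n-1) × 2
      have ha2H : a ^ 2 ∈ H := Subgroup.sq_mem_of_index_two hHi a
      have ha2o : orderOf (a ^ 2) = 2 ^ (n - 1) := by
        rw [orderOf_pow' a (by norm_num), hao, Nat.gcd_eq_right (dvd_pow_self 2 (by omega))]
        have : 2 ^ n = 2 ^ (n - 1) * 2 := by rw [← pow_succ]; congr 1; omega
        rw [this, Nat.mul_div_cancel _ (by norm_num)]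
      have ha2S : a ^ 2 ∈ (S : Subgroup G) := Subgroup.pow_mem _ ha 2
      have hcomm2 : Commute (a ^ 2) b := by
        rw [(hP _ ha2S).2.1, ← pow_mul, ← pow_succ']
        have : n - 1 + 1 = n := by omega
        rw [this, ← hao, pow_orderOf_eq_one]
      apply normalizer_le_centralizer_of_cyclic_mul_two Q n (⟨a ^ 2, ha2H⟩ : H) (⟨b, hbH⟩ : H) hn
        hQcard
      · rw [hQmem]; exact ha2S
      · rw [hQmem]; exact hb
      · rw [Subgroup.orderOf_mk]; exact ha2o
      · apply Subtype.ext; exact hb2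
      · apply Subtype.ext; exact hcomm2.eq
      · intro h
        obtain ⟨k, hk⟩ := Subgroup.mem_zpowers_iff.mp h
        apply hba
        have : (a ^ 2) ^ k = b := by
          have := congrArg Subtype.val hk
          simpa using this
        rw [← this, ← zpow_natCast, ← zpow_mul]
        exact Subgroup.zpow_mem_zpowers a _
    · -- cyclic
      have habH : a * b ∈ H := by
        rw [Subgroup.mul_mem_iff_of_index_two hHi]
        exact ⟨fun h => absurd h haH, fun h => absurd h hbH⟩
      have habS : a * b ∈ (S : Subgroup G) := mul_mem ha hb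
      have habo : orderOf (a * b) = 2 ^ n := by
        have e := mod_pow_aib hn hao hb2 hrel 1
        rw [pow_one, pow_one, ← hz] at e
        have h1 : ¬ (a * b) ^ (2 ^ (n - 1)) = 1 := by rw [e]; exact hz1
        have h2' : (a * b) ^ (2 ^ (n - 1 + 1)) = 1 := by
          rw [pow_succ, pow_mul, e, pow_two, hzz]
        have := orderOf_eq_prime_pow h1 h2'
        rw [this]; congr 1; omega
      have hcyc : IsCyclic (Q : Subgroup H) := by
        have hmemQ : (⟨a * b, habH⟩ : H) ∈ (Q : Subgroup H) := by rw [hQmem]; exact habS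
        apply isCyclic_of_orderOf_eq_card (⟨⟨a * b, habH⟩, hmemQ⟩ : (Q : Subgroup H))
        rw [Subgroup.orderOf_mk, Subgroup.orderOf_mk, habo, hQcard]
      have hminFac : (Nat.card H).minFac = 2 := by
        rw [Nat.minFac_eq_two_iff]
        have : 2 ∣ Nat.card (Q : Subgroup H) := by rw [hQcard]; exact dvd_pow_self 2 (by omega)
        exact this.trans (Subgroup.card_subgroup_dvd_card _)
      exact IsCyclic.normalizer_le_centralizer hminFac hcyc
  -- all elements of odd order lie in H
  have hoddH : ∀ g : G, (orderOf g).Coprime 2 → g ∈ H := by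
    intro g hg
    have hsq : g ^ 2 ∈ H := Subgroup.sq_mem_of_index_two hHi g
    have hodd : Odd (orderOf g) := Nat.coprime_two_right.mp hg
    obtain ⟨k, hk⟩ := hodd
    have : g = (g ^ 2) ^ (k + 1) := by
      rw [← pow_mul]
      have : 2 * (k + 1) = orderOf g + 1 := by omega
      rw [this, pow_succ, pow_orderOf_eq_one, one_mul]
    rw [this]
    exact Subgroup.pow_mem _ hsq _
  exact npc_of_transfer 2 H hoddH Q hBurn

end Cfsg.Agent.S3178
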