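import Cfsg.Statements.S3180
import Mathlib

set_option autoImplicit false
open Cfsg

namespace Cfsg.Agent.S3180

open scoped Pointwise

theorem sylow_conj_in_subgroup {J : Type*} [Group J] [Finite J] {p : ℕ} [Fact p.Prime]
    (K A B : Subgroup J) (hA : IsPGroup p A) (hB : IsPGroup p B) (hAK : A ≤ K) (hBK : B ≤ K) :
    ∃ c ∈ K, ∃ Q : Subgroup J, IsPGroup p Q ∧ A ≤ Q ∧ ∀ b ∈ B, c * b * c⁻¹ ∈ Q := by
  obtain ⟨QA, hQA⟩ := (hA.comap_subtype (K := K)).exists_le_sylow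
  obtain ⟨QB, hQB⟩ := (hB.comap_subtype (K := K)).exists_le_sylow
  obtain ⟨c, hc⟩ := MulAction.exists_smul_eq K QB QA
  refine ⟨c, c.2, (QA : Subgroup K).map K.subtype, QA.2.map _, ?_, ?_⟩
  · intro a ha
    exact ⟨⟨a, hAK ha⟩, hQA ha, rfl⟩
  · intro b hb
    have h1 : (⟨b, hBK hb⟩ : K) ∈ (QB : Subgroup K) := hQB hb
    have h2 : MulAut.conj c • (⟨b, hBK hb⟩ : K) ∈ MulAut.conj c • (QB : Subgroup K) :=
      Subgroup.smul_mem_pointwise_smul _ _ _ h1
    have h3 : MulAut.conj c • (QB : Subgroup K) = (QA : Subgroup K) := by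
      rw [← hc, Sylow.smul_def, Sylow.pointwise_smul_def]
    rw [h3] at h2
    exact ⟨_, h2, rfl⟩


/-- Let P be a Sylow p-subgroup of a finite group J and P₁ a subgroup of P that is weakly closed in P with respect to J. If J acts on a set and two points, each fixed by every element of P₁, lie in one J-orbit, then they lie in one orbit of the normalizer of P₁ in J. -/
theorem result {J : Type*} [Group J] [Finite J]
    {p : ℕ} [Fact p.Prime] (P : Sylow p J) (P₁ : Subgroup J) (hW : Cfsg.IsWeaklyClosed P₁ (P : Subgroup J))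
    {Ω : Type*} [MulAction J Ω] (x y : Ω) (hx : ∀ g ∈ P₁, g • x = x) (hy : ∀ g ∈ P₁, g • y = y)
    (hc : ∃ g : J, g • x = y) :
    ∃ g ∈ Subgroup.normalizer (P₁ : Set J), g • x = y := by
  obtain ⟨g, hg⟩ := hc
  have hP1 : IsPGroup p P₁ := P.2.to_le hW.1
  have hB : IsPGroup p (P₁.map (MulAut.conj g⁻¹).toMonoidHom) := hP1.map _
  have hAK : P₁ ≤ MulAction.stabilizer J x := fun a ha => hx a ha
  have hBK : P₁.map (MulAut.conj g⁻¹).toMonoidHom ≤ MulAction.stabilizer J x := by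
    rintro _ ⟨b, hb, rfl⟩
    rw [MulAction.mem_stabilizer_iff]
    change (g⁻¹ * b * g⁻¹⁻¹) • x = x
    rw [inv_inv, mul_smul, mul_smul, hg, hy b hb, ← hg, inv_smul_smul]
  obtain ⟨c, hcK, Q, hQ, hAQ, hBQ⟩ := sylow_conj_in_subgroup _ _ _ hP1 hB hAK hBK
  obtain ⟨P', hP'⟩ := hQ.exists_le_sylow
  obtain ⟨h, hh⟩ := MulAction.exists_smul_eq J P' P
  have hconj : ∀ w ∈ Q, h * w * h⁻¹ ∈ (P : Subgroup J) := by
    intro w hw
    have h1 : w ∈ (P' : Subgroup J) := hP' hw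
    have h2 : MulAut.conj h • w ∈ MulAut.conj h • (P' : Subgroup J) :=
      Subgroup.smul_mem_pointwise_smul _ _ _ h1
    have h3 : MulAut.conj h • (P' : Subgroup J) = (P : Subgroup J) := by
      rw [← hh, Sylow.smul_def, Sylow.pointwise_smul_def]
    rw [h3] at h2
    exact h2
  have hn1 : h ∈ Subgroup.normalizer (P₁ : Set J) := by
    apply Subgroup.mem_normalizer_iff_map_conj_eq.mpr
    apply hW.2 h
    rintro _ ⟨a, ha, rfl⟩
    exact hconj a (hAQ ha)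
  have hn2 : h * c * g⁻¹ ∈ Subgroup.normalizer (P₁ : Set J) := by
    apply Subgroup.mem_normalizer_iff_map_conj_eq.mpr
    apply hW.2 (h * c * g⁻¹)
    rintro _ ⟨a, ha, rfl⟩
    have h1 := hconj _ (hBQ (g⁻¹ * a * g⁻¹⁻¹) ⟨a, ha, rfl⟩)
    have h2 : h * (c * (g⁻¹ * a * g⁻¹⁻¹) * c⁻¹) * h⁻¹ = (h * c * g⁻¹) * a * (h * c * g⁻¹)⁻¹ := by
      group
    rw [h2] at h1
    exact h1
  have hn3 : g * c⁻¹ ∈ Subgroup.normalizer (P₁ : Set J) := by
    have h1 := Subgroup.mul_mem _ (Subgroup.inv_mem _ hn1) hn2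
    have h2 := Subgroup.inv_mem _ h1
    have h3 : (h⁻¹ * (h * c * g⁻¹))⁻¹ = g * c⁻¹ := by group
    rwa [h3] at h2
  refine ⟨g * c⁻¹, hn3, ?_⟩
  rw [mul_smul]
  have : c⁻¹ • x = x := by
    rw [inv_smul_eq_iff]; exact (MulAction.mem_stabilizer_iff.mp hcK).symm
  rw [this, hg]

end Cfsg.Agent.S3180
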