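import Cfsg.Statements.S3183
import Cfsg.Agent.Lib.Helper7.PGroupNormalizer

set_option autoImplicit false
open Cfsg

namespace Cfsg.Agent.S3183

set_option linter.style.haveILetI false
set_option linter.unusedVariables false

theorem mem_center_map {G : Type*} [Group G] (U : Subgroup G) (x : G) :
    x ∈ (Subgroup.center ↥U).map U.subtype ↔ x ∈ U ∧ ∀ v ∈ U, v * x = x * v := by
  constructor
  · rintro ⟨u, hu, rfl⟩
    refine ⟨u.2, fun v hv => ?_⟩
    have h := (Subgroup.mem_center_iff.mp hu) ⟨v, hv⟩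
    exact congrArg Subtype.val h
  · rintro ⟨hxU, hx⟩
    refine ⟨⟨x, hxU⟩, ?_, rfl⟩
    show (⟨x, hxU⟩ : ↥U) ∈ Subgroup.center ↥U
    rw [Subgroup.mem_center_iff]
    intro v
    exact Subtype.ext (hx v v.2)

theorem claim1 {G : Type*} [Group G] [Finite G]
    (hCI : ∀ S T : Sylow 2 G, S ≠ T → ∃ U : Sylow 2 G,
      (S : Subgroup G) ⊓ (T : Subgroup G) ≤
        (Subgroup.center ↥(U : Subgroup G)).map (U : Subgroup G).subtype)
    (S : Sylow 2 G) (x : G) (hx : x ∈ (S : Subgroup G)) (P : Subgroup G) (hP : IsPGroup 2 ↥P)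
    (hPC : P ≤ Subgroup.centralizer ({x} : Set G)) :
    Nat.card ↥P ≤ Nat.card ↥((S : Subgroup G) ⊓ Subgroup.centralizer ({x} : Set G)) := by
  classical
  haveI : Fact (Nat.Prime 2) := ⟨Nat.prime_two⟩
  by_contra hlt
  push Not at hlt
  obtain ⟨C, hC⟩ : ∃ C : Subgroup G, C = Subgroup.centralizer ({x} : Set G) := ⟨_, rfl⟩
  rw [← hC] at hPC hlt
  obtain ⟨R, hR⟩ : ∃ R : Subgroup G, R = (S : Subgroup G) ⊓ C := ⟨_, rfl⟩
  rw [← hR] at hlt
  have hRC : R ≤ C := by rw [hR]; exact inf_le_right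
  have hRS : R ≤ (S : Subgroup G) := by rw [hR]; exact inf_le_left
  have hmemC : ∀ g : G, g ∈ C ↔ x * g = g * x := by
    intro g
    rw [hC, Subgroup.mem_centralizer_iff]
    constructor
    · intro h; exact h x rfl
    · intro h a ha; rw [Set.mem_singleton_iff.mp ha]; exact h
  have hxR : x ∈ R := by
    rw [hR]; exact ⟨hx, (hmemC x).mpr rfl⟩
  have hR2 : IsPGroup 2 ↥R := S.2.to_le hRS
  obtain ⟨Q, hQ⟩ := (hR2.comap_of_injective C.subtype C.subtype_injective).exists_le_sylow
  obtain ⟨Q', hQ'⟩ := (hP.comap_of_injective C.subtype C.subtype_injective).exists_le_sylow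
  obtain ⟨V, hV⟩ : ∃ V : Subgroup G, V = (Q : Subgroup ↥C).map C.subtype := ⟨_, rfl⟩
  have hV2 : IsPGroup 2 ↥V := by rw [hV]; exact Q.2.map C.subtype
  have hVC : V ≤ C := by
    rw [hV]; rintro _ ⟨c, _, rfl⟩; exact c.2
  have hRV : R ≤ V := by
    intro r hr
    rw [hV]
    exact ⟨⟨r, hRC hr⟩, hQ (Subgroup.mem_subgroupOf.mpr hr), rfl⟩
  have hcardV : Nat.card ↥P ≤ Nat.card ↥V := by
    have h1 : Nat.card ↥V = Nat.card ↥(Q : Subgroup ↥C) := by
      rw [hV]; exact Subgroup.card_map_of_injective C.subtype_injective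
    have h2 : Nat.card ↥(Q : Subgroup ↥C) = Nat.card ↥(Q' : Subgroup ↥C) := by
      rw [Sylow.card_eq_multiplicity, Sylow.card_eq_multiplicity]
    have h3 : Nat.card ↥(P.subgroupOf C) ≤ Nat.card ↥(Q' : Subgroup ↥C) :=
      Subgroup.card_le_of_le hQ'
    have h4 : Nat.card ↥(P.subgroupOf C) = Nat.card ↥P :=
      Nat.card_congr (Subgroup.subgroupOfEquivOfLe hPC).toEquiv
    omega
  obtain ⟨T, hVT⟩ := hV2.exists_le_sylow
  have hTS : T ≠ S := by
    intro h
    have h1 : V ≤ R := by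
      rw [hR]; exact le_inf (by rw [← h]; exact hVT) hVC
    have := Subgroup.card_le_of_le h1
    omega
  obtain ⟨U, hU⟩ := hCI S T (Ne.symm hTS)
  have hRU : ∀ r ∈ R, r ∈ (U : Subgroup G) ∧ ∀ v ∈ (U : Subgroup G), v * r = r * v := by
    intro r hr
    exact (mem_center_map _ r).mp (hU ⟨hRS hr, hVT (hRV hr)⟩)
  have hne : R ≠ (S : Subgroup G) := by
    intro h
    have hST : (S : Subgroup G) ≤ T := by rw [← h]; exact hRV.trans hVT
    exact hTS (Sylow.ext (S.is_maximal' T.2 hST))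
  obtain ⟨y, hyS, hyN, hyR⟩ := Cfsg.Agent.Lib.Helper7.exists_mem_normalizer_not_mem (p := 2)
    (S : Subgroup G) R S.2 (lt_of_le_of_ne hRS hne)
  apply hyR
  have hUK : (U : Subgroup G) ≤ Subgroup.centralizer (R : Set G) := by
    intro u hu
    rw [Subgroup.mem_centralizer_iff]
    intro r hr
    exact ((hRU r hr).2 u hu).symm
  have hodd : ¬ 2 ∣ (Subgroup.centralizer (R : Set G)).relIndex
      (Subgroup.normalizer (R : Set G)) := by
    intro h2
    have h1 : (Subgroup.centralizer (R : Set G)).relIndex (Subgroup.normalizer (R : Set G)) ∣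
        (Subgroup.centralizer (R : Set G)).index :=
      Dvd.intro _ (Subgroup.relIndex_mul_index (Subgroup.centralizer_le_normalizer _))
    have h3 : (Subgroup.centralizer (R : Set G)).index ∣ (U : Subgroup G).index :=
      Subgroup.index_dvd_of_le hUK
    exact U.not_dvd_index (h2.trans (h1.trans h3))
  have hker := Subgroup.normalizerMonoidHom_ker R
  have hidx : (Subgroup.centralizer (R : Set G)).relIndex (Subgroup.normalizer (R : Set G)) =
      R.normalizerMonoidHom.ker.index := by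
    rw [hker]; rfl
  obtain ⟨k, hk⟩ := S.2 ⟨y, hyS⟩
  have hyk : y ^ 2 ^ k = 1 := by
    have := congrArg Subtype.val hk
    simpa using this
  obtain ⟨y', hy'⟩ : ∃ y' : ↥(Subgroup.normalizer (R : Set G)), y' = ⟨y, hyN⟩ := ⟨_, rfl⟩
  have hy'k : y' ^ 2 ^ k = 1 := by
    rw [hy']
    apply Subtype.ext
    rw [Subgroup.coe_pow]
    exact hyk
  have h1 : orderOf (QuotientGroup.mk y' :
      ↥(Subgroup.normalizer (R : Set G)) ⧸ R.normalizerMonoidHom.ker) ∣ 2 ^ k := by
    apply orderOf_dvd_of_pow_eq_one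
    rw [← QuotientGroup.mk_pow, hy'k]; rfl
  have h2 : orderOf (QuotientGroup.mk y' :
      ↥(Subgroup.normalizer (R : Set G)) ⧸ R.normalizerMonoidHom.ker) ∣
      R.normalizerMonoidHom.ker.index := by
    rw [Subgroup.index_eq_card]; exact orderOf_dvd_natCard _
  have hcop : Nat.Coprime (2 ^ k) R.normalizerMonoidHom.ker.index := by
    rw [← hidx]
    exact Nat.Coprime.pow_left k ((Nat.Prime.coprime_iff_not_dvd Nat.prime_two).mpr hodd)
  have h3 := Nat.eq_one_of_dvd_coprimes hcop h1 h2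
  have h4 : (QuotientGroup.mk y' :
      ↥(Subgroup.normalizer (R : Set G)) ⧸ R.normalizerMonoidHom.ker) = 1 :=
    orderOf_eq_one_iff.mp h3
  rw [QuotientGroup.eq_one_iff, hker, Subgroup.mem_subgroupOf, hy'] at h4
  have h5 := (Subgroup.mem_centralizer_iff.mp h4) x hxR
  rw [hR]
  exact ⟨hyS, (hmemC y).mpr h5⟩

theorem central_of {G : Type*} [Group G] [Finite G]
    (hCI : ∀ S T : Sylow 2 G, S ≠ T → ∃ U : Sylow 2 G,
      (S : Subgroup G) ⊓ (T : Subgroup G) ≤
        (Subgroup.center ↥(U : Subgroup G)).map (U : Subgroup G).subtype)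
    (W U : Sylow 2 G) (x : G) (hxW : x ∈ (W : Subgroup G))
    (hUx : ∀ u ∈ (U : Subgroup G), u * x = x * u) :
    x ∈ (Subgroup.center ↥(W : Subgroup G)).map (W : Subgroup G).subtype := by
  haveI : Fact (Nat.Prime 2) := ⟨Nat.prime_two⟩
  rw [mem_center_map]
  refine ⟨hxW, ?_⟩
  have hUC : (U : Subgroup G) ≤ Subgroup.centralizer ({x} : Set G) := by
    intro u hu
    rw [Subgroup.mem_centralizer_iff]
    intro a ha
    rw [Set.mem_singleton_iff.mp ha]
    exact (hUx u hu).symm
  have h1 := claim1 hCI W x hxW U U.2 hUC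
  have h2 : Nat.card ↥(U : Subgroup G) = Nat.card ↥(W : Subgroup G) := by
    rw [Sylow.card_eq_multiplicity, Sylow.card_eq_multiplicity]
  have h3 : (W : Subgroup G) ⊓ Subgroup.centralizer ({x} : Set G) = (W : Subgroup G) :=
    Subgroup.eq_of_le_of_card_ge inf_le_left (by omega)
  intro v hv
  have h4 : v ∈ (W : Subgroup G) ⊓ Subgroup.centralizer ({x} : Set G) := by rw [h3]; exact hv
  have h5 := (Subgroup.mem_centralizer_iff.mp h4.2) x rfl
  exact h5.symm

/-- Let G be a finite group in which the intersection of any two distinct Sylow 2-subgroups is contained in the centre of some Sylow 2-subgroup, and let S be a Sylow 2-subgroup. Then for every x in S the centralizer of x in S is a Sylow 2-subgroup of the centralizer of x in G (no 2-subgroup centralizing x is larger), and for every other Sylow 2-subgroup T the intersection S ∩ T lies in both the centre of S and the centre of T. -/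
theorem result {G : Type*} [Group G] [Finite G]
    (hCI : ∀ S T : Sylow 2 G, S ≠ T → ∃ U : Sylow 2 G,
      (S : Subgroup G) ⊓ (T : Subgroup G) ≤ (Subgroup.center ↥(U : Subgroup G)).map (U : Subgroup G).subtype)
    (S : Sylow 2 G) :
    (∀ x ∈ (S : Subgroup G), ∀ P : Subgroup G, IsPGroup 2 ↥P → P ≤ Subgroup.centralizer ({x} : Set G) →
        Nat.card ↥P ≤ Nat.card ↥((S : Subgroup G) ⊓ Subgroup.centralizer ({x} : Set G))) ∧
    (∀ T : Sylow 2 G, T ≠ S →
        (S : Subgroup G) ⊓ (T : Subgroup G) ≤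
          (Subgroup.center ↥(S : Subgroup G)).map (S : Subgroup G).subtype ⊓
            (Subgroup.center ↥(T : Subgroup G)).map (T : Subgroup G).subtype) := by
  refine ⟨fun x hx P hP hPC => claim1 hCI S x hx P hP hPC, ?_⟩
  intro T hTS x hx
  obtain ⟨U, hU⟩ := hCI S T (Ne.symm hTS)
  have hxZ := (mem_center_map _ x).mp (hU hx)
  exact ⟨central_of hCI S U x hx.1 hxZ.2, central_of hCI T U x hx.2 hxZ.2⟩

end Cfsg.Agent.S3183
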