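import Mathlib
import Cfsg.Statements.S3190
import Cfsg.Agent.Lib.Helper3.PQ
import Cfsg.Agent.Lib.Helper3.Transport
import Cfsg.Agent.Lib.Helper3.CoreNorm

set_option autoImplicit false
open Cfsg
open Cfsg.Agent.Lib.Helper3

namespace Cfsg.Agent.S3190

/-- Let p be an odd prime and, inside a finite group, let P be a p-subgroup normalized by a Klein four-group T. Let R be a subgroup of P, normal in P and normalized by T, such that P is the product of R with the centralizer of T in P. If T centralizes the centre of P, then T centralizes the centre of R. -/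
theorem result {X : Type*} [Group X] [Finite X]
    {p : ℕ} (hp : p.Prime) (hodd : Odd p) (P T R : Subgroup X) (hP : IsPGroup p ↥P) (hT : IsKleinFour ↥T)
    (hTP : T ≤ Subgroup.normalizer (P : Set X)) (hRP : R ≤ P) (hRn : (R.subgroupOf P).Normal)
    (hTR : T ≤ Subgroup.normalizer (R : Set X)) (hfac : R ⊔ (P ⊓ Subgroup.centralizer (T : Set X)) = P)
    (hZ : T ≤ Subgroup.centralizer (((Subgroup.center ↥P).map P.subtype : Subgroup X) : Set X)) :
    T ≤ Subgroup.centralizer (((Subgroup.center ↥R).map R.subtype : Subgroup X) : Set X) := by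
  have : Fact p.Prime := ⟨hp⟩
  set C := P ⊓ Subgroup.centralizer (T : Set X) with hC
  set V := (Subgroup.center ↥R).map R.subtype with hV
  have hVR : V ≤ R := by
    rintro _ ⟨r, _, rfl⟩; exact r.2
  have hCp : IsPGroup p ↥C := hP.to_le inf_le_left
  have hVp : IsPGroup p ↥V := hP.to_le (hVR.trans hRP)
  have hPR : P ≤ Subgroup.normalizer (R : Set X) :=
    (Subgroup.normal_subgroupOf_iff_le_normalizer hRP).mp hRn
  have hNV : Subgroup.normalizer (R : Set X) ≤ Subgroup.normalizer (V : Set X) :=
    normalizer_le_normalizer_map_char R (Subgroup.center ↥R)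
  intro t ht
  have hto : (orderOf t).Coprime p := by
    have h1 : orderOf (⟨t, ht⟩ : T) ∣ Nat.card T := orderOf_dvd_natCard _
    rw [Subgroup.orderOf_mk, hT.card_four] at h1
    have h2 : Nat.Coprime 4 p := by
      have : Nat.Coprime 2 p := by
        rw [Nat.coprime_comm]
        exact Nat.Coprime.symm (Nat.coprime_two_left.mpr hodd)
      have e : (4 : ℕ) = 2 ^ 2 := by norm_num
      rw [e]
      exact Nat.Coprime.pow_left 2 this
    exact Nat.Coprime.coprime_dvd_left h1 h2
  have htC : t ∈ Subgroup.centralizer (C : Set X) := by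
    rw [Subgroup.mem_centralizer_iff]
    intro c hc
    have hc2 : c ∈ Subgroup.centralizer (T : Set X) := hc.2
    exact (Subgroup.mem_centralizer_iff.mp hc2 t ht).symm
  refine pq_lemma_elem hCp hto htC (Nat.card V) V le_rfl hVp
    ((inf_le_left.trans hPR).trans hNV) (hNV (hTR ht)) ?_
  rintro u ⟨huV, huC⟩
  have huC : u ∈ Subgroup.centralizer (C : Set X) := huC
  -- u is central in P
  have huP : u ∈ P := hRP (hVR huV)
  have hu_cent : P ≤ Subgroup.centralizer ({u} : Set X) := by
    rw [← hfac]
    apply sup_le
    · intro r hr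
      rw [Subgroup.mem_centralizer_iff]
      intro y hy
      rw [Set.mem_singleton_iff] at hy; subst hy
      obtain ⟨z, hz, rfl⟩ := huV
      have := Subgroup.mem_center_iff.mp hz ⟨r, hr⟩
      exact (congrArg Subtype.val this).symm
    · intro c hc
      rw [Subgroup.mem_centralizer_iff]
      intro y hy
      rw [Set.mem_singleton_iff] at hy; subst hy
      exact (Subgroup.mem_centralizer_iff.mp huC c hc).symm
  have huZ : u ∈ (Subgroup.center ↥P).map P.subtype := by
    refine ⟨⟨u, huP⟩, ?_, rfl⟩
    show (⟨u, huP⟩ : P) ∈ Subgroup.center ↥P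
    rw [Subgroup.mem_center_iff]
    intro g
    apply Subtype.ext
    exact (Subgroup.mem_centralizer_iff.mp (hu_cent g.2) u rfl).symm
  exact (Subgroup.mem_centralizer_iff.mp (hZ ht) u huZ).symm

end Cfsg.Agent.S3190
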