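import Cfsg.Statements.S3195
import Mathlib
import Cfsg.Agent.Lib.Helper2.Sidki

set_option autoImplicit false
open Cfsg

namespace Cfsg.Agent.S3195

/-- Let A be a Klein four-subgroup of a finite group G. If every G-conjugate of every involution of A commutes with some involution of A (its centralizer meets A nontrivially), then A meets the largest normal 2-subgroup O₂(G) nontrivially. -/
theorem result {G : Type*} [Group G] [Finite G]
    (A : Subgroup G) (hA : IsKleinFour ↥A)
    (h : ∀ a ∈ A, a ≠ 1 → ∀ g : G, A ⊓ Subgroup.centralizer ({g * a * g⁻¹} : Set G) ≠ ⊥) :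
    A ⊓ Cfsg.pCore 2 G ≠ ⊥ := by
  classical
  have hcard : Nat.card A = 4 := hA.card_four
  have hexp : Monoid.exponent A = 2 := hA.exponent_two
  have hsq : ∀ a ∈ A, a ^ 2 = 1 := by
    intro a ha
    have h1 : (⟨a, ha⟩ : A) ^ 2 = 1 := by rw [← hexp]; exact Monoid.pow_exponent_eq_one _
    exact congrArg Subtype.val h1
  have hcomm : ∀ a ∈ A, ∀ b ∈ A, a * b = b * a := by
    intro a ha b hb
    have h1 : (⟨a, ha⟩ : A) * ⟨b, hb⟩ = ⟨b, hb⟩ * ⟨a, ha⟩ := mul_comm_of_exponent_two hexp _ _
    exact congrArg Subtype.val h1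
  have hA1 : A ≠ ⊥ := by
    intro h0
    rw [h0] at hcard
    simp at hcard
  have hS : ∀ (t v : G), v ∈ A → Odd (orderOf t) → v * t * v⁻¹ = t⁻¹ →
      ∃ w ∈ A, w ≠ 1 ∧ w * t = t * w := by
    intro t v hv hto hvt
    by_cases hv1 : v = 1
    · -- then t = 1
      have ht : t = 1 := by
        apply Cfsg.Agent.Lib.Helper2.Sidki.eq_one_of_sq_of_odd hto
        rw [hv1] at hvt
        have h1 : t = t⁻¹ := by simpa using hvt
        rw [sq]; exact mul_eq_one_iff_eq_inv.2 h1
      obtain ⟨w, hw, hw1⟩ : ∃ w ∈ A, w ≠ 1 := by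
        by_contra hh
        push Not at hh
        exact hA1 ((Subgroup.eq_bot_iff_forall _).2 hh)
      exact ⟨w, hw, hw1, by rw [ht, mul_one, one_mul]⟩
    · obtain ⟨j, hj⟩ := hto
      obtain ⟨k, hk⟩ : ∃ k : G, k = t ^ (j + 1) := ⟨_, rfl⟩
      have hk2 : k * k = t := by
        rw [hk, ← pow_add]
        have : j + 1 + (j + 1) = orderOf t + 1 := by omega
        rw [this, pow_succ, pow_orderOf_eq_one, one_mul]
      have hvk : v * k * v⁻¹ = k⁻¹ := by
        rw [hk, ← conj_pow, hvt, inv_pow]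
      -- k⁻¹ v k = v t
      have hconj : k⁻¹ * v * k⁻¹⁻¹ = v * t := by
        have h1 : k⁻¹ * v = v * k := by
          have : v * k = k⁻¹ * v := by
            calc v * k = (v * k * v⁻¹) * v := by group
              _ = k⁻¹ * v := by rw [hvk]
          exact this.symm
        rw [inv_inv, h1, mul_assoc, hk2]
      have hne := h v hv hv1 k⁻¹
      rw [hconj] at hne
      obtain ⟨w, hw, hw1⟩ : ∃ w ∈ A ⊓ Subgroup.centralizer ({v * t} : Set G), w ≠ 1 := by
        by_contra hh
        push Not at hh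
        exact hne ((Subgroup.eq_bot_iff_forall _).2 hh)
      obtain ⟨hwA, hwC⟩ := Subgroup.mem_inf.1 hw
      rw [Subgroup.mem_centralizer_singleton_iff] at hwC
      refine ⟨w, hwA, hw1, ?_⟩
      have hwv : w * v = v * w := hcomm w hwA v hv
      have h2 : v * (w * t) = v * (t * w) := by
        calc v * (w * t) = (w * v) * t := by rw [hwv]; group
          _ = w * (v * t) := by group
          _ = (v * t) * w := hwC
          _ = v * (t * w) := by group
      exact mul_left_cancel h2
  obtain ⟨v, hvA, hv1, N, hN, hN2, hvN⟩ :=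
    Cfsg.Agent.Lib.Helper2.Sidki.sidki_four A hcomm hsq hA1 hS (le_of_eq hcard)
  intro hbot
  have hle : N ≤ Cfsg.pCore 2 G := le_sSup ⟨hN, hN2⟩
  have hmem : v ∈ A ⊓ Cfsg.pCore 2 G := ⟨hvA, hle hvN⟩
  rw [hbot] at hmem
  exact hv1 (Subgroup.mem_bot.1 hmem)


end Cfsg.Agent.S3195
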