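import Cfsg.Statements.S3824
import Mathlib
import Cfsg.Agent.S0143

set_option autoImplicit false
open Cfsg

namespace Cfsg.Agent.S3824

theorem relIndex_dvd_index_of_normal_right_h6 {G : Type*} [Group G] [Finite G] (A N : Subgroup G) [N.Normal] :
    A.relIndex N ∣ A.index := by
  have h1 : (A ⊓ N).relIndex N * N.relIndex (A ⊔ N) = (A ⊓ N).relIndex (A ⊔ N) :=
    Subgroup.relIndex_mul_relIndex _ _ _ inf_le_right le_sup_right
  have h2 : (A ⊓ N).relIndex A * A.relIndex (A ⊔ N) = (A ⊓ N).relIndex (A ⊔ N) :=
    Subgroup.relIndex_mul_relIndex _ _ _ inf_le_left le_sup_left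
  have h3 : N.relIndex (A ⊔ N) = N.relIndex A := Subgroup.relIndex_sup_right A N
  have h4 : (A ⊓ N).relIndex A = N.relIndex A := Subgroup.inf_relIndex_left A N
  have h5 : (A ⊓ N).relIndex N = A.relIndex N := Subgroup.inf_relIndex_right A N
  have hne : N.relIndex A ≠ 0 := by
    show (N.subgroupOf A).index ≠ 0
    exact Subgroup.index_ne_zero_of_finite
  have h6 : A.relIndex N = A.relIndex (A ⊔ N) := by
    rw [h3, h5] at h1
    rw [h4] at h2
    have : A.relIndex N * N.relIndex A = N.relIndex A * A.relIndex (A ⊔ N) := by rw [h1, h2]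
    rw [mul_comm] at this
    exact Nat.eq_of_mul_eq_mul_left (Nat.pos_of_ne_zero hne) this
  rw [h6]
  exact Subgroup.relIndex_dvd_index_of_le le_sup_left

theorem solv_of_abelian_two_power_index : ∀ (n : ℕ) {G : Type*} [Group G] [Finite G], Nat.card G = n →
    ∀ (A : Subgroup G), IsMulCommutative A → (∃ k : ℕ, A.index = 2 ^ k) → Group.IsSolvable G := by
  intro n
  induction n using Nat.strong_induction_on with
  | _ n ih =>
  intro G _ _ hn A hA hidx
  obtain ⟨k, hk⟩ := hidx
  by_cases hsimple : IsSimpleGroup G
  · -- simple case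
    by_cases hAbot : A = ⊥
    · -- G is a 2-group
      have hcard : Nat.card G = 2 ^ k := by
        rw [← hk, hAbot, Subgroup.index_bot]
      have hpg : IsPGroup 2 G := IsPGroup.of_card hcard
      haveI : Fact (Nat.Prime 2) := ⟨Nat.prime_two⟩
      have hnil : Group.IsNilpotent G := hpg.isNilpotent
      infer_instance
    · obtain ⟨g, hgA, hg1⟩ : ∃ g ∈ A, g ≠ 1 := by
        by_contra hcon
        push Not at hcon
        exact hAbot ((Subgroup.eq_bot_iff_forall _).mpr hcon)
      have hle : A ≤ Subgroup.centralizer ({g} : Set G) := by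
        intro a ha
        rw [Subgroup.mem_centralizer_iff]
        intro x hx
        rw [Set.mem_singleton_iff] at hx
        subst hx
        have := hA.is_comm.comm (⟨x, hgA⟩ : A) ⟨a, ha⟩
        exact congrArg Subtype.val this
      have hdvd : (Subgroup.centralizer ({g} : Set G)).index ∣ 2 ^ k := by
        rw [← hk]; exact Subgroup.index_dvd_of_le hle
      obtain ⟨j, _, hj⟩ := (Nat.dvd_prime_pow Nat.prime_two).mp hdvd
      have hprime := Cfsg.Agent.S0143.result 2 j Nat.prime_two g hg1 hj
      haveI : Fact (Nat.card G).Prime := ⟨hprime⟩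
      have hcyc : IsCyclic G := isCyclic_of_prime_card rfl
      letI := hcyc.commGroup
      infer_instance
  · -- non-simple
    by_cases htriv : Subsingleton G
    · infer_instance
    · rw [not_subsingleton_iff_nontrivial] at htriv
      obtain ⟨N, hNn, hNbot, hNtop⟩ : ∃ N : Subgroup G, N.Normal ∧ N ≠ ⊥ ∧ N ≠ ⊤ := by
        by_contra hcon
        push Not at hcon
        apply hsimple
        exact { toNontrivial := htriv, eq_bot_or_eq_top_of_normal := fun H hH => by
                  by_cases hb : H = ⊥
                  · exact Or.inl hb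
                  · exact Or.inr (hcon H hH hb) }
      haveI := hNn
      -- N solvable
      have hN_lt : Nat.card N < n := by
        rw [← hn]
        have h1 : N.index ≠ 1 := fun h => hNtop (Subgroup.index_eq_one.mp h)
        have h2 : N.index ≠ 0 := Subgroup.index_ne_zero_of_finite
        have h3 := Subgroup.card_mul_index N
        have h4 : 0 < Nat.card N := Nat.card_pos
        nlinarith [show 2 ≤ N.index by omega]
      have hNsolv : Group.IsSolvable N := by
        refine ih (Nat.card N) hN_lt rfl (A.subgroupOf N) inferInstance ?_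
        have hd : (A.subgroupOf N).index ∣ 2 ^ k := by
          rw [← hk]
          exact relIndex_dvd_index_of_normal_right_h6 A N
        obtain ⟨j, _, hj⟩ := (Nat.dvd_prime_pow Nat.prime_two).mp hd
        exact ⟨j, hj⟩
      have hQ_lt : Nat.card (G ⧸ N) < n := by
        rw [← hn, ← Subgroup.index_eq_card, ← Subgroup.index_mul_card N]
        have h1 : 1 < Nat.card N := by
          rw [Subgroup.one_lt_card_iff_ne_bot]; exact hNbot
        have h2 : 0 < N.index := Nat.pos_of_ne_zero Subgroup.index_ne_zero_of_finite
        nlinarith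
      have hQsolv : Group.IsSolvable (G ⧸ N) := by
        refine ih (Nat.card (G ⧸ N)) hQ_lt rfl (A.map (QuotientGroup.mk' N)) inferInstance ?_
        have hd : (A.map (QuotientGroup.mk' N)).index ∣ 2 ^ k := by
          rw [← hk]
          exact Subgroup.index_map_dvd A (QuotientGroup.mk'_surjective N)
        obtain ⟨j, _, hj⟩ := (Nat.dvd_prime_pow Nat.prime_two).mp hd
        exact ⟨j, hj⟩
      exact Group.isSolvable_of_ker_le_range N.subtype (QuotientGroup.mk' N) (by
        rw [QuotientGroup.ker_mk', Subgroup.range_subtype])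


/-- Every finite group having an abelian subgroup whose index is a power of 2 is solvable. -/
theorem result {G : Type*} [Group G] [Finite G]
    (A : Subgroup G) (hA : IsMulCommutative A) (hidx : ∃ k : ℕ, A.index = 2 ^ k) : Group.IsSolvable G := by
  exact solv_of_abelian_two_power_index _ rfl A hA hidx

end Cfsg.Agent.S3824
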