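import Cfsg.Statements.S3200
import Mathlib
import Cfsg.Agent.S3824
import Cfsg.Agent.S0003
import Cfsg.Agent.S0004
import Cfsg.Agent.S0005

set_option autoImplicit false
open Cfsg

namespace Cfsg.Agent.S3200


theorem exists_sylow_compl_h6 {X : Type*} [Group X] [Finite X] (D : Subgroup X)
    (hodd : (Nat.card D).Coprime 2) (j : ℕ) (hidx : D.index = 2 ^ j) :
    ∃ P : Sylow 2 X, Subgroup.IsComplement' (P : Subgroup X) D := by
  haveI : Fact (Nat.Prime 2) := ⟨Nat.prime_two⟩
  obtain ⟨P⟩ : Nonempty (Sylow 2 X) := inferInstance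
  refine ⟨P, ?_⟩
  have hX : Nat.card D * 2 ^ j = Nat.card X := by rw [← hidx]; exact D.card_mul_index
  have hDpos : Nat.card D ≠ 0 := Nat.card_pos.ne'
  have h2 : ¬ 2 ∣ Nat.card D := by
    intro h
    have := Nat.Coprime.eq_one_of_dvd hodd.symm h
    omega
  have hfac : (Nat.card X).factorization 2 = j := by
    rw [← hX, Nat.factorization_mul hDpos (by positivity), Nat.Prime.factorization_pow Nat.prime_two]
    simp [Nat.factorization_eq_zero_of_not_dvd h2]
  have hP : Nat.card (P : Subgroup X) = 2 ^ j := by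
    rw [P.card_eq_multiplicity, hfac]
  apply Subgroup.isComplement'_of_coprime
  · rw [hP, mul_comm]; exact hX
  · rw [hP]; exact (Nat.Coprime.pow_right j hodd).symm


/-- Let H be a finite group in which a Sylow 2-subgroup has an abelian complement (an abelian subgroup meeting it trivially whose product with it is all of H). Then H is solvable, and every subgroup and every quotient group of H again has a Sylow 2-subgroup with an abelian complement. -/
theorem result {H : Type*} [Group H] [Finite H]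
    (S : Sylow 2 H) (C : Subgroup H) (hC : IsMulCommutative ↥C) (hSC : Subgroup.IsComplement' (S : Subgroup H) C) :
    Group.IsSolvable H ∧
    (∀ L : Subgroup H, ∃ (P : Sylow 2 ↥L) (D : Subgroup ↥L), IsMulCommutative ↥D ∧ Subgroup.IsComplement' (P : Subgroup ↥L) D) ∧
    (∀ (N : Subgroup H) [N.Normal], ∃ (P : Sylow 2 (H ⧸ N)) (D : Subgroup (H ⧸ N)),
      IsMulCommutative ↥D ∧ Subgroup.IsComplement' (P : Subgroup (H ⧸ N)) D) := by
  classical
  haveI : Fact (Nat.Prime 2) := ⟨Nat.prime_two⟩
  have hcard : Nat.card (S : Subgroup H) * Nat.card C = Nat.card H := hSC.card_mul_card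
  obtain ⟨k, hk⟩ : ∃ k, Nat.card (S : Subgroup H) = 2 ^ k := ⟨_, S.card_eq_multiplicity⟩
  have hidx : C.index = 2 ^ k := by
    have h1 := C.card_mul_index
    have hpos : 0 < Nat.card C := Nat.card_pos
    rw [← hcard, mul_comm (Nat.card (S : Subgroup H))] at h1
    rw [← hk]
    exact Nat.eq_of_mul_eq_mul_left hpos h1
  have hSidx : (S : Subgroup H).index = Nat.card C := by
    have h1 := (S : Subgroup H).card_mul_index
    have hpos : 0 < Nat.card (S : Subgroup H) := Nat.card_pos
    rw [← hcard] at h1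
    exact Nat.eq_of_mul_eq_mul_left hpos h1
  have hCodd : (Nat.card C).Coprime 2 := by
    have h1 := S.card_coprime_index
    rw [hSidx, hk] at h1
    rcases Nat.eq_zero_or_pos k with h0 | h0
    · subst h0
      -- S trivial: card H = card C, and card S = 2^(factorization) = 1, so 2 ∤ card H
      have hS1 : Nat.card (S : Subgroup H) = 1 := by rw [hk]; simp
      have hSidx' := S.card_coprime_index
      have : ¬ 2 ∣ Nat.card C := by
        intro h2
        rw [← hSidx] at h2
        exact S.not_dvd_index h2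
      exact ((Nat.Prime.coprime_iff_not_dvd Nat.prime_two).2 this).symm
    · exact (Nat.Coprime.coprime_dvd_left (dvd_pow_self 2 h0.ne') h1).symm
  have hsolv : Group.IsSolvable H :=
    Cfsg.Agent.S3824.solv_of_abelian_two_power_index _ rfl C hC ⟨k, hidx⟩
  refine ⟨hsolv, ?_, ?_⟩
  · intro L
    haveI : Group.IsSolvable L := Group.isSolvable_of_isSolvable_injective (f := L.subtype) L.subtype_injective
    have hLpos : Nat.card L ≠ 0 := Nat.card_pos.ne'
    obtain ⟨D, hD⟩ := Cfsg.Agent.S0003.result (G := L) (ordCompl[2] (Nat.card L)) (ordProj[2] (Nat.card L))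
      (by rw [mul_comm]; exact (Nat.ordProj_mul_ordCompl_eq_self _ _).symm)
      ((Nat.coprime_ordCompl Nat.prime_two hLpos).symm.pow_right _)
    have hDodd : (Nat.card D).Coprime 2 := by
      rw [hD]; exact (Nat.coprime_ordCompl Nat.prime_two hLpos).symm
    have hDidx : D.index = 2 ^ ((Nat.card L).factorization 2) := by
      have h1 := D.card_mul_index
      have h2 := Nat.ordProj_mul_ordCompl_eq_self (Nat.card L) 2
      rw [hD] at h1
      have hpos : 0 < ordCompl[2] (Nat.card L) := Nat.ordCompl_pos 2 hLpos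
      have h3 : ordCompl[2] (Nat.card L) * D.index = ordCompl[2] (Nat.card L) * 2 ^ ((Nat.card L).factorization 2) := by
        rw [h1, mul_comm]; exact h2.symm
      exact Nat.eq_of_mul_eq_mul_left hpos h3
    obtain ⟨P, hP⟩ := exists_sylow_compl_h6 D hDodd _ hDidx
    refine ⟨P, D, ?_, hP⟩
    -- D is abelian
    have hKcard : Nat.card (D.map L.subtype) = Nat.card D :=
      Subgroup.card_map_of_injective L.subtype_injective
    obtain ⟨H', hH'card, hKH'⟩ := Cfsg.Agent.S0005.result (G := H) (Nat.card C) (2 ^ k)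
      (by rw [← hcard, hk, mul_comm]) (hCodd.pow_right k) (D.map L.subtype)
      (by rw [hKcard]; exact hDodd.pow_right k)
    obtain ⟨g, hg⟩ := Cfsg.Agent.S0004.result (G := H) (Nat.card C) (2 ^ k)
      (by rw [← hcard, hk, mul_comm]) (hCodd.pow_right k) H' C hH'card rfl
    refine ⟨⟨fun x y => ?_⟩⟩
    have hx : (x : L).1 ∈ H' := hKH' ⟨x.1, x.2, rfl⟩
    have hy : (y : L).1 ∈ H' := hKH' ⟨y.1, y.2, rfl⟩
    have hx' : g * (x : L).1 * g⁻¹ ∈ C := by
      rw [← hg]; exact ⟨_, hx, rfl⟩
    have hy' : g * (y : L).1 * g⁻¹ ∈ C := by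
      rw [← hg]; exact ⟨_, hy, rfl⟩
    have hcomm := hC.is_comm.comm ⟨_, hx'⟩ ⟨_, hy'⟩
    have hcomm' : g * (x : L).1 * g⁻¹ * (g * (y : L).1 * g⁻¹) = g * (y : L).1 * g⁻¹ * (g * (x : L).1 * g⁻¹) :=
      congrArg Subtype.val hcomm
    have : (x : L).1 * (y : L).1 = (y : L).1 * (x : L).1 := by
      have h3 : g * ((x : L).1 * (y : L).1) * g⁻¹ = g * ((y : L).1 * (x : L).1) * g⁻¹ := by
        simpa [mul_assoc] using hcomm'
      exact mul_left_cancel (mul_right_cancel h3)
    apply Subtype.ext; apply Subtype.ext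
    exact this
  · intro N _
    have hsurj : Function.Surjective (QuotientGroup.mk' N) := QuotientGroup.mk'_surjective N
    have hidx' : (C.map (QuotientGroup.mk' N)).index ∣ 2 ^ k := by
      rw [← hidx]; exact Subgroup.index_map_dvd C hsurj
    obtain ⟨j, -, hj⟩ := (Nat.dvd_prime_pow Nat.prime_two).1 hidx'
    have hodd' : (Nat.card (C.map (QuotientGroup.mk' N))).Coprime 2 :=
      Nat.Coprime.coprime_dvd_left (Subgroup.card_map_dvd C _) hCodd
    obtain ⟨P, hP⟩ := exists_sylow_compl_h6 (C.map (QuotientGroup.mk' N)) hodd' j hj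
    exact ⟨P, _, Subgroup.map_isMulCommutative C _, hP⟩

end Cfsg.Agent.S3200
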