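import Cfsg.Statements.S3201
import Mathlib
import Cfsg.Agent.Lib.Helper6.UniqInv2
import Cfsg.Agent.Lib.Helper1.PGroupMax
import Cfsg.Agent.Lib.Helper2.EA


set_option autoImplicit false
open Cfsg

namespace Cfsg.Agent.S3201

/-- Let S be a finite 2-group whose centre Z(S) has n ≥ 2 distinct maximal subgroups C₁, …, Cₙ with trivial intersection such that each quotient S/Cᵢ is a non-abelian group with exactly one involution (a generalized quaternion group). Then S is the internal direct product of an elementary abelian subgroup and a non-abelian subgroup with exactly one involution. -/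
theorem result {S : Type*} [Group S] [Finite S]
    (hS : IsPGroup 2 S) (n : ℕ) (hn : 2 ≤ n) (C : Fin n → Subgroup ↥(Subgroup.center S))
    (hCmax : ∀ i, IsCoatom (C i)) (hCinj : Function.Injective C) (hCint : ⨅ i, C i = ⊥)
    (hCq : ∀ i, ∃ (_ : ((C i).map (Subgroup.center S).subtype).Normal),
      ¬ IsMulCommutative (S ⧸ (C i).map (Subgroup.center S).subtype) ∧
      ∃! x : S ⧸ (C i).map (Subgroup.center S).subtype, orderOf x = 2) :
    ∃ E Q : Subgroup S, Cfsg.IsInternalDirectProduct E Q ⊤ ∧ Cfsg.IsElementaryAbelian 2 E ∧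
      ¬ IsMulCommutative ↥Q ∧ ∃! x : ↥Q, orderOf x = 2 := by
  classical
  have hn0' : 0 < n := by omega
  obtain ⟨i0, -⟩ : ∃ i : Fin n, i = ⟨0, hn0'⟩ := ⟨_, rfl⟩
  have hZ : IsPGroup 2 ↥(Subgroup.center S) := hS.to_subgroup _
  have hexp : ∀ w : ↥(Subgroup.center S), w ^ 2 = 1 := by
    intro w
    have h : w ^ 2 ∈ ⨅ i, C i := Subgroup.mem_iInf.2 (fun i =>
      Cfsg.Agent.Lib.Helper1.pow_mem_coatom_of_isPGroup hZ (hCmax i) w)
    rw [hCint] at h
    exact Subgroup.mem_bot.1 h
  have hexp' : ∀ z ∈ (Subgroup.center S), z * z = 1 := by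
    intro z hz
    have := congrArg Subtype.val (hexp ⟨z, hz⟩)
    simpa [pow_two] using this
  have huniq : ∀ w w' : ↥(Subgroup.center S), (∀ i, w ∉ C i) → (∀ i, w' ∉ C i) → w = w' := by
    intro w w' hw hw'
    have h : w * w' ∈ ⨅ i, C i := by
      rw [Subgroup.mem_iInf]
      intro i
      haveI := Cfsg.Agent.Lib.Helper1.coatom_normal_of_isPGroup hZ (hCmax i)
      have hc := Cfsg.Agent.Lib.Helper1.card_quotient_coatom_of_isPGroup hZ (hCmax i)
      have hidx : (C i).index = 2 := by rw [Subgroup.index_eq_card]; exact hc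
      rw [Subgroup.mul_mem_iff_of_index_two hidx]
      exact ⟨fun h => absurd h (hw i), fun h => absurd h (hw' i)⟩
    rw [hCint] at h
    have h1 : w * w' = 1 := Subgroup.mem_bot.1 h
    have h2 : w' * w' = 1 := by have := hexp w'; rwa [pow_two] at this
    calc w = w * (w' * w') := by rw [h2, mul_one]
      _ = (w * w') * w' := by rw [mul_assoc]
      _ = w' := by rw [h1, one_mul]
  have hmem : ∀ i (x : S), x ∈ (C i).map (Subgroup.center S).subtype ↔ ∃ h : x ∈ (Subgroup.center S), (⟨x, h⟩ : ↥(Subgroup.center S)) ∈ C i := by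
    intro i x; constructor
    · rintro ⟨w, hw, rfl⟩; exact ⟨w.2, hw⟩
    · rintro ⟨h, hw⟩; exact ⟨⟨x, h⟩, hw, rfl⟩
  have hCZ : ∀ i x, x ∈ (C i).map (Subgroup.center S).subtype → x ∈ (Subgroup.center S) := fun i x hx => ((hmem i x).1 hx).1
  have hK : ∀ i (x : S), x ∉ (Subgroup.center S) → x * x ∉ (C i).map (Subgroup.center S).subtype := by
    intro i x hxZ hx2
    obtain ⟨hn_i, hna_i, zq, hzq, hzqu⟩ := hCq i
    haveI := hn_i
    obtain ⟨w, hw⟩ : ∃ w : ↥(Subgroup.center S), w ∉ C i := by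
      by_contra hcon; push Not at hcon
      exact (hCmax i).1 (eq_top_iff.2 (fun w _ => hcon w))
    have hw' : (w : S) ∉ (C i).map (Subgroup.center S).subtype := by
      intro h; obtain ⟨_, h2⟩ := (hmem i _).1 h; exact hw h2
    have hmkw : orderOf (QuotientGroup.mk (w : S) : S ⧸ (C i).map (Subgroup.center S).subtype) = 2 := by
      apply orderOf_eq_prime
      · rw [← QuotientGroup.mk_pow, pow_two, hexp' _ w.2]; rfl
      · intro h; exact hw' ((QuotientGroup.eq_one_iff _).1 h)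
    have hmkx2 : (QuotientGroup.mk x : S ⧸ (C i).map (Subgroup.center S).subtype) ^ 2 = 1 := by
      rw [← QuotientGroup.mk_pow, pow_two]; exact (QuotientGroup.eq_one_iff _).2 hx2
    by_cases hx1 : (QuotientGroup.mk x : S ⧸ (C i).map (Subgroup.center S).subtype) = 1
    · exact hxZ (hCZ i x ((QuotientGroup.eq_one_iff _).1 hx1))
    · have hox := orderOf_eq_prime hmkx2 hx1
      have e : (QuotientGroup.mk x : S ⧸ (C i).map (Subgroup.center S).subtype) = QuotientGroup.mk (w : S) := by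
        rw [hzqu _ hox, hzqu _ hmkw]
      rw [QuotientGroup.eq] at e
      have h1 := hCZ i _ e
      have e2 : x = (w : S) * (x⁻¹ * w)⁻¹ := by group
      apply hxZ; rw [e2]; exact mul_mem w.2 (inv_mem h1)
  -- fix the index 0
  obtain ⟨hn0, hna0, zq, hzq, hzqu⟩ := hCq i0
  haveI := hn0
  have hQ : IsPGroup 2 (S ⧸ (C i0).map (Subgroup.center S).subtype) := hS.to_quotient _
  have hzq1 : zq ≠ 1 := by
    intro h; rw [h, orderOf_one] at hzq; omega
  have hinv : ∀ y : (S ⧸ (C i0).map (Subgroup.center S).subtype), y ^ 2 = 1 → y = 1 ∨ y = zq := by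
    intro y hy
    by_cases hy1 : y = 1
    · exact Or.inl hy1
    · exact Or.inr (hzqu y (orderOf_eq_prime hy hy1))
  have hnc : ¬ IsCyclic (S ⧸ (C i0).map (Subgroup.center S).subtype) := by
    intro hcyc
    apply hna0
    exact ⟨⟨fun a b => mul_comm' a b⟩⟩
  obtain ⟨m, hm3, hcard, a, b, hoa, hba, hb2, hbab⟩ :=
    Cfsg.Agent.Lib.Helper6.unique_involution_structure hQ zq hinv hnc
  obtain ⟨u, rfl⟩ := QuotientGroup.mk_surjective a
  obtain ⟨v, rfl⟩ := QuotientGroup.mk_surjective b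
  have hzqa : (QuotientGroup.mk u : (S ⧸ (C i0).map (Subgroup.center S).subtype)) ^ (2 ^ (m - 2)) = zq := by
    apply hzqu
    apply orderOf_eq_prime
    · rw [← pow_mul, ← pow_succ]
      have : m - 2 + 1 = m - 1 := by omega
      rw [this, ← hoa]; exact pow_orderOf_eq_one _
    · intro h
      have h1 := orderOf_dvd_of_pow_eq_one h
      rw [hoa] at h1
      have h2 := Nat.le_of_dvd (by positivity) h1
      have h3 : 2 ^ (m - 2) < 2 ^ (m - 1) := Nat.pow_lt_pow_right (by norm_num) (by omega)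
      omega
  obtain ⟨w0, hw0⟩ : ∃ w : ↥(Subgroup.center S), w ∉ C i0 := by
    by_contra hcon; push Not at hcon
    exact (hCmax i0).1 (eq_top_iff.2 (fun w _ => hcon w))
  have hw0' : (w0 : S) ∉ ((C i0).map (Subgroup.center S).subtype) := by
    intro h; obtain ⟨_, h2⟩ := (hmem _ _).1 h; exact hw0 h2
  have hmkw0 : (QuotientGroup.mk (w0 : S) : (S ⧸ (C i0).map (Subgroup.center S).subtype)) = zq := by
    apply hzqu
    apply orderOf_eq_prime
    · rw [← QuotientGroup.mk_pow, pow_two, hexp' _ w0.2]; rfl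
    · intro h; exact hw0' ((QuotientGroup.eq_one_iff _).1 h)
  have hzqZ : ∀ x : S, (QuotientGroup.mk x : (S ⧸ (C i0).map (Subgroup.center S).subtype)) = zq → x ∈ (Subgroup.center S) := by
    intro x hx
    rw [← hmkw0, QuotientGroup.eq] at hx
    have h1 := hCZ _ _ hx
    have e : x = (w0 : S) * (x⁻¹ * w0)⁻¹ := by group
    rw [e]; exact mul_mem w0.2 (inv_mem h1)
  have hZim : ∀ z ∈ (Subgroup.center S), (QuotientGroup.mk z : (S ⧸ (C i0).map (Subgroup.center S).subtype)) ∈ Subgroup.zpowers (QuotientGroup.mk u : (S ⧸ (C i0).map (Subgroup.center S).subtype)) := by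
    intro z hz
    have h2 : (QuotientGroup.mk z : (S ⧸ (C i0).map (Subgroup.center S).subtype)) ^ 2 = 1 := by
      rw [← QuotientGroup.mk_pow, pow_two, hexp' z hz]; rfl
    rcases hinv _ h2 with h | h
    · rw [h]; exact one_mem _
    · rw [h, ← hzqa]; exact pow_mem (Subgroup.mem_zpowers _) _
  have hvZ : v ∉ (Subgroup.center S) := fun h => hba (hZim v h)
  have hvuZ : v * u ∉ (Subgroup.center S) := by
    intro h
    have h1 := hZim _ h
    rw [QuotientGroup.mk_mul] at h1
    exact hba ((mul_mem_cancel_right (Subgroup.mem_zpowers _)).1 h1)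
  have hmkvv : (QuotientGroup.mk (v * v) : (S ⧸ (C i0).map (Subgroup.center S).subtype)) = zq := by
    rw [QuotientGroup.mk_mul, ← pow_two, hb2, hzqa]
  have hv2Z : v * v ∈ (Subgroup.center S) := hzqZ _ hmkvv
  have hsq : ∀ x : S, x ∉ (Subgroup.center S) → x * x ∈ (Subgroup.center S) → x * x = v * v := by
    intro x hx hx2
    have h := huniq ⟨x * x, hx2⟩ ⟨v * v, hv2Z⟩
      (fun i h => hK i x hx ((hmem i _).2 ⟨hx2, h⟩))
      (fun i h => hK i v hvZ ((hmem i _).2 ⟨hv2Z, h⟩))
    exact congrArg Subtype.val h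
  have hvv1 : (v * v) * (v * v) = 1 := hexp' _ hv2Z
  have hrel : (QuotientGroup.mk (v * u * v⁻¹) : (S ⧸ (C i0).map (Subgroup.center S).subtype)) = QuotientGroup.mk u⁻¹ := by
    simpa using hbab
  rw [QuotientGroup.eq] at hrel
  obtain ⟨d₀, hd₀⟩ : ∃ d₀, d₀ = (v * u * v⁻¹)⁻¹ * u⁻¹ := ⟨_, rfl⟩
  rw [← hd₀] at hrel
  have hd₀Z : d₀ ∈ (Subgroup.center S) := hCZ _ _ hrel
  have hvu0 : v * u * v⁻¹ = u⁻¹ * d₀⁻¹ := by rw [hd₀]; group
  have hcc : ∀ g, g * (d₀⁻¹ * (v * v)) = (d₀⁻¹ * (v * v)) * g :=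
    Subgroup.mem_center_iff.1 (mul_mem (inv_mem hd₀Z) hv2Z)
  have hvu2 : (v * u) * (v * u) = d₀⁻¹ * (v * v) := by
    calc (v * u) * (v * u) = (v * u * v⁻¹) * (v * v) * u := by group
      _ = (u⁻¹ * d₀⁻¹) * (v * v) * u := by rw [hvu0]
      _ = u⁻¹ * (d₀⁻¹ * (v * v)) * u := by group
      _ = (d₀⁻¹ * (v * v)) * u⁻¹ * u := by rw [hcc u⁻¹]
      _ = d₀⁻¹ * (v * v) := by group
  have hd₀1 : d₀⁻¹ = 1 := by
    have h1 := hsq (v * u) hvuZ (by rw [hvu2]; exact mul_mem (inv_mem hd₀Z) hv2Z)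
    rw [hvu2] at h1
    exact mul_right_cancel (h1.trans (one_mul _).symm)
  have hvu : v * u * v⁻¹ = u⁻¹ := by rw [hvu0, hd₀1, mul_one]
  have hmk1 : (QuotientGroup.mk (1 : S) : (S ⧸ (C i0).map (Subgroup.center S).subtype)) = 1 := rfl
  have hupow : u ^ (2 ^ (m - 2)) = v * v := by
    obtain ⟨x, hx⟩ : ∃ x, x = u ^ (2 ^ (m - 3)) := ⟨_, rfl⟩
    have hxx : x * x = u ^ (2 ^ (m - 2)) := by
      rw [hx, ← pow_add]
      congr 1
      have : m - 2 = (m - 3) + 1 := by omega
      rw [this, pow_succ]; ring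
    have hmk : (QuotientGroup.mk (x * x) : (S ⧸ (C i0).map (Subgroup.center S).subtype)) = zq := by
      rw [hxx, QuotientGroup.mk_pow, hzqa]
    have hxxZ : x * x ∈ (Subgroup.center S) := hzqZ _ hmk
    have hxZ : x ∉ (Subgroup.center S) := by
      intro h
      rw [hexp' x h, hmk1] at hmk
      exact hzq1 hmk.symm
    rw [← hxx]
    exact hsq x hxZ hxxZ
  have hu1 : u ^ (2 ^ (m - 1)) = 1 := by
    have : m - 1 = (m - 2) + 1 := by omega
    rw [this, pow_succ, pow_mul, hupow, pow_two]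
    exact hvv1
  obtain ⟨N, hN⟩ : ∃ N : ℤ, N = ((2 ^ (m - 2) : ℕ) : ℤ) := ⟨_, rfl⟩
  have huN : u ^ N = v * v := by rw [hN, zpow_natCast]; exact hupow
  have hconj : ∀ k : ℤ, u ^ k * v = v * u ^ (-k) := by
    intro k
    have h1 : v * u ^ (-k) * v⁻¹ = u ^ k := by
      rw [← conj_zpow, hvu, inv_zpow, zpow_neg, inv_inv]
    calc u ^ k * v = (v * u ^ (-k) * v⁻¹) * v := by rw [h1]
      _ = v * u ^ (-k) := by group
  have hvinv : v⁻¹ = v * u ^ N := by
    rw [huN]
    calc v⁻¹ = v⁻¹ * ((v * v) * (v * v)) := by rw [hvv1, mul_one]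
      _ = v * (v * v) := by group
  have hnf : ∀ g ∈ Subgroup.closure ({u, v} : Set S), ∃ k : ℤ, g = u ^ k ∨ g = v * u ^ k := by
    intro g hg
    induction hg using Subgroup.closure_induction with
    | mem x hx =>
      rcases hx with rfl | hx
      · exact ⟨1, Or.inl (zpow_one _).symm⟩
      · rw [Set.mem_singleton_iff] at hx; subst hx
        exact ⟨0, Or.inr (by rw [zpow_zero, mul_one])⟩
    | one => exact ⟨0, Or.inl (zpow_zero _).symm⟩
    | mul x y _ _ ihx ihy =>
      obtain ⟨k, hk | hk⟩ := ihx <;> obtain ⟨l, hl | hl⟩ := ihy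
      · exact ⟨k + l, Or.inl (by rw [hk, hl, zpow_add])⟩
      · refine ⟨-k + l, Or.inr ?_⟩
        rw [hk, hl, ← mul_assoc, hconj, mul_assoc, ← zpow_add]
      · exact ⟨k + l, Or.inr (by rw [hk, hl, mul_assoc, ← zpow_add])⟩
      · refine ⟨N + (-k + l), Or.inl ?_⟩
        rw [hk, hl]
        calc v * u ^ k * (v * u ^ l) = v * (u ^ k * v) * u ^ l := by simp only [mul_assoc]
          _ = v * (v * u ^ (-k)) * u ^ l := by rw [hconj]
          _ = (v * v) * (u ^ (-k) * u ^ l) := by simp only [mul_assoc]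
          _ = u ^ (N + (-k + l)) := by rw [← huN, ← zpow_add, ← zpow_add]
    | inv x _ ihx =>
      obtain ⟨k, hk | hk⟩ := ihx
      · exact ⟨-k, Or.inl (by rw [hk, zpow_neg])⟩
      · refine ⟨k + N, Or.inr ?_⟩
        rw [hk, mul_inv_rev, hvinv, ← mul_assoc, ← zpow_neg, hconj, neg_neg, mul_assoc, ← zpow_add]
  obtain ⟨Q, hQdef⟩ : ∃ Q : Subgroup S, Q = Subgroup.closure ({u, v} : Set S) := ⟨_, rfl⟩
  have huQ : u ∈ Q := by rw [hQdef]; exact Subgroup.subset_closure (by simp)
  have hvQ : v ∈ Q := by rw [hQdef]; exact Subgroup.subset_closure (by simp)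
  have hQE : ∀ g ∈ Q, g ∈ ((C i0).map (Subgroup.center S).subtype) → g = 1 := by
    intro g hgQ hgE
    rw [hQdef] at hgQ
    have hg1 : (QuotientGroup.mk g : (S ⧸ (C i0).map (Subgroup.center S).subtype)) = 1 := (QuotientGroup.eq_one_iff _).2 hgE
    obtain ⟨k, hk | hk⟩ := hnf g hgQ
    · rw [hk, QuotientGroup.mk_zpow] at hg1
      have hdvd := orderOf_dvd_iff_zpow_eq_one.2 hg1
      rw [hoa] at hdvd
      obtain ⟨j, hj⟩ := hdvd
      rw [hk, hj, zpow_mul, zpow_natCast, hu1, one_zpow]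
    · exfalso
      rw [hk, QuotientGroup.mk_mul, QuotientGroup.mk_zpow] at hg1
      apply hba
      have : (QuotientGroup.mk v : (S ⧸ (C i0).map (Subgroup.center S).subtype)) = ((QuotientGroup.mk u : (S ⧸ (C i0).map (Subgroup.center S).subtype)) ^ k)⁻¹ :=
        eq_inv_of_mul_eq_one_left hg1
      rw [this]
      exact inv_mem (zpow_mem (Subgroup.mem_zpowers _) k)
  have hidx : (Subgroup.zpowers (QuotientGroup.mk u : (S ⧸ (C i0).map (Subgroup.center S).subtype))).index = 2 := by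
    have h1 := Subgroup.card_mul_index (Subgroup.zpowers (QuotientGroup.mk u : (S ⧸ (C i0).map (Subgroup.center S).subtype)))
    rw [Nat.card_zpowers, hoa, hcard] at h1
    have h2 : (2 : ℕ) ^ m = 2 ^ (m - 1) * 2 := by
      rw [← pow_succ]; congr 1; omega
    rw [h2] at h1
    exact Nat.eq_of_mul_eq_mul_left (by positivity) h1
  have hsup : ∀ s : S, ∃ q ∈ Q, ∃ e ∈ ((C i0).map (Subgroup.center S).subtype), s = q * e := by
    intro s
    by_cases hs : (QuotientGroup.mk s : (S ⧸ (C i0).map (Subgroup.center S).subtype)) ∈ Subgroup.zpowers (QuotientGroup.mk u : (S ⧸ (C i0).map (Subgroup.center S).subtype))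
    · obtain ⟨k, hk⟩ := Subgroup.mem_zpowers_iff.1 hs
      have hk' : (QuotientGroup.mk (u ^ k) : (S ⧸ (C i0).map (Subgroup.center S).subtype)) = QuotientGroup.mk s := by rw [← hk]; simp
      rw [QuotientGroup.eq] at hk'
      exact ⟨u ^ k, zpow_mem huQ k, _, hk', by group⟩
    · have h2 : (QuotientGroup.mk v : (S ⧸ (C i0).map (Subgroup.center S).subtype))⁻¹ * QuotientGroup.mk s ∈
          Subgroup.zpowers (QuotientGroup.mk u : (S ⧸ (C i0).map (Subgroup.center S).subtype)) := by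
        rw [Subgroup.mul_mem_iff_of_index_two hidx]
        constructor
        · intro h; exact absurd (inv_mem_iff.1 h) hba
        · intro h; exact absurd h hs
      obtain ⟨k, hk⟩ := Subgroup.mem_zpowers_iff.1 h2
      have hk' : (QuotientGroup.mk (u ^ k) : (S ⧸ (C i0).map (Subgroup.center S).subtype)) = QuotientGroup.mk (v⁻¹ * s) := by
        rw [QuotientGroup.mk_mul, QuotientGroup.mk_inv, ← hk]; simp
      rw [QuotientGroup.eq] at hk'
      exact ⟨v * u ^ k, mul_mem hvQ (zpow_mem huQ k), _, hk', by group⟩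
  refine ⟨((C i0).map (Subgroup.center S).subtype), Q, ⟨le_top, le_top, ?_, ?_, ?_⟩, ?_, ?_, ?_⟩
  · intro a ha b _
    exact (Subgroup.mem_center_iff.1 (hCZ _ _ ha) b).symm
  · rw [eq_bot_iff]
    intro g hg
    rw [Subgroup.mem_inf] at hg
    exact Subgroup.mem_bot.2 (hQE g hg.2 hg.1)
  · rw [eq_top_iff]
    intro s _
    obtain ⟨q, hq, e, he, rfl⟩ := hsup s
    exact mul_mem (Subgroup.mem_sup_right hq) (Subgroup.mem_sup_left he)
  · rw [Cfsg.Agent.Lib.Helper2.isElementaryAbelian_iff]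
    constructor
    · intro x _ y hy
      exact Subgroup.mem_center_iff.1 (hCZ _ _ hy) x
    · intro a ha
      rw [pow_two]; exact hexp' a (hCZ _ _ ha)
  · intro hc
    have huv : u * v = v * u := by
      have := hc.is_comm.comm (⟨u, huQ⟩ : Q) ⟨v, hvQ⟩
      exact congrArg Subtype.val this
    have h1 : u = u⁻¹ := by
      calc u = (u * v) * v⁻¹ := by group
        _ = v * u * v⁻¹ := by rw [huv]
        _ = u⁻¹ := hvu
    have h2 : (QuotientGroup.mk u : (S ⧸ (C i0).map (Subgroup.center S).subtype)) ^ 2 = 1 := by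
      rw [← QuotientGroup.mk_pow, pow_two]
      have : u * u = 1 := by nth_rewrite 1 [h1]; exact inv_mul_cancel u
      rw [this]; rfl
    have h3 := orderOf_dvd_of_pow_eq_one h2
    rw [hoa] at h3
    have h4 := Nat.le_of_dvd (by norm_num) h3
    have h5 : 2 ^ 2 ≤ 2 ^ (m - 1) := Nat.pow_le_pow_right (by norm_num) (by omega)
    omega
  · refine ⟨⟨v * v, mul_mem hvQ hvQ⟩, ?_, ?_⟩
    · apply orderOf_eq_prime
      · apply Subtype.ext
        show (v * v) ^ 2 = 1
        rw [pow_two]; exact hvv1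
      · intro h
        have h' : v * v = 1 := congrArg Subtype.val h
        rw [h', hmk1] at hmkvv
        exact hzq1 hmkvv.symm
    · intro x hx
      have hx2 : ((x : S)) ^ 2 = 1 := by
        have := pow_orderOf_eq_one x
        rw [hx] at this
        exact congrArg Subtype.val this
      have hx1 : (x : S) ≠ 1 := by
        intro h
        have : x = 1 := Subtype.ext h
        rw [this, orderOf_one] at hx
        omega
      have hmk2 : (QuotientGroup.mk (x : S) : (S ⧸ (C i0).map (Subgroup.center S).subtype)) ^ 2 = 1 := by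
        rw [← QuotientGroup.mk_pow, hx2]; rfl
      rcases hinv _ hmk2 with h | h
      · exact absurd (hQE _ x.2 ((QuotientGroup.eq_one_iff _).1 h)) hx1
      · rw [← hmkvv, QuotientGroup.eq] at h
        have h6 := hQE _ (mul_mem (inv_mem x.2) (mul_mem hvQ hvQ)) h
        apply Subtype.ext
        show (x : S) = v * v
        calc (x : S) = (x : S) * ((x : S)⁻¹ * (v * v)) := by rw [h6, mul_one]
          _ = v * v := by group


end Cfsg.Agent.S3201
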