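import Cfsg.Statements.S3202
import Mathlib
import Cfsg.Agent.Lib.Helper6.UniqInv2


set_option autoImplicit false
open Cfsg

namespace Cfsg.Agent.S3202


theorem conj_mem_zpowers {G : Type*} [Group G] (c g : G)
    (h : g * c * g⁻¹ ∈ Subgroup.zpowers c) : ∀ n ∈ Subgroup.zpowers c, g * n * g⁻¹ ∈ Subgroup.zpowers c := by
  intro n hn
  obtain ⟨k, rfl⟩ := Subgroup.mem_zpowers_iff.1 hn
  rw [← conj_zpow]
  exact zpow_mem h k

/-- If `S` is generated by `u`, `v` and central elements, with `v u v⁻¹ = u⁻¹ d₁`, `d₁` central,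
then the commutator subgroup of `S` is contained in the cyclic group generated by `[v,u]`. -/
theorem commutator_le_zpowers {S : Type*} [Group S] (u v d₁ : S) (T : Set S)
    (hd : d₁ ∈ Subgroup.center S) (hvu : v * u * v⁻¹ = u⁻¹ * d₁)
    (hT : ∀ t ∈ T, t = u ∨ t = v ∨ t ∈ Subgroup.center S)
    (hgen : Subgroup.closure T = ⊤) :
    commutator S ≤ Subgroup.zpowers (v * u * v⁻¹ * u⁻¹) := by
  classical
  have hdc : ∀ g, g * d₁ = d₁ * g := Subgroup.mem_center_iff.1 hd
  have hdc' : ∀ g, g * d₁⁻¹ = d₁⁻¹ * g := Subgroup.mem_center_iff.1 (inv_mem hd)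
  obtain ⟨c, hc⟩ : ∃ c, c = v * u * v⁻¹ * u⁻¹ := ⟨_, rfl⟩
  rw [← hc]
  have hc1 : c = u⁻¹ * d₁ * u⁻¹ := by rw [hc, hvu]
  have hcinv : c⁻¹ = d₁⁻¹ * u * u := by
    rw [hc1]
    calc (u⁻¹ * d₁ * u⁻¹)⁻¹ = (u * d₁⁻¹) * u := by group
      _ = d₁⁻¹ * u * u := by rw [hdc' u]
  have hu : u * c * u⁻¹ = c := by
    rw [hc1]
    calc u * (u⁻¹ * d₁ * u⁻¹) * u⁻¹ = d₁ * u⁻¹ * u⁻¹ := by group
      _ = u⁻¹ * d₁ * u⁻¹ := by rw [hdc u⁻¹]
  have hu' : u⁻¹ * c * u = c := by
    calc u⁻¹ * c * u = u⁻¹ * (u * c * u⁻¹) * u := by rw [hu]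
      _ = c := by group
  have hv : v * c * v⁻¹ = c⁻¹ := by
    have e1 : v * u⁻¹ * v⁻¹ = (u⁻¹ * d₁)⁻¹ := by rw [← hvu]; group
    have e2 : v * d₁ * v⁻¹ = d₁ := by rw [hdc v]; group
    rw [hcinv, hc1]
    calc v * (u⁻¹ * d₁ * u⁻¹) * v⁻¹ = (v * u⁻¹ * v⁻¹) * (v * d₁ * v⁻¹) * (v * u⁻¹ * v⁻¹) := by group
      _ = (u⁻¹ * d₁)⁻¹ * d₁ * (u⁻¹ * d₁)⁻¹ := by rw [e1, e2]
      _ = d₁⁻¹ * u * u := by group
  have hv' : v⁻¹ * c * v = c⁻¹ := by
    have : c = v⁻¹ * c⁻¹ * v := by
      calc c = v⁻¹ * (v * c * v⁻¹) * v := by group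
        _ = v⁻¹ * c⁻¹ * v := by rw [hv]
    calc v⁻¹ * c * v = (v⁻¹ * c⁻¹ * v)⁻¹ := by group
      _ = c⁻¹ := by rw [← this]
  have hcK : c ∈ Subgroup.zpowers c := Subgroup.mem_zpowers c
  have hcK' : c⁻¹ ∈ Subgroup.zpowers c := inv_mem hcK
  -- normality
  have hTn : T ⊆ (Subgroup.normalizer (Subgroup.zpowers c : Set S) : Set S) := by
    intro t ht
    have key : (t * c * t⁻¹ ∈ Subgroup.zpowers c) ∧ (t⁻¹ * c * t⁻¹⁻¹ ∈ Subgroup.zpowers c) := by
      rcases hT t ht with rfl | rfl | htc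
      · rw [hu, inv_inv, hu']; exact ⟨hcK, hcK⟩
      · rw [hv, inv_inv, hv']; exact ⟨hcK', hcK'⟩
      · have h1 : ∀ g, g * t = t * g := Subgroup.mem_center_iff.1 htc
        have e1 : t * c * t⁻¹ = c := by rw [← h1 c]; group
        have e2 : t⁻¹ * c * t⁻¹⁻¹ = c := by rw [inv_inv, mul_assoc, h1 c]; group
        rw [e1, e2]; exact ⟨hcK, hcK⟩
    rw [SetLike.mem_coe, Subgroup.mem_normalizer_iff]
    intro h
    constructor
    · intro hh; exact conj_mem_zpowers c t key.1 h hh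
    · intro hh
      have := conj_mem_zpowers c t⁻¹ key.2 _ hh
      have e : t⁻¹ * (t * h * t⁻¹) * t⁻¹⁻¹ = h := by group
      rwa [e] at this
  have hnorm : (Subgroup.zpowers c).Normal := by
    rw [← Subgroup.normalizer_eq_top_iff, eq_top_iff, ← hgen]
    exact (Subgroup.closure_le _).2 hTn
  haveI := hnorm
  -- the quotient is commutative
  obtain ⟨T', hT'⟩ : ∃ T' : Set (S ⧸ Subgroup.zpowers c),
      T' = (QuotientGroup.mk' (Subgroup.zpowers c)) '' T := ⟨_, rfl⟩
  have hgen' : Subgroup.closure T' = ⊤ := by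
    rw [hT', ← MonoidHom.map_closure, hgen]
    exact Subgroup.map_top_of_surjective _ (QuotientGroup.mk'_surjective _)
  have hmkuv : (QuotientGroup.mk' (Subgroup.zpowers c)) v * (QuotientGroup.mk' (Subgroup.zpowers c)) u
      = (QuotientGroup.mk' (Subgroup.zpowers c)) u * (QuotientGroup.mk' (Subgroup.zpowers c)) v := by
    rw [← map_mul, ← map_mul]
    show (QuotientGroup.mk (v * u) : S ⧸ Subgroup.zpowers c) = QuotientGroup.mk (u * v)
    rw [QuotientGroup.eq]
    have e : (v * u)⁻¹ * (u * v) = u⁻¹ * (v⁻¹ * c⁻¹ * v) * u := by rw [hc]; group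
    have e3 : v⁻¹ * c⁻¹ * v = c := by
      calc v⁻¹ * c⁻¹ * v = (v⁻¹ * c * v)⁻¹ := by group
        _ = c := by rw [hv', inv_inv]
    rw [e, e3, hu']
    exact hcK
  have hcomm : ∀ x ∈ T', ∀ y ∈ T', y * x = x * y := by
    rw [hT']
    rintro _ ⟨x, hx, rfl⟩ _ ⟨y, hy, rfl⟩
    have hcen : ∀ z : S, z ∈ Subgroup.center S → ∀ w : S,
        (QuotientGroup.mk' (Subgroup.zpowers c)) w * (QuotientGroup.mk' (Subgroup.zpowers c)) z
        = (QuotientGroup.mk' (Subgroup.zpowers c)) z * (QuotientGroup.mk' (Subgroup.zpowers c)) w := by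
      intro z hz w
      rw [← map_mul, ← map_mul, Subgroup.mem_center_iff.1 hz w]
    rcases hT x hx with rfl | rfl | hxc
    · rcases hT y hy with rfl | rfl | hyc
      · rfl
      · exact hmkuv
      · exact (hcen y hyc _).symm
    · rcases hT y hy with rfl | rfl | hyc
      · exact hmkuv.symm
      · rfl
      · exact (hcen y hyc _).symm
    · exact hcen x hxc _
  have hle : Subgroup.closure T' ≤ Subgroup.centralizer T' := by
    rw [Subgroup.closure_le]
    intro x hx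
    rw [SetLike.mem_coe, Subgroup.mem_centralizer_iff]
    intro y hy
    exact hcomm x hx y hy
  have hcent : Subgroup.centralizer T' = ⊤ := by
    rw [eq_top_iff, ← hgen']; exact hle
  have hsub : T' ⊆ (Subgroup.center (S ⧸ Subgroup.zpowers c) : Set _) :=
    Subgroup.centralizer_eq_top_iff_subset.1 hcent
  have hcenter : Subgroup.center (S ⧸ Subgroup.zpowers c) = ⊤ := by
    rw [eq_top_iff, ← hgen']
    exact (Subgroup.closure_le _).2 hsub
  rw [commutator_def, Subgroup.commutator_le]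
  intro g₁ _ g₂ _
  rw [commutatorElement_def, ← QuotientGroup.eq_one_iff]
  show (QuotientGroup.mk' (Subgroup.zpowers c)) (g₁ * g₂ * g₁⁻¹ * g₂⁻¹) = 1
  rw [map_mul, map_mul, map_mul, map_inv, map_inv]
  have : (QuotientGroup.mk' (Subgroup.zpowers c)) g₂ ∈ Subgroup.center _ := by
    rw [hcenter]; exact Subgroup.mem_top _
  have h12 := Subgroup.mem_center_iff.1 this ((QuotientGroup.mk' (Subgroup.zpowers c)) g₁)
  rw [h12]
  group
/-- Let S be a finite 2-group of 2-rank exactly 2 and D a maximal subgroup of the centre of S such that S/D is a non-abelian group with exactly one involution (a generalized quaternion group). Then S has a nontrivial cyclic characteristic subgroup. -/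
theorem result {S : Type*} [Group S]
    [Finite S] (hS : IsPGroup 2 S) (hr2 : Cfsg.PRankLE 2 2 S) (hr1 : ¬ Cfsg.PRankLE 2 1 S)
    (D : Subgroup ↥(Subgroup.center S)) (hD : IsCoatom D)
    (hq : ∃ (_ : (D.map (Subgroup.center S).subtype).Normal),
      ¬ IsMulCommutative (S ⧸ D.map (Subgroup.center S).subtype) ∧
      ∃! x : S ⧸ D.map (Subgroup.center S).subtype, orderOf x = 2) :
    ∃ C : Subgroup S, C ≠ ⊥ ∧ IsCyclic ↥C ∧ C.Characteristic := by
  classical
  obtain ⟨hDn, hna, hex⟩ := hq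
  haveI := hDn
  obtain ⟨D', hD'⟩ : ∃ D' : Subgroup S, D' = D.map (Subgroup.center S).subtype := ⟨_, rfl⟩
  have hD'c : ∀ x ∈ D.map (Subgroup.center S).subtype, x ∈ Subgroup.center S := by
    rintro _ ⟨y, _, rfl⟩
    exact y.2
  have hQ : IsPGroup 2 (S ⧸ D.map (Subgroup.center S).subtype) := hS.to_quotient _
  obtain ⟨z, hz, hzu⟩ := hex
  have hinv : ∀ x : S ⧸ D.map (Subgroup.center S).subtype, x ^ 2 = 1 → x = 1 ∨ x = z := by
    intro x hx
    by_cases hx1 : x = 1
    · exact Or.inl hx1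
    · exact Or.inr (hzu x (orderOf_eq_prime hx hx1))
  have hnc : ¬ IsCyclic (S ⧸ D.map (Subgroup.center S).subtype) := by
    intro hcyc
    apply hna
    exact ⟨⟨fun a b => mul_comm' a b⟩⟩
  obtain ⟨n, hn3, hcard, a, b, hoa, hba, -, hbab⟩ :=
    Cfsg.Agent.Lib.Helper6.unique_involution_structure hQ z hinv hnc
  obtain ⟨u, rfl⟩ := QuotientGroup.mk_surjective a
  obtain ⟨v, rfl⟩ := QuotientGroup.mk_surjective b
  -- index two
  have hidx : (Subgroup.zpowers (QuotientGroup.mk u : S ⧸ D.map (Subgroup.center S).subtype)).index = 2 := by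
    have h1 := Subgroup.card_mul_index
      (Subgroup.zpowers (QuotientGroup.mk u : S ⧸ D.map (Subgroup.center S).subtype))
    rw [Nat.card_zpowers, hoa, hcard] at h1
    have h2 : (2 : ℕ) ^ n = 2 ^ (n - 1) * 2 := by
      rw [← pow_succ]; congr 1; omega
    rw [h2] at h1
    exact Nat.eq_of_mul_eq_mul_left (by positivity) h1
  -- the relation
  have hrel : (QuotientGroup.mk (v * u * v⁻¹) : S ⧸ D.map (Subgroup.center S).subtype)
      = QuotientGroup.mk u⁻¹ := by
    simpa using hbab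
  rw [QuotientGroup.eq] at hrel
  obtain ⟨d₀, hd₀⟩ : ∃ d₀, d₀ = (v * u * v⁻¹)⁻¹ * u⁻¹ := ⟨_, rfl⟩
  rw [← hd₀] at hrel
  have hd₁c : d₀⁻¹ ∈ Subgroup.center S := inv_mem (hD'c d₀ hrel)
  have hvu : v * u * v⁻¹ = u⁻¹ * d₀⁻¹ := by
    rw [hd₀]; group
  -- generation
  obtain ⟨T, hT⟩ : ∃ T : Set S, T = {u, v} ∪ (D.map (Subgroup.center S).subtype : Set S) := ⟨_, rfl⟩
  have huT : u ∈ Subgroup.closure T := Subgroup.subset_closure (by rw [hT]; simp)
  have hvT : v ∈ Subgroup.closure T := Subgroup.subset_closure (by rw [hT]; simp)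
  have hDT : ∀ d ∈ D.map (Subgroup.center S).subtype, d ∈ Subgroup.closure T := fun d hd =>
    Subgroup.subset_closure (by rw [hT]; exact Or.inr hd)
  have hgen : Subgroup.closure T = ⊤ := by
    rw [eq_top_iff]
    intro s _
    by_cases hs : (QuotientGroup.mk s : S ⧸ D.map (Subgroup.center S).subtype) ∈
        Subgroup.zpowers (QuotientGroup.mk u : S ⧸ D.map (Subgroup.center S).subtype)
    · obtain ⟨k, hk⟩ := Subgroup.mem_zpowers_iff.1 hs
      have hk' : (QuotientGroup.mk (u ^ k) : S ⧸ D.map (Subgroup.center S).subtype)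
          = QuotientGroup.mk s := by
        rw [← hk]; simp
      rw [QuotientGroup.eq] at hk'
      have e : s = u ^ k * ((u ^ k)⁻¹ * s) := by group
      rw [e]
      exact mul_mem (zpow_mem huT k) (hDT _ hk')
    · have h2 : (QuotientGroup.mk v : S ⧸ D.map (Subgroup.center S).subtype)⁻¹ * QuotientGroup.mk s ∈
          Subgroup.zpowers (QuotientGroup.mk u : S ⧸ D.map (Subgroup.center S).subtype) := by
        rw [Subgroup.mul_mem_iff_of_index_two hidx]
        constructor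
        · intro h; exact absurd (inv_mem_iff.1 h) hba
        · intro h; exact absurd h hs
      obtain ⟨k, hk⟩ := Subgroup.mem_zpowers_iff.1 h2
      have hk' : (QuotientGroup.mk (u ^ k) : S ⧸ D.map (Subgroup.center S).subtype)
          = QuotientGroup.mk (v⁻¹ * s) := by
        rw [QuotientGroup.mk_mul, QuotientGroup.mk_inv, ← hk]; simp
      rw [QuotientGroup.eq] at hk'
      have e : s = v * u ^ k * ((u ^ k)⁻¹ * (v⁻¹ * s)) := by group
      rw [e]
      exact mul_mem (mul_mem hvT (zpow_mem huT k)) (hDT _ hk')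
  have hTT : ∀ t ∈ T, t = u ∨ t = v ∨ t ∈ Subgroup.center S := by
    intro t ht
    rw [hT] at ht
    rcases ht with ht | ht
    · rcases ht with rfl | ht
      · exact Or.inl rfl
      · exact Or.inr (Or.inl ht)
    · exact Or.inr (Or.inr (hD'c t ht))
  have hle := commutator_le_zpowers u v d₀⁻¹ T hd₁c hvu hTT hgen
  refine ⟨commutator S, ?_, ?_, ?_⟩
  · intro hbot
    apply hna
    refine ⟨⟨fun x y => ?_⟩⟩
    obtain ⟨x, rfl⟩ := QuotientGroup.mk_surjective x
    obtain ⟨y, rfl⟩ := QuotientGroup.mk_surjective y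
    rw [← QuotientGroup.mk_mul, ← QuotientGroup.mk_mul]
    congr 1
    have hxy : x * y * x⁻¹ * y⁻¹ ∈ commutator S := by
      rw [commutator_def, ← commutatorElement_def]
      exact Subgroup.commutator_mem_commutator (Subgroup.mem_top x) (Subgroup.mem_top y)
    rw [hbot] at hxy
    have h1 := Subgroup.mem_bot.1 hxy
    calc x * y = (x * y * x⁻¹ * y⁻¹) * (y * x) := by group
      _ = y * x := by rw [h1, one_mul]
  · have h1 : IsCyclic ↥((commutator S).subgroupOf (Subgroup.zpowers (v * u * v⁻¹ * u⁻¹))) :=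
      inferInstance
    exact isCyclic_of_surjective (Subgroup.subgroupOfEquivOfLe hle).toMonoidHom
      (Subgroup.subgroupOfEquivOfLe hle).surjective
  · rw [commutator_def]
    exact Subgroup.commutator_characteristic ⊤ ⊤


end Cfsg.Agent.S3202
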