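import Mathlib
import Cfsg.Statements.S3203
import Cfsg.Agent.Lib.Helper7.Conj
import Cfsg.Agent.Lib.Helper9.SylowConj

set_option autoImplicit false
open Cfsg

namespace Cfsg.Agent.S3203

open Cfsg.Agent.Lib.Helper7

variable {G : Type*} [Group G]

/-- Elementary abelian 2-subgroup, elementwise. -/
def Elab (E : Subgroup G) : Prop :=
  (∀ x ∈ E, ∀ y ∈ E, x * y = y * x) ∧ ∀ x ∈ E, x ^ 2 = 1


theorem elab_conj {E : Subgroup G} (hE : Elab E) (g : G) : Elab (E.map ((MulAut.conj g).toMonoidHom)) := by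
  constructor
  · rintro _ ⟨x, hx, rfl⟩ _ ⟨y, hy, rfl⟩
    rw [← map_mul, ← map_mul, hE.1 x hx y hy]
  · rintro _ ⟨x, hx, rfl⟩
    rw [← map_pow, hE.2 x hx, map_one]

theorem conj_inv_conj (E : Subgroup G) (g : G) : (E.map ((MulAut.conj g).toMonoidHom)).map ((MulAut.conj g⁻¹).toMonoidHom) = E := by
  rw [← map_conj_mul, inv_mul_cancel, map_conj_one]

theorem conj_conj_inv (E : Subgroup G) (g : G) : (E.map ((MulAut.conj g⁻¹).toMonoidHom)).map ((MulAut.conj g).toMonoidHom) = E := by
  rw [← map_conj_mul, mul_inv_cancel, map_conj_one]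

theorem conj_le_of_mem_normalizer {S E : Subgroup G} (hES : E ≤ S) {n : G}
    (hn : n ∈ Subgroup.normalizer (S : Set G)) : E.map ((MulAut.conj n).toMonoidHom) ≤ S := by
  have := (map_conj_eq_self_iff S n).2 hn
  rw [← this]
  exact Subgroup.map_mono hES

theorem conj_self_of_mem {E : Subgroup G} {a : G} (ha : a ∈ E) : E.map ((MulAut.conj a).toMonoidHom) = E :=
  (map_conj_eq_self_iff E a).2 (Subgroup.le_normalizer ha)

theorem conj_injective {X Y : Subgroup G} {g : G} (h : X.map ((MulAut.conj g).toMonoidHom) = Y.map ((MulAut.conj g).toMonoidHom)) : X = Y := by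
  have h1 : (X.map (MulAut.conj g).toMonoidHom).map (MulAut.conj g⁻¹).toMonoidHom =
      (Y.map (MulAut.conj g).toMonoidHom).map (MulAut.conj g⁻¹).toMonoidHom := by rw [h]
  rwa [conj_inv_conj, conj_inv_conj] at h1

section core
variable [Finite G]

/-- conjugating by an element of `N(S)` permutes `{A', B'}` -/
theorem conj_cases (S A' B' : Subgroup G) (hAS : A' ≤ S) (hBS : B' ≤ S)
    (hAe : Elab A') (hBe : Elab B')
    (hAmax : ∀ E : Subgroup G, E ≤ S → Elab E → A' ≤ E → E = A')
    (hE1 : ∀ E : Subgroup G, E ≤ S → Elab E → E ≤ A' ∨ E ≤ B')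
    (n : G) (hn : n ∈ Subgroup.normalizer (S : Set G)) :
    A'.map ((MulAut.conj n).toMonoidHom) = A' ∨ A'.map ((MulAut.conj n).toMonoidHom) = B' := by
  have hES : A'.map ((MulAut.conj n).toMonoidHom) ≤ S := conj_le_of_mem_normalizer hAS hn
  rcases hE1 _ hES (elab_conj hAe n) with h | h
  · left
    apply Subgroup.eq_of_le_of_card_ge h
    rw [card_map_conj]
  · right
    have hn' : n⁻¹ ∈ Subgroup.normalizer (S : Set G) := Subgroup.inv_mem _ hn
    have h1 : A' ≤ B'.map ((MulAut.conj n⁻¹).toMonoidHom) := by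
      have := Subgroup.map_mono (f := (MulAut.conj n⁻¹).toMonoidHom) h
      rwa [conj_inv_conj] at this
    have h2 : B'.map ((MulAut.conj n⁻¹).toMonoidHom) ≤ S := conj_le_of_mem_normalizer hBS hn'
    have h3 := hAmax _ h2 (elab_conj hBe _) h1
    rw [← h3, conj_conj_inv]

theorem core (S : Sylow 2 G) (A' B' : Subgroup G) (hAS : A' ≤ S) (hBS : B' ≤ S)
    (hAe : Elab A') (hBe : Elab B') (hne : A' ≠ B')
    (hAmax : ∀ E : Subgroup G, E ≤ S → Elab E → A' ≤ E → E = A')
    (hBmax : ∀ E : Subgroup G, E ≤ S → Elab E → B' ≤ E → E = B')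
    (hE1 : ∀ E : Subgroup G, E ≤ S → Elab E → E ≤ A' ∨ E ≤ B')
    (hprod : ∀ s ∈ (S : Subgroup G), ∃ a ∈ A', ∃ b ∈ B', s = a * b) :
    Cfsg.IsWeaklyClosed A' (S : Subgroup G) ∧
      Subgroup.normalizer ((S : Subgroup G) : Set G) ≤ Subgroup.normalizer (A' : Set G) ∧
      Subgroup.normalizer ((S : Subgroup G) : Set G) ≤ Subgroup.normalizer (B' : Set G) := by
  have hE1' : ∀ E : Subgroup G, E ≤ S → Elab E → E ≤ B' ∨ E ≤ A' :=
    fun E h1 h2 => (hE1 E h1 h2).symm
  have hSN : (S : Subgroup G) ≤ Subgroup.normalizer ((S : Subgroup G) : Set G) :=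
    Subgroup.le_normalizer
  have casesA := conj_cases (S : Subgroup G) A' B' hAS hBS hAe hBe hAmax hE1
  have casesB := conj_cases (S : Subgroup G) B' A' hBS hAS hBe hAe hBmax hE1'
  -- (s2) S normalizes A' and B'
  have hSA : ∀ s ∈ (S : Subgroup G), A'.map ((MulAut.conj s).toMonoidHom) = A' := by
    intro s hs
    obtain ⟨a, ha, b, hb, rfl⟩ := hprod s hs
    have hbA : A'.map ((MulAut.conj b).toMonoidHom) = A' := by
      rcases casesA b (hSN (hBS hb)) with h | h
      · exact h
      · exfalso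
        apply hne
        have h2 : B'.map ((MulAut.conj b).toMonoidHom) = B' := conj_self_of_mem hb
        rw [← h2] at h
        exact conj_injective h
    rw [map_conj_mul, hbA, conj_self_of_mem ha]
  have hSB : ∀ s ∈ (S : Subgroup G), B'.map ((MulAut.conj s).toMonoidHom) = B' := by
    intro s hs
    obtain ⟨a, ha, b, hb, rfl⟩ := hprod s hs
    have haB : B'.map ((MulAut.conj a).toMonoidHom) = B' := by
      rcases casesB a (hSN (hAS ha)) with h | h
      · exact h
      · exfalso
        apply hne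
        have h2 : A'.map ((MulAut.conj a).toMonoidHom) = A' := conj_self_of_mem ha
        rw [← h2] at h
        exact (conj_injective h).symm
    rw [map_conj_mul, conj_self_of_mem hb, haB]
  -- (s3) N(S) normalizes A' and B'
  have swap_false : ∀ n ∈ Subgroup.normalizer ((S : Subgroup G) : Set G),
      A'.map ((MulAut.conj n).toMonoidHom) = B' → False := by
    intro n hn hAB
    have hBA : B'.map ((MulAut.conj n).toMonoidHom) = A' := by
      rcases casesB n hn with h | h
      · exfalso
        apply hne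
        rw [← h] at hAB
        exact conj_injective hAB
      · exact h
    -- odd powers of n swap
    have hpow : ∀ j : ℕ, A'.map (MulAut.conj (n ^ (2 * j + 1))).toMonoidHom = B' := by
      intro j
      induction j with
      | zero => simpa using hAB
      | succ j ih =>
        have e : n ^ (2 * (j + 1) + 1) = n * n * n ^ (2 * j + 1) := by
          rw [show 2 * (j + 1) + 1 = 2 + (2 * j + 1) by ring, pow_add, pow_two]
        rw [e, map_conj_mul, ih, map_conj_mul, hBA, hAB]
    obtain ⟨e, m, hm, hem⟩ := Nat.exists_eq_two_pow_mul_odd (orderOf_pos n).ne'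
    obtain ⟨j, hj⟩ := hm
    set n₁ := n ^ m with hn₁
    have hn₁N : n₁ ∈ Subgroup.normalizer ((S : Subgroup G) : Set G) := Subgroup.pow_mem _ hn m
    have hn₁o : n₁ ^ (2 ^ e) = 1 := by
      rw [hn₁, ← pow_mul, mul_comm, ← hem]
      exact pow_orderOf_eq_one n
    have hz : IsPGroup 2 (Subgroup.zpowers n₁) := by
      intro x
      obtain ⟨y, hy⟩ := x
      obtain ⟨i, rfl⟩ := Subgroup.mem_zpowers_iff.1 hy
      refine ⟨e, ?_⟩
      apply Subtype.ext
      simp only [Subgroup.coe_pow, Subgroup.coe_one]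
      rw [← zpow_natCast, ← zpow_mul, mul_comm, zpow_mul, zpow_natCast, hn₁o, one_zpow]
    have hzN : Subgroup.zpowers n₁ ≤ Subgroup.normalizer ((S : Subgroup G) : Set G) :=
      Subgroup.zpowers_le.2 hn₁N
    have hsup : IsPGroup 2 ↥(Subgroup.zpowers n₁ ⊔ (S : Subgroup G)) :=
      hz.to_sup_of_normal_right' S.isPGroup' hzN
    have hmax := S.is_maximal' hsup le_sup_right
    have hn₁S : n₁ ∈ (S : Subgroup G) := by
      rw [← hmax]
      exact Subgroup.mem_sup_left (Subgroup.mem_zpowers n₁)
    have h1 := hSA n₁ hn₁S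
    have h2 := hpow j
    rw [← hj, ← hn₁] at h2
    exact hne (h1.symm.trans h2)
  have hNA : Subgroup.normalizer ((S : Subgroup G) : Set G) ≤ Subgroup.normalizer (A' : Set G) := by
    intro n hn
    rw [← map_conj_eq_self_iff]
    rcases casesA n hn with h | h
    · exact h
    · exact (swap_false n hn h).elim
  have hNB : Subgroup.normalizer ((S : Subgroup G) : Set G) ≤ Subgroup.normalizer (B' : Set G) := by
    intro n hn
    rw [← map_conj_eq_self_iff]
    rcases casesB n hn with h | h
    · exact h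
    · exfalso
      have hn' : n⁻¹ ∈ Subgroup.normalizer ((S : Subgroup G) : Set G) := Subgroup.inv_mem _ hn
      apply swap_false n⁻¹ hn'
      rw [← h, conj_inv_conj]
  refine ⟨⟨hAS, ?_⟩, hNA, hNB⟩
  -- (s4) weak closure
  intro g hgS
  set E := A'.map ((MulAut.conj g).toMonoidHom) with hE
  have hEe : Elab E := elab_conj hAe g
  have hScard : Nat.card (S : Subgroup G) = 2 ^ (Nat.card G).factorization 2 :=
    S.card_eq_multiplicity
  -- the Sylow trick inside N(E)
  have trick : ∀ D : Subgroup G, IsPGroup 2 D → D ≤ Subgroup.normalizer (E : Set G) →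
      ∃ n ∈ Subgroup.normalizer (E : Set G), (D.map ((MulAut.conj n).toMonoidHom)).map ((MulAut.conj g⁻¹).toMonoidHom) ≤ S := by
    intro D hDp hDN
    have hRN : (S : Subgroup G).map ((MulAut.conj g).toMonoidHom) ≤ Subgroup.normalizer (E : Set G) := by
      rintro _ ⟨s, hs, rfl⟩
      rw [← map_conj_eq_self_iff]
      show E.map ((MulAut.conj (g * s * g⁻¹)).toMonoidHom) = E
      rw [hE, ← map_conj_mul, show g * s * g⁻¹ * g = g * s by group, map_conj_mul, hSA s hs]
    have hRcard : Nat.card ((S : Subgroup G).map ((MulAut.conj g).toMonoidHom)) =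
        2 ^ (Nat.card (Subgroup.normalizer (E : Set G))).factorization 2 := by
      apply Cfsg.Agent.Lib.Helper9.sylow_card_of_le 2 hRN (le_top : _ ≤ (⊤ : Subgroup G))
      rw [Subgroup.card_top, card_map_conj]
      exact hScard
    obtain ⟨m, hmN, hm⟩ :=
      Cfsg.Agent.Lib.Helper9.exists_conj_le_of_sylow_card 2 hRN hDN hDp hRcard
    refine ⟨m, hmN, ?_⟩
    have := Subgroup.map_mono (f := (MulAut.conj g⁻¹).toMonoidHom) hm
    rwa [conj_inv_conj] at this
  rcases hE1 E hgS hEe with hEA | hEB
  · apply Subgroup.eq_of_le_of_card_ge hEA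
    rw [hE, card_map_conj]
  · exfalso
    -- B' ≤ N(E)
    have hBN : B' ≤ Subgroup.normalizer (E : Set G) := by
      intro b hb
      rw [Subgroup.mem_normalizer_iff]
      intro x
      constructor
      · intro hx
        have : b * x * b⁻¹ = x := by
          rw [hBe.1 b hb x (hEB hx)]; group
        rw [this]; exact hx
      · intro hx
        have h1 : b * x * b⁻¹ ∈ B' := hEB hx
        have h2 : x ∈ B' := by
          have := B'.mul_mem (B'.mul_mem (B'.inv_mem hb) h1) hb
          have e : b⁻¹ * (b * x * b⁻¹) * b = x := by group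
          rwa [e] at this
        have : b * x * b⁻¹ = x := by
          rw [hBe.1 b hb x h2]; group
        rwa [this] at hx
    have hBp : IsPGroup 2 B' := S.isPGroup'.to_le hBS
    obtain ⟨n, hnN, hn⟩ := trick B' hBp hBN
    have hnE : E.map ((MulAut.conj n).toMonoidHom) = E := (map_conj_eq_self_iff E n).2 hnN
    have hEA' : (E.map ((MulAut.conj n).toMonoidHom)).map ((MulAut.conj g⁻¹).toMonoidHom) = A' := by
      rw [hnE, hE, conj_inv_conj]
    have hle : A' ≤ (B'.map ((MulAut.conj n).toMonoidHom)).map ((MulAut.conj g⁻¹).toMonoidHom) := by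
      rw [← hEA']
      exact Subgroup.map_mono (Subgroup.map_mono hEB)
    have hBe' : Elab ((B'.map ((MulAut.conj n).toMonoidHom)).map ((MulAut.conj g⁻¹).toMonoidHom)) := elab_conj (elab_conj hBe _) _
    have h3 := hAmax _ hn hBe' hle
    -- so B'^(g⁻¹ n) = A' = E^(g⁻¹ n), hence E = B'
    have hEB' : E = B' := by
      have h4 : (E.map ((MulAut.conj n).toMonoidHom)).map ((MulAut.conj g⁻¹).toMonoidHom) = (B'.map ((MulAut.conj n).toMonoidHom)).map ((MulAut.conj g⁻¹).toMonoidHom) := by
        rw [hEA', h3]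
      exact conj_injective (conj_injective h4)
    -- Burnside's argument
    have hSN' : (S : Subgroup G) ≤ Subgroup.normalizer (E : Set G) := by
      intro s hs
      rw [← map_conj_eq_self_iff, hEB']
      exact hSB s hs
    obtain ⟨n2, hn2N, hn2⟩ := trick (S : Subgroup G) S.isPGroup' hSN'
    have hh : ((S : Subgroup G).map ((MulAut.conj n2).toMonoidHom)).map ((MulAut.conj g⁻¹).toMonoidHom) = S := by
      apply Subgroup.eq_of_le_of_card_ge hn2
      rw [card_map_conj, card_map_conj]
    rw [← map_conj_mul] at hh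
    have hhN : g⁻¹ * n2 ∈ Subgroup.normalizer ((S : Subgroup G) : Set G) :=
      (map_conj_eq_self_iff _ _).1 hh
    have h5 : B'.map ((MulAut.conj (g⁻¹ * n2)).toMonoidHom) = B' := (map_conj_eq_self_iff _ _).2 (hNB hhN)
    have h6 : B'.map ((MulAut.conj (g⁻¹ * n2)).toMonoidHom) = A' := by
      rw [map_conj_mul, ← hEB', (map_conj_eq_self_iff E n2).2 hn2N, hE, conj_inv_conj]
    exact hne (h6.symm.trans h5)

end core

/-- Let S be a Sylow 2-subgroup of a finite group G having exactly two subgroups A ≠ B that are maximal among its elementary abelian subgroups, with S = AB. Then A and B are each weakly closed in S with respect to G, and the normalizer of S normalizes both A and B. -/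
theorem result {G : Type*} [Group G] [Finite G] (S : Sylow 2 G)
    (A B : Subgroup ↥(S : Subgroup G)) (hAB : A ≠ B)
    (hA : Cfsg.IsElementaryAbelian 2 A ∧ ∀ C : Subgroup ↥(S : Subgroup G), Cfsg.IsElementaryAbelian 2 C → A ≤ C → C = A)
    (hB : Cfsg.IsElementaryAbelian 2 B ∧ ∀ C : Subgroup ↥(S : Subgroup G), Cfsg.IsElementaryAbelian 2 C → B ≤ C → C = B)
    (honly : ∀ C : Subgroup ↥(S : Subgroup G), Cfsg.IsElementaryAbelian 2 C →
      (∀ D : Subgroup ↥(S : Subgroup G), Cfsg.IsElementaryAbelian 2 D → C ≤ D → D = C) → C = A ∨ C = B)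
    (hprod : ∀ s : ↥(S : Subgroup G), ∃ a ∈ A, ∃ b ∈ B, a * b = s)
    (A' B' : Subgroup G) (hA' : A' = A.map (S : Subgroup G).subtype) (hB' : B' = B.map (S : Subgroup G).subtype) :
    Cfsg.IsWeaklyClosed A' (S : Subgroup G) ∧ Cfsg.IsWeaklyClosed B' (S : Subgroup G) ∧
      Subgroup.normalizer ((S : Subgroup G) : Set G) ≤ Subgroup.normalizer (A' : Set G) ⊓ Subgroup.normalizer (B' : Set G) := by
  -- translation between the two worlds
  have map_le : ∀ C : Subgroup ↥(S : Subgroup G), C.map (S : Subgroup G).subtype ≤ S := by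
    rintro C _ ⟨y, _, rfl⟩
    exact y.2
  have elab_of : ∀ C : Subgroup ↥(S : Subgroup G), Cfsg.IsElementaryAbelian 2 C →
      Elab (C.map (S : Subgroup G).subtype) := by
    intro C hC
    constructor
    · rintro _ ⟨x, hx, rfl⟩ _ ⟨y, hy, rfl⟩
      have := hC.1.is_comm.comm ⟨x, hx⟩ ⟨y, hy⟩
      have h2 : x * y = y * x := congrArg Subtype.val this
      exact congrArg Subtype.val h2
    · rintro _ ⟨x, hx, rfl⟩
      have := hC.2 x hx
      rw [← map_pow, this, map_one]
  have elab_to : ∀ E : Subgroup G, Elab E →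
      Cfsg.IsElementaryAbelian 2 (E.subgroupOf (S : Subgroup G)) := by
    intro E hE
    constructor
    · refine ⟨⟨fun x y => ?_⟩⟩
      apply Subtype.ext
      apply Subtype.ext
      exact hE.1 _ x.2 _ y.2
    · intro x hx
      apply Subtype.ext
      exact hE.2 _ hx
  have map_sub : ∀ E : Subgroup G, E ≤ S →
      (E.subgroupOf (S : Subgroup G)).map (S : Subgroup G).subtype = E :=
    fun E hE => Subgroup.map_subgroupOf_eq_of_le hE
  have sub_map : ∀ C : Subgroup ↥(S : Subgroup G),
      (C.map (S : Subgroup G).subtype).subgroupOf (S : Subgroup G) = C := by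
    intro C
    exact Subgroup.comap_map_eq_self_of_injective (Subgroup.subtype_injective _) C
  have hmono : ∀ C D : Subgroup ↥(S : Subgroup G),
      C.map (S : Subgroup G).subtype ≤ D.map (S : Subgroup G).subtype → C ≤ D := by
    intro C D h
    rw [← sub_map C, ← sub_map D]
    exact Subgroup.comap_mono h
  have hinj : ∀ C D : Subgroup ↥(S : Subgroup G),
      C.map (S : Subgroup G).subtype = D.map (S : Subgroup G).subtype → C = D :=
    fun C D h => Subgroup.map_injective (Subgroup.subtype_injective _) h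
  subst hA' hB'
  have hne : A.map (S : Subgroup G).subtype ≠ B.map (S : Subgroup G).subtype :=
    fun h => hAB (hinj A B h)
  have hAmax : ∀ E : Subgroup G, E ≤ S → Elab E → A.map (S : Subgroup G).subtype ≤ E →
      E = A.map (S : Subgroup G).subtype := by
    intro E hES hEe hle
    have h1 : A ≤ E.subgroupOf (S : Subgroup G) := by
      rw [← sub_map A]; exact Subgroup.comap_mono hle
    have h2 := hA.2 _ (elab_to E hEe) h1
    rw [← map_sub E hES, h2]
  have hBmax : ∀ E : Subgroup G, E ≤ S → Elab E → B.map (S : Subgroup G).subtype ≤ E →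
      E = B.map (S : Subgroup G).subtype := by
    intro E hES hEe hle
    have h1 : B ≤ E.subgroupOf (S : Subgroup G) := by
      rw [← sub_map B]; exact Subgroup.comap_mono hle
    have h2 := hB.2 _ (elab_to E hEe) h1
    rw [← map_sub E hES, h2]
  have hE1 : ∀ E : Subgroup G, E ≤ S → Elab E →
      E ≤ A.map (S : Subgroup G).subtype ∨ E ≤ B.map (S : Subgroup G).subtype := by
    intro E hES hEe
    obtain ⟨C, hEC, hCmax⟩ := Finite.exists_le_maximal
      (p := fun C : Subgroup ↥(S : Subgroup G) => Cfsg.IsElementaryAbelian 2 C)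
      (elab_to E hEe)
    have hC : C = A ∨ C = B := by
      apply honly C hCmax.1
      intro D hD hCD
      exact le_antisymm (hCmax.2 hD hCD) hCD
    have hEC' : E ≤ C.map (S : Subgroup G).subtype := by
      rw [← map_sub E hES]; exact Subgroup.map_mono hEC
    rcases hC with h | h
    · left; rw [← h]; exact hEC'
    · right; rw [← h]; exact hEC'
  have hE1' : ∀ E : Subgroup G, E ≤ S → Elab E →
      E ≤ B.map (S : Subgroup G).subtype ∨ E ≤ A.map (S : Subgroup G).subtype :=
    fun E h1 h2 => (hE1 E h1 h2).symm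
  have hprodG : ∀ s ∈ (S : Subgroup G), ∃ a ∈ A.map (S : Subgroup G).subtype,
      ∃ b ∈ B.map (S : Subgroup G).subtype, s = a * b := by
    intro s hs
    obtain ⟨a, ha, b, hb, hab⟩ := hprod ⟨s, hs⟩
    refine ⟨a, ⟨a, ha, rfl⟩, b, ⟨b, hb, rfl⟩, ?_⟩
    have := congrArg Subtype.val hab
    exact this.symm
  have hprodG' : ∀ s ∈ (S : Subgroup G), ∃ b ∈ B.map (S : Subgroup G).subtype,
      ∃ a ∈ A.map (S : Subgroup G).subtype, s = b * a := by
    intro s hs
    obtain ⟨a, ha, b, hb, hab⟩ := hprodG s⁻¹ (Subgroup.inv_mem _ hs)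
    refine ⟨b⁻¹, Subgroup.inv_mem _ hb, a⁻¹, Subgroup.inv_mem _ ha, ?_⟩
    rw [← mul_inv_rev, ← hab, inv_inv]
  have c1 := core S _ _ (map_le A) (map_le B) (elab_of A hA.1) (elab_of B hB.1) hne hAmax hBmax
    hE1 hprodG
  have c2 := core S _ _ (map_le B) (map_le A) (elab_of B hB.1) (elab_of A hA.1) hne.symm hBmax
    hAmax hE1' hprodG'
  exact ⟨c1.1, c2.1, le_inf c1.2.1 c1.2.2⟩

end Cfsg.Agent.S3203
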