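import Cfsg.Statements.S3208
import Mathlib

set_option autoImplicit false
open Cfsg

namespace Cfsg.Agent.S3208

theorem not_dvd_index_of_normalizer_le {H : Type*} [Group H] [Finite H] {p : ℕ} [Fact p.Prime]
    (T K : Subgroup H) {n : ℕ} (hT : Nat.card T = p ^ n)
    (hNK : Subgroup.normalizer (T : Set H) ≤ K)
    (h : ¬ p ∣ T.relIndex K) : ¬ p ∣ T.index := by
  intro hdvd
  apply h
  have h1 := Sylow.card_quotient_normalizer_modEq_card_quotient hT
  have h2 : T.relIndex (Subgroup.normalizer (T : Set H)) *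
      (Subgroup.normalizer (T : Set H)).relIndex K = T.relIndex K :=
    Subgroup.relIndex_mul_relIndex _ _ _ Subgroup.le_normalizer hNK
  rw [← h2]
  apply Dvd.dvd.mul_right
  have h3 : p ∣ Nat.card (H ⧸ T) := hdvd
  exact (Nat.modEq_zero_iff_dvd.mp ((h1.trans (Nat.modEq_zero_iff_dvd.mpr h3))))

/-- conjugation by an element of the normalizer, as an automorphism -/
def conjNormalizer {G : Type*} [Group G] (T : Subgroup G) (n : G)
    (hn : n ∈ Subgroup.normalizer (T : Set G)) : ↥T ≃* ↥T where
  toFun t := ⟨n * t * n⁻¹, (Subgroup.mem_normalizer_iff.mp hn t).mp t.2⟩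
  invFun t := ⟨n⁻¹ * t * n, by
    have := (Subgroup.mem_normalizer_iff.mp hn (n⁻¹ * t * n)).mpr
    apply this
    have h : n * (n⁻¹ * ↑t * n) * n⁻¹ = t := by group
    rw [h]; exact t.2⟩
  left_inv t := by ext; simp; group
  right_inv t := by ext; simp; group
  map_mul' s t := by ext; simp

theorem char_conj_mem {G : Type*} [Group G] (T Z : Subgroup G)
    (hchar : (Z.subgroupOf T).Characteristic) (n : G) (hn : n ∈ Subgroup.normalizer (T : Set G))
    (z : G) (hzZ : z ∈ Z) (hzT : z ∈ T) : n * z * n⁻¹ ∈ Z := by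
  have h1 := hchar.fixed (conjNormalizer T n hn)
  have h2 : (⟨z, hzT⟩ : T) ∈ Z.subgroupOf T := hzZ
  rw [← h1] at h2
  exact h2


/-- Let j be an involution of a finite group G, H a subgroup of G, and T a Sylow 2-subgroup of H ∩ C_G(j) containing j such that ⟨j⟩ is a characteristic subgroup of T. Then T is a Sylow 2-subgroup of H. -/
theorem result {G : Type*} [Group G] [Finite G]
    (j : G) (hj : orderOf j = 2) (H T : Subgroup G) (hT : T ≤ H ⊓ Subgroup.centralizer ({j} : Set G)) (h2 : IsPGroup 2 ↥T)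
    (hSyl : ¬ 2 ∣ T.relIndex (H ⊓ Subgroup.centralizer ({j} : Set G))) (hjT : j ∈ T)
    (hchar : ((Subgroup.zpowers j).subgroupOf T).Characteristic) :
    ¬ 2 ∣ T.relIndex H := by
  have hTH : T ≤ H := hT.trans inf_le_left
  obtain ⟨n, hn⟩ := IsPGroup.iff_card.mp h2
  have hcard : Nat.card (T.subgroupOf H) = 2 ^ n := by
    rw [← hn]; exact Nat.card_congr (Subgroup.subgroupOfEquivOfLe hTH).toEquiv
  have key := not_dvd_index_of_normalizer_le (p := 2) (T.subgroupOf H)
    ((H ⊓ Subgroup.centralizer ({j} : Set G)).subgroupOf H) hcard ?_ ?_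
  · exact key
  · intro m hm
    rw [Subgroup.mem_subgroupOf]
    refine ⟨m.2, ?_⟩
    have hmN : (m : G) ∈ Subgroup.normalizer (T : Set G) := by
      rw [Subgroup.mem_normalizer_iff]
      intro t
      constructor
      · intro ht
        have := (Subgroup.mem_normalizer_iff.mp hm ⟨t, hTH ht⟩).mp ht
        exact this
      · intro ht
        have h1 : (m : G)⁻¹ * ((m : G) * t * (m : G)⁻¹) * (m : G) = t := by group
        have htH : t ∈ H := by
          rw [← h1]
          exact H.mul_mem (H.mul_mem (H.inv_mem m.2) (hTH ht)) m.2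
        exact (Subgroup.mem_normalizer_iff.mp hm ⟨t, htH⟩).mpr ht
    have hz := char_conj_mem T (Subgroup.zpowers j) hchar (m : G) hmN j
      (Subgroup.mem_zpowers j) hjT
    obtain ⟨k, hk⟩ := Subgroup.mem_zpowers_iff.mp hz
    have hj2 : j ^ (2 : ℤ) = 1 := by
      have := pow_orderOf_eq_one j
      rw [hj] at this
      exact_mod_cast this
    have hj1 : j ≠ 1 := by
      intro h
      rw [h, orderOf_one] at hj; omega
    have hconj : (m : G) * j * (m : G)⁻¹ = j := by
      rcases Int.even_or_odd' k with ⟨l, hl | hl⟩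
      · exfalso
        rw [hl, zpow_mul, hj2, one_zpow] at hk
        apply hj1
        have : j = (m : G)⁻¹ * ((m : G) * j * (m : G)⁻¹) * (m : G) := by group
        rw [this, ← hk]; group
      · rw [hl, zpow_add, zpow_mul, hj2, one_zpow, one_mul, zpow_one] at hk
        exact hk.symm
    change (m : G) ∈ Subgroup.centralizer ({j} : Set G)
    rw [Subgroup.mem_centralizer_iff]
    intro x hx
    rw [Set.mem_singleton_iff] at hx
    rw [hx]
    have : (m : G) * j = (m : G) * j * (m : G)⁻¹ * (m : G) := by group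
    rw [this, hconj]
  · rw [Subgroup.relIndex_subgroupOf inf_le_left]
    exact hSyl

end Cfsg.Agent.S3208
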