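import Cfsg.Statements.S3209
import Mathlib
import Cfsg.Agent.Lib.Helper2.SL2Cover
import Cfsg.Agent.Lib.Helper2.SL2SylTwo
import Cfsg.Agent.Lib.Helper2.Index


set_option autoImplicit false
open Cfsg

namespace Cfsg.Agent.S3209


open Cfsg.Agent.Lib.Helper2.SL2Unip Cfsg.Agent.Lib.Helper2.SL2Cover in
/-- Abstract data of `SL₂(F)`, `F` finite of odd order: the unique involution, existence and
conjugacy of its square roots. -/
theorem sl2_data {L : Type*} [Group L] {F : Type*} [Field F] [Fintype F] (hF : Odd (Fintype.card F))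
    (e : L ≃* Matrix.SpecialLinearGroup (Fin 2) F) :
    ∃ jL : L, jL ≠ 1 ∧ jL * jL = 1 ∧ (∀ t : L, t * t = 1 → t = 1 ∨ t = jL) ∧
      (∃ a₀ : L, a₀ * a₀ = jL) ∧
      (∀ a a' : L, a * a = jL → a' * a' = jL → ∃ g : L, g * a * g⁻¹ = a') := by
  classical
  have h2 : (2 : F) ≠ 0 := Cfsg.Agent.S0268.two_ne_zero_of_odd_card hF
  have hzz1 : (zz : Matrix.SpecialLinearGroup (Fin 2) F) ≠ 1 := Cfsg.Agent.S2508.zz_ne_one h2
  refine ⟨e.symm zz, ?_, ?_, ?_, ?_, ?_⟩
  · intro h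
    apply hzz1
    have := congrArg e h
    simpa using this
  · rw [← map_mul, zz_sq, map_one]
  · intro t ht
    have h1 : e t * e t = 1 := by rw [← map_mul, ht, map_one]
    rcases Cfsg.Agent.Lib.Helper2.SL2SylTwo.sq_one_cases hF (e t) h1 with h | h
    · left; have := congrArg e.symm h; simpa using this
    · right; have := congrArg e.symm h; simpa using this
  · refine ⟨e.symm (mk2 0 1 (-1) 0 (by ring)), ?_⟩
    rw [← map_mul]
    congr 1
    apply Cfsg.Agent.S2508.sq_of_trace_zero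
    rw [mk2_val]; simp
  · intro a a' ha ha'
    have hea : e a * e a = zz := by rw [← map_mul, ha]; simp
    have hea' : e a' * e a' = zz := by rw [← map_mul, ha']; simp
    have ht : tr2 (e a) = 0 := Cfsg.Agent.Lib.Helper2.SL2SylTwo.trace_zero_of_sq h2 _ hea
    have ht' : tr2 (e a') = 0 := Cfsg.Agent.Lib.Helper2.SL2SylTwo.trace_zero_of_sq h2 _ hea'
    have hne : ∀ x : Matrix.SpecialLinearGroup (Fin 2) F, x * x = zz → x ≠ 1 ∧ x ≠ zz := by
      intro x hx
      constructor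
      · intro h; rw [h, one_mul] at hx; exact hzz1 hx.symm
      · intro h; rw [h, zz_sq] at hx; exact hzz1 hx.symm
    have hconj : IsConj (e a) (e a') := by
      apply conj_of_trace _ _ (hne _ hea).1 (hne _ hea).2 (hne _ hea').1 (hne _ hea').2
        (by rw [ht, ht'])
      intro c _
      rw [ht]
      have h4 : (0 : F) ^ 2 ≠ 4 := by
        have : (4 : F) = 2 * 2 := by norm_num
        rw [this]; simp [h2]
      exact norm_surj_odd (Nat.odd_iff.1 hF) 0 h4 c
    obtain ⟨c, hc⟩ := isConj_iff.1 hconj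
    refine ⟨e.symm c, ?_⟩
    apply e.injective
    rw [map_mul, map_mul, map_inv]; simpa using hc
/-- Let L₁ ≅ SL₂(q₁) and L₂ ≅ SL₂(q₂), q₁ and q₂ odd, be elementwise-commuting subgroups of a finite group meeting in ⟨j⟩ for an involution j. Then L₁L₂ has exactly two conjugacy classes of involutions: the central involution j, and one further class (there is an involution x ≠ j in L₁L₂, and every involution of L₁L₂ other than j is conjugate to x by an element of L₁L₂). -/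
theorem result {G : Type*} [Group G] [Finite G]
    {F₁ : Type*} [Field F₁] [Fintype F₁] {F₂ : Type*} [Field F₂] [Fintype F₂]
    (hF₁ : Odd (Fintype.card F₁)) (hF₂ : Odd (Fintype.card F₂)) (L₁ L₂ : Subgroup G)
    (e₁ : ↥L₁ ≃* Matrix.SpecialLinearGroup (Fin 2) F₁) (e₂ : ↥L₂ ≃* Matrix.SpecialLinearGroup (Fin 2) F₂)
    (hc : ∀ x ∈ L₁, ∀ y ∈ L₂, x * y = y * x) (j : G) (hj : orderOf j = 2) (hm : L₁ ⊓ L₂ = Subgroup.zpowers j) :
    ∃ x ∈ L₁ ⊔ L₂, orderOf x = 2 ∧ x ≠ j ∧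
      ∀ y ∈ L₁ ⊔ L₂, orderOf y = 2 → y = j ∨ ∃ g ∈ L₁ ⊔ L₂, g * x * g⁻¹ = y := by
  classical
  have hj1 : j ≠ 1 := by intro h; rw [h, orderOf_one] at hj; omega
  have hjj : j * j = 1 := by have := pow_orderOf_eq_one j; rwa [hj, pow_two] at this
  have hjinv : j⁻¹ = j := inv_eq_of_mul_eq_one_left hjj
  have hjmem : j ∈ L₁ ⊓ L₂ := by rw [hm]; exact Subgroup.mem_zpowers j
  have hjL₁ : j ∈ L₁ := hjmem.1
  have hjL₂ : j ∈ L₂ := hjmem.2
  have hinter : ∀ g, g ∈ L₁ → g ∈ L₂ → g = 1 ∨ g = j := by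
    intro g h1 h2
    have hg : g ∈ Subgroup.zpowers j := by rw [← hm]; exact ⟨h1, h2⟩
    obtain ⟨k, rfl⟩ := Subgroup.mem_zpowers_iff.1 hg
    have hk : j ^ k = j ^ (k % 2) := by
      have := zpow_mod_orderOf j k
      rw [hj] at this
      exact_mod_cast this.symm
    rw [hk]
    rcases Int.emod_two_eq_zero_or_one k with h | h
    · left; rw [h, zpow_zero]
    · right; rw [h, zpow_one]
  obtain ⟨j₁, hj₁1, hj₁j, hj₁u, ⟨a₀, ha₀⟩, hconj₁⟩ := sl2_data hF₁ e₁
  obtain ⟨j₂, hj₂1, hj₂j, hj₂u, ⟨b₀, hb₀⟩, hconj₂⟩ := sl2_data hF₂ e₂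
  have hj₁ : (j₁ : G) = j := by
    rcases hj₁u ⟨j, hjL₁⟩ (Subtype.ext hjj) with h | h
    · exact absurd (congrArg Subtype.val h) hj1
    · exact (congrArg Subtype.val h).symm
  have hj₂ : (j₂ : G) = j := by
    rcases hj₂u ⟨j, hjL₂⟩ (Subtype.ext hjj) with h | h
    · exact absurd (congrArg Subtype.val h) hj1
    · exact (congrArg Subtype.val h).symm
  have ha₀' : (a₀ : G) * a₀ = j := by rw [← hj₁]; exact congrArg Subtype.val ha₀
  have hb₀' : (b₀ : G) * b₀ = j := by rw [← hj₂]; exact congrArg Subtype.val hb₀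
  have hsq : ∀ a ∈ L₁, ∀ b ∈ L₂, (a * b) * (a * b) = (a * a) * (b * b) := by
    intro a ha b hb
    calc (a * b) * (a * b) = a * (b * a) * b := by group
      _ = a * (a * b) * b := by rw [hc a ha b hb]
      _ = (a * a) * (b * b) := by group
  have key : ∀ a ∈ L₁, ∀ b ∈ L₂, a * a = j → (a * b ≠ 1 ∧ a * b ≠ j) := by
    intro a ha b hb haa
    have hnot : ¬ (a ∈ L₂) := by
      intro h
      rcases hinter a ha h with h1 | h1
      · rw [h1, one_mul] at haa; exact hj1 haa.symm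
      · rw [h1, hjj] at haa; exact hj1 haa.symm
    constructor
    · intro h
      apply hnot
      have : a = b⁻¹ := eq_inv_of_mul_eq_one_left h
      rw [this]; exact inv_mem hb
    · intro h
      apply hnot
      have : a = j * b⁻¹ := by rw [← h]; group
      rw [this]; exact mul_mem hjL₂ (inv_mem hb)
  have hxx : ((a₀ : G) * b₀) * ((a₀ : G) * b₀) = 1 := by
    rw [hsq _ a₀.2 _ b₀.2, ha₀', hb₀', hjj]
  refine ⟨(a₀ : G) * b₀, mul_mem (Subgroup.mem_sup_left a₀.2) (Subgroup.mem_sup_right b₀.2),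
    ?_, (key _ a₀.2 _ b₀.2 ha₀').2, ?_⟩
  · apply orderOf_eq_prime
    · rw [pow_two]; exact hxx
    · exact (key _ a₀.2 _ b₀.2 ha₀').1
  · intro y hy hoy
    obtain ⟨a, ha, b, hb, rfl⟩ := Cfsg.Agent.Lib.Helper2.exists_mul_of_mem_sup_of_le_normalizer
      (Cfsg.Agent.Lib.Helper2.le_normalizer_of_commute L₁ L₂ hc) hy
    have hyy : (a * b) * (a * b) = 1 := by
      have := pow_orderOf_eq_one (a * b); rwa [hoy, pow_two] at this
    have hy1 : a * b ≠ 1 := by
      intro h; rw [h, orderOf_one] at hoy; omega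
    rw [hsq a ha b hb] at hyy
    have haa : a * a = (b * b)⁻¹ := eq_inv_of_mul_eq_one_left hyy
    rcases hinter (a * a) (mul_mem ha ha) (by rw [haa]; exact inv_mem (mul_mem hb hb)) with h | h
    · -- both are in {1, j}
      have hbb : b * b = 1 := by rw [h, one_mul] at hyy; exact hyy
      have ha' : a = 1 ∨ a = j := by
        rcases hj₁u ⟨a, ha⟩ (Subtype.ext h) with h' | h'
        · left; exact congrArg Subtype.val h'
        · right; rw [← hj₁]; exact congrArg Subtype.val h'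
      have hb' : b = 1 ∨ b = j := by
        rcases hj₂u ⟨b, hb⟩ (Subtype.ext hbb) with h' | h'
        · left; exact congrArg Subtype.val h'
        · right; rw [← hj₂]; exact congrArg Subtype.val h'
      left
      rcases ha' with rfl | rfl <;> rcases hb' with rfl | rfl
      · exact absurd (one_mul 1) hy1
      · exact one_mul _
      · exact mul_one _
      · exact absurd hjj hy1
    · right
      have hbb : b * b = j := by
        rw [h] at hyy
        have : b * b = j⁻¹ := eq_inv_of_mul_eq_one_right hyy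
        rw [this, hjinv]
      obtain ⟨g₁, hg₁⟩ := hconj₁ a₀ ⟨a, ha⟩ ha₀ (Subtype.ext (by rw [hj₁]; exact h))
      obtain ⟨g₂, hg₂⟩ := hconj₂ b₀ ⟨b, hb⟩ hb₀ (Subtype.ext (by rw [hj₂]; exact hbb))
      have e1 : (g₁ : G) * a₀ * (g₁ : G)⁻¹ = a := congrArg Subtype.val hg₁
      have e2 : (g₂ : G) * b₀ * (g₂ : G)⁻¹ = b := congrArg Subtype.val hg₂
      have c1 : (a₀ : G) * g₂ = g₂ * a₀ := hc _ a₀.2 _ g₂.2
      have c2 : (g₁ : G)⁻¹ * b = b * (g₁ : G)⁻¹ := hc _ (inv_mem g₁.2) _ hb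
      refine ⟨(g₁ : G) * g₂, mul_mem (Subgroup.mem_sup_left g₁.2) (Subgroup.mem_sup_right g₂.2), ?_⟩
      calc (g₁ : G) * g₂ * ((a₀ : G) * b₀) * ((g₁ : G) * g₂)⁻¹
          = g₁ * (g₂ * a₀) * b₀ * (g₂ : G)⁻¹ * (g₁ : G)⁻¹ := by group
        _ = g₁ * (a₀ * g₂) * b₀ * (g₂ : G)⁻¹ * (g₁ : G)⁻¹ := by rw [c1]
        _ = g₁ * a₀ * ((g₂ : G) * b₀ * (g₂ : G)⁻¹) * (g₁ : G)⁻¹ := by group
        _ = g₁ * a₀ * (b * (g₁ : G)⁻¹) := by rw [e2]; group
        _ = g₁ * a₀ * ((g₁ : G)⁻¹ * b) := by rw [c2]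
        _ = ((g₁ : G) * a₀ * (g₁ : G)⁻¹) * b := by group
        _ = a * b := by rw [e1]


end Cfsg.Agent.S3209
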