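import Cfsg.Statements.S3224
import Mathlib
import Cfsg.Agent.Lib.Helper6.MaxClass2c
import Cfsg.Agent.S0112

set_option autoImplicit false
open Cfsg Cfsg.Agent.Lib.Helper6

namespace Cfsg.Agent.S3224

theorem main3224 {S : Type*} [Group S] [Finite S] (hS : IsPGroup 2 S)
    (x : S) (hx : orderOf x = 2) (hC : Nat.card ↥(Subgroup.centralizer ({x} : Set S)) = 4) :
    (∃ n : ℕ, Nonempty (S ≃* DihedralGroup n)) ∨ Cfsg.IsQuasiDihedral S ∨ Nat.card S = 4 := by
  obtain ⟨n, hn⟩ := (IsPGroup.iff_card (p := 2)).1 hS
  have h4 : 4 ∣ 2 ^ n := by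
    rw [← hn, ← hC]; exact Subgroup.card_subgroup_dvd_card _
  have hn2 : 2 ≤ n := by
    by_contra hcon
    push Not at hcon
    interval_cases n <;> omega
  by_cases hn3 : 3 ≤ n
  swap
  · right; right
    have : n = 2 := by omega
    rw [hn, this]; norm_num
  obtain ⟨A, hA⟩ : ∃ A : Subgroup S, A = Subgroup.centralizer ({x} : Set S) := ⟨_, rfl⟩
  rw [← hA] at hC
  have hxA : x ∈ A := by
    rw [hA, Subgroup.mem_centralizer_singleton_iff]
  have hAc : IsMulCommutative A :=
    IsPGroup.isMulCommutative_of_card_eq_prime_sq (p := 2) (by rw [hC]; norm_num)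
  have hCA : Subgroup.centralizer (A : Set S) = A := by
    apply le_antisymm
    · intro g hg
      rw [hA, Subgroup.mem_centralizer_singleton_iff]
      exact ((Subgroup.mem_centralizer_iff.1 hg) x hxA).symm
    · intro g hg
      rw [Subgroup.mem_centralizer_iff]
      intro h hh
      have := hAc.is_comm.comm ⟨h, hh⟩ ⟨g, hg⟩
      exact congrArg Subtype.val this
  have hc : Group.nilpotencyClass S = n - 1 :=
    Cfsg.Agent.S0112.result (p := 2) n hn A (by rw [hC]; norm_num) hCA
  obtain ⟨a, b, hao, hb, hcases⟩ := maxClass_two_classification n hn3 hn hc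
  have hcard : Nat.card S = 2 * 2 ^ (n - 1) := by
    rw [hn, ← pow_succ']; congr 1; omega
  rcases hcases with ⟨hb2, hconj⟩ | ⟨hb2, hconj⟩ | ⟨hn4, hb2, hconj⟩
  · left
    refine ⟨2 ^ (n - 1), ?_⟩
    refine nonempty_mulEquiv_dihedral_of_rel (2 ^ (n - 1)) ?_ a b hao hb hb2 hconj hcard
    calc 2 = 2 ^ 1 := by norm_num
      _ ≤ 2 ^ (n - 1) := Nat.pow_le_pow_right (by norm_num) (by omega)
  · -- quaternion: impossible
    exfalso
    obtain ⟨q, hq⟩ : ∃ q, q = 2 ^ (n - 2) := ⟨_, rfl⟩
    rw [← hq] at hb2
    have hq2 : 2 ^ (n - 1) = 2 * q := by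
      rw [hq, ← pow_succ']; congr 1; omega
    rw [hq2] at hao
    have ha2q : a ^ (2 * q) = 1 := by rw [← hao]; exact pow_orderOf_eq_one a
    have hqpos : 0 < q := by rw [hq]; positivity
    have hAi : (Subgroup.zpowers a).index = 2 := by
      have h1 := Subgroup.card_mul_index (Subgroup.zpowers a)
      rw [Nat.card_zpowers, hao, hcard, hq2] at h1
      exact Nat.eq_of_mul_eq_mul_left (show 0 < 2 * q by omega) (by rw [h1]; ring)
    have hconjk : ∀ k : ℤ, b * a ^ k * b⁻¹ = (a ^ k)⁻¹ := by
      intro k
      rw [← conj_zpow, hconj, inv_zpow]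
    -- x is a power of a
    have hxa : x ∈ Subgroup.zpowers a := by
      by_contra hxn
      have hxb : x * b⁻¹ ∈ Subgroup.zpowers a := by
        rw [Subgroup.mul_mem_iff_of_index_two hAi]
        constructor
        · intro h; exact absurd h hxn
        · intro h; exact absurd (by simpa using (Subgroup.zpowers a).inv_mem h) hb
      obtain ⟨k, hk⟩ := Subgroup.mem_zpowers_iff.1 hxb
      have hx' : x = a ^ k * b := by rw [hk]; group
      have hxx : x * x = a ^ q := by
        rw [hx']
        calc a ^ k * b * (a ^ k * b) = a ^ k * (b * a ^ k * b⁻¹) * (b * b) := by group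
          _ = a ^ q := by rw [hconjk, ← pow_two, hb2]; group
      have hx2 : x * x = 1 := by
        rw [← pow_two, ← hx]; exact pow_orderOf_eq_one x
      rw [hx2] at hxx
      have := orderOf_dvd_of_pow_eq_one hxx.symm
      rw [hao] at this
      have := Nat.le_of_dvd (by rw [hq]; positivity) this
      have : 0 < q := by rw [hq]; positivity
      omega
    -- x is central
    have hxc : x ∈ Subgroup.center S := by
      obtain ⟨k, hk⟩ := Subgroup.mem_zpowers_iff.1 hxa
      have hxinv : x⁻¹ = x := by
        rw [inv_eq_iff_mul_eq_one, ← pow_two, ← hx]; exact pow_orderOf_eq_one x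
      have hbx : b * x * b⁻¹ = x := by
        rw [← hk, hconjk, hk, hxinv]
      have hcb : Commute b x := by
        have : b * x = x * b := by
          calc b * x = (b * x * b⁻¹) * b := by group
            _ = x * b := by rw [hbx]
        exact this
      rw [Subgroup.mem_center_iff]
      intro g
      by_cases hg : g ∈ Subgroup.zpowers a
      · obtain ⟨j, rfl⟩ := Subgroup.mem_zpowers_iff.1 hg
        rw [← hk]
        exact ((Commute.refl a).zpow_zpow j k).eq
      · have hgb : g * b⁻¹ ∈ Subgroup.zpowers a := by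
          rw [Subgroup.mul_mem_iff_of_index_two hAi]
          constructor
          · intro h; exact absurd h hg
          · intro h; exact absurd (by simpa using (Subgroup.zpowers a).inv_mem h) hb
        obtain ⟨j, hj⟩ := Subgroup.mem_zpowers_iff.1 hgb
        have hg' : g = a ^ j * b := by rw [hj]; group
        rw [hg']
        have c1 : Commute (a ^ j) x := by
          rw [← hk]; exact (Commute.refl a).zpow_zpow j k
        exact (c1.mul_left hcb).eq
    have hAtop : A = ⊤ := by
      rw [hA, Subgroup.eq_top_iff']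
      intro g
      rw [Subgroup.mem_centralizer_singleton_iff]
      exact (Subgroup.mem_center_iff.1 hxc g)
    rw [hAtop, Subgroup.card_top, hn] at hC
    have h8 : 2 ^ 3 ≤ 2 ^ n := Nat.pow_le_pow_right (by norm_num) hn3
    omega
  · right; left
    refine ⟨n - 1, by omega, by rw [hn]; congr 1; omega, a, b, hao, ?_, ?_⟩
    · apply orderOf_eq_prime hb2
      intro h
      exact hb (h ▸ Subgroup.one_mem _)
    · rw [hconj, show n - 1 - 1 = n - 2 by omega]


/-- A finite 2-group containing an involution whose centralizer has order 4 is dihedral, quasi-dihedral (semidihedral), or of order 4. -/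
theorem result {S : Type*} [Group S] [Finite S] (hS : IsPGroup 2 S)
    (x : S) (hx : orderOf x = 2) (hC : Nat.card ↥(Subgroup.centralizer ({x} : Set S)) = 4) :
    (∃ n : ℕ, Nonempty (S ≃* DihedralGroup n)) ∨ Cfsg.IsQuasiDihedral S ∨ Nat.card S = 4 := by
  exact main3224 hS x hx hC

end Cfsg.Agent.S3224
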