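import Mathlib
import Cfsg.Statements.S3247
import Cfsg.Agent.Lib.Helper3.PConstr3

set_option autoImplicit false
open Cfsg
open Cfsg.Agent.Lib.Helper3

namespace Cfsg.Agent.S3247

variable {G : Type*} [Group G] [Finite G]

lemma exists_central_order_p (p : ℕ) [Fact p.Prime] (T : Subgroup G) (hT : IsPGroup p ↥T)
    (hT1 : T ≠ ⊥) : ∃ t : G, orderOf t = p ∧ t ∈ T ∧ ∀ s ∈ T, s * t = t * s := by
  have hnt : Nontrivial ↥T := (Subgroup.nontrivial_iff_ne_bot T).mpr hT1
  have hcnt : Nontrivial ↥(Subgroup.center ↥T) := hT.center_nontrivial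
  have hcp : IsPGroup p ↥(Subgroup.center ↥T) := hT.to_subgroup _
  obtain ⟨n, hn0, hn⟩ := hcp.nontrivial_iff_card.mp hcnt
  have hdvd : p ∣ Nat.card ↥(Subgroup.center ↥T) := by
    rw [hn]; exact dvd_pow_self p hn0.ne'
  obtain ⟨x, hx⟩ := exists_prime_orderOf_dvd_card' p hdvd
  refine ⟨((x : ↥T) : G), ?_, (x : ↥T).2, ?_⟩
  · rw [Subgroup.orderOf_coe, Subgroup.orderOf_coe]; exact hx
  · intro s hs
    have := Subgroup.mem_center_iff.mp x.2 ⟨s, hs⟩
    exact congrArg Subtype.val this

/-- Let G be a finite group and p a prime; here a p-local subgroup means the normalizer of a nontrivial p-subgroup, other than G itself. If every p-local subgroup of G that is maximal among p-local subgroups is p-constrained, or if the centralizer of every element of order p of G is p-constrained, then every p-local subgroup of G is p-constrained. -/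
theorem result {G : Type*} [Group G] [Finite G] (p : ℕ) [hp : Fact p.Prime]
    (h : (∀ M : Subgroup G, (∃ T : Subgroup G, IsPGroup p ↥T ∧ T ≠ ⊥ ∧ M = Subgroup.normalizer (T : Set G)) → M ≠ ⊤ →
        (∀ M' : Subgroup G, (∃ T' : Subgroup G, IsPGroup p ↥T' ∧ T' ≠ ⊥ ∧ M' = Subgroup.normalizer (T' : Set G)) → M' ≠ ⊤ → M ≤ M' → M = M') →
        Cfsg.IsPConstrained p ↥M) ∨
      (∀ x : G, orderOf x = p → Cfsg.IsPConstrained p ↥(Subgroup.centralizer ({x} : Set G))))
    (T : Subgroup G) (hT : IsPGroup p ↥T) (hT1 : T ≠ ⊥) (hTG : Subgroup.normalizer (T : Set G) ≠ ⊤) :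
    Cfsg.IsPConstrained p ↥(Subgroup.normalizer (T : Set G)) := by
  set N := Subgroup.normalizer (T : Set G) with hN
  have hTN : T ≤ N := Subgroup.le_normalizer
  rcases h with h | h
  · -- a maximal p-local above N
    let Pr : Subgroup G → Prop := fun M =>
      ((∃ T' : Subgroup G, IsPGroup p ↥T' ∧ T' ≠ ⊥ ∧ M = Subgroup.normalizer (T' : Set G)) ∧ M ≠ ⊤) ∧ N ≤ M
    have hne : ∃ M, Pr M := ⟨N, ⟨⟨T, hT, hT1, rfl⟩, hTG⟩, le_rfl⟩
    obtain ⟨M, hM⟩ := exists_maximal_of_wellFoundedGT Pr hne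
    have hMpc : Cfsg.IsPConstrained p ↥M := by
      apply h M hM.1.1.1 hM.1.1.2
      intro M' hM'1 hM'2 hMM'
      exact le_antisymm hMM' (hM.2 ⟨⟨hM'1, hM'2⟩, hM.1.2.trans hMM'⟩ hMM')
    exact pconstrained_relative hMpc (hTN.trans hM.1.2) hT hM.1.2 le_rfl
      (inf_le_left.trans (Subgroup.centralizer_le_normalizer _)) (Or.inl hTN)
  · obtain ⟨x, hxp, hxT, hxc⟩ := exists_central_order_p p T hT hT1
    set C := Subgroup.centralizer ({x} : Set G) with hC
    have hCpc : Cfsg.IsPConstrained p ↥C := h x hxp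
    have hTC : T ≤ C := by
      intro s hs
      rw [hC, Subgroup.mem_centralizer_iff]
      intro y hy
      rw [Set.mem_singleton_iff] at hy
      rw [hy]
      exact (hxc s hs).symm
    -- N ⊓ C is p-constrained
    have h1 : Cfsg.IsPConstrained p ↥(N ⊓ C) := by
      apply pconstrained_relative hCpc hTC hT inf_le_right inf_le_left
      · exact le_inf (inf_le_left.trans (Subgroup.centralizer_le_normalizer _)) inf_le_right
      · exact Or.inl (le_inf hTN hTC)
    -- transport to the centralizer of x in ↥N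
    have hTn : (T.subgroupOf N).Normal := Subgroup.normal_subgroupOf_of_le_normalizer le_rfl
    have hTp : IsPGroup p ↥(T.subgroupOf N) := hT.of_equiv (Subgroup.subgroupOfEquivOfLe hTN).symm
    have hxN : x ∈ N := hTN hxT
    have hYeq : Subgroup.centralizer ({(⟨x, hxN⟩ : ↥N)} : Set ↥N) = (N ⊓ C).subgroupOf N := by
      ext y
      rw [Subgroup.mem_subgroupOf, Subgroup.mem_centralizer_iff]
      constructor
      · intro hy
        refine ⟨y.2, ?_⟩
        show (y : G) ∈ Subgroup.centralizer ({x} : Set G)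
        rw [Subgroup.mem_centralizer_iff]
        intro z hz
        rw [Set.mem_singleton_iff] at hz
        rw [hz]
        exact congrArg Subtype.val (hy ⟨x, hxN⟩ rfl)
      · rintro ⟨-, hy⟩ z hz
        rw [Set.mem_singleton_iff] at hz
        rw [hz]
        apply Subtype.ext
        have hy' : (y : G) ∈ Subgroup.centralizer ({x} : Set G) := hy
        exact Subgroup.mem_centralizer_iff.mp hy' x rfl
    have e : ↥(N ⊓ C) ≃* ↥(Subgroup.centralizer ({(⟨x, hxN⟩ : ↥N)} : Set ↥N)) :=
      (Subgroup.subgroupOfEquivOfLe (inf_le_left : N ⊓ C ≤ N)).symm.trans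
        (MulEquiv.subgroupCongr hYeq.symm)
    have h2 : Cfsg.IsPConstrained p ↥(Subgroup.centralizer ({(⟨x, hxN⟩ : ↥N)} : Set ↥N)) :=
      isPConstrained_of_equiv e h1
    exact pconstrained_of_centralizer (T.subgroupOf N) hTp ⟨x, hxN⟩ hxT h2

end Cfsg.Agent.S3247
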