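import Cfsg.Statements.S3276

set_option autoImplicit false
open Cfsg

namespace Cfsg.Agent.S3276

theorem invol_pair {G : Type*} [Group G] [Finite G] (a b : G) (ha : a * a = 1) (hb : b * b = 1)
    (hnc : ¬ IsConj a b) : ∃ z : G, orderOf z = 2 ∧ Commute z a ∧ Commute b z := by
  haveI : Fact (Nat.Prime 2) := ⟨Nat.prime_two⟩
  have hai : a⁻¹ = a := inv_eq_of_mul_eq_one_right ha
  have hbi : b⁻¹ = b := inv_eq_of_mul_eq_one_right hb
  obtain ⟨d, hd⟩ : ∃ d, d = a * b := ⟨_, rfl⟩
  have had : a * d * a⁻¹ = d⁻¹ := by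
    rw [hd, mul_inv_rev, hai, hbi]
    calc a * (a * b) * a = (a * a) * b * a := by group
      _ = b * a := by rw [ha, one_mul]
  have hbd : b * d * b⁻¹ = d⁻¹ := by
    rw [hd, mul_inv_rev, hai, hbi]
    calc b * (a * b) * b = b * a * (b * b) := by group
      _ = b * a := by rw [hb, mul_one]
  have L2 : ∀ c : G, c * c = 1 → c * d * c⁻¹ = d⁻¹ → ∀ k : ℕ, c * (d ^ k)⁻¹ = d ^ k * c := by
    intro c hcc hcd k
    have hci : c⁻¹ = c := inv_eq_of_mul_eq_one_right hcc
    have h1 : c * d ^ k * c⁻¹ = (d ^ k)⁻¹ := by rw [← conj_pow, hcd, inv_pow]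
    calc c * (d ^ k)⁻¹ = c * (c * d ^ k * c⁻¹) := by rw [h1]
      _ = (c * c) * d ^ k * c⁻¹ := by group
      _ = d ^ k * c := by rw [hcc, one_mul, hci]
  have hpos : 0 < orderOf d := orderOf_pos d
  rcases Nat.even_or_odd' (orderOf d) with ⟨k, hk | hk⟩
  · have hk1 : 1 ≤ k := by omega
    have hzz : d ^ k * d ^ k = 1 := by
      rw [← pow_add, ← two_mul, ← hk, pow_orderOf_eq_one]
    have hzi : (d ^ k)⁻¹ = d ^ k := inv_eq_of_mul_eq_one_right hzz
    refine ⟨d ^ k, ?_, ?_, ?_⟩
    · apply orderOf_eq_prime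
      · rw [pow_two]; exact hzz
      · intro h
        have := orderOf_le_of_pow_eq_one (by omega : 0 < k) h
        omega
    · show d ^ k * a = a * d ^ k
      have h := L2 a ha had k
      rw [hzi] at h
      exact h.symm
    · show b * d ^ k = d ^ k * b
      have h := L2 b hb hbd k
      rw [hzi] at h
      exact h
  · exfalso
    apply hnc
    rw [isConj_iff]
    refine ⟨d ^ k, ?_⟩
    have h1 : d ^ (2 * k) * d = 1 := by rw [← pow_succ, ← hk, pow_orderOf_eq_one]
    have h2 : d ^ (2 * k) = d⁻¹ := eq_inv_of_mul_eq_one_left h1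
    calc d ^ k * a * (d ^ k)⁻¹ = d ^ k * (a * (d ^ k)⁻¹) := by group
      _ = d ^ k * (d ^ k * a) := by rw [L2 a ha had k]
      _ = d ^ (2 * k) * a := by group
      _ = d⁻¹ * a := by rw [h2]
      _ = b * (a * a) := by rw [hd, mul_inv_rev, hai, hbi]; group
      _ = b := by rw [ha, mul_one]

/-- Let x and y be commuting, non-conjugate involutions of a finite group G, and suppose that for every involution u commuting with x, each conjugate of y that commutes with u also commutes with y. Then the normal closure of y is a proper, normal, elementary abelian 2-subgroup of G; and if y is the only involution of that normal closure commuting with x, it has order at most 4. -/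
theorem result {G : Type*} [Group G] [Finite G] (x y : G) (hx : orderOf x = 2) (hy : orderOf y = 2)
    (hxy : Commute x y) (hnc : ¬ IsConj x y)
    (hstar : ∀ u : G, orderOf u = 2 → Commute u x → ∀ g : G, Commute (g * y * g⁻¹) u → Commute (g * y * g⁻¹) y) :
    Subgroup.normalClosure ({y} : Set G) ≠ ⊤ ∧ Cfsg.IsElementaryAbelian 2 (Subgroup.normalClosure ({y} : Set G)) ∧
      ((∀ u ∈ Subgroup.normalClosure ({y} : Set G), orderOf u = 2 → Commute u x → u = y) →
        Nat.card ↥(Subgroup.normalClosure ({y} : Set G)) ≤ 4) := by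
  classical
  haveI : Fact (Nat.Prime 2) := ⟨Nat.prime_two⟩
  have hxx : x * x = 1 := by rw [← pow_two, ← hx, pow_orderOf_eq_one]
  have hyy : y * y = 1 := by rw [← pow_two, ← hy, pow_orderOf_eq_one]
  have hx1 : x ≠ 1 := by
    intro h; rw [h, orderOf_one] at hx; omega
  have hy1 : y ≠ 1 := by
    intro h; rw [h, orderOf_one] at hy; omega
  have hall : ∀ g : G, Commute (g * y * g⁻¹) y := by
    intro g
    have hww : (g * y * g⁻¹) * (g * y * g⁻¹) = 1 := by
      calc (g * y * g⁻¹) * (g * y * g⁻¹) = g * (y * y) * g⁻¹ := by group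
        _ = 1 := by rw [hyy]; group
    have hncw : ¬ IsConj x (g * y * g⁻¹) := by
      intro h
      apply hnc
      exact h.trans (isConj_iff.mpr ⟨g⁻¹, by group⟩)
    obtain ⟨z, hz2, hzx, hwz⟩ := invol_pair x (g * y * g⁻¹) hxx hww hncw
    exact hstar z hz2 hzx g hwz
  have hpair : ∀ g h : G, (g * y * g⁻¹) * (h * y * h⁻¹) = (h * y * h⁻¹) * (g * y * g⁻¹) := by
    intro g h
    have h1 := (hall (h⁻¹ * g)).eq
    calc (g * y * g⁻¹) * (h * y * h⁻¹)
        = h * ((h⁻¹ * g) * y * (h⁻¹ * g)⁻¹ * y) * h⁻¹ := by group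
      _ = h * (y * ((h⁻¹ * g) * y * (h⁻¹ * g)⁻¹)) * h⁻¹ := by rw [h1]
      _ = (h * y * h⁻¹) * (g * y * g⁻¹) := by group
  obtain ⟨K, hKdef⟩ : ∃ K : Set G, K = Group.conjugatesOfSet ({y} : Set G) := ⟨_, rfl⟩
  have hN : Subgroup.normalClosure ({y} : Set G) = Subgroup.closure K := by rw [hKdef]; rfl
  have hK : ∀ a ∈ K, ∃ g : G, g * y * g⁻¹ = a := by
    intro a ha
    rw [hKdef, Group.mem_conjugatesOfSet_iff] at ha
    obtain ⟨b, hb, hba⟩ := ha
    rw [Set.mem_singleton_iff.mp hb] at hba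
    exact isConj_iff.mp hba
  have hKcomm : ∀ a ∈ K, ∀ b ∈ K, a * b = b * a := by
    intro a ha b hb
    obtain ⟨g, rfl⟩ := hK a ha
    obtain ⟨h, rfl⟩ := hK b hb
    exact hpair g h
  have hKsq : ∀ a ∈ K, a * a = 1 := by
    intro a ha
    obtain ⟨g, rfl⟩ := hK a ha
    calc (g * y * g⁻¹) * (g * y * g⁻¹) = g * (y * y) * g⁻¹ := by group
      _ = 1 := by rw [hyy]; group
  have hle1 : Subgroup.closure K ≤ Subgroup.centralizer K := by
    rw [Subgroup.closure_le]
    intro a ha
    rw [SetLike.mem_coe, Subgroup.mem_centralizer_iff]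
    intro b hb
    exact hKcomm b hb a ha
  have hle2 : Subgroup.closure K ≤ Subgroup.centralizer (Subgroup.closure K : Set G) := by
    rw [Subgroup.closure_le]
    intro a ha
    rw [SetLike.mem_coe, Subgroup.mem_centralizer_iff]
    intro b hb
    have h := (Subgroup.mem_centralizer_iff.mp (hle1 hb)) a ha
    exact h.symm
  have hNcomm : ∀ a ∈ Subgroup.closure K, ∀ b ∈ Subgroup.closure K, a * b = b * a := by
    intro a ha b hb
    exact (Subgroup.mem_centralizer_iff.mp (hle2 hb)) a ha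
  have hNsq : ∀ a ∈ Subgroup.closure K, a * a = 1 := by
    intro a ha
    induction ha using Subgroup.closure_induction with
    | mem a ha => exact hKsq a ha
    | one => exact one_mul 1
    | mul a b ha hb iha ihb =>
      calc a * b * (a * b) = a * (b * a) * b := by group
        _ = a * (a * b) * b := by rw [hNcomm b hb a ha]
        _ = (a * a) * (b * b) := by group
        _ = 1 := by rw [iha, ihb, one_mul]
    | inv a ha iha =>
      have h : a⁻¹ = a := inv_eq_of_mul_eq_one_right iha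
      rw [h]; exact iha
  have hEA : Cfsg.IsElementaryAbelian 2 (Subgroup.normalClosure ({y} : Set G)) := by
    rw [hN]
    exact ⟨⟨⟨fun a b => Subtype.ext (hNcomm a.1 a.2 b.1 b.2)⟩⟩,
      fun a ha => by rw [pow_two]; exact hNsq a ha⟩
  have hpow : ∀ n : ℕ, y ^ n = 1 ∨ y ^ n = y := by
    intro n
    induction n with
    | zero => left; exact pow_zero y
    | succ n ih =>
      rcases ih with h | h
      · right; rw [pow_succ, h, one_mul]
      · left; rw [pow_succ, h]; exact hyy
  have hne : Subgroup.normalClosure ({y} : Set G) ≠ ⊤ := by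
    intro htop
    rw [hN] at htop
    have hcomm : ∀ a b : G, a * b = b * a := fun a b =>
      hNcomm a (by rw [htop]; exact Subgroup.mem_top a) b (by rw [htop]; exact Subgroup.mem_top b)
    have hKy : K ⊆ {y} := by
      intro a ha
      obtain ⟨g, rfl⟩ := hK a ha
      rw [Set.mem_singleton_iff, hcomm g y]; group
    have hxmem : x ∈ Subgroup.closure ({y} : Set G) :=
      Subgroup.closure_mono hKy (by rw [htop]; exact Subgroup.mem_top x)
    rw [← Subgroup.zpowers_eq_closure, ← mem_powers_iff_mem_zpowers,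
      Submonoid.mem_powers_iff] at hxmem
    obtain ⟨n, hn⟩ := hxmem
    rcases hpow n with h | h
    · exact hx1 (hn.symm.trans h)
    · apply hnc
      have hxy' : x = y := hn.symm.trans h
      rw [isConj_iff]
      exact ⟨1, by rw [hxy']; group⟩
  refine ⟨hne, hEA, ?_⟩
  intro hone
  rw [hN] at hone ⊢
  have hNn : (Subgroup.closure K).Normal := by
    rw [← hN]; exact Subgroup.normalClosure_normal
  obtain ⟨N, hNdef⟩ : ∃ N : Subgroup G, N = Subgroup.closure K := ⟨_, rfl⟩
  rw [← hNdef] at hone hNcomm hNsq hNn ⊢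
  haveI := hNn
  obtain ⟨φ, hφ⟩ : ∃ φ : ↥N →* ↥N, ∀ n : ↥N, ((φ n : ↥N) : G) = (n : G) * (x * n * x⁻¹) := by
    refine ⟨MonoidHom.mk' (fun n => ⟨(n : G) * (x * n * x⁻¹),
      N.mul_mem n.2 (hNn.conj_mem n n.2 x)⟩) ?_, fun n => rfl⟩
    intro a b
    apply Subtype.ext
    show ((a * b : ↥N) : G) * (x * ((a * b : ↥N) : G) * x⁻¹) =
      ((a : G) * (x * a * x⁻¹)) * ((b : G) * (x * b * x⁻¹))
    rw [Subgroup.coe_mul]
    have h1 : (b : G) * (x * a * x⁻¹) = (x * a * x⁻¹) * b :=
      hNcomm _ b.2 _ (hNn.conj_mem a a.2 x)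
    calc (a : G) * b * (x * ((a : G) * b) * x⁻¹)
        = a * ((b : G) * (x * a * x⁻¹)) * (x * b * x⁻¹) := by group
      _ = a * ((x * a * x⁻¹) * b) * (x * b * x⁻¹) := by rw [h1]
      _ = (a : G) * (x * a * x⁻¹) * ((b : G) * (x * b * x⁻¹)) := by group
  have hfix : ∀ c ∈ N, c * c = 1 → x * c * x⁻¹ = c → c = 1 ∨ c = y := by
    intro c hc hcc hxc
    by_cases hc1 : c = 1
    · exact Or.inl hc1
    · right
      apply hone c hc (orderOf_eq_prime (by rw [pow_two]; exact hcc) hc1)
      show c * x = x * c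
      calc c * x = (x * c * x⁻¹) * x := by rw [hxc]
        _ = x * c := by group
  have hsmall : ∀ H : Subgroup ↥N,
      (∀ h ∈ H, ((h : ↥N) : G) = 1 ∨ ((h : ↥N) : G) = y) → Nat.card ↥H ≤ 2 := by
    intro H hH
    have hle : Nat.card ↥H ≤ Nat.card Bool := by
      apply Nat.card_le_card_of_injective (fun h : ↥H => decide (((h : ↥N) : G) = 1))
      intro h1 h2 heq
      apply Subtype.ext; apply Subtype.ext
      simp only [decide_eq_decide] at heq
      rcases hH h1.1 h1.2 with e1 | e1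
      · rw [e1]; exact (heq.mp e1).symm
      · rcases hH h2.1 h2.2 with e2 | e2
        · exact absurd (heq.mpr e2) (by rw [e1]; exact hy1)
        · rw [e1, e2]
    have hb2 : Nat.card Bool = 2 := by rw [Nat.card_eq_fintype_card (α := Bool), Fintype.card_bool]
    rw [hb2] at hle
    exact hle
  have hker : ∀ n ∈ φ.ker, ((n : ↥N) : G) = 1 ∨ ((n : ↥N) : G) = y := by
    intro n hn
    have h1 : ((φ n : ↥N) : G) = 1 := by rw [MonoidHom.mem_ker.mp hn]; rfl
    rw [hφ] at h1
    have hnn := hNsq n n.2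
    have hni : (n : G)⁻¹ = n := inv_eq_of_mul_eq_one_right hnn
    have h2 : x * n * x⁻¹ = n := by
      have h3 := eq_inv_of_mul_eq_one_right h1
      rw [h3, hni]
    exact hfix n n.2 hnn h2
  have hrange : ∀ c ∈ φ.range, ((c : ↥N) : G) = 1 ∨ ((c : ↥N) : G) = y := by
    rintro c ⟨n, rfl⟩
    rw [hφ]
    have hmem : (n : G) * (x * n * x⁻¹) ∈ N := N.mul_mem n.2 (hNn.conj_mem n n.2 x)
    apply hfix _ hmem (hNsq _ hmem)
    have hcomm : (x * n * x⁻¹) * (n : G) = n * (x * n * x⁻¹) :=
      hNcomm _ (hNn.conj_mem n n.2 x) _ n.2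
    calc x * ((n : G) * (x * n * x⁻¹)) * x⁻¹
        = (x * n * x⁻¹) * ((x * x) * n * (x * x)⁻¹) := by group
      _ = (x * n * x⁻¹) * n := by rw [hxx, one_mul, inv_one, mul_one]
      _ = n * (x * n * x⁻¹) := hcomm
  have h1 := hsmall φ.ker hker
  have h2 := hsmall φ.range hrange
  have h3 := Subgroup.card_mul_index φ.ker
  rw [Subgroup.index_ker] at h3
  calc Nat.card ↥N = Nat.card ↥φ.ker * Nat.card ↥φ.range := h3.symm
    _ ≤ 2 * 2 := Nat.mul_le_mul h1 h2
    _ = 4 := by norm_num

end Cfsg.Agent.S3276
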