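import Cfsg.Statements.S3305
import Mathlib

set_option autoImplicit false
open Cfsg

namespace Cfsg.Agent.S3305

theorem exists_sylow_lift {G : Type*} [Group G] [Finite G] {p : ℕ} [Fact p.Prime]
    (H : Subgroup G) [H.Normal] (Tb : Sylow p (G ⧸ H)) (D : Subgroup G) (hD : IsPGroup p D)
    (hDT : D.map (QuotientGroup.mk' H) ≤ (Tb : Subgroup (G ⧸ H))) :
    ∃ T : Sylow p G, D ≤ (T : Subgroup G) ∧
      (T : Subgroup G).map (QuotientGroup.mk' H) = (Tb : Subgroup (G ⧸ H)) := by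
  have hπ : Function.Surjective (QuotientGroup.mk' H) := QuotientGroup.mk'_surjective H
  have hDY : D ≤ (Tb : Subgroup (G ⧸ H)).comap (QuotientGroup.mk' H) := by
    rwa [← Subgroup.map_le_iff_le_comap]
  obtain ⟨Q, hQ⟩ := (hD.comap_subtype
    (K := (Tb : Subgroup (G ⧸ H)).comap (QuotientGroup.mk' H))).exists_le_sylow
  obtain ⟨T₁, hT₁⟩ := (Q.2.map
    ((Tb : Subgroup (G ⧸ H)).comap (QuotientGroup.mk' H)).subtype).exists_le_sylow
  refine ⟨T₁, ?_, ?_⟩
  · intro d hd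
    apply hT₁
    refine ⟨⟨d, hDY hd⟩, hQ ?_, rfl⟩
    exact hd
  · have hf := MonoidHom.subgroupComap_surjective_of_surjective (QuotientGroup.mk' H)
      (Tb : Subgroup (G ⧸ H)) hπ
    have htop : ((Q.mapSurjective hf : Sylow p ↥(Tb : Subgroup (G ⧸ H))) :
        Subgroup ↥(Tb : Subgroup (G ⧸ H))) = ⊤ := by
      symm
      apply Sylow.is_maximal'
      · exact Tb.2.to_subgroup _
      · exact le_top
    have hle : (Tb : Subgroup (G ⧸ H)) ≤ (T₁ : Subgroup G).map (QuotientGroup.mk' H) := by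
      intro t ht
      have : (⟨t, ht⟩ : ↥(Tb : Subgroup (G ⧸ H))) ∈
          ((Q.mapSurjective hf : Sylow p ↥(Tb : Subgroup (G ⧸ H))) :
            Subgroup ↥(Tb : Subgroup (G ⧸ H))) := by
        rw [htop]; exact Subgroup.mem_top _
      rw [Sylow.coe_mapSurjective] at this
      obtain ⟨q, hqQ, hq⟩ := this
      refine ⟨(q : G), hT₁ ⟨q, hqQ, rfl⟩, ?_⟩
      have := congrArg Subtype.val hq
      exact this
    exact Tb.is_maximal' (T₁.2.map _) hle

theorem cyclic_inter_quot {G : Type*} [Group G] [Finite G] {p : ℕ} [Fact p.Prime]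
    (hC : ∀ S T : Sylow p G, S ≠ T → IsCyclic ↥((S : Subgroup G) ⊓ (T : Subgroup G)))
    (H : Subgroup G) [H.Normal] (Sb Tb : Sylow p (G ⧸ H)) (hne : Sb ≠ Tb) :
    IsCyclic ↥((Sb : Subgroup (G ⧸ H)) ⊓ (Tb : Subgroup (G ⧸ H))) := by
  obtain ⟨S, -, hS⟩ := exists_sylow_lift H Sb ⊥ IsPGroup.of_bot (by simp)
  have hDp : IsPGroup p ↥((S : Subgroup G) ⊓ (Tb : Subgroup (G ⧸ H)).comap (QuotientGroup.mk' H)) :=
    S.2.to_le inf_le_left
  obtain ⟨T, hDT, hT⟩ := exists_sylow_lift H Tb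
    ((S : Subgroup G) ⊓ (Tb : Subgroup (G ⧸ H)).comap (QuotientGroup.mk' H)) hDp (by
      rw [Subgroup.map_le_iff_le_comap]; exact inf_le_right)
  have hST : S ≠ T := by
    intro h
    apply hne
    apply Sylow.ext
    rw [← hS, ← hT, h]
  have := hC S T hST
  -- the subgroup D is contained in S ⊓ T
  have hDle : (S : Subgroup G) ⊓ (Tb : Subgroup (G ⧸ H)).comap (QuotientGroup.mk' H) ≤
      (S : Subgroup G) ⊓ (T : Subgroup G) := le_inf inf_le_left hDT
  -- define the surjection from a subgroup of the cyclic group S ⊓ T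
  let D' : Subgroup ↥((S : Subgroup G) ⊓ (T : Subgroup G)) :=
    ((S : Subgroup G) ⊓ (Tb : Subgroup (G ⧸ H)).comap (QuotientGroup.mk' H)).subgroupOf
      ((S : Subgroup G) ⊓ (T : Subgroup G))
  let f : ↥D' →* ↥((Sb : Subgroup (G ⧸ H)) ⊓ (Tb : Subgroup (G ⧸ H))) :=
    { toFun := fun d => ⟨QuotientGroup.mk' H ((d : ↥((S : Subgroup G) ⊓ (T : Subgroup G))) : G), by
        have hd : ((d : ↥((S : Subgroup G) ⊓ (T : Subgroup G))) : G) ∈
            (S : Subgroup G) ⊓ (Tb : Subgroup (G ⧸ H)).comap (QuotientGroup.mk' H) := d.2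
        refine ⟨?_, hd.2⟩
        rw [← hS]
        exact ⟨_, hd.1, rfl⟩⟩
      map_one' := by ext; simp
      map_mul' := by intro a b; ext; simp }
  have hf : Function.Surjective f := by
    rintro ⟨x, hxS, hxT⟩
    rw [← hS] at hxS
    obtain ⟨s, hsS, rfl⟩ := hxS
    have hsD : s ∈ (S : Subgroup G) ⊓ (Tb : Subgroup (G ⧸ H)).comap (QuotientGroup.mk' H) :=
      ⟨hsS, hxT⟩
    refine ⟨⟨⟨s, hDle hsD⟩, hsD⟩, ?_⟩
    ext
    rfl
  exact isCyclic_of_surjective f hf


/-- If any two distinct Sylow 2-subgroups of the finite group G intersect in a cyclic group, then the same holds in every quotient group G/H, H a normal subgroup of G. -/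
theorem result {G : Type*} [Group G] [Finite G]
    (hC : ∀ S T : Sylow 2 G, S ≠ T → IsCyclic ↥((S : Subgroup G) ⊓ (T : Subgroup G))) (H : Subgroup G) [H.Normal] :
    ∀ S T : Sylow 2 (G ⧸ H), S ≠ T → IsCyclic ↥((S : Subgroup (G ⧸ H)) ⊓ (T : Subgroup (G ⧸ H))) := by
  intro S T hST
  exact cyclic_inter_quot hC H S T hST

end Cfsg.Agent.S3305
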