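import Cfsg.Statements.S3303
import Mathlib
import Cfsg.Agent.S3305
import Cfsg.Agent.S0044
import Cfsg.Agent.Lib.Helper1.Fitting2

set_option autoImplicit false
open Cfsg

namespace Cfsg.Agent.S3303

/-- the odd core of `G / O(G)` is trivial -/
theorem oddCore_quot_eq_bot {G : Type*} [Group G] [Finite G] :
    Cfsg.pPrimeCore 2 (G ⧸ Cfsg.pPrimeCore 2 G) = ⊥ := by
  classical
  have h2 : Fact (Nat.Prime 2) := ⟨Nat.prime_two⟩
  obtain ⟨N, hN⟩ : ∃ N : Subgroup G, N = Cfsg.pPrimeCore 2 G := ⟨_, rfl⟩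
  have hNn : N.Normal := hN ▸ Cfsg.pPrimeCore_normal 2 G
  have hNc : (Nat.card N).Coprime 2 := hN ▸ Cfsg.Agent.Lib.Helper1.pPrimeCore_coprime 2
  suffices h : Cfsg.pPrimeCore 2 (G ⧸ N) = ⊥ by subst hN; exact h
  obtain ⟨Kb, hKb⟩ : ∃ Kb : Subgroup (G ⧸ N), Kb = Cfsg.pPrimeCore 2 (G ⧸ N) := ⟨_, rfl⟩
  have hKbn : Kb.Normal := hKb ▸ Cfsg.pPrimeCore_normal 2 (G ⧸ N)
  have hKbc : (Nat.card Kb).Coprime 2 := hKb ▸ Cfsg.Agent.Lib.Helper1.pPrimeCore_coprime 2
  rw [← hKb]
  let K := Kb.comap (QuotientGroup.mk' N)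
  have hKn : K.Normal := inferInstance
  have hKcard : Nat.card K = Nat.card N * Nat.card Kb := by
    have := QuotientGroup.card_preimage_mk N (Kb : Set (G ⧸ N))
    exact this
  have hcop : (Nat.card K).Coprime 2 := by
    rw [hKcard]; exact Nat.Coprime.mul_left hNc hKbc
  have hle : K ≤ N := by
    rw [hN]; exact Cfsg.Agent.Lib.Helper1.le_pPrimeCore K hKn hcop
  rw [eq_bot_iff]
  intro x hx
  obtain ⟨g, rfl⟩ := QuotientGroup.mk'_surjective N x
  have hgK : g ∈ K := hx
  rw [Subgroup.mem_bot]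
  exact (QuotientGroup.eq_one_iff g).mpr (hle hgK)

/-- a finite solvable group with trivial odd core and cyclic Sylow 2-intersections is 2-closed -/
theorem sylow_normal_of_core_free {X : Type*} [Group X] [Finite X] [hs : Group.IsSolvable X]
    (hO : Cfsg.pPrimeCore 2 X = ⊥)
    (hC : ∀ S T : Sylow 2 X, S ≠ T → IsCyclic ↥((S : Subgroup X) ⊓ (T : Subgroup X))) :
    ∃ P : Sylow 2 X, (P : Subgroup X).Normal := by
  classical
  have h2 : Fact (Nat.Prime 2) := ⟨Nat.prime_two⟩
  obtain ⟨P⟩ : Nonempty (Sylow 2 X) := inferInstance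
  by_contra hcon
  push Not at hcon
  -- a second Sylow subgroup
  obtain ⟨T, hT⟩ : ∃ T : Sylow 2 X, P ≠ T := by
    by_contra hall
    push Not at hall
    have : Subsingleton (Sylow 2 X) := ⟨fun A B => (hall A).symm.trans (hall B)⟩
    exact hcon P (Sylow.normal_of_subsingleton P)
  -- R = O_2(X) is cyclic
  obtain ⟨R, hR⟩ : ∃ R : Subgroup X, R = Cfsg.pCore 2 X := ⟨_, rfl⟩
  have hRn : R.Normal := hR ▸ Cfsg.pCore_normal 2 X
  have hRle : R ≤ (P : Subgroup X) ⊓ (T : Subgroup X) := by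
    rw [hR]
    exact le_inf (Cfsg.Agent.Lib.Helper1.pCore_le_sylow P) (Cfsg.Agent.Lib.Helper1.pCore_le_sylow T)
  have hRcyc : IsCyclic R := by
    have := hC P T hT
    have hinj : Function.Injective (Subgroup.inclusion hRle) := Subgroup.inclusion_injective hRle
    exact isCyclic_of_injective (Subgroup.inclusion hRle) hinj
  have hRp : IsPGroup 2 R := hR ▸ Cfsg.Agent.Lib.Helper1.pCore_isPGroup
  -- F(X) ≤ R
  have hFR : Cfsg.fittingSubgroup X ≤ R := by
    rw [Cfsg.Agent.Lib.Helper1.fitting_eq_pCoreSup]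
    have := Cfsg.Agent.Lib.Helper1.pCoreSup_le_sup (G := X) 2
    rw [hO, sup_bot_eq] at this
    rw [hR]; exact this
  -- C(R) ≤ R
  have hCR : Subgroup.centralizer (R : Set X) ≤ R := by
    have h1 : Subgroup.centralizer (R : Set X) ≤ Subgroup.centralizer (Cfsg.fittingSubgroup X : Set X) :=
      Subgroup.centralizer_le hFR
    exact (h1.trans Cfsg.Agent.S0044.result).trans hFR
  -- X is a 2-group
  let φ : X →* MulAut R := MulAut.conjNormal
  have hker : φ.ker = Subgroup.centralizer (R : Set X) := by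
    ext g
    rw [MonoidHom.mem_ker, Subgroup.mem_centralizer_iff]
    constructor
    · intro hg r hr
      have := congrArg (fun f : MulAut R => ((f ⟨r, hr⟩ : R) : X)) hg
      simp only [φ, MulAut.conjNormal_apply, MulAut.one_apply] at this
      have e : g * r = (g * r * g⁻¹) * g := by group
      rw [e, this]
    · intro hg
      ext r
      simp only [φ, MulAut.conjNormal_apply, MulAut.one_apply]
      have := hg r r.2
      rw [← this]; group
  obtain ⟨k, hk⟩ := (IsPGroup.iff_card).mp hRp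
  have hcardX : ∃ m, Nat.card X = 2 ^ m := by
    have h1 : Nat.card X = Nat.card φ.ker * Nat.card φ.range := by
      rw [← Nat.card_congr (QuotientGroup.quotientKerEquivRange φ).toEquiv, mul_comm]
      exact Subgroup.card_eq_card_quotient_mul_card_subgroup φ.ker
    have h2 : Nat.card φ.ker ∣ 2 ^ k := by
      rw [hker, ← hk]; exact Subgroup.card_dvd_of_le hCR
    have h3 : Nat.card φ.range ∣ Nat.card (MulAut R) := Subgroup.card_subgroup_dvd_card _
    have h4 : Nat.card (MulAut R) ∣ 2 ^ k := by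
      rw [hRcyc.card_mulAut, hk]
      rcases Nat.eq_zero_or_pos k with h0 | h0
      · rw [h0]; simp
      · rw [Nat.totient_prime_pow Nat.prime_two h0]
        have : 2 ^ k = 2 ^ (k - 1) * 2 := by rw [← pow_succ]; congr 1; omega
        rw [this]; exact mul_dvd_mul_left _ (by norm_num)
    have h5 : Nat.card X ∣ 2 ^ k * 2 ^ k := by
      rw [h1]; exact mul_dvd_mul h2 (h3.trans h4)
    rw [← pow_add] at h5
    obtain ⟨m, _, hm⟩ := (Nat.dvd_prime_pow Nat.prime_two).mp h5
    exact ⟨m, hm⟩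
  obtain ⟨m, hm⟩ := hcardX
  have hXp : IsPGroup 2 (⊤ : Subgroup X) := by
    apply IsPGroup.of_card (n := m)
    rw [Subgroup.card_top, hm]
  have h1 : (⊤ : Subgroup X) = P := P.is_maximal' hXp le_top
  have h3 : (⊤ : Subgroup X) = T := T.is_maximal' hXp le_top
  exact hT (Sylow.ext (h1.symm.trans h3))


/-- Let G be a finite solvable group in which the intersection of any two distinct Sylow 2-subgroups is cyclic. Then G/O(G) has a normal Sylow 2-subgroup, where O(G) is the largest normal subgroup of odd order. -/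
theorem result {G : Type*} [Group G] [Finite G] (hs : Group.IsSolvable G)
    (hC : ∀ S T : Sylow 2 G, S ≠ T → IsCyclic ↥((S : Subgroup G) ⊓ (T : Subgroup G))) :
    ∃ P : Sylow 2 (G ⧸ Cfsg.oddCore G), (P : Subgroup (G ⧸ Cfsg.oddCore G)).Normal := by
  haveI := hs
  have hq := Cfsg.Agent.S3305.result hC (Cfsg.oddCore G)
  exact sylow_normal_of_core_free (X := G ⧸ Cfsg.oddCore G) oddCore_quot_eq_bot hq

end Cfsg.Agent.S3303
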