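import Cfsg.Statements.S3294
import Mathlib
import Cfsg.Agent.S0044
import Cfsg.Agent.S3303
import Cfsg.Agent.Lib.Helper1.Fitting2
import Cfsg.Agent.Lib.Helper6.QuatSylow
import Cfsg.Agent.Lib.Helper6.NPC

set_option autoImplicit false
open Cfsg Cfsg.Agent.Lib.Helper6

namespace Cfsg.Agent.S3294

open Subgroup in
/-- in a solvable group with trivial odd core, `O_2` contains its centralizer -/
theorem centralizer_pCore_le {X : Type*} [Group X] [Finite X] [Group.IsSolvable X]
    (hO : Cfsg.pPrimeCore 2 X = ⊥) :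
    Subgroup.centralizer (Cfsg.pCore 2 X : Set X) ≤ Cfsg.pCore 2 X := by
  have h2 : Fact (Nat.Prime 2) := ⟨Nat.prime_two⟩
  have hFR : Cfsg.fittingSubgroup X ≤ Cfsg.pCore 2 X := by
    rw [Cfsg.Agent.Lib.Helper1.fitting_eq_pCoreSup]
    have := Cfsg.Agent.Lib.Helper1.pCoreSup_le_sup (G := X) 2
    rw [hO, sup_bot_eq] at this
    exact this
  have h1 : Subgroup.centralizer (Cfsg.pCore 2 X : Set X) ≤
      Subgroup.centralizer (Cfsg.fittingSubgroup X : Set X) := Subgroup.centralizer_le hFR
  exact (h1.trans Cfsg.Agent.S0044.result).trans hFR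

open Subgroup in
/-- a solvable group with trivial odd core and large generalized quaternion Sylow 2-subgroup is a
2-group -/
theorem two_group_of_quaternion_sylow {X : Type*} [Group X] [Finite X] [Group.IsSolvable X]
    (hO : Cfsg.pPrimeCore 2 X = ⊥) (T : Sylow 2 X) (n : ℕ) (hn : 3 ≤ n) (a' : X)
    (ha'T : a' ∈ (T : Subgroup X)) (ha'o : orderOf a' = 2 ^ (n + 1))
    (hcardT : Nat.card (T : Subgroup X) = 2 ^ (n + 2))
    (hQ : ∀ u ∈ (T : Subgroup X), u ∈ zpowers a' ∨ (u * a' * u⁻¹ = a'⁻¹ ∧ u ^ 4 = 1)) :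
    IsPGroup 2 X := by
  classical
  have h2 : Fact (Nat.Prime 2) := ⟨Nat.prime_two⟩
  obtain ⟨R, hR⟩ : ∃ R : Subgroup X, R = Cfsg.pCore 2 X := ⟨_, rfl⟩
  have hRn : R.Normal := hR ▸ Cfsg.pCore_normal 2 X
  have hRT : R ≤ (T : Subgroup X) := hR ▸ Cfsg.Agent.Lib.Helper1.pCore_le_sylow T
  have hRp : IsPGroup 2 R := hR ▸ Cfsg.Agent.Lib.Helper1.pCore_isPGroup
  have hCR : Subgroup.centralizer (R : Set X) ≤ R := hR ▸ centralizer_pCore_le hO
  have hle : zpowers a' ≤ (T : Subgroup X) := by rw [zpowers_le]; exact ha'T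
  have hidxT : ((zpowers a').subgroupOf (T : Subgroup X)).index = 2 := by
    have h1 := ((zpowers a').subgroupOf (T : Subgroup X)).card_mul_index
    have h2' : Nat.card ((zpowers a').subgroupOf (T : Subgroup X)) = 2 ^ (n + 1) := by
      rw [Nat.card_congr (Subgroup.subgroupOfEquivOfLe hle).toEquiv, Nat.card_zpowers, ha'o]
    rw [h2', hcardT, pow_succ 2 (n + 1)] at h1
    exact Nat.eq_of_mul_eq_mul_left (by positivity) h1
  -- key: odd order elements centralize R
  have key : ∀ g : X, ∀ k : ℕ, Odd k → g ^ k = 1 → g ∈ Subgroup.centralizer (R : Set X) := by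
    intro g k hk hgk
    have hgN : g ∈ Subgroup.normalizer (R : Set X) := by
      rw [Subgroup.normalizer_eq_top]; trivial
    by_cases hcase : R ≤ zpowers a'
    · have hcyc : IsCyclic R :=
        isCyclic_of_injective (Subgroup.inclusion hcase) (Subgroup.inclusion_injective hcase)
      exact centralizes_cyclic_two_group R hcyc hRp g hgN k hk hgk
    · obtain ⟨u, huR, hua⟩ := SetLike.not_le_iff_exists.mp hcase
      rcases hQ u (hRT huR) with h | ⟨hconj, hu4⟩
      · exact absurd h hua
      have ha2R : a' ^ 2 ∈ R := by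
        have h1 : a' * u * a'⁻¹ ∈ R := hRn.conj_mem u huR a'
        have h2' : (a' * u * a'⁻¹) * u⁻¹ ∈ R := mul_mem h1 (inv_mem huR)
        have h3 : u * a'⁻¹ * u⁻¹ = a' := by
          have h4 : u * a'⁻¹ * u⁻¹ = (u * a' * u⁻¹)⁻¹ := by group
          rw [h4, hconj, inv_inv]
        have : (a' * u * a'⁻¹) * u⁻¹ = a' ^ 2 := by
          calc (a' * u * a'⁻¹) * u⁻¹ = a' * (u * a'⁻¹ * u⁻¹) := by group
            _ = a' ^ 2 := by rw [h3, pow_two]
        rwa [this] at h2'
      obtain ⟨A, hA⟩ : ∃ A : Subgroup X, A = R ⊓ zpowers a' := ⟨_, rfl⟩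
      have hAR : A ≤ R := hA ▸ inf_le_left
      have hAa : A ≤ zpowers a' := hA ▸ inf_le_right
      have hAcyc : IsCyclic A :=
        isCyclic_of_injective (Subgroup.inclusion hAa) (Subgroup.inclusion_injective hAa)
      obtain ⟨w, hwA, hAw⟩ := exists_zpowers_eq_of_isCyclic A hAcyc
      have hAp : IsPGroup 2 A := hRp.to_le hAR
      -- order of w
      have ha2o : orderOf (a' ^ 2) = 2 ^ n := by
        rw [orderOf_pow' a' (by norm_num), ha'o, Nat.gcd_eq_right (dvd_pow_self 2 (by omega))]
        rw [pow_succ, Nat.mul_div_cancel _ (by norm_num)]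
      have hwo : 2 ^ n ∣ orderOf w := by
        rw [← ha2o, ← Nat.card_zpowers w, ← hAw]
        have ha2A : a' ^ 2 ∈ A := by
          rw [hA]; exact ⟨ha2R, Subgroup.pow_mem _ (mem_zpowers a') 2⟩
        have := orderOf_dvd_natCard (⟨a' ^ 2, ha2A⟩ : A)
        rwa [Subgroup.orderOf_mk] at this
      -- index two
      have hcardR : Nat.card R = 2 * orderOf w := by
        have hidx : (A.subgroupOf R).index = 2 := by
          rw [Subgroup.index_eq_two_iff_exists_notMem_and]
          refine ⟨⟨u, huR⟩, ?_, fun y => ?_⟩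
          · rw [Subgroup.mem_subgroupOf, hA]
            exact fun h => hua h.2
          · simp only [Subgroup.mem_subgroupOf, Subgroup.coe_mul]
            by_cases hy : (y : X) ∈ zpowers a'
            · right; rw [hA]; exact ⟨y.2, hy⟩
            · left
              rw [hA]
              refine ⟨mul_mem y.2 huR, ?_⟩
              have := Subgroup.mul_mem_iff_of_index_two hidxT (a := ⟨(y : X), hRT y.2⟩)
                (b := ⟨u, hRT huR⟩)
              simp only [Subgroup.mem_subgroupOf, Subgroup.coe_mul] at this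
              exact this.mpr ⟨fun h => absurd h hy, fun h => absurd h hua⟩
        have h1 := (A.subgroupOf R).card_mul_index
        rw [hidx, Nat.card_congr (Subgroup.subgroupOfEquivOfLe hAR).toEquiv, hAw,
          Nat.card_zpowers] at h1
        rw [← h1, mul_comm]
      -- g normalizes A
      have hgA : g ∈ Subgroup.normalizer (A : Set X) := by
        apply Subgroup.mem_normalizer_fintype
        intro h hh
        have hh' : h ∈ A := hh
        rw [hAw] at hh'
        obtain ⟨j, rfl⟩ := Subgroup.mem_zpowers_iff.mp hh'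
        have hconjw : g * w * g⁻¹ ∈ A := by
          have hR' : g * w * g⁻¹ ∈ R := hRn.conj_mem w (hAR hwA) g
          rw [hA]
          refine ⟨hR', ?_⟩
          rcases hQ _ (hRT hR') with h | ⟨_, h4⟩
          · exact h
          · exfalso
            have h5 : orderOf (g * w * g⁻¹) = orderOf w := by
              have := (MulAut.conj g).orderOf_eq w
              simpa [MulAut.conj_apply] using this
            have h6 : orderOf (g * w * g⁻¹) ∣ 4 := orderOf_dvd_of_pow_eq_one h4
            rw [h5] at h6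
            have h7 : 2 ^ n ∣ 4 := hwo.trans h6
            have h8 : 2 ^ 3 ∣ 2 ^ n := pow_dvd_pow 2 hn
            have := Nat.le_of_dvd (by norm_num) (h8.trans h7)
            omega
        have : g * w ^ j * g⁻¹ = (g * w * g⁻¹) ^ j := by
          have := map_zpow (MulAut.conj g) w j
          simpa [MulAut.conj_apply] using this
        show g * w ^ j * g⁻¹ ∈ A
        rw [this]
        exact Subgroup.zpow_mem _ hconjw j
      have hgcA := centralizes_cyclic_two_group A hAcyc hAp g hgA k hk hgk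
      have hgw : Commute g w := by
        have := (Subgroup.mem_centralizer_iff.mp hgcA) w hwA
        exact this.symm
      have hall := commute_of_commute_index_two' R hRp w (hAR hwA) hcardR g hgN hgw k hk hgk
      rw [Subgroup.mem_centralizer_iff]
      intro v hv
      exact (hall v hv).eq.symm
  -- X is a 2-group
  intro g
  obtain ⟨s, t, ht, hst⟩ := Nat.exists_eq_two_pow_mul_odd (orderOf_pos g).ne'
  have h1 : (g ^ (2 ^ s)) ^ t = 1 := by rw [← pow_mul, ← hst, pow_orderOf_eq_one]
  have h3 := hCR (key (g ^ (2 ^ s)) t ht h1)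
  obtain ⟨j, hj⟩ := hRp ⟨g ^ (2 ^ s), h3⟩
  have hj' : (g ^ (2 ^ s)) ^ (2 ^ j) = 1 := congrArg Subtype.val hj
  refine ⟨s + j, ?_⟩
  rw [pow_add, pow_mul]; exact hj'


/-- A finite solvable group whose Sylow 2-subgroups are generalized quaternion of order at least 32 has a normal 2-complement. -/
theorem result {G : Type*} [Group G] [Finite G] (hsol : Group.IsSolvable G) (T : Sylow 2 G) (n : ℕ) (hn : 3 ≤ n) (hT : Nonempty ((T : Subgroup G) ≃* QuaternionGroup (2 ^ n))) : Cfsg.HasNormalPComplement 2 G := by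
  classical
  have h2 : Fact (Nat.Prime 2) := ⟨Nat.prime_two⟩
  have hsol' := hsol
  obtain ⟨e⟩ := hT
  have hne : NeZero (2 ^ n) := ⟨by positivity⟩
  obtain ⟨a₀, ha₀, hQ₀⟩ := quaternion_structure (2 ^ n) e
  obtain ⟨N, hN⟩ : ∃ N : Subgroup G, N = Cfsg.pPrimeCore 2 G := ⟨_, rfl⟩
  have hNn : N.Normal := hN ▸ Cfsg.pPrimeCore_normal 2 G
  have hNcop : (Nat.card N).Coprime 2 := hN ▸ Cfsg.Agent.Lib.Helper1.pPrimeCore_coprime 2
  have hObot : Cfsg.pPrimeCore 2 (G ⧸ N) = ⊥ := by
    subst hN; exact Cfsg.Agent.S3303.oddCore_quot_eq_bot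
  let f : (T : Subgroup G) →* G ⧸ N := (QuotientGroup.mk' N).comp (T : Subgroup G).subtype
  have hf : Function.Injective f := by
    rw [injective_iff_map_eq_one]
    intro t ht
    have htN : (t : G) ∈ N := (QuotientGroup.eq_one_iff _).mp ht
    have h1 : orderOf (t : G) ∣ Nat.card N := by
      have := orderOf_dvd_natCard (⟨t, htN⟩ : N)
      rwa [Subgroup.orderOf_mk] at this
    obtain ⟨j, hj⟩ := T.2 t
    have h3 : orderOf (t : G) ∣ 2 ^ j := by
      rw [Subgroup.orderOf_coe]; exact orderOf_dvd_of_pow_eq_one hj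
    have : orderOf (t : G) = 1 := Nat.eq_one_of_dvd_coprimes (hNcop.pow_right j) h1 h3
    exact Subtype.ext (orderOf_eq_one_iff.mp this)
  obtain ⟨ho, hQ⟩ := quaternion_structure_map f hf (2 ^ n) a₀ ha₀ hQ₀
  let T' : Sylow 2 (G ⧸ N) := T.mapSurjective (QuotientGroup.mk'_surjective N)
  have hT'eq : (T' : Subgroup (G ⧸ N)) = f.range := by
    rw [Sylow.coe_mapSurjective]
    ext x
    simp only [Subgroup.mem_map, MonoidHom.mem_range, f, MonoidHom.coe_comp, Function.comp_apply,
      Subgroup.coe_subtype, Subtype.exists, exists_prop]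
  have hcard : Nat.card (T' : Subgroup (G ⧸ N)) = 2 ^ (n + 2) := by
    rw [hT'eq, ← Nat.card_congr (MonoidHom.ofInjective hf).toEquiv, Nat.card_congr e.toEquiv,
      Nat.card_eq_fintype_card, QuaternionGroup.card]
    ring
  have hsolq : Group.IsSolvable (G ⧸ N) := inferInstance
  have hX := two_group_of_quaternion_sylow hObot T' n hn (f a₀)
    (by rw [hT'eq]; exact ⟨a₀, rfl⟩) (by rw [ho]; ring) hcard (by rw [hT'eq]; exact hQ)
  obtain ⟨k, hk⟩ := (IsPGroup.iff_card).mp hX
  exact npc_of_card_index 2 N hNcop k (by rw [Subgroup.index_eq_card]; exact hk)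

end Cfsg.Agent.S3294
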