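import Cfsg.Statements.S3349
import Mathlib

set_option autoImplicit false
open Cfsg

namespace Cfsg.Agent.S3349

/-- Let Q be a finite extraspecial p-group and α an automorphism of Q fixing every element of some maximal abelian subgroup of Q. Then the order of α is a power of p. -/
theorem result {Q : Type*} [Group Q] [Finite Q]
    (p : ℕ) [Fact p.Prime] (hQ : Cfsg.IsExtraspecial p Q) (α : MulAut Q)
    (A : Subgroup Q) (hA : IsMulCommutative A) (hmax : ∀ B : Subgroup Q, A ≤ B → IsMulCommutative B → B = A)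
    (hfix : ∀ a ∈ A, α a = a) :
    ∃ k : ℕ, orderOf α = p ^ k := by
  obtain ⟨⟨hpg, hfrat, hcomm⟩, hcard⟩ := hQ
  have hpprime : p.Prime := Fact.out
  have hAc : ∀ a ∈ A, ∀ b ∈ A, a * b = b * a := by
    intro a ha b hb
    have := hA.is_comm.comm (⟨a, ha⟩ : A) ⟨b, hb⟩
    exact congrArg Subtype.val this
  have hCA : ∀ c : Q, (∀ a ∈ A, c * a = a * c) → c ∈ A := by
    intro c hc
    have hB : IsMulCommutative (Subgroup.closure ((A : Set Q) ∪ {c})) := by
      apply Subgroup.isMulCommutative_closure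
      intro x hx y hy
      rcases hx with hx | hx <;> rcases hy with hy | hy
      · exact hAc x hx y hy
      · rw [Set.mem_singleton_iff] at hy; rw [hy]; exact (hc x hx).symm
      · rw [Set.mem_singleton_iff] at hx; rw [hx]; exact hc y hy
      · rw [Set.mem_singleton_iff] at hx hy; rw [hx, hy]
    have hle : A ≤ Subgroup.closure ((A : Set Q) ∪ {c}) :=
      fun a ha => Subgroup.subset_closure (Or.inl ha)
    have := hmax _ hle hB
    rw [← this]
    exact Subgroup.subset_closure (Or.inr rfl)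
  have hZA : Subgroup.center Q ≤ A :=
    fun z hz => hCA z (fun a _ => (Subgroup.mem_center_iff.mp hz a).symm)
  have hcommZ : ∀ x y : Q, x * y * x⁻¹ * y⁻¹ ∈ Subgroup.center Q := by
    intro x y
    rw [← hcomm]
    exact Subgroup.commutator_mem_commutator (Subgroup.mem_top x) (Subgroup.mem_top y)
  have hconjA : ∀ x : Q, ∀ a ∈ A, x * a * x⁻¹ ∈ A := by
    intro x a ha
    have := hZA (hcommZ x a)
    have e : x * a * x⁻¹ = (x * a * x⁻¹ * a⁻¹) * a := by group
    rw [e]; exact A.mul_mem this ha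
  have hdiff : ∀ x : Q, x⁻¹ * α x ∈ A := by
    intro x
    apply hCA
    intro a ha
    have h1 := hfix _ (hconjA x a ha)
    rw [map_mul, map_mul, map_inv, hfix a ha] at h1
    calc x⁻¹ * α x * a = x⁻¹ * (α x * a * (α x)⁻¹) * α x := by group
      _ = x⁻¹ * (x * a * x⁻¹) * α x := by rw [h1]
      _ = a * (x⁻¹ * α x) := by group
  have hiter : ∀ (k : ℕ) (x : Q), (α ^ k) x = x * (x⁻¹ * α x) ^ k := by
    intro k
    induction k with
    | zero => intro x; simp
    | succ k ih =>
      intro x
      rw [pow_succ', MulAut.mul_apply, ih, map_mul, map_pow, hfix _ (hdiff x), pow_succ',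
        ← mul_assoc, mul_inv_cancel_left]
  have hzp : ∀ z ∈ Subgroup.center Q, z ^ p = 1 := by
    intro z hz
    have := pow_card_eq_one' (G := Subgroup.center Q) (x := ⟨z, hz⟩)
    rw [hcard] at this
    exact congrArg Subtype.val this
  have hxp : ∀ x : Q, x ^ p ∈ Subgroup.center Q := by
    intro x
    rw [Subgroup.mem_center_iff]
    intro y
    have hz := hcommZ x⁻¹ y
    set z := x⁻¹ * y * x⁻¹⁻¹ * y⁻¹ with hzdef
    have hzc : ∀ g : Q, g * z = z * g := Subgroup.mem_center_iff.mp hz
    have e1 : y * x * y⁻¹ = x * z := by rw [hzdef]; group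
    have e2 : (y * x * y⁻¹) ^ p = x ^ p * z ^ p := by
      rw [e1]
      exact (Commute.mul_pow (hzc x) p)
    have e3 : z ^ p = 1 := hzp z hz
    have e4 : (y * x * y⁻¹) ^ p = y * x ^ p * y⁻¹ := by
      have := map_pow (MulAut.conj y) x p
      simpa [MulAut.conj_apply] using this
    rw [e4, e3, mul_one] at e2
    calc y * x ^ p = (y * x ^ p * y⁻¹) * y := by group
      _ = x ^ p * y := by rw [e2]
  have hpp : ∀ x : Q, x ^ (p ^ 2) = 1 := by
    intro x
    rw [pow_two, pow_mul]
    exact hzp _ (hxp x)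
  have hα : α ^ (p ^ 2) = 1 := by
    ext x
    rw [hiter, hpp, mul_one]
    rfl
  obtain ⟨k, _, hk⟩ := (Nat.dvd_prime_pow hpprime).mp (orderOf_dvd_of_pow_eq_one hα)
  exact ⟨k, hk⟩

end Cfsg.Agent.S3349
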