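import Cfsg.Statements.S3362
import Mathlib
import Cfsg.Agent.Lib.Helper1.M12
import Cfsg.Agent.Lib.Helper1.M12Trans
import Cfsg.Agent.Lib.Helper1.M24Chain
import Cfsg.Agent.Lib.Helper1.M24OctStab

set_option autoImplicit false
open Cfsg

namespace Cfsg.Agent.S3362


open Cfsg.Agent.Lib.Helper1
open scoped Pointwise

/-- the labelling of the twelve positions by points of the base dodecad -/
def idx : Fin 12 → Fin 24 := ![0, 1, 2, 3, 4, 12, 6, 16, 18, 9, 13, 8]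

/-- the labelling as points -/
def pts (i : Fin 12) : GolayPt := gpt (idx i)

theorem idx_inj : Function.Injective idx := by decide

theorem pts_inj : Function.Injective pts := fun _ _ h => idx_inj (gpt_bij.injective h)

theorem idx_mem : ∀ i : Fin 12, (combo 1).testBit (idx i) = true := by decide +kernel

theorem pts_mem (i : Fin 12) : pts i ∈ dod0 := (gpt_mem_dod0 _).2 (idx_mem i)

theorem idx_surj : ∀ j : Fin 24, (combo 1).testBit j = true → ∃ i : Fin 12, idx i = j := by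
  decide +kernel

theorem pts_surj {q : GolayPt} (hq : q ∈ dod0) : ∃ i, pts i = q := by
  obtain ⟨j, rfl⟩ := gpt_bij.surjective q
  obtain ⟨i, hi⟩ := idx_surj j ((gpt_mem_dod0 j).1 hq)
  exact ⟨i, by rw [pts, hi]⟩

/-- the labelling as an equivalence -/
noncomputable def lam : Fin 12 ≃ ↥dod0 :=
  Equiv.ofBijective (fun i => ⟨pts i, pts_mem i⟩)
    ⟨fun _ _ h => pts_inj (congrArg Subtype.val h), fun q => by
      obtain ⟨i, hi⟩ := pts_surj q.2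
      exact ⟨i, Subtype.ext hi⟩⟩

theorem lam_val (i : Fin 12) : ((lam i : ↥dod0) : GolayPt) = pts i := rfl

theorem M12_smul (g : ↥M12) : (g : Equiv.Perm GolayPt) • dod0 = dod0 := by
  have h := g.2
  unfold M12 at h
  exact MulAction.mem_stabilizer_iff.1 (Subgroup.mem_inf.1 h).2

/-- the action on the base dodecad -/
def rho : ↥M12 →* Equiv.Perm ↥dod0 where
  toFun g := (g : Equiv.Perm GolayPt).subtypePerm (smul_eq_iff_mem.1 (M12_smul g))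
  map_one' := by
    apply Equiv.ext
    intro x
    rfl
  map_mul' g h := by
    apply Equiv.ext
    intro x
    rfl

/-- the action on the twelve positions -/
noncomputable def psi : ↥M12 →* Equiv.Perm (Fin 12) :=
  (Equiv.permCongrHom lam.symm).toMonoidHom.comp rho

theorem pts_psi (g : ↥M12) (i : Fin 12) : pts (psi g i) = (g : Equiv.Perm GolayPt) (pts i) := by
  have h : lam (psi g i) = rho g (lam i) := by
    show lam (lam.symm (rho g (lam.symm.symm i))) = rho g (lam i)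
    rw [Equiv.apply_symm_apply, Equiv.symm_symm]
  have h2 : ((lam (psi g i) : ↥dod0) : GolayPt) = ((rho g (lam i) : ↥dod0) : GolayPt) :=
    congrArg Subtype.val h
  rw [lam_val] at h2
  rw [h2]
  rfl

/-- the first five positions -/
def emb5 : Fin 5 ↪ Fin 12 := Fin.castLEEmb (by norm_num)

theorem psi_injective : Function.Injective psi := by
  rw [injective_iff_map_eq_one]
  intro g hg
  have hfix : ∀ i, (g : Equiv.Perm GolayPt) (pts i) = pts i := by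
    intro i
    rw [← pts_psi, hg]
    rfl
  have h1 := M12_fix5_eq_one g.2 (emb5.trans ⟨pts, pts_inj⟩) (fun j => pts_mem _)
    (fun j => hfix _)
  exact Subtype.ext h1

theorem card_range : Nat.card ↥psi.range = 95040 := by
  rw [← card_M12]
  exact (Nat.card_congr (MonoidHom.ofInjective psi_injective).toEquiv).symm

theorem gen_mem (σ : Equiv.Perm (Fin 12)) (w : List ℕ) (hw : evalW w ∈ M12)
    (h : ∀ i : Fin 12, idx (σ i) = evalT w (idx i)) : σ ∈ psi.range := by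
  refine ⟨⟨evalW w, hw⟩, ?_⟩
  apply Equiv.ext
  intro i
  apply pts_inj
  rw [pts_psi]
  show evalW w (gpt (idx i)) = gpt (idx (σ i))
  rw [evalW_table, h]

/-- the eight permutations -/
def g_s : Equiv.Perm (Fin 12) := Equiv.swap (3 : Fin 12) 5 * Equiv.swap (3 : Fin 12) 4 * Equiv.swap (6 : Fin 12) 8 * Equiv.swap (6 : Fin 12) 7 * Equiv.swap (9 : Fin 12) 11 * Equiv.swap (9 : Fin 12) 10
def g_t : Equiv.Perm (Fin 12) := Equiv.swap (3 : Fin 12) 9 * Equiv.swap (3 : Fin 12) 6 * Equiv.swap (4 : Fin 12) 10 * Equiv.swap (4 : Fin 12) 7 * Equiv.swap (5 : Fin 12) 11 * Equiv.swap (5 : Fin 12) 8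
def g_u : Equiv.Perm (Fin 12) := Equiv.swap (4 : Fin 12) 9 * Equiv.swap (4 : Fin 12) 5 * Equiv.swap (4 : Fin 12) 6 * Equiv.swap (7 : Fin 12) 10 * Equiv.swap (7 : Fin 12) 11 * Equiv.swap (7 : Fin 12) 8
def g_v : Equiv.Perm (Fin 12) := Equiv.swap (4 : Fin 12) 11 * Equiv.swap (4 : Fin 12) 5 * Equiv.swap (4 : Fin 12) 7 * Equiv.swap (6 : Fin 12) 8 * Equiv.swap (6 : Fin 12) 9 * Equiv.swap (6 : Fin 12) 10
def g_w : Equiv.Perm (Fin 12) := Equiv.swap (4 : Fin 12) 8 * Equiv.swap (4 : Fin 12) 5 * Equiv.swap (4 : Fin 12) 10 * Equiv.swap (6 : Fin 12) 7 * Equiv.swap (6 : Fin 12) 9 * Equiv.swap (6 : Fin 12) 11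
def g_x1 : Equiv.Perm (Fin 12) := Equiv.swap (0 : Fin 12) 3 * Equiv.swap (6 : Fin 12) 7 * Equiv.swap (8 : Fin 12) 10 * Equiv.swap (9 : Fin 12) 11
def g_x2 : Equiv.Perm (Fin 12) := Equiv.swap (0 : Fin 12) 1 * Equiv.swap (6 : Fin 12) 9 * Equiv.swap (7 : Fin 12) 10 * Equiv.swap (8 : Fin 12) 11
def g_x3 : Equiv.Perm (Fin 12) := Equiv.swap (1 : Fin 12) 2 * Equiv.swap (6 : Fin 12) 11 * Equiv.swap (7 : Fin 12) 9 * Equiv.swap (8 : Fin 12) 10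

/-- the generators as a list -/
def gl : List (Equiv.Perm (Fin 12)) := [g_s, g_t, g_u, g_v, g_w, g_x1, g_x2, g_x3]

/-- the words in the generators of the big group -/
def gws : List (List ℕ) := [[1, 4, 1, 1, 1, 4, 4, 0, 4, 1, 1, 4, 1, 1, 1, 4, 4, 0, 4, 1, 1, 4, 1, 1, 1, 4, 4, 0, 4, 1, 1, 4, 1, 1, 1, 4, 4, 0, 4, 1, 2, 0, 4, 1, 1, 2, 0, 0, 3, 3, 3, 1, 3, 3, 0, 0, 0, 3, 0, 2, 0, 4, 1, 1, 2, 0, 0, 3, 3, 3, 1, 3, 3, 0, 0, 0, 3, 0, 0, 3, 1, 3, 3, 0, 0, 0, 3, 0, 0, 3, 1, 3, 3, 0, 0, 0, 3, 0, 0, 3, 1, 3, 3, 0, 0, 0, 3, 0, 0, 3, 1, 3, 3, 0, 0, 0, 3, 0], [0, 4, 4, 1, 1, 2, 0, 0, 3, 1, 2, 0, 3, 1, 3, 3, 0, 0, 0, 3, 0, 0, 4, 4, 1, 1, 2, 0, 0, 3, 1, 2, 0, 3, 1, 3, 3, 0, 0, 0, 3, 0, 0, 3, 1, 3, 3, 0, 0, 0, 3, 0, 0, 3, 1, 3, 3, 0, 0, 0, 3, 0, 0, 3, 1, 3, 3, 0, 0, 0, 3, 0, 2, 0, 4, 1, 1, 2, 0, 0, 3, 3, 1, 1, 4, 1, 1, 1, 4, 4, 0, 4, 4, 4, 1, 1, 2, 0, 0, 3,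 1, 2, 0, 3, 1, 3, 3, 0, 0, 0, 3, 0, 0, 3, 1, 3, 3, 0, 0, 0, 3, 0], [0, 3, 1, 3, 3, 0, 0, 0, 3, 0, 0, 4, 4, 1, 1, 2, 0, 0, 3, 1, 2, 0, 3, 1, 3, 3, 0, 0, 0, 3, 0, 0, 3, 1, 3, 3, 0, 0, 0, 3, 0, 0, 3, 1, 3, 3, 0, 0, 0, 3, 0, 0, 4, 4, 1, 1, 2, 0, 0, 3, 1, 2, 1, 4, 1, 1, 1, 4, 4, 0, 4, 1, 2, 0, 4, 1, 1, 2, 0, 0, 3, 3, 1, 1, 4, 1, 1, 1, 4, 4, 0, 4, 1, 1, 4, 1, 1, 1, 4, 4, 0, 4, 1, 2, 0, 4, 1, 1, 2, 0, 0, 3, 3, 1], [0, 3, 1, 3, 3, 0, 0, 0, 3, 0, 2, 0, 4, 1, 1, 2, 0, 0, 3, 3, 1, 1, 4, 1, 1, 1, 4, 4, 0, 4, 1, 2, 0, 4, 1, 1, 2, 0, 0, 3, 3, 3, 1, 3, 3, 0, 0, 0, 3, 0, 0, 3, 1, 3, 3, 0, 0, 0, 3, 0, 0, 3, 1, 3, 3, 0, 0, 0, 3, 0, 0, 3, 1, 3, 3, 0, 0, 0, 3, 0, 0, 4, 4, 1, 1, 2, 0, 0, 3, 1, 2, 1, 4, 1, 1, 1, 4, 4, 0, 4, 1], [2, 0, 4, 1, 1, 2, 0, 0, 3, 3, 3, 1, 3, 3, 0, 0, 0, 3, 0, 2, 0, 4, 1, 1, 2, 0, 0, 3, 3, 1, 1, 4, 1, 1, 1, 4, 4, 0, 4, 1, 1, 4, 1, 1, 1,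 4, 4, 0, 4, 1, 1, 4, 1, 1, 1, 4, 4, 0, 4, 1, 2, 0, 4, 1, 1, 2, 0, 0, 3, 3, 1, 1, 4, 1, 1, 1, 4, 4, 0, 4, 1, 1, 4, 1, 1, 1, 4, 4, 0, 4, 1, 1, 4, 1, 1, 1, 4, 4, 0, 4, 1, 1, 4, 1, 1, 1, 4, 4, 0, 4, 4, 4, 1, 1, 2, 0, 0, 3, 1, 2], [1, 4, 1, 1, 1, 4, 4, 0, 4, 1, 2, 0, 4, 1, 1, 2, 0, 0, 3, 3, 3, 1, 3, 3, 0, 0, 0, 3, 0, 0, 3, 1, 3, 3, 0, 0, 0, 3, 0, 2, 0, 4, 1, 1, 2, 0, 0, 3, 3, 1, 1, 4, 1, 1, 1, 4, 4, 0, 4, 4, 4, 1, 1, 2, 0, 0, 3, 1, 2, 1, 4, 1, 1, 1, 4, 4, 0, 4, 4, 4, 1, 1, 2, 0, 0, 3, 1, 2, 1, 4, 1, 1, 1, 4, 4, 0, 4, 1, 1, 4, 1, 1, 1, 4, 4, 0, 4, 1, 2, 0, 4, 1, 1, 2, 0, 0, 3, 3, 1], [2, 0, 4, 1, 1, 2, 0, 0, 3, 3, 1, 1, 4, 1, 1, 1, 4, 4, 0, 4, 4, 4, 1, 1, 2, 0, 0, 3, 1, 2, 1, 4, 1, 1, 1, 4, 4, 0, 4, 4, 4, 1, 1, 2, 0, 0, 3, 1, 2, 1, 4, 1, 1, 1, 4, 4, 0, 4, 1, 1, 4, 1, 1, 1, 4, 4, 0, 4, 4, 4, 1, 1, 2, 0, 0, 3, 1, 2, 1, 4, 1, 1, 1, 4, 4, 0, 4, 1, 2,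 0, 4, 1, 1, 2, 0, 0, 3, 3, 3, 1, 3, 3, 0, 0, 0, 3, 0, 0, 4, 4, 1, 1, 2, 0, 0, 3, 1, 2], [1, 4, 1, 1, 1, 4, 4, 0, 4, 1, 2, 0, 4, 1, 1, 2, 0, 0, 3, 3, 3, 1, 3, 3, 0, 0, 0, 3, 0, 0, 3, 1, 3, 3, 0, 0, 0, 3, 0, 2, 0, 4, 1, 1, 2, 0, 0, 3, 3, 3, 1, 3, 3, 0, 0, 0, 3, 0, 2, 0, 4, 1, 1, 2, 0, 0, 3, 3, 3, 1, 3, 3, 0, 0, 0, 3, 0, 0, 3, 1, 3, 3, 0, 0, 0, 3, 0, 0, 4, 4, 1, 1, 2, 0, 0, 3, 1, 2, 0, 3, 1, 3, 3, 0, 0, 0, 3, 0, 2, 0, 4, 1, 1, 2, 0, 0, 3, 3, 3, 1, 3, 3, 0, 0, 0, 3, 0, 2, 0, 4, 1, 1, 2, 0, 0, 3, 3, 1]]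

theorem gws_mem : ∀ l < 8, ∀ i : Fin 24, (combo 1).testBit i = true →
    (combo 1).testBit (evalT (gws.getD l []) i) = true := by
  decide +kernel

theorem gws_ok : ∀ l < 8, ∀ i : Fin 12, idx (gl.getD l 1 i) = evalT (gws.getD l []) (idx i) := by
  decide +kernel

theorem gl_mem (l : ℕ) (hl : l < 8) : gl.getD l 1 ∈ psi.range :=
  gen_mem _ _ (evalW_mem_M12 _ (gws_mem l hl)) (gws_ok l hl)

/-- product of generators along a word -/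
def wp (w : List ℕ) : Equiv.Perm (Fin 12) := (w.map (fun k => gl.getD k 1)).prod

theorem wp_mem (K : Subgroup (Equiv.Perm (Fin 12))) (m : ℕ) (hK : ∀ k < m, gl.getD k 1 ∈ K)
    (w : List ℕ) (hw : ∀ k ∈ w, k < m) : wp w ∈ K := by
  apply Subgroup.list_prod_mem
  intro x hx
  obtain ⟨k, hk, rfl⟩ := List.mem_map.1 hx
  exact hK k (hw k hk)

/-- the chain of subgroups -/
def H1 : Subgroup (Equiv.Perm (Fin 12)) := Subgroup.closure {g_s, g_t, g_u, g_v, g_w, g_x1, g_x2, g_x3}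
def H2 : Subgroup (Equiv.Perm (Fin 12)) := Subgroup.closure {g_s, g_t, g_u, g_v, g_w, g_x1, g_x2}
def H3 : Subgroup (Equiv.Perm (Fin 12)) := Subgroup.closure {g_s, g_t, g_u, g_v, g_w, g_x1}
def H4 : Subgroup (Equiv.Perm (Fin 12)) := Subgroup.closure {g_s, g_t, g_u, g_v, g_w}
def H5 : Subgroup (Equiv.Perm (Fin 12)) := Subgroup.closure {g_u, g_v, g_w}

theorem gl_H1 : ∀ k < 8, gl.getD k 1 ∈ H1 := by
  intro k hk
  apply Subgroup.subset_closure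
  interval_cases k <;> simp [gl]

theorem gl_H2 : ∀ k < 7, gl.getD k 1 ∈ H2 := by
  intro k hk
  apply Subgroup.subset_closure
  interval_cases k <;> simp [gl]

theorem gl_H3 : ∀ k < 6, gl.getD k 1 ∈ H3 := by
  intro k hk
  apply Subgroup.subset_closure
  interval_cases k <;> simp [gl]

theorem gl_H4 : ∀ k < 5, gl.getD k 1 ∈ H4 := by
  intro k hk
  apply Subgroup.subset_closure
  interval_cases k <;> simp [gl]

theorem step (K K' : Subgroup (Equiv.Perm (Fin 12))) (p : Fin 12) (n : ℕ)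
    (hK' : K' ≤ K ⊓ MulAction.stabilizer (Equiv.Perm (Fin 12)) p)
    (c : Fin 12 → Bool) (hc : (Finset.univ.filter (fun j => c j = true)).card = n)
    (horb : ∀ j, c j = true → ∃ g ∈ K, g p = j) : n * Nat.card K' ≤ Nat.card K := by
  rw [card_eq_ncard_orbit_mul K p]
  have h1 : Nat.card K' ≤ Nat.card ↥(K ⊓ MulAction.stabilizer (Equiv.Perm (Fin 12)) p) :=
    Subgroup.card_le_of_le hK'
  have h2 : n ≤ (MulAction.orbit K p).ncard := by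
    rw [← hc, ← Set.ncard_coe_finset]
    apply Set.ncard_le_ncard _ (Set.toFinite _)
    intro j hj
    have hj' : c j = true := by simpa using hj
    obtain ⟨g, hg, hgp⟩ := horb j hj'
    exact ⟨⟨g, hg⟩, hgp⟩
  exact Nat.mul_le_mul h2 h1

/-- orbit words, level by level -/
def ow1 : List (List ℕ) := [[6, 7], [7], [], [5, 6, 7], [0, 5, 6, 7], [0, 0, 5, 6, 7], [1, 5, 6, 7], [1, 0, 5, 6, 7], [1, 0, 0, 5, 6, 7], [1, 1, 5, 6, 7], [4, 0, 5, 6, 7], [4, 1, 5, 6, 7]]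
def ow2 : List (List ℕ) := [[6], [], [], [5, 6], [0, 5, 6], [0, 0, 5, 6], [1, 5, 6], [1, 0, 5, 6], [1, 0, 0, 5, 6], [1, 1, 5, 6], [4, 0, 5, 6], [4, 1, 5, 6]]
def ow3 : List (List ℕ) := [[], [], [], [5], [0, 5], [0, 0, 5], [1, 5], [1, 0, 5], [1, 0, 0, 5], [1, 1, 5], [4, 0, 5], [4, 1, 5]]
def ow4 : List (List ℕ) := [[], [], [], [], [0], [0, 0], [1], [1, 0], [1, 0, 0], [1, 1], [4, 0], [4, 1]]
def ow5 : List (List ℕ) := [[], [], [], [], [], [2, 2], [2], [3], [2, 3], [3, 4], [4], [4, 2]]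

theorem ow1_ok : ∀ j : Fin 12, (∀ k ∈ ow1.getD j [], k < 8) ∧ wp (ow1.getD j []) 2 = j := by
  decide +kernel

theorem ow2_ok : ∀ j : Fin 12, j ≠ 2 → (∀ k ∈ ow2.getD j [], k < 7) ∧ wp (ow2.getD j []) 1 = j := by
  decide +kernel

theorem ow3_ok : ∀ j : Fin 12, j ≠ 2 → j ≠ 1 →
    (∀ k ∈ ow3.getD j [], k < 6) ∧ wp (ow3.getD j []) 0 = j := by
  decide +kernel

theorem ow4_ok : ∀ j : Fin 12, 3 ≤ j → (∀ k ∈ ow4.getD j [], k < 5) ∧ wp (ow4.getD j []) 3 = j := by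
  decide +kernel

theorem ow5_ok : ∀ j : Fin 12, 4 ≤ j →
    (∀ k ∈ ow5.getD j [], k = 2 ∨ k = 3 ∨ k = 4) ∧ wp (ow5.getD j []) 4 = j := by
  decide +kernel

theorem fixes : g_s 2 = 2 ∧ g_t 2 = 2 ∧ g_u 2 = 2 ∧ g_v 2 = 2 ∧ g_w 2 = 2 ∧ g_x1 2 = 2 ∧ g_x2 2 = 2 ∧
    g_s 1 = 1 ∧ g_t 1 = 1 ∧ g_u 1 = 1 ∧ g_v 1 = 1 ∧ g_w 1 = 1 ∧ g_x1 1 = 1 ∧
    g_s 0 = 0 ∧ g_t 0 = 0 ∧ g_u 0 = 0 ∧ g_v 0 = 0 ∧ g_w 0 = 0 ∧
    g_u 3 = 3 ∧ g_v 3 = 3 ∧ g_w 3 = 3 := by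
  decide +kernel

theorem H2_le : H2 ≤ H1 ⊓ MulAction.stabilizer (Equiv.Perm (Fin 12)) (2 : Fin 12) := by
  unfold H2
  rw [Subgroup.closure_le]
  intro x hx
  obtain ⟨f1, f2, f3, f4, f5, f6, f7, -⟩ := fixes
  simp only [Set.mem_insert_iff, Set.mem_singleton_iff] at hx
  refine Subgroup.mem_inf.2 ⟨?_, MulAction.mem_stabilizer_iff.2 ?_⟩
  · apply Subgroup.subset_closure
    rcases hx with rfl | rfl | rfl | rfl | rfl | rfl | rfl <;> simp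
  · rcases hx with rfl | rfl | rfl | rfl | rfl | rfl | rfl <;> assumption

theorem H3_le : H3 ≤ H2 ⊓ MulAction.stabilizer (Equiv.Perm (Fin 12)) (1 : Fin 12) := by
  unfold H3
  rw [Subgroup.closure_le]
  intro x hx
  obtain ⟨-, -, -, -, -, -, -, f1, f2, f3, f4, f5, f6, -⟩ := fixes
  simp only [Set.mem_insert_iff, Set.mem_singleton_iff] at hx
  refine Subgroup.mem_inf.2 ⟨?_, MulAction.mem_stabilizer_iff.2 ?_⟩
  · apply Subgroup.subset_closure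
    rcases hx with rfl | rfl | rfl | rfl | rfl | rfl <;> simp
  · rcases hx with rfl | rfl | rfl | rfl | rfl | rfl <;> assumption

theorem H4_le : H4 ≤ H3 ⊓ MulAction.stabilizer (Equiv.Perm (Fin 12)) (0 : Fin 12) := by
  unfold H4
  rw [Subgroup.closure_le]
  intro x hx
  obtain ⟨-, -, -, -, -, -, -, -, -, -, -, -, -, f1, f2, f3, f4, f5, -⟩ := fixes
  simp only [Set.mem_insert_iff, Set.mem_singleton_iff] at hx
  refine Subgroup.mem_inf.2 ⟨?_, MulAction.mem_stabilizer_iff.2 ?_⟩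
  · apply Subgroup.subset_closure
    rcases hx with rfl | rfl | rfl | rfl | rfl <;> simp
  · rcases hx with rfl | rfl | rfl | rfl | rfl <;> assumption

theorem H5_le : H5 ≤ H4 ⊓ MulAction.stabilizer (Equiv.Perm (Fin 12)) (3 : Fin 12) := by
  unfold H5
  rw [Subgroup.closure_le]
  intro x hx
  obtain ⟨-, -, -, -, -, -, -, -, -, -, -, -, -, -, -, -, -, -, f1, f2, f3⟩ := fixes
  simp only [Set.mem_insert_iff, Set.mem_singleton_iff] at hx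
  refine Subgroup.mem_inf.2 ⟨?_, MulAction.mem_stabilizer_iff.2 ?_⟩
  · apply Subgroup.subset_closure
    rcases hx with rfl | rfl | rfl <;> simp
  · rcases hx with rfl | rfl | rfl <;> assumption

theorem wp_mem5 (w : List ℕ) (hw : ∀ k ∈ w, k = 2 ∨ k = 3 ∨ k = 4) : wp w ∈ H5 := by
  apply Subgroup.list_prod_mem
  intro x hx
  obtain ⟨k, hk, rfl⟩ := List.mem_map.1 hx
  apply Subgroup.subset_closure
  rcases hw k hk with rfl | rfl | rfl <;> simp [gl]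

theorem lb5 : 8 ≤ Nat.card H5 := by
  have h := step H5 ⊥ 4 8 bot_le (fun j => decide (4 ≤ j)) (by decide)
    (fun j hj => ⟨_, wp_mem5 _ (ow5_ok j (by simpa using hj)).1, (ow5_ok j (by simpa using hj)).2⟩)
  rw [Subgroup.card_bot] at h
  omega

theorem lb4 : 72 ≤ Nat.card H4 := by
  have h := step H4 H5 3 9 H5_le (fun j => decide (3 ≤ j)) (by decide)
    (fun j hj => ⟨_, wp_mem H4 5 gl_H4 _ (ow4_ok j (by simpa using hj)).1,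
      (ow4_ok j (by simpa using hj)).2⟩)
  have := lb5
  omega

theorem lb3 : 720 ≤ Nat.card H3 := by
  have h := step H3 H4 0 10 H4_le (fun j => decide (j ≠ 2) && decide (j ≠ 1)) (by decide)
    (fun j hj => by
      have hj' : j ≠ 2 ∧ j ≠ 1 := by simpa using hj
      exact ⟨_, wp_mem H3 6 gl_H3 _ (ow3_ok j hj'.1 hj'.2).1, (ow3_ok j hj'.1 hj'.2).2⟩)
  have := lb4
  omega

theorem lb2 : 7920 ≤ Nat.card H2 := by
  have h := step H2 H3 1 11 H3_le (fun j => decide (j ≠ 2)) (by decide)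
    (fun j hj => by
      have hj' : j ≠ 2 := by simpa using hj
      exact ⟨_, wp_mem H2 7 gl_H2 _ (ow2_ok j hj').1, (ow2_ok j hj').2⟩)
  have := lb3
  omega

theorem lb1 : 95040 ≤ Nat.card H1 := by
  have h := step H1 H2 2 12 H2_le (fun _ => true) (by decide)
    (fun j _ => ⟨_, wp_mem H1 8 gl_H1 _ (ow1_ok j).1, (ow1_ok j).2⟩)
  have := lb2
  omega

theorem H1_le : H1 ≤ psi.range := by
  unfold H1
  rw [Subgroup.closure_le]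
  intro x hx
  simp only [Set.mem_insert_iff, Set.mem_singleton_iff] at hx
  rcases hx with rfl | rfl | rfl | rfl | rfl | rfl | rfl | rfl
  · exact gl_mem 0 (by norm_num)
  · exact gl_mem 1 (by norm_num)
  · exact gl_mem 2 (by norm_num)
  · exact gl_mem 3 (by norm_num)
  · exact gl_mem 4 (by norm_num)
  · exact gl_mem 5 (by norm_num)
  · exact gl_mem 6 (by norm_num)
  · exact gl_mem 7 (by norm_num)

theorem H1_eq : H1 = psi.range := by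
  apply Subgroup.eq_of_le_of_card_ge H1_le
  rw [card_range]
  exact lb1

theorem card_H1 : Nat.card H1 = 95040 := by rw [H1_eq, card_range]

theorem orbit_H1 : (MulAction.orbit H1 (2 : Fin 12)).ncard = 12 := by
  have h : MulAction.orbit H1 (2 : Fin 12) = Set.univ := by
    apply Set.eq_univ_of_forall
    intro j
    exact ⟨⟨_, wp_mem H1 8 gl_H1 _ (ow1_ok j).1⟩, (ow1_ok j).2⟩
  rw [h, Set.ncard_univ, Nat.card_eq_fintype_card, Fintype.card_fin]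

theorem card_H1_stab : Nat.card ↥(H1 ⊓ MulAction.stabilizer (Equiv.Perm (Fin 12)) (2 : Fin 12)) = 7920 := by
  have h := card_eq_ncard_orbit_mul H1 (2 : Fin 12)
  rw [orbit_H1, card_H1] at h
  omega

theorem H2_eq : H2 = H1 ⊓ MulAction.stabilizer (Equiv.Perm (Fin 12)) (2 : Fin 12) := by
  apply Subgroup.eq_of_le_of_card_ge H2_le
  rw [card_H1_stab]
  exact lb2

theorem card_H2 : Nat.card H2 = 7920 := by rw [H2_eq, card_H1_stab]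

theorem trans5 (x y : Fin 5 ↪ Fin 12) : ∃ m ∈ H1, ∀ i, m (x i) = y i := by
  obtain ⟨g, hg, hgd, hgx⟩ := (dodecad_sharp5 dod0 dod0_mem (x.trans ⟨pts, pts_inj⟩)
    (y.trans ⟨pts, pts_inj⟩) (fun i => pts_mem _) (fun i => pts_mem _)).1
  have hgM : g ∈ M12 := by
    unfold M12
    exact Subgroup.mem_inf.2 ⟨hg, MulAction.mem_stabilizer_iff.2 hgd⟩
  refine ⟨psi ⟨g, hgM⟩, by rw [H1_eq]; exact ⟨_, rfl⟩, ?_⟩
  intro i
  apply pts_inj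
  rw [pts_psi]
  exact hgx i

theorem sharp5 (y : Fin 5 ↪ Fin 12) (m : Equiv.Perm (Fin 12)) (hm : m ∈ H1)
    (hfix : ∀ i, m (y i) = y i) : m = 1 := by
  rw [H1_eq] at hm
  obtain ⟨g, rfl⟩ := hm
  have h1 := M12_fix5_eq_one g.2 (y.trans ⟨pts, pts_inj⟩) (fun j => pts_mem _)
    (fun j => by
      show (g : Equiv.Perm GolayPt) (pts (y j)) = pts (y j)
      rw [← pts_psi, hfix])
  have h2 : g = 1 := Subtype.ext h1
  rw [h2, map_one]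


/-- An explicit construction of the Mathieu groups of degrees 11 and 12. On the points 0, …, 11 let s = (3 4 5)(6 7 8)(9 10 11), t = (3 6 9)(4 7 10)(5 8 11), u = (4 6 5 9)(7 8 11 10), v = (4 7 5 11)(6 10 9 8), w = (4 10 5 8)(6 11 9 7), x₁ = (0 3)(6 7)(8 10)(9 11), x₂ = (0 1)(6 9)(7 10)(8 11), x₃ = (1 2)(6 11)(7 9)(8 10) (each written as a product of transpositions). Then the group M₁₂ generated by all eight permutations is sharply 5-transitive on the 12 points and has order 95040, and the group M₁₁ generated by the first seven has order 7920 and is the stabilizer of the point 2 in M₁₂. -/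
theorem result
    (s t u v w x₁ x₂ x₃ : Equiv.Perm (Fin 12))
    (hs : s = Equiv.swap (3 : Fin 12) 5 * Equiv.swap (3 : Fin 12) 4 * Equiv.swap (6 : Fin 12) 8 * Equiv.swap (6 : Fin 12) 7 * Equiv.swap (9 : Fin 12) 11 * Equiv.swap (9 : Fin 12) 10) (ht : t = Equiv.swap (3 : Fin 12) 9 * Equiv.swap (3 : Fin 12) 6 * Equiv.swap (4 : Fin 12) 10 * Equiv.swap (4 : Fin 12) 7 * Equiv.swap (5 : Fin 12) 11 * Equiv.swap (5 : Fin 12) 8)
    (hu : u = Equiv.swap (4 : Fin 12) 9 * Equiv.swap (4 : Fin 12) 5 * Equiv.swap (4 : Fin 12) 6 * Equiv.swap (7 : Fin 12) 10 * Equiv.swap (7 : Fin 12) 11 * Equiv.swap (7 : Fin 12) 8) (hv : v = Equiv.swap (4 : Fin 12) 11 * Equiv.swap (4 : Fin 12) 5 * Equiv.swap (4 : Fin 12) 7 * Equiv.swap (6 : Fin 12) 8 * Equiv.swap (6 : Fin 12) 9 * Equiv.swap (6 : Fin 12) 10) (hw : w = Equiv.swap (4 : Fin 12) 8 * Equiv.swap (4 : Fin 12) 5 *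 Equiv.swap (4 : Fin 12) 10 * Equiv.swap (6 : Fin 12) 7 * Equiv.swap (6 : Fin 12) 9 * Equiv.swap (6 : Fin 12) 11)
    (hx₁ : x₁ = Equiv.swap (0 : Fin 12) 3 * Equiv.swap (6 : Fin 12) 7 * Equiv.swap (8 : Fin 12) 10 * Equiv.swap (9 : Fin 12) 11) (hx₂ : x₂ = Equiv.swap (0 : Fin 12) 1 * Equiv.swap (6 : Fin 12) 9 * Equiv.swap (7 : Fin 12) 10 * Equiv.swap (8 : Fin 12) 11)
    (hx₃ : x₃ = Equiv.swap (1 : Fin 12) 2 * Equiv.swap (6 : Fin 12) 11 * Equiv.swap (7 : Fin 12) 9 * Equiv.swap (8 : Fin 12) 10)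
    (M₁₂ M₁₁ : Subgroup (Equiv.Perm (Fin 12))) (hM₁₂ : M₁₂ = Subgroup.closure {s, t, u, v, w, x₁, x₂, x₃})
    (hM₁₁ : M₁₁ = Subgroup.closure {s, t, u, v, w, x₁, x₂}) :
    MulAction.IsMultiplyPretransitive M₁₂ (Fin 12) 5 ∧ (∀ y : Fin 5 ↪ Fin 12, MulAction.stabilizer M₁₂ y = ⊥) ∧
    Nat.card M₁₂ = 95040 ∧ Nat.card M₁₁ = 7920 ∧
    M₁₁ = M₁₂ ⊓ MulAction.stabilizer (Equiv.Perm (Fin 12)) (2 : Fin 12) := by
  subst hs ht hu hv hw hx₁ hx₂ hx₃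
  have e1 : M₁₂ = H1 := hM₁₂
  have e2 : M₁₁ = H2 := hM₁₁
  subst e1 e2
  refine ⟨⟨fun x y => ?_⟩, ?_, card_H1, card_H2, H2_eq⟩
  · obtain ⟨m, hm, hmx⟩ := trans5 x y
    refine ⟨⟨m, hm⟩, ?_⟩
    ext i
    exact congrArg Fin.val (hmx i)
  · intro y
    rw [Subgroup.eq_bot_iff_forall]
    intro m hm
    have hm' : m • y = y := MulAction.mem_stabilizer_iff.1 hm
    have h1 := sharp5 y (m : Equiv.Perm (Fin 12)) m.2 (fun i => by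
      have := congrArg (fun f : Fin 5 ↪ Fin 12 => f i) hm'
      exact this)
    exact Subtype.ext h1

end Cfsg.Agent.S3362
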