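import Mathlib
import Cfsg.Statements.S3370
import Cfsg.Agent.Lib.Helper4.SL23Rec

set_option autoImplicit false
set_option maxHeartbeats 800000
open Cfsg

namespace Cfsg.Agent.S3370

/-! ### number theory -/

theorem zmod_odd_pow {N : ℕ} (x : ZMod N) (hx : x ^ 2 = 1) (j : ℕ) : x ^ (2 * j + 1) = x := by
  rw [pow_succ, pow_mul, hx, one_pow, one_mul]

theorem two_pow_cast_zero (a n : ℕ) (h : a + 1 ≤ n) : ((2 : ZMod (2 ^ (a + 1))) ^ n) = 0 := by
  obtain ⟨d, rfl⟩ := Nat.exists_eq_add_of_le h
  rw [pow_add (2 : ZMod (2 ^ (a + 1))) (a + 1) d]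
  have : ((2 : ZMod (2 ^ (a + 1))) ^ (a + 1)) = 0 := by
    have := ZMod.natCast_self (2 ^ (a + 1))
    push_cast at this
    exact this
  rw [this, zero_mul]

theorem two_pow_cast_ne_zero (a : ℕ) : ((2 : ZMod (2 ^ (a + 1))) ^ a) ≠ 0 := by
  intro h
  have h1 : (((2 ^ a : ℕ)) : ZMod (2 ^ (a + 1))) = 0 := by
    push_cast
    exact h
  rw [ZMod.natCast_eq_zero_iff] at h1
  have h2 := Nat.le_of_dvd (by positivity) h1
  have h3 : 2 ^ a < 2 ^ (a + 1) := Nat.pow_lt_pow_right (by norm_num) (by omega)
  omega

/-- if `x ≡ ±1 + 2^a` style: general contradiction lemma -/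
theorem odd_case_aux (x a k n : ℕ) (ha : 1 ≤ a)
    (hx2 : ((x : ZMod (2 ^ (a + 1))) ^ 2) = 1)
    (j : ℕ) (hk : k = 2 * j + 1)
    (hn : a + 1 ≤ n)
    (h1 : ((x : ZMod (2 ^ (a + 1))) ^ k) = (x : ZMod (2 ^ (a + 1))) →
      ((2 : ZMod (2 ^ (a + 1))) ^ n) = (2 : ZMod (2 ^ (a + 1))) ^ a) : False := by
  have h2 := h1 (by rw [hk]; exact zmod_odd_pow _ hx2 j)
  rw [two_pow_cast_zero a n hn] at h2
  exact two_pow_cast_ne_zero a h2.symm

theorem nt_mersenne (p k n : ℕ) (hp : p.Prime) (hk : 1 ≤ k) (h : 2 ^ n = p ^ k + 1) : k = 1 := by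
  have hpk : 2 ≤ p ^ k := le_trans hp.two_le (Nat.le_self_pow (by omega) p)
  have hn2 : 2 ≤ n := by
    by_contra hcon
    push Not at hcon
    have : 2 ^ n ≤ 2 ^ 1 := Nat.pow_le_pow_right (by norm_num) (by omega)
    omega
  have hpodd : Odd p := by
    rcases hp.eq_two_or_odd' with h2 | hodd
    · exfalso
      subst h2
      have h1 : Even (2 ^ n) := (Nat.even_pow.mpr ⟨even_two, by omega⟩)
      have h2 : Even (2 ^ k) := (Nat.even_pow.mpr ⟨even_two, by omega⟩)
      rw [h] at h1
      exact (Nat.even_add_one.mp h1) h2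
    · exact hodd
  rcases Nat.even_or_odd' k with ⟨j, hj | hj⟩
  · exfalso
    have hp4 : ((p : ZMod 4) ^ 2) = 1 := by
      obtain ⟨m, hm⟩ := hpodd
      have : ∀ y : ZMod 4, (2 * y + 1) ^ 2 = 1 := by decide
      rw [hm]
      push_cast
      exact this _
    have h4 : ((2 : ZMod 4) ^ n) = 0 := by
      obtain ⟨d, rfl⟩ := Nat.exists_eq_add_of_le hn2
      rw [pow_add]
      have : ((2 : ZMod 4) ^ 2) = 0 := by decide
      rw [this, zero_mul]
    have h5 : ((2 ^ n : ℕ) : ZMod 4) = ((p ^ k + 1 : ℕ) : ZMod 4) := by rw [h]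
    push_cast at h5
    rw [h4, hj, pow_mul, hp4, one_pow] at h5
    revert h5
    decide
  · by_contra hk1
    have hj1 : 1 ≤ j := by omega
    have hdvd : p + 1 ∣ p ^ k + 1 := by
      have := Odd.nat_add_dvd_pow_add_pow p 1 (⟨j, hj⟩ : Odd k)
      simpa using this
    rw [← h] at hdvd
    obtain ⟨a, _, ha⟩ := (Nat.dvd_prime_pow Nat.prime_two).mp hdvd
    have ha2 : 2 ≤ a := by
      by_contra hcon
      push Not at hcon
      have : 2 ^ a ≤ 2 ^ 1 := Nat.pow_le_pow_right (by norm_num) (by omega)
      have := hp.two_le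
      omega
    have hlt : p + 1 < p ^ k + 1 := by
      have : p ^ 1 < p ^ k := Nat.pow_lt_pow_right hp.one_lt (by omega)
      rw [pow_one] at this
      omega
    have hna : a + 1 ≤ n := by
      rw [← h, ha] at hlt
      have := (Nat.pow_lt_pow_iff_right (by norm_num : 1 < 2)).mp hlt
      omega
    have hpc : (p : ZMod (2 ^ (a + 1))) = 2 ^ a - 1 := by
      have : ((p + 1 : ℕ) : ZMod (2 ^ (a + 1))) = ((2 ^ a : ℕ) : ZMod (2 ^ (a + 1))) := by rw [ha]
      push_cast at this
      rw [← this]
      ring
    have h2a : ((2 : ZMod (2 ^ (a + 1))) ^ a) ^ 2 = 0 := by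
      rw [← pow_mul]
      exact two_pow_cast_zero a _ (by omega)
    have h2a1 : (2 : ZMod (2 ^ (a + 1))) * 2 ^ a = 0 := by
      rw [← pow_succ']
      exact two_pow_cast_zero a _ le_rfl
    apply odd_case_aux p a k n (by omega) _ j hj hna
    · intro hx
      have : ((2 ^ n : ℕ) : ZMod (2 ^ (a + 1))) = ((p ^ k + 1 : ℕ) : ZMod (2 ^ (a + 1))) := by
        rw [h]
      push_cast at this
      rw [this, hx, hpc]
      ring
    · rw [hpc]
      have : ((2 : ZMod (2 ^ (a + 1))) ^ a - 1) ^ 2 = (2 ^ a) ^ 2 - 2 * 2 ^ a + 1 := by ring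
      rw [this, h2a, h2a1]
      ring

theorem nt_fermat (q n k : ℕ) (hq : q.Prime) (hq2 : q ≠ 2) (hn : 2 ≤ n) (h : q ^ n = 2 ^ k + 1) :
    q = 3 ∧ n = 2 := by
  have hq3 : 3 ≤ q := by
    have := hq.two_le
    omega
  rcases Nat.even_or_odd' n with ⟨j, hj | hj⟩
  · -- n = 2 j
    have hj1 : 1 ≤ j := by omega
    obtain ⟨u, hu⟩ : ∃ u, u = q ^ j := ⟨_, rfl⟩
    have hu3 : 3 ≤ u := by
      rw [hu]
      exact le_trans hq3 (Nat.le_self_pow (by omega) q)
    have hfac : (u - 1) * (u + 1) = 2 ^ k := by
      have : q ^ n = u * u := by rw [hj, two_mul, pow_add, hu]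
      have h1 : u * u = 2 ^ k + 1 := by rw [← this, h]
      have : (u - 1) * (u + 1) + 1 = u * u := by
        obtain ⟨m, hm⟩ := Nat.exists_eq_add_of_le (by omega : 1 ≤ u)
        rw [hm]
        simp only [Nat.add_sub_cancel_left]
        ring
      omega
    obtain ⟨b, _, hb⟩ := (Nat.dvd_prime_pow Nat.prime_two).mp (Dvd.intro _ hfac)
    obtain ⟨c, _, hc⟩ := (Nat.dvd_prime_pow Nat.prime_two).mp (Dvd.intro_left _ hfac)
    have hbc : 2 ^ c = 2 ^ b + 2 := by omega
    have hb1 : b = 1 := by
      rcases Nat.lt_or_ge b 2 with hb2 | hb2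
      · interval_cases b
        · exfalso
          simp at hb
          omega
        · rfl
      · exfalso
        obtain ⟨d, rfl⟩ := Nat.exists_eq_add_of_le hb2
        have hc2 : 2 ≤ c := by
          by_contra hcon
          push Not at hcon
          have : 2 ^ c ≤ 2 ^ 1 := Nat.pow_le_pow_right (by norm_num) (by omega)
          have : 0 < 2 ^ (2 + d) := by positivity
          omega
        obtain ⟨e, rfl⟩ := Nat.exists_eq_add_of_le hc2
        rw [pow_add, pow_add] at hbc
        omega
    rw [hb1] at hb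
    have hu3' : u = 3 := by omega
    have hq3' : q = 3 := by
      have : q ∣ 3 := by
        rw [← hu3', hu]
        exact dvd_pow_self q (by omega)
      exact (Nat.prime_dvd_prime_iff_eq hq Nat.prime_three).mp this
    refine ⟨hq3', ?_⟩
    rw [hq3'] at hu
    have : 3 ^ j = 3 ^ 1 := by rw [← hu, hu3', pow_one]
    have := Nat.pow_right_injective (le_refl 2 |>.trans (by norm_num : 2 ≤ 3)) this
    omega
  · -- n odd
    exfalso
    have hj1 : 1 ≤ j := by
      rw [hj] at hn
      omega
    have hdvd : q - 1 ∣ q ^ n - 1 := by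
      have := Nat.sub_dvd_pow_sub_pow q 1 n
      simpa using this
    have hqn : q ^ n - 1 = 2 ^ k := by
      rw [h]
      simp
    rw [hqn] at hdvd
    obtain ⟨a, _, ha⟩ := (Nat.dvd_prime_pow Nat.prime_two).mp hdvd
    have ha1 : 1 ≤ a := by
      by_contra hcon
      push Not at hcon
      have : a = 0 := by omega
      rw [this] at ha
      omega
    have hqa : q = 2 ^ a + 1 := by omega
    have hlt : q ^ 1 < q ^ n := Nat.pow_lt_pow_right hq.one_lt (by omega)
    have hka : a + 1 ≤ k := by
      have : 2 ^ a < 2 ^ k := by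
        rw [pow_one] at hlt
        omega
      have := (Nat.pow_lt_pow_iff_right (by norm_num : 1 < 2)).mp this
      omega
    have hqc : (q : ZMod (2 ^ (a + 1))) = 2 ^ a + 1 := by
      rw [hqa]
      push_cast
      ring
    have h2a : ((2 : ZMod (2 ^ (a + 1))) ^ a) ^ 2 = 0 := by
      rw [← pow_mul]
      exact two_pow_cast_zero a _ (by nlinarith)
    have h2a1 : (2 : ZMod (2 ^ (a + 1))) * 2 ^ a = 0 := by
      rw [← pow_succ']
      exact two_pow_cast_zero a _ le_rfl
    apply odd_case_aux q a n k ha1 _ j hj hka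
    · intro hx
      have : ((q ^ n : ℕ) : ZMod (2 ^ (a + 1))) = ((2 ^ k + 1 : ℕ) : ZMod (2 ^ (a + 1))) := by
        rw [h]
      push_cast at this
      rw [hx, hqc] at this
      have h3 : (2 : ZMod (2 ^ (a + 1))) ^ k = (2 ^ a + 1) - 1 := by rw [this]; ring
      rw [h3]
      ring
    · rw [hqc]
      have : ((2 : ZMod (2 ^ (a + 1))) ^ a + 1) ^ 2 = (2 ^ a) ^ 2 + 2 * 2 ^ a + 1 := by ring
      rw [this, h2a, h2a1]
      ring


/-! ### matrix facts over the field with three elements -/

abbrev M3 := Matrix (Fin 2) (Fin 2) (ZMod 3)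
abbrev X3 := Fin 2 → ZMod 3

def FixNZ (A : M3) : Prop := ∃ v : X3, v ≠ 0 ∧ A.mulVec v = v
instance : DecidablePred FixNZ := fun A => by unfold FixNZ; infer_instance

set_option maxRecDepth 100000 in
theorem D1 : ∀ A : M3, A * A = 1 → A ≠ -1 → FixNZ A := by decide

set_option maxRecDepth 100000 in
theorem D3 : ∀ A : M3, (A * A) * (A * A) = 1 → A * A = 1 ∨ A * A = -1 := by decide

set_option maxRecDepth 100000 in
theorem D6 : (Finset.univ.filter (fun A : M3 => A * A = -1)).card = 6 := by decide

set_option maxRecDepth 100000 in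
theorem D4 : ∀ A : M3, (A * A) * (A * A) = -1 → ∀ B : M3, B * B = 1 → B ≠ 1 → B ≠ -1 →
    ∀ k : Fin 8, B * A * B = A ^ (k : ℕ) → k = 3 := by decide

def CommonFix (A B : M3) : Prop := ∃ w : X3, w ≠ 0 ∧ A.mulVec w = w ∧ B.mulVec w = w
instance : ∀ A B, Decidable (CommonFix A B) := fun A B => by unfold CommonFix; infer_instance
def P19 (A B : M3) : Prop := B * B = 1 → B ≠ 1 → (A * B) * (A * B) = 1 → CommonFix A B → A = B
instance : ∀ A B, Decidable (P19 A B) := fun A B => by unfold P19; infer_instance

set_option maxRecDepth 100000 in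
theorem D19 : ∀ A : M3, A * A = 1 → A ≠ 1 → ∀ B : M3, P19 A B := by decide

def rep (i : Fin 4) : X3 := ![![1, 0], ![0, 1], ![1, 1], ![1, -1]] i

set_option maxRecDepth 100000 in
theorem rep_ne : ∀ i : Fin 4, rep i ≠ 0 := by decide

set_option maxRecDepth 100000 in
theorem rep_cover : ∀ v : X3, v ≠ 0 → ∃ i : Fin 4, v = rep i ∨ v = -rep i := by decide

set_option maxRecDepth 100000 in
theorem neg_ne_self : ∀ v : X3, v ≠ 0 → -v ≠ v := by decide

theorem card_X3 : Nat.card X3 = 9 := by
  rw [Nat.card_eq_fintype_card]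
  rfl

/-! ### general group lemmas -/

theorem orbit_stab' {G X : Type*} [Group G] [MulAction G X] [Finite X] (x o : X)
    (hx : x ≠ o) (ho : ∀ g : G, g • o = o) (htr : ∀ w, w ≠ o → ∃ g : G, g • x = w) :
    (Nat.card X - 1) * Nat.card (MulAction.stabilizer G x) = Nat.card G := by
  have h1 := Subgroup.card_mul_index (MulAction.stabilizer G x)
  have h2 : (MulAction.stabilizer G x).index = (MulAction.orbit G x).ncard :=
    MulAction.index_stabilizer G x
  have h3 : MulAction.orbit G x = ({o} : Set X)ᶜ := by
    ext w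
    rw [MulAction.mem_orbit_iff, Set.mem_compl_iff, Set.mem_singleton_iff]
    constructor
    · rintro ⟨g, rfl⟩ h0
      apply hx
      have : g⁻¹ • (g • x) = g⁻¹ • o := by rw [h0]
      rw [inv_smul_smul, ho] at this
      exact this
    · intro hw
      exact htr w hw
  rw [h3, Set.ncard_compl, Set.ncard_singleton] at h2
  rw [h2] at h1
  rw [mul_comm]
  exact h1

theorem mul4 {G : Type*} [Monoid G] (x : G) : (x * x) * (x * x) = x ^ 4 := by
  rw [← pow_two, ← pow_two, ← pow_mul]

theorem order8 {G : Type*} [Group G] [Finite G] (h8 : Nat.card G = 8)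
    (huniq : ∀ s t : G, s * s = 1 → s ≠ 1 → t * t = 1 → t ≠ 1 → s = t) :
    IsCyclic G ∨ Nonempty (G ≃* QuaternionGroup 2) := by
  classical
  haveI := Fintype.ofFinite G
  by_cases hx8 : ∃ x : G, orderOf x = 8
  · obtain ⟨x, hx⟩ := hx8
    left
    exact isCyclic_of_orderOf_eq_card x (by rw [hx, h8])
  right
  push Not at hx8
  have h4 : ∀ x : G, x ^ 4 = 1 := by
    intro x
    have hd : orderOf x ∣ 2 ^ 3 := by
      have := orderOf_dvd_natCard x
      rw [h8] at this
      exact this
    obtain ⟨i, hi, hxi⟩ := (Nat.dvd_prime_pow Nat.prime_two).mp hd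
    have hi3 : i ≠ 3 := by
      intro h3
      apply hx8 x
      rw [hxi, h3]
      norm_num
    have hi2 : i ≤ 2 := by omega
    have : orderOf x ∣ 4 := by
      rw [hxi]
      exact pow_dvd_pow 2 hi2
    exact orderOf_dvd_iff_pow_eq_one.mp this
  -- an element of order 4
  obtain ⟨α, hα⟩ : ∃ α : G, α * α ≠ 1 := by
    by_contra hcon
    push Not at hcon
    have h3 : 2 < Fintype.card G := by
      rw [← Nat.card_eq_fintype_card, h8]
      norm_num
    obtain ⟨a, b, c, hab, hac, hbc⟩ := Fintype.two_lt_card_iff.mp h3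
    by_cases ha : a = 1
    · have hb : b ≠ 1 := fun h => hab (by rw [ha, h])
      have hc : c ≠ 1 := fun h => hac (by rw [ha, h])
      exact hbc (huniq b c (hcon b) hb (hcon c) hc)
    · by_cases hb : b = 1
      · have hc : c ≠ 1 := fun h => hbc (by rw [hb, h])
        exact hac (huniq a c (hcon a) ha (hcon c) hc)
      · exact hab (huniq a b (hcon a) ha (hcon b) hb)
  have hα1 : α ≠ 1 := by
    intro h
    apply hα
    rw [h, mul_one]
  have hzz : (α * α) * (α * α) = 1 := by
    rw [mul4]
    exact h4 α
  have hord : orderOf α = 4 := by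
    have := orderOf_eq_prime_pow (p := 2) (n := 1) (x := α)
      (by rw [pow_one, pow_two]; exact hα) (by norm_num; exact h4 α)
    simpa using this
  have hne : Subgroup.zpowers α ≠ ⊤ := by
    intro h
    have := Nat.card_zpowers α
    rw [h, Subgroup.card_top, h8, hord] at this
    omega
  obtain ⟨β, hβ⟩ : ∃ β : G, β ∉ Subgroup.zpowers α := by
    by_contra hcon
    push Not at hcon
    apply hne
    rw [eq_top_iff]
    intro x _
    exact hcon x
  have hαα : α * α ∈ Subgroup.zpowers α :=
    Subgroup.mul_mem _ (Subgroup.mem_zpowers α) (Subgroup.mem_zpowers α)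
  have key : ∀ b : G, b ∉ Subgroup.zpowers α → b * b = α * α := by
    intro b hb
    have hb1 : b ≠ 1 := by
      intro h
      apply hb
      rw [h]
      exact Subgroup.one_mem _
    have hbb : b * b ≠ 1 := by
      intro h
      apply hb
      rw [huniq b (α * α) h hb1 hzz hα]
      exact hαα
    have hb4 : (b * b) * (b * b) = 1 := by
      rw [mul4]
      exact h4 b
    exact huniq _ _ hb4 hbb hzz hα
  have hβ2 : β * β = α * α := key β hβ
  have hαβ : α * β ∉ Subgroup.zpowers α := by
    intro h
    apply hβ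
    have : β = α⁻¹ * (α * β) := by group
    rw [this]
    exact Subgroup.mul_mem _ (Subgroup.inv_mem _ (Subgroup.mem_zpowers α)) h
  have hαβ2 : (α * β) * (α * β) = α * α := key _ hαβ
  have hconj : β * α * β⁻¹ = α⁻¹ := by
    have h1 : α * β * α = β := by
      have : α * β * α * β = β * β := by
        rw [hβ2, ← hαβ2]
        group
      exact mul_right_cancel this
    calc β * α * β⁻¹ = α⁻¹ * (α * β * α) * β⁻¹ := by group
      _ = α⁻¹ := by rw [h1]; group
  obtain ⟨e, _, _⟩ := Cfsg.Agent.Lib.Helper4.quat_iso_control 2 α β (by rw [hord])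
    (by rw [pow_two, pow_two]; exact hβ2) hconj hβ (by rw [h8])
  exact ⟨e.symm⟩


theorem case9 {G : Type*} [Group G] [Finite G] (hG : IsPGroup 2 G)
    (μ : G →* M3) (hinj : Function.Injective μ)
    (htr : ∀ v w : X3, v ≠ 0 → w ≠ 0 → ∃ g : G, (μ g).mulVec v = w) :
    (IsCyclic G ∧ Nat.card G = 8) ∨ Nonempty (G ≃* QuaternionGroup 2) ∨
      (Cfsg.IsQuasiDihedral G ∧ Nat.card G = 16) := by
  classical
  haveI : Fact (Nat.Prime 2) := ⟨Nat.prime_two⟩
  letI : MulAction G X3 :=
    { smul := fun g v => (μ g).mulVec v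
      one_smul := by
        intro v
        show (μ 1).mulVec v = v
        rw [map_one, Matrix.one_mulVec]
      mul_smul := by
        intro g h v
        show (μ (g * h)).mulVec v = (μ g).mulVec ((μ h).mulVec v)
        rw [map_mul, Matrix.mulVec_mulVec] }
  have hsm : ∀ (g : G) (v : X3), g • v = (μ g).mulVec v := fun g v => rfl
  have hμ1 : ∀ g : G, μ g = 1 → g = 1 := by
    intro g hg
    apply hinj
    rw [hg, map_one]
  have hμsq : ∀ g : G, μ g * μ g = μ (g * g) := fun g => (map_mul μ g g).symm
  have hstab : ∀ v : X3, v ≠ 0 → 8 * Nat.card (MulAction.stabilizer G v) = Nat.card G := by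
    intro v hv
    have := orbit_stab' (G := G) v (0 : X3) hv (fun g => by rw [hsm, Matrix.mulVec_zero])
      (fun w hw => by
        obtain ⟨g, hg⟩ := htr v w hv hw
        exact ⟨g, hg⟩)
    rw [card_X3] at this
    exact this
  have stepA : ∀ v : X3, v ≠ 0 → ∀ g : G, g • v = v → g * g = 1 := by
    intro v hv g hg
    by_contra hgg
    obtain ⟨i, hi⟩ := (IsPGroup.iff_orderOf.mp hG) g
    have hi2 : 2 ≤ i := by
      by_contra hcon
      push Not at hcon
      apply hgg
      have : orderOf g ∣ 2 := by
        rw [hi]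
        calc 2 ^ i ∣ 2 ^ 1 := pow_dvd_pow 2 (by omega)
          _ = 2 := by norm_num
      rw [← pow_two]
      exact orderOf_dvd_iff_pow_eq_one.mp this
    have h4dvd : 4 ∣ orderOf g := by
      rw [hi]
      calc 4 = 2 ^ 2 := by norm_num
        _ ∣ 2 ^ i := pow_dvd_pow 2 hi2
    obtain ⟨h, hh⟩ : ∃ h : G, h = g ^ (orderOf g / 4) := ⟨_, rfl⟩
    have hord : orderOf h = 4 := by
      rw [hh]
      exact orderOf_pow_orderOf_div (orderOf_pos g).ne' h4dvd
    have hfix : h • v = v := by
      have : h ∈ MulAction.stabilizer G v := by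
        rw [hh]
        exact Subgroup.pow_mem _ (MulAction.mem_stabilizer_iff.mpr hg) _
      exact MulAction.mem_stabilizer_iff.mp this
    have hA4 : (μ h * μ h) * (μ h * μ h) = 1 := by
      rw [hμsq, ← map_mul, mul4, ← hord, pow_orderOf_eq_one, map_one]
    rcases D3 _ hA4 with h1 | h1
    · rw [hμsq] at h1
      have := hμ1 _ h1
      have hd : orderOf h ∣ 2 := orderOf_dvd_iff_pow_eq_one.mpr (by rw [pow_two]; exact this)
      rw [hord] at hd
      omega
    · have h2 : (μ h * μ h).mulVec v = v := by
        rw [← Matrix.mulVec_mulVec]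
        show h • (h • v) = v
        rw [hfix, hfix]
      rw [h1, Matrix.neg_mulVec, Matrix.one_mulVec] at h2
      exact neg_ne_self v hv h2
  have stepB : ∀ v : X3, v ≠ 0 → ∀ g h : G, g • v = v → h • v = v → g ≠ 1 → h ≠ 1 → g = h := by
    intro v hv g h hg hh hg1 hh1
    apply hinj
    have hgh : (g * h) • v = v := by rw [mul_smul, hh, hg]
    have key := D19 (μ g) (by rw [hμsq, stepA v hv g hg, map_one]) (fun h1 => hg1 (hμ1 _ h1)) (μ h)
    unfold P19 at key
    exact key (by rw [hμsq, stepA v hv h hh, map_one]) (fun h1 => hh1 (hμ1 _ h1))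
      (by rw [← map_mul, hμsq, stepA v hv _ hgh, map_one]) ⟨v, hv, hg, hh⟩
  have stepC : ∀ v : X3, v ≠ 0 → Nat.card (MulAction.stabilizer G v) ≤ 2 := by
    intro v hv
    have hinj2 : Function.Injective
        (fun s : MulAction.stabilizer G v => decide ((s : G) = 1)) := by
      intro s t hst
      simp only [decide_eq_decide] at hst
      by_cases hs : (s : G) = 1
      · have ht := hst.mp hs
        exact Subtype.ext (by rw [hs, ht])
      · have ht : (t : G) ≠ 1 := fun h => hs (hst.mpr h)
        exact Subtype.ext (stepB v hv s t (MulAction.mem_stabilizer_iff.mp s.2)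
          (MulAction.mem_stabilizer_iff.mp t.2) hs ht)
    have := Nat.card_le_card_of_injective _ hinj2
    rw [Nat.card_eq_fintype_card (α := Bool), Fintype.card_bool] at this
    exact this
  have hc0 := hstab (rep 0) (rep_ne 0)
  have hc1 := stepC (rep 0) (rep_ne 0)
  have hc2 : 0 < Nat.card (MulAction.stabilizer G (rep 0)) := Nat.card_pos
  have hcases : Nat.card G = 8 ∨ Nat.card G = 16 := by omega
  rcases hcases with h8 | h16
  · have htriv : ∀ v : X3, v ≠ 0 → ∀ g : G, g • v = v → g = 1 := by
      intro v hv g hg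
      have h1 := hstab v hv
      rw [h8] at h1
      have h2 : Nat.card (MulAction.stabilizer G v) = 1 := by omega
      have h3 := Subgroup.eq_bot_of_card_eq _ h2
      have : g ∈ MulAction.stabilizer G v := MulAction.mem_stabilizer_iff.mpr hg
      rw [h3] at this
      exact Subgroup.mem_bot.mp this
    have hinv : ∀ t : G, t * t = 1 → t ≠ 1 → μ t = -1 := by
      intro t ht ht1
      by_contra hne
      obtain ⟨v, hv, hfix⟩ := D1 (μ t) (by rw [hμsq, ht, map_one]) hne
      exact ht1 (htriv v hv t hfix)
    have huniq : ∀ s t : G, s * s = 1 → s ≠ 1 → t * t = 1 → t ≠ 1 → s = t := by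
      intro s t hs hs1 ht ht1
      apply hinj
      rw [hinv s hs hs1, hinv t ht ht1]
    rcases order8 h8 huniq with h | h
    · left
      exact ⟨h, h8⟩
    · right
      left
      exact h
  · right
    right
    refine ⟨?_, h16⟩
    have hst2 : ∀ v : X3, v ≠ 0 → ∃ t : G, t ≠ 1 ∧ t • v = v := by
      intro v hv
      have h1 := hstab v hv
      rw [h16] at h1
      have h2 : Nat.card (MulAction.stabilizer G v) = 2 := by omega
      by_contra hcon
      push Not at hcon
      have : MulAction.stabilizer G v = ⊥ := by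
        rw [eq_bot_iff]
        intro t ht
        rw [Subgroup.mem_bot]
        by_contra ht1
        exact hcon t ht1 (MulAction.mem_stabilizer_iff.mp ht)
      rw [this, Subgroup.card_bot] at h2
      omega
    have hx8 : ∃ x : G, orderOf x = 8 := by
      by_contra hcon
      push Not at hcon
      have h4 : ∀ x : G, x ^ 4 = 1 := by
        intro x
        have hd : orderOf x ∣ 2 ^ 4 := by
          have := orderOf_dvd_natCard x
          rw [h16] at this
          exact this
        obtain ⟨i, hi, hxi⟩ := (Nat.dvd_prime_pow Nat.prime_two).mp hd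
        have hi3 : i ≠ 3 := by
          intro h3
          apply hcon x
          rw [hxi, h3]
          norm_num
        have hi4 : i ≠ 4 := by
          intro h4'
          apply hcon (x ^ 2)
          have := orderOf_pow_orderOf_div (x := x) (n := 8) (orderOf_pos x).ne'
            (by rw [hxi, h4']; norm_num)
          rw [hxi, h4'] at this
          norm_num at this
          exact this
        have hi2 : i ≤ 2 := by omega
        have : orderOf x ∣ 4 := by
          rw [hxi]
          exact pow_dvd_pow 2 hi2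
        exact orderOf_dvd_iff_pow_eq_one.mp this
      haveI := Fintype.ofFinite G
      choose f hf1 hf2 using (fun i : Fin 4 => hst2 (rep i) (rep_ne i))
      have hcover : (Finset.univ : Finset G) ⊆
          ((Finset.univ.filter (fun g : G => g = 1)) ∪
            (Finset.univ.filter (fun g : G => μ g = -1))) ∪
          ((Finset.univ.image f) ∪ (Finset.univ.filter (fun g : G => μ g * μ g = -1))) := by
        intro g _
        simp only [Finset.mem_union, Finset.mem_filter, Finset.mem_univ, true_and,
          Finset.mem_image]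
        have hA4 : (μ g * μ g) * (μ g * μ g) = 1 := by
          rw [hμsq, ← map_mul, mul4, h4, map_one]
        rcases D3 _ hA4 with h1 | h1
        · by_cases hg1 : g = 1
          · left
            left
            exact hg1
          by_cases hgm : μ g = -1
          · left
            right
            exact hgm
          right
          left
          obtain ⟨v, hv, hfix⟩ := D1 (μ g) h1 hgm
          obtain ⟨i, hi | hi⟩ := rep_cover v hv
          · refine ⟨i, ?_⟩
            apply stepB (rep i) (rep_ne i) _ _ (hf2 i) _ (hf1 i) hg1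
            rw [← hi]
            exact hfix
          · refine ⟨i, ?_⟩
            apply stepB (rep i) (rep_ne i) _ _ (hf2 i) _ (hf1 i) hg1
            have hr : rep i = -v := by rw [hi, neg_neg]
            rw [hr, hsm, Matrix.mulVec_neg, hfix]
        · right
          right
          exact h1
      have hc := Finset.card_le_card hcover
      have c1 : (Finset.univ.filter (fun g : G => g = 1)).card ≤ 1 := by
        apply Finset.card_le_one.mpr
        intro a ha b hb
        rw [(Finset.mem_filter.mp ha).2, (Finset.mem_filter.mp hb).2]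
      have c2 : (Finset.univ.filter (fun g : G => μ g = -1)).card ≤ 1 := by
        apply Finset.card_le_one.mpr
        intro a ha b hb
        apply hinj
        rw [(Finset.mem_filter.mp ha).2, (Finset.mem_filter.mp hb).2]
      have c3 : (Finset.univ.image f).card ≤ 4 := by
        calc (Finset.univ.image f).card ≤ (Finset.univ : Finset (Fin 4)).card :=
              Finset.card_image_le
          _ = 4 := by simp
      have c4 : (Finset.univ.filter (fun g : G => μ g * μ g = -1)).card ≤ 6 := by
        rw [← D6]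
        apply Finset.card_le_card_of_injOn μ
        · intro g hg
          simp only [Finset.coe_filter, Finset.mem_univ, true_and, Set.mem_setOf_eq] at hg ⊢
          exact hg
        · exact hinj.injOn
      have hu : (Finset.univ : Finset G).card = 16 := by
        rw [Finset.card_univ, ← Nat.card_eq_fintype_card, h16]
      have u1 := Finset.card_union_le
        ((Finset.univ.filter (fun g : G => g = 1)) ∪ (Finset.univ.filter (fun g : G => μ g = -1)))
        ((Finset.univ.image f) ∪ (Finset.univ.filter (fun g : G => μ g * μ g = -1)))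
      have u2 := Finset.card_union_le (Finset.univ.filter (fun g : G => g = 1))
        (Finset.univ.filter (fun g : G => μ g = -1))
      have u3 := Finset.card_union_le (Finset.univ.image f)
        (Finset.univ.filter (fun g : G => μ g * μ g = -1))
      omega
    obtain ⟨x, hx⟩ := hx8
    obtain ⟨y, hy1, hyfix⟩ := hst2 (rep 0) (rep_ne 0)
    have hyy : y * y = 1 := stepA _ (rep_ne 0) y hyfix
    have hyord : orderOf y = 2 := orderOf_eq_prime (by rw [pow_two]; exact hyy) hy1
    have hyinv : y⁻¹ = y := inv_eq_of_mul_eq_one_left hyy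
    have hBm : μ y ≠ -1 := by
      intro h
      have h2 : (μ y).mulVec (rep 0) = rep 0 := hyfix
      rw [h, Matrix.neg_mulVec, Matrix.one_mulVec] at h2
      exact neg_ne_self _ (rep_ne 0) h2
    have hB1 : μ y ≠ 1 := fun h => hy1 (hμ1 _ h)
    have hidx : (Subgroup.zpowers x).index = 2 := by
      have := Subgroup.card_mul_index (Subgroup.zpowers x)
      rw [Nat.card_zpowers, hx, h16] at this
      omega
    have hnorm : (Subgroup.zpowers x).Normal := Subgroup.normal_of_index_eq_two hidx
    have hmem : y * x * y⁻¹ ∈ Subgroup.zpowers x := hnorm.conj_mem x (Subgroup.mem_zpowers x) y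
    obtain ⟨k, hk⟩ := Subgroup.mem_zpowers_iff.mp hmem
    have hnn : 0 ≤ k % 8 := Int.emod_nonneg _ (by norm_num)
    have hlt8 : k % 8 < 8 := Int.emod_lt_of_pos k (by norm_num)
    have hk' : x ^ (k % 8).toNat = y * x * y⁻¹ := by
      rw [← hk, ← zpow_natCast, Int.toNat_of_nonneg hnn]
      have := zpow_mod_orderOf x k
      rw [hx] at this
      exact_mod_cast this
    have hlt : (k % 8).toNat < 8 := by omega
    have hA8 : (μ x) ^ 8 = 1 := by rw [← map_pow, ← hx, pow_orderOf_eq_one, map_one]
    have hA4 : (μ x * μ x) * (μ x * μ x) = -1 := by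
      have h := D3 (μ x * μ x) (by rw [mul4, ← pow_two, ← pow_mul]; exact hA8)
      rcases h with h | h
      · exfalso
        rw [mul4, ← map_pow] at h
        have := hμ1 _ h
        have hd : orderOf x ∣ 4 := orderOf_dvd_iff_pow_eq_one.mpr this
        rw [hx] at hd
        omega
      · exact h
    have hrel : μ y * μ x * μ y = (μ x) ^ ((⟨(k % 8).toNat, hlt⟩ : Fin 8) : ℕ) := by
      show μ y * μ x * μ y = (μ x) ^ (k % 8).toNat
      rw [← map_pow, hk', hyinv, map_mul, map_mul]
    have hk3 := D4 (μ x) hA4 (μ y) (by rw [hμsq, hyy, map_one]) hB1 hBm _ hrel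
    have hk3' : (k % 8).toNat = 3 := by
      have := congrArg Fin.val hk3
      simpa using this
    refine ⟨3, le_refl 3, by rw [h16]; norm_num, x, y, by rw [hx]; norm_num, hyord, ?_⟩
    rw [← hk', hk3']
    norm_num


theorem main3370 (q : ℕ) [Fact q.Prime] {V : Type*} [AddCommGroup V] [Module (ZMod q) V] [Finite V]
    [Nontrivial V] {G : Type*} [Group G] [Finite G] [Nontrivial G] (p : ℕ) [Fact p.Prime]
    (hG : IsPGroup p G) (ρ : G →* (V ≃ₗ[ZMod q] V)) (hρ : Function.Injective ρ)
    (htrans : ∀ v w : V, v ≠ 0 → w ≠ 0 → ∃ g : G, ρ g v = w) :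
    (q = 2 ∧ p = Nat.card V - 1 ∧ Nat.card G = p) ∨
    (p = 2 ∧ Nat.card V = q ∧ (∃ m : ℕ, q = 2 ^ m + 1 ∧ Nat.card G = 2 ^ m) ∧ IsCyclic G) ∨
    (p = 2 ∧ q = 3 ∧ Nat.card V = 9 ∧
      ((IsCyclic G ∧ Nat.card G = 8) ∨ Nonempty (G ≃* QuaternionGroup 2) ∨
        (Cfsg.IsQuasiDihedral G ∧ Nat.card G = 16))) := by
  classical
  have hq : q.Prime := Fact.out
  have hp : p.Prime := Fact.out
  haveI := Fintype.ofFinite V
  obtain ⟨n, hn⟩ : ∃ n, n = Module.finrank (ZMod q) V := ⟨_, rfl⟩
  have hcard : Nat.card V = q ^ n := by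
    rw [hn, Nat.card_eq_fintype_card, Module.card_eq_pow_finrank (K := ZMod q), ZMod.card]
  have hn1 : 1 ≤ n := by
    rw [hn]
    exact Module.finrank_pos
  letI : MulAction G V := MulAction.compHom V ρ
  have hsm : ∀ (g : G) (w : V), g • w = ρ g w := fun g w => rfl
  have hfaith : ∀ g : G, (∀ w : V, ρ g w = w) → g = 1 := by
    intro g hg
    apply hρ
    rw [map_one]
    ext w
    exact hg w
  obtain ⟨v0, hv0⟩ := exists_ne (0 : V)
  have hos := orbit_stab' (G := G) v0 (0 : V) hv0 (fun g => by rw [hsm, map_zero])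
    (fun w hw => htrans v0 w hv0 hw)
  obtain ⟨t, ht⟩ := hG.exists_card_eq
  have hdvd : Nat.card V - 1 ∣ p ^ t := by
    rw [← ht]
    exact Dvd.intro _ hos
  obtain ⟨k, hkt, hk⟩ := (Nat.dvd_prime_pow hp).mp hdvd
  have hVpos : 2 ≤ Nat.card V := by
    rw [hcard]
    exact le_trans hq.two_le (Nat.le_self_pow (by omega) q)
  have hVk : Nat.card V = p ^ k + 1 := by omega
  have hk1 : 1 ≤ k := by
    by_contra hcon
    have hk0 : k = 0 := by omega
    rw [hk0, pow_zero] at hk
    rw [hk, one_mul] at hos
    have hall : ∀ g : G, g • v0 = v0 := by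
      intro g
      have h1 : MulAction.stabilizer G v0 = ⊤ := Subgroup.eq_top_of_card_eq _ hos
      have hg : g ∈ MulAction.stabilizer G v0 := by
        rw [h1]
        trivial
      exact MulAction.mem_stabilizer_iff.mp hg
    obtain ⟨g, hg⟩ := exists_ne (1 : G)
    apply hg
    apply hfaith
    intro w
    by_cases hw : w = 0
    · rw [hw, map_zero]
    · obtain ⟨h, hh⟩ := htrans v0 w hv0 hw
      have h2 : w = v0 := by
        rw [← hh]
        exact hall h
      rw [h2]
      exact hall g
  by_cases hq2 : q = 2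
  · left
    have h2n : 2 ^ n = p ^ k + 1 := by
      rw [← hVk, hcard, hq2]
    have hk1' : k = 1 := nt_mersenne p k n hp hk1 h2n
    have hpV : p = Nat.card V - 1 := by rw [hk, hk1', pow_one]
    refine ⟨hq2, hpV, ?_⟩
    have hinjP : Function.Injective (MulAction.toPermHom G V) := by
      intro g h hgh
      apply hρ
      ext w
      have := congrArg (fun σ : Equiv.Perm V => σ w) hgh
      exact this
    have hd := Subgroup.card_dvd_of_injective _ hinjP
    rw [Nat.card_perm, hVk, hk1', pow_one, ht] at hd
    have ht1 : t ≤ 1 := by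
      by_contra hcon
      push Not at hcon
      have h2 : p ^ 2 ∣ (p + 1).factorial := dvd_trans (pow_dvd_pow p hcon) hd
      have hfac : (p + 1).factorial = p * ((p + 1) * (p - 1).factorial) := by
        rw [Nat.factorial_succ, ← Nat.mul_factorial_pred hp.pos.ne']
        ring
      rw [hfac, pow_two] at h2
      have h3 : p ∣ (p + 1) * (p - 1).factorial := Nat.dvd_of_mul_dvd_mul_left hp.pos h2
      rcases (Nat.Prime.dvd_mul hp).mp h3 with h4 | h4
      · have : p ∣ 1 := (Nat.dvd_add_right (dvd_refl p)).mp h4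
        exact hp.one_lt.ne' (Nat.dvd_one.mp this)
      · have := (hp.dvd_factorial).mp h4
        have := hp.one_lt
        omega
    have ht0 : t ≠ 0 := by
      intro h0
      rw [h0, pow_zero] at ht
      have := Finite.one_lt_card (α := G)
      omega
    have ht' : t = 1 := by omega
    rw [ht, ht', pow_one]
  · right
    have hqodd : Odd q := hq.odd_of_ne_two hq2
    have hp2 : p = 2 := by
      have hodd : Odd (q ^ n) := hqodd.pow
      have heven : Even (p ^ k) := by
        have h1 : p ^ k + 1 = q ^ n := by rw [← hVk, hcard]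
        obtain ⟨m, hm⟩ := hodd
        exact ⟨m, by omega⟩
      have := (Nat.even_pow.mp heven).1
      exact (Nat.Prime.even_iff hp).mp this
    subst hp2
    have hqn : q ^ n = 2 ^ k + 1 := by rw [← hcard, hVk]
    rcases Nat.lt_or_ge n 2 with hn2 | hn2
    · have hn1' : n = 1 := by omega
      left
      have hVq : Nat.card V = q := by rw [hcard, hn1', pow_one]
      have hspan : ∀ w : V, ∃ c : ZMod q, c • v0 = w :=
        (finrank_eq_one_iff_of_nonzero' v0 hv0).mp (by rw [← hn]; exact hn1')
      have hbot : MulAction.stabilizer G v0 = ⊥ := by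
        rw [eq_bot_iff]
        intro g hg
        rw [Subgroup.mem_bot]
        apply hfaith
        intro w
        obtain ⟨c, rfl⟩ := hspan w
        have hfix : ρ g v0 = v0 := MulAction.mem_stabilizer_iff.mp hg
        rw [map_smul, hfix]
      rw [hbot, Subgroup.card_bot, mul_one] at hos
      refine ⟨rfl, hVq, ⟨k, ?_, ?_⟩, ?_⟩
      · rw [← hVq, hVk]
      · rw [← hos, hk]
      · have hfr : Module.finrank (ZMod q) V = Module.finrank (ZMod q) (ZMod q) := by
          rw [Module.finrank_self, ← hn]
          exact hn1'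
        let e : V ≃ₗ[ZMod q] ZMod q := LinearEquiv.ofFinrankEq V (ZMod q) hfr
        have hsc : ∀ w : V, w = (e w) • e.symm 1 := by
          intro w
          apply e.injective
          rw [map_smul, e.apply_symm_apply, smul_eq_mul, mul_one]
        let χ : G →* ZMod q :=
          { toFun := fun g => e (ρ g (e.symm 1))
            map_one' := by
              rw [map_one, LinearEquiv.coe_one, id, e.apply_symm_apply]
            map_mul' := by
              intro g h
              rw [map_mul, LinearEquiv.mul_apply]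
              have h1 := hsc (ρ h (e.symm 1))
              rw [h1, map_smul, map_smul, smul_eq_mul, ← h1, mul_comm] }
        exact isCyclic_of_subgroup_isDomain χ (by
          intro g h hgh
          apply hρ
          ext w
          have h1 : ρ g (e.symm 1) = ρ h (e.symm 1) := e.injective hgh
          rw [hsc w, map_smul, map_smul, h1])
    · right
      obtain ⟨hq3, hn2'⟩ := nt_fermat q n k hq hq2 hn2 hqn
      subst hq3
      refine ⟨rfl, rfl, by rw [hcard, hn2']; norm_num, ?_⟩
      have hfr : Module.finrank (ZMod 3) V = Module.finrank (ZMod 3) (Fin 2 → ZMod 3) := by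
        rw [Module.finrank_fin_fun, ← hn]
        exact hn2'
      let e : V ≃ₗ[ZMod 3] (Fin 2 → ZMod 3) := LinearEquiv.ofFinrankEq V _ hfr
      let L : G → ((Fin 2 → ZMod 3) →ₗ[ZMod 3] (Fin 2 → ZMod 3)) := fun g =>
        (e.toLinearMap ∘ₗ (ρ g).toLinearMap) ∘ₗ e.symm.toLinearMap
      have hL : ∀ g x, L g x = e (ρ g (e.symm x)) := fun g x => rfl
      let μ : G →* M3 :=
        { toFun := fun g => LinearMap.toMatrix' (L g)
          map_one' := by
            have h1 : L 1 = LinearMap.id := by
              apply LinearMap.ext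
              intro x
              show e (ρ 1 (e.symm x)) = x
              rw [map_one, LinearEquiv.coe_one, id, e.apply_symm_apply]
            rw [h1, LinearMap.toMatrix'_id]
          map_mul' := by
            intro g h
            have h1 : L (g * h) = L g ∘ₗ L h := by
              apply LinearMap.ext
              intro x
              show e (ρ (g * h) (e.symm x)) = e (ρ g (e.symm (e (ρ h (e.symm x)))))
              rw [map_mul, LinearEquiv.mul_apply, e.symm_apply_apply]
            rw [h1, LinearMap.toMatrix'_comp] }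
      have hμvec : ∀ g x, (μ g).mulVec x = e (ρ g (e.symm x)) := by
        intro g x
        show (LinearMap.toMatrix' (L g)).mulVec x = _
        rw [LinearMap.toMatrix'_mulVec, hL]
      apply case9 hG μ
      · intro g h hgh
        apply hρ
        ext w
        have h1 : (μ g).mulVec (e w) = (μ h).mulVec (e w) := by rw [hgh]
        rw [hμvec, hμvec, e.symm_apply_apply] at h1
        exact e.injective h1
      · intro v w hv hw
        have hv' : e.symm v ≠ 0 := fun h => hv (by simpa using h)
        have hw' : e.symm w ≠ 0 := fun h => hw (by simpa using h)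
        obtain ⟨g, hg⟩ := htrans _ _ hv' hw'
        refine ⟨g, ?_⟩
        rw [hμvec, hg, e.apply_symm_apply]

/-- Let q be a prime, V a non-trivial finite vector space over the field with q elements, and G a non-trivial finite p-group (p prime) acting faithfully and linearly on V and transitively on the non-zero vectors. Then either q = 2 and G has prime order p = |V| − 1; or p = 2, V has q elements with q = 2^m + 1 and G is cyclic of order 2^m; or p = 2, q = 3, V has 9 elements and G is cyclic of order 8, quaternion of order 8, or semidihedral of order 16. -/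
theorem result (q : ℕ) [Fact q.Prime] {V : Type*} [AddCommGroup V] [Module (ZMod q) V] [Finite V] [Nontrivial V]
    {G : Type*} [Group G] [Finite G] [Nontrivial G] (p : ℕ) [Fact p.Prime] (hG : IsPGroup p G)
    (ρ : G →* (V ≃ₗ[ZMod q] V)) (hρ : Function.Injective ρ)
    (htrans : ∀ v w : V, v ≠ 0 → w ≠ 0 → ∃ g : G, ρ g v = w) :
    (q = 2 ∧ p = Nat.card V - 1 ∧ Nat.card G = p) ∨
    (p = 2 ∧ Nat.card V = q ∧ (∃ m : ℕ, q = 2 ^ m + 1 ∧ Nat.card G = 2 ^ m) ∧ IsCyclic G) ∨
    (p = 2 ∧ q = 3 ∧ Nat.card V = 9 ∧
      ((IsCyclic G ∧ Nat.card G = 8) ∨ Nonempty (G ≃* QuaternionGroup 2) ∨ (Cfsg.IsQuasiDihedral G ∧ Nat.card G = 16))) := by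
  exact main3370 q p hG ρ hρ htrans

end Cfsg.Agent.S3370
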