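import Cfsg.Statements.S3374
import Mathlib
import Cfsg.Agent.Lib.Helper1.FrobFpf
import Cfsg.Agent.Lib.Helper1.SL25Rep

set_option autoImplicit false
open Cfsg

namespace Cfsg.Agent.S3374


open Cfsg.Agent.Lib.Helper1.FrobFpf Cfsg.Agent.Lib.Helper1.SL25Rep

theorem fTab_one : fTabZ 1 0 0 1 = 1 := by decide

/-- the representation as a monoid homomorphism -/
def fHom : Matrix.SpecialLinearGroup (Fin 2) (ZMod 5) →* Matrix (Fin 2) (Fin 2) (ZMod 11) where
  toFun A := fTabZ (A.1 0 0) (A.1 0 1) (A.1 1 0) (A.1 1 1)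
  map_one' := by
    show fTabZ ((1 : Matrix (Fin 2) (Fin 2) (ZMod 5)) 0 0) ((1 : Matrix (Fin 2) (Fin 2) (ZMod 5)) 0 1)
      ((1 : Matrix (Fin 2) (Fin 2) (ZMod 5)) 1 0) ((1 : Matrix (Fin 2) (Fin 2) (ZMod 5)) 1 1) = 1
    simp only [Matrix.one_apply_eq, Matrix.one_apply_ne, ne_eq, zero_ne_one, one_ne_zero,
      not_false_eq_true]
    exact fTab_one
  map_mul' := by
    intro A B
    have hA : A.1 0 0 * A.1 1 1 - A.1 0 1 * A.1 1 0 = 1 := by
      rw [← Matrix.det_fin_two]; exact A.2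
    have hB : B.1 0 0 * B.1 1 1 - B.1 0 1 * B.1 1 0 = 1 := by
      rw [← Matrix.det_fin_two]; exact B.2
    have := fTab_mul _ _ _ _ hA _ _ _ _ hB
    rw [← this]
    show fTabZ ((A.1 * B.1) 0 0) ((A.1 * B.1) 0 1) ((A.1 * B.1) 1 0) ((A.1 * B.1) 1 1) = _
    simp only [Matrix.mul_apply, Fin.sum_univ_two]


/-- SL(2,5) occurs as a Frobenius complement: there is a finite group L with a subgroup H isomorphic to SL(2,5) which is a non-trivial proper subgroup meeting each conjugate gHg⁻¹ with g outside H trivially. -/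
theorem result :
    ∃ (L : Type) (_ : Group L) (_ : Finite L) (H : Subgroup L),
      Cfsg.IsFrobeniusComplement H ∧ Nonempty (H ≃* Matrix.SpecialLinearGroup (Fin 2) (ZMod 5)) := by
  haveI : Nontrivial (Matrix.SpecialLinearGroup (Fin 2) (ZMod 5)) := by
    refine ⟨⟨1, ⟨!![1, 1; 0, 1], by simp [Matrix.det_fin_two]⟩, ?_⟩⟩
    intro h
    have := congrArg (fun A : Matrix.SpecialLinearGroup (Fin 2) (ZMod 5) => A.1 0 1) h
    revert this
    simp
    decide
  haveI : Fact (1 < 11) := ⟨by norm_num⟩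
  apply frobenius_of_matrix_rep fHom
  intro A hA v hv
  have hdet : A.1 0 0 * A.1 1 1 - A.1 0 1 * A.1 1 0 = 1 := by
    rw [← Matrix.det_fin_two]; exact A.2
  have hne : ¬ (A.1 0 0 = 1 ∧ A.1 0 1 = 0 ∧ A.1 1 0 = 0 ∧ A.1 1 1 = 1) := by
    rintro ⟨h1, h2, h3, h4⟩
    apply hA
    ext i j
    fin_cases i <;> fin_cases j
    · simpa using h1
    · simpa using h2
    · simpa using h3
    · simpa using h4
  have hv2 : v = ![v 0, v 1] := by
    ext i; fin_cases i <;> rfl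
  have hv' : (fTabZ (A.1 0 0) (A.1 0 1) (A.1 1 0) (A.1 1 1)).mulVec ![v 0, v 1] = ![v 0, v 1] := by
    rw [← hv2]; exact hv
  obtain ⟨h0, h1⟩ := fTab_fpf _ _ _ _ hdet hne _ _ hv'
  ext i
  fin_cases i
  · exact h0
  · exact h1

end Cfsg.Agent.S3374
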