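import Cfsg.Statements.S3375
import Mathlib

set_option autoImplicit false
open Cfsg

namespace Cfsg.Agent.S3375

/-- core lemma: an involutive automorphism with exactly two fixed points inverts every element of any
invariant subgroup of index two, which is therefore commutative. -/
theorem invert_of_index_two {H : Type*} [Group H] [Finite H] (γ : MulAut H)
    (hγ2 : ∀ h : H, γ (γ h) = h) (C : Subgroup H) (hC : ∀ h : H, h ∈ C ↔ γ h = h)
    (hC2 : Nat.card C = 2) (A : Subgroup H) (hA : A.index = 2) (hAγ : ∀ a ∈ A, γ a ∈ A) :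
    ∀ a ∈ A, γ a = a⁻¹ := by
  have hAγ' : ∀ a : H, γ a ∈ A → a ∈ A := by
    intro a ha
    have := hAγ _ ha
    rwa [hγ2] at this
  -- f h = γ h * h⁻¹ lands in A
  have hfA : ∀ h : H, γ h * h⁻¹ ∈ A := by
    intro h
    rw [Subgroup.mul_mem_iff_of_index_two hA, inv_mem_iff]
    exact ⟨hAγ' h, hAγ h⟩
  -- the induced map on the quotient
  let F : H ⧸ C → A := fun q => Quotient.liftOn' q (fun h => (⟨γ h * h⁻¹, hfA h⟩ : A)) (by
    intro a b hab
    rw [QuotientGroup.leftRel_apply, hC] at hab
    apply Subtype.ext
    simp only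
    rw [map_mul, map_inv] at hab
    -- γ a⁻¹ * γ b = a⁻¹ * b
    have h1 : γ b = γ a * (a⁻¹ * b) := by rw [← hab]; group
    rw [h1]; group)
  have hFinj : Function.Injective F := by
    intro q₁ q₂
    refine Quotient.inductionOn₂' q₁ q₂ ?_
    intro a b hab
    have hab' : γ a * a⁻¹ = γ b * b⁻¹ := congrArg Subtype.val hab
    apply Quotient.sound'
    rw [QuotientGroup.leftRel_apply, hC, map_mul, map_inv]
    have h1 : γ b = γ a * a⁻¹ * b := by rw [hab']; group
    rw [h1]; group
  have hcard : Nat.card A ≤ Nat.card (H ⧸ C) := by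
    have h1 := Subgroup.card_eq_card_quotient_mul_card_subgroup C
    have h2 := Subgroup.card_mul_index A
    rw [hC2] at h1
    rw [hA] at h2
    omega
  have hbij := hFinj.bijective_of_nat_card_le hcard
  intro a ha
  obtain ⟨q, hq⟩ := hbij.2 ⟨a, ha⟩
  revert hq
  refine Quotient.inductionOn' q ?_
  intro h hq
  have hq' : γ h * h⁻¹ = a := congrArg Subtype.val hq
  rw [← hq', map_mul, map_inv, hγ2]
  group


/-- Let γ be an automorphism of order 2 of a finite group H. (i) If γ fixes only the identity, then H is abelian and γ inverts every element. (ii) If γ has exactly two fixed points and H has a subgroup of index 2, then H has a γ-invariant abelian subgroup of index 2 on which γ acts by inversion. -/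
theorem result {H : Type*} [Group H] [Finite H] (γ : MulAut H) (hγ : orderOf γ = 2) :
    ((∀ h : H, γ h = h → h = 1) → (∀ a b : H, a * b = b * a) ∧ ∀ h : H, γ h = h⁻¹) ∧
    ((Nat.card {h : H // γ h = h} = 2 ∧ ∃ M : Subgroup H, M.index = 2) →
      ∃ A : Subgroup H, A.index = 2 ∧ IsMulCommutative A ∧ (∀ a ∈ A, γ a ∈ A) ∧ ∀ a ∈ A, γ a = a⁻¹) := by
  have hγ2 : ∀ h : H, γ (γ h) = h := by
    intro h
    have : γ ^ 2 = 1 := by rw [← hγ]; exact pow_orderOf_eq_one γ
    have h2 := congrArg (fun φ : MulAut H => φ h) this
    simpa [pow_two] using h2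
  constructor
  · intro hfp
    have hinj : Function.Injective (fun h : H => h⁻¹ * γ h) := by
      intro a b hab
      simp only at hab
      have h1 : γ (b * a⁻¹) = b * a⁻¹ := by
        rw [map_mul, map_inv]
        have : γ b = b * (a⁻¹ * γ a) := by rw [hab]; group
        rw [this]; group
      have := hfp _ h1
      exact (mul_inv_eq_one.mp this).symm
    have hsurj : Function.Surjective (fun h : H => h⁻¹ * γ h) := Finite.surjective_of_injective hinj
    have hinv : ∀ h : H, γ h = h⁻¹ := by
      intro x
      obtain ⟨h, rfl⟩ := hsurj x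
      simp only
      rw [map_mul, map_inv, hγ2]
      group
    refine ⟨?_, hinv⟩
    intro a b
    have h1 := hinv (a * b)
    rw [map_mul, hinv a, hinv b, mul_inv_rev] at h1
    have h2 : (a⁻¹ * b⁻¹)⁻¹ = (b⁻¹ * a⁻¹)⁻¹ := by rw [h1]
    simpa using h2.symm
  · rintro ⟨hcard, M, hM⟩
    -- the fixed point subgroup
    let C : Subgroup H :=
      { carrier := {h | γ h = h}
        one_mem' := map_one γ
        mul_mem' := by
          intro a b ha hb
          simp only [Set.mem_setOf_eq] at *
          rw [map_mul, ha, hb]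
        inv_mem' := by
          intro a ha
          simp only [Set.mem_setOf_eq] at *
          rw [map_inv, ha] }
    have hC : ∀ h : H, h ∈ C ↔ γ h = h := fun h => Iff.rfl
    have hC2 : Nat.card C = 2 := hcard
    -- get an invariant subgroup of index two
    obtain ⟨A, hA, hAγ⟩ : ∃ A : Subgroup H, A.index = 2 ∧ ∀ a ∈ A, γ a ∈ A := by
      by_cases hMγ : ∀ a ∈ M, γ a ∈ M
      · exact ⟨M, hM, hMγ⟩
      · -- M' = γ(M) differs from M
        have hM' : (M.map γ.toMonoidHom).index = 2 := by
          rw [← hM]
          exact Subgroup.index_map_equiv M γ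
        have hmem' : ∀ h : H, h ∈ M.map γ.toMonoidHom ↔ γ h ∈ M := by
          intro h
          constructor
          · rintro ⟨x, hx, rfl⟩
            simp only [MulEquiv.coe_toMonoidHom]
            rw [hγ2]; exact hx
          · intro hh
            exact ⟨γ h, hh, by simp [hγ2]⟩
        -- there is a ∈ M with γ a ∉ M
        push_neg at hMγ
        obtain ⟨a, haM, haγ⟩ := hMγ
        have ha' : a ∉ M.map γ.toMonoidHom := by rw [hmem']; exact haγ
        let A : Subgroup H :=
          { carrier := {h | h ∈ M ↔ γ h ∈ M}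
            one_mem' := by simp [M.one_mem]
            mul_mem' := by
              intro x y hx hy
              simp only [Set.mem_setOf_eq] at *
              rw [map_mul, Subgroup.mul_mem_iff_of_index_two hM, Subgroup.mul_mem_iff_of_index_two hM,
                hx, hy]
            inv_mem' := by
              intro x hx
              simp only [Set.mem_setOf_eq] at *
              rw [map_inv, inv_mem_iff, inv_mem_iff, hx] }
        have hAmem : ∀ h : H, h ∈ A ↔ (h ∈ M ↔ γ h ∈ M) := fun h => Iff.rfl
        refine ⟨A, ?_, ?_⟩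
        · rw [Subgroup.index_eq_two_iff]
          refine ⟨a, ?_⟩
          intro b
          rw [hAmem, hAmem, map_mul, Subgroup.mul_mem_iff_of_index_two hM,
            Subgroup.mul_mem_iff_of_index_two hM]
          simp only [haM, haγ, iff_true, iff_false]
          by_cases h1 : b ∈ M <;> by_cases h2 : γ b ∈ M <;> simp [h1, h2, Xor]
        · intro x hx
          rw [hAmem] at hx ⊢
          rw [hγ2]
          exact hx.symm
    have hinv := invert_of_index_two γ hγ2 C hC hC2 A hA hAγ
    refine ⟨A, hA, ?_, hAγ, hinv⟩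
    constructor
    constructor
    rintro ⟨a, ha⟩ ⟨b, hb⟩
    apply Subtype.ext
    simp only [Subgroup.coe_mul]
    have h1 := hinv (a * b) (A.mul_mem ha hb)
    rw [map_mul, hinv a ha, hinv b hb, mul_inv_rev] at h1
    have h2 : (a⁻¹ * b⁻¹)⁻¹ = (b⁻¹ * a⁻¹)⁻¹ := by rw [h1]
    simpa using h2.symm

end Cfsg.Agent.S3375
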