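import Cfsg.Statements.S3379
import Mathlib

set_option autoImplicit false
open Cfsg

namespace Cfsg.Agent.S3379

/-- Let G be a finite group all of whose Sylow subgroups are cyclic. Then G is generated by two elements x and y of coprime orders n and m with x⁻¹yx = y^r, where gcd(r − 1, m) = 1 and r^n ≡ 1 (mod m). -/
theorem result {G : Type*} [Group G] [Finite G]
    (hZ : ∀ (p : ℕ) [Fact p.Prime] (P : Sylow p G), IsCyclic (P : Subgroup G)) :
    ∃ (x y : G) (n m r : ℕ), Subgroup.closure {x, y} = ⊤ ∧ orderOf x = n ∧ orderOf y = m ∧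
      x⁻¹ * y * x = y ^ r ∧ Nat.Coprime (r - 1) m ∧ Nat.Coprime n m ∧ 1 ≤ r ∧ r ^ n % m = 1 % m := by
  classical
  have hG : IsZGroup G := ⟨fun p hp P => by have := Fact.mk hp; exact hZ p P⟩
  obtain ⟨H, hH⟩ := Subgroup.exists_right_complement'_of_coprime hG.coprime_commutator_index
  have hNc : IsCyclic (commutator G) := hG.isCyclic_commutator
  have h1 : Abelianization G ≃* H := hH.symm.QuotientMulEquiv
  have hHc : IsCyclic H := isCyclic_of_surjective _ h1.surjective
  obtain ⟨⟨y, hyN⟩, hy⟩ := hNc.exists_generator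
  obtain ⟨⟨x, hxH⟩, hx⟩ := hHc.exists_generator
  have hNy : commutator G = Subgroup.zpowers y := by
    apply le_antisymm
    · intro z hz
      have := hy ⟨z, hz⟩
      rw [Subgroup.mem_zpowers_iff] at this ⊢
      obtain ⟨k, hk⟩ := this
      refine ⟨k, ?_⟩
      have := congrArg Subtype.val hk
      simpa using this
    · rw [Subgroup.zpowers_le]; exact hyN
  have hHx : H = Subgroup.zpowers x := by
    apply le_antisymm
    · intro z hz
      have := hx ⟨z, hz⟩
      rw [Subgroup.mem_zpowers_iff] at this ⊢
      obtain ⟨k, hk⟩ := this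
      refine ⟨k, ?_⟩
      have := congrArg Subtype.val hk
      simpa using this
    · rw [Subgroup.zpowers_le]; exact hxH
  have hNn : (commutator G).Normal := inferInstance
  set m := orderOf y with hm
  have hmpos : 0 < m := orderOf_pos y
  -- conjugates of y are powers of y
  have hconj : ∀ g : G, ∃ s : ℕ, g * y * g⁻¹ = y ^ s := by
    intro g
    have : g * y * g⁻¹ ∈ commutator G := hNn.conj_mem y hyN g
    rw [hNy, ← mem_powers_iff_mem_zpowers] at this
    obtain ⟨s, hs⟩ := this
    exact ⟨s, hs.symm⟩
  obtain ⟨k, hk⟩ := hconj x⁻¹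
  rw [inv_inv] at hk
  set r := k + m with hr
  have hyr : x⁻¹ * y * x = y ^ r := by
    rw [hk, hr, pow_add, hm, pow_orderOf_eq_one, mul_one]
  have hr1 : 1 ≤ r := by omega
  have hcl : Subgroup.closure {x, y} = ⊤ := by
    rw [eq_top_iff, ← hH.sup_eq_top]
    apply sup_le
    · rw [hNy, Subgroup.zpowers_le]; exact Subgroup.subset_closure (by simp)
    · rw [hHx, Subgroup.zpowers_le]; exact Subgroup.subset_closure (by simp)
  have hconjpow : ∀ (g z : G) (j : ℕ), g * z ^ j * g⁻¹ = (g * z * g⁻¹) ^ j := by
    intro g z j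
    have := map_pow (MulAut.conj g) z j
    simpa [MulAut.conj_apply] using this
  have hpowconj : ∀ j : ℕ, x⁻¹ ^ j * y * x ^ j = y ^ (r ^ j) := by
    intro j
    induction j with
    | zero => simp
    | succ j ih =>
      have : x⁻¹ ^ (j+1) * y * x ^ (j+1) = x⁻¹ * (x⁻¹ ^ j * y * x ^ j) * x := by
        rw [pow_succ', pow_succ]; group
      rw [this, ih]
      have h2 : x⁻¹ * y ^ (r ^ j) * x = (x⁻¹ * y * x) ^ (r ^ j) := by
        have := hconjpow x⁻¹ y (r ^ j)
        simpa using this
      rw [h2, hyr, ← pow_mul, pow_succ']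
  refine ⟨x, y, orderOf x, m, r, hcl, rfl, rfl, hyr, ?_, ?_, hr1, ?_⟩
  · -- coprime (r-1) m
    set d := Nat.gcd (r - 1) m with hd
    have hdpos : 0 < d := Nat.gcd_pos_of_pos_right _ hmpos
    let K : Subgroup G := Subgroup.zpowers (y ^ d)
    have hKn : K.Normal := by
      constructor
      intro z hz g
      rw [← mem_powers_iff_mem_zpowers] at hz
      obtain ⟨i, hi⟩ := hz
      obtain ⟨s, hs⟩ := hconj g
      have : g * z * g⁻¹ = (y ^ d) ^ (s * i) := by
        rw [← hi]
        show g * (y ^ d) ^ i * g⁻¹ = _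
        rw [hconjpow, hconjpow, hs, ← pow_mul, ← pow_mul, ← pow_mul]
        congr 1; ring
      rw [this]
      exact Subgroup.pow_mem _ (Subgroup.mem_zpowers _) _
    have hyK : y ^ (r - 1) ∈ K := by
      obtain ⟨c, hc⟩ := Nat.gcd_dvd_left (r - 1) m
      rw [hc, pow_mul]
      exact Subgroup.pow_mem _ (Subgroup.mem_zpowers _) _
    -- G/K is commutative
    have hcomm : ∀ a b : G ⧸ K, a * b = b * a := by
      have hxy : (QuotientGroup.mk' K x) * (QuotientGroup.mk' K y) =
          (QuotientGroup.mk' K y) * (QuotientGroup.mk' K x) := by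
        rw [← map_mul, ← map_mul]
        apply (QuotientGroup.eq).mpr
        -- (x*y)⁻¹ * (y * x) ∈ K
        have : (x * y)⁻¹ * (y * x) = y ^ (r - 1) := by
          have : (x * y)⁻¹ * (y * x) = y⁻¹ * (x⁻¹ * y * x) := by group
          rw [this, hyr]
          have : y ^ r = y * y ^ (r - 1) := by
            rw [← pow_succ']; congr 1; omega
          rw [this]; group
        rw [this]; exact hyK
      have htop : Subgroup.closure {QuotientGroup.mk' K x, QuotientGroup.mk' K y} = ⊤ := by
        have := congrArg (Subgroup.map (QuotientGroup.mk' K)) hcl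
        rw [MonoidHom.map_closure, Subgroup.map_top_of_surjective _ (QuotientGroup.mk'_surjective K)] at this
        rw [← this]; congr 1
        ext z; simp [Set.image_pair]
      have hc : ∀ a ∈ ({QuotientGroup.mk' K x, QuotientGroup.mk' K y} : Set (G ⧸ K)),
          ∀ b ∈ ({QuotientGroup.mk' K x, QuotientGroup.mk' K y} : Set (G ⧸ K)), a * b = b * a := by
        intro a ha b hb
        simp only [Set.mem_insert_iff, Set.mem_singleton_iff] at ha hb
        rcases ha with rfl | rfl <;> rcases hb with rfl | rfl
        · rfl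
        · exact hxy
        · exact hxy.symm
        · rfl
      have hmc := Subgroup.isMulCommutative_closure hc
      intro a b
      have ha : a ∈ Subgroup.closure {QuotientGroup.mk' K x, QuotientGroup.mk' K y} := by
        rw [htop]; trivial
      have hb : b ∈ Subgroup.closure {QuotientGroup.mk' K x, QuotientGroup.mk' K y} := by
        rw [htop]; trivial
      have := hmc.is_comm.comm (⟨a, ha⟩ : Subgroup.closure {QuotientGroup.mk' K x, QuotientGroup.mk' K y}) ⟨b, hb⟩
      exact congrArg Subtype.val this
    have hle : commutator G ≤ K := by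
      letI : CommGroup (G ⧸ K) := { (inferInstance : Group (G ⧸ K)) with mul_comm := hcomm }
      have := Abelianization.commutator_subset_ker (QuotientGroup.mk' K)
      rwa [QuotientGroup.ker_mk'] at this
    -- so y ∈ K
    have hyK' : y ∈ K := hle hyN
    have hzle : Subgroup.zpowers y ≤ K := by rw [Subgroup.zpowers_le]; exact hyK'
    have hcard := Subgroup.card_le_of_le hzle
    rw [Nat.card_zpowers, Nat.card_zpowers, orderOf_pow' y hdpos.ne'] at hcard
    have hdm : d ∣ m := Nat.gcd_dvd_right _ _
    rw [← hm, Nat.gcd_eq_right hdm] at hcard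
    have : d = 1 := by
      by_contra hne
      have h2 : 2 ≤ d := by omega
      have : m / d < m := Nat.div_lt_self hmpos h2
      omega
    rw [Nat.coprime_iff_gcd_eq_one, ← hd, this]
  · -- coprime n m
    have h2 := hG.coprime_commutator_index
    rw [hH.symm.index_eq_card, hNy, hHx, Nat.card_zpowers, Nat.card_zpowers] at h2
    exact h2.symm
  · have := hpowconj (orderOf x)
    rw [inv_pow, pow_orderOf_eq_one] at this
    simp only [inv_one, one_mul, mul_one] at this
    have h3 : y ^ (r ^ orderOf x) = y ^ 1 := by rw [← this, pow_one]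
    rw [pow_eq_pow_iff_modEq] at h3
    exact h3

end Cfsg.Agent.S3379
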