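import Cfsg.Statements.S3381


set_option autoImplicit false
open Cfsg

namespace Cfsg.Agent.S3381


open Module

section
variable {q : ℕ} [Fact q.Prime] {V : Type*} [AddCommGroup V] [Module (ZMod q) V] [Finite V]
  {G : Type*} [Group G] (ρ : G →* (V ≃ₗ[ZMod q] V))

theorem rho_mul (g h : G) (v : V) : ρ (g * h) v = ρ g (ρ h v) := by
  rw [map_mul]; rfl

theorem rho_one (v : V) : ρ 1 v = v := by
  rw [map_one]; rfl

theorem card_ne {α : Type*} [Finite α] (a : α) : Nat.card {x : α // x ≠ a} = Nat.card α - 1 := by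
  classical
  haveI := Fintype.ofFinite α
  rw [Nat.card_eq_fintype_card, Nat.card_eq_fintype_card, Fintype.card_subtype_compl,
    Fintype.card_subtype_eq]

theorem stab_struct (hstab : ∀ v : V, v ≠ 0 → Nat.card {g : G // ρ g v = v} = 2) (v : V)
    (hv : v ≠ 0) :
    ∃ t : G, t ≠ 1 ∧ ρ t v = v ∧ t * t = 1 ∧ ∀ g, ρ g v = v → g = 1 ∨ g = t := by
  have h1 : ρ 1 v = v := rho_one ρ v
  obtain ⟨⟨t, ht⟩, hne, huniq⟩ :=
    (Nat.card_eq_two_iff' (⟨1, h1⟩ : {g : G // ρ g v = v})).1 (hstab v hv)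
  have ht1 : t ≠ 1 := fun h => hne (Subtype.ext h)
  have hall : ∀ g, ρ g v = v → g = 1 ∨ g = t := by
    intro g hg
    by_cases hg1 : g = 1
    · exact Or.inl hg1
    · right
      have h2 := huniq ⟨g, hg⟩ (fun h => hg1 (congrArg Subtype.val h))
      exact congrArg Subtype.val h2
  refine ⟨t, ht1, ht, ?_, hall⟩
  have htt : ρ (t * t) v = v := by rw [rho_mul, ht, ht]
  rcases hall _ htt with h | h
  · exact h
  · exfalso
    apply ht1
    exact mul_left_cancel (a := t) (by rw [h, mul_one])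

theorem central_dich (hstab : ∀ v : V, v ≠ 0 → Nat.card {g : G // ρ g v = v} = 2)
    (c : G) (hc1 : c ≠ 1) (hc2 : c * c = 1) (hcc : ∀ g, g * c = c * g) (w : V) :
    ρ c w = w ∨ ρ c w = -w := by
  by_cases h : ρ c w = w
  · exact Or.inl h
  · right
    have hw : w ≠ 0 := by
      rintro rfl
      exact h (map_zero _)
    obtain ⟨s, hs1, hsw, _, hsu⟩ := stab_struct ρ hstab w hw
    have hsx : ρ s (w + ρ c w) = w + ρ c w := by
      rw [map_add, hsw, ← rho_mul, hcc s, rho_mul, hsw]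
    have hcx : ρ c (w + ρ c w) = w + ρ c w := by
      rw [map_add, ← rho_mul, hc2, rho_one, add_comm]
    by_contra hneg
    have hx : w + ρ c w ≠ 0 := fun h0 => hneg (eq_neg_of_add_eq_zero_right h0)
    obtain ⟨t', _, _, _, hu'⟩ := stab_struct ρ hstab _ hx
    have e1 : s = t' := (hu' s hsx).resolve_left hs1
    have e2 : c = t' := (hu' c hcx).resolve_left hc1
    apply h
    rw [e2, ← e1]
    exact hsw

theorem central_neg (hρ : Function.Injective ρ)
    (hstab : ∀ v : V, v ≠ 0 → Nat.card {g : G // ρ g v = v} = 2)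
    (c : G) (hc1 : c ≠ 1) (hc2 : c * c = 1) (hcc : ∀ g, g * c = c * g) :
    (∀ w : V, ρ c w = -w) ∧ (∀ u : V, ρ c u = u → u = 0) := by
  have hfix : ∀ u : V, ρ c u = u → u = 0 := by
    intro u hu
    by_contra hu0
    apply hc1
    apply hρ
    rw [map_one]
    ext w
    show ρ c w = w
    rcases central_dich ρ hstab c hc1 hc2 hcc w with h | h
    · exact h
    · have hneg : -w = w := by
        rcases central_dich ρ hstab c hc1 hc2 hcc (u + w) with h' | h'
        · rw [map_add, hu, h] at h'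
          exact add_left_cancel h'
        · rw [map_add, hu, h, neg_add] at h'
          have h2 : u = -u := add_right_cancel h'
          have h3 : (2 : ZMod q) • u = 0 := by
            rw [two_smul]
            nth_rewrite 2 [h2]
            exact add_neg_cancel u
          have h4 : (2 : ZMod q) = 0 := (smul_eq_zero.1 h3).resolve_right hu0
          have h5 : w + w = 0 := by rw [← two_smul (ZMod q) w, h4, zero_smul]
          exact (eq_neg_of_add_eq_zero_left h5).symm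
      rw [h, hneg]
  refine ⟨fun w => ?_, hfix⟩
  rcases central_dich ρ hstab c hc1 hc2 hcc w with h | h
  · rw [hfix w h]
    simp
  · exact h

theorem add_self_ne (hρ : Function.Injective ρ)
    (hstab : ∀ v : V, v ≠ 0 → Nat.card {g : G // ρ g v = v} = 2)
    (z : G) (hz1 : z ≠ 1) (hz2 : z * z = 1) (hzc : ∀ g, g * z = z * g) (v : V) (hv : v ≠ 0) :
    v + v ≠ 0 := by
  intro h
  obtain ⟨hneg, hfix⟩ := central_neg ρ hρ hstab z hz1 hz2 hzc
  apply hv
  apply hfix
  rw [hneg]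
  exact (eq_neg_of_add_eq_zero_left h).symm

/-- fixed space. -/
def Fx (t : G) : Submodule (ZMod q) V :=
  LinearMap.ker ((ρ t : V →ₗ[ZMod q] V) - LinearMap.id)

theorem mem_Fx (t : G) (v : V) : v ∈ Fx ρ t ↔ ρ t v = v := by
  rw [Fx, LinearMap.mem_ker, LinearMap.sub_apply, LinearMap.id_apply, sub_eq_zero]
  rfl

theorem finrank_add_le (hstab : ∀ v : V, v ≠ 0 → Nat.card {g : G // ρ g v = v} = 2)
    (s t : G) (hs : s ≠ 1) (ht : t ≠ 1) (hst : s ≠ t) :
    finrank (ZMod q) (Fx ρ s) + finrank (ZMod q) (Fx ρ t) ≤ finrank (ZMod q) V := by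
  have hinf : Fx ρ s ⊓ Fx ρ t = ⊥ := by
    rw [Submodule.eq_bot_iff]
    intro v hv'
    obtain ⟨hvs, hvt⟩ := Submodule.mem_inf.1 hv'
    by_contra hv
    obtain ⟨t', _, _, _, hu⟩ := stab_struct ρ hstab v hv
    have e1 := (hu s ((mem_Fx ρ s v).1 hvs)).resolve_left hs
    have e2 := (hu t ((mem_Fx ρ t v).1 hvt)).resolve_left ht
    exact hst (e1.trans e2.symm)
  have h1 := Submodule.finrank_sup_add_finrank_inf_eq (Fx ρ s) (Fx ρ t)
  rw [hinf, finrank_bot, add_zero] at h1
  rw [← h1]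
  exact Submodule.finrank_le _

theorem pair_finrank (hρ : Function.Injective ρ)
    (hstab : ∀ v : V, v ≠ 0 → Nat.card {g : G // ρ g v = v} = 2)
    (z : G) (hz1 : z ≠ 1) (hz2 : z * z = 1) (hzc : ∀ g, g * z = z * g)
    (t : G) (ht1 : t ≠ 1) (ht2 : t * t = 1) (htz : t ≠ z) :
    (t * z ≠ 1 ∧ (t * z) * (t * z) = 1 ∧ t * z ≠ z ∧ t * z ≠ t) ∧
    finrank (ZMod q) (Fx ρ t) + finrank (ZMod q) (Fx ρ (t * z)) = finrank (ZMod q) V := by
  obtain ⟨hneg, hfix⟩ := central_neg ρ hρ hstab z hz1 hz2 hzc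
  have h1 : t * z ≠ 1 := by
    intro h
    exact htz (mul_right_cancel (h.trans hz2.symm))
  have h2 : (t * z) * (t * z) = 1 := by
    have hcomm : Commute z t := (hzc t).symm
    rw [hcomm.mul_mul_mul_comm, ht2, hz2, mul_one]
  have h3 : t * z ≠ z := by
    intro h
    exact ht1 (mul_right_cancel (b := z) (by rw [h, one_mul]))
  have h4 : t * z ≠ t := by
    intro h
    exact hz1 (mul_left_cancel (a := t) (by rw [h, mul_one]))
  refine ⟨⟨h1, h2, h3, h4⟩, ?_⟩
  have hrange : LinearMap.range ((ρ t : V →ₗ[ZMod q] V) - LinearMap.id) ≤ Fx ρ (t * z) := by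
    rintro _ ⟨v, rfl⟩
    rw [mem_Fx, LinearMap.sub_apply, LinearMap.id_apply, LinearEquiv.coe_coe, rho_mul, hneg,
      map_neg, map_sub, ← rho_mul, ht2, rho_one, neg_sub]
  have e1 := LinearMap.finrank_range_add_finrank_ker ((ρ t : V →ₗ[ZMod q] V) - LinearMap.id)
  have e2 := Submodule.finrank_mono hrange
  have e3 := finrank_add_le ρ hstab t (t * z) ht1 h1 (Ne.symm h4)
  have e4 : finrank (ZMod q) (Fx ρ t)
      = finrank (ZMod q) (LinearMap.ker ((ρ t : V →ₗ[ZMod q] V) - LinearMap.id)) := rfl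
  omega

theorem two_mul_finrank (hρ : Function.Injective ρ)
    (hstab : ∀ v : V, v ≠ 0 → Nat.card {g : G // ρ g v = v} = 2)
    (z : G) (hz1 : z ≠ 1) (hz2 : z * z = 1) (hzc : ∀ g, g * z = z * g)
    (t : G) (ht1 : t ≠ 1) (ht2 : t * t = 1) (htz : t ≠ z) :
    2 * finrank (ZMod q) (Fx ρ t) = finrank (ZMod q) V := by
  obtain ⟨hneg, hfix⟩ := central_neg ρ hρ hstab z hz1 hz2 hzc
  obtain ⟨⟨htz1, htz2, htzz, htzt⟩, hsum⟩ := pair_finrank ρ hρ hstab z hz1 hz2 hzc t ht1 ht2 htz
  have hFt : Fx ρ t ≠ ⊥ := by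
    intro h
    rw [h, finrank_bot, zero_add] at hsum
    have htop := Submodule.eq_top_of_finrank_eq hsum
    apply htz1
    apply hρ
    rw [map_one]
    ext w
    exact (mem_Fx ρ (t * z) w).1 (htop ▸ Submodule.mem_top)
  have hFtz : Fx ρ (t * z) ≠ ⊥ := by
    intro h
    rw [h, finrank_bot, add_zero] at hsum
    have htop := Submodule.eq_top_of_finrank_eq hsum
    apply ht1
    apply hρ
    rw [map_one]
    ext w
    exact (mem_Fx ρ t w).1 (htop ▸ Submodule.mem_top)
  obtain ⟨u, hu, hu0⟩ := Submodule.exists_mem_ne_zero_of_ne_bot hFt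
  obtain ⟨w, hw, hw0⟩ := Submodule.exists_mem_ne_zero_of_ne_bot hFtz
  rw [mem_Fx] at hu hw
  have htw : ρ t w = -w := by
    rw [rho_mul, hneg, map_neg] at hw
    exact neg_eq_iff_eq_neg.1 hw
  have htzu : ρ (t * z) u = -u := by
    rw [rho_mul, hneg, map_neg, hu]
  have huu := add_self_ne ρ hρ hstab z hz1 hz2 hzc u hu0
  have hww := add_self_ne ρ hρ hstab z hz1 hz2 hzc w hw0
  have hv0 : u + w ≠ 0 := by
    intro h
    have h' : u + -w = 0 := by
      have h2 := congrArg (ρ t) h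
      rw [map_add, hu, htw, map_zero] at h2
      exact h2
    apply huu
    have h3 : u + u = (u + w) + (u + -w) := by abel
    rw [h3, h, h', add_zero]
  obtain ⟨s, hs1, hsv, hs2, hsu⟩ := stab_struct ρ hstab (u + w) hv0
  have hst : s ≠ t := by
    intro h
    rw [h, map_add, hu, htw] at hsv
    have h2 : -w = w := add_left_cancel hsv
    apply hww
    nth_rewrite 1 [← h2]
    exact neg_add_cancel w
  have hstz : s ≠ t * z := by
    intro h
    rw [h, map_add, htzu, hw] at hsv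
    have h2 : -u = u := add_right_cancel hsv
    apply huu
    nth_rewrite 1 [← h2]
    exact neg_add_cancel u
  have hsz : s ≠ z := by
    intro h
    rw [h] at hsv
    exact hv0 (hfix _ hsv)
  obtain ⟨⟨hsz1, hsz2, hszz, hszs⟩, hsums⟩ :=
    pair_finrank ρ hρ hstab z hz1 hz2 hzc s hs1 hs2 hsz
  have hszt : s * z ≠ t := by
    intro h
    apply hstz
    rw [← h, mul_assoc, hz2, mul_one]
  have hsztz : s * z ≠ t * z := by
    intro h
    exact hst (mul_right_cancel h)
  have E1 := finrank_add_le ρ hstab s t hs1 ht1 hst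
  have E2 := finrank_add_le ρ hstab s (t * z) hs1 htz1 hstz
  have E3 := finrank_add_le ρ hstab (s * z) t hsz1 ht1 hszt
  have E4 := finrank_add_le ρ hstab (s * z) (t * z) hsz1 htz1 hsztz
  omega

end
/-- Let G be a finite group acting faithfully and linearly on a non-trivial finite vector space V over the field with q elements (q prime) so that every non-zero vector has a stabilizer of order 2, and suppose G has a central involution. Then V has q^(2r) elements for some r and G contains exactly q^r + 1 non-central involutions. -/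
theorem result
    (q : ℕ) [Fact q.Prime] {V : Type*} [AddCommGroup V] [Module (ZMod q) V] [Finite V] [Nontrivial V]
    {G : Type*} [Group G] [Finite G] (ρ : G →* (V ≃ₗ[ZMod q] V)) (hρ : Function.Injective ρ)
    (hstab : ∀ v : V, v ≠ 0 → Nat.card {g : G // ρ g v = v} = 2)
    (z : G) (hz : orderOf z = 2) (hzc : z ∈ Subgroup.center G) :
    ∃ r : ℕ, Nat.card V = q ^ (2 * r) ∧
      Nat.card {g : G // orderOf g = 2 ∧ g ∉ Subgroup.center G} = q ^ r + 1 := by
  classical
  have hz1 : z ≠ 1 := by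
    intro h
    rw [h, orderOf_one] at hz
    omega
  have hz2 : z * z = 1 := by
    rw [← pow_two, ← hz]
    exact pow_orderOf_eq_one z
  have hzc' : ∀ g, g * z = z * g := Subgroup.mem_center_iff.1 hzc
  obtain ⟨hneg, hfix⟩ := central_neg ρ hρ hstab z hz1 hz2 hzc'
  have hI : ∀ t : G, orderOf t = 2 ∧ t ∉ Subgroup.center G → t ≠ 1 ∧ t * t = 1 ∧ t ≠ z := by
    rintro t ⟨ht, htc⟩
    refine ⟨?_, ?_, ?_⟩
    · intro h
      rw [h, orderOf_one] at ht
      omega
    · rw [← pow_two, ← ht]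
      exact pow_orderOf_eq_one t
    · intro h
      exact htc (h ▸ hzc)
  have hexI : ∀ v : V, v ≠ 0 →
      ∃ t : G, (orderOf t = 2 ∧ t ∉ Subgroup.center G) ∧ ρ t v = v := by
    intro v hv
    obtain ⟨t, ht1, htv, ht2, _⟩ := stab_struct ρ hstab v hv
    refine ⟨t, ⟨orderOf_eq_prime (by rw [pow_two]; exact ht2) ht1, ?_⟩, htv⟩
    intro htc
    have h0 := (central_neg ρ hρ hstab t ht1 ht2 (Subgroup.mem_center_iff.1 htc)).2 v htv
    exact hv h0
  obtain ⟨v0, hv0⟩ := exists_ne (0 : V)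
  obtain ⟨t0, ht0I, _⟩ := hexI v0 hv0
  obtain ⟨ht01, ht02, ht0z⟩ := hI t0 ht0I
  have hn := two_mul_finrank ρ hρ hstab z hz1 hz2 hzc' t0 ht01 ht02 ht0z
  obtain ⟨r, hr⟩ : ∃ r, r = finrank (ZMod q) (Fx ρ t0) := ⟨_, rfl⟩
  rw [← hr] at hn
  have hcardV : Nat.card V = q ^ (2 * r) := by
    rw [Module.natCard_eq_pow_finrank (K := ZMod q) (V := V), Nat.card_zmod, ← hn]
  have hcardFx : ∀ t : G, orderOf t = 2 ∧ t ∉ Subgroup.center G →
      Nat.card (Fx ρ t) = q ^ r := by
    intro t ht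
    obtain ⟨h1, h2, h3⟩ := hI t ht
    have h4 := two_mul_finrank ρ hρ hstab z hz1 hz2 hzc' t h1 h2 h3
    rw [Module.natCard_eq_pow_finrank (K := ZMod q), Nat.card_zmod]
    congr 1
    omega
  refine ⟨r, hcardV, ?_⟩
  let Ψ : (Σ t : {g : G // orderOf g = 2 ∧ g ∉ Subgroup.center G}, {x : Fx ρ t.1 // x ≠ 0}) →
      {v : V // v ≠ 0} :=
    fun p => ⟨(p.2.1 : V), fun h => p.2.2 (Subtype.ext h)⟩
  have hΨ : Function.Bijective Ψ := by
    constructor
    · rintro ⟨⟨t, ht⟩, ⟨⟨x, hx⟩, hx0⟩⟩ ⟨⟨t', ht'⟩, ⟨⟨x', hx'⟩, hx0'⟩⟩ h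
      have hxx : x = x' := congrArg Subtype.val h
      subst hxx
      have hxne : x ≠ 0 := fun h0 => hx0 (Subtype.ext h0)
      obtain ⟨s, _, _, _, hsu⟩ := stab_struct ρ hstab x hxne
      have e1 := (hsu t ((mem_Fx ρ t x).1 hx)).resolve_left (hI t ht).1
      have e2 := (hsu t' ((mem_Fx ρ t' x).1 hx')).resolve_left (hI t' ht').1
      have htt : t = t' := e1.trans e2.symm
      subst htt
      rfl
    · rintro ⟨v, hv⟩
      obtain ⟨t, htI, htv⟩ := hexI v hv
      exact ⟨⟨⟨t, htI⟩, ⟨⟨v, (mem_Fx ρ t v).2 htv⟩, fun h => hv (congrArg Subtype.val h)⟩⟩, rfl⟩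
  have hcount := Nat.card_eq_of_bijective Ψ hΨ
  haveI : Fintype {g : G // orderOf g = 2 ∧ g ∉ Subgroup.center G} := Fintype.ofFinite _
  rw [Nat.card_sigma, card_ne (0 : V), hcardV] at hcount
  have hfib : ∀ t : {g : G // orderOf g = 2 ∧ g ∉ Subgroup.center G},
      Nat.card {x : Fx ρ t.1 // x ≠ 0} = q ^ r - 1 := by
    intro t
    rw [card_ne, hcardFx t.1 t.2]
  simp only [hfib, Finset.sum_const, Finset.card_univ, smul_eq_mul] at hcount
  rw [← Nat.card_eq_fintype_card] at hcount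
  have hr1 : r ≠ 0 := by
    intro h0
    have hpos : 0 < finrank (ZMod q) V := Module.finrank_pos
    omega
  have hq1 : 1 < q := (Fact.out : q.Prime).one_lt
  have hx2 : 1 < q ^ r := Nat.one_lt_pow hr1 hq1
  rw [pow_mul'] at hcount
  obtain ⟨y, hy⟩ : ∃ y, q ^ r = y + 2 := ⟨q ^ r - 2, by omega⟩
  rw [hy] at hcount ⊢
  have h1 : (y + 2) ^ 2 - 1 = (y + 2 + 1) * (y + 2 - 1) := by
    have h2 : (y + 2) ^ 2 = (y + 2 + 1) * (y + 2 - 1) + 1 := by
      have h3 : y + 2 - 1 = y + 1 := by omega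
      rw [h3]
      ring
    omega
  rw [h1] at hcount
  exact Nat.eq_of_mul_eq_mul_right (by omega) hcount

end Cfsg.Agent.S3381
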