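import Cfsg.Statements.S3383
import Mathlib

set_option autoImplicit false
open Cfsg

namespace Cfsg.Agent.S3383

open scoped Pointwise

theorem mem_conj_smul {L : Type*} [Group L] (H : Subgroup L) (g x : L) :
    x ∈ MulAut.conj g • H ↔ g⁻¹ * x * g ∈ H := by
  rw [Subgroup.mem_pointwise_smul_iff_inv_smul_mem, MulAut.smul_def, MulAut.conj_inv_apply]

theorem frob_kernel_normal {L : Type*} [Group L]
    (H : Subgroup L)
    (K : Subgroup L) (hK : (K : Set L) = Cfsg.frobeniusKernel H) : K.Normal := by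
  have hKmem : ∀ x, x ∈ K ↔ (x = 1 ∨ ∀ g : L, x ∉ MulAut.conj g • H) := by
    intro x
    have : x ∈ (K : Set L) ↔ x ∈ Cfsg.frobeniusKernel H := by rw [hK]
    exact this
  constructor
  intro x hx y
  rw [hKmem] at hx ⊢
  rcases hx with rfl | hx
  · left; group
  · right
    intro g hg
    apply hx (y⁻¹ * g)
    rw [mem_conj_smul] at hg ⊢
    have : (y⁻¹ * g)⁻¹ * x * (y⁻¹ * g) = g⁻¹ * (y * x * y⁻¹) * g := by group
    rw [this]; exact hg

theorem frob_kernel_le {L : Type*} [Group L] [Finite L]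
    (H : Subgroup L) (hH : Cfsg.IsFrobeniusComplement H)
    (K : Subgroup L) (hK : (K : Set L) = Cfsg.frobeniusKernel H)
    (N : Subgroup L) (hN : N.Normal) : K ≤ N ∨ N ≤ K := by
  have hKmem : ∀ x, x ∈ K ↔ (x = 1 ∨ ∀ g : L, x ∉ MulAut.conj g • H) := by
    intro x
    have : x ∈ (K : Set L) ↔ x ∈ Cfsg.frobeniusKernel H := by rw [hK]
    exact this
  have hKn : K.Normal := frob_kernel_normal H K hK
  by_cases hNK : N ≤ K
  · right; exact hNK
  left
  rw [SetLike.not_le_iff_exists] at hNK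
  obtain ⟨x, hxN, hxK⟩ := hNK
  rw [hKmem] at hxK
  push Not at hxK
  obtain ⟨hx1, g, hg⟩ := hxK
  rw [mem_conj_smul] at hg
  set h := g⁻¹ * x * g with hh
  have hhN : h ∈ N := by
    have := hN.conj_mem x hxN g⁻¹
    rwa [inv_inv] at this
  have hh1 : h ≠ 1 := by
    intro h1
    apply hx1
    have : x = g * h * g⁻¹ := by rw [hh]; group
    rw [this, h1]; group
  -- the map k ↦ k⁻¹ * h * k * h⁻¹ on K
  let f : K → K := fun k => ⟨(k : L)⁻¹ * (h * k * h⁻¹), K.mul_mem (K.inv_mem k.2) (hKn.conj_mem k k.2 h)⟩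
  have hf : Function.Injective f := by
    intro k₁ k₂ hk
    have hk' : (k₁ : L)⁻¹ * (h * k₁ * h⁻¹) = (k₂ : L)⁻¹ * (h * k₂ * h⁻¹) := congrArg Subtype.val hk
    set c : L := k₂ * (k₁ : L)⁻¹ with hc
    have hcK : c ∈ K := K.mul_mem k₂.2 (K.inv_mem k₁.2)
    have hcomm : c⁻¹ * h * c = h := by
      have e1 : (k₁ : L)⁻¹ * h * k₁ = (k₂ : L)⁻¹ * h * k₂ := by
        have := congrArg (fun z => z * h) hk'
        simpa [mul_assoc] using this
      have e2 : c⁻¹ * h * c = (k₁ : L) * ((k₂ : L)⁻¹ * h * k₂) * (k₁ : L)⁻¹ := by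
        rw [hc]; group
      rw [e2, ← e1]; group
    have hcH : c ∈ H := by
      by_contra hcon
      have hbot := hH.2.2 c hcon
      have : h ∈ H ⊓ MulAut.conj c • H := by
        refine Subgroup.mem_inf.mpr ⟨hg, ?_⟩
        rw [mem_conj_smul, hcomm]; exact hg
      rw [hbot, Subgroup.mem_bot] at this
      exact hh1 this
    have hc1 : c = 1 := by
      rcases (hKmem c).mp hcK with h1 | h1
      · exact h1
      · exfalso
        apply h1 1
        rw [mem_conj_smul]
        simpa using hcH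
    apply Subtype.ext
    have : (k₂ : L) = c * k₁ := by rw [hc]; group
    rw [this, hc1, one_mul]
  have hsurj : Function.Surjective f := Finite.surjective_of_injective hf
  intro k hk
  obtain ⟨k', hk'⟩ := hsurj ⟨k, hk⟩
  have : k = (k' : L)⁻¹ * (h * k' * h⁻¹) := (congrArg Subtype.val hk').symm
  rw [this]
  have e : (k' : L)⁻¹ * (h * k' * h⁻¹) = ((k' : L)⁻¹ * h * (k' : L)⁻¹⁻¹) * h⁻¹ := by group
  rw [e]
  exact N.mul_mem (hN.conj_mem h hhN _) (N.inv_mem hhN)


/-- Let H be a Frobenius complement in a finite group L and K the Frobenius kernel (as a subgroup). Then K is characteristic in L, and every normal subgroup of L either contains K or is contained in K. -/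
theorem result {L : Type*} [Group L] [Finite L]
    (H : Subgroup L) (hH : Cfsg.IsFrobeniusComplement H)
    (K : Subgroup L) (hK : (K : Set L) = Cfsg.frobeniusKernel H) :
    K.Characteristic ∧ ∀ N : Subgroup L, N.Normal → K ≤ N ∨ N ≤ K := by
  refine ⟨?_, fun N hN => frob_kernel_le H hH K hK N hN⟩
  rw [Subgroup.characteristic_iff_map_le]
  intro φ
  have hcard : Nat.card (K.map φ.toMonoidHom) = Nat.card K :=
    (Nat.card_congr (K.equivMapOfInjective φ.toMonoidHom φ.injective).toEquiv).symm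
  have hn : (K.map φ.toMonoidHom).Normal := by
    have hKn : K.Normal := frob_kernel_normal H K hK
    exact hKn.map φ.toMonoidHom φ.surjective
  rcases frob_kernel_le H hH K hK _ hn with h | h
  · exact (Subgroup.eq_of_le_of_card_ge h (le_of_eq hcard)).symm.le
  · exact h

end Cfsg.Agent.S3383
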