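import Mathlib
import Cfsg.Statements.S3389
import Cfsg.Agent.Lib.Helper7.PGroupNormalizer
import Cfsg.Agent.Lib.Helper7.Conj
import Cfsg.Agent.Lib.Helper9.SylowConj

set_option autoImplicit false
open Cfsg

namespace Cfsg.Agent.S3389

open Cfsg.Agent.Lib.Helper7

theorem card_dvd_of_free {Z X : Type*} [Group Z] [MulAction Z X] [Finite Z] [Finite X]
    (hfree : ∀ (z : Z) (x : X), z • x = x → z = 1) : Nat.card Z ∣ Nat.card X := by
  classical
  haveI : Fintype (MulAction.orbitRel.Quotient Z X) := Fintype.ofFinite _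
  rw [Nat.card_congr (MulAction.selfEquivSigmaOrbitsQuotientStabilizer Z X), Nat.card_sigma]
  apply Finset.dvd_sum
  intro ω _
  have : MulAction.stabilizer Z (Quotient.out ω) = ⊥ := by
    ext z
    rw [MulAction.mem_stabilizer_iff, Subgroup.mem_bot]
    exact ⟨hfree z _, fun h => by rw [h, one_smul]⟩
  rw [this, ← Subgroup.index_eq_card, Subgroup.index_bot]

theorem pow_smul_fixed {G Ω : Type*} [Group G] [MulAction G Ω] {g : G} {ω : Ω} (h : g • ω = ω)
    (n : ℕ) : g ^ n • ω = ω := by
  induction n with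
  | zero => simp
  | succ n ih => rw [pow_succ, mul_smul, h, ih]

/-- Let a finite group G act faithfully and transitively on a finite set Ω with fixity k ≥ 1: every non-identity element fixes at most k points and some non-identity element fixes exactly k points. Then |Z(G)| divides k; if k = 2 then |G| is even; and for every prime p > k dividing |G| and every point α, either p does not divide |G_α| or G_α contains a Sylow p-subgroup of G. -/
theorem result {G : Type*} [Group G] [Finite G] {Ω : Type*} [Fintype Ω] [MulAction G Ω] [FaithfulSMul G Ω]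
    (htr : MulAction.IsPretransitive G Ω) (k : ℕ) (hk : 1 ≤ k)
    (hfix : ∀ g : G, g ≠ 1 → Nat.card (MulAction.fixedBy Ω g) ≤ k) (hex : ∃ g : G, g ≠ 1 ∧ Nat.card (MulAction.fixedBy Ω g) = k) :
    Nat.card (Subgroup.center G) ∣ k ∧ (k = 2 → 2 ∣ Nat.card G) ∧
      ∀ (p : ℕ), p.Prime → k < p → p ∣ Nat.card G → ∀ α : Ω,
        ¬ p ∣ Nat.card (MulAction.stabilizer G α) ∨ ¬ p ∣ (MulAction.stabilizer G α).index := by
  classical
  refine ⟨?_, ?_, ?_⟩
  · -- part 1
    obtain ⟨g, hg1, hgk⟩ := hex
    let Fz : SubMulAction (Subgroup.center G) Ω :=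
      { carrier := MulAction.fixedBy Ω g
        smul_mem' := by
          intro z ω hω
          rw [MulAction.mem_fixedBy] at hω ⊢
          rw [Subgroup.smul_def, ← mul_smul, Subgroup.mem_center_iff.1 z.2 g, mul_smul, hω] }
    have hcard : Nat.card Fz = k := hgk
    rw [← hcard]
    apply card_dvd_of_free
    intro z x hzx
    have hzx' : (z : G) • (x : Ω) = x := congrArg Subtype.val hzx
    have hall : ∀ ω' : Ω, (z : G) • ω' = (1 : G) • ω' := by
      intro ω'
      obtain ⟨h, rfl⟩ := MulAction.exists_smul_eq G (x : Ω) ω'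
      rw [one_smul, ← mul_smul, ← Subgroup.mem_center_iff.1 z.2 h, mul_smul, hzx']
    have := FaithfulSMul.eq_of_smul_eq_smul hall
    exact Subtype.ext this
  · -- part 2
    intro hk2
    subst hk2
    by_contra hodd
    obtain ⟨g, hg1, hgk⟩ := hex
    have hn1 : orderOf g ≠ 1 := by rwa [Ne, orderOf_eq_one_iff]
    set p := (orderOf g).minFac with hp
    have hpp : p.Prime := Nat.minFac_prime hn1
    haveI : Fact p.Prime := ⟨hpp⟩
    have hpn : p ∣ orderOf g := Nat.minFac_dvd _
    set x := g ^ (orderOf g / p) with hx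
    have hxo : orderOf x = p := orderOf_pow_orderOf_div (orderOf_pos g).ne' hpn
    have hx1 : x ≠ 1 := by
      intro h
      rw [h, orderOf_one] at hxo
      exact hpp.one_lt.ne hxo
    have hpG : p ∣ Nat.card G := hpn.trans (orderOf_dvd_natCard g)
    have hp2 : p ≠ 2 := fun h => hodd (h ▸ hpG)
    have hp3 : 3 ≤ p := by have := hpp.two_le; omega
    have hsub : MulAction.fixedBy Ω g ⊆ MulAction.fixedBy Ω x := by
      intro ω hω
      rw [MulAction.mem_fixedBy] at hω ⊢
      exact pow_smul_fixed hω _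
    have hFx : MulAction.fixedBy Ω g = MulAction.fixedBy Ω x := by
      apply Set.eq_of_subset_of_ncard_le hsub
      rw [← Nat.card_coe_set_eq, ← Nat.card_coe_set_eq, hgk]
      exact hfix x hx1
    have hzp : IsPGroup p (Subgroup.zpowers x) := by
      apply IsPGroup.of_card (n := 1)
      rw [Nat.card_zpowers, hxo, pow_one]
    obtain ⟨P, hP⟩ := hzp.exists_le_sylow
    have hxP : x ∈ (P : Subgroup G) := hP (Subgroup.mem_zpowers x)
    have hmod1 := P.isPGroup'.card_modEq_card_fixedPoints Ω
    have hmod2 := hzp.card_modEq_card_fixedPoints Ω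
    have hfz : MulAction.fixedPoints (Subgroup.zpowers x) Ω = MulAction.fixedBy Ω x := by
      ext ω
      rw [MulAction.mem_fixedPoints, MulAction.mem_fixedBy]
      constructor
      · intro h
        exact h ⟨x, Subgroup.mem_zpowers x⟩
      · rintro h ⟨z, hz⟩
        obtain ⟨j, rfl⟩ := Subgroup.mem_zpowers_iff.1 hz
        exact MulAction.mem_fixedBy_zpow (MulAction.mem_fixedBy.2 h) j
    rw [hfz, ← hFx, hgk] at hmod2
    have hPsub : MulAction.fixedPoints (P : Subgroup G) Ω ⊆ MulAction.fixedBy Ω g := by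
      rw [hFx]
      intro ω hω
      rw [MulAction.mem_fixedPoints] at hω
      exact hω ⟨x, hxP⟩
    have hle2 : Nat.card (MulAction.fixedPoints (P : Subgroup G) Ω) ≤ 2 := by
      rw [← hgk]
      exact Nat.card_mono (Set.toFinite _) hPsub
    have hc2 : Nat.card (MulAction.fixedPoints (P : Subgroup G) Ω) = 2 := by
      have h3 : Nat.card (MulAction.fixedPoints (P : Subgroup G) Ω) ≡ 2 [MOD p] :=
        hmod1.symm.trans hmod2
      unfold Nat.ModEq at h3
      rw [Nat.mod_eq_of_lt (by omega), Nat.mod_eq_of_lt (by omega)] at h3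
      exact h3
    have hPF : MulAction.fixedPoints (P : Subgroup G) Ω = MulAction.fixedBy Ω g := by
      apply Set.eq_of_subset_of_ncard_le hPsub
      rw [← Nat.card_coe_set_eq, ← Nat.card_coe_set_eq, hgk, hc2]
    have hF2 : (MulAction.fixedBy Ω g).ncard = 2 := by rw [← Nat.card_coe_set_eq, hgk]
    obtain ⟨α, β, hαβ, hF⟩ := Set.ncard_eq_two.1 hF2
    have hPfix : ∀ ω ∈ ({α, β} : Set Ω), ∀ y ∈ (P : Subgroup G), y • ω = ω := by
      intro ω hω y hy
      rw [← hF, ← hPF, MulAction.mem_fixedPoints] at hω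
      exact hω ⟨y, hy⟩
    have hα : ∀ y ∈ (P : Subgroup G), y • α = α := hPfix α (by simp)
    have hβ : ∀ y ∈ (P : Subgroup G), y • β = β := hPfix β (by simp)
    obtain ⟨h, hh⟩ := MulAction.exists_smul_eq G α β
    have hh' : h⁻¹ • β = α := inv_smul_eq_iff.2 hh.symm
    set M := MulAction.stabilizer G β with hM
    have hPM : (P : Subgroup G) ≤ M := fun y hy => MulAction.mem_stabilizer_iff.2 (hβ y hy)
    set K := (P : Subgroup G).map (MulAut.conj h).toMonoidHom with hK
    have hKM : K ≤ M := by
      rintro _ ⟨y, hy, rfl⟩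
      rw [MulAction.mem_stabilizer_iff]
      simp only [MulEquiv.coe_toMonoidHom, MulAut.conj_apply]
      rw [mul_smul, mul_smul, hh', hα y hy, hh]
    have hKp : IsPGroup p K := P.isPGroup'.map _
    have hR : Nat.card (P : Subgroup G) = p ^ (Nat.card M).factorization p := by
      apply Cfsg.Agent.Lib.Helper9.sylow_card_of_le p hPM (le_top : M ≤ ⊤)
      rw [Subgroup.card_top]
      exact P.card_eq_multiplicity
    obtain ⟨m, hmM, hm⟩ := Cfsg.Agent.Lib.Helper9.exists_conj_le_of_sylow_card p hPM hKM hKp hR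
    set nn := m * h with hnn
    have hmapP : (P : Subgroup G).map (MulAut.conj nn).toMonoidHom = P := by
      have hle : (P : Subgroup G).map (MulAut.conj nn).toMonoidHom ≤ P := by
        rw [hnn, map_conj_mul]; exact hm
      apply Subgroup.eq_of_le_of_card_ge hle
      rw [card_map_conj]
    have hnnα : nn • α = β := by
      rw [hnn, mul_smul, hh]
      exact MulAction.mem_stabilizer_iff.1 hmM
    have hnnβ : nn • β ∈ ({α, β} : Set Ω) := by
      rw [← hF, ← hPF, MulAction.mem_fixedPoints]
      rintro ⟨y, hy⟩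
      show y • nn • β = nn • β
      have hc : nn⁻¹ * y * nn ∈ (P : Subgroup G) := by
        have : y ∈ (P : Subgroup G).map (MulAut.conj nn).toMonoidHom := by rw [hmapP]; exact hy
        exact (mem_map_conj _ _ _).1 this
      have h1 := hβ _ hc
      calc y • nn • β = nn • (nn⁻¹ * y * nn) • β := by simp [mul_smul]
        _ = nn • β := by rw [h1]
    have hnnβ' : nn • β = α := by
      rcases hnnβ with h1 | h1
      · exact h1
      · exfalso
        have h2 : nn • β = nn • α := by rw [hnnα]; exact h1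
        exact hαβ (smul_left_cancel nn h2).symm
    have hsq : (nn * nn) • α = α := by rw [mul_smul, hnnα, hnnβ']
    have hoddn : ¬ 2 ∣ orderOf nn := fun h2 => hodd (h2.trans (orderOf_dvd_natCard nn))
    obtain ⟨j, hj⟩ : ∃ j, orderOf nn = 2 * j + 1 := by
      have := Nat.odd_iff.2 (Nat.two_dvd_ne_zero.1 hoddn)
      exact this
    have hpow : nn = (nn * nn) ^ (j + 1) := by
      have h1 : nn ^ (2 * j + 1) = 1 := by rw [← hj]; exact pow_orderOf_eq_one nn
      calc nn = nn ^ (2 * j + 1) * nn := by rw [h1, one_mul]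
        _ = (nn * nn) ^ (j + 1) := by
          rw [← pow_two, ← pow_mul, ← pow_succ]
          congr 1
    have : nn • α = α := by
      rw [hpow]
      exact pow_smul_fixed hsq _
    rw [hnnα] at this
    exact hαβ this.symm
  · -- part 3
    intro p hp hkp hpG α
    by_contra hcon
    push Not at hcon
    obtain ⟨h1, h2⟩ := hcon
    haveI : Fact p.Prime := ⟨hp⟩
    set M := MulAction.stabilizer G α with hM
    obtain ⟨P₀'⟩ : Nonempty (Sylow p M) := inferInstance
    set P₀ : Subgroup G := (P₀' : Subgroup M).map M.subtype with hP₀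
    have hP₀M : P₀ ≤ M := by
      rintro _ ⟨y, _, rfl⟩
      exact y.2
    have hP₀p : IsPGroup p P₀ := P₀'.isPGroup'.map _
    have hP₀card : Nat.card P₀ = p ^ (Nat.card M).factorization p := by
      rw [← Sylow.card_eq_multiplicity P₀']
      exact (Nat.card_congr ((P₀' : Subgroup M).equivMapOfInjective M.subtype
        M.subtype_injective).toEquiv).symm
    have ha1 : 1 ≤ (Nat.card M).factorization p :=
      hp.factorization_pos_of_dvd Nat.card_pos.ne' h1
    have hP₀ne : P₀ ≠ ⊥ := by
      intro h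
      rw [h, Subgroup.card_bot] at hP₀card
      have : 1 < p ^ (Nat.card M).factorization p :=
        Nat.one_lt_pow (by omega) hp.one_lt
      omega
    obtain ⟨⟨y₀, hy₀⟩, hy₀1⟩ := (Subgroup.ne_bot_iff_exists_ne_one).1 hP₀ne
    have hy₀1' : y₀ ≠ 1 := fun h => hy₀1 (Subtype.ext h)
    obtain ⟨Q, hQ⟩ := hP₀p.exists_le_sylow
    have hPQ : P₀ = Q := by
      by_contra hne
      have hlt : P₀ < Q := lt_of_le_of_ne hQ hne
      obtain ⟨y, hyQ, hyN, hyP⟩ :=
        exists_mem_normalizer_not_mem (Q : Subgroup G) P₀ Q.isPGroup' hlt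
      have hzp : IsPGroup p (Subgroup.zpowers y) :=
        Q.isPGroup'.to_le (Subgroup.zpowers_le.2 hyQ)
      obtain ⟨n, hn⟩ := hzp.card_orbit α
      have hsub : MulAction.orbit (Subgroup.zpowers y) α ⊆ MulAction.fixedBy Ω y₀ := by
        rintro _ ⟨⟨z, hz⟩, rfl⟩
        have hzN : z ∈ Subgroup.normalizer (P₀ : Set G) := (Subgroup.zpowers_le.2 hyN) hz
        have hzN' : z⁻¹ ∈ Subgroup.normalizer (P₀ : Set G) := Subgroup.inv_mem _ hzN
        rw [MulAction.mem_fixedBy]
        show y₀ • (z • α) = z • α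
        have hc : z⁻¹ * y₀ * z ∈ P₀ := by
          have := (Subgroup.mem_normalizer_iff.1 hzN' y₀).1 hy₀
          rwa [inv_inv] at this
        have h3 : (z⁻¹ * y₀ * z) • α = α := MulAction.mem_stabilizer_iff.1 (hP₀M hc)
        calc y₀ • z • α = z • (z⁻¹ * y₀ * z) • α := by simp [mul_smul]
          _ = z • α := by rw [h3]
      have hle : Nat.card (MulAction.orbit (Subgroup.zpowers y) α) ≤ k :=
        (Nat.card_mono (Set.toFinite _) hsub).trans (hfix y₀ hy₀1')
      have hn0 : n = 0 := by
        by_contra hne0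
        have : p ≤ p ^ n := by
          calc p = p ^ 1 := (pow_one p).symm
            _ ≤ p ^ n := Nat.pow_le_pow_right hp.pos (by omega)
        omega
      rw [hn0, pow_zero] at hn
      haveI : Subsingleton (MulAction.orbit (Subgroup.zpowers y) α) :=
        (Finite.card_le_one_iff_subsingleton).1 hn.le
      have hyα : y • α = α := by
        have := Subsingleton.elim
          (⟨y • α, ⟨⟨y, Subgroup.mem_zpowers y⟩, rfl⟩⟩ : MulAction.orbit (Subgroup.zpowers y) α)
          ⟨α, MulAction.mem_orbit_self α⟩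
        exact congrArg Subtype.val this
      have hyM : y ∈ M := MulAction.mem_stabilizer_iff.2 hyα
      have hP₁ : IsPGroup p ↥(P₀ ⊔ Subgroup.zpowers y) :=
        Q.isPGroup'.to_le (sup_le hQ (Subgroup.zpowers_le.2 hyQ))
      have hP₁M : P₀ ⊔ Subgroup.zpowers y ≤ M := sup_le hP₀M (Subgroup.zpowers_le.2 hyM)
      have hc1 := Cfsg.Agent.Lib.Helper9.card_le_of_isPGroup_le p hP₁ hP₁M
      rw [← hP₀card] at hc1
      have heq := Subgroup.eq_of_le_of_card_ge (le_sup_left : P₀ ≤ P₀ ⊔ Subgroup.zpowers y) hc1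
      apply hyP
      rw [heq]
      exact Subgroup.mem_sup_right (Subgroup.mem_zpowers y)
    have hcardQ : Nat.card P₀ = p ^ (Nat.card G).factorization p := by
      rw [hPQ]; exact Q.card_eq_multiplicity
    rw [hP₀card] at hcardQ
    have hexp := Nat.pow_right_injective hp.two_le hcardQ
    have hidx : M.index * Nat.card M = Nat.card G := Subgroup.index_mul_card M
    have hi0 : M.index ≠ 0 := Subgroup.index_ne_zero_of_finite
    have hf := Nat.factorization_mul hi0 (Nat.card_pos (α := M)).ne'
    rw [hidx] at hf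
    have hf' := congrArg (fun f => f p) hf
    simp only [Finsupp.coe_add, Pi.add_apply] at hf'
    have hi1 : 1 ≤ M.index.factorization p := hp.factorization_pos_of_dvd hi0 h2
    omega

end Cfsg.Agent.S3389
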