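import Cfsg.Statements.S3444
import Mathlib
import Cfsg.Agent.Lib.Helper6.Isospectral

set_option autoImplicit false
open Cfsg

namespace Cfsg.Agent.S3444

universe u

open scoped commutatorElement

theorem exists_abelian_normal {G : Type u} [Group G] [Finite G] :
    ∀ (K : Subgroup G), K.Normal → K ≠ ⊥ → Group.IsSolvable K →
      ∃ M : Subgroup G, M.Normal ∧ M ≠ ⊥ ∧ ∀ x ∈ M, ∀ y ∈ M, x * y = y * x := by
  intro K
  induction K using WellFoundedLT.induction with
  | ind K ih =>
    intro hKn hK hs
    by_cases hc : ⁅K, K⁆ = ⊥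
    · refine ⟨K, hKn, hK, ?_⟩
      intro x hx y hy
      have : ⁅x, y⁆ ∈ ⁅K, K⁆ := Subgroup.commutator_mem_commutator hx hy
      rw [hc, Subgroup.mem_bot] at this
      exact (commutatorElement_eq_one_iff_mul_comm.mp this)
    · have hle : ⁅K, K⁆ ≤ K := Subgroup.commutator_le_right K K
      have hlt : ⁅K, K⁆ < K := by
        refine lt_of_le_of_ne hle ?_
        intro heq
        have : Nontrivial K := by
          rw [Subgroup.nontrivial_iff_ne_bot]; exact hK
        have h1 := Group.IsSolvable.commutator_lt_top_of_nontrivial K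
        have h2 : (commutator K).map K.subtype = (⊤ : Subgroup K).map K.subtype := by
          rw [Subgroup.map_subtype_commutator, heq, ← MonoidHom.range_eq_map, Subgroup.range_subtype]
        have h3 := Subgroup.map_injective K.subtype_injective h2
        exact (ne_of_lt h1) h3
      have := hKn
      have hn : (⁅K, K⁆).Normal := Subgroup.commutator_normal K K
      have hs' : Group.IsSolvable ↥(⁅K, K⁆) :=
        Group.isSolvable_of_isSolvable_injective (f := Subgroup.inclusion hle) (Subgroup.inclusion_injective hle)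
      exact ih _ hlt hn hc hs'

theorem exists_exp_p_normal {G : Type u} [Group G] [Finite G] (K : Subgroup G) [hKn : K.Normal]
    (hK : K ≠ ⊥) (hs : Group.IsSolvable K) :
    ∃ (p : ℕ) (V : Subgroup G), p.Prime ∧ V.Normal ∧ V ≠ ⊥ ∧ ∀ x : V, x ^ p = 1 := by
  obtain ⟨M, hMn, hM, hMc⟩ := exists_abelian_normal K hKn hK hs
  have : Nontrivial M := by
    rw [Subgroup.nontrivial_iff_ne_bot]; exact hM
  have hcard : Nat.card M ≠ 1 := by
    intro h
    have := (Nat.card_eq_one_iff_unique.mp h).1
    exact not_subsingleton M this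
  obtain ⟨p, hp, hpd⟩ := Nat.exists_prime_and_dvd hcard
  have : Fact p.Prime := ⟨hp⟩
  have : Fintype M := Fintype.ofFinite M
  rw [Nat.card_eq_fintype_card] at hpd
  obtain ⟨x, hx⟩ := exists_prime_orderOf_dvd_card p hpd
  let V : Subgroup G :=
    { carrier := {g | g ∈ M ∧ g ^ p = 1}
      one_mem' := ⟨M.one_mem, one_pow p⟩
      mul_mem' := by
        rintro a b ⟨ha, ha'⟩ ⟨hb, hb'⟩
        refine ⟨M.mul_mem ha hb, ?_⟩
        have hcomm : Commute a b := hMc a ha b hb
        rw [hcomm.mul_pow, ha', hb', one_mul]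
      inv_mem' := by
        rintro a ⟨ha, ha'⟩
        exact ⟨M.inv_mem ha, by rw [inv_pow, ha', inv_one]⟩ }
  refine ⟨p, V, hp, ?_, ?_, ?_⟩
  · constructor
    intro n hn g
    refine ⟨hMn.conj_mem n hn.1 g, ?_⟩
    rw [conj_pow, hn.2]
    simp
  · intro hV
    have hxV : (x : G) ∈ V := by
      refine ⟨x.2, ?_⟩
      have := pow_orderOf_eq_one x
      rw [hx] at this
      have h2 := congrArg Subtype.val this
      simpa using h2
    rw [hV, Subgroup.mem_bot] at hxV
    have : x = 1 := by ext; simpa using hxV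
    rw [this, orderOf_one] at hx
    exact hp.one_lt.ne hx
  · rintro ⟨v, hv⟩
    ext
    simpa using hv.2

theorem iterate_semidirect : ∀ (k : ℕ) (G : Type u) [Group G] [Finite G] (p : ℕ) (V : Subgroup G)
    [V.Normal], p.Prime → V ≠ ⊥ → (∀ x : V, x ^ p = 1) →
    ∃ (H : Type u) (_ : Group H) (_ : Finite H), Nat.card G * 2 ^ k ≤ Nat.card H ∧
      Set.range (orderOf : H → ℕ) = Set.range (orderOf : G → ℕ) := by
  intro k
  induction k with
  | zero =>
    intro G _ _ p V _ hp hV hexp
    exact ⟨G, inferInstance, inferInstance, by simp, rfl⟩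
  | succ k ih =>
    intro G _ _ p V _ hp hV hexp
    have : Finite (V ⋊[MulAut.conjNormal] G) :=
      Finite.of_equiv _ (SemidirectProduct.equivProd (φ := (MulAut.conjNormal : G →* MulAut V))).symm
    have hspec := Cfsg.Agent.Lib.Helper6.semidirect_isospectral V p hp hexp
    let V' : Subgroup (V ⋊[MulAut.conjNormal] G) :=
      (SemidirectProduct.inl : V →* V ⋊[MulAut.conjNormal] G).range
    have hV'n : V'.Normal := by
      change ((SemidirectProduct.inl : V →* V ⋊[MulAut.conjNormal] G).range).Normal
      rw [SemidirectProduct.range_inl_eq_ker_rightHom]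
      infer_instance
    have hV'ne : V' ≠ ⊥ := by
      intro h
      apply hV
      rw [Subgroup.eq_bot_iff_forall]
      intro v hv
      have h1 : (SemidirectProduct.inl ⟨v, hv⟩ : V ⋊[MulAut.conjNormal] G) ∈ V' := ⟨_, rfl⟩
      rw [h, Subgroup.mem_bot] at h1
      have h2 : (⟨v, hv⟩ : V) = 1 := by
        apply SemidirectProduct.inl_injective (φ := (MulAut.conjNormal : G →* MulAut V))
        rw [h1, map_one]
      exact congrArg Subtype.val h2
    have hV'exp : ∀ x : V', x ^ p = 1 := by
      rintro ⟨x, w, rfl⟩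
      apply Subtype.ext
      simp only [Subgroup.coe_pow, Subgroup.coe_one]
      rw [← map_pow, hexp w, map_one]
    obtain ⟨H, hHg, hHf, hcard, hHspec⟩ := ih (V ⋊[MulAut.conjNormal] G) p V' hp hV'ne hV'exp
    refine ⟨H, hHg, hHf, ?_, hHspec.trans hspec⟩
    refine le_trans ?_ hcard
    rw [SemidirectProduct.card]
    have hV2 : 2 ≤ Nat.card V := by
      have : Nontrivial V := by
        rw [Subgroup.nontrivial_iff_ne_bot]; exact hV
      exact Finite.one_lt_card
    calc Nat.card G * 2 ^ (k + 1) = 2 * Nat.card G * 2 ^ k := by ring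
      _ ≤ Nat.card V * Nat.card G * 2 ^ k := by gcongr


/-- A finite group with a non-trivial solvable normal subgroup is not determined by its set of element orders, not even up to finitely many possibilities: for every bound N there is a finite group of order greater than N with exactly the same set of element orders. -/
theorem result {G : Type*} [Group G] [Finite G] (K : Subgroup G) [K.Normal] (hK : K ≠ ⊥)
    (hs : Group.IsSolvable K) (N : ℕ) :
    ∃ (H : Type) (_ : Group H) (_ : Fintype H), N < Fintype.card H ∧ Set.range (orderOf : H → ℕ) = Set.range (orderOf : G → ℕ) := by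
  obtain ⟨p, V, hp, hVn, hV, hexp⟩ := exists_exp_p_normal K hK hs
  obtain ⟨H, hHg, hHf, hcard, hspec⟩ := iterate_semidirect N G p V hp hV hexp
  have : Fintype H := Fintype.ofFinite H
  refine ⟨Shrink.{0} H, inferInstance, Fintype.ofEquiv H (equivShrink.{0} H), ?_, ?_⟩
  · have h1 : @Fintype.card (Shrink.{0} H) (Fintype.ofEquiv H (equivShrink.{0} H)) = Nat.card H := by
      rw [Nat.card_eq_fintype_card]
      exact (@Fintype.ofEquiv_card H (Shrink.{0} H) _ (equivShrink.{0} H))
    rw [h1]
    have h2 : N < Nat.card G * 2 ^ N := by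
      have : 0 < Nat.card G := Nat.card_pos
      calc N < 2 ^ N := Nat.lt_two_pow_self
        _ ≤ Nat.card G * 2 ^ N := Nat.le_mul_of_pos_left _ this
    exact lt_of_lt_of_le h2 hcard
  · rw [← hspec]
    ext n
    constructor
    · rintro ⟨x, rfl⟩
      exact ⟨Shrink.mulEquiv x, MulEquiv.orderOf_eq _ x⟩
    · rintro ⟨x, rfl⟩
      exact ⟨Shrink.mulEquiv.symm x, MulEquiv.orderOf_eq _ x⟩

end Cfsg.Agent.S3444
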