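import Cfsg.Statements.S3448
import Mathlib
import Cfsg.Agent.Lib.Helper6.SpecA5

set_option autoImplicit false
open Cfsg

namespace Cfsg.Agent.S3448

/-- The set of element orders of the direct product of two copies of the alternating group of degree 5 is {1, 2, 3, 5, 6, 10, 15}. (It is shared by the direct product of two Frobenius groups of orders 50 and 75, so this direct product is not determined by its element orders.) -/
theorem result : Set.range (orderOf : alternatingGroup (Fin 5) × alternatingGroup (Fin 5) → ℕ) = {1, 2, 3, 5, 6, 10, 15} := by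
  ext n
  constructor
  · rintro ⟨⟨a, b⟩, rfl⟩
    rw [Prod.orderOf_mk]
    have ha := Cfsg.Agent.Lib.Helper6.a5_order_mem a
    have hb := Cfsg.Agent.Lib.Helper6.a5_order_mem b
    simp only [Set.mem_insert_iff, Set.mem_singleton_iff] at ha hb
    rcases ha with ha | ha | ha | ha <;> rcases hb with hb | hb | hb | hb <;>
      rw [ha, hb] <;> simp [Nat.lcm]
  · intro hn
    obtain ⟨g2, h2⟩ := Cfsg.Agent.Lib.Helper6.a5_exists_two
    obtain ⟨g3, h3⟩ := Cfsg.Agent.Lib.Helper6.a5_exists_three
    obtain ⟨g5, h5⟩ := Cfsg.Agent.Lib.Helper6.a5_exists_five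
    simp only [Set.mem_insert_iff, Set.mem_singleton_iff] at hn
    rcases hn with rfl | rfl | rfl | rfl | rfl | rfl | rfl
    · exact ⟨(1, 1), by simp [Prod.orderOf_mk]⟩
    · exact ⟨(g2, 1), by simp [Prod.orderOf_mk, h2]⟩
    · exact ⟨(g3, 1), by simp [Prod.orderOf_mk, h3]⟩
    · exact ⟨(g5, 1), by simp [Prod.orderOf_mk, h5]⟩
    · exact ⟨(g2, g3), by simp [Prod.orderOf_mk, h2, h3, Nat.lcm]⟩
    · exact ⟨(g2, g5), by simp [Prod.orderOf_mk, h2, h5, Nat.lcm]⟩
    · exact ⟨(g3, g5), by simp [Prod.orderOf_mk, h3, h5, Nat.lcm]⟩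

end Cfsg.Agent.S3448
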