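import Cfsg.Statements.S3449
import Mathlib
import Cfsg.Agent.Lib.Helper6.SpecA5

set_option autoImplicit false
open Cfsg

namespace Cfsg.Agent.S3449

theorem spec_z30 : Set.range (orderOf : Multiplicative (ZMod 30) → ℕ) = {1, 2, 3, 5, 6, 10, 15, 30} := by
  ext n
  constructor
  · rintro ⟨g, rfl⟩
    have h : orderOf g ∣ 30 := by
      have := orderOf_dvd_natCard g
      simpa using this
    have hle : orderOf g ≤ 30 := Nat.le_of_dvd (by norm_num) h
    generalize orderOf g = m at h hle
    interval_cases m <;> simp_all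
  · intro hn
    have key : ∀ k : ℕ, orderOf (Multiplicative.ofAdd ((k : ℕ) : ZMod 30)) = 30 / Nat.gcd 30 k := by
      intro k
      rw [orderOf_ofAdd_eq_addOrderOf, ZMod.addOrderOf_coe k (by norm_num)]
    simp only [Set.mem_insert_iff, Set.mem_singleton_iff] at hn
    rcases hn with rfl | rfl | rfl | rfl | rfl | rfl | rfl | rfl
    · exact ⟨_, (key 0).trans (by norm_num)⟩
    · exact ⟨_, (key 15).trans (by norm_num)⟩
    · exact ⟨_, (key 10).trans (by norm_num)⟩
    · exact ⟨_, (key 6).trans (by norm_num)⟩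
    · exact ⟨_, (key 5).trans (by norm_num)⟩
    · exact ⟨_, (key 3).trans (by norm_num)⟩
    · exact ⟨_, (key 2).trans (by norm_num)⟩
    · exact ⟨_, (key 1).trans (by norm_num)⟩


/-- The direct product of three copies of the alternating group of degree 5 has exactly the same set of element orders as the cyclic group of order 30, namely the divisors of 30; in particular a direct power of a non-abelian simple group need not be determined by its element orders. -/
theorem result : Set.range (orderOf : alternatingGroup (Fin 5) × alternatingGroup (Fin 5) × alternatingGroup (Fin 5) → ℕ) =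
      Set.range (orderOf : Multiplicative (ZMod 30) → ℕ) := by
  rw [spec_z30]
  ext n
  constructor
  · rintro ⟨⟨a, b, c⟩, rfl⟩
    rw [Prod.orderOf_mk, Prod.orderOf_mk]
    have ha := Cfsg.Agent.Lib.Helper6.a5_order_mem a
    have hb := Cfsg.Agent.Lib.Helper6.a5_order_mem b
    have hc := Cfsg.Agent.Lib.Helper6.a5_order_mem c
    simp only [Set.mem_insert_iff, Set.mem_singleton_iff] at ha hb hc
    rcases ha with ha | ha | ha | ha <;> rcases hb with hb | hb | hb | hb <;>
      rcases hc with hc | hc | hc | hc <;>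
      rw [ha, hb, hc] <;> simp [Nat.lcm]
  · intro hn
    obtain ⟨g2, h2⟩ := Cfsg.Agent.Lib.Helper6.a5_exists_two
    obtain ⟨g3, h3⟩ := Cfsg.Agent.Lib.Helper6.a5_exists_three
    obtain ⟨g5, h5⟩ := Cfsg.Agent.Lib.Helper6.a5_exists_five
    simp only [Set.mem_insert_iff, Set.mem_singleton_iff] at hn
    rcases hn with rfl | rfl | rfl | rfl | rfl | rfl | rfl | rfl
    · exact ⟨(1, 1, 1), by simp [Prod.orderOf_mk]⟩
    · exact ⟨(g2, 1, 1), by simp [Prod.orderOf_mk, h2]⟩
    · exact ⟨(g3, 1, 1), by simp [Prod.orderOf_mk, h3]⟩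
    · exact ⟨(g5, 1, 1), by simp [Prod.orderOf_mk, h5]⟩
    · exact ⟨(g2, g3, 1), by simp [Prod.orderOf_mk, h2, h3, Nat.lcm]⟩
    · exact ⟨(g2, g5, 1), by simp [Prod.orderOf_mk, h2, h5, Nat.lcm]⟩
    · exact ⟨(g3, g5, 1), by simp [Prod.orderOf_mk, h3, h5, Nat.lcm]⟩
    · exact ⟨(g2, g3, g5), by simp [Prod.orderOf_mk, h2, h3, h5, Nat.lcm]⟩

end Cfsg.Agent.S3449
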