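import Cfsg.Statements.S3491
import Mathlib
import Cfsg.Agent.Lib.Helper6.AffineKer
import Cfsg.Agent.S3444

set_option autoImplicit false
open Cfsg

namespace Cfsg.Agent.S3491

/-- The alternating group of degree 6 is not determined by its set of element orders, not even up to finitely many groups: for every bound N there is a finite group of order greater than N with exactly the same set of element orders as the alternating group of degree 6. -/
theorem result (N : ℕ) : ∃ (H : Type) (_ : Group H) (_ : Fintype H), N < Fintype.card H ∧ Set.range (orderOf : H → ℕ) = Set.range (orderOf : alternatingGroup (Fin 6) → ℕ) := by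
  have hfin : Finite (GaloisField 2 2) := inferInstance
  let inst : Fintype (GaloisField 2 2) := Fintype.ofFinite _
  have hF : Fintype.card (GaloisField 2 2) = 4 := by
    rw [← Nat.card_eq_fintype_card, GaloisField.card 2 2 (by norm_num)]; norm_num
  have hspec := Cfsg.Agent.Lib.Helper6.aff_spectrum hF
  have hfinG : Finite (Subgroup.closure (Cfsg.Agent.Lib.Helper6.affSet (GaloisField 2 2))) :=
    inferInstance
  obtain ⟨H, i1, i2, hcard, hs⟩ := Cfsg.Agent.S3444.result
    (G := Subgroup.closure (Cfsg.Agent.Lib.Helper6.affSet (GaloisField 2 2)))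
    (Cfsg.Agent.Lib.Helper6.blockHom (GaloisField 2 2)).ker
    Cfsg.Agent.Lib.Helper6.ker_blockHom_ne_bot Cfsg.Agent.Lib.Helper6.ker_blockHom_solvable N
  refine ⟨H, i1, i2, hcard, ?_⟩
  rw [hs, hspec, Cfsg.Agent.Lib.Helper6.a6_spectrum]

end Cfsg.Agent.S3491
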