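import Mathlib
import Cfsg.Statements.S3494

set_option autoImplicit false
set_option maxHeartbeats 800000
open Cfsg

namespace Cfsg.Agent.S3494

open MulAction

/-- fibres of a twisted-equivariant map are blocks -/
theorem fiber_isBlock {G Ω Y : Type*} [Group G] [MulAction G Ω] (Φ : Ω → Y) (act : G → Y → Y)
    (hinj : ∀ g, Function.Injective (act g)) (hΦ : ∀ g γ, Φ (g • γ) = act g (Φ γ)) (y0 : Y) :
    IsBlock G {γ | Φ γ = y0} := by
  rw [isBlock_iff_smul_eq_of_mem]
  intro g a ha hga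
  simp only [Set.mem_setOf_eq] at ha hga
  have hg0 : act g y0 = y0 := by
    calc act g y0 = act g (Φ a) := by rw [ha]
      _ = Φ (g • a) := (hΦ g a).symm
      _ = y0 := hga
  ext x
  rw [Set.mem_smul_set_iff_inv_smul_mem]
  simp only [Set.mem_setOf_eq]
  have hx : Φ x = act g (Φ (g⁻¹ • x)) := by rw [← hΦ, smul_inv_smul]
  constructor
  · intro h
    rw [hx, h, hg0]
  · intro h
    apply hinj g
    rw [← hx, h, hg0]

/-- the suborbit of `γ` for the orbital of `(α, ω)` -/
def Oset (G : Type*) {Ω : Type*} [Group G] [MulAction G Ω] (α ω γ : Ω) : Set Ω :=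
  {δ | ∃ g : G, g • α = γ ∧ g • ω = δ}

theorem mem_Oset_smul {G Ω : Type*} [Group G] [MulAction G Ω] (α ω γ δ : Ω) (g : G) :
    δ ∈ Oset G α ω γ ↔ g • δ ∈ Oset G α ω (g • γ) := by
  constructor
  · rintro ⟨x, hx1, hx2⟩
    exact ⟨g * x, by rw [mul_smul, hx1], by rw [mul_smul, hx2]⟩
  · rintro ⟨x, hx1, hx2⟩
    refine ⟨g⁻¹ * x, by rw [mul_smul, hx1, inv_smul_smul], by rw [mul_smul, hx2, inv_smul_smul]⟩

theorem mem_Oset_self {G Ω : Type*} [Group G] [MulAction G Ω] (α ω δ : Ω) :
    δ ∈ Oset G α ω α ↔ δ ∈ orbit (stabilizer G α) ω := by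
  constructor
  · rintro ⟨g, hg1, hg2⟩
    exact ⟨⟨g, hg1⟩, hg2⟩
  · rintro ⟨g, hg⟩
    exact ⟨g.1, g.2, hg⟩

/-- pointwise stabiliser of `γ` and its suborbit -/
def Kof (G : Type*) {Ω : Type*} [Group G] [MulAction G Ω] (α ω γ : Ω) : Subgroup G where
  carrier := {x | x • γ = γ ∧ ∀ δ ∈ Oset G α ω γ, x • δ = δ}
  one_mem' := ⟨one_smul _ _, fun δ _ => one_smul _ _⟩
  mul_mem' := by
    rintro a b ⟨ha1, ha2⟩ ⟨hb1, hb2⟩
    refine ⟨by rw [mul_smul, hb1, ha1], fun δ hδ => by rw [mul_smul, hb2 δ hδ, ha2 δ hδ]⟩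
  inv_mem' := by
    rintro a ⟨ha1, ha2⟩
    refine ⟨by rw [inv_smul_eq_iff, ha1], fun δ hδ => by rw [inv_smul_eq_iff, ha2 δ hδ]⟩

theorem Kof_smul {G Ω : Type*} [Group G] [MulAction G Ω] (α ω γ : Ω) (g : G) :
    Kof G α ω (g • γ) = (Kof G α ω γ).map (MulAut.conj g).toMonoidHom := by
  ext x
  rw [Subgroup.mem_map]
  constructor
  · rintro ⟨hx1, hx2⟩
    refine ⟨g⁻¹ * x * g, ⟨?_, ?_⟩, ?_⟩
    · rw [mul_smul, mul_smul, hx1, inv_smul_smul]
    · intro δ hδ
      rw [mul_smul, mul_smul, hx2 (g • δ) ((mem_Oset_smul α ω γ δ g).mp hδ), inv_smul_smul]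
    · simp [MulAut.conj_apply, mul_assoc]
  · rintro ⟨y, ⟨hy1, hy2⟩, rfl⟩
    simp only [MulEquiv.coe_toMonoidHom, MulAut.conj_apply]
    refine ⟨?_, ?_⟩
    · rw [mul_smul, mul_smul, inv_smul_smul, hy1]
    · intro δ hδ
      have : g⁻¹ • δ ∈ Oset G α ω γ := by
        rw [mem_Oset_smul α ω γ (g⁻¹ • δ) g, smul_inv_smul]; exact hδ
      rw [mul_smul, mul_smul, hy2 _ this, smul_inv_smul]


theorem ostar_eq_of_subset {G Ω : Type*} [Group G] [Fintype Ω] [MulAction G Ω]
    [IsPretransitive G Ω] (α ω γ : Ω)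
    (hsub : ∀ δ ∈ Oset G α ω α, γ ∈ Oset G α ω δ) :
    ∀ δ, γ ∈ Oset G α ω δ → δ ∈ Oset G α ω α := by
  classical
  let A : Ω → Finset Ω := fun γ => Finset.univ.filter (fun δ => δ ∈ Oset G α ω γ)
  let B : Ω → Finset Ω := fun γ => Finset.univ.filter (fun δ => γ ∈ Oset G α ω δ)
  have hA : ∀ γ', (A γ').card = (A α).card := by
    intro γ'
    obtain ⟨g, rfl⟩ := exists_smul_eq G α γ'
    symm
    apply Finset.card_equiv (MulAction.toPerm g)
    intro δ
    simp only [A, Finset.mem_filter, Finset.mem_univ, true_and, MulAction.toPerm_apply]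
    exact mem_Oset_smul α ω α δ g
  have hB : ∀ γ', (B γ').card = (B α).card := by
    intro γ'
    obtain ⟨g, rfl⟩ := exists_smul_eq G α γ'
    symm
    apply Finset.card_equiv (MulAction.toPerm g)
    intro δ
    simp only [B, Finset.mem_filter, Finset.mem_univ, true_and, MulAction.toPerm_apply]
    exact mem_Oset_smul α ω δ α g
  have hsum : ∑ γ' : Ω, (A γ').card = ∑ γ' : Ω, (B γ').card := by
    simp only [A, B, Finset.card_filter]
    exact Finset.sum_comm
  have hcard : (A α).card = (B α).card := by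
    rw [Finset.sum_congr rfl (fun γ' _ => hA γ'), Finset.sum_congr rfl (fun γ' _ => hB γ')] at hsum
    simp only [Finset.sum_const, Finset.card_univ, smul_eq_mul] at hsum
    have hpos : 0 < Fintype.card Ω := Fintype.card_pos_iff.mpr ⟨α⟩
    exact Nat.eq_of_mul_eq_mul_left hpos hsum
  have hAB : A α ⊆ B γ := by
    intro δ hδ
    simp only [A, B, Finset.mem_filter, Finset.mem_univ, true_and] at hδ ⊢
    exact hsub δ hδ
  have heq : A α = B γ := Finset.eq_of_subset_of_card_le hAB (by rw [hB γ, hcard])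
  intro δ hδ
  have : δ ∈ B γ := by
    simp only [B, Finset.mem_filter, Finset.mem_univ, true_and]; exact hδ
  rw [← heq] at this
  simpa [A] using this

theorem main3494 {G : Type*} [Group G] [Finite G] {Ω : Type*} [Fintype Ω] [MulAction G Ω]
    [FaithfulSMul G Ω] (hprim : MulAction.IsPreprimitive G Ω)
    (hep : ∀ (α : Ω) (ω : Ω), MulAction.IsPreprimitive (MulAction.stabilizer G α)
      (MulAction.orbit (MulAction.stabilizer G α) ω))
    (α ω : Ω) (hω : ω ≠ α) (h : MulAction.stabilizer G α)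
    (hfix : ∀ x ∈ MulAction.orbit (MulAction.stabilizer G α) ω, h • x = x) : h = 1 := by
  classical
  haveI := hprim
  haveI : IsPretransitive G Ω := hprim.toIsPretransitive
  set K := Kof G α ω α with hK
  have hhK : (h : G) ∈ K := ⟨h.2, fun δ hδ => hfix δ ((mem_Oset_self α ω δ).mp hδ)⟩
  have hωO : ω ∈ Oset G α ω α := ⟨1, one_smul _ _, one_smul _ _⟩
  -- Step A
  have stepA : ∀ β ∈ Oset G α ω α, ∀ ε ∈ Oset G α ω β, ∀ x ∈ K, x • ε = ε := by
    intro β hβ ε hε x hx
    by_contra hxε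
    let H := stabilizer G α
    have hKH : K ≤ H := fun y hy => hy.1
    let K' : Subgroup H := K.subgroupOf H
    have hK'n : K'.Normal := by
      constructor
      intro n hn g
      rw [Subgroup.mem_subgroupOf] at hn ⊢
      simp only [Subgroup.coe_mul, Subgroup.coe_inv]
      have hg : (g : G) • α = α := g.2
      have hg' : (g : G)⁻¹ • α = α := by rw [inv_smul_eq_iff, hg]
      refine ⟨?_, ?_⟩
      · rw [mul_smul, mul_smul, hg', hn.1, hg]
      · intro δ hδ
        have : (g : G)⁻¹ • δ ∈ Oset G α ω α := by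
          have := (mem_Oset_smul α ω α δ (g : G)⁻¹).mp hδ
          rwa [hg'] at this
        rw [mul_smul, mul_smul, hn.2 _ this, smul_inv_smul]
    haveI := hK'n
    haveI : IsPreprimitive H (orbit H ε) := hep α ε
    have hnf : fixedPoints K' (orbit H ε) ≠ Set.univ := by
      intro hu
      have : (⟨ε, mem_orbit_self ε⟩ : orbit H ε) ∈ fixedPoints K' (orbit H ε) := by
        rw [hu]; trivial
      have h2 := this ⟨⟨x, hKH hx⟩, by rw [Subgroup.mem_subgroupOf]; exact hx⟩
      apply hxε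
      have h3 := congrArg Subtype.val h2
      exact h3
    have htr : IsPretransitive K' (orbit H ε) :=
      IsQuasiPreprimitive.isPretransitive_of_normal (G := H) (X := orbit H ε) (N := K') hnf
    -- A1
    have hA1 : ∀ ε' ∈ orbit H ε, ε' ∈ Oset G α ω β := by
      intro ε' hε'
      obtain ⟨k, hk⟩ := htr.exists_smul_eq (⟨ε, mem_orbit_self ε⟩ : orbit H ε) ⟨ε', hε'⟩
      have hk' : ((k : H) : G) • ε = ε' := congrArg Subtype.val hk
      have hkK : ((k : H) : G) ∈ K := Subgroup.mem_subgroupOf.mp k.2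
      have hkβ : ((k : H) : G) • β = β := hkK.2 β hβ
      have := (mem_Oset_smul α ω β ε ((k : H) : G)).mp hε
      rw [hkβ, hk'] at this
      exact this
    -- A2
    have hA2 : ∀ ε' ∈ orbit H ε, ∀ β' ∈ Oset G α ω α, ε' ∈ Oset G α ω β' := by
      intro ε' hε' β' hβ'
      obtain ⟨g1, hg1α, hg1ω⟩ := hβ
      obtain ⟨g2, hg2α, hg2ω⟩ := hβ'
      have hgα : (g2 * g1⁻¹) • α = α := by
        rw [mul_smul, inv_smul_eq_iff.mpr hg1α.symm, hg2α]
      have hgβ : (g2 * g1⁻¹) • β = β' := by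
        rw [mul_smul, ← hg1ω, inv_smul_smul, hg2ω]
      have hmem : (g2 * g1⁻¹)⁻¹ • ε' ∈ orbit H ε := by
        obtain ⟨y, hy⟩ := hε'
        have hy' : (y : G) • ε = ε' := hy
        have hgH : g2 * g1⁻¹ ∈ H := hgα
        refine ⟨(⟨g2 * g1⁻¹, hgH⟩ : H)⁻¹ * y, ?_⟩
        show (((⟨g2 * g1⁻¹, hgH⟩ : H)⁻¹ * y : H) : G) • ε = _
        rw [Subgroup.coe_mul, Subgroup.coe_inv, mul_smul, hy']
      have := (mem_Oset_smul α ω β _ (g2 * g1⁻¹)).mp (hA1 _ hmem)
      rwa [smul_inv_smul, hgβ] at this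
    -- A3
    have hA3 : ∀ ε' ∈ orbit H ε, ∀ δ, ε' ∈ Oset G α ω δ → δ ∈ Oset G α ω α := by
      intro ε' hε'
      exact ostar_eq_of_subset α ω ε' (fun δ hδ => hA2 ε' hε' δ hδ)
    -- block S
    let Φ : Ω → Set Ω := fun γ => {δ | γ ∈ Oset G α ω δ}
    have hS : IsBlock G {γ | Φ γ = Oset G α ω α} := by
      apply fiber_isBlock Φ (fun g D => (fun y => g • y) '' D)
      · intro g
        exact Set.image_injective.mpr (MulAction.injective g)
      · intro g γ
        ext δ
        simp only [Φ, Set.mem_setOf_eq, Set.mem_image]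
        constructor
        · intro hδ
          refine ⟨g⁻¹ • δ, ?_, smul_inv_smul g δ⟩
          rw [mem_Oset_smul α ω (g⁻¹ • δ) γ g, smul_inv_smul]; exact hδ
        · rintro ⟨y, hy, rfl⟩
          exact (mem_Oset_smul α ω y γ g).mp hy
    have hεS : ∀ ε' ∈ orbit H ε, ε' ∈ {γ | Φ γ = Oset G α ω α} := by
      intro ε' hε'
      simp only [Set.mem_setOf_eq, Φ]
      ext δ
      simp only [Set.mem_setOf_eq]
      exact ⟨hA3 ε' hε' δ, fun hδ => hA2 ε' hε' δ hδ⟩
    rcases hprim.isTrivialBlock_of_isBlock hS with hsub | huniv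
    · apply hxε
      have h1 := hεS ε (mem_orbit_self ε)
      have h2 := hεS (x • ε) ⟨⟨x, hKH hx⟩, rfl⟩
      exact hsub h2 h1
    · have hβS : β ∈ {γ | Φ γ = Oset G α ω α} := by rw [huniv]; trivial
      simp only [Set.mem_setOf_eq, Φ] at hβS
      have : β ∈ {δ | β ∈ Oset G α ω δ} := by rw [hβS]; exact hβ
      obtain ⟨g, hg1, hg2⟩ := this
      apply hω
      have : g • ω = g • α := by rw [hg1, hg2]
      exact (MulAction.injective g this)
  -- Step B
  have stepB : ∀ β ∈ Oset G α ω α, Kof G α ω β = K := by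
    intro β hβ
    have hle : K ≤ Kof G α ω β := fun x hx => ⟨hx.2 β hβ, fun ε hε => stepA β hβ ε hε x hx⟩
    obtain ⟨g, rfl⟩ := exists_smul_eq G α β
    have hcard : Nat.card (Kof G α ω (g • α)) = Nat.card K := by
      rw [Kof_smul]
      exact Subgroup.card_map_of_injective (MulAut.conj g).injective
    exact (Subgroup.eq_of_le_of_card_ge hle (le_of_eq hcard)).symm
  -- Step C
  have hW : IsBlock G {γ | Kof G α ω γ = K} := by
    apply fiber_isBlock (fun γ => Kof G α ω γ) (fun g L => L.map (MulAut.conj g).toMonoidHom)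
    · intro g
      exact Subgroup.map_injective (MulAut.conj g).injective
    · intro g γ
      exact Kof_smul α ω γ g
  rcases hprim.isTrivialBlock_of_isBlock hW with hsub | huniv
  · exfalso
    apply hω
    exact hsub (stepB ω hωO) rfl
  · have hall : ∀ γ : Ω, (h : G) • γ = γ := by
      intro γ
      have : γ ∈ {γ | Kof G α ω γ = K} := by rw [huniv]; trivial
      have h2 : (h : G) ∈ Kof G α ω γ := by rw [this]; exact hhK
      exact h2.1
    apply Subtype.ext
    apply FaithfulSMul.eq_of_smul_eq_smul (α := Ω)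
    intro γ
    rw [hall γ]; simp

/-- Manning's Theorem on extremely primitive groups. Let a finite group G act faithfully and primitively on a finite set Ω with non-trivial point stabilizers, and suppose every point stabilizer G_α acts primitively on each of its orbits. Then G_α acts faithfully on each of its orbits other than {α}: an element of G_α fixing every point of one such orbit is the identity. -/
theorem result {G : Type*} [Group G] [Finite G] {Ω : Type*} [Fintype Ω] [MulAction G Ω] [FaithfulSMul G Ω] (hprim : MulAction.IsPreprimitive G Ω) (hH : ∀ α : Ω, MulAction.stabilizer G α ≠ ⊥) (hep : ∀ (α : Ω) (ω : Ω), MulAction.IsPreprimitive (MulAction.stabilizer G α) (MulAction.orbit (MulAction.stabilizer G α) ω))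
    (α ω : Ω) (hω : ω ≠ α) (h : MulAction.stabilizer G α) (hfix : ∀ x ∈ MulAction.orbit (MulAction.stabilizer G α) ω, h • x = x) : h = 1 := by
  exact main3494 hprim hep α ω hω h hfix

end Cfsg.Agent.S3494
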