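import Cfsg.Statements.S3495
import Mathlib

set_option autoImplicit false
open Cfsg

namespace Cfsg.Agent.S3495

theorem mem_sup_norm {G : Type*} [Group G] (L K : Subgroup G)
    (hK : ∀ k ∈ K, ∀ l ∈ L, k * l * k⁻¹ ∈ L) {x : G} (hx : x ∈ L ⊔ K) :
    ∃ l ∈ L, ∃ k ∈ K, x = l * k := by
  rw [Subgroup.sup_eq_closure] at hx
  induction hx using Subgroup.closure_induction with
  | mem x hx =>
    rcases hx with hx | hx
    · exact ⟨x, hx, 1, K.one_mem, by simp⟩
    · exact ⟨1, L.one_mem, x, hx, by simp⟩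
  | one => exact ⟨1, L.one_mem, 1, K.one_mem, by simp⟩
  | mul x y _ _ hx hy =>
    obtain ⟨l, hl, k, hk, rfl⟩ := hx
    obtain ⟨l', hl', k', hk', rfl⟩ := hy
    exact ⟨l * (k * l' * k⁻¹), L.mul_mem hl (hK k hk l' hl'), k * k', K.mul_mem hk hk',
      by group⟩
  | inv x _ hx =>
    obtain ⟨l, hl, k, hk, rfl⟩ := hx
    exact ⟨k⁻¹ * l⁻¹ * (k⁻¹)⁻¹, hK k⁻¹ (K.inv_mem hk) l⁻¹ (L.inv_mem hl), k⁻¹, K.inv_mem hk,
      by group⟩

theorem main3495 {G : Type*} [Group G] [Finite G] {Ω : Type*} [Fintype Ω] [MulAction G Ω] [FaithfulSMul G Ω] (hprim : MulAction.IsPreprimitive G Ω) (hH : ∀ α : Ω, MulAction.stabilizer G α ≠ ⊥) (hep : ∀ (α : Ω) (ω : Ω), MulAction.IsPreprimitive (MulAction.stabilizer G α) (MulAction.orbit (MulAction.stabilizer G α) ω))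
    (N : Subgroup G) [hNn : N.Normal] (hNc : IsMulCommutative N) (p : ℕ) (hp : p.Prime) (hNp : ∀ n ∈ N, n ^ p = 1)
    (hNtr : MulAction.IsPretransitive N Ω) (hNreg : ∀ ω : Ω, MulAction.stabilizer N ω = ⊥) (α : Ω) (M : Subgroup G) (hM : M ≠ ⊥) (hMle : M ≤ MulAction.stabilizer G α)
    (hMn : MulAction.stabilizer G α ≤ Subgroup.normalizer (M : Set G)) :
    (∀ ω : Ω, MulAction.orbit M ω = MulAction.orbit (MulAction.stabilizer G α) ω) ∧
    (∀ L : Subgroup G, L ≤ N → M ≤ Subgroup.normalizer (L : Set G) → L = ⊥ ∨ L = N) := by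
  -- regularity
  have hR : ∀ n ∈ N, n • α = α → n = 1 := by
    intro n hn h
    have h1 : (⟨n, hn⟩ : N) ∈ MulAction.stabilizer N α := by
      rw [MulAction.mem_stabilizer_iff]; exact h
    rw [hNreg α, Subgroup.mem_bot] at h1
    exact congrArg Subtype.val h1
  have hR2 : ∀ n₁ ∈ N, ∀ n₂ ∈ N, n₁ • α = n₂ • α → n₁ = n₂ := by
    intro n₁ h₁ n₂ h₂ h
    have h1 : (n₂⁻¹ * n₁) • α = α := by rw [mul_smul, h, inv_smul_smul]
    have := hR _ (N.mul_mem (N.inv_mem h₂) h₁) h1
    exact (inv_mul_eq_one.1 this).symm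
  have hT : ∀ ω : Ω, ∃ n ∈ N, n • α = ω := by
    intro ω
    obtain ⟨n, hn⟩ := MulAction.exists_smul_eq N α ω
    exact ⟨n, n.2, hn⟩
  have hS : ∀ s ∈ MulAction.stabilizer G α, s • α = α := fun s hs => hs
  have hSinv : ∀ s ∈ MulAction.stabilizer G α, s⁻¹ • α = α := fun s hs =>
    (MulAction.stabilizer G α).inv_mem hs
  -- nontrivial
  haveI : Nontrivial Ω := by
    obtain ⟨s, hs, hs1⟩ : ∃ s ∈ MulAction.stabilizer G α, s ≠ 1 := by
      by_contra hcon
      push Not at hcon
      exact hH α ((Subgroup.eq_bot_iff_forall _).2 hcon)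
    by_contra hnt
    rw [not_nontrivial_iff_subsingleton] at hnt
    apply hs1
    apply FaithfulSMul.eq_of_smul_eq_smul (α := Ω)
    intro ω
    exact Subsingleton.elim _ _
  have hco : IsCoatom (MulAction.stabilizer G α) :=
    MulAction.IsPreprimitive.isCoatom_stabilizer_of_isPreprimitive G α
  -- Lemma C
  have hC : ∀ L : Subgroup G, L ≤ N → MulAction.stabilizer G α ≤ Subgroup.normalizer (L : Set G) →
      L = ⊥ ∨ L = N := by
    intro L hLN hSL
    by_cases hLS : L ≤ MulAction.stabilizer G α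
    · left
      rw [Subgroup.eq_bot_iff_forall]
      intro l hl
      exact hR l (hLN hl) (hLS hl)
    · right
      have hlt : MulAction.stabilizer G α < L ⊔ MulAction.stabilizer G α :=
        lt_of_le_of_ne le_sup_right (fun h => hLS (h ▸ le_sup_left))
      have htop := hco.2 _ hlt
      apply le_antisymm hLN
      intro n hn
      have hn' : n ∈ L ⊔ MulAction.stabilizer G α := by rw [htop]; exact Subgroup.mem_top n
      obtain ⟨l, hl, s, hs, rfl⟩ := mem_sup_norm L _ (Subgroup.le_normalizer_iff.1 hSL) hn'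
      have hsN : s ∈ N := by
        have := N.mul_mem (N.inv_mem (hLN hl)) hn
        simpa using this
      have hs1 := hR s hsN hs
      rw [hs1, mul_one]; exact hl
  -- Fact B
  have hB : ∀ m ∈ MulAction.stabilizer G α, (∀ n ∈ N, m * n = n * m) → m = 1 := by
    intro m hm hc
    apply FaithfulSMul.eq_of_smul_eq_smul (α := Ω)
    intro ω
    obtain ⟨n, hn, rfl⟩ := hT ω
    rw [one_smul, ← mul_smul, hc n hn, mul_smul, hS m hm]
  -- conjugation facts for M
  have hMconj : ∀ s ∈ MulAction.stabilizer G α, ∀ m ∈ M, s * m * s⁻¹ ∈ M :=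
    Subgroup.le_normalizer_iff.1 hMn
  -- Fact D
  have hD : N ⊓ Subgroup.centralizer (M : Set G) = ⊥ := by
    have hnorm : MulAction.stabilizer G α ≤
        Subgroup.normalizer ((N ⊓ Subgroup.centralizer (M : Set G) : Subgroup G) : Set G) := by
      rw [Subgroup.le_normalizer_iff]
      rintro s hs x ⟨hxN, hxC⟩
      refine ⟨hNn.conj_mem x hxN s, ?_⟩
      refine Subgroup.mem_centralizer_iff.2 ?_
      intro m hm
      have hm' : s⁻¹ * m * (s⁻¹)⁻¹ ∈ M :=
        hMconj s⁻¹ ((MulAction.stabilizer G α).inv_mem hs) m hm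
      have hcomm := (Subgroup.mem_centralizer_iff.1 hxC) _ hm'
      calc m * (s * x * s⁻¹) = s * ((s⁻¹ * m * (s⁻¹)⁻¹) * x) * s⁻¹ := by group
        _ = s * (x * (s⁻¹ * m * (s⁻¹)⁻¹)) * s⁻¹ := by rw [hcomm]
        _ = s * x * s⁻¹ * m := by group
    rcases hC _ inf_le_left hnorm with h | h
    · exact h
    · exfalso
      apply hM
      rw [Subgroup.eq_bot_iff_forall]
      intro m hm
      apply hB m (hMle hm)
      intro n hn
      have hn' : n ∈ N ⊓ Subgroup.centralizer (M : Set G) := by rw [h]; exact hn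
      exact (Subgroup.mem_centralizer_iff.1 hn'.2) m hm
  -- Fact E
  have hE : ∀ ω : Ω, (∀ m ∈ M, m • ω = ω) → ω = α := by
    intro ω hfix
    obtain ⟨n, hn, rfl⟩ := hT ω
    have hnC : n ∈ N ⊓ Subgroup.centralizer (M : Set G) := by
      refine ⟨hn, ?_⟩
      refine Subgroup.mem_centralizer_iff.2 ?_
      intro m hm
      have hcN : n⁻¹ * (m * n * m⁻¹) ∈ N := N.mul_mem (N.inv_mem hn) (hNn.conj_mem n hn m)
      have hcα : (n⁻¹ * (m * n * m⁻¹)) • α = α := by
        rw [mul_smul, mul_smul, mul_smul, hSinv m (hMle hm), hfix m hm, inv_smul_smul]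
      have h1 := hR _ hcN hcα
      have h2 : m * n * m⁻¹ = n := by
        have := congrArg (fun t => n * t) h1
        simpa using this
      calc m * n = (m * n * m⁻¹) * m := by group
        _ = n * m := by rw [h2]
    rw [hD, Subgroup.mem_bot] at hnC
    rw [hnC, one_smul]
  -- Part 1
  have hP1 : ∀ ω : Ω, MulAction.orbit M ω = MulAction.orbit (MulAction.stabilizer G α) ω := by
    intro ω
    apply Set.Subset.antisymm
    · rintro x ⟨m, rfl⟩
      exact ⟨⟨(m : G), hMle m.2⟩, rfl⟩
    · by_cases hωα : ω = α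
      · rintro x ⟨s, rfl⟩
        subst hωα
        have : (s : G) • ω = ω := s.2
        show (s : G) • ω ∈ MulAction.orbit M ω
        rw [this]
        exact MulAction.mem_orbit_self ω
      · haveI hprimΔ := hep α ω
        haveI hnormal : (M.subgroupOf (MulAction.stabilizer G α)).Normal :=
          (Subgroup.normal_subgroupOf_iff_le_normalizer hMle).2 hMn
        have hne : MulAction.fixedPoints (M.subgroupOf (MulAction.stabilizer G α))
            (MulAction.orbit (MulAction.stabilizer G α) ω) ≠ Set.univ := by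
          intro huniv
          apply hωα
          apply hE
          intro m hm
          have hmem : (⟨ω, MulAction.mem_orbit_self ω⟩ :
              MulAction.orbit (MulAction.stabilizer G α) ω) ∈
              MulAction.fixedPoints (M.subgroupOf (MulAction.stabilizer G α))
                (MulAction.orbit (MulAction.stabilizer G α) ω) := by
            rw [huniv]; exact Set.mem_univ _
          rw [MulAction.mem_fixedPoints] at hmem
          have := hmem ⟨⟨m, hMle hm⟩, Subgroup.mem_subgroupOf.2 hm⟩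
          exact congrArg Subtype.val this
        have hpt : MulAction.IsPretransitive (M.subgroupOf (MulAction.stabilizer G α))
            (MulAction.orbit (MulAction.stabilizer G α) ω) :=
          MulAction.IsQuasiPreprimitive.isPretransitive_of_normal hne
        rintro x hx
        obtain ⟨m', hm'⟩ := hpt.exists_smul_eq
          (⟨ω, MulAction.mem_orbit_self ω⟩ : MulAction.orbit (MulAction.stabilizer G α) ω)
          ⟨x, hx⟩
        refine ⟨⟨((m' : MulAction.stabilizer G α) : G), Subgroup.mem_subgroupOf.1 m'.2⟩, ?_⟩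
        exact congrArg Subtype.val hm'
  refine ⟨hP1, ?_⟩
  -- Part 2
  intro L hLN hML
  apply hC L hLN
  rw [Subgroup.le_normalizer_iff]
  intro s hs l hl
  have hmem : s • (l • α) ∈ MulAction.orbit (MulAction.stabilizer G α) (l • α) :=
    ⟨⟨s, hs⟩, rfl⟩
  rw [← hP1] at hmem
  obtain ⟨m, hm⟩ := hmem
  have hm' : (m : G) • (l • α) = s • (l • α) := hm
  have hmL : (m : G) * l * (m : G)⁻¹ ∈ L := (Subgroup.le_normalizer_iff.1 hML) m m.2 l hl
  have e1 : ((m : G) * l * (m : G)⁻¹) • α = (s * l * s⁻¹) • α := by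
    rw [mul_smul, mul_smul, mul_smul, mul_smul, hSinv m (hMle m.2), hSinv s hs, hm']
  have e2 := hR2 _ (hLN hmL) _ (hNn.conj_mem l (hLN hl) s) e1
  rw [← e2]; exact hmL


/-- Let a finite group G act faithfully and primitively on a finite set Ω with non-trivial point stabilizers, each acting primitively on every one of its orbits (an extremely primitive group), and suppose G has an elementary abelian normal p-subgroup N acting regularly on Ω (affine type). Then every non-trivial subgroup M of a point stabilizer G_α that is normal in G_α has the same orbits on Ω as G_α, and normalizes no subgroup of N other than 1 and N. -/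
theorem result {G : Type*} [Group G] [Finite G] {Ω : Type*} [Fintype Ω] [MulAction G Ω] [FaithfulSMul G Ω] (hprim : MulAction.IsPreprimitive G Ω) (hH : ∀ α : Ω, MulAction.stabilizer G α ≠ ⊥) (hep : ∀ (α : Ω) (ω : Ω), MulAction.IsPreprimitive (MulAction.stabilizer G α) (MulAction.orbit (MulAction.stabilizer G α) ω))
    (N : Subgroup G) [N.Normal] (hNc : IsMulCommutative N) (p : ℕ) (hp : p.Prime) (hNp : ∀ n ∈ N, n ^ p = 1)
    (hNtr : MulAction.IsPretransitive N Ω) (hNreg : ∀ ω : Ω, MulAction.stabilizer N ω = ⊥) (α : Ω) (M : Subgroup G) (hM : M ≠ ⊥) (hMle : M ≤ MulAction.stabilizer G α)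
    (hMn : MulAction.stabilizer G α ≤ Subgroup.normalizer (M : Set G)) :
    (∀ ω : Ω, MulAction.orbit M ω = MulAction.orbit (MulAction.stabilizer G α) ω) ∧
    (∀ L : Subgroup G, L ≤ N → M ≤ Subgroup.normalizer (L : Set G) → L = ⊥ ∨ L = N) := by
  exact main3495 hprim hH hep N hNc p hp hNp hNtr hNreg α M hM hMle hMn

end Cfsg.Agent.S3495
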