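import Mathlib
import Cfsg.Statements.S3680
import Cfsg.Agent.S0721

set_option autoImplicit false
set_option maxHeartbeats 800000
open Cfsg

namespace Cfsg.Agent.S3680

/-- minimal normal subgroups -/
def IsMinNormal {G : Type*} [Group G] (V : Subgroup G) : Prop :=
  V.Normal ∧ V ≠ ⊥ ∧ ∀ M : Subgroup G, M.Normal → M ≤ V → M = ⊥ ∨ M = V

theorem exists_minNormal {G : Type*} [Group G] [Finite G] (h : (⊤ : Subgroup G) ≠ ⊥) :
    ∃ V : Subgroup G, IsMinNormal V := by
  let 𝒮 : Set (Subgroup G) := {X | X.Normal ∧ X ≠ ⊥}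
  have h𝒮 : 𝒮.Nonempty := ⟨⊤, inferInstance, h⟩
  obtain ⟨S, hS, hmin⟩ := WellFounded.has_min (wellFounded_lt (α := Subgroup G)) 𝒮 h𝒮
  refine ⟨S, hS.1, hS.2, ?_⟩
  intro M hM hMS
  by_cases hM1 : M = ⊥
  · exact Or.inl hM1
  · right
    by_contra hne
    exact hmin M ⟨hM, hM1⟩ (lt_of_le_of_ne hMS hne)

theorem trans_of_normal {G Ω : Type*} [Group G] [MulAction G Ω] [FaithfulSMul G Ω]
    (hprim : MulAction.IsPreprimitive G Ω) (V : Subgroup G) (hV : V.Normal) (hV1 : V ≠ ⊥) :
    ∀ ω ω' : Ω, ∃ a ∈ V, a • ω = ω' := by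
  haveI := hprim
  haveI := hV
  have hfix : MulAction.fixedPoints V Ω ≠ Set.univ := by
    intro h
    apply hV1
    rw [Subgroup.eq_bot_iff_forall]
    intro v hv
    apply FaithfulSMul.eq_of_smul_eq_smul (α := Ω)
    intro ω
    have : ω ∈ MulAction.fixedPoints V Ω := by rw [h]; trivial
    have h2 := this ⟨v, hv⟩
    simpa using h2
  have := MulAction.IsQuasiPreprimitive.isPretransitive_of_normal (G := G) (X := Ω) (N := V) hfix
  intro ω ω'
  obtain ⟨g, hg⟩ := this.exists_smul_eq ω ω'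
  exact ⟨g.1, g.2, hg⟩

theorem semireg {G Ω : Type*} [Group G] [MulAction G Ω] [FaithfulSMul G Ω]
    (M : Subgroup G) (htr : ∀ ω ω' : Ω, ∃ a ∈ M, a • ω = ω')
    (c : G) (hc : ∀ a ∈ M, a * c = c * a) (ω : Ω) (hω : c • ω = ω) : c = 1 := by
  apply FaithfulSMul.eq_of_smul_eq_smul (α := Ω)
  intro ω'
  obtain ⟨a, ha, rfl⟩ := htr ω ω'
  rw [one_smul, ← mul_smul, ← hc a ha, mul_smul, hω]

theorem mem_of_regular {G Ω : Type*} [Group G] [MulAction G Ω] [FaithfulSMul G Ω]
    (M1 M2 : Subgroup G) (htr1 : ∀ ω ω' : Ω, ∃ a ∈ M1, a • ω = ω')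
    (htr2 : ∀ ω ω' : Ω, ∃ a ∈ M2, a • ω = ω')
    (hcomm : ∀ a ∈ M1, ∀ b ∈ M2, a * b = b * a) (ω : Ω)
    (c : G) (hc : ∀ a ∈ M1, a * c = c * a) : c ∈ M2 := by
  obtain ⟨b, hb, hbω⟩ := htr2 ω (c • ω)
  have h1 : b⁻¹ * c = 1 := by
    refine semireg M1 htr1 (b⁻¹ * c) (fun a ha => ?_) ω (by rw [mul_smul, ← hbω, inv_smul_smul])
    have hab : a * b⁻¹ = b⁻¹ * a := by
      have := hcomm a ha b hb
      calc a * b⁻¹ = b⁻¹ * (b * a) * b⁻¹ := by group
        _ = b⁻¹ * (a * b) * b⁻¹ := by rw [this]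
        _ = b⁻¹ * a := by group
    rw [← mul_assoc, hab, mul_assoc, hc a ha, mul_assoc]
  have : c = b := by rw [← mul_one b, ← h1, mul_inv_cancel_left]
  exact this ▸ hb

theorem exp_of_minNormal_abelian {G : Type*} [Group G] [Finite G] (M : Subgroup G)
    (hM : IsMinNormal M) (hab : ∀ a ∈ M, ∀ b ∈ M, a * b = b * a) :
    ∃ p : ℕ, p.Prime ∧ ∀ x ∈ M, x ^ p = 1 := by
  obtain ⟨hMn, hM1, hMmin⟩ := hM
  have hcard : Nat.card M ≠ 1 := by
    intro h; exact hM1 (Subgroup.card_eq_one.mp h)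
  obtain ⟨p, hp, hpd⟩ := Nat.exists_prime_and_dvd hcard
  haveI := Fact.mk hp
  obtain ⟨x, hx⟩ := exists_prime_orderOf_dvd_card' p hpd
  let K : Subgroup G :=
    { carrier := {y | y ∈ M ∧ y ^ p = 1}
      one_mem' := ⟨M.one_mem, one_pow p⟩
      mul_mem' := by
        rintro a b ⟨ha, ha'⟩ ⟨hb, hb'⟩
        refine ⟨M.mul_mem ha hb, ?_⟩
        rw [(show Commute a b from hab a ha b hb).mul_pow, ha', hb', one_mul]
      inv_mem' := by
        rintro a ⟨ha, ha'⟩
        exact ⟨M.inv_mem ha, by rw [inv_pow, ha', inv_one]⟩ }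
  have hKn : K.Normal := ⟨by
    rintro a ⟨ha, ha'⟩ g
    refine ⟨hMn.conj_mem a ha g, ?_⟩
    rw [conj_pow, ha', mul_one, mul_inv_cancel]⟩
  have hKM : K ≤ M := fun y hy => hy.1
  rcases hMmin K hKn hKM with h | h
  · exfalso
    have hxp : ((x : G)) ^ p = 1 := by
      have : x ^ p = 1 := by rw [← hx]; exact pow_orderOf_eq_one x
      have h2 := congrArg Subtype.val this
      simpa using h2
    have hxK : (x : G) ∈ K := ⟨x.2, hxp⟩
    rw [h, Subgroup.mem_bot] at hxK
    have hx1 : x = 1 := Subtype.ext hxK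
    rw [hx1, orderOf_one] at hx
    exact hp.one_lt.ne hx
  · exact ⟨p, hp, fun y hy => ((h ▸ hy : y ∈ K)).2⟩

theorem iso_of_regular_pair {G Ω : Type*} [Group G] [MulAction G Ω] [FaithfulSMul G Ω]
    (M1 M2 : Subgroup G) (htr1 : ∀ ω ω' : Ω, ∃ a ∈ M1, a • ω = ω')
    (htr2 : ∀ ω ω' : Ω, ∃ a ∈ M2, a • ω = ω')
    (hcomm : ∀ a ∈ M1, ∀ b ∈ M2, a * b = b * a) (ω : Ω) : Nonempty (M1 ≃* M2) := by
  classical
  have hsr1 : ∀ a ∈ M1, a • ω = ω → a = 1 := fun a ha h =>
    semireg M2 htr2 a (fun b hb => (hcomm a ha b hb).symm) ω h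
  have hsr2 : ∀ b ∈ M2, b • ω = ω → b = 1 := fun b hb h =>
    semireg M1 htr1 b (fun a ha => hcomm a ha b hb) ω h
  have hex : ∀ a : M1, ∃ b : M2, (b : G) • ω = (a : G) • ω := fun a => by
    obtain ⟨b, hb, h⟩ := htr2 ω ((a : G) • ω)
    exact ⟨⟨b, hb⟩, h⟩
  choose F hF using hex
  have huniq : ∀ b b' : M2, (b : G) • ω = (b' : G) • ω → b = b' := by
    intro b b' h
    have : (b' : G)⁻¹ * b = 1 :=
      hsr2 _ (M2.mul_mem (M2.inv_mem b'.2) b.2) (by rw [mul_smul, h, inv_smul_smul])
    apply Subtype.ext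
    rw [← mul_one (b' : G), ← this, mul_inv_cancel_left]
  have hFmul : ∀ a1 a2 : M1, F (a1 * a2) = F a2 * F a1 := by
    intro a1 a2
    apply huniq
    rw [hF, Subgroup.coe_mul, Subgroup.coe_mul]
    calc ((a1 : G) * (a2 : G)) • ω = (a1 : G) • ((F a2 : G) • ω) := by rw [mul_smul, hF a2]
      _ = ((a1 : G) * (F a2 : G)) • ω := by rw [mul_smul]
      _ = ((F a2 : G) * (a1 : G)) • ω := by rw [hcomm a1 a1.2 (F a2) (F a2).2]
      _ = ((F a2 : G) * (F a1 : G)) • ω := by rw [mul_smul, mul_smul, hF a1]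
  let ψ : M1 →* M2 := MonoidHom.mk' (fun a => (F a)⁻¹) (by
    intro a1 a2
    rw [hFmul, mul_inv_rev])
  refine ⟨MulEquiv.ofBijective ψ ⟨?_, ?_⟩⟩
  · intro a a' h
    have h1 : F a = F a' := inv_injective h
    have h2 : (a : G) • ω = (a' : G) • ω := by rw [← hF a, ← hF a', h1]
    have : (a' : G)⁻¹ * a = 1 :=
      hsr1 _ (M1.mul_mem (M1.inv_mem a'.2) a.2) (by rw [mul_smul, h2, inv_smul_smul])
    apply Subtype.ext
    rw [← mul_one (a' : G), ← this, mul_inv_cancel_left]
  · intro b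
    obtain ⟨a, ha, h⟩ := htr1 ω (((b⁻¹ : M2) : G) • ω)
    refine ⟨⟨a, ha⟩, ?_⟩
    have : F ⟨a, ha⟩ = b⁻¹ := huniq _ _ (by rw [hF]; exact h)
    show (F ⟨a, ha⟩)⁻¹ = b
    rw [this, inv_inv]

/-- `T^m × T^n ≃* T^(m+n)` -/
def appendEquiv (T : Type*) [Group T] (m n : ℕ) :
    (Fin m → T) × (Fin n → T) ≃* (Fin (m + n) → T) :=
  { toFun := fun p => Fin.append p.1 p.2
    invFun := fun h => (fun i => h (Fin.castAdd n i), fun i => h (Fin.natAdd m i))
    left_inv := by
      rintro ⟨f, g⟩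
      simp
    right_inv := by
      intro h
      funext i
      refine Fin.addCases ?_ ?_ i <;> intro j <;> simp
    map_mul' := by
      rintro ⟨f, g⟩ ⟨f', g'⟩
      funext i
      refine Fin.addCases ?_ ?_ i <;> intro j <;> simp }


theorem main3680 {G Ω : Type*} [Group G] [Finite G] [MulAction G Ω] [FaithfulSMul G Ω] [Finite Ω]
    (hprim : MulAction.IsPreprimitive G Ω) (N : Subgroup G)
    (hN : N = sSup {V : Subgroup G | IsMinNormal V}) :
    (∃ p : ℕ, p.Prime ∧ IsMulCommutative N ∧ (∀ x : N, x ^ p = 1) ∧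
      MulAction.IsPretransitive N Ω ∧ ∀ ω : Ω, MulAction.stabilizer N ω = ⊥) ∨
    (∃ (T : Type) (_ : Group T) (m : ℕ), 1 ≤ m ∧ IsSimpleGroup T ∧ ¬ IsMulCommutative T ∧
      Nonempty (N ≃* (Fin m → T))) := by
  classical
  by_cases htriv : (⊤ : Subgroup G) = ⊥
  · left
    have hall : ∀ g : G, g = 1 := fun g => by
      have : g ∈ (⊤ : Subgroup G) := Subgroup.mem_top g
      rw [htriv, Subgroup.mem_bot] at this
      exact this
    refine ⟨2, Nat.prime_two, ⟨⟨fun a b => Subtype.ext ?_⟩⟩, fun x => Subtype.ext ?_,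
      ⟨fun x y => ⟨1, ?_⟩⟩, fun ω => ?_⟩
    · rw [hall (a * b).1, hall (b * a).1]
    · rw [hall (x ^ 2).1]; rfl
    · obtain ⟨g, hg⟩ := hprim.toIsPretransitive.exists_smul_eq x y
      rw [hall g, one_smul] at hg
      rw [one_smul]; exact hg
    · rw [Subgroup.eq_bot_iff_forall]
      intro x _
      exact Subtype.ext (hall x.1)
  · obtain ⟨M1, hM1⟩ := exists_minNormal htriv
    have hΩ : Nonempty Ω := by
      by_contra hne
      rw [not_nonempty_iff] at hne
      apply htriv
      rw [Subgroup.eq_bot_iff_forall]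
      intro g _
      apply FaithfulSMul.eq_of_smul_eq_smul (α := Ω)
      intro ω
      exact (hne.false ω).elim
    obtain ⟨ω⟩ := hΩ
    have htrans : ∀ V, IsMinNormal V → ∀ ω ω' : Ω, ∃ a ∈ V, a • ω = ω' :=
      fun V hV => trans_of_normal hprim V hV.1 hV.2.1
    have hdisj : ∀ V W : Subgroup G, IsMinNormal V → IsMinNormal W → V ≠ W → V ⊓ W = ⊥ := by
      intro V W hV hW hne
      haveI := hV.1
      haveI := hW.1
      have hn : (V ⊓ W).Normal := inferInstance
      rcases hV.2.2 (V ⊓ W) hn inf_le_left with h | h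
      · exact h
      · exfalso
        have hVW : V ≤ W := h ▸ inf_le_right
        rcases hW.2.2 V hV.1 hVW with h' | h'
        · exact hV.2.1 h'
        · exact hne h'
    have hcomm : ∀ V W : Subgroup G, IsMinNormal V → IsMinNormal W → V ≠ W →
        ∀ a ∈ V, ∀ b ∈ W, a * b = b * a := by
      intro V W hV hW hne a ha b hb
      have h1 : a * b * a⁻¹ * b⁻¹ ∈ V ⊓ W := by
        refine Subgroup.mem_inf.mpr ⟨?_, ?_⟩
        · have := hV.1.conj_mem a⁻¹ (V.inv_mem ha) b
          have h2 := V.mul_mem ha this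
          convert h2 using 1; group
        · have := hW.1.conj_mem b hb a
          exact W.mul_mem this (W.inv_mem hb)
      rw [hdisj V W hV hW hne, Subgroup.mem_bot] at h1
      calc a * b = (a * b * a⁻¹ * b⁻¹) * (b * a) := by group
        _ = b * a := by rw [h1, one_mul]
    by_cases hab : ∃ M : Subgroup G, IsMinNormal M ∧ ∀ a ∈ M, ∀ b ∈ M, a * b = b * a
    · obtain ⟨M, hM, hMab⟩ := hab
      left
      have htr := htrans M hM
      have huniq : ∀ V, IsMinNormal V → V = M := by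
        intro V hV
        by_contra hne
        have hVM : V ≤ M := by
          intro c hc
          exact mem_of_regular M M htr htr hMab ω c
            (fun a ha => hcomm M V hM hV (Ne.symm hne) a ha c hc)
        rcases hM.2.2 V hV.1 hVM with h | h
        · exact hV.2.1 h
        · exact hne h
      have hNM : N = M := by
        rw [hN]
        have : {V : Subgroup G | IsMinNormal V} = {M} := by
          ext V
          simp only [Set.mem_setOf_eq, Set.mem_singleton_iff]
          exact ⟨huniq V, fun h => h ▸ hM⟩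
        rw [this, sSup_singleton]
      subst hNM
      obtain ⟨p, hp, hexp⟩ := exp_of_minNormal_abelian N hM hMab
      refine ⟨p, hp, ⟨⟨fun a b => Subtype.ext (hMab a.1 a.2 b.1 b.2)⟩⟩, fun x => Subtype.ext ?_,
        ⟨fun x y => ?_⟩, fun ω' => ?_⟩
      · simpa using hexp x.1 x.2
      · obtain ⟨a, ha, h⟩ := htr x y
        exact ⟨⟨a, ha⟩, h⟩
      · rw [Subgroup.eq_bot_iff_forall]
        intro x hx
        have hx' : (x : G) • ω' = ω' := hx
        exact Subtype.ext (semireg N htr x.1 (fun a ha => hMab a ha x.1 x.2) ω' hx')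
    · right
      have hnonab : ∀ M : Subgroup G, IsMinNormal M → ¬ ∀ a ∈ M, ∀ b ∈ M, a * b = b * a :=
        fun M hM h => hab ⟨M, hM, h⟩
      haveI := hM1.1
      obtain ⟨T, hT, m, hTs, hm, ⟨e⟩⟩ := Cfsg.Agent.S0721.result M1 hM1.2.1 hM1.2.2
      have hTnc : ¬ IsMulCommutative T := by
        intro hc
        apply hnonab M1 hM1
        intro a ha b hb
        have h1 : e ⟨a, ha⟩ * e ⟨b, hb⟩ = e ⟨b, hb⟩ * e ⟨a, ha⟩ := by
          funext i
          simp only [Pi.mul_apply]
          exact hc.is_comm.comm _ _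
        rw [← map_mul, ← map_mul] at h1
        have := e.injective h1
        exact congrArg Subtype.val this
      by_cases hone : ∀ V, IsMinNormal V → V = M1
      · have hNM : N = M1 := by
          rw [hN]
          have : {V : Subgroup G | IsMinNormal V} = {M1} := by
            ext V
            simp only [Set.mem_setOf_eq, Set.mem_singleton_iff]
            exact ⟨hone V, fun h => h ▸ hM1⟩
          rw [this, sSup_singleton]
        subst hNM
        exact ⟨T, hT, m, hm, hTs, hTnc, ⟨e⟩⟩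
      · push Not at hone
        obtain ⟨M2, hM2, hne⟩ := hone
        have htr1 := htrans M1 hM1
        have htr2 := htrans M2 hM2
        have hc12 := hcomm M1 M2 hM1 hM2 (Ne.symm hne)
        have hall : ∀ V, IsMinNormal V → V = M1 ∨ V = M2 := by
          intro V hV
          by_cases hV1 : V = M1
          · exact Or.inl hV1
          · right
            have hVM : V ≤ M2 := by
              intro c hc
              exact mem_of_regular M1 M2 htr1 htr2 hc12 ω c
                (fun a ha => hcomm M1 V hM1 hV (Ne.symm hV1) a ha c hc)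
            rcases hM2.2.2 V hV.1 hVM with h | h
            · exact absurd h hV.2.1
            · exact h
        have hNM : N = M1 ⊔ M2 := by
          rw [hN]
          have : {V : Subgroup G | IsMinNormal V} = {M1, M2} := by
            ext V
            simp only [Set.mem_setOf_eq, Set.mem_insert_iff, Set.mem_singleton_iff]
            constructor
            · exact hall V
            · rintro (h | h)
              · exact h ▸ hM1
              · exact h ▸ hM2
          rw [this, sSup_pair]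
        subst hNM
        obtain ⟨e12⟩ := iso_of_regular_pair M1 M2 htr1 htr2 hc12 ω
        obtain ⟨e0⟩ := Cfsg.Agent.S0721.nonempty_sup_equiv_prod M1 M2 hc12
          (hdisj M1 M2 hM1 hM2 (Ne.symm hne))
        refine ⟨T, hT, m + m, by omega, hTs, hTnc, ⟨?_⟩⟩
        exact e0.trans ((MulEquiv.prodCongr e (e12.symm.trans e)).trans (appendEquiv T m m))

/-- The socle of a finite primitive permutation group. Let a finite group G act faithfully and primitively on a set Ω, and let N be the subgroup generated by the minimal normal subgroups of G. Then either N is an elementary abelian p-group for some prime p and acts regularly on Ω (transitively with trivial point stabilizers), or N is isomorphic to a direct product of m ≥ 1 copies of a non-abelian simple group. -/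
theorem result {G Ω : Type*} [Group G] [Finite G] [MulAction G Ω] [FaithfulSMul G Ω] [Finite Ω]
    (hprim : MulAction.IsPreprimitive G Ω) (N : Subgroup G)
    (hN : N = sSup {V : Subgroup G | V.Normal ∧ V ≠ ⊥ ∧ ∀ M : Subgroup G, M.Normal → M ≤ V → M = ⊥ ∨ M = V}) :
    (∃ p : ℕ, p.Prime ∧ IsMulCommutative N ∧ (∀ x : N, x ^ p = 1) ∧
      MulAction.IsPretransitive N Ω ∧ ∀ ω : Ω, MulAction.stabilizer N ω = ⊥) ∨
    (∃ (T : Type) (_ : Group T) (m : ℕ), 1 ≤ m ∧ IsSimpleGroup T ∧ ¬ IsMulCommutative T ∧ Nonempty (N ≃* (Fin m → T))) := by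
  exact main3680 hprim N hN

end Cfsg.Agent.S3680
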