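import Mathlib
import Cfsg.Statements.S3497
import Cfsg.Agent.S3680
import Cfsg.Agent.S3494
import Cfsg.Agent.Lib.Helper7.ElemAbGL
import Cfsg.Agent.Lib.Helper1.Fitting2
import Cfsg.Agent.Lib.Helper1.NilpCenter

set_option autoImplicit false
set_option maxHeartbeats 800000
open Cfsg

namespace Cfsg.Agent.S3497

open MulAction

theorem exists_moved {P X : Type*} [Group P] [MulAction P X] [FaithfulSMul P X] (z : P)
    (hz : z ≠ 1) : ∃ x : X, z • x ≠ x := by
  by_contra h
  push Not at h
  exact hz (FaithfulSMul.eq_of_smul_eq_smul (α := X) (fun x => by rw [h x, one_smul]))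

theorem card_prime_of_center {P X : Type*} [Group P] [Finite P] [MulAction P X]
    [FaithfulSMul P X] (hprim : IsPreprimitive P X) (hZ : Subgroup.center P ≠ ⊥) :
    (Nat.card P).Prime := by
  have htr := Cfsg.Agent.S3680.trans_of_normal hprim (Subgroup.center P) inferInstance hZ
  obtain ⟨z, hz, hz1⟩ := (Subgroup.ne_bot_iff_exists_ne_one (H := Subgroup.center P)).1 hZ |>.imp
    (fun z hz => hz) |> fun ⟨z, hz⟩ => (⟨z.1, z.2, fun h => hz (Subtype.ext h)⟩ :
      ∃ z ∈ Subgroup.center P, z ≠ 1)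
  obtain ⟨x0, hx0⟩ := exists_moved (X := X) z hz1
  have hsemi : ∀ h : P, ∀ x : X, h • x = x → h = 1 := fun h x hx =>
    Cfsg.Agent.S3680.semireg (Subgroup.center P) htr h
      (fun a ha => (Subgroup.mem_center_iff.mp ha h).symm) x hx
  haveI : Nontrivial X := ⟨⟨z • x0, x0, hx0⟩⟩
  haveI := hprim
  have hco : IsCoatom (stabilizer P x0) :=
    IsPreprimitive.isCoatom_stabilizer_of_isPreprimitive (G := P) (X := X) x0
  have hst : stabilizer P x0 = ⊥ := by
    rw [Subgroup.eq_bot_iff_forall]
    intro h hh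
    exact hsemi h x0 hh
  rw [hst] at hco
  have hcard : Nat.card P ≠ 1 := by
    intro h
    haveI := (Nat.card_eq_one_iff_unique.mp h).1
    exact hz1 (Subsingleton.elim z 1)
  obtain ⟨q, hq, hqd⟩ := Nat.exists_prime_and_dvd hcard
  haveI := Fact.mk hq
  obtain ⟨g, hg⟩ := exists_prime_orderOf_dvd_card' q hqd
  have hQ : Subgroup.zpowers g = ⊤ := by
    apply hco.2
    rw [bot_lt_iff_ne_bot]
    intro h
    have : g = 1 := Subgroup.zpowers_eq_bot.mp h
    rw [this, orderOf_one] at hg
    exact hq.one_lt.ne hg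
  have : Nat.card P = q := by
    rw [← Subgroup.card_top (G := P), ← hQ, Nat.card_zpowers, hg]
  rw [this]; exact hq

theorem fitting_structure {P X : Type*} [Group P] [Finite P] [MulAction P X]
    [FaithfulSMul P X] (hprim : IsPreprimitive P X) (hF : fittingSubgroup P ≠ ⊥) :
    (∀ a ∈ fittingSubgroup P, ∀ b ∈ fittingSubgroup P, a * b = b * a) ∧
    (∃ p : ℕ, p.Prime ∧ ∀ x ∈ fittingSubgroup P, x ^ p = 1) ∧
    (∀ c : P, (∀ a ∈ fittingSubgroup P, a * c = c * a) → c ∈ fittingSubgroup P) ∧
    (∀ x x' : X, ∃ a ∈ fittingSubgroup P, a • x = x') ∧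
    (∀ a ∈ fittingSubgroup P, ∀ x : X, a • x = x → a = 1) := by
  have hFn : (fittingSubgroup P).Normal := by
    rw [Cfsg.Agent.Lib.Helper1.fitting_eq_pCoreSup]
    exact Cfsg.Agent.Lib.Helper1.pCoreSup_normal
  haveI hFnil : Group.IsNilpotent (fittingSubgroup P) := by
    rw [Cfsg.Agent.Lib.Helper1.fitting_eq_pCoreSup]
    exact Cfsg.Agent.Lib.Helper1.pCoreSup_isNilpotent
  set F := fittingSubgroup P with hFdef
  obtain ⟨f, hf1⟩ := (Subgroup.ne_bot_iff_exists_ne_one (H := F)).1 hF
  obtain ⟨x0, hx0⟩ := exists_moved (X := X) f.1 (fun h => hf1 (Subtype.ext h))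
  let Z : Subgroup P := F ⊓ Subgroup.centralizer (F : Set P)
  have hZn : Z.Normal := by
    constructor
    intro n hn g
    obtain ⟨hn1, hn2⟩ := Subgroup.mem_inf.mp hn
    refine Subgroup.mem_inf.mpr ⟨hFn.conj_mem n hn1 g, ?_⟩
    rw [Subgroup.mem_centralizer_iff] at hn2 ⊢
    intro h hh
    have h1 : g⁻¹ * h * g ∈ F := by
      have := hFn.conj_mem h hh g⁻¹
      simpa using this
    have h2 := hn2 _ h1
    calc h * (g * n * g⁻¹) = g * ((g⁻¹ * h * g) * n) * g⁻¹ := by group
      _ = g * (n * (g⁻¹ * h * g)) * g⁻¹ := by rw [h2]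
      _ = g * n * g⁻¹ * h := by group
  have hZ1 : Z ≠ ⊥ := by
    have htop : (⊤ : Subgroup F) ≠ ⊥ := by
      intro h
      apply hf1
      have : f ∈ (⊤ : Subgroup F) := Subgroup.mem_top f
      rw [h, Subgroup.mem_bot] at this
      exact this
    obtain ⟨x, _, hxc, hx1⟩ :=
      Cfsg.Agent.Lib.Helper1.exists_mem_center_of_isNilpotent (G := F) ⊤ htop
    intro hZ
    apply hx1
    have hxZ : (x : P) ∈ Z := by
      refine Subgroup.mem_inf.mpr ⟨x.2, ?_⟩
      rw [Subgroup.mem_centralizer_iff]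
      intro h hh
      have := Subgroup.mem_center_iff.mp hxc ⟨h, hh⟩
      exact congrArg Subtype.val this
    rw [hZ, Subgroup.mem_bot] at hxZ
    exact Subtype.ext hxZ
  have hZab : ∀ a ∈ Z, ∀ b ∈ Z, a * b = b * a := by
    intro a ha b hb
    have hb2 := (Subgroup.mem_inf.mp hb).2
    rw [Subgroup.mem_centralizer_iff] at hb2
    exact hb2 a (Subgroup.mem_inf.mp ha).1
  have htrZ := Cfsg.Agent.S3680.trans_of_normal hprim Z hZn hZ1
  have hFZ : F ≤ Z := by
    intro c hc
    refine Cfsg.Agent.S3680.mem_of_regular Z Z htrZ htrZ hZab x0 c (fun a ha => ?_)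
    have ha2 := (Subgroup.mem_inf.mp ha).2
    rw [Subgroup.mem_centralizer_iff] at ha2
    exact (ha2 c hc).symm
  have hFab : ∀ a ∈ F, ∀ b ∈ F, a * b = b * a := fun a ha b hb =>
    hZab a (hFZ ha) b (hFZ hb)
  have htrF := Cfsg.Agent.S3680.trans_of_normal hprim F hFn hF
  have hself : ∀ c, (∀ a ∈ F, a * c = c * a) → c ∈ F := fun c hc =>
    Cfsg.Agent.S3680.mem_of_regular F F htrF htrF hFab x0 c hc
  have hsemi : ∀ a ∈ F, ∀ x : X, a • x = x → a = 1 := fun a ha x hx =>
    Cfsg.Agent.S3680.semireg F htrF a (fun b hb => hFab b hb a ha) x hx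
  refine ⟨hFab, ?_, hself, htrF, hsemi⟩
  -- exponent
  have hcard : Nat.card F ≠ 1 := by
    intro h; exact hF (Subgroup.card_eq_one.mp h)
  obtain ⟨p, hp, hpd⟩ := Nat.exists_prime_and_dvd hcard
  haveI := Fact.mk hp
  obtain ⟨x, hx⟩ := exists_prime_orderOf_dvd_card' p hpd
  let K : Subgroup P :=
    { carrier := {y | y ∈ F ∧ y ^ p = 1}
      one_mem' := ⟨F.one_mem, one_pow p⟩
      mul_mem' := by
        rintro a b ⟨ha, ha'⟩ ⟨hb, hb'⟩
        refine ⟨F.mul_mem ha hb, ?_⟩
        rw [(show Commute a b from hFab a ha b hb).mul_pow, ha', hb', one_mul]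
      inv_mem' := by
        rintro a ⟨ha, ha'⟩
        exact ⟨F.inv_mem ha, by rw [inv_pow, ha', inv_one]⟩ }
  have hKn : K.Normal := ⟨by
    rintro a ⟨ha, ha'⟩ g
    refine ⟨hFn.conj_mem a ha g, ?_⟩
    rw [conj_pow, ha', mul_one, mul_inv_cancel]⟩
  have hK1 : K ≠ ⊥ := by
    intro h
    have hxp : ((x : P)) ^ p = 1 := by
      have : x ^ p = 1 := by rw [← hx]; exact pow_orderOf_eq_one x
      have h2 := congrArg Subtype.val this
      simpa using h2
    have hxK : (x : P) ∈ K := ⟨x.2, hxp⟩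
    rw [h, Subgroup.mem_bot] at hxK
    have hx1 : x = 1 := Subtype.ext hxK
    rw [hx1, orderOf_one] at hx
    exact hp.one_lt.ne hx
  have htrK := Cfsg.Agent.S3680.trans_of_normal hprim K hKn hK1
  refine ⟨p, hp, fun c hc => ?_⟩
  have : c ∈ K := Cfsg.Agent.S3680.mem_of_regular F K htrF htrK
    (fun a ha b hb => hFab a ha b hb.1) x0 c (fun a ha => hFab a ha c hc)
  exact this.2


theorem main3497 {G : Type*} [Group G] [Finite G] {Ω : Type*} [Fintype Ω] [MulAction G Ω]
    [FaithfulSMul G Ω] (hprim : MulAction.IsPreprimitive G Ω)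
    (hep : ∀ (α : Ω) (ω : Ω), MulAction.IsPreprimitive (MulAction.stabilizer G α)
      (MulAction.orbit (MulAction.stabilizer G α) ω)) (α : Ω)
    (hH1 : MulAction.stabilizer G α ≠ ⊥) (hHp : ¬ (Nat.card (MulAction.stabilizer G α)).Prime) :
    Subgroup.center (MulAction.stabilizer G α) = ⊥ ∧
    IsMulCommutative (Cfsg.fittingSubgroup (MulAction.stabilizer G α)) ∧
    ∃ p e : ℕ, p.Prime ∧ Nat.card (Cfsg.fittingSubgroup (MulAction.stabilizer G α)) = p ^ e ∧
      (∀ x ∈ Cfsg.fittingSubgroup (MulAction.stabilizer G α), x ^ p = 1) ∧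
      (Cfsg.fittingSubgroup (MulAction.stabilizer G α) ≠ ⊥ →
        p ^ e ∣ Fintype.card Ω - 1 ∧
        ∃ φ : MulAction.stabilizer G α →* GL (Fin e) (ZMod p),
          φ.ker = Cfsg.fittingSubgroup (MulAction.stabilizer G α)) := by
  classical
  set H := stabilizer G α with hHdef
  have hfaith : ∀ ω : Ω, ω ≠ α → FaithfulSMul H (orbit H ω) := by
    intro ω hω
    refine ⟨fun {h1 h2} hh => ?_⟩
    have h3 : h2⁻¹ * h1 = 1 := by
      apply Cfsg.Agent.S3494.main3494 hprim hep α ω hω (h2⁻¹ * h1)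
      intro x hx
      have := congrArg Subtype.val (hh ⟨x, hx⟩)
      have h4 : h1 • x = h2 • x := this
      rw [mul_smul, h4, inv_smul_smul]
    calc h1 = h2 * (h2⁻¹ * h1) := by group
      _ = h2 := by rw [h3, mul_one]
  obtain ⟨h0, hh0⟩ := (Subgroup.ne_bot_iff_exists_ne_one (H := H)).1 hH1
  obtain ⟨ω, hω⟩ := exists_moved (X := Ω) (h0 : G) (fun h => hh0 (Subtype.ext h))
  have hωα : ω ≠ α := by
    rintro rfl
    exact hω h0.2
  haveI := hfaith ω hωα
  have hpω : IsPreprimitive H (orbit H ω) := hep α ω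
  refine ⟨?_, ?_⟩
  · by_contra hZ
    exact hHp (card_prime_of_center hpω hZ)
  by_cases hF : fittingSubgroup H = ⊥
  · refine ⟨⟨⟨fun a b => ?_⟩⟩, 2, 0, Nat.prime_two, ?_, ?_, fun h => absurd hF h⟩
    · have ha : a = 1 := by
        have h' : (a : H) ∈ (⊥ : Subgroup H) := by rw [← hF]; exact a.2
        exact Subtype.ext (Subgroup.mem_bot.mp h')
      have hb : b = 1 := by
        have h' : (b : H) ∈ (⊥ : Subgroup H) := by rw [← hF]; exact b.2
        exact Subtype.ext (Subgroup.mem_bot.mp h')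
      rw [ha, hb]
    · rw [hF, Subgroup.card_bot, pow_zero]
    · intro x hx
      rw [hF, Subgroup.mem_bot] at hx
      rw [hx, one_pow]
  · obtain ⟨hab, ⟨p, hp, hexp⟩, hself, htr, hsemi⟩ := fitting_structure hpω hF
    haveI := Fact.mk hp
    have hFn : (fittingSubgroup H).Normal := by
      rw [Cfsg.Agent.Lib.Helper1.fitting_eq_pCoreSup]
      exact Cfsg.Agent.Lib.Helper1.pCoreSup_normal
    have hpg : IsPGroup p (fittingSubgroup H) := by
      intro x
      refine ⟨1, ?_⟩
      rw [pow_one]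
      exact Subtype.ext (by simpa using hexp x.1 x.2)
    obtain ⟨e, he⟩ := IsPGroup.iff_card.mp hpg
    refine ⟨⟨⟨fun a b => Subtype.ext (hab a.1 a.2 b.1 b.2)⟩⟩, p, e, hp, he, hexp,
      fun _ => ⟨?_, ?_⟩⟩
    · -- divisibility
      letI instY : MulAction (fittingSubgroup H) {y : Ω // y ≠ α} :=
        { smul := fun f y => ⟨((f : H) : G) • (y : Ω), by
            intro h
            apply y.2
            have hf : ((f : H) : G) • α = α := (f : H).2
            exact MulAction.injective (((f : H) : G)) (h.trans hf.symm)⟩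
          one_smul := fun y => Subtype.ext (one_smul G (y : Ω))
          mul_smul := fun f g y => Subtype.ext (mul_smul ((f : H) : G) ((g : H) : G) (y : Ω)) }
      have hfree : ∀ y : {y : Ω // y ≠ α}, stabilizer (fittingSubgroup H) y = ⊥ := by
        intro y
        rw [Subgroup.eq_bot_iff_forall]
        intro f hf
        have hf' : ((f : H) : G) • (y : Ω) = y := congrArg Subtype.val hf
        haveI := hfaith y.1 y.2
        have hs := (fitting_structure (hep α y.1) hF).2.2.2.2
        have := hs f.1 f.2 ⟨y.1, mem_orbit_self _⟩ (Subtype.ext hf')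
        exact Subtype.ext this
      have e1 := MulAction.selfEquivOrbitsQuotientProd hfree
      have hcardY : Nat.card {y : Ω // y ≠ α} =
          Nat.card (Quotient (orbitRel (fittingSubgroup H) {y : Ω // y ≠ α})) *
            Nat.card (fittingSubgroup H) := by
        rw [Nat.card_congr e1, Nat.card_prod]
      have hY : Nat.card {y : Ω // y ≠ α} = Fintype.card Ω - 1 := by
        rw [Nat.card_eq_fintype_card]
        have := Fintype.card_subtype_compl (fun y : Ω => y = α)
        rw [Fintype.card_subtype_eq] at this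
        exact this
      rw [← he, ← hY, hcardY]
      exact dvd_mul_left _ _
    · haveI := hFn
      obtain ⟨φ, hφ⟩ :=
        Cfsg.Agent.Lib.Helper7.ElemAbGL.exists_rep (fittingSubgroup H) p e hab hexp he
      refine ⟨φ, ?_⟩
      rw [hφ]
      apply le_antisymm
      · intro c hc
        rw [Subgroup.mem_centralizer_iff] at hc
        exact hself c hc
      · intro c hc
        rw [Subgroup.mem_centralizer_iff]
        intro a ha
        exact hab a ha c hc

/-- Restrictions on the point stabilizer of an extremely primitive group. Let a finite group G act faithfully and primitively on a finite set Ω with point stabilizers H = G_α whose order is neither 1 nor a prime, each acting primitively on every one of its orbits. Then H has trivial center, the Fitting subgroup F(H) is an elementary abelian p-group for some prime p, and if F(H) ≠ 1 has order p ^ e then p ^ e divides the number of points minus one and H / F(H) embeds in GL_e(p) (there is a homomorphism from H to GL_e(p) with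 kernel exactly F(H)). -/
theorem result {G : Type*} [Group G] [Finite G] {Ω : Type*} [Fintype Ω] [MulAction G Ω] [FaithfulSMul G Ω] (hprim : MulAction.IsPreprimitive G Ω) (hep : ∀ (α : Ω) (ω : Ω), MulAction.IsPreprimitive (MulAction.stabilizer G α) (MulAction.orbit (MulAction.stabilizer G α) ω)) (α : Ω)
    (hH1 : MulAction.stabilizer G α ≠ ⊥) (hHp : ¬ (Nat.card (MulAction.stabilizer G α)).Prime) :
    Subgroup.center (MulAction.stabilizer G α) = ⊥ ∧
    IsMulCommutative (Cfsg.fittingSubgroup (MulAction.stabilizer G α)) ∧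
    ∃ p e : ℕ, p.Prime ∧ Nat.card (Cfsg.fittingSubgroup (MulAction.stabilizer G α)) = p ^ e ∧
      (∀ x ∈ Cfsg.fittingSubgroup (MulAction.stabilizer G α), x ^ p = 1) ∧
      (Cfsg.fittingSubgroup (MulAction.stabilizer G α) ≠ ⊥ →
        p ^ e ∣ Fintype.card Ω - 1 ∧
        ∃ φ : MulAction.stabilizer G α →* GL (Fin e) (ZMod p), φ.ker = Cfsg.fittingSubgroup (MulAction.stabilizer G α)) := by
  exact main3497 hprim hep α hH1 hHp

end Cfsg.Agent.S3497
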