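import Mathlib
import Cfsg.Statements.S3498
import Cfsg.Agent.Lib.Helper7.PGroupNormalizer
import Cfsg.Agent.Lib.Helper7.Conj
import Cfsg.Agent.Lib.Helper1.NPC
import Cfsg.Agent.Lib.Helper2.Index
import Cfsg.Agent.Lib.Helper3.Frattini2
import Cfsg.Agent.Lib.Helper4.HallConv

set_option autoImplicit false
open Cfsg

namespace Cfsg.Agent.S3498

open Cfsg.Agent.Lib.Helper7

/-- A maximal subgroup of a finite almost simple group does not have prime order. Here G is almost simple in the sense that it has a non-abelian simple normal subgroup T with trivial centralizer. -/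
theorem result {G : Type*} [Group G] [Finite G] (T : Subgroup G) [T.Normal] (hT : IsSimpleGroup T) (hTc : ¬ IsMulCommutative T)
    (hC : Subgroup.centralizer (T : Set G) = ⊥) (H : Subgroup G) (hmax : IsCoatom H) : ¬ (Nat.card H).Prime := by
  intro hq
  haveI : Fact (Nat.card H).Prime := ⟨hq⟩
  set q := Nat.card H with hqdef
  have hTn : T.Normal := inferInstance
  have hHp : IsPGroup q H := IsPGroup.of_card (n := 1) (by rw [pow_one])
  haveI hHcyc : IsCyclic H := isCyclic_of_prime_card (p := q) rfl
  have hHcomm : ∀ a b : H, a * b = b * a :=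
    fun a b => (IsCyclic.isMulCommutative (α := H)).is_comm.comm a b
  have hHne : H ≠ ⊤ := hmax.1
  have hHmax : ∀ B : Subgroup G, H < B → B = ⊤ := fun B hB => hmax.2 B hB
  have hHbot : H ≠ ⊥ := by
    intro h
    have h1 : q = 1 := by rw [hqdef, h, Subgroup.card_bot]
    rw [h1] at hq
    exact Nat.not_prime_one hq
  -- T not ≤ H
  have hTH : ¬ T ≤ H := by
    intro hle
    apply hTc
    refine ⟨⟨fun a b => ?_⟩⟩
    have h1 := hHcomm ⟨a, hle a.2⟩ ⟨b, hle b.2⟩
    have h2 : (a : G) * b = b * a := congrArg Subtype.val h1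
    exact Subtype.ext h2
  -- F1: nontrivial normal subgroups contain T
  have F1 : ∀ K : Subgroup G, K.Normal → K ≠ ⊥ → T ≤ K := by
    intro K hK hKne
    haveI := hK
    rcases hT.eq_bot_or_eq_top_of_normal (K.subgroupOf T) inferInstance with h | h
    · exfalso
      have hKT : K ⊓ T = ⊥ := by
        rw [Subgroup.subgroupOf_eq_bot] at h
        exact h.eq_bot
      have hle : K ≤ Subgroup.centralizer (T : Set G) := by
        intro k hk
        rw [Subgroup.mem_centralizer_iff]
        intro t ht
        have hc : k * t * k⁻¹ * t⁻¹ ∈ K ⊓ T := by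
          refine Subgroup.mem_inf.2 ⟨?_, ?_⟩
          · have h1 : t * k⁻¹ * t⁻¹ ∈ K := hK.conj_mem _ (K.inv_mem hk) t
            have h2 := K.mul_mem hk h1
            have e : k * (t * k⁻¹ * t⁻¹) = k * t * k⁻¹ * t⁻¹ := by group
            rw [e] at h2
            exact h2
          · have h1 : k * t * k⁻¹ ∈ T := hTn.conj_mem t ht k
            exact T.mul_mem h1 (T.inv_mem ht)
        rw [hKT, Subgroup.mem_bot] at hc
        have h1 : k * t * k⁻¹ = t := mul_inv_eq_one.1 hc
        have h2 : k * t = t * k := mul_inv_eq_iff_eq_mul.1 h1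
        exact h2.symm
      rw [hC] at hle
      exact hKne (le_bot_iff.1 hle)
    · rw [Subgroup.subgroupOf_eq_top] at h
      exact h
  -- F2
  have F2 : Subgroup.normalizer (H : Set G) = H := by
    by_contra hne
    have hlt : H < Subgroup.normalizer (H : Set G) :=
      lt_of_le_of_ne Subgroup.le_normalizer (Ne.symm hne)
    have htop := hHmax _ hlt
    have hHn : H.Normal := Subgroup.normalizer_eq_top_iff.1 htop
    exact hTH (F1 H hHn hHbot)
  -- F3
  obtain ⟨S, hS⟩ := hHp.exists_le_sylow
  have hSH : (S : Subgroup G) = H := by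
    by_contra hne
    have hlt : H < S := lt_of_le_of_ne hS (Ne.symm hne)
    obtain ⟨x, hxS, hxN, hxH⟩ :=
      exists_mem_normalizer_not_mem (S : Subgroup G) H S.isPGroup' hlt
    rw [F2] at hxN
    exact hxH hxN
  have hNC : Subgroup.normalizer ((S : Subgroup G) : Set G) ≤
      Subgroup.centralizer ((S : Subgroup G) : Set G) := by
    rw [hSH, F2]
    intro x hx
    rw [Subgroup.mem_centralizer_iff]
    intro y hy
    have := hHcomm ⟨y, hy⟩ ⟨x, hx⟩
    exact congrArg Subtype.val this
  obtain ⟨P, K, hKn, hKP⟩ :=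
    Cfsg.Agent.Lib.Helper1.hasNormalPComplement_of_normalizer_le_centralizer S hNC
  have hcardP : Nat.card P = q := by
    have h1 : Nat.card S = q := by
      have : Nat.card (S : Subgroup G) = Nat.card H := by rw [hSH]
      exact this
    rw [Sylow.card_eq_multiplicity] at h1 ⊢
    exact h1
  have hKcard : Nat.card K * q = Nat.card G := by
    rw [← hcardP]; exact hKP.card_mul_card
  have hKne : K ≠ ⊥ := by
    intro h
    rw [h, Subgroup.card_bot, one_mul] at hKcard
    exact hHne ((Subgroup.card_eq_iff_eq_top H).1 hKcard)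
  have hTK : T ≤ K := F1 K hKn hKne
  have hqK : ¬ q ∣ Nat.card K := by
    have h1 : (P : Subgroup G).index = Nat.card K := hKP.index_eq_card
    rw [← h1]
    exact P.not_dvd_index
  have hqT : ¬ q ∣ Nat.card T := fun h => hqK (h.trans (Subgroup.card_dvd_of_le hTK))
  -- a Sylow r-subgroup of T
  haveI : Nontrivial T := hT.toNontrivial
  have hT1 : Nat.card T ≠ 1 := (Finite.one_lt_card (α := T)).ne'
  have hT0 : Nat.card T ≠ 0 := Nat.card_pos.ne'
  set r := (Nat.card T).minFac with hr
  have hrp : r.Prime := Nat.minFac_prime hT1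
  have hrT : r ∣ Nat.card T := Nat.minFac_dvd _
  have hrq : r ≠ q := fun h => hqT (h ▸ hrT)
  haveI : Fact r.Prime := ⟨hrp⟩
  obtain ⟨R₀⟩ : Nonempty (Sylow r T) := inferInstance
  have hfr := Sylow.normalizer_sup_eq_top R₀
  set R : Subgroup G := (R₀ : Subgroup T).map T.subtype with hR
  change Subgroup.normalizer (R : Set G) ⊔ T = ⊤ at hfr
  set a := (Nat.card T).factorization r with ha
  have ha1 : 1 ≤ a := hrp.factorization_pos_of_dvd hT0 hrT
  have hRcard : Nat.card R = r ^ a := by
    rw [← Sylow.card_eq_multiplicity R₀]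
    exact (Nat.card_congr ((R₀ : Subgroup T).equivMapOfInjective T.subtype
      T.subtype_injective).toEquiv).symm
  set N := Subgroup.normalizer (R : Set G) with hN
  have hidx : N.index ∣ Nat.card T := by
    have h1 := Cfsg.Agent.Lib.Helper2.card_sup_mul_card_inf N T
      (by rw [Subgroup.normalizer_eq_top_iff.2 hTn]; exact le_top)
    rw [hfr, Subgroup.card_top] at h1
    have h2 : N.index * Nat.card N = Nat.card G := Subgroup.index_mul_card N
    have hNpos : 0 < Nat.card N := Nat.card_pos
    refine ⟨Nat.card ↥(N ⊓ T), ?_⟩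
    have h3 : Nat.card N * Nat.card T = Nat.card N * (N.index * Nat.card ↥(N ⊓ T)) := by
      rw [← h1, ← h2]; ring
    exact Nat.eq_of_mul_eq_mul_left hNpos h3
  have hqN : ¬ q ∣ N.index := fun h => hqT (h.trans hidx)
  obtain ⟨g, hg⟩ := Cfsg.Agent.Lib.Helper4.exists_conj_mem_of_not_dvd_index q N H hHp hqN
  set R' : Subgroup G := R.map (MulAut.conj g).toMonoidHom with hR'
  have hR'card : Nat.card R' = r ^ a := by rw [hR', card_map_conj, hRcard]
  have hHR' : H ≤ Subgroup.normalizer (R' : Set G) := by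
    intro h hh
    have hn := hg h hh
    rw [hN, Subgroup.mem_normalizer_iff] at hn
    rw [Subgroup.mem_normalizer_iff]
    intro x
    rw [hR', mem_map_conj, mem_map_conj, hn (g⁻¹ * x * g)]
    have e : g⁻¹ * h * g * (g⁻¹ * x * g) * (g⁻¹ * h * g)⁻¹ = g⁻¹ * (h * x * h⁻¹) * g := by group
    rw [e]
  have hdvd := Cfsg.Agent.Lib.Helper3.card_sup_dvd_mul_of_le_normalizer hHR'
  have hlt : H < R' ⊔ H := by
    refine lt_of_le_of_ne le_sup_right ?_
    intro heq
    have hle : R' ≤ H := by rw [heq]; exact le_sup_left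
    have h1 : r ^ a ∣ q := by
      rw [← hR'card]; exact Subgroup.card_dvd_of_le hle
    have h2 : r ∣ q := (dvd_pow_self r (by omega)).trans h1
    exact hrq ((Nat.prime_dvd_prime_iff_eq hrp hq).1 h2)
  have htop := hHmax _ hlt
  rw [htop, Subgroup.card_top, hR'card] at hdvd
  have hTdvd : Nat.card T ∣ r ^ a * q := (Subgroup.card_subgroup_dvd_card T).trans hdvd
  have hcop : (Nat.card T).Coprime q := by
    rw [Nat.coprime_comm]
    exact (Nat.Prime.coprime_iff_not_dvd hq).2 hqT
  have hTdvd' : Nat.card T ∣ r ^ a := hcop.dvd_of_dvd_mul_right hTdvd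
  obtain ⟨b, _, hb⟩ := (Nat.dvd_prime_pow hrp).1 hTdvd'
  have hTp : IsPGroup r T := IsPGroup.of_card hb
  have hcen := hTp.bot_lt_center
  rcases hT.eq_bot_or_eq_top_of_normal (Subgroup.center T) inferInstance with h | h
  · rw [h] at hcen; exact lt_irrefl _ hcen
  · apply hTc
    refine ⟨⟨fun x y => ?_⟩⟩
    have hy : y ∈ Subgroup.center T := by rw [h]; exact Subgroup.mem_top y
    exact (Subgroup.mem_center_iff.1 hy x)

end Cfsg.Agent.S3498
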