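import Cfsg.Statements.S3504
import Mathlib

set_option autoImplicit false
open Cfsg

namespace Cfsg.Agent.S3504

theorem derange_iff_sum {n : ℕ} (g : Equiv.Perm (Fin n)) :
    (∀ i : Fin n, g i ≠ i) ↔ g.cycleType.sum = n := by
  rw [Equiv.Perm.sum_cycleType]
  constructor
  · intro h
    have : g.support = Finset.univ := by
      ext i; simp [Equiv.Perm.mem_support, h i]
    rw [this, Finset.card_univ, Fintype.card_fin]
  · intro h i
    have : g.support = Finset.univ := by
      apply Finset.eq_univ_of_card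
      rw [h, Fintype.card_fin]
    rw [← Equiv.Perm.mem_support, this]
    exact Finset.mem_univ i

theorem lcm_replicate_succ (k q : ℕ) : (Multiset.replicate (k + 1) q).lcm = q := by
  induction k with
  | zero => simp
  | succ k ih =>
    rw [Multiset.replicate_succ, Multiset.lcm_cons, ih]
    simp

theorem exists_derange_prime {n q : ℕ} (hq : q.Prime) (hqn : q ∣ n) (hn : 1 ≤ n) :
    ∃ g : Equiv.Perm (Fin n), orderOf g = q ∧ ∀ i : Fin n, g i ≠ i := by
  obtain ⟨k, hk⟩ := hqn
  have hk1 : 1 ≤ k := by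
    rcases Nat.eq_zero_or_pos k with h | h
    · rw [h, mul_zero] at hk; omega
    · exact h
  obtain ⟨j, rfl⟩ : ∃ j, k = j + 1 := ⟨k - 1, by omega⟩
  have hex : ∃ g : Equiv.Perm (Fin n), g.cycleType = Multiset.replicate (j + 1) q := by
    rw [Equiv.Perm.exists_with_cycleType_iff]
    constructor
    · rw [Multiset.sum_replicate, Fintype.card_fin, hk, smul_eq_mul, mul_comm]
    · intro a ha
      rw [Multiset.eq_of_mem_replicate ha]
      exact hq.two_le
  obtain ⟨g, hg⟩ := hex
  refine ⟨g, ?_, ?_⟩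
  · rw [← Equiv.Perm.lcm_cycleType, hg, lcm_replicate_succ]
  · rw [derange_iff_sum, hg, Multiset.sum_replicate, hk, smul_eq_mul, mul_comm]

theorem cycleType_of_derange_prime {n : ℕ} (g : Equiv.Perm (Fin n)) (hq : (orderOf g).Prime)
    (hd : ∀ i : Fin n, g i ≠ i) :
    orderOf g ∣ n ∧ g.cycleType = Multiset.replicate (n / orderOf g) (orderOf g) := by
  obtain ⟨j, hj⟩ := Equiv.Perm.cycleType_prime_order hq
  have hs := (derange_iff_sum g).mp hd
  rw [hj, Multiset.sum_replicate, smul_eq_mul] at hs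
  have hdiv : n / orderOf g = j + 1 := Nat.div_eq_of_eq_mul_left hq.pos hs.symm
  refine ⟨⟨j + 1, by rw [mul_comm] at hs; exact hs.symm⟩, ?_⟩
  rw [hj, hdiv]


/-- For n ≥ 5, the fixed-point-free permutations of prime order in the symmetric group of degree n form a single conjugacy class if and only if n is a prime power. -/
theorem result (n : ℕ) (hn : 5 ≤ n) :
    Nat.card {c : ConjClasses (Equiv.Perm (Fin n)) // ∃ g : Equiv.Perm (Fin n), ConjClasses.mk g = c ∧ (orderOf g).Prime ∧ ∀ i : Fin n, g i ≠ i} = 1 ↔ IsPrimePow n := by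
  have hn1 : 1 ≤ n := by omega
  constructor
  · intro hcard
    by_contra hnpp
    rw [isPrimePow_iff_card_primeFactors_eq_one] at hnpp
    have hne : n.primeFactors.Nonempty := Nat.nonempty_primeFactors.mpr (by omega)
    have h2 : 1 < n.primeFactors.card := by
      have := Finset.card_pos.mpr hne
      omega
    obtain ⟨p, hp, q, hq, hpq⟩ := Finset.one_lt_card.mp h2
    have hpp := Nat.prime_of_mem_primeFactors hp
    have hqq := Nat.prime_of_mem_primeFactors hq
    obtain ⟨gp, hgp, hdp⟩ := exists_derange_prime hpp (Nat.dvd_of_mem_primeFactors hp) hn1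
    obtain ⟨gq, hgq, hdq⟩ := exists_derange_prime hqq (Nat.dvd_of_mem_primeFactors hq) hn1
    have hsub := (Nat.card_eq_one_iff_unique.mp hcard).1
    have heq := @Subsingleton.elim _ hsub
      ⟨ConjClasses.mk gp, gp, rfl, by rw [hgp]; exact hpp, hdp⟩
      ⟨ConjClasses.mk gq, gq, rfl, by rw [hgq]; exact hqq, hdq⟩
    have h3 : ConjClasses.mk gp = ConjClasses.mk gq := congrArg Subtype.val heq
    rw [ConjClasses.mk_eq_mk_iff_isConj, Equiv.Perm.isConj_iff_cycleType_eq] at h3
    apply hpq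
    rw [← hgp, ← hgq, ← Equiv.Perm.lcm_cycleType, ← Equiv.Perm.lcm_cycleType, h3]
  · intro hpp
    rw [isPrimePow_nat_iff] at hpp
    obtain ⟨p, k, hp, hk, hpk⟩ := hpp
    have hpn : p ∣ n := by rw [← hpk]; exact dvd_pow_self p hk.ne'
    obtain ⟨g₀, hg₀, hd₀⟩ := exists_derange_prime hp hpn hn1
    rw [Nat.card_eq_one_iff_unique]
    refine ⟨⟨?_⟩, ⟨⟨ConjClasses.mk g₀, g₀, rfl, by rw [hg₀]; exact hp, hd₀⟩⟩⟩
    rintro ⟨c₁, g₁, rfl, hq₁, hd₁⟩ ⟨c₂, g₂, rfl, hq₂, hd₂⟩
    apply Subtype.ext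
    change ConjClasses.mk g₁ = ConjClasses.mk g₂
    rw [ConjClasses.mk_eq_mk_iff_isConj, Equiv.Perm.isConj_iff_cycleType_eq]
    obtain ⟨h1, e1⟩ := cycleType_of_derange_prime g₁ hq₁ hd₁
    obtain ⟨h2, e2⟩ := cycleType_of_derange_prime g₂ hq₂ hd₂
    have o1 : orderOf g₁ = p := by
      have h1' : orderOf g₁ ∣ p ^ k := by rw [hpk]; exact h1
      exact (Nat.prime_dvd_prime_iff_eq hq₁ hp).mp (hq₁.dvd_of_dvd_pow h1')
    have o2 : orderOf g₂ = p := by
      have h2' : orderOf g₂ ∣ p ^ k := by rw [hpk]; exact h2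
      exact (Nat.prime_dvd_prime_iff_eq hq₂ hp).mp (hq₂.dvd_of_dvd_pow h2')
    rw [e1, e2, o1, o2]

end Cfsg.Agent.S3504
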