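import Cfsg.Statements.S3508
import Mathlib

set_option autoImplicit false
open Cfsg

namespace Cfsg.Agent.S3508

def Pseq {N : Type*} [Monoid N] (φ : N → N) (b : N) : ℕ → N
  | 0 => 1
  | (n+1) => Pseq φ b n * (φ^[n]) b

def Sseq {V : Type*} [AddMonoid V] (f : V → V) (b : V) : ℕ → V
  | 0 => 0
  | (n+1) => Sseq f b n + (f^[n]) b

theorem poly_id1 (p : ℕ) [Fact p.Prime] (k : ℕ) :
    ((Polynomial.X : Polynomial (ZMod p)) - 1) ^ (p ^ k) = Polynomial.X ^ (p ^ k) - 1 := by
  rw [sub_pow_char_pow, one_pow]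

theorem poly_id2 (p : ℕ) [Fact p.Prime] (k : ℕ) :
    (∑ i ∈ Finset.range (p ^ k), (Polynomial.X : Polynomial (ZMod p)) ^ i)
      = (Polynomial.X - 1) ^ (p ^ k - 1) := by
  have h1 : (∑ i ∈ Finset.range (p ^ k), (Polynomial.X : Polynomial (ZMod p)) ^ i)
      * (Polynomial.X - 1) = Polynomial.X ^ (p^k) - 1 := geom_sum_mul _ _
  have hpos : 0 < p ^ k := pow_pos (Fact.out : p.Prime).pos k
  have h2 : ((Polynomial.X : Polynomial (ZMod p)) - 1) ^ (p ^ k - 1) * (Polynomial.X - 1)
      = Polynomial.X ^ (p^k) - 1 := by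
    rw [← pow_succ, Nat.sub_add_cancel hpos, poly_id1]
  have hne : (Polynomial.X : Polynomial (ZMod p)) - 1 ≠ 0 := by
    have := Polynomial.X_sub_C_ne_zero (1 : ZMod p)
    simpa using this
  exact mul_right_cancel₀ hne (h1.trans h2.symm)

theorem core_aux {V : Type*} [AddCommGroup V] (p m : ℕ) [hp : Fact p.Prime] [Module (ZMod p) V]
    [Finite V] (hcard : Nat.card V = p ^ m) (f : V →+ V) (r : ℕ)
    (hf : ∀ v, (f^[p ^ r]) v = v) (k : ℕ) (hk : m + 1 ≤ p ^ k) :
    (∀ v, (f^[p ^ k]) v = v) ∧ ∀ b, Sseq f b (p ^ k) = 0 := by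
  set A : Module.End (ZMod p) V := f.toZModLinearMap p with hA
  have hA_apply : ∀ v : V, A v = f v := fun v => rfl
  have hA_iter : ∀ (j : ℕ) (v : V), (A ^ j) v = f^[j] v := by
    intro j
    induction j with
    | zero => intro v; rfl
    | succ j ih =>
      intro v
      rw [pow_succ', Module.End.mul_apply, ih, hA_apply, Function.iterate_succ_apply']
  have hA1 : A ^ (p ^ r) = 1 := by
    apply LinearMap.ext
    intro v
    rw [hA_iter, hf]; rfl
  have hpoly : ∀ j, (A - 1) ^ (p ^ j) = A ^ (p ^ j) - 1 := by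
    intro j
    have := congrArg (Polynomial.aeval A) (poly_id1 p j)
    simpa using this
  have hδ : (A - 1) ^ (p ^ r) = 0 := by rw [hpoly, hA1, sub_self]
  have hnil : IsNilpotent (A - 1) := ⟨p ^ r, hδ⟩
  haveI : Module.Finite (ZMod p) V := Module.Finite.of_finite
  have hfr : Module.finrank (ZMod p) V = m := by
    have h1 := Module.natCard_eq_pow_finrank (K := ZMod p) (V := V)
    rw [Nat.card_zmod, hcard] at h1
    exact (Nat.pow_right_injective hp.out.two_le h1).symm
  have hδm : (A - 1) ^ m = 0 := by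
    have h1 := hnil.charpoly_eq_X_pow_finrank
    have h2 := LinearMap.aeval_self_charpoly (A - 1)
    rw [h1, map_pow, Polynomial.aeval_X, hfr] at h2
    exact h2
  have hs1 : (A - 1) ^ (p ^ k) = 0 := pow_eq_zero_of_le (by omega) hδm
  have hs2 : (A - 1) ^ (p ^ k - 1) = 0 := pow_eq_zero_of_le (by omega) hδm
  have hAs : A ^ (p ^ k) = 1 := by
    have := hpoly k
    rw [hs1] at this
    exact (sub_eq_zero.1 this.symm)
  have hsum : ∑ i ∈ Finset.range (p ^ k), A ^ i = 0 := by
    have := congrArg (Polynomial.aeval A) (poly_id2 p k)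
    simp only [map_sum, map_pow, Polynomial.aeval_X, map_sub, map_one] at this
    rw [this, hs2]
  refine ⟨?_, ?_⟩
  · intro v
    have := hA_iter (p ^ k) v
    rw [hAs] at this
    exact this.symm
  · intro b
    have hlink : ∀ n, Sseq f b n = (∑ i ∈ Finset.range n, A ^ i) b := by
      intro n
      induction n with
      | zero => simp [Sseq]
      | succ n ih =>
        rw [Finset.sum_range_succ, LinearMap.add_apply, ← ih, hA_iter]
        rfl
    rw [hlink (p ^ k), hsum]; rfl

theorem core {N : Type*} [CommGroup N] [Finite N] (p m : ℕ) [hp : Fact p.Prime]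
    (hcard : Nat.card N = p ^ m) (hexp : ∀ n : N, n ^ p = 1) (φ : N →* N) (r : ℕ)
    (hφ : ∀ n, (φ^[p ^ r]) n = n) (k : ℕ) (hk : m + 1 ≤ p ^ k) :
    (∀ n, (φ^[p ^ k]) n = n) ∧ ∀ b, Pseq φ b (p ^ k) = 1 := by
  have hx : ∀ x : Additive N, p • x = 0 := fun x => by
    show p • Additive.ofMul (Additive.toMul x) = 0
    rw [← ofMul_pow, hexp]; rfl
  have hiter : ∀ (j : ℕ) (n : N), (⇑(MonoidHom.toAdditive φ))^[j] (Additive.ofMul n)
      = Additive.ofMul (φ^[j] n) := by
    intro j
    induction j with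
    | zero => intro n; rfl
    | succ j ih =>
      intro n
      rw [Function.iterate_succ_apply', Function.iterate_succ_apply', ih]; rfl
  obtain ⟨h1, h2⟩ := @core_aux (Additive N) _ p m _ (AddCommGroup.zmodModule hx) _ hcard
    (MonoidHom.toAdditive φ) r (fun v => by
      have := hiter (p ^ r) (Additive.toMul v)
      rw [hφ] at this
      exact this) k hk
  refine ⟨?_, ?_⟩
  · intro n
    have := h1 (Additive.ofMul n)
    rw [hiter] at this
    exact congrArg Additive.toMul this
  · intro b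
    have hlink : ∀ n, Sseq (⇑(MonoidHom.toAdditive φ)) (Additive.ofMul b) n
        = Additive.ofMul (Pseq φ b n) := by
      intro n
      induction n with
      | zero => rfl
      | succ n ih =>
        show Sseq _ _ n + _ = Additive.ofMul (Pseq φ b n * (φ^[n]) b)
        rw [ih, hiter]; rfl
    have := h2 (Additive.ofMul b)
    rw [hlink] at this
    exact congrArg Additive.toMul this


def Pconj {G : Type*} [Group G] (g b : G) : ℕ → G
  | 0 => 1
  | (n+1) => Pconj g b n * (g^n * b * (g^n)⁻¹)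

theorem conj_eq {G : Type*} [Group G] (N : Subgroup G) [hN : N.Normal]
    (hcomm : ∀ x ∈ N, ∀ y ∈ N, x * y = y * x) (b h : G) (hb : b ∈ N) :
    ∀ i, ∀ x ∈ N, h^i * x * (h^i)⁻¹ = (b*h)^i * x * ((b*h)^i)⁻¹ := by
  intro i
  induction i with
  | zero => intro x _; simp
  | succ i ih =>
    intro x hx
    have hy : (b*h)^i * x * ((b*h)^i)⁻¹ ∈ N := hN.conj_mem x hx _
    obtain ⟨y, hydef⟩ : ∃ y, y = (b*h)^i * x * ((b*h)^i)⁻¹ := ⟨_, rfl⟩
    rw [← hydef] at hy
    have hz : h * y * h⁻¹ ∈ N := hN.conj_mem y hy h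
    have e1 : h^(i+1) * x * (h^(i+1))⁻¹ = h * (h^i * x * (h^i)⁻¹) * h⁻¹ := by
      rw [pow_succ']; generalize h^i = c; group
    have e2 : (b*h)^(i+1) * x * ((b*h)^(i+1))⁻¹ = (b*h) * y * (b*h)⁻¹ := by
      rw [hydef, pow_succ']; generalize (b*h)^i = c; group
    rw [e1, ih x hx, e2, ← hydef]
    have e3 : (b*h) * y * (b*h)⁻¹ = b * (h * y * h⁻¹) * b⁻¹ := by group
    rw [e3, hcomm b hb _ hz]; group

theorem pow_decomp {G : Type*} [Group G] (N : Subgroup G) [hN : N.Normal]
    (hcomm : ∀ x ∈ N, ∀ y ∈ N, x * y = y * x) (b h : G) (hb : b ∈ N) :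
    ∀ n, (b*h)^n = Pconj (b*h) b n * h^n := by
  intro n
  induction n with
  | zero => simp [Pconj]
  | succ n ih =>
    have hc := conj_eq N hcomm b h hb n b hb
    show (b*h)^(n+1) = Pconj (b*h) b n * ((b*h)^n * b * ((b*h)^n)⁻¹) * h^(n+1)
    rw [← hc, pow_succ, ih, pow_succ]
    generalize Pconj (b*h) b n = P
    generalize h^n = c
    group

theorem two_pow_ge (n : ℕ) (hn : 2 ≤ n) : n + 2 ≤ 2 ^ n := by
  induction n, hn using Nat.le_induction with
  | base => norm_num
  | succ n hn ih => rw [pow_succ]; omega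

theorem three_pow_ge (n : ℕ) (hn : 1 ≤ n) : n + 2 ≤ 3 ^ n := by
  induction n, hn using Nat.le_induction with
  | base => norm_num
  | succ n hn ih => rw [pow_succ]; omega

theorem main3508 {G : Type*} [Group G] [Finite G] {Ω : Type*} [Fintype Ω] [MulAction G Ω] [FaithfulSMul G Ω] (p m : ℕ) (hp : p.Prime) (hcard : Fintype.card Ω = p ^ m)
    (N : Subgroup G) [N.Normal] (hNc : IsMulCommutative N) (hNp : ∀ n ∈ N, n ^ p = 1)
    (hNtr : MulAction.IsPretransitive N Ω) (hNreg : ∀ ω : Ω, MulAction.stabilizer N ω = ⊥)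
    (g : G) (r : ℕ) (hr : 1 ≤ r) (hg : orderOf g = p ^ r) :
    p ^ (r - 1) ≤ m ∧ (r = m → m ≤ 2 ∧ (2 < p → m ≤ 1)) := by
  haveI : Fact p.Prime := ⟨hp⟩
  have hcomm : ∀ x ∈ N, ∀ y ∈ N, x * y = y * x := by
    intro x hx y hy
    have := hNc.is_comm.comm (⟨x, hx⟩ : N) ⟨y, hy⟩
    exact congrArg Subtype.val this
  have hΩ : Nonempty Ω := by
    rw [← Fintype.card_pos_iff, hcard]; exact pow_pos hp.pos m
  obtain ⟨ω₀⟩ := hΩ
  have hcardN : Nat.card N = p ^ m := by
    rw [← hcard, ← Nat.card_eq_fintype_card]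
    apply Nat.card_congr
    refine Equiv.ofBijective (fun n : N => n • ω₀) ⟨?_, ?_⟩
    · intro n n' hnn
      have h1 : n'⁻¹ * n ∈ MulAction.stabilizer N ω₀ := by
        rw [MulAction.mem_stabilizer_iff, mul_smul]
        show n'⁻¹ • (n • ω₀) = ω₀
        have : n • ω₀ = n' • ω₀ := hnn
        rw [this, inv_smul_smul]
      rw [hNreg ω₀, Subgroup.mem_bot] at h1
      exact (inv_mul_eq_one.1 h1).symm
    · intro ω
      exact MulAction.exists_smul_eq N ω₀ ω
  have key : ∀ k, m + 1 ≤ p ^ k → g ^ (p ^ k) = 1 := by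
    intro k hk
    obtain ⟨b, hbω⟩ := MulAction.exists_smul_eq N ω₀ (g • ω₀)
    obtain ⟨h, hh⟩ : ∃ h : G, h = (b : G)⁻¹ * g := ⟨_, rfl⟩
    have hgb : g = (b : G) * h := by rw [hh]; group
    have hstab : h • ω₀ = ω₀ := by
      rw [hh, mul_smul, ← hbω]
      show (b : G)⁻¹ • ((b : G) • ω₀) = ω₀
      exact inv_smul_smul _ _
    let instCG : CommGroup N :=
      { (inferInstance : Group N) with mul_comm := fun a b => hNc.is_comm.comm a b }
    let φ : N →* N := (MulAut.conjNormal g : N ≃* N).toMonoidHom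
    have hφ_apply : ∀ x : N, ((φ x : N) : G) = g * x * g⁻¹ := fun x => MulAut.conjNormal_apply g x
    have hiterφ : ∀ (i : ℕ) (x : N), (((φ^[i]) x : N) : G) = g^i * x * (g^i)⁻¹ := by
      intro i
      induction i with
      | zero => intro x; simp
      | succ i ih =>
        intro x
        rw [Function.iterate_succ_apply', hφ_apply, ih, pow_succ']
        generalize g^i = c
        group
    have hφ : ∀ n : N, (φ^[p ^ r]) n = n := by
      intro n
      apply Subtype.ext
      rw [hiterφ, ← hg, pow_orderOf_eq_one]; simp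
    have hexp : ∀ n : N, n ^ p = 1 := by
      intro n
      apply Subtype.ext
      have := hNp n n.2
      simpa using this
    obtain ⟨c1, c2⟩ := @core N instCG _ p m _ hcardN hexp φ r hφ k hk
    have hconj := conj_eq N hcomm (b : G) h b.2
    rw [← hgb] at hconj
    have hhs : h ^ (p ^ k) = 1 := by
      apply FaithfulSMul.eq_of_smul_eq_smul (α := Ω)
      intro ω
      obtain ⟨n, rfl⟩ := MulAction.exists_smul_eq N ω₀ ω
      rw [one_smul]
      have h1 : h ^ (p^k) * (n : G) * (h ^ (p^k))⁻¹ = n := by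
        rw [hconj (p^k) n n.2, ← hiterφ, c1]
      have h2 : h ^ (p^k) * (n : G) = (n : G) * h ^ (p^k) := by
        have := congrArg (· * h^(p^k)) h1
        simpa [mul_assoc] using this
      have h3 : h ^ (p^k) • ω₀ = ω₀ := by
        have : h ∈ MulAction.stabilizer G ω₀ := hstab
        exact (MulAction.stabilizer G ω₀).pow_mem this _
      show h ^ (p^k) • ((n : G) • ω₀) = (n : G) • ω₀
      rw [← mul_smul, h2, mul_smul, h3]
    have hPlink : ∀ n, ((Pseq φ b n : N) : G) = Pconj g (b : G) n := by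
      intro n
      induction n with
      | zero => rfl
      | succ n ih =>
        show ((Pseq φ b n * (φ^[n]) b : N) : G) = Pconj g (b : G) n * (g^n * b * (g^n)⁻¹)
        rw [Subgroup.coe_mul, ih, hiterφ]
    have hP : Pconj g (b : G) (p ^ k) = 1 := by
      rw [← hPlink, c2 b]; rfl
    have hdec := pow_decomp N hcomm (b : G) h b.2 (p ^ k)
    rw [← hgb] at hdec
    rw [hdec, hP, hhs, one_mul]
  have hmain : p ^ (r - 1) ≤ m := by
    by_contra hcon
    push Not at hcon
    have h1 := key (r - 1) (by omega)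
    have h2 : p ^ r ∣ p ^ (r - 1) := by rw [← hg]; exact orderOf_dvd_of_pow_eq_one h1
    have h3 : p ^ r ≤ p ^ (r - 1) := Nat.le_of_dvd (pow_pos hp.pos _) h2
    have h4 : p ^ (r - 1) < p ^ r := Nat.pow_lt_pow_right hp.one_lt (by omega)
    omega
  refine ⟨hmain, ?_⟩
  intro hrm
  subst hrm
  constructor
  · by_contra hcon
    push Not at hcon
    have h1 := two_pow_ge (r - 1) (by omega)
    have h2 : 2 ^ (r - 1) ≤ p ^ (r - 1) := Nat.pow_le_pow_left hp.two_le _
    omega
  · intro hp2
    by_contra hcon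
    push Not at hcon
    have h1 := three_pow_ge (r - 1) (by omega)
    have h2 : 3 ^ (r - 1) ≤ p ^ (r - 1) := Nat.pow_le_pow_left (by omega) _
    omega


/-- Let a finite group G act faithfully on a set Ω with p ^ m points (p prime) and have an elementary abelian normal p-subgroup N acting regularly on Ω (so G is a group of affine transformations of an m-dimensional space over the field with p elements). If G contains an element of order p ^ r with r ≥ 1, then p ^ (r − 1) ≤ m. In particular an element of order p ^ m forces m ≤ 2, and m ≤ 1 when p is odd. -/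
theorem result {G : Type*} [Group G] [Finite G] {Ω : Type*} [Fintype Ω] [MulAction G Ω] [FaithfulSMul G Ω] (p m : ℕ) (hp : p.Prime) (hcard : Fintype.card Ω = p ^ m)
    (N : Subgroup G) [N.Normal] (hNc : IsMulCommutative N) (hNp : ∀ n ∈ N, n ^ p = 1)
    (hNtr : MulAction.IsPretransitive N Ω) (hNreg : ∀ ω : Ω, MulAction.stabilizer N ω = ⊥)
    (g : G) (r : ℕ) (hr : 1 ≤ r) (hg : orderOf g = p ^ r) :
    p ^ (r - 1) ≤ m ∧ (r = m → m ≤ 2 ∧ (2 < p → m ≤ 1)) := by
  exact main3508 p m hp hcard N hNc hNp hNtr hNreg g r hr hg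

end Cfsg.Agent.S3508
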