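import Cfsg.Statements.S3511
import Mathlib

set_option autoImplicit false
open Cfsg

namespace Cfsg.Agent.S3511

theorem squarefree_rad (n : ℕ) : Squarefree (∏ p ∈ n.primeFactors, p) := by
  apply Finset.squarefree_prod_of_pairwise_isCoprime
  · intro p hp q hq hpq
    have hp' := Nat.prime_of_mem_primeFactors (Finset.mem_coe.mp hp)
    have hq' := Nat.prime_of_mem_primeFactors (Finset.mem_coe.mp hq)
    change IsRelPrime p q
    rw [← Nat.coprime_iff_isRelPrime]
    exact (Nat.coprime_primes hp' hq').mpr hpq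
  · intro p hp
    exact (Nat.prime_iff.mp (Nat.prime_of_mem_primeFactors hp)).squarefree


/-- Let a finite group G act faithfully on a set Ω. If every element of G of square-free order has a regular cycle (an orbit of the cyclic group it generates with trivial stabilizer), then every element of G has a regular cycle. -/
theorem result {G : Type*} [Group G] [Finite G] {Ω : Type*} [MulAction G Ω] [FaithfulSMul G Ω]
    (h : ∀ g : G, Squarefree (orderOf g) → ∃ ω : Ω, MulAction.stabilizer (Subgroup.zpowers g) ω = ⊥) (g : G) :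
    ∃ ω : Ω, MulAction.stabilizer (Subgroup.zpowers g) ω = ⊥ := by
  set n := orderOf g with hn
  have hnpos : 0 < n := orderOf_pos g
  set r := ∏ p ∈ n.primeFactors, p with hr
  have hrn : r ∣ n := Nat.prod_primeFactors_dvd n
  obtain ⟨m, hm⟩ := hrn
  have hmpos : 0 < m := by
    rcases Nat.eq_zero_or_pos m with h0 | h0
    · rw [h0, mul_zero] at hm; omega
    · exact h0
  have hrpos : 0 < r := by
    rcases Nat.eq_zero_or_pos r with h0 | h0
    · rw [h0, zero_mul] at hm; omega
    · exact h0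
  have hgo : orderOf (g ^ m) = r := by
    rw [orderOf_pow_of_dvd hmpos.ne' ⟨r, by rw [← hn, hm, mul_comm]⟩, ← hn, hm]
    exact Nat.mul_div_cancel _ hmpos
  obtain ⟨ω, hω⟩ := h (g ^ m) (by rw [hgo]; exact squarefree_rad n)
  refine ⟨ω, ?_⟩
  rw [Subgroup.eq_bot_iff_forall]
  rintro ⟨x, hx⟩ hxs
  rw [MulAction.mem_stabilizer_iff] at hxs
  have hxω : x • ω = ω := hxs
  by_contra hx1
  have hx1' : x ≠ 1 := fun h1 => hx1 (Subtype.ext h1)
  set d := orderOf x with hd
  have hd1 : d ≠ 1 := fun h1 => hx1' (orderOf_eq_one_iff.mp h1)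
  have hdpos : 0 < d := orderOf_pos x
  set q := Nat.minFac d with hq
  have hqp : q.Prime := Nat.minFac_prime hd1
  obtain ⟨e, he⟩ := Nat.minFac_dvd d
  have hepos : 0 < e := by
    rcases Nat.eq_zero_or_pos e with h0 | h0
    · rw [h0, mul_zero] at he; omega
    · exact h0
  have hyo : orderOf (x ^ e) = q := by
    rw [orderOf_pow_of_dvd hepos.ne' ⟨q, by rw [← hd, he, mul_comm]⟩, ← hd, he]
    exact Nat.mul_div_cancel _ hepos
  have hyz : x ^ e ∈ Subgroup.zpowers g := (Subgroup.zpowers g).pow_mem hx e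
  have hqn : q ∣ n := by
    have := orderOf_dvd_of_mem_zpowers hyz
    rwa [hyo] at this
  have hyω : (x ^ e) • ω = ω := by
    have : x ∈ MulAction.stabilizer G ω := hxω
    exact (MulAction.stabilizer G ω).pow_mem this e
  rw [← mem_powers_iff_mem_zpowers] at hyz
  obtain ⟨j, hj⟩ := hyz
  have hj' : g ^ j = x ^ e := hj
  obtain ⟨t, ht⟩ := hqn
  have hjq : n ∣ j * q := by
    apply orderOf_dvd_of_pow_eq_one
    rw [pow_mul, hj', ← hyo, pow_orderOf_eq_one]
  have htj : t ∣ j := by
    rw [ht, mul_comm q t] at hjq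
    exact Nat.dvd_of_mul_dvd_mul_right hqp.pos hjq
  obtain ⟨i, hi⟩ := htj
  have hqr : q ∣ r := by
    apply Finset.dvd_prod_of_mem
    rw [Nat.mem_primeFactors]
    exact ⟨hqp, ⟨t, ht⟩, hnpos.ne'⟩
  obtain ⟨s, hs⟩ := hqr
  have hts : t = s * m := by
    have : q * t = q * (s * m) := by rw [← ht, hm, hs]; ring
    exact Nat.eq_of_mul_eq_mul_left hqp.pos this
  have hy_mem : x ^ e ∈ Subgroup.zpowers (g ^ m) := by
    rw [← hj', hi, hts]
    refine ⟨((s * i : ℕ) : ℤ), ?_⟩
    simp only [zpow_natCast]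
    rw [← pow_mul]
    congr 1
    ring
  have hmem : (⟨x ^ e, hy_mem⟩ : Subgroup.zpowers (g ^ m)) ∈
      MulAction.stabilizer (Subgroup.zpowers (g ^ m)) ω := by
    rw [MulAction.mem_stabilizer_iff]
    exact hyω
  rw [hω, Subgroup.mem_bot] at hmem
  have hy1 : x ^ e = 1 := congrArg Subtype.val hmem
  rw [hy1, orderOf_one] at hyo
  exact hqp.one_lt.ne hyo

end Cfsg.Agent.S3511
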