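import Mathlib
import Cfsg.Statements.S3514
import Cfsg.Agent.Lib.Helper2.Index
import Cfsg.Agent.Lib.Helper4.HallConv

set_option autoImplicit false
open Cfsg

namespace Cfsg.Agent.S3514

/-- Orbit–stabilizer for a subgroup acting through the ambient group. -/
theorem orbit_card {L V : Type*} [Group L] [MulAction L V] [Finite L] (X : Subgroup L) (v : V) :
    Nat.card {u : V | ∃ x ∈ X, x • v = u} * Nat.card ↥(X ⊓ MulAction.stabilizer L v) =
      Nat.card X := by
  have h1 := MulAction.index_stabilizer X v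
  have h2 := Subgroup.index_mul_card (MulAction.stabilizer X v)
  have h3 : MulAction.orbit X v = {u : V | ∃ x ∈ X, x • v = u} := by
    ext u
    rw [MulAction.mem_orbit_iff]
    constructor
    · rintro ⟨x, hx⟩
      exact ⟨x.1, x.2, hx⟩
    · rintro ⟨x, hx, hxu⟩
      exact ⟨⟨x, hx⟩, hxu⟩
  have h4 : MulAction.stabilizer X v = (MulAction.stabilizer L v).subgroupOf X := by
    ext x
    rw [MulAction.mem_stabilizer_iff, Subgroup.mem_subgroupOf, MulAction.mem_stabilizer_iff]
    rfl
  rw [h1, h3, h4, Cfsg.Agent.Lib.Helper4.card_subgroupOf_eq_card_inf, ← Nat.card_coe_set_eq,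
    inf_comm] at h2
  exact h2

/-- Let p be a prime, V a finite vector space over the field with p elements, and H a group of linear transformations of V all of whose orbits on V have size coprime to p. (i) Every normal subgroup K of H has all its orbits on V of size coprime to p. (ii) If N is a group of linear transformations of V of order coprime to p that is normalized by H, then the group generated by N and H has all its orbits on V of size coprime to p. -/
theorem result (p : ℕ) [Fact p.Prime] {V : Type*} [AddCommGroup V] [Module (ZMod p) V] [Finite V]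
    (H : Subgroup (V ≃ₗ[ZMod p] V)) (hH : ∀ v : V, ¬ p ∣ Nat.card {u : V | ∃ h ∈ H, h v = u}) :
    (∀ K : Subgroup (V ≃ₗ[ZMod p] V), K ≤ H → H ≤ Subgroup.normalizer (K : Set (V ≃ₗ[ZMod p] V)) →
        ∀ v : V, ¬ p ∣ Nat.card {u : V | ∃ k ∈ K, k v = u}) ∧
    (∀ N : Subgroup (V ≃ₗ[ZMod p] V), ¬ p ∣ Nat.card N → H ≤ Subgroup.normalizer (N : Set (V ≃ₗ[ZMod p] V)) →
        ∀ v : V, ¬ p ∣ Nat.card {u : V | ∃ x ∈ N ⊔ H, x v = u}) := by
  haveI : Finite (V ≃ₗ[ZMod p] V) :=
    Finite.of_injective (fun f => (f : V → V)) DFunLike.coe_injective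
  have hp : p.Prime := Fact.out
  have orb : ∀ (X : Subgroup (V ≃ₗ[ZMod p] V)) (v : V),
      Nat.card {u : V | ∃ x ∈ X, x v = u} *
        Nat.card ↥(X ⊓ MulAction.stabilizer (V ≃ₗ[ZMod p] V) v) = Nat.card X :=
    fun X v => orbit_card X v
  refine ⟨?_, ?_⟩
  · intro K hKH hHK v hdvd
    apply hH v
    set St := MulAction.stabilizer (V ≃ₗ[ZMod p] V) v with hSt
    have hK := orb K v
    have hHo := orb H v
    have h1 := Cfsg.Agent.Lib.Helper2.card_sup_mul_card_inf (H ⊓ St) K
      (inf_le_left.trans hHK)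
    have h2 : (H ⊓ St) ⊓ K = K ⊓ St := by
      rw [inf_comm, ← inf_assoc, inf_of_le_left hKH]
    rw [h2] at h1
    have hle : (H ⊓ St) ⊔ K ≤ H := sup_le inf_le_left hKH
    obtain ⟨m, hm⟩ := Subgroup.card_dvd_of_le hle
    set oK := Nat.card {u : V | ∃ k ∈ K, k v = u} with hoK
    set oH := Nat.card {u : V | ∃ h ∈ H, h v = u} with hoH
    have hpos : 0 < Nat.card ↥(K ⊓ St) := Nat.card_pos
    have hposH : 0 < Nat.card ↥(H ⊓ St) := Nat.card_pos
    -- |HvK| = |Hv| * oK
    have h3 : Nat.card ↥((H ⊓ St) ⊔ K) = Nat.card ↥(H ⊓ St) * oK := by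
      have : Nat.card ↥((H ⊓ St) ⊔ K) * Nat.card ↥(K ⊓ St) =
          Nat.card ↥(H ⊓ St) * oK * Nat.card ↥(K ⊓ St) := by
        rw [h1, ← hK]; ring
      exact Nat.eq_of_mul_eq_mul_right hpos this
    have h4 : oH = oK * m := by
      have : oH * Nat.card ↥(H ⊓ St) = oK * m * Nat.card ↥(H ⊓ St) := by
        rw [hHo, hm, h3]; ring
      exact Nat.eq_of_mul_eq_mul_right hposH this
    rw [h4]
    exact hdvd.mul_right m
  · intro N hN hHN v hdvd
    set St := MulAction.stabilizer (V ≃ₗ[ZMod p] V) v with hSt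
    have hX := orb (N ⊔ H) v
    have hHo := orb H v
    have h1 := Cfsg.Agent.Lib.Helper2.card_sup_mul_card_inf H N hHN
    rw [sup_comm] at h1
    have hle : H ⊓ St ≤ (N ⊔ H) ⊓ St := inf_le_inf_right _ le_sup_right
    obtain ⟨c, hc⟩ := Subgroup.card_dvd_of_le hle
    set oX := Nat.card {u : V | ∃ x ∈ N ⊔ H, x v = u} with hoX
    set oH := Nat.card {u : V | ∃ h ∈ H, h v = u} with hoH
    have hposH : 0 < Nat.card ↥(H ⊓ St) := Nat.card_pos
    have h2 : oX * c * Nat.card ↥(H ⊓ N) = Nat.card N * oH := by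
      have : oX * c * Nat.card ↥(H ⊓ N) * Nat.card ↥(H ⊓ St) =
          Nat.card N * oH * Nat.card ↥(H ⊓ St) := by
        calc oX * c * Nat.card ↥(H ⊓ N) * Nat.card ↥(H ⊓ St)
            = (oX * (Nat.card ↥(H ⊓ St) * c)) * Nat.card ↥(H ⊓ N) := by ring
          _ = Nat.card ↥(N ⊔ H) * Nat.card ↥(H ⊓ N) := by rw [← hc, hX]
          _ = Nat.card H * Nat.card N := h1
          _ = Nat.card N * oH * Nat.card ↥(H ⊓ St) := by rw [← hHo]; ring
      exact Nat.eq_of_mul_eq_mul_right hposH this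
    have h3 : p ∣ Nat.card N * oH := by
      rw [← h2]
      exact (hdvd.mul_right c).mul_right _
    rcases (Nat.Prime.dvd_mul hp).1 h3 with h | h
    · exact hN h
    · exact hH v h

end Cfsg.Agent.S3514
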