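import Cfsg.Statements.S3515
import Mathlib


set_option autoImplicit false
open Cfsg

namespace Cfsg.Agent.S3515


theorem case_two (G : Subgroup (Equiv.Perm (Fin 2 → ZMod 2))) (σ : Equiv.Perm (Fin 2 → ZMod 2))
    (hσ : ∀ t : Fin 3 → (Fin 2 → ZMod 2), ∃ g ∈ G, ∀ i, σ (t i) = g (t i)) : σ ∈ G := by
  obtain ⟨g, hgG, hg⟩ := hσ ![![0,0], ![1,0], ![0,1]]
  have h0 : σ ![0,0] = g ![0,0] := hg 0
  have h1 : σ ![1,0] = g ![1,0] := hg 1
  have h2 : σ ![0,1] = g ![0,1] := hg 2
  have h10 : (1 : ZMod 2) ≠ 0 := by decide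
  have hcases : ∀ v : Fin 2 → ZMod 2,
      v = ![0,0] ∨ v = ![1,0] ∨ v = ![0,1] ∨ v = ![1,1] := by
    intro v
    have hz : ∀ a : ZMod 2, a = 0 ∨ a = 1 := by decide
    have hv : v = ![v 0, v 1] := by
      ext i; fin_cases i <;> rfl
    rcases hz (v 0) with a | a <;> rcases hz (v 1) with b | b <;> rw [hv, a, b] <;> simp
  have h3 : σ ![1,1] = g ![1,1] := by
    have hw := hcases (g.symm (σ ![1,1]))
    rcases hw with hw | hw | hw | hw
    · exfalso
      have h : σ ![1,1] = g ![0,0] := by rw [← hw, Equiv.apply_symm_apply]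
      rw [← h0] at h
      have h' := σ.injective h
      exact h10 (by simpa using congrFun h' 0)
    · exfalso
      have h : σ ![1,1] = g ![1,0] := by rw [← hw, Equiv.apply_symm_apply]
      rw [← h1] at h
      have h' := σ.injective h
      exact h10 (by simpa using congrFun h' 1)
    · exfalso
      have h : σ ![1,1] = g ![0,1] := by rw [← hw, Equiv.apply_symm_apply]
      rw [← h2] at h
      have h' := σ.injective h
      exact h10 (by simpa using congrFun h' 0)
    · have h := Equiv.apply_symm_apply g (σ ![1,1])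
      rw [hw] at h
      exact h.symm
  have : σ = g := by
    apply Equiv.ext
    intro v
    rcases hcases v with rfl | rfl | rfl | rfl
    exacts [h0, h1, h2, h3]
  rw [this]; exact hgG

theorem case_odd (p : ℕ) [Fact p.Prime] (hp2 : p ≠ 2)
    (G : Subgroup (Equiv.Perm (Fin 2 → ZMod p)))
    (haff : (G : Set (Equiv.Perm (Fin 2 → ZMod p))) ⊆ {τ : Equiv.Perm (Fin 2 → ZMod p) |
      ∃ (A : (Fin 2 → ZMod p) ≃ₗ[ZMod p] (Fin 2 → ZMod p)) (b : Fin 2 → ZMod p),
        ∀ x, τ x = A x + b})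
    (htrans : ∀ b : Fin 2 → ZMod p, ∃ g ∈ G, ∀ x, g x = x + b)
    (σ : Equiv.Perm (Fin 2 → ZMod p))
    (hσ : ∀ t : Fin 3 → (Fin 2 → ZMod p), ∃ g ∈ G, ∀ i, σ (t i) = g (t i)) : σ ∈ G := by
  have hpp : p.Prime := Fact.out
  have h2 : (2 : ZMod p) ≠ 0 := by
    intro h
    have h' : ((2 : ℕ) : ZMod p) = 0 := by exact_mod_cast h
    rw [ZMod.natCast_eq_zero_iff] at h'
    have := Nat.le_of_dvd (by norm_num) h'
    have := hpp.two_le
    omega
  obtain ⟨c, hc⟩ : ∃ c : ZMod p, c = (2 : ZMod p)⁻¹ := ⟨_, rfl⟩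
  have hc2 : c * 2 = 1 := by rw [hc]; exact inv_mul_cancel₀ h2
  have h2c : 2 * c = 1 := by rw [hc]; exact mul_inv_cancel₀ h2
  obtain ⟨t, htG, ht⟩ := htrans (-(σ 0))
  suffices hs : t * σ ∈ G by
    have : σ = t⁻¹ * (t * σ) := by group
    rw [this]
    exact G.mul_mem (G.inv_mem htG) hs
  have hτ : ∀ tr : Fin 3 → (Fin 2 → ZMod p), ∃ g ∈ G, ∀ i, (t * σ) (tr i) = g (tr i) := by
    intro tr
    obtain ⟨g, hgG, hg⟩ := hσ tr
    refine ⟨t * g, G.mul_mem htG hgG, fun i => ?_⟩
    rw [Equiv.Perm.mul_apply, Equiv.Perm.mul_apply, hg i]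
  have h0 : (t * σ) 0 = 0 := by
    rw [Equiv.Perm.mul_apply, ht]; simp
  generalize t * σ = τ at hτ h0 ⊢
  have mid : ∀ x y, τ (c • (x + y)) = c • (τ x + τ y) := by
    intro x y
    obtain ⟨g, hgG, hg⟩ := hτ ![x, y, c • (x + y)]
    obtain ⟨A, b, hAb⟩ := haff hgG
    have e0 : τ x = g x := hg 0
    have e1 : τ y = g y := hg 1
    have e2 : τ (c • (x + y)) = g (c • (x + y)) := hg 2
    rw [hAb] at e0 e1 e2
    have hb : c • (b + b) = b := by rw [← two_smul (ZMod p) b, smul_smul, hc2, one_smul]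
    rw [e2, e0, e1, map_smul, map_add]
    have : A x + b + (A y + b) = (A x + A y) + (b + b) := by abel
    rw [this, smul_add c (A x + A y) (b + b), hb]
  have half : ∀ x, τ (c • x) = c • τ x := by
    intro x
    have := mid x 0
    rwa [add_zero, h0, add_zero] at this
  have hadd : ∀ x y, τ (x + y) = τ x + τ y := by
    intro x y
    have h := mid x y
    rw [half] at h
    have := congrArg (fun z => (2 : ZMod p) • z) h
    simpa only [smul_smul, h2c, one_smul] using this
  let f : (Fin 2 → ZMod p) →+ (Fin 2 → ZMod p) := AddMonoidHom.mk' τ hadd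
  obtain ⟨g, hgG, hg⟩ := hτ ![0, Pi.single 0 1, Pi.single 1 1]
  obtain ⟨A, b, hAb⟩ := haff hgG
  have hb : b = 0 := by
    have : τ 0 = g 0 := hg 0
    rw [h0, hAb, map_zero, zero_add] at this
    exact this.symm
  have e1 : τ (Pi.single 0 1) = A (Pi.single 0 1) := by
    have : τ (Pi.single 0 1) = g (Pi.single 0 1) := hg 1
    rw [this, hAb, hb, add_zero]
  have e2 : τ (Pi.single 1 1) = A (Pi.single 1 1) := by
    have : τ (Pi.single 1 1) = g (Pi.single 1 1) := hg 2
    rw [this, hAb, hb, add_zero]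
  have hlin : AddMonoidHom.toZModLinearMap p f =
      (A : (Fin 2 → ZMod p) →ₗ[ZMod p] (Fin 2 → ZMod p)) := by
    apply LinearMap.pi_ext
    intro i x
    have hx : (Pi.single i x : Fin 2 → ZMod p) = x • Pi.single i 1 := by
      ext j
      simp [Pi.single_apply]
    rw [hx, map_smul, map_smul]
    congr 1
    fin_cases i
    · exact e1
    · exact e2
  have : τ = g := by
    apply Equiv.ext
    intro v
    have := LinearMap.congr_fun hlin v
    rw [hAb, hb, add_zero]
    exact this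
  rw [this]; exact hgG
/-- Every primitive affine permutation group of degree p² is 3-closed. Let p be a prime and G a group of permutations of the plane V = F_p² consisting of affine maps x ↦ Ax + b, containing all translations, and acting primitively on V. Then any permutation σ of V that agrees on every triple of points with some element of G (σ preserves every G-orbit on ordered triples) already lies in G. -/
theorem result (p : ℕ) [Fact p.Prime] (G : Subgroup (Equiv.Perm (Fin 2 → ZMod p)))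
    (haff : (G : Set (Equiv.Perm (Fin 2 → ZMod p))) ⊆ {τ : Equiv.Perm (Fin 2 → ZMod p) | ∃ (A : (Fin 2 → ZMod p) ≃ₗ[ZMod p] (Fin 2 → ZMod p)) (b : Fin 2 → ZMod p), ∀ x, τ x = A x + b})
    (htrans : ∀ b : Fin 2 → ZMod p, ∃ g ∈ G, ∀ x, g x = x + b) (hprim : MulAction.IsPreprimitive G (Fin 2 → ZMod p))
    (σ : Equiv.Perm (Fin 2 → ZMod p)) (hσ : (∀ t : Fin 3 → (Fin 2 → ZMod p), ∃ g ∈ G, ∀ i, σ (t i) = g (t i))) : σ ∈ G := by
  by_cases hp2 : p = 2
  · subst hp2
    exact case_two G σ hσ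
  · exact case_odd p hp2 G haff htrans σ hσ


end Cfsg.Agent.S3515
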