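import Cfsg.Statements.S3516
import Mathlib


set_option autoImplicit false
open Cfsg

namespace Cfsg.Agent.S3516

set_option maxHeartbeats 800000 in
/-- Let p be an odd prime, d ≥ 3, and G a group of affine permutations x ↦ Ax + b of V = F_p^d containing all translations and all maps x ↦ Ax with A of determinant 1. Then the 3-closure of G is the full affine group: a permutation σ of V agrees on every triple of points with some element of G if and only if σ is an affine map. -/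
theorem result (p : ℕ) [Fact p.Prime] (hp : p ≠ 2) (d : ℕ) (hd : 3 ≤ d) (G : Subgroup (Equiv.Perm (Fin d → ZMod p)))
    (haff : (G : Set (Equiv.Perm (Fin d → ZMod p))) ⊆ {τ : Equiv.Perm (Fin d → ZMod p) | ∃ (A : (Fin d → ZMod p) ≃ₗ[ZMod p] (Fin d → ZMod p)) (b : Fin d → ZMod p), ∀ x, τ x = A x + b})
    (htrans : ∀ b : Fin d → ZMod p, ∃ g ∈ G, ∀ x, g x = x + b)
    (hsl : ∀ A : (Fin d → ZMod p) ≃ₗ[ZMod p] (Fin d → ZMod p), LinearMap.det (A : (Fin d → ZMod p) →ₗ[ZMod p] (Fin d → ZMod p)) = 1 → ∃ g ∈ G, ∀ x, g x = A x)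
    (σ : Equiv.Perm (Fin d → ZMod p)) :
    (∀ t : Fin 3 → (Fin d → ZMod p), ∃ g ∈ G, ∀ i, σ (t i) = g (t i)) ↔ σ ∈ {τ : Equiv.Perm (Fin d → ZMod p) | ∃ (A : (Fin d → ZMod p) ≃ₗ[ZMod p] (Fin d → ZMod p)) (b : Fin d → ZMod p), ∀ x, τ x = A x + b} := by
  classical
  have hp2 : (2 : ZMod p) ≠ 0 := by
    intro h
    have h3 : ((2 : ℕ) : ZMod p) = 0 := by exact_mod_cast h
    have h4 := (ZMod.natCast_eq_zero_iff 2 p).1 h3
    have h5 := Nat.le_of_dvd (by norm_num) h4
    have h6 := (Fact.out : p.Prime).two_le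
    omega
  obtain ⟨h, hh⟩ : ∃ h : ZMod p, h + h = 1 :=
    ⟨(2 : ZMod p)⁻¹, by rw [← two_mul, mul_inv_cancel₀ hp2]⟩
  have hsplit : ∀ z : Fin d → ZMod p, h • z + h • z = z := fun z => by
    rw [← add_smul, hh, one_smul]
  constructor
  · intro hσ
    have hmid : ∀ x y : Fin d → ZMod p, σ (h • (x + y)) = h • (σ x + σ y) := by
      intro x y
      obtain ⟨g, hg, hgt⟩ := hσ ![x, y, h • (x + y)]
      obtain ⟨A, b, hAb⟩ := haff hg
      have h0 : σ x = g x := hgt 0
      have h1 : σ y = g y := hgt 1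
      have h2 : σ (h • (x + y)) = g (h • (x + y)) := hgt 2
      rw [h2, h0, h1, hAb, hAb, hAb, map_smul, map_add]
      conv_lhs => rw [← hsplit b]
      simp only [smul_add]
      abel
    obtain ⟨b₀, hb₀⟩ : ∃ b₀, b₀ = σ 0 := ⟨_, rfl⟩
    have hτmid : ∀ x y : Fin d → ZMod p,
        σ (h • (x + y)) - b₀ = h • ((σ x - b₀) + (σ y - b₀)) := by
      intro x y
      rw [hmid]
      conv_lhs => rw [← hsplit b₀]
      simp only [smul_add, smul_sub]
      abel
    have hhalf : ∀ x : Fin d → ZMod p, σ (h • x) - b₀ = h • (σ x - b₀) := by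
      intro x
      have h1 := hτmid x 0
      rw [add_zero, ← hb₀, sub_self, add_zero] at h1
      exact h1
    have hdouble : ∀ x : Fin d → ZMod p, σ (x + x) - b₀ = (σ x - b₀) + (σ x - b₀) := by
      intro x
      have h1 := hhalf (x + x)
      rw [smul_add, hsplit] at h1
      rw [← hsplit (σ (x + x) - b₀), ← h1]
    have hadd : ∀ x y : Fin d → ZMod p, σ (x + y) - b₀ = (σ x - b₀) + (σ y - b₀) := by
      intro x y
      have h1 := hτmid (x + x) (y + y)
      have h2 : h • (x + x + (y + y)) = x + y := by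
        simp only [smul_add]
        rw [hsplit, hsplit]
      rw [h2, hdouble, hdouble] at h1
      rw [h1]
      simp only [smul_add]
      rw [hsplit, hsplit]
    obtain ⟨τ, hτ⟩ : ∃ τ : (Fin d → ZMod p) →+ (Fin d → ZMod p), ∀ x, τ x = σ x - b₀ :=
      ⟨AddMonoidHom.mk' (fun x => σ x - b₀) hadd, fun x => rfl⟩
    obtain ⟨L, hL⟩ : ∃ L : (Fin d → ZMod p) →ₗ[ZMod p] (Fin d → ZMod p), ∀ x, L x = σ x - b₀ :=
      ⟨AddMonoidHom.toZModLinearMap p τ, fun x => hτ x⟩
    have hbij : Function.Bijective L := by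
      constructor
      · intro x y hxy
        rw [hL, hL] at hxy
        exact σ.injective (sub_left_injective hxy)
      · intro y
        obtain ⟨x, hx⟩ := σ.surjective (y + b₀)
        exact ⟨x, by rw [hL, hx, add_sub_cancel_right]⟩
    show ∃ (A : (Fin d → ZMod p) ≃ₗ[ZMod p] (Fin d → ZMod p)) (b : Fin d → ZMod p),
      ∀ x, σ x = A x + b
    refine ⟨LinearEquiv.ofBijective L hbij, b₀, fun x => ?_⟩
    rw [LinearEquiv.ofBijective_apply, hL, sub_add_cancel]
  · rintro ⟨A, b, hAb⟩ t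
    obtain ⟨W, hW⟩ : ∃ W : Submodule (ZMod p) (Fin d → ZMod p),
        W = Submodule.span (ZMod p) ({t 1 - t 0, t 2 - t 0} : Set (Fin d → ZMod p)) := ⟨_, rfl⟩
    have hWtop : W < ⊤ := by
      rw [lt_top_iff_ne_top]
      intro htop
      have h1 : Module.finrank (ZMod p) W ≤ 2 := by
        rw [hW]
        have h2 := finrank_span_finset_le_card (R := ZMod p)
          ({t 1 - t 0, t 2 - t 0} : Finset (Fin d → ZMod p))
        simp only [Set.finrank] at h2
        rw [Finset.coe_pair] at h2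
        exact h2.trans Finset.card_le_two
      rw [htop, finrank_top, Module.finrank_fin_fun] at h1
      omega
    obtain ⟨f, hf0, hfW⟩ := Submodule.exists_le_ker_of_lt_top W hWtop
    obtain ⟨v₀, hv₀⟩ : ∃ v₀, f v₀ ≠ 0 := by
      by_contra hcon
      push_neg at hcon
      apply hf0
      exact LinearMap.ext hcon
    have hdetA : LinearMap.det (A : (Fin d → ZMod p) →ₗ[ZMod p] (Fin d → ZMod p)) ≠ 0 :=
      (LinearEquiv.isUnit_det' A).ne_zero
    obtain ⟨δ, hδ⟩ : ∃ δ, δ =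
        (LinearMap.det (A : (Fin d → ZMod p) →ₗ[ZMod p] (Fin d → ZMod p)))⁻¹ := ⟨_, rfl⟩
    obtain ⟨v, hv⟩ : ∃ v, v = ((δ - 1) * (f v₀)⁻¹) • v₀ := ⟨_, rfl⟩
    have hfv : f v = δ - 1 := by
      rw [hv, map_smul, smul_eq_mul, mul_assoc, inv_mul_cancel₀ hv₀, mul_one]
    obtain ⟨D, hD⟩ : ∃ D, D = LinearMap.transvection f v := ⟨_, rfl⟩
    have hdetD : LinearMap.det D = δ := by
      rw [hD, LinearMap.transvection.det, hfv]; ring
    have hDW : ∀ w ∈ W, D w = w := by
      intro w hw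
      rw [hD, LinearMap.transvection.apply, LinearMap.mem_ker.1 (hfW hw), zero_smul, add_zero]
    have hdetAD : LinearMap.det
        ((A : (Fin d → ZMod p) →ₗ[ZMod p] (Fin d → ZMod p)) ∘ₗ D) = 1 := by
      rw [LinearMap.det_comp, hdetD, hδ, mul_inv_cancel₀ hdetA]
    obtain ⟨A', hA'⟩ : ∃ A' : (Fin d → ZMod p) ≃ₗ[ZMod p] (Fin d → ZMod p),
        ∀ x, A' x = A (D x) := by
      refine ⟨LinearMap.equivOfDetNeZero
        ((A : (Fin d → ZMod p) →ₗ[ZMod p] (Fin d → ZMod p)) ∘ₗ D)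
        (by rw [hdetAD]; exact one_ne_zero), fun x => ?_⟩
      rfl
    have hdetA' : LinearMap.det (A' : (Fin d → ZMod p) →ₗ[ZMod p] (Fin d → ZMod p)) = 1 := by
      have h1 : (A' : (Fin d → ZMod p) →ₗ[ZMod p] (Fin d → ZMod p)) =
          (A : (Fin d → ZMod p) →ₗ[ZMod p] (Fin d → ZMod p)) ∘ₗ D := by
        apply LinearMap.ext
        intro x
        exact hA' x
      rw [h1, hdetAD]
    obtain ⟨g₁, hg₁, hg₁x⟩ := hsl A' hdetA'
    obtain ⟨g₂, hg₂, hg₂x⟩ := htrans (σ (t 0) - A' (t 0))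
    refine ⟨g₂ * g₁, G.mul_mem hg₂ hg₁, fun i => ?_⟩
    have hi : t i - t 0 ∈ W := by
      rw [hW]
      fin_cases i
      · simp
      · exact Submodule.subset_span (by simp)
      · exact Submodule.subset_span (by simp)
    have h5 := hDW _ hi
    rw [map_sub] at h5
    have h6 : A (D (t i)) - A (D (t 0)) = A (t i) - A (t 0) := by
      rw [← map_sub, h5, map_sub]
    have h7 : A (D (t i)) = A (t i) - A (t 0) + A (D (t 0)) := by rw [← h6]; abel
    rw [Equiv.Perm.mul_apply, hg₂x, hg₁x, hA' (t i), hA' (t 0), hAb (t i), hAb (t 0), h7]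
    abel

end Cfsg.Agent.S3516
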