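import Cfsg.Statements.S3517
import Mathlib
import Cfsg.Agent.Lib.Helper6.LinIndep

set_option autoImplicit false
open Cfsg

namespace Cfsg.Agent.S3517

open Cfsg.Agent.Lib.Helper6 in
theorem pair_indep_F2 (d : ℕ) (u1 u2 : Fin d → ZMod 2) (h1 : u1 ≠ 0) (h2 : u2 ≠ 0)
    (h12 : u1 ≠ u2) : LinearIndependent (ZMod 2) ![u1, u2] := by
  rw [LinearIndependent.pair_iff]
  intro s t hst
  have key : ∀ a : ZMod 2, a = 0 ∨ a = 1 := by decide
  rcases key s with rfl | rfl <;> rcases key t with rfl | rfl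
  · exact ⟨rfl, rfl⟩
  · exfalso; apply h2; simpa using hst
  · exfalso; apply h1; simpa using hst
  · exfalso; apply h12
    funext i
    have := congrFun hst i
    simp only [one_smul, Pi.add_apply, Pi.zero_apply] at this
    have key2 : ∀ a b : ZMod 2, a + b = 0 → a = b := by decide
    exact key2 _ _ this

open Cfsg.Agent.Lib.Helper6 in
theorem exists_affine (d : ℕ) (u1 u2 v1 v2 : Fin d → ZMod 2)
    (h1 : u1 = 0 ↔ v1 = 0) (h2 : u2 = 0 ↔ v2 = 0) (h12 : u1 = u2 ↔ v1 = v2) :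
    ∃ A : (Fin d → ZMod 2) ≃ₗ[ZMod 2] (Fin d → ZMod 2), A u1 = v1 ∧ A u2 = v2 := by
  by_cases hu1 : u1 = 0
  · have hv1 := h1.mp hu1
    by_cases hu2 : u2 = 0
    · have hv2 := h2.mp hu2
      exact ⟨LinearEquiv.refl _ _, by simp [hu1, hv1], by simp [hu2, hv2]⟩
    · have hv2 : v2 ≠ 0 := fun h => hu2 (h2.mpr h)
      obtain ⟨A, hA⟩ := exists_linearEquiv_single (K := ZMod 2) hu2 hv2
      exact ⟨A, by simp [hu1, hv1], hA⟩
  · have hv1 : v1 ≠ 0 := fun h => hu1 (h1.mpr h)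
    by_cases hu2 : u2 = 0
    · have hv2 := h2.mp hu2
      obtain ⟨A, hA⟩ := exists_linearEquiv_single (K := ZMod 2) hu1 hv1
      exact ⟨A, hA, by simp [hu2, hv2]⟩
    · have hv2 : v2 ≠ 0 := fun h => hu2 (h2.mpr h)
      by_cases he : u1 = u2
      · have hve := h12.mp he
        obtain ⟨A, hA⟩ := exists_linearEquiv_single (K := ZMod 2) hu1 hv1
        exact ⟨A, hA, by rw [← he, ← hve]; exact hA⟩
      · have hve : v1 ≠ v2 := fun h => he (h12.mpr h)
        exact exists_linearEquiv_pair (pair_indep_F2 d u1 u2 hu1 hu2 he)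
          (pair_indep_F2 d v1 v2 hv1 hv2 hve)


/-- For d ≥ 3, the 3-closure of the affine group AGL_d(2) acting on F_2^d is the full symmetric group: every permutation of F_2^d agrees on every ordered triple of points with some affine map (AGL_d(2) is 3-transitive). -/
theorem result (d : ℕ) (hd : 3 ≤ d) (σ : Equiv.Perm (Fin d → ZMod 2)) (t : Fin 3 → (Fin d → ZMod 2)) :
    ∃ (A : (Fin d → ZMod 2) ≃ₗ[ZMod 2] (Fin d → ZMod 2)) (b : Fin d → ZMod 2), ∀ i, σ (t i) = A (t i) + b := by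
  obtain ⟨A, hA1, hA2⟩ := exists_affine d (t 1 - t 0) (t 2 - t 0) (σ (t 1) - σ (t 0))
    (σ (t 2) - σ (t 0))
    (by rw [sub_eq_zero, sub_eq_zero, σ.injective.eq_iff])
    (by rw [sub_eq_zero, sub_eq_zero, σ.injective.eq_iff])
    (by rw [sub_left_inj, sub_left_inj, σ.injective.eq_iff])
  refine ⟨A, σ (t 0) - A (t 0), ?_⟩
  intro i
  fin_cases i
  · simp
  · simp only [map_sub] at hA1
    change σ (t 1) = A (t 1) + (σ (t 0) - A (t 0))
    calc σ (t 1) = (σ (t 1) - σ (t 0)) + σ (t 0) := by abel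
      _ = (A (t 1) - A (t 0)) + σ (t 0) := by rw [hA1]
      _ = _ := by abel
  · simp only [map_sub] at hA2
    change σ (t 2) = A (t 2) + (σ (t 0) - A (t 0))
    calc σ (t 2) = (σ (t 2) - σ (t 0)) + σ (t 0) := by abel
      _ = (A (t 2) - A (t 0)) + σ (t 0) := by rw [hA2]
      _ = _ := by abel

end Cfsg.Agent.S3517
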