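import Cfsg.Statements.S3524
-- import your own Cfsg.Agent.* helpers here

set_option autoImplicit false
open Cfsg

namespace Cfsg.Agent.S3524

/-- A permutation group with a base of size k is (k + 1)-closed: if some k points α_1, …, α_k have trivial pointwise stabilizer in G, then every permutation σ that agrees on each (k + 1)-tuple of points with some element of G (that is, preserves all orbits of G on (k + 1)-tuples) belongs to G. -/
theorem result {Ω : Type*} (G : Subgroup (Equiv.Perm Ω)) (k : ℕ) (α : Fin k → Ω)
    (hbase : ∀ g ∈ G, (∀ i, g (α i) = α i) → g = 1) (σ : Equiv.Perm Ω)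
    (hσ : ∀ t : Fin (k + 1) → Ω, ∃ g ∈ G, ∀ i, σ (t i) = g (t i)) : σ ∈ G := by
  by_cases hΩ : Nonempty Ω
  · obtain ⟨ω₀⟩ := hΩ
    obtain ⟨g, hgG, hg⟩ := hσ (Fin.snoc α ω₀)
    have hgα : ∀ i : Fin k, σ (α i) = g (α i) := by
      intro i
      have := hg i.castSucc
      simpa using this
    have : σ = g := by
      ext ω
      obtain ⟨g', hg'G, hg'⟩ := hσ (Fin.snoc α ω)
      have hg'α : ∀ i : Fin k, σ (α i) = g' (α i) := by
        intro i
        have := hg' i.castSucc
        simpa using this
      have hω : σ ω = g' ω := by
        have := hg' (Fin.last k)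
        simpa using this
      have h1 : g⁻¹ * g' = 1 := by
        apply hbase _ (G.mul_mem (G.inv_mem hgG) hg'G)
        intro i
        rw [Equiv.Perm.mul_apply, ← hg'α i, hgα i]
        simp
      have : g' = g := by
        have := congrArg (fun x => g * x) h1
        simpa using this
      rw [hω, this]
    rw [this]; exact hgG
  · have : σ = 1 := by
      ext ω
      exact (hΩ ⟨ω⟩).elim
    rw [this]; exact G.one_mem

end Cfsg.Agent.S3524
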