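import Cfsg.Statements.S3532
import Mathlib
import Cfsg.Agent.Lib.Helper2.SL2Orders


set_option autoImplicit false
open Cfsg

namespace Cfsg.Agent.S3532


set_option linter.style.haveILetI false
set_option linter.unusedSectionVars false
set_option linter.unusedVariables false

section affine
variable (K : Type*) [Field K]

/-- multiplication action of the units on the additive group, written multiplicatively -/
noncomputable def phi : Kˣ →* MulAut (Multiplicative K) :=
  (MulAutMultiplicative K).symm.toMonoidHom.comp AddAut.mulLeft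

theorem phi_apply (a : Kˣ) (x : Multiplicative K) :
    phi K a x = Multiplicative.ofAdd ((a : K) * Multiplicative.toAdd x) := rfl

/-- the subgroup of the affine group `K ⋊ Kˣ` with multiplier of order dividing `m` -/
noncomputable def Msub (m : ℕ) : Subgroup (Multiplicative K ⋊[phi K] Kˣ) where
  carrier := {h | h.right ^ m = 1}
  mul_mem' := by
    intro a b ha hb
    simp only [Set.mem_ofPred_eq] at ha hb ⊢
    rw [SemidirectProduct.mul_right, mul_pow, ha, hb, one_mul]
  one_mem' := by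
    simp only [Set.mem_ofPred_eq]
    rw [SemidirectProduct.one_right, one_pow]
  inv_mem' := by
    intro a ha
    simp only [Set.mem_ofPred_eq] at ha ⊢
    rw [SemidirectProduct.inv_right, inv_pow, ha, inv_one]

theorem mem_Msub (m : ℕ) (h : Multiplicative K ⋊[phi K] Kˣ) : h ∈ Msub K m ↔ h.right ^ m = 1 :=
  Iff.rfl

theorem aff_solvable : Group.IsSolvable (Multiplicative K ⋊[phi K] Kˣ) :=
  Group.isSolvable_of_ker_le_range (SemidirectProduct.inl) (SemidirectProduct.rightHom)
    (le_of_eq SemidirectProduct.range_inl_eq_ker_rightHom.symm)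

theorem aff_finite [Finite K] : Finite (Multiplicative K ⋊[phi K] Kˣ) :=
  Finite.of_equiv _ SemidirectProduct.equivProd.symm

theorem order_right_ne (h : Multiplicative K ⋊[phi K] Kˣ) (ha : h.right ≠ 1) :
    orderOf h = orderOf h.right := by
  have hne : ((h.right : Kˣ) : K) - 1 ≠ 0 := by
    intro e
    apply ha
    apply Units.ext
    rw [Units.val_one]
    exact sub_eq_zero.1 e
  obtain ⟨c, hc⟩ : ∃ c : Multiplicative K,
      c = Multiplicative.ofAdd (Multiplicative.toAdd h.left / (((h.right : Kˣ) : K) - 1)) := ⟨_, rfl⟩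
  have hconj : MulAut.conj (SemidirectProduct.inl c) h = SemidirectProduct.inr h.right := by
    rw [MulAut.conj_apply]
    apply SemidirectProduct.ext
    · rw [SemidirectProduct.mul_left, SemidirectProduct.mul_left, SemidirectProduct.mul_right,
        SemidirectProduct.left_inl, SemidirectProduct.right_inl, map_one, MulAut.one_apply,
        one_mul, ← map_inv, SemidirectProduct.left_inl, SemidirectProduct.left_inr, phi_apply]
      apply Multiplicative.toAdd.injective
      rw [hc]
      show Multiplicative.toAdd h.left / (((h.right : Kˣ) : K) - 1) + Multiplicative.toAdd h.left +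
        ((h.right : Kˣ) : K) * (-(Multiplicative.toAdd h.left / (((h.right : Kˣ) : K) - 1))) = 0
      field_simp
      ring
    · rw [SemidirectProduct.mul_right, SemidirectProduct.mul_right, SemidirectProduct.right_inl,
        ← map_inv, SemidirectProduct.right_inl, SemidirectProduct.right_inr, one_mul, mul_one]
  have h1 := orderOf_injective (MulAut.conj (SemidirectProduct.inl c : Multiplicative K ⋊[phi K] Kˣ)).toMonoidHom
    (MulAut.conj (SemidirectProduct.inl c : Multiplicative K ⋊[phi K] Kˣ)).injective h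
  have h2 := orderOf_injective (SemidirectProduct.inr : Kˣ →* Multiplicative K ⋊[phi K] Kˣ)
    SemidirectProduct.inr_injective h.right
  rw [← h1, ← h2]
  congr 1

theorem order_right_eq (p : ℕ) [Fact p.Prime] [CharP K p] (h : Multiplicative K ⋊[phi K] Kˣ)
    (ha : h.right = 1) : orderOf h ∣ p := by
  apply orderOf_dvd_of_pow_eq_one
  have h1 : h = SemidirectProduct.inl h.left := by
    apply SemidirectProduct.ext
    · rw [SemidirectProduct.left_inl]
    · rw [SemidirectProduct.right_inl, ha]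
  have h2 : h.left ^ p = 1 := by
    apply Multiplicative.toAdd.injective
    rw [toAdd_pow, nsmul_eq_mul, CharP.cast_eq_zero, zero_mul]
    rfl
  rw [h1, ← map_pow, h2, map_one]

theorem order_inl_one (p : ℕ) [Fact p.Prime] [CharP K p] :
    orderOf (SemidirectProduct.inl (Multiplicative.ofAdd (1 : K)) : Multiplicative K ⋊[phi K] Kˣ) = p := by
  rw [orderOf_injective (SemidirectProduct.inl : Multiplicative K →* Multiplicative K ⋊[phi K] Kˣ)
    SemidirectProduct.inl_injective, orderOf_ofAdd_eq_addOrderOf]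
  apply addOrderOf_eq_prime
  · rw [nsmul_eq_mul, CharP.cast_eq_zero, zero_mul]
  · exact one_ne_zero

open Cfsg.Agent.Lib.Helper2.SL2Orders in
theorem spec_M [Finite K] (p : ℕ) [Fact p.Prime] [CharP K p] (m : ℕ) (hm : m ∣ Nat.card Kˣ) :
    Set.range (orderOf : ↥(Msub K m) → ℕ) = {k | k ∣ p ∨ k ∣ m} := by
  classical
  ext k
  simp only [Set.mem_range, Set.mem_ofPred_eq]
  constructor
  · rintro ⟨x, rfl⟩
    rw [← Subgroup.orderOf_coe]
    have hx := (mem_Msub K m x.1).1 x.2
    by_cases ha : (x : Multiplicative K ⋊[phi K] Kˣ).right = 1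
    · left; exact order_right_eq K p _ ha
    · right
      rw [order_right_ne K _ ha]
      exact orderOf_dvd_of_pow_eq_one hx
  · rintro (h | h)
    · rcases (Nat.Prime.eq_one_or_self_of_dvd (Fact.out : p.Prime) k h) with rfl | rfl
      · exact ⟨1, orderOf_one⟩
      · refine ⟨⟨SemidirectProduct.inl (Multiplicative.ofAdd (1 : K)), ?_⟩, ?_⟩
        · rw [mem_Msub, SemidirectProduct.right_inl, one_pow]
        · rw [← Subgroup.orderOf_coe]
          exact order_inl_one K k
    · obtain ⟨a, ha⟩ := exists_order (G := Kˣ) k (h.trans hm)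
      refine ⟨⟨SemidirectProduct.inr a, ?_⟩, ?_⟩
      · rw [mem_Msub, SemidirectProduct.right_inr, ← orderOf_dvd_iff_pow_eq_one, ha]
        exact h
      · rw [← Subgroup.orderOf_coe]
        show orderOf (SemidirectProduct.inr a : Multiplicative K ⋊[phi K] Kˣ) = k
        rw [orderOf_injective (SemidirectProduct.inr : Kˣ →* Multiplicative K ⋊[phi K] Kˣ)
          SemidirectProduct.inr_injective, ha]

end affine

theorem range_prod {A B : Type*} [Monoid A] [Monoid B] :
    Set.range (orderOf : A × B → ℕ) = {k | ∃ a ∈ Set.range (orderOf : A → ℕ),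
      ∃ b ∈ Set.range (orderOf : B → ℕ), k = Nat.lcm a b} := by
  ext k
  simp only [Set.mem_range, Set.mem_ofPred_eq]
  constructor
  · rintro ⟨⟨x, y⟩, rfl⟩
    exact ⟨orderOf x, ⟨x, rfl⟩, orderOf y, ⟨y, rfl⟩, Prod.orderOf _⟩
  · rintro ⟨_, ⟨x, rfl⟩, _, ⟨y, rfl⟩, rfl⟩
    exact ⟨(x, y), Prod.orderOf _⟩

theorem lcm_sets (p m₁ m₂ : ℕ) :
    {k : ℕ | ∃ a ∈ {k : ℕ | k ∣ p ∨ k ∣ m₁}, ∃ b ∈ {k : ℕ | k ∣ p ∨ k ∣ m₂}, k = Nat.lcm a b} =
    {k : ℕ | ∃ a ∈ {k : ℕ | k ∣ p ∨ k ∣ m₁ ∨ k ∣ m₂}, ∃ b ∈ {k : ℕ | k ∣ p ∨ k ∣ m₁ ∨ k ∣ m₂},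
      k = Nat.lcm a b} := by
  ext k
  simp only [Set.mem_ofPred_eq]
  constructor
  · rintro ⟨a, ha, b, hb, rfl⟩
    refine ⟨a, ?_, b, ?_, rfl⟩
    · rcases ha with h | h
      · exact Or.inl h
      · exact Or.inr (Or.inl h)
    · rcases hb with h | h
      · exact Or.inl h
      · exact Or.inr (Or.inr h)
  · rintro ⟨a, ha, b, hb, rfl⟩
    rcases ha with ha | ha | ha <;> rcases hb with hb | hb | hb
    · exact ⟨Nat.lcm a b, Or.inl (Nat.lcm_dvd ha hb), 1, Or.inl (one_dvd _), (Nat.lcm_one_right _).symm⟩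
    · exact ⟨b, Or.inr hb, a, Or.inl ha, Nat.lcm_comm a b⟩
    · exact ⟨a, Or.inl ha, b, Or.inr hb, rfl⟩
    · exact ⟨a, Or.inr ha, b, Or.inl hb, rfl⟩
    · exact ⟨Nat.lcm a b, Or.inr (Nat.lcm_dvd ha hb), 1, Or.inl (one_dvd _), (Nat.lcm_one_right _).symm⟩
    · exact ⟨a, Or.inr ha, b, Or.inr hb, rfl⟩
    · exact ⟨b, Or.inl hb, a, Or.inr ha, Nat.lcm_comm a b⟩
    · exact ⟨b, Or.inr hb, a, Or.inr ha, Nat.lcm_comm a b⟩
    · exact ⟨1, Or.inl (one_dvd _), Nat.lcm a b, Or.inr (Nat.lcm_dvd ha hb), (Nat.lcm_one_left _).symm⟩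

/-- Let q ≥ 4 be a prime power and L = PSL(2,q). There is a finite solvable group with the same set of element orders as L × L (so L × L is not determined by its spectrum). -/
theorem result {F : Type*} [Field F] [Fintype F] (hF : 4 ≤ Fintype.card F) :
    ∃ (H : Type) (_ : Group H) (_ : Finite H), Group.IsSolvable H ∧
      Set.range (orderOf : H → ℕ) = Set.range (orderOf : Matrix.ProjectiveSpecialLinearGroup (Fin 2) F × Matrix.ProjectiveSpecialLinearGroup (Fin 2) F → ℕ) := by
  classical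
  obtain ⟨p, hp⟩ := CharP.exists F
  haveI := hp
  obtain ⟨n, hpp, hqn⟩ := FiniteField.card F p
  haveI : Fact p.Prime := ⟨hpp⟩
  obtain ⟨m₁, m₂, h1, h2, hspec⟩ := Cfsg.Agent.Lib.Helper2.SL2Orders.spec (F := F) p
  obtain ⟨K, hK⟩ : ∃ K : Type, K = GaloisField p (2 * (n : ℕ)) := ⟨_, rfl⟩
  subst hK
  have hn0 : 2 * (n : ℕ) ≠ 0 := by
    have := n.pos
    omega
  have hKc : Nat.card (GaloisField p (2 * (n : ℕ)))ˣ = Fintype.card F ^ 2 - 1 := by
    rw [Nat.card_units, GaloisField.card p _ hn0, hqn, ← pow_mul, mul_comm]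
  have hfac : Fintype.card F ^ 2 - 1 = (Fintype.card F - 1) * (Fintype.card F + 1) := by
    obtain ⟨r, hr⟩ : ∃ r, Fintype.card F = r + 1 := ⟨Fintype.card F - 1, by omega⟩
    rw [hr, Nat.add_sub_cancel]
    apply Nat.sub_eq_of_eq_add
    ring
  have hd1 : m₁ ∣ Nat.card (GaloisField p (2 * (n : ℕ)))ˣ := by
    rw [hKc, hfac]; exact Dvd.dvd.mul_right h1 _
  have hd2 : m₂ ∣ Nat.card (GaloisField p (2 * (n : ℕ)))ˣ := by
    rw [hKc, hfac]; exact Dvd.dvd.mul_left h2 _
  haveI := aff_finite (GaloisField p (2 * (n : ℕ)))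
  haveI := aff_solvable (GaloisField p (2 * (n : ℕ)))
  refine ⟨↥(Msub (GaloisField p (2 * (n : ℕ))) m₁) × ↥(Msub (GaloisField p (2 * (n : ℕ))) m₂),
    inferInstance, inferInstance, inferInstance, ?_⟩
  rw [range_prod, range_prod, hspec, spec_M _ p m₁ hd1, spec_M _ p m₂ hd2]
  exact lcm_sets p m₁ m₂

end Cfsg.Agent.S3532
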