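import Cfsg.Statements.S3547
import Mathlib
import Cfsg.Agent.Lib.Helper6.Derange

set_option autoImplicit false
open Cfsg

namespace Cfsg.Agent.S3547

/-- Let G act faithfully and transitively on a finite set Ω, let D be the subgroup generated by the derangements, and let r_G and r_D be the numbers of orbits of G and of D on ordered pairs of points (the permutation ranks). Then r_D − 1 = (r_G − 1)·[G : D]. -/
theorem result {G Ω : Type*} [Group G] [Finite G] [MulAction G Ω] [FaithfulSMul G Ω] [Finite Ω]
    (htrans : MulAction.IsPretransitive G Ω) :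
    Nat.card (MulAction.orbitRel.Quotient ↥(Subgroup.closure {g : G | ∀ ω : Ω, g • ω ≠ ω}) (Ω × Ω)) - 1 =
      (Nat.card (MulAction.orbitRel.Quotient G (Ω × Ω)) - 1) * (Subgroup.closure {g : G | ∀ ω : Ω, g • ω ≠ ω}).index := by
  rcases isEmpty_or_nonempty Ω with hΩ | hΩ
  · have : IsEmpty (Ω × Ω) := inferInstance
    have h1 : Nat.card (MulAction.orbitRel.Quotient ↥(Subgroup.closure {g : G | ∀ ω : Ω, g • ω ≠ ω}) (Ω × Ω)) = 0 := by
      rw [Nat.card_eq_zero]
      left
      exact ⟨fun q => Quotient.inductionOn' q (fun x => isEmptyElim x)⟩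
    have h2 : Nat.card (MulAction.orbitRel.Quotient G (Ω × Ω)) = 0 := by
      rw [Nat.card_eq_zero]
      left
      exact ⟨fun q => Quotient.inductionOn' q (fun x => isEmptyElim x)⟩
    rw [h1, h2]
    simp
  · have hr := Cfsg.Agent.Lib.Helper6.derange_rank htrans
    change Nat.card (MulAction.orbitRel.Quotient ↥(Cfsg.Agent.Lib.Helper6.derangeSubgroup G Ω) (Ω × Ω)) - 1 =
      (Nat.card (MulAction.orbitRel.Quotient G (Ω × Ω)) - 1) * (Cfsg.Agent.Lib.Helper6.derangeSubgroup G Ω).index
    set D := Cfsg.Agent.Lib.Helper6.derangeSubgroup G Ω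
    set rG := Nat.card (MulAction.orbitRel.Quotient G (Ω × Ω))
    set rD := Nat.card (MulAction.orbitRel.Quotient ↥D (Ω × Ω))
    have hidx := Subgroup.card_mul_index D
    set m := D.index
    set d := Nat.card D
    have hdpos : 0 < d := Nat.card_pos
    have hmpos : 0 < m := by
      rcases Nat.eq_zero_or_pos m with h0 | h0
      · rw [h0, mul_zero] at hidx
        have : 0 < Nat.card G := Nat.card_pos
        omega
      · exact h0
    rw [← hidx] at hr
    -- rG * (d * m) = rD * d + (d * m - d)
    have hrGpos : 0 < rG := by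
      have : Nonempty (MulAction.orbitRel.Quotient G (Ω × Ω)) :=
        ⟨Quotient.mk'' (Classical.arbitrary Ω, Classical.arbitrary Ω)⟩
      exact Finite.card_pos
    have hrDpos : 0 < rD := by
      have : Nonempty (MulAction.orbitRel.Quotient ↥D (Ω × Ω)) :=
        ⟨Quotient.mk'' (Classical.arbitrary Ω, Classical.arbitrary Ω)⟩
      exact Finite.card_pos
    have h3 : d * (rG * m) = d * (rD + m - 1) := by
      have hle : d ≤ d * m := Nat.le_mul_of_pos_right d hmpos
      have : d * (rD + m - 1) = rD * d + (d * m - d) := by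
        have h5 : rD + m - 1 = rD + (m - 1) := by omega
        rw [h5, mul_add, Nat.mul_sub_one, mul_comm d rD]
      rw [this, ← hr]; ring
    have h4 : rG * m = rD + m - 1 := Nat.eq_of_mul_eq_mul_left hdpos h3
    have h6 : (rG - 1) * m = rG * m - m := by rw [Nat.sub_mul, one_mul]
    rw [h6, h4]
    omega

end Cfsg.Agent.S3547
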