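import Cfsg.Statements.S3549
import Mathlib
import Cfsg.Agent.Lib.Helper6.Derange4

set_option autoImplicit false
open Cfsg

namespace Cfsg.Agent.S3549

/-- Let G act faithfully, transitively but imprimitively on a finite set with n points, and let D be the subgroup generated by the derangements. Then the index of D in G is at most √n − 1. -/
theorem result {G Ω : Type*} [Group G] [Finite G] [MulAction G Ω] [FaithfulSMul G Ω] [Finite Ω]
    (htrans : MulAction.IsPretransitive G Ω) (himp : ¬ MulAction.IsPreprimitive G Ω) :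
    ((Subgroup.closure {g : G | ∀ ω : Ω, g • ω ≠ ω}).index : ℝ) ≤ Real.sqrt (Nat.card Ω) - 1 := by
  change ((Cfsg.Agent.Lib.Helper6.derangeSubgroup G Ω).index : ℝ) ≤ Real.sqrt (Nat.card Ω) - 1
  have hnt : Nontrivial Ω := by
    by_contra hcon
    rw [not_nontrivial_iff_subsingleton] at hcon
    exact himp MulAction.IsPreprimitive.of_subsingleton
  obtain ⟨a⟩ : Nonempty Ω := inferInstance
  have hco : ¬ IsCoatom (MulAction.stabilizer G a) :=
    fun h => himp ((MulAction.isCoatom_stabilizer_iff_preprimitive G a).mp h)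
  have hne_top : MulAction.stabilizer G a ≠ ⊤ := by
    intro htop
    obtain ⟨b, hb⟩ := exists_ne a
    obtain ⟨g, hg⟩ := MulAction.exists_smul_eq G a b
    have : g ∈ MulAction.stabilizer G a := by rw [htop]; exact Subgroup.mem_top g
    exact hb (hg.symm.trans this)
  have hK : ∃ K : Subgroup G, MulAction.stabilizer G a < K ∧ K ≠ ⊤ := by
    by_contra hcon
    push Not at hcon
    exact hco ⟨hne_top, fun b hb => hcon b hb⟩
  obtain ⟨K, hKlt, hKtop⟩ := hK
  have h1 := Cfsg.Agent.Lib.Helper6.derange_index_dvd_index htrans a K hKlt.le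
  have h2 := Cfsg.Agent.Lib.Helper6.derange_index_dvd_relIndex htrans a K hKlt.le
  set d := (Cfsg.Agent.Lib.Helper6.derangeSubgroup G Ω).index with hd
  set m := K.index with hm
  set b := (MulAction.stabilizer G a).relIndex K with hb
  have hd0 : d ≠ 0 := Subgroup.index_ne_zero_of_finite
  have hm0 : m ≠ 0 := Subgroup.index_ne_zero_of_finite
  have hm1 : m ≠ 1 := fun h => hKtop (Subgroup.index_eq_one.mp h)
  have hb0 : b ≠ 0 := Subgroup.index_ne_zero_of_finite
  have hb1 : b ≠ 1 := fun h => (not_le_of_gt hKlt) (Subgroup.relIndex_eq_one.mp h)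
  have hbm : b * m = Nat.card Ω := by
    rw [hb, hm, Subgroup.relIndex_mul_index hKlt.le, MulAction.index_stabilizer_of_transitive]
  have hdm : d ≤ m - 1 := Nat.le_of_dvd (by omega) h1
  have hdb : d ≤ b - 1 := Nat.le_of_dvd (by omega) h2
  have hsq : (d + 1) * (d + 1) ≤ Nat.card Ω := by
    rw [← hbm]
    exact Nat.mul_le_mul (by omega) (by omega)
  have : ((d : ℝ) + 1) ≤ Real.sqrt (Nat.card Ω) := by
    rw [Real.le_sqrt' (by positivity)]
    have hsq' : (((d + 1) * (d + 1) : ℕ) : ℝ) ≤ ((Nat.card Ω : ℕ) : ℝ) := by exact_mod_cast hsq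
    push_cast at hsq'
    nlinarith
  linarith

end Cfsg.Agent.S3549
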