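import Cfsg.Statements.S3554
import Mathlib

set_option autoImplicit false
open Cfsg

namespace Cfsg.Agent.S3554

/-- Let G act faithfully and transitively on a finite set and suppose G has a non-trivial cyclic normal subgroup. Then some element of G of prime order fixes no point. -/
theorem result {G Ω : Type*} [Group G] [Finite G] [MulAction G Ω] [FaithfulSMul G Ω] [Finite Ω]
    (htrans : MulAction.IsPretransitive G Ω) (C : Subgroup G) (hC : C.Normal) (hC1 : C ≠ ⊥) (hcyc : IsCyclic ↥C) :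
    ∃ g : G, (orderOf g).Prime ∧ ∀ ω : Ω, g • ω ≠ ω := by
  obtain ⟨c, hc⟩ := hcyc.exists_generator
  set n := orderOf c with hn
  have hnpos : 0 < n := orderOf_pos c
  have hn1 : n ≠ 1 := by
    intro h
    apply hC1
    rw [Subgroup.eq_bot_iff_forall]
    intro x hx
    have hc1 : c = 1 := orderOf_eq_one_iff.mp h
    have := hc ⟨x, hx⟩
    rw [hc1, Subgroup.zpowers_one_eq_bot, Subgroup.mem_bot] at this
    exact congrArg Subtype.val this
  set p := Nat.minFac n with hp
  have hpp : p.Prime := Nat.minFac_prime hn1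
  have hpn : p ∣ n := Nat.minFac_dvd n
  obtain ⟨m, hm⟩ := hpn
  have hmpos : 0 < m := by
    rcases Nat.eq_zero_or_pos m with h | h
    · rw [h, mul_zero] at hm; omega
    · exact h
  have hgo : orderOf (c ^ m) = p := by
    rw [orderOf_pow_of_dvd hmpos.ne' ⟨p, by rw [← hn, hm, mul_comm]⟩, ← hn, hm]
    exact Nat.mul_div_cancel _ hmpos
  obtain ⟨g, hg⟩ : ∃ g : G, g = (c : G) ^ m := ⟨_, rfl⟩
  have hgC : g ∈ C := by rw [hg]; exact C.pow_mem c.2 m
  have hgo' : orderOf g = p := by
    rw [← hgo, hg, ← Subgroup.coe_pow]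
    exact orderOf_injective C.subtype C.subtype_injective (c ^ m)
  refine ⟨g, by rw [hgo']; exact hpp, ?_⟩
  intro ω hω
  have hconj : ∀ h : G, ∃ i : ℕ, h * g * h⁻¹ = g ^ i := by
    intro h
    have hy : h * g * h⁻¹ ∈ C := hC.conj_mem _ hgC h
    have hyz := hc ⟨_, hy⟩
    rw [← mem_powers_iff_mem_zpowers] at hyz
    obtain ⟨j, hj⟩ := hyz
    have hj' : (c : G) ^ j = h * g * h⁻¹ := by
      have := congrArg Subtype.val hj
      simpa using this
    have hyp : c ^ (j * p) = 1 := by
      apply Subtype.ext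
      rw [Subgroup.coe_pow, pow_mul, hj', conj_pow, ← hgo', pow_orderOf_eq_one]
      simp
    have hdvd : n ∣ j * p := orderOf_dvd_of_pow_eq_one hyp
    rw [hm, mul_comm p m] at hdvd
    have hmj : m ∣ j := Nat.dvd_of_mul_dvd_mul_right hpp.pos hdvd
    obtain ⟨i, hi⟩ := hmj
    refine ⟨i, ?_⟩
    rw [← hj', hi, pow_mul, ← hg]
  have hall : ∀ x : Ω, g • x = x := by
    intro x
    obtain ⟨h, rfl⟩ := MulAction.exists_smul_eq G ω x
    obtain ⟨i, hi⟩ := hconj h⁻¹
    rw [inv_inv] at hi
    have hgs : g ∈ MulAction.stabilizer G ω := hω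
    have h1 : (h⁻¹ * g * h) • ω = ω := by
      rw [hi]
      exact (MulAction.stabilizer G ω).pow_mem hgs i
    calc g • h • ω = h • ((h⁻¹ * g * h) • ω) := by
          rw [← mul_smul, ← mul_smul]; congr 1; group
      _ = h • ω := by rw [h1]
  have hg1 : g = 1 := by
    apply FaithfulSMul.eq_of_smul_eq_smul (α := Ω)
    intro x
    rw [hall x, one_smul]
  rw [hg1, orderOf_one] at hgo'
  exact hpp.one_lt.ne hgo'

end Cfsg.Agent.S3554
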