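import Cfsg.Statements.S3555
import Mathlib
import Cfsg.Agent.Lib.Helper6.DerangeInv

set_option autoImplicit false
open Cfsg

namespace Cfsg.Agent.S3555

open scoped Pointwise

theorem mem_conj_smul {L : Type*} [Group L] (H : Subgroup L) (g x : L) :
    x ∈ MulAut.conj g • H ↔ g⁻¹ * x * g ∈ H := by
  rw [Subgroup.mem_pointwise_smul_iff_inv_smul_mem, MulAut.smul_def, MulAut.conj_inv_apply]

theorem comm_of_sq {G : Type*} [Group G] (x y : G) (hx : x * x = 1) (hy : y * y = 1)
    (hxy : (x * y) * (x * y) = 1) : x * y = y * x := by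
  have h1 : x * y = (x * y)⁻¹ := eq_inv_of_mul_eq_one_left hxy
  have h2 : x⁻¹ = x := inv_eq_of_mul_eq_one_left hx
  have h3 : y⁻¹ = y := inv_eq_of_mul_eq_one_left hy
  rw [h1, mul_inv_rev, h2, h3]


/-- Let G act faithfully and transitively on a finite set and suppose every element of G fixing no point is an involution. Then either G is an elementary abelian 2-group, or G is a Frobenius group whose Frobenius kernel is an elementary abelian 2-group: G has a Frobenius complement H, and the elements lying in no conjugate of H, together with the identity, pairwise commute and square to the identity. -/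
theorem result {G Ω : Type*} [Group G] [Finite G] [MulAction G Ω] [FaithfulSMul G Ω] [Finite Ω]
    (htrans : MulAction.IsPretransitive G Ω) (hinv : ∀ g : G, (∀ ω : Ω, g • ω ≠ ω) → orderOf g = 2) :
    (IsMulCommutative G ∧ ∀ g : G, g ^ 2 = 1) ∨
    (∃ H : Subgroup G, Cfsg.IsFrobeniusComplement H ∧
      (∀ x ∈ Cfsg.frobeniusKernel H, x ^ 2 = 1) ∧
      ∀ x ∈ Cfsg.frobeniusKernel H, ∀ y ∈ Cfsg.frobeniusKernel H, x * y = y * x) := by
  classical
  have hinv' : ∀ g : G, (∀ ω : Ω, g • ω ≠ ω) → g * g = 1 := by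
    intro g hg
    have := pow_orderOf_eq_one g
    rw [hinv g hg, pow_two] at this
    exact this
  have hmove : ∀ g : G, g ≠ 1 → ∃ ω : Ω, g • ω ≠ ω := by
    intro g hg
    by_contra hcon
    push Not at hcon
    apply hg
    apply FaithfulSMul.eq_of_smul_eq_smul (α := Ω)
    intro ω
    rw [hcon ω, one_smul]
  have key2 : ∀ g : G, ∀ α β : Ω, α ≠ β → g • α = α → g • β = β → g = 1 := by
    intro g α β hαβ hα hβ
    by_contra hg
    have h1 := Cfsg.Agent.Lib.Helper6.fixedBy_le_one_of_derange_inv htrans hinv' g (hmove g hg)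
    rw [Finite.card_le_one_iff_subsingleton] at h1
    have : (⟨α, hα⟩ : MulAction.fixedBy Ω g) = ⟨β, hβ⟩ := Subsingleton.elim _ _
    exact hαβ (congrArg Subtype.val this)
  rcases isEmpty_or_nonempty Ω with hΩ | hΩ
  · left
    have hall : ∀ g : G, g = 1 := by
      intro g
      by_contra hg
      obtain ⟨ω, _⟩ := hmove g hg
      exact hΩ.elim ω
    refine ⟨⟨⟨fun a b => by rw [hall a, hall b]⟩⟩, fun g => by rw [hall g]; simp⟩
  obtain ⟨α⟩ := hΩ
  by_cases hH : MulAction.stabilizer G α = ⊥
  · left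
    have hder : ∀ g : G, g ≠ 1 → ∀ ω : Ω, g • ω ≠ ω := by
      intro g hg ω hω
      obtain ⟨k, hk⟩ := MulAction.exists_smul_eq G α ω
      have : k⁻¹ * g * k ∈ MulAction.stabilizer G α := by
        rw [MulAction.mem_stabilizer_iff, mul_smul, mul_smul, hk, hω, ← hk, inv_smul_smul]
      rw [hH, Subgroup.mem_bot] at this
      apply hg
      have e : g = k * (k⁻¹ * g * k) * k⁻¹ := by group
      rw [e, this]; group
    have hsq : ∀ g : G, g * g = 1 := by
      intro g
      by_cases hg : g = 1
      · rw [hg]; simp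
      · exact hinv' g (hder g hg)
    refine ⟨⟨⟨fun a b => comm_of_sq a b (hsq a) (hsq b) (hsq _)⟩⟩, fun g => by rw [pow_two]; exact hsq g⟩
  right
  refine ⟨MulAction.stabilizer G α, ⟨hH, ?_, ?_⟩, ?_⟩
  · intro htop
    apply hH
    rw [Subgroup.eq_bot_iff_forall]
    intro g _
    by_contra hg
    obtain ⟨ω, hω⟩ := hmove g hg
    obtain ⟨k, hk⟩ := MulAction.exists_smul_eq G α ω
    have : k⁻¹ * g * k ∈ MulAction.stabilizer G α := by rw [htop]; exact Subgroup.mem_top _
    rw [MulAction.mem_stabilizer_iff, mul_smul, mul_smul, hk, inv_smul_eq_iff, hk] at this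
    exact hω this
  · intro g hg
    rw [Subgroup.eq_bot_iff_forall]
    intro x hx
    obtain ⟨hx1, hx2⟩ := Subgroup.mem_inf.mp hx
    rw [mem_conj_smul, MulAction.mem_stabilizer_iff, mul_smul, mul_smul, inv_smul_eq_iff] at hx2
    rw [MulAction.mem_stabilizer_iff] at hx1 hg
    exact key2 x α (g • α) (fun h => hg h.symm) hx1 hx2
  · have hker : ∀ x ∈ Cfsg.frobeniusKernel (MulAction.stabilizer G α), x ≠ 1 →
        ∀ ω : Ω, x • ω ≠ ω := by
      intro x hx hx1 ω hω
      rcases hx with h | h
      · exact hx1 h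
      · obtain ⟨k, hk⟩ := MulAction.exists_smul_eq G α ω
        apply h k
        rw [mem_conj_smul, MulAction.mem_stabilizer_iff, mul_smul, mul_smul, hk, hω, ← hk,
          inv_smul_smul]
    have hsq : ∀ x ∈ Cfsg.frobeniusKernel (MulAction.stabilizer G α), x * x = 1 := by
      intro x hx
      by_cases hx1 : x = 1
      · rw [hx1]; simp
      · exact hinv' x (hker x hx hx1)
    refine ⟨fun x hx => by rw [pow_two]; exact hsq x hx, ?_⟩
    intro x hx y hy
    by_cases hx1 : x = 1
    · rw [hx1]; simp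
    by_cases hy1 : y = 1
    · rw [hy1]; simp
    have hxd := hker x hx hx1
    have hyd := hker y hy hy1
    have hx2 := hsq x hx
    have hy2 := hsq y hy
    apply comm_of_sq x y hx2 hy2
    by_cases hxy1 : x * y = 1
    · rw [hxy1]; simp
    apply hinv'
    intro γ hγ
    apply hxy1
    have hyinv : y⁻¹ = y := inv_eq_of_mul_eq_one_left hy2
    -- δ = y • γ, x • δ = γ
    have h1 : x • (y • γ) = γ := by rw [← mul_smul]; exact hγ
    have h2 : x • γ = y • γ := by
      have : x • (x • (y • γ)) = x • γ := by rw [h1]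
      rw [← mul_smul, hx2, one_smul] at this
      exact this.symm
    have h3 : (y⁻¹ * x) • γ = γ := by
      rw [mul_smul, h2, inv_smul_smul]
    have h4 : (y⁻¹ * x) • (y • γ) = y • γ := by
      rw [mul_smul, h1, hyinv]
    have h5 := key2 (y⁻¹ * x) γ (y • γ) (fun h => hyd γ h.symm) h3 h4
    have h6 : x = y := by
      have := inv_mul_eq_one.mp h5
      exact this.symm
    rw [h6]; exact hy2

end Cfsg.Agent.S3555
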