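import Mathlib
import Cfsg.Statements.S3573

set_option autoImplicit false
open Cfsg

namespace Cfsg.Agent.S3573

open Equiv Finset

/-- a prime dividing a binomial coefficient is at most the top argument -/
lemma prime_le_of_dvd_choose {n k r : ℕ} (hr : r.Prime) (hkn : k ≤ n) (h : r ∣ Nat.choose n k) :
    r ≤ n := by
  rw [← hr.dvd_factorial, ← Nat.choose_mul_factorial_mul_factorial hkn]
  exact Dvd.dvd.mul_right (Dvd.dvd.mul_right h _) _

/-- Lucas: if `r ∣ C(n,k)` and `k % r ≤ n % r` then `r ≤ k` -/
lemma le_of_dvd_choose {n k r : ℕ} (hr : r.Prime) (h : r ∣ Nat.choose n k)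
    (hmod : k % r ≤ n % r) : r ≤ k := by
  by_contra hlt
  rw [not_le] at hlt
  haveI : Fact r.Prime := ⟨hr⟩
  have hl := @Choose.choose_modEq_choose_mod_mul_choose_div_nat n k r _
  rw [Nat.mod_eq_of_lt hlt] at hmod
  rw [Nat.mod_eq_of_lt hlt, Nat.div_eq_of_lt hlt, Nat.choose_zero_right, mul_one] at hl
  have h2 : r ∣ Nat.choose (n % r) k := by
    rw [← Nat.modEq_zero_iff_dvd] at h ⊢
    exact hl.symm.trans h
  have h3 := prime_le_of_dvd_choose hr hmod h2
  have h4 := Nat.mod_lt n hr.pos
  omega

variable {n : ℕ}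

lemma image_pow_eq (σ : Perm (Fin n)) (S : Finset (Fin n)) (h : S.image σ = S) (i : ℕ) :
    S.image (⇑(σ ^ i)) = S := by
  induction i with
  | zero => simp
  | succ i ih =>
    rw [pow_succ]
    ext x
    constructor
    · intro hx
      rw [mem_image] at hx
      obtain ⟨y, hy, rfl⟩ := hx
      rw [Perm.mul_apply]
      have h1 : σ y ∈ S := h ▸ mem_image_of_mem _ hy
      exact ih ▸ mem_image_of_mem _ h1
    · intro hx
      rw [← ih] at hx
      rw [mem_image] at hx
      obtain ⟨y, hy, rfl⟩ := hx
      rw [← h] at hy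
      rw [mem_image] at hy
      obtain ⟨w, hw, rfl⟩ := hy
      exact mem_image.mpr ⟨w, hw, by rw [Perm.mul_apply]⟩

/-- invariant subsets of the support of each size `a * r` -/
lemma exists_invariant_in_support (σ : Perm (Fin n)) {r : ℕ} (hr : r.Prime) (hσ : orderOf σ = r)
    (a : ℕ) (ha : a * r ≤ σ.support.card) :
    ∃ S : Finset (Fin n), S ⊆ σ.support ∧ S.image σ = S ∧ S.card = a * r := by
  induction a with
  | zero => exact ⟨∅, by simp, by simp, by simp⟩
  | succ a ih =>
    obtain ⟨S, hSsub, hSinv, hScard⟩ := ih (by nlinarith)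
    have hne : ∃ x ∈ σ.support, x ∉ S := by
      by_contra hcon
      have : σ.support ⊆ S := fun x hx => by
        by_contra hxS
        exact hcon ⟨x, hx, hxS⟩
      have := card_le_card this
      nlinarith [hr.pos]
    obtain ⟨x, hxsupp, hxS⟩ := hne
    have hσr : σ ^ r = 1 := hσ ▸ pow_orderOf_eq_one σ
    have hxmoved : σ x ≠ x := Perm.mem_support.mp hxsupp
    -- injectivity of i ↦ σ^i x on range r
    have hinj : Set.InjOn (fun i : ℕ => (σ ^ i) x) (range r : Finset ℕ) := by
      intro i hi j hj hij
      simp only [coe_range, Set.mem_Iio] at hi hj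
      by_contra hne
      -- wlog i < j
      have key : ∀ i j : ℕ, i < j → j < r → (σ ^ i) x = (σ ^ j) x → False := by
        intro i j hij hj h
        have h1 : (σ ^ (j - i)) x = x := by
          have : σ ^ j = σ ^ i * σ ^ (j - i) := by rw [← pow_add]; congr 1; omega
          rw [this, Perm.mul_apply] at h
          exact ((σ ^ i).injective h).symm
        have hcop : Nat.Coprime (j - i) r := by
          rw [Nat.coprime_comm, hr.coprime_iff_not_dvd]
          intro hdvd
          have := Nat.le_of_dvd (by omega) hdvd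
          omega
        -- σ ∈ powers of σ^(j-i)
        obtain ⟨m, -, hm⟩ := Nat.exists_mul_mod_eq_one_of_coprime hcop (hr.one_lt)
        have h2 : σ ^ ((j - i) * m) = σ := by
          rw [← Nat.mod_add_div ((j - i) * m) r, hm, pow_add, pow_mul, hσr, one_pow, mul_one, pow_one]
        have h3 : (σ ^ ((j - i) * m)) x = x := by
          rw [pow_mul]
          have : ∀ m : ℕ, ((σ ^ (j - i)) ^ m) x = x := by
            intro m
            induction m with
            | zero => simp
            | succ m ihm => rw [pow_succ, Perm.mul_apply, h1, ihm]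
          exact this m
        rw [h2] at h3
        exact hxmoved h3
      rcases Nat.lt_or_gt_of_ne hne with h | h
      · exact key i j h hj hij
      · exact key j i h hi hij.symm
    let O : Finset (Fin n) := (range r).image (fun i : ℕ => (σ ^ i) x)
    have hOcard : O.card = r := by
      rw [card_image_of_injOn hinj, card_range]
    have hOsupp : O ⊆ σ.support := by
      intro y hy
      obtain ⟨i, _, rfl⟩ := mem_image.mp hy
      rw [Perm.mem_support]
      intro h
      apply hxmoved
      have : (σ ^ i) (σ x) = (σ ^ i) x := by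
        rw [← Perm.mul_apply, ← pow_succ, pow_succ', Perm.mul_apply]; exact h
      exact (σ ^ i).injective this
    have hOS : Disjoint S O := by
      rw [Finset.disjoint_left]
      intro y hyS hyO
      obtain ⟨i, hi, rfl⟩ := mem_image.mp hyO
      -- x = σ^(r-i) (σ^i x) ∈ S
      have hi' : i < r := mem_range.mp hi
      have h1 : (σ ^ (r - i)) ((σ ^ i) x) = x := by
        rw [← Perm.mul_apply, ← pow_add, Nat.sub_add_cancel hi'.le, hσr, Perm.one_apply]
      have h2 : (σ ^ (r - i)) ((σ ^ i) x) ∈ S.image (⇑(σ ^ (r - i))) := mem_image_of_mem _ hyS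
      rw [image_pow_eq σ S hSinv, h1] at h2
      exact hxS h2
    have hOinv : O.image σ = O := by
      ext y
      constructor
      · intro hy
        obtain ⟨w, hw, rfl⟩ := mem_image.mp hy
        obtain ⟨i, hi, rfl⟩ := mem_image.mp hw
        have hi' : i < r := mem_range.mp hi
        by_cases h : i + 1 < r
        · exact mem_image.mpr ⟨i + 1, mem_range.mpr h, by rw [pow_succ', Perm.mul_apply]⟩
        · have : i + 1 = r := by omega
          refine mem_image.mpr ⟨0, mem_range.mpr hr.pos, ?_⟩
          rw [← Perm.mul_apply, ← pow_succ', this, hσr, pow_zero]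
      · intro hy
        obtain ⟨i, hi, rfl⟩ := mem_image.mp hy
        have hi' : i < r := mem_range.mp hi
        rcases Nat.eq_zero_or_pos i with h0 | hpos
        · subst h0
          refine mem_image.mpr ⟨(σ ^ (r - 1)) x, mem_image.mpr ⟨r - 1, mem_range.mpr (by have := hr.one_lt; omega), rfl⟩, ?_⟩
          rw [← Perm.mul_apply, ← pow_succ', Nat.sub_add_cancel hr.pos, hσr, pow_zero]
        · refine mem_image.mpr ⟨(σ ^ (i - 1)) x, mem_image.mpr ⟨i - 1, mem_range.mpr (by omega), rfl⟩, ?_⟩
          rw [← Perm.mul_apply, ← pow_succ', Nat.sub_add_cancel hpos]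
    refine ⟨S ∪ O, union_subset hSsub hOsupp, ?_, ?_⟩
    · rw [image_union, hSinv, hOinv]
    · rw [card_union_of_disjoint hOS, hScard, hOcard]; ring


lemma exists_invariant (σ : Perm (Fin n)) {r k : ℕ} (hr : r.Prime) (hσ : orderOf σ = r)
    (hkn : k ≤ n) (hmod : k % r ≤ n % r) :
    ∃ s : Finset (Fin n), s.card = k ∧ s.image σ = s := by
  haveI : Fact r.Prime := ⟨hr⟩
  have hσr : σ ^ r ^ 1 = 1 := by rw [pow_one]; exact hσ ▸ pow_orderOf_eq_one σ
  have hfix := Equiv.Perm.card_compl_support_modEq hσr
  rw [Fintype.card_fin] at hfix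
  have hsum : σ.support.card + σ.supportᶜ.card = n := by
    rw [Finset.card_add_card_compl, Fintype.card_fin]
  have hfmod : σ.supportᶜ.card % r = n % r := hfix
  have hMdvd : r ∣ σ.support.card := by
    have h1 : (σ.support.card + σ.supportᶜ.card) % r = σ.supportᶜ.card % r := by rw [hsum, hfmod]
    have h2 : σ.support.card + σ.supportᶜ.card ≡ 0 + σ.supportᶜ.card [MOD r] := by
      rw [zero_add]; exact h1
    exact (Nat.modEq_zero_iff_dvd).mp (Nat.ModEq.add_right_cancel' _ h2)
  obtain ⟨c, hc⟩ := hMdvd
  have ha'M : min (k / r) c * r ≤ σ.support.card := by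
    calc min (k / r) c * r ≤ c * r := Nat.mul_le_mul_right _ (min_le_right _ _)
      _ = σ.support.card := by rw [hc, mul_comm]
  obtain ⟨S, hSsub, hSinv, hScard⟩ := exists_invariant_in_support σ hr hσ _ ha'M
  have ha'k : min (k / r) c * r ≤ k := by
    calc min (k / r) c * r ≤ (k / r) * r := Nat.mul_le_mul_right _ (min_le_left _ _)
      _ ≤ k := Nat.div_mul_le_self k r
  have hb : k - min (k / r) c * r ≤ σ.supportᶜ.card := by
    rcases min_choice (k / r) c with h | h
    · have h1 : k - min (k / r) c * r = k % r := by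
        rw [h]
        have := Nat.div_add_mod k r
        rw [mul_comm] at this
        omega
      rw [h1]
      calc k % r ≤ n % r := hmod
        _ = σ.supportᶜ.card % r := hfmod.symm
        _ ≤ σ.supportᶜ.card := Nat.mod_le _ _
    · have h1 : min (k / r) c * r = σ.support.card := by
        rw [h, hc, mul_comm]
      rw [h1]; omega
  obtain ⟨F', hF'sub, hF'card⟩ := Finset.exists_subset_card_eq hb
  have hdisj : Disjoint S F' :=
    Finset.disjoint_of_subset_left hSsub (Finset.disjoint_of_subset_right hF'sub disjoint_compl_right)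
  refine ⟨S ∪ F', ?_, ?_⟩
  · rw [card_union_of_disjoint hdisj, hScard, hF'card]; omega
  · rw [image_union, hSinv]
    congr 1
    ext y; constructor
    · intro hy
      obtain ⟨w, hw, rfl⟩ := mem_image.mp hy
      have : σ w = w := Perm.notMem_support.mp (mem_compl.mp (hF'sub hw))
      rw [this]; exact hw
    · intro hy
      have : σ y = y := Perm.notMem_support.mp (mem_compl.mp (hF'sub hy))
      exact mem_image.mpr ⟨y, hy, this⟩

lemma exists_no_invariant {n k r : ℕ} (hr : r.Prime) (hrn : r ≤ n) (hmod : ¬ (k % r ≤ n % r)) :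
    ∃ σ : Perm (Fin n), orderOf σ = r ∧ ∀ s : Finset (Fin n), s.card = k → s.image σ ≠ s := by
  haveI : Fact r.Prime := ⟨hr⟩
  haveI : NeZero r := ⟨hr.ne_zero⟩
  haveI : Fact (1 < r) := ⟨hr.one_lt⟩
  have hcard : Fintype.card ((Fin (n / r) × ZMod r) ⊕ Fin (n % r)) = n := by
    simp only [Fintype.card_sum, Fintype.card_prod, ZMod.card, Fintype.card_fin]
    exact Nat.div_add_mod' n r
  let e : ((Fin (n / r) × ZMod r) ⊕ Fin (n % r)) ≃ Fin n := Fintype.equivFinOfCardEq hcard
  let σ' : Perm ((Fin (n / r) × ZMod r) ⊕ Fin (n % r)) :=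
    Equiv.sumCongr (Equiv.prodCongr (Equiv.refl _) (Equiv.addRight (1 : ZMod r))) (Equiv.refl _)
  have hσ'l : ∀ (a : Fin (n / r)) (j : ZMod r), σ' (Sum.inl (a, j)) = Sum.inl (a, j + 1) := by
    intro a j; rfl
  have hσ'r : ∀ b : Fin (n % r), σ' (Sum.inr b) = Sum.inr b := by
    intro b; rfl
  have hpowl : ∀ (i : ℕ) (a : Fin (n / r)) (j : ZMod r),
      (σ' ^ i) (Sum.inl (a, j)) = Sum.inl (a, j + i) := by
    intro i
    induction i with
    | zero => intro a j; simp
    | succ i ih =>
      intro a j
      rw [pow_succ, Perm.mul_apply, hσ'l, ih]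
      congr 2
      push_cast
      ring
  have hpowr : ∀ (i : ℕ) (b : Fin (n % r)), (σ' ^ i) (Sum.inr b) = Sum.inr b := by
    intro i
    induction i with
    | zero => intro b; simp
    | succ i ih => intro b; rw [pow_succ, Perm.mul_apply, hσ'r, ih]
  have hσ'pow : σ' ^ r = 1 := by
    ext x
    rcases x with ⟨a, j⟩ | b
    · rw [hpowl, ZMod.natCast_self, add_zero, Perm.one_apply]
    · rw [hpowr, Perm.one_apply]
  have hpos : 0 < n / r := Nat.div_pos hrn hr.pos
  have hσ'ne : σ' ≠ 1 := by
    intro h
    have h1 := hσ'l ⟨0, hpos⟩ 0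
    rw [h, Perm.one_apply] at h1
    have h2 := Sum.inl_injective h1
    have h3 : (0 : ZMod r) = 0 + 1 := congrArg Prod.snd h2
    rw [zero_add] at h3
    exact zero_ne_one h3
  have hord' : orderOf σ' = r := orderOf_eq_prime hσ'pow hσ'ne
  refine ⟨e.permCongrHom σ', ?_, ?_⟩
  · rw [MulEquiv.orderOf_eq]; exact hord'
  · intro s hsk hsinv
    apply hmod
    set σ : Perm (Fin n) := e.permCongrHom σ' with hσdef
    have hσapply : ∀ x, σ x = e (σ' (e.symm x)) := fun x => rfl
    have hσr : σ ^ r = 1 := by
      rw [hσdef, ← map_pow, hσ'pow, map_one]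
    have hmem : ∀ x, σ x ∈ s ↔ x ∈ s := by
      intro x
      constructor
      · intro h
        rw [← hsinv] at h
        obtain ⟨y, hy, hyx⟩ := mem_image.mp h
        exact (σ.injective hyx) ▸ hy
      · intro h
        rw [← hsinv]
        exact mem_image_of_mem _ h
    let f : Perm {x // x ∈ s} := σ.subtypePerm hmem
    have hfr : f ^ r ^ 1 = 1 := by
      rw [pow_one]
      ext x
      have : ∀ i : ℕ, ((f ^ i) x : Fin n) = (σ ^ i) x := by
        intro i
        induction i with
        | zero => simp
        | succ i ih =>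
          rw [pow_succ', Perm.mul_apply, pow_succ', Perm.mul_apply, ← ih]
          rfl
      rw [this, hσr]
      simp
    have hmodeq := Equiv.Perm.card_compl_support_modEq hfr
    rw [Fintype.card_coe, hsk] at hmodeq
    -- bound the number of fixed points
    have hbound : (f.support)ᶜ.card ≤ n % r := by
      have h1 : (f.support)ᶜ.card = ((f.support)ᶜ.image Subtype.val).card :=
        (card_image_of_injective _ Subtype.val_injective).symm
      have h2 : (f.support)ᶜ.image Subtype.val ⊆
          (Finset.univ : Finset (Fin (n % r))).image (fun b => e (Sum.inr b)) := by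
        intro y hy
        obtain ⟨x, hx, rfl⟩ := mem_image.mp hy
        have hfx : f x = x := Perm.notMem_support.mp (mem_compl.mp hx)
        have hσx : σ x.val = x.val := congrArg Subtype.val hfx
        rw [hσapply] at hσx
        have h3 : σ' (e.symm x.val) = e.symm x.val := by
          rw [← e.symm_apply_apply (σ' (e.symm x.val)), hσx]
        rcases hx' : e.symm x.val with ⟨a, j⟩ | b
        · exfalso
          rw [hx', hσ'l] at h3
          have h4 := Sum.inl_injective h3
          have h5 : j + 1 = j := congrArg Prod.snd h4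
          have : (1 : ZMod r) = 0 := by
            have := congrArg (fun t => t - j) h5
            simpa using this
          exact one_ne_zero this
        · refine mem_image.mpr ⟨b, mem_univ _, ?_⟩
          rw [← hx', e.apply_symm_apply]
      calc (f.support)ᶜ.card = ((f.support)ᶜ.image Subtype.val).card := h1
        _ ≤ ((Finset.univ : Finset (Fin (n % r))).image (fun b => e (Sum.inr b))).card :=
          card_le_card h2
        _ ≤ (Finset.univ : Finset (Fin (n % r))).card := card_image_le
        _ = n % r := by simp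
    have hlt : n % r < r := Nat.mod_lt n hr.pos
    have h6 : (f.support)ᶜ.card % r = k % r := hmodeq
    rw [Nat.mod_eq_of_lt (lt_of_le_of_lt hbound hlt)] at h6
    omega


theorem result (n k : ℕ) (hk : 1 ≤ k) (hkn : 2 * k < n) (r : ℕ) (hr : r.Prime) (hrd : r ∣ Nat.choose n k) :
    (r ≠ 2 → ((∀ σ : Equiv.Perm (Fin n), orderOf σ = r → ∃ s : Finset (Fin n), s.card = k ∧ s.image σ = s) ↔
      (r ≤ k ∧ k % r ≤ n % r))) ∧
    (r = 2 → ((∀ σ : Equiv.Perm (Fin n), orderOf σ = 2 → ∃ s : Finset (Fin n), s.card = k ∧ s.image σ = s) ↔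
      (Even k ∨ Odd n))) := by
  have hkn' : k ≤ n := by omega
  have hrn : r ≤ n := prime_le_of_dvd_choose hr hkn' hrd
  have main : (∀ σ : Equiv.Perm (Fin n), orderOf σ = r →
      ∃ s : Finset (Fin n), s.card = k ∧ s.image σ = s) ↔ k % r ≤ n % r := by
    constructor
    · intro h
      by_contra hmod
      obtain ⟨σ, hσ, hno⟩ := exists_no_invariant (k := k) hr hrn hmod
      obtain ⟨s, hs, hsinv⟩ := h σ hσ
      exact hno s hs hsinv
    · intro hmod σ hσ
      exact exists_invariant σ hr hσ hkn' hmod
  constructor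
  · intro _
    rw [main]
    constructor
    · intro h
      exact ⟨le_of_dvd_choose hr hrd h, h⟩
    · intro h
      exact h.2
  · intro h2
    subst h2
    rw [main]
    rw [Nat.even_iff, Nat.odd_iff]
    have h1 := Nat.mod_lt k (show 0 < 2 by norm_num)
    have h2 := Nat.mod_lt n (show 0 < 2 by norm_num)
    omega

end Cfsg.Agent.S3573
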