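import Cfsg.Statements.S3619
import Mathlib

set_option autoImplicit false
open Cfsg

namespace Cfsg.Agent.S3619

open MulAction in
open scoped Pointwise in
theorem prim_of_qp_jordan {G Ω : Type*} [Group G] [Finite G] [MulAction G Ω] [FaithfulSMul G Ω] [Finite Ω]
    (hqp : ∀ N : Subgroup G, N.Normal → N ≠ ⊥ → MulAction.IsPretransitive ↥N Ω)
    (Γ : Set Ω) (hΓ1 : 1 < Γ.ncard) (hΓ2 : Γ.ncard < Nat.card Ω)
    (hJ : MulAction.IsPretransitive ↥(fixingSubgroup G Γᶜ) ↥(SubMulAction.ofFixingSubgroup G Γᶜ))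
    (hJp : MulAction.IsPreprimitive ↥(fixingSubgroup G Γᶜ) ↥(SubMulAction.ofFixingSubgroup G Γᶜ)) :
    MulAction.IsPreprimitive G Ω := by
  classical
  -- two distinct points of Γ
  obtain ⟨a, ha, b, hb, hab⟩ := (Set.one_lt_ncard (Set.toFinite Γ)).mp hΓ1
  have haΓ : a ∈ SubMulAction.ofFixingSubgroup G Γᶜ := by
    rw [SubMulAction.mem_ofFixingSubgroup_iff]; simpa using ha
  have hbΓ : b ∈ SubMulAction.ofFixingSubgroup G Γᶜ := by
    rw [SubMulAction.mem_ofFixingSubgroup_iff]; simpa using hb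
  obtain ⟨k, hk⟩ := hJ.exists_smul_eq ⟨a, haΓ⟩ ⟨b, hbΓ⟩
  have hk' : (k : G) • a = b := congrArg Subtype.val hk
  have hK : fixingSubgroup G Γᶜ ≠ ⊥ := by
    intro h
    have : (k : G) = 1 := by
      have h2 : (k : G) ∈ (⊥ : Subgroup G) := h ▸ k.2
      exact Subgroup.mem_bot.mp h2
    rw [this, one_smul] at hk'
    exact hab hk'
  -- G is pretransitive
  have htop : (⊤ : Subgroup G) ≠ ⊥ := by
    intro h
    apply hK
    rw [eq_bot_iff, ← h]; exact le_top
  have hT : MulAction.IsPretransitive G Ω := by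
    have := hqp ⊤ inferInstance htop
    constructor
    intro x y
    obtain ⟨g, hg⟩ := this.exists_smul_eq x y
    exact ⟨g, hg⟩
  refine { toIsPretransitive := hT, isTrivialBlock_of_isBlock := ?_ }
  intro B hB
  by_contra hnt
  unfold IsTrivialBlock at hnt
  push Not at hnt
  obtain ⟨hns, hnu⟩ := hnt
  -- N
  set N : Subgroup G := (stabilizer G B).normalCore with hN
  have hNn : N.Normal := Subgroup.normalCore_normal _
  have hNle : N ≤ stabilizer G B := Subgroup.normalCore_le _
  have hNbot : N = ⊥ := by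
    by_contra hne
    have hNT := hqp N hNn hne
    obtain ⟨x, hx⟩ : B.Nonempty := hns.nonempty
    obtain ⟨y, hy⟩ : ∃ y, y ∉ B := by
      by_contra h
      push Not at h
      exact hnu (Set.eq_univ_of_forall h)
    obtain ⟨n, hn⟩ := hNT.exists_smul_eq x y
    have : (n : G) • B = B := by
      have := hNle n.2
      rwa [mem_stabilizer_iff] at this
    apply hy
    rw [← this, ← hn]
    exact Set.smul_mem_smul_set hx
  apply hK
  rw [eq_bot_iff, ← hNbot]
  intro k hk
  rw [hN, Subgroup.normalCore, Subgroup.mem_mk]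
  intro g
  rw [mem_stabilizer_iff, mul_smul, mul_smul]
  -- B' := g⁻¹ • B
  obtain ⟨B', hB'⟩ : ∃ B', B' = g⁻¹ • B := ⟨_, rfl⟩
  have hB'blk : IsBlock G B' := hB' ▸ hB.translate g⁻¹
  have hB'nt : B'.Nontrivial := by
    rw [hB']
    obtain ⟨x, hx, y, hy, hxy⟩ := hns
    exact ⟨g⁻¹ • x, Set.smul_mem_smul_set hx, g⁻¹ • y, Set.smul_mem_smul_set hy,
      fun h => hxy (MulAction.injective _ h)⟩
  rw [← hB']
  suffices h : k • B' = B' by
    rw [h, hB', smul_inv_smul]
  -- the preimage block
  have hC : IsBlock (fixingSubgroup G Γᶜ) ((SubMulAction.ofFixingSubgroup_equivariantMap G Γᶜ) ⁻¹' B') :=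
    hB'blk.preimage _
  have hCt := hJp.isTrivialBlock_of_isBlock hC
  have hkfix : ∀ x, x ∉ Γ → k • x = x := by
    intro x hx
    exact (mem_fixingSubgroup_iff G).mp hk x (by simpa using hx)
  have hkΓ : ∀ x, x ∈ Γ → k • x ∈ Γ := by
    intro x hx
    by_contra h
    have h1 := hkfix _ h
    have h2 : k • x = x := MulAction.injective k h1
    rw [h2] at h
    exact h hx
  rcases hCt with hCs | hCu
  · -- B' ∩ Γ subsingleton: B' has a point outside Γ
    obtain ⟨x, hx, y, hy, hxy⟩ := hB'nt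
    have : ∃ z ∈ B', z ∉ Γ := by
      by_contra hcon
      push Not at hcon
      have hxΓ := hcon x hx
      have hyΓ := hcon y hy
      have hxm : x ∈ SubMulAction.ofFixingSubgroup G Γᶜ := by
        rw [SubMulAction.mem_ofFixingSubgroup_iff]; simpa using hxΓ
      have hym : y ∈ SubMulAction.ofFixingSubgroup G Γᶜ := by
        rw [SubMulAction.mem_ofFixingSubgroup_iff]; simpa using hyΓ
      have := @hCs ⟨x, hxm⟩ hx ⟨y, hym⟩ hy
      exact hxy (congrArg Subtype.val this)
    obtain ⟨z, hz, hzΓ⟩ := this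
    apply hB'blk.smul_eq_of_mem hz
    rw [hkfix z hzΓ]; exact hz
  · -- Γ ⊆ B'
    have hΓB : Γ ⊆ B' := by
      intro x hx
      have hxm : x ∈ SubMulAction.ofFixingSubgroup G Γᶜ := by
        rw [SubMulAction.mem_ofFixingSubgroup_iff]; simpa using hx
      have : (⟨x, hxm⟩ : SubMulAction.ofFixingSubgroup G Γᶜ) ∈ (Set.univ : Set _) := Set.mem_univ _
      rw [← hCu] at this
      exact this
    have hsub : k • B' ⊆ B' := by
      rintro _ ⟨x, hx, rfl⟩
      by_cases hxΓ : x ∈ Γ
      · exact hΓB (hkΓ x hxΓ)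
      · show k • x ∈ B'
        rw [hkfix x hxΓ]; exact hx
    have hfin : B'.Finite := Set.toFinite _
    exact Set.eq_of_subset_of_ncard_le hsub (by
      rw [Set.ncard_smul_set]) hfin



/-- Let G act faithfully on a finite set in such a way that every non-trivial normal subgroup of G is transitive (G is quasiprimitive). Let Γ be a subset with more than one point and not the whole set, such that the pointwise stabilizer of the complement of Γ acts transitively on Γ (a Jordan set). If that pointwise stabilizer acts primitively on Γ, then G is k-fold transitive where k is one more than the number of points outside Γ (the Jordan set is a trivial one). -/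
theorem result {G Ω : Type*} [Group G] [Finite G] [MulAction G Ω] [FaithfulSMul G Ω] [Finite Ω]
    (hqp : ∀ N : Subgroup G, N.Normal → N ≠ ⊥ → MulAction.IsPretransitive ↥N Ω)
    (Γ : Set Ω) (hΓ1 : 1 < Γ.ncard) (hΓ2 : Γ.ncard < Nat.card Ω)
    (hJ : MulAction.IsPretransitive ↥(fixingSubgroup G Γᶜ) ↥(SubMulAction.ofFixingSubgroup G Γᶜ))
    (hJp : MulAction.IsPreprimitive ↥(fixingSubgroup G Γᶜ) ↥(SubMulAction.ofFixingSubgroup G Γᶜ)) :
    MulAction.IsMultiplyPretransitive G Ω (Nat.card Ω - Γ.ncard + 1) := by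
  have hG := prim_of_qp_jordan hqp Γ hΓ1 hΓ2 hJ hJp
  have hc : Γ.ncard + Γᶜ.ncard = Nat.card Ω := Set.ncard_add_ncard_compl Γ
  obtain ⟨m, hm⟩ : ∃ m, Γᶜ.ncard = m + 1 := ⟨Γᶜ.ncard - 1, by omega⟩
  have h1 := MulAction.IsPreprimitive.isMultiplyPreprimitive hG hm (by omega) hJp
  have h2 : MulAction.IsMultiplyPretransitive G Ω (m + 2) :=
    MulAction.IsMultiplyPreprimitive.isMultiplyPretransitive G Ω (m + 2)
  have e : Nat.card Ω - Γ.ncard + 1 = m + 2 := by omega
  rw [e]; exact h2

end Cfsg.Agent.S3619
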