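import Cfsg.Statements.S3633
import Mathlib
import Cfsg.Agent.Lib.Helper6.Lucido3

set_option autoImplicit false
open Cfsg Cfsg.Agent.Lib.Helper6

namespace Cfsg.Agent.S3633

/-- Let G be a finite group and ρ a set of at least three prime divisors of the order of G that are pairwise non-adjacent in the prime graph (no element of order rs for distinct r, s ∈ ρ). Then at most one prime of ρ divides the order of any given solvable normal subgroup of G; in particular G is not solvable. -/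
theorem result {G : Type*} [Group G] [Finite G] (ρ : Finset ℕ) (hρ : 3 ≤ ρ.card) (hc : ((∀ r ∈ ρ, r.Prime ∧ r ∣ Nat.card G) ∧ (∀ r ∈ ρ, ∀ s ∈ ρ, r ≠ s → ¬ ∃ x : G, orderOf x = r * s)))
    (K : Subgroup G) [K.Normal] (hK : Group.IsSolvable ↥K) :
    (∀ r ∈ ρ, ∀ s ∈ ρ, r ∣ Nat.card ↥K → s ∣ Nat.card ↥K → r = s) ∧ ¬ Group.IsSolvable G := by
  obtain ⟨hc1, hc2⟩ := hc
  have key : ∀ a ∈ ρ, ∀ b ∈ ρ, ∀ c ∈ ρ, a ≠ b → a ≠ c → b ≠ c →
      ¬ ((∃ x : G, orderOf x = a * b) ∨ (∃ x : G, orderOf x = a * c) ∨ (∃ x : G, orderOf x = b * c)) := by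
    intro a ha b hb c hc hab hac hbc h
    rcases h with h | h | h
    · exact hc2 a ha b hb hab h
    · exact hc2 a ha c hc hac h
    · exact hc2 b hb c hc hbc h
  constructor
  · intro r hr s hs hrK hsK
    by_contra hrs
    obtain ⟨t, ht, htr, hts⟩ : ∃ t ∈ ρ, t ≠ r ∧ t ≠ s := by
      have : 0 < ((ρ.erase r).erase s).card := by
        have h1 := Finset.card_erase_of_mem hr
        have h2 : s ∈ ρ.erase r := Finset.mem_erase.2 ⟨Ne.symm hrs, hs⟩
        have h3 := Finset.card_erase_of_mem h2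
        omega
      obtain ⟨t, ht⟩ := Finset.card_pos.1 this
      rw [Finset.mem_erase, Finset.mem_erase] at ht
      exact ⟨t, ht.2.2, ht.2.1, ht.1⟩
    by_cases htK : t ∣ Nat.card K
    · haveI := hK
      have := lucido_solvable _ K rfl r s t (hc1 r hr).1 (hc1 s hs).1 (hc1 t ht).1 hrs
        (Ne.symm htr) (Ne.symm hts) hrK hsK htK
      apply key r hr s hs t ht hrs (Ne.symm htr) (Ne.symm hts)
      rcases this with ⟨g, hg⟩ | ⟨g, hg⟩ | ⟨g, hg⟩
      · exact Or.inl ⟨(g : G), by rw [Subgroup.orderOf_coe]; exact hg⟩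
      · exact Or.inr (Or.inl ⟨(g : G), by rw [Subgroup.orderOf_coe]; exact hg⟩)
      · exact Or.inr (Or.inr ⟨(g : G), by rw [Subgroup.orderOf_coe]; exact hg⟩)
    · have htidx : t ∣ K.index := by
        have := (hc1 t ht).2
        rw [← K.card_mul_index] at this
        exact ((Nat.Prime.dvd_mul (hc1 t ht).1).1 this).resolve_left htK
      obtain ⟨M, hMn, hMK, hM⟩ := exists_normal_split_le _ G K hK rfl r s (hc1 r hr).1 (hc1 s hs).1
        hrs hrK hsK
      haveI := hMn
      rcases hM with ⟨h1, h2⟩ | ⟨h1, h2⟩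
      · exact key r hr s hs t ht hrs (Ne.symm htr) (Ne.symm hts)
          (lucido_series M K hMK r s t (hc1 r hr).1 (hc1 s hs).1 (hc1 t ht).1 hrs (Ne.symm htr)
            (Ne.symm hts) h1 h2 htidx)
      · exact key s hs r hr t ht (Ne.symm hrs) (Ne.symm hts) (Ne.symm htr)
          (lucido_series M K hMK s r t (hc1 s hs).1 (hc1 r hr).1 (hc1 t ht).1 (Ne.symm hrs)
            (Ne.symm hts) (Ne.symm htr) h1 h2 htidx)
  · intro hsolv
    obtain ⟨a, ha, b, hb, c, hc, hab, hac, hbc⟩ := Finset.two_lt_card.1 hρ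
    exact key a ha b hb c hc hab hac hbc
      (lucido_solvable _ G rfl a b c (hc1 a ha).1 (hc1 b hb).1 (hc1 c hc).1 hab hac hbc
        (hc1 a ha).2 (hc1 b hb).2 (hc1 c hc).2)

end Cfsg.Agent.S3633
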