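import Cfsg.Statements.S3678
import Mathlib
import Cfsg.Agent.Lib.Helper2.SL2Orders
import Cfsg.Agent.Lib.Helper1.PSL2Small


set_option autoImplicit false
open Cfsg

namespace Cfsg.Agent.S3678


set_option linter.style.haveILetI false
set_option linter.unusedSectionVars false
set_option linter.unusedVariables false

open Cfsg.Agent.S2507 (e00 e01 e10 e11 zz_eq_one)
open Cfsg.Agent.S2508 (pr pr_surj sq_of_trace_zero)
open Cfsg.Agent.Lib.Helper2.SL2Orders Cfsg.Agent.Lib.Helper2.SL2Unip

theorem no_pq {p q r : ℕ} (hp : p.Prime) (hq : q.Prime) (hne : p ≠ q) (hr : r.Prime) (e : ℕ) :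
    ¬ p * q ∣ r ^ e := by
  intro h
  have h1 : p = r := (Nat.prime_dvd_prime_iff_eq hp hr).1
    (hp.dvd_of_dvd_pow ((dvd_mul_right p q).trans h))
  have h2 : q = r := (Nat.prime_dvd_prime_iff_eq hq hr).1
    (hq.dvd_of_dvd_pow ((dvd_mul_left q p).trans h))
  exact hne (h1.trans h2.symm)

theorem prime_dvd_168 {p : ℕ} (hp : p.Prime) : p ∣ 168 ↔ p = 2 ∨ p = 3 ∨ p = 7 := by
  constructor
  · intro h
    rw [show (168 : ℕ) = 2 ^ 3 * (3 * 7) by norm_num] at h
    rcases (Nat.Prime.dvd_mul hp).1 h with h | h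
    · left; exact (Nat.prime_dvd_prime_iff_eq hp Nat.prime_two).1 (hp.dvd_of_dvd_pow h)
    · rcases (Nat.Prime.dvd_mul hp).1 h with h | h
      · right; left; exact (Nat.prime_dvd_prime_iff_eq hp Nat.prime_three).1 h
      · right; right; exact (Nat.prime_dvd_prime_iff_eq hp (by norm_num)).1 h
  · rintro (rfl | rfl | rfl) <;> norm_num

theorem prime_dvd_H {p : ℕ} (hp : p.Prime) (k : ℕ) :
    p ∣ (8 ^ k) ^ 2 * (8 * (8 - 1) * (8 + 1)) ↔ p = 2 ∨ p = 3 ∨ p = 7 := by
  constructor
  · intro h
    rw [show (8 : ℕ) * (8 - 1) * (8 + 1) = 2 ^ 3 * (3 ^ 2 * 7) by norm_num,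
      show (8 : ℕ) = 2 ^ 3 by norm_num] at h
    rcases (Nat.Prime.dvd_mul hp).1 h with h | h
    · left
      exact (Nat.prime_dvd_prime_iff_eq hp Nat.prime_two).1
        (hp.dvd_of_dvd_pow (hp.dvd_of_dvd_pow (hp.dvd_of_dvd_pow h)))
    · rcases (Nat.Prime.dvd_mul hp).1 h with h | h
      · left; exact (Nat.prime_dvd_prime_iff_eq hp Nat.prime_two).1 (hp.dvd_of_dvd_pow h)
      · rcases (Nat.Prime.dvd_mul hp).1 h with h | h
        · right; left; exact (Nat.prime_dvd_prime_iff_eq hp Nat.prime_three).1 (hp.dvd_of_dvd_pow h)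
        · right; right; exact (Nat.prime_dvd_prime_iff_eq hp (by norm_num)).1 h
  · rintro (rfl | rfl | rfl)
    · exact Dvd.dvd.mul_left (by norm_num) _
    · exact Dvd.dvd.mul_left (by norm_num) _
    · exact Dvd.dvd.mul_left (by norm_num) _

section semi
variable (K : Type*) [Field K] (k : ℕ)

/-- `SL₂(K)` acting on `2 × k` matrices by left multiplication -/
noncomputable def act :
    Matrix.SpecialLinearGroup (Fin 2) K →* MulAut (Multiplicative (Matrix (Fin 2) (Fin k) K)) where
  toFun g :=
    { toFun := fun v => Multiplicative.ofAdd ((g : Matrix (Fin 2) (Fin 2) K) * Multiplicative.toAdd v)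
      invFun := fun v => Multiplicative.ofAdd
        (((g⁻¹ : Matrix.SpecialLinearGroup (Fin 2) K) : Matrix (Fin 2) (Fin 2) K) * Multiplicative.toAdd v)
      left_inv := by
        intro v
        apply Multiplicative.toAdd.injective
        show ((g⁻¹ : Matrix.SpecialLinearGroup (Fin 2) K) : Matrix (Fin 2) (Fin 2) K) *
          ((g : Matrix (Fin 2) (Fin 2) K) * Multiplicative.toAdd v) = Multiplicative.toAdd v
        rw [← Matrix.mul_assoc, ← Matrix.SpecialLinearGroup.coe_mul, inv_mul_cancel,
          Matrix.SpecialLinearGroup.coe_one, Matrix.one_mul]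
      right_inv := by
        intro v
        apply Multiplicative.toAdd.injective
        show (g : Matrix (Fin 2) (Fin 2) K) *
          (((g⁻¹ : Matrix.SpecialLinearGroup (Fin 2) K) : Matrix (Fin 2) (Fin 2) K) *
            Multiplicative.toAdd v) = Multiplicative.toAdd v
        rw [← Matrix.mul_assoc, ← Matrix.SpecialLinearGroup.coe_mul, mul_inv_cancel,
          Matrix.SpecialLinearGroup.coe_one, Matrix.one_mul]
      map_mul' := by
        intro v w
        apply Multiplicative.toAdd.injective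
        show (g : Matrix (Fin 2) (Fin 2) K) * (Multiplicative.toAdd v + Multiplicative.toAdd w) =
          (g : Matrix (Fin 2) (Fin 2) K) * Multiplicative.toAdd v +
            (g : Matrix (Fin 2) (Fin 2) K) * Multiplicative.toAdd w
        exact Matrix.mul_add _ _ _ }
  map_one' := by
    apply MulEquiv.ext
    intro v
    apply Multiplicative.toAdd.injective
    show ((1 : Matrix.SpecialLinearGroup (Fin 2) K) : Matrix (Fin 2) (Fin 2) K) *
      Multiplicative.toAdd v = Multiplicative.toAdd v
    rw [Matrix.SpecialLinearGroup.coe_one, Matrix.one_mul]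
  map_mul' := by
    intro g h
    apply MulEquiv.ext
    intro v
    apply Multiplicative.toAdd.injective
    show ((g * h : Matrix.SpecialLinearGroup (Fin 2) K) : Matrix (Fin 2) (Fin 2) K) *
      Multiplicative.toAdd v = (g : Matrix (Fin 2) (Fin 2) K) *
        ((h : Matrix (Fin 2) (Fin 2) K) * Multiplicative.toAdd v)
    rw [Matrix.SpecialLinearGroup.coe_mul, Matrix.mul_assoc]

theorem act_apply (g : Matrix.SpecialLinearGroup (Fin 2) K)
    (v : Multiplicative (Matrix (Fin 2) (Fin k) K)) :
    Multiplicative.toAdd (act K k g v) = (g : Matrix (Fin 2) (Fin 2) K) * Multiplicative.toAdd v := rfl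

theorem right_pow (h : Multiplicative (Matrix (Fin 2) (Fin k) K) ⋊[act K k]
    Matrix.SpecialLinearGroup (Fin 2) K) (n : ℕ) : (h ^ n).right = h.right ^ n := by
  have := map_pow (SemidirectProduct.rightHom : Multiplicative (Matrix (Fin 2) (Fin k) K) ⋊[act K k]
    Matrix.SpecialLinearGroup (Fin 2) K →* _) h n
  simpa using this

theorem left_pow (h : Multiplicative (Matrix (Fin 2) (Fin k) K) ⋊[act K k]
    Matrix.SpecialLinearGroup (Fin 2) K) (n : ℕ) :
    Multiplicative.toAdd (h ^ n).left =
      (∑ i ∈ Finset.range n, (h.right : Matrix (Fin 2) (Fin 2) K) ^ i) * Multiplicative.toAdd h.left := by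
  induction n with
  | zero =>
    rw [pow_zero, SemidirectProduct.one_left, Finset.range_zero, Finset.sum_empty, Matrix.zero_mul]
    rfl
  | succ n ih =>
    rw [pow_succ, SemidirectProduct.mul_left, toAdd_mul, ih, right_pow, act_apply,
      Matrix.SpecialLinearGroup.coe_pow, Finset.sum_range_succ, Matrix.add_mul]

theorem pow_eq_one (h : Multiplicative (Matrix (Fin 2) (Fin k) K) ⋊[act K k]
    Matrix.SpecialLinearGroup (Fin 2) K) (n : ℕ) (hg : h.right ^ n = 1)
    (hS : ∑ i ∈ Finset.range n, (h.right : Matrix (Fin 2) (Fin 2) K) ^ i = 0) : h ^ n = 1 := by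
  apply SemidirectProduct.ext
  · apply Multiplicative.toAdd.injective
    rw [left_pow, hS, Matrix.zero_mul, SemidirectProduct.one_left]
    rfl
  · rw [right_pow, hg, SemidirectProduct.one_right]

theorem S_zero [Fintype K] [CharP K 2] (g : Matrix.SpecialLinearGroup (Fin 2) K) (hg2 : g * g ≠ 1) (n : ℕ)
    (hn : g ^ n = 1) : ∑ i ∈ Finset.range n, (g : Matrix (Fin 2) (Fin 2) K) ^ i = 0 := by
  have h1 := geom_sum_mul (g : Matrix (Fin 2) (Fin 2) K) n
  rw [← Matrix.SpecialLinearGroup.coe_pow, hn, Matrix.SpecialLinearGroup.coe_one, sub_self] at h1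
  have hdet : ((g : Matrix (Fin 2) (Fin 2) K) - 1).det ≠ 0 := by
    intro h0
    apply hg2
    have hd := g.det_coe
    rw [Matrix.det_fin_two] at hd
    rw [Matrix.det_fin_two, Matrix.sub_apply, Matrix.sub_apply, Matrix.sub_apply, Matrix.sub_apply,
      Matrix.one_apply_eq, Matrix.one_apply_eq, Matrix.one_apply_ne (by decide),
      Matrix.one_apply_ne (by decide)] at h0
    have h2 : (2 : K) = 0 := CharTwo.two_eq_zero
    have h3 : (g : Matrix (Fin 2) (Fin 2) K) 0 0 + (g : Matrix (Fin 2) (Fin 2) K) 1 1 = 0 := by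
      linear_combination (-1 : K) * h0 + hd + h2
    rw [sq_of_trace_zero g h3]
    exact zz_eq_one
  have hu : IsUnit ((g : Matrix (Fin 2) (Fin 2) K) - 1).det := isUnit_iff_ne_zero.2 hdet
  calc ∑ i ∈ Finset.range n, (g : Matrix (Fin 2) (Fin 2) K) ^ i
      = (∑ i ∈ Finset.range n, (g : Matrix (Fin 2) (Fin 2) K) ^ i) *
          (((g : Matrix (Fin 2) (Fin 2) K) - 1) * ((g : Matrix (Fin 2) (Fin 2) K) - 1)⁻¹) := by
        rw [Matrix.mul_nonsing_inv _ hu, Matrix.mul_one]
    _ = 0 := by rw [← Matrix.mul_assoc, h1, Matrix.zero_mul]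

theorem S4_zero [CharP K 2] (g : Matrix.SpecialLinearGroup (Fin 2) K) (hg2 : g * g = 1) :
    ∑ i ∈ Finset.range 4, (g : Matrix (Fin 2) (Fin 2) K) ^ i = 0 := by
  have hx2 : (g : Matrix (Fin 2) (Fin 2) K) * (g : Matrix (Fin 2) (Fin 2) K) = 1 := by
    rw [← Matrix.SpecialLinearGroup.coe_mul, hg2, Matrix.SpecialLinearGroup.coe_one]
  have h3' : (g : Matrix (Fin 2) (Fin 2) K) ^ 2 = 1 := by rw [pow_two]; exact hx2
  have h4' : (g : Matrix (Fin 2) (Fin 2) K) ^ 3 = (g : Matrix (Fin 2) (Fin 2) K) := by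
    rw [pow_succ, h3', Matrix.one_mul]
  simp only [Finset.sum_range_succ, Finset.sum_range_zero, zero_add, pow_zero, pow_one, h3', h4']
  have h2 : (2 : K) = 0 := CharTwo.two_eq_zero
  have h3 : (1 + (g : Matrix (Fin 2) (Fin 2) K) + 1 + (g : Matrix (Fin 2) (Fin 2) K)) =
      (2 : K) • (1 + (g : Matrix (Fin 2) (Fin 2) K)) := by
    rw [two_smul]; abel
  rw [h3, h2, zero_smul]

theorem H_pow [Fintype K] [CharP K 2] (hK : Fintype.card K = 8)
    (h : Multiplicative (Matrix (Fin 2) (Fin k) K) ⋊[act K k] Matrix.SpecialLinearGroup (Fin 2) K) :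
    h ^ 4 = 1 ∨ h ^ 7 = 1 ∨ h ^ 9 = 1 := by
  by_cases hg2 : h.right * h.right = 1
  · left
    apply pow_eq_one K k h 4 _ (S4_zero K _ hg2)
    have h22 : h.right ^ 2 = 1 := by rw [pow_two]; exact hg2
    rw [show 4 = 2 * 2 by norm_num, pow_mul, h22, one_pow]
  · rcases pow_cases 2 h.right with h1 | h1 | h1
    · exfalso
      apply hg2
      apply pr_injective
      rw [map_one, ← pow_two, map_pow, h1]
    · right; left
      rw [hK] at h1
      exact pow_eq_one K k h 7 h1 (S_zero K _ hg2 7 h1)
    · right; right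
      rw [hK] at h1
      exact pow_eq_one K k h 9 h1 (S_zero K _ hg2 9 h1)

theorem H_card [Fintype K] (hK : Fintype.card K = 8) :
    Nat.card (Multiplicative (Matrix (Fin 2) (Fin k) K) ⋊[act K k]
      Matrix.SpecialLinearGroup (Fin 2) K) = (8 ^ k) ^ 2 * (8 * (8 - 1) * (8 + 1)) := by
  rw [Nat.card_congr SemidirectProduct.equivProd, Nat.card_prod, card_sl2, hK]
  congr 1
  rw [Nat.card_congr Multiplicative.toAdd]
  show Nat.card (Fin 2 → Fin k → K) = _
  rw [Nat.card_fun, Nat.card_fun, Nat.card_eq_fintype_card, hK]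
  simp

theorem H_finite [Finite K] : Finite (Multiplicative (Matrix (Fin 2) (Fin k) K) ⋊[act K k]
    Matrix.SpecialLinearGroup (Fin 2) K) :=
  Finite.of_equiv _ SemidirectProduct.equivProd.symm

end semi

/-- The prime graph of a finite group has the prime divisors of its order as vertices, two distinct primes p, q being joined when the group has an element of order pq; two groups have the same prime graph when they have the same prime divisors and the same joined pairs. Let F be the field with 7 elements. There are finite groups of arbitrarily large order with the same prime graph as PSL(2,F) (the graph on {2, 3, 7} with no edges, which is also the prime graph of PSL(2,8)). -/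
theorem result {F : Type*} [Field F] [Fintype F] (hF : Fintype.card F = 7) (N : ℕ) :
    ∃ (H : Type) (_ : Group H) (_ : Finite H), N < Nat.card H ∧
      ((∀ p : ℕ, p.Prime → (p ∣ Nat.card (Matrix.ProjectiveSpecialLinearGroup (Fin 2) F) ↔ p ∣ Nat.card H)) ∧
      (∀ p q : ℕ, p.Prime → q.Prime → p ≠ q → ((∃ g : (Matrix.ProjectiveSpecialLinearGroup (Fin 2) F), orderOf g = p * q) ↔ (∃ g : H, orderOf g = p * q)))) := by
  classical
  -- the field with 7 elements
  obtain ⟨p, hp⟩ := CharP.exists F
  haveI := hp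
  obtain ⟨n, hpp, hqn⟩ := FiniteField.card F p
  have hp7 : p = 7 := by
    rw [hF] at hqn
    have h1 : p ∣ 7 := by
      rw [hqn]
      exact dvd_pow_self p (by have := n.pos; omega)
    exact (Nat.prime_dvd_prime_iff_eq hpp (by norm_num)).1 h1
  subst hp7
  haveI : Fact (Nat.Prime 7) := ⟨hpp⟩
  have hodd : Odd (Fintype.card F) := by rw [hF]; exact ⟨3, by norm_num⟩
  have hL : ∀ g : Matrix.ProjectiveSpecialLinearGroup (Fin 2) F,
      orderOf g ∣ 7 ^ 1 ∨ orderOf g ∣ 3 ^ 1 ∨ orderOf g ∣ 2 ^ 2 := by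
    intro x
    obtain ⟨g, rfl⟩ := pr_surj x
    rcases pow_cases 7 g with h | h | h
    · left; exact orderOf_dvd_of_pow_eq_one h
    · right; left
      apply orderOf_dvd_of_pow_eq_one
      apply pr_pow_half hodd
      rw [hF] at h
      norm_num at h ⊢
      exact h
    · right; right
      apply orderOf_dvd_of_pow_eq_one
      apply pr_pow_half hodd
      rw [hF] at h
      norm_num at h ⊢
      exact h
  have hLcard : Nat.card (Matrix.ProjectiveSpecialLinearGroup (Fin 2) F) = 168 := by
    have h := Cfsg.Agent.Lib.Helper1.card_PSL2 F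
    rw [hF] at h
    have h6 : Nat.gcd 2 (7 - 1) = 2 := by norm_num
    rw [h6] at h
    omega
  -- the field with 8 elements
  haveI : Fintype (GaloisField 2 3) := Fintype.ofFinite _
  have hK : Fintype.card (GaloisField 2 3) = 8 := by
    rw [← Nat.card_eq_fintype_card, GaloisField.card 2 3 (by norm_num)]
    norm_num
  haveI := H_finite (GaloisField 2 3) N
  refine ⟨Multiplicative (Matrix (Fin 2) (Fin N) (GaloisField 2 3)) ⋊[act (GaloisField 2 3) N]
    Matrix.SpecialLinearGroup (Fin 2) (GaloisField 2 3), inferInstance, inferInstance, ?_, ?_, ?_⟩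
  · rw [H_card _ N hK]
    have h1 : N < 8 ^ N := Nat.lt_pow_self (by norm_num)
    have h2 : 8 ^ N ≤ (8 ^ N) ^ 2 := by
      rw [pow_two]; exact Nat.le_mul_self _
    calc N < 8 ^ N := h1
      _ ≤ (8 ^ N) ^ 2 := h2
      _ ≤ (8 ^ N) ^ 2 * (8 * (8 - 1) * (8 + 1)) := Nat.le_mul_of_pos_right _ (by norm_num)
  · intro p hp
    rw [H_card _ N hK, hLcard, prime_dvd_168 hp, prime_dvd_H hp]
  · intro p q hp hq hne
    constructor
    · rintro ⟨g, hg⟩
      exfalso
      rcases hL g with h | h | h
      · rw [hg] at h; exact no_pq hp hq hne (by norm_num) 1 h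
      · rw [hg] at h; exact no_pq hp hq hne Nat.prime_three 1 h
      · rw [hg] at h; exact no_pq hp hq hne Nat.prime_two 2 h
    · rintro ⟨g, hg⟩
      exfalso
      rcases H_pow (GaloisField 2 3) N hK g with h | h | h
      · have h1 := orderOf_dvd_of_pow_eq_one h
        rw [hg] at h1
        exact no_pq hp hq hne Nat.prime_two 2 (by norm_num at h1 ⊢; exact h1)
      · have h1 := orderOf_dvd_of_pow_eq_one h
        rw [hg] at h1
        exact no_pq hp hq hne (show Nat.Prime 7 by norm_num) 1 (by norm_num at h1 ⊢; exact h1)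
      · have h1 := orderOf_dvd_of_pow_eq_one h
        rw [hg] at h1
        exact no_pq hp hq hne Nat.prime_three 2 (by norm_num at h1 ⊢; exact h1)

end Cfsg.Agent.S3678
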