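import Cfsg.Statements.S3683
import Mathlib

set_option autoImplicit false
open Cfsg

namespace Cfsg.Agent.S3683

/-- Let a finite group G act faithfully and primitively on a set Ω, and suppose the stabilizer of a point a fixes a second point b ≠ a (a suborbit of length 1 other than {a}). Then the stabilizer of a is trivial and G is cyclic of prime order. -/
theorem result {G Ω : Type*} [Group G] [Finite G] [MulAction G Ω] [FaithfulSMul G Ω] [Finite Ω]
    (hprim : MulAction.IsPreprimitive G Ω) (a b : Ω) (hab : a ≠ b) (hfix : ∀ g : G, g • a = a → g • b = b) :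
    MulAction.stabilizer G a = ⊥ ∧ IsCyclic G ∧ (Nat.card G).Prime := by
  have : Nontrivial Ω := ⟨⟨a, b, hab⟩⟩
  have := hprim
  have hco : IsCoatom (MulAction.stabilizer G a) :=
    MulAction.IsPreprimitive.isCoatom_stabilizer_of_isPreprimitive G a
  have hle : MulAction.stabilizer G a ≤ MulAction.stabilizer G b := fun g hg => hfix g hg
  have hbtop : MulAction.stabilizer G b ≠ ⊤ := by
    intro h
    obtain ⟨g, hg⟩ := MulAction.exists_smul_eq G b a
    have : g ∈ MulAction.stabilizer G b := by rw [h]; exact Subgroup.mem_top g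
    rw [MulAction.mem_stabilizer_iff] at this
    exact hab (hg.symm.trans this)
  have heq : MulAction.stabilizer G b = MulAction.stabilizer G a := by
    rcases eq_or_lt_of_le hle with h | h
    · exact h.symm
    · exact absurd (hco.2 _ h) hbtop
  obtain ⟨g, hg⟩ := MulAction.exists_smul_eq G a b
  have hconj : (MulAction.stabilizer G a).map (MulAut.conj g).toMonoidHom = MulAction.stabilizer G a := by
    rw [← MulAction.stabilizer_smul_eq_stabilizer_map_conj, hg, heq]
  have hgN : g ∈ Subgroup.normalizer (MulAction.stabilizer G a : Set G) := by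
    rw [Subgroup.mem_normalizer_iff]
    intro h
    constructor
    · intro hh
      rw [← hconj]
      exact ⟨h, hh, rfl⟩
    · intro hh
      rw [← hconj] at hh
      obtain ⟨x, hx, hxe⟩ := hh
      have : x = h := by
        simp only [MulEquiv.coe_toMonoidHom, MulAut.conj_apply] at hxe
        have := congrArg (fun y => g⁻¹ * y * g) hxe
        simpa [mul_assoc] using this
      rw [← this]; exact hx
  have hgn : g ∉ MulAction.stabilizer G a := by
    intro h
    rw [MulAction.mem_stabilizer_iff] at h
    exact hab (h.symm.trans hg)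
  have hNtop : Subgroup.normalizer (MulAction.stabilizer G a : Set G) = ⊤ := by
    apply hco.2
    exact lt_of_le_of_ne Subgroup.le_normalizer (fun h => hgn (h ▸ hgN))
  have hnorm : (MulAction.stabilizer G a).Normal := Subgroup.normalizer_eq_top_iff.mp hNtop
  have hbot : MulAction.stabilizer G a = ⊥ := by
    rw [Subgroup.eq_bot_iff_forall]
    intro s hs
    apply FaithfulSMul.eq_of_smul_eq_smul (α := Ω)
    intro x
    obtain ⟨h, rfl⟩ := MulAction.exists_smul_eq G a x
    have : h⁻¹ * s * h ∈ MulAction.stabilizer G a := by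
      have := hnorm.conj_mem s hs h⁻¹
      simpa using this
    rw [MulAction.mem_stabilizer_iff] at this
    rw [one_smul, ← mul_smul]
    have h2 : s * h = h * (h⁻¹ * s * h) := by group
    rw [h2, mul_smul, this]
  refine ⟨hbot, ?_⟩
  rw [hbot] at hco
  have hsub : ∀ H : Subgroup G, H = ⊥ ∨ H = ⊤ := by
    intro H
    rcases eq_or_lt_of_le (bot_le : ⊥ ≤ H) with h | h
    · left; exact h.symm
    · right; exact hco.2 _ h
  have : Nontrivial G := by
    by_contra hnt
    rw [not_nontrivial_iff_subsingleton] at hnt
    exact hco.1 (Subsingleton.elim _ _)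
  obtain ⟨g₀, hg₀⟩ := exists_ne (1 : G)
  have hz : Subgroup.zpowers g₀ = ⊤ := by
    rcases hsub (Subgroup.zpowers g₀) with h | h
    · exfalso; apply hg₀
      have : g₀ ∈ Subgroup.zpowers g₀ := Subgroup.mem_zpowers g₀
      rw [h, Subgroup.mem_bot] at this
      exact this
    · exact h
  have hcyc : IsCyclic G := ⟨⟨g₀, fun x => by
    have : x ∈ Subgroup.zpowers g₀ := by rw [hz]; exact Subgroup.mem_top x
    exact this⟩⟩
  refine ⟨hcyc, ?_⟩
  let : CommGroup G := IsCyclic.commGroup
  have : IsSimpleGroup G := ⟨fun H _ => hsub H⟩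
  exact IsSimpleGroup.prime_card

end Cfsg.Agent.S3683
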