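import Cfsg.Statements.S3684
import Mathlib
import Cfsg.Agent.Lib.Helper1.Dih2

set_option autoImplicit false
open Cfsg Cfsg.Agent.Lib.Helper1

namespace Cfsg.Agent.S3684

open MulAction

theorem part1 {G Ω : Type*} [Group G] [Finite G] [MulAction G Ω] [FaithfulSMul G Ω] [Finite Ω]
    (hprim : MulAction.IsPreprimitive G Ω) (a b : Ω)
    (h2 : Nat.card (MulAction.orbit (MulAction.stabilizer G a) b) = 2) :
    Nat.card (stabilizer G a) = 2 ∧ Nat.card (stabilizer G b) = 2 ∧
      stabilizer G a ⊔ stabilizer G b = ⊤ ∧ stabilizer G a ≠ stabilizer G b := by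
  haveI := hprim.toIsPretransitive
  have hab : a ≠ b := by
    intro h
    subst h
    have : MulAction.orbit (MulAction.stabilizer G a) a = {a} := by
      ext x
      constructor
      · rintro ⟨g, rfl⟩
        exact g.2
      · intro hx
        rw [Set.mem_singleton_iff.1 hx]
        exact MulAction.mem_orbit_self a
    rw [this] at h2
    simp at h2
  haveI : Nontrivial Ω := ⟨⟨a, b, hab⟩⟩
  have hrel0 : (stabilizer G b).relIndex (stabilizer G a) = 2 := by
    have h1 := MulAction.index_stabilizer (stabilizer G a) b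
    rw [← Nat.card_coe_set_eq, h2] at h1
    have e : stabilizer (stabilizer G a) b = (stabilizer G b).subgroupOf (stabilizer G a) := by
      ext x
      rw [Subgroup.mem_subgroupOf, mem_stabilizer_iff, mem_stabilizer_iff]
      rfl
    rw [e] at h1
    exact h1
  have hco0 : IsCoatom (stabilizer G a) :=
    (isCoatom_stabilizer_iff_preprimitive (G := G) a).2 hprim
  obtain ⟨Ga, hGa⟩ : ∃ Ga, Ga = stabilizer G a := ⟨_, rfl⟩
  obtain ⟨Gb, hGb⟩ : ∃ Gb, Gb = stabilizer G b := ⟨_, rfl⟩
  rw [← hGa, ← hGb]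
  rw [← hGa, ← hGb] at hrel0
  rw [← hGa] at hco0
  have hrel : Gb.relIndex Ga = 2 := hrel0
  have hcard : Nat.card Ga = Nat.card Gb := by
    obtain ⟨g, hg⟩ := MulAction.exists_smul_eq G a b
    rw [hGa, hGb]
    exact Nat.card_congr (stabilizerEquivStabilizer hg.symm).toEquiv
  obtain ⟨K, hK⟩ : ∃ K, K = Ga ⊓ Gb := ⟨_, rfl⟩
  have hKa : K.relIndex Ga = 2 := by
    rw [hK, inf_comm, Subgroup.inf_relIndex_right, hrel]
  have hcK : ∀ H : Subgroup G, K ≤ H → Nat.card K * K.relIndex H = Nat.card H := by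
    intro H hle
    have := Subgroup.card_mul_index (K.subgroupOf H)
    rwa [Nat.card_congr (Subgroup.subgroupOfEquivOfLe hle).toEquiv] at this
  have hKleA : K ≤ Ga := by rw [hK]; exact inf_le_left
  have hKleB : K ≤ Gb := by rw [hK]; exact inf_le_right
  have hKb : K.relIndex Gb = 2 := by
    have h1 := hcK Ga hKleA
    have h3 := hcK Gb hKleB
    rw [hKa, hcard, ← h3] at h1
    have hpos : 0 < Nat.card K := Nat.card_pos
    exact (Nat.eq_of_mul_eq_mul_left hpos h1).symm
  -- Gb not ≤ Ga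
  have hne : Ga ≠ Gb := by
    intro h
    rw [← h] at hrel
    rw [Subgroup.relIndex_self] at hrel
    omega
  have hnle : ¬ Gb ≤ Ga := by
    intro h
    apply hne
    symm
    exact Subgroup.eq_of_le_of_card_ge h (by rw [hcard])
  have hco : IsCoatom Ga := hco0
  have hsup : Ga ⊔ Gb = ⊤ := by
    by_contra h
    have := hco.2 (Ga ⊔ Gb) (lt_of_le_of_ne le_sup_left (fun h' => hnle (by rw [h']; exact le_sup_right)))
    exact h this
  -- K normal
  have hKn : K.Normal := by
    rw [← Subgroup.normalizer_eq_top_iff, eq_top_iff, ← hsup]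
    apply sup_le
    · have : (K.subgroupOf Ga).Normal := Subgroup.normal_of_index_eq_two hKa
      exact (Subgroup.normal_subgroupOf_iff_le_normalizer hKleA).1 this
    · have : (K.subgroupOf Gb).Normal := Subgroup.normal_of_index_eq_two hKb
      exact (Subgroup.normal_subgroupOf_iff_le_normalizer hKleB).1 this
  have hKbot : K = ⊥ := by
    rw [eq_bot_iff]
    intro k hk
    rw [Subgroup.mem_bot]
    apply FaithfulSMul.eq_of_smul_eq_smul (α := Ω)
    intro x
    obtain ⟨g, rfl⟩ := MulAction.exists_smul_eq G a x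
    have h1 : g⁻¹ * k * g⁻¹⁻¹ ∈ K := hKn.conj_mem k hk g⁻¹
    have h3 : g⁻¹ * k * g⁻¹⁻¹ ∈ stabilizer G a := by rw [← hGa]; exact hKleA h1
    rw [mem_stabilizer_iff] at h3
    rw [one_smul, ← mul_smul]
    have : k * g = g * (g⁻¹ * k * g⁻¹⁻¹) := by group
    rw [this, mul_smul, h3]
  have hKc : Nat.card K = 1 := by rw [hKbot]; exact Subgroup.card_bot
  have hA2 : Nat.card Ga = 2 := by
    have := hcK Ga hKleA
    rw [hKc, hKa] at this
    omega
  exact ⟨hA2, by rw [← hcard]; exact hA2, hsup, hne⟩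


theorem inv2 {G : Type*} [Group G] (H : Subgroup G) (h : Nat.card H = 2) :
    ∃ s : G, orderOf s = 2 ∧ H = Subgroup.zpowers s := by
  haveI : Finite H := Nat.finite_of_card_ne_zero (by omega)
  have hne : H ≠ ⊥ := by
    intro h'
    rw [h', Subgroup.card_bot] at h
    omega
  obtain ⟨s, hs, hs1⟩ : ∃ s ∈ H, s ≠ 1 := (H.bot_or_exists_ne_one).resolve_left hne
  have hd : orderOf s ∣ 2 := by
    rw [← h]
    have := orderOf_dvd_natCard (⟨s, hs⟩ : H)
    rwa [← Subgroup.orderOf_mk s hs]
  have ho : orderOf s = 2 := by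
    rcases (Nat.dvd_prime Nat.prime_two).1 hd with h1 | h1
    · exact absurd (orderOf_eq_one_iff.1 h1) hs1
    · exact h1
  refine ⟨s, ho, ?_⟩
  symm
  apply Subgroup.eq_of_le_of_card_ge
  · rw [Subgroup.zpowers_le]; exact hs
  · rw [Nat.card_zpowers, ho, h]

theorem main3684 {G Ω : Type*} [Group G] [Finite G] [MulAction G Ω] [FaithfulSMul G Ω] [Finite Ω]
    (hprim : MulAction.IsPreprimitive G Ω) (a b : Ω) (h2 : Nat.card (MulAction.orbit (MulAction.stabilizer G a) b) = 2) :
    Nat.card (MulAction.stabilizer G a) = 2 ∧ ∃ p : ℕ, p.Prime ∧ Nonempty (G ≃* DihedralGroup p) := by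
  obtain ⟨hA, hB, hsup, hne⟩ := part1 hprim a b h2
  refine ⟨hA, ?_⟩
  haveI := hprim.toIsPretransitive
  have hab : a ≠ b := by
    intro h
    apply hne
    rw [h]
  haveI : Nontrivial Ω := ⟨⟨a, b, hab⟩⟩
  have hco : IsCoatom (stabilizer G a) :=
    (isCoatom_stabilizer_iff_preprimitive (G := G) a).2 hprim
  obtain ⟨s, hs, hGa⟩ := inv2 _ hA
  obtain ⟨t, ht, hGb⟩ := inv2 _ hB
  rw [hGa] at hco
  rw [hGa, hGb] at hsup hne
  have hst : s ≠ t := by
    intro h
    apply hne
    rw [h]
  have hcl : Subgroup.closure ({s, t} : Set G) = ⊤ := by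
    rw [← hsup, Subgroup.zpowers_eq_closure, Subgroup.zpowers_eq_closure, ← Subgroup.closure_union]
    rfl
  obtain ⟨e⟩ := nonempty_mulEquiv_dihedral hs ht hst
  have e2 : G ≃* DihedralGroup (orderOf (s * t)) :=
    (Subgroup.topEquiv.symm.trans (MulEquiv.subgroupCongr hcl.symm)).trans e
  refine ⟨orderOf (s * t), ?_, ⟨e2⟩⟩
  obtain ⟨m, hm⟩ : ∃ m, m = orderOf (s * t) := ⟨_, rfl⟩
  rw [← hm]
  have hcardG : Nat.card G = 2 * m := by
    rw [Nat.card_congr e2.toEquiv, DihedralGroup.nat_card, hm]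
  have hs2 := sq_eq_one_of_orderOf_two hs
  have ht2 := sq_eq_one_of_orderOf_two ht
  have hs1 := ne_one_of_orderOf_two hs
  have ht1 := ne_one_of_orderOf_two ht
  have hm0 : m ≠ 0 := by
    rw [hm]
    exact (orderOf_pos (s * t)).ne'
  have hm1 : m ≠ 1 := by
    rw [hm]
    intro h
    rw [orderOf_eq_one_iff] at h
    apply hst
    have : s = t⁻¹ := eq_inv_of_mul_eq_one_left h
    rw [this]
    exact inv_eq_of_mul_eq_one_left ht2
  obtain ⟨q, hq, hqm⟩ := Nat.exists_prime_and_dvd hm1
  obtain ⟨c, hc⟩ : ∃ c, c = (s * t) ^ (m / q) := ⟨_, rfl⟩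
  have hoc : orderOf c = q := by
    rw [hc, hm]
    apply orderOf_pow_orderOf_div
    · rw [← hm]; exact hm0
    · rw [← hm]; exact hqm
  have hcz : c ∈ Subgroup.zpowers (s * t) := by
    rw [hc]; exact Subgroup.pow_mem _ (Subgroup.mem_zpowers _) _
  obtain ⟨K, hK⟩ : ∃ K, K = Subgroup.zpowers c := ⟨_, rfl⟩
  have hKcard : Nat.card K = q := by rw [hK, Nat.card_zpowers, hoc]
  have hKle : K ≤ Subgroup.zpowers (s * t) := by
    rw [hK, Subgroup.zpowers_le]; exact hcz
  have hKn : K.Normal := by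
    rw [← Subgroup.normalizer_eq_top_iff, eq_top_iff, ← hcl, Subgroup.closure_le]
    have key : ∀ x y : G, x * x = 1 → y * y = 1 → ∀ k : ℕ, x ∈ Subgroup.normalizer (Subgroup.zpowers ((x * y) ^ k) : Set G) := by
      intro x y hx hy k
      apply Subgroup.mem_normalizer_fintype
      intro g hg
      obtain ⟨j, rfl⟩ := hg
      have hx' : x⁻¹ = x := inv_eq_of_mul_eq_one_left hx
      rw [hx']
      have : x * ((x * y) ^ k) ^ j * x = (((x * y) ^ k) ^ j)⁻¹ := by
        rw [← zpow_natCast, ← zpow_mul, conj_mul_zpow hx hy, zpow_neg]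
      rw [this]
      exact Subgroup.inv_mem _ ⟨j, rfl⟩
    intro x hx
    rcases hx with rfl | hx
    · rw [hK, hc]
      exact key x t hs2 ht2 _
    · rw [Set.mem_singleton_iff] at hx
      subst hx
      have h1 := key x s ht2 hs2 (m / q)
      have h3 : Subgroup.zpowers ((x * s) ^ (m / q)) = K := by
        rw [hK, hc]
        have : (x * s) = (s * x)⁻¹ := by
          rw [mul_inv_rev, inv_eq_of_mul_eq_one_left ht2, inv_eq_of_mul_eq_one_left hs2]
        rw [this, inv_pow, Subgroup.zpowers_inv]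
      rw [h3] at h1
      exact h1
  have hKnle : ¬ K ≤ Subgroup.zpowers s := by
    intro hle
    have hd : q ∣ 2 := by
      rw [← hKcard, ← hs, ← Nat.card_zpowers]
      exact Subgroup.card_dvd_of_le hle
    have hq2 : q = 2 := (Nat.prime_dvd_prime_iff_eq hq Nat.prime_two).1 hd
    have : K = Subgroup.zpowers s := by
      apply Subgroup.eq_of_le_of_card_ge hle
      rw [hKcard, hq2, Nat.card_zpowers, hs]
    apply x_not_mem_zpowers hs2 ht2 hs1 ht1 hst
    apply hKle
    rw [this]
    exact Subgroup.mem_zpowers s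
  have hsupK : Subgroup.zpowers s ⊔ K = ⊤ := by
    by_contra h
    have := hco.2 (Subgroup.zpowers s ⊔ K) (lt_of_le_of_ne le_sup_left (fun h' => hKnle (by rw [h']; exact le_sup_right)))
    exact h this
  have hidx : K.index ∣ 2 := by
    have h1 : K.relIndex (Subgroup.zpowers s ⊔ K) = K.relIndex (Subgroup.zpowers s) :=
      Subgroup.relIndex_sup_right _ _
    rw [hsupK, Subgroup.relIndex_top_right] at h1
    rw [h1]
    have := Subgroup.relIndex_dvd_card K (Subgroup.zpowers s)
    rwa [Nat.card_zpowers, hs] at this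
  have hle2 : K.index ≤ 2 := Nat.le_of_dvd (by norm_num) hidx
  have hcm := Subgroup.card_mul_index K
  rw [hKcard, hcardG] at hcm
  have hmq : m ≤ q := by nlinarith
  have : m = q := le_antisymm hmq (Nat.le_of_dvd (Nat.pos_of_ne_zero hm0) hqm)
  rw [this]
  exact hq


/-- Let a finite group G act faithfully and primitively on a set Ω, and suppose the stabilizer of a point a has an orbit of length 2. Then the stabilizer of a has order 2 and G is isomorphic to the dihedral group of order 2p for some prime p. -/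
theorem result {G Ω : Type*} [Group G] [Finite G] [MulAction G Ω] [FaithfulSMul G Ω] [Finite Ω]
    (hprim : MulAction.IsPreprimitive G Ω) (a b : Ω) (h2 : Nat.card (MulAction.orbit (MulAction.stabilizer G a) b) = 2) :
    Nat.card (MulAction.stabilizer G a) = 2 ∧ ∃ p : ℕ, p.Prime ∧ Nonempty (G ≃* DihedralGroup p) := by
  exact main3684 hprim a b h2

end Cfsg.Agent.S3684
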