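import Cfsg.Statements.S3707
import Mathlib
import Cfsg.Agent.Lib.Helper6.JordanSets

set_option autoImplicit false
open Cfsg Cfsg.Agent.Lib.Helper6

namespace Cfsg.Agent.S3707

/-- Let G be a finite primitive permutation group on Ω of degree n and Γ ⊂ Ω a subset with 1 < #Γ ≤ n/2 such that the pointwise stabilizer of Ω ∖ Γ is transitive on Γ. Then G is 3-transitive on Ω. -/
theorem result {G Ω : Type*} [Group G] [Finite G] [MulAction G Ω] [FaithfulSMul G Ω] [Finite Ω] (hprim : MulAction.IsPreprimitive G Ω) (Γ : Set Ω) (h1 : 1 < Γ.ncard) (h2 : 2 * Γ.ncard ≤ Nat.card Ω) (htr : ∀ x ∈ Γ, ∀ y ∈ Γ, ∃ g : G, (∀ z ∉ Γ, g • z = z) ∧ g • x = y) : MulAction.IsMultiplyPretransitive G Ω 3 := by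
  have hc := Set.ncard_add_ncard_compl Γ
  have hJ : MulAction.IsPretransitive ↥(fixingSubgroup G Γᶜ) ↥(SubMulAction.ofFixingSubgroup G Γᶜ) := by
    constructor
    intro x y
    have hx : (x : Ω) ∈ Γ := by
      have := x.2
      rw [SubMulAction.mem_ofFixingSubgroup_iff] at this
      simpa using this
    have hy : (y : Ω) ∈ Γ := by
      have := y.2
      rw [SubMulAction.mem_ofFixingSubgroup_iff] at this
      simpa using this
    obtain ⟨g, hg1, hg2⟩ := htr _ hx _ hy
    have hgm : g ∈ fixingSubgroup G Γᶜ := by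
      rw [mem_fixingSubgroup_iff]
      intro z hz
      exact hg1 z hz
    exact ⟨⟨g, hgm⟩, Subtype.ext hg2⟩
  obtain ⟨m, hm⟩ : ∃ m, Γᶜ.ncard = m + 1 := ⟨Γᶜ.ncard - 1, by omega⟩
  have h2t : MulAction.IsMultiplyPretransitive G Ω 2 :=
    MulAction.IsPreprimitive.is_two_pretransitive hprim hm (by omega) hJ
  have h2' : ∀ a b c d : Ω, a ≠ b → c ≠ d → ∃ g : G, g • a = c ∧ g • b = d := by
    intro a b c d hab hcd
    exact MulAction.is_two_pretransitive_iff.mp h2t hab hcd
  obtain ⟨E, hEJ, hEc⟩ := exists_jset_ncard_add_two h2' Γ htr (by omega) h2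
  exact three_trans_of_jset h2' E hEJ hEc

end Cfsg.Agent.S3707
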