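import Cfsg.Statements.S3733
import Mathlib

set_option autoImplicit false
open Cfsg

namespace Cfsg.Agent.S3733

open scoped IsMulCommutative

variable {G : Type*} [Group G]

/-- conjugation by a normalizing element, as an endomorphism of `V` -/
def conjHom (V : Subgroup G) (a : G) (ha : a ∈ Subgroup.normalizer (V : Set G)) : ↥V →* ↥V where
  toFun v := ⟨a * v * a⁻¹, (Subgroup.mem_normalizer_iff.1 ha v).1 v.2⟩
  map_one' := by apply Subtype.ext; simp
  map_mul' := by
    intro x y
    apply Subtype.ext
    simp only [Subgroup.coe_mul]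
    group

open Classical in
/-- total version -/
noncomputable def phi (V : Subgroup G) (a : G) : ↥V →* ↥V :=
  if ha : a ∈ Subgroup.normalizer (V : Set G) then conjHom V a ha else 1

theorem phi_apply (V : Subgroup G) (a : G) (ha : a ∈ Subgroup.normalizer (V : Set G)) (v : V) :
    ((phi V a v : V) : G) = a * v * a⁻¹ := by
  unfold phi
  rw [dif_pos ha]
  rfl

theorem phi_one (V : Subgroup G) (v : V) : phi V 1 v = v := by
  apply Subtype.ext
  rw [phi_apply V 1 (Subgroup.one_mem _)]
  simp

theorem phi_mul (V : Subgroup G) (a b : G) (ha : a ∈ Subgroup.normalizer (V : Set G))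
    (hb : b ∈ Subgroup.normalizer (V : Set G)) (v : V) :
    phi V a (phi V b v) = phi V (a * b) v := by
  apply Subtype.ext
  rw [phi_apply V a ha, phi_apply V b hb, phi_apply V (a * b) (Subgroup.mul_mem _ ha hb)]
  group


open Classical in
/-- the norm (product of conjugates) over a subgroup -/
noncomputable def norm [Fintype G] (V : Subgroup G) [IsMulCommutative V] (B : Subgroup G) (v : V) : V :=
  ∏ b ∈ Finset.univ.filter (fun b : G => b ∈ B), phi V b v

open Classical in
theorem norm_mem_centralizer [Fintype G] (V : Subgroup G) [IsMulCommutative V] (B : Subgroup G)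
    (hB : B ≤ Subgroup.normalizer (V : Set G)) (v : V) :
    ((norm V B v : V) : G) ∈ V ⊓ Subgroup.centralizer (B : Set G) := by
  rw [Subgroup.mem_inf]
  refine ⟨(norm V B v).2, ?_⟩
  rw [Subgroup.mem_centralizer_iff]
  intro c hc
  have hinv : phi V c (norm V B v) = norm V B v := by
    unfold norm
    rw [map_prod]
    apply Finset.prod_bij (fun b _ => c * b)
    · intro b hb
      simp only [Finset.mem_filter, Finset.mem_univ, true_and] at hb ⊢
      exact B.mul_mem hc hb
    · intro b1 _ b2 _ h
      exact mul_left_cancel h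
    · intro b hb
      simp only [Finset.mem_filter, Finset.mem_univ, true_and] at hb
      refine ⟨c⁻¹ * b, ?_, by group⟩
      simp only [Finset.mem_filter, Finset.mem_univ, true_and]
      exact B.mul_mem (B.inv_mem hc) hb
    · intro b hb
      simp only [Finset.mem_filter, Finset.mem_univ, true_and] at hb
      exact phi_mul V c b (hB hc) (hB hb) v
  have h1 := congrArg Subtype.val hinv
  rw [phi_apply V c (hB hc)] at h1
  -- c * n * c⁻¹ = n → c * n = n * c
  calc c * ((norm V B v : V) : G) = (c * ((norm V B v : V) : G) * c⁻¹) * c := by group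
    _ = ((norm V B v : V) : G) * c := by rw [h1]

theorem result {G : Type*} [Group G] [Finite G] (A V : Subgroup G) (hVab : IsMulCommutative V) (hV : V ≠ ⊥) (hAV : A ≤ Subgroup.normalizer (V : Set G)) (𝒜 : Finset (Subgroup G)) (hne : 𝒜.Nonempty) (hprop : ∀ B ∈ 𝒜, B < A) (hpart : ∀ a ∈ A, a ≠ 1 → ∃! B, B ∈ 𝒜 ∧ a ∈ B) (hk : (𝒜.card - 1).Coprime (Nat.card V)) : ∃ B ∈ 𝒜, V ⊓ Subgroup.centralizer (B : Set G) ≠ ⊥ := by
  classical
  haveI : Fintype G := Fintype.ofFinite G
  by_contra hcon
  push_neg at hcon
  obtain ⟨B₀, hB₀⟩ := hne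
  -- all norms are trivial
  have hnormB : ∀ B ∈ 𝒜, ∀ v : V, norm V B v = 1 := by
    intro B hB v
    have h1 := norm_mem_centralizer V B ((hprop B hB).le.trans hAV) v
    rw [hcon B hB, Subgroup.mem_bot] at h1
    exact Subtype.ext h1
  have hnormA : ∀ v : V, norm V A v = 1 := by
    intro v
    have h1 := norm_mem_centralizer V A hAV v
    have h2 : V ⊓ Subgroup.centralizer (A : Set G) ≤ V ⊓ Subgroup.centralizer (B₀ : Set G) :=
      inf_le_inf_left V (Subgroup.centralizer_le (by exact_mod_cast (hprop B₀ hB₀).le))
    have h3 := h2 h1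
    rw [hcon B₀ hB₀, Subgroup.mem_bot] at h3
    exact Subtype.ext h3
  -- the double counting
  have hpow : ∀ v : V, v ^ (𝒜.card - 1) = 1 := by
    intro v
    have hcount : ∏ B ∈ 𝒜, norm V B v = norm V A v * v ^ (𝒜.card - 1) := by
      unfold norm
      rw [Finset.prod_comm' (t' := Finset.univ.filter (fun a : G => a ∈ A))
        (s' := fun a => 𝒜.filter (fun B => a ∈ B))]
      · simp only [Finset.prod_const]
        have : ∀ a ∈ Finset.univ.filter (fun a : G => a ∈ A),
            (phi V a v) ^ (𝒜.filter (fun B => a ∈ B)).card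
              = phi V a v * (if a = 1 then v ^ (𝒜.card - 1) else 1) := by
          intro a ha
          simp only [Finset.mem_filter, Finset.mem_univ, true_and] at ha
          by_cases h1 : a = 1
          · subst h1
            rw [if_pos rfl, phi_one]
            have : 𝒜.filter (fun B => (1 : G) ∈ B) = 𝒜 := by
              apply Finset.filter_true_of_mem
              intro B _
              exact B.one_mem
            rw [this, ← pow_succ']
            congr 1
            have := Finset.card_pos.2 ⟨B₀, hB₀⟩
            omega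
          · rw [if_neg h1, mul_one]
            obtain ⟨B, ⟨hB1, hB2⟩, huniq⟩ := hpart a ha h1
            have : 𝒜.filter (fun B => a ∈ B) = {B} := by
              ext B'
              simp only [Finset.mem_filter, Finset.mem_singleton]
              constructor
              · intro h; exact huniq B' h
              · rintro rfl; exact ⟨hB1, hB2⟩
            rw [this, Finset.card_singleton, pow_one]
        rw [Finset.prod_congr rfl this, Finset.prod_mul_distrib]
        congr 1
        rw [Finset.prod_ite_eq']
        rw [if_pos]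
        simp only [Finset.mem_filter, Finset.mem_univ, true_and]
        exact A.one_mem
      · intro B a
        simp only [Finset.mem_filter, Finset.mem_univ, true_and]
        constructor
        · rintro ⟨hB, ha⟩
          exact ⟨⟨hB, ha⟩, (hprop B hB).le ha⟩
        · rintro ⟨⟨hB, ha⟩, _⟩
          exact ⟨hB, ha⟩
    rw [hnormA v, one_mul] at hcount
    rw [← hcount]
    apply Finset.prod_eq_one
    intro B hB
    exact hnormB B hB v
  -- conclude V = ⊥
  apply hV
  rw [eq_bot_iff]
  intro x hx
  rw [Subgroup.mem_bot]
  have h1 : orderOf (⟨x, hx⟩ : V) ∣ 𝒜.card - 1 := orderOf_dvd_of_pow_eq_one (hpow ⟨x, hx⟩)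
  have h2 : orderOf (⟨x, hx⟩ : V) ∣ Nat.card V := orderOf_dvd_natCard _
  have h3 : orderOf (⟨x, hx⟩ : V) = 1 := Nat.eq_one_of_dvd_coprimes hk h1 h2
  rw [orderOf_eq_one_iff] at h3
  exact congrArg Subtype.val h3

end Cfsg.Agent.S3733
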