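import Mathlib
import Cfsg.Statements.S3736
import Cfsg.Agent.S0119
import Cfsg.Agent.Lib.Helper3.ActAut
import Cfsg.Agent.Lib.Helper3.ClassTwo2
import Cfsg.Agent.Lib.Helper3.OddFix
import Cfsg.Agent.Lib.Helper3.Transport

set_option autoImplicit false
open Cfsg
open Cfsg.Agent.Lib.Helper3
open scoped commutatorElement

namespace Cfsg.Agent.S3736

/-- The Hall–Higman reduction for a minimal non-trivial action. Let B, A and P be subgroups of a finite group with P a p-group, B normalizing P, and A a normal subgroup of B of order prime to p. Suppose A does not centralize P but centralizes every proper B-invariant subgroup of P. Then [P, A] = P; P is elementary abelian or special; B acts irreducibly on P/Φ(P), that is, the only B-invariant subgroups of P containing Φ(P) are Φ(P) and P; and if p is odd then every element of P has order dividing p. -/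
theorem result {X : Type*} [Group X] [Finite X] {p : ℕ} [Fact p.Prime] (B A P : Subgroup X) (hP : IsPGroup p P) (hBP : B ≤ Subgroup.normalizer (P : Set X)) (hAB : A ≤ B) (hAn : B ≤ Subgroup.normalizer (A : Set X)) (hAp : (Nat.card A).Coprime p) (hnt : ⁅P, A⁆ ≠ ⊥) (hmin : ∀ U : Subgroup X, U < P → B ≤ Subgroup.normalizer (U : Set X) → ⁅U, A⁆ = ⊥) : ⁅P, A⁆ = P ∧ (Cfsg.IsElementaryAbelian p P ∨ Cfsg.IsSpecial p ↥P) ∧ (∀ U : Subgroup X, (frattini ↥P).map P.subtype ≤ U → U ≤ P → B ≤ Subgroup.normalizer (U : Set X) → U = (frattini ↥P).map P.subtype ∨ U = P) ∧ (p ≠ 2 → ∀ x ∈ P, x ^ p = 1) := by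
  have hpp : p.Prime := Fact.out
  have hAN : A ≤ Subgroup.normalizer (P : Set X) := hAB.trans hBP
  have hle : ⁅P, A⁆ ≤ P := Subgroup.le_normalizer_iff_commutator_le_left.mp hAN
  have hBcomm : B ≤ Subgroup.normalizer ((⁅P, A⁆ : Subgroup X) : Set X) :=
    (le_inf hBP hAn).trans (normalizer_inf_le_normalizer_commutator P A)
  -- centralizing proper invariant subgroups
  have hK : ∀ U : Subgroup X, U < P → B ≤ Subgroup.normalizer (U : Set X) →
      A ≤ Subgroup.centralizer (U : Set X) := by
    intro U hU hBU
    have h1 := hmin U hU hBU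
    rw [Subgroup.commutator_comm] at h1
    exact Subgroup.commutator_eq_bot_iff_le_centralizer.mp h1
  have hPA : ⁅P, A⁆ = P := by
    by_contra hne
    have hlt : ⁅P, A⁆ < P := lt_of_le_of_ne hle hne
    have h2 := hK _ hlt hBcomm
    have h3 := le_centralizer_of_le_centralizer_commutator hP hAp hAN h2
    apply hnt
    rw [Subgroup.commutator_comm]
    exact Subgroup.commutator_eq_bot_iff_le_centralizer.mpr h3
  set A' := autImage P A with hA'def
  have hA' : (Nat.card ↥A').Coprime p := card_autImage_coprime hAN hAp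
  have hGA' := autImage_closure_eq_top hAN hPA
  -- characteristic proper subgroups are fixed by A'
  have hcharfix : ∀ H : Subgroup ↥P, H.Characteristic → H ≠ ⊤ →
      ∀ φ ∈ A', ∀ h ∈ H, φ h = h := by
    intro H hH hne
    rw [autImage_fix_iff hAN]
    apply hK
    · refine lt_of_le_of_ne ?_ ?_
      · rintro _ ⟨h, _, rfl⟩; exact h.2
      · intro heq
        apply hne
        rw [eq_top_iff]
        intro y _
        have : (y : X) ∈ H.map P.subtype := by rw [heq]; exact y.2
        obtain ⟨z, hz, hzy⟩ := this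
        have : z = y := Subtype.ext hzy
        rw [← this]; exact hz
    · exact hBP.trans (normalizer_le_normalizer_map_char P H)
  -- elements centralized by A are fixed by A'
  have hfixelem : ∀ x : ↥P, (x : X) ∈ Subgroup.centralizer (A : Set X) → ∀ φ ∈ A', φ x = x := by
    intro x hx φ hφ
    obtain ⟨a, ha, haN, rfl⟩ := mem_autImage.mp hφ
    apply Subtype.ext
    rw [normalizerMonoidHom_coe]
    have := Subgroup.mem_centralizer_iff.mp hx a ha
    calc a * (x : X) * a⁻¹ = ((x : X) * a) * a⁻¹ := by rw [this]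
      _ = x := by group
  -- proper invariant subgroups consist of fixed elements
  have hUfix : ∀ (U : Subgroup X) (hU : U < P), B ≤ Subgroup.normalizer (U : Set X) →
      ∀ (u : X) (hu : u ∈ U), ∀ φ ∈ A', φ (⟨u, hU.le hu⟩ : ↥P) = ⟨u, hU.le hu⟩ := by
    intro U hU hBU u hu φ hφ
    apply hfixelem _ _ φ hφ
    rw [Subgroup.mem_centralizer_iff]
    intro a ha
    exact (Subgroup.mem_centralizer_iff.mp (hK U hU hBU ha) u hu).symm
  have hP1 : P ≠ ⊥ := by
    intro h
    apply hnt
    rw [h, Subgroup.commutator_bot_left]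
  by_cases hab : IsMulCommutative ↥P
  · -- abelian case
    have hcomm0 : commutator ↥P = ⊥ := by
      rw [commutator_def, Subgroup.commutator_eq_bot_iff_le_centralizer]
      intro x _
      rw [Subgroup.mem_centralizer_iff]
      intro y _
      exact hab.is_comm.comm y x
    have hfix1 : ∀ x : ↥P, (∀ φ ∈ A', φ x = x) → x = 1 := by
      intro x hx
      have := Cfsg.Agent.S0119.mem_commutator_of_fixed_mod hP A' hA' hGA' x
        (fun φ hφ => by rw [hx φ hφ])
      rw [hcomm0, Subgroup.mem_bot] at this
      exact this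
    -- Ω₁(P) = P
    let _ : CommGroup ↥P := { (inferInstance : Group ↥P) with mul_comm := hab.is_comm.comm }
    set Ω : Subgroup ↥P := (powMonoidHom p : ↥P →* ↥P).ker with hΩ
    have hΩchar : Ω.Characteristic := by
      rw [Subgroup.characteristic_iff_map_le]
      rintro φ _ ⟨x, hx, rfl⟩
      show (φ x) ^ p = 1
      have : x ^ p = 1 := hx
      rw [← map_pow, this, map_one]
    have hΩtop : Ω = ⊤ := by
      by_contra hne
      have hfixΩ := hcharfix Ω hΩchar hne
      have hPnt : Nontrivial ↥P := by
        rw [Subgroup.nontrivial_iff_ne_bot]; exact hP1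
      have hpdvd : p ∣ Nat.card ↥P := by
        rcases hP.card_eq_or_dvd with h | h
        · exfalso
          have := (Nat.card_eq_one_iff_unique.mp h).1
          exact not_subsingleton ↥P this
        · exact h
      obtain ⟨x, hx⟩ := exists_prime_orderOf_dvd_card' p hpdvd
      have hxΩ : x ∈ Ω := by
        show x ^ p = 1
        rw [← hx]; exact pow_orderOf_eq_one x
      have hx1 := hfix1 x (fun φ hφ => hfixΩ φ hφ x hxΩ)
      rw [hx1, orderOf_one] at hx
      exact hpp.one_lt.ne hx
    have hexp : ∀ x ∈ P, x ^ p = 1 := by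
      intro x hx
      have : (⟨x, hx⟩ : ↥P) ∈ Ω := by rw [hΩtop]; exact Subgroup.mem_top _
      have h2 : (⟨x, hx⟩ : ↥P) ^ p = 1 := this
      exact congrArg Subtype.val h2
    refine ⟨hPA, Or.inl ⟨hab, hexp⟩, ?_, fun _ => hexp⟩
    intro U hΦU hUP hBU
    by_cases hUeq : U = P
    · right; exact hUeq
    · left
      have hU : U < P := lt_of_le_of_ne hUP hUeq
      have hUbot : U = ⊥ := by
        rw [eq_bot_iff]
        intro u hu
        have := hfix1 ⟨u, hUP hu⟩ (hUfix U hU hBU u hu)
        rw [Subgroup.mem_bot]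
        exact congrArg Subtype.val this
      apply le_antisymm _ hΦU
      rw [hUbot]; exact bot_le
  · -- nonabelian case
    have hnottop : ∀ H : Subgroup ↥P, IsMulCommutative ↥H → H ≠ ⊤ := by
      intro H hH heq
      apply hab
      refine ⟨⟨fun x y => ?_⟩⟩
      have hx : x ∈ H := by rw [heq]; exact Subgroup.mem_top _
      have hy : y ∈ H := by rw [heq]; exact Subgroup.mem_top _
      have := hH.is_comm.comm (⟨x, hx⟩ : ↥H) ⟨y, hy⟩
      exact congrArg Subtype.val this
    have hchar' : ∀ H : Subgroup ↥P, H.Characteristic → IsMulCommutative H →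
        ∀ a ∈ A', ∀ h ∈ H, a h = h :=
      fun H hH hHab => hcharfix H hH (hnottop H hHab)
    obtain ⟨hsp, hZ⟩ := Cfsg.Agent.S0119.result hP A' hA' hGA' hchar'
    have hcen : ∀ H : Subgroup ↥P, H.Characteristic → IsMulCommutative H →
        H ≤ Subgroup.center ↥P :=
      fun H hH hHab => Cfsg.Agent.S0119.char_fixed_central A' hGA' H hH (hchar' H hH hHab)
    have hc : commutator ↥P ≤ Subgroup.center ↥P := le_of_eq hsp.2.2
    have hpow := Cfsg.Agent.S0119.pow_p_mem_center hP hc hcen
    refine ⟨hPA, Or.inr hsp, ?_, ?_⟩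
    · intro U hΦU hUP hBU
      by_cases hUeq : U = P
      · right; exact hUeq
      · left
        have hU : U < P := lt_of_le_of_ne hUP hUeq
        apply le_antisymm _ hΦU
        intro u hu
        have h1 : (⟨u, hUP hu⟩ : ↥P) ∈ Subgroup.center ↥P :=
          (hZ _).mpr (hUfix U hU hBU u hu)
        rw [← hsp.2.1] at h1
        exact ⟨_, h1, rfl⟩
    · intro hp2 x hx
      -- the elements with x ^ p = 1 form a subgroup
      have hodd : Odd p := hpp.odd_of_ne_two hp2
      have hchoose : p ∣ p.choose 2 := by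
        obtain ⟨k, hk⟩ := hodd
        rw [Nat.choose_two_right]
        have : p * (p - 1) / 2 = p * k := by
          have h1 : p - 1 = 2 * k := by omega
          rw [h1, ← mul_assoc, mul_comm p 2, mul_assoc, Nat.mul_div_cancel_left _ (by norm_num)]
        rw [this]; exact dvd_mul_right _ _
      have hcp : ∀ u v : ↥P, ⁅u, v⁆ ^ (p.choose 2) = 1 := by
        intro u v
        obtain ⟨k, hk⟩ := hchoose
        have h1 : ⁅u, v⁆ ^ p = 1 := by
          rw [← ct_comm_pow_left hc, commutatorElement_eq_one_iff_mul_comm]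
          exact ((Subgroup.mem_center_iff.mp (hpow u)) v).symm
        rw [hk, pow_mul, h1, one_pow]
      have hmulp : ∀ u v : ↥P, (u * v) ^ p = u ^ p * v ^ p := by
        intro u v
        rw [ct_mul_pow hc, hcp, mul_one]
      let Ωp : Subgroup ↥P :=
        { carrier := {u | u ^ p = 1}
          one_mem' := one_pow p
          mul_mem' := fun {u v} hu hv => by
            show (u * v) ^ p = 1
            rw [hmulp, show u ^ p = 1 from hu, show v ^ p = 1 from hv, one_mul]
          inv_mem' := fun {u} hu => by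
            show (u⁻¹) ^ p = 1
            rw [inv_pow, show u ^ p = 1 from hu, inv_one] }
      have hgen : (⊤ : Subgroup ↥P) ≤ Ωp := by
        rw [← hGA', Subgroup.closure_le]
        rintro _ ⟨g, φ, hφ, rfl⟩
        show (g⁻¹ * φ g) ^ p = 1
        rw [hmulp, inv_pow, ← map_pow, (hZ (g ^ p)).mp (hpow g) φ hφ, inv_mul_cancel]
      have := hgen (Subgroup.mem_top (⟨x, hx⟩ : ↥P))
      have h2 : (⟨x, hx⟩ : ↥P) ^ p = 1 := this
      exact congrArg Subtype.val h2

end Cfsg.Agent.S3736
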