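import Cfsg.Statements.S3740
import Cfsg.Agent.Lib.Helper4.QuadSL2g

set_option autoImplicit false
open Cfsg

namespace Cfsg.Agent.S3740

/-- Let F be a finite field of odd characteristic p and let a be a p-element of SL₂(F) normalizing a subgroup R of order prime to p with [R, a] ≠ 1. Then p = 3, R is a quaternion group of order 8, and R⟨a⟩ is isomorphic to SL₂(3). -/
theorem result (F : Type) [Field F] [Fintype F] {p : ℕ} [Fact p.Prime] [CharP F p] (hp : p ≠ 2) (a : Matrix.SpecialLinearGroup (Fin 2) F) (ha : IsPGroup p ↥(Subgroup.zpowers a)) (R : Subgroup (Matrix.SpecialLinearGroup (Fin 2) F)) (hR : (Nat.card R).Coprime p) (haR : a ∈ Subgroup.normalizer (R : Set (Matrix.SpecialLinearGroup (Fin 2) F))) (hnt : ⁅R, Subgroup.zpowers a⁆ ≠ ⊥) : p = 3 ∧ Nonempty (↥R ≃* QuaternionGroup 2) ∧ Nonempty (↥(R ⊔ Subgroup.zpowers a) ≃* Matrix.SpecialLinearGroup (Fin 2) (ZMod 3)) := by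
  classical
  haveI : Finite (Matrix.SpecialLinearGroup (Fin 2) F) := inferInstance
  obtain ⟨k, hk⟩ := ha ⟨a, Subgroup.mem_zpowers a⟩
  have hak : a ^ (p ^ k) = 1 := by simpa using congrArg Subtype.val hk
  have hap : a ^ p = 1 := Cfsg.Agent.Lib.Helper4.sl2_unip_pow p a
    (Cfsg.Agent.Lib.Helper4.sl2_tr_of_ppow p a k hak)
  have hnc : ∃ q ∈ R, a * q ≠ q * a := by
    by_contra hno
    apply hnt
    rw [Subgroup.commutator_eq_bot_iff_le_centralizer]
    intro x hx
    rw [Subgroup.mem_centralizer_iff]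
    intro y hy
    obtain ⟨n, rfl⟩ := Subgroup.mem_zpowers_iff.1 hy
    have hc : Commute a x := by
      by_contra hc
      exact hno ⟨x, hx, hc⟩
    exact (hc.zpow_left n).eq
  have hxN : ∀ q, q ∈ R ↔ a * q * a⁻¹ ∈ R := Subgroup.mem_normalizer_iff.1 haR
  have ha1 : a ≠ 1 := by
    rintro rfl
    obtain ⟨q, _, hq⟩ := hnc
    exact hq (by rw [one_mul, mul_one])
  obtain ⟨h3, hcard8, c, hcR, hc4, hj2, hconj⟩ :=
    Cfsg.Agent.Lib.Helper4.qpq_struct p hp (MonoidHom.id _) Function.injective_id a hap R hR hxN hnc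
  have hjR : a * c * a⁻¹ ∈ R := (hxN c).1 hcR
  have hc2 : c ^ 2 ≠ 1 := by
    intro h
    have := orderOf_dvd_of_pow_eq_one h
    rw [hc4] at this
    omega
  refine ⟨h3, ?_, ?_⟩
  · obtain ⟨e, -, -⟩ := Cfsg.Agent.Lib.Helper4.quat_iso_control (G := ↥R) 2
      ⟨c, hcR⟩ ⟨a * c * a⁻¹, hjR⟩
      (by rw [Subgroup.orderOf_mk, hc4])
      (Subtype.ext hj2) (Subtype.ext hconj)
      (by
        apply Cfsg.Agent.Lib.Helper4.not_mem_zpowers_of_inverts
        · exact Subtype.ext hconj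
        · intro h
          exact hc2 (congrArg Subtype.val h))
      (by rw [hcard8])
    exact ⟨e.symm⟩
  · have hao : orderOf a = 3 := by
      rw [← h3]
      exact orderOf_eq_prime hap ha1
    have hLN : R ⊔ Subgroup.zpowers a ≤ Subgroup.normalizer (R : Set _) :=
      sup_le Subgroup.le_normalizer (by rw [Subgroup.zpowers_le]; exact haR)
    haveI hQn : (R.subgroupOf (R ⊔ Subgroup.zpowers a)).Normal :=
      Subgroup.normal_subgroupOf_of_le_normalizer hLN
    have haL : a ∈ R ⊔ Subgroup.zpowers a :=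
      (le_sup_right : Subgroup.zpowers a ≤ _) (Subgroup.mem_zpowers a)
    have hcL : c ∈ R ⊔ Subgroup.zpowers a := (le_sup_left : R ≤ _) hcR
    apply Cfsg.Agent.Lib.Helper4.sl23_iso_main (R.subgroupOf (R ⊔ Subgroup.zpowers a))
      ⟨a, haL⟩ ⟨c, hcL⟩
    · rw [Nat.card_congr (Subgroup.subgroupOfEquivOfLe
        (le_sup_left : R ≤ R ⊔ Subgroup.zpowers a)).toEquiv, hcard8]
    · exact Subgroup.mem_subgroupOf.2 hcR
    · rw [Subgroup.orderOf_mk, hc4]
    · rw [Subgroup.orderOf_mk, hao]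
    · exact Subtype.ext hj2
    · exact Subtype.ext hconj
    · apply Subgroup.map_injective (R ⊔ Subgroup.zpowers a).subtype_injective
      rw [Subgroup.map_sup, Subgroup.subgroupOf_map_subtype, MonoidHom.map_zpowers,
        ← MonoidHom.range_eq_map, Subgroup.range_subtype,
        inf_of_le_left (le_sup_left : R ≤ R ⊔ Subgroup.zpowers a)]
      rfl

end Cfsg.Agent.S3740
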