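import Cfsg.Statements.S3741
import Cfsg.Agent.Lib.Helper7.RelClass

set_option autoImplicit false
open Cfsg

namespace Cfsg.Agent.S3741

open Cfsg.Agent.Lib.Helper7
open scoped commutatorElement

variable {G : Type*} [Group G] [Finite G]

/-- index of the centralizer of `x` in `Y` is `1` or `p` -/
theorem relIndex_centralizer (p : ℕ) [Fact p.Prime] (hG : IsPGroup p G) (X Y : Subgroup G)
    (hcard : Nat.card ↥⁅X, Y⁆ ≤ p) (x : G) (hx : x ∈ X) :
    (x ∈ Subgroup.centralizer (Y : Set G) ∧ (Subgroup.centralizer ({x} : Set G)).relIndex Y = 1) ∨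
    (x ∉ Subgroup.centralizer (Y : Set G) ∧ (Subgroup.centralizer ({x} : Set G)).relIndex Y = p) := by
  have hp : p.Prime := Fact.out
  set r := (Subgroup.centralizer ({x} : Set G)).relIndex Y with hr
  have hle : r ≤ p := by
    rw [hr, ← ncard_conj_class_rel]
    have hsub : Set.range (fun b : Y => (b : G) * x * (b : G)⁻¹)
        ⊆ (fun z => z * x) '' ((⁅X, Y⁆ : Subgroup G) : Set G) := by
      rintro _ ⟨b, rfl⟩
      refine ⟨⁅(b : G), x⁆, ?_, ?_⟩
      · rw [SetLike.mem_coe, Subgroup.commutator_comm]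
        exact Subgroup.commutator_mem_commutator b.2 hx
      · simp only [commutatorElement_def]; group
    calc (Set.range (fun b : Y => (b : G) * x * (b : G)⁻¹)).ncard
        ≤ ((fun z => z * x) '' ((⁅X, Y⁆ : Subgroup G) : Set G)).ncard :=
          Set.ncard_le_ncard hsub (Set.toFinite _)
      _ ≤ ((⁅X, Y⁆ : Subgroup G) : Set G).ncard := Set.ncard_image_le (Set.toFinite _)
      _ = Nat.card ↥⁅X, Y⁆ := (Nat.card_coe_set_eq _).symm
      _ ≤ p := hcard
  have hdvd : r ∣ Nat.card Y := Subgroup.relIndex_dvd_card _ _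
  obtain ⟨k, hk⟩ := IsPGroup.iff_card.1 (hG.to_subgroup Y)
  rw [hk] at hdvd
  obtain ⟨j, _, hj⟩ := (Nat.dvd_prime_pow hp).1 hdvd
  have hj1 : j ≤ 1 := by
    by_contra hlt
    push_neg at hlt
    have : p ^ 2 ≤ p ^ j := Nat.pow_le_pow_right hp.pos hlt
    have h2 : p ^ 2 ≤ p := by rw [hj] at hle; exact this.trans hle
    have := hp.two_le
    nlinarith
  have hone : r = 1 ↔ x ∈ Subgroup.centralizer (Y : Set G) := by
    rw [hr, Subgroup.relIndex_eq_one]
    constructor
    · intro h
      rw [Subgroup.mem_centralizer_iff]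
      intro y hy
      have := (mem_centralizer_singleton_iff x y).1 (h hy)
      exact this
    · intro h y hy
      rw [mem_centralizer_singleton_iff]
      rw [Subgroup.mem_centralizer_iff] at h
      exact h y hy
  interval_cases j
  · left
    rw [pow_zero] at hj
    exact ⟨hone.1 hj, hj⟩
  · right
    rw [pow_one] at hj
    refine ⟨?_, hj⟩
    intro hmem
    have := hone.2 hmem
    rw [hj] at this
    exact hp.one_lt.ne' this


omit [Finite G] in
theorem card_mul_relIndex_inf (Y C : Subgroup G) :
    Nat.card ↥(Y ⊓ C) * C.relIndex Y = Nat.card Y := by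
  have := Subgroup.relIndex_mul_relIndex (⊥ : Subgroup G) (Y ⊓ C) Y bot_le inf_le_left
  rw [Subgroup.relIndex_bot_left, Subgroup.relIndex_bot_left, Subgroup.inf_relIndex_left] at this
  exact this

open Classical in
theorem half_sum [Fintype G] (p : ℕ) [Fact p.Prime] (hG : IsPGroup p G) (X Y : Subgroup G)
    (hcard : Nat.card ↥⁅X, Y⁆ ≤ p) :
    p * ∑ x ∈ Finset.univ.filter (fun x : G => x ∈ X),
        ((Finset.univ.filter (fun y : G => y ∈ Y)).filter (fun y => x * y = y * x)).card
      = Nat.card Y *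
        (p * ((Finset.univ.filter (fun x : G => x ∈ X)).filter
            (fun x => x ∈ Subgroup.centralizer (Y : Set G))).card
          + ((Finset.univ.filter (fun x : G => x ∈ X)).filter
            (fun x => ¬ x ∈ Subgroup.centralizer (Y : Set G))).card) := by
  rw [Finset.mul_sum]
  have hterm : ∀ x ∈ Finset.univ.filter (fun x : G => x ∈ X),
      p * ((Finset.univ.filter (fun y : G => y ∈ Y)).filter (fun y => x * y = y * x)).card
        = Nat.card Y * (if x ∈ Subgroup.centralizer (Y : Set G) then p else 1) := by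
    intro x hx
    simp only [Finset.mem_filter, Finset.mem_univ, true_and] at hx
    have hc : ((Finset.univ.filter (fun y : G => y ∈ Y)).filter (fun y => x * y = y * x)).card
        = Nat.card ↥(Y ⊓ Subgroup.centralizer ({x} : Set G)) := by
      symm
      apply Nat.subtype_card
      intro z
      simp only [Finset.mem_filter, Finset.mem_univ, true_and, Subgroup.mem_inf,
        mem_centralizer_singleton_iff]
      constructor
      · rintro ⟨h1, h2⟩; exact ⟨h1, h2.symm⟩
      · rintro ⟨h1, h2⟩; exact ⟨h1, h2.symm⟩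
    rw [hc]
    have hmul := card_mul_relIndex_inf Y (Subgroup.centralizer ({x} : Set G))
    rcases relIndex_centralizer p hG X Y hcard x hx with ⟨h1, h2⟩ | ⟨h1, h2⟩
    · rw [if_pos h1, ← hmul, h2, mul_one, mul_comm]
    · rw [if_neg h1, ← hmul, h2, mul_one, mul_comm]
  rw [Finset.sum_congr rfl hterm, ← Finset.mul_sum, Finset.sum_ite, Finset.sum_const,
    Finset.sum_const, smul_eq_mul, smul_eq_mul, mul_one, mul_comm _ p]

theorem result {G : Type*} [Group G] [Finite G] {p : ℕ} [Fact p.Prime] (hG : IsPGroup p G) (A B : Subgroup G) (hAB : ⁅A, B⁆ ≤ A ⊓ B) (hcard : Nat.card ↥⁅A, B⁆ ≤ p) : (A ⊓ Subgroup.centralizer (B : Set G)).relIndex A = (B ⊓ Subgroup.centralizer (A : Set G)).relIndex B := by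
  classical
  haveI : Fintype G := Fintype.ofFinite G
  have hp : p.Prime := Fact.out
  have hcard' : Nat.card ↥⁅B, A⁆ ≤ p := by rw [Subgroup.commutator_comm]; exact hcard
  have h1 := half_sum p hG A B hcard
  have h2 := half_sum p hG B A hcard'
  -- double counting
  have hdc : ∑ x ∈ Finset.univ.filter (fun x : G => x ∈ A),
        ((Finset.univ.filter (fun y : G => y ∈ B)).filter (fun y => x * y = y * x)).card
      = ∑ y ∈ Finset.univ.filter (fun y : G => y ∈ B),
        ((Finset.univ.filter (fun x : G => x ∈ A)).filter (fun x => y * x = x * y)).card := by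
    have := Finset.sum_card_bipartiteAbove_eq_sum_card_bipartiteBelow
      (s := Finset.univ.filter (fun x : G => x ∈ A)) (t := Finset.univ.filter (fun y : G => y ∈ B))
      (fun x y => x * y = y * x)
    simp only [Finset.bipartiteAbove, Finset.bipartiteBelow] at this
    rw [this]
    apply Finset.sum_congr rfl
    intro y _
    congr 1
    apply Finset.filter_congr
    intro x _
    exact eq_comm
  rw [hdc, h2] at h1
  -- cardinalities
  set α₀ := ((Finset.univ.filter (fun x : G => x ∈ A)).filter
            (fun x => x ∈ Subgroup.centralizer (B : Set G))).card with hα₀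
  set α₁ := ((Finset.univ.filter (fun x : G => x ∈ A)).filter
            (fun x => ¬ x ∈ Subgroup.centralizer (B : Set G))).card with hα₁
  set β₀ := ((Finset.univ.filter (fun x : G => x ∈ B)).filter
            (fun x => x ∈ Subgroup.centralizer (A : Set G))).card with hβ₀
  set β₁ := ((Finset.univ.filter (fun x : G => x ∈ B)).filter
            (fun x => ¬ x ∈ Subgroup.centralizer (A : Set G))).card with hβ₁
  have hA : Nat.card A = α₀ + α₁ := by
    rw [hα₀, hα₁, Finset.card_filter_add_card_filter_not]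
    apply Nat.subtype_card
    intro z; simp
  have hB : Nat.card B = β₀ + β₁ := by
    rw [hβ₀, hβ₁, Finset.card_filter_add_card_filter_not]
    apply Nat.subtype_card
    intro z; simp
  have hA0 : Nat.card ↥(A ⊓ Subgroup.centralizer (B : Set G)) = α₀ := by
    rw [hα₀]
    apply Nat.subtype_card
    intro z; simp [Subgroup.mem_inf]
  have hB0 : Nat.card ↥(B ⊓ Subgroup.centralizer (A : Set G)) = β₀ := by
    rw [hβ₀]
    apply Nat.subtype_card
    intro z; simp [Subgroup.mem_inf]
  rw [hA, hB] at h1
  -- h1 : (α₀ + α₁) * (p * β₀ + β₁) = (β₀ + β₁) * (p * α₀ + α₁)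
  have hkey : α₀ * (β₀ + β₁) = β₀ * (α₀ + α₁) := by
    have hp1 : 1 ≤ p := hp.one_lt.le
    obtain ⟨q, rfl⟩ : ∃ q, p = q + 1 := ⟨p - 1, by omega⟩
    have hq : 0 < q := by have := hp.two_le; omega
    have : q * (α₀ * β₁) = q * (α₁ * β₀) := by nlinarith
    have h3 : α₀ * β₁ = α₁ * β₀ := Nat.eq_of_mul_eq_mul_left hq this
    nlinarith
  have hrA := card_mul_relIndex_inf A (Subgroup.centralizer (B : Set G))
  have hrB := card_mul_relIndex_inf B (Subgroup.centralizer (A : Set G))
  rw [Subgroup.inf_relIndex_left, Subgroup.inf_relIndex_left]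
  rw [hA0, hA] at hrA
  rw [hB0, hB] at hrB
  have hα₀pos : 0 < α₀ := by
    rw [← hA0]; exact Nat.card_pos
  have hβ₀pos : 0 < β₀ := by
    rw [← hB0]; exact Nat.card_pos
  -- α₀ * rA = α, β₀ * rB = β; α₀ β = β₀ α
  have : (α₀ * β₀) * (Subgroup.centralizer (B : Set G)).relIndex A
      = (α₀ * β₀) * (Subgroup.centralizer (A : Set G)).relIndex B := by
    calc (α₀ * β₀) * (Subgroup.centralizer (B : Set G)).relIndex A
        = β₀ * (α₀ * (Subgroup.centralizer (B : Set G)).relIndex A) := by ring
      _ = β₀ * (α₀ + α₁) := by rw [hrA]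
      _ = α₀ * (β₀ + β₁) := hkey.symm
      _ = α₀ * (β₀ * (Subgroup.centralizer (A : Set G)).relIndex B) := by rw [hrB]
      _ = (α₀ * β₀) * (Subgroup.centralizer (A : Set G)).relIndex B := by ring
  exact Nat.eq_of_mul_eq_mul_left (Nat.mul_pos hα₀pos hβ₀pos) this

end Cfsg.Agent.S3741
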