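import Mathlib
import Cfsg.Statements.S3742

set_option autoImplicit false
set_option maxHeartbeats 1600000

open Cfsg

namespace Cfsg.Agent.S3742

def code : QuaternionGroup 2 → ℕ
  | .a i => i.val
  | .xa i => 4 + i.val

def tbl (u v : QuaternionGroup 2) : Equiv.Perm (Fin 4) :=
  match code u, code v with
  | 1, 4 => 1
  | 1, 5 => Equiv.swap 0 2 * Equiv.swap 1 2 * Equiv.swap 2 3
  | 1, 6 => Equiv.swap 0 3 * Equiv.swap 1 2
  | 1, 7 => Equiv.swap 0 1 * Equiv.swap 1 3 * Equiv.swap 2 3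
  | 3, 4 => Equiv.swap 0 2 * Equiv.swap 1 3
  | 3, 5 => Equiv.swap 0 3
  | 3, 6 => Equiv.swap 0 1 * Equiv.swap 2 3
  | 3, 7 => Equiv.swap 1 2
  | 4, 1 => Equiv.swap 0 1
  | 4, 3 => Equiv.swap 0 3 * Equiv.swap 1 2 * Equiv.swap 2 3
  | 4, 5 => Equiv.swap 1 3 * Equiv.swap 2 3
  | 4, 7 => Equiv.swap 0 2 * Equiv.swap 2 3
  | 5, 1 => Equiv.swap 1 2 * Equiv.swap 2 3
  | 5, 3 => Equiv.swap 0 1 * Equiv.swap 1 3
  | 5, 4 => Equiv.swap 0 3 * Equiv.swap 1 3 * Equiv.swap 2 3
  | 5, 6 => Equiv.swap 0 2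
  | 6, 1 => Equiv.swap 0 2 * Equiv.swap 1 3 * Equiv.swap 2 3
  | 6, 3 => Equiv.swap 2 3
  | 6, 5 => Equiv.swap 0 1 * Equiv.swap 1 2
  | 6, 7 => Equiv.swap 0 3 * Equiv.swap 1 3
  | 7, 1 => Equiv.swap 0 3 * Equiv.swap 2 3
  | 7, 3 => Equiv.swap 0 2 * Equiv.swap 1 2
  | 7, 4 => Equiv.swap 0 1 * Equiv.swap 1 2 * Equiv.swap 2 3
  | 7, 6 => Equiv.swap 1 3
  | _, _ => 1

def Gmap (u v : QuaternionGroup 2) : QuaternionGroup 2 → QuaternionGroup 2
  | .a i => u ^ i.val
  | .xa i => v * u ^ i.val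

def valid (u v : QuaternionGroup 2) : Prop :=
  u ^ 2 = v ^ 2 ∧ u ^ 2 ≠ 1 ∧ v * u * v⁻¹ = u⁻¹

instance (u v : QuaternionGroup 2) : Decidable (valid u v) := by
  unfold valid; infer_instance

theorem d0 : valid (QuaternionGroup.a 1) (QuaternionGroup.xa 0) := by decide

set_option maxRecDepth 100000 in
theorem d1 : ∀ u v : QuaternionGroup 2, valid u v →
    ∀ q q' : QuaternionGroup 2, Gmap u v (q * q') = Gmap u v q * Gmap u v q' := by decide

set_option maxRecDepth 100000 in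
theorem d2 : ∀ u v : QuaternionGroup 2, valid u v →
    ∀ q q' : QuaternionGroup 2, Gmap u v q = Gmap u v q' → q = q' := by decide

set_option maxRecDepth 100000 in
theorem d3 : ∀ u v u' v' : QuaternionGroup 2, valid u v → valid u' v' →
    tbl (Gmap u v u') (Gmap u v v') = tbl u v * tbl u' v' := by decide

set_option maxRecDepth 100000 in
theorem d4 : ∀ u v : QuaternionGroup 2, valid u v → tbl u v = 1 →
    u = QuaternionGroup.a 1 ∧ v = QuaternionGroup.xa 0 := by decide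

theorem d5 : ∀ u v : QuaternionGroup 2, Gmap u v (QuaternionGroup.a 1) = u ∧
    Gmap u v (QuaternionGroup.xa 0) = v := by decide

theorem d6 : ∀ q : QuaternionGroup 2, Gmap (QuaternionGroup.a 1) (QuaternionGroup.xa 0) q = q := by
  decide

theorem a_eq_pow : ∀ i : ZMod (2 * 2), (QuaternionGroup.a i : QuaternionGroup 2)
    = (QuaternionGroup.a 1) ^ i.val := by decide

theorem xa_eq_pow : ∀ i : ZMod (2 * 2), (QuaternionGroup.xa i : QuaternionGroup 2)
    = QuaternionGroup.xa 0 * (QuaternionGroup.a 1) ^ i.val := by decide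

theorem f1 (φ : MulAut (QuaternionGroup 2)) (q : QuaternionGroup 2) :
    φ q = Gmap (φ (QuaternionGroup.a 1)) (φ (QuaternionGroup.xa 0)) q := by
  rcases q with i | i
  · show φ (QuaternionGroup.a i) = (φ (QuaternionGroup.a 1)) ^ i.val
    rw [← map_pow, ← a_eq_pow]
  · show φ (QuaternionGroup.xa i) = φ (QuaternionGroup.xa 0) * (φ (QuaternionGroup.a 1)) ^ i.val
    rw [← map_pow, ← map_mul, ← xa_eq_pow]

theorem f2 (φ : MulAut (QuaternionGroup 2)) :
    valid (φ (QuaternionGroup.a 1)) (φ (QuaternionGroup.xa 0)) := by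
  obtain ⟨h1, h2, h3⟩ := d0
  refine ⟨?_, ?_, ?_⟩
  · rw [← map_pow, ← map_pow, h1]
  · rw [← map_pow]
    intro h
    apply h2
    apply φ.injective
    rw [h, map_one]
  · rw [← map_inv, ← map_inv, ← map_mul, ← map_mul, h3]

def rho : MulAut (QuaternionGroup 2) →* Equiv.Perm (Fin 4) where
  toFun φ := tbl (φ (QuaternionGroup.a 1)) (φ (QuaternionGroup.xa 0))
  map_one' := by decide
  map_mul' φ ψ := by
    show tbl ((φ * ψ) (QuaternionGroup.a 1)) ((φ * ψ) (QuaternionGroup.xa 0)) = _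
    rw [MulAut.mul_apply, MulAut.mul_apply, f1 φ (ψ (QuaternionGroup.a 1)),
      f1 φ (ψ (QuaternionGroup.xa 0))]
    exact d3 _ _ _ _ (f2 φ) (f2 ψ)

theorem rho_apply (φ : MulAut (QuaternionGroup 2)) :
    rho φ = tbl (φ (QuaternionGroup.a 1)) (φ (QuaternionGroup.xa 0)) := rfl

theorem rho_injective : Function.Injective rho := by
  rw [injective_iff_map_eq_one]
  intro φ hφ
  rw [rho_apply] at hφ
  obtain ⟨h1, h2⟩ := d4 _ _ (f2 φ) hφ
  ext q
  rw [f1 φ q, h1, h2, d6]
  rfl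

noncomputable def autOf (u v : QuaternionGroup 2) (h : valid u v) : MulAut (QuaternionGroup 2) :=
  MulEquiv.ofBijective (MonoidHom.mk' (Gmap u v) (d1 u v h))
    ⟨fun q q' hq => d2 u v h q q' hq,
      Finite.injective_iff_surjective.1 (fun q q' hq => d2 u v h q q' hq)⟩

theorem autOf_apply (u v : QuaternionGroup 2) (h : valid u v) (q : QuaternionGroup 2) :
    autOf u v h q = Gmap u v q := rfl

theorem rho_autOf (u v : QuaternionGroup 2) (h : valid u v) : rho (autOf u v h) = tbl u v := by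
  rw [rho_apply, autOf_apply, autOf_apply, (d5 u v).1, (d5 u v).2]

theorem v01 : valid (QuaternionGroup.xa 0) (QuaternionGroup.a 1) ∧
    tbl (QuaternionGroup.xa 0) (QuaternionGroup.a 1) = Equiv.swap 0 1 := by decide

theorem v12 : valid (QuaternionGroup.a 3) (QuaternionGroup.xa 3) ∧
    tbl (QuaternionGroup.a 3) (QuaternionGroup.xa 3) = Equiv.swap 1 2 := by decide

theorem v23 : valid (QuaternionGroup.xa 2) (QuaternionGroup.a 3) ∧
    tbl (QuaternionGroup.xa 2) (QuaternionGroup.a 3) = Equiv.swap 2 3 := by decide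

theorem rho_surjective : Function.Surjective rho := by
  rw [← MonoidHom.range_eq_top]
  have h := Equiv.Perm.mclosure_swap_castSucc_succ 3
  have hle : Submonoid.closure (Set.range fun i : Fin 3 => Equiv.swap i.castSucc i.succ)
      ≤ rho.range.toSubmonoid := by
    rw [Submonoid.closure_le]
    rintro _ ⟨i, rfl⟩
    show Equiv.swap i.castSucc i.succ ∈ rho.range
    fin_cases i
    · exact ⟨autOf _ _ v01.1, by rw [rho_autOf, v01.2]; rfl⟩
    · exact ⟨autOf _ _ v12.1, by rw [rho_autOf, v12.2]; rfl⟩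
    · exact ⟨autOf _ _ v23.1, by rw [rho_autOf, v23.2]; rfl⟩
  rw [h] at hle
  rw [eq_top_iff]
  intro σ _
  exact hle (Submonoid.mem_top σ)

theorem main3742 : Nonempty (MulAut (QuaternionGroup 2) ≃* Equiv.Perm (Fin 4)) :=
  ⟨MulEquiv.ofBijective rho ⟨rho_injective, rho_surjective⟩⟩

/-- The automorphism group of the quaternion group of order 8 is isomorphic to the symmetric group of degree 4. -/
theorem result : Nonempty (MulAut (QuaternionGroup 2) ≃* Equiv.Perm (Fin 4)) := by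
  exact main3742

end Cfsg.Agent.S3742
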