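import Cfsg.Statements.S3744
import Cfsg.Agent.Lib.Helper7.PSolvable

set_option autoImplicit false

open Cfsg

namespace Cfsg.Agent.S3744

open Cfsg.Agent.Lib.Helper4 Cfsg.Agent.Lib.Helper7

/-- translation between "`p`-complement" and "order `m`" -/
lemma pcompl_iff {G : Type*} [Group G] [Finite G] {p m k : ℕ} (hp : p.Prime)
    (hcard : Nat.card G = m * p ^ k) (hm : m.Coprime p) (H : Subgroup G) :
    ((Nat.card H).Coprime p ∧ ∃ n : ℕ, H.index = p ^ n) ↔ Nat.card H = m := by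
  constructor
  · rintro ⟨hc, n, hn⟩
    have h1 : Nat.card H * H.index = Nat.card G := Subgroup.card_mul_index H
    rw [hn, hcard] at h1
    apply Nat.dvd_antisymm
    · have : Nat.card H ∣ m * p ^ k := ⟨p ^ n, h1.symm⟩
      exact (Nat.Coprime.pow_right k hc).dvd_of_dvd_mul_right this
    · have : m ∣ Nat.card H * p ^ n := ⟨p ^ k, h1⟩
      exact (Nat.Coprime.pow_right n hm).dvd_of_dvd_mul_right this
  · intro h
    refine ⟨by rw [h]; exact hm, k, ?_⟩
    have h1 : Nat.card H * H.index = Nat.card G := Subgroup.card_mul_index H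
    rw [h, hcard] at h1
    have hmpos : 0 < m := by
      rcases Nat.eq_zero_or_pos m with h0 | h0
      · rw [h0, zero_mul] at hcard
        exact absurd hcard Nat.card_pos.ne'
      · exact h0
    exact Nat.eq_of_mul_eq_mul_left hmpos h1

/-- A finite p-soluble group has a p-complement, all its p-complements are conjugate, and every subgroup of order prime to p lies in one of them. Here a p-complement is a subgroup of order prime to p whose index is a power of p. -/
theorem result {G : Type*} [Group G] [Finite G] {p : ℕ} [Fact p.Prime] (hG : Cfsg.IsPSolvable p G) : (∃ H : Subgroup G, (Nat.card H).Coprime p ∧ ∃ n : ℕ, H.index = p ^ n) ∧ (∀ H₁ H₂ : Subgroup G, (Nat.card H₁).Coprime p → (∃ n : ℕ, H₁.index = p ^ n) → (Nat.card H₂).Coprime p → (∃ n : ℕ, H₂.index = p ^ n) → ∃ g : G, H₂ = H₁.map (MulAut.conj g).toMonoidHom) ∧ (∀ U : Subgroup G, (Nat.card U).Coprime p → ∃ H : Subgroup G, (Nat.card H).Coprime p ∧ (∃ n : ℕ, H.index = p ^ n) ∧ ∃ g : G, U.map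 (MulAut.conj g).toMonoidHom ≤ H) := by
  have hp : p.Prime := Fact.out
  obtain ⟨k, m, hm, hcard⟩ :=
    Nat.exists_eq_pow_mul_and_not_dvd (Nat.card_pos (α := G)).ne' p hp.ne_one
  have hcard' : Nat.card G = m * p ^ k := by rw [hcard, mul_comm]
  have hmc : m.Coprime p := ((Nat.Prime.coprime_iff_not_dvd hp).2 hm).symm
  obtain ⟨hE, hC, hD⟩ := phall_all p hp _ G hG rfl m k hcard' hmc
  refine ⟨?_, ?_, ?_⟩
  · obtain ⟨H, hH⟩ := hE
    exact ⟨H, (pcompl_iff hp hcard' hmc H).2 hH⟩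
  · intro H₁ H₂ h1 h1' h2 h2'
    obtain ⟨g, hg⟩ := hC H₁ H₂ ((pcompl_iff hp hcard' hmc H₁).1 ⟨h1, h1'⟩)
      ((pcompl_iff hp hcard' hmc H₂).1 ⟨h2, h2'⟩)
    exact ⟨g, hg.symm⟩
  · intro U hU
    obtain ⟨H, hH, hUH⟩ := hD U hU
    obtain ⟨h1, h2⟩ := (pcompl_iff hp hcard' hmc H).2 hH
    refine ⟨H, h1, h2, 1, ?_⟩
    have : cj 1 U = U := cj_one U
    rw [cj_def] at this
    rw [this]
    exact hUH

end Cfsg.Agent.S3744
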