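import Mathlib
import Cfsg.Statements.S3746
import Cfsg.Agent.Lib.Helper3.Quasi2
import Cfsg.Agent.Lib.Helper3.Comp
import Cfsg.Agent.Lib.Helper3.PQ
import Cfsg.Agent.Lib.Helper3.QN
import Cfsg.Agent.Lib.Helper3.NormAux

set_option autoImplicit false
open Cfsg
open Cfsg.Agent.Lib.Helper3
open scoped commutatorElement

namespace Cfsg.Agent.S3746

theorem result {G : Type*} [Group G] [Finite G] (Z : Subgroup G) (hZ : Z ≤ Subgroup.center G) [Z.Normal] (E : Subgroup G) (hZE : Z ≤ E) (hE : Cfsg.IsComponent (E.map (QuotientGroup.mk' Z))) : Cfsg.IsComponent ⁅E, E⁆ := by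
  set π := QuotientGroup.mk' Z with hπ
  set D := ⁅E, E⁆ with hD
  have hZn : Z.Normal := inferInstance
  have hDE : D ≤ E := Subgroup.commutator_le_self E
  have hEb : ⁅E.map π, E.map π⁆ = E.map π := component_perfect hE
  have hmap : D.map π = E.map π := by rw [hD, Subgroup.map_commutator]; exact hEb
  have hEDZ : E ≤ D ⊔ Z := by
    intro e he
    have h1 : π e ∈ D.map π := by rw [hmap]; exact ⟨e, he, rfl⟩
    obtain ⟨d, hd, hde⟩ := h1
    have h2 : d⁻¹ * e ∈ Z := by
      rw [← QuotientGroup.eq]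
      exact hde
    have h3 : e = d * (d⁻¹ * e) := by group
    rw [h3]
    exact Subgroup.mul_mem _ (Subgroup.mem_sup_left hd) (Subgroup.mem_sup_right h2)
  have hcomm : ⁅D ⊔ Z, D ⊔ Z⁆ ≤ ⁅D, D⁆ := by
    rw [Subgroup.commutator_le]
    intro a ha b hb
    obtain ⟨d, hd, z, hz, rfl⟩ := mem_mul_of_mem_sup_left_normal
      (le_normalizer_of_normal hZn D) ha
    obtain ⟨d', hd', z', hz', rfl⟩ := mem_mul_of_mem_sup_left_normal
      (le_normalizer_of_normal hZn D) hb
    have hzc := Subgroup.mem_center_iff.mp (hZ hz)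
    have hzc' := Subgroup.mem_center_iff.mp (hZ hz')
    have e : ⁅d * z, d' * z'⁆ = ⁅d, d'⁆ := by
      have h1 : ∀ x : G, (d * z) * x * (d * z)⁻¹ = d * x * d⁻¹ := by
        intro x
        calc (d * z) * x * (d * z)⁻¹ = d * (z * x) * z⁻¹ * d⁻¹ := by group
          _ = d * (x * z) * z⁻¹ * d⁻¹ := by rw [hzc x]
          _ = d * x * d⁻¹ := by group
      rw [commutatorElement_def, h1, commutatorElement_def]
      calc d * (d' * z') * d⁻¹ * (d' * z')⁻¹ = d * d' * (z' * d⁻¹) * z'⁻¹ * d'⁻¹ := by group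
        _ = d * d' * (d⁻¹ * z') * z'⁻¹ * d'⁻¹ := by rw [hzc' d⁻¹]
        _ = d * d' * d⁻¹ * d'⁻¹ := by group
    rw [e]
    exact Subgroup.commutator_mem_commutator hd hd'
  have hDperf : ⁅D, D⁆ = D := by
    apply le_antisymm (Subgroup.commutator_le_self D)
    calc D = ⁅E, E⁆ := hD
      _ ≤ ⁅D ⊔ Z, D ⊔ Z⁆ := Subgroup.commutator_mono hEDZ hEDZ
      _ ≤ ⁅D, D⁆ := hcomm
  have hP : Group.IsPerfect ↥D := Subgroup.isPerfect_iff.mpr hDperf
  have hEsub : E.IsSubnormal := by
    have h1 := hE.1.comap π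
    have h2 : (E.map π).comap π = E := by
      rw [Subgroup.comap_map_eq, hπ, QuotientGroup.ker_mk']
      exact sup_eq_left.mpr hZE
    rwa [h2] at h1
  have hDn : (D.subgroupOf E).Normal := by
    apply Subgroup.normal_subgroupOf_of_le_normalizer
    exact (le_inf Subgroup.le_normalizer Subgroup.le_normalizer).trans
      (normalizer_inf_le_normalizer_commutator E E)
  have hDsub : D.IsSubnormal := Subgroup.IsSubnormal.step D E hDE hEsub hDn
  refine ⟨hDsub, ?_⟩
  have hq' : Cfsg.IsQuasisimple ↥(D.map π) :=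
    isQuasisimple_of_mulEquiv (MulEquiv.subgroupCongr hmap.symm) hE.2
  set f : ↥D →* ↥(D.map π) := π.subgroupMap D with hf
  have hfs : Function.Surjective f := MonoidHom.subgroupMap_surjective _ _
  have hO : f.ker ≤ Subgroup.center ↥D := by
    intro x hx
    rw [MonoidHom.mem_ker] at hx
    have h1 : π (x : G) = 1 := congrArg Subtype.val hx
    have h2 : (x : G) ∈ Z := by
      rw [← QuotientGroup.ker_mk' Z, MonoidHom.mem_ker]; exact h1
    rw [Subgroup.mem_center_iff]
    intro y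
    apply Subtype.ext
    exact Subgroup.mem_center_iff.mp (hZ h2) (y : G)
  have e : ↥D ⧸ f.ker ≃* ↥(D.map π) := QuotientGroup.quotientKerEquivOfSurjective f hfs
  exact quasisimple_of_central_quotient f.ker hO (isQuasisimple_of_mulEquiv e.symm hq')

end Cfsg.Agent.S3746
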