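import Mathlib
import Cfsg.Statements.S3747
import Cfsg.Agent.S1265
import Cfsg.Agent.S1317
import Cfsg.Agent.Lib.Helper3.Layer
import Cfsg.Agent.Lib.Helper3.QN
import Cfsg.Agent.Lib.Helper3.Conj
import Cfsg.Agent.Lib.Helper3.NormAux

set_option autoImplicit false
open Cfsg
open Cfsg.Agent.Lib.Helper3
open scoped commutatorElement

namespace Cfsg.Agent.S3747

/-- `L` has trivial centre, stated with elements of the ambient group -/
def CenterFree {G : Type*} [Group G] (L : Subgroup G) : Prop :=
  ∀ α ∈ L, (∀ x ∈ L, x * α = α * x) → α = 1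

lemma centerFree_of_center {G : Type*} [Group G] {K : Subgroup G}
    (h : Subgroup.center ↥K = ⊥) : CenterFree K := by
  intro α hα hc
  have h1 : (⟨α, hα⟩ : ↥K) ∈ Subgroup.center ↥K := by
    rw [Subgroup.mem_center_iff]
    intro x
    apply Subtype.ext
    exact hc x x.2
  rw [h, Subgroup.mem_bot] at h1
  exact congrArg Subtype.val h1

lemma CenterFree.conj {G : Type*} [Group G] {K : Subgroup G} (h : CenterFree K) (g : G) :
    CenterFree (K.map (MulAut.conj g).toMonoidHom) := by
  intro α hα hc
  rw [mem_map_conj] at hα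
  have h1 : g⁻¹ * α * g = 1 := by
    apply h _ hα
    intro x hx
    have := hc (g * x * g⁻¹) (conj_mem_map_conj hx)
    calc x * (g⁻¹ * α * g) = g⁻¹ * ((g * x * g⁻¹) * α) * g := by group
      _ = g⁻¹ * (α * (g * x * g⁻¹)) * g := by rw [this]
      _ = g⁻¹ * α * g * x := by group
  have : α = g * (g⁻¹ * α * g) * g⁻¹ := by group
  rw [this, h1]; group

/-- the join of finitely many centre-free components has trivial centre -/
lemma center_sup_trivial {G : Type*} [Group G] [Finite G] :
    ∀ s : Finset (Subgroup G), (∀ L ∈ s, Cfsg.IsComponent L ∧ CenterFree L) →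
      ∀ z ∈ s.sup id, (∀ x ∈ s.sup id, x * z = z * x) → z = 1 := by
  classical
  intro s
  induction s using Finset.induction_on with
  | empty =>
    intro _ z hz _
    rw [Finset.sup_empty] at hz
    exact Subgroup.mem_bot.mp hz
  | insert a s ha ih =>
    intro hs z hz hc
    rw [Finset.sup_insert] at hz hc
    simp only [id] at hz hc
    have haC := (hs a (Finset.mem_insert_self a s)).1
    have haF := (hs a (Finset.mem_insert_self a s)).2
    have hS : s.sup id ≤ Subgroup.centralizer (a : Set G) := by
      apply Finset.sup_le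
      intro L hL
      have hne : a ≠ L := fun h => ha (h ▸ hL)
      have h1 := components_commute haC (hs L (Finset.mem_insert_of_mem hL)).1 hne
      rw [Subgroup.commutator_comm, Subgroup.commutator_eq_bot_iff_le_centralizer] at h1
      exact h1
    have hz' : z ∈ s.sup id ⊔ a := by rw [sup_comm]; exact hz
    obtain ⟨σ, hσ, α, hα, hzσα⟩ := mem_mul_of_mem_sup_left_normal
      (hS.trans (Subgroup.centralizer_le_normalizer _)) hz'
    have hα1 : α = 1 := by
      apply haF α hα
      intro x hx
      have h1 : x * z = z * x := hc x (Subgroup.mem_sup_left hx)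
      have h2 : x * σ = σ * x := Subgroup.mem_centralizer_iff.mp (hS hσ) x hx
      have h3 : α = σ⁻¹ * z := by rw [hzσα]; group
      rw [h3]
      calc x * (σ⁻¹ * z) = σ⁻¹ * (σ * x) * σ⁻¹ * z := by group
        _ = σ⁻¹ * (x * σ) * σ⁻¹ * z := by rw [h2]
        _ = σ⁻¹ * (x * z) := by group
        _ = σ⁻¹ * (z * x) := by rw [h1]
        _ = σ⁻¹ * z * x := by group
    rw [hα1, mul_one] at hzσα
    rw [hzσα]
    apply ih (fun L hL => hs L (Finset.mem_insert_of_mem hL)) σ hσ
    intro x hx
    rw [← hzσα]
    exact hc x (Subgroup.mem_sup_right hx)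

theorem partA {G : Type*} [Group G] [Finite G] (K : Subgroup G) (hK : Cfsg.IsComponent K)
    (hZ : Subgroup.center ↥K = ⊥) :
    Subgroup.normalClosure (K : Set G) ≠ ⊥ ∧ ∀ N : Subgroup G, N.Normal →
      N ≤ Subgroup.normalClosure (K : Set G) → N = ⊥ ∨ N = Subgroup.normalClosure (K : Set G) := by
  classical
  have hKN : K ≤ Subgroup.normalClosure (K : Set G) := Subgroup.le_normalClosure
  constructor
  · intro h
    rw [h, le_bot_iff] at hKN
    have := component_nontrivial hK
    exact (Subgroup.nontrivial_iff_ne_bot K).mp this hKN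
  · intro M hMn hMN
    rcases component_le_or_comm hK (le_normalizer_of_normal hMn K) with h | h
    · right
      exact le_antisymm hMN (Subgroup.normalClosure_le_normal h)
    · left
      -- M centralizes the normal closure
      have hCn : (Subgroup.centralizer (M : Set G)).Normal := Subgroup.normal_centralizer
      have hKC : K ≤ Subgroup.centralizer (M : Set G) :=
        Subgroup.commutator_eq_bot_iff_le_centralizer.mp h
      have hNC : Subgroup.normalClosure (K : Set G) ≤ Subgroup.centralizer (M : Set G) :=
        Subgroup.normalClosure_le_normal hKC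
      -- the join of the conjugates
      set f : G → Subgroup G := fun g => K.map (MulAut.conj g).toMonoidHom with hf
      set s : Finset (Subgroup G) := (Set.toFinite (Set.range f)).toFinset with hs
      have hsmem : ∀ L ∈ s, ∃ g, L = f g := by
        intro L hL
        rw [hs, Set.Finite.mem_toFinset] at hL
        obtain ⟨g, rfl⟩ := hL
        exact ⟨g, rfl⟩
      have hTn : (s.sup id).Normal := by
        constructor
        intro n hn g
        have h1 : s.sup id ≤ (s.sup id).comap (MulAut.conj g).toMonoidHom := by
          apply Finset.sup_le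
          intro L hL
          obtain ⟨g', rfl⟩ := hsmem L hL
          simp only [id]
          rw [← Subgroup.map_le_iff_le_comap, hf, map_conj_map_conj]
          have : f (g * g') ∈ s := by
            rw [hs, Set.Finite.mem_toFinset]; exact ⟨g * g', rfl⟩
          exact Finset.le_sup (f := id) this
        have := h1 hn
        rw [Subgroup.mem_comap] at this
        simpa using this
      have hKT : K ≤ s.sup id := by
        have : f 1 ∈ s := by rw [hs, Set.Finite.mem_toFinset]; exact ⟨1, rfl⟩
        have h2 := Finset.le_sup (f := id) this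
        simp only [id, hf, map_conj_one] at h2
        exact h2
      have hNT : Subgroup.normalClosure (K : Set G) ≤ s.sup id :=
        Subgroup.normalClosure_le_normal hKT
      have hTN : s.sup id ≤ Subgroup.normalClosure (K : Set G) := by
        apply Finset.sup_le
        intro L hL
        obtain ⟨g, rfl⟩ := hsmem L hL
        simp only [id, hf]
        rintro _ ⟨k, hk, rfl⟩
        exact (Subgroup.normalClosure_normal (s := (K : Set G))).conj_mem k (hKN hk) g
      rw [eq_bot_iff]
      intro z hz
      rw [Subgroup.mem_bot]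
      apply center_sup_trivial s ?_ z (hNT (hMN hz))
      · intro x hx
        exact (Subgroup.mem_centralizer_iff.mp (hNC (hTN hx)) z hz).symm
      · intro L hL
        obtain ⟨g, rfl⟩ := hsmem L hL
        exact ⟨component_map_equiv hK (MulAut.conj g), (centerFree_of_center hZ).conj g⟩

theorem result {G : Type*} [Group G] [Finite G] : (∀ K : Subgroup G, Cfsg.IsComponent K → Subgroup.center ↥K = ⊥ → (Subgroup.normalClosure (K : Set G) ≠ ⊥ ∧ ∀ N : Subgroup G, N.Normal → N ≤ Subgroup.normalClosure (K : Set G) → N = ⊥ ∨ N = Subgroup.normalClosure (K : Set G))) ∧ (Cfsg.fittingSubgroup G = ⊥ → sSup {N : Subgroup G | N ≠ ⊥ ∧ N.Normal ∧ ∀ N' : Subgroup G, N'.Normal → N' ≤ N → N' = ⊥ ∨ N' = N} = Cfsg.layer G) := by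
  refine ⟨fun K hK hZ => partA K hK hZ, ?_⟩
  intro hF
  have hFstar : Cfsg.generalizedFittingSubgroup G = Cfsg.layer G := by
    unfold Cfsg.generalizedFittingSubgroup
    rw [hF, sup_bot_eq]
  apply le_antisymm
  · apply sSup_le
    rintro M ⟨hM1, hMn, hMmin⟩
    have hLn : (Cfsg.layer G).Normal := inferInstance
    have hIn : (M ⊓ Cfsg.layer G).Normal := inferInstance
    rcases hMmin (M ⊓ Cfsg.layer G) hIn inf_le_left with h | h
    · exfalso
      have hcomm : ⁅M, Cfsg.layer G⁆ = ⊥ := by
        rw [eq_bot_iff, ← h]
        exact le_inf (Subgroup.commutator_le_left _ _) (Subgroup.commutator_le_right _ _)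
      have h1 : M ≤ Subgroup.centralizer (Cfsg.layer G : Set G) :=
        Subgroup.commutator_eq_bot_iff_le_centralizer.mp hcomm
      have h2 := Cfsg.Agent.S1265.result (G := G)
      rw [hFstar] at h2
      have h3 : M ≤ M ⊓ Cfsg.layer G := le_inf le_rfl (h1.trans h2)
      rw [h, le_bot_iff] at h3
      exact hM1 h3
    · rw [← h]; exact inf_le_right
  · rw [layer_le_iff]
    intro K hK
    have hZ : Subgroup.center ↥K = ⊥ := by
      have h1 := center_component_le_centralizer_layer hK
      have h2 : (Subgroup.center ↥K).map K.subtype ≤ Cfsg.layer G :=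
        (Subgroup.map_subtype_le _).trans (component_le_layer hK)
      have h3 : (Subgroup.center ↥K).map K.subtype ≤
          (Subgroup.center ↥(Cfsg.layer G)).map (Cfsg.layer G).subtype := by
        intro x hx
        refine ⟨⟨x, h2 hx⟩, ?_, rfl⟩
        show (⟨x, h2 hx⟩ : ↥(Cfsg.layer G)) ∈ Subgroup.center ↥(Cfsg.layer G)
        rw [Subgroup.mem_center_iff]
        intro y
        apply Subtype.ext
        exact Subgroup.mem_centralizer_iff.mp (h1 hx) (y : G) y.2
      rw [Cfsg.Agent.S1317.result, hF, bot_inf_eq, le_bot_iff] at h3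
      exact (Subgroup.map_eq_bot_iff_of_injective _ K.subtype_injective).mp h3
    obtain ⟨hne, hmin⟩ := partA K hK hZ
    have hmem : Subgroup.normalClosure (K : Set G) ∈ {N : Subgroup G | N ≠ ⊥ ∧ N.Normal ∧
        ∀ N' : Subgroup G, N'.Normal → N' ≤ N → N' = ⊥ ∨ N' = N} :=
      ⟨hne, Subgroup.normalClosure_normal, hmin⟩
    exact (Subgroup.le_normalClosure).trans (le_sSup hmem)

end Cfsg.Agent.S3747
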