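import Cfsg.Statements.S3748
import Cfsg.Agent.Lib.Helper7.PSubFrattini
import Cfsg.Agent.Lib.Helper7.PiCore
import Cfsg.Agent.Lib.Helper3.Layer
import Cfsg.Agent.S0008
import Cfsg.Agent.S3743

set_option autoImplicit false
open Cfsg

namespace Cfsg.Agent.S3748

open Cfsg.Agent.Lib.Helper7 Cfsg.Agent.Lib.Helper3
open scoped commutatorElement

variable {G : Type*} [Group G]

/-- If conjugation by `g` maps the family `S` into itself then `g` normalizes `sSup S` (finite). -/
lemma mem_normalizer_sSup [Finite G] (S : Set (Subgroup G)) (g : G)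
    (h : ∀ K ∈ S, K.map (MulAut.conj g).toMonoidHom ∈ S) :
    g ∈ Subgroup.normalizer ((sSup S : Subgroup G) : Set G) := by
  apply mem_normalizer_of_conj_mem
  intro x hx
  have hle : sSup S ≤ (sSup S).comap (MulAut.conj g).toMonoidHom := by
    rw [sSup_le_iff]
    intro K hK
    rw [← Subgroup.map_le_iff_le_comap]
    exact le_sSup (h K hK)
  have := hle hx
  simpa using this

/-- A non-abelian simple subnormal subgroup is a component. -/
lemma isComponent_of_simple [Finite G] (L : Subgroup G) (hsn : L.IsSubnormal)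
    (hs : IsSimpleGroup L) (hna : ¬ ∀ a b : L, a * b = b * a) : Cfsg.IsComponent L := by
  haveI := hs
  refine ⟨hsn, ?_, ?_⟩
  · rw [Group.isPerfect_def]
    rcases (inferInstance : (commutator L).Normal).eq_bot_or_eq_top with h | h
    · exfalso
      apply hna
      intro a b
      have hab : ⁅a, b⁆ ∈ commutator L := by
        rw [commutator_def]
        exact Subgroup.commutator_mem_commutator (Subgroup.mem_top a) (Subgroup.mem_top b)
      rw [h, Subgroup.mem_bot, commutatorElement_eq_one_iff_mul_comm] at hab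
      exact hab
    · exact h
  · have hc : Subgroup.center L ≠ ⊤ := by
      intro hc
      apply hna
      intro a b
      have : a ∈ Subgroup.center L := by rw [hc]; exact Subgroup.mem_top a
      exact ((Subgroup.mem_center_iff.mp this) b).symm
    haveI : Nontrivial (L ⧸ Subgroup.center L) := QuotientGroup.nontrivial_iff.mpr hc
    exact IsSimpleGroup.isSimpleGroup_of_surjective (QuotientGroup.mk' (Subgroup.center L))
      (QuotientGroup.mk'_surjective _)

theorem inf_fitting [Finite G] (M : Subgroup G) (hM : M ≠ ⊤)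
    (hprim : ∀ N : Subgroup G, N ≤ M → M ≤ Subgroup.normalizer (N : Set G) → N ≠ ⊥ →
      Subgroup.normalizer (N : Set G) = M) : M ⊓ Cfsg.fittingSubgroup G = ⊥ := by
  by_contra hD
  haveI hFn : (Cfsg.fittingSubgroup G).Normal := Subgroup.normal_of_characteristic _
  have hMD : M ≤ Subgroup.normalizer ((M ⊓ Cfsg.fittingSubgroup G : Subgroup G) : Set G) := by
    intro m hm
    apply mem_normalizer_of_conj_mem
    intro x hx
    exact ⟨M.mul_mem (M.mul_mem hm hx.1) (M.inv_mem hm), hFn.conj_mem x hx.2 m⟩
  have hND := hprim _ inf_le_left hMD hD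
  haveI : Group.IsNilpotent (Cfsg.fittingSubgroup G) := Cfsg.Agent.S0008.result
  have hnc : NormalizerCondition (Cfsg.fittingSubgroup G) := Group.normalizerCondition_of_isNilpotent
  by_cases htop : (M ⊓ Cfsg.fittingSubgroup G).subgroupOf (Cfsg.fittingSubgroup G) = ⊤
  · rw [Subgroup.subgroupOf_eq_top] at htop
    have hFM : Cfsg.fittingSubgroup G ≤ M := htop.trans inf_le_left
    have hFne : Cfsg.fittingSubgroup G ≠ ⊥ := by
      intro h
      apply hD
      rw [h]
      exact inf_bot_eq _
    have hNF : Subgroup.normalizer ((Cfsg.fittingSubgroup G : Subgroup G) : Set G) = ⊤ :=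
      Subgroup.normalizer_eq_top_iff.mpr hFn
    have := hprim _ hFM (by rw [hNF]; exact le_top) hFne
    rw [hNF] at this
    exact hM this.symm
  · have hlt := hnc _ (lt_top_iff_ne_top.mpr htop)
    obtain ⟨x, hx, hxn⟩ := SetLike.exists_of_lt hlt
    apply hxn
    have hxN : (x : G) ∈ Subgroup.normalizer
        ((M ⊓ Cfsg.fittingSubgroup G : Subgroup G) : Set G) := by
      apply mem_normalizer_of_conj_mem
      intro y hy
      have h1 : (⟨y, hy.2⟩ : Cfsg.fittingSubgroup G) ∈
          (M ⊓ Cfsg.fittingSubgroup G).subgroupOf (Cfsg.fittingSubgroup G) := by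
        rw [Subgroup.mem_subgroupOf]
        exact hy
      have h2 := (Subgroup.mem_normalizer_iff.mp hx _).mp h1
      rw [Subgroup.mem_subgroupOf] at h2
      simpa using h2
    rw [hND] at hxN
    rw [Subgroup.mem_subgroupOf]
    exact ⟨hxN, x.2⟩

/-- Call a proper subgroup M of G primitive when M = N_G(N) for every non-trivial normal subgroup N of M. If M is a primitive subgroup of the finite group G, then no non-trivial subnormal subgroup of G is contained in M; in particular M ∩ F(G) = 1. -/
theorem result {G : Type*} [Group G] [Finite G] (M : Subgroup G) (hM : M ≠ ⊤) (hprim : ∀ N : Subgroup G, N ≤ M → M ≤ Subgroup.normalizer (N : Set G) → N ≠ ⊥ → Subgroup.normalizer (N : Set G) = M) : (∀ L : Subgroup G, L.IsSubnormal → L ≤ M → L = ⊥) ∧ M ⊓ Cfsg.fittingSubgroup G = ⊥ := by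
  have hF := inf_fitting M hM hprim
  refine ⟨?_, hF⟩
  intro L₀ hL₀ hL₀M
  by_contra hne
  -- minimal nontrivial subnormal subgroup inside L₀
  obtain ⟨L, ⟨hLsn, hLne, hLL₀⟩, hmin⟩ := Set.exists_min_image
    {K : Subgroup G | K.IsSubnormal ∧ K ≠ ⊥ ∧ K ≤ L₀} (fun K => Nat.card K)
    (Set.toFinite _) ⟨L₀, hL₀, hne, le_refl _⟩
  have hLM : L ≤ M := hLL₀.trans hL₀M
  haveI : Nontrivial L := (Subgroup.nontrivial_iff_ne_bot L).mpr hLne
  have hsimple : IsSimpleGroup L := by
    refine ⟨fun H hH => ?_⟩
    by_cases hHb : H = ⊥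
    · exact Or.inl hHb
    · right
      have hsn : (H.map L.subtype).IsSubnormal := hH.isSubnormal.trans' hLsn
      have hne' : H.map L.subtype ≠ ⊥ := by
        intro h
        apply hHb
        rw [Subgroup.map_eq_bot_iff_of_injective _ L.subtype_injective] at h
        exact h
      have hle : H.map L.subtype ≤ L₀ := (Subgroup.map_subtype_le H).trans hLL₀
      have hc := hmin _ ⟨hsn, hne', hle⟩
      rw [Subgroup.card_map_of_injective L.subtype_injective] at hc
      exact Subgroup.eq_top_of_le_card _ hc
  by_cases hab : ∀ a b : L, a * b = b * a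
  · have hnil : Group.IsNilpotent L := isNilpotent_of_comm hab
    have hLF := (Cfsg.Agent.S3743.result L hLsn).1 hnil
    have : L ≤ M ⊓ Cfsg.fittingSubgroup G := le_inf hLM hLF
    rw [hF] at this
    exact hLne (le_bot_iff.mp this)
  · have hcomp := isComponent_of_simple L hLsn hsimple hab
    set N : Subgroup G := sSup {K : Subgroup G | Cfsg.IsComponent K ∧ K ≤ M} with hN
    have hNM : N ≤ M := sSup_le fun K hK => hK.2
    have hLN : L ≤ N := le_sSup ⟨hcomp, hLM⟩
    have hNne : N ≠ ⊥ := by
      intro h
      rw [h] at hLN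
      exact hLne (le_bot_iff.mp hLN)
    have hMN : M ≤ Subgroup.normalizer (N : Set G) := by
      intro m hm
      apply mem_normalizer_sSup
      rintro K ⟨hKc, hKM⟩
      refine ⟨component_map_equiv hKc (MulAut.conj m), ?_⟩
      rintro _ ⟨k, hk, rfl⟩
      simpa using M.mul_mem (M.mul_mem hm (hKM hk)) (M.inv_mem hm)
    have hNN := hprim N hNM hMN hNne
    have hEN : Cfsg.layer G ≤ Subgroup.normalizer (N : Set G) := by
      intro x hx
      apply mem_normalizer_sSup
      rintro K ⟨hKc, hKM⟩
      have hxK := layer_le_normalizer_component hKc hx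
      have : K.map (MulAut.conj x).toMonoidHom = K := (map_conj_eq_self_iff K x).mpr hxK
      rw [this]
      exact ⟨hKc, hKM⟩
    rw [hNN] at hEN
    have hEne : Cfsg.layer G ≠ ⊥ := by
      intro h
      have := component_le_layer hcomp
      rw [h] at this
      exact hLne (le_bot_iff.mp this)
    have hNE : Subgroup.normalizer ((Cfsg.layer G : Subgroup G) : Set G) = ⊤ :=
      Subgroup.normalizer_eq_top_iff.mpr inferInstance
    have := hprim _ hEN (by rw [hNE]; exact le_top) hEne
    rw [hNE] at this
    exact hM this.symm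

end Cfsg.Agent.S3748
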