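import Cfsg.Statements.S3749
import Cfsg.Agent.Lib.Helper7.PSubFrattini
import Cfsg.Agent.Lib.Helper7.SylowBasic
import Cfsg.Agent.Lib.Helper7.PCore

set_option autoImplicit false
open Cfsg

namespace Cfsg.Agent.S3749

open Cfsg.Agent.Lib.Helper7
open scoped Pointwise

variable {G : Type*} [Group G]

/-- Sylow conjugation inside `H ⊓ (P ⊔ N)`: the conjugating element can be taken in `N ⊓ H`. -/
theorem conj_in_inter {p : ℕ} [Fact p.Prime] [Finite G] (P N H A : Subgroup G) [hN : N.Normal]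
    (hP : IsPGroup p P) (hcop : (Nat.card N).Coprime p) (hPH : P ≤ H) (hA : IsPGroup p A)
    (hAH : A ≤ H) (hAPN : A ≤ P ⊔ N) : ∃ m ∈ N, m ∈ H ∧ ∀ a ∈ A, m⁻¹ * a * m ∈ P := by
  set L : Subgroup G := H ⊓ (P ⊔ N) with hL
  have hPL : P ≤ L := le_inf hPH le_sup_left
  have hidx : ¬ p ∣ (P.subgroupOf L).index := by
    intro h
    apply not_dvd_relIndex_sup_of_coprime P N hcop
    have := Subgroup.relIndex_mul_relIndex P L (P ⊔ N) hPL inf_le_right
    rw [← this]
    exact Dvd.dvd.mul_right h _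
  let S : Sylow p L := (hP.comap_subtype (K := L)).toSylow hidx
  have hS : ∀ z : L, z ∈ S ↔ (z : G) ∈ P := fun z => Iff.rfl
  have hQ : IsPGroup p (A.subgroupOf L) := hA.comap_subtype
  obtain ⟨S', hS'⟩ := hQ.exists_le_sylow
  obtain ⟨l, rfl⟩ := MulAction.exists_smul_eq L S S'
  obtain ⟨u, hu, n, hn, hl⟩ := (Subgroup.mem_sup_of_normal_right (s := P) (t := N)).mp l.2.2
  refine ⟨u * n * u⁻¹, hN.conj_mem n hn u, ?_, ?_⟩
  · rw [hl]
    exact H.mul_mem l.2.1 (H.inv_mem (hPH hu))
  · intro a ha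
    have h2 : (⟨a, ⟨hAH ha, hAPN ha⟩⟩ : L) ∈ A.subgroupOf L := by
      rw [Subgroup.mem_subgroupOf]; exact ha
    have h3 := (mem_sylow_smul S l _).mp (hS' h2)
    rw [hS] at h3
    have h4 : (l : G)⁻¹ * a * (l : G) ∈ P := by simpa using h3
    rw [← hl] at h4
    have e : (u * n * u⁻¹)⁻¹ * a * (u * n * u⁻¹) = u * ((u * n)⁻¹ * a * (u * n)) * u⁻¹ := by group
    rw [e]
    exact P.mul_mem (P.mul_mem hu h4) (P.inv_mem hu)

section Act

variable {N : Subgroup G} [N.Normal] {q : ℕ}

theorem mem_conj_smul (g : G) (Q : Sylow q N) (y : N) :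
    y ∈ ((ConjAct.toConjAct g • Q : Sylow q N) : Subgroup N) ↔
      (ConjAct.toConjAct g)⁻¹ • y ∈ (Q : Subgroup N) := by
  rw [Sylow.pointwise_smul_def, Subgroup.mem_pointwise_smul_iff_inv_smul_mem]

theorem val_conj_inv_smul (g : G) (y : N) :
    (((ConjAct.toConjAct g)⁻¹ • y : N) : G) = g⁻¹ * y * g := by
  rw [ConjAct.Subgroup.val_conj_smul, ← ConjAct.toConjAct_inv, ConjAct.toConjAct_smul, inv_inv]

theorem val_conj_smul' (g : G) (y : N) :
    (((ConjAct.toConjAct g) • y : N) : G) = g * y * g⁻¹ := by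
  rw [ConjAct.Subgroup.val_conj_smul, ConjAct.toConjAct_smul]

theorem smul_eq_iff_mem_normalizer [Finite G] (g : G) (Q : Sylow q N) :
    ConjAct.toConjAct g • Q = Q ↔
      g ∈ Subgroup.normalizer (((Q : Subgroup N).map N.subtype : Subgroup G) : Set G) := by
  constructor
  · intro h
    apply mem_normalizer_of_conj_mem
    rintro _ ⟨y, hy, rfl⟩
    refine ⟨ConjAct.toConjAct g • y, ?_, ?_⟩
    · have : ConjAct.toConjAct g • y ∈ ((ConjAct.toConjAct g • Q : Sylow q N) : Subgroup N) := by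
        rw [mem_conj_smul, inv_smul_smul]
        exact hy
      rw [h] at this
      exact this
    · simp [val_conj_smul']
  · intro h
    ext y
    rw [mem_conj_smul]
    have h1 := (Subgroup.mem_normalizer_iff.mp (Subgroup.inv_mem _ h)) (y : G)
    rw [inv_inv] at h1
    have e1 : (y : G) ∈ (Q : Subgroup N).map N.subtype ↔ y ∈ (Q : Subgroup N) :=
      Subgroup.mem_map_iff_mem N.subtype_injective (x := y) (K := (Q : Subgroup N))
    have e2 : g⁻¹ * (y : G) * g ∈ (Q : Subgroup N).map N.subtype ↔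
        (ConjAct.toConjAct g)⁻¹ • y ∈ (Q : Subgroup N) := by
      rw [← val_conj_inv_smul]
      exact Subgroup.mem_map_iff_mem N.subtype_injective (x := (ConjAct.toConjAct g)⁻¹ • y)
        (K := (Q : Subgroup N))
    rw [← e2, ← h1, e1]

theorem exists_conj_smul_eq [Fact q.Prime] [Finite G] (Q₁ Q₂ : Sylow q N) :
    ∃ n ∈ N, ConjAct.toConjAct n • Q₁ = Q₂ := by
  obtain ⟨n, hn⟩ := MulAction.exists_smul_eq N Q₁ Q₂
  refine ⟨n, n.2, ?_⟩
  rw [← hn]
  ext y
  rw [mem_conj_smul]
  change _ ↔ y ∈ n • Q₁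
  rw [mem_sylow_smul]
  have : (ConjAct.toConjAct (n : G))⁻¹ • y = n⁻¹ * y * n := by
    apply Subtype.ext
    rw [val_conj_inv_smul]
    simp
  rw [this]
  exact Iff.rfl

end Act

/-- Call a proper subgroup M of G primitive when M = N_G(N) for every non-trivial normal subgroup N of M. Let M be a primitive subgroup of the finite group G, p a prime with O_p(M) ≠ 1, and N a normal subgroup of G with M ∩ N = 1. Then p does not divide the order of N; for every prime q there is exactly one Sylow q-subgroup of N normalized by M; and if the order of N has at least two prime divisors then M is not a maximal subgroup of G. -/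
theorem result {G : Type*} [Group G] [Finite G] (M : Subgroup G) (hM : M ≠ ⊤) (hprim : ∀ N : Subgroup G, N ≤ M → M ≤ Subgroup.normalizer (N : Set G) → N ≠ ⊥ → Subgroup.normalizer (N : Set G) = M) {p : ℕ} [Fact p.Prime] (hOp : Cfsg.pCore p ↥M ≠ ⊥) (N : Subgroup G) [N.Normal] (hMN : M ⊓ N = ⊥) : ¬ p ∣ Nat.card N ∧ (∀ q : ℕ, [Fact q.Prime] → ∃! Q : Sylow q ↥N, M ≤ Subgroup.normalizer ((Q : Subgroup ↥N).map N.subtype : Set G)) ∧ ((∃ q r : ℕ, q.Prime ∧ r.Prime ∧ q ≠ r ∧ q ∣ Nat.card N ∧ r ∣ Nat.card N) → ¬ IsCoatom M) := by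
  classical
  have hNn : N.Normal := inferInstance
  set P : Subgroup G := (Cfsg.pCore p M).map M.subtype with hPdef
  have hPM : P ≤ M := Subgroup.map_subtype_le _
  have hPne : P ≠ ⊥ := by
    intro h
    apply hOp
    rwa [Subgroup.map_eq_bot_iff_of_injective _ M.subtype_injective] at h
  have hPp : IsPGroup p P := (pCore_isPGroup).map _
  have hMP : M ≤ Subgroup.normalizer (P : Set G) := by
    intro m hm
    apply mem_normalizer_of_conj_mem
    rintro _ ⟨y, hy, rfl⟩
    refine ⟨⟨m, hm⟩ * y * ⟨m, hm⟩⁻¹, (pCore_normal p ↥M).conj_mem y hy ⟨m, hm⟩, by simp⟩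
  have hNP : Subgroup.normalizer (P : Set G) = M := hprim P hPM hMP hPne
  have hkey : ∀ x ∈ N, x ∈ Subgroup.normalizer (P : Set G) → x = 1 := by
    intro x hxN hx
    rw [hNP] at hx
    have : x ∈ M ⊓ N := ⟨hx, hxN⟩
    rw [hMN] at this
    exact Subgroup.mem_bot.mp this
  let f : P →* ConjAct G := (ConjAct.toConjAct.toMonoidHom).comp P.subtype
  -- (a)
  have hpN : ¬ p ∣ Nat.card N := by
    intro hdvd
    letI : MulAction P N := MulAction.compHom N f
    have h1 : (1 : N) ∈ MulAction.fixedPoints P N := by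
      intro x
      show f x • (1 : N) = 1
      exact smul_one _
    obtain ⟨b, hb, hne⟩ := hPp.exists_fixed_point_of_prime_dvd_card_of_fixed_point N hdvd h1
    apply hne
    symm
    apply Subtype.ext
    apply hkey _ b.2
    apply Subgroup.centralizer_le_normalizer
    rw [Subgroup.mem_centralizer_iff]
    intro x hx
    have h2 : f ⟨x, hx⟩ • b = b := hb ⟨x, hx⟩
    have h3 : x * (b : G) * x⁻¹ = b := by
      have := congrArg (Subtype.val) h2
      rw [show ((f ⟨x, hx⟩ • b : N) : G) = x * b * x⁻¹ from val_conj_smul' x b] at this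
      exact this
    calc x * (b : G) = x * (b : G) * x⁻¹ * x := by group
      _ = b * x := by rw [h3]
  have hcop : (Nat.card N).Coprime p :=
    (Nat.Coprime.symm ((Fact.out : p.Prime).coprime_iff_not_dvd.mpr hpN))
  -- (b)
  have hb : ∀ q : ℕ, [Fact q.Prime] → ∃! Q : Sylow q ↥N,
      M ≤ Subgroup.normalizer ((Q : Subgroup ↥N).map N.subtype : Set G) := by
    intro q _
    letI : MulAction P (Sylow q N) := MulAction.compHom _ f
    have hcard : ¬ p ∣ Nat.card (Sylow q N) := by
      intro h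
      obtain ⟨Q₀⟩ : Nonempty (Sylow q N) := inferInstance
      exact hpN (h.trans ((Sylow.card_dvd_index Q₀).trans (Subgroup.index_dvd_card _)))
    obtain ⟨Q, hQ⟩ := hPp.nonempty_fixed_point_of_prime_not_dvd_card (Sylow q N) hcard
    have hQfix : ∀ x ∈ P, ConjAct.toConjAct x • Q = Q := fun x hx => hQ ⟨x, hx⟩
    have huniq : ∀ Q₁ Q₂ : Sylow q N, (∀ x ∈ P, ConjAct.toConjAct x • Q₁ = Q₁) →
        (∀ x ∈ P, ConjAct.toConjAct x • Q₂ = Q₂) → Q₁ = Q₂ := by
      intro Q₁ Q₂ h₁ h₂
      obtain ⟨n, hnN, hn⟩ := exists_conj_smul_eq Q₁ Q₂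
      set H : Subgroup G :=
        Subgroup.normalizer (((Q₂ : Subgroup N).map N.subtype : Subgroup G) : Set G) with hH
      have hPH : P ≤ H := fun x hx => (smul_eq_iff_mem_normalizer x Q₂).mp (h₂ x hx)
      have hAH : P.map (MulAut.conj n).toMonoidHom ≤ H := by
        rintro _ ⟨x, hx, rfl⟩
        rw [hH, ← smul_eq_iff_mem_normalizer, ← hn, smul_smul, ← map_mul]
        have : (MulAut.conj n).toMonoidHom x * n = n * x := by simp
        rw [this, map_mul, mul_smul, h₁ x hx]
      have hAPN : P.map (MulAut.conj n).toMonoidHom ≤ P ⊔ N := by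
        rintro _ ⟨x, hx, rfl⟩
        have e : (MulAut.conj n).toMonoidHom x = (n * (x * n⁻¹ * x⁻¹)) * x := by
          simp [mul_assoc]
        rw [e, sup_comm]
        exact Subgroup.mul_mem_sup (N.mul_mem hnN (hNn.conj_mem _ (N.inv_mem hnN) x)) hx
      obtain ⟨m, hmN, hmH, hm⟩ := conj_in_inter P N H _ hPp hcop hPH (hPp.map _) hAH hAPN
      have hg : m⁻¹ * n ∈ Subgroup.normalizer (P : Set G) := by
        apply mem_normalizer_of_conj_mem
        intro x hx
        have := hm _ ⟨x, hx, rfl⟩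
        have e : m⁻¹ * n * x * (m⁻¹ * n)⁻¹ = m⁻¹ * (MulAut.conj n).toMonoidHom x * m := by
          simp [mul_assoc]
        rw [e]
        exact this
      have h1 := hkey _ (N.mul_mem (N.inv_mem hmN) hnN) hg
      have hnm : n = m := by
        have : m * (m⁻¹ * n) = m * 1 := by rw [h1]
        simpa using this
      rw [← hnm] at hmH
      have h2 := (smul_eq_iff_mem_normalizer n Q₂).mpr hmH
      have h3 : ConjAct.toConjAct n • Q₁ = ConjAct.toConjAct n • Q₂ := by rw [hn, h2]
      exact MulAction.injective _ h3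
    refine ⟨Q, ?_, ?_⟩
    · intro m hm
      rw [← smul_eq_iff_mem_normalizer]
      apply huniq _ _ ?_ hQfix
      intro x hx
      have hx' : m⁻¹ * x * m ∈ P := by
        have := (Subgroup.mem_normalizer_iff.mp (hMP (M.inv_mem hm)) x).mp hx
        simpa using this
      have e : ConjAct.toConjAct x * ConjAct.toConjAct m
          = ConjAct.toConjAct m * ConjAct.toConjAct (m⁻¹ * x * m) := by
        rw [← map_mul, ← map_mul]
        congr 1
        group
      rw [smul_smul, e, mul_smul, hQfix _ hx']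
    · intro Q' hQ'
      apply huniq _ _ ?_ hQfix
      intro x hx
      rw [smul_eq_iff_mem_normalizer]
      exact hQ' (hPM hx)
  refine ⟨hpN, hb, ?_⟩
  -- (c)
  rintro ⟨q, r, hq, hr, hqr, hqN, hrN⟩ hco
  haveI := Fact.mk hq
  obtain ⟨Q, hQM, -⟩ := hb q
  set Q' : Subgroup G := (Q : Subgroup N).map N.subtype with hQ'
  have hQ'N : Q' ≤ N := Subgroup.map_subtype_le _
  have hQ'ne : Q' ≠ ⊥ := by
    intro h
    rw [hQ', Subgroup.map_eq_bot_iff_of_injective _ N.subtype_injective] at h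
    exact Q.ne_bot_of_dvd_card hqN h
  have hlt : M < M ⊔ Q' := by
    apply lt_of_le_of_ne le_sup_left
    intro h
    have h1 : Q' ≤ M := by rw [h]; exact le_sup_right
    have h2 : Q' ≤ M ⊓ N := le_inf h1 hQ'N
    rw [hMN] at h2
    exact hQ'ne (le_bot_iff.mp h2)
  have htop : M ⊔ Q' = ⊤ := hco.2 _ hlt
  have hNQ : N ≤ Q' := by
    intro x hx
    have hx' : x ∈ ((M ⊔ Q' : Subgroup G) : Set G) := by rw [htop]; trivial
    rw [Subgroup.coe_mul_of_left_le_normalizer_right M Q' hQM] at hx'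
    obtain ⟨m, hm, y, hy, rfl⟩ := Set.mem_mul.mp hx'
    have hmN : m ∈ N := by
      have : m = m * y * y⁻¹ := by group
      rw [this]
      exact N.mul_mem hx (N.inv_mem (hQ'N hy))
    have : m ∈ M ⊓ N := ⟨hm, hmN⟩
    rw [hMN] at this
    rw [Subgroup.mem_bot.mp this, one_mul]
    exact hy
  have hNq : IsPGroup q N := by
    have : IsPGroup q Q' := Q.2.map _
    exact this.to_le hNQ
  obtain ⟨k, hk⟩ := IsPGroup.iff_card.mp hNq
  rw [hk] at hrN
  exact hqr ((Nat.prime_dvd_prime_iff_eq hr hq).mp (hr.dvd_of_dvd_pow hrN)).symm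

end Cfsg.Agent.S3749
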