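import Cfsg.Statements.S3750
import Cfsg.Agent.Lib.Helper7.PSubFrattini
import Cfsg.Agent.Lib.Helper7.PiCore
import Cfsg.Agent.Lib.Helper3.Layer
import Cfsg.Agent.S0008
import Cfsg.Agent.S3748

set_option autoImplicit false
open Cfsg

namespace Cfsg.Agent.S3750

open Cfsg.Agent.Lib.Helper7 Cfsg.Agent.Lib.Helper3
open scoped commutatorElement

/-- A nontrivial nilpotent group has nontrivial centre. -/
lemma center_ne_bot_of_nilpotent {H : Type*} [Group H] [Group.IsNilpotent H] [Nontrivial H] :
    Subgroup.center H ≠ ⊥ := by
  intro h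
  obtain ⟨n, hn⟩ := Group.IsNilpotent.nilpotent H
  have hall : ∀ k, Subgroup.upperCentralSeries H k = ⊥ := by
    intro k
    induction k with
    | zero => exact Subgroup.upperCentralSeries_zero H
    | succ k ih =>
      rw [eq_bot_iff]
      intro x hx
      rw [Subgroup.mem_upperCentralSeries_succ_iff] at hx
      rw [ih] at hx
      have hc : x ∈ Subgroup.center H := by
        rw [Subgroup.mem_center_iff]
        intro y
        have := hx y
        rw [Subgroup.mem_bot, commutatorElement_eq_one_iff_mul_comm] at this
        exact this.symm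
      rwa [h] at hc
  rw [hall n] at hn
  exact bot_ne_top hn

variable {G : Type*} [Group G]

instance layer_characteristic : (Cfsg.layer G).Characteristic :=
  Subgroup.characteristic_iff_map_eq.mpr (fun φ => layer_map_equiv φ)

/-- Call a proper subgroup M of G primitive when M = N_G(N) for every non-trivial normal subgroup N of M. Let M be a primitive subgroup of the finite group G and N a normal subgroup of G with M ∩ F*(N) ≠ 1. Then F(G) = 1 and F*(N) = F*(G) = E(G); in particular every minimal normal subgroup of G is contained in N. -/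
theorem result {G : Type*} [Group G] [Finite G] (M : Subgroup G) (hM : M ≠ ⊤) (hprim : ∀ N : Subgroup G, N ≤ M → M ≤ Subgroup.normalizer (N : Set G) → N ≠ ⊥ → Subgroup.normalizer (N : Set G) = M) (N : Subgroup G) [N.Normal] (hMF : M ⊓ (Cfsg.generalizedFittingSubgroup ↥N).map N.subtype ≠ ⊥) : Cfsg.fittingSubgroup G = ⊥ ∧ (Cfsg.generalizedFittingSubgroup ↥N).map N.subtype = Cfsg.generalizedFittingSubgroup G ∧ Cfsg.generalizedFittingSubgroup G = Cfsg.layer G ∧ ∀ K : Subgroup G, K.Normal → K ≠ ⊥ → (∀ K' : Subgroup G, K'.Normal → K' ≤ K → K' = ⊥ ∨ K' = K) → K ≤ N := by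
  obtain ⟨hsub, hMFit⟩ := Cfsg.Agent.S3748.result M hM hprim
  set FN : Subgroup G := (Cfsg.fittingSubgroup ↥N).map N.subtype with hFN
  set EN : Subgroup G := (Cfsg.layer ↥N).map N.subtype with hEN
  set X : Subgroup G := (Cfsg.generalizedFittingSubgroup ↥N).map N.subtype with hX
  have hXsup : X = EN ⊔ FN := by
    rw [hX, hEN, hFN, ← Subgroup.map_sup]
    rfl
  haveI hFNn : FN.Normal := ConjAct.normal_of_characteristic_of_normal
  haveI hENn : EN.Normal := ConjAct.normal_of_characteristic_of_normal
  haveI hXn : X.Normal := by rw [hXsup]; infer_instance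
  have hXN : X ≤ N := Subgroup.map_subtype_le _
  -- FN ≤ F(G)
  have hFNle : FN ≤ Cfsg.fittingSubgroup G := by
    apply le_sSup
    refine ⟨hFNn, ?_⟩
    haveI : Group.IsNilpotent (Cfsg.fittingSubgroup ↥N) := Cfsg.Agent.S0008.result
    exact Group.nilpotent_of_mulEquiv
      ((Cfsg.fittingSubgroup ↥N).equivMapOfInjective N.subtype N.subtype_injective)
  -- EN ≤ E(G)
  have hENle : EN ≤ Cfsg.layer G := by
    rw [hEN, Subgroup.map_le_iff_le_comap, layer_le_iff]
    intro K hK
    rw [← Subgroup.map_le_iff_le_comap]
    apply component_le_layer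
    refine ⟨hK.1.trans' (Subgroup.Normal.isSubnormal inferInstance), ?_⟩
    exact isQuasisimple_of_mulEquiv (K.equivMapOfInjective N.subtype N.subtype_injective) hK.2
  -- the key: centralizer of X lies in M
  have hMD : M ≤ Subgroup.normalizer ((M ⊓ X : Subgroup G) : Set G) := by
    intro m hm
    apply mem_normalizer_of_conj_mem
    intro x hx
    exact ⟨M.mul_mem (M.mul_mem hm hx.1) (M.inv_mem hm), hXn.conj_mem x hx.2 m⟩
  have hND := hprim _ inf_le_left hMD hMF
  have hCX : Subgroup.centralizer (X : Set G) ≤ M := by
    calc Subgroup.centralizer (X : Set G)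
        ≤ Subgroup.centralizer ((M ⊓ X : Subgroup G) : Set G) :=
          Subgroup.centralizer_le (by exact_mod_cast (inf_le_right : M ⊓ X ≤ X))
      _ ≤ Subgroup.normalizer ((M ⊓ X : Subgroup G) : Set G) :=
          Subgroup.centralizer_le_normalizer _
      _ = M := hND
  have hCN : Subgroup.centralizer (N : Set G) ≤ M :=
    (Subgroup.centralizer_le (by exact_mod_cast hXN)).trans hCX
  -- F(G) = ⊥
  have hF : Cfsg.fittingSubgroup G = ⊥ := by
    by_contra hne
    haveI : Group.IsNilpotent (Cfsg.fittingSubgroup G) := Cfsg.Agent.S0008.result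
    haveI : Nontrivial (Cfsg.fittingSubgroup G) := (Subgroup.nontrivial_iff_ne_bot _).mpr hne
    apply center_ne_bot_of_nilpotent (H := Cfsg.fittingSubgroup G)
    rw [eq_bot_iff]
    intro z hz
    have hzF : (z : G) ∈ Cfsg.fittingSubgroup G := z.2
    have hzX : (z : G) ∈ Subgroup.centralizer (X : Set G) := by
      have h1 : X ≤ Subgroup.centralizer ({(z : G)} : Set G) := by
        rw [hXsup]
        apply sup_le
        · intro x hx
          have h2 := fitting_le_centralizer_layer hzF
          rw [Subgroup.mem_centralizer_iff] at h2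
          rw [Subgroup.mem_centralizer_iff]
          intro y hy
          rw [Set.mem_singleton_iff] at hy
          subst hy
          exact (h2 x (hENle hx)).symm
        · intro x hx
          rw [Subgroup.mem_centralizer_iff]
          intro y hy
          rw [Set.mem_singleton_iff] at hy
          subst hy
          have h3 := Subgroup.mem_center_iff.mp hz ⟨x, hFNle hx⟩
          have h4 : x * (z : G) = z * x := congrArg Subtype.val h3
          exact h4.symm
      rw [Subgroup.mem_centralizer_iff]
      intro x hx
      have := h1 hx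
      rw [Subgroup.mem_centralizer_iff] at this
      exact (this _ rfl).symm
    have : (z : G) ∈ M ⊓ Cfsg.fittingSubgroup G := ⟨hCX hzX, hzF⟩
    rw [hMFit, Subgroup.mem_bot] at this
    rw [Subgroup.mem_bot]
    exact Subtype.ext this
  have hFstar : Cfsg.generalizedFittingSubgroup G = Cfsg.layer G := by
    unfold Cfsg.generalizedFittingSubgroup
    rw [hF, sup_bot_eq]
  have hFNbot : FN = ⊥ := by
    rw [hF] at hFNle
    exact le_bot_iff.mp hFNle
  -- E(G) ≤ EN
  have hEle : Cfsg.layer G ≤ EN := by
    rw [layer_le_iff]
    intro K hK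
    have hKN : K ≤ N := by
      have hKnorm : K ≤ Subgroup.normalizer (N : Set G) := by
        rw [Subgroup.normalizer_eq_top_iff.mpr inferInstance]; exact le_top
      rcases component_le_or_comm hK hKnorm with h | h
      · exact h
      · exfalso
        rw [Subgroup.commutator_eq_bot_iff_le_centralizer] at h
        have hKM : K ≤ M := h.trans hCN
        have hKb := hsub K hK.1 hKM
        haveI := component_nontrivial hK
        exact (Subgroup.nontrivial_iff_ne_bot K).mp inferInstance hKb
    have hcomp : Cfsg.IsComponent (K.subgroupOf N) := by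
      refine ⟨hK.1.subgroupOf, ?_⟩
      exact isQuasisimple_of_mulEquiv (Subgroup.subgroupOfEquivOfLe hKN).symm hK.2
    have := component_le_layer hcomp
    rw [← Subgroup.map_subgroupOf_eq_of_le hKN]
    exact Subgroup.map_mono this
  have hXE : X = Cfsg.layer G := by
    rw [hXsup, hFNbot, sup_bot_eq]
    exact le_antisymm hENle hEle
  refine ⟨hF, ?_, hFstar, ?_⟩
  · rw [hFstar]; exact hXE
  · intro K hKn hKne hKmin
    haveI := hKn
    have hKNn : (K ⊓ N).Normal := inferInstance
    rcases hKmin (K ⊓ N) hKNn inf_le_left with h | h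
    · exfalso
      have h1 : ⁅K, N⁆ ≤ K ⊓ N := Subgroup.commutator_le_inf K N
      rw [h, le_bot_iff, Subgroup.commutator_eq_bot_iff_le_centralizer] at h1
      exact hKne (hsub K hKn.isSubnormal (h1.trans hCN))
    · rw [← h]; exact inf_le_right

end Cfsg.Agent.S3750
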