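import Cfsg.Statements.S3751
import Cfsg.Agent.Lib.Helper7.Conj
import Cfsg.Agent.Lib.Helper7.SylowBasic
import Cfsg.Agent.Lib.Helper7.PSubFrattini
import Cfsg.Agent.Lib.Helper7.PGroupNormalizer
import Cfsg.Agent.Lib.Helper7.PCore

set_option autoImplicit false
open Cfsg

namespace Cfsg.Agent.S3751

open Cfsg.Agent.Lib.Helper7

variable {G : Type*} [Group G] {p : ℕ}

def IsPLoc (p : ℕ) (L : Subgroup G) : Prop :=
  ∃ T : Subgroup G, IsPGroup p T ∧ T ≠ ⊥ ∧ L = Subgroup.normalizer (T : Set G)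

def IsMaxPLoc (p : ℕ) (M : Subgroup G) : Prop :=
  IsPLoc p M ∧ ∀ L : Subgroup G, IsPLoc p L → M ≤ L → L = M

/-- `O_p(A)` as a subgroup of `G`. -/
def Op (p : ℕ) (A : Subgroup G) : Subgroup G := (Cfsg.pCore p A).map A.subtype

def IsMaxPSub (p : ℕ) (T M : Subgroup G) : Prop :=
  T ≤ M ∧ IsPGroup p T ∧ ∀ R : Subgroup G, IsPGroup p R → T ≤ R → R ≤ M → R = T

lemma Op_le (p : ℕ) (A : Subgroup G) : Op p A ≤ A := Subgroup.map_subtype_le _

lemma Op_isPGroup [Fact p.Prime] [Finite G] (A : Subgroup G) : IsPGroup p (Op p A) :=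
  (pCore_isPGroup).map _

lemma le_Op {K A : Subgroup G} (hKA : K ≤ A) (hK : IsPGroup p K)
    (hn : A ≤ Subgroup.normalizer (K : Set G)) : K ≤ Op p A := by
  have h1 : (K.subgroupOf A).Normal := (Subgroup.normal_subgroupOf_iff_le_normalizer hKA).mpr hn
  have h2 : IsPGroup p (K.subgroupOf A) := hK.comap_subtype
  have h3 := le_pCore (K.subgroupOf A) h1 h2
  calc K = (K.subgroupOf A).map A.subtype := (Subgroup.map_subgroupOf_eq_of_le hKA).symm
    _ ≤ Op p A := Subgroup.map_mono h3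

lemma le_normalizer_Op [Finite G] (p : ℕ) (A : Subgroup G) :
    A ≤ Subgroup.normalizer (Op p A : Set G) := by
  intro m hm
  apply mem_normalizer_of_conj_mem
  rintro _ ⟨y, hy, rfl⟩
  refine ⟨⟨m, hm⟩ * y * ⟨m, hm⟩⁻¹, (pCore_normal p ↥A).conj_mem y hy ⟨m, hm⟩, by simp⟩

lemma normalizer_le_normalizer_Op [Finite G] [Fact p.Prime] (A : Subgroup G) :
    Subgroup.normalizer (A : Set G) ≤ Subgroup.normalizer (Op p A : Set G) := by
  intro g hg
  apply mem_normalizer_of_conj_mem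
  intro x hx
  have hK : (Op p A).map (MulAut.conj g).toMonoidHom ≤ Op p A := by
    apply le_Op
    · rintro _ ⟨y, hy, rfl⟩
      exact (Subgroup.mem_normalizer_iff.mp hg y).mp (Op_le p A hy)
    · exact (Op_isPGroup A).map _
    · intro a ha
      apply mem_normalizer_of_conj_mem
      rintro _ ⟨y, hy, rfl⟩
      have hga : g⁻¹ * a * g ∈ A := by
        have := (Subgroup.mem_normalizer_iff.mp (Subgroup.inv_mem _ hg) a).mp ha
        simpa using this
      refine ⟨(g⁻¹ * a * g) * y * (g⁻¹ * a * g)⁻¹, ?_, ?_⟩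
      · exact (Subgroup.mem_normalizer_iff.mp (le_normalizer_Op p A hga) y).mp hy
      · simp [mul_assoc]
  have := hK ⟨x, hx, rfl⟩
  simpa using this

lemma exists_max [Finite G] {L : Subgroup G} (hL : IsPLoc p L) :
    ∃ M, IsMaxPLoc p M ∧ L ≤ M := by
  obtain ⟨M, ⟨hM1, hM2⟩, hmax⟩ := Set.exists_max_image
    {L' : Subgroup G | IsPLoc p L' ∧ L ≤ L'} (fun K => Nat.card K) (Set.toFinite _)
    ⟨L, hL, le_refl _⟩
  refine ⟨M, ⟨hM1, ?_⟩, hM2⟩
  intro L' hL' hML'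
  have := hmax L' ⟨hL', hM2.trans hML'⟩
  exact (Subgroup.eq_of_le_of_card_ge hML' this).symm

lemma isPLoc_conj {L : Subgroup G} (hL : IsPLoc p L) (g : G) :
    IsPLoc p (L.map (MulAut.conj g).toMonoidHom) := by
  obtain ⟨T, hT, hTne, rfl⟩ := hL
  refine ⟨T.map (MulAut.conj g).toMonoidHom, hT.map _, ?_, ?_⟩
  · rwa [Ne, Subgroup.map_eq_bot_iff_of_injective _ (MulAut.conj g).injective]
  · exact Subgroup.map_equiv_normalizer_eq T (MulAut.conj g)

lemma map_conj_inv_map_conj (H : Subgroup G) (g : G) :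
    (H.map (MulAut.conj g⁻¹).toMonoidHom).map (MulAut.conj g).toMonoidHom = H := by
  ext y
  constructor
  · rintro ⟨_, ⟨z, hz, rfl⟩, rfl⟩
    simpa [mul_assoc] using hz
  · intro hy
    exact ⟨g⁻¹ * y * g, ⟨y, hy, by simp⟩, by simp [mul_assoc]⟩

lemma isMaxPLoc_conj {M : Subgroup G} (hM : IsMaxPLoc p M) (g : G) :
    IsMaxPLoc p (M.map (MulAut.conj g).toMonoidHom) := by
  refine ⟨isPLoc_conj hM.1 g, ?_⟩
  intro L hL hML
  have h1 : M ≤ L.map (MulAut.conj g⁻¹).toMonoidHom := by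
    intro m hm
    exact ⟨g * m * g⁻¹, hML ⟨m, hm, by simp⟩, by simp [mul_assoc]⟩
  have h2 := hM.2 _ (isPLoc_conj hL g⁻¹) h1
  rw [← h2, map_conj_inv_map_conj]

lemma Op_ne_bot_of_isPLoc {M : Subgroup G} (hM : IsPLoc p M) : Op p M ≠ ⊥ := by
  obtain ⟨T, hT, hTne, rfl⟩ := hM
  intro h
  have : T ≤ Op p (Subgroup.normalizer (T : Set G)) := le_Op Subgroup.le_normalizer hT le_rfl
  rw [h] at this
  exact hTne (le_bot_iff.mp this)

lemma normalizer_Op_eq [Finite G] [Fact p.Prime] {M : Subgroup G} (hM : IsMaxPLoc p M) :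
    Subgroup.normalizer (Op p M : Set G) = M :=
  hM.2 _ ⟨Op p M, Op_isPGroup M, Op_ne_bot_of_isPLoc hM.1, rfl⟩ (le_normalizer_Op p M)

lemma normalizer_eq_self [Finite G] [Fact p.Prime] {M : Subgroup G} (hM : IsMaxPLoc p M) :
    Subgroup.normalizer (M : Set G) = M :=
  le_antisymm ((normalizer_le_normalizer_Op M).trans (normalizer_Op_eq hM).le)
    Subgroup.le_normalizer

lemma normalizer_le_of_max [Finite G] [Fact p.Prime] {M : Subgroup G} (hM : IsMaxPLoc p M)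
    (hc : Subgroup.centralizer (Cfsg.pCore p ↥M : Set ↥M) ≤ Cfsg.pCore p ↥M)
    {A : Subgroup G} (hA : A ≠ ⊥) (hAM : A ≤ M) (hMA : M ≤ Subgroup.normalizer (A : Set G)) :
    Subgroup.normalizer (A : Set G) ≤ M := by
  have hB : Op p A ≠ ⊥ := by
    intro hB
    have h1 : A ⊓ Op p M ≤ Op p A := by
      apply le_Op inf_le_left ((Op_isPGroup M).to_le inf_le_right)
      intro a ha
      apply mem_normalizer_of_conj_mem
      intro x hx
      refine ⟨A.mul_mem (A.mul_mem ha hx.1) (A.inv_mem ha), ?_⟩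
      exact (Subgroup.mem_normalizer_iff.mp (le_normalizer_Op p M (hAM ha)) x).mp hx.2
    rw [hB, le_bot_iff] at h1
    have h2 : A ≤ Op p M := by
      intro a ha
      have haM := hAM ha
      have hmem : (⟨a, haM⟩ : M) ∈ Subgroup.centralizer (Cfsg.pCore p ↥M : Set ↥M) := by
        rw [Subgroup.mem_centralizer_iff]
        intro y hy
        apply Subtype.ext
        show (y : G) * a = a * y
        have hyQ : (y : G) ∈ Op p M := ⟨y, hy, rfl⟩
        have hcomm : a * y * a⁻¹ * (y : G)⁻¹ ∈ A ⊓ Op p M := by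
          constructor
          · have h3 : (y : G) * a⁻¹ * (y : G)⁻¹ ∈ A :=
              (Subgroup.mem_normalizer_iff.mp (hMA y.2) a⁻¹).mp (A.inv_mem ha)
            have e : a * y * a⁻¹ * (y : G)⁻¹ = a * ((y : G) * a⁻¹ * (y : G)⁻¹) := by group
            rw [e]
            exact A.mul_mem ha h3
          · have h3 : a * y * a⁻¹ ∈ Op p M :=
              (Subgroup.mem_normalizer_iff.mp (le_normalizer_Op p M haM) y).mp hyQ
            exact (Op p M).mul_mem h3 ((Op p M).inv_mem hyQ)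
        rw [h1, Subgroup.mem_bot] at hcomm
        have e : (y : G) * a = (a * y * a⁻¹ * (y : G)⁻¹)⁻¹ * (a * y) := by group
        rw [e, hcomm, inv_one, one_mul]
      exact ⟨⟨a, haM⟩, hc hmem, rfl⟩
    apply hA
    rw [← le_bot_iff, ← h1]
    exact le_inf le_rfl h2
  have hNB : Subgroup.normalizer (Op p A : Set G) = M :=
    hM.2 _ ⟨Op p A, Op_isPGroup A, hB, rfl⟩ (hMA.trans (normalizer_le_normalizer_Op A))
  exact (normalizer_le_normalizer_Op A).trans hNB.le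

lemma Op_le_of_isMaxPSub [Finite G] [Fact p.Prime] {T M : Subgroup G} (h : IsMaxPSub p T M) :
    Op p M ≤ T := by
  have h1 : IsPGroup p (T ⊔ Op p M : Subgroup G) :=
    h.2.1.to_sup_of_normal_right' (Op_isPGroup M) (h.1.trans (le_normalizer_Op p M))
  have h2 := h.2.2 _ h1 le_sup_left (sup_le h.1 (Op_le p M))
  rw [← h2]
  exact le_sup_right

lemma exists_of_not_isMaxPSub [Finite G] [Fact p.Prime] {T M : Subgroup G} (hTM : T ≤ M)
    (hT : IsPGroup p T) (h : ¬ IsMaxPSub p T M) :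
    ∃ x ∈ M, x ∈ Subgroup.normalizer (T : Set G) ∧ x ∉ T ∧
      IsPGroup p (T ⊔ Subgroup.zpowers x : Subgroup G) := by
  have : ∃ R : Subgroup G, IsPGroup p R ∧ T ≤ R ∧ R ≤ M ∧ R ≠ T := by
    by_contra hcon
    push Not at hcon
    exact h ⟨hTM, hT, fun R hR hTR hRM => hcon R hR hTR hRM⟩
  obtain ⟨R, hR, hTR, hRM, hRT⟩ := this
  have hlt : T < R := lt_of_le_of_ne hTR (Ne.symm hRT)
  obtain ⟨x, hxR, hxN, hxT⟩ := exists_mem_normalizer_not_mem R T hR hlt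
  refine ⟨x, hRM hxR, hxN, hxT, ?_⟩
  have hz : IsPGroup p (Subgroup.zpowers x) := hR.to_le (Subgroup.zpowers_le.mpr hxR)
  exact hT.to_sup_of_normal_left' hz (Subgroup.zpowers_le.mpr hxN)

lemma step [Finite G] [Fact p.Prime] {M₁ M₂ T : Subgroup G} (hM₁ : IsMaxPLoc p M₁)
    (hT₁ : IsMaxPSub p T M₁) (hTM₂ : T ≤ M₂) (hM₂ : IsMaxPLoc p M₂) (hne : M₁ ≠ M₂) :
    ∃ M₂', IsMaxPLoc p M₂' ∧ M₁ ≠ M₂' ∧ IsMaxPSub p T M₂' := by
  by_cases h : IsMaxPSub p T M₂
  · exact ⟨M₂, hM₂, hne, h⟩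
  · obtain ⟨x, hxM₂, hxN, hxT, hxp⟩ := exists_of_not_isMaxPSub hTM₂ hT₁.2.1 h
    have hTx : T.map (MulAut.conj x).toMonoidHom = T := (map_conj_eq_self_iff T x).mpr hxN
    refine ⟨M₁.map (MulAut.conj x).toMonoidHom, isMaxPLoc_conj hM₁ x, ?_, ?_⟩
    · intro heq
      have hxM : x ∈ M₁ := by
        rw [← normalizer_eq_self hM₁, ← map_conj_eq_self_iff]
        exact heq.symm
      have h2 := hT₁.2.2 _ hxp le_sup_left (sup_le hT₁.1 (Subgroup.zpowers_le.mpr hxM))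
      apply hxT
      rw [← h2]
      exact Subgroup.mem_sup_right (Subgroup.mem_zpowers x)
    · refine ⟨?_, hT₁.2.1, ?_⟩
      · rw [← hTx]
        exact Subgroup.map_mono hT₁.1
      · intro R' hR' hTR' hR'M
        have h3 : T ≤ R'.map (MulAut.conj x⁻¹).toMonoidHom := by
          intro t ht
          refine ⟨x * t * x⁻¹, hTR' ?_, by simp [mul_assoc]⟩
          rw [← hTx]
          exact ⟨t, ht, by simp⟩
        have h4 : R'.map (MulAut.conj x⁻¹).toMonoidHom ≤ M₁ := by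
          rintro _ ⟨r, hr, rfl⟩
          obtain ⟨m, hm, hmr⟩ := hR'M hr
          rw [← hmr]
          simpa [mul_assoc] using hm
        have h5 := hT₁.2.2 _ (hR'.map _) h3 h4
        rw [← map_conj_inv_map_conj R' x, h5, hTx]

lemma final [Finite G] [Fact p.Prime]
    (hc : ∀ M : Subgroup G, IsPLoc p M →
      Subgroup.centralizer (Cfsg.pCore p ↥M : Set ↥M) ≤ Cfsg.pCore p ↥M)
    {M₁ M₂ T : Subgroup G} (hM₁ : IsMaxPLoc p M₁) (hM₂ : IsMaxPLoc p M₂)
    (hT₁ : IsMaxPSub p T M₁) (hT₂ : IsMaxPSub p T M₂) :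
    (∀ A : Subgroup G, A ≠ ⊥ → A ≤ M₁ ⊓ M₂ → (M₁ ≤ Subgroup.normalizer (A : Set G) → M₂ ⊓ Subgroup.normalizer (A : Set G) = M₁ ⊓ M₂) ∧ (M₂ ≤ Subgroup.normalizer (A : Set G) → M₁ ⊓ Subgroup.normalizer (A : Set G) = M₁ ⊓ M₂)) ∧ Subgroup.centralizer (Cfsg.pCore p ↥M₁ : Set ↥M₁) ≤ Cfsg.pCore p ↥M₁ ∧ Subgroup.centralizer (Cfsg.pCore p ↥M₂ : Set ↥M₂) ≤ Cfsg.pCore p ↥M₂ ∧ (Cfsg.pCore p ↥M₁).map M₁.subtype ⊔ (Cfsg.pCore p ↥M₂).map M₂.subtype ≤ M₁ ⊓ M₂ := by
  refine ⟨?_, hc M₁ hM₁.1, hc M₂ hM₂.1, ?_⟩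
  · intro A hA hAM
    constructor
    · intro hMA
      have h1 := normalizer_le_of_max hM₁ (hc M₁ hM₁.1) hA (hAM.trans inf_le_left) hMA
      rw [le_antisymm h1 hMA, inf_comm]
    · intro hMA
      have h1 := normalizer_le_of_max hM₂ (hc M₂ hM₂.1) hA (hAM.trans inf_le_right) hMA
      rw [le_antisymm h1 hMA]
  · apply sup_le
    · exact (Op_le_of_isMaxPSub hT₁).trans (le_inf hT₁.1 hT₂.1)
    · exact (Op_le_of_isMaxPSub hT₂).trans (le_inf hT₁.1 hT₂.1)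

/-- Two distinct subgroups M₁, M₂ of G form a primitive pair when, for {i, j} = {1, 2}, every non-trivial normal subgroup A of M_i contained in M₁ ∩ M₂ satisfies N_{M_j}(A) = M₁ ∩ M₂; the pair has characteristic p when moreover C_{M_i}(O_p(M_i)) ≤ O_p(M_i) for both i and O_p(M₁)O_p(M₂) ≤ M₁ ∩ M₂. Let G be a finite group, p a prime dividing its order, with O_p(G) = 1 and every p-local subgroup of characteristic p. Then either G has a primitive pair of characteristic p, or every maximal p-local subgroup M of G is strongly p-embedded in G: M is a proper subgroup, p divides its order, and for every g ∉ M the order of M ∩ gMg⁻¹ is prime to p. -/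
theorem result {G : Type*} [Group G] [Finite G] {p : ℕ} [Fact p.Prime] (hloc : Cfsg.IsOfLocalCharacteristic p G) (hOp : Cfsg.pCore p G = ⊥) : (∃ M₁ M₂ : Subgroup G, M₁ ≠ M₂ ∧ (∀ A : Subgroup G, A ≠ ⊥ → A ≤ M₁ ⊓ M₂ → (M₁ ≤ Subgroup.normalizer (A : Set G) → M₂ ⊓ Subgroup.normalizer (A : Set G) = M₁ ⊓ M₂) ∧ (M₂ ≤ Subgroup.normalizer (A : Set G) → M₁ ⊓ Subgroup.normalizer (A : Set G) = M₁ ⊓ M₂)) ∧ Subgroup.centralizer (Cfsg.pCore p ↥M₁ : Set ↥M₁) ≤ Cfsg.pCore p ↥M₁ ∧ Subgroup.centralizer (Cfsg.pCore p ↥M₂ : Set ↥M₂) ≤ Cfsg.pCore p ↥M₂ ∧ (Cfsg.pCore p ↥M₁).map M₁.subtype ⊔ (Cfsg.pCore p ↥M₂).map M₂.subtype ≤ M₁ ⊓ M₂) ∨ (∀ M : Subgroup G, (∃ T : Subgroup G, IsPGroup p T ∧ T ≠ ⊥ ∧ M = Subgroup.normalizer (T : Set G)) → (∀ L : Subgroup G, (∃ T : Subgroup G, IsPGroup p T ∧ T ≠ ⊥ ∧ L = Subgroup.normalizer (T : Set G)) → M ≤ L → L = M) → M ≠ ⊤ ∧ p ∣ Nat.card M ∧ ∀ g : G, g ∉ M → ¬ p ∣ Nat.card ↥(M ⊓ M.map (MulAut.conj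 g).toMonoidHom)) := by
  obtain ⟨hpG, hloc'⟩ := hloc
  have hc : ∀ M : Subgroup G, IsPLoc p M →
      Subgroup.centralizer (Cfsg.pCore p ↥M : Set ↥M) ≤ Cfsg.pCore p ↥M := by
    rintro M ⟨T, hT, hTne, rfl⟩
    exact hloc' T hT hTne
  by_contra hcon
  rw [not_or] at hcon
  obtain ⟨hno, hnot2⟩ := hcon
  apply hnot2
  intro M hMloc hMmax
  have hM : IsMaxPLoc p M := ⟨hMloc, hMmax⟩
  obtain ⟨T₀, hT₀, hT₀ne, hMT₀⟩ := hMloc
  have hT₀M : T₀ ≤ M := by rw [hMT₀]; exact Subgroup.le_normalizer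
  refine ⟨?_, ?_, ?_⟩
  · intro htop
    have hn : T₀.Normal := by
      rw [← Subgroup.normalizer_eq_top_iff, ← hMT₀, htop]
    have := le_pCore T₀ hn hT₀
    rw [hOp] at this
    exact hT₀ne (le_bot_iff.mp this)
  · have h1 : Nat.card T₀ ∣ Nat.card M := Subgroup.card_dvd_of_le hT₀M
    obtain ⟨k, hk⟩ := IsPGroup.iff_card.mp hT₀
    have hk0 : k ≠ 0 := by
      rintro rfl
      rw [pow_zero] at hk
      exact hT₀ne (Subgroup.card_eq_one.mp hk)
    refine dvd_trans ?_ h1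
    rw [hk]
    exact dvd_pow_self p hk0
  · intro g hg hdvd
    apply hno
    -- a nontrivial p-subgroup in `M ⊓ M^g`
    obtain ⟨x, hx⟩ := exists_prime_orderOf_dvd_card' p hdvd
    have hxo : orderOf (x : G) = p ^ 1 := by rw [Subgroup.orderOf_coe, hx, pow_one]
    have hT₁p : IsPGroup p (Subgroup.zpowers (x : G)) := isPGroup_zpowers_of_orderOf _ 1 hxo
    have hMg : IsMaxPLoc p (M.map (MulAut.conj g).toMonoidHom) := isMaxPLoc_conj hM g
    have hMne : M ≠ M.map (MulAut.conj g).toMonoidHom := by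
      intro heq
      apply hg
      rw [← normalizer_eq_self hM, ← map_conj_eq_self_iff]
      exact heq.symm
    -- choose T of maximal order
    obtain ⟨T, ⟨hTp, M₁, M₂, hM₁, hM₂, hne, hTle⟩, hmax⟩ := Set.exists_max_image
      {T : Subgroup G | IsPGroup p T ∧ ∃ M₁ M₂ : Subgroup G, IsMaxPLoc p M₁ ∧ IsMaxPLoc p M₂ ∧
        M₁ ≠ M₂ ∧ T ≤ M₁ ⊓ M₂} (fun K => Nat.card K) (Set.toFinite _)
      ⟨Subgroup.zpowers (x : G), hT₁p, M, _, hM, hMg, hMne, Subgroup.zpowers_le.mpr x.2⟩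
    have hTne : T ≠ ⊥ := by
      intro hT
      have h1 := hmax (Subgroup.zpowers (x : G))
        ⟨hT₁p, M, _, hM, hMg, hMne, Subgroup.zpowers_le.mpr x.2⟩
      rw [Nat.card_zpowers, hxo, pow_one, hT, Subgroup.card_bot] at h1
      exact absurd h1 (not_le.mpr (Fact.out : p.Prime).one_lt)
    have hTM₁ : T ≤ M₁ := hTle.trans inf_le_left
    have hTM₂ : T ≤ M₂ := hTle.trans inf_le_right
    -- T is a maximal p-subgroup of M₁ or of M₂
    have hA : IsMaxPSub p T M₁ ∨ IsMaxPSub p T M₂ := by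
      by_contra hcon
      rw [not_or] at hcon
      obtain ⟨h1, h2⟩ := hcon
      obtain ⟨L, hL, hNL⟩ := exists_max (p := p) (L := Subgroup.normalizer (T : Set G))
        ⟨T, hTp, hTne, rfl⟩
      have key : ∀ M' : Subgroup G, IsMaxPLoc p M' → T ≤ M' → ¬ IsMaxPSub p T M' → L = M' := by
        intro M' hM' hTM' hnot
        by_contra hLM
        obtain ⟨y, hyM, hyN, hyT, hyp⟩ := exists_of_not_isMaxPSub hTM' hTp hnot
        have hle : T ⊔ Subgroup.zpowers y ≤ L ⊓ M' := by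
          apply sup_le
          · exact le_inf (Subgroup.le_normalizer.trans hNL) hTM'
          · exact le_inf ((Subgroup.zpowers_le.mpr hyN).trans hNL) (Subgroup.zpowers_le.mpr hyM)
        have h3 := hmax (T ⊔ Subgroup.zpowers y) ⟨hyp, L, M', hL, hM', hLM, hle⟩
        have h4 := Subgroup.eq_of_le_of_card_ge (le_sup_left : T ≤ T ⊔ Subgroup.zpowers y) h3
        apply hyT
        rw [h4]
        exact Subgroup.mem_sup_right (Subgroup.mem_zpowers y)
      exact hne ((key M₁ hM₁ hTM₁ h1).symm.trans (key M₂ hM₂ hTM₂ h2))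
    rcases hA with hA | hA
    · obtain ⟨M₂', hM₂', hne', hT₂'⟩ := step hM₁ hA hTM₂ hM₂ hne
      exact ⟨M₁, M₂', hne', final hc hM₁ hM₂' hA hT₂'⟩
    · obtain ⟨M₁', hM₁', hne', hT₁'⟩ := step hM₂ hA hTM₁ hM₁ hne.symm
      exact ⟨M₂, M₁', hne', final hc hM₂ hM₁' hA hT₁'⟩

end Cfsg.Agent.S3751
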