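import Mathlib
import Cfsg.Statements.S3752
import Cfsg.Agent.Lib.Helper3.Bender6
import Cfsg.Agent.S1312

set_option autoImplicit false
set_option linter.style.haveILetI false
open Cfsg
open Cfsg.Agent.Lib.Helper3
open scoped commutatorElement

namespace Cfsg.Agent.S3752

/-- Bender's Theorem on primitive pairs. Two distinct subgroups M₁, M₂ of G form a primitive pair when, for {i, j} = {1, 2}, every non-trivial normal subgroup A of M_i contained in M₁ ∩ M₂ satisfies N_{M_j}(A) = M₁ ∩ M₂; the pair has characteristic p when moreover C_{M_i}(O_p(M_i)) ≤ O_p(M_i) for both i and O_p(M₁)O_p(M₂) ≤ M₁ ∩ M₂. If (M₁, M₂) is a primitive pair of the finite group G with F*(M₁) ≤ M₂ and F*(M₂) ≤ M₁, then for some prime p the pair has characteristic p. -/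
theorem result {G : Type*} [Group G] [Finite G] (M₁ M₂ : Subgroup G) (hne : M₁ ≠ M₂) (hP : ∀ A : Subgroup G, A ≠ ⊥ → A ≤ M₁ ⊓ M₂ → (M₁ ≤ Subgroup.normalizer (A : Set G) → M₂ ⊓ Subgroup.normalizer (A : Set G) = M₁ ⊓ M₂) ∧ (M₂ ≤ Subgroup.normalizer (A : Set G) → M₁ ⊓ Subgroup.normalizer (A : Set G) = M₁ ⊓ M₂)) (h₁ : (Cfsg.generalizedFittingSubgroup ↥M₁).map M₁.subtype ≤ M₂) (h₂ : (Cfsg.generalizedFittingSubgroup ↥M₂).map M₂.subtype ≤ M₁) : ∃ p : ℕ, p.Prime ∧ Subgroup.centralizer (Cfsg.pCore p ↥M₁ : Set ↥M₁) ≤ Cfsg.pCore p ↥M₁ ∧ Subgroup.centralizer (Cfsg.pCore p ↥M₂ : Set ↥M₂) ≤ Cfsg.pCore p ↥M₂ ∧ (Cfsg.pCore p ↥M₁).map M₁.subtype ⊔ (Cfsg.pCore p ↥M₂).map M₂.subtype ≤ M₁ ⊓ M₂ := by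
  have hnormMap : ∀ (M : Subgroup G) (V' : Subgroup ↥M), V'.Normal →
      M ≤ Subgroup.normalizer ((V'.map M.subtype : Subgroup G) : Set G) := by
    intro M V' hn
    have h := Subgroup.le_normalizer_map (H := V') M.subtype
    rw [Subgroup.normalizer_eq_top_iff.mpr hn, ← MonoidHom.range_eq_map,
      Subgroup.range_subtype] at h
    exact h
  have prim12 : ∀ V' : Subgroup ↥M₁, V'.Normal → V' ≠ ⊥ → V'.map M₁.subtype ≤ M₂ →
      M₂ ⊓ Subgroup.normalizer ((V'.map M₁.subtype : Subgroup G) : Set G) ≤ M₁ := by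
    intro V' hn hne' hle
    have hAne : V'.map M₁.subtype ≠ ⊥ := fun h =>
      hne' ((Subgroup.map_eq_bot_iff_of_injective _ (Subgroup.subtype_injective M₁)).mp h)
    have := (hP _ hAne (le_inf (Subgroup.map_subtype_le _) hle)).1 (hnormMap M₁ V' hn)
    rw [this]; exact inf_le_left
  have prim21 : ∀ V' : Subgroup ↥M₂, V'.Normal → V' ≠ ⊥ → V'.map M₂.subtype ≤ M₁ →
      M₁ ⊓ Subgroup.normalizer ((V'.map M₂.subtype : Subgroup G) : Set G) ≤ M₂ := by
    intro V' hn hne' hle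
    have hAne : V'.map M₂.subtype ≠ ⊥ := fun h =>
      hne' ((Subgroup.map_eq_bot_iff_of_injective _ (Subgroup.subtype_injective M₂)).mp h)
    have := (hP _ hAne (le_inf hle (Subgroup.map_subtype_le _))).2 (hnormMap M₂ V' hn)
    rw [this]; exact inf_le_right
  have r1 := benderRel_of_le_gen h₁ prim12
  have r2 := benderRel_of_le_gen h₂ prim21
  have hfin : ∀ p : ℕ, p.Prime → IsPGroup p ↥(Cfsg.generalizedFittingSubgroup ↥M₁) →
      IsPGroup p ↥(Cfsg.generalizedFittingSubgroup ↥M₂) →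
      ∃ p : ℕ, p.Prime ∧ Subgroup.centralizer (Cfsg.pCore p ↥M₁ : Set ↥M₁) ≤ Cfsg.pCore p ↥M₁ ∧
        Subgroup.centralizer (Cfsg.pCore p ↥M₂ : Set ↥M₂) ≤ Cfsg.pCore p ↥M₂ ∧
        (Cfsg.pCore p ↥M₁).map M₁.subtype ⊔ (Cfsg.pCore p ↥M₂).map M₂.subtype ≤ M₁ ⊓ M₂ := by
    intro p hp hp1 hp2
    haveI : Fact p.Prime := ⟨hp⟩
    refine ⟨p, hp, char_p_of_genFit_pgroup p hp1, char_p_of_genFit_pgroup p hp2, ?_⟩
    have hPW1 : Cfsg.pCore p ↥M₁ ≤ Cfsg.generalizedFittingSubgroup ↥M₁ := by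
      have hTF : Cfsg.pCore p ↥M₁ ≤ Cfsg.fittingSubgroup ↥M₁ := by
        rw [Cfsg.Agent.Lib.Helper1.fitting_eq_pCoreSup]
        exact Cfsg.Agent.Lib.Helper1.pCore_le_pCoreSup hp
      exact hTF.trans le_sup_right
    have hPW2 : Cfsg.pCore p ↥M₂ ≤ Cfsg.generalizedFittingSubgroup ↥M₂ := by
      have hTF : Cfsg.pCore p ↥M₂ ≤ Cfsg.fittingSubgroup ↥M₂ := by
        rw [Cfsg.Agent.Lib.Helper1.fitting_eq_pCoreSup]
        exact Cfsg.Agent.Lib.Helper1.pCore_le_pCoreSup hp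
      exact hTF.trans le_sup_right
    apply sup_le
    · exact le_inf (Subgroup.map_subtype_le _) ((Subgroup.map_mono hPW1).trans h₁)
    · exact le_inf ((Subgroup.map_mono hPW2).trans h₂) (Subgroup.map_subtype_le _)
  by_cases hπM : ∃ p : ℕ, p.Prime ∧ p ∣ Nat.card ↥(Cfsg.fittingSubgroup ↥M₁)
  · obtain ⟨p, hp, a, b⟩ := bender_symmetric_prim hne hP h₁ h₂ r1 r2 hπM
    exact hfin p hp a b
  · by_cases hπN : ∃ p : ℕ, p.Prime ∧ p ∣ Nat.card ↥(Cfsg.fittingSubgroup ↥M₂)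
    · have hP' : ∀ A : Subgroup G, A ≠ ⊥ → A ≤ M₂ ⊓ M₁ →
          (M₂ ≤ Subgroup.normalizer (A : Set G) →
            M₁ ⊓ Subgroup.normalizer (A : Set G) = M₂ ⊓ M₁) ∧
          (M₁ ≤ Subgroup.normalizer (A : Set G) →
            M₂ ⊓ Subgroup.normalizer (A : Set G) = M₂ ⊓ M₁) := by
        intro A hA hle
        obtain ⟨e1, e2⟩ := hP A hA (by rw [inf_comm]; exact hle)
        exact ⟨fun h => by rw [inf_comm M₂ M₁]; exact e2 h,
          fun h => by rw [inf_comm M₂ M₁]; exact e1 h⟩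
      obtain ⟨p, hp, a, b⟩ := bender_symmetric_prim (Ne.symm hne) hP' h₂ h₁ r2 r1 hπN
      exact hfin p hp b a
    · exfalso
      have hFM : Cfsg.fittingSubgroup ↥M₁ = ⊥ := by
        rw [← Subgroup.card_eq_one]
        by_contra hc
        obtain ⟨r, hr, hrd⟩ := Nat.exists_prime_and_dvd hc
        exact hπM ⟨r, hr, hrd⟩
      have hFN : Cfsg.fittingSubgroup ↥M₂ = ⊥ := by
        rw [← Subgroup.card_eq_one]
        by_contra hc
        obtain ⟨r, hr, hrd⟩ := Nat.exists_prime_and_dvd hc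
        exact hπN ⟨r, hr, hrd⟩
      have hWM : Cfsg.generalizedFittingSubgroup ↥M₁ = Cfsg.layer ↥M₁ := by
        show Cfsg.layer ↥M₁ ⊔ Cfsg.fittingSubgroup ↥M₁ = Cfsg.layer ↥M₁
        rw [hFM, sup_bot_eq]
      have hWN : Cfsg.generalizedFittingSubgroup ↥M₂ = Cfsg.layer ↥M₂ := by
        show Cfsg.layer ↥M₂ ⊔ Cfsg.fittingSubgroup ↥M₂ = Cfsg.layer ↥M₂
        rw [hFN, sup_bot_eq]
      have e1 := Cfsg.Agent.S1312.layer_map_le_genFit h₁ h₂
      have e2 := Cfsg.Agent.S1312.layer_map_le_genFit h₂ h₁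
      rw [hWN] at e1
      rw [hWM] at e2
      have heq : (Cfsg.layer ↥M₁).map M₁.subtype = (Cfsg.layer ↥M₂).map M₂.subtype :=
        le_antisymm e1 e2
      haveI hEMn : (Cfsg.layer ↥M₁).Normal := layer_normal
      haveI hENn : (Cfsg.layer ↥M₂).Normal := layer_normal
      by_cases hEM : Cfsg.layer ↥M₁ = ⊥
      · have hEN : Cfsg.layer ↥M₂ = ⊥ := by
          rw [hEM, Subgroup.map_bot] at heq
          exact (Subgroup.map_eq_bot_iff_of_injective _
            (Subgroup.subtype_injective M₂)).mp heq.symm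
        have hM0 : M₁ = ⊥ := Cfsg.Agent.S1312.eq_bot_of_genFit_eq_bot (hWM.trans hEM)
        have hN0 : M₂ = ⊥ := Cfsg.Agent.S1312.eq_bot_of_genFit_eq_bot (hWN.trans hEN)
        exact hne (hM0.trans hN0.symm)
      · have hAne : (Cfsg.layer ↥M₁).map M₁.subtype ≠ ⊥ := fun h =>
          hEM ((Subgroup.map_eq_bot_iff_of_injective _ (Subgroup.subtype_injective M₁)).mp h)
        have hA1 : (Cfsg.layer ↥M₁).map M₁.subtype ≤ M₁ := Subgroup.map_subtype_le _
        have hA2 : (Cfsg.layer ↥M₁).map M₁.subtype ≤ M₂ := by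
          rw [heq]; exact Subgroup.map_subtype_le _
        have hn1 := hnormMap M₁ _ hEMn
        have hn2 : M₂ ≤ Subgroup.normalizer
            (((Cfsg.layer ↥M₁).map M₁.subtype : Subgroup G) : Set G) := by
          rw [heq]; exact hnormMap M₂ _ hENn
        obtain ⟨f1, f2⟩ := hP _ hAne (le_inf hA1 hA2)
        have f1' := f1 hn1
        have f2' := f2 hn2
        rw [inf_eq_left.mpr hn2] at f1'
        rw [inf_eq_left.mpr hn1] at f2'
        exact hne (f2'.trans f1'.symm)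

end Cfsg.Agent.S3752
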