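import Mathlib
import Cfsg.Statements.S3755
import Cfsg.Agent.Lib.Helper3.FF9
import Cfsg.Agent.S0250

set_option autoImplicit false
set_option linter.style.haveILetI false
open Cfsg
open Cfsg.Agent.Lib.Helper3
open scoped commutatorElement

namespace Cfsg.Agent.S3755

/-- Let M and V be subgroups of a finite group with V an elementary abelian 2-group, M normalizing V and acting faithfully on it (M ∩ C(V) = 1), and C_M(O_{2'}(M)) ≤ O_{2'}(M). If some elementary abelian 2-subgroup A of M satisfies |V : C_V(A)| < |A|², then M has a section isomorphic to the symmetric group of degree 3. -/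
theorem result {X : Type*} [Group X] [Finite X] (M V : Subgroup X) (hV : Cfsg.IsElementaryAbelian 2 V) (hMV : M ≤ Subgroup.normalizer (V : Set X)) (hfaith : M ⊓ Subgroup.centralizer (V : Set X) = ⊥) (hcon : Subgroup.centralizer (Cfsg.pPrimeCore 2 ↥M : Set ↥M) ≤ Cfsg.pPrimeCore 2 ↥M) (A : Subgroup X) (hAM : A ≤ M) (hA : Cfsg.IsElementaryAbelian 2 A) (hsmall : (V ⊓ Subgroup.centralizer (A : Set X)).relIndex V < Nat.card A ^ 2) : Cfsg.Involves (Equiv.Perm (Fin 3)) ↥M := by
  haveI : Fact (Nat.Prime 2) := ⟨Nat.prime_two⟩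
  have s : FFSetup 2 V M := ⟨hV, hMV, hfaith, hcon⟩
  obtain ⟨E, hEM, ⟨φ⟩⟩ := small_offender_sl2 s (Nat.card ↥A) A rfl hAM hA hsmall
  obtain ⟨ψ⟩ := Cfsg.Agent.S0250.result (F := ZMod 2) (ZMod.card 2)
  have hbot : ((⊥ : Subgroup ↥M).subgroupOf (E.subgroupOf M)) = ⊥ := Subgroup.bot_subgroupOf _
  have hnorm : ((⊥ : Subgroup ↥M).subgroupOf (E.subgroupOf M)).Normal := by
    rw [hbot]; infer_instance
  refine ⟨E.subgroupOf M, ⊥, hnorm, ⟨?_⟩⟩
  exact ((QuotientGroup.quotientMulEquivOfEq hbot).trans QuotientGroup.quotientBot).trans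
    (((Subgroup.subgroupOfEquivOfLe hEM).trans φ).trans ψ)

end Cfsg.Agent.S3755
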