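import Cfsg.Statements.S3760
import Cfsg.Agent.Lib.Helper7.Conj

set_option autoImplicit false
open Cfsg

namespace Cfsg.Agent.S3760

open Cfsg.Agent.Lib.Helper7

theorem map_conj_inv_cancel {G : Type*} [Group G] (K : Subgroup G) (g : G) :
    (K.map (MulAut.conj g).toMonoidHom).map (MulAut.conj g⁻¹).toMonoidHom = K := by
  rw [← map_conj_mul, inv_mul_cancel, map_conj_one]

theorem result {G : Type*} [Group G] {X : Type*} [MulAction G X] (htrans : ∀ a b : X, ∃ g : G, g • a = b) (x : X) (K : Subgroup G) (hK : K ≤ MulAction.stabilizer G x) : (∀ a b : X, (∀ k ∈ K, k • a = a) → (∀ k ∈ K, k • b = b) → ∃ g ∈ Subgroup.normalizer (K : Set G), g • a = b) ↔ ∀ g : G, K.map (MulAut.conj g).toMonoidHom ≤ MulAction.stabilizer G x → ∃ h ∈ MulAction.stabilizer G x, K.map (MulAut.conj g).toMonoidHom = K.map (MulAut.conj h).toMonoidHom := by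
  constructor
  · intro h g hg
    -- K fixes g⁻¹ • x
    have hfix1 : ∀ k ∈ K, k • (g⁻¹ • x) = g⁻¹ • x := by
      intro k hk
      have h1 : g * k * g⁻¹ ∈ MulAction.stabilizer G x := by
        apply hg
        rw [mem_map_conj]
        simpa [mul_assoc] using hk
      rw [MulAction.mem_stabilizer_iff] at h1
      calc k • (g⁻¹ • x) = g⁻¹ • ((g * k * g⁻¹) • x) := by simp [mul_smul]
        _ = g⁻¹ • x := by rw [h1]
    have hfix2 : ∀ k ∈ K, k • x = x := fun k hk => MulAction.mem_stabilizer_iff.1 (hK hk)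
    obtain ⟨n, hn, hnx⟩ := h (g⁻¹ • x) x hfix1 hfix2
    refine ⟨g * n⁻¹, ?_, ?_⟩
    · rw [MulAction.mem_stabilizer_iff]
      have : (n * g⁻¹) • x = x := by rw [mul_smul]; exact hnx
      calc (g * n⁻¹) • x = (g * n⁻¹) • ((n * g⁻¹) • x) := by rw [this]
        _ = x := by rw [← mul_smul]; simp
    · rw [map_conj_mul]
      congr 1
      symm
      rw [map_conj_eq_self_iff]
      exact Subgroup.inv_mem _ hn
  · intro h a b ha hb
    obtain ⟨s, hs⟩ := htrans x a
    obtain ⟨t, ht⟩ := htrans x b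
    -- for any point c = s • x fixed by K, get element of N(K) of the form s * h
    have key : ∀ (c : X) (s : G), s • x = c → (∀ k ∈ K, k • c = c) →
        ∃ u ∈ MulAction.stabilizer G x, s * u ∈ Subgroup.normalizer (K : Set G) := by
      intro c s hs hc
      have hle : K.map (MulAut.conj s⁻¹).toMonoidHom ≤ MulAction.stabilizer G x := by
        intro y hy
        rw [mem_map_conj, inv_inv] at hy
        rw [MulAction.mem_stabilizer_iff]
        have h1 := hc _ hy
        rw [← hs] at h1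
        calc y • x = s⁻¹ • ((s * y * s⁻¹) • (s • x)) := by simp [mul_smul]
          _ = x := by rw [h1]; simp
      obtain ⟨u, hu, hue⟩ := h s⁻¹ hle
      refine ⟨u, hu, ?_⟩
      rw [← map_conj_eq_self_iff, map_conj_mul, ← hue]
      have := map_conj_inv_cancel K s⁻¹
      rwa [inv_inv] at this
    obtain ⟨u, hu, hsu⟩ := key a s hs ha
    obtain ⟨v, hv, htv⟩ := key b t ht hb
    refine ⟨(t * v) * (s * u)⁻¹, Subgroup.mul_mem _ htv (Subgroup.inv_mem _ hsu), ?_⟩
    rw [MulAction.mem_stabilizer_iff] at hu hv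
    have hu' : u⁻¹ • x = x := by
      calc u⁻¹ • x = u⁻¹ • (u • x) := by rw [hu]
        _ = x := by simp
    calc ((t * v) * (s * u)⁻¹) • a = (t * v) • (u⁻¹ • (s⁻¹ • a)) := by simp [mul_smul]
      _ = (t * v) • (u⁻¹ • x) := by rw [← hs]; simp
      _ = t • (v • x) := by rw [hu', mul_smul]
      _ = b := by rw [hv, ht]

end Cfsg.Agent.S3760
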