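import Cfsg.Statements.S3761
import Mathlib
import Cfsg.Agent.Lib.Helper6.MaxClass2c
import Cfsg.Agent.Lib.Helper6.TwoCyc2

set_option autoImplicit false
open Cfsg Cfsg.Agent.Lib.Helper6

namespace Cfsg.Agent.S3761

/-- odd-prime lifting: `k^p ≡ 1 mod p^n` forces `k ≡ 1 mod p^(n-1)` -/
theorem nt_odd (p : ℕ) [hp : Fact p.Prime] (hp2 : p ≠ 2) (n k : ℕ) (hn : 1 ≤ n)
    (h : k ^ p ≡ 1 [MOD p ^ n]) : k ≡ 1 [MOD p ^ (n - 1)] := by
  have hodd : Odd p := hp.out.odd_of_ne_two hp2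
  have hd : ((p ^ n : ℕ) : ℤ) ∣ (k : ℤ) ^ p - 1 := by
    have := (Nat.modEq_iff_dvd.1 h.symm)
    simpa using this
  have hd1 : (p : ℤ) ∣ (k : ℤ) ^ p - 1 := by
    refine Dvd.dvd.trans ?_ hd
    push_cast
    exact dvd_pow_self _ (by omega)
  have hk1 : (p : ℤ) ∣ (k : ℤ) - 1 := by
    have h1 : (((k : ℤ) ^ p - 1 : ℤ) : ZMod p) = 0 := (ZMod.intCast_zmod_eq_zero_iff_dvd _ p).2 hd1
    rw [← ZMod.intCast_zmod_eq_zero_iff_dvd]
    push_cast at h1 ⊢
    rwa [ZMod.pow_card] at h1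
  have hkn : ¬ (p : ℤ) ∣ (k : ℤ) := by
    intro hk
    have h2 : (p : ℤ) ∣ (k : ℤ) ^ p := dvd_pow hk hp.out.ne_zero
    have h3 : (p : ℤ) ∣ 1 := by
      have := dvd_sub h2 hd1
      simpa using this
    have := Int.natAbs_dvd_natAbs.2 h3
    simp at this
    exact hp.out.one_lt.ne' this
  have hlte := Int.emultiplicity_pow_sub_pow hp.out hodd (x := (k : ℤ)) (y := 1)
    (by simpa using hk1) hkn p
  rw [one_pow] at hlte
  have he : emultiplicity p p = 1 := by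
    rw [hp.out.emultiplicity_self]
  rw [he] at hlte
  have h5 : ((n : ℕ) : ℕ∞) ≤ emultiplicity (p : ℤ) ((k : ℤ) ^ p - 1) := by
    rw [← pow_dvd_iff_le_emultiplicity]
    exact_mod_cast hd
  rw [hlte] at h5
  have h6 : (((n - 1 : ℕ)) : ℕ∞) ≤ emultiplicity (p : ℤ) ((k : ℤ) - 1) := by
    cases hcase : emultiplicity (p : ℤ) ((k : ℤ) - 1) with
    | top => exact le_top
    | coe e =>
      rw [hcase] at h5
      have : (n : ℕ∞) ≤ ((e + 1 : ℕ) : ℕ∞) := by exact_mod_cast h5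
      have h7 : n ≤ e + 1 := by exact_mod_cast this
      have : n - 1 ≤ e := by omega
      exact_mod_cast this
  rw [← pow_dvd_iff_le_emultiplicity] at h6
  have h8 : ((p ^ (n - 1) : ℕ) : ℤ) ∣ ((1 : ℕ) : ℤ) - (k : ℤ) := by
    have := (dvd_neg (α := ℤ)).2 h6
    rw [neg_sub] at this
    exact_mod_cast this
  exact Nat.modEq_iff_dvd.2 h8


theorem nt_even (n k : ℕ) (hn : 1 ≤ n) (h : k ^ 2 ≡ 1 [MOD 2 ^ n]) :
    k ≡ 1 [MOD 2 ^ (n - 1)] ∨ k + 1 ≡ 0 [MOD 2 ^ (n - 1)] := by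
  obtain ⟨q, hq⟩ : ∃ q, q = 2 ^ (n - 1) := ⟨_, rfl⟩
  have h2q : 2 ^ n = 2 * q := by
    rw [hq, ← pow_succ']; congr 1; omega
  have hqpos : 0 < q := by rw [hq]; positivity
  rw [← hq]
  rw [h2q] at h
  have hu : k % (2 * q) < 2 * q := Nat.mod_lt _ (by omega)
  have hku : k % (2 * q) ≡ k [MOD 2 * q] := Nat.mod_modEq _ _
  have hu2 : (k % (2 * q)) * (k % (2 * q)) ≡ 1 [MOD 2 * q] := by
    have h3 := hku.mul hku
    rw [← pow_two k] at h3
    exact h3.trans h
  have hkq : k ≡ k % (2 * q) [MOD q] := (hku.of_dvd (Dvd.intro_left 2 rfl)).symm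
  rcases nt_two (n - 1) q _ hq hu hu2 with h1 | h1 | h1 | h1
  · left; rw [h1] at hkq; exact hkq
  · right
    rw [h1] at hkq
    have : k + 1 ≡ (2 * q - 1) + 1 [MOD q] := hkq.add_right 1
    have e : 2 * q - 1 + 1 = 2 * q := by omega
    rw [e] at this
    exact this.trans ((Nat.modEq_zero_iff_dvd).2 (Dvd.intro_left 2 rfl))
  · left
    rw [h1] at hkq
    refine hkq.trans ?_
    have : q + 1 ≡ 0 + 1 [MOD q] := ((Nat.modEq_zero_iff_dvd).2 dvd_rfl).add_right 1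
    rw [zero_add] at this
    exact this
  · right
    rw [h1] at hkq
    have : k + 1 ≡ (q - 1) + 1 [MOD q] := hkq.add_right 1
    have e : q - 1 + 1 = q := by omega
    rw [e] at this
    exact this.trans ((Nat.modEq_zero_iff_dvd).2 dvd_rfl)

section basic
variable {G : Type*} [Group G]

theorem conj_pow_of {g u : G} {k : ℕ} (h : g * u * g⁻¹ = u ^ k) (i : ℕ) :
    g * u ^ i * g⁻¹ = u ^ (k * i) := by
  rw [← conj_pow, h, pow_mul]

theorem conj_mul_of {g h u : G} {k l : ℕ} (hg : g * u * g⁻¹ = u ^ k) (hh : h * u * h⁻¹ = u ^ l) :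
    (g * h) * u * (g * h)⁻¹ = u ^ (k * l) := by
  have : (g * h) * u * (g * h)⁻¹ = g * (h * u * h⁻¹) * g⁻¹ := by group
  rw [this, hh, conj_pow_of hg]

theorem conj_npow_of {g u : G} {k : ℕ} (h : g * u * g⁻¹ = u ^ k) (m : ℕ) :
    g ^ m * u * (g ^ m)⁻¹ = u ^ (k ^ m) := by
  induction m with
  | zero => simp
  | succ m ih =>
    rw [pow_succ, conj_mul_of ih h, pow_succ]

theorem exists_conj_pow [Finite G] (U : Subgroup G) [U.Normal] (u : G)
    (hu : U = Subgroup.zpowers u) (g : G) : ∃ k : ℕ, g * u * g⁻¹ = u ^ k := by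
  have h1 : g * u * g⁻¹ ∈ U := by
    apply Subgroup.Normal.conj_mem inferInstance
    rw [hu]; exact Subgroup.mem_zpowers u
  rw [hu, ← mem_powers_iff_mem_zpowers] at h1
  obtain ⟨k, hk⟩ := h1
  exact ⟨k, hk.symm⟩

theorem mem_centralizer_zpowers_iff (x g : G) :
    g ∈ Subgroup.centralizer ((Subgroup.zpowers x : Subgroup G) : Set G) ↔ g * x * g⁻¹ = x := by
  rw [Subgroup.mem_centralizer_iff]
  constructor
  · intro h
    have := h x (Subgroup.mem_zpowers x)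
    rw [← this]; group
  · intro h y hy
    obtain ⟨i, rfl⟩ := Subgroup.mem_zpowers_iff.1 hy
    have hc : Commute g x := by
      show g * x = x * g
      calc g * x = (g * x * g⁻¹) * g := by group
        _ = x * g := by rw [h]
    exact (hc.zpow_right i).eq.symm

theorem powerClosure_eq (p : ℕ) (U : Subgroup G) (u : G) (hu : U = Subgroup.zpowers u) :
    Cfsg.powerClosure p 1 U = Subgroup.zpowers (u ^ p) := by
  unfold Cfsg.powerClosure
  apply le_antisymm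
  · rw [Subgroup.closure_le]
    rintro y ⟨x, hx, rfl⟩
    rw [hu] at hx
    obtain ⟨i, rfl⟩ := Subgroup.mem_zpowers_iff.1 hx
    rw [pow_one]
    refine Subgroup.mem_zpowers_iff.2 ⟨i, ?_⟩
    rw [← zpow_natCast, ← zpow_natCast, ← zpow_mul, ← zpow_mul, mul_comm]
  · rw [Subgroup.zpowers_le]
    apply Subgroup.subset_closure
    exact ⟨u, by rw [hu]; exact Subgroup.mem_zpowers u, by rw [pow_one]⟩

end basic


structure Ctx (G : Type*) [Group G] (p n : ℕ) (U : Subgroup G) (u : G) : Prop where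
  hu : U = Subgroup.zpowers u
  ho : orderOf u = p ^ n
  hC : Subgroup.centralizer (U : Set G) = U

section ctx
variable {G : Type*} [Group G] {p n : ℕ} {U : Subgroup G} {u : G}

theorem Ctx.u_mem (c : Ctx G p n U u) : u ∈ U := by
  rw [c.hu]; exact Subgroup.mem_zpowers u

theorem Ctx.mem_U_iff (c : Ctx G p n U u) (g : G) : g ∈ U ↔ g * u * g⁻¹ = u := by
  rw [← mem_centralizer_zpowers_iff, ← c.hu, c.hC]

theorem Ctx.mem_M_iff (c : Ctx G p n U u) (g : G) :
    g ∈ Subgroup.centralizer ((Cfsg.powerClosure p 1 U : Subgroup G) : Set G) ↔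
      g * u ^ p * g⁻¹ = u ^ p := by
  rw [powerClosure_eq p U u c.hu, mem_centralizer_zpowers_iff]

theorem Ctx.pow_eq_iff (c : Ctx G p n U u) (a b : ℕ) : u ^ a = u ^ b ↔ a ≡ b [MOD p ^ n] := by
  rw [pow_eq_pow_iff_modEq, c.ho]

theorem Ctx.U_le_M (c : Ctx G p n U u) :
    U ≤ Subgroup.centralizer ((Cfsg.powerClosure p 1 U : Subgroup G) : Set G) := by
  intro g hg
  rw [c.mem_M_iff]
  rw [c.hu] at hg
  obtain ⟨i, rfl⟩ := Subgroup.mem_zpowers_iff.1 hg
  have : Commute (u ^ i) (u ^ p) := (Commute.refl u).zpow_left i |>.pow_right p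
  rw [this.eq]; group

theorem Ctx.mem_M_of_modEq [hp : Fact p.Prime] (c : Ctx G p n U u) (hn : 1 ≤ n) {g : G} {k : ℕ}
    (hk : g * u * g⁻¹ = u ^ k) (hmod : k ≡ 1 [MOD p ^ (n - 1)]) :
    g ∈ Subgroup.centralizer ((Cfsg.powerClosure p 1 U : Subgroup G) : Set G) := by
  rw [c.mem_M_iff, conj_pow_of hk, c.pow_eq_iff]
  have h1 := Nat.ModEq.mul_right' p hmod
  have e : p ^ (n - 1) * p = p ^ n := by rw [← pow_succ]; congr 1; omega
  rw [e, one_mul] at h1
  exact h1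

theorem Ctx.modEq_of_mem_M [hp : Fact p.Prime] (c : Ctx G p n U u) (hn : 1 ≤ n) {g : G} {k : ℕ}
    (hk : g * u * g⁻¹ = u ^ k)
    (hg : g ∈ Subgroup.centralizer ((Cfsg.powerClosure p 1 U : Subgroup G) : Set G)) :
    k ≡ 1 [MOD p ^ (n - 1)] := by
  rw [c.mem_M_iff, conj_pow_of hk, c.pow_eq_iff] at hg
  have e : p ^ n = p ^ (n - 1) * p := by rw [← pow_succ]; congr 1; omega
  rw [e] at hg
  have h1 : k * p ≡ 1 * p [MOD p ^ (n - 1) * p] := by rw [one_mul]; exact hg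
  exact Nat.ModEq.mul_right_cancel' hp.out.ne_zero h1

theorem Ctx.n_pos [Finite G] (c : Ctx G p n U u) {g : G} (hg : g ∉ U) : 1 ≤ n := by
  by_contra hcon
  have hn0 : n = 0 := by omega
  have ho := c.ho
  rw [hn0, pow_zero, orderOf_eq_one_iff] at ho
  apply hg
  rw [c.mem_U_iff, ho]; group

theorem Ctx.stepA [Finite G] [hp : Fact p.Prime] [U.Normal] (c : Ctx G p n U u) {g : G}
    (hg : g ∉ U) (hgp : g ^ p ∈ U) :
    g ∈ Subgroup.centralizer ((Cfsg.powerClosure p 1 U : Subgroup G) : Set G) ∨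
      (p = 2 ∧ ∃ k : ℕ, g * u * g⁻¹ = u ^ k ∧ k + 1 ≡ 0 [MOD 2 ^ (n - 1)]) := by
  have hn := c.n_pos hg
  obtain ⟨k, hk⟩ := exists_conj_pow U u c.hu g
  have h1 := conj_npow_of hk p
  rw [(c.mem_U_iff _).1 hgp] at h1
  have h2 : k ^ p ≡ 1 [MOD p ^ n] := by
    rw [← c.pow_eq_iff, ← h1, pow_one]
  by_cases hp2 : p = 2
  · subst hp2
    rcases nt_even n k hn h2 with h3 | h3
    · left; exact c.mem_M_of_modEq hn hk h3
    · right; exact ⟨rfl, k, hk, h3⟩
  · left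
    exact c.mem_M_of_modEq hn hk (nt_odd p hp2 n k hn h2)

end ctx


section caseNo
variable {G : Type*} [Group G] {p n : ℕ} {U : Subgroup G} {u : G}

theorem exists_pth_root [hp : Fact p.Prime] (hG : IsPGroup p G) (U : Subgroup G) {h : G}
    (hh : h ∉ U) : ∃ m : ℕ, h ^ (p ^ m) ∉ U ∧ h ^ (p ^ (m + 1)) ∈ U := by
  classical
  have hex : ∃ s : ℕ, h ^ (p ^ s) ∈ U := by
    obtain ⟨s, hs⟩ := hG h
    exact ⟨s, by rw [hs]; exact U.one_mem⟩
  have hs0 : Nat.find hex ≠ 0 := by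
    intro h0
    have := Nat.find_spec hex
    rw [h0, pow_zero, pow_one] at this
    exact hh this
  obtain ⟨m, hm⟩ : ∃ m, Nat.find hex = m + 1 := ⟨Nat.find hex - 1, by omega⟩
  refine ⟨m, ?_, ?_⟩
  · exact Nat.find_min hex (by omega)
  · rw [← hm]; exact Nat.find_spec hex

theorem index_two_of_mul_inv_mem (U : Subgroup G) {g : G} (hg : g ∉ U)
    (h : ∀ x, x ∉ U → x * g⁻¹ ∈ U) : U.index = 2 := by
  rw [Subgroup.index_eq_two_iff]
  refine ⟨g⁻¹, fun b => ?_⟩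
  by_cases hb : b ∈ U
  · refine Or.inr ⟨hb, fun hbg => hg ?_⟩
    have := U.mul_mem (U.inv_mem hbg) hb
    have e : (b * g⁻¹)⁻¹ * b = g := by group
    rwa [e] at this
  · exact Or.inl ⟨h b hb, hb⟩

theorem mul_modEq_one_of_neg_one {q a b : ℕ} (ha : a + 1 ≡ 0 [MOD q]) (hb : b + 1 ≡ 0 [MOD q]) :
    a * b ≡ 1 [MOD q] := by
  rw [← ZMod.natCast_eq_natCast_iff] at ha hb ⊢
  push_cast at ha hb ⊢
  have h1 : (a : ZMod q) = -1 := eq_neg_of_add_eq_zero_left ha
  have h2 : (b : ZMod q) = -1 := eq_neg_of_add_eq_zero_left hb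
  rw [h1, h2]; ring

theorem Ctx.caseNo [Finite G] [hp : Fact p.Prime] [U.Normal] (c : Ctx G p n U u)
    (hG : IsPGroup p G) (hex : ∃ g, g ∉ U)
    (hno : ∀ g, g ∈ Subgroup.centralizer ((Cfsg.powerClosure p 1 U : Subgroup G) : Set G) → g ∈ U) :
    p = 2 ∧ U.index = 2 ∧ 3 ≤ n := by
  obtain ⟨g₀, hg₀⟩ := hex
  have hn := c.n_pos hg₀
  -- elements outside U with p-th power inside act by -1
  have key : ∀ g, g ∉ U → g ^ p ∈ U →
      p = 2 ∧ ∃ k : ℕ, g * u * g⁻¹ = u ^ k ∧ k + 1 ≡ 0 [MOD 2 ^ (n - 1)] := by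
    intro g hg hgp
    rcases c.stepA hg hgp with h | h
    · exact absurd (hno g h) hg
    · exact h
  obtain ⟨m₀, hm₀, hm₀'⟩ := exists_pth_root hG U hg₀
  rw [pow_succ p m₀, pow_mul] at hm₀'
  obtain ⟨hp2, k₀, hk₀, hk₀'⟩ := key _ hm₀ hm₀'
  subst hp2
  have hn3 : 3 ≤ n := by
    by_contra hcon
    apply hm₀
    apply hno
    apply c.mem_M_of_modEq hn hk₀
    have hn12 : n = 1 ∨ n = 2 := by omega
    rcases hn12 with h | h
    · rw [h]; simp [Nat.modEq_one]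
    · rw [h] at hk₀' ⊢
      norm_num at hk₀' ⊢
      have : (k₀ + 1) % 2 = 0 := hk₀'
      show k₀ % 2 = 1 % 2
      omega
  have h4 : (4 : ℕ) ∣ 2 ^ (n - 1) := by
    have : (2 : ℕ) ^ 2 ∣ 2 ^ (n - 1) := pow_dvd_pow 2 (by omega)
    simpa using this
  have h4' : (4 : ℕ) ∣ 2 ^ n := by
    have : (2 : ℕ) ^ 2 ∣ 2 ^ n := pow_dvd_pow 2 (by omega)
    simpa using this
  -- all squares lie in U
  have hsq : ∀ h : G, h ^ 2 ∈ U := by
    intro h
    by_contra hh
    obtain ⟨m, hm, hm'⟩ := exists_pth_root hG U hh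
    rw [pow_succ (2 : ℕ) m, pow_mul] at hm'
    obtain ⟨-, kx, hkx, hkx'⟩ := key _ hm hm'
    obtain ⟨kw, hkw⟩ := exists_conj_pow U u c.hu (h ^ 2 ^ m)
    have h5 := conj_npow_of hkw 2
    have e : (h ^ 2 ^ m) ^ 2 = (h ^ 2) ^ 2 ^ m := by
      rw [← pow_mul, ← pow_mul, mul_comm]
    rw [e, hkx, c.pow_eq_iff] at h5
    have h6 : kx ≡ kw ^ 2 [MOD 4] := h5.of_dvd h4'
    have h7 : kx + 1 ≡ 0 [MOD 4] := hkx'.of_dvd h4
    have h8 : kw ^ 2 + 1 ≡ 0 [MOD 4] := (h6.symm.add_right 1).trans h7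
    have h9 : (kw ^ 2 + 1) % 4 = 0 := h8
    have h10 : kw ^ 2 % 4 = (kw % 4) ^ 2 % 4 := by rw [Nat.pow_mod]
    have h11 : kw % 4 < 4 := Nat.mod_lt _ (by norm_num)
    interval_cases hkk : kw % 4 <;> omega
  refine ⟨rfl, ?_, hn3⟩
  apply index_two_of_mul_inv_mem U hg₀
  intro x hx
  have hg₀i : g₀⁻¹ ∉ U := fun h => hg₀ (by simpa using U.inv_mem h)
  obtain ⟨-, k1, hk1, hk1'⟩ := key x hx (hsq x)
  obtain ⟨-, k2, hk2, hk2'⟩ := key g₀⁻¹ hg₀i (hsq _)
  apply hno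
  exact c.mem_M_of_modEq hn (conj_mul_of hk1 hk2) (mul_modEq_one_of_neg_one hk1' hk2')

end caseNo


section case22
variable {G : Type*} [Group G] {U : Subgroup G} {u : G}

theorem Ctx.case22 [Finite G] [U.Normal] (c : Ctx G 2 2 U u) (hex : ∃ g, g ∉ U) :
    U.index = 2 := by
  obtain ⟨g₀, hg₀⟩ := hex
  have ho : orderOf u = 4 := by rw [c.ho]; norm_num
  have h4 : u ^ 4 = 1 := by rw [← ho]; exact pow_orderOf_eq_one u
  have hu2 : u ^ 2 ≠ 1 := by
    intro h
    have := orderOf_dvd_of_pow_eq_one h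
    rw [ho] at this
    omega
  have hu1 : u ≠ 1 := by
    intro h; apply hu2; rw [h, one_pow]
  have key : ∀ x, x ∉ U → x * u * x⁻¹ = u ^ 3 := by
    intro x hx
    obtain ⟨k, hk⟩ := exists_conj_pow U u c.hu x
    have h1 : u ^ k = u ^ (k % 4) := by rw [← ho, pow_mod_orderOf]
    rw [h1] at hk
    have h2 : k % 4 < 4 := Nat.mod_lt _ (by norm_num)
    interval_cases hkk : k % 4
    · exfalso
      rw [pow_zero] at hk
      apply hu1
      have : u = x⁻¹ * (x * u * x⁻¹) * x := by group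
      rw [this, hk]; group
    · exfalso
      rw [pow_one] at hk
      exact hx ((c.mem_U_iff x).2 hk)
    · exfalso
      apply hu2
      have h3 : (x * u * x⁻¹) ^ 2 = 1 := by rw [hk, ← pow_mul]; exact h4
      rw [conj_pow] at h3
      have : u ^ 2 = x⁻¹ * (x * u ^ 2 * x⁻¹) * x := by group
      rw [this, h3]; group
    · exact hk
  apply index_two_of_mul_inv_mem U hg₀
  intro x hx
  have hg₀i : g₀⁻¹ ∉ U := fun h => hg₀ (by simpa using U.inv_mem h)
  rw [c.mem_U_iff, conj_mul_of (key x hx) (key _ hg₀i)]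
  have : u ^ (3 * 3) = u ^ (4 * 2) * u := by rw [← pow_succ]
  rw [this, pow_mul, h4, one_pow, one_mul]

end case22


section alt1
variable {G : Type*} [Group G]

theorem alt1 [Finite G] {n : ℕ} {U : Subgroup G}
    (hC : Subgroup.centralizer (U : Set G) = U) (hcyc : IsCyclic U) (hUn : Nat.card U = 2 ^ n)
    (hn : 2 ≤ n) (hidx : U.index = 2) (hna : ¬ IsMulCommutative G)
    (hnomod : n = 2 ∨ ∀ g, g ∈ Subgroup.centralizer ((Cfsg.powerClosure 2 1 U : Subgroup G) : Set G) → g ∈ U) :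
    Nat.card G = 2 ^ (n + 1) ∧ ((∃ m : ℕ, Nonempty (G ≃* DihedralGroup m)) ∨
      (∃ m : ℕ, Nonempty (G ≃* QuaternionGroup m)) ∨ Cfsg.IsQuasiDihedral G) := by
  have hG : Nat.card G = 2 ^ (n + 1) := by
    rw [← Subgroup.card_mul_index U, hUn, hidx, pow_succ]
  refine ⟨hG, ?_⟩
  have hna' : ∃ x y : G, x * y ≠ y * x := by
    by_contra hcon
    push Not at hcon
    exact hna ⟨⟨hcon⟩⟩
  obtain ⟨a, b, hCz, hao, hb, hcases⟩ :=
    cyclic_max_two_classification' (n + 1) (by omega) hG U hcyc hidx hna'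
  have e1 : n + 1 - 1 = n := by omega
  have e2 : n + 1 - 2 = n - 1 := by omega
  rw [e1] at hao
  rw [e2] at hcases
  have h2n : 2 ^ n = 2 * 2 ^ (n - 1) := by
    rw [← pow_succ']; congr 1; omega
  rcases hcases with ⟨hb2, hconj⟩ | ⟨hb2, hconj⟩ | ⟨hn4, hb2, hconj⟩ | ⟨hn4, hb2, hconj⟩
  · left
    refine ⟨2 ^ n, nonempty_mulEquiv_dihedral_of_rel (2 ^ n) ?_ a b hao hb hb2 hconj ?_⟩
    · calc 2 = 2 ^ 1 := by norm_num
        _ ≤ 2 ^ n := Nat.pow_le_pow_right (by norm_num) (by omega)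
    · rw [hG, pow_succ, mul_comm]
  · right; left
    haveI : NeZero (2 ^ (n - 1)) := ⟨by positivity⟩
    refine ⟨2 ^ (n - 1), nonempty_mulEquiv_quaternion (2 ^ (n - 1)) a b ?_ hb2 hconj hb ?_⟩
    · rw [hao, h2n]
    · rw [hG, pow_succ, h2n]; ring
  · exfalso
    have c : Ctx G 2 n U a := ⟨hCz, hao, hC⟩
    have hbU : b ∉ U := by rw [hCz]; exact hb
    rcases hnomod with h | h
    · omega
    · apply hbU
      apply h
      refine c.mem_M_of_modEq (by omega) hconj ?_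
      have : 1 + 2 ^ (n - 1) ≡ 1 + 0 [MOD 2 ^ (n - 1)] :=
        Nat.ModEq.add_left 1 ((Nat.modEq_zero_iff_dvd).2 dvd_rfl)
      rwa [add_zero] at this
  · right; right
    refine ⟨n, by omega, hG, a, b, hao, ?_, hconj⟩
    have hb1 : b ≠ 1 := fun h => hb (h ▸ Subgroup.one_mem _)
    exact orderOf_eq_prime hb2 hb1

end alt1


section alt2
variable {G : Type*} [Group G] {p n : ℕ} {U : Subgroup G} {u : G}

abbrev MM (p : ℕ) (U : Subgroup G) : Subgroup G :=
  Subgroup.centralizer ((Cfsg.powerClosure p 1 U : Subgroup G) : Set G)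

theorem closure_normal_of_conj_closed (s : Set G) (h : ∀ x ∈ s, ∀ g : G, g * x * g⁻¹ ∈ s) :
    (Subgroup.closure s).Normal := by
  refine ⟨fun x hx g => ?_⟩
  induction hx using Subgroup.closure_induction with
  | mem y hy => exact Subgroup.subset_closure (h y hy g)
  | one => simp
  | mul a b _ _ iha ihb =>
    have : g * (a * b) * g⁻¹ = (g * a * g⁻¹) * (g * b * g⁻¹) := by group
    rw [this]; exact Subgroup.mul_mem _ iha ihb
  | inv a _ iha =>
    have : g * a⁻¹ * g⁻¹ = (g * a * g⁻¹)⁻¹ := by group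
    rw [this]; exact Subgroup.inv_mem _ iha

theorem Ctx.z_pow (c : Ctx G p n U u) (hn : 1 ≤ n) : (u ^ p ^ (n - 1)) ^ p = 1 := by
  rw [← pow_mul, ← pow_succ, show n - 1 + 1 = n by omega, ← c.ho, pow_orderOf_eq_one]

theorem Ctx.z_ne_one [hp : Fact p.Prime] (c : Ctx G p n U u) (hn : 1 ≤ n) :
    u ^ p ^ (n - 1) ≠ 1 := by
  intro h
  have := orderOf_dvd_of_pow_eq_one h
  rw [c.ho, Nat.pow_dvd_pow_iff_le_right hp.out.one_lt] at this
  omega

theorem Ctx.z_mem (c : Ctx G p n U u) : u ^ p ^ (n - 1) ∈ U := U.pow_mem c.u_mem _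

theorem Ctx.z_conj (c : Ctx G p n U u) (hn : 2 ≤ n) {x : G} (hx : x ∈ MM p U) :
    x * u ^ p ^ (n - 1) * x⁻¹ = u ^ p ^ (n - 1) := by
  have : u ^ p ^ (n - 1) = (u ^ p) ^ p ^ (n - 2) := by
    rw [← pow_mul, ← pow_succ']; congr 2; omega
  rw [this, ← conj_pow, (c.mem_M_iff x).1 hx]

theorem Ctx.mem_Z_of_pow [hp : Fact p.Prime] (c : Ctx G p n U u) (hn : 1 ≤ n) {w : G}
    (hw : w ∈ U) (hwp : w ^ p = 1) : w ∈ Subgroup.zpowers (u ^ p ^ (n - 1)) := by
  rw [c.hu] at hw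
  obtain ⟨i, rfl⟩ := Subgroup.mem_zpowers_iff.1 hw
  rw [← zpow_natCast, ← zpow_mul, ← orderOf_dvd_iff_zpow_eq_one, c.ho] at hwp
  have e : ((p ^ n : ℕ) : ℤ) = ((p ^ (n - 1) : ℕ) : ℤ) * (p : ℤ) := by
    rw [← Nat.cast_mul, ← pow_succ]; congr 2; omega
  rw [e] at hwp
  have hp0 : (p : ℤ) ≠ 0 := by exact_mod_cast hp.out.ne_zero
  obtain ⟨j, hj⟩ := (mul_dvd_mul_iff_right hp0).1 hwp
  refine Subgroup.mem_zpowers_iff.2 ⟨j, ?_⟩
  rw [hj, ← zpow_natCast, ← zpow_mul]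

theorem Ctx.conj_eq_mul_z [Finite G] [hp : Fact p.Prime] [U.Normal] (c : Ctx G p n U u)
    (hn : 1 ≤ n) {x : G} (hx : x ∈ MM p U) :
    ∃ t : ℕ, x * u * x⁻¹ = u * (u ^ p ^ (n - 1)) ^ t := by
  obtain ⟨k, hk⟩ := exists_conj_pow U u c.hu x
  have hmod := c.modEq_of_mem_M hn hk hx
  rcases k with _ | k
  · refine ⟨0, ?_⟩
    rw [pow_zero] at hk
    have hu1 : u = 1 := by
      have : u = x⁻¹ * (x * u * x⁻¹) * x := by group
      rw [this, hk]; group
    rw [hu1]; simp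
  · have h1 : p ^ (n - 1) ∣ (k + 1) - 1 := (Nat.modEq_iff_dvd' (by omega)).1 hmod.symm
    obtain ⟨t, ht⟩ := h1
    refine ⟨t, ?_⟩
    rw [hk, ← pow_mul, ← pow_succ', ← ht]
    congr 1

/-- the commutator map on `M`, as a homomorphism into `G` -/
noncomputable def Ctx.psi [Finite G] [hp : Fact p.Prime] [U.Normal] (c : Ctx G p n U u)
    (hn : 2 ≤ n) : ↥(MM p U) →* G :=
  MonoidHom.mk' (fun x => (x : G) * u * (x : G)⁻¹ * u⁻¹) (by
    intro x y
    obtain ⟨t, ht⟩ := c.conj_eq_mul_z (by omega) y.2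
    obtain ⟨t', ht'⟩ := c.conj_eq_mul_z (by omega) x.2
    have hz := c.z_conj hn x.2
    obtain ⟨z, hzdef⟩ : ∃ z, z = u ^ p ^ (n - 1) := ⟨_, rfl⟩
    rw [← hzdef] at ht ht' hz
    have hcz : Commute u z := by rw [hzdef]; exact (Commute.refl u).pow_right _
    have hxz : Commute (x : G) z := by
      show (x : G) * z = z * x
      calc (x : G) * z = ((x : G) * z * (x : G)⁻¹) * x := by group
        _ = z * x := by rw [hz]
    have e1 : ((x * y : ↥(MM p U)) : G) = (x : G) * (y : G) := rfl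
    rw [e1]
    have e2 : (x : G) * (y : G) * u * ((x : G) * (y : G))⁻¹ * u⁻¹
        = (x : G) * ((y : G) * u * (y : G)⁻¹) * (x : G)⁻¹ * u⁻¹ := by group
    rw [e2, ht, ht']
    have e3 : (x : G) * (u * z ^ t) * (x : G)⁻¹ = ((x : G) * u * (x : G)⁻¹) * z ^ t := by
      have := (hxz.pow_right t).eq
      have h7 : (x : G) * z ^ t * (x : G)⁻¹ = z ^ t := by rw [this, mul_inv_cancel_right]
      calc (x : G) * (u * z ^ t) * (x : G)⁻¹
          = ((x : G) * u * (x : G)⁻¹) * ((x : G) * z ^ t * (x : G)⁻¹) := by group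
        _ = ((x : G) * u * (x : G)⁻¹) * z ^ t := by rw [h7]
    rw [e3, ht']
    have h4 : Commute u (z ^ t) := hcz.pow_right t
    have h5 : Commute u (z ^ t') := hcz.pow_right t'
    have h6 : Commute (z ^ t') (z ^ t) := (Commute.refl z).pow_pow t' t
    calc u * z ^ t' * z ^ t * u⁻¹ = u * (z ^ t' * z ^ t) * u⁻¹ := by group
      _ = (z ^ t' * z ^ t) * u * u⁻¹ := by rw [(h5.mul_right h4).eq]
      _ = (u * z ^ t' * u⁻¹) * (u * z ^ t * u⁻¹) := by rw [h5.eq, h4.eq]; group)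

theorem Ctx.psi_apply [Finite G] [hp : Fact p.Prime] [U.Normal] (c : Ctx G p n U u)
    (hn : 2 ≤ n) (x : ↥(MM p U)) : c.psi hn x = (x : G) * u * (x : G)⁻¹ * u⁻¹ := rfl

theorem Ctx.psi_mem [Finite G] [hp : Fact p.Prime] [U.Normal] (c : Ctx G p n U u)
    (hn : 2 ≤ n) (x : ↥(MM p U)) : c.psi hn x ∈ Subgroup.zpowers (u ^ p ^ (n - 1)) := by
  obtain ⟨t, ht⟩ := c.conj_eq_mul_z (by omega) x.2
  rw [c.psi_apply, ht]
  have : Commute u ((u ^ p ^ (n - 1)) ^ t) := ((Commute.refl u).pow_right _).pow_right t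
  rw [this.eq, mul_inv_cancel_right]
  exact Subgroup.pow_mem _ (Subgroup.mem_zpowers _) t

theorem Ctx.psi_eq_one_iff [Finite G] [hp : Fact p.Prime] [U.Normal] (c : Ctx G p n U u)
    (hn : 2 ≤ n) (x : ↥(MM p U)) : c.psi hn x = 1 ↔ (x : G) ∈ U := by
  rw [c.psi_apply, c.mem_U_iff, mul_inv_eq_one]

theorem Ctx.pow_p_mem [Finite G] [hp : Fact p.Prime] [U.Normal] (c : Ctx G p n U u)
    (hn : 2 ≤ n) {x : G} (hx : x ∈ MM p U) : x ^ p ∈ U := by
  have h1 : c.psi hn (⟨x, hx⟩ ^ p) = 1 := by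
    rw [map_pow]
    obtain ⟨i, hi⟩ := Subgroup.mem_zpowers_iff.1 (c.psi_mem hn ⟨x, hx⟩)
    rw [← hi, ← zpow_natCast, ← zpow_mul, mul_comm, zpow_mul, zpow_natCast, c.z_pow (by omega), one_zpow]
  rw [c.psi_eq_one_iff] at h1
  exact h1

end alt2


section alt2b
variable {G : Type*} [Group G] {p n : ℕ} {U : Subgroup G} {u : G}

theorem Ctx.orderOf_z [hp : Fact p.Prime] (c : Ctx G p n U u) (hn : 1 ≤ n) :
    orderOf (u ^ p ^ (n - 1)) = p :=
  orderOf_eq_prime (c.z_pow hn) (c.z_ne_one hn)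

theorem Ctx.relIndex_eq [Finite G] [hp : Fact p.Prime] [U.Normal] (c : Ctx G p n U u)
    (hn : 2 ≤ n) {g : G} (hgM : g ∈ MM p U) (hgU : g ∉ U) : U.relIndex (MM p U) = p := by
  have hker : (c.psi hn).ker = U.subgroupOf (MM p U) := by
    ext x
    rw [MonoidHom.mem_ker, c.psi_eq_one_iff, Subgroup.mem_subgroupOf]
  unfold Subgroup.relIndex
  rw [← hker, Subgroup.index_ker]
  have hle : (c.psi hn).range ≤ Subgroup.zpowers (u ^ p ^ (n - 1)) := by
    rintro y ⟨x, rfl⟩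
    exact c.psi_mem hn x
  have hdvd := Subgroup.card_dvd_of_le hle
  rw [Nat.card_zpowers, c.orderOf_z (by omega)] at hdvd
  rcases (Nat.dvd_prime hp.out).1 hdvd with h | h
  · exfalso
    rw [Subgroup.card_eq_one] at h
    have h1 : c.psi hn ⟨g, hgM⟩ ∈ (c.psi hn).range := ⟨_, rfl⟩
    rw [h, Subgroup.mem_bot, c.psi_eq_one_iff] at h1
    exact hgU h1
  · exact h

theorem Ctx.exists_coset [Finite G] [hp : Fact p.Prime] [U.Normal] (c : Ctx G p n U u)
    (hn : 2 ≤ n) {a : G} (haM : a ∈ MM p U) (haU : a ∉ U) {x : G} (hx : x ∈ MM p U) :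
    ∃ j : ℕ, x * (a ^ j)⁻¹ ∈ U := by
  have hcard : Nat.card (Subgroup.zpowers (u ^ p ^ (n - 1))) = p := by
    rw [Nat.card_zpowers, c.orderOf_z (by omega)]
  have ha1 : c.psi hn ⟨a, haM⟩ ≠ 1 := by
    intro h
    rw [c.psi_eq_one_iff] at h
    exact haU h
  have hne : (⟨c.psi hn ⟨a, haM⟩, c.psi_mem hn _⟩ : Subgroup.zpowers (u ^ p ^ (n - 1))) ≠ 1 := by
    intro h
    exact ha1 (congrArg Subtype.val h)
  have htop := zpowers_eq_top_of_prime_card hcard hne
  have hmem : (⟨c.psi hn ⟨x, hx⟩, c.psi_mem hn _⟩ : Subgroup.zpowers (u ^ p ^ (n - 1))) ∈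
      Subgroup.zpowers (⟨c.psi hn ⟨a, haM⟩, c.psi_mem hn _⟩ : Subgroup.zpowers (u ^ p ^ (n - 1))) := by
    rw [htop]; trivial
  rw [← mem_powers_iff_mem_zpowers] at hmem
  obtain ⟨j, hj⟩ := hmem
  have hj' : (c.psi hn ⟨a, haM⟩) ^ j = c.psi hn ⟨x, hx⟩ := by
    have := congrArg Subtype.val hj
    simpa using this
  refine ⟨j, ?_⟩
  have h1 : c.psi hn (⟨x, hx⟩ * (⟨a, haM⟩ ^ j)⁻¹) = 1 := by
    rw [map_mul, map_inv, map_pow, hj', mul_inv_cancel]
  rw [c.psi_eq_one_iff] at h1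
  exact h1

theorem conj_pow_mul_c {w x c : G} (h : x * w * x⁻¹ = w * c) (hcx : Commute c x) (m : ℕ) :
    x ^ m * w * (x ^ m)⁻¹ = w * c ^ m := by
  induction m with
  | zero => simp
  | succ m ih =>
    have hcm : Commute (c ^ m) x := hcx.pow_left m
    have e : x ^ (m + 1) * w * (x ^ (m + 1))⁻¹ = x * (x ^ m * w * (x ^ m)⁻¹) * x⁻¹ := by
      rw [pow_succ']; group
    rw [e, ih]
    have e2 : x * (w * c ^ m) * x⁻¹ = (x * w * x⁻¹) * (x * c ^ m * x⁻¹) := by group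
    have e3 : x * c ^ m * x⁻¹ = c ^ m := by rw [← hcm.eq, mul_inv_cancel_right]
    rw [e2, e3, h, pow_succ', mul_assoc]

theorem pow_mul_formula {w x c : G} (h : x * w * x⁻¹ = w * c) (hcw : Commute c w)
    (hcx : Commute c x) (m : ℕ) : (w * x) ^ m = w ^ m * c ^ (m.choose 2) * x ^ m := by
  induction m with
  | zero => simp
  | succ m ih =>
    have h1 := conj_pow_mul_c h hcx m
    have h2 : x ^ m * w = w * c ^ m * x ^ m := by
      calc x ^ m * w = (x ^ m * w * (x ^ m)⁻¹) * x ^ m := by group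
        _ = w * c ^ m * x ^ m := by rw [h1]
    have hch : (m + 1).choose 2 = m + m.choose 2 := by
      rw [Nat.choose_succ_succ' m 1, Nat.choose_one_right]
    rw [pow_succ, ih, hch]
    have hc2 : Commute (c ^ (m.choose 2)) w := hcw.pow_left _
    calc w ^ m * c ^ m.choose 2 * x ^ m * (w * x)
        = w ^ m * c ^ m.choose 2 * (x ^ m * w) * x := by group
      _ = w ^ m * c ^ m.choose 2 * (w * c ^ m * x ^ m) * x := by rw [h2]
      _ = w ^ m * (c ^ m.choose 2 * w) * c ^ m * x ^ m * x := by group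
      _ = w ^ m * (w * c ^ m.choose 2) * c ^ m * x ^ m * x := by rw [hc2.eq]
      _ = w ^ (m + 1) * c ^ (m + m.choose 2) * x ^ (m + 1) := by
        rw [pow_succ, pow_succ, pow_add, (Commute.pow_pow (Commute.refl c) m (m.choose 2)).eq]
        group

end alt2b


section alt2c
variable {G : Type*} [Group G] {p n : ℕ} {U : Subgroup G} {u : G}

theorem Ctx.pw [Finite G] [hp : Fact p.Prime] [U.Normal] (c : Ctx G p n U u)
    (hn : 2 ≤ n) (hpn : p ≠ 2 ∨ 3 ≤ n) {x : G} (hx : x ∈ MM p U) :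
    ∃ e : ℕ, Nat.Coprime e p ∧ ∀ w ∈ U, (w * x) ^ p = w ^ (p * e) * x ^ p := by
  obtain ⟨t, ht⟩ := c.conj_eq_mul_z (by omega) hx
  have hzx := c.z_conj hn hx
  have hzp := c.z_pow (show 1 ≤ n by omega)
  obtain ⟨z, hzdef⟩ : ∃ z, z = u ^ p ^ (n - 1) := ⟨_, rfl⟩
  rw [← hzdef] at ht hzx hzp
  have hcz : Commute u z := by rw [hzdef]; exact (Commute.refl u).pow_right _
  have hzx' : Commute z x := by
    show z * x = x * z
    calc z * x = (x * z * x⁻¹) * x := by rw [hzx]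
      _ = x * z := by group
  -- general formula
  have hform : ∀ i : ℕ, (u ^ i * x) ^ p = (u ^ i) ^ p * ((z ^ t) ^ i) ^ (p.choose 2) * x ^ p := by
    intro i
    have h1 : x * u ^ i * x⁻¹ = u ^ i * (z ^ t) ^ i := by
      rw [← conj_pow, ht, (hcz.pow_right t).mul_pow]
    have h2 : Commute ((z ^ t) ^ i) (u ^ i) := ((hcz.symm.pow_left t).pow_left i).pow_right i
    have h3 : Commute ((z ^ t) ^ i) x := (hzx'.pow_left t).pow_left i
    exact pow_mul_formula h1 h2 h3 p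
  have hUpow : ∀ w ∈ U, ∃ i : ℕ, w = u ^ i := by
    intro w hw
    rw [c.hu, ← mem_powers_iff_mem_zpowers] at hw
    obtain ⟨i, hi⟩ := hw
    exact ⟨i, hi.symm⟩
  by_cases hp2 : p = 2
  · subst hp2
    have hn3 : 3 ≤ n := by
      rcases hpn with h | h
      · exact absurd rfl h
      · exact h
    refine ⟨1 + 2 ^ (n - 2) * t, ?_, ?_⟩
    · rw [Nat.coprime_comm, Nat.coprime_two_left]
      have : 2 ^ (n - 2) = 2 * 2 ^ (n - 3) := by
        rw [← pow_succ']; congr 1; omega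
      rw [this]
      exact ⟨2 ^ (n - 3) * t, by ring⟩
    · intro w hw
      obtain ⟨i, rfl⟩ := hUpow w hw
      rw [hform i]
      congr 1
      have : Nat.choose 2 2 = 1 := by decide
      rw [this, pow_one, hzdef]
      rw [← pow_mul, ← pow_mul, ← pow_mul, ← pow_mul, ← pow_add]
      congr 1
      have : 2 ^ (n - 1) = 2 * 2 ^ (n - 2) := by
        rw [← pow_succ']; congr 1; omega
      rw [this]; ring
  · refine ⟨1, Nat.coprime_one_left p, ?_⟩
    intro w hw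
    obtain ⟨i, rfl⟩ := hUpow w hw
    rw [hform i, mul_one]
    have hdvd : p ∣ p.choose 2 := by
      apply hp.out.dvd_choose_self (by norm_num)
      have := hp.out.two_le
      omega
    obtain ⟨d, hd⟩ := hdvd
    have : ((z ^ t) ^ i) ^ p.choose 2 = 1 := by
      rw [hd, ← pow_mul, ← pow_mul, show t * (i * (p * d)) = p * (t * i * d) by ring, pow_mul, hzp,
        one_pow]
    rw [this, mul_one]

end alt2c


section alt2d
variable {G : Type*} [Group G] {p n : ℕ} {U : Subgroup G} {u : G}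

theorem Ctx.exists_a [Finite G] [hp : Fact p.Prime] [U.Normal] (c : Ctx G p n U u)
    (hn : 2 ≤ n) (hpn : p ≠ 2 ∨ 3 ≤ n) {g : G} (hgM : g ∈ MM p U) (hgU : g ∉ U) :
    ∃ a, a ∈ MM p U ∧ a ∉ U ∧ a ^ p = 1 := by
  have hgp := c.pow_p_mem hn hgM
  have hgp' := hgp
  rw [c.hu, ← mem_powers_iff_mem_zpowers] at hgp'
  obtain ⟨i, hi⟩ := hgp'
  replace hi : u ^ i = g ^ p := hi
  obtain ⟨k, hk⟩ := exists_conj_pow U u c.hu g
  have h1 : k * i ≡ i [MOD p ^ n] := by
    rw [← c.pow_eq_iff, ← conj_pow_of hk, hi]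
    group
  have hpi : p ∣ i := by
    by_contra hcon
    have hcop : Nat.Coprime (p ^ n) i := Nat.Coprime.pow_left n ((Nat.Prime.coprime_iff_not_dvd hp.out).2 hcon)
    have h2 : k * i ≡ 1 * i [MOD p ^ n] := by rw [one_mul]; exact h1
    have h3 := Nat.ModEq.cancel_right_of_coprime hcop h2
    apply hgU
    rw [c.mem_U_iff, hk]
    rw [← pow_one u, ← pow_mul, one_mul, c.pow_eq_iff]
    exact h3
  obtain ⟨i', rfl⟩ := hpi
  obtain ⟨e, hecop, hpw⟩ := c.pw hn hpn hgM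
  have hpn1 : 1 < p ^ n := Nat.one_lt_pow (by omega) hp.out.one_lt
  obtain ⟨e', -, he'⟩ := Nat.exists_mul_mod_eq_one_of_coprime (Nat.Coprime.pow_right n hecop) hpn1
  have he'' : e * e' ≡ 1 [MOD p ^ n] := by
    show e * e' % p ^ n = 1 % p ^ n
    rw [he', Nat.mod_eq_of_lt hpn1]
  have hwU : (u ^ (i' * e'))⁻¹ ∈ U := U.inv_mem (U.pow_mem c.u_mem _)
  refine ⟨(u ^ (i' * e'))⁻¹ * g, ?_, ?_, ?_⟩
  · exact Subgroup.mul_mem _ (c.U_le_M hwU) hgM
  · intro h
    apply hgU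
    have := U.mul_mem (U.inv_mem hwU) h
    rwa [inv_mul_cancel_left] at this
  · rw [hpw _ hwU, ← hi, inv_pow, ← pow_mul, inv_mul_eq_one, c.pow_eq_iff]
    have := Nat.ModEq.mul_left (p * i') he''
    rw [mul_one] at this
    refine Nat.ModEq.trans ?_ this
    rw [show i' * e' * (p * e) = p * i' * (e * e') by ring]

end alt2d


section alt2e
variable {G : Type*} [Group G] {p n : ℕ} {U : Subgroup G} {u : G}

theorem powerClosure_normal (p m : ℕ) (U : Subgroup G) [U.Normal] :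
    (Cfsg.powerClosure p m U).Normal := by
  unfold Cfsg.powerClosure
  apply closure_normal_of_conj_closed
  rintro y ⟨x, hx, rfl⟩ g
  exact ⟨g * x * g⁻¹, Subgroup.Normal.conj_mem inferInstance x hx g, by rw [conj_pow]⟩

theorem MM_normal (p : ℕ) (U : Subgroup G) [U.Normal] : (MM p U).Normal := by
  haveI := powerClosure_normal p 1 U
  exact Subgroup.normal_centralizer

theorem Ctx.alt2 [Finite G] [hp : Fact p.Prime] [U.Normal] (c : Ctx G p n U u)
    (hn : 2 ≤ n) (hpn : p ≠ 2 ∨ 3 ≤ n) {g : G} (hgM : g ∈ MM p U) (hgU : g ∉ U) :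
    U.relIndex (MM p U) = p ∧ Cfsg.IsElementaryAbelian p (Cfsg.omegaOne p (MM p U)) ∧
      Nat.card ↥(Cfsg.omegaOne p (MM p U)) = p ^ 2 ∧ (Cfsg.omegaOne p (MM p U)).Characteristic := by
  have hrel := c.relIndex_eq hn hgM hgU
  refine ⟨hrel, ?_⟩
  obtain ⟨a, haM, haU, hap⟩ := c.exists_a hn hpn hgM hgU
  have hn1 : 1 ≤ n := by omega
  have hzp := c.z_pow hn1
  have hzU := c.z_mem
  have hzM : u ^ p ^ (n - 1) ∈ MM p U := c.U_le_M hzU
  have hza := c.z_conj hn haM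
  have hZmem := fun w hw hwp => c.mem_Z_of_pow (w := w) hn1 hw hwp
  have hoz := c.orderOf_z hn1
  obtain ⟨z, hzdef⟩ : ∃ z, z = u ^ p ^ (n - 1) := ⟨_, rfl⟩
  rw [← hzdef] at hzp hzU hzM hza hZmem hoz
  -- elements of order dividing p in M
  have hΩ : ∀ x, x ∈ MM p U → x ^ p = 1 → x ∈ Subgroup.zpowers z ⊔ Subgroup.zpowers a := by
    intro x hx hxp
    obtain ⟨j, hj⟩ := c.exists_coset hn haM haU hx
    have hajM : a ^ j ∈ MM p U := Subgroup.pow_mem _ haM j
    obtain ⟨e, hecop, hpw⟩ := c.pw hn hpn hajM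
    have h1 := hpw _ hj
    have e2 : (a ^ j) ^ p = 1 := by rw [← pow_mul, mul_comm, pow_mul, hap, one_pow]
    rw [inv_mul_cancel_right, hxp, e2, mul_one] at h1
    have h2 : orderOf (x * (a ^ j)⁻¹) ∣ p * e := orderOf_dvd_of_pow_eq_one h1.symm
    have h3 : orderOf (x * (a ^ j)⁻¹) ∣ p ^ n := by
      rw [← c.ho]
      apply orderOf_dvd_of_mem_zpowers
      rw [← c.hu]; exact hj
    have h4 : Nat.Coprime (orderOf (x * (a ^ j)⁻¹)) e :=
      Nat.Coprime.coprime_dvd_left h3 (Nat.Coprime.pow_left n hecop.symm)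
    have h5 : orderOf (x * (a ^ j)⁻¹) ∣ p := h4.dvd_of_dvd_mul_right h2
    have h6 : (x * (a ^ j)⁻¹) ^ p = 1 := orderOf_dvd_iff_pow_eq_one.1 h5
    have h7 := hZmem _ hj h6
    have : x = (x * (a ^ j)⁻¹) * a ^ j := by group
    rw [this]
    exact Subgroup.mul_mem_sup h7 (Subgroup.pow_mem _ (Subgroup.mem_zpowers a) j)
  have hE : Cfsg.omegaOne p (MM p U) = Subgroup.zpowers z ⊔ Subgroup.zpowers a := by
    apply le_antisymm
    · unfold Cfsg.omegaOne
      rw [Subgroup.closure_le]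
      rintro x ⟨hx, hxp⟩
      exact hΩ x hx hxp
    · apply sup_le
      · rw [Subgroup.zpowers_le]
        exact Subgroup.subset_closure ⟨hzM, hzp⟩
      · rw [Subgroup.zpowers_le]
        exact Subgroup.subset_closure ⟨haM, hap⟩
  have hE2 : Cfsg.omegaOne p (MM p U) = Subgroup.closure ({z} ∪ {a} : Set G) := by
    rw [hE, Subgroup.closure_union, Subgroup.zpowers_eq_closure, Subgroup.zpowers_eq_closure]
  have hcza : z * a = a * z := by
    calc z * a = (a * z * a⁻¹) * a := by rw [hza]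
      _ = a * z := by group
  have hcomm : IsMulCommutative ↥(Cfsg.omegaOne p (MM p U)) := by
    rw [hE2]
    apply Subgroup.isMulCommutative_closure
    intro x hx y hy
    rcases hx with hx | hx <;> rcases hy with hy | hy
    · rw [Set.mem_singleton_iff.1 hx, Set.mem_singleton_iff.1 hy]
    · rw [Set.mem_singleton_iff.1 hx, Set.mem_singleton_iff.1 hy]; exact hcza
    · rw [Set.mem_singleton_iff.1 hx, Set.mem_singleton_iff.1 hy]; exact hcza.symm
    · rw [Set.mem_singleton_iff.1 hx, Set.mem_singleton_iff.1 hy]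
  have hexp : ∀ x ∈ Cfsg.omegaOne p (MM p U), x ^ p = 1 := by
    intro x hx
    unfold Cfsg.omegaOne at hx
    induction hx using Subgroup.closure_induction with
    | mem y hy => exact hy.2
    | one => exact one_pow p
    | mul a' b' ha' hb' iha ihb =>
      have hc : Commute a' b' := by
        have := hcomm.is_comm.comm ⟨a', ha'⟩ ⟨b', hb'⟩
        exact congrArg Subtype.val this
      rw [hc.mul_pow, iha, ihb, one_mul]
    | inv a' _ iha => rw [inv_pow, iha, inv_one]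
  refine ⟨⟨hcomm, hexp⟩, ?_, ?_⟩
  · -- cardinality
    have hZE : Subgroup.zpowers z ≤ Cfsg.omegaOne p (MM p U) := by rw [hE]; exact le_sup_left
    have hEM : Cfsg.omegaOne p (MM p U) ≤ MM p U := by
      unfold Cfsg.omegaOne
      rw [Subgroup.closure_le]
      rintro x ⟨hx, -⟩
      exact hx
    have hUE : U ⊓ Cfsg.omegaOne p (MM p U) = Subgroup.zpowers z := by
      apply le_antisymm
      · rintro x ⟨hxU, hxE⟩
        exact hZmem x hxU (hexp x hxE)
      · exact le_inf (by rw [Subgroup.zpowers_le]; exact hzU) hZE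
    have hEU : Cfsg.omegaOne p (MM p U) ⊔ U = MM p U := by
      apply le_antisymm
      · exact sup_le hEM c.U_le_M
      · intro x hx
        obtain ⟨j, hj⟩ := c.exists_coset hn haM haU hx
        have : x = (x * (a ^ j)⁻¹) * a ^ j := by group
        rw [this]
        refine Subgroup.mul_mem _ (Subgroup.mem_sup_right hj) (Subgroup.mem_sup_left ?_)
        rw [hE]
        exact Subgroup.mem_sup_right (Subgroup.pow_mem _ (Subgroup.mem_zpowers a) j)
    have h1 : (Subgroup.zpowers z).relIndex (Cfsg.omegaOne p (MM p U)) = p := by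
      rw [← hUE, Subgroup.inf_relIndex_right, ← Subgroup.relIndex_sup_right, hEU, hrel]
    have h2 := Subgroup.relIndex_mul_relIndex (⊥ : Subgroup G) (Subgroup.zpowers z)
      (Cfsg.omegaOne p (MM p U)) bot_le hZE
    rw [Subgroup.relIndex_bot_left, Subgroup.relIndex_bot_left, h1, Nat.card_zpowers, hoz] at h2
    rw [← h2, pow_two]
  · -- characteristic
    haveI hMn : (MM p U).Normal := MM_normal p U
    haveI hEn : (Cfsg.omegaOne p (MM p U)).Normal := by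
      unfold Cfsg.omegaOne
      apply closure_normal_of_conj_closed
      rintro x ⟨hx, hxp⟩ g'
      exact ⟨hMn.conj_mem x hx g', by rw [conj_pow, hxp]; group⟩
    rw [Subgroup.characteristic_iff_map_le]
    rintro φ y ⟨e, he, rfl⟩
    have hyp : (φ e) ^ p = 1 := by
      have : (φ.toMonoidHom e) ^ p = φ.toMonoidHom (e ^ p) := (map_pow φ.toMonoidHom e p).symm
      rw [hexp e he, map_one] at this
      exact this
    apply Subgroup.subset_closure
    refine ⟨?_, hyp⟩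
    show φ e ∈ MM p U
    rw [c.mem_M_iff]
    obtain ⟨v, hv⟩ : ∃ v, v = φ.symm u := ⟨_, rfl⟩
    have hφv : φ v = u := by rw [hv]; exact φ.apply_symm_apply u
    have hccE : e * v * e⁻¹ * v⁻¹ ∈ Cfsg.omegaOne p (MM p U) := by
      have h1 := hEn.conj_mem e⁻¹ (Subgroup.inv_mem _ he) v
      have := Subgroup.mul_mem _ he h1
      have e' : e * (v * e⁻¹ * v⁻¹) = e * v * e⁻¹ * v⁻¹ := by group
      rwa [e'] at this
    obtain ⟨d, hd⟩ : ∃ d, d = φ e * u * (φ e)⁻¹ * u⁻¹ := ⟨_, rfl⟩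
    have hdφ : d = φ (e * v * e⁻¹ * v⁻¹) := by
      rw [hd, map_mul, map_mul, map_mul, map_inv, map_inv, hφv]
    have hdp : d ^ p = 1 := by
      rw [hdφ, ← map_pow, hexp _ hccE, map_one]
    have hdU : d ∈ U := by
      rw [hd]
      exact U.mul_mem (Subgroup.Normal.conj_mem inferInstance u c.u_mem _) (U.inv_mem c.u_mem)
    have hdu : Commute d u := by
      rw [c.hu] at hdU
      obtain ⟨i, rfl⟩ := Subgroup.mem_zpowers_iff.1 hdU
      exact (Commute.refl u).zpow_left i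
    have h1 : φ e * u * (φ e)⁻¹ = d * u := by rw [hd]; group
    rw [← conj_pow, h1, hdu.mul_pow, hdp, one_mul]

end alt2e


section final
variable {G : Type*} [Group G] {p n : ℕ} {U : Subgroup G} {u : G}

theorem Ctx.n_ge_two [Finite G] [hp : Fact p.Prime] [U.Normal] (c : Ctx G p n U u)
    (hG : IsPGroup p G) {g₀ : G} (hg₀ : g₀ ∉ U) : 2 ≤ n := by
  have hn := c.n_pos hg₀
  by_contra hcon
  have hn1 : n = 1 := by omega
  obtain ⟨m, hm, hm'⟩ := exists_pth_root hG U hg₀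
  rw [pow_succ p m, pow_mul] at hm'
  obtain ⟨k, hk⟩ := exists_conj_pow U u c.hu (g₀ ^ p ^ m)
  have h1 := conj_npow_of hk p
  rw [(c.mem_U_iff _).1 hm'] at h1
  have h2 : k ^ p ≡ 1 [MOD p ^ n] := by
    rw [← c.pow_eq_iff, ← h1, pow_one]
  apply hm
  rw [c.mem_U_iff, hk]
  nth_rewrite 2 [← pow_one u]
  rw [c.pow_eq_iff, hn1, pow_one]
  rw [hn1, pow_one] at h2
  rw [← ZMod.natCast_eq_natCast_iff] at h2 ⊢
  push_cast at h2 ⊢
  rwa [ZMod.pow_card] at h2

end final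

theorem main3761 {G : Type*} [Group G] [Finite G] {p : ℕ} [Fact p.Prime] (hG : IsPGroup p G) (hna : ¬ IsMulCommutative G) (U : Subgroup G) [U.Normal] (hU : IsCyclic U) (n : ℕ) (hUn : Nat.card U = p ^ n) (hC : Subgroup.centralizer (U : Set G) = U) : (p = 2 ∧ Nat.card G = 2 ^ (n + 1) ∧ ((∃ m : ℕ, Nonempty (G ≃* DihedralGroup m)) ∨ (∃ m : ℕ, Nonempty (G ≃* QuaternionGroup m)) ∨ Cfsg.IsQuasiDihedral G)) ∨ (U.relIndex (Subgroup.centralizer (Cfsg.powerClosure p 1 U : Set G)) = p ∧ Cfsg.IsElementaryAbelian p (Cfsg.omegaOne p (Subgroup.centralizer (Cfsg.powerClosure p 1 U : Set G))) ∧ Nat.card ↥(Cfsg.omegaOne p (Subgroup.centralizer (Cfsg.powerClosure p 1 U : Set G))) = p ^ 2 ∧ (Cfsg.omegaOne p (Subgroup.centralizer (Cfsg.powerClosure p 1 U : Set G))).Characteristic) := by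
  obtain ⟨g0, hg0⟩ := hU.exists_generator
  obtain ⟨u, hudef⟩ : ∃ u : G, u = (g0 : G) := ⟨_, rfl⟩
  have hu : U = Subgroup.zpowers u := by
    ext x
    constructor
    · intro hx
      obtain ⟨k, hk⟩ := Subgroup.mem_zpowers_iff.1 (hg0 ⟨x, hx⟩)
      rw [hudef]
      refine Subgroup.mem_zpowers_iff.2 ⟨k, ?_⟩
      have := congrArg Subtype.val hk
      simpa using this
    · intro hx
      obtain ⟨k, hk⟩ := Subgroup.mem_zpowers_iff.1 hx
      rw [← hk, hudef]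
      exact U.zpow_mem g0.2 k
  have ho : orderOf u = p ^ n := by
    rw [← Nat.card_zpowers, ← hu, hUn]
  have c : Ctx G p n U u := ⟨hu, ho, hC⟩
  have hex : ∃ g, g ∉ U := by
    by_contra hcon
    push Not at hcon
    apply hna
    refine ⟨⟨fun a b => ?_⟩⟩
    have ha := hcon a
    have hb := hcon b
    rw [hu] at ha hb
    obtain ⟨i, rfl⟩ := Subgroup.mem_zpowers_iff.1 ha
    obtain ⟨j, rfl⟩ := Subgroup.mem_zpowers_iff.1 hb
    exact ((Commute.refl u).zpow_zpow i j).eq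
  obtain ⟨g₀, hg₀⟩ := hex
  have hn2 := c.n_ge_two hG hg₀
  by_cases hM : ∃ g, g ∈ MM p U ∧ g ∉ U
  · obtain ⟨g, hgM, hgU⟩ := hM
    by_cases h22 : p = 2 ∧ n = 2
    · left
      obtain ⟨rfl, rfl⟩ := h22
      have hidx := c.case22 ⟨g₀, hg₀⟩
      exact ⟨rfl, alt1 hC hU hUn (le_refl 2) hidx hna (Or.inl rfl)⟩
    · right
      have hpn : p ≠ 2 ∨ 3 ≤ n := by
        by_cases hp2 : p = 2
        · right
          have : n ≠ 2 := fun h => h22 ⟨hp2, h⟩
          omega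
        · left; exact hp2
      exact c.alt2 hn2 hpn hgM hgU
  · left
    have hno : ∀ g, g ∈ MM p U → g ∈ U := by
      intro g hg
      by_contra hgU
      exact hM ⟨g, hg, hgU⟩
    obtain ⟨rfl, hidx, hn3⟩ := c.caseNo hG ⟨g₀, hg₀⟩ hno
    exact ⟨rfl, alt1 hC hU hUn hn2 hidx hna (Or.inr hno)⟩


/-- Let G be a finite non-abelian p-group with a cyclic normal subgroup U of order p^n such that C_G(U) = U. Then either p = 2 and G is dihedral, generalized quaternion or semidihedral of order 2^(n+1); or, writing U₁ for the subgroup generated by the p-th powers of elements of U and M = C_G(U₁), the subgroup U has index p in M and the subgroup Ω₁(M) generated by the elements of M of order dividing p is elementary abelian of order p² and characteristic in G. -/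
theorem result {G : Type*} [Group G] [Finite G] {p : ℕ} [Fact p.Prime] (hG : IsPGroup p G) (hna : ¬ IsMulCommutative G) (U : Subgroup G) [U.Normal] (hU : IsCyclic U) (n : ℕ) (hUn : Nat.card U = p ^ n) (hC : Subgroup.centralizer (U : Set G) = U) : (p = 2 ∧ Nat.card G = 2 ^ (n + 1) ∧ ((∃ m : ℕ, Nonempty (G ≃* DihedralGroup m)) ∨ (∃ m : ℕ, Nonempty (G ≃* QuaternionGroup m)) ∨ Cfsg.IsQuasiDihedral G)) ∨ (U.relIndex (Subgroup.centralizer (Cfsg.powerClosure p 1 U : Set G)) = p ∧ Cfsg.IsElementaryAbelian p (Cfsg.omegaOne p (Subgroup.centralizer (Cfsg.powerClosure p 1 U : Set G))) ∧ Nat.card ↥(Cfsg.omegaOne p (Subgroup.centralizer (Cfsg.powerClosure p 1 U : Set G))) = p ^ 2 ∧ (Cfsg.omegaOne p (Subgroup.centralizer (Cfsg.powerClosure p 1 U : Set G))).Characteristic) := by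
  exact main3761 hG hna U hU n hUn hC

end Cfsg.Agent.S3761
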