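import Mathlib
import Cfsg.Statements.S3766
import Cfsg.Agent.S0008
import Cfsg.Agent.S0044
import Cfsg.Agent.Lib.Lead.ThreeSubgroups
import Cfsg.Agent.Lib.Helper7.CommSup
import Cfsg.Agent.Lib.Helper7.PiCore

set_option autoImplicit false

open Cfsg

namespace Cfsg.Agent.S3766

open Cfsg.Agent.Lib.Helper7 Cfsg.Agent.Lib.Lead
open scoped commutatorElement

section iter
variable {G : Type*} [Group G]

/-- iterated commutator `⁅…⁅W, D⁆, …, D⁆` -/
def iter (D : Subgroup G) : ℕ → Subgroup G → Subgroup G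
  | 0, W => W
  | k + 1, W => ⁅iter D k W, D⁆

lemma iter_zero (D W : Subgroup G) : iter D 0 W = W := rfl

lemma iter_succ (D : Subgroup G) (k : ℕ) (W : Subgroup G) : iter D (k + 1) W = ⁅iter D k W, D⁆ := rfl

lemma iter_mono (D : Subgroup G) (k : ℕ) {W W' : Subgroup G} (h : W ≤ W') :
    iter D k W ≤ iter D k W' := by
  induction k with
  | zero => exact h
  | succ k ih => exact Subgroup.commutator_mono ih le_rfl

lemma iter_shift (D : Subgroup G) (k : ℕ) (W : Subgroup G) :
    iter D (k + 1) W = iter D k ⁅W, D⁆ := by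
  induction k with
  | zero => rfl
  | succ k ih => rw [iter_succ, ih, ← iter_succ]

lemma iter_normal (D : Subgroup G) [D.Normal] (k : ℕ) (W : Subgroup G) [W.Normal] :
    (iter D k W).Normal := by
  induction k with
  | zero => exact ‹W.Normal›
  | succ k ih =>
    haveI := ih
    rw [iter_succ]; infer_instance

lemma iter_bot (D : Subgroup G) (k : ℕ) : iter D k ⊥ = ⊥ := by
  induction k with
  | zero => rfl
  | succ k ih => rw [iter_succ, ih]; exact Subgroup.commutator_bot_left D

lemma lcs_eq_iter (D : Subgroup G) (k : ℕ) : D.lowerCentralSeries k = iter D k D := by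
  induction k with
  | zero => rfl
  | succ k ih => rw [Subgroup.lowerCentralSeries_succ, ih, iter_succ]

/-- a nilpotent normal subgroup centralizes every chief factor -/
lemma centralizes_of_nilpotent (F U V : Subgroup G) [F.Normal] [U.Normal] [V.Normal]
    (hF : Group.IsNilpotent F) (hVU : V < U)
    (hchief : ∀ W : Subgroup G, W.Normal → V ≤ W → W ≤ U → W = V ∨ W = U) : ⁅U, F⁆ ≤ V := by
  have hW : (⁅U, F⁆ ⊔ V).Normal := inferInstance
  rcases hchief (⁅U, F⁆ ⊔ V) hW le_sup_right
    (sup_le (Subgroup.commutator_le_left U F) hVU.le) with h | h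
  · rw [← h]; exact le_sup_left
  · exfalso
    obtain ⟨c, hc⟩ := (Subgroup.isNilpotent_iff_lowerCentralSeries F).1 hF
    have key : ∀ k, U ≤ iter F k U ⊔ V := by
      intro k
      induction k with
      | zero => exact le_sup_left
      | succ k ih =>
        haveI := iter_normal F k U
        haveI := iter_normal F (k + 1) U
        have h1 : ⁅U, F⁆ ≤ iter F (k + 1) U ⊔ V := by
          calc ⁅U, F⁆ ≤ ⁅iter F k U ⊔ V, F⁆ := Subgroup.commutator_mono ih le_rfl
            _ ≤ iter F (k + 1) U ⊔ V := by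
              apply commutator_sup_left_le
              · exact le_sup_left
              · exact (Subgroup.commutator_le_left V F).trans le_sup_right
        have h5 : U ≤ ⁅U, F⁆ ⊔ V := le_of_eq h.symm
        exact h5.trans (sup_le h1 le_sup_right)
    have h2 : iter F (c + 1) U ≤ iter F c F := by
      rw [iter_shift]; exact iter_mono F c (Subgroup.commutator_le_right U F)
    have h3 : iter F c F = ⊥ := by rw [← lcs_eq_iter]; exact hc
    have h4 := key (c + 1)
    rw [h3, le_bot_iff] at h2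
    rw [h2, bot_sup_eq] at h4
    exact absurd hVU (not_lt_of_ge h4)

lemma relCentralizer_normal (V U : Subgroup G) [hV : V.Normal] [hU : U.Normal] :
    (relCentralizer V U).Normal := by
  constructor
  intro x hx t c hc
  have h1 : ⁅t * x * t⁻¹, c⁆ = t * ⁅x, t⁻¹ * c * t⁆ * t⁻¹ := by
    simp only [commutatorElement_def]; group
  rw [h1]
  apply hV.conj_mem
  apply hx
  have := hU.conj_mem c hc t⁻¹
  simpa using this

end iter

section main
variable {G : Type*} [Group G] [Finite G]

/-- the Fitting subgroup of `N` as a subgroup of `G` -/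
abbrev FN (N : Subgroup G) : Subgroup G := (fittingSubgroup ↥N).map N.subtype

instance FN_normal (N : Subgroup G) [N.Normal] : (FN N).Normal :=
  ConjAct.normal_of_characteristic_of_normal

lemma FN_nilpotent (N : Subgroup G) : Group.IsNilpotent (FN N) := by
  haveI : Group.IsNilpotent (fittingSubgroup ↥N) := Cfsg.Agent.S0008.result
  exact Group.nilpotent_of_mulEquiv
    ((fittingSubgroup ↥N).equivMapOfInjective N.subtype N.subtype_injective)

lemma FN_le (N : Subgroup G) : FN N ≤ N := Subgroup.map_subtype_le _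

lemma mem_FN_of_centralizes (hG : Group.IsSolvable G) (N : Subgroup G) (x : G) (hxN : x ∈ N)
    (hx : x ∈ Subgroup.centralizer (FN N : Set G)) : x ∈ FN N := by
  haveI : Group.IsSolvable N := Group.isSolvable_of_isSolvable_injective N.subtype_injective
  have h1 : (⟨x, hxN⟩ : N) ∈ Subgroup.centralizer (fittingSubgroup ↥N : Set ↥N) := by
    rw [Subgroup.mem_centralizer_iff]
    intro y hy
    apply Subtype.ext
    have hyF : (y : G) ∈ FN N := ⟨y, hy, rfl⟩
    exact Subgroup.mem_centralizer_iff.1 hx (y : G) hyF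
  exact ⟨⟨x, hxN⟩, Cfsg.Agent.S0044.result h1, rfl⟩

lemma exists_iter_eq_bot (D : Subgroup G) [D.Normal] (F : Subgroup G)
    (hD : ∀ U V : Subgroup G, (U.Normal ∧ V.Normal ∧ V < U ∧
      ∀ W : Subgroup G, W.Normal → V ≤ W → W ≤ U → W = V ∨ W = U) → U ≤ F → ⁅U, D⁆ ≤ V) :
    ∀ (n : ℕ) (W : Subgroup G), Nat.card W = n → W.Normal → W ≤ F → ∃ k, iter D k W = ⊥ := by
  intro n
  induction n using Nat.strong_induction_on with
  | _ n ih =>
  intro W hn hWn hWF
  by_cases hW : W = ⊥
  · exact ⟨0, hW⟩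
  have hne : ({V : Subgroup G | V.Normal ∧ V < W}).Nonempty :=
    ⟨⊥, inferInstance, bot_lt_iff_ne_bot.2 hW⟩
  obtain ⟨V, ⟨hVn, hVW⟩, hmax⟩ := Set.exists_max_image {V : Subgroup G | V.Normal ∧ V < W}
    (fun V => Nat.card V) (Set.toFinite _) hne
  have hchief : ∀ X : Subgroup G, X.Normal → V ≤ X → X ≤ W → X = V ∨ X = W := by
    intro X hXn hVX hXW
    by_cases hXW' : X = W
    · exact Or.inr hXW'
    · left
      have hlt : X < W := lt_of_le_of_ne hXW hXW'
      exact (Subgroup.eq_of_le_of_card_ge hVX (hmax X ⟨hXn, hlt⟩)).symm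
  have h1 : ⁅W, D⁆ ≤ V := hD W V ⟨hWn, hVn, hVW, hchief⟩ hWF
  have hcard : Nat.card V < n := by
    rw [← hn]
    rcases (Subgroup.card_le_of_le hVW.le).lt_or_eq with h | h
    · exact h
    · exact absurd (Subgroup.eq_of_le_of_card_ge hVW.le (le_of_eq h.symm)) (ne_of_lt hVW)
  obtain ⟨k, hk⟩ := ih _ hcard V rfl hVn (hVW.le.trans hWF)
  refine ⟨k + 1, ?_⟩
  rw [iter_shift, eq_bot_iff, ← hk]
  exact iter_mono D k h1

lemma nilpotent_of_iter (hG : Group.IsSolvable G) (N : Subgroup G) [N.Normal] (D : Subgroup G)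
    [D.Normal] (hDN : D ≤ N) (k : ℕ) (hk : iter D k (FN N) = ⊥) : Group.IsNilpotent D := by
  have C1 : ∀ j i : ℕ, ⁅iter D i (FN N), D.lowerCentralSeries j⁆ ≤ iter D (i + j + 1) (FN N) := by
    intro j
    induction j with
    | zero => intro i; exact le_rfl
    | succ j ih =>
      intro i
      haveI : (iter D (i + (j + 1) + 1) (FN N)).Normal := iter_normal D _ _
      rw [Subgroup.lowerCentralSeries_succ, Subgroup.commutator_comm]
      apply commutator_commutator_le_of_rotate
      · rw [Subgroup.commutator_comm D (iter D i (FN N)), ← iter_succ]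
        have := ih (i + 1)
        have e : i + 1 + j + 1 = i + (j + 1) + 1 := by omega
        rwa [e] at this
      · calc ⁅⁅iter D i (FN N), D.lowerCentralSeries j⁆, D⁆
            ≤ ⁅iter D (i + j + 1) (FN N), D⁆ := Subgroup.commutator_mono (ih i) le_rfl
          _ = iter D (i + (j + 1) + 1) (FN N) := by
            rw [← iter_succ]; rfl
  have h1 : ⁅FN N, D.lowerCentralSeries k⁆ = ⊥ := by
    have h2 := C1 k 0
    rw [iter_zero] at h2
    have h3 : iter D (0 + k + 1) (FN N) = ⊥ := by
      have e : 0 + k + 1 = k + 1 := by omega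
      rw [e, iter_succ, hk]; exact Subgroup.commutator_bot_left D
    rw [h3] at h2
    exact le_bot_iff.1 h2
  have h2 : D.lowerCentralSeries k ≤ FN N := by
    intro x hx
    apply mem_FN_of_centralizes hG N x (hDN (D.lowerCentralSeries_le_self k hx))
    rw [Subgroup.commutator_comm, Subgroup.commutator_eq_bot_iff_le_centralizer] at h1
    exact h1 hx
  have C2 : ∀ j : ℕ, D.lowerCentralSeries (k + j) ≤ iter D j (FN N) := by
    intro j
    induction j with
    | zero => exact h2
    | succ j ih =>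
      have e : k + (j + 1) = (k + j) + 1 := by omega
      rw [e, Subgroup.lowerCentralSeries_succ, iter_succ]
      exact Subgroup.commutator_mono ih le_rfl
  rw [Subgroup.isNilpotent_iff_lowerCentralSeries]
  refine ⟨k + k, ?_⟩
  rw [eq_bot_iff, ← hk]
  exact C2 k

lemma mem_of_centralizes (hG : Group.IsSolvable G) (N : Subgroup G) [N.Normal] (g : G)
    (hgN : g ∈ N)
    (hg : ∀ U V : Subgroup G, (U.Normal ∧ V.Normal ∧ V < U ∧
      ∀ W : Subgroup G, W.Normal → V ≤ W → W ≤ U → W = V ∨ W = U) →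
      U ≤ FN N → ∀ u ∈ U, u * g * u⁻¹ * g⁻¹ ∈ V) : g ∈ FN N := by
  set D : Subgroup G := Subgroup.normalClosure {g} with hDdef
  haveI : D.Normal := Subgroup.normalClosure_normal
  have hgD : g ∈ D := Subgroup.subset_normalClosure (Set.mem_singleton g)
  have hDN : D ≤ N := Subgroup.normalClosure_le_normal (by simpa using hgN)
  have hD : ∀ U V : Subgroup G, (U.Normal ∧ V.Normal ∧ V < U ∧
      ∀ W : Subgroup G, W.Normal → V ≤ W → W ≤ U → W = V ∨ W = U) → U ≤ FN N → ⁅U, D⁆ ≤ V := by
    intro U V hUV hUF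
    haveI := hUV.1
    haveI := hUV.2.1
    haveI := relCentralizer_normal V U
    rw [Subgroup.commutator_comm, commutator_le_iff_le_relCentralizer]
    apply Subgroup.normalClosure_le_normal
    intro x hx
    rw [Set.mem_singleton_iff] at hx
    subst hx
    intro c hc
    have h1 := hg U V hUV hUF c hc
    have h2 : ⁅x, c⁆ = (c * x * c⁻¹ * x⁻¹)⁻¹ := by
      simp only [commutatorElement_def]; group
    rw [h2]
    exact V.inv_mem h1
  obtain ⟨k, hk⟩ := exists_iter_eq_bot D (FN N) hD _ (FN N) rfl inferInstance le_rfl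
  have hDnil : Group.IsNilpotent D := nilpotent_of_iter hG N D hDN k hk
  have hsub : D.subgroupOf N ≤ fittingSubgroup ↥N := by
    apply le_sSup
    refine ⟨inferInstance, ?_⟩
    exact Group.nilpotent_of_mulEquiv (Subgroup.subgroupOfEquivOfLe hDN).symm
  exact ⟨⟨g, hgN⟩, hsub (Subgroup.mem_subgroupOf.2 hgD), rfl⟩

end main

/-- Let G be a finite solvable group and N a normal subgroup of G. Call a pair V < U of normal subgroups of G a chief factor of G when no normal subgroup of G lies strictly between them; an element g centralizes the chief factor U/V when u g u⁻¹ g⁻¹ ∈ V for all u ∈ U. Then an element of G lies in the Fitting subgroup F(N) if and only if it lies in N and centralizes every chief factor of G; and also if and only if it lies in N and centralizes every chief factor U/V of G with U ≤ F(N). -/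
theorem result {G : Type*} [Group G] [Finite G] (hG : Group.IsSolvable G) (N : Subgroup G) [N.Normal] (g : G) : (g ∈ (Cfsg.fittingSubgroup ↥N).map N.subtype ↔ g ∈ N ∧ ∀ U V : Subgroup G, (U.Normal ∧ V.Normal ∧ V < U ∧ ∀ W : Subgroup G, W.Normal → V ≤ W → W ≤ U → W = V ∨ W = U) → ∀ u ∈ U, u * g * u⁻¹ * g⁻¹ ∈ V) ∧ (g ∈ (Cfsg.fittingSubgroup ↥N).map N.subtype ↔ g ∈ N ∧ ∀ U V : Subgroup G, (U.Normal ∧ V.Normal ∧ V < U ∧ ∀ W : Subgroup G, W.Normal → V ≤ W → W ≤ U → W = V ∨ W = U) → U ≤ (Cfsg.fittingSubgroup ↥N).map N.subtype → ∀ u ∈ U, u * g * u⁻¹ * g⁻¹ ∈ V) := by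
  have part1 : g ∈ FN N → ∀ U V : Subgroup G, (U.Normal ∧ V.Normal ∧ V < U ∧
      ∀ W : Subgroup G, W.Normal → V ≤ W → W ≤ U → W = V ∨ W = U) →
      ∀ u ∈ U, u * g * u⁻¹ * g⁻¹ ∈ V := by
    intro hgF U V hUV u hu
    haveI := hUV.1
    haveI := hUV.2.1
    have h1 := centralizes_of_nilpotent (FN N) U V (FN_nilpotent N) hUV.2.2.1 hUV.2.2.2
    have h2 : ⁅u, g⁆ ∈ V := Subgroup.commutator_le.1 h1 u hu g hgF
    rwa [commutatorElement_def] at h2
  refine ⟨⟨fun h => ⟨FN_le N h, part1 h⟩, ?_⟩, ⟨fun h => ⟨FN_le N h, fun U V hUV _ => part1 h U V hUV⟩, ?_⟩⟩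
  · rintro ⟨hgN, hg⟩
    exact mem_of_centralizes hG N g hgN (fun U V hUV _ => hg U V hUV)
  · rintro ⟨hgN, hg⟩
    exact mem_of_centralizes hG N g hgN hg

end Cfsg.Agent.S3766
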