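import Cfsg.Statements.S3768
import Cfsg.Agent.Lib.Helper4.FrobBasic

set_option autoImplicit false
open Cfsg

namespace Cfsg.Agent.S3768

open Cfsg.Agent.Lib.Helper4 in
/-- Let G be a finite Frobenius group with Frobenius complement R and Frobenius kernel K (the identity together with the elements in no conjugate of R), and let N be a normal subgroup of G not containing K. Then G/N is a Frobenius group with Frobenius complement RN/N whose Frobenius kernel is the image of K. -/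
theorem result {G : Type*} [Group G] [Finite G] (R : Subgroup G) (hR : Cfsg.IsFrobeniusComplement R) (N : Subgroup G) [N.Normal] (hKN : ¬ Cfsg.frobeniusKernel R ⊆ N) : Cfsg.IsFrobeniusComplement (R.map (QuotientGroup.mk' N)) ∧ Cfsg.frobeniusKernel (R.map (QuotientGroup.mk' N)) = QuotientGroup.mk' N '' Cfsg.frobeniusKernel R := by
  classical
  obtain ⟨K, hKset, hKn, hKc⟩ := Cfsg.Agent.Lib.Helper8.frobenius_kernel_thm R hR
  have hNn : N.Normal := inferInstance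
  have hKR : K ⊓ R = ⊥ := hKc.disjoint.eq_bot
  have hmemK : ∀ x, x ∈ K ↔ x ∈ Cfsg.frobeniusKernel R := fun x => by rw [← hKset]; rfl
  -- Step A : N ≤ K
  have hNK : N ≤ K := by
    by_contra hcon
    obtain ⟨x, hxN, hxK⟩ := SetLike.not_le_iff_exists.mp hcon
    rw [hmemK] at hxK
    obtain ⟨hx1, g, hg⟩ := frb_not_mem_kernel hxK
    obtain ⟨y, hy⟩ : ∃ y, y = g⁻¹ * x * g := ⟨_, rfl⟩
    rw [← hy] at hg
    have hyN : y ∈ N := by
      have := hNn.conj_mem x hxN g⁻¹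
      rw [hy]; simpa using this
    have hy1 : y ≠ 1 := by
      intro h; apply hx1
      have e : x = g * y * g⁻¹ := by rw [hy]; group
      rw [e, h]; group
    apply hKN
    intro k hk
    rw [← hmemK] at hk
    have hmem : ∀ k : G, k ∈ K → k * y * k⁻¹ * y⁻¹ ∈ K ⊓ N := by
      intro k hk
      refine Subgroup.mem_inf.mpr ⟨?_, ?_⟩
      · have h1 : y * k⁻¹ * y⁻¹ ∈ K := hKn.conj_mem _ (K.inv_mem hk) y
        have e : k * y * k⁻¹ * y⁻¹ = k * (y * k⁻¹ * y⁻¹) := by group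
        rw [e]; exact K.mul_mem hk h1
      · have h1 : k * y * k⁻¹ ∈ N := hNn.conj_mem _ hyN k
        exact N.mul_mem h1 (N.inv_mem hyN)
    have hcard : Nat.card K ≤ Nat.card (K ⊓ N : Subgroup G) := by
      apply Nat.card_le_card_of_injective
        (fun k : K => (⟨(k:G) * y * (k:G)⁻¹ * y⁻¹, hmem k k.2⟩ : (K ⊓ N : Subgroup G)))
      intro a b hab
      have h1 : (a:G) * y * (a:G)⁻¹ * y⁻¹ = (b:G) * y * (b:G)⁻¹ * y⁻¹ := congrArg Subtype.val hab
      have h2 : (a:G) * y * (a:G)⁻¹ = (b:G) * y * (b:G)⁻¹ := mul_right_cancel h1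
      exact Subtype.ext (frb_conj_inj hR hKR hg hy1 a.2 b.2 h2)
    have heq : K ⊓ N = K := Subgroup.eq_of_le_of_card_ge inf_le_left hcard
    have hle : K ≤ N := by rw [← heq]; exact inf_le_right
    exact hle hk
  have hRN : R ⊓ N = ⊥ := by
    rw [eq_bot_iff]; intro x hx
    have hx' := Subgroup.mem_inf.mp hx
    have : x ∈ K ⊓ R := Subgroup.mem_inf.mpr ⟨hNK hx'.2, hx'.1⟩
    rwa [hKR] at this
  have hkey : ∀ r ∈ R, r ≠ 1 → ∀ k ∈ K, r⁻¹ * k * r * k⁻¹ ∈ N → k ∈ N := by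
    intro r hr hr1 k hk hmem
    have hfmem : ∀ n : G, n ∈ N → r⁻¹ * n * r * n⁻¹ ∈ N := by
      intro n hn
      have h1 : r⁻¹ * n * r ∈ N := by
        have := hNn.conj_mem n hn r⁻¹
        simpa using this
      exact N.mul_mem h1 (N.inv_mem hn)
    have hinjK : ∀ a ∈ K, ∀ b ∈ K, r⁻¹ * a * r * a⁻¹ = r⁻¹ * b * r * b⁻¹ → a = b := by
      intro a ha b hb h
      apply frb_conj_inj hR hKR hr hr1 ha hb
      have h2 : a * r * a⁻¹ = r * (r⁻¹ * a * r * a⁻¹) := by group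
      have h3 : b * r * b⁻¹ = r * (r⁻¹ * b * r * b⁻¹) := by group
      rw [h2, h3, h]
    let f : N → N := fun n => ⟨r⁻¹ * (n:G) * r * (n:G)⁻¹, hfmem n n.2⟩
    have hfinj : Function.Injective f := by
      intro a b hab
      have h1 : r⁻¹ * (a:G) * r * (a:G)⁻¹ = r⁻¹ * (b:G) * r * (b:G)⁻¹ := congrArg Subtype.val hab
      exact Subtype.ext (hinjK a (hNK a.2) b (hNK b.2) h1)
    have hfsurj : Function.Surjective f := Finite.injective_iff_surjective.mp hfinj
    obtain ⟨n, hn⟩ := hfsurj ⟨_, hmem⟩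
    have h1 : r⁻¹ * (n:G) * r * (n:G)⁻¹ = r⁻¹ * k * r * k⁻¹ := congrArg Subtype.val hn
    have : (n:G) = k := hinjK n (hNK n.2) k hk h1
    rw [← this]; exact n.2
  obtain ⟨π, hπdef⟩ : ∃ π : G →* G ⧸ N, π = QuotientGroup.mk' N := ⟨_, rfl⟩
  rw [← hπdef]
  have hπsurj : Function.Surjective π := hπdef ▸ QuotientGroup.mk'_surjective N
  have hπeq : ∀ a b : G, π a = π b → a⁻¹ * b ∈ N := by
    intro a b h; rw [hπdef] at h; exact QuotientGroup.eq.mp h
  have hπ1 : ∀ a : G, π a = 1 → a ∈ N := by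
    intro a h; rw [hπdef] at h; exact (QuotientGroup.eq_one_iff a).mp h
  have hπN : ∀ a : G, a ∈ N → π a = 1 := by
    intro a h; rw [hπdef]; exact (QuotientGroup.eq_one_iff a).mpr h
  have hdecomp : ∀ g : G, ∃ k ∈ K, ∃ s ∈ R, g = k * s := by
    intro g
    obtain ⟨⟨k, s⟩, hks, -⟩ := Subgroup.IsComplement.existsUnique hKc g
    exact ⟨k, k.2, s, s.2, hks.symm⟩
  -- a conjugate relation in the quotient
  have hconj : ∀ g r r' : G, r ∈ R → r' ∈ R → r ≠ 1 → π r = π (g * r' * g⁻¹) → π g ∈ R.map π := by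
    intro g r r' hr hr' hr1 h
    obtain ⟨k, hk, s, hs, rfl⟩ := hdecomp g
    obtain ⟨r'', hr''⟩ : ∃ r'', r'' = s * r' * s⁻¹ := ⟨_, rfl⟩
    have hr''R : r'' ∈ R := hr'' ▸ R.mul_mem (R.mul_mem hs hr') (R.inv_mem hs)
    have e1 : k * s * r' * (k * s)⁻¹ = k * r'' * k⁻¹ := by rw [hr'']; group
    rw [e1] at h
    have h2 : r⁻¹ * (k * r'' * k⁻¹) ∈ N := hπeq _ _ h
    have h3 : r⁻¹ * r'' ∈ K := by
      have h4 : r''⁻¹ * k * r'' * k⁻¹ ∈ K := by
        have h5 : r''⁻¹ * k * r'' ∈ K := by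
          have := hKn.conj_mem k hk r''⁻¹
          simpa using this
        exact K.mul_mem h5 (K.inv_mem hk)
      have e : r⁻¹ * r'' = r⁻¹ * (k * r'' * k⁻¹) * (r''⁻¹ * k * r'' * k⁻¹)⁻¹ := by group
      rw [e]; exact K.mul_mem (hNK h2) (K.inv_mem h4)
    have h4 : r⁻¹ * r'' ∈ K ⊓ R := Subgroup.mem_inf.mpr ⟨h3, R.mul_mem (R.inv_mem hr) hr''R⟩
    rw [hKR, Subgroup.mem_bot] at h4
    have h5 : r'' = r := by
      have := congrArg (fun t => r * t) h4
      simpa using this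
    rw [h5] at h2
    have h6 : r⁻¹ * k * r * k⁻¹ ∈ N := by
      have e : r⁻¹ * k * r * k⁻¹ = r⁻¹ * (k * r * k⁻¹) := by group
      rw [e]; exact h2
    have hkN : k ∈ N := hkey r hr hr1 k hk h6
    refine ⟨s, hs, ?_⟩
    rw [map_mul, hπN k hkN, one_mul]
  have hπR1 : ∀ r ∈ R, π r = 1 → r = 1 := by
    intro r hr h
    have : r ∈ R ⊓ N := Subgroup.mem_inf.mpr ⟨hr, hπ1 r h⟩
    rwa [hRN, Subgroup.mem_bot] at this
  refine ⟨⟨?_, ?_, ?_⟩, ?_⟩
  · intro hbot
    obtain ⟨⟨r, hr⟩, hr1⟩ := (Subgroup.ne_bot_iff_exists_ne_one.mp hR.1)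
    apply hr1
    apply Subtype.ext
    apply hπR1 r hr
    have : π r ∈ R.map π := ⟨r, hr, rfl⟩
    rwa [hbot, Subgroup.mem_bot] at this
  · intro htop
    apply hKN
    intro k hk
    rw [← hmemK] at hk
    have : π k ∈ R.map π := by rw [htop]; trivial
    obtain ⟨r, hr, hrk⟩ := this
    have h1 : r⁻¹ * k ∈ N := hπeq _ _ hrk
    have h2 : r ∈ K := by
      have e : r = k * (r⁻¹ * k)⁻¹ := by group
      rw [e]; exact K.mul_mem hk (K.inv_mem (hNK h1))
    have h3 : r ∈ K ⊓ R := Subgroup.mem_inf.mpr ⟨h2, hr⟩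
    rw [hKR, Subgroup.mem_bot] at h3
    rw [h3] at h1
    simpa using h1
  · intro gbar hgbar
    obtain ⟨g, rfl⟩ := hπsurj gbar
    rw [eq_bot_iff]
    intro xbar hx
    obtain ⟨hx1, hx2⟩ := Subgroup.mem_inf.mp hx
    rw [Subgroup.mem_bot]
    by_contra hne
    apply hgbar
    obtain ⟨r, hr, rfl⟩ := hx1
    rw [frb_mem_smul_iff] at hx2
    obtain ⟨r', hr', hrr'⟩ := hx2
    have hr1 : r ≠ 1 := by
      intro h; apply hne; rw [h, map_one]
    apply hconj g r r' hr hr' hr1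
    rw [map_mul, map_mul, hrr', map_inv]; group
  · apply Set.eq_of_subset_of_subset
    · intro xbar hx
      obtain ⟨x, rfl⟩ := hπsurj xbar
      by_cases hxK : x ∈ Cfsg.frobeniusKernel R
      · exact ⟨x, hxK, rfl⟩
      · obtain ⟨hx1, g, hg⟩ := frb_not_mem_kernel hxK
        have h1 : π x = 1 := by
          apply frb_kernel_conj hx (π g)
          refine ⟨g⁻¹ * x * g, hg, ?_⟩
          rw [map_mul, map_mul, map_inv]
        exact ⟨1, Or.inl rfl, by rw [map_one, h1]⟩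
    · rintro xbar ⟨k, hk, rfl⟩
      rw [← hmemK] at hk
      apply frb_mem_kernel_of
      intro gbar hg
      obtain ⟨g, rfl⟩ := hπsurj gbar
      obtain ⟨r, hr, hrk⟩ := hg
      have e : π r = π (g⁻¹ * k * g) := by rw [hrk, map_mul, map_mul, map_inv]
      have h1 : r⁻¹ * (g⁻¹ * k * g) ∈ N := hπeq _ _ e
      have h2 : g⁻¹ * k * g ∈ K := by
        have := hKn.conj_mem k hk g⁻¹
        simpa using this
      have h3 : r ∈ K := by
        have e2 : r = (g⁻¹ * k * g) * (r⁻¹ * (g⁻¹ * k * g))⁻¹ := by group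
        rw [e2]; exact K.mul_mem h2 (K.inv_mem (hNK h1))
      have h4 : r ∈ K ⊓ R := Subgroup.mem_inf.mpr ⟨h3, hr⟩
      rw [hKR, Subgroup.mem_bot] at h4
      rw [h4, map_one] at hrk
      have h5 : π k = π g * ((π g)⁻¹ * π k * π g) * (π g)⁻¹ := by group
      rw [h5, ← hrk]; group

end Cfsg.Agent.S3768
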