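import Cfsg.Statements.S3771
import Mathlib
import Cfsg.Agent.Lib.Helper6.PG4
import Cfsg.Agent.Lib.Helper6.NormalEA

set_option autoImplicit false
open Cfsg Cfsg.Agent.Lib.Helper6

namespace Cfsg.Agent.S3771

theorem main3771 {R : Type*} [Group R] [Finite R] {p : ℕ} [Fact p.Prime] (hR : IsPGroup p R) (hrank : Cfsg.PRankLE p 2 R) (hexp : ∀ x : R, x ^ p = 1) : Nat.card R ≤ p ^ 3 := by
  have hpp : p.Prime := Fact.out
  by_cases hcomm : IsMulCommutative R
  · have h1 := hrank ⊤ inferInstance (fun a _ => hexp a)
    rw [Subgroup.card_top] at h1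
    exact h1.trans (Nat.pow_le_pow_right hpp.pos (by norm_num))
  · have hp2 : p ≠ 2 := by
      intro h
      subst h
      apply hcomm
      refine ⟨⟨fun a b => ?_⟩⟩
      have h1 := hexp a
      have h2 := hexp b
      have h3 := hexp (a * b)
      have ha : a⁻¹ = a := by rw [pow_two] at h1; exact inv_eq_of_mul_eq_one_right h1
      have hb : b⁻¹ = b := by rw [pow_two] at h2; exact inv_eq_of_mul_eq_one_right h2
      have hab : (a * b)⁻¹ = a * b := by
        rw [pow_two] at h3; exact inv_eq_of_mul_eq_one_right h3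
      rw [mul_inv_rev, ha, hb] at hab
      exact hab.symm
    have hnc : ¬ IsCyclic R := fun h => hcomm IsCyclic.isMulCommutative
    obtain ⟨E, hEn, hEe, hEcard⟩ := exists_normal_ea_sq hp2 (Nat.card R) R rfl hR hnc
    obtain ⟨k, hk⟩ := (IsPGroup.iff_card (p := p)).1 hR
    by_cases hk4 : 4 ≤ k
    · exfalso
      haveI := hEn
      obtain ⟨A, hAcard, hA⟩ := exists_abelian_cube hR hexp k hk4 hk E hEe.1 hEcard
      have h1 := hrank A hA (fun a _ => hexp a)
      rw [hAcard] at h1
      have := (Nat.pow_le_pow_iff_right hpp.one_lt).1 h1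
      omega
    · rw [hk]
      exact Nat.pow_le_pow_right hpp.pos (by omega)


/-- Let p be a prime and R a finite p-group of p-rank at most 2 (no elementary abelian subgroup of order p³) in which every element has order dividing p. Then R has order at most p³. -/
theorem result {R : Type*} [Group R] [Finite R] {p : ℕ} [Fact p.Prime] (hR : IsPGroup p R) (hrank : Cfsg.PRankLE p 2 R) (hexp : ∀ x : R, x ^ p = 1) : Nat.card R ≤ p ^ 3 := by
  exact main3771 hR hrank hexp

end Cfsg.Agent.S3771
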