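import Mathlib
import Cfsg.Statements.S3773
import Cfsg.Agent.S4054
import Cfsg.Agent.Lib.Helper9.ExtraSub
import Cfsg.Agent.Lib.Helper5.Frattini

set_option autoImplicit false
set_option maxHeartbeats 800000
open Cfsg
open scoped commutatorElement Pointwise

namespace Cfsg.Agent.S3773

universe u

section quad
variable {H : Type u} [Group H] [Finite H]

theorem c_eq (hc : ∀ x z : H, Commute (x ^ 2) z) (h4 : ∀ x : H, x ^ 4 = 1) (x y : H) :
    (x * y) ^ 2 * x ^ 2 * y ^ 2 = x * y * x⁻¹ * y⁻¹ := by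
  have hx : x ^ 4 = 1 := h4 x
  have hy : y ^ 4 = 1 := h4 y
  calc (x * y) ^ 2 * x ^ 2 * y ^ 2 = x * y * x * (y * x ^ 2) * y ^ 2 := by
        rw [pow_two (x * y)]; group
    _ = x * y * x * (x ^ 2 * y) * y ^ 2 := by rw [(hc x y).eq]
    _ = x * y * (x ^ 4 * x⁻¹) * (y ^ 4 * y⁻¹) := by group
    _ = x * y * x⁻¹ * y⁻¹ := by rw [hx, hy]; group

theorem c_central (hc : ∀ x z : H, Commute (x ^ 2) z) (x y z : H) :
    Commute ((x * y) ^ 2 * x ^ 2 * y ^ 2) z :=
  ((hc (x * y) z).mul_left (hc x z)).mul_left (hc y z)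

theorem c_mul (hc : ∀ x z : H, Commute (x ^ 2) z) (h4 : ∀ x : H, x ^ 4 = 1) (u u' v : H) :
    (u * u' * v) ^ 2 * (u * u') ^ 2 * v ^ 2 =
      ((u * v) ^ 2 * u ^ 2 * v ^ 2) * ((u' * v) ^ 2 * u' ^ 2 * v ^ 2) := by
  have hcen : ∀ w : H, Commute (u' * v * u'⁻¹ * v⁻¹) w := by
    intro w
    rw [← c_eq hc h4]
    exact c_central hc u' v w
  rw [c_eq hc h4, c_eq hc h4, c_eq hc h4]
  calc u * u' * v * (u * u')⁻¹ * v⁻¹
      = u * (u' * v * u'⁻¹ * v⁻¹) * u⁻¹ * (u * v * u⁻¹ * v⁻¹) := by group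
    _ = (u' * v * u'⁻¹ * v⁻¹) * u * u⁻¹ * (u * v * u⁻¹ * v⁻¹) := by rw [(hcen u).eq]
    _ = (u' * v * u'⁻¹ * v⁻¹) * (u * v * u⁻¹ * v⁻¹) := by group
    _ = (u * v * u⁻¹ * v⁻¹) * (u' * v * u'⁻¹ * v⁻¹) := (hcen _).eq

theorem qz (A B C : Subgroup H) [A.Normal]
    (hsqB : ∀ x : H, x ^ 2 ∈ B)
    (hBc : ∀ b ∈ B, ∀ x : H, Commute b x)
    (hB2 : ∀ b ∈ B, b ^ 2 = 1)
    (hBA : B ≤ A) (hCB : C ≤ B)
    (hA : ∀ x : H, ∀ a ∈ A, (x ^ 2)⁻¹ * (x * a) ^ 2 ∈ C)
    (l : ℕ) (hl : C.relIndex B = 2 ^ l)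
    (hcard : 2 ^ (2 * l + 1) ≤ A.index) :
    ∃ x : H, x ∉ A ∧ x ^ 2 ∈ C := by
  classical
  have hc : ∀ x z : H, Commute (x ^ 2) z := fun x z => hBc _ (hsqB x) z
  have h4 : ∀ x : H, x ^ 4 = 1 := by
    intro x
    have := hB2 _ (hsqB x)
    rw [← pow_mul] at this
    exact this
  haveI hCn : (C.subgroupOf B).Normal := by
    constructor
    intro n hn g
    rw [Subgroup.mem_subgroupOf] at hn ⊢
    have e : ((g * n * g⁻¹ : B) : H) = (n : H) := by
      rw [Subgroup.coe_mul, Subgroup.coe_mul, Subgroup.coe_inv]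
      have := (hBc _ n.2 (g : H)).eq
      rw [← this]
      group
    rw [e]
    exact hn
  let s : H ⧸ A → ↥B ⧸ C.subgroupOf B := fun v =>
    Quotient.liftOn' v (fun x => ((⟨x ^ 2, hsqB x⟩ : B) : ↥B ⧸ C.subgroupOf B)) (by
      intro x y hxy
      rw [QuotientGroup.leftRel_apply] at hxy
      show ((⟨x ^ 2, hsqB x⟩ : B) : ↥B ⧸ C.subgroupOf B) = ((⟨y ^ 2, hsqB y⟩ : B) : ↥B ⧸ C.subgroupOf B)
      rw [QuotientGroup.eq, Subgroup.mem_subgroupOf]
      have := hA x _ hxy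
      rw [mul_inv_cancel_left] at this
      simpa using this)
  have hs : ∀ x : H, s (x : H ⧸ A) = ((⟨x ^ 2, hsqB x⟩ : B) : ↥B ⧸ C.subgroupOf B) := fun x => rfl
  have hV2 : ∀ v : H ⧸ A, v * v = 1 := by
    intro v
    refine QuotientGroup.induction_on v ?_
    intro x
    rw [← QuotientGroup.mk_mul, QuotientGroup.eq_one_iff, ← pow_two]
    exact hBA (hsqB x)
  have hW2 : ∀ w : ↥B ⧸ C.subgroupOf B, w * w = 1 := by
    intro w
    refine QuotientGroup.induction_on w ?_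
    intro b
    rw [← QuotientGroup.mk_mul]
    have : b * b = 1 := Subtype.ext (by rw [Subgroup.coe_mul, ← pow_two]; exact hB2 _ b.2)
    rw [this]
    rfl
  have hW : Nat.card (↥B ⧸ C.subgroupOf B) = 2 ^ l := (Subgroup.index_eq_card _).symm.trans hl
  have hs1 : s 1 = 1 := by
    show s ((1 : H) : H ⧸ A) = 1
    rw [hs]
    have : (⟨(1 : H) ^ 2, hsqB 1⟩ : B) = 1 := Subtype.ext (one_pow 2)
    rw [this]
    rfl
  have hsq : ∀ u u' v : H ⧸ A, s (u * u' * v) * s (u * u') * s v =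
      (s (u * v) * s u * s v) * (s (u' * v) * s u' * s v) := by
    intro u u' v
    refine QuotientGroup.induction_on u ?_
    intro u
    refine QuotientGroup.induction_on u' ?_
    intro u'
    refine QuotientGroup.induction_on v ?_
    intro v
    simp only [← QuotientGroup.mk_mul, hs]
    congr 1
    apply Subtype.ext
    simp only [Subgroup.coe_mul]
    exact c_mul hc h4 u u' v
  have hcard' : 2 ^ (2 * l + 1) ≤ Nat.card (H ⧸ A) := by
    rw [← Subgroup.index_eq_card]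
    exact hcard
  obtain ⟨v, hv1, hv⟩ := Cfsg.Agent.S4054.exists_zero hV2 hW2 l hW s hs1 hsq hcard'
  revert hv1 hv
  refine QuotientGroup.induction_on v ?_
  intro x hv1 hv
  refine ⟨x, fun hx => hv1 ((QuotientGroup.eq_one_iff x).mpr hx), ?_⟩
  rw [hs] at hv
  have := (QuotientGroup.eq_one_iff _).mp hv
  exact Subgroup.mem_subgroupOf.mp this

end quad


section main
variable {G : Type u} [Group G] [Finite G]

theorem comm_central (hcl : (⊤ : Subgroup G).lowerCentralSeries 2 = ⊥) (x y z : G) :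
    Commute ⁅x, y⁆ z := by
  have h1 : ⁅x, y⁆ ∈ ⁅(⊤ : Subgroup G), ⊤⁆ :=
    Subgroup.commutator_mem_commutator (Subgroup.mem_top x) (Subgroup.mem_top y)
  have h2 : ⁅⁅x, y⁆, z⁆ ∈ ⁅⁅(⊤ : Subgroup G), ⊤⁆, ⊤⁆ :=
    Subgroup.commutator_mem_commutator h1 (Subgroup.mem_top z)
  have h3 : ⁅⁅(⊤ : Subgroup G), ⊤⁆, ⊤⁆ = ⊥ := hcl
  rw [h3, Subgroup.mem_bot] at h2
  exact commutatorElement_eq_one_iff_commute.mp h2

theorem sq_sq (hexp : ∀ x : G, x ^ 4 = 1) (x : G) : (x ^ 2) ^ 2 = 1 := by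
  rw [← pow_mul]
  exact hexp x

theorem comm_sq (hexp : ∀ x : G, x ^ 4 = 1)
    (hN : ∀ x y : G, x ^ 2 = 1 → y ^ 2 = 1 → (x * y) ^ 2 = 1) (x y : G) : ⁅x, y⁆ ^ 2 = 1 := by
  have e : ⁅x, y⁆ = x ^ 2 * (x⁻¹ * y) ^ 2 * (y⁻¹) ^ 2 := by
    rw [commutatorElement_def, pow_two (x⁻¹ * y)]
    group
  rw [e]
  exact hN _ _ (hN _ _ (sq_sq hexp x) (sq_sq hexp _)) (sq_sq hexp _)

theorem sq_central (hcl : (⊤ : Subgroup G).lowerCentralSeries 2 = ⊥) (hexp : ∀ x : G, x ^ 4 = 1)
    (hN : ∀ x y : G, x ^ 2 = 1 → y ^ 2 = 1 → (x * y) ^ 2 = 1) (x z : G) : Commute (x ^ 2) z := by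
  rw [← commutatorElement_eq_one_iff_commute]
  have hcz : Commute ⁅x, z⁆ x := comm_central hcl x z x
  have e : ⁅x ^ 2, z⁆ = x * ⁅x, z⁆ * x⁻¹ * ⁅x, z⁆ := by
    rw [commutatorElement_def, commutatorElement_def, pow_two]
    group
  rw [e, ← hcz.eq, mul_inv_cancel_right, ← pow_two]
  exact comm_sq hexp hN x z

/-- the subgroup of involutions -/
def Nsub (hN : ∀ x y : G, x ^ 2 = 1 → y ^ 2 = 1 → (x * y) ^ 2 = 1) : Subgroup G where
  carrier := {x | x ^ 2 = 1}
  mul_mem' := fun {a b} ha hb => hN a b ha hb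
  one_mem' := one_pow 2
  inv_mem' := fun {a} ha => by
    show (a⁻¹) ^ 2 = 1
    have ha' : a ^ 2 = 1 := ha
    rw [inv_pow, ha', inv_one]

theorem mem_Nsub (hN : ∀ x y : G, x ^ 2 = 1 → y ^ 2 = 1 → (x * y) ^ 2 = 1) (x : G) :
    x ∈ Nsub hN ↔ x ^ 2 = 1 := Iff.rfl

/-- the central involutions -/
def Zsub (hN : ∀ x y : G, x ^ 2 = 1 → y ^ 2 = 1 → (x * y) ^ 2 = 1) : Subgroup G :=
  Nsub hN ⊓ Subgroup.center G

theorem mem_Zsub (hN : ∀ x y : G, x ^ 2 = 1 → y ^ 2 = 1 → (x * y) ^ 2 = 1) (x : G) :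
    x ∈ Zsub hN ↔ x ^ 2 = 1 ∧ ∀ g : G, Commute x g := by
  show x ∈ Nsub hN ⊓ Subgroup.center G ↔ _
  rw [Subgroup.mem_inf, mem_Nsub, Subgroup.mem_center_iff]
  constructor
  · rintro ⟨h1, h2⟩
    exact ⟨h1, fun g => (h2 g).symm⟩
  · rintro ⟨h1, h2⟩
    exact ⟨h1, fun g => ((h2 g).eq).symm⟩

theorem Nsub_normal (hN : ∀ x y : G, x ^ 2 = 1 → y ^ 2 = 1 → (x * y) ^ 2 = 1) :
    (Nsub hN).Normal := by
  constructor
  intro n hn g
  show (g * n * g⁻¹) ^ 2 = 1
  have hn' : n ^ 2 = 1 := hn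
  calc (g * n * g⁻¹) ^ 2 = g * n ^ 2 * g⁻¹ := by rw [pow_two (g * n * g⁻¹), pow_two n]; group
    _ = 1 := by rw [hn']; group

theorem pow_le_of_lt {m a : ℕ} (h : 2 ^ m < 2 ^ (a + 1)) : 2 ^ m ≤ 2 ^ a := by
  apply Nat.pow_le_pow_right (by norm_num)
  have := (Nat.pow_lt_pow_iff_right (by norm_num : 1 < 2)).mp h
  omega

theorem card_eq_mul_relIndex (A B : Subgroup G) (h : A ≤ B) :
    Nat.card ↥A * A.relIndex B = Nat.card ↥B := by
  have := Subgroup.relIndex_mul_relIndex ⊥ A B bot_le h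
  rwa [Subgroup.relIndex_bot_left, Subgroup.relIndex_bot_left] at this

theorem bound (hG : IsPGroup 2 G) (hcl : (⊤ : Subgroup G).lowerCentralSeries 2 = ⊥)
    (hexp : ∀ x : G, x ^ 4 = 1)
    (hN : ∀ x y : G, x ^ 2 = 1 → y ^ 2 = 1 → (x * y) ^ 2 = 1) :
    Nat.card G ≤ Nat.card ↥(Zsub hN) ^ 2 * Nat.card ↥(Nsub hN) := by
  classical
  have hsqc := sq_central hcl hexp hN
  have hsqZ : ∀ x : G, x ^ 2 ∈ Zsub hN := by
    intro x
    rw [mem_Zsub]
    exact ⟨sq_sq hexp x, fun g => hsqc x g⟩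
  have hcommZ : ∀ x y : G, ⁅x, y⁆ ∈ Zsub hN := by
    intro x y
    rw [mem_Zsub]
    exact ⟨comm_sq hexp hN x y, fun g => comm_central hcl x y g⟩
  have hZN : Zsub hN ≤ Nsub hN := inf_le_left
  let P : Subgroup G → Prop := fun K => Zsub hN ≤ K ∧ ∀ x ∈ K, x ^ 2 = 1 → x ∈ Zsub hN
  have hPZ : P (Zsub hN) := ⟨le_refl _, fun x hx _ => hx⟩
  obtain ⟨K, hZK, hKmax⟩ := Finite.exists_le_maximal hPZ
  have hPK : P K := hKmax.prop
  haveI hKn : K.Normal := by
    constructor
    intro k hk g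
    have : g * k * g⁻¹ = ⁅g, k⁆ * k := by rw [commutatorElement_def]; group
    rw [this]
    exact K.mul_mem (hPK.1 (hcommZ g k)) hk
  haveI hNn : (Nsub hN).Normal := Nsub_normal hN
  have hKN : K ⊔ Nsub hN = ⊤ := by
    rw [eq_top_iff]
    intro x _
    by_contra hx
    have hPK' : P (K ⊔ Subgroup.zpowers x) := by
      refine ⟨le_trans hPK.1 le_sup_left, ?_⟩
      intro y hy hy2
      have hy' : y ∈ (K : Set G) * (Subgroup.zpowers x : Set G) := by
        rw [← Subgroup.normal_mul]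
        exact hy
      obtain ⟨k, hk, z, hz, rfl⟩ := Set.mem_mul.mp hy'
      obtain ⟨m, rfl⟩ := Subgroup.mem_zpowers_iff.mp hz
      rcases Int.even_or_odd' m with ⟨j, hj | hj⟩
      · have hxm : x ^ m ∈ K := by
          rw [hj, zpow_mul, zpow_ofNat]
          exact K.zpow_mem (hPK.1 (hsqZ x)) j
        exact hPK.2 _ (K.mul_mem hk hxm) hy2
      · exfalso
        have hxm : x ^ m = (x ^ 2) ^ j * x := by
          rw [hj, zpow_add, zpow_mul, zpow_one, zpow_ofNat]
        have hk' : k * (x ^ 2) ^ j ∈ K := K.mul_mem hk (K.zpow_mem (hPK.1 (hsqZ x)) j)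
        apply hx
        have e : x = (k * (x ^ 2) ^ j)⁻¹ * (k * x ^ m) := by rw [hxm]; group
        rw [e]
        exact Subgroup.mul_mem_sup (K.inv_mem hk') hy2
    have hle : K ≤ K ⊔ Subgroup.zpowers x := le_sup_left
    have := hKmax.le_of_ge hPK' hle
    exact hx (Subgroup.mem_sup_left (this (Subgroup.mem_sup_right (Subgroup.mem_zpowers x))))
  have hKNinf : K ⊓ Nsub hN = Zsub hN := by
    apply le_antisymm
    · rintro x ⟨hxK, hxN⟩
      exact hPK.2 x hxK hxN
    · exact le_inf hPK.1 hZN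
  have h1 : (Nsub hN).index = (Zsub hN).relIndex K := by
    have := Subgroup.relIndex_sup_right K (Nsub hN)
    rw [hKN, Subgroup.relIndex_top_right] at this
    rw [this, ← Subgroup.inf_relIndex_right (Nsub hN) K, inf_comm, hKNinf]
  haveI : Fact (Nat.Prime 2) := ⟨Nat.prime_two⟩
  obtain ⟨z, hz⟩ := (hG.to_subgroup (Zsub hN)).exists_card_eq
  obtain ⟨k, hk⟩ := (hG.to_subgroup K).exists_card_eq
  have h2 : (Zsub hN).relIndex K < 2 ^ (2 * z + 1) := by
    by_contra hcon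
    push Not at hcon
    haveI : ((Zsub hN).subgroupOf K).Normal := by
      constructor
      intro n hn g
      rw [Subgroup.mem_subgroupOf] at hn ⊢
      rw [mem_Zsub] at hn
      have e : ((g * n * g⁻¹ : K) : G) = (n : G) := by
        rw [Subgroup.coe_mul, Subgroup.coe_mul, Subgroup.coe_inv, ← (hn.2 (g : G)).eq]
        group
      rw [e, mem_Zsub]
      exact hn
    have hcen : ∀ b ∈ (Zsub hN).subgroupOf K, ∀ x : K, Commute b x := by
      intro b hb x
      rw [Subgroup.mem_subgroupOf, mem_Zsub] at hb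
      show b * x = x * b
      apply Subtype.ext
      rw [Subgroup.coe_mul, Subgroup.coe_mul]
      exact (hb.2 (x : G)).eq
    have hb2 : ∀ b ∈ (Zsub hN).subgroupOf K, b ^ 2 = 1 := by
      intro b hb
      rw [Subgroup.mem_subgroupOf, mem_Zsub] at hb
      apply Subtype.ext
      rw [Subgroup.coe_pow]
      exact hb.1
    obtain ⟨x, hxZ, hx2⟩ := qz (H := ↥K) ((Zsub hN).subgroupOf K) ((Zsub hN).subgroupOf K) ⊥
      (fun x => by
        rw [Subgroup.mem_subgroupOf, Subgroup.coe_pow]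
        exact hsqZ x)
      hcen hb2 (le_refl _) bot_le
      (fun x a ha => by
        rw [Subgroup.mem_bot, ((hcen a ha x).symm).mul_pow, hb2 a ha, mul_one, inv_mul_cancel])
      z
      (by
        rw [Subgroup.relIndex_bot_left, Nat.card_congr (Subgroup.subgroupOfEquivOfLe hPK.1).toEquiv]
        exact hz)
      hcon
    rw [Subgroup.mem_bot] at hx2
    apply hxZ
    rw [Subgroup.mem_subgroupOf]
    apply hPK.2 _ x.2
    have := congrArg (Subtype.val) hx2
    rwa [Subgroup.coe_pow] at this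
  have h3 : (Zsub hN).relIndex K ≤ Nat.card ↥(Zsub hN) ^ 2 := by
    have hdvd : (Zsub hN).relIndex K ∣ 2 ^ k := by
      rw [← hk]
      exact Subgroup.relIndex_dvd_card _ _
    obtain ⟨m, _, hm⟩ := (Nat.dvd_prime_pow Nat.prime_two).mp hdvd
    rw [hm] at h2 ⊢
    rw [hz, ← pow_mul, mul_comm]
    exact pow_le_of_lt h2
  calc Nat.card G = Nat.card ↥(Nsub hN) * (Nsub hN).index := (Subgroup.card_mul_index _).symm
    _ = Nat.card ↥(Nsub hN) * (Zsub hN).relIndex K := by rw [h1]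
    _ ≤ Nat.card ↥(Nsub hN) * Nat.card ↥(Zsub hN) ^ 2 := Nat.mul_le_mul_left _ h3
    _ = Nat.card ↥(Zsub hN) ^ 2 * Nat.card ↥(Nsub hN) := mul_comm _ _


theorem zpow_sq_eq (z : G) (k : ℤ) : (z ^ k) ^ 2 = (z ^ 2) ^ k := by
  rw [← zpow_natCast (z ^ k) 2, ← zpow_mul, mul_comm, zpow_mul, zpow_natCast]

theorem special_of_eq (hG : IsPGroup 2 G) (hcl : (⊤ : Subgroup G).lowerCentralSeries 2 = ⊥)
    (hexp : ∀ x : G, x ^ 4 = 1)
    (hN : ∀ x y : G, x ^ 2 = 1 → y ^ 2 = 1 → (x * y) ^ 2 = 1)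
    (hcard : Nat.card ↥(Nsub hN) ^ 3 ≤ Nat.card G) : Cfsg.IsSpecial 2 G := by
  classical
  haveI : Fact (Nat.Prime 2) := ⟨Nat.prime_two⟩
  haveI hNn : (Nsub hN).Normal := Nsub_normal hN
  have hb := bound hG hcl hexp hN
  have hZN : Zsub hN ≤ Nsub hN := inf_le_left
  have hNpos : 0 < Nat.card ↥(Nsub hN) := Nat.card_pos
  have h1 : Nat.card ↥(Nsub hN) ^ 2 ≤ Nat.card ↥(Zsub hN) ^ 2 := by
    have : Nat.card ↥(Nsub hN) ^ 2 * Nat.card ↥(Nsub hN)
        ≤ Nat.card ↥(Zsub hN) ^ 2 * Nat.card ↥(Nsub hN) := by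
      calc Nat.card ↥(Nsub hN) ^ 2 * Nat.card ↥(Nsub hN) = Nat.card ↥(Nsub hN) ^ 3 := by ring
        _ ≤ _ := le_trans hcard hb
    exact Nat.le_of_mul_le_mul_right this hNpos
  have h2 : Nat.card ↥(Nsub hN) ≤ Nat.card ↥(Zsub hN) :=
    (Nat.pow_le_pow_iff_left (by norm_num)).mp h1
  have hZeq : Zsub hN = Nsub hN := Subgroup.eq_of_le_of_card_ge hZN h2
  have hNcen : ∀ x : G, x ^ 2 = 1 → ∀ g : G, Commute x g := by
    intro x hx
    have : x ∈ Zsub hN := by rw [hZeq]; exact hx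
    exact ((mem_Zsub hN x).mp this).2
  have hGcard : Nat.card G = Nat.card ↥(Nsub hN) ^ 3 := by
    apply le_antisymm _ hcard
    calc Nat.card G ≤ Nat.card ↥(Zsub hN) ^ 2 * Nat.card ↥(Nsub hN) := hb
      _ = Nat.card ↥(Nsub hN) ^ 3 := by rw [hZeq]; ring
  obtain ⟨n, hn⟩ := (hG.to_subgroup (Nsub hN)).exists_card_eq
  have hidx : (Nsub hN).index = 2 ^ (2 * n) := by
    have := Subgroup.card_mul_index (Nsub hN)
    rw [hGcard, hn] at this
    have h3 : ((2 : ℕ) ^ n) ^ 3 = 2 ^ n * 2 ^ (2 * n) := by ring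
    rw [h3] at this
    exact Nat.eq_of_mul_eq_mul_left (by positivity) this
  -- (i) the centre lies in N
  have hcenN : Subgroup.center G ≤ Nsub hN := by
    intro z hz
    by_contra hzN
    have hz2 : z ^ 2 ≠ 1 := hzN
    have hzc : ∀ g : G, Commute z g := fun g => (Subgroup.mem_center_iff.mp hz g).symm
    have hwN : z ^ 2 ∈ Nsub hN := sq_sq hexp z
    have hw2 : (z ^ 2) ^ 2 = 1 := hwN
    have hword : orderOf (z ^ 2) = 2 := orderOf_eq_prime hw2 hz2
    have hzord : orderOf z = 4 := by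
      have := orderOf_eq_prime_pow (p := 2) (n := 1) (x := z) (by rw [pow_one]; exact hz2)
        (by norm_num; exact hexp z)
      simpa using this
    have hwle : Subgroup.zpowers (z ^ 2) ≤ Nsub hN := Subgroup.zpowers_le.mpr hwN
    have hrel := card_eq_mul_relIndex _ _ hwle
    rw [Nat.card_zpowers, hword, hn] at hrel
    have hn1 : 1 ≤ n := by
      rcases Nat.eq_zero_or_pos n with h0 | h0
      · rw [h0] at hrel
        omega
      · exact h0
    have h2n : (2 : ℕ) ^ n = 2 * 2 ^ (n - 1) := by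
      rw [← pow_succ']
      congr 1
      omega
    have hl : (Subgroup.zpowers (z ^ 2)).relIndex (Nsub hN) = 2 ^ (n - 1) := by
      rw [h2n] at hrel
      exact Nat.eq_of_mul_eq_mul_left (by norm_num) hrel
    have hAn : (Nsub hN ⊔ Subgroup.zpowers z).Normal := by
      constructor
      intro a ha g
      have : g * a * g⁻¹ = ⁅g, a⁆ * a := by rw [commutatorElement_def]; group
      rw [this]
      exact Subgroup.mul_mem _ (Subgroup.mem_sup_left (comm_sq hexp hN g a)) ha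
    have hdecomp : ∀ a ∈ Nsub hN ⊔ Subgroup.zpowers z, ∃ m ∈ Nsub hN, ∃ k : ℤ, a = m * z ^ k := by
      intro a ha
      have ha' : a ∈ ((Nsub hN : Subgroup G) : Set G) * (Subgroup.zpowers z : Set G) := by
        rw [← Subgroup.normal_mul]
        exact ha
      obtain ⟨m, hm, y, hy, rfl⟩ := Set.mem_mul.mp ha'
      obtain ⟨k, rfl⟩ := Subgroup.mem_zpowers_iff.mp hy
      exact ⟨m, hm, k, rfl⟩
    have hAcen : ∀ a ∈ Nsub hN ⊔ Subgroup.zpowers z, ∀ x : G, Commute a x := by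
      intro a ha x
      obtain ⟨m, hm, k, rfl⟩ := hdecomp a ha
      exact (hNcen m hm x).mul_left ((hzc x).zpow_left k)
    have hAsq : ∀ a ∈ Nsub hN ⊔ Subgroup.zpowers z, a ^ 2 ∈ Subgroup.zpowers (z ^ 2) := by
      intro a ha
      obtain ⟨m, hm, k, rfl⟩ := hdecomp a ha
      have hm' : m ^ 2 = 1 := hm
      rw [(hNcen m hm (z ^ k)).mul_pow, hm', one_mul, zpow_sq_eq]
      exact Subgroup.zpow_mem_zpowers _ _
    -- index of A
    have hrelA : (Nsub hN).relIndex (Nsub hN ⊔ Subgroup.zpowers z) ∣ 2 := by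
      rw [Subgroup.relIndex_sup_left (Subgroup.zpowers z) (Nsub hN),
        ← Subgroup.inf_relIndex_right (Nsub hN) (Subgroup.zpowers z)]
      have hwz : Subgroup.zpowers (z ^ 2) ≤ Subgroup.zpowers z :=
        Subgroup.zpowers_le.mpr (Subgroup.pow_mem _ (Subgroup.mem_zpowers z) 2)
      have hwI : Subgroup.zpowers (z ^ 2) ≤ Nsub hN ⊓ Subgroup.zpowers z := le_inf hwle hwz
      have e1 := Subgroup.relIndex_mul_relIndex _ _ _ hwI
        (inf_le_right : Nsub hN ⊓ Subgroup.zpowers z ≤ Subgroup.zpowers z)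
      have e2 := card_eq_mul_relIndex _ _ hwz
      rw [Nat.card_zpowers, Nat.card_zpowers, hword, hzord] at e2
      have e3 : (Subgroup.zpowers (z ^ 2)).relIndex (Subgroup.zpowers z) = 2 := by omega
      rw [e3] at e1
      exact Dvd.intro_left _ e1
    have hAidx : 2 ^ (2 * (n - 1) + 1) ≤ (Nsub hN ⊔ Subgroup.zpowers z).index := by
      have e1 := Subgroup.relIndex_mul_index
        (le_sup_left : Nsub hN ≤ Nsub hN ⊔ Subgroup.zpowers z)
      rw [hidx] at e1
      have hle2 : (Nsub hN).relIndex (Nsub hN ⊔ Subgroup.zpowers z) ≤ 2 :=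
        Nat.le_of_dvd (by norm_num) hrelA
      have e2 : (2 : ℕ) ^ (2 * n) = 2 * 2 ^ (2 * (n - 1) + 1) := by
        rw [← pow_succ']
        congr 1
        omega
      rw [e2] at e1
      by_contra hcon
      push Not at hcon
      have : (Nsub hN).relIndex (Nsub hN ⊔ Subgroup.zpowers z) *
          (Nsub hN ⊔ Subgroup.zpowers z).index < 2 * 2 ^ (2 * (n - 1) + 1) := by
        calc _ ≤ 2 * (Nsub hN ⊔ Subgroup.zpowers z).index := Nat.mul_le_mul_right _ hle2
          _ < 2 * 2 ^ (2 * (n - 1) + 1) := by omega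
      omega
    obtain ⟨x, hxA, hx2⟩ := qz (H := G) (Nsub hN ⊔ Subgroup.zpowers z) (Nsub hN)
      (Subgroup.zpowers (z ^ 2)) (fun x => sq_sq hexp x) (fun b hb x => hNcen b hb x)
      (fun b hb => hb) le_sup_left hwle
      (fun x a ha => by
        rw [((hAcen a ha x).symm).mul_pow, inv_mul_cancel_left]
        exact hAsq a ha)
      (n - 1) hl hAidx
    obtain ⟨k, hk⟩ := Subgroup.mem_zpowers_iff.mp hx2
    rcases Int.even_or_odd' k with ⟨j, hj | hj⟩
    · apply hxA
      apply Subgroup.mem_sup_left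
      show x ^ 2 = 1
      rw [← hk, hj, zpow_mul, zpow_ofNat, hw2, one_zpow]
    · apply hxA
      have hxz : x ^ 2 = z ^ 2 := by
        rw [← hk, hj, zpow_add, zpow_mul, zpow_ofNat, hw2, one_zpow, one_mul, zpow_one]
      have hmem : x * z⁻¹ ∈ Nsub hN := by
        show (x * z⁻¹) ^ 2 = 1
        rw [(((hzc x).symm).inv_right).mul_pow, hxz, inv_pow, mul_inv_cancel]
      have e : x = (x * z⁻¹) * z := by group
      rw [e]
      exact Subgroup.mul_mem_sup hmem (Subgroup.mem_zpowers z)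
  have hcen : Subgroup.center G = Nsub hN := by
    apply le_antisymm hcenN
    intro x hx
    rw [Subgroup.mem_center_iff]
    intro g
    exact ((hNcen x hx g).eq).symm
  -- (ii) the commutator subgroup
  have hDN : commutator G ≤ Nsub hN := by
    rw [commutator_def, Subgroup.commutator_le]
    intro x _ y _
    exact comm_sq hexp hN x y
  have hDeq : commutator G = Nsub hN := by
    by_contra hne
    obtain ⟨d, hd⟩ := (hG.to_subgroup (commutator G)).exists_card_eq
    have hdn : d < n := by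
      by_contra hcon
      push Not at hcon
      apply hne
      apply Subgroup.eq_of_le_of_card_ge hDN
      rw [hn, hd]
      exact Nat.pow_le_pow_right (by norm_num) hcon
    haveI hDn : (commutator G).Normal := inferInstance
    let ψ : G →* ↥(Nsub hN) ⧸ (commutator G).subgroupOf (Nsub hN) :=
      { toFun := fun x => ((⟨x ^ 2, sq_sq hexp x⟩ : Nsub hN) :
          ↥(Nsub hN) ⧸ (commutator G).subgroupOf (Nsub hN))
        map_one' := by
          have : (⟨(1 : G) ^ 2, sq_sq hexp 1⟩ : Nsub hN) = 1 := Subtype.ext (one_pow 2)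
          rw [this]
          rfl
        map_mul' := by
          intro x y
          rw [← QuotientGroup.mk_mul, QuotientGroup.eq, Subgroup.mem_subgroupOf]
          have e : (((⟨(x * y) ^ 2, sq_sq hexp (x * y)⟩ : Nsub hN)⁻¹ *
              ((⟨x ^ 2, sq_sq hexp x⟩ : Nsub hN) * (⟨y ^ 2, sq_sq hexp y⟩ : Nsub hN)) : Nsub hN) : G)
              = y⁻¹ * ⁅x⁻¹, y⁻¹⁆ * y⁻¹⁻¹ := by
            rw [Subgroup.coe_mul, Subgroup.coe_mul, Subgroup.coe_inv]
            show ((x * y) ^ 2)⁻¹ * (x ^ 2 * y ^ 2) = _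
            rw [commutatorElement_def, pow_two, pow_two, pow_two]
            group
          rw [e]
          apply hDn.conj_mem
          rw [commutator_def]
          exact Subgroup.commutator_mem_commutator (Subgroup.mem_top _) (Subgroup.mem_top _) }
    have hψ : ∀ x : G, x ∈ ψ.ker ↔ x ^ 2 ∈ commutator G := by
      intro x
      rw [MonoidHom.mem_ker]
      show ((⟨x ^ 2, sq_sq hexp x⟩ : Nsub hN) :
          ↥(Nsub hN) ⧸ (commutator G).subgroupOf (Nsub hN)) = 1 ↔ _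
      rw [QuotientGroup.eq_one_iff, Subgroup.mem_subgroupOf]
    have hNK : Nsub hN ≤ ψ.ker := by
      intro x hx
      rw [hψ]
      have hx' : x ^ 2 = 1 := hx
      rw [hx']
      exact Subgroup.one_mem _
    have hDK : commutator G ≤ ψ.ker := le_trans hDN hNK
    have hKidx : ψ.ker.index ≤ 2 ^ (n - d) := by
      rw [Subgroup.index_ker]
      have h3 : Nat.card ↥ψ.range ≤
          Nat.card (↥(Nsub hN) ⧸ (commutator G).subgroupOf (Nsub hN)) :=
        Subgroup.card_le_card_group _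
      have h4 : Nat.card (↥(Nsub hN) ⧸ (commutator G).subgroupOf (Nsub hN)) =
          (commutator G).relIndex (Nsub hN) := (Subgroup.index_eq_card _).symm
      have h5 := card_eq_mul_relIndex _ _ hDN
      rw [hd, hn] at h5
      have h6 : (2 : ℕ) ^ n = 2 ^ d * 2 ^ (n - d) := by
        rw [← pow_add]
        congr 1
        omega
      rw [h6] at h5
      have h7 : (commutator G).relIndex (Nsub hN) = 2 ^ (n - d) :=
        Nat.eq_of_mul_eq_mul_left (by positivity) h5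
      rw [h4, h7] at h3
      exact h3
    haveI hNKn : ((Nsub hN).subgroupOf ψ.ker).Normal := inferInstance
    have hcenK : ∀ b : ψ.ker, (b : G) ^ 2 = 1 → ∀ x : ψ.ker, Commute b x := by
      intro b hb x
      show b * x = x * b
      apply Subtype.ext
      rw [Subgroup.coe_mul, Subgroup.coe_mul]
      exact (hNcen _ hb (x : G)).eq
    have hcardK : 2 ^ (2 * d + 1) ≤ ((Nsub hN).subgroupOf ψ.ker).index := by
      show 2 ^ (2 * d + 1) ≤ (Nsub hN).relIndex ψ.ker
      have e1 := Subgroup.relIndex_mul_index hNK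
      rw [hidx] at e1
      have e2 : (2 : ℕ) ^ (2 * n) = 2 ^ (n + d) * 2 ^ (n - d) := by
        rw [← pow_add]
        congr 1
        omega
      have e3 : 2 ^ (n + d) * 2 ^ (n - d) ≤ (Nsub hN).relIndex ψ.ker * 2 ^ (n - d) := by
        rw [← e2, ← e1]
        exact Nat.mul_le_mul_left _ hKidx
      have e4 : 2 ^ (n + d) ≤ (Nsub hN).relIndex ψ.ker :=
        Nat.le_of_mul_le_mul_right e3 (by positivity)
      refine le_trans (Nat.pow_le_pow_right (by norm_num) ?_) e4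
      omega
    obtain ⟨x, hxN, hx2⟩ := qz (H := ↥ψ.ker) ((Nsub hN).subgroupOf ψ.ker)
      ((commutator G).subgroupOf ψ.ker) ⊥
      (fun x => by
        rw [Subgroup.mem_subgroupOf, Subgroup.coe_pow]
        exact (hψ x).mp x.2)
      (fun b hb x => hcenK b (hDN (Subgroup.mem_subgroupOf.mp hb)) x)
      (fun b hb => by
        apply Subtype.ext
        rw [Subgroup.coe_pow]
        exact hDN (Subgroup.mem_subgroupOf.mp hb))
      (fun b hb => by
        rw [Subgroup.mem_subgroupOf] at hb ⊢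
        exact hDN hb)
      bot_le
      (fun x a ha => by
        have ha2 : (a : G) ^ 2 = 1 := Subgroup.mem_subgroupOf.mp ha
        have ha2' : a ^ 2 = 1 := by
          apply Subtype.ext
          rw [Subgroup.coe_pow]
          exact ha2
        rw [Subgroup.mem_bot, ((hcenK a ha2 x).symm).mul_pow, ha2', mul_one, inv_mul_cancel])
      d
      (by
        rw [Subgroup.relIndex_bot_left, Nat.card_congr (Subgroup.subgroupOfEquivOfLe hDK).toEquiv]
        exact hd)
      hcardK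
    rw [Subgroup.mem_bot] at hx2
    apply hxN
    rw [Subgroup.mem_subgroupOf]
    have := congrArg (Subtype.val) hx2
    rw [Subgroup.coe_pow] at this
    exact this
  -- (iii) the Frattini subgroup
  have hFr : frattini G = Nsub hN := by
    apply le_antisymm
    · have := Cfsg.Agent.Lib.Helper5.frattini_le_ker_of_elem_abelian (p := 2) Nat.prime_two
        (QuotientGroup.mk' (Nsub hN))
        (by
          intro a b
          refine QuotientGroup.induction_on a ?_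
          intro a
          refine QuotientGroup.induction_on b ?_
          intro b
          rw [← QuotientGroup.mk_mul, ← QuotientGroup.mk_mul, QuotientGroup.eq]
          have e : (a * b)⁻¹ * (b * a) = ⁅b⁻¹, a⁻¹⁆ := by
            rw [commutatorElement_def]
            group
          rw [e]
          exact comm_sq hexp hN _ _)
        (by
          intro a
          refine QuotientGroup.induction_on a ?_
          intro a
          rw [← QuotientGroup.mk_pow, QuotientGroup.eq_one_iff]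
          exact sq_sq hexp a)
      rwa [QuotientGroup.ker_mk'] at this
    · rw [← hDeq]
      exact Cfsg.Agent.Lib.Helper9.commutator_le_frattini_of_isPGroup 2 hG
  exact ⟨hG, hFr.trans hcen.symm, hDeq.trans hcen.symm⟩

theorem main3773 (hG : IsPGroup 2 G) (hcl : (⊤ : Subgroup G).lowerCentralSeries 2 = ⊥)
    (hexp : ∀ x : G, x ^ 4 = 1)
    (hN : ∀ x y : G, x ^ 2 = 1 → y ^ 2 = 1 → (x * y) ^ 2 = 1) :
    Nat.card G ≤ Nat.card {x : G // x ^ 2 = 1} ^ 3 ∧
      (¬ Cfsg.IsSpecial 2 G → Nat.card G < Nat.card {x : G // x ^ 2 = 1} ^ 3) := by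
  have hc : Nat.card {x : G // x ^ 2 = 1} = Nat.card ↥(Nsub hN) := rfl
  rw [hc]
  constructor
  · have hb := bound hG hcl hexp hN
    have hZN : Zsub hN ≤ Nsub hN := inf_le_left
    have hcZN : Nat.card ↥(Zsub hN) ≤ Nat.card ↥(Nsub hN) := Subgroup.card_le_of_le hZN
    calc Nat.card G ≤ Nat.card ↥(Zsub hN) ^ 2 * Nat.card ↥(Nsub hN) := hb
      _ ≤ Nat.card ↥(Nsub hN) ^ 2 * Nat.card ↥(Nsub hN) :=
        Nat.mul_le_mul_right _ (Nat.pow_le_pow_left hcZN 2)
      _ = Nat.card ↥(Nsub hN) ^ 3 := by ring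
  · intro hns
    by_contra hge
    push Not at hge
    exact hns (special_of_eq hG hcl hexp hN hge)

end main

/-- Let G be a finite 2-group of nilpotency class at most 2 and exponent dividing 4 in which the elements x with x² = 1 form a subgroup N. Then |G| ≤ |N|³, and |G| < |N|³ unless G is special. -/
theorem result {G : Type*} [Group G] [Finite G] (hG : IsPGroup 2 G) (hcl : (⊤ : Subgroup G).lowerCentralSeries 2 = ⊥) (hexp : ∀ x : G, x ^ 4 = 1) (hN : ∀ x y : G, x ^ 2 = 1 → y ^ 2 = 1 → (x * y) ^ 2 = 1) : Nat.card G ≤ Nat.card {x : G // x ^ 2 = 1} ^ 3 ∧ (¬ Cfsg.IsSpecial 2 G → Nat.card G < Nat.card {x : G // x ^ 2 = 1} ^ 3) := by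
  exact main3773 hG hcl hexp hN

end Cfsg.Agent.S3773
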