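import Cfsg.Statements.S3774
import Mathlib

set_option autoImplicit false
open Cfsg

namespace Cfsg.Agent.S3774


theorem two_pow_sub_one_dvd {m N : ℕ} (h : 2 ^ m - 1 ∣ 2 ^ N - 1) : m ∣ N := by
  have h1 : Nat.gcd (2 ^ m - 1) (2 ^ N - 1) = 2 ^ m - 1 := Nat.gcd_eq_left h
  rw [Nat.pow_sub_one_gcd_pow_sub_one] at h1
  have h2 : 2 ^ Nat.gcd m N = 2 ^ m := by
    have := Nat.one_le_two_pow (n := Nat.gcd m N)
    have := Nat.one_le_two_pow (n := m)
    omega
  have h3 : Nat.gcd m N = m := Nat.pow_right_injective (le_refl 2) h2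
  exact Nat.gcd_eq_left_iff_dvd.1 h3

theorem main3774 {G : Type*} [Group G] [Finite G] [Nontrivial G] (hG : IsPGroup 2 G)
    (htrans : ∀ x y : G, x ≠ 1 → x ^ 2 = 1 → y ≠ 1 → y ^ 2 = 1 → ∃ a : MulAut G, a x = y) :
    (∀ x : G, x ^ 2 = 1 → x ∈ Subgroup.center G) ∧
      ∃ m : ℕ, Nat.card G = Nat.card {z : G // z ^ 2 = 1} ^ m := by
  classical
  haveI : Fact (Nat.Prime 2) := ⟨Nat.prime_two⟩
  haveI := Fintype.ofFinite G
  -- the involution attached to a nonidentity element
  have hord : ∀ x : G, x ≠ 1 → 2 ∣ orderOf x := by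
    intro x hx
    obtain ⟨k, hk⟩ := (IsPGroup.iff_orderOf.1 hG) x
    rcases k with _ | k
    · rw [pow_zero, orderOf_eq_one_iff] at hk; exact absurd hk hx
    · rw [hk, pow_succ]; exact dvd_mul_left _ _
  have hf2 : ∀ x : G, x ≠ 1 → (x ^ (orderOf x / 2)) ^ 2 = 1 := by
    intro x hx
    rw [← pow_mul, Nat.div_mul_cancel (hord x hx)]
    exact pow_orderOf_eq_one x
  have hf1 : ∀ x : G, x ≠ 1 → x ^ (orderOf x / 2) ≠ 1 := by
    intro x hx
    have hpos : 0 < orderOf x := orderOf_pos x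
    obtain ⟨t, ht⟩ := hord x hx
    apply pow_ne_one_of_lt_orderOf
    · omega
    · omega
  -- central involution
  haveI := hG.center_nontrivial
  obtain ⟨z0, hz0⟩ := exists_ne (1 : Subgroup.center G)
  have hz0' : (z0 : G) ≠ 1 := fun h => hz0 (Subtype.ext h)
  obtain ⟨z, hzdef⟩ : ∃ z : G, z = (z0 : G) ^ (orderOf (z0 : G) / 2) := ⟨_, rfl⟩
  have hzc : z ∈ Subgroup.center G := by
    rw [hzdef]; exact Subgroup.pow_mem _ z0.2 _
  have hz1 : z ≠ 1 := by rw [hzdef]; exact hf1 _ hz0'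
  have hz2 : z ^ 2 = 1 := by rw [hzdef]; exact hf2 _ hz0'
  have hcent : ∀ x : G, x ^ 2 = 1 → x ∈ Subgroup.center G := by
    intro x hx
    by_cases hx1 : x = 1
    · rw [hx1]; exact Subgroup.one_mem _
    · obtain ⟨a, ha⟩ := htrans z x hz1 hz2 hx1 hx
      rw [← ha, Subgroup.mem_center_iff]
      intro g
      have h1 := Subgroup.mem_center_iff.1 hzc (a.symm g)
      have h2 := congrArg a h1
      simpa using h2
  refine ⟨hcent, ?_⟩
  -- the subgroup V
  obtain ⟨V, hV⟩ : ∃ V : Subgroup G, ∀ x, x ∈ V ↔ x ^ 2 = 1 := by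
    refine ⟨{ carrier := {x | x ^ 2 = 1}, mul_mem' := ?_, one_mem' := ?_, inv_mem' := ?_ }, ?_⟩
    · intro a b ha hb
      have hac := Subgroup.mem_center_iff.1 (hcent a ha)
      show (a * b) ^ 2 = 1
      have hcm : Commute a b := (hac b).symm
      rw [hcm.mul_pow, ha, hb, one_mul]
    · show (1 : G) ^ 2 = 1
      exact one_pow 2
    · intro a ha
      show a⁻¹ ^ 2 = 1
      rw [inv_pow, ha, inv_one]
    · intro x; exact Iff.rfl
  have hVq : Nat.card V = Nat.card {z : G // z ^ 2 = 1} :=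
    Nat.card_congr (Equiv.subtypeEquivRight hV)
  obtain ⟨m, hm⟩ := (IsPGroup.iff_card (p := 2)).1 (hG.to_subgroup V)
  obtain ⟨N, hN⟩ := (IsPGroup.iff_card (p := 2)).1 hG
  rw [← hVq, hm, hN]
  -- counting
  obtain ⟨s, hs⟩ : ∃ s : Finset G, s = Finset.univ.filter (fun x : G => x ≠ 1) := ⟨_, rfl⟩
  obtain ⟨t, ht⟩ : ∃ t : Finset G, t = Finset.univ.filter (fun v : G => v ≠ 1 ∧ v ^ 2 = 1) :=
    ⟨_, rfl⟩
  have hscard : s.card = 2 ^ N - 1 := by
    rw [hs, Finset.filter_ne' Finset.univ (1 : G), Finset.card_erase_of_mem (Finset.mem_univ _),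
      Finset.card_univ, ← Nat.card_eq_fintype_card, hN]
  have htcard : t.card = 2 ^ m - 1 := by
    have h1 : t = (Finset.univ.filter (fun v : G => v ^ 2 = 1)).erase 1 := by
      rw [ht]; ext v; simp
    rw [h1, Finset.card_erase_of_mem (by simp), ← hm, Nat.card_eq_fintype_card,
      Fintype.card_subtype]
    congr 2
    ext v; simp [hV]
  have hfib := Finset.card_eq_sum_card_fiberwise (s := s) (t := t)
    (f := fun x : G => x ^ (orderOf x / 2)) (by
      intro x hx
      rw [hs] at hx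
      have hx1 : x ≠ 1 := (Finset.mem_filter.1 hx).2
      rw [ht]
      exact Finset.mem_filter.2 ⟨Finset.mem_univ _, hf1 x hx1, hf2 x hx1⟩)
  have hle : ∀ v ∈ t, ∀ w ∈ t,
      (s.filter (fun x : G => x ^ (orderOf x / 2) = v)).card ≤
        (s.filter (fun x : G => x ^ (orderOf x / 2) = w)).card := by
    intro v hv w hw
    rw [ht] at hv hw
    obtain ⟨-, hv1, hv2⟩ := Finset.mem_filter.1 hv
    obtain ⟨-, hw1, hw2⟩ := Finset.mem_filter.1 hw
    obtain ⟨a, ha⟩ := htrans v w hv1 hv2 hw1 hw2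
    apply Finset.card_le_card_of_injOn (fun x => a x)
    · intro x hx
      have hx' := Finset.mem_filter.1 hx
      rw [hs] at hx'
      have hx1 : x ≠ 1 := (Finset.mem_filter.1 hx'.1).2
      simp only [Finset.coe_filter, Set.mem_ofPred_eq]
      refine ⟨?_, ?_⟩
      · rw [hs]
        refine Finset.mem_filter.2 ⟨Finset.mem_univ _, ?_⟩
        intro h
        apply hx1
        have := a.injective (h.trans (map_one a).symm)
        exact this
      · rw [MulEquiv.orderOf_eq, ← map_pow, hx'.2, ha]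
    · intro x _ y _ hxy
      exact a.injective hxy
  have hz_t : z ∈ t := by
    rw [ht]; exact Finset.mem_filter.2 ⟨Finset.mem_univ _, hz1, hz2⟩
  have hconst : ∀ v ∈ t, (s.filter (fun x : G => x ^ (orderOf x / 2) = v)).card =
      (s.filter (fun x : G => x ^ (orderOf x / 2) = z)).card := by
    intro v hv
    exact le_antisymm (hle v hv z hz_t) (hle z hz_t v hv)
  rw [Finset.sum_const_nat hconst, hscard, htcard] at hfib
  have hdvd : 2 ^ m - 1 ∣ 2 ^ N - 1 := ⟨_, hfib⟩
  obtain ⟨k, hk⟩ := two_pow_sub_one_dvd hdvd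
  exact ⟨k, by rw [hk, pow_mul]⟩



/-- Let G be a nontrivial finite 2-group whose automorphism group permutes the involutions of G transitively. Then every involution of G is central, so that the involutions together with 1 form the subgroup Ω₁(Z(G)), and if this subgroup has order q then |G| is a power of q. -/
theorem result {G : Type*} [Group G] [Finite G] [Nontrivial G] (hG : IsPGroup 2 G) (htrans : ∀ x y : G, x ≠ 1 → x ^ 2 = 1 → y ≠ 1 → y ^ 2 = 1 → ∃ a : MulAut G, a x = y) : (∀ x : G, x ^ 2 = 1 → x ∈ Subgroup.center G) ∧ ∃ m : ℕ, Nat.card G = Nat.card {z : G // z ^ 2 = 1} ^ m := by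
  exact main3774 hG htrans

end Cfsg.Agent.S3774
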