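import Mathlib
import Cfsg.Statements.S3775

set_option autoImplicit false
set_option maxHeartbeats 800000

open Cfsg

namespace Cfsg.Agent.S3775

variable {A : Type*} [CommGroup A]

/-- invariance from elementwise closure -/
theorem inv_of_closed (X : Subgroup (MulAut A)) (B : Subgroup A)
    (h : ∀ x ∈ X, ∀ b ∈ B, x b ∈ B) : ∀ x ∈ X, B.map x.toMonoidHom = B := by
  intro x hx
  apply le_antisymm
  · rintro _ ⟨b, hb, rfl⟩
    exact h x hx b hb
  · intro b hb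
    refine ⟨x⁻¹ b, h x⁻¹ (X.inv_mem hx) b hb, ?_⟩
    change x (x⁻¹ b) = b
    simp

theorem closed_of_inv (X : Subgroup (MulAut A)) (B : Subgroup A)
    (h : ∀ x ∈ X, B.map x.toMonoidHom = B) : ∀ x ∈ X, ∀ b ∈ B, x b ∈ B := by
  intro x hx b hb
  have : x b ∈ B.map x.toMonoidHom := ⟨b, hb, rfl⟩
  rwa [h x hx] at this

/-- a homocyclic subgroup of top exponent has a complement -/
theorem exists_compl {p : ℕ} [Fact p.Prime] [Finite A] (d : ℕ)
    (hexp : ∀ a : A, a ^ p ^ (d + 1) = 1) (H : Subgroup A)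
    (hH : ∀ h ∈ H, h ^ p ^ d = 1 → ∃ h' ∈ H, h = h' ^ p) :
    ∃ R : Subgroup A, H ⊓ R = ⊥ ∧ H ⊔ R = ⊤ := by
  classical
  have hp := (Fact.out : p.Prime)
  obtain ⟨R, -, hRmax⟩ := Finite.exists_le_maximal (p := fun R : Subgroup A => H ⊓ R = ⊥)
    (a := ⊥) (by simp)
  have hRp : H ⊓ R = ⊥ := hRmax.prop
  refine ⟨R, hRp, ?_⟩
  by_contra hne
  obtain ⟨a0, ha0⟩ : ∃ a : A, a ∉ H ⊔ R := by
    by_contra hcon
    push_neg at hcon
    exact hne (eq_top_iff.mpr fun a _ => hcon a)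
  obtain ⟨a, ha, hap⟩ : ∃ a : A, a ∉ H ⊔ R ∧ a ^ p ∈ H ⊔ R := by
    have hex : ∃ j : ℕ, a0 ^ p ^ j ∈ H ⊔ R := ⟨d + 1, by rw [hexp]; exact one_mem _⟩
    have hj0 : Nat.find hex ≠ 0 := by
      intro h0
      have := Nat.find_spec hex
      rw [h0, pow_zero, pow_one] at this
      exact ha0 this
    obtain ⟨j, hj⟩ := Nat.exists_eq_succ_of_ne_zero hj0
    refine ⟨a0 ^ p ^ j, ?_, ?_⟩
    · exact Nat.find_min hex (by omega)
    · have := Nat.find_spec hex
      rw [hj, Nat.succ_eq_add_one, pow_succ, pow_mul] at this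
      exact this
  obtain ⟨h, hh, r, hr, hhr⟩ := Subgroup.mem_sup.mp hap
  have h1 : h ^ p ^ d = (r ^ p ^ d)⁻¹ := by
    have : (h * r) ^ p ^ d = 1 := by rw [hhr, ← pow_mul, ← pow_succ', hexp]
    rw [mul_pow] at this
    exact eq_inv_of_mul_eq_one_left this
  have h2 : h ^ p ^ d = 1 := by
    have hm : h ^ p ^ d ∈ H ⊓ R := by
      refine Subgroup.mem_inf.mpr ⟨H.pow_mem hh _, ?_⟩
      rw [h1]
      exact R.inv_mem (R.pow_mem hr _)
    rw [hRp] at hm
    exact Subgroup.mem_bot.mp hm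
  obtain ⟨h', hh', hh'p⟩ := hH h hh h2
  obtain ⟨a', ha'⟩ : ∃ a' : A, a' = a * h'⁻¹ := ⟨_, rfl⟩
  have ha'p : a' ^ p = r := by
    rw [ha', mul_pow, inv_pow, ← hh'p, ← hhr]
    exact mul_inv_cancel_comm h r
  have ha'n : a' ∉ H ⊔ R := by
    intro hc
    apply ha
    have : a = a' * h' := by rw [ha']; group
    rw [this]
    exact (H ⊔ R).mul_mem hc (Subgroup.mem_sup_left hh')
  have hR'lt : R < R ⊔ Subgroup.zpowers a' := by
    refine lt_of_le_of_ne le_sup_left ?_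
    intro heq
    apply ha'n
    have : a' ∈ R ⊔ Subgroup.zpowers a' := Subgroup.mem_sup_right (Subgroup.mem_zpowers a')
    rw [← heq] at this
    exact Subgroup.mem_sup_right this
  have hnot : ¬ (H ⊓ (R ⊔ Subgroup.zpowers a') = ⊥) := by
    intro hc
    exact absurd (hRmax.le_of_ge hc hR'lt.le) (not_le_of_gt hR'lt)
  apply hnot
  rw [eq_bot_iff]
  intro x hx
  obtain ⟨hxH, hxR'⟩ := Subgroup.mem_inf.mp hx
  obtain ⟨r1, hr1, z, hz, hrz⟩ := Subgroup.mem_sup.mp hxR'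
  obtain ⟨k, rfl⟩ := Subgroup.mem_zpowers_iff.mp hz
  by_cases hpk : (p : ℤ) ∣ k
  · obtain ⟨k', rfl⟩ := hpk
    have : a' ^ ((p : ℤ) * k') ∈ R := by
      rw [zpow_mul, zpow_natCast, ha'p]
      exact R.zpow_mem hr _
    have hxR : x ∈ R := by rw [← hrz]; exact R.mul_mem hr1 this
    have : x ∈ H ⊓ R := Subgroup.mem_inf.mpr ⟨hxH, hxR⟩
    rw [hRp] at this
    exact this
  · exfalso
    apply ha'n
    have hcop : IsCoprime (p : ℤ) k :=
      (Nat.prime_iff_prime_int.mp hp).irreducible.coprime_iff_not_dvd.mpr hpk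
    obtain ⟨u, v, huv⟩ := hcop
    have hak : a' ^ k ∈ H ⊔ R := by
      have : a' ^ k = r1⁻¹ * x := by rw [← hrz]; group
      rw [this]
      exact (H ⊔ R).mul_mem (Subgroup.mem_sup_right (R.inv_mem hr1)) (Subgroup.mem_sup_left hxH)
    have hap' : a' ^ (p : ℤ) ∈ H ⊔ R := by
      rw [zpow_natCast, ha'p]; exact Subgroup.mem_sup_right hr
    have : a' = (a' ^ (p : ℤ)) ^ u * (a' ^ k) ^ v := by
      rw [← zpow_mul, ← zpow_mul, ← zpow_add, mul_comm (p : ℤ) u, mul_comm k v, huv, zpow_one]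
    rw [this]
    exact (H ⊔ R).mul_mem ((H ⊔ R).zpow_mem hap' _) ((H ⊔ R).zpow_mem hak _)

/-- a homocyclic subgroup with prescribed socle inside the bottom layer -/
theorem exists_hom {p : ℕ} [Fact p.Prime] [Finite A] (d : ℕ)
    (hexp : ∀ a : A, a ^ p ^ (d + 1) = 1) (B : Subgroup A)
    (hB : ∀ b ∈ B, ∃ a : A, a ^ p ^ d = b) :
    ∃ H : Subgroup A, (∀ h ∈ H, h ^ p ^ d = 1 → ∃ h' ∈ H, h = h' ^ p) ∧
      (∀ h ∈ H, h ^ p = 1 → h ∈ B) ∧ B ≤ H := by
  classical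
  have hp := (Fact.out : p.Prime)
  let P : Subgroup A → Prop := fun H =>
    (∀ h ∈ H, h ^ p ^ d = 1 → ∃ h' ∈ H, h = h' ^ p) ∧ (∀ h ∈ H, h ^ p = 1 → h ∈ B)
  have hbot : P ⊥ := by
    constructor
    · intro h hh _
      rw [Subgroup.mem_bot] at hh
      exact ⟨1, one_mem _, by rw [hh, one_pow]⟩
    · intro h hh _
      rw [Subgroup.mem_bot] at hh
      rw [hh]; exact one_mem _
  obtain ⟨H, -, hHmax⟩ := Finite.exists_le_maximal (p := P) (a := ⊥) hbot
  have hHP : P H := hHmax.prop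
  refine ⟨H, hHP.1, hHP.2, ?_⟩
  intro b hb
  by_contra hbH
  obtain ⟨a, hab⟩ := hB b hb
  have hb1 : b ≠ 1 := fun h => hbH (h ▸ one_mem _)
  have hbp : b ^ p = 1 := by rw [← hab, ← pow_mul, ← pow_succ, hexp]
  have hob : orderOf b = p := orderOf_eq_prime hbp hb1
  have hoa : orderOf a = p ^ (d + 1) := orderOf_eq_prime_pow (by rw [hab]; exact hb1) (hexp a)
  -- key: powers of a in H are trivial
  have K1 : ∀ k : ℕ, a ^ k ∈ H → a ^ k = 1 := by
    intro k hk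
    by_contra hne
    have hk0 : k ≠ 0 := by
      intro h0; apply hne; rw [h0, pow_zero]
    obtain ⟨j, u, hpu, hku⟩ := Nat.exists_eq_pow_mul_and_not_dvd hk0 p hp.ne_one
    have hjd : j ≤ d := by
      by_contra hjd
      push_neg at hjd
      apply hne
      have : p ^ (d + 1) ∣ k := by
        rw [hku]
        exact Dvd.dvd.mul_right (pow_dvd_pow p hjd) u
      rw [← hoa] at this
      exact orderOf_dvd_iff_pow_eq_one.mp this
    have h3 : (a ^ k) ^ p ^ (d - j) = b ^ u := by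
      rw [← hab, ← pow_mul, ← pow_mul, hku]
      congr 1
      have : p ^ d = p ^ j * p ^ (d - j) := by rw [← pow_add]; congr 1; omega
      rw [this]; ring
    have h4 : b ^ u ∈ H := by rw [← h3]; exact H.pow_mem hk _
    have hcop : Nat.Coprime u p := ((Nat.Prime.coprime_iff_not_dvd hp).mpr hpu).symm
    obtain ⟨v, -, hv⟩ := Nat.exists_mul_mod_eq_one_of_coprime hcop hp.one_lt
    apply hbH
    have : b = (b ^ u) ^ v := by
      rw [← pow_mul, pow_eq_pow_mod (u * v) hbp, hv, pow_one]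
    rw [this]
    exact H.pow_mem h4 _
  have haH : a ∉ H := by
    intro h
    have := K1 1 (by rwa [pow_one])
    rw [pow_one] at this
    apply hb1
    rw [← hab, this, one_pow]
  -- elements of H ⊔ zpowers a
  have hel : ∀ y ∈ H ⊔ Subgroup.zpowers a, ∃ h ∈ H, ∃ k : ℕ, y = h * a ^ k := by
    intro y hy
    obtain ⟨h, hh, z, hz, rfl⟩ := Subgroup.mem_sup.mp hy
    have : z ∈ Submonoid.powers a :=
      (isOfFinOrder_of_finite a).mem_powers_iff_mem_zpowers.mpr hz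
    obtain ⟨k, rfl⟩ := (Submonoid.mem_powers_iff _ _).mp this
    exact ⟨h, hh, k, rfl⟩
  have hapk : ∀ k : ℕ, (a ^ k) ^ p ^ d = b ^ k := by
    intro k
    rw [← hab, ← pow_mul, ← pow_mul, mul_comm]
  have hP' : P (H ⊔ Subgroup.zpowers a) := by
    constructor
    · intro y hy hy1
      obtain ⟨h, hh, k, rfl⟩ := hel y hy
      rw [mul_pow, hapk] at hy1
      have hbk : b ^ k ∈ H := by
        rw [eq_inv_of_mul_eq_one_right hy1]
        exact H.inv_mem (H.pow_mem hh _)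
      have hbk1 : b ^ k = 1 := by
        have := K1 (p ^ d * k) (by rw [pow_mul, hab]; exact hbk)
        rwa [pow_mul, hab] at this
      have hpk : p ∣ k := by
        rw [← hob]; exact orderOf_dvd_of_pow_eq_one hbk1
      rw [hbk1, mul_one] at hy1
      obtain ⟨h', hh', rfl⟩ := hHP.1 h hh hy1
      obtain ⟨k', rfl⟩ := hpk
      refine ⟨h' * a ^ k', ?_, ?_⟩
      · exact (H ⊔ Subgroup.zpowers a).mul_mem (Subgroup.mem_sup_left hh')
          (Subgroup.mem_sup_right (Subgroup.pow_mem _ (Subgroup.mem_zpowers a) _))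
      · rw [mul_pow, ← pow_mul, mul_comm k' p]
    · intro y hy hy1
      obtain ⟨h, hh, k, rfl⟩ := hel y hy
      rw [mul_pow, ← pow_mul] at hy1
      have hak : a ^ (k * p) ∈ H := by
        rw [eq_inv_of_mul_eq_one_right hy1]
        exact H.inv_mem (H.pow_mem hh _)
      have hak1 := K1 _ hak
      rw [hak1, mul_one] at hy1
      have hhB : h ∈ B := hHP.2 h hh hy1
      have hdvd : p ^ (d + 1) ∣ k * p := by
        rw [← hoa]; exact orderOf_dvd_of_pow_eq_one hak1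
      have hdvd' : p ^ d ∣ k := by
        rw [pow_succ] at hdvd
        exact Nat.dvd_of_mul_dvd_mul_right hp.pos hdvd
      obtain ⟨k', rfl⟩ := hdvd'
      have : a ^ (p ^ d * k') = b ^ k' := by rw [pow_mul, hab]
      rw [this]
      exact B.mul_mem hhB (B.pow_mem hb _)
  have hle : H ≤ H ⊔ Subgroup.zpowers a := le_sup_left
  have := hHmax.le_of_ge hP' hle
  exact haH (this (Subgroup.mem_sup_right (Subgroup.mem_zpowers a)))

/-- projection onto a complemented subgroup -/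
theorem exists_proj (H R : Subgroup A) (h1 : H ⊓ R = ⊥) (h2 : H ⊔ R = ⊤) :
    ∃ π : A →* A, (∀ a, π a ∈ H) ∧ (∀ h ∈ H, π h = h) := by
  let φ : H × R →* A := MonoidHom.coprod H.subtype R.subtype
  have hφ : ∀ (h : H) (r : R), φ (h, r) = (h : A) * (r : A) := fun h r => rfl
  have hinj : Function.Injective φ := by
    rw [injective_iff_map_eq_one]
    rintro ⟨⟨h, hh⟩, ⟨r, hr⟩⟩ he
    have he' : h * r = 1 := he
    have hhR : h ∈ H ⊓ R := by
      refine Subgroup.mem_inf.mpr ⟨hh, ?_⟩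
      rw [eq_inv_of_mul_eq_one_left he']
      exact R.inv_mem hr
    rw [h1, Subgroup.mem_bot] at hhR
    subst hhR
    rw [one_mul] at he'
    subst he'
    rfl
  have hsurj : Function.Surjective φ := by
    intro a
    have : a ∈ H ⊔ R := by rw [h2]; trivial
    obtain ⟨h, hh, r, hr, rfl⟩ := Subgroup.mem_sup.mp this
    exact ⟨(⟨h, hh⟩, ⟨r, hr⟩), rfl⟩
  let e : H × R ≃* A := MulEquiv.ofBijective φ ⟨hinj, hsurj⟩
  refine ⟨H.subtype.comp ((MonoidHom.fst H R).comp e.symm.toMonoidHom), ?_, ?_⟩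
  · intro a
    exact (e.symm a).1.2
  · intro h hh
    have : e.symm h = (⟨h, hh⟩, 1) := by
      rw [MulEquiv.symm_apply_eq]
      change h = (h : A) * ((1 : R) : A)
      simp
    change ((e.symm h).1 : A) = h
    rw [this]

/-- averaging an endomorphism over `X` -/
noncomputable def avg (X : Subgroup (MulAut A)) [Fintype X] (n : ℕ) (π : A →* A) : A →* A where
  toFun a := (∏ x : X, (x : MulAut A) (π ((x : MulAut A)⁻¹ a))) ^ n
  map_one' := by simp
  map_mul' a b := by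
    simp only [map_mul, Finset.prod_mul_distrib, mul_pow]

theorem avg_apply (X : Subgroup (MulAut A)) [Fintype X] (n : ℕ) (π : A →* A) (a : A) :
    avg X n π a = (∏ x : X, (x : MulAut A) (π ((x : MulAut A)⁻¹ a))) ^ n := rfl

theorem avg_comm (X : Subgroup (MulAut A)) [Fintype X] (n : ℕ) (π : A →* A) (y : MulAut A)
    (hy : y ∈ X) (a : A) : avg X n π (y a) = y (avg X n π a) := by
  rw [avg_apply, avg_apply, map_pow, map_prod]
  congr 1
  symm
  apply Fintype.prod_equiv (Equiv.mulLeft (⟨y, hy⟩ : X))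
  intro x
  simp only [Equiv.coe_mulLeft, Subgroup.coe_mul, MulAut.mul_apply, mul_inv_rev,
    MulAut.inv_apply_self]

/-- idempotent power in a finite monoid -/
theorem exists_idem {M : Type*} [Monoid M] [Finite M] (f : M) :
    ∃ m : ℕ, 1 ≤ m ∧ f ^ m * f ^ m = f ^ m := by
  obtain ⟨i, j, hij, he⟩ := Finite.exists_ne_map_eq_of_infinite (fun n : ℕ => f ^ n)
  wlog hlt : i < j generalizing i j
  · exact this j i (Ne.symm hij) he.symm (lt_of_le_of_ne (not_lt.mp hlt) (Ne.symm hij))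
  obtain ⟨d, rfl⟩ : ∃ d, j = i + d := ⟨j - i, by omega⟩
  have hd : 1 ≤ d := by omega
  replace he : f ^ i = f ^ (i + d) := he
  have h1 : ∀ t : ℕ, f ^ (i + t + d) = f ^ (i + t) := by
    intro t
    rw [show i + t + d = (i + d) + t by omega, pow_add, ← he, ← pow_add]
  have h2 : ∀ k t : ℕ, f ^ (i + t + k * d) = f ^ (i + t) := by
    intro k
    induction k with
    | zero => intro t; simp
    | succ k ih =>
      intro t
      rw [show i + t + (k + 1) * d = i + (t + k * d) + d by ring, h1, ← add_assoc, ih]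
  refine ⟨(i + 1) * d, Nat.mul_pos (by omega) hd, ?_⟩
  rw [← pow_add]
  have hle : i ≤ (i + 1) * d := by nlinarith
  have h3 := h2 (i + 1) ((i + 1) * d - i)
  rw [show i + ((i + 1) * d - i) = (i + 1) * d by omega] at h3
  exact h3

/-- Fitting's lemma in the form needed -/
theorem fitting [Finite A] (X : Subgroup (MulAut A)) (f : A →* A)
    (hf : ∀ x ∈ X, ∀ a, f (x a) = x (f a))
    (hno : ¬ ∃ B C : Subgroup A, B ≠ ⊥ ∧ C ≠ ⊥ ∧ (∀ x ∈ X, B.map x.toMonoidHom = B) ∧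
      (∀ x ∈ X, C.map x.toMonoidHom = C) ∧ B ⊓ C = ⊥ ∧ B ⊔ C = ⊤) :
    ∃ g : A →* A, (∀ a, g (g a) = g a) ∧ (∃ m : ℕ, 1 ≤ m ∧ ∀ a, g a = f^[m] a) ∧
      ((∀ a, g a = 1) ∨ Function.Injective g) := by
  have : Finite (Monoid.End A) :=
    Finite.of_injective (fun e : Monoid.End A => (e : A → A)) DFunLike.coe_injective
  obtain ⟨F, hF⟩ : ∃ F : Monoid.End A, ∀ a, F a = f a := ⟨f, fun _ => rfl⟩
  obtain ⟨m, hm1, hmm⟩ := exists_idem F
  obtain ⟨g0, hg0⟩ : ∃ g0 : Monoid.End A, g0 = F ^ m := ⟨_, rfl⟩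
  obtain ⟨g, hg⟩ : ∃ g : A →* A, ∀ a, g a = g0 a := ⟨g0, fun _ => rfl⟩
  have hFf : ∀ (k : ℕ) (a : A), (⇑F)^[k] a = (⇑f)^[k] a := by
    intro k
    induction k with
    | zero => intro a; rfl
    | succ k ih =>
      intro a
      rw [Function.iterate_succ_apply, Function.iterate_succ_apply, hF, ih]
  have hgm : ∀ a, g a = f^[m] a := by
    intro a
    rw [hg, hg0, Monoid.End.coe_pow, hFf]
  have hgg : ∀ a, g (g a) = g a := by
    intro a
    have h1 : (g0 * g0) a = g0 a := by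
      rw [hg0, hmm]
    rw [hg, hg]
    exact h1
  have hit : ∀ x ∈ X, ∀ (k : ℕ) (a : A), (⇑f)^[k] (x a) = x ((⇑f)^[k] a) := by
    intro x hx k
    induction k with
    | zero => intro a; rfl
    | succ k ih =>
      intro a
      rw [Function.iterate_succ_apply, Function.iterate_succ_apply, hf x hx, ih]
  have hgx : ∀ x ∈ X, ∀ a, g (x a) = x (g a) := by
    intro x hx a
    rw [hgm, hgm, hit x hx]
  refine ⟨g, hgg, ⟨m, hm1, hgm⟩, ?_⟩
  by_cases hB : g.ker = ⊥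
  · right
    exact (MonoidHom.ker_eq_bot_iff g).mp hB
  by_cases hC : g.range = ⊥
  · left
    intro a
    have : g a ∈ g.range := ⟨a, rfl⟩
    rw [hC] at this
    exact Subgroup.mem_bot.mp this
  exfalso
  apply hno
  refine ⟨g.ker, g.range, hB, hC, ?_, ?_, ?_, ?_⟩
  · apply inv_of_closed
    intro x hx b hb
    rw [MonoidHom.mem_ker] at hb ⊢
    rw [hgx x hx, hb, map_one]
  · apply inv_of_closed
    rintro x hx _ ⟨b, rfl⟩
    exact ⟨x b, hgx x hx b⟩
  · rw [eq_bot_iff]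
    rintro a ⟨ha1, ⟨b, rfl⟩⟩
    have ha1' : g (g b) = 1 := ha1
    rw [hgg] at ha1'
    exact Subgroup.mem_bot.mpr ha1'
  · rw [eq_top_iff]
    intro a _
    have h1 : a * (g a)⁻¹ ∈ g.ker := by
      rw [MonoidHom.mem_ker, map_mul, map_inv, hgg, mul_inv_cancel]
    have h2 : g a ∈ g.range := ⟨a, rfl⟩
    have : a = a * (g a)⁻¹ * g a := by group
    rw [this]
    exact Subgroup.mul_mem_sup h1 h2


/-- the key claim: a nontrivial invariant subgroup of the bottom layer is all of `Ω₁` -/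
theorem claim {p : ℕ} [Fact p.Prime] [Finite A] (hA : IsPGroup p A) (X : Subgroup (MulAut A))
    (hX : (Nat.card X).Coprime p)
    (hno : ¬ ∃ B C : Subgroup A, B ≠ ⊥ ∧ C ≠ ⊥ ∧ (∀ x ∈ X, B.map x.toMonoidHom = B) ∧
      (∀ x ∈ X, C.map x.toMonoidHom = C) ∧ B ⊓ C = ⊥ ∧ B ⊔ C = ⊤)
    (d : ℕ) (hexp : ∀ a : A, a ^ p ^ (d + 1) = 1) (B : Subgroup A)
    (hBinv : ∀ x ∈ X, ∀ b ∈ B, x b ∈ B) (hBne : B ≠ ⊥)
    (hBW : ∀ b ∈ B, ∃ a : A, a ^ p ^ d = b) : ∀ a : A, a ^ p = 1 → a ∈ B := by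
  classical
  have hp := (Fact.out : p.Prime)
  haveI : Fintype X := Fintype.ofFinite X
  obtain ⟨H, hH1, hH2, hBH⟩ := exists_hom d hexp B hBW
  obtain ⟨R, hR1, hR2⟩ := exists_compl d hexp H hH1
  obtain ⟨π, hπ1, hπ2⟩ := exists_proj H R hR1 hR2
  obtain ⟨b0, hb0B, hb01⟩ : ∃ b0 ∈ B, b0 ≠ 1 := by
    by_contra hcon
    push_neg at hcon
    apply hBne
    rw [eq_bot_iff]
    intro b hb
    exact Subgroup.mem_bot.mpr (hcon b hb)
  haveI : Nontrivial A := ⟨⟨b0, 1, hb01⟩⟩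
  have hcard1 : 1 < Nat.card A := Finite.one_lt_card
  obtain ⟨k, hk⟩ := IsPGroup.iff_card.mp hA
  have hcop : (Nat.card X).Coprime (Nat.card A) := by
    rw [hk]; exact Nat.Coprime.pow_right k hX
  obtain ⟨n, -, hn⟩ := Nat.exists_mul_mod_eq_one_of_coprime hcop hcard1
  have hpow : ∀ a : A, a ^ (Nat.card X * n) = a := by
    intro a
    rw [← pow_mod_natCard, hn, pow_one]
  obtain ⟨f, hf⟩ : ∃ f : A →* A, f = avg X n π := ⟨_, rfl⟩
  have hfcomm : ∀ x ∈ X, ∀ a, f (x a) = x (f a) := by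
    intro x hx a
    rw [hf]
    exact avg_comm X n π x hx a
  have hfB : ∀ b ∈ B, f b = b := by
    intro b hb
    rw [hf, avg_apply]
    have : ∀ x : X, (x : MulAut A) (π ((x : MulAut A)⁻¹ b)) = b := by
      intro x
      have h1 : (x : MulAut A)⁻¹ b ∈ B := hBinv _ (X.inv_mem x.2) b hb
      rw [hπ2 _ (hBH h1)]
      simp
    rw [Finset.prod_congr rfl (fun x _ => this x), Finset.prod_const, Finset.card_univ,
      ← pow_mul, ← Nat.card_eq_fintype_card, hpow]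
  have hfΩ : ∀ a : A, a ^ p = 1 → f a ∈ B := by
    intro a ha
    rw [hf, avg_apply]
    apply B.pow_mem
    apply Subgroup.prod_mem
    intro x _
    apply hBinv _ x.2
    apply hH2 _ (hπ1 _)
    rw [← map_pow, ← map_pow, ha, map_one, map_one]
  obtain ⟨g, hgg, ⟨m, hm1, hgm⟩, hcase⟩ := fitting X f hfcomm hno
  have hgB : ∀ b ∈ B, g b = b := by
    intro b hb
    rw [hgm]
    exact Function.iterate_fixed (hfB b hb) m
  rcases hcase with hc | hc
  · exfalso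
    apply hb01
    rw [← hgB b0 hb0B, hc]
  · intro a ha
    have h1 : g a = f a := by
      rw [hgm]
      obtain ⟨m', rfl⟩ : ∃ m', m = m' + 1 := ⟨m - 1, by omega⟩
      rw [Function.iterate_succ_apply]
      exact Function.iterate_fixed (hfB _ (hfΩ a ha)) m'
    have h2 : g a ∈ B := by rw [h1]; exact hfΩ a ha
    have h3 : g a = a := hc (hgg a)
    rw [← h3]
    exact h2

/-- (i) ⇒ (iii) -/
theorem i_to_iii {p : ℕ} [Fact p.Prime] [Finite A] (hA : IsPGroup p A) (X : Subgroup (MulAut A))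
    (hX : (Nat.card X).Coprime p)
    (hno : ¬ ∃ B C : Subgroup A, B ≠ ⊥ ∧ C ≠ ⊥ ∧ (∀ x ∈ X, B.map x.toMonoidHom = B) ∧
      (∀ x ∈ X, C.map x.toMonoidHom = C) ∧ B ⊓ C = ⊥ ∧ B ⊔ C = ⊤) :
    ∀ B : Subgroup A, (∀ x ∈ X, B.map x.toMonoidHom = B) → (∀ b ∈ B, b ^ p = 1) →
      B = ⊥ ∨ ∀ a : A, a ∈ B ↔ a ^ p = 1 := by
  classical
  have hp := (Fact.out : p.Prime)
  intro B hBinv hBp
  by_cases hB : B = ⊥
  · left; exact hB
  right
  obtain ⟨k, hk⟩ := IsPGroup.iff_card.mp hA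
  have hex : ∃ e : ℕ, ∀ a : A, a ^ p ^ e = 1 := ⟨k, fun a => by rw [← hk]; exact pow_card_eq_one'⟩
  have he0 : Nat.find hex ≠ 0 := by
    intro h0
    have := Nat.find_spec hex
    rw [h0] at this
    apply hB
    rw [eq_bot_iff]
    intro b _
    have := this b
    rw [pow_zero, pow_one] at this
    exact Subgroup.mem_bot.mpr this
  obtain ⟨d, hd⟩ := Nat.exists_eq_succ_of_ne_zero he0
  have hexp : ∀ a : A, a ^ p ^ (d + 1) = 1 := by
    have := Nat.find_spec hex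
    rw [hd] at this
    exact this
  have hnd : ¬ ∀ a : A, a ^ p ^ d = 1 := Nat.find_min hex (by omega)
  push_neg at hnd
  obtain ⟨a0, ha0⟩ := hnd
  have hBcl := closed_of_inv X B hBinv
  -- the bottom layer
  obtain ⟨W, hW⟩ : ∃ W : Subgroup A, W = (powMonoidHom (p ^ d) : A →* A).range := ⟨_, rfl⟩
  have hWmem : ∀ w : A, w ∈ W ↔ ∃ a : A, a ^ p ^ d = w := by
    intro w
    rw [hW]
    exact Iff.rfl
  have hWinv : ∀ x ∈ X, ∀ b ∈ W, x b ∈ W := by
    intro x hx b hb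
    obtain ⟨a, rfl⟩ := (hWmem b).mp hb
    exact (hWmem _).mpr ⟨x a, (map_pow x a _).symm⟩
  have hWne : W ≠ ⊥ := by
    intro h
    have : a0 ^ p ^ d ∈ W := (hWmem _).mpr ⟨a0, rfl⟩
    rw [h] at this
    exact ha0 (Subgroup.mem_bot.mp this)
  have hΩW := claim hA X hX hno d hexp W hWinv hWne (fun b hb => (hWmem b).mp hb)
  have hΩB := claim hA X hX hno d hexp B hBcl hB
    (fun b hb => (hWmem b).mp (hΩW b (hBp b hb)))
  intro a
  exact ⟨hBp a, hΩB a⟩

/-- (iii) ⇒ (ii) -/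
theorem iii_to_ii {p : ℕ} [Fact p.Prime] [Finite A] (hA : IsPGroup p A) (X : Subgroup (MulAut A))
    (h3 : ∀ B : Subgroup A, (∀ x ∈ X, B.map x.toMonoidHom = B) → (∀ b ∈ B, b ^ p = 1) →
      B = ⊥ ∨ ∀ a : A, a ∈ B ↔ a ^ p = 1) :
    ∀ B : Subgroup A, (∀ x ∈ X, B.map x.toMonoidHom = B) →
      ∃ i : ℕ, ∀ a : A, a ∈ B ↔ a ^ p ^ i = 1 := by
  classical
  have hp := (Fact.out : p.Prime)
  intro B hBinv
  by_cases hB : B = ⊥
  · refine ⟨0, fun a => ?_⟩
    rw [hB, Subgroup.mem_bot, pow_zero, pow_one]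
  obtain ⟨k, hk⟩ := IsPGroup.iff_card.mp hA
  have hex : ∃ e : ℕ, ∀ b ∈ B, b ^ p ^ e = 1 :=
    ⟨k, fun b _ => by rw [← hk]; exact pow_card_eq_one'⟩
  have he0 : Nat.find hex ≠ 0 := by
    intro h0
    have := Nat.find_spec hex
    rw [h0] at this
    apply hB
    rw [eq_bot_iff]
    intro b hb
    have := this b hb
    rw [pow_zero, pow_one] at this
    exact Subgroup.mem_bot.mpr this
  obtain ⟨j, hj⟩ := Nat.exists_eq_succ_of_ne_zero he0
  have hexp : ∀ b ∈ B, b ^ p ^ (j + 1) = 1 := by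
    have := Nat.find_spec hex
    rw [hj] at this
    exact this
  have hnd : ¬ ∀ b ∈ B, b ^ p ^ j = 1 := Nat.find_min hex (by omega)
  push_neg at hnd
  obtain ⟨b0, hb0B, hb0⟩ := hnd
  have hBcl := closed_of_inv X B hBinv
  obtain ⟨B1, hB1⟩ : ∃ B1 : Subgroup A, B1 = B.map (powMonoidHom (p ^ j) : A →* A) := ⟨_, rfl⟩
  have hB1mem : ∀ w : A, w ∈ B1 ↔ ∃ b ∈ B, b ^ p ^ j = w := by
    intro w
    rw [hB1]
    exact Iff.rfl
  have hB1inv : ∀ x ∈ X, B1.map x.toMonoidHom = B1 := by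
    apply inv_of_closed
    intro x hx w hw
    obtain ⟨b, hb, rfl⟩ := (hB1mem w).mp hw
    exact (hB1mem _).mpr ⟨x b, hBcl x hx b hb, (map_pow x b _).symm⟩
  have hB1p : ∀ w ∈ B1, w ^ p = 1 := by
    intro w hw
    obtain ⟨b, hb, rfl⟩ := (hB1mem w).mp hw
    rw [← pow_mul, ← pow_succ]
    exact hexp b hb
  have hB1ne : B1 ≠ ⊥ := by
    intro h
    have : b0 ^ p ^ j ∈ B1 := (hB1mem _).mpr ⟨b0, hb0B, rfl⟩
    rw [h] at this
    exact hb0 (Subgroup.mem_bot.mp this)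
  have hB1Ω : ∀ a : A, a ∈ B1 ↔ a ^ p = 1 := by
    rcases h3 B1 hB1inv hB1p with h | h
    · exact absurd h hB1ne
    · exact h
  refine ⟨j + 1, fun a => ⟨hexp a, ?_⟩⟩
  have key : ∀ t : ℕ, t ≤ j + 1 → ∀ a : A, a ^ p ^ t = 1 → a ∈ B := by
    intro t
    induction t with
    | zero =>
      intro _ a ha
      rw [pow_zero, pow_one] at ha
      rw [ha]; exact one_mem _
    | succ t ih =>
      intro ht a ha
      have h1 : (a ^ p ^ t) ^ p = 1 := by rw [← pow_mul, ← pow_succ]; exact ha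
      obtain ⟨b, hb, hba⟩ := (hB1mem _).mp ((hB1Ω _).mpr h1)
      have hc : (b ^ p ^ (j - t)) ^ p ^ t = a ^ p ^ t := by
        rw [← pow_mul, ← pow_add, ← hba]
        congr 2
        omega
      have h2 : (a * (b ^ p ^ (j - t))⁻¹) ^ p ^ t = 1 := by
        rw [mul_pow, inv_pow, hc, mul_inv_cancel]
      have h3' := ih (by omega) _ h2
      have : a = a * (b ^ p ^ (j - t))⁻¹ * b ^ p ^ (j - t) := by group
      rw [this]
      exact B.mul_mem h3' (B.pow_mem hb _)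
  exact key (j + 1) le_rfl a

theorem main3775 {p : ℕ} [Fact p.Prime] [Finite A] (hA : IsPGroup p A) (X : Subgroup (MulAut A))
    (hX : (Nat.card X).Coprime p) :
    ((¬ ∃ B C : Subgroup A, B ≠ ⊥ ∧ C ≠ ⊥ ∧ (∀ x ∈ X, B.map x.toMonoidHom = B) ∧
      (∀ x ∈ X, C.map x.toMonoidHom = C) ∧ B ⊓ C = ⊥ ∧ B ⊔ C = ⊤) ↔
      (∀ B : Subgroup A, (∀ x ∈ X, B.map x.toMonoidHom = B) →
        ∃ i : ℕ, ∀ a : A, a ∈ B ↔ a ^ p ^ i = 1)) ∧
    ((∀ B : Subgroup A, (∀ x ∈ X, B.map x.toMonoidHom = B) →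
        ∃ i : ℕ, ∀ a : A, a ∈ B ↔ a ^ p ^ i = 1) ↔
      (∀ B : Subgroup A, (∀ x ∈ X, B.map x.toMonoidHom = B) → (∀ b ∈ B, b ^ p = 1) →
        B = ⊥ ∨ ∀ a : A, a ∈ B ↔ a ^ p = 1)) := by
  have hp := (Fact.out : p.Prime)
  have h23 : (∀ B : Subgroup A, (∀ x ∈ X, B.map x.toMonoidHom = B) →
        ∃ i : ℕ, ∀ a : A, a ∈ B ↔ a ^ p ^ i = 1) →
      (∀ B : Subgroup A, (∀ x ∈ X, B.map x.toMonoidHom = B) → (∀ b ∈ B, b ^ p = 1) →
        B = ⊥ ∨ ∀ a : A, a ∈ B ↔ a ^ p = 1) := by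
    intro h2 B hBinv hBp
    obtain ⟨i, hi⟩ := h2 B hBinv
    rcases Nat.eq_zero_or_pos i with h0 | hpos
    · left
      rw [eq_bot_iff]
      intro b hb
      have := (hi b).mp hb
      rw [h0, pow_zero, pow_one] at this
      exact Subgroup.mem_bot.mpr this
    · right
      intro a
      refine ⟨hBp a, fun ha => (hi a).mpr ?_⟩
      obtain ⟨i', rfl⟩ : ∃ i', i = i' + 1 := ⟨i - 1, by omega⟩
      rw [pow_succ', pow_mul, ha, one_pow]
  refine ⟨⟨fun hno => iii_to_ii hA X (i_to_iii hA X hX hno), ?_⟩, ⟨h23, iii_to_ii hA X⟩⟩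
  intro h2
  rintro ⟨B, C, hB, hC, hBinv, hCinv, hinf, -⟩
  obtain ⟨i, hi⟩ := h2 B hBinv
  obtain ⟨j, hj⟩ := h2 C hCinv
  have hmono : ∀ (s t : ℕ) (a : A), s ≤ t → a ^ p ^ s = 1 → a ^ p ^ t = 1 := by
    intro s t a hst ha
    obtain ⟨u, rfl⟩ := Nat.exists_eq_add_of_le hst
    rw [pow_add, pow_mul, ha, one_pow]
  rcases le_total i j with hij | hij
  · apply hB
    rw [eq_bot_iff, ← hinf]
    intro b hb
    exact Subgroup.mem_inf.mpr ⟨hb, (hj b).mpr (hmono i j b hij ((hi b).mp hb))⟩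
  · apply hC
    rw [eq_bot_iff, ← hinf]
    intro c hc
    exact Subgroup.mem_inf.mpr ⟨(hi c).mpr (hmono j i c hij ((hj c).mp hc)), hc⟩

/-- Let A be a finite abelian p-group and X a group of automorphisms of A of order prime to p. Call a subgroup of A invariant when every element of X maps it onto itself. Then the following are equivalent: (i) A is not the direct product of two nontrivial invariant subgroups; (ii) every invariant subgroup of A is one of the subgroups Ω_i(A) = {a : a^(p^i) = 1}; (iii) the subgroup Ω₁(A) of elements of order dividing p has no invariant subgroups other than 1 and itself. -/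
theorem result {A : Type*} [CommGroup A] [Finite A] {p : ℕ} [Fact p.Prime] (hA : IsPGroup p A) (X : Subgroup (MulAut A)) (hX : (Nat.card X).Coprime p) : ((¬ ∃ B C : Subgroup A, B ≠ ⊥ ∧ C ≠ ⊥ ∧ (∀ x ∈ X, B.map x.toMonoidHom = B) ∧ (∀ x ∈ X, C.map x.toMonoidHom = C) ∧ B ⊓ C = ⊥ ∧ B ⊔ C = ⊤) ↔ (∀ B : Subgroup A, (∀ x ∈ X, B.map x.toMonoidHom = B) → ∃ i : ℕ, ∀ a : A, a ∈ B ↔ a ^ p ^ i = 1)) ∧ ((∀ B : Subgroup A, (∀ x ∈ X, B.map x.toMonoidHom = B) → ∃ i : ℕ, ∀ a : A, a ∈ B ↔ a ^ p ^ i = 1) ↔ (∀ B : Subgroup A, (∀ x ∈ X, B.map x.toMonoidHom = B) → (∀ b ∈ B, b ^ p = 1) → B = ⊥ ∨ ∀ a : A, a ∈ B ↔ a ^ p = 1)) := by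
  exact main3775 hA X hX

end Cfsg.Agent.S3775
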