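import Cfsg.Statements.S3778
import Mathlib


set_option autoImplicit false
open Cfsg

namespace Cfsg.Agent.S3778


section lgnw
variable {G : Type*} [Group G]

/-- centralizer of `x` modulo `N` -/
def Dsub (N : Subgroup G) [hN : N.Normal] (x : G) : Subgroup G where
  carrier := {g | g * x * g⁻¹ * x⁻¹ ∈ N}
  one_mem' := by
    show (1 : G) * x * 1⁻¹ * x⁻¹ ∈ N
    have : (1 : G) * x * 1⁻¹ * x⁻¹ = 1 := by group
    rw [this]
    exact N.one_mem
  mul_mem' := by
    intro g h hg hh
    show (g * h) * x * (g * h)⁻¹ * x⁻¹ ∈ N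
    have : (g * h) * x * (g * h)⁻¹ * x⁻¹ =
        (g * (h * x * h⁻¹ * x⁻¹) * g⁻¹) * (g * x * g⁻¹ * x⁻¹) := by group
    rw [this]
    exact N.mul_mem (hN.conj_mem _ hh g) hg
  inv_mem' := by
    intro g hg
    show g⁻¹ * x * g⁻¹⁻¹ * x⁻¹ ∈ N
    have : g⁻¹ * x * g⁻¹⁻¹ * x⁻¹ = g⁻¹ * (g * x * g⁻¹ * x⁻¹)⁻¹ * g⁻¹⁻¹ := by group
    rw [this]
    exact hN.conj_mem _ (N.inv_mem hg) g⁻¹

theorem mem_Dsub {N : Subgroup G} [N.Normal] {x g : G} :
    g ∈ Dsub N x ↔ g * x * g⁻¹ * x⁻¹ ∈ N := Iff.rfl

/-- elements centralizing `H` modulo `N` -/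
def Csub (H N : Subgroup G) [N.Normal] : Subgroup G := ⨅ g : H, Dsub N (g : G)

theorem mem_Csub {H N : Subgroup G} [N.Normal] {x : G} :
    x ∈ Csub H N ↔ ∀ g ∈ H, x * g * x⁻¹ * g⁻¹ ∈ N := by
  unfold Csub
  rw [Subgroup.mem_iInf]
  constructor
  · intro h g hg
    exact h ⟨g, hg⟩
  · intro h g
    exact h g.1 g.2

theorem p_le_of_dvd_pow {p i n : ℕ} (hp : p.Prime) (h : i ∣ p ^ n) (h1 : i ≠ 1) : p ≤ i := by
  obtain ⟨k, _, rfl⟩ := (Nat.dvd_prime_pow hp).mp h
  have hk : k ≠ 0 := by
    rintro rfl
    exact h1 (pow_zero p)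
  exact Nat.le_self_pow hk p

theorem comm_mem_succ (j : ℕ) {g : G} (hg : g ∈ ((⊤ : Subgroup G).lowerCentralSeries (j))) (x : G) :
    g * x * g⁻¹ * x⁻¹ ∈ ((⊤ : Subgroup G).lowerCentralSeries (j + 1)) := by
  rw [Subgroup.lowerCentralSeries_succ]
  have := Subgroup.commutator_mem_commutator hg (Subgroup.mem_top x)
  rwa [commutatorElement_def] at this

theorem lcs_stable_bot [Group.IsNilpotent G] (m : ℕ)
    (h : ((⊤ : Subgroup G).lowerCentralSeries (m + 1)) = ((⊤ : Subgroup G).lowerCentralSeries (m))) : ((⊤ : Subgroup G).lowerCentralSeries (m)) = ⊥ := by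
  have key : ∀ k, ((⊤ : Subgroup G).lowerCentralSeries (m + k)) = ((⊤ : Subgroup G).lowerCentralSeries (m)) := by
    intro k
    induction k with
    | zero => rfl
    | succ k ih =>
      rw [← add_assoc, Subgroup.lowerCentralSeries_succ, ih, ← Subgroup.lowerCentralSeries_succ, h]
  have h1 := key (Group.nilpotencyClass G)
  have h2 : ((⊤ : Subgroup G).lowerCentralSeries (m + Group.nilpotencyClass G)) = ⊥ :=
    Subgroup.lowerCentralSeries_eq_bot_iff_nilpotencyClass_le.mpr (Nat.le_add_left _ _)
  rw [← h1, h2]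

theorem Csub_ne_top [Group.IsNilpotent G] (j : ℕ) (hj : j + 1 < Group.nilpotencyClass G) :
    Csub ((⊤ : Subgroup G).lowerCentralSeries (j)) ((⊤ : Subgroup G).lowerCentralSeries (j + 2)) ≠ ⊤ := by
  intro htop
  have h1 : ((⊤ : Subgroup G).lowerCentralSeries (j + 1)) ≤ ((⊤ : Subgroup G).lowerCentralSeries (j + 2)) := by
    rw [Subgroup.lowerCentralSeries_succ ⊤ j, Subgroup.commutator_le]
    intro g hg x _
    have hx : x ∈ Csub ((⊤ : Subgroup G).lowerCentralSeries (j)) ((⊤ : Subgroup G).lowerCentralSeries (j + 2)) := by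
      rw [htop]
      exact Subgroup.mem_top x
    have h2 := mem_Csub.mp hx g hg
    rw [commutatorElement_def]
    have : g * x * g⁻¹ * x⁻¹ = (x * g * x⁻¹ * g⁻¹)⁻¹ := by group
    rw [this]
    exact Subgroup.inv_mem _ h2
  have h3 : ((⊤ : Subgroup G).lowerCentralSeries (j + 1 + 1)) = ((⊤ : Subgroup G).lowerCentralSeries (j + 1)) :=
    le_antisymm (Subgroup.lowerCentralSeries_antitone _ (Nat.le_succ _)) h1
  have h4 := lcs_stable_bot (j + 1) h3
  have h5 := Subgroup.lowerCentralSeries_eq_bot_iff_nilpotencyClass_le.mp h4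
  omega

open Classical in
theorem index_ge [Finite G] (p n : ℕ) (hp : p.Prime) (hcard : Nat.card G = p ^ n) (x : G) :
    ∀ m : ℕ, p ^ ((Finset.range m).filter (fun j => x ∉ Csub ((⊤ : Subgroup G).lowerCentralSeries (j)) ((⊤ : Subgroup G).lowerCentralSeries (j + 2)))).card ≤
      (Dsub ((⊤ : Subgroup G).lowerCentralSeries (m + 1)) x).index := by
  classical
  intro m
  induction m with
  | zero =>
    simp only [Finset.range_zero, Finset.filter_empty, Finset.card_empty, pow_zero]
    exact Nat.one_le_iff_ne_zero.mpr Subgroup.index_ne_zero_of_finite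
  | succ m ih =>
    have hle : Dsub ((⊤ : Subgroup G).lowerCentralSeries (m + 1 + 1)) x ≤ Dsub ((⊤ : Subgroup G).lowerCentralSeries (m + 1)) x := by
      intro g hg
      rw [mem_Dsub] at hg ⊢
      exact Subgroup.lowerCentralSeries_antitone _ (Nat.le_succ _) hg
    have hmul := Subgroup.relIndex_mul_index hle
    have hpos : 0 < (Dsub ((⊤ : Subgroup G).lowerCentralSeries (m + 1 + 1)) x).index :=
      Nat.pos_of_ne_zero Subgroup.index_ne_zero_of_finite
    rw [Finset.range_add_one, Finset.filter_insert]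
    by_cases hx : x ∉ Csub ((⊤ : Subgroup G).lowerCentralSeries (m)) ((⊤ : Subgroup G).lowerCentralSeries (m + 2))
    · rw [if_pos hx, Finset.card_insert_of_notMem (by
        intro hmem
        rw [Finset.mem_filter, Finset.mem_range] at hmem
        exact absurd hmem.1 (lt_irrefl m)), pow_succ]
      have hne : (Dsub ((⊤ : Subgroup G).lowerCentralSeries (m + 1 + 1)) x).relIndex (Dsub ((⊤ : Subgroup G).lowerCentralSeries (m + 1)) x) ≠ 1 := by
        rw [Ne, Subgroup.relIndex_eq_one]
        intro hle'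
        apply hx
        rw [mem_Csub]
        intro g hg
        have h1 : g ∈ Dsub ((⊤ : Subgroup G).lowerCentralSeries (m + 1)) x := comm_mem_succ m hg x
        have h2 := hle' h1
        rw [mem_Dsub] at h2
        have : x * g * x⁻¹ * g⁻¹ = (g * x * g⁻¹ * x⁻¹)⁻¹ := by group
        rw [this]
        exact Subgroup.inv_mem _ h2
      have hdvd : (Dsub ((⊤ : Subgroup G).lowerCentralSeries (m + 1 + 1)) x).relIndex (Dsub ((⊤ : Subgroup G).lowerCentralSeries (m + 1)) x) ∣ p ^ n := by
        rw [← hcard]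
        exact dvd_trans (Subgroup.relIndex_dvd_card _ _) (Subgroup.card_subgroup_dvd_card _)
      have hp_le := p_le_of_dvd_pow hp hdvd hne
      calc p ^ ((Finset.range m).filter (fun j => x ∉ Csub ((⊤ : Subgroup G).lowerCentralSeries (j)) ((⊤ : Subgroup G).lowerCentralSeries (j + 2)))).card * p
          ≤ (Dsub ((⊤ : Subgroup G).lowerCentralSeries (m + 1)) x).index *
            (Dsub ((⊤ : Subgroup G).lowerCentralSeries (m + 1 + 1)) x).relIndex (Dsub ((⊤ : Subgroup G).lowerCentralSeries (m + 1)) x) := Nat.mul_le_mul ih hp_le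
        _ = (Dsub ((⊤ : Subgroup G).lowerCentralSeries (m + 1 + 1)) x).index := by rw [mul_comm]; exact hmul
    · rw [if_neg hx]
      refine le_trans ih ?_
      exact Nat.le_of_dvd hpos (Dvd.intro_left _ hmul)

open Classical in
theorem count_le [Finite G] (p n b : ℕ) (hp : p.Prime) (hcard : Nat.card G = p ^ n) (x : G)
    (hb : (Subgroup.centralizer ({x} : Set G)).index ≤ p ^ b) (m : ℕ) :
    ((Finset.range m).filter (fun j => x ∉ Csub ((⊤ : Subgroup G).lowerCentralSeries (j)) ((⊤ : Subgroup G).lowerCentralSeries (j + 2)))).card ≤ b := by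
  have h1 := index_ge p n hp hcard x m
  have hle : Subgroup.centralizer ({x} : Set G) ≤ Dsub ((⊤ : Subgroup G).lowerCentralSeries (m + 1)) x := by
    intro g hg
    rw [Subgroup.mem_centralizer_iff] at hg
    have h := hg x (Set.mem_singleton x)
    rw [mem_Dsub]
    have : g * x * g⁻¹ * x⁻¹ = 1 := by
      rw [← h]
      group
    rw [this]
    exact Subgroup.one_mem _
  have h2 := Subgroup.index_dvd_of_le hle
  have h3 : 0 < (Subgroup.centralizer ({x} : Set G)).index :=
    Nat.pos_of_ne_zero Subgroup.index_ne_zero_of_finite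
  have h4 := Nat.le_of_dvd h3 h2
  have h5 : p ^ ((Finset.range m).filter (fun j => x ∉ Csub ((⊤ : Subgroup G).lowerCentralSeries (j)) ((⊤ : Subgroup G).lowerCentralSeries (j + 2)))).card ≤ p ^ b :=
    le_trans h1 (le_trans h4 hb)
  exact (Nat.pow_le_pow_iff_right hp.one_lt).mp h5

theorem arith1 (q N k b : ℕ) (hN : 0 < N) (hb : 0 < b)
    (h : (q + 1) * (N * k + b) ≤ (k + b) * N) : (k + b) * q < b * (q + 1) := by
  by_contra hcon
  push Not at hcon
  have h1 : b ≤ k * q := by nlinarith
  have h2 : N * b ≤ N * (k * q) := Nat.mul_le_mul_left N h1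
  nlinarith

theorem arith2 (c' q b : ℕ) (hq : 1 ≤ q) (h : c' * q < b * (q + 1)) : c' < 2 * b := by
  by_contra hcon
  push Not at hcon
  have h1 : 2 * b * q ≤ c' * q := Nat.mul_le_mul_right q hcon
  nlinarith

theorem main [Finite G] {p : ℕ} [Fact p.Prime] (hG : IsPGroup p G) (b : ℕ)
    (hb : ∀ x : G, (Subgroup.centralizer ({x} : Set G)).index ≤ p ^ b) :
    ∃ c : ℕ, ((⊤ : Subgroup G).lowerCentralSeries (c)) = ⊥ ∧ (b ≠ 0 → (c - 1) * (p - 1) < b * p ∧ c ≤ 2 * b) ∧
      (b = 0 → c ≤ 1) := by
  classical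
  have hp : p.Prime := Fact.out
  haveI : Group.IsNilpotent G := hG.isNilpotent
  obtain ⟨n, hcard⟩ := hG.exists_card_eq
  haveI : Fintype G := Fintype.ofFinite G
  obtain ⟨c, hc⟩ : ∃ c, c = Group.nilpotencyClass G := ⟨_, rfl⟩
  have hNpos : 0 < Nat.card G := Nat.card_pos
  -- the two-step centralizers
  have hA : ∀ x : G, ((Finset.range (c - 1)).filter
      (fun j => x ∉ Csub ((⊤ : Subgroup G).lowerCentralSeries (j)) ((⊤ : Subgroup G).lowerCentralSeries (j + 2)))).card ≤ b :=
    fun x => count_le p n b hp hcard x (hb x) (c - 1)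
  have hprop : ∀ j ∈ Finset.range (c - 1), p * Nat.card (Csub ((⊤ : Subgroup G).lowerCentralSeries (j)) ((⊤ : Subgroup G).lowerCentralSeries (j + 2))) ≤ Nat.card G := by
    intro j hj
    rw [Finset.mem_range] at hj
    have hne := Csub_ne_top (G := G) j (by rw [← hc]; omega)
    have hidx : (Csub ((⊤ : Subgroup G).lowerCentralSeries (j)) ((⊤ : Subgroup G).lowerCentralSeries (j + 2))).index ≠ 1 := by
      rw [Ne, Subgroup.index_eq_one]
      exact hne
    have hdvd : (Csub ((⊤ : Subgroup G).lowerCentralSeries (j)) ((⊤ : Subgroup G).lowerCentralSeries (j + 2))).index ∣ p ^ n := by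
      rw [← hcard]
      exact Subgroup.index_dvd_card _
    have hple := p_le_of_dvd_pow hp hdvd hidx
    have hmul := Subgroup.card_mul_index (Csub ((⊤ : Subgroup G).lowerCentralSeries (j)) ((⊤ : Subgroup G).lowerCentralSeries (j + 2)))
    calc p * Nat.card (Csub ((⊤ : Subgroup G).lowerCentralSeries (j)) ((⊤ : Subgroup G).lowerCentralSeries (j + 2)))
        ≤ (Csub ((⊤ : Subgroup G).lowerCentralSeries (j)) ((⊤ : Subgroup G).lowerCentralSeries (j + 2))).index * Nat.card (Csub ((⊤ : Subgroup G).lowerCentralSeries (j)) ((⊤ : Subgroup G).lowerCentralSeries (j + 2))) :=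
          Nat.mul_le_mul_right _ hple
      _ = Nat.card G := by rw [mul_comm]; exact hmul
  refine ⟨c, ?_, ?_, ?_⟩
  · rw [hc]
    exact Subgroup.lowerCentralSeries_nilpotencyClass
  · intro hb0
    have hbpos : 0 < b := Nat.pos_of_ne_zero hb0
    obtain ⟨q, hq⟩ : ∃ q, p = q + 1 := ⟨p - 1, by have := hp.pos; omega⟩
    have hq1 : 1 ≤ q := by have := hp.two_le; omega
    have hfirst : (c - 1) * q < b * (q + 1) := by
      by_cases hcb : c - 1 ≤ b
      · have h1 : (c - 1) * q ≤ b * q := Nat.mul_le_mul_right q hcb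
        nlinarith
      · push Not at hcb
        obtain ⟨k, hk⟩ : ∃ k, c - 1 = k + b := ⟨c - 1 - b, by omega⟩
        rw [hk]
        apply arith1 q (Nat.card G) k b hNpos hbpos
        -- the double count
        have hB : ∀ x : G, k + (if x = 1 then b else 0) ≤
            ((Finset.range (c - 1)).filter (fun j => x ∈ Csub ((⊤ : Subgroup G).lowerCentralSeries (j)) ((⊤ : Subgroup G).lowerCentralSeries (j + 2)))).card := by
          intro x
          have hsum := Finset.card_filter_add_card_filter_not (s := Finset.range (c - 1))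
            (fun j => x ∈ Csub ((⊤ : Subgroup G).lowerCentralSeries (j)) ((⊤ : Subgroup G).lowerCentralSeries (j + 2)))
          rw [Finset.card_range] at hsum
          by_cases hx1 : x = 1
          · rw [if_pos hx1]
            have : (Finset.range (c - 1)).filter (fun j => x ∈ Csub ((⊤ : Subgroup G).lowerCentralSeries (j)) ((⊤ : Subgroup G).lowerCentralSeries (j + 2))) =
                Finset.range (c - 1) := by
              apply Finset.filter_true_of_mem
              intro j _
              rw [hx1]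
              exact Subgroup.one_mem _
            rw [this, Finset.card_range, hk]
          · rw [if_neg hx1]
            have := hA x
            omega
        have hcardC : ∀ H : Subgroup G, Nat.card H = ∑ x : G, if x ∈ H then 1 else 0 := by
          intro H
          rw [← Finset.card_filter, Nat.card_eq_fintype_card, Fintype.card_subtype]
        have hdc : ∑ x : G, ((Finset.range (c - 1)).filter
            (fun j => x ∈ Csub ((⊤ : Subgroup G).lowerCentralSeries (j)) ((⊤ : Subgroup G).lowerCentralSeries (j + 2)))).card =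
            ∑ j ∈ Finset.range (c - 1), Nat.card (Csub ((⊤ : Subgroup G).lowerCentralSeries (j)) ((⊤ : Subgroup G).lowerCentralSeries (j + 2))) := by
          simp_rw [hcardC, Finset.card_filter]
          exact Finset.sum_comm
        have hlow : Nat.card G * k + b ≤ ∑ x : G, ((Finset.range (c - 1)).filter
            (fun j => x ∈ Csub ((⊤ : Subgroup G).lowerCentralSeries (j)) ((⊤ : Subgroup G).lowerCentralSeries (j + 2)))).card := by
          calc Nat.card G * k + b = ∑ x : G, (k + (if x = 1 then b else 0)) := by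
                rw [Finset.sum_add_distrib, Finset.sum_const, Finset.card_univ,
                  Finset.sum_ite_eq' Finset.univ (1 : G) (fun _ => b), if_pos (Finset.mem_univ _),
                  smul_eq_mul, Nat.card_eq_fintype_card]
            _ ≤ _ := Finset.sum_le_sum (fun x _ => hB x)
        have hup : p * ∑ j ∈ Finset.range (c - 1), Nat.card (Csub ((⊤ : Subgroup G).lowerCentralSeries (j)) ((⊤ : Subgroup G).lowerCentralSeries (j + 2))) ≤
            (c - 1) * Nat.card G := by
          rw [Finset.mul_sum]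
          calc ∑ j ∈ Finset.range (c - 1), p * Nat.card (Csub ((⊤ : Subgroup G).lowerCentralSeries (j)) ((⊤ : Subgroup G).lowerCentralSeries (j + 2)))
              ≤ ∑ _j ∈ Finset.range (c - 1), Nat.card G := Finset.sum_le_sum hprop
            _ = (c - 1) * Nat.card G := by
                rw [Finset.sum_const, Finset.card_range, smul_eq_mul]
        rw [← hq, ← hk]
        calc p * (Nat.card G * k + b)
            ≤ p * ∑ x : G, ((Finset.range (c - 1)).filter
              (fun j => x ∈ Csub ((⊤ : Subgroup G).lowerCentralSeries (j)) ((⊤ : Subgroup G).lowerCentralSeries (j + 2)))).card := Nat.mul_le_mul_left p hlow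
          _ = p * ∑ j ∈ Finset.range (c - 1), Nat.card (Csub ((⊤ : Subgroup G).lowerCentralSeries (j)) ((⊤ : Subgroup G).lowerCentralSeries (j + 2))) := by rw [hdc]
          _ ≤ (c - 1) * Nat.card G := hup
    have hpq : p - 1 = q := by omega
    refine ⟨?_, ?_⟩
    · rw [hpq, hq]
      exact hfirst
    · have := arith2 (c - 1) q b hq1 hfirst
      omega
  · intro hb0
    by_contra hcon
    push Not at hcon
    have hne := Csub_ne_top (G := G) 0 (by rw [← hc]; omega)
    obtain ⟨x, hx⟩ : ∃ x : G, x ∉ Csub ((⊤ : Subgroup G).lowerCentralSeries (0)) ((⊤ : Subgroup G).lowerCentralSeries (0 + 2)) := by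
      by_contra hall
      push Not at hall
      exact hne (eq_top_iff.mpr (fun x _ => hall x))
    have h1 := count_le p n b hp hcard x (hb x) 1
    have h2 : (Finset.range 1).filter (fun j => x ∉ Csub ((⊤ : Subgroup G).lowerCentralSeries (j)) ((⊤ : Subgroup G).lowerCentralSeries (j + 2))) = {0} := by
      ext j
      simp only [Finset.mem_filter, Finset.mem_range, Finset.mem_singleton]
      constructor
      · rintro ⟨hj, _⟩
        omega
      · rintro rfl
        exact ⟨by norm_num, hx⟩
    rw [h2, Finset.card_singleton] at h1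
    omega

end lgnw
/-- If G is a finite p-group in which every conjugacy class has at most p^b elements (every element has centralizer of index at most p^b), then G is abelian when b = 0, and when b ≥ 1 its nilpotency class c satisfies (c − 1)(p − 1) < bp, that is c < bp/(p − 1) + 1, and hence c ≤ 2b. -/
theorem result {G : Type*} [Group G] [Finite G] {p : ℕ} [Fact p.Prime] (hG : IsPGroup p G) (b : ℕ) (hb : ∀ x : G, (Subgroup.centralizer ({x} : Set G)).index ≤ p ^ b) : ∃ c : ℕ, (⊤ : Subgroup G).lowerCentralSeries c = ⊥ ∧ (b ≠ 0 → (c - 1) * (p - 1) < b * p ∧ c ≤ 2 * b) ∧ (b = 0 → c ≤ 1) := by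
  exact main hG b hb

end Cfsg.Agent.S3778
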