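import Cfsg.Statements.S3780
import Mathlib

set_option autoImplicit false
open Cfsg

namespace Cfsg.Agent.S3780


theorem card_le_ker_mul {X Y : Type*} [AddCommGroup X] [AddCommGroup Y] [Finite X] [Finite Y]
    (g : X →+ Y) : Nat.card X ≤ Nat.card g.ker * Nat.card Y := by
  have h1 : Nat.card g.ker * g.ker.index = Nat.card X := AddSubgroup.card_mul_index _
  have h2 : g.ker.index = Nat.card g.range := AddSubgroup.index_ker g
  have h3 : Nat.card g.range ≤ Nat.card Y := Nat.card_le_card_of_injective _ Subtype.val_injective
  rw [← h1, h2]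
  exact Nat.mul_le_mul_left _ h3

/-- kernel of an endomorphism -/
def kerE {A : Type*} [AddCommGroup A] (f : AddMonoid.End A) : AddSubgroup A where
  carrier := {w | f w = 0}
  zero_mem' := map_zero f
  add_mem' := by
    intro x y hx hy
    simp only [Set.mem_ofPred_eq] at hx hy ⊢
    rw [map_add, hx, hy, add_zero]
  neg_mem' := by
    intro x hx
    simp only [Set.mem_ofPred_eq] at hx ⊢
    rw [map_neg, hx, neg_zero]

theorem mem_kerE {A : Type*} [AddCommGroup A] (f : AddMonoid.End A) (w : A) :
    w ∈ kerE f ↔ f w = 0 := Iff.rfl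

theorem card_le_fix_pow {A : Type*} [AddCommGroup A] [Finite A] {p : ℕ} [Fact p.Prime]
    (hA : ∀ w : A, p • w = 0) (a : AddMonoid.End A) (ha : a ^ p = 1) :
    Nat.card A ≤ (Nat.card {w : A // a w = w}) ^ p := by
  have hp : p.Prime := Fact.out
  rcases subsingleton_or_nontrivial A with hs | hnt
  · rw [Nat.card_of_subsingleton (0 : A)]
    haveI : Nonempty {w : A // a w = w} := ⟨⟨0, map_zero a⟩⟩
    exact Nat.one_le_pow _ _ Nat.card_pos
  obtain ⟨t, ht⟩ : ∃ t : AddMonoid.End A, t = a - 1 := ⟨_, rfl⟩
  have htp : t ^ p = 0 := by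
    haveI : CharP (AddMonoid.End A) p := by
      constructor
      intro m
      constructor
      · intro h
        obtain ⟨w, hw⟩ := exists_ne (0 : A)
        have h1 : (m : AddMonoid.End A) w = 0 := by rw [h]; rfl
        have h2 : (m : AddMonoid.End A) w = m • w := by
          simp
        rw [h2] at h1
        have h3 : addOrderOf w ∣ m := addOrderOf_dvd_of_nsmul_eq_zero h1
        have h4 : addOrderOf w ∣ p := addOrderOf_dvd_of_nsmul_eq_zero (hA w)
        rcases (Nat.dvd_prime hp).1 h4 with h5 | h5
        · rw [AddMonoid.addOrderOf_eq_one_iff] at h5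
          exact absurd h5 hw
        · rw [← h5]; exact h3
      · rintro ⟨c, rfl⟩
        ext w
        simp [hA]
    rw [ht, sub_pow_char_of_commute p (Commute.one_right a), ha, one_pow, sub_self]
  have key : ∀ j : ℕ, Nat.card (kerE (t ^ j)) ≤ (Nat.card (kerE t)) ^ j := by
    intro j
    induction j with
    | zero =>
      rw [pow_zero, pow_zero]
      have : kerE (1 : AddMonoid.End A) = ⊥ := by
        ext w
        rw [mem_kerE, AddSubgroup.mem_bot]
        rfl
      rw [this, AddSubgroup.card_bot]
    | succ j ih =>
      have hmaps : ∀ w : kerE (t ^ (j + 1)), t (w : A) ∈ kerE (t ^ j) := by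
        rintro ⟨w, hw⟩
        rw [mem_kerE]
        have h7 : (t ^ (j + 1)) w = 0 := hw
        rw [pow_succ] at h7
        exact h7
      let g : kerE (t ^ (j + 1)) →+ kerE (t ^ j) :=
        { toFun := fun w => ⟨t (w : A), hmaps w⟩
          map_zero' := by ext; simp
          map_add' := by intro x y; ext; simp }
      have h1 := card_le_ker_mul g
      have h2 : Nat.card g.ker ≤ Nat.card (kerE t) := by
        apply Nat.card_le_card_of_injective (fun w : g.ker => (⟨((w : kerE (t ^ (j + 1))) : A), by
          have hw := w.2
          rw [AddMonoidHom.mem_ker] at hw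
          have := congrArg Subtype.val hw
          rw [mem_kerE]
          exact this⟩ : kerE t))
        intro w w' h
        have := congrArg Subtype.val h
        exact Subtype.ext (Subtype.ext this)
      calc Nat.card (kerE (t ^ (j + 1)))
          ≤ Nat.card g.ker * Nat.card (kerE (t ^ j)) := h1
        _ ≤ Nat.card (kerE t) * (Nat.card (kerE t)) ^ j := Nat.mul_le_mul h2 ih
        _ = (Nat.card (kerE t)) ^ (j + 1) := by rw [pow_succ]; ring
  have hk := key p
  rw [htp] at hk
  have htop : kerE (0 : AddMonoid.End A) = ⊤ := by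
    ext w
    simp [mem_kerE]
  rw [htop, AddSubgroup.card_top] at hk
  have hfix : Nat.card (kerE t) = Nat.card {w : A // a w = w} := by
    apply Nat.card_congr
    refine Equiv.subtypeEquivRight (fun w => ?_)
    rw [mem_kerE, ht]
    show a w - w = 0 ↔ a w = w
    exact sub_eq_zero
  rw [hfix] at hk
  exact hk


/-- a product of nontrivial cyclic `p`-groups has at least `p ^ |ι|` elements killed by `p`,
and is generated by `|ι|` elements -/
theorem gens_of_equiv {V : Type*} [CommGroup V] [Finite V] {p : ℕ} [Fact p.Prime]
    (hV : IsPGroup p V) {ι : Type} [Fintype ι] (m : ι → ℕ) (hm : ∀ i, 1 < m i)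
    (e : V ≃* ((i : ι) → Multiplicative (ZMod (m i)))) :
    p ^ Fintype.card ι ≤ Nat.card {v : V // v ^ p = 1} ∧
      ∃ S : Finset V, S.card ≤ Fintype.card ι ∧ Subgroup.closure (S : Set V) = ⊤ := by
  classical
  have hp : p.Prime := Fact.out
  haveI : ∀ i, NeZero (m i) := fun i => ⟨by have := hm i; omega⟩
  constructor
  · -- counting
    have e1 : {v : V // v ^ p = 1} ≃ {f : (i : ι) → Multiplicative (ZMod (m i)) // ∀ i, f i ^ p = 1} := by
      refine Equiv.subtypeEquiv e.toEquiv (fun v => ?_)
      constructor
      · intro hv i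
        have : (e v) ^ p = 1 := by rw [← map_pow, hv, map_one]
        have := congrFun this i
        simpa using this
      · intro hv
        apply e.injective
        rw [map_pow, map_one]
        funext i
        simpa using hv i
    have e2 : {f : (i : ι) → Multiplicative (ZMod (m i)) // ∀ i, f i ^ p = 1} ≃
        ((i : ι) → {x : Multiplicative (ZMod (m i)) // x ^ p = 1}) :=
      Equiv.subtypePiEquivPi (β := fun i => Multiplicative (ZMod (m i))) (p := fun i x => x ^ p = 1)
    rw [Nat.card_congr (e1.trans e2), Nat.card_pi]
    have hi : ∀ i ∈ (Finset.univ : Finset ι), p ≤ Nat.card {x : Multiplicative (ZMod (m i)) // x ^ p = 1} := by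
      intro i _
      -- M i is a nontrivial p-group
      have hpg : IsPGroup p (Multiplicative (ZMod (m i))) := by
        intro x
        obtain ⟨k, hk⟩ := hV (e.symm (Pi.mulSingle i x))
        refine ⟨k, ?_⟩
        have h1 : (Pi.mulSingle i x : (j : ι) → Multiplicative (ZMod (m j))) ^ (p ^ k) = 1 := by
          have := congrArg e hk
          rw [map_pow, map_one, MulEquiv.apply_symm_apply] at this
          exact this
        have := congrFun h1 i
        simpa using this
      have hcard : Nat.card (Multiplicative (ZMod (m i))) = m i := by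
        rw [Nat.card_congr Multiplicative.toAdd, Nat.card_zmod]
      obtain ⟨k, hk⟩ := IsPGroup.iff_card.1 hpg
      have hk0 : k ≠ 0 := by
        intro h0
        rw [h0, pow_zero, hcard] at hk
        have := hm i; omega
      have hdvd : p ∣ Nat.card (Multiplicative (ZMod (m i))) := by
        rw [hk]; exact dvd_pow_self p hk0
      obtain ⟨u, hu⟩ := exists_prime_orderOf_dvd_card' p hdvd
      have hzc : Nat.card (Subgroup.zpowers u) = p := by rw [Nat.card_zpowers, hu]
      refine le_trans (le_of_eq hzc.symm) ?_
      apply Nat.card_le_card_of_injective (fun y : Subgroup.zpowers u =>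
        (⟨(y : Multiplicative (ZMod (m i))), by
          obtain ⟨j, hj⟩ := Subgroup.mem_zpowers_iff.1 y.2
          rw [← hj, ← zpow_natCast, ← zpow_mul, mul_comm, zpow_mul, zpow_natCast, ← hu,
            pow_orderOf_eq_one, one_zpow]⟩ : {x : Multiplicative (ZMod (m i)) // x ^ p = 1}))
      intro y y' h
      have h8 : (y : Multiplicative (ZMod (m i))) = y' := by
        have := congrArg Subtype.val h
        exact this
      exact Subtype.ext h8
    have := Finset.pow_card_le_prod Finset.univ
      (fun i => Nat.card {x : Multiplicative (ZMod (m i)) // x ^ p = 1}) p hi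
    simpa using this
  · -- generators
    refine ⟨Finset.univ.image (fun i : ι => e.symm (Pi.mulSingle i (Multiplicative.ofAdd (1 : ZMod (m i))))),
      ?_, ?_⟩
    · exact le_trans Finset.card_image_le (by simp)
    · rw [eq_top_iff]
      intro v _
      have h1 : v = e.symm (e v) := (e.symm_apply_apply v).symm
      have h2 : e v = ∏ i, Pi.mulSingle i ((e v) i) := (Finset.univ_prod_mulSingle (e v)).symm
      have h3 : ∀ i, (e v) i = (Multiplicative.ofAdd (1 : ZMod (m i))) ^ (Multiplicative.toAdd ((e v) i)).val := by
        intro i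
        rw [← ofAdd_nsmul]
        simp
      have h4 : ∀ i, (Pi.mulSingle i ((e v) i) : (j : ι) → Multiplicative (ZMod (m j))) =
          (Pi.mulSingle i (Multiplicative.ofAdd (1 : ZMod (m i)))) ^ (Multiplicative.toAdd ((e v) i)).val := by
        intro i
        conv_lhs => rw [h3 i]
        exact (MonoidHom.mulSingle (fun j => Multiplicative (ZMod (m j))) i).map_pow _ _
      rw [h1, h2, map_prod]
      apply Subgroup.prod_mem
      intro i _
      rw [h4 i, map_pow]
      apply Subgroup.pow_mem
      apply Subgroup.subset_closure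
      exact Finset.mem_coe.2 (Finset.mem_image_of_mem _ (Finset.mem_univ i))


theorem main3780 {V : Type*} [CommGroup V] [Finite V] {p : ℕ} [Fact p.Prime] (hV : IsPGroup p V)
    (α : MulAut V) (hα : orderOf α = p) (n : ℕ) (hfix : Nat.card {v : V // α v = v} = p ^ n) :
    ∃ S : Finset V, S.card ≤ p * n ∧ Subgroup.closure (S : Set V) = ⊤ := by
  have hp : p.Prime := Fact.out
  -- the subgroup of elements killed by p
  let U : Subgroup V := (powMonoidHom p : V →* V).ker
  have hU : ∀ v : V, v ∈ U ↔ v ^ p = 1 := by
    intro v
    show (powMonoidHom p : V →* V) v = 1 ↔ _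
    rw [powMonoidHom_apply]
  have hαU : ∀ u : U, α (u : V) ∈ U := by
    intro u
    rw [hU, ← map_pow, (hU u).1 u.2, map_one]
  let αU : U →* U :=
    { toFun := fun u => ⟨α (u : V), hαU u⟩
      map_one' := by ext; simp
      map_mul' := by intro x y; ext; simp }
  let a : AddMonoid.End (Additive U) := MonoidHom.toAdditive αU
  have hapow : ∀ (k : ℕ) (u : U), ((Additive.toMul ((a ^ k) (Additive.ofMul u)) : U) : V) = (α ^ k) (u : V) := by
    intro k
    induction k with
    | zero => intro u; simp
    | succ k ih =>
      intro u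
      rw [pow_succ', pow_succ']
      show ((Additive.toMul (a ((a ^ k) (Additive.ofMul u))) : U) : V) = α ((α ^ k) (u : V))
      rw [← ih u]
      rfl
  have ha : a ^ p = 1 := by
    refine DFunLike.ext _ _ (fun w => ?_)
    obtain ⟨u, rfl⟩ : ∃ u : U, Additive.ofMul u = w := ⟨Additive.toMul w, rfl⟩
    apply Additive.toMul.injective
    apply Subtype.ext
    rw [hapow p u, ← hα, pow_orderOf_eq_one]
    rfl
  have hA : ∀ w : Additive U, p • w = 0 := by
    intro w
    obtain ⟨u, rfl⟩ : ∃ u : U, Additive.ofMul u = w := ⟨Additive.toMul w, rfl⟩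
    rw [← ofMul_pow]
    have : u ^ p = 1 := Subtype.ext (by simpa using (hU u).1 u.2)
    rw [this]; rfl
  have h1 := card_le_fix_pow hA a ha
  have h2 : Nat.card {w : Additive U // a w = w} ≤ p ^ n := by
    rw [← hfix]
    apply Nat.card_le_card_of_injective (fun w : {w : Additive U // a w = w} =>
      (⟨((Additive.toMul (w : Additive U) : U) : V), by
        have hw := w.2
        have := congrArg (fun x : Additive U => ((Additive.toMul x : U) : V)) hw
        exact this⟩ : {v : V // α v = v}))
    intro w w' h
    have h3 : ((Additive.toMul (w : Additive U) : U) : V) = ((Additive.toMul (w' : Additive U) : U) : V) := by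
      have := congrArg Subtype.val h
      exact this
    exact Subtype.ext (Additive.toMul.injective (Subtype.ext h3))
  have h3 : Nat.card U ≤ p ^ (n * p) := by
    have : Nat.card (Additive U) = Nat.card U := Nat.card_congr Additive.toMul
    rw [← this, pow_mul]
    exact le_trans h1 (Nat.pow_le_pow_left h2 p)
  obtain ⟨ι, hι, m, hm, ⟨e⟩⟩ := CommGroup.equiv_prod_multiplicative_zmod_of_finite V
  obtain ⟨hcount, S, hS, hcl⟩ := gens_of_equiv hV m hm e
  have h4 : Nat.card {v : V // v ^ p = 1} = Nat.card U :=
    Nat.card_congr (Equiv.subtypeEquivRight (fun v => (hU v).symm))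
  rw [h4] at hcount
  have h5 : Fintype.card ι ≤ n * p :=
    (Nat.pow_le_pow_iff_right hp.one_lt).1 (le_trans hcount h3)
  exact ⟨S, by rw [mul_comm]; exact le_trans hS h5, hcl⟩



/-- Let V be a finite abelian p-group and α an automorphism of V of order p whose fixed-point subgroup has order p^n. Then V can be generated by pn elements: some subset of V with at most pn elements generates V. -/
theorem result {V : Type*} [CommGroup V] [Finite V] {p : ℕ} [Fact p.Prime] (hV : IsPGroup p V) (α : MulAut V) (hα : orderOf α = p) (n : ℕ) (hfix : Nat.card {v : V // α v = v} = p ^ n) : ∃ S : Finset V, S.card ≤ p * n ∧ Subgroup.closure (S : Set V) = ⊤ := by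
  exact main3780 hV α hα n hfix

end Cfsg.Agent.S3780
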