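import Cfsg.Statements.S3784
import Mathlib

set_option autoImplicit false
open Cfsg

namespace Cfsg.Agent.S3784

open Finset in
theorem lemU (x y : ℤ) (n k : ℕ) (hxy : (2 : ℤ) ∣ x - y) (hx : ¬ (2 : ℤ) ∣ x) (hn : ¬ 2 ∣ n)
    (h : x ^ n - y ^ n = 2 ^ k) : (x - y).natAbs = 2 ^ k := by
  have h2 : Prime (2 : ℤ) := Int.prime_two
  have hn' : ¬ (2 : ℤ) ∣ (n : ℤ) := by
    intro hd
    exact hn (by exact_mod_cast hd)
  have hS := _root_.not_dvd_geom_sum₂ (R := ℤ) (x := x) (y := y) (n := n) h2 hxy hx hn'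
  have hmul := geom_sum₂_mul x y n
  rw [h] at hmul
  set S := ∑ i ∈ range n, x ^ i * y ^ (n - 1 - i) with hSdef
  have habs : S.natAbs * (x - y).natAbs = 2 ^ k := by
    rw [← Int.natAbs_mul, hmul]
    simp [Int.natAbs_pow]
  have hdvd : S.natAbs ∣ 2 ^ k := ⟨_, habs.symm⟩
  obtain ⟨j, _, hj⟩ := (Nat.dvd_prime_pow Nat.prime_two).1 hdvd
  have hj0 : j = 0 := by
    by_contra hne
    apply hS
    have : (2 : ℕ) ∣ S.natAbs := by rw [hj]; exact dvd_pow_self 2 hne
    exact Int.natCast_dvd.2 this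
  rw [hj0, pow_zero] at hj
  rw [hj, one_mul] at habs
  exact habs

theorem oddA (p a b : ℕ) (hp2 : 2 ≤ p) (hpodd : ¬ 2 ∣ p) (ha : ¬ 2 ∣ a) (h : p ^ a = 2 ^ b + 1) :
    a = 1 := by
  have h1 : ((p : ℤ)) ^ a - 1 ^ a = 2 ^ b := by
    rw [one_pow]
    have : ((p ^ a : ℕ) : ℤ) = ((2 ^ b + 1 : ℕ) : ℤ) := by rw [h]
    push_cast at this
    linarith
  have hx : ¬ (2 : ℤ) ∣ (p : ℤ) := by
    intro hd; exact hpodd (by exact_mod_cast hd)
  have hxy : (2 : ℤ) ∣ (p : ℤ) - 1 := by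
    have : p % 2 = 1 := by omega
    omega
  have := lemU (p : ℤ) 1 a b hxy hx ha h1
  have hp1 : ((p : ℤ) - 1).natAbs = p - 1 := by omega
  rw [hp1] at this
  have hpa : p ^ a = p ^ 1 := by rw [pow_one, h]; omega
  exact Nat.pow_right_injective hp2 hpa

theorem oddB (q a b : ℕ) (hq2 : 2 ≤ q) (hqodd : ¬ 2 ∣ q) (hb : ¬ 2 ∣ b) (h : 2 ^ a = q ^ b + 1) :
    b = 1 := by
  have hbodd : Odd b := by
    rcases Nat.even_or_odd b with he | ho
    · exact absurd he.two_dvd hb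
    · exact ho
  have h1 : ((q : ℤ)) ^ b - (-1) ^ b = 2 ^ a := by
    rw [hbodd.neg_one_pow]
    have : ((2 ^ a : ℕ) : ℤ) = ((q ^ b + 1 : ℕ) : ℤ) := by rw [h]
    push_cast at this
    linarith
  have hx : ¬ (2 : ℤ) ∣ (q : ℤ) := by
    intro hd; exact hqodd (by exact_mod_cast hd)
  have hxy : (2 : ℤ) ∣ (q : ℤ) - (-1) := by
    have : q % 2 = 1 := by omega
    omega
  have := lemU (q : ℤ) (-1) b a hxy hx hb h1
  have hq1 : ((q : ℤ) - (-1)).natAbs = q + 1 := by omega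
  rw [hq1] at this
  have hqb : q ^ b = q ^ 1 := by rw [pow_one]; omega
  exact Nat.pow_right_injective hq2 hqb

theorem evenA (y b : ℕ) (hy : 2 ≤ y) (h : y ^ 2 = 2 ^ b + 1) : y ^ 2 = 9 ∧ 2 ^ b = 8 := by
  have hfac : (y - 1) * (y + 1) = 2 ^ b := by
    have : y ^ 2 = (y - 1) * (y + 1) + 1 := by
      obtain ⟨z, rfl⟩ : ∃ z, y = z + 1 := ⟨y - 1, by omega⟩
      simp only [Nat.add_sub_cancel]; ring
    omega
  have hd1 : (y - 1) ∣ 2 ^ b := ⟨_, hfac.symm⟩
  have hd2 : (y + 1) ∣ 2 ^ b := ⟨_, by rw [← hfac, mul_comm]⟩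
  obtain ⟨i, _, hi⟩ := (Nat.dvd_prime_pow Nat.prime_two).1 hd1
  obtain ⟨j, _, hj⟩ := (Nat.dvd_prime_pow Nat.prime_two).1 hd2
  have hij : 2 ^ i + 2 = 2 ^ j := by omega
  have hy3 : y = 3 := by
    rcases i with _ | _ | i
    · -- 2^0 + 2 = 3 = 2^j
      exfalso
      rcases j with _ | j
      · simp at hij
      · rw [pow_succ] at hij; omega
    · omega
    · exfalso
      rcases j with _ | _ | j
      · simp at hij
      · have : 0 < 2 ^ (i + 1 + 1) := pow_pos two_pos _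
        omega
      · rw [pow_succ, pow_succ] at hij
        rw [pow_succ (n := j + 1), pow_succ (n := j)] at hij
        omega
  subst hy3
  constructor
  · norm_num
  · omega

theorem evenB (y a : ℕ) (hy : 2 ≤ y) (hodd : ¬ 2 ∣ y) (h : 2 ^ a = y ^ 2 + 1) : False := by
  obtain ⟨m, rfl⟩ : ∃ m, y = 2 * m + 1 := ⟨y / 2, by omega⟩
  have h2 : (2 * m + 1) ^ 2 + 1 = 4 * (m * m + m) + 2 := by ring
  rw [h2] at h
  rcases a with _ | _ | a
  · simp at h
  · have : m * m + m = 0 := by omega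
    have : m = 0 := by nlinarith
    omega
  · rw [pow_succ, pow_succ] at h
    omega

theorem result (p q a b : ℕ) (hp : p.Prime) (hq : q.Prime) (ha : 1 ≤ a) (hb : 1 ≤ b) (h : p ^ a = q ^ b + 1) : (p = 2 ∧ b = 1 ∧ a.Prime ∧ q + 1 = 2 ^ a) ∨ (q = 2 ∧ a = 1 ∧ (∃ m : ℕ, b = 2 ^ m) ∧ p = 2 ^ b + 1) ∨ (p ^ a = 9 ∧ q ^ b = 8) := by
  by_cases hq2 : q = 2
  · subst hq2
    right
    -- p is odd
    have hpodd : ¬ 2 ∣ p := by
      intro hd
      have : 2 ∣ p ^ a := dvd_pow hd (by omega)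
      rw [h] at this
      have h2 : 2 ∣ 2 ^ b := dvd_pow_self 2 (by omega)
      have := (Nat.dvd_add_right h2).1 this
      omega
    by_cases hae : 2 ∣ a
    · right
      obtain ⟨c, rfl⟩ := hae
      have hc : 1 ≤ c := by omega
      rw [mul_comm, pow_mul] at h
      have hy : 2 ≤ p ^ c := by
        calc 2 ≤ p := hp.two_le
          _ = p ^ 1 := (pow_one p).symm
          _ ≤ p ^ c := Nat.pow_le_pow_right hp.pos hc
      have := evenA (p ^ c) b hy h
      rw [mul_comm, pow_mul]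
      exact this
    · left
      have ha1 := oddA p a b hp.two_le hpodd hae h
      subst ha1
      rw [pow_one] at h
      refine ⟨rfl, rfl, ?_, h⟩
      have hP : (2 ^ b + 1).Prime := by rw [← h]; exact hp
      exact Nat.pow_of_pow_add_prime (by norm_num) (by omega) hP
  · left
    have hqodd : ¬ 2 ∣ q := by
      intro hd
      exact hq2 ((Nat.prime_dvd_prime_iff_eq Nat.prime_two hq).1 hd).symm
    have hp2 : p = 2 := by
      have hqb : ¬ 2 ∣ q ^ b := fun hd => hqodd (Nat.prime_two.dvd_of_dvd_pow hd)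
      have : 2 ∣ q ^ b + 1 := by omega
      rw [← h] at this
      have := Nat.prime_two.dvd_of_dvd_pow this
      exact ((Nat.prime_dvd_prime_iff_eq Nat.prime_two hp).1 this).symm
    subst hp2
    by_cases hbe : 2 ∣ b
    · exfalso
      obtain ⟨c, rfl⟩ := hbe
      have hc : 1 ≤ c := by omega
      rw [mul_comm, pow_mul] at h
      have hy : 2 ≤ q ^ c := by
        calc 2 ≤ q := hq.two_le
          _ = q ^ 1 := (pow_one q).symm
          _ ≤ q ^ c := Nat.pow_le_pow_right hq.pos hc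
      have hyodd : ¬ 2 ∣ q ^ c := fun hd => hqodd (Nat.prime_two.dvd_of_dvd_pow hd)
      exact evenB (q ^ c) a hy hyodd h
    · have hb1 := oddB q a b hq.two_le hqodd hbe h
      subst hb1
      rw [pow_one] at h
      refine ⟨rfl, rfl, ?_, h.symm⟩
      have ha1 : a ≠ 1 := by
        intro h1
        subst h1
        have := hq.two_le
        omega
      have hP : (2 ^ a - 1).Prime := by
        have : 2 ^ a - 1 = q := by omega
        rw [this]; exact hq
      exact (Nat.prime_of_pow_sub_one_prime ha1 hP).2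

end Cfsg.Agent.S3784
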