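import Mathlib
import Cfsg.Statements.S3785
import Cfsg.Agent.Lib.Helper7.OmegaFix
import Cfsg.Agent.S0044
import Cfsg.Agent.Lib.Helper1.Fitting2
import Cfsg.Agent.Lib.Helper7.PrimaryDecomp

set_option autoImplicit false
open Cfsg

namespace Cfsg.Agent.S3785

open Cfsg.Agent.Lib.Helper1

variable {G : Type*} [Group G]

theorem lemB [Finite G] (hodd : Odd (Nat.card (Cfsg.fittingSubgroup G))) (p : ℕ)
    [hp : Fact p.Prime] (y : G) (hy : (orderOf y).Coprime p)
    (hyc : ∀ u ∈ pCore p G, orderOf u = p → y * u = u * y) :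
    ∀ u ∈ pCore p G, y * u = u * y := by
  by_cases hp2 : p = 2
  · subst hp2
    have hle : pCore 2 G ≤ fittingSubgroup G := by
      rw [fitting_eq_pCoreSup]; exact pCore_le_pCoreSup Nat.prime_two
    have hdvd := Subgroup.card_dvd_of_le hle
    obtain ⟨k, hk⟩ := IsPGroup.exists_card_eq (pCore_isPGroup (p := 2) (G := G))
    have hk0 : k = 0 := by
      by_contra h
      have : 2 ∣ Nat.card (fittingSubgroup G) :=
        dvd_trans (by rw [hk]; exact dvd_pow_self 2 h) hdvd
      exact (Nat.not_even_iff_odd.2 hodd) (even_iff_two_dvd.2 this)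
    rw [hk0, pow_zero] at hk
    have hbot := Subgroup.card_eq_one.1 hk
    intro u hu
    rw [hbot, Subgroup.mem_bot] at hu
    rw [hu]; simp
  · exact Cfsg.Agent.Lib.Helper7.centralizes_of_centralizes_order_p p hp2 y hy _ (pCore p G) rfl pCore_isPGroup
      (fun a ha => (Cfsg.pCore_normal p G).conj_mem a ha y) hyc

theorem lemC [Finite G] [hG : Group.IsSolvable G]
    (hodd : Odd (Nat.card (Cfsg.fittingSubgroup G)))
    (p : ℕ) [hp : Fact p.Prime] (h : G) (k : ℕ) (hk : orderOf h = p ^ k)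
    (hh : ∀ x ∈ Cfsg.fittingSubgroup G, (orderOf x).Prime → h * x = x * h) :
    h ∈ Cfsg.fittingSubgroup G := by
  classical
  have hpp := hp.out
  obtain ⟨A, hA⟩ : ∃ A : Subgroup G,
      A = ⨆ (q : Nat.Primes) (_ : (q : ℕ) ≠ p), pCore (q : ℕ) G := ⟨_, rfl⟩
  have hFle : fittingSubgroup G ≤ pCore p G ⊔ A := by
    rw [fitting_eq_pCoreSup]
    unfold pCoreSup
    apply iSup_le
    intro q
    by_cases hq : (q : ℕ) = p
    · rw [hq]; exact le_sup_left
    · refine le_trans ?_ le_sup_right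
      rw [hA]
      exact le_iSup₂ (f := fun (q : Nat.Primes) (_ : (q : ℕ) ≠ p) => pCore (q : ℕ) G) q hq
  have hqF : ∀ q : Nat.Primes, pCore (q : ℕ) G ≤ fittingSubgroup G := by
    intro q; rw [fitting_eq_pCoreSup]; exact pCore_le_pCoreSup q.2
  have hOpF : pCore p G ≤ fittingSubgroup G := hqF ⟨p, hpp⟩
  haveI hAn : A.Normal := by
    rw [hA]
    haveI : ∀ q : Nat.Primes, (pCore (q : ℕ) G).Normal := fun q => Cfsg.pCore_normal _ G
    infer_instance
  have hAcop : ∀ a ∈ A, (orderOf a).Coprime p := by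
    have hAle : A ≤ pPrimeCore p G := by
      rw [hA]
      apply iSup₂_le
      intro q hq
      haveI : Fact (q : ℕ).Prime := ⟨q.2⟩
      apply le_pPrimeCore _ (Cfsg.pCore_normal _ G)
      obtain ⟨k, hk⟩ := IsPGroup.iff_card.1 (pCore_isPGroup (p := (q : ℕ)) (G := G))
      rw [hk]
      apply Nat.Coprime.pow_left
      exact (Nat.coprime_primes q.2 hpp).2 hq
    intro a ha
    have h1 : orderOf a ∣ Nat.card (pPrimeCore p G) := by
      have := orderOf_dvd_natCard (⟨a, hAle ha⟩ : pPrimeCore p G)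
      rwa [Subgroup.orderOf_mk] at this
    exact Nat.Coprime.coprime_dvd_left h1 (pPrimeCore_coprime p)
  -- h centralizes each O_q, q ≠ p
  have hcq : ∀ q : Nat.Primes, (q : ℕ) ≠ p → ∀ u ∈ pCore (q : ℕ) G, h * u = u * h := by
    intro q hq
    haveI : Fact (q : ℕ).Prime := ⟨q.2⟩
    apply lemB hodd (q : ℕ) h
    · rw [hk]; exact Nat.Coprime.pow_left k ((Nat.coprime_primes hpp q.2).2 (Ne.symm hq))
    · intro u hu hou
      exact hh u (hqF q hu) (hou ▸ q.2)
  obtain ⟨Ω, hΩ⟩ : ∃ Ω : Set G, Ω = (A : Set G) ∪ {u | u ∈ pCore p G ∧ orderOf u = p} :=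
    ⟨_, rfl⟩
  obtain ⟨W, hW⟩ : ∃ W : Subgroup G, W = Subgroup.centralizer Ω := ⟨_, rfl⟩
  have hmemW : ∀ w, w ∈ W ↔ ∀ s ∈ Ω, s * w = w * s := by
    intro w; rw [hW, Subgroup.mem_centralizer_iff]
  have hAΩ : ∀ a ∈ A, a ∈ Ω := fun a ha => by rw [hΩ]; exact Or.inl ha
  -- h ∈ W
  have hhW : h ∈ W := by
    rw [hmemW]
    intro s hs
    rw [hΩ] at hs
    rcases hs with hs | ⟨hs1, hs2⟩
    · have hle : A ≤ Subgroup.centralizer {h} := by
        rw [hA]
        apply iSup₂_le
        intro q hq u hu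
        rw [Subgroup.mem_centralizer_iff]
        intro t ht
        rw [Set.mem_singleton_iff] at ht
        subst ht
        exact hcq q hq u hu
      have := Subgroup.mem_centralizer_iff.1 (hle hs) h (Set.mem_singleton h)
      exact this.symm
    · exact (hh s (hOpF hs1) (hs2 ▸ hpp)).symm
  -- Ω is a normal set
  have hΩconj : ∀ s ∈ Ω, ∀ g : G, g * s * g⁻¹ ∈ Ω := by
    intro s hs g
    rw [hΩ] at hs ⊢
    rcases hs with hs | ⟨hs1, hs2⟩
    · exact Or.inl (hAn.conj_mem s hs g)
    · refine Or.inr ⟨(Cfsg.pCore_normal p G).conj_mem s hs1 g, ?_⟩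
      rw [← hs2]
      exact (MulAut.conj g).orderOf_eq s
  have hWn : W.Normal := by
    refine ⟨fun w hw g => ?_⟩
    rw [hmemW] at hw ⊢
    intro s hs
    have h1 := hw _ (hΩconj s hs g⁻¹)
    rw [inv_inv] at h1
    calc s * (g * w * g⁻¹) = g * ((g⁻¹ * s * g) * w) * g⁻¹ := by group
      _ = g * (w * (g⁻¹ * s * g)) * g⁻¹ := by rw [h1]
      _ = g * w * g⁻¹ * s := by group
  -- p'-elements of W are central in W
  have hcentral : ∀ y ∈ W, (orderOf y).Coprime p → ∀ w ∈ W, y * w = w * y := by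
    intro y hyW hycop w hwW
    have hy1 : ∀ u ∈ pCore p G, y * u = u * y := by
      apply lemB hodd p y hycop
      intro u hu hou
      have : u ∈ Ω := by rw [hΩ]; exact Or.inr ⟨hu, hou⟩
      exact ((hmemW y).1 hyW u this).symm
    have hy2 : ∀ a ∈ A, y * a = a * y := fun a ha => ((hmemW y).1 hyW a (hAΩ a ha)).symm
    have hle : pCore p G ⊔ A ≤ Subgroup.centralizer {y} := by
      apply sup_le
      · intro u hu
        rw [Subgroup.mem_centralizer_iff]
        intro t ht
        rw [Set.mem_singleton_iff] at ht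
        subst ht
        exact hy1 u hu
      · intro u hu
        rw [Subgroup.mem_centralizer_iff]
        intro t ht
        rw [Set.mem_singleton_iff] at ht
        subst ht
        exact hy2 u hu
    have hyC : y ∈ Subgroup.centralizer (fittingSubgroup G : Set G) := by
      rw [Subgroup.mem_centralizer_iff]
      intro f hf
      have := Subgroup.mem_centralizer_iff.1 (hle (hFle hf)) y (Set.mem_singleton y)
      exact this.symm
    have hyF : y ∈ fittingSubgroup G := Cfsg.Agent.S0044.result hyC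
    have hy3 : y ∈ ((pCore p G ⊔ A : Subgroup G) : Set G) := hFle hyF
    rw [Subgroup.mul_normal] at hy3
    obtain ⟨u, hu, a, ha, hua⟩ := Set.mem_mul.1 hy3
    -- u = y * a⁻¹ has order prime to p, hence trivial
    have hcomm : Commute y a⁻¹ := (show Commute y a from hy2 a ha).inv_right
    have hu' : u = y * a⁻¹ := by rw [← hua]; group
    have hupow : u ^ (orderOf y * orderOf a) = 1 := by
      rw [hu', hcomm.mul_pow, pow_mul, pow_orderOf_eq_one, one_pow, mul_comm (orderOf y),
        pow_mul, inv_pow, pow_orderOf_eq_one, inv_one, one_pow, mul_one]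
    obtain ⟨j, hj⟩ := (pCore_isPGroup (p := p) (G := G)) ⟨u, hu⟩
    have hj' : u ^ (p ^ j) = 1 := by simpa [Subtype.ext_iff] using hj
    have hd1 : orderOf u ∣ orderOf y * orderOf a := orderOf_dvd_of_pow_eq_one hupow
    have hd2 : orderOf u ∣ p ^ j := orderOf_dvd_of_pow_eq_one hj'
    have hcop : Nat.gcd (orderOf y * orderOf a) (p ^ j) = 1 :=
      Nat.Coprime.pow_right j (Nat.Coprime.mul_left hycop (hAcop a ha))
    have hu1 : u = 1 := by
      have : orderOf u = 1 := Nat.dvd_one.1 (hcop ▸ Nat.dvd_gcd hd1 hd2)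
      exact orderOf_eq_one_iff.1 this
    have hya : y = a := by rw [← hua, hu1, one_mul]
    rw [hya]
    exact (hmemW w).1 hwW a (hAΩ a ha)
  -- W is nilpotent
  have hWnil : Group.IsNilpotent W := by
    apply Group.of_quotient_center_nilpotent
    have hpg : IsPGroup p (W ⧸ Subgroup.center W) := by
      intro wbar
      obtain ⟨w, rfl⟩ := QuotientGroup.mk_surjective wbar
      obtain ⟨e, m, hm, hem⟩ := Nat.exists_eq_pow_mul_and_not_dvd
        (orderOf_pos (w : G)).ne' p hpp.ne_one
      refine ⟨e, ?_⟩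
      rw [← QuotientGroup.mk_pow, QuotientGroup.eq_one_iff, Subgroup.mem_center_iff]
      intro v
      have hyW : (w : G) ^ (p ^ e) ∈ W := Subgroup.pow_mem _ w.2 _
      have hord : orderOf ((w : G) ^ (p ^ e)) = m := by
        rw [orderOf_pow_of_dvd (pow_pos hpp.pos e).ne' ⟨m, hem⟩, hem,
          Nat.mul_div_cancel_left _ (pow_pos hpp.pos e)]
      have hcop : (orderOf ((w : G) ^ (p ^ e))).Coprime p := by
        rw [hord, Nat.coprime_comm]
        exact (Nat.Prime.coprime_iff_not_dvd hpp).2 hm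
      have := hcentral _ hyW hcop v v.2
      apply Subtype.ext
      simp only [Subgroup.coe_mul, Subgroup.coe_pow]
      exact this.symm
    exact hpg.isNilpotent
  have hWle : W ≤ pCoreSup G := le_pCoreSup_of_nilpotent W hWn hWnil
  rw [fitting_eq_pCoreSup]
  exact hWle hhW

theorem result {G : Type*} [Group G] [Finite G] (hG : Group.IsSolvable G) (hodd : Odd (Nat.card (Cfsg.fittingSubgroup G))) (g : G) (hg : ∀ x ∈ Cfsg.fittingSubgroup G, (orderOf x).Prime → g * x = x * g) : g ∈ Cfsg.fittingSubgroup G := by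
  classical
  haveI := hG
  -- a prime not dividing anything relevant
  obtain ⟨r, hr1, hr2⟩ := Nat.exists_infinite_primes (Nat.card G + 1)
  -- work inside the subgroup of elements commuting with all prime-order elements of F
  obtain ⟨H, hH⟩ : ∃ H : Subgroup G, H = Subgroup.centralizer
      {x | x ∈ Cfsg.fittingSubgroup G ∧ (orderOf x).Prime} := ⟨_, rfl⟩
  have hmemH : ∀ w, w ∈ H ↔ ∀ x ∈ Cfsg.fittingSubgroup G, (orderOf x).Prime → w * x = x * w := by
    intro w
    rw [hH, Subgroup.mem_centralizer_iff]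
    constructor
    · intro h x hx hox
      exact (h x ⟨hx, hox⟩).symm
    · rintro h x ⟨hx, hox⟩
      exact (h x hx hox).symm
  have hgH : g ∈ H := (hmemH g).2 hg
  have key := Cfsg.Agent.Lib.Helper7.mem_of_forall_prime_pow_mem (G := H)
    ((Cfsg.fittingSubgroup G).subgroupOf H) r (by
      intro y q b hq _ hyo
      haveI : Fact q.Prime := ⟨hq⟩
      rw [Subgroup.mem_subgroupOf]
      apply lemC hodd q (y : G) b
      · rw [Subgroup.orderOf_coe]; exact hyo
      · exact (hmemH (y : G)).1 y.2)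
    (orderOf (⟨g, hgH⟩ : H)) ⟨g, hgH⟩ rfl (by
      have h1 : orderOf (⟨g, hgH⟩ : H) ∣ Nat.card G := by
        rw [Subgroup.orderOf_mk]; exact orderOf_dvd_natCard g
      have h2 : orderOf (⟨g, hgH⟩ : H) ≤ Nat.card G := Nat.le_of_dvd Nat.card_pos h1
      rw [Nat.coprime_comm, Nat.Prime.coprime_iff_not_dvd hr2]
      intro h3
      have := Nat.le_of_dvd (orderOf_pos _) h3
      omega)
  rw [Subgroup.mem_subgroupOf] at key
  exact key

end Cfsg.Agent.S3785
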