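import Cfsg.Statements.S3790
import Cfsg.Agent.Lib.Helper4.PLength

set_option autoImplicit false
open Cfsg

namespace Cfsg.Agent.S3790

open Cfsg.Agent.Lib.Helper4

universe u

theorem not_dvd_of_coprime_card {n s : ℕ} (hs : s.Prime) (h : n.Coprime s) : ¬ s ∣ n := by
  intro hd
  have h3 : s ∣ Nat.gcd n s := Nat.dvd_gcd hd dvd_rfl
  rw [h.gcd_eq_one] at h3
  exact hs.one_lt.ne' (Nat.dvd_one.1 h3)

theorem main (p : ℕ) [Fact p.Prime] : ∀ (r : ℕ) (q : Fin r → ℕ) (l : Fin r → ℕ),
    (∀ i, (q i).Prime ∧ q i ≠ p) →
    ∀ (G : Type u) [Group G] [Finite G],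
      (∀ s : ℕ, s.Prime → s ∣ Nat.card G → s ≠ p → ∃ i, q i = s) →
      (∀ i, Cfsg.PLengthLE (q i) (l i) G) →
      Cfsg.PLengthLE p (∏ i, (1 + l i)) G := by
  intro r
  induction r with
  | zero =>
    intro q l _ G _ _ hcover _
    have hpg : IsPGroup p G := by
      have hne : Nat.card G ≠ 0 := Nat.card_pos.ne'
      have h1 := Nat.eq_prime_pow_of_unique_prime_dvd (p := p) hne (by
        intro s hs hdvd
        by_contra hsp
        obtain ⟨i, _⟩ := hcover s hs hdvd hsp
        exact i.elim0)
      exact IsPGroup.of_card h1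
    have h2 : (∏ i : Fin 0, (1 + l i)) = 1 := by simp
    rw [h2]
    exact plength_of_pgroup p hpg
  | succ r IHr =>
    intro q l hq
    have hq0 : (q 0).Prime := (hq 0).1
    haveI : Fact (q 0).Prime := ⟨hq0⟩
    have hcop0 : ∀ k : ℕ, ((q 0) ^ k).Coprime p :=
      fun k => Nat.Coprime.pow_left k ((Nat.coprime_primes hq0 Fact.out).2 (hq 0).2)
    -- tail cover lemma
    have tailcover : ∀ (H : Type u) [Group H] [Finite H],
        (∀ s : ℕ, s.Prime → s ∣ Nat.card H → s ≠ p → ∃ i, q i = s) →
        (Nat.card H).Coprime (q 0) →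
        (∀ s : ℕ, s.Prime → s ∣ Nat.card H → s ≠ p → ∃ i : Fin r, q i.succ = s) := by
      intro H _ _ hc hcop s hs hdvd hsp
      obtain ⟨i, hi⟩ := hc s hs hdvd hsp
      have hi0 : i ≠ 0 := by
        intro h0
        rw [h0] at hi
        rw [← hi] at hdvd
        exact not_dvd_of_coprime_card hq0 hcop hdvd
      obtain ⟨j, hj⟩ := Fin.exists_succ_eq.2 hi0
      exact ⟨j, by rw [hj]; exact hi⟩
    have inner : ∀ (m : ℕ) (G : Type u) [Group G] [Finite G],
        (∀ s : ℕ, s.Prime → s ∣ Nat.card G → s ≠ p → ∃ i, q i = s) →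
        Cfsg.PLengthLE (q 0) m G →
        (∀ i : Fin r, Cfsg.PLengthLE (q i.succ) (l i.succ) G) →
        Cfsg.PLengthLE p ((1 + m) * ∏ i : Fin r, (1 + l i.succ)) G := by
      intro m
      induction m with
      | zero =>
        intro G _ _ hcover h0 htail
        have h1 : ups (q 0) G 1 = ⊤ := h0
        have h2 := card_ups_one_coprime (G := G) (q 0)
        rw [h1, Nat.card_congr Subgroup.topEquiv.toEquiv] at h2
        have h3 := IHr (fun i => q i.succ) (fun i => l i.succ) (fun i => hq i.succ) G
          (tailcover G hcover h2) htail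
        rw [Nat.add_zero, one_mul]
        exact h3
      | succ m IHm =>
        intro G _ _ hcover hm htail
        -- N and M
        have hNM : ups (q 0) G 1 ≤ ups (q 0) G 2 := ups_le_succ (q 0) 1
        obtain ⟨k, hk⟩ := ups_relIndex_odd (G := G) (q 0) (n := 1) (by decide)
        have hcop : ((ups (q 0) G 1).relIndex (ups (q 0) G 2)).Coprime p := by
          rw [hk]; exact hcop0 k
        have hN : Cfsg.PLengthLE p (∏ i : Fin r, (1 + l i.succ)) (ups (q 0) G 1) := by
          apply IHr (fun i => q i.succ) (fun i => l i.succ) (fun i => hq i.succ)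
          · apply tailcover
            · intro s hs hdvd hsp
              exact hcover s hs (hdvd.trans (Subgroup.card_subgroup_dvd_card _)) hsp
            · exact card_ups_one_coprime (G := G) (q 0)
          · intro i
            haveI : Fact (q i.succ).Prime := ⟨(hq i.succ).1⟩
            exact plength_normal_subgroup (q i.succ) _ (htail i)
        have hQ : Cfsg.PLengthLE p ((1 + m) * ∏ i : Fin r, (1 + l i.succ))
            (G ⧸ ups (q 0) G 2) := by
          apply IHm
          · intro s hs hdvd hsp
            apply hcover s hs _ hsp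
            rw [← Subgroup.index_eq_card] at hdvd
            exact hdvd.trans (Subgroup.index_dvd_card _)
          · exact plength_quot_two (q 0) hm
          · intro i
            haveI : Fact (q i.succ).Prime := ⟨(hq i.succ).1⟩
            exact plength_of_surjective (q i.succ) (QuotientGroup.mk' (ups (q 0) G 2))
              (QuotientGroup.mk'_surjective _) (htail i)
        have h := plength_extension p (ups (q 0) G 1) (ups (q 0) G 2) hNM hcop _ _ hN hQ
        have e : (1 + (m + 1)) * ∏ i : Fin r, (1 + l i.succ) =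
            (∏ i : Fin r, (1 + l i.succ)) + (1 + m) * ∏ i : Fin r, (1 + l i.succ) := by ring
        rw [e]
        exact h
    intro G _ _ hcover hl
    rw [Fin.prod_univ_succ]
    exact inner (l 0) G hcover (hl 0) (fun i => hl i.succ)


/-- Let G be a finite solvable group and p a prime. Suppose p₁, …, p_r are distinct primes, all different from p, that include every prime dividing the order of G other than p, and that G has p_i-length at most l_i for each i. Then G has p-length at most the product of the numbers 1 + l_i. -/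
theorem result {G : Type*} [Group G] [Finite G] (hG : Group.IsSolvable G) (p : ℕ) [Fact p.Prime] (r : ℕ) (q : Fin r → ℕ) (hq : ∀ i, (q i).Prime ∧ q i ≠ p) (hinj : Function.Injective q) (hcover : ∀ s : ℕ, s.Prime → s ∣ Nat.card G → s ≠ p → ∃ i, q i = s) (l : Fin r → ℕ) (hl : ∀ i, Cfsg.PLengthLE (q i) (l i) G) : Cfsg.PLengthLE p (Finset.univ.prod fun i => 1 + l i) G := by
  exact main p r q l hq G hcover hl

end Cfsg.Agent.S3790
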