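import Cfsg.Statements.S3791
import Cfsg.Agent.Lib.Helper4.PLength

set_option autoImplicit false
open Cfsg

namespace Cfsg.Agent.S3791

open Cfsg.Agent.Lib.Helper4
open scoped Pointwise

universe u

theorem sum_update_mul {r : ℕ} (d l : Fin r → ℕ) (i : Fin r) (l' : ℕ) :
    (∑ j, d j * Function.update l i l' j) + d i * l i = (∑ j, d j * l j) + d i * l' := by
  have h1 : (fun j => d j * Function.update l i l' j) =
      Function.update (fun j => d j * l j) i (d i * l') := by
    funext j
    by_cases hj : j = i
    · subst hj; simp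
    · simp [Function.update_of_ne hj]
  have h2 : (∑ j, d j * Function.update l i l' j) =
      ∑ j, Function.update (fun j => d j * l j) i (d i * l') j := by rw [h1]
  rw [h2, Finset.sum_update_of_mem (Finset.mem_univ i),
    Finset.sum_eq_add_sum_sdiff_singleton_of_mem (Finset.mem_univ i) (fun j => d j * l j)]
  ring

theorem sum_update {r : ℕ} (l : Fin r → ℕ) (i : Fin r) (l' : ℕ) :
    (∑ j, Function.update l i l' j) + l i = (∑ j, l j) + l' := by
  rw [Finset.sum_update_of_mem (Finset.mem_univ i),
    Finset.sum_eq_add_sum_sdiff_singleton_of_mem (Finset.mem_univ i) l]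
  ring

theorem main (r : ℕ) (q : Fin r → ℕ) (hq : ∀ i, (q i).Prime) (d : Fin r → ℕ) :
    ∀ (N : ℕ) (G : Type u) [Group G] [Finite G] (l : Fin r → ℕ), (∑ i, l i = N) →
      (∀ s : ℕ, s.Prime → s ∣ Nat.card G → ∃ i, q i = s) →
      (∀ i, ∀ S : Sylow (q i) G, derivedSeries ↥(S : Subgroup G) (d i) = ⊥) →
      (∀ i, Cfsg.PLengthLE (q i) (l i) G) → derivedSeries G (∑ i, d i * l i) = ⊥ := by
  intro N
  induction N using Nat.strong_induction_on with
  | _ N IH =>
  intro G _ _ l hsum hcover hd hl
  -- step 1
  have step1 : ∀ i, derivedSeries G (∑ j, d j * l j) ≤ ups (q i) G 1 := by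
    intro i
    haveI : Fact (q i).Prime := ⟨hq i⟩
    rcases Nat.eq_zero_or_eq_succ_pred (l i) with hl0 | hl1
    · have h1 := hl i
      rw [hl0] at h1
      have h2 : ups (q i) G 1 = ⊤ := h1
      rw [h2]; exact le_top
    · obtain ⟨l', hl'def⟩ : ∃ l' : ℕ, l' = (l i).pred := ⟨_, rfl⟩
      rw [← hl'def] at hl1
      -- the quotient
      have hsum' : (∑ j, Function.update l i l' j) < N := by
        have := sum_update l i l'
        omega
      have hQcover : ∀ s : ℕ, s.Prime → s ∣ Nat.card (G ⧸ ups (q i) G 2) →
          ∃ j, q j = s := by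
        intro s hs hdvd
        apply hcover s hs
        rw [← Subgroup.index_eq_card] at hdvd
        exact hdvd.trans (Subgroup.index_dvd_card _)
      have hQd : ∀ j, ∀ S : Sylow (q j) (G ⧸ ups (q i) G 2),
          derivedSeries ↥(S : Subgroup (G ⧸ ups (q i) G 2)) (d j) = ⊥ := by
        intro j S
        haveI : Fact (q j).Prime := ⟨hq j⟩
        obtain ⟨S0⟩ : Nonempty (Sylow (q j) G) := inferInstance
        obtain ⟨g, hg⟩ := MulAction.exists_smul_eq (G ⧸ ups (q i) G 2)
          (S0.mapSurjective (QuotientGroup.mk'_surjective (ups (q i) G 2))) S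
        have hconj : ∀ K : Subgroup (G ⧸ ups (q i) G 2),
            (MulAut.conj g • K : Subgroup (G ⧸ ups (q i) G 2)) =
              K.map (MulAut.conj g).toMonoidHom := fun K => rfl
        rw [← dser_eq_bot_iff, ← hg, Sylow.coe_subgroup_smul, hconj,
          Sylow.coe_mapSurjective, ← dser_map, ← dser_map,
          (dser_eq_bot_iff (S0 : Subgroup G) (d j)).2 (hd j S0), Subgroup.map_bot,
          Subgroup.map_bot]
      have hQl : ∀ j, Cfsg.PLengthLE (q j) (Function.update l i l' j)
          (G ⧸ ups (q i) G 2) := by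
        intro j
        haveI : Fact (q j).Prime := ⟨hq j⟩
        by_cases hj : j = i
        · subst hj
          rw [Function.update_self]
          apply plength_quot_two
          have h1 := hl j
          rw [hl1] at h1
          exact h1
        · rw [Function.update_of_ne hj]
          exact plength_of_surjective (q j) (QuotientGroup.mk' (ups (q i) G 2))
            (QuotientGroup.mk'_surjective _) (hl j)
      have hIH := IH _ hsum' (G ⧸ ups (q i) G 2) (Function.update l i l') rfl hQcover hQd hQl
      -- derived series of G lands in U_2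
      obtain ⟨nbar, hnbar⟩ : ∃ nbar : ℕ, nbar = ∑ j, d j * Function.update l i l' j := ⟨_, rfl⟩
      rw [← hnbar] at hIH
      have hn : (∑ j, d j * l j) = nbar + d i := by
        have := sum_update_mul d l i l'
        rw [hl1, ← hnbar] at this
        have e : d i * (l' + 1) = d i * l' + d i := by ring
        rw [Nat.succ_eq_add_one, e] at this
        omega
      have hU2 : derivedSeries G nbar ≤ ups (q i) G 2 := by
        have h1 := map_derivedSeries_le_derivedSeries (QuotientGroup.mk' (ups (q i) G 2)) nbar
        rw [hIH, le_bot_iff, Subgroup.map_eq_bot_iff, QuotientGroup.ker_mk'] at h1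
        exact h1
      -- dser U_2 (d i) ≤ U_1
      have hU1 : dser (ups (q i) G 2) (d i) ≤ ups (q i) G 1 := by
        obtain ⟨S0⟩ : Nonempty (Sylow (q i) G) := inferInstance
        have h1 : (ups (q i) G 2).map (QuotientGroup.mk' (ups (q i) G 1)) ≤
            (S0 : Subgroup G).map (QuotientGroup.mk' (ups (q i) G 1)) := by
          rw [ups_succ_odd (q i) (n := 1) (by decide),
            Subgroup.map_comap_eq_self_of_surjective (QuotientGroup.mk'_surjective _),
            ← Sylow.coe_mapSurjective (QuotientGroup.mk'_surjective _)]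
          exact pCore_le_sylow _
        have h2 : (dser (ups (q i) G 2) (d i)).map (QuotientGroup.mk' (ups (q i) G 1)) = ⊥ := by
          rw [dser_map, ← le_bot_iff]
          refine (dser_mono h1 (d i)).trans ?_
          rw [← dser_map, (dser_eq_bot_iff (S0 : Subgroup G) (d i)).2 (hd i S0),
            Subgroup.map_bot]
        rw [Subgroup.map_eq_bot_iff, QuotientGroup.ker_mk'] at h2
        exact h2
      rw [hn, ← dser_top, dser_add]
      refine (dser_mono ?_ (d i)).trans hU1
      rw [dser_top]; exact hU2
  -- step 2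
  by_contra hne
  have hcard : Nat.card (derivedSeries G (∑ j, d j * l j)) ≠ 1 := by
    intro h1
    exact hne (Subgroup.card_eq_one.1 h1)
  obtain ⟨s, hs, hsdvd⟩ := Nat.exists_prime_and_dvd hcard
  obtain ⟨i, hi⟩ := hcover s hs (hsdvd.trans (Subgroup.card_subgroup_dvd_card _))
  subst hi
  haveI : Fact (q i).Prime := ⟨hq i⟩
  have h1 : q i ∣ Nat.card (ups (q i) G 1) := hsdvd.trans (Subgroup.card_dvd_of_le (step1 i))
  have h2 := card_ups_one_coprime (G := G) (q i)
  have h3 : q i ∣ Nat.gcd (Nat.card (ups (q i) G 1)) (q i) := Nat.dvd_gcd h1 dvd_rfl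
  rw [h2.gcd_eq_one] at h3
  exact hs.one_lt.ne' (Nat.dvd_one.1 h3)


/-- The Hall–Higman bound on derived length: let G be a finite solvable group, let p₁, …, p_r be distinct primes that include every prime dividing the order of G, and suppose that for each i the Sylow p_i-subgroups of G have derived length at most d_i and G has p_i-length at most l_i. Then G has derived length at most Σ d_i l_i. -/
theorem result {G : Type*} [Group G] [Finite G] (hG : Group.IsSolvable G) (r : ℕ) (q : Fin r → ℕ) (hq : ∀ i, (q i).Prime) (hinj : Function.Injective q) (hcover : ∀ s : ℕ, s.Prime → s ∣ Nat.card G → ∃ i, q i = s) (d l : Fin r → ℕ) (hd : ∀ i, ∀ P : Subgroup G, (haveI := Fact.mk (hq i); ∃ S : Sylow (q i) G, (S : Subgroup G) = P) → derivedSeries ↥P (d i) = ⊥) (hl : ∀ i, Cfsg.PLengthLE (q i) (l i) G) : derivedSeries G (Finset.univ.sum fun i => d i * l i) = ⊥ := by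
  exact main r q hq d _ G l rfl hcover (fun i S => hd i S ⟨S, rfl⟩) hl

end Cfsg.Agent.S3791
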