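import Cfsg.Statements.S3800
import Cfsg.Agent.Lib.Helper7.PSubFrattini

set_option autoImplicit false
open Cfsg

namespace Cfsg.Agent.S3800

open Cfsg.Agent.Lib.Helper7

/-- Let G be a finite group, N a normal subgroup of G whose order is prime to p, and P a p-subgroup of G. Then in G/N the normalizer of the image of P is the image of N_G(P), and the centralizer of the image of P is the image of C_G(P). -/
theorem result {G : Type*} [Group G] [Finite G] {p : ℕ} [Fact p.Prime] (N : Subgroup G) [N.Normal] (hN : (Nat.card N).Coprime p) (P : Subgroup G) (hP : IsPGroup p P) : Subgroup.normalizer ((P.map (QuotientGroup.mk' N)) : Set (G ⧸ N)) = (Subgroup.normalizer (P : Set G)).map (QuotientGroup.mk' N) ∧ Subgroup.centralizer ((P.map (QuotientGroup.mk' N)) : Set (G ⧸ N)) = (Subgroup.centralizer (P : Set G)).map (QuotientGroup.mk' N) := by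
  have hf : Function.Surjective (QuotientGroup.mk' N) := QuotientGroup.mk'_surjective N
  have h1 : Subgroup.normalizer ((P.map (QuotientGroup.mk' N)) : Set (G ⧸ N))
      = (Subgroup.normalizer (P : Set G)).map (QuotientGroup.mk' N) := by
    rw [← Subgroup.map_comap_eq_self_of_surjective hf
        (Subgroup.normalizer ((P.map (QuotientGroup.mk' N)) : Set (G ⧸ N))),
      Subgroup.comap_normalizer_eq_of_surjective _ hf, Subgroup.comap_map_eq,
      QuotientGroup.ker_mk',
      normalizer_sup_normal_of_not_dvd P N hP (not_dvd_relIndex_sup_of_coprime P N hN),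
      Subgroup.map_sup, QuotientGroup.map_mk'_self, sup_bot_eq]
  refine ⟨h1, ?_⟩
  apply le_antisymm
  · intro ybar hy
    have hyn : ybar ∈ Subgroup.normalizer ((P.map (QuotientGroup.mk' N)) : Set (G ⧸ N)) :=
      Subgroup.centralizer_le_normalizer _ hy
    rw [h1] at hyn
    obtain ⟨y, hyN, rfl⟩ := hyn
    refine ⟨y, ?_, rfl⟩
    rw [SetLike.mem_coe] at hyN
    rw [SetLike.mem_coe, Subgroup.mem_centralizer_iff]
    intro x hx
    rw [SetLike.mem_coe] at hx
    rw [Subgroup.mem_centralizer_iff] at hy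
    have hc := hy (QuotientGroup.mk' N x) ⟨x, hx, rfl⟩
    have hmemN : y * x * y⁻¹ * x⁻¹ ∈ N := by
      rw [← QuotientGroup.eq_one_iff]
      have e : ((y * x * y⁻¹ * x⁻¹ : G) : G ⧸ N)
          = (QuotientGroup.mk' N y) * (QuotientGroup.mk' N x) * (QuotientGroup.mk' N y)⁻¹
            * (QuotientGroup.mk' N x)⁻¹ := by
        simp
      rw [e, ← hc]; group
    have hmemP : y * x * y⁻¹ * x⁻¹ ∈ P := by
      rw [Subgroup.mem_normalizer_iff] at hyN
      exact P.mul_mem ((hyN x).mp hx) (P.inv_mem hx)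
    have : y * x * y⁻¹ * x⁻¹ ∈ P ⊓ N := ⟨hmemP, hmemN⟩
    rw [inf_eq_bot_of_isPGroup_of_coprime P N hP hN, Subgroup.mem_bot] at this
    have e2 : y * x = (y * x * y⁻¹ * x⁻¹) * (x * y) := by group
    rw [e2, this, one_mul]
  · rintro _ ⟨c, hc, rfl⟩
    rw [Subgroup.mem_centralizer_iff]
    rintro _ ⟨x, hx, rfl⟩
    rw [SetLike.mem_coe, Subgroup.mem_centralizer_iff] at hc
    rw [← map_mul, ← map_mul, hc x hx]

end Cfsg.Agent.S3800
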