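import Mathlib
import Cfsg.Statements.S3802
import Cfsg.Agent.Lib.Helper4.Hall

set_option autoImplicit false
open Cfsg

namespace Cfsg.Agent.S3802

open Cfsg.Agent.Lib.Helper4

universe u

def IsMinNormal {G : Type*} [Group G] (A : Subgroup G) : Prop :=
  A.Normal ∧ A ≠ ⊥ ∧ ∀ B : Subgroup G, B.Normal → B ≤ A → B ≠ ⊥ → B = A

theorem exists_isMinNormal {G : Type*} [Group G] [Finite G] [Nontrivial G] :
    ∃ A : Subgroup G, IsMinNormal A := by
  classical
  haveI : Nonempty {B : Subgroup G // B.Normal ∧ B ≠ ⊥} :=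
    ⟨⟨⊤, inferInstance, top_ne_bot⟩⟩
  obtain ⟨⟨A, hAn, hA⟩, hmin⟩ := Finite.exists_min
    (fun B : {B : Subgroup G // B.Normal ∧ B ≠ ⊥} => Nat.card (B.1 : Subgroup G))
  refine ⟨A, hAn, hA, fun B hBn hBA hB => ?_⟩
  exact Subgroup.eq_of_le_of_card_ge hBA (hmin ⟨B, hBn, hB⟩)

/-- Wielandt: a minimal normal subgroup normalizes every subnormal subgroup. -/
theorem wielandt : ∀ (n : ℕ) (G : Type u) [Group G] [Finite G], Nat.card G = n →
    ∀ A N : Subgroup G, IsMinNormal A → N.IsSubnormal →
      A ≤ Subgroup.normalizer (N : Set G) := by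
  intro n
  induction n using Nat.strong_induction_on with
  | _ n ih =>
  intro G _ _ hn A N hA hN
  classical
  obtain ⟨hAn, hAbot, hAmin⟩ := hA
  haveI := hAn
  by_cases hNtop : N = ⊤
  · rw [hNtop, Subgroup.normalizer_eq_top_iff.2 inferInstance]; exact le_top
  obtain ⟨L, hLn, hNL, hLtop⟩ := hN.exists_normal_and_le_and_lt_top_of_ne hNtop
  haveI := hLn
  by_cases hAL : A ⊓ L = ⊥
  · -- A centralizes L
    have key : ∀ a ∈ A, ∀ x ∈ L, a * x * a⁻¹ = x := by
      intro a ha x hx
      have h1 : a * x * a⁻¹ * x⁻¹ ∈ A ⊓ L := by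
        refine Subgroup.mem_inf.2 ⟨?_, ?_⟩
        · have : a * x * a⁻¹ * x⁻¹ = a * (x * a⁻¹ * x⁻¹) := by group
          rw [this]
          exact Subgroup.mul_mem _ ha (hAn.conj_mem _ (Subgroup.inv_mem _ ha) x)
        · exact Subgroup.mul_mem _ (hLn.conj_mem _ hx a) (Subgroup.inv_mem _ hx)
      rw [hAL, Subgroup.mem_bot] at h1
      calc a * x * a⁻¹ = a * x * a⁻¹ * x⁻¹ * x := by group
        _ = x := by rw [h1, one_mul]
    intro a ha
    rw [Subgroup.mem_normalizer_iff]
    intro x
    constructor
    · intro hx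
      rw [key a ha x (hNL hx)]; exact hx
    · intro hx
      have h1 := key a⁻¹ (Subgroup.inv_mem _ ha) _ (hNL hx)
      have h2 : a⁻¹ * (a * x * a⁻¹) * a⁻¹⁻¹ = x := by group
      rw [h2] at h1
      rw [h1]; exact hx
  · have hAleL : A ≤ L := by
      have h1 : (A ⊓ L).Normal := inferInstance
      have := hAmin (A ⊓ L) h1 inf_le_left hAL
      exact this ▸ inf_le_right
    have hcardL : Nat.card L < n := hn ▸ card_lt_of_ne_top L (ne_of_lt hLtop)
    -- the family of minimal L-invariant subgroups of A
    let 𝓑 : Set (Subgroup G) := {B | B ≤ A ∧ B ≠ ⊥ ∧ L ≤ Subgroup.normalizer (B : Set G) ∧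
      ∀ C : Subgroup G, C ≤ B → C ≠ ⊥ → L ≤ Subgroup.normalizer (C : Set G) → C = B}
    have hBN : ∀ B ∈ 𝓑, B ≤ Subgroup.normalizer (N : Set G) := by
      rintro B ⟨hBA, hBbot, hBL, hBmin⟩
      have hBleL : B ≤ L := hBA.trans hAleL
      have hmin : IsMinNormal (B.subgroupOf L) := by
        refine ⟨(Subgroup.normal_subgroupOf_iff_le_normalizer hBleL).2 hBL, ?_, ?_⟩
        · intro h
          apply hBbot
          rw [Subgroup.subgroupOf_eq_bot, disjoint_iff, inf_eq_left.2 hBleL] at h
          exact h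
        · intro C' hC'n hC'B hC'bot
          have h1 : C'.map L.subtype ≤ B := by
            rintro _ ⟨c, hc, rfl⟩
            exact Subgroup.mem_subgroupOf.1 (hC'B hc)
          have h2 : C'.map L.subtype ≠ ⊥ := by
            intro h
            apply hC'bot
            rw [eq_bot_iff]
            intro c hc
            have : (c : G) ∈ C'.map L.subtype := ⟨c, hc, rfl⟩
            rw [h, Subgroup.mem_bot] at this
            rw [Subgroup.mem_bot]
            exact Subtype.ext this
          have h3 : L ≤ Subgroup.normalizer ((C'.map L.subtype : Subgroup G) : Set G) := by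
            intro l hl
            rw [Subgroup.mem_normalizer_iff]
            intro x
            constructor
            · rintro ⟨c, hc, rfl⟩
              exact ⟨⟨l, hl⟩ * c * ⟨l, hl⟩⁻¹, hC'n.conj_mem c hc ⟨l, hl⟩, by simp⟩
            · rintro ⟨c, hc, hcx⟩
              have hxL : x ∈ L := by
                have : x = l⁻¹ * (c : G) * l := by
                  have : (c : G) = l * x * l⁻¹ := hcx
                  rw [this]; group
                rw [this]
                exact Subgroup.mul_mem _ (Subgroup.mul_mem _ (Subgroup.inv_mem _ hl) c.2) hl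
              refine ⟨⟨x, hxL⟩, ?_, rfl⟩
              have h4 := hC'n.conj_mem c hc ⟨l, hl⟩⁻¹
              have h5 : (⟨l, hl⟩ : L)⁻¹ * c * (⟨l, hl⟩ : L)⁻¹⁻¹ = ⟨x, hxL⟩ := by
                apply Subtype.ext
                have : (c : G) = l * x * l⁻¹ := hcx
                simp only [Subgroup.coe_mul, Subgroup.coe_inv, this]
                group
              rw [h5] at h4
              exact h4
          have h4 := hBmin _ h1 h2 h3
          ext c
          rw [Subgroup.mem_subgroupOf, ← h4]
          constructor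
          · intro hc; exact ⟨c, hc, rfl⟩
          · rintro ⟨c', hc', hcc⟩
            have : c' = c := Subtype.ext hcc
            exact this ▸ hc'
      have hIH := ih (Nat.card L) hcardL L rfl (B.subgroupOf L) (N.subgroupOf L) hmin hN.subgroupOf
      intro b hb
      have hbL : b ∈ L := hBleL hb
      have h1 := hIH (Subgroup.mem_subgroupOf.2 hb : (⟨b, hbL⟩ : L) ∈ B.subgroupOf L)
      rw [Subgroup.mem_normalizer_iff] at h1 ⊢
      intro x
      constructor
      · intro hx
        have := (h1 ⟨x, hNL hx⟩).1 (Subgroup.mem_subgroupOf.2 hx)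
        exact Subgroup.mem_subgroupOf.1 this
      · intro hx
        have hxL : x ∈ L := by
          have : x = b⁻¹ * (b * x * b⁻¹) * b := by group
          rw [this]
          exact Subgroup.mul_mem _ (Subgroup.mul_mem _ (Subgroup.inv_mem _ hbL) (hNL hx)) hbL
        have := (h1 ⟨x, hxL⟩).2 (Subgroup.mem_subgroupOf.2 hx)
        exact Subgroup.mem_subgroupOf.1 this
    -- transport under conjugation
    have htr : ∀ B ∈ 𝓑, ∀ g : G, cj g B ∈ 𝓑 := by
      rintro B ⟨hBA, hBbot, hBL, hBmin⟩ g
      have hLcj : ∀ (h : G) (C : Subgroup G), L ≤ Subgroup.normalizer (C : Set G) →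
          L ≤ Subgroup.normalizer ((cj h C : Subgroup G) : Set G) := by
        intro h C hC
        rw [cj_normalizer]
        have := cj_mono h hC
        rwa [cj_self_of_normal L h] at this
      refine ⟨?_, ?_, hLcj g B hBL, ?_⟩
      · have := cj_mono g hBA
        rwa [cj_self_of_normal A g] at this
      · intro h
        apply hBbot
        have := cj_inv_cj' g B
        rw [h] at this
        rw [← this]
        ext x; simp
      · intro C hC hCbot hCL
        have h1 : cj g⁻¹ C ≤ B := by
          have := cj_mono g⁻¹ hC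
          rwa [cj_inv_cj'] at this
        have h2 : cj g⁻¹ C ≠ ⊥ := by
          intro h
          apply hCbot
          have h3 : cj g (cj g⁻¹ C) = C := by
            rw [← cj_mul, mul_inv_cancel, cj_one]
          rw [← h3, h]
          ext x; simp
        have h3 := hBmin _ h1 h2 (hLcj g⁻¹ C hCL)
        rw [← h3, ← cj_mul, mul_inv_cancel, cj_one]
    -- existence of a member
    have hex : ∃ B, B ∈ 𝓑 := by
      haveI : Nonempty {B : Subgroup G // B ≤ A ∧ B ≠ ⊥ ∧ L ≤ Subgroup.normalizer (B : Set G)} :=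
        ⟨⟨A, le_rfl, hAbot, by
          rw [Subgroup.normalizer_eq_top_iff.2 hAn]; exact le_top⟩⟩
      obtain ⟨⟨B, hB1, hB2, hB3⟩, hmin⟩ := Finite.exists_min
        (fun B : {B : Subgroup G // B ≤ A ∧ B ≠ ⊥ ∧ L ≤ Subgroup.normalizer (B : Set G)} =>
          Nat.card (B.1 : Subgroup G))
      refine ⟨B, hB1, hB2, hB3, fun C hC hCbot hCL => ?_⟩
      exact Subgroup.eq_of_le_of_card_ge hC (hmin ⟨C, hC.trans hB1, hCbot, hCL⟩)
    obtain ⟨B₀, hB₀⟩ := hex
    have hJle : Subgroup.normalClosure (B₀ : Set G) ≤ A :=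
      Subgroup.normalClosure_le_normal hB₀.1
    have hJbot : Subgroup.normalClosure (B₀ : Set G) ≠ ⊥ := by
      intro h
      apply hB₀.2.1
      rw [eq_bot_iff, ← h]
      exact Subgroup.le_normalClosure
    have hJ : Subgroup.normalClosure (B₀ : Set G) = A :=
      hAmin _ Subgroup.normalClosure_normal hJle hJbot
    rw [← hJ, Subgroup.normalClosure, Subgroup.closure_le]
    intro x hx
    rw [Group.mem_conjugatesOfSet_iff] at hx
    obtain ⟨b, hb, hbx⟩ := hx
    rw [isConj_iff] at hbx
    obtain ⟨g, rfl⟩ := hbx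
    exact hBN _ (htr B₀ hB₀ g) (conj_mem_cj g B₀ hb)

theorem main : ∀ (n : ℕ) (G : Type u) [Group G] [Finite G], Nat.card G = n →
    ∀ M N : Subgroup G, IsCoatom M → N.IsSubnormal → N ≤ M → N ≤ Subgroup.normalCore M := by
  intro n
  induction n using Nat.strong_induction_on with
  | _ n ih =>
  intro G _ _ hn M N hM hN hNM
  classical
  haveI : Nontrivial G := by
    by_contra h
    rw [not_nontrivial_iff_subsingleton] at h
    exact hM.1 (Subsingleton.elim _ _)
  obtain ⟨A, hA⟩ := exists_isMinNormal (G := G)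
  have hAn : A.Normal := hA.1
  haveI := hAn
  by_cases hAM : A ≤ M
  · -- pass to the quotient
    have hcard : Nat.card (G ⧸ A) < n := hn ▸ card_quot_lt A hA.2.1
    have hMbar : IsCoatom (M.map (QuotientGroup.mk' A)) := by
      constructor
      · intro h
        apply hM.1
        have h1 : (M.map (QuotientGroup.mk' A)).comap (QuotientGroup.mk' A) = ⊤ := by
          rw [h]; rfl
        rw [Subgroup.comap_map_eq, QuotientGroup.ker_mk', sup_eq_left.2 hAM] at h1
        exact h1
      · intro X hX
        have h1 : M < X.comap (QuotientGroup.mk' A) := by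
          have h2 : M ≤ X.comap (QuotientGroup.mk' A) := by
            intro m hm
            exact hX.le ⟨m, hm, rfl⟩
          refine lt_of_le_of_ne h2 ?_
          intro h3
          apply ne_of_lt hX
          rw [h3, Subgroup.map_comap_eq_self_of_surjective (QuotientGroup.mk'_surjective A)]
        have h4 := hM.2 _ h1
        rw [← Subgroup.map_comap_eq_self_of_surjective (QuotientGroup.mk'_surjective A) X, h4]
        exact Subgroup.map_top_of_surjective _ (QuotientGroup.mk'_surjective A)
    have hNbar : (N.map (QuotientGroup.mk' A)).IsSubnormal :=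
      hN.map (QuotientGroup.mk'_surjective A)
    have hIH := ih _ hcard (G ⧸ A) rfl _ _ hMbar hNbar (Subgroup.map_mono hNM)
    intro x hx g
    have h1 : (QuotientGroup.mk' A) x ∈ (M.map (QuotientGroup.mk' A)).normalCore :=
      hIH ⟨x, hx, rfl⟩
    have h2 := h1 ((QuotientGroup.mk' A) g)
    rw [← map_inv, ← map_mul, ← map_mul] at h2
    obtain ⟨m, hm, hmx⟩ := h2
    have h3 : m⁻¹ * (g * x * g⁻¹) ∈ A := by
      rw [← QuotientGroup.eq]
      exact hmx
    have h4 : g * x * g⁻¹ = m * (m⁻¹ * (g * x * g⁻¹)) := by group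
    rw [h4]
    exact Subgroup.mul_mem _ hm (hAM h3)
  · have htop : M ⊔ A = ⊤ := by
      apply hM.2
      refine lt_of_le_of_ne le_sup_left ?_
      intro h
      exact hAM (h ▸ le_sup_right)
    have hAN := wielandt _ G rfl A N hA hN
    intro x hx g
    have hg : g ∈ ((M ⊔ A : Subgroup G) : Set G) := by rw [htop]; trivial
    rw [Subgroup.mul_normal] at hg
    obtain ⟨m, hm, a, ha, rfl⟩ := Set.mem_mul.1 hg
    have h1 : a * x * a⁻¹ ∈ N := (Subgroup.mem_normalizer_iff.1 (hAN ha) x).1 hx
    have h2 : m * a * x * (m * a)⁻¹ = m * (a * x * a⁻¹) * m⁻¹ := by group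
    rw [h2]
    exact Subgroup.mul_mem _ (Subgroup.mul_mem _ hm (hNM h1)) (Subgroup.inv_mem _ hm)

theorem result {G : Type*} [Group G] [Finite G] (M N : Subgroup G) (hM : IsCoatom M) (hN : N.IsSubnormal) (hNM : N ≤ M) :
    N ≤ Subgroup.normalCore M := by
  exact main _ G rfl M N hM hN hNM

end Cfsg.Agent.S3802
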