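import Mathlib
import Cfsg.Statements.S3804
import Cfsg.Agent.Lib.Helper2.ProdCard

set_option autoImplicit false
open Cfsg
open scoped Pointwise

namespace Cfsg.Agent.S3804

lemma real_key (M x y : ℝ) (hx : x ≤ M) (hy : y ≤ M) (hx0 : 0 < x) (hy0 : 0 < y)
    (h : M * M ≤ x * y) : x = M ∧ y = M := by
  have hM : 0 < M := lt_of_lt_of_le hx0 hx
  constructor
  · by_contra hne
    have hlt : x < M := lt_of_le_of_ne hx hne
    have : x * y < M * M := by nlinarith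
    linarith
  · by_contra hne
    have hlt : y < M := lt_of_le_of_ne hy hne
    have : x * y < M * M := by nlinarith
    linarith

lemma real_key2 (x1 x2 y1 y2 : ℝ) (hx : x2 ≤ x1) (hy : y2 ≤ y1) (hx2 : 0 < x2) (hy2 : 0 < y2)
    (h : x1 * y1 ≤ x2 * y2) : x1 = x2 ∧ y1 = y2 := by
  constructor
  · by_contra hne
    have hlt : x2 < x1 := lt_of_le_of_ne hx (Ne.symm hne)
    have : x2 * y2 < x1 * y1 := by nlinarith
    linarith
  · by_contra hne
    have hlt : y2 < y1 := lt_of_le_of_ne hy (Ne.symm hne)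
    have : x2 * y2 < x1 * y1 := by nlinarith
    linarith

theorem main {X : Type*} [Group X] [Finite X] (H : Subgroup X) (α : ℝ) (hα : 0 < α)
    (A B : Subgroup X) (m : Subgroup X → ℝ)
    (hm : ∀ K : Subgroup X, m K = ((Nat.card K : ℝ) ^ α) *
      (Nat.card ↥(H ⊓ Subgroup.centralizer (K : Set X)) : ℝ))
    (hAB : m B = m A) (hJ : m (A ⊔ B) ≤ m A) (hD : m (A ⊓ B) ≤ m A) :
    m (A ⊔ B) = m A ∧ m (A ⊓ B) = m A ∧
    ((A : Set X) * (B : Set X) = ((A ⊔ B : Subgroup X) : Set X)) ∧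
    (((H ⊓ Subgroup.centralizer (A : Set X) : Subgroup X) : Set X) *
      ((H ⊓ Subgroup.centralizer (B : Set X) : Subgroup X) : Set X) =
      ((H ⊓ Subgroup.centralizer ((A ⊓ B : Subgroup X) : Set X) : Subgroup X) : Set X)) := by
  have hpos : ∀ K : Subgroup X, (0 : ℝ) < (Nat.card K : ℝ) := fun K => Nat.cast_pos.2 Nat.card_pos
  have hposN : ∀ K : Subgroup X, 0 < Nat.card K := fun K => Nat.card_pos
  have hmpos : ∀ K : Subgroup X, 0 < m K := by
    intro K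
    rw [hm K]
    exact mul_pos (Real.rpow_pos_of_pos (hpos K) α) (hpos _)
  -- set level facts
  have hsub1 : (A : Set X) * (B : Set X) ⊆ ((A ⊔ B : Subgroup X) : Set X) := by
    intro x hx
    obtain ⟨a, ha, b, hb, rfl⟩ := Set.mem_mul.1 hx
    exact Subgroup.mul_mem_sup ha hb
  have hsub2 : ((H ⊓ Subgroup.centralizer (A : Set X) : Subgroup X) : Set X) *
      ((H ⊓ Subgroup.centralizer (B : Set X) : Subgroup X) : Set X) ⊆
      ((H ⊓ Subgroup.centralizer ((A ⊓ B : Subgroup X) : Set X) : Subgroup X) : Set X) := by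
    intro x hx
    obtain ⟨u, hu, v, hv, rfl⟩ := Set.mem_mul.1 hx
    have hu' := Subgroup.mem_inf.1 hu
    have hv' := Subgroup.mem_inf.1 hv
    refine Subgroup.mem_inf.2 ⟨H.mul_mem hu'.1 hv'.1, ?_⟩
    refine Subgroup.mul_mem _ ?_ ?_
    · exact Subgroup.centralizer_le (by
        intro z hz; exact (Subgroup.mem_inf.1 hz).1) hu'.2
    · exact Subgroup.centralizer_le (by
        intro z hz; exact (Subgroup.mem_inf.1 hz).2) hv'.2
  have hle3 : (H ⊓ Subgroup.centralizer (A : Set X)) ⊓ (H ⊓ Subgroup.centralizer (B : Set X)) ≤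
      H ⊓ Subgroup.centralizer ((A ⊔ B : Subgroup X) : Set X) := by
    intro h hh
    obtain ⟨h1, h2⟩ := Subgroup.mem_inf.1 hh
    obtain ⟨hH, hcA⟩ := Subgroup.mem_inf.1 h1
    obtain ⟨_, hcB⟩ := Subgroup.mem_inf.1 h2
    refine Subgroup.mem_inf.2 ⟨hH, ?_⟩
    have hA' : A ≤ Subgroup.centralizer ({h} : Set X) := by
      intro a ha
      rw [Subgroup.mem_centralizer_singleton_iff]
      exact (hcA a ha)
    have hB' : B ≤ Subgroup.centralizer ({h} : Set X) := by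
      intro b hb
      rw [Subgroup.mem_centralizer_singleton_iff]
      exact (hcB b hb)
    intro z hz
    have := (sup_le hA' hB') hz
    rw [Subgroup.mem_centralizer_singleton_iff] at this
    exact this
  -- nat-level facts
  have h1 := Cfsg.Agent.Lib.Helper2.card_mul_card_eq_card_mul_mul_card_inf A B
  have h2 := Cfsg.Agent.Lib.Helper2.card_mul_card_eq_card_mul_mul_card_inf
    (H ⊓ Subgroup.centralizer (A : Set X)) (H ⊓ Subgroup.centralizer (B : Set X))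
  have hs : Nat.card ((A : Set X) * (B : Set X) : Set X) ≤ Nat.card (A ⊔ B : Subgroup X) :=
    Nat.card_mono (Set.toFinite _) hsub1
  have ht : Nat.card (((H ⊓ Subgroup.centralizer (A : Set X) : Subgroup X) : Set X) *
      ((H ⊓ Subgroup.centralizer (B : Set X) : Subgroup X) : Set X) : Set X) ≤
      Nat.card (H ⊓ Subgroup.centralizer ((A ⊓ B : Subgroup X) : Set X) : Subgroup X) :=
    Nat.card_mono (Set.toFinite _) hsub2
  have he : Nat.card ((H ⊓ Subgroup.centralizer (A : Set X)) ⊓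
      (H ⊓ Subgroup.centralizer (B : Set X)) : Subgroup X) ≤
      Nat.card (H ⊓ Subgroup.centralizer ((A ⊔ B : Subgroup X) : Set X) : Subgroup X) :=
    Subgroup.card_le_of_le hle3
  -- abbreviations
  obtain ⟨a, ha⟩ : ∃ a, a = Nat.card A := ⟨_, rfl⟩
  obtain ⟨b, hb⟩ : ∃ b, b = Nat.card B := ⟨_, rfl⟩
  obtain ⟨j, hj⟩ : ∃ j, j = Nat.card (A ⊔ B : Subgroup X) := ⟨_, rfl⟩
  obtain ⟨d, hd⟩ : ∃ d, d = Nat.card (A ⊓ B : Subgroup X) := ⟨_, rfl⟩
  obtain ⟨s, hs'⟩ : ∃ s, s = Nat.card ((A : Set X) * (B : Set X) : Set X) := ⟨_, rfl⟩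
  obtain ⟨cA, hcA⟩ : ∃ c, c = Nat.card (H ⊓ Subgroup.centralizer (A : Set X) : Subgroup X) :=
    ⟨_, rfl⟩
  obtain ⟨cB, hcB⟩ : ∃ c, c = Nat.card (H ⊓ Subgroup.centralizer (B : Set X) : Subgroup X) :=
    ⟨_, rfl⟩
  obtain ⟨cJ, hcJ⟩ : ∃ c, c = Nat.card (H ⊓ Subgroup.centralizer ((A ⊔ B : Subgroup X) : Set X) :
    Subgroup X) := ⟨_, rfl⟩
  obtain ⟨cD, hcD⟩ : ∃ c, c = Nat.card (H ⊓ Subgroup.centralizer ((A ⊓ B : Subgroup X) : Set X) :
    Subgroup X) := ⟨_, rfl⟩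
  obtain ⟨t, ht'⟩ : ∃ t, t = Nat.card (((H ⊓ Subgroup.centralizer (A : Set X) : Subgroup X) :
      Set X) * ((H ⊓ Subgroup.centralizer (B : Set X) : Subgroup X) : Set X) : Set X) := ⟨_, rfl⟩
  obtain ⟨e, he'⟩ : ∃ e, e = Nat.card ((H ⊓ Subgroup.centralizer (A : Set X)) ⊓
      (H ⊓ Subgroup.centralizer (B : Set X)) : Subgroup X) := ⟨_, rfl⟩
  rw [← ha, ← hb, ← hs', ← hd] at h1
  rw [← hcA, ← hcB, ← ht', ← he'] at h2
  rw [← hs', ← hj] at hs
  rw [← ht', ← hcD] at ht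
  rw [← he', ← hcJ] at he
  have hmA : m A = (a : ℝ) ^ α * (cA : ℝ) := by rw [hm A, ha, hcA]
  have hmB : m B = (b : ℝ) ^ α * (cB : ℝ) := by rw [hm B, hb, hcB]
  have hmJ : m (A ⊔ B) = (j : ℝ) ^ α * (cJ : ℝ) := by rw [hm (A ⊔ B), hj, hcJ]
  have hmD : m (A ⊓ B) = (d : ℝ) ^ α * (cD : ℝ) := by rw [hm (A ⊓ B), hd, hcD]
  have ha0 : 0 < a := ha ▸ hposN A
  have hb0 : 0 < b := hb ▸ hposN B
  have hd0 : 0 < d := hd ▸ hposN _
  have hj0 : 0 < j := hj ▸ hposN _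
  have hcA0 : 0 < cA := hcA ▸ hposN _
  have hcB0 : 0 < cB := hcB ▸ hposN _
  have hcJ0 : 0 < cJ := hcJ ▸ hposN _
  have hcD0 : 0 < cD := hcD ▸ hposN _
  have he0 : 0 < e := he' ▸ hposN _
  have hn1 : a * b ≤ j * d := by rw [h1]; exact Nat.mul_le_mul_right d hs
  have hn2 : cA * cB ≤ cJ * cD := by
    rw [h2, mul_comm cJ cD]; exact Nat.mul_le_mul ht he
  -- real level
  have hr1 : ((a * b : ℕ) : ℝ) ^ α ≤ ((j * d : ℕ) : ℝ) ^ α :=
    Real.rpow_le_rpow (Nat.cast_nonneg _) (by exact_mod_cast hn1) hα.le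
  have hr2 : ((cA * cB : ℕ) : ℝ) ≤ ((cJ * cD : ℕ) : ℝ) := by exact_mod_cast hn2
  have hx2 : (0 : ℝ) < ((a * b : ℕ) : ℝ) ^ α :=
    Real.rpow_pos_of_pos (by exact_mod_cast Nat.mul_pos ha0 hb0) α
  have hy2 : (0 : ℝ) < ((cA * cB : ℕ) : ℝ) := by exact_mod_cast Nat.mul_pos hcA0 hcB0
  have hMM : m A * m A = ((a * b : ℕ) : ℝ) ^ α * ((cA * cB : ℕ) : ℝ) := by
    nth_rewrite 2 [← hAB]
    rw [hmA, hmB]
    push_cast
    rw [Real.mul_rpow (Nat.cast_nonneg _) (Nat.cast_nonneg _)]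
    ring
  have hxy : m (A ⊔ B) * m (A ⊓ B) = ((j * d : ℕ) : ℝ) ^ α * ((cJ * cD : ℕ) : ℝ) := by
    rw [hmJ, hmD]
    push_cast
    rw [Real.mul_rpow (Nat.cast_nonneg _) (Nat.cast_nonneg _)]
    ring
  have hge : m A * m A ≤ m (A ⊔ B) * m (A ⊓ B) := by
    rw [hMM, hxy]
    exact mul_le_mul hr1 hr2 hy2.le (le_trans hx2.le hr1)
  obtain ⟨hJeq, hDeq⟩ := real_key (m A) (m (A ⊔ B)) (m (A ⊓ B)) hJ hD (hmpos _) (hmpos _) hge
  have hle' : ((j * d : ℕ) : ℝ) ^ α * ((cJ * cD : ℕ) : ℝ) ≤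
      ((a * b : ℕ) : ℝ) ^ α * ((cA * cB : ℕ) : ℝ) := by
    rw [← hMM, ← hxy, hJeq, hDeq]
  obtain ⟨hE1, hE2⟩ := real_key2 _ _ _ _ hr1 hr2 hx2 hy2 hle'
  have hjd : j * d = a * b := by
    rcases Nat.lt_or_ge (a * b) (j * d) with hlt | hge'
    · exfalso
      have : ((a * b : ℕ) : ℝ) ^ α < ((j * d : ℕ) : ℝ) ^ α :=
        Real.rpow_lt_rpow (Nat.cast_nonneg _) (by exact_mod_cast hlt) hα
      rw [hE1] at this
      exact lt_irrefl _ this
    · exact le_antisymm hge' hn1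
  have hcc : cJ * cD = cA * cB := by exact_mod_cast hE2
  have hsj : s = j := by
    have : s * d = j * d := by rw [← h1, hjd]
    exact Nat.eq_of_mul_eq_mul_right hd0 this
  have htc : t = cD := by
    rcases Nat.lt_or_ge t cD with hlt | hge'
    · exfalso
      have : t * e < cD * cJ := Nat.mul_lt_mul_of_lt_of_le hlt he hcJ0
      rw [← h2, ← hcc, mul_comm] at this
      exact lt_irrefl _ this
    · exact le_antisymm ht hge'
  refine ⟨hJeq, hDeq, ?_, ?_⟩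
  · refine Set.eq_of_subset_of_ncard_le hsub1 ?_ (Set.toFinite _)
    rw [← Nat.card_coe_set_eq, ← Nat.card_coe_set_eq]
    have : Nat.card (((A ⊔ B : Subgroup X) : Set X)) = j := hj.symm
    rw [this, ← hs', hsj]
  · refine Set.eq_of_subset_of_ncard_le hsub2 ?_ (Set.toFinite _)
    rw [← Nat.card_coe_set_eq, ← Nat.card_coe_set_eq]
    have : Nat.card (((H ⊓ Subgroup.centralizer ((A ⊓ B : Subgroup X) : Set X) : Subgroup X) :
      Set X)) = cD := hcD.symm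
    rw [this, ← ht', htc]

/-- Let G and H be subgroups of a finite group with G normalizing H, fix a real number α > 0, and for a subgroup A of G put m(A) = |A|^α · |C_H(A)|. Let A and B be nontrivial subgroups of G at which m attains its maximum over all nontrivial subgroups of G, and assume that A ∩ B ≠ 1 or that this maximum is at least |H|. Then AB = BA is a subgroup at which m is again maximal, C_H(A ∩ B) = C_H(A) C_H(B), and if A ∩ B ≠ 1 then m is maximal at A ∩ B as well. -/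
theorem result {X : Type*} [Group X] [Finite X] (G H : Subgroup X) (hGH : G ≤ Subgroup.normalizer (H : Set X)) (α : ℝ) (hα : 0 < α)
    (A B : Subgroup X) (hA : A ≤ G) (hB : B ≤ G) (hA1 : A ≠ ⊥) (hB1 : B ≠ ⊥)
    (hAmax : ∀ A' : Subgroup X, A' ≤ G → A' ≠ ⊥ → (fun A : Subgroup X => ((Nat.card A : ℝ) ^ α) * (Nat.card ↥(H ⊓ Subgroup.centralizer (A : Set X)) : ℝ)) A' ≤ (fun A : Subgroup X => ((Nat.card A : ℝ) ^ α) * (Nat.card ↥(H ⊓ Subgroup.centralizer (A : Set X)) : ℝ)) A)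
    (hBmax : ∀ A' : Subgroup X, A' ≤ G → A' ≠ ⊥ → (fun A : Subgroup X => ((Nat.card A : ℝ) ^ α) * (Nat.card ↥(H ⊓ Subgroup.centralizer (A : Set X)) : ℝ)) A' ≤ (fun A : Subgroup X => ((Nat.card A : ℝ) ^ α) * (Nat.card ↥(H ⊓ Subgroup.centralizer (A : Set X)) : ℝ)) B)
    (hcase : A ⊓ B ≠ ⊥ ∨ (Nat.card H : ℝ) ≤ (fun A : Subgroup X => ((Nat.card A : ℝ) ^ α) * (Nat.card ↥(H ⊓ Subgroup.centralizer (A : Set X)) : ℝ)) A) :
    (∀ a ∈ A, ∀ b ∈ B, ∃ b' ∈ B, ∃ a' ∈ A, a * b = b' * a') ∧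
    (∀ A' : Subgroup X, A' ≤ G → A' ≠ ⊥ → (fun A : Subgroup X => ((Nat.card A : ℝ) ^ α) * (Nat.card ↥(H ⊓ Subgroup.centralizer (A : Set X)) : ℝ)) A' ≤ (fun A : Subgroup X => ((Nat.card A : ℝ) ^ α) * (Nat.card ↥(H ⊓ Subgroup.centralizer (A : Set X)) : ℝ)) (A ⊔ B)) ∧
    (∀ h ∈ H ⊓ Subgroup.centralizer ((A ⊓ B : Subgroup X) : Set X), ∃ u ∈ H ⊓ Subgroup.centralizer (A : Set X), ∃ v ∈ H ⊓ Subgroup.centralizer (B : Set X), h = u * v) ∧
    (A ⊓ B ≠ ⊥ → ∀ A' : Subgroup X, A' ≤ G → A' ≠ ⊥ → (fun A : Subgroup X => ((Nat.card A : ℝ) ^ α) * (Nat.card ↥(H ⊓ Subgroup.centralizer (A : Set X)) : ℝ)) A' ≤ (fun A : Subgroup X => ((Nat.card A : ℝ) ^ α) * (Nat.card ↥(H ⊓ Subgroup.centralizer (A : Set X)) : ℝ)) (A ⊓ B)) := by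
  obtain ⟨m, hmdef⟩ : ∃ m : Subgroup X → ℝ, m = (fun A : Subgroup X => ((Nat.card A : ℝ) ^ α) * (Nat.card ↥(H ⊓ Subgroup.centralizer (A : Set X)) : ℝ)) := ⟨_, rfl⟩
  rw [← hmdef] at hAmax hBmax hcase ⊢
  have hm : ∀ K : Subgroup X, m K = ((Nat.card K : ℝ) ^ α) *
      (Nat.card ↥(H ⊓ Subgroup.centralizer (K : Set X)) : ℝ) := by
    intro K; rw [hmdef]
  have hAB : m B = m A := le_antisymm (hAmax B hB hB1) (hBmax A hA hA1)
  have hJne : A ⊔ B ≠ ⊥ := by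
    intro h
    apply hA1
    rw [eq_bot_iff, ← h]
    exact le_sup_left
  have hJ : m (A ⊔ B) ≤ m A := hAmax _ (sup_le hA hB) hJne
  have hD : m (A ⊓ B) ≤ m A := by
    by_cases hbot : A ⊓ B = ⊥
    · rcases hcase with h | h
      · exact absurd hbot h
      · refine le_trans (le_of_eq ?_) h
        rw [hm, hbot]
        have h1 : Nat.card (⊥ : Subgroup X) = 1 := Subgroup.card_bot
        have h2 : H ⊓ Subgroup.centralizer (((⊥ : Subgroup X)) : Set X) = H := by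
          apply le_antisymm inf_le_left
          intro h hh
          refine Subgroup.mem_inf.2 ⟨hh, ?_⟩
          intro z hz
          have : z = 1 := by simpa using hz
          rw [this, one_mul, mul_one]
        rw [h1, h2]
        simp
    · exact hAmax _ (inf_le_left.trans hA) hbot
  obtain ⟨hJeq, hDeq, hset1, hset2⟩ := main H α hα A B m hm hAB hJ hD
  refine ⟨?_, ?_, ?_, ?_⟩
  · intro a ha b hb
    have hab : (a * b)⁻¹ ∈ ((A ⊔ B : Subgroup X) : Set X) :=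
      (A ⊔ B).inv_mem (Subgroup.mul_mem_sup ha hb)
    rw [← hset1] at hab
    obtain ⟨a', ha', b', hb', h⟩ := Set.mem_mul.1 hab
    refine ⟨b'⁻¹, B.inv_mem hb', a'⁻¹, A.inv_mem ha', ?_⟩
    rw [← mul_inv_rev, h, inv_inv]
  · intro A' hA' hA'1
    rw [hJeq]
    exact hAmax A' hA' hA'1
  · intro h hh
    have hh' : h ∈ ((H ⊓ Subgroup.centralizer ((A ⊓ B : Subgroup X) : Set X) : Subgroup X) :
      Set X) := hh
    rw [← hset2] at hh'
    obtain ⟨u, hu, v, hv, huv⟩ := Set.mem_mul.1 hh'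
    exact ⟨u, hu, v, hv, huv.symm⟩
  · intro _ A' hA' hA'1
    rw [hDeq]
    exact hAmax A' hA' hA'1

end Cfsg.Agent.S3804
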