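import Cfsg.Statements.S3807
import Mathlib

set_option autoImplicit false
open Cfsg
open scoped commutatorElement

namespace Cfsg.Agent.S3807

variable {S : Type*} [Group S]

/-- a subgroup properly containing a subgroup of prime index is everything -/
theorem eq_top_of_prime_index {p : ℕ} (hp : p.Prime) (A K : Subgroup S) (hA : A.index = p)
    (hle : A ≤ K) {x : S} (hxK : x ∈ K) (hxA : x ∉ A) : K = ⊤ := by
  have h1 := Subgroup.relIndex_mul_index hle
  rw [hA] at h1
  have h2 : K.index ∣ p := Dvd.intro_left _ h1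
  rcases (Nat.dvd_prime hp).1 h2 with h | h
  · exact Subgroup.index_eq_one.1 h
  · exfalso
    rw [h] at h1
    have h3 : A.relIndex K = 1 := by
      have : A.relIndex K * p = 1 * p := by rw [h1, one_mul]
      exact Nat.eq_of_mul_eq_mul_right hp.pos this
    exact hxA (Subgroup.relIndex_eq_one.1 h3 hxK)

/-- the commutator map `a ↦ a g a⁻¹ g⁻¹` on an abelian normal subgroup -/
noncomputable def phi (A : Subgroup S) [hAn : A.Normal] (hAc : IsMulCommutative ↥A) (g : S) : ↥A →* S :=
  MonoidHom.mk' (fun a => (a : S) * g * (a : S)⁻¹ * g⁻¹) (by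
    intro a b
    have hx : g * (a : S)⁻¹ * g⁻¹ ∈ A := hAn.conj_mem _ (A.inv_mem a.2) g
    have hy : g * (b : S)⁻¹ * g⁻¹ ∈ A := hAn.conj_mem _ (A.inv_mem b.2) g
    have hc : ∀ u v : S, u ∈ A → v ∈ A → u * v = v * u := by
      intro u v hu hv
      have := hAc.is_comm.comm ⟨u, hu⟩ ⟨v, hv⟩
      exact congrArg Subtype.val this
    have e1 : ((a * b : ↥A) : S) = (a : S) * (b : S) := rfl
    rw [e1]
    have e2 : (a : S) * (b : S) * g * ((a : S) * (b : S))⁻¹ * g⁻¹
        = (a : S) * ((b : S) * ((g * (b : S)⁻¹ * g⁻¹) * (g * (a : S)⁻¹ * g⁻¹))) := by group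
    have e3 : (a : S) * g * (a : S)⁻¹ * g⁻¹ * ((b : S) * g * (b : S)⁻¹ * g⁻¹)
        = (a : S) * ((g * (a : S)⁻¹ * g⁻¹) * ((b : S) * (g * (b : S)⁻¹ * g⁻¹))) := by group
    rw [e2, e3]
    congr 1
    rw [hc _ _ hx (A.mul_mem b.2 hy)]
    group)

theorem phi_apply (A : Subgroup S) [hAn : A.Normal] (hAc : IsMulCommutative ↥A) (g : S) (a : ↥A) :
    phi A hAc g a = (a : S) * g * (a : S)⁻¹ * g⁻¹ := rfl

theorem phi_mem (A : Subgroup S) [hAn : A.Normal] (hAc : IsMulCommutative ↥A) (g : S) (a : ↥A) :
    phi A hAc g a ∈ A := by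
  rw [phi_apply]
  have hx : g * (a : S)⁻¹ * g⁻¹ ∈ A := hAn.conj_mem _ (A.inv_mem a.2) g
  have := A.mul_mem a.2 hx
  have e : (a : S) * (g * (a : S)⁻¹ * g⁻¹) = (a : S) * g * (a : S)⁻¹ * g⁻¹ := by group
  rwa [e] at this


theorem normal_of_index_p [Finite S] {p : ℕ} [hp : Fact p.Prime] (hS : IsPGroup p S)
    (A : Subgroup S) (hAi : A.index = p) : A.Normal := by
  apply Subgroup.normal_of_index_eq_minFac_card
  obtain ⟨n, hn⟩ := IsPGroup.iff_card.1 hS
  have hn0 : n ≠ 0 := by
    intro h
    rw [h, pow_zero] at hn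
    have h1 := Subgroup.card_mul_index A
    rw [hn, hAi] at h1
    have := hp.out.two_le
    have h2 : p ∣ 1 := Dvd.intro_left _ h1
    have := Nat.le_of_dvd (by norm_num) h2
    omega
  rw [hAi, hn, Nat.Prime.pow_minFac hp.out hn0]

theorem comm_elems {A : Subgroup S} (hAc : IsMulCommutative ↥A) {u v : S} (hu : u ∈ A)
    (hv : v ∈ A) : u * v = v * u := by
  have := hAc.is_comm.comm ⟨u, hu⟩ ⟨v, hv⟩
  exact congrArg Subtype.val this

theorem center_le_of_index_p {p : ℕ} [hp : Fact p.Prime] (hna : ¬ IsMulCommutative S)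
    (B : Subgroup S) (hBc : IsMulCommutative ↥B) (hBi : B.index = p) :
    Subgroup.center S ≤ B := by
  intro z hz
  by_contra hzB
  have h1 : Subgroup.centralizer (B : Set S) = ⊤ := by
    apply eq_top_of_prime_index hp.out B _ hBi _ (x := z) _ hzB
    · intro b hb
      rw [Subgroup.mem_centralizer_iff]
      intro c hc
      exact comm_elems hBc hc hb
    · rw [Subgroup.mem_centralizer_iff]
      intro c _
      exact (Subgroup.mem_center_iff.1 hz c)
  have h2 : B ≤ Subgroup.center S := by
    intro b hb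
    rw [Subgroup.mem_center_iff]
    intro s
    have hs : s ∈ Subgroup.centralizer (B : Set S) := by rw [h1]; trivial
    rw [Subgroup.mem_centralizer_iff] at hs
    exact (hs b hb).symm
  have h3 : Subgroup.center S = ⊤ := eq_top_of_prime_index hp.out B _ hBi h2 hz hzB
  apply hna
  refine ⟨⟨fun a b => ?_⟩⟩
  have ha : a ∈ Subgroup.center S := by rw [h3]; trivial
  exact ((Subgroup.mem_center_iff.1 ha) b).symm

theorem mem_center_of_comm {p : ℕ} [hp : Fact p.Prime] (A : Subgroup S)
    (hAc : IsMulCommutative ↥A) (hAi : A.index = p) {g : S} (hg : g ∉ A) {a : S} (ha : a ∈ A)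
    (hag : a * g = g * a) : a ∈ Subgroup.center S := by
  have h1 : Subgroup.centralizer ({a} : Set S) = ⊤ := by
    apply eq_top_of_prime_index hp.out A _ hAi _ (x := g) _ hg
    · intro b hb
      rw [Subgroup.mem_centralizer_iff]
      intro c hc
      rw [Set.mem_singleton_iff] at hc
      rw [hc]
      exact comm_elems hAc ha hb
    · rw [Subgroup.mem_centralizer_iff]
      intro c hc
      rw [Set.mem_singleton_iff] at hc
      rw [hc]; exact hag
  rw [Subgroup.mem_center_iff]
  intro s
  have hs : s ∈ Subgroup.centralizer ({a} : Set S) := by rw [h1]; trivial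
  rw [Subgroup.mem_centralizer_iff] at hs
  exact (hs a rfl).symm

theorem phi_ker {p : ℕ} [hp : Fact p.Prime] (hna : ¬ IsMulCommutative S) (A : Subgroup S)
    [hAn : A.Normal] (hAc : IsMulCommutative ↥A) (hAi : A.index = p) {g : S} (hg : g ∉ A) :
    (phi A hAc g).ker = (Subgroup.center S).subgroupOf A := by
  ext a
  rw [MonoidHom.mem_ker, phi_apply, Subgroup.mem_subgroupOf]
  constructor
  · intro h
    apply mem_center_of_comm A hAc hAi hg a.2
    have : (a : S) * g = ((a : S) * g * (a : S)⁻¹ * g⁻¹) * (g * (a : S)) := by group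
    rw [this, h, one_mul]
  · intro h
    have := (Subgroup.mem_center_iff.1 h g)
    calc (a : S) * g * (a : S)⁻¹ * g⁻¹ = ((a : S) * g) * (a : S)⁻¹ * g⁻¹ := by group
      _ = (g * (a : S)) * (a : S)⁻¹ * g⁻¹ := by rw [this]
      _ = 1 := by group


theorem phi_range_normal [Finite S] {p : ℕ} [hp : Fact p.Prime] (A : Subgroup S)
    [hAn : A.Normal] (hAc : IsMulCommutative ↥A) (hAi : A.index = p) {g : S} (hg : g ∉ A) :
    (phi A hAc g).range.Normal := by
  rw [← Subgroup.normalizer_eq_top_iff]
  apply eq_top_of_prime_index hp.out A _ hAi _ (x := g) _ hg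
  · intro b hb
    apply Subgroup.mem_normalizer_fintype
    rintro h ⟨a, rfl⟩
    have : b * phi A hAc g a * b⁻¹ = phi A hAc g a := by
      rw [comm_elems hAc hb (phi_mem A hAc g a), mul_inv_cancel_right]
    show b * phi A hAc g a * b⁻¹ ∈ (phi A hAc g).range
    rw [this]
    exact ⟨a, rfl⟩
  · apply Subgroup.mem_normalizer_fintype
    rintro h ⟨a, rfl⟩
    refine ⟨⟨g * (a : S) * g⁻¹, hAn.conj_mem _ a.2 g⟩, ?_⟩
    rw [phi_apply, phi_apply]
    show g * (a : S) * g⁻¹ * g * (g * (a : S) * g⁻¹)⁻¹ * g⁻¹ = g * ((a : S) * g * (a : S)⁻¹ * g⁻¹) * g⁻¹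
    group

theorem commutator_eq_range [Finite S] {p : ℕ} [hp : Fact p.Prime] (A : Subgroup S)
    [hAn : A.Normal] (hAc : IsMulCommutative ↥A) (hAi : A.index = p) {g : S} (hg : g ∉ A) :
    commutator S = (phi A hAc g).range := by
  haveI hIn := phi_range_normal A hAc hAi hg
  obtain ⟨I, hI⟩ : ∃ I, I = (phi A hAc g).range := ⟨_, rfl⟩
  rw [← hI] at hIn ⊢
  have hφI : ∀ a : ↥A, phi A hAc g a ∈ I := by intro a; rw [hI]; exact ⟨a, rfl⟩
  apply le_antisymm
  · have hπ : ∀ x y : S, (QuotientGroup.mk' I x) * (QuotientGroup.mk' I y)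
        = (QuotientGroup.mk' I y) * (QuotientGroup.mk' I x) ↔ (x * y)⁻¹ * (y * x) ∈ I := by
      intro x y
      rw [← map_mul, ← map_mul]
      exact QuotientGroup.eq
    -- step 1
    have h1 : ∀ a ∈ A, ∀ y : S, (QuotientGroup.mk' I a) * (QuotientGroup.mk' I y)
        = (QuotientGroup.mk' I y) * (QuotientGroup.mk' I a) := by
      intro a ha
      have hK : (Subgroup.centralizer ({QuotientGroup.mk' I a} : Set (S ⧸ I))).comap
          (QuotientGroup.mk' I) = ⊤ := by
        apply eq_top_of_prime_index hp.out A _ hAi _ (x := g) _ hg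
        · intro b hb
          rw [Subgroup.mem_comap, Subgroup.mem_centralizer_iff]
          intro c hc
          rw [Set.mem_singleton_iff] at hc
          rw [hc, hπ, comm_elems hAc ha hb, inv_mul_cancel]
          exact I.one_mem
        · rw [Subgroup.mem_comap, Subgroup.mem_centralizer_iff]
          intro c hc
          rw [Set.mem_singleton_iff] at hc
          rw [hc, hπ]
          have h2 : g⁻¹ * (a⁻¹ * g * a⁻¹⁻¹ * g⁻¹) * g⁻¹⁻¹ ∈ I :=
            hIn.conj_mem _ (hφI ⟨a⁻¹, A.inv_mem ha⟩) g⁻¹
          have e : g⁻¹ * (a⁻¹ * g * a⁻¹⁻¹ * g⁻¹) * g⁻¹⁻¹ = (a * g)⁻¹ * (g * a) := by group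
          rwa [e] at h2
      intro y
      have hy : y ∈ (Subgroup.centralizer ({QuotientGroup.mk' I a} : Set (S ⧸ I))).comap
          (QuotientGroup.mk' I) := by rw [hK]; trivial
      rw [Subgroup.mem_comap, Subgroup.mem_centralizer_iff] at hy
      exact hy _ rfl
    -- step 2
    have h2 : ∀ y : S, (QuotientGroup.mk' I g) * (QuotientGroup.mk' I y)
        = (QuotientGroup.mk' I y) * (QuotientGroup.mk' I g) := by
      have hK : (Subgroup.centralizer ({QuotientGroup.mk' I g} : Set (S ⧸ I))).comap
          (QuotientGroup.mk' I) = ⊤ := by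
        apply eq_top_of_prime_index hp.out A _ hAi _ (x := g) _ hg
        · intro b hb
          rw [Subgroup.mem_comap, Subgroup.mem_centralizer_iff]
          intro c hc
          rw [Set.mem_singleton_iff] at hc
          rw [hc]
          exact (h1 b hb g).symm
        · rw [Subgroup.mem_comap, Subgroup.mem_centralizer_iff]
          intro c hc
          rw [Set.mem_singleton_iff] at hc
          rw [hc]
      intro y
      have hy : y ∈ (Subgroup.centralizer ({QuotientGroup.mk' I g} : Set (S ⧸ I))).comap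
          (QuotientGroup.mk' I) := by rw [hK]; trivial
      rw [Subgroup.mem_comap, Subgroup.mem_centralizer_iff] at hy
      exact hy _ rfl
    -- step 3
    have h3 : (Subgroup.center (S ⧸ I)).comap (QuotientGroup.mk' I) = ⊤ := by
      apply eq_top_of_prime_index hp.out A _ hAi _ (x := g) _ hg
      · intro b hb
        rw [Subgroup.mem_comap, Subgroup.mem_center_iff]
        intro q
        induction q using QuotientGroup.induction_on with
        | H y => exact (h1 b hb y).symm
      · rw [Subgroup.mem_comap, Subgroup.mem_center_iff]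
        intro q
        induction q using QuotientGroup.induction_on with
        | H y => exact (h2 y).symm
    rw [commutator_def, Subgroup.commutator_le]
    intro x _ y _
    have hy : y⁻¹ ∈ (Subgroup.center (S ⧸ I)).comap (QuotientGroup.mk' I) := by rw [h3]; trivial
    rw [Subgroup.mem_comap, Subgroup.mem_center_iff] at hy
    have h4 := (hπ y⁻¹ x⁻¹).1 (hy _).symm
    have e : (y⁻¹ * x⁻¹)⁻¹ * (x⁻¹ * y⁻¹) = ⁅x, y⁆ := by
      rw [commutatorElement_def]; group
    rwa [e] at h4
  · rw [hI]
    rintro h ⟨a, rfl⟩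
    rw [phi_apply]
    have : (a : S) * g * (a : S)⁻¹ * g⁻¹ = ⁅(a : S), g⁆ := by rw [commutatorElement_def]
    rw [this, commutator_def]
    exact Subgroup.commutator_mem_commutator (Subgroup.mem_top _) (Subgroup.mem_top _)


theorem eq_of_le_of_index_p {p : ℕ} (hp : p.Prime) (A K : Subgroup S) (hA : A.index = p)
    (hK : K.index = p) (hle : A ≤ K) : A = K := by
  by_contra hne
  have : ∃ x ∈ K, x ∉ A := by
    by_contra hcon
    push Not at hcon
    exact hne (le_antisymm hle hcon)
  obtain ⟨x, hxK, hxA⟩ := this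
  have := eq_top_of_prime_index hp A K hA hle hxK hxA
  rw [this, Subgroup.index_top] at hK
  exact hp.one_lt.ne hK


theorem sup_zpowers_props [Finite S] {p : ℕ} [hp : Fact p.Prime] (hna : ¬ IsMulCommutative S)
    (hZi : (Subgroup.center S).index = p * p) {x : S} (hx : x ∉ Subgroup.center S) :
    IsMulCommutative ↥(Subgroup.center S ⊔ Subgroup.zpowers x) ∧
      (Subgroup.center S ⊔ Subgroup.zpowers x).index = p := by
  have hcomm : IsMulCommutative ↥(Subgroup.center S ⊔ Subgroup.zpowers x) := by
    have e : Subgroup.center S ⊔ Subgroup.zpowers x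
        = Subgroup.closure ((Subgroup.center S : Set S) ∪ {x}) := by
      rw [Subgroup.closure_union, Subgroup.closure_eq, Subgroup.zpowers_eq_closure]
    rw [e]
    apply Subgroup.isMulCommutative_closure
    intro a ha b hb
    rcases ha with ha | ha
    · exact ((Subgroup.mem_center_iff.1 ha) b).symm
    · rcases hb with hb | hb
      · exact (Subgroup.mem_center_iff.1 hb) a
      · rw [Set.mem_singleton_iff.1 ha, Set.mem_singleton_iff.1 hb]
  refine ⟨hcomm, ?_⟩
  obtain ⟨D, hD⟩ : ∃ D, D = Subgroup.center S ⊔ Subgroup.zpowers x := ⟨_, rfl⟩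
  rw [← hD] at hcomm ⊢
  have hZD : Subgroup.center S ≤ D := by rw [hD]; exact le_sup_left
  have hxD : x ∈ D := by rw [hD]; exact Subgroup.mem_sup_right (Subgroup.mem_zpowers x)
  have h1 := Subgroup.relIndex_mul_index hZD
  rw [hZi] at h1
  have h2 : (Subgroup.center S).relIndex D ≠ 1 := by
    intro h
    exact hx (Subgroup.relIndex_eq_one.1 h hxD)
  have h3 : D.index ≠ 1 := by
    intro h
    rw [Subgroup.index_eq_one] at h
    apply hna
    refine ⟨⟨fun a b => ?_⟩⟩
    exact comm_elems hcomm (by rw [h]; trivial) (by rw [h]; trivial)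
  have h4 : D.index ∣ p ^ 2 := by rw [pow_two]; exact Dvd.intro_left _ h1
  obtain ⟨k, hk2, hk⟩ := (Nat.dvd_prime_pow hp.out).1 h4
  have hk' : k = 0 ∨ k = 1 ∨ k = 2 := by omega
  rcases hk' with h | h | h
  · rw [h, pow_zero] at hk; exact absurd hk h3
  · rw [h, pow_one] at hk; exact hk
  · exfalso
    rw [h] at hk
    rw [hk, pow_two] at h1
    apply h2
    have : (Subgroup.center S).relIndex D * (p * p) = 1 * (p * p) := by rw [h1, one_mul]
    exact Nat.eq_of_mul_eq_mul_right (Nat.mul_pos hp.out.pos hp.out.pos) this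

theorem count_abelian [Finite S] {p : ℕ} [hp : Fact p.Prime] (hna : ¬ IsMulCommutative S)
    (hZi : (Subgroup.center S).index = p * p) :
    Nat.card {B : Subgroup S // IsMulCommutative ↥B ∧ B.index = p} = p + 1 := by
  classical
  haveI : Fintype S := Fintype.ofFinite S
  haveI : Fintype (Subgroup S) := Fintype.ofFinite _
  obtain ⟨z, hz⟩ : ∃ z, z = Nat.card (Subgroup.center S) := ⟨_, rfl⟩
  have hzpos : 0 < z := by rw [hz]; exact Nat.card_pos
  have hScard : Nat.card S = p * p * z := by
    rw [← Subgroup.card_mul_index (Subgroup.center S), hZi, ← hz, mul_comm]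
  obtain ⟨f, hfdef⟩ : ∃ f : S → Subgroup S, f = fun x => Subgroup.center S ⊔ Subgroup.zpowers x :=
    ⟨_, rfl⟩
  obtain ⟨𝓑, h𝓑⟩ : ∃ 𝓑 : Finset (Subgroup S),
      𝓑 = Finset.univ.filter (fun B : Subgroup S => IsMulCommutative ↥B ∧ B.index = p) := ⟨_, rfl⟩
  obtain ⟨T, hT⟩ : ∃ T : Finset S, T = Finset.univ.filter (fun x : S => x ∉ Subgroup.center S) :=
    ⟨_, rfl⟩
  have hcardB : Nat.card {B : Subgroup S // IsMulCommutative ↥B ∧ B.index = p} = 𝓑.card := by
    apply Nat.subtype_card
    intro B
    rw [h𝓑]; simp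
  rw [hcardB]
  have hmem : ∀ (H : Subgroup S), Nat.card H = (Finset.univ.filter (fun x : S => x ∈ H)).card := by
    intro H
    apply Nat.subtype_card
    intro x; simp
  have h1 : T.card = ∑ B ∈ 𝓑, (T.filter (fun x => f x = B)).card := by
    apply Finset.card_eq_sum_card_fiberwise
    intro x hx
    have hx' := Finset.mem_coe.1 hx
    rw [hT, Finset.mem_filter] at hx'
    apply Finset.mem_coe.2
    rw [h𝓑, Finset.mem_filter, hfdef]
    exact ⟨Finset.mem_univ _, sup_zpowers_props hna hZi hx'.2⟩
  have h3 : T.card + z = p * p * z := by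
    have hZc : (Finset.univ.filter (fun x : S => x ∈ Subgroup.center S)).card = z := by
      rw [hz]; symm
      apply Nat.subtype_card
      intro x; simp
    rw [← hScard, ← hZc, hT, Nat.card_eq_fintype_card, ← Finset.card_univ, add_comm]
    convert Finset.card_filter_add_card_filter_not (s := Finset.univ)
      (fun x : S => x ∈ Subgroup.center S)
  have h2 : ∀ B ∈ 𝓑, (T.filter (fun x => f x = B)).card + z = p * z := by
    intro B hB
    rw [h𝓑, Finset.mem_filter] at hB
    obtain ⟨-, hBc, hBi⟩ := hB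
    have hZB := center_le_of_index_p hna B hBc hBi
    have hBcard : Nat.card B = p * z := by
      have h4 := Subgroup.card_mul_index B
      rw [hBi, hScard] at h4
      have : Nat.card B * p = (p * z) * p := by rw [h4]; ring
      exact Nat.eq_of_mul_eq_mul_right hp.out.pos this
    have e1 : T.filter (fun x => f x = B)
        = (Finset.univ.filter (fun x : S => x ∈ B)).filter (fun x => x ∉ Subgroup.center S) := by
      ext x
      rw [hT, Finset.mem_filter, Finset.mem_filter, Finset.mem_filter, Finset.mem_filter]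
      constructor
      · rintro ⟨⟨_, hxZ⟩, hfx⟩
        refine ⟨⟨Finset.mem_univ _, ?_⟩, hxZ⟩
        rw [← hfx, hfdef]
        exact Subgroup.mem_sup_right (Subgroup.mem_zpowers x)
      · rintro ⟨⟨_, hxB⟩, hxZ⟩
        refine ⟨⟨Finset.mem_univ _, hxZ⟩, ?_⟩
        rw [hfdef]
        apply eq_of_le_of_index_p hp.out _ _ (sup_zpowers_props hna hZi hxZ).2 hBi
        exact sup_le hZB (by rw [Subgroup.zpowers_le]; exact hxB)
    have e2 : (Finset.univ.filter (fun x : S => x ∈ B)).filter (fun x => x ∈ Subgroup.center S)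
        = Finset.univ.filter (fun x : S => x ∈ Subgroup.center S) := by
      ext x
      simp only [Finset.mem_filter, Finset.mem_univ, true_and]
      exact ⟨fun h => h.2, fun h => ⟨hZB h, h⟩⟩
    have h5 : (Finset.univ.filter (fun x : S => x ∈ Subgroup.center S)).card
        + (T.filter (fun x => f x = B)).card = (Finset.univ.filter (fun x : S => x ∈ B)).card := by
      rw [e1, ← e2]
      convert Finset.card_filter_add_card_filter_not (s := Finset.univ.filter (fun x : S => x ∈ B))
        (fun x : S => x ∈ Subgroup.center S)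
    have hZc : (Finset.univ.filter (fun x : S => x ∈ Subgroup.center S)).card = z := by
      rw [hz]; symm
      apply Nat.subtype_card
      intro x; simp
    rw [← hmem, hZc, hBcard] at h5
    rw [add_comm]; exact h5
  obtain ⟨q, hq⟩ : ∃ q, p = q + 1 := ⟨p - 1, by have := hp.out.pos; omega⟩
  have hq1 : 1 ≤ q := by have := hp.out.two_le; omega
  have h6 : ∀ B ∈ 𝓑, (T.filter (fun x => f x = B)).card = q * z := by
    intro B hB
    have := h2 B hB
    rw [hq] at this
    have e : (q + 1) * z = q * z + z := by ring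
    rw [e] at this
    exact Nat.add_right_cancel this
  rw [Finset.sum_congr rfl h6, Finset.sum_const, smul_eq_mul] at h1
  rw [h1, hq] at h3
  have h7 : 𝓑.card * (q * z) = (q + 2) * (q * z) := by
    have e : (q + 1) * (q + 1) * z = (q + 2) * (q * z) + z := by ring
    rw [e] at h3
    exact Nat.add_right_cancel h3
  have h8 : 0 < q * z := Nat.mul_pos hq1 hzpos
  rw [hq]
  exact Nat.eq_of_mul_eq_mul_right h8 h7

theorem main3807 {S : Type*} [Group S] [Finite S] (p : ℕ) [hp : Fact p.Prime] (hS : IsPGroup p S) (hna : ¬ IsMulCommutative S)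
    (A : Subgroup S) (hA : IsMulCommutative ↥A) (hAi : A.index = p) :
    (Subgroup.center S).index = p * Nat.card (commutator S) ∧
      ((Nat.card (commutator S) = p ∧ Cfsg.IsElementaryAbelian p (⊤ : Subgroup (S ⧸ Subgroup.center S)) ∧
          Nat.card (S ⧸ Subgroup.center S) = p ^ 2 ∧
          Nat.card {B : Subgroup S // IsMulCommutative ↥B ∧ B.index = p} = p + 1) ∨
        (p ^ 2 ≤ Nat.card (commutator S) ∧ ∀ B : Subgroup S, IsMulCommutative ↥B → B.index = p → B = A)) := by
  haveI hAn := normal_of_index_p hS A hAi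
  obtain ⟨g, hg⟩ : ∃ g, g ∉ A := by
    by_contra hcon
    push Not at hcon
    have : A = ⊤ := (Subgroup.eq_top_iff' A).2 hcon
    rw [this, Subgroup.index_top] at hAi
    exact hp.out.one_lt.ne hAi
  have hZA := center_le_of_index_p hna A hA hAi
  have hker := phi_ker hna A hA hAi hg
  have hcomm := commutator_eq_range A hA hAi hg
  have hidx : (Subgroup.center S).index = p * Nat.card (commutator S) := by
    rw [← Subgroup.relIndex_mul_index hZA, hAi, mul_comm]
    congr 1
    unfold Subgroup.relIndex
    rw [← hker, Subgroup.index_ker, hcomm]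
  refine ⟨hidx, ?_⟩
  have hcne : commutator S ≠ ⊥ := by
    intro h
    apply hna
    refine ⟨⟨fun a b => ?_⟩⟩
    have h1 : ⁅a, b⁆ ∈ commutator S := by
      rw [commutator_def]
      exact Subgroup.commutator_mem_commutator (Subgroup.mem_top _) (Subgroup.mem_top _)
    rw [h, Subgroup.mem_bot, commutatorElement_def] at h1
    calc a * b = (a * b * a⁻¹ * b⁻¹) * (b * a) := by group
      _ = b * a := by rw [h1, one_mul]
  obtain ⟨m, hm⟩ := IsPGroup.iff_card.1 (hS.to_subgroup (commutator S))
  have hm0 : m ≠ 0 := by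
    intro h
    rw [h, pow_zero, Subgroup.card_eq_one] at hm
    exact hcne hm
  by_cases hm1 : m = 1
  · left
    rw [hm1, pow_one] at hm
    rw [hm] at hidx
    have hQ : Nat.card (S ⧸ Subgroup.center S) = p ^ 2 := by
      rw [← Subgroup.index_eq_card, hidx, pow_two]
    refine ⟨hm, ⟨?_, ?_⟩, hQ, ?_⟩
    · exact ⟨⟨fun a b => Subtype.ext (IsPGroup.commutative_of_card_eq_prime_sq hQ a b)⟩⟩
    · intro a _
      have h1 : orderOf a ∣ p ^ 2 := by rw [← hQ]; exact orderOf_dvd_natCard a
      obtain ⟨k, hk2, hk⟩ := (Nat.dvd_prime_pow hp.out).1 h1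
      have hk1 : k ≤ 1 := by
        by_contra hcon
        have hk2' : k = 2 := by omega
        rw [hk2', ← hQ] at hk
        haveI := isCyclic_of_orderOf_eq_card a hk
        apply hna
        refine ⟨⟨fun x y => ?_⟩⟩
        exact commutative_of_cyclic_center_quotient (QuotientGroup.mk' (Subgroup.center S))
          (by rw [QuotientGroup.ker_mk']) x y
      have h2 : orderOf a ∣ p := by
        rw [hk]
        calc p ^ k ∣ p ^ 1 := pow_dvd_pow p hk1
          _ = p := pow_one p
      exact orderOf_dvd_iff_pow_eq_one.1 h2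
    · exact count_abelian hna hidx
  · right
    have hm2 : 2 ≤ m := by omega
    refine ⟨by rw [hm]; exact Nat.pow_le_pow_right hp.out.pos hm2, ?_⟩
    intro B hBc hBi
    by_contra hne
    have hZB := center_le_of_index_p hna B hBc hBi
    have hBA : ∃ x ∈ B, x ∉ A := by
      by_contra hcon
      push Not at hcon
      exact hne (eq_of_le_of_index_p hp.out B A hBi hAi hcon)
    obtain ⟨x, hxB, hxA⟩ := hBA
    have hsup : A ⊔ B = ⊤ :=
      eq_top_of_prime_index hp.out A _ hAi le_sup_left (Subgroup.mem_sup_right hxB) hxA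
    have hinf : A ⊓ B ≤ Subgroup.center S := by
      rintro y ⟨hyA, hyB⟩
      have h1 : Subgroup.centralizer ({y} : Set S) = ⊤ := by
        rw [eq_top_iff, ← hsup]
        apply sup_le
        · intro b hb
          rw [Subgroup.mem_centralizer_iff]
          intro c hc
          rw [Set.mem_singleton_iff] at hc
          rw [hc]; exact comm_elems hA hyA hb
        · intro b hb
          rw [Subgroup.mem_centralizer_iff]
          intro c hc
          rw [Set.mem_singleton_iff] at hc
          rw [hc]; exact comm_elems hBc hyB hb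
      rw [Subgroup.mem_center_iff]
      intro s
      have hs : s ∈ Subgroup.centralizer ({y} : Set S) := by rw [h1]; trivial
      rw [Subgroup.mem_centralizer_iff] at hs
      exact (hs y rfl).symm
    have h1 : (Subgroup.center S).index ∣ (A ⊓ B).index := Subgroup.index_dvd_of_le hinf
    have h2 : (A ⊓ B).index ≤ p * p := by
      have := Subgroup.index_inf_le (H := A) (K := B)
      rwa [hAi, hBi] at this
    have h3 : (A ⊓ B).index ≠ 0 := Subgroup.index_ne_zero_of_finite
    have h4 := Nat.le_of_dvd (Nat.pos_of_ne_zero h3) h1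
    rw [hidx, hm] at h4
    have h5 : p ^ 2 ≤ p ^ m := Nat.pow_le_pow_right hp.out.pos hm2
    have h6 : p * p ^ 2 ≤ p * p := by
      calc p * p ^ 2 ≤ p * p ^ m := Nat.mul_le_mul_left p h5
        _ ≤ p * p := h4.trans h2
    have := hp.out.two_le
    nlinarith


/-- Let S be a non-abelian finite p-group with an abelian subgroup A of index p. Then [S : Z(S)] = p·#[S,S], and either [S,S] has order p, S/Z(S) is elementary abelian of order p², and S has exactly p + 1 abelian subgroups of index p; or [S,S] has order at least p² and A is the only abelian subgroup of index p in S. -/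
theorem result {S : Type*} [Group S] [Finite S] (p : ℕ) [Fact p.Prime] (hS : IsPGroup p S) (hna : ¬ IsMulCommutative S)
    (A : Subgroup S) (hA : IsMulCommutative ↥A) (hAi : A.index = p) :
    (Subgroup.center S).index = p * Nat.card (commutator S) ∧
      ((Nat.card (commutator S) = p ∧ Cfsg.IsElementaryAbelian p (⊤ : Subgroup (S ⧸ Subgroup.center S)) ∧
          Nat.card (S ⧸ Subgroup.center S) = p ^ 2 ∧
          Nat.card {B : Subgroup S // IsMulCommutative ↥B ∧ B.index = p} = p + 1) ∨
        (p ^ 2 ≤ Nat.card (commutator S) ∧ ∀ B : Subgroup S, IsMulCommutative ↥B → B.index = p → B = A)) := by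
  exact main3807 p hS hna A hA hAi

end Cfsg.Agent.S3807
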