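import Mathlib
import Cfsg.Statements.S3808
import Cfsg.Agent.Lib.Helper7.ExtraIdx

set_option autoImplicit false
open Cfsg
open Cfsg.Agent.Lib.Helper7

namespace Cfsg.Agent.S3808

/-- Let S be a finite p-group with an extraspecial subgroup Q of index p. Then either Z(S) = Z(Q), or S = Q·Z(S) and Z(S) has order p². -/
theorem result {S : Type*} [Group S] [Finite S] (p : ℕ) [Fact p.Prime] (hS : IsPGroup p S) (Q : Subgroup S) (hQ : Cfsg.IsExtraspecial p ↥Q) (hQi : Q.index = p) :
    Subgroup.center S = (Subgroup.center ↥Q).map Q.subtype ∨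
      (Q ⊔ Subgroup.center S = ⊤ ∧ Nat.card (Subgroup.center S) = p ^ 2) := by
  have hp : p.Prime := Fact.out
  have heq := extra_inf_center p hS Q hQ hQi
  have hcardZQ : Nat.card ((Subgroup.center ↥Q).map Q.subtype) = p := by
    rw [Subgroup.card_map_of_injective Q.subtype_injective]
    exact hQ.2
  by_cases hZQ : Subgroup.center S ≤ Q
  · left
    rw [← heq, inf_eq_right.2 hZQ]
  · right
    have htop : Q ⊔ Subgroup.center S = ⊤ := by
      have hdvd : (Q ⊔ Subgroup.center S).index ∣ p := hQi ▸ Subgroup.index_dvd_of_le le_sup_left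
      rcases (Nat.dvd_prime hp).1 hdvd with h1 | hp'
      · exact Subgroup.index_eq_one.1 h1
      · exfalso
        apply hZQ
        have h := Subgroup.relIndex_mul_index (le_sup_left : Q ≤ Q ⊔ Subgroup.center S)
        rw [hp', hQi] at h
        have h1 : Q.relIndex (Q ⊔ Subgroup.center S) = 1 := by
          have : Q.relIndex (Q ⊔ Subgroup.center S) * p = 1 * p := by rw [h, one_mul]
          exact Nat.eq_of_mul_eq_mul_right hp.pos this
        exact le_trans le_sup_right (Subgroup.relIndex_eq_one.1 h1)
    refine ⟨htop, ?_⟩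
    have hnorm : Q ≤ Subgroup.normalizer ((Subgroup.center S : Subgroup S) : Set S) := by
      rw [Subgroup.normalizer_eq_top]; exact le_top
    have h := Cfsg.Agent.Lib.Helper2.card_sup_mul_card_inf Q (Subgroup.center S) hnorm
    rw [htop, heq, hcardZQ, Subgroup.card_top, ← Subgroup.card_mul_index Q, hQi] at h
    have hQpos : 0 < Nat.card ↥Q := Nat.card_pos
    have : Nat.card ↥Q * (p * p) = Nat.card ↥Q * Nat.card (Subgroup.center S) := by
      rw [← h]; ring
    rw [pow_two]
    exact (Nat.eq_of_mul_eq_mul_left hQpos this).symm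

end Cfsg.Agent.S3808
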