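import Mathlib
import Cfsg.Statements.S3809
import Cfsg.Agent.Lib.Helper7.ExtraIdx
import Cfsg.Agent.S0094
import Cfsg.Agent.S0095

set_option autoImplicit false
open Cfsg
open Cfsg.Agent.Lib.Helper7
open scoped commutatorElement

namespace Cfsg.Agent.S3809

/-- Let S be a finite p-group with an extraspecial subgroup of index p. Then S has order p^(2+2n) for some n ≥ 1, derived length at most 3, and exponent dividing p³. -/
theorem result {S : Type*} [Group S] [Finite S] (p : ℕ) [Fact p.Prime] (hS : IsPGroup p S) (Q : Subgroup S) (hQ : Cfsg.IsExtraspecial p ↥Q) (hQi : Q.index = p) :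
    (∃ n : ℕ, 1 ≤ n ∧ Nat.card S = p ^ (2 + 2 * n)) ∧ derivedSeries S 3 = ⊥ ∧ ∀ x : S, x ^ (p ^ 3) = 1 := by
  have hp : p.Prime := Fact.out
  haveI hQn : Q.Normal := normal_of_index_p p hS Q hQi
  -- powers
  have hpowQ : ∀ x : S, x ^ p ∈ Q := by
    intro x
    have h1 : ((x : S) : S ⧸ Q) ^ p = 1 := by
      have hc : Nat.card (S ⧸ Q) = p := by rw [← Subgroup.index_eq_card]; exact hQi
      rw [← hc]
      exact pow_card_eq_one'
    rw [← QuotientGroup.mk_pow] at h1
    exact (QuotientGroup.eq_one_iff _).1 h1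
  have hcommQ : ∀ x y : S, ⁅x, y⁆ ∈ Q := by
    intro x y
    have hc : Nat.card (S ⧸ Q) = p := by rw [← Subgroup.index_eq_card]; exact hQi
    haveI : Fact (Nat.card (S ⧸ Q)).Prime := ⟨hc ▸ hp⟩
    haveI : IsCyclic (S ⧸ Q) := isCyclic_of_prime_card hc
    have h1 : ((⁅x, y⁆ : S) : S ⧸ Q) = 1 := by
      rw [commutatorElement_def]
      simp only [QuotientGroup.mk_mul, QuotientGroup.mk_inv]
      have hxy : ((x : S) : S ⧸ Q) * (y : S ⧸ Q) = (y : S ⧸ Q) * (x : S ⧸ Q) := by
        obtain ⟨g, hg⟩ := IsCyclic.exists_generator (α := S ⧸ Q)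
        obtain ⟨i, hi⟩ := Subgroup.mem_zpowers_iff.1 (hg (x : S ⧸ Q))
        obtain ⟨j, hj⟩ := Subgroup.mem_zpowers_iff.1 (hg (y : S ⧸ Q))
        rw [← hi, ← hj, ← zpow_add, ← zpow_add, add_comm]
      rw [hxy]; group
    exact (QuotientGroup.eq_one_iff _).1 h1
  refine ⟨?_, ?_, ?_⟩
  · obtain ⟨n, hn1, hn⟩ := Cfsg.Agent.S0095.result hQ
    refine ⟨n, hn1, ?_⟩
    rw [← Subgroup.card_mul_index Q, hQi, hn]
    ring
  · -- derived series
    have hD1 : derivedSeries S 1 ≤ Q := by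
      rw [derivedSeries_succ, derivedSeries_zero, Subgroup.commutator_le]
      intro g _ h _
      exact hcommQ g h
    have hZQ : ∀ a ∈ Q, ∀ b ∈ Q, ⁅a, b⁆ ∈ (Subgroup.center ↥Q).map Q.subtype := by
      intro a ha b hb
      refine ⟨⁅(⟨a, ha⟩ : ↥Q), (⟨b, hb⟩ : ↥Q)⁆, ?_, ?_⟩
      · rw [SetLike.mem_coe, ← hQ.1.2.2, commutator_def]
        exact Subgroup.commutator_mem_commutator (Subgroup.mem_top _) (Subgroup.mem_top _)
      · simp [commutatorElement_def]
    have hD2 : derivedSeries S 2 ≤ (Subgroup.center ↥Q).map Q.subtype := by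
      rw [derivedSeries_succ, Subgroup.commutator_le]
      intro g hg h hh
      exact hZQ g (hD1 hg) h (hD1 hh)
    rw [derivedSeries_succ, eq_bot_iff, Subgroup.commutator_le]
    intro g hg h hh
    obtain ⟨a, ha, rfl⟩ := hD2 hg
    obtain ⟨b, hb, rfl⟩ := hD2 hh
    rw [Subgroup.mem_bot, commutatorElement_eq_one_iff_mul_comm]
    have := Subgroup.mem_center_iff.1 ha b
    have h2 := congrArg Subtype.val this
    simpa using h2.symm
  · intro x
    have h1 : (⟨x ^ p, hpowQ x⟩ : ↥Q) ^ p ∈ Subgroup.center ↥Q := by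
      rw [← hQ.1.2.1]
      exact Cfsg.Agent.S0094.pow_mem_frattini hQ.1.1 _
    have h2 := Cfsg.Agent.S0094.result hQ.1 _ h1
    have h3 := congrArg Subtype.val h2
    simp only [Subgroup.coe_pow, Subgroup.coe_one] at h3
    rw [← h3, ← pow_mul, ← pow_mul]
    congr 1
    ring

end Cfsg.Agent.S3809
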