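import Mathlib
import Cfsg.Statements.S3810
import Cfsg.Agent.Lib.Helper7.ExtraIdx
import Cfsg.Agent.Lib.Helper7.ExtraIdx2
import Cfsg.Agent.Lib.Helper2.ProdCard
import Cfsg.Agent.S0095

set_option autoImplicit false
open Cfsg
open Cfsg.Agent.Lib.Helper7
open scoped commutatorElement Pointwise

namespace Cfsg.Agent.S3810

theorem forward {S : Type*} [Group S] [Finite S] (p : ℕ) [Fact p.Prime] (hS : IsPGroup p S)
    (Q : Subgroup S) (hQ : Cfsg.IsExtraspecial p ↥Q) (hQi : Q.index = p)
    (A : Subgroup S) (hA : IsMulCommutative ↥A) (hAi : A.index = p) : Nat.card S = p ^ 4 := by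
  have hp : p.Prime := Fact.out
  haveI hAn : A.Normal := normal_of_index_p p hS A hAi
  obtain ⟨n, hn1, hn⟩ := Cfsg.Agent.S0095.result hQ
  have hZp : Nat.card (Subgroup.center ↥Q) = p := hQ.2
  have hcommA : ∀ a ∈ A, ∀ b ∈ A, a * b = b * a := by
    intro a ha b hb
    exact congrArg Subtype.val (hA.is_comm.comm (⟨a, ha⟩ : ↥A) ⟨b, hb⟩)
  have hQA : ¬ Q ≤ A := by
    intro hle
    have hctop : Subgroup.center ↥Q = ⊤ := by
      rw [eq_top_iff]
      intro g _
      rw [Subgroup.mem_center_iff]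
      intro h
      apply Subtype.ext
      exact hcommA h.1 (hle h.2) g.1 (hle g.2)
    rw [hctop, Subgroup.card_top, hn] at hZp
    have : 2 * n + 1 = 1 := Nat.pow_right_injective hp.two_le (by simpa using hZp)
    omega
  obtain ⟨x, hxQ, hxA⟩ := SetLike.not_le_iff_exists.1 hQA
  have htop : A ⊔ Q = ⊤ := sup_eq_top_of_index_prime p A Q hAi hQA
  have hBi : (A.subgroupOf Q).index = p := by
    have h1 : A.relIndex (A ⊔ Q) = A.relIndex Q := Subgroup.relIndex_sup_left Q A
    rw [htop, Subgroup.relIndex_top_right, hAi] at h1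
    exact h1.symm
  have hc : ∀ a b : ↥Q, ⁅a, b⁆ ∈ Subgroup.center ↥Q := by
    intro a b
    rw [← hQ.1.2.2, commutator_def]
    exact Subgroup.commutator_mem_commutator (Subgroup.mem_top _) (Subgroup.mem_top _)
  have hx'B : (⟨x, hxQ⟩ : ↥Q) ∉ A.subgroupOf Q := by
    rw [Subgroup.mem_subgroupOf]; exact hxA
  have hCi : (Subgroup.centralizer ({(⟨x, hxQ⟩ : ↥Q)} : Set ↥Q)).index ∣ p := by
    have := index_centralizer_dvd (Subgroup.center ↥Q) le_rfl (⟨x, hxQ⟩ : ↥Q) (hc _)
    rwa [hZp] at this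
  have hsup : A.subgroupOf Q ⊔ Subgroup.zpowers (⟨x, hxQ⟩ : ↥Q) = ⊤ := by
    apply sup_eq_top_of_index_prime p _ _ hBi
    intro hle
    exact hx'B (hle (Subgroup.mem_zpowers _))
  have hCB : Subgroup.centralizer ({(⟨x, hxQ⟩ : ↥Q)} : Set ↥Q) ⊓ A.subgroupOf Q ≤
      Subgroup.center ↥Q := by
    intro g hg
    obtain ⟨hgC, hgB⟩ := Subgroup.mem_inf.1 hg
    have h1 : A.subgroupOf Q ≤ Subgroup.centralizer ({g} : Set ↥Q) := by
      intro b hb
      rw [Subgroup.mem_centralizer_singleton_iff]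
      apply Subtype.ext
      exact hcommA b.1 (Subgroup.mem_subgroupOf.1 hb) g.1 (Subgroup.mem_subgroupOf.1 hgB)
    have h2 : Subgroup.zpowers (⟨x, hxQ⟩ : ↥Q) ≤ Subgroup.centralizer ({g} : Set ↥Q) := by
      rw [Subgroup.zpowers_le, Subgroup.mem_centralizer_singleton_iff]
      rw [Subgroup.mem_centralizer_singleton_iff] at hgC
      exact hgC.symm
    have h3 : Subgroup.centralizer ({g} : Set ↥Q) = ⊤ := by
      rw [eq_top_iff, ← hsup]; exact sup_le h1 h2
    rw [Subgroup.mem_center_iff]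
    intro h
    have : h ∈ Subgroup.centralizer ({g} : Set ↥Q) := by rw [h3]; exact Subgroup.mem_top _
    rw [Subgroup.mem_centralizer_singleton_iff] at this
    exact this
  -- cardinalities
  obtain ⟨q, hq⟩ : ∃ q, q = Nat.card ↥Q := ⟨_, rfl⟩
  obtain ⟨b, hb⟩ : ∃ b, b = Nat.card ↥(A.subgroupOf Q) := ⟨_, rfl⟩
  obtain ⟨c, hcc⟩ : ∃ c, c = Nat.card ↥(Subgroup.centralizer ({(⟨x, hxQ⟩ : ↥Q)} : Set ↥Q)) :=
    ⟨_, rfl⟩
  have e1 : b * p = q := by rw [hb, hq, ← hBi]; exact Subgroup.card_mul_index _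
  have e2 : q ≤ c * p := by
    have h := Subgroup.card_mul_index (Subgroup.centralizer ({(⟨x, hxQ⟩ : ↥Q)} : Set ↥Q))
    rw [← hcc, ← hq] at h
    rw [← h]
    exact Nat.mul_le_mul_left c (Nat.le_of_dvd hp.pos hCi)
  have e3 : c * b ≤ q * p := by
    have h := Cfsg.Agent.Lib.Helper2.card_mul_card_eq_card_mul_mul_card_inf
      (Subgroup.centralizer ({(⟨x, hxQ⟩ : ↥Q)} : Set ↥Q)) (A.subgroupOf Q)
    rw [← hcc, ← hb] at h
    rw [h]
    apply Nat.mul_le_mul
    · rw [hq]
      exact Nat.card_le_card_of_injective _ Subtype.val_injective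
    · rw [← hZp]
      exact Subgroup.card_le_of_le hCB
  have hb0 : 0 < b := by rw [hb]; exact Nat.card_pos
  have hbc : b ≤ c := by
    rw [← e1] at e2
    exact Nat.le_of_mul_le_mul_right e2 hp.pos
  have hbpp : b ≤ p * p := by
    have h1 : b * b ≤ b * (p * p) := by
      calc b * b ≤ c * b := Nat.mul_le_mul_right b hbc
        _ ≤ q * p := e3
        _ = b * (p * p) := by rw [← e1]; ring
    exact Nat.le_of_mul_le_mul_left h1 hb0
  have hq3 : q ≤ p ^ 3 := by
    rw [← e1]
    calc b * p ≤ p * p * p := Nat.mul_le_mul_right p hbpp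
      _ = p ^ 3 := by ring
  have hn' : n = 1 := by
    rw [hq, hn] at hq3
    have := (Nat.pow_le_pow_iff_right hp.one_lt).1 hq3
    omega
  rw [← Subgroup.card_mul_index Q, hQi, hn, hn']
  ring

theorem backward {S : Type*} [Group S] [Finite S] (p : ℕ) [Fact p.Prime] (hS : IsPGroup p S)
    (Q : Subgroup S) (hQ : Cfsg.IsExtraspecial p ↥Q) (hQi : Q.index = p)
    (hcard : Nat.card S = p ^ 4) : ∃ A : Subgroup S, IsMulCommutative ↥A ∧ A.index = p := by
  have hp : p.Prime := Fact.out
  haveI hQn : Q.Normal := normal_of_index_p p hS Q hQi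
  have heq := extra_inf_center p hS Q hQ hQi
  have hQcard : Nat.card ↥Q = p ^ 3 := by
    have h := Subgroup.card_mul_index Q
    rw [hQi, hcard] at h
    have : Nat.card ↥Q * p = p ^ 3 * p := by rw [h]; ring
    exact Nat.eq_of_mul_eq_mul_right hp.pos this
  obtain ⟨N, hNdef⟩ : ∃ N : Subgroup S, N = Q ⊓ Subgroup.center S := ⟨_, rfl⟩
  haveI hNn : N.Normal := by rw [hNdef]; infer_instance
  have hNcard : Nat.card ↥N = p := by
    rw [hNdef, heq, Subgroup.card_map_of_injective Q.subtype_injective]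
    exact hQ.2
  have hNZ : N ≤ Subgroup.center S := by rw [hNdef]; exact inf_le_right
  have hNQ : N ≤ Q := by rw [hNdef]; exact inf_le_left
  haveI : Group.IsNilpotent (S ⧸ N) := (hS.to_quotient N).isNilpotent
  haveI hQbar : (Q.map (QuotientGroup.mk' N)).Normal :=
    Subgroup.Normal.map hQn _ (QuotientGroup.mk'_surjective N)
  have hQbar1 : Q.map (QuotientGroup.mk' N) ≠ ⊥ := by
    intro h
    rw [Subgroup.map_eq_bot_iff, QuotientGroup.ker_mk'] at h
    have := Subgroup.card_le_of_le h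
    rw [hQcard, hNcard] at this
    have h2 : p ^ 1 < p ^ 3 := Nat.pow_lt_pow_right hp.one_lt (by norm_num)
    rw [pow_one] at h2
    omega
  obtain ⟨xbar, hxQ, hxZ, hx1⟩ :=
    Cfsg.Agent.Lib.Helper1.exists_mem_center_of_isNilpotent (Q.map (QuotientGroup.mk' N)) hQbar1
  obtain ⟨b, hbQ, hbx⟩ := hxQ
  have hbN : b ∉ N := by
    intro h
    apply hx1
    rw [← hbx]
    exact (QuotientGroup.eq_one_iff b).2 h
  have hbs : ∀ s : S, ⁅b, s⁆ ∈ N := by
    intro s
    have h1 : ((⁅b, s⁆ : S) : S ⧸ N) = 1 := by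
      rw [commutatorElement_def]
      simp only [QuotientGroup.mk_mul, QuotientGroup.mk_inv]
      have h2 : ((b : S) : S ⧸ N) = xbar := hbx
      rw [h2]
      have h3 := Subgroup.mem_center_iff.1 hxZ (s : S ⧸ N)
      rw [← h3]; group
    exact (QuotientGroup.eq_one_iff _).1 h1
  have hAi' := index_centralizer_dvd N hNZ b hbs
  rw [hNcard] at hAi'
  have hAi : (Subgroup.centralizer ({b} : Set S)).index = p := by
    rcases (Nat.dvd_prime hp).1 hAi' with h1 | h1
    · exfalso
      apply hbN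
      rw [hNdef]
      refine Subgroup.mem_inf.2 ⟨hbQ, ?_⟩
      rw [Subgroup.index_eq_one] at h1
      rw [Subgroup.mem_center_iff]
      intro g
      have : g ∈ Subgroup.centralizer ({b} : Set S) := by rw [h1]; exact Subgroup.mem_top _
      rw [Subgroup.mem_centralizer_singleton_iff] at this
      exact this
    · exact h1
  refine ⟨Subgroup.centralizer ({b} : Set S), ?_, hAi⟩
  have hAcard : Nat.card ↥(Subgroup.centralizer ({b} : Set S)) = p ^ 3 := by
    have h := Subgroup.card_mul_index (Subgroup.centralizer ({b} : Set S))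
    rw [hAi, hcard] at h
    have : Nat.card ↥(Subgroup.centralizer ({b} : Set S)) * p = p ^ 3 * p := by rw [h]; ring
    exact Nat.eq_of_mul_eq_mul_right hp.pos this
  have hbA : b ∈ Subgroup.centralizer ({b} : Set S) := by
    rw [Subgroup.mem_centralizer_singleton_iff]
  have hNA : N ≤ Subgroup.centralizer ({b} : Set S) := by
    intro z hz
    rw [Subgroup.mem_centralizer_singleton_iff]
    exact (Subgroup.mem_center_iff.1 (hNZ hz) b).symm
  -- center of A is big
  have hle : N.subgroupOf (Subgroup.centralizer ({b} : Set S)) ≤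
      Subgroup.center ↥(Subgroup.centralizer ({b} : Set S)) := by
    intro z hz
    rw [Subgroup.mem_center_iff]
    intro g
    apply Subtype.ext
    exact Subgroup.mem_center_iff.1 (hNZ (Subgroup.mem_subgroupOf.1 hz)) g.1
  have hbZ : (⟨b, hbA⟩ : ↥(Subgroup.centralizer ({b} : Set S))) ∈
      Subgroup.center ↥(Subgroup.centralizer ({b} : Set S)) := by
    rw [Subgroup.mem_center_iff]
    intro g
    apply Subtype.ext
    have := g.2
    rw [Subgroup.mem_centralizer_singleton_iff] at this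
    exact this
  have hcardN' : Nat.card ↥(N.subgroupOf (Subgroup.centralizer ({b} : Set S))) = p := by
    rw [Nat.card_congr (Subgroup.subgroupOfEquivOfLe hNA).toEquiv]
    exact hNcard
  have hbig : p < Nat.card (Subgroup.center ↥(Subgroup.centralizer ({b} : Set S))) := by
    have h1 := Subgroup.card_le_of_le hle
    rw [hcardN'] at h1
    rcases Nat.lt_or_ge p (Nat.card (Subgroup.center ↥(Subgroup.centralizer ({b} : Set S))))
      with h | h
    · exact h
    · exfalso
      have h2 := Subgroup.eq_of_le_of_card_ge hle (by rw [hcardN']; exact h)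
      apply hbN
      have : (⟨b, hbA⟩ : ↥(Subgroup.centralizer ({b} : Set S))) ∈
          N.subgroupOf (Subgroup.centralizer ({b} : Set S)) := by rw [h2]; exact hbZ
      exact Subgroup.mem_subgroupOf.1 this
  exact ⟨⟨fun a b' => comm_of_center_big p hAcard hbig a b'⟩⟩

/-- Let S be a finite p-group with an extraspecial subgroup of index p. Then S has an abelian subgroup of index p if and only if S has order p⁴. -/
theorem result {S : Type*} [Group S] [Finite S] (p : ℕ) [Fact p.Prime] (hS : IsPGroup p S) (Q : Subgroup S) (hQ : Cfsg.IsExtraspecial p ↥Q) (hQi : Q.index = p) :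
    (∃ A : Subgroup S, IsMulCommutative ↥A ∧ A.index = p) ↔ Nat.card S = p ^ 4 := by
  constructor
  · rintro ⟨A, hA, hAi⟩
    exact forward p hS Q hQ hQi A hA hAi
  · intro h
    exact backward p hS Q hQ hQi h

end Cfsg.Agent.S3810
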