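import Cfsg.Statements.S3815
import Mathlib

set_option autoImplicit false
open Cfsg

namespace Cfsg.Agent.S3815

/-- the set of elements `d` with `d * T ⊆ T`, `T` the set of `p'`-elements, as a subgroup -/
def stab (G : Type*) [Group G] [Finite G] (p : ℕ) : Subgroup G where
  carrier := {d | ∀ g : G, (orderOf g).Coprime p → (orderOf (d * g)).Coprime p}
  mul_mem' := by
    intro a b ha hb g hg
    rw [mul_assoc]
    exact ha _ (hb g hg)
  one_mem' := by
    intro g hg
    rwa [one_mul]
  inv_mem' := by
    intro a ha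
    have hpow : ∀ n : ℕ, ∀ g : G, (orderOf g).Coprime p → (orderOf (a ^ n * g)).Coprime p := by
      intro n
      induction n with
      | zero => intro g hg; rwa [pow_zero, one_mul]
      | succ n ih =>
        intro g hg
        rw [pow_succ, mul_assoc]
        exact ih _ (ha g hg)
    have hinv : a⁻¹ = a ^ (orderOf a - 1) := by
      have hpos := orderOf_pos a
      rw [eq_comm, ← mul_eq_one_iff_eq_inv, ← pow_succ, Nat.sub_add_cancel hpos, pow_orderOf_eq_one]
    intro g hg
    rw [hinv]
    exact hpow _ g hg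

theorem result {G : Type*} [Group G] [Finite G] {p : ℕ} [Fact p.Prime]
    (d : G) (hd : (orderOf d).Coprime p)
    (h : ∀ g : G, (orderOf g).Coprime p → (orderOf (d * g)).Coprime p) :
    d ∈ Cfsg.pPrimeCore p G := by
  have hp : p.Prime := Fact.out
  have hdmem : d ∈ stab G p := h
  have hnormal : (stab G p).Normal := by
    constructor
    intro a ha g x hx
    have h1 : orderOf (g⁻¹ * x * g) = orderOf x := by
      have := (MulAut.conj g⁻¹).orderOf_eq x
      simpa using this
    have h2 := ha (g⁻¹ * x * g) (by rw [h1]; exact hx)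
    have h3 : orderOf (g * (a * (g⁻¹ * x * g)) * g⁻¹) = orderOf (a * (g⁻¹ * x * g)) :=
      (MulAut.conj g).orderOf_eq _
    have h4 : g * a * g⁻¹ * x = g * (a * (g⁻¹ * x * g)) * g⁻¹ := by group
    rw [h4, h3]
    exact h2
  have hcop : (Nat.card (stab G p)).Coprime p := by
    rw [Nat.coprime_comm, hp.coprime_iff_not_dvd]
    intro hdvd
    obtain ⟨x, hx⟩ := exists_prime_orderOf_dvd_card' (G := stab G p) p hdvd
    have h1 := x.2 1 (by simp)
    rw [mul_one, Subgroup.orderOf_coe, hx] at h1
    exact hp.one_lt.ne' ((Nat.coprime_self p).1 h1)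
  have hle : stab G p ≤ Cfsg.pPrimeCore p G := by
    unfold Cfsg.pPrimeCore
    apply le_sSup
    exact ⟨hnormal, hcop⟩
  exact hle hdmem

end Cfsg.Agent.S3815
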