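import Cfsg.Statements.S3820
import Cfsg.Agent.Lib.Helper7.Conj

set_option autoImplicit false
open Cfsg

namespace Cfsg.Agent.S3820

open Cfsg.Agent.Lib.Helper7

theorem result {G : Type*} [Group G] [Finite G] (S H : Subgroup G) (hSH : S ≤ H)
    (hS : Cfsg.IsPronormal S) :
    Cfsg.IsPronormal H ↔
      ∀ g ∈ Subgroup.normalizer (S : Set G), ∃ w ∈ H ⊔ H.map (MulAut.conj g).toMonoidHom,
        H.map (MulAut.conj g).toMonoidHom = H.map (MulAut.conj w).toMonoidHom := by
  constructor
  · intro h g _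
    exact h g
  · intro h g
    obtain ⟨x, hx, hSx⟩ := hS g
    set J := H ⊔ H.map (MulAut.conj g).toMonoidHom with hJ
    have hxJ : x ∈ J := by
      have : S ⊔ S.map (MulAut.conj g).toMonoidHom ≤ J :=
        sup_le_sup hSH (Subgroup.map_mono hSH)
      exact this hx
    set n := x⁻¹ * g with hn
    have hnS : n ∈ Subgroup.normalizer (S : Set G) := by
      rw [← map_conj_eq_self_iff, hn, map_conj_mul, hSx, ← map_conj_mul, inv_mul_cancel, map_conj_one]
    obtain ⟨w, hw, hHw⟩ := h n hnS
    have hg : g = x * n := by rw [hn]; group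
    refine ⟨x * w, ?_, ?_⟩
    · apply Subgroup.mul_mem _ hxJ
      have hle : H ⊔ H.map (MulAut.conj n).toMonoidHom ≤ J := by
        apply sup_le le_sup_left
        intro y hy
        rw [hn, map_conj_mul] at hy
        rw [mem_map_conj, inv_inv] at hy
        -- x * y * x⁻¹ ∈ H^g ≤ J, so y ∈ J
        have h1 : x * y * x⁻¹ ∈ J := (le_sup_right : H.map (MulAut.conj g).toMonoidHom ≤ J) hy
        have h2 : y = x⁻¹ * (x * y * x⁻¹) * x := by group
        rw [h2]
        exact Subgroup.mul_mem _ (Subgroup.mul_mem _ (Subgroup.inv_mem _ hxJ) h1) hxJ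
      exact hle hw
    · conv_lhs => rw [hg]
      rw [map_conj_mul, hHw, ← map_conj_mul]

end Cfsg.Agent.S3820
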