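import Cfsg.Statements.S3821
import Cfsg.Agent.Lib.Helper7.Conj

set_option autoImplicit false
open Cfsg

namespace Cfsg.Agent.S3821

open Cfsg.Agent.Lib.Helper7

theorem map_subtype_conj {G : Type*} [Group G] (A : Subgroup G) (K : Subgroup A) (a : A) :
    (K.map (MulAut.conj a).toMonoidHom).map A.subtype
      = (K.map A.subtype).map (MulAut.conj (a : G)).toMonoidHom := by
  ext y
  constructor
  · rintro ⟨z, hz, rfl⟩
    rw [SetLike.mem_coe, mem_map_conj] at hz
    rw [mem_map_conj]
    exact ⟨a⁻¹ * z * a, hz, by simp⟩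
  · intro hy
    rw [mem_map_conj] at hy
    obtain ⟨z, hz, hzy⟩ := hy
    refine ⟨a * z * a⁻¹, ?_, ?_⟩
    · rw [SetLike.mem_coe, mem_map_conj]
      simpa [mul_assoc] using hz
    · simp only [Subgroup.coe_subtype, Subgroup.coe_mul, Subgroup.coe_inv]
      have : (z : G) = (a : G)⁻¹ * y * a := hzy
      rw [this]; group

theorem mem_iff_mem_map_subtype {G : Type*} [Group G] (A : Subgroup G) (L : Subgroup A) (x : A) :
    x ∈ L ↔ (x : G) ∈ L.map A.subtype := by
  constructor
  · intro h; exact ⟨x, h, rfl⟩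
  · rintro ⟨y, hy, hyx⟩
    have : y = x := Subtype.ext hyx
    rwa [← this]

theorem result {G : Type*} [Group G] [Finite G] (A H : Subgroup G) [hA : A.Normal] (hHA : H ≤ A) :
    Cfsg.IsPronormal H ↔ (Cfsg.IsPronormal (H.subgroupOf A) ∧ A ⊔ Subgroup.normalizer (H : Set G) = ⊤) := by
  have hmapH : (H.subgroupOf A).map A.subtype = H := Subgroup.map_subgroupOf_eq_of_le hHA
  have hconjA : ∀ g : G, H.map (MulAut.conj g).toMonoidHom ≤ A := by
    intro g y hy
    rw [mem_map_conj] at hy
    have := hA.conj_mem _ (hHA hy) g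
    simpa [mul_assoc] using this
  constructor
  · intro hH
    constructor
    · intro a
      obtain ⟨x, hx, hxe⟩ := hH (a : G)
      have hxA : x ∈ A := (sup_le hHA (hconjA a)) hx
      refine ⟨⟨x, hxA⟩, ?_, ?_⟩
      · rw [mem_iff_mem_map_subtype, Subgroup.map_sup, map_subtype_conj, hmapH]
        exact hx
      · apply Subgroup.map_injective A.subtype_injective
        rw [map_subtype_conj, map_subtype_conj, hmapH]
        exact hxe
    · rw [eq_top_iff]
      intro g _
      obtain ⟨x, hx, hxe⟩ := hH g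
      have hxA : x ∈ A := (sup_le hHA (hconjA g)) hx
      have hn : x⁻¹ * g ∈ Subgroup.normalizer (H : Set G) := by
        rw [← map_conj_eq_self_iff, map_conj_mul, hxe, ← map_conj_mul, inv_mul_cancel, map_conj_one]
      have : g = x * (x⁻¹ * g) := by group
      rw [this]
      exact Subgroup.mul_mem _ (Subgroup.mem_sup_left hxA) (Subgroup.mem_sup_right hn)
  · rintro ⟨hP, htop⟩ g
    have hg : g ∈ A ⊔ Subgroup.normalizer (H : Set G) := by rw [htop]; exact Subgroup.mem_top g
    rw [Subgroup.mem_sup_of_normal_left] at hg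
    obtain ⟨a, ha, n, hn, rfl⟩ := hg
    have hcn : H.map (MulAut.conj n).toMonoidHom = H := (map_conj_eq_self_iff H n).2 hn
    have hca : H.map (MulAut.conj (a * n)).toMonoidHom = H.map (MulAut.conj a).toMonoidHom := by
      rw [map_conj_mul, hcn]
    obtain ⟨x, hx, hxe⟩ := hP ⟨a, ha⟩
    refine ⟨(x : G), ?_, ?_⟩
    · rw [hca]
      rw [mem_iff_mem_map_subtype, Subgroup.map_sup, map_subtype_conj, hmapH] at hx
      exact hx
    · rw [hca]
      have := congrArg (Subgroup.map A.subtype) hxe
      rw [map_subtype_conj, map_subtype_conj, hmapH] at this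
      exact this

end Cfsg.Agent.S3821
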