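import Mathlib
import Cfsg.Statements.S3825

set_option autoImplicit false
open Cfsg
open scoped commutatorElement

namespace Cfsg.Agent.S3825

/-- Let U be a subgroup of a finite group H and w an involution of H normalizing U and commuting with exactly two elements of U, the identity and y. If V is a non-cyclic elementary abelian 2-subgroup of U containing y which is normal in U and invariant under w, then V is a Sylow 2-subgroup of U, V has order 4, and U/V is abelian. -/
theorem result {H : Type*} [Group H] [Finite H] (U : Subgroup H) (w : H) (hw : orderOf w = 2)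
    (hwU : w ∈ Subgroup.normalizer (U : Set H)) (y : H) (hy : y ≠ 1) (hyU : y ∈ U)
    (hfix : ∀ u ∈ U, w * u * w⁻¹ = u ↔ (u = 1 ∨ u = y))
    (V : Subgroup H) (hVU : V ≤ U) (hVn : (V.subgroupOf U).Normal) (hVw : ∀ v ∈ V, w * v * w⁻¹ ∈ V)
    (hVe : Cfsg.IsElementaryAbelian 2 V) (hVc : ¬ IsCyclic ↥V) (hyV : y ∈ V) :
    ¬ 2 ∣ V.relIndex U ∧ Nat.card ↥V = 4 ∧ ⁅U, U⁆ ≤ V := by
  classical
  obtain ⟨hVcomm, hVexp⟩ := hVe
  have hw2 : w * w = 1 := by rw [← pow_two, ← hw]; exact pow_orderOf_eq_one w
  have hwinv : w⁻¹ = w := inv_eq_of_mul_eq_one_right hw2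
  have hww : ∀ u : H, w * (w * u * w⁻¹) * w⁻¹ = u := by
    intro u
    rw [hwinv]
    calc w * (w * u * w) * w = (w * w) * u * (w * w) := by group
      _ = u := by rw [hw2, one_mul, mul_one]
  have hcommV : ∀ a ∈ V, ∀ b ∈ V, a * b = b * a := by
    intro a ha b hb
    have := hVcomm.is_comm.comm (⟨a, ha⟩ : ↥V) ⟨b, hb⟩
    exact congrArg Subtype.val this
  have hsq : ∀ v ∈ V, v * v = 1 := by
    intro v hv; rw [← pow_two]; exact hVexp v hv
  have hinvV : ∀ v ∈ V, v⁻¹ = v := fun v hv => inv_eq_of_mul_eq_one_right (hsq v hv)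
  -- every element of V is in {1, y} or is moved to v * y
  have hmove : ∀ v ∈ V, (v = 1 ∨ v = y) ∨ w * v * w⁻¹ = v * y := by
    intro v hv
    have hwv : w * v * w⁻¹ ∈ V := hVw v hv
    have hs : v * (w * v * w⁻¹) ∈ V := V.mul_mem hv hwv
    have hsfix : w * (v * (w * v * w⁻¹)) * w⁻¹ = v * (w * v * w⁻¹) := by
      have : w * (v * (w * v * w⁻¹)) * w⁻¹ = (w * v * w⁻¹) * (w * (w * v * w⁻¹) * w⁻¹) := by group
      rw [this, hww v]
      exact hcommV _ hwv _ hv
    rcases (hfix _ (hVU hs)).1 hsfix with h1 | h1
    · left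
      have : w * v * w⁻¹ = v := by
        have h2 : w * v * w⁻¹ = v⁻¹ := by
          rw [← mul_eq_one_iff_eq_inv']
          exact h1
        rw [h2, hinvV v hv]
      exact (hfix v (hVU hv)).1 this
    · right
      have : w * v * w⁻¹ = v⁻¹ * y := by rw [← h1]; group
      rw [this, hinvV v hv]
  -- there is t in V outside {1, y}
  have hext : ∃ t ∈ V, t ≠ 1 ∧ t ≠ y := by
    by_contra hcon
    push Not at hcon
    apply hVc
    refine ⟨⟨⟨y, hyV⟩, ?_⟩⟩
    intro v
    by_cases hv1 : (v : H) = 1
    · refine ⟨0, ?_⟩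
      apply Subtype.ext
      simp [hv1]
    · refine ⟨1, ?_⟩
      apply Subtype.ext
      simp [hcon v.1 v.2 hv1]
  obtain ⟨t, htV, ht1, hty⟩ := hext
  have hwt : w * t * w⁻¹ = t * y := by
    rcases hmove t htV with h | h
    · rcases h with h | h
      · exact absurd h ht1
      · exact absurd h hty
    · exact h
  have hwy : w * y * w⁻¹ = y := (hfix y hyU).2 (Or.inr rfl)
  -- key: elements moved to v*y are t or t*y
  have hkey : ∀ u ∈ U, w * u * w⁻¹ = u * y → u * t = 1 ∨ u * t = y := by
    intro u hu h
    have hut : w * (u * t) * w⁻¹ = u * t := by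
      have : w * (u * t) * w⁻¹ = (w * u * w⁻¹) * (w * t * w⁻¹) := by group
      rw [this, h, hwt]
      have : u * y * (t * y) = u * (y * t) * y := by group
      rw [this, hcommV y hyV t htV]
      have : u * (t * y) * y = u * t * (y * y) := by group
      rw [this, hsq y hyV, mul_one]
    exact (hfix _ (U.mul_mem hu (hVU htV))).1 hut
  -- V = {1, y, t, t*y}
  have hVset : (V : Set H) = {1, y, t, t * y} := by
    ext v
    simp only [SetLike.mem_coe, Set.mem_insert_iff, Set.mem_singleton_iff]
    constructor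
    · intro hv
      rcases hmove v hv with h | h
      · rcases h with h | h
        · left; exact h
        · right; left; exact h
      · rcases hkey v (hVU hv) h with h1 | h1
        · right; right; left
          have : v = t⁻¹ := eq_inv_of_mul_eq_one_left h1
          rw [this, hinvV t htV]
        · right; right; right
          have : v = y * t⁻¹ := eq_mul_inv_of_mul_eq h1
          rw [this, hinvV t htV]
          exact hcommV y hyV t htV
    · rintro (h | h | h | h)
      · rw [h]; exact V.one_mem
      · rw [h]; exact hyV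
      · rw [h]; exact htV
      · rw [h]; exact V.mul_mem htV hyV
  have hcardV : Nat.card ↥V = 4 := by
    have h0 : Nat.card ↥V = (V : Set H).ncard := (Nat.card_coe_set_eq (V : Set H))
    rw [h0, hVset]
    have hty1 : t * y ≠ 1 := by
      intro h
      apply hty
      have : t = y⁻¹ := eq_inv_of_mul_eq_one_left h
      rw [this, hinvV y hyV]
    rw [Set.ncard_insert_of_notMem, Set.ncard_insert_of_notMem, Set.ncard_insert_of_notMem,
      Set.ncard_singleton]
    · simp only [Set.mem_singleton_iff]
      intro h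
      apply hy
      have : t * 1 = t * y := by rw [mul_one]; exact h
      exact (mul_left_cancel this).symm
    · simp only [Set.mem_insert_iff, Set.mem_singleton_iff]
      rintro (h | h)
      · exact hty h.symm
      · apply ht1
        have : 1 * y = t * y := by rw [one_mul]; exact h
        exact (mul_right_cancel this).symm
    · simp only [Set.mem_insert_iff, Set.mem_singleton_iff]
      rintro (h | h | h)
      · exact hy h.symm
      · exact ht1 h.symm
      · exact hty1 h.symm
  -- Step B
  have hB : ∀ u ∈ U, u⁻¹ * (w * u * w⁻¹) ∈ V → u ∈ V := by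
    intro u hu hv
    obtain ⟨v, hvdef⟩ : ∃ v, v = u⁻¹ * (w * u * w⁻¹) := ⟨_, rfl⟩
    rw [← hvdef] at hv
    have hwu : w * u * w⁻¹ = u * v := by rw [hvdef]; group
    have h2 : w * v * w⁻¹ = v := by
      have h3 := hww u
      rw [hwu] at h3
      have h4 : w * (u * v) * w⁻¹ = (w * u * w⁻¹) * (w * v * w⁻¹) := by group
      rw [h4, hwu] at h3
      have h5 : w * v * w⁻¹ = v⁻¹ := by
        have : u * v * (w * v * w⁻¹) = u * v * v⁻¹ := by rw [h3]; group
        exact mul_left_cancel this
      rw [h5, hinvV v hv]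
    rcases (hfix v (hVU hv)).1 h2 with h | h
    · rw [h, mul_one] at hwu
      rcases (hfix u hu).1 hwu with h' | h'
      · rw [h']; exact V.one_mem
      · rw [h']; exact hyV
    · rw [h] at hwu
      rcases hkey u hu hwu with h1 | h1
      · have : u = t⁻¹ := eq_inv_of_mul_eq_one_left h1
        rw [this]; exact V.inv_mem htV
      · have : u = y * t⁻¹ := eq_mul_inv_of_mul_eq h1
        rw [this]; exact V.mul_mem hyV (V.inv_mem htV)
  -- Step C: quotient
  let c : ↥U →* ↥U := MonoidHom.mk' (fun u => ⟨w * u.1 * w⁻¹, (Subgroup.mem_normalizer_iff.1 hwU u.1).1 u.2⟩)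
    (by intro a b; apply Subtype.ext; simp)
  have hcle : V.subgroupOf U ≤ (V.subgroupOf U).comap c := by
    intro u hu
    rw [Subgroup.mem_comap, Subgroup.mem_subgroupOf]
    exact hVw u.1 (Subgroup.mem_subgroupOf.1 hu)
  let φ : (↥U ⧸ V.subgroupOf U) →* (↥U ⧸ V.subgroupOf U) :=
    QuotientGroup.map (V.subgroupOf U) (V.subgroupOf U) c hcle
  have hφmk : ∀ u : ↥U, φ (QuotientGroup.mk u) = QuotientGroup.mk (c u) := fun u => rfl
  have hfpf : MonoidHom.FixedPointFree φ := by
    intro k hk
    induction k using QuotientGroup.induction_on with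
    | H u =>
      rw [hφmk, eq_comm, QuotientGroup.eq, Subgroup.mem_subgroupOf] at hk
      have : u.1 ∈ V := hB u.1 u.2 (by simpa [c] using hk)
      exact (QuotientGroup.eq_one_iff u).2 (Subgroup.mem_subgroupOf.2 this)
  have hinv : Function.Involutive φ := by
    intro k
    induction k using QuotientGroup.induction_on with
    | H u =>
      rw [hφmk, hφmk]
      congr 1
      apply Subtype.ext
      exact hww u.1
  have hcomm := hfpf.commute_all_of_involutive hinv
  have hodd := hfpf.odd_card_of_involutive hinv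
  refine ⟨?_, hcardV, ?_⟩
  · rw [Subgroup.relIndex, Subgroup.index_eq_card]
    intro h2
    exact (Nat.not_even_iff_odd.2 hodd) (even_iff_two_dvd.2 h2)
  · rw [Subgroup.commutator_le]
    intro a ha b hb
    have h1 := hcomm (QuotientGroup.mk (⟨a, ha⟩ : ↥U)) (QuotientGroup.mk (⟨b, hb⟩ : ↥U))
    have h2 : ((⁅(⟨a, ha⟩ : ↥U), ⟨b, hb⟩⁆ : ↥U) : ↥U ⧸ V.subgroupOf U) = 1 := by
      rw [commutatorElement_def]
      simp only [QuotientGroup.mk_mul, QuotientGroup.mk_inv]
      rw [h1.eq]; group
    have h3 := (QuotientGroup.eq_one_iff _).1 h2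
    rw [Subgroup.mem_subgroupOf] at h3
    simpa [commutatorElement_def] using h3

end Cfsg.Agent.S3825
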