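import Cfsg.Statements.S3836
import Cfsg.Agent.Lib.Helper7.PCore

set_option autoImplicit false
open Cfsg

namespace Cfsg.Agent.S3836

open Cfsg.Agent.Lib.Helper7

theorem comap_pCore_le {A B : Type*} [Group A] [Group B] [Finite B] {p : ℕ} [Fact p.Prime]
    (φ : A →* B) (hφ : Function.Injective φ) : (pCore p B).comap φ ≤ pCore p A := by
  apply le_pCore
  · haveI := pCore_normal (G := B) p
    exact Subgroup.Normal.comap inferInstance φ
  · exact (pCore_isPGroup (G := B) (p := p)).comap_of_injective φ hφ

/-- Let G be a finite group that is p-stable in the normalizer form: for every p-subgroup Q and every x ∈ N_G(Q) with [Q, x, x] = 1, the image of x in N_G(Q)/C_G(Q) lies in O_p(N_G(Q)/C_G(Q)). Then every subgroup of G is p-stable in the same sense. -/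
theorem result {G : Type*} [Group G] [Finite G] {p : ℕ} [Fact p.Prime] (hst : Cfsg.IsNormalizerPStable p G) (H : Subgroup G) : Cfsg.IsNormalizerPStable p ↥H := by
  intro Q hQ x hx hquad
  have hQ' : IsPGroup p (Q.map H.subtype) := hQ.map _
  have hx' : (x : G) ∈ Subgroup.normalizer ((Q.map H.subtype : Subgroup G) : Set G) :=
    Subgroup.le_normalizer_map H.subtype ⟨x, hx, rfl⟩
  have hquad' : ⁅⁅Q.map H.subtype, Subgroup.zpowers (x : G)⁆, Subgroup.zpowers (x : G)⁆ = ⊥ := by
    have := congrArg (Subgroup.map H.subtype) hquad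
    rw [Subgroup.map_commutator, Subgroup.map_commutator, Subgroup.map_bot,
      MonoidHom.map_zpowers] at this
    exact this
  have key := hst (Q.map H.subtype) hQ' x hx' hquad'
  let f : ↥(Subgroup.normalizer (Q : Set H)) →*
      ↥(Subgroup.normalizer ((Q.map H.subtype : Subgroup G) : Set G)) :=
    (H.subtype.comp (Subgroup.normalizer (Q : Set H)).subtype).codRestrict _
      (fun z => Subgroup.le_normalizer_map H.subtype ⟨z, z.2, rfl⟩)
  have hle : (Subgroup.centralizer (Q : Set H)).subgroupOf (Subgroup.normalizer (Q : Set H))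
      ≤ ((Subgroup.centralizer ((Q.map H.subtype : Subgroup G) : Set G)).subgroupOf
          (Subgroup.normalizer ((Q.map H.subtype : Subgroup G) : Set G))).comap f := by
    intro z hz
    rw [Subgroup.mem_subgroupOf, Subgroup.mem_centralizer_iff] at hz
    rw [Subgroup.mem_comap, Subgroup.mem_subgroupOf, Subgroup.mem_centralizer_iff]
    rintro _ ⟨w, hw, rfl⟩
    have := hz w hw
    exact congrArg Subtype.val this
  let φ := QuotientGroup.map _ _ f hle
  have hφ : Function.Injective φ := by
    rw [← MonoidHom.ker_eq_bot_iff, QuotientGroup.ker_map, eq_bot_iff]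
    rintro _ ⟨z, hz, rfl⟩
    rw [Subgroup.mem_bot]
    show (QuotientGroup.mk z : _ ⧸ _) = 1
    rw [QuotientGroup.eq_one_iff, Subgroup.mem_subgroupOf, Subgroup.mem_centralizer_iff]
    rw [SetLike.mem_coe, Subgroup.mem_comap, Subgroup.mem_subgroupOf,
      Subgroup.mem_centralizer_iff] at hz
    intro w hw
    have := hz (w : G) ⟨w, hw, rfl⟩
    apply Subtype.ext
    exact this
  exact comap_pCore_le φ hφ key

end Cfsg.Agent.S3836
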