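import Mathlib
import Cfsg.Statements.S3838
import Cfsg.Agent.Lib.Helper4.CoprimeAct
import Cfsg.Agent.Lib.Helper4.NormalPComplement
import Cfsg.Agent.Lib.Helper1.NPC
import Cfsg.Agent.Lib.Helper7.Conj

set_option autoImplicit false

open Cfsg

namespace Cfsg.Agent.S3838

open Cfsg.Agent.Lib.Helper4 Cfsg.Agent.Lib.Helper7
open scoped commutatorElement

/-- Generic form: `Q ⊴ M` a `p`-subgroup inside the Sylow subgroup `P`, with `P/Q` abelian,
`Q` consisting of non-generators of `P`, and `N_M(P) = P C_M(P)`. Then `M` has a normal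
`p`-complement. -/
theorem key {M : Type*} [Group M] [Finite M] {p : ℕ} [hp : Fact p.Prime] (P : Sylow p M)
    (Q : Subgroup M) [hQn : Q.Normal] (hQP : Q ≤ (P : Subgroup M))
    (hab : ∀ x ∈ (P : Subgroup M), ∀ y ∈ (P : Subgroup M), x * y * x⁻¹ * y⁻¹ ∈ Q)
    (hfr : ∀ R : Subgroup M, R ≤ (P : Subgroup M) → (P : Subgroup M) ≤ Q ⊔ R →
      (P : Subgroup M) ≤ R)
    (hN : ∀ x ∈ Subgroup.normalizer ((P : Subgroup M) : Set M), ∃ u ∈ (P : Subgroup M),
      ∃ k ∈ Subgroup.centralizer ((P : Subgroup M) : Set M), x = u * k) :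
    HasNormalPComplement p M := by
  classical
  set π := QuotientGroup.mk' Q with hπ
  have hπs : Function.Surjective π := QuotientGroup.mk'_surjective Q
  set Pb : Sylow p (M ⧸ Q) := P.mapSurjective hπs with hPb
  have hPbc : (Pb : Subgroup (M ⧸ Q)) = (P : Subgroup M).map π := Sylow.coe_mapSurjective hπs P
  have hmemP : ∀ y : M, π y ∈ (Pb : Subgroup (M ⧸ Q)) ↔ y ∈ (P : Subgroup M) := by
    intro y
    rw [hPbc]
    constructor
    · rintro ⟨z, hz, hzy⟩
      have h1 : z⁻¹ * y ∈ Q := QuotientGroup.eq.1 hzy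
      have h2 : z⁻¹ * y ∈ (P : Subgroup M) := hQP h1
      have := (P : Subgroup M).mul_mem hz h2
      simpa using this
    · intro hy; exact ⟨y, hy, rfl⟩
  -- N(Pb) ≤ C(Pb)
  have hNC : Subgroup.normalizer ((Pb : Subgroup (M ⧸ Q)) : Set (M ⧸ Q))
      ≤ Subgroup.centralizer ((Pb : Subgroup (M ⧸ Q)) : Set (M ⧸ Q)) := by
    intro xb hxb
    obtain ⟨x, rfl⟩ := hπs xb
    have hx : x ∈ Subgroup.normalizer ((P : Subgroup M) : Set M) := by
      rw [Subgroup.mem_normalizer_iff] at hxb ⊢
      intro y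
      have := hxb (π y)
      rw [← map_inv, ← map_mul, ← map_mul, hmemP, hmemP] at this
      exact this
    obtain ⟨u, hu, k, hk, rfl⟩ := hN x hx
    rw [Subgroup.mem_centralizer_iff]
    intro h hh
    rw [SetLike.mem_coe, hPbc] at hh
    obtain ⟨y, hy, rfl⟩ := hh
    have hky : y * k = k * y := (Subgroup.mem_centralizer_iff.1 hk) y hy
    have hc : π (y * u * y⁻¹ * u⁻¹) = 1 := (QuotientGroup.eq_one_iff _).2 (hab y hy u hu)
    have e1 : u * k * y = u * y * k := by rw [mul_assoc, ← hky, ← mul_assoc]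
    have e2 : y * (u * k) = (y * u * y⁻¹ * u⁻¹) * (u * y * k) := by group
    rw [← map_mul, ← map_mul, e2, map_mul, hc, one_mul, e1]
  -- Burnside's transfer theorem in M ⧸ Q
  set Hb : Subgroup (M ⧸ Q) := (MonoidHom.transferSylow Pb hNC).ker with hHb
  have hHbcard : ¬ p ∣ Nat.card Hb := MonoidHom.not_dvd_card_ker_transferSylow Pb hNC
  have hHbcomp : Subgroup.IsComplement' Hb (Pb : Subgroup (M ⧸ Q)) :=
    MonoidHom.ker_transferSylow_isComplement' Pb hNC
  have hHbidx : Hb.index = Nat.card (Pb : Subgroup (M ⧸ Q)) := hHbcomp.symm.index_eq_card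
  obtain ⟨b, hb⟩ := (IsPGroup.iff_card).1 Pb.2
  have hQp : IsPGroup p Q := P.2.to_le hQP
  obtain ⟨a, ha⟩ := (IsPGroup.iff_card).1 hQp
  set H : Subgroup M := Hb.comap π with hH
  haveI hHn : H.Normal := Subgroup.Normal.comap inferInstance π
  have hQH : Q ≤ H := by
    intro q hq
    rw [hH, Subgroup.mem_comap]
    have : π q = 1 := (QuotientGroup.eq_one_iff _).2 hq
    rw [this]; exact one_mem _
  have hHidx : H.index = p ^ b := by
    rw [hH, Subgroup.index_comap_of_surjective Hb hπs, hHbidx]; exact hb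
  have hHcard : Nat.card H = Nat.card Q * Nat.card Hb := by
    have h1 : Nat.card M = Nat.card (M ⧸ Q) * Nat.card Q :=
      Subgroup.card_eq_card_quotient_mul_card_subgroup Q
    have h2 : H.index * Nat.card H = Nat.card M := Subgroup.index_mul_card H
    have h3 : Hb.index * Nat.card Hb = Nat.card (M ⧸ Q) := Subgroup.index_mul_card Hb
    have h4 : Hb.index = p ^ b := by rw [hHbidx]; exact hb
    rw [hHidx] at h2
    rw [h4] at h3
    have hpos : 0 < p ^ b := pow_pos hp.out.pos b
    have : p ^ b * Nat.card H = p ^ b * (Nat.card Q * Nat.card Hb) := by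
      rw [h2, h1, ← h3]; ring
    exact Nat.eq_of_mul_eq_mul_left hpos this
  have hnormQ : ∀ X : Subgroup M, X ≤ Subgroup.normalizer (Q : Set M) := by
    intro X
    rw [Subgroup.normalizer_eq_top_iff.mpr hQn]; exact le_top
  have hHbcop : (Nat.card Hb).Coprime p :=
    (Nat.Coprime.symm ((Nat.Prime.coprime_iff_not_dvd hp.out).2 hHbcard))
  have hrel : Q.relIndex H = Nat.card Hb := by
    have h1 := Subgroup.relIndex_mul_relIndex ⊥ Q H bot_le hQH
    rw [Subgroup.relIndex_bot_left, Subgroup.relIndex_bot_left, hHcard] at h1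
    exact Nat.eq_of_mul_eq_mul_left Nat.card_pos h1
  have hcop1 : (Nat.card Q).Coprime (Q.relIndex H) := by
    rw [hrel, ha]; exact Nat.Coprime.pow_left a hHbcop.symm
  obtain ⟨K, hKH, hQK, hQKbot⟩ := sz_exists_sub H Q hQH (hnormQ H) hcop1
  have hKcard : Nat.card K = Nat.card Hb := by
    rw [hHcard] at hQK
    exact Nat.eq_of_mul_eq_mul_left Nat.card_pos hQK
  have hcopQK : (Nat.card Q).Coprime (Nat.card K) := by
    rw [hKcard, ha]; exact Nat.Coprime.pow_left a hHbcop.symm
  have hsup : Q ⊔ K = H := by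
    apply Subgroup.eq_of_le_of_card_ge (sup_le hQH hKH)
    rw [act_card_sup K Q (hnormQ K) hcopQK.symm, hQK]
  haveI hQsolv : Group.IsSolvable Q := by
    haveI := hQp.isNilpotent
    infer_instance
  -- Frattini argument
  have hfrat : ∀ m : M, ∃ q ∈ Q, ∃ l ∈ Subgroup.normalizer (K : Set M), m = q * l := by
    intro m
    have hcjH : cj m K ≤ H := by
      rintro _ ⟨k, hk, rfl⟩
      have := hHn.conj_mem k (hKH hk) m
      simpa [MulAut.conj_apply] using this
    have hcjcard : Nat.card (cj m K) = Nat.card K := card_map_conj K m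
    obtain ⟨g, hg, hgK⟩ := sz_conj_sub H Q K (cj m K) hQH (hnormQ H) hKH hcjH hQK
      (by rw [hcjcard]; exact hQK) hcopQK (Or.inl hQsolv)
    have hgm : g⁻¹ * m ∈ Subgroup.normalizer (K : Set M) := by
      rw [← map_conj_eq_self_iff]
      show cj (g⁻¹ * m) K = K
      rw [cj_mul, ← hgK, ← cj_mul, inv_mul_cancel, cj_one]
    rw [← hsup] at hg
    obtain ⟨q, hq, k, hk, hgqk⟩ := act_mem_sup K Q (hnormQ K) hg
    refine ⟨q, hq, k * (g⁻¹ * m), ?_, ?_⟩
    · exact Subgroup.mul_mem _ (Subgroup.le_normalizer hk) hgm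
    · rw [← mul_assoc, ← hgqk]; group
  -- P normalizes K
  have hPK : (P : Subgroup M) ≤ Subgroup.normalizer (K : Set M) := by
    have h1 : (P : Subgroup M) ≤ (P : Subgroup M) ⊓ Subgroup.normalizer (K : Set M) := by
      apply hfr _ inf_le_left
      intro x hx
      obtain ⟨q, hq, l, hl, hxql⟩ := hfrat x
      have hlP : l ∈ (P : Subgroup M) := by
        have : l = q⁻¹ * x := by rw [hxql]; group
        rw [this]
        exact Subgroup.mul_mem _ (Subgroup.inv_mem _ (hQP hq)) hx
      rw [hxql]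
      exact Subgroup.mul_mem_sup hq (Subgroup.mem_inf.2 ⟨hlP, hl⟩)
    exact le_trans h1 inf_le_right
  have hKtop : Subgroup.normalizer (K : Set M) = ⊤ := by
    rw [eq_top_iff]
    intro m _
    obtain ⟨q, hq, l, hl, rfl⟩ := hfrat m
    exact Subgroup.mul_mem _ (hPK (hQP hq)) hl
  haveI hKn : K.Normal := Subgroup.normalizer_eq_top_iff.1 hKtop
  have hKcop : (Nat.card K).Coprime p := by rw [hKcard]; exact hHbcop
  have hKidx : K.index = p ^ (b + a) := by
    have h1 : K.index * Nat.card K = Nat.card M := Subgroup.index_mul_card K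
    have h2 : H.index * Nat.card H = Nat.card M := Subgroup.index_mul_card H
    rw [hHidx, ← hQK, ha] at h2
    have : K.index * Nat.card K = p ^ (b + a) * Nat.card K := by
      rw [h1, ← h2, pow_add]; ring
    exact Nat.eq_of_mul_eq_mul_right Nat.card_pos this
  exact hasNormalPComplement_of_card_index p K hKcop (b + a) hKidx

/-- Let G be a finite group with Sylow p-subgroup P such that N_G(P) has a normal p-complement. Then N_G(Q) has a normal p-complement for every subgroup Q with [P, P] ≤ Q ≤ Φ(P). -/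
theorem result {G : Type*} [Group G] [Finite G] {p : ℕ} [Fact p.Prime] (P : Sylow p G) (hN : Cfsg.HasNormalPComplement p ↥(Subgroup.normalizer ((P : Subgroup G) : Set G))) (Q : Subgroup G) (h1 : (commutator ↥(P : Subgroup G)).map (P : Subgroup G).subtype ≤ Q) (h2 : Q ≤ (frattini ↥(P : Subgroup G)).map (P : Subgroup G).subtype) : Cfsg.HasNormalPComplement p ↥(Subgroup.normalizer (Q : Set G)) := by
  classical
  have hQP : Q ≤ (P : Subgroup G) := le_trans h2 (Subgroup.map_subtype_le _)
  have hcomm : ∀ x ∈ (P : Subgroup G), ∀ y ∈ (P : Subgroup G), x * y * x⁻¹ * y⁻¹ ∈ Q := by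
    intro x hx y hy
    apply h1
    have hmem : ⁅(⟨x, hx⟩ : ↥(P : Subgroup G)), ⟨y, hy⟩⁆ ∈ commutator ↥(P : Subgroup G) := by
      rw [commutator_def]
      exact Subgroup.commutator_mem_commutator (Subgroup.mem_top _) (Subgroup.mem_top _)
    refine ⟨_, hmem, ?_⟩
    simp [commutatorElement_def]
  set M : Subgroup G := Subgroup.normalizer (Q : Set G) with hM
  have hPM : (P : Subgroup G) ≤ M := by
    have hconj : ∀ x ∈ (P : Subgroup G), ∀ y ∈ Q, x * y * x⁻¹ ∈ Q := by
      intro x hx y hy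
      have h := hcomm x hx y (hQP hy)
      have : x * y * x⁻¹ = (x * y * x⁻¹ * y⁻¹) * y := by group
      rw [this]
      exact Subgroup.mul_mem _ h hy
    intro x hx
    rw [hM, Subgroup.mem_normalizer_iff]
    intro y
    constructor
    · intro hy; exact hconj x hx y hy
    · intro hy
      have := hconj x⁻¹ (Subgroup.inv_mem _ hx) _ hy
      simpa [mul_assoc] using this
  set P' : Sylow p ↥M := P.subtype hPM with hP'
  have hP'c : (P' : Subgroup ↥M) = (P : Subgroup G).subgroupOf M := Sylow.coe_subtype P hPM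
  have hmemP' : ∀ x : ↥M, x ∈ (P' : Subgroup ↥M) ↔ (x : G) ∈ (P : Subgroup G) := by
    intro x; rw [hP'c, Subgroup.mem_subgroupOf]
  set Q' : Subgroup ↥M := Q.subgroupOf M with hQ'
  haveI hQ'n : Q'.Normal := Subgroup.normal_in_normalizer
  have hmemQ' : ∀ x : ↥M, x ∈ Q' ↔ (x : G) ∈ Q := by
    intro x; rw [hQ', Subgroup.mem_subgroupOf]
  -- the hypothesis on N_G(P)
  have hNP : ∀ x ∈ Subgroup.normalizer ((P : Subgroup G) : Set G), ∃ u ∈ (P : Subgroup G),
      ∃ k ∈ Subgroup.centralizer ((P : Subgroup G) : Set G), x = u * k := by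
    set NP : Subgroup G := Subgroup.normalizer ((P : Subgroup G) : Set G) with hNPdef
    obtain ⟨S, K₀, hK₀n, hcomp⟩ := hN
    set S₀ : Sylow p ↥NP := P.subtype Subgroup.le_normalizer with hS₀
    have hS₀c : (S₀ : Subgroup ↥NP) = (P : Subgroup G).subgroupOf NP :=
      Sylow.coe_subtype P Subgroup.le_normalizer
    haveI hS₀n : (S₀ : Subgroup ↥NP).Normal := by
      rw [hS₀c]; exact Subgroup.normal_in_normalizer
    have hcomp₀ : K₀.IsComplement' (S₀ : Subgroup ↥NP) :=
      Cfsg.Agent.Lib.Helper1.isComplement'_sylow_of_isComplement' S S₀ K₀ hcomp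
    have hdisj : K₀ ⊓ (S₀ : Subgroup ↥NP) = ⊥ := hcomp₀.disjoint.eq_bot
    intro x hx
    obtain ⟨⟨⟨k, hk⟩, ⟨s, hs⟩⟩, hks, -⟩ := hcomp₀.existsUnique (⟨x, hx⟩ : ↥NP)
    simp only at hks
    have hsP : (s : G) ∈ (P : Subgroup G) := by
      have : s ∈ (S₀ : Subgroup ↥NP) := hs
      rw [hS₀c, Subgroup.mem_subgroupOf] at this
      exact this
    have hkc : (k : G) ∈ Subgroup.centralizer ((P : Subgroup G) : Set G) := by
      rw [Subgroup.mem_centralizer_iff]
      intro y hy
      have hyN : y ∈ NP := Subgroup.le_normalizer hy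
      set y' : ↥NP := ⟨y, hyN⟩ with hy'
      have hy'S : y' ∈ (S₀ : Subgroup ↥NP) := by
        rw [hS₀c, Subgroup.mem_subgroupOf]; exact hy
      have hc1 : k * y' * k⁻¹ * y'⁻¹ ∈ K₀ := by
        have h1 : y' * k⁻¹ * y'⁻¹ ∈ K₀ := hK₀n.conj_mem _ (Subgroup.inv_mem _ hk) y'
        have : k * y' * k⁻¹ * y'⁻¹ = k * (y' * k⁻¹ * y'⁻¹) := by group
        rw [this]
        exact Subgroup.mul_mem _ hk h1
      have hc2 : k * y' * k⁻¹ * y'⁻¹ ∈ (S₀ : Subgroup ↥NP) := by
        have h1 : k * y' * k⁻¹ ∈ (S₀ : Subgroup ↥NP) := hS₀n.conj_mem _ hy'S k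
        exact Subgroup.mul_mem _ h1 (Subgroup.inv_mem _ hy'S)
      have hc3 : k * y' * k⁻¹ * y'⁻¹ ∈ K₀ ⊓ (S₀ : Subgroup ↥NP) := Subgroup.mem_inf.2 ⟨hc1, hc2⟩
      rw [hdisj, Subgroup.mem_bot] at hc3
      have hc4 : k * y' = y' * k := by
        have : k * y' = (k * y' * k⁻¹ * y'⁻¹) * (y' * k) := by group
        rw [this, hc3, one_mul]
      have hc5 := congrArg (Subtype.val) hc4
      simp only [Subgroup.coe_mul, hy'] at hc5
      exact hc5.symm
    have hxks : x = (k : G) * (s : G) := by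
      have := congrArg (Subtype.val) hks
      simp only [Subgroup.coe_mul] at this
      exact this.symm
    refine ⟨s, hsP, k, hkc, ?_⟩
    rw [hxks]
    exact ((Subgroup.mem_centralizer_iff.1 hkc) s hsP).symm
  apply key P' Q'
  · intro x hx
    rw [hmemQ'] at hx
    rw [hmemP']
    exact hQP hx
  · intro x hx y hy
    rw [hmemP'] at hx hy
    rw [hmemQ']
    have := hcomm x hx y hy
    simpa using this
  · -- Frattini property
    intro R hRP hPR
    set R₀ : Subgroup ↥(P : Subgroup G) := R.comap (Subgroup.inclusion hPM) with hR₀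
    have hR₀top : R₀ = ⊤ := by
      apply frattini_nongenerating
      rw [eq_top_iff]
      intro z _
      have hz : (Subgroup.inclusion hPM z) ∈ (P' : Subgroup ↥M) := by
        rw [hmemP']; exact z.2
      have hz2 := hPR hz
      have hz3 : (Subgroup.inclusion hPM z) ∈ ((Q' ⊔ R : Subgroup ↥M) : Set ↥M) := hz2
      rw [Subgroup.normal_mul, Set.mem_mul] at hz3
      obtain ⟨q, hq, r, hr, hqr⟩ := hz3
      have hqQ : (q : G) ∈ Q := (hmemQ' q).1 hq
      obtain ⟨φ, hφ, hφq⟩ := h2 hqQ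
      have hrP : (r : G) ∈ (P : Subgroup G) := (hmemP' r).1 (hRP hr)
      set r₀ : ↥(P : Subgroup G) := ⟨(r : G), hrP⟩ with hr₀
      have hr₀R : r₀ ∈ R₀ := by
        rw [hR₀, Subgroup.mem_comap]
        have : Subgroup.inclusion hPM r₀ = r := Subtype.ext rfl
        rw [this]; exact hr
      have hzeq : z = φ * r₀ := by
        apply Subtype.ext
        have h5 := congrArg (fun t : ↥M => (t : G)) hqr
        simp only [Subgroup.coe_mul, Subgroup.coe_inclusion] at h5
        have h6 : (φ : G) = (q : G) := hφq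
        show (z : G) = ((φ * r₀ : ↥(P : Subgroup G)) : G)
        rw [Subgroup.coe_mul, h6]
        exact h5.symm
      rw [hzeq, sup_comm]
      exact Subgroup.mul_mem_sup hφ hr₀R
    intro x hx
    have hxP : (x : G) ∈ (P : Subgroup G) := (hmemP' x).1 hx
    have : (⟨(x : G), hxP⟩ : ↥(P : Subgroup G)) ∈ R₀ := by rw [hR₀top]; trivial
    rw [hR₀, Subgroup.mem_comap] at this
    have h3 : Subgroup.inclusion hPM ⟨(x : G), hxP⟩ = x := Subtype.ext rfl
    rw [h3] at this
    exact this
  · intro x hx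
    have hxN : (x : G) ∈ Subgroup.normalizer ((P : Subgroup G) : Set G) := by
      rw [← map_conj_eq_self_iff]
      apply Subgroup.eq_of_le_of_card_ge
      · rintro _ ⟨y, hy, rfl⟩
        rw [Subgroup.mem_normalizer_iff] at hx
        have h3 := (hx ⟨y, hPM hy⟩).1 ((hmemP' _).2 hy)
        rw [hmemP'] at h3
        simpa [MulAut.conj_apply] using h3
      · rw [card_map_conj]
    obtain ⟨u, hu, k, hk, hxuk⟩ := hNP (x : G) hxN
    have huM : u ∈ M := hPM hu
    have hkM : k ∈ M := by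
      have : k = u⁻¹ * (x : G) := by rw [hxuk]; group
      rw [this]
      exact Subgroup.mul_mem _ (Subgroup.inv_mem _ huM) x.2
    refine ⟨⟨u, huM⟩, (hmemP' _).2 hu, ⟨k, hkM⟩, ?_, ?_⟩
    · rw [Subgroup.mem_centralizer_iff]
      intro y hy
      have hyP : (y : G) ∈ (P : Subgroup G) := (hmemP' y).1 hy
      have := (Subgroup.mem_centralizer_iff.1 hk) (y : G) hyP
      exact Subtype.ext (by simpa using this)
    · exact Subtype.ext (by simpa using hxuk)

end Cfsg.Agent.S3838
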