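import Cfsg.Statements.S3858
import Mathlib
import Cfsg.Agent.Lib.Helper6.AlmostSimple

set_option autoImplicit false
open Cfsg Cfsg.Agent.Lib.Helper6

namespace Cfsg.Agent.S3858

theorem main3858 {G : Type*} [Group G] [Finite G] (T : Subgroup G) [T.Normal] (hT : IsSimpleGroup T) (hna : ¬ IsMulCommutative T)
    (hC : Subgroup.centralizer (T : Set G) = ⊥) {r : ℕ} [Fact r.Prime] (R : Sylow r G) (hR0 : (R : Subgroup G) ⊓ T ≠ ⊥) :
    (∃! M : Subgroup G, IsCoatom M ∧ (R : Subgroup G) ≤ M) ↔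
      ((∃ M : Subgroup G, IsCoatom M ∧ ¬ r ∣ M.index) ∧
        ∀ M₁ M₂ : Subgroup G, IsCoatom M₁ → ¬ r ∣ M₁.index → IsCoatom M₂ → ¬ r ∣ M₂.index → ∃ g : G, M₂ = M₁.map (MulAut.conj g).toMonoidHom) := by
  have hidx : ∀ M : Subgroup G, (R : Subgroup G) ≤ M → ¬ r ∣ M.index := by
    intro M hM hd
    exact R.not_dvd_index (hd.trans (Subgroup.index_dvd_of_le hM))
  constructor
  · rintro ⟨M, ⟨hMc, hRM⟩, huniq⟩
    refine ⟨⟨M, hMc, hidx M hRM⟩, ?_⟩
    intro M₁ M₂ h1 h1' h2 h2'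
    obtain ⟨g₁, hg₁⟩ := exists_conj_ge R M₁ h1'
    obtain ⟨g₂, hg₂⟩ := exists_conj_ge R M₂ h2'
    have e1 := huniq _ ⟨isCoatom_conj M₁ g₁ h1, hg₁⟩
    have e2 := huniq _ ⟨isCoatom_conj M₂ g₂ h2, hg₂⟩
    refine ⟨g₂⁻¹ * g₁, ?_⟩
    ext x
    rw [mem_conj_iff]
    have a1 : g₂ * x * g₂⁻¹ ∈ M ↔ x ∈ M₂ := by
      rw [← e2, mem_conj_iff]
      have : g₂⁻¹ * (g₂ * x * g₂⁻¹) * g₂ = x := by group
      rw [this]
    have a2 : g₂ * x * g₂⁻¹ ∈ M ↔ (g₂⁻¹ * g₁)⁻¹ * x * (g₂⁻¹ * g₁) ∈ M₁ := by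
      rw [← e1, mem_conj_iff]
      have : g₁⁻¹ * (g₂ * x * g₂⁻¹) * g₁ = (g₂⁻¹ * g₁)⁻¹ * x * (g₂⁻¹ * g₁) := by group
      rw [this]
    rw [← a1, a2]
  · rintro ⟨⟨M₀, hM₀c, hM₀i⟩, hconj⟩
    have hnn := not_normal_of_almost_simple T hT hna R hR0
    have hNtop : Subgroup.normalizer ((R : Subgroup G) : Set G) ≠ ⊤ := by
      intro h
      exact hnn (Subgroup.normalizer_eq_top_iff.1 h)
    obtain ⟨M₃, hM₃c, hNM₃⟩ := (eq_top_or_exists_le_coatom _).resolve_left hNtop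
    have hRM₃ : (R : Subgroup G) ≤ M₃ := Subgroup.le_normalizer.trans hNM₃
    refine ⟨M₃, ⟨hM₃c, hRM₃⟩, ?_⟩
    rintro M' ⟨hM'c, hRM'⟩
    obtain ⟨g, hg⟩ := hconj M₃ M' hM₃c (hidx M₃ hRM₃) hM'c (hidx M' hRM')
    -- R ≤ g M₃ g⁻¹
    have h1 : ∀ x ∈ (R : Subgroup G), g⁻¹ * x * g ∈ M₃ := by
      intro x hx
      have := hRM' hx
      rwa [hg, mem_conj_iff] at this
    -- R' = g⁻¹ • R
    have hR'le : ((g⁻¹ • R : Sylow r G) : Subgroup G) ≤ M₃ := by
      intro y hy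
      rw [mem_smul_sylow, inv_inv] at hy
      have := h1 _ hy
      have e : g⁻¹ * (g * y * g⁻¹) * g = y := by group
      rwa [e] at this
    obtain ⟨m, hm⟩ := MulAction.exists_smul_eq M₃ (R.subtype hRM₃) ((g⁻¹ • R).subtype hR'le)
    rw [Sylow.smul_subtype] at hm
    have hm2 : ((m • R : Sylow r G) : Subgroup G) = ((g⁻¹ • R : Sylow r G) : Subgroup G) := by
      have h3 := congrArg (fun P : Sylow r M₃ => (P : Subgroup M₃)) hm
      simp only [Sylow.coe_subtype] at h3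
      rw [Subgroup.subgroupOf_inj] at h3
      rwa [inf_eq_left.2 (Sylow.smul_le hRM₃ m), inf_eq_left.2 hR'le] at h3
    -- (g * m) normalizes R
    have hgm : (g * (m : G)) ∈ Subgroup.normalizer ((R : Subgroup G) : Set G) := by
      refine Sylow.smul_eq_iff_mem_normalizer.1 ?_
      apply Sylow.ext
      ext x
      rw [mem_smul_sylow]
      have h4 : ∀ y, y ∈ ((m • R : Sylow r G) : Subgroup G) ↔ y ∈ ((g⁻¹ • R : Sylow r G) : Subgroup G) := by
        intro y; rw [hm2]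
      have h5 := h4 (g⁻¹ * x * g)
      rw [mem_smul_sylow, inv_inv] at h5
      have h6 : (m : G)⁻¹ * (g⁻¹ * x * g) * (m : G) ∈ (R : Subgroup G) ↔ g⁻¹ * x * g ∈ ((m • R : Sylow r G) : Subgroup G) := by
        exact (mem_smul_sylow (m : G) R (g⁻¹ * x * g)).symm
      have e1 : (g * (m : G))⁻¹ * x * (g * (m : G)) = (m : G)⁻¹ * (g⁻¹ * x * g) * (m : G) := by group
      have e2 : g * (g⁻¹ * x * g) * g⁻¹ = x := by group
      rw [e1, h6, h5, e2]
    have hgM : g ∈ M₃ := by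
      have := hNM₃ hgm
      have h7 := M₃.mul_mem this (M₃.inv_mem m.2)
      have e : g * (m : G) * (m : G)⁻¹ = g := by group
      rwa [e] at h7
    rw [hg]
    ext x
    rw [mem_conj_iff]
    constructor
    · intro h
      have := M₃.mul_mem (M₃.mul_mem hgM h) (M₃.inv_mem hgM)
      have e : g * (g⁻¹ * x * g) * g⁻¹ = x := by group
      rwa [e] at this
    · intro h
      exact M₃.mul_mem (M₃.mul_mem (M₃.inv_mem hgM) h) hgM


/-- Let G be a finite group with a normal non-abelian simple subgroup T whose centralizer is trivial (G almost simple with socle T), r a prime and R a Sylow r-subgroup of G meeting T nontrivially. Then R lies in exactly one maximal subgroup of G if and only if G has exactly one conjugacy class of maximal subgroups whose index is prime to r. -/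
theorem result {G : Type*} [Group G] [Finite G] (T : Subgroup G) [T.Normal] (hT : IsSimpleGroup T) (hna : ¬ IsMulCommutative T)
    (hC : Subgroup.centralizer (T : Set G) = ⊥) {r : ℕ} [Fact r.Prime] (R : Sylow r G) (hR0 : (R : Subgroup G) ⊓ T ≠ ⊥) :
    (∃! M : Subgroup G, IsCoatom M ∧ (R : Subgroup G) ≤ M) ↔
      ((∃ M : Subgroup G, IsCoatom M ∧ ¬ r ∣ M.index) ∧
        ∀ M₁ M₂ : Subgroup G, IsCoatom M₁ → ¬ r ∣ M₁.index → IsCoatom M₂ → ¬ r ∣ M₂.index → ∃ g : G, M₂ = M₁.map (MulAut.conj g).toMonoidHom) := by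
  exact main3858 T hT hna hC R hR0

end Cfsg.Agent.S3858
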