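import Cfsg.Statements.S3859
import Mathlib
import Cfsg.Agent.Lib.Helper6.AlmostSimple

set_option autoImplicit false
open Cfsg Cfsg.Agent.Lib.Helper6
open scoped Pointwise

namespace Cfsg.Agent.S3859

theorem main3859 {G : Type*} [Group G] [Finite G] (T : Subgroup G) [T.Normal] (hT : IsSimpleGroup T) (hna : ¬ IsMulCommutative T)
    (hC : Subgroup.centralizer (T : Set G) = ⊥) {r : ℕ} [Fact r.Prime] (R : Sylow r G) (hR0 : (R : Subgroup G) ⊓ T ≠ ⊥)
    (huniq : ∃! M : Subgroup G, IsCoatom M ∧ (R : Subgroup G) ≤ M) : IsPGroup r (G ⧸ T) := by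
  -- r divides |T|
  have hrT : r ∣ Nat.card T := by
    have hp : IsPGroup r ((R : Subgroup G) ⊓ T : Subgroup G) := R.isPGroup'.to_le inf_le_left
    rcases hp.card_eq_or_dvd with h | h
    · exact absurd (Subgroup.card_eq_one.1 h) hR0
    · exact h.trans (Subgroup.card_dvd_of_le inf_le_right)
  obtain ⟨P₀⟩ : Nonempty (Sylow r T) := inferInstance
  have hP₀ : (P₀ : Subgroup T) ≠ ⊥ := P₀.ne_bot_of_dvd_card hrT
  obtain ⟨Q, hQ⟩ := P₀.exists_comap_subtype_eq
  obtain ⟨g, hg⟩ := MulAction.exists_smul_eq G Q R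
  -- uniqueness for Q
  have huQ : ∃! M : Subgroup G, IsCoatom M ∧ (Q : Subgroup G) ≤ M := by
    obtain ⟨M, ⟨hMc, hRM⟩, hu⟩ := huniq
    refine ⟨M.map (MulAut.conj g⁻¹).toMonoidHom, ⟨isCoatom_conj M g⁻¹ hMc, ?_⟩, ?_⟩
    · intro x hx
      rw [mem_conj_iff, inv_inv]
      apply hRM
      rw [← hg, mem_smul_sylow]
      have e : g⁻¹ * (g * x * g⁻¹) * g = x := by group
      rwa [e]
    · rintro M' ⟨hM'c, hQM'⟩
      have h1 := hu (M'.map (MulAut.conj g).toMonoidHom) ⟨isCoatom_conj M' g hM'c, ?_⟩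
      · rw [← h1]
        ext x
        rw [mem_conj_iff, mem_conj_iff, inv_inv]
        have e : g⁻¹ * (g * x * g⁻¹) * g = x := by group
        rw [e]
      · intro x hx
        rw [← hg, mem_smul_sylow] at hx
        rw [mem_conj_iff]
        exact hQM' hx
  obtain ⟨M, ⟨hMc, hQM⟩, hu⟩ := huQ
  -- D = Q ⊓ T
  have hD : (P₀ : Subgroup T).map T.subtype = (Q : Subgroup G) ⊓ T := by
    rw [← hQ, Subgroup.map_comap_eq, Subgroup.range_subtype, inf_comm]
  have hDne : (Q : Subgroup G) ⊓ T ≠ ⊥ := by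
    rw [← hD]
    intro h
    apply hP₀
    rwa [Subgroup.map_eq_bot_iff_of_injective _ T.subtype_injective] at h
  have hfr := Sylow.normalizer_sup_eq_top P₀
  rw [hD] at hfr
  have hQN : (Q : Subgroup G) ≤ Subgroup.normalizer (((Q : Subgroup G) ⊓ T : Subgroup G) : Set G) := by
    intro x hx
    rw [Subgroup.mem_normalizer_iff]
    intro y
    constructor
    · rintro ⟨h1, h2⟩
      exact ⟨Subgroup.mul_mem _ (Subgroup.mul_mem _ hx h1) (Subgroup.inv_mem _ hx),
        Subgroup.Normal.conj_mem inferInstance y h2 x⟩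
    · rintro ⟨h1, h2⟩
      refine ⟨?_, ?_⟩
      · have := Subgroup.mul_mem _ (Subgroup.mul_mem _ (Subgroup.inv_mem _ hx) h1) hx
        have e : x⁻¹ * (x * y * x⁻¹) * x = y := by group
        rwa [e] at this
      · have := Subgroup.Normal.conj_mem (inferInstance : T.Normal) _ h2 x⁻¹
        have e : x⁻¹ * (x * y * x⁻¹) * x⁻¹⁻¹ = y := by group
        rwa [e] at this
  have hNtop : Subgroup.normalizer (((Q : Subgroup G) ⊓ T : Subgroup G) : Set G) ≠ ⊤ := by
    intro h
    have hn : ((Q : Subgroup G) ⊓ T).Normal := Subgroup.normalizer_eq_top_iff.1 h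
    have hn2 : (((Q : Subgroup G) ⊓ T).subgroupOf T).Normal := inferInstance
    rcases hn2.eq_bot_or_eq_top with h2 | h2
    · rw [Subgroup.subgroupOf_eq_bot] at h2
      have := h2.eq_bot
      rw [inf_eq_left.2 (inf_le_right : (Q : Subgroup G) ⊓ T ≤ T)] at this
      exact hDne this
    · rw [Subgroup.subgroupOf_eq_top] at h2
      have hTQ : T ≤ (Q : Subgroup G) := fun x hx => (h2 hx).1
      exact hna (simple_pgroup_comm hT (Q.isPGroup'.to_le hTQ))
  obtain ⟨M', hM'c, hNM'⟩ := (eq_top_or_exists_le_coatom _).resolve_left hNtop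
  have hM'M : M' = M := hu M' ⟨hM'c, hQN.trans hNM'⟩
  rw [hM'M] at hNM'
  have hTM : ¬ T ≤ M := by
    intro h
    apply hMc.1
    rw [eq_top_iff, ← hfr]
    exact sup_le hNM' h
  have hQT : (Q : Subgroup G) ⊔ T = ⊤ := by
    by_contra hne
    obtain ⟨M'', hM''c, hle⟩ := (eq_top_or_exists_le_coatom _).resolve_left hne
    have := hu M'' ⟨hM''c, le_sup_left.trans hle⟩
    rw [this] at hle
    exact hTM (le_sup_right.trans hle)
  have hmap : (Q : Subgroup G).map (QuotientGroup.mk' T) = ⊤ := by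
    have h1 : ((Q : Subgroup G) ⊔ T).map (QuotientGroup.mk' T) = ⊤ := by
      rw [hQT, ← MonoidHom.range_eq_map]
      exact MonoidHom.range_eq_top.2 (QuotientGroup.mk'_surjective T)
    rwa [Subgroup.map_sup, QuotientGroup.map_mk'_self, sup_bot_eq] at h1
  have hp : IsPGroup r ((Q : Subgroup G).map (QuotientGroup.mk' T)) := Q.isPGroup'.map _
  rw [hmap] at hp
  exact hp.of_equiv Subgroup.topEquiv


/-- Let G be a finite group with a normal non-abelian simple subgroup T whose centralizer is trivial (G almost simple with socle T), r a prime and R a Sylow r-subgroup of G meeting T nontrivially. If R lies in exactly one maximal subgroup of G, then G/T is an r-group. -/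
theorem result {G : Type*} [Group G] [Finite G] (T : Subgroup G) [T.Normal] (hT : IsSimpleGroup T) (hna : ¬ IsMulCommutative T)
    (hC : Subgroup.centralizer (T : Set G) = ⊥) {r : ℕ} [Fact r.Prime] (R : Sylow r G) (hR0 : (R : Subgroup G) ⊓ T ≠ ⊥)
    (huniq : ∃! M : Subgroup G, IsCoatom M ∧ (R : Subgroup G) ≤ M) : IsPGroup r (G ⧸ T) := by
  exact main3859 T hT hna hC R hR0 huniq

end Cfsg.Agent.S3859
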