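import Cfsg.Statements.S3861
import Cfsg.Agent.Lib.Helper7.NoRealOdd2
import Cfsg.Agent.Lib.Helper7.Real

set_option autoImplicit false
open Cfsg

namespace Cfsg.Agent.S3861

open Cfsg.Agent.Lib.Helper7

/-- A finite group G has no non-identity element of odd order that is conjugate to its inverse if and only if the Sylow 2-subgroups of G are normal. -/
theorem result {G : Type*} [Group G] [Finite G] (P : Sylow 2 G) : (∀ x : G, x ≠ 1 → Odd (orderOf x) → ¬ IsConj x x⁻¹) ↔ (P : Subgroup G).Normal := by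
  constructor
  · intro h
    apply sylow_two_normal_of_no_real_odd
    intro x hx hodd
    by_contra hx1
    exact h x hx1 hodd hx
  · intro hPn x hx1 hodd hconj
    obtain ⟨t, ⟨j, hj⟩, ht⟩ := exists_two_element_inverting x hconj
    have htP : t ∈ (P : Subgroup G) := by
      obtain ⟨P', hP'⟩ := exists_sylow_mem_of_orderOf t j hj
      obtain ⟨g, rfl⟩ := MulAction.exists_smul_eq G P P'
      rw [Sylow.smul_eq_of_normal] at hP'
      exact hP'
    have h1 : (x ^ 2)⁻¹ ∈ (P : Subgroup G) := by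
      have e : (x ^ 2)⁻¹ = (t * x * t⁻¹ * x⁻¹) := by
        rw [ht, pow_two, mul_inv_rev]
      rw [e]
      have e2 : t * x * t⁻¹ * x⁻¹ = t * (x * t⁻¹ * x⁻¹) := by group
      rw [e2]
      exact Subgroup.mul_mem _ htP (hPn.conj_mem _ (Subgroup.inv_mem _ htP) x)
    have h2 : x ^ 2 ∈ (P : Subgroup G) := (Subgroup.inv_mem_iff _).mp h1
    obtain ⟨k, hk⟩ := orderOf_eq_prime_pow_of_mem_sylow P _ h2
    have hd : orderOf (x ^ 2) ∣ orderOf x := orderOf_pow_dvd 2
    rw [hk] at hd
    have hoddk : Odd (2 ^ k) := Odd.of_dvd_nat hodd hd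
    have hk0 : k = 0 := by
      by_contra hk0
      exact (Nat.not_odd_iff_even.mpr (Nat.even_pow.mpr ⟨even_two, hk0⟩)) hoddk
    rw [hk0, pow_zero, orderOf_eq_one_iff] at hk
    have hd2 : orderOf x ∣ 2 := orderOf_dvd_of_pow_eq_one hk
    rcases (Nat.dvd_prime Nat.prime_two).mp hd2 with h | h
    · exact hx1 (orderOf_eq_one_iff.mp h)
    · rw [h] at hodd
      exact (Nat.not_odd_iff_even.mpr even_two) hodd

end Cfsg.Agent.S3861
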