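import Cfsg.Statements.S3862
import Cfsg.Agent.Lib.Helper7.Conj
import Cfsg.Agent.Lib.Helper7.PSubFrattini
import Cfsg.Agent.Lib.Helper4.Frobenius2

set_option autoImplicit false
open Cfsg

namespace Cfsg.Agent.S3862

open Cfsg.Agent.Lib.Helper7 Cfsg.Agent.Lib.Helper4
open scoped commutatorElement

variable {G : Type*} [Group G]

/-- If `y` of odd order normalizes the `2`-group `Q` and commutes with every `u⁻¹ (y u y⁻¹)`,
then `y` centralizes `Q`. -/
lemma centralizes_of_commute_comm [Finite G] (Q : Subgroup G) (hQ : IsPGroup 2 Q) (y : G)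
    (hyN : y ∈ Subgroup.normalizer (Q : Set G)) (hy : (orderOf y).Coprime 2)
    (h : ∀ u ∈ Q, y * (u⁻¹ * (y * u * y⁻¹)) = (u⁻¹ * (y * u * y⁻¹)) * y) :
    ∀ u ∈ Q, y * u = u * y := by
  intro u hu
  set w := u⁻¹ * (y * u * y⁻¹) with hw
  have hwQ : w ∈ Q := Q.mul_mem (Q.inv_mem hu) ((Subgroup.mem_normalizer_iff.mp hyN u).mp hu)
  have hyw : Commute y w := h u hu
  have e4 : y * u * y⁻¹ = u * w := by rw [hw]; group
  have hconj : ∀ n : ℕ, y ^ n * u * (y ^ n)⁻¹ = u * w ^ n := by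
    intro n
    induction n with
    | zero => simp
    | succ n ih =>
      have e : y ^ (n + 1) * u * (y ^ (n + 1))⁻¹ = y * (y ^ n * u * (y ^ n)⁻¹) * y⁻¹ := by
        rw [pow_succ']; group
      have e2 : y * (u * w ^ n) * y⁻¹ = (y * u * y⁻¹) * (y * w ^ n * y⁻¹) := by group
      have e3 : y * w ^ n * y⁻¹ = w ^ n := by
        have : Commute y (w ^ n) := hyw.pow_right n
        rw [this.eq, mul_assoc, mul_inv_cancel, mul_one]
      rw [e, ih, e2, e3, e4, pow_succ', mul_assoc]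
  have h1 := hconj (orderOf y)
  rw [pow_orderOf_eq_one, inv_one, one_mul, mul_one] at h1
  have h2 : w ^ orderOf y = 1 := by
    have : u * 1 = u * w ^ orderOf y := by rw [mul_one]; exact h1
    exact (mul_left_cancel this).symm
  obtain ⟨k, hk⟩ := (IsPGroup.iff_orderOf.mp hQ) ⟨w, hwQ⟩
  rw [Subgroup.orderOf_mk] at hk
  have h3 : orderOf w ∣ orderOf y := orderOf_dvd_of_pow_eq_one h2
  have h4 : orderOf w = 1 := by
    rw [hk] at h3 ⊢
    have := Nat.Coprime.eq_one_of_dvd (Nat.Coprime.pow_right k hy).symm h3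
    exact this
  rw [orderOf_eq_one_iff] at h4
  rw [h4, mul_one] at e4
  calc y * u = y * u * y⁻¹ * y := by group
    _ = u * y := by rw [e4]

/-- The subgroup generated by the squares of the elements of `Q`. -/
def sq (Q : Subgroup G) : Subgroup G := Subgroup.closure {x | ∃ u ∈ Q, x = u ^ 2}

lemma sq_le (Q : Subgroup G) : sq Q ≤ Q := by
  apply (Subgroup.closure_le _).mpr
  rintro _ ⟨u, hu, rfl⟩
  exact Q.pow_mem hu 2

lemma sq_mem (Q : Subgroup G) {u : G} (hu : u ∈ Q) : u ^ 2 ∈ sq Q :=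
  Subgroup.subset_closure ⟨u, hu, rfl⟩

lemma comm_mem_sq (Q : Subgroup G) {a b : G} (ha : a ∈ Q) (hb : b ∈ Q) :
    a * b * a⁻¹ * b⁻¹ ∈ sq Q := by
  have e : a * b * a⁻¹ * b⁻¹ = (a * b) ^ 2 * (b⁻¹ * a⁻¹ * b) ^ 2 * (b⁻¹) ^ 2 := by
    simp only [pow_succ, pow_zero, one_mul]
    group
  rw [e]
  exact (sq Q).mul_mem ((sq Q).mul_mem (sq_mem Q (Q.mul_mem ha hb))
    (sq_mem Q (Q.mul_mem (Q.mul_mem (Q.inv_mem hb) (Q.inv_mem ha)) hb))) (sq_mem Q (Q.inv_mem hb))

lemma normalizer_le_normalizer_sq [Finite G] (Q : Subgroup G) :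
    Subgroup.normalizer (Q : Set G) ≤ Subgroup.normalizer (sq Q : Set G) := by
  intro y hy
  apply mem_normalizer_of_conj_mem
  intro x hx
  induction hx using Subgroup.closure_induction with
  | mem x hx =>
    obtain ⟨u, hu, rfl⟩ := hx
    have : y * u ^ 2 * y⁻¹ = (y * u * y⁻¹) ^ 2 := by rw [conj_pow]
    rw [this]
    exact sq_mem Q ((Subgroup.mem_normalizer_iff.mp hy u).mp hu)
  | one => simp
  | mul a b _ _ ha hb =>
    have : y * (a * b) * y⁻¹ = (y * a * y⁻¹) * (y * b * y⁻¹) := by group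
    rw [this]
    exact (sq Q).mul_mem ha hb
  | inv a _ ha =>
    have : y * a⁻¹ * y⁻¹ = (y * a * y⁻¹)⁻¹ := by group
    rw [this]
    exact (sq Q).inv_mem ha

lemma card_sq_lt [Finite G] (Q : Subgroup G) (hQ : IsPGroup 2 Q) (hne : Q ≠ ⊥) :
    Nat.card (sq Q) < Nat.card Q := by
  obtain ⟨n, hn⟩ := IsPGroup.iff_card.mp hQ
  have hn0 : n ≠ 0 := by
    rintro rfl
    rw [pow_zero] at hn
    exact hne (Subgroup.card_eq_one.mp hn)
  obtain ⟨m, rfl⟩ : ∃ m, n = m + 1 := ⟨n - 1, by omega⟩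
  obtain ⟨K, hK⟩ := Sylow.exists_subgroup_card_pow_prime (G := Q) 2 (n := m)
    (by rw [hn]; exact pow_dvd_pow 2 (Nat.le_succ m))
  have hidx : K.index = 2 := by
    have h1 := K.card_mul_index
    rw [hK, hn, pow_succ] at h1
    exact Nat.eq_of_mul_eq_mul_left (pow_pos (by norm_num) m) h1
  have hle : sq Q ≤ K.map Q.subtype := by
    apply (Subgroup.closure_le _).mpr
    rintro _ ⟨u, hu, rfl⟩
    exact ⟨⟨u, hu⟩ ^ 2, Subgroup.sq_mem_of_index_two hidx _, by simp⟩
  calc Nat.card (sq Q) ≤ Nat.card (K.map Q.subtype) := Subgroup.card_le_of_le hle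
    _ = 2 ^ m := by rw [Subgroup.card_map_of_injective Q.subtype_injective, hK]
    _ < 2 ^ (m + 1) := Nat.pow_lt_pow_right (by norm_num) (Nat.lt_succ_self m)
    _ = Nat.card Q := hn.symm

theorem key [Finite G] (h : ∀ x : G, (∃ j : ℕ, orderOf x = 2 ^ j) → IsConj x x⁻¹ →
    x ∈ Subgroup.center G) :
    ∀ (n : ℕ) (Q : Subgroup G), Nat.card Q = n → IsPGroup 2 Q →
      ∀ y ∈ Subgroup.normalizer (Q : Set G), (orderOf y).Coprime 2 → ∀ u ∈ Q, y * u = u * y := by
  intro n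
  induction n using Nat.strong_induction_on with
  | _ n ih =>
  intro Q hcard hQ y hyN hy
  by_cases hne : Q = ⊥
  · subst hne
    intro u hu
    rw [Subgroup.mem_bot.mp hu]
    simp
  set Φ : Subgroup G := sq Q with hΦ
  have hΦQ : Φ ≤ Q := sq_le Q
  have hΦlt : Nat.card Φ < n := by rw [← hcard]; exact card_sq_lt Q hQ hne
  have hΦy : ∀ z ∈ Φ, y * z = z * y :=
    ih _ hΦlt Φ rfl (hQ.to_le hΦQ) y (normalizer_le_normalizer_sq Q hyN) hy
  set Y : Subgroup G := Subgroup.zpowers y with hY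
  have hYN : Y ≤ Subgroup.normalizer (Q : Set G) := Subgroup.zpowers_le.mpr hyN
  set D : Subgroup G := ⁅Y, Q⁆ with hD
  have hDQ : D ≤ Q := by
    rw [hD, Subgroup.commutator_le]
    intro a ha b hb
    rw [commutatorElement_def]
    exact Q.mul_mem ((Subgroup.mem_normalizer_iff.mp (hYN ha) b).mp hb) (Q.inv_mem hb)
  have hwD : ∀ u ∈ Q, u⁻¹ * (y * u * y⁻¹) ∈ D := by
    intro u hu
    have e : u⁻¹ * (y * u * y⁻¹) = ⁅u⁻¹, y⁆ := by rw [commutatorElement_def]; group
    rw [e, hD, Subgroup.commutator_comm]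
    exact Subgroup.commutator_mem_commutator (Q.inv_mem hu) (Subgroup.mem_zpowers y)
  apply centralizes_of_commute_comm Q hQ y hyN hy
  by_cases hDeq : D = Q
  · -- `Φ ≤ Z(Q)` by the three subgroups lemma
    have hΦY : ⁅Φ, Y⁆ = ⊥ := by
      rw [Subgroup.commutator_eq_bot_iff_le_centralizer]
      intro z hz
      rw [Subgroup.mem_centralizer_iff]
      intro a ha
      obtain ⟨k, rfl⟩ := Subgroup.mem_zpowers_iff.mp ha
      exact ((show Commute y z from hΦy z hz).zpow_left k).eq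
    have h1 : ⁅⁅Q, Φ⁆, Y⁆ = ⊥ := by
      have hQΦ : ⁅Q, Φ⁆ ≤ Φ := by
        rw [Subgroup.commutator_le]
        intro a ha z hz
        have haN : a ∈ Subgroup.normalizer (Φ : Set G) :=
          normalizer_le_normalizer_sq Q (Subgroup.le_normalizer ha)
        rw [commutatorElement_def]
        exact Φ.mul_mem ((Subgroup.mem_normalizer_iff.mp haN z).mp hz) (Φ.inv_mem hz)
      rw [eq_bot_iff, ← hΦY]
      exact Subgroup.commutator_mono hQΦ le_rfl
    have h2 : ⁅⁅Φ, Y⁆, Q⁆ = ⊥ := by rw [hΦY, Subgroup.commutator_bot_left]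
    have h3 : ⁅⁅Y, Q⁆, Φ⁆ = ⊥ := Subgroup.commutator_commutator_eq_bot_of_rotate h1 h2
    rw [← hD, hDeq, Subgroup.commutator_eq_bot_iff_le_centralizer] at h3
    have hZ : ∀ a ∈ Q, ∀ z ∈ Φ, z * a = a * z := by
      intro a ha z hz
      exact Subgroup.mem_centralizer_iff.mp (h3 ha) z hz
    intro u hu
    set v := y * u * y⁻¹ with hv
    have hvQ : v ∈ Q := (Subgroup.mem_normalizer_iff.mp hyN u).mp hu
    have hsq : v ^ 2 = u ^ 2 := by
      rw [hv, conj_pow]
      have := hΦy (u ^ 2) (sq_mem Q hu)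
      rw [this, mul_assoc, mul_inv_cancel, mul_one]
    have hcomm : u ^ 2 * v = v * u ^ 2 := hZ v hvQ (u ^ 2) (sq_mem Q hu)
    have hreal : u * (u⁻¹ * v) * u⁻¹ = (u⁻¹ * v)⁻¹ := by
      rw [eq_inv_iff_mul_eq_one]
      have e : u * (u⁻¹ * v) * u⁻¹ * (u⁻¹ * v) = v * (u ^ 2)⁻¹ * v := by
        simp only [pow_succ, pow_zero, one_mul]
        group
      have hcomm' : (u ^ 2)⁻¹ * v = v * (u ^ 2)⁻¹ := by
        have c1 : Commute (u ^ 2) v := hcomm
        exact c1.inv_left.eq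
      rw [e, mul_assoc, hcomm', ← mul_assoc, ← pow_two, hsq, mul_inv_cancel]
    have hwQ : u⁻¹ * v ∈ Q := Q.mul_mem (Q.inv_mem hu) hvQ
    obtain ⟨j, hj⟩ := (IsPGroup.iff_orderOf.mp hQ) ⟨u⁻¹ * v, hwQ⟩
    rw [Subgroup.orderOf_mk] at hj
    have hcen := h (u⁻¹ * v) ⟨j, hj⟩ (isConj_iff.mpr ⟨u, hreal⟩)
    exact Subgroup.mem_center_iff.mp hcen y
  · have hDlt : Nat.card D < n := by
      rw [← hcard]
      exact lt_of_not_ge (fun hge => hDeq (Subgroup.eq_of_le_of_card_ge hDQ hge))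
    have hyD : y ∈ Subgroup.normalizer (D : Set G) := by
      rw [← map_conj_eq_self_iff, hD, Subgroup.map_commutator]
      have e1 : Y.map (MulAut.conj y).toMonoidHom = Y :=
        (map_conj_eq_self_iff Y y).mpr (Subgroup.le_normalizer (Subgroup.mem_zpowers y))
      have e2 : Q.map (MulAut.conj y).toMonoidHom = Q := (map_conj_eq_self_iff Q y).mpr hyN
      rw [e1, e2]
    have := ih _ hDlt D rfl (hQ.to_le hDQ) y hyD hy
    intro u hu
    exact this _ (hwD u hu)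

/-- If every 2-element of the finite group G that is conjugate to its inverse lies in the centre of G, then G has a normal 2-complement. -/
theorem result {G : Type*} [Group G] [Finite G] (h : ∀ x : G, (∃ j : ℕ, orderOf x = 2 ^ j) → IsConj x x⁻¹ → x ∈ Subgroup.center G) : Cfsg.HasNormalPComplement 2 G := by
  haveI : Fact (Nat.Prime 2) := ⟨Nat.prime_two⟩
  have hF : FrobHyp 2 G := by
    intro Q hQ g hg hgp
    rw [Subgroup.mem_centralizer_iff]
    intro u hu
    exact (key h _ Q rfl hQ g hg hgp u hu).symm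
  obtain ⟨K, hKn, hc, hq⟩ := frob_hasNormalPComplement 2 _ G rfl hF
  haveI := hKn
  exact hasNormalPComplement_of_normal_hall 2 K hc hq

end Cfsg.Agent.S3862
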