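import Cfsg.Statements.S3863
import Cfsg.Agent.Lib.Helper7.Real

set_option autoImplicit false
open Cfsg

namespace Cfsg.Agent.S3863

open Cfsg.Agent.Lib.Helper7

theorem result {G : Type*} [Group G] [Finite G] (x : G) (hx : IsConj x x⁻¹) : (∃ t : G, (∃ j : ℕ, orderOf t = 2 ^ j) ∧ t * x * t⁻¹ = x⁻¹) ∧ (Odd (Subgroup.centralizer ({x} : Set G)).index → x ^ 2 = 1) ∧ ∀ (N : Subgroup G) [N.Normal], Odd N.index → ∃ hxN : x ∈ N, IsConj (⟨x, hxN⟩ : N) (⟨x, hxN⟩ : N)⁻¹ := by
  obtain ⟨t, ⟨j, hj⟩, ht⟩ := exists_two_element_inverting x hx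
  refine ⟨⟨t, ⟨j, hj⟩, ht⟩, ?_, ?_⟩
  · intro hodd
    apply sq_eq_one_of_real_of_odd_index x _ hx
    rw [← Nat.not_even_iff_odd] at hodd
    intro h2
    exact hodd (even_iff_two_dvd.2 h2)
  · intro N hN hodd
    have hcop2 : ∀ k : ℕ, (2 ^ k).Coprime N.index := by
      intro k
      apply Nat.Coprime.pow_left
      rw [Nat.coprime_two_left]
      exact hodd
    have htN : t ∈ N := by
      apply mem_of_orderOf_coprime_index
      rw [hj]; exact hcop2 j
    -- x̄² = 1 in G/N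
    have hxN : x ∈ N := by
      rw [← QuotientGroup.eq_one_iff, ← orderOf_eq_one_iff]
      have h1 : ((x : G ⧸ N)) ^ 2 = 1 := by
        have e1 : ((t * x * t⁻¹ : G) : G ⧸ N) = (x : G ⧸ N) := by
          have htq : ((t : G) : G ⧸ N) = 1 := (QuotientGroup.eq_one_iff t).2 htN
          simp [htq]
        rw [ht] at e1
        rw [pow_two]
        nth_rewrite 1 [← e1]
        simp
      have h2 : orderOf (x : G ⧸ N) ∣ 2 ^ 1 := by
        rw [pow_one]; exact orderOf_dvd_of_pow_eq_one h1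
      have h3 : orderOf (x : G ⧸ N) ∣ N.index := by
        rw [Subgroup.index_eq_card]; exact orderOf_dvd_natCard _
      exact Nat.eq_one_of_dvd_coprimes (hcop2 1) h2 h3
    refine ⟨hxN, ?_⟩
    rw [isConj_iff]
    refine ⟨⟨t, htN⟩, ?_⟩
    apply Subtype.ext
    simpa using ht

end Cfsg.Agent.S3863
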