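import Cfsg.Statements.S3866
import Cfsg.Agent.Lib.Helper7.CommSup

set_option autoImplicit false
open Cfsg

namespace Cfsg.Agent.S3866

open Cfsg.Agent.Lib.Helper7
open scoped commutatorElement

section
variable {G : Type*} [Group G]

theorem comm_mul (A : Subgroup G) [hn : A.Normal] (hA : IsMulCommutative A) (x : G)
    (a b : G) (ha : a ∈ A) (hb : b ∈ A) :
    x * (a * b) * x⁻¹ * (a * b)⁻¹ = (x * a * x⁻¹ * a⁻¹) * (x * b * x⁻¹ * b⁻¹) := by
  have hxb : x * b * x⁻¹ ∈ A := hn.conj_mem b hb x
  have hai : a⁻¹ ∈ A := A.inv_mem ha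
  have hbi : b⁻¹ ∈ A := A.inv_mem hb
  have hc : ∀ u v : G, u ∈ A → v ∈ A → u * v = v * u := by
    intro u v hu hv
    have := hA.is_comm.comm (⟨u, hu⟩ : A) ⟨v, hv⟩
    exact congrArg Subtype.val this
  have h1 : a⁻¹ * (x * b * x⁻¹ * b⁻¹) = (x * b * x⁻¹ * b⁻¹) * a⁻¹ :=
    hc _ _ hai (A.mul_mem hxb hbi)
  calc x * (a * b) * x⁻¹ * (a * b)⁻¹
      = (x * a * x⁻¹) * ((x * b * x⁻¹ * b⁻¹) * a⁻¹) := by group
    _ = (x * a * x⁻¹) * (a⁻¹ * (x * b * x⁻¹ * b⁻¹)) := by rw [h1]
    _ = _ := by group

/-- the commutator map as a hom -/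
noncomputable def phi (A : Subgroup G) [A.Normal] (hA : IsMulCommutative A) (x : G) : A →* G where
  toFun a := x * a * x⁻¹ * (a : G)⁻¹
  map_one' := by simp
  map_mul' a b := by
    simpa using comm_mul A hA x a b a.2 b.2

theorem phi_apply (A : Subgroup G) [A.Normal] (hA : IsMulCommutative A) (x : G) (a : A) :
    phi A hA x a = x * a * x⁻¹ * (a : G)⁻¹ := rfl

theorem range_le (A : Subgroup G) [hn : A.Normal] (hA : IsMulCommutative A) (x : G) :
    (phi A hA x).range ≤ A := by
  rintro _ ⟨a, rfl⟩
  rw [phi_apply]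
  exact A.mul_mem (hn.conj_mem a a.2 x) (A.inv_mem a.2)

theorem range_normal (A : Subgroup G) [hn : A.Normal] (hA : IsMulCommutative A) (x : G)
    (hgen : A ⊔ Subgroup.zpowers x = ⊤) : (phi A hA x).range.Normal := by
  have hc : ∀ u v : G, u ∈ A → v ∈ A → u * v = v * u := by
    intro u v hu hv
    have := hA.is_comm.comm (⟨u, hu⟩ : A) ⟨v, hv⟩
    exact congrArg Subtype.val this
  rw [← Subgroup.normalizer_eq_top_iff, eq_top_iff, ← hgen]
  apply sup_le
  · intro a ha
    rw [Subgroup.mem_normalizer_iff]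
    intro k
    constructor
    · intro hk
      have hkA := range_le A hA x hk
      have : a * k * a⁻¹ = k := by
        rw [hc a k ha hkA]; group
      rw [this]; exact hk
    · intro hk
      have hkA := range_le A hA x hk
      have hkA' : k ∈ A := by
        have := hn.conj_mem _ hkA a⁻¹
        simpa [mul_assoc] using this
      have : a * k * a⁻¹ = k := by
        rw [hc a k ha hkA']; group
      rw [← this]; exact hk
  · rw [Subgroup.zpowers_le, Subgroup.mem_normalizer_iff]
    intro k
    constructor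
    · rintro ⟨a, rfl⟩
      refine ⟨⟨x * a * x⁻¹, hn.conj_mem a a.2 x⟩, ?_⟩
      rw [phi_apply, phi_apply]
      simp only
      group
    · rintro ⟨a, ha⟩
      refine ⟨⟨x⁻¹ * a * x, by simpa using hn.conj_mem a a.2 x⁻¹⟩, ?_⟩
      rw [phi_apply] at *
      simp only
      have : k = x⁻¹ * (x * k * x⁻¹) * x := by group
      rw [this, ← ha]
      group

end

/-- Let A be a commutative normal subgroup of the finite group G with G generated by A and an element x. Then a ↦ x a x⁻¹ a⁻¹ is a surjective homomorphism from A onto the commutator subgroup of G whose kernel is the centralizer of x in A; in particular the commutator subgroup has order equal to the index in A of that centralizer. -/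
theorem result {G : Type*} [Group G] [Finite G] (A : Subgroup G) [A.Normal] (hA : IsMulCommutative A) (x : G) (hgen : A ⊔ Subgroup.zpowers x = ⊤) : (∀ a ∈ A, x * a * x⁻¹ * a⁻¹ ∈ commutator G) ∧ (∀ c ∈ commutator G, ∃ a ∈ A, x * a * x⁻¹ * a⁻¹ = c) ∧ (∀ a ∈ A, ∀ b ∈ A, x * (a * b) * x⁻¹ * (a * b)⁻¹ = (x * a * x⁻¹ * a⁻¹) * (x * b * x⁻¹ * b⁻¹)) ∧ Nat.card (commutator G) * Nat.card ↥(A ⊓ Subgroup.centralizer ({x} : Set G)) = Nat.card A := by
  have hc : ∀ u v : G, u ∈ A → v ∈ A → u * v = v * u := by
    intro u v hu hv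
    have := hA.is_comm.comm (⟨u, hu⟩ : A) ⟨v, hv⟩
    exact congrArg Subtype.val this
  have h1 : ∀ a ∈ A, x * a * x⁻¹ * a⁻¹ ∈ commutator G := by
    intro a _
    rw [commutator_def]
    have : x * a * x⁻¹ * a⁻¹ = ⁅x, a⁆ := by rw [commutatorElement_def]
    rw [this]
    exact Subgroup.commutator_mem_commutator (Subgroup.mem_top x) (Subgroup.mem_top a)
  haveI hKn : (phi A hA x).range.Normal := range_normal A hA x hgen
  have hKle : (phi A hA x).range ≤ commutator G := by
    rintro _ ⟨a, rfl⟩
    exact h1 a a.2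
  have hle : commutator G ≤ (phi A hA x).range := by
    rw [commutator_def]
    have e : (⊤ : Subgroup G) = A ⊔ Subgroup.zpowers x := hgen.symm
    have hAA : ⁅A, A⁆ ≤ (phi A hA x).range := by
      rw [Subgroup.commutator_le]
      intro a ha b hb
      have : ⁅a, b⁆ = 1 := by
        rw [commutatorElement_def, hc a b ha hb]; group
      rw [this]; exact Subgroup.one_mem _
    have hxx : ⁅Subgroup.zpowers x, Subgroup.zpowers x⁆ ≤ (phi A hA x).range := by
      rw [Subgroup.commutator_le]
      intro a ha b hb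
      obtain ⟨m, rfl⟩ := ha
      obtain ⟨n, rfl⟩ := hb
      have : ⁅x ^ m, x ^ n⁆ = 1 := by
        rw [commutatorElement_def]; group
      rw [this]; exact Subgroup.one_mem _
    have hxA : ⁅Subgroup.zpowers x, A⁆ ≤ (phi A hA x).range := by
      rw [commutator_le_iff_le_relCentralizer, Subgroup.zpowers_le]
      intro a ha
      exact ⟨⟨a, ha⟩, by rw [phi_apply, commutatorElement_def]⟩
    have hAx : ⁅A, Subgroup.zpowers x⁆ ≤ (phi A hA x).range := by
      rw [Subgroup.commutator_comm]; exact hxA
    conv_lhs => rw [e]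
    apply commutator_sup_left_le
    · exact commutator_sup_right_le _ _ _ _ hAA hAx
    · exact commutator_sup_right_le _ _ _ _ hxA hxx
  have hK : (phi A hA x).range = commutator G := le_antisymm hKle hle
  refine ⟨h1, ?_, fun a ha b hb => comm_mul A hA x a b ha hb, ?_⟩
  · intro c hcm
    obtain ⟨a, rfl⟩ := hle hcm
    exact ⟨a, a.2, rfl⟩
  · have hker : (phi A hA x).ker.map A.subtype = A ⊓ Subgroup.centralizer ({x} : Set G) := by
      ext g
      rw [Subgroup.mem_map, Subgroup.mem_inf]
      constructor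
      · rintro ⟨a, ha, rfl⟩
        refine ⟨a.2, ?_⟩
        rw [MonoidHom.mem_ker, phi_apply] at ha
        rw [Subgroup.mem_centralizer_iff]
        intro y hy
        rw [Set.mem_singleton_iff] at hy
        subst hy
        simp only [Subgroup.subtype_apply]
        have : y * (a : G) = (y * a * y⁻¹ * (a : G)⁻¹) * (a * y) := by group
        rw [this, ha, one_mul]
      · rintro ⟨hgA, hgc⟩
        refine ⟨⟨g, hgA⟩, ?_, rfl⟩
        rw [MonoidHom.mem_ker, phi_apply]
        rw [Subgroup.mem_centralizer_iff] at hgc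
        have := hgc x rfl
        simp only
        rw [this]; group
    rw [← hK, ← hker, Subgroup.card_map_of_injective A.subtype_injective,
      ← Subgroup.index_ker, mul_comm]
    exact Subgroup.card_mul_index _

end Cfsg.Agent.S3866
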