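import Cfsg.Statements.S3867
import Cfsg.Agent.Lib.Helper7.SylowQuot

set_option autoImplicit false
open Cfsg

namespace Cfsg.Agent.S3867

open Cfsg.Agent.Lib.Helper7

/-- Let M and N be nontrivial normal subgroups of the finite group G with M ⊓ N trivial, and let p be a prime. Writing n(X) for the number of Sylow p-subgroups of a group X, one has n(G) · n(G/MN) = n(G/M) · n(G/N). -/
theorem result {G : Type*} [Group G] [Finite G] (p : ℕ) [Fact p.Prime] (M N : Subgroup G) [M.Normal] [N.Normal] (hM : M ≠ ⊥) (hN : N ≠ ⊥) (hMN : M ⊓ N = ⊥) : Nat.card (Sylow p G) * Nat.card (Sylow p (G ⧸ (M ⊔ N))) = Nat.card (Sylow p (G ⧸ M)) * Nat.card (Sylow p (G ⧸ N)) := by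
  obtain ⟨P⟩ : Nonempty (Sylow p G) := inferInstance
  set H : Subgroup G := Subgroup.normalizer ((P : Subgroup G) : Set G) with hH
  have h0 : Nat.card (Sylow p G) = H.index := P.card_eq_index_normalizer
  rw [card_sylow_quotient P M, card_sylow_quotient P N, card_sylow_quotient P (M ⊔ N), h0, ← hH]
  have hD : (H ⊔ N) ⊓ M = H ⊓ M := by
    apply le_antisymm
    · intro m hm
      rw [Subgroup.mem_inf] at hm
      obtain ⟨hm1, hm2⟩ := hm
      refine Subgroup.mem_inf.mpr ⟨?_, hm2⟩
      rw [hH, ← normalizer_sylow_sup_normal] at hm1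
      have hm3 : m ∈ Subgroup.normalizer (((P : Subgroup G) ⊔ M : Subgroup G) : Set G) :=
        Subgroup.le_normalizer (Subgroup.mem_sup_right hm2)
      have := normalizer_inf_le_normalizer_inf _ _ (Subgroup.mem_inf.mpr ⟨hm3, hm1⟩)
      rw [sylow_sup_inf_sup_eq P M N hMN] at this
      exact this
    · exact inf_le_inf_right _ le_sup_left
  have e1 : H.index = H.relIndex M * (H ⊔ M).index := by
    rw [← relIndex_sup_of_normal, Subgroup.relIndex_mul_index le_sup_left]
  have e2 : (H ⊔ N).index = H.relIndex M * (H ⊔ (M ⊔ N)).index := by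
    have : H ⊔ (M ⊔ N) = (H ⊔ N) ⊔ M := by
      rw [sup_comm M N, sup_assoc]
    rw [this, ← Subgroup.inf_relIndex_right H M, ← hD, Subgroup.inf_relIndex_right,
      ← relIndex_sup_of_normal, Subgroup.relIndex_mul_index le_sup_left]
  rw [e2]
  conv_lhs => rw [e1]
  ring

end Cfsg.Agent.S3867
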