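import Cfsg.Statements.S3869
import Mathlib
import Cfsg.Agent.Lib.Helper2.IrrPrimeGroup
-- import your own Cfsg.Agent.* helpers here

set_option autoImplicit false
open Cfsg

namespace Cfsg.Agent.S3869

theorem isPClosed_of_isPGroup {H : Type*} [Group H] {p : ℕ} (h : IsPGroup p H) :
    Cfsg.IsPClosed p H := by
  intro P
  have h1 : (⊤ : Subgroup H) = P.1 := P.is_maximal' (IsPGroup.to_subgroup h ⊤) le_top
  rw [← h1]; infer_instance

theorem isPClosed_of_not_dvd {H : Type*} [Group H] [Finite H] {p : ℕ} [Fact p.Prime]
    (h : ¬ p ∣ Nat.card H) : Cfsg.IsPClosed p H := by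
  intro P
  obtain ⟨n, hn⟩ := IsPGroup.exists_card_eq P.2
  have hdvd : Nat.card (P : Subgroup H) ∣ Nat.card H := Subgroup.card_subgroup_dvd_card _
  have hn0 : n = 0 := by
    by_contra hne
    apply h
    refine dvd_trans ?_ hdvd
    rw [hn]; exact dvd_pow_self p hne
  rw [hn0, pow_zero] at hn
  have : (P : Subgroup H) = ⊥ := Subgroup.card_eq_one.1 hn
  rw [this]; infer_instance

/-- Let p and q be distinct primes and G a finite non-abelian group with a normal elementary abelian q-subgroup A that is a minimal normal subgroup of G and has index p. Then A has order q^e with e the multiplicative order of q modulo p, and G is minimal non-p-closed: its Sylow p-subgroups are not normal, while in every proper subgroup and in every proper quotient of G the Sylow p-subgroups are normal. -/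
theorem result {G : Type*} [Group G] [Finite G] {p q : ℕ} [Fact p.Prime] (hq : q.Prime) (hpq : q ≠ p)
    (hna : ¬ IsMulCommutative G) (A : Subgroup G) [A.Normal] (hA : Cfsg.IsElementaryAbelian q A) (hidx : A.index = p)
    (hmin : ∀ B : Subgroup G, B.Normal → B ≤ A → B = ⊥ ∨ B = A) :
    Nat.card ↥A = q ^ orderOf (q : ZMod p) ∧ ¬ Cfsg.IsPClosed p G ∧ (∀ H : Subgroup G, H ≠ ⊤ → Cfsg.IsPClosed p ↥H) ∧
      ∀ (N : Subgroup G) [N.Normal], N ≠ ⊥ → Cfsg.IsPClosed p (G ⧸ N) := by
  classical
  haveI : Fact q.Prime := ⟨hq⟩
  have hp : p.Prime := Fact.out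
  have hAn : A.Normal := inferInstance
  obtain ⟨hAc, hAq⟩ := hA
  have hcard : Nat.card A * p = Nat.card G := by rw [← hidx]; exact A.card_mul_index
  -- `A` is nontrivial
  have hA1 : A ≠ ⊥ := by
    intro h
    rw [h, Subgroup.card_bot, one_mul] at hcard
    haveI : IsCyclic G := isCyclic_of_prime_card hcard.symm
    exact hna IsCyclic.isMulCommutative
  -- any subgroup not inside `A` supplements `A`
  have hsupH : ∀ H : Subgroup G, ¬ H ≤ A → A ⊔ H = ⊤ := by
    intro H hH
    have hle : A ≤ A ⊔ H := le_sup_left
    have hdvd : (A ⊔ H).index ∣ p := by rw [← hidx]; exact Subgroup.index_dvd_of_le hle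
    rcases (Nat.dvd_prime hp).1 hdvd with h1 | h1
    · exact Subgroup.index_eq_one.1 h1
    · exfalso
      have h2 := Subgroup.relIndex_mul_index hle
      rw [h1, hidx] at h2
      have h3 : A.relIndex (A ⊔ H) = 1 := by
        have : A.relIndex (A ⊔ H) * p = 1 * p := by rw [h2, one_mul]
        exact Nat.eq_of_mul_eq_mul_right hp.pos this
      exact hH (le_trans le_sup_right (Subgroup.relIndex_eq_one.1 h3))
  -- an element outside `A` cannot centralize `A`
  have hcent : ∀ y : G, y ∉ A → (∀ a ∈ A, y * a = a * y) → False := by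
    intro y hy hya
    have hsup := hsupH (Subgroup.zpowers y) (fun h => hy (h (Subgroup.mem_zpowers y)))
    have key : ∀ z : G, (∀ a ∈ A, z * a = a * z) → z * y = y * z → z ∈ Subgroup.center G := by
      intro z hz hzy
      have h1 : A ⊔ Subgroup.zpowers y ≤ Subgroup.centralizer {z} := by
        apply sup_le
        · intro a ha
          rw [Subgroup.mem_centralizer_singleton_iff]
          exact (hz a ha).symm
        · rw [Subgroup.zpowers_le, Subgroup.mem_centralizer_singleton_iff]
          exact hzy.symm
      rw [Subgroup.mem_center_iff]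
      intro g
      have hg : g ∈ Subgroup.centralizer {z} := h1 (hsup ▸ Subgroup.mem_top g)
      rw [Subgroup.mem_centralizer_singleton_iff] at hg
      exact hg
    have hAZ : A ≤ Subgroup.center G := by
      intro a ha
      apply key a
      · intro b hb
        exact congrArg Subtype.val (hAc.is_comm.comm ⟨a, ha⟩ ⟨b, hb⟩)
      · exact (hya a ha).symm
    have hyZ : y ∈ Subgroup.center G := key y hya rfl
    have hZ : Subgroup.center G = ⊤ := by
      rw [eq_top_iff, ← hsup]
      exact sup_le hAZ (Subgroup.zpowers_le.2 hyZ)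
    apply hna
    refine ⟨⟨fun a b => ?_⟩⟩
    have hb : b ∈ Subgroup.center G := hZ ▸ Subgroup.mem_top b
    exact Subgroup.mem_center_iff.1 hb a
  -- an element of order `p`
  obtain ⟨x, hx⟩ := exists_prime_orderOf_dvd_card' (G := G) p (Dvd.intro_left _ hcard)
  have hxp : x ^ p = 1 := by rw [← hx]; exact pow_orderOf_eq_one x
  have hxA : x ∉ A := by
    intro h
    have h1 : orderOf x ∣ q := orderOf_dvd_of_pow_eq_one (hAq x h)
    rw [hx] at h1
    exact hpq ((Nat.prime_dvd_prime_iff_eq hp hq).1 h1).symm
  have hxnc : ∃ a ∈ A, x * a ≠ a * x := by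
    by_contra hcon
    push Not at hcon
    exact hcent x hxA hcon
  have hcardA : Nat.card ↥A = q ^ orderOf (q : ZMod p) :=
    Cfsg.Agent.Lib.Helper2.card_minimal_normal_of_prime_index (Ne.symm hpq) A hAc hAq hA1 hmin x
      hxp (hsupH _ (fun h => hxA (h (Subgroup.mem_zpowers x)))) hxnc
  have hAqg : IsPGroup q A := by
    intro a
    refine ⟨1, ?_⟩
    apply Subtype.ext
    rw [pow_one, Subgroup.coe_pow]
    exact hAq a.1 a.2
  refine ⟨hcardA, ?_, ?_, ?_⟩
  · intro hcl
    have hzp : IsPGroup p (Subgroup.zpowers x) :=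
      IsPGroup.of_card (n := 1) (by rw [Nat.card_zpowers, hx, pow_one])
    obtain ⟨P, hP⟩ := hzp.exists_le_sylow
    have hPn : (P : Subgroup G).Normal := hcl P
    have hdisj : Disjoint (P : Subgroup G) A :=
      IsPGroup.disjoint_of_ne p q (Ne.symm hpq) _ _ P.2 hAqg
    apply hcent x hxA
    intro a ha
    exact (Subgroup.commute_of_normal_of_disjoint _ _ hPn hAn hdisj x a
      (hP (Subgroup.mem_zpowers x)) ha).eq
  · intro H hH
    by_cases hpH : p ∣ Nat.card H
    · have hHA : ¬ H ≤ A := by
        intro hle
        have h1 : p ∣ Nat.card A := dvd_trans hpH (Subgroup.card_dvd_of_le hle)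
        rw [hcardA] at h1
        have h2 := hp.dvd_of_dvd_pow h1
        exact hpq ((Nat.prime_dvd_prime_iff_eq hp hq).1 h2).symm
      have hsup : A ⊔ H = ⊤ := hsupH H hHA
      have hn : (H ⊓ A).Normal := by
        have h1 : A ≤ Subgroup.normalizer ((H ⊓ A : Subgroup G) : Set G) := by
          apply Cfsg.Agent.Lib.Helper2.le_normalizer_of_commute
          intro a ha b hb
          exact congrArg Subtype.val (hAc.is_comm.comm ⟨a, ha⟩ ⟨b, hb.2⟩)
        have h2 : H ≤ Subgroup.normalizer ((H ⊓ A : Subgroup G) : Set G) := by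
          intro h hh
          rw [Subgroup.mem_normalizer_iff]
          intro b
          constructor
          · rintro ⟨hb1, hb2⟩
            exact ⟨H.mul_mem (H.mul_mem hh hb1) (H.inv_mem hh), hAn.conj_mem b hb2 h⟩
          · rintro ⟨hb1, hb2⟩
            have e : h⁻¹ * (h * b * h⁻¹) * h = b := by group
            constructor
            · rw [← e]; exact H.mul_mem (H.mul_mem (H.inv_mem hh) hb1) hh
            · rw [← e]; have := hAn.conj_mem _ hb2 h⁻¹; simpa using this
        have : Subgroup.normalizer ((H ⊓ A : Subgroup G) : Set G) = ⊤ := by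
          rw [eq_top_iff, ← hsup]; exact sup_le h1 h2
        exact Subgroup.normalizer_eq_top_iff.1 this
      rcases hmin (H ⊓ A) hn inf_le_right with hbot | hAll
      · have hc := Cfsg.Agent.Lib.Helper2.card_sup_mul_card_inf H A
          (by rw [Subgroup.normalizer_eq_top]; exact le_top)
        rw [sup_comm, hsup, hbot, Subgroup.card_top, Subgroup.card_bot, mul_one, ← hcard] at hc
        have hHp : p = Nat.card H := by
          have hApos : 0 < Nat.card A := Nat.card_pos
          exact Nat.eq_of_mul_eq_mul_left hApos (by rw [hc, mul_comm])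
        exact isPClosed_of_isPGroup (IsPGroup.of_card (n := 1) (by rw [← hHp, pow_one]))
      · exfalso
        apply hH
        have hAH : A ≤ H := by rw [← hAll]; exact inf_le_left
        rw [← hsup]
        exact (sup_eq_right.2 hAH).symm
    · exact isPClosed_of_not_dvd hpH
  · intro N hN hN1
    rcases hmin (N ⊓ A) inferInstance inf_le_right with h | h
    · exfalso
      obtain ⟨⟨n, hn⟩, hn1⟩ := (Subgroup.ne_bot_iff_exists_ne_one).1 hN1
      have hnA : n ∉ A := by
        intro hnA
        have : n ∈ N ⊓ A := ⟨hn, hnA⟩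
        rw [h, Subgroup.mem_bot] at this
        exact hn1 (Subtype.ext this)
      apply hcent n hnA
      intro a ha
      exact (Subgroup.commute_of_normal_of_disjoint N A hN hAn (disjoint_iff.2 h) n a hn ha).eq
    · have hAN : A ≤ N := by rw [← h]; exact inf_le_left
      apply isPClosed_of_isPGroup
      have hdvd : N.index ∣ p := by rw [← hidx]; exact Subgroup.index_dvd_of_le hAN
      rw [Subgroup.index_eq_card] at hdvd
      rcases (Nat.dvd_prime hp).1 hdvd with h1 | h1
      · exact IsPGroup.of_card (n := 0) (by rw [h1, pow_zero])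
      · exact IsPGroup.of_card (n := 1) (by rw [h1, pow_one])

end Cfsg.Agent.S3869
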