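import Cfsg.Statements.S3868
import Mathlib
import Cfsg.Agent.S3869
import Cfsg.Agent.Lib.Helper2.MinNonPClosed
-- import your own Cfsg.Agent.* helpers here

set_option autoImplicit false
open Cfsg

namespace Cfsg.Agent.S3868

open Cfsg.Agent.Lib.Helper2

theorem normal_of_isPClosed {X : Type*} [Group X] [Finite X] {p : ℕ} [Fact p.Prime]
    (hcl : Cfsg.IsPClosed p X) (S : Subgroup X) (hS : IsPGroup p S) (hidx : ¬ p ∣ S.index) :
    S.Normal := by
  have h := hcl (hS.toSylow hidx)
  rwa [IsPGroup.toSylow_coe] at h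

theorem map_sylow_normal {G : Type*} [Group G] [Finite G] {p : ℕ} [Fact p.Prime]
    (M : Subgroup G) [M.Normal] (hM : Cfsg.IsPClosed p ↥M) (R : Sylow p ↥M) :
    ((R : Subgroup ↥M).map M.subtype).Normal := by
  have hR : (R : Subgroup ↥M).Normal := hM R
  have h1 := Sylow.normalizer_sup_eq_top R
  have h2 : M ≤ Subgroup.normalizer (((R : Subgroup ↥M).map M.subtype : Subgroup G) : Set G) := by
    have h3 := Subgroup.le_normalizer_map (H := (R : Subgroup ↥M)) M.subtype
    rw [Subgroup.normalizer_eq_top, ← MonoidHom.range_eq_map, Subgroup.range_subtype] at h3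
    exact h3
  rw [sup_eq_left.2 h2] at h1
  exact Subgroup.normalizer_eq_top_iff.1 h1

/-- Structure of the non-simple minimal non-p-closed groups. Call a finite group p-closed when its Sylow p-subgroups are normal, and minimal non-p-closed when it is not p-closed but every proper subgroup and every proper quotient is. If such a group G is not simple, then there is a prime q ≠ p such that G has order p · q^e, where e is the multiplicative order of q modulo p, and G has a normal subgroup A of order q^e that is elementary abelian and is a minimal normal subgroup of G (so G is the semidirect product of A by a group of order p acting irreducibly). -/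
theorem result {G : Type*} [Group G] [Finite G] {p : ℕ} [Fact p.Prime]
    (hnc : ¬ Cfsg.IsPClosed p G) (hsub : ∀ H : Subgroup G, H ≠ ⊤ → Cfsg.IsPClosed p ↥H)
    (hquo : ∀ (N : Subgroup G) [N.Normal], N ≠ ⊥ → Cfsg.IsPClosed p (G ⧸ N)) (hns : ¬ IsSimpleGroup G) :
    ∃ q : ℕ, q.Prime ∧ q ≠ p ∧ Nat.card G = p * q ^ orderOf (q : ZMod p) ∧
      ∃ A : Subgroup G, A.Normal ∧ Nat.card ↥A = q ^ orderOf (q : ZMod p) ∧ Cfsg.IsElementaryAbelian q A ∧
        ∀ B : Subgroup G, B.Normal → B ≤ A → B = ⊥ ∨ B = A := by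
  classical
  have hp : p.Prime := Fact.out
  have hnt : Nontrivial G := by
    by_contra h
    rw [not_nontrivial_iff_subsingleton] at h
    apply hnc
    apply Cfsg.Agent.S3869.isPClosed_of_isPGroup
    intro g; exact ⟨0, Subsingleton.elim _ _⟩
  have hex : ∃ H : Subgroup G, H.Normal ∧ H ≠ ⊥ ∧ H ≠ ⊤ := by
    by_contra hcon
    push Not at hcon
    apply hns
    have h2 : ∀ H : Subgroup G, H.Normal → H = ⊥ ∨ H = ⊤ := by
      intro H hH
      by_cases h : H = ⊥
      · exact Or.inl h
      · exact Or.inr (hcon H hH h)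
    exact ⟨h2⟩
  obtain ⟨A, ⟨hAn, hA1, hAtop⟩, hAmin⟩ :=
    Set.exists_min_image {H : Subgroup G | H.Normal ∧ H ≠ ⊥ ∧ H ≠ ⊤} (fun H => Nat.card H)
      (Set.toFinite _) hex
  have hmin : ∀ B : Subgroup G, B.Normal → B ≤ A → B = ⊥ ∨ B = A := by
    intro B hBn hBA
    by_cases hB : B = ⊥
    · exact Or.inl hB
    · right
      have hBtop : B ≠ ⊤ := by
        rintro rfl
        exact hAtop (top_le_iff.1 hBA)
      have h3 := hAmin B ⟨hBn, hB, hBtop⟩
      exact Subgroup.eq_of_le_of_card_ge hBA h3
  haveI := hAn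
  obtain ⟨P, hPnn⟩ := not_forall.1 hnc
  have hπ : Function.Surjective (QuotientGroup.mk' A) := QuotientGroup.mk'_surjective A
  have hbar : ((P.mapSurjective hπ : Sylow p (G ⧸ A)) : Subgroup (G ⧸ A)).Normal :=
    hquo A hA1 _
  rw [Sylow.coe_mapSurjective] at hbar
  have hMn : (((P : Subgroup G).map (QuotientGroup.mk' A)).comap (QuotientGroup.mk' A)).Normal :=
    hbar.comap _
  rw [Subgroup.comap_map_eq, QuotientGroup.ker_mk'] at hMn
  have hsup : (P : Subgroup G) ⊔ A = ⊤ := by
    by_contra hne
    apply hPnn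
    haveI := hMn
    have hcl := hsub _ hne
    have hPM : (P : Subgroup G) ≤ (P : Subgroup G) ⊔ A := le_sup_left
    have h4 := map_sylow_normal ((P : Subgroup G) ⊔ A) hcl (P.subtype hPM)
    rw [Sylow.coe_subtype, Subgroup.map_subgroupOf_eq_of_le hPM] at h4
    exact h4
  have hAnp : ¬ IsPGroup p A := by
    intro hAp
    apply hnc
    apply Cfsg.Agent.S3869.isPClosed_of_isPGroup
    have h1 : IsPGroup p ((P : Subgroup G) ⊔ A : Subgroup G) :=
      IsPGroup.to_sup_of_normal_right P.2 hAp
    rw [hsup] at h1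
    intro g
    obtain ⟨k, hk⟩ := h1 ⟨g, Subgroup.mem_top g⟩
    exact ⟨k, by simpa using congrArg Subtype.val hk⟩
  have hpA : ¬ p ∣ Nat.card A := by
    have hAcl := hsub A hAtop
    obtain ⟨R⟩ : Nonempty (Sylow p ↥A) := inferInstance
    have hRn := map_sylow_normal A hAcl R
    rcases hmin _ hRn (Subgroup.map_subtype_le _) with h | h
    · have hR : (R : Subgroup ↥A) = ⊥ :=
        (Subgroup.map_eq_bot_iff_of_injective _ A.subtype_injective).1 h
      have h5 := R.not_dvd_index
      rwa [hR, Subgroup.index_bot] at h5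
    · exfalso
      apply hAnp
      have h6 : IsPGroup p ((R : Subgroup ↥A).map A.subtype) := R.2.map A.subtype
      rw [h] at h6
      exact h6
  have hH : ∀ S L : Subgroup G, S ≤ (P : Subgroup G) → L ≤ A →
      S ≤ Subgroup.normalizer (L : Set G) → S ⊔ L ≠ ⊤ →
      L ≤ Subgroup.normalizer (S : Set G) := by
    intro S L hSP hLA hSL hne
    have hcl := hsub _ hne
    have hSE : S ≤ S ⊔ L := le_sup_left
    have hSp : IsPGroup p (S.subgroupOf (S ⊔ L)) := (P.2.to_le hSP).comap_subtype
    have hidx : ¬ p ∣ (S.subgroupOf (S ⊔ L)).index := by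
      show ¬ p ∣ S.relIndex (S ⊔ L)
      rw [relIndex_sup_of_le_normalizer S L hSL]
      intro hdvd
      apply hpA
      exact dvd_trans hdvd (dvd_trans (Subgroup.relIndex_dvd_card S L)
        (Subgroup.card_dvd_of_le hLA))
    have hn := normal_of_isPClosed hcl _ hSp hidx
    have h7 := (Subgroup.normal_subgroupOf_iff_le_normalizer hSE).1 hn
    exact le_trans le_sup_right h7
  have hK : ¬ A ≤ Subgroup.centralizer ((P : Subgroup G) : Set G) := by
    intro h
    apply hPnn
    have h1 : A ≤ Subgroup.normalizer ((P : Subgroup G) : Set G) :=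
      le_trans h (Subgroup.centralizer_le_normalizer _)
    have h2 : Subgroup.normalizer ((P : Subgroup G) : Set G) = ⊤ := by
      rw [eq_top_iff, ← hsup]; exact sup_le Subgroup.le_normalizer h1
    exact Subgroup.normalizer_eq_top_iff.1 h2
  have hJ : ∀ S : Subgroup G, S.Normal → S ≤ (P : Subgroup G) → S = ⊥ := by
    intro S hSn hSP
    by_contra hS1
    apply hPnn
    haveI := hSn
    have hπ' : Function.Surjective (QuotientGroup.mk' S) := QuotientGroup.mk'_surjective S
    have hb : ((P.mapSurjective hπ' : Sylow p (G ⧸ S)) : Subgroup (G ⧸ S)).Normal :=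
      hquo S hS1 _
    rw [Sylow.coe_mapSurjective] at hb
    have h2 := hb.comap (QuotientGroup.mk' S)
    rw [Subgroup.comap_map_eq, QuotientGroup.ker_mk', sup_eq_left.2 hSP] at h2
    exact h2
  obtain ⟨q, hq, hqp, hea, hidx⟩ :=
    core_min_non_closed (P : Subgroup G) A P.2 hA1 hmin hpA hsup hH hK hJ
  have hna : ¬ IsMulCommutative G := by
    intro hc
    apply hK
    intro a _
    refine Subgroup.mem_centralizer_iff.2 ?_
    intro x _
    exact hc.is_comm.comm x a
  have h := Cfsg.Agent.S3869.result hq hqp hna A hea hidx hmin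
  refine ⟨q, hq, hqp, ?_, A, hAn, h.1, hea, hmin⟩
  rw [← A.card_mul_index, hidx, h.1, mul_comm]

end Cfsg.Agent.S3868
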