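import Cfsg.Statements.S3870
import Cfsg.Agent.Lib.Helper7.PGroupNormalizer
import Cfsg.Agent.Lib.Helper7.SylowBasic

set_option autoImplicit false
open Cfsg

namespace Cfsg.Agent.S3870

open Cfsg.Agent.Lib.Helper7

theorem claim1 {G : Type*} [Group G] [Finite G] [IsSimpleGroup G] {p : ℕ} [Fact p.Prime]
    (hsub : ∀ H : Subgroup G, H ≠ ⊤ → Cfsg.IsPClosed p ↥H) :
    ∀ P Q : Sylow p G, P ≠ Q → (P : Subgroup G) ⊓ (Q : Subgroup G) = ⊥ := by
  by_contra hcon
  push_neg at hcon
  obtain ⟨P0, Q0, hne0, hD0⟩ := hcon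
  let T := {PQ : Sylow p G × Sylow p G // PQ.1 ≠ PQ.2 ∧ (PQ.1 : Subgroup G) ⊓ PQ.2 ≠ ⊥}
  haveI : Nonempty T := ⟨⟨(P0, Q0), hne0, hD0⟩⟩
  obtain ⟨⟨⟨P, Q⟩, hne, hD⟩, hmax⟩ := Finite.exists_max
    (fun t : T => Nat.card ((t.1.1 : Subgroup G) ⊓ t.1.2 : Subgroup G))
  simp only at hne hD hmax
  set D : Subgroup G := (P : Subgroup G) ⊓ Q with hDdef
  set N : Subgroup G := Subgroup.normalizer (D : Set G) with hNdef
  have hDP : D < (P : Subgroup G) := by
    refine lt_of_le_of_ne inf_le_left ?_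
    intro h
    apply hne
    have hle : (P : Subgroup G) ≤ Q := by rw [← h]; exact inf_le_right
    exact Sylow.ext (P.is_maximal' Q.isPGroup' hle).symm
  have hDQ : D < (Q : Subgroup G) := by
    refine lt_of_le_of_ne inf_le_right ?_
    intro h
    apply hne
    have hle : (Q : Subgroup G) ≤ P := by rw [← h]; exact inf_le_left
    exact Sylow.ext (Q.is_maximal' P.isPGroup' hle)
  have hNtop : N ≠ ⊤ := by
    intro h
    have hn : D.Normal := Subgroup.normalizer_eq_top_iff.mp h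
    rcases hn.eq_bot_or_eq_top with h1 | h1
    · exact hD h1
    · exact (lt_of_lt_of_le hDP le_top).ne h1
  have hcl := hsub N hNtop
  obtain ⟨S⟩ : Nonempty (Sylow p N) := inferInstance
  haveI : (S : Subgroup N).Normal := hcl S
  obtain ⟨R, hR⟩ := (S.isPGroup'.map N.subtype).exists_le_sylow
  have hsub' : ∀ P' : Sylow p G, D < (P' : Subgroup G) → D ≤ (R : Subgroup G) ⊓ P' ∧
      ∃ x, x ∈ (R : Subgroup G) ⊓ P' ∧ x ∉ D := by
    intro P' hDP'
    obtain ⟨x, hxP, hxN, hxD⟩ := exists_mem_normalizer_not_mem (P' : Subgroup G) D P'.isPGroup' hDP'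
    have hK : IsPGroup p (((P' : Subgroup G) ⊓ N).subgroupOf N) :=
      (P'.isPGroup'.to_le inf_le_left).comap_subtype
    have hKS := le_sylow_of_normal_sylow S _ hK
    have hKR : (P' : Subgroup G) ⊓ N ≤ R := by
      intro z hz
      have hzN : z ∈ N := hz.2
      have : (⟨z, hzN⟩ : N) ∈ ((P' : Subgroup G) ⊓ N).subgroupOf N := by
        rw [Subgroup.mem_subgroupOf]; exact hz
      exact hR ⟨⟨z, hzN⟩, hKS this, rfl⟩
    refine ⟨?_, x, ⟨hKR ⟨hxP, hxN⟩, hxP⟩, hxD⟩
    intro z hz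
    exact ⟨hKR ⟨hDP'.le hz, Subgroup.le_normalizer hz⟩, hDP'.le hz⟩
  have hRP : ∀ P' : Sylow p G, D < (P' : Subgroup G) → R = P' := by
    intro P' hDP'
    by_contra hne'
    obtain ⟨hle, x, hx, hxD⟩ := hsub' P' hDP'
    have hnb : (R : Subgroup G) ⊓ P' ≠ ⊥ := by
      intro h
      rw [h] at hle
      exact hD (le_bot_iff.mp hle)
    have h1 := hmax ⟨(R, P'), hne', hnb⟩
    simp only at h1
    have h2 := Subgroup.eq_of_le_of_card_ge hle h1
    rw [← h2] at hx
    exact hxD hx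
  exact hne ((hRP P hDP).symm.trans (hRP Q hDQ))

/-- Let G be a finite simple group whose Sylow p-subgroups are not normal but such that every proper subgroup of G has a normal Sylow p-subgroup. Then any two distinct Sylow p-subgroups of G intersect trivially, and for every Sylow p-subgroup P the normalizer of every non-identity subgroup of P lies in the normalizer of P. -/
theorem result {G : Type*} [Group G] [Finite G] [IsSimpleGroup G] {p : ℕ} [Fact p.Prime]
    (hnc : ¬ Cfsg.IsPClosed p G) (hsub : ∀ H : Subgroup G, H ≠ ⊤ → Cfsg.IsPClosed p ↥H) :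
    (∀ P Q : Sylow p G, P ≠ Q → (P : Subgroup G) ⊓ (Q : Subgroup G) = ⊥) ∧
      ∀ (P : Sylow p G) (R : Subgroup G), R ≤ P → R ≠ ⊥ →
        Subgroup.normalizer (R : Set G) ≤ Subgroup.normalizer ((P : Subgroup G) : Set G) := by
  have h1 := claim1 hsub
  refine ⟨h1, ?_⟩
  intro P R hRP hR g hg
  have : g • P = P := by
    by_contra hne
    have h2 := h1 (g • P) P hne
    apply hR
    rw [← le_bot_iff, ← h2]
    intro r hr
    refine ⟨?_, hRP hr⟩
    show r ∈ (g • P : Sylow p G)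
    rw [mem_sylow_smul]
    apply hRP
    have hg' : g⁻¹ ∈ Subgroup.normalizer (R : Set G) := Subgroup.inv_mem _ hg
    rw [Subgroup.mem_normalizer_iff] at hg'
    have := (hg' r).mp hr
    simpa using this
  exact Sylow.smul_eq_iff_mem_normalizer.mp this

end Cfsg.Agent.S3870
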