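import Cfsg.Statements.S3873
import Mathlib
import Cfsg.Agent.S3869
import Cfsg.Agent.Lib.Helper2.MinNonPClosed
-- import your own Cfsg.Agent.* helpers here

set_option autoImplicit false
open Cfsg

namespace Cfsg.Agent.S3873

open Cfsg.Agent.Lib.Helper2

theorem pec_of_sub {G : Type*} [Group G] {p : ℕ} (K : Subgroup G)
    (hK : ∀ g : G, g ^ p = 1 → g ∈ K)
    (h : ∃ H : Subgroup ↥K, (H : Set ↥K) = {g : ↥K | g ^ p = 1}) :
    ∃ H : Subgroup G, (H : Set G) = {g : G | g ^ p = 1} := by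
  obtain ⟨H, hH⟩ := h
  have hmem : ∀ x : ↥K, x ∈ H ↔ x ^ p = 1 := fun x => by rw [← SetLike.mem_coe, hH]; rfl
  refine ⟨H.map K.subtype, ?_⟩
  ext g
  rw [SetLike.mem_coe, Subgroup.mem_map, Set.mem_setOf_eq]
  constructor
  · rintro ⟨x, hx, rfl⟩
    have h2 := congrArg Subtype.val ((hmem x).1 hx)
    simpa using h2
  · intro hg
    exact ⟨⟨g, hK g hg⟩, (hmem _).2 (Subtype.ext (by simpa using hg)), rfl⟩

/-- Say that a finite group is p-exponent closed when its elements of order dividing p form a subgroup. Let G be a finite group that is not p-exponent closed, but all of whose proper subgroups and proper quotients are, and suppose G is neither simple nor a p-group. Then there is a prime q ≠ p such that G has order p · q^e, where e is the multiplicative order of q modulo p, and G has a normal elementary abelian subgroup of order q^e that is a minimal normal subgroup of G. -/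
theorem result {G : Type*} [Group G] [Finite G] {p : ℕ} [Fact p.Prime]
    (hnc : ¬ (∃ H : Subgroup G, (H : Set G) = {g : G | g ^ p = 1})) (hsub : ∀ K : Subgroup G, K ≠ ⊤ → (∃ H : Subgroup ↥K, (H : Set ↥K) = {g : ↥K | g ^ p = 1}))
    (hquo : ∀ (N : Subgroup G) [N.Normal], N ≠ ⊥ → (∃ H : Subgroup (G ⧸ N), (H : Set (G ⧸ N)) = {g : (G ⧸ N) | g ^ p = 1}))
    (hns : ¬ IsSimpleGroup G) (hnp : ¬ IsPGroup p G) :
    ∃ q : ℕ, q.Prime ∧ q ≠ p ∧ Nat.card G = p * q ^ orderOf (q : ZMod p) ∧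
      ∃ A : Subgroup G, A.Normal ∧ Nat.card ↥A = q ^ orderOf (q : ZMod p) ∧ Cfsg.IsElementaryAbelian q A ∧
        ∀ B : Subgroup G, B.Normal → B ≤ A → B = ⊥ ∨ B = A := by
  classical
  have hp : p.Prime := Fact.out
  have hA : ∀ (N : Subgroup G) [N.Normal], N ≠ ⊥ → ∀ g : G, g ^ p ∈ N := by
    intro N hNn hN1 g
    obtain ⟨Ω, hΩ⟩ := hquo N hN1
    have hΩmem : ∀ x : G ⧸ N, x ∈ Ω ↔ x ^ p = 1 := fun x => by
      rw [← SetLike.mem_coe, hΩ]; rfl
    set T : Subgroup G := Ω.comap (QuotientGroup.mk' N) with hT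
    have hTall : ∀ g : G, g ^ p = 1 → g ∈ T := by
      intro g hg
      rw [hT, Subgroup.mem_comap, hΩmem, ← map_pow, hg, map_one]
    have hTtop : T = ⊤ := by
      by_contra hne
      exact hnc (pec_of_sub T hTall (hsub T hne))
    have hgT : g ∈ T := hTtop ▸ Subgroup.mem_top g
    rw [hT, Subgroup.mem_comap, hΩmem, ← map_pow] at hgT
    exact (QuotientGroup.eq_one_iff _).1 hgT
  have hnt : Nontrivial G := by
    by_contra h
    rw [not_nontrivial_iff_subsingleton] at h
    apply hnp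
    intro g; exact ⟨0, Subsingleton.elim _ _⟩
  have hex : ∃ H : Subgroup G, H.Normal ∧ H ≠ ⊥ ∧ H ≠ ⊤ := by
    by_contra hcon
    push Not at hcon
    apply hns
    have h2 : ∀ H : Subgroup G, H.Normal → H = ⊥ ∨ H = ⊤ := by
      intro H hH
      by_cases h : H = ⊥
      · exact Or.inl h
      · exact Or.inr (hcon H hH h)
    exact ⟨h2⟩
  obtain ⟨A, ⟨hAn, hA1, hAtop⟩, hAmin⟩ :=
    Set.exists_min_image {H : Subgroup G | H.Normal ∧ H ≠ ⊥ ∧ H ≠ ⊤} (fun H => Nat.card H)
      (Set.toFinite _) hex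
  have hmin : ∀ B : Subgroup G, B.Normal → B ≤ A → B = ⊥ ∨ B = A := by
    intro B hBn hBA
    by_cases hB : B = ⊥
    · exact Or.inl hB
    · right
      have hBtop : B ≠ ⊤ := by
        rintro rfl
        exact hAtop (top_le_iff.1 hBA)
      have h3 := hAmin B ⟨hBn, hB, hBtop⟩
      exact Subgroup.eq_of_le_of_card_ge hBA h3
  haveI := hAn
  have hAnp : ¬ IsPGroup p A := by
    intro hAp
    apply hnp
    intro g
    obtain ⟨k, hk⟩ := hAp ⟨g ^ p, hA A hA1 g⟩
    refine ⟨k + 1, ?_⟩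
    have h4 := congrArg Subtype.val hk
    rw [Subgroup.coe_pow, Subgroup.coe_one] at h4
    rw [pow_succ', pow_mul]; exact h4
  have hpA : ¬ p ∣ Nat.card A := by
    intro hdvd
    obtain ⟨ΩA, hΩA⟩ := hsub A hAtop
    have hΩAmem : ∀ x : ↥A, x ∈ ΩA ↔ x ^ p = 1 := fun x => by
      rw [← SetLike.mem_coe, hΩA]; rfl
    set B : Subgroup G := ΩA.map A.subtype with hB
    have hBmem : ∀ g : G, g ∈ B ↔ g ∈ A ∧ g ^ p = 1 := by
      intro g
      rw [hB, Subgroup.mem_map]
      constructor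
      · rintro ⟨x, hx, rfl⟩
        refine ⟨x.2, ?_⟩
        have h5 := congrArg Subtype.val ((hΩAmem x).1 hx)
        simpa using h5
      · rintro ⟨hgA, hg⟩
        exact ⟨⟨g, hgA⟩, (hΩAmem _).2 (Subtype.ext (by simpa using hg)), rfl⟩
    have hBn : B.Normal := by
      constructor
      intro b hb g
      rw [hBmem] at hb ⊢
      exact ⟨hAn.conj_mem b hb.1 g, by rw [conj_pow, hb.2, mul_one, mul_inv_cancel]⟩
    have hBA : B ≤ A := fun b hb => ((hBmem b).1 hb).1
    rcases hmin B hBn hBA with h | h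
    · obtain ⟨y, hy⟩ := exists_prime_orderOf_dvd_card' (G := ↥A) p hdvd
      have hyB : (y : G) ∈ B := (hBmem _).2 ⟨y.2, by
        have h5 := pow_orderOf_eq_one y
        rw [hy] at h5
        simpa using congrArg Subtype.val h5⟩
      rw [h, Subgroup.mem_bot] at hyB
      have h7 : y = 1 := Subtype.ext hyB
      rw [h7, orderOf_one] at hy
      exact hp.one_lt.ne hy
    · apply hAnp
      intro a
      refine ⟨1, ?_⟩
      have h8 : (a : G) ∈ B := by rw [h]; exact a.2
      apply Subtype.ext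
      rw [pow_one, Subgroup.coe_pow]; exact ((hBmem _).1 h8).2
  obtain ⟨P⟩ : Nonempty (Sylow p G) := inferInstance
  have hsup : (P : Subgroup G) ⊔ A = ⊤ := by
    have hQp : IsPGroup p (G ⧸ A) := by
      intro x
      obtain ⟨g, rfl⟩ := QuotientGroup.mk_surjective x
      refine ⟨1, ?_⟩
      rw [pow_one, ← QuotientGroup.mk_pow]
      exact (QuotientGroup.eq_one_iff _).2 (hA A hA1 g)
    obtain ⟨k, hk⟩ := IsPGroup.exists_card_eq hQp
    have h1 : ((P : Subgroup G) ⊔ A).index ∣ p ^ k := by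
      rw [← hk, ← Subgroup.index_eq_card]; exact Subgroup.index_dvd_of_le le_sup_right
    obtain ⟨j, -, hj⟩ := (Nat.dvd_prime_pow hp).1 h1
    have h2 : ((P : Subgroup G) ⊔ A).index ∣ (P : Subgroup G).index :=
      Subgroup.index_dvd_of_le le_sup_left
    have hj0 : j = 0 := by
      by_contra hne
      apply P.not_dvd_index
      refine dvd_trans ?_ h2
      rw [hj]; exact dvd_pow_self p hne
    rw [hj0, pow_zero] at hj
    exact Subgroup.index_eq_one.1 hj
  have hcop : (Nat.card (P : Subgroup G)).Coprime (Nat.card A) := by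
    obtain ⟨k, hk⟩ := IsPGroup.exists_card_eq P.2
    rw [hk]
    exact Nat.Coprime.pow_left k ((Nat.Prime.coprime_iff_not_dvd hp).2 hpA)
  have hPA : (P : Subgroup G) ⊓ A = ⊥ := (Subgroup.disjoint_of_coprime_natCard hcop).eq_bot
  have hPexp : ∀ x ∈ (P : Subgroup G), x ^ p = 1 := by
    intro x hx
    have h9 : x ^ p ∈ (P : Subgroup G) ⊓ A := ⟨Subgroup.pow_mem _ hx p, hA A hA1 x⟩
    rwa [hPA, Subgroup.mem_bot] at h9
  have hA1' : ∀ n ∈ A, n ^ p = 1 → n = 1 := by
    intro n hn hnp'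
    have h1 : orderOf n ∣ p := orderOf_dvd_of_pow_eq_one hnp'
    have h2 : orderOf n ∣ Nat.card A := Subgroup.orderOf_dvd_natCard A hn
    rcases (Nat.dvd_prime hp).1 h1 with h | h
    · exact orderOf_eq_one_iff.1 h
    · exact absurd (h ▸ h2) hpA
  have hH : ∀ S L : Subgroup G, S ≤ (P : Subgroup G) → L ≤ A →
      S ≤ Subgroup.normalizer (L : Set G) → S ⊔ L ≠ ⊤ →
      L ≤ Subgroup.normalizer (S : Set G) := by
    intro S L hSP hLA hSL hne
    obtain ⟨Ω, hΩ⟩ := hsub _ hne
    have hΩmem : ∀ x : ↥(S ⊔ L), x ∈ Ω ↔ x ^ p = 1 := fun x => by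
      rw [← SetLike.mem_coe, hΩ]; rfl
    have hSE : S ≤ S ⊔ L := le_sup_left
    have hLE : L ≤ S ⊔ L := le_sup_right
    have hE : ∀ g : G, ∀ hg : g ∈ S ⊔ L, g ^ p = 1 → (⟨g, hg⟩ : ↥(S ⊔ L)) ∈ Ω := by
      intro g hg hgp
      rw [hΩmem]; apply Subtype.ext; simpa using hgp
    have hSchar : ∀ g : G, g ∈ S ⊔ L → g ^ p = 1 → g ∈ S := by
      intro g hg hgp
      obtain ⟨s, hs, l, hl, hgsl⟩ := exists_mul_of_mem_sup_of_le_normalizer hSL hg
      have hsE : s ∈ S ⊔ L := hSE hs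
      have h1 : (⟨s, hsE⟩ : ↥(S ⊔ L))⁻¹ * ⟨g, hg⟩ ∈ Ω :=
        Ω.mul_mem (Ω.inv_mem (hE s hsE (hPexp s (hSP hs)))) (hE g hg hgp)
      have h2 := (hΩmem _).1 h1
      have h3 : (s⁻¹ * g) ^ p = 1 := by
        have h10 := congrArg Subtype.val h2
        simpa using h10
      have h4 : s⁻¹ * g = l := by rw [hgsl]; group
      rw [h4] at h3
      have hl1 : l = 1 := hA1' l (hLA hl) h3
      rw [hgsl, hl1, mul_one]; exact hs
    apply le_normalizer_of_conj_mem
    intro l hl s hs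
    apply hSchar
    · exact (S ⊔ L).mul_mem ((S ⊔ L).mul_mem (hLE hl) (hSE hs)) ((S ⊔ L).inv_mem (hLE hl))
    · rw [conj_pow, hPexp s (hSP hs), mul_one, mul_inv_cancel]
  have hK : ¬ A ≤ Subgroup.centralizer ((P : Subgroup G) : Set G) := by
    intro hcent
    apply hnc
    refine ⟨(P : Subgroup G), ?_⟩
    ext g
    rw [SetLike.mem_coe, Set.mem_setOf_eq]
    constructor
    · exact hPexp g
    · intro hg
      have hg' : g ∈ (P : Subgroup G) ⊔ A := hsup ▸ Subgroup.mem_top g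
      have hPnA : (P : Subgroup G) ≤ Subgroup.normalizer (A : Set G) := by
        rw [Subgroup.normalizer_eq_top]; exact le_top
      obtain ⟨x, hx, n, hn, hgxn⟩ := exists_mul_of_mem_sup_of_le_normalizer hPnA hg'
      have hcomm : Commute x n := (Subgroup.mem_centralizer_iff.1 (hcent hn)) x hx
      have h1 : n ^ p = 1 := by
        have h11 := hcomm.mul_pow p
        rw [← hgxn, hg, hPexp x hx, one_mul] at h11
        exact h11.symm
      rw [hgxn, hA1' n hn h1, mul_one]; exact hx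
  have hJ : ∀ S : Subgroup G, S.Normal → S ≤ (P : Subgroup G) → S = ⊥ := by
    intro S hSn hSP
    by_contra hS1
    apply hnp
    intro g
    haveI := hSn
    have h1 : g ^ p ∈ (P : Subgroup G) := hSP (hA S hS1 g)
    have h2 := hPexp _ h1
    exact ⟨2, by rw [pow_two, pow_mul]; exact h2⟩
  obtain ⟨q, hq, hqp, hea, hidx⟩ :=
    core_min_non_closed (P : Subgroup G) A P.2 hA1 hmin hpA hsup hH hK hJ
  have hna : ¬ IsMulCommutative G := by
    intro hc
    apply hK
    intro a _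
    refine Subgroup.mem_centralizer_iff.2 ?_
    intro x _
    exact hc.is_comm.comm x a
  have h := Cfsg.Agent.S3869.result hq hqp hna A hea hidx hmin
  refine ⟨q, hq, hqp, ?_, A, hAn, h.1, hea, hmin⟩
  rw [← A.card_mul_index, hidx, h.1, mul_comm]

end Cfsg.Agent.S3873
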