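import Cfsg.Statements.S3889
import Mathlib

set_option autoImplicit false
open Cfsg

namespace Cfsg.Agent.S3889

/-- A finite abelian group that is the union of a family of proper subgroups any two of which intersect trivially is elementary abelian: its exponent is a prime. -/
theorem result {G : Type*} [CommGroup G] [Finite G] (𝓑 : Set (Subgroup G)) (hprop : ∀ B ∈ 𝓑, B ≠ ⊤)
    (hcov : ∀ g : G, ∃ B ∈ 𝓑, g ∈ B) (hdisj : ∀ B ∈ 𝓑, ∀ C ∈ 𝓑, B ≠ C → B ⊓ C = ⊥) :
    (Monoid.exponent G).Prime := by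
  -- an element outside any member
  have hout : ∀ A ∈ 𝓑, ∃ c : G, c ∉ A := by
    intro A hA
    by_contra h
    push_neg at h
    exact hprop A hA (eq_top_iff.mpr fun x _ => h x)
  have hinter : ∀ A ∈ 𝓑, ∀ D ∈ 𝓑, A ≠ D → ∀ z : G, z ∈ A → z ∈ D → z = 1 := by
    intro A hA D hD hne z hzA hzD
    have : z ∈ A ⊓ D := ⟨hzA, hzD⟩
    rw [hdisj A hA D hD hne, Subgroup.mem_bot] at this
    exact this
  -- key lemma
  have key : ∀ A ∈ 𝓑, ∀ a ∈ A, a ≠ 1 → ∀ b : G, b ∉ A → b ^ orderOf a = 1 := by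
    intro A hA a haA ha1 b hbA
    obtain ⟨C, hC, habC⟩ := hcov (a * b)
    obtain ⟨D, hD, hbD⟩ := hcov b
    have hCA : C ≠ A := by
      rintro rfl
      apply hbA
      have : b = a⁻¹ * (a * b) := by group
      rw [this]; exact C.mul_mem (C.inv_mem haA) habC
    have hpow : (a * b) ^ orderOf a = b ^ orderOf a := by
      rw [mul_pow, pow_orderOf_eq_one, one_mul]
    have h1 : b ^ orderOf a ∈ C := by rw [← hpow]; exact C.pow_mem habC _
    have h2 : b ^ orderOf a ∈ D := D.pow_mem hbD _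
    by_cases hCD : C = D
    · subst hCD
      have haC : a ∈ C := by
        have : a = (a * b) * b⁻¹ := by group
        rw [this]; exact C.mul_mem habC (C.inv_mem hbD)
      exact absurd (hinter C hC A hA hCA a haC haA) ha1
    · exact hinter C hC D hD hCD _ h1 h2
  have hord : ∀ A ∈ 𝓑, ∀ a ∈ A, a ≠ 1 → ∀ b : G, b ∉ A → orderOf a = orderOf b := by
    intro A hA a haA ha1 b hbA
    obtain ⟨D, hD, hbD⟩ := hcov b
    have hAD : A ≠ D := by
      rintro rfl; exact hbA hbD
    have hb1 : b ≠ 1 := by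
      rintro rfl; exact hbA A.one_mem
    have haD : a ∉ D := fun haD => ha1 (hinter A hA D hD hAD a haA haD)
    apply Nat.dvd_antisymm
    · exact orderOf_dvd_of_pow_eq_one (key D hD b hbD hb1 a haD)
    · exact orderOf_dvd_of_pow_eq_one (key A hA a haA ha1 b hbA)
  have hall : ∀ a b : G, a ≠ 1 → b ≠ 1 → orderOf a = orderOf b := by
    intro a b ha1 hb1
    obtain ⟨A, hA, haA⟩ := hcov a
    by_cases hbA : b ∈ A
    · obtain ⟨c, hc⟩ := hout A hA
      rw [hord A hA a haA ha1 c hc, hord A hA b hbA hb1 c hc]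
    · exact hord A hA a haA ha1 b hbA
  -- a nontrivial element
  obtain ⟨A0, hA0, _⟩ := hcov 1
  obtain ⟨b0, hb0⟩ := hout A0 hA0
  have hb01 : b0 ≠ 1 := by
    rintro rfl; exact hb0 A0.one_mem
  haveI : Nontrivial G := ⟨⟨b0, 1, hb01⟩⟩
  set n := orderOf b0 with hn
  have hn1 : n ≠ 1 := by
    rw [hn, Ne, orderOf_eq_one_iff]; exact hb01
  have hn0 : n ≠ 0 := (orderOf_pos b0).ne'
  have hq : (n.minFac).Prime := Nat.minFac_prime hn1
  have hqd : n.minFac ∣ n := Nat.minFac_dvd n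
  obtain ⟨m, hm⟩ := hqd
  have hm0 : m ≠ 0 := by
    rintro rfl; rw [mul_zero] at hm; exact hn0 hm
  have hom : orderOf (b0 ^ m) = n.minFac := by
    rw [orderOf_pow_of_dvd hm0 (by rw [← hn, hm]; exact Dvd.intro_left _ rfl), ← hn]
    nth_rewrite 1 [hm]
    exact Nat.mul_div_cancel _ (Nat.pos_of_ne_zero hm0)
  have hbm1 : b0 ^ m ≠ 1 := by
    intro h
    rw [h, orderOf_one] at hom
    exact hq.one_lt.ne hom
  have hnq : n = n.minFac := by
    rw [← hom, hn]; exact hall b0 (b0 ^ m) hb01 hbm1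
  have hnp : n.Prime := by rw [hnq]; exact hq
  have hexp : Monoid.exponent G = n := by
    rw [Monoid.exponent_eq_prime_iff hnp]
    intro g hg
    exact hall g b0 hg hb01
  rw [hexp]; exact hnp

end Cfsg.Agent.S3889
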