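import Cfsg.Statements.S3891
import Mathlib
import Cfsg.Agent.Lib.Helper6.NilCover

set_option autoImplicit false
open Cfsg

namespace Cfsg.Agent.S3891

/-- A cover of a group is a finite set of proper subgroups whose union is the whole group; it is minimal when no cover has fewer members, and nilpotent when all its members are nilpotent. Let G be a finite group with trivial center admitting a nilpotent minimal cover, and let P be a non-normal Sylow p-subgroup of G that is cyclic, or abelian but not elementary abelian. Then the centralizer of P is nilpotent and the normalizer of P is the unique maximal subgroup of G containing the centralizer of P. -/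
theorem result {G : Type*} [Group G] [Finite G] (hZ : Subgroup.center G = ⊥) (𝓐 : Finset (Subgroup G))
    (h𝓐 : ((∀ A ∈ 𝓐, A ≠ ⊤) ∧ (∀ g : G, ∃ A ∈ 𝓐, g ∈ A)) ∧ (∀ 𝓑 : Finset (Subgroup G), (∀ A ∈ 𝓑, A ≠ ⊤) ∧ (∀ g : G, ∃ A ∈ 𝓑, g ∈ A) → 𝓐.card ≤ 𝓑.card) ∧ (∀ A ∈ 𝓐, Group.IsNilpotent ↥A)) {p : ℕ} [Fact p.Prime] (P : Sylow p G)
    (hP : IsCyclic ↥(P : Subgroup G) ∨ (IsMulCommutative ↥(P : Subgroup G) ∧ ¬ Cfsg.IsElementaryAbelian p (P : Subgroup G)))
    (hnn : ¬ (P : Subgroup G).Normal) :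
    Group.IsNilpotent ↥(Subgroup.centralizer ((P : Subgroup G) : Set G)) ∧
      IsCoatom (Subgroup.normalizer ((P : Subgroup G) : Set G)) ∧
      ∀ M : Subgroup G, IsCoatom M → Subgroup.centralizer ((P : Subgroup G) : Set G) ≤ M →
        M = Subgroup.normalizer ((P : Subgroup G) : Set G) := by
  obtain ⟨⟨hcov1, hcov2⟩, hmin, hnil⟩ := h𝓐
  have hs : (∀ a ∈ (P : Subgroup G), ∀ b ∈ (P : Subgroup G), a * b = b * a) ∧
      ∃ z ∈ (P : Subgroup G), (∀ y ∈ (P : Subgroup G), y ∈ Subgroup.zpowers z) ∨ z ^ p ≠ 1 := by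
    rcases hP with hc | ⟨hcm, hne⟩
    · exact Cfsg.Agent.Lib.Helper6.NilCover.struct_of_cyclic _ hc p
    · exact ⟨Cfsg.Agent.Lib.Helper6.NilCover.comm_of_isMulCommutative _ hcm,
        Cfsg.Agent.Lib.Helper6.NilCover.struct_of_not_elem _ p hcm hne⟩
  obtain ⟨A, hA, hPA, hCA, hco, hM, -⟩ :=
    Cfsg.Agent.Lib.Helper6.NilCover.main_all hZ 𝓐 hcov1 hcov2 hmin hnil P hs.1 hs.2 hnn
  refine ⟨?_, hco, ?_⟩
  · rw [hCA]; exact hnil A hA
  · intro M hMco hCM
    exact hM M hMco (hCA ▸ hCM)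

end Cfsg.Agent.S3891
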