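import Cfsg.Statements.S3895
import Mathlib
import Cfsg.Agent.S0071
import Cfsg.Agent.Lib.Helper6.K2

set_option autoImplicit false
open Cfsg

namespace Cfsg.Agent.S3895

/-- Let G be a finite group with Sylow 2-subgroup P, and write k₂(G) for the number of conjugacy classes of G consisting of 2-elements (elements of 2-power order, the identity included). Then k₂(G) > |P|/2 if and only if G has a normal 2-complement and P has more than |P|/2 conjugacy classes. -/
theorem result {G : Type*} [Group G] [Finite G] (P : Sylow 2 G) :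
    Nat.card ↥(P : Subgroup G) < 2 * Nat.card {c : ConjClasses G // ∀ x ∈ c.carrier, ∃ k : ℕ, orderOf x = 2 ^ k} ↔
      Cfsg.HasNormalPComplement 2 G ∧ Nat.card ↥(P : Subgroup G) < 2 * Nat.card (ConjClasses ↥(P : Subgroup G)) := by
  constructor
  · intro hlt
    have h1 := Cfsg.Agent.Lib.Helper6.K2.k2_le_kP P
    refine ⟨?_, by omega⟩
    by_contra hno
    have hno' : ¬ ∃ N : Subgroup G, N.Normal ∧ N.IsComplement' (P : Subgroup G) :=
      fun ⟨N, hN, hc⟩ => hno ⟨P, N, hN, hc⟩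
    rw [Cfsg.Agent.S0071.result P] at hno'
    push_neg at hno'
    obtain ⟨Q₀, hQ₀P, g, hg, hcop, hgc⟩ := hno'
    have hQ₀2 : IsPGroup 2 Q₀ := P.isPGroup'.to_le hQ₀P
    obtain ⟨P₁, Q, Γ, hQP, hZ, hΓ, hodd, hnc⟩ :=
      Cfsg.Agent.Lib.Helper6.K2.upgrade Q₀ hQ₀2 g hg hcop hgc
    have h2 := Cfsg.Agent.Lib.Helper6.K2.k2_le P₁ Q Γ hQP hZ hΓ hodd hnc
    have h3 : Nat.card (P₁ : Subgroup G) = Nat.card (P : Subgroup G) := by
      rw [Sylow.card_eq_multiplicity, Sylow.card_eq_multiplicity]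
    omega
  · rintro ⟨⟨P₀, N, hN, hcomp⟩, hlt⟩
    have hcompP := Cfsg.Agent.Lib.Helper6.K2.complement_transfer P P₀ N hcomp
    have h1 := Cfsg.Agent.Lib.Helper6.K2.kP_le_k2 P N hN hcompP
    omega

end Cfsg.Agent.S3895
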