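import Cfsg.Statements.S3897
import Cfsg.Agent.Lib.Helper8.PiPart

set_option autoImplicit false
open Cfsg

namespace Cfsg.Agent.S3897

open Cfsg.Agent.Lib.Helper8
theorem pclass_of_mem {G : Type*} [Group G] [Finite G] {p : ℕ} [Fact p.Prime] (P : Sylow p G)
    (x : G) (hx : x ∈ (P : Subgroup G)) :
    ∀ y ∈ (ConjClasses.mk x).carrier, ∃ k : ℕ, orderOf y = p ^ k := by
  intro y hy
  rw [ConjClasses.mem_carrier_iff_mk_eq, ConjClasses.mk_eq_mk_iff_isConj] at hy
  obtain ⟨c, hc⟩ := isConj_iff.mp hy
  have h1 : orderOf x = orderOf y := by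
    rw [← hc]
    have := orderOf_injective (MulAut.conj c).toMonoidHom (MulAut.conj c).injective y
    simpa [MulAut.conj_apply] using this
  obtain ⟨k, hk⟩ := (IsPGroup.iff_orderOf.mp P.2) ⟨x, hx⟩
  refine ⟨k, ?_⟩
  rw [← h1, ← hk, Subgroup.orderOf_mk]

theorem pclass_card_le_orbits {G : Type*} [Group G] [Finite G] {p : ℕ} [Fact p.Prime]
    (P : Sylow p G)
    (hnot : ¬ Subgroup.normalizer ((P : Subgroup G) : Set G) ≤
      Subgroup.centralizer ((P : Subgroup G) : Set G)) :
    2 * p * Nat.card {c : ConjClasses G // ∀ x ∈ c.carrier, ∃ k : ℕ, orderOf x = p ^ k} ≤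
      (p + 1) * Nat.card ↥(P : Subgroup G) := by
  classical
  have hpp := (Fact.out : p.Prime)
  have := Fintype.ofFinite G
  set Nm := Subgroup.normalizer ((P : Subgroup G) : Set G) with hNm
  letI act : MulAction Nm (P : Subgroup G) :=
    { smul := fun g x => ⟨(g : G) * x * (g : G)⁻¹,
        (Subgroup.mem_normalizer_iff.mp g.2 x).mp x.2⟩
      one_smul := by
        intro x
        apply Subtype.ext
        show ((1 : Nm) : G) * x * ((1 : Nm) : G)⁻¹ = x
        simp
      mul_smul := by
        intro g h x
        apply Subtype.ext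
        show ((g * h : Nm) : G) * x * ((g * h : Nm) : G)⁻¹ =
          (g : G) * ((h : G) * x * (h : G)⁻¹) * (g : G)⁻¹
        simp only [Subgroup.coe_mul, mul_inv_rev]
        group }
  have hsmul : ∀ (g : Nm) (x : (P : Subgroup G)), ((g • x : (P : Subgroup G)) : G) =
      (g : G) * x * (g : G)⁻¹ := fun g x => rfl
  let Ω := MulAction.orbitRel.Quotient Nm (P : Subgroup G)
  have hB := MulAction.sum_card_fixedBy_eq_card_orbits_mul_card_group Nm (P : Subgroup G)
  -- the centralizing subgroup
  let C : Subgroup Nm := (Subgroup.centralizer ((P : Subgroup G) : Set G)).subgroupOf Nm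
  have hCtop : C ≠ ⊤ := by
    intro h
    apply hnot
    intro g hg
    have : (⟨g, hg⟩ : Nm) ∈ C := by rw [h]; exact Subgroup.mem_top _
    exact this
  have hC2 : 2 * Nat.card C ≤ Nat.card Nm := by
    have h1 := Subgroup.card_mul_index C
    have h2 : C.index ≠ 1 := fun h => hCtop (Subgroup.index_eq_one.mp h)
    have h3 : C.index ≠ 0 := Subgroup.index_ne_zero_of_finite
    have h4 : 2 ≤ C.index := by omega
    calc 2 * Nat.card C = Nat.card C * 2 := by ring
      _ ≤ Nat.card C * C.index := Nat.mul_le_mul_left _ h4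
      _ = Nat.card Nm := h1
  -- fixed points
  have hfix : ∀ g : Nm, p * Fintype.card (MulAction.fixedBy (P : Subgroup G) g) ≤
      (if g ∈ C then p else 1) * Nat.card (P : Subgroup G) := by
    intro g
    by_cases hg : g ∈ C
    · rw [if_pos hg]
      apply Nat.mul_le_mul_left
      rw [Nat.card_eq_fintype_card]
      exact Fintype.card_subtype_le _
    · rw [if_neg hg, one_mul]
      let D : Subgroup (P : Subgroup G) :=
        { carrier := {x | g • x = x}
          mul_mem' := by
            intro a b ha hb
            simp only [Set.mem_ofPred_eq] at ha hb ⊢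
            apply Subtype.ext
            have ha' := congrArg Subtype.val ha
            have hb' := congrArg Subtype.val hb
            rw [hsmul] at ha' hb' ⊢
            rw [Subgroup.coe_mul]
            calc (g : G) * ((a : G) * (b : G)) * (g : G)⁻¹
                = ((g : G) * a * (g : G)⁻¹) * ((g : G) * b * (g : G)⁻¹) := by group
              _ = a * b := by rw [ha', hb']
          one_mem' := by
            simp only [Set.mem_ofPred_eq]
            apply Subtype.ext
            rw [hsmul]; simp
          inv_mem' := by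
            intro a ha
            simp only [Set.mem_ofPred_eq] at ha ⊢
            apply Subtype.ext
            have ha' := congrArg Subtype.val ha
            rw [hsmul] at ha' ⊢
            rw [Subgroup.coe_inv]
            calc (g : G) * (a : G)⁻¹ * (g : G)⁻¹ = ((g : G) * a * (g : G)⁻¹)⁻¹ := by group
              _ = (a : G)⁻¹ := by rw [ha'] }
      have hDtop : D ≠ ⊤ := by
        intro h
        apply hg
        show (g : G) ∈ Subgroup.centralizer ((P : Subgroup G) : Set G)
        rw [Subgroup.mem_centralizer_iff]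
        intro x hx
        have : (⟨x, hx⟩ : (P : Subgroup G)) ∈ D := by rw [h]; exact Subgroup.mem_top _
        have h2 := congrArg Subtype.val (show g • (⟨x, hx⟩ : (P : Subgroup G)) = ⟨x, hx⟩ from this)
        rw [hsmul] at h2
        simp only at h2
        calc x * (g : G) = ((g : G) * x * (g : G)⁻¹) * g := by rw [h2]
          _ = g * x := by group
      have hcardD : Fintype.card (MulAction.fixedBy (P : Subgroup G) g) = Nat.card D := by
        rw [Nat.card_eq_fintype_card]
        apply Fintype.card_congr
        exact Equiv.refl _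
      rw [hcardD]
      have h1 := Subgroup.card_mul_index D
      have h2 : D.index ≠ 1 := fun h => hDtop (Subgroup.index_eq_one.mp h)
      have h3 : D.index ∣ Nat.card (P : Subgroup G) := Subgroup.index_dvd_card D
      obtain ⟨n, hn⟩ := (IsPGroup.iff_card.mp P.2)
      rw [hn] at h3
      obtain ⟨j, _, hj⟩ := (Nat.dvd_prime_pow hpp).mp h3
      have hpj : p ≤ D.index := by
        rw [hj]
        rcases Nat.eq_zero_or_pos j with h0 | h0
        · rw [h0, pow_zero] at hj; exact absurd hj h2
        · calc p = p ^ 1 := (pow_one p).symm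
            _ ≤ p ^ j := Nat.pow_le_pow_right hpp.pos h0
      calc p * Nat.card D = Nat.card D * p := by ring
        _ ≤ Nat.card D * D.index := Nat.mul_le_mul_left _ hpj
        _ = Nat.card (P : Subgroup G) := h1
  -- sum of weights
  have hsumw : ∑ g : Nm, (if g ∈ C then p else 1) = (p - 1) * Nat.card C + Nat.card Nm := by
    have h1 : ∀ g : Nm, (if g ∈ C then p else 1) = 1 + (if g ∈ C then (p - 1) else 0) := by
      intro g
      split_ifs
      · have := hpp.pos; omega
      · rfl
    simp_rw [h1]
    rw [Finset.sum_add_distrib, Finset.sum_const, Finset.card_univ, smul_eq_mul, mul_one,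
      ← Finset.sum_filter, Finset.sum_const, smul_eq_mul]
    have h2 : (Finset.univ.filter (fun g : Nm => g ∈ C)).card = Nat.card C := by
      rw [Nat.card_eq_fintype_card, Fintype.card_subtype]
    rw [h2, ← Nat.card_eq_fintype_card]
    ring
  have hmain : 2 * p * (Fintype.card Ω * Fintype.card Nm) ≤
      (p + 1) * Nat.card (P : Subgroup G) * Fintype.card Nm := by
    rw [← hB, Finset.mul_sum]
    calc ∑ g : Nm, 2 * p * Fintype.card (MulAction.fixedBy (P : Subgroup G) g)
        ≤ ∑ g : Nm, 2 * ((if g ∈ C then p else 1) * Nat.card (P : Subgroup G)) := by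
          apply Finset.sum_le_sum
          intro g _
          have := hfix g
          calc 2 * p * Fintype.card (MulAction.fixedBy (P : Subgroup G) g)
              = 2 * (p * Fintype.card (MulAction.fixedBy (P : Subgroup G) g)) := by ring
            _ ≤ 2 * ((if g ∈ C then p else 1) * Nat.card (P : Subgroup G)) :=
              Nat.mul_le_mul_left _ this
      _ = 2 * ((p - 1) * Nat.card C + Nat.card Nm) * Nat.card (P : Subgroup G) := by
          rw [← Finset.mul_sum, ← Finset.sum_mul, hsumw]; ring
      _ ≤ (p + 1) * Nat.card (P : Subgroup G) * Fintype.card Nm := by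
          rw [← Nat.card_eq_fintype_card]
          have hp1 : 1 ≤ p := hpp.pos
          have e : (p + 1) * Nat.card (P : Subgroup G) * Nat.card Nm =
              ((p - 1) * Nat.card Nm + 2 * Nat.card Nm) * Nat.card (P : Subgroup G) := by
            have : p + 1 = (p - 1) + 2 := by omega
            rw [this]; ring
          rw [e]
          apply Nat.mul_le_mul_right
          have : 2 * ((p - 1) * Nat.card C) ≤ (p - 1) * Nat.card Nm := by
            calc 2 * ((p - 1) * Nat.card C) = (p - 1) * (2 * Nat.card C) := by ring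
              _ ≤ (p - 1) * Nat.card Nm := Nat.mul_le_mul_left _ hC2
          omega
  have hNmpos : 0 < Fintype.card Nm := Fintype.card_pos
  have hΩ : 2 * p * Fintype.card Ω ≤ (p + 1) * Nat.card (P : Subgroup G) := by
    have h1 : 2 * p * Fintype.card Ω * Fintype.card Nm ≤
        (p + 1) * Nat.card (P : Subgroup G) * Fintype.card Nm := by
      calc 2 * p * Fintype.card Ω * Fintype.card Nm
          = 2 * p * (Fintype.card Ω * Fintype.card Nm) := by ring
        _ ≤ _ := hmain
    exact Nat.le_of_mul_le_mul_right h1 hNmpos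
  -- surjection from orbits onto p-classes
  let f : ↥(P : Subgroup G) → {c : ConjClasses G // ∀ x ∈ c.carrier, ∃ k : ℕ, orderOf x = p ^ k} :=
    fun x => ⟨ConjClasses.mk (x : G), pclass_of_mem P x x.2⟩
  have hfconst : ∀ a b : (P : Subgroup G), MulAction.orbitRel Nm (P : Subgroup G) a b → f a = f b := by
    intro a b hab
    rw [MulAction.orbitRel_apply, MulAction.mem_orbit_iff] at hab
    obtain ⟨g, hg⟩ := hab
    apply Subtype.ext
    show ConjClasses.mk (a : G) = ConjClasses.mk (b : G)
    rw [ConjClasses.mk_eq_mk_iff_isConj, isConj_comm, isConj_iff]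
    refine ⟨g, ?_⟩
    rw [← hsmul, hg]
  let F : Ω → {c : ConjClasses G // ∀ x ∈ c.carrier, ∃ k : ℕ, orderOf x = p ^ k} :=
    Quotient.lift f hfconst
  have hFsurj : Function.Surjective F := by
    rintro ⟨c, hc⟩
    obtain ⟨y, rfl⟩ := ConjClasses.mk_surjective c
    have hy : ∃ k : ℕ, orderOf y = p ^ k := hc y (by
      rw [ConjClasses.mem_carrier_iff_mk_eq])
    have hpg : IsPGroup p (Subgroup.zpowers y) := by
      obtain ⟨k, hk⟩ := hy
      rw [IsPGroup.iff_card]
      exact ⟨k, by rw [Nat.card_zpowers, hk]⟩
    obtain ⟨Q, hQ⟩ := hpg.exists_le_sylow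
    obtain ⟨g, hg⟩ := MulAction.exists_smul_eq G Q P
    have hmem : g * y * g⁻¹ ∈ (P : Subgroup G) := by
      have h1 : y ∈ (Q : Subgroup G) := hQ (Subgroup.mem_zpowers y)
      have h2 := Subgroup.smul_mem_pointwise_smul y (MulAut.conj g) (Q : Subgroup G) h1
      rw [← Sylow.coe_subgroup_smul, hg] at h2
      simpa [MulAut.smul_def, MulAut.conj_apply] using h2
    refine ⟨Quotient.mk'' ⟨g * y * g⁻¹, hmem⟩, ?_⟩
    apply Subtype.ext
    show ConjClasses.mk (g * y * g⁻¹) = ConjClasses.mk y
    rw [ConjClasses.mk_eq_mk_iff_isConj, isConj_comm, isConj_iff]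
    exact ⟨g, rfl⟩
  have hcard := Nat.card_le_card_of_surjective F hFsurj
  rw [Nat.card_eq_fintype_card (α := Ω)] at hcard
  calc 2 * p * Nat.card {c : ConjClasses G // ∀ x ∈ c.carrier, ∃ k : ℕ, orderOf x = p ^ k}
      ≤ 2 * p * Fintype.card Ω := Nat.mul_le_mul_left _ hcard
    _ ≤ _ := hΩ

/-- Let p be an odd prime and G a finite group with Sylow p-subgroup P, and write k_p(G) for the number of conjugacy classes of G consisting of p-elements (elements of p-power order, the identity included). Then k_p(G) > (p + 1)|P|/(2p) if and only if G has a normal p-complement and P is abelian. -/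
theorem result {G : Type*} [Group G] [Finite G] {p : ℕ} [Fact p.Prime] (hp : p ≠ 2) (P : Sylow p G) :
    (p + 1) * Nat.card ↥(P : Subgroup G) < 2 * p * Nat.card {c : ConjClasses G // ∀ x ∈ c.carrier, ∃ k : ℕ, orderOf x = p ^ k} ↔
      Cfsg.HasNormalPComplement p G ∧ IsMulCommutative ↥(P : Subgroup G) := by
  classical
  have hpp := (Fact.out : p.Prime)
  have := Fintype.ofFinite G
  have hPpos : 0 < Nat.card (P : Subgroup G) := Nat.card_pos
  constructor
  · intro hlt
    have hNC : Subgroup.normalizer ((P : Subgroup G) : Set G) ≤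
        Subgroup.centralizer ((P : Subgroup G) : Set G) := by
      by_contra hnot
      have := pclass_card_le_orbits P hnot
      omega
    refine ⟨⟨P, (MonoidHom.transferSylow P hNC).ker, MonoidHom.normal_ker _,
      MonoidHom.ker_transferSylow_isComplement' P hNC⟩, ?_⟩
    exact ⟨⟨fun a b => Subtype.ext (hNC (Subgroup.le_normalizer b.2) a a.2)⟩⟩
  · rintro ⟨⟨P₀, N, hN, hcomp⟩, hcomm⟩
    have hcardN : Nat.card N * Nat.card (P₀ : Subgroup G) = Nat.card G := hcomp.card_mul
    have hPP₀ : Nat.card (P₀ : Subgroup G) = Nat.card (P : Subgroup G) := by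
      rw [Sylow.card_eq_multiplicity, Sylow.card_eq_multiplicity]
    have hcop : Nat.Coprime (Nat.card N) (Nat.card (P : Subgroup G)) := by
      have h1 := P₀.card_coprime_index
      have h2 := Subgroup.card_mul_index (P₀ : Subgroup G)
      have h3 : Nat.card N = (P₀ : Subgroup G).index := by
        have hpos : 0 < Nat.card (P₀ : Subgroup G) := Nat.card_pos
        apply Nat.eq_of_mul_eq_mul_right hpos
        rw [hcardN, mul_comm, h2]
      rw [h3, ← hPP₀]
      exact h1.symm
    have hcompP : N.IsComplement' (P : Subgroup G) := Subgroup.isComplement'_of_coprime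
      (by rw [← hPP₀]; exact hcardN) hcop
    have hdisj : N ⊓ (P : Subgroup G) = ⊥ := disjoint_iff.mp (Subgroup.disjoint_of_coprime_natCard hcop)
    let f : ↥(P : Subgroup G) → {c : ConjClasses G // ∀ x ∈ c.carrier, ∃ k : ℕ, orderOf x = p ^ k} :=
      fun x => ⟨ConjClasses.mk (x : G), pclass_of_mem P x x.2⟩
    have hinj : Function.Injective f := by
      intro x y hxy
      have h1 : ConjClasses.mk (x : G) = ConjClasses.mk (y : G) := congrArg Subtype.val hxy
      rw [ConjClasses.mk_eq_mk_iff_isConj, isConj_iff] at h1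
      obtain ⟨g, hg⟩ := h1
      obtain ⟨⟨n, u⟩, hnu, -⟩ := Subgroup.IsComplement.existsUnique hcompP g
      simp only at hnu
      have hux : (u : G) * x * (u : G)⁻¹ = x := by
        have := hcomm.is_comm.comm u x
        have h2 := congrArg Subtype.val this
        simp only [Subgroup.coe_mul] at h2
        rw [h2]; group
      have hy : (y : G) = (n : G) * x * (n : G)⁻¹ := by
        rw [← hg, ← hnu]
        calc (n : G) * u * x * ((n : G) * u)⁻¹ = n * ((u : G) * x * (u : G)⁻¹) * (n : G)⁻¹ := by group
          _ = _ := by rw [hux]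
      have hmemN : (y : G) * (x : G)⁻¹ ∈ N := by
        rw [hy]
        have : (n : G) * x * (n : G)⁻¹ * (x : G)⁻¹ = n * ((x : G) * (n : G)⁻¹ * (x : G)⁻¹) := by group
        rw [this]
        exact N.mul_mem n.2 (hN.conj_mem _ (N.inv_mem n.2) x)
      have hmemP : (y : G) * (x : G)⁻¹ ∈ (P : Subgroup G) :=
        (P : Subgroup G).mul_mem y.2 ((P : Subgroup G).inv_mem x.2)
      have : (y : G) * (x : G)⁻¹ ∈ N ⊓ (P : Subgroup G) := ⟨hmemN, hmemP⟩
      rw [hdisj, Subgroup.mem_bot, mul_inv_eq_one] at this
      exact Subtype.ext this.symm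
    have hcard := Nat.card_le_card_of_injective f hinj
    have h2 : p + 1 < 2 * p := by have := hpp.two_le; omega
    calc (p + 1) * Nat.card (P : Subgroup G) < 2 * p * Nat.card (P : Subgroup G) :=
          Nat.mul_lt_mul_of_pos_right h2 hPpos
      _ ≤ _ := Nat.mul_le_mul_left _ hcard

end Cfsg.Agent.S3897
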