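import Cfsg.Statements.S3899
import Cfsg.Agent.S3897
import Cfsg.Agent.Lib.Helper8.PiClasses

set_option autoImplicit false
open Cfsg

namespace Cfsg.Agent.S3899

open Cfsg.Agent.Lib.Helper8

/-- Let π be a finite non-empty set of odd primes with smallest member p and G a finite group. Write k_π(G) for the number of conjugacy classes of G consisting of π-elements (elements all of whose order's prime divisors lie in π) and |G|_π for the π-part of the order of G. If k_π(G) > (p + 1)|G|_π/(2p), then G has a normal π-complement (a normal subgroup of order prime to π whose index is a π-number) and an abelian Hall π-subgroup. -/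
theorem result {G : Type*} [Group G] [Finite G] (π : Finset ℕ) (hπ : ∀ r ∈ π, r.Prime) (h2 : 2 ∉ π) (p : ℕ) (hp : p ∈ π)
    (hmin : ∀ r ∈ π, p ≤ r) (hk : (p + 1) * π.prod (fun r => r ^ (Nat.card G).factorization r) < 2 * p * Nat.card {c : ConjClasses G // ∀ x ∈ c.carrier, ∀ r : ℕ, r.Prime → r ∣ orderOf x → r ∈ π}) :
    (∃ N : Subgroup G, N.Normal ∧ (∀ r : ℕ, r.Prime → r ∣ Nat.card ↥N → r ∉ π) ∧ ∀ r : ℕ, r.Prime → r ∣ N.index → r ∈ π) ∧ ∃ H : Subgroup G, Cfsg.IsPiHall (↑π : Set ℕ) H ∧ IsMulCommutative ↥H := by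
  classical
  -- per-prime structure
  have hstep : ∀ r ∈ π, ∃ N : Subgroup G, N.Normal ∧ ¬ r ∣ Nat.card N ∧
      (∀ q : ℕ, q.Prime → q ∣ N.index → q = r) ∧ ∀ a b : G, a * b * a⁻¹ * b⁻¹ ∈ N := by
    intro r hr
    have hrp := hπ r hr
    haveI : Fact r.Prime := ⟨hrp⟩
    have hr2 : r ≠ 2 := fun h => h2 (h ▸ hr)
    have hineq : ∀ P : Sylow r G, (r + 1) * Nat.card ↥(P : Subgroup G) <
        2 * r * Nat.card {c : ConjClasses G // ∀ x ∈ c.carrier, ∃ k : ℕ, orderOf x = r ^ k} := by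
      intro P
      have hK := kpi_insert_le (π.erase r) r hrp (Finset.notMem_erase r π)
        (fun q hq => hπ q (Finset.mem_of_mem_erase hq))
        (fun Y _ _ => kpi_le (π.erase r) (fun q hq => hπ q (Finset.mem_of_mem_erase hq)) Y) G
      rw [Finset.insert_erase hr] at hK
      have hprod : π.prod (fun q => q ^ (Nat.card G).factorization q) =
          Nat.card ↥(P : Subgroup G) *
            (π.erase r).prod (fun q => q ^ (Nat.card G).factorization q) := by
        rw [← Finset.mul_prod_erase π _ hr, Sylow.card_eq_multiplicity]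
      have hBpos : 0 < (π.erase r).prod (fun q => q ^ (Nat.card G).factorization q) :=
        Finset.prod_pos (fun q hq => pow_pos (hπ q (Finset.mem_of_mem_erase hq)).pos _)
      rw [hprod] at hk
      obtain ⟨B, hB⟩ : ∃ B, B = (π.erase r).prod (fun q => q ^ (Nat.card G).factorization q) :=
        ⟨_, rfl⟩
      obtain ⟨kπ, hkπ⟩ : ∃ kπ, kπ = Nat.card {c : ConjClasses G // ∀ x ∈ c.carrier, ∀ r : ℕ,
        r.Prime → r ∣ orderOf x → r ∈ π} := ⟨_, rfl⟩
      obtain ⟨kr, hkr⟩ : ∃ kr, kr = Nat.card {c : ConjClasses G // ∀ x ∈ c.carrier,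
        ∃ k : ℕ, orderOf x = r ^ k} := ⟨_, rfl⟩
      obtain ⟨s, hs⟩ : ∃ s, s = Nat.card ↥(P : Subgroup G) := ⟨_, rfl⟩
      rw [← hB, ← hkπ, ← hs] at hk
      rw [← hB, ← hkπ, ← hkr] at hK
      rw [← hB] at hBpos
      rw [← hs, ← hkr]
      have h1 : (p + 1) * s * B < 2 * p * kr * B := by
        calc (p + 1) * s * B = (p + 1) * (s * B) := by ring
          _ < 2 * p * kπ := hk
          _ ≤ 2 * p * (kr * B) := Nat.mul_le_mul_left _ hK
          _ = 2 * p * kr * B := by ring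
      have h2' : (p + 1) * s < 2 * p * kr := Nat.lt_of_mul_lt_mul_right h1
      have hpr : p ≤ r := hmin r hr
      have hp0 : 0 < p := (hπ p hp).pos
      have h3 : (r + 1) * s * p < 2 * r * kr * p := by
        calc (r + 1) * s * p = s * (r * p) + s * p := by ring
          _ ≤ s * (r * p) + s * r := by
            have := Nat.mul_le_mul_left s hpr
            omega
          _ = (p + 1) * s * r := by ring
          _ < 2 * p * kr * r := Nat.mul_lt_mul_of_pos_right h2' hrp.pos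
          _ = 2 * r * kr * p := by ring
      exact Nat.lt_of_mul_lt_mul_right h3
    obtain ⟨⟨P₀, N, hN, hcomp⟩, -⟩ :=
      (Cfsg.Agent.S3897.result hr2 (default : Sylow r G)).mp (hineq _)
    obtain ⟨-, hcomm⟩ := (Cfsg.Agent.S3897.result hr2 P₀).mp (hineq P₀)
    refine ⟨N, hN, ?_, ?_, ?_⟩
    · have h1 : (P₀ : Subgroup G).index = Nat.card N := hcomp.index_eq_card
      rw [← h1]
      exact P₀.not_dvd_index
    · intro q hq hqi
      have h1 : N.index = Nat.card (P₀ : Subgroup G) := hcomp.symm.index_eq_card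
      rw [h1] at hqi
      obtain ⟨k, hk'⟩ := IsPGroup.iff_card.mp P₀.2
      rw [hk'] at hqi
      exact (Nat.prime_dvd_prime_iff_eq hq hrp).mp (hq.dvd_of_dvd_pow hqi)
    · intro a b
      haveI := hN
      obtain ⟨⟨n₁, u₁⟩, h₁, -⟩ := hcomp.existsUnique a
      obtain ⟨⟨n₂, u₂⟩, h₂, -⟩ := hcomp.existsUnique b
      simp only at h₁ h₂
      rw [← QuotientGroup.eq_one_iff]
      have e1 : ((a : G) : G ⧸ N) = ((u₁ : G) : G ⧸ N) := by
        rw [← h₁, QuotientGroup.mk_mul, (QuotientGroup.eq_one_iff (n₁ : G)).mpr n₁.2, one_mul]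
      have e2 : ((b : G) : G ⧸ N) = ((u₂ : G) : G ⧸ N) := by
        rw [← h₂, QuotientGroup.mk_mul, (QuotientGroup.eq_one_iff (n₂ : G)).mpr n₂.2, one_mul]
      have hc : (u₁ : G) * u₂ = u₂ * u₁ := congrArg Subtype.val (hcomm.is_comm.comm u₁ u₂)
      rw [QuotientGroup.mk_mul, QuotientGroup.mk_mul, QuotientGroup.mk_mul, QuotientGroup.mk_inv,
        QuotientGroup.mk_inv, e1, e2]
      rw [← QuotientGroup.mk_inv, ← QuotientGroup.mk_inv, ← QuotientGroup.mk_mul,
        ← QuotientGroup.mk_mul, ← QuotientGroup.mk_mul, QuotientGroup.eq_one_iff]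
      have : (u₁ : G) * u₂ * (u₁ : G)⁻¹ * (u₂ : G)⁻¹ = 1 := by rw [hc]; group
      rw [this]; exact N.one_mem
  choose! Nf hNf using hstep
  obtain ⟨N, hNdef⟩ : ∃ N : Subgroup G, N = ⨅ r : π, Nf r.1 := ⟨_, rfl⟩
  have hNle : ∀ r ∈ π, N ≤ Nf r := by
    intro r hr
    rw [hNdef]
    exact iInf_le (fun r : π => Nf r.1) ⟨r, hr⟩
  have hNnormal : N.Normal := by
    rw [hNdef]
    exact Subgroup.normal_iInf_normal (fun r : π => (hNf r.1 r.2).1)
  have hNmem : ∀ g : G, (∀ r ∈ π, g ∈ Nf r) → g ∈ N := by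
    intro g hg
    rw [hNdef, Subgroup.mem_iInf]
    intro r
    exact hg r.1 r.2
  have hNcard : ∀ q : ℕ, q.Prime → q ∣ Nat.card ↥N → q ∉ π := by
    intro q hq hqN hqπ
    exact (hNf q hqπ).2.1 (hqN.trans (Subgroup.card_dvd_of_le (hNle q hqπ)))
  have hNindex : ∀ q : ℕ, q.Prime → q ∣ N.index → q ∈ π := by
    intro q hq hqN
    haveI := hNnormal
    haveI : Fact q.Prime := ⟨hq⟩
    rw [Subgroup.index_eq_card] at hqN
    obtain ⟨y, hy⟩ := exists_prime_orderOf_dvd_card' q hqN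
    obtain ⟨g, rfl⟩ := QuotientGroup.mk_surjective y
    have hgN : g ∉ N := by
      intro hg
      have : ((g : G) : G ⧸ N) = 1 := (QuotientGroup.eq_one_iff g).mpr hg
      rw [this, orderOf_one] at hy
      exact hq.one_lt.ne hy
    have hgq : g ^ q ∈ N := by
      rw [← QuotientGroup.eq_one_iff, QuotientGroup.mk_pow, ← hy]
      exact pow_orderOf_eq_one _
    have : ∃ r ∈ π, g ∉ Nf r := by
      by_contra hcon
      push Not at hcon
      exact hgN (hNmem g hcon)
    obtain ⟨r, hr, hgr⟩ := this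
    haveI := (hNf r hr).1
    have h1 : ((g : G) : G ⧸ Nf r) ≠ 1 := fun h => hgr ((QuotientGroup.eq_one_iff g).mp h)
    have h2' : ((g : G) : G ⧸ Nf r) ^ q = 1 := by
      rw [← QuotientGroup.mk_pow]
      exact (QuotientGroup.eq_one_iff _).mpr (hNle r hr hgq)
    have h3 : orderOf ((g : G) : G ⧸ Nf r) = q := by
      rcases (Nat.dvd_prime hq).mp (orderOf_dvd_of_pow_eq_one h2') with h | h
      · exact absurd (orderOf_eq_one_iff.mp h) h1
      · exact h
    have h4 : q ∣ (Nf r).index := by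
      rw [Subgroup.index_eq_card, ← h3]
      exact orderOf_dvd_natCard _
    rw [(hNf r hr).2.2.1 q hq h4]
    exact hr
  refine ⟨⟨N, hNnormal, hNcard, hNindex⟩, ?_⟩
  haveI := hNnormal
  have hcop : Nat.Coprime (Nat.card N) N.index := by
    by_contra hcon
    obtain ⟨q, hq, hq1, hq2⟩ := Nat.Prime.not_coprime_iff_dvd.mp hcon
    exact hNcard q hq hq1 (hNindex q hq hq2)
  obtain ⟨H, hH⟩ := Subgroup.exists_right_complement'_of_coprime hcop
  refine ⟨H, ⟨?_, ?_⟩, ?_⟩
  · intro q hq hqH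
    have : N.index = Nat.card H := hH.symm.index_eq_card
    rw [← this] at hqH
    exact hNindex q hq hqH
  · intro q hq hqπ hqH
    have : H.index = Nat.card N := hH.index_eq_card
    rw [this] at hqH
    exact hNcard q hq hqH hqπ
  · refine ⟨⟨fun a b => ?_⟩⟩
    have hmemN : (a : G) * b * (a : G)⁻¹ * (b : G)⁻¹ ∈ N :=
      hNmem _ (fun r hr => (hNf r hr).2.2.2 a b)
    have hmemH : (a : G) * b * (a : G)⁻¹ * (b : G)⁻¹ ∈ H :=
      H.mul_mem (H.mul_mem (H.mul_mem a.2 b.2) (H.inv_mem a.2)) (H.inv_mem b.2)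
    have hdisj : N ⊓ H = ⊥ := disjoint_iff.mp hH.disjoint
    have : (a : G) * b * (a : G)⁻¹ * (b : G)⁻¹ ∈ N ⊓ H := ⟨hmemN, hmemH⟩
    rw [hdisj, Subgroup.mem_bot] at this
    apply Subtype.ext
    rw [Subgroup.coe_mul, Subgroup.coe_mul]
    calc (a : G) * b = ((a : G) * b * (a : G)⁻¹ * (b : G)⁻¹) * (b * a) := by group
      _ = b * a := by rw [this, one_mul]

end Cfsg.Agent.S3899
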