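import Cfsg.Statements.S3908
import Mathlib
import Cfsg.Agent.Lib.Helper6.MaxClass2
import Cfsg.Agent.S0016

set_option autoImplicit false
open Cfsg Cfsg.Agent.Lib.Helper6

namespace Cfsg.Agent.S3908


/-- in a `p`-group with two distinct subgroups of order `p` there is a subgroup of order `p^2`
and exponent `p` -/
theorem exists_ea_sq {Q : Type*} [Group Q] [Finite Q] {p : ℕ} [hp : Fact p.Prime]
    (hQ : IsPGroup p Q) (H K : Subgroup Q) (hH : Nat.card H = p) (hK : Nat.card K = p)
    (hHK : H ≠ K) : ∃ E : Subgroup Q, Nat.card E = p ^ 2 ∧ ∀ e ∈ E, e ^ p = 1 := by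
  haveI : Nontrivial Q := by
    apply Finite.one_lt_card_iff_nontrivial.1
    have h1 : Nat.card H ∣ Nat.card Q := Subgroup.card_subgroup_dvd_card H
    rw [hH] at h1
    have := Nat.le_of_dvd Nat.card_pos h1
    have := hp.out.one_lt
    omega
  haveI := hQ.center_nontrivial
  have hZ2 : p ∣ Nat.card (Subgroup.center Q) := by
    obtain ⟨k, hk⟩ := (IsPGroup.iff_card (p := p)).1 (hQ.to_subgroup (Subgroup.center Q))
    have h1 : 1 < Nat.card (Subgroup.center Q) := Finite.one_lt_card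
    rw [hk] at h1 ⊢
    rcases k with _ | k
    · simp at h1
    · exact dvd_pow_self p (by omega)
  obtain ⟨z0, hz0⟩ := exists_prime_orderOf_dvd_card' (G := Subgroup.center Q) p hZ2
  obtain ⟨z, hzdef⟩ : ∃ z : Q, z = (z0 : Q) := ⟨_, rfl⟩
  have hzc : z ∈ Subgroup.center Q := by rw [hzdef]; exact z0.2
  have hzo : orderOf z = p := by rw [hzdef, Subgroup.orderOf_coe, hz0]
  obtain ⟨Zs, hZs⟩ : ∃ Zs : Subgroup Q, Zs = Subgroup.zpowers z := ⟨_, rfl⟩
  have hZscard : Nat.card Zs = p := by rw [hZs, Nat.card_zpowers, hzo]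
  have hZsc : Zs ≤ Subgroup.center Q := by
    rw [hZs, Subgroup.zpowers_le]; exact hzc
  haveI hZn : Zs.Normal := by
    constructor
    intro x hx g
    rw [Subgroup.mem_center_iff.1 (hZsc hx) g, mul_inv_cancel_right]
    exact hx
  obtain ⟨W, hW2, hWz⟩ : ∃ W : Subgroup Q, Nat.card W = p ∧ W ≠ Zs := by
    by_cases hHz : H = Zs
    · exact ⟨K, hK, fun hKz => hHK (hHz.trans hKz.symm)⟩
    · exact ⟨H, hH, hHz⟩
  have hinf : W ⊓ Zs = ⊥ := by
    apply Subgroup.eq_bot_of_card_eq
    have h1 : Nat.card (W ⊓ Zs : Subgroup Q) ∣ p := by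
      rw [← hW2]; exact Subgroup.card_dvd_of_le inf_le_left
    rcases (Nat.dvd_prime hp.out).1 h1 with h2 | h2
    · exact h2
    · exfalso
      have h3 : W ⊓ Zs = W := Subgroup.eq_of_le_of_card_ge inf_le_left (by rw [h2, hW2])
      have h4 : W ≤ Zs := by rw [← h3]; exact inf_le_right
      exact hWz (Subgroup.eq_of_le_of_card_ge h4 (by rw [hW2, hZscard]))
  refine ⟨W ⊔ Zs, ?_, ?_⟩
  · have h1 := Subgroup.relIndex_mul_relIndex (H := (⊥ : Subgroup Q))
      (K := Zs) (L := W ⊔ Zs) bot_le le_sup_right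
    rw [Subgroup.relIndex_bot_left, Subgroup.relIndex_bot_left, hZscard,
      Subgroup.relIndex_sup_right, ← Subgroup.inf_relIndex_left, hinf,
      Subgroup.relIndex_bot_left, hW2] at h1
    rw [← h1, pow_two]
  · intro e he
    have he' : e ∈ ((W ⊔ Zs : Subgroup Q) : Set Q) := he
    rw [Subgroup.mul_normal] at he'
    obtain ⟨w, hw, z', hz', rfl⟩ := Set.mem_mul.1 he'
    have hcomm : Commute w z' := (Subgroup.mem_center_iff.1 (hZsc hz') w)
    rw [hcomm.mul_pow]
    have hw' : w ^ p = 1 := by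
      have := pow_card_eq_one' (G := W) (x := ⟨w, hw⟩)
      rw [hW2] at this
      exact congrArg Subtype.val this
    have hz'' : z' ^ p = 1 := by
      have := pow_card_eq_one' (G := Zs) (x := ⟨z', hz'⟩)
      rw [hZscard] at this
      exact congrArg Subtype.val this
    rw [hw', hz'', one_mul]

theorem exp_or_unique {G : Type*} [Group G] [Finite G]
    (hB : ∀ A B : Subgroup G, IsMulCommutative ↥A → IsMulCommutative ↥B →
      Nat.card ↥A = Nat.card ↥B → ∃ g : G, B = A.map (MulAut.conj g).toMonoidHom)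
    {p : ℕ} [hp : Fact p.Prime] (P : Sylow p G) :
    (∀ x ∈ (P : Subgroup G), x ^ p = 1) ∨
      (∀ H K : Subgroup ↥(P : Subgroup G), Nat.card H = p → Nat.card K = p → H = K) := by
  by_contra hcon
  push Not at hcon
  obtain ⟨⟨x, hxP, hxp⟩, H, K, hH, hK, hHK⟩ := hcon
  have hQ : IsPGroup p ↥(P : Subgroup G) := P.isPGroup'
  obtain ⟨E, hEcard, hEexp⟩ := exists_ea_sq hQ H K hH hK hHK
  -- element of order p^2
  obtain ⟨k, hk⟩ := (IsPGroup.iff_orderOf.1 hQ) ⟨x, hxP⟩
  rw [Subgroup.orderOf_mk] at hk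
  have hk2 : 2 ≤ k := by
    by_contra hlt
    push Not at hlt
    apply hxp
    rw [← orderOf_dvd_iff_pow_eq_one, hk]
    exact (pow_dvd_pow p (show k ≤ 1 by omega)).trans (by rw [pow_one])
  obtain ⟨y, hy⟩ : ∃ y, y = x ^ p ^ (k - 2) := ⟨_, rfl⟩
  have hyo : orderOf y = p ^ 2 := by
    apply orderOf_eq_prime_pow (n := 1)
    · rw [hy, pow_one, ← pow_mul, ← pow_succ, show k - 2 + 1 = k - 1 by omega]
      intro h1
      have := orderOf_dvd_of_pow_eq_one h1
      rw [hk] at this
      have := Nat.pow_dvd_pow_iff_le_right hp.out.one_lt |>.1 this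
      omega
    · rw [hy, ← pow_mul, ← pow_add, show k - 2 + (1 + 1) = k by omega, ← hk]
      exact pow_orderOf_eq_one x
  have hCc : IsMulCommutative (Subgroup.zpowers y) := IsCyclic.isMulCommutative
  obtain ⟨E', hE'⟩ : ∃ E' : Subgroup G, E' = E.map (P : Subgroup G).subtype := ⟨_, rfl⟩
  have hE'card : Nat.card E' = p ^ 2 := by
    rw [hE', Subgroup.card_map_of_injective (Subgroup.subtype_injective _), hEcard]
  have hE'c : IsMulCommutative E' := IsPGroup.isMulCommutative_of_card_eq_prime_sq hE'card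
  obtain ⟨g, hg⟩ := hB (Subgroup.zpowers y) E' hCc hE'c
    (by rw [Nat.card_zpowers, hyo, hE'card])
  have h1 : g * y * g⁻¹ ∈ E' := by
    rw [hg]
    exact ⟨y, Subgroup.mem_zpowers y, by simp [MulAut.conj_apply]⟩
  rw [hE'] at h1
  obtain ⟨e, he, hey⟩ := h1
  have h2 : (g * y * g⁻¹) ^ p = 1 := by
    rw [← hey]
    have := hEexp e he
    have h3 := congrArg (P : Subgroup G).subtype this
    simpa using h3
  rw [conj_pow] at h2
  have h3 : y ^ p = 1 := by
    have : y ^ p = g⁻¹ * (g * y ^ p * g⁻¹) * g := by group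
    rw [this, h2]; group
  have := orderOf_dvd_of_pow_eq_one h3
  rw [hyo] at this
  have := Nat.le_of_dvd hp.out.pos this
  have := hp.out.one_lt
  nlinarith

theorem main3908 {G : Type*} [Group G] [Finite G]
    (hB : ∀ A B : Subgroup G, IsMulCommutative ↥A → IsMulCommutative ↥B →
      Nat.card ↥A = Nat.card ↥B → ∃ g : G, B = A.map (MulAut.conj g).toMonoidHom) :
    (∀ P : Sylow 2 G, IsCyclic ↥(P : Subgroup G) ∨ Cfsg.IsElementaryAbelian 2 (P : Subgroup G) ∨
      ∃ k : ℕ, Nonempty (↥(P : Subgroup G) ≃* QuaternionGroup (2 ^ k))) ∧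
    ∀ (p : ℕ) [Fact p.Prime], p ≠ 2 → ∀ P : Sylow p G,
      IsCyclic ↥(P : Subgroup G) ∨ ∀ x ∈ (P : Subgroup G), x ^ p = 1 := by
  constructor
  · intro P
    haveI : Fact (Nat.Prime 2) := ⟨Nat.prime_two⟩
    rcases exp_or_unique hB P with h | h
    · right; left
      refine ⟨?_, h⟩
      apply comm_of_sq_eq_one
      intro a
      exact Subtype.ext (by simpa using h a.1 a.2)
    · rcases Cfsg.Agent.S0016.result 2 P.isPGroup' h with h1 | ⟨-, h1⟩
      · left; exact h1
      · right; right; exact h1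
  · intro p hp hp2 P
    rcases exp_or_unique hB P with h | h
    · right; exact h
    · rcases Cfsg.Agent.S0016.result p P.isPGroup' h with h1 | ⟨h1, -⟩
      · left; exact h1
      · exact absurd h1 hp2



/-- Let G be a finite group in which any two abelian subgroups of the same order are conjugate. Then a Sylow 2-subgroup of G is cyclic, elementary abelian or generalized quaternion, and for an odd prime p a Sylow p-subgroup of G is cyclic or has exponent dividing p. -/
theorem result {G : Type*} [Group G] [Finite G] (hB : ∀ A B : Subgroup G, IsMulCommutative ↥A → IsMulCommutative ↥B → Nat.card ↥A = Nat.card ↥B → ∃ g : G, B = A.map (MulAut.conj g).toMonoidHom) :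
    (∀ P : Sylow 2 G, IsCyclic ↥(P : Subgroup G) ∨ Cfsg.IsElementaryAbelian 2 (P : Subgroup G) ∨ ∃ k : ℕ, Nonempty (↥(P : Subgroup G) ≃* QuaternionGroup (2 ^ k))) ∧
    ∀ (p : ℕ) [Fact p.Prime], p ≠ 2 → ∀ P : Sylow p G, IsCyclic ↥(P : Subgroup G) ∨ ∀ x ∈ (P : Subgroup G), x ^ p = 1 := by
  exact main3908 hB

end Cfsg.Agent.S3908
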