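import Cfsg.Statements.S3909
import Cfsg.Agent.Lib.Helper7.SylowBasic

set_option autoImplicit false
open Cfsg

namespace Cfsg.Agent.S3909

open Cfsg.Agent.Lib.Helper7

theorem part1 {G : Type*} [Group G] [Finite G] (hB : ∀ A B : Subgroup G, IsMulCommutative ↥A → IsMulCommutative ↥B → Nat.card ↥A = Nat.card ↥B → ∃ g : G, B = A.map (MulAut.conj g).toMonoidHom) (M : Subgroup G) [hM : M.Normal] :
    ∀ a : G, (∃ m ∈ M, orderOf m = orderOf a) → a ∈ M := by
  rintro a ⟨m, hm, hord⟩
  obtain ⟨g, hg⟩ := hB (Subgroup.zpowers m) (Subgroup.zpowers a) inferInstance inferInstance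
    (by rw [Nat.card_zpowers, Nat.card_zpowers, hord])
  have ha : a ∈ (Subgroup.zpowers m).map (MulAut.conj g).toMonoidHom := by
    rw [← hg]; exact Subgroup.mem_zpowers a
  rw [mem_map_conj] at ha
  have h1 : g⁻¹ * a * g ∈ M := (Subgroup.zpowers_le.2 hm) ha
  have := hM.conj_mem _ h1 g
  simpa [mul_assoc] using this

theorem result {G : Type*} [Group G] [Finite G] (hB : ∀ A B : Subgroup G, IsMulCommutative ↥A → IsMulCommutative ↥B → Nat.card ↥A = Nat.card ↥B → ∃ g : G, B = A.map (MulAut.conj g).toMonoidHom) (M : Subgroup G) [M.Normal] :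
    (∀ a : G, (∃ m ∈ M, orderOf m = orderOf a) → a ∈ M) ∧
    ∀ (p t : ℕ) [Fact p.Prime], 2 ≤ t → Nat.card ↥M = p ^ t → Cfsg.IsElementaryAbelian p M → ∀ P : Sylow p G, (P : Subgroup G) = M := by
  refine ⟨part1 hB M, ?_⟩
  intro p t hp ht hcard hel P
  have hpp : p.Prime := hp.out
  have hMp : IsPGroup p M := IsPGroup.of_card hcard
  apply le_antisymm
  · -- P ≤ M
    -- first: a subgroup of M of order p^2
    have hdvd : p ^ 2 ∣ Nat.card M := by
      rw [hcard]; exact pow_dvd_pow p ht
    obtain ⟨K, hK⟩ := Sylow.exists_subgroup_card_pow_prime p hdvd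
    set B : Subgroup G := K.map M.subtype with hBdef
    have hBcard : Nat.card B = p ^ 2 := by
      rw [← hK]
      exact Nat.card_congr (K.equivMapOfInjective _ M.subtype_injective).symm.toEquiv
    have hBM : B ≤ M := by
      rintro _ ⟨k, _, rfl⟩
      exact k.2
    have hBcomm : IsMulCommutative B := by
      refine ⟨⟨?_⟩⟩
      rintro ⟨x, hx⟩ ⟨y, hy⟩
      have := hel.1.is_comm.comm ⟨x, hBM hx⟩ ⟨y, hBM hy⟩
      apply Subtype.ext
      have h2 := congrArg Subtype.val this
      exact h2
    -- an element of order p in M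
    have hpdvd : p ∣ Nat.card M := by
      rw [hcard]; exact dvd_pow_self p (by omega)
    obtain ⟨m0, hm0⟩ := exists_prime_orderOf_dvd_card' (G := M) p hpdvd
    have hm0' : orderOf (m0 : G) = p := by rw [Subgroup.orderOf_coe]; exact hm0
    -- every x in P has x^p = 1
    have hexp : ∀ x ∈ P, x ^ p = 1 := by
      intro x hx
      by_contra hne
      obtain ⟨k, hk⟩ := orderOf_eq_prime_pow_of_mem_sylow P x hx
      have hk2 : 2 ≤ k := by
        by_contra hlt
        push_neg at hlt
        apply hne
        have : orderOf x ∣ p := by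
          rw [hk]
          calc p ^ k ∣ p ^ 1 := pow_dvd_pow p (by omega)
            _ = p := pow_one p
        exact orderOf_dvd_iff_pow_eq_one.1 this
      set y := x ^ (p ^ (k - 2)) with hy
      have hyord : orderOf y = p ^ 2 := by
        rw [hy, orderOf_pow_of_dvd (pow_ne_zero _ hpp.ne_zero) (by rw [hk]; exact pow_dvd_pow p (by omega)), hk]
        rw [Nat.pow_div (by omega) hpp.pos]
        congr 1
        omega
      obtain ⟨g, hg⟩ := hB B (Subgroup.zpowers y) hBcomm inferInstance
        (by rw [Nat.card_zpowers, hBcard, hyord])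
      have hyB : y ∈ B.map (MulAut.conj g).toMonoidHom := by
        rw [← hg]; exact Subgroup.mem_zpowers y
      rw [mem_map_conj] at hyB
      have h1 : (g⁻¹ * y * g) ^ p = 1 := hel.2 _ (hBM hyB)
      have h2 : y ^ p = 1 := by
        have : (g⁻¹ * y * g) ^ p = g⁻¹ * y ^ p * g := by
          have := conj_pow (a := g⁻¹) (b := y) (i := p)
          simpa using this
        rw [this] at h1
        have := congrArg (fun z => g * z * g⁻¹) h1
        simpa [mul_assoc] using this
      have h3 : orderOf y ∣ p := orderOf_dvd_iff_pow_eq_one.2 h2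
      rw [hyord] at h3
      have : p ^ 2 ≤ p := Nat.le_of_dvd hpp.pos h3
      have : p * p ≤ p := by rwa [pow_two] at this
      have : p ≤ 1 := by
        by_contra hlt
        push_neg at hlt
        nlinarith [hpp.two_le]
      exact absurd hpp.two_le (by omega)
    intro x hx
    have hxp := hexp x hx
    have hdiv : orderOf x ∣ p := orderOf_dvd_iff_pow_eq_one.2 hxp
    rcases (Nat.dvd_prime hpp).1 hdiv with h1 | h1
    · rw [orderOf_eq_one_iff] at h1
      rw [h1]; exact M.one_mem
    · exact part1 hB M x ⟨m0, m0.2, by rw [hm0', h1]⟩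
  · exact hMp.le_sylow_of_normal P

end Cfsg.Agent.S3909
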