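import Cfsg.Statements.S3910
import Cfsg.Agent.S3909
import Cfsg.Agent.Lib.Helper7.NilpotentSylow

set_option autoImplicit false
open Cfsg

namespace Cfsg.Agent.S3910

open Cfsg.Agent.Lib.Helper7

/-- A finite group with at most one coatom in its subgroup lattice is cyclic. -/
theorem isCyclic_of_unique_coatom {P : Type*} [Group P] [Finite P]
    (h : ∀ M1 M2 : Subgroup P, IsCoatom M1 → IsCoatom M2 → M1 = M2) : IsCyclic P := by
  by_cases hsub : Subsingleton P
  · exact isCyclic_of_subsingleton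
  · rw [not_subsingleton_iff_nontrivial] at hsub
    obtain ⟨M, hM⟩ := (eq_top_or_exists_le_coatom (⊥ : Subgroup P)).resolve_left bot_ne_top
    obtain ⟨x, -, hx⟩ := SetLike.exists_of_lt (lt_top_iff_ne_top.2 hM.1.1)
    rw [isCyclic_iff_exists_zpowers_eq_top]
    refine ⟨x, ?_⟩
    rcases eq_top_or_exists_le_coatom (Subgroup.zpowers x) with h1 | ⟨M', hM', hle⟩
    · exact h1
    · exfalso
      have : M' = M := h M' M hM' hM.1
      rw [this] at hle
      exact hx (hle (Subgroup.mem_zpowers x))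

theorem result {G : Type*} [Group G] [Finite G] (hB : ∀ A B : Subgroup G, IsMulCommutative ↥A → IsMulCommutative ↥B → Nat.card ↥A = Nat.card ↥B → ∃ g : G, B = A.map (MulAut.conj g).toMonoidHom) (hnil : Group.IsNilpotent G) : IsCyclic G := by
  haveI := hnil
  suffices hZ : IsZGroup G by infer_instance
  refine ⟨?_⟩
  intro p hp P
  haveI : Fact p.Prime := ⟨hp⟩
  apply isCyclic_of_unique_coatom
  intro M1 M2 hM1 hM2
  by_contra hne
  -- normality of the images
  haveI hPnil : Group.IsNilpotent (P : Subgroup G) := P.isPGroup'.isNilpotent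
  have hnc : NormalizerCondition (P : Subgroup G) := Group.normalizerCondition_of_isNilpotent
  have hn1 : M1.Normal := Subgroup.NormalizerCondition.normal_of_coatom M1 hnc hM1
  have hn2 : M2.Normal := Subgroup.NormalizerCondition.normal_of_coatom M2 hnc hM2
  have hNormal : ∀ M : Subgroup (P : Subgroup G), M.Normal →
      (M.map (P : Subgroup G).subtype).Normal := by
    intro M hM
    apply normal_of_le_sylow_of_normalized P
    · rintro _ ⟨m, _, rfl⟩
      exact m.2
    · rintro u hu _ ⟨m, hm, rfl⟩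
      refine ⟨⟨u, hu⟩ * m * ⟨u, hu⟩⁻¹, hM.conj_mem m hm ⟨u, hu⟩, ?_⟩
      simp
  haveI hn1' := hNormal M1 hn1
  haveI hn2' := hNormal M2 hn2
  -- a ∈ M1 \ M2, b ∈ M2 \ M1
  have hnle12 : ¬ M1 ≤ M2 := by
    intro hle
    rcases eq_or_lt_of_le hle with h | h
    · exact hne h
    · exact hM1.2 M2 h |> fun h' => hM2.1 h'
  have hnle21 : ¬ M2 ≤ M1 := by
    intro hle
    rcases eq_or_lt_of_le hle with h | h
    · exact hne h.symm
    · exact hM2.2 M1 h |> fun h' => hM1.1 h'
  obtain ⟨a, ha1, ha2⟩ := SetLike.not_le_iff_exists.1 hnle12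
  obtain ⟨b, hb2, hb1⟩ := SetLike.not_le_iff_exists.1 hnle21
  obtain ⟨α, hα⟩ := orderOf_eq_prime_pow_of_mem_sylow P (a : G) a.2
  obtain ⟨β, hβ⟩ := orderOf_eq_prime_pow_of_mem_sylow P (b : G) b.2
  have memmap : ∀ (M : Subgroup (P : Subgroup G)) (x : (P : Subgroup G)),
      (x : G) ∈ M.map (P : Subgroup G).subtype ↔ x ∈ M := by
    intro M x
    constructor
    · rintro ⟨y, hy, hyx⟩
      have : y = x := Subtype.ext hyx
      rwa [← this]
    · intro hx
      exact ⟨x, hx, rfl⟩
  have hpp : p.Prime := hp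
  rcases le_total α β with hle | hle
  · -- b' = b^(p^(β-α)) ∈ M2 has the order of a, so a ∈ M2
    have hb' : ((b : G)) ^ (p ^ (β - α)) ∈ M2.map (P : Subgroup G).subtype :=
      Subgroup.pow_mem _ ((memmap M2 b).2 hb2) _
    have hord : orderOf (((b : G)) ^ (p ^ (β - α))) = orderOf (a : G) := by
      rw [orderOf_pow_of_dvd (pow_ne_zero _ hpp.ne_zero) (by rw [hβ]; exact pow_dvd_pow p (by omega)),
        hβ, hα, Nat.pow_div (by omega) hpp.pos]
      congr 1
      omega
    have := Cfsg.Agent.S3909.part1 hB (M2.map (P : Subgroup G).subtype) (a : G) ⟨_, hb', hord⟩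
    exact ha2 ((memmap M2 a).1 this)
  · have ha' : ((a : G)) ^ (p ^ (α - β)) ∈ M1.map (P : Subgroup G).subtype :=
      Subgroup.pow_mem _ ((memmap M1 a).2 ha1) _
    have hord : orderOf (((a : G)) ^ (p ^ (α - β))) = orderOf (b : G) := by
      rw [orderOf_pow_of_dvd (pow_ne_zero _ hpp.ne_zero) (by rw [hα]; exact pow_dvd_pow p (by omega)),
        hβ, hα, Nat.pow_div (by omega) hpp.pos]
      congr 1
      omega
    have := Cfsg.Agent.S3909.part1 hB (M1.map (P : Subgroup G).subtype) (b : G) ⟨_, ha', hord⟩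
    exact hb1 ((memmap M1 b).1 this)

end Cfsg.Agent.S3910
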