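import Cfsg.Statements.S3918
import Mathlib
import Cfsg.Agent.Lib.Helper6.PG3
import Cfsg.Agent.Lib.Helper6.NormalEA

set_option autoImplicit false
open Cfsg Cfsg.Agent.Lib.Helper6

namespace Cfsg.Agent.S3918

theorem not_comm_card {G : Type*} [Group G] [Finite G] {p : ℕ} [Fact p.Prime]
    (hna : ¬ IsMulCommutative G) (k : ℕ) (hk : Nat.card G = p ^ k) : 3 ≤ k := by
  by_contra hcon
  push Not at hcon
  apply hna
  interval_cases k
  · haveI : Subsingleton G := (Nat.card_eq_one_iff_unique.1 (by rw [hk]; rfl)).1
    exact ⟨⟨fun a b => Subsingleton.elim _ _⟩⟩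
  · haveI : IsCyclic G := isCyclic_of_prime_card (p := p) (by rw [hk, pow_one])
    exact IsCyclic.isMulCommutative
  · exact IsPGroup.isMulCommutative_of_card_eq_prime_sq (p := p) hk

theorem main3918 {G : Type*} [Group G] [Finite G] {p : ℕ} [Fact p.Prime] (hp : p ≠ 2) (hG : IsPGroup p G) (hna : ¬ IsMulCommutative G) :
    (∀ H : Subgroup G, ¬ IsCyclic ↥H → Subgroup.centralizer (H : Set G) ≤ H) ↔ Nat.card G = p ^ 3 := by
  have hpp : p.Prime := Fact.out
  constructor
  · intro hsc
    have hnc : ¬ IsCyclic G := fun h => hna IsCyclic.isMulCommutative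
    obtain ⟨E, hEn, hEe, hEcard⟩ := exists_normal_ea_sq hp (Nat.card G) G rfl hG hnc
    haveI := hEn
    have hEnc : ¬ IsCyclic E := by
      intro hcyc
      obtain ⟨g, hg⟩ := hcyc.exists_generator
      have ho : orderOf g = p ^ 2 := by rw [orderOf_eq_card_of_forall_mem_zpowers hg, hEcard]
      have hgp : g ^ p = 1 := Subtype.ext (by simpa using hEe.2 g g.2)
      have h1 := orderOf_dvd_of_pow_eq_one hgp
      rw [ho] at h1
      have h2 := Nat.le_of_dvd hpp.pos h1
      have : p < p ^ 2 := by
        have := hpp.one_lt
        nlinarith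
      omega
    have hCE : Subgroup.centralizer (E : Set G) = E := by
      apply le_antisymm (hsc E hEnc)
      intro e he
      rw [Subgroup.mem_centralizer_iff]
      intro f hf
      exact congrArg Subtype.val (hEe.1.is_comm.comm ⟨f, hf⟩ ⟨e, he⟩)
    have hidx := index_centralizer_dvd_prime hG E hEe.1 hEe.2 hEcard
    rw [hCE] at hidx
    have h1 := Subgroup.card_mul_index E
    rw [hEcard] at h1
    obtain ⟨k, hk⟩ := (IsPGroup.iff_card (p := p)).1 hG
    have hk3 := not_comm_card hna k hk
    have h2 : Nat.card G ∣ p ^ 3 := by
      rw [← h1, pow_succ]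
      exact Nat.mul_dvd_mul_left _ hidx
    rw [hk] at h2 ⊢
    have := (Nat.pow_dvd_pow_iff_le_right hpp.one_lt).1 h2
    have : k = 3 := by omega
    rw [this]
  · intro hcard H hH
    obtain ⟨k, hk⟩ := (IsPGroup.iff_card (p := p)).1 (hG.to_subgroup H)
    have hdvd := Subgroup.card_subgroup_dvd_card H
    rw [hk, hcard] at hdvd
    have hk3 := (Nat.pow_dvd_pow_iff_le_right hpp.one_lt).1 hdvd
    have hk2 : 2 ≤ k := by
      by_contra hcon
      push Not at hcon
      apply hH
      interval_cases k
      · haveI : Subsingleton H := (Nat.card_eq_one_iff_unique.1 (by rw [hk]; rfl)).1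
        exact isCyclic_of_subsingleton
      · exact isCyclic_of_prime_card (p := p) (by rw [hk, pow_one])
    have hcases : k = 2 ∨ k = 3 := by omega
    rcases hcases with rfl | rfl
    · -- H abelian of index p
      have hHc : IsMulCommutative H := IsPGroup.isMulCommutative_of_card_eq_prime_sq (p := p) hk
      have hle : H ≤ Subgroup.centralizer (H : Set G) := by
        intro e he
        rw [Subgroup.mem_centralizer_iff]
        intro f hf
        exact congrArg Subtype.val (hHc.is_comm.comm ⟨f, hf⟩ ⟨e, he⟩)
      obtain ⟨j, hj⟩ := (IsPGroup.iff_card (p := p)).1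
        (hG.to_subgroup (Subgroup.centralizer (H : Set G)))
      have h1 := Subgroup.card_le_of_le hle
      rw [hk, hj] at h1
      have hj2 := (Nat.pow_le_pow_iff_right hpp.one_lt).1 h1
      have h2 := Subgroup.card_subgroup_dvd_card (Subgroup.centralizer (H : Set G))
      rw [hj, hcard] at h2
      have hj3 := (Nat.pow_dvd_pow_iff_le_right hpp.one_lt).1 h2
      have hcases : j = 2 ∨ j = 3 := by omega
      rcases hcases with rfl | rfl
      · have := Subgroup.eq_of_le_of_card_ge hle (by rw [hk, hj])
        rw [← this]
      · exfalso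
        have htop : Subgroup.centralizer (H : Set G) = ⊤ := by
          apply Subgroup.eq_top_of_card_eq
          rw [hj, hcard]
        have hHZ : H ≤ Subgroup.center G := by
          intro e he
          rw [Subgroup.mem_center_iff]
          intro g
          have hg : g ∈ Subgroup.centralizer (H : Set G) := by rw [htop]; trivial
          rw [Subgroup.mem_centralizer_iff] at hg
          exact (hg e he).symm
        have h3 := Subgroup.card_le_of_le hHZ
        rw [hk] at h3
        have h4 := Subgroup.card_mul_index (Subgroup.center G)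
        rw [hcard] at h4
        obtain ⟨i, hi⟩ := (IsPGroup.iff_card (p := p)).1 (hG.to_subgroup (Subgroup.center G))
        rw [hi] at h3 h4
        have hi2 := (Nat.pow_le_pow_iff_right hpp.one_lt).1 h3
        have hidx : (Subgroup.center G).index ∣ p := by
          have hi3 : i ≤ 3 := by
            have : p ^ i ∣ p ^ 3 := Dvd.intro _ h4
            exact (Nat.pow_dvd_pow_iff_le_right hpp.one_lt).1 this
          have h5 : p ^ 3 = p ^ i * p ^ (3 - i) := by rw [← pow_add]; congr 1; omega
          rw [h5] at h4
          have h6 := Nat.eq_of_mul_eq_mul_left (Nat.pow_pos hpp.pos) h4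
          rw [h6]
          calc p ^ (3 - i) ∣ p ^ 1 := pow_dvd_pow p (by omega)
            _ = p := pow_one p
        apply hna
        haveI : IsCyclic (G ⧸ Subgroup.center G) := by
          rcases (Nat.dvd_prime hpp).1 hidx with h | h
          · haveI : Subsingleton (G ⧸ Subgroup.center G) :=
              (Nat.card_eq_one_iff_unique.1 (by rw [← Subgroup.index_eq_card, h])).1
            exact isCyclic_of_subsingleton
          · exact isCyclic_of_prime_card (p := p) (by rw [← Subgroup.index_eq_card, h])
        exact MonoidHom.isMulCommutative_of_isCyclic_of_ker_le_center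
          (QuotientGroup.mk' (Subgroup.center G)) (by rw [QuotientGroup.ker_mk'])
    · have : H = ⊤ := Subgroup.eq_top_of_card_eq H (by rw [hk, hcard])
      rw [this]
      exact le_top


/-- Say that a group has self-centralizing non-cyclic subgroups when every non-cyclic subgroup H satisfies C_G(H) ≤ H. For an odd prime p, a finite non-abelian p-group has self-centralizing non-cyclic subgroups if and only if it has order p³. -/
theorem result {G : Type*} [Group G] [Finite G] {p : ℕ} [Fact p.Prime] (hp : p ≠ 2) (hG : IsPGroup p G) (hna : ¬ IsMulCommutative G) :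
    (∀ H : Subgroup G, ¬ IsCyclic ↥H → Subgroup.centralizer (H : Set G) ≤ H) ↔ Nat.card G = p ^ 3 := by
  exact main3918 hp hG hna

end Cfsg.Agent.S3918
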