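import Cfsg.Statements.S3919
import Mathlib
import Cfsg.Agent.Lib.Helper6.UniqInv2
import Cfsg.Agent.Lib.Helper6.MaxClass2c
import Cfsg.Agent.S0112

set_option autoImplicit false
open Cfsg Cfsg.Agent.Lib.Helper6

namespace Cfsg.Agent.S3919

theorem maxClass_of_self_centralizing {G : Type*} [Group G] [Finite G]
    (hna : ¬ IsMulCommutative G) (n : ℕ) (hG : Nat.card G = 2 ^ n)
    (h : ∀ H : Subgroup G, ¬ IsCyclic ↥H → Subgroup.centralizer (H : Set G) ≤ H) :
    Group.nilpotencyClass G = n - 1 := by
  classical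
  have hpg : IsPGroup 2 G := IsPGroup.of_card hG
  haveI : Group.IsNilpotent G := hpg.isNilpotent
  have hnc : ¬ IsCyclic G := fun hc => hna IsCyclic.isMulCommutative
  by_cases huniq : ∀ H K : Subgroup G, Nat.card H = 2 → Nat.card K = 2 → H = K
  · -- generalized quaternion
    obtain ⟨m, hm3, hm, a, b, hao, hb, hb2, hconj⟩ := two_group_unique_involution hpg huniq hnc
    have hmn : m = n := Nat.pow_right_injective (le_refl 2) (by show 2 ^ m = 2 ^ n; rw [← hm, ← hG])
    subst hmn
    obtain ⟨q, hq⟩ : ∃ q, q = 2 ^ (m - 2) := ⟨_, rfl⟩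
    rw [← hq] at hb2
    have hq2 : 2 ^ (m - 1) = 2 * q := by
      rw [hq, ← pow_succ']; congr 1; omega
    rw [hq2] at hao
    have hqpos : 0 < q := by rw [hq]; positivity
    have ha2q : a ^ (2 * q) = 1 := by rw [← hao]; exact pow_orderOf_eq_one a
    have hAi : (Subgroup.zpowers a).index = 2 := by
      have h1 := Subgroup.card_mul_index (Subgroup.zpowers a)
      rw [Nat.card_zpowers, hao, hG] at h1
      have h2 : 2 ^ m = 2 * q * 2 := by
        rw [← hq2, ← pow_succ]; congr 1; omega
      rw [h2] at h1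
      exact Nat.eq_of_mul_eq_mul_left (show 0 < 2 * q by omega) h1
    have hb4 : b ^ 4 = 1 := by
      rw [show (4 : ℕ) = 2 * 2 by norm_num, pow_mul, hb2, ← pow_mul, mul_comm, ha2q]
    have hb2ne : b ^ 2 ≠ 1 := by
      rw [hb2]
      intro h1
      have := orderOf_dvd_of_pow_eq_one h1
      rw [hao] at this
      have := Nat.le_of_dvd hqpos this
      omega
    have hbo : orderOf b = 2 ^ 2 := by
      have : Fact (Nat.Prime 2) := ⟨Nat.prime_two⟩
      exact orderOf_eq_prime_pow (n := 1) (by rw [pow_one]; exact hb2ne) (by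
        rw [show (2 : ℕ) ^ (1 + 1) = 4 by norm_num]; exact hb4)
    have hconjk : ∀ k : ℤ, b * a ^ k * b⁻¹ = (a ^ k)⁻¹ := by
      intro k
      rw [← conj_zpow, hconj, inv_zpow]
    have hCb : Subgroup.centralizer ((Subgroup.zpowers b : Subgroup G) : Set G)
        = Subgroup.zpowers b := by
      apply le_antisymm _ (Subgroup.le_centralizer _)
      intro g hg
      have hgb : g * b = b * g :=
        (Subgroup.mem_centralizer_iff.1 hg b (Subgroup.mem_zpowers b)).symm
      have key : ∀ k : ℤ, a ^ k * b = b * a ^ k → a ^ k ∈ Subgroup.zpowers b := by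
        intro k hk
        have h1 : b * a ^ k * b⁻¹ = a ^ k := by rw [← hk]; group
        rw [hconjk] at h1
        have h2 : (a ^ k) ^ 2 = 1 := by
          rw [pow_two]
          nth_rewrite 1 [← h1]
          exact inv_mul_cancel _
        rw [← zpow_natCast, ← zpow_mul] at h2
        have h3 := (orderOf_dvd_iff_zpow_eq_one).2 h2
        rw [hao] at h3
        have h4 : (q : ℤ) ∣ k := by
          have : ((2 * q : ℕ) : ℤ) = (q : ℤ) * 2 := by push_cast; ring
          rw [this] at h3
          exact Int.dvd_of_mul_dvd_mul_right (by norm_num) h3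
        obtain ⟨c, hc⟩ := h4
        rw [hc, zpow_mul, zpow_natCast, ← hb2]
        exact Subgroup.zpow_mem _ (Subgroup.pow_mem _ (Subgroup.mem_zpowers b) _) _
      by_cases hgA : g ∈ Subgroup.zpowers a
      · obtain ⟨k, rfl⟩ := Subgroup.mem_zpowers_iff.1 hgA
        exact key k hgb
      · have hgb' : g * b⁻¹ ∈ Subgroup.zpowers a := by
          rw [Subgroup.mul_mem_iff_of_index_two hAi]
          constructor
          · intro h1; exact absurd h1 hgA
          · intro h1; exact absurd (by simpa using (Subgroup.zpowers a).inv_mem h1) hb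
        obtain ⟨k, hk⟩ := Subgroup.mem_zpowers_iff.1 hgb'
        have hg' : g = a ^ k * b := by rw [hk]; group
        have h1 : a ^ k * b = b * a ^ k := by
          have : a ^ k = g * b⁻¹ := hk
          rw [this]
          calc g * b⁻¹ * b = (g * b) * b⁻¹ := by group
            _ = (b * g) * b⁻¹ := by rw [hgb]
            _ = b * (g * b⁻¹) := by group
        rw [hg']
        exact Subgroup.mul_mem _ (key k h1) (Subgroup.mem_zpowers b)
    exact Cfsg.Agent.S0112.result (p := 2) m hG (Subgroup.zpowers b)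
      (by rw [Nat.card_zpowers, hbo]) hCb
  · -- two involutions: a self-centralizing four-group
    push Not at huniq
    obtain ⟨H, K, hH, hK, hHK⟩ := huniq
    haveI : Nontrivial G := by
      apply Finite.one_lt_card_iff_nontrivial.1
      by_contra hcon
      push Not at hcon
      apply hna
      haveI : Subsingleton G := Finite.card_le_one_iff_subsingleton.1 hcon
      exact ⟨⟨fun a b => Subsingleton.elim _ _⟩⟩
    haveI := hpg.center_nontrivial
    have hZ2 : 2 ∣ Nat.card (Subgroup.center G) := by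
      obtain ⟨k, hk⟩ := (IsPGroup.iff_card (p := 2)).1 (hpg.to_subgroup (Subgroup.center G))
      have h1 : 1 < Nat.card (Subgroup.center G) := Finite.one_lt_card
      rw [hk] at h1 ⊢
      rcases k with _ | k
      · simp at h1
      · exact dvd_pow_self 2 (by omega)
    obtain ⟨z0, hz0⟩ := exists_prime_orderOf_dvd_card' (G := Subgroup.center G) 2 hZ2
    obtain ⟨z, hzdef⟩ : ∃ z : G, z = (z0 : G) := ⟨_, rfl⟩
    have hzc : z ∈ Subgroup.center G := by rw [hzdef]; exact z0.2
    have hzo : orderOf z = 2 := by rw [hzdef, Subgroup.orderOf_coe, hz0]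
    -- choose W among H, K different from zpowers z
    obtain ⟨W, hW2, hWz⟩ : ∃ W : Subgroup G, Nat.card W = 2 ∧ W ≠ Subgroup.zpowers z := by
      by_cases hHz : H = Subgroup.zpowers z
      · exact ⟨K, hK, fun hKz => hHK (hHz.trans hKz.symm)⟩
      · exact ⟨H, hH, hHz⟩
    haveI : Nontrivial W := by
      apply Finite.one_lt_card_iff_nontrivial.1
      rw [hW2]; norm_num
    obtain ⟨w0, hw0⟩ := exists_ne (1 : W)
    obtain ⟨w, hwdef⟩ : ∃ w : G, w = (w0 : G) := ⟨_, rfl⟩
    have hwW : w ∈ W := by rw [hwdef]; exact w0.2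
    have hw1 : w ≠ 1 := by
      rw [hwdef]
      intro h1
      exact hw0 (Subtype.ext h1)
    have hw2 : w ^ 2 = 1 := by
      have h1 := pow_card_eq_one' (G := W) (x := w0)
      rw [hW2] at h1
      rw [hwdef]
      exact congrArg Subtype.val h1
    have hwo : orderOf w = 2 := orderOf_eq_prime hw2 hw1
    have hWeq : Subgroup.zpowers w = W := by
      apply Subgroup.eq_of_le_of_card_ge
      · rw [Subgroup.zpowers_le]; exact hwW
      · rw [Nat.card_zpowers, hwo, hW2]
    have hz2 : z ^ 2 = 1 := by rw [← hzo]; exact pow_orderOf_eq_one z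
    have hwz : w ≠ z := by
      intro h1
      apply hWz
      rw [← hWeq, h1]
    have hmemw : ∀ x ∈ Subgroup.zpowers w, x = 1 ∨ x = w := by
      intro x hx
      obtain ⟨k, hk⟩ := (Submonoid.mem_powers_iff _ _).1 (mem_powers_iff_mem_zpowers.2 hx)
      rcases Nat.even_or_odd k with ⟨d, hd⟩ | ⟨d, hd⟩
      · left
        rw [← hk, hd, ← two_mul, pow_mul, hw2, one_pow]
      · right
        rw [← hk, hd, pow_succ, pow_mul, hw2, one_pow, one_mul]
    have hmemz : ∀ x ∈ Subgroup.zpowers z, x = 1 ∨ x = z := by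
      intro x hx
      obtain ⟨k, hk⟩ := (Submonoid.mem_powers_iff _ _).1 (mem_powers_iff_mem_zpowers.2 hx)
      rcases Nat.even_or_odd k with ⟨d, hd⟩ | ⟨d, hd⟩
      · left
        rw [← hk, hd, ← two_mul, pow_mul, hz2, one_pow]
      · right
        rw [← hk, hd, pow_succ, pow_mul, hz2, one_pow, one_mul]
    have hinf : Subgroup.zpowers w ⊓ Subgroup.zpowers z = ⊥ := by
      rw [Subgroup.eq_bot_iff_forall]
      intro x hx
      rcases hmemw x hx.1 with h1 | h1
      · exact h1
      · rcases hmemz x hx.2 with h2 | h2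
        · exact h2
        · exact absurd (h1.symm.trans h2) hwz
    haveI hzn : (Subgroup.zpowers z).Normal := by
      constructor
      intro x hx g
      have hxc : x ∈ Subgroup.center G := by
        rcases hmemz x hx with h1 | h1
        · rw [h1]; exact Subgroup.one_mem _
        · rw [h1]; exact hzc
      rw [Subgroup.mem_center_iff.1 hxc g, mul_inv_cancel_right]
      exact hx
    obtain ⟨V, hVdef⟩ : ∃ V : Subgroup G, V = Subgroup.zpowers w ⊔ Subgroup.zpowers z :=
      ⟨_, rfl⟩
    have hVcard : Nat.card V = 4 := by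
      have h1 := Subgroup.relIndex_mul_relIndex (H := (⊥ : Subgroup G))
        (K := Subgroup.zpowers z) (L := V) bot_le (by rw [hVdef]; exact le_sup_right)
      rw [Subgroup.relIndex_bot_left, Subgroup.relIndex_bot_left, Nat.card_zpowers, hzo,
        hVdef, Subgroup.relIndex_sup_right, ← Subgroup.inf_relIndex_left, hinf,
        Subgroup.relIndex_bot_left, Nat.card_zpowers, hwo] at h1
      rw [hVdef, ← h1]
    have hwV : w ∈ V := by
      rw [hVdef]; exact (le_sup_left : Subgroup.zpowers w ≤ _) (Subgroup.mem_zpowers w)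
    have hzV : z ∈ V := by
      rw [hVdef]; exact (le_sup_right : Subgroup.zpowers z ≤ _) (Subgroup.mem_zpowers z)
    have hVnc : ¬ IsCyclic V := by
      intro hcyc
      haveI : Fintype V := Fintype.ofFinite V
      have h1 := IsCyclic.card_pow_eq_one_le (α := V) (n := 2) (by norm_num)
      have h2 : ({1, ⟨z, hzV⟩, ⟨w, hwV⟩} : Finset V) ⊆
          Finset.univ.filter (fun a : V => a ^ 2 = 1) := by
        intro x hx
        rw [Finset.mem_filter]
        refine ⟨Finset.mem_univ _, ?_⟩
        simp only [Finset.mem_insert, Finset.mem_singleton] at hx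
        rcases hx with rfl | rfl | rfl
        · exact one_pow 2
        · exact Subtype.ext hz2
        · exact Subtype.ext hw2
      have h3 : ({1, ⟨z, hzV⟩, ⟨w, hwV⟩} : Finset V).card = 3 := by
        rw [Finset.card_insert_of_notMem, Finset.card_insert_of_notMem, Finset.card_singleton]
        · rw [Finset.mem_singleton]
          intro h4
          exact hwz (congrArg Subtype.val h4).symm
        · simp only [Finset.mem_insert, Finset.mem_singleton]
          rintro (h4 | h4)
          · have hz1 : z = 1 := (congrArg Subtype.val h4).symm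
            rw [hz1, orderOf_one] at hzo
            omega
          · exact hw1 (congrArg Subtype.val h4).symm
      have h4 := Finset.card_le_card h2
      omega
    have hVc : IsMulCommutative V :=
      IsPGroup.isMulCommutative_of_card_eq_prime_sq (p := 2) (by rw [hVcard]; norm_num)
    have hCV : Subgroup.centralizer (V : Set G) = V := by
      apply le_antisymm (h V hVnc)
      intro g hg
      rw [Subgroup.mem_centralizer_iff]
      intro x hx
      have := hVc.is_comm.comm ⟨x, hx⟩ ⟨g, hg⟩
      exact congrArg Subtype.val this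
    exact Cfsg.Agent.S0112.result (p := 2) n hG V (by rw [hVcard]; norm_num) hCV


theorem self_centralizing_of_maxClass {G : Type*} [Group G] [Finite G] (n : ℕ) (hn3 : 3 ≤ n)
    (hG : Nat.card G = 2 ^ n) (hc : Group.nilpotencyClass G = n - 1) (H : Subgroup G)
    (hH : ¬ IsCyclic ↥H) : Subgroup.centralizer (H : Set G) ≤ H := by
  obtain ⟨a, b, hao, hb, hcases⟩ := maxClass_two_classification n hn3 hG hc
  obtain ⟨q, hq⟩ : ∃ q, q = 2 ^ (n - 2) := ⟨_, rfl⟩
  rw [← hq] at hcases
  have hq2 : 2 ^ (n - 1) = 2 * q := by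
    rw [hq, ← pow_succ']; congr 1; omega
  rw [hq2] at hao
  have hqpos : 0 < q := by rw [hq]; positivity
  have ha2q : a ^ (2 * q) = 1 := by rw [← hao]; exact pow_orderOf_eq_one a
  obtain ⟨A, hAdef⟩ : ∃ A : Subgroup G, A = Subgroup.zpowers a := ⟨_, rfl⟩
  rw [← hAdef] at hb
  have haA : a ∈ A := by rw [hAdef]; exact Subgroup.mem_zpowers a
  have hAi : A.index = 2 := by
    have h1 := Subgroup.card_mul_index A
    rw [hAdef, Nat.card_zpowers, hao, hG] at h1
    have h2 : 2 ^ n = 2 * q * 2 := by
      rw [← hq2, ← pow_succ]; congr 1; omega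
    rw [h2] at h1
    rw [hAdef]
    exact Nat.eq_of_mul_eq_mul_left (show 0 < 2 * q by omega) h1
  haveI hAn : A.Normal := Subgroup.normal_of_index_eq_two hAi
  have hApow : ∀ c ∈ A, ∃ j : ℕ, a ^ j = c := by
    intro c hc
    rw [hAdef] at hc
    exact (Submonoid.mem_powers_iff _ _).1 (mem_powers_iff_mem_zpowers.2 hc)
  have hqq : (a ^ q) ^ 2 = 1 := by rw [← pow_mul, mul_comm, ha2q]
  have hqs : ∀ s' : ℕ, q ∣ s' → a ^ s' = 1 ∨ a ^ s' = a ^ q := by
    intro s' hs'
    obtain ⟨c, rfl⟩ := hs'
    rw [pow_mul]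
    rcases Nat.even_or_odd c with ⟨d, hd⟩ | ⟨d, hd⟩
    · left
      rw [hd, ← two_mul, pow_mul, hqq, one_pow]
    · right
      rw [hd, pow_succ, pow_mul, hqq, one_pow, one_mul]
  have hinvA : ∀ y ∈ A, y ^ 2 = 1 → y = 1 ∨ y = a ^ q := by
    intro y hy hy2
    obtain ⟨k, rfl⟩ := hApow y hy
    apply hqs
    rw [← pow_mul] at hy2
    have := orderOf_dvd_of_pow_eq_one hy2
    rw [hao, mul_comm k 2] at this
    exact Nat.dvd_of_mul_dvd_mul_left (by norm_num) this
  have hfix : ∀ k : ℕ, b * a ^ k * b⁻¹ = a ^ k → a ^ k = 1 ∨ a ^ k = a ^ q := by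
    intro k hk
    rcases hcases with ⟨-, hconj⟩ | ⟨-, hconj⟩ | ⟨hn4, -, hconj⟩
    · apply hinvA _ (A.pow_mem haA k)
      rw [← conj_pow, hconj, inv_pow] at hk
      rw [pow_two]
      nth_rewrite 1 [← hk]
      exact inv_mul_cancel _
    · apply hinvA _ (A.pow_mem haA k)
      rw [← conj_pow, hconj, inv_pow] at hk
      rw [pow_two]
      nth_rewrite 1 [← hk]
      exact inv_mul_cancel _
    · apply hqs
      rw [← conj_pow, hconj, ← pow_mul, pow_eq_pow_iff_modEq, hao] at hk
      obtain ⟨r, hr⟩ : ∃ r, q = 4 * r := by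
        refine ⟨2 ^ (n - 4), ?_⟩
        rw [hq, show n - 2 = (n - 4) + 2 by omega, pow_add]
        ring
      have hrpos : 1 ≤ r := by omega
      have hqs0 : (q - 2) * k ≡ 0 [MOD 2 * q] := by
        have h1 : (q - 2) * k + k ≡ 0 + k [MOD 2 * q] := by
          rw [zero_add]
          have : (q - 2) * k + k = (q - 1) * k := by
            have : q - 1 = (q - 2) + 1 := by omega
            rw [this]; ring
          rw [this]
          exact hk
        exact Nat.ModEq.add_right_cancel' k h1
      have h1 : 2 * q ∣ (q - 2) * k := (Nat.modEq_zero_iff_dvd).1 hqs0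
      have h2 : q - 2 = 2 * (2 * r - 1) := by omega
      rw [h2, mul_assoc] at h1
      have h3 : q ∣ (2 * r - 1) * k := Nat.dvd_of_mul_dvd_mul_left (by norm_num) h1
      have hcop : Nat.Coprime q (2 * r - 1) := by
        rw [hq]
        apply Nat.Coprime.pow_left
        rw [Nat.coprime_two_left]
        exact ⟨r - 1, by omega⟩
      exact hcop.dvd_of_dvd_mul_left h3
  have hAcomm : ∀ x ∈ A, ∀ y ∈ A, x * y = y * x := by
    intro x hx y hy
    obtain ⟨i, rfl⟩ := hApow x hx
    obtain ⟨j, rfl⟩ := hApow y hy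
    exact ((Commute.refl a).pow_pow i j).eq
  have hout : ∀ x : G, x ∉ A → x * b⁻¹ ∈ A := by
    intro x hx
    rw [Subgroup.mul_mem_iff_of_index_two hAi]
    constructor
    · intro h; exact absurd h hx
    · intro h; exact absurd (by simpa using A.inv_mem h) hb
  have hfix' : ∀ x : G, x ∉ A → ∀ y ∈ A, x * y = y * x → y = 1 ∨ y = a ^ q := by
    intro x hx y hy hxy
    obtain ⟨k, rfl⟩ := hApow y hy
    apply hfix
    have hbyA : b * a ^ k * b⁻¹ ∈ A := hAn.conj_mem _ hy b
    have h1 := hAcomm _ (hout x hx) _ hbyA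
    -- x = (x b⁻¹) b
    have h2 : x * a ^ k * x⁻¹ = (x * b⁻¹) * (b * a ^ k * b⁻¹) * (x * b⁻¹)⁻¹ := by group
    have h3 : x * a ^ k * x⁻¹ = a ^ k := by rw [hxy]; group
    have h4 : (x * b⁻¹) * (b * a ^ k * b⁻¹) * (x * b⁻¹)⁻¹ = b * a ^ k * b⁻¹ := by
      rw [h1, mul_inv_cancel_right]
    rw [h4] at h2
    rw [← h2, h3]
  -- H is not inside A
  have hHA : ¬ H ≤ A := by
    intro hle
    apply hH
    haveI : IsCyclic A := by rw [hAdef]; infer_instance
    have hcyc : IsCyclic (H.subgroupOf A) := inferInstance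
    exact isCyclic_of_surjective (Subgroup.subgroupOfEquivOfLe hle).toMonoidHom
      (Subgroup.subgroupOfEquivOfLe hle).surjective
  obtain ⟨h, hhH, hhA⟩ := SetLike.not_le_iff_exists.1 hHA
  -- a nontrivial element of H ∩ A
  obtain ⟨y, hyH, hyA, hy1⟩ : ∃ y ∈ H, y ∈ A ∧ y ≠ 1 := by
    have hne : ¬ H ≤ Subgroup.zpowers h := by
      intro hle
      apply hH
      have heq : H = Subgroup.zpowers h :=
        le_antisymm hle (by rw [Subgroup.zpowers_le]; exact hhH)
      rw [heq]
      infer_instance
    obtain ⟨h', hh'H, hh'z⟩ := SetLike.not_le_iff_exists.1 hne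
    by_cases hh'A : h' ∈ A
    · exact ⟨h', hh'H, hh'A, fun h1 => hh'z (h1 ▸ Subgroup.one_mem _)⟩
    · refine ⟨h' * h⁻¹, H.mul_mem hh'H (H.inv_mem hhH), ?_, ?_⟩
      · rw [Subgroup.mul_mem_iff_of_index_two hAi]
        constructor
        · intro h1; exact absurd h1 hh'A
        · intro h1; exact absurd (by simpa using A.inv_mem h1) hhA
      · intro h1
        apply hh'z
        have : h' = h := by
          have := mul_inv_eq_one.1 h1
          exact this
        rw [this]
        exact Subgroup.mem_zpowers h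
  have hzH : a ^ q ∈ H := by
    have hpg : IsPGroup 2 G := IsPGroup.of_card hG
    obtain ⟨i, hi⟩ := (IsPGroup.iff_orderOf.1 hpg) y
    have hi1 : 1 ≤ i := by
      rcases Nat.eq_zero_or_pos i with h0 | h0
      · rw [h0, pow_zero, orderOf_eq_one_iff] at hi
        exact absurd hi hy1
      · exact h0
    have h1 : (y ^ 2 ^ (i - 1)) ^ 2 = 1 := by
      rw [← pow_mul, ← pow_succ, show i - 1 + 1 = i by omega, ← hi]
      exact pow_orderOf_eq_one y
    have h2 : y ^ 2 ^ (i - 1) ≠ 1 := by
      intro h0
      have := orderOf_dvd_of_pow_eq_one h0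
      rw [hi] at this
      have := Nat.pow_dvd_pow_iff_le_right (show 1 < 2 by norm_num) |>.1 this
      omega
    rcases hinvA _ (A.pow_mem hyA _) h1 with h3 | h3
    · exact absurd h3 h2
    · rw [← h3]; exact H.pow_mem hyH _
  intro g hg
  have hgh : g * h = h * g := (Subgroup.mem_centralizer_iff.1 hg h hhH).symm
  by_cases hgA : g ∈ A
  · rcases hfix' h hhA g hgA hgh.symm with h1 | h1
    · rw [h1]; exact H.one_mem
    · rw [h1]; exact hzH
  · have hghA : g * h⁻¹ ∈ A := by
      rw [Subgroup.mul_mem_iff_of_index_two hAi]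
      constructor
      · intro h1; exact absurd h1 hgA
      · intro h1; exact absurd (by simpa using A.inv_mem h1) hhA
    have hcomm : h * (g * h⁻¹) = (g * h⁻¹) * h := by
      rw [← mul_assoc, ← hgh]; group
    have : g = (g * h⁻¹) * h := by group
    rw [this]
    rcases hfix' h hhA _ hghA hcomm with h1 | h1
    · rw [h1, one_mul]; exact hhH
    · rw [h1]; exact H.mul_mem hzH hhH


theorem main3919 {G : Type*} [Group G] [Finite G] (hna : ¬ IsMulCommutative G) (n : ℕ)
    (hG : Nat.card G = 2 ^ n) :
    (∀ H : Subgroup G, ¬ IsCyclic ↥H → Subgroup.centralizer (H : Set G) ≤ H) ↔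
      (⊤ : Subgroup G).lowerCentralSeries (n - 2) ≠ ⊥ := by
  have hpg : IsPGroup 2 G := IsPGroup.of_card hG
  haveI : Group.IsNilpotent G := hpg.isNilpotent
  have hn3 : 3 ≤ n := by
    by_contra hcon
    push Not at hcon
    apply hna
    interval_cases n
    · haveI : Subsingleton G := (Nat.card_eq_one_iff_unique.1 (by rw [hG]; rfl)).1
      exact ⟨⟨fun a b => Subsingleton.elim _ _⟩⟩
    · haveI : IsCyclic G := isCyclic_of_prime_card (p := 2) (by rw [hG]; rfl)
      exact IsCyclic.isMulCommutative
    · exact IsPGroup.isMulCommutative_of_card_eq_prime_sq (p := 2) hG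
  have hle := class_le_of_card (p := 2) n G (by omega) hG
  rw [Ne, Subgroup.lowerCentralSeries_eq_bot_iff_nilpotencyClass_le]
  constructor
  · intro h
    have := maxClass_of_self_centralizing hna n hG h
    omega
  · intro h H hH
    exact self_centralizing_of_maxClass n hn3 hG (by omega) H hH


/-- Say that a group has self-centralizing non-cyclic subgroups when every non-cyclic subgroup H satisfies C_G(H) ≤ H. A finite non-abelian 2-group G of order 2^n has self-centralizing non-cyclic subgroups if and only if G has nilpotency class n − 1 (that is, G is dihedral, semidihedral or generalized quaternion). -/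
theorem result {G : Type*} [Group G] [Finite G] (hna : ¬ IsMulCommutative G) (n : ℕ) (hG : Nat.card G = 2 ^ n) :
    (∀ H : Subgroup G, ¬ IsCyclic ↥H → Subgroup.centralizer (H : Set G) ≤ H) ↔ (⊤ : Subgroup G).lowerCentralSeries (n - 2) ≠ ⊥ := by
  exact main3919 hna n hG

end Cfsg.Agent.S3919
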