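import Cfsg.Statements.S3920
import Cfsg.Agent.Lib.Lead.KleinDih2

set_option autoImplicit false
open Cfsg

namespace Cfsg.Agent.S3920

open DihedralGroup Cfsg.Agent.Lib.Lead.KleinDih

theorem comm_of_cyclic {A : Type*} [Group A] [IsCyclic A] : IsMulCommutative A := by
  obtain ⟨g, hg⟩ := IsCyclic.exists_generator (α := A)
  refine ⟨⟨fun a b => ?_⟩⟩
  obtain ⟨i, rfl⟩ := Subgroup.mem_zpowers_iff.mp (hg a)
  obtain ⟨j, rfl⟩ := Subgroup.mem_zpowers_iff.mp (hg b)
  exact ((Commute.refl g).zpow_zpow i j).eq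

/-- rotations and reflections whose index is killed by `p` -/
def torD (n p : ℕ) : Subgroup (DihedralGroup n) where
  carrier := {x | (∃ a : ZMod n, (p : ZMod n) * a = 0 ∧ x = r a) ∨
    (∃ a : ZMod n, (p : ZMod n) * a = 0 ∧ x = sr a)}
  mul_mem' := by
    rintro x y (⟨a, ha, rfl⟩ | ⟨a, ha, rfl⟩) (⟨b, hb, rfl⟩ | ⟨b, hb, rfl⟩)
    · exact Or.inl ⟨a + b, by rw [mul_add, ha, hb, add_zero], r_mul_r a b⟩
    · exact Or.inr ⟨b - a, by rw [mul_sub, ha, hb, sub_zero], r_mul_sr a b⟩
    · exact Or.inr ⟨a + b, by rw [mul_add, ha, hb, add_zero], sr_mul_r a b⟩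
    · exact Or.inl ⟨b - a, by rw [mul_sub, ha, hb, sub_zero], sr_mul_sr a b⟩
  one_mem' := Or.inl ⟨0, mul_zero _, rfl⟩
  inv_mem' := by
    rintro x (⟨a, ha, rfl⟩ | ⟨a, ha, rfl⟩)
    · exact Or.inl ⟨-a, by rw [mul_neg, ha, neg_zero], inv_r a⟩
    · exact Or.inr ⟨a, ha, inv_sr a⟩

theorem hpow {n : ℕ} (H : Subgroup (DihedralGroup n)) (a : ZMod n) (ha : r a ∈ H) (t : ℕ) :
    r ((t : ZMod n) * a) ∈ H := by
  induction t with
  | zero => rw [Nat.cast_zero, zero_mul, r_zero]; exact H.one_mem
  | succ t ih =>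
    have e : r (((t + 1 : ℕ) : ZMod n) * a) = r ((t : ZMod n) * a) * r a := by
      rw [r_mul_r]; congr 1; push_cast; ring
    rw [e]; exact H.mul_mem ih ha

theorem exists_mul_eq_half (k : ℕ) (hk : 1 ≤ k) (a : ZMod (2 ^ k)) (ha : a ≠ 0) :
    ∃ t : ℕ, (t : ZMod (2 ^ k)) * a = ((2 ^ (k - 1) : ℕ) : ZMod (2 ^ k)) := by
  haveI : NeZero (2 ^ k) := ⟨by positivity⟩
  have hv0 : a.val ≠ 0 := fun h => ha ((ZMod.val_eq_zero a).mp h)
  obtain ⟨j, q, hq, hjq⟩ := Nat.exists_eq_pow_mul_and_not_dvd hv0 2 (by norm_num)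
  have hlt : a.val < 2 ^ k := ZMod.val_lt a
  have hjk : j < k := by
    by_contra h
    push Not at h
    have h1 : 2 ^ k ≤ 2 ^ j := Nat.pow_le_pow_right (by norm_num) h
    have hq1 : 1 ≤ q := Nat.pos_of_ne_zero (by rintro rfl; exact hq (dvd_zero 2))
    have h2 : 2 ^ j ≤ 2 ^ j * q := Nat.le_mul_of_pos_right _ hq1
    omega
  obtain ⟨q', hq'⟩ : ∃ q', q = 2 * q' + 1 := ⟨q / 2, by omega⟩
  refine ⟨2 ^ (k - 1 - j), ?_⟩
  have e1 : 2 ^ (k - 1 - j) * a.val = 2 ^ k * q' + 2 ^ (k - 1) := by
    rw [hjq, hq']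
    have h2 : 2 ^ (k - 1 - j) * 2 ^ j = 2 ^ (k - 1) := by
      rw [← pow_add]; congr 1; omega
    have h3 : 2 ^ k = 2 * 2 ^ (k - 1) := by
      rw [← pow_succ']; congr 1; omega
    calc 2 ^ (k - 1 - j) * (2 ^ j * (2 * q' + 1))
        = (2 ^ (k - 1 - j) * 2 ^ j) * (2 * q' + 1) := by ring
      _ = 2 ^ (k - 1) * (2 * q' + 1) := by rw [h2]
      _ = 2 * 2 ^ (k - 1) * q' + 2 ^ (k - 1) := by ring
      _ = 2 ^ k * q' + 2 ^ (k - 1) := by rw [h3]
  calc ((2 ^ (k - 1 - j) : ℕ) : ZMod (2 ^ k)) * a
      = ((2 ^ (k - 1 - j) : ℕ) : ZMod (2 ^ k)) * ((a.val : ℕ) : ZMod (2 ^ k)) := by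
        rw [ZMod.natCast_zmod_val]
    _ = ((2 ^ (k - 1 - j) * a.val : ℕ) : ZMod (2 ^ k)) := by rw [Nat.cast_mul]
    _ = ((2 ^ k * q' + 2 ^ (k - 1) : ℕ) : ZMod (2 ^ k)) := by rw [e1]
    _ = ((2 ^ (k - 1) : ℕ) : ZMod (2 ^ k)) := by
      rw [Nat.cast_add, Nat.cast_mul, ZMod.natCast_self, zero_mul, zero_add]

/-- Say that a group has self-centralizing non-cyclic subgroups when every non-cyclic subgroup H satisfies C_G(H) ≤ H. For n ≥ 3, the dihedral group of order 2n has self-centralizing non-cyclic subgroups if and only if n is odd or a power of 2. -/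
theorem result (n : ℕ) (hn : 3 ≤ n) : (∀ H : Subgroup (DihedralGroup n), ¬ IsCyclic ↥H → Subgroup.centralizer (H : Set (DihedralGroup n)) ≤ H) ↔ (Odd n ∨ ∃ k : ℕ, n = 2 ^ k) := by
  classical
  haveI : NeZero n := ⟨by omega⟩
  have hrefl : ∀ H : Subgroup (DihedralGroup n), ¬ IsCyclic ↥H → ∃ i, sr i ∈ H := by
    intro H hH
    by_contra hno
    push Not at hno
    apply hH
    apply isCyclic_of_le_zpowers H (r 1)
    intro x hx
    cases x with
    | r a =>
      rw [Subgroup.mem_zpowers_iff]
      refine ⟨(a.val : ℤ), ?_⟩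
      rw [zpow_natCast, r_one_pow, ZMod.natCast_zmod_val]
    | sr a => exact absurd hx (hno a)
  constructor
  · intro hall
    rcases Nat.eq_two_pow_or_exists_odd_prime_and_dvd n with h | ⟨p, hp, hpn, hpodd⟩
    · exact Or.inr h
    · left
      by_contra hodd
      have heven : 2 ∣ n := by
        rcases Nat.even_or_odd n with h | h
        · exact h.two_dvd
        · exact absurd h hodd
      obtain ⟨h, hh⟩ := heven
      obtain ⟨d, hd⟩ := hpn
      have hd0 : 0 < d := by
        rcases Nat.eq_zero_or_pos d with h0 | h0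
        · rw [h0, mul_zero] at hd; omega
        · exact h0
      have hh0 : 0 < h := by omega
      have ha0 : (p : ZMod n) * ((d : ℕ) : ZMod n) = 0 := by
        rw [← Nat.cast_mul, ← hd, ZMod.natCast_self]
      have hnc : ¬ IsCyclic ↥(torD n p) := by
        intro hc
        haveI := hc
        have hcomm := (comm_of_cyclic (A := ↥(torD n p))).is_comm.comm
          (⟨r ((d : ℕ) : ZMod n), Or.inl ⟨_, ha0, rfl⟩⟩ : ↥(torD n p))
          ⟨sr 0, Or.inr ⟨0, mul_zero _, rfl⟩⟩
        have h2 : (r ((d : ℕ) : ZMod n) : DihedralGroup n) * sr 0 = sr 0 * r ((d : ℕ) : ZMod n) :=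
          congrArg Subtype.val hcomm
        rw [r_mul_sr, sr_mul_r] at h2
        injection h2 with h3
        have h4 : ((2 * d : ℕ) : ZMod n) = 0 := by
          push_cast
          linear_combination -h3
        rw [ZMod.natCast_eq_zero_iff, hd] at h4
        have h5 : p ∣ 2 := Nat.dvd_of_mul_dvd_mul_right hd0 h4
        have h6 := Nat.le_of_dvd (by norm_num) h5
        have h7 := hp.two_le
        have h8 : p = 2 := by omega
        rw [h8] at hpodd
        exact absurd hpodd (by decide)
      have hcc : ((h : ℕ) : ZMod n) + ((h : ℕ) : ZMod n) = 0 := by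
        rw [← Nat.cast_add]
        have e : h + h = n := by omega
        rw [e, ZMod.natCast_self]
      have hzC : r ((h : ℕ) : ZMod n) ∈ Subgroup.centralizer
          ((torD n p : Subgroup (DihedralGroup n)) : Set (DihedralGroup n)) := by
        rw [Subgroup.mem_centralizer_iff]
        intro x _
        cases x with
        | r a => rw [r_mul_r, r_mul_r, add_comm]
        | sr a =>
          rw [sr_mul_r, r_mul_sr]
          congr 1
          linear_combination hcc
      have hzH := hall (torD n p) hnc hzC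
      rcases hzH with ⟨a, ha, hra⟩ | ⟨a, ha, hra⟩
      · injection hra with hra'
        rw [← hra'] at ha
        have h4 : ((p * h : ℕ) : ZMod n) = 0 := by rw [Nat.cast_mul]; exact ha
        rw [ZMod.natCast_eq_zero_iff, hh] at h4
        have h5 : 2 ∣ p := Nat.dvd_of_mul_dvd_mul_right hh0 h4
        exact (Nat.not_even_iff_odd.mpr hpodd) (even_iff_two_dvd.mpr h5)
      · cases hra
  · rintro (hodd | ⟨k, rfl⟩)
    · intro H hH
      obtain ⟨i, hi⟩ := hrefl H hH
      obtain ⟨u, hu⟩ : ∃ u : ℕ, (u : ZMod n) * 2 = 1 := by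
        obtain ⟨q, hq⟩ := hodd
        refine ⟨q + 1, ?_⟩
        have h2 : (q + 1) * 2 = n + 1 := by omega
        calc ((q + 1 : ℕ) : ZMod n) * 2 = (((q + 1) * 2 : ℕ) : ZMod n) := by
              rw [Nat.cast_mul, Nat.cast_ofNat]
          _ = ((n + 1 : ℕ) : ZMod n) := by rw [h2]
          _ = 1 := by rw [Nat.cast_add, ZMod.natCast_self, zero_add, Nat.cast_one]
      have h2z : ∀ a : ZMod n, a + a = 0 → a = 0 := by
        intro a ha
        calc a = (u : ZMod n) * 2 * a := by rw [hu, one_mul]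
          _ = (u : ZMod n) * (a + a) := by ring
          _ = 0 := by rw [ha, mul_zero]
      intro g hg
      have hc := (Subgroup.mem_centralizer_iff.mp hg) (sr i) hi
      cases g with
      | r a =>
        rw [sr_mul_r, r_mul_sr] at hc
        injection hc with hc'
        have h0 : a = 0 := h2z a (by linear_combination hc')
        rw [h0, r_zero]; exact H.one_mem
      | sr b =>
        rw [sr_mul_sr, sr_mul_sr] at hc
        injection hc with hc'
        have h0 : b - i = 0 := h2z (b - i) (by linear_combination hc')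
        have hb : b = i := sub_eq_zero.mp h0
        rw [hb]; exact hi
    · have hk : 2 ≤ k := by
        by_contra h
        push Not at h
        interval_cases k <;> norm_num at hn
      obtain ⟨c, hcdef⟩ : ∃ c : ZMod (2 ^ k), c = ((2 ^ (k - 1) : ℕ) : ZMod (2 ^ k)) := ⟨_, rfl⟩
      have hpk : 2 ^ (k - 1) + 2 ^ (k - 1) = 2 ^ k := by
        have e : 2 ^ k = 2 * 2 ^ (k - 1) := by
          rw [← pow_succ']; congr 1; omega
        omega
      have hcc : c + c = 0 := by
        rw [hcdef, ← Nat.cast_add, hpk, ZMod.natCast_self]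
      have hc0 : c ≠ 0 := by
        rw [hcdef]
        intro h
        rw [ZMod.natCast_eq_zero_iff] at h
        have h1 := Nat.le_of_dvd (by positivity) h
        have h2 : 0 < 2 ^ (k - 1) := by positivity
        omega
      intro H hH
      obtain ⟨i, hi⟩ := hrefl H hH
      obtain ⟨a, ha0, haH⟩ : ∃ a : ZMod (2 ^ k), a ≠ 0 ∧ r a ∈ H := by
        by_contra hno
        push Not at hno
        apply hH
        apply isCyclic_of_le_zpowers H (sr i)
        intro x hx
        cases x with
        | r a =>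
          by_cases ha : a = 0
          · rw [ha, r_zero]; exact Subgroup.one_mem _
          · exact absurd hx (hno a ha)
        | sr b =>
          by_cases hb : b = i
          · rw [hb]; exact Subgroup.mem_zpowers _
          · exfalso
            have h1 : sr i * sr b ∈ H := H.mul_mem hi hx
            rw [sr_mul_sr] at h1
            exact hno (b - i) (sub_ne_zero.mpr hb) h1
      obtain ⟨t, ht⟩ := exists_mul_eq_half k (by omega) a ha0
      have hzH : r c ∈ H := by
        rw [hcdef, ← ht]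
        exact hpow H a haH t
      intro g hg
      have hc := (Subgroup.mem_centralizer_iff.mp hg) (sr i) hi
      cases g with
      | r a' =>
        rw [sr_mul_r, r_mul_sr] at hc
        injection hc with hc'
        have h2 : a' + a' = 0 := by linear_combination hc'
        by_cases h0 : a' = 0
        · rw [h0, r_zero]; exact H.one_mem
        · rw [zmod_invol_unique (2 ^ k) a' c h2 hcc h0 hc0]; exact hzH
      | sr b =>
        rw [sr_mul_sr, sr_mul_sr] at hc
        injection hc with hc'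
        have h2 : (b - i) + (b - i) = 0 := by linear_combination hc'
        by_cases h0 : b - i = 0
        · rw [sub_eq_zero.mp h0]; exact hi
        · have h3 := zmod_invol_unique (2 ^ k) (b - i) c h2 hcc h0 hc0
          have e : sr b = sr i * r c := by
            rw [sr_mul_r, ← h3]; congr 1; ring
          rw [e]; exact H.mul_mem hi hzH

end Cfsg.Agent.S3920
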