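import Mathlib
import Cfsg.Statements.S3939
import Cfsg.Agent.S4242
import Cfsg.Agent.Lib.Helper1.BaerSuzuki
import Cfsg.Agent.Lib.Helper7.EltDecomp

set_option autoImplicit false

open Cfsg

namespace Cfsg.Agent.S3939

open Cfsg.Agent.Lib.Helper7
open scoped commutatorElement

theorem isPGroup_closure_pair {G : Type*} [Group G] [Finite G] {p : ℕ} [Fact p.Prime]
    (M : Subgroup G) (hM : Group.IsNilpotent ↥M) (a b : G) (ha : a ∈ M) (hb : b ∈ M)
    (hao : ∃ k, orderOf a = p ^ k) (hbo : ∃ k, orderOf b = p ^ k) :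
    IsPGroup p (Subgroup.closure ({a, b} : Set G)) := by
  haveI := hM
  obtain ⟨S⟩ : Nonempty (Sylow p ↥M) := inferInstance
  haveI hSn : (S : Subgroup ↥M).Normal := inferInstance
  have hmem : ∀ c : G, ∀ hc : c ∈ M, (∃ k, orderOf c = p ^ k) →
      (⟨c, hc⟩ : ↥M) ∈ (S : Subgroup ↥M) := by
    rintro c hc ⟨k, hk⟩
    have hz : IsPGroup p (Subgroup.zpowers (⟨c, hc⟩ : ↥M)) := by
      apply IsPGroup.of_card (n := k)
      rw [Nat.card_zpowers, Subgroup.orderOf_mk, hk]
    obtain ⟨S', hS'⟩ := hz.exists_le_sylow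
    haveI := Sylow.unique_of_normal S hSn
    have : S' = S := Subsingleton.elim _ _
    rw [← this]
    exact hS' (Subgroup.mem_zpowers _)
  have hle : Subgroup.closure ({a, b} : Set G) ≤ (S : Subgroup ↥M).map M.subtype := by
    rw [Subgroup.closure_le]
    intro c hc
    rcases hc with h | h
    · rw [h]; exact ⟨⟨a, ha⟩, hmem a ha hao, rfl⟩
    · rw [Set.mem_singleton_iff] at h
      rw [h]; exact ⟨⟨b, hb⟩, hmem b hb hbo, rfl⟩
  exact (S.2.map M.subtype).to_le hle

theorem prime_case {G : Type*} [Group G] [Finite G] {p : ℕ} [hp : Fact p.Prime] (g : G)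
    (hgo : ∃ k, orderOf g = p ^ k)
    (h : ∀ x : G, Group.IsNilpotent ↥(Subgroup.closure ({x, g} : Set G))) :
    g ∈ ⨆ n : ℕ, Subgroup.upperCentralSeries G n := by
  classical
  have hconjord : ∀ y s : G, orderOf (y * s * y⁻¹) = orderOf s := by
    intro y s
    have := orderOf_injective (MulAut.conj y).toMonoidHom (MulAut.conj y).injective s
    simpa [MulAut.conj_apply] using this
  -- Baer–Suzuki
  have hBS : ∀ y : G, IsPGroup p (Subgroup.closure ({g, y * g * y⁻¹} : Set G)) := by
    intro y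
    have hyM : y ∈ Subgroup.closure ({y, g} : Set G) := Subgroup.subset_closure (by simp)
    have hgM : g ∈ Subgroup.closure ({y, g} : Set G) := Subgroup.subset_closure (by simp)
    have hcM : y * g * y⁻¹ ∈ Subgroup.closure ({y, g} : Set G) :=
      Subgroup.mul_mem _ (Subgroup.mul_mem _ hyM hgM) (Subgroup.inv_mem _ hyM)
    apply isPGroup_closure_pair _ (h y) g (y * g * y⁻¹) hgM hcM hgo
    obtain ⟨k, hk⟩ := hgo
    exact ⟨k, by rw [hconjord, hk]⟩
  obtain ⟨N, hNn, hNp, hgN, -⟩ := Cfsg.Agent.Lib.Helper1.baer_suzuki_normal (p := p) g hBS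
  set S : Set G := {y | (orderOf y).Coprime p} with hS
  have hSconj : ∀ y s : G, s ∈ S → y * s * y⁻¹ ∈ S := by
    intro y s hs
    show (orderOf (y * s * y⁻¹)).Coprime p
    rw [hconjord]; exact hs
  have hgS : g ∈ Subgroup.centralizer S := by
    rw [Subgroup.mem_centralizer_iff]
    intro s hs
    have hsM : s ∈ Subgroup.closure ({s, g} : Set G) := Subgroup.subset_closure (by simp)
    have hgM : g ∈ Subgroup.closure ({s, g} : Set G) := Subgroup.subset_closure (by simp)
    exact (Cfsg.Agent.S4242.commute_in_nilpotent _ (h s) g s hgM hsM hgo hs).symm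
  set V : Subgroup G := N ⊓ Subgroup.centralizer S with hV
  have hgV : g ∈ V := ⟨hgN, hgS⟩
  have hVn : V.Normal := by
    refine ⟨fun n hn y => ?_⟩
    refine Subgroup.mem_inf.2 ⟨hNn.conj_mem n (Subgroup.mem_inf.1 hn).1 y, ?_⟩
    rw [Subgroup.mem_centralizer_iff]
    intro s hs
    have h1 : y⁻¹ * s * y ∈ S := by
      have := hSconj y⁻¹ s hs
      simpa using this
    have h2 := (Subgroup.mem_centralizer_iff.1 (Subgroup.mem_inf.1 hn).2) _ h1
    have e1 : s * (y * n * y⁻¹) = y * (y⁻¹ * s * y * n) * y⁻¹ := by group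
    have e2 : y * n * y⁻¹ * s = y * (n * (y⁻¹ * s * y)) * y⁻¹ := by group
    rw [e1, e2, h2]
  have hVp : IsPGroup p V := hNp.to_le inf_le_left
  set C : Subgroup G := Subgroup.centralizer (V : Set G) with hC
  haveI hCn : C.Normal := by
    haveI := hVn
    exact Subgroup.normal_centralizer
  have hSC : S ⊆ (C : Set G) := by
    intro s hs
    rw [SetLike.mem_coe, hC, Subgroup.mem_centralizer_iff]
    intro v hv
    exact ((Subgroup.mem_centralizer_iff.1 hv.2) s hs).symm
  have hCp : IsPGroup p (G ⧸ C) := by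
    intro yb
    induction yb using QuotientGroup.induction_on with
    | H y =>
      have h0 : orderOf y ≠ 0 := (orderOf_pos y).ne'
      obtain ⟨e, m, hm, hem⟩ := Nat.exists_eq_pow_mul_and_not_dvd h0 p hp.out.ne_one
      refine ⟨e, ?_⟩
      rw [← QuotientGroup.mk_pow]
      refine (QuotientGroup.eq_one_iff _).2 (hSC ?_)
      show (orderOf (y ^ p ^ e)).Coprime p
      rw [orderOf_pow, hem]
      have hpe : 0 < p ^ e := pow_pos hp.out.pos e
      have hgcd : (p ^ e * m).gcd (p ^ e) = p ^ e := Nat.gcd_eq_right (Dvd.intro _ rfl)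
      rw [hgcd, Nat.mul_div_cancel_left _ hpe]
      exact (Nat.Coprime.symm ((Nat.Prime.coprime_iff_not_dvd hp.out).2 hm))
  obtain ⟨b, hb⟩ := (IsPGroup.iff_card).1 hCp
  have hCidx : C.index = p ^ b := by rw [Subgroup.index_eq_card]; exact hb
  obtain ⟨P⟩ : Nonempty (Sylow p G) := inferInstance
  have hVP : V ≤ (P : Subgroup G) := by
    haveI := hVn
    exact hVp.le_sylow_of_normal P
  have hPC : (P : Subgroup G) ⊔ C = ⊤ := by
    rw [← Subgroup.index_eq_one]
    have h1 : ((P : Subgroup G) ⊔ C).index ∣ (P : Subgroup G).index :=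
      Subgroup.index_dvd_of_le le_sup_left
    have h2 : ((P : Subgroup G) ⊔ C).index ∣ p ^ b := by
      rw [← hCidx]; exact Subgroup.index_dvd_of_le le_sup_right
    obtain ⟨i, -, hi⟩ := (Nat.dvd_prime_pow hp.out).1 h2
    rcases Nat.eq_zero_or_pos i with rfl | hpos
    · simpa using hi
    · exfalso
      apply P.not_dvd_index
      exact dvd_trans (by rw [hi]; exact dvd_pow_self p hpos.ne') h1
  have hdecomp : ∀ y : G, ∃ u ∈ (P : Subgroup G), ∃ c ∈ C, y = u * c := by
    intro y
    have hy : y ∈ (P : Subgroup G) ⊔ C := by rw [hPC]; trivial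
    obtain ⟨u, hu, c, hc, huc⟩ := Subgroup.mem_sup_of_normal_right.1 hy
    exact ⟨u, hu, c, hc, huc.symm⟩
  have hind : ∀ i : ℕ, ∀ v : G, v ∈ V → ∀ hvP : v ∈ (P : Subgroup G),
      (⟨v, hvP⟩ : ↥(P : Subgroup G)) ∈ Subgroup.upperCentralSeries ↥(P : Subgroup G) i →
      v ∈ Subgroup.upperCentralSeries G i := by
    intro i
    induction i with
    | zero =>
      intro v hvV hvP hmem
      rw [Subgroup.upperCentralSeries_zero, Subgroup.mem_bot] at hmem ⊢
      exact congrArg Subtype.val hmem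
    | succ i ih =>
      intro v hvV hvP hmem
      rw [Subgroup.mem_upperCentralSeries_succ_iff] at hmem ⊢
      intro y
      obtain ⟨u, hu, c, hc, rfl⟩ := hdecomp y
      have hcv : c * v⁻¹ = v⁻¹ * c :=
        ((Subgroup.mem_centralizer_iff.1 hc) v⁻¹ (V.inv_mem hvV)).symm
      have e1 : ⁅v, u * c⁆ = ⁅v, u⁆ := by
        rw [commutatorElement_def, commutatorElement_def]
        have : v * (u * c) * v⁻¹ * (u * c)⁻¹ = v * u * (c * v⁻¹) * c⁻¹ * u⁻¹ := by group
        rw [this, hcv]; group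
      rw [e1]
      have h1 := hmem ⟨u, hu⟩
      have hcV : ⁅v, u⁆ ∈ V := by
        rw [commutatorElement_def]
        have h2 : u * v⁻¹ * u⁻¹ ∈ V := hVn.conj_mem _ (V.inv_mem hvV) u
        have : v * u * v⁻¹ * u⁻¹ = v * (u * v⁻¹ * u⁻¹) := by group
        rw [this]; exact V.mul_mem hvV h2
      have hcP : ⁅v, u⁆ ∈ (P : Subgroup G) := hVP hcV
      refine ih _ hcV hcP ?_
      have : (⟨⁅v, u⁆, hcP⟩ : ↥(P : Subgroup G))
          = ⁅(⟨v, hvP⟩ : ↥(P : Subgroup G)), ⟨u, hu⟩⁆ := by
        apply Subtype.ext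
        simp [commutatorElement_def]
      rw [this]; exact h1
  haveI : Group.IsNilpotent ↥(P : Subgroup G) := P.2.isNilpotent
  obtain ⟨k, hk⟩ := Group.IsNilpotent.nilpotent ↥(P : Subgroup G)
  have hgP : g ∈ (P : Subgroup G) := hVP hgV
  have := hind k g hgV hgP (by rw [hk]; trivial)
  exact Subgroup.mem_iSup_of_mem k this

theorem general {G : Type*} [Group G] [Finite G] : ∀ (n : ℕ) (g : G), orderOf g = n →
    (∀ x : G, Group.IsNilpotent ↥(Subgroup.closure ({x, g} : Set G))) →
    g ∈ ⨆ n : ℕ, Subgroup.upperCentralSeries G n := by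
  intro n
  induction n using Nat.strong_induction_on with
  | _ n ih =>
    intro g hgn h
    by_cases h1 : n = 1
    · have : g = 1 := orderOf_eq_one_iff.1 (hgn.trans h1)
      rw [this]; exact Subgroup.one_mem _
    have hn0 : n ≠ 0 := by rw [← hgn]; exact (orderOf_pos g).ne'
    set p := n.minFac with hp
    have hpp : p.Prime := Nat.minFac_prime h1
    haveI := Fact.mk hpp
    have hpn : p ∣ n := Nat.minFac_dvd n
    obtain ⟨u, v, huv, hu, hv, huo, hvo⟩ := elt_pi_decomp ({p} : Set ℕ) g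
    have hsub : ∀ w ∈ Subgroup.zpowers g, ∀ x : G,
        Group.IsNilpotent ↥(Subgroup.closure ({x, w} : Set G)) := by
      intro w hw x
      apply Cfsg.Agent.S4242.nil_of_le _ (h x)
      rw [Subgroup.closure_le]
      intro c hc
      rcases hc with hc | hc
      · rw [hc]; exact Subgroup.subset_closure (by simp)
      · rw [Set.mem_singleton_iff] at hc
        rw [hc]
        obtain ⟨i, rfl⟩ := Subgroup.mem_zpowers_iff.1 hw
        exact Subgroup.zpow_mem _ (Subgroup.subset_closure (by simp)) i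
    have hu' : u ∈ ⨆ n : ℕ, Subgroup.upperCentralSeries G n := by
      apply prime_case (p := p) u _ (hsub u hu)
      have h0 : orderOf u ≠ 0 := (orderOf_pos u).ne'
      exact ⟨_, Nat.eq_prime_pow_of_unique_prime_dvd h0 (fun {d} hd hdu => huo d hd hdu)⟩
    have hv' : v ∈ ⨆ n : ℕ, Subgroup.upperCentralSeries G n := by
      apply ih (orderOf v) _ v rfl (hsub v hv)
      have hdv : orderOf v ∣ n := by rw [← hgn]; exact orderOf_dvd_of_mem_zpowers hv
      have hne : orderOf v ≠ n := by
        intro he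
        exact hvo p hpp (by rw [he]; exact hpn) rfl
      exact lt_of_le_of_ne (Nat.le_of_dvd (Nat.pos_of_ne_zero hn0) hdv) hne
    rw [← huv]
    exact Subgroup.mul_mem _ hu' hv'

theorem hyper_to_nilp {G : Type*} [Group G] [Finite G] (g x : G) (n : ℕ)
    (hg : g ∈ Subgroup.upperCentralSeries G n) (H : Subgroup G) (hxH : x ∈ H) (hgH : g ∈ H)
    (hgen : ∀ M : Subgroup G, x ∈ M → g ∈ M → H ≤ M) :
    Group.IsNilpotent ↥H := by
  have hres : ∀ i : ℕ, ∀ y : ↥H, (y : G) ∈ Subgroup.upperCentralSeries G i →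
      y ∈ Subgroup.upperCentralSeries ↥H i := by
    intro i
    induction i with
    | zero =>
      intro y hy
      rw [Subgroup.upperCentralSeries_zero, Subgroup.mem_bot] at hy ⊢
      exact Subtype.ext hy
    | succ i ih =>
      intro y hy
      rw [Subgroup.mem_upperCentralSeries_succ_iff] at hy ⊢
      intro z
      apply ih
      have := hy (z : G)
      simpa [commutatorElement_def] using this
  set K := Subgroup.upperCentralSeries ↥H n with hK
  have hgK : (⟨g, hgH⟩ : ↥H) ∈ K := hres n ⟨g, hgH⟩ hg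
  set xH : ↥H := ⟨x, hxH⟩ with hxHdef
  haveI hKn : K.Normal := inferInstance
  have hM : Subgroup.zpowers xH ⊔ K = ⊤ := by
    rw [eq_top_iff]
    intro y _
    have h1 : H ≤ (Subgroup.zpowers xH ⊔ K).map H.subtype :=
      hgen _ ⟨xH, Subgroup.mem_sup_left (Subgroup.mem_zpowers _), rfl⟩
        ⟨⟨g, hgH⟩, Subgroup.mem_sup_right hgK, rfl⟩
    obtain ⟨y', hy', hyy'⟩ := h1 y.2
    have : y' = y := Subtype.ext hyy'
    rw [← this]; exact hy'
  have hcomm : ∀ a b : ↥H, ⁅a, b⁆ ∈ K := by
    intro a b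
    have ha : a ∈ Subgroup.zpowers xH ⊔ K := by rw [hM]; trivial
    have hb : b ∈ Subgroup.zpowers xH ⊔ K := by rw [hM]; trivial
    obtain ⟨a1, ha1, a2, ha2, rfl⟩ := Subgroup.mem_sup_of_normal_right.1 ha
    obtain ⟨b1, hb1, b2, hb2, rfl⟩ := Subgroup.mem_sup_of_normal_right.1 hb
    obtain ⟨i, rfl⟩ := Subgroup.mem_zpowers_iff.1 ha1
    obtain ⟨j, rfl⟩ := Subgroup.mem_zpowers_iff.1 hb1
    rw [← QuotientGroup.eq_one_iff, commutatorElement_def]
    have e1 : ((a2 : ↥H) : ↥H ⧸ K) = 1 := (QuotientGroup.eq_one_iff _).2 ha2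
    have e2 : ((b2 : ↥H) : ↥H ⧸ K) = 1 := (QuotientGroup.eq_one_iff _).2 hb2
    simp only [QuotientGroup.mk_mul, QuotientGroup.mk_inv, QuotientGroup.mk_zpow, e1, e2,
      mul_one]
    have hc : Commute ((xH : ↥H ⧸ K) ^ i) ((xH : ↥H ⧸ K) ^ j) := Commute.zpow_zpow_self _ i j
    rw [hc.eq]; group
  refine ⟨⟨n + 1, ?_⟩⟩
  rw [eq_top_iff]
  intro a _
  rw [Subgroup.mem_upperCentralSeries_succ_iff]
  intro b
  exact hcomm a b

/-- In a finite group G the set of elements g such that the subgroup generated by g and x is nilpotent for every x ∈ G is exactly the hypercenter of G (the last term of the upper central series). -/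
theorem result {G : Type*} [Group G] [Finite G] (g : G) :
    (∀ x : G, Group.IsNilpotent ↥(Subgroup.closure ({x, g} : Set G))) ↔ g ∈ ⨆ n : ℕ, Subgroup.upperCentralSeries G n := by
  constructor
  · intro h
    exact general (orderOf g) g rfl h
  · intro hg
    obtain ⟨n, hn⟩ := (Subgroup.mem_iSup_of_directed
      (Subgroup.upperCentralSeries_mono (G := G)).directed_le).1 hg
    intro x
    apply hyper_to_nilp g x n hn _ (Subgroup.subset_closure (by simp))
      (Subgroup.subset_closure (by simp))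
    intro M hxM hgM
    rw [Subgroup.closure_le]
    intro c hc
    rcases hc with hc | hc
    · rw [hc]; exact hxM
    · rw [Set.mem_singleton_iff] at hc
      rw [hc]; exact hgM

end Cfsg.Agent.S3939
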