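import Cfsg.Statements.S3941

set_option autoImplicit false
open Cfsg

namespace Cfsg.Agent.S3941

theorem not_pclosed_of_simple {H : Type*} [Group H] [Finite H] [IsSimpleGroup H] (p : ℕ) [Fact p.Prime]
    (hdvd : p ∣ Nat.card H) (hnp : ¬ IsPGroup p H) : ¬ Cfsg.IsPClosed p H := by
  intro hc
  let P : Sylow p H := default
  have hN : (P : Subgroup H).Normal := hc P
  rcases hN.eq_bot_or_eq_top with h0 | h1
  · exact P.ne_bot_of_dvd_card hdvd h0
  · apply hnp
    intro g
    have hg : g ∈ (P : Subgroup H) := by rw [h1]; trivial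
    obtain ⟨k, hk⟩ := P.isPGroup' ⟨g, hg⟩
    refine ⟨k, ?_⟩
    simpa using congrArg Subtype.val hk

theorem not_pclosed_of_elements {H : Type*} [Group H] [Finite H] (p : ℕ) [Fact p.Prime] (a b : H)
    (ha : a ^ p = 1) (hb : b ^ p = 1) (hab : (a * b) ^ 2 = 1) (hne : a * b ≠ 1) (hp2 : p ≠ 2) :
    ¬ Cfsg.IsPClosed p H := by
  intro hc
  have hpp : p.Prime := Fact.out
  let P : Sylow p H := default
  have key : ∀ x : H, x ^ p = 1 → x ∈ (P : Subgroup H) := by
    intro x hx
    have hz : IsPGroup p (Subgroup.zpowers x) := by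
      rintro ⟨g, hg⟩
      refine ⟨1, ?_⟩
      obtain ⟨k, rfl⟩ := Subgroup.mem_zpowers_iff.1 hg
      apply Subtype.ext
      simp only [pow_one, Subgroup.coe_pow, Subgroup.coe_one]
      rw [← zpow_natCast, ← zpow_mul, mul_comm, zpow_mul, zpow_natCast, hx, one_zpow]
    obtain ⟨Q, hQ⟩ := IsPGroup.exists_le_sylow hz
    obtain ⟨g, hg⟩ := MulAction.exists_smul_eq H Q P
    have : (Q : Subgroup H).Normal := hc Q
    have hQP : Q = P := by rw [← hg, Sylow.smul_eq_of_normal]
    rw [← hQP]
    exact hQ (Subgroup.mem_zpowers x)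
  have hmem : a * b ∈ (P : Subgroup H) := Subgroup.mul_mem _ (key a ha) (key b hb)
  obtain ⟨k, hk⟩ := P.isPGroup' ⟨a * b, hmem⟩
  have hk' : (a * b) ^ p ^ k = 1 := by simpa using congrArg Subtype.val hk
  have h1 : orderOf (a * b) ∣ p ^ k := orderOf_dvd_of_pow_eq_one hk'
  have h2 : orderOf (a * b) ∣ 2 := orderOf_dvd_of_pow_eq_one hab
  have hcop : Nat.Coprime (p ^ k) 2 :=
    Nat.Coprime.pow_left k ((Nat.coprime_primes hpp Nat.prime_two).2 hp2)
  have h3 : orderOf (a * b) ∣ 1 := by
    have := Nat.dvd_gcd h1 h2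
    rwa [hcop.gcd_eq_one] at this
  exact hne (orderOf_eq_one_iff.1 (Nat.dvd_one.1 h3))

theorem two_mul_card_alt (k : ℕ) (hk : 2 ≤ k) :
    2 * Nat.card (alternatingGroup (Fin k)) = k.factorial := by
  have : Nontrivial (Fin k) := Fin.nontrivial_iff_two_le.2 hk
  rw [Nat.card_eq_fintype_card, two_mul_card_alternatingGroup, Fintype.card_perm, Fintype.card_fin]

noncomputable def emb (m : ℕ) : alternatingGroup (Fin m) →* alternatingGroup (Fin (m + 1)) :=
  ((Equiv.Perm.extendDomainHom (finSuccAboveEquiv (Fin.last m))).comp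
    (alternatingGroup (Fin m)).subtype).codRestrict _ (fun x => by
      rw [Equiv.Perm.mem_alternatingGroup]
      simp only [MonoidHom.comp_apply, Subgroup.coe_subtype, Equiv.Perm.extendDomainHom_apply,
        Equiv.Perm.sign_extendDomain]
      exact Equiv.Perm.mem_alternatingGroup.1 x.2)

theorem emb_injective (m : ℕ) : Function.Injective (emb m) := by
  intro x y hxy
  have h1 : ((emb m x : alternatingGroup (Fin (m + 1))) : Equiv.Perm (Fin (m + 1)))
      = ((emb m y : alternatingGroup (Fin (m + 1))) : Equiv.Perm (Fin (m + 1))) := by rw [hxy]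
  have h2 : Equiv.Perm.extendDomainHom (finSuccAboveEquiv (Fin.last m)) (x : Equiv.Perm (Fin m))
      = Equiv.Perm.extendDomainHom (finSuccAboveEquiv (Fin.last m)) (y : Equiv.Perm (Fin m)) := h1
  exact Subtype.ext (Equiv.Perm.extendDomainHom_injective _ h2)

def c1 : alternatingGroup (Fin 4) := ⟨Equiv.swap 0 1 * Equiv.swap 1 2, by
  rw [Equiv.Perm.mem_alternatingGroup]; decide⟩
def c2 : alternatingGroup (Fin 4) := ⟨Equiv.swap 0 1 * Equiv.swap 1 3, by
  rw [Equiv.Perm.mem_alternatingGroup]; decide⟩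

theorem c1_pow : c1 ^ 3 = 1 := by decide
theorem c2_pow : c2 ^ 3 = 1 := by decide
theorem c12_sq : (c1 * c2) ^ 2 = 1 := by decide
theorem c12_ne : c1 * c2 ≠ 1 := by decide

/-- Let n ≥ 5 and p an odd prime with p ≤ n, and suppose that every proper subgroup of the alternating group of degree n whose order is divisible by p has a normal Sylow p-subgroup. Then n = p. -/
theorem result (n p : ℕ) (hn : 5 ≤ n) [Fact p.Prime] (hp : p ≠ 2) (hpn : p ≤ n)
    (h : ∀ H : Subgroup ↥(alternatingGroup (Fin n)), H ≠ ⊤ → p ∣ Nat.card ↥H → Cfsg.IsPClosed p ↥H) : n = p := by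
  by_contra hne
  have hpp : p.Prime := Fact.out
  obtain ⟨m, rfl⟩ : ∃ m, n = m + 1 := ⟨n - 1, by omega⟩
  have hm4 : 4 ≤ m := by omega
  have hpm : p ≤ m := by omega
  have hinj := emb_injective m
  have hcardH : Nat.card (emb m).range = Nat.card (alternatingGroup (Fin m)) :=
    Nat.card_congr (MonoidHom.ofInjective hinj).toEquiv.symm
  have hA1 := two_mul_card_alt m (by omega)
  have hA2 := two_mul_card_alt (m + 1) (by omega)
  have hHne : (emb m).range ≠ ⊤ := by
    intro htop
    have h1 : Nat.card (emb m).range = Nat.card (alternatingGroup (Fin (m + 1))) := by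
      rw [htop, Subgroup.card_top]
    rw [hcardH] at h1
    rw [h1, hA2, Nat.factorial_succ] at hA1
    have hpos : 0 < m.factorial := Nat.factorial_pos m
    nlinarith
  have hdvd : p ∣ Nat.card (emb m).range := by
    rw [hcardH]
    have h1 : p ∣ m.factorial := (Nat.Prime.dvd_factorial hpp).2 hpm
    rw [← hA1] at h1
    rcases (Nat.Prime.dvd_mul hpp).1 h1 with h2 | h2
    · exact absurd ((Nat.prime_dvd_prime_iff_eq hpp Nat.prime_two).1 h2) hp
    · exact h2
  have hc := h _ hHne hdvd
  rcases Nat.lt_or_ge m 5 with hlt | hge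
  · -- m = 4, p = 3
    have hm : m = 4 := by omega
    subst hm
    have hp3 : p = 3 := by
      have h2 := hpp.two_le
      interval_cases p
      · exact absurd rfl hp
      · rfl
      · exact absurd hpp (by decide)
    subst hp3
    refine not_pclosed_of_elements 3 ((emb 4).rangeRestrict c1) ((emb 4).rangeRestrict c2)
      ?_ ?_ ?_ ?_ (by decide) hc
    · rw [← map_pow, c1_pow, map_one]
    · rw [← map_pow, c2_pow, map_one]
    · rw [← map_mul, ← map_pow, c12_sq, map_one]
    · rw [← map_mul]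
      intro h1
      have hinj' : Function.Injective (emb 4).rangeRestrict :=
        (MonoidHom.rangeRestrict_injective_iff (f := emb 4)).2 hinj
      exact c12_ne (hinj' (h1.trans (map_one _).symm))
  · -- m ≥ 5: simple
    have : IsSimpleGroup (alternatingGroup (Fin m)) :=
      alternatingGroup.isSimpleGroup (by simpa using hge)
    have : Nontrivial (emb m).range := by
      rw [← Finite.one_lt_card_iff_nontrivial]
      exact lt_of_lt_of_le hpp.one_lt (Nat.le_of_dvd Nat.card_pos hdvd)
    have : IsSimpleGroup (emb m).range :=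
      IsSimpleGroup.isSimpleGroup_of_surjective (emb m).rangeRestrict (emb m).rangeRestrict_surjective
    refine not_pclosed_of_simple p hdvd ?_ hc
    intro hPG
    obtain ⟨k, hk⟩ := IsPGroup.iff_card.1 hPG
    rw [hcardH] at hk
    have h24 : (24 : ℕ) ∣ m.factorial := by
      have : Nat.factorial 4 ∣ m.factorial := Nat.factorial_dvd_factorial hm4
      simpa [Nat.factorial] using this
    rw [← hA1, hk] at h24
    have h2 : 2 ∣ p ^ k := by
      obtain ⟨t, ht⟩ := h24
      exact ⟨6 * t, by omega⟩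
    have := (Nat.prime_dvd_prime_iff_eq Nat.prime_two hpp).1 (Nat.Prime.dvd_of_dvd_pow Nat.prime_two h2)
    exact hp this.symm

end Cfsg.Agent.S3941
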