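import Cfsg.Statements.S3949
import Mathlib

set_option autoImplicit false
open Cfsg

namespace Cfsg.Agent.S3949

section
variable {G : Type*} [Group G]

theorem inv_pow_of_inv (α : MulAut G) (k : G) (hk : α k = k⁻¹) (n : ℕ) :
    α (k ^ n) = (k ^ n)⁻¹ := by
  rw [map_pow, hk, inv_pow]

theorem iterate_of_inverted (α : MulAut G) (i : ℕ) :
    ∀ k : G, α k = k⁻¹ → (fun c : G => c * (α c)⁻¹)^[i] k = k ^ (2 ^ i) := by
  induction i with
  | zero => intro k _; simp
  | succ i ih =>
    intro k hk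
    rw [Function.iterate_succ_apply]
    have h1 : k * (α k)⁻¹ = k ^ 2 := by
      rw [hk, inv_inv, pow_two]
    rw [h1, ih (k ^ 2) (inv_pow_of_inv α k hk 2), ← pow_mul, pow_succ']

end

/-- Let G be a finite group and α an automorphism of G of order 2 such that the elements g·α(g)⁻¹ generate G. Let j be a positive integer such that 2^j divides the order of no element inverted by α. Then the set of values of the j-th iterate of the map c ↦ c·α(c)⁻¹ is exactly the set of elements of odd order inverted by α. -/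
theorem result {G : Type*} [Group G] [Finite G] (α : MulAut G) (hα : orderOf α = 2) (hG : Subgroup.closure (Set.range (fun c : G => c * (α c)⁻¹)) = ⊤)
    (j : ℕ) (hj : ∀ g : G, α g = g⁻¹ → ¬ 2 ^ j ∣ orderOf g) :
    Set.range ((fun c : G => c * (α c)⁻¹)^[j]) = {g : G | Odd (orderOf g) ∧ α g = g⁻¹} := by
  have hαα : ∀ c : G, α (α c) = c := by
    intro c
    have h2 : α ^ 2 = 1 := by rw [← hα]; exact pow_orderOf_eq_one α
    have : (α ^ 2) c = c := by rw [h2]; rfl
    rwa [pow_two] at this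
  have hj0 : j ≠ 0 := by
    rintro rfl
    exact hj 1 (by simp) (by simp)
  obtain ⟨i, rfl⟩ := Nat.exists_eq_succ_of_ne_zero hj0
  have hfinv : ∀ c : G, α (c * (α c)⁻¹) = (c * (α c)⁻¹)⁻¹ := by
    intro c
    rw [map_mul, map_inv, hαα, mul_inv_rev, inv_inv]
  ext x
  simp only [Set.mem_range, Set.mem_ofPred_eq]
  constructor
  · rintro ⟨c, rfl⟩
    rw [Function.iterate_succ_apply]
    set d := c * (α c)⁻¹ with hd
    have hdinv : α d = d⁻¹ := hfinv c
    rw [iterate_of_inverted α i d hdinv]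
    refine ⟨?_, inv_pow_of_inv α d hdinv _⟩
    -- order of d ^ 2 ^ i is odd
    have hnd := hj d hdinv
    obtain ⟨a, m, hm, hn⟩ := Nat.exists_eq_two_pow_mul_odd (orderOf_pos d).ne'
    have hai : a ≤ i := by
      by_contra h
      apply hnd
      rw [hn]
      exact Dvd.dvd.mul_right (pow_dvd_pow 2 (by omega)) m
    have hpow : (d ^ 2 ^ i) ^ m = 1 := by
      rw [← pow_mul]
      apply orderOf_dvd_iff_pow_eq_one.mp
      rw [hn]
      exact Nat.mul_dvd_mul_right (pow_dvd_pow 2 hai) m
    have hdvd : orderOf (d ^ 2 ^ i) ∣ m := orderOf_dvd_of_pow_eq_one hpow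
    exact Odd.of_dvd_nat hm hdvd
  · rintro ⟨hodd, hinv⟩
    -- a 2^(i+1)-th root of x inside ⟨x⟩
    have hcop : Nat.Coprime (2 ^ (i + 1)) (orderOf x) :=
      Nat.Coprime.pow_left _ (Nat.coprime_two_left.mpr hodd)
    obtain ⟨m, hm⟩ := exists_pow_eq_self_of_coprime hcop
    refine ⟨x ^ m, ?_⟩
    rw [iterate_of_inverted α (i + 1) (x ^ m) (inv_pow_of_inv α x hinv m), ← pow_mul, mul_comm,
      pow_mul]
    exact hm

end Cfsg.Agent.S3949
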