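import Cfsg.Statements.S3950
import Cfsg.Agent.Lib.Lead.HeisPullback
import Cfsg.Agent.Lib.Lead.AbelianRankTwo

set_option autoImplicit false
open Cfsg

namespace Cfsg.Agent.S3950

/-- A finite abelian group has trivial Schur multiplier if and only if it is cyclic. -/
theorem result {G : Type*} [CommGroup G] [Finite G] : Cfsg.HasCyclicSchurMultiplier G 1 ↔ IsCyclic G := by
  constructor
  · intro hM
    by_contra hnc
    obtain ⟨p, hp, f, gx, gy, hgx, hgy⟩ := Cfsg.Agent.Lib.Lead.Heis.exists_hom_of_not_cyclic hnc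
    have : NeZero p := ⟨hp.ne_zero⟩
    obtain ⟨Γ, _, _, σ, hstem, z, hz, hz1⟩ :=
      Cfsg.Agent.Lib.Lead.Heis.exists_stem_of_hom (dvd_refl p) hp.one_lt f gx gy hgx hgy
    obtain ⟨π, hπ⟩ := hM.2 Γ σ hstem
    obtain ⟨t, ht⟩ := hπ ⟨z, hz⟩
    have ht1 : t = 1 := Subsingleton.elim _ _
    rw [ht1, map_one] at ht
    exact hz1 (congrArg Subtype.val ht).symm
  · intro hc
    refine ⟨⟨G, inferInstance, inferInstance, MonoidHom.id G,
      ⟨Function.surjective_id, ?_, ?_⟩, ?_⟩, ?_⟩
    · rw [MonoidHom.ker_id]; exact bot_le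
    · rw [MonoidHom.ker_id]; exact bot_le
    · rw [MonoidHom.ker_id]
      exact ⟨MulEquiv.ofUnique⟩
    · intro Γ _ _ σ hσ
      obtain ⟨hsurj, hcen, hcomm⟩ := hσ
      have hab : ∀ a b : Γ, a * b = b * a := commutative_of_cyclic_center_quotient σ hcen
      have hbot : commutator Γ = ⊥ := by
        rw [eq_bot_iff, commutator_def, Subgroup.commutator_le]
        intro a _ b _
        rw [Subgroup.mem_bot, commutatorElement_eq_one_iff_commute]
        exact hab a b
      have hker : σ.ker = ⊥ := eq_bot_iff.mpr (hbot ▸ hcomm)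
      refine ⟨1, ?_⟩
      intro y
      refine ⟨1, ?_⟩
      apply Subtype.ext
      have hy : (y : Γ) ∈ (⊥ : Subgroup Γ) := hker ▸ y.2
      rw [Subgroup.mem_bot] at hy
      rw [hy]; rfl

end Cfsg.Agent.S3950
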