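import Cfsg.Statements.S3951
import Cfsg.Agent.Lib.Lead.HeisStem
import Cfsg.Agent.Lib.Lead.TwoGenStem

set_option autoImplicit false
open Cfsg

namespace Cfsg.Agent.S3951

open scoped commutatorElement

/-- For positive integers `m` and `n` with `n` dividing `m`, the Schur multiplier of the abelian group `ZMod m × ZMod n` (written multiplicatively) is cyclic of order `n`. In particular the elementary abelian group of order `p ^ 2` has multiplier of order `p`. -/
theorem result (m n : ℕ) [NeZero m] [NeZero n] (hnm : n ∣ m) : Cfsg.HasCyclicSchurMultiplier (Multiplicative (ZMod m × ZMod n)) n := by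
  classical
  refine ⟨⟨Cfsg.Agent.Lib.Lead.Heis.HeisGroup m n hnm, inferInstance, inferInstance,
    Cfsg.Agent.Lib.Lead.Heis.proj hnm,
    ⟨Cfsg.Agent.Lib.Lead.Heis.proj_surjective, Cfsg.Agent.Lib.Lead.Heis.ker_le_center,
      Cfsg.Agent.Lib.Lead.Heis.ker_le_commutator⟩,
    ⟨Cfsg.Agent.Lib.Lead.Heis.kerEquiv hnm⟩⟩, ?_⟩
  intro Γ _ _ σ hσ
  obtain ⟨hsurj, hcen, hcomm⟩ := hσ
  obtain ⟨r, hr⟩ := hsurj (Multiplicative.ofAdd ((1 : ZMod m), (0 : ZMod n)))
  obtain ⟨s, hs⟩ := hsurj (Multiplicative.ofAdd ((0 : ZMod m), (1 : ZMod n)))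
  have hgen : Subgroup.closure {σ r, σ s} = ⊤ := by
    rw [Subgroup.eq_top_iff']
    intro q
    have hq : q = (σ r) ^ (Multiplicative.toAdd q).1.val * (σ s) ^ (Multiplicative.toAdd q).2.val := by
      rw [hr, hs, ← ofAdd_nsmul, ← ofAdd_nsmul, ← ofAdd_add]
      apply Multiplicative.toAdd.injective
      rw [toAdd_ofAdd]
      ext
      · simp
      · simp
    rw [hq]
    exact Subgroup.mul_mem _
      (Subgroup.pow_mem _ (Subgroup.subset_closure (Set.mem_insert _ _)) _)
      (Subgroup.pow_mem _ (Subgroup.subset_closure (Set.mem_insert_of_mem _ (Set.mem_singleton _))) _)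
  have hle := Cfsg.Agent.Lib.Lead.Heis.commutator_le_zpowers_of_two_gen σ hcen r s hgen
  set c := ⁅r, s⁆ with hc
  have hck : c ∈ σ.ker := by
    rw [MonoidHom.mem_ker, hc, map_commutatorElement, commutatorElement_eq_one_iff_commute]
    exact Commute.all _ _
  have hcc : c ∈ Subgroup.center Γ := hcen hck
  have hsn : s ^ n ∈ σ.ker := by
    rw [MonoidHom.mem_ker, map_pow, hs, ← ofAdd_nsmul]
    have : n • ((0 : ZMod m), (1 : ZMod n)) = 0 := by
      ext
      · simp
      · simp
    rw [this]; rfl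
  have hcn : c ^ n = 1 := by
    have h1 := Cfsg.Agent.Lib.Helper1.commutator_pow_right_of_commute s r
      ((Subgroup.mem_center_iff.mp hcc s).symm) n
    rw [← hc] at h1
    rw [← h1, commutatorElement_eq_one_iff_commute]
    exact (Subgroup.mem_center_iff.mp (hcen hsn) r)
  have hkeq : σ.ker = Subgroup.zpowers c :=
    le_antisymm (hcomm.trans hle) (Subgroup.zpowers_le.mpr hck)
  have hcard : Nat.card (Subgroup.zpowers c) ∣ n := by
    rw [Nat.card_zpowers]; exact orderOf_dvd_of_pow_eq_one hcn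
  obtain ⟨π, hπ⟩ := Cfsg.Agent.Lib.Lead.Heis.exists_surj_of_cyclic_card_dvd
    (inferInstance : IsCyclic (Subgroup.zpowers c)) hcard
  exact ⟨(MulEquiv.subgroupCongr hkeq.symm).toMonoidHom.comp π,
    (MulEquiv.subgroupCongr hkeq.symm).surjective.comp hπ⟩

end Cfsg.Agent.S3951
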