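import Cfsg.Statements.S4798
import Cfsg.Agent.Lib.Helper8.CharContain
import Cfsg.Agent.Lib.Helper8.CharClassSum
import Cfsg.Agent.Lib.Helper8.BrauerGlobal2

set_option autoImplicit false
open Cfsg

namespace Cfsg.Agent.S4798

open Cfsg.Agent.Lib.Helper8
theorem charDegree_indFun {G : Type*} [Group G] [Fintype G] (H : Subgroup G) {θ : H → ℂ}
    (hθ : Cfsg.IsCharacter H θ) :
    Cfsg.charDegree (Cfsg.indFun H θ) = H.index * Cfsg.charDegree θ := by
  have h1 := isCharacter_one_eq_charDegree (isCharacter_indFun H hθ)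
  rw [indFun_one, isCharacter_one_eq_charDegree hθ] at h1
  have h2 : ((H.index * Cfsg.charDegree θ : ℕ) : ℂ) = (Cfsg.charDegree (Cfsg.indFun H θ) : ℂ) := by
    push_cast; exact h1
  exact_mod_cast h2.symm

theorem forward {G : Type*} [Group G] [Fintype G] (p : ℕ) [hp : Fact p.Prime]
    (χ : Cfsg.IrrCharacter G) (k : ℕ) (hk : Nat.card G = p ^ k * Cfsg.charDegree (χ : G → ℂ)) :
    ∃ (P : Sylow p G) (θ : ↥(P : Subgroup G) → ℂ), Cfsg.IsCharacter ↥(P : Subgroup G) θ ∧
      (χ : G → ℂ) = Cfsg.indFun (P : Subgroup G) θ := by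
  classical
  obtain ⟨P⟩ : Nonempty (Sylow p G) := inferInstance
  have : Fintype (P : Subgroup G) := Fintype.ofFinite _
  have := irr_finite (G := (P : Subgroup G))
  have : Fintype (Cfsg.IrrCharacter (P : Subgroup G)) := Fintype.ofFinite _
  set a := (Nat.card G).factorization p with ha
  have hPcard : Nat.card (P : Subgroup G) = p ^ a := P.card_eq_multiplicity
  have hGcard : Nat.card G = p ^ a * (P : Subgroup G).index := by
    rw [← hPcard, Subgroup.card_mul_index]
  have hGpos : 0 < Nat.card G := Nat.card_pos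
  have hnot : ¬ p ^ (a + 1) ∣ Nat.card G := Nat.pow_succ_factorization_not_dvd hGpos.ne' hp.out
  set f := Cfsg.charDegree (χ : G → ℂ) with hf
  have hχchar : Cfsg.IsCharacter G (χ : G → ℂ) := irr_isCharacter χ.2
  obtain ⟨m, hm⟩ := isCharacter_decomp (isCharacter_restrict (P : Subgroup G) hχchar)
  have hdeg := charDegree_decomp (isCharacter_restrict (P : Subgroup G) hχchar) m hm
  have hdegres : Cfsg.charDegree (fun x : (P : Subgroup G) => (χ : G → ℂ) x) = f := by
    unfold Cfsg.charDegree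
    rfl
  rw [hdegres] at hdeg
  -- existence of a constituent of small degree
  have hex : ∃ θ : Cfsg.IrrCharacter (P : Subgroup G), m θ ≠ 0 ∧
      ¬ p ^ (a + 1) ∣ p ^ k * Cfsg.charDegree θ.1 := by
    by_contra hcon
    push Not at hcon
    apply hnot
    rw [hk, hdeg, Finset.mul_sum]
    apply Finset.dvd_sum
    intro θ _
    by_cases hθ : m θ = 0
    · rw [hθ, zero_mul, mul_zero]; exact dvd_zero _
    · have := hcon θ hθ
      rw [mul_left_comm]
      exact Dvd.dvd.mul_left this _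
  obtain ⟨θ, hmθ, hθdeg⟩ := hex
  obtain ⟨e, he, hde⟩ := (Nat.dvd_prime_pow hp.out).mp (hPcard ▸ charDegree_dvd_card θ)
  have hke : k + e ≤ a := by
    by_contra hc
    push Not at hc
    apply hθdeg
    rw [hde, ← pow_add]
    exact pow_dvd_pow p hc
  -- r * d ≤ f
  have hrd : (P : Subgroup G).index * Cfsg.charDegree θ.1 ≤ f := by
    have h1 : p ^ k * ((P : Subgroup G).index * Cfsg.charDegree θ.1) ∣ p ^ k * f := by
      rw [← hk, hGcard, hde]
      have : p ^ k * ((P : Subgroup G).index * p ^ e) = p ^ (k + e) * (P : Subgroup G).index := by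
        rw [pow_add]; ring
      rw [this]
      exact Nat.mul_dvd_mul (pow_dvd_pow p hke) dvd_rfl
    have h2 := Nat.dvd_of_mul_dvd_mul_left (pow_pos hp.out.pos k) h1
    exact Nat.le_of_dvd (charDegree_pos χ) h2
  have hθchar : Cfsg.IsCharacter (P : Subgroup G) θ.1 := irr_isCharacter θ.2
  have hΨ : Cfsg.IsCharacter G (Cfsg.indFun (P : Subgroup G) θ.1) := isCharacter_indFun _ hθchar
  have hinner : Cfsg.classInner (Cfsg.indFun (P : Subgroup G) θ.1) (χ : G → ℂ) = (m θ : ℕ) := by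
    rw [frobenius_reciprocity _ _ _ (isClassFunction_of_isCharacter hχchar), classInner_conj_symm]
    have hres : (fun h : (P : Subgroup G) => (χ : G → ℂ) h) =
        fun g => ∑ ψ : Cfsg.IrrCharacter (P : Subgroup G), (m ψ : ℂ) * ψ.1 g := funext hm
    rw [hres, classInner_comb_irr (fun ψ => (m ψ : ℂ)) θ]
    simp
  have hge := degree_ge_of_constituent hΨ χ (m θ) hinner
  rw [charDegree_indFun _ hθchar] at hge
  have hm1 : 1 ≤ m θ := Nat.one_le_iff_ne_zero.mpr hmθ
  have hfpos : 0 < f := charDegree_pos χ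
  have hdegeq : Cfsg.charDegree (Cfsg.indFun (P : Subgroup G) θ.1) = f := by
    rw [charDegree_indFun _ hθchar]
    have h3 : f ≤ m θ * f := Nat.le_mul_of_pos_left f hm1
    have hge' : m θ * f ≤ (P : Subgroup G).index * Cfsg.charDegree θ.1 := hge
    omega
  refine ⟨P, θ.1, hθchar, ?_⟩
  symm
  apply eq_of_constituent_of_degree_eq hΨ χ _ hdegeq
  rw [hinner]
  exact_mod_cast hmθ

theorem backward {G : Type*} [Group G] [Fintype G] (p : ℕ) [hp : Fact p.Prime]
    (χ : Cfsg.IrrCharacter G) (P : Sylow p G) (θ : ↥(P : Subgroup G) → ℂ)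
    (hθ : Cfsg.IsCharacter ↥(P : Subgroup G) θ)
    (hχ : (χ : G → ℂ) = Cfsg.indFun (P : Subgroup G) θ) :
    ∃ k : ℕ, Nat.card G = p ^ k * Cfsg.charDegree (χ : G → ℂ) := by
  classical
  have : Fintype (P : Subgroup G) := Fintype.ofFinite _
  have := irr_finite (G := (P : Subgroup G))
  have : Fintype (Cfsg.IrrCharacter (P : Subgroup G)) := Fintype.ofFinite _
  set a := (Nat.card G).factorization p with ha
  have hPcard : Nat.card (P : Subgroup G) = p ^ a := P.card_eq_multiplicity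
  have hGcard : Nat.card G = p ^ a * (P : Subgroup G).index := by
    rw [← hPcard, Subgroup.card_mul_index]
  set f := Cfsg.charDegree (χ : G → ℂ) with hf
  have hχchar : Cfsg.IsCharacter G (χ : G → ℂ) := irr_isCharacter χ.2
  obtain ⟨m, hm⟩ := isCharacter_decomp hθ
  have hθ' : θ = ∑ ψ : Cfsg.IrrCharacter (P : Subgroup G), (m ψ : ℤ) • ψ.1 := by
    ext x
    rw [hm x, Finset.sum_apply]
    apply Finset.sum_congr rfl
    intro ψ _
    simp
  have hχsum : (χ : G → ℂ) = fun g => ∑ ψ : Cfsg.IrrCharacter (P : Subgroup G),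
      (m ψ : ℂ) * Cfsg.indFun (P : Subgroup G) ψ.1 g := by
    rw [hχ, hθ', indFun_finset_sum]
    ext g
    rw [Finset.sum_apply]
    apply Finset.sum_congr rfl
    intro ψ _
    rw [indFun_zsmul]
    simp
  have hn : ∀ ψ : Cfsg.IrrCharacter (P : Subgroup G), ∃ n : ℕ,
      Cfsg.classInner (Cfsg.indFun (P : Subgroup G) ψ.1) (χ : G → ℂ) = n := fun ψ =>
    classInner_character_nat (isCharacter_indFun _ (irr_isCharacter ψ.2)) hχchar
  choose n hn using hn
  have hone : ∑ ψ : Cfsg.IrrCharacter (P : Subgroup G), m ψ * n ψ = 1 := by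
    have h1 := irr_classInner χ.2 χ.2
    rw [if_pos rfl] at h1
    have h1' : Cfsg.classInner (fun g => ∑ ψ : Cfsg.IrrCharacter (P : Subgroup G),
        (m ψ : ℂ) * Cfsg.indFun (P : Subgroup G) ψ.1 g) (χ : G → ℂ) = 1 := by
      rw [← hχsum]; exact h1
    rw [classInner_sum_left] at h1'
    have h2 : ((∑ ψ : Cfsg.IrrCharacter (P : Subgroup G), m ψ * n ψ : ℕ) : ℂ) = 1 := by
      rw [← h1']
      push_cast
      apply Finset.sum_congr rfl
      intro ψ _
      rw [hn ψ]
    exact_mod_cast h2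
  obtain ⟨ψ₀, hψ₀⟩ : ∃ ψ₀, m ψ₀ * n ψ₀ ≠ 0 := by
    by_contra hcon
    push Not at hcon
    rw [Finset.sum_eq_zero (fun ψ _ => hcon ψ)] at hone
    omega
  have hmψ : m ψ₀ ≠ 0 := fun h => hψ₀ (by rw [h, zero_mul])
  have hnψ : n ψ₀ ≠ 0 := fun h => hψ₀ (by rw [h, mul_zero])
  have hψchar := irr_isCharacter ψ₀.2
  have hge := degree_ge_of_constituent (isCharacter_indFun (P : Subgroup G) hψchar) χ (n ψ₀) (hn ψ₀)
  rw [charDegree_indFun _ hψchar] at hge
  -- f = r * θ(1) ≥ r * d
  have hfdeg : f = (P : Subgroup G).index * Cfsg.charDegree θ := by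
    rw [hf, hχ]; exact charDegree_indFun _ hθ
  have hθdeg := charDegree_decomp hθ m hm
  have hle : Cfsg.charDegree ψ₀.1 ≤ Cfsg.charDegree θ := by
    rw [hθdeg]
    calc Cfsg.charDegree ψ₀.1 ≤ m ψ₀ * Cfsg.charDegree ψ₀.1 :=
          Nat.le_mul_of_pos_left _ (Nat.pos_of_ne_zero hmψ)
      _ ≤ _ := Finset.single_le_sum (f := fun ψ : Cfsg.IrrCharacter (P : Subgroup G) =>
          m ψ * Cfsg.charDegree ψ.1) (fun _ _ => Nat.zero_le _) (Finset.mem_univ ψ₀)
  have hfeq : f = (P : Subgroup G).index * Cfsg.charDegree ψ₀.1 := by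
    have h1 : f ≤ n ψ₀ * f := Nat.le_mul_of_pos_left f (Nat.pos_of_ne_zero hnψ)
    have h2 : (P : Subgroup G).index * Cfsg.charDegree ψ₀.1 ≤
        (P : Subgroup G).index * Cfsg.charDegree θ := Nat.mul_le_mul_left _ hle
    have hge' : n ψ₀ * f ≤ (P : Subgroup G).index * Cfsg.charDegree ψ₀.1 := hge
    omega
  obtain ⟨e, he, hde⟩ := (Nat.dvd_prime_pow hp.out).mp (hPcard ▸ charDegree_dvd_card ψ₀)
  refine ⟨a - e, ?_⟩
  rw [hGcard, hfeq, hde]
  have : p ^ a = p ^ (a - e) * p ^ e := by rw [← pow_add, Nat.sub_add_cancel he]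
  rw [this]; ring

/-- Let p be a prime and χ a faithful irreducible complex character of the finite group G (χ(g) = χ(1) only for g = 1), so that its codegree is #G / χ(1). Then #G / χ(1) is a power of p if and only if χ is induced from a character of a Sylow p-subgroup of G. -/
theorem result {G : Type*} [Group G] [Fintype G] (p : ℕ) [Fact p.Prime] (χ : Cfsg.IrrCharacter G) (hfaith : ∀ g : G, (χ : G → ℂ) g = (χ : G → ℂ) 1 → g = 1) : (∃ k : ℕ, Nat.card G = p ^ k * Cfsg.charDegree (χ : G → ℂ)) ↔ ∃ (P : Sylow p G) (θ : ↥(P : Subgroup G) → ℂ), Cfsg.IsCharacter ↥(P : Subgroup G) θ ∧ (χ : G → ℂ) = Cfsg.indFun (P : Subgroup G) θ := by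
  constructor
  · rintro ⟨k, hk⟩
    exact forward p χ k hk
  · rintro ⟨P, θ, hθ, hχ⟩
    exact backward p χ P θ hθ hχ

end Cfsg.Agent.S4798
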