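import Cfsg.Statements.S3952
import Cfsg.Agent.Lib.Helper8.CharLinHom
import Cfsg.Agent.Lib.Helper8.CharRamified
import Cfsg.Agent.Lib.Helper8.CharContain
import Cfsg.Agent.Lib.Helper8.CharSchur
import Cfsg.Agent.S4798

set_option autoImplicit false
open Cfsg

namespace Cfsg.Agent.S3952

open Cfsg.Agent.Lib.Helper8
/-- A finite abelian subgroup has a linear character whose order is the exponent. -/
theorem exists_hom_orderOf_eq_exponent {Γ : Type*} [Group Γ] (K : Subgroup Γ) [Finite K]
    (hab : ∀ a b : K, a * b = b * a) : ∃ lam : K →* ℂˣ, orderOf lam = Monoid.exponent K := by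
  letI : CommGroup K := { (inferInstance : Group K) with mul_comm := hab }
  haveI : NeZero (Monoid.exponent K) := ⟨Monoid.exponent_ne_zero_of_finite⟩
  obtain ⟨e⟩ := CommGroup.monoidHom_mulEquiv_of_hasEnoughRootsOfUnity K ℂ
  have : Finite (K →* ℂˣ) := Finite.of_equiv K e.symm.toEquiv
  obtain ⟨lam, hlam⟩ := Monoid.exists_orderOf_eq_exponent
    (Monoid.ExponentExists.of_finite (G := K →* ℂˣ))
  refine ⟨lam, ?_⟩
  rw [hlam]
  exact Monoid.exponent_eq_of_mulEquiv e

/-- The square of the exponent of a central subgroup contained in the commutator subgroup divides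
its index. -/
theorem exponent_sq_dvd_index {Γ : Type*} [Group Γ] [Finite Γ] (K : Subgroup Γ)
    (hcen : K ≤ Subgroup.center Γ) (hcomm : K ≤ commutator Γ) :
    Monoid.exponent K ^ 2 ∣ K.index := by
  classical
  have : Fintype Γ := Fintype.ofFinite Γ
  have : Fintype K := Fintype.ofFinite K
  have := irr_finite (G := Γ)
  have : Fintype (Cfsg.IrrCharacter Γ) := Fintype.ofFinite _
  have hKn : K.Normal := by
    constructor
    intro k hk g
    have := (Subgroup.mem_center_iff.mp (hcen hk)) g
    have h1 : g * k * g⁻¹ = k := by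
      rw [this, mul_assoc, mul_inv_cancel, mul_one]
    rw [h1]; exact hk
  obtain ⟨lam, hlam⟩ := exists_hom_orderOf_eq_exponent K (by
    intro a b
    apply Subtype.ext
    exact ((Subgroup.mem_center_iff.mp (hcen a.2)) b).symm)
  set E := Monoid.exponent K with hE
  have hlamirr : Cfsg.IsIrrCharacter K (linFun lam) := linFun_isIrr lam
  have hlaminv : ∀ g : Γ, conjChar hKn (linFun lam) g = linFun lam := by
    intro g
    ext k
    rw [conjChar_apply]
    congr 1
    apply Subtype.ext
    have := (Subgroup.mem_center_iff.mp (hcen k.2)) g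
    show g * (k : Γ) * g⁻¹ = k
    rw [this, mul_assoc, mul_inv_cancel, mul_one]
  have hΨ : Cfsg.IsCharacter Γ (Cfsg.indFun K (linFun lam)) :=
    isCharacter_indFun K (linFun_isCharacter lam)
  obtain ⟨m, hm⟩ := isCharacter_decomp hΨ
  have hdeg := charDegree_decomp hΨ m hm
  rw [Cfsg.Agent.S4798.charDegree_indFun K (linFun_isCharacter lam)] at hdeg
  have hdeg1 : Cfsg.charDegree (linFun lam) = 1 := by
    have := isCharacter_one_eq_charDegree (linFun_isCharacter lam)
    rw [linFun_one_eq] at this
    exact_mod_cast this.symm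
  rw [hdeg1, mul_one] at hdeg
  rw [hdeg]
  apply Finset.dvd_sum
  intro χ _
  by_cases hm0 : m χ = 0
  · rw [hm0, zero_mul]; exact dvd_zero _
  -- χ lies over lam
  have hχcf : IsClassFunction Γ χ.1 := isClassFunction_of_isCharacter (irr_isCharacter χ.2)
  have hinner : Cfsg.classInner (Cfsg.indFun K (linFun lam)) χ.1 = (m χ : ℂ) := by
    have : Cfsg.indFun K (linFun lam) = fun g => ∑ ψ : Cfsg.IrrCharacter Γ, (m ψ : ℂ) * ψ.1 g :=
      funext hm
    rw [this]
    exact classInner_comb_irr (fun ψ => (m ψ : ℂ)) χ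
  have hcon : Cfsg.classInner (fun k : K => χ.1 k) (linFun lam) ≠ 0 := by
    intro h0
    rw [frobenius_reciprocity K _ χ.1 hχcf, classInner_conj_symm, h0] at hinner
    simp only [map_zero] at hinner
    exact hm0 (by exact_mod_cast hinner.symm)
  have hres := clifford_invariant hKn χ.2 hlamirr hcon hlaminv
  set c := Cfsg.classInner (fun k : K => χ.1 k) (linFun lam) with hc
  have hc1 : c = (Cfsg.charDegree χ.1 : ℂ) := by
    have h1 := congrFun hres 1
    simp only [Pi.smul_apply, smul_eq_mul, linFun_one_eq, mul_one] at h1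
    rw [OneMemClass.coe_one, irr_one_eq_charDegree χ] at h1
    exact h1.symm
  have hmχ : m χ = Cfsg.charDegree χ.1 := by
    rw [frobenius_reciprocity K _ χ.1 hχcf, classInner_conj_symm, ← hc, hc1] at hinner
    simp only [map_natCast] at hinner
    exact_mod_cast hinner.symm
  -- the exponent divides the degree
  obtain ⟨n, ρ, hρ, hρχ⟩ := χ.2
  have hn : Cfsg.charDegree χ.1 = n := by
    have h1 := irr_one_eq_charDegree χ
    rw [← hρχ, Representation.char_one] at h1
    have h2 : ((Module.finrank ℂ (Fin n → ℂ) : ℕ) : ℂ) = (Cfsg.charDegree (ρ.character) : ℂ) := h1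
    have h3 : Module.finrank ℂ (Fin n → ℂ) = Cfsg.charDegree ρ.character := by exact_mod_cast h2
    rw [← hρχ, ← h3]; simp
  have hnpos : 0 < n := hn ▸ charDegree_pos χ
  have hscal : ∀ k : K, ρ (k : Γ) = ((lam k : ℂˣ) : ℂ) • (1 : Module.End ℂ (Fin n → ℂ)) := by
    intro k
    obtain ⟨a, ha⟩ := central_scalar hρ (hcen k.2)
    have h1 : ρ (k : Γ) = a • (1 : Module.End ℂ (Fin n → ℂ)) := by
      refine LinearMap.ext fun v => ?_
      rw [ha v]; rfl
    have h2 : χ.1 (k : Γ) = (n : ℂ) * a := by
      rw [← hρχ]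
      show LinearMap.trace ℂ _ (ρ (k : Γ)) = _
      rw [h1, map_smul, LinearMap.trace_one]
      simp [mul_comm]
    have h3 := congrFun hres k
    simp only [Pi.smul_apply, smul_eq_mul] at h3
    rw [h2, hc1, hn] at h3
    have h4 : a = linFun lam k := mul_left_cancel₀ (Nat.cast_ne_zero.mpr hnpos.ne') h3
    rw [h1, h4]; rfl
  let f : Γ →* ℂ := (LinearMap.det : Module.End ℂ (Fin n → ℂ) →* ℂ).comp ρ
  have hfker : commutator Γ ≤ f.toHomUnits.ker := Abelianization.commutator_subset_ker _
  have hpow : lam ^ n = 1 := by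
    apply MonoidHom.ext
    intro k
    have h1 : f.toHomUnits (k : Γ) = 1 := hfker (hcomm k.2)
    have h2 : f (k : Γ) = 1 := by
      have := congrArg Units.val h1
      exact this
    have h3 : f (k : Γ) = ((lam k : ℂˣ) : ℂ) ^ n := by
      show LinearMap.det (ρ (k : Γ)) = _
      rw [hscal k, LinearMap.det_smul, map_one, mul_one]
      simp
    rw [MonoidHom.pow_apply, MonoidHom.one_apply]
    apply Units.ext
    rw [Units.val_pow_eq_pow_val, ← h3, h2]; rfl
  have hEn : E ∣ n := by
    rw [← hlam]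
    exact orderOf_dvd_of_pow_eq_one hpow
  rw [hmχ, hn, sq]
  exact Nat.mul_dvd_mul hEn hEn

/-- If `A` is the Schur multiplier of the finite group `Q`, then the square of the exponent of `A` divides the order of `Q`. -/
theorem result {Q : Type*} [Group Q] [Finite Q] {A : Type*} [CommGroup A] (hA : Cfsg.HasSchurMultiplier Q A) : Monoid.exponent A ^ 2 ∣ Nat.card Q := by
  classical
  obtain ⟨⟨Γ, hΓg, hΓf, σ, ⟨hsurj, hcen, hcomm⟩, ⟨e⟩⟩, -⟩ := hA
  have hexp : Monoid.exponent A = Monoid.exponent σ.ker := (Monoid.exponent_eq_of_mulEquiv e).symm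
  have hidx : σ.ker.index = Nat.card Q := by
    rw [Subgroup.index_ker, MonoidHom.range_eq_top.mpr hsurj, Subgroup.card_top]
  rw [hexp, ← hidx]
  exact exponent_sq_dvd_index σ.ker hcen hcomm

end Cfsg.Agent.S3952
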