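import Cfsg.Statements.S3958
import Mathlib

set_option autoImplicit false
universe u v
open Cfsg

namespace Cfsg.Agent.S3958

universe w

theorem enough_roots (A : Type*) [CommGroup A] [Finite A] :
    HasEnoughRootsOfUnity ℂ (Monoid.exponent A) := by
  have : NeZero (Monoid.exponent A) := ⟨Monoid.exponent_ne_zero_of_finite⟩
  infer_instance

theorem triv_any {Γ : Type v} [Group Γ] (hΓ : Cfsg.HasCyclicSchurMultiplier Γ 1)
    (E : Type w) [Group E] [Finite E] (ρ : E →* Γ) (hρ : Cfsg.IsStemExtension ρ) :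
    Function.Injective ρ := by
  obtain ⟨hsurj, hcen, hcomm⟩ := hρ
  obtain ⟨n, ⟨e0⟩⟩ := Finite.exists_equiv_fin E
  have : Small.{v} E := small_map e0
  let e : Shrink.{v} E ≃* E := Shrink.mulEquiv
  have : Finite (Shrink.{v} E) := Finite.of_equiv E (equivShrink E)
  let ρ' : Shrink.{v} E →* Γ := ρ.comp e.toMonoidHom
  have hρ' : ∀ x, ρ' x = ρ (e x) := fun x => rfl
  have hstem : Cfsg.IsStemExtension ρ' := by
    refine ⟨?_, ?_, ?_⟩
    · intro g
      obtain ⟨y, hy⟩ := hsurj g
      exact ⟨e.symm y, by rw [hρ', MulEquiv.apply_symm_apply, hy]⟩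
    · intro x hx
      rw [MonoidHom.mem_ker, hρ'] at hx
      have hx' : e x ∈ ρ.ker := MonoidHom.mem_ker.mpr hx
      have hc := Subgroup.mem_center_iff.mp (hcen hx')
      rw [Subgroup.mem_center_iff]
      intro y
      apply e.injective
      rw [map_mul, map_mul]
      exact hc (e y)
    · intro x hx
      rw [MonoidHom.mem_ker, hρ'] at hx
      have hx' : e x ∈ ρ.ker := MonoidHom.mem_ker.mpr hx
      have hc : e x ∈ commutator E := hcomm hx'
      have hmap : (commutator (Shrink.{v} E)).map e.toMonoidHom = commutator E := by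
        rw [commutator_def, commutator_def, Subgroup.map_commutator,
          Subgroup.map_top_of_surjective _ e.surjective]
      rw [← hmap] at hc
      obtain ⟨y, hy, hyx⟩ := Subgroup.mem_map.mp hc
      have hyx' : y = x := e.injective hyx
      rw [← hyx']; exact hy
  obtain ⟨-, hΓ2⟩ := hΓ
  obtain ⟨π, hπ⟩ := hΓ2 (Shrink.{v} E) ρ' hstem
  intro a b hab
  have h1 : ρ' (e.symm a * (e.symm b)⁻¹) = 1 := by
    rw [hρ']; simp [hab]
  obtain ⟨t, ht⟩ := hπ ⟨_, MonoidHom.mem_ker.mpr h1⟩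
  have ht1 : t = 1 := Subsingleton.elim _ _
  rw [ht1, map_one] at ht
  have h2 : e.symm a * (e.symm b)⁻¹ = 1 := (congrArg Subtype.val ht).symm
  have h3 : e.symm a = e.symm b := mul_inv_eq_one.mp h2
  exact e.symm.injective h3

set_option maxHeartbeats 1000000 in
theorem central_cap {Γ : Type v} [Group Γ] (hΓ : Cfsg.HasCyclicSchurMultiplier Γ 1)
    {P : Type w} [Group P] [Finite P] (p : P →* Γ) (hp : Function.Surjective p)
    (hcen : p.ker ≤ Subgroup.center P) (x0 : P) (hx0K : x0 ∈ p.ker)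
    (hx0C : x0 ∈ commutator P) : x0 = 1 := by
  classical
  by_contra hx0
  let hKc : CommGroup p.ker :=
    { (inferInstance : Group p.ker) with
      mul_comm := fun a b => Subtype.ext (Subgroup.mem_center_iff.mp (hcen b.2) a.1) }
  have := enough_roots p.ker
  obtain ⟨lam, hlam⟩ := CommGroup.exists_apply_ne_one_of_hasEnoughRootsOfUnity p.ker ℂ
    (a := ⟨x0, hx0K⟩) (fun h => hx0 (by simpa using congrArg Subtype.val h))
  let K0 : Subgroup p.ker := (commutator P).subgroupOf p.ker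
  let I : Subgroup ℂˣ := K0.map lam
  have : Finite I :=
    Finite.of_surjective (lam.subgroupMap K0) (MonoidHom.subgroupMap_surjective lam K0)
  set d := Nat.card I with hd
  have hdpos : 0 < d := Nat.card_pos
  have : NeZero d := ⟨hdpos.ne'⟩
  have hId : ∀ ζ ∈ I, ζ ^ d = 1 := by
    intro ζ hζ
    have h := pow_card_eq_one' (G := I) (x := ⟨ζ, hζ⟩)
    have h' : ((⟨ζ, hζ⟩ ^ Nat.card I : I) : ℂˣ) = ((1 : I) : ℂˣ) := congrArg Subtype.val h
    rw [Subgroup.coe_pow, Subgroup.coe_one] at h'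
    exact h'
  have hIeq : I = rootsOfUnity d ℂ := by
    apply Subgroup.eq_of_le_of_card_ge
    · intro ζ hζ
      rw [mem_rootsOfUnity]
      exact hId ζ hζ
    · rw [Complex.card_rootsOfUnity d]
  -- the extension χ of lam ^ d
  let ab : P →* Abelianization P := Abelianization.of
  let Kb : Subgroup (Abelianization P) := (p.ker).map ab
  let f : p.ker →* Kb := ab.subgroupMap p.ker
  let g : p.ker →* ℂˣ := (powMonoidHom d).comp lam
  have hfg : f.ker ≤ g.ker := by
    intro k hk
    rw [MonoidHom.mem_ker] at hk ⊢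
    have h1 : ab (k : P) = 1 := congrArg Subtype.val hk
    have h2 : (k : P) ∈ commutator P := by
      have : ((k : P) : P ⧸ commutator P) = 1 := h1
      exact (QuotientGroup.eq_one_iff _).mp this
    have h3 : lam k ∈ I := Subgroup.mem_map_of_mem lam (Subgroup.mem_subgroupOf.mpr h2)
    show (lam k) ^ d = 1
    exact hId _ h3
  let ψ : Kb →* ℂˣ :=
    f.liftOfSurjective (MonoidHom.subgroupMap_surjective ab p.ker) ⟨g, hfg⟩
  have hψ : ∀ k : p.ker, ψ (f k) = (lam k) ^ d := fun k =>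
    MonoidHom.liftOfRightInverse_comp_apply f _ _ ⟨g, hfg⟩ k
  have := enough_roots (Abelianization P)
  obtain ⟨chib, hchib⟩ := MonoidHom.domRestrict_surjective ℂ Kb ψ
  have hchib' : ∀ y : Kb, chib (y : Abelianization P) = ψ y := fun y => by
    have h := DFunLike.congr_fun hchib y
    simpa using h
  let χ : P →* ℂˣ := chib.comp ab
  have hχK : ∀ k : p.ker, χ (k : P) = (lam k) ^ d := fun k => by
    have h := hchib' (f k)
    rw [hψ] at h
    exact h
  have hroot : ∀ x : P, ∃ u : ℂˣ, χ x = u ^ d := by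
    intro x
    obtain ⟨z, hz⟩ := IsAlgClosed.exists_pow_nat_eq ((χ x : ℂˣ) : ℂ) hdpos
    have hz0 : z ≠ 0 := by
      rintro rfl
      rw [zero_pow hdpos.ne'] at hz
      exact (χ x).ne_zero hz.symm
    refine ⟨Units.mk0 z hz0, ?_⟩
    apply Units.ext
    rw [Units.val_pow_eq_pow_val, Units.val_mk0, hz]
  let R : Subgroup (P × ℂˣ) :=
    { carrier := {r | χ r.1 = r.2 ^ d}
      mul_mem' := by
        intro a b ha hb
        simp only [Set.mem_ofPred_eq] at ha hb ⊢
        rw [Prod.fst_mul, Prod.snd_mul, map_mul, ha, hb, mul_pow]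
      one_mem' := by simp
      inv_mem' := by
        intro a ha
        simp only [Set.mem_ofPred_eq] at ha ⊢
        rw [Prod.fst_inv, Prod.snd_inv, map_inv, ha, inv_pow] }
  have hRmem : ∀ r : P × ℂˣ, r ∈ R ↔ χ r.1 = r.2 ^ d := fun r => Iff.rfl
  have : NeZero (d * Nat.card P) := ⟨Nat.mul_ne_zero hdpos.ne' Nat.card_pos.ne'⟩
  have : Finite R := by
    have hmem : ∀ r : R, (r.1.2) ∈ rootsOfUnity (d * Nat.card P) ℂ := by
      intro r
      rw [mem_rootsOfUnity, pow_mul, ← (hRmem r.1).mp r.2, ← map_pow, pow_card_eq_one', map_one]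
    exact Finite.of_injective
      (fun r : R => ((r.1.1, ⟨r.1.2, hmem r⟩) : P × rootsOfUnity (d * Nat.card P) ℂ))
      (fun a b hab => by
        have h1 : a.1.1 = b.1.1 := by
          have h := congrArg Prod.fst hab
          exact h
        have h2 : a.1.2 = b.1.2 := by
          have h := congrArg
            (fun t : P × rootsOfUnity (d * Nat.card P) ℂ => (t.2 : ℂˣ)) hab
          exact h
        exact Subtype.ext (Prod.ext h1 h2))
  let j : p.ker →* R :=
    { toFun := fun k => ⟨((k : P), lam k), (hRmem _).mpr (hχK k)⟩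
      map_one' := Subtype.ext (Prod.ext rfl (map_one lam))
      map_mul' := fun a b => Subtype.ext (Prod.ext rfl (map_mul lam a b)) }
  let D : Subgroup R := j.range
  have hDcen : ∀ n ∈ D, ∀ g : R, g * n = n * g := by
    rintro n ⟨k, rfl⟩ g
    apply Subtype.ext
    apply Prod.ext
    · exact Subgroup.mem_center_iff.mp (hcen k.2) g.1.1
    · exact mul_comm _ _
  have : D.Normal := ⟨fun n hn g => by
    have h := hDcen n hn g
    rw [h, mul_inv_cancel_right]
    exact hn⟩
  let φ : R →* Γ := p.comp ((MonoidHom.fst P ℂˣ).comp R.subtype)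
  have hφ : ∀ r : R, φ r = p r.1.1 := fun r => rfl
  have hDφ : D ≤ φ.ker := by
    rintro n ⟨k, rfl⟩
    rw [MonoidHom.mem_ker, hφ]
    exact MonoidHom.mem_ker.mp k.2
  let ρ : R ⧸ D →* Γ := QuotientGroup.lift D φ hDφ
  have hρmk : ∀ r : R, ρ (QuotientGroup.mk r) = p r.1.1 := fun r => rfl
  have hπ1 : Function.Surjective ((MonoidHom.fst P ℂˣ).comp R.subtype) := by
    intro x
    obtain ⟨u, hu⟩ := hroot x
    exact ⟨⟨(x, u), (hRmem _).mpr hu⟩, rfl⟩
  have hcR : ∀ (y : P) (hy : y ∈ commutator P) (hy' : ((y, 1) : P × ℂˣ) ∈ R),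
      (⟨(y, 1), hy'⟩ : R) ∈ commutator R := by
    intro y hy hy'
    have hmap : (commutator R).map ((MonoidHom.fst P ℂˣ).comp R.subtype) = commutator P := by
      rw [commutator_def, commutator_def, Subgroup.map_commutator,
        Subgroup.map_top_of_surjective _ hπ1]
    rw [← hmap] at hy
    obtain ⟨r', hr', hr'y⟩ := Subgroup.mem_map.mp hy
    have h2 : r' ∈ ((MonoidHom.snd P ℂˣ).comp R.subtype).ker :=
      Abelianization.commutator_subset_ker _ hr'
    rw [MonoidHom.mem_ker] at h2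
    have h3 : r' = ⟨(y, 1), hy'⟩ := Subtype.ext (Prod.ext hr'y h2)
    rw [← h3]; exact hr'
  have hstem : Cfsg.IsStemExtension ρ := by
    refine ⟨?_, ?_, ?_⟩
    · intro γ
      obtain ⟨x, hx⟩ := hp γ
      obtain ⟨r, hr⟩ := hπ1 x
      refine ⟨QuotientGroup.mk r, ?_⟩
      rw [hρmk]
      have h : r.1.1 = x := hr
      rw [h, hx]
    · intro e he
      obtain ⟨r, rfl⟩ := QuotientGroup.mk_surjective e
      rw [MonoidHom.mem_ker, hρmk] at he
      have hk : r.1.1 ∈ p.ker := MonoidHom.mem_ker.mpr he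
      rw [Subgroup.mem_center_iff]
      intro e'
      obtain ⟨r', rfl⟩ := QuotientGroup.mk_surjective e'
      rw [← QuotientGroup.mk_mul, ← QuotientGroup.mk_mul]
      congr 1
      apply Subtype.ext
      apply Prod.ext
      · exact Subgroup.mem_center_iff.mp (hcen hk) r'.1.1
      · exact mul_comm _ _
    · intro e he
      obtain ⟨r, rfl⟩ := QuotientGroup.mk_surjective e
      rw [MonoidHom.mem_ker, hρmk] at he
      have hk : r.1.1 ∈ p.ker := MonoidHom.mem_ker.mpr he
      let kx : p.ker := ⟨r.1.1, hk⟩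
      have hζ : (r.1.2 * (lam kx)⁻¹) ^ d = 1 := by
        rw [mul_pow, inv_pow, ← (hRmem r.1).mp r.2, ← hχK kx]
        exact mul_inv_cancel _
      have hζI : r.1.2 * (lam kx)⁻¹ ∈ I := by
        rw [hIeq, mem_rootsOfUnity]; exact hζ
      obtain ⟨k0, hk0, hk0ζ⟩ := Subgroup.mem_map.mp hζI
      have hk0C : (k0 : P) ∈ commutator P := Subgroup.mem_subgroupOf.mp hk0
      have hcmem : (((k0 : P)⁻¹, 1) : P × ℂˣ) ∈ R := by
        rw [hRmem]
        show χ ((k0 : P)⁻¹) = 1 ^ d
        rw [one_pow, map_inv, hχK k0, inv_eq_one]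
        exact hId _ (Subgroup.mem_map_of_mem lam hk0)
      have hc := hcR _ ((commutator P).inv_mem hk0C) hcmem
      have heq : (QuotientGroup.mk (⟨((k0 : P)⁻¹, 1), hcmem⟩ : R) : R ⧸ D)
          = QuotientGroup.mk r := by
        rw [QuotientGroup.eq]
        refine MonoidHom.mem_range.mpr ⟨k0 * kx, ?_⟩
        apply Subtype.ext
        apply Prod.ext
        · show ((k0 * kx : p.ker) : P) = ((k0 : P)⁻¹)⁻¹ * r.1.1
          rw [inv_inv]; rfl
        · show lam (k0 * kx) = (1 : ℂˣ)⁻¹ * r.1.2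
          rw [map_mul, hk0ζ, inv_one, one_mul, mul_assoc, inv_mul_cancel, mul_one]
      rw [← heq]
      have hmapE : (commutator R).map (QuotientGroup.mk' D) = commutator (R ⧸ D) := by
        rw [commutator_def, commutator_def, Subgroup.map_commutator,
          Subgroup.map_top_of_surjective _ (QuotientGroup.mk'_surjective D)]
      rw [← hmapE]
      exact Subgroup.mem_map.mpr ⟨_, hc, rfl⟩
  have hinj := triv_any hΓ (R ⧸ D) ρ hstem
  have hζ0I : lam ⟨x0, hx0K⟩ ∈ I :=
    Subgroup.mem_map_of_mem lam (Subgroup.mem_subgroupOf.mpr hx0C)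
  have hr0 : (((1 : P), lam ⟨x0, hx0K⟩) : P × ℂˣ) ∈ R := by
    rw [hRmem]
    show χ 1 = (lam ⟨x0, hx0K⟩) ^ d
    rw [map_one, hId _ hζ0I]
  have h1 : ρ (QuotientGroup.mk ⟨_, hr0⟩) = ρ 1 := by
    rw [map_one, hρmk]
    exact map_one p
  have h2 := hinj h1
  rw [QuotientGroup.eq_one_iff] at h2
  obtain ⟨k, hk⟩ := MonoidHom.mem_range.mp h2
  have hk1 : (k : P) = 1 := congrArg (fun t : R => t.1.1) hk
  have hk2 : lam k = lam ⟨x0, hx0K⟩ := congrArg (fun t : R => t.1.2) hk
  have hk3 : k = 1 := Subtype.ext hk1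
  rw [hk3, map_one] at hk2
  exact hlam hk2.symm

/-- Let `σ : Γ →* Q` be a finite stem extension of the finite group `Q` with `Γ` of trivial Schur multiplier. Then `σ` is a Schur covering group of `Q`: for every finite stem extension `τ : Δ →* Q` with `Δ` in the same universe as `Q`, the kernel of `τ` is a homomorphic image of the kernel of `σ`. -/
theorem result {Q : Type u} [Group Q] [Finite Q] {Γ : Type v} [Group Γ] [Finite Γ] (σ : Γ →* Q) (hσ : Cfsg.IsStemExtension σ) (hΓ : Cfsg.HasCyclicSchurMultiplier Γ 1) (Δ : Type u) [Group Δ] [Finite Δ] (τ : Δ →* Q) (hτ : Cfsg.IsStemExtension τ) : ∃ π : σ.ker →* τ.ker, Function.Surjective π := by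
  obtain ⟨hσs, hσc, hσd⟩ := hσ
  obtain ⟨hτs, hτc, hτd⟩ := hτ
  let P : Subgroup (Γ × Δ) :=
    { carrier := {x | σ x.1 = τ x.2}
      mul_mem' := by
        intro a b ha hb
        simp only [Set.mem_ofPred_eq] at ha hb ⊢
        rw [Prod.fst_mul, Prod.snd_mul, map_mul, map_mul, ha, hb]
      one_mem' := by simp
      inv_mem' := by
        intro a ha
        simp only [Set.mem_ofPred_eq] at ha ⊢
        rw [Prod.fst_inv, Prod.snd_inv, map_inv, map_inv, ha] }
  have hPmem : ∀ x : Γ × Δ, x ∈ P ↔ σ x.1 = τ x.2 := fun x => Iff.rfl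
  let p1 : P →* Γ := (MonoidHom.fst Γ Δ).comp P.subtype
  let p2 : P →* Δ := (MonoidHom.snd Γ Δ).comp P.subtype
  have hp1a : ∀ x : P, p1 x = x.1.1 := fun x => rfl
  have hp2a : ∀ x : P, p2 x = x.1.2 := fun x => rfl
  have hp1 : Function.Surjective p1 := by
    intro g
    obtain ⟨d, hd⟩ := hτs (σ g)
    exact ⟨⟨(g, d), (hPmem _).mpr hd.symm⟩, rfl⟩
  have hp2 : Function.Surjective p2 := by
    intro d
    obtain ⟨g, hg⟩ := hσs (τ d)
    exact ⟨⟨(g, d), (hPmem _).mpr hg⟩, rfl⟩
  have hcen1 : p1.ker ≤ Subgroup.center P := by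
    intro x hx
    rw [MonoidHom.mem_ker, hp1a] at hx
    have hx2 : x.1.2 ∈ τ.ker := by
      rw [MonoidHom.mem_ker, ← (hPmem x.1).mp x.2, hx, map_one]
    have hc := Subgroup.mem_center_iff.mp (hτc hx2)
    rw [Subgroup.mem_center_iff]
    intro y
    apply Subtype.ext
    apply Prod.ext
    · show y.1.1 * x.1.1 = x.1.1 * y.1.1
      rw [hx, mul_one, one_mul]
    · exact hc y.1.2
  have hL := central_cap hΓ p1 hp1 hcen1
  have hmap1 : (commutator P).map p1 = commutator Γ := by
    rw [commutator_def, commutator_def, Subgroup.map_commutator,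
      Subgroup.map_top_of_surjective _ hp1]
  have hmap2 : (commutator P).map p2 = commutator Δ := by
    rw [commutator_def, commutator_def, Subgroup.map_commutator,
      Subgroup.map_top_of_surjective _ hp2]
  let M : Subgroup P := commutator P ⊓ (σ.comp p1).ker
  have hM1 : ∀ m : M, p1 m.1 ∈ σ.ker := fun m =>
    MonoidHom.mem_ker.mpr (MonoidHom.mem_ker.mp (Subgroup.mem_inf.mp m.2).2)
  have hM2 : ∀ m : M, p2 m.1 ∈ τ.ker := fun m => by
    rw [MonoidHom.mem_ker, hp2a, ← (hPmem m.1.1).mp m.1.2]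
    exact MonoidHom.mem_ker.mp (Subgroup.mem_inf.mp m.2).2
  let f1 : M →* σ.ker := (p1.comp M.subtype).codRestrict σ.ker hM1
  let f2 : M →* τ.ker := (p2.comp M.subtype).codRestrict τ.ker hM2
  have hf1inj : Function.Injective f1 := by
    rw [injective_iff_map_eq_one]
    intro m hm
    have h1 : p1 m.1 = 1 := congrArg Subtype.val hm
    have h2 := hL m.1 (MonoidHom.mem_ker.mpr h1) (Subgroup.mem_inf.mp m.2).1
    exact Subtype.ext h2
  have hf1surj : Function.Surjective f1 := by
    rintro ⟨g, hg⟩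
    have hgc : g ∈ commutator Γ := hσd hg
    rw [← hmap1] at hgc
    obtain ⟨c, hc, hcg⟩ := Subgroup.mem_map.mp hgc
    have hcM : c ∈ M := Subgroup.mem_inf.mpr ⟨hc, by
      rw [MonoidHom.mem_ker, MonoidHom.comp_apply, hcg]; exact MonoidHom.mem_ker.mp hg⟩
    exact ⟨⟨c, hcM⟩, Subtype.ext hcg⟩
  have hf2surj : Function.Surjective f2 := by
    rintro ⟨d, hd⟩
    have hdc : d ∈ commutator Δ := hτd hd
    rw [← hmap2] at hdc
    obtain ⟨c, hc, hcd⟩ := Subgroup.mem_map.mp hdc
    have hcM : c ∈ M := Subgroup.mem_inf.mpr ⟨hc, by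
      rw [MonoidHom.mem_ker, MonoidHom.comp_apply, hp1a, (hPmem c.1).mp c.2, ← hp2a, hcd]
      exact MonoidHom.mem_ker.mp hd⟩
    exact ⟨⟨c, hcM⟩, Subtype.ext hcd⟩
  let e1 : M ≃* σ.ker := MulEquiv.ofBijective f1 ⟨hf1inj, hf1surj⟩
  exact ⟨f2.comp e1.symm.toMonoidHom, hf2surj.comp e1.symm.surjective⟩

end Cfsg.Agent.S3958
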