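import Cfsg.Statements.S3956
import Mathlib
import Cfsg.Agent.S3958

set_option autoImplicit false
universe u v
open Cfsg

namespace Cfsg.Agent.S3956

open scoped commutatorElement

set_option maxHeartbeats 1000000 in
theorem ind_rep {Δ : Type*} {Q : Type*} [Group Δ] [Group Q] [Finite Q] (τ : Δ →* Q)
    (hτs : Function.Surjective τ) (hτc : τ.ker ≤ Subgroup.center Δ) (lam : τ.ker →* ℂˣ) :
    ∃ (n : ℕ) (R : Δ →* GL (Fin n) ℂ),
      (∀ k : τ.ker, R k ∈ Subgroup.center (GL (Fin n) ℂ)) ∧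
        (∀ k : τ.ker, R k = 1 → lam k = 1) := by
  classical
  haveI : Fintype Q := Fintype.ofFinite Q
  let t : Q → Δ := Function.surjInv hτs
  have ht : ∀ q, τ (t q) = q := Function.surjInv_eq hτs
  have hcmem : ∀ d q, (t (τ d * q))⁻¹ * d * t q ∈ τ.ker := by
    intro d q
    rw [MonoidHom.mem_ker, map_mul, map_mul, map_inv, ht, ht]
    group
  let cz : Δ → Q → τ.ker := fun d q => ⟨(t (τ d * q))⁻¹ * d * t q, hcmem d q⟩
  have hc1 : ∀ d d' q, cz (d * d') q = cz d (τ d' * q) * cz d' q := by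
    intro d d' q
    apply Subtype.ext
    show (t (τ (d * d') * q))⁻¹ * (d * d') * t q
      = ((t (τ d * (τ d' * q)))⁻¹ * d * t (τ d' * q)) * ((t (τ d' * q))⁻¹ * d' * t q)
    rw [map_mul, mul_assoc (τ d)]
    group
  have hc2 : ∀ q, cz 1 q = 1 := by
    intro q
    apply Subtype.ext
    show (t (τ 1 * q))⁻¹ * 1 * t q = 1
    rw [map_one, one_mul]
    group
  have hc3 : ∀ (k : τ.ker) q, cz k q = k := by
    intro k q
    apply Subtype.ext
    show (t (τ (k : Δ) * q))⁻¹ * (k : Δ) * t q = k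
    have hk : τ (k : Δ) = 1 := MonoidHom.mem_ker.mp k.2
    have hcen := Subgroup.mem_center_iff.mp (hτc k.2) ((t q)⁻¹)
    rw [hk, one_mul, hcen, inv_mul_cancel_right]
  let Rm : Δ → Matrix Q Q ℂ :=
    fun d q' q => if q' = τ d * q then ((lam (cz d q) : ℂˣ) : ℂ) else 0
  have hRm : ∀ d q' q, Rm d q' q = if q' = τ d * q then ((lam (cz d q) : ℂˣ) : ℂ) else 0 :=
    fun _ _ _ => rfl
  have hmul : ∀ d d', Rm (d * d') = Rm d * Rm d' := by
    intro d d'
    ext q'' q
    rw [Matrix.mul_apply, Finset.sum_eq_single (τ d' * q)]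
    · rw [hRm, hRm, hRm, if_pos rfl]
      by_cases h : q'' = τ d * (τ d' * q)
      · have h' : q'' = τ (d * d') * q := by rw [map_mul, mul_assoc]; exact h
        rw [if_pos h, if_pos h', hc1, map_mul, Units.val_mul]
      · have h' : ¬ q'' = τ (d * d') * q := by rw [map_mul, mul_assoc]; exact h
        rw [if_neg h, if_neg h', zero_mul]
    · intro q' _ hq'
      rw [hRm d', if_neg hq', mul_zero]
    · intro h; exact absurd (Finset.mem_univ _) h
  have hone : Rm 1 = 1 := by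
    ext q' q
    rw [hRm, Matrix.one_apply, map_one, one_mul, hc2, map_one, Units.val_one]
  let RQ : Δ →* Matrix Q Q ℂ := { toFun := Rm, map_one' := hone, map_mul' := hmul }
  obtain ⟨n, ⟨e⟩⟩ := Finite.exists_equiv_fin Q
  let re : Matrix Q Q ℂ ≃ₐ[ℂ] Matrix (Fin n) (Fin n) ℂ := Matrix.reindexAlgEquiv ℂ ℂ e
  let R : Δ →* GL (Fin n) ℂ := ((MonoidHomClass.toMonoidHom re).comp RQ).toHomUnits
  have hRval : ∀ d, ((R d : GL (Fin n) ℂ) : Matrix (Fin n) (Fin n) ℂ) = re (Rm d) :=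
    fun d => rfl
  have hscal : ∀ k : τ.ker, Rm k = ((lam k : ℂˣ) : ℂ) • (1 : Matrix Q Q ℂ) := by
    intro k
    ext q' q
    rw [hRm, Matrix.smul_apply, Matrix.one_apply, MonoidHom.mem_ker.mp k.2, one_mul, hc3,
      smul_eq_mul]
    by_cases h : q' = q
    · rw [if_pos h, if_pos h, mul_one]
    · rw [if_neg h, if_neg h, mul_zero]
  have hscal' : ∀ k : τ.ker,
      ((R k : GL (Fin n) ℂ) : Matrix (Fin n) (Fin n) ℂ) = ((lam k : ℂˣ) : ℂ) • 1 := by
    intro k
    rw [hRval, hscal, map_smul, map_one]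
  refine ⟨n, R, ?_, ?_⟩
  · intro k
    rw [Subgroup.mem_center_iff]
    intro g
    apply Units.ext
    rw [Units.val_mul, Units.val_mul, hscal', Matrix.mul_smul, Matrix.smul_mul, mul_one, one_mul]
  · intro k hk
    have h1 := hscal' k
    rw [hk, Units.val_one] at h1
    have h2 := congrFun (congrFun h1 (e 1)) (e 1)
    rw [Matrix.one_apply_eq, Matrix.smul_apply, Matrix.one_apply_eq, smul_eq_mul, mul_one] at h2
    exact Units.ext h2.symm

set_option maxHeartbeats 1000000 in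
theorem lift_cap {Q : Type*} [Group Q] {Γ : Type*} [Group Γ] (σ : Γ →* Q)
    (hlift : ∀ (n : ℕ) (γ : Q →* (GL (Fin n) ℂ ⧸ Subgroup.center (GL (Fin n) ℂ))),
      ∃ ρ : Γ →* GL (Fin n) ℂ,
        (QuotientGroup.mk' (Subgroup.center (GL (Fin n) ℂ))).comp ρ = γ.comp σ)
    {Δ : Type*} [Group Δ] [Finite Δ] (τ : Δ →* Q) (hτs : Function.Surjective τ)
    (hτc : τ.ker ≤ Subgroup.center Δ)
    {P : Type*} [Group P] (p1 : P →* Γ) (p2 : P →* Δ) (hcompat : ∀ x, σ (p1 x) = τ (p2 x))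
    (x : P) (hx1 : p1 x = 1) (hxC : x ∈ commutator P) : p2 x = 1 := by
  classical
  by_contra hd0
  haveI : Finite Q := Finite.of_surjective τ hτs
  have hd0k : p2 x ∈ τ.ker := by rw [MonoidHom.mem_ker, ← hcompat, hx1, map_one]
  let hKc : CommGroup τ.ker :=
    { (inferInstance : Group τ.ker) with
      mul_comm := fun a b => Subtype.ext (Subgroup.mem_center_iff.mp (hτc b.2) a.1) }
  have hroots := Cfsg.Agent.S3958.enough_roots τ.ker
  obtain ⟨lam, hlam⟩ := CommGroup.exists_apply_ne_one_of_hasEnoughRootsOfUnity τ.ker ℂ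
    (a := ⟨p2 x, hd0k⟩) (fun h => hd0 (by simpa using congrArg Subtype.val h))
  obtain ⟨n, R, hR1, hR2⟩ := ind_rep τ hτs hτc lam
  let mkc := QuotientGroup.mk' (Subgroup.center (GL (Fin n) ℂ))
  have hker : τ.ker ≤ (mkc.comp R).ker := by
    intro k hk
    rw [MonoidHom.mem_ker, MonoidHom.comp_apply]
    exact (QuotientGroup.eq_one_iff _).mpr (hR1 ⟨k, hk⟩)
  let γ : Q →* (GL (Fin n) ℂ ⧸ Subgroup.center (GL (Fin n) ℂ)) :=
    τ.liftOfSurjective hτs ⟨mkc.comp R, hker⟩
  have hγ : ∀ d, γ (τ d) = mkc (R d) := fun d =>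
    MonoidHom.liftOfRightInverse_comp_apply τ _ _ ⟨mkc.comp R, hker⟩ d
  obtain ⟨ρ, hρ⟩ := hlift n γ
  have hρ' : ∀ g, mkc (ρ g) = γ (σ g) := fun g => DFunLike.congr_fun hρ g
  have hμmem : ∀ y : P, (ρ (p1 y))⁻¹ * R (p2 y) ∈ Subgroup.center (GL (Fin n) ℂ) := by
    intro y
    have h : mkc (ρ (p1 y)) = mkc (R (p2 y)) := by rw [hρ', hcompat, hγ]
    exact QuotientGroup.eq.mp h
  let μ : P →* Subgroup.center (GL (Fin n) ℂ) :=
    { toFun := fun y => ⟨(ρ (p1 y))⁻¹ * R (p2 y), hμmem y⟩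
      map_one' := by
        apply Subtype.ext
        show (ρ (p1 1))⁻¹ * R (p2 1) = 1
        rw [map_one, map_one, map_one, map_one, inv_one, one_mul]
      map_mul' := by
        intro y y'
        apply Subtype.ext
        show (ρ (p1 (y * y')))⁻¹ * R (p2 (y * y'))
          = ((ρ (p1 y))⁻¹ * R (p2 y)) * ((ρ (p1 y'))⁻¹ * R (p2 y'))
        have hc := Subgroup.mem_center_iff.mp (hμmem y) ((ρ (p1 y'))⁻¹)
        calc (ρ (p1 (y * y')))⁻¹ * R (p2 (y * y'))
            = ((ρ (p1 y'))⁻¹ * ((ρ (p1 y))⁻¹ * R (p2 y))) * R (p2 y') := by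
              rw [map_mul, map_mul, map_mul, map_mul, mul_inv_rev]; group
          _ = (((ρ (p1 y))⁻¹ * R (p2 y)) * (ρ (p1 y'))⁻¹) * R (p2 y') := by rw [hc]
          _ = _ := by group }
  have hμC : μ x = 1 := by
    have hle : commutator P ≤ μ.ker := by
      rw [commutator_eq_closure, Subgroup.closure_le]
      rintro c ⟨a, b, rfl⟩
      show ⁅a, b⁆ ∈ μ.ker
      rw [MonoidHom.mem_ker, map_commutatorElement, commutatorElement_eq_one_iff_commute]
      have h := Subgroup.mem_center_iff.mp (μ b).2 (μ a).1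
      exact Subtype.ext h
    exact MonoidHom.mem_ker.mp (hle hxC)
  have h1 : (ρ (p1 x))⁻¹ * R (p2 x) = 1 := congrArg Subtype.val hμC
  rw [hx1, map_one, inv_one, one_mul] at h1
  exact hlam (hR2 ⟨p2 x, hd0k⟩ h1)

/-- Let `σ : Γ →* Q` be a finite stem extension of the finite group `Q` such that every homomorphism from `Q` to the quotient of `GL n ℂ` by its centre, for every `n`, lifts along `σ` to a homomorphism `Γ →* GL n ℂ`. Then `σ` is a Schur covering group of `Q`: for every finite stem extension `τ : Δ →* Q` with `Δ` in the same universe as `Q`, the kernel of `τ` is a homomorphic image of the kernel of `σ`. -/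
theorem result {Q : Type u} [Group Q] [Finite Q] {Γ : Type v} [Group Γ] [Finite Γ] (σ : Γ →* Q) (hσ : Cfsg.IsStemExtension σ) (hlift : ∀ (n : ℕ) (γ : Q →* (GL (Fin n) ℂ ⧸ Subgroup.center (GL (Fin n) ℂ))), ∃ ρ : Γ →* GL (Fin n) ℂ, (QuotientGroup.mk' (Subgroup.center (GL (Fin n) ℂ))).comp ρ = γ.comp σ) (Δ : Type u) [Group Δ] [Finite Δ] (τ : Δ →* Q) (hτ : Cfsg.IsStemExtension τ) : ∃ π : σ.ker →* τ.ker, Function.Surjective π := by
  obtain ⟨hσs, hσc, hσd⟩ := hσ
  obtain ⟨hτs, hτc, hτd⟩ := hτ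
  let P : Subgroup (Γ × Δ) :=
    { carrier := {x | σ x.1 = τ x.2}
      mul_mem' := by
        intro a b ha hb
        simp only [Set.mem_ofPred_eq] at ha hb ⊢
        rw [Prod.fst_mul, Prod.snd_mul, map_mul, map_mul, ha, hb]
      one_mem' := by simp
      inv_mem' := by
        intro a ha
        simp only [Set.mem_ofPred_eq] at ha ⊢
        rw [Prod.fst_inv, Prod.snd_inv, map_inv, map_inv, ha] }
  have hPmem : ∀ x : Γ × Δ, x ∈ P ↔ σ x.1 = τ x.2 := fun x => Iff.rfl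
  let p1 : P →* Γ := (MonoidHom.fst Γ Δ).comp P.subtype
  let p2 : P →* Δ := (MonoidHom.snd Γ Δ).comp P.subtype
  have hp1a : ∀ x : P, p1 x = x.1.1 := fun x => rfl
  have hp2a : ∀ x : P, p2 x = x.1.2 := fun x => rfl
  have hp1 : Function.Surjective p1 := by
    intro g
    obtain ⟨d, hd⟩ := hτs (σ g)
    exact ⟨⟨(g, d), (hPmem _).mpr hd.symm⟩, rfl⟩
  have hp2 : Function.Surjective p2 := by
    intro d
    obtain ⟨g, hg⟩ := hσs (τ d)
    exact ⟨⟨(g, d), (hPmem _).mpr hg⟩, rfl⟩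
  have hcen1 : p1.ker ≤ Subgroup.center P := by
    intro x hx
    rw [MonoidHom.mem_ker, hp1a] at hx
    have hx2 : x.1.2 ∈ τ.ker := by
      rw [MonoidHom.mem_ker, ← (hPmem x.1).mp x.2, hx, map_one]
    have hc := Subgroup.mem_center_iff.mp (hτc hx2)
    rw [Subgroup.mem_center_iff]
    intro y
    apply Subtype.ext
    apply Prod.ext
    · show y.1.1 * x.1.1 = x.1.1 * y.1.1
      rw [hx, mul_one, one_mul]
    · exact hc y.1.2
  have hL : ∀ x : P, x ∈ p1.ker → x ∈ commutator P → x = 1 := by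
    intro x hx hxC
    have hx1 : p1 x = 1 := MonoidHom.mem_ker.mp hx
    have h2 := lift_cap σ hlift τ hτs hτc p1 p2 (fun y => (hPmem y.1).mp y.2) x hx1 hxC
    apply Subtype.ext
    apply Prod.ext
    · exact hx1
    · exact h2
  have hmap1 : (commutator P).map p1 = commutator Γ := by
    rw [commutator_def, commutator_def, Subgroup.map_commutator,
      Subgroup.map_top_of_surjective _ hp1]
  have hmap2 : (commutator P).map p2 = commutator Δ := by
    rw [commutator_def, commutator_def, Subgroup.map_commutator,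
      Subgroup.map_top_of_surjective _ hp2]
  let M : Subgroup P := commutator P ⊓ (σ.comp p1).ker
  have hM1 : ∀ m : M, p1 m.1 ∈ σ.ker := fun m =>
    MonoidHom.mem_ker.mpr (MonoidHom.mem_ker.mp (Subgroup.mem_inf.mp m.2).2)
  have hM2 : ∀ m : M, p2 m.1 ∈ τ.ker := fun m => by
    rw [MonoidHom.mem_ker, hp2a, ← (hPmem m.1.1).mp m.1.2]
    exact MonoidHom.mem_ker.mp (Subgroup.mem_inf.mp m.2).2
  let f1 : M →* σ.ker := (p1.comp M.subtype).codRestrict σ.ker hM1
  let f2 : M →* τ.ker := (p2.comp M.subtype).codRestrict τ.ker hM2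
  have hf1inj : Function.Injective f1 := by
    rw [injective_iff_map_eq_one]
    intro m hm
    have h1 : p1 m.1 = 1 := congrArg Subtype.val hm
    have h2 := hL m.1 (MonoidHom.mem_ker.mpr h1) (Subgroup.mem_inf.mp m.2).1
    exact Subtype.ext h2
  have hf1surj : Function.Surjective f1 := by
    rintro ⟨g, hg⟩
    have hgc : g ∈ commutator Γ := hσd hg
    rw [← hmap1] at hgc
    obtain ⟨c, hc, hcg⟩ := Subgroup.mem_map.mp hgc
    have hcM : c ∈ M := Subgroup.mem_inf.mpr ⟨hc, by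
      rw [MonoidHom.mem_ker, MonoidHom.comp_apply, hcg]; exact MonoidHom.mem_ker.mp hg⟩
    exact ⟨⟨c, hcM⟩, Subtype.ext hcg⟩
  have hf2surj : Function.Surjective f2 := by
    rintro ⟨d, hd⟩
    have hdc : d ∈ commutator Δ := hτd hd
    rw [← hmap2] at hdc
    obtain ⟨c, hc, hcd⟩ := Subgroup.mem_map.mp hdc
    have hcM : c ∈ M := Subgroup.mem_inf.mpr ⟨hc, by
      rw [MonoidHom.mem_ker, MonoidHom.comp_apply, hp1a, (hPmem c.1).mp c.2, ← hp2a, hcd]
      exact MonoidHom.mem_ker.mp hd⟩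
    exact ⟨⟨c, hcM⟩, Subtype.ext hcd⟩
  let e1 : M ≃* σ.ker := MulEquiv.ofBijective f1 ⟨hf1inj, hf1surj⟩
  exact ⟨f2.comp e1.symm.toMonoidHom, hf2surj.comp e1.symm.surjective⟩

end Cfsg.Agent.S3956
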