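import Cfsg.Statements.S3978
import Mathlib
import Cfsg.Agent.S3958
import Cfsg.Agent.S3956

set_option autoImplicit false
open Cfsg

namespace Cfsg.Agent.S3978

theorem ext_char {S : Type*} [Group S] [Finite S] (Z : Subgroup S)
    (hcap : ∀ z ∈ Z, z ∈ commutator S → z = 1) (ν : Z →* ℂˣ) :
    ∃ r : S →* ℂˣ, ∀ z : Z, r z = ν z := by
  let ab : S →* Abelianization S := Abelianization.of
  let Zb : Subgroup (Abelianization S) := Z.map ab
  let f : Z →* Zb := ab.subgroupMap Z
  have hfν : f.ker ≤ ν.ker := by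
    intro k hk
    rw [MonoidHom.mem_ker] at hk ⊢
    have h1 : ab (k : S) = 1 := congrArg Subtype.val hk
    have h2 : (k : S) ∈ commutator S := by
      have h : ((k : S) : S ⧸ commutator S) = 1 := h1
      exact (QuotientGroup.eq_one_iff _).mp h
    have h3 : k = 1 := Subtype.ext (hcap k k.2 h2)
    rw [h3, map_one]
  let ψ : Zb →* ℂˣ := f.liftOfSurjective (MonoidHom.subgroupMap_surjective ab Z) ⟨ν, hfν⟩
  have hψ : ∀ k : Z, ψ (f k) = ν k := fun k =>
    MonoidHom.liftOfRightInverse_comp_apply f _ _ ⟨ν, hfν⟩ k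
  have hroots := Cfsg.Agent.S3958.enough_roots (Abelianization S)
  obtain ⟨chib, hchib⟩ := MonoidHom.domRestrict_surjective ℂ Zb ψ
  have hchib' : ∀ y : Zb, chib (y : Abelianization S) = ψ y := fun y => by
    have h := DFunLike.congr_fun hchib y
    simpa using h
  refine ⟨chib.comp ab, fun z => ?_⟩
  have h := hchib' (f z)
  rw [hψ] at h
  exact h

set_option maxHeartbeats 1000000 in
theorem lift_of_trivial {Q : Type*} [Group Q] [Finite Q]
    (hM : Cfsg.HasCyclicSchurMultiplier Q 1) (n : ℕ)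
    (γ : Q →* (GL (Fin n) ℂ ⧸ Subgroup.center (GL (Fin n) ℂ))) :
    ∃ ρ : Q →* GL (Fin n) ℂ,
      (QuotientGroup.mk' (Subgroup.center (GL (Fin n) ℂ))).comp ρ = γ := by
  classical
  rcases Nat.eq_zero_or_pos n with hn | hn
  · subst hn
    have hall : ∀ g : GL (Fin 0) ℂ, g = 1 := fun g => Units.ext (Subsingleton.elim _ _)
    refine ⟨1, ?_⟩
    ext q
    obtain ⟨g, hg⟩ := QuotientGroup.mk_surjective (γ q)
    rw [← hg, hall g]
    rfl
  · have hNZ : NeZero n := ⟨hn.ne'⟩
    have hNE : Nonempty (Fin n) := ⟨⟨0, hn⟩⟩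
    let sc : ℂˣ →* GL (Fin n) ℂ := Matrix.GeneralLinearGroup.scalar (Fin n)
    let mkc := QuotientGroup.mk' (Subgroup.center (GL (Fin n) ℂ))
    have hsc_cen : ∀ u : ℂˣ, sc u ∈ Subgroup.center (GL (Fin n) ℂ) := by
      intro u
      rw [Matrix.GeneralLinearGroup.center_eq_range_scalar]
      exact ⟨u, rfl⟩
    have hmk_sc : ∀ u : ℂˣ, mkc (sc u) = 1 := fun u =>
      (QuotientGroup.eq_one_iff _).mpr (hsc_cen u)
    have hsc_inj : Function.Injective sc := by
      intro u v huv
      have h1 : Matrix.scalar (Fin n) (u : ℂ) = Matrix.scalar (Fin n) (v : ℂ) := by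
        have h := congrArg Units.val huv
        exact h
      exact Units.ext (Matrix.scalar_inj.mp h1)
    have hsc_comm : ∀ (u : ℂˣ) (A : GL (Fin n) ℂ), sc u * A = A * sc u :=
      fun u A => Matrix.GeneralLinearGroup.scalar_commute u A
    have hsc_det : ∀ u : ℂˣ, Matrix.GeneralLinearGroup.det (sc u) = u ^ n := by
      intro u
      have h := Matrix.GeneralLinearGroup.det_scalar (n := Fin n) u
      rw [Fintype.card_fin] at h
      exact h
    let S : Subgroup (Q × GL (Fin n) ℂ) :=
      { carrier := {x | mkc x.2 = γ x.1 ∧ Matrix.GeneralLinearGroup.det x.2 = 1}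
        mul_mem' := by
          rintro a b ⟨ha1, ha2⟩ ⟨hb1, hb2⟩
          refine ⟨?_, ?_⟩
          · show mkc (a.2 * b.2) = γ (a.1 * b.1)
            rw [map_mul, map_mul, ha1, hb1]
          · show Matrix.GeneralLinearGroup.det (a.2 * b.2) = 1
            rw [map_mul, ha2, hb2, one_mul]
        one_mem' := by
          refine ⟨?_, ?_⟩
          · show mkc 1 = γ 1
            rw [map_one, map_one]
          · show Matrix.GeneralLinearGroup.det (1 : GL (Fin n) ℂ) = 1
            rw [map_one]
        inv_mem' := by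
          rintro a ⟨ha1, ha2⟩
          refine ⟨?_, ?_⟩
          · show mkc (a.2)⁻¹ = γ (a.1)⁻¹
            rw [map_inv, map_inv, ha1]
          · show Matrix.GeneralLinearGroup.det (a.2)⁻¹ = 1
            rw [map_inv, ha2, inv_one] }
    have hSmem : ∀ x : Q × GL (Fin n) ℂ,
        x ∈ S ↔ (mkc x.2 = γ x.1 ∧ Matrix.GeneralLinearGroup.det x.2 = 1) := fun x => Iff.rfl
    let pq : S →* Q := (MonoidHom.fst Q (GL (Fin n) ℂ)).comp S.subtype
    have hpq : Function.Surjective pq := by
      intro q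
      obtain ⟨M0, hM0⟩ := QuotientGroup.mk_surjective (γ q)
      obtain ⟨z, hz⟩ := IsAlgClosed.exists_pow_nat_eq
        (((Matrix.GeneralLinearGroup.det M0)⁻¹ : ℂˣ) : ℂ) hn
      have hz0 : z ≠ 0 := by
        rintro rfl
        rw [zero_pow hn.ne'] at hz
        exact (Units.ne_zero _) hz.symm
      let u : ℂˣ := Units.mk0 z hz0
      have hu : u ^ n = (Matrix.GeneralLinearGroup.det M0)⁻¹ := by
        apply Units.ext
        rw [Units.val_pow_eq_pow_val, Units.val_mk0, hz]
      refine ⟨⟨(q, sc u * M0), (hSmem _).mpr ⟨?_, ?_⟩⟩, rfl⟩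
      · show mkc (sc u * M0) = γ q
        rw [map_mul, hmk_sc, one_mul]
        exact hM0
      · show Matrix.GeneralLinearGroup.det (sc u * M0) = 1
        rw [map_mul, hsc_det, hu, inv_mul_cancel]
    have hZ2cen : ∀ z : S, z ∈ pq.ker → z.1.2 ∈ Subgroup.center (GL (Fin n) ℂ) := by
      intro z hz
      have h1 : z.1.1 = 1 := MonoidHom.mem_ker.mp hz
      have h2 := ((hSmem z.1).mp z.2).1
      rw [h1, map_one] at h2
      exact (QuotientGroup.eq_one_iff _).mp h2
    have hcen : pq.ker ≤ Subgroup.center S := by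
      intro z hz
      have h1 : z.1.1 = 1 := MonoidHom.mem_ker.mp hz
      have hc := Subgroup.mem_center_iff.mp (hZ2cen z hz)
      rw [Subgroup.mem_center_iff]
      intro y
      apply Subtype.ext
      apply Prod.ext
      · show y.1.1 * z.1.1 = z.1.1 * y.1.1
        rw [h1, mul_one, one_mul]
      · exact hc y.1.2
    have hex : ∀ z : pq.ker, ∃ u : ℂˣ, sc u = z.1.1.2 := by
      intro z
      have h := hZ2cen z.1 z.2
      rw [Matrix.GeneralLinearGroup.center_eq_range_scalar] at h
      exact MonoidHom.mem_range.mp h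
    let ν : pq.ker →* ℂˣ := MonoidHom.mk' (fun z => Classical.choose (hex z)) (by
      intro a b
      show Classical.choose (hex (a * b)) = Classical.choose (hex a) * Classical.choose (hex b)
      apply hsc_inj
      rw [map_mul, Classical.choose_spec (hex a), Classical.choose_spec (hex b),
        Classical.choose_spec (hex (a * b))]
      rfl)
    have hν : ∀ z : pq.ker, sc (ν z) = z.1.1.2 := fun z => Classical.choose_spec (hex z)
    have hνroot : ∀ z : pq.ker, ν z ∈ rootsOfUnity n ℂ := by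
      intro z
      rw [mem_rootsOfUnity, ← hsc_det, hν]
      exact ((hSmem z.1.1).mp z.1.2).2
    have hkerfin : Finite pq.ker := by
      apply Finite.of_injective (fun z : pq.ker => (⟨ν z, hνroot z⟩ : rootsOfUnity n ℂ))
      intro a b hab
      have h1 : ν a = ν b := by
        have h := congrArg Subtype.val hab
        exact h
      have h2 : a.1.1.2 = b.1.1.2 := by rw [← hν, ← hν, h1]
      have h3 : a.1.1.1 = b.1.1.1 := by
        have ha : a.1.1.1 = 1 := MonoidHom.mem_ker.mp a.2
        have hb : b.1.1.1 = 1 := MonoidHom.mem_ker.mp b.2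
        rw [ha, hb]
      exact Subtype.ext (Subtype.ext (Prod.ext h3 h2))
    have hSfin : Finite S :=
      (MonoidHom.finite_iff_finite_ker_range pq).mpr ⟨hkerfin, inferInstance⟩
    have hcap := Cfsg.Agent.S3958.central_cap hM pq hpq hcen
    obtain ⟨r, hr⟩ := ext_char pq.ker (fun z hz hzC => hcap z hz hzC) ν
    let ρ' : S →* GL (Fin n) ℂ :=
      { toFun := fun x => (sc (r x))⁻¹ * x.1.2
        map_one' := by
          show (sc (r 1))⁻¹ * (1 : GL (Fin n) ℂ) = 1
          rw [map_one, map_one, inv_one, one_mul]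
        map_mul' := by
          intro x y
          show (sc (r (x * y)))⁻¹ * (x.1.2 * y.1.2)
            = ((sc (r x))⁻¹ * x.1.2) * ((sc (r y))⁻¹ * y.1.2)
          have hb : (sc (r y))⁻¹ * ((sc (r x))⁻¹ * x.1.2)
              = ((sc (r x))⁻¹ * x.1.2) * (sc (r y))⁻¹ := by
            rw [← map_inv sc (r y)]
            exact hsc_comm _ _
          calc (sc (r (x * y)))⁻¹ * (x.1.2 * y.1.2)
              = ((sc (r y))⁻¹ * ((sc (r x))⁻¹ * x.1.2)) * y.1.2 := by
                rw [map_mul, map_mul, mul_inv_rev]; group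
            _ = (((sc (r x))⁻¹ * x.1.2) * (sc (r y))⁻¹) * y.1.2 := by rw [hb]
            _ = _ := by group }
    have hρ' : ∀ x : S, ρ' x = (sc (r x))⁻¹ * x.1.2 := fun x => rfl
    have hkerρ' : pq.ker ≤ ρ'.ker := by
      intro z hz
      rw [MonoidHom.mem_ker, hρ']
      have h1 := hr ⟨z, hz⟩
      have h2 := hν ⟨z, hz⟩
      have h3 : sc (r z) = z.1.2 := (congrArg sc h1).trans h2
      rw [h3, inv_mul_cancel]
    let ρ : Q →* GL (Fin n) ℂ := pq.liftOfSurjective hpq ⟨ρ', hkerρ'⟩
    have hρ : ∀ x : S, ρ (pq x) = ρ' x := fun x =>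
      MonoidHom.liftOfRightInverse_comp_apply pq _ _ ⟨ρ', hkerρ'⟩ x
    refine ⟨ρ, ?_⟩
    ext q
    obtain ⟨x, rfl⟩ := hpq q
    show mkc (ρ (pq x)) = γ (pq x)
    rw [hρ, hρ', map_mul, map_inv, hmk_sc, inv_one, one_mul]
    exact ((hSmem x.1).mp x.2).1

/-- A finite group `Q` has trivial Schur multiplier if and only if, for every `n`, every homomorphism from `Q` to the projective general linear group (the quotient of `GL n ℂ` by its centre) lifts to a homomorphism into `GL n ℂ`. -/
theorem result {Q : Type*} [Group Q] [Finite Q] : Cfsg.HasCyclicSchurMultiplier Q 1 ↔ ∀ (n : ℕ) (γ : Q →* (GL (Fin n) ℂ ⧸ Subgroup.center (GL (Fin n) ℂ))), ∃ ρ : Q →* GL (Fin n) ℂ, (QuotientGroup.mk' (Subgroup.center (GL (Fin n) ℂ))).comp ρ = γ := by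
  constructor
  · intro hM n γ
    exact lift_of_trivial hM n γ
  · intro hlift'
    refine And.intro ?_ ?_
    · refine ⟨Q, inferInstance, inferInstance, MonoidHom.id Q,
        ⟨Function.surjective_id, ?_, ?_⟩, ⟨?_⟩⟩
      · intro x hx
        have h : x = 1 := MonoidHom.mem_ker.mp hx
        rw [h]; exact Subgroup.one_mem _
      · intro x hx
        have h : x = 1 := MonoidHom.mem_ker.mp hx
        rw [h]; exact Subgroup.one_mem _
      · exact
          { toFun := fun _ => 1
            invFun := fun _ => 1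
            left_inv := fun x => Subtype.ext (MonoidHom.mem_ker.mp x.2).symm
            right_inv := fun y => Subsingleton.elim _ _
            map_mul' := fun _ _ => (mul_one _).symm }
    · intro E _ _ ρ0 hρ0
      obtain ⟨hs, hc, hd⟩ := hρ0
      have hker1 : ∀ x ∈ ρ0.ker, x = 1 := by
        intro x hx
        have hlift : ∀ (n : ℕ) (γ : Q →* (GL (Fin n) ℂ ⧸ Subgroup.center (GL (Fin n) ℂ))),
            ∃ ρ : Q →* GL (Fin n) ℂ,
              (QuotientGroup.mk' (Subgroup.center (GL (Fin n) ℂ))).comp ρ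
                = γ.comp (MonoidHom.id Q) := by
          intro n γ
          obtain ⟨ρ, hρ⟩ := hlift' n γ
          exact ⟨ρ, by rw [hρ, MonoidHom.comp_id]⟩
        exact Cfsg.Agent.S3956.lift_cap (MonoidHom.id Q) hlift ρ0 hs hc ρ0 (MonoidHom.id E)
          (fun y => rfl) x (MonoidHom.mem_ker.mp hx) (hd hx)
      refine ⟨1, ?_⟩
      intro y
      exact ⟨1, Subtype.ext (hker1 y.1 y.2).symm⟩

end Cfsg.Agent.S3978
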