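import Cfsg.Statements.S3955
import Mathlib
import Cfsg.Agent.S3958
import Cfsg.Agent.S3978

set_option autoImplicit false
open Cfsg

namespace Cfsg.Agent.S3955

universe u v w

theorem stem_any {Q : Type u} [Group Q] {A : Type v} [CommGroup A]
    (hA : Cfsg.HasSchurMultiplier Q A)
    (E : Type w) [Group E] [Finite E] (ρ : E →* Q) (hρ : Cfsg.IsStemExtension ρ) :
    ∃ π : A →* ρ.ker, Function.Surjective π := by
  obtain ⟨hsurj, hcen, hcomm⟩ := hρ
  obtain ⟨n, ⟨e0⟩⟩ := Finite.exists_equiv_fin E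
  have : Small.{u} E := small_map e0
  let e : Shrink.{u} E ≃* E := Shrink.mulEquiv
  have : Finite (Shrink.{u} E) := Finite.of_equiv E (equivShrink E)
  let ρ' : Shrink.{u} E →* Q := ρ.comp e.toMonoidHom
  have hρ' : ∀ x, ρ' x = ρ (e x) := fun x => rfl
  have hstem : Cfsg.IsStemExtension ρ' := by
    refine ⟨?_, ?_, ?_⟩
    · intro g
      obtain ⟨y, hy⟩ := hsurj g
      exact ⟨e.symm y, by rw [hρ', MulEquiv.apply_symm_apply, hy]⟩
    · intro x hx
      rw [MonoidHom.mem_ker, hρ'] at hx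
      have hx' : e x ∈ ρ.ker := MonoidHom.mem_ker.mpr hx
      have hc := Subgroup.mem_center_iff.mp (hcen hx')
      rw [Subgroup.mem_center_iff]
      intro y
      apply e.injective
      rw [map_mul, map_mul]
      exact hc (e y)
    · intro x hx
      rw [MonoidHom.mem_ker, hρ'] at hx
      have hx' : e x ∈ ρ.ker := MonoidHom.mem_ker.mpr hx
      have hc : e x ∈ commutator E := hcomm hx'
      have hmap : (commutator (Shrink.{u} E)).map e.toMonoidHom = commutator E := by
        rw [commutator_def, commutator_def, Subgroup.map_commutator,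
          Subgroup.map_top_of_surjective _ e.surjective]
      rw [← hmap] at hc
      obtain ⟨y, hy, hyx⟩ := Subgroup.mem_map.mp hc
      have hyx' : y = x := e.injective hyx
      rw [← hyx']; exact hy
  obtain ⟨-, hA2⟩ := hA
  obtain ⟨π, hπ⟩ := hA2 (Shrink.{u} E) ρ' hstem
  let κ : ρ'.ker →* ρ.ker := (e.toMonoidHom.comp ρ'.ker.subtype).codRestrict ρ.ker
    (fun x => MonoidHom.mem_ker.mpr (MonoidHom.mem_ker.mp x.2))
  have hκ : Function.Surjective κ := by
    rintro ⟨y, hy⟩
    refine ⟨⟨e.symm y, ?_⟩, Subtype.ext (e.apply_symm_apply y)⟩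
    rw [MonoidHom.mem_ker, hρ', MulEquiv.apply_symm_apply]
    exact MonoidHom.mem_ker.mp hy
  exact ⟨κ.comp π, hκ.comp hπ⟩

set_option maxHeartbeats 1000000 in
theorem stem_construct {Γ : Type v} [Group Γ]
    {P : Type w} [Group P] [Finite P] (p : P →* Γ) (hp : Function.Surjective p)
    (hcen : p.ker ≤ Subgroup.center P) (x0 : P) (hx0K : x0 ∈ p.ker)
    (hx0C : x0 ∈ commutator P) (hx0 : x0 ≠ 1) :
    ∃ (E : Type w) (_ : Group E) (_ : Finite E) (ρ : E →* Γ), Cfsg.IsStemExtension ρ ∧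
      (∃ e : E, e ≠ 1 ∧ ρ e = 1) ∧
      ∀ N : Subgroup Γ, N.comap p ≤ Subgroup.center P → N.comap ρ ≤ Subgroup.center E := by
  classical
  let hKc : CommGroup p.ker :=
    { (inferInstance : Group p.ker) with
      mul_comm := fun a b => Subtype.ext (Subgroup.mem_center_iff.mp (hcen b.2) a.1) }
  have := Cfsg.Agent.S3958.enough_roots p.ker
  obtain ⟨lam, hlam⟩ := CommGroup.exists_apply_ne_one_of_hasEnoughRootsOfUnity p.ker ℂ
    (a := ⟨x0, hx0K⟩) (fun h => hx0 (by simpa using congrArg Subtype.val h))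
  let K0 : Subgroup p.ker := (commutator P).subgroupOf p.ker
  let I : Subgroup ℂˣ := K0.map lam
  have : Finite I :=
    Finite.of_surjective (lam.subgroupMap K0) (MonoidHom.subgroupMap_surjective lam K0)
  set d := Nat.card I with hd
  have hdpos : 0 < d := Nat.card_pos
  have : NeZero d := ⟨hdpos.ne'⟩
  have hId : ∀ ζ ∈ I, ζ ^ d = 1 := by
    intro ζ hζ
    have h := pow_card_eq_one' (G := I) (x := ⟨ζ, hζ⟩)
    have h' : ((⟨ζ, hζ⟩ ^ Nat.card I : I) : ℂˣ) = ((1 : I) : ℂˣ) := congrArg Subtype.val h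
    rw [Subgroup.coe_pow, Subgroup.coe_one] at h'
    exact h'
  have hIeq : I = rootsOfUnity d ℂ := by
    apply Subgroup.eq_of_le_of_card_ge
    · intro ζ hζ
      rw [mem_rootsOfUnity]
      exact hId ζ hζ
    · rw [Complex.card_rootsOfUnity d]
  -- the extension χ of lam ^ d
  let ab : P →* Abelianization P := Abelianization.of
  let Kb : Subgroup (Abelianization P) := (p.ker).map ab
  let f : p.ker →* Kb := ab.subgroupMap p.ker
  let g : p.ker →* ℂˣ := (powMonoidHom d).comp lam
  have hfg : f.ker ≤ g.ker := by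
    intro k hk
    rw [MonoidHom.mem_ker] at hk ⊢
    have h1 : ab (k : P) = 1 := congrArg Subtype.val hk
    have h2 : (k : P) ∈ commutator P := by
      have : ((k : P) : P ⧸ commutator P) = 1 := h1
      exact (QuotientGroup.eq_one_iff _).mp this
    have h3 : lam k ∈ I := Subgroup.mem_map_of_mem lam (Subgroup.mem_subgroupOf.mpr h2)
    show (lam k) ^ d = 1
    exact hId _ h3
  let ψ : Kb →* ℂˣ :=
    f.liftOfSurjective (MonoidHom.subgroupMap_surjective ab p.ker) ⟨g, hfg⟩
  have hψ : ∀ k : p.ker, ψ (f k) = (lam k) ^ d := fun k =>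
    MonoidHom.liftOfRightInverse_comp_apply f _ _ ⟨g, hfg⟩ k
  have := Cfsg.Agent.S3958.enough_roots (Abelianization P)
  obtain ⟨chib, hchib⟩ := MonoidHom.domRestrict_surjective ℂ Kb ψ
  have hchib' : ∀ y : Kb, chib (y : Abelianization P) = ψ y := fun y => by
    have h := DFunLike.congr_fun hchib y
    simpa using h
  let χ : P →* ℂˣ := chib.comp ab
  have hχK : ∀ k : p.ker, χ (k : P) = (lam k) ^ d := fun k => by
    have h := hchib' (f k)
    rw [hψ] at h
    exact h
  have hroot : ∀ x : P, ∃ u : ℂˣ, χ x = u ^ d := by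
    intro x
    obtain ⟨z, hz⟩ := IsAlgClosed.exists_pow_nat_eq ((χ x : ℂˣ) : ℂ) hdpos
    have hz0 : z ≠ 0 := by
      rintro rfl
      rw [zero_pow hdpos.ne'] at hz
      exact (χ x).ne_zero hz.symm
    refine ⟨Units.mk0 z hz0, ?_⟩
    apply Units.ext
    rw [Units.val_pow_eq_pow_val, Units.val_mk0, hz]
  let R : Subgroup (P × ℂˣ) :=
    { carrier := {r | χ r.1 = r.2 ^ d}
      mul_mem' := by
        intro a b ha hb
        simp only [Set.mem_ofPred_eq] at ha hb ⊢
        rw [Prod.fst_mul, Prod.snd_mul, map_mul, ha, hb, mul_pow]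
      one_mem' := by simp
      inv_mem' := by
        intro a ha
        simp only [Set.mem_ofPred_eq] at ha ⊢
        rw [Prod.fst_inv, Prod.snd_inv, map_inv, ha, inv_pow] }
  have hRmem : ∀ r : P × ℂˣ, r ∈ R ↔ χ r.1 = r.2 ^ d := fun r => Iff.rfl
  have : NeZero (d * Nat.card P) := ⟨Nat.mul_ne_zero hdpos.ne' Nat.card_pos.ne'⟩
  have : Finite R := by
    have hmem : ∀ r : R, (r.1.2) ∈ rootsOfUnity (d * Nat.card P) ℂ := by
      intro r
      rw [mem_rootsOfUnity, pow_mul, ← (hRmem r.1).mp r.2, ← map_pow, pow_card_eq_one', map_one]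
    exact Finite.of_injective
      (fun r : R => ((r.1.1, ⟨r.1.2, hmem r⟩) : P × rootsOfUnity (d * Nat.card P) ℂ))
      (fun a b hab => by
        have h1 : a.1.1 = b.1.1 := by
          have h := congrArg Prod.fst hab
          exact h
        have h2 : a.1.2 = b.1.2 := by
          have h := congrArg
            (fun t : P × rootsOfUnity (d * Nat.card P) ℂ => (t.2 : ℂˣ)) hab
          exact h
        exact Subtype.ext (Prod.ext h1 h2))
  let j : p.ker →* R :=
    { toFun := fun k => ⟨((k : P), lam k), (hRmem _).mpr (hχK k)⟩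
      map_one' := Subtype.ext (Prod.ext rfl (map_one lam))
      map_mul' := fun a b => Subtype.ext (Prod.ext rfl (map_mul lam a b)) }
  let D : Subgroup R := j.range
  have hDcen : ∀ n ∈ D, ∀ g : R, g * n = n * g := by
    rintro n ⟨k, rfl⟩ g
    apply Subtype.ext
    apply Prod.ext
    · exact Subgroup.mem_center_iff.mp (hcen k.2) g.1.1
    · exact mul_comm _ _
  have : D.Normal := ⟨fun n hn g => by
    have h := hDcen n hn g
    rw [h, mul_inv_cancel_right]
    exact hn⟩
  let φ : R →* Γ := p.comp ((MonoidHom.fst P ℂˣ).comp R.subtype)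
  have hφ : ∀ r : R, φ r = p r.1.1 := fun r => rfl
  have hDφ : D ≤ φ.ker := by
    rintro n ⟨k, rfl⟩
    rw [MonoidHom.mem_ker, hφ]
    exact MonoidHom.mem_ker.mp k.2
  let ρ : R ⧸ D →* Γ := QuotientGroup.lift D φ hDφ
  have hρmk : ∀ r : R, ρ (QuotientGroup.mk r) = p r.1.1 := fun r => rfl
  have hπ1 : Function.Surjective ((MonoidHom.fst P ℂˣ).comp R.subtype) := by
    intro x
    obtain ⟨u, hu⟩ := hroot x
    exact ⟨⟨(x, u), (hRmem _).mpr hu⟩, rfl⟩
  have hcR : ∀ (y : P) (hy : y ∈ commutator P) (hy' : ((y, 1) : P × ℂˣ) ∈ R),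
      (⟨(y, 1), hy'⟩ : R) ∈ commutator R := by
    intro y hy hy'
    have hmap : (commutator R).map ((MonoidHom.fst P ℂˣ).comp R.subtype) = commutator P := by
      rw [commutator_def, commutator_def, Subgroup.map_commutator,
        Subgroup.map_top_of_surjective _ hπ1]
    rw [← hmap] at hy
    obtain ⟨r', hr', hr'y⟩ := Subgroup.mem_map.mp hy
    have h2 : r' ∈ ((MonoidHom.snd P ℂˣ).comp R.subtype).ker :=
      Abelianization.commutator_subset_ker _ hr'
    rw [MonoidHom.mem_ker] at h2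
    have h3 : r' = ⟨(y, 1), hy'⟩ := Subtype.ext (Prod.ext hr'y h2)
    rw [← h3]; exact hr'
  have hstem : Cfsg.IsStemExtension ρ := by
    refine ⟨?_, ?_, ?_⟩
    · intro γ
      obtain ⟨x, hx⟩ := hp γ
      obtain ⟨r, hr⟩ := hπ1 x
      refine ⟨QuotientGroup.mk r, ?_⟩
      rw [hρmk]
      have h : r.1.1 = x := hr
      rw [h, hx]
    · intro e he
      obtain ⟨r, rfl⟩ := QuotientGroup.mk_surjective e
      rw [MonoidHom.mem_ker, hρmk] at he
      have hk : r.1.1 ∈ p.ker := MonoidHom.mem_ker.mpr he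
      rw [Subgroup.mem_center_iff]
      intro e'
      obtain ⟨r', rfl⟩ := QuotientGroup.mk_surjective e'
      rw [← QuotientGroup.mk_mul, ← QuotientGroup.mk_mul]
      congr 1
      apply Subtype.ext
      apply Prod.ext
      · exact Subgroup.mem_center_iff.mp (hcen hk) r'.1.1
      · exact mul_comm _ _
    · intro e he
      obtain ⟨r, rfl⟩ := QuotientGroup.mk_surjective e
      rw [MonoidHom.mem_ker, hρmk] at he
      have hk : r.1.1 ∈ p.ker := MonoidHom.mem_ker.mpr he
      let kx : p.ker := ⟨r.1.1, hk⟩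
      have hζ : (r.1.2 * (lam kx)⁻¹) ^ d = 1 := by
        rw [mul_pow, inv_pow, ← (hRmem r.1).mp r.2, ← hχK kx]
        exact mul_inv_cancel _
      have hζI : r.1.2 * (lam kx)⁻¹ ∈ I := by
        rw [hIeq, mem_rootsOfUnity]; exact hζ
      obtain ⟨k0, hk0, hk0ζ⟩ := Subgroup.mem_map.mp hζI
      have hk0C : (k0 : P) ∈ commutator P := Subgroup.mem_subgroupOf.mp hk0
      have hcmem : (((k0 : P)⁻¹, 1) : P × ℂˣ) ∈ R := by
        rw [hRmem]
        show χ ((k0 : P)⁻¹) = 1 ^ d
        rw [one_pow, map_inv, hχK k0, inv_eq_one]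
        exact hId _ (Subgroup.mem_map_of_mem lam hk0)
      have hc := hcR _ ((commutator P).inv_mem hk0C) hcmem
      have heq : (QuotientGroup.mk (⟨((k0 : P)⁻¹, 1), hcmem⟩ : R) : R ⧸ D)
          = QuotientGroup.mk r := by
        rw [QuotientGroup.eq]
        refine MonoidHom.mem_range.mpr ⟨k0 * kx, ?_⟩
        apply Subtype.ext
        apply Prod.ext
        · show ((k0 * kx : p.ker) : P) = ((k0 : P)⁻¹)⁻¹ * r.1.1
          rw [inv_inv]; rfl
        · show lam (k0 * kx) = (1 : ℂˣ)⁻¹ * r.1.2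
          rw [map_mul, hk0ζ, inv_one, one_mul, mul_assoc, inv_mul_cancel, mul_one]
      rw [← heq]
      have hmapE : (commutator R).map (QuotientGroup.mk' D) = commutator (R ⧸ D) := by
        rw [commutator_def, commutator_def, Subgroup.map_commutator,
          Subgroup.map_top_of_surjective _ (QuotientGroup.mk'_surjective D)]
      rw [← hmapE]
      exact Subgroup.mem_map.mpr ⟨_, hc, rfl⟩
  have hζ0I : lam ⟨x0, hx0K⟩ ∈ I :=
    Subgroup.mem_map_of_mem lam (Subgroup.mem_subgroupOf.mpr hx0C)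
  have hr0 : (((1 : P), lam ⟨x0, hx0K⟩) : P × ℂˣ) ∈ R := by
    rw [hRmem]
    show χ 1 = (lam ⟨x0, hx0K⟩) ^ d
    rw [map_one, hId _ hζ0I]
  refine ⟨R ⧸ D, inferInstance, inferInstance, ρ, hstem,
    ⟨QuotientGroup.mk ⟨_, hr0⟩, ?_, ?_⟩, ?_⟩
  · intro h2
    rw [QuotientGroup.eq_one_iff] at h2
    obtain ⟨k, hk⟩ := MonoidHom.mem_range.mp h2
    have hk1 : (k : P) = 1 := congrArg (fun t : R => t.1.1) hk
    have hk2 : lam k = lam ⟨x0, hx0K⟩ := congrArg (fun t : R => t.1.2) hk
    have hk3 : k = 1 := Subtype.ext hk1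
    rw [hk3, map_one] at hk2
    exact hlam hk2.symm
  · rw [hρmk]; exact map_one p
  · intro N hN e he
    obtain ⟨r, rfl⟩ := QuotientGroup.mk_surjective e
    have hk : r.1.1 ∈ N.comap p := by
      rw [Subgroup.mem_comap]
      have h := Subgroup.mem_comap.mp he
      rw [hρmk] at h
      exact h
    have hkc := hN hk
    rw [Subgroup.mem_center_iff]
    intro e'
    obtain ⟨r', rfl⟩ := QuotientGroup.mk_surjective e'
    rw [← QuotientGroup.mk_mul, ← QuotientGroup.mk_mul]
    congr 1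
    apply Subtype.ext
    apply Prod.ext
    · exact Subgroup.mem_center_iff.mp hkc r'.1.1
    · exact mul_comm _ _

set_option maxHeartbeats 1000000 in
theorem lift_of_cap {Q : Type u} [Group Q] [Finite Q] (n : ℕ)
    (γ : Q →* (GL (Fin n) ℂ ⧸ Subgroup.center (GL (Fin n) ℂ)))
    (hcapAll : ∀ (P : Type u) [Group P] [Finite P] (p : P →* Q), Function.Surjective p →
      p.ker ≤ Subgroup.center P → (γ.ker ⊓ Subgroup.center Q).comap p ≤ Subgroup.center P →
      ∀ x ∈ p.ker, x ∈ commutator P → x = 1) :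
    ∃ ρ : Q →* GL (Fin n) ℂ,
      (QuotientGroup.mk' (Subgroup.center (GL (Fin n) ℂ))).comp ρ = γ := by
  classical
  rcases Nat.eq_zero_or_pos n with hn | hn
  · subst hn
    have hall : ∀ g : GL (Fin 0) ℂ, g = 1 := fun g => Units.ext (Subsingleton.elim _ _)
    refine ⟨1, ?_⟩
    ext q
    obtain ⟨g, hg⟩ := QuotientGroup.mk_surjective (γ q)
    rw [← hg, hall g]
    rfl
  · have hNZ : NeZero n := ⟨hn.ne'⟩
    have hNE : Nonempty (Fin n) := ⟨⟨0, hn⟩⟩
    let sc : ℂˣ →* GL (Fin n) ℂ := Matrix.GeneralLinearGroup.scalar (Fin n)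
    let mkc := QuotientGroup.mk' (Subgroup.center (GL (Fin n) ℂ))
    have hsc_cen : ∀ u : ℂˣ, sc u ∈ Subgroup.center (GL (Fin n) ℂ) := by
      intro u
      rw [Matrix.GeneralLinearGroup.center_eq_range_scalar]
      exact ⟨u, rfl⟩
    have hmk_sc : ∀ u : ℂˣ, mkc (sc u) = 1 := fun u =>
      (QuotientGroup.eq_one_iff _).mpr (hsc_cen u)
    have hsc_inj : Function.Injective sc := by
      intro u v huv
      have h1 : Matrix.scalar (Fin n) (u : ℂ) = Matrix.scalar (Fin n) (v : ℂ) := by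
        have h := congrArg Units.val huv
        exact h
      exact Units.ext (Matrix.scalar_inj.mp h1)
    have hsc_comm : ∀ (u : ℂˣ) (A : GL (Fin n) ℂ), sc u * A = A * sc u :=
      fun u A => Matrix.GeneralLinearGroup.scalar_commute u A
    have hsc_det : ∀ u : ℂˣ, Matrix.GeneralLinearGroup.det (sc u) = u ^ n := by
      intro u
      have h := Matrix.GeneralLinearGroup.det_scalar (n := Fin n) u
      rw [Fintype.card_fin] at h
      exact h
    let S : Subgroup (Q × GL (Fin n) ℂ) :=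
      { carrier := {x | mkc x.2 = γ x.1 ∧ Matrix.GeneralLinearGroup.det x.2 = 1}
        mul_mem' := by
          rintro a b ⟨ha1, ha2⟩ ⟨hb1, hb2⟩
          refine ⟨?_, ?_⟩
          · show mkc (a.2 * b.2) = γ (a.1 * b.1)
            rw [map_mul, map_mul, ha1, hb1]
          · show Matrix.GeneralLinearGroup.det (a.2 * b.2) = 1
            rw [map_mul, ha2, hb2, one_mul]
        one_mem' := by
          refine ⟨?_, ?_⟩
          · show mkc 1 = γ 1
            rw [map_one, map_one]
          · show Matrix.GeneralLinearGroup.det (1 : GL (Fin n) ℂ) = 1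
            rw [map_one]
        inv_mem' := by
          rintro a ⟨ha1, ha2⟩
          refine ⟨?_, ?_⟩
          · show mkc (a.2)⁻¹ = γ (a.1)⁻¹
            rw [map_inv, map_inv, ha1]
          · show Matrix.GeneralLinearGroup.det (a.2)⁻¹ = 1
            rw [map_inv, ha2, inv_one] }
    have hSmem : ∀ x : Q × GL (Fin n) ℂ,
        x ∈ S ↔ (mkc x.2 = γ x.1 ∧ Matrix.GeneralLinearGroup.det x.2 = 1) := fun x => Iff.rfl
    let pq : S →* Q := (MonoidHom.fst Q (GL (Fin n) ℂ)).comp S.subtype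
    have hpq : Function.Surjective pq := by
      intro q
      obtain ⟨M0, hM0⟩ := QuotientGroup.mk_surjective (γ q)
      obtain ⟨z, hz⟩ := IsAlgClosed.exists_pow_nat_eq
        (((Matrix.GeneralLinearGroup.det M0)⁻¹ : ℂˣ) : ℂ) hn
      have hz0 : z ≠ 0 := by
        rintro rfl
        rw [zero_pow hn.ne'] at hz
        exact (Units.ne_zero _) hz.symm
      let u : ℂˣ := Units.mk0 z hz0
      have hu : u ^ n = (Matrix.GeneralLinearGroup.det M0)⁻¹ := by
        apply Units.ext
        rw [Units.val_pow_eq_pow_val, Units.val_mk0, hz]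
      refine ⟨⟨(q, sc u * M0), (hSmem _).mpr ⟨?_, ?_⟩⟩, rfl⟩
      · show mkc (sc u * M0) = γ q
        rw [map_mul, hmk_sc, one_mul]
        exact hM0
      · show Matrix.GeneralLinearGroup.det (sc u * M0) = 1
        rw [map_mul, hsc_det, hu, inv_mul_cancel]
    have hZ2cen : ∀ z : S, z ∈ pq.ker → z.1.2 ∈ Subgroup.center (GL (Fin n) ℂ) := by
      intro z hz
      have h1 : z.1.1 = 1 := MonoidHom.mem_ker.mp hz
      have h2 := ((hSmem z.1).mp z.2).1
      rw [h1, map_one] at h2
      exact (QuotientGroup.eq_one_iff _).mp h2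
    have hcen : pq.ker ≤ Subgroup.center S := by
      intro z hz
      have h1 : z.1.1 = 1 := MonoidHom.mem_ker.mp hz
      have hc := Subgroup.mem_center_iff.mp (hZ2cen z hz)
      rw [Subgroup.mem_center_iff]
      intro y
      apply Subtype.ext
      apply Prod.ext
      · show y.1.1 * z.1.1 = z.1.1 * y.1.1
        rw [h1, mul_one, one_mul]
      · exact hc y.1.2
    have hex : ∀ z : pq.ker, ∃ u : ℂˣ, sc u = z.1.1.2 := by
      intro z
      have h := hZ2cen z.1 z.2
      rw [Matrix.GeneralLinearGroup.center_eq_range_scalar] at h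
      exact MonoidHom.mem_range.mp h
    let ν : pq.ker →* ℂˣ := MonoidHom.mk' (fun z => Classical.choose (hex z)) (by
      intro a b
      show Classical.choose (hex (a * b)) = Classical.choose (hex a) * Classical.choose (hex b)
      apply hsc_inj
      rw [map_mul, Classical.choose_spec (hex a), Classical.choose_spec (hex b),
        Classical.choose_spec (hex (a * b))]
      rfl)
    have hν : ∀ z : pq.ker, sc (ν z) = z.1.1.2 := fun z => Classical.choose_spec (hex z)
    have hνroot : ∀ z : pq.ker, ν z ∈ rootsOfUnity n ℂ := by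
      intro z
      rw [mem_rootsOfUnity, ← hsc_det, hν]
      exact ((hSmem z.1.1).mp z.1.2).2
    have hkerfin : Finite pq.ker := by
      apply Finite.of_injective (fun z : pq.ker => (⟨ν z, hνroot z⟩ : rootsOfUnity n ℂ))
      intro a b hab
      have h1 : ν a = ν b := by
        have h := congrArg Subtype.val hab
        exact h
      have h2 : a.1.1.2 = b.1.1.2 := by rw [← hν, ← hν, h1]
      have h3 : a.1.1.1 = b.1.1.1 := by
        have ha : a.1.1.1 = 1 := MonoidHom.mem_ker.mp a.2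
        have hb : b.1.1.1 = 1 := MonoidHom.mem_ker.mp b.2
        rw [ha, hb]
      exact Subtype.ext (Subtype.ext (Prod.ext h3 h2))
    have hSfin : Finite S :=
      (MonoidHom.finite_iff_finite_ker_range pq).mpr ⟨hkerfin, inferInstance⟩
    have hN : (γ.ker ⊓ Subgroup.center Q).comap pq ≤ Subgroup.center S := by
      intro z hz
      have hz' := Subgroup.mem_comap.mp hz
      obtain ⟨hz1, hz2⟩ := Subgroup.mem_inf.mp hz'
      have h2 := ((hSmem z.1).mp z.2).1
      have h3 : mkc z.1.2 = 1 := by rw [h2]; exact MonoidHom.mem_ker.mp hz1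
      have hc2 := Subgroup.mem_center_iff.mp ((QuotientGroup.eq_one_iff _).mp h3)
      have hc1 := Subgroup.mem_center_iff.mp hz2
      rw [Subgroup.mem_center_iff]
      intro y
      apply Subtype.ext
      apply Prod.ext
      · exact hc1 y.1.1
      · exact hc2 y.1.2
    have hcap := hcapAll (↥S) pq hpq hcen hN
    obtain ⟨r, hr⟩ := Cfsg.Agent.S3978.ext_char pq.ker (fun z hz hzC => hcap z hz hzC) ν
    let ρ' : S →* GL (Fin n) ℂ :=
      { toFun := fun x => (sc (r x))⁻¹ * x.1.2
        map_one' := by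
          show (sc (r 1))⁻¹ * (1 : GL (Fin n) ℂ) = 1
          rw [map_one, map_one, inv_one, one_mul]
        map_mul' := by
          intro x y
          show (sc (r (x * y)))⁻¹ * (x.1.2 * y.1.2)
            = ((sc (r x))⁻¹ * x.1.2) * ((sc (r y))⁻¹ * y.1.2)
          have hb : (sc (r y))⁻¹ * ((sc (r x))⁻¹ * x.1.2)
              = ((sc (r x))⁻¹ * x.1.2) * (sc (r y))⁻¹ := by
            rw [← map_inv sc (r y)]
            exact hsc_comm _ _
          calc (sc (r (x * y)))⁻¹ * (x.1.2 * y.1.2)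
              = ((sc (r y))⁻¹ * ((sc (r x))⁻¹ * x.1.2)) * y.1.2 := by
                rw [map_mul, map_mul, mul_inv_rev]; group
            _ = (((sc (r x))⁻¹ * x.1.2) * (sc (r y))⁻¹) * y.1.2 := by rw [hb]
            _ = _ := by group }
    have hρ' : ∀ x : S, ρ' x = (sc (r x))⁻¹ * x.1.2 := fun x => rfl
    have hkerρ' : pq.ker ≤ ρ'.ker := by
      intro z hz
      rw [MonoidHom.mem_ker, hρ']
      have h1 := hr ⟨z, hz⟩
      have h2 := hν ⟨z, hz⟩
      have h3 : sc (r z) = z.1.2 := (congrArg sc h1).trans h2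
      rw [h3, inv_mul_cancel]
    let ρ : Q →* GL (Fin n) ℂ := pq.liftOfSurjective hpq ⟨ρ', hkerρ'⟩
    have hρ : ∀ x : S, ρ (pq x) = ρ' x := fun x =>
      MonoidHom.liftOfRightInverse_comp_apply pq _ _ ⟨ρ', hkerρ'⟩ x
    refine ⟨ρ, ?_⟩
    ext q
    obtain ⟨x, rfl⟩ := hpq q
    show mkc (ρ (pq x)) = γ (pq x)
    rw [hρ, hρ', map_mul, map_inv, hmk_sc, inv_one, one_mul]
    exact ((hSmem x.1).mp x.2).1

/-- Let `Q` be a finite group with Schur multiplier `A`, and let `σ : Γ →* Q` be a finite stem extension whose kernel is isomorphic to `A` (a Schur covering group of `Q`). Then every homomorphism `γ` from `Q` to the quotient of `GL n ℂ` by its centre lifts along `σ`: there is a homomorphism `ρ : Γ →* GL n ℂ` which, followed by the quotient map, equals `γ ∘ σ`. -/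
theorem result {Q : Type*} [Group Q] [Finite Q] {A : Type*} [CommGroup A] (hA : Cfsg.HasSchurMultiplier Q A) {Γ : Type*} [Group Γ] [Finite Γ] (σ : Γ →* Q) (hσ : Cfsg.IsStemExtension σ) (hk : Nonempty (σ.ker ≃* A)) (n : ℕ) (γ : Q →* (GL (Fin n) ℂ ⧸ Subgroup.center (GL (Fin n) ℂ))) : ∃ ρ : Γ →* GL (Fin n) ℂ, (QuotientGroup.mk' (Subgroup.center (GL (Fin n) ℂ))).comp ρ = γ.comp σ := by
  obtain ⟨hσs, hσc, hσd⟩ := hσ
  obtain ⟨ek⟩ := hk
  apply lift_of_cap n (γ.comp σ)
  intro P _ _ p hp hpc hN x hxK hxC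
  by_contra hx
  obtain ⟨E, _, _, ρ, hρstem, ⟨e, he1, he2⟩, hρN⟩ := stem_construct p hp hpc x hxK hxC hx
  obtain ⟨hρs, hρc, hρd⟩ := hρstem
  have hkerσ_le : σ.ker ≤ (γ.comp σ).ker ⊓ Subgroup.center Γ := by
    intro g hg
    refine Subgroup.mem_inf.mpr ⟨?_, hσc hg⟩
    rw [MonoidHom.mem_ker, MonoidHom.comp_apply, MonoidHom.mem_ker.mp hg, map_one]
  have hcenE : (σ.comp ρ).ker ≤ Subgroup.center E := by
    intro y hy
    apply hρN _ hN
    rw [Subgroup.mem_comap]
    exact hkerσ_le (MonoidHom.mem_ker.mpr (MonoidHom.mem_ker.mp hy))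
  have hmapρ : (commutator E).map ρ = commutator Γ := by
    rw [commutator_def, commutator_def, Subgroup.map_commutator,
      Subgroup.map_top_of_surjective _ hρs]
  have hstem2 : Cfsg.IsStemExtension (σ.comp ρ) := by
    refine ⟨hσs.comp hρs, hcenE, ?_⟩
    intro y hy
    have hk : ρ y ∈ σ.ker := MonoidHom.mem_ker.mpr (MonoidHom.mem_ker.mp hy)
    have hkc : ρ y ∈ commutator Γ := hσd hk
    rw [← hmapρ] at hkc
    obtain ⟨c, hc, hcy⟩ := Subgroup.mem_map.mp hkc
    have hk2 : c⁻¹ * y ∈ ρ.ker := by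
      rw [MonoidHom.mem_ker, map_mul, map_inv, hcy, inv_mul_cancel]
    have h := (commutator E).mul_mem hc (hρd hk2)
    rwa [mul_inv_cancel_left] at h
  obtain ⟨π, hπ⟩ := stem_any hA E (σ.comp ρ) hstem2
  let κ : (σ.comp ρ).ker →* σ.ker :=
    (ρ.comp (σ.comp ρ).ker.subtype).codRestrict σ.ker
      (fun y => MonoidHom.mem_ker.mpr (MonoidHom.mem_ker.mp y.2))
  let φ : (σ.comp ρ).ker → (σ.comp ρ).ker := fun y => π (ek (κ y))
  have hκs : Function.Surjective κ := by
    rintro ⟨g, hg⟩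
    obtain ⟨y, hy⟩ := hρs g
    refine ⟨⟨y, ?_⟩, Subtype.ext hy⟩
    rw [MonoidHom.mem_ker, MonoidHom.comp_apply, hy]; exact MonoidHom.mem_ker.mp hg
  have hφs : Function.Surjective φ := hπ.comp (ek.surjective.comp hκs)
  have hφi : Function.Injective φ := Finite.injective_iff_surjective.mpr hφs
  have he_mem : e ∈ (σ.comp ρ).ker := by
    rw [MonoidHom.mem_ker, MonoidHom.comp_apply, he2, map_one]
  have h1 : φ ⟨e, he_mem⟩ = φ 1 := by
    show π (ek (κ ⟨e, he_mem⟩)) = π (ek (κ 1))
    have h : κ ⟨e, he_mem⟩ = 1 := Subtype.ext he2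
    rw [h]
    simp only [map_one]
  have h2 := hφi h1
  exact he1 (congrArg Subtype.val h2)

end Cfsg.Agent.S3955
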