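import Cfsg.Statements.S3954
import Mathlib
import Cfsg.Agent.S3958
import Cfsg.Agent.S3978
import Cfsg.Agent.S3955

set_option autoImplicit false
open Cfsg

namespace Cfsg.Agent.S3954

universe u v w w'

theorem schur_cap {Q : Type u} [Group Q] {A : Type v} [CommGroup A]
    (hA : Cfsg.HasSchurMultiplier Q A) {Γ : Type w} [Group Γ] (σ : Γ →* Q)
    (hσ : Cfsg.IsStemExtension σ) (ek : σ.ker ≃* A)
    {P : Type w'} [Group P] [Finite P] (p : P →* Γ) (hp : Function.Surjective p)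
    (hpc : p.ker ≤ Subgroup.center P) (hN : σ.ker.comap p ≤ Subgroup.center P)
    (x : P) (hxK : x ∈ p.ker) (hxC : x ∈ commutator P) : x = 1 := by
  obtain ⟨hσs, hσc, hσd⟩ := hσ
  by_contra hx
  obtain ⟨E, _, _, ρ, hρstem, ⟨e, he1, he2⟩, hρN⟩ := Cfsg.Agent.S3955.stem_construct p hp hpc x hxK hxC hx
  obtain ⟨hρs, hρc, hρd⟩ := hρstem
  have hcenE : (σ.comp ρ).ker ≤ Subgroup.center E := by
    intro y hy
    apply hρN σ.ker hN
    rw [Subgroup.mem_comap]
    exact MonoidHom.mem_ker.mpr (MonoidHom.mem_ker.mp hy)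
  have hmapρ : (commutator E).map ρ = commutator Γ := by
    rw [commutator_def, commutator_def, Subgroup.map_commutator,
      Subgroup.map_top_of_surjective _ hρs]
  have hstem2 : Cfsg.IsStemExtension (σ.comp ρ) := by
    refine ⟨hσs.comp hρs, hcenE, ?_⟩
    intro y hy
    have hk : ρ y ∈ σ.ker := MonoidHom.mem_ker.mpr (MonoidHom.mem_ker.mp hy)
    have hkc : ρ y ∈ commutator Γ := hσd hk
    rw [← hmapρ] at hkc
    obtain ⟨c, hc, hcy⟩ := Subgroup.mem_map.mp hkc
    have hk2 : c⁻¹ * y ∈ ρ.ker := by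
      rw [MonoidHom.mem_ker, map_mul, map_inv, hcy, inv_mul_cancel]
    have h := (commutator E).mul_mem hc (hρd hk2)
    rwa [mul_inv_cancel_left] at h
  obtain ⟨π, hπ⟩ := Cfsg.Agent.S3955.stem_any hA E (σ.comp ρ) hstem2
  let κ : (σ.comp ρ).ker →* σ.ker :=
    (ρ.comp (σ.comp ρ).ker.subtype).codRestrict σ.ker
      (fun y => MonoidHom.mem_ker.mpr (MonoidHom.mem_ker.mp y.2))
  let φ : (σ.comp ρ).ker → (σ.comp ρ).ker := fun y => π (ek (κ y))
  have hκs : Function.Surjective κ := by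
    rintro ⟨g, hg⟩
    obtain ⟨y, hy⟩ := hρs g
    refine ⟨⟨y, ?_⟩, Subtype.ext hy⟩
    rw [MonoidHom.mem_ker, MonoidHom.comp_apply, hy]; exact MonoidHom.mem_ker.mp hg
  have hφs : Function.Surjective φ := hπ.comp (ek.surjective.comp hκs)
  have hφi : Function.Injective φ := Finite.injective_iff_surjective.mpr hφs
  have he_mem : e ∈ (σ.comp ρ).ker := by
    rw [MonoidHom.mem_ker, MonoidHom.comp_apply, he2, map_one]
  have h1 : φ ⟨e, he_mem⟩ = φ 1 := by
    show π (ek (κ ⟨e, he_mem⟩)) = π (ek (κ 1))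
    have h : κ ⟨e, he_mem⟩ = 1 := Subtype.ext he2
    rw [h]
    simp only [map_one]
  have h2 := hφi h1
  exact he1 (congrArg Subtype.val h2)

theorem gl_image {Q : Type u} [Group Q] {A : Type v} [CommGroup A]
    (hA : Cfsg.HasSchurMultiplier Q A) {Δ : Type w} [Group Δ] [Finite Δ] (τ : Δ →* Q)
    (hτs : Function.Surjective τ) (hτc : τ.ker ≤ Subgroup.center Δ) :
    ∃ π : A →* ↥(τ.ker ⊓ commutator Δ), Function.Surjective π := by
  have hA' := hA
  obtain ⟨⟨Γ, hGg, hGf, σ, hσ, ⟨ek⟩⟩, -⟩ := hA'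
  have hσ' := hσ
  obtain ⟨hσs, hσc, hσd⟩ := hσ'
  let P : Subgroup (Γ × Δ) :=
    { carrier := {x | σ x.1 = τ x.2}
      mul_mem' := by
        intro a b ha hb
        simp only [Set.mem_ofPred_eq] at ha hb ⊢
        rw [Prod.fst_mul, Prod.snd_mul, map_mul, map_mul, ha, hb]
      one_mem' := by simp
      inv_mem' := by
        intro a ha
        simp only [Set.mem_ofPred_eq] at ha ⊢
        rw [Prod.fst_inv, Prod.snd_inv, map_inv, map_inv, ha] }
  have hPmem : ∀ x : Γ × Δ, x ∈ P ↔ σ x.1 = τ x.2 := fun x => Iff.rfl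
  let p1 : P →* Γ := (MonoidHom.fst Γ Δ).comp P.subtype
  let p2 : P →* Δ := (MonoidHom.snd Γ Δ).comp P.subtype
  have hp1a : ∀ x : P, p1 x = x.1.1 := fun x => rfl
  have hp2a : ∀ x : P, p2 x = x.1.2 := fun x => rfl
  have hp1 : Function.Surjective p1 := by
    intro g
    obtain ⟨d, hd⟩ := hτs (σ g)
    exact ⟨⟨(g, d), (hPmem _).mpr hd.symm⟩, rfl⟩
  have hp2 : Function.Surjective p2 := by
    intro d
    obtain ⟨g, hg⟩ := hσs (τ d)
    exact ⟨⟨(g, d), (hPmem _).mpr hg⟩, rfl⟩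
  have hcen1 : p1.ker ≤ Subgroup.center P := by
    intro x hx
    rw [MonoidHom.mem_ker, hp1a] at hx
    have hx2 : x.1.2 ∈ τ.ker := by
      rw [MonoidHom.mem_ker, ← (hPmem x.1).mp x.2, hx, map_one]
    have hc := Subgroup.mem_center_iff.mp (hτc hx2)
    rw [Subgroup.mem_center_iff]
    intro y
    apply Subtype.ext
    apply Prod.ext
    · show y.1.1 * x.1.1 = x.1.1 * y.1.1
      rw [hx, mul_one, one_mul]
    · exact hc y.1.2
  have hN : σ.ker.comap p1 ≤ Subgroup.center P := by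
    intro x hx
    have hx1 : x.1.1 ∈ σ.ker := Subgroup.mem_comap.mp hx
    have hx2 : x.1.2 ∈ τ.ker := by
      rw [MonoidHom.mem_ker, ← (hPmem x.1).mp x.2]; exact MonoidHom.mem_ker.mp hx1
    have hc1 := Subgroup.mem_center_iff.mp (hσc hx1)
    have hc2 := Subgroup.mem_center_iff.mp (hτc hx2)
    rw [Subgroup.mem_center_iff]
    intro y
    apply Subtype.ext
    apply Prod.ext
    · exact hc1 y.1.1
    · exact hc2 y.1.2
  have hL := schur_cap hA σ hσ ek p1 hp1 hcen1 hN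
  have hmap1 : (commutator P).map p1 = commutator Γ := by
    rw [commutator_def, commutator_def, Subgroup.map_commutator,
      Subgroup.map_top_of_surjective _ hp1]
  have hmap2 : (commutator P).map p2 = commutator Δ := by
    rw [commutator_def, commutator_def, Subgroup.map_commutator,
      Subgroup.map_top_of_surjective _ hp2]
  let M : Subgroup P := commutator P ⊓ (σ.comp p1).ker
  have hM1 : ∀ m : M, p1 m.1 ∈ σ.ker := fun m =>
    MonoidHom.mem_ker.mpr (MonoidHom.mem_ker.mp (Subgroup.mem_inf.mp m.2).2)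
  have hM2 : ∀ m : M, p2 m.1 ∈ τ.ker ⊓ commutator Δ := fun m => by
    refine Subgroup.mem_inf.mpr ⟨?_, ?_⟩
    · rw [MonoidHom.mem_ker, hp2a, ← (hPmem m.1.1).mp m.1.2]
      exact MonoidHom.mem_ker.mp (Subgroup.mem_inf.mp m.2).2
    · rw [← hmap2]
      exact Subgroup.mem_map_of_mem p2 (Subgroup.mem_inf.mp m.2).1
  let f1 : M →* σ.ker := (p1.comp M.subtype).codRestrict σ.ker hM1
  let f2 : M →* ↥(τ.ker ⊓ commutator Δ) := (p2.comp M.subtype).codRestrict _ hM2
  have hf1inj : Function.Injective f1 := by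
    rw [injective_iff_map_eq_one]
    intro m hm
    have h1 : p1 m.1 = 1 := congrArg Subtype.val hm
    have h2 := hL m.1 (MonoidHom.mem_ker.mpr h1) (Subgroup.mem_inf.mp m.2).1
    exact Subtype.ext h2
  have hf1surj : Function.Surjective f1 := by
    rintro ⟨g, hg⟩
    have hgc : g ∈ commutator Γ := hσd hg
    rw [← hmap1] at hgc
    obtain ⟨c, hc, hcg⟩ := Subgroup.mem_map.mp hgc
    have hcM : c ∈ M := Subgroup.mem_inf.mpr ⟨hc, by
      rw [MonoidHom.mem_ker, MonoidHom.comp_apply, hcg]; exact MonoidHom.mem_ker.mp hg⟩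
    exact ⟨⟨c, hcM⟩, Subtype.ext hcg⟩
  have hf2surj : Function.Surjective f2 := by
    rintro ⟨d, hd⟩
    obtain ⟨hd1, hd2⟩ := Subgroup.mem_inf.mp hd
    have hdc : d ∈ commutator Δ := hd2
    rw [← hmap2] at hdc
    obtain ⟨c, hc, hcd⟩ := Subgroup.mem_map.mp hdc
    have hcM : c ∈ M := Subgroup.mem_inf.mpr ⟨hc, by
      rw [MonoidHom.mem_ker, MonoidHom.comp_apply, hp1a, (hPmem c.1).mp c.2, ← hp2a, hcd]
      exact MonoidHom.mem_ker.mp hd1⟩
    exact ⟨⟨c, hcM⟩, Subtype.ext hcd⟩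
  let e1 : M ≃* σ.ker := MulEquiv.ofBijective f1 ⟨hf1inj, hf1surj⟩
  exact ⟨(f2.comp e1.symm.toMonoidHom).comp ek.symm.toMonoidHom,
    (hf2surj.comp e1.symm.surjective).comp ek.symm.surjective⟩

/-- Let `U` be a subgroup of index `m` in the finite group `G`, let `A` be the Schur multiplier of `G` and `B` that of `U`. Then the subgroup of `m`-th powers of `A` is isomorphic to a subgroup of `B`. -/
theorem result {G : Type*} [Group G] [Finite G] (U : Subgroup G) {A B : Type*} [CommGroup A] [CommGroup B] (hA : Cfsg.HasSchurMultiplier G A) (hB : Cfsg.HasSchurMultiplier U B) : ∃ C : Subgroup B, Nonempty ((powMonoidHom U.index : A →* A).range ≃* C) := by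
  classical
  have hA' := hA
  obtain ⟨⟨Γ, hGg, hGf, σ, hσ, ⟨ek⟩⟩, -⟩ := hA'
  obtain ⟨hσs, hσc, hσd⟩ := hσ
  have hBfin : Finite B := by
    have hB' := hB
    obtain ⟨⟨Γb, _, _, σb, -, ⟨ekb⟩⟩, -⟩ := hB'
    exact Finite.of_equiv _ ekb.toEquiv
  let ΓU : Subgroup Γ := U.comap σ
  let θ : ΓU →* U := (σ.comp ΓU.subtype).codRestrict U (fun x => x.2)
  have hθs : Function.Surjective θ := by
    rintro ⟨g, hg⟩
    obtain ⟨y, hy⟩ := hσs g
    exact ⟨⟨y, by rw [Subgroup.mem_comap, hy]; exact hg⟩, Subtype.ext hy⟩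
  have hθker : ∀ x : ΓU, x ∈ θ.ker ↔ σ x.1 = 1 := by
    intro x
    rw [MonoidHom.mem_ker]
    constructor
    · intro h
      have h' := congrArg Subtype.val h
      exact h'
    · intro h; exact Subtype.ext h
  have hθc : θ.ker ≤ Subgroup.center ΓU := by
    intro x hx
    have h1 : x.1 ∈ σ.ker := MonoidHom.mem_ker.mpr ((hθker x).mp hx)
    have hc := Subgroup.mem_center_iff.mp (hσc h1)
    rw [Subgroup.mem_center_iff]
    intro y
    exact Subtype.ext (hc y.1)
  obtain ⟨πB, hπB⟩ := gl_image hB θ hθs hθc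
  have hidx : ΓU.index = U.index := Subgroup.index_comap_of_surjective U hσs
  have hFI : ΓU.FiniteIndex := ⟨Subgroup.index_ne_zero_of_finite⟩
  have hpow1 : ∀ a : Γ, a ∈ σ.ker → a ^ ΓU.index ∈ ΓU := by
    intro a ha
    rw [Subgroup.mem_comap, map_pow, MonoidHom.mem_ker.mp ha, one_pow]
    exact U.one_mem
  have hpow2 : ∀ (a : Γ) (ha : a ∈ σ.ker),
      (⟨a ^ ΓU.index, hpow1 a ha⟩ : ΓU) ∈ commutator ΓU := by
    intro a ha
    let ϕ : ΓU →* Abelianization ΓU := Abelianization.of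
    have key : ∀ (k : ℕ) (g₀ : Γ), g₀⁻¹ * a ^ k * g₀ ∈ ΓU → g₀⁻¹ * a ^ k * g₀ = a ^ k := by
      intro k g₀ _
      have hc : g₀ * a ^ k = a ^ k * g₀ :=
        Subgroup.mem_center_iff.mp ((Subgroup.center Γ).pow_mem (hσc ha) k) g₀
      rw [mul_assoc, ← hc, inv_mul_cancel_left]
    have h1 := MonoidHom.transfer_eq_pow ϕ a key
    have h2 : MonoidHom.transfer ϕ a = 1 :=
      MonoidHom.mem_ker.mp
        (Abelianization.commutator_subset_ker (MonoidHom.transfer ϕ) (hσd ha))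
    rw [h2] at h1
    have h3 : ((⟨a ^ ΓU.index, hpow1 a ha⟩ : ΓU) : ΓU ⧸ commutator ΓU) = 1 := h1.symm
    exact (QuotientGroup.eq_one_iff _).mp h3
  let X : Subgroup ΓU := θ.ker ⊓ commutator ΓU
  have hJmem : ∀ a : A, (⟨((ek.symm a : σ.ker) : Γ) ^ ΓU.index,
      hpow1 _ (ek.symm a).2⟩ : ΓU) ∈ X := by
    intro a
    refine Subgroup.mem_inf.mpr ⟨?_, hpow2 _ (ek.symm a).2⟩
    rw [hθker]
    show σ (((ek.symm a : σ.ker) : Γ) ^ ΓU.index) = 1
    rw [map_pow, MonoidHom.mem_ker.mp (ek.symm a).2, one_pow]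
  let J : A →* X := MonoidHom.mk'
    (fun a => ⟨⟨((ek.symm a : σ.ker) : Γ) ^ ΓU.index, hpow1 _ (ek.symm a).2⟩, hJmem a⟩) (by
      intro a b
      apply Subtype.ext
      apply Subtype.ext
      show ((ek.symm (a * b) : σ.ker) : Γ) ^ ΓU.index
        = ((ek.symm a : σ.ker) : Γ) ^ ΓU.index * ((ek.symm b : σ.ker) : Γ) ^ ΓU.index
      rw [map_mul, Subgroup.coe_mul]
      have hcm : Commute ((ek.symm a : σ.ker) : Γ) ((ek.symm b : σ.ker) : Γ) :=
        (Subgroup.mem_center_iff.mp (hσc (ek.symm b).2) _)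
      exact hcm.mul_pow _)
  have hJ1 : ∀ a : A, J a = 1 ↔ a ^ U.index = 1 := by
    intro a
    constructor
    · intro h
      have h1 : ((ek.symm a : σ.ker) : Γ) ^ ΓU.index = 1 :=
        congrArg (fun t : X => ((t : ΓU) : Γ)) h
      have h2 : (ek.symm a) ^ ΓU.index = 1 := Subtype.ext h1
      rw [← map_pow, hidx] at h2
      have h3 := (MulEquiv.map_eq_one_iff ek.symm).mp h2
      exact h3
    · intro h
      apply Subtype.ext
      apply Subtype.ext
      show ((ek.symm a : σ.ker) : Γ) ^ ΓU.index = 1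
      rw [hidx, ← Subgroup.coe_pow, ← map_pow, h, map_one]
      rfl
  let hXc : CommGroup X :=
    { (inferInstance : Group X) with
      mul_comm := fun a b => Subtype.ext
        (Subgroup.mem_center_iff.mp (hθc (Subgroup.mem_inf.mp b.2).1) a.1) }
  have hrX := Cfsg.Agent.S3958.enough_roots X
  have hrB := Cfsg.Agent.S3958.enough_roots B
  obtain ⟨eX⟩ := CommGroup.monoidHom_mulEquiv_of_hasEnoughRootsOfUnity X ℂ
  obtain ⟨eB⟩ := CommGroup.monoidHom_mulEquiv_of_hasEnoughRootsOfUnity B ℂ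
  let dual : (X →* ℂˣ) →* (B →* ℂˣ) := MonoidHom.compHom' πB
  have hdual : Function.Injective dual := by
    intro χ χ' h
    ext x
    obtain ⟨b, rfl⟩ := hπB x
    have h' := DFunLike.congr_fun h b
    exact congrArg Units.val h'
  let ι : X →* B := eB.toMonoidHom.comp (dual.comp eX.symm.toMonoidHom)
  have hι : Function.Injective ι := eB.injective.comp (hdual.comp eX.symm.injective)
  let F : A →* B := ι.comp J
  have hker : (powMonoidHom U.index : A →* A).ker = F.ker := by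
    ext a
    rw [MonoidHom.mem_ker, MonoidHom.mem_ker, powMonoidHom_apply]
    constructor
    · intro h
      show ι (J a) = 1
      rw [(hJ1 a).mpr h, map_one]
    · intro h
      have h1 : ι (J a) = ι 1 := by rw [map_one]; exact h
      exact (hJ1 a).mp (hι h1)
  refine ⟨F.range, ⟨?_⟩⟩
  exact (QuotientGroup.quotientKerEquivRange (powMonoidHom U.index : A →* A)).symm.trans
    ((QuotientGroup.quotientMulEquivOfEq hker).trans (QuotientGroup.quotientKerEquivRange F))

end Cfsg.Agent.S3954
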