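import Cfsg.Statements.S3957
import Mathlib
import Cfsg.Agent.S3955

set_option autoImplicit false
universe u v
open Cfsg

namespace Cfsg.Agent.S3957


theorem enlarge {Q : Type u} [Group Q] {Γ : Type u} [Group Γ] [Finite Γ] (σ : Γ →* Q)
    (hσ : Cfsg.IsStemExtension σ) {Δ : Type u} [Group Δ] [Finite Δ] (τ : Δ →* Q)
    (hτ : Cfsg.IsStemExtension τ) (hlt : Nat.card τ.ker < Nat.card σ.ker) :
    ∃ (E' : Type u) (_ : Group E') (_ : Finite E') (ρ : E' →* Δ), Function.Surjective ρ ∧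
      Cfsg.IsStemExtension (τ.comp ρ) ∧ Nat.card τ.ker < Nat.card (τ.comp ρ).ker := by
  classical
  obtain ⟨hσs, hσc, hσd⟩ := hσ
  obtain ⟨hτs, hτc, hτd⟩ := hτ
  let P : Subgroup (Γ × Δ) :=
    { carrier := {x | σ x.1 = τ x.2}
      mul_mem' := by
        intro a b ha hb
        simp only [Set.mem_ofPred_eq] at ha hb ⊢
        rw [Prod.fst_mul, Prod.snd_mul, map_mul, map_mul, ha, hb]
      one_mem' := by simp
      inv_mem' := by
        intro a ha
        simp only [Set.mem_ofPred_eq] at ha ⊢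
        rw [Prod.fst_inv, Prod.snd_inv, map_inv, map_inv, ha] }
  have hPmem : ∀ x : Γ × Δ, x ∈ P ↔ σ x.1 = τ x.2 := fun x => Iff.rfl
  let p1 : P →* Γ := (MonoidHom.fst Γ Δ).comp P.subtype
  let p2 : P →* Δ := (MonoidHom.snd Γ Δ).comp P.subtype
  have hp1a : ∀ x : P, p1 x = x.1.1 := fun x => rfl
  have hp2a : ∀ x : P, p2 x = x.1.2 := fun x => rfl
  have hp1 : Function.Surjective p1 := by
    intro g
    obtain ⟨d, hd⟩ := hτs (σ g)
    exact ⟨⟨(g, d), (hPmem _).mpr hd.symm⟩, rfl⟩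
  have hp2 : Function.Surjective p2 := by
    intro d
    obtain ⟨g, hg⟩ := hσs (τ d)
    exact ⟨⟨(g, d), (hPmem _).mpr hg⟩, rfl⟩
  have hcen1 : p1.ker ≤ Subgroup.center P := by
    intro x hx
    rw [MonoidHom.mem_ker, hp1a] at hx
    have hx2 : x.1.2 ∈ τ.ker := by
      rw [MonoidHom.mem_ker, ← (hPmem x.1).mp x.2, hx, map_one]
    have hc := Subgroup.mem_center_iff.mp (hτc hx2)
    rw [Subgroup.mem_center_iff]
    intro y
    apply Subtype.ext
    apply Prod.ext
    · show y.1.1 * x.1.1 = x.1.1 * y.1.1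
      rw [hx, mul_one, one_mul]
    · exact hc y.1.2
  have hcen2 : p2.ker ≤ Subgroup.center P := by
    intro x hx
    rw [MonoidHom.mem_ker, hp2a] at hx
    have hx1 : x.1.1 ∈ σ.ker := by
      rw [MonoidHom.mem_ker, (hPmem x.1).mp x.2, hx, map_one]
    have hc := Subgroup.mem_center_iff.mp (hσc hx1)
    rw [Subgroup.mem_center_iff]
    intro y
    apply Subtype.ext
    apply Prod.ext
    · exact hc y.1.1
    · show y.1.2 * x.1.2 = x.1.2 * y.1.2
      rw [hx, mul_one, one_mul]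
  have hmap1 : (commutator P).map p1 = commutator Γ := by
    rw [commutator_def, commutator_def, Subgroup.map_commutator,
      Subgroup.map_top_of_surjective _ hp1]
  have hmap2 : (commutator P).map p2 = commutator Δ := by
    rw [commutator_def, commutator_def, Subgroup.map_commutator,
      Subgroup.map_top_of_surjective _ hp2]
  let M : Subgroup P := commutator P ⊓ (σ.comp p1).ker
  have hM1 : ∀ m : M, p1 m.1 ∈ σ.ker := fun m =>
    MonoidHom.mem_ker.mpr (MonoidHom.mem_ker.mp (Subgroup.mem_inf.mp m.2).2)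
  have hM2 : ∀ m : M, p2 m.1 ∈ τ.ker := fun m => by
    rw [MonoidHom.mem_ker, hp2a, ← (hPmem m.1.1).mp m.1.2]
    exact MonoidHom.mem_ker.mp (Subgroup.mem_inf.mp m.2).2
  let f1 : M →* σ.ker := (p1.comp M.subtype).codRestrict σ.ker hM1
  let f2 : M →* τ.ker := (p2.comp M.subtype).codRestrict τ.ker hM2
  have hf1surj : Function.Surjective f1 := by
    rintro ⟨g, hg⟩
    have hgc : g ∈ commutator Γ := hσd hg
    rw [← hmap1] at hgc
    obtain ⟨c, hc, hcg⟩ := Subgroup.mem_map.mp hgc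
    have hcM : c ∈ M := Subgroup.mem_inf.mpr ⟨hc, by
      rw [MonoidHom.mem_ker, MonoidHom.comp_apply, hcg]; exact MonoidHom.mem_ker.mp hg⟩
    exact ⟨⟨c, hcM⟩, Subtype.ext hcg⟩
  by_cases hcap2 : ∀ x ∈ p2.ker, x ∈ commutator P → x = 1
  · exfalso
    have hf2inj : Function.Injective f2 := by
      rw [injective_iff_map_eq_one]
      intro m hm
      have h1 : p2 m.1 = 1 := congrArg Subtype.val hm
      have h2 := hcap2 m.1 (MonoidHom.mem_ker.mpr h1) (Subgroup.mem_inf.mp m.2).1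
      exact Subtype.ext h2
    have h1 := Nat.card_le_card_of_surjective f1 hf1surj
    have h2 := Nat.card_le_card_of_injective f2 hf2inj
    omega
  · push_neg at hcap2
    obtain ⟨x0, hx0K, hx0C, hx0⟩ := hcap2
    obtain ⟨E', hE'g, hE'f, ρ, hρstem, ⟨e, he1, he2⟩, hρN⟩ :=
      Cfsg.Agent.S3955.stem_construct p2 hp2 hcen2 x0 hx0K hx0C hx0
    obtain ⟨hρs, hρc, hρd⟩ := hρstem
    have hN : τ.ker.comap p2 ≤ Subgroup.center P := by
      intro x hx
      have hx2 : x.1.2 ∈ τ.ker := Subgroup.mem_comap.mp hx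
      have hx1 : x.1.1 ∈ σ.ker := by
        rw [MonoidHom.mem_ker, (hPmem x.1).mp x.2]; exact MonoidHom.mem_ker.mp hx2
      have hc1 := Subgroup.mem_center_iff.mp (hσc hx1)
      have hc2 := Subgroup.mem_center_iff.mp (hτc hx2)
      rw [Subgroup.mem_center_iff]
      intro y
      apply Subtype.ext
      apply Prod.ext
      · exact hc1 y.1.1
      · exact hc2 y.1.2
    have hcenE : (τ.comp ρ).ker ≤ Subgroup.center E' := by
      intro y hy
      apply hρN τ.ker hN
      rw [Subgroup.mem_comap]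
      exact MonoidHom.mem_ker.mpr (MonoidHom.mem_ker.mp hy)
    have hmapρ : (commutator E').map ρ = commutator Δ := by
      rw [commutator_def, commutator_def, Subgroup.map_commutator,
        Subgroup.map_top_of_surjective _ hρs]
    have hstem2 : Cfsg.IsStemExtension (τ.comp ρ) := by
      refine ⟨hτs.comp hρs, hcenE, ?_⟩
      intro y hy
      have hk : ρ y ∈ τ.ker := MonoidHom.mem_ker.mpr (MonoidHom.mem_ker.mp hy)
      have hkc : ρ y ∈ commutator Δ := hτd hk
      rw [← hmapρ] at hkc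
      obtain ⟨c, hc, hcy⟩ := Subgroup.mem_map.mp hkc
      have hk2 : c⁻¹ * y ∈ ρ.ker := by
        rw [MonoidHom.mem_ker, map_mul, map_inv, hcy, inv_mul_cancel]
      have h := (commutator E').mul_mem hc (hρd hk2)
      rwa [mul_inv_cancel_left] at h
    refine ⟨E', hE'g, hE'f, ρ, hρs, hstem2, ?_⟩
    let κ : (τ.comp ρ).ker → τ.ker := fun y =>
      ⟨ρ y.1, MonoidHom.mem_ker.mpr (MonoidHom.mem_ker.mp y.2)⟩
    have hκs : Function.Surjective κ := by
      rintro ⟨g, hg⟩
      obtain ⟨y, hy⟩ := hρs g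
      refine ⟨⟨y, ?_⟩, Subtype.ext hy⟩
      rw [MonoidHom.mem_ker, MonoidHom.comp_apply, hy]; exact MonoidHom.mem_ker.mp hg
    have hκni : ¬ Function.Injective κ := by
      intro hinj
      have hem : e ∈ (τ.comp ρ).ker := by
        rw [MonoidHom.mem_ker, MonoidHom.comp_apply, he2, map_one]
      have h1 : κ ⟨e, hem⟩ = κ 1 := by
        apply Subtype.ext
        show ρ e = ρ 1
        rw [he2, map_one]
      exact he1 (congrArg Subtype.val (hinj h1))
    have hF1 := Fintype.ofFinite (τ.comp ρ).ker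
    have hF2 := Fintype.ofFinite τ.ker
    have hlt2 := Fintype.card_lt_of_surjective_not_injective κ hκs hκni
    rw [← Nat.card_eq_fintype_card, ← Nat.card_eq_fintype_card] at hlt2
    exact hlt2

/-- Let `Q` be a finite group with Schur multiplier `A` and let `τ : Δ →* Q` be a finite stem extension, `Δ` in the universe of `Q`. Then there is a finite stem extension `σ : Γ →* Q` with kernel isomorphic to `A` (a Schur covering group) and a surjective homomorphism `β : Γ →* Δ` with `τ ∘ β = σ`. -/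
theorem result {Q : Type u} [Group Q] [Finite Q] {A : Type v} [CommGroup A] (hA : Cfsg.HasSchurMultiplier Q A) {Δ : Type u} [Group Δ] [Finite Δ] (τ : Δ →* Q) (hτ : Cfsg.IsStemExtension τ) : ∃ (Γ : Type u) (_ : Group Γ) (_ : Finite Γ) (σ : Γ →* Q), Cfsg.IsStemExtension σ ∧ Nonempty (σ.ker ≃* A) ∧ ∃ β : Γ →* Δ, Function.Surjective β ∧ τ.comp β = σ := by
  classical
  have hA' := hA
  obtain ⟨⟨Γ₀, hG0, hF0, σ₀, hσ₀, ⟨ek₀⟩⟩, hA2⟩ := hA'
  have hAfin : Finite A := Finite.of_equiv _ ek₀.toEquiv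
  let S : Set ℕ := {n | ∃ (E : Type u) (_ : Group E) (_ : Finite E) (σE : E →* Q)
      (β : E →* Δ), Cfsg.IsStemExtension σE ∧ Function.Surjective β ∧ τ.comp β = σE ∧
        Nat.card σE.ker = n}
  have hSne : S.Nonempty := ⟨Nat.card τ.ker, Δ, inferInstance, inferInstance, τ,
    MonoidHom.id Δ, hτ, Function.surjective_id, MonoidHom.comp_id τ, rfl⟩
  have hSbdd : BddAbove S := by
    refine ⟨Nat.card A, ?_⟩
    rintro n ⟨E, _, _, σE, β, hst, -, -, rfl⟩
    obtain ⟨π, hπ⟩ := hA2 E σE hst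
    exact Nat.card_le_card_of_surjective π hπ
  obtain ⟨E, hEg, hEf, σE, β, hst, hβs, hβ, hcard⟩ := Nat.sSup_mem hSne hSbdd
  have hmax : ∀ n ∈ S, n ≤ Nat.card σE.ker := by
    intro n hn; rw [hcard]; exact le_csSup hSbdd hn
  obtain ⟨π, hπ⟩ := hA2 E σE hst
  have hle : Nat.card σE.ker ≤ Nat.card A := Nat.card_le_card_of_surjective π hπ
  have hge : Nat.card A ≤ Nat.card σE.ker := by
    by_contra hlt
    push_neg at hlt
    have hlt' : Nat.card σE.ker < Nat.card σ₀.ker := by
      rw [Nat.card_congr ek₀.toEquiv]; exact hlt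
    obtain ⟨E', hE'g, hE'f, ρ, hρs, hstem2, hlt2⟩ := enlarge σ₀ hσ₀ σE hst hlt'
    have hmem : Nat.card (σE.comp ρ).ker ∈ S := by
      refine ⟨E', hE'g, hE'f, σE.comp ρ, β.comp ρ, hstem2, hβs.comp hρs, ?_, rfl⟩
      rw [← MonoidHom.comp_assoc, hβ]
    have h := hmax _ hmem
    omega
  have hbij : Function.Bijective π :=
    Function.Surjective.bijective_of_nat_card_le hπ hge
  refine ⟨E, hEg, hEf, σE, hst, ⟨(MulEquiv.ofBijective π hbij).symm⟩, β, hβs, hβ⟩

end Cfsg.Agent.S3957
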