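import Cfsg.Statements.S3961
import Mathlib
import Cfsg.Agent.S3958

set_option autoImplicit false
universe u v
open Cfsg

namespace Cfsg.Agent.S3961

open scoped commutatorElement

theorem comm_left {P : Type*} [Group P] (a b k : P) (hk : ∀ g : P, g * k = k * g) :
    ⁅a * k, b⁆ = ⁅a, b⁆ := by
  rw [commutatorElement_def, commutatorElement_def, mul_inv_rev]
  have h1 : a * k * b = a * b * k := by rw [mul_assoc, ← hk b, ← mul_assoc]
  rw [h1]
  group

theorem comm_right {P : Type*} [Group P] (a b l : P) (hl : ∀ g : P, g * l = l * g) :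
    ⁅a, b * l⁆ = ⁅a, b⁆ := by
  rw [commutatorElement_def, commutatorElement_def, mul_inv_rev]
  have h1 : a * (b * l) * a⁻¹ = a * b * a⁻¹ * l := by
    rw [mul_assoc a (b * l), mul_assoc b l, ← hl a⁻¹]
    group
  rw [h1]
  group

theorem comm_congr {P : Type*} {Γ : Type*} [Group P] [Group Γ] (p : P →* Γ)
    (hcen : p.ker ≤ Subgroup.center P) {a a' b b' : P} (ha : p a = p a') (hb : p b = p b') :
    ⁅a, b⁆ = ⁅a', b'⁆ := by
  have hk : a'⁻¹ * a ∈ p.ker := by
    rw [MonoidHom.mem_ker, map_mul, map_inv, ha, inv_mul_cancel]
  have hl : b'⁻¹ * b ∈ p.ker := by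
    rw [MonoidHom.mem_ker, map_mul, map_inv, hb, inv_mul_cancel]
  have hk' := Subgroup.mem_center_iff.mp (hcen hk)
  have hl' := Subgroup.mem_center_iff.mp (hcen hl)
  calc ⁅a, b⁆ = ⁅a' * (a'⁻¹ * a), b' * (b'⁻¹ * b)⁆ := by
        rw [mul_inv_cancel_left, mul_inv_cancel_left]
    _ = ⁅a', b' * (b'⁻¹ * b)⁆ := comm_left _ _ _ hk'
    _ = ⁅a', b'⁆ := comm_right _ _ _ hl'

/-- Let `π : G →* Q` be a surjective homomorphism with central kernel from a finite perfect group `G` (a perfect cover of `Q`). Then `π` is universal, in the sense that every surjective homomorphism `ξ : X →* Q` with central kernel from a group `X` in the universe of `G` admits a homomorphism `η : G →* X` with `ξ ∘ η = π`, if and only if `G` has trivial Schur multiplier. -/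
theorem result {G : Type u} {Q : Type v} [Group G] [Group Q] [Finite G] (hG : Group.IsPerfect G) (π : G →* Q) (hπ : Function.Surjective π) (hker : π.ker ≤ Subgroup.center G) : (∀ (X : Type u) [Group X] (ξ : X →* Q), Function.Surjective ξ → ξ.ker ≤ Subgroup.center X → ∃ η : G →* X, ξ.comp η = π) ↔ Cfsg.HasCyclicSchurMultiplier G 1 := by
  have hGp : commutator G = ⊤ := hG.commutator_eq_top
  constructor
  · -- universal ⇒ trivial multiplier
    intro huniv
    refine And.intro ?_ ?_
    · refine ⟨G, inferInstance, inferInstance, MonoidHom.id G,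
        ⟨Function.surjective_id, ?_, ?_⟩, ⟨?_⟩⟩
      · intro x hx
        have h : x = 1 := MonoidHom.mem_ker.mp hx
        rw [h]; exact Subgroup.one_mem _
      · intro x hx
        have h : x = 1 := MonoidHom.mem_ker.mp hx
        rw [h]; exact Subgroup.one_mem _
      · exact
          { toFun := fun _ => 1
            invFun := fun _ => 1
            left_inv := fun x => Subtype.ext (MonoidHom.mem_ker.mp x.2).symm
            right_inv := fun y => Subsingleton.elim _ _
            map_mul' := fun _ _ => (mul_one _).symm }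
    · intro E _ _ ρ hρ
      obtain ⟨hρs, hρc, hρd⟩ := hρ
      have hker1 : ∀ x ∈ ρ.ker, x = 1 := by
        have hmapρ : (commutator E).map ρ = commutator G := by
          rw [commutator_def, commutator_def, Subgroup.map_commutator,
            Subgroup.map_top_of_surjective _ hρs]
        have hEp : ∀ x : E, x ∈ commutator E := by
          intro x
          have hx : ρ x ∈ (commutator E).map ρ := by
            rw [hmapρ, hGp]; exact Subgroup.mem_top _
          obtain ⟨c, hc, hcx⟩ := Subgroup.mem_map.mp hx
          have hk : c⁻¹ * x ∈ ρ.ker := by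
            rw [MonoidHom.mem_ker, map_mul, map_inv, hcx, inv_mul_cancel]
          have h := (commutator E).mul_mem hc (hρd hk)
          rwa [mul_inv_cancel_left] at h
        let N : Subgroup E := (π.comp ρ).ker
        have hNρ : ∀ n ∈ N, ∀ e : E, ⁅n, e⁆ ∈ ρ.ker := by
          intro n hn e
          rw [MonoidHom.mem_ker, map_commutatorElement]
          have hn' : ρ n ∈ π.ker := MonoidHom.mem_ker.mpr (MonoidHom.mem_ker.mp hn)
          have hc := Subgroup.mem_center_iff.mp (hker hn') (ρ e)
          rw [commutatorElement_eq_one_iff_commute]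
          exact hc.symm
        have hNE : ⁅N, (⊤ : Subgroup E)⁆ ≤ ρ.ker := by
          rw [Subgroup.commutator_le]
          intro n hn e _
          exact hNρ n hn e
        have hcenρ : ∀ k ∈ ρ.ker, ∀ e : E, ⁅k, e⁆ = 1 := by
          intro k hk e
          rw [commutatorElement_eq_one_iff_commute]
          exact (Subgroup.mem_center_iff.mp (hρc hk) e).symm
        have h2 : ⁅⁅N, (⊤ : Subgroup E)⁆, (⊤ : Subgroup E)⁆ = ⊥ := by
          rw [eq_bot_iff, Subgroup.commutator_le]
          intro k hk e _
          rw [Subgroup.mem_bot]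
          exact hcenρ k (hNE hk) e
        have h1 : ⁅⁅(⊤ : Subgroup E), N⁆, (⊤ : Subgroup E)⁆ = ⊥ := by
          rw [Subgroup.commutator_comm ⊤ N]; exact h2
        have h3 : ⁅⁅(⊤ : Subgroup E), (⊤ : Subgroup E)⁆, N⁆ = ⊥ :=
          Subgroup.commutator_commutator_eq_bot_of_rotate h1 h2
        have hNcen : N ≤ Subgroup.center E := by
          intro n hn
          rw [Subgroup.mem_center_iff]
          intro e
          have he : e ∈ ⁅(⊤ : Subgroup E), (⊤ : Subgroup E)⁆ := by
            rw [← commutator_def]; exact hEp e
          have h := Subgroup.commutator_mem_commutator he hn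
          rw [h3, Subgroup.mem_bot, commutatorElement_eq_one_iff_commute] at h
          exact h
        obtain ⟨η, hη⟩ := huniv E (π.comp ρ) (hπ.comp hρs) hNcen
        have hη' : ∀ g, π (ρ (η g)) = π g := fun g => DFunLike.congr_fun hη g
        have hθ : ∀ g : G, ρ (η g) = g := by
          have hEq : Set.EqOn (ρ.comp η) (MonoidHom.id G)
              (Subgroup.closure (commutatorSet G)) := by
            apply MonoidHom.eqOn_closure
            rintro c ⟨a, b, rfl⟩
            show ρ (η ⁅a, b⁆) = ⁅a, b⁆
            rw [map_commutatorElement, map_commutatorElement]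
            exact comm_congr π hker (hη' a) (hη' b)
          intro g
          have hg : g ∈ Subgroup.closure (commutatorSet G) := by
            rw [← commutator_eq_closure, hGp]; exact Subgroup.mem_top g
          exact hEq hg
        have hrange : ∀ x : E, x ∈ η.range := by
          have hle : commutator E ≤ η.range := by
            rw [commutator_eq_closure, Subgroup.closure_le]
            rintro c ⟨a, b, rfl⟩
            show ⁅a, b⁆ ∈ η.range
            refine MonoidHom.mem_range.mpr ⟨⁅ρ a, ρ b⁆, ?_⟩
            rw [map_commutatorElement]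
            exact comm_congr ρ hρc (by rw [hθ]) (by rw [hθ])
          intro x; exact hle (hEp x)
        intro x hx
        obtain ⟨g, rfl⟩ := MonoidHom.mem_range.mp (hrange x)
        have hg1 : g = 1 := by
          have h := MonoidHom.mem_ker.mp hx
          rw [hθ] at h
          exact h
        rw [hg1, map_one]
      refine ⟨1, ?_⟩
      intro y
      exact ⟨1, Subtype.ext (hker1 y.1 y.2).symm⟩
  · -- trivial multiplier ⇒ universal
    intro hM X _ ξ hξ hξc
    let P : Subgroup (G × X) :=
      { carrier := {x | π x.1 = ξ x.2}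
        mul_mem' := by
          intro a b ha hb
          simp only [Set.mem_ofPred_eq] at ha hb ⊢
          rw [Prod.fst_mul, Prod.snd_mul, map_mul, map_mul, ha, hb]
        one_mem' := by simp
        inv_mem' := by
          intro a ha
          simp only [Set.mem_ofPred_eq] at ha ⊢
          rw [Prod.fst_inv, Prod.snd_inv, map_inv, map_inv, ha] }
    have hPmem : ∀ x : G × X, x ∈ P ↔ π x.1 = ξ x.2 := fun x => Iff.rfl
    let p1 : P →* G := (MonoidHom.fst G X).comp P.subtype
    let p2 : P →* X := (MonoidHom.snd G X).comp P.subtype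
    have hp1 : Function.Surjective p1 := by
      intro g
      obtain ⟨d, hd⟩ := hξ (π g)
      exact ⟨⟨(g, d), (hPmem _).mpr hd.symm⟩, rfl⟩
    have hcen1 : p1.ker ≤ Subgroup.center P := by
      intro x hx
      rw [MonoidHom.mem_ker] at hx
      have hx1 : x.1.1 = 1 := hx
      have hx2 : x.1.2 ∈ ξ.ker := by
        rw [MonoidHom.mem_ker, ← (hPmem x.1).mp x.2, hx1, map_one]
      have hc := Subgroup.mem_center_iff.mp (hξc hx2)
      rw [Subgroup.mem_center_iff]
      intro y
      apply Subtype.ext
      apply Prod.ext
      · show y.1.1 * x.1.1 = x.1.1 * y.1.1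
        rw [hx1, mul_one, one_mul]
      · exact hc y.1.2
    have hfin : Finite (commutatorSet P) := by
      have hs : ∀ g, p1 (Function.surjInv hp1 g) = g := Function.surjInv_eq hp1
      apply Set.Finite.to_subtype
      apply Set.Finite.subset (Set.finite_range
        (fun gh : G × G => ⁅Function.surjInv hp1 gh.1, Function.surjInv hp1 gh.2⁆))
      rintro c ⟨a, b, rfl⟩
      exact ⟨(p1 a, p1 b), comm_congr p1 hcen1 (hs _) (hs _)⟩
    let C : Subgroup P := commutator P
    have hCfin : Finite C := inferInstance
    let q : C →* G := p1.comp C.subtype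
    have hmap1 : (commutator P).map p1 = commutator G := by
      rw [commutator_def, commutator_def, Subgroup.map_commutator,
        Subgroup.map_top_of_surjective _ hp1]
    have hq : Function.Surjective q := by
      intro g
      have hg : g ∈ (commutator P).map p1 := by
        rw [hmap1, hGp]; exact Subgroup.mem_top g
      obtain ⟨c, hc, hcg⟩ := Subgroup.mem_map.mp hg
      exact ⟨⟨c, hc⟩, hcg⟩
    have hqcen : q.ker ≤ Subgroup.center C := by
      intro x hx
      have hx' : x.1 ∈ p1.ker := MonoidHom.mem_ker.mpr (MonoidHom.mem_ker.mp hx)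
      have hc := Subgroup.mem_center_iff.mp (hcen1 hx')
      rw [Subgroup.mem_center_iff]
      intro y
      exact Subtype.ext (hc y.1)
    have hCC : C ≤ ⁅C, C⁆ := by
      show commutator P ≤ ⁅C, C⁆
      rw [commutator_eq_closure, Subgroup.closure_le]
      rintro c ⟨a, b, rfl⟩
      obtain ⟨ca, hca⟩ := hq (p1 a)
      obtain ⟨cb, hcb⟩ := hq (p1 b)
      have h : ⁅a, b⁆ = ⁅ca.1, cb.1⁆ := comm_congr p1 hcen1 hca.symm hcb.symm
      show ⁅a, b⁆ ∈ ⁅C, C⁆
      rw [h]
      exact Subgroup.commutator_mem_commutator ca.2 cb.2
    have hCperf : ∀ x : C, x ∈ commutator C := by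
      intro x
      have h1 : x.1 ∈ (commutator C).map C.subtype := by
        rw [Subgroup.map_subtype_commutator]; exact hCC x.2
      obtain ⟨y, hy, hyx⟩ := Subgroup.mem_map.mp h1
      have h2 : y = x := Subtype.ext hyx
      rw [← h2]; exact hy
    have hqinj : Function.Injective q := by
      rw [injective_iff_map_eq_one]
      intro x hx
      exact Cfsg.Agent.S3958.central_cap hM q hq hqcen x (MonoidHom.mem_ker.mpr hx) (hCperf x)
    let e : C ≃* G := MulEquiv.ofBijective q ⟨hqinj, hq⟩
    refine ⟨p2.comp (C.subtype.comp e.symm.toMonoidHom), ?_⟩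
    ext g
    show ξ (p2 (e.symm g).1) = π g
    have h1 : π (p1 (e.symm g).1) = ξ (p2 (e.symm g).1) := (hPmem _).mp (e.symm g).1.2
    rw [← h1]
    have h2 : q (e.symm g) = g := e.apply_symm_apply g
    exact congrArg π h2

end Cfsg.Agent.S3961
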