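import Cfsg.Statements.S3980
import Mathlib
import Cfsg.Agent.S3954

set_option autoImplicit false
universe u v w
open Cfsg

namespace Cfsg.Agent.S3980

open scoped commutatorElement

theorem map_comm_le {G H : Type*} [Group G] [Group H] (f : G →* H) :
    (commutator G).map f ≤ commutator H := by
  rw [commutator_def, commutator_def, Subgroup.map_commutator]
  exact Subgroup.commutator_mono le_top le_top

theorem pair_pow {E Q : Type*} [Group E] [Group Q] (N : Subgroup E) (θ : N →* Q)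
    (hθs : Function.Surjective θ) (Z : Subgroup E) (hZc : Z ≤ Subgroup.center E)
    (hθZ : ∀ x : N, x ∈ θ.ker → x.1 ∈ Z) (y : E) (hy : ∀ x : N, ⁅x.1, y⁆ ∈ Z) (x : N) :
    ⁅x.1, y⁆ ^ Nat.card (Abelianization Q) = 1 := by
  have hcen : ∀ x : N, ⁅x.1, y⁆ ∈ Subgroup.center E := fun x => hZc (hy x)
  have hγmul : ∀ a b : E, (∀ g, g * ⁅b, y⁆ = ⁅b, y⁆ * g) →
      ⁅a * b, y⁆ = ⁅b, y⁆ * ⁅a, y⁆ := by
    intro a b hc
    calc ⁅a * b, y⁆ = a * ⁅b, y⁆ * (y * a⁻¹ * y⁻¹) := by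
          simp only [commutatorElement_def]; group
      _ = ⁅b, y⁆ * a * (y * a⁻¹ * y⁻¹) := by rw [hc a]
      _ = ⁅b, y⁆ * ⁅a, y⁆ := by simp only [commutatorElement_def]; group
  let γ : N →* Subgroup.center E := MonoidHom.mk' (fun x => ⟨⁅x.1, y⁆, hcen x⟩) (by
    intro a b
    apply Subtype.ext
    show ⁅a.1 * b.1, y⁆ = ⁅a.1, y⁆ * ⁅b.1, y⁆
    rw [hγmul a.1 b.1 (Subgroup.mem_center_iff.mp (hcen b))]
    exact (Subgroup.mem_center_iff.mp (hcen b) _).symm)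
  have hγcomm : commutator N ≤ γ.ker := by
    rw [commutator_eq_closure, Subgroup.closure_le]
    rintro c ⟨a, b, rfl⟩
    show ⁅a, b⁆ ∈ γ.ker
    rw [MonoidHom.mem_ker, map_commutatorElement, commutatorElement_eq_one_iff_commute]
    exact Subtype.ext (Subgroup.mem_center_iff.mp (γ b).2 (γ a).1)
  have hγZ : ∀ z : N, z.1 ∈ Z → γ z = 1 := by
    intro z hz
    apply Subtype.ext
    show ⁅z.1, y⁆ = 1
    rw [commutatorElement_eq_one_iff_commute]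
    exact (Subgroup.mem_center_iff.mp (hZc hz) y).symm
  have hqm : (θ x) ^ Nat.card (Abelianization Q) ∈ commutator Q := by
    have h1 : (Abelianization.of (θ x)) ^ Nat.card (Abelianization Q) = 1 := pow_card_eq_one'
    rw [← map_pow] at h1
    have h2 : (((θ x) ^ Nat.card (Abelianization Q) : Q) : Q ⧸ commutator Q) = 1 := h1
    exact (QuotientGroup.eq_one_iff _).mp h2
  have hmapθ : (commutator N).map θ = commutator Q := by
    rw [commutator_def, commutator_def, Subgroup.map_commutator,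
      Subgroup.map_top_of_surjective _ hθs]
  rw [← hmapθ] at hqm
  obtain ⟨c, hc, hcq⟩ := Subgroup.mem_map.mp hqm
  have hz : c⁻¹ * x ^ Nat.card (Abelianization Q) ∈ θ.ker := by
    rw [MonoidHom.mem_ker, map_mul, map_inv, map_pow, hcq, inv_mul_cancel]
  have h3 : γ (x ^ Nat.card (Abelianization Q)) = 1 := by
    have h4 : x ^ Nat.card (Abelianization Q)
        = c * (c⁻¹ * x ^ Nat.card (Abelianization Q)) := by rw [mul_inv_cancel_left]
    rw [h4, map_mul, MonoidHom.mem_ker.mp (hγcomm hc), hγZ _ (hθZ _ hz), mul_one]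
  rw [map_pow] at h3
  have h5 : (((γ x) ^ Nat.card (Abelianization Q) : Subgroup.center E) : E)
      = ((1 : Subgroup.center E) : E) := congrArg Subtype.val h3
  rw [Subgroup.coe_pow, Subgroup.coe_one] at h5
  exact h5

/-- Let `Q₁` and `Q₂` be finite groups whose commutator quotients have coprime orders, with Schur multipliers `A` and `B`. Then the Schur multiplier of `Q₁ × Q₂` is isomorphic to `A × B`. -/
theorem result {Q₁ : Type u} {Q₂ : Type v} [Group Q₁] [Group Q₂] [Finite Q₁] [Finite Q₂] {A B : Type w} [CommGroup A] [CommGroup B] (hA : Cfsg.HasSchurMultiplier Q₁ A) (hB : Cfsg.HasSchurMultiplier Q₂ B) (hcop : Nat.Coprime (Nat.card (Abelianization Q₁)) (Nat.card (Abelianization Q₂))) : Cfsg.HasSchurMultiplier (Q₁ × Q₂) (A × B) := by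
  classical
  have hA' := hA
  obtain ⟨⟨Γ₁, hG1, hF1, σ₁, hσ₁, ⟨ek₁⟩⟩, -⟩ := hA'
  have hB' := hB
  obtain ⟨⟨Γ₂, hG2, hF2, σ₂, hσ₂, ⟨ek₂⟩⟩, -⟩ := hB'
  obtain ⟨hσ₁s, hσ₁c, hσ₁d⟩ := hσ₁
  obtain ⟨hσ₂s, hσ₂c, hσ₂d⟩ := hσ₂
  refine And.intro ?_ ?_
  · let σ : Γ₁ × Γ₂ →* Q₁ × Q₂ := MonoidHom.prodMap σ₁ σ₂
    have hσa : ∀ x : Γ₁ × Γ₂, σ x = (σ₁ x.1, σ₂ x.2) := fun x => rfl
    have hk1 : ∀ x : σ.ker, x.1.1 ∈ σ₁.ker := fun x => by
      rw [MonoidHom.mem_ker]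
      exact congrArg Prod.fst (MonoidHom.mem_ker.mp x.2)
    have hk2 : ∀ x : σ.ker, x.1.2 ∈ σ₂.ker := fun x => by
      rw [MonoidHom.mem_ker]
      exact congrArg Prod.snd (MonoidHom.mem_ker.mp x.2)
    refine ⟨Γ₁ × Γ₂, inferInstance, inferInstance, σ, ⟨?_, ?_, ?_⟩, ⟨?_⟩⟩
    · rintro ⟨q1, q2⟩
      obtain ⟨g1, h1⟩ := hσ₁s q1
      obtain ⟨g2, h2⟩ := hσ₂s q2
      exact ⟨(g1, g2), Prod.ext h1 h2⟩
    · intro x hx
      have hc1 := Subgroup.mem_center_iff.mp (hσ₁c (hk1 ⟨x, hx⟩))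
      have hc2 := Subgroup.mem_center_iff.mp (hσ₂c (hk2 ⟨x, hx⟩))
      rw [Subgroup.mem_center_iff]
      intro y
      exact Prod.ext (hc1 y.1) (hc2 y.2)
    · intro x hx
      have h1 : x.1 ∈ commutator Γ₁ := hσ₁d (hk1 ⟨x, hx⟩)
      have h2 : x.2 ∈ commutator Γ₂ := hσ₂d (hk2 ⟨x, hx⟩)
      have e1 : (MonoidHom.inl Γ₁ Γ₂) x.1 ∈ commutator (Γ₁ × Γ₂) :=
        map_comm_le _ (Subgroup.mem_map_of_mem _ h1)
      have e2 : (MonoidHom.inr Γ₁ Γ₂) x.2 ∈ commutator (Γ₁ × Γ₂) :=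
        map_comm_le _ (Subgroup.mem_map_of_mem _ h2)
      have e3 := (commutator (Γ₁ × Γ₂)).mul_mem e1 e2
      have e4 : (MonoidHom.inl Γ₁ Γ₂) x.1 * (MonoidHom.inr Γ₁ Γ₂) x.2 = x := by
        apply Prod.ext
        · show x.1 * 1 = x.1
          rw [mul_one]
        · show 1 * x.2 = x.2
          rw [one_mul]
      rw [e4] at e3
      exact e3
    · let e0 : σ.ker ≃* σ₁.ker × σ₂.ker :=
        { toFun := fun x => (⟨x.1.1, hk1 x⟩, ⟨x.1.2, hk2 x⟩)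
          invFun := fun y => ⟨(y.1.1, y.2.1), by
            rw [MonoidHom.mem_ker, hσa]
            exact Prod.ext (MonoidHom.mem_ker.mp y.1.2) (MonoidHom.mem_ker.mp y.2.2)⟩
          left_inv := fun x => rfl
          right_inv := fun y => rfl
          map_mul' := fun x y => rfl }
      exact e0.trans (MulEquiv.prodCongr ek₁ ek₂)
  · intro E _ _ ρ hρ
    obtain ⟨hρs, hρc, hρd⟩ := hρ
    let ρ₁ : E →* Q₁ := (MonoidHom.fst Q₁ Q₂).comp ρ
    let ρ₂ : E →* Q₂ := (MonoidHom.snd Q₁ Q₂).comp ρ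
    have hρ₁a : ∀ e, ρ₁ e = (ρ e).1 := fun e => rfl
    have hρ₂a : ∀ e, ρ₂ e = (ρ e).2 := fun e => rfl
    let E₁ : Subgroup E := ρ₂.ker
    let E₂ : Subgroup E := ρ₁.ker
    let Z : Subgroup E := ρ.ker
    have hZ : ∀ e : E, e ∈ Z ↔ (ρ₁ e = 1 ∧ ρ₂ e = 1) := by
      intro e
      rw [MonoidHom.mem_ker, hρ₁a, hρ₂a]
      constructor
      · intro h; rw [h]; exact ⟨rfl, rfl⟩
      · rintro ⟨h1, h2⟩; exact Prod.ext h1 h2
    let θ₁ : E₁ →* Q₁ := ρ₁.comp E₁.subtype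
    let θ₂ : E₂ →* Q₂ := ρ₂.comp E₂.subtype
    have hθ₁s : Function.Surjective θ₁ := by
      intro q
      obtain ⟨e, he⟩ := hρs (q, 1)
      refine ⟨⟨e, ?_⟩, ?_⟩
      · rw [MonoidHom.mem_ker, hρ₂a, he]
      · show ρ₁ e = q
        rw [hρ₁a, he]
    have hθ₂s : Function.Surjective θ₂ := by
      intro q
      obtain ⟨e, he⟩ := hρs (1, q)
      refine ⟨⟨e, ?_⟩, ?_⟩
      · rw [MonoidHom.mem_ker, hρ₁a, he]
      · show ρ₂ e = q
        rw [hρ₂a, he]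
    have hθ₁Z : ∀ x : E₁, x ∈ θ₁.ker → x.1 ∈ Z := by
      intro x hx
      exact (hZ x.1).mpr ⟨MonoidHom.mem_ker.mp hx, MonoidHom.mem_ker.mp x.2⟩
    have hθ₂Z : ∀ x : E₂, x ∈ θ₂.ker → x.1 ∈ Z := by
      intro x hx
      exact (hZ x.1).mpr ⟨MonoidHom.mem_ker.mp x.2, MonoidHom.mem_ker.mp hx⟩
    have hθ₁c : θ₁.ker ≤ Subgroup.center E₁ := by
      intro x hx
      have hc := Subgroup.mem_center_iff.mp (hρc (hθ₁Z x hx))
      rw [Subgroup.mem_center_iff]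
      intro y
      exact Subtype.ext (hc y.1)
    have hθ₂c : θ₂.ker ≤ Subgroup.center E₂ := by
      intro x hx
      have hc := Subgroup.mem_center_iff.mp (hρc (hθ₂Z x hx))
      rw [Subgroup.mem_center_iff]
      intro y
      exact Subtype.ext (hc y.1)
    obtain ⟨π₁, hπ₁⟩ := Cfsg.Agent.S3954.gl_image hA θ₁ hθ₁s hθ₁c
    obtain ⟨π₂, hπ₂⟩ := Cfsg.Agent.S3954.gl_image hB θ₂ hθ₂s hθ₂c
    -- E₁ and E₂ commute elementwise
    have hcommZ : ∀ x ∈ E₁, ∀ y ∈ E₂, ⁅x, y⁆ ∈ Z := by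
      intro x hx y hy
      rw [hZ]
      constructor
      · rw [map_commutatorElement, MonoidHom.mem_ker.mp hy, commutatorElement_one_right]
      · rw [map_commutatorElement, MonoidHom.mem_ker.mp hx, commutatorElement_one_left]
    have hcommZ' : ∀ y ∈ E₂, ∀ x ∈ E₁, ⁅y, x⁆ ∈ Z := by
      intro y hy x hx
      rw [← commutatorElement_inv]
      exact Z.inv_mem (hcommZ x hx y hy)
    have hcomm : ∀ x ∈ E₁, ∀ y ∈ E₂, Commute x y := by
      intro x hx y hy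
      rw [← commutatorElement_eq_one_iff_commute]
      have h1 := pair_pow E₁ θ₁ hθ₁s Z hρc hθ₁Z y (fun x' => hcommZ x'.1 x'.2 y hy) ⟨x, hx⟩
      have h2 := pair_pow E₂ θ₂ hθ₂s Z hρc hθ₂Z x (fun y' => hcommZ' y'.1 y'.2 x hx) ⟨y, hy⟩
      have h2' : ⁅x, y⁆ ^ Nat.card (Abelianization Q₂) = 1 := by
        rw [← commutatorElement_inv, inv_pow]
        show (⁅y, x⁆ ^ Nat.card (Abelianization Q₂))⁻¹ = 1
        rw [h2, inv_one]
      have hd := Nat.dvd_gcd (orderOf_dvd_of_pow_eq_one h1) (orderOf_dvd_of_pow_eq_one h2')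
      rw [Nat.Coprime.gcd_eq_one hcop] at hd
      exact orderOf_eq_one_iff.mp (Nat.dvd_one.mp hd)
    let μ : E₁ × E₂ →* E := MonoidHom.noncommCoprod E₁.subtype E₂.subtype
      (fun a b => hcomm a.1 a.2 b.1 b.2)
    have hμa : ∀ p : E₁ × E₂, μ p = p.1.1 * p.2.1 := fun p => rfl
    have hμs : Function.Surjective μ := by
      intro e
      obtain ⟨e1, he1⟩ := hρs ((ρ e).1, 1)
      have h1 : e1 ∈ E₁ := by rw [MonoidHom.mem_ker, hρ₂a, he1]
      have h2 : e1⁻¹ * e ∈ E₂ := by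
        rw [MonoidHom.mem_ker, hρ₁a, map_mul, map_inv, he1]
        show ((ρ e).1)⁻¹ * (ρ e).1 = 1
        rw [inv_mul_cancel]
      refine ⟨(⟨e1, h1⟩, ⟨e1⁻¹ * e, h2⟩), ?_⟩
      rw [hμa]
      show e1 * (e1⁻¹ * e) = e
      rw [mul_inv_cancel_left]
    have hmapμ : (commutator (E₁ × E₂)).map μ = commutator E := by
      rw [commutator_def, commutator_def, Subgroup.map_commutator,
        Subgroup.map_top_of_surjective _ hμs]
    have hcprod : commutator (E₁ × E₂) = (commutator E₁).prod (commutator E₂) := by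
      rw [commutator_def, ← Subgroup.top_prod_top, Subgroup.commutator_prod_prod,
        ← commutator_def, ← commutator_def]
    -- the map
    have hm1 : ∀ a : A, ((π₁ a).1 : E₁).1 ∈ Z := fun a =>
      hθ₁Z _ (Subgroup.mem_inf.mp (π₁ a).2).1
    have hm2 : ∀ b : B, ((π₂ b).1 : E₂).1 ∈ Z := fun b =>
      hθ₂Z _ (Subgroup.mem_inf.mp (π₂ b).2).1
    let Pm : A × B →* ρ.ker := MonoidHom.mk'
      (fun ab => ⟨((π₁ ab.1).1 : E₁).1 * ((π₂ ab.2).1 : E₂).1, Z.mul_mem (hm1 ab.1) (hm2 ab.2)⟩) (by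
        intro p q
        apply Subtype.ext
        show ((π₁ (p.1 * q.1)).1 : E₁).1 * ((π₂ (p.2 * q.2)).1 : E₂).1
          = (((π₁ p.1).1 : E₁).1 * ((π₂ p.2).1 : E₂).1)
            * (((π₁ q.1).1 : E₁).1 * ((π₂ q.2).1 : E₂).1)
        rw [map_mul, map_mul]
        show (((π₁ p.1).1 : E₁).1 * ((π₁ q.1).1 : E₁).1)
            * (((π₂ p.2).1 : E₂).1 * ((π₂ q.2).1 : E₂).1) = _
        have hc := Subgroup.mem_center_iff.mp (hρc (hm2 p.2)) (((π₁ q.1).1 : E₁).1)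
        calc (((π₁ p.1).1 : E₁).1 * ((π₁ q.1).1 : E₁).1)
              * (((π₂ p.2).1 : E₂).1 * ((π₂ q.2).1 : E₂).1)
            = ((π₁ p.1).1 : E₁).1 * (((π₁ q.1).1 : E₁).1 * ((π₂ p.2).1 : E₂).1)
              * ((π₂ q.2).1 : E₂).1 := by group
          _ = ((π₁ p.1).1 : E₁).1 * (((π₂ p.2).1 : E₂).1 * ((π₁ q.1).1 : E₁).1)
              * ((π₂ q.2).1 : E₂).1 := by rw [hc]
          _ = _ := by group)
    refine ⟨Pm, ?_⟩
    rintro ⟨z, hz⟩
    have hzC : z ∈ commutator E := hρd hz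
    rw [← hmapμ, hcprod] at hzC
    obtain ⟨cp, hcp, hcpz⟩ := Subgroup.mem_map.mp hzC
    obtain ⟨hc1, hc2⟩ := Subgroup.mem_prod.mp hcp
    rw [hμa] at hcpz
    have hzZ := (hZ z).mp hz
    have hk1 : cp.1 ∈ θ₁.ker := by
      rw [MonoidHom.mem_ker]
      show ρ₁ cp.1.1 = 1
      have h := hzZ.1
      rw [← hcpz, map_mul, MonoidHom.mem_ker.mp cp.2.2, mul_one] at h
      exact h
    have hk2 : cp.2 ∈ θ₂.ker := by
      rw [MonoidHom.mem_ker]
      show ρ₂ cp.2.1 = 1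
      have h := hzZ.2
      rw [← hcpz, map_mul, MonoidHom.mem_ker.mp cp.1.2, one_mul] at h
      exact h
    obtain ⟨a, ha⟩ := hπ₁ ⟨cp.1, Subgroup.mem_inf.mpr ⟨hk1, hc1⟩⟩
    obtain ⟨b, hb⟩ := hπ₂ ⟨cp.2, Subgroup.mem_inf.mpr ⟨hk2, hc2⟩⟩
    refine ⟨(a, b), Subtype.ext ?_⟩
    show ((π₁ a).1 : E₁).1 * ((π₂ b).1 : E₂).1 = z
    rw [ha, hb]
    exact hcpz

end Cfsg.Agent.S3980
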