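import Cfsg.Statements.S3959
import Mathlib
import Cfsg.Agent.S3980
import Cfsg.Agent.S3961

set_option autoImplicit false
universe u v w
open Cfsg

namespace Cfsg.Agent.S3959

open scoped commutatorElement TensorProduct

theorem comm_mul_left' {G : Type*} [Group G] (a b c : G)
    (hc : ∀ g : G, g * ⁅b, c⁆ = ⁅b, c⁆ * g) : ⁅a * b, c⁆ = ⁅a, c⁆ * ⁅b, c⁆ := by
  calc ⁅a * b, c⁆ = a * ⁅b, c⁆ * (c * a⁻¹ * c⁻¹) := by
        simp only [commutatorElement_def]; group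
    _ = ⁅b, c⁆ * a * (c * a⁻¹ * c⁻¹) := by rw [hc a]
    _ = ⁅b, c⁆ * ⁅a, c⁆ := by simp only [commutatorElement_def]; group
    _ = ⁅a, c⁆ * ⁅b, c⁆ := (hc _).symm

theorem comm_mul_right' {G : Type*} [Group G] (a b c : G)
    (hc : ∀ g : G, g * ⁅a, c⁆ = ⁅a, c⁆ * g) : ⁅a, b * c⁆ = ⁅a, b⁆ * ⁅a, c⁆ := by
  calc ⁅a, b * c⁆ = ⁅a, b⁆ * (b * ⁅a, c⁆) * b⁻¹ := by
        simp only [commutatorElement_def]; group
    _ = ⁅a, b⁆ * (⁅a, c⁆ * b) * b⁻¹ := by rw [hc b]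
    _ = ⁅a, b⁆ * ⁅a, c⁆ := by group

theorem conj_comm {E P : Type*} [Group E] [Group P] (ρ : E →* P)
    (hρc : ρ.ker ≤ Subgroup.center E) (g a b : E)
    (ha : ρ (g * a * g⁻¹) = ρ a) (hb : ρ (g * b * g⁻¹) = ρ b) :
    g * ⁅a, b⁆ = ⁅a, b⁆ * g := by
  have h1 : g * ⁅a, b⁆ * g⁻¹ = ⁅g * a * g⁻¹, g * b * g⁻¹⁆ := by
    simp only [commutatorElement_def]; group
  have h2 : ⁅g * a * g⁻¹, g * b * g⁻¹⁆ = ⁅a, b⁆ := Cfsg.Agent.S3961.comm_congr ρ hρc ha hb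
  calc g * ⁅a, b⁆ = g * ⁅a, b⁆ * g⁻¹ * g := by group
    _ = ⁅a, b⁆ * g := by rw [h1, h2]

theorem prod_upper {Q₁ : Type u} {Q₂ : Type v} [Group Q₁] [Group Q₂] [Finite Q₁] [Finite Q₂]
    {A B : Type w} [CommGroup A] [CommGroup B] (hA : Cfsg.HasSchurMultiplier Q₁ A)
    (hB : Cfsg.HasSchurMultiplier Q₂ B)
    (E : Type (max u v)) [Group E] [Finite E] (ρ : E →* Q₁ × Q₂)
    (hρ : Cfsg.IsStemExtension ρ) :
    ∃ π : (A × B × Multiplicative (TensorProduct ℤ (Additive (Abelianization Q₁))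
      (Additive (Abelianization Q₂)))) →* ρ.ker, Function.Surjective π := by
  classical
  obtain ⟨hρs, hρc, hρd⟩ := hρ
  let hKc : CommGroup ρ.ker :=
    { (inferInstance : Group ρ.ker) with
      mul_comm := fun a b => Subtype.ext (Subgroup.mem_center_iff.mp (hρc b.2) a.1) }
  let ρ₁ : E →* Q₁ := (MonoidHom.fst Q₁ Q₂).comp ρ
  let ρ₂ : E →* Q₂ := (MonoidHom.snd Q₁ Q₂).comp ρ
  let E₁ : Subgroup E := ρ₂.ker
  let E₂ : Subgroup E := ρ₁.ker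
  have hK : ∀ e : E, e ∈ ρ.ker ↔ ρ₁ e = 1 ∧ ρ₂ e = 1 := by
    intro e
    rw [MonoidHom.mem_ker, Prod.ext_iff]
    rfl
  have hρeq : ∀ e e' : E, ρ₁ e = ρ₁ e' → ρ₂ e = ρ₂ e' → ρ e = ρ e' := fun e e' h1 h2 =>
    Prod.ext h1 h2
  have hcen : ∀ k : E, k ∈ ρ.ker → ∀ g : E, g * k = k * g := fun k hk g =>
    Subgroup.mem_center_iff.mp (hρc hk) g
  -- cross commutators lie in the kernel
  have f1 : ∀ e e' : E, ρ₂ e = 1 → ρ₁ e' = 1 → ⁅e, e'⁆ ∈ ρ.ker := by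
    intro e e' h h'
    rw [hK]
    constructor
    · rw [map_commutatorElement, h', commutatorElement_one_right]
    · rw [map_commutatorElement, h, commutatorElement_one_left]
  have f1' : ∀ e e' : E, ρ₁ e = 1 → ρ₂ e' = 1 → ⁅e, e'⁆ ∈ ρ.ker := by
    intro e e' h h'
    rw [hK]
    constructor
    · rw [map_commutatorElement, h, commutatorElement_one_left]
    · rw [map_commutatorElement, h', commutatorElement_one_right]
  -- conjugation facts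
  have hconj12 : ∀ g a : E, ρ₂ g = 1 → ρ₁ a = 1 → ρ (g * a * g⁻¹) = ρ a := by
    intro g a hg ha
    apply hρeq
    · rw [map_mul, map_mul, map_inv, ha, mul_one, mul_inv_cancel]
    · rw [map_mul, map_mul, map_inv, hg, one_mul, inv_one, mul_one]
  have hconj21 : ∀ g a : E, ρ₁ g = 1 → ρ₂ a = 1 → ρ (g * a * g⁻¹) = ρ a := by
    intro g a hg ha
    apply hρeq
    · rw [map_mul, map_mul, map_inv, hg, one_mul, inv_one, mul_one]
    · rw [map_mul, map_mul, map_inv, ha, mul_one, mul_inv_cancel]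
  -- E₂ centralizes E₁', E₁ centralizes E₂'
  have hCen1 : ∀ e' : E, ρ₁ e' = 1 → ∀ c : E₁, c ∈ commutator E₁ → e' * c.1 = c.1 * e' := by
    intro e' he' c hc
    have hle : (commutator E₁).map E₁.subtype ≤ Subgroup.centralizer {e'} := by
      rw [Subgroup.map_le_iff_le_comap, commutator_eq_closure, Subgroup.closure_le]
      rintro _ ⟨a, b, rfl⟩
      show E₁.subtype ⁅a, b⁆ ∈ Subgroup.centralizer {e'}
      rw [Subgroup.mem_centralizer_iff]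
      rintro h rfl
      show h * ⁅a.1, b.1⁆ = ⁅a.1, b.1⁆ * h
      exact conj_comm ρ hρc h a.1 b.1 (hconj21 h a.1 he' a.2) (hconj21 h b.1 he' b.2)
    have h1 := hle (Subgroup.mem_map_of_mem E₁.subtype hc)
    rw [Subgroup.mem_centralizer_iff] at h1
    exact h1 e' rfl
  have hCen2 : ∀ e' : E, ρ₂ e' = 1 → ∀ c : E₂, c ∈ commutator E₂ → e' * c.1 = c.1 * e' := by
    intro e' he' c hc
    have hle : (commutator E₂).map E₂.subtype ≤ Subgroup.centralizer {e'} := by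
      rw [Subgroup.map_le_iff_le_comap, commutator_eq_closure, Subgroup.closure_le]
      rintro _ ⟨a, b, rfl⟩
      show E₂.subtype ⁅a, b⁆ ∈ Subgroup.centralizer {e'}
      rw [Subgroup.mem_centralizer_iff]
      rintro h rfl
      show h * ⁅a.1, b.1⁆ = ⁅a.1, b.1⁆ * h
      exact conj_comm ρ hρc h a.1 b.1 (hconj12 h a.1 he' a.2) (hconj12 h b.1 he' b.2)
    have h1 := hle (Subgroup.mem_map_of_mem E₂.subtype hc)
    rw [Subgroup.mem_centralizer_iff] at h1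
    exact h1 e' rfl
  -- the two restricted extensions
  let τ₁ : E₁ →* Q₁ := ρ₁.comp E₁.subtype
  let τ₂ : E₂ →* Q₂ := ρ₂.comp E₂.subtype
  have hτ₁s : Function.Surjective τ₁ := by
    intro q
    obtain ⟨e, he⟩ := hρs (q, 1)
    have h2 : ρ₂ e = 1 := congrArg Prod.snd he
    exact ⟨⟨e, h2⟩, congrArg Prod.fst he⟩
  have hτ₂s : Function.Surjective τ₂ := by
    intro q
    obtain ⟨e, he⟩ := hρs (1, q)
    have h1 : ρ₁ e = 1 := congrArg Prod.fst he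
    exact ⟨⟨e, h1⟩, congrArg Prod.snd he⟩
  have hτ₁k : ∀ x : E₁, x ∈ τ₁.ker → x.1 ∈ ρ.ker := fun x hx => (hK x.1).mpr ⟨hx, x.2⟩
  have hτ₂k : ∀ x : E₂, x ∈ τ₂.ker → x.1 ∈ ρ.ker := fun x hx => (hK x.1).mpr ⟨x.2, hx⟩
  have hτ₁c : τ₁.ker ≤ Subgroup.center E₁ := by
    intro x hx
    rw [Subgroup.mem_center_iff]
    intro g
    exact Subtype.ext (hcen x.1 (hτ₁k x hx) g.1)
  have hτ₂c : τ₂.ker ≤ Subgroup.center E₂ := by
    intro x hx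
    rw [Subgroup.mem_center_iff]
    intro g
    exact Subtype.ext (hcen x.1 (hτ₂k x hx) g.1)
  obtain ⟨π₁, hπ₁⟩ := Cfsg.Agent.S3954.gl_image hA τ₁ hτ₁s hτ₁c
  obtain ⟨π₂, hπ₂⟩ := Cfsg.Agent.S3954.gl_image hB τ₂ hτ₂s hτ₂c
  let ι₁ : ↥(τ₁.ker ⊓ commutator E₁) →* ρ.ker :=
    (E₁.subtype.comp (Subgroup.subtype _)).codRestrict ρ.ker (fun x => hτ₁k x.1 x.2.1)
  let ι₂ : ↥(τ₂.ker ⊓ commutator E₂) →* ρ.ker :=
    (E₂.subtype.comp (Subgroup.subtype _)).codRestrict ρ.ker (fun x => hτ₂k x.1 x.2.1)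
  -- the pairing
  let xl : Q₁ → E := fun q => Function.surjInv hρs (q, 1)
  let yl : Q₂ → E := fun q => Function.surjInv hρs (1, q)
  have hxl : ∀ q, ρ (xl q) = (q, 1) := fun q => Function.surjInv_eq hρs _
  have hyl : ∀ q, ρ (yl q) = (1, q) := fun q => Function.surjInv_eq hρs _
  have hxl1 : ∀ q, ρ₁ (xl q) = q := fun q => congrArg Prod.fst (hxl q)
  have hxl2 : ∀ q, ρ₂ (xl q) = 1 := fun q => congrArg Prod.snd (hxl q)
  have hyl1 : ∀ q, ρ₁ (yl q) = 1 := fun q => congrArg Prod.fst (hyl q)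
  have hyl2 : ∀ q, ρ₂ (yl q) = q := fun q => congrArg Prod.snd (hyl q)
  let bfun : Q₁ → Q₂ → ρ.ker := fun q₁ q₂ => ⟨⁅xl q₁, yl q₂⁆, f1 _ _ (hxl2 q₁) (hyl1 q₂)⟩
  have f3 : ∀ e e' : E, ρ₂ e = 1 → ρ₁ e' = 1 → ⁅e, e'⁆ = (bfun (ρ₁ e) (ρ₂ e')).1 := by
    intro e e' h h'
    show ⁅e, e'⁆ = ⁅xl (ρ₁ e), yl (ρ₂ e')⁆
    apply Cfsg.Agent.S3961.comm_congr ρ hρc
    · apply hρeq
      · rw [hxl1]
      · rw [hxl2, h]
    · apply hρeq
      · rw [hyl1, h']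
      · rw [hyl2]
  have hb1 : ∀ q q' q₂, bfun (q * q') q₂ = bfun q q₂ * bfun q' q₂ := by
    intro q q' q₂
    apply Subtype.ext
    show ⁅xl (q * q'), yl q₂⁆ = ⁅xl q, yl q₂⁆ * ⁅xl q', yl q₂⁆
    have h1 : ⁅xl (q * q'), yl q₂⁆ = ⁅xl q * xl q', yl q₂⁆ := by
      apply Cfsg.Agent.S3961.comm_congr ρ hρc _ rfl
      apply hρeq
      · rw [map_mul, hxl1, hxl1, hxl1]
      · rw [map_mul, hxl2, hxl2, hxl2, mul_one]
    rw [h1]
    exact comm_mul_left' _ _ _ (hcen _ (f1 _ _ (hxl2 q') (hyl1 q₂)))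
  have hb2 : ∀ q q₂ q₂', bfun q (q₂ * q₂') = bfun q q₂ * bfun q q₂' := by
    intro q q₂ q₂'
    apply Subtype.ext
    show ⁅xl q, yl (q₂ * q₂')⁆ = ⁅xl q, yl q₂⁆ * ⁅xl q, yl q₂'⁆
    have h1 : ⁅xl q, yl (q₂ * q₂')⁆ = ⁅xl q, yl q₂ * yl q₂'⁆ := by
      apply Cfsg.Agent.S3961.comm_congr ρ hρc rfl
      apply hρeq
      · rw [map_mul, hyl1, hyl1, hyl1, mul_one]
      · rw [map_mul, hyl2, hyl2, hyl2]
    rw [h1]
    exact comm_mul_right' _ _ _ (hcen _ (f1 _ _ (hxl2 q) (hyl1 q₂')))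
  let b₁ : Q₁ →* (Q₂ →* ρ.ker) :=
    MonoidHom.mk' (fun q₁ => MonoidHom.mk' (bfun q₁) (hb2 q₁)) (by
      intro q q'
      apply MonoidHom.ext
      intro q₂
      exact hb1 q q' q₂)
  let b₂ : Abelianization Q₁ →* (Q₂ →* ρ.ker) := Abelianization.lift b₁
  let b₄ : Abelianization Q₂ →* (Abelianization Q₁ →* ρ.ker) := Abelianization.lift b₂.flip
  let b₅ : Abelianization Q₁ →* (Abelianization Q₂ →* ρ.ker) := b₄.flip
  have hb₅ : ∀ q₁ q₂, b₅ (Abelianization.of q₁) (Abelianization.of q₂) = bfun q₁ q₂ := by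
    intro q₁ q₂
    show (Abelianization.lift b₂.flip) (Abelianization.of q₂) (Abelianization.of q₁) = bfun q₁ q₂
    rw [Abelianization.lift_apply_of]
    show (Abelianization.lift b₁) (Abelianization.of q₁) q₂ = bfun q₁ q₂
    rw [Abelianization.lift_apply_of]
    rfl
  let ff : Additive (Abelianization Q₁) →+ Additive (Abelianization Q₂) →+ Additive ρ.ker :=
    AddMonoidHom.mk' (fun m₁ => MonoidHom.toAdditive (b₅ (Additive.toMul m₁))) (by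
      intro m m'
      apply AddMonoidHom.ext
      intro z
      show Additive.ofMul (b₅ (Additive.toMul m * Additive.toMul m') (Additive.toMul z)) =
        Additive.ofMul (b₅ (Additive.toMul m) (Additive.toMul z)) +
          Additive.ofMul (b₅ (Additive.toMul m') (Additive.toMul z))
      rw [map_mul]
      rfl)
  have hff : ∀ (r : ℤ) (m : Additive (Abelianization Q₁)) (n : Additive (Abelianization Q₂)),
      ff (r • m) n = ff m (r • n) := by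
    intro r m n
    rw [map_zsmul, map_zsmul]
    rfl
  let θ : TensorProduct ℤ (Additive (Abelianization Q₁)) (Additive (Abelianization Q₂)) →+
      Additive ρ.ker := TensorProduct.liftAddHom ff hff
  let θ' : Multiplicative (TensorProduct ℤ (Additive (Abelianization Q₁))
      (Additive (Abelianization Q₂))) →* ρ.ker := AddMonoidHom.toMultiplicativeLeft θ
  have hθ' : ∀ q₁ q₂, θ' (Multiplicative.ofAdd
      ((Additive.ofMul (Abelianization.of q₁)) ⊗ₜ[ℤ] (Additive.ofMul (Abelianization.of q₂)))) =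
      bfun q₁ q₂ := by
    intro q₁ q₂
    show Additive.toMul (θ ((Additive.ofMul (Abelianization.of q₁)) ⊗ₜ[ℤ]
      (Additive.ofMul (Abelianization.of q₂)))) = bfun q₁ q₂
    rw [TensorProduct.liftAddHom_tmul]
    exact hb₅ q₁ q₂
  -- decomposition of commutators
  have hDec : ∀ g : E, g ∈ commutator E → ∃ (t : Multiplicative (TensorProduct ℤ
      (Additive (Abelianization Q₁)) (Additive (Abelianization Q₂)))) (c₂ : E₂) (c₁ : E₁),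
      c₂ ∈ commutator E₂ ∧ c₁ ∈ commutator E₁ ∧ g = (θ' t).1 * c₂.1 * c₁.1 := by
    intro g hg
    rw [commutator_eq_closure] at hg
    induction hg using Subgroup.closure_induction with
    | mem g hg =>
      obtain ⟨u, v, rfl⟩ := hg
      -- decompose u and v
      obtain ⟨x₁, hx₁⟩ : ∃ x : E, ρ x = (ρ₁ u, 1) := hρs _
      obtain ⟨x₂, hx₂⟩ : ∃ x : E, ρ x = (ρ₁ v, 1) := hρs _
      have hx₁1 : ρ₁ x₁ = ρ₁ u := by
        have h := congrArg Prod.fst hx₁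
        exact h
      have hx₁2 : ρ₂ x₁ = 1 := by
        have h := congrArg Prod.snd hx₁
        exact h
      have hx₂1 : ρ₁ x₂ = ρ₁ v := by
        have h := congrArg Prod.fst hx₂
        exact h
      have hx₂2 : ρ₂ x₂ = 1 := by
        have h := congrArg Prod.snd hx₂
        exact h
      obtain ⟨y₁, hy₁def⟩ : ∃ y : E, y = x₁⁻¹ * u := ⟨_, rfl⟩
      obtain ⟨y₂, hy₂def⟩ : ∃ y : E, y = x₂⁻¹ * v := ⟨_, rfl⟩
      have hy₁1 : ρ₁ y₁ = 1 := by rw [hy₁def, map_mul, map_inv, hx₁1, inv_mul_cancel]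
      have hy₂1 : ρ₁ y₂ = 1 := by rw [hy₂def, map_mul, map_inv, hx₂1, inv_mul_cancel]
      have hu : u = x₁ * y₁ := by rw [hy₁def]; group
      have hv : v = x₂ * y₂ := by rw [hy₂def]; group
      -- the four pieces
      have hd₁ : ⁅y₁, x₂⁆ ∈ ρ.ker := f1' _ _ hy₁1 hx₂2
      have hd₂ : ⁅x₁, y₂⁆ ∈ ρ.ker := f1 _ _ hx₁2 hy₂1
      have hA2 : ⁅y₁, x₂ * y₂⁆ = ⁅y₁, x₂⁆ * ⁅y₁, y₂⁆ := by
        have h1 : ⁅y₁, x₂ * y₂⁆ = ⁅y₁, x₂⁆ * (x₂ * ⁅y₁, y₂⁆ * x₂⁻¹) := by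
          simp only [commutatorElement_def]; group
        have h2 : x₂ * ⁅y₁, y₂⁆ = ⁅y₁, y₂⁆ * x₂ :=
          conj_comm ρ hρc x₂ y₁ y₂ (hconj12 x₂ y₁ hx₂2 hy₁1) (hconj12 x₂ y₂ hx₂2 hy₂1)
        rw [h1, h2, mul_inv_cancel_right]
      have hA3 : ⁅x₁, x₂ * y₂⁆ = ⁅x₁, x₂⁆ * ⁅x₁, y₂⁆ := by
        have h1 : ⁅x₁, x₂ * y₂⁆ = ⁅x₁, x₂⁆ * (x₂ * ⁅x₁, y₂⁆ * x₂⁻¹) := by
          simp only [commutatorElement_def]; group
        rw [h1, hcen _ hd₂ x₂, mul_inv_cancel_right]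
      have hA1 : ⁅x₁ * y₁, x₂ * y₂⁆ = x₁ * ⁅y₁, x₂ * y₂⁆ * x₁⁻¹ * ⁅x₁, x₂ * y₂⁆ := by
        simp only [commutatorElement_def]; group
      have hA4 : x₁ * (⁅y₁, x₂⁆ * ⁅y₁, y₂⁆) * x₁⁻¹ = ⁅y₁, x₂⁆ * ⁅y₁, y₂⁆ := by
        have h2 : x₁ * ⁅y₁, y₂⁆ = ⁅y₁, y₂⁆ * x₁ :=
          conj_comm ρ hρc x₁ y₁ y₂ (hconj12 x₁ y₁ hx₁2 hy₁1) (hconj12 x₁ y₂ hx₁2 hy₂1)
        calc x₁ * (⁅y₁, x₂⁆ * ⁅y₁, y₂⁆) * x₁⁻¹ = (x₁ * ⁅y₁, x₂⁆) * ⁅y₁, y₂⁆ * x₁⁻¹ := by group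
          _ = ⁅y₁, x₂⁆ * (x₁ * ⁅y₁, y₂⁆) * x₁⁻¹ := by rw [hcen _ hd₁ x₁]; group
          _ = ⁅y₁, x₂⁆ * ⁅y₁, y₂⁆ := by rw [h2]; group
      have hmain : ⁅u, v⁆ = ⁅x₁, y₂⁆ * ⁅y₁, x₂⁆ * ⁅y₁, y₂⁆ * ⁅x₁, x₂⁆ := by
        rw [hu, hv, hA1, hA2, hA4, hA3]
        calc ⁅y₁, x₂⁆ * ⁅y₁, y₂⁆ * (⁅x₁, x₂⁆ * ⁅x₁, y₂⁆)
            = (⁅y₁, x₂⁆ * ⁅y₁, y₂⁆ * ⁅x₁, x₂⁆) * ⁅x₁, y₂⁆ := by group
          _ = ⁅x₁, y₂⁆ * (⁅y₁, x₂⁆ * ⁅y₁, y₂⁆ * ⁅x₁, x₂⁆) := hcen _ hd₂ _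
          _ = ⁅x₁, y₂⁆ * ⁅y₁, x₂⁆ * ⁅y₁, y₂⁆ * ⁅x₁, x₂⁆ := by group
      -- express the central part through θ'
      have ht₁ : ⁅x₁, y₂⁆ = (θ' (Multiplicative.ofAdd ((Additive.ofMul (Abelianization.of (ρ₁ x₁)))
          ⊗ₜ[ℤ] (Additive.ofMul (Abelianization.of (ρ₂ y₂)))))).1 := by
        rw [hθ']; exact f3 _ _ hx₁2 hy₂1
      have ht₂ : ⁅y₁, x₂⁆ = ((θ' (Multiplicative.ofAdd ((Additive.ofMul
          (Abelianization.of (ρ₁ x₂))) ⊗ₜ[ℤ]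
          (Additive.ofMul (Abelianization.of (ρ₂ y₁))))))⁻¹).1 := by
        rw [hθ', ← commutatorElement_inv]
        show (⁅x₂, y₁⁆)⁻¹ = ((bfun (ρ₁ x₂) (ρ₂ y₁)).1)⁻¹
        rw [← f3 _ _ hx₂2 hy₁1]
      refine ⟨Multiplicative.ofAdd ((Additive.ofMul (Abelianization.of (ρ₁ x₁)))
          ⊗ₜ[ℤ] (Additive.ofMul (Abelianization.of (ρ₂ y₂)))) *
          (Multiplicative.ofAdd ((Additive.ofMul (Abelianization.of (ρ₁ x₂))) ⊗ₜ[ℤ]
          (Additive.ofMul (Abelianization.of (ρ₂ y₁)))))⁻¹,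
        ⁅(⟨y₁, hy₁1⟩ : E₂), ⟨y₂, hy₂1⟩⁆, ⁅(⟨x₁, hx₁2⟩ : E₁), ⟨x₂, hx₂2⟩⁆, ?_, ?_, ?_⟩
      · rw [commutator_def]
        exact Subgroup.commutator_mem_commutator (Subgroup.mem_top _) (Subgroup.mem_top _)
      · rw [commutator_def]
        exact Subgroup.commutator_mem_commutator (Subgroup.mem_top _) (Subgroup.mem_top _)
      · rw [hmain, map_mul, map_inv]
        show ⁅x₁, y₂⁆ * ⁅y₁, x₂⁆ * ⁅y₁, y₂⁆ * ⁅x₁, x₂⁆ = _ * _ * ⁅y₁, y₂⁆ * ⁅x₁, x₂⁆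
        rw [ht₁, ht₂]
    | one =>
      refine ⟨1, 1, 1, Subgroup.one_mem _, Subgroup.one_mem _, ?_⟩
      rw [map_one]
      show (1 : E) = 1 * 1 * 1
      rw [mul_one, mul_one]
    | mul g g' _ _ hg hg' =>
      obtain ⟨t, c₂, c₁, hc₂, hc₁, rfl⟩ := hg
      obtain ⟨t', c₂', c₁', hc₂', hc₁', rfl⟩ := hg'
      refine ⟨t' * t, c₂ * c₂', c₁ * c₁', Subgroup.mul_mem _ hc₂ hc₂', Subgroup.mul_mem _ hc₁ hc₁',
        ?_⟩
      have h1 := hcen _ (θ' t').2 ((θ' t).1 * c₂.1 * c₁.1)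
      have h2 : c₂'.1 * c₁.1 = c₁.1 * c₂'.1 := hCen1 c₂'.1 c₂'.2 c₁ hc₁
      rw [map_mul]
      show (θ' t).1 * c₂.1 * c₁.1 * ((θ' t').1 * c₂'.1 * c₁'.1) =
        (θ' t').1 * (θ' t).1 * (c₂.1 * c₂'.1) * (c₁.1 * c₁'.1)
      calc (θ' t).1 * c₂.1 * c₁.1 * ((θ' t').1 * c₂'.1 * c₁'.1)
          = ((θ' t).1 * c₂.1 * c₁.1 * (θ' t').1) * (c₂'.1 * c₁'.1) := by group
        _ = ((θ' t').1 * ((θ' t).1 * c₂.1 * c₁.1)) * (c₂'.1 * c₁'.1) := by rw [h1]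
        _ = (θ' t').1 * (θ' t).1 * c₂.1 * (c₁.1 * c₂'.1) * c₁'.1 := by group
        _ = (θ' t').1 * (θ' t).1 * c₂.1 * (c₂'.1 * c₁.1) * c₁'.1 := by rw [h2]
        _ = (θ' t').1 * (θ' t).1 * (c₂.1 * c₂'.1) * (c₁.1 * c₁'.1) := by group
    | inv g _ hg =>
      obtain ⟨t, c₂, c₁, hc₂, hc₁, rfl⟩ := hg
      refine ⟨t⁻¹, c₂⁻¹, c₁⁻¹, Subgroup.inv_mem _ hc₂, Subgroup.inv_mem _ hc₁, ?_⟩
      have hki : ((θ' t).1)⁻¹ ∈ ρ.ker := Subgroup.inv_mem _ (θ' t).2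
      have h1 := hcen _ hki (c₁.1⁻¹ * c₂.1⁻¹)
      have h2 : c₂.1⁻¹ * c₁.1⁻¹ = c₁.1⁻¹ * c₂.1⁻¹ := by
        have h3 := hCen1 (c₂.1⁻¹) (by rw [map_inv, c₂.2, inv_one]) (c₁⁻¹) (Subgroup.inv_mem _ hc₁)
        exact h3
      rw [map_inv]
      show ((θ' t).1 * c₂.1 * c₁.1)⁻¹ = ((θ' t).1)⁻¹ * c₂.1⁻¹ * c₁.1⁻¹
      calc ((θ' t).1 * c₂.1 * c₁.1)⁻¹ = (c₁.1⁻¹ * c₂.1⁻¹) * ((θ' t).1)⁻¹ := by group
        _ = ((θ' t).1)⁻¹ * (c₁.1⁻¹ * c₂.1⁻¹) := h1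
        _ = ((θ' t).1)⁻¹ * (c₂.1⁻¹ * c₁.1⁻¹) := by rw [h2]
        _ = ((θ' t).1)⁻¹ * c₂.1⁻¹ * c₁.1⁻¹ := by group
  -- assemble
  refine ⟨(ι₁.comp π₁).coprod ((ι₂.comp π₂).coprod θ'), ?_⟩
  intro k
  obtain ⟨t, c₂, c₁, hc₂, hc₁, hk⟩ := hDec k.1 (hρd k.2)
  have hρk : ρ k.1 = 1 := k.2
  have hρt : ρ (θ' t).1 = 1 := (θ' t).2
  have hprod : ρ₁ c₁.1 = 1 ∧ ρ₂ c₂.1 = 1 := by
    have h1 : ρ ((θ' t).1 * c₂.1 * c₁.1) = 1 := by rw [← hk]; exact hρk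
    rw [map_mul, map_mul, hρt, one_mul] at h1
    have h3 : ρ₁ c₂.1 * ρ₁ c₁.1 = 1 := congrArg Prod.fst h1
    have h4 : ρ₂ c₂.1 * ρ₂ c₁.1 = 1 := congrArg Prod.snd h1
    have h5 : ρ₁ c₂.1 = 1 := c₂.2
    have h6 : ρ₂ c₁.1 = 1 := c₁.2
    rw [h5, one_mul] at h3
    rw [h6, mul_one] at h4
    exact ⟨h3, h4⟩
  obtain ⟨a, ha⟩ := hπ₁ ⟨c₁, hprod.1, hc₁⟩
  obtain ⟨b, hb⟩ := hπ₂ ⟨c₂, hprod.2, hc₂⟩
  refine ⟨(a, b, t), ?_⟩
  apply Subtype.ext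
  rw [hk]
  show (ι₁ (π₁ a)).1 * ((ι₂ (π₂ b)).1 * (θ' t).1) = (θ' t).1 * c₂.1 * c₁.1
  rw [ha, hb]
  show c₁.1 * (c₂.1 * (θ' t).1) = (θ' t).1 * c₂.1 * c₁.1
  have h7 : c₂.1 * c₁.1 = c₁.1 * c₂.1 := hCen1 c₂.1 c₂.2 c₁ hc₁
  have h8 := hcen _ (θ' t).2 (c₁.1 * c₂.1)
  calc c₁.1 * (c₂.1 * (θ' t).1) = (c₁.1 * c₂.1) * (θ' t).1 := by group
    _ = (θ' t).1 * (c₁.1 * c₂.1) := h8
    _ = (θ' t).1 * (c₂.1 * c₁.1) := by rw [h7]
    _ = (θ' t).1 * c₂.1 * c₁.1 := by group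

theorem prod_cover {Q₁ : Type u} {Q₂ : Type v} [Group Q₁] [Group Q₂] [Finite Q₁] [Finite Q₂]
    {Γ₁ : Type u} [Group Γ₁] [Finite Γ₁] (σ₁ : Γ₁ →* Q₁) (hσ₁ : Cfsg.IsStemExtension σ₁)
    {Γ₂ : Type v} [Group Γ₂] [Finite Γ₂] (σ₂ : Γ₂ →* Q₂) (hσ₂ : Cfsg.IsStemExtension σ₂) :
    ∃ (Γ : Type (max u v)) (_ : Group Γ) (_ : Finite Γ) (σ : Γ →* Q₁ × Q₂),
      Cfsg.IsStemExtension σ ∧
      Nonempty (σ.ker ≃* σ₁.ker × σ₂.ker × Multiplicative (TensorProduct ℤ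
        (Additive (Abelianization Q₁)) (Additive (Abelianization Q₂)))) := by
  classical
  obtain ⟨hσ₁s, hσ₁c, hσ₁d⟩ := hσ₁
  obtain ⟨hσ₂s, hσ₂c, hσ₂d⟩ := hσ₂
  let M₁ := Additive (Abelianization Q₁)
  let M₂ := Additive (Abelianization Q₂)
  let TT := TensorProduct ℤ M₁ M₂
  let T' := Multiplicative TT
  have hTTfin : Module.Finite ℤ TT := Module.Finite.tensorProduct ℤ _ _
  have hTfin : Finite TT := by
    apply Module.finite_of_fg_torsion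
    intro t
    have hpos : 0 < Nat.card M₁ := Nat.card_pos
    refine ⟨⟨(Nat.card M₁ : ℤ), mem_nonZeroDivisors_of_ne_zero (by exact_mod_cast hpos.ne')⟩, ?_⟩
    show (Nat.card M₁ : ℤ) • t = 0
    induction t using TensorProduct.induction_on with
    | zero => exact smul_zero _
    | tmul x y =>
      rw [TensorProduct.smul_tmul', natCast_zsmul, card_nsmul_eq_zero', TensorProduct.zero_tmul]
    | add a b ha hb => rw [smul_add, ha, hb, add_zero]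
  have hTfin' : Finite T' := hTfin
  let a₁ : Γ₁ → M₁ := fun g => Additive.ofMul (Abelianization.of (σ₁ g))
  let a₂ : Γ₂ → M₂ := fun g => Additive.ofMul (Abelianization.of (σ₂ g))
  have ha₁mul : ∀ g g', a₁ (g * g') = a₁ g + a₁ g' := fun g g' => by
    show Additive.ofMul (Abelianization.of (σ₁ (g * g'))) = _
    rw [map_mul, map_mul]; rfl
  have ha₂mul : ∀ g g', a₂ (g * g') = a₂ g + a₂ g' := fun g g' => by
    show Additive.ofMul (Abelianization.of (σ₂ (g * g'))) = _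
    rw [map_mul, map_mul]; rfl
  have ha₁ker : ∀ g, σ₁ g = 1 → a₁ g = 0 := fun g h => by
    show Additive.ofMul (Abelianization.of (σ₁ g)) = 0
    rw [h, map_one]; rfl
  have ha₂ker : ∀ g, σ₂ g = 1 → a₂ g = 0 := fun g h => by
    show Additive.ofMul (Abelianization.of (σ₂ g)) = 0
    rw [h, map_one]; rfl
  let c : Γ₁ → Γ₂ → T' := fun g₁ g₂ => Multiplicative.ofAdd (a₁ g₁ ⊗ₜ[ℤ] a₂ g₂)
  have hc1 : ∀ g g' h, c (g * g') h = c g h * c g' h := fun g g' h => by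
    show Multiplicative.ofAdd (a₁ (g * g') ⊗ₜ[ℤ] a₂ h) = _
    rw [ha₁mul, TensorProduct.add_tmul]; rfl
  have hc2 : ∀ g h h', c g (h * h') = c g h * c g h' := fun g h h' => by
    show Multiplicative.ofAdd (a₁ g ⊗ₜ[ℤ] a₂ (h * h')) = _
    rw [ha₂mul, TensorProduct.tmul_add]; rfl
  have hc1ker : ∀ g h, σ₁ g = 1 → c g h = 1 := fun g h hg => by
    show Multiplicative.ofAdd (a₁ g ⊗ₜ[ℤ] a₂ h) = 1
    rw [ha₁ker g hg, TensorProduct.zero_tmul]; rfl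
  have hc2ker : ∀ g h, σ₂ h = 1 → c g h = 1 := fun g h hh => by
    show Multiplicative.ofAdd (a₁ g ⊗ₜ[ℤ] a₂ h) = 1
    rw [ha₂ker h hh, TensorProduct.tmul_zero]; rfl
  let φfun : Γ₁ → MulAut (Γ₂ × T') := fun g₁ =>
    { toFun := fun x => (x.1, x.2 * c g₁ x.1)
      invFun := fun x => (x.1, x.2 * (c g₁ x.1)⁻¹)
      left_inv := fun x => Prod.ext rfl (mul_inv_cancel_right _ _)
      right_inv := fun x => Prod.ext rfl (inv_mul_cancel_right _ _)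
      map_mul' := fun x y => Prod.ext rfl (by
        show x.2 * y.2 * c g₁ (x.1 * y.1) = x.2 * c g₁ x.1 * (y.2 * c g₁ y.1)
        rw [hc2, mul_mul_mul_comm]) }
  let φ : Γ₁ →* MulAut (Γ₂ × T') := MonoidHom.mk' φfun (by
    intro g g'
    apply MulEquiv.ext
    intro x
    apply Prod.ext
    · rfl
    · show x.2 * c (g * g') x.1 = x.2 * c g' x.1 * c g x.1
      rw [hc1, mul_comm (c g x.1) (c g' x.1), mul_assoc])
  have hφapp : ∀ g (x : Γ₂ × T'), φ g x = (x.1, x.2 * c g x.1) := fun g x => rfl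
  let Γ := SemidirectProduct (Γ₂ × T') Γ₁ φ
  have hΓfin : Finite Γ := Finite.of_equiv _ SemidirectProduct.equivProd.symm
  let σ : Γ →* Q₁ × Q₂ :=
    { toFun := fun w => (σ₁ w.right, σ₂ w.left.1)
      map_one' := by
        show (σ₁ 1, σ₂ 1) = 1
        rw [map_one, map_one]; rfl
      map_mul' := by
        intro a b
        show (σ₁ (a.right * b.right), σ₂ (a.left.1 * b.left.1)) =
          (σ₁ a.right, σ₂ a.left.1) * (σ₁ b.right, σ₂ b.left.1)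
        rw [map_mul, map_mul]; rfl }
  have hσs : Function.Surjective σ := by
    rintro ⟨q₁, q₂⟩
    obtain ⟨g₁, hg₁⟩ := hσ₁s q₁
    obtain ⟨g₂, hg₂⟩ := hσ₂s q₂
    exact ⟨⟨(g₂, 1), g₁⟩, Prod.ext hg₁ hg₂⟩
  have hkermem : ∀ w : Γ, w ∈ σ.ker ↔ σ₁ w.right = 1 ∧ σ₂ w.left.1 = 1 := by
    intro w
    rw [MonoidHom.mem_ker, Prod.ext_iff]
    rfl
  have hσc : σ.ker ≤ Subgroup.center Γ := by
    intro w hw
    obtain ⟨h1, h2⟩ := (hkermem w).mp hw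
    rw [Subgroup.mem_center_iff]
    intro v
    apply SemidirectProduct.ext
    · show v.left * φ v.right w.left = w.left * φ w.right v.left
      rw [hφapp, hφapp]
      apply Prod.ext
      · show v.left.1 * w.left.1 = w.left.1 * v.left.1
        exact Subgroup.mem_center_iff.mp (hσ₂c (MonoidHom.mem_ker.mpr h2)) v.left.1
      · show v.left.2 * (w.left.2 * c v.right w.left.1) =
          w.left.2 * (v.left.2 * c w.right v.left.1)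
        rw [hc2ker _ _ h2, hc1ker _ _ h1, mul_one, mul_one, mul_comm]
    · show v.right * w.right = w.right * v.right
      exact Subgroup.mem_center_iff.mp (hσ₁c (MonoidHom.mem_ker.mpr h1)) v.right
  let jl : Γ₂ × T' →* Γ := SemidirectProduct.inl
  let jr : Γ₁ →* Γ := SemidirectProduct.inr
  have hdecomp : ∀ w : Γ, w = jl (w.left.1, 1) * jl (1, w.left.2) * jr w.right := by
    intro w
    rw [← map_mul]
    have h0 : ((w.left.1, (1 : T')) * ((1 : Γ₂), w.left.2) : Γ₂ × T') = w.left :=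
      Prod.ext (mul_one _) (one_mul _)
    rw [h0]
    exact (SemidirectProduct.inl_left_mul_inr_right w).symm
  have hj2 : ∀ g₂ : Γ₂, g₂ ∈ commutator Γ₂ → jl (g₂, 1) ∈ commutator Γ := by
    intro g₂ hg
    exact Cfsg.Agent.S3980.map_comm_le (jl.comp (MonoidHom.inl Γ₂ T'))
      (Subgroup.mem_map_of_mem _ hg)
  have hjr : ∀ g₁ : Γ₁, g₁ ∈ commutator Γ₁ → jr g₁ ∈ commutator Γ := by
    intro g₁ hg
    exact Cfsg.Agent.S3980.map_comm_le jr (Subgroup.mem_map_of_mem _ hg)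
  have hcomm_t : ∀ g₁ g₂, jl (1, c g₁ g₂) = ⁅jr g₁, jl (g₂, 1)⁆ := by
    intro g₁ g₂
    have h1 : jr g₁ * jl (g₂, 1) * (jr g₁)⁻¹ = jl (φ g₁ (g₂, 1)) := by
      rw [SemidirectProduct.inl_aut, map_inv]
    rw [commutatorElement_def, h1, ← map_inv, ← map_mul, hφapp]
    congr 1
    apply Prod.ext
    · show (1 : Γ₂) = g₂ * g₂⁻¹
      rw [mul_inv_cancel]
    · show c g₁ g₂ = (1 * c g₁ g₂) * (1 : T')⁻¹
      rw [one_mul, inv_one, mul_one]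
  have hjt : ∀ t : T', jl (1, t) ∈ commutator Γ := by
    intro t
    have key : ∀ s : TT, jl (1, Multiplicative.ofAdd s) ∈ commutator Γ := by
      intro s
      induction s using TensorProduct.induction_on with
      | zero =>
        have h0 : jl ((1 : Γ₂), Multiplicative.ofAdd (0 : TT)) = 1 := map_one jl
        rw [h0]; exact Subgroup.one_mem _
      | tmul x y =>
        obtain ⟨q₁, hq₁⟩ := QuotientGroup.mk'_surjective (commutator Q₁) (Additive.toMul x)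
        obtain ⟨q₂, hq₂⟩ := QuotientGroup.mk'_surjective (commutator Q₂) (Additive.toMul y)
        obtain ⟨g₁, hg₁⟩ := hσ₁s q₁
        obtain ⟨g₂, hg₂⟩ := hσ₂s q₂
        have hx : x = a₁ g₁ := by
          show x = Additive.ofMul (Abelianization.of (σ₁ g₁))
          rw [hg₁]; exact (congrArg Additive.ofMul hq₁).symm
        have hy : y = a₂ g₂ := by
          show y = Additive.ofMul (Abelianization.of (σ₂ g₂))
          rw [hg₂]; exact (congrArg Additive.ofMul hq₂).symm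
        have h0 : jl ((1 : Γ₂), Multiplicative.ofAdd (x ⊗ₜ[ℤ] y)) = ⁅jr g₁, jl (g₂, 1)⁆ := by
          rw [hx, hy]; exact hcomm_t g₁ g₂
        rw [h0, commutator_def]
        exact Subgroup.commutator_mem_commutator (Subgroup.mem_top _) (Subgroup.mem_top _)
      | add s s' hs hs' =>
        have h0 : (((1 : Γ₂), Multiplicative.ofAdd (s + s')) : Γ₂ × T') =
            (1, Multiplicative.ofAdd s) * (1, Multiplicative.ofAdd s') :=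
          Prod.ext (mul_one 1).symm rfl
        rw [h0, map_mul]; exact Subgroup.mul_mem _ hs hs'
    exact key (Multiplicative.toAdd t)
  have hσd : σ.ker ≤ commutator Γ := by
    intro w hw
    obtain ⟨h1, h2⟩ := (hkermem w).mp hw
    rw [hdecomp w]
    exact Subgroup.mul_mem _ (Subgroup.mul_mem _ (hj2 _ (hσ₂d (MonoidHom.mem_ker.mpr h2)))
      (hjt _)) (hjr _ (hσ₁d (MonoidHom.mem_ker.mpr h1)))
  let Φ : σ.ker →* σ₁.ker × σ₂.ker × T' := MonoidHom.mk' (fun w =>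
      (⟨w.1.right, ((hkermem w.1).mp w.2).1⟩, ⟨w.1.left.1, ((hkermem w.1).mp w.2).2⟩,
        w.1.left.2)) (by
    intro w v
    apply Prod.ext
    · apply Subtype.ext; rfl
    · apply Prod.ext
      · apply Subtype.ext; rfl
      · show w.1.left.2 * (v.1.left.2 * c w.1.right v.1.left.1) = w.1.left.2 * v.1.left.2
        rw [hc1ker _ _ ((hkermem w.1).mp w.2).1, mul_one])
  have hΦbij : Function.Bijective Φ := by
    constructor
    · intro w v h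
      have h1 : w.1.right = v.1.right := congrArg (fun p => (p.1 : Γ₁)) h
      have h2 : w.1.left.1 = v.1.left.1 := congrArg (fun p => (p.2.1 : Γ₂)) h
      have h3 : w.1.left.2 = v.1.left.2 := congrArg (fun p => p.2.2) h
      apply Subtype.ext
      apply SemidirectProduct.ext
      · exact Prod.ext h2 h3
      · exact h1
    · rintro ⟨z₁, z₂, t⟩
      exact ⟨⟨⟨(z₂.1, t), z₁.1⟩, (hkermem _).mpr ⟨z₁.2, z₂.2⟩⟩, rfl⟩
  exact ⟨Γ, inferInstance, hΓfin, σ, ⟨hσs, hσc, hσd⟩, ⟨MulEquiv.ofBijective Φ hΦbij⟩⟩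

/-- Let `Q₁` and `Q₂` be finite groups with Schur multipliers `A` and `B`. Then the Schur multiplier of `Q₁ × Q₂` is isomorphic to `A × B × (Q₁ᵃᵇ ⊗ Q₂ᵃᵇ)`, the last factor being the tensor product over the integers of the commutator quotients, written multiplicatively. -/
theorem result {Q₁ : Type u} {Q₂ : Type v} [Group Q₁] [Group Q₂] [Finite Q₁] [Finite Q₂] {A B : Type w} [CommGroup A] [CommGroup B] (hA : Cfsg.HasSchurMultiplier Q₁ A) (hB : Cfsg.HasSchurMultiplier Q₂ B) : Cfsg.HasSchurMultiplier (Q₁ × Q₂) (A × B × Multiplicative (TensorProduct ℤ (Additive (Abelianization Q₁)) (Additive (Abelianization Q₂)))) := by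
  have hA' := hA
  have hB' := hB
  obtain ⟨⟨Γ₁, hG1, hF1, σ₁, hσ₁, ⟨ek₁⟩⟩, -⟩ := hA'
  obtain ⟨⟨Γ₂, hG2, hF2, σ₂, hσ₂, ⟨ek₂⟩⟩, -⟩ := hB'
  obtain ⟨Γ, hG, hF, σ, hσ, ⟨ek⟩⟩ := prod_cover σ₁ hσ₁ σ₂ hσ₂
  refine ⟨⟨Γ, hG, hF, σ, hσ,
    ⟨ek.trans (MulEquiv.prodCongr ek₁ (MulEquiv.prodCongr ek₂ (MulEquiv.refl _)))⟩⟩, ?_⟩
  intro E _ _ ρ hρ
  exact prod_upper hA hB E ρ hρ

end Cfsg.Agent.S3959
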