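import Cfsg.Statements.S3960
import Mathlib
import Cfsg.Agent.S3961

set_option autoImplicit false
universe u
open Cfsg

namespace Cfsg.Agent.S3960

open scoped commutatorElement

/-- A finite perfect group `Q` has a universal central extension: a finite perfect group `G` in the universe of `Q` and a surjective homomorphism `π : G →* Q` with central kernel such that for every group `X` in that universe and every surjective homomorphism `ξ : X →* Q` with central kernel there is exactly one homomorphism `η : G →* X` with `ξ ∘ η = π`. -/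
theorem result {Q : Type u} [Group Q] [Finite Q] (hQ : Group.IsPerfect Q) : ∃ (G : Type u) (_ : Group G) (_ : Finite G) (π : G →* Q), Group.IsPerfect G ∧ Function.Surjective π ∧ π.ker ≤ Subgroup.center G ∧ ∀ (X : Type u) [Group X] (ξ : X →* Q), Function.Surjective ξ → ξ.ker ≤ Subgroup.center X → ∃! η : G →* X, ξ.comp η = π := by
  classical
  have hQp : commutator Q = ⊤ := hQ.commutator_eq_top
  let S : Set ℕ := {n | ∃ (G : Type u) (_ : Group G) (_ : Finite G) (π : G →* Q),
      Cfsg.IsStemExtension π ∧ Nat.card π.ker = n}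
  have hSne : S.Nonempty := by
    refine ⟨1, Q, inferInstance, inferInstance, MonoidHom.id Q,
      ⟨Function.surjective_id, ?_, ?_⟩, ?_⟩
    · intro x hx
      have h : x = 1 := MonoidHom.mem_ker.mp hx
      rw [h]; exact Subgroup.one_mem _
    · intro x hx
      have h : x = 1 := MonoidHom.mem_ker.mp hx
      rw [h]; exact Subgroup.one_mem _
    · have hsub : Subsingleton (MonoidHom.id Q).ker :=
        ⟨fun a b => Subtype.ext ((MonoidHom.mem_ker.mp a.2 : (a : Q) = 1).trans
          (MonoidHom.mem_ker.mp b.2 : (b : Q) = 1).symm)⟩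
      exact Nat.card_eq_one_iff_unique.mpr ⟨hsub, ⟨1⟩⟩
  have hSbdd : BddAbove S := by
    refine ⟨(Finset.range (Nat.card Q * Nat.card Q + 1)).sup Subgroup.cardCommutatorBound, ?_⟩
    rintro n ⟨G, _, _, π, ⟨hπs, hπc, hπd⟩, rfl⟩
    have h1 : Nat.card π.ker ≤ Nat.card (commutator G) := by
      apply Nat.card_le_card_of_injective (fun k : π.ker => (⟨k.1, hπd k.2⟩ : commutator G))
      intro a b hab
      exact Subtype.ext (congrArg (fun t : commutator G => (t : G)) hab)
    have h2 := Subgroup.card_commutator_le_of_finite_commutatorSet (G := G)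
    have h3 : Nat.card (commutatorSet G) ≤ Nat.card Q * Nat.card Q := by
      have hs : ∀ q, π (Function.surjInv hπs q) = q := Function.surjInv_eq hπs
      rw [← Nat.card_prod]
      apply Nat.card_le_card_of_surjective (fun qq : Q × Q =>
        (⟨⁅Function.surjInv hπs qq.1, Function.surjInv hπs qq.2⁆, ⟨_, _, rfl⟩⟩ : commutatorSet G))
      rintro ⟨c, a, b, rfl⟩
      exact ⟨(π a, π b), Subtype.ext (Cfsg.Agent.S3961.comm_congr π hπc (hs _) (hs _))⟩
    have h4 : Subgroup.cardCommutatorBound (Nat.card (commutatorSet G))
        ≤ (Finset.range (Nat.card Q * Nat.card Q + 1)).sup Subgroup.cardCommutatorBound :=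
      Finset.le_sup (f := Subgroup.cardCommutatorBound)
        (Finset.mem_range.mpr (Nat.lt_succ_of_le h3))
    exact h1.trans (h2.trans h4)
  have hmem : sSup S ∈ S := Nat.sSup_mem hSne hSbdd
  obtain ⟨G, hGg, hGf, π, hπ, hcard⟩ := hmem
  have hmax : ∀ n ∈ S, n ≤ Nat.card π.ker := by
    intro n hn; rw [hcard]; exact le_csSup hSbdd hn
  have hπ' := hπ
  obtain ⟨hπs, hπc, hπd⟩ := hπ'
  have hmapπ : (commutator G).map π = commutator Q := by
    rw [commutator_def, commutator_def, Subgroup.map_commutator,
      Subgroup.map_top_of_surjective _ hπs]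
  have hGpm : ∀ x : G, x ∈ commutator G := by
    intro x
    have hx : π x ∈ (commutator G).map π := by
      rw [hmapπ, hQp]; exact Subgroup.mem_top _
    obtain ⟨c, hc, hcx⟩ := Subgroup.mem_map.mp hx
    have hk : c⁻¹ * x ∈ π.ker := by
      rw [MonoidHom.mem_ker, map_mul, map_inv, hcx, inv_mul_cancel]
    have h := (commutator G).mul_mem hc (hπd hk)
    rwa [mul_inv_cancel_left] at h
  have hGp : commutator G = ⊤ := by
    rw [eq_top_iff]; intro x _; exact hGpm x
  have hGperf : Group.IsPerfect G := ⟨hGp⟩
  have hker := hπc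
  have hM : Cfsg.HasCyclicSchurMultiplier G 1 := by
    refine And.intro ?_ ?_
    · refine ⟨G, inferInstance, inferInstance, MonoidHom.id G,
        ⟨Function.surjective_id, ?_, ?_⟩, ⟨?_⟩⟩
      · intro x hx
        have h : x = 1 := MonoidHom.mem_ker.mp hx
        rw [h]; exact Subgroup.one_mem _
      · intro x hx
        have h : x = 1 := MonoidHom.mem_ker.mp hx
        rw [h]; exact Subgroup.one_mem _
      · exact
          { toFun := fun _ => 1
            invFun := fun _ => 1
            left_inv := fun x => Subtype.ext (MonoidHom.mem_ker.mp x.2).symm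
            right_inv := fun y => Subsingleton.elim _ _
            map_mul' := fun _ _ => (mul_one _).symm }
    · intro E _ _ ρ hρ
      obtain ⟨hρs, hρc, hρd⟩ := hρ
      have hker1 : ∀ x ∈ ρ.ker, x = 1 := by
        have hmapρ : (commutator E).map ρ = commutator G := by
          rw [commutator_def, commutator_def, Subgroup.map_commutator,
            Subgroup.map_top_of_surjective _ hρs]
        have hEp : ∀ x : E, x ∈ commutator E := by
          intro x
          have hx : ρ x ∈ (commutator E).map ρ := by
            rw [hmapρ, hGp]; exact Subgroup.mem_top _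
          obtain ⟨c, hc, hcx⟩ := Subgroup.mem_map.mp hx
          have hk : c⁻¹ * x ∈ ρ.ker := by
            rw [MonoidHom.mem_ker, map_mul, map_inv, hcx, inv_mul_cancel]
          have h := (commutator E).mul_mem hc (hρd hk)
          rwa [mul_inv_cancel_left] at h
        let N : Subgroup E := (π.comp ρ).ker
        have hNρ : ∀ n ∈ N, ∀ e : E, ⁅n, e⁆ ∈ ρ.ker := by
          intro n hn e
          rw [MonoidHom.mem_ker, map_commutatorElement]
          have hn' : ρ n ∈ π.ker := MonoidHom.mem_ker.mpr (MonoidHom.mem_ker.mp hn)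
          have hc := Subgroup.mem_center_iff.mp (hker hn') (ρ e)
          rw [commutatorElement_eq_one_iff_commute]
          exact hc.symm
        have hNE : ⁅N, (⊤ : Subgroup E)⁆ ≤ ρ.ker := by
          rw [Subgroup.commutator_le]
          intro n hn e _
          exact hNρ n hn e
        have hcenρ : ∀ k ∈ ρ.ker, ∀ e : E, ⁅k, e⁆ = 1 := by
          intro k hk e
          rw [commutatorElement_eq_one_iff_commute]
          exact (Subgroup.mem_center_iff.mp (hρc hk) e).symm
        have h2 : ⁅⁅N, (⊤ : Subgroup E)⁆, (⊤ : Subgroup E)⁆ = ⊥ := by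
          rw [eq_bot_iff, Subgroup.commutator_le]
          intro k hk e _
          rw [Subgroup.mem_bot]
          exact hcenρ k (hNE hk) e
        have h1 : ⁅⁅(⊤ : Subgroup E), N⁆, (⊤ : Subgroup E)⁆ = ⊥ := by
          rw [Subgroup.commutator_comm ⊤ N]; exact h2
        have h3 : ⁅⁅(⊤ : Subgroup E), (⊤ : Subgroup E)⁆, N⁆ = ⊥ :=
          Subgroup.commutator_commutator_eq_bot_of_rotate h1 h2
        have hNcen : N ≤ Subgroup.center E := by
          intro n hn
          rw [Subgroup.mem_center_iff]
          intro e
          have he : e ∈ ⁅(⊤ : Subgroup E), (⊤ : Subgroup E)⁆ := by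
            rw [← commutator_def]; exact hEp e
          have h := Subgroup.commutator_mem_commutator he hn
          rw [h3, Subgroup.mem_bot, commutatorElement_eq_one_iff_commute] at h
          exact h
        have hstem2 : Cfsg.IsStemExtension (π.comp ρ) :=
          ⟨hπs.comp hρs, hNcen, fun y _ => hEp y⟩
        have hle := hmax _ ⟨E, inferInstance, inferInstance, π.comp ρ, hstem2, rfl⟩
        let κ : (π.comp ρ).ker → π.ker := fun y =>
          ⟨ρ y.1, MonoidHom.mem_ker.mpr (MonoidHom.mem_ker.mp y.2)⟩
        have hκs : Function.Surjective κ := by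
          rintro ⟨g, hg⟩
          obtain ⟨y, hy⟩ := hρs g
          refine ⟨⟨y, ?_⟩, Subtype.ext hy⟩
          rw [MonoidHom.mem_ker, MonoidHom.comp_apply, hy]; exact MonoidHom.mem_ker.mp hg
        have hκi : Function.Injective κ := by
          by_contra hni
          haveI := Fintype.ofFinite (π.comp ρ).ker
          haveI := Fintype.ofFinite π.ker
          have hlt := Fintype.card_lt_of_surjective_not_injective κ hκs hni
          rw [← Nat.card_eq_fintype_card, ← Nat.card_eq_fintype_card] at hlt
          omega
        intro x hx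
        have hxm : x ∈ (π.comp ρ).ker := by
          rw [MonoidHom.mem_ker, MonoidHom.comp_apply, MonoidHom.mem_ker.mp hx, map_one]
        have h1 : κ ⟨x, hxm⟩ = κ 1 := by
          apply Subtype.ext
          show ρ x = ρ 1
          rw [MonoidHom.mem_ker.mp hx, map_one]
        exact congrArg Subtype.val (hκi h1)
      refine ⟨1, ?_⟩
      intro y
      exact ⟨1, Subtype.ext (hker1 y.1 y.2).symm⟩
  have huniv := (Cfsg.Agent.S3961.result hGperf π hπs hπc).mpr hM
  refine ⟨G, hGg, hGf, π, hGperf, hπs, hπc, ?_⟩
  intro X _ ξ hξs hξc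
  obtain ⟨η, hη⟩ := huniv X ξ hξs hξc
  refine ⟨η, hη, ?_⟩
  intro η' hη'
  have hEq : Set.EqOn η' η (Subgroup.closure (commutatorSet G)) := by
    apply MonoidHom.eqOn_closure
    rintro c ⟨a, b, rfl⟩
    show η' ⁅a, b⁆ = η ⁅a, b⁆
    rw [map_commutatorElement, map_commutatorElement]
    apply Cfsg.Agent.S3961.comm_congr ξ hξc
    · exact (DFunLike.congr_fun hη' a).trans (DFunLike.congr_fun hη a).symm
    · exact (DFunLike.congr_fun hη' b).trans (DFunLike.congr_fun hη b).symm
  ext g
  apply hEq
  rw [← commutator_eq_closure, hGp]; exact Subgroup.mem_top g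

end Cfsg.Agent.S3960
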