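import Cfsg.Statements.S3962
import Mathlib

set_option autoImplicit false
open Cfsg

namespace Cfsg.Agent.S3962

theorem result {G Q : Type*} [Group G] [Group Q] (hG : Group.IsPerfect G) (π : G →* Q) (hπ : Function.Surjective π) (hker : π.ker ≤ Subgroup.center G) : (Subgroup.center G).map π = Subgroup.center Q := by
  set K : Subgroup G := (Subgroup.center Q).comap π with hKdef
  have hK : ⁅K, (⊤ : Subgroup G)⁆ ≤ π.ker := by
    rw [Subgroup.commutator_le]
    intro k hk x _
    rw [MonoidHom.mem_ker, map_commutatorElement]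
    have hkc : π k ∈ Subgroup.center Q := hk
    rw [commutatorElement_eq_one_iff_commute]
    exact (Subgroup.mem_center_iff.1 hkc (π x)).symm
  have hcent : Subgroup.centralizer ((⊤ : Subgroup G) : Set G) = Subgroup.center G := by
    rw [Subgroup.coe_top, Subgroup.centralizer_univ]
  have h1 : ⁅⁅K, (⊤ : Subgroup G)⁆, (⊤ : Subgroup G)⁆ = ⊥ := by
    rw [Subgroup.commutator_eq_bot_iff_le_centralizer, hcent]
    exact hK.trans hker
  have h2 : ⁅⁅(⊤ : Subgroup G), K⁆, (⊤ : Subgroup G)⁆ = ⊥ := by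
    rw [Subgroup.commutator_comm ⊤ K]; exact h1
  have h3 : ⁅⁅(⊤ : Subgroup G), (⊤ : Subgroup G)⁆, K⁆ = ⊥ :=
    Subgroup.commutator_commutator_eq_bot_of_rotate h2 h1
  have hperf : ⁅(⊤ : Subgroup G), (⊤ : Subgroup G)⁆ = ⊤ := hG.commutator_eq_top
  rw [hperf, Subgroup.commutator_comm, Subgroup.commutator_eq_bot_iff_le_centralizer, hcent] at h3
  apply le_antisymm
  · rintro _ ⟨z, hz, rfl⟩
    rw [Subgroup.mem_center_iff]
    intro q
    obtain ⟨x, rfl⟩ := hπ q
    rw [← map_mul, ← map_mul, Subgroup.mem_center_iff.1 hz x]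
  · intro q hq
    obtain ⟨g, rfl⟩ := hπ q
    exact ⟨g, h3 hq, rfl⟩

end Cfsg.Agent.S3962
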