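import Cfsg.Statements.S3964
import Mathlib
import Cfsg.Agent.Lib.Lead.DihedralStem

set_option autoImplicit false
open Cfsg

namespace Cfsg.Agent.S3964

/-- For odd `n` the dihedral group of order `2 n` has trivial Schur multiplier. -/
theorem result (n : ℕ) (hn : Odd n) : Cfsg.HasCyclicSchurMultiplier (DihedralGroup n) 1 := by
  have hn0 : NeZero n := ⟨by rintro rfl; exact absurd hn (by decide)⟩
  refine ⟨⟨DihedralGroup n, inferInstance, inferInstance, MonoidHom.id _,
    ⟨Function.surjective_id, ?_, ?_⟩, ?_⟩, ?_⟩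
  · rw [MonoidHom.ker_id]; exact bot_le
  · rw [MonoidHom.ker_id]; exact bot_le
  · rw [MonoidHom.ker_id]
    exact ⟨MulEquiv.ofUnique⟩
  · intro Γ _ _ σ hσ
    obtain ⟨hsurj, hcen, hcomm⟩ := hσ
    obtain ⟨c, hc, hker⟩ := Cfsg.Agent.Lib.Lead.dihedral_stem_ker σ hsurj hcen hcomm
    have hbot : ∀ z ∈ σ.ker, z = 1 := by
      intro z hz
      obtain ⟨k, rfl, hdvd⟩ := hker z hz
      obtain ⟨m, hm⟩ := hn
      have h1 : (n : ℤ) ∣ k := by
        have e : k = (n : ℤ) * k - (m : ℤ) * (2 * k) := by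
          rw [hm]; push_cast; ring
        rw [e]
        exact dvd_sub (dvd_mul_right _ _) (Dvd.dvd.mul_left hdvd _)
      obtain ⟨j, rfl⟩ := h1
      rw [zpow_mul, hc, one_zpow]
    refine ⟨1, ?_⟩
    intro x
    refine ⟨1, ?_⟩
    apply Subtype.ext
    simpa using (hbot x x.2).symm

end Cfsg.Agent.S3964
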