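import Cfsg.Statements.S3965
import Mathlib
import Cfsg.Agent.Lib.Lead.DihedralStem
import Cfsg.Agent.Lib.Lead.DicyclicCover

set_option autoImplicit false
open Cfsg

namespace Cfsg.Agent.S3965

/-- A finite group with at most two elements is an image of `ZMod 2`. -/
theorem exists_surj_of_card_le_two {K : Type*} [Group K] [Finite K] (h : Nat.card K ≤ 2) :
    ∃ π : Multiplicative (ZMod 2) →* K, Function.Surjective π := by
  have h1 : 0 < Nat.card K := Nat.card_pos
  have h2 : Nat.card K = 1 ∨ Nat.card K = 2 := by omega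
  rcases h2 with h2 | h2
  · have : Subsingleton K := (Nat.card_eq_one_iff_unique.1 h2).1
    exact ⟨1, fun x => ⟨1, Subsingleton.elim _ _⟩⟩
  · have : Fact (Nat.Prime 2) := ⟨Nat.prime_two⟩
    have hc : IsCyclic K := isCyclic_of_prime_card (p := 2) h2
    have e := zmodCyclicMulEquiv hc
    rw [h2] at e
    exact ⟨e.toMonoidHom, e.surjective⟩

theorem exists_equiv_of_card_eq_two {K : Type*} [Group K] [Finite K] (h2 : Nat.card K = 2) :
    Nonempty (K ≃* Multiplicative (ZMod 2)) := by
  have : Fact (Nat.Prime 2) := ⟨Nat.prime_two⟩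
  have hc : IsCyclic K := isCyclic_of_prime_card (p := 2) h2
  have e := zmodCyclicMulEquiv hc
  rw [h2] at e
  exact ⟨e.symm⟩

/-- For even `n ≥ 2` the dihedral group of order `2 n` has Schur multiplier cyclic of order `2`. -/
theorem result (n : ℕ) [NeZero n] (hn : Even n) : Cfsg.HasCyclicSchurMultiplier (DihedralGroup n) 2 := by
  refine ⟨⟨QuaternionGroup n, inferInstance, inferInstance, Cfsg.Agent.Lib.Lead.dicToDih n,
    ⟨Cfsg.Agent.Lib.Lead.dicToDih_surjective n,
      (Cfsg.Agent.Lib.Lead.isStemExtension_dicToDih_aux n hn).1,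
      (Cfsg.Agent.Lib.Lead.isStemExtension_dicToDih_aux n hn).2⟩, ?_⟩, ?_⟩
  · exact exists_equiv_of_card_eq_two (Cfsg.Agent.Lib.Lead.card_ker_dicToDih n)
  · intro Γ _ _ σ hσ
    obtain ⟨hsurj, hcen, hcomm⟩ := hσ
    obtain ⟨c, hc, hker⟩ := Cfsg.Agent.Lib.Lead.dihedral_stem_ker σ hsurj hcen hcomm
    obtain ⟨m, hm⟩ := hn
    have hw2 : (c ^ (m : ℤ)) ^ 2 = 1 := by
      rw [← zpow_natCast, ← zpow_mul]
      have : (m : ℤ) * ((2 : ℕ) : ℤ) = (n : ℤ) := by rw [hm]; push_cast; ring
      rw [this, hc]
    have hform : ∀ z ∈ σ.ker, z = 1 ∨ z = c ^ (m : ℤ) := by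
      intro z hz
      obtain ⟨k, rfl, hdvd⟩ := hker z hz
      have h1 : (m : ℤ) ∣ k := by
        have hm0 : (m : ℤ) ≠ 0 := by
          have := NeZero.ne n
          intro h0
          have : m = 0 := by exact_mod_cast h0
          omega
        have : (2 : ℤ) * m ∣ 2 * k := by
          have e : ((n : ℕ) : ℤ) = 2 * m := by rw [hm]; push_cast; ring
          rwa [e] at hdvd
        exact (mul_dvd_mul_iff_left (by norm_num : (2 : ℤ) ≠ 0)).1 this
      obtain ⟨j, rfl⟩ := h1
      rw [zpow_mul]
      rcases Int.even_or_odd' j with ⟨i, rfl | rfl⟩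
      · left
        rw [zpow_mul, zpow_ofNat, hw2, one_zpow]
      · right
        rw [zpow_add, zpow_mul, zpow_ofNat, hw2, one_zpow, one_mul, zpow_one]
    apply exists_surj_of_card_le_two
    classical
    let f : σ.ker → Bool := fun z => decide ((z : Γ) = 1)
    have hf : Function.Injective f := by
      intro z₁ z₂ h
      apply Subtype.ext
      by_cases h1 : (z₁ : Γ) = 1
      · have : (z₂ : Γ) = 1 := by
          have : f z₂ = true := by rw [← h]; simp only [f, decide_eq_true_eq]; exact h1
          simpa only [f, decide_eq_true_eq] using this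
        rw [h1, this]
      · have h2 : ¬ (z₂ : Γ) = 1 := by
          intro h2
          have : f z₁ = true := by rw [h]; simp only [f, decide_eq_true_eq]; exact h2
          exact h1 (by simpa only [f, decide_eq_true_eq] using this)
        rw [(hform _ z₁.2).resolve_left h1, (hform _ z₂.2).resolve_left h2]
    have := Nat.card_le_card_of_injective f hf
    simpa using this

end Cfsg.Agent.S3965
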