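import Mathlib
import Cfsg.Statements.S3968
import Cfsg.Agent.S0138
import Cfsg.Agent.Lib.Helper8.CharBurnside
import Cfsg.Agent.Lib.Helper8.CharDecomp
import Cfsg.Agent.Lib.Helper8.CharDegree
import Cfsg.Agent.Lib.Helper8.CharLinear
import Cfsg.Agent.Lib.Helper8.CharBessel
import Cfsg.Agent.Lib.Helper8.CharInd
import Cfsg.Agent.Lib.Helper8.CharSchur

set_option autoImplicit false

open Cfsg

namespace Cfsg.Agent.S3968

open Cfsg.Agent.Lib.Helper8 ComplexConjugate

theorem result {G : Type*} [Group G] [Finite G] (p : ℕ) (hp : p.Prime) (χ : Cfsg.IrrCharacter G) (hdeg : χ.1 1 = p) (hfaith : ∀ g : G, χ.1 g = χ.1 1 → g = 1) (hdiv : p ^ 2 ∣ Nat.card G) : Subgroup.center G ≠ ⊥ := by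
  classical
  intro hcen
  haveI : Fact p.Prime := ⟨hp⟩
  haveI : Fintype G := Fintype.ofFinite G
  obtain ⟨n, ρ, hirr, hρ⟩ := χ.2
  have hn : Module.finrank ℂ (Fin n → ℂ) = p := by
    have h1 : χ.1 1 = (Module.finrank ℂ (Fin n → ℂ) : ℂ) := by rw [← hρ, Representation.char_one]
    rw [hdeg] at h1
    exact_mod_cast h1.symm
  have hχρ : ∀ g, χ.1 g = ρ.character g := fun g => by rw [← hρ]
  -- scalar ⇒ central ⇒ trivial
  have hscal : ∀ g : G,
      (∃ ω : ℂ, ρ g = ω • (LinearMap.id : (Fin n → ℂ) →ₗ[ℂ] (Fin n → ℂ))) → g = 1 := by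
    rintro g ⟨ω, hω⟩
    have hgc : g ∈ Subgroup.center G := by
      rw [Subgroup.mem_center_iff]
      intro h
      have h1 : ρ (h * g) = ρ (g * h) := by
        rw [map_mul, map_mul, hω]
        ext v
        simp
      have h2 : ρ ((h * g) * (g * h)⁻¹) = 1 := by
        rw [map_mul, h1, ← map_mul, mul_inv_cancel, map_one]
      have h3 : χ.1 ((h * g) * (g * h)⁻¹) = χ.1 1 := by
        rw [hχρ, hχρ]
        unfold Representation.character
        rw [h2, map_one ρ]
      have h4 := hfaith _ h3
      exact mul_inv_eq_one.mp h4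
    rw [hcen, Subgroup.mem_bot] at hgc
    exact hgc
  -- a Sylow subgroup
  let P : Sylow p G := default
  have hPcard : Nat.card P = p ^ (Nat.card G).factorization p := Sylow.card_eq_multiplicity P
  have hk : 2 ≤ (Nat.card G).factorization p :=
    (hp.pow_dvd_iff_le_factorization Nat.card_pos.ne').mp hdiv
  have hPge : p ^ 2 ≤ Nat.card P := by
    rw [hPcard]
    exact Nat.pow_le_pow_right hp.pos hk
  -- Step 1
  have hstep1 : ∀ z : G, (∀ y ∈ (P : Subgroup G), y * z = z * y) → z ≠ 1 → χ.1 z = 0 := by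
    intro z hzc hz1
    have hle : (P : Subgroup G) ≤ Subgroup.centralizer ({z} : Set G) := by
      intro y hy
      rw [Subgroup.mem_centralizer_iff]
      intro w hw
      rw [Set.mem_singleton_iff] at hw
      rw [hw]
      exact (hzc y hy).symm
    have hnd : ¬ p ∣ (Subgroup.centralizer ({z} : Set G)).index := by
      intro hd
      exact Sylow.not_dvd_index P (dvd_trans hd (Subgroup.index_dvd_of_le hle))
    have hcop : Nat.Coprime (Module.finrank ℂ (Fin n → ℂ))
        (Subgroup.centralizer ({z} : Set G)).index := by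
      rw [hn]
      exact (Nat.Prime.coprime_iff_not_dvd hp).mpr hnd
    rcases burnside_coprime hirr z hcop with h | h
    · rw [hχρ]; exact h
    · exfalso
      exact hz1 (hscal z ((Cfsg.Agent.S0138.result ρ z).mp h))
  -- the restriction to P
  have hφ : IsCharacter (↥(P : Subgroup G)) (fun h : (P : Subgroup G) => χ.1 h) :=
    isCharacter_restrict (P : Subgroup G) (irr_isCharacter χ.2)
  haveI : Finite (IrrCharacter (↥(P : Subgroup G))) := irr_finite
  haveI : Fintype (IrrCharacter (↥(P : Subgroup G))) := Fintype.ofFinite _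
  haveI : Fintype (↥(P : Subgroup G)) := Fintype.ofFinite _
  obtain ⟨m, hm⟩ := isCharacter_decomp hφ
  have hdeg1 : p = ∑ ψ : IrrCharacter (↥(P : Subgroup G)), m ψ * charDegree ψ.1 := by
    have h1 := hm 1
    rw [Subgroup.coe_one, hdeg] at h1
    have h2 : (p : ℂ) = ((∑ ψ : IrrCharacter (↥(P : Subgroup G)), m ψ * charDegree ψ.1 : ℕ) : ℂ) := by
      rw [h1]
      push_cast
      apply Finset.sum_congr rfl
      intro ψ _
      rw [irr_one_eq_charDegree]
    exact_mod_cast h2
  have hdpow : ∀ ψ : IrrCharacter (↥(P : Subgroup G)),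
      charDegree ψ.1 = 1 ∨ p ∣ charDegree ψ.1 := by
    intro ψ
    have hd := charDegree_dvd_card ψ
    rw [hPcard] at hd
    obtain ⟨j, _, hj⟩ := (Nat.dvd_prime_pow hp).mp hd
    rcases Nat.eq_zero_or_pos j with h0 | hpos
    · left; rw [hj, h0, pow_zero]
    · right; rw [hj]; exact dvd_pow_self p hpos.ne'
  -- a nontrivial central element of P
  have hPpg : IsPGroup p (P : Subgroup G) := P.isPGroup'
  haveI : Nontrivial (P : Subgroup G) := by
    rw [← Finite.one_lt_card_iff_nontrivial]
    calc 1 < p ^ 2 := Nat.one_lt_pow (by norm_num) hp.one_lt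
      _ ≤ _ := hPge
  haveI := hPpg.center_nontrivial
  obtain ⟨z, hz1⟩ := exists_ne (1 : Subgroup.center (↥(P : Subgroup G)))
  have hzG : χ.1 ((z : (P : Subgroup G)) : G) = 0 := by
    apply hstep1
    · intro y hy
      have := Subgroup.mem_center_iff.mp z.2 ⟨y, hy⟩
      exact congrArg Subtype.val this
    · intro h
      apply hz1
      apply Subtype.ext
      apply Subtype.ext
      exact h
  by_cases hex : ∃ ψ : IrrCharacter (↥(P : Subgroup G)), m ψ ≠ 0 ∧ charDegree ψ.1 ≠ 1
  · -- the restriction is irreducible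
    obtain ⟨ψ₀, hm0, hd0⟩ := hex
    have hpd : p ∣ charDegree ψ₀.1 := (hdpow ψ₀).resolve_left hd0
    have hdpos := charDegree_pos ψ₀
    have hdge : p ≤ charDegree ψ₀.1 := Nat.le_of_dvd hdpos hpd
    have hsplit := Finset.add_sum_erase Finset.univ (fun ψ => m ψ * charDegree ψ.1)
      (Finset.mem_univ ψ₀)
    beta_reduce at hsplit
    rw [← hdeg1] at hsplit
    have hmpos : 1 ≤ m ψ₀ := Nat.one_le_iff_ne_zero.mpr hm0
    have hprod : p ≤ m ψ₀ * charDegree ψ₀.1 := by nlinarith
    have hrest : ∑ ψ ∈ Finset.univ.erase ψ₀, m ψ * charDegree ψ.1 = 0 := by omega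
    have hprod' : m ψ₀ * charDegree ψ₀.1 = p := by omega
    have hm1 : m ψ₀ = 1 := by nlinarith
    have hothers : ∀ ψ ∈ Finset.univ.erase ψ₀, m ψ = 0 := by
      intro ψ hψ
      have := (Finset.sum_eq_zero_iff.mp hrest) ψ hψ
      rcases Nat.mul_eq_zero.mp this with h | h
      · exact h
      · exact absurd h (charDegree_pos ψ).ne'
    have hres : ∀ g : (P : Subgroup G), χ.1 g = ψ₀.1 g := by
      intro g
      rw [hm g, ← Finset.add_sum_erase Finset.univ _ (Finset.mem_univ ψ₀), hm1,
        Finset.sum_eq_zero (fun ψ hψ => by rw [hothers ψ hψ]; simp)]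
      simp
    obtain ⟨n', σ, hσ, hσψ⟩ := ψ₀.2
    obtain ⟨c, hc⟩ := central_scalar hσ z.2
    have hσz : σ (z : (P : Subgroup G)) =
        c • (LinearMap.id : (Fin n' → ℂ) →ₗ[ℂ] (Fin n' → ℂ)) :=
      LinearMap.ext fun v => by rw [hc v]; rfl
    have hnorm := (Cfsg.Agent.S0138.result σ (z : (P : Subgroup G))).mpr ⟨c, hσz⟩
    have hval : σ.character (z : (P : Subgroup G)) = 0 := by
      rw [hσψ, ← hres]; exact hzG
    have hfr : (Module.finrank ℂ (Fin n' → ℂ) : ℂ) = p := by
      rw [← Representation.char_one σ, hσψ, ← hres, Subgroup.coe_one, hdeg]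
    rw [hval, norm_zero] at hnorm
    have hfr0 : Module.finrank ℂ (Fin n' → ℂ) = 0 := by exact_mod_cast hnorm.symm
    rw [hfr0] at hfr
    have : (p : ℂ) ≠ 0 := Nat.cast_ne_zero.mpr hp.ne_zero
    exact this (by rw [← hfr]; simp)
  · -- all constituents are linear
    have hall : ∀ ψ : IrrCharacter (↥(P : Subgroup G)), m ψ = 0 ∨ charDegree ψ.1 = 1 := by
      intro ψ
      by_contra h
      rw [not_or] at h
      exact hex ⟨ψ, h.1, h.2⟩
    have hab : ∀ x y : (P : Subgroup G), x * y = y * x := by
      intro x y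
      have hterm : ∀ ψ : IrrCharacter (↥(P : Subgroup G)),
          (m ψ : ℂ) * ψ.1 (x * y * x⁻¹ * y⁻¹) = (m ψ : ℂ) * ψ.1 1 := by
        intro ψ
        rcases hall ψ with h | h
        · rw [h]; simp
        · congr 1
          obtain ⟨n', σ, hσ, hσψ⟩ := ψ.2
          have hn' : n' = 1 := by
            have h1 := irr_one_eq_charDegree ψ
            rw [h, ← hσψ, Representation.char_one] at h1
            have : Module.finrank ℂ (Fin n' → ℂ) = 1 := by exact_mod_cast h1
            simpa using this
          subst hn'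
          have hk := commutator_le_ker_of_degree_one σ
          have hmem : x * y * x⁻¹ * y⁻¹ ∈ commutator (↥(P : Subgroup G)) := by
            rw [commutator_def]
            exact Subgroup.commutator_mem_commutator (Subgroup.mem_top x) (Subgroup.mem_top y)
          have h2 := hk hmem
          rw [MonoidHom.mem_ker] at h2
          rw [← hσψ]
          unfold Representation.character
          rw [h2, map_one σ]
      have hc : χ.1 ((x * y * x⁻¹ * y⁻¹ : (P : Subgroup G)) : G) = χ.1 1 := by
        have h1 := hm (x * y * x⁻¹ * y⁻¹)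
        have h2 := hm 1
        rw [Subgroup.coe_one] at h2
        rw [h1, h2]
        exact Finset.sum_congr rfl (fun ψ _ => hterm ψ)
      have h3 := hfaith _ hc
      have h4 : x * y * x⁻¹ * y⁻¹ = 1 := Subtype.ext h3
      have h5 : x * y = y * x := by
        have : x * y * x⁻¹ * y⁻¹ * (y * x) = y * x := by rw [h4, one_mul]
        rw [← this]; group
      exact h5
    have hvan : ∀ y : (P : Subgroup G), y ≠ 1 → χ.1 (y : G) = 0 := by
      intro y hy
      apply hstep1
      · intro w hw
        exact congrArg Subtype.val (hab ⟨w, hw⟩ y)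
      · intro h
        exact hy (Subtype.ext h)
    obtain ⟨k, hk⟩ := classInner_character_nat hφ
      (irr_isCharacter (principal_isIrrCharacter (G := ↥(P : Subgroup G))))
    unfold classInner at hk
    have hsum : ∑ g : (P : Subgroup G), χ.1 (g : G) * conj (1 : ℂ) = p := by
      rw [Finset.sum_eq_single (1 : (P : Subgroup G))]
      · rw [Subgroup.coe_one, hdeg]; simp
      · intro y _ hy
        rw [hvan y hy, zero_mul]
      · intro h; exact absurd (Finset.mem_univ _) h
    rw [hsum] at hk
    have hPne : (Nat.card (P : Subgroup G) : ℂ) ≠ 0 := Nat.cast_ne_zero.mpr Nat.card_pos.ne'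
    have hpk : p = k * Nat.card (P : Subgroup G) := by
      have : (p : ℂ) = (k : ℂ) * (Nat.card (P : Subgroup G) : ℂ) := by
        rw [← hk]; field_simp
      exact_mod_cast this
    have hkpos : 1 ≤ k := by
      rcases Nat.eq_zero_or_pos k with h | h
      · rw [h, zero_mul] at hpk
        exact absurd hpk hp.ne_zero
      · exact h
    have hp2 : p < p ^ 2 := by
      have := hp.one_lt
      nlinarith
    nlinarith

end Cfsg.Agent.S3968
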