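import Cfsg.Statements.S3969
import Cfsg.Agent.Lib.Helper7.Conj
import Cfsg.Agent.Lib.Helper7.SylowBasic
import Cfsg.Agent.Lib.Helper7.PSubFrattini
import Cfsg.Agent.Lib.Helper7.PrimaryDecomp
import Cfsg.Agent.Lib.Helper1.CoprimeAbelian

set_option autoImplicit false
open Cfsg

namespace Cfsg.Agent.S3969

open Cfsg.Agent.Lib.Helper7 Cfsg.Agent.Lib.Helper1
open scoped IsMulCommutative commutatorElement

/-- In a finite abelian group the number of solutions of `a ^ p = 1` divides `p ^ rank`. -/
lemma card_ker_pow_dvd (A : Type*) [CommGroup A] [Finite A] (p : ℕ) :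
    Nat.card (powMonoidHom p : A →* A).ker ∣ p ^ Group.rank A := by
  set φ : A →* A := powMonoidHom p with hφ
  have h1 : Nat.card φ.ker * φ.ker.index = Nat.card A := φ.ker.card_mul_index
  have h2 : φ.ker.index = Nat.card φ.range := Subgroup.index_ker φ
  have h3 : Nat.card φ.range * φ.range.index = Nat.card A := φ.range.card_mul_index
  have h4 : Nat.card φ.ker = φ.range.index := by
    have hpos : 0 < Nat.card φ.range := Nat.card_pos
    have : Nat.card φ.range * Nat.card φ.ker = Nat.card φ.range * φ.range.index := by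
      rw [h3, mul_comm, ← h2, h1]
    exact Nat.eq_of_mul_eq_mul_left hpos this
  rw [h4, Subgroup.index_eq_card]
  have h5 : ∀ g : A ⧸ φ.range, g ^ p = 1 := by
    intro g
    induction g using QuotientGroup.induction_on with
    | H a =>
      rw [← QuotientGroup.mk_pow, QuotientGroup.eq_one_iff]
      exact ⟨a, rfl⟩
  have h6 := card_dvd_exponent_pow_rank' (A ⧸ φ.range) h5
  have h7 : Group.rank (A ⧸ φ.range) ≤ Group.rank A :=
    Group.rank_le_of_surjective (QuotientGroup.mk' φ.range) (QuotientGroup.mk'_surjective _)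
  exact h6.trans (pow_dvd_pow p h7)

variable {G : Type*} [Group G]

/-- If `N ≰ C` for subgroups with all `p`-elements of `N` in `C`, there is an element of `N ∖ C` of
prime power order `q ^ k` with `q ≠ p`. -/
lemma exists_prime_power_not_mem [Finite G] (p : ℕ) (N C : Subgroup G) (hNC : ¬ N ≤ C)
    (hp : ∀ x ∈ N, (∃ k : ℕ, orderOf x = p ^ k) → x ∈ C) :
    ∃ x ∈ N, x ∉ C ∧ ∃ q k : ℕ, q.Prime ∧ q ≠ p ∧ orderOf x = q ^ k := by
  have hne : {x : G | x ∈ N ∧ x ∉ C}.Nonempty := by
    by_contra h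
    apply hNC
    intro x hx
    by_contra hxC
    exact h ⟨x, hx, hxC⟩
  obtain ⟨x, ⟨hxN, hxC⟩, hmin⟩ := Set.exists_min_image _ (fun x : G => orderOf x)
    (Set.toFinite _) hne
  refine ⟨x, hxN, hxC, ?_⟩
  have hn1 : orderOf x ≠ 1 := by
    intro h
    rw [orderOf_eq_one_iff] at h
    rw [h] at hxC
    exact hxC C.one_mem
  have hn0 : orderOf x ≠ 0 := (orderOf_pos x).ne'
  have hq : (orderOf x).minFac.Prime := Nat.minFac_prime hn1
  obtain ⟨k, m, hm, hn⟩ := Nat.exists_eq_pow_mul_and_not_dvd hn0 (orderOf x).minFac hq.ne_one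
  have hk0 : k ≠ 0 := by
    rintro rfl
    rw [pow_zero, one_mul] at hn
    rw [← hn] at hm
    exact hm (Nat.minFac_dvd _)
  have hm0 : m ≠ 0 := by
    rintro rfl
    rw [mul_zero] at hn
    exact hn0 hn
  have hm1 : m = 1 := by
    by_contra hm1
    have hqk : 1 < (orderOf x).minFac ^ k := Nat.one_lt_pow hk0 hq.one_lt
    have hm2 : 1 < m := by omega
    -- both powers lie in `C` by minimality
    have key : ∀ a : ℕ, a ∣ orderOf x → 1 < a → x ^ a ∈ C := by
      intro a ha h1a
      by_contra hnot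
      have h1 := hmin (x ^ a) ⟨N.pow_mem hxN a, hnot⟩
      have ha0 : a ≠ 0 := by omega
      rw [orderOf_pow_of_dvd ha0 ha] at h1
      have : orderOf x / a < orderOf x := Nat.div_lt_self (Nat.pos_of_ne_zero hn0) h1a
      omega
    have h1 := key ((orderOf x).minFac ^ k) (Dvd.intro _ hn.symm) hqk
    have h2 := key m (Dvd.intro_left _ hn.symm) hm2
    have hcop : ((orderOf x).minFac ^ k).Coprime m :=
      Nat.Coprime.pow_left k ((Nat.Prime.coprime_iff_not_dvd hq).2 hm)
    exact hxC (mem_of_pow_mem_of_coprime C x _ _ hcop h1 h2)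
  rw [hm1, mul_one] at hn
  refine ⟨(orderOf x).minFac, k, hq, ?_, hn⟩
  intro hqp
  apply hxC
  apply hp x hxN
  exact ⟨k, by rw [← hqp]; exact hn⟩

/-- A `p`-element normalizing a Sylow `p`-subgroup lies in it. -/
lemma mem_sylow_of_normalizer [Finite G] {p : ℕ} [Fact p.Prime] (P : Sylow p G) (x : G)
    (hx : x ∈ Subgroup.normalizer ((P : Subgroup G) : Set G)) (k : ℕ) (hk : orderOf x = p ^ k) :
    x ∈ P := by
  have hz : IsPGroup p (Subgroup.zpowers x) := isPGroup_zpowers_of_orderOf x k hk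
  have hzle : Subgroup.zpowers x ≤ Subgroup.normalizer ((P : Subgroup G) : Set G) :=
    Subgroup.zpowers_le.mpr hx
  have hsup : IsPGroup p ((P : Subgroup G) ⊔ Subgroup.zpowers x : Subgroup G) :=
    P.2.to_sup_of_normal_left' hz hzle
  have heq := P.is_maximal' hsup le_sup_left
  show x ∈ (P : Subgroup G)
  rw [← heq]
  exact Subgroup.mem_sup_right (Subgroup.mem_zpowers _)

/-- Let `P` be an abelian Sylow `p`-subgroup of the finite group `G`, generated by `d` elements (`d` its minimal number of generators). If the order of `G` is coprime to `(p - 1)(p ^ 2 - 1) ⋯ (p ^ d - 1)`, then `G` has a normal `p`-complement. (The classical statement needs only the largest number of cyclic factors of `P` of equal order in place of `d`; the form here follows from it.) -/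
theorem result {G : Type*} [Group G] [Finite G] (p : ℕ) [Fact p.Prime] (P : Sylow p G) (hab : IsMulCommutative (P : Subgroup G)) (hcop : Nat.Coprime (Nat.card G) (∏ i ∈ Finset.Icc 1 (Group.rank (P : Subgroup G)), (p ^ i - 1))) : Cfsg.HasNormalPComplement p G := by
  classical
  have hp : p.Prime := Fact.out
  haveI := hab
  have hcomm : ∀ a ∈ P, ∀ b ∈ P, a * b = b * a := by
    intro a ha b hb
    have := mul_comm' (⟨a, ha⟩ : (P : Subgroup G)) ⟨b, hb⟩
    exact congrArg Subtype.val this
  have hPC : (P : Subgroup G) ≤ Subgroup.centralizer ((P : Subgroup G) : Set G) := by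
    intro a ha
    rw [Subgroup.mem_centralizer_iff]
    intro b hb
    exact hcomm b hb a ha
  suffices hNC : Subgroup.normalizer (P : Set G) ≤ Subgroup.centralizer (P : Set G) from
    ⟨P, _, MonoidHom.normal_ker _, MonoidHom.ker_transferSylow_isComplement' P hNC⟩
  by_contra hNC
  have hNC' : ¬ Subgroup.normalizer ((P : Subgroup G) : Set G)
      ≤ Subgroup.centralizer ((P : Subgroup G) : Set G) := hNC
  obtain ⟨x, hxN, hxC, q, k, hq, hqp, hxo⟩ := exists_prime_power_not_mem p _ _ hNC'
    (fun x hx ⟨k, hk⟩ => hPC (mem_sylow_of_normalizer P x hx k hk))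
  haveI : Fact q.Prime := ⟨hq⟩
  -- the acting group
  set A : Subgroup G := Subgroup.zpowers x with hA
  have hAcard : Nat.card A = q ^ k := by rw [hA, Nat.card_zpowers, hxo]
  have hAq : IsPGroup q A := IsPGroup.of_card hAcard
  have hAP : A ≤ Subgroup.normalizer ((P : Subgroup G) : Set G) := Subgroup.zpowers_le.mpr hxN
  have hcentA : ∀ w : G, x * w = w * x → w ∈ Subgroup.centralizer (A : Set G) := by
    intro w hw
    rw [Subgroup.mem_centralizer_iff]
    intro a ha
    obtain ⟨n, rfl⟩ := Subgroup.mem_zpowers_iff.mp ha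
    have c1 : Commute x w := hw
    exact (c1.zpow_left n)
  -- `Ω₁(P)`
  set φ : (P : Subgroup G) →* (P : Subgroup G) := powMonoidHom p with hφ
  set W : Subgroup G := φ.ker.map (P : Subgroup G).subtype with hW
  have hWmem : ∀ y : G, y ∈ W ↔ y ∈ P ∧ y ^ p = 1 := by
    intro y
    constructor
    · rintro ⟨z, hz, rfl⟩
      refine ⟨z.2, ?_⟩
      have : z ^ p = 1 := hz
      have := congrArg Subtype.val this
      simpa using this
    · rintro ⟨hyP, hyp⟩
      refine ⟨⟨y, hyP⟩, ?_, rfl⟩
      show (⟨y, hyP⟩ : (P : Subgroup G)) ^ p = 1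
      apply Subtype.ext
      simpa using hyp
  have hWP : W ≤ P := Subgroup.map_subtype_le _
  have hWcard : Nat.card W ∣ p ^ Group.rank (P : Subgroup G) := by
    rw [hW, Subgroup.card_map_of_injective (Subgroup.subtype_injective _)]
    exact card_ker_pow_dvd (P : Subgroup G) p
  haveI hWcomm : IsMulCommutative W :=
    ⟨⟨fun a b => Subtype.ext (hcomm a (hWP a.2) b (hWP b.2))⟩⟩
  have hxW : x ∈ Subgroup.normalizer (W : Set G) := by
    apply mem_normalizer_of_conj_mem
    intro y hy
    rw [hWmem] at hy ⊢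
    refine ⟨(Subgroup.mem_normalizer_iff.mp hxN y).mp hy.1, ?_⟩
    rw [conj_pow, hy.2]
    group
  have hAW : A ≤ Subgroup.normalizer (W : Set G) := Subgroup.zpowers_le.mpr hxW
  obtain ⟨b, hb⟩ := IsPGroup.iff_card.mp P.2
  have hcopP : (Nat.card A).Coprime (Nat.card (P : Subgroup G)) := by
    rw [hAcard, hb]
    exact Nat.Coprime.pow k b ((Nat.coprime_primes hq hp).mpr hqp)
  obtain ⟨i, hid, hWi⟩ := (Nat.dvd_prime_pow hp).mp hWcard
  have hcopW : (Nat.card A).Coprime (Nat.card W) := by
    rw [hAcard, hWi]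
    exact Nat.Coprime.pow k i ((Nat.coprime_primes hq hp).mpr hqp)
  -- `A` does not centralize `W`
  have hnotW : ¬ W ≤ Subgroup.centralizer (A : Set G) := by
    intro hWA
    have e1 := fixed_inf_commutator_eq_bot A (P : Subgroup G) hAP hcopP
    have e2 := fixed_sup_commutator_eq A (P : Subgroup G) hAP hcopP
    by_cases hcomm0 : ⁅(P : Subgroup G), A⁆ = ⊥
    · rw [hcomm0, sup_bot_eq] at e2
      apply hxC
      have hPA : (P : Subgroup G) ≤ Subgroup.centralizer (A : Set G) := by
        rw [← e2]; exact inf_le_right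
      rw [Subgroup.mem_centralizer_iff]
      intro y hy
      have := Subgroup.mem_centralizer_iff.mp (hPA hy) x (Subgroup.mem_zpowers x)
      exact this.symm
    · have hle : ⁅(P : Subgroup G), A⁆ ≤ P := commutator_le_of_normalizer A (P : Subgroup G) hAP
      have hpg : IsPGroup p (⁅(P : Subgroup G), A⁆ : Subgroup G) := P.2.to_le hle
      have hnt : Nontrivial (⁅(P : Subgroup G), A⁆ : Subgroup G) :=
        (Subgroup.nontrivial_iff_ne_bot _).mpr hcomm0
      obtain ⟨j, hj0, hj⟩ := hpg.nontrivial_iff_card.mp hnt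
      have hpd : p ∣ Nat.card (⁅(P : Subgroup G), A⁆ : Subgroup G) := by
        rw [hj]; exact dvd_pow_self p hj0.ne'
      obtain ⟨y, hy⟩ := exists_prime_orderOf_dvd_card' p hpd
      have hyW : (y : G) ∈ W := by
        rw [hWmem]
        refine ⟨hle y.2, ?_⟩
        have : y ^ p = 1 := orderOf_dvd_iff_pow_eq_one.mp (dvd_of_eq hy)
        have := congrArg Subtype.val this
        simpa using this
      have hmem : (y : G) ∈ ((P : Subgroup G) ⊓ Subgroup.centralizer (A : Set G)) ⊓
          ⁅(P : Subgroup G), A⁆ := ⟨⟨hle y.2, hWA hyW⟩, y.2⟩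
      rw [e1, Subgroup.mem_bot] at hmem
      have hy1 : y = 1 := Subtype.ext hmem
      rw [hy1, orderOf_one] at hy
      exact hp.one_lt.ne' hy.symm
  -- the commutator `[W, A]`
  have e1 := fixed_inf_commutator_eq_bot A W hAW hcopW
  have e2 := fixed_sup_commutator_eq A W hAW hcopW
  set W₁ : Subgroup G := ⁅W, A⁆ with hW₁
  have hW₁W : W₁ ≤ W := commutator_le_of_normalizer A W hAW
  have hW₁ne : W₁ ≠ ⊥ := by
    intro h
    rw [h, sup_bot_eq] at e2
    apply hnotW
    rw [← e2]
    exact inf_le_right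
  have hAW₁ : ∀ a ∈ A, ∀ w ∈ W₁, a * w * a⁻¹ ∈ W₁ := by
    intro a ha w hw
    have h1 : W₁.map (MulAut.conj a).toMonoidHom = W₁ := by
      rw [hW₁, Subgroup.map_commutator]
      have h2 : W.map (MulAut.conj a).toMonoidHom = W := (map_conj_eq_self_iff W a).mpr (hAW ha)
      have h3 : A.map (MulAut.conj a).toMonoidHom = A :=
        (map_conj_eq_self_iff A a).mpr (Subgroup.le_normalizer ha)
      rw [h2, h3]
    rw [← h1]
    exact ⟨w, hw, by simp⟩
  have hfix : ∀ w ∈ W₁, x * w * x⁻¹ = w → w = 1 := by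
    intro w hw hxw
    have hc : w ∈ Subgroup.centralizer (A : Set G) := by
      apply hcentA
      calc x * w = x * w * x⁻¹ * x := by group
        _ = w * x := by rw [hxw]
    have hmem : w ∈ (W ⊓ Subgroup.centralizer (A : Set G)) ⊓ W₁ := ⟨⟨hW₁W hw, hc⟩, hw⟩
    rw [e1, Subgroup.mem_bot] at hmem
    exact hmem
  -- the action of the `q`-group `A` on `W₁`
  letI : MulAction A W₁ :=
    { smul := fun a w => ⟨(a : G) * w * (a : G)⁻¹, hAW₁ a a.2 w w.2⟩
      one_smul := fun w => Subtype.ext (by show (1 : G) * w * (1 : G)⁻¹ = w; group)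
      mul_smul := fun a a' w => Subtype.ext (by
        show ((a * a' : A) : G) * w * ((a * a' : A) : G)⁻¹
          = (a : G) * ((a' : G) * w * (a' : G)⁻¹) * (a : G)⁻¹
        rw [Subgroup.coe_mul]; group) }
  have hsmul : ∀ (a : A) (w : W₁), ((a • w : W₁) : G) = (a : G) * w * (a : G)⁻¹ := fun _ _ => rfl
  have hmod := hAq.card_modEq_card_fixedPoints W₁
  have hfixed : MulAction.fixedPoints A W₁ = {1} := by
    ext w
    rw [MulAction.mem_fixedPoints, Set.mem_singleton_iff]
    constructor
    · intro h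
      have h1 := h ⟨x, Subgroup.mem_zpowers x⟩
      have h2 := congrArg Subtype.val h1
      rw [hsmul] at h2
      exact Subtype.ext (hfix w w.2 h2)
    · rintro rfl a
      apply Subtype.ext
      rw [hsmul]
      simp
  have hone : Nat.card (({1} : Set W₁) : Type _) = 1 := by simp
  rw [hfixed, hone] at hmod
  -- the order of `W₁`
  have hW₁card : Nat.card W₁ ∣ p ^ i := by
    rw [← hWi]; exact Subgroup.card_dvd_of_le hW₁W
  obtain ⟨j, hji, hW₁j⟩ := (Nat.dvd_prime_pow hp).mp hW₁card
  have hj0 : j ≠ 0 := by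
    rintro rfl
    rw [pow_zero] at hW₁j
    exact hW₁ne (Subgroup.card_eq_one.mp hW₁j)
  have hqdvd : q ∣ p ^ j - 1 := by
    rw [hW₁j] at hmod
    exact (Nat.modEq_iff_dvd' (Nat.one_le_pow _ _ hp.pos)).mp hmod.symm
  have hjmem : j ∈ Finset.Icc 1 (Group.rank (P : Subgroup G)) := by
    rw [Finset.mem_Icc]
    exact ⟨Nat.one_le_iff_ne_zero.mpr hj0, hji.trans hid⟩
  have hqprod : q ∣ ∏ i ∈ Finset.Icc 1 (Group.rank (P : Subgroup G)), (p ^ i - 1) :=
    hqdvd.trans (Finset.dvd_prod_of_mem _ hjmem)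
  have hk0 : k ≠ 0 := by
    rintro rfl
    rw [pow_zero, orderOf_eq_one_iff] at hxo
    rw [hxo] at hxC
    exact hxC (Subgroup.one_mem _)
  have hqG : q ∣ Nat.card G := by
    have h1 : q ∣ orderOf x := by rw [hxo]; exact dvd_pow_self q hk0
    exact h1.trans (orderOf_dvd_natCard x)
  have := Nat.eq_one_of_dvd_coprimes hcop hqG hqprod
  exact hq.one_lt.ne' this

end Cfsg.Agent.S3969
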