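import Cfsg.Statements.S3970
import Cfsg.Agent.S3969

set_option autoImplicit false
open Cfsg

namespace Cfsg.Agent.S3970

/-- the arithmetic: a prime `r ≥ p` dividing `p ^ i - 1` with `i ≤ 2` forces `p = 2`, `r = 3`, `i = 2` -/
lemma arith (p r i : ℕ) (hp : p.Prime) (hr : r.Prime) (hpr : p ≤ r) (hi1 : 1 ≤ i) (hi : i ≤ 2)
    (hd : r ∣ p ^ i - 1) : p = 2 ∧ r = 3 ∧ i = 2 := by
  have hp2 := hp.two_le
  interval_cases i
  · rw [pow_one] at hd
    have h1 : r ≤ p - 1 := Nat.le_of_dvd (by omega) hd
    omega
  · have h1 : p ^ 2 - 1 = (p - 1) * (p + 1) := by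
      obtain ⟨m, rfl⟩ : ∃ m, p = m + 1 := ⟨p - 1, by omega⟩
      simp only [Nat.add_sub_cancel]
      ring_nf
      omega
    rw [h1] at hd
    rcases (Nat.Prime.dvd_mul hr).mp hd with h2 | h2
    · have h3 : r ≤ p - 1 := Nat.le_of_dvd (by omega) h2
      omega
    · have h3 : r ≤ p + 1 := Nat.le_of_dvd (by omega) h2
      have h4 : r ≠ p := by
        rintro rfl
        have : r ∣ 1 := (Nat.dvd_add_right (dvd_refl r)).mp h2
        exact hr.one_lt.ne' (Nat.dvd_one.mp this)
      have h5 : r = p + 1 := by omega
      refine ⟨?_, ?_, rfl⟩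
      · rcases hp.eq_two_or_odd with h6 | h6
        · exact h6
        · exfalso
          rcases hr.eq_two_or_odd with h7 | h7
          · omega
          · omega
      · rcases hp.eq_two_or_odd with h6 | h6
        · omega
        · exfalso
          rcases hr.eq_two_or_odd with h7 | h7
          · omega
          · omega

theorem key : ∀ (n : ℕ) (G : Type*) [Group G] [Finite G], Nat.card G = n →
    (∀ p : ℕ, p.Prime → p ∣ Nat.card G → (∃ q : ℕ, q.Prime ∧ q ∣ Nat.card G ∧ p < q) →
      ∀ P : Sylow p G, IsMulCommutative (P : Subgroup G) ∧ Group.rank (P : Subgroup G) ≤ 2) →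
    ¬ 12 ∣ Nat.card G → Group.IsSolvable G := by
  intro n
  induction n using Nat.strong_induction_on with
  | _ n ih =>
  intro G _ _ hcard h h12
  by_cases hn1 : Nat.card G = 1
  · haveI : Subsingleton G := (Nat.card_eq_one_iff_unique.mp hn1).1
    infer_instance
  set p := (Nat.card G).minFac with hpdef
  have hp : p.Prime := Nat.minFac_prime hn1
  haveI : Fact p.Prime := ⟨hp⟩
  have hpG : p ∣ Nat.card G := Nat.minFac_dvd _
  have hmin : ∀ r : ℕ, r.Prime → r ∣ Nat.card G → p ≤ r := fun r hr hrd => Nat.minFac_le_of_dvd hr.two_le hrd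
  by_cases hq : ∃ q : ℕ, q.Prime ∧ q ∣ Nat.card G ∧ p < q
  · -- normal `p`-complement
    obtain ⟨P⟩ : Nonempty (Sylow p G) := inferInstance
    obtain ⟨hab, hrank⟩ := h p hp hpG hq P
    have hcop : Nat.Coprime (Nat.card G)
        (∏ i ∈ Finset.Icc 1 (Group.rank (P : Subgroup G)), (p ^ i - 1)) := by
      apply Nat.Coprime.symm
      apply Nat.Coprime.prod_left
      intro i hi
      rw [Finset.mem_Icc] at hi
      apply Nat.coprime_of_dvd
      intro r hr hr1 hr2
      obtain ⟨hp2, hr3, hi2⟩ := arith p r i hp hr (hmin r hr hr2) hi.1 (hi.2.trans hrank) hr1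
      -- `p = 2`, `r = 3`, `rank P = 2`
      have h3G : 3 ∣ Nat.card G := hr3 ▸ hr2
      have h4G : ¬ 4 ∣ Nat.card G := by
        intro h4
        exact h12 (Nat.Coprime.mul_dvd_of_dvd_of_dvd (by norm_num : Nat.Coprime 4 3) h4 h3G)
      -- `|P| = 2`
      have hPcard : Nat.card (P : Subgroup G) = p ^ (Nat.card G).factorization p :=
        Sylow.card_eq_multiplicity P
      have hfac : (Nat.card G).factorization p ≤ 1 := by
        by_contra hlt
        push Not at hlt
        apply h4G
        have h5 : p ^ 2 ∣ Nat.card G :=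
          (pow_dvd_pow p hlt).trans (Nat.ordProj_dvd (Nat.card G) p)
        rw [hp2] at h5
        exact h5
      have hPle : Nat.card (P : Subgroup G) ∣ p := by
        rw [hPcard]
        calc p ^ (Nat.card G).factorization p ∣ p ^ 1 := pow_dvd_pow p hfac
          _ = p := pow_one p
      have hcyc : IsCyclic (P : Subgroup G) := by
        rcases (Nat.dvd_prime hp).mp hPle with h6 | h6
        · haveI : Subsingleton (P : Subgroup G) := (Nat.card_eq_one_iff_unique.mp h6).1
          infer_instance
        · exact isCyclic_of_prime_card h6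
      obtain ⟨g, hg⟩ := hcyc.exists_generator
      have hcl : Subgroup.closure (({g} : Finset (P : Subgroup G)) : Set (P : Subgroup G)) = ⊤ := by
        rw [Finset.coe_singleton, ← Subgroup.zpowers_eq_closure]
        exact (Subgroup.eq_top_iff' _).mpr hg
      have hr1' := Group.rank_le hcl
      rw [Finset.card_singleton] at hr1'
      omega
    obtain ⟨P', K, hKn, hKc⟩ := Cfsg.Agent.S3969.result p P hab hcop
    haveI := hKn
    have hKcard : Nat.card K * Nat.card (P' : Subgroup G) = Nat.card G := hKc.card_mul_card
    obtain ⟨b, hb⟩ := IsPGroup.iff_card.mp P'.2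
    have hb0 : b ≠ 0 := by
      rintro rfl
      rw [pow_zero] at hb
      have := P'.ne_bot_of_dvd_card hpG
      exact this (Subgroup.card_eq_one.mp hb)
    have hKlt : Nat.card K < n := by
      rw [← hcard, ← hKcard, hb]
      have h1 : 1 < p ^ b := Nat.one_lt_pow hb0 hp.one_lt
      have h2 : 0 < Nat.card K := Nat.card_pos
      nlinarith
    have hKdvd : Nat.card K ∣ Nat.card G := Dvd.intro _ hKcard
    have hpK : ¬ p ∣ Nat.card K := by
      have h1 : Nat.card K = (P' : Subgroup G).index := hKc.index_eq_card.symm
      rw [h1]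
      exact P'.not_dvd_index
    -- `K` inherits the hypotheses
    have hKsol : Group.IsSolvable K := by
      apply ih _ hKlt K rfl
      · intro r hr hrK hqK R
        have hrG : r ∣ Nat.card G := hrK.trans hKdvd
        have hqG : ∃ q : ℕ, q.Prime ∧ q ∣ Nat.card G ∧ r < q := by
          obtain ⟨q, hq1, hq2, hq3⟩ := hqK
          exact ⟨q, hq1, hq2.trans hKdvd, hq3⟩
        haveI : Fact r.Prime := ⟨hr⟩
        have hrp : r ≠ p := by
          rintro rfl
          exact hpK hrK
        set R' : Subgroup G := (R : Subgroup K).map K.subtype with hR'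
        have hR'p : IsPGroup r R' := R.2.map _
        obtain ⟨S, hS⟩ := hR'p.exists_le_sylow
        obtain ⟨habS, hrankS⟩ := h r hr hrG hqG S
        have hcardR' : Nat.card R' = Nat.card (S : Subgroup G) := by
          rw [hR', Subgroup.card_map_of_injective K.subtype_injective,
            Sylow.card_eq_multiplicity R, Sylow.card_eq_multiplicity S]
          congr 1
          rw [← hKcard, hb, Nat.factorization_mul Nat.card_pos.ne' (pow_pos hp.pos b).ne']
          simp [Nat.Prime.factorization_pow hp, hrp.symm]
        have hR'S : R' = S := Subgroup.eq_of_le_of_card_ge hS (le_of_eq hcardR'.symm)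
        have e : (R : Subgroup K) ≃* (S : Subgroup G) :=
          ((R : Subgroup K).equivMapOfInjective K.subtype K.subtype_injective).trans
            (MulEquiv.subgroupCongr hR'S)
        refine ⟨?_, ?_⟩
        · haveI := habS
          refine ⟨⟨fun a b => ?_⟩⟩
          apply e.injective
          rw [map_mul, map_mul]
          exact mul_comm' _ _
        · rw [Group.rank_congr e]
          exact hrankS
      · intro h
        exact h12 (h.trans hKdvd)
    have hQsol : Group.IsSolvable (G ⧸ K) := by
      have hq : IsPGroup p (G ⧸ K) := by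
        apply IsPGroup.of_card (n := b)
        rw [← Subgroup.index_eq_card, hKc.symm.index_eq_card, hb]
      haveI := hq.isNilpotent
      infer_instance
    exact (Group.isSolvable_iff_subgroup_quotient K).mpr ⟨hKsol, hQsol⟩
  · -- `G` is a `p`-group
    have hpow : Nat.card G = p ^ (Nat.card G).primeFactorsList.length := by
      apply Nat.eq_prime_pow_of_unique_prime_dvd Nat.card_pos.ne'
      intro d hd hdG
      by_contra hdp
      apply hq
      exact ⟨d, hd, hdG, lt_of_le_of_ne (hmin d hd hdG) (Ne.symm hdp)⟩
    have hpg : IsPGroup p G := IsPGroup.of_card hpow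
    haveI := hpg.isNilpotent
    infer_instance

/-- Let `G` be a finite group such that for every prime `p` dividing its order, other than the largest such prime, the Sylow `p`-subgroups are abelian and generated by at most two elements, and suppose `12` does not divide the order of `G`. Then `G` is solvable. In particular a group of cube-free order not divisible by `12` is solvable. -/
theorem result {G : Type*} [Group G] [Finite G] (h : ∀ p : ℕ, p.Prime → p ∣ Nat.card G → (∃ q : ℕ, q.Prime ∧ q ∣ Nat.card G ∧ p < q) → ∀ P : Sylow p G, IsMulCommutative (P : Subgroup G) ∧ Group.rank (P : Subgroup G) ≤ 2) (h12 : ¬ 12 ∣ Nat.card G) : Group.IsSolvable G :=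
  key _ G rfl h h12

end Cfsg.Agent.S3970
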