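import Mathlib
import Cfsg.Statements.S3971
import Cfsg.Agent.Lib.Helper4.Frobenius
import Cfsg.Agent.Lib.Helper7.CyclicAut2
import Cfsg.Agent.Lib.Helper7.SylowBasic
import Cfsg.Agent.Lib.Helper7.PiHall

set_option autoImplicit false
open Cfsg

namespace Cfsg.Agent.S3971

open Cfsg.Agent.Lib.Helper7 Cfsg.Agent.Lib.Helper4

variable {G : Type*} [Group G]

theorem conj_pow_fix (g z : G) (h : g * z * g⁻¹ = z) (i : ℕ) : g ^ i * z * (g ^ i)⁻¹ = z := by
  have hc : Commute g z := by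
    have : g * z = z * g := by
      calc g * z = g * z * g⁻¹ * g := by group
        _ = z * g := by rw [h]
    exact this
  have := (hc.pow_left i).eq
  rw [this]; group

theorem centralizes_cyclic [Finite G] (D : Subgroup G) (hD2 : IsPGroup 2 D) (y : G)
    (hDy : D ≤ Subgroup.zpowers y) (g : G) (hg : ∀ d ∈ D, g * d * g⁻¹ ∈ D)
    (hodd : (orderOf g).Coprime 2) : ∀ d ∈ D, g * d * g⁻¹ = d := by
  haveI : Fact (Nat.Prime 2) := ⟨Nat.prime_two⟩
  haveI : IsCyclic D := Subgroup.isCyclic_of_le hDy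
  obtain ⟨t, ht⟩ := (Subgroup.isCyclic_iff_exists_zpowers_eq_top D).1 inferInstance
  have htD : t ∈ D := by rw [← ht]; exact Subgroup.mem_zpowers t
  obtain ⟨m, hm⟩ : ∃ m, orderOf t = 2 ^ m := by
    have := (IsPGroup.iff_orderOf.1 hD2) ⟨t, htD⟩
    obtain ⟨k, hk⟩ := this
    exact ⟨k, by rwa [Subgroup.orderOf_mk] at hk⟩
  have h1 : g * t * g⁻¹ ∈ Subgroup.zpowers t := by rw [ht]; exact hg t htD
  rw [← mem_powers_iff_mem_zpowers, Submonoid.mem_powers_iff] at h1
  obtain ⟨k, hk⟩ := h1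
  have hcomm : g * t = t * g := by
    rcases Nat.eq_zero_or_pos m with rfl | hmpos
    · have : t = 1 := by rwa [pow_zero, orderOf_eq_one_iff] at hm
      rw [this]; simp
    · have h2 := odd_exponent_of_conj g t m k hmpos hm hk.symm
      refine commute_of_cyclic_action' 2 g t m k (orderOf g) hm hk.symm hodd ?_ h2
      rw [pow_orderOf_eq_one]; simp
  intro d hd
  rw [← ht] at hd
  obtain ⟨j, rfl⟩ := Subgroup.mem_zpowers_iff.1 hd
  have hc : Commute g t := hcomm
  have := (hc.zpow_right j).eq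
  rw [this]; group

theorem step [Finite G] (D : Subgroup G) (hD2 : IsPGroup 2 D) (g q : G)
    (hc : ∀ d ∈ D, g * d * g⁻¹ = d) (hm : (orderOf g).Coprime 6)
    (i j : ℕ) (hij : i < j) (hj : j ≤ 4)
    (hw : (g ^ j * q * (g ^ j)⁻¹) * (g ^ i * q * (g ^ i)⁻¹)⁻¹ ∈ D) : g * q = q * g := by
  obtain ⟨e, rfl⟩ : ∃ e, j = i + e := ⟨j - i, by omega⟩
  have he1 : 1 ≤ e := by omega
  have he4 : e ≤ 4 := by omega
  obtain ⟨w, hwdef⟩ : ∃ w, w = (g ^ (i + e) * q * (g ^ (i + e))⁻¹) * (g ^ i * q * (g ^ i)⁻¹)⁻¹ :=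
    ⟨_, rfl⟩
  rw [← hwdef] at hw
  have hwi : g ^ i * w * (g ^ i)⁻¹ = w := conj_pow_fix g w (hc w hw) i
  have h1 : g ^ e * q * (g ^ e)⁻¹ = w * q := by
    have : g ^ i * (g ^ e * q * (g ^ e)⁻¹) * (g ^ i)⁻¹ = g ^ i * (w * q) * (g ^ i)⁻¹ := by
      have e1 : g ^ i * (w * q) * (g ^ i)⁻¹ = (g ^ i * w * (g ^ i)⁻¹) * (g ^ i * q * (g ^ i)⁻¹) := by
        group
      rw [e1, hwi, hwdef, pow_add]; group
    exact mul_left_cancel (mul_right_cancel this)
  have h2 : ∀ t : ℕ, (g ^ e) ^ t * q * ((g ^ e) ^ t)⁻¹ = w ^ t * q := by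
    intro t
    induction t with
    | zero => simp
    | succ t ih =>
      have hwt : g ^ e * w ^ t * (g ^ e)⁻¹ = w ^ t :=
        conj_pow_fix g (w ^ t) (hc _ (Subgroup.pow_mem D hw t)) e
      calc (g ^ e) ^ (t + 1) * q * ((g ^ e) ^ (t + 1))⁻¹
          = g ^ e * ((g ^ e) ^ t * q * ((g ^ e) ^ t)⁻¹) * (g ^ e)⁻¹ := by
            rw [pow_succ']; group
        _ = g ^ e * (w ^ t * q) * (g ^ e)⁻¹ := by rw [ih]
        _ = (g ^ e * w ^ t * (g ^ e)⁻¹) * (g ^ e * q * (g ^ e)⁻¹) := by group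
        _ = w ^ t * (w * q) := by rw [hwt, h1]
        _ = w ^ (t + 1) * q := by rw [pow_succ]; group
  have h3 : w ^ orderOf g = 1 := by
    have := h2 (orderOf g)
    rw [← pow_mul, mul_comm, pow_mul, pow_orderOf_eq_one, one_pow] at this
    simp at this
    exact this.symm ▸ rfl
  have hw1 : w = 1 := by
    obtain ⟨s, hs⟩ : ∃ s, orderOf w = 2 ^ s := by
      have := (IsPGroup.iff_orderOf.1 hD2) ⟨w, hw⟩
      obtain ⟨k, hk⟩ := this
      exact ⟨k, by rwa [Subgroup.orderOf_mk] at hk⟩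
    have hdvd : orderOf w ∣ orderOf g := orderOf_dvd_of_pow_eq_one h3
    have hcop2 : (orderOf g).Coprime 2 := Nat.Coprime.coprime_dvd_right (by norm_num) hm
    have : orderOf w = 1 := by
      rw [hs] at hdvd ⊢
      exact Nat.Coprime.eq_one_of_dvd (Nat.Coprime.pow_left s hcop2.symm) hdvd
    exact orderOf_eq_one_iff.1 this
  rw [hw1, one_mul] at h1
  have hcomm : Commute (g ^ e) q := by
    have : g ^ e * q = q * g ^ e := by
      calc g ^ e * q = g ^ e * q * (g ^ e)⁻¹ * g ^ e := by group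
        _ = q * g ^ e := by rw [h1]
    exact this
  have hcop : Nat.Coprime e (orderOf g) := by
    have hcop2 : (orderOf g).Coprime 2 := Nat.Coprime.coprime_dvd_right (by norm_num) hm
    have hcop3 : (orderOf g).Coprime 3 := Nat.Coprime.coprime_dvd_right (by norm_num) hm
    interval_cases e
    · exact Nat.coprime_one_left _
    · exact hcop2.symm
    · exact hcop3.symm
    · have := Nat.Coprime.pow_right 2 hcop2
      exact this.symm
  obtain ⟨t, ht⟩ := exists_pow_eq_self_of_coprime hcop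
  have := hcomm.pow_left t
  rw [ht] at this
  exact this.eq

theorem key [Finite G] (Q : Subgroup G) (hQ : IsPGroup 2 Q) (y r : G) (hr : r ∈ Q)
    (hcov : ∀ q ∈ Q, q ∈ Subgroup.zpowers y ∨ q * r⁻¹ ∈ Subgroup.zpowers y)
    (g : G) (hg : g ∈ Subgroup.normalizer (Q : Set G)) (hm : (orderOf g).Coprime 6) :
    g ∈ Subgroup.centralizer (Q : Set G) := by
  classical
  have hgQ : ∀ q ∈ Q, g * q * g⁻¹ ∈ Q := fun q hq => (Subgroup.mem_normalizer_iff.1 hg q).1 hq
  have hgiQ : ∀ (i : ℕ), ∀ q ∈ Q, g ^ i * q * (g ^ i)⁻¹ ∈ Q := by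
    intro i
    induction i with
    | zero => intro q hq; simpa using hq
    | succ i ih =>
      intro q hq
      have := hgQ _ (ih q hq)
      have e : g ^ (i + 1) * q * (g ^ (i + 1))⁻¹ = g * (g ^ i * q * (g ^ i)⁻¹) * g⁻¹ := by
        rw [pow_succ']; group
      rw [e]; exact this
  -- squares lie in Y
  have hsq : ∀ q ∈ Q, q ^ 2 ∈ Subgroup.zpowers y := by
    intro q hq
    rcases hcov q hq with h | h
    · exact Subgroup.pow_mem _ h 2
    · rcases hcov (q ^ 2) (Subgroup.pow_mem _ hq 2) with h' | h'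
      · exact h'
      · have : q = (q ^ 2 * r⁻¹) * (q * r⁻¹)⁻¹ := by group
        have hqY : q ∈ Subgroup.zpowers y := by
          rw [this]; exact Subgroup.mul_mem _ h' (Subgroup.inv_mem _ h)
        exact Subgroup.pow_mem _ hqY 2
  set D : Subgroup G := Subgroup.closure ((fun q => q ^ 2) '' (Q : Set G)) with hD
  have hDQ : D ≤ Q := by
    rw [hD, Subgroup.closure_le]
    rintro _ ⟨q, hq, rfl⟩
    exact Subgroup.pow_mem _ hq 2
  have hDY : D ≤ Subgroup.zpowers y := by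
    rw [hD, Subgroup.closure_le]
    rintro _ ⟨q, hq, rfl⟩
    exact hsq q hq
  have hsqD : ∀ q ∈ Q, q ^ 2 ∈ D := fun q hq => Subgroup.subset_closure ⟨q, hq, rfl⟩
  have hD2 : IsPGroup 2 D := hQ.to_le hDQ
  have hgD : ∀ d ∈ D, g * d * g⁻¹ ∈ D := by
    intro d hd
    induction hd using Subgroup.closure_induction with
    | mem x hx =>
      obtain ⟨q, hq, rfl⟩ := hx
      have : g * q ^ 2 * g⁻¹ = (g * q * g⁻¹) ^ 2 := by rw [conj_pow]
      rw [this]; exact hsqD _ (hgQ q hq)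
    | one => simp
    | mul a b _ _ iha ihb =>
      have : g * (a * b) * g⁻¹ = (g * a * g⁻¹) * (g * b * g⁻¹) := by group
      rw [this]; exact Subgroup.mul_mem _ iha ihb
    | inv a _ iha =>
      have : g * a⁻¹ * g⁻¹ = (g * a * g⁻¹)⁻¹ := by group
      rw [this]; exact Subgroup.inv_mem _ iha
  have hcop2 : (orderOf g).Coprime 2 := Nat.Coprime.coprime_dvd_right (by norm_num) hm
  have hcD : ∀ d ∈ D, g * d * g⁻¹ = d := centralizes_cyclic D hD2 y hDY g hgD hcop2
  -- the cyclic subgroup C = Q ⊓ Y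
  have hCle : Q ⊓ Subgroup.zpowers y ≤ Subgroup.zpowers y := inf_le_right
  haveI : IsCyclic (Q ⊓ Subgroup.zpowers y : Subgroup G) := Subgroup.isCyclic_of_le hCle
  obtain ⟨c, hc⟩ := (Subgroup.isCyclic_iff_exists_zpowers_eq_top
    (Q ⊓ Subgroup.zpowers y : Subgroup G)).1 inferInstance
  have hcQ : c ∈ Q := by
    have : c ∈ Q ⊓ Subgroup.zpowers y := by rw [← hc]; exact Subgroup.mem_zpowers c
    exact (Subgroup.mem_inf.1 this).1
  have hCcov : ∀ u ∈ Q ⊓ Subgroup.zpowers y, u ∈ D ∨ u * c⁻¹ ∈ D := by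
    intro u hu
    rw [← hc] at hu
    obtain ⟨i, rfl⟩ := Subgroup.mem_zpowers_iff.1 hu
    rcases Int.even_or_odd' i with ⟨k, hk | hk⟩
    · left
      have : c ^ i = (c ^ k) ^ 2 := by
        rw [hk, ← zpow_natCast, ← zpow_mul]; congr 1; ring
      rw [this]; exact hsqD _ (Subgroup.zpow_mem _ hcQ k)
    · right
      have : c ^ i * c⁻¹ = (c ^ k) ^ 2 := by
        rw [hk, ← zpow_natCast, ← zpow_mul, zpow_add, zpow_one, mul_inv_cancel_right]
        congr 1; ring
      rw [this]; exact hsqD _ (Subgroup.zpow_mem _ hcQ k)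
  let z : Fin 4 → G := ![1, c, r, c * r]
  have hcover : ∀ q ∈ Q, ∃ k : Fin 4, q * (z k)⁻¹ ∈ D := by
    intro q hq
    rcases hcov q hq with h | h
    · rcases hCcov q (Subgroup.mem_inf.2 ⟨hq, h⟩) with h' | h'
      · exact ⟨0, by simpa [z] using h'⟩
      · exact ⟨1, by simpa [z] using h'⟩
    · have hqr : q * r⁻¹ ∈ Q := Subgroup.mul_mem _ hq (Subgroup.inv_mem _ hr)
      rcases hCcov (q * r⁻¹) (Subgroup.mem_inf.2 ⟨hqr, h⟩) with h' | h'
      · exact ⟨2, by simpa [z] using h'⟩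
      · refine ⟨3, ?_⟩
        have : q * (z 3)⁻¹ = q * r⁻¹ * c⁻¹ := by simp [z, mul_assoc]
        rw [this]; exact h'
  rw [Subgroup.mem_centralizer_iff]
  intro q hq
  have hq' : q ∈ Q := hq
  -- pigeonhole
  have hex : ∀ i : Fin 5, ∃ k : Fin 4, (g ^ (i : ℕ) * q * (g ^ (i : ℕ))⁻¹) * (z k)⁻¹ ∈ D :=
    fun i => hcover _ (hgiQ i q hq')
  choose f hf using hex
  obtain ⟨i, j, hij, hfij⟩ := Fintype.exists_ne_map_eq_of_card_lt f (by simp)
  have main : ∀ i j : Fin 5, (i : ℕ) < (j : ℕ) → f i = f j → g * q = q * g := by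
    intro i j hlt hfe
    apply step D hD2 g q hcD hm (i : ℕ) (j : ℕ) hlt (by omega)
    have h1 := hf i
    have h2 := hf j
    rw [hfe] at h1
    have : (g ^ (j : ℕ) * q * (g ^ (j : ℕ))⁻¹) * (g ^ (i : ℕ) * q * (g ^ (i : ℕ))⁻¹)⁻¹
        = ((g ^ (j : ℕ) * q * (g ^ (j : ℕ))⁻¹) * (z (f j))⁻¹) *
          ((g ^ (i : ℕ) * q * (g ^ (i : ℕ))⁻¹) * (z (f j))⁻¹)⁻¹ := by group
    rw [this]
    exact Subgroup.mul_mem _ h2 (Subgroup.inv_mem _ h1)
  have hne : (i : ℕ) ≠ (j : ℕ) := fun h => hij (Fin.ext h)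
  rcases lt_or_gt_of_ne hne with h | h
  · exact (main i j h hfij).symm
  · exact (main j i h hfij.symm).symm

theorem result {G : Type*} [Group G] [Finite G] (a n : ℕ) (hG : Nat.card G = 2 ^ a * n) (hn : Odd n) (h3 : ¬ 3 ∣ n) (hx : ∃ x : G, orderOf x = 2 ^ (a - 1)) : ∃ N : Subgroup G, N.Normal ∧ Nat.card N = n := by
  haveI : Fact (Nat.Prime 2) := ⟨Nat.prime_two⟩
  obtain ⟨x, hx⟩ := hx
  have hn0 : n ≠ 0 := by rintro rfl; exact (by decide : ¬ Odd 0) hn
  have hcop2n : Nat.Coprime 2 n := Nat.coprime_two_left.2 hn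
  have hF : FrobHyp 2 G := by
    intro Q hQ g hg hgp
    -- order of g coprime to 6
    have hgn : orderOf g ∣ n := by
      have h1 : orderOf g ∣ 2 ^ a * n := by rw [← hG]; exact orderOf_dvd_natCard g
      exact (Nat.Coprime.pow_right a hgp).dvd_of_dvd_mul_left h1
    have hg3 : (orderOf g).Coprime 3 := by
      rw [Nat.coprime_comm, Nat.Prime.coprime_iff_not_dvd Nat.prime_three]
      exact fun h => h3 (h.trans hgn)
    have hg6 : (orderOf g).Coprime 6 := by
      have : (6 : ℕ) = 2 * 3 := by norm_num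
      rw [this]; exact Nat.Coprime.mul_right hgp hg3
    obtain ⟨S, hQS⟩ := hQ.exists_le_sylow
    have hScard : Nat.card S = 2 ^ a := by
      rw [Sylow.card_eq_multiplicity, hG, Nat.factorization_mul (by positivity) hn0,
        Nat.Prime.factorization_pow Nat.prime_two]
      simp [Nat.factorization_eq_zero_of_not_dvd (fun h => by
        have := Nat.Coprime.eq_one_of_dvd hcop2n h; omega)]
    obtain ⟨P, hxP⟩ := exists_sylow_mem_of_orderOf (p := 2) x (a - 1) hx
    obtain ⟨h, hh⟩ := MulAction.exists_smul_eq G P S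
    obtain ⟨y, hydef⟩ : ∃ y, y = h * x * h⁻¹ := ⟨_, rfl⟩
    have hyS : y ∈ S := by
      rw [← hh, mem_sylow_smul, hydef]
      have : h⁻¹ * (h * x * h⁻¹) * h = x := by group
      rw [this]; exact hxP
    have hyord : orderOf y = 2 ^ (a - 1) := by rw [hydef, orderOf_conj_eq, hx]
    have hYS : Subgroup.zpowers y ≤ (S : Subgroup G) := by
      rw [Subgroup.zpowers_le]; exact hyS
    by_cases hQY : Q ≤ Subgroup.zpowers y
    · exact key Q hQ y 1 (Subgroup.one_mem _) (fun q hq => Or.inl (hQY hq)) g hg hg6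
    · obtain ⟨r, hrQ, hrY⟩ := SetLike.not_le_iff_exists.1 hQY
      have ha : 1 ≤ a := by
        by_contra hcon
        have ha0 : a = 0 := by omega
        rw [ha0, pow_zero] at hScard
        have : (S : Subgroup G) = ⊥ := Subgroup.card_eq_one.1 hScard
        have hr1 : r = 1 := by
          have := hQS hrQ
          rwa [‹(S : Subgroup G) = ⊥›, Subgroup.mem_bot] at this
        exact hrY (hr1 ▸ Subgroup.one_mem _)
      have hidx : ((Subgroup.zpowers y).subgroupOf (S : Subgroup G)).index = 2 := by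
        have h1 := card_mul_relIndex_of_le hYS
        rw [Nat.card_zpowers, hyord, hScard] at h1
        have h2 : (2 : ℕ) ^ a = 2 ^ (a - 1) * 2 := by
          rw [← pow_succ]; congr 1; omega
        rw [h2] at h1
        exact Nat.eq_of_mul_eq_mul_left (by positivity) h1
      obtain ⟨a₀, ha₀⟩ := Subgroup.index_eq_two_iff.1 hidx
      refine key Q hQ y r hrQ ?_ g hg hg6
      intro q hq
      by_cases hqY : q ∈ Subgroup.zpowers y
      · exact Or.inl hqY
      · right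
        have hq1 := ha₀ ⟨q, hQS hq⟩
        have hr1 := ha₀ ⟨r, hQS hrQ⟩
        have hq2 : (⟨q, hQS hq⟩ : (S : Subgroup G)) * a₀ ∈
            (Subgroup.zpowers y).subgroupOf (S : Subgroup G) := by
          rcases hq1 with ⟨h, _⟩ | ⟨h, _⟩
          · exact h
          · exact absurd (Subgroup.mem_subgroupOf.1 h) hqY
        have hr2 : (⟨r, hQS hrQ⟩ : (S : Subgroup G)) * a₀ ∈
            (Subgroup.zpowers y).subgroupOf (S : Subgroup G) := by
          rcases hr1 with ⟨h, _⟩ | ⟨h, _⟩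
          · exact h
          · exact absurd (Subgroup.mem_subgroupOf.1 h) hrY
        rw [Subgroup.mem_subgroupOf] at hq2 hr2
        have : q * r⁻¹ = (q * (a₀ : G)) * (r * (a₀ : G))⁻¹ := by group
        rw [this]
        exact Subgroup.mul_mem _ hq2 (Subgroup.inv_mem _ hr2)
  obtain ⟨K, hKn, hKcop, hKp⟩ := frob_hasNormalPComplement 2 _ G rfl hF
  refine ⟨K, hKn, ?_⟩
  obtain ⟨b, hb⟩ := IsPGroup.exists_card_eq hKp
  have hmul : Nat.card K * K.index = Nat.card G := Subgroup.card_mul_index K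
  rw [Subgroup.index_eq_card, hb, hG] at hmul
  -- card K * 2^b = 2^a * n
  have h1 : 2 ^ b ∣ 2 ^ a := by
    have : 2 ^ b ∣ 2 ^ a * n := ⟨Nat.card K, by rw [← hmul]; ring⟩
    exact (Nat.Coprime.pow_left b hcop2n).dvd_of_dvd_mul_right this
  have h2 : 2 ^ a ∣ 2 ^ b := by
    have : 2 ^ a ∣ Nat.card K * 2 ^ b := ⟨n, hmul⟩
    exact (Nat.Coprime.pow_left a hKcop.symm).dvd_of_dvd_mul_left this
  have h3 : (2 : ℕ) ^ a = 2 ^ b := Nat.dvd_antisymm h2 h1
  rw [h3, mul_comm] at hmul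
  exact Nat.eq_of_mul_eq_mul_left (by positivity) hmul

end Cfsg.Agent.S3971
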