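import Cfsg.Statements.S3973
import Mathlib
import Cfsg.Agent.S3961

set_option autoImplicit false
open Cfsg

namespace Cfsg.Agent.S3973

open scoped commutatorElement

theorem gen_surj {F Γ Q : Type*} [Group F] [Group Γ] [Group Q] (σ : Γ →* Q) (φ : F →* Γ)
    (hσc : σ.ker ≤ Subgroup.center Γ) (hσd : σ.ker ≤ commutator Γ)
    (hs : Function.Surjective (σ.comp φ)) : Function.Surjective φ := by
  have hdecomp : ∀ g : Γ, ∃ f : F, σ g = σ (φ f) := by
    intro g
    obtain ⟨f, hf⟩ := hs (σ g)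
    exact ⟨f, hf.symm⟩
  have hcomm : commutator Γ ≤ φ.range := by
    rw [commutator_eq_closure, Subgroup.closure_le]
    rintro c ⟨a, b, rfl⟩
    obtain ⟨fa, hfa⟩ := hdecomp a
    obtain ⟨fb, hfb⟩ := hdecomp b
    have h1 : ⁅a, b⁆ = ⁅φ fa, φ fb⁆ := Cfsg.Agent.S3961.comm_congr σ hσc hfa hfb
    show ⁅a, b⁆ ∈ φ.range
    rw [h1, ← map_commutatorElement]
    exact ⟨_, rfl⟩
  intro g
  obtain ⟨f, hf⟩ := hdecomp g
  have hk : g * (φ f)⁻¹ ∈ σ.ker := by
    rw [MonoidHom.mem_ker, map_mul, map_inv, hf, mul_inv_cancel]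
  have hk2 : g * (φ f)⁻¹ ∈ φ.range := hcomm (hσd hk)
  have hg : g = (g * (φ f)⁻¹) * φ f := by group
  have hgr : g ∈ φ.range := by
    rw [hg]
    exact φ.range.mul_mem hk2 ⟨f, rfl⟩
  exact MonoidHom.mem_range.mp hgr

theorem rank_bound {ι : Type*} [Fintype ι] (n : ℕ) {A : Type*} [CommGroup A] [Finite A]
    (E : (ι → ℤ) →ₗ[ℤ] (Fin n → ℤ)) (Λ : (ι → ℤ) →ₗ[ℤ] Additive A)
    (h1 : ∀ a : A, ∃ c, E c = 0 ∧ Λ c = Additive.ofMul a)
    (m : ℕ) (hm : 0 < m)
    (h2 : ∀ i : Fin n, ∃ c, E c = (m : ℤ) • (Pi.single i 1 : Fin n → ℤ)) :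
    Group.rank A ≤ Fintype.card ι - n := by
  classical
  have hrn : Module.finrank ℤ ((ι → ℤ) ⧸ LinearMap.ker E) + Module.finrank ℤ (LinearMap.ker E)
      = Module.finrank ℤ (ι → ℤ) := Submodule.finrank_quotient_add_finrank (LinearMap.ker E)
  have hq : Module.finrank ℤ ((ι → ℤ) ⧸ LinearMap.ker E) =
      Module.finrank ℤ (LinearMap.range E) :=
    LinearEquiv.finrank_eq E.quotKerEquivRange
  have hcard : Module.finrank ℤ (ι → ℤ) = Fintype.card ι := Module.finrank_fintype_fun_eq_card ℤ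
  let μ : (Fin n → ℤ) →ₗ[ℤ] (Fin n → ℤ) := (m : ℤ) • LinearMap.id
  have hμinj : Function.Injective μ := by
    intro v w hvw
    have hvw' : (m : ℤ) • v = (m : ℤ) • w := hvw
    have hm0 : (m : ℤ) ≠ 0 := by exact_mod_cast hm.ne'
    exact smul_right_injective _ hm0 hvw'
  have hμle : LinearMap.range μ ≤ LinearMap.range E := by
    rintro _ ⟨v, rfl⟩
    have hv : μ v = ∑ i, v i • ((m : ℤ) • (Pi.single i 1 : Fin n → ℤ)) := by
      ext j
      simp [μ, Finset.sum_apply, Pi.single_apply, mul_comm]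
    rw [hv]
    refine Submodule.sum_mem _ (fun i _ => Submodule.smul_mem _ _ ?_)
    obtain ⟨c, hc⟩ := h2 i
    exact ⟨c, hc⟩
  have hn : n ≤ Module.finrank ℤ (LinearMap.range E) := by
    have h3 : Module.finrank ℤ (LinearMap.range μ) = Module.finrank ℤ (Fin n → ℤ) :=
      LinearMap.finrank_range_of_inj hμinj
    have h4 : Module.finrank ℤ (LinearMap.range μ) ≤ Module.finrank ℤ (LinearMap.range E) :=
      Submodule.finrank_mono hμle
    rw [h3, Module.finrank_fin_fun] at h4
    exact h4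
  have hd : Module.finrank ℤ (LinearMap.ker E) ≤ Fintype.card ι - n := by
    have h5 : Module.finrank ℤ (LinearMap.range E) + Module.finrank ℤ (LinearMap.ker E)
        = Fintype.card ι := by
      rw [← hq, ← hcard]; exact hrn
    omega
  let b := Module.finBasis ℤ (LinearMap.ker E)
  let ΛL : (LinearMap.ker E) →ₗ[ℤ] Additive A := Λ.comp (LinearMap.ker E).subtype
  have hΛLs : Function.Surjective ΛL := by
    intro a
    obtain ⟨c, hc0, hca⟩ := h1 (Additive.toMul a)
    exact ⟨⟨c, hc0⟩, hca⟩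
  have hspan : Submodule.span ℤ (Set.range (ΛL ∘ b)) = ⊤ := by
    rw [Set.range_comp, ← Submodule.map_span, b.span_eq, Submodule.map_top,
      LinearMap.range_eq_top]
    exact hΛLs
  let S : Finset A := Finset.univ.image (fun i => Additive.toMul (ΛL (b i)))
  have hmemS : ∀ i, Additive.toMul (ΛL (b i)) ∈ (S : Set A) := fun i =>
    Finset.mem_coe.mpr (Finset.mem_image.mpr ⟨i, Finset.mem_univ _, rfl⟩)
  have key : ∀ x ∈ Submodule.span ℤ (Set.range (ΛL ∘ b)),
      Additive.toMul x ∈ Subgroup.closure (S : Set A) := by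
    intro x hx
    induction hx using Submodule.span_induction with
    | mem x hx =>
      obtain ⟨i, rfl⟩ := hx
      exact Subgroup.subset_closure (hmemS i)
    | zero => exact Subgroup.one_mem _
    | add x y _ _ hx hy => exact Subgroup.mul_mem _ hx hy
    | smul k x _ hx => exact Subgroup.zpow_mem _ hx k
  have hS : Subgroup.closure (S : Set A) = ⊤ := by
    rw [eq_top_iff]
    intro a _
    have ha : Additive.ofMul a ∈ Submodule.span ℤ (Set.range (ΛL ∘ b)) := by
      rw [hspan]; exact Submodule.mem_top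
    exact key _ ha
  calc Group.rank A ≤ S.card := Group.rank_le hS
    _ ≤ (Finset.univ : Finset (Fin (Module.finrank ℤ (LinearMap.ker E)))).card :=
        Finset.card_image_le
    _ = Module.finrank ℤ (LinearMap.ker E) := by simp
    _ ≤ Fintype.card ι - n := hd

/-- If a finite group is presented by `n` generators and a finite set of `r` relators, then its Schur multiplier can be generated by `r - n` elements. In particular a finite group with a presentation having as many relators as generators has trivial Schur multiplier. -/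
theorem result (n : ℕ) (rels : Finset (FreeGroup (Fin n))) [Finite (PresentedGroup (rels : Set (FreeGroup (Fin n))))] {A : Type*} [CommGroup A] [Finite A] (hA : Cfsg.HasSchurMultiplier (PresentedGroup (rels : Set (FreeGroup (Fin n)))) A) : Group.rank A ≤ rels.card - n := by
  classical
  have hA' := hA
  obtain ⟨⟨Γ, hGg, hGf, σ, hσ, ⟨ek⟩⟩, -⟩ := hA'
  obtain ⟨hσs, hσc, hσd⟩ := hσ
  have hx : ∀ i : Fin n, ∃ g : Γ, σ g = PresentedGroup.of i := fun i => hσs _
  choose x hx using hx
  let φ : FreeGroup (Fin n) →* Γ := FreeGroup.lift x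
  have hσφ : σ.comp φ = PresentedGroup.mk (rels : Set (FreeGroup (Fin n))) := by
    apply FreeGroup.ext_hom
    intro i
    show σ (FreeGroup.lift x (FreeGroup.of i)) = _
    rw [FreeGroup.lift_apply_of, hx i]
    rfl
  have hφs : Function.Surjective φ := by
    apply gen_surj σ φ hσc hσd
    rw [hσφ]
    exact PresentedGroup.mk_surjective _
  have hw : ∀ w : ↥rels, φ w.1 ∈ σ.ker := by
    intro w
    rw [MonoidHom.mem_ker]
    have h : σ (φ w.1) = PresentedGroup.mk (rels : Set (FreeGroup (Fin n))) w.1 :=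
      DFunLike.congr_fun hσφ w.1
    rw [h, PresentedGroup.mk_eq_one_iff]
    exact Subgroup.subset_normalClosure (Finset.mem_coe.mpr w.2)
  let ε : FreeGroup (Fin n) →* Multiplicative (Fin n → ℤ) :=
    FreeGroup.lift (fun i => Multiplicative.ofAdd (Pi.single i (1 : ℤ)))
  obtain ⟨E, hE⟩ : ∃ E : (↥rels → ℤ) →ₗ[ℤ] (Fin n → ℤ),
      E = Fintype.linearCombination ℤ (fun w : ↥rels => Multiplicative.toAdd (ε w.1)) :=
    ⟨_, rfl⟩
  obtain ⟨Λ, hΛ⟩ : ∃ Λ : (↥rels → ℤ) →ₗ[ℤ] Additive A,
      Λ = Fintype.linearCombination ℤ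
        (fun w : ↥rels => Additive.ofMul (ek ⟨φ w.1, hw w⟩)) :=
    ⟨_, rfl⟩
  let ι : A →* Γ := σ.ker.subtype.comp ek.symm.toMonoidHom
  have hιc : ∀ a : A, ι a ∈ Subgroup.center Γ := fun a => hσc (ek.symm a).2
  let h₁ : Multiplicative (↥rels → ℤ) →* Multiplicative (Fin n → ℤ) :=
    AddMonoidHom.toMultiplicative E.toAddMonoidHom
  let h₂ : Multiplicative (↥rels → ℤ) →* Γ :=
    ι.comp (AddMonoidHom.toMultiplicativeLeft Λ.toAddMonoidHom)
  let T : Subgroup (Multiplicative (Fin n → ℤ) × Γ) := (h₁.prod h₂).range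
  let S : Subgroup (FreeGroup (Fin n)) := T.comap (ε.prod φ)
  have hSout : ∀ f, f ∈ S → ∃ c : ↥rels → ℤ, E c = Multiplicative.toAdd (ε f) ∧
      ι (Additive.toMul (Λ c)) = φ f := by
    intro f hf
    obtain ⟨c, hc⟩ := hf
    have hc1 : h₁ c = ε f := congrArg Prod.fst hc
    have hc2 : h₂ c = φ f := congrArg Prod.snd hc
    exact ⟨Multiplicative.toAdd c, congrArg Multiplicative.toAdd hc1, hc2⟩
  have hrelS : ∀ w : ↥rels, w.1 ∈ S := by
    intro w
    refine ⟨Multiplicative.ofAdd (Pi.single w (1 : ℤ)), ?_⟩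
    apply Prod.ext
    · show Multiplicative.ofAdd (E (Pi.single w 1)) = ε w.1
      rw [hE, Fintype.linearCombination_apply_single, one_smul]
      rfl
    · show ι (Additive.toMul (Λ (Pi.single w 1))) = φ w.1
      rw [hΛ, Fintype.linearCombination_apply_single, one_smul]
      show ((ek.symm (ek ⟨φ w.1, hw w⟩) : σ.ker) : Γ) = φ w.1
      rw [MulEquiv.symm_apply_apply]
  have hSn : S.Normal := by
    refine ⟨fun f hf g => ?_⟩
    obtain ⟨c, hc⟩ := hf
    refine ⟨c, ?_⟩
    rw [hc]
    have hc2 : h₂ c = φ f := congrArg Prod.snd hc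
    apply Prod.ext
    · show ε f = ε (g * f * g⁻¹)
      rw [map_mul, map_mul, map_inv, mul_comm (ε g) (ε f), mul_inv_cancel_right]
    · show φ f = φ (g * f * g⁻¹)
      have hfc : φ f ∈ Subgroup.center Γ := by
        rw [← hc2]
        exact hιc _
      have h3 := Subgroup.mem_center_iff.mp hfc (φ g)
      rw [map_mul, map_mul, map_inv, h3, mul_inv_cancel_right]
  have hRS : Subgroup.normalClosure (rels : Set (FreeGroup (Fin n))) ≤ S := by
    have := hSn
    apply Subgroup.normalClosure_le_normal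
    intro w hw'
    exact hrelS ⟨w, Finset.mem_coe.mp hw'⟩
  have hmapφ : (commutator (FreeGroup (Fin n))).map φ = commutator Γ := by
    rw [commutator_def, commutator_def, Subgroup.map_commutator,
      Subgroup.map_top_of_surjective _ hφs]
  have h1 : ∀ a : A, ∃ c : ↥rels → ℤ, E c = 0 ∧ Λ c = Additive.ofMul a := by
    intro a
    have hz : ((ek.symm a : σ.ker) : Γ) ∈ commutator Γ := hσd (ek.symm a).2
    rw [← hmapφ] at hz
    obtain ⟨f, hfc, hfz⟩ := Subgroup.mem_map.mp hz
    have hfR : f ∈ Subgroup.normalClosure (rels : Set (FreeGroup (Fin n))) := by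
      rw [← PresentedGroup.mk_eq_one_iff]
      have h4 : σ (φ f) = PresentedGroup.mk (rels : Set (FreeGroup (Fin n))) f :=
        DFunLike.congr_fun hσφ f
      rw [← h4, hfz]
      exact MonoidHom.mem_ker.mp (ek.symm a).2
    obtain ⟨c, hc1, hc2⟩ := hSout f (hRS hfR)
    refine ⟨c, ?_, ?_⟩
    · rw [hc1]
      have h5 : ε f = 1 := MonoidHom.mem_ker.mp (Abelianization.commutator_subset_ker ε hfc)
      rw [h5]
      rfl
    · have h5 : ((ek.symm (Additive.toMul (Λ c)) : σ.ker) : Γ) = ((ek.symm a : σ.ker) : Γ) :=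
        hc2.trans hfz
      have h6 : ek.symm (Additive.toMul (Λ c)) = ek.symm a := Subtype.ext h5
      exact ek.symm.injective h6
  have hm : 0 < Nat.card (PresentedGroup (rels : Set (FreeGroup (Fin n)))) := Nat.card_pos
  have h2 : ∀ i : Fin n, ∃ c : ↥rels → ℤ,
      E c = ((Nat.card (PresentedGroup (rels : Set (FreeGroup (Fin n)))) : ℕ) : ℤ) •
        (Pi.single i 1 : Fin n → ℤ) := by
    intro i
    have hfR : (FreeGroup.of i) ^ Nat.card (PresentedGroup (rels : Set (FreeGroup (Fin n)))) ∈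
        Subgroup.normalClosure (rels : Set (FreeGroup (Fin n))) := by
      rw [← PresentedGroup.mk_eq_one_iff, map_pow]
      exact pow_card_eq_one'
    obtain ⟨c, hc1, -⟩ := hSout _ (hRS hfR)
    refine ⟨c, ?_⟩
    rw [hc1, map_pow, toAdd_pow]
    have h5 : ε (FreeGroup.of i) = Multiplicative.ofAdd (Pi.single i (1 : ℤ)) :=
      FreeGroup.lift_apply_of
    rw [h5, toAdd_ofAdd]
    exact (natCast_zsmul _ _).symm
  have hfin := rank_bound n E Λ h1 _ hm h2
  rw [Fintype.card_coe] at hfin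
  exact hfin

end Cfsg.Agent.S3973
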