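import Cfsg.Statements.S3974
import Mathlib
import Cfsg.Agent.S3954
import Cfsg.Agent.S3973

set_option autoImplicit false
universe u v
open Cfsg

namespace Cfsg.Agent.S3974

open scoped commutatorElement

theorem exists_not_pow {Z : Type*} [Group Z] [Finite Z] (p : ℕ) [hp : Fact p.Prime]
    (hdvd : p ∣ Nat.card Z) : ∃ a : Z, ∀ z : Z, z ^ p ≠ a := by
  obtain ⟨x, hx⟩ := exists_prime_orderOf_dvd_card' p hdvd
  by_contra hcon
  push Not at hcon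
  have hsurj : Function.Surjective (fun z : Z => z ^ p) := hcon
  have hinj : Function.Injective (fun z : Z => z ^ p) :=
    Finite.injective_iff_surjective.mpr hsurj
  have h1 : x ^ p = (1 : Z) ^ p := by rw [one_pow, ← hx, pow_orderOf_eq_one]
  have h2 : x = 1 := hinj h1
  rw [h2, orderOf_one] at hx
  exact hp.out.one_lt.ne hx

theorem exists_twist_char {Q : Type*} [Group Q] [Finite Q] (p : ℕ) [hp : Fact p.Prime]
    (hdvd : p ∣ Nat.card (Abelianization Q)) :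
    ∃ (χ : Q →* ℂˣ) (ω : ℂˣ) (k : ℕ) (g₀ : Q), 0 < k ∧ orderOf ω = p ^ k ∧
      (∀ q, χ q ∈ Subgroup.zpowers ω) ∧ χ g₀ = ω ∧ g₀ ^ (p ^ k) ∈ commutator Q := by
  classical
  obtain ⟨g, hg⟩ : ∃ g : Abelianization Q, orderOf g = Monoid.exponent (Abelianization Q) :=
    Monoid.exists_orderOf_eq_exponent Monoid.ExponentExists.of_finite
  have hn₀ : Monoid.exponent (Abelianization Q) ≠ 0 := Monoid.exponent_ne_zero_of_finite
  have hpn₀ : p ∣ Monoid.exponent (Abelianization Q) := by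
    obtain ⟨x, hx⟩ := exists_prime_orderOf_dvd_card' p hdvd
    rw [← hx]; exact Monoid.order_dvd_exponent x
  obtain ⟨k, n', hk, hn'cop, hn₀eq⟩ : ∃ k n' : ℕ, 0 < k ∧ Nat.Coprime p n' ∧
      Monoid.exponent (Abelianization Q) = p ^ k * n' := by
    refine ⟨(Monoid.exponent (Abelianization Q)).factorization p,
      (Monoid.exponent (Abelianization Q)) /
        p ^ (Monoid.exponent (Abelianization Q)).factorization p, ?_, ?_, ?_⟩
    · exact hp.out.factorization_pos_of_dvd hn₀ hpn₀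
    · exact Nat.coprime_ordCompl hp.out hn₀
    · exact (Nat.ordProj_mul_ordCompl_eq_self _ p).symm
  have hn'0 : n' ≠ 0 := by
    rintro rfl
    rw [mul_zero] at hn₀eq
    exact hn₀ hn₀eq
  obtain ⟨g₀', hg₀'def⟩ : ∃ x : Abelianization Q, x = g ^ n' := ⟨_, rfl⟩
  have hg₀'pow : g₀' ^ (p ^ k) = 1 := by
    rw [hg₀'def, ← pow_mul, mul_comm, ← hn₀eq]
    exact Monoid.pow_exponent_eq_one g
  have hg₀'ne : g₀' ^ (p ^ (k - 1)) ≠ 1 := by
    intro h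
    rw [hg₀'def, ← pow_mul] at h
    have h2 := orderOf_dvd_of_pow_eq_one h
    rw [hg, hn₀eq, mul_comm n' _] at h2
    have h3 : p ^ k ∣ p ^ (k - 1) := (Nat.mul_dvd_mul_iff_right (Nat.pos_of_ne_zero hn'0)).mp h2
    have h4 : k ≤ k - 1 := (Nat.pow_dvd_pow_iff_le_right hp.out.one_lt).mp h3
    omega
  have := Cfsg.Agent.S3958.enough_roots (Abelianization Q)
  obtain ⟨ψ, hψ⟩ :=
    CommGroup.exists_apply_ne_one_of_hasEnoughRootsOfUnity (Abelianization Q) ℂ hg₀'ne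
  have hω₀ord : orderOf (ψ g₀') = p ^ k := by
    obtain ⟨k', rfl⟩ : ∃ k', k = k' + 1 := ⟨k - 1, by omega⟩
    apply orderOf_eq_prime_pow
    · intro h
      apply hψ
      rw [map_pow, Nat.add_sub_cancel]
      exact h
    · rw [← map_pow, hg₀'pow, map_one]
  obtain ⟨χ', hχ'def⟩ : ∃ f : Abelianization Q →* ℂˣ, f = (powMonoidHom n').comp ψ := ⟨_, rfl⟩
  have hχ'app : ∀ x, χ' x = (ψ x) ^ n' := fun x => by rw [hχ'def]; rfl
  obtain ⟨ω, hωdef⟩ : ∃ w : ℂˣ, w = χ' g₀' := ⟨_, rfl⟩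
  have hωord : orderOf ω = p ^ k := by
    have hc : (orderOf (ψ g₀')).Coprime n' := by
      rw [hω₀ord]; exact Nat.Coprime.pow_left k hn'cop
    rw [hωdef, hχ'app, hc.orderOf_pow, hω₀ord]
  have hprim : IsPrimitiveRoot ω (p ^ k) := IsPrimitiveRoot.iff_orderOf.mpr hωord
  have : NeZero (p ^ k) := ⟨pow_ne_zero _ hp.out.ne_zero⟩
  have hχ'mem : ∀ x : Abelianization Q, χ' x ∈ Subgroup.zpowers ω := by
    intro x
    rw [hprim.zpowers_eq, mem_rootsOfUnity, hχ'app, ← pow_mul, mul_comm, ← hn₀eq, ← map_pow,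
      Monoid.pow_exponent_eq_one, map_one]
  obtain ⟨g₀, hg₀⟩ := QuotientGroup.mk'_surjective (commutator Q) g₀'
  have hg₀of : Abelianization.of g₀ = g₀' := hg₀
  refine ⟨χ'.comp Abelianization.of, ω, k, g₀, hk, hωord, fun q => hχ'mem _, ?_, ?_⟩
  · show χ' (Abelianization.of g₀) = ω
    rw [hg₀of, hωdef]
  · have h1 : (Abelianization.of (g₀ ^ (p ^ k)) : Abelianization Q) = 1 := by
      rw [map_pow, hg₀of, hg₀'pow]
    exact (QuotientGroup.eq_one_iff _).mp h1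

theorem twist_cover {Q : Type u} [Group Q] [Finite Q] {Γ₁ : Type u} [Group Γ₁] [Finite Γ₁]
    (σ₁ : Γ₁ →* Q) (hσ₁ : Cfsg.IsStemExtension σ₁)
    (a₀ : Γ₁) (ha₀ : a₀ ∈ σ₁.ker) (χ : Q →* ℂˣ) (ω : ℂˣ) (n : ℕ) (hn : 0 < n)
    (hω : orderOf ω = n) (hχ : ∀ q, χ q ∈ Subgroup.zpowers ω) (g₀ : Q) (hg₀ : χ g₀ = ω)
    (hg₀n : g₀ ^ n ∈ commutator Q) :
    ∃ (Γ₂ : Type u) (_ : Group Γ₂) (_ : Finite Γ₂) (σ₂ : Γ₂ →* Q), Cfsg.IsStemExtension σ₂ ∧
      Nonempty (σ₂.ker ≃* σ₁.ker) ∧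
      ((∃ e : Γ₁ ≃* Γ₂, σ₂.comp e.toMonoidHom = σ₁) → ∃ z ∈ σ₁.ker, z ^ n = a₀) := by
  classical
  obtain ⟨hσs, hσc, hσd⟩ := hσ₁
  let T := Multiplicative ℤ
  let u : Γ₁ × T := (a₀⁻¹, Multiplicative.ofAdd (n : ℤ))
  have hucen : u ∈ Subgroup.center (Γ₁ × T) := by
    rw [Subgroup.mem_center_iff]
    rintro ⟨γ, s⟩
    have h1 := Subgroup.mem_center_iff.mp (Subgroup.inv_mem _ (hσc ha₀)) γ
    exact Prod.ext h1 (mul_comm _ _)
  let N : Subgroup (Γ₁ × T) := Subgroup.zpowers u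
  have hNcen : N ≤ Subgroup.center (Γ₁ × T) := by
    rw [Subgroup.zpowers_le]; exact hucen
  have hNn : N.Normal := by
    refine ⟨fun x hx g => ?_⟩
    have h1 := Subgroup.mem_center_iff.mp (hNcen hx) g
    rw [h1, mul_inv_cancel_right]; exact hx
  have hpowT : ∀ l : ℤ, (Multiplicative.ofAdd (n : ℤ) : T) ^ l = Multiplicative.ofAdd ((n : ℤ) * l) := by
    intro l
    rw [← ofAdd_zsmul, smul_eq_mul, mul_comm]
  have hNmem : ∀ x : Γ₁ × T, x ∈ N ↔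
      ∃ l : ℤ, x = ((a₀⁻¹) ^ l, Multiplicative.ofAdd ((n : ℤ) * l)) := by
    intro x
    rw [Subgroup.mem_zpowers_iff]
    constructor
    · rintro ⟨l, rfl⟩
      exact ⟨l, Prod.ext rfl (hpowT l)⟩
    · rintro ⟨l, rfl⟩
      exact ⟨l, Prod.ext rfl (hpowT l)⟩
  let X := (Γ₁ × T) ⧸ N
  let mk : Γ₁ × T →* X := QuotientGroup.mk' N
  have hmk_surj : Function.Surjective mk := QuotientGroup.mk'_surjective N
  have hmk_one : ∀ x : Γ₁ × T, mk x = 1 ↔ x ∈ N := fun x => QuotientGroup.eq_one_iff x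
  let ρ₀ : Γ₁ × T →* Q := σ₁.comp (MonoidHom.fst Γ₁ T)
  have hN₁ : N ≤ ρ₀.ker := by
    rw [Subgroup.zpowers_le, MonoidHom.mem_ker]
    show σ₁ a₀⁻¹ = 1
    rw [map_inv, MonoidHom.mem_ker.mp ha₀, inv_one]
  let ρ₁ : X →* Q := QuotientGroup.lift N ρ₀ hN₁
  let τ : T →* ℂˣ := zpowersHom ℂˣ ω
  let δ₀ : Γ₁ × T →* ℂˣ :=
    ((χ.comp σ₁).comp (MonoidHom.fst Γ₁ T))⁻¹ * (τ.comp (MonoidHom.snd Γ₁ T))
  have hN₂ : N ≤ δ₀.ker := by
    rw [Subgroup.zpowers_le, MonoidHom.mem_ker]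
    show (χ (σ₁ a₀⁻¹))⁻¹ * ω ^ (n : ℤ) = 1
    have h1 : σ₁ a₀⁻¹ = 1 := by rw [map_inv, MonoidHom.mem_ker.mp ha₀, inv_one]
    have h2 : ω ^ (n : ℤ) = 1 := by rw [zpow_natCast, ← hω, pow_orderOf_eq_one]
    rw [h1, map_one, inv_one, one_mul, h2]
  let δ : X →* ℂˣ := QuotientGroup.lift N δ₀ hN₂
  let Γ₂ : Subgroup X := δ.ker
  let σ₂ : Γ₂ →* Q := ρ₁.comp Γ₂.subtype
  have hρmk : ∀ (γ : Γ₁) (s : T), ρ₁ (mk (γ, s)) = σ₁ γ := fun γ s => rfl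
  have hδmk : ∀ (γ : Γ₁) (i : ℤ),
      δ (mk (γ, Multiplicative.ofAdd i)) = (χ (σ₁ γ))⁻¹ * ω ^ i := fun γ i => rfl
  have hrep : ∀ x : X, ∃ (γ : Γ₁) (i : ℤ), x = mk (γ, Multiplicative.ofAdd i) := by
    intro x
    obtain ⟨⟨γ, s⟩, rfl⟩ := hmk_surj x
    exact ⟨γ, Multiplicative.toAdd s, rfl⟩
  have hshift : ∀ (γ : Γ₁) (i l : ℤ),
      mk (γ, Multiplicative.ofAdd (i + (n : ℤ) * l)) =
        mk (γ * a₀ ^ l, Multiplicative.ofAdd i) := by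
    intro γ i l
    have h1 : ((γ, Multiplicative.ofAdd (i + (n : ℤ) * l)) : Γ₁ × T) =
        (γ * a₀ ^ l, Multiplicative.ofAdd i) *
          ((a₀⁻¹) ^ l, Multiplicative.ofAdd ((n : ℤ) * l)) := by
      apply Prod.ext
      · show γ = γ * a₀ ^ l * (a₀⁻¹) ^ l
        rw [inv_zpow, mul_inv_cancel_right]
      · rfl
    rw [h1, map_mul]
    have h2 : mk ((a₀⁻¹) ^ l, Multiplicative.ofAdd ((n : ℤ) * l)) = 1 :=
      (hmk_one _).mpr ((hNmem _).mpr ⟨l, rfl⟩)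
    rw [h2, mul_one]
  have hlift : ∀ γ : Γ₁, ∃ i : ℤ, mk (γ, Multiplicative.ofAdd i) ∈ Γ₂ := by
    intro γ
    obtain ⟨i, hi⟩ := Subgroup.mem_zpowers_iff.mp (hχ (σ₁ γ))
    refine ⟨i, ?_⟩
    show δ (mk (γ, Multiplicative.ofAdd i)) = 1
    rw [hδmk, hi, inv_mul_cancel]
  have hσ₂s : Function.Surjective σ₂ := by
    intro q
    obtain ⟨γ, hγ⟩ := hσs q
    obtain ⟨i, hi⟩ := hlift γ
    exact ⟨⟨mk (γ, Multiplicative.ofAdd i), hi⟩, hγ⟩
  have hcentral : ∀ x : X, ρ₁ x = 1 → ∀ y : X, y * x = x * y := by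
    intro x hx y
    obtain ⟨γ, i, rfl⟩ := hrep x
    obtain ⟨γ', i', rfl⟩ := hrep y
    have hγ : γ ∈ Subgroup.center Γ₁ := hσc (MonoidHom.mem_ker.mpr hx)
    have h1 := Subgroup.mem_center_iff.mp hγ γ'
    rw [← map_mul, ← map_mul]
    congr 1
    exact Prod.ext h1 (mul_comm _ _)
  have hσ₂c : σ₂.ker ≤ Subgroup.center Γ₂ := by
    intro y hy
    rw [Subgroup.mem_center_iff]
    intro w
    apply Subtype.ext
    exact hcentral y.1 (MonoidHom.mem_ker.mp hy) w.1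
  have hker_rep : ∀ y : X, y ∈ Γ₂ → ρ₁ y = 1 → ∃ z ∈ σ₁.ker, y = mk (z, 1) := by
    intro y hy hy1
    obtain ⟨γ, i, rfl⟩ := hrep y
    have hγ : σ₁ γ = 1 := hy1
    have hδ1 : δ (mk (γ, Multiplicative.ofAdd i)) = 1 := hy
    rw [hδmk, hγ, map_one, inv_one, one_mul] at hδ1
    have hdvd : (n : ℤ) ∣ i := by
      rw [← hω]; exact orderOf_dvd_iff_zpow_eq_one.mpr hδ1
    obtain ⟨l, rfl⟩ := hdvd
    refine ⟨γ * a₀ ^ l, ?_, ?_⟩
    · rw [MonoidHom.mem_ker, map_mul, hγ, one_mul, map_zpow, MonoidHom.mem_ker.mp ha₀, one_zpow]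
    · have h3 := hshift γ 0 l
      rw [zero_add] at h3
      exact h3
  let j₁ : Γ₁ →* X := mk.comp (MonoidHom.inl Γ₁ T)
  have hcm : ∀ x y : Γ₂, ⁅x, y⁆ ∈ commutator Γ₂ := fun x y => by
    rw [commutator_def]
    exact Subgroup.commutator_mem_commutator (Subgroup.mem_top _) (Subgroup.mem_top _)
  have hcommap : (commutator Γ₁).map j₁ ≤ (commutator Γ₂).map Γ₂.subtype := by
    rw [Subgroup.map_le_iff_le_comap, commutator_eq_closure, Subgroup.closure_le]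
    rintro c ⟨a, b, rfl⟩
    obtain ⟨ia, hia⟩ := hlift a
    obtain ⟨ib, hib⟩ := hlift b
    show j₁ ⁅a, b⁆ ∈ (commutator Γ₂).map Γ₂.subtype
    refine ⟨⁅(⟨mk (a, Multiplicative.ofAdd ia), hia⟩ : Γ₂),
      ⟨mk (b, Multiplicative.ofAdd ib), hib⟩⁆, hcm _ _, ?_⟩
    show ⁅mk (a, Multiplicative.ofAdd ia), mk (b, Multiplicative.ofAdd ib)⁆ = mk (⁅a, b⁆, 1)
    rw [← map_commutatorElement]
    congr 1
    apply Prod.ext
    · rfl
    · show ⁅(Multiplicative.ofAdd ia : T), Multiplicative.ofAdd ib⁆ = (1 : T)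
      rw [commutatorElement_eq_one_iff_commute]
      exact Commute.all _ _
  have hσ₂d : σ₂.ker ≤ commutator Γ₂ := by
    intro y hy
    obtain ⟨z, hz, hyz⟩ := hker_rep y.1 y.2 (MonoidHom.mem_ker.mp hy)
    have h1 : j₁ z ∈ (commutator Γ₂).map Γ₂.subtype := hcommap ⟨z, hσd hz, rfl⟩
    obtain ⟨y', hy', hy'e⟩ := Subgroup.mem_map.mp h1
    have h2 : y' = y := by
      apply Subtype.ext
      rw [hyz]
      exact hy'e
    rw [← h2]; exact hy'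
  have hj₁inj : Function.Injective j₁ := by
    rw [injective_iff_map_eq_one]
    intro γ hγ
    have h1 : ((γ, 1) : Γ₁ × T) ∈ N := (hmk_one _).mp hγ
    obtain ⟨l, hl⟩ := (hNmem _).mp h1
    have h2 : (1 : T) = Multiplicative.ofAdd ((n : ℤ) * l) := congrArg Prod.snd hl
    have h3 : (n : ℤ) * l = 0 := (congrArg Multiplicative.toAdd h2).symm
    have hl0 : l = 0 := by
      rcases mul_eq_zero.mp h3 with h | h
      · exact absurd (by exact_mod_cast h : n = 0) hn.ne'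
      · exact h
    have h4 : γ = (a₀⁻¹) ^ l := congrArg Prod.fst hl
    rw [h4, hl0, zpow_zero]
  let κ₀ : σ₁.ker →* Γ₂ := (j₁.comp σ₁.ker.subtype).codRestrict Γ₂ (fun z => by
    show δ (mk ((z : Γ₁), (1 : T))) = 1
    have h3 := hδmk (z : Γ₁) 0
    rw [zpow_zero, mul_one, MonoidHom.mem_ker.mp z.2, map_one, inv_one] at h3
    exact h3)
  let κ : σ₁.ker →* σ₂.ker := κ₀.codRestrict σ₂.ker (fun z => by
    show σ₁ (z : Γ₁) = 1
    exact MonoidHom.mem_ker.mp z.2)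
  have hκbij : Function.Bijective κ := by
    constructor
    · intro z z' h
      have h1 : j₁ z.1 = j₁ z'.1 := congrArg (fun w : σ₂.ker => ((w : Γ₂) : X)) h
      exact Subtype.ext (hj₁inj h1)
    · intro y
      obtain ⟨z, hz, hyz⟩ := hker_rep y.1.1 y.1.2 (MonoidHom.mem_ker.mp y.2)
      refine ⟨⟨z, hz⟩, ?_⟩
      apply Subtype.ext
      apply Subtype.ext
      exact hyz.symm
  have hker_equiv : Nonempty (σ₂.ker ≃* σ₁.ker) := ⟨(MulEquiv.ofBijective κ hκbij).symm⟩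
  have hfin : Finite Γ₂ := by
    apply Nat.finite_of_card_ne_zero
    rw [Subgroup.card_eq_card_quotient_mul_card_subgroup σ₂.ker]
    have h1 : Nat.card (Γ₂ ⧸ σ₂.ker) = Nat.card Q :=
      Nat.card_congr (QuotientGroup.quotientKerEquivOfSurjective σ₂ hσ₂s).toEquiv
    have h2 : Nat.card σ₂.ker = Nat.card σ₁.ker :=
      Nat.card_congr (MulEquiv.ofBijective κ hκbij).symm.toEquiv
    rw [h1, h2]
    exact Nat.mul_ne_zero Nat.card_pos.ne' Nat.card_pos.ne'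
  refine ⟨Γ₂, inferInstance, hfin, σ₂, ⟨hσ₂s, hσ₂c, hσ₂d⟩, hker_equiv, ?_⟩
  rintro ⟨e, he⟩
  have hee : ∀ γ : Γ₁, ρ₁ ((e γ : Γ₂) : X) = σ₁ γ := fun γ => DFunLike.congr_fun he γ
  have hβ1 : ∀ γ : Γ₁, ρ₁ ((j₁ γ)⁻¹ * ((e γ : Γ₂) : X)) = 1 := by
    intro γ
    rw [map_mul, map_inv, hee γ]
    show (σ₁ γ)⁻¹ * σ₁ γ = 1
    exact inv_mul_cancel _
  let β : Γ₁ →* X := MonoidHom.mk' (fun γ => (j₁ γ)⁻¹ * ((e γ : Γ₂) : X)) (by
    intro a b
    have hc := hcentral _ (hβ1 a) (j₁ b)⁻¹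
    show (j₁ (a * b))⁻¹ * ((e (a * b) : Γ₂) : X) =
      (j₁ a)⁻¹ * ((e a : Γ₂) : X) * ((j₁ b)⁻¹ * ((e b : Γ₂) : X))
    rw [map_mul, map_mul, mul_inv_rev, Subgroup.coe_mul]
    calc (j₁ b)⁻¹ * (j₁ a)⁻¹ * (((e a : Γ₂) : X) * ((e b : Γ₂) : X))
        = ((j₁ b)⁻¹ * ((j₁ a)⁻¹ * ((e a : Γ₂) : X))) * ((e b : Γ₂) : X) := by group
      _ = (((j₁ a)⁻¹ * ((e a : Γ₂) : X)) * (j₁ b)⁻¹) * ((e b : Γ₂) : X) := by rw [hc]
      _ = (j₁ a)⁻¹ * ((e a : Γ₂) : X) * ((j₁ b)⁻¹ * ((e b : Γ₂) : X)) := by group)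
  have hβapp : ∀ γ, β γ = (j₁ γ)⁻¹ * ((e γ : Γ₂) : X) := fun γ => rfl
  have hβc : ∀ γ : Γ₁, ∀ y : X, y * β γ = β γ * y := fun γ => hcentral _ (hβ1 γ)
  have hβcomm : commutator Γ₁ ≤ β.ker := by
    rw [commutator_eq_closure, Subgroup.closure_le]
    rintro c ⟨a, b, rfl⟩
    show β ⁅a, b⁆ = 1
    rw [map_commutatorElement, commutatorElement_eq_one_iff_commute]
    exact hβc b (β a)
  have hδβ : ∀ γ : Γ₁, δ (β γ) = χ (σ₁ γ) := by
    intro γ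
    rw [hβapp, map_mul, map_inv]
    have h1 : δ ((e γ : Γ₂) : X) = 1 := (e γ).2
    have h2 : δ (j₁ γ) = (χ (σ₁ γ))⁻¹ := by
      have h3 := hδmk γ 0
      rw [zpow_zero, mul_one] at h3
      exact h3
    rw [h1, h2, inv_inv, mul_one]
  obtain ⟨g₁, hg₁⟩ := hσs g₀
  have hg₁n : g₁ ^ n ∈ commutator Γ₁ := by
    have hmap : (commutator Γ₁).map σ₁ = commutator Q := by
      rw [commutator_def, commutator_def, Subgroup.map_commutator,
        Subgroup.map_top_of_surjective _ hσs]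
    have h1 : σ₁ (g₁ ^ n) ∈ (commutator Γ₁).map σ₁ := by
      rw [hmap, map_pow, hg₁]; exact hg₀n
    obtain ⟨c, hc, hce⟩ := Subgroup.mem_map.mp h1
    have h2 : c⁻¹ * g₁ ^ n ∈ σ₁.ker := by
      rw [MonoidHom.mem_ker, map_mul, map_inv, hce, inv_mul_cancel]
    have h3 : g₁ ^ n = c * (c⁻¹ * g₁ ^ n) := by group
    rw [h3]
    exact Subgroup.mul_mem _ hc (hσd h2)
  have hβn : (β g₁) ^ n = 1 := by
    rw [← map_pow]; exact hβcomm hg₁n
  obtain ⟨z, i, hzi⟩ := hrep (β g₁)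
  have hz : σ₁ z = 1 := by
    have h3 := hβ1 g₁
    rw [← hβapp, hzi] at h3
    exact h3
  have hωi : ω ^ i = ω := by
    have h1 := hδβ g₁
    rw [hzi, hδmk, hz, map_one, inv_one, one_mul, hg₁, hg₀] at h1
    exact h1
  have hdvd : (n : ℤ) ∣ i - 1 := by
    rw [← hω]
    apply orderOf_dvd_iff_zpow_eq_one.mpr
    rw [zpow_sub, zpow_one, hωi, mul_inv_cancel]
  obtain ⟨l, hl⟩ := hdvd
  have hpow : (β g₁) ^ n = mk (z ^ n, Multiplicative.ofAdd ((n : ℤ) * i)) := by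
    rw [hzi, ← map_pow]
    congr 1
  rw [hpow] at hβn
  have hmem : ((z ^ n, Multiplicative.ofAdd ((n : ℤ) * i)) : Γ₁ × T) ∈ N := (hmk_one _).mp hβn
  obtain ⟨l', hl'⟩ := (hNmem _).mp hmem
  have h5 : z ^ n = (a₀⁻¹) ^ l' := congrArg Prod.fst hl'
  have h6 : (n : ℤ) * i = (n : ℤ) * l' := congrArg Multiplicative.toAdd (congrArg Prod.snd hl')
  have h7 : i = l' := by
    have hn0 : (n : ℤ) ≠ 0 := by exact_mod_cast hn.ne'
    exact mul_left_cancel₀ hn0 h6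
  have hi : i = 1 + (n : ℤ) * l := by linarith
  refine ⟨(z * a₀ ^ l)⁻¹, ?_, ?_⟩
  · apply Subgroup.inv_mem
    rw [MonoidHom.mem_ker, map_mul, hz, one_mul, map_zpow, MonoidHom.mem_ker.mp ha₀, one_zpow]
  · have hcomm : Commute z (a₀ ^ l) :=
      Commute.zpow_right (Subgroup.mem_center_iff.mp (hσc ha₀) z) l
    rw [inv_pow, hcomm.mul_pow, h5, ← h7, hi, inv_zpow', ← zpow_natCast (a₀ ^ l) n, ← zpow_mul,
      ← zpow_add, ← zpow_neg]
    have hexp : -(-(1 + (n : ℤ) * l) + l * (n : ℤ)) = 1 := by ring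
    rw [hexp, zpow_one]

theorem coprime_iso {Q : Type u} [Group Q] [Finite Q] {A : Type v} [CommGroup A]
    (hA : Cfsg.HasSchurMultiplier Q A)
    (hcop : Nat.Coprime (Nat.card (Abelianization Q)) (Nat.card A))
    (Γ₁ Γ₂ : Type u) [Group Γ₁] [Finite Γ₁] [Group Γ₂] [Finite Γ₂] (σ₁ : Γ₁ →* Q) (σ₂ : Γ₂ →* Q)
    (hσ₁ : Cfsg.IsStemExtension σ₁) (hσ₂ : Cfsg.IsStemExtension σ₂)
    (ek₁ : σ₁.ker ≃* A) (ek₂ : σ₂.ker ≃* A) :
    ∃ e : Γ₁ ≃* Γ₂, σ₂.comp e.toMonoidHom = σ₁ := by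
  classical
  have hσ₁' := hσ₁
  obtain ⟨hσ₁s, hσ₁c, hσ₁d⟩ := hσ₁'
  obtain ⟨hσ₂s, hσ₂c, hσ₂d⟩ := hσ₂
  have hAfin : Finite A := Finite.of_equiv _ ek₁.toEquiv
  obtain ⟨m, hm⟩ : ∃ m : ℕ, m = Nat.card (Abelianization Q) := ⟨_, rfl⟩
  rw [← hm] at hcop
  let P : Subgroup (Γ₁ × Γ₂) :=
    { carrier := {x | σ₁ x.1 = σ₂ x.2}
      mul_mem' := by
        intro a b ha hb
        simp only [Set.mem_ofPred_eq] at ha hb ⊢
        rw [Prod.fst_mul, Prod.snd_mul, map_mul, map_mul, ha, hb]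
      one_mem' := by
        simp only [Set.mem_ofPred_eq]
        rw [Prod.fst_one, Prod.snd_one, map_one, map_one]
      inv_mem' := by
        intro a ha
        simp only [Set.mem_ofPred_eq] at ha ⊢
        rw [Prod.fst_inv, Prod.snd_inv, map_inv, map_inv, ha] }
  let p₁ : P →* Γ₁ := (MonoidHom.fst Γ₁ Γ₂).comp P.subtype
  let p₂ : P →* Γ₂ := (MonoidHom.snd Γ₁ Γ₂).comp P.subtype
  have hP : ∀ x : P, σ₁ x.1.1 = σ₂ x.1.2 := fun x => x.2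
  have hp₁s : Function.Surjective p₁ := by
    intro y
    obtain ⟨w, hw⟩ := hσ₂s (σ₁ y)
    exact ⟨⟨(y, w), hw.symm⟩, rfl⟩
  have hp₁ker : ∀ x : P, x ∈ p₁.ker → x.1.1 = 1 ∧ x.1.2 ∈ σ₂.ker := by
    intro x hx
    have h1 : x.1.1 = 1 := hx
    refine ⟨h1, ?_⟩
    rw [MonoidHom.mem_ker, ← hP x, h1, map_one]
  have hpc : p₁.ker ≤ Subgroup.center P := by
    intro x hx
    obtain ⟨h1, h2⟩ := hp₁ker x hx
    rw [Subgroup.mem_center_iff]
    intro w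
    apply Subtype.ext
    apply Prod.ext
    · show w.1.1 * x.1.1 = x.1.1 * w.1.1
      rw [h1, mul_one, one_mul]
    · show w.1.2 * x.1.2 = x.1.2 * w.1.2
      exact Subgroup.mem_center_iff.mp (hσ₂c h2) w.1.2
  have hN : σ₁.ker.comap p₁ ≤ Subgroup.center P := by
    intro x hx
    have h1 : x.1.1 ∈ σ₁.ker := hx
    have h2 : x.1.2 ∈ σ₂.ker := by
      rw [MonoidHom.mem_ker, ← hP x]; exact MonoidHom.mem_ker.mp h1
    rw [Subgroup.mem_center_iff]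
    intro w
    apply Subtype.ext
    apply Prod.ext
    · exact Subgroup.mem_center_iff.mp (hσ₁c h1) w.1.1
    · exact Subgroup.mem_center_iff.mp (hσ₂c h2) w.1.2
  have hcap : ∀ x : P, x ∈ p₁.ker → x ∈ commutator P → x = 1 := fun x hxK hxC =>
    Cfsg.Agent.S3954.schur_cap hA σ₁ hσ₁ ek₁ p₁ hp₁s hpc hN x hxK hxC
  let ab : P →* Abelianization P := Abelianization.of
  let H : Subgroup P :=
    ((powMonoidHom m : Abelianization P →* Abelianization P).ker).comap ab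
  have hHmem : ∀ x : P, x ∈ H ↔ x ^ m ∈ commutator P := by
    intro x
    show (ab x) ^ m = 1 ↔ _
    rw [← map_pow]
    exact QuotientGroup.eq_one_iff (x ^ m)
  have ha : ∀ z : σ₂.ker, (z : Γ₂) ^ Nat.card A = 1 := by
    intro z
    have h1 : (ek₂ z) ^ Nat.card A = 1 := pow_card_eq_one'
    rw [← map_pow] at h1
    have h2 : z ^ Nat.card A = 1 := ek₂.injective (h1.trans (map_one ek₂).symm)
    exact congrArg (fun w : σ₂.ker => (w : Γ₂)) h2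
  have hinj : ∀ x : P, x ∈ H → p₁ x = 1 → x = 1 := by
    intro x hxH hx1
    have hxK : x ∈ p₁.ker := hx1
    obtain ⟨h1, h2⟩ := hp₁ker x hxK
    have hxm : x ^ m = 1 := hcap (x ^ m) (Subgroup.pow_mem _ hxK m) ((hHmem x).mp hxH)
    have hxa : x ^ Nat.card A = 1 := by
      apply Subtype.ext
      apply Prod.ext
      · show x.1.1 ^ Nat.card A = 1
        rw [h1, one_pow]
      · show x.1.2 ^ Nat.card A = 1
        exact ha ⟨x.1.2, h2⟩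
    have h3 : orderOf x ∣ Nat.gcd m (Nat.card A) :=
      Nat.dvd_gcd (orderOf_dvd_of_pow_eq_one hxm) (orderOf_dvd_of_pow_eq_one hxa)
    rw [hcop.gcd_eq_one, Nat.dvd_one, orderOf_eq_one_iff] at h3
    exact h3
  have hexpQ : ∀ q : Q, q ^ m ∈ commutator Q := by
    intro q
    have h1 : (Abelianization.of q) ^ m = 1 := by rw [hm]; exact pow_card_eq_one'
    rw [← map_pow] at h1
    exact (QuotientGroup.eq_one_iff _).mp h1
  have hmap₁ : (commutator P).map p₁ = commutator Γ₁ := by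
    rw [commutator_def, commutator_def, Subgroup.map_commutator,
      Subgroup.map_top_of_surjective _ hp₁s]
  have hmapσ₁ : (commutator Γ₁).map σ₁ = commutator Q := by
    rw [commutator_def, commutator_def, Subgroup.map_commutator,
      Subgroup.map_top_of_surjective _ hσ₁s]
  have hsurj : ∀ y : Γ₁, ∃ x : P, x ∈ H ∧ p₁ x = y := by
    intro y
    obtain ⟨x₀, hx₀⟩ := hp₁s y
    have hym : y ^ m ∈ commutator Γ₁ := by
      have h1 : σ₁ (y ^ m) ∈ (commutator Γ₁).map σ₁ := by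
        rw [hmapσ₁, map_pow]; exact hexpQ _
      obtain ⟨c, hc, hce⟩ := Subgroup.mem_map.mp h1
      have h2 : c⁻¹ * y ^ m ∈ σ₁.ker := by
        rw [MonoidHom.mem_ker, map_mul, map_inv, hce, inv_mul_cancel]
      have h3 : y ^ m = c * (c⁻¹ * y ^ m) := by group
      rw [h3]
      exact Subgroup.mul_mem _ hc (hσ₁d h2)
    rw [← hmap₁] at hym
    obtain ⟨c, hc, hce⟩ := Subgroup.mem_map.mp hym
    have hk₀ : c⁻¹ * x₀ ^ m ∈ p₁.ker := by
      rw [MonoidHom.mem_ker, map_mul, map_inv, map_pow, hx₀, hce, inv_mul_cancel]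
    obtain ⟨hk₀1, hk₀2⟩ := hp₁ker _ hk₀
    have hcop' : (Nat.card A).Coprime m := hcop.symm
    obtain ⟨w, hw⟩ := (powCoprime hcop').surjective (ek₂ ⟨_, hk₀2⟩)⁻¹
    have hw' : w ^ m = (ek₂ ⟨_, hk₀2⟩)⁻¹ := hw
    obtain ⟨z, hzdef⟩ : ∃ z : σ₂.ker, z = ek₂.symm w := ⟨_, rfl⟩
    have hzm : z ^ m = (⟨_, hk₀2⟩ : σ₂.ker)⁻¹ := by
      apply ek₂.injective
      rw [map_pow, map_inv, hzdef, MulEquiv.apply_symm_apply, hw']
    let kk : P := ⟨(1, (z : Γ₂)), by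
      show σ₁ 1 = σ₂ (z : Γ₂)
      rw [map_one, MonoidHom.mem_ker.mp z.2]⟩
    have hkkK : kk ∈ p₁.ker := by
      show (1 : Γ₁) = 1
      rfl
    have hkkm : kk ^ m = (c⁻¹ * x₀ ^ m)⁻¹ := by
      apply Subtype.ext
      apply Prod.ext
      · show (1 : Γ₁) ^ m = ((c⁻¹ * x₀ ^ m : P).1.1)⁻¹
        rw [hk₀1, one_pow, inv_one]
      · show (z : Γ₂) ^ m = ((c⁻¹ * x₀ ^ m : P).1.2)⁻¹
        exact congrArg (fun w : σ₂.ker => (w : Γ₂)) hzm
    refine ⟨x₀ * kk, ?_, ?_⟩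
    · rw [hHmem]
      have hcomm : Commute x₀ kk := Subgroup.mem_center_iff.mp (hpc hkkK) x₀
      rw [hcomm.mul_pow, hkkm]
      have h4 : x₀ ^ m * (c⁻¹ * x₀ ^ m)⁻¹ = c := by group
      rw [h4]; exact hc
    · rw [map_mul, hx₀]
      have h4 : p₁ kk = 1 := hkkK
      rw [h4, mul_one]
  let f : H →* Γ₁ := p₁.comp H.subtype
  have hfbij : Function.Bijective f := by
    constructor
    · rw [injective_iff_map_eq_one]
      intro x hx
      exact Subtype.ext (hinj x.1 x.2 hx)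
    · intro y
      obtain ⟨x, hxH, hxy⟩ := hsurj y
      exact ⟨⟨x, hxH⟩, hxy⟩
  let e₁ : H ≃* Γ₁ := MulEquiv.ofBijective f hfbij
  let φ : Γ₁ →* Γ₂ := (p₂.comp H.subtype).comp e₁.symm.toMonoidHom
  have hσφ : σ₂.comp φ = σ₁ := by
    ext y
    show σ₂ ((e₁.symm y : H).1.1.2) = σ₁ y
    rw [← hP (e₁.symm y : H).1]
    have h1 : e₁ (e₁.symm y) = y := e₁.apply_symm_apply y
    have h2 : (e₁.symm y : H).1.1.1 = y := h1
    rw [h2]
  have hφs : Function.Surjective φ := by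
    apply Cfsg.Agent.S3973.gen_surj σ₂ φ hσ₂c hσ₂d
    rw [hσφ]; exact hσ₁s
  have hcard : Nat.card Γ₁ = Nat.card Γ₂ := by
    rw [Subgroup.card_eq_card_quotient_mul_card_subgroup σ₁.ker,
      Subgroup.card_eq_card_quotient_mul_card_subgroup σ₂.ker,
      Nat.card_congr (QuotientGroup.quotientKerEquivOfSurjective σ₁ hσ₁s).toEquiv,
      Nat.card_congr (QuotientGroup.quotientKerEquivOfSurjective σ₂ hσ₂s).toEquiv,
      Nat.card_congr ek₁.toEquiv, Nat.card_congr ek₂.toEquiv]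
  have hφbij : Function.Bijective φ := hφs.bijective_of_nat_card_le hcard.le
  refine ⟨MulEquiv.ofBijective φ hφbij, ?_⟩
  ext y
  exact DFunLike.congr_fun hσφ y

/-- Let `Q` be a finite group with Schur multiplier `A`. Any two Schur covering groups of `Q` (finite stem extensions `σ₁ : Γ₁ →* Q`, `σ₂ : Γ₂ →* Q` with kernels isomorphic to `A`, `Γ₁, Γ₂` in the universe of `Q`) are isomorphic over `Q` — there is a group isomorphism `e : Γ₁ ≃* Γ₂` with `σ₂ ∘ e = σ₁` — if and only if the order of the commutator quotient of `Q` is coprime to the order of `A`. In particular a finite perfect group has a unique Schur covering group up to isomorphism over it. -/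
theorem result {Q : Type u} [Group Q] [Finite Q] {A : Type v} [CommGroup A] (hA : Cfsg.HasSchurMultiplier Q A) : (∀ (Γ₁ Γ₂ : Type u) [Group Γ₁] [Finite Γ₁] [Group Γ₂] [Finite Γ₂] (σ₁ : Γ₁ →* Q) (σ₂ : Γ₂ →* Q), Cfsg.IsStemExtension σ₁ → Cfsg.IsStemExtension σ₂ → Nonempty (σ₁.ker ≃* A) → Nonempty (σ₂.ker ≃* A) → ∃ e : Γ₁ ≃* Γ₂, σ₂.comp e.toMonoidHom = σ₁) ↔ Nat.Coprime (Nat.card (Abelianization Q)) (Nat.card A) := by
  constructor
  · intro hU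
    by_contra hnc
    obtain ⟨p, hp, hpm, hpa⟩ := Nat.Prime.not_coprime_iff_dvd.mp hnc
    have : Fact p.Prime := ⟨hp⟩
    have hA' := hA
    obtain ⟨⟨Γ₁, hG1, hF1, σ₁, hσ₁, ⟨ek₁⟩⟩, -⟩ := hA'
    have hpZ : p ∣ Nat.card σ₁.ker := by
      rw [Nat.card_congr ek₁.toEquiv]; exact hpa
    obtain ⟨a₀, ha₀⟩ := exists_not_pow (Z := σ₁.ker) p hpZ
    obtain ⟨χ, ω, k, g₀, hk, hω, hχ, hg₀, hg₀n⟩ := exists_twist_char (Q := Q) p hpm
    obtain ⟨Γ₂, hG2, hF2, σ₂, hσ₂, ⟨ek₂⟩, hiso⟩ :=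
      twist_cover σ₁ hσ₁ a₀.1 a₀.2 χ ω (p ^ k) (pow_pos hp.pos k) hω hχ g₀ hg₀ hg₀n
    obtain ⟨z, hz, hzn⟩ := hiso (hU Γ₁ Γ₂ σ₁ σ₂ hσ₁ hσ₂ ⟨ek₁⟩ ⟨ek₂.trans ek₁⟩)
    apply ha₀ ⟨z ^ (p ^ (k - 1)), Subgroup.pow_mem _ hz _⟩
    apply Subtype.ext
    show (z ^ (p ^ (k - 1))) ^ p = a₀.1
    rw [← pow_mul, ← pow_succ, Nat.sub_add_cancel hk, hzn]
  · intro hcop Γ₁ Γ₂ _ _ _ _ σ₁ σ₂ hσ₁ hσ₂ hk₁ hk₂
    obtain ⟨ek₁⟩ := hk₁
    obtain ⟨ek₂⟩ := hk₂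
    exact coprime_iso hA hcop Γ₁ Γ₂ σ₁ σ₂ hσ₁ hσ₂ ek₁ ek₂

end Cfsg.Agent.S3974
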