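import Cfsg.Statements.S3976
import Cfsg.Agent.Lib.Helper7.Wielandt
import Cfsg.Agent.Lib.Helper7.Conj

set_option autoImplicit false
open Cfsg

namespace Cfsg.Agent.S3976

open Cfsg.Agent.Lib.Helper7
open scoped Pointwise

/-- conjugation action of `G` on its subgroups of order `k` -/
noncomputable def conjActionCard (G : Type*) [Group G] (k : ℕ) :
    MulAction G {H : Subgroup G // Nat.card H = k} where
  smul g H := ⟨H.1.map (MulAut.conj g).toMonoidHom, by rw [card_map_conj]; exact H.2⟩
  one_smul := by
    rintro ⟨H, hH⟩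
    apply Subtype.ext
    exact map_conj_one H
  mul_smul := by
    rintro a b ⟨H, hH⟩
    apply Subtype.ext
    exact map_conj_mul H a b

theorem result {G : Type*} [Group G] [Finite G] (p m s : ℕ) (hp : p.Prime) (hG : Nat.card G = p ^ m) (hs : s ≤ m) : Nat.card {H : Subgroup G // H.Normal ∧ Nat.card H = p ^ s} ≡ 1 [MOD p] := by
  haveI : Fact p.Prime := ⟨hp⟩
  have hPG : IsPGroup p G := IsPGroup.of_card hG
  letI := conjActionCard G (p ^ s)
  have h1 := hPG.card_modEq_card_fixedPoints {H : Subgroup G // Nat.card H = p ^ s}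
  have hdiv : p ^ s ∣ Nat.card G := by rw [hG]; exact pow_dvd_pow p hs
  have h2 := card_subgroups_card_pow_prime_modEq_one (G := G) p s hp hdiv
  have h3 : Nat.card (MulAction.fixedPoints G {H : Subgroup G // Nat.card H = p ^ s})
      = Nat.card {H : Subgroup G // H.Normal ∧ Nat.card H = p ^ s} := by
    apply Nat.card_congr
    refine
      { toFun := fun x => ⟨x.1.1, ?_, x.1.2⟩
        invFun := fun H => ⟨⟨H.1, H.2.2⟩, ?_⟩
        left_inv := fun x => rfl
        right_inv := fun H => rfl }
    · rw [← Subgroup.normalizer_eq_top_iff, eq_top_iff]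
      intro g _
      rw [← map_conj_eq_self_iff]
      have := x.2 g
      exact congrArg Subtype.val this
    · intro g
      apply Subtype.ext
      change H.1.map (MulAut.conj g).toMonoidHom = H.1
      rw [map_conj_eq_self_iff]
      haveI := H.2.1
      rw [Subgroup.normalizer_eq_top]
      exact Subgroup.mem_top g
  rw [← h3]
  exact (h1.symm.trans h2)

end Cfsg.Agent.S3976
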