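import Cfsg.Statements.S3979
import Mathlib

set_option autoImplicit false
open Cfsg

namespace Cfsg.Agent.S3979

/-- A finite cyclic group has trivial Schur multiplier: every finite stem extension of it is an isomorphism, said through `HasCyclicSchurMultiplier G 1`. -/
theorem result {G : Type*} [Group G] [Finite G] [IsCyclic G] : Cfsg.HasCyclicSchurMultiplier G 1 := by
  refine ⟨⟨G, inferInstance, inferInstance, MonoidHom.id G, ⟨Function.surjective_id, ?_, ?_⟩, ?_⟩, ?_⟩
  · rw [MonoidHom.ker_id]; exact bot_le
  · rw [MonoidHom.ker_id]; exact bot_le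
  · rw [MonoidHom.ker_id]
    exact ⟨MulEquiv.ofUnique⟩
  · intro Γ _ _ σ hσ
    obtain ⟨hsurj, hcen, hcomm⟩ := hσ
    have hab : ∀ a b : Γ, a * b = b * a := by
      intro a b
      have : IsCyclic (σ.range) := by
        rw [MonoidHom.range_eq_top.2 hsurj]
        exact isCyclic_of_surjective (Subgroup.topEquiv.symm : G ≃* (⊤ : Subgroup G)).toMonoidHom
          (Subgroup.topEquiv.symm : G ≃* (⊤ : Subgroup G)).surjective
      exact commutative_of_cyclic_center_quotient σ.rangeRestrict (by rwa [MonoidHom.ker_rangeRestrict]) a b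
    have hc : commutator Γ = ⊥ := by
      rw [eq_bot_iff, commutator_def, Subgroup.commutator_le]
      intro a _ b _
      rw [Subgroup.mem_bot, commutatorElement_def, hab a b]
      group
    have hker : σ.ker = ⊥ := by
      rw [eq_bot_iff]; exact hcomm.trans hc.le
    refine ⟨1, ?_⟩
    intro x
    refine ⟨1, ?_⟩
    have : (x : Γ) ∈ (⊥ : Subgroup Γ) := hker ▸ x.2
    apply Subtype.ext
    simpa [Subgroup.mem_bot] using (Subgroup.mem_bot.1 this).symm

end Cfsg.Agent.S3979
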