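import Mathlib
import Cfsg.Statements.S3981
import Cfsg.Agent.Lib.Helper7.PGroupNormalizer
import Cfsg.Agent.Lib.Helper7.PSubFrattini

set_option autoImplicit false
open Cfsg
open Cfsg.Agent.Lib.Helper7

namespace Cfsg.Agent.S3981

variable {G : Type*} [Group G] [Finite G]

/-- forward direction -/
theorem forward (p : ℕ) [Fact p.Prime] (Q : Subgroup G) (hQ : IsPGroup p ↥Q) (y : G)
    (hyQ : y ∈ Subgroup.normalizer (Q : Set G))
    (hmax : ∀ R : Subgroup G, IsPGroup p ↥R → Q ≤ R → y ∈ Subgroup.normalizer (R : Set G) → R = Q)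
    (x : G) (hxN : x ∈ Subgroup.normalizer (Q : Set G)) (hxQ : x ∉ Q) (hxp : x ^ p ∈ Q)
    (hbad : y * x * y⁻¹ * x ∈ Q ∨ y * x * y⁻¹ * x⁻¹ ∈ Q) : False := by
  -- x is a p-element
  obtain ⟨k, hk⟩ := hQ ⟨x ^ p, hxp⟩
  have hxk : x ^ (p ^ (k + 1)) = 1 := by
    have := congrArg Subtype.val hk
    simp only [Subgroup.coe_pow, Subgroup.coe_one] at this
    rw [pow_succ', pow_mul]
    exact this
  have hZp : IsPGroup p ↥(Subgroup.zpowers x) := by
    intro g
    obtain ⟨i, hi⟩ := Subgroup.mem_zpowers_iff.1 g.2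
    refine ⟨k + 1, ?_⟩
    apply Subtype.ext
    simp only [Subgroup.coe_pow, Subgroup.coe_one]
    rw [← hi, ← zpow_natCast, ← zpow_mul, mul_comm, zpow_mul, zpow_natCast, hxk, one_zpow]
  have hZN : Subgroup.zpowers x ≤ Subgroup.normalizer (Q : Set G) := by
    rw [Subgroup.zpowers_le]; exact hxN
  have hRp : IsPGroup p ↥(Q ⊔ Subgroup.zpowers x) := IsPGroup.to_sup_of_normal_left' hQ hZp hZN
  have hxR : x ∈ Q ⊔ Subgroup.zpowers x :=
    (le_sup_right : Subgroup.zpowers x ≤ _) (Subgroup.mem_zpowers x)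
  have hyR : y ∈ Subgroup.normalizer ((Q ⊔ Subgroup.zpowers x : Subgroup G) : Set G) := by
    apply mem_normalizer_of_conj_mem
    have hle : Q ⊔ Subgroup.zpowers x ≤
        (Q ⊔ Subgroup.zpowers x).comap (MulAut.conj y).toMonoidHom := by
      apply sup_le
      · intro q hq
        rw [Subgroup.mem_comap]
        show y * q * y⁻¹ ∈ _
        exact (le_sup_left : Q ≤ _) ((Subgroup.mem_normalizer_iff.1 hyQ q).1 hq)
      · rw [Subgroup.zpowers_le, Subgroup.mem_comap]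
        show y * x * y⁻¹ ∈ _
        rcases hbad with h | h
        · have : y * x * y⁻¹ = (y * x * y⁻¹ * x) * x⁻¹ := by group
          rw [this]
          exact Subgroup.mul_mem _ ((le_sup_left : Q ≤ _) h) (Subgroup.inv_mem _ hxR)
        · have : y * x * y⁻¹ = (y * x * y⁻¹ * x⁻¹) * x := by group
          rw [this]
          exact Subgroup.mul_mem _ ((le_sup_left : Q ≤ _) h) hxR
    intro r hr
    exact hle hr
  have := hmax _ hRp le_sup_left hyR
  rw [this] at hxR
  exact hxQ hxR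

/-- backward direction -/
theorem backward (p : ℕ) [hp : Fact p.Prime] (Q : Subgroup G) (y : G)
    (hy : orderOf y = 2) (hyQ : y ∈ Subgroup.normalizer (Q : Set G))
    (hcond : ∀ x : G, x ∈ Subgroup.normalizer (Q : Set G) → x ∉ Q → x ^ p ∈ Q →
      (y * x * y⁻¹ * x ∉ Q ∧ y * x * y⁻¹ * x⁻¹ ∉ Q))
    (R : Subgroup G) (hR : IsPGroup p ↥R) (hQR : Q ≤ R)
    (hyR : y ∈ Subgroup.normalizer (R : Set G)) : R = Q := by
  by_contra hne
  have hlt : Q < R := lt_of_le_of_ne hQR (Ne.symm hne)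
  obtain ⟨m0, hm0R, hm0N, hm0Q⟩ := exists_mem_normalizer_not_mem R Q hR hlt
  have hy2 : y * y = 1 := by rw [← pow_two, ← hy]; exact pow_orderOf_eq_one y
  have hyinv : y⁻¹ = y := inv_eq_of_mul_eq_one_right hy2
  have hyy : ∀ u : G, y * (y * u * y⁻¹) * y⁻¹ = u := by
    intro u
    rw [hyinv]
    calc y * (y * u * y) * y = (y * y) * u * (y * y) := by group
      _ = u := by rw [hy2, one_mul, mul_one]
  obtain ⟨M, hMdef⟩ : ∃ M : Subgroup G, M = R ⊓ Subgroup.normalizer (Q : Set G) := ⟨_, rfl⟩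
  have hQM : Q ≤ M := by rw [hMdef]; exact le_inf hQR Subgroup.le_normalizer
  have hMN : M ≤ Subgroup.normalizer (Q : Set G) := by rw [hMdef]; exact inf_le_right
  have hMR : M ≤ R := by rw [hMdef]; exact inf_le_left
  haveI hQn : (Q.subgroupOf M).Normal := (Subgroup.normal_subgroupOf_iff_le_normalizer hQM).2 hMN
  have hMp : IsPGroup p ↥M := hR.to_le hMR
  have hyM : ∀ m ∈ M, y * m * y⁻¹ ∈ M := by
    intro m hm
    rw [hMdef] at hm ⊢
    obtain ⟨h1, h2⟩ := Subgroup.mem_inf.1 hm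
    refine Subgroup.mem_inf.2 ⟨(Subgroup.mem_normalizer_iff.1 hyR m).1 h1, ?_⟩
    exact Subgroup.mul_mem _ (Subgroup.mul_mem _ hyQ h2) (Subgroup.inv_mem _ hyQ)
  let c : ↥M →* ↥M := MonoidHom.mk' (fun u => ⟨y * u.1 * y⁻¹, hyM u.1 u.2⟩)
    (by intro a b; apply Subtype.ext; simp)
  have hcle : Q.subgroupOf M ≤ (Q.subgroupOf M).comap c := by
    intro u hu
    rw [Subgroup.mem_comap, Subgroup.mem_subgroupOf]
    exact (Subgroup.mem_normalizer_iff.1 hyQ u.1).1 (Subgroup.mem_subgroupOf.1 hu)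
  let φ : (↥M ⧸ Q.subgroupOf M) →* (↥M ⧸ Q.subgroupOf M) :=
    QuotientGroup.map (Q.subgroupOf M) (Q.subgroupOf M) c hcle
  have hφmk : ∀ u : ↥M, φ (QuotientGroup.mk u) = QuotientGroup.mk (c u) := fun u => rfl
  have hinv : Function.Involutive φ := by
    intro k
    induction k using QuotientGroup.induction_on with
    | H u =>
      rw [hφmk, hφmk]
      congr 1
      apply Subtype.ext
      exact hyy u.1
  have hAp : IsPGroup p (↥M ⧸ Q.subgroupOf M) := hMp.to_quotient _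
  -- an element of order p which is fixed or inverted
  have hm0M : m0 ∈ M := by rw [hMdef]; exact Subgroup.mem_inf.2 ⟨hm0R, hm0N⟩
  have hex : ∃ a : ↥M ⧸ Q.subgroupOf M, a ≠ 1 ∧ (φ a = a ∨ φ a = a⁻¹) := by
    by_cases hfpf : MonoidHom.FixedPointFree φ
    · refine ⟨QuotientGroup.mk (⟨m0, hm0M⟩ : ↥M), ?_, Or.inr ?_⟩
      · intro h1
        rw [QuotientGroup.eq_one_iff, Subgroup.mem_subgroupOf] at h1
        exact hm0Q h1
      · have := hfpf.coe_eq_inv_of_involutive hinv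
        exact congrFun this _
    · unfold MonoidHom.FixedPointFree at hfpf
      push Not at hfpf
      obtain ⟨a, ha, ha1⟩ := hfpf
      exact ⟨a, ha1, Or.inl ha⟩
  obtain ⟨a, ha1, hafix⟩ := hex
  obtain ⟨k, hk⟩ := (IsPGroup.iff_orderOf.1 hAp) a
  have hk0 : k ≠ 0 := by
    rintro rfl
    rw [pow_zero, orderOf_eq_one_iff] at hk
    exact ha1 hk
  obtain ⟨j, rfl⟩ : ∃ j, k = j + 1 := ⟨k - 1, by omega⟩
  have hbord : orderOf (a ^ (p ^ j)) = p := by
    rw [orderOf_pow_of_dvd (pow_ne_zero _ hp.out.ne_zero) (by rw [hk]; exact pow_dvd_pow p (by omega)),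
      hk, pow_succ, Nat.mul_div_cancel_left _ (pow_pos hp.out.pos j)]
  have hbfix : φ (a ^ (p ^ j)) = a ^ (p ^ j) ∨ φ (a ^ (p ^ j)) = (a ^ (p ^ j))⁻¹ := by
    rcases hafix with h | h
    · left; rw [map_pow, h]
    · right; rw [map_pow, h, inv_pow]
  obtain ⟨b, hb⟩ : ∃ b : ↥M, QuotientGroup.mk b = a ^ (p ^ j) := QuotientGroup.mk_surjective _
  rw [← hb] at hbord hbfix
  have hb1 : b.1 ∉ Q := by
    intro h
    have : (QuotientGroup.mk b : ↥M ⧸ Q.subgroupOf M) = 1 :=
      (QuotientGroup.eq_one_iff b).2 (Subgroup.mem_subgroupOf.2 h)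
    rw [this, orderOf_one] at hbord
    exact hp.out.one_lt.ne hbord
  have hbp : b.1 ^ p ∈ Q := by
    have h1 : (QuotientGroup.mk b : ↥M ⧸ Q.subgroupOf M) ^ p = 1 := by
      rw [← hbord]; exact pow_orderOf_eq_one _
    rw [← QuotientGroup.mk_pow, QuotientGroup.eq_one_iff, Subgroup.mem_subgroupOf] at h1
    simpa using h1
  have hcb := hcond b.1 (hMN b.2) hb1 hbp
  rcases hbfix with h | h
  · -- fixed: y b y⁻¹ b⁻¹ ∈ Q
    apply hcb.2
    rw [hφmk] at h
    have h2 : (QuotientGroup.mk (c b * b⁻¹) : ↥M ⧸ Q.subgroupOf M) = 1 := by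
      rw [QuotientGroup.mk_mul, QuotientGroup.mk_inv, h, mul_inv_cancel]
    rw [QuotientGroup.eq_one_iff, Subgroup.mem_subgroupOf] at h2
    simpa [c] using h2
  · apply hcb.1
    rw [hφmk] at h
    have h2 : (QuotientGroup.mk (c b * b) : ↥M ⧸ Q.subgroupOf M) = 1 := by
      rw [QuotientGroup.mk_mul, h, inv_mul_cancel]
    rw [QuotientGroup.eq_one_iff, Subgroup.mem_subgroupOf] at h2
    simpa [c] using h2

/-- Let p be an odd prime, Q a p-subgroup of the finite group G and y an involution normalizing Q. Then Q is maximal among the p-subgroups of G normalized by y if and only if the image of y in N_G(Q) ⧸ Q neither inverts nor centralizes any element of order p there; the latter is phrased inside N_G(Q): for every x in N_G(Q) outside Q with x ^ p ∈ Q, neither y x y⁻¹ x nor y x y⁻¹ x⁻¹ lies in Q. -/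
theorem result {G : Type*} [Group G] [Finite G] (p : ℕ) [Fact p.Prime] (hp2 : p ≠ 2) (Q : Subgroup G) (hQ : IsPGroup p ↥Q) (y : G) (hy : orderOf y = 2) (hyQ : y ∈ Subgroup.normalizer (Q : Set G)) : (∀ R : Subgroup G, IsPGroup p ↥R → Q ≤ R → y ∈ Subgroup.normalizer (R : Set G) → R = Q) ↔ ∀ x : G, x ∈ Subgroup.normalizer (Q : Set G) → x ∉ Q → x ^ p ∈ Q → (y * x * y⁻¹ * x ∉ Q ∧ y * x * y⁻¹ * x⁻¹ ∉ Q) := by
  constructor
  · intro hmax x hxN hxQ hxp
    constructor
    · intro h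
      exact forward p Q hQ y hyQ hmax x hxN hxQ hxp (Or.inl h)
    · intro h
      exact forward p Q hQ y hyQ hmax x hxN hxQ hxp (Or.inr h)
  · intro hcond R hR hQR hyR
    exact backward p Q y hy hyQ hcond R hR hQR hyR

end Cfsg.Agent.S3981
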