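import Mathlib
import Cfsg.Statements.S3982
import Cfsg.Agent.Lib.Helper7.PGroupNormalizer
import Cfsg.Agent.Lib.Helper7.PSubFrattini
import Cfsg.Agent.Lib.Helper7.SylowRel2
import Cfsg.Agent.Lib.Helper4.SylowRel
import Cfsg.Agent.Lib.Helper4.ConjSub
import Cfsg.Agent.Lib.Helper4.SZ

set_option autoImplicit false
open Cfsg
open Cfsg.Agent.Lib.Helper7
open Cfsg.Agent.Lib.Helper4

namespace Cfsg.Agent.S3982

variable {G : Type*} [Group G] [Finite G]

lemma pow_odd_of_sq {A : Type*} [Group A] (a : A) (h : a * a = 1) (k : ℕ) (hk : Odd k) :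
    a ^ k = a := by
  obtain ⟨j, rfl⟩ := hk
  rw [pow_succ, pow_mul, pow_two, h, one_pow, one_mul]

/-- abstract group computation: a `p`-element commuting with an involution, `p` odd -/
lemma abstract_key {A : Type*} [Group A] (p : ℕ) (hp : p.Prime) (hp2 : p ≠ 2) (r y : A)
    (b : ℕ) (hr : r ^ (p ^ b) = 1) (hy : y * y = 1) (hc : Commute r y)
    (m' : ℕ) (hm' : ¬ p ∣ m')
    (h1 : ((r * y) ^ (2 * m') = 1))  : r = 1 := by
  have hpodd : Odd p := hp.odd_of_ne_two hp2
  have e1 : (r * y) ^ (2 * m') = r ^ (2 * m') := by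
    rw [hc.mul_pow, pow_mul y, pow_two, hy, one_pow, mul_one]
  rw [e1] at h1
  have hcop : Nat.Coprime (2 * m') (p ^ b) := by
    apply Nat.Coprime.pow_right
    apply Nat.Coprime.mul_left
    · exact (Nat.coprime_primes Nat.prime_two hp).2 (Ne.symm hp2)
    · exact (Nat.Coprime.symm ((Nat.Prime.coprime_iff_not_dvd hp).2 hm'))
  have := (pow_gcd_eq_one (a := r) (m := 2 * m') (n := p ^ b)).2 ⟨h1, hr⟩
  rw [hcop, pow_one] at this
  exact this

/-- the step of the induction -/
theorem step (p : ℕ) [hp : Fact p.Prime] (hp2 : p ≠ 2)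
    (hC : ∀ g : G, g ≠ 1 → (∃ k : ℕ, orderOf g = p ^ k) →
      Odd (Nat.card ↥(Subgroup.centralizer ({g} : Set G))))
    (Q : Subgroup G) (hQ : IsPGroup p ↥Q) (hQ1 : Q ≠ ⊥)
    (hev : Even (Nat.card ↥(Subgroup.normalizer (Q : Set G))))
    (R : Subgroup G) (hR : IsPGroup p ↥R) (hQR : Q < R) :
    ∃ Q' : Subgroup G, IsPGroup p ↥Q' ∧ Nat.card ↥Q < Nat.card ↥Q' ∧
      Even (Nat.card ↥(Subgroup.normalizer (Q' : Set G))) := by
  classical
  have hpodd : Odd p := hp.out.odd_of_ne_two hp2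
  obtain ⟨N, hNdef⟩ : ∃ N : Subgroup G, N = Subgroup.normalizer (Q : Set G) := ⟨_, rfl⟩
  obtain ⟨C, hCdef⟩ : ∃ C : Subgroup G, C = Subgroup.centralizer (Q : Set G) := ⟨_, rfl⟩
  -- p-elements
  have hpelt : ∀ P' : Subgroup G, IsPGroup p ↥P' → ∀ g ∈ P', ∃ k : ℕ, orderOf g = p ^ k := by
    intro P' hP' g hg
    obtain ⟨k, hk⟩ := (IsPGroup.iff_orderOf.1 hP') ⟨g, hg⟩
    exact ⟨k, by rw [← hk, ← Subgroup.orderOf_coe]⟩
  -- odd order of elements commuting with nonidentity p-elements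
  have hoddcomm : ∀ u : G, u ≠ 1 → (∃ k : ℕ, orderOf u = p ^ k) → ∀ z : G, z * u = u * z →
      Odd (orderOf z) := by
    intro u hu1 hup z hz
    have hzc : z ∈ Subgroup.centralizer ({u} : Set G) :=
      Subgroup.mem_centralizer_singleton_iff.2 hz
    have hdvd : orderOf z ∣ Nat.card ↥(Subgroup.centralizer ({u} : Set G)) := by
      have := orderOf_dvd_natCard (⟨z, hzc⟩ : ↥(Subgroup.centralizer ({u} : Set G)))
      rwa [← Subgroup.orderOf_coe] at this
    exact Odd.of_dvd_nat (hC u hu1 hup) hdvd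
  -- (a) C has odd order
  obtain ⟨g0, hg0Q, hg01⟩ : ∃ g ∈ Q, g ≠ 1 := by
    by_contra hcon
    push Not at hcon
    apply hQ1
    rw [eq_bot_iff]
    intro g hg
    rw [Subgroup.mem_bot]; exact hcon g hg
  have hCodd : Odd (Nat.card ↥C) := by
    have hle : C ≤ Subgroup.centralizer ({g0} : Set G) := by
      rw [hCdef]
      apply Subgroup.centralizer_le
      intro z hz
      rw [Set.mem_singleton_iff] at hz
      rw [hz]; exact hg0Q
    exact Odd.of_dvd_nat (hC g0 hg01 (hpelt Q hQ g0 hg0Q)) (Subgroup.card_dvd_of_le hle)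
  -- (b) an involution in N
  obtain ⟨y, hyN, hy⟩ : ∃ y ∈ N, orderOf y = 2 := by
    haveI : Fact (Nat.Prime 2) := ⟨Nat.prime_two⟩
    have h2 : 2 ∣ Nat.card ↥N := by rw [hNdef]; exact even_iff_two_dvd.1 hev
    obtain ⟨y', hy'⟩ := exists_prime_orderOf_dvd_card' 2 h2
    exact ⟨y'.1, y'.2, by rw [Subgroup.orderOf_coe]; exact hy'⟩
  have hy2 : y * y = 1 := by rw [← pow_two, ← hy]; exact pow_orderOf_eq_one y
  have hyinv : y⁻¹ = y := inv_eq_of_mul_eq_one_right hy2
  have hy1 : y ≠ 1 := by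
    intro h1; rw [h1, orderOf_one] at hy; omega
  have hyNQ : y ∈ Subgroup.normalizer (Q : Set G) := by rw [← hNdef]; exact hyN
  -- (c) y inverts Q
  have hinvQ : ∀ q ∈ Q, y * q * y⁻¹ = q⁻¹ := by
    let φ : ↥Q →* ↥Q := MonoidHom.mk'
      (fun u => ⟨y * u.1 * y⁻¹, (Subgroup.mem_normalizer_iff.1 hyNQ u.1).1 u.2⟩)
      (by intro a b; apply Subtype.ext; simp)
    have hφ : ∀ n : ↥Q, ((φ n : ↥Q) : G) = y * n.1 * y⁻¹ := fun n => rfl
    have hfpf : MonoidHom.FixedPointFree φ := by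
      intro n hn
      by_contra hne
      have h1 : y * n.1 * y⁻¹ = n.1 := by rw [← hφ n, hn]
      have hc : y * n.1 = n.1 * y := by
        calc y * n.1 = (y * n.1 * y⁻¹) * y := by group
          _ = n.1 * y := by rw [h1]
      have := hoddcomm n.1 (fun h => hne (Subtype.ext h)) (hpelt Q hQ n.1 n.2) y hc
      rw [hy] at this
      exact absurd this (by decide)
    have hinv : Function.Involutive φ := by
      intro n
      apply Subtype.ext
      rw [hφ, hφ, hyinv]
      calc y * (y * n.1 * y) * y = (y * y) * n.1 * (y * y) := by group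
        _ = n.1 := by rw [hy2, one_mul, mul_one]
    have := hfpf.coe_eq_inv_of_involutive hinv
    intro n hn
    have h2 := congrFun this ⟨n, hn⟩
    have h3 := congrArg Subtype.val h2
    rw [hφ] at h3
    simpa using h3
  have hyC : y ∉ C := by
    intro h
    have hdvd : orderOf y ∣ Nat.card ↥C := by
      have := orderOf_dvd_natCard (⟨y, h⟩ : ↥C)
      rwa [← Subgroup.orderOf_coe] at this
    have := Odd.of_dvd_nat hCodd hdvd
    rw [hy] at this
    exact absurd this (by decide)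
  -- N normalizes C
  have hNC : ∀ n ∈ N, ∀ c ∈ C, n * c * n⁻¹ ∈ C := by
    intro n hn c hc
    rw [hCdef, Subgroup.mem_centralizer_iff] at hc ⊢
    intro q hq
    have hq' : n⁻¹ * q * n ∈ Q := by
      have hn' : n⁻¹ ∈ Subgroup.normalizer (Q : Set G) := by
        rw [← hNdef]; exact N.inv_mem hn
      have := (Subgroup.mem_normalizer_iff.1 hn' q).1 hq
      simpa using this
    have h1 := hc _ hq'
    calc q * (n * c * n⁻¹) = n * ((n⁻¹ * q * n) * c) * n⁻¹ := by group
      _ = n * (c * (n⁻¹ * q * n)) * n⁻¹ := by rw [h1]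
      _ = n * c * n⁻¹ * q := by group
  -- (e) p-elements of N lie in C
  have hpC : ∀ r ∈ N, (∃ b : ℕ, r ^ (p ^ b) = 1) → r ∈ C := by
    intro r hrN ⟨b, hrb⟩
    have hrN' : r ∈ Subgroup.normalizer (Q : Set G) := by rw [← hNdef]; exact hrN
    let θ : ↥(Subgroup.normalizer (Q : Set G)) →* MulAut ↥(Q.subgroupOf (Subgroup.normalizer (Q : Set G))) :=
      MulAut.conjNormal
    have hθ : ∀ (n : ↥(Subgroup.normalizer (Q : Set G)))
        (q : ↥(Q.subgroupOf (Subgroup.normalizer (Q : Set G)))),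
        (((θ n q : ↥(Q.subgroupOf (Subgroup.normalizer (Q : Set G)))) :
          ↥(Subgroup.normalizer (Q : Set G))) : G) = n.1 * q.1.1 * n.1⁻¹ := by
      intro n q
      simp [θ, MulAut.conjNormal_apply]
    obtain ⟨rN, hrNdef⟩ : ∃ rN : ↥(Subgroup.normalizer (Q : Set G)), rN = ⟨r, hrN'⟩ := ⟨_, rfl⟩
    obtain ⟨yN, hyNdef⟩ : ∃ yN : ↥(Subgroup.normalizer (Q : Set G)), yN = ⟨y, hyNQ⟩ := ⟨_, rfl⟩
    have hθy : ∀ q, θ yN q = q⁻¹ := by
      intro q
      apply Subtype.ext
      apply Subtype.ext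
      rw [hθ, hyNdef]
      have := hinvQ q.1.1 (Subgroup.mem_subgroupOf.1 q.2)
      simpa using this
    have hcomm : Commute (θ rN) (θ yN) := by
      apply MulEquiv.ext
      intro q
      show θ rN (θ yN q) = θ yN (θ rN q)
      rw [hθy, hθy, map_inv]
    have hker : ∀ n : ↥(Subgroup.normalizer (Q : Set G)), θ n = 1 → n.1 ∈ C := by
      intro n hn
      rw [hCdef, Subgroup.mem_centralizer_iff]
      intro q hq
      have hqN : q ∈ Subgroup.normalizer (Q : Set G) := Subgroup.le_normalizer hq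
      have h1 := hθ n ⟨⟨q, hqN⟩, Subgroup.mem_subgroupOf.2 hq⟩
      rw [hn] at h1
      simp only [MulAut.one_apply] at h1
      calc q * n.1 = (n.1 * q * n.1⁻¹) * n.1 := by rw [← h1]
        _ = n.1 * q := by group
    have hθy1 : θ yN ≠ 1 := by
      intro h
      have := hker yN h
      rw [hyNdef] at this
      exact hyC this
    have hθy2 : θ yN * θ yN = 1 := by
      rw [← map_mul]
      have : yN * yN = 1 := by
        rw [hyNdef]; apply Subtype.ext; exact hy2
      rw [this, map_one]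
    have hθr : (θ rN) ^ (p ^ b) = 1 := by
      rw [← map_pow]
      have : rN ^ (p ^ b) = 1 := by
        rw [hrNdef]; apply Subtype.ext; simpa using hrb
      rw [this, map_one]
    -- the element w = r y
    obtain ⟨w, hwdef⟩ : ∃ w : ↥(Subgroup.normalizer (Q : Set G)), w = rN * yN := ⟨_, rfl⟩
    have hwpos : 0 < orderOf w := orderOf_pos w
    obtain ⟨a, m', hm', hm⟩ := Nat.exists_eq_pow_mul_and_not_dvd hwpos.ne' p hp.out.ne_one
    -- x = w^(2m'), v = w^(p^a)
    have hθw : θ w = θ rN * θ yN := by rw [hwdef, map_mul]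
    suffices hsuff : θ rN = 1 by
      have := hker rN hsuff
      rw [hrNdef] at this
      exact this
    by_contra hr1
    have hx1 : w ^ (2 * m') ≠ 1 := by
      intro h
      apply hr1
      have h1 : (θ rN * θ yN) ^ (2 * m') = 1 := by
        rw [← hθw, ← map_pow, h, map_one]
      exact abstract_key p hp.out hp2 (θ rN) (θ yN) b hθr hθy2 hcomm m' hm' h1
    have hxp : (w ^ (2 * m')) ^ (p ^ a) = 1 := by
      rw [← pow_mul]
      have : 2 * m' * p ^ a = orderOf w * 2 := by rw [hm]; ring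
      rw [this, pow_mul, pow_orderOf_eq_one, one_pow]
    have hxord : ∃ k : ℕ, orderOf ((w ^ (2 * m')).1) = p ^ k := by
      have hdvd : orderOf (w ^ (2 * m')) ∣ p ^ a := orderOf_dvd_of_pow_eq_one hxp
      obtain ⟨k, _, hk⟩ := (Nat.dvd_prime_pow hp.out).1 hdvd
      exact ⟨k, by rw [Subgroup.orderOf_coe]; exact hk⟩
    have hx1' : (w ^ (2 * m')).1 ≠ 1 := by
      intro h
      apply hx1
      apply Subtype.ext
      exact h
    have hvx : (w ^ (p ^ a)).1 * (w ^ (2 * m')).1 = (w ^ (2 * m')).1 * (w ^ (p ^ a)).1 := by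
      have : w ^ (p ^ a) * w ^ (2 * m') = w ^ (2 * m') * w ^ (p ^ a) := by
        rw [← pow_add, ← pow_add, add_comm]
      exact congrArg Subtype.val this
    have hvodd := hoddcomm _ hx1' hxord _ hvx
    rw [Subgroup.orderOf_coe] at hvodd
    -- θ v = r̄^(p^a) ȳ
    have hpaodd : Odd (p ^ a) := hpodd.pow
    have hθv : θ (w ^ (p ^ a)) = (θ rN) ^ (p ^ a) * θ yN := by
      rw [map_pow, hθw, hcomm.mul_pow, pow_odd_of_sq (θ yN) hθy2 _ hpaodd]
    obtain ⟨f, hfdef⟩ : ∃ f, f = orderOf (w ^ (p ^ a)) := ⟨_, rfl⟩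
    rw [← hfdef] at hvodd
    have h1 : ((θ rN) ^ (p ^ a) * θ yN) ^ f = 1 := by
      rw [← hθv, ← map_pow, hfdef, pow_orderOf_eq_one, map_one]
    have hcomm' : Commute ((θ rN) ^ (p ^ a)) (θ yN) := hcomm.pow_left _
    rw [hcomm'.mul_pow, pow_odd_of_sq (θ yN) hθy2 _ hvodd] at h1
    -- θ y = inverse of a p-element
    have h2 : θ yN = (((θ rN) ^ (p ^ a)) ^ f)⁻¹ := eq_inv_of_mul_eq_one_right h1
    have h3 : (θ yN) ^ (p ^ b) = 1 := by
      rw [h2, inv_pow, ← pow_mul, ← pow_mul]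
      have hexp : p ^ a * (f * p ^ b) = p ^ b * (p ^ a * f) := by ring
      rw [hexp, pow_mul, hθr, one_pow, inv_one]
    rw [pow_odd_of_sq (θ yN) hθy2 _ hpodd.pow] at h3
    exact hθy1 h3
  -- (f) M = R ⊓ N ≤ C
  obtain ⟨m0, hm0R, hm0N, hm0Q⟩ := exists_mem_normalizer_not_mem R Q hR hQR
  obtain ⟨M, hMdef⟩ : ∃ M : Subgroup G, M = R ⊓ N := ⟨_, rfl⟩
  have hMp : IsPGroup p ↥M := hR.to_le (by rw [hMdef]; exact inf_le_left)
  have hMC : M ≤ C := by
    intro m hm
    rw [hMdef] at hm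
    obtain ⟨hmR, hmN⟩ := Subgroup.mem_inf.1 hm
    apply hpC m hmN
    obtain ⟨k, hk⟩ := hpelt R hR m hmR
    exact ⟨k, by rw [← hk]; exact pow_orderOf_eq_one m⟩
  have hQM : Q ≤ M := by
    rw [hMdef, hNdef]; exact le_inf hQR.le Subgroup.le_normalizer
  have hQltM : Q < M := by
    refine lt_of_le_of_ne hQM ?_
    intro h
    apply hm0Q
    rw [h, hMdef, hNdef]
    exact Subgroup.mem_inf.2 ⟨hm0R, hm0N⟩
  obtain ⟨S, hSp, hSC, hMS, hSidx⟩ := exists_sylow_rel p C M hMp hMC
  refine ⟨S, hSp, ?_, ?_⟩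
  · calc Nat.card ↥Q < Nat.card ↥M := by
          rcases lt_or_ge (Nat.card ↥Q) (Nat.card ↥M) with h | h
          · exact h
          · exfalso
            exact (ne_of_lt hQltM) (Subgroup.eq_of_le_of_card_ge hQM h)
      _ ≤ Nat.card ↥S := Subgroup.card_le_of_le hMS
  · -- (h) even normalizer
    have hcjC : cj y S ≤ C := by
      intro s hs
      rw [mem_cj_iff] at hs
      have h1 := hNC y hyN _ (hSC hs)
      have : y * (y⁻¹ * s * y) * y⁻¹ = s := by group
      rwa [this] at h1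
    obtain ⟨c, hcC, hc⟩ := exists_conj_le_of_relIndex p C S (cj y S) hSp hSidx hcjC
      (cj_isPGroup p y hSp)
    have hzN : c * y ∈ Subgroup.normalizer (S : Set G) := by
      apply mem_normalizer_of_conj_mem
      intro s hs
      have h1 := hc _ (conj_mem_cj y S hs)
      have : c * y * s * (c * y)⁻¹ = c * (y * s * y⁻¹) * c⁻¹ := by group
      rw [this]; exact h1
    have hzC : c * y ∉ C := by
      intro h
      apply hyC
      have : y = c⁻¹ * (c * y) := by group
      rw [this]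
      exact C.mul_mem (C.inv_mem hcC) h
    have hz2 : (c * y) * (c * y) ∈ C := by
      have h1 := hNC y hyN c hcC
      have : (c * y) * (c * y) = c * (y * c * y⁻¹) * (y * y) := by group
      rw [this, hy2, mul_one]
      exact C.mul_mem hcC h1
    have hev' := even_orderOf_of_sq_mem C (c * y) hzC hz2
    have hdvd : orderOf (c * y) ∣ Nat.card ↥(Subgroup.normalizer (S : Set G)) := by
      have := orderOf_dvd_natCard (⟨c * y, hzN⟩ : ↥(Subgroup.normalizer (S : Set G)))
      rwa [← Subgroup.orderOf_coe] at this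
    exact even_iff_two_dvd.2 ((even_iff_two_dvd.1 hev').trans hdvd)

/-- Let p be an odd prime and G a finite group of even order divisible by p in which the centralizer of every non-identity p-element has odd order. If some nontrivial p-subgroup of G has a normalizer of even order, then the normalizer of every Sylow p-subgroup of G has even order. -/
theorem result {G : Type*} [Group G] [Finite G] (p : ℕ) [Fact p.Prime] (hp2 : p ≠ 2) (hpG : p ∣ Nat.card G) (h2G : 2 ∣ Nat.card G) (hC : ∀ g : G, g ≠ 1 → (∃ k : ℕ, orderOf g = p ^ k) → Odd (Nat.card ↥(Subgroup.centralizer ({g} : Set G)))) (Q : Subgroup G) (hQ : IsPGroup p ↥Q) (hQ1 : Q ≠ ⊥) (hev : Even (Nat.card ↥(Subgroup.normalizer (Q : Set G)))) (P : Sylow p G) : Even (Nat.card ↥(Subgroup.normalizer ((P : Subgroup G) : Set G))) := by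
  classical
  -- choose Q' of maximal order
  let T := {Q' : Subgroup G // IsPGroup p ↥Q' ∧ Q' ≠ ⊥ ∧
    Even (Nat.card ↥(Subgroup.normalizer (Q' : Set G)))}
  haveI : Nonempty T := ⟨⟨Q, hQ, hQ1, hev⟩⟩
  haveI : Finite T := Subtype.finite
  obtain ⟨⟨Q0, hQ0p, hQ01, hQ0ev⟩, hmax⟩ := Finite.exists_max (fun t : T => Nat.card ↥t.1)
  obtain ⟨P', hP'⟩ := hQ0p.exists_le_sylow
  have hQ0P' : Q0 = (P' : Subgroup G) := by
    by_contra hne
    have hlt : Q0 < (P' : Subgroup G) := lt_of_le_of_ne hP' hne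
    obtain ⟨Q', hQ'p, hQ'card, hQ'ev⟩ := step p hp2 hC Q0 hQ0p hQ01 hQ0ev P' P'.isPGroup' hlt
    have hQ'1 : Q' ≠ ⊥ := by
      intro h
      rw [h, Subgroup.card_bot] at hQ'card
      have : 0 < Nat.card ↥Q0 := Nat.card_pos
      omega
    have := hmax ⟨Q', hQ'p, hQ'1, hQ'ev⟩
    simp only at this
    omega
  obtain ⟨g, hg⟩ := MulAction.exists_smul_eq G P' P
  have h1 : cj g (P' : Subgroup G) = (P : Subgroup G) := by
    rw [← sylow_smul_eq_cj, hg]
  have h2 : cj g (Subgroup.normalizer ((P' : Subgroup G) : Set G)) =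
      Subgroup.normalizer ((P : Subgroup G) : Set G) := by
    rw [← cj_normalizer, h1]
  rw [← h2, card_cj', ← hQ0P']
  exact hQ0ev

end Cfsg.Agent.S3982
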