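import Cfsg.Statements.S3983
import Cfsg.Agent.Lib.Helper7.SylowBasic

set_option autoImplicit false
open Cfsg

namespace Cfsg.Agent.S3983

open Cfsg.Agent.Lib.Helper7
open scoped Pointwise

/-- The TI property (trivial intersection with non-normalizing conjugates), elementwise. -/
def TI {G : Type*} [Group G] (A : Subgroup G) : Prop :=
  ∀ g x : G, x ∈ A → g⁻¹ * x * g ∈ A → x ≠ 1 → g ∈ Subgroup.normalizer (A : Set G)

theorem ti_of_hyp {G : Type*} [Group G] (A : Subgroup G)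
    (h : ∀ g : G, g ∉ Subgroup.normalizer (A : Set G) → A ⊓ (MulAut.conj g • A) = ⊥) : TI A := by
  intro g x hx hgx hne
  by_contra hg
  have h1 := h g hg
  have h2 : x ∈ A ⊓ (MulAut.conj g • A) := by
    rw [Subgroup.mem_inf, mem_conj_smul]
    exact ⟨hx, hgx⟩
  rw [h1, Subgroup.mem_bot] at h2
  exact hne h2

theorem hyp_of_ti {G : Type*} [Group G] (A : Subgroup G) (h : TI A) :
    ∀ g : G, g ∉ Subgroup.normalizer (A : Set G) → A ⊓ (MulAut.conj g • A) = ⊥ := by
  intro g hg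
  rw [eq_bot_iff]
  intro x hx
  rw [Subgroup.mem_inf, mem_conj_smul] at hx
  rw [Subgroup.mem_bot]
  by_contra hne
  exact hg (h g x hx.1 hx.2 hne)

theorem ti_conj {G : Type*} [Group G] (A : Subgroup G) (h : TI A) (c : G) :
    TI (MulAut.conj c • A) := by
  intro g x hx hgx hne
  rw [mem_conj_smul] at hx hgx
  -- k = c⁻¹ g c normalizes A
  have hk : c⁻¹ * g * c ∈ Subgroup.normalizer (A : Set G) := by
    apply h (c⁻¹ * g * c) (c⁻¹ * x * c) hx
    · have : (c⁻¹ * g * c)⁻¹ * (c⁻¹ * x * c) * (c⁻¹ * g * c) = c⁻¹ * (g⁻¹ * x * g) * c := by group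
      rw [this]; exact hgx
    · intro h1
      apply hne
      have := congrArg (fun z => c * z * c⁻¹) h1
      simpa [mul_assoc] using this
  rw [Subgroup.mem_normalizer_iff] at hk ⊢
  intro y
  rw [mem_conj_smul, mem_conj_smul]
  rw [hk (c⁻¹ * y * c)]
  have : c⁻¹ * g * c * (c⁻¹ * y * c) * (c⁻¹ * g * c)⁻¹ = c⁻¹ * (g * y * g⁻¹) * c := by group
  rw [this]

theorem result {G : Type*} [Group G] [Finite G] (p : ℕ) [Fact p.Prime] (P : Sylow p G) (hTI : ∀ g : G, g ∉ Subgroup.normalizer ((P : Subgroup G) : Set G) → (P : Subgroup G) ⊓ (MulAut.conj g • (P : Subgroup G)) = ⊥) (U : Subgroup G) (hU : p ∣ Nat.card ↥U) (Q : Sylow p ↥U) : ∀ u : ↥U, u ∉ Subgroup.normalizer ((Q : Subgroup ↥U) : Set ↥U) → (Q : Subgroup ↥U) ⊓ (MulAut.conj u • (Q : Subgroup ↥U)) = ⊥ := by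
  apply hyp_of_ti
  -- Q maps into a Sylow P' = c • P
  have hQ' : IsPGroup p ((Q : Subgroup U).map U.subtype) := Q.isPGroup'.map _
  obtain ⟨P', hP'⟩ := hQ'.exists_le_sylow
  obtain ⟨c, hc⟩ := MulAction.exists_smul_eq G P P'
  have hP'coe : (P' : Subgroup G) = MulAut.conj c • (P : Subgroup G) := by
    rw [← hc]; rfl
  have hTI' : TI (P' : Subgroup G) := by
    rw [hP'coe]
    exact ti_conj _ (ti_of_hyp _ hTI) c
  -- R = P' ∩ U equals Q
  have hR : IsPGroup p ((P' : Subgroup G).subgroupOf U) := P'.isPGroup'.comap_subtype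
  have hQR : (Q : Subgroup U) ≤ (P' : Subgroup G).subgroupOf U := by
    intro x hx
    rw [Subgroup.mem_subgroupOf]
    exact hP' ⟨x, hx, rfl⟩
  have hReq : (P' : Subgroup G).subgroupOf U = (Q : Subgroup U) := Q.is_maximal' hR hQR
  have hmemQ : ∀ x : U, x ∈ (Q : Subgroup U) ↔ (x : G) ∈ (P' : Subgroup G) := by
    intro x
    rw [← hReq, Subgroup.mem_subgroupOf]
  intro u x hx hux hne
  have hu : (u : G) ∈ Subgroup.normalizer ((P' : Subgroup G) : Set G) := by
    apply hTI' (u : G) (x : G) ((hmemQ x).1 hx)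
    · have := (hmemQ _).1 hux
      simpa using this
    · intro h1
      apply hne
      exact Subtype.ext h1
  rw [Subgroup.mem_normalizer_iff] at hu ⊢
  intro y
  rw [hmemQ, hmemQ, hu (y : G)]
  simp

end Cfsg.Agent.S3983
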