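import Cfsg.Statements.S3984
import Cfsg.Agent.Lib.Helper7.SylowSup

set_option autoImplicit false
open Cfsg

namespace Cfsg.Agent.S3984

open Cfsg.Agent.Lib.Helper7
open scoped Pointwise

section
variable {G : Type*} [Group G] [Finite G] (p : ℕ) [Fact p.Prime]

/-- elementwise TI property -/
def TIel (P : Sylow p G) : Prop :=
  ∀ g a : G, a ∈ P → g⁻¹ * a * g ∈ P → a ≠ 1 → g ∈ Subgroup.normalizer ((P : Subgroup G) : Set G)

theorem tiel_of_hyp (P : Sylow p G)
    (hTI : ∀ g : G, g ∉ Subgroup.normalizer ((P : Subgroup G) : Set G) →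
      (P : Subgroup G) ⊓ (MulAut.conj g • (P : Subgroup G)) = ⊥) : TIel p P := by
  intro g a ha hga hne
  by_contra hg
  have h := hTI g hg
  have : a ∈ (P : Subgroup G) ⊓ (MulAut.conj g • (P : Subgroup G)) :=
    Subgroup.mem_inf.mpr ⟨ha, (mem_conj_smul _ _ _).mpr hga⟩
  rw [h, Subgroup.mem_bot] at this
  exact hne this

theorem tiel_smul (P : Sylow p G) (h : G) (hP : TIel p P) : TIel p (h • P) := by
  intro g a ha hga hne
  rw [mem_sylow_smul] at ha hga
  have e : (h⁻¹ * g * h)⁻¹ * (h⁻¹ * a * h) * (h⁻¹ * g * h) = h⁻¹ * (g⁻¹ * a * g) * h := by group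
  have hne' : h⁻¹ * a * h ≠ 1 := by
    intro h1
    apply hne
    have : a = h * (h⁻¹ * a * h) * h⁻¹ := by group
    rw [this, h1]; group
  have hk := hP (h⁻¹ * g * h) (h⁻¹ * a * h) ha (by rw [e]; exact hga) hne'
  have hk' : (h⁻¹ * g * h) • P = P := Sylow.smul_eq_iff_mem_normalizer.mpr hk
  apply Sylow.smul_eq_iff_mem_normalizer.mp
  rw [← mul_smul]
  have : g * h = h * (h⁻¹ * g * h) := by group
  rw [this, mul_smul, hk']

end

/-- Let P be a Sylow p-subgroup of the finite group G that meets each conjugate g P g⁻¹ with g outside N_G(P) trivially, and let N be a normal subgroup of G of order prime to p. Then every Sylow p-subgroup Q of G ⧸ N meets each conjugate x Q x⁻¹ with x outside its normalizer trivially. -/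
theorem result {G : Type*} [Group G] [Finite G] (p : ℕ) [Fact p.Prime] (P : Sylow p G) (hTI : ∀ g : G, g ∉ Subgroup.normalizer ((P : Subgroup G) : Set G) → (P : Subgroup G) ⊓ (MulAut.conj g • (P : Subgroup G)) = ⊥) (N : Subgroup G) [N.Normal] (hN : (Nat.card ↥N).Coprime p) (Q : Sylow p (G ⧸ N)) : ∀ x : G ⧸ N, x ∉ Subgroup.normalizer ((Q : Subgroup (G ⧸ N)) : Set (G ⧸ N)) → (Q : Subgroup (G ⧸ N)) ⊓ (MulAut.conj x • (Q : Subgroup (G ⧸ N))) = ⊥ := by
  intro x hx
  have hf : Function.Surjective (QuotientGroup.mk' N) := QuotientGroup.mk'_surjective N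
  obtain ⟨P', rfl⟩ := Sylow.mapSurjective_surjective hf p Q
  obtain ⟨h, rfl⟩ := MulAction.exists_smul_eq G P P'
  have hP' : TIel p (h • P) := tiel_smul p P h (tiel_of_hyp p P hTI)
  set P' := h • P with hP'def
  obtain ⟨g, rfl⟩ := hf x
  rw [eq_bot_iff]
  intro z hz
  rw [Subgroup.mem_inf, mem_conj_smul] at hz
  obtain ⟨hz1, hz2⟩ := hz
  rw [Sylow.coe_mapSurjective] at hz1 hz2
  obtain ⟨a, ha, rfl⟩ := hz1
  rw [Subgroup.mem_bot]
  by_contra hne
  have ha1 : a ≠ 1 := by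
    intro h1; apply hne; rw [h1, map_one]
  have hmem : g⁻¹ * a * g ∈ (P' : Subgroup G) ⊔ N := by
    rw [← QuotientGroup.ker_mk' N, ← Subgroup.comap_map_eq, Subgroup.mem_comap]
    simpa using hz2
  have hAp : IsPGroup p (Subgroup.zpowers (g⁻¹ * a * g)) := by
    obtain ⟨k, hk⟩ := orderOf_eq_prime_pow_of_mem_sylow P' a ha
    apply isPGroup_zpowers_of_orderOf _ k
    have : g⁻¹ * a * g = g⁻¹ * a * g⁻¹⁻¹ := by rw [inv_inv]
    rw [this, orderOf_conj_eq, hk]
  obtain ⟨n, hn, hconj⟩ := exists_conj_mem_of_le_sup (P' : Subgroup G) N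
    (Subgroup.zpowers (g⁻¹ * a * g)) P'.isPGroup'
    (not_dvd_relIndex_sup_of_coprime _ N hN) hAp (by rw [Subgroup.zpowers_le]; exact hmem)
  have h1 := hconj _ (Subgroup.mem_zpowers _)
  have h2 : (g * n)⁻¹ * a * (g * n) ∈ P' := by
    have : (g * n)⁻¹ * a * (g * n) = n⁻¹ * (g⁻¹ * a * g) * n := by group
    rw [this]; exact h1
  have h3 := hP' (g * n) a ha h2 ha1
  apply hx
  have h4 : QuotientGroup.mk' N g = QuotientGroup.mk' N (g * n) := by
    have h5 : QuotientGroup.mk' N n = 1 := (QuotientGroup.eq_one_iff n).mpr hn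
    rw [map_mul, h5, mul_one]
  rw [h4, Sylow.coe_mapSurjective]
  exact Subgroup.le_normalizer_map _ ⟨g * n, h3, rfl⟩

end Cfsg.Agent.S3984
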