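import Cfsg.Statements.S3985
import Cfsg.Agent.Lib.Helper7.CyclicAut
import Cfsg.Agent.Lib.Helper7.SylowBasic

set_option autoImplicit false
open Cfsg

namespace Cfsg.Agent.S3985

open Cfsg.Agent.Lib.Helper7
open scoped Pointwise

section
variable {G : Type*} [Group G] [Finite G] (p : ℕ) [Fact p.Prime]

/-- a generator of a cyclic subgroup as an element of `G` -/
theorem exists_gen (P : Subgroup G) (hcyc : IsCyclic ↥P) :
    ∃ t ∈ P, ∀ u ∈ P, ∃ i : ℕ, u = t ^ i := by
  obtain ⟨t0, ht0⟩ := hcyc.exists_generator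
  refine ⟨t0, t0.2, ?_⟩
  intro u hu
  have h1 := ht0 ⟨u, hu⟩
  rw [← (isOfFinOrder_of_finite t0).mem_powers_iff_mem_zpowers, Submonoid.mem_powers_iff] at h1
  obtain ⟨n, hn⟩ := h1
  refine ⟨n, ?_⟩
  have := congrArg Subtype.val hn
  simpa using this.symm

theorem comm_of_cyclic (P : Subgroup G) (hcyc : IsCyclic ↥P) (u v : G) (hu : u ∈ P) (hv : v ∈ P) :
    u * v = v * u := by
  obtain ⟨t, _, ht⟩ := exists_gen P hcyc
  obtain ⟨i, rfl⟩ := ht u hu
  obtain ⟨j, rfl⟩ := ht v hv
  rw [← pow_add, ← pow_add, add_comm]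

theorem mem_sylow_of_mem_normalizer (P : Sylow p G) (u : G) (a : ℕ) (hu : orderOf u = p ^ a)
    (hN : u ∈ Subgroup.normalizer ((P : Subgroup G) : Set G)) : u ∈ P := by
  have hK : IsPGroup p (Subgroup.zpowers u) := isPGroup_zpowers_of_orderOf u a hu
  have hle : Subgroup.zpowers u ≤ Subgroup.normalizer ((P : Subgroup G) : Set G) := by
    rw [Subgroup.zpowers_le]; exact hN
  have h1 := IsPGroup.to_sup_of_normal_left' P.isPGroup' hK hle
  have h2 := P.is_maximal' h1 le_sup_left
  have : Subgroup.zpowers u ≤ (P : Subgroup G) := by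
    rw [← h2]; exact le_sup_right
  exact this (Subgroup.mem_zpowers u)

theorem forward (P : Sylow p G) (hcyc : IsCyclic ↥(P : Subgroup G))
    (hTI : ∀ g : G, g ∉ Subgroup.normalizer ((P : Subgroup G) : Set G) →
      (P : Subgroup G) ⊓ (MulAut.conj g • (P : Subgroup G)) = ⊥)
    (x : G) (hxP : x ∈ (P : Subgroup G)) (hx1 : x ≠ 1) :
    Subgroup.centralizer ({x} : Set G) = Subgroup.centralizer ((P : Subgroup G) : Set G) := by
  apply le_antisymm
  · intro c hc
    rw [Subgroup.mem_centralizer_iff] at hc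
    have hcx : x * c = c * x := hc x rfl
    -- c normalizes P
    have hcN : c ∈ Subgroup.normalizer ((P : Subgroup G) : Set G) := by
      by_contra hcN
      have h1 := hTI c hcN
      have h2 : x ∈ (P : Subgroup G) ⊓ (MulAut.conj c • (P : Subgroup G)) := by
        refine Subgroup.mem_inf.mpr ⟨hxP, ?_⟩
        rw [mem_conj_smul]
        have : c⁻¹ * x * c = x := by
          rw [mul_assoc, hcx, ← mul_assoc, inv_mul_cancel, one_mul]
        rw [this]; exact hxP
      rw [h1, Subgroup.mem_bot] at h2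
      exact hx1 h2
    obtain ⟨t, htP, ht⟩ := exists_gen (P : Subgroup G) hcyc
    -- order of t
    obtain ⟨m, hm⟩ := orderOf_eq_prime_pow_of_mem_sylow P t htP
    -- c t c⁻¹ = t ^ k
    have hctP : c * t * c⁻¹ ∈ (P : Subgroup G) := by
      rw [Subgroup.mem_normalizer_iff] at hcN
      exact (hcN t).mp htP
    obtain ⟨k, hk⟩ := ht _ hctP
    -- x = t ^ j
    obtain ⟨j, hj⟩ := ht x hxP
    have hjnd : ¬ p ^ m ∣ j := by
      intro hd
      apply hx1
      rw [hj]
      exact orderOf_dvd_iff_pow_eq_one.mp (by rw [hm]; exact hd)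
    -- the p'-part e of the order of c
    have hn0 : orderOf c ≠ 0 := (orderOf_pos c).ne'
    set a := (orderOf c).factorization p with ha
    set e := orderOf c / p ^ a with he
    have hmul : p ^ a * e = orderOf c := Nat.ordProj_mul_ordCompl_eq_self (orderOf c) p
    have hecop : e.Coprime p := (Nat.coprime_ordCompl (Fact.out : p.Prime) hn0).symm
    have he0 : e ≠ 0 := by
      intro h; rw [h, mul_zero] at hmul; exact hn0 hmul.symm
    have hoe : orderOf (c ^ e) = p ^ a := by
      rw [orderOf_pow_of_dvd he0 (Dvd.intro_left _ hmul)]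
      exact Nat.div_eq_of_eq_mul_left (Nat.pos_of_ne_zero he0) hmul.symm
    have hceP : c ^ e ∈ P :=
      mem_sylow_of_mem_normalizer p P (c ^ e) a hoe (Subgroup.pow_mem _ hcN e)
    have hce : c ^ e * t = t * c ^ e := comm_of_cyclic _ hcyc _ _ hceP htP
    have hcj : c * t ^ j = t ^ j * c := by rw [← hj]; exact hcx.symm
    have hct := commute_of_cyclic_action p c t m k e j hm hk hecop hce hjnd hcj
    rw [Subgroup.mem_centralizer_iff]
    intro u hu
    obtain ⟨i, rfl⟩ := ht u hu
    exact ((Commute.pow_right (show Commute c t from hct) i).eq).symm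
  · intro c hc
    rw [Subgroup.mem_centralizer_iff] at hc ⊢
    intro z hz
    rw [Set.mem_singleton_iff] at hz
    subst hz
    exact hc z hxP

theorem backward (P : Sylow p G) (hcyc : IsCyclic ↥(P : Subgroup G))
    (h : ∀ x : G, x ∈ (P : Subgroup G) → x ≠ 1 →
      Subgroup.centralizer ({x} : Set G) = Subgroup.centralizer ((P : Subgroup G) : Set G))
    (g : G) (hg : g ∉ Subgroup.normalizer ((P : Subgroup G) : Set G)) :
    (P : Subgroup G) ⊓ (MulAut.conj g • (P : Subgroup G)) = ⊥ := by
  by_contra hne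
  apply hg
  obtain ⟨z, hz, hz1⟩ := (Subgroup.bot_or_exists_ne_one _).resolve_left hne
  obtain ⟨hzP, hzQ⟩ := Subgroup.mem_inf.mp hz
  rw [mem_conj_smul] at hzQ
  have hC := h z hzP hz1
  have hle : ((g • P : Sylow p G) : Subgroup G) ≤ Subgroup.centralizer ((P : Subgroup G) : Set G) := by
    intro v hv
    have hv' : g⁻¹ * v * g ∈ P := (mem_sylow_smul P g v).mp hv
    rw [← hC, Subgroup.mem_centralizer_iff]
    intro y hy
    rw [Set.mem_singleton_iff] at hy
    subst hy
    have h1 := comm_of_cyclic _ hcyc _ _ hzQ hv'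
    calc y * v = g * ((g⁻¹ * y * g) * (g⁻¹ * v * g)) * g⁻¹ := by group
      _ = g * ((g⁻¹ * v * g) * (g⁻¹ * y * g)) * g⁻¹ := by rw [h1]
      _ = v * y := by group
  have hle2 : ((g • P : Sylow p G) : Subgroup G) ≤ Subgroup.normalizer ((P : Subgroup G) : Set G) :=
    le_trans hle (Subgroup.centralizer_le_normalizer _)
  have h1 := IsPGroup.to_sup_of_normal_left' P.isPGroup' (g • P).isPGroup' hle2
  have h2 := P.is_maximal' h1 le_sup_left
  have h4 : ((g • P : Sylow p G) : Subgroup G) ≤ (P : Subgroup G) := by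
    rw [← h2]; exact le_sup_right
  have h5 : g • P = P := Sylow.ext ((g • P).is_maximal' P.isPGroup' h4).symm
  exact Sylow.smul_eq_iff_mem_normalizer.mp h5

end

/-- Let P be a cyclic Sylow p-subgroup of the finite group G. Then P meets each conjugate g P g⁻¹ with g outside N_G(P) trivially if and only if P is weakly self-centralizing: C_G(x) = C_G(P) for every non-identity x ∈ P. -/
theorem result {G : Type*} [Group G] [Finite G] (p : ℕ) [Fact p.Prime] (P : Sylow p G) (hcyc : IsCyclic ↥(P : Subgroup G)) : (∀ g : G, g ∉ Subgroup.normalizer ((P : Subgroup G) : Set G) → (P : Subgroup G) ⊓ (MulAut.conj g • (P : Subgroup G)) = ⊥) ↔ ∀ x : G, x ∈ (P : Subgroup G) → x ≠ 1 → Subgroup.centralizer ({x} : Set G) = Subgroup.centralizer ((P : Subgroup G) : Set G) := by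
  constructor
  · intro hTI x hx hx1
    exact forward p P hcyc hTI x hx hx1
  · intro h g hg
    exact backward p P hcyc h g hg

end Cfsg.Agent.S3985
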