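import Cfsg.Statements.S3986
import Cfsg.Agent.Lib.Helper7.PrimaryDecomp
import Cfsg.Agent.Lib.Helper7.NilpotentSylow
import Cfsg.Agent.Lib.Helper7.SylowBasic
import Cfsg.Agent.Lib.Helper7.Real

set_option autoImplicit false
open Cfsg

namespace Cfsg.Agent.S3986

open Cfsg.Agent.Lib.Helper7

section
variable {G : Type*} [Group G] [Finite G] (p : ℕ) [Fact p.Prime]

/-- forward direction -/
theorem forward (P : Sylow p G) (K : Subgroup G) (hPn : (P : Subgroup G).Normal) (hKn : K.Normal)
    (hinf : (P : Subgroup G) ⊓ K = ⊥) (hsup : (P : Subgroup G) ⊔ K = ⊤)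
    (x y : G) (hx : ∃ a : ℕ, orderOf x = p ^ a)
    (hy : ∃ q b : ℕ, q.Prime ∧ q ≠ p ∧ orderOf y = q ^ b) : x * y = y * x := by
  obtain ⟨a, ha⟩ := hx
  obtain ⟨q, b, hq, hqp, hb⟩ := hy
  have hxP : x ∈ (P : Subgroup G) := by
    obtain ⟨P', hP'⟩ := exists_sylow_mem_of_orderOf x a ha
    obtain ⟨g, rfl⟩ := MulAction.exists_smul_eq G P P'
    rw [Sylow.smul_eq_of_normal] at hP'
    exact hP'
  have hcomp : Subgroup.IsComplement' (P : Subgroup G) K := by
    apply Subgroup.isComplement'_of_disjoint_and_mul_eq_univ (disjoint_iff.mpr hinf)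
    rw [← Subgroup.normal_mul, hsup]; rfl
  have hidx : K.index = Nat.card (P : Subgroup G) := hcomp.index_eq_card
  have hyK : y ∈ K := by
    apply mem_of_orderOf_coprime_index
    rw [hidx, hb]
    obtain ⟨n, hn⟩ := IsPGroup.iff_card.mp P.isPGroup'
    rw [hn]
    apply Nat.Coprime.pow
    exact (Nat.coprime_primes hq (Fact.out : p.Prime)).mpr hqp
  exact Subgroup.commute_of_normal_of_disjoint _ _ hPn hKn (disjoint_iff.mpr hinf) x y hxP hyK

/-- backward direction -/
theorem backward (h : ∀ x y : G, (∃ a : ℕ, orderOf x = p ^ a) →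
      (∃ q b : ℕ, q.Prime ∧ q ≠ p ∧ orderOf y = q ^ b) → x * y = y * x) :
    ∃ (P : Sylow p G) (K : Subgroup G), (P : Subgroup G).Normal ∧ K.Normal ∧
      (P : Subgroup G) ⊓ K = ⊥ ∧ (P : Subgroup G) ⊔ K = ⊤ := by
  obtain ⟨P⟩ : Nonempty (Sylow p G) := inferInstance
  -- all prime-to-p elements centralize P
  have hcent : ∀ k : G, (orderOf k).Coprime p → k ∈ Subgroup.centralizer ((P : Subgroup G) : Set G) := by
    intro k hk
    refine mem_of_forall_prime_pow_mem (Subgroup.centralizer ((P : Subgroup G) : Set G)) p ?_ _ k rfl hk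
    intro y q b hq hqp hy
    rw [Subgroup.mem_centralizer_iff]
    intro x hx
    exact h x y (orderOf_eq_prime_pow_of_mem_sylow P x hx) ⟨q, b, hq, hqp, hy⟩
  have hPn : (P : Subgroup G).Normal := by
    rw [← Subgroup.normalizer_eq_top_iff]
    apply eq_top_of_forall_sylow_le
    intro q hq
    by_cases hqp : q = p
    · subst hqp
      exact ⟨P, Subgroup.le_normalizer⟩
    · obtain ⟨Q⟩ : Nonempty (Sylow q G) := inferInstance
      refine ⟨Q, ?_⟩
      intro y hy
      apply Subgroup.centralizer_le_normalizer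
      apply hcent
      obtain ⟨b, hb⟩ := orderOf_eq_prime_pow_of_mem_sylow Q y hy
      rw [hb]
      apply Nat.Coprime.pow_left
      exact (Nat.coprime_primes hq.out (Fact.out : p.Prime)).mpr hqp
  haveI := hPn
  obtain ⟨K, hK⟩ := Subgroup.exists_right_complement'_of_coprime (N := (P : Subgroup G))
    P.card_coprime_index
  have hKcard : Nat.card K = (P : Subgroup G).index := by
    rw [← hK.symm.index_eq_card]
  have hKcent : K ≤ Subgroup.centralizer ((P : Subgroup G) : Set G) := by
    intro k hk
    apply hcent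
    have h1 : orderOf k ∣ Nat.card K := by
      have := orderOf_dvd_natCard (⟨k, hk⟩ : K)
      rwa [Subgroup.orderOf_mk] at this
    rw [hKcard] at h1
    have h2 : (P : Subgroup G).index.Coprime p := by
      rw [Nat.coprime_comm, Nat.Prime.coprime_iff_not_dvd (Fact.out : p.Prime)]
      exact P.not_dvd_index
    exact Nat.Coprime.coprime_dvd_left h1 h2
  have hsup : (P : Subgroup G) ⊔ K = ⊤ := hK.sup_eq_top
  have hKn : K.Normal := by
    rw [← Subgroup.normalizer_eq_top_iff, eq_top_iff, ← hsup]
    apply sup_le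
    · intro x hx
      rw [Subgroup.mem_normalizer_iff]
      intro k
      constructor
      · intro hk
        have := (Subgroup.mem_centralizer_iff.mp (hKcent hk)) x hx
        have e : x * k * x⁻¹ = k := by rw [this]; group
        rw [e]; exact hk
      · intro hk
        have := (Subgroup.mem_centralizer_iff.mp (hKcent hk)) x hx
        have e : k = x * k * x⁻¹ := by
          have e1 : x * (x * k * x⁻¹) = x * k := by rw [this]; group
          exact (mul_left_cancel e1).symm
        rw [e]; exact hk
    · exact Subgroup.le_normalizer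
  exact ⟨P, K, hPn, hKn, disjoint_iff.mp hK.disjoint, hsup⟩

end

/-- Let p be a prime and G a finite group. Then some Sylow p-subgroup of G is a direct factor of G (it is normal and has a normal complement) if and only if every element of p-power order commutes with every element whose order is a power of a prime other than p. -/
theorem result {G : Type*} [Group G] [Finite G] (p : ℕ) [Fact p.Prime] : (∃ (P : Sylow p G) (K : Subgroup G), (P : Subgroup G).Normal ∧ K.Normal ∧ (P : Subgroup G) ⊓ K = ⊥ ∧ (P : Subgroup G) ⊔ K = ⊤) ↔ ∀ x y : G, (∃ a : ℕ, orderOf x = p ^ a) → (∃ q b : ℕ, q.Prime ∧ q ≠ p ∧ orderOf y = q ^ b) → x * y = y * x := by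
  constructor
  · rintro ⟨P, K, hPn, hKn, hinf, hsup⟩ x y hx hy
    exact forward p P K hPn hKn hinf hsup x y hx hy
  · exact backward p

end Cfsg.Agent.S3986
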