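import Cfsg.Statements.S3987
import Cfsg.Agent.S3986
import Cfsg.Agent.Lib.Helper7.SylowQuot

set_option autoImplicit false
open Cfsg

namespace Cfsg.Agent.S3987

open Cfsg.Agent.Lib.Helper7

section
variable {G : Type*} [Group G] [Finite G] (p : ℕ) [Fact p.Prime]

theorem mem_P (P : Sylow p G) (hPn : (P : Subgroup G).Normal)
    (x : G) (hx : ∃ a : ℕ, orderOf x = p ^ a) : x ∈ (P : Subgroup G) := by
  obtain ⟨a, ha⟩ := hx
  obtain ⟨P', hP'⟩ := exists_sylow_mem_of_orderOf x a ha
  obtain ⟨g, rfl⟩ := MulAction.exists_smul_eq G P P'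
  rw [Sylow.smul_eq_of_normal] at hP'
  exact hP'

theorem mem_K (P : Sylow p G) (K : Subgroup G) (hPn : (P : Subgroup G).Normal) (hKn : K.Normal)
    (hinf : (P : Subgroup G) ⊓ K = ⊥) (hsup : (P : Subgroup G) ⊔ K = ⊤)
    (y : G) (hy : ∃ q b : ℕ, q.Prime ∧ q ≠ p ∧ orderOf y = q ^ b) : y ∈ K := by
  obtain ⟨q, b, hq, hqp, hb⟩ := hy
  have hcomp : Subgroup.IsComplement' (P : Subgroup G) K := by
    apply Subgroup.isComplement'_of_disjoint_and_mul_eq_univ (disjoint_iff.mpr hinf)
    rw [← Subgroup.normal_mul, hsup]; rfl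
  have hidx : K.index = Nat.card (P : Subgroup G) := hcomp.index_eq_card
  apply mem_of_orderOf_coprime_index
  rw [hidx, hb]
  obtain ⟨n, hn⟩ := IsPGroup.iff_card.mp P.isPGroup'
  rw [hn]
  apply Nat.Coprime.pow
  exact (Nat.coprime_primes hq (Fact.out : p.Prime)).mpr hqp

/-- for commuting elements of coprime order, `C(xy) = C(x) ⊓ C(y)` -/
theorem centralizer_mul_of_coprime (x y : G) (hc : x * y = y * x)
    (hcop : (orderOf x).Coprime (orderOf y)) :
    Subgroup.centralizer ({x * y} : Set G)
      = Subgroup.centralizer ({x} : Set G) ⊓ Subgroup.centralizer ({y} : Set G) := by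
  have hpow : ∀ n : ℕ, (x * y) ^ n = x ^ n * y ^ n := fun n => (Commute.mul_pow hc n)
  have hx : x ∈ Subgroup.zpowers (x * y) := by
    apply mem_of_pow_mem_of_coprime _ x (orderOf y) (orderOf x) hcop.symm
    · have : x ^ orderOf y = (x * y) ^ orderOf y := by
        rw [hpow, pow_orderOf_eq_one, mul_one]
      rw [this]
      exact Subgroup.pow_mem _ (Subgroup.mem_zpowers _) _
    · rw [pow_orderOf_eq_one]; exact Subgroup.one_mem _
  have hy : y ∈ Subgroup.zpowers (x * y) := by
    apply mem_of_pow_mem_of_coprime _ y (orderOf x) (orderOf y) hcop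
    · have : y ^ orderOf x = (x * y) ^ orderOf x := by
        rw [hpow, pow_orderOf_eq_one, one_mul]
      rw [this]
      exact Subgroup.pow_mem _ (Subgroup.mem_zpowers _) _
    · rw [pow_orderOf_eq_one]; exact Subgroup.one_mem _
  apply le_antisymm
  · intro g hg
    rw [Subgroup.mem_centralizer_iff] at hg
    have hg' := hg (x * y) rfl
    have hz : ∀ z ∈ Subgroup.zpowers (x * y), z * g = g * z := by
      intro z hz
      obtain ⟨n, rfl⟩ := hz
      exact ((Commute.zpow_left (show Commute (x * y) g from hg') n)).eq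
    refine Subgroup.mem_inf.mpr ⟨?_, ?_⟩
    · rw [Subgroup.mem_centralizer_iff]
      intro z hz'
      rw [Set.mem_singleton_iff] at hz'
      subst hz'
      exact hz z hx
    · rw [Subgroup.mem_centralizer_iff]
      intro z hz'
      rw [Set.mem_singleton_iff] at hz'
      subst hz'
      exact hz z hy
  · intro g hg
    rw [Subgroup.mem_inf, Subgroup.mem_centralizer_iff, Subgroup.mem_centralizer_iff] at hg
    rw [Subgroup.mem_centralizer_iff]
    intro z hz
    rw [Set.mem_singleton_iff] at hz
    subst hz
    rw [mul_assoc, hg.2 y rfl, ← mul_assoc, hg.1 x rfl, mul_assoc]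

theorem inf_le_centralizer_mul (x y : G) :
    Subgroup.centralizer ({x} : Set G) ⊓ Subgroup.centralizer ({y} : Set G)
      ≤ Subgroup.centralizer ({x * y} : Set G) := by
  intro g hg
  rw [Subgroup.mem_inf, Subgroup.mem_centralizer_iff, Subgroup.mem_centralizer_iff] at hg
  rw [Subgroup.mem_centralizer_iff]
  intro z hz
  rw [Set.mem_singleton_iff] at hz
  subst hz
  rw [mul_assoc, hg.2 y rfl, ← mul_assoc, hg.1 x rfl, mul_assoc]

theorem forward (P : Sylow p G) (K : Subgroup G) (hPn : (P : Subgroup G).Normal) (hKn : K.Normal)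
    (hinf : (P : Subgroup G) ⊓ K = ⊥) (hsup : (P : Subgroup G) ⊔ K = ⊤)
    (x y : G) (hx : ∃ a : ℕ, orderOf x = p ^ a)
    (hy : ∃ q b : ℕ, q.Prime ∧ q ≠ p ∧ orderOf y = q ^ b) :
    (Subgroup.centralizer ({x * y} : Set G)).index = (Subgroup.centralizer ({x} : Set G)).index *
      (Subgroup.centralizer ({y} : Set G)).index := by
  have hxy := Cfsg.Agent.S3986.forward p P K hPn hKn hinf hsup x y hx hy
  have hxP := mem_P p P hPn x hx
  have hyK := mem_K p P K hPn hKn hinf hsup y hy
  have hcop : (orderOf x).Coprime (orderOf y) := by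
    obtain ⟨a, ha⟩ := hx
    obtain ⟨q, b, hq, hqp, hb⟩ := hy
    rw [ha, hb]
    apply Nat.Coprime.pow
    exact (Nat.coprime_primes (Fact.out : p.Prime) hq).mpr hqp.symm
  rw [centralizer_mul_of_coprime x y hxy hcop]
  set A := Subgroup.centralizer ({x} : Set G) with hA
  set B := Subgroup.centralizer ({y} : Set G) with hB
  have hdis : Disjoint (P : Subgroup G) K := disjoint_iff.mpr hinf
  have hKA : K ≤ A := by
    intro k hk
    rw [hA, Subgroup.mem_centralizer_iff]
    intro z hz
    rw [Set.mem_singleton_iff] at hz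
    subst hz
    exact (Subgroup.commute_of_normal_of_disjoint _ _ hPn hKn hdis z k hxP hk).eq
  have hPB : (P : Subgroup G) ≤ B := by
    intro k hk
    rw [hB, Subgroup.mem_centralizer_iff]
    intro z hz
    rw [Set.mem_singleton_iff] at hz
    subst hz
    exact (Subgroup.commute_of_normal_of_disjoint _ _ hPn hKn hdis k z hk hyK).eq.symm
  have h1 : (A ⊓ B).index = A.relIndex B * B.index := by
    rw [← Subgroup.inf_relIndex_right, Subgroup.relIndex_mul_index inf_le_right]
  have h2 : A.relIndex B = A.index := by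
    apply le_antisymm
    · have := Subgroup.relIndex_le_of_le_right (H := A) (le_top : B ≤ ⊤)
        (by rw [Subgroup.relIndex_top_right]; exact Subgroup.index_ne_zero_of_finite)
      rwa [Subgroup.relIndex_top_right] at this
    · haveI := hPn
      have h3 : A.relIndex (P : Subgroup G) = A.index := by
        rw [← relIndex_sup_of_normal A (P : Subgroup G)]
        have : A ⊔ (P : Subgroup G) = ⊤ := by
          rw [eq_top_iff, ← hsup]
          exact sup_le le_sup_right (le_trans hKA le_sup_left)
        rw [this, Subgroup.relIndex_top_right]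
      rw [← h3]
      exact Subgroup.relIndex_le_of_le_right hPB Subgroup.index_ne_zero_of_finite
  rw [h1, h2]

theorem backward_comm (x y : G)
    (h : (Subgroup.centralizer ({x * y} : Set G)).index = (Subgroup.centralizer ({x} : Set G)).index *
      (Subgroup.centralizer ({y} : Set G)).index) : x * y = y * x := by
  set A := Subgroup.centralizer ({x} : Set G) with hA
  set B := Subgroup.centralizer ({y} : Set G) with hB
  set D := Subgroup.centralizer ({x * y} : Set G) with hD
  have hle : A ⊓ B ≤ D := inf_le_centralizer_mul x y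
  have h1 : (A ⊓ B).index ≤ D.index := by
    rw [h]; exact Subgroup.index_inf_le
  have h2 : (A ⊓ B).relIndex D * D.index = (A ⊓ B).index := Subgroup.relIndex_mul_index hle
  have hD0 : D.index ≠ 0 := Subgroup.index_ne_zero_of_finite
  have h3 : (A ⊓ B).relIndex D = 1 := by
    have h4 : (A ⊓ B).relIndex D * D.index ≤ 1 * D.index := by
      rw [h2, one_mul]; exact h1
    have h5 := Nat.le_of_mul_le_mul_right h4 (Nat.pos_of_ne_zero hD0)
    have h6 : (A ⊓ B).relIndex D ≠ 0 := Subgroup.index_ne_zero_of_finite
    omega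
  rw [Subgroup.relIndex_eq_one] at h3
  have hmem : x * y ∈ D := by
    rw [hD, Subgroup.mem_centralizer_iff]
    intro z hz
    rw [Set.mem_singleton_iff] at hz
    subst hz
    rfl
  have := (Subgroup.mem_inf.mp (h3 hmem)).1
  rw [hA, Subgroup.mem_centralizer_iff] at this
  have e := this x rfl
  -- x * (x * y) = x * y * x
  have : x * (x * y) = x * (y * x) := by rw [e, mul_assoc]
  exact mul_left_cancel this

end

/-- Let p be a prime and G a finite group. Then some Sylow p-subgroup of G is a direct factor of G (normal with a normal complement) if and only if for every element x of p-power order and every element y whose order is a power of a prime other than p, the conjugacy class of x y has as many elements as the product of the sizes of the classes of x and of y. -/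
theorem result {G : Type*} [Group G] [Finite G] (p : ℕ) [Fact p.Prime] : (∃ (P : Sylow p G) (K : Subgroup G), (P : Subgroup G).Normal ∧ K.Normal ∧ (P : Subgroup G) ⊓ K = ⊥ ∧ (P : Subgroup G) ⊔ K = ⊤) ↔ ∀ x y : G, (∃ a : ℕ, orderOf x = p ^ a) → (∃ q b : ℕ, q.Prime ∧ q ≠ p ∧ orderOf y = q ^ b) → (Subgroup.centralizer ({x * y} : Set G)).index = (Subgroup.centralizer ({x} : Set G)).index * (Subgroup.centralizer ({y} : Set G)).index := by
  constructor
  · rintro ⟨P, K, hPn, hKn, hinf, hsup⟩ x y hx hy
    exact forward p P K hPn hKn hinf hsup x y hx hy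
  · intro h
    apply Cfsg.Agent.S3986.backward p
    intro x y hx hy
    exact backward_comm x y (h x y hx hy)

end Cfsg.Agent.S3987
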