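import Cfsg.Statements.S3997
import Cfsg.Agent.Lib.Helper7.SylowBasic

set_option autoImplicit false
open Cfsg

namespace Cfsg.Agent.S3997

open Cfsg.Agent.Lib.Helper7

theorem card_pred_orderOf {X : Type*} [Group X] [Finite X] (N : ℕ)
    (hN : ∀ x : X, orderOf x ≤ N) (P : ℕ → Prop) [DecidablePred P] :
    Nat.card {x : X // P (orderOf x)}
      = ∑ m ∈ (Finset.range (N + 1)).filter P, Nat.card {x : X // orderOf x = m} := by
  classical
  haveI : Fintype X := Fintype.ofFinite X
  rw [Nat.card_eq_fintype_card, Fintype.card_subtype]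
  rw [Finset.card_eq_sum_card_fiberwise (f := fun x : X => orderOf x)
    (t := (Finset.range (N + 1)).filter P)]
  · apply Finset.sum_congr rfl
    intro m hm
    rw [Nat.card_eq_fintype_card, Fintype.card_subtype]
    congr 1
    ext x
    simp only [Finset.mem_filter, Finset.mem_univ, true_and]
    constructor
    · rintro ⟨_, h⟩; exact h
    · intro h
      refine ⟨?_, h⟩
      rw [h]; exact (Finset.mem_filter.mp hm).2
  · intro x hx
    simp only [Finset.coe_filter, Finset.mem_univ, true_and, Set.mem_ofPred_eq] at hx
    simp only [Finset.coe_filter, Finset.mem_range, Set.mem_ofPred_eq]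
    exact ⟨Nat.lt_succ_of_le (hN x), hx⟩

/-- Let G and H be finite groups with the same order type: for every m they have the same number of elements of order m. If G is nilpotent then so is H. -/
theorem result {G H : Type*} [Group G] [Finite G] [Group H] [Finite H] (hT : (∀ m : ℕ, Nat.card {g : G // orderOf g = m} = Nat.card {h : H // orderOf h = m})) (hG : Group.IsNilpotent G) :
    Group.IsNilpotent H := by
  classical
  set N := Nat.card G + Nat.card H with hNdef
  have hNG : ∀ x : G, orderOf x ≤ N := fun x => le_trans (orderOf_le_card) (Nat.le_add_right _ _)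
  have hNH : ∀ x : H, orderOf x ≤ N := fun x => le_trans (orderOf_le_card) (Nat.le_add_left _ _)
  have hsame : ∀ (P : ℕ → Prop) [DecidablePred P],
      Nat.card {x : G // P (orderOf x)} = Nat.card {x : H // P (orderOf x)} := by
    intro P _
    rw [card_pred_orderOf N hNG P, card_pred_orderOf N hNH P]
    exact Finset.sum_congr rfl (fun m _ => hT m)
  have hcard : Nat.card G = Nat.card H := by
    have h := hsame (fun _ => True)
    have e1 : Nat.card {x : G // True} = Nat.card G := Nat.card_congr (Equiv.subtypeUnivEquiv (fun _ => trivial))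
    have e2 : Nat.card {x : H // True} = Nat.card H := Nat.card_congr (Equiv.subtypeUnivEquiv (fun _ => trivial))
    rw [← e1, ← e2]; exact h
  apply (Group.isNilpotent_of_finite_tfae.out 0 3 rfl rfl).mpr
  intro p hp P
  haveI := hp
  -- count of p-elements
  have hcount := hsame (fun m => ∃ k : ℕ, m = p ^ k)
  -- in G the p-elements form the Sylow subgroup
  obtain ⟨PG⟩ : Nonempty (Sylow p G) := inferInstance
  have hGset : ∀ g : G, (∃ k : ℕ, orderOf g = p ^ k) ↔ g ∈ PG := by
    intro g
    constructor
    · rintro ⟨k, hk⟩
      obtain ⟨P', hP'⟩ := exists_sylow_mem_of_orderOf g k hk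
      obtain ⟨c, rfl⟩ := MulAction.exists_smul_eq G PG P'
      rw [Sylow.smul_eq_of_normal] at hP'
      exact hP'
    · intro hg
      exact orderOf_eq_prime_pow_of_mem_sylow PG g hg
  have hGcount : Nat.card {x : G // ∃ k : ℕ, orderOf x = p ^ k} = Nat.card PG :=
    Nat.card_congr (Equiv.subtypeEquivRight hGset)
  have hPcard : Nat.card P = Nat.card PG := by
    rw [Sylow.card_eq_multiplicity, Sylow.card_eq_multiplicity, hcard]
  -- P is exactly the set of p-elements of H
  have hHsub : ∀ h : H, h ∈ P → ∃ k : ℕ, orderOf h = p ^ k :=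
    fun h hh => orderOf_eq_prime_pow_of_mem_sylow P h hh
  have hHeq : ∀ h : H, (∃ k : ℕ, orderOf h = p ^ k) → h ∈ P := by
    haveI : Fintype H := Fintype.ofFinite H
    have hsubset : (Finset.univ.filter fun h : H => h ∈ (P : Subgroup H)) ⊆
        (Finset.univ.filter fun h : H => ∃ k : ℕ, orderOf h = p ^ k) := by
      intro h hh
      simp only [Finset.mem_filter, Finset.mem_univ, true_and] at hh ⊢
      exact hHsub h hh
    have hc1 : (Finset.univ.filter fun h : H => h ∈ (P : Subgroup H)).card = Nat.card P := by
      rw [Nat.card_eq_fintype_card, Fintype.card_subtype]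
    have hc2 : (Finset.univ.filter fun h : H => ∃ k : ℕ, orderOf h = p ^ k).card = Nat.card PG := by
      rw [← hGcount, hcount, Nat.card_eq_fintype_card, Fintype.card_subtype]
    have heq := Finset.eq_of_subset_of_card_le hsubset (by rw [hc1, hc2, hPcard])
    intro h hh
    have : h ∈ (Finset.univ.filter fun h : H => ∃ k : ℕ, orderOf h = p ^ k) := by
      simp only [Finset.mem_filter, Finset.mem_univ, true_and]; exact hh
    rw [← heq] at this
    have h2 : h ∈ (P : Subgroup H) := by simpa using this
    exact h2
  rw [← Subgroup.normalizer_eq_top_iff, eq_top_iff]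
  intro c _
  apply Sylow.smul_eq_iff_mem_normalizer.mp
  have hle : ((c • P : Sylow p H) : Subgroup H) ≤ P := by
    intro h hh
    exact hHeq h (orderOf_eq_prime_pow_of_mem_sylow (c • P) h hh)
  exact Sylow.ext ((c • P).is_maximal' P.isPGroup' hle).symm

end Cfsg.Agent.S3997
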