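import Mathlib
import Cfsg.Statements.S4002
import Cfsg.Agent.Lib.Helper7.PiHall
import Cfsg.Agent.Lib.Helper4.FrobConj
import Cfsg.Agent.Lib.Lead.HallCount
import Cfsg.Agent.S0043
import Cfsg.Agent.Lib.Helper7.SubnJoin

set_option autoImplicit false
set_option maxHeartbeats 800000
open Cfsg
open Cfsg.Agent.Lib.Helper4 Cfsg.Agent.Lib.Helper7

namespace Cfsg.Agent.S4002

universe u

/-- there is an element whose order is a product of two of the three primes -/
def Mixed (G : Type u) [Group G] (p q r : ℕ) : Prop :=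
  ∃ g : G, orderOf g = p * q ∨ orderOf g = p * r ∨ orderOf g = q * r

theorem mixed_swap12 {G : Type u} [Group G] {p q r : ℕ} (h : Mixed G p q r) : Mixed G q p r := by
  obtain ⟨g, h | h | h⟩ := h
  · exact ⟨g, Or.inl (by rw [h, mul_comm])⟩
  · exact ⟨g, Or.inr (Or.inr h)⟩
  · exact ⟨g, Or.inr (Or.inl h)⟩

theorem mixed_swap23 {G : Type u} [Group G] {p q r : ℕ} (h : Mixed G p q r) : Mixed G p r q := by
  obtain ⟨g, h | h | h⟩ := h
  · exact ⟨g, Or.inr (Or.inl h)⟩
  · exact ⟨g, Or.inl h⟩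
  · exact ⟨g, Or.inr (Or.inr (by rw [h, mul_comm]))⟩

theorem mixed_of_subgroup {G : Type u} [Group G] {p q r : ℕ} (H : Subgroup G)
    (h : Mixed ↥H p q r) : Mixed G p q r := by
  obtain ⟨g, hg⟩ := h
  refine ⟨(g : G), ?_⟩
  rw [Subgroup.orderOf_coe]
  exact hg

theorem exists_orderOf_eq_of_quotient {G : Type u} [Group G] [Finite G] (N : Subgroup G) [N.Normal]
    (x : G ⧸ N) : ∃ g : G, orderOf g = orderOf x := by
  obtain ⟨g, rfl⟩ := QuotientGroup.mk'_surjective N x
  have hd : orderOf (QuotientGroup.mk' N g) ∣ orderOf g := orderOf_map_dvd _ g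
  obtain ⟨c, hc⟩ := hd
  have hpos : 0 < orderOf g := orderOf_pos g
  have hc0 : c ≠ 0 := by
    rintro rfl
    rw [mul_zero] at hc
    omega
  refine ⟨g ^ c, ?_⟩
  rw [orderOf_pow_of_dvd hc0 (Dvd.intro_left _ hc.symm), hc]
  exact Nat.mul_div_cancel _ (Nat.pos_of_ne_zero hc0)

theorem mixed_of_quotient {G : Type u} [Group G] [Finite G] {p q r : ℕ} (N : Subgroup G) [N.Normal]
    (h : Mixed (G ⧸ N) p q r) : Mixed G p q r := by
  obtain ⟨x, hx⟩ := h
  obtain ⟨g, hg⟩ := exists_orderOf_eq_of_quotient N x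
  exact ⟨g, by rw [hg]; exact hx⟩

/-- the induction hypothesis -/
def IHyp (n : ℕ) : Prop :=
  ∀ (G' : Type u) [Group G'] [Finite G'] [Group.IsSolvable G'], Nat.card G' < n →
    ∀ p q r : ℕ, p.Prime → q.Prime → r.Prime → p ≠ q → p ≠ r → q ≠ r →
      p ∣ Nat.card G' → q ∣ Nat.card G' → r ∣ Nat.card G' → Mixed G' p q r

theorem orderOf_eq_prime_of_mem {G : Type u} [Group G] {r : ℕ} (hr : r.Prime) {v : G}
    (hv : v ^ r = 1) (hv1 : v ≠ 1) : orderOf v = r := by
  haveI : Fact r.Prime := ⟨hr⟩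
  exact orderOf_eq_prime hv hv1

theorem step {G : Type u} [Group G] [Finite G] [Group.IsSolvable G]
    (IH : IHyp.{u} (Nat.card G)) (p q r : ℕ) (hp : p.Prime) (hq : q.Prime) (hr : r.Prime)
    (hpq : p ≠ q) (hpr : p ≠ r) (hqr : q ≠ r)
    (hπ : ∀ t : ℕ, t.Prime → t ∣ Nat.card G → t = p ∨ t = q ∨ t = r)
    (hpG : p ∣ Nat.card G) (hqG : q ∣ Nat.card G)
    (M : Subgroup G) [hMn : M.Normal] (hM1 : M ≠ ⊥)
    (hMc : ∀ x ∈ M, ∀ y ∈ M, x * y = y * x) (hMe : ∀ x ∈ M, x ^ r = 1) : Mixed G p q r := by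
  classical
  haveI : Fact r.Prime := ⟨hr⟩
  have hMp : IsPGroup r M := by
    intro x
    refine ⟨1, ?_⟩
    rw [pow_one]
    exact Subtype.ext (by simpa using hMe x x.2)
  obtain ⟨k, hk⟩ := (IsPGroup.iff_card).1 hMp
  have hcardG : Nat.card G = Nat.card (G ⧸ M) * Nat.card M :=
    Subgroup.card_eq_card_quotient_mul_card_subgroup M
  have hndvd : ∀ t : ℕ, t.Prime → t ≠ r → t ∣ Nat.card G → t ∣ Nat.card (G ⧸ M) := by
    intro t ht htr htG
    rw [hcardG] at htG
    rcases (Nat.Prime.dvd_mul ht).1 htG with h | h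
    · exact h
    · exfalso
      rw [hk] at h
      exact htr ((Nat.prime_dvd_prime_iff_eq ht hr).1 (ht.dvd_of_dvd_pow h))
  have hrG : r ∣ Nat.card G := by
    rw [hcardG, hk]
    have hk0 : k ≠ 0 := by
      rintro rfl
      rw [pow_zero] at hk
      exact hM1 (Subgroup.card_eq_one.1 hk)
    exact Dvd.dvd.mul_left (dvd_pow_self r hk0) _
  by_cases hrQ : r ∣ Nat.card (G ⧸ M)
  · apply mixed_of_quotient M
    exact IH (G ⧸ M) (card_quot_lt M hM1) p q r hp hq hr hpq hpr hqr
      (hndvd p hp hpr hpG) (hndvd q hq hqr hqG) hrQ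
  · -- `M` is a normal Hall subgroup: Schur-Zassenhaus
    have hcop : (Nat.card M).Coprime M.index := by
      rw [hk, Subgroup.index_eq_card]
      exact Nat.Coprime.pow_left k ((Nat.Prime.coprime_iff_not_dvd hr).2 hrQ)
    obtain ⟨K, hc⟩ := Subgroup.exists_right_complement'_of_coprime hcop
    have hcardK : Nat.card K = Nat.card (G ⧸ M) := by
      have h1 := hc.card_mul_card
      rw [hcardG] at h1
      have hMpos : 0 < Nat.card M := Nat.card_pos
      nlinarith [Nat.eq_of_mul_eq_mul_left hMpos (by rw [h1]; ring : Nat.card M * Nat.card K = Nat.card M * Nat.card (G ⧸ M))]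
    have hpK : p ∣ Nat.card K := hcardK ▸ hndvd p hp hpr hpG
    have hqK : q ∣ Nat.card K := hcardK ▸ hndvd q hq hqr hqG
    have hKπ : ∀ t : ℕ, t.Prime → t ∣ Nat.card K → t = p ∨ t = q := by
      intro t ht htK
      have htG : t ∣ Nat.card G := htK.trans (Subgroup.card_subgroup_dvd_card K)
      rcases hπ t ht htG with h | h | h
      · exact Or.inl h
      · exact Or.inr h
      · exfalso
        rw [h, hcardK] at htK
        exact hrQ htK
    by_contra hno
    have hno' : ∀ g : G, orderOf g ≠ p * q ∧ orderOf g ≠ p * r ∧ orderOf g ≠ q * r := by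
      intro g
      refine ⟨fun h => hno ⟨g, Or.inl h⟩, fun h => hno ⟨g, Or.inr (Or.inl h)⟩,
        fun h => hno ⟨g, Or.inr (Or.inr h)⟩⟩
    -- the action of `K` on `M` is fixed point free
    have hfpf : ∀ h ∈ K, h ≠ 1 → M ⊓ Subgroup.centralizer {h} = ⊥ := by
      intro h hhK hh1
      rw [eq_bot_iff]
      intro v hv
      rw [Subgroup.mem_bot]
      by_contra hv1
      obtain ⟨hvM, hvc⟩ := Subgroup.mem_inf.1 hv
      have hcomm : h * v = v * h := by
        rw [Subgroup.mem_centralizer_iff] at hvc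
        exact hvc h (Set.mem_singleton h)
      have ho1 : orderOf h ≠ 1 := fun h0 => hh1 (orderOf_eq_one_iff.1 h0)
      obtain ⟨t, ht, htd⟩ := Nat.exists_prime_and_dvd ho1
      have htK : t ∣ Nat.card K := htd.trans (Subgroup.orderOf_dvd_natCard K hhK)
      obtain ⟨c, hc'⟩ := htd
      have hc0 : c ≠ 0 := by
        rintro rfl
        rw [mul_zero] at hc'
        have := orderOf_pos h
        omega
      have hord : orderOf (h ^ c) = t := by
        rw [orderOf_pow_of_dvd hc0 (Dvd.intro_left _ hc'.symm), hc']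
        exact Nat.mul_div_cancel _ (Nat.pos_of_ne_zero hc0)
      have hordv : orderOf v = r := orderOf_eq_prime_of_mem hr (hMe v hvM) hv1
      have hcm : Commute (h ^ c) v := (Commute.pow_left (show Commute h v from hcomm) c)
      have htr : t ≠ r := by
        rcases hKπ t ht htK with h | h
        · rw [h]; exact hpr
        · rw [h]; exact hqr
      have hmul : orderOf (h ^ c * v) = t * r := by
        have := hcm.orderOf_mul_eq_mul_orderOf_of_coprime
          (by rw [hord, hordv]; exact (Nat.coprime_primes ht hr).2 htr)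
        rw [this, hord, hordv]
      rcases hKπ t ht htK with h | h
      · rw [h] at hmul
        exact (hno' _).2.1 hmul
      · rw [h] at hmul
        exact (hno' _).2.2 hmul
    -- a minimal normal subgroup of `K`
    haveI : Nontrivial ↥K := by
      rw [← Finite.one_lt_card_iff_nontrivial]
      exact lt_of_lt_of_le hp.one_lt (Nat.le_of_dvd Nat.card_pos hpK)
    obtain ⟨-, -, M₁, hM₁n, hM₁ne, -, hM₁min⟩ :=
      Cfsg.Agent.Lib.Lead.HallCount.exists_min_normal_pgroup ↥K
    haveI := hM₁n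
    obtain ⟨hM₁c, s, hs, hM₁e⟩ := Cfsg.Agent.S0043.result M₁ hM₁ne hM₁min
    have fin : ∀ s t : ℕ, s.Prime → t.Prime → t ≠ s → (∀ x ∈ M₁, x ^ s = 1) → t ∣ Nat.card K →
        (∀ g : G, orderOf g ≠ t * s) → False := by
      intro s t hs ht hts hM₁e htK hnots
      haveI : Fact t.Prime := ⟨ht⟩
      set Z : Subgroup G := M₁.map K.subtype with hZ
      have hZK : Z ≤ K := by
        rw [hZ]
        rintro _ ⟨x, -, rfl⟩
        exact x.2
      have hab : Z ≤ Subgroup.centralizer (Z : Set G) := by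
        rw [hZ]
        rintro _ ⟨x, hx, rfl⟩
        rw [Subgroup.mem_centralizer_iff]
        rintro _ ⟨y, hy, rfl⟩
        have := hM₁c.is_comm.comm (⟨y, hy⟩ : M₁) ⟨x, hx⟩
        have h2 := congrArg (fun z : M₁ => ((z : ↥K) : G)) this
        simpa using h2
      have hcyc : IsCyclic Z := frobcomp_abelian_cyclic M K hc hM1 hfpf Z hZK hab
      -- a nonidentity element of `Z`
      obtain ⟨x, hx1⟩ : ∃ x : M₁, x ≠ 1 := by
        haveI : Nontrivial M₁ := (Subgroup.nontrivial_iff_ne_bot _).2 hM₁ne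
        exact exists_ne 1
      obtain ⟨z, hz⟩ : ∃ z : G, z = ((x : ↥K) : G) := ⟨_, rfl⟩
      have hzZ : z ∈ Z := ⟨(x : ↥K), x.2, hz.symm⟩
      have hz1 : z ≠ 1 := by
        intro h
        apply hx1
        apply Subtype.ext
        apply Subtype.ext
        rw [← hz, h]
        rfl
      have hpowZ : ∀ w ∈ Z, w ^ s = 1 := by
        rintro _ ⟨y, hy, rfl⟩
        have h2 := congrArg (fun y : ↥K => (y : G)) (hM₁e y hy)
        simpa using h2
      have hzord : orderOf z = s := orderOf_eq_prime_of_mem hs (hpowZ z hzZ) hz1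
      have hcardZ : Nat.card Z = s := by
        obtain ⟨g, hg⟩ := IsCyclic.exists_generator (α := Z)
        have hgo : orderOf g = Nat.card Z := orderOf_eq_card_of_forall_mem_zpowers hg
        have hgs : g ^ s = 1 := by
          apply Subtype.ext
          rw [Subgroup.coe_pow]
          exact hpowZ g g.2
        have hd : Nat.card Z ∣ s := hgo ▸ orderOf_dvd_of_pow_eq_one hgs
        rcases (Nat.dvd_prime hs).1 hd with h | h
        · exfalso
          have : Z = ⊥ := Subgroup.card_eq_one.1 h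
          rw [this, Subgroup.mem_bot] at hzZ
          exact hz1 hzZ
        · exact h
      obtain ⟨y₀, hy₀⟩ := exists_prime_orderOf_dvd_card' (G := ↥K) t htK
      obtain ⟨y, hy⟩ : ∃ y : G, y = (y₀ : G) := ⟨_, rfl⟩
      have hyK : y ∈ K := hy ▸ y₀.2
      have hyord : orderOf y = t := by rw [hy, Subgroup.orderOf_coe]; exact hy₀
      have hnorm : y ∈ Subgroup.normalizer (Z : Set G) := by
        apply Cfsg.Agent.Lib.Helper7.SubnJoin.mem_normalizer_of_forall
        rintro _ ⟨w, hw, rfl⟩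
        refine ⟨y₀ * w * y₀⁻¹, hM₁n.conj_mem w hw y₀, ?_⟩
        rw [hy]
        simp
      have hcent := frobcomp_pq_centralizes M K hc hM1 hfpf ht hs hts Z y hZK hyK hcardZ hyord hnorm
      have hcm : Commute y z := hcent z hzZ
      have hmul : orderOf (y * z) = t * s := by
        have := hcm.orderOf_mul_eq_mul_orderOf_of_coprime
          (by rw [hyord, hzord]; exact (Nat.coprime_primes ht hs).2 hts)
        rw [this, hyord, hzord]
      exact hnots _ hmul
    -- which prime is `s`?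
    have hsK : s ∣ Nat.card K := by
      obtain ⟨x, hx1⟩ : ∃ x : M₁, x ≠ 1 := by
        haveI : Nontrivial M₁ := (Subgroup.nontrivial_iff_ne_bot _).2 hM₁ne
        exact exists_ne 1
      have hx1' : (x : ↥K) ≠ 1 := fun h => hx1 (Subtype.ext h)
      have := orderOf_eq_prime_of_mem hs (hM₁e (x : ↥K) x.2) hx1'
      rw [← this]
      exact orderOf_dvd_natCard _
    rcases hKπ s hs hsK with h | h
    · subst h
      exact fin s q hs hq (Ne.symm hpq) hM₁e hqK (fun g hg => (hno' g).1 (by rw [hg, mul_comm]))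
    · subst h
      exact fin s p hs hp hpq hM₁e hpK (fun g hg => (hno' g).1 hg)

theorem three_primes : ∀ n : ℕ, IHyp.{u} n := by
  intro n
  induction n using Nat.strong_induction_on with
  | _ n ih =>
  intro G _ _ _ hlt p q r hp hq hr hpq hpr hqr hpG hqG hrG
  have IH : IHyp.{u} (Nat.card G) := by
    intro G' _ _ _ hlt' p' q' r' hp' hq' hr' hpq' hpr' hqr' hpG' hqG' hrG'
    exact ih (Nat.card G) hlt G' hlt' p' q' r' hp' hq' hr' hpq' hpr' hqr' hpG' hqG' hrG'
  classical
  -- reduce to a `{p, q, r}`-group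
  haveI : Group.IsSolvable ↥(⊤ : Subgroup G) := inferInstance
  obtain ⟨⟨H, hH1, hH2, hH3⟩, -, -⟩ := hallSub (⊤ : Subgroup G) ({p, q, r} : Set ℕ)
  rw [Subgroup.relIndex_top_right] at hH3
  have hHdvd : ∀ t : ℕ, t.Prime → t ∈ ({p, q, r} : Set ℕ) → t ∣ Nat.card G → t ∣ Nat.card H := by
    intro t ht htπ htG
    rw [← Subgroup.card_mul_index H] at htG
    rcases (Nat.Prime.dvd_mul ht).1 htG with h | h
    · exact h
    · exact absurd h (hH3 t ht htπ)
  by_cases hHt : H = ⊤
  · have hπ : ∀ t : ℕ, t.Prime → t ∣ Nat.card G → t = p ∨ t = q ∨ t = r := by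
      intro t ht htG
      have h1 : t ∣ Nat.card H := by rw [hHt, Subgroup.card_top]; exact htG
      have := hH2 t ht h1
      simpa using this
    haveI : Nontrivial G := by
      rw [← Finite.one_lt_card_iff_nontrivial]
      exact lt_of_lt_of_le hp.one_lt (Nat.le_of_dvd Nat.card_pos hpG)
    obtain ⟨-, -, M, hMn, hMne, -, hMmin⟩ :=
      Cfsg.Agent.Lib.Lead.HallCount.exists_min_normal_pgroup G
    haveI := hMn
    obtain ⟨hMc, s, hs, hMe⟩ := Cfsg.Agent.S0043.result M hMne hMmin
    have hMc' : ∀ x ∈ M, ∀ y ∈ M, x * y = y * x := by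
      intro x hx y hy
      have := hMc.is_comm.comm (⟨x, hx⟩ : M) ⟨y, hy⟩
      exact congrArg Subtype.val this
    have hsG : s ∣ Nat.card G := by
      obtain ⟨x, hx1⟩ : ∃ x : M, x ≠ 1 := by
        haveI : Nontrivial M := (Subgroup.nontrivial_iff_ne_bot _).2 hMne
        exact exists_ne 1
      have hx1' : (x : G) ≠ 1 := fun h => hx1 (Subtype.ext h)
      have := orderOf_eq_prime_of_mem hs (hMe (x : G) x.2) hx1'
      rw [← this]
      exact orderOf_dvd_natCard _
    rcases hπ s hs hsG with h | h | h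
    · subst h
      -- `s = p`: use the triple `(q, r, p)`
      have := step IH q r s hq hr hs hqr (Ne.symm hpq) (Ne.symm hpr)
        (fun t ht htG => by
          rcases hπ t ht htG with h | h | h
          · exact Or.inr (Or.inr h)
          · exact Or.inl h
          · exact Or.inr (Or.inl h)) hqG hrG M hMne hMc' hMe
      -- Mixed G q r p → Mixed G p q r
      exact mixed_swap12 (mixed_swap23 this)
    · subst h
      -- `s = q`: use the triple `(p, r, q)`
      have := step IH p r s hp hr hs hpr hpq (Ne.symm hqr)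
        (fun t ht htG => by
          rcases hπ t ht htG with h | h | h
          · exact Or.inl h
          · exact Or.inr (Or.inr h)
          · exact Or.inr (Or.inl h)) hpG hrG M hMne hMc' hMe
      exact mixed_swap23 this
    · subst h
      exact step IH p q s hp hq hs hpq hpr hqr hπ hpG hqG M hMne hMc' hMe
  · have hcardlt : Nat.card H < Nat.card G := card_lt_of_ne_top H hHt
    apply mixed_of_subgroup H
    exact ih (Nat.card G) hlt ↥H hcardlt p q r hp hq hr hpq hpr hqr
      (hHdvd p hp (by simp) hpG) (hHdvd q hq (by simp) hqG) (hHdvd r hr (by simp) hrG)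

theorem exists_three_primes (n : ℕ) (hn : 7 ≤ n) :
    ∃ p q r : ℕ, p.Prime ∧ q.Prime ∧ r.Prime ∧ p < q ∧ q < r ∧ r ≤ n ∧ n < p * q := by
  by_cases h1 : n ≤ 14
  · exact ⟨3, 5, 7, by norm_num, by norm_num, by norm_num, by norm_num, by norm_num, hn, by omega⟩
  by_cases h2 : n ≤ 34
  · exact ⟨5, 7, 11, by norm_num, by norm_num, by norm_num, by norm_num, by norm_num, by omega,
      by omega⟩
  -- Bertrand's postulate
  obtain ⟨m, hm⟩ : ∃ m : ℕ, m = n / 8 := ⟨_, rfl⟩
  have hm4 : 4 ≤ m := by omega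
  have hn8 : n < 8 * m + 8 := by omega
  have hm8 : 8 * m ≤ n := by omega
  obtain ⟨p₁, hp₁, h1a, h1b⟩ := Nat.exists_prime_lt_and_le_two_mul m (by omega)
  obtain ⟨p₂, hp₂, h2a, h2b⟩ := Nat.exists_prime_lt_and_le_two_mul (2 * m) (by omega)
  obtain ⟨p₃, hp₃, h3a, h3b⟩ := Nat.exists_prime_lt_and_le_two_mul (4 * m) (by omega)
  refine ⟨p₁, p₂, p₃, hp₁, hp₂, hp₃, by omega, by omega, by omega, ?_⟩
  calc n < 8 * m + 8 := hn8
    _ ≤ (m + 1) * (2 * m + 1) := by nlinarith
    _ ≤ p₁ * p₂ := Nat.mul_le_mul (by omega) (by omega)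

/-- If the set of element orders of a finite group G is {1, 2, …, n} with n ≥ 7, then G is not solvable. -/
theorem result {G : Type*} [Group G] [Finite G] (n : ℕ) (hn : 7 ≤ n) (h : Set.range (orderOf : G → ℕ) = {k : ℕ | 1 ≤ k ∧ k ≤ n}) : ¬ Group.IsSolvable G := by
  intro hsolv
  obtain ⟨p, q, r, hp, hq, hr, hpq, hqr, hrn, hnpq⟩ := exists_three_primes n hn
  have hdvd : ∀ t : ℕ, 1 ≤ t → t ≤ n → t ∣ Nat.card G := by
    intro t ht1 htn
    have : t ∈ Set.range (orderOf : G → ℕ) := by rw [h]; exact ⟨ht1, htn⟩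
    obtain ⟨g, rfl⟩ := this
    exact orderOf_dvd_natCard g
  have hno : ∀ g : G, orderOf g ≤ n := by
    intro g
    have : orderOf g ∈ Set.range (orderOf : G → ℕ) := ⟨g, rfl⟩
    rw [h] at this
    exact this.2
  obtain ⟨g, hg⟩ := three_primes (Nat.card G + 1) G (Nat.lt_succ_self _) p q r hp hq hr
    (by omega) (by omega) (by omega)
    (hdvd p hp.one_lt.le (by omega)) (hdvd q hq.one_lt.le (by omega)) (hdvd r hr.one_lt.le hrn)
  have hle := hno g
  have h1 : p * q ≤ p * r := Nat.mul_le_mul_left p (by omega)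
  have h2 : p * q ≤ q * r := by
    calc p * q = q * p := mul_comm p q
      _ ≤ q * r := Nat.mul_le_mul_left q (by omega)
  rcases hg with hg | hg | hg <;> omega

end Cfsg.Agent.S4002
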