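import Mathlib
import Cfsg.Statements.S4005
import Cfsg.Agent.S0144
import Cfsg.Agent.S0044
import Cfsg.Agent.S0041
import Cfsg.Agent.Lib.Helper1.Fitting2

set_option autoImplicit false
open Cfsg

namespace Cfsg.Agent.S4005

variable {G : Type*} [Group G] [Finite G]

lemma no_six (hord : ∀ g : G, orderOf g ≤ 3) (t n : G) (ht : orderOf t = 2) (hn : orderOf n = 3)
    (hc : Commute t n) : False := by
  have h1 := hc.orderOf_mul_eq_mul_orderOf_of_coprime (by rw [ht, hn]; norm_num)
  have h6 := hord (t * n)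
  rw [h1, ht, hn] at h6
  omega

lemma sq_of_two_group (hord : ∀ g : G, orderOf g ≤ 3) (Q : Subgroup G) (hQ : IsPGroup 2 Q) :
    ∀ g ∈ Q, g ^ 2 = 1 := by
  intro g hg
  obtain ⟨k, hk⟩ := hQ ⟨g, hg⟩
  have hk' : g ^ (2 ^ k) = 1 := by
    have := congrArg Subtype.val hk
    simpa using this
  have hdvd : orderOf g ∣ 2 ^ k := orderOf_dvd_of_pow_eq_one hk'
  obtain ⟨j, hj, hjo⟩ := (Nat.dvd_prime_pow Nat.prime_two).1 hdvd
  have hle := hord g
  rw [hjo] at hle
  have hj1 : j ≤ 1 := by
    by_contra hcon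
    have : 2 ^ 2 ≤ 2 ^ j := Nat.pow_le_pow_right (by norm_num) (by omega)
    omega
  have : orderOf g ∣ 2 := by
    rw [hjo]
    calc 2 ^ j ∣ 2 ^ 1 := Nat.pow_dvd_pow 2 hj1
      _ = 2 := by norm_num
  exact orderOf_dvd_iff_pow_eq_one.1 this

lemma cube_of_three_group (hord : ∀ g : G, orderOf g ≤ 3) (Q : Subgroup G) (hQ : IsPGroup 3 Q) :
    ∀ g ∈ Q, g ^ 3 = 1 := by
  intro g hg
  obtain ⟨k, hk⟩ := hQ ⟨g, hg⟩
  have hk' : g ^ (3 ^ k) = 1 := by
    have := congrArg Subtype.val hk
    simpa using this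
  have hdvd : orderOf g ∣ 3 ^ k := orderOf_dvd_of_pow_eq_one hk'
  obtain ⟨j, hj, hjo⟩ := (Nat.dvd_prime_pow Nat.prime_three).1 hdvd
  have hle := hord g
  rw [hjo] at hle
  have hj1 : j ≤ 1 := by
    by_contra hcon
    have : 3 ^ 2 ≤ 3 ^ j := Nat.pow_le_pow_right (by norm_num) (by omega)
    omega
  have : orderOf g ∣ 3 := by
    rw [hjo]
    calc 3 ^ j ∣ 3 ^ 1 := Nat.pow_dvd_pow 3 hj1
      _ = 3 := by norm_num
  exact orderOf_dvd_iff_pow_eq_one.1 this

lemma comm_of_exp_two (Q : Subgroup G) (h : ∀ g ∈ Q, g ^ 2 = 1) :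
    ∀ a ∈ Q, ∀ b ∈ Q, a * b = b * a := by
  intro a ha b hb
  have h1 := h (a * b) (Q.mul_mem ha hb)
  have h2 := h a ha
  have h3 := h b hb
  rw [pow_two] at h1 h2 h3
  have ha' : a⁻¹ = a := inv_eq_of_mul_eq_one_right h2
  have hb' : b⁻¹ = b := inv_eq_of_mul_eq_one_right h3
  have : a * b = (a * b)⁻¹ := (inv_eq_of_mul_eq_one_right h1).symm
  rw [this, mul_inv_rev, ha', hb']

lemma orderOf_two_of_sq (g : G) (h : g ^ 2 = 1) (h1 : g ≠ 1) : orderOf g = 2 :=
  orderOf_eq_prime h h1

lemma orderOf_three_of_cube (g : G) (h : g ^ 3 = 1) (h1 : g ≠ 1) : orderOf g = 3 :=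
  haveI : Fact (Nat.Prime 3) := ⟨Nat.prime_three⟩
  orderOf_eq_prime h h1

/-- an involution inverts every normal 3-subgroup -/
lemma invol_inverts (hord : ∀ g : G, orderOf g ≤ 3) (N : Subgroup G) [hNn : N.Normal]
    (hN : IsPGroup 3 N) (t : G) (ht : orderOf t = 2) : ∀ n ∈ N, t * n * t⁻¹ = n⁻¹ := by
  have ht2 : t * t = 1 := by rw [← pow_two, ← ht]; exact pow_orderOf_eq_one t
  have htinv : t⁻¹ = t := inv_eq_of_mul_eq_one_right ht2
  let φ : ↥N →* ↥N := (MulAut.conjNormal t : MulAut ↥N).toMonoidHom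
  have hφ : ∀ n : ↥N, ((φ n : ↥N) : G) = t * n.1 * t⁻¹ := fun n => by
    simp [φ, MulAut.conjNormal_apply]
  have hfpf : MonoidHom.FixedPointFree φ := by
    intro n hn
    by_contra hne
    have h1 : t * n.1 * t⁻¹ = n.1 := by rw [← hφ n, hn]
    have hc : Commute t n.1 := by
      have : t * n.1 = n.1 * t := by
        calc t * n.1 = (t * n.1 * t⁻¹) * t := by group
          _ = n.1 * t := by rw [h1]
      exact this
    have hn3 : orderOf n.1 = 3 :=
      orderOf_three_of_cube n.1 (cube_of_three_group hord N hN n.1 n.2)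
        (fun h => hne (Subtype.ext h))
    exact no_six hord t n.1 ht hn3 hc
  have hinv : Function.Involutive φ := by
    intro n
    apply Subtype.ext
    rw [hφ, hφ, htinv]
    calc t * (t * n.1 * t) * t = (t * t) * n.1 * (t * t) := by group
      _ = n.1 := by rw [ht2, one_mul, mul_one]
  have := hfpf.coe_eq_inv_of_involutive hinv
  intro n hn
  have h2 := congrFun this ⟨n, hn⟩
  have h3 := congrArg Subtype.val h2
  rw [hφ] at h3
  simpa using h3

lemma sylow_index_pow (p q : ℕ) [hp : Fact p.Prime] (hq : q.Prime)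
    (hprimes : ∀ r : ℕ, r.Prime → r ∣ Nat.card G → r = p ∨ r = q) (S : Sylow p G) :
    ∃ k, (S : Subgroup G).index = q ^ k := by
  refine ⟨(S : Subgroup G).index.primeFactorsList.length, ?_⟩
  apply Nat.eq_prime_pow_of_unique_prime_dvd
  · exact Subgroup.index_ne_zero_of_finite
  · intro d hd hdvd
    rcases hprimes d hd (hdvd.trans (Subgroup.index_dvd_card _)) with h | h
    · exfalso
      rw [h] at hdvd
      exact S.not_dvd_index hdvd
    · exact h

/-- A finite group whose set of element orders is exactly {1, 2, 3} has either a normal elementary abelian 3-subgroup of index 2 or a normal elementary abelian 2-subgroup of index 3. -/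
theorem result {G : Type*} [Group G] [Finite G] (h : Set.range (orderOf : G → ℕ) = {k : ℕ | 1 ≤ k ∧ k ≤ 3}) :
    (∃ N : Subgroup G, N.Normal ∧ Cfsg.IsElementaryAbelian 3 N ∧ N.index = 2) ∨
      (∃ N : Subgroup G, N.Normal ∧ Cfsg.IsElementaryAbelian 2 N ∧ N.index = 3) := by
  classical
  haveI hp2 : Fact (Nat.Prime 2) := ⟨Nat.prime_two⟩
  haveI hp3 : Fact (Nat.Prime 3) := ⟨Nat.prime_three⟩
  have hord : ∀ g : G, orderOf g ≤ 3 := by
    intro g
    have : orderOf g ∈ Set.range (orderOf : G → ℕ) := ⟨g, rfl⟩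
    rw [h] at this; exact this.2
  obtain ⟨t, ht⟩ : ∃ t : G, orderOf t = 2 := by
    have : (2 : ℕ) ∈ {k : ℕ | 1 ≤ k ∧ k ≤ 3} := ⟨by norm_num, by norm_num⟩
    rw [← h] at this; exact this
  obtain ⟨x, hx⟩ : ∃ x : G, orderOf x = 3 := by
    have : (3 : ℕ) ∈ {k : ℕ | 1 ≤ k ∧ k ≤ 3} := ⟨by norm_num, by norm_num⟩
    rw [← h] at this; exact this
  have hprimes : ∀ r : ℕ, r.Prime → r ∣ Nat.card G → r = 2 ∨ r = 3 := by
    intro r hr hdvd
    haveI := Fact.mk hr
    obtain ⟨g, hg⟩ := exists_prime_orderOf_dvd_card' r hdvd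
    have h3 := hord g
    rw [hg] at h3
    have h2 := hr.two_le
    interval_cases r
    · left; rfl
    · right; rfl
  have hprimes' : ∀ r : ℕ, r.Prime → r ∣ Nat.card G → r = 3 ∨ r = 2 :=
    fun r hr hd => (hprimes r hr hd).symm
  obtain ⟨T⟩ : Nonempty (Sylow 2 G) := inferInstance
  obtain ⟨P⟩ : Nonempty (Sylow 3 G) := inferInstance
  obtain ⟨a, ha⟩ := IsPGroup.iff_card.1 T.isPGroup'
  obtain ⟨b, hb⟩ := sylow_index_pow 2 3 Nat.prime_three hprimes T
  obtain ⟨c, hc⟩ := IsPGroup.iff_card.1 P.isPGroup'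
  obtain ⟨d, hd⟩ := sylow_index_pow 3 2 Nat.prime_two hprimes' P
  have hcardG : Nat.card G = 2 ^ a * 3 ^ b := by
    rw [← Subgroup.card_mul_index (T : Subgroup G), ha, hb]
  have hcardG' : Nat.card G = 3 ^ c * 2 ^ d := by
    rw [← Subgroup.card_mul_index (P : Subgroup G), hc, hd]
  have had : a = d := by
    have hcop : ∀ m n : ℕ, Nat.Coprime (2 ^ m) (3 ^ n) := fun m n =>
      Nat.Coprime.pow m n (by norm_num)
    have h1 : 2 ^ a ∣ 3 ^ c * 2 ^ d := by rw [← hcardG', hcardG]; exact dvd_mul_right _ _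
    have h2 : 2 ^ a ∣ 2 ^ d := (hcop a c).dvd_of_dvd_mul_left h1
    have h3 : 2 ^ d ∣ 2 ^ a * 3 ^ b := by rw [← hcardG, hcardG']; exact dvd_mul_left _ _
    have h4 : 2 ^ d ∣ 2 ^ a := (hcop d b).dvd_of_dvd_mul_right h3
    have h5 := (Nat.pow_dvd_pow_iff_le_right (by norm_num : 1 < 2)).1 h2
    have h6 := (Nat.pow_dvd_pow_iff_le_right (by norm_num : 1 < 2)).1 h4
    omega
  haveI hsolv : Group.IsSolvable G :=
    Cfsg.Agent.S0144.result 2 3 a b Nat.prime_two Nat.prime_three hcardG
  have hT2 := sq_of_two_group hord (T : Subgroup G) T.isPGroup'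
  have hTcomm := comm_of_exp_two (T : Subgroup G) hT2
  have ht2 : t ^ 2 = 1 := by rw [← ht]; exact pow_orderOf_eq_one t
  have ht1 : t ≠ 1 := by
    intro h1; rw [h1, orderOf_one] at ht; omega
  have hx1 : x ≠ 1 := by
    intro h1; rw [h1, orderOf_one] at hx; omega
  have h2G : 2 ∣ Nat.card G := ht ▸ orderOf_dvd_natCard t
  have h3G : 3 ∣ Nat.card G := hx ▸ orderOf_dvd_natCard x
  have ha1 : 1 ≤ a := by
    by_contra hcon
    have ha0 : a = 0 := by omega
    rw [hcardG, ha0, pow_zero, one_mul] at h2G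
    have := Nat.Prime.dvd_of_dvd_pow Nat.prime_two h2G
    omega
  have hb1 : 1 ≤ b := by
    by_contra hcon
    have hb0 : b = 0 := by omega
    rw [hcardG, hb0, pow_zero, mul_one] at h3G
    have := Nat.Prime.dvd_of_dvd_pow Nat.prime_three h3G
    omega
  by_cases hO3 : Cfsg.pCore 3 G = ⊥
  · -- Case B
    right
    obtain ⟨F, hFdef⟩ : ∃ F : Subgroup G, F = Cfsg.fittingSubgroup G := ⟨_, rfl⟩
    have hCF : Subgroup.centralizer (F : Set G) ≤ F := by
      rw [hFdef]; exact Cfsg.Agent.S0044.result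
    haveI hFn : F.Normal := by
      rw [hFdef, Cfsg.Agent.Lib.Helper1.fitting_eq_pCoreSup]
      exact Cfsg.Agent.Lib.Helper1.pCoreSup_normal
    have hFle : F ≤ Cfsg.pPrimeCore 3 G := by
      rw [hFdef, Cfsg.Agent.Lib.Helper1.fitting_eq_pCoreSup]
      have := Cfsg.Agent.Lib.Helper1.pCoreSup_le_sup (G := G) 3
      rwa [hO3, bot_sup_eq] at this
    have hFcop : (Nat.card F).Coprime 3 :=
      Nat.Coprime.coprime_dvd_left (Subgroup.card_dvd_of_le hFle)
        (Cfsg.Agent.Lib.Helper1.pPrimeCore_coprime 3)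
    have hF2 : ∀ g ∈ F, g ^ 2 = 1 := by
      intro g hg
      have hdvd : orderOf g ∣ Nat.card F := by
        have := orderOf_dvd_natCard (⟨g, hg⟩ : ↥F)
        rwa [← Subgroup.orderOf_coe] at this
      have h3 := hord g
      have hpos := orderOf_pos g
      have hne3 : orderOf g ≠ 3 := by
        intro h3'
        rw [h3'] at hdvd
        have := Nat.Coprime.eq_one_of_dvd hFcop.symm hdvd
        omega
      have : orderOf g ∣ 2 := by
        interval_cases (orderOf g)
        · exact one_dvd _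
        · exact dvd_rfl
        · exact absurd rfl hne3
      exact orderOf_dvd_iff_pow_eq_one.1 this
    have hFp : IsPGroup 2 F := by
      intro g
      refine ⟨1, ?_⟩
      apply Subtype.ext
      have := hF2 g.1 g.2
      simpa using this
    have hFT : F ≤ (T : Subgroup G) := hFp.le_sylow_of_normal T
    have hTc : (T : Subgroup G) ≤ Subgroup.centralizer (F : Set G) := by
      intro g hg
      rw [Subgroup.mem_centralizer_iff]
      intro f hf
      exact hTcomm f (hFT hf) g hg
    have hTF : (T : Subgroup G) = F := le_antisymm (hTc.trans hCF) hFT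
    have hF1 : F ≠ ⊥ := by
      intro hbot
      have : t ∈ Subgroup.centralizer (F : Set G) := by
        rw [hbot]
        rw [Subgroup.mem_centralizer_iff]
        intro f hf
        have : f = 1 := by simpa using hf
        rw [this, one_mul, mul_one]
      have := hCF this
      rw [hbot, Subgroup.mem_bot] at this
      exact ht1 this
    have hFcomm : ∀ a ∈ F, ∀ b ∈ F, a * b = b * a := comm_of_exp_two F hF2
    haveI hFmc : IsMulCommutative ↥F := ⟨⟨fun a b => Subtype.ext (hFcomm a.1 a.2 b.1 b.2)⟩⟩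
    refine ⟨F, hFn, ⟨hFmc, hF2⟩, ?_⟩
    rw [← hTF, hb]
    -- b = 1
    have hb2 : b ≤ 1 := by
      by_contra hcon
      have h9 : 3 ^ 2 ∣ Nat.card G := by
        rw [hcardG]
        exact Dvd.dvd.mul_left (Nat.pow_dvd_pow 3 (by omega)) _
      obtain ⟨E, hE⟩ := Sylow.exists_subgroup_card_pow_prime 3 h9
      have hEp : IsPGroup 3 E := IsPGroup.of_card hE
      haveI hEc : IsMulCommutative ↥E := IsPGroup.isMulCommutative_of_card_eq_prime_sq hE
      have hE3 := cube_of_three_group hord E hEp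
      have hcyc : IsCyclic ↥E := by
        apply Cfsg.Agent.S0041.result E F hF1
        · rw [Subgroup.normalizer_eq_top]; exact le_top
        · intro e he he1
          rw [eq_bot_iff]
          intro n hn
          obtain ⟨hnF, hnC⟩ := Subgroup.mem_inf.1 hn
          rw [Subgroup.mem_bot]
          by_contra hn1
          have ho2 := orderOf_two_of_sq n (hF2 n hnF) hn1
          have ho3 := orderOf_three_of_cube e (hE3 e he) he1
          rw [Subgroup.mem_centralizer_singleton_iff] at hnC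
          exact no_six hord n e ho2 ho3 hnC
        · exact Or.inl hEc
      obtain ⟨g, hg⟩ := hcyc.exists_generator
      have hog : orderOf g = Nat.card E := orderOf_eq_card_of_forall_mem_zpowers hg
      rw [hE, ← Subgroup.orderOf_coe] at hog
      have := hord g.1
      rw [hog] at this
      omega
    have : b = 1 := le_antisymm hb2 hb1
    rw [this, pow_one]
  · -- Case A
    left
    haveI hNn : (Cfsg.pCore 3 G).Normal := Cfsg.pCore_normal _ G
    have hNp : IsPGroup 3 (Cfsg.pCore 3 G) := Cfsg.Agent.Lib.Helper1.pCore_isPGroup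
    have hinvN := invol_inverts hord (Cfsg.pCore 3 G) hNp
    have hN3 := cube_of_three_group hord (Cfsg.pCore 3 G) hNp
    -- T has at most one nonidentity element
    have huniq : ∀ s ∈ (T : Subgroup G), ∀ u ∈ (T : Subgroup G), s ≠ 1 → u ≠ 1 → s = u := by
      intro s hs u hu hs1 hu1
      by_contra hsu
      have hsu1 : s * u ≠ 1 := by
        intro h1
        apply hsu
        have hu2 := hT2 u hu
        rw [pow_two] at hu2
        have : u⁻¹ = u := inv_eq_of_mul_eq_one_right hu2
        rw [← this]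
        exact eq_inv_of_mul_eq_one_left h1
      have hos := orderOf_two_of_sq s (hT2 s hs) hs1
      have hou := orderOf_two_of_sq u (hT2 u hu) hu1
      have hosu := orderOf_two_of_sq (s * u) (hT2 _ (Subgroup.mul_mem _ hs hu)) hsu1
      apply hO3
      rw [eq_bot_iff]
      intro n hn
      rw [Subgroup.mem_bot]
      have h1 := hinvN (s * u) hosu n hn
      have h2 := hinvN u hou n hn
      have h3 := hinvN s hos n⁻¹ (Subgroup.inv_mem _ hn)
      have h4 : s * u * n * (s * u)⁻¹ = s * (u * n * u⁻¹) * s⁻¹ := by group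
      rw [h4, h2, h3, inv_inv] at h1
      -- n = n⁻¹
      have hn2 : n * n = 1 := by
        nth_rewrite 1 [h1]
        exact inv_mul_cancel n
      have hn3 := hN3 n hn
      calc n = n ^ 3 * (n * n)⁻¹ := by group
        _ = 1 := by rw [hn3, hn2, inv_one, one_mul]
    have hTcard : Nat.card (T : Subgroup G) ≤ 2 := by
      have h0 : Nat.card ↥(T : Subgroup G) = ((T : Subgroup G) : Set G).ncard :=
        Nat.card_coe_set_eq ((T : Subgroup G) : Set G)
      rw [h0]
      by_cases hex : ∃ s ∈ (T : Subgroup G), s ≠ 1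
      · obtain ⟨s, hs, hs1⟩ := hex
        have hsub : ((T : Subgroup G) : Set G) ⊆ {1, s} := by
          intro u hu
          by_cases hu1 : u = 1
          · left; exact hu1
          · right
            exact (huniq s hs u hu hs1 hu1).symm
        calc ((T : Subgroup G) : Set G).ncard ≤ ({1, s} : Set G).ncard :=
              Set.ncard_le_ncard hsub (Set.toFinite _)
          _ ≤ ({s} : Set G).ncard + 1 := Set.ncard_insert_le 1 {s}
          _ = 2 := by rw [Set.ncard_singleton]
      · push Not at hex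
        have hsub : ((T : Subgroup G) : Set G) ⊆ {1} := by
          intro u hu
          exact hex u hu
        calc ((T : Subgroup G) : Set G).ncard ≤ ({1} : Set G).ncard :=
              Set.ncard_le_ncard hsub (Set.toFinite _)
          _ = 1 := Set.ncard_singleton 1
          _ ≤ 2 := by norm_num
    have ha1' : a = 1 := by
      rw [ha] at hTcard
      by_contra hcon
      have : 2 ^ 2 ≤ 2 ^ a := Nat.pow_le_pow_right (by norm_num) (by omega)
      omega
    have hPidx : (P : Subgroup G).index = 2 := by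
      rw [hd, ← had, ha1', pow_one]
    haveI hPn : (P : Subgroup G).Normal := Subgroup.normal_of_index_eq_two hPidx
    have hP3 := cube_of_three_group hord (P : Subgroup G) P.isPGroup'
    have hinvP := invol_inverts hord (P : Subgroup G) P.isPGroup' t ht
    have hPcomm : ∀ u ∈ (P : Subgroup G), ∀ v ∈ (P : Subgroup G), u * v = v * u := by
      intro u hu v hv
      have h1 := hinvP (u * v) (Subgroup.mul_mem _ hu hv)
      have h2 := hinvP u hu
      have h3 := hinvP v hv
      have h4 : t * (u * v) * t⁻¹ = (t * u * t⁻¹) * (t * v * t⁻¹) := by group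
      rw [h4, h2, h3, mul_inv_rev] at h1
      have h5 : (u⁻¹ * v⁻¹)⁻¹ = (v⁻¹ * u⁻¹)⁻¹ := by rw [h1]
      simpa using h5.symm
    refine ⟨(P : Subgroup G), hPn, ⟨⟨⟨fun u v => Subtype.ext (hPcomm u.1 u.2 v.1 v.2)⟩⟩, hP3⟩, hPidx⟩

end Cfsg.Agent.S4005
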