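import Cfsg.Statements.S4013
import Mathlib

set_option autoImplicit false
open Cfsg

namespace Cfsg.Agent.S4013

theorem arith (p : ℕ) (hp : p.Prime) (k a b : ℕ) (hb : 0 < b) (h : p ^ k = p ^ a * (p ^ b - 1)) :
    p = 2 ∧ p ^ b = 2 := by
  have hp2 := hp.two_le
  have hpb : 2 ≤ p ^ b := by
    calc 2 ≤ p := hp2
      _ = p ^ 1 := (pow_one p).symm
      _ ≤ p ^ b := Nat.pow_le_pow_right hp.pos hb
  -- p^b - 1 divides p^k, so it's a power of p; coprime to p, so it's 1
  have hdvd : (p ^ b - 1) ∣ p ^ k := ⟨p ^ a, by rw [h, mul_comm]⟩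
  obtain ⟨j, hj, hje⟩ := (Nat.dvd_prime_pow hp).1 hdvd
  have hj0 : j = 0 := by
    by_contra hne
    have hpd : p ∣ p ^ b - 1 := by rw [hje]; exact dvd_pow_self p hne
    have hpd2 : p ∣ p ^ b := dvd_pow_self p (by omega)
    have : p ∣ 1 := by
      have := Nat.dvd_sub hpd2 hpd
      have h1 : p ^ b - (p ^ b - 1) = 1 := by omega
      rwa [h1] at this
    have := Nat.le_of_dvd one_pos this
    omega
  rw [hj0, pow_zero] at hje
  have hpb2 : p ^ b = 2 := by omega
  refine ⟨?_, hpb2⟩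
  have : p ∣ 2 := by rw [← hpb2]; exact dvd_pow_self p (by omega)
  have := Nat.le_of_dvd two_pos this
  omega

theorem result {G : Type*} [Group G] [Finite G] (p : ℕ) [Fact p.Prime] (hG : IsPGroup p G) (N M : Subgroup G) [N.Normal] [M.Normal] (hNM : N < M) (g : G) (hgM : g ∈ M) (hgN : g ∉ N) (hcl : {h : G | IsConj g h} = (M : Set G) \ (N : Set G)) : p = 2 ∧ N.relIndex M = 2 := by
  have hp : p.Prime := Fact.out
  -- class size is a power of p
  have horb : {h : G | IsConj g h} = MulAction.orbit (ConjAct G) g := by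
    ext h
    rw [ConjAct.mem_orbit_conjAct, Set.mem_ofPred_eq, isConj_comm]
  have hcard : (MulAction.stabilizer (ConjAct G) g).index = ((M : Set G) \ (N : Set G)).ncard := by
    rw [MulAction.index_stabilizer, ← horb, hcl]
  obtain ⟨n, hn⟩ := IsPGroup.iff_card.1 hG
  have hdvd : (MulAction.stabilizer (ConjAct G) g).index ∣ p ^ n := by
    have := Subgroup.index_dvd_card (MulAction.stabilizer (ConjAct G) g)
    rw [← hn]
    have e : Nat.card (ConjAct G) = Nat.card G := Nat.card_congr (ConjAct.ofConjAct (G := G)).toEquiv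
    rwa [e] at this
  obtain ⟨k, hk, hke⟩ := (Nat.dvd_prime_pow hp).1 hdvd
  -- cardinality of difference
  have hdiff : ((M : Set G) \ (N : Set G)).ncard = Nat.card M - Nat.card N := by
    rw [Set.ncard_sdiff (by exact_mod_cast hNM.le) (Set.toFinite _)]
    rw [← Nat.card_coe_set_eq, ← Nat.card_coe_set_eq]
    rfl
  obtain ⟨a, ha⟩ := IsPGroup.iff_card.1 (hG.to_subgroup N)
  have hrel : N.relIndex M * Nat.card N = Nat.card M := by
    have := Subgroup.relIndex_mul_relIndex (⊥ : Subgroup G) N M bot_le hNM.le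
    rw [Subgroup.relIndex_bot_left, Subgroup.relIndex_bot_left] at this
    rw [mul_comm]; exact this
  have hrelp : ∃ b, N.relIndex M = p ^ b := by
    have : N.relIndex M ∣ Nat.card M := ⟨_, hrel.symm⟩
    obtain ⟨m, hm⟩ := IsPGroup.iff_card.1 (hG.to_subgroup M)
    rw [hm] at this
    obtain ⟨b, _, hb⟩ := (Nat.dvd_prime_pow hp).1 this
    exact ⟨b, hb⟩
  obtain ⟨b, hb⟩ := hrelp
  have hbpos : 0 < b := by
    rcases Nat.eq_zero_or_pos b with h0 | h0
    · exfalso
      rw [h0, pow_zero] at hb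
      have : M ≤ N := Subgroup.relIndex_eq_one.1 hb
      exact absurd (le_antisymm this hNM.le) (ne_of_gt hNM)
    · exact h0
  have key : p ^ k = p ^ a * (p ^ b - 1) := by
    rw [← hke, hcard, hdiff, ← hrel, hb, ha, Nat.mul_sub, mul_one, mul_comm]
  obtain ⟨h2, hb2⟩ := arith p hp k a b hbpos key
  exact ⟨h2, by rw [hb, hb2]⟩

end Cfsg.Agent.S4013
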