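import Cfsg.Statements.S4023
import Mathlib
import Cfsg.Agent.Lib.Helper6.PG4
import Cfsg.Agent.Lib.Helper6.NormalEA
import Cfsg.Agent.Lib.Helper6.UniqInv2
import Cfsg.Agent.S3908

set_option autoImplicit false
open Cfsg Cfsg.Agent.Lib.Helper6

namespace Cfsg.Agent.S4023

section
variable {G : Type*} [Group G] [Finite G] {p : ℕ} [hp : Fact p.Prime]
  (hC : ∀ H K : Subgroup G, IsPGroup p H → IsPGroup p K → Nat.card H = Nat.card K →
      ∃ g : G, K = H.map (MulAut.conj g).toMonoidHom) (P : Sylow p G)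

include hC in
/-- commutativity transfers between subgroups of `P` of the same order -/
theorem comm_transfer (A M : Subgroup (P : Subgroup G)) (hcard : Nat.card A = Nat.card M)
    (hA : IsMulCommutative A) : IsMulCommutative M := by
  have hPp : IsPGroup p (P : Subgroup G) := P.2
  have hinj : Function.Injective (P : Subgroup G).subtype := Subtype.val_injective
  have hA' : IsPGroup p (A.map (P : Subgroup G).subtype) :=
    hPp.to_le (Subgroup.map_subtype_le A)
  have hM' : IsPGroup p (M.map (P : Subgroup G).subtype) :=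
    hPp.to_le (Subgroup.map_subtype_le M)
  have hcA : Nat.card (A.map (P : Subgroup G).subtype) = Nat.card A :=
    Nat.card_congr (A.equivMapOfInjective _ hinj).symm.toEquiv
  have hcM : Nat.card (M.map (P : Subgroup G).subtype) = Nat.card M :=
    Nat.card_congr (M.equivMapOfInjective _ hinj).symm.toEquiv
  obtain ⟨s, hs⟩ := hC _ _ hA' hM' (by rw [hcA, hcM, hcard])
  refine ⟨⟨fun m₁ m₂ => ?_⟩⟩
  have h1 : ((m₁ : (P : Subgroup G)) : G) ∈ M.map (P : Subgroup G).subtype :=
    Subgroup.mem_map.2 ⟨m₁, m₁.2, rfl⟩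
  have h2 : ((m₂ : (P : Subgroup G)) : G) ∈ M.map (P : Subgroup G).subtype :=
    Subgroup.mem_map.2 ⟨m₂, m₂.2, rfl⟩
  rw [hs] at h1 h2
  obtain ⟨a₁', ⟨a₁, ha₁, rfl⟩, h1'⟩ := h1
  obtain ⟨a₂', ⟨a₂, ha₂, rfl⟩, h2'⟩ := h2
  have hc : a₁ * a₂ = a₂ * a₁ := congrArg Subtype.val (hA.is_comm.comm ⟨a₁, ha₁⟩ ⟨a₂, ha₂⟩)
  have hc' : ((a₁ : (P : Subgroup G)) : G) * (a₂ : G) = (a₂ : G) * (a₁ : G) := by
    have := congrArg Subtype.val hc
    simpa using this
  apply Subtype.ext
  apply Subtype.ext
  show ((m₁ : (P : Subgroup G)) : G) * ((m₂ : (P : Subgroup G)) : G)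
    = ((m₂ : (P : Subgroup G)) : G) * ((m₁ : (P : Subgroup G)) : G)
  rw [← h1', ← h2']
  show s * (a₁ : G) * s⁻¹ * (s * (a₂ : G) * s⁻¹) = s * (a₂ : G) * s⁻¹ * (s * (a₁ : G) * s⁻¹)
  calc s * (a₁ : G) * s⁻¹ * (s * (a₂ : G) * s⁻¹) = s * ((a₁ : G) * (a₂ : G)) * s⁻¹ := by group
    _ = s * ((a₂ : G) * (a₁ : G)) * s⁻¹ := by rw [hc']
    _ = _ := by group

include hC in
/-- if `P` has a subgroup of order `p ^ 2` and exponent `p`, then `P` has exponent `p` -/
theorem exp_of_ea_sq (E : Subgroup (P : Subgroup G)) (hEcard : Nat.card E = p ^ 2)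
    (hEexp : ∀ e ∈ E, e ^ p = 1) : ∀ g : (P : Subgroup G), g ^ p = 1 := by
  have hpp := hp.out
  have hPp : IsPGroup p (P : Subgroup G) := P.2
  intro g
  obtain ⟨k, hk⟩ := hPp g
  have hdvd := orderOf_dvd_of_pow_eq_one hk
  obtain ⟨j, hjk, hj⟩ := (Nat.dvd_prime_pow hpp).1 hdvd
  by_cases hj1 : j ≤ 1
  · rw [← orderOf_dvd_iff_pow_eq_one, hj]
    calc p ^ j ∣ p ^ 1 := pow_dvd_pow p hj1
      _ = p := pow_one p
  · exfalso
    push Not at hj1
    obtain ⟨h, hh⟩ : ∃ h, h = g ^ p ^ (j - 2) := ⟨_, rfl⟩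
    have hho : orderOf h = p ^ 2 := by
      rw [hh, orderOf_pow_of_dvd (pow_ne_zero _ hpp.ne_zero) (by rw [hj]; exact pow_dvd_pow p (by omega)), hj]
      rw [Nat.pow_div (by omega) hpp.pos]
      congr 1; omega
    have hinj : Function.Injective (P : Subgroup G).subtype := Subtype.val_injective
    have hE' : IsPGroup p (E.map (P : Subgroup G).subtype) :=
      hPp.to_le (Subgroup.map_subtype_le E)
    have hcE : Nat.card (E.map (P : Subgroup G).subtype) = p ^ 2 := by
      rw [← hEcard]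
      exact Nat.card_congr (E.equivMapOfInjective _ hinj).symm.toEquiv
    have hK' : IsPGroup p (Subgroup.zpowers (h : G)) := by
      apply IsPGroup.of_card (n := 2)
      rw [Nat.card_zpowers, Subgroup.orderOf_coe, hho]
    obtain ⟨s, hs⟩ := hC _ _ hE' hK' (by
      rw [hcE, Nat.card_zpowers, Subgroup.orderOf_coe, hho])
    have hmem : (h : G) ∈ Subgroup.zpowers (h : G) := Subgroup.mem_zpowers _
    rw [hs] at hmem
    obtain ⟨e', ⟨e, he, rfl⟩, hse⟩ := hmem
    have hep : (e : G) ^ p = 1 := by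
      have := congrArg Subtype.val (hEexp e he)
      simpa using this
    have hhp : (h : G) ^ p = 1 := by
      rw [← hse]
      show (s * (e : G) * s⁻¹) ^ p = 1
      rw [conj_pow, hep]; group
    have h3 := orderOf_dvd_of_pow_eq_one hhp
    rw [Subgroup.orderOf_coe, hho] at h3
    have h4 := Nat.le_of_dvd hpp.pos h3
    have : p < p ^ 2 := by
      have := hpp.one_lt
      nlinarith
    omega

end

theorem not_comm_card {G : Type*} [Group G] [Finite G] {p : ℕ} [Fact p.Prime]
    (hna : ¬ IsMulCommutative G) (k : ℕ) (hk : Nat.card G = p ^ k) : 3 ≤ k := by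
  by_contra hcon
  push Not at hcon
  apply hna
  interval_cases k
  · haveI : Subsingleton G := (Nat.card_eq_one_iff_unique.1 (by rw [hk]; rfl)).1
    exact ⟨⟨fun a b => Subsingleton.elim _ _⟩⟩
  · haveI : IsCyclic G := isCyclic_of_prime_card (p := p) (by rw [hk, pow_one])
    exact IsCyclic.isMulCommutative
  · exact IsPGroup.isMulCommutative_of_card_eq_prime_sq (p := p) hk

/-- generalized quaternion groups of order at least 16 have abelian and non-abelian subgroups of
the same order -/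
theorem quat_sixteen {Q : Type*} [Group Q] [Finite Q] (n : ℕ) (hn : 4 ≤ n) (a b : Q)
    (hao : orderOf a = 2 ^ (n - 1)) (hb : b ∉ Subgroup.zpowers a)
    (hb2 : b ^ 2 = a ^ (2 ^ (n - 2))) (hconj : b * a * b⁻¹ = a⁻¹) :
    ∃ A M : Subgroup Q, Nat.card A = Nat.card M ∧ IsMulCommutative A ∧ ¬ IsMulCommutative M := by
  haveI : Fact (Nat.Prime 2) := ⟨Nat.prime_two⟩
  obtain ⟨K, hK⟩ : ∃ K : Subgroup Q, K = Subgroup.zpowers (a ^ 2) := ⟨_, rfl⟩
  have hKle : K ≤ Subgroup.zpowers a := by
    rw [hK, Subgroup.zpowers_le]; exact Subgroup.pow_mem _ (Subgroup.mem_zpowers _) _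
  have hconj2 : b * a ^ 2 * b⁻¹ = (a ^ 2)⁻¹ := by
    rw [← conj_pow, hconj, inv_pow]
  have hbN : b ∈ Subgroup.normalizer (K : Set Q) := by
    apply mem_normalizer_of_conj_mem
    intro k hk
    rw [hK] at hk ⊢
    obtain ⟨i, rfl⟩ := Subgroup.mem_zpowers_iff.1 hk
    rw [← conj_zpow, hconj2]
    exact Subgroup.zpow_mem _ (Subgroup.inv_mem _ (Subgroup.mem_zpowers _)) _
  have hbK : b ∉ K := fun h => hb (hKle h)
  have hb2K : b ^ 2 ∈ K := by
    rw [hb2, hK]
    have : a ^ 2 ^ (n - 2) = (a ^ 2) ^ 2 ^ (n - 3) := by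
      rw [← pow_mul, ← pow_succ']; congr 2; omega
    rw [this]; exact Subgroup.pow_mem _ (Subgroup.mem_zpowers _) _
  have hKcard : Nat.card K = 2 ^ (n - 2) := by
    rw [hK, Nat.card_zpowers, orderOf_pow_of_dvd (by norm_num)
      (by rw [hao]; exact dvd_pow_self 2 (by omega)), hao]
    have : 2 ^ (n - 1) = 2 ^ (n - 2) * 2 := by rw [← pow_succ]; congr 1; omega
    rw [this, Nat.mul_div_cancel _ (by norm_num)]
  refine ⟨Subgroup.zpowers a, Subgroup.zpowers b ⊔ K, ?_, inferInstance, ?_⟩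
  · rw [card_zpowers_sup_prime (p := 2) K b hbN hbK hb2K, hKcard, Nat.card_zpowers, hao,
      ← pow_succ']
    congr 1; omega
  · intro hcomm
    have hbm : b ∈ Subgroup.zpowers b ⊔ K := Subgroup.mem_sup_left (Subgroup.mem_zpowers _)
    have ham : a ^ 2 ∈ Subgroup.zpowers b ⊔ K :=
      Subgroup.mem_sup_right (by rw [hK]; exact Subgroup.mem_zpowers _)
    have h1 : b * a ^ 2 = a ^ 2 * b :=
      congrArg Subtype.val (hcomm.is_comm.comm ⟨b, hbm⟩ ⟨a ^ 2, ham⟩)
    have h2 : (a ^ 2)⁻¹ = a ^ 2 := by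
      rw [← hconj2, h1, mul_inv_cancel_right]
    have h3 : a ^ 4 = 1 := by
      have : a ^ 4 = a ^ 2 * a ^ 2 := by rw [← pow_add]
      rw [this]
      nth_rewrite 1 [← h2]
      exact inv_mul_cancel _
    have h4 := orderOf_dvd_of_pow_eq_one h3
    rw [hao] at h4
    have h5 := Nat.le_of_dvd (by norm_num) h4
    have h6 : 2 ^ 3 ≤ 2 ^ (n - 1) := Nat.pow_le_pow_right (by norm_num) (by omega)
    omega

theorem main4023 {G : Type*} [Group G] [Finite G]
    {p : ℕ} [Fact p.Prime] (hC : ∀ H K : Subgroup G, IsPGroup p H → IsPGroup p K → Nat.card H = Nat.card K →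
      ∃ g : G, K = H.map (MulAut.conj g).toMonoidHom) (P : Sylow p G) :
    IsCyclic P ∨ Cfsg.IsElementaryAbelian p (P : Subgroup G) ∨
      (p = 2 ∧ Nonempty ((P : Subgroup G) ≃* QuaternionGroup 2)) ∨
      (p ≠ 2 ∧ ¬ IsMulCommutative P ∧ Nat.card P = p ^ 3 ∧ Monoid.exponent P = p) := by
  classical
  have hpp : p.Prime := Fact.out
  by_cases hcyc : IsCyclic (P : Subgroup G)
  · exact Or.inl hcyc
  right
  have hPp : IsPGroup p (P : Subgroup G) := P.2
  by_cases hp2 : p = 2
  · subst hp2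
    by_cases huniq : ∀ H K : Subgroup (P : Subgroup G), Nat.card H = 2 → Nat.card K = 2 → H = K
    · right; left
      refine ⟨rfl, ?_⟩
      obtain ⟨n, hn3, hcard, a, b, hao, hb, hb2, hconj⟩ :=
        two_group_unique_involution hPp huniq hcyc
      by_cases hn4 : 4 ≤ n
      · exfalso
        obtain ⟨A, M, hAM, hA, hM⟩ := quat_sixteen n hn4 a b hao hb hb2 hconj
        exact hM (comm_transfer hC P A M hAM hA)
      · have hn3' : n = 3 := by omega
        subst hn3'
        haveI : NeZero 2 := ⟨by norm_num⟩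
        exact nonempty_mulEquiv_quaternion 2 a b (by rw [hao]; norm_num)
          (by rw [hb2]; norm_num) hconj hb (by rw [hcard]; norm_num)
    · left
      push Not at huniq
      obtain ⟨H, K, hH, hK, hHK⟩ := huniq
      obtain ⟨E, hEcard, hEexp⟩ := Cfsg.Agent.S3908.exists_ea_sq hPp H K hH hK hHK
      have hexp := exp_of_ea_sq hC P E hEcard hEexp
      refine ⟨⟨⟨fun a b => ?_⟩⟩, ?_⟩
      · have h1 := hexp a
        have h2 := hexp b
        have h3 := hexp (a * b)
        have ha : a⁻¹ = a := by rw [pow_two] at h1; exact inv_eq_of_mul_eq_one_right h1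
        have hb : b⁻¹ = b := by rw [pow_two] at h2; exact inv_eq_of_mul_eq_one_right h2
        have hab : (a * b)⁻¹ = a * b := by
          rw [pow_two] at h3; exact inv_eq_of_mul_eq_one_right h3
        rw [mul_inv_rev, ha, hb] at hab
        exact hab.symm
      · intro g hg
        have := congrArg Subtype.val (hexp ⟨g, hg⟩)
        simpa using this
  · obtain ⟨E, hEn, hEe, hEcard⟩ :=
      exists_normal_ea_sq hp2 (Nat.card (P : Subgroup G)) (P : Subgroup G) rfl hPp hcyc
    have hexp := exp_of_ea_sq hC P E hEcard hEe.2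
    by_cases hcomm : IsMulCommutative (P : Subgroup G)
    · left
      refine ⟨hcomm, ?_⟩
      intro g hg
      have := congrArg Subtype.val (hexp ⟨g, hg⟩)
      simpa using this
    · right; right
      refine ⟨hp2, hcomm, ?_, ?_⟩
      · obtain ⟨k, hk⟩ := (IsPGroup.iff_card (p := p)).1 hPp
        have hk3 := not_comm_card hcomm k hk
        by_cases hk4 : 4 ≤ k
        · exfalso
          haveI := hEn
          obtain ⟨A, hAcard, hA⟩ := exists_abelian_cube hPp hexp k hk4 hk E hEe.1 hEcard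
          obtain ⟨M, hMcard, hM⟩ := exists_nonabelian_cube hPp hexp hcomm
          exact hM (comm_transfer hC P A M (by rw [hAcard, hMcard]) hA)
        · have : k = 3 := by omega
          rw [← this]; exact hk
      · haveI : Nontrivial (P : Subgroup G) := by
          by_contra hcon
          rw [not_nontrivial_iff_subsingleton] at hcon
          exact hcomm ⟨⟨fun a b => Subsingleton.elim _ _⟩⟩
        rw [Monoid.exponent_eq_prime_iff hpp]
        intro g hg
        exact orderOf_eq_prime (hexp g) hg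


/-- Let p be a prime and G a finite group in which any two p-subgroups of the same order are conjugate, with Sylow p-subgroup P. Then P is cyclic, or elementary abelian, or p = 2 and P is a quaternion group of order 8, or p is odd and P is non-abelian of order p³ and exponent p. -/
theorem result {G : Type*} [Group G] [Finite G]
    {p : ℕ} [Fact p.Prime] (hC : ∀ H K : Subgroup G, IsPGroup p H → IsPGroup p K → Nat.card H = Nat.card K →
      ∃ g : G, K = H.map (MulAut.conj g).toMonoidHom) (P : Sylow p G) :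
    IsCyclic P ∨ Cfsg.IsElementaryAbelian p (P : Subgroup G) ∨
      (p = 2 ∧ Nonempty ((P : Subgroup G) ≃* QuaternionGroup 2)) ∨
      (p ≠ 2 ∧ ¬ IsMulCommutative P ∧ Nat.card P = p ^ 3 ∧ Monoid.exponent P = p) := by
  exact main4023 hC P

end Cfsg.Agent.S4023
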