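import Cfsg.Statements.S4028
import Cfsg.Agent.Lib.Helper7.CyclicAut2
import Cfsg.Agent.Lib.Helper7.SylowBasic
import Cfsg.Agent.Lib.Helper7.PSubFrattini

set_option autoImplicit false
open Cfsg

namespace Cfsg.Agent.S4028

open Cfsg.Agent.Lib.Helper7

section
variable {G : Type*} [Group G] [Finite G]

theorem mem_normalizer_zpowers (u y : G) (h : u * y * u⁻¹ ∈ Subgroup.zpowers y) :
    u ∈ Subgroup.normalizer ((Subgroup.zpowers y : Subgroup G) : Set G) := by
  apply mem_normalizer_of_conj_mem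
  intro z hz
  obtain ⟨i, rfl⟩ := hz
  rw [← conj_zpow]
  exact Subgroup.zpow_mem _ h i

theorem conj_mem_of_mem_normalizer_zpowers (u y : G)
    (h : u ∈ Subgroup.normalizer ((Subgroup.zpowers y : Subgroup G) : Set G)) :
    u * y * u⁻¹ ∈ Subgroup.zpowers y := by
  rw [Subgroup.mem_normalizer_iff] at h
  exact (h y).mp (Subgroup.mem_zpowers y)

theorem mem_cent_iff (u y : G) : u ∈ Subgroup.centralizer ({y} : Set G) ↔ y * u = u * y := by
  rw [Subgroup.mem_centralizer_iff]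
  constructor
  · intro h; exact h y rfl
  · intro h z hz
    rw [Set.mem_singleton_iff] at hz
    subst hz; exact h

theorem two_elt_orderOf (x : G) (hx : ∀ r : ℕ, r.Prime → r ∣ orderOf x → r = 2) :
    ∃ n : ℕ, orderOf x = 2 ^ n :=
  ⟨_, Nat.eq_prime_pow_of_unique_prime_dvd (orderOf_pos x).ne' (fun {d} hd hdvd => hx d hd hdvd)⟩

theorem forward (P : Sylow 2 G)
    (h : ∀ x : G, (∀ r : ℕ, r.Prime → r ∣ orderOf x → r = 2) →
      Subgroup.normalizer ((Subgroup.zpowers x : Subgroup G) : Set G) ≤ Subgroup.centralizer {x})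
    (y : ↥(P : Subgroup G)) :
    Subgroup.normalizer ((Subgroup.zpowers y : Subgroup ↥(P : Subgroup G)) : Set ↥(P : Subgroup G)) ≤
        Subgroup.centralizer {y} := by
  intro u hu
  have hy2 : ∀ r : ℕ, r.Prime → r ∣ orderOf (y : G) → r = 2 := by
    intro r hr hd
    obtain ⟨k, hk⟩ := orderOf_eq_prime_pow_of_mem_sylow P (y : G) y.2
    rw [hk] at hd
    exact (Nat.prime_dvd_prime_iff_eq hr Nat.prime_two).mp (hr.dvd_of_dvd_pow hd)
  have h1 := conj_mem_of_mem_normalizer_zpowers u y hu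
  obtain ⟨i, hi⟩ := h1
  have h2 : (u : G) ∈ Subgroup.normalizer ((Subgroup.zpowers (y : G) : Subgroup G) : Set G) := by
    apply mem_normalizer_zpowers
    refine ⟨i, ?_⟩
    have := congrArg Subtype.val hi
    simpa using this
  have h3 := h (y : G) hy2 h2
  rw [mem_cent_iff] at h3 ⊢
  exact Subtype.ext h3

theorem backward (P : Sylow 2 G)
    (h : ∀ y : ↥(P : Subgroup G), Subgroup.normalizer ((Subgroup.zpowers y : Subgroup ↥(P : Subgroup G)) : Set ↥(P : Subgroup G)) ≤
        Subgroup.centralizer {y})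
    (x : G) (hx : ∀ r : ℕ, r.Prime → r ∣ orderOf x → r = 2) :
    Subgroup.normalizer ((Subgroup.zpowers x : Subgroup G) : Set G) ≤ Subgroup.centralizer {x} := by
  intro g hg
  rw [mem_cent_iff]
  obtain ⟨n, hn⟩ := two_elt_orderOf x hx
  rcases Nat.eq_zero_or_pos n with rfl | hnpos
  · rw [pow_zero, orderOf_eq_one_iff] at hn
    rw [hn]; simp
  have hgx := conj_mem_of_mem_normalizer_zpowers g x hg
  rw [← (isOfFinOrder_of_finite x).mem_powers_iff_mem_zpowers, Submonoid.mem_powers_iff] at hgx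
  obtain ⟨k, hk⟩ := hgx
  have hk' : g * x * g⁻¹ = x ^ k := hk.symm
  have hkodd := odd_exponent_of_conj g x n k hnpos hn hk'
  -- the 2-part of g
  have hn0 : orderOf g ≠ 0 := (orderOf_pos g).ne'
  set a := (orderOf g).factorization 2 with ha
  set e := orderOf g / 2 ^ a with he
  have hmul : 2 ^ a * e = orderOf g := Nat.ordProj_mul_ordCompl_eq_self (orderOf g) 2
  have hecop : e.Coprime 2 := (Nat.coprime_ordCompl Nat.prime_two hn0).symm
  have he0 : e ≠ 0 := by
    intro h0; rw [h0, mul_zero] at hmul; exact hn0 hmul.symm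
  have hoe : orderOf (g ^ e) = 2 ^ a := by
    rw [orderOf_pow_of_dvd he0 (Dvd.intro_left _ hmul)]
    exact Nat.div_eq_of_eq_mul_left (Nat.pos_of_ne_zero he0) hmul.symm
  have hgeN : g ^ e ∈ Subgroup.normalizer ((Subgroup.zpowers x : Subgroup G) : Set G) :=
    Subgroup.pow_mem _ hg e
  -- ⟨x⟩⟨g^e⟩ is a 2-group
  have hK1 : IsPGroup 2 (Subgroup.zpowers x) := isPGroup_zpowers_of_orderOf x n hn
  have hK2 : IsPGroup 2 (Subgroup.zpowers (g ^ e)) := isPGroup_zpowers_of_orderOf _ a hoe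
  have hK : IsPGroup 2 (Subgroup.zpowers x ⊔ Subgroup.zpowers (g ^ e) : Subgroup G) := by
    apply IsPGroup.to_sup_of_normal_left' hK1 hK2
    rw [Subgroup.zpowers_le]; exact hgeN
  obtain ⟨Q, hQ⟩ := hK.exists_le_sylow
  obtain ⟨c, rfl⟩ := MulAction.exists_smul_eq G P Q
  have hxQ : c⁻¹ * x * c ∈ P :=
    (mem_sylow_smul P c x).mp (hQ (Subgroup.mem_sup_left (Subgroup.mem_zpowers x)))
  have hgQ : c⁻¹ * g ^ e * c ∈ P :=
    (mem_sylow_smul P c _).mp (hQ (Subgroup.mem_sup_right (Subgroup.mem_zpowers _)))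
  have hgex := conj_mem_of_mem_normalizer_zpowers (g ^ e) x hgeN
  obtain ⟨i, hi⟩ := hgex
  have hmemN : (⟨c⁻¹ * g ^ e * c, hgQ⟩ : (P : Subgroup G)) ∈
      Subgroup.normalizer ((Subgroup.zpowers (⟨c⁻¹ * x * c, hxQ⟩ : (P : Subgroup G)) :
        Subgroup ↥(P : Subgroup G)) : Set ↥(P : Subgroup G)) := by
    apply mem_normalizer_zpowers
    refine ⟨i, ?_⟩
    apply Subtype.ext
    simp only [Subgroup.coe_zpow, Subgroup.coe_mul, Subgroup.coe_inv]
    have e1 : c⁻¹ * g ^ e * c * (c⁻¹ * x * c) * (c⁻¹ * g ^ e * c)⁻¹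
        = c⁻¹ * (g ^ e * x * (g ^ e)⁻¹) * c := by group
    rw [e1, ← hi]
    have e2 : c⁻¹ * x * c = c⁻¹ * x * c⁻¹⁻¹ := by rw [inv_inv]
    rw [e2, conj_zpow, inv_inv]
  have hcent := h _ hmemN
  rw [mem_cent_iff] at hcent
  have hcent' := congrArg Subtype.val hcent
  simp only [Subgroup.coe_mul] at hcent'
  have hce : g ^ e * x = x * g ^ e := by
    have e1 : g ^ e * x = c * ((c⁻¹ * g ^ e * c) * (c⁻¹ * x * c)) * c⁻¹ := by group
    have e2 : x * g ^ e = c * ((c⁻¹ * x * c) * (c⁻¹ * g ^ e * c)) * c⁻¹ := by group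
    rw [e1, e2, hcent']
  exact (commute_of_cyclic_action' 2 g x n k e hn hk' hecop hce hkodd).symm

end

/-- Let G be a finite group with Sylow 2-subgroup P. Then N_G(⟨x⟩) = C_G(x) holds for every 2-element x of G if and only if N_P(⟨y⟩) = C_P(y) holds for every y ∈ P (computed inside P). -/
theorem result {G : Type*} [Group G] [Finite G] (P : Sylow 2 G) :
    (∀ x : G, (∀ r : ℕ, r.Prime → r ∣ orderOf x → r = 2) →
      Subgroup.normalizer ((Subgroup.zpowers x : Subgroup G) : Set G) ≤ Subgroup.centralizer {x}) ↔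
    (∀ y : ↥(P : Subgroup G), Subgroup.normalizer ((Subgroup.zpowers y : Subgroup ↥(P : Subgroup G)) : Set ↥(P : Subgroup G)) ≤
        Subgroup.centralizer {y}) := by
  constructor
  · intro h y
    exact forward P h y
  · intro h x hx
    exact backward P h x hx

end Cfsg.Agent.S4028
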