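import Cfsg.Statements.S4029
import Mathlib
import Cfsg.Agent.Lib.Helper1.PGroupMax

set_option autoImplicit false
open Cfsg Cfsg.Agent.Lib.Helper1

namespace Cfsg.Agent.S4029


theorem pow_mem_frattini {G : Type*} [Group G] [Finite G] {p : ℕ} [Fact p.Prime]
    (hG : IsPGroup p G) (x : G) : x ^ p ∈ frattini G := by
  rw [frattini, Order.radical]
  simp only [Subgroup.mem_iInf]
  intro M hM
  exact pow_mem_coatom_of_isPGroup hG hM x

theorem real_sq {P : Type*} [Group P]
    (hirr : ∀ y : P, Subgroup.normalizer ((Subgroup.zpowers y : Subgroup P) : Set P) ≤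
      Subgroup.centralizer {y}) (g x : P) (h : x * g * x⁻¹ = g⁻¹) : g ^ 2 = 1 := by
  have h' : x⁻¹ * g * x = g⁻¹ := by
    have : g = x⁻¹ * g⁻¹ * x := by rw [← h]; group
    calc x⁻¹ * g * x = (x⁻¹ * g⁻¹ * x)⁻¹ := by group
      _ = g⁻¹ := by rw [← this]
  have hx : x ∈ Subgroup.normalizer ((Subgroup.zpowers g : Subgroup P) : Set P) := by
    rw [Subgroup.mem_normalizer_iff]
    intro y
    constructor
    · intro hy
      obtain ⟨k, rfl⟩ := Subgroup.mem_zpowers_iff.1 hy
      have : x * g ^ k * x⁻¹ = (g⁻¹) ^ k := by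
        rw [← h, conj_zpow]
      rw [this]
      exact Subgroup.zpow_mem _ (Subgroup.inv_mem _ (Subgroup.mem_zpowers g)) k
    · intro hy
      obtain ⟨k, hk⟩ := Subgroup.mem_zpowers_iff.1 hy
      have : y = (g⁻¹) ^ k := by
        have e : y = x⁻¹ * (x * y * x⁻¹) * x := by group
        rw [e, ← hk, ← h']
        have := conj_zpow (a := x⁻¹) (b := g) (i := k)
        rw [inv_inv] at this
        exact this.symm
      rw [this]
      exact Subgroup.zpow_mem _ (Subgroup.inv_mem _ (Subgroup.mem_zpowers g)) k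
  have hc := hirr g hx
  rw [Subgroup.mem_centralizer_singleton_iff] at hc
  -- hc : x * g = g * x  (or reverse)
  have h2 : g = g⁻¹ := by
    rw [← h]
    have : x * g * x⁻¹ = g * x * x⁻¹ := by rw [hc]
    rw [this]; group
  calc g ^ 2 = g * g := pow_two g
    _ = g * g⁻¹ := by rw [← h2]
    _ = 1 := mul_inv_cancel g

theorem main4029 {P : Type*} [Group P] [Finite P] (hP : IsPGroup 2 P)
    (hirr : ∀ y : P, Subgroup.normalizer ((Subgroup.zpowers y : Subgroup P) : Set P) ≤
      Subgroup.centralizer {y}) :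
    Nat.card (P ⧸ frattini P) ≤
        Nat.card {c : ConjClasses P // ∃ y : P, ConjClasses.mk y = c ∧ orderOf y = 2} + 1 ∧
      Nat.card (P ⧸ frattini P) ≤ Nat.card (Subgroup.closure {y : P | orderOf y = 2}) := by
  classical
  haveI : Fact (Nat.Prime 2) := ⟨Nat.prime_two⟩
  haveI := Fintype.ofFinite P
  -- the invariant set of elements of square one
  let S : SubMulAction (ConjAct P) P :=
    { carrier := {g | g ^ 2 = 1}
      smul_mem' := by
        intro c g hg
        show (c • g) ^ 2 = 1
        rw [ConjAct.smul_def, conj_pow, show g ^ 2 = 1 from hg]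
        group }
  have hSmem : ∀ g : P, g ∈ S ↔ g ^ 2 = 1 := fun g => Iff.rfl
  -- step (3): injection
  let f : {q : P × P // q.1 ^ 2 = q.2 ^ 2} → Σ x : ConjAct P, MulAction.fixedBy S x := fun q =>
    have hconj : q.1.1 * (q.1.2 * q.1.1⁻¹) * q.1.1⁻¹ = (q.1.2 * q.1.1⁻¹)⁻¹ := by
      have h := q.2
      have e1 : q.1.1 * (q.1.2 * q.1.1⁻¹) * q.1.1⁻¹ = q.1.1 * q.1.2 * (q.1.1 ^ 2)⁻¹ := by group
      rw [e1, h]; group
    ⟨ConjAct.toConjAct q.1.1, ⟨⟨q.1.2 * q.1.1⁻¹, real_sq hirr _ _ hconj⟩, by
      rw [MulAction.mem_fixedBy]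
      apply Subtype.ext
      show ConjAct.toConjAct q.1.1 • (q.1.2 * q.1.1⁻¹) = q.1.2 * q.1.1⁻¹
      rw [ConjAct.smul_def, ConjAct.ofConjAct_toConjAct, hconj]
      have h2 := real_sq hirr _ _ hconj
      rw [pow_two, mul_eq_one_iff_eq_inv] at h2
      exact h2.symm⟩⟩
  have hf : Function.Injective f := by
    rintro ⟨⟨x, y⟩, h⟩ ⟨⟨x', y'⟩, h'⟩ hqq
    simp only [f, Sigma.mk.injEq] at hqq
    obtain ⟨h1, h2⟩ := hqq
    have hx : x = x' := ConjAct.toConjAct.injective h1
    subst hx
    have h3 := eq_of_heq h2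
    have h4 : y * x⁻¹ = y' * x⁻¹ := congrArg (fun z => ((z : S) : P)) (congrArg Subtype.val h3)
    have hy : y = y' := mul_right_cancel h4
    subst hy
    rfl
  have h3 : Nat.card {q : P × P // q.1 ^ 2 = q.2 ^ 2} ≤
      Nat.card (MulAction.orbitRel.Quotient (ConjAct P) S) * Nat.card P := by
    have := Nat.card_le_card_of_injective f hf
    rw [Nat.card_congr (MulAction.sigmaFixedByEquivOrbitsProdGroup (ConjAct P) S),
      Nat.card_prod] at this
    exact this
  -- step (4)
  let F : Option {c : ConjClasses P // ∃ y : P, ConjClasses.mk y = c ∧ orderOf y = 2} →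
      MulAction.orbitRel.Quotient (ConjAct P) S := fun o =>
    match o with
    | none => Quotient.mk'' ⟨1, one_pow 2⟩
    | some c => Quotient.mk'' ⟨c.2.choose, by
        have := c.2.choose_spec.2
        show c.2.choose ^ 2 = 1
        have h2 := pow_orderOf_eq_one c.2.choose
        rw [this] at h2
        exact h2⟩
  have hF : Function.Surjective F := by
    intro ω
    induction ω using Quotient.inductionOn' with
    | h a =>
      obtain ⟨g, hg⟩ := a
      have hg2 : g ^ 2 = 1 := hg
      by_cases hg1 : g = 1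
      · refine ⟨none, ?_⟩
        subst hg1
        rfl
      · have ho : orderOf g = 2 := orderOf_eq_prime hg2 hg1
        refine ⟨some ⟨ConjClasses.mk g, g, rfl, ho⟩, ?_⟩
        apply Quotient.sound'
        show MulAction.orbitRel (ConjAct P) S _ _
        rw [MulAction.orbitRel_apply]
        obtain ⟨Y, hYdef⟩ : ∃ Y : P, Y = Exists.choose (show ∃ y : P,
            ConjClasses.mk y = ConjClasses.mk g ∧ orderOf y = 2 from ⟨g, rfl, ho⟩) := ⟨_, rfl⟩
        have hsp : ConjClasses.mk Y = ConjClasses.mk g := by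
          rw [hYdef]
          exact (Exists.choose_spec (show ∃ y : P,
            ConjClasses.mk y = ConjClasses.mk g ∧ orderOf y = 2 from ⟨g, rfl, ho⟩)).1
        rw [ConjClasses.mk_eq_mk_iff_isConj, isConj_iff] at hsp
        obtain ⟨c, hc⟩ := hsp
        refine ⟨ConjAct.toConjAct c⁻¹, ?_⟩
        apply Subtype.ext
        have key : ConjAct.toConjAct c⁻¹ • g = Y := by
          rw [ConjAct.smul_def, ConjAct.ofConjAct_toConjAct, ← hc]
          group
        exact key.trans hYdef
  have h4 : Nat.card (MulAction.orbitRel.Quotient (ConjAct P) S) ≤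
      Nat.card {c : ConjClasses P // ∃ y : P, ConjClasses.mk y = c ∧ orderOf y = 2} + 1 := by
    have := Nat.card_le_card_of_surjective F hF
    rwa [Finite.card_option] at this
  -- step (1): Cauchy-Schwarz
  obtain ⟨r, hr⟩ : ∃ r : P → ℕ, ∀ z, r z = (Finset.univ.filter (fun x : P => x ^ 2 = z)).card :=
    ⟨_, fun _ => rfl⟩
  obtain ⟨I, hI⟩ : ∃ I : Finset P, I = Finset.univ.image (fun x : P => x ^ 2) := ⟨_, rfl⟩
  have hcardP : Nat.card P = ∑ z ∈ I, r z := by
    rw [Nat.card_eq_fintype_card, ← Finset.card_univ, hI,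
      Finset.card_eq_sum_card_image (fun x : P => x ^ 2) Finset.univ]
    apply Finset.sum_congr rfl
    intro z _
    rw [hr]
  have hT' : Nat.card {q : P × P // q.1 ^ 2 = q.2 ^ 2} = ∑ z ∈ I, r z ^ 2 := by
    rw [Nat.card_eq_fintype_card, Fintype.card_subtype, Finset.card_filter,
      ← Finset.univ_product_univ, Finset.sum_product]
    have h1 : ∀ x : P, (∑ y : P, if x ^ 2 = y ^ 2 then 1 else 0) = r (x ^ 2) := by
      intro x
      rw [hr, Finset.card_filter]
      apply Finset.sum_congr rfl
      intro y _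
      simp only [eq_comm]
    simp only [h1]
    rw [Finset.sum_comp r (fun x : P => x ^ 2), ← hI]
    apply Finset.sum_congr rfl
    intro z _
    rw [smul_eq_mul, ← hr, pow_two]
  have hIcard : I.card ≤ Nat.card (frattini P) := by
    rw [Nat.card_eq_fintype_card, Fintype.card_subtype]
    apply Finset.card_le_card
    intro z hz
    rw [hI] at hz
    obtain ⟨x, _, rfl⟩ := Finset.mem_image.1 hz
    exact Finset.mem_filter.2 ⟨Finset.mem_univ _, pow_mem_frattini hP x⟩
  have h1 : Nat.card P ^ 2 ≤ Nat.card (frattini P) * Nat.card {q : P × P // q.1 ^ 2 = q.2 ^ 2} := by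
    rw [hcardP, hT']
    calc (∑ z ∈ I, r z) ^ 2 ≤ I.card * ∑ z ∈ I, r z ^ 2 := sq_sum_le_card_mul_sum_sq
      _ ≤ Nat.card (frattini P) * ∑ z ∈ I, r z ^ 2 := Nat.mul_le_mul_right _ hIcard
  -- combine
  have hPpos : 0 < Nat.card P := Nat.card_pos
  have hΦpos : 0 < Nat.card (frattini P) := Nat.card_pos
  have hidx : Nat.card (P ⧸ frattini P) * Nat.card (frattini P) = Nat.card P := by
    exact (Subgroup.card_eq_card_quotient_mul_card_subgroup (frattini P)).symm
  have hmain : Nat.card (P ⧸ frattini P) ≤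
      Nat.card {c : ConjClasses P // ∃ y : P, ConjClasses.mk y = c ∧ orderOf y = 2} + 1 := by
    have h5 : Nat.card P ^ 2 ≤ Nat.card (frattini P) *
        ((Nat.card {c : ConjClasses P // ∃ y : P, ConjClasses.mk y = c ∧ orderOf y = 2} + 1) *
          Nat.card P) :=
      h1.trans (Nat.mul_le_mul_left _ (h3.trans (Nat.mul_le_mul_right _ h4)))
    have h6 : Nat.card P ≤ Nat.card (frattini P) *
        (Nat.card {c : ConjClasses P // ∃ y : P, ConjClasses.mk y = c ∧ orderOf y = 2} + 1) := by
      have : Nat.card P * Nat.card P ≤ (Nat.card (frattini P) *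
        (Nat.card {c : ConjClasses P // ∃ y : P, ConjClasses.mk y = c ∧ orderOf y = 2} + 1)) *
          Nat.card P := by
        rw [← pow_two, mul_assoc]; exact h5
      exact Nat.le_of_mul_le_mul_right this hPpos
    rw [← hidx, mul_comm] at h6
    exact Nat.le_of_mul_le_mul_left h6 hΦpos
  refine ⟨hmain, hmain.trans ?_⟩
  -- injection into the closure
  let J : Option {c : ConjClasses P // ∃ y : P, ConjClasses.mk y = c ∧ orderOf y = 2} →
      Subgroup.closure {y : P | orderOf y = 2} := fun o =>
    match o with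
    | none => 1
    | some c => ⟨c.2.choose, Subgroup.subset_closure c.2.choose_spec.2⟩
  have hJ : Function.Injective J := by
    intro a b hab
    rcases a with _ | a <;> rcases b with _ | b
    · rfl
    · exfalso
      have h := congrArg Subtype.val hab
      simp only [J] at h
      have := b.2.choose_spec.2
      rw [← h] at this
      simp at this
    · exfalso
      have h := congrArg Subtype.val hab
      simp only [J] at h
      have := a.2.choose_spec.2
      rw [h] at this
      simp at this
    · have h := congrArg Subtype.val hab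
      simp only [J] at h
      congr 1
      apply Subtype.ext
      rw [← a.2.choose_spec.1, ← b.2.choose_spec.1, h]
  have := Nat.card_le_card_of_injective J hJ
  rwa [Finite.card_option] at this



/-- Let P be a finite 2-group in which N_P(⟨y⟩) = C_P(y) for every y ∈ P. If s is the number of conjugacy classes of involutions of P, then #(P/Φ(P)) ≤ s + 1; in particular the subgroup generated by the involutions of P has order at least #(P/Φ(P)). -/
theorem result {P : Type*} [Group P] [Finite P] (hP : IsPGroup 2 P)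
    (hirr : ∀ y : P, Subgroup.normalizer ((Subgroup.zpowers y : Subgroup P) : Set P) ≤ Subgroup.centralizer {y}) :
    Nat.card (P ⧸ frattini P) ≤ Nat.card {c : ConjClasses P // ∃ y : P, ConjClasses.mk y = c ∧ orderOf y = 2} + 1 ∧
    Nat.card (P ⧸ frattini P) ≤ Nat.card (Subgroup.closure {y : P | orderOf y = 2}) := by
  exact main4029 hP hirr

end Cfsg.Agent.S4029
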