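import Mathlib
import Cfsg.Statements.S4032
import Cfsg.Agent.Lib.Helper4.CoprimeAct
import Cfsg.Agent.Lib.Helper7.EltDecomp

set_option autoImplicit false
open Cfsg

namespace Cfsg.Agent.S4032

open Cfsg.Agent.Lib.Helper4 Cfsg.Agent.Lib.Helper7

theorem result {G : Type*} [Group G] [Finite G] (π : Set ℕ)
    (hirr : ∀ x : G, (∀ r : ℕ, r.Prime → r ∣ orderOf x → r ∈ π) →
      Subgroup.normalizer ((Subgroup.zpowers x : Subgroup G) : Set G) ≤ Subgroup.centralizer {x})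
    (N : Subgroup G) [N.Normal] (hN : ∀ r : ℕ, r.Prime → r ∣ Nat.card N → r ∉ π) :
    ∀ y : G ⧸ N, (∀ r : ℕ, r.Prime → r ∣ orderOf y → r ∈ π) →
      Subgroup.normalizer ((Subgroup.zpowers y : Subgroup (G ⧸ N)) : Set (G ⧸ N)) ≤ Subgroup.centralizer {y} := by
  intro y hy gbar hgbar
  -- lift y to a π-element
  obtain ⟨x₀, rfl⟩ := QuotientGroup.mk_surjective y
  obtain ⟨u, v, huv, hu, hv, huπ, hvπ⟩ := elt_pi_decomp π x₀
  have hv1 : ((v : G) : G ⧸ N) = 1 := by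
    have h1 : orderOf ((v : G) : G ⧸ N) ∣ orderOf v := orderOf_map_dvd (QuotientGroup.mk' N) v
    have h2 : ((v : G) : G ⧸ N) ∈ Subgroup.zpowers ((x₀ : G) : G ⧸ N) := by
      obtain ⟨i, rfl⟩ := Subgroup.mem_zpowers_iff.1 hv
      exact ⟨i, by simp⟩
    have h3 : orderOf ((v : G) : G ⧸ N) ∣ orderOf ((x₀ : G) : G ⧸ N) :=
      orderOf_dvd_of_mem_zpowers h2
    rw [← orderOf_eq_one_iff]
    by_contra hne
    obtain ⟨q, hq, hqd⟩ := Nat.exists_prime_and_dvd hne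
    exact hvπ q hq (hqd.trans h1) (hy q hq (hqd.trans h3))
  have hux : ((u : G) : G ⧸ N) = ((x₀ : G) : G ⧸ N) := by
    rw [← huv, QuotientGroup.mk_mul, hv1, mul_one]
  rw [← hux] at hgbar hy ⊢
  obtain ⟨g, rfl⟩ := QuotientGroup.mk_surjective gbar
  have huπ' : ∀ r : ℕ, r.Prime → r ∣ orderOf u → r ∈ π := huπ
  -- the two complements
  obtain ⟨A, hA⟩ : ∃ A : Subgroup G, A = Subgroup.zpowers u := ⟨_, rfl⟩
  have hAN : A ≤ Subgroup.normalizer (N : Set G) := by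
    rw [Subgroup.normalizer_eq_top_iff.2 inferInstance]; exact le_top
  have hcop : (Nat.card A).Coprime (Nat.card N) := by
    rw [hA, Nat.card_zpowers]
    exact coprime_of_piNum huπ (fun q hq hqd => hN q hq hqd)
  have hB : cj g A ≤ N ⊔ A := by
    intro z hz
    rw [mem_cj_iff, hA] at hz
    obtain ⟨i, hi⟩ := Subgroup.mem_zpowers_iff.1 hz
    -- z = g u^i g⁻¹
    have hz' : z = g * u ^ i * g⁻¹ := by rw [hi]; group
    have h1 : ((g : G) : G ⧸ N) * ((u : G) : G ⧸ N) ^ i * ((g : G) : G ⧸ N)⁻¹ ∈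
        Subgroup.zpowers ((u : G) : G ⧸ N) :=
      (Subgroup.mem_normalizer_iff.1 hgbar _).1 (Subgroup.zpow_mem _ (Subgroup.mem_zpowers _) i)
    obtain ⟨j, hj⟩ := Subgroup.mem_zpowers_iff.1 h1
    have h2 : (u ^ j)⁻¹ * z ∈ N := by
      rw [← QuotientGroup.eq, hz']
      simp only [QuotientGroup.mk_mul, QuotientGroup.mk_zpow, QuotientGroup.mk_inv]
      exact hj
    have h3 : z = (u ^ j) * ((u ^ j)⁻¹ * z) := by group
    rw [h3]
    have h4 : u ^ j ∈ N ⊔ A := by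
      apply Subgroup.mem_sup_right
      rw [hA]; exact Subgroup.zpow_mem _ (Subgroup.mem_zpowers u) j
    exact Subgroup.mul_mem _ h4 (Subgroup.mem_sup_left h2)
  haveI : IsCyclic A := by rw [hA]; infer_instance
  have hsolvA : Group.IsSolvable A :=
    Group.isSolvable_of_comm (fun a b => (IsCyclic.isMulCommutative (α := A)).is_comm.comm a b)
  obtain ⟨k, hkN, hk⟩ := sz_act_conj A N hAN hcop (Or.inl hsolvA) (cj g A) hB (card_cj' g A)
  -- w = k⁻¹ g normalizes A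
  have hw : cj (k⁻¹ * g) A = A := by
    rw [cj_mul, ← hk, ← cj_mul, inv_mul_cancel, cj_one]
  have hwn : k⁻¹ * g ∈ Subgroup.normalizer ((Subgroup.zpowers u : Subgroup G) : Set G) := by
    rw [← hA, Subgroup.mem_normalizer_iff]
    intro h
    constructor
    · intro hh
      have := conj_mem_cj (k⁻¹ * g) A hh
      rwa [hw] at this
    · intro hh
      rw [← hw, mem_cj_iff] at hh
      have e : (k⁻¹ * g)⁻¹ * ((k⁻¹ * g) * h * (k⁻¹ * g)⁻¹) * (k⁻¹ * g) = h := by group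
      rwa [e] at hh
  have hwc := hirr u huπ' hwn
  rw [Subgroup.mem_centralizer_singleton_iff] at hwc ⊢
  -- pass to the quotient
  have hkg : ((k⁻¹ * g : G) : G ⧸ N) = ((g : G) : G ⧸ N) := by
    rw [QuotientGroup.mk_mul, QuotientGroup.mk_inv, (QuotientGroup.eq_one_iff k).2 hkN]
    simp
  rw [← hkg, ← QuotientGroup.mk_mul, ← QuotientGroup.mk_mul, hwc]

end Cfsg.Agent.S4032
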