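import Mathlib
import Cfsg.Statements.S4034
import Cfsg.Agent.S0143
import Cfsg.Agent.S0044
import Cfsg.Agent.S0003
import Cfsg.Agent.S0004
import Cfsg.Agent.S0005
import Cfsg.Agent.Lib.Helper1.Fitting
import Cfsg.Agent.Lib.Helper1.Fitting2
import Cfsg.Agent.Lib.Helper1.ClassSize
import Cfsg.Agent.Lib.Helper4.Hall

set_option autoImplicit false

open Cfsg

namespace Cfsg.Agent.S4034

universe u

/-- class size = index of centralizer -/
theorem ncard_carrier {G : Type*} [Group G] (x : G) :
    (ConjClasses.mk x).carrier.ncard = (Subgroup.centralizer ({x} : Set G)).index := by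
  rw [Cfsg.Agent.Lib.Helper1.index_centralizer_eq_card_conj, ← Nat.card_coe_set_eq]
  apply Nat.card_congr
  refine Equiv.subtypeEquivRight (fun y => ?_)
  rw [ConjClasses.mem_carrier_iff_mk_eq, ConjClasses.mk_eq_mk_iff_isConj, isConj_comm]

/-- the hypothesis: `p`-regular elements have centralizers of `p`-power index -/
def Hyp (p : ℕ) (G : Type*) [Group G] : Prop :=
  ∀ x : G, (orderOf x).Coprime p → ∃ k : ℕ, (Subgroup.centralizer ({x} : Set G)).index = p ^ k

theorem relIndex_mul_card_inf {G : Type*} [Group G] [Finite G] (K N : Subgroup G) :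
    K.relIndex N * Nat.card (K ⊓ N : Subgroup G) = Nat.card N := by
  have h := (K.subgroupOf N).card_mul_index
  rw [← h, Subgroup.relIndex, mul_comm]
  congr 1
  rw [← Subgroup.inf_subgroupOf_right]
  exact (Nat.card_congr (Subgroup.subgroupOfEquivOfLe (inf_le_right : K ⊓ N ≤ N)).toEquiv).symm

theorem relIndex_dvd_of_normal {G : Type*} [Group G] [Finite G] (K N : Subgroup G) [N.Normal] :
    K.relIndex N ∣ K.index := by
  have h1 := relIndex_mul_card_inf K N
  have h2 := Cfsg.Agent.Lib.Helper4.card_sup_mul_inf_normal N K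
  have h3 := relIndex_mul_card_inf K (K ⊔ N)
  rw [inf_of_le_left (le_sup_left : K ≤ K ⊔ N)] at h3
  have h4 : K.relIndex N = K.relIndex (K ⊔ N) := by
    have hpos1 : 0 < Nat.card (K ⊓ N : Subgroup G) := Nat.card_pos
    have hpos2 : 0 < Nat.card K := Nat.card_pos
    apply Nat.eq_of_mul_eq_mul_right (Nat.mul_pos hpos1 hpos2)
    calc K.relIndex N * (Nat.card (K ⊓ N : Subgroup G) * Nat.card K)
        = (K.relIndex N * Nat.card (K ⊓ N : Subgroup G)) * Nat.card K := by ring
      _ = Nat.card N * Nat.card K := by rw [h1]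
      _ = Nat.card (K ⊔ N : Subgroup G) * Nat.card (K ⊓ N : Subgroup G) := by rw [h2]; ring
      _ = (K.relIndex (K ⊔ N) * Nat.card K) * Nat.card (K ⊓ N : Subgroup G) := by rw [h3]
      _ = K.relIndex (K ⊔ N) * (Nat.card (K ⊓ N : Subgroup G) * Nat.card K) := by ring
  rw [h4]
  exact Subgroup.relIndex_dvd_index_of_le le_sup_left

theorem centralizer_subgroupOf {G : Type*} [Group G] (N : Subgroup G) (x : N) :
    Subgroup.centralizer ({x} : Set N) =
      (Subgroup.centralizer ({(x : G)} : Set G)).subgroupOf N := by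
  ext y
  rw [Subgroup.mem_subgroupOf, Subgroup.mem_centralizer_singleton_iff,
    Subgroup.mem_centralizer_singleton_iff]
  constructor
  · intro h
    have := congrArg Subtype.val h
    simpa using this
  · intro h
    apply Subtype.ext
    simpa using h

theorem hyp_normal {p : ℕ} (hp : p.Prime) {G : Type*} [Group G] [Finite G] (N : Subgroup G)
    [N.Normal] (h : Hyp p G) : Hyp p N := by
  intro x hx
  rw [← Subgroup.orderOf_coe] at hx
  obtain ⟨k, hk⟩ := h (x : G) hx
  rw [centralizer_subgroupOf]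
  have h1 : ((Subgroup.centralizer ({(x : G)} : Set G)).subgroupOf N).index ∣ p ^ k := by
    rw [← hk]
    exact relIndex_dvd_of_normal _ N
  obtain ⟨j, -, hj⟩ := (Nat.dvd_prime_pow hp).1 h1
  exact ⟨j, hj⟩

/-- lifting `p`-regular elements through a quotient -/
theorem lift_regular {p : ℕ} (hp : p.Prime) {G : Type*} [Group G] [Finite G] (N : Subgroup G)
    [N.Normal] (y : G ⧸ N) (hy : (orderOf y).Coprime p) :
    ∃ x : G, (orderOf x).Coprime p ∧ (QuotientGroup.mk' N) x = y := by
  obtain ⟨g, rfl⟩ := QuotientGroup.mk'_surjective N y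
  have ho : orderOf g ≠ 0 := (orderOf_pos g).ne'
  obtain ⟨a, m, hm, hom⟩ := Nat.exists_eq_pow_mul_and_not_dvd ho p hp.ne_one
  set n := orderOf ((QuotientGroup.mk' N) g) with hn
  have hcop : (p ^ a).Coprime n := (Nat.Coprime.pow_left a hy.symm)
  by_cases hn1 : n = 1
  · refine ⟨1, by simp, ?_⟩
    rw [map_one]
    exact (orderOf_eq_one_iff.1 hn1).symm
  have hn2 : 1 < n := by
    have : 0 < n := orderOf_pos _
    omega
  obtain ⟨j, -, hj⟩ := Nat.exists_mul_mod_eq_one_of_coprime hcop hn2
  refine ⟨g ^ (p ^ a * j), ?_, ?_⟩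
  · have h1 : (g ^ (p ^ a * j)) ^ m = 1 := by
      rw [← pow_mul]
      have : p ^ a * j * m = orderOf g * j := by rw [hom]; ring
      rw [this, pow_mul, pow_orderOf_eq_one, one_pow]
    have h2 : orderOf (g ^ (p ^ a * j)) ∣ m := orderOf_dvd_of_pow_eq_one h1
    exact Nat.Coprime.coprime_dvd_left h2 ((Nat.Prime.coprime_iff_not_dvd hp).2 hm).symm
  · rw [map_pow]
    have h3 : ((QuotientGroup.mk' N) g) ^ (p ^ a * j) = ((QuotientGroup.mk' N) g) ^ (p ^ a * j % n) := by
      rw [hn, pow_mod_orderOf]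
    rw [h3, hj, pow_one]

theorem hyp_quot {p : ℕ} (hp : p.Prime) {G : Type*} [Group G] [Finite G] (N : Subgroup G)
    [N.Normal] (h : Hyp p G) : Hyp p (G ⧸ N) := by
  intro y hy
  obtain ⟨x, hx, rfl⟩ := lift_regular hp N y hy
  obtain ⟨k, hk⟩ := h x hx
  have h1 : (Subgroup.centralizer ({x} : Set G)).map (QuotientGroup.mk' N) ≤
      Subgroup.centralizer ({(QuotientGroup.mk' N) x} : Set (G ⧸ N)) := by
    rintro _ ⟨c, hc, rfl⟩
    rw [Subgroup.mem_centralizer_singleton_iff]
    have hc' := Subgroup.mem_centralizer_singleton_iff.1 hc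
    rw [← map_mul, ← map_mul, hc']
  have h2 : (Subgroup.centralizer ({(QuotientGroup.mk' N) x} : Set (G ⧸ N))).index ∣ p ^ k := by
    rw [← hk]
    exact (Subgroup.index_dvd_of_le h1).trans
      (Subgroup.index_map_dvd _ (QuotientGroup.mk'_surjective N))
  obtain ⟨j, -, hj⟩ := (Nat.dvd_prime_pow hp).1 h2
  exact ⟨j, hj⟩

theorem solvable_of_prime_pow {p : ℕ} (hp : p.Prime) {G : Type*} [Group G] [Finite G] (k : ℕ)
    (h : Nat.card G = p ^ k) : Group.IsSolvable G := by
  haveI : Fact p.Prime := ⟨hp⟩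
  haveI : Group.IsNilpotent G := (IsPGroup.of_card h).isNilpotent
  infer_instance

theorem exists_proper_normal {G : Type*} [Group G] [Nontrivial G] (h : ¬ IsSimpleGroup G) :
    ∃ N : Subgroup G, N.Normal ∧ N ≠ ⊥ ∧ N ≠ ⊤ := by
  by_contra hcon
  push Not at hcon
  apply h
  refine ⟨fun N hN => ?_⟩
  by_cases hb : N = ⊥
  · exact Or.inl hb
  · exact Or.inr (hcon N hN hb)

theorem solvable_of_normal_quot {G : Type*} [Group G] (N : Subgroup G) [N.Normal]
    (h1 : Group.IsSolvable N) (h2 : Group.IsSolvable (G ⧸ N)) : Group.IsSolvable G := by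
  apply Group.isSolvable_of_ker_le_range N.subtype (QuotientGroup.mk' N)
  rw [QuotientGroup.ker_mk', Subgroup.range_subtype]

/-- the simple case in both directions -/
theorem solvable_simple {p : ℕ} (hp : p.Prime) {G : Type*} [Group G] [Finite G] [IsSimpleGroup G]
    (x : G) (hx : x ≠ 1) (k : ℕ) (hk : (Subgroup.centralizer ({x} : Set G)).index = p ^ k) :
    Group.IsSolvable G := by
  have h1 := Cfsg.Agent.S0143.result p k hp x hx hk
  exact solvable_of_prime_pow h1 1 (pow_one _).symm

theorem hyp_solvable {p : ℕ} (hp : p.Prime) : ∀ (n : ℕ) (G : Type u) [Group G] [Finite G],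
    Nat.card G = n → Hyp p G → Group.IsSolvable G := by
  intro n
  induction n using Nat.strong_induction_on with
  | _ n ih =>
  intro G _ _ hn h
  by_cases hsub : Subsingleton G
  · infer_instance
  haveI : Nontrivial G := not_subsingleton_iff_nontrivial.1 hsub
  by_cases hs : IsSimpleGroup G
  · -- simple
    by_cases hpg : ∃ k, Nat.card G = p ^ k
    · obtain ⟨k, hk⟩ := hpg
      exact solvable_of_prime_pow hp k hk
    · have hq : ∃ q : ℕ, q.Prime ∧ q ∣ Nat.card G ∧ q ≠ p := by
        by_contra hcon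
        push Not at hcon
        apply hpg
        have hne : Nat.card G ≠ 0 := Nat.card_pos.ne'
        exact ⟨(Nat.card G).primeFactorsList.length,
          Nat.eq_prime_pow_of_unique_prime_dvd hne (fun {d} hd hdvd => hcon d hd hdvd)⟩
      obtain ⟨q, hq, hqd, hqp⟩ := hq
      haveI : Fact q.Prime := ⟨hq⟩
      obtain ⟨x, hx⟩ := exists_prime_orderOf_dvd_card' q hqd
      have hx1 : x ≠ 1 := by
        intro h1
        rw [h1, orderOf_one] at hx
        exact hq.ne_one hx.symm
      have hreg : (orderOf x).Coprime p := by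
        rw [hx]
        exact (Nat.coprime_primes hq hp).2 hqp
      obtain ⟨k, hk⟩ := h x hreg
      exact solvable_simple hp x hx1 k hk
  · obtain ⟨N, hN, hNb, hNt⟩ := exists_proper_normal hs
    haveI := hN
    have h1 : Group.IsSolvable N :=
      ih _ (by rw [← hn]; exact Cfsg.Agent.Lib.Helper4.card_lt_of_ne_top N hNt) N rfl
        (hyp_normal hp N h)
    have h2 : Group.IsSolvable (G ⧸ N) :=
      ih _ (by rw [← hn]; exact Cfsg.Agent.Lib.Helper4.card_quot_lt N hNb) (G ⧸ N) rfl
        (hyp_quot hp N h)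
    exact solvable_of_normal_quot N h1 h2

/-- a `p`-complement contains every normal `p'`-subgroup -/
theorem normal_le_complement {p : ℕ} (hp : p.Prime) {G : Type*} [Group G] [Finite G]
    (K N : Subgroup G) [N.Normal] (hN : (Nat.card N).Coprime p) (hK : ¬ p ∣ Nat.card K)
    (k : ℕ) (hk : K.index = p ^ k) : N ≤ K := by
  have h1 : Nat.card (K ⊔ N : Subgroup G) ∣ Nat.card K * Nat.card N :=
    Cfsg.Agent.Lib.Helper1.card_sup_dvd_mul K N
  have hKc : (Nat.card K).Coprime p := ((Nat.Prime.coprime_iff_not_dvd hp).2 hK).symm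
  have h2 : (Nat.card (K ⊔ N : Subgroup G)).Coprime p :=
    Nat.Coprime.coprime_dvd_left h1 (Nat.Coprime.mul_left hKc hN)
  have h3 : K.relIndex (K ⊔ N) ∣ p ^ k := by
    rw [← hk]; exact Subgroup.relIndex_dvd_index_of_le le_sup_left
  have h4 : K.relIndex (K ⊔ N) ∣ Nat.card (K ⊔ N : Subgroup G) := Subgroup.relIndex_dvd_card _ _
  have h5 : K.relIndex (K ⊔ N) = 1 := by
    have h6 : (K.relIndex (K ⊔ N)).Coprime (p ^ k) :=
      Nat.Coprime.pow_right k (Nat.Coprime.coprime_dvd_left h4 h2)
    exact Nat.Coprime.eq_one_of_dvd h6 h3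
  exact le_trans le_sup_right (Subgroup.relIndex_eq_one.1 h5)

/-- a subgroup of order the `p'`-part has `p`-power index -/
theorem index_of_card {p : ℕ} {G : Type*} [Group G] [Finite G] (K : Subgroup G) (m k : ℕ)
    (hG : Nat.card G = m * p ^ k) (hK : Nat.card K = m) : K.index = p ^ k := by
  have h := K.card_mul_index
  rw [hK, hG] at h
  have hm : 0 < m := by rw [← hK]; exact Nat.card_pos
  exact Nat.eq_of_mul_eq_mul_left hm h

/-- the case `O_p(G) = 1` -/
theorem comm_of_core_bot {p : ℕ} (hp : p.Prime) {G : Type*} [Group G] [Finite G]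
    [Group.IsSolvable G] (h : Hyp p G) (hcore : Cfsg.pCore p G = ⊥) (H : Subgroup G)
    (hH : ¬ p ∣ Nat.card H) (k : ℕ) (hk : H.index = p ^ k) :
    ∀ x ∈ H, ∀ y ∈ H, x * y = y * x := by
  haveI : Fact p.Prime := ⟨hp⟩
  have hF : Cfsg.fittingSubgroup G ≤ Cfsg.pPrimeCore p G := by
    rw [Cfsg.Agent.Lib.Helper1.fitting_eq_pCoreSup]
    refine le_trans (Cfsg.Agent.Lib.Helper1.pCoreSup_le_sup p) ?_
    rw [hcore, bot_sup_eq]
  haveI hnorm : (Cfsg.pPrimeCore p G).Normal := Cfsg.Agent.Lib.Helper1.pPrimeCore_normal p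
  have hcop : (Nat.card (Cfsg.pPrimeCore p G)).Coprime p :=
    Cfsg.Agent.Lib.Helper1.pPrimeCore_coprime p
  have hHc : (Nat.card H).Coprime p := ((Nat.Prime.coprime_iff_not_dvd hp).2 hH).symm
  have hG : Nat.card G = Nat.card H * p ^ k := by rw [← hk, Subgroup.card_mul_index]
  -- for every x in H, F(G) centralizes x
  have key : ∀ x ∈ H, Cfsg.fittingSubgroup G ≤ Subgroup.centralizer ({x} : Set G) := by
    intro x hx
    have hxo : (orderOf x).Coprime p := by
      have h1 : orderOf x ∣ Nat.card H := by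
        have := orderOf_dvd_natCard (⟨x, hx⟩ : H)
        rwa [← Subgroup.orderOf_coe] at this
      exact Nat.Coprime.coprime_dvd_left h1 hHc
    obtain ⟨k', hk'⟩ := h x hxo
    set C := Subgroup.centralizer ({x} : Set G) with hC
    have hCc : Nat.card C * p ^ k' = Nat.card H * p ^ k := by
      rw [← hG, ← hk', Subgroup.card_mul_index]
    have hdvd : Nat.card H ∣ Nat.card C := by
      have h1 : Nat.card H ∣ Nat.card C * p ^ k' := ⟨p ^ k, hCc⟩
      exact (Nat.Coprime.pow_right k' hHc).dvd_of_dvd_mul_right h1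
    obtain ⟨n', hn'⟩ := hdvd
    have hn'p : n' ∣ p ^ k := by
      refine ⟨p ^ k', ?_⟩
      have hpos : 0 < Nat.card H := Nat.card_pos
      apply Nat.eq_of_mul_eq_mul_left hpos
      rw [← hCc, hn']; ring
    obtain ⟨j, -, hj⟩ := (Nat.dvd_prime_pow hp).1 hn'p
    have hcopn : (Nat.card H).Coprime n' := by
      rw [hj]; exact Nat.Coprime.pow_right j hHc
    obtain ⟨K0, hK0⟩ := Cfsg.Agent.S0003.result (G := C) (Nat.card H) n' hn' hcopn
    set K := K0.map C.subtype with hKdef
    have hKcard : Nat.card K = Nat.card H := by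
      rw [hKdef, Subgroup.card_map_of_injective C.subtype_injective, hK0]
    have hKC : K ≤ C := by
      rw [hKdef]
      exact Subgroup.map_subtype_le K0
    have hKidx : K.index = p ^ k := index_of_card K (Nat.card H) k hG hKcard
    have hKnd : ¬ p ∣ Nat.card K := by rw [hKcard]; exact hH
    exact le_trans hF (le_trans (normal_le_complement hp K _ hcop hKnd k hKidx) hKC)
  have hle : H ≤ Cfsg.fittingSubgroup G := by
    intro x hx
    apply Cfsg.Agent.S0044.result
    rw [Subgroup.mem_centralizer_iff]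
    intro f hf
    have := Subgroup.mem_centralizer_singleton_iff.1 (key x hx hf)
    exact this
  intro x hx y hy
  have := Subgroup.mem_centralizer_singleton_iff.1 (key x hx (hle hy))
  exact this.symm

theorem hyp_comm {p : ℕ} (hp : p.Prime) : ∀ (n : ℕ) (G : Type u) [Group G] [Finite G],
    Nat.card G = n → Group.IsSolvable G → Hyp p G → ∀ (H : Subgroup G), ¬ p ∣ Nat.card H →
    ∀ k : ℕ, H.index = p ^ k → ∀ x ∈ H, ∀ y ∈ H, x * y = y * x := by
  intro n
  induction n using Nat.strong_induction_on with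
  | _ n ih =>
  intro G _ _ hn hsolv h H hH k hk
  haveI : Fact p.Prime := ⟨hp⟩
  by_cases hcore : Cfsg.pCore p G = ⊥
  · exact comm_of_core_bot hp h hcore H hH k hk
  · have hlt : Nat.card (G ⧸ Cfsg.pCore p G) < n := by
      rw [← hn]; exact Cfsg.Agent.Lib.Helper4.card_quot_lt _ hcore
    have hsolvQ : Group.IsSolvable (G ⧸ Cfsg.pCore p G) := inferInstance
    have hcard : ¬ p ∣ Nat.card (H.map (QuotientGroup.mk' (Cfsg.pCore p G))) := by
      intro hd
      exact hH (hd.trans (Subgroup.card_map_dvd _ _))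
    have hidx : (H.map (QuotientGroup.mk' (Cfsg.pCore p G))).index ∣ p ^ k := by
      rw [← hk]
      exact Subgroup.index_map_dvd _ (QuotientGroup.mk'_surjective _)
    obtain ⟨j, -, hj⟩ := (Nat.dvd_prime_pow hp).1 hidx
    have hQ := ih _ hlt (G ⧸ Cfsg.pCore p G) rfl hsolvQ (hyp_quot hp _ h)
      (H.map (QuotientGroup.mk' (Cfsg.pCore p G))) hcard j hj
    intro x hx y hy
    have h1 := hQ _ (Subgroup.mem_map_of_mem _ hx) _ (Subgroup.mem_map_of_mem _ hy)
    rw [← map_mul, ← map_mul] at h1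
    have h2 : (x * y) * (y * x)⁻¹ ∈ Cfsg.pCore p G := by
      rw [← QuotientGroup.ker_mk' (Cfsg.pCore p G), MonoidHom.mem_ker, map_mul, map_inv, h1,
        mul_inv_cancel]
    have h3 : (x * y) * (y * x)⁻¹ ∈ H := H.mul_mem (H.mul_mem hx hy) (H.inv_mem (H.mul_mem hy hx))
    have hcopc : (Nat.card (Cfsg.pCore p G)).Coprime (Nat.card H) := by
      obtain ⟨a, ha⟩ := IsPGroup.iff_card.1
        (Cfsg.Agent.Lib.Helper1.pCore_isPGroup (p := p) (G := G))
      rw [ha]
      exact Nat.Coprime.pow_left a ((Nat.Prime.coprime_iff_not_dvd hp).2 hH)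
    have h4 : Cfsg.pCore p G ⊓ H = ⊥ :=
      disjoint_iff.1 (Subgroup.disjoint_of_coprime_natCard hcopc)
    have h5 : (x * y) * (y * x)⁻¹ ∈ Cfsg.pCore p G ⊓ H := Subgroup.mem_inf.2 ⟨h2, h3⟩
    rw [h4, Subgroup.mem_bot] at h5
    exact mul_inv_eq_one.1 h5

/-- a group with an abelian `p`-complement is solvable -/
theorem solvable_of_complement {p : ℕ} (hp : p.Prime) : ∀ (n : ℕ) (G : Type u) [Group G]
    [Finite G], Nat.card G = n → ∀ (H : Subgroup G), (∀ x ∈ H, ∀ y ∈ H, x * y = y * x) →
    ¬ p ∣ Nat.card H → ∀ k : ℕ, H.index = p ^ k → Group.IsSolvable G := by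
  intro n
  induction n using Nat.strong_induction_on with
  | _ n ih =>
  intro G _ _ hn H hcomm hH k hk
  by_cases hsub : Subsingleton G
  · infer_instance
  haveI : Nontrivial G := not_subsingleton_iff_nontrivial.1 hsub
  by_cases hs : IsSimpleGroup G
  · by_cases hb : H = ⊥
    · rw [hb, Subgroup.index_bot] at hk
      exact solvable_of_prime_pow hp k hk
    · have hex : ∃ x ∈ H, x ≠ 1 := by
        by_contra hcon
        push Not at hcon
        exact hb ((Subgroup.eq_bot_iff_forall H).2 hcon)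
      obtain ⟨x, hx, hx1⟩ := hex
      have hle : H ≤ Subgroup.centralizer ({x} : Set G) := by
        intro y hy
        rw [Subgroup.mem_centralizer_singleton_iff]
        exact (hcomm x hx y hy).symm
      have hd : (Subgroup.centralizer ({x} : Set G)).index ∣ p ^ k := by
        rw [← hk]; exact Subgroup.index_dvd_of_le hle
      obtain ⟨j, -, hj⟩ := (Nat.dvd_prime_pow hp).1 hd
      exact solvable_simple hp x hx1 j hj
  · obtain ⟨N, hN, hNb, hNt⟩ := exists_proper_normal hs
    haveI := hN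
    have h1 : Group.IsSolvable N := by
      have hidx : (H.subgroupOf N).index ∣ p ^ k := by
        rw [← hk]; exact relIndex_dvd_of_normal H N
      obtain ⟨j, -, hj⟩ := (Nat.dvd_prime_pow hp).1 hidx
      refine ih _ (by rw [← hn]; exact Cfsg.Agent.Lib.Helper4.card_lt_of_ne_top N hNt) N rfl
        (H.subgroupOf N) ?_ ?_ j hj
      · intro a ha b hb
        rw [Subgroup.mem_subgroupOf] at ha hb
        apply Subtype.ext
        simpa using hcomm _ ha _ hb
      · intro hd
        apply hH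
        refine hd.trans ?_
        rw [← Subgroup.inf_subgroupOf_right,
          Nat.card_congr (Subgroup.subgroupOfEquivOfLe (inf_le_right : H ⊓ N ≤ N)).toEquiv]
        exact Subgroup.card_dvd_of_le inf_le_left
    have h2 : Group.IsSolvable (G ⧸ N) := by
      have hidx : (H.map (QuotientGroup.mk' N)).index ∣ p ^ k := by
        rw [← hk]; exact Subgroup.index_map_dvd _ (QuotientGroup.mk'_surjective _)
      obtain ⟨j, -, hj⟩ := (Nat.dvd_prime_pow hp).1 hidx
      refine ih _ (by rw [← hn]; exact Cfsg.Agent.Lib.Helper4.card_quot_lt N hNb) (G ⧸ N) rfl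
        (H.map (QuotientGroup.mk' N)) ?_ ?_ j hj
      · rintro _ ⟨a, ha, rfl⟩ _ ⟨b, hb, rfl⟩
        rw [← map_mul, ← map_mul, hcomm a ha b hb]
      · intro hd
        exact hH (hd.trans (Subgroup.card_map_dvd _ _))
    exact solvable_of_normal_quot N h1 h2

theorem result {G : Type*} [Group G] [Finite G] {p : ℕ} (hp : p.Prime) :
    (∀ x : G, (orderOf x).Coprime p → ∃ k : ℕ, (ConjClasses.mk x).carrier.ncard = p ^ k) ↔
    (∃ H : Subgroup G, IsMulCommutative H ∧ ¬ p ∣ Nat.card H ∧ ∃ k : ℕ, H.index = p ^ k) := by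
  constructor
  · intro h
    have hyp : Hyp p G := by
      intro x hx
      obtain ⟨k, hk⟩ := h x hx
      exact ⟨k, by rw [← ncard_carrier, hk]⟩
    haveI hsolv : Group.IsSolvable G := hyp_solvable hp _ G rfl hyp
    have hne : Nat.card G ≠ 0 := Nat.card_pos.ne'
    obtain ⟨a, m, hm, hom⟩ := Nat.exists_eq_pow_mul_and_not_dvd hne p hp.ne_one
    have hG : Nat.card G = m * p ^ a := by rw [hom, mul_comm]
    have hcop : m.Coprime (p ^ a) :=
      Nat.Coprime.pow_right a ((Nat.Prime.coprime_iff_not_dvd hp).2 hm).symm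
    obtain ⟨H, hH⟩ := Cfsg.Agent.S0003.result (G := G) m (p ^ a) hG hcop
    have hidx : H.index = p ^ a := index_of_card H m a hG hH
    have hnd : ¬ p ∣ Nat.card H := by rw [hH]; exact hm
    have hc := hyp_comm hp _ G rfl hsolv hyp H hnd a hidx
    exact ⟨H, ⟨⟨fun x y => Subtype.ext (hc x.1 x.2 y.1 y.2)⟩⟩, hnd, a, hidx⟩
  · rintro ⟨H, hHc, hnd, k, hk⟩ x hx
    have hcomm : ∀ x ∈ H, ∀ y ∈ H, x * y = y * x := by
      intro a ha b hb
      have := hHc.is_comm.comm (⟨a, ha⟩ : H) ⟨b, hb⟩
      exact congrArg Subtype.val this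
    haveI hsolv : Group.IsSolvable G := solvable_of_complement hp _ G rfl H hcomm hnd k hk
    have hG : Nat.card G = Nat.card H * p ^ k := by rw [← hk, Subgroup.card_mul_index]
    have hHcop : (Nat.card H).Coprime p := ((Nat.Prime.coprime_iff_not_dvd hp).2 hnd).symm
    have hcop : (Nat.card H).Coprime (p ^ k) := Nat.Coprime.pow_right k hHcop
    have hz : (Nat.card (Subgroup.zpowers x)).Coprime (p ^ k) := by
      rw [Nat.card_zpowers]
      exact Nat.Coprime.pow_right k hx
    obtain ⟨H', hH'card, hxH'⟩ :=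
      Cfsg.Agent.S0005.result (G := G) (Nat.card H) (p ^ k) hG hcop (Subgroup.zpowers x) hz
    obtain ⟨g, hg⟩ := Cfsg.Agent.S0004.result (G := G) (Nat.card H) (p ^ k) hG hcop H H' rfl hH'card
    have hH'comm : ∀ a ∈ H', ∀ b ∈ H', a * b = b * a := by
      intro a ha b hb
      rw [← hg] at ha hb
      obtain ⟨a', ha', rfl⟩ := (Subgroup.mem_smul_pointwise_iff_exists _ _ _).1 ha
      obtain ⟨b', hb', rfl⟩ := (Subgroup.mem_smul_pointwise_iff_exists _ _ _).1 hb
      rw [← smul_mul', ← smul_mul', hcomm a' ha' b' hb']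
    have hle : H' ≤ Subgroup.centralizer ({x} : Set G) := by
      intro y hy
      rw [Subgroup.mem_centralizer_singleton_iff]
      exact (hH'comm x (hxH' (Subgroup.mem_zpowers x)) y hy).symm
    have hidx' : H'.index = p ^ k := index_of_card H' (Nat.card H) k hG hH'card
    have hd : (Subgroup.centralizer ({x} : Set G)).index ∣ p ^ k := by
      rw [← hidx']; exact Subgroup.index_dvd_of_le hle
    obtain ⟨j, -, hj⟩ := (Nat.dvd_prime_pow hp).1 hd
    exact ⟨j, by rw [ncard_carrier, hj]⟩

end Cfsg.Agent.S4034
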