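import Cfsg.Statements.S4035
import Mathlib
import Cfsg.Agent.Lib.Helper6.ConjCover

set_option autoImplicit false
open Cfsg Cfsg.Agent.Lib.Helper6

namespace Cfsg.Agent.S4035

/-- Let G be a finite group and p a prime such that p divides the size of no conjugacy class of p-regular elements (elements of order prime to p). Then G is the internal direct product of a Sylow p-subgroup P and a normal subgroup H of order prime to p: P is normal, P ⊓ H = 1 and PH = G. -/
theorem result {G : Type*} [Group G] [Finite G] {p : ℕ} [Fact p.Prime]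
    (h : ∀ x : G, (orderOf x).Coprime p → ¬ p ∣ (ConjClasses.mk x).carrier.ncard) (P : Sylow p G) :
    (P : Subgroup G).Normal ∧ ∃ H : Subgroup G, H.Normal ∧ ¬ p ∣ Nat.card H ∧
      (P : Subgroup G) ⊓ H = ⊥ ∧ (P : Subgroup G) ⊔ H = ⊤ := by
  classical
  -- Step 1
  have step1 : ∀ x : G, (orderOf x).Coprime p → ∃ g : G, ∀ u ∈ (P : Subgroup G), u * (g * x * g⁻¹) = (g * x * g⁻¹) * u := by
    intro x hx
    have hidx : ¬ p ∣ (Subgroup.centralizer ({x} : Set G)).index := by
      rw [← ncard_class_eq_index]; exact h x hx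
    obtain ⟨Q₀⟩ : Nonempty (Sylow p (Subgroup.centralizer ({x} : Set G))) := Sylow.nonempty
    have hpQ : IsPGroup p (Q₀.map (Subgroup.centralizer ({x} : Set G)).subtype : Subgroup G) :=
      Q₀.2.map _
    have hQidx : ¬ p ∣ ((Q₀ : Subgroup _).map (Subgroup.centralizer ({x} : Set G)).subtype : Subgroup G).index := by
      rw [Subgroup.index_map_subtype]
      exact Nat.Prime.not_dvd_mul Fact.out Q₀.not_dvd_index hidx
    obtain ⟨g, hg⟩ := MulAction.exists_smul_eq G (hpQ.toSylow hQidx) P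
    refine ⟨g, ?_⟩
    intro u hu
    have hu' : u ∈ ((g • (hpQ.toSylow hQidx) : Sylow p G) : Subgroup G) := by rw [hg]; exact hu
    rw [Sylow.coe_subgroup_smul, Subgroup.mem_pointwise_smul_iff_inv_smul_mem] at hu'
    have hu2 : g⁻¹ * u * g ∈ ((Q₀ : Subgroup _).map (Subgroup.centralizer ({x} : Set G)).subtype : Subgroup G) := by
      simpa [MulAut.smul_def] using hu'
    obtain ⟨w, _, hw⟩ := hu2
    have hwc : (w : G) ∈ Subgroup.centralizer ({x} : Set G) := w.2
    rw [Subgroup.mem_centralizer_singleton_iff] at hwc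
    have hw' : (w : G) = g⁻¹ * u * g := hw
    rw [hw'] at hwc
    -- hwc : g⁻¹ * u * g * x = x * (g⁻¹ * u * g)  (or reversed)
    have : u = g * (g⁻¹ * u * g) * g⁻¹ := by group
    calc u * (g * x * g⁻¹) = g * ((g⁻¹ * u * g) * x) * g⁻¹ := by group
      _ = g * (x * (g⁻¹ * u * g)) * g⁻¹ := by rw [hwc]
      _ = (g * x * g⁻¹) * u := by group
  -- Step 2/3
  have hM : (P : Subgroup G) ⊔ Subgroup.centralizer ((P : Subgroup G) : Set G) = ⊤ := by
    by_contra hne
    obtain ⟨y, hy⟩ := exists_forall_conj_not_mem _ hne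
    obtain ⟨y1, y2, hy12, hcomm, ⟨k, hk⟩, hy2⟩ := exists_pparts p y
    obtain ⟨g, hg⟩ := step1 y2 hy2
    -- K' = centralizer of g y2 g⁻¹
    obtain ⟨z2, hz2⟩ : ∃ z2, z2 = g * y2 * g⁻¹ := ⟨_, rfl⟩
    obtain ⟨z1, hz1⟩ : ∃ z1, z1 = g * y1 * g⁻¹ := ⟨_, rfl⟩
    rw [← hz2] at hg
    have hz12 : Commute z1 z2 := by
      rw [hz1, hz2]
      show g * y1 * g⁻¹ * (g * y2 * g⁻¹) = g * y2 * g⁻¹ * (g * y1 * g⁻¹)
      have := hcomm.eq
      calc g * y1 * g⁻¹ * (g * y2 * g⁻¹) = g * (y1 * y2) * g⁻¹ := by group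
        _ = g * (y2 * y1) * g⁻¹ := by rw [this]
        _ = g * y2 * g⁻¹ * (g * y1 * g⁻¹) := by group
    have hPK : (P : Subgroup G) ≤ Subgroup.centralizer ({z2} : Set G) := by
      intro u hu
      rw [Subgroup.mem_centralizer_singleton_iff]
      exact (hg u hu)
    have hz1K : z1 ∈ Subgroup.centralizer ({z2} : Set G) := by
      rw [Subgroup.mem_centralizer_singleton_iff]
      exact hz12.eq
    -- z1 is a p-element of K'
    have hz1p : IsPGroup p (Subgroup.zpowers (⟨z1, hz1K⟩ : Subgroup.centralizer ({z2} : Set G))) := by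
      have hz1k : z1 ^ (p ^ k) = 1 := by
        rw [hz1, conj_pow, hk]; group
      intro w
      obtain ⟨i, hi⟩ := Subgroup.mem_zpowers_iff.mp w.2
      refine ⟨k, ?_⟩
      apply Subtype.ext
      rw [Subgroup.coe_pow, ← hi, ← zpow_natCast, ← zpow_mul, mul_comm, zpow_mul, zpow_natCast]
      have : (⟨z1, hz1K⟩ : Subgroup.centralizer ({z2} : Set G)) ^ (p ^ k) = 1 := by
        apply Subtype.ext
        rw [Subgroup.coe_pow]; exact hz1k
      rw [this, one_zpow]; rfl
    obtain ⟨Q, hQ⟩ := hz1p.exists_le_sylow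
    obtain ⟨c, hc⟩ := MulAction.exists_smul_eq (Subgroup.centralizer ({z2} : Set G)) Q (P.subtype hPK)
    have hmem : (⟨z1, hz1K⟩ : Subgroup.centralizer ({z2} : Set G)) ∈ (Q : Subgroup _) :=
      hQ (Subgroup.mem_zpowers _)
    have hmem2 : c * ⟨z1, hz1K⟩ * c⁻¹ ∈ ((c • Q : Sylow p _) : Subgroup (Subgroup.centralizer ({z2} : Set G))) := by
      rw [Sylow.coe_subgroup_smul, Subgroup.mem_pointwise_smul_iff_inv_smul_mem]
      have e : (MulAut.conj c)⁻¹ • (c * ⟨z1, hz1K⟩ * c⁻¹) = (⟨z1, hz1K⟩ : Subgroup.centralizer ({z2} : Set G)) := by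
        rw [MulAut.smul_def, ← map_inv, MulAut.conj_apply]; group
      rw [e]; exact hmem
    rw [hc] at hmem2
    have hmem3 : (c : G) * z1 * (c : G)⁻¹ ∈ (P : Subgroup G) := by
      have := hmem2
      rw [Sylow.coe_subtype, Subgroup.mem_subgroupOf] at this
      simpa using this
    have hcz2 : (c : G) * z2 * (c : G)⁻¹ = z2 := by
      have := c.2
      rw [Subgroup.mem_centralizer_singleton_iff] at this
      rw [this]; group
    apply hy ((c : G) * g)⁻¹
    have hconj : ((c : G) * g)⁻¹⁻¹ * y * ((c : G) * g)⁻¹ = ((c : G) * z1 * (c : G)⁻¹) * z2 := by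
      obtain ⟨c', hc'⟩ : ∃ c' : G, c' = (c : G) := ⟨_, rfl⟩
      rw [← hc'] at hcz2 ⊢
      rw [hy12, ← hcz2, hz1, hz2]; group
    rw [hconj]
    apply Subgroup.mul_mem_sup hmem3
    rw [Subgroup.mem_centralizer_iff]
    intro u hu
    exact hg u hu
  -- Step 4: P normal
  have hPn : (P : Subgroup G).Normal := by
    rw [← Subgroup.normalizer_eq_top_iff (H := (P : Subgroup G))]
    rw [eq_top_iff, ← hM]
    apply sup_le Subgroup.le_normalizer
    exact Subgroup.centralizer_le_normalizer _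
  refine ⟨hPn, ?_⟩
  haveI := hPn
  obtain ⟨H, hH⟩ := Subgroup.exists_right_complement'_of_coprime (N := (P : Subgroup G)) P.card_coprime_index
  -- every element of G is u * c
  have hdec : ∀ x : G, ∃ u ∈ (P : Subgroup G), ∃ c ∈ Subgroup.centralizer ((P : Subgroup G) : Set G), x = u * c := by
    intro x
    have hx : x ∈ (P : Subgroup G) ⊔ Subgroup.centralizer ((P : Subgroup G) : Set G) := by rw [hM]; trivial
    rw [Subgroup.mem_sup_of_normal_left] at hx
    obtain ⟨u, hu, c, hc, rfl⟩ := hx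
    exact ⟨u, hu, c, hc, rfl⟩
  have hcardH : Nat.card H = (P : Subgroup G).index := by
    have h1 := hH.card_mul_card
    have h2 := (P : Subgroup G).card_mul_index
    have h3 : 0 < Nat.card (P : Subgroup G) := Nat.card_pos
    exact Nat.eq_of_mul_eq_mul_left h3 (h1.trans h2.symm)
  have hpH : ¬ p ∣ Nat.card H := by rw [hcardH]; exact P.not_dvd_index
  -- H ≤ centralizer P
  have hHC : H ≤ Subgroup.centralizer ((P : Subgroup G) : Set G) := by
    intro x hx
    obtain ⟨u, hu, c, hc, rfl⟩ := hdec x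
    have hcomm : Commute u c := by
      rw [Subgroup.mem_centralizer_iff] at hc
      exact (hc u hu)
    -- order of x coprime to p
    have hn : (orderOf (u * c)).Coprime p := by
      have hdvd : orderOf (u * c) ∣ Nat.card H := by
        have := orderOf_dvd_natCard (⟨u * c, hx⟩ : H)
        rwa [Subgroup.orderOf_mk] at this
      exact Nat.Coprime.coprime_dvd_left hdvd ((Nat.Prime.coprime_iff_not_dvd Fact.out).mpr hpH).symm
    have hpow : (u * c) ^ orderOf (u * c) = 1 := pow_orderOf_eq_one _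
    rw [hcomm.mul_pow] at hpow
    have hun : u ^ orderOf (u * c) ∈ Subgroup.centralizer ((P : Subgroup G) : Set G) := by
      have : u ^ orderOf (u * c) = (c ^ orderOf (u * c))⁻¹ := eq_inv_of_mul_eq_one_left hpow
      rw [this]
      exact Subgroup.inv_mem _ (Subgroup.pow_mem _ hc _)
    obtain ⟨k, hk⟩ := (P.2 ⟨u, hu⟩)
    have hk' : u ^ (p ^ k) = 1 := by
      have := congrArg Subtype.val hk
      simpa using this
    have hcop : Nat.Coprime (orderOf (u * c)) (p ^ k) := Nat.Coprime.pow_right k hn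
    have hu_mem : u ∈ Subgroup.centralizer ((P : Subgroup G) : Set G) := by
      have hbez := Nat.gcd_eq_gcd_ab (orderOf (u * c)) (p ^ k)
      rw [hcop.gcd_eq_one] at hbez
      have : u = (u ^ orderOf (u * c)) ^ (Nat.gcdA (orderOf (u * c)) (p ^ k)) * (u ^ (p ^ k)) ^ (Nat.gcdB (orderOf (u * c)) (p ^ k)) := by
        rw [← zpow_natCast u, ← zpow_natCast u, ← zpow_mul, ← zpow_mul, ← zpow_add, ← hbez]; simp
      rw [this, hk', one_zpow, mul_one]
      exact Subgroup.zpow_mem _ hun _
    exact Subgroup.mul_mem _ hu_mem hc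
  -- H normal
  have hHn : H.Normal := by
    constructor
    intro n hn x
    obtain ⟨⟨⟨v, hv⟩, ⟨w, hw⟩⟩, hvw, -⟩ := hH.existsUnique x
    have hvw' : v * w = x := hvw
    have hcv : ∀ t ∈ H, v * t = t * v := by
      intro t ht
      have := hHC ht
      rw [Subgroup.mem_centralizer_iff] at this
      exact (this v hv)
    rw [← hvw']
    have hwn : w * n * w⁻¹ ∈ H := H.mul_mem (H.mul_mem hw hn) (H.inv_mem hw)
    have : v * w * n * (v * w)⁻¹ = w * n * w⁻¹ := by
      have h1 := hcv _ hwn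
      calc v * w * n * (v * w)⁻¹ = v * (w * n * w⁻¹) * v⁻¹ := by group
        _ = (w * n * w⁻¹) * v * v⁻¹ := by rw [h1]
        _ = w * n * w⁻¹ := by group
    rw [this]; exact hwn
  exact ⟨H, hHn, hpH, hH.disjoint.eq_bot, hH.sup_eq_top⟩

end Cfsg.Agent.S4035
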