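import Mathlib
import Cfsg.Statements.S4036

set_option autoImplicit false
open Cfsg

namespace Cfsg.Agent.S4036

theorem result {P : Type*} [CommGroup P] [Finite P] {p : ℕ}
    [Fact p.Prime] (hP : IsPGroup p P) (K : Subgroup (MulAut P)) (hK : p ∣ Nat.card K)
    (hfix : ∀ x y : MulAut P, x ∈ K → y ∈ K → x ≠ 1 → y ≠ 1 → ∀ v : P, x v = v ↔ y v = v) :
    ∀ N : Subgroup ↥K, N.Normal → ¬ p ∣ Nat.card N → N = ⊥ := by
  classical
  intro N hNn hpN
  have hpp : p.Prime := Fact.out
  by_contra hNbot
  haveI : Finite (MulAut P) := Finite.of_injective (fun f : MulAut P => (f : P → P))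
    (fun f g h => MulEquiv.ext (congrFun h))
  haveI : Fintype N := Fintype.ofFinite _
  -- a non-identity element of N
  obtain ⟨n₀, hn₀1⟩ := (Subgroup.ne_bot_iff_exists_ne_one.1 hNbot)
  have hx₀K : ((n₀ : K) : MulAut P) ∈ K := (n₀ : K).2
  have hx₀1 : ((n₀ : K) : MulAut P) ≠ 1 := by
    intro h
    apply hn₀1
    apply Subtype.ext
    apply Subtype.ext
    exact h
  -- an element of order p
  obtain ⟨σ, hσ⟩ := exists_prime_orderOf_dvd_card' p hK
  have hσK : (σ : MulAut P) ∈ K := σ.2
  have hσ1 : (σ : MulAut P) ≠ 1 := by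
    intro h
    have : σ = 1 := Subtype.ext h
    rw [this, orderOf_one] at hσ
    exact hpp.one_lt.ne hσ
  have hσp : (σ : MulAut P) ^ p = 1 := by
    have := pow_orderOf_eq_one σ
    rw [hσ] at this
    have h2 := congrArg (Subtype.val) this
    simpa using h2
  -- the norm map
  let ν : P →* P :=
    { toFun := fun v => ∏ n : N, (((n : K) : MulAut P) v)
      map_one' := by simp
      map_mul' := by
        intro a b
        simp only [map_mul]
        exact Finset.prod_mul_distrib }
  have hν : ∀ v, ν v = ∏ n : N, (((n : K) : MulAut P) v) := fun v => rfl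
  -- ν v is fixed by n₀, hence by σ
  have hνfix : ∀ v, ((n₀ : K) : MulAut P) (ν v) = ν v := by
    intro v
    rw [hν, map_prod]
    exact Fintype.prod_equiv (Equiv.mulLeft n₀) _ _ (fun n => by simp [MulAut.mul_apply])
  have hνσ : ∀ v, (σ : MulAut P) (ν v) = ν v := fun v =>
    (hfix _ _ hx₀K hσK hx₀1 hσ1 (ν v)).1 (hνfix v)
  -- ν commutes with σ
  have hconj : ∀ n : N, σ⁻¹ * (n : K) * σ ∈ N := by
    intro n
    have := hNn.conj_mem (n : K) n.2 σ⁻¹
    simpa using this
  have hνcomm : ∀ v, ν ((σ : MulAut P) v) = (σ : MulAut P) (ν v) := by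
    intro v
    rw [hν, hν, map_prod]
    let e : N ≃ N :=
      { toFun := fun n => ⟨σ⁻¹ * (n : K) * σ, hconj n⟩
        invFun := fun n => ⟨σ * (n : K) * σ⁻¹, by
          have := hNn.conj_mem (n : K) n.2 σ
          exact this⟩
        left_inv := fun n => by apply Subtype.ext; simp [mul_assoc]
        right_inv := fun n => by apply Subtype.ext; simp [mul_assoc] }
    refine Fintype.prod_equiv e _ _ (fun n => ?_)
    show ((n : K) : MulAut P) ((σ : MulAut P) v) =
      (σ : MulAut P) ((((σ⁻¹ * (n : K) * σ : K)) : MulAut P) v)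
    simp [MulAut.mul_apply]
  -- fixed points of σ in the kernel are trivial
  have hcoprime : ∀ v : P, v ^ Nat.card N = 1 → v = 1 := by
    intro v hv
    obtain ⟨k, hk⟩ := hP v
    have h1 : orderOf v ∣ Nat.card N := orderOf_dvd_of_pow_eq_one hv
    have h2 : orderOf v ∣ p ^ k := orderOf_dvd_of_pow_eq_one hk
    have hcop : Nat.Coprime (Nat.card N) (p ^ k) :=
      Nat.Coprime.pow_right k ((Nat.Prime.coprime_iff_not_dvd hpp).2 hpN).symm
    have : orderOf v = 1 := Nat.dvd_one.1 (hcop ▸ Nat.dvd_gcd h1 h2)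
    exact orderOf_eq_one_iff.1 this
  have hkerfix : ∀ v, ν v = 1 → (σ : MulAut P) v = v → v = 1 := by
    intro v hv hσv
    apply hcoprime
    rw [← hv, hν]
    have : ∀ n : N, ((n : K) : MulAut P) v = v := by
      intro n
      by_cases hn : ((n : K) : MulAut P) = 1
      · rw [hn]; rfl
      · exact (hfix _ _ hσK (n : K).2 hσ1 hn v).1 hσv
    rw [Finset.prod_congr rfl (fun n _ => this n), Finset.prod_const, Finset.card_univ,
      Nat.card_eq_fintype_card]
  -- the kernel is trivial
  have hker : ν.ker = ⊥ := by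
    haveI : Fintype ν.ker := Fintype.ofFinite _
    let f : Function.End ν.ker := fun w => ⟨(σ : MulAut P) w.1, by
      rw [MonoidHom.mem_ker, hνcomm, (MonoidHom.mem_ker).1 w.2, map_one]⟩
    have hfpow : ∀ (k : ℕ) (w : ν.ker), (((f ^ k) w : ν.ker) : P) = ((σ : MulAut P) ^ k) (w : P) := by
      intro k
      induction k with
      | zero => intro w; rw [pow_zero, pow_zero]; rfl
      | succ k ih =>
        intro w
        rw [pow_succ, pow_succ]
        show (((f ^ k) (f w) : ν.ker) : P) = _
        rw [ih (f w)]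
        rfl
    have hfp : f ^ p ^ 1 = 1 := by
      funext w
      apply Subtype.ext
      rw [pow_one, hfpow, hσp]
      rfl
    have hmod := Equiv.Perm.card_fixedPoints_modEq (p := p) (n := 1) hfp
    have hfixed : Fintype.card (Function.fixedPoints f) = 1 := by
      rw [Fintype.card_eq_one_iff]
      refine ⟨⟨1, by
        show f 1 = 1
        apply Subtype.ext
        show (σ : MulAut P) 1 = 1
        simp⟩, ?_⟩
      rintro ⟨w, hw⟩
      apply Subtype.ext
      apply Subtype.ext
      have hw' : (σ : MulAut P) (w : P) = (w : P) := congrArg Subtype.val hw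
      exact hkerfix w ((MonoidHom.mem_ker).1 w.2) hw'
    rw [hfixed] at hmod
    have hpk : IsPGroup p ν.ker := hP.to_subgroup _
    obtain ⟨j, hj⟩ := IsPGroup.exists_card_eq hpk
    rw [Nat.card_eq_fintype_card] at hj
    rw [hj] at hmod
    have hj0 : j = 0 := by
      by_contra h
      have h1 : p ∣ p ^ j := dvd_pow_self p h
      have h2 : p ^ j % p = 0 := Nat.mod_eq_zero_of_dvd h1
      have h3 : p ^ j % p = 1 % p := hmod
      rw [h2, Nat.mod_eq_of_lt hpp.one_lt] at h3
      exact absurd h3 (by norm_num)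
    rw [hj0, pow_zero] at hj
    rw [← Subgroup.card_eq_one, Nat.card_eq_fintype_card, hj]
  -- ν is bijective, so everything is fixed by n₀
  have hinj : Function.Injective ν := (MonoidHom.ker_eq_bot_iff ν).1 hker
  have hsurj : Function.Surjective ν := Finite.injective_iff_surjective.1 hinj
  apply hx₀1
  apply MulEquiv.ext
  intro w
  obtain ⟨v, rfl⟩ := hsurj w
  rw [hνfix]
  rfl

end Cfsg.Agent.S4036
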