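import Cfsg.Statements.S4043
import Cfsg.Agent.Lib.Helper4.Hall
import Cfsg.Agent.Lib.Helper4.PGroupLemmas
import Cfsg.Agent.Lib.Helper7.Real

set_option autoImplicit false

open Cfsg

namespace Cfsg.Agent.S4043

open Cfsg.Agent.Lib.Helper4 Cfsg.Agent.Lib.Helper7

section
variable {G : Type*} [Group G] [Finite G] {p : ℕ} [hp : Fact p.Prime]

/-- data extracted from a normal `p`-complement of the subgroup `A` -/
lemma extract (A : Subgroup G) (hAp : HasNormalPComplement p A) :
    ∃ (K Q : Subgroup G) (a : ℕ), K ≤ A ∧ Q ≤ A ∧ A ≤ Subgroup.normalizer (K : Set G) ∧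
      K ⊔ Q = A ∧ IsPGroup p Q ∧ (Nat.card K).Coprime p ∧ Nat.card A = Nat.card K * p ^ a := by
  obtain ⟨P, K0, hK0n, hc⟩ := hAp
  have h1 : Nat.card K0 * Nat.card P = Nat.card A := hc.card_mul_card
  have h2 : Nat.card P = p ^ (Nat.card A).factorization p := Sylow.card_eq_multiplicity P
  have hApos : Nat.card A ≠ 0 := Nat.card_pos.ne'
  have h3 : Nat.card K0 = (Nat.card A) / p ^ (Nat.card A).factorization p := by
    have : Nat.card A = Nat.card K0 * p ^ (Nat.card A).factorization p := by rw [← h2, h1]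
    exact (Nat.div_eq_of_eq_mul_left (pow_pos hp.out.pos _) this).symm
  have h4 : (Nat.card K0).Coprime p := by
    rw [h3]; exact (Nat.coprime_ordCompl hp.out hApos).symm
  have hcK : Nat.card (K0.map A.subtype) = Nat.card K0 :=
    Subgroup.card_map_of_injective A.subtype_injective
  refine ⟨K0.map A.subtype, (P : Subgroup A).map A.subtype, (Nat.card A).factorization p,
    Subgroup.map_subtype_le _, Subgroup.map_subtype_le _, ?_, ?_, P.2.map _, ?_, ?_⟩
  · have h5 := Subgroup.le_normalizer_map (H := K0) A.subtype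
    rw [Subgroup.normalizer_eq_top_iff.2 hK0n, ← MonoidHom.range_eq_map, Subgroup.range_subtype] at h5
    exact h5
  · rw [← Subgroup.map_sup, hc.sup_eq_top, ← MonoidHom.range_eq_map, Subgroup.range_subtype]
  · rw [hcK]; exact h4
  · rw [hcK, ← h2, h1]

/-- the key: `N_G(K) = A`. -/
lemma normalizer_eq (N : Subgroup G) [N.Normal] (hN : IsPGroup p N) (A : Subgroup G)
    (hA : A.IsComplement' N)
    (hC : ∀ n : G, n ∈ N → (∀ a : G, a ∈ A → a * n * a⁻¹ = n) → n = 1)
    (K Q : Subgroup G) (hQA : Q ≤ A) (hAK : A ≤ Subgroup.normalizer (K : Set G))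
    (hKQ : K ⊔ Q = A) (hQ : IsPGroup p Q) (hKc : (Nat.card K).Coprime p) :
    Subgroup.normalizer (K : Set G) = A := by
  obtain ⟨b, hb⟩ := (IsPGroup.iff_card).1 hN
  have hKN : K ⊓ N = ⊥ := by
    apply (Subgroup.disjoint_of_coprime_natCard _).eq_bot
    rw [hb]; exact Nat.Coprime.pow_right b hKc
  set D : Subgroup G := N ⊓ Subgroup.centralizer (K : Set G) with hD
  have hDp : IsPGroup p D := hN.to_le inf_le_left
  have hQD : Q ≤ Subgroup.normalizer (D : Set G) := by
    intro x hx
    have hxK : x ∈ Subgroup.normalizer (K : Set G) := hAK (hQA hx)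
    have key : ∀ y : G, y ∈ Subgroup.normalizer (K : Set G) → ∀ d ∈ D, y * d * y⁻¹ ∈ D := by
      intro y hy d hd
      have hd' := Subgroup.mem_inf.1 hd
      refine Subgroup.mem_inf.2 ⟨‹N.Normal›.conj_mem d hd'.1 y, ?_⟩
      rw [Subgroup.mem_centralizer_iff]
      intro k hk
      have hk' : y⁻¹ * k * y ∈ K := by
        have := (Subgroup.mem_normalizer_iff.1 (inv_mem hy) k).1 hk
        simpa using this
      have hcomm : (y⁻¹ * k * y) * d = d * (y⁻¹ * k * y) :=
        Subgroup.mem_centralizer_iff.1 hd'.2 _ hk'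
      calc k * (y * d * y⁻¹) = y * ((y⁻¹ * k * y) * d) * y⁻¹ := by group
        _ = y * (d * (y⁻¹ * k * y)) * y⁻¹ := by rw [hcomm]
        _ = y * d * y⁻¹ * k := by group
    rw [Subgroup.mem_normalizer_iff]
    intro d
    constructor
    · exact key x hxK d
    · intro h
      have := key x⁻¹ (inv_mem hxK) _ h
      have e : x⁻¹ * (x * d * x⁻¹) * x⁻¹⁻¹ = d := by group
      rwa [e] at this
  have hDbot : D = ⊥ := by
    by_contra hne
    set T : Subgroup G := Q ⊔ D with hT
    have hTp : IsPGroup p T := IsPGroup.to_sup_of_normal_right' hQ hDp hQD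
    have hDT : D ≤ T := le_sup_right
    have hTN : T ≤ Subgroup.normalizer (D : Set G) := sup_le hQD Subgroup.le_normalizer
    haveI : (D.subgroupOf T).Normal := (Subgroup.normal_subgroupOf_iff_le_normalizer hDT).2 hTN
    have hne' : D.subgroupOf T ≠ ⊥ := by
      intro h
      rw [Subgroup.subgroupOf_eq_bot] at h
      have := h.eq_bot
      rw [inf_eq_left.2 hDT] at this
      exact hne this
    obtain ⟨z, hzD, hz1, hzZ⟩ := exists_ne_one_mem_center_of_normal hTp (D.subgroupOf T) hne'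
    have hzD' : (z : G) ∈ N ∧ (z : G) ∈ Subgroup.centralizer (K : Set G) :=
      Subgroup.mem_inf.1 (Subgroup.mem_subgroupOf.1 hzD)
    have hzQ : Q ≤ Subgroup.centralizer ({(z : G)} : Set G) := by
      intro x hx
      rw [Subgroup.mem_centralizer_singleton_iff]
      have := (Subgroup.mem_center_iff.1 hzZ) ⟨x, le_sup_left (b := D) hx⟩
      have h2 := congrArg Subtype.val this
      simpa using h2
    have hzK : K ≤ Subgroup.centralizer ({(z : G)} : Set G) := by
      intro k hk
      rw [Subgroup.mem_centralizer_singleton_iff]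
      exact Subgroup.mem_centralizer_iff.1 hzD'.2 k hk
    have hzA : A ≤ Subgroup.centralizer ({(z : G)} : Set G) := by
      rw [← hKQ]; exact sup_le hzK hzQ
    have : (z : G) = 1 := by
      apply hC _ hzD'.1
      intro a ha
      have := Subgroup.mem_centralizer_singleton_iff.1 (hzA ha)
      rw [this, mul_inv_cancel_right]
    exact hz1 (Subtype.ext this)
  set L : Subgroup G := Subgroup.normalizer (K : Set G) with hL
  have hLN : L ⊓ N = ⊥ := by
    rw [eq_bot_iff]
    rintro x ⟨hxL, hxN⟩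
    have hxD : x ∈ D := by
      refine Subgroup.mem_inf.2 ⟨hxN, ?_⟩
      rw [Subgroup.mem_centralizer_iff]
      intro k hk
      have h1 : x * k * x⁻¹ * k⁻¹ ∈ K :=
        K.mul_mem ((Subgroup.mem_normalizer_iff.1 hxL k).1 hk) (K.inv_mem hk)
      have h2 : x * k * x⁻¹ * k⁻¹ ∈ N := by
        have : x * k * x⁻¹ * k⁻¹ = x * (k * x⁻¹ * k⁻¹) := by group
        rw [this]
        exact N.mul_mem hxN (‹N.Normal›.conj_mem _ (N.inv_mem hxN) k)
      have h3 : x * k * x⁻¹ * k⁻¹ ∈ K ⊓ N := ⟨h1, h2⟩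
      rw [hKN, Subgroup.mem_bot] at h3
      have e : k * x = (x * k * x⁻¹ * k⁻¹)⁻¹ * (x * k) := by group
      rw [e, h3, inv_one, one_mul]
    rw [hDbot] at hxD
    exact hxD
  have hcard : Nat.card L ≤ Nat.card A := by
    have h1 := card_sup_mul_inf_normal N L
    rw [hLN, Subgroup.card_bot, mul_one] at h1
    have h2 : Nat.card (L ⊔ N : Subgroup G) ≤ Nat.card G := Subgroup.card_le_card_group _
    rw [h1, ← hA.card_mul_card] at h2
    exact Nat.le_of_mul_le_mul_right h2 Nat.card_pos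
  exact (Subgroup.eq_of_le_of_card_ge hAK hcard).symm

end

/-- Let G be a finite group that is the semidirect product of a normal p-subgroup N by a subgroup A, and also of N by a subgroup A₁, where p is a prime and A and A₁ both have normal p-complements. If C_N(A) = C_N(A₁) = 1, then A₁ is conjugate to A by an element of N. -/
theorem result {G : Type*} [Group G] [Finite G] {p : ℕ}
    [Fact p.Prime] (N : Subgroup G) [N.Normal] (hN : IsPGroup p N) (A A₁ : Subgroup G)
    (hA : A.IsComplement' N) (hA₁ : A₁.IsComplement' N)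
    (hAp : Cfsg.HasNormalPComplement p A) (hA₁p : Cfsg.HasNormalPComplement p A₁)
    (hC : ∀ n : G, n ∈ N → (∀ a : G, a ∈ A → a * n * a⁻¹ = n) → n = 1)
    (hC₁ : ∀ n : G, n ∈ N → (∀ a : G, a ∈ A₁ → a * n * a⁻¹ = n) → n = 1) :
    ∃ n : G, n ∈ N ∧ A₁ = A.map (MulAut.conj n).toMonoidHom := by
  have hp : p.Prime := Fact.out
  obtain ⟨K, Q, a, hKA, hQA, hAK, hKQ, hQ, hKc, hcA⟩ := extract A hAp
  obtain ⟨K₁, Q₁, a₁, hKA₁, hQA₁, hAK₁, hKQ₁, hQ₁, hKc₁, hcA₁⟩ := extract A₁ hA₁p
  have hN1 := normalizer_eq N hN A hA hC K Q hQA hAK hKQ hQ hKc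
  have hN2 := normalizer_eq N hN A₁ hA₁ hC₁ K₁ Q₁ hQA₁ hAK₁ hKQ₁ hQ₁ hKc₁
  obtain ⟨b, hb⟩ := (IsPGroup.iff_card).1 hN
  have hcG : Nat.card G = Nat.card K * p ^ (a + b) := by
    rw [← hA.card_mul_card, hcA, hb, pow_add]; ring
  have hcG₁ : Nat.card G = Nat.card K₁ * p ^ (a₁ + b) := by
    rw [← hA₁.card_mul_card, hcA₁, hb, pow_add]; ring
  have hcardK : Nat.card K₁ = Nat.card K := by
    apply Nat.dvd_antisymm
    · have : Nat.card K₁ ∣ Nat.card K * p ^ (a + b) := ⟨p ^ (a₁ + b), by rw [← hcG, hcG₁]⟩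
      exact (Nat.Coprime.pow_right _ hKc₁).dvd_of_dvd_mul_right this
    · have : Nat.card K ∣ Nat.card K₁ * p ^ (a₁ + b) := ⟨p ^ (a + b), by rw [← hcG, hcG₁]⟩
      exact (Nat.Coprime.pow_right _ hKc).dvd_of_dvd_mul_right this
  have hKN : K ⊓ N = ⊥ := by
    apply (Subgroup.disjoint_of_coprime_natCard _).eq_bot
    rw [hb]; exact Nat.Coprime.pow_right b hKc
  set M : Subgroup G := N ⊔ K with hM
  have hcM : Nat.card M = Nat.card N * Nat.card K := by
    have h1 := card_sup_mul_inf_normal N K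
    rw [hKN, Subgroup.card_bot, mul_one, sup_comm] at h1
    rw [h1, mul_comm]
  have hMnorm : M.Normal := by
    rw [← Subgroup.normalizer_eq_top_iff, eq_top_iff, ← hA.sup_eq_top]
    apply sup_le
    · intro x hx
      rw [Subgroup.mem_normalizer_iff_map_conj_eq]
      show cj x M = M
      rw [hM, cj, Subgroup.map_sup]
      show cj x N ⊔ cj x K = N ⊔ K
      rw [cj_self_of_normal N x, cj_eq_of_mem_normalizer (hAK hx)]
    · exact le_sup_left.trans Subgroup.le_normalizer
  have hMidx : M.index = p ^ a := by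
    have h1 := Subgroup.index_mul_card M
    rw [hcM, ← hA.card_mul_card, hcA] at h1
    have hpos : 0 < Nat.card N * Nat.card K := Nat.mul_pos Nat.card_pos Nat.card_pos
    apply Nat.eq_of_mul_eq_mul_right hpos
    rw [h1]; ring
  have hK₁M : K₁ ≤ M := by
    intro x hx
    haveI := hMnorm
    apply mem_of_orderOf_coprime_index M x
    rw [hMidx]
    apply Nat.Coprime.pow_right
    have h1 : orderOf (⟨x, hx⟩ : K₁) ∣ Nat.card K₁ := orderOf_dvd_natCard _
    have h2 : orderOf (⟨x, hx⟩ : K₁) = orderOf x := Subgroup.orderOf_mk x hx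
    rw [← h2]
    exact Nat.Coprime.coprime_dvd_left h1 hKc₁
  have hMN : M ≤ Subgroup.normalizer (N : Set G) := by
    rw [Subgroup.normalizer_eq_top_iff.2 inferInstance]; exact le_top
  have hNsolv : Group.IsSolvable N := by
    have : Group.IsNilpotent N := hN.isNilpotent
    infer_instance
  obtain ⟨g, hg, hgK⟩ := sz_conj_sub M N K K₁ le_sup_left hMN le_sup_right hK₁M hcM.symm
    (by rw [hcardK]; exact hcM.symm) (by rw [hb]; exact (Nat.Coprime.pow_right b hKc).symm)
    (Or.inl hNsolv)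
  obtain ⟨n, hn, k, hk, rfl⟩ := Subgroup.mem_sup_of_normal_left.1 hg
  refine ⟨n, hn, ?_⟩
  rw [cj_mul, cj_self_of_mem' hk] at hgK
  show A₁ = cj n A
  rw [← hN2, ← hgK, cj_normalizer, hN1]

end Cfsg.Agent.S4043
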