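import Cfsg.Statements.S4049
import Cfsg.Agent.Lib.Helper7.NoRealOdd2
import Cfsg.Agent.Lib.Helper7.Real

set_option autoImplicit false
open Cfsg

namespace Cfsg.Agent.S4049

open Cfsg.Agent.Lib.Helper7

/-- Let G be a finite group such that N_G(H)/C_G(H) has odd order for every nontrivial subgroup H of odd order. Then the Sylow 2-subgroups of G are normal. -/
theorem result {G : Type*} [Group G] [Finite G]
    (hhom : ∀ H : Subgroup G, H ≠ ⊥ → ¬ 2 ∣ Nat.card ↥H →
        ¬ 2 ∣ (Subgroup.centralizer (H : Set G)).relIndex (Subgroup.normalizer (H : Set G))) (P : Sylow 2 G) :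
    (P : Subgroup G).Normal := by
  apply sylow_two_normal_of_no_real_odd
  intro x hconj hodd
  by_contra hx1
  obtain ⟨t, ⟨j, hj⟩, ht⟩ := exists_two_element_inverting x hconj
  set H := Subgroup.zpowers x with hH
  have hHbot : H ≠ ⊥ := by
    intro h
    apply hx1
    have : x ∈ H := Subgroup.mem_zpowers x
    rw [h, Subgroup.mem_bot] at this
    exact this
  have hHodd : ¬ 2 ∣ Nat.card ↥H := by
    rw [hH, Nat.card_zpowers]
    intro h2
    exact (Nat.not_even_iff_odd.mpr hodd) (even_iff_two_dvd.mpr h2)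
  have hrel := hhom H hHbot hHodd
  apply hrel
  have htN : t ∈ Subgroup.normalizer (H : Set G) := by
    apply mem_normalizer_of_conj_mem
    intro z hz
    obtain ⟨i, rfl⟩ := hz
    rw [← conj_zpow, ht]
    exact Subgroup.zpow_mem _ (Subgroup.inv_mem _ (Subgroup.mem_zpowers x)) i
  have htC : t ∉ Subgroup.centralizer (H : Set G) := by
    intro htC
    rw [Subgroup.mem_centralizer_iff] at htC
    have h1 := htC x (Subgroup.mem_zpowers x)
    have h2 : x = x⁻¹ := by
      rw [← ht, ← h1]; group
    have h3 : x ^ 2 = 1 := by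
      rw [pow_two]; nth_rewrite 2 [h2]; exact mul_inv_cancel x
    have hd2 : orderOf x ∣ 2 := orderOf_dvd_of_pow_eq_one h3
    rcases (Nat.dvd_prime Nat.prime_two).mp hd2 with h | h
    · exact hx1 (orderOf_eq_one_iff.mp h)
    · rw [h] at hodd
      exact absurd hodd (Nat.not_odd_iff_even.mpr even_two)
  -- the image of t in N/C has order a nontrivial power of 2
  haveI : ((Subgroup.centralizer (H : Set G)).subgroupOf (Subgroup.normalizer (H : Set G))).Normal :=
    inferInstance
  set tq : ↥(Subgroup.normalizer (H : Set G)) ⧸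
      (Subgroup.centralizer (H : Set G)).subgroupOf (Subgroup.normalizer (H : Set G)) :=
    QuotientGroup.mk' _ ⟨t, htN⟩ with htq
  have hne : tq ≠ 1 := by
    intro h
    rw [htq, QuotientGroup.mk'_apply, QuotientGroup.eq_one_iff, Subgroup.mem_subgroupOf] at h
    exact htC h
  have hd : orderOf tq ∣ 2 ^ j := by
    rw [← hj]
    have h1 : orderOf tq ∣ orderOf (⟨t, htN⟩ : ↥(Subgroup.normalizer (H : Set G))) :=
      orderOf_map_dvd _ _
    rwa [Subgroup.orderOf_mk] at h1
  obtain ⟨i, _, hi⟩ := (Nat.dvd_prime_pow Nat.prime_two).mp hd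
  have hi0 : i ≠ 0 := by
    rintro rfl
    rw [pow_zero, orderOf_eq_one_iff] at hi
    exact hne hi
  have h2 : 2 ∣ orderOf tq := by rw [hi]; exact dvd_pow_self 2 hi0
  have h3 : orderOf tq ∣ Nat.card (↥(Subgroup.normalizer (H : Set G)) ⧸
      (Subgroup.centralizer (H : Set G)).subgroupOf (Subgroup.normalizer (H : Set G))) :=
    orderOf_dvd_natCard tq
  rw [Subgroup.relIndex, Subgroup.index_eq_card]
  exact h2.trans h3

end Cfsg.Agent.S4049
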