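import Mathlib
import Cfsg.Statements.S4051
import Cfsg.Agent.Lib.Helper4.CoprimeSylow
import Cfsg.Agent.Lib.Helper7.PiHall
import Cfsg.Agent.Lib.Helper7.EltDecomp

set_option autoImplicit false
open Cfsg

namespace Cfsg.Agent.S4051

open Cfsg.Agent.Lib.Helper4 Cfsg.Agent.Lib.Helper7

universe u

theorem eq_one_of_piNum {X : Type*} [Group X] {π : Set ℕ} {g : X}
    (h1 : IsPiNum π (orderOf g)) (h2 : IsPiNum' π (orderOf g)) : g = 1 := by
  have : orderOf g = 1 := by
    by_contra h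
    obtain ⟨p, hp, hpd⟩ := Nat.exists_prime_and_dvd h
    exact h2 p hp hpd (h1 p hp hpd)
  exact orderOf_eq_one_iff.1 this

theorem mem_of_pow_mem_coprime {X : Type*} [Group X] [Finite X] (C : Subgroup X) (u : X) (b : ℕ)
    (hub : u ^ b ∈ C) (hcop : (orderOf u).Coprime b) : u ∈ C := by
  rcases Nat.lt_or_ge 1 (orderOf u) with h1 | h1
  · obtain ⟨m, -, hm⟩ := Nat.exists_mul_mod_eq_one_of_coprime hcop.symm h1
    have : u = (u ^ b) ^ m := by
      rw [← pow_mul, ← pow_mod_orderOf, hm, pow_one]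
    rw [this]
    exact C.pow_mem hub m
  · have : orderOf u = 1 := le_antisymm h1 (orderOf_pos u)
    rw [orderOf_eq_one_iff.1 this]
    exact C.one_mem

theorem mem_centralizer_of_piNum {G : Type*} [Group G] [Finite G] {π : Set ℕ} (Q : Subgroup G)
    (h : IsPiNum' π ((Subgroup.centralizer (Q : Set G)).relIndex (Subgroup.normalizer (Q : Set G))))
    (u : G) (hu : u ∈ Subgroup.normalizer (Q : Set G)) (huπ : IsPiNum π (orderOf u)) :
    u ∈ Subgroup.centralizer (Q : Set G) := by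
  have h1 := Subgroup.pow_index_mem
    ((Subgroup.centralizer (Q : Set G)).subgroupOf (Subgroup.normalizer (Q : Set G))) ⟨u, hu⟩
  rw [Subgroup.mem_subgroupOf] at h1
  have h2 : u ^ ((Subgroup.centralizer (Q : Set G)).relIndex (Subgroup.normalizer (Q : Set G))) ∈
      Subgroup.centralizer (Q : Set G) := by
    unfold Subgroup.relIndex
    simpa using h1
  exact mem_of_pow_mem_coprime _ u _ h2 (coprime_of_piNum huπ h)

theorem relIndex_ker_comap {G H : Type*} [Group G] [Group H] (f : G →* H)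
    (hf : Function.Surjective f) (Qb : Subgroup H) :
    f.ker.relIndex (Qb.comap f) = Nat.card Qb := by
  have h1 : f.ker = (⊥ : Subgroup H).comap f := (MonoidHom.comap_bot f).symm
  rw [h1, Subgroup.relIndex_comap, Subgroup.map_comap_eq_self_of_surjective hf,
    Subgroup.relIndex_bot_left]

theorem zpowers_solvable {X : Type*} [Group X] (g : X) :
    Group.IsSolvable (Subgroup.zpowers g) := by
  apply Group.isSolvable_of_comm
  intro a b
  obtain ⟨i, hi⟩ := Subgroup.mem_zpowers_iff.1 a.2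
  obtain ⟨j, hj⟩ := Subgroup.mem_zpowers_iff.1 b.2
  apply Subtype.ext
  rw [Subgroup.coe_mul, Subgroup.coe_mul, ← hi, ← hj, ← zpow_add, ← zpow_add, add_comm]

/-- a `π`-element normalizing a `q`-subgroup of `G/L` (`q ∉ π`, `L` a normal `π`-subgroup)
centralizes it, under the hypothesis on automizers of `π'`-subgroups -/
theorem key_q {G : Type u} [Group G] [Finite G] (π : Set ℕ)
    (hhom : ∀ H : Subgroup G, H ≠ ⊥ → (∀ p : ℕ, p.Prime → p ∣ Nat.card ↥H → p ∉ π) →
        ∀ p : ℕ, p.Prime → p ∣ (Subgroup.centralizer (H : Set G)).relIndex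
          (Subgroup.normalizer (H : Set G)) → p ∉ π)
    (L : Subgroup G) [L.Normal]
    (q : ℕ) [hqp : Fact q.Prime] (hq : q ∉ π)
    (x : G) (hx : IsPiNum π (orderOf x))
    (Qb : Subgroup (G ⧸ L)) (hQb : IsPGroup q Qb)
    (hxQ : QuotientGroup.mk' L x ∈ Subgroup.normalizer (Qb : Set (G ⧸ L))) :
    Qb ≤ Subgroup.centralizer {QuotientGroup.mk' L x} := by
  have hsurj : Function.Surjective (QuotientGroup.mk' L) := QuotientGroup.mk'_surjective L
  have hker : ∀ g : G, QuotientGroup.mk' L g = 1 ↔ g ∈ L := fun g => QuotientGroup.eq_one_iff g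
  set Y := Qb.comap (QuotientGroup.mk' L) with hY
  have hLY : L ≤ Y := by
    intro l hl
    rw [hY, Subgroup.mem_comap, (hker l).2 hl]
    exact Qb.one_mem
  have hxY : x ∈ Subgroup.normalizer (Y : Set G) :=
    Subgroup.le_normalizer_comap (QuotientGroup.mk' L) (Subgroup.mem_comap.2 hxQ)
  obtain ⟨R⟩ : Nonempty (Sylow q ↥Y) := inferInstance
  set Q : Subgroup G := (R : Subgroup ↥Y).map Y.subtype with hQ
  have hQY : Q ≤ Y := Subgroup.map_subtype_le _
  have hQp : IsPGroup q Q := R.2.map _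
  have hQidx : ¬ q ∣ Q.relIndex Y := sylow_map_relIndex Y R
  have hLidx : L.relIndex Y = Nat.card Qb := by
    have h := relIndex_ker_comap (QuotientGroup.mk' L) hsurj Qb
    rwa [QuotientGroup.ker_mk'] at h
  have hsup : Y ≤ L ⊔ Q := by
    rw [← Subgroup.relIndex_eq_one]
    have hd1 : (L ⊔ Q).relIndex Y ∣ Q.relIndex Y :=
      Subgroup.relIndex_dvd_of_le_left Y le_sup_right
    have hd2 : (L ⊔ Q).relIndex Y ∣ L.relIndex Y :=
      Subgroup.relIndex_dvd_of_le_left Y le_sup_left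
    obtain ⟨e, he⟩ := IsPGroup.iff_card.1 hQb
    rw [hLidx, he] at hd2
    obtain ⟨j, -, hj⟩ := (Nat.dvd_prime_pow hqp.out).1 hd2
    rcases Nat.eq_zero_or_pos j with rfl | hjpos
    · simpa using hj
    · exfalso
      apply hQidx
      refine dvd_trans ?_ hd1
      rw [hj]
      exact dvd_pow_self q (Nat.pos_iff_ne_zero.1 hjpos)
  have hdecomp : ∀ g ∈ Y, ∃ l ∈ L, ∃ s ∈ Q, l * s = g := by
    intro g hg
    exact Subgroup.mem_sup_of_normal_left.1 (hsup hg)
  have hmap : ∀ z ∈ Qb, ∃ s ∈ Q, QuotientGroup.mk' L s = z := by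
    intro z hz
    obtain ⟨g, rfl⟩ := hsurj z
    obtain ⟨l, hl, s, hs, rfl⟩ := hdecomp g (Subgroup.mem_comap.2 hz)
    refine ⟨s, hs, ?_⟩
    rw [map_mul, (hker l).2 hl, one_mul]
  -- Frattini
  have hcjle : cj x Q ≤ Y := by
    have := cj_mono x hQY
    rwa [cj_eq_of_mem_normalizer hxY] at this
  obtain ⟨g, hgY, hg⟩ := sylow_sub_conj Y R (cj x Q) hcjle (cj_isPGroup q x hQp) (card_cj' x Q)
  obtain ⟨l, hl, s, hs, rfl⟩ := hdecomp g hgY
  have hg' : cj x Q = cj l Q := by
    rw [hg, cj_mul, cj_self_of_mem' hs]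
  set y := l⁻¹ * x with hy
  have hyQ : cj y Q = Q := by
    rw [hy, cj_mul, hg', cj_inv_cj']
  have hyN : y ∈ Subgroup.normalizer (Q : Set G) :=
    Subgroup.mem_normalizer_iff_map_conj_eq.2 hyQ
  have hmky : QuotientGroup.mk' L y = QuotientGroup.mk' L x := by
    rw [hy, map_mul, map_inv, (hker l).2 hl, inv_one, one_mul]
  obtain ⟨u, v, huv, hu, hv, huπ, hvπ⟩ := elt_pi_decomp π y
  have hzy : Subgroup.zpowers y ≤ Subgroup.normalizer (Q : Set G) := by
    rw [Subgroup.zpowers_le]; exact hyN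
  have huN : u ∈ Subgroup.normalizer (Q : Set G) := hzy hu
  have hmkv : QuotientGroup.mk' L v = 1 := by
    apply eq_one_of_piNum (π := π)
    · obtain ⟨i, rfl⟩ := Subgroup.mem_zpowers_iff.1 hv
      rw [map_zpow, hmky]
      apply isPiNum_of_dvd _ hx
      exact (orderOf_dvd_of_mem_zpowers (Subgroup.zpow_mem_zpowers _ _)).trans
        (orderOf_map_dvd (QuotientGroup.mk' L) x)
    · exact isPiNum'_of_dvd (orderOf_map_dvd (QuotientGroup.mk' L) v) hvπ
  have hmku : QuotientGroup.mk' L u = QuotientGroup.mk' L x := by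
    rw [← hmky, ← huv, map_mul, hmkv, mul_one]
  intro z hz
  rw [Subgroup.mem_centralizer_iff]
  intro w hw
  rw [Set.mem_singleton_iff] at hw
  rw [hw]
  obtain ⟨s', hs', rfl⟩ := hmap z hz
  by_cases hQbot : Q = ⊥
  · rw [hQbot, Subgroup.mem_bot] at hs'
    rw [hs', map_one, mul_one, one_mul]
  have hQπ : ∀ p : ℕ, p.Prime → p ∣ Nat.card ↥Q → p ∉ π := by
    intro p hp hpd
    obtain ⟨e, he⟩ := IsPGroup.iff_card.1 hQp
    rw [he] at hpd
    have := (Nat.prime_dvd_prime_iff_eq hp hqp.out).1 (hp.dvd_of_dvd_pow hpd)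
    rw [this]; exact hq
  have hNC : IsPiNum' π ((Subgroup.centralizer (Q : Set G)).relIndex
      (Subgroup.normalizer (Q : Set G))) := hhom Q hQbot hQπ
  have huC := mem_centralizer_of_piNum Q hNC u huN huπ
  rw [Subgroup.mem_centralizer_iff] at huC
  have hsu := huC s' hs'
  rw [← hmku, ← map_mul, ← map_mul, hsu]

theorem key {G : Type u} [Group G] [Finite G] (π : Set ℕ)
    (hhom : ∀ H : Subgroup G, H ≠ ⊥ → (∀ p : ℕ, p.Prime → p ∣ Nat.card ↥H → p ∉ π) →
        ∀ p : ℕ, p.Prime → p ∣ (Subgroup.centralizer (H : Set G)).relIndex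
          (Subgroup.normalizer (H : Set G)) → p ∉ π)
    (L : Subgroup G) [L.Normal]
    (K : Subgroup G) [K.Normal]
    (hK : IsPiNum' π (Nat.card (K.map (QuotientGroup.mk' L))))
    (x : G) (hx : IsPiNum π (orderOf x)) :
    K.map (QuotientGroup.mk' L) ≤ Subgroup.centralizer {QuotientGroup.mk' L x} := by
  have hsurj : Function.Surjective (QuotientGroup.mk' L) := QuotientGroup.mk'_surjective L
  set N := K.map (QuotientGroup.mk' L) with hN
  haveI hNn : N.Normal := Subgroup.Normal.map inferInstance (QuotientGroup.mk' L) hsurj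
  set xb := QuotientGroup.mk' L x with hxb
  by_contra hne
  set CN := N ⊓ Subgroup.centralizer {xb} with hCN
  have hrel : CN.relIndex N ≠ 1 := by
    intro h1
    apply hne
    exact (Subgroup.relIndex_eq_one.1 h1).trans inf_le_right
  obtain ⟨q, hqp, hqd⟩ := Nat.exists_prime_and_dvd hrel
  haveI : Fact q.Prime := ⟨hqp⟩
  have hqN : q ∣ Nat.card N := hqd.trans (Subgroup.relIndex_dvd_card CN N)
  have hq : q ∉ π := hK q hqp hqN
  obtain ⟨P⟩ : Nonempty (Sylow q ↥N) := inferInstance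
  set Q0 : Subgroup (G ⧸ L) := (P : Subgroup ↥N).map N.subtype with hQ0
  set A := Subgroup.zpowers xb with hA
  have hAN : A ≤ Subgroup.normalizer (N : Set (G ⧸ L)) := by
    rw [Subgroup.normalizer_eq_top]; exact le_top
  have hxbπ : IsPiNum π (orderOf xb) :=
    isPiNum_of_dvd (orderOf_map_dvd (QuotientGroup.mk' L) x) hx
  have hcop : (Nat.card A).Coprime (Nat.card N) := by
    rw [hA, Nat.card_zpowers]
    exact coprime_of_piNum hxbπ hK
  haveI : Group.IsSolvable A := zpowers_solvable xb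
  letI : MulAction (G ⧸ L) (Subgroup (G ⧸ L)) := conjSubAction (G ⧸ L)
  have hkey : ∀ a ∈ A, ∃ k ∈ N, a • Q0 = k • Q0 := by
    intro a _
    have hle : cj a Q0 ≤ N := by
      have := cj_mono a (Subgroup.map_subtype_le (P : Subgroup ↥N))
      rwa [cj_self_of_normal N a] at this
    obtain ⟨k, hk, hk'⟩ := sylow_sub_conj N P (cj a Q0) hle (cj_isPGroup q a (P.2.map _))
      (card_cj' a Q0)
    exact ⟨k, hk, hk'⟩
  obtain ⟨k, hk, hfix⟩ := glauberman_fix A N hAN hcop (Or.inl inferInstance) Q0 hkey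
  set P1 : Sylow q ↥N := MulAut.conj (⟨k, hk⟩ : ↥N) • P with hP1
  have hQ1 : (P1 : Subgroup ↥N).map N.subtype = cj k Q0 := sylow_map_smul N ⟨k, hk⟩ P
  have hxN1 : xb ∈ Subgroup.normalizer
      (((P1 : Subgroup ↥N).map N.subtype : Subgroup (G ⧸ L)) : Set (G ⧸ L)) := by
    rw [hQ1]
    exact Subgroup.mem_normalizer_iff_map_conj_eq.2 (hfix xb (Subgroup.mem_zpowers xb))
  have hcent := key_q π hhom L q hq x hx _ (P1.2.map N.subtype) hxN1
  have hle : (P1 : Subgroup ↥N).map N.subtype ≤ CN := le_inf (Subgroup.map_subtype_le _) hcent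
  have hdvd := Subgroup.relIndex_dvd_of_le_left N hle
  exact sylow_map_relIndex N P1 (hqd.trans hdvd)

theorem lemQ {X : Type u} [Group X] [Finite X] (π : Set ℕ) (N : Subgroup X) [N.Normal]
    (hN : IsPiNum' π (Nat.card N))
    (hQ : ∃ Mb : Subgroup (X ⧸ N), ∀ y : X ⧸ N, y ∈ Mb ↔ IsPiNum π (orderOf y))
    (hc : ∀ x : X, IsPiNum π (orderOf x) → N ≤ Subgroup.centralizer {x}) :
    ∃ H : Subgroup X, ∀ x : X, x ∈ H ↔ IsPiNum π (orderOf x) := by
  obtain ⟨Mb, hMb⟩ := hQ
  have hsurj : Function.Surjective (QuotientGroup.mk' N) := QuotientGroup.mk'_surjective N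
  set M := Mb.comap (QuotientGroup.mk' N) with hM
  have hNM : N ≤ M := by
    intro n hn
    rw [hM, Subgroup.mem_comap]
    have : QuotientGroup.mk' N n = 1 := (QuotientGroup.eq_one_iff n).2 hn
    rw [this]
    exact Mb.one_mem
  have hMbπ : IsPiNum π (Nat.card Mb) := by
    intro p hp hpd
    haveI := Fact.mk hp
    obtain ⟨g, hg⟩ := exists_prime_orderOf_dvd_card' p hpd
    have h1 : orderOf (g : X ⧸ N) = p := by rw [Subgroup.orderOf_coe, hg]
    exact (hMb _).1 g.2 p hp (by rw [h1])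
  have hidx : N.relIndex M = Nat.card Mb := by
    have h := relIndex_ker_comap (QuotientGroup.mk' N) hsurj Mb
    rwa [QuotientGroup.ker_mk'] at h
  have hnorm : M ≤ Subgroup.normalizer (N : Set X) := by
    rw [Subgroup.normalizer_eq_top]; exact le_top
  have hcop : (Nat.card N).Coprime (N.relIndex M) := by
    rw [hidx]; exact (coprime_of_piNum hMbπ hN).symm
  obtain ⟨B, hBM, hcard, hNB⟩ := sz_exists_sub M N hNM hnorm hcop
  have hcardB : Nat.card B = Nat.card Mb := by
    have h1 := card_mul_relIndex_of_le hNM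
    rw [← hcard, hidx] at h1
    exact (Nat.eq_of_mul_eq_mul_left Nat.card_pos h1).symm
  have hBπ : ∀ b ∈ B, IsPiNum π (orderOf b) := by
    intro b hb
    apply isPiNum_of_dvd (Subgroup.orderOf_dvd_natCard B hb)
    rw [hcardB]; exact hMbπ
  have hBsupN : B ⊔ N = M := by
    apply Subgroup.eq_of_le_of_card_ge (sup_le hBM hNM)
    have h1 := Cfsg.Agent.Lib.Helper2.card_sup_mul_card_inf B N
      (by rw [Subgroup.normalizer_eq_top]; exact le_top)
    have h2 : B ⊓ N = ⊥ := by rw [inf_comm]; exact hNB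
    rw [h2, Subgroup.card_bot, mul_one] at h1
    rw [h1, ← hcard, mul_comm]
  refine ⟨B, fun x => ⟨fun hx => hBπ x hx, fun hx => ?_⟩⟩
  have hxM : x ∈ M := by
    rw [hM, Subgroup.mem_comap, hMb]
    exact isPiNum_of_dvd (orderOf_map_dvd (QuotientGroup.mk' N) x) hx
  rw [← hBsupN] at hxM
  obtain ⟨b, hb, n, hn, rfl⟩ := Subgroup.mem_sup_of_normal_right.1 hxM
  have hcomm : Commute b n := by
    have := hc b (hBπ b hb) hn
    rw [Subgroup.mem_centralizer_iff] at this
    exact this b (Set.mem_singleton b)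
  have hn1 : n = 1 := by
    have hpow : n ^ orderOf (b * n) = 1 := by
      have h1 : (b * n) ^ orderOf (b * n) = 1 := pow_orderOf_eq_one _
      rw [hcomm.mul_pow] at h1
      have h2 : n ^ orderOf (b * n) ∈ N ⊓ B := by
        refine ⟨N.pow_mem hn _, ?_⟩
        rw [eq_inv_of_mul_eq_one_right h1]
        exact B.inv_mem (B.pow_mem hb _)
      rw [hNB, Subgroup.mem_bot] at h2
      exact h2
    apply eq_one_of_piNum (π := π)
    · exact isPiNum_of_dvd (orderOf_dvd_of_pow_eq_one hpow) hx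
    · exact isPiNum'_of_dvd (Subgroup.orderOf_dvd_natCard N hn) hN
  rw [hn1, mul_one]; exact hb

/-- Let π be a set of primes and G a finite group such that N_G(H)/C_G(H) is a π'-group for every nontrivial π'-subgroup H of G. If K is a normal subgroup of G such that the π-elements of K form a subgroup and the π-elements of G/K form a subgroup, then the π-elements of G form a subgroup. -/
theorem result {G : Type*} [Group G] [Finite G] (π : Set ℕ)
    (hπ : ∀ p ∈ π, p.Prime) (hhom : (∀ H : Subgroup G, H ≠ ⊥ → (∀ p : ℕ, p.Prime → p ∣ Nat.card ↥H → p ∉ π) →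
        ∀ p : ℕ, p.Prime → p ∣ (Subgroup.centralizer (H : Set G)).relIndex (Subgroup.normalizer (H : Set G)) → p ∉ π))
    (K : Subgroup G) [K.Normal]
    (hK : ∃ L : Subgroup ↥K, ∀ x : ↥K, x ∈ L ↔ ∀ p : ℕ, p.Prime → p ∣ orderOf x → p ∈ π)
    (hQ : ∃ L : Subgroup (G ⧸ K), ∀ x : G ⧸ K, x ∈ L ↔ ∀ p : ℕ, p.Prime → p ∣ orderOf x → p ∈ π) :
    (∃ K : Subgroup G, ∀ x : G, x ∈ K ↔ ∀ p : ℕ, p.Prime → p ∣ orderOf x → p ∈ π) := by
  obtain ⟨L0, hL0⟩ := hK
  set L : Subgroup G := L0.map K.subtype with hLdef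
  have hLmem : ∀ g : G, g ∈ L ↔ g ∈ K ∧ IsPiNum π (orderOf g) := by
    intro g
    constructor
    · rintro ⟨l, hl, rfl⟩
      refine ⟨l.2, ?_⟩
      show IsPiNum π (orderOf (l : G))
      rw [Subgroup.orderOf_coe]
      exact (hL0 l).1 hl
    · rintro ⟨hgK, hg⟩
      refine ⟨⟨g, hgK⟩, (hL0 _).2 ?_, rfl⟩
      rw [Subgroup.orderOf_mk]; exact hg
  haveI hLn : L.Normal := by
    constructor
    intro n hn g
    rw [hLmem] at hn ⊢
    refine ⟨(inferInstance : K.Normal).conj_mem n hn.1 g, ?_⟩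
    have : orderOf (g * n * g⁻¹) = orderOf n := by
      have := orderOf_injective (MulAut.conj g).toMonoidHom (MulAut.conj g).injective n
      simpa [MulAut.conj_apply] using this
    rw [this]; exact hn.2
  have hLK : L ≤ K := fun g hg => ((hLmem g).1 hg).1
  have hLπ : ∀ l ∈ L, IsPiNum π (orderOf l) := fun l hl => ((hLmem l).1 hl).2
  have hcardN : Nat.card (K.map (QuotientGroup.mk' L)) = L.relIndex K := by
    have h := relIndex_ker_comap (QuotientGroup.mk' L) (QuotientGroup.mk'_surjective L)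
      (K.map (QuotientGroup.mk' L))
    rw [QuotientGroup.ker_mk'] at h
    have h2 : (K.map (QuotientGroup.mk' L)).comap (QuotientGroup.mk' L) = K := by
      rw [QuotientGroup.comap_map_mk']
      exact sup_eq_right.2 hLK
    rw [h2] at h
    exact h.symm
  have hNπ' : IsPiNum' π (Nat.card (K.map (QuotientGroup.mk' L))) := by
    rw [hcardN]
    intro p hp hpd hpπ
    haveI := Fact.mk hp
    obtain ⟨P⟩ : Nonempty (Sylow p ↥K) := inferInstance
    have hPL : (P : Subgroup ↥K) ≤ L0 := by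
      intro y hy
      rw [hL0]
      intro r hr hrd
      obtain ⟨e, he⟩ := (P.2 ⟨y, hy⟩)
      have h1 : orderOf y ∣ p ^ e := by
        apply orderOf_dvd_of_pow_eq_one
        have := congrArg Subtype.val he
        simpa using this
      have h2 := (Nat.prime_dvd_prime_iff_eq hr hp).1 (hr.dvd_of_dvd_pow (hrd.trans h1))
      rw [h2]; exact hpπ
    have h3 : L0.index ∣ (P : Subgroup ↥K).index := Subgroup.index_dvd_of_le hPL
    have h4 : L.relIndex K = L0.index := by
      rw [Subgroup.relIndex, hLdef]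
      congr 1
      exact Subgroup.comap_map_eq_self_of_injective K.subtype_injective L0
    rw [h4] at hpd
    exact P.not_dvd_index (hpd.trans h3)
  have hQ' : ∃ Mb' : Subgroup ((G ⧸ L) ⧸ K.map (QuotientGroup.mk' L)),
      ∀ y, y ∈ Mb' ↔ IsPiNum π (orderOf y) := by
    obtain ⟨Mb, hMb⟩ := hQ
    let e := QuotientGroup.quotientQuotientEquivQuotient L K hLK
    refine ⟨Mb.comap e.toMonoidHom, fun y => ?_⟩
    rw [Subgroup.mem_comap, hMb]
    have : orderOf (e.toMonoidHom y) = orderOf y := orderOf_injective e.toMonoidHom e.injective y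
    rw [this]
    rfl
  have hc' : ∀ xb : G ⧸ L, IsPiNum π (orderOf xb) →
      K.map (QuotientGroup.mk' L) ≤ Subgroup.centralizer {xb} := by
    intro xb hxb
    obtain ⟨g, rfl⟩ := QuotientGroup.mk'_surjective L xb
    obtain ⟨u, v, huv, hu, hv, huπ, hvπ⟩ := elt_pi_decomp π g
    have hmkv : QuotientGroup.mk' L v = 1 := by
      apply eq_one_of_piNum (π := π)
      · obtain ⟨i, rfl⟩ := Subgroup.mem_zpowers_iff.1 hv
        rw [map_zpow]
        exact isPiNum_of_dvd (orderOf_dvd_of_mem_zpowers (Subgroup.zpow_mem_zpowers _ _)) hxb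
      · exact isPiNum'_of_dvd (orderOf_map_dvd _ v) hvπ
    have hmku : QuotientGroup.mk' L u = QuotientGroup.mk' L g := by
      rw [← huv, map_mul, hmkv, mul_one]
    rw [← hmku]
    exact key π hhom L K hNπ' u huπ
  obtain ⟨Hb, hHb⟩ := lemQ π (K.map (QuotientGroup.mk' L)) hNπ' hQ' hc'
  refine ⟨Hb.comap (QuotientGroup.mk' L), fun x => ?_⟩
  rw [Subgroup.mem_comap, hHb]
  constructor
  · intro h
    have h1 : x ^ orderOf (QuotientGroup.mk' L x) ∈ L := by
      have : QuotientGroup.mk' L (x ^ orderOf (QuotientGroup.mk' L x)) = 1 := by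
        rw [map_pow]; exact pow_orderOf_eq_one _
      exact (QuotientGroup.eq_one_iff _).1 this
    have h2 : orderOf x ∣ orderOf (QuotientGroup.mk' L x) *
        orderOf (x ^ orderOf (QuotientGroup.mk' L x)) := by
      apply orderOf_dvd_of_pow_eq_one
      rw [pow_mul, pow_orderOf_eq_one]
    exact isPiNum_of_dvd h2 (isPiNum_mul h (hLπ _ h1))
  · intro h
    exact isPiNum_of_dvd (orderOf_map_dvd _ x) h

end Cfsg.Agent.S4051
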