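import Mathlib
import Cfsg.Statements.S4050
import Cfsg.Agent.S4051

set_option autoImplicit false
open Cfsg

namespace Cfsg.Agent.S4050

open Cfsg.Agent.Lib.Helper7

universe u

/-- the hypothesis on automizers of `π'`-subgroups -/
def Hyp (π : Set ℕ) (G : Type*) [Group G] : Prop :=
  ∀ H : Subgroup G, H ≠ ⊥ → (∀ p : ℕ, p.Prime → p ∣ Nat.card ↥H → p ∉ π) →
    ∀ p : ℕ, p.Prime → p ∣ (Subgroup.centralizer (H : Set G)).relIndex
      (Subgroup.normalizer (H : Set G)) → p ∉ π

theorem normalizer_map_subtype {G : Type*} [Group G] (K : Subgroup G) (H' : Subgroup ↥K) :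
    Subgroup.normalizer (H' : Set ↥K) =
      (Subgroup.normalizer ((H'.map K.subtype : Subgroup G) : Set G)).subgroupOf K := by
  ext k
  rw [Subgroup.mem_subgroupOf, Subgroup.mem_normalizer_iff, Subgroup.mem_normalizer_iff]
  have hmem : ∀ h : ↥K, (h : G) ∈ H'.map K.subtype ↔ h ∈ H' := by
    intro h
    exact Subgroup.mem_map_iff_mem K.subtype_injective (x := h)
  constructor
  · intro hk g
    constructor
    · rintro ⟨h, hh, rfl⟩
      have := (hk h).1 hh
      rw [← hmem] at this
      simpa using this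
    · rintro ⟨h₁, hh₁, hh₁'⟩
      have h2 : k⁻¹ * h₁ * k ∈ H' := by
        rw [hk]
        have : k * (k⁻¹ * h₁ * k) * k⁻¹ = h₁ := by group
        rw [this]; exact hh₁
      refine ⟨k⁻¹ * h₁ * k, h2, ?_⟩
      have h3 : (h₁ : G) = (k : G) * g * (k : G)⁻¹ := hh₁'
      simp only [Subgroup.subtype_apply, Subgroup.coe_mul, Subgroup.coe_inv, h3]
      group
  · intro hk h
    rw [← hmem h, ← hmem (k * h * k⁻¹)]
    have := hk (h : G)
    simpa using this

theorem centralizer_map_subtype {G : Type*} [Group G] (K : Subgroup G) (H' : Subgroup ↥K) :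
    Subgroup.centralizer (H' : Set ↥K) =
      (Subgroup.centralizer ((H'.map K.subtype : Subgroup G) : Set G)).subgroupOf K := by
  ext k
  rw [Subgroup.mem_subgroupOf, Subgroup.mem_centralizer_iff, Subgroup.mem_centralizer_iff]
  constructor
  · intro hk g hg
    obtain ⟨h, hh, rfl⟩ := hg
    have := hk h hh
    have h2 := congrArg Subtype.val this
    simpa using h2
  · intro hk h hh
    apply Subtype.ext
    have := hk (h : G) ⟨h, hh, rfl⟩
    simpa using this

theorem hyp_subgroup {G : Type*} [Group G] [Finite G] {π : Set ℕ} (hG : Hyp π G)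
    (K : Subgroup G) : Hyp π ↥K := by
  intro H' hH' hπ' p hp hpd
  set H : Subgroup G := H'.map K.subtype with hH
  have hHne : H ≠ ⊥ := by
    intro h
    apply hH'
    rw [← Subgroup.map_eq_bot_iff_of_injective _ K.subtype_injective]
    exact h
  have hcard : Nat.card H = Nat.card H' := Subgroup.card_map_of_injective K.subtype_injective
  have hπH : ∀ p : ℕ, p.Prime → p ∣ Nat.card ↥H → p ∉ π := by
    intro q hq hqd
    rw [hcard] at hqd
    exact hπ' q hq hqd
  apply hG H hHne hπH p hp
  rw [normalizer_map_subtype, centralizer_map_subtype] at hpd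
  refine hpd.trans ?_
  set C := Subgroup.centralizer (H : Set G) with hC
  set N := Subgroup.normalizer (H : Set G) with hN
  have h1 : (C.subgroupOf K).relIndex (N.subgroupOf K) = C.relIndex (N ⊓ K) := by
    rw [← Subgroup.inf_subgroupOf_right N K]
    exact Subgroup.relIndex_subgroupOf inf_le_right
  rw [h1]
  have h2 : (C.subgroupOf N).relIndex ((N ⊓ K).subgroupOf N) = C.relIndex (N ⊓ K) :=
    Subgroup.relIndex_subgroupOf inf_le_left
  rw [← h2]
  exact Subgroup.relIndex_dvd_index_of_normal (C.subgroupOf N) ((N ⊓ K).subgroupOf N)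

theorem backward (π : Set ℕ) (hπ : ∀ p ∈ π, p.Prime) :
    ∀ (n : ℕ) (G : Type u) [Group G] [Finite G], Hyp π G →
      (∃ H : Fin (n + 1) → Subgroup G, H 0 = ⊥ ∧ H (Fin.last n) = ⊤ ∧ Monotone H ∧
        (∀ i, (H i).Normal) ∧
        ∀ i : Fin n, (∀ q : ℕ, q.Prime → q ∣ (H i.castSucc).relIndex (H i.succ) → q ∈ π) ∨
          (∀ q : ℕ, q.Prime → q ∣ (H i.castSucc).relIndex (H i.succ) → q ∉ π)) →
      ∃ K : Subgroup G, ∀ x : G, x ∈ K ↔ ∀ p : ℕ, p.Prime → p ∣ orderOf x → p ∈ π := by
  intro n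
  induction n with
  | zero =>
    intro G _ _ _ ⟨H, h0, hlast, _, _, _⟩
    have htop : (⊥ : Subgroup G) = ⊤ := by
      rw [← h0, ← hlast]; rfl
    refine ⟨⊤, fun x => ⟨fun _ => ?_, fun _ => Subgroup.mem_top x⟩⟩
    have hx : x ∈ (⊥ : Subgroup G) := by rw [htop]; exact Subgroup.mem_top x
    rw [Subgroup.mem_bot] at hx
    intro p hp hpd
    rw [hx, orderOf_one] at hpd
    exact absurd (Nat.dvd_one.1 hpd) hp.one_lt.ne'
  | succ n ih =>
    intro G _ _ hG ⟨H, h0, hlast, hmono, hnorm, hfac⟩
    set K := H (Fin.last n).castSucc with hK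
    haveI : K.Normal := hnorm _
    -- the chain for K
    have hKsub : ∃ L : Subgroup ↥K, ∀ x : ↥K, x ∈ L ↔ ∀ p : ℕ, p.Prime → p ∣ orderOf x → p ∈ π := by
      apply ih ↥K (hyp_subgroup hG K)
      refine ⟨fun i => (H i.castSucc).subgroupOf K, ?_, ?_, ?_, ?_, ?_⟩
      · show (H (0 : Fin (n + 1)).castSucc).subgroupOf K = ⊥
        have : (0 : Fin (n + 1)).castSucc = (0 : Fin (n + 2)) := rfl
        rw [this, h0, Subgroup.bot_subgroupOf]
      · show (H (Fin.last n).castSucc).subgroupOf K = ⊤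
        rw [← hK, Subgroup.subgroupOf_self]
      · intro i j hij
        show (H i.castSucc).subgroupOf K ≤ (H j.castSucc).subgroupOf K
        exact Subgroup.comap_mono (hmono (Fin.castSucc_le_castSucc_iff.2 hij))
      · intro i
        haveI := hnorm i.castSucc
        exact Subgroup.Normal.subgroupOf inferInstance K
      · intro i
        have hle : H i.succ.castSucc ≤ K := hmono (Fin.castSucc_le_castSucc_iff.2 (Fin.le_last _))
        have h1 : ((H i.castSucc.castSucc).subgroupOf K).relIndex ((H i.succ.castSucc).subgroupOf K)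
            = (H i.castSucc.castSucc).relIndex (H i.succ.castSucc) :=
          Subgroup.relIndex_subgroupOf hle
        rw [h1]
        have h2 := hfac i.castSucc
        rw [Fin.succ_castSucc] at h2
        exact h2
    -- the quotient
    have hidx := hfac (Fin.last n)
    rw [Fin.succ_last, hlast, Subgroup.relIndex_top_right, ← hK] at hidx
    have hQ : ∃ L : Subgroup (G ⧸ K), ∀ x : G ⧸ K, x ∈ L ↔
        ∀ p : ℕ, p.Prime → p ∣ orderOf x → p ∈ π := by
      have hord : ∀ x : G ⧸ K, orderOf x ∣ K.index := by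
        intro x
        rw [Subgroup.index_eq_card]
        exact orderOf_dvd_natCard x
      rcases hidx with hpi | hpi'
      · refine ⟨⊤, fun x => ⟨fun _ p hp hpd => hpi p hp (hpd.trans (hord x)),
          fun _ => Subgroup.mem_top x⟩⟩
      · refine ⟨⊥, fun x => ⟨fun hx => ?_, fun hx => ?_⟩⟩
        · rw [Subgroup.mem_bot] at hx
          intro p hp hpd
          rw [hx, orderOf_one] at hpd
          exact absurd (Nat.dvd_one.1 hpd) hp.one_lt.ne'
        · rw [Subgroup.mem_bot]
          apply Cfsg.Agent.S4051.eq_one_of_piNum (π := π)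
          · exact hx
          · intro p hp hpd
            exact hpi' p hp (hpd.trans (hord x))
    exact Cfsg.Agent.S4051.result π hπ hG K hKsub hQ

theorem forward {G : Type u} [Group G] [Finite G] (π : Set ℕ)
    (K : Subgroup G) (hK : ∀ x : G, x ∈ K ↔ ∀ p : ℕ, p.Prime → p ∣ orderOf x → p ∈ π) :
    (∃ (n : ℕ) (H : Fin (n + 1) → Subgroup G), H 0 = ⊥ ∧ H (Fin.last n) = ⊤ ∧ Monotone H ∧
      (∀ i, (H i).Normal) ∧
      ∀ i : Fin n, (∀ q : ℕ, q.Prime → q ∣ (H i.castSucc).relIndex (H i.succ) → q ∈ π) ∨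
        (∀ q : ℕ, q.Prime → q ∣ (H i.castSucc).relIndex (H i.succ) → q ∉ π)) ∧ Hyp π G := by
  have hKn : K.Normal := by
    constructor
    intro n hn g
    rw [hK] at hn ⊢
    have : orderOf (g * n * g⁻¹) = orderOf n := by
      have := orderOf_injective (MulAut.conj g).toMonoidHom (MulAut.conj g).injective n
      simpa [MulAut.conj_apply] using this
    rw [this]; exact hn
  have hcardK : ∀ q : ℕ, q.Prime → q ∣ Nat.card K → q ∈ π := by
    intro q hq hqd
    haveI := Fact.mk hq
    obtain ⟨g, hg⟩ := exists_prime_orderOf_dvd_card' q hqd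
    have h1 : orderOf (g : G) = q := by rw [Subgroup.orderOf_coe, hg]
    exact (hK _).1 g.2 q hq (by rw [h1])
  have hidxK : ∀ q : ℕ, q.Prime → q ∣ K.index → q ∉ π := by
    intro q hq hqd hqπ
    haveI := Fact.mk hq
    obtain ⟨P⟩ : Nonempty (Sylow q G) := inferInstance
    have hPK : (P : Subgroup G) ≤ K := by
      intro y hy
      rw [hK]
      intro r hr hrd
      obtain ⟨e, he⟩ := IsPGroup.iff_orderOf.1 P.2 ⟨y, hy⟩
      rw [Subgroup.orderOf_mk] at he
      rw [he] at hrd
      have h2 := (Nat.prime_dvd_prime_iff_eq hr hq).1 (hr.dvd_of_dvd_pow hrd)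
      rw [h2]; exact hqπ
    exact P.not_dvd_index (hqd.trans (Subgroup.index_dvd_of_le hPK))
  refine ⟨⟨2, ![⊥, K, ⊤], rfl, rfl, ?_, ?_, ?_⟩, ?_⟩
  · intro i j hij
    fin_cases i <;> fin_cases j <;> simp_all
  · intro i
    fin_cases i
    · exact (inferInstance : (⊥ : Subgroup G).Normal)
    · exact hKn
    · exact (inferInstance : (⊤ : Subgroup G).Normal)
  · intro i
    fin_cases i
    · left
      intro q hq hqd
      have : (⊥ : Subgroup G).relIndex K = Nat.card K := Subgroup.relIndex_bot_left K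
      exact hcardK q hq (by simpa using hqd)
    · right
      intro q hq hqd
      have h1 : K.relIndex ⊤ = K.index := Subgroup.relIndex_top_right K
      exact hidxK q hq (by simpa using hqd)
  · intro H₀ hH₀ hπ' p hp hpd hpπ
    haveI := Fact.mk hp
    set C := Subgroup.centralizer (H₀ : Set G) with hC
    set N := Subgroup.normalizer (H₀ : Set G) with hN
    obtain ⟨P'⟩ : Nonempty (Sylow p ↥N) := inferInstance
    have hex : ∃ g : ↥N, g ∈ (P' : Subgroup ↥N) ∧ (g : G) ∉ C := by
      by_contra hcon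
      push Not at hcon
      have hle : (P' : Subgroup ↥N) ≤ C.subgroupOf N := by
        intro g hg
        rw [Subgroup.mem_subgroupOf]
        exact hcon g hg
      exact P'.not_dvd_index (hpd.trans (Subgroup.index_dvd_of_le hle))
    obtain ⟨g, hgP, hgC⟩ := hex
    apply hgC
    have hgK : (g : G) ∈ K := by
      rw [hK]
      intro r hr hrd
      obtain ⟨e, he⟩ := IsPGroup.iff_orderOf.1 P'.2 ⟨g, hgP⟩
      rw [Subgroup.orderOf_mk, ← Subgroup.orderOf_coe] at he
      rw [he] at hrd
      have h2 := (Nat.prime_dvd_prime_iff_eq hr hp).1 (hr.dvd_of_dvd_pow hrd)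
      rw [h2]; exact hpπ
    rw [hC, Subgroup.mem_centralizer_iff]
    intro h hh
    have h1 : (g : G) * h * (g : G)⁻¹ * h⁻¹ ∈ K := by
      have : (g : G) * h * (g : G)⁻¹ * h⁻¹ = (g : G) * (h * (g : G)⁻¹ * h⁻¹) := by group
      rw [this]
      exact K.mul_mem hgK (hKn.conj_mem _ (K.inv_mem hgK) h)
    have h2 : (g : G) * h * (g : G)⁻¹ * h⁻¹ ∈ H₀ := by
      have hgN : (g : G) ∈ Subgroup.normalizer (H₀ : Set G) := g.2
      rw [Subgroup.mem_normalizer_iff] at hgN
      exact H₀.mul_mem ((hgN h).1 hh) (H₀.inv_mem hh)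
    have h3 : (g : G) * h * (g : G)⁻¹ * h⁻¹ = 1 := by
      apply Cfsg.Agent.S4051.eq_one_of_piNum (π := π)
      · exact (hK _).1 h1
      · intro r hr hrd
        exact hπ' r hr (hrd.trans (Subgroup.orderOf_dvd_natCard H₀ h2))
    have h4 : (g : G) * h = h * (g : G) := by
      have : (g : G) * h = ((g : G) * h * (g : G)⁻¹ * h⁻¹) * (h * (g : G)) := by group
      rw [this, h3, one_mul]
    exact h4.symm

/-- Let π be a set of primes and G a finite group. The π-elements of G (elements whose order is divisible only by primes of π) form a subgroup if and only if G is π-separable (it has a chain of normal subgroups from 1 to G with each successive index divisible only by primes in π or only by primes outside π) and N_G(H)/C_G(H) is a π'-group for every nontrivial π'-subgroup H of G. -/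
theorem result {G : Type*} [Group G] [Finite G] (π : Set ℕ)
    (hπ : ∀ p ∈ π, p.Prime) :
    (∃ K : Subgroup G, ∀ x : G, x ∈ K ↔ ∀ p : ℕ, p.Prime → p ∣ orderOf x → p ∈ π) ↔
    ((∃ (n : ℕ) (H : Fin (n + 1) → Subgroup G), H 0 = ⊥ ∧ H (Fin.last n) = ⊤ ∧ Monotone H ∧ (∀ i, (H i).Normal) ∧
      ∀ i : Fin n, (∀ q : ℕ, q.Prime → q ∣ (H i.castSucc).relIndex (H i.succ) → q ∈ π) ∨
        (∀ q : ℕ, q.Prime → q ∣ (H i.castSucc).relIndex (H i.succ) → q ∉ π)) ∧
     (∀ H : Subgroup G, H ≠ ⊥ → (∀ p : ℕ, p.Prime → p ∣ Nat.card ↥H → p ∉ π) →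
        ∀ p : ℕ, p.Prime → p ∣ (Subgroup.centralizer (H : Set G)).relIndex (Subgroup.normalizer (H : Set G)) → p ∉ π)) := by
  constructor
  · rintro ⟨K, hK⟩
    exact forward π K hK
  · rintro ⟨⟨n, hchain⟩, hhyp⟩
    exact backward π hπ n G hhyp hchain

end Cfsg.Agent.S4050
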