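import Cfsg.Statements.S4056
import Cfsg.Agent.Lib.Helper5.Frattini

set_option autoImplicit false
open Cfsg

namespace Cfsg.Agent.S4056

open scoped commutatorElement

section
variable {P : Type*} [Group P]

/-- In a group where `c = [y,x]` is central and fourth powers vanish, `c ^ 2 = 1`. -/
theorem comm_sq_eq_one (x y : P) (h4 : ∀ a : P, a ^ 4 = 1)
    (hc : ∀ z : P, (y * x * y⁻¹ * x⁻¹) * z = z * (y * x * y⁻¹ * x⁻¹)) :
    (y * x * y⁻¹ * x⁻¹) ^ 2 = 1 := by
  set c := y * x * y⁻¹ * x⁻¹ with hcdef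
  have hyx : y * x = c * x * y := by rw [hcdef]; group
  have hcc : ∀ z : P, Commute c z := fun z => hc z
  have hc2 : ∀ z : P, c ^ 2 * z = z * c ^ 2 := fun z => ((hcc z).pow_left 2).eq
  have h1 : y * x ^ 2 = c ^ 2 * (x ^ 2 * y) := by
    calc y * x ^ 2 = (y * x) * x := by simp only [pow_succ, pow_zero, one_mul, mul_assoc]
      _ = c * x * y * x := by rw [hyx]
      _ = c * x * (y * x) := by simp only [pow_succ, pow_zero, one_mul, mul_assoc]
      _ = c * x * (c * x * y) := by rw [hyx]
      _ = c * (x * c) * (x * y) := by simp only [pow_succ, pow_zero, one_mul, mul_assoc]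
      _ = c * (c * x) * (x * y) := by rw [← hc x]
      _ = c ^ 2 * (x ^ 2 * y) := by simp only [pow_succ, pow_zero, one_mul, mul_assoc]
  have h2 : y ^ 2 * x ^ 2 = c ^ 4 * (x ^ 2 * y ^ 2) := by
    calc y ^ 2 * x ^ 2 = y * (y * x ^ 2) := by simp only [pow_succ, pow_zero, one_mul, mul_assoc]
      _ = y * (c ^ 2 * (x ^ 2 * y)) := by rw [h1]
      _ = (y * c ^ 2) * (x ^ 2 * y) := by simp only [pow_succ, pow_zero, one_mul, mul_assoc]
      _ = (c ^ 2 * y) * (x ^ 2 * y) := by rw [← hc2 y]
      _ = c ^ 2 * ((y * x ^ 2) * y) := by simp only [pow_succ, pow_zero, one_mul, mul_assoc]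
      _ = c ^ 2 * ((c ^ 2 * (x ^ 2 * y)) * y) := by rw [h1]
      _ = c ^ 4 * (x ^ 2 * y ^ 2) := by simp only [pow_succ, pow_zero, one_mul, mul_assoc]
  have h3 : (x * y) ^ 2 = c * (x ^ 2 * y ^ 2) := by
    calc (x * y) ^ 2 = x * (y * x) * y := by simp only [pow_succ, pow_zero, one_mul, mul_assoc]
      _ = x * (c * x * y) * y := by rw [hyx]
      _ = (x * c) * (x * y * y) := by simp only [pow_succ, pow_zero, one_mul, mul_assoc]
      _ = (c * x) * (x * y * y) := by rw [← hc x]
      _ = c * (x ^ 2 * y ^ 2) := by simp only [pow_succ, pow_zero, one_mul, mul_assoc]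
  have h4' : (x * y) ^ 4 = c ^ 6 := by
    calc (x * y) ^ 4 = ((x * y) ^ 2) ^ 2 := by rw [← pow_mul]
      _ = (c * (x ^ 2 * y ^ 2)) ^ 2 := by rw [h3]
      _ = c ^ 2 * (x ^ 2 * y ^ 2) ^ 2 := (hcc _).mul_pow 2
      _ = c ^ 2 * (x ^ 2 * (y ^ 2 * x ^ 2) * y ^ 2) := by simp only [pow_succ, pow_zero, one_mul, mul_assoc]
      _ = c ^ 2 * (x ^ 2 * (c ^ 4 * (x ^ 2 * y ^ 2)) * y ^ 2) := by rw [h2]
      _ = c ^ 2 * ((x ^ 2 * c ^ 4) * (x ^ 2 * y ^ 2) * y ^ 2) := by simp only [pow_succ, pow_zero, one_mul, mul_assoc]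
      _ = c ^ 2 * ((c ^ 4 * x ^ 2) * (x ^ 2 * y ^ 2) * y ^ 2) := by
          rw [((hcc (x ^ 2)).pow_left 4).eq]
      _ = c ^ 6 * (x ^ 4 * y ^ 4) := by simp only [pow_succ, pow_zero, one_mul, mul_assoc]
      _ = c ^ 6 := by rw [h4 x, h4 y, mul_one, mul_one]
  have h5 : c ^ 6 = 1 := by rw [← h4', h4]
  have h6 : c ^ 6 = c ^ 4 * c ^ 2 := by rw [← pow_add]
  rw [h6, h4 c, one_mul] at h5
  exact h5

end

/-- In a finite 2-group of nilpotency class at most 2 and exponent dividing 4, the Frattini subgroup lies in the centre and is elementary abelian. -/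
theorem result {P : Type*} [Group P] [Finite P] (hP : IsPGroup 2 P)
    (hcl : Group.nilpotencyClass P ≤ 2) (hexp : Monoid.exponent P ∣ 4) :
    frattini P ≤ Subgroup.center P ∧ Cfsg.IsElementaryAbelian 2 (frattini P) := by
  haveI : Group.IsNilpotent P := hP.isNilpotent
  have hucs : Subgroup.upperCentralSeries P 2 = ⊤ :=
    Subgroup.upperCentralSeries_eq_top_iff_nilpotencyClass_le.mpr hcl
  have h4 : ∀ a : P, a ^ 4 = 1 := by
    intro a
    obtain ⟨k, hk⟩ := hexp
    rw [hk, pow_mul, Monoid.pow_exponent_eq_one, one_pow]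
  -- commutators are central
  have hcomm : ∀ x y : P, ⁅x, y⁆ ∈ Subgroup.center P := by
    intro x y
    have hx : x ∈ Subgroup.upperCentralSeries P (1 + 1) := by
      rw [show (1 + 1 : ℕ) = 2 from rfl, hucs]; exact Subgroup.mem_top x
    have := Subgroup.mem_upperCentralSeries_succ_iff.mp hx y
    rwa [Subgroup.upperCentralSeries_one] at this
  have hcz : ∀ x y z : P, (y * x * y⁻¹ * x⁻¹) * z = z * (y * x * y⁻¹ * x⁻¹) := by
    intro x y z
    have := hcomm y x
    rw [commutatorElement_def, Subgroup.mem_center_iff] at this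
    exact (this z).symm
  have hc2 : ∀ x y : P, (y * x * y⁻¹ * x⁻¹) ^ 2 = 1 := fun x y =>
    comm_sq_eq_one x y h4 (hcz x y)
  -- squares are central
  have hsq : ∀ x : P, x ^ 2 ∈ Subgroup.center P := by
    intro x
    rw [Subgroup.mem_center_iff]
    intro y
    -- y * x^2 = c^2 * x^2 * y
    set c := y * x * y⁻¹ * x⁻¹ with hcdef
    have hyx : y * x = c * x * y := by rw [hcdef]; group
    have hcx : c * x = x * c := hcz x y x
    calc y * x ^ 2 = (y * x) * x := by simp only [pow_succ, pow_zero, one_mul, mul_assoc]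
      _ = c * x * y * x := by rw [hyx]
      _ = c * x * (y * x) := by simp only [pow_succ, pow_zero, one_mul, mul_assoc]
      _ = c * x * (c * x * y) := by rw [hyx]
      _ = c * (x * c) * (x * y) := by simp only [pow_succ, pow_zero, one_mul, mul_assoc]
      _ = c * (c * x) * (x * y) := by rw [← hcx]
      _ = c ^ 2 * (x ^ 2 * y) := by simp only [pow_succ, pow_zero, one_mul, mul_assoc]
      _ = x ^ 2 * y := by rw [hc2 x y, one_mul]
  -- part (a)
  have hA : frattini P ≤ Subgroup.center P := by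
    have := Cfsg.Agent.Lib.Helper5.frattini_le_ker_of_elem_abelian Nat.prime_two
      (QuotientGroup.mk' (Subgroup.center P))
      (by
        intro a b
        obtain ⟨a, rfl⟩ := QuotientGroup.mk'_surjective _ a
        obtain ⟨b, rfl⟩ := QuotientGroup.mk'_surjective _ b
        rw [← map_mul, ← map_mul]
        have : a * b = ⁅a, b⁆ * (b * a) := by rw [commutatorElement_def]; group
        have h1 : QuotientGroup.mk' (Subgroup.center P) ⁅a, b⁆ = 1 :=
          (QuotientGroup.eq_one_iff _).mpr (hcomm a b)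
        rw [this, map_mul, h1, one_mul])
      (by
        intro a
        obtain ⟨a, rfl⟩ := QuotientGroup.mk'_surjective _ a
        rw [← map_pow]
        exact (QuotientGroup.eq_one_iff _).mpr (hsq a))
    rwa [QuotientGroup.ker_mk'] at this
  refine ⟨hA, ?_, ?_⟩
  · refine ⟨⟨fun a b => ?_⟩⟩
    apply Subtype.ext
    have := hA a.2
    rw [Subgroup.mem_center_iff] at this
    exact (this b).symm
  · -- the subgroup of central involutions
    let Q : Subgroup P :=
      { carrier := {a | a ∈ Subgroup.center P ∧ a ^ 2 = 1}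
        mul_mem' := by
          rintro a b ⟨ha, ha2⟩ ⟨hb, hb2⟩
          refine ⟨Subgroup.mul_mem _ ha hb, ?_⟩
          have hab : Commute a b := by
            rw [Subgroup.mem_center_iff] at ha
            exact (ha b).symm
          rw [hab.mul_pow, ha2, hb2, one_mul]
        one_mem' := ⟨Subgroup.one_mem _, one_pow 2⟩
        inv_mem' := by
          rintro a ⟨ha, ha2⟩
          exact ⟨Subgroup.inv_mem _ ha, by rw [inv_pow, ha2, inv_one]⟩ }
    have hQmem : ∀ a : P, a ∈ Q ↔ a ∈ Subgroup.center P ∧ a ^ 2 = 1 := fun a => Iff.rfl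
    haveI hQn : Q.Normal := by
      constructor
      intro a ha g
      have hc := (hQmem a).mp ha
      have : g * a * g⁻¹ = a := by
        have h1 := Subgroup.mem_center_iff.mp hc.1 g
        rw [h1]; group
      rw [this]; exact ha
    have hsqQ : ∀ x : P, x ^ 2 ∈ Q := by
      intro x
      refine (hQmem _).mpr ⟨hsq x, ?_⟩
      rw [← pow_mul]; exact h4 x
    have hB := Cfsg.Agent.Lib.Helper5.frattini_le_ker_of_elem_abelian Nat.prime_two
      (QuotientGroup.mk' Q)
      (by
        intro a b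
        obtain ⟨a, rfl⟩ := QuotientGroup.mk'_surjective _ a
        obtain ⟨b, rfl⟩ := QuotientGroup.mk'_surjective _ b
        -- exponent 2 implies commutative
        have e : ∀ z : P ⧸ Q, z ^ 2 = 1 := by
          intro z
          obtain ⟨z, rfl⟩ := QuotientGroup.mk'_surjective _ z
          rw [← map_pow]
          exact (QuotientGroup.eq_one_iff _).mpr (hsqQ z)
        have hinv : ∀ z : P ⧸ Q, z⁻¹ = z := by
          intro z
          have := e z
          rw [pow_two] at this
          exact inv_eq_of_mul_eq_one_left this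
        have h1 := hinv (QuotientGroup.mk' Q a * QuotientGroup.mk' Q b)
        rw [mul_inv_rev, hinv, hinv] at h1
        exact h1.symm)
      (by
        intro a
        obtain ⟨a, rfl⟩ := QuotientGroup.mk'_surjective _ a
        rw [← map_pow]
        exact (QuotientGroup.eq_one_iff _).mpr (hsqQ a))
    rw [QuotientGroup.ker_mk'] at hB
    intro a ha
    exact ((hQmem a).mp (hB ha)).2

end Cfsg.Agent.S4056
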