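import Cfsg.Statements.S4059
import Cfsg.Agent.Lib.Helper7.Real
import Cfsg.Agent.Lib.Helper7.PrimaryDecomp
import Cfsg.Agent.Lib.Helper7.SylowBasic

set_option autoImplicit false
open Cfsg

namespace Cfsg.Agent.S4059

open Cfsg.Agent.Lib.Helper7
open scoped commutatorElement

/-- Let G be a finite group in which every element is conjugate to its inverse. Then: every non-identity element commuting with all elements of some Sylow 2-subgroup is an involution; the centre of G is an elementary abelian 2-group; the commutator quotient G/G' is an elementary abelian 2-group; and G is generated by its 2-elements. -/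
theorem result {G : Type*} [Group G] [Finite G] (hamb : ∀ x : G, IsConj x x⁻¹) :
    (∀ (S : Sylow 2 G) (x : G), x ∈ Subgroup.centralizer ((S : Subgroup G) : Set G) → x ≠ 1 → orderOf x = 2) ∧
    (∀ z : G, z ∈ Subgroup.center G → z ^ 2 = 1) ∧
    (∀ x : G, x ^ 2 ∈ commutator G) ∧
    Subgroup.closure {x : G | ∃ k : ℕ, orderOf x = 2 ^ k} = ⊤ := by
  refine ⟨?_, ?_, ?_, ?_⟩
  · intro S x hx hx1
    have hle : (S : Subgroup G) ≤ Subgroup.centralizer ({x} : Set G) := by
      intro s hs
      rw [Subgroup.mem_centralizer_iff] at hx ⊢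
      intro y hy
      rw [Set.mem_singleton_iff] at hy
      subst hy
      exact (hx s hs).symm
    have hodd : ¬ 2 ∣ (Subgroup.centralizer ({x} : Set G)).index := by
      intro h2
      exact S.not_dvd_index (h2.trans (Subgroup.index_dvd_of_le hle))
    have hsq := sq_eq_one_of_real_of_odd_index x hodd (hamb x)
    exact orderOf_eq_prime hsq hx1
  · intro z hz
    obtain ⟨g, hg⟩ := isConj_iff.mp (hamb z)
    rw [Subgroup.mem_center_iff] at hz
    have h1 : g * z * g⁻¹ = z := by
      rw [hz g]; group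
    rw [h1] at hg
    rw [pow_two]
    nth_rewrite 2 [hg]
    exact mul_inv_cancel z
  · intro x
    obtain ⟨g, hg⟩ := isConj_iff.mp (hamb x)
    have h1 : x ^ 2 = ⁅x, g⁆ := by
      rw [commutatorElement_def, pow_two]
      have : x * g * x⁻¹ * g⁻¹ = x * (g * x * g⁻¹)⁻¹ := by group
      rw [this, hg, inv_inv]
    rw [h1, commutator_def]
    exact Subgroup.commutator_mem_commutator (Subgroup.mem_top x) (Subgroup.mem_top g)
  · rw [eq_top_iff]
    intro x _
    set K := Subgroup.closure {x : G | ∃ k : ℕ, orderOf x = 2 ^ k} with hK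
    have hsq : ∀ y : G, y ^ 2 ∈ K := by
      intro y
      obtain ⟨t, ⟨j, hj⟩, ht⟩ := exists_two_element_inverting y (hamb y)
      have h1 : t ∈ K := Subgroup.subset_closure ⟨j, hj⟩
      have h2 : y * t⁻¹ * y⁻¹ ∈ K := by
        apply Subgroup.subset_closure
        refine ⟨j, ?_⟩
        rw [orderOf_conj_eq, orderOf_inv, hj]
      have h3 : (y ^ 2)⁻¹ = t * (y * t⁻¹ * y⁻¹) := by
        have : t * (y * t⁻¹ * y⁻¹) = (t * y * t⁻¹) * y⁻¹ := by group
        rw [this, ht, pow_two, mul_inv_rev]
      have h4 : (y ^ 2)⁻¹ ∈ K := by rw [h3]; exact K.mul_mem h1 h2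
      exact K.inv_mem_iff.mp h4
    obtain ⟨a, m, hm, hn⟩ := Nat.exists_eq_two_pow_mul_odd (orderOf_pos x).ne'
    have hm0 : m ≠ 0 := by
      rintro rfl
      exact (Nat.not_odd_iff_even.2 (by decide)) hm
    have hom : orderOf (x ^ m) = 2 ^ a := by
      rw [orderOf_pow_of_dvd hm0 (by rw [hn]; exact Dvd.intro_left _ rfl), hn]
      exact Nat.mul_div_cancel _ (Nat.pos_of_ne_zero hm0)
    have hxm : x ^ m ∈ K := Subgroup.subset_closure ⟨a, hom⟩
    have hcop : Nat.Coprime 2 m := Nat.coprime_two_left.mpr hm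
    exact mem_of_pow_mem_of_coprime K x 2 m hcop (hsq x) hxm

end Cfsg.Agent.S4059
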