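import Cfsg.Statements.S4060
import Cfsg.Agent.Lib.Helper7.Real
import Cfsg.Agent.Lib.Helper7.SylowBasic

set_option autoImplicit false
open Cfsg

namespace Cfsg.Agent.S4060

open Cfsg.Agent.Lib.Helper7
open scoped commutatorElement

/-- a nontrivial solvable group has a nontrivial abelian normal subgroup -/
theorem exists_abelian_normal {G : Type*} [Group G] [hs : Group.IsSolvable G] [Nontrivial G] :
    ∃ M : Subgroup G, M.Normal ∧ M ≠ ⊥ ∧ ∀ a ∈ M, ∀ b ∈ M, a * b = b * a := by
  classical
  obtain ⟨n, hn⟩ := hs.solvable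
  have hex : ∃ n, derivedSeries G n = ⊥ := ⟨n, hn⟩
  set k := Nat.find hex with hk
  have hk0 : k ≠ 0 := by
    intro h0
    have h1 := Nat.find_spec hex
    rw [← hk, h0, derivedSeries_zero] at h1
    exact top_ne_bot h1
  obtain ⟨j, hj⟩ := Nat.exists_eq_succ_of_ne_zero hk0
  refine ⟨derivedSeries G j, derivedSeries_normal G j, ?_, ?_⟩
  · have : j < k := by omega
    exact Nat.find_min hex this
  · intro a ha b hb
    have h1 := Nat.find_spec hex
    rw [← hk, hj, derivedSeries_succ] at h1
    have h2 : ⁅a, b⁆ ∈ ⁅derivedSeries G j, derivedSeries G j⁆ :=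
      Subgroup.commutator_mem_commutator ha hb
    rw [h1, Subgroup.mem_bot, commutatorElement_def] at h2
    have : a * b = (a * b * a⁻¹ * b⁻¹) * (b * a) := by group
    rw [this, h2, one_mul]

theorem key : ∀ (n : ℕ) (G : Type*) [Group G] [Finite G] [Group.IsSolvable G], Nat.card G = n →
    ∀ (S : Sylow 2 G) (x : G), Odd (orderOf x) →
      x ∈ Subgroup.normalizer ((S : Subgroup G) : Set G) → IsConj x x⁻¹ → x = 1 := by
  intro n
  induction n using Nat.strong_induction_on with
  | _ n ih =>
    intro G _ _ _ hcard S x hodd hnorm hreal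
    by_contra hx1
    haveI : Nontrivial G := ⟨⟨x, 1, hx1⟩⟩
    obtain ⟨M, hMn, hMbot, hMab⟩ := exists_abelian_normal (G := G)
    haveI := hMn
    -- pass to the quotient
    have hf : Function.Surjective (QuotientGroup.mk' M) := QuotientGroup.mk'_surjective M
    have hlt : Nat.card (G ⧸ M) < n := by
      rw [← hcard, ← Subgroup.index_eq_card]
      have h1 : M.index * Nat.card M = Nat.card G := by
        rw [mul_comm]; exact M.card_mul_index
      have h2 : 1 < Nat.card M := by
        rw [Subgroup.one_lt_card_iff_ne_bot]; exact hMbot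
      have h3 : 0 < M.index := Nat.pos_of_ne_zero Subgroup.index_ne_zero_of_finite
      calc M.index = M.index * 1 := (mul_one _).symm
        _ < M.index * Nat.card M := Nat.mul_lt_mul_of_pos_left h2 h3
        _ = Nat.card G := h1
    have hxbar : (QuotientGroup.mk' M x) = 1 := by
      apply ih _ hlt (G ⧸ M) rfl (S.mapSurjective hf) (QuotientGroup.mk' M x)
      · have hd : orderOf (QuotientGroup.mk' M x) ∣ orderOf x := orderOf_map_dvd _ x
        exact Odd.of_dvd_nat hodd hd
      · rw [Sylow.coe_mapSurjective]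
        exact Subgroup.le_normalizer_map _ ⟨x, hnorm, rfl⟩
      · obtain ⟨g, hg⟩ := isConj_iff.mp hreal
        rw [isConj_iff]
        refine ⟨QuotientGroup.mk' M g, ?_⟩
        rw [← map_inv, ← map_inv, ← map_mul, ← map_mul, hg]
    have hxM : x ∈ M := (QuotientGroup.eq_one_iff x).mp hxbar
    -- x centralizes S
    have hcent : ∀ s ∈ (S : Subgroup G), s * x = x * s := by
      intro s hs
      have h1 : x * s * x⁻¹ * s⁻¹ ∈ (S : Subgroup G) := by
        rw [Subgroup.mem_normalizer_iff] at hnorm
        exact Subgroup.mul_mem _ ((hnorm s).mp hs) (Subgroup.inv_mem _ hs)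
      obtain ⟨j, hj⟩ := orderOf_eq_prime_pow_of_mem_sylow S _ h1
      have hcm : Commute x (s * x⁻¹ * s⁻¹) :=
        hMab x hxM _ (hMn.conj_mem _ (M.inv_mem hxM) s)
      have h2 : orderOf (x * (s * x⁻¹ * s⁻¹)) ∣ Nat.lcm (orderOf x) (orderOf (s * x⁻¹ * s⁻¹)) :=
        hcm.orderOf_mul_dvd_lcm
      rw [orderOf_conj_eq, orderOf_inv, Nat.lcm_self] at h2
      have e : x * (s * x⁻¹ * s⁻¹) = x * s * x⁻¹ * s⁻¹ := by group
      rw [e, hj] at h2
      have h3 : Odd (2 ^ j) := Odd.of_dvd_nat hodd h2
      have hj0 : j = 0 := by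
        by_contra hj0
        have : Even (2 ^ j) := (Nat.even_pow.mpr ⟨even_two, hj0⟩)
        exact (Nat.not_odd_iff_even.mpr this) h3
      rw [hj0, pow_zero, orderOf_eq_one_iff] at hj
      have : x * s = (x * s * x⁻¹ * s⁻¹) * (s * x) := by group
      rw [this, hj, one_mul]
    have hle : (S : Subgroup G) ≤ Subgroup.centralizer ({x} : Set G) := by
      intro s hs
      rw [Subgroup.mem_centralizer_iff]
      intro y hy
      rw [Set.mem_singleton_iff] at hy
      subst hy
      exact (hcent s hs).symm
    have hoddidx : ¬ 2 ∣ (Subgroup.centralizer ({x} : Set G)).index := by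
      intro h2
      exact S.not_dvd_index (h2.trans (Subgroup.index_dvd_of_le hle))
    have hsq := sq_eq_one_of_real_of_odd_index x hoddidx hreal
    have hd : orderOf x ∣ 2 := orderOf_dvd_of_pow_eq_one hsq
    have h12 : orderOf x = 1 ∨ orderOf x = 2 := (Nat.dvd_prime Nat.prime_two).mp hd
    rcases h12 with h | h
    · exact hx1 (orderOf_eq_one_iff.mp h)
    · rw [h] at hodd
      exact (Nat.not_odd_iff_even.mpr even_two) hodd

/-- Let G be a finite solvable group with Sylow 2-subgroup S, and let x ≠ 1 be an element of odd order normalizing S. Then x is not conjugate to its inverse in G. -/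
theorem result {G : Type*} [Group G] [Finite G] [Group.IsSolvable G]
    (S : Sylow 2 G) (x : G) (hx : x ≠ 1) (hodd : Odd (orderOf x))
    (hnorm : x ∈ Subgroup.normalizer ((S : Subgroup G) : Set G)) : ¬ IsConj x x⁻¹ := by
  intro hreal
  exact hx (key _ G rfl S x hodd hnorm hreal)

end Cfsg.Agent.S4060
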