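import Cfsg.Statements.S4065
import Mathlib

set_option autoImplicit false
open Cfsg Matrix

namespace Cfsg.Agent.S4065

/-- in a group where commuting is transitive on nonidentity elements, centralizers are TI -/
theorem ti_of_ca {G : Type*} [Group G]
    (hCA : ∀ y : G, y ≠ 1 → ∀ u v : G, u * y = y * u → v * y = y * v → u * v = v * u) (x : G) :
    IsTISubset (Subgroup.centralizer ({x} : Set G) : Set G) := by
  intro g hg y hy hgy
  by_contra hy1
  apply hg
  rw [Subgroup.mem_normalizer_iff]
  by_cases hx : x = 1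
  · intro n
    subst hx
    constructor
    · intro _
      show g * n * g⁻¹ ∈ Subgroup.centralizer ({1} : Set G)
      rw [Subgroup.mem_centralizer_singleton_iff]
      simp
    · intro _
      show n ∈ Subgroup.centralizer ({1} : Set G)
      rw [Subgroup.mem_centralizer_singleton_iff]
      simp
  · have hy' : y * x = x * y := Subgroup.mem_centralizer_singleton_iff.1 hy
    have hgy' : g * y * g⁻¹ * x = x * (g * y * g⁻¹) := Subgroup.mem_centralizer_singleton_iff.1 hgy
    have hgy1 : g * y * g⁻¹ ≠ 1 := by
      intro h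
      exact hy1 (conj_eq_one_iff.1 h)
    have key : ∀ z : G, z ≠ 1 → z * x = x * z → ∀ w : G,
        w ∈ Subgroup.centralizer ({x} : Set G) ↔ w * z = z * w := by
      intro z hz1 hzx w
      rw [Subgroup.mem_centralizer_singleton_iff]
      constructor
      · intro hw
        exact hCA x hx w z hw hzx
      · intro hw
        exact hCA z hz1 w x hw hzx.symm
    intro n
    show n ∈ Subgroup.centralizer ({x} : Set G) ↔ g * n * g⁻¹ ∈ Subgroup.centralizer ({x} : Set G)
    rw [key y hy1 hy' n, key _ hgy1 hgy' (g * n * g⁻¹)]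
    constructor
    · intro h
      have : g * n * g⁻¹ * (g * y * g⁻¹) = g * (n * y) * g⁻¹ := by group
      rw [this, h]
      group
    · intro h
      have h1 : g * (n * y) * g⁻¹ = g * (y * n) * g⁻¹ := by
        have e1 : g * n * g⁻¹ * (g * y * g⁻¹) = g * (n * y) * g⁻¹ := by group
        have e2 : g * y * g⁻¹ * (g * n * g⁻¹) = g * (y * n) * g⁻¹ := by group
        rw [← e1, ← e2, h]
      exact mul_left_cancel (mul_right_cancel h1)

theorem mat2_comm {F : Type*} [Field F] (A B C : Matrix (Fin 2) (Fin 2) F)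
    (hA : A 0 1 ≠ 0 ∨ A 1 0 ≠ 0 ∨ A 0 0 ≠ A 1 1)
    (hB : B * A = A * B) (hC : C * A = A * C) : B * C = C * B := by
  have b00 := congrFun (congrFun hB 0) 0
  have b01 := congrFun (congrFun hB 0) 1
  have b10 := congrFun (congrFun hB 1) 0
  have c00 := congrFun (congrFun hC 0) 0
  have c01 := congrFun (congrFun hC 0) 1
  have c10 := congrFun (congrFun hC 1) 0
  simp only [Matrix.mul_apply, Fin.sum_univ_two] at b00 b01 b10 c00 c01 c10
  by_cases h1 : A 0 1 = 0
  · by_cases h2 : A 1 0 = 0
    · have h3 : A 0 0 ≠ A 1 1 := by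
        rcases hA with h | h | h
        · exact absurd h1 h
        · exact absurd h2 h
        · exact h
      have h3' : A 0 0 - A 1 1 ≠ 0 := sub_ne_zero.2 h3
      rw [h1] at b01 c01
      rw [h2] at b10 c10
      have hB01 : B 0 1 = 0 := by
        apply mul_left_cancel₀ h3'
        linear_combination -b01
      have hB10 : B 1 0 = 0 := by
        apply mul_left_cancel₀ h3'
        linear_combination b10
      have hC01 : C 0 1 = 0 := by
        apply mul_left_cancel₀ h3'
        linear_combination -c01
      have hC10 : C 1 0 = 0 := by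
        apply mul_left_cancel₀ h3'
        linear_combination c10
      ext i j
      fin_cases i <;> fin_cases j <;>
        simp only [Matrix.mul_apply, Fin.sum_univ_two, Fin.zero_eta, Fin.mk_one, hB01, hB10,
          hC01, hC10] <;> ring
    · have hB01 : B 0 1 = B 1 0 * A 0 1 / A 1 0 := by
        rw [eq_div_iff h2]
        linear_combination b00
      have hB00 : B 0 0 = B 1 1 + B 1 0 * (A 0 0 - A 1 1) / A 1 0 := by
        field_simp
        linear_combination -b10
      have hC01 : C 0 1 = C 1 0 * A 0 1 / A 1 0 := by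
        rw [eq_div_iff h2]
        linear_combination c00
      have hC00 : C 0 0 = C 1 1 + C 1 0 * (A 0 0 - A 1 1) / A 1 0 := by
        field_simp
        linear_combination -c10
      ext i j
      fin_cases i <;> fin_cases j <;>
        simp only [Matrix.mul_apply, Fin.sum_univ_two, Fin.zero_eta, Fin.mk_one] <;>
        simp only [hB01, hB00, hC01, hC00] <;> field_simp <;> ring
  · have hB10 : B 1 0 = B 0 1 * A 1 0 / A 0 1 := by
      rw [eq_div_iff h1]
      linear_combination -b00
    have hB00 : B 0 0 = B 1 1 + B 0 1 * (A 0 0 - A 1 1) / A 0 1 := by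
      field_simp
      linear_combination b01
    have hC10 : C 1 0 = C 0 1 * A 1 0 / A 0 1 := by
      rw [eq_div_iff h1]
      linear_combination -c00
    have hC00 : C 0 0 = C 1 1 + C 0 1 * (A 0 0 - A 1 1) / A 0 1 := by
      field_simp
      linear_combination c01
    ext i j
    fin_cases i <;> fin_cases j <;>
      simp only [Matrix.mul_apply, Fin.sum_univ_two, Fin.zero_eta, Fin.mk_one] <;>
      simp only [hB10, hB00, hC10, hC00] <;> field_simp <;> ring

theorem sq_eq_one_char2 {F : Type*} [Field F] [CharP F 2] (a : F) (h : a * a = 1) : a = 1 := by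
  have h1 : (a + 1) ^ 2 = 0 := by
    rw [CharTwo.add_sq, one_pow, pow_two, h, CharTwo.add_self_eq_zero]
  have h2 : a + 1 = 0 := by
    exact pow_eq_zero_iff (two_ne_zero) |>.1 h1
  have h3 : a = -1 := eq_neg_of_add_eq_zero_left h2
  rw [h3, CharTwo.neg_eq]

theorem sl2_ca {F : Type*} [Field F] [CharP F 2] (A : Matrix.SpecialLinearGroup (Fin 2) F) (hA : A ≠ 1)
    (B C : Matrix.SpecialLinearGroup (Fin 2) F) (hB : B * A = A * B) (hC : C * A = A * C) :
    B * C = C * B := by
  apply Subtype.ext
  show B.1 * C.1 = C.1 * B.1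
  apply mat2_comm A.1 B.1 C.1
  · by_contra hcon
    push Not at hcon
    obtain ⟨h1, h2, h3⟩ := hcon
    apply hA
    have hdet := A.2
    rw [Matrix.det_fin_two, h1, h2, h3, mul_zero, sub_zero] at hdet
    have h4 := sq_eq_one_char2 _ hdet
    apply Subtype.ext
    ext i j
    fin_cases i <;> fin_cases j
    · show A.1 0 0 = 1
      rw [h3, h4]
    · show A.1 0 1 = 0
      exact h1
    · show A.1 1 0 = 0
      exact h2
    · show A.1 1 1 = 1
      exact h4
  · exact congrArg Subtype.val hB
  · exact congrArg Subtype.val hC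

theorem sl2_center_char2 {F : Type*} [Field F] [CharP F 2] (A : Matrix.SpecialLinearGroup (Fin 2) F)
    (hA : A ∈ Subgroup.center (Matrix.SpecialLinearGroup (Fin 2) F)) : A = 1 := by
  rw [Matrix.SpecialLinearGroup.mem_center_iff] at hA
  obtain ⟨r, hr, hrA⟩ := hA
  rw [Fintype.card_fin, pow_two] at hr
  have hr1 := sq_eq_one_char2 r hr
  apply Subtype.ext
  rw [← hrA, hr1]
  simp

theorem psl2_ca {F : Type*} [Field F] [CharP F 2]
    (y : Matrix.ProjectiveSpecialLinearGroup (Fin 2) F) (hy : y ≠ 1)
    (u v : Matrix.ProjectiveSpecialLinearGroup (Fin 2) F) (hu : u * y = y * u) (hv : v * y = y * v) :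
    u * v = v * u := by
  obtain ⟨Y, rfl⟩ := QuotientGroup.mk_surjective y
  obtain ⟨U, rfl⟩ := QuotientGroup.mk_surjective u
  obtain ⟨V, rfl⟩ := QuotientGroup.mk_surjective v
  have hcen : ∀ M N : Matrix.SpecialLinearGroup (Fin 2) F,
      (QuotientGroup.mk M : Matrix.ProjectiveSpecialLinearGroup (Fin 2) F) = QuotientGroup.mk N →
      M = N := by
    intro M N h
    rw [QuotientGroup.eq] at h
    have := sl2_center_char2 _ h
    exact (inv_mul_eq_one.1 this)
  have hY : Y ≠ 1 := by
    rintro rfl
    exact hy rfl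
  rw [← QuotientGroup.mk_mul, ← QuotientGroup.mk_mul] at hu hv ⊢
  rw [sl2_ca Y hY U V (hcen _ _ hu) (hcen _ _ hv)]

theorem main4065 (n : ℕ) (hn : 2 ≤ n)
    (x : Matrix.ProjectiveSpecialLinearGroup (Fin 2) (GaloisField 2 n)) :
    Cfsg.IsTISubset (Subgroup.centralizer ({x} : Set (Matrix.ProjectiveSpecialLinearGroup (Fin 2) (GaloisField 2 n))) :
      Set (Matrix.ProjectiveSpecialLinearGroup (Fin 2) (GaloisField 2 n))) := by
  haveI : Fact (Nat.Prime 2) := ⟨Nat.prime_two⟩
  exact ti_of_ca (fun y hy u v hu hv => psl2_ca y hy u v hu hv) x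


/-- Let F be a finite field with 2ⁿ elements, n ≥ 2. In PSL₂(F) the centralizer of every element meets each of its conjugates by elements outside its normalizer trivially. -/
theorem result (n : ℕ) (hn : 2 ≤ n)
    (x : Matrix.ProjectiveSpecialLinearGroup (Fin 2) (GaloisField 2 n)) :
    Cfsg.IsTISubset (Subgroup.centralizer ({x} : Set (Matrix.ProjectiveSpecialLinearGroup (Fin 2) (GaloisField 2 n))) :
      Set (Matrix.ProjectiveSpecialLinearGroup (Fin 2) (GaloisField 2 n))) := by
  exact main4065 n hn x

end Cfsg.Agent.S4065
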