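import Cfsg.Statements.S4066
import Cfsg.Agent.Lib.Helper7.CommClosure
import Cfsg.Agent.Lib.Helper7.SylowBasic

set_option autoImplicit false
open Cfsg

namespace Cfsg.Agent.S4066

open Cfsg.Agent.Lib.Helper7

/-- TI in contrapositive form -/
theorem ti_mem_normalizer {G : Type*} [Group G] (X : Set G) (h : Cfsg.IsTISubset X) (g x : G)
    (hx : x ∈ X) (hgx : g * x * g⁻¹ ∈ X) (hne : x ≠ 1) : g ∈ Subgroup.normalizer X := by
  by_contra hg
  exact hne (h g hg x hx hgx)

theorem mem_cent_singleton {G : Type*} [Group G] (x c : G) :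
    c ∈ (Subgroup.centralizer ({x} : Set G) : Set G) ↔ x * c = c * x := by
  rw [SetLike.mem_coe, Subgroup.mem_centralizer_iff]
  constructor
  · intro h; exact h x rfl
  · intro h z hz
    rw [Set.mem_singleton_iff] at hz
    subst hz; exact h

/-- A CTI group with nontrivial centre has a unique Sylow `p`-subgroup. -/
theorem lemmaA {K : Type*} [Group K] [Finite K]
    (hTI : ∀ x : K, Cfsg.IsTISubset (Subgroup.centralizer ({x} : Set K) : Set K))
    (w : K) (hw1 : w ≠ 1) (hwc : ∀ k : K, w * k = k * w)
    {p : ℕ} [Fact p.Prime] (P Q : Sylow p K) : P = Q := by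
  -- every element commutes with all its conjugates
  have hconj : ∀ y g : K, y * (g * y * g⁻¹) = (g * y * g⁻¹) * y := by
    intro y g
    have hwC : w ∈ (Subgroup.centralizer ({y} : Set K) : Set K) := by
      rw [mem_cent_singleton]; exact (hwc y).symm
    have hgw : g * w * g⁻¹ = w := by
      rw [← hwc g]; group
    have hg : g ∈ Subgroup.normalizer (Subgroup.centralizer ({y} : Set K) : Set K) :=
      ti_mem_normalizer _ (hTI y) g w hwC (by rw [hgw]; exact hwC) hw1
    rw [Subgroup.mem_normalizer_iff] at hg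
    have hy : y ∈ Subgroup.centralizer ({y} : Set K) := by
      rw [← SetLike.mem_coe, mem_cent_singleton]
    have := (hg y).mp hy
    rw [← SetLike.mem_coe, mem_cent_singleton] at this
    exact this
  have hle : (P : Subgroup K) ≤ Q := by
    intro y hy
    set S : Set K := Group.conjugatesOfSet ({y} : Set K) with hS
    have hSmem : ∀ a ∈ S, ∃ c : K, c * y * c⁻¹ = a := by
      intro a ha
      rw [hS, Group.mem_conjugatesOfSet_iff] at ha
      obtain ⟨b, hb, hab⟩ := ha
      rw [Set.mem_singleton_iff] at hb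
      subst hb
      exact isConj_iff.mp hab
    have hcomm : ∀ a ∈ S, ∀ b ∈ S, a * b = b * a := by
      intro a ha b hb
      obtain ⟨c, rfl⟩ := hSmem a ha
      obtain ⟨d, rfl⟩ := hSmem b hb
      have h1 := hconj y (c⁻¹ * d)
      have e1 : c * y * c⁻¹ * (d * y * d⁻¹) = c * (y * (c⁻¹ * d * y * (c⁻¹ * d)⁻¹)) * c⁻¹ := by
        group
      have e2 : d * y * d⁻¹ * (c * y * c⁻¹) = c * ((c⁻¹ * d * y * (c⁻¹ * d)⁻¹) * y) * c⁻¹ := by
        group
      rw [e1, e2, h1]
    obtain ⟨n, hn⟩ := orderOf_eq_prime_pow_of_mem_sylow P y hy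
    have hSp : ∀ a ∈ S, ∃ n : ℕ, a ^ p ^ n = 1 := by
      intro a ha
      obtain ⟨c, rfl⟩ := hSmem a ha
      refine ⟨n, ?_⟩
      rw [← hn, ← orderOf_conj_eq c y]
      exact pow_orderOf_eq_one _
    have hpg : IsPGroup p (Subgroup.normalClosure ({y} : Set K)) :=
      isPGroup_closure_of_commute S hcomm hSp
    have hyN : y ∈ Subgroup.normalClosure ({y} : Set K) :=
      Subgroup.subset_normalClosure rfl
    exact hpg.le_sylow_of_normal Q hyN
  exact Sylow.ext (P.is_maximal' Q.isPGroup' hle).symm

/-- CTI passes to subgroups -/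
theorem cti_subgroup {G : Type*} [Group G]
    (hTI : ∀ x : G, Cfsg.IsTISubset (Subgroup.centralizer ({x} : Set G) : Set G))
    (T : Subgroup G) (x : T) :
    Cfsg.IsTISubset (Subgroup.centralizer ({x} : Set T) : Set T) := by
  intro k hk c hc hkc
  rw [mem_cent_singleton] at hc hkc
  by_contra hne
  apply hk
  have hc' : (c : G) ∈ (Subgroup.centralizer ({(x : G)} : Set G) : Set G) := by
    rw [mem_cent_singleton]
    exact congrArg Subtype.val hc
  have hkc' : (k : G) * (c : G) * (k : G)⁻¹ ∈ (Subgroup.centralizer ({(x : G)} : Set G) : Set G) := by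
    rw [mem_cent_singleton]
    exact congrArg Subtype.val hkc
  have hne' : (c : G) ≠ 1 := by
    intro h; apply hne; exact Subtype.ext h
  have hkN := ti_mem_normalizer _ (hTI (x : G)) (k : G) (c : G) hc' hkc' hne'
  rw [Subgroup.mem_normalizer_iff] at hkN ⊢
  intro t
  have := hkN (t : G)
  rw [← SetLike.mem_coe, ← SetLike.mem_coe, mem_cent_singleton, mem_cent_singleton] at this ⊢
  constructor
  · intro h
    apply Subtype.ext
    exact this.mp (congrArg Subtype.val h)
  · intro h
    apply Subtype.ext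
    exact this.mpr (congrArg Subtype.val h)

/-- Let G be a finite group in which the centralizer of every element meets each of its conjugates by elements outside its normalizer trivially. Then any two distinct Sylow p-subgroups of G, for any prime p, intersect trivially. -/
theorem result {G : Type*} [Group G] [Finite G] (hTI : ∀ x : G, Cfsg.IsTISubset (Subgroup.centralizer ({x} : Set G) : Set G))
    {p : ℕ} [Fact p.Prime] (P Q : Sylow p G) (hPQ : P ≠ Q) : (P : Subgroup G) ⊓ (Q : Subgroup G) = ⊥ := by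
  by_contra hD
  apply hPQ
  obtain ⟨d, hd, hd1'⟩ := (Subgroup.bot_or_exists_ne_one _).resolve_left hD
  obtain ⟨hdP, hdQ⟩ := Subgroup.mem_inf.mp hd
  -- a nontrivial central element of P
  haveI : Nontrivial (P : Subgroup G) := ⟨⟨⟨d, hdP⟩, 1, fun h => hd1' (congrArg Subtype.val h)⟩⟩
  haveI := P.isPGroup'.center_nontrivial
  obtain ⟨⟨⟨x, hxP⟩, hxc⟩, hx1⟩ := exists_ne (1 : Subgroup.center (P : Subgroup G))
  have hx1' : x ≠ 1 := by
    intro h; apply hx1; exact Subtype.ext (Subtype.ext h)
  have hxP' : ∀ u ∈ (P : Subgroup G), x * u = u * x := by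
    intro u hu
    have := (Subgroup.mem_center_iff.mp hxc) ⟨u, hu⟩
    exact (congrArg Subtype.val this).symm
  obtain ⟨g, rfl⟩ := MulAction.exists_smul_eq G P Q
  have hdQ' : g⁻¹ * d * g ∈ P := (mem_sylow_smul P g d).mp hdQ
  -- g normalizes C(x)
  have hgN : g ∈ Subgroup.normalizer (Subgroup.centralizer ({x} : Set G) : Set G) := by
    apply ti_mem_normalizer _ (hTI x) g (g⁻¹ * d * g)
    · rw [mem_cent_singleton]; exact hxP' _ hdQ'
    · rw [mem_cent_singleton]
      have : g * (g⁻¹ * d * g) * g⁻¹ = d := by group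
      rw [this]; exact hxP' _ hdP
    · intro h
      apply hd1'
      have : d = g * (g⁻¹ * d * g) * g⁻¹ := by group
      rw [this, h]; group
  set w := g * x * g⁻¹ with hw
  have hw1 : w ≠ 1 := by
    intro h
    apply hx1'
    have : x = g⁻¹ * w * g := by rw [hw]; group
    rw [this, h]; group
  -- w commutes with C(x)
  have hwC : ∀ c : G, x * c = c * x → w * c = c * w := by
    intro c hc
    have hgi : g⁻¹ ∈ Subgroup.normalizer (Subgroup.centralizer ({x} : Set G) : Set G) :=
      Subgroup.inv_mem _ hgN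
    rw [Subgroup.mem_normalizer_iff] at hgi
    have h1 := (hgi c).mp (by rw [← SetLike.mem_coe, mem_cent_singleton]; exact hc)
    rw [← SetLike.mem_coe, mem_cent_singleton, inv_inv] at h1
    rw [hw]
    calc g * x * g⁻¹ * c = g * (x * (g⁻¹ * c * g)) * g⁻¹ := by group
      _ = g * ((g⁻¹ * c * g) * x) * g⁻¹ := by rw [h1]
      _ = c * (g * x * g⁻¹) := by group
  have hwP : ∀ u ∈ (P : Subgroup G), w * u = u * w := fun u hu => hwC u (hxP' u hu)
  have hwQ : ∀ v ∈ ((g • P : Sylow p G) : Subgroup G), w * v = v * w := by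
    intro v hv
    have hv' : g⁻¹ * v * g ∈ P := (mem_sylow_smul P g v).mp hv
    have h1 := hxP' _ hv'
    rw [hw]
    calc g * x * g⁻¹ * v = g * (x * (g⁻¹ * v * g)) * g⁻¹ := by group
      _ = g * ((g⁻¹ * v * g) * x) * g⁻¹ := by rw [h1]
      _ = v * (g * x * g⁻¹) := by group
  have hwQmem : w ∈ ((g • P : Sylow p G) : Subgroup G) := by
    show w ∈ (g • P : Sylow p G)
    rw [mem_sylow_smul, hw]
    have : g⁻¹ * (g * x * g⁻¹) * g = x := by group
    rw [this]; exact hxP
  set T : Subgroup G := (P : Subgroup G) ⊔ ((g • P : Sylow p G) : Subgroup G) with hT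
  have hPT : (P : Subgroup G) ≤ T := le_sup_left
  have hQT : ((g • P : Sylow p G) : Subgroup G) ≤ T := le_sup_right
  have hTle : T ≤ Subgroup.centralizer ({w} : Set G) := by
    apply sup_le
    · intro u hu
      rw [← SetLike.mem_coe, mem_cent_singleton]; exact hwP u hu
    · intro u hu
      rw [← SetLike.mem_coe, mem_cent_singleton]; exact hwQ u hu
  have hwT : w ∈ T := hQT hwQmem
  have key := lemmaA (K := T) (cti_subgroup hTI T) ⟨w, hwT⟩
    (fun h => hw1 (congrArg Subtype.val h))
    (fun k => by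
      apply Subtype.ext
      have := hTle k.2
      rw [← SetLike.mem_coe, mem_cent_singleton] at this
      exact this)
    (P.subtype hPT) ((g • P).subtype hQT)
  exact Sylow.subtype_injective key

end Cfsg.Agent.S4066
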