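import Cfsg.Statements.S4071
import Mathlib
import Cfsg.Agent.S4797

set_option autoImplicit false
open Cfsg

namespace Cfsg.Agent.S4071


theorem comm_of_imc {G : Type*} [Group G] {A : Subgroup G} (hAc : IsMulCommutative A) :
    ∀ a ∈ A, ∀ b ∈ A, a * b = b * a := by
  intro a ha b hb
  have := hAc.is_comm.comm ⟨a, ha⟩ ⟨b, hb⟩
  exact congrArg Subtype.val this

theorem imc_of_comm {G : Type*} [Group G] {A : Subgroup G}
    (h : ∀ a ∈ A, ∀ b ∈ A, a * b = b * a) : IsMulCommutative A :=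
  ⟨⟨fun a b => Subtype.ext (h a.1 a.2 b.1 b.2)⟩⟩

theorem backward {G : Type*} [Group G] [Finite G] (x : G) (A : Subgroup G) (p : ℕ) (hp : p.Prime)
    (hAn : A.Normal) (hAc : IsMulCommutative A) (hx : ∃ k : ℕ, orderOf x = p ^ k)
    (hcompl : (Subgroup.zpowers x).IsComplement' A) (hxp : x ^ p ∈ Subgroup.center G)
    (hfpf : ∀ a : G, a ∈ A → a ≠ 1 → x * a * x⁻¹ ≠ a)
    (H : Subgroup G) (hH : ¬ IsMulCommutative H) : Subgroup.normalizer (H : Set G) = H := by
  classical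
  have := hAn
  have hA := comm_of_imc hAc
  obtain ⟨k, hk⟩ := hx
  have hdec : ∀ g : G, ∃ i : ℤ, ∃ a ∈ A, g = x ^ i * a := by
    intro g
    obtain ⟨⟨⟨z, hz⟩, ⟨a, ha⟩⟩, hza, -⟩ := Subgroup.isComplement_iff_existsUnique.mp hcompl g
    obtain ⟨i, rfl⟩ := Subgroup.mem_zpowers_iff.mp hz
    exact ⟨i, a, ha, hza.symm⟩
  have hex : ∃ h ∈ H, ∃ i : ℤ, ∃ a ∈ A, h = x ^ i * a ∧ ¬ (p : ℤ) ∣ i := by
    by_contra hcon
    push Not at hcon
    apply hH
    apply imc_of_comm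
    have hform : ∀ h ∈ H, ∃ X ∈ Subgroup.center G, ∃ a ∈ A, h = X * a := by
      intro h hh
      obtain ⟨i, a, ha, e₁⟩ := hdec h
      obtain ⟨i', rfl⟩ := hcon h hh i a ha e₁
      refine ⟨x ^ ((p : ℤ) * i'), ?_, a, ha, e₁⟩
      have : x ^ ((p : ℤ) * i') = (x ^ p) ^ i' := by
        rw [zpow_mul, zpow_natCast]
      rw [this]
      exact Subgroup.zpow_mem _ hxp i'
    intro h₁ hh₁ h₂ hh₂
    obtain ⟨X, hX, a, ha, rfl⟩ := hform h₁ hh₁
    obtain ⟨Y, hY, b, hb, rfl⟩ := hform h₂ hh₂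
    have hXc := Subgroup.mem_center_iff.mp hX
    have hYc := Subgroup.mem_center_iff.mp hY
    calc X * a * (Y * b) = X * (a * Y) * b := by group
      _ = X * (Y * a) * b := by rw [hYc a]
      _ = (X * Y) * (a * b) := by group
      _ = (Y * X) * (b * a) := by rw [← hXc Y, hA a ha b hb]
      _ = Y * (X * b) * a := by group
      _ = Y * (b * X) * a := by rw [hXc b]
      _ = Y * b * (X * a) := by group
  obtain ⟨h, hh, i, a, ha, he, hnd⟩ := hex
  have hcop : IsCoprime i ((p : ℤ) ^ k) :=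
    (((Nat.prime_iff_prime_int.mp hp).irreducible.coprime_iff_not_dvd).mpr hnd).symm.pow_right
  obtain ⟨u, v, huv⟩ := hcop
  have hx1 : x ^ ((p : ℤ) ^ k) = 1 := by
    have := pow_orderOf_eq_one x
    rw [hk] at this
    rw [← Nat.cast_pow, zpow_natCast]; exact this
  have hxu : (x ^ i) ^ u = x := by
    calc (x ^ i) ^ u = x ^ (u * i) := (zpow_mul' x u i).symm
      _ = x ^ (u * i) * (x ^ ((p : ℤ) ^ k)) ^ v := by rw [hx1, one_zpow, mul_one]
      _ = x ^ (u * i) * x ^ (v * (p : ℤ) ^ k) := by rw [zpow_mul' x v]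
      _ = x ^ (u * i + v * (p : ℤ) ^ k) := (zpow_add x _ _).symm
      _ = x := by rw [huv, zpow_one]
  have ha1 : (QuotientGroup.mk' A) a = 1 := by
    rw [QuotientGroup.mk'_apply]; exact (QuotientGroup.eq_one_iff a).mpr ha
  have hq : (QuotientGroup.mk' A) (h ^ u) = (QuotientGroup.mk' A) x := by
    calc (QuotientGroup.mk' A) (h ^ u) = ((QuotientGroup.mk' A) h) ^ u := map_zpow _ _ _
      _ = ((QuotientGroup.mk' A) (x ^ i)) ^ u := by rw [he, map_mul, ha1, mul_one]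
      _ = (QuotientGroup.mk' A) ((x ^ i) ^ u) := (map_zpow _ _ _).symm
      _ = (QuotientGroup.mk' A) x := by rw [hxu]
  obtain ⟨y, hydef⟩ : ∃ y, y = h ^ u := ⟨_, rfl⟩
  rw [← hydef] at hq
  have hyH : y ∈ H := by rw [hydef]; exact H.zpow_mem hh u
  have hqy : ((x : G) : G ⧸ A) = ((y : G) : G ⧸ A) := hq.symm
  have ha₁ : x⁻¹ * y ∈ A := QuotientGroup.eq.mp hqy
  have hy : y = x * (x⁻¹ * y) := by rw [mul_inv_cancel_left]
  have hinj : ∀ a ∈ A, ∀ b ∈ A, a * y * a⁻¹ * y⁻¹ = b * y * b⁻¹ * y⁻¹ → a = b := by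
    intro a ha b hb e
    have e1 : a * y * a⁻¹ = b * y * b⁻¹ := mul_right_cancel e
    have hc : b⁻¹ * a ∈ A := A.mul_mem (A.inv_mem hb) ha
    have e2 : (b⁻¹ * a) * y = y * (b⁻¹ * a) := by
      have : b⁻¹ * (a * y * a⁻¹) * a = b⁻¹ * (b * y * b⁻¹) * a := by rw [e1]
      simpa [mul_assoc] using this
    have e3 : x * (b⁻¹ * a) * x⁻¹ = b⁻¹ * a := by
      rw [hy] at e2
      have h1 : (b⁻¹ * a) * x * (x⁻¹ * y) = x * (b⁻¹ * a) * (x⁻¹ * y) := by
        rw [mul_assoc, e2, mul_assoc, hA _ ha₁ _ hc, ← mul_assoc]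
      have h2 : (b⁻¹ * a) * x = x * (b⁻¹ * a) := mul_right_cancel h1
      rw [← h2, mul_assoc, mul_inv_cancel, mul_one]
    by_contra hab
    have hc1 : b⁻¹ * a ≠ 1 := fun h1 => hab (inv_mul_eq_one.mp h1).symm
    exact hfpf _ hc hc1 e3
  apply le_antisymm _ Subgroup.le_normalizer
  intro g hg
  obtain ⟨j, c, hc, rfl⟩ := hdec g
  have hqj : ((y ^ j : G) : G ⧸ A) = ((x ^ j : G) : G ⧸ A) := by
    have h1 : (QuotientGroup.mk' A) (y ^ j) = (QuotientGroup.mk' A) (x ^ j) := by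
      rw [map_zpow, map_zpow, hq]
    exact h1
  have haA : (y ^ j)⁻¹ * (x ^ j * c) ∈ A := by
    have h1 : (y ^ j)⁻¹ * x ^ j ∈ A := QuotientGroup.eq.mp hqj
    have h2 : (y ^ j)⁻¹ * (x ^ j * c) = ((y ^ j)⁻¹ * x ^ j) * c := by group
    rw [h2]; exact A.mul_mem h1 hc
  have hyjH : y ^ j ∈ H := H.zpow_mem hyH j
  have haN : (y ^ j)⁻¹ * (x ^ j * c) ∈ Subgroup.normalizer (H : Set G) :=
    Subgroup.mul_mem _ (Subgroup.inv_mem _ (Subgroup.le_normalizer hyjH)) hg
  obtain ⟨a', ha'def⟩ : ∃ a', a' = (y ^ j)⁻¹ * (x ^ j * c) := ⟨_, rfl⟩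
  rw [← ha'def] at haA haN
  have hwH : a' * y * a'⁻¹ * y⁻¹ ∈ H :=
    H.mul_mem ((Subgroup.mem_normalizer_iff.mp haN y).mp hyH) (H.inv_mem hyH)
  have hwA : ∀ b ∈ A, b * y * b⁻¹ * y⁻¹ ∈ A := by
    intro b hb
    have h1 : b * y * b⁻¹ * y⁻¹ = b * (y * b⁻¹ * y⁻¹) := by group
    rw [h1]; exact A.mul_mem hb (hAn.conj_mem _ (A.inv_mem hb) y)
  let f : ↥(H ⊓ A) → ↥(H ⊓ A) := fun b =>
    ⟨b.1 * y * b.1⁻¹ * y⁻¹, Subgroup.mem_inf.mpr
      ⟨H.mul_mem (H.mul_mem (H.mul_mem (Subgroup.mem_inf.mp b.2).1 hyH)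
        (H.inv_mem (Subgroup.mem_inf.mp b.2).1)) (H.inv_mem hyH),
       hwA b.1 (Subgroup.mem_inf.mp b.2).2⟩⟩
  have hfinj : Function.Injective f := by
    intro b b' e
    apply Subtype.ext
    exact hinj b.1 (Subgroup.mem_inf.mp b.2).2 b'.1 (Subgroup.mem_inf.mp b'.2).2
      (congrArg Subtype.val e)
  have hfsurj := Finite.injective_iff_surjective.mp hfinj
  obtain ⟨b, hb⟩ := hfsurj ⟨a' * y * a'⁻¹ * y⁻¹, Subgroup.mem_inf.mpr ⟨hwH, hwA a' haA⟩⟩
  have hb' : b.1 * y * b.1⁻¹ * y⁻¹ = a' * y * a'⁻¹ * y⁻¹ := congrArg Subtype.val hb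
  have hab : a' = b.1 := hinj a' haA b.1 (Subgroup.mem_inf.mp b.2).2 hb'.symm
  have hg' : x ^ j * c = y ^ j * a' := by rw [ha'def, mul_inv_cancel_left]
  rw [hg', hab]
  exact H.mul_mem hyjH (Subgroup.mem_inf.mp b.2).1

/-- the `p'`-part of an abelian subgroup -/
def pPrimePart {G : Type*} [Group G] (M : Subgroup G) (p : ℕ)
    (hM : ∀ a ∈ M, ∀ b ∈ M, a * b = b * a) : Subgroup G where
  carrier := {g | g ∈ M ∧ (orderOf g).Coprime p}
  one_mem' := ⟨M.one_mem, by simp⟩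
  mul_mem' := by
    rintro a b ⟨ha, hac⟩ ⟨hb, hbc⟩
    refine ⟨M.mul_mem ha hb, ?_⟩
    have hd : orderOf (a * b) ∣ orderOf a * orderOf b :=
      (show Commute a b from hM a ha b hb).orderOf_mul_dvd_mul_orderOf
    exact Nat.Coprime.coprime_dvd_left hd (Nat.Coprime.mul_left hac hbc)
  inv_mem' := by
    rintro a ⟨ha, hac⟩
    exact ⟨M.inv_mem ha, by rwa [orderOf_inv]⟩

theorem mem_pPrimePart {G : Type*} [Group G] {M : Subgroup G} {p : ℕ}
    {hM : ∀ a ∈ M, ∀ b ∈ M, a * b = b * a} {g : G} :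
    g ∈ pPrimePart M p hM ↔ g ∈ M ∧ (orderOf g).Coprime p := Iff.rfl

theorem cb_lemma {G : Type*} [Group G] (x a w : G) (p : ℕ) (hxp : x ^ p ∈ Subgroup.center G)
    (hw : w = a * (x * a⁻¹ * x⁻¹)) (hxw : x * w * x⁻¹ = w) (hcop : (orderOf w).Coprime p) :
    w = 1 := by
  have hσ : x * a * x⁻¹ = w⁻¹ * a := by rw [hw]; group
  have hcomm : Commute x w := by
    have : x * w = w * x := by
      have := congrArg (· * x) hxw
      simpa [mul_assoc] using this
    exact this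
  have hind : ∀ i : ℕ, x ^ i * a * (x ^ i)⁻¹ = (w ^ i)⁻¹ * a := by
    intro i
    induction i with
    | zero => simp
    | succ i ih =>
      have h1 : x * (w ^ i)⁻¹ * x⁻¹ = (w ^ i)⁻¹ := by
        have hc : Commute x (w ^ i)⁻¹ := (hcomm.pow_right i).inv_right
        rw [hc.eq, mul_assoc, mul_inv_cancel, mul_one]
      calc x ^ (i + 1) * a * (x ^ (i + 1))⁻¹ = x * (x ^ i * a * (x ^ i)⁻¹) * x⁻¹ := by
            group
        _ = x * ((w ^ i)⁻¹ * a) * x⁻¹ := by rw [ih]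
        _ = (x * (w ^ i)⁻¹ * x⁻¹) * (x * a * x⁻¹) := by group
        _ = (w ^ i)⁻¹ * (w⁻¹ * a) := by rw [h1, hσ]
        _ = (w ^ (i + 1))⁻¹ * a := by group
  have hp1 := hind p
  have hc : x ^ p * a = a * x ^ p := (Subgroup.mem_center_iff.mp hxp a).symm
  have h2 : x ^ p * a * (x ^ p)⁻¹ = a := by rw [hc, mul_assoc, mul_inv_cancel, mul_one]
  rw [h2] at hp1
  have h3 : w ^ p = 1 := by
    have : (w ^ p)⁻¹ = 1 := by
      have := congrArg (· * a⁻¹) hp1
      simpa using this.symm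
    exact inv_eq_one.mp this
  have h4 : orderOf w ∣ p := orderOf_dvd_of_pow_eq_one h3
  have h5 : orderOf w = 1 := Nat.Coprime.eq_one_of_dvd hcop h4
  exact orderOf_eq_one_iff.mp h5

/-- the commutator map on an abelian normal subgroup -/
def phi {G : Type*} [Group G] (A : Subgroup G) (hAn : A.Normal)
    (hA : ∀ a ∈ A, ∀ b ∈ A, a * b = b * a) (x : G) : ↥A →* ↥A :=
  MonoidHom.mk' (fun a => ⟨a.1 * (x * a.1⁻¹ * x⁻¹),
    A.mul_mem a.2 (hAn.conj_mem _ (A.inv_mem a.2) x)⟩) (by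
    intro a b
    apply Subtype.ext
    show (a.1 * b.1) * (x * (a.1 * b.1)⁻¹ * x⁻¹)
      = (a.1 * (x * a.1⁻¹ * x⁻¹)) * (b.1 * (x * b.1⁻¹ * x⁻¹))
    have hs : x * a.1⁻¹ * x⁻¹ ∈ A := hAn.conj_mem _ (A.inv_mem a.2) x
    have ht : x * b.1⁻¹ * x⁻¹ ∈ A := hAn.conj_mem _ (A.inv_mem b.2) x
    have e1 : x * (a.1 * b.1)⁻¹ * x⁻¹ = (x * b.1⁻¹ * x⁻¹) * (x * a.1⁻¹ * x⁻¹) := by group
    rw [e1]
    calc a.1 * b.1 * ((x * b.1⁻¹ * x⁻¹) * (x * a.1⁻¹ * x⁻¹))
        = a.1 * ((b.1 * (x * b.1⁻¹ * x⁻¹)) * (x * a.1⁻¹ * x⁻¹)) := by group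
      _ = a.1 * ((x * a.1⁻¹ * x⁻¹) * (b.1 * (x * b.1⁻¹ * x⁻¹))) := by
          rw [hA _ (A.mul_mem b.2 ht) _ hs]
      _ = _ := by group)

theorem phi_apply {G : Type*} [Group G] (A : Subgroup G) (hAn : A.Normal)
    (hA : ∀ a ∈ A, ∀ b ∈ A, a * b = b * a) (x : G) (a : ↥A) :
    ((phi A hAn hA x a : ↥A) : G) = a.1 * (x * a.1⁻¹ * x⁻¹) := rfl

theorem conj_phi {G : Type*} [Group G] (x z a : G) (hzx : z * x = x * z) :
    z * (a * (x * a⁻¹ * x⁻¹)) * z⁻¹ = (z * a * z⁻¹) * (x * (z * a * z⁻¹)⁻¹ * x⁻¹) := by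
  have h1 : z⁻¹ * x * z = x := by rw [mul_assoc, ← hzx, inv_mul_cancel_left]
  have h2 : z⁻¹ * x⁻¹ = x⁻¹ * z⁻¹ := by rw [← mul_inv_rev, ← mul_inv_rev, hzx]
  calc z * (a * (x * a⁻¹ * x⁻¹)) * z⁻¹ = z * a * x * a⁻¹ * (x⁻¹ * z⁻¹) := by group
    _ = z * a * (z⁻¹ * x * z) * a⁻¹ * (z⁻¹ * x⁻¹) := by rw [h1, h2]
    _ = (z * a * z⁻¹) * (x * (z * a * z⁻¹)⁻¹ * x⁻¹) := by group

theorem forward {G : Type*} [Group G] [Finite G] [Group.IsSolvable G] (hnn : ¬ Group.IsNilpotent G)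
    (hS : ∀ H : Subgroup G, ¬ IsMulCommutative H → Subgroup.normalizer (H : Set G) = H) :
    ∃ (x : G) (A : Subgroup G) (p : ℕ), p.Prime ∧ A.Normal ∧ IsMulCommutative A ∧
      (∃ k : ℕ, orderOf x = p ^ k) ∧
      ¬ p ∣ Nat.card A ∧ (Subgroup.zpowers x).IsComplement' A ∧ x ^ p ∈ Subgroup.center G ∧
      ∀ a : G, a ∈ A → a ≠ 1 → x * a * x⁻¹ ≠ a := by
  classical
  have hnt : Nontrivial G := by
    by_contra hnt
    rw [not_nontrivial_iff_subsingleton] at hnt
    exact hnn inferInstance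
  have hcomm : commutator G ≠ ⊤ := (Group.IsSolvable.commutator_lt_top_of_nontrivial G).ne
  obtain ⟨M, hMn, hMp⟩ := Cfsg.Agent.S4797.exists_normal_prime_index hcomm
  obtain ⟨p, hpdef⟩ : ∃ p, p = M.index := ⟨_, rfl⟩
  rw [← hpdef] at hMp
  have hpF : Fact p.Prime := ⟨hMp⟩
  have hMtop : M ≠ ⊤ := by
    intro h
    rw [h, Subgroup.index_top] at hpdef
    exact hMp.ne_one hpdef
  have hMab : ∀ a ∈ M, ∀ b ∈ M, a * b = b * a := by
    by_contra hcon
    have hnc : ¬ IsMulCommutative M := fun h => hcon (comm_of_imc h)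
    have := hS M hnc
    rw [Subgroup.normalizer_eq_top] at this
    exact hMtop this.symm
  obtain ⟨A, hAdef⟩ : ∃ A, A = pPrimePart M p hMab := ⟨_, rfl⟩
  have hmemA : ∀ g, g ∈ A ↔ g ∈ M ∧ (orderOf g).Coprime p := by
    intro g; rw [hAdef]; exact mem_pPrimePart
  have hAM : A ≤ M := fun g hg => ((hmemA g).mp hg).1
  have hA : ∀ a ∈ A, ∀ b ∈ A, a * b = b * a := fun a ha b hb => hMab a (hAM ha) b (hAM hb)
  have hAn : A.Normal := by
    constructor
    intro a ha g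
    rw [hmemA] at ha ⊢
    refine ⟨hMn.conj_mem a ha.1 g, ?_⟩
    have : orderOf (g * a * g⁻¹) = orderOf a := by
      have := (MulAut.conj g).orderOf_eq a
      rwa [MulAut.conj_apply] at this
    rw [this]; exact ha.2
  have hpA : ¬ p ∣ Nat.card A := by
    intro hdvd
    obtain ⟨y, hy⟩ := exists_prime_orderOf_dvd_card' p hdvd
    have h1 : orderOf (y : G) = p := by rw [Subgroup.orderOf_coe]; exact hy
    have h2 := ((hmemA y.1).mp y.2).2
    rw [h1] at h2
    exact hMp.ne_one ((Nat.coprime_self p).mp h2)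
  -- the element x
  obtain ⟨g, hg⟩ : ∃ g, g ∉ M := by
    by_contra h
    push Not at h
    exact hMtop ((Subgroup.eq_top_iff' M).mpr h)
  have hn0 : orderOf g ≠ 0 := (orderOf_pos g).ne'
  obtain ⟨e, m, hpm, hem⟩ := Nat.exists_eq_pow_mul_and_not_dvd hn0 p hMp.ne_one
  have hm0 : m ≠ 0 := by
    rintro rfl
    rw [mul_zero] at hem
    exact hn0 hem
  have hxord : orderOf (g ^ m) = p ^ e := by
    rw [orderOf_pow_of_dvd hm0 (by rw [hem]; exact dvd_mul_left _ _), hem,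
      Nat.mul_div_cancel _ (Nat.pos_of_ne_zero hm0)]
  have hpowM : ∀ z : G, z ^ p ∈ M := by
    intro z; rw [hpdef]; exact Subgroup.pow_index_mem M z
  have hxM : g ^ m ∉ M := by
    intro hmem
    have h1 : g ^ p ∈ M := hpowM g
    have hcop : IsCoprime (m : ℤ) (p : ℤ) :=
      Nat.isCoprime_iff_coprime.mpr (Nat.Coprime.symm ((Nat.Prime.coprime_iff_not_dvd hMp).mpr hpm))
    obtain ⟨u, v, huv⟩ := hcop
    apply hg
    have : g = (g ^ m) ^ u * (g ^ p) ^ v := by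
      calc g = g ^ (u * (m : ℤ) + v * (p : ℤ)) := by rw [huv, zpow_one]
        _ = g ^ (u * (m : ℤ)) * g ^ (v * (p : ℤ)) := zpow_add g _ _
        _ = (g ^ m) ^ u * (g ^ p) ^ v := by
            rw [zpow_mul' g u, zpow_mul' g v, zpow_natCast, zpow_natCast]
    rw [this]
    exact M.mul_mem (M.zpow_mem hmem u) (M.zpow_mem h1 v)
  obtain ⟨x, hxdef⟩ : ∃ x, x = g ^ m := ⟨_, rfl⟩
  rw [← hxdef] at hxord hxM
  have hsup : M ⊔ Subgroup.zpowers x = ⊤ := by
    by_contra hne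
    have hle : M ≤ M ⊔ Subgroup.zpowers x := le_sup_left
    have hd : (M ⊔ Subgroup.zpowers x).index ∣ p := by
      rw [hpdef]; exact Subgroup.index_dvd_of_le hle
    rcases (Nat.dvd_prime hMp).mp hd with h1 | h1
    · exact hne (Subgroup.index_eq_one.mp h1)
    · have h2 := Subgroup.relIndex_mul_index hle
      rw [h1, ← hpdef] at h2
      have h3 : M.relIndex (M ⊔ Subgroup.zpowers x) = 1 := by
        have h4 : M.relIndex (M ⊔ Subgroup.zpowers x) * p = 1 * p := by rw [h2, one_mul]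
        exact Nat.eq_of_mul_eq_mul_right hMp.pos h4
      have h4 : M ⊔ Subgroup.zpowers x ≤ M := Subgroup.relIndex_eq_one.mp h3
      exact hxM (h4 (Subgroup.mem_sup_right (Subgroup.mem_zpowers x)))
  -- the quotient by A is a p-group
  have hP : IsPGroup p (G ⧸ A) := by
    intro q
    induction q using QuotientGroup.induction_on with
    | H z =>
      have h1 : z ^ p ∈ M := hpowM z
      obtain ⟨e', m', hpm', hem'⟩ :=
        Nat.exists_eq_pow_mul_and_not_dvd (orderOf_pos (z ^ p)).ne' p hMp.ne_one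
      refine ⟨e' + 1, ?_⟩
      rw [← QuotientGroup.mk_pow, QuotientGroup.eq_one_iff, pow_succ', pow_mul, hmemA]
      refine ⟨M.pow_mem h1 _, ?_⟩
      rw [orderOf_pow_of_dvd (pow_ne_zero _ hMp.ne_zero) (by rw [hem']; exact dvd_mul_right _ _),
        hem', Nat.mul_div_cancel_left _ (pow_pos hMp.pos _)]
      exact Nat.Coprime.symm ((Nat.Prime.coprime_iff_not_dvd hMp).mpr hpm')
  have hNil : Group.IsNilpotent (G ⧸ A) := hP.isNilpotent
  -- x acts nontrivially on A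
  have hnontriv : ∃ a ∈ A, x * a * x⁻¹ ≠ a := by
    by_contra hcon
    push Not at hcon
    apply hnn
    have hAcen : A ≤ Subgroup.center G := by
      intro a ha
      rw [Subgroup.mem_center_iff]
      have hMc : M ≤ Subgroup.centralizer {a} := by
        intro m hm
        rw [Subgroup.mem_centralizer_iff]
        intro h hh
        rw [Set.mem_singleton_iff] at hh
        subst hh
        exact hMab h (hAM ha) m hm
      have hxc : x ∈ Subgroup.centralizer {a} := by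
        rw [Subgroup.mem_centralizer_iff]
        intro h hh
        rw [Set.mem_singleton_iff] at hh
        subst hh
        have := hcon h ha
        exact (mul_inv_eq_iff_eq_mul.mp this).symm
      have htop : (⊤ : Subgroup G) ≤ Subgroup.centralizer {a} := by
        rw [← hsup]; exact sup_le hMc ((Subgroup.zpowers_le).mpr hxc)
      intro z
      have := htop (Subgroup.mem_top z)
      rw [Subgroup.mem_centralizer_iff] at this
      exact (this a rfl).symm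
    exact Subgroup.isNilpotent_of_ker_le_center (QuotientGroup.mk' A)
      (by rw [QuotientGroup.ker_mk']; exact hAcen)
  obtain ⟨a₀, ha₀, hxa₀⟩ := hnontriv
  have hH1 : ¬ IsMulCommutative (A ⊔ Subgroup.zpowers x : Subgroup G) := by
    intro h
    have := comm_of_imc h x (Subgroup.mem_sup_right (Subgroup.mem_zpowers x)) a₀
      (Subgroup.mem_sup_left ha₀)
    apply hxa₀
    rw [this, mul_assoc, mul_inv_cancel, mul_one]
  have hHtop : A ⊔ Subgroup.zpowers x = ⊤ := by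
    have hN := hS _ hH1
    by_contra hne
    have hcm : Subgroup.comap (QuotientGroup.mk' A)
        (Subgroup.map (QuotientGroup.mk' A) (A ⊔ Subgroup.zpowers x)) = A ⊔ Subgroup.zpowers x := by
      rw [QuotientGroup.comap_map_mk']; exact sup_eq_right.mpr le_sup_left
    have hKne : Subgroup.map (QuotientGroup.mk' A) (A ⊔ Subgroup.zpowers x) ≠ ⊤ := by
      intro h
      rw [h, Subgroup.comap_top] at hcm
      exact hne hcm.symm
    have hlt := Group.normalizerCondition_of_isNilpotent _ (lt_top_iff_ne_top.mpr hKne)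
    obtain ⟨q, hqN, hqK⟩ := SetLike.exists_of_lt hlt
    obtain ⟨z, rfl⟩ := QuotientGroup.mk'_surjective A q
    have hzN : z ∈ Subgroup.normalizer ((A ⊔ Subgroup.zpowers x : Subgroup G) : Set G) := by
      have := Subgroup.comap_normalizer_eq_of_surjective
        (Subgroup.map (QuotientGroup.mk' A) (A ⊔ Subgroup.zpowers x))
        (QuotientGroup.mk'_surjective A)
      rw [hcm] at this
      rw [← this]; exact hqN
    rw [hN] at hzN
    exact hqK (Subgroup.mem_map_of_mem _ hzN)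
  have hdisj : Disjoint (Subgroup.zpowers x) A := by
    rw [Subgroup.disjoint_def]
    intro z hz hzA
    have h1 : orderOf z ∣ p ^ e := hxord ▸ orderOf_dvd_of_mem_zpowers hz
    have h2 : (orderOf z).Coprime p := ((hmemA z).mp hzA).2
    have h3 : orderOf z = 1 := Nat.Coprime.eq_one_of_dvd (h2.pow_right e) h1
    exact orderOf_eq_one_iff.mp h3
  have hcompl : (Subgroup.zpowers x).IsComplement' A := by
    apply Subgroup.isComplement'_of_disjoint_and_mul_eq_univ hdisj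
    rw [← Subgroup.mul_normal, sup_comm, hHtop]; rfl
  have hxpc : x ^ p ∈ Subgroup.center G := by
    rw [Subgroup.mem_center_iff]
    have hMc : M ≤ Subgroup.centralizer {x ^ p} := by
      intro m hm
      rw [Subgroup.mem_centralizer_iff]
      intro h hh
      rw [Set.mem_singleton_iff] at hh
      subst hh
      exact hMab _ (hpowM x) m hm
    have hxc : x ∈ Subgroup.centralizer {x ^ p} := by
      rw [Subgroup.mem_centralizer_iff]
      intro h hh
      rw [Set.mem_singleton_iff] at hh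
      subst hh
      exact (Commute.pow_self x p).eq
    have htop : (⊤ : Subgroup G) ≤ Subgroup.centralizer {x ^ p} := by
      rw [← hsup]; exact sup_le hMc ((Subgroup.zpowers_le).mpr hxc)
    intro z
    have := htop (Subgroup.mem_top z)
    rw [Subgroup.mem_centralizer_iff] at this
    exact (this _ rfl).symm
  refine ⟨x, A, p, hMp, hAn, imc_of_comm hA, ⟨e, hxord⟩, hpA, hcompl, hxpc, ?_⟩
  -- fixed-point-freeness
  intro c hc hc1 hxc
  obtain ⟨B, hBdef⟩ : ∃ B, B = ((phi A hAn hA x).range).map A.subtype := ⟨_, rfl⟩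
  have hmemB : ∀ w, w ∈ B ↔ ∃ a ∈ A, w = a * (x * a⁻¹ * x⁻¹) := by
    intro w
    rw [hBdef, Subgroup.mem_map]
    constructor
    · rintro ⟨w', hw', rfl⟩
      obtain ⟨a, rfl⟩ := MonoidHom.mem_range.mp hw'
      exact ⟨a.1, a.2, rfl⟩
    · rintro ⟨a, ha, rfl⟩
      exact ⟨phi A hAn hA x ⟨a, ha⟩, MonoidHom.mem_range.mpr ⟨_, rfl⟩, rfl⟩
  have hBA : B ≤ A := by
    intro w hw
    obtain ⟨a, ha, rfl⟩ := (hmemB w).mp hw
    exact A.mul_mem ha (hAn.conj_mem _ (A.inv_mem ha) x)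
  have hdec : ∀ g : G, ∃ i : ℤ, ∃ a ∈ A, g = x ^ i * a := by
    intro g
    obtain ⟨⟨⟨z, hz⟩, ⟨a, ha⟩⟩, hza, -⟩ := Subgroup.isComplement_iff_existsUnique.mp hcompl g
    obtain ⟨i, rfl⟩ := Subgroup.mem_zpowers_iff.mp hz
    exact ⟨i, a, ha, hza.symm⟩
  have hBn : B.Normal := by
    constructor
    intro n hn g
    obtain ⟨a, ha, rfl⟩ := (hmemB n).mp hn
    obtain ⟨i, c', hc', rfl⟩ := hdec g
    have hnA : a * (x * a⁻¹ * x⁻¹) ∈ A := A.mul_mem ha (hAn.conj_mem _ (A.inv_mem ha) x)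
    have h1 : c' * (a * (x * a⁻¹ * x⁻¹)) * c'⁻¹ = a * (x * a⁻¹ * x⁻¹) := by
      rw [hA c' hc' _ hnA, mul_assoc, mul_inv_cancel, mul_one]
    have h2 : x ^ i * c' * (a * (x * a⁻¹ * x⁻¹)) * (x ^ i * c')⁻¹
        = x ^ i * (c' * (a * (x * a⁻¹ * x⁻¹)) * c'⁻¹) * (x ^ i)⁻¹ := by group
    rw [h2, h1, conj_phi x (x ^ i) a ((Commute.zpow_self x i).eq)]
    exact (hmemB _).mpr ⟨x ^ i * a * (x ^ i)⁻¹, hAn.conj_mem _ ha _, rfl⟩
  -- B ⊔ zpowers x is non-abelian
  have hw₀B : a₀ * (x * a₀⁻¹ * x⁻¹) ∈ B := (hmemB _).mpr ⟨a₀, ha₀, rfl⟩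
  have hcbB : ∀ w ∈ B, x * w * x⁻¹ = w → w = 1 := by
    intro w hw hxw
    obtain ⟨a, ha, hwa⟩ := (hmemB w).mp hw
    exact cb_lemma x a w p hxpc hwa hxw ((hmemA w).mp (hBA hw)).2
  have hH2 : ¬ IsMulCommutative (B ⊔ Subgroup.zpowers x : Subgroup G) := by
    intro h
    have h1 := comm_of_imc h x (Subgroup.mem_sup_right (Subgroup.mem_zpowers x)) _
      (Subgroup.mem_sup_left hw₀B)
    have h2 : x * (a₀ * (x * a₀⁻¹ * x⁻¹)) * x⁻¹ = a₀ * (x * a₀⁻¹ * x⁻¹) := by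
      rw [h1, mul_assoc, mul_inv_cancel, mul_one]
    have h3 := hcbB _ hw₀B h2
    apply hxa₀
    have h4 : x * a₀⁻¹ * x⁻¹ = a₀⁻¹ := by
      have := congrArg (a₀⁻¹ * ·) h3
      simpa using this
    have h5 : (x * a₀⁻¹ * x⁻¹)⁻¹ = x * a₀ * x⁻¹ := by group
    rw [← h5, h4, inv_inv]
  have hN2 := hS _ hH2
  have hcN : c ∈ Subgroup.normalizer ((B ⊔ Subgroup.zpowers x : Subgroup G) : Set G) := by
    apply Subgroup.centralizer_le_normalizer
    rw [Subgroup.mem_centralizer_iff]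
    have hle : B ⊔ Subgroup.zpowers x ≤ Subgroup.centralizer {c} := by
      apply sup_le
      · intro b hb
        rw [Subgroup.mem_centralizer_iff]
        intro h hh
        rw [Set.mem_singleton_iff] at hh
        subst hh
        exact hA h hc b (hBA hb)
      · rw [Subgroup.zpowers_le, Subgroup.mem_centralizer_iff]
        intro h hh
        rw [Set.mem_singleton_iff] at hh
        subst hh
        exact (mul_inv_eq_iff_eq_mul.mp hxc).symm
    intro h hh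
    have := hle hh
    rw [Subgroup.mem_centralizer_iff] at this
    exact (this c rfl).symm
  rw [hN2] at hcN
  have hcmem : c ∈ ((B ⊔ Subgroup.zpowers x : Subgroup G) : Set G) := hcN
  rw [Subgroup.normal_mul] at hcmem
  obtain ⟨b, hb, z, hz, hbz⟩ := Set.mem_mul.mp hcmem
  have hzA : z ∈ A := by
    have : z = b⁻¹ * c := by rw [← hbz, inv_mul_cancel_left]
    rw [this]; exact A.mul_mem (A.inv_mem (hBA hb)) hc
  have hz1 : z = 1 := (Subgroup.disjoint_def.mp hdisj) hz hzA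
  have hcb : c = b := by rw [← hbz, hz1, mul_one]
  rw [hcb] at hxc hc1
  exact hc1 (hcbB b hb hxc)

/-- Let G be a finite solvable non-nilpotent group. Every non-abelian subgroup of G is self-normalizing if and only if G is a semidirect product ⟨x⟩ ⋉ A in which ⟨x⟩ is a p-group for some prime p, A is a normal abelian subgroup of order prime to p, x^p is central in G, and x acts fixed-point-freely on A (no non-identity element of A commutes with x). -/
theorem result {G : Type*} [Group G] [Finite G]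
    [Group.IsSolvable G] (hnn : ¬ Group.IsNilpotent G) :
    (∀ H : Subgroup G, ¬ IsMulCommutative H → Subgroup.normalizer (H : Set G) = H) ↔
    ∃ (x : G) (A : Subgroup G) (p : ℕ), p.Prime ∧ A.Normal ∧ IsMulCommutative A ∧ (∃ k : ℕ, orderOf x = p ^ k) ∧
      ¬ p ∣ Nat.card A ∧ (Subgroup.zpowers x).IsComplement' A ∧ x ^ p ∈ Subgroup.center G ∧
      ∀ a : G, a ∈ A → a ≠ 1 → x * a * x⁻¹ ≠ a := by
  constructor
  · exact forward hnn
  · rintro ⟨x, A, p, hp, hAn, hAc, hx, hpA, hcompl, hxp, hfpf⟩ H hH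
    exact backward x A p hp hAn hAc hx hcompl hxp hfpf H hH

end Cfsg.Agent.S4071
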