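import Cfsg.Statements.S4072
import Mathlib
import Cfsg.Agent.Lib.Helper1.PGroupMax
import Cfsg.Agent.Lib.Helper2.PrimeSylow

set_option autoImplicit false
open Cfsg

namespace Cfsg.Agent.S4072

open Cfsg.Agent.Lib.Helper1 Cfsg.Agent.Lib.Helper2
open scoped commutatorElement

section MNA
variable {P : Type*} [Group P] [Finite P] {p : ℕ} [Fact p.Prime]

theorem centralizer_coatom (hmin : ∀ H : Subgroup P, H ≠ ⊤ → IsMulCommutative H) (w : P)
    (hw : w ∉ Subgroup.center P) : IsCoatom (Subgroup.centralizer ({w} : Set P)) := by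
  have hA : Subgroup.centralizer ({w} : Set P) ≠ ⊤ := by
    intro h
    rw [Subgroup.centralizer_eq_top_iff_subset] at h
    exact hw (h (Set.mem_singleton w))
  rcases eq_top_or_exists_le_coatom (Subgroup.centralizer ({w} : Set P)) with h | ⟨M, hM, hAM⟩
  · exact absurd h hA
  · have hMc := hmin M hM.1
    have hwM : w ∈ M := hAM (by rw [Subgroup.mem_centralizer_singleton_iff])
    have hMA : M ≤ Subgroup.centralizer ({w} : Set P) := by
      intro m hm
      rw [Subgroup.mem_centralizer_singleton_iff]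
      have := hMc.is_comm.comm (⟨m, hm⟩ : M) ⟨w, hwM⟩
      exact congrArg Subtype.val this
    rw [le_antisymm hAM hMA]
    exact hM

theorem comm_central (hP : IsPGroup p P) (hmin : ∀ H : Subgroup P, H ≠ ⊤ → IsMulCommutative H)
    (a b : P) : ⁅a, b⁆ ∈ Subgroup.center P := by
  by_cases hab : a * b = b * a
  · rw [commutatorElement_eq_one_iff_mul_comm.mpr hab]; exact Subgroup.one_mem _
  · have ha : a ∉ Subgroup.center P := fun h => hab ((Subgroup.mem_center_iff.mp h b).symm)
    have hb : b ∉ Subgroup.center P := fun h => hab (Subgroup.mem_center_iff.mp h a)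
    have hA := centralizer_coatom hmin a ha
    have hB := centralizer_coatom hmin b hb
    have h1 := commutator_le_coatom_of_isPGroup hP hA
    have h2 := commutator_le_coatom_of_isPGroup hP hB
    have hc : ⁅a, b⁆ ∈ commutator P := by
      rw [commutator_def]
      exact Subgroup.commutator_mem_commutator (Subgroup.mem_top a) (Subgroup.mem_top b)
    have hca : ⁅a, b⁆ * a = a * ⁅a, b⁆ := Subgroup.mem_centralizer_singleton_iff.mp (h1 hc)
    have hcb : ⁅a, b⁆ * b = b * ⁅a, b⁆ := Subgroup.mem_centralizer_singleton_iff.mp (h2 hc)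
    by_contra hcz
    have hC := (centralizer_coatom hmin ⁅a, b⁆ hcz).1
    have hCc := hmin _ hC
    have ham : a ∈ Subgroup.centralizer ({⁅a, b⁆} : Set P) :=
      Subgroup.mem_centralizer_singleton_iff.mpr hca.symm
    have hbm : b ∈ Subgroup.centralizer ({⁅a, b⁆} : Set P) :=
      Subgroup.mem_centralizer_singleton_iff.mpr hcb.symm
    exact hab (congrArg Subtype.val (hCc.is_comm.comm ⟨a, ham⟩ ⟨b, hbm⟩))

theorem comm_mul (hcl : ∀ a b : P, ⁅a, b⁆ ∈ Subgroup.center P) (x u v : P) :
    ⁅x, u * v⁆ = ⁅x, u⁆ * ⁅x, v⁆ := by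
  have h := Subgroup.mem_center_iff.mp (hcl x v) u⁻¹
  simp only [commutatorElement_def] at h ⊢
  calc x * (u * v) * x⁻¹ * (u * v)⁻¹ = x * u * x⁻¹ * ((x * v * x⁻¹ * v⁻¹) * u⁻¹) := by group
    _ = x * u * x⁻¹ * (u⁻¹ * (x * v * x⁻¹ * v⁻¹)) := by rw [h]
    _ = _ := by group

/-- the commutator map `u ↦ ⁅x, u⁆` as a homomorphism (class two) -/
noncomputable def comL (hcl : ∀ a b : P, ⁅a, b⁆ ∈ Subgroup.center P) (x : P) : P →* P :=
  MonoidHom.mk' (fun u => ⁅x, u⁆) (fun u v => comm_mul hcl x u v)

theorem comL_apply (hcl : ∀ a b : P, ⁅a, b⁆ ∈ Subgroup.center P) (x u : P) :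
    comL hcl x u = ⁅x, u⁆ := rfl

theorem comL_ker (hcl : ∀ a b : P, ⁅a, b⁆ ∈ Subgroup.center P) (x : P) :
    (comL hcl x).ker = Subgroup.centralizer ({x} : Set P) := by
  ext u
  rw [MonoidHom.mem_ker, comL_apply, commutatorElement_eq_one_iff_mul_comm,
    Subgroup.mem_centralizer_singleton_iff, eq_comm]

theorem card_range_comL (hP : IsPGroup p P) (hmin : ∀ H : Subgroup P, H ≠ ⊤ → IsMulCommutative H)
    (hcl : ∀ a b : P, ⁅a, b⁆ ∈ Subgroup.center P) (x : P) (hx : x ∉ Subgroup.center P) :
    Nat.card (comL hcl x).range = p := by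
  rw [← Subgroup.index_ker, comL_ker]
  have hA := centralizer_coatom hmin x hx
  haveI := coatom_normal_of_isPGroup hP hA
  rw [Subgroup.index_eq_card]
  exact card_quotient_coatom_of_isPGroup hP hA

theorem mna (hP : IsPGroup p P) (hmin : ∀ H : Subgroup P, H ≠ ⊤ → IsMulCommutative H)
    (z : P) (hz : z ∈ commutator P) (hz1 : z ≠ 1) (u v : P) : ⁅u, v⁆ ∈ Subgroup.zpowers z := by
  have hcl := comm_central hP hmin
  obtain ⟨x, y, hxy⟩ : ∃ x y : P, x * y ≠ y * x := by
    by_contra h
    push Not at h
    apply hz1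
    have : commutator P = ⊥ := by
      rw [commutator_def, Subgroup.commutator_eq_bot_iff_le_centralizer]
      intro a _
      rw [Subgroup.mem_centralizer_iff]
      intro b _
      exact h b a
    rw [this] at hz
    exact Subgroup.mem_bot.mp hz
  have hx : x ∉ Subgroup.center P := fun h => hxy ((Subgroup.mem_center_iff.mp h y).symm)
  have hRcard : Nat.card (comL hcl x).range = p := card_range_comL hP hmin hcl x hx
  have key : ∀ w1 w2 : P, w1 * w2 ≠ w2 * w1 → (comL hcl w1).range ≤ (comL hcl x).range →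
      (comL hcl w2).range ≤ (comL hcl x).range := by
    intro w1 w2 hw hle
    have hw2 : w2 ∉ Subgroup.center P := fun h => hw (Subgroup.mem_center_iff.mp h w1)
    have hc2 : Nat.card (comL hcl w2).range = p := card_range_comL hP hmin hcl w2 hw2
    have hd : ⁅w2, w1⁆ ∈ (comL hcl w2).range := ⟨w1, rfl⟩
    have hd1 : ⁅w2, w1⁆ ≠ 1 := by
      rw [Ne, commutatorElement_eq_one_iff_mul_comm]; exact fun h => hw h.symm
    rw [← zpowers_eq_of_mem_of_card_prime _ hc2 hd hd1, Subgroup.zpowers_le]
    apply hle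
    rw [← commutatorElement_inv]
    exact Subgroup.inv_mem _ ⟨w2, rfl⟩
  have hyR : (comL hcl y).range ≤ (comL hcl x).range := key x y hxy le_rfl
  have hall : ∀ a b : P, ⁅a, b⁆ ∈ (comL hcl x).range := by
    intro a b
    by_cases hab : a * b = b * a
    · rw [commutatorElement_eq_one_iff_mul_comm.mpr hab]; exact Subgroup.one_mem _
    · have haR : (comL hcl a).range ≤ (comL hcl x).range := by
        by_cases hxa : x * a = a * x
        · by_cases hya : y * a = a * y
          · exfalso
            have ha : a ∉ Subgroup.center P :=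
              fun h => hab ((Subgroup.mem_center_iff.mp h b).symm)
            have hC := (centralizer_coatom hmin a ha).1
            have hCc := hmin _ hC
            have hxm : x ∈ Subgroup.centralizer ({a} : Set P) :=
              Subgroup.mem_centralizer_singleton_iff.mpr hxa
            have hym : y ∈ Subgroup.centralizer ({a} : Set P) :=
              Subgroup.mem_centralizer_singleton_iff.mpr hya
            exact hxy (congrArg Subtype.val (hCc.is_comm.comm ⟨x, hxm⟩ ⟨y, hym⟩))
          · exact key y a hya hyR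
        · exact key x a hxa le_rfl
      exact haR ⟨b, rfl⟩
  have hzR : z ∈ (comL hcl x).range := by
    have : commutator P ≤ (comL hcl x).range := by
      rw [commutator_def, Subgroup.commutator_le]
      intro a _ b _
      exact hall a b
    exact this hz
  rw [zpowers_eq_of_mem_of_card_prime _ hRcard hzR hz1]
  exact hall u v

end MNA

section General
variable {G : Type*} [Group G] [Finite G]

theorem central_mem_commutator {p : ℕ} [Fact p.Prime] (P : Sylow p G)
    (hperf : commutator G = ⊤) (z : G) (hzc : z ∈ Subgroup.center G)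
    (hzP : z ∈ (P : Subgroup G)) :
    (⟨z, hzP⟩ : (P : Subgroup G)) ∈ commutator (P : Subgroup G) := by
  have hp : p.Prime := Fact.out
  have h1 : MonoidHom.transfer
      (Abelianization.of : (P : Subgroup G) →* Abelianization (P : Subgroup G)) z = 1 := by
    have := Abelianization.commutator_subset_ker (MonoidHom.transfer
      (Abelianization.of : (P : Subgroup G) →* Abelianization (P : Subgroup G)))
    rw [hperf] at this
    exact MonoidHom.mem_ker.mp (this (Subgroup.mem_top z))
  have key : ∀ (k : ℕ) (g₀ : G), g₀⁻¹ * z ^ k * g₀ ∈ (P : Subgroup G) →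
      g₀⁻¹ * z ^ k * g₀ = z ^ k := by
    intro k g₀ _
    have hk : z ^ k ∈ Subgroup.center G := Subgroup.pow_mem _ hzc k
    rw [mul_assoc, ← Subgroup.mem_center_iff.mp hk g₀, inv_mul_cancel_left]
  rw [MonoidHom.transfer_eq_pow _ z key] at h1
  have h2 := MonoidHom.mem_ker.mpr h1
  rw [Abelianization.ker_of] at h2
  have hcop : ((P : Subgroup G).index).Coprime (orderOf z) := by
    obtain ⟨k, hk⟩ := P.2 ⟨z, hzP⟩
    have hk' : z ^ p ^ k = 1 := by
      have := congrArg Subtype.val hk
      simpa using this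
    obtain ⟨j, -, hj⟩ := (Nat.dvd_prime_pow hp).mp (orderOf_dvd_of_pow_eq_one hk')
    rw [hj]
    apply Nat.Coprime.pow_right
    exact ((Nat.Prime.coprime_iff_not_dvd hp).mpr P.not_dvd_index).symm
  obtain ⟨m, hm⟩ := exists_pow_eq_self_of_coprime hcop
  have h3 := Subgroup.pow_mem _ h2 m
  convert h3 using 1
  apply Subtype.ext
  simp [hm]

theorem proper_normal_comm
    (hS : ∀ H : Subgroup G, ¬ IsMulCommutative H → Subgroup.normalizer (H : Set G) = H)
    (N : Subgroup G) [N.Normal] (hN : N ≠ ⊤) : IsMulCommutative N := by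
  by_contra h
  have h1 := hS N h
  rw [Subgroup.normalizer_eq_top_iff.mpr inferInstance] at h1
  exact hN h1.symm

theorem proper_sub_comm
    (hS : ∀ H : Subgroup G, ¬ IsMulCommutative H → Subgroup.normalizer (H : Set G) = H)
    {p : ℕ} [Fact p.Prime] (P : Sylow p G)
    (M : Subgroup (P : Subgroup G)) (hM : M ≠ ⊤) : IsMulCommutative M := by
  by_contra hMc
  have hMc' : ¬ IsMulCommutative (M.map (P : Subgroup G).subtype) := by
    intro h
    apply hMc
    refine ⟨⟨fun a b => ?_⟩⟩
    have := h.is_comm.comm ⟨((a : (P : Subgroup G)) : G), Subgroup.mem_map_of_mem _ a.2⟩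
      ⟨((b : (P : Subgroup G)) : G), Subgroup.mem_map_of_mem _ b.2⟩
    apply Subtype.ext
    apply Subtype.ext
    show ((a : (P : Subgroup G)) : G) * ((b : (P : Subgroup G)) : G) =
      ((b : (P : Subgroup G)) : G) * ((a : (P : Subgroup G)) : G)
    exact congrArg Subtype.val this
  have hn := hS _ hMc'
  haveI : Group.IsNilpotent (P : Subgroup G) := P.2.isNilpotent
  have hlt := Group.normalizerCondition_of_isNilpotent (G := (P : Subgroup G)) M
    (lt_top_iff_ne_top.mpr hM)
  obtain ⟨g, hgN, hgM⟩ := SetLike.exists_of_lt hlt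
  have h1 : (g : G) ∈ Subgroup.normalizer
      ((M.map (P : Subgroup G).subtype : Subgroup G) : Set G) :=
    Subgroup.le_normalizer_map (P : Subgroup G).subtype (Subgroup.mem_map_of_mem _ hgN)
  rw [hn] at h1
  obtain ⟨g', hg', hgg⟩ := Subgroup.mem_map.mp h1
  have : g' = g := Subtype.ext hgg
  exact hgM (this ▸ hg')

theorem le_comap_mk (N : Subgroup G) [N.Normal] (K : Subgroup (G ⧸ N)) :
    N ≤ K.comap (QuotientGroup.mk' N) := by
  intro x hx
  rw [Subgroup.mem_comap]
  have : (QuotientGroup.mk' N) x = 1 := (QuotientGroup.eq_one_iff x).2 hx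
  rw [this]; exact K.one_mem

theorem eq_bot_of_comap_le (N : Subgroup G) [N.Normal] (K : Subgroup (G ⧸ N))
    (h : K.comap (QuotientGroup.mk' N) ≤ N) : K = ⊥ := by
  rw [← Subgroup.map_comap_eq_self_of_surjective (QuotientGroup.mk'_surjective N) K, eq_bot_iff]
  calc _ ≤ N.map (QuotientGroup.mk' N) := Subgroup.map_mono h
    _ = ⊥ := by rw [Subgroup.map_eq_bot_iff, QuotientGroup.ker_mk']

end General

theorem burnside_end {Q : Type*} [Group Q] [Finite Q]
    (hsimp : ∀ K : Subgroup Q, K.Normal → K = ⊥ ∨ K = ⊤)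
    (hna : ¬ IsMulCommutative Q) {p : ℕ} [Fact p.Prime] (R : Sylow p Q)
    (hR1 : (R : Subgroup Q) ≠ ⊥)
    (hRc : IsMulCommutative (R : Subgroup Q))
    (hRn : Subgroup.normalizer ((R : Subgroup Q) : Set Q) = R) : False := by
  have hP : Subgroup.normalizer ((R : Subgroup Q) : Set Q) ≤
      Subgroup.centralizer ((R : Subgroup Q) : Set Q) := by
    rw [hRn]; exact Subgroup.le_centralizer_iff_isMulCommutative.mpr hRc
  have hc := MonoidHom.ker_transferSylow_isComplement' R hP
  have hcard := hc.card_mul_card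
  rcases hsimp _ (MonoidHom.normal_ker (MonoidHom.transferSylow R hP)) with h | h
  · rw [h, Subgroup.card_bot, one_mul] at hcard
    have htop : (R : Subgroup Q) = ⊤ := (Subgroup.card_eq_iff_eq_top _).mp hcard
    apply hna
    refine ⟨⟨fun a b => ?_⟩⟩
    have ha : a ∈ (R : Subgroup Q) := by rw [htop]; trivial
    have hb : b ∈ (R : Subgroup Q) := by rw [htop]; trivial
    exact congrArg Subtype.val (hRc.is_comm.comm ⟨a, ha⟩ ⟨b, hb⟩)
  · rw [h, Subgroup.card_top] at hcard
    have h1 : Nat.card (R : Subgroup Q) = 1 := by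
      have hpos : 0 < Nat.card Q := Nat.card_pos
      exact Nat.eq_of_mul_eq_mul_left hpos (by rw [hcard, mul_one])
    exact hR1 (Subgroup.card_eq_one.mp h1)

/-- A finite group in which every non-abelian subgroup is self-normalizing is solvable or simple. -/
theorem result {G : Type*} [Group G] [Finite G] (hS : ∀ H : Subgroup G, ¬ IsMulCommutative H → Subgroup.normalizer (H : Set G) = H) :
    Group.IsSolvable G ∨ IsSimpleGroup G := by
  by_contra hcon
  rw [not_or] at hcon
  obtain ⟨hns, hnsimp⟩ := hcon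
  haveI : Nontrivial G := by
    by_contra h
    rw [not_nontrivial_iff_subsingleton] at h
    exact hns (Group.isSolvable_of_comm (fun a b => Subsingleton.elim _ _))
  have h0 : ∃ N0 : Subgroup G, N0.Normal ∧ N0 ≠ ⊥ ∧ N0 ≠ ⊤ := by
    by_contra h
    push Not at h
    apply hnsimp
    have hb : ∀ H : Subgroup G, H.Normal → H = ⊥ ∨ H = ⊤ := by
      intro H hH
      by_cases hb : H = ⊥
      · exact Or.inl hb
      · exact Or.inr (h H hH hb)
    exact { exists_pair_ne := exists_pair_ne G, eq_bot_or_eq_top_of_normal := hb }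
  obtain ⟨N0, hN0n, hN0b, hN0t⟩ := h0
  obtain ⟨N, hN0N, hNmax⟩ := Set.Finite.exists_le_maximal
    (s := {K : Subgroup G | K.Normal ∧ K ≠ ⊤}) (Set.toFinite _)
    (show N0 ∈ {K : Subgroup G | K.Normal ∧ K ≠ ⊤} from ⟨hN0n, hN0t⟩)
  obtain ⟨⟨hNn, hNt⟩, hNm⟩ := hNmax
  haveI := hNn
  have hNb : N ≠ ⊥ := fun h => hN0b (le_bot_iff.mp (h ▸ hN0N))
  have hNmax' : ∀ K : Subgroup G, K.Normal → K ≠ ⊤ → N ≤ K → K ≤ N :=
    fun K hK hKt hNK => hNm ⟨hK, hKt⟩ hNK
  have hNc : IsMulCommutative N := proper_normal_comm hS N hNt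
  have hsurj := QuotientGroup.mk'_surjective N
  have hQs : ∀ K : Subgroup (G ⧸ N), K.Normal → K = ⊥ ∨ K = ⊤ := by
    intro K hK
    by_cases hKt : K.comap (QuotientGroup.mk' N) = ⊤
    · right
      rw [← Subgroup.map_comap_eq_self_of_surjective hsurj K, hKt]
      exact Subgroup.map_top_of_surjective _ hsurj
    · left
      exact eq_bot_of_comap_le N K (hNmax' _ (hK.comap _) hKt (le_comap_mk N K))
  have hQna : ¬ IsMulCommutative (G ⧸ N) := by
    intro hQc
    apply hns
    haveI : Group.IsSolvable N := Group.isSolvable_of_comm (fun a b => hNc.is_comm.comm a b)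
    haveI : Group.IsSolvable (G ⧸ N) :=
      Group.isSolvable_of_comm (fun a b => hQc.is_comm.comm a b)
    exact Group.isSolvable_of_ker_le_range N.subtype (QuotientGroup.mk' N)
      (by rw [QuotientGroup.ker_mk', Subgroup.range_subtype])
  have hstar : ∀ K : Subgroup (G ⧸ N), Subgroup.normalizer (K : Set (G ⧸ N)) ≠ K →
      IsMulCommutative (K.comap (QuotientGroup.mk' N)) := by
    intro K hK
    by_contra h
    have h1 := hS _ h
    rw [← Subgroup.comap_normalizer_eq_of_surjective K hsurj] at h1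
    exact hK (Subgroup.comap_injective hsurj h1)
  have hNC : N ≤ Subgroup.centralizer (N : Set G) :=
    Subgroup.le_centralizer_iff_isMulCommutative.mpr hNc
  by_cases hC : Subgroup.centralizer (N : Set G) = ⊤
  · -- the central case
    have hNZ : ∀ n ∈ N, n ∈ Subgroup.center G := by
      intro n hn
      rw [Subgroup.mem_center_iff]
      intro g
      have hg : g ∈ Subgroup.centralizer (N : Set G) := by rw [hC]; trivial
      exact (Subgroup.mem_centralizer_iff.mp hg n hn).symm
    have hperf : commutator G = ⊤ := by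
      by_contra hD
      have hDc := proper_normal_comm hS (commutator G) hD
      apply hns
      haveI : Group.IsSolvable (commutator G) :=
        Group.isSolvable_of_comm (fun a b => hDc.is_comm.comm a b)
      exact Group.isSolvable_of_ker_le_range (commutator G).subtype (Abelianization.of)
        (by rw [Abelianization.ker_of, Subgroup.range_subtype])
    have hNcard : Nat.card N ≠ 1 := fun h => hNb (Subgroup.card_eq_one.mp h)
    obtain ⟨p, hp, hpd⟩ := Nat.exists_prime_and_dvd hNcard
    haveI : Fact p.Prime := ⟨hp⟩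
    obtain ⟨z', hz'⟩ := exists_prime_orderOf_dvd_card' p hpd
    have hz0 : orderOf (z' : G) = p := by rw [Subgroup.orderOf_coe]; exact hz'
    have hzc : (z' : G) ∈ Subgroup.center G := hNZ _ z'.2
    have hz1 : (z' : G) ≠ 1 := by
      intro h
      rw [h, orderOf_one] at hz0
      exact hp.one_lt.ne hz0
    have hzp : IsPGroup p (Subgroup.zpowers (z' : G)) :=
      IsPGroup.of_card (n := 1) (by rw [Nat.card_zpowers, hz0, pow_one])
    obtain ⟨P, hP⟩ := hzp.exists_le_sylow
    have hzP : (z' : G) ∈ (P : Subgroup G) := hP (Subgroup.mem_zpowers _)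
    have hT := central_mem_commutator P hperf _ hzc hzP
    have hPnc : ¬ IsMulCommutative (P : Subgroup G) := by
      intro h
      have : commutator (P : Subgroup G) = ⊥ := by
        rw [commutator_def, Subgroup.commutator_eq_bot_iff_le_centralizer]
        intro a _
        rw [Subgroup.mem_centralizer_iff]
        intro b _
        exact h.is_comm.comm b a
      rw [this, Subgroup.mem_bot] at hT
      exact hz1 (congrArg Subtype.val hT)
    have hPn := hS _ hPnc
    have hNP : N ≤ (P : Subgroup G) := by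
      rw [← hPn]
      intro n hn
      rw [Subgroup.mem_normalizer_iff]
      intro y
      have hc := Subgroup.mem_center_iff.mp (hNZ n hn) y
      rw [← hc, mul_inv_cancel_right]
    have hmin := proper_sub_comm hS P
    have hmna := mna P.2 hmin ⟨(z' : G), hzP⟩ hT
      (by intro h; exact hz1 (congrArg Subtype.val h))
    have hcomN : ∀ u ∈ (P : Subgroup G), ∀ v ∈ (P : Subgroup G), ⁅u, v⁆ ∈ N := by
      intro u hu v hv
      obtain ⟨k, hk⟩ := Subgroup.mem_zpowers_iff.mp (hmna ⟨u, hu⟩ ⟨v, hv⟩)
      have hk' : (z' : G) ^ k = ⁅u, v⁆ := by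
        have := congrArg Subtype.val hk
        simpa [commutatorElement_def] using this
      rw [← hk']
      exact N.zpow_mem z'.2 k
    let R : Sylow p (G ⧸ N) := P.mapSurjective hsurj
    have hRcoe : (R : Subgroup (G ⧸ N)) = (P : Subgroup G).map (QuotientGroup.mk' N) :=
      Sylow.coe_mapSurjective hsurj P
    have hRc : IsMulCommutative (R : Subgroup (G ⧸ N)) := by
      refine ⟨⟨fun a b => ?_⟩⟩
      have ha' : (a : G ⧸ N) ∈ (P : Subgroup G).map (QuotientGroup.mk' N) := by
        rw [← hRcoe]; exact a.2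
      have hb' : (b : G ⧸ N) ∈ (P : Subgroup G).map (QuotientGroup.mk' N) := by
        rw [← hRcoe]; exact b.2
      obtain ⟨u, hu, hua⟩ := Subgroup.mem_map.mp ha'
      obtain ⟨v, hv, hvb⟩ := Subgroup.mem_map.mp hb'
      apply Subtype.ext
      show (a : G ⧸ N) * b = b * a
      rw [← hua, ← hvb, ← commutatorElement_eq_one_iff_mul_comm, ← map_commutatorElement]
      exact (QuotientGroup.eq_one_iff _).2 (hcomN u hu v hv)
    have hR1 : (R : Subgroup (G ⧸ N)) ≠ ⊥ := by
      intro h
      rw [hRcoe, Subgroup.map_eq_bot_iff, QuotientGroup.ker_mk'] at h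
      apply hPnc
      have hPN : (P : Subgroup G) = N := le_antisymm h hNP
      rw [hPN]; exact hNc
    have hRn : Subgroup.normalizer ((R : Subgroup (G ⧸ N)) : Set (G ⧸ N)) = R := by
      by_contra hne
      have hc := hstar _ hne
      apply hPnc
      refine ⟨⟨fun a b => ?_⟩⟩
      have ha : (a : G) ∈ (R : Subgroup (G ⧸ N)).comap (QuotientGroup.mk' N) := by
        rw [Subgroup.mem_comap, hRcoe]; exact Subgroup.mem_map_of_mem _ a.2
      have hb : (b : G) ∈ (R : Subgroup (G ⧸ N)).comap (QuotientGroup.mk' N) := by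
        rw [Subgroup.mem_comap, hRcoe]; exact Subgroup.mem_map_of_mem _ b.2
      apply Subtype.ext
      show (a : G) * (b : G) = (b : G) * (a : G)
      exact congrArg Subtype.val (hc.is_comm.comm ⟨a, ha⟩ ⟨b, hb⟩)
    exact burnside_end hQs hQna R hR1 hRc hRn
  · -- the faithful case
    have hCN : Subgroup.centralizer (N : Set G) ≤ N := hNmax' _ inferInstance hC hNC
    have hself : ∀ K : Subgroup (G ⧸ N), K ≠ ⊥ →
        Subgroup.normalizer (K : Set (G ⧸ N)) = K := by
      intro K hK
      by_contra hne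
      have hc := hstar K hne
      apply hK
      apply eq_bot_of_comap_le N K
      refine le_trans ?_ hCN
      intro k hk
      rw [Subgroup.mem_centralizer_iff]
      intro n hn
      exact congrArg Subtype.val (hc.is_comm.comm ⟨n, le_comap_mk N K hn⟩ ⟨k, hk⟩)
    have hidx : Nat.card (G ⧸ N) ≠ 1 := by
      rw [← Subgroup.index_eq_card]; exact fun h => hNt (Subgroup.index_eq_one.mp h)
    obtain ⟨r, hr, hrd⟩ := Nat.exists_prime_and_dvd hidx
    haveI : Fact r.Prime := ⟨hr⟩
    obtain ⟨R⟩ : Nonempty (Sylow r (G ⧸ N)) := inferInstance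
    have hR1 : (R : Subgroup (G ⧸ N)) ≠ ⊥ := R.ne_bot_of_dvd_card hrd
    have hRn := hself _ hR1
    haveI : Nontrivial (R : Subgroup (G ⧸ N)) := (Subgroup.nontrivial_iff_ne_bot _).mpr hR1
    have hZ := IsPGroup.bot_lt_center (R.2)
    have hZ1 : (Subgroup.center (R : Subgroup (G ⧸ N))).map (R : Subgroup (G ⧸ N)).subtype ≠ ⊥ := by
      intro h
      rw [Subgroup.map_eq_bot_iff_of_injective _ (Subgroup.subtype_injective _)] at h
      exact hZ.ne' h
    have hZn := hself _ hZ1
    have hRZ : (R : Subgroup (G ⧸ N)) ≤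
        (Subgroup.center (R : Subgroup (G ⧸ N))).map (R : Subgroup (G ⧸ N)).subtype := by
      rw [← hZn]
      intro g hg
      rw [Subgroup.mem_normalizer_iff]
      intro y
      constructor
      · rintro ⟨c, hc, rfl⟩
        refine ⟨c, hc, ?_⟩
        have h2 : g * ((c : (R : Subgroup (G ⧸ N))) : G ⧸ N) = (c : G ⧸ N) * g :=
          congrArg Subtype.val (Subgroup.mem_center_iff.mp hc ⟨g, hg⟩)
        show ((c : (R : Subgroup (G ⧸ N))) : G ⧸ N) = g * (c : G ⧸ N) * g⁻¹
        rw [h2, mul_inv_cancel_right]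
      · rintro ⟨c, hc, hceq⟩
        refine ⟨c, hc, ?_⟩
        have h2 : g * ((c : (R : Subgroup (G ⧸ N))) : G ⧸ N) = (c : G ⧸ N) * g :=
          congrArg Subtype.val (Subgroup.mem_center_iff.mp hc ⟨g, hg⟩)
        have h3 : y = g⁻¹ * ((c : (R : Subgroup (G ⧸ N))) : G ⧸ N) * g := by
          have : ((c : (R : Subgroup (G ⧸ N))) : G ⧸ N) = g * y * g⁻¹ := hceq
          rw [this]; group
        show ((c : (R : Subgroup (G ⧸ N))) : G ⧸ N) = y
        rw [h3, mul_assoc, ← h2, inv_mul_cancel_left]
    have hRc : IsMulCommutative (R : Subgroup (G ⧸ N)) := by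
      refine ⟨⟨fun a b => ?_⟩⟩
      obtain ⟨c, hc, hca⟩ := hRZ a.2
      have hac : c = a := Subtype.ext hca
      rw [← hac]
      exact (Subgroup.mem_center_iff.mp hc b).symm
    exact burnside_end hQs hQna R hR1 hRc hRn

end Cfsg.Agent.S4072
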