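import Cfsg.Statements.S4074

set_option autoImplicit false
open Cfsg

namespace Cfsg.Agent.S4074

open DihedralGroup

theorem comm_of_cyclic {A : Type*} [Group A] [IsCyclic A] : IsMulCommutative A := by
  obtain ⟨g, hg⟩ := IsCyclic.exists_generator (α := A)
  refine ⟨⟨fun a b => ?_⟩⟩
  obtain ⟨i, rfl⟩ := Subgroup.mem_zpowers_iff.mp (hg a)
  obtain ⟨j, rfl⟩ := Subgroup.mem_zpowers_iff.mp (hg b)
  exact ((Commute.refl g).zpow_zpow i j).eq

theorem two_mul_ne_one_of_even (m : ℕ) (hm : 2 ∣ m) (j : ZMod m) : (2 : ZMod m) * j ≠ 1 := by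
  intro h
  have h1 := congrArg (ZMod.castHom hm (ZMod 2)) h
  rw [map_mul, map_one] at h1
  have e2 : (2 : ZMod m) = 1 + 1 := one_add_one_eq_two.symm
  have h2 : (ZMod.castHom hm (ZMod 2)) (2 : ZMod m) = 0 := by
    rw [e2, map_add, map_one]
    decide
  rw [h2, zero_mul] at h1
  exact absurd h1 (by decide)

/-- rotations `r (2j)` and reflections `sr (2j)` -/
def evenD (n : ℕ) : Subgroup (DihedralGroup n) where
  carrier := {x | (∃ j : ZMod n, x = r (2 * j)) ∨ (∃ j : ZMod n, x = sr (2 * j))}
  mul_mem' := by
    rintro a b (⟨i, rfl⟩ | ⟨i, rfl⟩) (⟨j, rfl⟩ | ⟨j, rfl⟩)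
    · refine Or.inl ⟨i + j, ?_⟩
      rw [r_mul_r]; congr 1; ring
    · refine Or.inr ⟨j - i, ?_⟩
      rw [r_mul_sr]; congr 1; ring
    · refine Or.inr ⟨i + j, ?_⟩
      rw [sr_mul_r]; congr 1; ring
    · refine Or.inl ⟨j - i, ?_⟩
      rw [sr_mul_sr]; congr 1; ring
  one_mem' := Or.inl ⟨0, by rw [mul_zero]; rfl⟩
  inv_mem' := by
    rintro a (⟨i, rfl⟩ | ⟨i, rfl⟩)
    · refine Or.inl ⟨-i, ?_⟩
      rw [inv_r]; congr 1; ring
    · exact Or.inr ⟨i, inv_sr _⟩

/-- For n > 2, every non-abelian subgroup of the dihedral group of order 2n is self-normalizing if and only if n = 4 or n is odd. -/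
theorem result (n : ℕ) (hn : 2 < n) :
    (∀ H : Subgroup (DihedralGroup n), ¬ IsMulCommutative H → Subgroup.normalizer (H : Set (DihedralGroup n)) = H) ↔
    (n = 4 ∨ Odd n) := by
  classical
  haveI : NeZero n := ⟨by omega⟩
  constructor
  · intro hall
    by_contra hcon
    push Not at hcon
    obtain ⟨hn4, hodd⟩ := hcon
    have heven : 2 ∣ n := by
      rcases Nat.even_or_odd n with h | h
      · exact h.two_dvd
      · exact absurd h hodd
    have hn6 : 6 ≤ n := by
      obtain ⟨k, hk⟩ := heven; omega
    have hnc : ¬ IsMulCommutative ↥(evenD n) := by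
      intro hc
      have h1 := hc.is_comm.comm (⟨r (2 * 1), Or.inl ⟨1, rfl⟩⟩ : ↥(evenD n))
        ⟨sr (2 * 0), Or.inr ⟨0, rfl⟩⟩
      have h2 : (r (2 * 1) : DihedralGroup n) * sr (2 * 0) = sr (2 * 0) * r (2 * 1) :=
        congrArg Subtype.val h1
      rw [r_mul_sr, sr_mul_r] at h2
      injection h2 with h3
      have h4 : ((4 : ℕ) : ZMod n) = 0 := by
        push_cast
        linear_combination -h3
      rw [ZMod.natCast_eq_zero_iff] at h4
      have := Nat.le_of_dvd (by norm_num) h4
      omega
    have hN := hall (evenD n) hnc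
    have hr1 : r 1 ∈ Subgroup.normalizer
        ((evenD n : Subgroup (DihedralGroup n)) : Set (DihedralGroup n)) := by
      rw [Subgroup.mem_normalizer_iff]
      intro h
      cases h with
      | r k =>
        have e : r 1 * r k * (r 1)⁻¹ = r k := by
          rw [inv_r, r_mul_r, r_mul_r]; congr 1; ring
        rw [e]
      | sr k =>
        have e : r 1 * sr k * (r 1)⁻¹ = sr (k - 2) := by
          rw [inv_r, r_mul_sr, sr_mul_r]; congr 1; ring
        rw [e]
        constructor
        · rintro (⟨j, hj⟩ | ⟨j, hj⟩)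
          · cases hj
          · injection hj with hj'
            exact Or.inr ⟨j - 1, by rw [hj']; congr 1; ring⟩
        · rintro (⟨j, hj⟩ | ⟨j, hj⟩)
          · cases hj
          · injection hj with hj'
            exact Or.inr ⟨j + 1, by congr 1; linear_combination hj'⟩
    rw [hN] at hr1
    rcases hr1 with ⟨j, hj⟩ | ⟨j, hj⟩
    · injection hj with hj'
      exact two_mul_ne_one_of_even n heven j hj'.symm
    · cases hj
  · rintro (rfl | hodd)
    · intro H hH
      have hcard : Nat.card (DihedralGroup 4) = 8 := by rw [DihedralGroup.nat_card]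
      have hdvd : Nat.card ↥H ∣ 2 ^ 3 := by
        have h := Subgroup.card_subgroup_dvd_card H
        rw [hcard] at h
        exact h
      obtain ⟨j, hj3, hj⟩ := (Nat.dvd_prime_pow Nat.prime_two).mp hdvd
      haveI : Fact (Nat.Prime 2) := ⟨Nat.prime_two⟩
      have htop : H = ⊤ := by
        interval_cases j
        · exfalso; apply hH
          haveI : Subsingleton ↥H := (Nat.card_eq_one_iff_unique.mp (hj.trans (by norm_num))).1
          exact ⟨⟨fun a b => Subsingleton.elim _ _⟩⟩
        · exfalso; apply hH
          haveI : IsCyclic ↥H := isCyclic_of_prime_card (p := 2) (hj.trans (by norm_num))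
          exact comm_of_cyclic
        · exfalso; apply hH
          exact IsPGroup.isMulCommutative_of_card_eq_prime_sq (p := 2) hj
        · apply Subgroup.eq_top_of_card_eq
          rw [hj, hcard]; norm_num
      rw [htop]
      exact top_le_iff.mp Subgroup.le_normalizer
    · intro H hH
      apply le_antisymm _ Subgroup.le_normalizer
      obtain ⟨i, hi⟩ : ∃ i, sr i ∈ H := by
        by_contra hno
        push Not at hno
        apply hH
        refine ⟨⟨fun a b => ?_⟩⟩
        obtain ⟨a, ha⟩ := a
        obtain ⟨b, hb⟩ := b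
        apply Subtype.ext
        show a * b = b * a
        cases a with
        | r i =>
          cases b with
          | r j => rw [r_mul_r, r_mul_r, add_comm]
          | sr j => exact absurd hb (hno j)
        | sr i => exact absurd ha (hno i)
      obtain ⟨u, hu⟩ : ∃ u : ℕ, (u : ZMod n) * 2 = 1 := by
        obtain ⟨q, hq⟩ := hodd
        refine ⟨q + 1, ?_⟩
        have h2 : (q + 1) * 2 = n + 1 := by omega
        calc ((q + 1 : ℕ) : ZMod n) * 2 = (((q + 1) * 2 : ℕ) : ZMod n) := by
              rw [Nat.cast_mul, Nat.cast_ofNat]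
          _ = ((n + 1 : ℕ) : ZMod n) := by rw [h2]
          _ = 1 := by rw [Nat.cast_add, ZMod.natCast_self, zero_add, Nat.cast_one]
      have hpow : ∀ a : ZMod n, r a ∈ H → ∀ t : ℕ, r ((t : ZMod n) * a) ∈ H := by
        intro a ha t
        induction t with
        | zero => rw [Nat.cast_zero, zero_mul, r_zero]; exact H.one_mem
        | succ t ih =>
          have e : r (((t + 1 : ℕ) : ZMod n) * a) = r ((t : ZMod n) * a) * r a := by
            rw [r_mul_r]; congr 1; push_cast; ring
          rw [e]; exact H.mul_mem ih ha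
      have hrot : ∀ j : ZMod n, r j ∈ Subgroup.normalizer (H : Set (DihedralGroup n)) →
          r j ∈ H := by
        intro j hj
        have h1 := (Subgroup.mem_normalizer_iff.mp hj (sr i)).mp hi
        have e : r j * sr i * (r j)⁻¹ = sr (i - j - j) := by
          rw [inv_r, r_mul_sr, sr_mul_r]; congr 1; ring
        rw [e] at h1
        have h2 : r (2 * (-j)) ∈ H := by
          have e2 : r (2 * (-j)) = sr i * sr (i - j - j) := by
            rw [sr_mul_sr]; congr 1; ring
          rw [e2]; exact H.mul_mem hi h1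
        have h3 := hpow _ h2 u
        have e3 : (u : ZMod n) * (2 * (-j)) = -j := by
          rw [← mul_assoc, hu, one_mul]
        rw [e3] at h3
        have h4 := H.inv_mem h3
        rwa [inv_r, neg_neg] at h4
      intro g hg
      cases g with
      | r j => exact hrot j hg
      | sr j =>
        have hiN : sr i ∈ Subgroup.normalizer (H : Set (DihedralGroup n)) :=
          Subgroup.le_normalizer hi
        have h1 : sr j * sr i ∈ Subgroup.normalizer (H : Set (DihedralGroup n)) :=
          Subgroup.mul_mem _ hg hiN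
        rw [sr_mul_sr] at h1
        have h2 := hrot _ h1
        have e : sr j = r (i - j) * sr i := by rw [r_mul_sr]; congr 1; ring
        rw [e]; exact H.mul_mem h2 hi

end Cfsg.Agent.S4074
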