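import Cfsg.Statements.S4075
import Cfsg.Agent.Lib.Helper7.NilpotentSylow

set_option autoImplicit false
open Cfsg

namespace Cfsg.Agent.S4075

open Cfsg.Agent.Lib.Helper7

/-- Let G be a finite nilpotent group. Every non-abelian subgroup of G is self-normalizing if and only if G is abelian or G is a minimal non-abelian p-group for some prime p (non-abelian of prime-power order with every proper subgroup abelian). -/
theorem result {G : Type*} [Group G] [Finite G]
    [Group.IsNilpotent G] :
    (∀ H : Subgroup G, ¬ IsMulCommutative H → Subgroup.normalizer (H : Set G) = H) ↔
    (IsMulCommutative G ∨ (IsPrimePow (Nat.card G) ∧ ¬ IsMulCommutative G ∧ ∀ H : Subgroup G, H ≠ ⊤ → IsMulCommutative H)) := by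
  constructor
  · intro h
    have hprop : ∀ H : Subgroup G, H ≠ ⊤ → IsMulCommutative H := by
      intro H hH
      by_contra hna
      have h1 := h H hna
      have hnc : NormalizerCondition G := Group.normalizerCondition_of_isNilpotent
      have h2 := hnc H (lt_top_iff_ne_top.mpr hH)
      rw [h1] at h2
      exact lt_irrefl _ h2
    by_cases hab : IsMulCommutative G
    · left; exact hab
    · right
      refine ⟨?_, hab, hprop⟩
      -- some Sylow subgroup is non-abelian
      have hex : ∃ (q : ℕ) (_ : Fact q.Prime) (Q : Sylow q G), ¬ IsMulCommutative (Q : Subgroup G) := by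
        by_contra hno
        push_neg at hno
        apply hab
        have hcenter : Subgroup.center G = ⊤ := by
          apply eq_top_of_forall_sylow_le
          intro q hq
          obtain ⟨Q⟩ : Nonempty (Sylow q G) := inferInstance
          refine ⟨Q, ?_⟩
          intro x hx
          rw [Subgroup.mem_center_iff]
          have hcent : Subgroup.centralizer ({x} : Set G) = ⊤ := by
            apply eq_top_of_forall_sylow_le
            intro r hr
            obtain ⟨R⟩ : Nonempty (Sylow r G) := inferInstance
            refine ⟨R, ?_⟩
            intro z hz
            rw [Subgroup.mem_centralizer_iff]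
            intro w hw
            rw [Set.mem_singleton_iff] at hw
            subst hw
            by_cases hqr : q = r
            · subst hqr
              have hRQ : R = Q := by
                obtain ⟨g, rfl⟩ := MulAction.exists_smul_eq G Q R
                exact Sylow.smul_eq_of_normal
              subst hRQ
              have := (hno q hq R).is_comm.comm ⟨w, hx⟩ ⟨z, hz⟩
              exact congrArg Subtype.val this
            · exact (sylow_commute_of_ne hqr Q R w z hx hz).eq
          intro g
          have : g ∈ Subgroup.centralizer ({x} : Set G) := by rw [hcent]; exact Subgroup.mem_top g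
          rw [Subgroup.mem_centralizer_iff] at this
          exact (this x rfl).symm
        refine ⟨⟨fun a b => ?_⟩⟩
        have : a ∈ Subgroup.center G := by rw [hcenter]; exact Subgroup.mem_top a
        rw [Subgroup.mem_center_iff] at this
        exact (this b).symm
      obtain ⟨q, hq, Q, hQ⟩ := hex
      have hQtop : (Q : Subgroup G) = ⊤ := by
        by_contra hne
        exact hQ (hprop _ hne)
      obtain ⟨k, hk⟩ := IsPGroup.iff_card.mp Q.isPGroup'
      rw [hQtop, Subgroup.card_top] at hk
      rw [hk]
      have hk0 : k ≠ 0 := by
        rintro rfl
        rw [pow_zero] at hk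
        apply hab
        haveI : Subsingleton G := (Nat.card_eq_one_iff_unique.mp hk).1
        exact ⟨⟨fun a b => Subsingleton.elim _ _⟩⟩
      exact ⟨q, k, (Nat.prime_iff.mp hq.out), Nat.pos_of_ne_zero hk0, rfl⟩
  · rintro (hab | ⟨_, hna, hprop⟩)
    · intro H hH
      exfalso
      apply hH
      exact ⟨⟨fun a b => Subtype.ext (hab.is_comm.comm (a : G) (b : G))⟩⟩
    · intro H hH
      have : H = ⊤ := by
        by_contra hne
        exact hH (hprop H hne)
      subst this
      exact Subgroup.normalizer_eq_top_iff.mpr inferInstance

end Cfsg.Agent.S4075
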