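import Cfsg.Statements.S4080

set_option autoImplicit false
open Cfsg

namespace Cfsg.Agent.S4080


theorem s4080_nilp2 {K : Type*} [Field K] (X : Matrix (Fin 2) (Fin 2) K) {n : ℕ}
    (hX : X ^ n = 0) : X ^ 2 = 0 := by
  have hCH : X ^ 2 = X.trace • X - X.det • (1 : Matrix (Fin 2) (Fin 2) K) := by
    ext i j
    fin_cases i <;> fin_cases j <;>
      simp [pow_two, Matrix.mul_apply, Fin.sum_univ_two, Matrix.det_fin_two,
        Matrix.trace_fin_two] <;> ring
  have hdet : X.det = 0 := by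
    have h1 : X.det ^ n = 0 := by rw [← Matrix.det_pow, hX, Matrix.det_zero]
    exact IsNilpotent.eq_zero ⟨n, h1⟩
  have h2 : X ^ 2 = X.trace • X := by rw [hCH, hdet, zero_smul, sub_zero]
  have h3 : ∀ k : ℕ, X ^ (k + 1) = X.trace ^ k • X := by
    intro k
    induction k with
    | zero => simp
    | succ k ih =>
      rw [pow_succ, ih, Matrix.smul_mul, ← pow_two, h2, smul_smul, ← pow_succ]
  rcases n with _ | k
  · have h1 : (1 : Matrix (Fin 2) (Fin 2) K) = 0 := by simp at hX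
    calc X ^ 2 = X ^ 2 * 1 := (mul_one _).symm
      _ = 0 := by rw [h1, mul_zero]
  · rw [h3 k] at hX
    rcases smul_eq_zero.mp hX with h | h
    · have ht : X.trace = 0 := IsNilpotent.eq_zero ⟨k, h⟩
      rw [h2, ht, zero_smul]
    · rw [h]; simp

theorem s4080_mat {p : ℕ} [Fact p.Prime] (hp : 3 < p)
    (M : Matrix (Fin 2) (Fin 2) (ZMod (p ^ 2))) (hM : M ^ p = 1) :
    (M - 1) * ((p : ℕ) : Matrix (Fin 2) (Fin 2) (ZMod (p ^ 2))) = 0 := by
  have hpp : p.Prime := Fact.out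
  have : NeZero (p ^ 2) := ⟨pow_ne_zero _ hpp.ne_zero⟩
  obtain ⟨N, hN⟩ : ∃ N, N = M - 1 := ⟨_, rfl⟩
  have hMN : M = N + 1 := by rw [hN]; abel
  rw [← hN]
  let ψ : Matrix (Fin 2) (Fin 2) (ZMod (p ^ 2)) →+* Matrix (Fin 2) (Fin 2) (ZMod p) :=
    (ZMod.castHom (dvd_pow_self p two_ne_zero) (ZMod p)).mapMatrix
  have h1 : (ψ N) ^ p = 0 := by
    have e : ψ N = ψ M - 1 := by rw [hN, map_sub, map_one]
    rw [e, sub_pow_char_of_commute p (Commute.one_right _), one_pow, ← map_pow, hM, map_one,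
      sub_self]
  have h2 : (ψ N) ^ 2 = 0 := s4080_nilp2 _ h1
  have h3 : ∀ i j, ∃ z : ZMod (p ^ 2), (N ^ 2) i j = (p : ZMod (p ^ 2)) * z := by
    intro i j
    have e : ψ (N ^ 2) i j = 0 := by rw [map_pow, h2]; rfl
    have e2 : (ZMod.cast ((N ^ 2) i j) : ZMod p) = 0 := by
      simpa [ψ, RingHom.mapMatrix_apply, ZMod.castHom_apply] using e
    rw [← ZMod.natCast_val, ZMod.natCast_eq_zero_iff] at e2
    obtain ⟨k, hk⟩ := e2
    refine ⟨(k : ZMod (p ^ 2)), ?_⟩
    rw [← ZMod.natCast_zmod_val ((N ^ 2) i j), hk, Nat.cast_mul]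
  choose B hB using h3
  have hN2 : N ^ 2 = (p : ZMod (p ^ 2)) • (Matrix.of B) := by
    ext i j; rw [hB i j]; simp [Matrix.smul_apply]
  have hpp2 : ((p : ZMod (p ^ 2)) * (p : ZMod (p ^ 2))) = 0 := by
    rw [← pow_two, ← Nat.cast_pow]; exact ZMod.natCast_self _
  have hpN2 : (p : ZMod (p ^ 2)) • N ^ 2 = 0 := by rw [hN2, smul_smul, hpp2, zero_smul]
  have hN4 : N ^ 4 = 0 := by
    have e : N ^ 4 = N ^ 2 * N ^ 2 := pow_add N 2 2
    rw [e]; nth_rewrite 1 [hN2]; rw [Matrix.smul_mul, ← Matrix.mul_smul, hpN2, mul_zero]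
  have hNp : N ^ p = 0 := by
    have e : N ^ p = N ^ 4 * N ^ (p - 4) := by rw [← pow_add]; congr 1; omega
    rw [e, hN4, zero_mul]
  have hN2p : N ^ 2 * ((p : ℕ) : Matrix (Fin 2) (Fin 2) (ZMod (p ^ 2))) = 0 := by
    rw [← nsmul_eq_mul', ← Nat.cast_smul_eq_nsmul (ZMod (p ^ 2)), hpN2]
  have hterm : ∀ m ∈ Finset.Ico 2 (p + 1),
      N ^ m * 1 ^ (p - m) * ((p.choose m : ℕ) : Matrix (Fin 2) (Fin 2) (ZMod (p ^ 2))) = 0 := by
    intro m hm
    rw [Finset.mem_Ico] at hm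
    rcases Nat.lt_or_ge m p with hlt | hge
    · obtain ⟨c, hc⟩ := hpp.dvd_choose_self (by omega) hlt
      have e : N ^ m = N ^ (m - 2) * N ^ 2 := by rw [← pow_add]; congr 1; omega
      rw [hc, one_pow, mul_one, e, Nat.cast_mul, mul_assoc, ← mul_assoc (N ^ 2), hN2p, zero_mul,
        mul_zero]
    · have hmp : m = p := by omega
      rw [hmp, hNp, zero_mul, zero_mul]
  have hsum := Commute.add_pow (Commute.one_right N) p
  rw [← hMN, hM, ← Finset.sum_range_add_sum_Ico _ (show 2 ≤ p + 1 by omega),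
    Finset.sum_eq_zero hterm, add_zero] at hsum
  simp [Finset.sum_range_succ] at hsum
  exact hsum

/-- Let p > 3 be a prime and L the direct product of two cyclic groups of order p². Every automorphism of L of order p fixes every element of order p of L. -/
theorem result {p : ℕ} [Fact p.Prime] (hp : 3 < p)
    (a : MulAut (Multiplicative (ZMod (p ^ 2) × ZMod (p ^ 2)))) (ha : orderOf a = p)
    (x : Multiplicative (ZMod (p ^ 2) × ZMod (p ^ 2))) (hx : orderOf x = p) : a x = x := by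
  have hpp : p.Prime := Fact.out
  have : NeZero (p ^ 2) := ⟨pow_ne_zero _ hpp.ne_zero⟩
  let φ₀ : (ZMod (p ^ 2) × ZMod (p ^ 2)) →+ (ZMod (p ^ 2) × ZMod (p ^ 2)) :=
    { toFun := fun v => Multiplicative.toAdd (a (Multiplicative.ofAdd v))
      map_zero' := by
        show Multiplicative.toAdd (a (Multiplicative.ofAdd
          (0 : ZMod (p ^ 2) × ZMod (p ^ 2)))) = 0
        rw [ofAdd_zero, map_one]; rfl
      map_add' := fun v w => by
        show Multiplicative.toAdd (a (Multiplicative.ofAdd (v + w))) = _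
        rw [ofAdd_add, map_mul]; rfl }
  let φ : (ZMod (p ^ 2) × ZMod (p ^ 2)) →ₗ[ZMod (p ^ 2)] (ZMod (p ^ 2) × ZMod (p ^ 2)) :=
    φ₀.toZModLinearMap (p ^ 2)
  have hφ : ∀ v : ZMod (p ^ 2) × ZMod (p ^ 2),
      φ v = Multiplicative.toAdd (a (Multiplicative.ofAdd v)) := fun v => rfl
  have hpow : ∀ (k : ℕ) (v : ZMod (p ^ 2) × ZMod (p ^ 2)),
      (φ ^ k) v = Multiplicative.toAdd ((a ^ k) (Multiplicative.ofAdd v)) := by
    intro k
    induction k with
    | zero => intro v; simp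
    | succ k ih =>
      intro v
      rw [pow_succ φ k, Module.End.mul_apply, ih, hφ, pow_succ a k, MulAut.mul_apply]
      rfl
  have hap : a ^ p = 1 := by
    have h := pow_orderOf_eq_one a
    rwa [ha] at h
  have hφp : φ ^ p = 1 := LinearMap.ext fun v => by
    rw [hpow, hap]; rfl
  have hMx : (LinearMap.toMatrixAlgEquiv (Module.Basis.finTwoProd (ZMod (p ^ 2))) φ) ^ p = 1 := by
    rw [← map_pow, hφp, map_one]
  have key := s4080_mat hp _ hMx
  have key2 : (φ - 1) * ((p : ℕ) : Module.End (ZMod (p ^ 2)) (ZMod (p ^ 2) × ZMod (p ^ 2))) = 0 := by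
    apply (LinearMap.toMatrixAlgEquiv (Module.Basis.finTwoProd (ZMod (p ^ 2)))).injective
    rw [map_mul, map_sub, map_one, map_natCast, map_zero]; exact key
  obtain ⟨v, hxv⟩ : ∃ v : ZMod (p ^ 2) × ZMod (p ^ 2), x = Multiplicative.ofAdd v :=
    ⟨Multiplicative.toAdd x, rfl⟩
  rw [hxv] at hx
  rw [hxv]
  have hv : p • v = 0 := by
    have h := pow_orderOf_eq_one (Multiplicative.ofAdd v)
    rw [hx, ← ofAdd_nsmul] at h
    exact ofAdd_eq_one.mp h
  have h1 : ∀ y : ZMod (p ^ 2), p • y = 0 → ∃ z : ZMod (p ^ 2), y = p • z := by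
    intro y hy
    rw [nsmul_eq_mul] at hy
    have h2 : ((p * y.val : ℕ) : ZMod (p ^ 2)) = 0 := by
      rw [Nat.cast_mul, ZMod.natCast_zmod_val]; exact hy
    rw [ZMod.natCast_eq_zero_iff] at h2
    have h2' : p * p ∣ p * y.val := by rw [← pow_two]; exact h2
    obtain ⟨k, hk⟩ := Nat.dvd_of_mul_dvd_mul_left hpp.pos h2'
    refine ⟨(k : ZMod (p ^ 2)), ?_⟩
    rw [nsmul_eq_mul, ← ZMod.natCast_zmod_val y, hk, Nat.cast_mul]
  obtain ⟨z1, hz1⟩ := h1 v.1 (by have h := congrArg Prod.fst hv; simpa using h)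
  obtain ⟨z2, hz2⟩ := h1 v.2 (by have h := congrArg Prod.snd hv; simpa using h)
  have hw : v = p • (z1, z2) := Prod.ext (by simpa using hz1) (by simpa using hz2)
  have h4 := DFunLike.congr_fun key2 (z1, z2)
  rw [Module.End.mul_apply, Module.End.natCast_apply, ← hw, LinearMap.sub_apply,
    Module.End.one_apply, LinearMap.zero_apply, sub_eq_zero] at h4
  exact Multiplicative.toAdd.injective h4

end Cfsg.Agent.S4080
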