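import Cfsg.Statements.S4084
import Mathlib.GroupTheory.Perm.Cycle.Type

set_option autoImplicit false
open Cfsg

namespace Cfsg.Agent.S4084

/-- the double centralizer of an element -/
def cc {G : Type*} [Group G] (g : G) : Subgroup G :=
  Subgroup.centralizer (Subgroup.centralizer ({g} : Set G) : Set G)

theorem mem_cc {G : Type*} [Group G] (g a : G) :
    a ∈ cc g ↔ ∀ b : G, Commute b g → Commute a b := by
  unfold cc
  rw [Subgroup.mem_centralizer_iff]
  constructor
  · intro h b hb
    have hb' : b ∈ Subgroup.centralizer ({g} : Set G) := by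
      rw [Subgroup.mem_centralizer_singleton_iff]; exact hb.eq
    exact (h b hb').symm
  · intro h b hb
    rw [SetLike.mem_coe, Subgroup.mem_centralizer_singleton_iff] at hb
    exact (h b hb).eq.symm

theorem self_mem_cc {G : Type*} [Group G] (g : G) : g ∈ cc g := by
  rw [mem_cc]; intro b hb; exact hb.symm

theorem cc_comm {G : Type*} [Group G] (g u v : G) (hu : u ∈ cc g) (hv : v ∈ cc g) : Commute u v := by
  rw [mem_cc] at hu hv
  have hvg : Commute v g := hv g (Commute.refl g)
  exact hu v hvg

theorem one_dir {G H : Type*} [Group G] [Finite G] [Group H] [Finite H] (e : G ≃ H)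
    (he : ∀ x y : G, Commute x y ↔ Commute (e x) (e y))
    {p q : ℕ} (hp : p.Prime) (hq : q.Prime) (hpq : p ≠ q) :
    (∃ g : G, orderOf g = p * q) → (∃ h : H, orderOf h = p * q) := by
  rintro ⟨g, hg⟩
  have hmem : ∀ a : G, a ∈ cc g ↔ e a ∈ cc (e g) := by
    intro a
    rw [mem_cc, mem_cc]
    constructor
    · intro h b' hb'
      obtain ⟨b, rfl⟩ := e.surjective b'
      exact (he a b).mp (h b ((he b g).mpr hb'))
    · intro h b hb
      exact (he a b).mpr (h (e b) ((he b g).mp hb))
  have hcard : Nat.card (cc g) = Nat.card (cc (e g)) :=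
    Nat.card_congr (Equiv.subtypeEquiv e hmem)
  have hdvd : p * q ∣ Nat.card (cc (e g)) := by
    rw [← hcard, ← hg, ← Subgroup.orderOf_mk g (self_mem_cc g)]
    exact orderOf_dvd_natCard _
  have : Fact p.Prime := ⟨hp⟩
  have : Fact q.Prime := ⟨hq⟩
  obtain ⟨u, hu⟩ := exists_prime_orderOf_dvd_card' (G := cc (e g)) p (dvd_trans (dvd_mul_right p q) hdvd)
  obtain ⟨v, hv⟩ := exists_prime_orderOf_dvd_card' (G := cc (e g)) q (dvd_trans (dvd_mul_left q p) hdvd)
  refine ⟨(u : H) * (v : H), ?_⟩
  have hcomm : Commute (u : H) (v : H) := cc_comm (e g) u v u.2 v.2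
  have hou : orderOf (u : H) = p := by rw [Subgroup.orderOf_coe]; exact hu
  have hov : orderOf (v : H) = q := by rw [Subgroup.orderOf_coe]; exact hv
  rw [hcomm.orderOf_mul_eq_mul_orderOf_of_coprime, hou, hov]
  rw [hou, hov]
  exact (Nat.coprime_primes hp hq).mpr hpq

/-- Let G and H be finite groups whose commuting graphs are isomorphic: there is a bijection e : G → H with x, y commuting exactly when e(x), e(y) commute. Then G and H have the same prime graph: for distinct primes p, q, G has an element of order pq if and only if H does (and #G = #H, so the prime divisors agree). -/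
theorem result {G H : Type*} [Group G] [Finite G] [Group H] [Finite H] (e : G ≃ H)
    (he : ∀ x y : G, Commute x y ↔ Commute (e x) (e y))
    {p q : ℕ} (hp : p.Prime) (hq : q.Prime) (hpq : p ≠ q) :
    (∃ g : G, orderOf g = p * q) ↔ (∃ h : H, orderOf h = p * q) := by
  constructor
  · exact one_dir e he hp hq hpq
  · refine one_dir e.symm (fun x y => ?_) hp hq hpq
    have := he (e.symm x) (e.symm y)
    simp only [Equiv.apply_symm_apply] at this
    exact this.symm

end Cfsg.Agent.S4084
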