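import Cfsg.Statements.S4086
import Cfsg.Agent.Lib.Helper7.CyclicMem

set_option autoImplicit false
open Cfsg

namespace Cfsg.Agent.S4086

open Cfsg.Agent.Lib.Helper7

theorem result {G : Type*} [Group G] [Finite G] :
    (∀ g : G, g ≠ 1 → IsPrimePow (orderOf g)) ↔
    (∀ x y : G, IsCyclic ↥(Subgroup.closure ({x, y} : Set G)) → (x ∈ Subgroup.zpowers y ∨ y ∈ Subgroup.zpowers x)) := by
  constructor
  · intro h x y hcyc
    set C := Subgroup.closure ({x, y} : Set G) with hC
    have hxC : x ∈ C := Subgroup.subset_closure (by simp)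
    have hyC : y ∈ C := Subgroup.subset_closure (by simp)
    obtain ⟨z, hz⟩ := IsCyclic.exists_generator (α := C)
    -- order of z (in G) is 1 or a prime power
    have hcard : Nat.card C = orderOf (z : G) := by
      rw [Subgroup.orderOf_coe]
      exact (orderOf_eq_card_of_forall_mem_zpowers hz).symm
    have hox : orderOf x ∣ orderOf (z : G) := by
      rw [← hcard]; exact Subgroup.orderOf_dvd_natCard C hxC
    have hoy : orderOf y ∣ orderOf (z : G) := by
      rw [← hcard]; exact Subgroup.orderOf_dvd_natCard C hyC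
    -- transfer lemma: membership in zpowers inside C gives membership in G
    have transfer : ∀ (a b : G) (ha : a ∈ C) (hb : b ∈ C), orderOf a ∣ orderOf b →
        a ∈ Subgroup.zpowers b := by
      intro a b ha hb hab
      have h1 : orderOf (⟨a, ha⟩ : C) ∣ orderOf (⟨b, hb⟩ : C) := by
        rw [Subgroup.orderOf_mk, Subgroup.orderOf_mk]; exact hab
      have h2 := mem_zpowers_of_orderOf_dvd_of_isCyclic (⟨a, ha⟩ : C) ⟨b, hb⟩ h1
      obtain ⟨k, hk⟩ := Subgroup.mem_zpowers_iff.1 h2
      refine Subgroup.mem_zpowers_iff.2 ⟨k, ?_⟩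
      have := congrArg Subtype.val hk
      simpa using this
    by_cases hz1 : (z : G) = 1
    · -- trivial group
      left
      apply transfer x y hxC hyC
      rw [hz1, orderOf_one, Nat.dvd_one] at hox
      rw [hox]; exact one_dvd _
    · obtain ⟨p, k, hp, hk, hpk⟩ := h (z : G) hz1
      rw [← hpk] at hox hoy
      obtain ⟨a, ha, hxa⟩ := (Nat.dvd_prime_pow hp.nat_prime).1 hox
      obtain ⟨b, hb, hyb⟩ := (Nat.dvd_prime_pow hp.nat_prime).1 hoy
      rcases le_total a b with hab | hab
      · left
        apply transfer x y hxC hyC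
        rw [hxa, hyb]; exact pow_dvd_pow p hab
      · right
        apply transfer y x hyC hxC
        rw [hxa, hyb]; exact pow_dvd_pow p hab
  · intro h g hg
    by_contra hnpp
    set n := orderOf g with hn
    have hnpos : 0 < n := orderOf_pos g
    have hn1 : n ≠ 1 := by
      intro h1
      exact hg (orderOf_eq_one_iff.1 h1)
    obtain ⟨p, hp, hpn⟩ := Nat.exists_prime_and_dvd hn1
    -- another prime
    have hex : ∃ q : ℕ, q.Prime ∧ q ∣ n ∧ q ≠ p := by
      by_contra hno
      push_neg at hno
      apply hnpp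
      rw [isPrimePow_iff_unique_prime_dvd]
      exact ⟨p, ⟨hp, hpn⟩, fun q ⟨hq, hqn⟩ => hno q hq hqn⟩
    obtain ⟨q, hq, hqn, hqp⟩ := hex
    set x := g ^ (n / p) with hx
    set y := g ^ (n / q) with hy
    have hox : orderOf x = p := by
      rw [hx, orderOf_pow_of_dvd (Nat.div_pos (Nat.le_of_dvd hnpos hpn) hp.pos).ne'
        (Nat.div_dvd_of_dvd hpn), ← hn, Nat.div_div_self hpn hnpos.ne']
    have hoy : orderOf y = q := by
      rw [hy, orderOf_pow_of_dvd (Nat.div_pos (Nat.le_of_dvd hnpos hqn) hq.pos).ne'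
        (Nat.div_dvd_of_dvd hqn), ← hn, Nat.div_div_self hqn hnpos.ne']
    have hle : Subgroup.closure ({x, y} : Set G) ≤ Subgroup.zpowers g := by
      rw [Subgroup.closure_le]
      intro w hw
      rcases hw with rfl | rfl
      · exact Subgroup.npow_mem_zpowers g _
      · exact Subgroup.npow_mem_zpowers g _
    have hcyc : IsCyclic ↥(Subgroup.closure ({x, y} : Set G)) := Subgroup.isCyclic_of_le hle
    rcases h x y hcyc with h1 | h1
    · have := orderOf_dvd_of_mem_zpowers h1
      rw [hox, hoy] at this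
      exact hqp ((Nat.prime_dvd_prime_iff_eq hp hq).1 this).symm
    · have := orderOf_dvd_of_mem_zpowers h1
      rw [hox, hoy] at this
      exact hqp ((Nat.prime_dvd_prime_iff_eq hq hp).1 this)

end Cfsg.Agent.S4086
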