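import Mathlib
import Cfsg.Statements.S4089
import Cfsg.Agent.Lib.Helper1.Fitting
import Cfsg.Agent.Lib.Helper3.Subn
import Cfsg.Agent.Lib.Helper5.SubnClosure

set_option autoImplicit false

open Cfsg
open scoped Pointwise

namespace Cfsg.Agent.S4089

open Cfsg.Agent.Lib.Helper1

universe u

section
variable {G : Type u} [Group G] [Finite G] {p : ℕ} [Fact p.Prime]

theorem sn_of_le_normal_pgroup {H R L : Subgroup G} (hHR : H ≤ R) (hR : IsPGroup p R)
    (hL : L ≤ Subgroup.normalizer (R : Set G)) : (H.subgroupOf L).IsSubnormal := by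
  have hKn : (R.subgroupOf L).Normal := Subgroup.normal_subgroupOf_of_le_normalizer hL
  have hKp : IsPGroup p (R.subgroupOf L) := hR.comap_subtype
  have hle : H.subgroupOf L ≤ R.subgroupOf L := fun y hy => hHR hy
  haveI : Group.IsNilpotent (R.subgroupOf L) := hKp.isNilpotent
  refine Subgroup.IsSubnormal.trans hle ?_ hKn.isSubnormal
  exact Cfsg.Agent.Lib.Helper5.isSubnormal_of_isNilpotent _

theorem le_normalizer_map_pCore (L : Subgroup G) :
    L ≤ Subgroup.normalizer (((pCore p ↥L).map L.subtype : Subgroup G) : Set G) := by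
  intro l hl
  rw [Subgroup.mem_normalizer_iff]
  intro y
  have hn := pCore_normal (G := ↥L) p
  constructor
  · rintro ⟨y', hy', rfl⟩
    refine ⟨⟨l, hl⟩ * y' * ⟨l, hl⟩⁻¹, hn.conj_mem _ hy' _, ?_⟩
    simp
  · rintro ⟨z, hz, hzz⟩
    refine ⟨⟨l, hl⟩⁻¹ * z * ⟨l, hl⟩, ?_, ?_⟩
    · have := hn.conj_mem _ hz ⟨l, hl⟩⁻¹
      simpa using this
    · show l⁻¹ * (z : G) * l = y
      have hz' : (z : G) = l * y * l⁻¹ := hzz
      rw [hz']; group

theorem exists_of_sn {H L : Subgroup G} (hH : IsPGroup p H) (hHL : H ≤ L)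
    (hsn : (H.subgroupOf L).IsSubnormal) :
    ∃ R : Subgroup G, H ≤ R ∧ IsPGroup p R ∧ L ≤ Subgroup.normalizer (R : Set G) := by
  have h1 : H.subgroupOf L ≤ pCore p ↥L :=
    Cfsg.Agent.Lib.Helper3.subnormal_pgroup_le_pCore p hsn hH.comap_subtype
  refine ⟨(pCore p ↥L).map L.subtype, ?_, ?_, le_normalizer_map_pCore L⟩
  · intro h hh
    exact ⟨⟨h, hHL hh⟩, h1 (by rw [Subgroup.mem_subgroupOf]; exact hh), rfl⟩
  · exact (pCore_isPGroup).map _

theorem exists_radical (R₀ : Subgroup G) (hR₀ : IsPGroup p R₀) :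
    ∃ R : Subgroup G, R₀ ≤ R ∧
      (pCore p ↥(Subgroup.normalizer (R : Set G))).map (Subgroup.normalizer (R : Set G)).subtype = R ∧
      Subgroup.normalizer (R₀ : Set G) ≤ Subgroup.normalizer (R : Set G) := by
  induction R₀ using WellFoundedGT.induction with
  | ind R₀ ih =>
    have h01 : R₀ ≤ (pCore p ↥(Subgroup.normalizer (R₀ : Set G))).map
        (Subgroup.normalizer (R₀ : Set G)).subtype := by
      have hn : (R₀.subgroupOf (Subgroup.normalizer (R₀ : Set G))).Normal :=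
        Subgroup.normal_in_normalizer
      have h1 : R₀.subgroupOf (Subgroup.normalizer (R₀ : Set G)) ≤
          pCore p ↥(Subgroup.normalizer (R₀ : Set G)) := le_pCore _ hn hR₀.comap_subtype
      intro r hr
      exact ⟨⟨r, Subgroup.le_normalizer hr⟩, h1 (by rw [Subgroup.mem_subgroupOf]; exact hr), rfl⟩
    by_cases heq : (pCore p ↥(Subgroup.normalizer (R₀ : Set G))).map
        (Subgroup.normalizer (R₀ : Set G)).subtype = R₀
    · exact ⟨R₀, le_rfl, heq, le_rfl⟩
    · have hlt : R₀ < (pCore p ↥(Subgroup.normalizer (R₀ : Set G))).map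
          (Subgroup.normalizer (R₀ : Set G)).subtype := lt_of_le_of_ne h01 (Ne.symm heq)
      have hR₁p : IsPGroup p ((pCore p ↥(Subgroup.normalizer (R₀ : Set G))).map
          (Subgroup.normalizer (R₀ : Set G)).subtype : Subgroup G) := (pCore_isPGroup).map _
      obtain ⟨R, h1, h2, h3⟩ := ih _ hlt hR₁p
      exact ⟨R, h01.trans h1, h2, le_trans (le_normalizer_map_pCore _) h3⟩

theorem sInf_sylow_le_radical (R : Subgroup G)
    (hrad : (pCore p ↥(Subgroup.normalizer (R : Set G))).map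
      (Subgroup.normalizer (R : Set G)).subtype = R) :
    sInf {K : Subgroup G | ∃ Q : Sylow p G, R ≤ (Q : Subgroup G) ∧ K = (Q : Subgroup G)} ≤ R := by
  have hRp : IsPGroup p R := by rw [← hrad]; exact (pCore_isPGroup).map _
  obtain ⟨Rs, hRs⟩ : ∃ Rs : Subgroup G,
      Rs = sInf {K : Subgroup G | ∃ Q : Sylow p G, R ≤ (Q : Subgroup G) ∧ K = (Q : Subgroup G)} :=
    ⟨_, rfl⟩
  rw [← hRs]
  have hRle : R ≤ Rs := by
    rw [hRs]
    apply le_sInf
    rintro K ⟨Q, hQ, rfl⟩
    exact hQ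
  obtain ⟨Q₀, hQ₀⟩ := hRp.exists_le_sylow
  have hRsQ : Rs ≤ Q₀ := by rw [hRs]; exact sInf_le ⟨Q₀, hQ₀, rfl⟩
  have hRsp : IsPGroup p Rs := Q₀.isPGroup'.to_le hRsQ
  have hnorm : ∀ n ∈ Subgroup.normalizer (R : Set G), ∀ y ∈ Rs, n * y * n⁻¹ ∈ Rs := by
    intro n hn y hy
    rw [hRs, Subgroup.mem_sInf]
    rintro K ⟨Q, hQ, rfl⟩
    have h1 : R ≤ ((n⁻¹ • Q : Sylow p G) : Subgroup G) := by
      intro r hr
      rw [Sylow.coe_subgroup_smul, Subgroup.mem_pointwise_smul_iff_inv_smul_mem, map_inv, inv_inv,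
        MulAut.smul_def, MulAut.conj_apply]
      exact hQ (((Subgroup.mem_normalizer_iff.1 hn) r).1 hr)
    have hy' : y ∈ ((n⁻¹ • Q : Sylow p G) : Subgroup G) := by
      have : Rs ≤ ((n⁻¹ • Q : Sylow p G) : Subgroup G) := by
        rw [hRs]; exact sInf_le ⟨n⁻¹ • Q, h1, rfl⟩
      exact this hy
    rw [Sylow.coe_subgroup_smul, Subgroup.mem_pointwise_smul_iff_inv_smul_mem, map_inv, inv_inv,
      MulAut.smul_def, MulAut.conj_apply] at hy'
    exact hy'
  have hM : Rs ⊓ Subgroup.normalizer (R : Set G) ≤ R := by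
    have hn : ((Rs ⊓ Subgroup.normalizer (R : Set G)).subgroupOf
        (Subgroup.normalizer (R : Set G))).Normal := by
      constructor
      intro y hy n
      rw [Subgroup.mem_subgroupOf] at hy ⊢
      refine ⟨?_, ?_⟩
      · have := hnorm n n.2 y hy.1
        simpa using this
      · exact (n * y * n⁻¹).2
    have hp' : IsPGroup p ((Rs ⊓ Subgroup.normalizer (R : Set G)).subgroupOf
        (Subgroup.normalizer (R : Set G))) := (hRsp.to_le inf_le_left).comap_subtype
    have h1 := le_pCore _ hn hp'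
    intro y hy
    rw [← hrad]
    exact ⟨⟨y, hy.2⟩, h1 (by rw [Subgroup.mem_subgroupOf]; exact hy), rfl⟩
  by_contra hcon
  haveI : Group.IsNilpotent Rs := hRsp.isNilpotent
  have hlt : R.subgroupOf Rs < ⊤ := by
    rw [lt_top_iff_ne_top]
    intro h
    apply hcon
    intro y hy
    have : (⟨y, hy⟩ : Rs) ∈ R.subgroupOf Rs := by rw [h]; trivial
    exact this
  have h2 := normalizerCondition_of_isNilpotent (R.subgroupOf Rs) hlt
  obtain ⟨y, hyN, hyR⟩ := SetLike.exists_of_lt h2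
  apply hyR
  rw [Subgroup.mem_subgroupOf]
  apply hM
  refine ⟨y.2, ?_⟩
  show (y : G) ∈ Subgroup.normalizer (R : Set G)
  rw [Subgroup.mem_normalizer_iff]
  intro r
  rw [Subgroup.mem_normalizer_iff] at hyN
  constructor
  · intro hr
    have := (hyN ⟨r, hRle hr⟩).1 (by rw [Subgroup.mem_subgroupOf]; exact hr)
    rw [Subgroup.mem_subgroupOf] at this
    simpa using this
  · intro hr
    have hrs : r ∈ Rs := by
      have : r = (y : G)⁻¹ * ((y : G) * r * (y : G)⁻¹) * (y : G) := by group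
      rw [this]
      exact Rs.mul_mem (Rs.mul_mem (Rs.inv_mem y.2) (hRle hr)) y.2
    have := (hyN ⟨r, hrs⟩).2 (by rw [Subgroup.mem_subgroupOf]; simpa using hr)
    rw [Subgroup.mem_subgroupOf] at this
    exact this

theorem sn_iff (H : Subgroup G) (hH : IsPGroup p H) (g : G) :
    ((H).subgroupOf (H ⊔ Subgroup.zpowers g)).IsSubnormal ↔
      ∃ R : Subgroup G, H ≤ R ∧ (pCore p (Subgroup.normalizer (R : Set G))).map
        (Subgroup.normalizer (R : Set G)).subtype = R ∧ g ∈ Subgroup.normalizer (R : Set G) := by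
  constructor
  · intro hsn
    obtain ⟨R₀, h1, h2, h3⟩ := exists_of_sn hH le_sup_left hsn
    obtain ⟨R, h4, h5, h6⟩ := exists_radical R₀ h2
    exact ⟨R, h1.trans h4, h5, h6 (h3 (Subgroup.mem_sup_right (Subgroup.mem_zpowers g)))⟩
  · rintro ⟨R, h1, h2, h3⟩
    have hRp : IsPGroup p R := by rw [← h2]; exact (pCore_isPGroup).map _
    apply sn_of_le_normal_pgroup h1 hRp
    apply sup_le (h1.trans Subgroup.le_normalizer)
    rw [Subgroup.zpowers_le]; exact h3

end

theorem result {G : Type*} [Group G] [Finite G] (p : ℕ) [Fact p.Prime]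
    (H : Subgroup G) (hH : IsPGroup p H) :
    {g : G | ((H).subgroupOf (H ⊔ Subgroup.zpowers g)).IsSubnormal} =
      {g : G | ∃ R : Subgroup G, H ≤ R ∧ (Cfsg.pCore p (Subgroup.normalizer (R : Set G))).map (Subgroup.normalizer (R : Set G)).subtype = R ∧ g ∈ Subgroup.normalizer (R : Set G)} ∧
    ∀ g : G, (((H).subgroupOf (H ⊔ Subgroup.zpowers g)).IsSubnormal ↔
      (((sInf {K : Subgroup G | ∃ Q : Sylow p G, H ≤ (Q : Subgroup G) ∧ K = (Q : Subgroup G)})).subgroupOf ((sInf {K : Subgroup G | ∃ Q : Sylow p G, H ≤ (Q : Subgroup G) ∧ K = (Q : Subgroup G)}) ⊔ Subgroup.zpowers g)).IsSubnormal) := by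
  refine ⟨?_, ?_⟩
  · ext g
    exact sn_iff H hH g
  · intro g
    obtain ⟨Hs, hHs⟩ : ∃ Hs : Subgroup G,
        Hs = sInf {K : Subgroup G | ∃ Q : Sylow p G, H ≤ (Q : Subgroup G) ∧ K = (Q : Subgroup G)} :=
      ⟨_, rfl⟩
    rw [← hHs]
    have hle : H ≤ Hs := by
      rw [hHs]
      apply le_sInf
      rintro K ⟨Q, hQ, rfl⟩
      exact hQ
    obtain ⟨Q₀, hQ₀⟩ := hH.exists_le_sylow
    have hHsQ : Hs ≤ Q₀ := by rw [hHs]; exact sInf_le ⟨Q₀, hQ₀, rfl⟩
    have hHsp : IsPGroup p Hs := Q₀.isPGroup'.to_le hHsQ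
    constructor
    · intro hsn
      obtain ⟨R, h1, h2, h3⟩ := (sn_iff H hH g).1 hsn
      have hRp : IsPGroup p R := by
        rw [← h2]; exact (Cfsg.Agent.Lib.Helper1.pCore_isPGroup).map _
      have h4 := sInf_sylow_le_radical R h2
      have h5 : Hs ≤ R := by
        refine le_trans ?_ h4
        rw [hHs]
        apply le_sInf
        rintro K ⟨Q, hQ, rfl⟩
        exact sInf_le ⟨Q, h1.trans hQ, rfl⟩
      apply sn_of_le_normal_pgroup h5 hRp
      apply sup_le (h5.trans Subgroup.le_normalizer)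
      rw [Subgroup.zpowers_le]; exact h3
    · intro hsn
      obtain ⟨R₀, h1, h2, h3⟩ := exists_of_sn hHsp le_sup_left hsn
      apply sn_of_le_normal_pgroup (hle.trans h1) h2
      exact le_trans (sup_le_sup_right hle _) h3

end Cfsg.Agent.S4089
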