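import Mathlib
import Cfsg.Statements.S4092
import Cfsg.Agent.Lib.Helper7.SylowBasic
import Cfsg.Agent.Lib.Helper7.PGroupNormalizer

set_option autoImplicit false
open Cfsg

namespace Cfsg.Agent.S4092

open Cfsg.Agent.Lib.Helper7

theorem card_split {α : Type*} [Finite α] (p q : α → Prop) (h : ∀ x, q x → p x) :
    Nat.card {x // p x ∧ ¬ q x} + Nat.card {x // q x} = Nat.card {x // p x} := by
  classical
  haveI := Fintype.ofFinite α
  have e1 : Nat.card {x // p x} = (Finset.univ.filter p).card := by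
    rw [Nat.card_eq_fintype_card, Fintype.card_subtype]
  have e2 : Nat.card {x // q x} = (Finset.univ.filter q).card := by
    rw [Nat.card_eq_fintype_card, Fintype.card_subtype]
  have e3 : Nat.card {x // p x ∧ ¬ q x} = (Finset.univ.filter (fun x => p x ∧ ¬ q x)).card := by
    rw [Nat.card_eq_fintype_card, Fintype.card_subtype]
  have h1 := Finset.card_filter_add_card_filter_not (s := Finset.univ.filter p) q
  have h2 : (Finset.univ.filter p).filter q = Finset.univ.filter q := by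
    ext x; simp; exact h x
  have h3 : (Finset.univ.filter p).filter (fun x => ¬ q x) =
      Finset.univ.filter (fun x => p x ∧ ¬ q x) := by
    ext x; simp
  rw [h2, h3] at h1
  omega

theorem result {G : Type*} [Group G] [Finite G] (p : ℕ) [Fact p.Prime]
    (P : Sylow p G) (hP : ¬ (P : Subgroup G).Normal) :
    p * Nat.card (P : Subgroup G) ≤ Nat.card {g : G // ∃ k : ℕ, orderOf g = p ^ k} := by
  classical
  have hpp : p.Prime := Fact.out
  have hex : ∃ Q : Sylow p G, Q ≠ P := by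
    by_contra h
    push Not at h
    apply hP
    have : ∀ g : G, g • P = P := fun g => h (g • P)
    rw [← Subgroup.normalizer_eq_top_iff, eq_top_iff]
    intro g _
    exact Sylow.smul_eq_iff_mem_normalizer.1 (this g)
  obtain ⟨Q₀, hQ₀⟩ := hex
  haveI : Nonempty {PQ : Sylow p G × Sylow p G // PQ.1 ≠ PQ.2} := ⟨⟨(Q₀, P), hQ₀⟩⟩
  obtain ⟨⟨⟨P₁, P₂⟩, hne⟩, hmax⟩ := Finite.exists_max
    (α := {PQ : Sylow p G × Sylow p G // PQ.1 ≠ PQ.2})
    (fun PQ => Nat.card ((PQ.1.1 : Subgroup G) ⊓ PQ.1.2 : Subgroup G))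
  have hne' : P₁ ≠ P₂ := hne
  obtain ⟨D, hD⟩ : ∃ D : Subgroup G, D = (P₁ : Subgroup G) ⊓ P₂ := ⟨_, rfl⟩
  have hmaxD : ∀ R R' : Sylow p G, R ≠ R' →
      Nat.card ((R : Subgroup G) ⊓ R' : Subgroup G) ≤ Nat.card D := by
    intro R R' h
    have := hmax ⟨(R, R'), h⟩
    rw [hD]; exact this
  have hcardS : ∀ R : Sylow p G, Nat.card (R : Subgroup G) = Nat.card (P : Subgroup G) := by
    intro R; rw [Sylow.card_eq_multiplicity, Sylow.card_eq_multiplicity]
  have hDP₁ : D ≤ P₁ := hD ▸ inf_le_left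
  have hDP₂ : D ≤ P₂ := hD ▸ inf_le_right
  have hlt₁ : D < (P₁ : Subgroup G) := by
    refine lt_of_le_of_ne hDP₁ ?_
    intro h
    apply hne'
    have hle : (P₁ : Subgroup G) ≤ P₂ := h ▸ hDP₂
    exact Sylow.ext (P₁.3 P₂.2 hle).symm
  have hlt₂ : D < (P₂ : Subgroup G) := by
    refine lt_of_le_of_ne hDP₂ ?_
    intro h
    apply hne'
    have hle : (P₂ : Subgroup G) ≤ P₁ := h ▸ hDP₁
    exact Sylow.ext (P₂.3 P₁.2 hle)
  obtain ⟨N, hN⟩ : ∃ N : Subgroup G, N = Subgroup.normalizer (D : Set G) := ⟨_, rfl⟩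
  have hDN : D ≤ N := hN ▸ Subgroup.le_normalizer
  haveI hD'n : (D.subgroupOf N).Normal := by
    rw [hN]; infer_instance
  have hD'p : IsPGroup p (D.subgroupOf N) := (P₁.isPGroup'.to_le hDP₁).comap_subtype
  -- choose a Sylow subgroup of G above each Sylow subgroup of N
  have hRex : ∀ S : Sylow p N, ∃ R : Sylow p G, (S : Subgroup N).map N.subtype ≤ R :=
    fun S => (S.isPGroup'.map N.subtype).exists_le_sylow
  choose R hR using hRex
  have hmemR : ∀ (S : Sylow p N) (x : G) (hx : x ∈ N), (⟨x, hx⟩ : N) ∈ S → x ∈ R S :=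
    fun S x hx h => hR S ⟨⟨x, hx⟩, h, rfl⟩
  have hDR : ∀ S : Sylow p N, D ≤ R S := by
    intro S d hd
    apply hmemR S d (hDN hd)
    exact hD'p.le_sylow_of_normal S (Subgroup.mem_subgroupOf.2 hd)
  have hTS : ∀ (S : Sylow p N) (Q : Sylow p G), (S : Subgroup N).map N.subtype ≤ Q →
      ((Q : Subgroup G) ⊓ N).subgroupOf N = S := by
    intro S Q hle
    apply S.3 ((Q.isPGroup'.to_le inf_le_left).comap_subtype)
    intro x hx
    show (x : G) ∈ (Q : Subgroup G) ⊓ N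
    exact Subgroup.mem_inf.2 ⟨hle ⟨x, hx, rfl⟩, x.2⟩
  have hRinj : Function.Injective R := by
    intro S S' h
    have h1 := hTS S (R S) (hR S)
    have h2 := hTS S' (R S) (h ▸ hR S')
    exact Sylow.ext (h1.symm.trans h2)
  have hRR : ∀ S S' : Sylow p N, S ≠ S' → (R S : Subgroup G) ⊓ R S' = D := by
    intro S S' h
    exact (Subgroup.eq_of_le_of_card_ge (le_inf (hDR S) (hDR S'))
      (hmaxD _ _ (fun h' => h (hRinj h')))).symm
  -- at least p + 1 Sylow subgroups in N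
  have hnS : p + 1 ≤ Nat.card (Sylow p N) := by
    have hmod := card_sylow_modEq_one p N
    have hpos : 1 ≤ Nat.card (Sylow p N) := Nat.card_pos
    have hne1 : Nat.card (Sylow p N) ≠ 1 := by
      intro h1
      have hsub : ∀ S S' : Sylow p N, S = S' := by
        haveI := (Nat.card_eq_one_iff_unique.1 h1).1
        intro S S'; exact Subsingleton.elim _ _
      obtain ⟨x₁, hx₁P, hx₁N, hx₁D⟩ := exists_mem_normalizer_not_mem (P₁ : Subgroup G) D P₁.isPGroup' hlt₁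
      obtain ⟨x₂, hx₂P, hx₂N, hx₂D⟩ := exists_mem_normalizer_not_mem (P₂ : Subgroup G) D P₂.isPGroup' hlt₂
      rw [← hN] at hx₁N hx₂N
      obtain ⟨S₁, hS₁⟩ := ((P₁.isPGroup'.to_le (inf_le_left : (P₁ : Subgroup G) ⊓ N ≤ P₁)).comap_subtype
        (K := N)).exists_le_sylow
      obtain ⟨S₂, hS₂⟩ := ((P₂.isPGroup'.to_le (inf_le_left : (P₂ : Subgroup G) ⊓ N ≤ P₂)).comap_subtype
        (K := N)).exists_le_sylow
      have hx₁S : (⟨x₁, hx₁N⟩ : N) ∈ S₁ := hS₁ (Subgroup.mem_subgroupOf.2 (Subgroup.mem_inf.2 ⟨hx₁P, hx₁N⟩))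
      have hx₂S : (⟨x₂, hx₂N⟩ : N) ∈ S₂ := hS₂ (Subgroup.mem_subgroupOf.2 (Subgroup.mem_inf.2 ⟨hx₂P, hx₂N⟩))
      rw [hsub S₂ S₁] at hx₂S
      have hx₁R := hmemR S₁ x₁ hx₁N hx₁S
      have hx₂R := hmemR S₁ x₂ hx₂N hx₂S
      have hR1 : R S₁ = P₁ := by
        by_contra hcon
        have h1 : (R S₁ : Subgroup G) ⊓ P₁ = D :=
          (Subgroup.eq_of_le_of_card_ge (le_inf (hDR S₁) hDP₁) (hmaxD _ _ hcon)).symm
        exact hx₁D (h1 ▸ Subgroup.mem_inf.2 ⟨hx₁R, hx₁P⟩)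
      have hR2 : R S₁ = P₂ := by
        by_contra hcon
        have h1 : (R S₁ : Subgroup G) ⊓ P₂ = D :=
          (Subgroup.eq_of_le_of_card_ge (le_inf (hDR S₁) hDP₂) (hmaxD _ _ hcon)).symm
        exact hx₂D (h1 ▸ Subgroup.mem_inf.2 ⟨hx₂R, hx₂P⟩)
      exact hne' (hR1.symm.trans hR2)
    have hdvd : p ∣ Nat.card (Sylow p N) - 1 := (Nat.modEq_iff_dvd' hpos).1 hmod.symm
    have hge : p ≤ Nat.card (Sylow p N) - 1 := Nat.le_of_dvd (by omega) hdvd
    omega
  -- counting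
  obtain ⟨c, hc⟩ : ∃ c, c = Nat.card (P : Subgroup G) - Nat.card D := ⟨_, rfl⟩
  have hDle : Nat.card D ≤ Nat.card (P : Subgroup G) := by
    rw [← hcardS P₁]; exact Subgroup.card_le_of_le hDP₁
  have hcS : ∀ S : Sylow p N, Nat.card {x : G // x ∈ R S ∧ ¬ x ∈ D} = c := by
    intro S
    have h1 := card_split (fun x : G => x ∈ R S) (fun x : G => x ∈ D) (fun x hx => hDR S hx)
    have h2 : Nat.card {x : G // x ∈ R S} = Nat.card (P : Subgroup G) := hcardS (R S)
    have h3 : Nat.card {x : G // x ∈ D} = Nat.card D := rfl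
    rw [h2, h3] at h1
    omega
  have hpelD : ∀ x : G, x ∈ D → ∃ k : ℕ, orderOf x = p ^ k :=
    fun x hx => orderOf_eq_prime_pow_of_mem_sylow P₁ x (hDP₁ hx)
  have hU := card_split (fun x : G => ∃ k : ℕ, orderOf x = p ^ k) (fun x : G => x ∈ D) hpelD
  have h3 : Nat.card {x : G // x ∈ D} = Nat.card D := rfl
  rw [h3] at hU
  let ι : (Σ S : Sylow p N, {x : G // x ∈ R S ∧ ¬ x ∈ D}) →
      {x : G // (∃ k : ℕ, orderOf x = p ^ k) ∧ ¬ x ∈ D} :=
    fun s => ⟨s.2.1, orderOf_eq_prime_pow_of_mem_sylow (R s.1) _ s.2.2.1, s.2.2.2⟩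
  have hι : Function.Injective ι := by
    rintro ⟨S, x, hx⟩ ⟨S', x', hx'⟩ h
    have hxx : x = x' := congrArg (fun z => (z.1 : G)) h
    subst hxx
    have hSS : S = S' := by
      by_contra hcon
      have := hRR S S' hcon
      exact hx.2 (this ▸ Subgroup.mem_inf.2 ⟨hx.1, hx'.1⟩)
    subst hSS
    rfl
  have hle := Nat.card_le_card_of_injective ι hι
  haveI : Fintype (Sylow p N) := Fintype.ofFinite _
  rw [Nat.card_sigma] at hle
  have hsum : ∑ S : Sylow p N, Nat.card {x : G // x ∈ R S ∧ ¬ x ∈ D} = Nat.card (Sylow p N) * c := by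
    rw [Finset.sum_congr rfl (fun S _ => hcS S), Finset.sum_const, Finset.card_univ, smul_eq_mul,
      Nat.card_eq_fintype_card]
  rw [hsum] at hle
  -- p * |D| ≤ |P|
  have hpd : p * Nat.card D ≤ Nat.card (P : Subgroup G) := by
    obtain ⟨α, hα⟩ := IsPGroup.exists_card_eq P.isPGroup'
    obtain ⟨δ, hδ⟩ := IsPGroup.exists_card_eq (P₁.isPGroup'.to_le hDP₁)
    have hlt : Nat.card D < Nat.card (P : Subgroup G) := by
      rw [← hcardS P₁]
      by_contra hcon
      exact (ne_of_lt hlt₁) (Subgroup.eq_of_le_of_card_ge hDP₁ (not_lt.1 hcon))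
    rw [hα, hδ] at hlt ⊢
    have hδα : δ < α := (Nat.pow_lt_pow_iff_right hpp.one_lt).1 hlt
    calc p * p ^ δ = p ^ (δ + 1) := by rw [pow_succ]; ring
      _ ≤ p ^ α := Nat.pow_le_pow_right hpp.pos hδα
  have hca : c + Nat.card D = Nat.card (P : Subgroup G) := by omega
  have h1 : (p + 1) * c ≤ Nat.card (Sylow p N) * c := Nat.mul_le_mul_right c hnS
  nlinarith

end Cfsg.Agent.S4092
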