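import Cfsg.Statements.S4093
import Cfsg.Agent.Lib.Lead.ConjOrbit

set_option autoImplicit false
open scoped BigOperators
open Cfsg

namespace Cfsg.Agent.S4093

open scoped Pointwise

/-- Let G be a finite group with a normal subgroup N complementing a Sylow p-subgroup P (a normal p-complement). Then the number of elements of G of p-power order equals the sum over x ∈ P of the index of C_N(x) in N. -/
theorem result {G : Type*} [Group G] [Finite G] (p : ℕ) [Fact p.Prime]
    (P : Sylow p G) (N : Subgroup G) [N.Normal] (hNP : N.IsComplement' (P : Subgroup G)) :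
    Nat.card {g : G // ∃ k : ℕ, orderOf g = p ^ k} =
      ∑ᶠ x : (P : Subgroup G), Nat.card N / Nat.card ↥(N ⊓ Subgroup.centralizer ({(x : G)} : Set G)) := by
  classical
  have : Fintype (P : Subgroup G) := Fintype.ofFinite _
  rw [finsum_eq_sum_of_fintype]
  have hO : ∀ x : (P : Subgroup G), Nat.card {g : G // ∃ n ∈ N, g = n * (x : G) * n⁻¹} =
      Nat.card N / Nat.card ↥(N ⊓ Subgroup.centralizer ({(x : G)} : Set G)) := by
    intro x
    have := Cfsg.Agent.Lib.Lead.card_orbit_conj_mul N (x : G)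
    exact (Nat.div_eq_of_eq_mul_left Nat.card_pos this.symm).symm
  simp_rw [← hO]
  rw [← Nat.card_sigma]
  apply Nat.card_congr
  symm
  have hNnorm : N.Normal := inferInstance
  have hdisj : ∀ z : G, z ∈ N → z ∈ (P : Subgroup G) → z = 1 := by
    intro z hz1 hz2
    have h := hNP.disjoint
    rw [disjoint_iff] at h
    have : z ∈ N ⊓ (P : Subgroup G) := ⟨hz1, hz2⟩
    rw [h] at this
    exact Subgroup.mem_bot.mp this
  refine Equiv.ofBijective
    (fun s : (Σ x : (P : Subgroup G), {g : G // ∃ n ∈ N, g = n * (x : G) * n⁻¹}) =>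
      (⟨s.2.1, ?_⟩ : {g : G // ∃ k : ℕ, orderOf g = p ^ k})) ⟨?_, ?_⟩
  · obtain ⟨x, g, n, hn, rfl⟩ := s
    obtain ⟨k, hk⟩ := (IsPGroup.iff_orderOf.mp P.isPGroup') x
    refine ⟨k, ?_⟩
    have h1 : orderOf (n * (x : G) * n⁻¹) = orderOf (x : G) := by
      have := (MulAut.conj n).orderOf_eq (x : G)
      simpa using this
    show orderOf (n * (x : G) * n⁻¹) = p ^ k
    rw [h1, ← hk]; exact Subgroup.orderOf_coe x
  · rintro ⟨x, g, n, hn, hg⟩ ⟨x', g', n', hn', hg'⟩ h
    have hgg : g = g' := congrArg Subtype.val h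
    have hxx : x = x' := by
      apply Subtype.ext
      have h1 : (x' : G)⁻¹ * (x : G) ∈ (P : Subgroup G) :=
        Subgroup.mul_mem _ (Subgroup.inv_mem _ x'.2) x.2
      have h2 : (x' : G)⁻¹ * (x : G) ∈ N := by
        have e : n * (x : G) * n⁻¹ = n' * (x' : G) * n'⁻¹ := by rw [← hg, ← hg', hgg]
        have hx : (x : G) = n⁻¹ * (n' * (x' : G) * n'⁻¹) * n := by rw [← e]; group
        rw [hx]
        have : (x' : G)⁻¹ * (n⁻¹ * (n' * (x' : G) * n'⁻¹) * n) =
            ((x' : G)⁻¹ * (n⁻¹ * n') * (x' : G)) * (n'⁻¹ * n) := by group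
        rw [this]
        refine N.mul_mem ?_ (N.mul_mem (N.inv_mem hn') hn)
        have := hNnorm.conj_mem (n⁻¹ * n') (N.mul_mem (N.inv_mem hn) hn') (x' : G)⁻¹
        simpa using this
      have h3 := hdisj _ h2 h1
      have : (x : G) = (x' : G) * ((x' : G)⁻¹ * (x : G)) := by group
      rw [this, h3, mul_one]
    exact Sigma.subtype_ext hxx hgg
  · rintro ⟨g, k, hk⟩
    have hpg : IsPGroup p (Subgroup.zpowers g) :=
      IsPGroup.of_card (n := k) (by rw [Nat.card_zpowers, hk])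
    obtain ⟨Q, hQ⟩ := hpg.exists_le_sylow
    obtain ⟨c, hc⟩ := MulAction.exists_smul_eq G P Q
    have hgQ : g ∈ (Q : Subgroup G) := hQ (Subgroup.mem_zpowers g)
    rw [← hc] at hgQ
    have hgQ' : g ∈ MulAut.conj c • (P : Subgroup G) := hgQ
    rw [Subgroup.mem_pointwise_smul_iff_inv_smul_mem] at hgQ'
    have hcg : c⁻¹ * g * c ∈ (P : Subgroup G) := by simpa [MulAut.smul_def] using hgQ'
    have hctop : c ∈ (N ⊔ (P : Subgroup G) : Subgroup G) := by
      rw [hNP.sup_eq_top]; trivial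
    rw [← SetLike.mem_coe, Subgroup.normal_mul] at hctop
    obtain ⟨n, hn, x0, hx0, rfl⟩ := Set.mem_mul.mp hctop
    have hxP : n⁻¹ * g * n ∈ (P : Subgroup G) := by
      have : n⁻¹ * g * n = x0 * ((n * x0)⁻¹ * g * (n * x0)) * x0⁻¹ := by group
      rw [this]
      exact Subgroup.mul_mem _ (Subgroup.mul_mem _ hx0 hcg) (Subgroup.inv_mem _ hx0)
    refine ⟨⟨⟨n⁻¹ * g * n, hxP⟩, ⟨g, n, hn, by group⟩⟩, rfl⟩

end Cfsg.Agent.S4093
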