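import Mathlib
import Cfsg.Statements.S4097
import Cfsg.Agent.S0035
import Cfsg.Agent.S0042
import Cfsg.Agent.Lib.Helper3.Radical
import Cfsg.Agent.Lib.Helper3.FStar
import Cfsg.Agent.Lib.Helper7.Conj

set_option autoImplicit false
open Cfsg
open scoped Pointwise

namespace Cfsg.Agent.S4097

universe u

/-- The hypothesis on `A`. -/
def Hyp {G : Type u} [Group G] (A : Subgroup G) : Prop :=
  ∀ S : Subgroup G, A ≤ S → Group.IsSolvable S → ∀ a ∈ A, ∀ s ∈ S, a * s = s * a

/-- Passing the hypothesis to a subgroup. -/
theorem hyp_sub {G : Type u} [Group G] {A : Subgroup G} (h : Hyp A) (H : Subgroup G) (hAH : A ≤ H) :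
    Hyp (A.subgroupOf H) := by
  intro S' hAS' hS' a ha s hs
  have hS : Group.IsSolvable ↥(S'.map H.subtype) := by
    have e : ↥S' ≃* ↥(S'.map H.subtype) := S'.equivMapOfInjective _ H.subtype_injective
    exact Group.isSolvable_of_isSolvable_injective (f := e.symm.toMonoidHom) e.symm.injective
  have hAS : A ≤ S'.map H.subtype := by
    intro x hx
    exact ⟨⟨x, hAH hx⟩, hAS' (Subgroup.mem_subgroupOf.2 hx), rfl⟩
  have := h _ hAS hS (a : G) (Subgroup.mem_subgroupOf.1 ha) (s : G) ⟨s, hs, rfl⟩
  exact Subtype.ext this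

/-- Passing the hypothesis to the quotient by the centre. -/
theorem hyp_quot {G : Type u} [Group G] {A : Subgroup G} (h : Hyp A) :
    Hyp (A.map (QuotientGroup.mk' (Subgroup.center G))) := by
  intro Sb hASb hSb a ha s hs
  have hZS : Subgroup.center G ≤ Sb.comap (QuotientGroup.mk' (Subgroup.center G)) := by
    intro z hz
    rw [Subgroup.mem_comap]
    have : (QuotientGroup.mk' (Subgroup.center G)) z = 1 := (QuotientGroup.eq_one_iff z).2 hz
    rw [this]; exact Sb.one_mem
  have hAS : A ≤ Sb.comap (QuotientGroup.mk' (Subgroup.center G)) := by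
    intro x hx
    rw [Subgroup.mem_comap]
    exact hASb ⟨x, hx, rfl⟩
  have hS : Group.IsSolvable ↥(Sb.comap (QuotientGroup.mk' (Subgroup.center G))) := by
    haveI := hSb
    haveI : Group.IsSolvable ↥(Subgroup.center G) :=
      Group.isSolvable_of_comm (fun a b => Subtype.ext ((Subgroup.mem_center_iff.1 a.2 b).symm))
    refine Group.isSolvable_of_ker_le_range (Subgroup.inclusion hZS)
      ((QuotientGroup.mk' (Subgroup.center G)).subgroupComap Sb) ?_
    intro x hx
    rw [MonoidHom.mem_ker] at hx
    have hx1 : (QuotientGroup.mk' (Subgroup.center G)) (x : G) = 1 := by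
      have := congrArg Subtype.val hx
      exact this
    have hxZ : (x : G) ∈ Subgroup.center G := (QuotientGroup.eq_one_iff _).1 hx1
    exact ⟨⟨(x : G), hxZ⟩, Subtype.ext rfl⟩
  obtain ⟨a0, ha0, rfl⟩ := ha
  obtain ⟨s0, hs0e⟩ := QuotientGroup.mk'_surjective (Subgroup.center G) s
  have hs0 : s0 ∈ Sb.comap (QuotientGroup.mk' (Subgroup.center G)) := by
    rw [Subgroup.mem_comap, hs0e]; exact hs
  have := h _ hAS hS a0 ha0 s0 hs0
  rw [← hs0e, ← map_mul, ← map_mul, this]

theorem main : ∀ (n : ℕ) (G : Type u) [Group G] [Finite G], Nat.card G = n →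
    ∀ A : Subgroup G, Group.IsSolvable A → Hyp A → A ≤ Subgroup.center G := by
  intro n
  induction n using Nat.strong_induction_on with
  | _ n ih =>
  intro G _ _ hn A hA hc
  -- the centralizer
  set C : Subgroup G := Subgroup.centralizer (A : Set G) with hCdef
  have hmemC : ∀ x : G, x ∈ C ↔ ∀ a ∈ A, a * x = x * a := fun x => Subgroup.mem_centralizer_iff
  by_cases hCtop : C = ⊤
  · intro a ha
    rw [Subgroup.mem_center_iff]
    intro g
    have : g ∈ C := by rw [hCtop]; exact Subgroup.mem_top g
    exact ((hmemC g).1 this a ha).symm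
  exfalso
  -- A is abelian
  have hAab : ∀ a ∈ A, ∀ b ∈ A, a * b = b * a := fun a ha b hb => hc A le_rfl hA a ha b hb
  have hAC : A ≤ C := fun a ha => (hmemC a).2 (fun b hb => hAab b hb a ha)
  -- (b)
  have hb : ∀ H : Subgroup G, H ≠ ⊤ → A ≤ H → H ≤ C := by
    intro H hH hAH
    have hlt : Nat.card H < Nat.card G :=
      lt_of_le_of_ne (Subgroup.card_le_card_group H) (fun h => hH ((Subgroup.card_eq_iff_eq_top H).mp h))
    have hA' : Group.IsSolvable ↥(A.subgroupOf H) := by
      have e : ↥(A.subgroupOf H) ≃* ↥A := Subgroup.subgroupOfEquivOfLe hAH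
      exact Group.isSolvable_of_isSolvable_injective (f := e.toMonoidHom) e.injective
    have := ih (Nat.card H) (hn ▸ hlt) H rfl (A.subgroupOf H) hA' (hyp_sub hc H hAH)
    intro x hx
    rw [hmemC]
    intro a ha
    have h1 : (⟨a, hAH ha⟩ : H) ∈ Subgroup.center H := this (Subgroup.mem_subgroupOf.2 ha)
    rw [Subgroup.mem_center_iff] at h1
    have := h1 ⟨x, hx⟩
    have := congrArg Subtype.val this
    simpa using this.symm
  -- (c) trivial centre
  have hZ : Subgroup.center G = ⊥ := by
    by_contra hZne
    set Z := Subgroup.center G with hZdef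
    have hlt : Nat.card (G ⧸ Z) < Nat.card G := by
      have h1 := Subgroup.card_eq_card_quotient_mul_card_subgroup Z
      have h2 : 1 < Nat.card Z := by
        rcases Nat.lt_or_ge 1 (Nat.card Z) with h | h
        · exact h
        · exfalso
          have : Nat.card Z = 1 := le_antisymm h Nat.card_pos
          exact hZne (Subgroup.card_eq_one.mp this)
      have h3 : 0 < Nat.card (G ⧸ Z) := Nat.card_pos
      nlinarith
    have hAb : Group.IsSolvable ↥(A.map (QuotientGroup.mk' Z)) := by
      haveI := hA
      exact Group.isSolvable_of_surjective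
        (f := (QuotientGroup.mk' Z).subgroupMap A) (MonoidHom.subgroupMap_surjective _ _)
    have hcen := ih _ (hn ▸ hlt) (G ⧸ Z) rfl _ hAb (hyp_quot hc)
    -- second centre
    set D : Subgroup G := (Subgroup.center (G ⧸ Z)).comap (QuotientGroup.mk' Z) with hDdef
    have hAD : A ≤ D := by
      intro a ha
      rw [hDdef, Subgroup.mem_comap]
      exact hcen ⟨a, ha, rfl⟩
    have hDn : D.Normal := by rw [hDdef]; infer_instance
    have hDD : ⁅D, D⁆ ≤ Z := by
      rw [Subgroup.commutator_le]
      intro x hx y hy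
      rw [← QuotientGroup.eq_one_iff, ← QuotientGroup.mk'_apply, map_commutatorElement]
      rw [hDdef, Subgroup.mem_comap, Subgroup.mem_center_iff] at hx
      rw [commutatorElement_eq_one_iff_mul_comm]
      exact (hx _).symm
    have hDs : Group.IsSolvable ↥D := by
      apply Cfsg.Agent.Lib.Helper3.isSolvable_of_commutator_solvable
      apply Group.isSolvable_of_comm
      intro x y
      have hx : (x : G) ∈ Z := hDD x.2
      rw [hZdef, Subgroup.mem_center_iff] at hx
      exact Subtype.ext (hx y).symm
    apply hCtop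
    rw [eq_top_iff]
    intro g _
    have hzs : Group.IsSolvable ↥(Subgroup.zpowers g) := inferInstance
    have hnorm : Subgroup.zpowers g ≤ Subgroup.normalizer (D : Set G) := by
      rw [Subgroup.normalizer_eq_top]; exact le_top
    have hsol := Cfsg.Agent.Lib.Helper3.solvable_sup_of_le_normalizer hDs hzs hnorm
    rw [hmemC]
    intro a ha
    exact hc _ (hAD.trans le_sup_left) hsol a ha g
      (le_sup_right (a := D) (Subgroup.mem_zpowers g))
  -- (N) C is self-normalizing
  have hN : ∀ g : G, g ∈ Subgroup.normalizer (C : Set G) → g ∈ C := by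
    intro g hg
    set B : Subgroup G := C ⊓ Subgroup.centralizer (C : Set G) with hBdef
    have hAB : A ≤ B := by
      intro a ha
      refine Subgroup.mem_inf.2 ⟨hAC ha, ?_⟩
      rw [Subgroup.mem_centralizer_iff]
      intro c hc'
      exact ((hmemC c).1 hc' a ha).symm
    have hBs : Group.IsSolvable ↥B := by
      apply Group.isSolvable_of_comm
      intro x y
      have hx := (Subgroup.mem_inf.1 x.2).2
      have hy := (Subgroup.mem_inf.1 y.2).1
      rw [Subgroup.mem_centralizer_iff] at hx
      exact Subtype.ext (hx y hy).symm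
    have key : ∀ g : G, g ∈ Subgroup.normalizer (C : Set G) → ∀ n ∈ B, g * n * g⁻¹ ∈ B := by
      intro g hg n hn'
      rw [Subgroup.mem_normalizer_iff] at hg
      obtain ⟨hn1, hn2⟩ := Subgroup.mem_inf.1 hn'
      refine Subgroup.mem_inf.2 ⟨(hg n).1 hn1, ?_⟩
      rw [Subgroup.mem_centralizer_iff] at hn2 ⊢
      intro c hc'
      have hc'' : g⁻¹ * c * g ∈ C := by
        rw [hg (g⁻¹ * c * g)]
        simpa [mul_assoc] using hc'
      have h := hn2 _ hc''
      calc c * (g * n * g⁻¹) = g * (g⁻¹ * c * g * n) * g⁻¹ := by group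
        _ = g * (n * (g⁻¹ * c * g)) * g⁻¹ := by rw [h]
        _ = g * n * g⁻¹ * c := by group
    have hgB : g ∈ Subgroup.normalizer (B : Set G) := by
      rw [Subgroup.mem_normalizer_iff]
      intro n
      constructor
      · exact key g hg n
      · intro h
        have := key g⁻¹ (Subgroup.inv_mem _ hg) _ h
        simpa [mul_assoc] using this
    have hnorm : Subgroup.zpowers g ≤ Subgroup.normalizer (B : Set G) :=
      (Subgroup.zpowers_le).2 hgB
    have hzs : Group.IsSolvable ↥(Subgroup.zpowers g) := inferInstance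
    have hsol := Cfsg.Agent.Lib.Helper3.solvable_sup_of_le_normalizer hBs hzs hnorm
    rw [hmemC]
    intro a ha
    exact hc _ (hAB.trans le_sup_left) hsol a ha g
      (le_sup_right (a := B) (Subgroup.mem_zpowers g))
  -- C ≠ ⊥
  have hCbot : C ≠ ⊥ := by
    intro h
    apply hCtop
    rw [eq_top_iff]
    intro g _
    rw [hmemC]
    intro a ha
    have : a ∈ C := hAC ha
    rw [h, Subgroup.mem_bot] at this
    rw [this, one_mul, mul_one]
  -- (d) Frobenius complement
  have hF : Cfsg.IsFrobeniusComplement C := by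
    refine ⟨hCbot, hCtop, ?_⟩
    intro g hg
    rw [eq_bot_iff]
    intro x hx
    obtain ⟨hx1, hx2⟩ := Subgroup.mem_inf.1 hx
    rw [Cfsg.Agent.Lib.Helper7.mem_conj_smul] at hx2
    rw [Subgroup.mem_bot]
    set K : Subgroup G := Subgroup.centralizer ({x} : Set G) with hKdef
    have hAK : A ≤ K := by
      intro a ha
      rw [hKdef, Subgroup.mem_centralizer_iff]
      intro y hy
      rw [Set.mem_singleton_iff] at hy
      rw [hy]
      exact ((hmemC x).1 hx1 a ha).symm
    by_cases hK : K = ⊤
    · have : x ∈ Subgroup.center G := by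
        rw [Subgroup.mem_center_iff]
        intro y
        have hy : y ∈ K := by rw [hK]; exact Subgroup.mem_top y
        rw [hKdef, Subgroup.mem_centralizer_iff] at hy
        exact (hy x rfl).symm
      rw [hZ, Subgroup.mem_bot] at this
      exact this
    · exfalso
      have hKC : K ≤ C := hb K hK hAK
      have hconj : ∀ a ∈ A, g * a * g⁻¹ ∈ C := by
        intro a ha
        apply hKC
        rw [hKdef, Subgroup.mem_centralizer_iff]
        intro y hy
        rw [Set.mem_singleton_iff] at hy
        rw [hy]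
        have h := (hmemC _).1 hx2 a ha
        calc x * (g * a * g⁻¹) = g * (g⁻¹ * x * g * a) * g⁻¹ := by group
          _ = g * (a * (g⁻¹ * x * g)) * g⁻¹ := by rw [h]
          _ = g * a * g⁻¹ * x := by group
      set H : Subgroup G := C.map (MulAut.conj g⁻¹).toMonoidHom with hHdef
      have hmemH : ∀ y, y ∈ H ↔ g * y * g⁻¹ ∈ C := by
        intro y
        rw [hHdef, Cfsg.Agent.Lib.Helper7.mem_map_conj, inv_inv]
      have hcardH : Nat.card H = Nat.card C := Cfsg.Agent.Lib.Helper7.card_map_conj C g⁻¹
      have hAH : A ≤ H := fun a ha => (hmemH a).2 (hconj a ha)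
      have hHtop : H ≠ ⊤ := by
        intro h
        apply hCtop
        rw [← Subgroup.card_eq_iff_eq_top, ← hcardH, h, Subgroup.card_top]
      have hHC : H ≤ C := hb H hHtop hAH
      have hHeq : H = C := Subgroup.eq_of_le_of_card_ge hHC (le_of_eq hcardH.symm)
      have hginv : g⁻¹ ∈ Subgroup.normalizer (C : Set G) :=
        (Cfsg.Agent.Lib.Helper7.map_conj_eq_self_iff C g⁻¹).1 hHeq
      have : g ∈ Subgroup.normalizer (C : Set G) := by
        have := Subgroup.inv_mem _ hginv
        simpa using this
      exact hg (hN g this)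
  -- Frobenius kernel
  obtain ⟨N, hNk, hNn, hNnil⟩ := Cfsg.Agent.S0042.result C hF
  obtain ⟨N', hNk', hNn', hNc⟩ := Cfsg.Agent.S0035.result C hF
  have hNN : N' = N := SetLike.coe_injective (hNk'.trans hNk.symm)
  subst hNN
  have hNs : Group.IsSolvable ↥N' := by
    haveI := hNnil
    infer_instance
  have hnorm : A ≤ Subgroup.normalizer (N' : Set G) := by
    rw [Subgroup.normalizer_eq_top]; exact le_top
  have hsol := Cfsg.Agent.Lib.Helper3.solvable_sup_of_le_normalizer hNs hA hnorm
  have hNC : N' ≤ C := by
    intro x hx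
    rw [hmemC]
    intro a ha
    exact hc _ le_sup_right hsol a ha x (le_sup_left (b := A) hx)
  have hNbot : N' = ⊥ := by
    rw [eq_bot_iff]
    intro x hx
    have := hNc.disjoint.le_bot (Subgroup.mem_inf.2 ⟨hx, hNC hx⟩)
    exact this
  have hcard := hNc.card_mul_card
  rw [hNbot, Subgroup.card_bot, one_mul] at hcard
  exact hCtop ((Subgroup.card_eq_iff_eq_top C).1 hcard)

/-- Let A be a solvable subgroup of a finite group G such that A lies in the centre of every solvable subgroup of G containing A. Then A lies in the centre of G. -/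
theorem result {G : Type*} [Group G] [Finite G]
    (A : Subgroup G) (hA : Group.IsSolvable A)
    (hc : ∀ S : Subgroup G, A ≤ S → Group.IsSolvable S → ∀ a ∈ A, ∀ s ∈ S, a * s = s * a) : A ≤ Subgroup.center G := by
  exact main _ G rfl A hA hc

end Cfsg.Agent.S4097
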