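import Mathlib
import Cfsg.Statements.S4106

set_option autoImplicit false
open Cfsg

namespace Cfsg.Agent.S4106

universe u

theorem elt_decomp {X : Type*} [Group X] [Finite X] (p : ℕ) [hp : Fact p.Prime] (x : X) :
    ∃ y z : X, y * z = x ∧ y * z = z * y ∧ (∃ e : ℕ, y ^ (p ^ e) = 1) ∧
      (orderOf z).Coprime p ∧ orderOf z ∣ orderOf x := by
  obtain ⟨e, r, hr, hn⟩ := Nat.exists_eq_pow_mul_and_not_dvd (orderOf_pos x).ne' p hp.out.ne_one
  have hcop : Nat.Coprime (p ^ e) r :=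
    Nat.Coprime.pow_left e ((Nat.Prime.coprime_iff_not_dvd hp.out).2 hr)
  obtain ⟨k, hk1, hk2⟩ := Nat.chineseRemainder hcop 1 0
  obtain ⟨l, hl1, hl2⟩ := Nat.chineseRemainder hcop 0 1
  refine ⟨x ^ k, x ^ l, ?_, ?_, ⟨e, ?_⟩, ?_, ?_⟩
  · rw [← pow_add]
    have : k + l ≡ 1 [MOD orderOf x] := by
      rw [hn]
      apply (Nat.modEq_and_modEq_iff_modEq_mul hcop).1
      constructor
      · have := hk1.add hl1; simpa using this
      · have := hk2.add hl2; simpa using this
    calc x ^ (k + l) = x ^ 1 := pow_eq_pow_iff_modEq.2 this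
      _ = x := pow_one x
  · rw [← pow_add, ← pow_add, add_comm]
  · rw [← pow_mul]
    apply orderOf_dvd_iff_pow_eq_one.1
    rw [hn]
    have : r ∣ k := (Nat.modEq_zero_iff_dvd).1 hk2
    rw [mul_comm k]
    exact Nat.mul_dvd_mul_left _ this
  · have h1 : (x ^ l) ^ r = 1 := by
      rw [← pow_mul]
      apply orderOf_dvd_iff_pow_eq_one.1
      rw [hn]
      have : p ^ e ∣ l := (Nat.modEq_zero_iff_dvd).1 hl1
      exact Nat.mul_dvd_mul this (dvd_refl r)
    have h2 : orderOf (x ^ l) ∣ r := orderOf_dvd_of_pow_eq_one h1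
    exact Nat.Coprime.coprime_dvd_left h2 ((Nat.Prime.coprime_iff_not_dvd hp.out).2 hr).symm
  · exact orderOf_pow_dvd l

theorem main : ∀ (m : ℕ) (X : Type u) [Group X] [Finite X] (π : Set ℕ),
    m ∣ Nat.card X → (∀ q : ℕ, q.Prime → q ∣ m → q ∈ π) →
    (∀ q ∈ π, q.Prime → ¬ q ∣ Nat.card X / m) →
    Nat.card {C : ConjClasses X // ∀ q : ℕ, q.Prime →
      (∃ g : X, ConjClasses.mk g = C ∧ q ∣ orderOf g) → q ∈ π} ≤ m := by
  intro m
  induction m using Nat.strong_induction_on with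
  | _ m ih =>
  intro X _ _ π hm hmπ hm'
  classical
  have hm0 : m ≠ 0 := by
    rintro rfl
    rw [zero_dvd_iff] at hm
    exact Nat.card_pos.ne' hm
  by_cases hm1 : m = 1
  · subst hm1
    have key : ∀ (E : ConjClasses X), (∀ q : ℕ, q.Prime →
        (∃ g : X, ConjClasses.mk g = E ∧ q ∣ orderOf g) → q ∈ π) → E = ConjClasses.mk 1 := by
      intro E hE
      obtain ⟨g, rfl⟩ := ConjClasses.mk_surjective E
      have : orderOf g = 1 := by
        by_contra hne
        obtain ⟨q, hq, hqd⟩ := Nat.exists_prime_and_dvd hne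
        have hqπ := hE q hq ⟨g, rfl, hqd⟩
        apply hm' q hqπ hq
        rw [Nat.div_one]
        exact hqd.trans (orderOf_dvd_natCard g)
      rw [orderOf_eq_one_iff.1 this]
    have : Subsingleton {C : ConjClasses X // ∀ q : ℕ, q.Prime →
        (∃ g : X, ConjClasses.mk g = C ∧ q ∣ orderOf g) → q ∈ π} := by
      constructor
      rintro ⟨C, hC⟩ ⟨D, hD⟩
      apply Subtype.ext
      show C = D
      rw [key C hC, key D hD]
    exact Finite.card_le_one_iff_subsingleton.2 this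
  obtain ⟨p, hp, hpm⟩ := Nat.exists_prime_and_dvd hm1
  haveI : Fact p.Prime := ⟨hp⟩
  have hpπ : p ∈ π := hmπ p hp hpm
  obtain ⟨P⟩ : Nonempty (Sylow p X) := inferInstance
  obtain ⟨a, ha⟩ := IsPGroup.exists_card_eq P.isPGroup'
  have hidx : ¬ p ∣ (P : Subgroup X).index := P.not_dvd_index
  have hN : Nat.card X = p ^ a * (P : Subgroup X).index := by
    rw [← ha]; exact (Subgroup.card_mul_index _).symm
  obtain ⟨t, ht⟩ := hm
  have htdiv : Nat.card X / m = t := by
    rw [ht]; exact Nat.mul_div_cancel_left t (Nat.pos_of_ne_zero hm0)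
  have hpt : ¬ p ∣ t := by rw [← htdiv]; exact hm' p hpπ hp
  have hpam : p ^ a ∣ m := by
    have h1 : p ^ a ∣ m * t := by rw [← ht, hN]; exact dvd_mul_right _ _
    exact (Nat.Coprime.pow_left a ((Nat.Prime.coprime_iff_not_dvd hp).2 hpt)).dvd_of_dvd_mul_right h1
  obtain ⟨m', hm'def⟩ := hpam
  have hpm' : ¬ p ∣ m' := by
    intro h
    obtain ⟨m'', rfl⟩ := h
    have : (P : Subgroup X).index = p * m'' * t := by
      have h2 : p ^ a * (P : Subgroup X).index = p ^ a * (p * m'' * t) := by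
        rw [← hN, ht, hm'def]; ring
      exact Nat.eq_of_mul_eq_mul_left (pow_pos hp.pos a) h2
    exact hidx ⟨m'' * t, by rw [this]; ring⟩
  have ha1 : 1 ≤ a := by
    by_contra h
    have : a = 0 := by omega
    subst this
    rw [pow_zero, one_mul] at hm'def
    exact hpm' (hm'def ▸ hpm)
  have hm'pos : 0 < m' := Nat.pos_of_ne_zero (by
    rintro rfl
    rw [mul_zero] at hm'def
    exact hm0 hm'def)
  have hm'lt : m' < m := by
    rw [hm'def]
    have : 2 ≤ p ^ a := le_trans hp.two_le (Nat.le_self_pow (by omega) p)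
    nlinarith
  obtain ⟨π', hπ'⟩ : ∃ π' : Set ℕ, π' = π \ {p} := ⟨_, rfl⟩
  -- the bound for centralizers
  have hcent : ∀ u : X, Nat.card {C : ConjClasses (Subgroup.centralizer ({u} : Set X)) //
      ∀ q : ℕ, q.Prime → (∃ g, ConjClasses.mk g = C ∧ q ∣ orderOf g) → q ∈ π'} ≤ m' := by
    intro u
    obtain ⟨c, hc⟩ : ∃ c, c = Nat.card (Subgroup.centralizer ({u} : Set X)) := ⟨_, rfl⟩
    obtain ⟨g, hg⟩ : ∃ g, g = Nat.gcd c m' := ⟨_, rfl⟩
    have hg_le : g ≤ m' := Nat.le_of_dvd hm'pos (hg ▸ Nat.gcd_dvd_right _ _)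
    have hgc : g ∣ c := hg ▸ Nat.gcd_dvd_left _ _
    have hgm : g ∣ m' := hg ▸ Nat.gcd_dvd_right _ _
    refine le_trans (ih g (lt_of_le_of_lt hg_le hm'lt) (Subgroup.centralizer ({u} : Set X)) π'
      (hc ▸ hgc) ?_ ?_) hg_le
    · intro q hq hqg
      have hqm' : q ∣ m' := hqg.trans hgm
      rw [hπ']
      refine ⟨hmπ q hq (hqm'.trans ⟨p ^ a, by rw [hm'def]; ring⟩), ?_⟩
      intro hqp
      rw [Set.mem_singleton_iff] at hqp
      subst hqp
      exact hpm' hqm'
    · intro q hqπ' hq hqd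
      rw [← hc] at hqd
      rw [hπ'] at hqπ'
      obtain ⟨hqπ, hqp⟩ := hqπ'
      have hqp' : q ≠ p := by simpa using hqp
      have hgpos : 0 < g := hg ▸ Nat.gcd_pos_of_pos_right _ hm'pos
      have hcop : Nat.Coprime (c / g) (m' / g) := by
        rw [hg]; exact Nat.coprime_div_gcd_div_gcd (hg ▸ hgpos)
      have hcN : c ∣ Nat.card X := hc ▸ Subgroup.card_subgroup_dvd_card _
      have hc_eq : c = g * (c / g) := (Nat.mul_div_cancel' hgc).symm
      have hm_eq : m' = g * (m' / g) := (Nat.mul_div_cancel' hgm).symm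
      have h1 : c / g ∣ p ^ a * (m' / g) * t := by
        have h2 : g * (c / g) ∣ g * (p ^ a * (m' / g) * t) := by
          rw [← hc_eq]
          have : g * (p ^ a * (m' / g) * t) = Nat.card X := by
            rw [ht, hm'def]
            calc g * (p ^ a * (m' / g) * t) = p ^ a * (g * (m' / g)) * t := by ring
              _ = p ^ a * m' * t := by rw [← hm_eq]
          rw [this]; exact hcN
        exact (Nat.mul_dvd_mul_iff_left hgpos).1 h2
      have h3 : q ∣ p ^ a * (m' / g) * t := hqd.trans h1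
      rcases (Nat.Prime.dvd_mul hq).1 h3 with h4 | h4
      · rcases (Nat.Prime.dvd_mul hq).1 h4 with h5 | h5
        · exact hqp' ((Nat.prime_dvd_prime_iff_eq hq hp).1 (hq.dvd_of_dvd_pow h5))
        · exact Nat.not_coprime_of_dvd_of_dvd hq.one_lt hqd h5 hcop
      · exact hm' q hqπ hq (htdiv ▸ h4)
  -- the relation between classes
  let T : ↥(P : Subgroup X) → Type u := fun u =>
    {C : ConjClasses (Subgroup.centralizer ({(u : X)} : Set X)) //
      ∀ q : ℕ, q.Prime → (∃ g, ConjClasses.mk g = C ∧ q ∣ orderOf g) → q ∈ π'}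
  have hA : ∀ D : {C : ConjClasses X // ∀ q : ℕ, q.Prime →
      (∃ g : X, ConjClasses.mk g = C ∧ q ∣ orderOf g) → q ∈ π},
      ∃ s : (Σ u : (P : Subgroup X), T u),
        ∃ v : Subgroup.centralizer ({(s.1 : X)} : Set X), ConjClasses.mk v = s.2.1 ∧
          ConjClasses.mk ((s.1 : X) * (v : X)) = D.1 := by
    rintro ⟨E, hE⟩
    obtain ⟨x, rfl⟩ := ConjClasses.mk_surjective E
    obtain ⟨y, z, hyz, hcomm, ⟨e, hye⟩, hzcop, hzdvd⟩ := elt_decomp p x
    -- conjugate y into P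
    have hypg : IsPGroup p (Subgroup.zpowers y) := by
      apply IsPGroup.of_card (n := (Nat.factorization (orderOf y)) p)
      rw [Nat.card_zpowers]
      have hd : orderOf y ∣ p ^ e := orderOf_dvd_of_pow_eq_one hye
      obtain ⟨j, _, hj⟩ := (Nat.dvd_prime_pow hp).1 hd
      rw [hj, Nat.Prime.factorization_pow hp]
      simp
    obtain ⟨Q, hQ⟩ := hypg.exists_le_sylow
    obtain ⟨h, hh⟩ := MulAction.exists_smul_eq X Q P
    have hyP : h * y * h⁻¹ ∈ (P : Subgroup X) := by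
      rw [← hh, Sylow.coe_subgroup_smul, Subgroup.mem_pointwise_smul_iff_inv_smul_mem]
      have : (MulAut.conj h)⁻¹ • (h * y * h⁻¹) = y := by
        simp [MulAut.smul_def, mul_assoc]
      rw [this]; exact hQ (Subgroup.mem_zpowers y)
    have hzC : h * z * h⁻¹ ∈ Subgroup.centralizer ({h * y * h⁻¹} : Set X) := by
      rw [Subgroup.mem_centralizer_singleton_iff]
      calc h * z * h⁻¹ * (h * y * h⁻¹) = h * (z * y) * h⁻¹ := by group
        _ = h * (y * z) * h⁻¹ := by rw [hcomm]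
        _ = h * y * h⁻¹ * (h * z * h⁻¹) := by group
    have hCπ : ∀ q : ℕ, q.Prime → (∃ g, ConjClasses.mk g =
        ConjClasses.mk (⟨h * z * h⁻¹, hzC⟩ : Subgroup.centralizer ({h * y * h⁻¹} : Set X)) ∧
        q ∣ orderOf g) → q ∈ π' := by
      rintro q hq ⟨g, hg1, hg2⟩
      rw [ConjClasses.mk_eq_mk_iff_isConj, isConj_iff] at hg1
      obtain ⟨c, hc⟩ := hg1
      have ho : orderOf g = orderOf z := by
        have h1 : orderOf (c * g * c⁻¹) = orderOf g := (MulAut.conj c).orderOf_eq g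
        rw [← h1, hc, ← Subgroup.orderOf_coe]
        exact (MulAut.conj h).orderOf_eq z
      rw [ho] at hg2
      rw [hπ']
      refine ⟨hE q hq ⟨x, rfl, hg2.trans hzdvd⟩, ?_⟩
      intro hqp
      rw [Set.mem_singleton_iff] at hqp
      subst hqp
      exact (Nat.Prime.coprime_iff_not_dvd hq).1 hzcop.symm hg2
    refine ⟨⟨⟨h * y * h⁻¹, hyP⟩, ⟨ConjClasses.mk ⟨h * z * h⁻¹, hzC⟩, hCπ⟩⟩,
      ⟨h * z * h⁻¹, hzC⟩, rfl, ?_⟩
    show ConjClasses.mk (h * y * h⁻¹ * (h * z * h⁻¹)) = ConjClasses.mk x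
    rw [ConjClasses.mk_eq_mk_iff_isConj, isConj_iff]
    refine ⟨h⁻¹, ?_⟩
    rw [← hyz]; group
  choose f hf using hA
  have hinj : Function.Injective f := by
    intro D D' hDD'
    obtain ⟨v, hv1, hv2⟩ := hf D
    obtain ⟨v', hv1', hv2'⟩ := hf D'
    apply Subtype.ext
    rw [← hv2, ← hv2']
    -- transport along hDD'
    revert v' hv1' hv2'
    rw [← hDD']
    intro v' hv1' hv2'
    rw [← hv1', ConjClasses.mk_eq_mk_iff_isConj, isConj_iff] at hv1
    obtain ⟨c, hc⟩ := hv1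
    rw [ConjClasses.mk_eq_mk_iff_isConj, isConj_iff]
    refine ⟨(c : X), ?_⟩
    have hcu : ((f D).1 : X) * (c : X) = (c : X) * ((f D).1 : X) :=
      (Subgroup.mem_centralizer_singleton_iff.1 c.2).symm
    have hc' : (c : X) * (v : X) * (c : X)⁻¹ = (v' : X) := by
      have := congrArg (Subtype.val) hc
      simpa using this
    rw [← hc']
    calc (c : X) * (((f D).1 : X) * (v : X)) * (c : X)⁻¹
        = ((c : X) * ((f D).1 : X)) * (v : X) * (c : X)⁻¹ := by group
      _ = (((f D).1 : X) * (c : X)) * (v : X) * (c : X)⁻¹ := by rw [hcu]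
      _ = ((f D).1 : X) * ((c : X) * (v : X) * (c : X)⁻¹) := by group
  haveI : Fintype (P : Subgroup X) := Fintype.ofFinite _
  calc Nat.card {C : ConjClasses X // ∀ q : ℕ, q.Prime →
      (∃ g : X, ConjClasses.mk g = C ∧ q ∣ orderOf g) → q ∈ π}
      ≤ Nat.card (Σ u : (P : Subgroup X), T u) := Nat.card_le_card_of_injective f hinj
    _ = ∑ u : (P : Subgroup X), Nat.card (T u) := Nat.card_sigma
    _ ≤ ∑ _u : (P : Subgroup X), m' := Finset.sum_le_sum (fun u _ => hcent (u : X))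
    _ = Nat.card (P : Subgroup X) * m' := by
      rw [Finset.sum_const, Finset.card_univ, smul_eq_mul, Nat.card_eq_fintype_card]
    _ = m := by rw [ha, hm'def]

theorem result {G : Type*} [Group G] [Finite G]
    (π : Set ℕ) (hπ : ∀ q ∈ π, q.Prime)
    (m : ℕ) (hm : m ∣ Nat.card G) (hmπ : ∀ q : ℕ, q.Prime → q ∣ m → q ∈ π)
    (hm' : ∀ q ∈ π, ¬ q ∣ Nat.card G / m) :
    Nat.card {C : ConjClasses G // ∀ q : ℕ, q.Prime → (∃ g : G, ConjClasses.mk g = C ∧ q ∣ orderOf g) → q ∈ π} ≤ m := by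
  exact main m G π hm hmπ (fun q hq _ => hm' q hq)

end Cfsg.Agent.S4106
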