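import Mathlib
import Cfsg.Statements.S4107
import Cfsg.Agent.Lib.Helper7.NilpotentSylow
import Cfsg.Agent.Lib.Helper7.PCore

set_option autoImplicit false
open Cfsg

namespace Cfsg.Agent.S4107

open Cfsg.Agent.Lib.Helper7

/-- if some normal `p`-subgroup is not contained in `N`, then `N` is a `p`-group -/
theorem isPGroup_of_normal_pgroup_not_le {G : Type*} [Group G] [Finite G] (N : Subgroup G)
    [N.Normal] (heq : ∀ x : G, x ∉ N → ∀ n ∈ N, orderOf (x * n) = orderOf x)
    {p : ℕ} [Fact p.Prime] (R : Subgroup G) [R.Normal] (hR : IsPGroup p R) (hRN : ¬ R ≤ N) :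
    IsPGroup p N := by
  obtain ⟨x, hxR, hxN⟩ := SetLike.not_le_iff_exists.1 hRN
  obtain ⟨k, hk⟩ := hR ⟨x, hxR⟩
  have hxk : x ^ (p ^ k) = 1 := by simpa using congrArg Subtype.val hk
  intro n
  have h1 : orderOf (x * (n : G)) = orderOf x := heq x hxN n n.2
  have h2 : (x * (n : G)) ^ (p ^ k) = 1 := by
    apply orderOf_dvd_iff_pow_eq_one.1
    rw [h1]; exact orderOf_dvd_of_pow_eq_one hxk
  have h3 : (n : G) ^ (p ^ k) ∈ R := by
    rw [← QuotientGroup.eq_one_iff]
    have h4 : ((x * (n : G) : G) : G ⧸ R) = ((n : G) : G ⧸ R) := by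
      rw [QuotientGroup.mk_mul, (QuotientGroup.eq_one_iff x).2 hxR, one_mul]
    rw [QuotientGroup.mk_pow, ← h4, ← QuotientGroup.mk_pow, h2, QuotientGroup.mk_one]
  obtain ⟨j, hj⟩ := hR ⟨_, h3⟩
  have hj' : ((n : G) ^ (p ^ k)) ^ (p ^ j) = 1 := by simpa using congrArg Subtype.val hj
  refine ⟨k + j, ?_⟩
  apply Subtype.ext
  rw [pow_add, pow_mul]
  simpa using hj'

theorem exists_normal_pgroup_not_le {G : Type*} [Group G] [Finite G] (N M : Subgroup G)
    [hMn : M.Normal] (hM : Group.IsNilpotent M) (hMN : ¬ M ≤ N) :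
    ∃ (q : ℕ) (_ : Fact q.Prime) (R : Subgroup G), R.Normal ∧ IsPGroup q R ∧ ¬ R ≤ N := by
  by_contra hcon
  push Not at hcon
  apply hMN
  have : N.subgroupOf M = ⊤ := by
    apply eq_top_of_forall_sylow_le
    intro q hq
    obtain ⟨Q⟩ : Nonempty (Sylow q ↥M) := inferInstance
    refine ⟨Q, ?_⟩
    haveI := hM
    haveI : (Q : Subgroup ↥M).Characteristic := Q.characteristic_of_normal inferInstance
    have h1 := hcon q hq ((Q : Subgroup ↥M).map M.subtype) inferInstance (Q.2.map _)
    intro y hy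
    rw [Subgroup.mem_subgroupOf]
    exact h1 ⟨y, hy, rfl⟩
  exact Subgroup.subgroupOf_eq_top.1 this

theorem eq_bot_of_two_primes {G : Type*} [Group G] [Finite G] {d p : ℕ} (hd : d.Prime)
    (hp : p.Prime) (hdp : d ≠ p) (R : Subgroup G) (hRd : IsPGroup d R) (hRp : IsPGroup p R) :
    R = ⊥ := by
  haveI := Fact.mk hd
  haveI := Fact.mk hp
  obtain ⟨a, ha⟩ := IsPGroup.iff_card.1 hRd
  obtain ⟨b, hb⟩ := IsPGroup.iff_card.1 hRp
  rcases Nat.eq_zero_or_pos a with rfl | hapos
  · rw [pow_zero] at ha; exact Subgroup.card_eq_one.1 ha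
  · exfalso
    have : d ∣ p ^ b := by
      rw [← hb, ha]; exact dvd_pow_self d (Nat.pos_iff_ne_zero.1 hapos)
    exact hdp ((Nat.prime_dvd_prime_iff_eq hd hp).1 (hd.dvd_of_dvd_pow this))

/-- Let G be a finite group and N a proper non-trivial normal subgroup such that for every x outside N all elements of the coset xN have the same order as x. Then N ≤ F(G) or F(G) ≤ N, where F(G) is the Fitting subgroup; and if N is properly contained in F(G) then F(G) has prime-power order. -/
theorem result {G : Type*} [Group G] [Finite G] (N : Subgroup G) [N.Normal] (hN1 : N ≠ ⊥) (hN2 : N ≠ ⊤)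
    (heq : ∀ x : G, x ∉ N → ∀ n ∈ N, orderOf (x * n) = orderOf x) :
    (N ≤ Cfsg.fittingSubgroup G ∨ Cfsg.fittingSubgroup G ≤ N) ∧
    (N < Cfsg.fittingSubgroup G → IsPrimePow (Nat.card (Cfsg.fittingSubgroup G))) := by
  have hF : ¬ fittingSubgroup G ≤ N → ∃ (q : ℕ) (_ : Fact q.Prime), IsPGroup q N := by
    intro hFN
    have : ∃ M : Subgroup G, (M.Normal ∧ Group.IsNilpotent M) ∧ ¬ M ≤ N := by
      by_contra hcon
      push Not at hcon
      apply hFN
      unfold fittingSubgroup
      apply sSup_le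
      intro M hM
      exact hcon M hM
    obtain ⟨M, ⟨hMn, hMnil⟩, hMN⟩ := this
    haveI := hMn
    obtain ⟨q, hq, R, hRn, hRq, hRN⟩ := exists_normal_pgroup_not_le N M hMnil hMN
    haveI := hRn
    exact ⟨q, hq, isPGroup_of_normal_pgroup_not_le N heq R hRq hRN⟩
  constructor
  · by_cases hFN : fittingSubgroup G ≤ N
    · exact Or.inr hFN
    · left
      obtain ⟨q, hq, hNq⟩ := hF hFN
      unfold fittingSubgroup
      exact le_sSup ⟨inferInstance, hNq.isNilpotent⟩
  · intro hlt
    have hFN : ¬ fittingSubgroup G ≤ N := not_le_of_gt hlt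
    obtain ⟨p, hp, hNp⟩ := hF hFN
    have hall : ∀ M : Subgroup G, M.Normal → Group.IsNilpotent M → IsPGroup p M := by
      intro M hMn hMnil
      haveI := hMn
      have hprime : ∀ {d : ℕ}, d.Prime → d ∣ Nat.card M → d = p := by
        intro d hd hdM
        by_contra hdp
        haveI := Fact.mk hd
        obtain ⟨Q⟩ : Nonempty (Sylow d ↥M) := inferInstance
        haveI := hMnil
        haveI : (Q : Subgroup ↥M).Characteristic := Q.characteristic_of_normal inferInstance
        have hRd : IsPGroup d ((Q : Subgroup ↥M).map M.subtype) := Q.2.map _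
        have hRne : (Q : Subgroup ↥M).map M.subtype ≠ ⊥ := by
          intro h
          have : (Q : Subgroup ↥M) = ⊥ := by
            rw [← Subgroup.map_eq_bot_iff_of_injective _ M.subtype_injective]
            exact h
          exact Q.ne_bot_of_dvd_card hdM this
        by_cases hRN : (Q : Subgroup ↥M).map M.subtype ≤ N
        · exact hRne (eq_bot_of_two_primes hd hp.out hdp _ hRd (hNp.to_le hRN))
        · have hNd := isPGroup_of_normal_pgroup_not_le N heq _ hRd hRN
          exact hN1 (eq_bot_of_two_primes hd hp.out hdp _ hNd hNp)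
      have := Nat.eq_prime_pow_of_unique_prime_dvd (Nat.card_pos.ne') hprime
      exact IsPGroup.of_card this
    have hFp : IsPGroup p (fittingSubgroup G) := by
      apply (pCore_isPGroup (p := p) (G := G)).to_le
      unfold fittingSubgroup
      apply sSup_le
      rintro M ⟨hMn, hMnil⟩
      exact le_pCore M hMn (hall M hMn hMnil)
    obtain ⟨k, hk⟩ := IsPGroup.iff_card.1 hFp
    rw [hk]
    apply (Nat.Prime.isPrimePow hp.out).pow
    rintro rfl
    rw [pow_zero] at hk
    have : fittingSubgroup G = ⊥ := Subgroup.card_eq_one.1 hk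
    rw [this] at hlt
    exact not_lt_bot hlt

end Cfsg.Agent.S4107
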