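import Cfsg.Statements.S4108

set_option autoImplicit false
open Cfsg

namespace Cfsg.Agent.S4108

open scoped Pointwise

/-- Let G be a finite group, p a prime and N a proper non-trivial normal p-subgroup such that for every x outside N all elements of the coset xN have the same order as x. Then every non-trivial subgroup H of G of order prime to p acts fixed-point-freely on N: NH is a Frobenius group with complement H and kernel N. -/
theorem result {G : Type*} [Group G] [Finite G] (N : Subgroup G) [N.Normal] (hN1 : N ≠ ⊥) (hN2 : N ≠ ⊤)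
    (heq : ∀ x : G, x ∉ N → ∀ n ∈ N, orderOf (x * n) = orderOf x)
    (p : ℕ) [Fact p.Prime] (hNp : IsPGroup p N) :
    ∀ H : Subgroup G, H ≠ ⊥ → (Nat.card H).Coprime p →
      Cfsg.IsFrobeniusComplement (H.subgroupOf (N ⊔ H)) ∧ Cfsg.frobeniusKernel (H.subgroupOf (N ⊔ H)) = (N.subgroupOf (N ⊔ H) : Set ↥(N ⊔ H)) := by
  classical
  intro H hH1 hHp
  have hNnorm : N.Normal := inferInstance
  -- N ⊓ H = ⊥
  have hNH : N ⊓ H = ⊥ := by
    rw [← disjoint_iff]
    apply Subgroup.disjoint_of_coprime_natCard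
    obtain ⟨k, hk⟩ := (IsPGroup.iff_card.mp hNp)
    rw [hk]
    exact (Nat.Coprime.pow_left k hHp.symm)
  have hNHone : ∀ z : G, z ∈ N → z ∈ H → z = 1 := by
    intro z hz1 hz2
    have : z ∈ N ⊓ H := ⟨hz1, hz2⟩
    rw [hNH] at this
    exact Subgroup.mem_bot.mp this
  -- key lemma (C)
  have hC : ∀ n ∈ N, ∀ y ∈ H, y ≠ 1 → n * y = y * n → n = 1 := by
    intro n hn y hy hy1 hcomm
    have hyN : y ∉ N := fun h => hy1 (hNHone y h hy)
    have hord := heq y hyN n hn
    have hcm : Commute y n := hcomm.symm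
    obtain ⟨k, hk⟩ := (IsPGroup.iff_orderOf.mp hNp) ⟨n, hn⟩
    have hk' : orderOf n = p ^ k := by
      rw [← hk]; exact Subgroup.orderOf_coe (⟨n, hn⟩ : N)
    have hyord : orderOf y ∣ Nat.card H := by
      have := orderOf_dvd_natCard (⟨y, hy⟩ : H)
      rwa [Subgroup.orderOf_mk] at this
    have hcop : Nat.Coprime (orderOf y) (orderOf n) := by
      rw [hk']
      exact Nat.Coprime.pow_right k (Nat.Coprime.coprime_dvd_left hyord hHp)
    have hmul := hcm.orderOf_mul_eq_mul_orderOf_of_coprime hcop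
    rw [hord] at hmul
    have hpos : 0 < orderOf y := orderOf_pos y
    have h1 : orderOf n = 1 := by
      have : orderOf y * 1 = orderOf y * orderOf n := by rw [mul_one]; exact hmul
      exact (Nat.eq_of_mul_eq_mul_left hpos this).symm
    exact orderOf_eq_one_iff.mp h1
  -- decomposition in K
  have hdec : ∀ g : G, g ∈ N ⊔ H → ∃ n ∈ N, ∃ h ∈ H, g = n * h := by
    intro g hg
    rw [← SetLike.mem_coe, Subgroup.normal_mul] at hg
    obtain ⟨n, hn, h, hh, rfl⟩ := Set.mem_mul.mp hg
    exact ⟨n, hn, h, hh, rfl⟩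
  have hHK : H ≤ N ⊔ H := le_sup_right
  have hNK : N ≤ N ⊔ H := le_sup_left
  refine ⟨⟨?_, ?_, ?_⟩, ?_⟩
  · rw [Ne, Subgroup.subgroupOf_eq_bot, disjoint_iff, inf_eq_left.mpr hHK]
    exact hH1
  · rw [Ne, Subgroup.subgroupOf_eq_top]
    intro hle
    apply hN1
    have : N ≤ H := hNK.trans hle
    rw [← hNH, inf_eq_left.mpr this]
  · intro g hg
    rw [Subgroup.mem_subgroupOf] at hg
    rw [Subgroup.eq_bot_iff_forall]
    intro y hy
    rw [Subgroup.mem_inf] at hy
    obtain ⟨hy1, hy2⟩ := hy
    rw [Subgroup.mem_subgroupOf] at hy1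
    rw [Subgroup.mem_pointwise_smul_iff_inv_smul_mem, Subgroup.mem_subgroupOf] at hy2
    have hy2' : (g : G)⁻¹ * (y : G) * (g : G) ∈ H := by
      simpa [MulAut.smul_def] using hy2
    obtain ⟨n, hn, h0, hh0, hgeq⟩ := hdec g g.2
    have hn1 : n ≠ 1 := by
      intro h1
      apply hg
      rw [hgeq, h1, one_mul]; exact hh0
    set y'' := h0 * ((g : G)⁻¹ * (y : G) * (g : G)) * h0⁻¹ with hy''
    have hy''H : y'' ∈ H := H.mul_mem (H.mul_mem hh0 hy2') (H.inv_mem hh0)
    have hyeq : (y : G) = n * y'' * n⁻¹ := by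
      rw [hy'', hgeq]; group
    have h1 : (y : G) * y''⁻¹ ∈ N := by
      rw [hyeq]
      have : n * y'' * n⁻¹ * y''⁻¹ = n * (y'' * n⁻¹ * y''⁻¹) := by group
      rw [this]
      exact N.mul_mem hn (hNnorm.conj_mem _ (N.inv_mem hn) y'')
    have h2 : (y : G) * y''⁻¹ ∈ H := H.mul_mem hy1 (H.inv_mem hy''H)
    have h3 : (y : G) = y'' := mul_inv_eq_one.mp (hNHone _ h1 h2)
    have hcomm : n * (y : G) = (y : G) * n := by
      have : (y : G) = n * (y : G) * n⁻¹ := by
        conv_lhs => rw [hyeq, ← h3]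
      calc n * (y : G) = (n * (y : G) * n⁻¹) * n := by group
        _ = (y : G) * n := by rw [← this]
    by_contra hyne
    have hyne' : (y : G) ≠ 1 := fun h => hyne (Subtype.ext h)
    exact hn1 (hC n hn (y : G) hy1 hyne' hcomm)
  · ext x
    simp only [Cfsg.frobeniusKernel, Set.mem_ofPred_eq, SetLike.mem_coe, Subgroup.mem_subgroupOf]
    constructor
    · rintro (h1 | hall)
      · rw [h1]; exact N.one_mem
      · by_contra hxN
        obtain ⟨n, hn, h, hh, hxeq⟩ := hdec x x.2
        have hh1 : h ≠ 1 := by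
          intro h1
          apply hxN
          rw [hxeq, h1, mul_one]; exact hn
        let ψ : N → N := fun m => ⟨(m : G) * h * (m : G)⁻¹ * h⁻¹, by
          have : (m : G) * h * (m : G)⁻¹ * h⁻¹ = (m : G) * (h * (m : G)⁻¹ * h⁻¹) := by group
          rw [this]
          exact N.mul_mem m.2 (hNnorm.conj_mem _ (N.inv_mem m.2) h)⟩
        have hinj : Function.Injective ψ := by
          intro a b hab
          have h1 : (a : G) * h * (a : G)⁻¹ * h⁻¹ = (b : G) * h * (b : G)⁻¹ * h⁻¹ :=
            congrArg Subtype.val hab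
          have h2 : (a : G) * h * (a : G)⁻¹ = (b : G) * h * (b : G)⁻¹ := mul_right_cancel h1
          have h3 : ((b : G)⁻¹ * (a : G)) * h = h * ((b : G)⁻¹ * (a : G)) := by
            calc ((b : G)⁻¹ * (a : G)) * h = (b : G)⁻¹ * ((a : G) * h * (a : G)⁻¹) * (a : G) := by group
              _ = (b : G)⁻¹ * ((b : G) * h * (b : G)⁻¹) * (a : G) := by rw [h2]
              _ = h * ((b : G)⁻¹ * (a : G)) := by group
          have h4 := hC _ (N.mul_mem (N.inv_mem b.2) a.2) h hh hh1 h3
          apply Subtype.ext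
          have : (a : G) = (b : G) * ((b : G)⁻¹ * (a : G)) := by group
          rw [this, h4, mul_one]
        have hsurj : Function.Surjective ψ := Finite.surjective_of_injective hinj
        obtain ⟨m, hm⟩ := hsurj ⟨n, hn⟩
        have hm2 : (m : G) * h * (m : G)⁻¹ * h⁻¹ = n := congrArg Subtype.val hm
        have hxm : (x : G) = (m : G) * h * (m : G)⁻¹ := by rw [hxeq, ← hm2]; group
        apply hall ⟨(m : G), hNK m.2⟩
        rw [Subgroup.mem_pointwise_smul_iff_inv_smul_mem, Subgroup.mem_subgroupOf]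
        have : (((MulAut.conj (⟨(m : G), hNK m.2⟩ : ↥(N ⊔ H)))⁻¹ • x : ↥(N ⊔ H)) : G) = h := by
          simp only [MulAut.smul_def, MulAut.conj_inv_apply, Subgroup.coe_mul, Subgroup.coe_inv]
          rw [hxm]; group
        rw [this]; exact hh
    · intro hxN
      by_cases hx1 : x = 1
      · exact Or.inl hx1
      · right
        intro g hcon
        rw [Subgroup.mem_pointwise_smul_iff_inv_smul_mem, Subgroup.mem_subgroupOf] at hcon
        have h1 : (g : G)⁻¹ * (x : G) * (g : G) ∈ H := by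
          simpa [MulAut.smul_def] using hcon
        have h2 : (g : G)⁻¹ * (x : G) * (g : G) ∈ N := by
          have := hNnorm.conj_mem (x : G) hxN (g : G)⁻¹
          simpa using this
        have h3 := hNHone _ h2 h1
        apply hx1
        apply Subtype.ext
        have : (x : G) = (g : G) * ((g : G)⁻¹ * (x : G) * (g : G)) * (g : G)⁻¹ := by group
        rw [this, h3]; simp

end Cfsg.Agent.S4108
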