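import Cfsg.Statements.S4112
import Cfsg.Agent.Lib.Helper1.NilpCenter

set_option autoImplicit false
open Cfsg

namespace Cfsg.Agent.S4112


theorem partA_mp {G : Type*} [Group G] [Finite G] (N M : Subgroup G) [N.Normal] [M.Normal]
    (hfr : ∀ x ∈ M, x ≠ 1 → Subgroup.centralizer ({x} : Set G) ≤ N) :
    N.index.Coprime (Nat.card M) := by
  by_contra hnc
  obtain ⟨p, hp, h1, h2⟩ := Nat.Prime.not_coprime_iff_dvd.1 hnc
  haveI : Fact p.Prime := ⟨hp⟩
  obtain ⟨y, hy⟩ := exists_prime_orderOf_dvd_card' (G := ↥M) p h2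
  have hyG : orderOf (y : G) = p := by rw [Subgroup.orderOf_coe]; exact hy
  have hzp : IsPGroup p (Subgroup.zpowers (y : G)) := by
    apply IsPGroup.of_card (n := 1)
    rw [Nat.card_zpowers, hyG, pow_one]
  obtain ⟨P, hP⟩ := hzp.exists_le_sylow
  have hyP : (y : G) ∈ (P : Subgroup G) := hP (Subgroup.mem_zpowers _)
  haveI : Group.IsNilpotent ↥(P : Subgroup G) := P.isPGroup'.isNilpotent
  have hLne : M.subgroupOf (P : Subgroup G) ≠ ⊥ := by
    intro h
    have hmem : (⟨(y : G), hyP⟩ : ↥(P : Subgroup G)) ∈ M.subgroupOf (P : Subgroup G) := by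
      rw [Subgroup.mem_subgroupOf]; exact y.2
    rw [h, Subgroup.mem_bot] at hmem
    have hy1 : (y : G) = 1 := congrArg Subtype.val hmem
    rw [hy1, orderOf_one] at hyG
    exact hp.one_lt.ne hyG
  obtain ⟨z, hzL, hzc, hz1⟩ :=
    Cfsg.Agent.Lib.Helper1.exists_mem_center_of_isNilpotent (M.subgroupOf (P : Subgroup G)) hLne
  have hzM : (z : G) ∈ M := Subgroup.mem_subgroupOf.1 hzL
  have hzG1 : (z : G) ≠ 1 := fun h => hz1 (Subtype.ext h)
  have hPN : (P : Subgroup G) ≤ N := by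
    refine le_trans ?_ (hfr (z : G) hzM hzG1)
    intro g hg
    rw [Subgroup.mem_centralizer_singleton_iff]
    have := (Subgroup.mem_center_iff.1 hzc) ⟨g, hg⟩
    exact congrArg Subtype.val this
  have hdvd : N.index ∣ (P : Subgroup G).index := Subgroup.index_dvd_of_le hPN
  exact P.not_dvd_index (h1.trans hdvd)

theorem partA_mpr {G : Type*} [Group G] [Finite G] (N M : Subgroup G) [N.Normal] [M.Normal]
    (hcam : ∀ g : G, g ∉ N → ∀ m ∈ M, ∃ x : G, x * g * x⁻¹ = g * m)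
    (hcop : N.index.Coprime (Nat.card M)) :
    ∀ x ∈ M, x ≠ 1 → Subgroup.centralizer ({x} : Set G) ≤ N := by
  intro x hxM hx1 g hg
  by_contra hgN
  rw [Subgroup.mem_centralizer_singleton_iff] at hg
  have hcomm : Commute g x := hg
  have hn1 : orderOf (QuotientGroup.mk g : G ⧸ N) ≠ 1 := by
    intro h
    rw [orderOf_eq_one_iff] at h
    exact hgN ((QuotientGroup.eq_one_iff g).1 h)
  have hndvd : orderOf (QuotientGroup.mk g : G ⧸ N) ∣ N.index := by
    rw [Subgroup.index_eq_card]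
    exact orderOf_dvd_natCard _
  obtain ⟨p, hpdef⟩ : ∃ p, p = (orderOf (QuotientGroup.mk g : G ⧸ N)).minFac := ⟨_, rfl⟩
  have hp : p.Prime := hpdef ▸ Nat.minFac_prime hn1
  have hpn : p ∣ orderOf (QuotientGroup.mk g : G ⧸ N) := hpdef ▸ Nat.minFac_dvd _
  have he0 : orderOf g ≠ 0 := (orderOf_pos g).ne'
  obtain ⟨j, w, hpw, hew⟩ := Nat.exists_eq_pow_mul_and_not_dvd he0 p hp.ne_one
  have hg1N : g ^ w ∉ N := by
    intro h
    have h1 : (QuotientGroup.mk g : G ⧸ N) ^ w = 1 := by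
      rw [← QuotientGroup.mk_pow]; exact (QuotientGroup.eq_one_iff _).2 h
    exact hpw (hpn.trans (orderOf_dvd_of_pow_eq_one h1))
  have hg1pow : (g ^ w) ^ (p ^ j) = 1 := by
    rw [← pow_mul, mul_comm, ← hew]; exact pow_orderOf_eq_one g
  obtain ⟨y, hy⟩ := hcam (g ^ w) hg1N x hxM
  have hconj : (g ^ w * x) ^ (p ^ j) = 1 := by
    rw [← hy, conj_pow, hg1pow, mul_one, mul_inv_cancel]
  have hxpow : x ^ (p ^ j) = 1 := by
    have hc : Commute (g ^ w) x := hcomm.pow_left w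
    rw [hc.mul_pow, hg1pow, one_mul] at hconj
    exact hconj
  obtain ⟨k, hkj, hk⟩ := (Nat.dvd_prime_pow hp).1 (orderOf_dvd_of_pow_eq_one hxpow)
  have hk0 : k ≠ 0 := by
    rintro rfl
    rw [pow_zero, orderOf_eq_one_iff] at hk
    exact hx1 hk
  have hpx : p ∣ orderOf x := by rw [hk]; exact dvd_pow_self p hk0
  have hxM' : orderOf x ∣ Nat.card M := by
    have := orderOf_dvd_natCard (⟨x, hxM⟩ : ↥M)
    rwa [Subgroup.orderOf_mk] at this
  exact Nat.Prime.not_coprime_iff_dvd.2 ⟨p, hp, hpn.trans hndvd, hpx.trans hxM'⟩ hcop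

theorem partB {G : Type*} [Group G] [Finite G] (N M : Subgroup G) [N.Normal] [M.Normal]
    (hMN : M ≤ N) (hcop : N.index.Coprime (Nat.card M)) :
    ∃ H : Subgroup G, H ⊔ N = ⊤ ∧ H ⊓ M = ⊥ := by
  have hfin : ({K : Subgroup G | K ⊔ N = ⊤} : Set (Subgroup G)).Finite := Set.toFinite _
  have hne : ({K : Subgroup G | K ⊔ N = ⊤} : Set (Subgroup G)).Nonempty := ⟨⊤, top_sup_eq _⟩
  obtain ⟨K, hK, hmin⟩ := hfin.exists_minimal hne
  have hK' : K ⊔ N = ⊤ := hK
  refine ⟨K, hK', ?_⟩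
  by_contra hKM
  have hcard : Nat.card ↥(K ⊓ M) ≠ 1 := ((Subgroup.one_lt_card_iff_ne_bot _).2 hKM).ne'
  obtain ⟨q, hq, hqd⟩ := Nat.exists_prime_and_dvd hcard
  haveI : Fact q.Prime := ⟨hq⟩
  have hqM : q ∣ Nat.card M := hqd.trans (Subgroup.card_dvd_of_le inf_le_right)
  have hqN : ¬ q ∣ N.index := fun h => Nat.Prime.not_coprime_iff_dvd.2 ⟨q, hq, h, hqM⟩ hcop
  have key : ∀ R : Subgroup ↥K, R ⊔ N.subgroupOf K = ⊤ → R = ⊤ := by
    intro R hR
    have h1 : R.map K.subtype ⊔ N = ⊤ := by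
      rw [eq_top_iff, ← hK']
      refine sup_le ?_ le_sup_right
      have h2 : K = (R ⊔ N.subgroupOf K).map K.subtype := by
        rw [hR, ← MonoidHom.range_eq_map, Subgroup.range_subtype]
      rw [Subgroup.map_sup] at h2
      calc K = R.map K.subtype ⊔ (N.subgroupOf K).map K.subtype := h2
        _ ≤ R.map K.subtype ⊔ N :=
          sup_le_sup_left (by rw [Subgroup.subgroupOf_map_subtype]; exact inf_le_left) _
    have h3 : K ≤ R.map K.subtype := hmin h1 (Subgroup.map_subtype_le R)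
    rw [eq_top_iff]
    intro r _
    obtain ⟨r', hr', hrr'⟩ := Subgroup.mem_map.1 (h3 r.2)
    have : r' = r := Subtype.ext hrr'
    rw [← this]; exact hr'
  obtain ⟨Q⟩ : Nonempty (Sylow q ↥(N.subgroupOf K)) := inferInstance
  have hfrat := Sylow.normalizer_sup_eq_top Q
  obtain ⟨Q', hQ'⟩ : ∃ Q' : Subgroup ↥K,
      Q' = Subgroup.map (N.subgroupOf K).subtype (Q : Subgroup ↥(N.subgroupOf K)) := ⟨_, rfl⟩
  rw [← hQ'] at hfrat
  have hQ'L : Q' ≤ N.subgroupOf K := by rw [hQ']; exact Subgroup.map_subtype_le _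
  have hQ'p : IsPGroup q Q' := by rw [hQ']; exact Q.isPGroup'.map _
  have hQ'idx : Q'.index = (Q : Subgroup ↥(N.subgroupOf K)).index * (N.subgroupOf K).index := by
    rw [hQ']; exact Subgroup.index_map_subtype _
  haveI hQn : Q'.Normal := Subgroup.normalizer_eq_top_iff.1 (key _ hfrat)
  have hcopQ : Nat.Coprime (Nat.card Q') Q'.index := by
    obtain ⟨n, hn⟩ := IsPGroup.iff_card.1 hQ'p
    rw [hn, hQ'idx]
    apply Nat.Coprime.pow_left
    rw [Nat.Prime.coprime_iff_not_dvd hq]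
    intro h
    rcases (Nat.Prime.dvd_mul hq).1 h with h | h
    · exact Q.not_dvd_index h
    · exact hqN (h.trans (Subgroup.relIndex_dvd_index_of_normal N K))
  obtain ⟨R, hR⟩ := Subgroup.exists_right_complement'_of_coprime hcopQ
  have hsup : Q' ⊔ R = ⊤ := hR.sup_eq_top
  have hRL : R ⊔ N.subgroupOf K = ⊤ := by
    rw [eq_top_iff, ← hsup]; exact sup_le (hQ'L.trans le_sup_right) le_sup_left
  have hRtop : R = ⊤ := key R hRL
  have hQbot : Q' = ⊥ := by
    have := hR.disjoint; rw [hRtop] at this; exact disjoint_top.1 this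
  have hQ0 : (Q : Subgroup ↥(N.subgroupOf K)) = ⊥ := by
    rw [hQ'] at hQbot
    exact (Subgroup.map_eq_bot_iff_of_injective _ (Subgroup.subtype_injective _)).1 hQbot
  have hc : Nat.card ↥(N.subgroupOf K) = Nat.card ↥(N ⊓ K) := by
    rw [← Subgroup.inf_subgroupOf_right]
    exact Nat.card_congr (Subgroup.subgroupOfEquivOfLe inf_le_right).toEquiv
  have hqL : q ∣ Nat.card ↥(N.subgroupOf K) := by
    rw [hc]
    exact hqd.trans (Subgroup.card_dvd_of_le (le_inf (inf_le_right.trans hMN) inf_le_left))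
  exact Sylow.ne_bot_of_dvd_card Q hqL hQ0

/-- Let G be a finite group and M ≤ N non-trivial proper normal subgroups such that for every g outside N the conjugacy class of g is a union of cosets of M (equivalently gm is conjugate to g for every m ∈ M). Then (1) and (2) below are equivalent, and they imply (3): (1) every g outside N acts fixed-point-freely on M, that is C_G(x) ≤ N for every x ∈ M, x ≠ 1; (2) the index of N in G is coprime to the order of M; (3) there is a subgroup H of G with HN = G and H ∩ M = 1. -/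
theorem result {G : Type*} [Group G] [Finite G] (N M : Subgroup G) [N.Normal] [M.Normal] (hMN : M ≤ N) (hM1 : M ≠ ⊥) (hN2 : N ≠ ⊤)
    (hcam : ∀ g : G, g ∉ N → ∀ m ∈ M, ∃ x : G, x * g * x⁻¹ = g * m) :
    ((∀ x ∈ M, x ≠ 1 → Subgroup.centralizer ({x} : Set G) ≤ N) ↔ N.index.Coprime (Nat.card M)) ∧
    ((∀ x ∈ M, x ≠ 1 → Subgroup.centralizer ({x} : Set G) ≤ N) → ∃ H : Subgroup G, H ⊔ N = ⊤ ∧ H ⊓ M = ⊥) := by
  have hA : (∀ x ∈ M, x ≠ 1 → Subgroup.centralizer ({x} : Set G) ≤ N) ↔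
      N.index.Coprime (Nat.card M) :=
    ⟨partA_mp N M, partA_mpr N M hcam⟩
  exact ⟨hA, fun h => partB N M hMN (hA.1 h)⟩

end Cfsg.Agent.S4112
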