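import Cfsg.Statements.S4113

set_option autoImplicit false
open Cfsg

namespace Cfsg.Agent.S4113

/-- Let G be a finite group, M ≤ N non-trivial proper normal subgroups, and H a subgroup with HM = G and H ∩ M = 1. Then every element of G outside N acts fixed-point-freely on M (C_G(x) ≤ N for every x ∈ M, x ≠ 1) if and only if H ∩ gHg⁻¹ ≤ H ∩ N for every g outside H, with H proper and non-trivial and H ∩ N proper in H. -/
theorem result {G : Type*} [Group G] [Finite G] (N M : Subgroup G) [N.Normal] [M.Normal] (hMN : M ≤ N) (hM1 : M ≠ ⊥) (hN2 : N ≠ ⊤)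
    (H : Subgroup G) (hHM : H ⊔ M = ⊤) (hHM' : H ⊓ M = ⊥) :
    (∀ x ∈ M, x ≠ 1 → Subgroup.centralizer ({x} : Set G) ≤ N) ↔
      (H ≠ ⊥ ∧ H ≠ ⊤ ∧ H ⊓ N < H ∧ ∀ g : G, g ∉ H → H ⊓ H.map (MulAut.conj g).toMonoidHom ≤ N) := by
  classical
  -- decomposition g = m * h
  have hdec : ∀ g : G, ∃ m ∈ M, ∃ h ∈ H, g = m * h := by
    intro g
    have hg : g ∈ (M ⊔ H : Subgroup G) := by rw [sup_comm, hHM]; trivial
    rw [← SetLike.mem_coe, Subgroup.normal_mul] at hg
    obtain ⟨m, hm, h, hh, rfl⟩ := Set.mem_mul.mp hg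
    exact ⟨m, hm, h, hh, rfl⟩
  have hHMone : ∀ z : G, z ∈ H → z ∈ M → z = 1 := by
    intro z hz1 hz2
    have : z ∈ H ⊓ M := ⟨hz1, hz2⟩
    rw [hHM'] at this
    exact Subgroup.mem_bot.mp this
  constructor
  · intro hF
    have hHtop : H ≠ ⊤ := by
      intro h
      apply hM1
      rw [← hHM', h, top_inf_eq]
    have hlt : H ⊓ N < H := by
      refine lt_of_le_of_ne inf_le_left ?_
      intro h
      have hHN : H ≤ N := inf_eq_left.mp h
      apply hN2
      rw [eq_top_iff, ← hHM]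
      exact sup_le hHN hMN
    have hHbot : H ≠ ⊥ := by
      intro h
      rw [h] at hlt
      simp at hlt
    refine ⟨hHbot, hHtop, hlt, ?_⟩
    intro g hg y hy
    obtain ⟨hy1, hy2⟩ := hy
    obtain ⟨y0, hy0, hy0eq⟩ := hy2
    obtain ⟨m, hm, h, hh, rfl⟩ := hdec g
    have hm1 : m ≠ 1 := by
      intro h1
      apply hg
      rw [h1, one_mul]; exact hh
    set y1 := h * y0 * h⁻¹ with hy1def
    have hy1H : y1 ∈ H := H.mul_mem (H.mul_mem hh hy0) (H.inv_mem hh)
    have hyeq : y = m * y1 * m⁻¹ := by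
      rw [← hy0eq]
      simp only [MulEquiv.coe_toMonoidHom, MulAut.conj_apply, hy1def]
      group
    -- y * y1⁻¹ ∈ M ∩ H
    have h1 : y * y1⁻¹ ∈ M := by
      rw [hyeq]
      have : m * y1 * m⁻¹ * y1⁻¹ = m * (y1 * m⁻¹ * y1⁻¹) := by group
      rw [this]
      exact M.mul_mem hm (‹M.Normal›.conj_mem _ (M.inv_mem hm) y1)
    have h2 : y * y1⁻¹ ∈ H := H.mul_mem hy1 (H.inv_mem hy1H)
    have h3 : y * y1⁻¹ = 1 := hHMone _ h2 h1
    have h4 : y = y1 := by
      have := mul_inv_eq_one.mp h3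
      exact this
    -- y1 commutes with m
    have hcomm : y1 * m = m * y1 := by
      have : y1 = m * y1 * m⁻¹ := by rw [← hyeq, h4]
      calc y1 * m = (m * y1 * m⁻¹) * m := by rw [← this]
        _ = m * y1 := by group
    have hcen : y1 ∈ Subgroup.centralizer ({m} : Set G) := by
      rw [Subgroup.mem_centralizer_iff]
      intro z hz
      rw [Set.mem_singleton_iff] at hz
      rw [hz]; exact hcomm.symm
    rw [h4]
    exact hF m hm hm1 hcen
  · rintro ⟨hHbot, hHtop, hlt, hW⟩ x hx hx1 c hc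
    obtain ⟨m', hm', h, hh, rfl⟩ := hdec c
    by_contra hcN
    have hhN : h ∉ N := by
      intro hhN
      exact hcN (N.mul_mem (hMN hm') hhN)
    -- C_M(h) = 1
    have hCM : ∀ m ∈ M, m * h = h * m → m = 1 := by
      intro m hm hmh
      by_contra hm1
      have hmH : m ∉ H := fun hmH => hm1 (hHMone m hmH hm)
      apply hhN
      apply hW m hmH
      refine ⟨hh, ?_⟩
      refine ⟨h, hh, ?_⟩
      simp only [MulEquiv.coe_toMonoidHom, MulAut.conj_apply]
      rw [hmh]; group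
    -- ψ : M → M, m ↦ m h m⁻¹ h⁻¹
    let ψ : M → M := fun m => ⟨(m : G) * h * (m : G)⁻¹ * h⁻¹, by
      have : (m : G) * h * (m : G)⁻¹ * h⁻¹ = (m : G) * (h * (m : G)⁻¹ * h⁻¹) := by group
      rw [this]
      exact M.mul_mem m.2 (‹M.Normal›.conj_mem _ (M.inv_mem m.2) h)⟩
    have hinj : Function.Injective ψ := by
      intro a b hab
      have h1 : (a : G) * h * (a : G)⁻¹ * h⁻¹ = (b : G) * h * (b : G)⁻¹ * h⁻¹ :=
        congrArg Subtype.val hab
      have h2 : (a : G) * h * (a : G)⁻¹ = (b : G) * h * (b : G)⁻¹ := mul_right_cancel h1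
      have h3 : ((b : G)⁻¹ * (a : G)) * h = h * ((b : G)⁻¹ * (a : G)) := by
        calc ((b : G)⁻¹ * (a : G)) * h = (b : G)⁻¹ * ((a : G) * h * (a : G)⁻¹) * (a : G) := by group
          _ = (b : G)⁻¹ * ((b : G) * h * (b : G)⁻¹) * (a : G) := by rw [h2]
          _ = h * ((b : G)⁻¹ * (a : G)) := by group
      have h4 := hCM _ (M.mul_mem (M.inv_mem b.2) a.2) h3
      apply Subtype.ext
      have : (a : G) = (b : G) * ((b : G)⁻¹ * (a : G)) := by group
      rw [this, h4, mul_one]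
    have hsurj : Function.Surjective ψ := Finite.surjective_of_injective hinj
    obtain ⟨m, hm⟩ := hsurj ⟨m', hm'⟩
    have hm2 : (m : G) * h * (m : G)⁻¹ * h⁻¹ = m' := congrArg Subtype.val hm
    have hceq : m' * h = (m : G) * h * (m : G)⁻¹ := by rw [← hm2]; group
    -- x commutes with m h m⁻¹
    rw [Subgroup.mem_centralizer_iff] at hc
    have hxc : x * (m' * h) = (m' * h) * x := hc x (Set.mem_singleton x)
    rw [hceq] at hxc
    have hx' : ((m : G)⁻¹ * x * (m : G)) * h = h * ((m : G)⁻¹ * x * (m : G)) := by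
      calc ((m : G)⁻¹ * x * (m : G)) * h = (m : G)⁻¹ * (x * ((m : G) * h * (m : G)⁻¹)) * (m : G) := by group
        _ = (m : G)⁻¹ * (((m : G) * h * (m : G)⁻¹) * x) * (m : G) := by rw [hxc]
        _ = h * ((m : G)⁻¹ * x * (m : G)) := by group
    have hxM : (m : G)⁻¹ * x * (m : G) ∈ M := by
      have := ‹M.Normal›.conj_mem x hx (m : G)⁻¹
      simpa using this
    have := hCM _ hxM hx'
    apply hx1
    have hxe : x = (m : G) * ((m : G)⁻¹ * x * (m : G)) * (m : G)⁻¹ := by group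
    rw [hxe, this]; group

end Cfsg.Agent.S4113
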