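import Cfsg.Statements.S4116
import Cfsg.Agent.Lib.Helper4.SZ
import Cfsg.Agent.Lib.Helper7.SylowBasic
import Cfsg.Agent.Lib.Helper7.Real
import Cfsg.Agent.Lib.Lead.ConjUnion

set_option autoImplicit false

open Cfsg

namespace Cfsg.Agent.S4116

open Cfsg.Agent.Lib.Helper4 Cfsg.Agent.Lib.Helper7 Cfsg.Agent.Lib.Lead

section count
variable {K : Type*} [Group K] [Finite K]

lemma card_ne_one_add_one (α : Type*) [Finite α] (a : α) :
    Nat.card {x : α // x ≠ a} + 1 = Nat.card α := by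
  classical
  rw [← Finite.card_option]
  exact Nat.card_congr (Equiv.optionSubtypeNe a)

/-- the conjugation map from cosets times non-identity elements -/
noncomputable def phi (L : Subgroup K) (s : (K ⧸ L) × {x : L // x ≠ 1}) : K :=
  s.1.out * (s.2.1 : K) * s.1.out⁻¹

lemma phi_ne_one (L : Subgroup K) (s : (K ⧸ L) × {x : L // x ≠ 1}) : phi L s ≠ 1 := by
  unfold phi
  rw [Ne, conj_eq_one_iff]
  intro h
  exact s.2.2 (Subtype.ext h)

lemma phi_injective (L : Subgroup K)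
    (h1 : ∀ k x : K, x ∈ L → x ≠ 1 → k * x * k⁻¹ ∈ L → k ∈ L) : Function.Injective (phi L) := by
  rintro ⟨c, x⟩ ⟨c', x'⟩ h
  unfold phi at h
  simp only at h
  have hx1 : ((x.1 : L) : K) ≠ 1 := fun h' => x.2 (Subtype.ext h')
  have ht : (c'.out⁻¹ * c.out) * (x.1 : K) * (c'.out⁻¹ * c.out)⁻¹ = (x'.1 : K) := by
    have : (c'.out⁻¹ * c.out) * (x.1 : K) * (c'.out⁻¹ * c.out)⁻¹
        = c'.out⁻¹ * (c.out * (x.1 : K) * c.out⁻¹) * c'.out := by group
    rw [this, h]; group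
  have hmem : c'.out⁻¹ * c.out ∈ L := h1 _ _ x.1.2 hx1 (by rw [ht]; exact x'.1.2)
  have hc : c' = c := by
    rw [← QuotientGroup.out_eq' c', ← QuotientGroup.out_eq' c, QuotientGroup.eq]
    exact hmem
  subst hc
  have hxx : ((x.1 : L) : K) = (x'.1 : K) := by
    have := congrArg (fun z => c'.out⁻¹ * z * c'.out) h
    simpa [mul_assoc] using this
  have : x = x' := Subtype.ext (Subtype.ext hxx)
  rw [this]

lemma two_ti_false (L₁ L₂ : Subgroup K) (h1ne : L₁ ≠ ⊥) (h2ne : L₂ ≠ ⊥)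
    (h1 : ∀ k x : K, x ∈ L₁ → x ≠ 1 → k * x * k⁻¹ ∈ L₁ → k ∈ L₁)
    (h2 : ∀ k x : K, x ∈ L₂ → x ≠ 1 → k * x * k⁻¹ ∈ L₂ → k ∈ L₂)
    (h12 : ∀ k x : K, x ∈ L₁ → x ≠ 1 → k * x * k⁻¹ ∉ L₂) : False := by
  classical
  let Ψ : ((K ⧸ L₁) × {x : L₁ // x ≠ 1}) ⊕ ((K ⧸ L₂) × {x : L₂ // x ≠ 1}) → {z : K // z ≠ 1} :=
    fun s => Sum.elim (fun a => ⟨phi L₁ a, phi_ne_one L₁ a⟩) (fun b => ⟨phi L₂ b, phi_ne_one L₂ b⟩) s
  have hdisj : ∀ a b, phi L₁ a ≠ phi L₂ b := by
    rintro ⟨c, x⟩ ⟨c', y⟩ h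
    unfold phi at h
    simp only at h
    have hx1 : ((x.1 : L₁) : K) ≠ 1 := fun h' => x.2 (Subtype.ext h')
    have ht : (c'.out⁻¹ * c.out) * (x.1 : K) * (c'.out⁻¹ * c.out)⁻¹ = (y.1 : K) := by
      have : (c'.out⁻¹ * c.out) * (x.1 : K) * (c'.out⁻¹ * c.out)⁻¹
          = c'.out⁻¹ * (c.out * (x.1 : K) * c.out⁻¹) * c'.out := by group
      rw [this, h]; group
    exact h12 _ _ x.1.2 hx1 (by rw [ht]; exact y.1.2)
  have hΨ : Function.Injective Ψ := by
    rintro (a | a) (b | b) h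
    · have := phi_injective L₁ h1 (congrArg Subtype.val h)
      rw [this]
    · exact absurd (congrArg Subtype.val h) (hdisj a b)
    · exact absurd (congrArg Subtype.val h).symm (hdisj b a)
    · have := phi_injective L₂ h2 (congrArg Subtype.val h)
      rw [this]
  have hle := Nat.card_le_card_of_injective Ψ hΨ
  rw [Nat.card_sum, Nat.card_prod, Nat.card_prod] at hle
  have e1 := card_ne_one_add_one L₁ 1
  have e2 := card_ne_one_add_one L₂ 1
  have e3 := card_ne_one_add_one K 1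
  have i1 : L₁.index * Nat.card L₁ = Nat.card K := Subgroup.index_mul_card L₁
  have i2 : L₂.index * Nat.card L₂ = Nat.card K := Subgroup.index_mul_card L₂
  have c1 : 1 < Nat.card L₁ := (Subgroup.one_lt_card_iff_ne_bot L₁).2 h1ne
  have c2 : 1 < Nat.card L₂ := (Subgroup.one_lt_card_iff_ne_bot L₂).2 h2ne
  have j1 : Nat.card (K ⧸ L₁) = L₁.index := (Subgroup.index_eq_card L₁).symm
  have j2 : Nat.card (K ⧸ L₂) = L₂.index := (Subgroup.index_eq_card L₂).symm
  rw [j1, j2] at hle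
  generalize Nat.card {x : L₁ // x ≠ 1} = m₁ at *
  generalize Nat.card {x : L₂ // x ≠ 1} = m₂ at *
  generalize Nat.card {z : K // z ≠ 1} = M at *
  generalize Nat.card L₁ = a₁ at *
  generalize Nat.card L₂ = a₂ at *
  generalize Nat.card K = N at *
  generalize L₁.index = i₁ at *
  generalize L₂.index = i₂ at *
  subst e1 e2 e3
  nlinarith

end count

section main
variable {G : Type*} [Group G] [Finite G] (H : Subgroup G)

lemma mem_normalizer_of_conj (hTI : IsTISubset (H : Set G)) {g x : G} (hx : x ∈ H) (hx1 : x ≠ 1)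
    (hg : g * x * g⁻¹ ∈ H) : g ∈ Subgroup.normalizer (H : Set G) := by
  by_contra h
  exact hx1 (hTI g h x hx hg)

lemma pi_mem (hHall : (Nat.card H).Coprime H.index) {x : G}
    (hx : x ∈ Subgroup.normalizer (H : Set G))
    (hπ : ∀ r : ℕ, r.Prime → r ∣ orderOf x → r ∣ Nat.card H) : x ∈ H := by
  haveI : (H.subgroupOf (Subgroup.normalizer (H : Set G))).Normal := Subgroup.normal_in_normalizer
  have : (⟨x, hx⟩ : Subgroup.normalizer (H : Set G)) ∈ H.subgroupOf (Subgroup.normalizer (H : Set G)) := by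
    apply mem_of_orderOf_coprime_index
    rw [Subgroup.orderOf_mk]
    apply Nat.Coprime.coprime_dvd_right (Subgroup.relIndex_dvd_index_of_le Subgroup.le_normalizer)
    by_contra hc
    obtain ⟨r, hr, h1, h2⟩ := Nat.Prime.not_coprime_iff_dvd.1 hc
    have := Nat.dvd_gcd (hπ r hr h1) h2
    rw [hHall.gcd_eq_one] at this
    exact hr.one_lt.ne' (Nat.dvd_one.1 this)
  exact Subgroup.mem_subgroupOf.1 this

lemma exists_conj_mem (hHall : (Nat.card H).Coprime H.index) {x : G} {p : ℕ} (hp : p.Prime)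
    (hx : orderOf x = p) (hpH : p ∣ Nat.card H) : ∃ g : G, x ∈ cj g H := by
  haveI : Fact p.Prime := ⟨hp⟩
  have hpi : ¬ p ∣ H.index := by
    intro h
    have := Nat.dvd_gcd hpH h
    rw [hHall.gcd_eq_one] at this
    exact hp.one_lt.ne' (Nat.dvd_one.1 this)
  obtain ⟨P₀⟩ : Nonempty (Sylow p H) := inferInstance
  set P₁ : Subgroup G := (P₀ : Subgroup H).map H.subtype with hP₁
  have hP₁p : IsPGroup p P₁ := P₀.2.map _
  have hcP₁ : Nat.card P₁ = p ^ (Nat.card H).factorization p := by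
    rw [hP₁, Subgroup.card_map_of_injective H.subtype_injective]
    exact Sylow.card_eq_multiplicity P₀
  have hfac : (Nat.card G).factorization p = (Nat.card H).factorization p := by
    rw [← Subgroup.card_mul_index H, Nat.factorization_mul Nat.card_pos.ne'
      Subgroup.index_ne_zero_of_finite, Finsupp.add_apply,
      Nat.factorization_eq_zero_of_not_dvd hpi, add_zero]
  obtain ⟨Q, hQ⟩ := hP₁p.exists_le_sylow
  have hcQ : Nat.card Q = p ^ (Nat.card G).factorization p := Sylow.card_eq_multiplicity Q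
  have hQeq : P₁ = (Q : Subgroup G) :=
    Subgroup.eq_of_le_of_card_ge hQ (by rw [hcP₁, hcQ, hfac])
  have hQH : (Q : Subgroup G) ≤ H := by rw [← hQeq, hP₁]; exact Subgroup.map_subtype_le _
  obtain ⟨R, hR⟩ := exists_sylow_mem_of_orderOf (p := p) x 1 (by rw [hx, pow_one])
  obtain ⟨g, rfl⟩ := MulAction.exists_smul_eq G Q R
  refine ⟨g, ?_⟩
  rw [mem_cj_iff]
  exact hQH ((mem_sylow_smul Q g x).1 hR)

lemma le_of_inf_ne_bot (hHall : (Nat.card H).Coprime H.index) (hTI : IsTISubset (H : Set G))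
    (K : Subgroup G) (hK : ∀ q : ℕ, q.Prime → q ∣ Nat.card K → q ∣ Nat.card H)
    (hne : K ⊓ H ≠ ⊥) : K ≤ H := by
  by_contra hKH
  have hKπ : ∀ k ∈ K, ∀ r : ℕ, r.Prime → r ∣ orderOf k → r ∣ Nat.card H := by
    intro k hk r hr hrk
    apply hK r hr
    have : orderOf k ∣ Nat.card K := by
      have := orderOf_dvd_natCard (⟨k, hk⟩ : K)
      rwa [Subgroup.orderOf_mk] at this
    exact hrk.trans this
  have ha : ∀ g : G, ∀ k ∈ K, ∀ x ∈ cj g H, x ≠ 1 → k * x * k⁻¹ ∈ cj g H → k ∈ cj g H := by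
    intro g k hk x hx hx1 hkx
    rw [mem_cj_iff] at hx hkx ⊢
    have h1 : (g⁻¹ * k * g) * (g⁻¹ * x * g) * (g⁻¹ * k * g)⁻¹ ∈ H := by
      have : (g⁻¹ * k * g) * (g⁻¹ * x * g) * (g⁻¹ * k * g)⁻¹ = g⁻¹ * (k * x * k⁻¹) * g := by group
      rw [this]; exact hkx
    have h2 : g⁻¹ * x * g ≠ 1 := by
      intro h
      apply hx1
      have := congrArg (fun z => g * z * g⁻¹) h
      simpa [mul_assoc] using this
    have h3 := mem_normalizer_of_conj H hTI hx h2 h1
    apply pi_mem H hHall h3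
    intro r hr hrd
    have : orderOf (g⁻¹ * k * g) = orderOf k := by
      have := orderOf_conj_eq g⁻¹ k
      rwa [inv_inv] at this
    rw [this] at hrd
    exact hKπ k hk r hr hrd
  have ha1 : ∀ k ∈ K, ∀ x ∈ H, x ≠ 1 → k * x * k⁻¹ ∈ H → k ∈ H := by
    intro k hk x hx hx1 hkx
    have := ha 1 k hk x (by rw [cj_one]; exact hx) hx1 (by rw [cj_one]; exact hkx)
    rwa [cj_one] at this
  set L : Subgroup G := K ⊓ H with hL
  have hLtop : L.subgroupOf K ≠ ⊤ := by
    rw [Ne, Subgroup.subgroupOf_eq_top]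
    intro h
    exact hKH (h.trans inf_le_right)
  obtain ⟨g₀, hg₀⟩ := exists_forall_conj_notMem (L.subgroupOf K) hLtop
  have hg₀1 : g₀ ≠ 1 := by
    rintro rfl
    apply hg₀ 1
    simp
  have hord : orderOf g₀ ≠ 1 := fun h => hg₀1 (orderOf_eq_one_iff.1 h)
  have hq : (orderOf g₀).minFac.Prime := Nat.minFac_prime hord
  set q := (orderOf g₀).minFac with hqdef
  have hqd : q ∣ orderOf g₀ := Nat.minFac_dvd _
  set m := orderOf g₀ / q with hm
  have hym : orderOf (g₀ ^ m) = q := orderOf_pow_orderOf_div (orderOf_pos g₀).ne' hqd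
  set y : G := ((g₀ ^ m : K) : G) with hy
  have hyK : y ∈ K := (g₀ ^ m).2
  have hyord : orderOf y = q := by rw [hy, Subgroup.orderOf_coe]; exact hym
  have hqK : q ∣ Nat.card K := by rw [← hym]; exact orderOf_dvd_natCard _
  have hqH : q ∣ Nat.card H := hK q hq hqK
  have hy1 : y ≠ 1 := by
    intro h
    rw [h, orderOf_one] at hyord
    exact hq.one_lt.ne' hyord.symm
  -- no K-conjugate of y lies in H
  have hyconj : ∀ k ∈ K, k⁻¹ * y * k ∉ H := by
    intro k hk hmem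
    set g₁ : G := k⁻¹ * (g₀ : G) * k with hg₁
    have hg₁K : g₁ ∈ K := K.mul_mem (K.mul_mem (K.inv_mem hk) g₀.2) hk
    have hpow : k⁻¹ * y * k = g₁ ^ m := by
      rw [hg₁, hy]
      have : k⁻¹ * (g₀ : G) * k = k⁻¹ * (g₀ : G) * k⁻¹⁻¹ := by rw [inv_inv]
      rw [this, conj_pow, inv_inv]
      simp
    have hcomm : g₁ * (k⁻¹ * y * k) * g₁⁻¹ = k⁻¹ * y * k := by
      rw [hpow]
      have : g₁ * g₁ ^ m = g₁ ^ m * g₁ := (pow_mul_comm' g₁ m).symm
      rw [this, mul_inv_cancel_right]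
    have hne1 : k⁻¹ * y * k ≠ 1 := by
      intro h
      apply hy1
      have := congrArg (fun z => k * z * k⁻¹) h
      simpa [mul_assoc] using this
    have hg₁H : g₁ ∈ H := ha1 g₁ hg₁K _ hmem hne1 (by rw [hcomm]; exact hmem)
    apply hg₀ ⟨k, hk⟩
    rw [Subgroup.mem_subgroupOf]
    exact ⟨hg₁K, hg₁H⟩
  obtain ⟨g, hg⟩ := exists_conj_mem H hHall hq hyord hqH
  set L₂ : Subgroup G := K ⊓ cj g H with hL₂
  have hyL₂ : y ∈ L₂ := ⟨hyK, hg⟩
  apply two_ti_false (L.subgroupOf K) (L₂.subgroupOf K)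
  · intro h
    rw [Subgroup.subgroupOf_eq_bot] at h
    have := h.eq_bot
    rw [inf_eq_left.2 (inf_le_left : L ≤ K)] at this
    exact hne this
  · intro h
    rw [Subgroup.subgroupOf_eq_bot] at h
    have := h.eq_bot
    rw [inf_eq_left.2 (inf_le_left : L₂ ≤ K)] at this
    rw [hL₂, this, Subgroup.mem_bot] at hyL₂
    exact hy1 hyL₂
  · intro k x hx hx1 hkx
    rw [Subgroup.mem_subgroupOf] at hx hkx ⊢
    have hx1' : (x : G) ≠ 1 := fun h => hx1 (Subtype.ext h)
    exact ⟨k.2, ha1 k k.2 x hx.2 hx1' (by simpa using hkx.2)⟩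
  · intro k x hx hx1 hkx
    rw [Subgroup.mem_subgroupOf] at hx hkx ⊢
    have hx1' : (x : G) ≠ 1 := fun h => hx1 (Subtype.ext h)
    exact ⟨k.2, ha g k k.2 x hx.2 hx1' (by simpa using hkx.2)⟩
  · intro k x hx hx1 hkx
    rw [Subgroup.mem_subgroupOf] at hx hkx
    have hx1' : (x : G) ≠ 1 := fun h => hx1 (Subtype.ext h)
    have hkx' : (k : G) * (x : G) * (k : G)⁻¹ ∈ cj g H := by simpa using hkx.2
    rw [mem_cj_iff] at hkx'
    have h1 : (g⁻¹ * (k : G)) * (x : G) * (g⁻¹ * (k : G))⁻¹ ∈ H := by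
      have : (g⁻¹ * (k : G)) * (x : G) * (g⁻¹ * (k : G))⁻¹
          = g⁻¹ * ((k : G) * (x : G) * (k : G)⁻¹) * g := by group
      rw [this]; exact hkx'
    have hn := mem_normalizer_of_conj H hTI hx.2 hx1' h1
    apply hyconj k k.2
    have hyH : g⁻¹ * y * g ∈ H := (mem_cj_iff g H y).1 hg
    have h2 := (Subgroup.mem_normalizer_iff.1 (inv_mem hn) (g⁻¹ * y * g)).1 hyH
    have e : (g⁻¹ * (k : G))⁻¹ * (g⁻¹ * y * g) * (g⁻¹ * (k : G))⁻¹⁻¹ = (k : G)⁻¹ * y * k := by group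
    rwa [e] at h2

end main

/-- Let G be a finite group with a subgroup H whose order is coprime to its index (a Hall subgroup) and which meets each of its conjugates by elements outside N_G(H) trivially. Then every subgroup of G whose order is divisible only by primes dividing the order of H lies in a conjugate of H. -/
theorem result {G : Type*} [Group G] [Finite G] (H : Subgroup G)
    (hHall : (Nat.card H).Coprime H.index) (hTI : Cfsg.IsTISubset (H : Set G))
    (K : Subgroup G) (hK : ∀ q : ℕ, q.Prime → q ∣ Nat.card K → q ∣ Nat.card H) :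
    ∃ g : G, K ≤ H.map (MulAut.conj g).toMonoidHom := by
  by_cases hK1 : K = ⊥
  · exact ⟨1, by rw [hK1]; exact bot_le⟩
  have hcard : Nat.card K ≠ 1 := fun h => hK1 (Subgroup.card_eq_one.1 h)
  obtain ⟨p, hp, hpK⟩ := Nat.exists_prime_and_dvd hcard
  haveI := Fact.mk hp
  obtain ⟨x, hx⟩ := exists_prime_orderOf_dvd_card' (G := K) p hpK
  have hpH := hK p hp hpK
  obtain ⟨g, hg⟩ := exists_conj_mem H hHall hp (x := (x : G))
    (by rw [Subgroup.orderOf_coe]; exact hx) hpH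
  have hK' : cj g⁻¹ K ≤ H := by
    apply le_of_inf_ne_bot H hHall hTI (cj g⁻¹ K) (by rw [card_cj']; exact hK)
    intro hbot
    have hmem : g⁻¹ * (x : G) * g ∈ cj g⁻¹ K ⊓ H := by
      refine Subgroup.mem_inf.2 ⟨?_, (mem_cj_iff g H _).1 hg⟩
      rw [mem_cj_iff]
      have : g⁻¹⁻¹ * (g⁻¹ * (x : G) * g) * g⁻¹ = (x : G) := by group
      rw [this]; exact x.2
    rw [hbot, Subgroup.mem_bot] at hmem
    have hx1 : (x : G) = 1 := by
      have := congrArg (fun z => g * z * g⁻¹) hmem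
      simpa [mul_assoc] using this
    have : orderOf (x : G) = p := by rw [Subgroup.orderOf_coe]; exact hx
    rw [hx1, orderOf_one] at this
    exact hp.one_lt.ne' this.symm
  refine ⟨g, ?_⟩
  have h1 := cj_mono g hK'
  have h2 : cj g (cj g⁻¹ K) = K := by
    have := cj_inv_cj' g⁻¹ K
    rwa [inv_inv] at this
  rwa [h2] at h1

end Cfsg.Agent.S4116
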