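import Cfsg.Statements.S4117
import Cfsg.Agent.Lib.Helper4.ActBridge
import Cfsg.Agent.Lib.Helper7.CyclicSub
import Cfsg.Agent.Lib.Helper2.Index
import Cfsg.Agent.S0026
import Cfsg.Agent.S0027

set_option autoImplicit false
open Cfsg

namespace Cfsg.Agent.S4117


open Cfsg.Agent.Lib.Helper4

/-- A Z-group generated by the elements `k⁻¹ * a • k` is commutative. -/
theorem zgroup_comm {K A : Type*} [Group K] [Finite K] [IsZGroup K] [Group A]
    [MulDistribMulAction A K]
    (hgen : Subgroup.closure {y : K | ∃ (a : A) (k : K), y = k⁻¹ * a • k} = ⊤) :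
    ∀ x y : K, x * y = y * x := by
  have hDcyc : IsCyclic (commutator K) := IsZGroup.isCyclic_commutator K
  have hDchar : (commutator K).Characteristic := by
    unfold commutator; infer_instance
  have hDinv : ∀ a : A, ∀ d ∈ commutator K, a • d ∈ commutator K := by
    intro a d hd
    have h1 := (Subgroup.characteristic_iff_map_eq.1 hDchar) (MulDistribMulAction.toMulEquiv K a)
    rw [← h1]
    exact ⟨d, hd, rfl⟩
  obtain ⟨d₀, hd₀⟩ := IsCyclic.exists_generator (α := commutator K)
  have hDn : (commutator K).Normal := inferInstance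
  have hpow : ∀ k : K, ∃ m : ℤ, ∀ d ∈ commutator K, k * d * k⁻¹ = d ^ m := by
    intro k
    have h1 : k * (d₀ : K) * k⁻¹ ∈ commutator K := hDn.conj_mem _ d₀.2 k
    obtain ⟨m, hm⟩ := Subgroup.mem_zpowers_iff.1 (hd₀ ⟨_, h1⟩)
    have hm' : (d₀ : K) ^ m = k * (d₀ : K) * k⁻¹ := by
      have := congrArg Subtype.val hm
      simpa using this
    refine ⟨m, ?_⟩
    intro d hd
    obtain ⟨j, hj⟩ := Subgroup.mem_zpowers_iff.1 (hd₀ ⟨d, hd⟩)
    have hj' : (d₀ : K) ^ j = d := by
      have := congrArg Subtype.val hj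
      simpa using this
    rw [← hj', ← conj_zpow, ← hm', ← zpow_mul, ← zpow_mul, mul_comm]
  have hcent : Subgroup.closure {y : K | ∃ (a : A) (k : K), y = k⁻¹ * a • k} ≤
      Subgroup.centralizer (commutator K : Set K) := by
    rw [Subgroup.closure_le]
    rintro y ⟨a, k, rfl⟩
    rw [SetLike.mem_coe, Subgroup.mem_centralizer_iff]
    intro d hd
    obtain ⟨m, hm⟩ := hpow k
    have h1 : (a • k) * d * (a • k)⁻¹ = k * d * k⁻¹ := by
      have h2 : (a • k) * d * (a • k)⁻¹ = a • (k * (a⁻¹ • d) * k⁻¹) := by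
        rw [smul_mul', smul_mul', smul_inv', smul_smul, mul_inv_cancel, one_smul]
      rw [h2, hm _ (hDinv a⁻¹ d hd), smul_zpow', smul_smul, mul_inv_cancel, one_smul, hm d hd]
    have h3 : (a • k) * d = k * d * k⁻¹ * (a • k) := by
      rw [← h1]; group
    calc d * (k⁻¹ * a • k) = k⁻¹ * (k * d * k⁻¹ * (a • k)) := by group
      _ = k⁻¹ * ((a • k) * d) := by rw [h3]
      _ = k⁻¹ * a • k * d := by group
  rw [hgen] at hcent
  have hker : (Abelianization.of : K →* Abelianization K).ker ≤ Subgroup.center K := by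
    rw [Abelianization.ker_of]
    intro d hd
    rw [Subgroup.mem_center_iff]
    intro g
    have := hcent (Subgroup.mem_top g)
    rw [Subgroup.mem_centralizer_iff] at this
    exact (this d hd).symm
  exact fun a b => ((Abelianization.of : K →* Abelianization K).isMulCommutative_of_isCyclic_of_ker_le_center hker).is_comm.comm a b

/-- Norm-map lemma: in a commutative group generated by the `k⁻¹ * a • k`, fixed points have
order dividing `|A|`. -/
theorem norm_fixed {K A : Type*} [CommGroup K] [Group A] [Finite A]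
    [MulDistribMulAction A K]
    (hgen : Subgroup.closure {y : K | ∃ (a : A) (k : K), y = k⁻¹ * a • k} = ⊤)
    (x : K) (hx : ∀ a : A, a • x = x) : x ^ Nat.card A = 1 := by
  classical
  haveI : Fintype A := Fintype.ofFinite A
  let N : K →* K :=
    { toFun := fun k => ∏ a : A, a • k
      map_one' := by simp
      map_mul' := fun k l => by
        simp only [smul_mul']
        exact Finset.prod_mul_distrib }
  have hN : ∀ k : K, N k = ∏ a : A, a • k := fun k => rfl
  have hNb : ∀ (b : A) (k : K), N (b • k) = N k := by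
    intro b k
    rw [hN, hN]
    have := Equiv.prod_comp (Equiv.mulRight b) (fun a : A => a • k)
    rw [← this]
    apply Finset.prod_congr rfl
    intro a _
    rw [Equiv.coe_mulRight, mul_smul]
  have hle : Subgroup.closure {y : K | ∃ (a : A) (k : K), y = k⁻¹ * a • k} ≤ N.ker := by
    rw [Subgroup.closure_le]
    rintro y ⟨a, k, rfl⟩
    rw [SetLike.mem_coe, MonoidHom.mem_ker, map_mul, map_inv, hNb, inv_mul_cancel]
  rw [hgen] at hle
  have h1 : N x = 1 := MonoidHom.mem_ker.1 (hle (Subgroup.mem_top x))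
  rw [hN] at h1
  have h2 : ∏ a : A, a • x = x ^ Nat.card A := by
    rw [Finset.prod_congr rfl (fun a _ => hx a), Finset.prod_const, Finset.card_univ,
      Nat.card_eq_fintype_card]
  rw [← h2]; exact h1

/-- The induced action on an invariant subgroup. -/
@[reducible] def subAct {G A : Type*} [Group G] [Group A] [MulDistribMulAction A G] (K : Subgroup G)
    (hK : ∀ a : A, ∀ x ∈ K, a • x ∈ K) : MulDistribMulAction A K where
  smul a x := ⟨a • (x : G), hK a x x.2⟩
  one_smul x := Subtype.ext (one_smul A (x : G))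
  mul_smul a b x := Subtype.ext (mul_smul a b (x : G))
  smul_mul a x y := Subtype.ext (smul_mul' a (x : G) (y : G))
  smul_one a := Subtype.ext (smul_one a)

theorem comm_invariant {G A : Type*} [Group G] [Group A] [MulDistribMulAction A G] :
    ∀ a : A, ∀ x ∈ Subgroup.closure {y : G | ∃ (a : A) (g : G), y = g⁻¹ * a • g},
      a • x ∈ Subgroup.closure {y : G | ∃ (a : A) (g : G), y = g⁻¹ * a • g} := by
  intro a x hx
  induction hx using Subgroup.closure_induction with
  | mem y hy =>
    obtain ⟨b, g, rfl⟩ := hy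
    apply Subgroup.subset_closure
    refine ⟨a * b * a⁻¹, a • g, ?_⟩
    rw [smul_mul', smul_inv', smul_smul, smul_smul, inv_mul_cancel_right]
  | one => rw [smul_one]; exact Subgroup.one_mem _
  | mul y z _ _ hy hz => rw [smul_mul']; exact Subgroup.mul_mem _ hy hz
  | inv y _ hy => rw [smul_inv']; exact Subgroup.inv_mem _ hy

theorem comm_normal {G A : Type*} [Group G] [Group A] [MulDistribMulAction A G] :
    (Subgroup.closure {y : G | ∃ (a : A) (g : G), y = g⁻¹ * a • g}).Normal := by
  constructor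
  intro n hn h
  induction hn using Subgroup.closure_induction with
  | mem y hy =>
    obtain ⟨a, g, rfl⟩ := hy
    have e : h * (g⁻¹ * a • g) * h⁻¹ =
        ((g * h⁻¹)⁻¹ * a • (g * h⁻¹)) * ((h⁻¹)⁻¹ * a • h⁻¹)⁻¹ := by
      rw [smul_mul', smul_inv']
      group
    rw [e]
    exact Subgroup.mul_mem _ (Subgroup.subset_closure ⟨a, _, rfl⟩)
      (Subgroup.inv_mem _ (Subgroup.subset_closure ⟨a, _, rfl⟩))
  | one => simp
  | mul y z _ _ hy hz =>
    have e : h * (y * z) * h⁻¹ = (h * y * h⁻¹) * (h * z * h⁻¹) := by group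
    rw [e]; exact Subgroup.mul_mem _ hy hz
  | inv y _ hy =>
    have e : h * y⁻¹ * h⁻¹ = (h * y * h⁻¹)⁻¹ := by group
    rw [e]; exact Subgroup.inv_mem _ hy

/-- Let A be a finite group acting on the finite group G by automorphisms with the orders of A and G coprime, and suppose every Sylow subgroup of G is cyclic. Then the fixed-point subgroup C_G(A) is a Hall subgroup of G (its order is coprime to its index), the subgroup [G, A] generated by the elements g⁻¹·a(g) is cyclic and normal with [G, A] ∩ C_G(A) = 1 and [G, A]·C_G(A) = G. -/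
theorem result {G A : Type*} [Group G] [Finite G] [Group A] [Finite A]
    [MulDistribMulAction A G] (hcop : (Nat.card A).Coprime (Nat.card G))
    (hcyc : ∀ (p : ℕ) [Fact p.Prime] (P : Sylow p G), IsCyclic (P : Subgroup G)) :
    (Nat.card (MulAction.fixedPoints A G : Set G)).Coprime (Nat.card G / Nat.card (MulAction.fixedPoints A G : Set G)) ∧
    IsCyclic (Subgroup.closure {y : G | ∃ (a : A) (g : G), y = g⁻¹ * a • g}) ∧
    (Subgroup.closure {y : G | ∃ (a : A) (g : G), y = g⁻¹ * a • g}).Normal ∧
    (Subgroup.closure {y : G | ∃ (a : A) (g : G), y = g⁻¹ * a • g} : Set G) ∩ MulAction.fixedPoints A G = {1} ∧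
    Subgroup.closure {y : G | ∃ (a : A) (g : G), y = g⁻¹ * a • g} ⊔ Subgroup.closure (MulAction.fixedPoints A G) = ⊤ := by
  classical
  set K : Subgroup G := Subgroup.closure {y : G | ∃ (a : A) (g : G), y = g⁻¹ * a • g} with hKdef
  haveI hZ : IsZGroup G := ⟨fun p hp P => @hcyc p ⟨hp⟩ P⟩
  have hKinv : ∀ a : A, ∀ x ∈ K, a • x ∈ K := comm_invariant
  haveI hKn : K.Normal := comm_normal
  have hcoe : (abFix A G : Set G) = MulAction.fixedPoints A G := rfl
  have hclos : Subgroup.closure (MulAction.fixedPoints A G : Set G) = abFix A G := by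
    rw [← hcoe, Subgroup.closure_eq]
  -- K ⊔ C = ⊤
  have hsup : K ⊔ abFix A G = ⊤ := by
    have h1 := Cfsg.Agent.S0026.result (abA A G) (abK A G) abA_le_normalizer (ab_coprime hcop)
      (ab_solvable (Or.inr inferInstance))
    rw [ab_comm_top, ab_fix_top, ← Subgroup.map_sup] at h1
    unfold abK at h1
    exact Subgroup.map_injective ab_inl_injective h1
  -- K = [K, A]
  have hKK : Subgroup.closure {y : G | ∃ a : A, ∃ u ∈ K, y = u⁻¹ * a • u} = K := by
    have h1 := Cfsg.Agent.S0027.result (abA A G) (abK A G) abA_le_normalizer (ab_coprime hcop)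
      (ab_solvable (Or.inr inferInstance))
    rw [ab_comm_top, ab_comm_map] at h1
    exact Subgroup.map_injective ab_inl_injective h1
  letI actK : MulDistribMulAction A K := subAct K hKinv
  have hact : ∀ (a : A) (k : K), ((a • k : K) : G) = a • (k : G) := fun a k => rfl
  have hgen : Subgroup.closure {y : K | ∃ (a : A) (k : K), y = k⁻¹ * a • k} = ⊤ := by
    apply Subgroup.map_injective K.subtype_injective
    rw [MonoidHom.map_closure, ← MonoidHom.range_eq_map, Subgroup.range_subtype]
    conv_rhs => rw [← hKK]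
    congr 1
    ext y
    constructor
    · rintro ⟨z, ⟨a, k, rfl⟩, rfl⟩
      exact ⟨a, (k : G), k.2, rfl⟩
    · rintro ⟨a, u, hu, rfl⟩
      exact ⟨(⟨u, hu⟩ : K)⁻¹ * a • (⟨u, hu⟩ : K), ⟨a, ⟨u, hu⟩, rfl⟩, rfl⟩
  have hcomm : ∀ x y : K, x * y = y * x := zgroup_comm hgen
  -- K ∩ C = 1
  have hdisj : ∀ x : G, x ∈ K → x ∈ abFix A G → x = 1 := by
    intro x hxK hxC
    letI : CommGroup K := { (inferInstance : Group K) with mul_comm := hcomm }
    have h1 : (⟨x, hxK⟩ : K) ^ Nat.card A = 1 := by
      apply norm_fixed (A := A) hgen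
      intro a
      apply Subtype.ext
      exact hxC a
    have h1' : x ^ Nat.card A = 1 := by
      have := congrArg Subtype.val h1
      simpa using this
    have h2 : x ^ Nat.card G = 1 := pow_card_eq_one'
    have h3 := pow_gcd_eq_one.2 ⟨h1', h2⟩
    rw [Nat.Coprime.gcd_eq_one hcop, pow_one] at h3
    exact h3
  -- K cyclic
  haveI hKnil : Group.IsNilpotent K := by
    refine ⟨1, ?_⟩
    rw [Subgroup.upperCentralSeries_one, Subgroup.eq_top_iff']
    intro x
    rw [Subgroup.mem_center_iff]
    intro g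
    exact hcomm g x
  have hKcyc : IsCyclic K := inferInstance
  -- cardinalities
  have hinf : K ⊓ abFix A G = ⊥ := by
    rw [eq_bot_iff]
    intro x hx
    rw [Subgroup.mem_bot]
    exact hdisj x hx.1 hx.2
  have hcard : Nat.card K * Nat.card (abFix A G) = Nat.card G := by
    have h1 := Cfsg.Agent.Lib.Helper2.card_sup_mul_card_inf (abFix A G) K
      (by rw [Subgroup.normalizer_eq_top]; exact le_top)
    rw [sup_comm, inf_comm, hsup, hinf, Subgroup.card_top, Subgroup.card_bot, mul_one] at h1
    rw [h1, mul_comm]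
  have hcardC : Nat.card (MulAction.fixedPoints A G : Set G) = Nat.card (abFix A G) := rfl
  refine ⟨?_, hKcyc, hKn, ?_, ?_⟩
  · rw [hcardC, ← hcard, Nat.mul_div_cancel _ Nat.card_pos]
    by_contra hnc
    obtain ⟨p, hp, hpC, hpK⟩ := Nat.Prime.not_coprime_iff_dvd.1 hnc
    haveI : Fact p.Prime := ⟨hp⟩
    obtain ⟨c, hc⟩ := exists_prime_orderOf_dvd_card' (G := abFix A G) p hpC
    obtain ⟨k, hk⟩ := exists_prime_orderOf_dvd_card' (G := K) p hpK
    have hcG : orderOf (c : G) = p := by rw [Subgroup.orderOf_coe]; exact hc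
    have hkG : orderOf (k : G) = p := by rw [Subgroup.orderOf_coe]; exact hk
    have hpc : IsPGroup p (Subgroup.zpowers (c : G)) := by
      apply IsPGroup.of_card (n := 1)
      rw [Nat.card_zpowers, hcG, pow_one]
    have hpk : IsPGroup p (Subgroup.zpowers (k : G)) := by
      apply IsPGroup.of_card (n := 1)
      rw [Nat.card_zpowers, hkG, pow_one]
    obtain ⟨P, hP⟩ := hpc.exists_le_sylow
    obtain ⟨Q, hQ⟩ := hpk.exists_le_sylow
    obtain ⟨g, hg⟩ := MulAction.exists_smul_eq G Q P
    have hk'P : g * (k : G) * g⁻¹ ∈ (P : Subgroup G) := by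
      rw [← hg, Sylow.coe_subgroup_smul, Subgroup.mem_pointwise_smul_iff_inv_smul_mem]
      have : (MulAut.conj g)⁻¹ • (g * (k : G) * g⁻¹) = (k : G) := by
        rw [← map_inv, MulAut.smul_def, MulAut.conj_apply]; group
      rw [this]
      exact hQ (Subgroup.mem_zpowers _)
    have hk'K : g * (k : G) * g⁻¹ ∈ K := hKn.conj_mem _ k.2 g
    have hk'o : orderOf (g * (k : G) * g⁻¹) = p := by
      have hs : SemiconjBy g (k : G) (g * (k : G) * g⁻¹) := by
        unfold SemiconjBy; group
      rw [← hs.orderOf_eq]; exact hkG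
    haveI : IsCyclic (P : Subgroup G) := hcyc p P
    have heq : Subgroup.zpowers (c : G) = Subgroup.zpowers (g * (k : G) * g⁻¹) := by
      apply Cfsg.Agent.Lib.Helper7.eq_of_le_cyclic_of_card_eq (P : Subgroup G) _ _ hP
        ((Subgroup.zpowers_le).2 hk'P)
      rw [Nat.card_zpowers, Nat.card_zpowers, hcG, hk'o]
    have hcK : (c : G) ∈ K := by
      have : (c : G) ∈ Subgroup.zpowers (g * (k : G) * g⁻¹) := by
        rw [← heq]; exact Subgroup.mem_zpowers _
      exact (Subgroup.zpowers_le.2 hk'K) this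
    have hc1 : (c : G) = 1 := hdisj _ hcK c.2
    rw [hc1, orderOf_one] at hcG
    exact hp.one_lt.ne hcG
  · ext x
    rw [Set.mem_inter_iff, Set.mem_singleton_iff]
    constructor
    · rintro ⟨hxK, hxC⟩
      exact hdisj x hxK hxC
    · rintro rfl
      exact ⟨Subgroup.one_mem _, (abFix A G).one_mem⟩
  · rw [hclos]; exact hsup

end Cfsg.Agent.S4117
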