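import Mathlib
import Cfsg.Statements.S4126
import Cfsg.Agent.Lib.Helper4.Frobenius2
import Cfsg.Agent.Lib.Helper9.PAutFix
import Cfsg.Agent.Lib.Helper2.CoprimeIndex

set_option autoImplicit false
set_option maxHeartbeats 800000

open Cfsg
open scoped commutatorElement

namespace Cfsg.Agent.S4126

variable {G : Type*} [Group G]

/-- coprime conjugation fixing `x⁻¹ x^g` fixes `x`. -/
theorem conj_fix (p : ℕ) (g : G) (hg : (orderOf g).Coprime p) {x : G}
    (ht : g * (x⁻¹ * (g * x * g⁻¹)) * g⁻¹ = x⁻¹ * (g * x * g⁻¹)) {k : ℕ}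
    (hk : (x⁻¹ * (g * x * g⁻¹)) ^ p ^ k = 1) : g * x * g⁻¹ = x := by
  have hα : (orderOf (MulAut.conj g)).Coprime p :=
    Nat.Coprime.coprime_dvd_left (orderOf_map_dvd (MulAut.conj) g) hg
  have h1 : (MulAut.conj g) (x⁻¹ * (MulAut.conj g) x) = x⁻¹ * (MulAut.conj g) x := by
    rw [MulAut.conj_apply, MulAut.conj_apply]; exact ht
  have h2 : (x⁻¹ * (MulAut.conj g) x) ^ p ^ k = 1 := by
    rw [MulAut.conj_apply]; exact hk
  have := Cfsg.Agent.Lib.Helper9.fix_of_fix_comm p (MulAut.conj g) hα (x := x) h1 (k := k) h2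
  rwa [MulAut.conj_apply] at this

/-- Lemma 2: a `p'`-element whose conjugation on `N ⊴ P` is always realised inside the `p`-group
`P` centralises `N`. -/
theorem cent_of_fused (p : ℕ) [hp : Fact p.Prime] [Finite G] (P : Subgroup G) (hP : IsPGroup p P)
    (N : Subgroup G) (hNP : N ≤ P) (hPN : P ≤ Subgroup.normalizer (N : Set G)) (g : G)
    (hg : (orderOf g).Coprime p)
    (hfus : ∀ x ∈ N, ∃ u ∈ P, g * x * g⁻¹ = u * x * u⁻¹) :
    ∀ x ∈ N, g * x * g⁻¹ = x := by
  have key : ∀ i : ℕ, ∀ x : P, x ∈ Subgroup.upperCentralSeries P i → (x : G) ∈ N →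
      g * (x : G) * g⁻¹ = x := by
    intro i
    induction i with
    | zero =>
      intro x hx _
      rw [Subgroup.upperCentralSeries_zero, Subgroup.mem_bot] at hx
      rw [hx]; simp
    | succ i ih =>
      intro x hx hxN
      obtain ⟨u, hu, hgu⟩ := hfus x hxN
      have hx' : x⁻¹ ∈ Subgroup.upperCentralSeries P (i + 1) := inv_mem hx
      rw [Subgroup.mem_upperCentralSeries_succ_iff] at hx'
      have h1 := hx' ⟨u, hu⟩
      have huxN : u * (x : G) * u⁻¹ ∈ N := ((Subgroup.mem_normalizer_iff.1 (hPN hu)) _).1 hxN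
      have htN : (x : G)⁻¹ * (u * x * u⁻¹) ∈ N := N.mul_mem (N.inv_mem hxN) huxN
      have hval : ((⁅x⁻¹, (⟨u, hu⟩ : P)⁆ : P) : G) = (x : G)⁻¹ * (u * x * u⁻¹) := by
        rw [commutatorElement_def]
        simp [mul_assoc]
      have ht := ih ⁅x⁻¹, (⟨u, hu⟩ : P)⁆ h1 (by rw [hval]; exact htN)
      obtain ⟨k, hk⟩ := hP ⁅x⁻¹, (⟨u, hu⟩ : P)⁆
      apply conj_fix p g hg (k := k)
      · rw [hgu, ← hval]; exact ht
      · rw [hgu, ← hval]
        have := congrArg (Subtype.val) hk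
        simpa using this
  intro x hx
  haveI : Group.IsNilpotent P := hP.isNilpotent
  obtain ⟨n, hn⟩ := Group.IsNilpotent.nilpotent P
  exact key n ⟨x, hNP hx⟩ (by rw [hn]; trivial) hx


/-- Lemma 1: conjugation of an element with `p`-power class size is realised in a Sylow. -/
theorem fused_of_index [Finite G] (p : ℕ) [hp : Fact p.Prime] (P : Sylow p G) (x : G) {a : ℕ}
    (ha : (Subgroup.centralizer ({x} : Set G)).index = p ^ a) (g : G) :
    ∃ u ∈ (P : Subgroup G), g * x * g⁻¹ = u * x * u⁻¹ := by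
  have hcop : ((P : Subgroup G).index).Coprime (Subgroup.centralizer ({x} : Set G)).index := by
    rw [ha]
    apply Nat.Coprime.pow_right
    exact ((Nat.Prime.coprime_iff_not_dvd hp.out).2 P.not_dvd_index).symm
  obtain ⟨u, hu, c, hc, hgc⟩ :=
    Cfsg.Agent.Lib.Helper2.exists_mul_of_coprime_index (P : Subgroup G) _ hcop g
  refine ⟨u, hu, ?_⟩
  rw [Subgroup.mem_centralizer_singleton_iff] at hc
  rw [hgc, mul_inv_rev]
  calc u * c * x * (c⁻¹ * u⁻¹) = u * (c * x * c⁻¹) * u⁻¹ := by group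
    _ = u * x * u⁻¹ := by rw [hc, mul_inv_cancel_right]

theorem mem_sylow_of_index [Finite G] (p : ℕ) [hp : Fact p.Prime] (P : Sylow p G) (x : G) {k : ℕ}
    (hxk : x ^ p ^ k = 1) {a : ℕ}
    (ha : (Subgroup.centralizer ({x} : Set G)).index = p ^ a) : x ∈ (P : Subgroup G) := by
  have hz : IsPGroup p (Subgroup.zpowers x) := by
    obtain ⟨j, _, hj⟩ := (Nat.dvd_prime_pow hp.out).1 (orderOf_dvd_of_pow_eq_one hxk)
    apply IsPGroup.of_card (n := j)
    rw [Nat.card_zpowers, hj]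
  obtain ⟨P', hP'⟩ := hz.exists_le_sylow
  have hxP' : x ∈ (P' : Subgroup G) := hP' (Subgroup.mem_zpowers x)
  obtain ⟨t, ht⟩ := MulAction.exists_smul_eq G P' P
  obtain ⟨u, hu, hgu⟩ := fused_of_index p P' x ha t⁻¹
  rw [← ht, Sylow.coe_subgroup_smul, Subgroup.mem_pointwise_smul_iff_inv_smul_mem]
  rw [← map_inv, MulAut.smul_def, MulAut.conj_apply, hgu]
  exact mul_mem (mul_mem hu hxP') (inv_mem hu)

theorem small_order (p : ℕ) [hp : Fact p.Prime] {x : G} (hx1 : x ≠ 1) {n₀ : ℕ}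
    (hn3 : n₀ = p ∨ (p = 2 ∧ n₀ = 4)) (hx : x ^ n₀ = 1) :
    orderOf x = p ∨ (p = 2 ∧ orderOf x = 4) := by
  have hd := orderOf_dvd_of_pow_eq_one hx
  have hne : orderOf x ≠ 1 := fun h => hx1 (orderOf_eq_one_iff.1 h)
  rcases hn3 with rfl | ⟨hp2, rfl⟩
  · rcases (Nat.dvd_prime hp.out).1 hd with h | h
    · exact absurd h hne
    · exact Or.inl h
  · have h4 : (4 : ℕ) = 2 ^ 2 := by norm_num
    rw [h4] at hd
    obtain ⟨j, hj, hjo⟩ := (Nat.dvd_prime_pow Nat.prime_two).1 hd
    interval_cases j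
    · exact absurd (by simpa using hjo) hne
    · left; rw [hjo, hp2]; norm_num
    · right; exact ⟨hp2, by rw [hjo]; norm_num⟩

theorem main_claim [Finite G] (p : ℕ) [hp : Fact p.Prime]
    (h : ∀ x : G, (orderOf x = p ∨ (p = 2 ∧ orderOf x = 4)) →
      ∃ a : ℕ, (Subgroup.centralizer ({x} : Set G)).index = p ^ a)
    (P : Sylow p G) :
    ∀ n : ℕ, ∀ N : Subgroup G, Nat.card N = n → N.Normal → N ≤ (P : Subgroup G) →
      ∀ g : G, (orderOf g).Coprime p → ∀ x ∈ N, g * x * g⁻¹ = x := by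
  intro n
  induction n using Nat.strong_induction_on with
  | _ n ih =>
    intro N hNn hNnorm hNP
    haveI := hNnorm
    by_contra hcon
    push Not at hcon
    have IH : ∀ M : Subgroup G, M.Normal → M ≤ N → M ≠ N → ∀ g : G, (orderOf g).Coprime p →
        ∀ x ∈ M, g * x * g⁻¹ = x := by
      intro M hMn hMN hne
      have hlt : Nat.card M < n := by
        rw [← hNn]
        rcases (Subgroup.card_le_of_le hMN).lt_or_eq with h1 | h1
        · exact h1
        · exact absurd (Subgroup.eq_of_le_of_card_ge hMN h1.ge) hne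
      exact ih _ hlt M rfl hMn (hMN.trans hNP)
    have hNp : ∀ x ∈ N, ∃ k : ℕ, x ^ p ^ k = 1 := by
      intro x hx
      obtain ⟨k, hk⟩ := P.2 ⟨x, hNP hx⟩
      exact ⟨k, by simpa using congrArg Subtype.val hk⟩
    have red : ∀ M : Subgroup G, M.Normal → M ≤ N → M ≠ N →
        (∀ g : G, (orderOf g).Coprime p → ∀ x ∈ N, x⁻¹ * (g * x * g⁻¹) ∈ M) → False := by
      intro M hMn hMN hne hM
      obtain ⟨g, hg, x, hx, hgx⟩ := hcon
      apply hgx
      obtain ⟨k, hk⟩ := hNp _ (hMN (hM g hg x hx))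
      exact conj_fix p g hg (IH M hMn hMN hne g hg _ (hM g hg x hx)) hk
    -- the subgroup generated by the `p'`-elements
    obtain ⟨K, hK⟩ : ∃ K : Subgroup G,
      K = Subgroup.normalClosure {g : G | (orderOf g).Coprime p} := ⟨_, rfl⟩
    haveI hKn : K.Normal := by rw [hK]; infer_instance
    have hgK : ∀ g : G, (orderOf g).Coprime p → g ∈ K := by
      intro g hg
      rw [hK]
      exact Subgroup.subset_normalClosure hg
    have centK : ∀ M : Subgroup G, M.Normal →
        (∀ g : G, (orderOf g).Coprime p → ∀ x ∈ M, g * x * g⁻¹ = x) →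
        K ≤ Subgroup.centralizer (M : Set G) := by
      intro M hMn hM
      haveI := hMn
      rw [hK]
      apply Subgroup.normalClosure_le_normal
      intro g hg
      show g ∈ Subgroup.centralizer (M : Set G)
      rw [Subgroup.mem_centralizer_iff]
      intro m hm
      have := hM g hg m hm
      calc m * g = (g * m * g⁻¹) * g := by rw [this]
        _ = g * m := by group
    -- Step 0
    have hNK : ⁅N, K⁆ = N := by
      by_contra hne
      apply red ⁅N, K⁆ (Subgroup.commutator_normal N K) (Subgroup.commutator_le_left N K) hne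
      intro g hg x hx
      have e : x⁻¹ * (g * x * g⁻¹) = ⁅x⁻¹, g⁆ := by rw [commutatorElement_def]; group
      rw [e]
      exact Subgroup.commutator_mem_commutator (N.inv_mem hx) (hgK g hg)
    -- Step 1
    have hNbot : Nontrivial N := by
      obtain ⟨g, hg, x, hx, hgx⟩ := hcon
      refine ⟨⟨⟨x, hx⟩, 1, ?_⟩⟩
      intro h1
      have : x = 1 := congrArg Subtype.val h1
      apply hgx
      rw [this]; simp
    have hNpg : IsPGroup p N := P.2.to_le hNP
    obtain ⟨M, hMtop, hMpow, hMcomm⟩ :=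
      Cfsg.Agent.Lib.Helper9.exists_proper_frattini_like p hNpg
    obtain ⟨D, hD⟩ : ∃ D : Subgroup G, D = (M.map N.subtype).normalCore := ⟨_, rfl⟩
    haveI hDn : D.Normal := by rw [hD]; infer_instance
    have hDM : D ≤ M.map N.subtype := by rw [hD]; exact Subgroup.normalCore_le _
    have hDN : D ≤ N := hDM.trans (Subgroup.map_subtype_le M)
    have hDne : D ≠ N := by
      intro hDN'
      apply hMtop
      rw [eq_top_iff]
      intro y _
      have hy : (y : G) ∈ D := by rw [hDN']; exact y.2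
      obtain ⟨m, hm, hmy⟩ := hDM hy
      have : m = y := Subtype.ext hmy
      rw [← this]; exact hm
    have hpowD : ∀ x ∈ N, x ^ p ∈ D := by
      intro x hx
      rw [hD]
      intro b
      have hb : b * x * b⁻¹ ∈ N := hNnorm.conj_mem x hx b
      refine ⟨(⟨b * x * b⁻¹, hb⟩ : N) ^ p, hMpow _, ?_⟩
      simp [conj_pow]
    have hcommD : ∀ a ∈ N, ∀ b ∈ N, a * b * a⁻¹ * b⁻¹ ∈ D := by
      intro a ha b hb
      rw [hD]
      intro c
      have ha' : c * a * c⁻¹ ∈ N := hNnorm.conj_mem a ha c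
      have hb' : c * b * c⁻¹ ∈ N := hNnorm.conj_mem b hb c
      refine ⟨(⟨c * a * c⁻¹, ha'⟩ : N) * ⟨c * b * c⁻¹, hb'⟩ * (⟨c * a * c⁻¹, ha'⟩ : N)⁻¹ *
        (⟨c * b * c⁻¹, hb'⟩ : N)⁻¹, hMcomm _ _, ?_⟩
      simp
      group
    have hDfix := IH D hDn hDN hDne
    have hKD : K ≤ Subgroup.centralizer (D : Set G) := centK D hDn hDfix
    -- Step 2
    have hND : ⁅N, D⁆ = ⊥ := by
      have h1 : ⁅⁅K, D⁆, N⁆ = ⊥ := by
        have : ⁅K, D⁆ = ⊥ := Subgroup.commutator_eq_bot_iff_le_centralizer.2 hKD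
        rw [this, Subgroup.commutator_bot_left]
      have h2 : ⁅⁅D, N⁆, K⁆ = ⊥ := by
        have h3 : ⁅D, K⁆ = ⊥ := by
          rw [Subgroup.commutator_comm]
          exact Subgroup.commutator_eq_bot_iff_le_centralizer.2 hKD
        rw [eq_bot_iff, ← h3]
        exact Subgroup.commutator_mono (Subgroup.commutator_le_left D N) le_rfl
      have h4 := Subgroup.commutator_commutator_eq_bot_of_rotate h1 h2
      rwa [hNK] at h4
    have hDcent : ∀ d ∈ D, ∀ x ∈ N, Commute d x := by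
      intro d hd x hx
      have h5 : N ≤ Subgroup.centralizer (D : Set G) :=
        Subgroup.commutator_eq_bot_iff_le_centralizer.1 hND
      exact (Subgroup.mem_centralizer_iff.1 (h5 hx)) d hd
    -- Step 3: the exponent
    obtain ⟨n₀, hn1, hn2, hn3⟩ : ∃ n₀ : ℕ, p ∣ n₀.choose 2 ∧ p ∣ n₀ ∧
        (n₀ = p ∨ (p = 2 ∧ n₀ = 4)) := by
      by_cases hp2 : p = 2
      · refine ⟨4, ?_, ?_, Or.inr ⟨hp2, rfl⟩⟩
        · rw [hp2]; decide
        · rw [hp2]; decide
      · refine ⟨p, ?_, dvd_rfl, Or.inl rfl⟩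
        apply hp.out.dvd_choose_self (by norm_num)
        have := hp.out.two_le
        omega
    have hpowD' : ∀ x ∈ N, x ^ n₀ ∈ D := by
      intro x hx
      obtain ⟨m, hm⟩ := hn2
      rw [hm, pow_mul]
      exact D.pow_mem (hpowD x hx) m
    have hmulpow : ∀ a ∈ N, ∀ b ∈ N, (a * b) ^ n₀ = a ^ n₀ * b ^ n₀ := by
      intro a ha b hb
      have hcD : b * a * b⁻¹ * a⁻¹ ∈ D := hcommD b hb a ha
      have hc : b * a = (b * a * b⁻¹ * a⁻¹) * a * b := by group
      have hca : Commute (b * a * b⁻¹ * a⁻¹) a := hDcent _ hcD a ha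
      have hcb : Commute (b * a * b⁻¹ * a⁻¹) b := hDcent _ hcD b hb
      have hcp : (b * a * b⁻¹ * a⁻¹) ^ p = 1 := by
        have h6 := Cfsg.Agent.Lib.Helper9.pow_mul_of_comm hc hcb p
        have h7 : b ^ p * a = a * b ^ p := (hDcent _ (hpowD b hb) a ha).eq
        rw [h7, mul_assoc] at h6
        have h8 : (1 : G) * (a * b ^ p) = (b * a * b⁻¹ * a⁻¹) ^ p * (a * b ^ p) := by
          rw [one_mul]; exact h6
        exact (mul_right_cancel h8).symm
      have h9 := Cfsg.Agent.Lib.Helper9.mul_pow_of_comm hc hca hcb n₀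
      obtain ⟨m, hm⟩ := hn1
      rw [hm, pow_mul, hcp, one_pow, one_mul] at h9
      exact h9
    -- Step 4
    let Ω : Subgroup G :=
      { carrier := {x | x ∈ N ∧ x ^ n₀ = 1}
        mul_mem' := by
          rintro a b ⟨ha, ha'⟩ ⟨hb, hb'⟩
          exact ⟨N.mul_mem ha hb, by rw [hmulpow a ha b hb, ha', hb', one_mul]⟩
        one_mem' := ⟨N.one_mem, one_pow _⟩
        inv_mem' := by
          rintro a ⟨ha, ha'⟩
          exact ⟨N.inv_mem ha, by rw [inv_pow, ha', inv_one]⟩ }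
    have hΩmem : ∀ x, x ∈ Ω ↔ x ∈ N ∧ x ^ n₀ = 1 := fun x => Iff.rfl
    have hΩn : Ω.Normal := by
      refine ⟨fun x hx g => ?_⟩
      rw [hΩmem] at hx ⊢
      exact ⟨hNnorm.conj_mem x hx.1 g, by rw [conj_pow, hx.2, mul_one, mul_inv_cancel]⟩
    have hΩN : Ω ≤ N := fun x hx => ((hΩmem x).1 hx).1
    by_cases hΩne : Ω = N
    · -- exponent `p` or `4`
      obtain ⟨g, hg, x, hx, hgx⟩ := hcon
      apply hgx
      have hPN : (P : Subgroup G) ≤ Subgroup.normalizer (N : Set G) := by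
        rw [Subgroup.normalizer_eq_top]; exact le_top
      refine cent_of_fused p (P : Subgroup G) P.2 N hNP hPN g hg ?_ x hx
      intro y hy
      by_cases hy1 : y = 1
      · exact ⟨1, one_mem _, by rw [hy1]; simp⟩
      · have hyΩ : y ∈ Ω := by rw [hΩne]; exact hy
        have hord := small_order p hy1 hn3 ((hΩmem y).1 hyΩ).2
        obtain ⟨a, ha⟩ := h y hord
        exact fused_of_index p P y ha g
    · apply red Ω hΩn hΩN hΩne
      intro g hg x hx
      have hgx : g * x * g⁻¹ ∈ N := hNnorm.conj_mem x hx g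
      rw [hΩmem]
      refine ⟨N.mul_mem (N.inv_mem hx) hgx, ?_⟩
      rw [hmulpow _ (N.inv_mem hx) _ hgx, conj_pow, hDfix g hg _ (hpowD' x hx), inv_pow,
        inv_mul_cancel]

theorem frobHyp [Finite G] (p : ℕ) [hp : Fact p.Prime]
    (h : ∀ x : G, (orderOf x = p ∨ (p = 2 ∧ orderOf x = 4)) →
      ∃ a : ℕ, (Subgroup.centralizer ({x} : Set G)).index = p ^ a) :
    Cfsg.Agent.Lib.Helper4.FrobHyp p G := by
  intro Q hQ g hg hgp
  obtain ⟨P⟩ : Nonempty (Sylow p G) := inferInstance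
  have hsmallP : ∀ x : G, (x ^ p = 1 ∨ (p = 2 ∧ x ^ 4 = 1)) → x ∈ (P : Subgroup G) := by
    intro x hx
    by_cases hx1 : x = 1
    · rw [hx1]; exact one_mem _
    have hord : orderOf x = p ∨ (p = 2 ∧ orderOf x = 4) := by
      rcases hx with hx | ⟨hp2, hx⟩
      · exact small_order p hx1 (Or.inl rfl) hx
      · exact small_order p hx1 (Or.inr ⟨hp2, rfl⟩) hx
    obtain ⟨a, ha⟩ := h x hord
    have hxk : ∃ k, x ^ p ^ k = 1 := by
      rcases hx with hx | ⟨hp2, hx⟩
      · exact ⟨1, by rwa [pow_one]⟩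
      · refine ⟨2, ?_⟩
        rw [hp2]
        have h4 : (2 : ℕ) ^ 2 = 4 := by norm_num
        rw [h4]; exact hx
    obtain ⟨k, hk⟩ := hxk
    exact mem_sylow_of_index p P x hk ha
  have hsmall : ∀ x : G, (x ^ p = 1 ∨ (p = 2 ∧ x ^ 4 = 1)) → g * x * g⁻¹ = x := by
    intro x hx
    have hcore : x ∈ (P : Subgroup G).normalCore := by
      intro b
      apply hsmallP
      rcases hx with hx | ⟨hp2, hx⟩
      · left; rw [conj_pow, hx, mul_one, mul_inv_cancel]
      · right; exact ⟨hp2, by rw [conj_pow, hx, mul_one, mul_inv_cancel]⟩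
    exact main_claim p h P _ (P : Subgroup G).normalCore rfl inferInstance
      (Subgroup.normalCore_le _) g hgp x hcore
  obtain ⟨α, hα⟩ : ∃ α : MulAut Q, α = Subgroup.normalizerMonoidHom Q ⟨g, hg⟩ := ⟨_, rfl⟩
  have hαval : ∀ q : Q, ((α q : Q) : G) = g * q * g⁻¹ := by
    intro q
    rw [hα]
    rfl
  have hαord : (orderOf α).Coprime p := by
    have h1 : orderOf α ∣ orderOf (⟨g, hg⟩ : Subgroup.normalizer (Q : Set G)) := by
      rw [hα]; exact orderOf_map_dvd _ _
    rw [Subgroup.orderOf_mk] at h1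
    exact Nat.Coprime.coprime_dvd_left h1 hgp
  have hfix : ∀ x : Q, (x ^ p = 1 ∨ (p = 2 ∧ x ^ 4 = 1)) → α x = x := by
    intro x hx
    apply Subtype.ext
    rw [hαval]
    apply hsmall
    rcases hx with hx | ⟨hp2, hx⟩
    · left
      have := congrArg Subtype.val hx
      simpa using this
    · right
      refine ⟨hp2, ?_⟩
      have := congrArg Subtype.val hx
      simpa using this
  have h1 := Cfsg.Agent.Lib.Helper9.aut_eq_one_of_fix_small p hQ α hαord hfix
  rw [Subgroup.mem_centralizer_iff]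
  intro q hq
  have h2 := hαval ⟨q, hq⟩
  rw [h1] at h2
  have h3 : q = g * q * g⁻¹ := h2
  calc q * g = (g * q * g⁻¹) * g := by rw [← h3]
    _ = g * q := by group

theorem result {G : Type*} [Group G] [Finite G] (p : ℕ) [Fact p.Prime]
    (h : ∀ x : G, (orderOf x = p ∨ (p = 2 ∧ orderOf x = 4)) → ∃ a : ℕ, (Subgroup.centralizer ({x} : Set G)).index = p ^ a) :
    Cfsg.HasNormalPComplement p G := by
  obtain ⟨K, hKn, hc, hq⟩ :=
    Cfsg.Agent.Lib.Helper4.frob_hasNormalPComplement p (Nat.card G) G rfl (frobHyp p h)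
  exact Cfsg.Agent.Lib.Helper4.hasNormalPComplement_of_normal_hall p K hc hq

end Cfsg.Agent.S4126
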