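import Mathlib
import Cfsg.Statements.S4127
import Cfsg.Agent.S4126
import Cfsg.Agent.S4035
import Cfsg.Agent.S0028
import Cfsg.Agent.Lib.Helper4.NormalPComplement

set_option autoImplicit false
set_option maxHeartbeats 800000

open Cfsg

namespace Cfsg.Agent.S4127

theorem centralizer_mul_of_coprime {G : Type*} [Group G] (x y : G) (hxy : Commute x y)
    (hcop : (orderOf x).Coprime (orderOf y)) :
    Subgroup.centralizer ({x * y} : Set G) =
      Subgroup.centralizer {x} ⊓ Subgroup.centralizer {y} := by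
  ext g
  simp only [Subgroup.mem_inf, Subgroup.mem_centralizer_singleton_iff]
  constructor
  · intro h
    have hg : Commute g (x * y) := h
    obtain ⟨m, hm⟩ := exists_pow_eq_self_of_coprime (x := x) (n := orderOf y) hcop.symm
    have h1 : ((x * y) ^ orderOf y) ^ m = x := by
      rw [hxy.mul_pow, pow_orderOf_eq_one, mul_one]; exact hm
    have hgx : Commute g x := by
      rw [← h1]
      exact (hg.pow_right _).pow_right _
    have hgy : Commute g y := by
      have : y = x⁻¹ * (x * y) := by group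
      rw [this]
      exact hgx.inv_right.mul_right hg
    exact ⟨hgx.eq, hgy.eq⟩
  · rintro ⟨h1, h2⟩
    have hgx : Commute g x := h1
    have hgy : Commute g y := h2
    exact (hgx.mul_right hgy).eq

theorem mem_of_sup_eq_top {C : Type*} [Group C] (A B : Subgroup C) [A.Normal] (hsup : A ⊔ B = ⊤)
    (c : C) (hc : ∀ b ∈ B, (orderOf b).Coprime (orderOf c)) : c ∈ A := by
  have hcm : c ∈ A ⊔ B := by rw [hsup]; trivial
  rw [Subgroup.mem_sup_of_normal_left] at hcm
  obtain ⟨a, ha, b, hb, rfl⟩ := hcm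
  have h1 : (QuotientGroup.mk' A) (a * b) = (QuotientGroup.mk' A) b := by
    rw [map_mul]
    have : (QuotientGroup.mk' A) a = 1 := (QuotientGroup.eq_one_iff a).2 ha
    rw [this, one_mul]
  have h2 : orderOf ((QuotientGroup.mk' A) (a * b)) ∣ orderOf (a * b) := orderOf_map_dvd _ _
  have h3 : orderOf ((QuotientGroup.mk' A) (a * b)) ∣ orderOf b := by
    rw [h1]; exact orderOf_map_dvd _ _
  have h4 := Nat.dvd_gcd h3 h2
  rw [(hc b hb).gcd_eq_one] at h4
  have h5 : (QuotientGroup.mk' A) (a * b) = 1 := orderOf_eq_one_iff.1 (Nat.dvd_one.1 h4)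
  exact (QuotientGroup.eq_one_iff _).1 h5

/-- Let G be a finite group, p a prime and p^a the largest power of p dividing the size of any conjugacy class of G. If some element of p-power order has a conjugacy class of size exactly p^a, then G has a normal p-complement. -/
theorem result {G : Type*} [Group G] [Finite G] (p : ℕ) [Fact p.Prime]
    (a : ℕ) (hmax : ∀ y : G, ¬ p ^ (a + 1) ∣ (Subgroup.centralizer ({y} : Set G)).index)
    (hx : ∃ x : G, (∃ k : ℕ, orderOf x = p ^ k) ∧ (Subgroup.centralizer ({x} : Set G)).index = p ^ a) :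
    Cfsg.HasNormalPComplement p G := by
  have hp : p.Prime := Fact.out
  obtain ⟨x, ⟨k, hk⟩, hxa⟩ := hx
  obtain ⟨C, hC⟩ : ∃ C : Subgroup G, C = Subgroup.centralizer ({x} : Set G) := ⟨_, rfl⟩
  have hxC : x ∈ C := by rw [hC]; exact Subgroup.mem_centralizer_singleton_iff.2 rfl
  have hCidx : C.index = p ^ a := by rw [hC]; exact hxa
  have hCcls : ∀ y : C, (orderOf y).Coprime p → ¬ p ∣ (ConjClasses.mk y).carrier.ncard := by
    intro y hy
    rw [Cfsg.Agent.Lib.Helper6.ncard_class_eq_index]
    have e1 : Subgroup.centralizer ({y} : Set C) =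
        (Subgroup.centralizer ({(y : G)} : Set G)).subgroupOf C := by
      ext g
      rw [Subgroup.mem_centralizer_singleton_iff, Subgroup.mem_subgroupOf,
        Subgroup.mem_centralizer_singleton_iff]
      constructor
      · intro h
        have := congrArg Subtype.val h
        simpa using this
      · intro h
        apply Subtype.ext
        simpa using h
    rw [e1]
    show ¬ p ∣ (Subgroup.centralizer ({(y : G)} : Set G)).relIndex C
    intro hdvd
    have hcomm : Commute x (y : G) := by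
      have h0 : (y : G) ∈ Subgroup.centralizer ({x} : Set G) := (le_of_eq hC) y.2
      rw [Subgroup.mem_centralizer_singleton_iff] at h0
      exact h0.symm
    have hcop : (orderOf x).Coprime (orderOf (y : G)) := by
      rw [hk, Subgroup.orderOf_coe]
      exact Nat.Coprime.pow_left k hy.symm
    have e2 := centralizer_mul_of_coprime x (y : G) hcomm hcop
    have e3 : (Subgroup.centralizer ({x * (y : G)} : Set G)).index =
        (Subgroup.centralizer ({(y : G)} : Set G)).relIndex C * p ^ a := by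
      rw [e2, ← hC, ← hCidx, ← Subgroup.inf_relIndex_left]
      exact (Subgroup.relIndex_mul_index inf_le_left).symm
    apply hmax (x * y)
    rw [e3, pow_succ, mul_comm]
    exact Nat.mul_dvd_mul_right hdvd _
  obtain ⟨PC⟩ : Nonempty (Sylow p C) := inferInstance
  obtain ⟨hPCn, H, hHn, hHp, hinf, hsup⟩ := Cfsg.Agent.S4035.result hCcls PC
  haveI := hPCn
  haveI := hHn
  have hHcop : (Nat.card H).Coprime p := ((Nat.Prime.coprime_iff_not_dvd hp).2 hHp).symm
  have hHord : ∀ b ∈ H, (orderOf b).Coprime p := by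
    intro b hb
    have h1 : orderOf b ∣ Nat.card H := by
      have := orderOf_dvd_natCard (⟨b, hb⟩ : H)
      rwa [Subgroup.orderOf_mk] at this
    exact Nat.Coprime.coprime_dvd_left h1 hHcop
  have hPCord : ∀ b ∈ (PC : Subgroup C), ∃ j : ℕ, orderOf b = p ^ j := by
    intro b hb
    obtain ⟨j, hj⟩ := PC.2 ⟨b, hb⟩
    have h1 : b ^ p ^ j = 1 := by
      have := congrArg Subtype.val hj
      simpa using this
    obtain ⟨i, _, hi⟩ := (Nat.dvd_prime_pow hp).1 (orderOf_dvd_of_pow_eq_one h1)
    exact ⟨i, hi⟩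
  have hcommPH : ∀ u ∈ (PC : Subgroup C), ∀ h ∈ H, Commute u h :=
    fun u hu h hh => Subgroup.commute_of_normal_of_disjoint _ _ hPCn hHn (disjoint_iff.2 hinf) u h hu hh
  -- the Sylow subgroup of G and O_p(G)
  obtain ⟨S⟩ : Nonempty (Sylow p G) := inferInstance
  have hxk : x ^ p ^ k = 1 := by rw [← hk]; exact pow_orderOf_eq_one x
  have hxS : x ∈ (S : Subgroup G) := Cfsg.Agent.S4126.mem_sylow_of_index p S x hxk hxa
  obtain ⟨V, hV⟩ : ∃ V : Subgroup G, V = (S : Subgroup G).normalCore := ⟨_, rfl⟩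
  haveI hVn : V.Normal := by rw [hV]; infer_instance
  have hVS : V ≤ (S : Subgroup G) := by rw [hV]; exact Subgroup.normalCore_le _
  have hxV : x ∈ V := by
    rw [hV]
    intro b
    obtain ⟨u, hu, hbu⟩ := Cfsg.Agent.S4126.fused_of_index p S x hxa b
    rw [hbu]
    exact mul_mem (mul_mem hu hxS) (inv_mem hu)
  have hVp : IsPGroup p V := S.2.to_le hVS
  obtain ⟨Q, hQ⟩ : ∃ Q : Subgroup G, Q = H.map C.subtype := ⟨_, rfl⟩
  have hQcard : (Nat.card Q).Coprime p := by
    rw [hQ, Subgroup.card_map_of_injective C.subtype_injective]; exact hHcop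
  have hP₀ : IsPGroup p (V ⊓ C : Subgroup G) := hVp.to_le inf_le_left
  have hP₀PC : ∀ v (hv : v ∈ V ⊓ C), (⟨v, (Subgroup.mem_inf.1 hv).2⟩ : C) ∈ (PC : Subgroup C) := by
    intro v hv
    apply mem_of_sup_eq_top (PC : Subgroup C) H hsup
    intro b hb
    obtain ⟨j, hj⟩ := hVp ⟨v, (Subgroup.mem_inf.1 hv).1⟩
    have h1 : v ^ p ^ j = 1 := by
      have := congrArg Subtype.val hj
      simpa using this
    obtain ⟨i, _, hi⟩ := (Nat.dvd_prime_pow hp).1 (orderOf_dvd_of_pow_eq_one h1)
    rw [Subgroup.orderOf_mk v _, hi]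
    exact Nat.Coprime.pow_right i (hHord b hb)
  have hPQ : (V ⊓ C : Subgroup G) ≤ Subgroup.centralizer (Q : Set G) := by
    intro v hv
    rw [Subgroup.mem_centralizer_iff]
    intro h hh
    rw [hQ] at hh
    obtain ⟨h', hh', rfl⟩ := hh
    have := (hcommPH _ (hP₀PC v hv) h' hh').eq
    have := congrArg Subtype.val this
    simpa using this.symm
  have hnormV : Subgroup.normalizer (V : Set G) = ⊤ := Subgroup.normalizer_eq_top V
  have hQV : Q ≤ Subgroup.centralizer (V : Set G) := by
    refine Cfsg.Agent.S0028.result p (V ⊓ C) Q V hP₀ hQcard hVp hPQ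
      (by rw [hnormV]; exact le_top) (by rw [hnormV]; exact le_top) ?_
    intro v hv
    have hvV : v ∈ V := hv.1
    have hvc : v ∈ Subgroup.centralizer ((V ⊓ C : Subgroup G) : Set G) := hv.2
    have hxv : x * v = v * x := (Subgroup.mem_centralizer_iff.1 hvc) x ⟨hxV, hxC⟩
    have hvC : v ∈ C := by
      rw [hC, Subgroup.mem_centralizer_singleton_iff]; exact hxv.symm
    exact hPQ ⟨hvV, hvC⟩
  -- `Q` is normal
  have hQn : Q.Normal := by
    refine ⟨fun h hh g => ?_⟩
    have h1 : g * h * g⁻¹ ∈ Subgroup.centralizer (V : Set G) :=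
      (inferInstance : (Subgroup.centralizer (V : Set G)).Normal).conj_mem h (hQV hh) g
    have h2 : g * h * g⁻¹ ∈ C := by
      rw [hC, Subgroup.mem_centralizer_singleton_iff]
      exact ((Subgroup.mem_centralizer_iff.1 h1) x hxV).symm
    rw [hQ] at hh ⊢
    obtain ⟨h', hh', rfl⟩ := hh
    have h3 : (⟨g * (C.subtype h') * g⁻¹, h2⟩ : C) ∈ H := by
      apply mem_of_sup_eq_top H (PC : Subgroup C) (by rw [sup_comm]; exact hsup)
      intro b hb
      obtain ⟨j, hj⟩ := hPCord b hb
      rw [Subgroup.orderOf_mk (g * (C.subtype h') * g⁻¹) _, hj]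
      have e : orderOf (g * (C.subtype h') * g⁻¹) = orderOf h' := by
        have := MulEquiv.orderOf_eq (MulAut.conj g) (C.subtype h')
        rw [MulAut.conj_apply] at this
        rw [this]
        exact Subgroup.orderOf_coe h'
      rw [e]
      exact Nat.Coprime.pow_left j (hHord h' hh').symm
    exact ⟨_, h3, rfl⟩
  haveI := hQn
  -- index
  have hHidx : ∃ j : ℕ, H.index = p ^ j := by
    have hpq : IsPGroup p (C ⧸ H) := by
      intro c
      obtain ⟨c, rfl⟩ := QuotientGroup.mk_surjective c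
      have hcm : c ∈ (PC : Subgroup C) ⊔ H := by rw [hsup]; trivial
      rw [Subgroup.mem_sup_of_normal_right] at hcm
      obtain ⟨u, hu, h', hh', rfl⟩ := hcm
      obtain ⟨j, hj⟩ := PC.2 ⟨u, hu⟩
      refine ⟨j, ?_⟩
      have h1 : u ^ p ^ j = 1 := by
        have := congrArg Subtype.val hj
        simpa using this
      have h2 : ((u * h' : C) : C ⧸ H) = ((u : C) : C ⧸ H) := by
        rw [QuotientGroup.mk_mul]
        have : ((h' : C) : C ⧸ H) = 1 := (QuotientGroup.eq_one_iff h').2 hh'
        rw [this, mul_one]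
      rw [h2, ← QuotientGroup.mk_pow, h1]
      rfl
    obtain ⟨j, hj⟩ := IsPGroup.iff_card.1 hpq
    exact ⟨j, by rw [Subgroup.index_eq_card]; exact hj⟩
  obtain ⟨j, hj⟩ := hHidx
  have hQidx : Q.index = p ^ (j + a) := by
    rw [hQ, Subgroup.index_map_subtype, hj, hCidx, pow_add]
  exact Cfsg.Agent.Lib.Helper4.hasNormalPComplement_of_card_index p Q hQcard (j + a) hQidx

end Cfsg.Agent.S4127
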