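import Cfsg.Statements.S4134
import Cfsg.Agent.Lib.Helper4.TwoClass

set_option autoImplicit false
open Cfsg

namespace Cfsg.Agent.S4134


open Cfsg.Agent.Lib.Helper4 Cfsg.Agent.S4365

section
variable {G : Type*} [Group G] [Finite G]

/-- the central `p'`-part -/
def cpp (G : Type*) [Group G] (p : ℕ) : Subgroup G where
  carrier := {z | z ∈ Subgroup.center G ∧ (orderOf z).Coprime p}
  one_mem' := ⟨Subgroup.one_mem _, by rw [orderOf_one]; exact Nat.coprime_one_left p⟩
  mul_mem' := by
    rintro a b ⟨ha, ha'⟩ ⟨hb, hb'⟩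
    refine ⟨Subgroup.mul_mem _ ha hb, ?_⟩
    have hc : Commute a b := ((Subgroup.mem_center_iff.1 hb) a)
    have h1 := hc.orderOf_mul_dvd_lcm
    have h2 : (Nat.lcm (orderOf a) (orderOf b)).Coprime p :=
      Nat.Coprime.coprime_dvd_left (Nat.lcm_dvd_mul _ _) (Nat.Coprime.mul_left ha' hb')
    exact Nat.Coprime.coprime_dvd_left h1 h2
  inv_mem' := by
    rintro a ⟨ha, ha'⟩
    exact ⟨Subgroup.inv_mem _ ha, by rw [orderOf_inv]; exact ha'⟩

theorem mem_cpp {p : ℕ} {z : G} : z ∈ cpp G p ↔ z ∈ Subgroup.center G ∧ (orderOf z).Coprime p :=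
  Iff.rfl

/-- structure when all `q`-elements, `q ≠ p`, are central. -/
theorem structure_of_central (p : ℕ) [Fact p.Prime]
    (hK : ∀ q : ℕ, q.Prime → q ≠ p → ∀ y : G, IsRel q y → y ∈ Subgroup.center G)
    (P : Sylow p G) :
    (cpp G p).Normal ∧ (cpp G p).IsComplement' (P : Subgroup G) ∧ IsMulCommutative (cpp G p) ∧
      (∀ x ∈ cpp G p, ∀ y : G, x * y = y * x) ∧ (P : Subgroup G).Normal := by
  classical
  have hp : p.Prime := Fact.out
  have hcentral : ∀ x ∈ cpp G p, ∀ y : G, x * y = y * x := by
    intro x hx y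
    exact ((Subgroup.mem_center_iff.1 hx.1) y).symm
  have hNn : (cpp G p).Normal := by
    constructor
    intro z hz g
    have : g * z * g⁻¹ = z := by rw [← hcentral z hz g]; group
    rw [this]; exact hz
  have hNc : IsMulCommutative (cpp G p) :=
    ⟨⟨fun a b => Subtype.ext (hcentral a a.2 b)⟩⟩
  have hG0 : Nat.card G ≠ 0 := Nat.card_pos.ne'
  -- card N coprime to p
  have hcopN : (Nat.card (cpp G p)).Coprime p := by
    rw [Nat.coprime_comm, Nat.Prime.coprime_iff_not_dvd hp]
    intro hdvd
    obtain ⟨z, hz⟩ := exists_prime_orderOf_dvd_card' (G := cpp G p) p hdvd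
    have h1 : orderOf (z : G) = p := by rw [Subgroup.orderOf_coe]; exact hz
    have h2 := z.2.2
    rw [h1] at h2
    exact hp.one_lt.ne' (Nat.coprime_self p |>.1 h2)
  have hPcard : Nat.card (P : Subgroup G) = p ^ (Nat.card G).factorization p :=
    Sylow.card_eq_multiplicity P
  have hcop : (Nat.card (cpp G p)).Coprime (Nat.card (P : Subgroup G)) := by
    rw [hPcard]; exact Nat.Coprime.pow_right _ hcopN
  have hdvd1 : Nat.card (cpp G p) * Nat.card (P : Subgroup G) ∣ Nat.card G :=
    Nat.Coprime.mul_dvd_of_dvd_of_dvd hcop (Subgroup.card_subgroup_dvd_card _)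
      (Subgroup.card_subgroup_dvd_card _)
  have hN0 : Nat.card (cpp G p) * Nat.card (P : Subgroup G) ≠ 0 :=
    Nat.mul_ne_zero Nat.card_pos.ne' Nat.card_pos.ne'
  have hdvd2 : Nat.card G ∣ Nat.card (cpp G p) * Nat.card (P : Subgroup G) := by
    rw [← Nat.factorization_prime_le_iff_dvd hG0 hN0]
    intro q hq
    haveI : Fact q.Prime := ⟨hq⟩
    apply (Nat.Prime.pow_dvd_iff_le_factorization hq hN0).1
    by_cases hqp : q = p
    · subst hqp
      rw [← hPcard]
      exact Dvd.intro_left _ rfl
    · obtain ⟨Q⟩ : Nonempty (Sylow q G) := inferInstance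
      have hQcard : Nat.card (Q : Subgroup G) = q ^ (Nat.card G).factorization q :=
        Sylow.card_eq_multiplicity Q
      have hQN : (Q : Subgroup G) ≤ cpp G p := by
        intro x hx
        have h3 : (⟨x, hx⟩ : (Q : Subgroup G)) ^ Nat.card (Q : Subgroup G) = 1 := pow_card_eq_one'
        rw [hQcard] at h3
        have h4 : x ^ (q ^ (Nat.card G).factorization q) = 1 := congrArg Subtype.val h3
        refine ⟨hK q hq hqp x ⟨_, h4⟩, ?_⟩
        have h5 : orderOf x ∣ q ^ (Nat.card G).factorization q := orderOf_dvd_of_pow_eq_one h4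
        exact Nat.Coprime.coprime_dvd_left h5
          (Nat.Coprime.pow_left _ ((Nat.coprime_primes hq hp).2 hqp))
      rw [← hQcard]
      exact dvd_trans (Subgroup.card_dvd_of_le hQN) (Dvd.intro _ rfl)
  have hcard : Nat.card (cpp G p) * Nat.card (P : Subgroup G) = Nat.card G :=
    Nat.dvd_antisymm hdvd1 hdvd2
  have hcompl : (cpp G p).IsComplement' (P : Subgroup G) :=
    Subgroup.isComplement'_of_coprime hcard hcop
  refine ⟨hNn, hcompl, hNc, hcentral, ?_⟩
  constructor
  intro k hk g
  obtain ⟨⟨z, u⟩, hzu, -⟩ := hcompl.existsUnique g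
  have hg : (z : G) * (u : G) = g := hzu
  have hz := hcentral z z.2
  have e : g * k * g⁻¹ = (u : G) * k * (u : G)⁻¹ := by
    rw [← hg]
    calc (z : G) * u * k * ((z : G) * u)⁻¹ = (z : G) * (u * k * (u : G)⁻¹) * (z : G)⁻¹ := by group
      _ = (u * k * (u : G)⁻¹) * (z : G) * (z : G)⁻¹ := by rw [hz]
      _ = u * k * (u : G)⁻¹ := by group
  rw [e]
  exact Subgroup.mul_mem _ (Subgroup.mul_mem _ u.2 hk) (Subgroup.inv_mem _ u.2)

end


section
variable {G : Type*} [Group G] [Finite G]

/-- class sizes in a normal Sylow subgroup with central complement agree with those in `G`. -/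
theorem index_cz_sylow (p : ℕ) [Fact p.Prime] (P : Sylow p G) [hPn : (P : Subgroup G).Normal]
    (N : Subgroup G) (hN : N ≤ Subgroup.center G) (hsup : N ⊔ (P : Subgroup G) = ⊤)
    (y : (P : Subgroup G)) :
    (Subgroup.centralizer ({y} : Set (P : Subgroup G))).index = (cz (y : G)).index := by
  set H := cz (y : G) with hH
  have he : Subgroup.centralizer ({y} : Set (P : Subgroup G)) = H.subgroupOf (P : Subgroup G) := by
    ext g
    rw [Subgroup.mem_centralizer_singleton_iff, Subgroup.mem_subgroupOf, hH, mem_cz]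
    constructor
    · intro h; exact congrArg Subtype.val h
    · intro h; exact Subtype.ext h
  rw [he]
  have htop : H ⊔ (P : Subgroup G) = ⊤ := by
    rw [eq_top_iff, ← hsup]
    exact sup_le_sup_right (le_trans hN (center_le_cz _)) _
  have h1 := Cfsg.Agent.Lib.Helper2.card_sup_mul_card_inf H (P : Subgroup G)
    (by rw [Subgroup.normalizer_eq_top]; exact le_top)
  rw [htop, Subgroup.card_top] at h1
  have h2 := Subgroup.card_mul_index H
  have h3 := Subgroup.card_mul_index (H.subgroupOf (P : Subgroup G))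
  have h4 : Nat.card (H.subgroupOf (P : Subgroup G)) = Nat.card (H ⊓ (P : Subgroup G) : Subgroup G) := by
    rw [← Subgroup.inf_subgroupOf_right]
    exact Nat.card_congr (Subgroup.subgroupOfEquivOfLe inf_le_right).toEquiv
  rw [h4] at h3
  set cH := Nat.card H
  set c := Nat.card (H ⊓ (P : Subgroup G) : Subgroup G)
  have hcH : 0 < cH := Nat.card_pos
  have hc : 0 < c := Nat.card_pos
  have h5 : cH * c * (H.subgroupOf (P : Subgroup G)).index = cH * c * H.index := by
    calc cH * c * (H.subgroupOf (P : Subgroup G)).index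
        = cH * (c * (H.subgroupOf (P : Subgroup G)).index) := by ring
      _ = cH * Nat.card (P : Subgroup G) := by rw [h3]
      _ = Nat.card G * c := h1.symm
      _ = cH * H.index * c := by rw [h2]
      _ = cH * c * H.index := by ring
  exact Nat.eq_of_mul_eq_mul_left (Nat.mul_pos hcH hc) h5

end

/-- Let G be a finite group whose conjugacy classes have exactly two sizes, 1 and n > 1. Then n is a power of a prime p and G is the direct product of a p-group and an abelian group of order prime to p: its Sylow p-subgroup P is normal with an abelian normal complement centralizing it; moreover P has an abelian normal subgroup A with P/A of exponent dividing p. -/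
theorem result {G : Type*} [Group G] [Finite G] (n : ℕ) (hn : 1 < n)
    (h : ∀ x : G, (Subgroup.centralizer ({x} : Set G)).index = 1 ∨ (Subgroup.centralizer ({x} : Set G)).index = n) (hex : ∃ x : G, (Subgroup.centralizer ({x} : Set G)).index = n) :
    ∃ (p : ℕ) (_ : Fact p.Prime) (a : ℕ), n = p ^ a ∧ ∀ P : Sylow p G, (P : Subgroup G).Normal ∧
      (∃ N : Subgroup G, N.Normal ∧ N.IsComplement' (P : Subgroup G) ∧ IsMulCommutative N ∧
        ∀ x ∈ N, ∀ y ∈ (P : Subgroup G), x * y = y * x) ∧
      ∃ A : Subgroup (P : Subgroup G), A.Normal ∧ IsMulCommutative A ∧ ∀ y : (P : Subgroup G), y ^ p ∈ A := by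
  classical
  have hd : ∀ g : G, (cz g).index = 1 ∨ (cz g).index = n := h
  obtain ⟨x₀, hx₀⟩ := hex
  have hx₀c : x₀ ∉ Subgroup.center G := by
    intro hc
    have h1 : (cz x₀).index = 1 := (index_one_iff x₀).2 hc
    have h2 : (cz x₀).index = n := hx₀
    omega
  obtain ⟨p, hp, x, -, hxc, hxp⟩ := exists_noncentral_rel x₀ hx₀c
  haveI : Fact p.Prime := ⟨hp⟩
  have hK : ∀ q : ℕ, q.Prime → q ≠ p → ∀ y : G, IsRel q y → y ∈ Subgroup.center G := by
    intro q hq hqp y hyq
    by_contra hyc
    have T : TwoPrime G n :=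
      { hd := hd
        habel := cz_abelian_all hd hp hq (Ne.symm hqp) hxc hxp hyc hyq
        hrel := by
          intro r
          by_cases hr : r = p
          · exact ⟨q, hq, by rw [hr]; exact hqp, y, hyc, hyq⟩
          · exact ⟨p, hp, fun h => hr h.symm, x, hxc, hxp⟩ }
    exact T.false
  have hn0 : n ≠ 0 := by omega
  have hnpow : n = p ^ n.primeFactorsList.length := by
    apply Nat.eq_prime_pow_of_unique_prime_dvd hn0
    intro q hq hqn
    by_contra hqp
    haveI : Fact q.Prime := ⟨hq⟩
    obtain ⟨Q⟩ : Nonempty (Sylow q G) := inferInstance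
    have hQc : (Q : Subgroup G) ≤ cz x := by
      intro z hz
      apply center_le_cz x
      apply hK q hq hqp z
      refine ⟨(Nat.card G).factorization q, ?_⟩
      have h3 : (⟨z, hz⟩ : (Q : Subgroup G)) ^ Nat.card (Q : Subgroup G) = 1 := pow_card_eq_one'
      rw [Sylow.card_eq_multiplicity Q] at h3
      exact congrArg Subtype.val h3
    have h1 : q ^ (Nat.card G).factorization q ∣ Nat.card (cz x) := by
      rw [← Sylow.card_eq_multiplicity Q]; exact Subgroup.card_dvd_of_le hQc
    have h2 : q ^ (Nat.card G).factorization q * q ∣ Nat.card (cz x) * n :=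
      Nat.mul_dvd_mul h1 hqn
    rw [card_cz_mul hd hxc, ← pow_succ] at h2
    exact Nat.pow_succ_factorization_not_dvd Nat.card_pos.ne' hq h2
  set a := n.primeFactorsList.length with ha
  have ha1 : 1 ≤ a := by
    by_contra h0
    have h00 : a = 0 := by omega
    rw [h00, pow_zero] at hnpow
    omega
  refine ⟨p, ⟨hp⟩, a, hnpow, ?_⟩
  intro P
  obtain ⟨hNn, hcompl, hNc, hcentral, hPn⟩ := structure_of_central p hK P
  refine ⟨hPn, ⟨cpp G p, hNn, hcompl, hNc, fun x hx y _ => hcentral x hx y⟩, ?_⟩
  refine ⟨Subgroup.center (P : Subgroup G), inferInstance, inferInstance, ?_⟩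
  intro y
  have hNle : cpp G p ≤ Subgroup.center G := fun z hz => hz.1
  have hsup : cpp G p ⊔ (P : Subgroup G) = ⊤ := hcompl.sup_eq_top
  haveI := hPn
  apply Cfsg.Agent.S4365.result p P.isPGroup' a ha1 ?_ y
  ext k
  constructor
  · rintro ⟨w, hw⟩
    rw [index_cz_sylow p P (cpp G p) hNle hsup w] at hw
    rcases hd (w : G) with h1 | h1
    · left; rw [← hw]; exact h1
    · right; rw [← hw, ← hnpow]; exact h1
  · intro hk
    rcases hk with hk | hk
    · refine ⟨1, ?_⟩
      rw [index_cz_sylow p P (cpp G p) hNle hsup 1, hk]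
      exact (index_one_iff _).2 (by rw [Subgroup.coe_one]; exact Subgroup.one_mem _)
    · obtain ⟨⟨z, u⟩, hzu, -⟩ := hcompl.existsUnique x
      have hx' : (z : G) * (u : G) = x := hzu
      refine ⟨u, ?_⟩
      rw [index_cz_sylow p P (cpp G p) hNle hsup u]
      have hz : (z : G) ∈ Subgroup.center G := hNle z.2
      have e : cz x = cz (u : G) := by
        rw [← hx', hcentral z z.2 (u : G), cz_mul_central _ _ hz]
      rw [← e, index_cz_eq hd hxc]
      exact hk.symm ▸ hnpow

end Cfsg.Agent.S4134
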