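import Cfsg.Statements.S4142
import Cfsg.Agent.Lib.Lead.ClassSize

set_option autoImplicit false
open Cfsg

namespace Cfsg.Agent.S4142

open Cfsg.Agent.Lib.Lead in
theorem key {G : Type*} [Group G] [Finite G] (N : Subgroup G) [N.Normal] (g : G) :
    (∀ n ∈ N, ∃ x : G, x * g * x⁻¹ = g * n) ↔
      Nat.card (Subgroup.centralizer ({g} : Set G)) =
        Nat.card (Subgroup.centralizer ({(QuotientGroup.mk g : G ⧸ N)} : Set (G ⧸ N))) := by
  classical
  set A : Set G := {y : G | IsConj g y} with hAdef
  set B : Set (G ⧸ N) := {z : G ⧸ N | IsConj (QuotientGroup.mk g : G ⧸ N) z} with hBdef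
  set PB : Set G := (QuotientGroup.mk : G → G ⧸ N) ⁻¹' B with hPBdef
  have hAB : A ⊆ PB := by
    intro y hy
    obtain ⟨c, hc⟩ := isConj_iff.mp hy
    show IsConj (QuotientGroup.mk g : G ⧸ N) (QuotientGroup.mk y)
    rw [isConj_iff]
    exact ⟨QuotientGroup.mk c, by rw [← hc]; simp⟩
  have hPB : Nat.card PB = Nat.card N * Nat.card B := by
    rw [← Nat.card_prod]
    exact Nat.card_congr (QuotientGroup.preimageMkEquivSubgroupProdSet N B)
  have hA : Nat.card A * Nat.card (Subgroup.centralizer ({g} : Set G)) = Nat.card G :=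
    card_conj_mul_card_centralizer g
  have hB : Nat.card B * Nat.card (Subgroup.centralizer ({(QuotientGroup.mk g : G ⧸ N)} : Set (G ⧸ N)))
      = Nat.card (G ⧸ N) := card_conj_mul_card_centralizer _
  have hG : Nat.card G = Nat.card (G ⧸ N) * Nat.card N := Subgroup.card_eq_card_quotient_mul_card_subgroup N
  have hNpos : 0 < Nat.card N := Nat.card_pos
  have hBpos : 0 < Nat.card B := by
    have : Nonempty B := ⟨⟨QuotientGroup.mk g, IsConj.refl _⟩⟩
    exact Nat.card_pos
  have hCpos : 0 < Nat.card (Subgroup.centralizer ({g} : Set G)) := Nat.card_pos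
  constructor
  · intro hcam
    have hPBA : PB ⊆ A := by
      intro y hy
      have hy' : IsConj (QuotientGroup.mk g : G ⧸ N) (QuotientGroup.mk y) := hy
      obtain ⟨cbar, hc⟩ := isConj_iff.mp hy'
      obtain ⟨c, rfl⟩ := QuotientGroup.mk_surjective cbar
      have hmem : (c * g * c⁻¹)⁻¹ * y ∈ N := by
        rw [← QuotientGroup.eq]
        rw [← hc]; simp
      have hn : c⁻¹ * ((c * g * c⁻¹)⁻¹ * y) * c ∈ N := by
        have := Subgroup.Normal.conj_mem (inferInstance : N.Normal) _ hmem c⁻¹
        simpa using this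
      obtain ⟨x, hx⟩ := hcam _ hn
      show IsConj g y
      rw [isConj_iff]
      refine ⟨c * x, ?_⟩
      calc c * x * g * (c * x)⁻¹ = c * (x * g * x⁻¹) * c⁻¹ := by group
        _ = c * (g * (c⁻¹ * ((c * g * c⁻¹)⁻¹ * y) * c)) * c⁻¹ := by rw [hx]
        _ = y := by group
    have hAeq : A = PB := Set.Subset.antisymm hAB hPBA
    have hcardA : Nat.card A = Nat.card N * Nat.card B := by rw [hAeq]; exact hPB
    have h1 : Nat.card N * Nat.card B * Nat.card (Subgroup.centralizer ({g} : Set G)) =
        Nat.card N * Nat.card B * Nat.card (Subgroup.centralizer ({(QuotientGroup.mk g : G ⧸ N)} : Set (G ⧸ N))) := by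
      calc Nat.card N * Nat.card B * Nat.card (Subgroup.centralizer ({g} : Set G))
          = Nat.card A * Nat.card (Subgroup.centralizer ({g} : Set G)) := by rw [hcardA]
        _ = Nat.card G := hA
        _ = Nat.card (G ⧸ N) * Nat.card N := hG
        _ = (Nat.card B * Nat.card (Subgroup.centralizer ({(QuotientGroup.mk g : G ⧸ N)} : Set (G ⧸ N)))) * Nat.card N := by rw [hB]
        _ = _ := by ring
    exact Nat.eq_of_mul_eq_mul_left (Nat.mul_pos hNpos hBpos) h1
  · intro hcard n hn
    have hcardA : Nat.card A = Nat.card PB := by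
      rw [hPB]
      have h1 : Nat.card A * Nat.card (Subgroup.centralizer ({g} : Set G)) =
          Nat.card N * Nat.card B * Nat.card (Subgroup.centralizer ({g} : Set G)) := by
        calc Nat.card A * Nat.card (Subgroup.centralizer ({g} : Set G)) = Nat.card G := hA
          _ = Nat.card (G ⧸ N) * Nat.card N := hG
          _ = (Nat.card B * Nat.card (Subgroup.centralizer ({(QuotientGroup.mk g : G ⧸ N)} : Set (G ⧸ N)))) * Nat.card N := by rw [hB]
          _ = (Nat.card B * Nat.card (Subgroup.centralizer ({g} : Set G))) * Nat.card N := by rw [hcard]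
          _ = _ := by ring
      exact Nat.eq_of_mul_eq_mul_right hCpos h1
    have hAeq : A = PB := by
      apply Set.eq_of_subset_of_ncard_le hAB
      rw [← Nat.card_coe_set_eq, ← Nat.card_coe_set_eq, hcardA]
    have hgn : g * n ∈ PB := by
      show IsConj (QuotientGroup.mk g : G ⧸ N) (QuotientGroup.mk (g * n))
      have : (QuotientGroup.mk (g * n) : G ⧸ N) = QuotientGroup.mk g := by
        rw [QuotientGroup.eq]; simpa using hn
      rw [this]
    rw [← hAeq] at hgn
    exact isConj_iff.mp hgn

/-- Let G be a finite group and N a normal subgroup. Then the conjugacy class of every element g outside N is a union of cosets of N (gn is conjugate to g for all n ∈ N) if and only if for every g outside N the centralizer of g in G has the same order as the centralizer of gN in G/N. -/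
theorem result {G : Type*} [Group G] [Finite G] (N : Subgroup G) [N.Normal] :
    (∀ g : G, g ∉ N → ∀ n ∈ N, ∃ x : G, x * g * x⁻¹ = g * n) ↔
      ∀ g : G, g ∉ N → Nat.card (Subgroup.centralizer ({g} : Set G)) =
        Nat.card (Subgroup.centralizer ({(QuotientGroup.mk g : G ⧸ N)} : Set (G ⧸ N))) := by
  constructor
  · intro h g hg
    exact (key N g).mp (h g hg)
  · intro h g hg
    exact (key N g).mpr (h g hg)

end Cfsg.Agent.S4142
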