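import Cfsg.Statements.S4145
import Cfsg.Agent.Lib.Helper7.SylowBasic
import Cfsg.Agent.Lib.Helper7.CyclicAut
import Cfsg.Agent.Lib.Helper7.CyclicAut2
import Cfsg.Agent.Lib.Helper7.PSubFrattini
import Cfsg.Agent.Lib.Helper4.Frobenius2

set_option autoImplicit false
open Cfsg

namespace Cfsg.Agent.S4145

open Cfsg.Agent.Lib.Helper7 Cfsg.Agent.Lib.Helper4

variable {G : Type*} [Group G]

/-- `k ≡ 1 [MOD p]` as soon as `t ^ k * t⁻¹` lies in a subgroup not containing the `p`-element `t`. -/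
lemma modEq_one_of_mem {p : ℕ} [hp : Fact p.Prime] (H : Subgroup G) (t : G) (m k : ℕ)
    (ht : orderOf t = p ^ m) (hk : t ^ k * t⁻¹ ∈ H) (htH : t ∉ H) : k ≡ 1 [MOD p] := by
  by_contra hne
  apply htH
  have hcop : IsCoprime (((p ^ m : ℕ) : ℤ)) ((k : ℤ) - 1) := by
    push_cast
    apply IsCoprime.pow_left
    rw [Prime.coprime_iff_not_dvd (Nat.prime_iff_prime_int.mp hp.out)]
    intro hd
    apply hne
    apply Nat.ModEq.symm
    apply Nat.modEq_iff_dvd.mpr
    simpa using hd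
  obtain ⟨a, b, hab⟩ := hcop
  have h1 : t ^ k * t⁻¹ = t ^ ((k : ℤ) - 1) := by rw [zpow_sub, zpow_natCast, zpow_one]
  have h2 : t ^ (((p ^ m : ℕ) : ℤ)) = 1 := by rw [zpow_natCast, ← ht, pow_orderOf_eq_one]
  have h3 : t = (t ^ k * t⁻¹) ^ b := by
    rw [h1, ← zpow_mul]
    have h4 : ((k : ℤ) - 1) * b = 1 - ((p ^ m : ℕ) : ℤ) * a := by linarith
    rw [h4, zpow_sub, zpow_one, zpow_mul, h2, one_zpow, inv_one, mul_one]
  rw [h3]
  exact H.zpow_mem hk b

/-- `k ≡ 1 [MOD p]` when `c` commutes with a nontrivial power of `t`. -/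
lemma modEq_one_of_commute_pow {p : ℕ} [hp : Fact p.Prime] (c t : G) (m k j : ℕ)
    (ht : orderOf t = p ^ m) (hct : c * t * c⁻¹ = t ^ k) (hj : ¬ p ^ m ∣ j)
    (hcj : c * t ^ j = t ^ j * c) : k ≡ 1 [MOD p] := by
  have h3 : c * t ^ j * c⁻¹ = t ^ (k * j) := by
    rw [← conj_pow, hct, ← pow_mul]
  rw [hcj, mul_assoc, mul_inv_cancel, mul_one] at h3
  have h4 : j ≡ k * j [MOD p ^ m] := by
    rw [← ht]; exact pow_eq_pow_iff_modEq.mp h3
  by_contra hk
  apply hj
  have h5 : ((p ^ m : ℕ) : ℤ) ∣ ((k * j : ℕ) : ℤ) - (j : ℤ) := Nat.modEq_iff_dvd.mp h4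
  have h6 : ((k * j : ℕ) : ℤ) - (j : ℤ) = ((k : ℤ) - 1) * j := by push_cast; ring
  rw [h6] at h5
  have hcop : IsCoprime (((p ^ m : ℕ) : ℤ)) ((k : ℤ) - 1) := by
    push_cast
    apply IsCoprime.pow_left
    rw [Prime.coprime_iff_not_dvd (Nat.prime_iff_prime_int.mp hp.out)]
    intro hd
    apply hk
    apply Nat.ModEq.symm
    apply Nat.modEq_iff_dvd.mpr
    simpa using hd
  have := hcop.dvd_of_dvd_mul_left h5
  exact Int.natCast_dvd_natCast.mp this

/-- Burnside's normal `p`-complement theorem in the form used here. -/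
lemma burnside [Finite G] {p : ℕ} [Fact p.Prime] (P : Sylow p G)
    (h : Subgroup.normalizer (P : Set G) ≤ Subgroup.centralizer (P : Set G)) :
    (MonoidHom.transferSylow P h).ker.IsComplement' (P : Subgroup G) :=
  MonoidHom.ker_transferSylow_isComplement' P h

/-- A normal complement to a Sylow `p`-subgroup consists exactly of the `p'`-elements. -/
lemma mem_iff_of_isComplement' [Finite G] {p : ℕ} [hp : Fact p.Prime] (P : Sylow p G)
    (N : Subgroup G) [N.Normal] (hc : N.IsComplement' (P : Subgroup G)) (g : G) :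
    g ∈ N ↔ (orderOf g).Coprime p := by
  have h1 : Nat.card N * Nat.card P = Nat.card G := hc.card_mul_card
  have hidx : N.index = Nat.card P := hc.symm.index_eq_card
  have hcard : (Nat.card N).Coprime p := by
    have h2 : Nat.card N = (P : Subgroup G).index := hc.index_eq_card.symm
    rw [h2]
    exact (Nat.Coprime.symm ((Nat.Prime.coprime_iff_not_dvd hp.out).2 P.not_dvd_index))
  have hq : IsPGroup p (G ⧸ N) := by
    obtain ⟨a, ha⟩ := (IsPGroup.iff_card).1 P.2
    apply IsPGroup.of_card (n := a)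
    rw [← Subgroup.index_eq_card, hidx]
    exact ha
  exact mem_iff_coprime_of_normal_hall p N hcard hq g

/-- In a finite group with cyclic Sylow `p`-subgroup `P = ⟨t⟩`, an element `c ∈ N(P)` with
`c t c⁻¹ = t ^ k`, `k ≡ 1 [MOD p]`, commutes with `t`. -/
lemma commute_gen [Finite G] {p : ℕ} [hp : Fact p.Prime] (P : Sylow p G) (t : G) (htP : t ∈ P)
    (ht : ∀ y ∈ P, y ∈ Subgroup.zpowers t) (c : G)
    (hc : c ∈ Subgroup.normalizer (P : Set G)) (k : ℕ) (hk : c * t * c⁻¹ = t ^ k)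
    (hk1 : k ≡ 1 [MOD p]) : c * t = t * c := by
  obtain ⟨m, hm⟩ := orderOf_eq_prime_pow_of_mem_sylow P t htP
  have hc0 : orderOf c ≠ 0 := (orderOf_pos c).ne'
  obtain ⟨a, e, he, hae⟩ := Nat.exists_eq_pow_mul_and_not_dvd hc0 p hp.out.ne_one
  have hecop : e.Coprime p := (Nat.Coprime.symm ((Nat.Prime.coprime_iff_not_dvd hp.out).2 he))
  have he0 : e ≠ 0 := by
    rintro rfl
    exact he (dvd_zero p)
  have hce_ord : orderOf (c ^ e) = p ^ a := by
    rw [orderOf_pow_of_dvd he0 (by rw [hae]; exact dvd_mul_left e _), hae,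
      Nat.mul_div_cancel _ (Nat.pos_of_ne_zero he0)]
  have hz : IsPGroup p (Subgroup.zpowers (c ^ e)) := isPGroup_zpowers_of_orderOf _ a hce_ord
  have hzle : Subgroup.zpowers (c ^ e) ≤ Subgroup.normalizer (P : Set G) :=
    Subgroup.zpowers_le.mpr (Subgroup.pow_mem _ hc e)
  have hsup : IsPGroup p ((P : Subgroup G) ⊔ Subgroup.zpowers (c ^ e) : Subgroup G) :=
    P.2.to_sup_of_normal_left' hz hzle
  have heq := P.is_maximal' hsup le_sup_left
  have hceP : c ^ e ∈ (P : Subgroup G) := by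
    rw [← heq]
    exact Subgroup.mem_sup_right (Subgroup.mem_zpowers _)
  have hcomm : c ^ e * t = t * c ^ e := by
    obtain ⟨n, hn⟩ := Subgroup.mem_zpowers_iff.mp (ht _ hceP)
    rw [← hn]
    exact (Commute.zpow_self t n)
  exact commute_of_cyclic_action' p c t m k e hm hk hecop hcomm hk1

/-- A `p'`-element of `H ⊔ P` (`H` normal, `P` Sylow) lies in `H`. -/
lemma mem_left_of_coprime [Finite G] {p : ℕ} [Fact p.Prime] (P : Sylow p G) (H : Subgroup G)
    [H.Normal] (x : G) (hx : x ∈ H ⊔ (P : Subgroup G)) (hc : (orderOf x).Coprime p) : x ∈ H := by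
  obtain ⟨h, hh, u, hu, rfl⟩ := Subgroup.mem_sup_of_normal_left.mp hx
  rw [← QuotientGroup.eq_one_iff, ← orderOf_eq_one_iff]
  have e1 : ((h * u : G) : G ⧸ H) = (u : G ⧸ H) := by
    rw [QuotientGroup.mk_mul, (QuotientGroup.eq_one_iff h).mpr hh, one_mul]
  have h1 : orderOf ((h * u : G) : G ⧸ H) ∣ orderOf (h * u) :=
    orderOf_map_dvd (QuotientGroup.mk' H) _
  obtain ⟨j, hj⟩ := orderOf_eq_prime_pow_of_mem_sylow P u hu
  have h2 : orderOf ((h * u : G) : G ⧸ H) ∣ p ^ j := by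
    rw [e1, ← hj]
    exact orderOf_map_dvd (QuotientGroup.mk' H) u
  exact Nat.Coprime.eq_one_of_dvd (Nat.Coprime.pow_right j (Nat.Coprime.coprime_dvd_left h1 hc)) h2

/-- First core computation: `N_{HP}(P)` centralizes `P` when `P = ⟨t⟩ ≰ H`. -/
lemma core1 [Finite G] {p : ℕ} [Fact p.Prime] (P : Sylow p G) (t : G) (htP : t ∈ P)
    (hgen : ∀ y ∈ P, y ∈ Subgroup.zpowers t) (H : Subgroup G) [hHn : H.Normal]
    (h2 : p ∣ H.index) :
    ∀ x ∈ H ⊔ (P : Subgroup G), x ∈ Subgroup.normalizer ((P : Subgroup G) : Set G) →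
      ∀ y ∈ P, y * x = x * y := by
  have htH : t ∉ H := by
    intro htH
    have hPH : (P : Subgroup G) ≤ H := by
      intro y hy
      obtain ⟨n, hn⟩ := Subgroup.mem_zpowers_iff.mp (hgen y hy)
      rw [← hn]
      exact H.zpow_mem htH n
    exact P.not_dvd_index (h2.trans (Subgroup.index_dvd_of_le hPH))
  intro x hx hxN y hy
  obtain ⟨h, hh, u, hu, rfl⟩ := Subgroup.mem_sup_of_normal_left.mp hx
  have huN : u ∈ Subgroup.normalizer ((P : Subgroup G) : Set G) := Subgroup.le_normalizer hu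
  have hhN : h ∈ Subgroup.normalizer ((P : Subgroup G) : Set G) := by
    have : h = (h * u) * u⁻¹ := by group
    rw [this]
    exact Subgroup.mul_mem _ hxN (Subgroup.inv_mem _ huN)
  have h1 : h * t * h⁻¹ ∈ (P : Subgroup G) := (Subgroup.mem_normalizer_iff.mp hhN t).mp htP
  have h1' := hgen _ h1
  rw [← (isOfFinOrder_of_finite t).mem_powers_iff_mem_zpowers] at h1'
  obtain ⟨k, hk⟩ := (Submonoid.mem_powers_iff _ _).mp h1'
  obtain ⟨m, hm⟩ := orderOf_eq_prime_pow_of_mem_sylow P t htP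
  have hkH : t ^ k * t⁻¹ ∈ H := by
    rw [hk]
    have : h * t * h⁻¹ * t⁻¹ = h * (t * h⁻¹ * t⁻¹) := by group
    rw [this]
    exact H.mul_mem hh (hHn.conj_mem _ (H.inv_mem hh) t)
  have hk1 := modEq_one_of_mem H t m k hm hkH htH
  have hht : h * t = t * h := commute_gen P t htP hgen h hhN k hk.symm hk1
  obtain ⟨n, rfl⟩ := Subgroup.mem_zpowers_iff.mp (hgen y hy)
  obtain ⟨n', rfl⟩ := Subgroup.mem_zpowers_iff.mp (hgen u hu)
  have c1 : Commute h t := hht
  have c2 : Commute (t ^ n) (h * t ^ n') :=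
    ((c1.zpow_right n).symm).mul_right ((Commute.refl t).zpow_zpow n n')
  exact c2

/-- Second core computation: an element of `N(P)` commuting with a nontrivial element of the
cyclic Sylow subgroup `P = ⟨t⟩` centralizes `P`. -/
lemma core2 [Finite G] {p : ℕ} [Fact p.Prime] (P : Sylow p G) (t : G) (htP : t ∈ P)
    (hgen : ∀ y ∈ P, y ∈ Subgroup.zpowers t) (u₀ : G) (hu₀P : u₀ ∈ P) (hu₀ : u₀ ≠ 1)
    (x : G) (hxN : x ∈ Subgroup.normalizer ((P : Subgroup G) : Set G)) (hxu : x * u₀ = u₀ * x) :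
    ∀ y ∈ P, y * x = x * y := by
  have h1 : x * t * x⁻¹ ∈ (P : Subgroup G) := (Subgroup.mem_normalizer_iff.mp hxN t).mp htP
  have h1' := hgen _ h1
  rw [← (isOfFinOrder_of_finite t).mem_powers_iff_mem_zpowers] at h1'
  obtain ⟨k, hk⟩ := (Submonoid.mem_powers_iff _ _).mp h1'
  obtain ⟨m, hm⟩ := orderOf_eq_prime_pow_of_mem_sylow P t htP
  have h2' := hgen _ hu₀P
  rw [← (isOfFinOrder_of_finite t).mem_powers_iff_mem_zpowers] at h2'
  obtain ⟨j, hj⟩ := (Submonoid.mem_powers_iff _ _).mp h2'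
  have hjm : ¬ p ^ m ∣ j := by
    intro hd
    apply hu₀
    rw [← hj, ← hm] at *
    exact orderOf_dvd_iff_pow_eq_one.mp hd
  have hk1 := modEq_one_of_commute_pow x t m k j hm hk.symm hjm (by rw [hj]; exact hxu)
  have hxt : x * t = t * x := commute_gen P t htP hgen x hxN k hk.symm hk1
  intro y hy
  obtain ⟨n, rfl⟩ := Subgroup.mem_zpowers_iff.mp (hgen y hy)
  have c1 : Commute x t := hxt
  exact (c1.zpow_right n).symm

/-- `HasNormalPComplement` transfers along isomorphisms. -/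
lemma hasNormalPComplement_of_mulEquiv {A B : Type*} [Group A] [Group B] [Finite A] {p : ℕ}
    [Fact p.Prime] (e : A ≃* B) (h : HasNormalPComplement p A) : HasNormalPComplement p B := by
  haveI : Finite B := Finite.of_equiv A e.toEquiv
  obtain ⟨K, hKn, hc, hq⟩ := exists_normal_hall_of_hasNormalPComplement p h
  obtain ⟨a, ha⟩ := IsPGroup.iff_card.mp hq
  haveI : (K.map e.toMonoidHom).Normal := hKn.map _ e.surjective
  apply hasNormalPComplement_of_card_index p (K.map e.toMonoidHom) _ a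
  · rw [Subgroup.index_map_of_bijective e.bijective, Subgroup.index_eq_card]
    exact ha
  · rw [Subgroup.card_map_of_injective e.injective]
    exact hc

/-- Let G be a finite group with a cyclic Sylow p-subgroup and H a normal subgroup such that p divides both the order of H and the index of H. Then H has a normal p-complement and G is p-solvable. -/
theorem result {G : Type*} [Group G] [Finite G] (p : ℕ) [Fact p.Prime]
    (P : Sylow p G) (hP : IsCyclic (P : Subgroup G)) (H : Subgroup G) [H.Normal] (h1 : p ∣ Nat.card H) (h2 : p ∣ H.index) :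
    Cfsg.HasNormalPComplement p H ∧ Cfsg.IsPSolvable p G := by
  classical
  have hp : p.Prime := Fact.out
  have hHn : H.Normal := inferInstance
  -- a generator of `P`
  obtain ⟨g, hg⟩ := hP.exists_generator
  set t : G := (g : G) with ht
  have htP : t ∈ P := g.2
  have hgen : ∀ y ∈ P, y ∈ Subgroup.zpowers t := by
    intro y hy
    obtain ⟨n, hn⟩ := Subgroup.mem_zpowers_iff.mp (hg ⟨y, hy⟩)
    refine Subgroup.mem_zpowers_iff.mpr ⟨n, ?_⟩
    have := congrArg Subtype.val hn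
    simpa using this
  -- the group `G₁ = HP`
  set G₁ : Subgroup G := H ⊔ (P : Subgroup G) with hG₁
  have hPG₁ : (P : Subgroup G) ≤ G₁ := le_sup_right
  have hHG₁ : H ≤ G₁ := le_sup_left
  let P₁ : Sylow p G₁ := P.subtype hPG₁
  have hNC₁ : Subgroup.normalizer (P₁ : Set G₁) ≤ Subgroup.centralizer (P₁ : Set G₁) := by
    intro x hx
    have hx' : x ∈ Subgroup.normalizer ((P₁ : Subgroup G₁) : Set G₁) := hx
    have hxN : (x : G) ∈ Subgroup.normalizer ((P : Subgroup G) : Set G) := by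
      apply mem_normalizer_of_conj_mem
      intro y hy
      have := (Subgroup.mem_normalizer_iff.mp hx' ⟨y, hPG₁ hy⟩).mp hy
      exact this
    rw [Subgroup.mem_centralizer_iff]
    intro y hy
    apply Subtype.ext
    exact core1 P t htP hgen H h2 x x.2 hxN y hy
  set K₁ : Subgroup G₁ := (MonoidHom.transferSylow P₁ hNC₁).ker with hK₁
  haveI hK₁n : K₁.Normal := MonoidHom.normal_ker _
  have hK₁c : K₁.IsComplement' (P₁ : Subgroup G₁) := burnside P₁ hNC₁
  have hK₁mem := mem_iff_of_isComplement' P₁ K₁ hK₁c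
  -- part 1
  have hnpc₁ : HasNormalPComplement p ↥G₁ := ⟨P₁, K₁, hK₁n, hK₁c⟩
  have hnpcH : HasNormalPComplement p ↥H :=
    hasNormalPComplement_of_mulEquiv (Subgroup.subgroupOfEquivOfLe hHG₁)
      (hasNormalPComplement_subgroup p hnpc₁ (H.subgroupOf G₁))
  refine ⟨hnpcH, ?_⟩
  -- the normal `p`-complement `K` of `H`, inside `G`
  set K : Subgroup G := K₁.map G₁.subtype with hK
  have hKmem : ∀ x : G, x ∈ K ↔ x ∈ H ∧ (orderOf x).Coprime p := by
    intro x
    constructor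
    · rintro ⟨z, hz, rfl⟩
      have h3 : (orderOf z).Coprime p := (hK₁mem z).mp hz
      have h4 : orderOf (G₁.subtype z) = orderOf z := by
        rw [Subgroup.coe_subtype]; exact Subgroup.orderOf_coe z
      rw [h4]
      refine ⟨?_, h3⟩
      apply mem_left_of_coprime P H _ z.2
      rw [← Subgroup.orderOf_coe] at h3
      exact h3
    · rintro ⟨hxH, hxc⟩
      refine ⟨⟨x, hHG₁ hxH⟩, (hK₁mem _).mpr ?_, rfl⟩
      rw [Subgroup.orderOf_mk]
      exact hxc
  haveI hKn : K.Normal := by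
    refine ⟨fun n hn g => ?_⟩
    rw [hKmem] at hn ⊢
    exact ⟨hHn.conj_mem n hn.1 g, by rw [orderOf_conj_eq]; exact hn.2⟩
  have hKP : ∀ x ∈ K, x ∈ P → x = 1 := by
    intro x hxK hxP
    obtain ⟨j, hj⟩ := orderOf_eq_prime_pow_of_mem_sylow P x hxP
    have h3 := ((hKmem x).mp hxK).2
    rw [hj] at h3
    rw [← orderOf_eq_one_iff, hj]
    rcases Nat.eq_zero_or_pos j with rfl | hjpos
    · rfl
    · exfalso
      have := Nat.Coprime.eq_one_of_dvd h3.symm (dvd_pow_self p hjpos.ne')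
      exact hp.one_lt.ne' this
  have hdecomp : ∀ x ∈ G₁, ∃ k ∈ K, ∃ u ∈ P, x = k * u := by
    intro x hx
    have h3 : (⟨x, hx⟩ : G₁) ∈ K₁ ⊔ (P₁ : Subgroup G₁) := by
      rw [hK₁c.sup_eq_top]; exact Subgroup.mem_top _
    obtain ⟨k, hk, u, hu, hku⟩ := Subgroup.mem_sup_of_normal_left.mp h3
    refine ⟨k, ⟨k, hk, rfl⟩, u, hu, ?_⟩
    have := congrArg Subtype.val hku
    simpa using this.symm
  -- the centralizer `C` of `H/K` in `G`
  haveI hHKn : (H.map (QuotientGroup.mk' K)).Normal :=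
    hHn.map _ (QuotientGroup.mk'_surjective K)
  set C : Subgroup G := (Subgroup.centralizer
    ((H.map (QuotientGroup.mk' K) : Subgroup (G ⧸ K)) : Set (G ⧸ K))).comap (QuotientGroup.mk' K)
    with hC
  haveI hCn : C.Normal := by rw [hC]; infer_instance
  have hCmem : ∀ y : G, y ∈ C ↔ ∀ x ∈ H, (x : G ⧸ K) * (y : G ⧸ K) = (y : G ⧸ K) * (x : G ⧸ K) := by
    intro y
    rw [hC, Subgroup.mem_comap, Subgroup.mem_centralizer_iff]
    constructor
    · intro h x hx
      exact h _ ⟨x, hx, rfl⟩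
    · rintro h _ ⟨x, hx, rfl⟩
      exact h x hx
  have hPC : (P : Subgroup G) ≤ C := by
    intro y hy
    rw [hCmem]
    intro x hx
    obtain ⟨k, hk, u, hu, rfl⟩ := hdecomp x (hHG₁ hx)
    have e1 : ((k * u : G) : G ⧸ K) = (u : G ⧸ K) := by
      rw [QuotientGroup.mk_mul, (QuotientGroup.eq_one_iff k).mpr hk, one_mul]
    rw [e1, ← QuotientGroup.mk_mul, ← QuotientGroup.mk_mul]
    congr 1
    obtain ⟨n, rfl⟩ := Subgroup.mem_zpowers_iff.mp (hgen y hy)
    obtain ⟨n', rfl⟩ := Subgroup.mem_zpowers_iff.mp (hgen u hu)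
    exact ((Commute.refl t).zpow_zpow n' n)
  -- a nontrivial element of `P ⊓ H`
  obtain ⟨u₀, hu₀P, hu₀H, hu₀⟩ : ∃ u₀ : G, u₀ ∈ P ∧ u₀ ∈ H ∧ u₀ ≠ 1 := by
    obtain ⟨x, hx⟩ := exists_prime_orderOf_dvd_card' p h1
    have hxo : orderOf (x : G) = p ^ 1 := by rw [Subgroup.orderOf_coe, hx, pow_one]
    obtain ⟨P', hP'⟩ := exists_sylow_mem_of_orderOf (x : G) 1 hxo
    obtain ⟨a, rfl⟩ := MulAction.exists_smul_eq G P P'
    rw [mem_sylow_smul] at hP'
    refine ⟨a⁻¹ * x * a, hP', ?_, ?_⟩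
    · have := hHn.conj_mem x x.2 a⁻¹
      simpa using this
    · intro h3
      have h4 : (x : G) = 1 := by
        have : (x : G) = a * (a⁻¹ * x * a) * a⁻¹ := by group
        rw [this, h3]; group
      rw [h4, orderOf_one] at hxo
      exact hp.one_lt.ne' (by simpa using hxo.symm)
  -- Burnside inside `C`
  let P₂ : Sylow p C := P.subtype hPC
  have hNC₂ : Subgroup.normalizer (P₂ : Set C) ≤ Subgroup.centralizer (P₂ : Set C) := by
    intro x hx
    have hx' : x ∈ Subgroup.normalizer ((P₂ : Subgroup C) : Set C) := hx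
    have hxN : (x : G) ∈ Subgroup.normalizer ((P : Subgroup G) : Set G) := by
      apply mem_normalizer_of_conj_mem
      intro y hy
      have := (Subgroup.mem_normalizer_iff.mp hx' ⟨y, hPC hy⟩).mp hy
      exact this
    have hxu : (x : G) * u₀ = u₀ * x := by
      have h3 := (hCmem x).mp x.2 u₀ hu₀H
      have h4 : (x : G) * u₀ * (x : G)⁻¹ * u₀⁻¹ ∈ K := by
        rw [← QuotientGroup.eq_one_iff]
        simp only [QuotientGroup.mk_mul, QuotientGroup.mk_inv]
        rw [← h3]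
        group
      have h5 : (x : G) * u₀ * (x : G)⁻¹ * u₀⁻¹ ∈ (P : Subgroup G) :=
        Subgroup.mul_mem _ ((Subgroup.mem_normalizer_iff.mp hxN u₀).mp hu₀P)
          (Subgroup.inv_mem _ hu₀P)
      have h6 := hKP _ h4 h5
      calc (x : G) * u₀ = ((x : G) * u₀ * (x : G)⁻¹ * u₀⁻¹) * (u₀ * x) := by group
        _ = u₀ * x := by rw [h6, one_mul]
    rw [Subgroup.mem_centralizer_iff]
    intro y hy
    apply Subtype.ext
    exact core2 P t htP hgen u₀ hu₀P hu₀ x hxN hxu y hy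
  set K₂' : Subgroup C := (MonoidHom.transferSylow P₂ hNC₂).ker with hK₂'
  haveI hK₂'n : K₂'.Normal := MonoidHom.normal_ker _
  have hK₂'c : K₂'.IsComplement' (P₂ : Subgroup C) := burnside P₂ hNC₂
  have hK₂'mem := mem_iff_of_isComplement' P₂ K₂' hK₂'c
  set K₂ : Subgroup G := K₂'.map C.subtype with hK₂
  have hK₂C : K₂ ≤ C := Subgroup.map_subtype_le _
  have hK₂mem : ∀ x : G, x ∈ K₂ ↔ x ∈ C ∧ (orderOf x).Coprime p := by
    intro x
    constructor
    · rintro ⟨z, hz, rfl⟩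
      have h3 : (orderOf z).Coprime p := (hK₂'mem z).mp hz
      have h4 : orderOf (C.subtype z) = orderOf z := by
        rw [Subgroup.coe_subtype]; exact Subgroup.orderOf_coe z
      rw [h4]
      exact ⟨z.2, h3⟩
    · rintro ⟨hxC, hxc⟩
      refine ⟨⟨x, hxC⟩, (hK₂'mem _).mpr ?_, rfl⟩
      rw [Subgroup.orderOf_mk]
      exact hxc
  haveI hK₂n : K₂.Normal := by
    refine ⟨fun n hn g => ?_⟩
    rw [hK₂mem] at hn ⊢
    exact ⟨hCn.conj_mem n hn.1 g, by rw [orderOf_conj_eq]; exact hn.2⟩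
  have hK₂card : (Nat.card K₂).Coprime p := by
    rw [hK₂, Subgroup.card_map_of_injective C.subtype_injective]
    exact (Nat.Coprime.symm ((Nat.Prime.coprime_iff_not_dvd hp).2
      (MonoidHom.not_dvd_card_ker_transferSylow P₂ hNC₂)))
  have hK₂idx : ∃ a : ℕ, K₂.relIndex C = p ^ a := by
    obtain ⟨a, ha⟩ := (IsPGroup.iff_card).1 P₂.2
    refine ⟨a, ?_⟩
    have h3 : K₂.subgroupOf C = K₂' := Subgroup.comap_map_eq_self_of_injective C.subtype_injective K₂'
    show (K₂.subgroupOf C).index = p ^ a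
    rw [h3, hK₂'c.symm.index_eq_card]
    exact ha
  have hCidx : (C.index).Coprime p := by
    have h3 : C.index ∣ (P : Subgroup G).index := Subgroup.index_dvd_of_le hPC
    exact (Nat.Coprime.symm ((Nat.Prime.coprime_iff_not_dvd hp).2
      (fun h => P.not_dvd_index (h.trans h3))))
  refine ⟨3, ![⊥, K₂, C, ⊤], rfl, rfl, ?_, ?_, ?_⟩
  · apply Fin.monotone_iff_le_succ.mpr
    intro i
    fin_cases i
    · exact bot_le
    · exact hK₂C
    · exact le_top
  · intro i
    fin_cases i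
    · exact Subgroup.normal_bot
    · exact hK₂n
    · exact hCn
    · exact Subgroup.normal_top
  · intro i
    fin_cases i
    · right
      show ((⊥ : Subgroup G).relIndex K₂).Coprime p
      rw [Subgroup.relIndex_bot_left]
      exact hK₂card
    · left
      exact hK₂idx
    · right
      show (C.relIndex ⊤).Coprime p
      rw [Subgroup.relIndex_top_right]
      exact hCidx

end Cfsg.Agent.S4145
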