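import Mathlib
import Cfsg.Statements.S4153
import Cfsg.Agent.Lib.Helper4.Hall
import Cfsg.Agent.Lib.Helper7.SylowBasic

set_option autoImplicit false
open Cfsg

namespace Cfsg.Agent.S4153

open Cfsg.Agent.Lib.Helper4 Cfsg.Agent.Lib.Helper7

theorem result {G : Type*} [Group G] [Finite G] (p : ℕ) [Fact p.Prime] (N : Subgroup G) [N.Normal]
    (P : Sylow p G) (Pbar : Sylow p (G ⧸ N)) :
    Nat.card {g : (G ⧸ N) // ∃ k : ℕ, orderOf g = p ^ k} * Nat.card (P : Subgroup G) ≤ Nat.card {g : G // ∃ k : ℕ, orderOf g = p ^ k} * Nat.card (Pbar : Subgroup (G ⧸ N)) ∧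
    (N ≤ Subgroup.center G → Nat.card {g : (G ⧸ N) // ∃ k : ℕ, orderOf g = p ^ k} * Nat.card (P : Subgroup G) = Nat.card {g : G // ∃ k : ℕ, orderOf g = p ^ k} * Nat.card (Pbar : Subgroup (G ⧸ N))) := by
  classical
  have hpp : p.Prime := Fact.out
  have hcard : ∀ Q : Sylow p G, Nat.card ((Q : Subgroup G) ⊓ N : Subgroup G) *
      Nat.card (Pbar : Subgroup (G ⧸ N)) = Nat.card (P : Subgroup G) := by
    intro Q
    have h1 := card_sup_normal_eq N (Q : Subgroup G)
    have h2 := card_sup_mul_inf_normal N (Q : Subgroup G)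
    have h3 : Nat.card ((Q : Subgroup G).map (QuotientGroup.mk' N)) =
        Nat.card (Pbar : Subgroup (G ⧸ N)) := by
      have := Sylow.card_eq_multiplicity (Q.mapSurjective (QuotientGroup.mk'_surjective N))
      rw [Sylow.card_eq_multiplicity Pbar, ← this]; rfl
    have h4 : Nat.card (Q : Subgroup G) = Nat.card (P : Subgroup G) := by
      rw [Sylow.card_eq_multiplicity, Sylow.card_eq_multiplicity]
    rw [h1, h3, h4] at h2
    have hN : 0 < Nat.card N := Nat.card_pos
    apply Nat.eq_of_mul_eq_mul_right hN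
    rw [← h2]; ring
  obtain ⟨c, hc⟩ : ∃ c, c = Nat.card ((P : Subgroup G) ⊓ N : Subgroup G) := ⟨_, rfl⟩
  have hPbarpos : 0 < Nat.card (Pbar : Subgroup (G ⧸ N)) := Nat.card_pos
  have hcQ : ∀ Q : Sylow p G, Nat.card ((Q : Subgroup G) ⊓ N : Subgroup G) = c := by
    intro Q
    apply Nat.eq_of_mul_eq_mul_right hPbarpos
    rw [hcard Q, hc, hcard P]
  -- the map on p-elements
  have hφ : ∀ g : {g : G // ∃ k : ℕ, orderOf g = p ^ k},
      ∃ k : ℕ, orderOf ((g.1 : G) : G ⧸ N) = p ^ k := by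
    rintro ⟨g, k, hk⟩
    have h1 : orderOf ((g : G) : G ⧸ N) ∣ orderOf g := orderOf_map_dvd (QuotientGroup.mk' N) g
    rw [hk] at h1
    obtain ⟨j, _, hj⟩ := (Nat.dvd_prime_pow hpp).1 h1
    exact ⟨j, hj⟩
  let φ : {g : G // ∃ k : ℕ, orderOf g = p ^ k} → {g : (G ⧸ N) // ∃ k : ℕ, orderOf g = p ^ k} :=
    fun g => ⟨((g.1 : G) : G ⧸ N), hφ g⟩
  have hfib : ∀ y : {g : (G ⧸ N) // ∃ k : ℕ, orderOf g = p ^ k},
      c ≤ Nat.card {g : {g : G // ∃ k : ℕ, orderOf g = p ^ k} // φ g = y} ∧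
      (N ≤ Subgroup.center G →
        Nat.card {g : {g : G // ∃ k : ℕ, orderOf g = p ^ k} // φ g = y} = c) := by
    rintro ⟨y, k, hk⟩
    obtain ⟨R, hR⟩ := exists_sylow_mem_of_orderOf (p := p) y k hk
    obtain ⟨Q, hQ⟩ := Sylow.mapSurjective_surjective (QuotientGroup.mk'_surjective N) p R
    have hy : y ∈ (Q : Subgroup G).map (QuotientGroup.mk' N) := by
      have : y ∈ ((Q.mapSurjective (QuotientGroup.mk'_surjective N) : Sylow p (G ⧸ N)) :
          Subgroup (G ⧸ N)) := by rw [hQ]; exact hR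
      exact this
    obtain ⟨t, htQ, hty⟩ := hy
    have hpel : ∀ n : ((Q : Subgroup G) ⊓ N : Subgroup G), ∃ k : ℕ, orderOf (t * (n : G)) = p ^ k :=
      fun n => orderOf_eq_prime_pow_of_mem_sylow Q _
        (Subgroup.mul_mem _ htQ (Subgroup.mem_inf.1 n.2).1)
    let ψ : ((Q : Subgroup G) ⊓ N : Subgroup G) →
        {g : {g : G // ∃ k : ℕ, orderOf g = p ^ k} // φ g = ⟨y, k, hk⟩} :=
      fun n => ⟨⟨t * (n : G), hpel n⟩, by
        apply Subtype.ext
        show ((t * (n : G) : G) : G ⧸ N) = y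
        rw [← hty]
        show (QuotientGroup.mk' N) (t * (n : G)) = (QuotientGroup.mk' N) t
        rw [map_mul]
        have : (QuotientGroup.mk' N) (n : G) = 1 :=
          (QuotientGroup.eq_one_iff _).2 (Subgroup.mem_inf.1 n.2).2
        rw [this, mul_one]⟩
    have hψinj : Function.Injective ψ := by
      intro n n' h
      have h1 := congrArg (fun z => (z.1.1 : G)) h
      have h2 : t * (n : G) = t * (n' : G) := h1
      exact Subtype.ext (mul_left_cancel h2)
    constructor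
    · rw [← hcQ Q]
      exact Nat.card_le_card_of_injective ψ hψinj
    · intro hZ
      rw [← hcQ Q]
      symm
      apply Nat.card_congr
      refine Equiv.ofBijective ψ ⟨hψinj, ?_⟩
      rintro ⟨⟨g, kg, hkg⟩, hg⟩
      have hgy : ((g : G) : G ⧸ N) = y := congrArg Subtype.val hg
      have hnN : t⁻¹ * g ∈ N := by
        rw [← QuotientGroup.eq]
        show (QuotientGroup.mk' N) t = _
        rw [hty]; exact hgy.symm
      have hncen : t⁻¹ * g ∈ Subgroup.center G := hZ hnN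
      have hnQ : t⁻¹ * g ∈ (Q : Subgroup G) := by
        -- p-element
        obtain ⟨kt, hkt⟩ := orderOf_eq_prime_pow_of_mem_sylow Q t htQ
        have hcomm : Commute t⁻¹ g := by
          have h1 := (Subgroup.mem_center_iff.1 hncen) t
          -- t * (t⁻¹ g) = (t⁻¹ g) * t  ⇒ g = t⁻¹ g t
          have h2 : g = t⁻¹ * g * t := by
            calc g = t * (t⁻¹ * g) := by group
              _ = t⁻¹ * g * t := h1
          show t⁻¹ * g = g * t⁻¹
          calc t⁻¹ * g = t⁻¹ * g * t * t⁻¹ := by group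
            _ = g * t⁻¹ := by rw [← h2]
        have hpow : (t⁻¹ * g) ^ (p ^ (kt + kg)) = 1 := by
          rw [hcomm.mul_pow, inv_pow]
          have h1 : t ^ (p ^ (kt + kg)) = 1 := by
            rw [pow_add, pow_mul, ← hkt, pow_orderOf_eq_one, one_pow]
          have h2 : g ^ (p ^ (kt + kg)) = 1 := by
            rw [pow_add, mul_comm, pow_mul, ← hkg, pow_orderOf_eq_one, one_pow]
          rw [h1, h2]; simp
        have hpg : IsPGroup p (Subgroup.zpowers (t⁻¹ * g)) := by
          have hd : orderOf (t⁻¹ * g) ∣ p ^ (kt + kg) := orderOf_dvd_of_pow_eq_one hpow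
          obtain ⟨j, _, hj⟩ := (Nat.dvd_prime_pow hpp).1 hd
          exact isPGroup_zpowers_of_orderOf _ j hj
        haveI : (Subgroup.zpowers (t⁻¹ * g)).Normal := by
          refine ⟨fun z hz x => ?_⟩
          obtain ⟨i, rfl⟩ := Subgroup.mem_zpowers_iff.1 hz
          have hzc : (t⁻¹ * g) ^ i ∈ Subgroup.center G := Subgroup.zpow_mem _ hncen i
          have h1 := (Subgroup.mem_center_iff.1 hzc) x
          have : x * (t⁻¹ * g) ^ i * x⁻¹ = (t⁻¹ * g) ^ i := by
            rw [h1]; group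
          rw [this]; exact Subgroup.zpow_mem _ (Subgroup.mem_zpowers _) i
        exact hpg.le_sylow_of_normal Q (Subgroup.mem_zpowers _)
      refine ⟨⟨t⁻¹ * g, Subgroup.mem_inf.2 ⟨hnQ, hnN⟩⟩, ?_⟩
      apply Subtype.ext
      apply Subtype.ext
      show t * (t⁻¹ * g) = g
      group
  haveI : Fintype {g : (G ⧸ N) // ∃ k : ℕ, orderOf g = p ^ k} := Fintype.ofFinite _
  have hsum : Nat.card {g : G // ∃ k : ℕ, orderOf g = p ^ k} =
      ∑ y : {g : (G ⧸ N) // ∃ k : ℕ, orderOf g = p ^ k},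
        Nat.card {g : {g : G // ∃ k : ℕ, orderOf g = p ^ k} // φ g = y} := by
    rw [← Nat.card_sigma]
    exact Nat.card_congr (Equiv.sigmaFiberEquiv φ).symm
  have hcardU : Nat.card {g : (G ⧸ N) // ∃ k : ℕ, orderOf g = p ^ k} * c ≤
      Nat.card {g : G // ∃ k : ℕ, orderOf g = p ^ k} := by
    rw [hsum, Nat.card_eq_fintype_card, ← Finset.card_univ, ← smul_eq_mul, ← Finset.sum_const]
    exact Finset.sum_le_sum (fun y _ => (hfib y).1)
  have hP : Nat.card (P : Subgroup G) = c * Nat.card (Pbar : Subgroup (G ⧸ N)) := by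
    rw [hc]; exact (hcard P).symm
  constructor
  · rw [hP]
    calc Nat.card {g : (G ⧸ N) // ∃ k : ℕ, orderOf g = p ^ k} *
          (c * Nat.card (Pbar : Subgroup (G ⧸ N)))
        = (Nat.card {g : (G ⧸ N) // ∃ k : ℕ, orderOf g = p ^ k} * c) *
          Nat.card (Pbar : Subgroup (G ⧸ N)) := by ring
      _ ≤ _ := Nat.mul_le_mul_right _ hcardU
  · intro hZ
    have heq : Nat.card {g : (G ⧸ N) // ∃ k : ℕ, orderOf g = p ^ k} * c =
        Nat.card {g : G // ∃ k : ℕ, orderOf g = p ^ k} := by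
      rw [hsum, Nat.card_eq_fintype_card, ← Finset.card_univ, ← smul_eq_mul, ← Finset.sum_const]
      exact Finset.sum_congr rfl (fun y _ => ((hfib y).2 hZ).symm)
    rw [hP, ← heq]; ring

end Cfsg.Agent.S4153
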