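import Cfsg.Statements.S4154
import Mathlib

set_option autoImplicit false
open Cfsg

namespace Cfsg.Agent.S4154

/-- fixed points of α -/
def fixedSub {G : Type*} [Group G] (α : MulAut G) : Subgroup G where
  carrier := {x | α x = x}
  mul_mem' := by
    intro a b ha hb
    simp only [Set.mem_setOf_eq] at *
    rw [map_mul, ha, hb]
  one_mem' := by simp
  inv_mem' := by
    intro a ha
    simp only [Set.mem_setOf_eq] at *
    rw [map_inv, ha]

/-- elements fixed mod N -/
def fixedMod {G : Type*} [Group G] (α : MulAut G) (N : Subgroup G) [hn : N.Normal] : Subgroup G where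
  carrier := {x | x⁻¹ * α x ∈ N}
  mul_mem' := by
    intro a b ha hb
    simp only [Set.mem_setOf_eq] at *
    have h1 : (a * b)⁻¹ * α (a * b) = (b⁻¹ * (a⁻¹ * α a) * b) * (b⁻¹ * α b) := by
      rw [map_mul]; group
    rw [h1]
    exact N.mul_mem (hn.conj_mem' _ ha b) hb
  one_mem' := by simp
  inv_mem' := by
    intro a ha
    simp only [Set.mem_setOf_eq] at *
    have h1 : (a⁻¹)⁻¹ * α (a⁻¹) = a * (a⁻¹ * α a)⁻¹ * a⁻¹ := by
      rw [map_inv]; group
    rw [h1]
    exact hn.conj_mem _ (N.inv_mem ha) a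

theorem result {G : Type*} [Group G] [Finite G] (α : MulAut G)
    (hccp : ∀ x : G, ∃ c g : G, α c = c ∧ x = c * (g⁻¹ * α g))
    (N : Subgroup G) [N.Normal] (hN : ∀ n ∈ N, α n ∈ N) :
    (∀ x : G, ∃ c g : G, c⁻¹ * α c ∈ N ∧ x⁻¹ * (c * (g⁻¹ * α g)) ∈ N) ∧
    (∀ x : G, x⁻¹ * α x ∈ N → ∃ c : G, α c = c ∧ c⁻¹ * x ∈ N) := by
  have hn : N.Normal := inferInstance
  constructor
  · intro x
    obtain ⟨c, g, hc, hx⟩ := hccp x
    refine ⟨c, g, ?_, ?_⟩
    · rw [hc]; simp
    · rw [← hx]; simp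
  · set C := fixedSub α with hC
    set D := fixedMod α N with hD
    set E := C ⊔ N with hE
    have hCD : C ≤ D := by
      intro x hx
      change α x = x at hx
      change x⁻¹ * α x ∈ N
      rw [hx]; simp
    have hND : N ≤ D := by
      intro x hx
      change x⁻¹ * α x ∈ N
      exact N.mul_mem (N.inv_mem hx) (hN x hx)
    have hED : E ≤ D := sup_le hCD hND
    -- key congruence
    have key : ∀ h h' : G, h'⁻¹ * h ∈ D → (h * (α h)⁻¹) * (h' * (α h')⁻¹)⁻¹ ∈ N := by
      intro h h' hd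
      have hd' : (h'⁻¹ * h)⁻¹ ∈ D := D.inv_mem hd
      change ((h'⁻¹ * h)⁻¹)⁻¹ * α ((h'⁻¹ * h)⁻¹) ∈ N at hd'
      have h1 : (h * (α h)⁻¹) * (h' * (α h')⁻¹)⁻¹
          = h' * (((h'⁻¹ * h)⁻¹)⁻¹ * α ((h'⁻¹ * h)⁻¹)) * h'⁻¹ := by
        simp only [map_mul, map_inv]; group
      rw [h1]
      exact hn.conj_mem _ hd' h'
    -- the surjection
    let f : E × (G ⧸ D) → G := fun eq => (eq.1 : G) * (eq.2.out * (α eq.2.out)⁻¹)
    have hf : Function.Surjective f := by
      intro x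
      obtain ⟨c, g, hc, hx⟩ := hccp x
      set h := g⁻¹ with hh
      set q : G ⧸ D := (h : G ⧸ D) with hq
      set h' := q.out with hh'
      have hqq : ((h' : G) : G ⧸ D) = (h : G ⧸ D) := by
        rw [hh', hq]; exact Quotient.out_eq' _
      have hd : h'⁻¹ * h ∈ D := QuotientGroup.eq.1 hqq
      have hk := key h h' hd
      refine ⟨(⟨c * ((h * (α h)⁻¹) * (h' * (α h')⁻¹)⁻¹), ?_⟩, q), ?_⟩
      · exact Subgroup.mul_mem _ (Subgroup.mem_sup_left hc) (Subgroup.mem_sup_right hk)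
      · change c * ((h * (α h)⁻¹) * (h' * (α h')⁻¹)⁻¹) * (h' * (α h')⁻¹) = x
        rw [hx, hh]
        simp only [map_inv]
        group
    have hcard := Nat.card_le_card_of_surjective f hf
    rw [Nat.card_prod, ← D.card_mul_index] at hcard
    have hidx : 0 < D.index := Nat.pos_of_ne_zero Subgroup.index_ne_zero_of_finite
    have hDE : Nat.card D ≤ Nat.card E := Nat.le_of_mul_le_mul_right hcard hidx
    have hEq : E = D := Subgroup.eq_of_le_of_card_ge hED hDE
    intro x hx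
    have hxD : x ∈ D := hx
    rw [← hEq, hE, Subgroup.mem_sup_of_normal_right] at hxD
    obtain ⟨y, hy, z, hz, hyz⟩ := hxD
    refine ⟨y, hy, ?_⟩
    rw [← hyz]; simpa using hz

end Cfsg.Agent.S4154
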