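import Mathlib
import Cfsg.Statements.S4155
import Cfsg.Agent.S4107
import Cfsg.Agent.S0040
import Cfsg.Agent.S0016
import Cfsg.Agent.Lib.Helper7.NilpotentSylow
import Cfsg.Agent.Lib.Helper7.EltDecomp

set_option autoImplicit false
open Cfsg

namespace Cfsg.Agent.S4155

open Cfsg.Agent.Lib.Helper7

/-- the key fixed-point-freeness: an element outside `N` whose image in `G/N` is a `q`-element
commutes with no nontrivial element of a normal `r`-subgroup of `N` (`r ≠ q`) -/
theorem fpf_of_eq_order {G : Type*} [Group G] [Finite G] (N : Subgroup G) [N.Normal]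
    (heq : ∀ x : G, x ∉ N → ∀ n ∈ N, orderOf (x * n) = orderOf x)
    {q r : ℕ} [hq : Fact q.Prime] [hr : Fact r.Prime] (hrq : r ≠ q)
    (R : Subgroup G) (hRN : R ≤ N) (hR : IsPGroup r R)
    (x : G) (hxN : x ∉ N) (hxq : ∃ k : ℕ, (QuotientGroup.mk' N x) ^ (q ^ k) = 1)
    (v : G) (hv : v ∈ R) (hxv : x * v = v * x) : v = 1 := by
  obtain ⟨u, w, huw, hu, hw, huπ, hwπ⟩ := elt_pi_decomp ({q} : Set ℕ) x
  obtain ⟨k, hk⟩ := hxq
  have hmkw : QuotientGroup.mk' N w = 1 := by
    have h1 : orderOf (QuotientGroup.mk' N w) ∣ q ^ k := by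
      obtain ⟨i, rfl⟩ := Subgroup.mem_zpowers_iff.1 hw
      rw [map_zpow]
      exact (orderOf_dvd_of_mem_zpowers (Subgroup.zpow_mem_zpowers _ _)).trans
        (orderOf_dvd_of_pow_eq_one hk)
    have h2 : orderOf (QuotientGroup.mk' N w) ∣ orderOf w := orderOf_map_dvd _ w
    have hcop : Nat.Coprime (q ^ k) (orderOf w) := by
      apply Nat.Coprime.pow_left
      rw [Nat.Prime.coprime_iff_not_dvd hq.out]
      intro hd
      exact hwπ q hq.out hd rfl
    have h3 := Nat.dvd_gcd h1 h2
    rw [hcop.gcd_eq_one] at h3
    exact orderOf_eq_one_iff.1 (Nat.dvd_one.1 h3)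
  have hwN : w ∈ N := (QuotientGroup.eq_one_iff w).1 hmkw
  have huN : u ∉ N := by
    intro h
    apply hxN
    rw [← huw]; exact N.mul_mem h hwN
  have huv : Commute u v := by
    obtain ⟨i, rfl⟩ := Subgroup.mem_zpowers_iff.1 hu
    exact Commute.zpow_left hxv i
  have h1 : orderOf (u * v) = orderOf u := heq u huN v (hRN hv)
  obtain ⟨j, hj⟩ := IsPGroup.iff_orderOf.1 hR ⟨v, hv⟩
  rw [Subgroup.orderOf_mk] at hj
  have hcop : Nat.Coprime (orderOf u) (orderOf v) := by
    rw [hj]
    apply Nat.Coprime.pow_right
    rw [Nat.coprime_comm, Nat.Prime.coprime_iff_not_dvd hr.out]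
    intro hd
    exact hrq (huπ r hr.out hd)
  rw [huv.orderOf_mul_eq_mul_orderOf_of_coprime hcop] at h1
  have h2 : orderOf v = 1 := by
    have hpos : 0 < orderOf u := orderOf_pos u
    have : orderOf u * orderOf v = orderOf u * 1 := by rw [h1, mul_one]
    exact Nat.eq_of_mul_eq_mul_left hpos this
  exact orderOf_eq_one_iff.1 h2

/-- Let G be a finite group and N a proper non-trivial normal nilpotent subgroup whose order is not a prime power, such that for every x outside N all elements of the coset xN have the same order as x. Then N is the Fitting subgroup of G, and for every prime q every Sylow q-subgroup of G/N is cyclic or generalized quaternion. -/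
theorem result {G : Type*} [Group G] [Finite G] (N : Subgroup G) [N.Normal] (hN1 : N ≠ ⊥) (hN2 : N ≠ ⊤)
    (heq : ∀ x : G, x ∉ N → ∀ n ∈ N, orderOf (x * n) = orderOf x)
    (hnil : Group.IsNilpotent N) (hnpp : ¬ IsPrimePow (Nat.card N)) :
    N = Cfsg.fittingSubgroup G ∧
    ∀ (q : ℕ) [Fact q.Prime] (Q : Sylow q (G ⧸ N)), IsCyclic (Q : Subgroup (G ⧸ N)) ∨ ∃ n : ℕ, Nonempty ((Q : Subgroup (G ⧸ N)) ≃* QuaternionGroup (2 ^ n)) := by
  have hcard1 : Nat.card N ≠ 1 := fun h => hN1 (Subgroup.card_eq_one.1 h)
  constructor
  · have h107 := Cfsg.Agent.S4107.result N hN1 hN2 heq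
    have hNF : N ≤ fittingSubgroup G := by
      unfold fittingSubgroup
      exact le_sSup ⟨inferInstance, hnil⟩
    by_contra hne
    have hlt : N < fittingSubgroup G := lt_of_le_of_ne hNF hne
    obtain ⟨p, k, hp, hk, hpk⟩ := (isPrimePow_nat_iff _).1 (h107.2 hlt)
    have hd : Nat.card N ∣ p ^ k := by
      rw [hpk]; exact Subgroup.card_dvd_of_le hNF
    obtain ⟨j, -, hj⟩ := (Nat.dvd_prime_pow hp).1 hd
    apply hnpp
    rw [isPrimePow_nat_iff]
    refine ⟨p, j, hp, ?_, hj.symm⟩
    rcases Nat.eq_zero_or_pos j with rfl | h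
    · exfalso; apply hcard1; rw [hj, pow_zero]
    · exact h
  · intro q hq Q
    have huniq : ∀ H1 K1 : Subgroup (Q : Subgroup (G ⧸ N)), Nat.card H1 = q → Nat.card K1 = q →
        H1 = K1 := by
      by_contra hcon
      push Not at hcon
      obtain ⟨H1, K1, hH1, hK1, hne⟩ := hcon
      obtain ⟨ab, bb, ha1, hap, hbp, hab, hb⟩ :=
        Cfsg.Agent.S0040.exists_comm_pair Q.isPGroup' H1 K1 hH1 hK1 hne
      -- a prime r ≠ q dividing |N|
      have hexr : ∃ r : ℕ, r.Prime ∧ r ∣ Nat.card N ∧ r ≠ q := by
        by_contra hcon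
        push Not at hcon
        apply hnpp
        have h1 := Nat.eq_prime_pow_of_unique_prime_dvd (p := q) (Nat.card_pos.ne')
          (fun {d} hd hdN => hcon d hd hdN)
        rw [isPrimePow_nat_iff]
        refine ⟨q, _, hq.out, ?_, h1.symm⟩
        rcases Nat.eq_zero_or_pos (Nat.card N).primeFactorsList.length with h0 | h0
        · exfalso; apply hcard1; rw [h1, h0, pow_zero]
        · exact h0
      obtain ⟨r, hr, hrN, hrq⟩ := hexr
      haveI : Fact r.Prime := ⟨hr⟩
      haveI := hnil
      obtain ⟨P⟩ : Nonempty (Sylow r ↥N) := inferInstance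
      haveI hPchar : (P : Subgroup ↥N).Characteristic := P.characteristic_of_normal inferInstance
      set R : Subgroup G := (P : Subgroup ↥N).map N.subtype with hRdef
      haveI hRn : R.Normal := inferInstance
      have hRN : R ≤ N := Subgroup.map_subtype_le _
      have hRr : IsPGroup r R := P.2.map _
      have hRne : R ≠ ⊥ := by
        intro h
        have : (P : Subgroup ↥N) = ⊥ := by
          rw [← Subgroup.map_eq_bot_iff_of_injective _ N.subtype_injective]
          exact h
        exact P.ne_bot_of_dvd_card hrN this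
      set V : Subgroup G := (Subgroup.center ↥R).map R.subtype with hVdef
      haveI hVn : V.Normal := inferInstance
      have hVR : V ≤ R := Subgroup.map_subtype_le _
      have hVr : IsPGroup r V := hRr.to_le hVR
      have hVne : V ≠ ⊥ := by
        intro h
        haveI : Nontrivial ↥R := (Subgroup.nontrivial_iff_ne_bot R).2 hRne
        have hRr' : IsPGroup r ↥R := hRr
        haveI := hRr'.center_nontrivial
        have : Subgroup.center ↥R = ⊥ := by
          rw [← Subgroup.map_eq_bot_iff_of_injective _ R.subtype_injective]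
          exact h
        exact (Subgroup.nontrivial_iff_ne_bot _).1 inferInstance this
      have hVcomm : ∀ x ∈ V, ∀ y ∈ R, x * y = y * x := by
        rintro x ⟨z, hz, rfl⟩ y hy
        have := (Subgroup.mem_center_iff.1 hz) ⟨y, hy⟩
        have h2 := congrArg Subtype.val this
        simpa using h2.symm
      -- N centralizes V
      have hNV : ∀ n ∈ N, ∀ v ∈ V, n * v = v * n := by
        have htop : (Subgroup.centralizer (V : Set G)).subgroupOf N = ⊤ := by
          apply eq_top_of_forall_sylow_le
          intro s hs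
          by_cases hsr : s = r
          · subst hsr
            refine ⟨P, ?_⟩
            intro y hy
            rw [Subgroup.mem_subgroupOf, Subgroup.mem_centralizer_iff]
            intro v hv
            exact hVcomm v hv (y : G) ⟨y, hy, rfl⟩
          · obtain ⟨S⟩ : Nonempty (Sylow s ↥N) := inferInstance
            refine ⟨S, ?_⟩
            intro y hy
            rw [Subgroup.mem_subgroupOf, Subgroup.mem_centralizer_iff]
            intro v hv
            obtain ⟨w, hw, rfl⟩ := hVR hv
            have := sylow_commute_of_ne hsr S P y w hy hw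
            have h2 := congrArg Subtype.val this.eq
            simpa using h2.symm
        intro n hn v hv
        have : (⟨n, hn⟩ : ↥N) ∈ (Subgroup.centralizer (V : Set G)).subgroupOf N := by
          rw [htop]; exact Subgroup.mem_top _
        rw [Subgroup.mem_subgroupOf, Subgroup.mem_centralizer_iff] at this
        exact (this v hv).symm
      -- lifts
      obtain ⟨a, ha⟩ := QuotientGroup.mk'_surjective N (ab : G ⧸ N)
      obtain ⟨b, hb'⟩ := QuotientGroup.mk'_surjective N (bb : G ⧸ N)
      have hker : ∀ n ∈ N, (MulAut.conjNormal n : MulAut ↥V) = 1 := by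
        intro n hn
        ext v
        rw [MulAut.conjNormal_apply, MulAut.one_apply, hNV n hn v v.2, mul_inv_cancel_right]
      have hmkpow : ∀ i j : ℕ, QuotientGroup.mk' N (a ^ i * b ^ j) =
          ((ab ^ i * bb ^ j : ↥(Q : Subgroup (G ⧸ N))) : G ⧸ N) := by
        intro i j
        rw [map_mul, map_pow, map_pow, ha, hb']
        simp
      have hcomm : Commute (MulAut.conjNormal a : MulAut ↥V) (MulAut.conjNormal b) := by
        have hc : (b * a)⁻¹ * (a * b) ∈ N := by
          rw [← QuotientGroup.eq_one_iff]
          have h1 : QuotientGroup.mk' N ((b * a)⁻¹ * (a * b)) = 1 := by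
            rw [map_mul, map_inv, map_mul, map_mul, ha, hb']
            have : (ab : G ⧸ N) * bb = bb * ab := by
              have := congrArg Subtype.val hab
              simpa using this
            rw [this, inv_mul_cancel]
          exact h1
        have h2 : a * b = (b * a) * ((b * a)⁻¹ * (a * b)) := by group
        show MulAut.conjNormal a * MulAut.conjNormal b = MulAut.conjNormal b * MulAut.conjNormal a
        rw [← map_mul, ← map_mul, h2, map_mul (MulAut.conjNormal) (b * a), hker _ hc, mul_one]
      have hpowN : ∀ c : G, ∀ cb : ↥(Q : Subgroup (G ⧸ N)), QuotientGroup.mk' N c = (cb : G ⧸ N) →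
          cb ^ q = 1 → (MulAut.conjNormal c : MulAut ↥V) ^ q = 1 := by
        intro c cb hc hcb
        rw [← map_pow]
        apply hker
        rw [← QuotientGroup.eq_one_iff]
        have h1 : QuotientGroup.mk' N (c ^ q) = 1 := by
          rw [map_pow, hc]
          have := congrArg Subtype.val hcb
          simpa using this
        exact h1
      have hfix : ∀ i j : ℕ, (¬ q ∣ i ∨ ¬ q ∣ j) → ∀ v : ↥V,
          (((MulAut.conjNormal a : MulAut ↥V) ^ i * (MulAut.conjNormal b) ^ j : MulAut ↥V)) v = v → v = 1 := by
        intro i j hij v hv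
        rw [← map_pow, ← map_pow, ← map_mul] at hv
        have hxN : a ^ i * b ^ j ∉ N := by
          intro hmem
          have h1 : QuotientGroup.mk' N (a ^ i * b ^ j) = 1 := (QuotientGroup.eq_one_iff _).2 hmem
          rw [hmkpow] at h1
          apply Cfsg.Agent.S0040.pair_ne_one ab bb ha1 hap hbp hb i j hij
          apply Subtype.ext
          simpa using h1
        have hxq : ∃ k : ℕ, (QuotientGroup.mk' N (a ^ i * b ^ j)) ^ (q ^ k) = 1 := by
          obtain ⟨k, hk⟩ := Q.isPGroup' (ab ^ i * bb ^ j)
          refine ⟨k, ?_⟩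
          rw [hmkpow]
          have := congrArg Subtype.val hk
          simpa using this
        have hxv : (a ^ i * b ^ j) * (v : G) = (v : G) * (a ^ i * b ^ j) := by
          have h1 := congrArg Subtype.val hv
          rw [MulAut.conjNormal_apply] at h1
          calc (a ^ i * b ^ j) * (v : G)
              = ((a ^ i * b ^ j) * (v : G) * (a ^ i * b ^ j)⁻¹) * (a ^ i * b ^ j) := by group
            _ = (v : G) * (a ^ i * b ^ j) := by rw [h1]
        have := fpf_of_eq_order N heq hrq R hRN hRr _ hxN hxq (v : G) (hVR v.2) hxv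
        exact Subtype.ext this
      have hV : ∀ v : ↥V, v ^ q = 1 → v = 1 := by
        intro v hvq
        obtain ⟨j, hj⟩ := IsPGroup.iff_orderOf.1 hVr v
        have h1 : orderOf v ∣ q := orderOf_dvd_of_pow_eq_one hvq
        rw [hj] at h1
        rcases Nat.eq_zero_or_pos j with rfl | hjpos
        · rw [pow_zero] at hj; exact orderOf_eq_one_iff.1 hj
        · exfalso
          have h2 : r ∣ q := (dvd_pow_self r (Nat.pos_iff_ne_zero.1 hjpos)).trans h1
          exact hrq ((Nat.prime_dvd_prime_iff_eq hr hq.out).1 h2)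
      have hVab : ∀ x y : ↥V, x * y = y * x := by
        intro x y
        apply Subtype.ext
        exact hVcomm x x.2 y (hVR y.2)
      apply hVne
      rw [eq_bot_iff]
      intro v hv
      have := Cfsg.Agent.S0040.fpf_pair_trivial hVab (MulAut.conjNormal a) (MulAut.conjNormal b)
        hcomm (hpowN a ab ha hap) (hpowN b bb hb' hbp) hfix hV ⟨v, hv⟩
      rw [Subgroup.mem_bot]
      exact congrArg Subtype.val this
    rcases Cfsg.Agent.S0016.result q Q.isPGroup' huniq with h | ⟨-, h⟩
    · left; exact h
    · right; exact h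

end Cfsg.Agent.S4155
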