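import Cfsg.Statements.S4156
import Mathlib

set_option autoImplicit false
open Cfsg

namespace Cfsg.Agent.S4156

variable {n : ℕ} {F : Type*} [Field F]

/-- extend a vector by minus the sum of its coordinates -/
def extf (w : Fin n → F) : Fin (n + 1) → F := Fin.snoc w (-∑ i, w i)

theorem extf_castSucc (w : Fin n → F) (i : Fin n) : extf w (Fin.castSucc i) = w i := by
  simp [extf]

theorem extf_last (w : Fin n → F) : extf w (Fin.last n) = -∑ i, w i := by
  simp [extf]

theorem extf_add (w w' : Fin n → F) : extf (w + w') = extf w + extf w' := by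
  funext j
  refine Fin.lastCases ?_ (fun i => ?_) j
  · rw [Pi.add_apply, extf_last, extf_last, extf_last]
    simp only [Pi.add_apply, Finset.sum_add_distrib]
    ring
  · rw [Pi.add_apply, extf_castSucc, extf_castSucc, extf_castSucc, Pi.add_apply]

theorem extf_smul (c : F) (w : Fin n → F) : extf (c • w) = c • extf w := by
  funext j
  refine Fin.lastCases ?_ (fun i => ?_) j
  · rw [Pi.smul_apply, extf_last, extf_last]
    simp only [Pi.smul_apply, smul_eq_mul, ← Finset.mul_sum]
    ring
  · rw [Pi.smul_apply, extf_castSucc, extf_castSucc, Pi.smul_apply]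

theorem sum_extf (w : Fin n → F) : ∑ i, extf w i = 0 := by
  rw [Fin.sum_univ_castSucc]
  simp only [extf_castSucc, extf_last]
  ring

theorem extf_res (v : Fin (n + 1) → F) (hv : ∑ i, v i = 0) :
    extf (fun i => v (Fin.castSucc i)) = v := by
  funext j
  refine Fin.lastCases ?_ (fun i => ?_) j
  · rw [extf_last]
    rw [Fin.sum_univ_castSucc] at hv
    linear_combination (-1 : F) * hv
  · rw [extf_castSucc]

/-- the deleted permutation representation -/
def L (σ : Equiv.Perm (Fin (n + 1))) : (Fin n → F) →ₗ[F] (Fin n → F) where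
  toFun w := fun i => extf w (σ⁻¹ (Fin.castSucc i))
  map_add' w w' := by
    funext i
    rw [extf_add]
    rfl
  map_smul' c w := by
    funext i
    rw [extf_smul]
    rfl

theorem L_apply (σ : Equiv.Perm (Fin (n + 1))) (w : Fin n → F) (i : Fin n) :
    L σ w i = extf w (σ⁻¹ (Fin.castSucc i)) := rfl

theorem L_one : L (1 : Equiv.Perm (Fin (n + 1))) = (1 : (Fin n → F) →ₗ[F] (Fin n → F)) := by
  apply LinearMap.ext
  intro w
  funext i
  rw [L_apply, inv_one, Equiv.Perm.coe_one, id_eq, extf_castSucc]
  rfl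

theorem extf_L (σ : Equiv.Perm (Fin (n + 1))) (w : Fin n → F) :
    extf (L σ w) = fun j => extf w (σ⁻¹ j) := by
  have h := extf_res (fun j => extf w (σ⁻¹ j)) (by
    rw [Equiv.sum_comp σ⁻¹ (extf w)]
    exact sum_extf w)
  exact h

theorem L_mul (σ τ : Equiv.Perm (Fin (n + 1))) :
    L (σ * τ) = (L σ * L τ : (Fin n → F) →ₗ[F] (Fin n → F)) := by
  apply LinearMap.ext
  intro w
  funext i
  rw [Module.End.mul_apply, L_apply, L_apply, extf_L, mul_inv_rev, Equiv.Perm.coe_mul]
  rfl


/-- matrix form of the representation -/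
noncomputable def Mhom (n : ℕ) (F : Type*) [Field F] :
    Equiv.Perm (Fin (n + 1)) →* Matrix (Fin n) (Fin n) F where
  toFun σ := LinearMap.toMatrix' (L σ)
  map_one' := by rw [L_one]; exact LinearMap.toMatrix'_one
  map_mul' σ τ := by rw [L_mul]; exact LinearMap.toMatrix'_mul _ _

theorem faithful (hn : 2 ≤ n) (σ : Equiv.Perm (Fin (n + 1)))
    (h : L σ = (1 : (Fin n → F) →ₗ[F] (Fin n → F))) : σ = 1 := by
  have key : ∀ v : Fin (n + 1) → F, ∑ i, v i = 0 → ∀ i : Fin n,
      v (σ⁻¹ (Fin.castSucc i)) = v (Fin.castSucc i) := by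
    intro v hv i
    have h1 := congrArg (fun f : (Fin n → F) →ₗ[F] (Fin n → F) =>
      f (fun i => v (Fin.castSucc i)) i) h
    simp only [L_apply, Module.End.one_apply] at h1
    rw [extf_res v hv] at h1
    exact h1
  have hfix : ∀ i : Fin n, σ⁻¹ (Fin.castSucc i) = Fin.castSucc i := by
    intro i
    by_contra hne
    obtain ⟨k, hk1, hk2⟩ : ∃ k : Fin (n + 1), k ≠ Fin.castSucc i ∧ k ≠ σ⁻¹ (Fin.castSucc i) := by
      by_contra hcon
      push Not at hcon
      have h0 := hcon ⟨0, by omega⟩
      have h1 := hcon ⟨1, by omega⟩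
      have h2 := hcon ⟨2, by omega⟩
      simp only [ne_eq, Fin.ext_iff] at h0 h1 h2 hne
      omega
    have h1 := key (Pi.single (Fin.castSucc i) 1 - Pi.single k 1) (by
      simp [Finset.sum_sub_distrib]) i
    rw [Pi.sub_apply, Pi.sub_apply, Pi.single_eq_of_ne hne, Pi.single_eq_of_ne (Ne.symm hk2),
      Pi.single_eq_same, Pi.single_eq_of_ne (Ne.symm hk1)] at h1
    norm_num at h1
  have hlast : σ⁻¹ (Fin.last n) = Fin.last n := by
    by_contra hne
    have hlt : ((σ⁻¹ (Fin.last n) : Fin (n + 1)) : ℕ) < n := by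
      have := (σ⁻¹ (Fin.last n)).2
      have h2 : ((σ⁻¹ (Fin.last n) : Fin (n + 1)) : ℕ) ≠ n := by
        intro h3
        apply hne
        rw [Fin.ext_iff, h3]
        rfl
      omega
    have h3 := hfix ⟨_, hlt⟩
    have h4 : Fin.castSucc (⟨_, hlt⟩ : Fin n) = σ⁻¹ (Fin.last n) := by
      rw [Fin.ext_iff]
      rfl
    rw [h4] at h3
    have h5 := (σ⁻¹).injective h3
    apply hne
    rw [h5]
  have hinv : σ⁻¹ = 1 := by
    apply Equiv.ext
    intro j
    refine Fin.lastCases ?_ (fun i => ?_) j
    · rw [hlast]; rfl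
    · rw [hfix i]; rfl
  rw [← inv_inv σ, hinv, inv_one]


theorem main4156 (n : ℕ) (hn : 5 ≤ n) (F : Type*) [Field F] [Finite F] :
    ∃ f : alternatingGroup (Fin (n + 1)) →* Matrix.ProjectiveSpecialLinearGroup (Fin n) F, Function.Injective f := by
  have h5 : 5 ≤ Nat.card (Fin (n + 1)) := by
    rw [Nat.card_eq_fintype_card, Fintype.card_fin]; omega
  have hperf := commutator_alternatingGroup_eq_top h5
  obtain ⟨d, hd⟩ : ∃ d : alternatingGroup (Fin (n + 1)) →* Fˣ, d =
    Matrix.GeneralLinearGroup.det.comp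
      ((Mhom n F).toHomUnits.comp (alternatingGroup (Fin (n + 1))).subtype) := ⟨_, rfl⟩
  have hd1 : ∀ σ, d σ = 1 := by
    intro σ
    have : σ ∈ d.ker := Abelianization.commutator_subset_ker d (by rw [hperf]; trivial)
    exact this
  have hdet : ∀ σ : alternatingGroup (Fin (n + 1)), (Mhom n F σ.1).det = 1 := by
    intro σ
    have := congrArg Units.val (hd1 σ)
    rw [hd] at this
    exact this
  obtain ⟨ψ, hψ⟩ : ∃ ψ : alternatingGroup (Fin (n + 1)) →* Matrix.SpecialLinearGroup (Fin n) F,
      ∀ σ, (ψ σ).1 = Mhom n F σ.1 :=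
    ⟨{ toFun := fun σ => ⟨Mhom n F σ.1, hdet σ⟩
       map_one' := by
        apply Subtype.ext
        show Mhom n F ((1 : alternatingGroup (Fin (n + 1))) : Equiv.Perm (Fin (n + 1))) = 1
        rw [Subgroup.coe_one, map_one]
       map_mul' := fun σ τ => by
        apply Subtype.ext
        show Mhom n F ((σ * τ : alternatingGroup (Fin (n + 1))) : Equiv.Perm (Fin (n + 1))) =
          Mhom n F σ.1 * Mhom n F τ.1
        rw [Subgroup.coe_mul, map_mul] }, fun σ => rfl⟩
  have hψinj : Function.Injective ψ := by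
    rw [injective_iff_map_eq_one]
    intro σ hσ
    have h1 : Mhom n F σ.1 = 1 := by
      rw [← hψ, hσ]; rfl
    have h2 : L (F := F) σ.1 = 1 := by
      apply LinearMap.toMatrix'.injective
      rw [LinearMap.toMatrix'_one]
      exact h1
    exact Subtype.ext (faithful (by omega) σ.1 h2)
  refine ⟨(QuotientGroup.mk' (Subgroup.center (Matrix.SpecialLinearGroup (Fin n) F))).comp ψ, ?_⟩
  rw [← MonoidHom.ker_eq_bot_iff]
  haveI := alternatingGroup.isSimpleGroup h5
  rcases (MonoidHom.normal_ker ((QuotientGroup.mk'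
    (Subgroup.center (Matrix.SpecialLinearGroup (Fin n) F))).comp ψ)).eq_bot_or_eq_top with h | h
  · exact h
  · exfalso
    have hcen : ∀ σ, ψ σ ∈ Subgroup.center (Matrix.SpecialLinearGroup (Fin n) F) := by
      intro σ
      have : σ ∈ ((QuotientGroup.mk'
        (Subgroup.center (Matrix.SpecialLinearGroup (Fin n) F))).comp ψ).ker := by
        rw [h]; trivial
      rw [MonoidHom.mem_ker, MonoidHom.comp_apply, QuotientGroup.mk'_apply,
        QuotientGroup.eq_one_iff] at this
      exact this
    have hcomm : ∀ σ τ : alternatingGroup (Fin (n + 1)), σ * τ = τ * σ := by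
      intro σ τ
      apply hψinj
      rw [map_mul, map_mul]
      exact ((Subgroup.mem_center_iff.1 (hcen σ)) (ψ τ)).symm
    have hbot : commutator (alternatingGroup (Fin (n + 1))) = ⊥ := by
      rw [commutator_def, Subgroup.commutator_eq_bot_iff_le_centralizer]
      intro x _
      rw [Subgroup.mem_centralizer_iff]
      intro y _
      exact hcomm y x
    obtain ⟨a, b, hab⟩ := exists_pair_ne (alternatingGroup (Fin (n + 1)))
    have ha : a ∈ (⊥ : Subgroup (alternatingGroup (Fin (n + 1)))) := by
      rw [← hbot, hperf]; trivial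
    have hb : b ∈ (⊥ : Subgroup (alternatingGroup (Fin (n + 1)))) := by
      rw [← hbot, hperf]; trivial
    rw [Subgroup.mem_bot] at ha hb
    exact hab (ha.trans hb.symm)


/-- Let n ≥ 5 and F a finite field. Then the projective special linear group PSL_n(F) contains a subgroup isomorphic to the alternating group of degree n + 1. -/
theorem result (n : ℕ) (hn : 5 ≤ n) (F : Type*) [Field F] [Finite F] :
    ∃ f : alternatingGroup (Fin (n + 1)) →* Matrix.ProjectiveSpecialLinearGroup (Fin n) F, Function.Injective f := by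
  exact main4156 n hn F

end Cfsg.Agent.S4156
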