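import Mathlib
import Cfsg.Statements.S4160
import Cfsg.Agent.Lib.Helper1.NPC

set_option autoImplicit false
set_option maxHeartbeats 800000

open Cfsg

namespace Cfsg.Agent.S4160

variable {G : Type*} [Group G]

/-- The nonidentity elements conjugate into `C`. -/
def cover (C : Subgroup G) : Set G := {x : G | x ≠ 1 ∧ ∃ g : G, g⁻¹ * x * g ∈ C}

theorem cover_ncard_le [Finite G] (C N : Subgroup G)
    (hN : ∀ n ∈ N, ∀ c ∈ C, n * c * n⁻¹ ∈ C) :
    (cover C).ncard ≤ N.index * (Nat.card C - 1) := by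
  classical
  haveI : Fintype (G ⧸ N) := Fintype.ofFinite _
  have hsub : cover C ⊆ ⋃ t ∈ (Finset.univ : Finset (G ⧸ N)),
      (fun c : G => t.out * c * t.out⁻¹) '' ((C : Set G) \ {1}) := by
    intro x hx
    obtain ⟨hx1, g, hg⟩ := hx
    simp only [Finset.mem_univ, Set.iUnion_true, Set.mem_iUnion, Set.mem_image]
    refine ⟨(g : G ⧸ N), ?_⟩
    obtain ⟨r, hr⟩ : ∃ r : G, r = ((g : G ⧸ N)).out := ⟨_, rfl⟩
    have hrg : r⁻¹ * g ∈ N := by
      rw [← QuotientGroup.eq, hr]
      exact QuotientGroup.out_eq' _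
    have hc : r⁻¹ * x * r ∈ C := by
      have := hN _ hrg _ hg
      have e : r⁻¹ * g * (g⁻¹ * x * g) * (r⁻¹ * g)⁻¹ = r⁻¹ * x * r := by group
      rwa [e] at this
    refine ⟨r⁻¹ * x * r, ⟨hc, ?_⟩, ?_⟩
    · intro h1
      have h2 : r⁻¹ * x * r = 1 := h1
      apply hx1
      have : x = r * (r⁻¹ * x * r) * r⁻¹ := by group
      rw [this, h2]; group
    · rw [← hr]; group
  have h1 : (cover C).ncard ≤ (⋃ t ∈ (Finset.univ : Finset (G ⧸ N)),
      (fun c : G => t.out * c * t.out⁻¹) '' ((C : Set G) \ {1})).ncard :=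
    Set.ncard_le_ncard hsub (Set.toFinite _)
  have h2 := Finset.set_ncard_biUnion_le (Finset.univ : Finset (G ⧸ N))
    (fun t => (fun c : G => t.out * c * t.out⁻¹) '' ((C : Set G) \ {1}))
  have h3 : ∀ t : G ⧸ N, ((fun c : G => t.out * c * t.out⁻¹) '' ((C : Set G) \ {1})).ncard ≤
      Nat.card C - 1 := by
    intro t
    refine (Set.ncard_image_le (Set.toFinite _)).trans ?_
    rw [Set.ncard_sdiff_singleton_of_mem (show (1 : G) ∈ (C : Set G) from C.one_mem)]
    rw [← Nat.card_coe_set_eq]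
    exact le_rfl
  have h4 : ∑ t ∈ (Finset.univ : Finset (G ⧸ N)),
      ((fun c : G => t.out * c * t.out⁻¹) '' ((C : Set G) \ {1})).ncard ≤
      N.index * (Nat.card C - 1) := by
    refine (Finset.sum_le_sum (fun t _ => h3 t)).trans ?_
    rw [Finset.sum_const, Finset.card_univ, smul_eq_mul, Subgroup.index,
      ← Nat.card_eq_fintype_card]
  exact h1.trans (h2.trans h4)

theorem mem_cover_of_not_dvd [Finite G] (p : ℕ) [hp : Fact p.Prime] (P : Sylow p G) (x : G)
    (hx1 : x ≠ 1) (hx : ¬ p ∣ (Subgroup.centralizer ({x} : Set G)).index) :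
    x ∈ cover (Subgroup.centralizer ((P : Subgroup G) : Set G)) := by
  refine ⟨hx1, ?_⟩
  have hfix := P.2.nonempty_fixed_point_of_prime_not_dvd_card
    (G ⧸ Subgroup.centralizer ({x} : Set G)) hx
  obtain ⟨t, ht⟩ := hfix
  obtain ⟨g, rfl⟩ := QuotientGroup.mk_surjective t
  refine ⟨g⁻¹, ?_⟩
  rw [inv_inv, Subgroup.mem_centralizer_iff]
  intro u hu
  have h1 := ht ⟨u, hu⟩
  have h2 : ((u * g : G) : G ⧸ Subgroup.centralizer ({x} : Set G)) = (g : G ⧸ _) := h1
  rw [QuotientGroup.eq, Subgroup.mem_centralizer_singleton_iff] at h2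
  -- h2 : (u*g)⁻¹ * g * x = x * ((u*g)⁻¹ * g)
  have e1 : (u * g)⁻¹ * g = g⁻¹ * u⁻¹ * g := by group
  rw [e1] at h2
  have h3 : u⁻¹ * (g * x * g⁻¹) = (g * x * g⁻¹) * u⁻¹ := by
    calc u⁻¹ * (g * x * g⁻¹) = g * (g⁻¹ * u⁻¹ * g * x) * g⁻¹ := by group
      _ = g * (x * (g⁻¹ * u⁻¹ * g)) * g⁻¹ := by rw [h2]
      _ = (g * x * g⁻¹) * u⁻¹ := by group
  calc u * (g * x * g⁻¹) = u * ((g * x * g⁻¹) * u⁻¹) * u := by group
    _ = u * (u⁻¹ * (g * x * g⁻¹)) * u := by rw [h3]
    _ = g * x * g⁻¹ * u := by group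

theorem two_mul_le [Finite G] (p : ℕ) [hp : Fact p.Prime] (P : Sylow p G)
    (h : ¬ Cfsg.HasNormalPComplement p G) :
    (Subgroup.normalizer ((P : Subgroup G) : Set G)).index *
      (2 * Nat.card (Subgroup.centralizer ((P : Subgroup G) : Set G))) ≤ Nat.card G := by
  have hne : ¬ Subgroup.normalizer ((P : Subgroup G) : Set G) ≤
      Subgroup.centralizer ((P : Subgroup G) : Set G) :=
    fun hle => h (Cfsg.Agent.Lib.Helper1.hasNormalPComplement_of_normalizer_le_centralizer P hle)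
  have hle : Subgroup.centralizer ((P : Subgroup G) : Set G) ≤
      Subgroup.normalizer ((P : Subgroup G) : Set G) := Subgroup.centralizer_le_normalizer _
  have hdvd := Subgroup.card_dvd_of_le hle
  obtain ⟨m, hm⟩ := hdvd
  have hm2 : 2 ≤ m := by
    by_contra hlt
    push Not at hlt
    have hpos : 0 < Nat.card (Subgroup.normalizer ((P : Subgroup G) : Set G)) := Nat.card_pos
    interval_cases m
    · rw [mul_zero] at hm; omega
    · rw [mul_one] at hm
      exact hne (le_of_eq (Subgroup.eq_of_le_of_card_ge hle hm.le).symm)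
  have h1 := Subgroup.card_mul_index (Subgroup.normalizer ((P : Subgroup G) : Set G))
  rw [← h1, hm, mul_comm]
  apply Nat.mul_le_mul_right
  rw [mul_comm]
  exact Nat.mul_le_mul_left _ hm2

/-- Let G be a finite group and p ≠ q primes each dividing the size of some conjugacy class of G, such that no conjugacy class size is divisible by pq. Then G has a normal p-complement or a normal q-complement. -/
theorem result {G : Type*} [Group G] [Finite G] (p q : ℕ) (hp : p.Prime) (hq : q.Prime) (hpq : p ≠ q)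
    (hp' : ∃ x : G, p ∣ (Subgroup.centralizer ({x} : Set G)).index) (hq' : ∃ x : G, q ∣ (Subgroup.centralizer ({x} : Set G)).index) (h : ∀ x : G, ¬ p * q ∣ (Subgroup.centralizer ({x} : Set G)).index) :
    Cfsg.HasNormalPComplement p G ∨ Cfsg.HasNormalPComplement q G := by
  haveI := Fact.mk hp
  haveI := Fact.mk hq
  obtain ⟨P⟩ : Nonempty (Sylow p G) := inferInstance
  obtain ⟨Q⟩ : Nonempty (Sylow q G) := inferInstance
  by_contra hcon
  push Not at hcon
  have hP2 := two_mul_le p P hcon.1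
  have hQ2 := two_mul_le q Q hcon.2
  obtain ⟨CP, hCP⟩ : ∃ C : Subgroup G, C = Subgroup.centralizer ((P : Subgroup G) : Set G) :=
    ⟨_, rfl⟩
  obtain ⟨CQ, hCQ⟩ : ∃ C : Subgroup G, C = Subgroup.centralizer ((Q : Subgroup G) : Set G) :=
    ⟨_, rfl⟩
  obtain ⟨NP, hNP⟩ : ∃ C : Subgroup G, C = Subgroup.normalizer ((P : Subgroup G) : Set G) :=
    ⟨_, rfl⟩
  obtain ⟨NQ, hNQ⟩ : ∃ C : Subgroup G, C = Subgroup.normalizer ((Q : Subgroup G) : Set G) :=
    ⟨_, rfl⟩
  rw [← hCP, ← hNP] at hP2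
  rw [← hCQ, ← hNQ] at hQ2
  have hnorm : ∀ (S : Subgroup G), ∀ n ∈ Subgroup.normalizer (S : Set G),
      ∀ c ∈ Subgroup.centralizer (S : Set G), n * c * n⁻¹ ∈ Subgroup.centralizer (S : Set G) := by
    intro S n hn c hc
    rw [Subgroup.mem_centralizer_iff] at hc ⊢
    intro s hs
    have hs' : n⁻¹ * s * n ∈ S := by
      have := (Subgroup.mem_normalizer_iff.1 (inv_mem hn) s).1 hs
      simpa using this
    have h1 := hc _ hs'
    calc s * (n * c * n⁻¹) = n * ((n⁻¹ * s * n) * c) * n⁻¹ := by group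
      _ = n * (c * (n⁻¹ * s * n)) * n⁻¹ := by rw [h1]
      _ = n * c * n⁻¹ * s := by group
  have hcP := cover_ncard_le CP NP (by rw [hCP, hNP]; exact hnorm _)
  have hcQ := cover_ncard_le CQ NQ (by rw [hCQ, hNQ]; exact hnorm _)
  have hall : (Set.univ \ {1} : Set G) ⊆ cover CP ∪ cover CQ := by
    intro x hx
    have hx1 : x ≠ 1 := fun h1 => hx.2 h1
    by_cases hpx : p ∣ (Subgroup.centralizer ({x} : Set G)).index
    · have hqx : ¬ q ∣ (Subgroup.centralizer ({x} : Set G)).index := by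
        intro hqx
        apply h x
        exact Nat.Coprime.mul_dvd_of_dvd_of_dvd ((Nat.coprime_primes hp hq).2 hpq) hpx hqx
      right
      rw [hCQ]
      exact mem_cover_of_not_dvd q Q x hx1 hqx
    · left
      rw [hCP]
      exact mem_cover_of_not_dvd p P x hx1 hpx
  have h1 : (Set.univ \ {1} : Set G).ncard ≤ (cover CP ∪ cover CQ).ncard :=
    Set.ncard_le_ncard hall (Set.toFinite _)
  have h2 := Set.ncard_union_le (cover CP) (cover CQ)
  have h3 : (Set.univ \ {1} : Set G).ncard = Nat.card G - 1 := by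
    rw [Set.ncard_sdiff_singleton_of_mem (Set.mem_univ _), Set.ncard_univ]
  rw [h3] at h1
  have hnP : 1 ≤ NP.index := Nat.one_le_iff_ne_zero.2 Subgroup.index_ne_zero_of_finite
  have hnQ : 1 ≤ NQ.index := Nat.one_le_iff_ne_zero.2 Subgroup.index_ne_zero_of_finite
  have hcP1 : 1 ≤ Nat.card CP := Nat.card_pos
  have hcQ1 : 1 ≤ Nat.card CQ := Nat.card_pos
  have e1 : NP.index * (Nat.card CP - 1) = NP.index * Nat.card CP - NP.index := by
    rw [Nat.mul_sub, mul_one]
  have e2 : NQ.index * (Nat.card CQ - 1) = NQ.index * Nat.card CQ - NQ.index := by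
    rw [Nat.mul_sub, mul_one]
  have e3 : NP.index * (2 * Nat.card CP) = 2 * (NP.index * Nat.card CP) := by ring
  have e4 : NQ.index * (2 * Nat.card CQ) = 2 * (NQ.index * Nat.card CQ) := by ring
  have e5 : NP.index ≤ NP.index * Nat.card CP := Nat.le_mul_of_pos_right _ hcP1
  have e6 : NQ.index ≤ NQ.index * Nat.card CQ := Nat.le_mul_of_pos_right _ hcQ1
  rw [e1] at hcP
  rw [e2] at hcQ
  rw [e3] at hP2
  rw [e4] at hQ2
  omega

end Cfsg.Agent.S4160
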