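import Cfsg.Statements.S4163
import Mathlib
import Cfsg.Agent.Lib.Helper2.Index
import Cfsg.Agent.Lib.Helper2.EA


set_option autoImplicit false
open Cfsg

namespace Cfsg.Agent.S4163


theorem mem_cent_single {G : Type*} [Group G] (x g : G) :
    g ∈ Subgroup.centralizer ({x} : Set G) ↔ x * g = g * x := by
  simp [Subgroup.mem_centralizer_iff]

/-- Fibre counting: if `f` restricted to `H` has fibres the left cosets of `S`, then
`|H| = |S| * |f(H)|`. -/
theorem fiber_card {G : Type*} {β : Type*} [Group G] [Finite G] (H S : Subgroup G) (hS : S ≤ H)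
    (f : G → β) (hf : ∀ h ∈ H, ∀ h' ∈ H, (f h = f h' ↔ h⁻¹ * h' ∈ S)) :
    Nat.card H = Nat.card S * (f '' (H : Set G)).ncard := by
  classical
  have h1 := Subgroup.card_eq_card_quotient_mul_card_subgroup (S.subgroupOf H)
  have h2 : Nat.card (S.subgroupOf H) = Nat.card S :=
    Nat.card_congr (Subgroup.subgroupOfEquivOfLe hS).toEquiv
  let φ : (↥H ⧸ S.subgroupOf H) → (f '' (H : Set G)) := fun q =>
    Quotient.liftOn' q (fun h : H => (⟨f h, ⟨h, h.2, rfl⟩⟩ : (f '' (H : Set G))))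
      (by
        intro a b hab
        have hab' : a⁻¹ * b ∈ S.subgroupOf H := QuotientGroup.leftRel_apply.1 hab
        apply Subtype.ext
        exact (hf a a.2 b b.2).2 (by simpa [Subgroup.mem_subgroupOf] using hab'))
  have hφ : Function.Bijective φ := by
    constructor
    · intro a b
      refine Quotient.inductionOn₂' a b ?_
      intro a b hab
      have hab2 : f a = f b := congrArg Subtype.val hab
      apply Quotient.sound'
      rw [QuotientGroup.leftRel_apply]
      simpa [Subgroup.mem_subgroupOf] using (hf a a.2 b b.2).1 hab2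
    · rintro ⟨_, h, hh, rfl⟩
      exact ⟨Quotient.mk'' ⟨h, hh⟩, rfl⟩
  have h3 : Nat.card (↥H ⧸ S.subgroupOf H) = (f '' (H : Set G)).ncard :=
    (Nat.card_congr (Equiv.ofBijective φ hφ)).trans (Nat.card_coe_set_eq _)
  rw [h1, h2, h3, mul_comm]

/-- Isaacs' lemma: if `A` is an abelian normal subgroup and `x` has a centralizer of largest
order among non-central elements, then `[A, x]` is central. -/
theorem comm_central {G : Type*} [Group G] [Finite G] (A : Subgroup G) [hAn : A.Normal]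
    (hA : ∀ a ∈ A, ∀ b ∈ A, a * b = b * a) (x : G)
    (hmax : ∀ y : G, (Subgroup.centralizer ({y} : Set G)).index <
      (Subgroup.centralizer ({x} : Set G)).index → y ∈ Subgroup.center G)
    (a : G) (ha : a ∈ A) : a * x * a⁻¹ * x⁻¹ ∈ Subgroup.center G := by
  classical
  obtain ⟨b, hb⟩ : ∃ b, b = a * x * a⁻¹ * x⁻¹ := ⟨_, rfl⟩
  rw [← hb]
  by_cases hb1 : b = 1
  · rw [hb1]; exact one_mem _
  apply hmax
  obtain ⟨C, hC⟩ : ∃ C, C = Subgroup.centralizer ({x} : Set G) := ⟨_, rfl⟩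
  obtain ⟨D, hD⟩ : ∃ D, D = C ⊓ Subgroup.centralizer ({b} : Set G) := ⟨_, rfl⟩
  obtain ⟨T, hT⟩ : ∃ T : Set G, T = (fun a => a * x * a⁻¹ * x⁻¹) '' (A : Set G) := ⟨_, rfl⟩
  obtain ⟨T2, hT2⟩ : ∃ T2 : Set G, T2 = (fun c => c * b * c⁻¹) '' (C : Set G) := ⟨_, rfl⟩
  rw [← hC]
  have hTA : ∀ t ∈ T, t ∈ A := by
    rw [hT]
    rintro _ ⟨a', ha', rfl⟩
    have h1 : x * a'⁻¹ * x⁻¹ ∈ A := hAn.conj_mem _ (inv_mem ha') x
    have h2 := mul_mem ha' h1
    have e : a' * x * a'⁻¹ * x⁻¹ = a' * (x * a'⁻¹ * x⁻¹) := by group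
    show a' * x * a'⁻¹ * x⁻¹ ∈ A
    rw [e]; exact h2
  have hbA : b ∈ A := hTA b (by rw [hT, hb]; exact ⟨a, ha, rfl⟩)
  have c1 : Nat.card A = Nat.card (A ⊓ C : Subgroup G) * T.ncard := by
    rw [hT]
    refine fiber_card A (A ⊓ C) inf_le_left (fun a => a * x * a⁻¹ * x⁻¹) ?_
    intro h hh h' hh'
    show (h * x * h⁻¹ * x⁻¹ = h' * x * h'⁻¹ * x⁻¹ ↔ _)
    rw [Subgroup.mem_inf, hC, mem_cent_single]
    constructor
    · intro e
      refine ⟨mul_mem (inv_mem hh) hh', ?_⟩
      have e2 : h * x * h⁻¹ = h' * x * h'⁻¹ := by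
        have := congrArg (· * x) e
        simpa [mul_assoc] using this
      calc x * (h⁻¹ * h') = h⁻¹ * (h * x * h⁻¹) * h' := by group
        _ = h⁻¹ * (h' * x * h'⁻¹) * h' := by rw [e2]
        _ = h⁻¹ * h' * x := by group
    · rintro ⟨-, e⟩
      have e2 : h * x * h⁻¹ = h' * x * h'⁻¹ := by
        calc h * x * h⁻¹ = h * (x * (h⁻¹ * h')) * h'⁻¹ := by group
          _ = h * (h⁻¹ * h' * x) * h'⁻¹ := by rw [e]
          _ = h' * x * h'⁻¹ := by group
      rw [e2]
  have c2 : Nat.card C = Nat.card D * T2.ncard := by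
    rw [hT2]
    refine fiber_card C D (by rw [hD]; exact inf_le_left) (fun c => c * b * c⁻¹) ?_
    intro h hh h' hh'
    show (h * b * h⁻¹ = h' * b * h'⁻¹ ↔ _)
    rw [hD, Subgroup.mem_inf, mem_cent_single]
    constructor
    · intro e2
      refine ⟨mul_mem (inv_mem hh) hh', ?_⟩
      calc b * (h⁻¹ * h') = h⁻¹ * (h * b * h⁻¹) * h' := by group
        _ = h⁻¹ * (h' * b * h'⁻¹) * h' := by rw [e2]
        _ = h⁻¹ * h' * b := by group
    · rintro ⟨-, e⟩
      calc h * b * h⁻¹ = h * (b * (h⁻¹ * h')) * h'⁻¹ := by group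
        _ = h * (h⁻¹ * h' * b) * h'⁻¹ := by rw [e]
        _ = h' * b * h'⁻¹ := by group
  have hsub : T2 ⊆ T \ {1} := by
    rw [hT2]
    rintro _ ⟨c, hc, rfl⟩
    have hcx : x * c = c * x := (mem_cent_single x c).1 (by rw [← hC]; exact hc)
    have hcx' : c⁻¹ * x = x * c⁻¹ := by
      calc c⁻¹ * x = c⁻¹ * (x * c) * c⁻¹ := by group
        _ = c⁻¹ * (c * x) * c⁻¹ := by rw [hcx]
        _ = x * c⁻¹ := by group
    have hcx'' : c⁻¹ * x⁻¹ = x⁻¹ * c⁻¹ := by
      calc c⁻¹ * x⁻¹ = x⁻¹ * (x * c⁻¹) * x⁻¹ := by group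
        _ = x⁻¹ * (c⁻¹ * x) * x⁻¹ := by rw [hcx']
        _ = x⁻¹ * c⁻¹ := by group
    refine ⟨?_, ?_⟩
    · rw [hT]
      refine ⟨c * a * c⁻¹, hAn.conj_mem a ha c, ?_⟩
      show c * a * c⁻¹ * x * (c * a * c⁻¹)⁻¹ * x⁻¹ = c * b * c⁻¹
      rw [hb]
      calc c * a * c⁻¹ * x * (c * a * c⁻¹)⁻¹ * x⁻¹
          = c * a * (c⁻¹ * x) * c * a⁻¹ * (c⁻¹ * x⁻¹) := by group
        _ = c * a * (x * c⁻¹) * c * a⁻¹ * (x⁻¹ * c⁻¹) := by rw [hcx', hcx'']
        _ = c * (a * x * a⁻¹ * x⁻¹) * c⁻¹ := by group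
    · simp only [Set.mem_singleton_iff]
      intro h1
      apply hb1
      calc b = c⁻¹ * (c * b * c⁻¹) * c := by group
        _ = 1 := by rw [h1]; group
  have hT1 : (1 : G) ∈ T := by
    rw [hT]; exact ⟨1, one_mem _, by group⟩
  have hle : T2.ncard + 1 ≤ T.ncard := by
    have h1 := Set.ncard_le_ncard hsub (Set.toFinite _)
    have h2 := Set.ncard_diff_singleton_add_one hT1 (Set.toFinite T)
    omega
  have hAb : A ≤ Subgroup.centralizer ({b} : Set G) := by
    intro a' ha'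
    rw [mem_cent_single]
    exact hA b hbA a' ha'
  have hAD : (D ⊓ A : Subgroup G) = A ⊓ C := by
    rw [hD]; ext g; simp only [Subgroup.mem_inf]; constructor
    · rintro ⟨⟨h1, _⟩, h3⟩; exact ⟨h3, h1⟩
    · rintro ⟨h1, h2⟩; exact ⟨⟨h2, hAb h1⟩, h1⟩
  have hprod := Cfsg.Agent.Lib.Helper2.card_sup_mul_card_inf D A (by
      rw [Subgroup.normalizer_eq_top_iff.2 hAn]; exact le_top)
  rw [hAD] at hprod
  have hsupcard : Nat.card (D ⊔ A : Subgroup G) = Nat.card D * T.ncard := by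
    have hpos : 0 < Nat.card (A ⊓ C : Subgroup G) := Nat.card_pos
    have : Nat.card (D ⊔ A : Subgroup G) * Nat.card (A ⊓ C : Subgroup G)
        = (Nat.card D * T.ncard) * Nat.card (A ⊓ C : Subgroup G) := by
      rw [hprod, c1]; ring
    exact Nat.eq_of_mul_eq_mul_right hpos this
  have hsle : (D ⊔ A : Subgroup G) ≤ Subgroup.centralizer ({b} : Set G) :=
    sup_le (by rw [hD]; exact inf_le_right) hAb
  have hcardle := Subgroup.card_le_of_le hsle
  have hlt : Nat.card C < Nat.card (Subgroup.centralizer ({b} : Set G)) := by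
    have hDpos : 0 < Nat.card D := Nat.card_pos
    calc Nat.card C = Nat.card D * T2.ncard := c2
      _ < Nat.card D * T.ncard := Nat.mul_lt_mul_of_pos_left (by omega) hDpos
      _ = Nat.card (D ⊔ A : Subgroup G) := hsupcard.symm
      _ ≤ _ := hcardle
  have i1 := Subgroup.card_mul_index C
  have i2 := Subgroup.card_mul_index (Subgroup.centralizer ({b} : Set G))
  by_contra hge
  push_neg at hge
  have hipos : 0 < (Subgroup.centralizer ({b} : Set G)).index :=
    Nat.pos_of_ne_zero Subgroup.index_ne_zero_of_finite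
  have : Nat.card C * C.index < Nat.card (Subgroup.centralizer ({b} : Set G)) *
      (Subgroup.centralizer ({b} : Set G)).index :=
    calc Nat.card C * C.index ≤ Nat.card C * (Subgroup.centralizer ({b} : Set G)).index :=
          Nat.mul_le_mul_left _ hge
      _ < _ := Nat.mul_lt_mul_of_pos_right hlt hipos
  omega
/-- Let G be a finite group with a normal abelian subgroup A satisfying C_G(A) = A. Suppose some conjugacy class of G has size greater than 1, let m be the smallest such size, and let M be the subgroup generated by the elements whose class has size 1 or m. Then M is nilpotent of class at most 3. -/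
theorem result {G : Type*} [Group G] [Finite G]
    (A : Subgroup G) [A.Normal] (hA : IsMulCommutative A) (hCA : Subgroup.centralizer (A : Set G) = A)
    (m : ℕ) (hm1 : 1 < m) (hm : ∃ x : G, (Subgroup.centralizer ({x} : Set G)).index = m) (hmin : ∀ x : G, 1 < (Subgroup.centralizer ({x} : Set G)).index → m ≤ (Subgroup.centralizer ({x} : Set G)).index) :
    Subgroup.upperCentralSeries ↥(Subgroup.closure {x : G | (Subgroup.centralizer ({x} : Set G)).index = 1 ∨ (Subgroup.centralizer ({x} : Set G)).index = m}) 3 = ⊤ := by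
  classical
  have hAcomm : ∀ a ∈ A, ∀ b ∈ A, a * b = b * a :=
    (Cfsg.Agent.Lib.Helper2.isMulCommutative_iff_forall_mem A).1 hA
  have hcen : ∀ y : G, (Subgroup.centralizer ({y} : Set G)).index = 1 → y ∈ Subgroup.center G := by
    intro y hy
    have htop : Subgroup.centralizer ({y} : Set G) = ⊤ := Subgroup.index_eq_one.1 hy
    rw [Subgroup.mem_center_iff]; intro g
    have := (mem_cent_single y g).1 (htop ▸ Subgroup.mem_top g)
    exact this.symm
  have hgen : ∀ x ∈ {x : G | (Subgroup.centralizer ({x} : Set G)).index = 1 ∨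
      (Subgroup.centralizer ({x} : Set G)).index = m}, ∀ a ∈ A,
      a * x * a⁻¹ * x⁻¹ ∈ Subgroup.center G := by
    rintro x (hx | hx) a ha
    · have hxc := hcen x hx
      have hxa : a * x = x * a := (Subgroup.mem_center_iff.1 hxc a)
      have : a * x * a⁻¹ * x⁻¹ = 1 := by rw [hxa]; group
      rw [this]; exact one_mem _
    · apply comm_central A hAcomm x _ a ha
      intro y hy
      rw [hx] at hy
      have h1 : ¬ 1 < (Subgroup.centralizer ({y} : Set G)).index := fun h => by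
        have := hmin y h; omega
      have h0 : (Subgroup.centralizer ({y} : Set G)).index ≠ 0 := Subgroup.index_ne_zero_of_finite
      exact hcen y (by omega)
  have hZn : (Subgroup.center G).Normal := inferInstance
  have hP : ∀ y ∈ Subgroup.closure {x : G | (Subgroup.centralizer ({x} : Set G)).index = 1 ∨
      (Subgroup.centralizer ({x} : Set G)).index = m}, ∀ a ∈ A,
      a * y * a⁻¹ * y⁻¹ ∈ Subgroup.center G := by
    intro y hy
    induction hy using Subgroup.closure_induction with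
    | mem x hx => exact hgen x hx
    | one => intro a _; simp
    | mul y z _ _ ihy ihz =>
      intro a ha
      have e : a * (y * z) * a⁻¹ * (y * z)⁻¹
          = (a * y * a⁻¹ * y⁻¹) * (y * (a * z * a⁻¹ * z⁻¹) * y⁻¹) := by group
      rw [e]
      exact mul_mem (ihy a ha) (hZn.conj_mem _ (ihz a ha) y)
    | inv y _ ihy =>
      intro a ha
      have e : a * y⁻¹ * a⁻¹ * y⁻¹⁻¹ = y⁻¹ * (a * y * a⁻¹ * y⁻¹)⁻¹ * y⁻¹⁻¹ := by group
      rw [e]
      exact hZn.conj_mem _ (inv_mem (ihy a ha)) y⁻¹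
  have hcomm0 : ∀ y ∈ Subgroup.closure {x : G | (Subgroup.centralizer ({x} : Set G)).index = 1 ∨
      (Subgroup.centralizer ({x} : Set G)).index = m},
      ∀ z ∈ Subgroup.closure {x : G | (Subgroup.centralizer ({x} : Set G)).index = 1 ∨
      (Subgroup.centralizer ({x} : Set G)).index = m}, y⁻¹ * z⁻¹ * y * z ∈ A := by
    intro y hy z hz
    have hgoal : y⁻¹ * z⁻¹ * y * z ∈ Subgroup.centralizer (A : Set G) := by
      rw [Subgroup.mem_centralizer_iff]
      intro a ha
      obtain ⟨cz, hcz⟩ : ∃ c, c = a * z * a⁻¹ * z⁻¹ := ⟨_, rfl⟩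
      obtain ⟨cy, hcy⟩ : ∃ c, c = a * y * a⁻¹ * y⁻¹ := ⟨_, rfl⟩
      have hczZ : cz⁻¹ ∈ Subgroup.center G := inv_mem (hcz ▸ hP z hz a ha)
      have hcyZ : cy⁻¹ ∈ Subgroup.center G := inv_mem (hcy ▸ hP y hy a ha)
      have hzc : ∀ g, g * cz⁻¹ = cz⁻¹ * g := Subgroup.mem_center_iff.1 hczZ
      have hyc : ∀ g, g * cy⁻¹ = cy⁻¹ * g := Subgroup.mem_center_iff.1 hcyZ
      have e1 : z * a * z⁻¹ = cz⁻¹ * a := by rw [hcz]; group
      have e2 : y * a * y⁻¹ = cy⁻¹ * a := by rw [hcy]; group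
      have E1 : y * z * a * z⁻¹ * y⁻¹ = cz⁻¹ * cy⁻¹ * a := by
        calc y * z * a * z⁻¹ * y⁻¹ = y * (z * a * z⁻¹) * y⁻¹ := by group
          _ = y * (cz⁻¹ * a) * y⁻¹ := by rw [e1]
          _ = (y * cz⁻¹) * a * y⁻¹ := by group
          _ = cz⁻¹ * y * a * y⁻¹ := by rw [hzc y]
          _ = cz⁻¹ * (y * a * y⁻¹) := by group
          _ = cz⁻¹ * (cy⁻¹ * a) := by rw [e2]
          _ = cz⁻¹ * cy⁻¹ * a := by group
      have E2 : z * y * a * y⁻¹ * z⁻¹ = cz⁻¹ * cy⁻¹ * a := by
        calc z * y * a * y⁻¹ * z⁻¹ = z * (y * a * y⁻¹) * z⁻¹ := by group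
          _ = z * (cy⁻¹ * a) * z⁻¹ := by rw [e2]
          _ = (z * cy⁻¹) * a * z⁻¹ := by group
          _ = cy⁻¹ * z * a * z⁻¹ := by rw [hyc z]
          _ = cy⁻¹ * (z * a * z⁻¹) := by group
          _ = cy⁻¹ * (cz⁻¹ * a) := by rw [e1]
          _ = (cy⁻¹ * cz⁻¹) * a := by group
          _ = cz⁻¹ * cy⁻¹ * a := by rw [hzc cy⁻¹]
      have E : y * z * a * z⁻¹ * y⁻¹ = z * y * a * y⁻¹ * z⁻¹ := E1.trans E2.symm
      calc a * (y⁻¹ * z⁻¹ * y * z) = y⁻¹ * z⁻¹ * (z * y * a * y⁻¹ * z⁻¹) * y * z := by group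
        _ = y⁻¹ * z⁻¹ * (y * z * a * z⁻¹ * y⁻¹) * y * z := by rw [E]
        _ = y⁻¹ * z⁻¹ * y * z * a := by group
    rw [hCA] at hgoal
    exact hgoal
  have hcomm : ∀ y ∈ Subgroup.closure {x : G | (Subgroup.centralizer ({x} : Set G)).index = 1 ∨
      (Subgroup.centralizer ({x} : Set G)).index = m},
      ∀ z ∈ Subgroup.closure {x : G | (Subgroup.centralizer ({x} : Set G)).index = 1 ∨
      (Subgroup.centralizer ({x} : Set G)).index = m}, y * z * y⁻¹ * z⁻¹ ∈ A := by
    intro y hy z hz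
    have := hcomm0 y⁻¹ (inv_mem hy) z⁻¹ (inv_mem hz)
    simpa using this
  have hZ1 : ∀ w : ↥(Subgroup.closure {x : G | (Subgroup.centralizer ({x} : Set G)).index = 1 ∨
      (Subgroup.centralizer ({x} : Set G)).index = m}), (w : G) ∈ Subgroup.center G →
      w ∈ Subgroup.upperCentralSeries _ 1 := by
    intro w hw
    rw [Subgroup.upperCentralSeries_one, Subgroup.mem_center_iff]
    intro g
    apply Subtype.ext
    exact Subgroup.mem_center_iff.1 hw g
  have hZ2 : ∀ w : ↥(Subgroup.closure {x : G | (Subgroup.centralizer ({x} : Set G)).index = 1 ∨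
      (Subgroup.centralizer ({x} : Set G)).index = m}), (w : G) ∈ A →
      w ∈ Subgroup.upperCentralSeries _ 2 := by
    intro w hw
    rw [Subgroup.mem_upperCentralSeries_succ_iff]
    intro y
    apply hZ1
    rw [commutatorElement_def]
    exact hP y y.2 w hw
  rw [eq_top_iff]
  intro w _
  rw [Subgroup.mem_upperCentralSeries_succ_iff]
  intro y
  apply hZ2
  rw [commutatorElement_def]
  exact hcomm w w.2 y y.2


end Cfsg.Agent.S4163
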