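import Cfsg.Statements.S4168

set_option autoImplicit false
open Cfsg

namespace Cfsg.Agent.S4168

/-- Let L be a finite quasisimple group (perfect with L/Z(L) simple). Then every prime dividing the order of the centre Z(L) also divides the order of L/Z(L). -/
theorem result {L : Type*} [Group L] [Finite L] (hL : Cfsg.IsQuasisimple L)
    (p : ℕ) (hp : p.Prime) (hdiv : p ∣ Nat.card (Subgroup.center L)) : p ∣ (Subgroup.center L).index := by
  classical
  obtain ⟨hperf, -⟩ := hL
  have : Fact p.Prime := ⟨hp⟩
  by_contra hnd
  let P : Sylow p L := default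
  -- P lies in the centre
  have hPZ : (P : Subgroup L) ≤ Subgroup.center L := by
    have h1 : Nat.card ((P : Subgroup L).map (QuotientGroup.mk' (Subgroup.center L))) ∣ Nat.card (P : Subgroup L) :=
      Subgroup.card_map_dvd _ _
    have h2 : Nat.card ((P : Subgroup L).map (QuotientGroup.mk' (Subgroup.center L))) ∣ (Subgroup.center L).index := by
      rw [Subgroup.index_eq_card]
      exact Subgroup.card_subgroup_dvd_card _
    rw [P.card_eq_multiplicity] at h1
    have hcop : Nat.Coprime (p ^ (Nat.card L).factorization p) (Subgroup.center L).index :=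
      Nat.Coprime.pow_left _ ((Nat.Prime.coprime_iff_not_dvd hp).mpr hnd)
    have hone : Nat.card ((P : Subgroup L).map (QuotientGroup.mk' (Subgroup.center L))) = 1 :=
      Nat.eq_one_of_dvd_coprimes hcop h1 h2
    have hbot := Subgroup.card_eq_one.mp hone
    rw [Subgroup.map_eq_bot_iff, QuotientGroup.ker_mk'] at hbot
    exact hbot
  have hcent : Subgroup.centralizer ((P : Subgroup L) : Set L) = ⊤ :=
    Subgroup.centralizer_eq_top_iff_subset.mpr hPZ
  have hP : Subgroup.normalizer ((P : Subgroup L) : Set L) ≤ Subgroup.centralizer ((P : Subgroup L) : Set L) := by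
    rw [hcent]; exact le_top
  have hcompl := MonoidHom.ker_transferSylow_isComplement' P hP
  have hker : (MonoidHom.transferSylow P hP).ker = ⊤ := by
    rw [eq_top_iff, ← hperf.commutator_eq_top, commutator_def, Subgroup.commutator_le]
    intro g₁ _ g₂ _
    rw [MonoidHom.mem_ker, map_commutatorElement, commutatorElement_eq_one_iff_commute]
    have := hPZ (MonoidHom.transferSylow P hP g₂).2
    rw [Subgroup.mem_center_iff] at this
    exact Subtype.ext (this ((MonoidHom.transferSylow P hP g₁) : L))
  have hcard := hcompl.card_mul_card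
  rw [hker, Subgroup.card_top] at hcard
  have hP1 : Nat.card (P : Subgroup L) = 1 := by
    have hpos : 0 < Nat.card L := Nat.card_pos
    exact Nat.eq_of_mul_eq_mul_left hpos (by rw [hcard, mul_one])
  rw [P.card_eq_multiplicity] at hP1
  have hpL : p ∣ Nat.card L := dvd_trans hdiv (Subgroup.card_subgroup_dvd_card _)
  have hfac : 0 < (Nat.card L).factorization p :=
    hp.factorization_pos_of_dvd Nat.card_pos.ne' hpL
  have : 1 < p ^ (Nat.card L).factorization p := Nat.one_lt_pow hfac.ne' hp.one_lt
  omega

end Cfsg.Agent.S4168
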