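import Cfsg.Statements.S4169
import Mathlib
import Cfsg.Agent.S4163
import Cfsg.Agent.Lib.Helper4.MaxNormAb


set_option autoImplicit false
open Cfsg

namespace Cfsg.Agent.S4169

/-- Let P be a finite p-group whose conjugacy classes have exactly two sizes (1 and one other value). Then P has nilpotency class at most 3. -/
theorem result {P : Type*} [Group P] [Finite P] {p : ℕ} [Fact p.Prime] (hP : IsPGroup p P)
    (m : ℕ) (hm : 1 < m) (h : ∀ x : P, (Subgroup.centralizer ({x} : Set P)).index = 1 ∨ (Subgroup.centralizer ({x} : Set P)).index = m) :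
    upperCentralSeries P 3 = ⊤ := by
  classical
  have hp : p.Prime := Fact.out
  have hcen : ∀ y : P, (Subgroup.centralizer ({y} : Set P)).index = 1 → y ∈ Subgroup.center P := by
    intro y hy
    have htop : Subgroup.centralizer ({y} : Set P) = ⊤ := Subgroup.index_eq_one.1 hy
    rw [Subgroup.mem_center_iff]; intro g
    have := (Cfsg.Agent.S4163.mem_cent_single y g).1 (htop ▸ Subgroup.mem_top g)
    exact this.symm
  -- a maximal normal abelian subgroup
  obtain ⟨A, hAmax⟩ := Set.Finite.exists_maximal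
    (s := {B : Subgroup P | B.Normal ∧ IsMulCommutative B}) (Set.toFinite _)
    ⟨⊥, inferInstance, inferInstance⟩
  obtain ⟨⟨hAn, hA⟩, hAm⟩ := hAmax
  haveI := hAn
  have hCA : Subgroup.centralizer (A : Set P) = A :=
    Cfsg.Agent.Lib.Helper4.mna_centralizer_eq hP A hA (by
      intro B hBn hB hAB
      exact le_antisymm (hAm ⟨hBn, hB⟩ hAB) hAB)
  have hAcomm : ∀ a ∈ A, ∀ b ∈ A, a * b = b * a :=
    (Cfsg.Agent.Lib.Helper2.isMulCommutative_iff_forall_mem A).1 hA
  have hP' : ∀ x : P, ∀ a ∈ A, a * x * a⁻¹ * x⁻¹ ∈ Subgroup.center P := by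
    intro x a ha
    rcases h x with hx | hx
    · have hxc := hcen x hx
      have hxa : a * x = x * a := (Subgroup.mem_center_iff.1 hxc a)
      have : a * x * a⁻¹ * x⁻¹ = 1 := by rw [hxa]; group
      rw [this]; exact one_mem _
    · apply Cfsg.Agent.S4163.comm_central A hAcomm x _ a ha
      intro y hy
      rw [hx] at hy
      rcases h y with hy1 | hy1
      · exact hcen y hy1
      · omega
  have hcomm0 : ∀ y z : P, y⁻¹ * z⁻¹ * y * z ∈ A := by
    intro y z
    have hgoal : y⁻¹ * z⁻¹ * y * z ∈ Subgroup.centralizer (A : Set P) := by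
      rw [Subgroup.mem_centralizer_iff]
      intro a ha
      obtain ⟨cz, hcz⟩ : ∃ c, c = a * z * a⁻¹ * z⁻¹ := ⟨_, rfl⟩
      obtain ⟨cy, hcy⟩ : ∃ c, c = a * y * a⁻¹ * y⁻¹ := ⟨_, rfl⟩
      have hczZ : cz⁻¹ ∈ Subgroup.center P := inv_mem (hcz ▸ hP' z a ha)
      have hcyZ : cy⁻¹ ∈ Subgroup.center P := inv_mem (hcy ▸ hP' y a ha)
      have hzc : ∀ g, g * cz⁻¹ = cz⁻¹ * g := Subgroup.mem_center_iff.1 hczZ
      have hyc : ∀ g, g * cy⁻¹ = cy⁻¹ * g := Subgroup.mem_center_iff.1 hcyZ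
      have e1 : z * a * z⁻¹ = cz⁻¹ * a := by rw [hcz]; group
      have e2 : y * a * y⁻¹ = cy⁻¹ * a := by rw [hcy]; group
      have E1 : y * z * a * z⁻¹ * y⁻¹ = cz⁻¹ * cy⁻¹ * a := by
        calc y * z * a * z⁻¹ * y⁻¹ = y * (z * a * z⁻¹) * y⁻¹ := by group
          _ = y * (cz⁻¹ * a) * y⁻¹ := by rw [e1]
          _ = (y * cz⁻¹) * a * y⁻¹ := by group
          _ = cz⁻¹ * y * a * y⁻¹ := by rw [hzc y]
          _ = cz⁻¹ * (y * a * y⁻¹) := by group
          _ = cz⁻¹ * (cy⁻¹ * a) := by rw [e2]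
          _ = cz⁻¹ * cy⁻¹ * a := by group
      have E2 : z * y * a * y⁻¹ * z⁻¹ = cz⁻¹ * cy⁻¹ * a := by
        calc z * y * a * y⁻¹ * z⁻¹ = z * (y * a * y⁻¹) * z⁻¹ := by group
          _ = z * (cy⁻¹ * a) * z⁻¹ := by rw [e2]
          _ = (z * cy⁻¹) * a * z⁻¹ := by group
          _ = cy⁻¹ * z * a * z⁻¹ := by rw [hyc z]
          _ = cy⁻¹ * (z * a * z⁻¹) := by group
          _ = cy⁻¹ * (cz⁻¹ * a) := by rw [e1]
          _ = (cy⁻¹ * cz⁻¹) * a := by group
          _ = cz⁻¹ * cy⁻¹ * a := by rw [hzc cy⁻¹]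
      have E : y * z * a * z⁻¹ * y⁻¹ = z * y * a * y⁻¹ * z⁻¹ := E1.trans E2.symm
      calc a * (y⁻¹ * z⁻¹ * y * z) = y⁻¹ * z⁻¹ * (z * y * a * y⁻¹ * z⁻¹) * y * z := by group
        _ = y⁻¹ * z⁻¹ * (y * z * a * z⁻¹ * y⁻¹) * y * z := by rw [E]
        _ = y⁻¹ * z⁻¹ * y * z * a := by group
    rw [hCA] at hgoal
    exact hgoal
  have hcomm : ∀ y z : P, y * z * y⁻¹ * z⁻¹ ∈ A := by
    intro y z
    have := hcomm0 y⁻¹ z⁻¹
    simpa using this
  have hZ1 : ∀ w : P, w ∈ Subgroup.center P → w ∈ Subgroup.upperCentralSeries P 1 := by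
    intro w hw
    rw [Subgroup.upperCentralSeries_one]
    exact hw
  have hZ2 : ∀ w : P, w ∈ A → w ∈ Subgroup.upperCentralSeries P 2 := by
    intro w hw
    rw [Subgroup.mem_upperCentralSeries_succ_iff]
    intro y
    apply hZ1
    rw [commutatorElement_def]
    exact hP' y w hw
  show Subgroup.upperCentralSeries P 3 = ⊤
  rw [eq_top_iff]
  intro w _
  rw [Subgroup.mem_upperCentralSeries_succ_iff]
  intro y
  apply hZ2
  rw [commutatorElement_def]
  exact hcomm w y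


end Cfsg.Agent.S4169
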