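import Cfsg.Statements.S4177
import Mathlib

set_option autoImplicit false
open Cfsg

namespace Cfsg.Agent.S4177

open MulAction in
/-- coprime orbit sizes: the stabilizer of `b` is transitive on the orbit of `a` -/
theorem exists_stab_smul_eq {H X : Type*} [Group H] [Finite H] [MulAction H X] (a b : X)
    (hcop : (Nat.card (orbit H a)).Coprime (Nat.card (orbit H b))) (h : H) :
    ∃ κ ∈ stabilizer H b, κ • a = h • a := by
  set A := stabilizer H a with hA
  set K := stabilizer H b with hK
  have hm : A.index = Nat.card (orbit H a) := by rw [MulAction.index_stabilizer, Nat.card_coe_set_eq]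
  have hn : K.index = Nat.card (orbit H b) := by rw [MulAction.index_stabilizer, Nat.card_coe_set_eq]
  have hsub : orbit K a ⊆ orbit H a := by
    rintro _ ⟨κ, rfl⟩
    exact ⟨(κ : H), rfl⟩
  have hstab : stabilizer K a = A.subgroupOf K := by
    ext κ
    rw [MulAction.mem_stabilizer_iff, Subgroup.mem_subgroupOf, hA, MulAction.mem_stabilizer_iff]
    rfl
  have hr : Nat.card (orbit K a) = (A ⊓ K).relIndex K := by
    rw [Subgroup.inf_relIndex_right, Subgroup.relIndex, ← hstab, MulAction.index_stabilizer,
      Nat.card_coe_set_eq]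
  have h1 : (A ⊓ K).relIndex K * K.index = (A ⊓ K).index := Subgroup.relIndex_mul_index inf_le_right
  have h2 : A.index ∣ (A ⊓ K).index := Subgroup.index_dvd_of_le inf_le_left
  rw [← h1] at h2
  have hcop' : (A.index).Coprime K.index := by rw [hm, hn]; exact hcop
  have h3 : A.index ∣ (A ⊓ K).relIndex K := hcop'.dvd_of_dvd_mul_right h2
  rw [← hr, hm] at h3
  have hfin : (orbit H a).Finite := Set.finite_range (fun m : H => m • a)
  have hle : (orbit K a).ncard ≤ (orbit H a).ncard := Set.ncard_le_ncard hsub hfin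
  have hpos : 0 < (orbit K a).ncard := by
    rw [Set.ncard_pos (hfin.subset hsub)]
    exact ⟨a, MulAction.mem_orbit_self a⟩
  rw [Nat.card_coe_set_eq, Nat.card_coe_set_eq] at h3
  have hge : (orbit H a).ncard ≤ (orbit K a).ncard := Nat.le_of_dvd hpos h3
  have heq : orbit K a = orbit H a := Set.eq_of_subset_of_ncard_le hsub hge hfin
  have : h • a ∈ orbit K a := by rw [heq]; exact ⟨h, rfl⟩
  obtain ⟨κ, hκ⟩ := this
  exact ⟨(κ : H), κ.2, hκ⟩

/-- an invariant vector is a multiple of the orbit sum of a spanning vector -/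
theorem inv_eq_smul_orbitSum {k V K : Type*} [Field k] [AddCommGroup V] [Module k V] [Group K]
    [Fintype K] (hK : (Fintype.card K : k) ≠ 0) (ρ : Representation k K V) (a : V)
    (hspan : Submodule.span k {u : V | ∃ κ : K, ρ κ a = u} = ⊤) (w : V)
    (hw : ∀ κ : K, ρ κ w = w) : ∃ c : k, w = c • ∑ κ : K, ρ κ a := by
  let s : V →ₗ[k] V := ∑ κ : K, ρ κ
  have hs : ∀ v, s v = ∑ κ : K, ρ κ v := fun v => by simp [s, LinearMap.sum_apply]
  have hsorb : ∀ κ' : K, s (ρ κ' a) = s a := by
    intro κ'
    rw [hs, hs]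
    have : ∀ κ : K, ρ κ (ρ κ' a) = ρ (κ * κ') a := fun κ => by rw [map_mul]; rfl
    simp_rw [this]
    exact Equiv.sum_comp (Equiv.mulRight κ') (fun κ => ρ κ a)
  have htop : (Submodule.span k {s a}).comap s = ⊤ := by
    rw [eq_top_iff, ← hspan, Submodule.span_le]
    rintro _ ⟨κ', rfl⟩
    rw [SetLike.mem_coe, Submodule.mem_comap, hsorb]
    exact Submodule.mem_span_singleton_self _
  have hsw : s w ∈ Submodule.span k {s a} := by
    have : w ∈ (Submodule.span k {s a}).comap s := by rw [htop]; trivial
    exact this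
  obtain ⟨c, hc⟩ := Submodule.mem_span_singleton.1 hsw
  have hsw' : s w = (Fintype.card K : k) • w := by
    rw [hs]
    simp_rw [hw]
    rw [Finset.sum_const, Finset.card_univ, Nat.cast_smul_eq_nsmul]
  refine ⟨(Fintype.card K : k)⁻¹ * c, ?_⟩
  rw [mul_smul, ← hs, hc, hsw', smul_smul, inv_mul_cancel₀ hK, one_smul]

/-- Let k be a field whose characteristic does not divide the order of the finite group H (for instance a field of characteristic zero), and ρ a k-linear representation of H on V. Let a be a vector whose H-orbit spans V. Then the space of H-fixed vectors has dimension at most 1, and every vector b whose H-orbit has size coprime to the size of the orbit of a is fixed by H. -/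
theorem result {k V H : Type*} [Field k] [AddCommGroup V] [Module k V] [Group H] [Finite H]
    (hchar : ¬ ringChar k ∣ Nat.card H) (ρ : Representation k H V) (a : V)
    (hspan : Submodule.span k {u : V | ∃ h : H, ρ h a = u} = ⊤) :
    Module.finrank k ρ.invariants ≤ 1 ∧
    ∀ b : V, (Nat.card {u : V | ∃ h : H, ρ h a = u}).Coprime (Nat.card {u : V | ∃ h : H, ρ h b = u}) → ∀ h : H, ρ h b = b := by
  classical
  let _ : Fintype H := Fintype.ofFinite H
  have hcardH : (Fintype.card H : k) ≠ 0 := by
    intro h0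
    apply hchar
    rw [Nat.card_eq_fintype_card]
    exact (ringChar.spec k _).1 h0
  have hinvS : ∀ g : H, ρ g (∑ κ : H, ρ κ a) = ∑ κ : H, ρ κ a := by
    intro g
    rw [map_sum]
    have : ∀ κ : H, ρ g (ρ κ a) = ρ (g * κ) a := fun κ => by rw [map_mul]; rfl
    simp_rw [this]
    exact Equiv.sum_comp (Equiv.mulLeft g) (fun κ => ρ κ a)
  constructor
  · -- dimension of invariants
    have hmem : (∑ κ : H, ρ κ a) ∈ ρ.invariants := by
      rw [Representation.mem_invariants]; exact hinvS
    apply finrank_le_one (⟨∑ κ : H, ρ κ a, hmem⟩ : ρ.invariants)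
    intro w
    obtain ⟨c, hc⟩ := inv_eq_smul_orbitSum hcardH ρ a hspan (w : V)
      ((Representation.mem_invariants ρ _).1 w.2)
    exact ⟨c, Subtype.ext hc.symm⟩
  · intro b hcop
    -- the action of H on V
    let _ : MulAction H V := MulAction.compHom V (ρ : H →* Module.End k V)
    have hsmul : ∀ (h : H) (v : V), h • v = ρ h v := fun h v => rfl
    have horb : ∀ v : V, MulAction.orbit H v = {u : V | ∃ h : H, ρ h v = u} := by
      intro v; ext u; constructor
      · rintro ⟨h, rfl⟩; exact ⟨h, rfl⟩
      · rintro ⟨h, rfl⟩; exact ⟨h, rfl⟩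
    have hcop' : (Nat.card (MulAction.orbit H a)).Coprime (Nat.card (MulAction.orbit H b)) := by
      rw [horb a, horb b]; exact hcop
    set K := MulAction.stabilizer H b with hKdef
    have htrans : ∀ h : H, ∃ κ ∈ K, ρ κ a = ρ h a := fun h => exists_stab_smul_eq a b hcop' h
    -- the restricted representation
    let ρK : Representation k K V := ρ.comp K.subtype
    have hρK : ∀ (κ : K) (v : V), ρK κ v = ρ (κ : H) v := fun κ v => rfl
    have hcardK : (Fintype.card K : k) ≠ 0 := by
      intro h0
      apply hchar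
      have h1 : ringChar k ∣ Fintype.card K := (ringChar.spec k _).1 h0
      have h2 : Fintype.card K ∣ Nat.card H := by
        rw [← Nat.card_eq_fintype_card]; exact Subgroup.card_subgroup_dvd_card K
      exact h1.trans h2
    have hspanK : Submodule.span k {u : V | ∃ κ : K, ρK κ a = u} = ⊤ := by
      rw [eq_top_iff, ← hspan]
      apply Submodule.span_mono
      rintro _ ⟨h, rfl⟩
      obtain ⟨κ, hκ, hκa⟩ := htrans h
      exact ⟨⟨κ, hκ⟩, hκa⟩
    have hbK : ∀ κ : K, ρK κ b = b := fun κ => κ.2
    obtain ⟨c, hc⟩ := inv_eq_smul_orbitSum hcardK ρK a hspanK b hbK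
    -- the H-orbit sum is K-invariant, hence a multiple of the K-orbit sum
    -- relation: card K • S_H = card H • S_K
    have hrel : (Fintype.card K : k) • (∑ h : H, ρ h a) = (Fintype.card H : k) • ∑ κ : K, ρK κ a := by
      have h1 : ∑ κ : K, ρK κ (∑ h : H, ρ h a) = (Fintype.card K : k) • ∑ h : H, ρ h a := by
        simp_rw [hρK, hinvS]
        rw [Finset.sum_const, Finset.card_univ, Nat.cast_smul_eq_nsmul]
      have h2 : ∑ κ : K, ρK κ (∑ h : H, ρ h a) = (Fintype.card H : k) • ∑ κ : K, ρK κ a := by
        simp_rw [map_sum]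
        rw [Finset.sum_comm]
        have : ∀ h : H, ∑ κ : K, ρK κ (ρ h a) = ∑ κ : K, ρK κ a := by
          intro h
          obtain ⟨κ₀, hκ₀, hκ₀a⟩ := htrans h
          rw [← hκ₀a]
          have : ∀ κ : K, ρK κ (ρ κ₀ a) = ρK (κ * ⟨κ₀, hκ₀⟩) a := fun κ => by
            rw [hρK, hρK, Subgroup.coe_mul, map_mul]; rfl
          simp_rw [this]
          exact Equiv.sum_comp (Equiv.mulRight (⟨κ₀, hκ₀⟩ : K)) (fun κ => ρK κ a)
        simp_rw [this]
        rw [Finset.sum_const, Finset.card_univ, Nat.cast_smul_eq_nsmul]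
      rw [← h1, h2]
    have hSK : ∑ κ : K, ρK κ a = ((Fintype.card H : k)⁻¹ * (Fintype.card K : k)) • ∑ h : H, ρ h a := by
      rw [mul_smul, hrel, smul_smul, inv_mul_cancel₀ hcardH, one_smul]
    intro g
    rw [hc, hSK, map_smul, map_smul, hinvS]

end Cfsg.Agent.S4177
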