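import Cfsg.Statements.S4178

set_option autoImplicit false
open Cfsg

namespace Cfsg.Agent.S4178

set_option linter.style.haveILetI false

theorem index_le_of_map {G X : Type*} [Group G] [Finite X] (R : Subgroup G) (φ : G → X) (x0 : X)
    (h0 : ∀ g, φ g ≠ x0) (hφ : ∀ a b, φ a = φ b → a⁻¹ * b ∈ R) : R.index ≤ Nat.card X - 1 := by
  classical
  let ψ : Option (G ⧸ R) → X := fun o => o.elim x0 (fun c => φ (Quotient.out c))
  have hψ : Function.Injective ψ := by
    intro a b hab
    cases a with
    | none =>
      cases b with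
      | none => rfl
      | some b =>
        have hab' : x0 = φ (Quotient.out b) := hab
        exact absurd hab'.symm (h0 _)
    | some a =>
      cases b with
      | none =>
        have hab' : φ (Quotient.out a) = x0 := hab
        exact absurd hab' (h0 _)
      | some b =>
        have hab' : φ (Quotient.out a) = φ (Quotient.out b) := hab
        have h1 : (Quotient.out a)⁻¹ * Quotient.out b ∈ R := hφ _ _ hab'
        have h2 : (QuotientGroup.mk (Quotient.out a) : G ⧸ R) = QuotientGroup.mk (Quotient.out b) :=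
          QuotientGroup.eq.mpr h1
        rw [QuotientGroup.out_eq', QuotientGroup.out_eq'] at h2
        rw [h2]
  have h3 := Nat.card_le_card_of_injective ψ hψ
  haveI : Finite (Option (G ⧸ R)) := Finite.of_injective ψ hψ
  haveI : Finite (G ⧸ R) :=
    Finite.of_injective (some : G ⧸ R → Option (G ⧸ R)) (Option.some_injective _)
  rw [Finite.card_option] at h3
  have h4 : R.index = Nat.card (G ⧸ R) := rfl
  omega

/-- Let F be a finite field with q elements, V a non-zero finite-dimensional F-space of dimension d, H a group of invertible linear maps of V, and R the subgroup of H generated by the elements of H that fix some non-zero vector (have eigenvalue 1). Then the index of R in H is at most q^d − 1; and if H leaves invariant some proper non-zero subspace, the index is at most q^(d/2) − 1. -/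
theorem result {F V : Type*} [Field F] [Fintype F] [AddCommGroup V] [Module F V] [FiniteDimensional F V] [Nontrivial V]
    (H : Subgroup (V ≃ₗ[F] V)) :
    (Subgroup.closure {h : ↥H | ∃ v : V, v ≠ 0 ∧ (h : V ≃ₗ[F] V) v = v}).index ≤ Fintype.card F ^ Module.finrank F V - 1 ∧
    ((∃ W : Submodule F V, W ≠ ⊥ ∧ W ≠ ⊤ ∧ ∀ h ∈ H, ∀ w ∈ W, h w ∈ W) →
      ((Subgroup.closure {h : ↥H | ∃ v : V, v ≠ 0 ∧ (h : V ≃ₗ[F] V) v = v}).index : ℝ) ≤ Real.sqrt ((Fintype.card F : ℝ) ^ Module.finrank F V) - 1) := by
  classical
  haveI : Finite V := Module.finite_of_finite F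
  obtain ⟨R, hR⟩ : ∃ R : Subgroup ↥H, R = Subgroup.closure {h : ↥H | ∃ v : V, v ≠ 0 ∧ (h : V ≃ₗ[F] V) v = v} := ⟨_, rfl⟩
  rw [← hR]
  have hq1 : 1 ≤ Fintype.card F := Fintype.card_pos
  have hcardV : Nat.card V = Fintype.card F ^ Module.finrank F V := by
    rw [Module.natCard_eq_pow_finrank (K := F) (V := V), Nat.card_eq_fintype_card]
  have hgen : ∀ g : ↥H, (∃ v : V, v ≠ 0 ∧ (g : V ≃ₗ[F] V) v = v) → g ∈ R := fun g hg => by
    rw [hR]; exact Subgroup.subset_closure hg
  have hinvapp : ∀ (a b : ↥H) (x : V), ((a⁻¹ * b : ↥H) : V ≃ₗ[F] V) x = (a : V ≃ₗ[F] V).symm ((b : V ≃ₗ[F] V) x) :=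
    fun a b x => rfl
  constructor
  · obtain ⟨v, hv⟩ := exists_ne (0 : V)
    have := index_le_of_map R (fun h : ↥H => (h : V ≃ₗ[F] V) v) 0 ?_ ?_
    · rwa [hcardV] at this
    · intro g hg
      exact hv ((g : V ≃ₗ[F] V).map_eq_zero_iff.mp hg)
    · intro a b hab
      apply hgen
      refine ⟨v, hv, ?_⟩
      have hab' : (a : V ≃ₗ[F] V) v = (b : V ≃ₗ[F] V) v := hab
      rw [hinvapp, ← hab']
      exact (a : V ≃ₗ[F] V).symm_apply_apply v
  · rintro ⟨W, hW0, hWT, hWinv⟩
    have key : ∃ j : ℕ, 2 * j ≤ Module.finrank F V ∧ R.index ≤ Fintype.card F ^ j - 1 := by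
      by_cases hk : 2 * Module.finrank F ↥W ≤ Module.finrank F V
      · refine ⟨Module.finrank F ↥W, hk, ?_⟩
        obtain ⟨v, hvW, hv⟩ := (Submodule.ne_bot_iff W).mp hW0
        have := index_le_of_map R
          (fun h : ↥H => (⟨(h : V ≃ₗ[F] V) v, hWinv _ h.2 v hvW⟩ : ↥W)) 0 ?_ ?_
        · rwa [Module.natCard_eq_pow_finrank (K := F) (V := ↥W), Nat.card_eq_fintype_card] at this
        · intro g hg
          have h1 : (g : V ≃ₗ[F] V) v = 0 := congrArg Subtype.val hg
          exact hv ((g : V ≃ₗ[F] V).map_eq_zero_iff.mp h1)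
        · intro a b hab
          have hab' : (a : V ≃ₗ[F] V) v = (b : V ≃ₗ[F] V) v := congrArg Subtype.val hab
          apply hgen
          refine ⟨v, hv, ?_⟩
          rw [hinvapp, ← hab']
          exact (a : V ≃ₗ[F] V).symm_apply_apply v
      · push Not at hk
        have hfr : Module.finrank F (V ⧸ W) + Module.finrank F ↥W = Module.finrank F V :=
          Submodule.finrank_quotient_add_finrank W
        refine ⟨Module.finrank F (V ⧸ W), by omega, ?_⟩
        obtain ⟨v, hvW⟩ : ∃ v : V, v ∉ W := by
          by_contra hcon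
          push Not at hcon
          exact hWT (eq_top_iff.mpr fun x _ => hcon x)
        haveI : Finite (V ⧸ W) := Module.finite_of_finite F
        have := index_le_of_map R
          (fun h : ↥H => (Submodule.Quotient.mk ((h : V ≃ₗ[F] V) v) : V ⧸ W)) 0 ?_ ?_
        · rwa [Module.natCard_eq_pow_finrank (K := F) (V := V ⧸ W), Nat.card_eq_fintype_card] at this
        · intro g hg
          have h1 : (g : V ≃ₗ[F] V) v ∈ W := (Submodule.Quotient.mk_eq_zero W).mp hg
          have h2 := hWinv _ (H.inv_mem g.2) _ h1
          have h3 : ((g : V ≃ₗ[F] V)⁻¹) ((g : V ≃ₗ[F] V) v) = v := (g : V ≃ₗ[F] V).symm_apply_apply v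
          rw [h3] at h2
          exact hvW h2
        · intro a b hab
          have hab' : (a : V ≃ₗ[F] V) v - (b : V ≃ₗ[F] V) v ∈ W := (Submodule.Quotient.eq W).mp hab
          apply hgen
          obtain ⟨g, hg⟩ : ∃ g : V ≃ₗ[F] V, g = ((a⁻¹ * b : ↥H) : V ≃ₗ[F] V) := ⟨_, rfl⟩
          have hgH : g ∈ H := by rw [hg]; exact (a⁻¹ * b : ↥H).2
          have hgx : ∀ x : V, g x = (a : V ≃ₗ[F] V).symm ((b : V ≃ₗ[F] V) x) := fun x => by
            rw [hg]; rfl
          rw [← hg]
          have hgv : g v - v ∈ W := by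
            have h1 : g v - v = (a : V ≃ₗ[F] V).symm ((b : V ≃ₗ[F] V) v - (a : V ≃ₗ[F] V) v) := by
              rw [hgx, map_sub, LinearEquiv.symm_apply_apply]
            rw [h1]
            have h2 : (b : V ≃ₗ[F] V) v - (a : V ≃ₗ[F] V) v ∈ W := by
              have := W.neg_mem hab'
              rwa [neg_sub] at this
            exact hWinv _ (H.inv_mem a.2) _ h2
          by_contra hno
          push Not at hno
          have hfix : ∀ u : V, g u = u → u = 0 := fun u hu => by
            by_contra hu0
            exact hno u hu0 hu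
          let f : ↥W → ↥W := fun w => ⟨g w - w, W.sub_mem (hWinv g hgH w w.2) w.2⟩
          have hfinj : Function.Injective f := by
            intro w1 w2 h12
            have h1 : g (w1 : V) - w1 = g (w2 : V) - w2 := congrArg Subtype.val h12
            have h2 : g ((w1 : V) - w2) = (w1 : V) - w2 := by
              rw [map_sub]
              have : g (w1 : V) - g (w2 : V) - ((w1 : V) - w2) = 0 := by
                have h3 := sub_eq_zero.mpr h1
                rw [← h3]; abel
              exact sub_eq_zero.mp this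
            have h3 := hfix _ h2
            exact Subtype.ext (sub_eq_zero.mp h3)
          have hfsurj : Function.Surjective f := Finite.injective_iff_surjective.mp hfinj
          obtain ⟨w, hw⟩ := hfsurj ⟨g v - v, hgv⟩
          have h1 : g (w : V) - w = g v - v := congrArg Subtype.val hw
          have h2 : g (v - (w : V)) = v - w := by
            rw [map_sub]
            have : g v - g (w : V) - (v - (w : V)) = 0 := by
              have h3 := sub_eq_zero.mpr h1
              have : g v - g (w : V) - (v - (w : V)) = -(g (w : V) - w - (g v - v)) := by abel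
              rw [this, h3, neg_zero]
            exact sub_eq_zero.mp this
          have h3 := hfix _ h2
          have h4 : v = (w : V) := sub_eq_zero.mp h3
          exact hvW (h4 ▸ w.2)
    obtain ⟨j, hj, hidx⟩ := key
    have hqj : 1 ≤ Fintype.card F ^ j := Nat.one_le_pow _ _ hq1
    have h1 : (R.index : ℝ) ≤ (Fintype.card F : ℝ) ^ j - 1 := by
      have h : ((R.index : ℕ) : ℝ) ≤ ((Fintype.card F ^ j - 1 : ℕ) : ℝ) := by exact_mod_cast hidx
      rw [Nat.cast_sub hqj] at h
      simpa using h
    have hq1' : (1 : ℝ) ≤ (Fintype.card F : ℝ) := by exact_mod_cast hq1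
    have h2 : (Fintype.card F : ℝ) ^ j ≤ Real.sqrt ((Fintype.card F : ℝ) ^ Module.finrank F V) := by
      have h0 : (0 : ℝ) ≤ (Fintype.card F : ℝ) ^ j := by positivity
      rw [← Real.sqrt_sq h0]
      apply Real.sqrt_le_sqrt
      rw [← pow_mul]
      exact pow_le_pow_right₀ hq1' (by omega)
    linarith

end Cfsg.Agent.S4178
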