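import Cfsg.Statements.S4182
import Mathlib


set_option autoImplicit false
open Cfsg

namespace Cfsg.Agent.S4182


universe u v

section aux
variable {G : Type u} [Group G]

def pcl (p : ℕ) (L : Subgroup G) : Subgroup G :=
  Subgroup.closure {g : G | g ∈ L ∧ ∃ k : ℕ, orderOf g = p ^ k}

theorem pcl_le (p : ℕ) (L : Subgroup G) : pcl p L ≤ L := by
  unfold pcl
  rw [Subgroup.closure_le]
  intro g hg
  exact hg.1

theorem pcl_mono (p : ℕ) {L L' : Subgroup G} (h : L ≤ L') : pcl p L ≤ pcl p L' := by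
  unfold pcl
  apply Subgroup.closure_mono
  intro g hg
  exact ⟨h hg.1, hg.2⟩

theorem mem_pcl (p : ℕ) {L : Subgroup G} {g : G} (hg : g ∈ L)
    (hk : ∃ k : ℕ, orderOf g = p ^ k) : g ∈ pcl p L :=
  Subgroup.subset_closure ⟨hg, hk⟩

theorem pcl_idem (p : ℕ) (L : Subgroup G) : pcl p (pcl p L) = pcl p L := by
  apply le_antisymm (pcl_le p _)
  intro g hg
  unfold pcl at hg ⊢
  revert g
  rw [← SetLike.le_def, Subgroup.closure_le]
  intro g hg
  exact Subgroup.subset_closure ⟨Subgroup.subset_closure hg, hg.2⟩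

theorem mem_cj {g t : G} {L : Subgroup G} :
    t ∈ L.map (MulAut.conj g).toMonoidHom ↔ g⁻¹ * t * g ∈ L := by
  constructor
  · rintro ⟨y, hy, rfl⟩
    have e : g⁻¹ * ((MulAut.conj g).toMonoidHom y) * g = y := by
      show g⁻¹ * (g * y * g⁻¹) * g = y
      group
    rw [e]; exact hy
  · intro h
    refine ⟨g⁻¹ * t * g, h, ?_⟩
    show g * (g⁻¹ * t * g) * g⁻¹ = t
    group

theorem pcl_cj (p : ℕ) (g : G) (L : Subgroup G) :
    pcl p (L.map (MulAut.conj g).toMonoidHom) = (pcl p L).map (MulAut.conj g).toMonoidHom := by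
  unfold pcl
  rw [MonoidHom.map_closure]
  congr 1
  ext t
  constructor
  · rintro ⟨⟨y, hy, rfl⟩, k, hk⟩
    refine ⟨y, ⟨hy, k, ?_⟩, rfl⟩
    rw [← hk]
    exact (MulEquiv.orderOf_eq (MulAut.conj g) y).symm
  · rintro ⟨y, ⟨hy, k, hk⟩, rfl⟩
    refine ⟨Subgroup.mem_map_of_mem _ hy, k, ?_⟩
    rw [← hk]
    exact MulEquiv.orderOf_eq (MulAut.conj g) y

def PP (p : ℕ) : Set (Subgroup G) := {L | L ≠ ⊤ ∧ pcl p L = L}

theorem cj_mem_PP (p : ℕ) (g : G) {L : Subgroup G} (h : L ∈ PP p) :
    L.map (MulAut.conj g).toMonoidHom ∈ PP p := by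
  refine ⟨?_, ?_⟩
  · intro htop
    apply h.1
    rw [eq_top_iff]
    intro t _
    have h1 : g * t * g⁻¹ ∈ L.map (MulAut.conj g).toMonoidHom := by rw [htop]; trivial
    have h2 := mem_cj.1 h1
    have e : g⁻¹ * (g * t * g⁻¹) * g = t := by group
    rw [e] at h2; exact h2
  · rw [pcl_cj, h.2]

theorem cj_inv_cj (g : G) (L : Subgroup G) :
    (L.map (MulAut.conj g).toMonoidHom).map (MulAut.conj g⁻¹).toMonoidHom = L := by
  ext t
  rw [mem_cj, mem_cj]
  have e : g⁻¹ * (g⁻¹⁻¹ * t * g⁻¹) * g = t := by group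
  rw [e]

theorem cj_maximal (p : ℕ) (g : G) {L : Subgroup G} (h : Maximal (fun x => x ∈ PP p) L) :
    Maximal (fun x => x ∈ PP p) (L.map (MulAut.conj g).toMonoidHom) := by
  refine ⟨cj_mem_PP p g h.1, ?_⟩
  intro M hM hle
  have h1 : L ≤ M.map (MulAut.conj g⁻¹).toMonoidHom := by
    have := Subgroup.map_mono (f := (MulAut.conj g⁻¹).toMonoidHom) hle
    rwa [cj_inv_cj] at this
  have h2 := h.2 (cj_mem_PP p g⁻¹ hM) h1
  have h3 := Subgroup.map_mono (f := (MulAut.conj g).toMonoidHom) h2
  have h4 : (M.map (MulAut.conj g⁻¹).toMonoidHom).map (MulAut.conj g).toMonoidHom = M := by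
    have := cj_inv_cj g⁻¹ M
    rwa [inv_inv] at this
  rwa [h4] at h3

end aux

theorem arith (p N S m : ℕ) (hp2 : 2 ≤ p) (hN : 1 ≤ N) (hm1 : 1 ≤ m) (hmp : m ≤ p)
    (h1 : N - 1 ≤ S) (h2 : p * S + m * p ≤ m * N) : False := by
  have a1 : N ≤ S + 1 := by omega
  have a2 : p * N ≤ p * S + p := by
    calc p * N ≤ p * (S + 1) := Nat.mul_le_mul_left p a1
      _ = p * S + p := by ring
  have a3 : m * N ≤ p * N := Nat.mul_le_mul_right N hmp
  have a4 : m * p ≤ p := by linarith
  have a5 : m ≤ 1 := by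
    by_contra h
    push Not at h
    have : 2 * p ≤ m * p := Nat.mul_le_mul_right p h
    linarith
  have a6 : m = 1 := by omega
  subst a6
  nlinarith

theorem main (p : ℕ) [Fact p.Prime] {ι : Type v} [Fintype ι] :
    ∀ n : ℕ, ∀ (G : Type u) [Group G] [Finite G], Nat.card G = n →
      Subgroup.closure {g : G | ∃ k : ℕ, orderOf g = p ^ k} = ⊤ →
      ∀ K : ι → Subgroup G, (∀ i, K i ≠ ⊤) →
      (∀ g : G, (∃ k : ℕ, orderOf g = p ^ k) → ∃ i, g ∈ K i) → p + 1 ≤ Fintype.card ι := by
  intro n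
  induction n using Nat.strong_induction_on with
  | _ n ih =>
  intro G _ _ hn hgen K hK hcov
  by_contra hlt
  have hle : Fintype.card ι ≤ p := by omega
  have hp := (Fact.out : p.Prime)
  obtain ⟨i0, -⟩ := hcov 1 ⟨0, by simp⟩
  -- Step 1
  have step1 : ∀ L : Subgroup G, L ≠ ⊤ → pcl p L = L → ∃ i, L ≤ K i := by
    intro L hL hpL
    by_contra hno
    push Not at hno
    have hcard : Nat.card L < n := by
      rw [← hn]
      have h1 := Subgroup.card_le_card_group L
      have h2 : Nat.card L ≠ Nat.card G := fun h => hL (Subgroup.eq_top_of_card_eq L h)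
      omega
    have hgenL : Subgroup.closure {g : ↥L | ∃ k : ℕ, orderOf g = p ^ k} = ⊤ := by
      apply Subgroup.map_injective L.subtype_injective
      rw [MonoidHom.map_closure, ← MonoidHom.range_eq_map, Subgroup.range_subtype]
      have himg : (L.subtype '' {g : ↥L | ∃ k : ℕ, orderOf g = p ^ k}) =
          {g : G | g ∈ L ∧ ∃ k : ℕ, orderOf g = p ^ k} := by
        ext t
        constructor
        · rintro ⟨y, ⟨k, hk⟩, rfl⟩
          exact ⟨y.2, k, by rw [Subgroup.coe_subtype, Subgroup.orderOf_coe]; exact hk⟩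
        · rintro ⟨ht, k, hk⟩
          exact ⟨⟨t, ht⟩, ⟨k, by rw [← Subgroup.orderOf_coe]; exact hk⟩, rfl⟩
      rw [himg]
      exact hpL
    have := ih (Nat.card L) hcard (↥L) rfl hgenL (fun i => (K i).subgroupOf L)
      (fun i h => hno i (Subgroup.subgroupOf_eq_top.1 h))
      (fun g hg => by
        obtain ⟨k, hk⟩ := hg
        obtain ⟨i, hi⟩ := hcov (g : G) ⟨k, by rw [Subgroup.orderOf_coe]; exact hk⟩
        exact ⟨i, Subgroup.mem_subgroupOf.2 hi⟩)
    omega
  -- Step 0
  have hnp : ¬ IsPGroup p G := by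
    intro hpg
    classical
    haveI := Fintype.ofFinite G
    obtain ⟨e, he⟩ := IsPGroup.iff_card.1 hpg
    have hidx : ∀ i, p * Nat.card (K i) ≤ Nat.card G := by
      intro i
      have h1 := Subgroup.card_mul_index (K i)
      have h2 : (K i).index ∣ p ^ e := by rw [← he, ← h1]; exact dvd_mul_left _ _
      obtain ⟨j, hj, hj2⟩ := (Nat.dvd_prime_pow hp).1 h2
      have hj0 : j ≠ 0 := by
        rintro rfl
        rw [pow_zero] at hj2
        exact hK i (Subgroup.index_eq_one.1 hj2)
      have hpi : p ≤ (K i).index := by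
        rw [hj2]
        calc p = p ^ 1 := (pow_one p).symm
          _ ≤ p ^ j := Nat.pow_le_pow_right hp.pos (Nat.one_le_iff_ne_zero.2 hj0)
      calc p * Nat.card (K i) ≤ (K i).index * Nat.card (K i) := Nat.mul_le_mul_right _ hpi
        _ = Nat.card G := by rw [mul_comm]; exact h1
    have hsub : (Finset.univ.erase (1:G)) ⊆ Finset.univ.biUnion
        (fun i : ι => (Finset.univ.filter (fun g : G => g ∈ K i)).erase 1) := by
      intro g hg
      rw [Finset.mem_erase] at hg
      obtain ⟨k, hk⟩ := hpg g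
      have hgp : ∃ k : ℕ, orderOf g = p ^ k := by
        obtain ⟨j, -, hj⟩ := (Nat.dvd_prime_pow hp).1 (orderOf_dvd_of_pow_eq_one hk)
        exact ⟨j, hj⟩
      obtain ⟨i, hi⟩ := hcov g hgp
      rw [Finset.mem_biUnion]
      exact ⟨i, Finset.mem_univ _, Finset.mem_erase.2 ⟨hg.1, Finset.mem_filter.2 ⟨Finset.mem_univ _, hi⟩⟩⟩
    have h1 := Finset.card_le_card hsub
    have h2 := Finset.card_biUnion_le (s := (Finset.univ : Finset ι))
      (t := fun i : ι => (Finset.univ.filter (fun g : G => g ∈ K i)).erase 1)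
    have h3 : (Finset.univ.erase (1:G)).card = Nat.card G - 1 := by
      rw [Finset.card_erase_of_mem (Finset.mem_univ _), Finset.card_univ, Nat.card_eq_fintype_card]
    have h4 : ∀ i : ι, ((Finset.univ.filter (fun g : G => g ∈ K i)).erase 1).card = Nat.card (K i) - 1 := by
      intro i
      rw [Finset.card_erase_of_mem (Finset.mem_filter.2 ⟨Finset.mem_univ _, (K i).one_mem⟩)]
      congr 1
      exact (Nat.subtype_card _ (fun x => by simp)).symm
    have hsum : Nat.card G - 1 ≤ ∑ i : ι, (Nat.card (K i) - 1) := by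
      rw [← h3]
      refine h1.trans (h2.trans ?_)
      apply le_of_eq
      apply Finset.sum_congr rfl
      intro i _
      exact h4 i
    have hterm : ∀ i : ι, p * (Nat.card (K i) - 1) + p ≤ Nat.card G := by
      intro i
      have hpos : 1 ≤ Nat.card (K i) := Nat.card_pos
      have h5 := hidx i
      have e5 : p * (Nat.card (K i) - 1) + p = p * Nat.card (K i) := by
        obtain ⟨c, hc⟩ : ∃ c, Nat.card (K i) = c + 1 := ⟨Nat.card (K i) - 1, by omega⟩
        rw [hc]
        simp only [Nat.add_sub_cancel]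
        ring
      rw [e5]; exact h5
    have hsum2 : p * (∑ i : ι, (Nat.card (K i) - 1)) + Fintype.card ι * p ≤ Fintype.card ι * Nat.card G := by
      have h6 : ∑ i : ι, (p * (Nat.card (K i) - 1) + p) ≤ ∑ _i : ι, Nat.card G :=
        Finset.sum_le_sum (fun i _ => hterm i)
      rw [Finset.sum_add_distrib, ← Finset.mul_sum, Finset.sum_const, Finset.sum_const,
        Finset.card_univ, smul_eq_mul, smul_eq_mul] at h6
      exact h6
    exact arith p (Nat.card G) _ (Fintype.card ι) hp.two_le Nat.card_pos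
      (Fintype.card_pos_iff.2 ⟨i0⟩) hle hsum hsum2
  have hPfin : (PP (G := G) p).Finite := Set.toFinite _
  have hmaxform : ∀ L : Subgroup G, Maximal (fun x => x ∈ PP p) L → ∃ i, L = pcl p (K i) := by
    intro L hL
    obtain ⟨i, hi⟩ := step1 L hL.1.1 hL.1.2
    refine ⟨i, ?_⟩
    have hM : pcl p (K i) ∈ PP p := by
      refine ⟨fun h => hK i ?_, pcl_idem p (K i)⟩
      rw [eq_top_iff, ← h]
      exact pcl_le p (K i)
    have hle' : L ≤ pcl p (K i) := by
      have := pcl_mono p hi
      rwa [hL.1.2] at this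
    exact le_antisymm hle' (hL.2 hM hle')
  have pcl_pgroup : ∀ R : Subgroup G, IsPGroup p R → pcl p R = R := by
    intro R hR
    apply le_antisymm (pcl_le p R)
    intro g hg
    apply mem_pcl p hg
    obtain ⟨k, hk⟩ := hR ⟨g, hg⟩
    have hk' : g ^ p ^ k = 1 := by
      have := congrArg Subtype.val hk
      simpa using this
    obtain ⟨j, -, hj⟩ := (Nat.dvd_prime_pow hp).1 (orderOf_dvd_of_pow_eq_one hk')
    exact ⟨j, hj⟩
  obtain ⟨P⟩ : Nonempty (Sylow p G) := inferInstance
  have hPne : (P : Subgroup G) ≠ ⊤ := by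
    intro h
    apply hnp
    intro g
    obtain ⟨k, hk⟩ := P.isPGroup' ⟨g, by rw [h]; trivial⟩
    refine ⟨k, ?_⟩
    have := congrArg Subtype.val hk
    simpa using this
  have hPP : (P : Subgroup G) ∈ PP p := ⟨hPne, pcl_pgroup _ P.isPGroup'⟩
  obtain ⟨L, hPL, hLmax⟩ := hPfin.exists_le_maximal hPP
  have hnorm : ∀ x : G, (∃ k : ℕ, orderOf x = p ^ k) → x ∈ Subgroup.normalizer (L : Set G) := by
    intro x hx
    by_contra hxN
    obtain ⟨a, ha⟩ := hx
    have hzP : Subgroup.zpowers x ∈ PP p := by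
      refine ⟨?_, pcl_pgroup _ (IsPGroup.of_card (n := a) (by rw [Nat.card_zpowers, ha]))⟩
      intro h
      obtain ⟨i, hi⟩ := hcov x ⟨a, ha⟩
      apply hK i
      rw [eq_top_iff, ← h, Subgroup.zpowers_le]
      exact hi
    obtain ⟨L', hxL', hL'max⟩ := hPfin.exists_le_maximal hzP
    have hxL'' : x ∈ L' := hxL' (Subgroup.mem_zpowers x)
    have hpow : ∀ k : ℕ, 0 < k → k < p → x ^ k ∉ Subgroup.normalizer (L : Set G) := by
      intro k hk0 hkp hmem
      apply hxN
      have hcop : (orderOf x).Coprime k := by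
        rw [ha]
        apply Nat.Coprime.pow_left
        exact (Nat.Prime.coprime_iff_not_dvd hp).2 (Nat.not_dvd_of_pos_of_lt hk0 hkp)
      have hord := Nat.Coprime.orderOf_pow hcop
      have hle1 : Subgroup.zpowers (x ^ k) ≤ Subgroup.zpowers x := by
        rw [Subgroup.zpowers_le]; exact Subgroup.pow_mem _ (Subgroup.mem_zpowers x) k
      have heq := Subgroup.eq_of_le_of_card_ge hle1 (by rw [Nat.card_zpowers, Nat.card_zpowers, hord])
      have hx1 : x ∈ Subgroup.zpowers (x ^ k) := by rw [heq]; exact Subgroup.mem_zpowers x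
      exact (Subgroup.zpowers_le.2 hmem) hx1
    have hdist : ∀ k l : ℕ, k < l → l < p →
        L.map (MulAut.conj (x ^ k)).toMonoidHom ≠ L.map (MulAut.conj (x ^ l)).toMonoidHom := by
      intro k l hkl hlp heq
      obtain ⟨u, hu⟩ : ∃ u, u = x ^ k := ⟨_, rfl⟩
      obtain ⟨w, hw⟩ : ∃ w, w = x ^ (l - k) := ⟨_, rfl⟩
      have hxl : x ^ l = u * w := by rw [hu, hw, ← pow_add]; congr 1; omega
      rw [← hu, hxl] at heq
      apply hpow (l - k) (by omega) (by omega)
      rw [← hw, Subgroup.mem_normalizer_iff]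
      intro t
      have e1 : ∀ s : G, s ∈ L.map (MulAut.conj u).toMonoidHom ↔
          s ∈ L.map (MulAut.conj (u * w)).toMonoidHom := fun s => by rw [heq]
      constructor
      · intro ht
        have h1 : (u * w) * t * (u * w)⁻¹ ∈ L.map (MulAut.conj (u * w)).toMonoidHom := by
          rw [mem_cj]
          have e : (u * w)⁻¹ * ((u * w) * t * (u * w)⁻¹) * (u * w) = t := by group
          rw [e]; exact ht
        have h2 := mem_cj.1 ((e1 _).2 h1)
        have e : u⁻¹ * ((u * w) * t * (u * w)⁻¹) * u = w * t * w⁻¹ := by group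
        rwa [e] at h2
      · intro ht
        have h1 : u * (w * t * w⁻¹) * u⁻¹ ∈ L.map (MulAut.conj u).toMonoidHom := by
          rw [mem_cj]
          have e : u⁻¹ * (u * (w * t * w⁻¹) * u⁻¹) * u = w * t * w⁻¹ := by group
          rw [e]; exact ht
        have h2 := mem_cj.1 ((e1 _).1 h1)
        have e : (u * w)⁻¹ * (u * (w * t * w⁻¹) * u⁻¹) * (u * w) = t := by group
        rwa [e] at h2
    have hL'ne : ∀ k : ℕ, L.map (MulAut.conj (x ^ k)).toMonoidHom ≠ L' := by
      intro k heq
      apply hxN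
      apply Subgroup.le_normalizer
      have h1 : x ∈ L.map (MulAut.conj (x ^ k)).toMonoidHom := by rw [heq]; exact hxL''
      have h2 := mem_cj.1 h1
      have e : (x ^ k)⁻¹ * x * x ^ k = x := by group
      rwa [e] at h2
    obtain ⟨f, hf1, hf2⟩ : ∃ f : Fin (p + 1) → Subgroup G,
        (∀ j : Fin (p + 1), (j : ℕ) < p → f j = L.map (MulAut.conj (x ^ (j : ℕ))).toMonoidHom) ∧
        (∀ j : Fin (p + 1), ¬ (j : ℕ) < p → f j = L') :=
      ⟨fun j => if (j : ℕ) < p then L.map (MulAut.conj (x ^ (j : ℕ))).toMonoidHom else L',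
        fun j hj => if_pos hj, fun j hj => if_neg hj⟩
    have hfmax : ∀ j, Maximal (fun x => x ∈ PP p) (f j) := by
      intro j
      by_cases hj : (j : ℕ) < p
      · rw [hf1 j hj]; exact cj_maximal p _ hLmax
      · rw [hf2 j hj]; exact hL'max
    have hfinj : Function.Injective f := by
      intro j j' hjj
      by_cases hj : (j : ℕ) < p <;> by_cases hj' : (j' : ℕ) < p
      · rw [hf1 j hj, hf1 j' hj'] at hjj
        apply Fin.ext
        rcases lt_trichotomy (j : ℕ) (j' : ℕ) with h | h | h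
        · exact absurd hjj (hdist _ _ h hj')
        · exact h
        · exact absurd hjj.symm (hdist _ _ h hj)
      · rw [hf1 j hj, hf2 j' hj'] at hjj
        exact absurd hjj (hL'ne _)
      · rw [hf2 j hj, hf1 j' hj'] at hjj
        exact absurd hjj.symm (hL'ne _)
      · apply Fin.ext
        have := j.2; have := j'.2; omega
    choose g hg using fun j => hmaxform (f j) (hfmax j)
    have hginj : Function.Injective g := by
      intro j j' h
      apply hfinj
      rw [hg j, hg j', h]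
    have := Fintype.card_le_of_injective g hginj
    rw [Fintype.card_fin] at this
    omega
  have hNtop : Subgroup.normalizer (L : Set G) = ⊤ := by
    rw [eq_top_iff, ← hgen, Subgroup.closure_le]
    intro x hx
    exact hnorm x hx
  haveI hLn : L.Normal := Subgroup.normalizer_eq_top_iff.1 hNtop
  apply hLmax.1.1
  rw [eq_top_iff, ← hgen, Subgroup.closure_le]
  intro y hy
  obtain ⟨a, ha⟩ := hy
  have hzp : IsPGroup p (Subgroup.zpowers y) :=
    IsPGroup.of_card (n := a) (by rw [Nat.card_zpowers, ha])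
  obtain ⟨Q, hQ⟩ := hzp.exists_le_sylow
  obtain ⟨g, hgQ⟩ := MulAction.exists_smul_eq G P Q
  have hy' : y ∈ (Q : Subgroup G) := hQ (Subgroup.mem_zpowers y)
  rw [← hgQ, Sylow.coe_subgroup_smul, Subgroup.mem_smul_pointwise_iff_exists] at hy'
  obtain ⟨s, hs, hsy⟩ := hy'
  rw [← hsy, MulAut.smul_def, MulAut.conj_apply]
  exact hLn.conj_mem s (hPL hs) g
/-- Let p be a prime and G a finite group generated by its p-elements. If a finite family of proper subgroups of G covers the set of p-elements of G (every element of p-power order lies in one of them), then the family has at least p + 1 members. -/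
theorem result {G : Type*} [Group G] [Finite G] (p : ℕ) [Fact p.Prime] (hgen : Subgroup.closure {g : G | ∃ k : ℕ, orderOf g = p ^ k} = ⊤)
    {ι : Type*} [Fintype ι] (K : ι → Subgroup G) (hK : ∀ i, K i ≠ ⊤)
    (hcov : ∀ g : G, (∃ k : ℕ, orderOf g = p ^ k) → ∃ i, g ∈ K i) :
    p + 1 ≤ Fintype.card ι := by
  exact main p (Nat.card G) G rfl hgen K hK hcov

end Cfsg.Agent.S4182
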