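import Cfsg.Statements.S4186
import Mathlib

set_option autoImplicit false
open Cfsg

namespace Cfsg.Agent.S4186

theorem aux {G : Type*} [Group G] (T X : Subgroup G) [Finite ↥T] (hT : IsPGroup 2 ↥T)
    (hTN : T ≤ Subgroup.normalizer (X : Set G)) :
    ∀ n : ℕ, ∀ t ∈ T, orderOf t = n → t ∉ Subgroup.centralizer (X : Set G) →
      ∃ t ∈ T, ∃ x ∈ X, x ≠ 1 ∧ t * x * t⁻¹ = x⁻¹ := by
  intro n
  induction n using Nat.strong_induction_on with
  | _ n ih =>
  intro t ht hn htC
  haveI : Fact (Nat.Prime 2) := ⟨Nat.prime_two⟩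
  by_cases h2 : t ^ 2 ∈ Subgroup.centralizer (X : Set G)
  · -- construction
    rw [Subgroup.mem_centralizer_iff] at htC
    push_neg at htC
    obtain ⟨x, hxX, hx⟩ := htC
    have hxX' : x ∈ X := hxX
    have htx : t * x * t⁻¹ ∈ X := (Subgroup.mem_normalizer_iff.1 (hTN ht) x).1 hxX'
    refine ⟨t, ht, x⁻¹ * (t * x * t⁻¹), X.mul_mem (X.inv_mem hxX') htx, ?_, ?_⟩
    · intro h
      apply hx
      have : t * x * t⁻¹ = x := by
        have := congrArg (fun z => x * z) h
        simpa [mul_assoc] using this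
      have := congrArg (fun z => z * t) this
      simpa [mul_assoc] using this.symm
    · rw [Subgroup.mem_centralizer_iff] at h2
      have h3 := h2 x hxX
      -- x * t^2 = t^2 * x
      have h4 : t * t * x = x * (t * t) := by
        rw [pow_two] at h3
        simpa [mul_assoc] using h3.symm
      have h5 : t * (t * x * t⁻¹) * t⁻¹ = x := by
        have : t * (t * x * t⁻¹) * t⁻¹ = (t * t * x) * t⁻¹ * t⁻¹ := by group
        rw [this, h4]
        group
      have : t * (x⁻¹ * (t * x * t⁻¹)) * t⁻¹ = (t * x * t⁻¹)⁻¹ * (t * (t * x * t⁻¹) * t⁻¹) := by group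
      rw [this, h5]
      group
  · -- recurse on t^2
    obtain ⟨k, hk⟩ := (IsPGroup.iff_orderOf.1 hT) ⟨t, ht⟩
    rw [Subgroup.orderOf_mk] at hk
    have hk0 : k ≠ 0 := by
      intro h0
      rw [h0, pow_zero, orderOf_eq_one_iff] at hk
      apply htC
      rw [hk]
      exact Subgroup.one_mem _
    obtain ⟨j, rfl⟩ := Nat.exists_eq_succ_of_ne_zero hk0
    have hord : orderOf (t ^ 2) = 2 ^ j := by
      rw [orderOf_pow' t (by norm_num : (2 : ℕ) ≠ 0), hk]
      have : Nat.gcd (2 ^ (j + 1)) 2 = 2 := by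
        rw [pow_succ]
        exact Nat.gcd_mul_left_left 2 (2 ^ j) |>.trans rfl |> fun h => by simpa [Nat.gcd_comm] using Nat.gcd_mul_left_left 2 (2^j)
      rw [this, pow_succ, Nat.mul_div_cancel _ (by norm_num : 0 < 2)]
    have hlt : orderOf (t ^ 2) < n := by
      rw [hord, ← hn, hk]
      exact Nat.pow_lt_pow_right (by norm_num) (Nat.lt_succ_self j)
    exact ih _ hlt (t ^ 2) (T.pow_mem ht 2) rfl h2

theorem result {G : Type*} [Group G] (T X : Subgroup G) [Finite ↥T] (hT : IsPGroup 2 ↥T) (hTN : T ≤ Subgroup.normalizer (X : Set G)) (hTC : ¬ T ≤ Subgroup.centralizer (X : Set G)) : ∃ t ∈ T, ∃ x ∈ X, x ≠ 1 ∧ t * x * t⁻¹ = x⁻¹ := by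
  rw [SetLike.not_le_iff_exists] at hTC
  obtain ⟨t, ht, htC⟩ := hTC
  exact aux T X hT hTN _ t ht rfl htC

end Cfsg.Agent.S4186
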