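import Cfsg.Statements.S4195
import Cfsg.Agent.Lib.Helper7.Involution

set_option autoImplicit false
open Cfsg

namespace Cfsg.Agent.S4195

open Cfsg.Agent.Lib.Helper7

/-- If the centralizer of `x` contains a Sylow 2-subgroup and `x` is real, then `x ^ 2 = 1`. -/
theorem sq_eq_one_of_real_of_two_central {G : Type*} [Group G] [Finite G] (x : G) (P : Sylow 2 G)
    (hP : (P : Subgroup G) ≤ Subgroup.centralizer ({x} : Set G)) (hreal : IsConj x x⁻¹) :
    x ^ 2 = 1 := by
  classical
  by_contra hne
  -- the class has odd size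
  have hodd : ¬ 2 ∣ (Set.range (fun g : G => g * x * g⁻¹)).ncard := by
    rw [ncard_conj_class]
    intro h2
    exact P.not_dvd_index (h2.trans (Subgroup.index_dvd_of_le hP))
  apply hodd
  haveI : Fintype G := Fintype.ofFinite G
  rw [Set.ncard_eq_toFinset_card']
  apply two_dvd_card_of_involution _ (fun y => y⁻¹)
  · intro a ha
    rw [Set.mem_toFinset] at ha ⊢
    obtain ⟨g, rfl⟩ := ha
    obtain ⟨c, hc⟩ := isConj_iff.1 hreal
    refine ⟨g * c, ?_⟩
    simp only [mul_inv_rev]
    rw [← hc]
    group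
  · intro a _
    exact inv_inv a
  · intro a ha
    rw [Set.mem_toFinset] at ha
    obtain ⟨g, rfl⟩ := ha
    intro h
    apply hne
    have h' : (g * x * g⁻¹)⁻¹ = g * x * g⁻¹ := h
    have h1 : (g * x * g⁻¹) * (g * x * g⁻¹) = 1 := by
      nth_rewrite 1 [← h']
      exact inv_mul_cancel _
    have h2 : g * (x * x) * g⁻¹ = 1 := by
      rw [← h1]; group
    have h3 : x * x = 1 := by
      have := congrArg (fun z => g⁻¹ * z * g) h2
      simpa [mul_assoc] using this
    rw [pow_two]; exact h3

theorem result {G : Type*} [Group G] [Finite G] (x : G) (hx : x ≠ 1) (P : Sylow 2 G) (hP : (P : Subgroup G) ≤ Subgroup.centralizer ({x} : Set G)) (hreal : IsConj x x⁻¹) : orderOf x = 2 := by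
  have h := sq_eq_one_of_real_of_two_central x P hP hreal
  exact orderOf_eq_prime h hx

end Cfsg.Agent.S4195
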