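import Cfsg.Statements.S4196
import Cfsg.Agent.S4195
import Cfsg.Agent.Lib.Helper7.SylowBasic

set_option autoImplicit false
open Cfsg

namespace Cfsg.Agent.S4196

open Cfsg.Agent.Lib.Helper7
open scoped Pointwise

theorem result {G : Type*} [Group G] [Finite G] (P : Sylow 2 G) :
    (IsMulCommutative (P : Subgroup G) ∧ ∀ x ∈ (P : Subgroup G), x ^ 2 = 1) ↔
      ∀ x : G, (∃ k : ℕ, orderOf x = 2 ^ k) → (∃ Q : Sylow 2 G, (Q : Subgroup G) ≤ Subgroup.centralizer ({x} : Set G)) ∧ IsConj x x⁻¹ := by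
  haveI : Fact (Nat.Prime 2) := ⟨Nat.prime_two⟩
  constructor
  · rintro ⟨hcomm, hexp⟩ x ⟨k, hk⟩
    obtain ⟨Q, hxQ⟩ := exists_sylow_mem_of_orderOf x k hk
    obtain ⟨g, hg⟩ := MulAction.exists_smul_eq G P Q
    have hmemQ : ∀ y : G, y ∈ Q ↔ g⁻¹ * y * g ∈ P := by
      intro y
      rw [← hg]
      exact mem_sylow_smul P g y
    have hPcomm : ∀ a b : G, a ∈ P → b ∈ P → a * b = b * a := by
      intro a b ha hb
      have := hcomm.is_comm.comm (⟨a, ha⟩ : (P : Subgroup G)) ⟨b, hb⟩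
      exact congrArg Subtype.val this
    constructor
    · refine ⟨Q, ?_⟩
      intro y hy
      rw [Subgroup.mem_centralizer_iff]
      intro z hz
      rw [Set.mem_singleton_iff] at hz
      subst hz
      have h1 := hPcomm _ _ ((hmemQ z).1 hxQ) ((hmemQ y).1 hy)
      have h2 : z * y = g * ((g⁻¹ * z * g) * (g⁻¹ * y * g)) * g⁻¹ := by group
      have h3 : y * z = g * ((g⁻¹ * y * g) * (g⁻¹ * z * g)) * g⁻¹ := by group
      rw [h2, h3, h1]
    · have h1 : (g⁻¹ * x * g) ^ 2 = 1 := hexp _ ((hmemQ x).1 hxQ)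
      have h2 : x ^ 2 = 1 := by
        have : (g⁻¹ * x * g) ^ 2 = g⁻¹ * x ^ 2 * g := by
          rw [pow_two, pow_two]; group
        rw [this] at h1
        have := congrArg (fun z => g * z * g⁻¹) h1
        simpa [mul_assoc] using this
      have h3 : x⁻¹ = x := by
        rw [inv_eq_iff_mul_eq_one, ← pow_two]; exact h2
      rw [h3]
  · intro h
    have hexp : ∀ x ∈ (P : Subgroup G), x ^ 2 = 1 := by
      intro x hx
      obtain ⟨k, hk⟩ := orderOf_eq_prime_pow_of_mem_sylow P x hx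
      obtain ⟨⟨Q, hQ⟩, hreal⟩ := h x ⟨k, hk⟩
      exact Cfsg.Agent.S4195.sq_eq_one_of_real_of_two_central x Q hQ hreal
    refine ⟨⟨⟨?_⟩⟩, hexp⟩
    rintro ⟨a, ha⟩ ⟨b, hb⟩
    apply Subtype.ext
    change a * b = b * a
    have h1 := hexp a ha
    have h2 := hexp b hb
    have h3 := hexp (a * b) (Subgroup.mul_mem _ ha hb)
    rw [pow_two] at h1 h2 h3
    calc a * b = a * (a * b * (a * b)) * b := by rw [h3, mul_one]
      _ = (a * a) * (b * a) * (b * b) := by group
      _ = b * a := by rw [h1, h2, one_mul, mul_one]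

end Cfsg.Agent.S4196
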