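import Cfsg.Statements.S4200
import Cfsg.Agent.Lib.Lead.CommPairs

set_option autoImplicit false
open Cfsg

namespace Cfsg.Agent.S4200

/-- Let Y be a subgroup of the finite group X, of index m. Then the numbers of conjugacy classes satisfy k(Y) ≤ m·k(X) and k(X) ≤ m·k(Y), and the second inequality is strict unless Y is normal in X. -/
theorem result {X : Type*} [Group X] [Finite X] (Y : Subgroup X) : Nat.card (ConjClasses Y) ≤ Y.index * Nat.card (ConjClasses X) ∧ Nat.card (ConjClasses X) ≤ Y.index * Nat.card (ConjClasses Y) ∧ (¬ Y.Normal → Nat.card (ConjClasses X) < Y.index * Nat.card (ConjClasses Y)) := by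
  refine ⟨?_, (Cfsg.Agent.Lib.Lead.card_conjClasses_le_index_mul Y).1,
    (Cfsg.Agent.Lib.Lead.card_conjClasses_le_index_mul Y).2⟩
  have hinj : Nat.card {p : Y × Y // Commute p.1 p.2} ≤ Nat.card {p : X × X // Commute p.1 p.2} := by
    refine Nat.card_le_card_of_injective
      (fun p => ⟨⟨(p.1.1 : X), (p.1.2 : X)⟩, congrArg Subtype.val p.2⟩) ?_
    intro p q h
    have h1 := congrArg Subtype.val h
    simp only [Prod.mk.injEq] at h1
    apply Subtype.ext
    apply Prod.ext
    · exact Subtype.ext h1.1
    · exact Subtype.ext h1.2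
  rw [card_comm_eq_card_conjClasses_mul_card, card_comm_eq_card_conjClasses_mul_card] at hinj
  have hcard : Nat.card X = Nat.card Y * Y.index := (Subgroup.card_mul_index Y).symm
  have hpos : 0 < Nat.card Y := Nat.card_pos
  rw [hcard] at hinj
  have : Nat.card (ConjClasses Y) * Nat.card Y ≤ (Y.index * Nat.card (ConjClasses X)) * Nat.card Y := by
    calc _ ≤ _ := hinj
      _ = _ := by ring
  exact Nat.le_of_mul_le_mul_right this hpos

end Cfsg.Agent.S4200
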