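import Cfsg.Statements.S4203
import Cfsg.Agent.S0144
import Cfsg.Agent.Lib.Helper4.Hall

set_option autoImplicit false

open Cfsg

namespace Cfsg.Agent.S4203

open Cfsg.Agent.Lib.Helper4

universe u

lemma isCoatom_comap {G Q : Type*} [Group G] [Group Q] (f : G →* Q) (hf : Function.Surjective f)
    (M : Subgroup Q) (hM : IsCoatom M) : IsCoatom (M.comap f) := by
  constructor
  · intro h
    apply hM.1
    have : M.comap f = (⊤ : Subgroup Q).comap f := by rw [h, Subgroup.comap_top]
    exact Subgroup.comap_injective hf this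
  · intro L hL
    have h1 : M ≤ L.map f := by
      have := Subgroup.map_mono (f := f) hL.le
      rwa [Subgroup.map_comap_eq_self_of_surjective hf] at this
    have h2 : L.map f = ⊤ := by
      by_contra hne
      have h3 : M = L.map f := by
        by_contra hne2
        exact hne (hM.2 _ (lt_of_le_of_ne h1 hne2))
      have : L ≤ M.comap f := by rw [h3]; exact Subgroup.le_comap_map f L
      exact absurd hL (not_lt_of_ge this)
    have h3 : f.ker ≤ L := (Subgroup.ker_le_comap f M).trans hL.le
    have h4 := Subgroup.comap_map_eq f L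
    rw [h2, Subgroup.comap_top, sup_eq_left.2 h3] at h4
    exact h4.symm

lemma card_two_three (N : ℕ) (hN : 0 < N) (h : ∀ r : ℕ, r.Prime → r ∣ N → r ≤ 3) :
    ∃ a b : ℕ, N = 2 ^ a * 3 ^ b := by
  obtain ⟨a, m, hm, hNm⟩ := Nat.exists_eq_pow_mul_and_not_dvd hN.ne' 2 (by norm_num)
  have hmpos : m ≠ 0 := by
    rintro rfl
    rw [mul_zero] at hNm; omega
  obtain ⟨b, m', hm', hmm'⟩ := Nat.exists_eq_pow_mul_and_not_dvd hmpos 3 (by norm_num)
  refine ⟨a, b, ?_⟩
  have hm1 : m' = 1 := by
    by_contra hne
    obtain ⟨r, hr, hrd⟩ := Nat.exists_prime_and_dvd hne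
    have hrm : r ∣ m := hrd.trans ⟨3 ^ b, by rw [hmm']; ring⟩
    have hrN : r ∣ N := hrm.trans ⟨2 ^ a, by rw [hNm]; ring⟩
    have hr3 := h r hr hrN
    have hr2 := hr.two_le
    have : r = 2 ∨ r = 3 := by omega
    rcases this with rfl | rfl
    · exact hm hrm
    · exact hm' hrd
  rw [hNm, hmm', hm1, mul_one]

theorem aux : ∀ (n : ℕ) (G : Type u) [Group G] [Finite G], Nat.card G = n →
    (∀ M : Subgroup G, IsCoatom M → ∃ p : ℕ, p.Prime ∧ (M.index = p ∨ M.index = p ^ 2)) →
    Group.IsSolvable G := by
  intro n
  induction n using Nat.strong_induction_on with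
  | _ n ih =>
  intro G _ _ hn h
  by_cases h1 : Nat.card G = 1
  · haveI : Subsingleton G := (Nat.card_eq_one_iff_unique.1 h1).1
    infer_instance
  have hpos : 0 < Nat.card G := Nat.card_pos
  have hne : (Nat.card G).primeFactors.Nonempty := Nat.nonempty_primeFactors.2 (by omega)
  obtain ⟨p, hpdef⟩ : ∃ p, p = (Nat.card G).primeFactors.max' hne := ⟨_, rfl⟩
  have hpmem : p ∈ (Nat.card G).primeFactors := by rw [hpdef]; exact Finset.max'_mem _ _
  have hp : p.Prime := Nat.prime_of_mem_primeFactors hpmem
  have hpd : p ∣ Nat.card G := Nat.dvd_of_mem_primeFactors hpmem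
  have hpmax : ∀ q : ℕ, q.Prime → q ∣ Nat.card G → q ≤ p := fun q hq hqd => by
    rw [hpdef]; exact Finset.le_max' _ _ (Nat.mem_primeFactors.2 ⟨hq, hqd, hpos.ne'⟩)
  haveI : Fact p.Prime := ⟨hp⟩
  obtain ⟨P⟩ : Nonempty (Sylow p G) := inferInstance
  by_cases hPn : (P : Subgroup G).Normal
  · have hPne : (P : Subgroup G) ≠ ⊥ := P.ne_bot_of_dvd_card hpd
    have hlt : Nat.card (G ⧸ (P : Subgroup G)) < n := by rw [← hn]; exact card_quot_lt _ hPne
    have hQ : Group.IsSolvable (G ⧸ (P : Subgroup G)) := by
      apply ih _ hlt _ rfl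
      intro M hM
      have := h _ (isCoatom_comap (QuotientGroup.mk' _) (QuotientGroup.mk'_surjective _) M hM)
      rwa [Subgroup.index_comap_of_surjective _ (QuotientGroup.mk'_surjective _)] at this
    have hPs : Group.IsSolvable (P : Subgroup G) := by
      have : Group.IsNilpotent (P : Subgroup G) := P.isPGroup'.isNilpotent
      infer_instance
    exact Group.isSolvable_of_ker_le_range (P : Subgroup G).subtype
      (QuotientGroup.mk' (P : Subgroup G)) (by rw [QuotientGroup.ker_mk', Subgroup.range_subtype])
  · have hNtop : Subgroup.normalizer ((P : Subgroup G) : Set G) ≠ ⊤ :=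
      fun h' => hPn (Subgroup.normalizer_eq_top_iff.1 h')
    obtain ⟨M, hM, hNM⟩ := (eq_top_or_exists_le_coatom _).resolve_left hNtop
    have hPM : (P : Subgroup G) ≤ M := Subgroup.le_normalizer.trans hNM
    have hmod : M.index ≡ 1 [MOD p] := by
      have h1 : Nat.card (Sylow p G) ≡ 1 [MOD p] := card_sylow_modEq_one p G
      have h2 : Nat.card (Sylow p M) ≡ 1 [MOD p] := card_sylow_modEq_one p M
      rw [Sylow.card_eq_index_normalizer P] at h1
      rw [Sylow.card_eq_index_normalizer (P.subtype hPM)] at h2
      have e : Subgroup.normalizer ((P.subtype hPM : Sylow p M) : Set M)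
          = (Subgroup.normalizer ((P : Subgroup G) : Set G)).subgroupOf M := by
        rw [Subgroup.subgroupOf_normalizer_eq hPM]; rfl
      rw [e] at h2
      have h2' : (Subgroup.normalizer ((P : Subgroup G) : Set G)).relIndex M ≡ 1 [MOD p] := h2
      have h3 := Subgroup.relIndex_mul_index hNM
      have h1' : (Subgroup.normalizer ((P : Subgroup G) : Set G)).index ≡ 1 [MOD p] := h1
      rw [← h3] at h1'
      have h1 := h1'
      have h4 := Nat.ModEq.mul_right M.index h2'
      rw [one_mul] at h4
      exact h4.symm.trans h1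
    obtain ⟨q, hq, hidx⟩ := h M hM
    have hqd : q ∣ Nat.card G := by
      have : M.index ∣ Nat.card G := Subgroup.index_dvd_card M
      rcases hidx with e | e
      · rw [e] at this; exact this
      · rw [e] at this; exact (dvd_pow_self q two_ne_zero).trans this
    have hqp : q ≤ p := hpmax q hq hqd
    have hq2 := hq.two_le
    have h23 : p = 3 := by
      rcases hidx with e | e
      · rw [e] at hmod
        exfalso
        have hd : p ∣ q - 1 := (Nat.modEq_iff_dvd' (by omega)).1 hmod.symm
        have h2 := Nat.le_of_dvd (by omega) hd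
        omega
      · rw [e] at hmod
        have hd : p ∣ q ^ 2 - 1 := (Nat.modEq_iff_dvd' (Nat.one_le_pow _ _ hq.pos)).1 hmod.symm
        have hfac : q ^ 2 - 1 = (q - 1) * (q + 1) := by
          obtain ⟨k, rfl⟩ : ∃ k, q = k + 1 := ⟨q - 1, by omega⟩
          simp only [Nat.add_sub_cancel]
          have : (k + 1) ^ 2 = k * (k + 1 + 1) + 1 := by ring
          rw [this, Nat.add_sub_cancel]
        rw [hfac] at hd
        rcases (Nat.Prime.dvd_mul hp).1 hd with hd | hd
        · exfalso
          have h2 := Nat.le_of_dvd (by omega) hd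
          omega
        · have h2 := Nat.le_of_dvd (by omega) hd
          have hcase : p = q ∨ p = q + 1 := by omega
          rcases hcase with rfl | hpq
          · exfalso
            have : p ∣ 1 := (Nat.dvd_add_right (dvd_refl p)).1 hd
            exact hp.one_lt.ne' (Nat.dvd_one.1 this)
          · rcases hq.eq_two_or_odd with h2q | hodd
            · omega
            · rcases hp.eq_two_or_odd with h2p | hoddp
              · omega
              · omega
    have hall : ∀ r : ℕ, r.Prime → r ∣ Nat.card G → r ≤ 3 := fun r hr hrd => by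
      rw [← h23]; exact hpmax r hr hrd
    obtain ⟨a, b, hab⟩ := card_two_three _ hpos hall
    exact Cfsg.Agent.S0144.result 2 3 a b Nat.prime_two Nat.prime_three hab

/-- A finite group in which every maximal subgroup has index a prime or the square of a prime is solvable. -/
theorem result {G : Type*} [Group G] [Finite G] (h : ∀ M : Subgroup G, IsCoatom M → ∃ p : ℕ, p.Prime ∧ (M.index = p ∨ M.index = p ^ 2)) : Group.IsSolvable G := by
  exact aux _ G rfl h

end Cfsg.Agent.S4203
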