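import Cfsg.Statements.S4204
import Mathlib
import Cfsg.Agent.Lib.Helper7.CommSup

set_option autoImplicit false
open Cfsg

namespace Cfsg.Agent.S4204

open Cfsg.Agent.Lib.Helper7

variable {G : Type*} [Group G]

theorem lcs_normal (H : Subgroup G) [H.Normal] (n : ℕ) : (H.lowerCentralSeries n).Normal := by
  induction n with
  | zero => rw [Subgroup.lowerCentralSeries_zero]; infer_instance
  | succ n ih =>
    rw [Subgroup.lowerCentralSeries_succ]
    have := ih
    infer_instance

/-- shifted lower central series: `gam H 0 = ⊤`, `gam H (i+1) = H.lcs i` -/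
def gam (H : Subgroup G) : ℕ → Subgroup G
  | 0 => ⊤
  | (i + 1) => H.lowerCentralSeries i

theorem gam_normal (H : Subgroup G) [H.Normal] (n : ℕ) : (gam H n).Normal := by
  cases n with
  | zero => change (⊤ : Subgroup G).Normal; infer_instance
  | succ n => exact lcs_normal H n

theorem comm_gam_le (H : Subgroup G) [H.Normal] (i : ℕ) : ⁅gam H i, H⁆ ≤ gam H (i + 1) := by
  cases i with
  | zero =>
    change ⁅(⊤ : Subgroup G), H⁆ ≤ H.lowerCentralSeries 0
    rw [Subgroup.lowerCentralSeries_zero]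
    exact Subgroup.commutator_le_right _ _
  | succ i =>
    change ⁅H.lowerCentralSeries i, H⁆ ≤ H.lowerCentralSeries (i + 1)
    rw [Subgroup.lowerCentralSeries_succ]

theorem gam_antitone (H : Subgroup G) {i j : ℕ} (h : i ≤ j) (hi : 1 ≤ i) : gam H j ≤ gam H i := by
  obtain ⟨i', rfl⟩ : ∃ i', i = i' + 1 := ⟨i - 1, by omega⟩
  obtain ⟨j', rfl⟩ : ∃ j', j = j' + 1 := ⟨j - 1, by omega⟩
  exact H.lowerCentralSeries_antitone (by omega)

/-- the sum of mixed terms -/
def T (H K : Subgroup G) (n : ℕ) : Subgroup G :=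
  ⨆ p : {p : ℕ × ℕ // p.1 + p.2 = n + 1}, gam H p.1.1 ⊓ gam K p.1.2

theorem T_normal (H K : Subgroup G) [H.Normal] [K.Normal] (n : ℕ) : (T H K n).Normal := by
  unfold T
  have : ∀ p : {p : ℕ × ℕ // p.1 + p.2 = n + 1}, (gam H p.1.1 ⊓ gam K p.1.2).Normal := by
    intro p
    have := gam_normal H p.1.1
    have := gam_normal K p.1.2
    infer_instance
  exact Subgroup.iSup_normal _

theorem le_T (H K : Subgroup G) (n i j : ℕ) (h : i + j = n + 1) : gam H i ⊓ gam K j ≤ T H K n :=
  le_iSup (fun p : {p : ℕ × ℕ // p.1 + p.2 = n + 1} => gam H p.1.1 ⊓ gam K p.1.2) ⟨(i, j), h⟩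

theorem lcs_le_T (H K : Subgroup G) [H.Normal] [K.Normal] (n : ℕ) :
    (H ⊔ K).lowerCentralSeries n ≤ T H K n := by
  induction n with
  | zero =>
    rw [Subgroup.lowerCentralSeries_zero]
    apply sup_le
    · have := le_T H K 0 1 0 rfl
      refine le_trans ?_ this
      change H ≤ H.lowerCentralSeries 0 ⊓ ⊤
      simp
    · have := le_T H K 0 0 1 rfl
      refine le_trans ?_ this
      change K ≤ ⊤ ⊓ K.lowerCentralSeries 0
      simp
  | succ n ih =>
    rw [Subgroup.lowerCentralSeries_succ]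
    refine le_trans (Subgroup.commutator_mono ih le_rfl) ?_
    have := T_normal H K (n + 1)
    change ⁅⨆ p : {p : ℕ × ℕ // p.1 + p.2 = n + 1}, gam H p.1.1 ⊓ gam K p.1.2, H ⊔ K⁆ ≤ T H K (n + 1)
    apply commutator_iSup_left_le
    rintro ⟨⟨i, j⟩, hij⟩
    change i + j = n + 1 at hij
    change ⁅gam H i ⊓ gam K j, H ⊔ K⁆ ≤ T H K (n + 1)
    have := gam_normal H i
    have := gam_normal K j
    apply commutator_sup_right_le
    · refine le_trans ?_ (le_T H K (n + 1) (i + 1) j (by omega))
      apply le_inf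
      · exact le_trans (Subgroup.commutator_mono inf_le_left le_rfl) (comm_gam_le H i)
      · exact le_trans (Subgroup.commutator_mono inf_le_right le_rfl) (Subgroup.commutator_le_left _ _)
    · refine le_trans ?_ (le_T H K (n + 1) i (j + 1) (by omega))
      apply le_inf
      · exact le_trans (Subgroup.commutator_mono inf_le_left le_rfl) (Subgroup.commutator_le_left _ _)
      · exact le_trans (Subgroup.commutator_mono inf_le_right le_rfl) (comm_gam_le K j)

theorem result {G : Type*} [Group G] [Finite G] (H K : Subgroup G) [H.Normal] [K.Normal] (c d : ℕ) (hH : H.lowerCentralSeries c = ⊥) (hK : K.lowerCentralSeries d = ⊥) : (H ⊔ K).lowerCentralSeries (c + d) = ⊥ := by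
  rw [eq_bot_iff]
  refine le_trans (lcs_le_T H K (c + d)) ?_
  unfold T
  apply iSup_le
  rintro ⟨⟨i, j⟩, hij⟩
  change i + j = c + d + 1 at hij
  change gam H i ⊓ gam K j ≤ ⊥
  by_cases hi : c + 1 ≤ i
  · refine le_trans inf_le_left ?_
    refine le_trans (gam_antitone H hi (by omega)) ?_
    change H.lowerCentralSeries c ≤ ⊥
    rw [hH]
  · have hj : d + 1 ≤ j := by omega
    refine le_trans inf_le_right ?_
    refine le_trans (gam_antitone K hj (by omega)) ?_
    change K.lowerCentralSeries d ≤ ⊥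
    rw [hK]

end Cfsg.Agent.S4204
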