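import Cfsg.Statements.S4205
import Mathlib

set_option autoImplicit false
open Cfsg
open scoped commutatorElement

namespace Cfsg.Agent.S4205

theorem aux {G : Type*} [Group G] (H : Subgroup G) (n : ℕ) :
    Subgroup.upperCentralSeries G n ≤ (fun K : Subgroup G => Subgroup.normalizer (K : Set G))^[n] H := by
  induction n with
  | zero =>
    rw [Subgroup.upperCentralSeries_zero]
    exact bot_le
  | succ n ih =>
    rw [Function.iterate_succ_apply']
    set K := (fun K : Subgroup G => Subgroup.normalizer (K : Set G))^[n] H with hK
    intro z hz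
    have key : ∀ w ∈ Subgroup.upperCentralSeries G (n + 1), ∀ k ∈ K, w * k * w⁻¹ ∈ K := by
      intro w hw k hk
      have h1 : ⁅w, k⁆ ∈ K := ih (Subgroup.mem_upperCentralSeries_succ_iff.1 hw k)
      have : w * k * w⁻¹ = ⁅w, k⁆ * k := by
        rw [commutatorElement_def]; group
      rw [this]
      exact K.mul_mem h1 hk
    show z ∈ Subgroup.normalizer (K : Set G)
    rw [Subgroup.mem_normalizer_iff]
    intro k
    constructor
    · exact key z hz k
    · intro hk
      have := key z⁻¹ (Subgroup.inv_mem _ hz) _ hk
      simpa [mul_assoc] using this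

theorem result {G : Type*} [Group G] [Finite G] (c : ℕ) (hG : Subgroup.upperCentralSeries G c = ⊤) (H : Subgroup G) : (fun K : Subgroup G => Subgroup.normalizer (K : Set G))^[c] H = ⊤ := by
  have := aux H c
  rw [hG] at this
  exact top_le_iff.1 this

end Cfsg.Agent.S4205
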