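import Cfsg.Statements.S4208
import Cfsg.Agent.S0012
import Cfsg.Agent.S4207
import Cfsg.Agent.Lib.Lead.AutElemAb

set_option autoImplicit false
open Cfsg

namespace Cfsg.Agent.S4208

open scoped commutatorElement

/-- Let `P` be a group of order `p^n` whose Frattini subgroup has index `p^r`. Then the order of the automorphism group of `P` divides `p^(r(n-r)) · (p^r - 1)(p^r - p) ⋯ (p^r - p^(r-1))`. -/
theorem result {P : Type*} [Group P] [Finite P] {p n r : ℕ} [Fact p.Prime] (hP : Nat.card P = p ^ n) (hr : (frattini P).index = p ^ r) : Nat.card (MulAut P) ∣ p ^ (r * (n - r)) * ∏ i ∈ Finset.range r, (p ^ r - p ^ i) := by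
  classical
  have hpg : IsPGroup p P := IsPGroup.of_card hP
  obtain ⟨hcomm, hpow⟩ := Cfsg.Agent.S0012.result p hpg
  have hVcomm : ∀ x y : P ⧸ frattini P, x * y = y * x := by
    intro x y
    induction x using QuotientGroup.induction_on with
    | H a =>
      induction y using QuotientGroup.induction_on with
      | H b =>
        rw [← QuotientGroup.mk_mul, ← QuotientGroup.mk_mul, QuotientGroup.eq]
        apply hcomm
        have h1 : (a * b)⁻¹ * (b * a) = ⁅b⁻¹, a⁻¹⁆ := by
          rw [commutatorElement_def]; group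
        rw [h1, commutator_def]
        exact Subgroup.commutator_mem_commutator (Subgroup.mem_top _) (Subgroup.mem_top _)
  let _ : CommGroup (P ⧸ frattini P) :=
    { (inferInstance : Group (P ⧸ frattini P)) with mul_comm := hVcomm }
  have hVexp : ∀ x : P ⧸ frattini P, x ^ p = 1 := by
    intro x
    induction x using QuotientGroup.induction_on with
    | H a =>
      rw [← QuotientGroup.mk_pow, QuotientGroup.eq_one_iff]
      exact hpow a
  have hVcard : Nat.card (P ⧸ frattini P) = p ^ r := by
    rw [← Subgroup.index_eq_card, hr]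
  have h1 : Nat.card (MulAut (P ⧸ frattini P)) ∣ ∏ i ∈ Finset.range r, (p ^ r - p ^ i) :=
    Cfsg.Agent.Lib.Lead.card_mulAut_dvd_of_elementary (V := P ⧸ frattini P) p r hVexp hVcard
  set ρ := Cfsg.Agent.Lib.Lead.frattiniQuotAut P with hρ
  have hker : Nat.card ρ.ker ∣ p ^ (r * (n - r)) := by
    apply Cfsg.Agent.S4207.result hP hr ρ.ker
    intro α hα x
    rw [MonoidHom.mem_ker] at hα
    have h2 := Cfsg.Agent.Lib.Lead.frattiniQuotAut_mk P α x
    rw [← hρ, hα, MulAut.one_apply] at h2
    rw [← QuotientGroup.eq_one_iff, QuotientGroup.mk_mul, QuotientGroup.mk_inv, ← h2]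
    exact mul_inv_cancel _
  have hrange : Nat.card ρ.range ∣ ∏ i ∈ Finset.range r, (p ^ r - p ^ i) :=
    (Subgroup.card_subgroup_dvd_card ρ.range).trans h1
  have hmul : Nat.card (MulAut P) = Nat.card ρ.ker * Nat.card ρ.range := by
    rw [← Subgroup.index_ker]
    exact (Subgroup.card_mul_index ρ.ker).symm
  rw [hmul]
  exact Nat.mul_dvd_mul hker hrange

end Cfsg.Agent.S4208
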