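import Mathlib
import Cfsg.Statements.S4213
import Cfsg.Agent.S3993
import Cfsg.Agent.S0043
import Cfsg.Agent.Lib.Helper4.Hall

set_option autoImplicit false

open Cfsg

namespace Cfsg.Agent.S4213

open Cfsg.Agent.Lib.Helper4

universe u

/-- the set of solutions of `x ^ n = 1` -/
abbrev Ln (G : Type*) [Group G] (n : ℕ) : Set G := {x | x ^ n = 1}

section basics
variable {G : Type*} [Group G] [Finite G]

lemma frob (d : ℕ) (hd : d ∣ Nat.card G) : d ∣ (Ln G d).ncard := by
  have h1 := Cfsg.Agent.S3993.result (G := G) d hd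
  have h2 : Nat.card {g : G // g ^ d = 1} = (Ln G d).ncard := Nat.card_coe_set_eq (Ln G d)
  rwa [h2] at h1

lemma one_le_ncard (d : ℕ) : 1 ≤ (Ln G d).ncard :=
  (Set.ncard_pos (Set.toFinite _)).2 ⟨1, one_pow d⟩

lemma card_subgroup_eq_ncard (H : Subgroup G) : Nat.card H = (H : Set G).ncard :=
  Nat.card_coe_set_eq (H : Set G)

lemma eq_of_subset_of_card (H : Subgroup G) (S : Set G) (h : (H : Set G) ⊆ S)
    (hc : S.ncard ≤ Nat.card H) : (H : Set G) = S :=
  Set.eq_of_subset_of_ncard_le h (by rwa [← card_subgroup_eq_ncard]) (Set.toFinite S)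

lemma card_mul_le (K : Subgroup G) [K.Normal] (T : Set (G ⧸ K)) (S : Set G)
    (h : (QuotientGroup.mk' K) ⁻¹' T ⊆ S) : Nat.card K * T.ncard ≤ S.ncard := by
  rw [← Nat.card_coe_set_eq T, ← Nat.card_coe_set_eq S, ← Nat.card_prod]
  have hmem : ∀ kt : K × T, (kt.1 : G) * (kt.2.1 : G ⧸ K).out ∈ S := by
    intro kt
    apply h
    show QuotientGroup.mk' K ((kt.1 : G) * (kt.2.1 : G ⧸ K).out) ∈ T
    rw [map_mul]
    have h1 : QuotientGroup.mk' K (kt.1 : G) = 1 := (QuotientGroup.eq_one_iff _).2 kt.1.2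
    rw [h1, one_mul, QuotientGroup.mk'_apply, QuotientGroup.out_eq']
    exact kt.2.2
  apply Nat.card_le_card_of_injective (fun kt : K × T => (⟨_, hmem kt⟩ : S))
  rintro ⟨k, t⟩ ⟨k', t'⟩ hkt
  have h0 : (k : G) * (t.1 : G ⧸ K).out = (k' : G) * (t'.1 : G ⧸ K).out := congrArg Subtype.val hkt
  have h1 := congrArg (QuotientGroup.mk' K) h0
  rw [map_mul, map_mul] at h1
  have hk1 : QuotientGroup.mk' K (k : G) = 1 := (QuotientGroup.eq_one_iff _).2 k.2
  have hk2 : QuotientGroup.mk' K (k' : G) = 1 := (QuotientGroup.eq_one_iff _).2 k'.2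
  rw [hk1, hk2, one_mul, one_mul, QuotientGroup.mk'_apply, QuotientGroup.mk'_apply,
    QuotientGroup.out_eq', QuotientGroup.out_eq'] at h1
  have ht : t = t' := Subtype.ext h1
  subst ht
  have hk : (k : G) = k' := mul_right_cancel h0
  have : k = k' := Subtype.ext hk
  rw [this]

end basics

lemma quot_step {G : Type u} [Group G] [Finite G] (K : Subgroup G) [K.Normal] (n d : ℕ)
    (hS : (Ln G n).ncard = n) (hd : d ∣ Nat.card (G ⧸ K))
    (hsub : (QuotientGroup.mk' K) ⁻¹' (Ln (G ⧸ K) d) ⊆ Ln G n) (hle : n ≤ Nat.card K * d)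
    (IH : (Ln (G ⧸ K) d).ncard = d →
      ∃ Hbar : Subgroup (G ⧸ K), (Hbar : Set (G ⧸ K)) = Ln (G ⧸ K) d) :
    ∃ H : Subgroup G, (H : Set G) = Ln G n := by
  obtain ⟨c, hc⟩ : ∃ c, c = (Ln (G ⧸ K) d).ncard := ⟨_, rfl⟩
  have h1 : d ∣ c := hc ▸ frob d hd
  have h2 : 1 ≤ c := hc ▸ one_le_ncard d
  have h3 : Nat.card K * c ≤ n := by
    rw [hc]
    calc Nat.card K * (Ln (G ⧸ K) d).ncard ≤ (Ln G n).ncard := card_mul_le K _ _ hsub
      _ = n := hS
  have h4 : c = d := by
    have h5 : d ≤ c := Nat.le_of_dvd h2 h1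
    have hKpos : 0 < Nat.card K := Nat.card_pos
    have h6 : Nat.card K * c ≤ Nat.card K * d := h3.trans hle
    have h7 := Nat.le_of_mul_le_mul_left h6 hKpos
    omega
  obtain ⟨Hbar, hHbar⟩ := IH (hc ▸ h4)
  refine ⟨Hbar.comap (QuotientGroup.mk' K), ?_⟩
  apply eq_of_subset_of_card
  · intro x hx
    apply hsub
    show QuotientGroup.mk' K x ∈ Ln (G ⧸ K) d
    rw [← hHbar]; exact hx
  · have h8 : Nat.card Hbar = d := by
      rw [card_subgroup_eq_ncard, hHbar, ← hc, h4]
    rw [card_comap_mk_quot, hS, h8, mul_comm]; exact hle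

/-- lifting a solution modulo a normal subgroup of exponent `p` coprime to `n` -/
lemma exists_lift {G : Type*} [Group G] (K : Subgroup G) [K.Normal] (p n : ℕ) (hn : 2 ≤ n)
    (hcop : n.Coprime p) (hexp : ∀ x ∈ K, x ^ p = 1) (y : G ⧸ K) (hy : y ^ n = 1) :
    ∃ x : G, x ^ n = 1 ∧ QuotientGroup.mk' K x = y := by
  obtain ⟨x, rfl⟩ := QuotientGroup.mk'_surjective K y
  obtain ⟨u, hu1, hu0⟩ := Nat.chineseRemainder hcop 1 0
  have hxn : x ^ n ∈ K := by
    rw [← QuotientGroup.eq_one_iff, QuotientGroup.mk_pow]; exact hy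
  have hxnp : (x ^ n) ^ p = 1 := hexp _ hxn
  have hpu : p ∣ u := (Nat.modEq_zero_iff_dvd).1 hu0
  obtain ⟨u', rfl⟩ := hpu
  have hupos : 1 ≤ p * u' := by
    by_contra hcon
    have h0 : p * u' = 0 := by omega
    rw [h0] at hu1
    have := (Nat.modEq_iff_dvd' (by omega : 0 ≤ 1)).1 hu1
    have := Nat.le_of_dvd (by omega) this
    omega
  have hnu : n ∣ p * u' - 1 := (Nat.modEq_iff_dvd' hupos).1 hu1.symm
  obtain ⟨t, ht⟩ := hnu
  have hu : p * u' = 1 + n * t := by omega
  refine ⟨x ^ (p * u'), ?_, ?_⟩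
  · rw [← pow_mul, mul_comm (p * u') n, ← mul_assoc, pow_mul, pow_mul, hxnp, one_pow]
  · rw [map_pow, hu, pow_add, pow_one, pow_mul]
    have : (QuotientGroup.mk' K x) ^ n = 1 := hy
    rw [this, one_pow, mul_one]

theorem main : ∀ (N : ℕ) (G : Type u) [Group G] [Finite G] [Group.IsSolvable G], Nat.card G = N →
    ∀ n : ℕ, n ∣ N → (Ln G n).ncard = n → ∃ H : Subgroup G, (H : Set G) = Ln G n := by
  intro N
  induction N using Nat.strong_induction_on with
  | _ N ih =>
  intro G _ _ _ hN n hn hS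
  classical
  by_cases hn1 : n = 1
  · subst hn1
    refine ⟨⊥, ?_⟩
    ext x
    simp [Ln]
  have hNpos : 0 < N := hN ▸ Nat.card_pos
  have hnpos : 0 < n := Nat.pos_of_dvd_of_pos hn hNpos
  have hn2 : 2 ≤ n := by omega
  have hnt : Nontrivial G := by
    rw [← Finite.one_lt_card_iff_nontrivial, hN]
    have := Nat.le_of_dvd hNpos hn
    omega
  -- a minimal normal subgroup
  have hne : ({M : Subgroup G | M.Normal ∧ M ≠ ⊥}).Nonempty := ⟨⊤, inferInstance, top_ne_bot⟩
  obtain ⟨K, ⟨hKn, hKne⟩, hmin⟩ := Set.exists_min_image {M : Subgroup G | M.Normal ∧ M ≠ ⊥}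
    (fun M => Nat.card M) (Set.toFinite _) hne
  haveI := hKn
  have hmin' : ∀ M' : Subgroup G, M'.Normal → M' ≤ K → M' = ⊥ ∨ M' = K := by
    intro M' hM'n hM'le
    by_cases h0 : M' = ⊥
    · exact Or.inl h0
    · right
      exact Subgroup.eq_of_le_of_card_ge hM'le (hmin M' ⟨hM'n, h0⟩)
  obtain ⟨-, p, hp, hexp⟩ := Cfsg.Agent.S0043.result K hKne hmin'
  haveI : Fact p.Prime := ⟨hp⟩
  have hKp : IsPGroup p K := by
    intro x
    refine ⟨1, ?_⟩
    rw [pow_one]
    exact Subtype.ext (hexp x x.2)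
  obtain ⟨i, hi⟩ := (IsPGroup.iff_card).1 hKp
  have hi1 : 1 ≤ i := by
    by_contra hcon
    have : i = 0 := by omega
    rw [this, pow_zero] at hi
    exact hKne (Subgroup.card_eq_one.1 hi)
  have hcardQ : Nat.card (G ⧸ K) * p ^ i = N := by
    rw [← hi, ← Subgroup.index_eq_card, Subgroup.index_mul_card, hN]
  have hlt : Nat.card (G ⧸ K) < N := by rw [← hN]; exact card_quot_lt K hKne
  have ihQ : ∀ d : ℕ, d ∣ Nat.card (G ⧸ K) → (Ln (G ⧸ K) d).ncard = d →
      ∃ Hbar : Subgroup (G ⧸ K), (Hbar : Set (G ⧸ K)) = Ln (G ⧸ K) d :=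
    fun d hd h => ih _ hlt (G ⧸ K) rfl d hd h
  have hKexp : ∀ x : G, QuotientGroup.mk' K x = 1 → x ^ p = 1 :=
    fun x hx => hexp x ((QuotientGroup.eq_one_iff x).1 hx)
  obtain ⟨gbar, hgbar⟩ : ∃ gbar, gbar = Nat.card (G ⧸ K) := ⟨_, rfl⟩
  have hgpos : 0 < gbar := hgbar ▸ Nat.card_pos
  by_cases hpn : p ∣ n
  · obtain ⟨d, hddef⟩ : ∃ d, d = Nat.gcd n gbar := ⟨_, rfl⟩
    have hdn : d ∣ n := hddef ▸ Nat.gcd_dvd_left _ _
    have hdg : d ∣ gbar := hddef ▸ Nat.gcd_dvd_right _ _
    have hdpos : 0 < d := hddef ▸ Nat.gcd_pos_of_pos_left _ hnpos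
    have hndvd : n ∣ p ^ i * d := by
      have h1 : n ∣ p ^ i * n := Dvd.intro_left _ rfl
      have h2 : n ∣ p ^ i * gbar := by rw [mul_comm, hgbar, hcardQ]; exact hn
      have := Nat.dvd_gcd h1 h2
      rwa [Nat.gcd_mul_left, ← hddef] at this
    by_cases hpd : p ∣ n / d
    · apply quot_step K n d hS (hgbar ▸ hdg) ?_ ?_ (ihQ d (hgbar ▸ hdg))
      · intro x hx
        have h1 : QuotientGroup.mk' K (x ^ d) = 1 := by rw [map_pow]; exact hx
        have h2 := hKexp _ h1
        have hdp : d * p ∣ n := by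
          obtain ⟨t, ht⟩ := hpd
          have : n = d * (n / d) := (Nat.mul_div_cancel' hdn).symm
          rw [this, ht]; exact ⟨t, by ring⟩
        obtain ⟨t, ht⟩ := hdp
        show x ^ n = 1
        rw [ht, pow_mul, pow_mul, h2, one_pow]
      · rw [hi]
        exact Nat.le_of_dvd (Nat.mul_pos (pow_pos hp.pos i) hdpos) hndvd
    · -- n divides gbar
      have hnd : n = d := by
        have hcop : (n / d).Coprime (gbar / d) := by
          rw [hddef]; exact Nat.coprime_div_gcd_div_gcd (hddef ▸ hdpos)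
        have h1 : n / d ∣ p ^ i * (gbar / d) := by
          have h2 : d * (n / d) ∣ d * (p ^ i * (gbar / d)) := by
            rw [Nat.mul_div_cancel' hdn]
            have : d * (p ^ i * (gbar / d)) = p ^ i * (d * (gbar / d)) := by ring
            rw [this, Nat.mul_div_cancel' hdg, mul_comm, hgbar, hcardQ]; exact hn
          exact Nat.dvd_of_mul_dvd_mul_left hdpos h2
        have h3 : n / d ∣ p ^ i := hcop.dvd_of_dvd_mul_right h1
        obtain ⟨j, -, hj⟩ := (Nat.dvd_prime_pow hp).1 h3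
        rcases Nat.eq_zero_or_pos j with h0 | h0
        · rw [h0, pow_zero] at hj
          have := Nat.mul_div_cancel' hdn
          rw [hj, mul_one] at this
          exact this.symm
        · exfalso
          apply hpd
          rw [hj]; exact dvd_pow_self p h0.ne'
      have hng : n ∣ gbar := hnd ▸ hdg
      obtain ⟨n', rfl⟩ := hpn
      have hn'g : n' ∣ gbar := (Dvd.intro_left p rfl).trans hng
      have hn'pos : 0 < n' := Nat.pos_of_mul_pos_left hnpos
      apply quot_step K (p * n') n' hS (hgbar ▸ hn'g) ?_ ?_ (ihQ n' (hgbar ▸ hn'g))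
      · intro x hx
        have h1 : QuotientGroup.mk' K (x ^ n') = 1 := by rw [map_pow]; exact hx
        have h2 := hKexp _ h1
        show x ^ (p * n') = 1
        rw [mul_comm, pow_mul, h2]
      · rw [hi]
        have : p ≤ p ^ i := by
          calc p = p ^ 1 := (pow_one p).symm
            _ ≤ p ^ i := Nat.pow_le_pow_right hp.pos hi1
        exact Nat.mul_le_mul_right n' this
  · -- p does not divide n
    have hcop : n.Coprime p := ((Nat.Prime.coprime_iff_not_dvd hp).2 hpn).symm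
    have hng : n ∣ gbar := by
      have : n ∣ gbar * p ^ i := by rw [hgbar, hcardQ]; exact hn
      exact (Nat.Coprime.pow_right i hcop).dvd_of_dvd_mul_right this
    have hc_le : (Ln (G ⧸ K) n).ncard ≤ n := by
      have hsub : Ln (G ⧸ K) n ⊆ (QuotientGroup.mk' K) '' (Ln G n) := by
        intro y hy
        obtain ⟨x, hx, hxy⟩ := exists_lift K p n hn2 hcop hexp y hy
        exact ⟨x, hx, hxy⟩
      calc (Ln (G ⧸ K) n).ncard ≤ ((QuotientGroup.mk' K) '' (Ln G n)).ncard :=
            Set.ncard_le_ncard hsub (Set.toFinite _)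
        _ ≤ (Ln G n).ncard := Set.ncard_image_le (Set.toFinite _)
        _ = n := hS
    have hc : (Ln (G ⧸ K) n).ncard = n := by
      have h1 : n ∣ (Ln (G ⧸ K) n).ncard := frob n (hgbar ▸ hng)
      have h2 := one_le_ncard (G := G ⧸ K) n
      exact le_antisymm hc_le (Nat.le_of_dvd h2 h1)
    obtain ⟨Hbar, hHbar⟩ := ihQ n (hgbar ▸ hng) hc
    have hHbarcard : Nat.card Hbar = n := by rw [card_subgroup_eq_ncard, hHbar, hc]
    obtain ⟨H, hHdef⟩ : ∃ H, H = Hbar.comap (QuotientGroup.mk' K) := ⟨_, rfl⟩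
    have hSH : Ln G n ⊆ (H : Set G) := by
      intro x hx
      rw [hHdef]
      show QuotientGroup.mk' K x ∈ (Hbar : Set (G ⧸ K))
      rw [hHbar]
      show (QuotientGroup.mk' K x) ^ n = 1
      rw [← map_pow, hx, map_one]
    have hHcard : Nat.card H = n * p ^ i := by
      rw [hHdef, card_comap_mk_quot, hHbarcard, hi]
    by_cases hHtop : H = ⊤
    · have hcG : Nat.card G = n * p ^ i := by
        rw [← hHcard, hHtop, Subgroup.card_top]
      have hidx : K.index = n := by
        have := Subgroup.index_mul_card K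
        rw [hi, hcG] at this
        exact Nat.eq_of_mul_eq_mul_right (pow_pos hp.pos i) this
      have hcopK : (Nat.card K).Coprime K.index := by
        rw [hi, hidx]; exact (Nat.Coprime.pow_right i hcop).symm
      obtain ⟨Q, hQ⟩ := Subgroup.exists_right_complement'_of_coprime hcopK
      have hQcard : Nat.card Q = n := by rw [← hQ.symm.index_eq_card, hidx]
      refine ⟨Q, ?_⟩
      apply eq_of_subset_of_card
      · intro x hx
        show x ^ n = 1
        have := pow_card_eq_one' (G := Q) (x := ⟨x, hx⟩)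
        rw [hQcard] at this
        exact congrArg Subtype.val this
      · rw [hS, hQcard]
    · have hltH : Nat.card H < N := by rw [← hN]; exact card_lt_of_ne_top H hHtop
      have hnH : n ∣ Nat.card H := by rw [hHcard]; exact Dvd.intro _ rfl
      have hSH' : (Ln H n).ncard = n := by
        have himg : H.subtype '' (Ln H n) = Ln G n := by
          ext x
          constructor
          · rintro ⟨y, hy, rfl⟩
            show ((y : G)) ^ n = 1
            have : y ^ n = 1 := hy
            rw [← Subgroup.coe_pow, this, Subgroup.coe_one]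
          · intro hx
            refine ⟨⟨x, hSH hx⟩, ?_, rfl⟩
            show (⟨x, hSH hx⟩ : H) ^ n = 1
            apply Subtype.ext
            rw [Subgroup.coe_pow]
            exact hx
        have h1 : (H.subtype '' Ln H n).ncard = (Ln H n).ncard :=
          Set.ncard_image_of_injective _ H.subtype_injective
        rw [himg] at h1
        rw [← h1]; exact hS
      obtain ⟨H', hH'⟩ := ih _ hltH H rfl n hnH hSH'
      refine ⟨H'.map H.subtype, ?_⟩
      have himg : H.subtype '' (Ln H n) = Ln G n := by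
        ext x
        constructor
        · rintro ⟨y, hy, rfl⟩
          show ((y : G)) ^ n = 1
          have : y ^ n = 1 := hy
          rw [← Subgroup.coe_pow, this, Subgroup.coe_one]
        · intro hx
          refine ⟨⟨x, hSH hx⟩, ?_, rfl⟩
          show (⟨x, hSH hx⟩ : H) ^ n = 1
          apply Subtype.ext
          rw [Subgroup.coe_pow]
          exact hx
      rw [Subgroup.coe_map, hH', himg]

/-- If `G` is a finite solvable group and `n` divides the order of `G` and exactly `n` elements `x` of `G` satisfy `x^n = 1`, then these elements form a normal subgroup. -/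
theorem result {G : Type*} [Group G] [Finite G] [Group.IsSolvable G] (n : ℕ) (hn : n ∣ Nat.card G) (hcount : Nat.card {x : G // x ^ n = 1} = n) : ∃ H : Subgroup G, H.Normal ∧ (H : Set G) = {x : G | x ^ n = 1} := by
  have hS : (Ln G n).ncard = n := by
    rw [← Nat.card_coe_set_eq]; exact hcount
  obtain ⟨H, hH⟩ := main _ G rfl n hn hS
  refine ⟨H, ⟨?_⟩, hH⟩
  intro x hx g
  have hx' : x ∈ (H : Set G) := hx
  rw [hH] at hx'
  have : g * x * g⁻¹ ∈ (H : Set G) := by
    rw [hH]
    show (g * x * g⁻¹) ^ n = 1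
    have hx'' : x ^ n = 1 := hx'
    rw [conj_pow, hx'', mul_one, mul_inv_cancel]
  exact this

end Cfsg.Agent.S4213
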