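import Cfsg.Statements.S4250
import Cfsg.Agent.S2012
import Cfsg.Agent.Lib.Helper4.CoprimeComm

set_option autoImplicit false
open Cfsg

namespace Cfsg.Agent.S4250

open scoped commutatorElement

/-- Let P be a Sylow p-subgroup of a finite group G. Call an intersection H = P ∩ Q with a Sylow p-subgroup Q tame when N_P(H) and N_Q(H) are Sylow p-subgroups of N_G(H). Then P ∩ G′ is generated by [P, N_G(P)] together with the commutator subgroups [P ∩ Q, ⟨x⟩] for all tame intersections P ∩ Q and all p-elements x of N_G(P ∩ Q). -/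
theorem result {G : Type*} [Group G] [Finite G] (p : ℕ) [Fact p.Prime] (P : Sylow p G) :
    (P : Subgroup G) ⊓ commutator G =
      ⁅(P : Subgroup G), Subgroup.normalizer ((P : Subgroup G) : Set G)⁆ ⊔
        ⨆ (Q : Sylow p G) (_ : (¬ p ∣ ((P : Subgroup G) ⊓ Subgroup.normalizer (((P : Subgroup G) ⊓ (Q : Subgroup G) : Subgroup G) : Set G)).relIndex (Subgroup.normalizer (((P : Subgroup G) ⊓ (Q : Subgroup G) : Subgroup G) : Set G)) ∧ ¬ p ∣ ((Q : Subgroup G) ⊓ Subgroup.normalizer (((P : Subgroup G) ⊓ (Q : Subgroup G) : Subgroup G) : Set G)).relIndex (Subgroup.normalizer (((P : Subgroup G) ⊓ (Q : Subgroup G) : Subgroup G) : Set G))))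
          (x : G) (_ : x ∈ Subgroup.normalizer (((P : Subgroup G) ⊓ (Q : Subgroup G) : Subgroup G) : Set G) ∧ ∃ k : ℕ, orderOf x = p ^ k),
          ⁅(P : Subgroup G) ⊓ (Q : Subgroup G), Subgroup.zpowers x⁆ := by
  apply le_antisymm
  · -- focal subgroup theorem + Alperin
    rw [inf_comm, Subgroup.commutator_inf_eq_focalSubgroup P, Subgroup.focalSubgroup_def,
      Subgroup.closure_le]
    rintro g ⟨hgP, a, ha, u, rfl⟩
    obtain ⟨RHS, hRHS⟩ : ∃ RHS : Subgroup G, RHS = ⁅(P : Subgroup G), Subgroup.normalizer ((P : Subgroup G) : Set G)⁆ ⊔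
        ⨆ (Q : Sylow p G) (_ : (¬ p ∣ ((P : Subgroup G) ⊓ Subgroup.normalizer (((P : Subgroup G) ⊓ (Q : Subgroup G) : Subgroup G) : Set G)).relIndex (Subgroup.normalizer (((P : Subgroup G) ⊓ (Q : Subgroup G) : Subgroup G) : Set G)) ∧ ¬ p ∣ ((Q : Subgroup G) ⊓ Subgroup.normalizer (((P : Subgroup G) ⊓ (Q : Subgroup G) : Subgroup G) : Set G)).relIndex (Subgroup.normalizer (((P : Subgroup G) ⊓ (Q : Subgroup G) : Subgroup G) : Set G))))
          (x : G) (_ : x ∈ Subgroup.normalizer (((P : Subgroup G) ⊓ (Q : Subgroup G) : Subgroup G) : Set G) ∧ ∃ k : ℕ, orderOf x = p ^ k),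
          ⁅(P : Subgroup G) ⊓ (Q : Subgroup G), Subgroup.zpowers x⁆ := ⟨_, rfl⟩
    rw [← hRHS]
    show ⁅a, u⁆ ∈ RHS
    have ha' : a ∈ (P : Subgroup G) := ha
    have hgP' : ⁅a, u⁆ ∈ (P : Subgroup G) := hgP
    have huau : u * a * u⁻¹ ∈ (P : Subgroup G) := by
      have h1 : a⁻¹ * ⁅a, u⁆ ∈ (P : Subgroup G) := Subgroup.mul_mem _ (Subgroup.inv_mem _ ha') hgP'
      have h2 := Subgroup.inv_mem _ h1
      have e : (a⁻¹ * ⁅a, u⁆)⁻¹ = u * a * u⁻¹ := by rw [commutatorElement_def]; group
      rw [e] at h2; exact h2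
    have hA : ({a} : Set G) ⊆ (P : Set G) := by
      intro y hy
      rw [Set.mem_singleton_iff] at hy
      rw [hy]; exact ha'
    have hAg : (fun y => (u⁻¹)⁻¹ * y * u⁻¹) '' {a} ⊆ (P : Set G) := by
      rintro _ ⟨y, hy, rfl⟩
      rw [Set.mem_singleton_iff] at hy
      rw [hy, inv_inv]; exact huau
    obtain ⟨n, Q, x, hprod, hx, h0, hstep⟩ := Cfsg.Agent.S2012.result P {a} u⁻¹ hA hAg
    have key : ∀ i : ℕ, i ≤ n →
        a * ((((List.ofFn x).take i).prod)⁻¹ * a * ((List.ofFn x).take i).prod)⁻¹ ∈ RHS := by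
      intro i
      induction i with
      | zero =>
        intro _
        have : a * ((((List.ofFn x).take 0).prod)⁻¹ * a * ((List.ofFn x).take 0).prod)⁻¹ = 1 := by
          simp
        rw [this]; exact Subgroup.one_mem _
      | succ i ih =>
        intro hi
        have hi' : i < n := by omega
        have hprev := ih (by omega)
        have hlen : i < (List.ofFn x).length := by rw [List.length_ofFn]; exact hi'
        rw [List.prod_take_succ _ _ hlen]
        have hget : (List.ofFn x)[i] = x ⟨i, hi'⟩ := by simp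
        rw [hget]
        obtain ⟨π, hπ⟩ : ∃ π : G, π = ((List.ofFn x).take i).prod := ⟨_, rfl⟩
        rw [← hπ] at hprev ⊢
        obtain ⟨b, hb⟩ : ∃ b : G, b = π⁻¹ * a * π := ⟨_, rfl⟩
        have hbH : b ∈ (P : Subgroup G) ⊓ (Q ⟨i, hi'⟩ : Subgroup G) := by
          rcases Nat.eq_zero_or_pos i with h00 | hpos
          · subst h00
            have h1 := h0 (by omega) (Set.mem_singleton a)
            have hπ1 : π = 1 := by rw [hπ]; simp
            have e : b = a := by rw [hb, hπ1]; group
            rw [e]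
            exact h1
          · obtain ⟨j, rfl⟩ : ∃ j, i = j + 1 := ⟨i - 1, by omega⟩
            have h1 := hstep ⟨j, by omega⟩ hi' ⟨a, Set.mem_singleton a, rfl⟩
            rw [hb, hπ]
            exact h1
        obtain ⟨hxN, ht1, ht2, hcase⟩ := hx ⟨i, hi'⟩
        have e : a * ((π * x ⟨i, hi'⟩)⁻¹ * a * (π * x ⟨i, hi'⟩))⁻¹
            = (a * (π⁻¹ * a * π)⁻¹) * ⁅b, (x ⟨i, hi'⟩)⁻¹⁆ := by
          rw [hb, commutatorElement_def]; group
        rw [e]
        apply Subgroup.mul_mem _ hprev
        rw [hRHS]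
        rcases hcase with hQP | hk
        · apply Subgroup.mem_sup_left
          have hxNP : x ⟨i, hi'⟩ ∈ Subgroup.normalizer ((P : Subgroup G) : Set G) := by
            rw [hQP, inf_idem] at hxN; exact hxN
          exact Subgroup.commutator_mem_commutator hbH.1 (Subgroup.inv_mem _ hxNP)
        · apply Subgroup.mem_sup_right
          have hmem : ⁅b, (x ⟨i, hi'⟩)⁻¹⁆ ∈
              ⁅(P : Subgroup G) ⊓ (Q ⟨i, hi'⟩ : Subgroup G), Subgroup.zpowers (x ⟨i, hi'⟩)⁆ :=
            Subgroup.commutator_mem_commutator hbH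
              (Subgroup.inv_mem _ (Subgroup.mem_zpowers _))
          apply Subgroup.mem_iSup_of_mem (Q ⟨i, hi'⟩)
          apply Subgroup.mem_iSup_of_mem (And.intro ht1 ht2)
          apply Subgroup.mem_iSup_of_mem (x ⟨i, hi'⟩)
          apply Subgroup.mem_iSup_of_mem (And.intro hxN hk)
          exact hmem
    have hfin := key n le_rfl
    have htake : (List.ofFn x).take n = List.ofFn x := by
      apply List.take_of_length_le
      rw [List.length_ofFn]
    rw [htake, hprod] at hfin
    have e : a * (u⁻¹⁻¹ * a * u⁻¹)⁻¹ = ⁅a, u⁆ := by rw [commutatorElement_def]; group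
    rw [e] at hfin
    exact hfin
  · apply sup_le
    · apply le_inf
      · exact Cfsg.Agent.Lib.Helper4.commutator_le_of_le_normalizer _ _ le_rfl
      · rw [commutator_def]
        exact Subgroup.commutator_mono le_top le_top
    · apply iSup_le
      intro Q
      apply iSup_le
      intro _
      apply iSup_le
      intro x
      apply iSup_le
      rintro ⟨hxN, _⟩
      apply le_inf
      · have hXN : Subgroup.zpowers x ≤ Subgroup.normalizer
            ((((P : Subgroup G) ⊓ (Q : Subgroup G)) : Subgroup G) : Set G) := by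
          rw [Subgroup.zpowers_le]; exact hxN
        exact (Cfsg.Agent.Lib.Helper4.commutator_le_of_le_normalizer _ _ hXN).trans inf_le_left
      · rw [commutator_def]
        exact Subgroup.commutator_mono le_top le_top

end Cfsg.Agent.S4250
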