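import Cfsg.Statements.S4216
import Cfsg.Agent.S4250
import Cfsg.Agent.Lib.Helper4.SylowRel
import Cfsg.Agent.Lib.Helper4.CoprimeComm

set_option autoImplicit false
open Cfsg

namespace Cfsg.Agent.S4216

open scoped commutatorElement

/-- Grün's first Theorem: if `P` is a Sylow `p`-subgroup of the finite group `G`, then `P ∩ G'` is the subgroup generated by `P ∩ N_G(P)'` together with the subgroups `P ∩ z P' z⁻¹` for all `z ∈ G`, where `'` denotes the derived subgroup and `N_G(P)` the normalizer of `P`. -/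
theorem result {G : Type*} [Group G] [Finite G] {p : ℕ} [Fact p.Prime] (P : Sylow p G) : (P : Subgroup G) ⊓ commutator G = ((P : Subgroup G) ⊓ ⁅Subgroup.normalizer ((P : Subgroup G) : Set G), Subgroup.normalizer ((P : Subgroup G) : Set G)⁆) ⊔ ⨆ z : G, (P : Subgroup G) ⊓ (⁅(P : Subgroup G), (P : Subgroup G)⁆).map (MulAut.conj z).toMonoidHom := by
  obtain ⟨RHS, hRHS⟩ : ∃ RHS : Subgroup G, RHS = ((P : Subgroup G) ⊓ ⁅Subgroup.normalizer ((P : Subgroup G) : Set G), Subgroup.normalizer ((P : Subgroup G) : Set G)⁆) ⊔ ⨆ z : G, (P : Subgroup G) ⊓ (⁅(P : Subgroup G), (P : Subgroup G)⁆).map (MulAut.conj z).toMonoidHom := ⟨_, rfl⟩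
  rw [← hRHS]
  have hA : (P : Subgroup G) ⊓ ⁅Subgroup.normalizer ((P : Subgroup G) : Set G), Subgroup.normalizer ((P : Subgroup G) : Set G)⁆ ≤ RHS := by
    rw [hRHS]; exact le_sup_left
  have hB : ∀ z : G, (P : Subgroup G) ⊓ (⁅(P : Subgroup G), (P : Subgroup G)⁆).map (MulAut.conj z).toMonoidHom ≤ RHS := by
    intro z
    rw [hRHS]
    exact le_trans (le_iSup (fun z => (P : Subgroup G) ⊓ (⁅(P : Subgroup G), (P : Subgroup G)⁆).map (MulAut.conj z).toMonoidHom) z) le_sup_right
  have hcomm : ∀ A B : Subgroup G, ⁅A, B⁆ ≤ commutator G := by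
    intro A B
    rw [commutator_def]
    exact Subgroup.commutator_mono le_top le_top
  apply le_antisymm
  · rw [Cfsg.Agent.S4250.result p P]
    apply sup_le
    · refine le_trans ?_ hA
      apply le_inf
      · exact Cfsg.Agent.Lib.Helper4.commutator_le_of_le_normalizer _ _ le_rfl
      · exact Subgroup.commutator_mono Subgroup.le_normalizer le_rfl
    · apply iSup_le
      intro Q
      apply iSup_le
      rintro ⟨ht1, ht2⟩
      apply iSup_le
      intro x
      apply iSup_le
      rintro ⟨hxN, k, hk⟩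
      rw [Subgroup.commutator_le]
      intro h hh y hy
      obtain ⟨H, hH⟩ : ∃ H : Subgroup G, H = (P : Subgroup G) ⊓ (Q : Subgroup G) := ⟨_, rfl⟩
      rw [← hH] at ht1 ht2 hxN hh
      have hzN : Subgroup.zpowers x ≤ Subgroup.normalizer (H : Set G) := by
        rw [Subgroup.zpowers_le]; exact hxN
      have hzp : IsPGroup p (Subgroup.zpowers x) := by
        apply IsPGroup.of_card (n := k)
        rw [Nat.card_zpowers]; exact hk
      have hRp : IsPGroup p ↥((P : Subgroup G) ⊓ Subgroup.normalizer (H : Set G)) :=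
        P.2.to_le inf_le_left
      obtain ⟨n, hn, hconj⟩ := Cfsg.Agent.Lib.Helper4.exists_conj_le_of_relIndex p
        (Subgroup.normalizer (H : Set G)) ((P : Subgroup G) ⊓ Subgroup.normalizer (H : Set G))
        (Subgroup.zpowers x) hRp ht1 hzN hzp
      have hyN : y ∈ Subgroup.normalizer (H : Set G) := hzN hy
      have hy' : n * y * n⁻¹ ∈ (P : Subgroup G) := (hconj y hy).1
      have hh' : n * h * n⁻¹ ∈ H := (Subgroup.mem_normalizer_iff.1 hn h).1 hh
      have hHP : H ≤ (P : Subgroup G) := by rw [hH]; exact inf_le_left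
      have hc : ⁅n * h * n⁻¹, n * y * n⁻¹⁆ ∈ ⁅(P : Subgroup G), (P : Subgroup G)⁆ :=
        Subgroup.commutator_mem_commutator (hHP hh') hy'
      have hcP : ⁅h, y⁆ ∈ (P : Subgroup G) := by
        apply hHP
        rw [commutatorElement_def]
        have e : h * y * h⁻¹ * y⁻¹ = h * (y * h⁻¹ * y⁻¹) := by group
        rw [e]
        exact H.mul_mem hh ((Subgroup.mem_normalizer_iff.1 hyN h⁻¹).1 (H.inv_mem hh))
      apply hB n⁻¹
      refine ⟨hcP, ?_⟩
      refine Subgroup.mem_map.2 ⟨⁅n * h * n⁻¹, n * y * n⁻¹⁆, hc, ?_⟩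
      simp only [MulEquiv.coe_toMonoidHom, MulAut.conj_apply, commutatorElement_def]
      group
  · rw [hRHS]
    apply sup_le
    · exact inf_le_inf_left _ (hcomm _ _)
    · apply iSup_le
      intro z
      apply le_inf inf_le_left
      refine le_trans inf_le_right ?_
      rintro _ ⟨w, hw, rfl⟩
      have hw' : w ∈ commutator G := hcomm _ _ hw
      exact (inferInstance : (commutator G).Normal).conj_mem w hw' z

end Cfsg.Agent.S4216
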