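import Cfsg.Statements.S4217
import Cfsg.Agent.Lib.Helper4.Gaschutz
import Cfsg.Agent.Lib.Helper2.Index
import Cfsg.Agent.S0116

set_option autoImplicit false
open Cfsg

namespace Cfsg.Agent.S4217


open Cfsg.Agent.Lib.Helper4

section
variable {G : Type*} [Group G] [Finite G]

/-- the `q'`-part of an abelian subgroup `A`: elements killed by the `q'`-part of `|A|`. -/
def qPrime (A : Subgroup G) (hA : IsMulCommutative A) (q : ℕ) : Subgroup G where
  carrier := {a | a ∈ A ∧ a ^ (Nat.card A / q ^ (Nat.card A).factorization q) = 1}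
  one_mem' := ⟨A.one_mem, one_pow _⟩
  mul_mem' := by
    rintro a b ⟨ha, ha1⟩ ⟨hb, hb1⟩
    refine ⟨A.mul_mem ha hb, ?_⟩
    have hc : Commute a b := by
      have := hA.is_comm.comm (⟨a, ha⟩ : A) ⟨b, hb⟩
      exact congrArg Subtype.val this
    rw [hc.mul_pow, ha1, hb1, one_mul]
  inv_mem' := by
    rintro a ⟨ha, ha1⟩
    exact ⟨A.inv_mem ha, by rw [inv_pow, ha1, inv_one]⟩

theorem mem_qPrime (A : Subgroup G) (hA : IsMulCommutative A) (q : ℕ) (a : G) :
    a ∈ qPrime A hA q ↔ a ∈ A ∧ a ^ (Nat.card A / q ^ (Nat.card A).factorization q) = 1 := Iff.rfl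

theorem qPrime_le (A : Subgroup G) (hA : IsMulCommutative A) (q : ℕ) : qPrime A hA q ≤ A :=
  fun _ h => h.1

theorem qPrime_normal (A : Subgroup G) [hAn : A.Normal] (hA : IsMulCommutative A) (q : ℕ) :
    (qPrime A hA q).Normal := by
  refine ⟨fun a ha g => ?_⟩
  refine ⟨hAn.conj_mem a ha.1 g, ?_⟩
  rw [conj_pow, ha.2]; group

theorem pow_mem_qPrime (A : Subgroup G) (hA : IsMulCommutative A) (q : ℕ) (a : G) (ha : a ∈ A) :
    a ^ q ^ (Nat.card A).factorization q ∈ qPrime A hA q := by
  refine ⟨A.pow_mem ha _, ?_⟩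
  rw [← pow_mul, Nat.mul_div_cancel' (Nat.ordProj_dvd _ _)]
  have := pow_card_eq_one' (G := A) (x := ⟨a, ha⟩)
  have h2 := congrArg Subtype.val this
  rw [Subgroup.coe_pow, Subgroup.coe_one] at h2
  exact h2

/-- index of the `q'`-part is at most the `q`-part of `|A|`. -/
theorem relIndex_qPrime_le (A : Subgroup G) (hA : IsMulCommutative A) (q : ℕ) [hq : Fact q.Prime] :
    (qPrime A hA q).relIndex A ≤ q ^ (Nat.card A).factorization q := by
  have hBA := qPrime_le A hA q
  obtain ⟨B, hB⟩ : ∃ B : Subgroup G, B = qPrime A hA q := ⟨_, rfl⟩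
  rw [← hB] at hBA ⊢
  -- B.subgroupOf A has q-power index
  have hcard : ∃ k : ℕ, B.relIndex A = q ^ k := by
    have hquot : ∀ x : A, ∃ k : ℕ, x ^ q ^ k ∈ B.subgroupOf A := by
      intro x
      refine ⟨(Nat.card A).factorization q, ?_⟩
      rw [Subgroup.mem_subgroupOf, hB]
      simpa using pow_mem_qPrime A hA q x x.2
    -- use Cauchy: if a prime r ≠ q divides the index...
    by_contra hcon
    push Not at hcon
    have hne : B.relIndex A ≠ 0 := by
      show (B.subgroupOf A).index ≠ 0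
      exact Subgroup.index_ne_zero_of_finite
    -- there is a prime r ≠ q dividing the relIndex
    have hex : ∃ r : ℕ, r.Prime ∧ r ∣ B.relIndex A ∧ r ≠ q := by
      by_contra hno
      push Not at hno
      have := Nat.eq_prime_pow_of_unique_prime_dvd (p := q) hne (fun {d} hd hdd => hno d hd hdd)
      exact hcon _ this
    obtain ⟨r, hr, hrd, hrq⟩ := hex
    -- elements a ∈ A: a^(q^v) ∈ B so (a B) has q-power order in A/B... use the counting of A/B
    haveI : Fact r.Prime := ⟨hr⟩
    -- the quotient group A ⧸ B.subgroupOf A (B normal in A as A abelian)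
    haveI hBn : (B.subgroupOf A).Normal := by
      refine ⟨fun x hx y => ?_⟩
      have : y * x * y⁻¹ = x := by
        have := hA.is_comm.comm y x
        rw [this]; group
      rw [this]; exact hx
    have hrc : r ∣ Nat.card (A ⧸ B.subgroupOf A) := by
      rw [← Subgroup.index_eq_card]; exact hrd
    obtain ⟨y, hy⟩ := exists_prime_orderOf_dvd_card' r hrc
    obtain ⟨x, rfl⟩ := QuotientGroup.mk_surjective y
    obtain ⟨k, hk⟩ := hquot x
    have h1 : ((x : A ⧸ B.subgroupOf A)) ^ q ^ k = 1 := by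
      rw [← QuotientGroup.mk_pow, QuotientGroup.eq_one_iff]
      exact hk
    have h2 : r ∣ q ^ k := by rw [← hy]; exact orderOf_dvd_of_pow_eq_one h1
    exact hrq ((Nat.prime_dvd_prime_iff_eq hr hq.out).1 (hr.dvd_of_dvd_pow h2))
  obtain ⟨k, hk⟩ := hcard
  rw [hk]
  apply Nat.pow_le_pow_right hq.out.pos
  have hdvd : q ^ k ∣ Nat.card A := by rw [← hk]; exact Subgroup.relIndex_dvd_card _ _
  exact (Nat.Prime.pow_dvd_iff_le_factorization hq.out Nat.card_pos.ne').1 hdvd

/-- One prime: a complement modulo the `q'`-part. -/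
theorem one_prime (A : Subgroup G) [hAn : A.Normal] (hA : IsMulCommutative A) (q : ℕ)
    [hq : Fact q.Prime] (U K : Subgroup G) (hUidx : ¬ q ∣ U.index) (hKA : K ⊓ A = ⊥)
    (hKU : K ⊔ A = U) :
    ∃ H : Subgroup G, H ⊓ A = qPrime A hA q ∧ H ⊔ A = ⊤ := by
  obtain ⟨B, hB⟩ : ∃ B : Subgroup G, B = qPrime A hA q := ⟨_, rfl⟩
  rw [← hB]
  have hBA : B ≤ A := by rw [hB]; exact qPrime_le A hA q
  haveI hBn : B.Normal := by rw [hB]; exact qPrime_normal A hA q
  have hAU : A ≤ U := by rw [← hKU]; exact le_sup_right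
  obtain ⟨π, hπ⟩ : ∃ π : G →* G ⧸ B, π = QuotientGroup.mk' B := ⟨_, rfl⟩
  have hsurj : Function.Surjective π := by rw [hπ]; exact QuotientGroup.mk'_surjective B
  have hker : π.ker = B := by rw [hπ]; exact QuotientGroup.ker_mk' B
  haveI hAbn : (A.map π).Normal := hAn.map π hsurj
  haveI hAbc : IsMulCommutative (A.map π) := by
    refine ⟨⟨?_⟩⟩
    rintro ⟨_, a, ha, rfl⟩ ⟨_, b, hb, rfl⟩
    apply Subtype.ext
    show π a * π b = π b * π a
    have := hA.is_comm.comm (⟨a, ha⟩ : A) ⟨b, hb⟩
    have h2 : a * b = b * a := congrArg Subtype.val this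
    rw [← map_mul, ← map_mul, h2]
  have hAbp : IsPGroup q (A.map π) := by
    rintro ⟨_, a, ha, rfl⟩
    refine ⟨(Nat.card A).factorization q, Subtype.ext ?_⟩
    show (π a) ^ q ^ (Nat.card A).factorization q = 1
    rw [← map_pow, ← MonoidHom.mem_ker, hker, hB]
    exact pow_mem_qPrime A hA q a ha
  have hcop : (Nat.card (A.map π)).Coprime (U.map π).index := by
    rw [Subgroup.index_map_eq U hsurj (by rw [hker]; exact hBA.trans hAU)]
    obtain ⟨k, hk⟩ := IsPGroup.iff_card.1 hAbp
    rw [hk]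
    apply Nat.Coprime.pow_left
    exact (Nat.Prime.coprime_iff_not_dvd hq.out).2 hUidx
  have hdisj : K.map π ⊓ A.map π = ⊥ := by
    rw [eq_bot_iff]
    rintro _ ⟨⟨k, hk, rfl⟩, ⟨a, ha, hak⟩⟩
    have h1 : k⁻¹ * a ∈ B := by
      rw [← hker, MonoidHom.mem_ker, map_mul, map_inv, hak, inv_mul_cancel]
    have hkA : k ∈ A := by
      have e : k = a * (k⁻¹ * a)⁻¹ := by group
      rw [e]; exact A.mul_mem ha (A.inv_mem (hBA h1))
    have : k ∈ K ⊓ A := ⟨hk, hkA⟩
    rw [hKA, Subgroup.mem_bot] at this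
    rw [Subgroup.mem_bot, this, map_one]
  have hsup : A.map π ⊔ K.map π = U.map π := by
    rw [← Subgroup.map_sup, sup_comm, hKU]
  obtain ⟨Hb, hHb⟩ := gaschutz_exists (A.map π) (U.map π) (K.map π) hcop hdisj hsup
  refine ⟨Hb.comap π, ?_, ?_⟩
  · apply le_antisymm
    · rintro x ⟨hxH, hxA⟩
      have h1 : π x ∈ A.map π ⊓ Hb := ⟨Subgroup.mem_map_of_mem π hxA, hxH⟩
      rw [hHb.disjoint.eq_bot, Subgroup.mem_bot] at h1
      rw [← hker]; exact h1
    · intro x hx
      refine ⟨?_, hBA hx⟩
      show π x ∈ Hb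
      have : π x = 1 := by rw [← MonoidHom.mem_ker, hker]; exact hx
      rw [this]; exact Hb.one_mem
  · rw [eq_top_iff]
    intro g _
    obtain ⟨⟨⟨ab, hab⟩, ⟨hb, hhb⟩⟩, hprod⟩ := hHb.2 (π g)
    obtain ⟨a, ha, rfl⟩ := hab
    have hprod' : π a * hb = π g := hprod
    have h1 : a⁻¹ * g ∈ Hb.comap π := by
      rw [Subgroup.mem_comap, map_mul, map_inv, ← hprod']
      simpa using hhb
    have e : g = (a⁻¹ * g) * ((a⁻¹ * g)⁻¹ * a * (a⁻¹ * g)) := by group
    rw [e]
    apply Subgroup.mul_mem _ (Subgroup.mem_sup_left h1)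
    apply Subgroup.mem_sup_right
    have := hAn.conj_mem a ha (a⁻¹ * g)⁻¹
    simpa using this

end

/-- Let `A` be an abelian normal subgroup of the finite group `G`. Then `A` has a complement in `G` if and only if, for every prime `p` dividing the index of `A`, there are a Sylow `p`-subgroup `S` of `G/A` and a subgroup `K` of `G` with `K ∩ A = 1` and `KA` equal to the preimage of `S` (that is, `A` has a complement in the preimage of a Sylow `p`-subgroup of `G/A`). -/
theorem result {G : Type*} [Group G] [Finite G] (A : Subgroup G) [A.Normal] (hA : IsMulCommutative A) : (∃ K : Subgroup G, K.IsComplement' A) ↔ ∀ p : ℕ, p.Prime → p ∣ A.index → ∃ (S : Sylow p (G ⧸ A)) (K : Subgroup G), K ⊓ A = ⊥ ∧ K ⊔ A = (S : Subgroup (G ⧸ A)).comap (QuotientGroup.mk' A) := by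
  constructor
  · -- a complement gives local complements
    rintro ⟨K, hK⟩ p hp hpA
    haveI : Fact p.Prime := ⟨hp⟩
    obtain ⟨R, hRK, -, hRp, hRidx⟩ := Cfsg.Agent.S0116.exists_rel_sylow (p := p) K ⊥ bot_le
      IsPGroup.of_bot
    have hdisjKA : K ⊓ A = ⊥ := hK.disjoint.eq_bot
    have hRA : R ⊓ A = ⊥ := by
      rw [eq_bot_iff, ← hdisjKA]
      exact inf_le_inf_right A hRK
    have hRAn : R ≤ Subgroup.normalizer (A : Set G) := by
      rw [Subgroup.normalizer_eq_top_iff.2 inferInstance]; exact le_top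
    have hKAn : K ≤ Subgroup.normalizer (A : Set G) := by
      rw [Subgroup.normalizer_eq_top_iff.2 inferInstance]; exact le_top
    -- index of R ⊔ A
    have hidx : ¬ p ∣ (R ⊔ A).index := by
      have h1 := Cfsg.Agent.Lib.Helper2.card_sup_mul_card_inf R A hRAn
      rw [hRA, Subgroup.card_bot, mul_one] at h1
      have h2 : Nat.card K * Nat.card A = Nat.card G := hK.card_mul_card
      have h3 : (R ⊔ A).index * Nat.card (R ⊔ A : Subgroup G) = Nat.card G :=
        Subgroup.index_mul_card _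
      have h4 : R.relIndex K * Nat.card R = Nat.card K := by
        have := Subgroup.relIndex_mul_relIndex ⊥ R K bot_le hRK
        rw [Subgroup.relIndex_bot_left, Subgroup.relIndex_bot_left] at this
        rw [mul_comm]; exact this
      have h5 : (R ⊔ A).index = R.relIndex K := by
        have hpos : 0 < Nat.card R * Nat.card A := Nat.mul_pos Nat.card_pos Nat.card_pos
        apply Nat.eq_of_mul_eq_mul_right hpos
        calc (R ⊔ A).index * (Nat.card R * Nat.card A)
            = (R ⊔ A).index * Nat.card (R ⊔ A : Subgroup G) := by rw [h1]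
          _ = Nat.card G := h3
          _ = Nat.card K * Nat.card A := h2.symm
          _ = (R.relIndex K * Nat.card R) * Nat.card A := by rw [h4]
          _ = R.relIndex K * (Nat.card R * Nat.card A) := by ring
      rw [h5]; exact hRidx
    have hRbp : IsPGroup p (R.map (QuotientGroup.mk' A)) := hRp.map _
    have hidx' : ¬ p ∣ (R.map (QuotientGroup.mk' A)).index := by
      rw [Subgroup.index_map, QuotientGroup.ker_mk',
        MonoidHom.range_eq_top_of_surjective _ (QuotientGroup.mk'_surjective A),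
        Subgroup.index_top, mul_one]
      exact hidx
    refine ⟨hRbp.toSylow hidx', R, hRA, ?_⟩
    rw [IsPGroup.toSylow_coe, Subgroup.comap_map_eq, QuotientGroup.ker_mk']
  · intro h
    classical
    -- for each prime q dividing |A| get H_q
    have hex : ∀ q : (Nat.card A).primeFactors, ∃ H : Subgroup G,
        H ⊓ A = qPrime A hA q.1 ∧ H ⊔ A = ⊤ := by
      rintro ⟨q, hq⟩
      have hqp : q.Prime := Nat.prime_of_mem_primeFactors hq
      haveI : Fact q.Prime := ⟨hqp⟩
      by_cases hqA : q ∣ A.index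
      · obtain ⟨S, K, hKA, hKU⟩ := h q hqp hqA
        apply one_prime A hA q _ K _ hKA hKU
        rw [Subgroup.index_comap_of_surjective _ (QuotientGroup.mk'_surjective A)]
        exact S.not_dvd_index
      · exact one_prime A hA q A ⊥ hqA (bot_inf_eq A) (bot_sup_eq A)
    choose H hH1 hH2 using hex
    obtain ⟨K, hKdef⟩ : ∃ K : Subgroup G, K = ⨅ q, H q := ⟨_, rfl⟩
    have hKA : K ⊓ A = ⊥ := by
      rw [eq_bot_iff]
      rintro x ⟨hxK, hxA⟩
      rw [Subgroup.mem_bot]
      by_contra hx1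
      have hord : orderOf x ≠ 1 := fun h1 => hx1 (orderOf_eq_one_iff.1 h1)
      obtain ⟨q, hqp, hqd⟩ := Nat.exists_prime_and_dvd hord
      have hqA : q ∣ Nat.card A := hqd.trans (Subgroup.orderOf_dvd_natCard A hxA)
      have hqmem : q ∈ (Nat.card A).primeFactors :=
        Nat.mem_primeFactors.2 ⟨hqp, hqA, Nat.card_pos.ne'⟩
      have hxH : x ∈ H ⟨q, hqmem⟩ := by
        rw [hKdef] at hxK
        exact (Subgroup.mem_iInf.1 hxK) ⟨q, hqmem⟩
      have hxB : x ∈ qPrime A hA q := by
        rw [← hH1 ⟨q, hqmem⟩]; exact ⟨hxH, hxA⟩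
      have h1 : orderOf x ∣ Nat.card A / q ^ (Nat.card A).factorization q :=
        orderOf_dvd_of_pow_eq_one hxB.2
      exact Nat.not_dvd_ordCompl hqp Nat.card_pos.ne' (hqd.trans h1)
    have hAn : ∀ X : Subgroup G, X ≤ Subgroup.normalizer (A : Set G) := by
      intro X
      rw [Subgroup.normalizer_eq_top_iff.2 inferInstance]; exact le_top
    have hidxH : ∀ q : (Nat.card A).primeFactors,
        (H q).index ≤ q.1 ^ (Nat.card A).factorization q.1 := by
      rintro ⟨q, hq⟩
      have hqp : q.Prime := Nat.prime_of_mem_primeFactors hq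
      haveI : Fact q.Prime := ⟨hqp⟩
      have h1 : (H ⟨q, hq⟩).index = (H ⟨q, hq⟩).relIndex A := by
        rw [← Subgroup.relIndex_top_right, ← hH2 ⟨q, hq⟩]
        exact Cfsg.Agent.Lib.Helper2.relIndex_sup_of_le_normalizer _ A (hAn _)
      rw [h1, ← Subgroup.inf_relIndex_right, hH1 ⟨q, hq⟩]
      exact relIndex_qPrime_le A hA q
    have hidxK : K.index ≤ Nat.card A := by
      rw [hKdef]
      refine (Subgroup.index_iInf_le H).trans ?_
      refine (Finset.prod_le_prod' (fun q _ => hidxH q)).trans ?_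
      have h1 : ∏ q : (Nat.card A).primeFactors, q.1 ^ (Nat.card A).factorization q.1
          = ∏ q ∈ (Nat.card A).primeFactors, q ^ (Nat.card A).factorization q :=
        Finset.prod_coe_sort (Nat.card A).primeFactors (fun q => q ^ (Nat.card A).factorization q)
      rw [h1]
      have h2 := Nat.prod_factorization_pow_eq_self (n := Nat.card A) Nat.card_pos.ne'
      rw [Finsupp.prod, Nat.support_factorization] at h2
      rw [h2]
    refine ⟨K, ?_⟩
    apply Subgroup.isComplement'_of_card_mul_and_disjoint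
    · have h1 := Cfsg.Agent.Lib.Helper2.card_sup_mul_card_inf K A (hAn K)
      rw [hKA, Subgroup.card_bot, mul_one] at h1
      have h2 : Nat.card (K ⊔ A : Subgroup G) ≤ Nat.card G := Subgroup.card_le_card_group _
      have h3 : K.index * Nat.card K = Nat.card G := Subgroup.index_mul_card K
      have h4 : Nat.card G ≤ Nat.card A * Nat.card K := by
        rw [← h3]; exact Nat.mul_le_mul_right _ hidxK
      rw [← h1]
      apply le_antisymm h2
      rw [h1, mul_comm]; exact h4
    · rw [disjoint_iff]; exact hKA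

end Cfsg.Agent.S4217
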