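import Mathlib
import Cfsg.Statements.S4218
import Cfsg.Agent.Lib.Helper3.FrattiniFaithful
import Cfsg.Agent.Lib.Helper3.PSolv2
import Cfsg.Agent.Lib.Helper3.PConstr

set_option autoImplicit false
open Cfsg
open Cfsg.Agent.Lib.Helper3
open Cfsg.Agent.Lib.Helper1
open scoped commutatorElement

namespace Cfsg.Agent.S4218

lemma mem_frattini_equiv {A B : Type*} [Group A] [Group B] (e : A ≃* B) (a : A) :
    a ∈ frattini A ↔ e a ∈ frattini B := by
  constructor
  · intro h
    exact frattini_le_comap_frattini_of_surjective (φ := e.toMonoidHom) e.surjective h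
  · intro h
    have := frattini_le_comap_frattini_of_surjective (φ := e.symm.toMonoidHom) e.symm.surjective h
    simpa using this

/-- Let `G` be a finite `p`-solvable group, `N₀ = O_{p'}(G)`, `P₁ = O_{p',p}(G)`, and let `F ≤ P₁` be the preimage of the Frattini subgroup of `P₁/N₀`. Then an element `g` of `G` induces the identity on `P₁/F` by conjugation (that is, `g x g⁻¹ x⁻¹ ∈ F` for all `x ∈ P₁`) if and only if `g ∈ P₁`: the group `G/P₁` acts faithfully on `P₁/F`. -/
theorem result {G : Type*} [Group G] [Finite G] {p : ℕ} [Fact p.Prime] (hG : Cfsg.IsPSolvable p G) (g : G) : (∀ x ∈ Cfsg.pPrimePCore p G, g * x * g⁻¹ * x⁻¹ ∈ ((frattini (↥(Cfsg.pPrimePCore p G) ⧸ (Cfsg.pPrimeCore p G).subgroupOf (Cfsg.pPrimePCore p G))).comap (QuotientGroup.mk' ((Cfsg.pPrimeCore p G).subgroupOf (Cfsg.pPrimePCore p G)))).map (Cfsg.pPrimePCore p G).subtype) ↔ g ∈ Cfsg.pPrimePCore p G := by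
  set N₀ := Cfsg.pPrimeCore p G with hN₀
  set P₁ := Cfsg.pPrimePCore p G with hP₁
  set D := Cfsg.pCore p (G ⧸ N₀) with hDdef
  have hD : Subgroup.centralizer (D : Set (G ⧸ N₀)) ≤ D :=
    centralizer_pCore_le_of_psolvable_quotient hG N₀ (pPrimeCore_quotient_eq_bot p)
  have hmemP : ∀ x : G, x ∈ P₁ ↔ ppi p G x ∈ D := fun x => Iff.rfl
  -- the surjection P₁ → D
  let ψ : ↥P₁ →* ↥D := ((ppi p G).comp P₁.subtype).codRestrict D (fun x => x.2)
  have hψ : Function.Surjective ψ := by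
    rintro ⟨d, hd⟩
    obtain ⟨x, rfl⟩ := ppi_surjective p d
    exact ⟨⟨x, hd⟩, rfl⟩
  have hker : ψ.ker = N₀.subgroupOf P₁ := by
    ext x
    rw [MonoidHom.mem_ker, Subgroup.mem_subgroupOf]
    constructor
    · intro h
      have := congrArg Subtype.val h
      exact (ppi_eq_one_iff p (x : G)).mp this
    · intro h
      apply Subtype.ext
      exact (ppi_eq_one_iff p (x : G)).mpr h
  let e : (↥P₁ ⧸ N₀.subgroupOf P₁) ≃* ↥D :=
    (QuotientGroup.quotientMulEquivOfEq hker.symm).trans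
      (QuotientGroup.quotientKerEquivOfSurjective ψ hψ)
  have he : ∀ x : ↥P₁, e (QuotientGroup.mk' (N₀.subgroupOf P₁) x) = ψ x := fun x => rfl
  set Φ := (frattini ↥D).map D.subtype with hΦ
  -- membership in F
  have hF : ∀ w : G, w ∈ ((frattini (↥P₁ ⧸ N₀.subgroupOf P₁)).comap
      (QuotientGroup.mk' (N₀.subgroupOf P₁))).map P₁.subtype ↔ ppi p G w ∈ Φ := by
    intro w
    constructor
    · rintro ⟨x, hx, rfl⟩
      have hx' : QuotientGroup.mk' (N₀.subgroupOf P₁) x ∈ frattini (↥P₁ ⧸ N₀.subgroupOf P₁) := hx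
      rw [mem_frattini_equiv e, he] at hx'
      exact ⟨ψ x, hx', rfl⟩
    · rintro ⟨d, hd, hdw⟩
      have hwP : w ∈ P₁ := by
        rw [hmemP, ← hdw]; exact d.2
      refine ⟨⟨w, hwP⟩, ?_, rfl⟩
      show QuotientGroup.mk' (N₀.subgroupOf P₁) ⟨w, hwP⟩ ∈ frattini (↥P₁ ⧸ N₀.subgroupOf P₁)
      rw [mem_frattini_equiv e, he]
      have : ψ ⟨w, hwP⟩ = d := Subtype.ext hdw.symm
      rw [this]; exact hd
  rw [hmemP, ← mem_pCore_iff_commutator_mem_frattini hD]
  constructor
  · intro h d hd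
    obtain ⟨x, rfl⟩ := ppi_surjective p d
    have := (hF _).mp (h x hd)
    rw [map_mul, map_mul, map_mul, map_inv, map_inv] at this
    exact this
  · intro h x hx
    rw [hF, map_mul, map_mul, map_mul, map_inv, map_inv]
    exact h _ hx

end Cfsg.Agent.S4218
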