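import Cfsg.Statements.S4219

set_option autoImplicit false
open Cfsg

namespace Cfsg.Agent.S4219

open scoped Pointwise

/-- Let a finite group `G` act `t`-fold transitively on a finite set, let `H` be the stabilizer of `t` distinct points and `P` a Sylow `p`-subgroup of `H`. Then the normalizer of `P` in `G` is `t`-fold transitive on the fixed points of `P`: any `t` distinct fixed points of `P` can be carried to any other `t` distinct fixed points of `P` by an element normalizing `P`. -/
theorem result {G : Type*} [Group G] [Finite G] {α : Type*} [Fintype α] [MulAction G α] {t : ℕ} (hG : MulAction.IsMultiplyPretransitive G α t) (x : Fin t ↪ α) {p : ℕ} [Fact p.Prime] (P : Sylow p (MulAction.stabilizer G x)) (a b : Fin t ↪ α) (ha : ∀ i, a i ∈ MulAction.fixedPoints ((P : Subgroup (MulAction.stabilizer G x)).map (MulAction.stabilizer G x).subtype) α) (hb : ∀ i, b i ∈ MulAction.fixedPoints ((P : Subgroup (MulAction.stabilizer G x)).map (MulAction.stabilizer G x).subtype) α) : ∃ g ∈ Subgroup.normalizer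 ((((P : Subgroup (MulAction.stabilizer G x)).map (MulAction.stabilizer G x).subtype) : Subgroup G) : Set G), g • a = b := by
  classical
  obtain ⟨Pt, hPt⟩ : ∃ Pt : Subgroup G, Pt = (P : Subgroup (MulAction.stabilizer G x)).map
      (MulAction.stabilizer G x).subtype := ⟨_, rfl⟩
  rw [← hPt] at ha hb ⊢
  have hcardPt : Nat.card Pt = Nat.card (P : Subgroup (MulAction.stabilizer G x)) := by
    rw [hPt]
    exact Subgroup.card_map_of_injective (Subgroup.subtype_injective _)
  have hmemPt : ∀ y : G, y ∈ Pt ↔ ∃ hy : y ∈ MulAction.stabilizer G x,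
      (⟨y, hy⟩ : MulAction.stabilizer G x) ∈ (P : Subgroup (MulAction.stabilizer G x)) := by
    intro y
    rw [hPt, Subgroup.mem_map]
    constructor
    · rintro ⟨z, hz, rfl⟩
      exact ⟨z.2, hz⟩
    · rintro ⟨hy, hz⟩
      exact ⟨⟨y, hy⟩, hz, rfl⟩
  -- Lemma W
  have hW : ∀ c : Fin t ↪ α, (∀ i, c i ∈ MulAction.fixedPoints Pt α) →
      ∃ n ∈ Subgroup.normalizer (Pt : Set G), n • x = c := by
    intro c hc
    obtain ⟨k, hk⟩ := MulAction.exists_smul_eq G x c
    -- Q = k⁻¹ Pt k ≤ S
    obtain ⟨Q, hQ⟩ : ∃ Q : Subgroup G, Q = MulAut.conj k⁻¹ • Pt := ⟨_, rfl⟩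
    have hmemQ : ∀ y : G, y ∈ Q ↔ k * y * k⁻¹ ∈ Pt := by
      intro y
      rw [hQ, Subgroup.mem_pointwise_smul_iff_inv_smul_mem]
      simp [MulAut.smul_def]
    have hQS : Q ≤ MulAction.stabilizer G x := by
      intro y hy
      rw [hmemQ] at hy
      rw [MulAction.mem_stabilizer_iff]
      ext i
      rw [Function.Embedding.smul_apply]
      have h1 : (k * y * k⁻¹) • c i = c i := hc i ⟨_, hy⟩
      rw [← hk, Function.Embedding.smul_apply] at h1
      rw [mul_smul, mul_smul, inv_smul_smul] at h1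
      have := congrArg (fun z => k⁻¹ • z) h1
      simpa using this
    have hcardQ : Nat.card Q = Nat.card Pt := by
      rw [hQ]
      exact Nat.card_congr (Subgroup.equivSMul (MulAut.conj k⁻¹) Pt).toEquiv.symm
    have hcardQ' : Nat.card (Q.subgroupOf (MulAction.stabilizer G x)) =
        p ^ (Nat.card (MulAction.stabilizer G x)).factorization p := by
      rw [Nat.card_congr (Subgroup.subgroupOfEquivOfLe hQS).toEquiv, hcardQ, hcardPt]
      exact P.card_eq_multiplicity
    obtain ⟨s, hs⟩ := MulAction.exists_smul_eq (MulAction.stabilizer G x) P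
      (Sylow.ofCard (Q.subgroupOf (MulAction.stabilizer G x)) hcardQ')
    have h1 : ((s • P : Sylow p (MulAction.stabilizer G x)) : Subgroup (MulAction.stabilizer G x)) =
        Q.subgroupOf (MulAction.stabilizer G x) := by
      rw [hs, Sylow.coe_ofCard]
    have h1' : ∀ z : MulAction.stabilizer G x,
        z ∈ Q.subgroupOf (MulAction.stabilizer G x) ↔
          s⁻¹ * z * s ∈ (P : Subgroup (MulAction.stabilizer G x)) := by
      intro z
      rw [← h1]
      have : ((s • P : Sylow p (MulAction.stabilizer G x)) : Subgroup (MulAction.stabilizer G x)) =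
          MulAut.conj s • (P : Subgroup (MulAction.stabilizer G x)) := rfl
      rw [this, Subgroup.mem_pointwise_smul_iff_inv_smul_mem]
      simp [MulAut.smul_def]
    -- conj (k s) maps Pt into Pt ... elementwise
    have hkey : ∀ y : G, y ∈ Pt ↔ (k * (s : G)) * y * (k * (s : G))⁻¹ ∈ Pt := by
      intro y
      -- (k s) y (k s)⁻¹ ∈ Pt ↔ s y s⁻¹ ∈ Q ↔ y ∈ Pt
      have e1 : (k * (s : G)) * y * (k * (s : G))⁻¹ = k * ((s : G) * y * (s : G)⁻¹) * k⁻¹ := by group
      rw [e1, ← hmemQ]
      constructor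
      · intro hy
        obtain ⟨hyS, hyP⟩ := (hmemPt y).mp hy
        have hz : s * ⟨y, hyS⟩ * s⁻¹ ∈ Q.subgroupOf (MulAction.stabilizer G x) := by
          rw [h1']
          have : s⁻¹ * (s * ⟨y, hyS⟩ * s⁻¹) * s = ⟨y, hyS⟩ := by group
          rw [this]; exact hyP
        rw [Subgroup.mem_subgroupOf] at hz
        exact hz
      · intro hy
        have hyS' : (s : G) * y * (s : G)⁻¹ ∈ MulAction.stabilizer G x := hQS hy
        have hyS : y ∈ MulAction.stabilizer G x := by
          have := Subgroup.mul_mem _ (Subgroup.mul_mem _ (Subgroup.inv_mem _ s.2) hyS') s.2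
          have e : (s : G)⁻¹ * ((s : G) * y * (s : G)⁻¹) * (s : G) = y := by group
          rwa [e] at this
        have hz : s * ⟨y, hyS⟩ * s⁻¹ ∈ Q.subgroupOf (MulAction.stabilizer G x) := by
          rw [Subgroup.mem_subgroupOf]
          exact hy
        rw [h1'] at hz
        have : s⁻¹ * (s * ⟨y, hyS⟩ * s⁻¹) * s = ⟨y, hyS⟩ := by group
        rw [this] at hz
        exact (hmemPt y).mpr ⟨hyS, hz⟩
    refine ⟨k * (s : G), ?_, ?_⟩
    · rw [Subgroup.mem_normalizer_iff]
      exact hkey
    · rw [mul_smul]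
      have : (s : G) • x = x := s.2
      rw [this, hk]
  obtain ⟨na, hna, hnax⟩ := hW a ha
  obtain ⟨nb, hnb, hnbx⟩ := hW b hb
  refine ⟨nb * na⁻¹, Subgroup.mul_mem _ hnb (Subgroup.inv_mem _ hna), ?_⟩
  rw [mul_smul, ← hnax, inv_smul_smul, hnbx]

end Cfsg.Agent.S4219
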