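import Cfsg.Statements.S4230

set_option autoImplicit false
open Cfsg

namespace Cfsg.Agent.S4230

/-- Let p be an odd prime, q a natural number not divisible by p, and e the multiplicative order of q modulo p. For a natural number f, p divides the value at q of the f-th cyclotomic polynomial if and only if f = e·p^j for some j ≥ 0. -/
theorem result (p q f : ℕ) (hp : p.Prime) (hp2 : p ≠ 2) (hpq : ¬ p ∣ q) :
    ((p : ℤ) ∣ (Polynomial.cyclotomic f ℤ).eval (q : ℤ)) ↔ ∃ j : ℕ, f = orderOf (q : ZMod p) * p ^ j := by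
  classical
  have : Fact p.Prime := ⟨hp⟩
  -- transfer to ZMod p
  have htrans : ((p : ℤ) ∣ (Polynomial.cyclotomic f ℤ).eval (q : ℤ)) ↔
      (Polynomial.cyclotomic f (ZMod p)).IsRoot ((q : ℕ) : ZMod p) := by
    rw [← ZMod.intCast_zmod_eq_zero_iff_dvd, Polynomial.IsRoot.def]
    have h1 := Polynomial.eval_natCast_map (Int.castRingHom (ZMod p)) (Polynomial.cyclotomic f ℤ) q
    rw [Polynomial.map_cyclotomic] at h1
    rw [h1]
    simp
  -- q̄ ≠ 0
  have hq0 : ((q : ℕ) : ZMod p) ≠ 0 := by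
    intro h
    exact hpq ((ZMod.natCast_eq_zero_iff q p).mp h)
  -- Lemma R
  have hR : ∀ (m j : ℕ), ¬ p ∣ m → ∀ μ : ZMod p,
      (Polynomial.cyclotomic (p ^ j * m) (ZMod p)).IsRoot μ ↔ IsPrimitiveRoot μ m := by
    intro m j hm μ
    have : NeZero ((m : ℕ) : ZMod p) := ⟨by
      intro h
      exact hm ((ZMod.natCast_eq_zero_iff m p).mp h)⟩
    rcases Nat.eq_zero_or_pos j with hj | hj
    · rw [hj, pow_zero, one_mul]
      exact Polynomial.isRoot_cyclotomic_iff
    · rw [Polynomial.cyclotomic_mul_prime_pow_eq (ZMod p) hm hj]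
      have hexp : p ^ j - p ^ (j - 1) ≠ 0 := by
        have : p ^ (j - 1) < p ^ j := Nat.pow_lt_pow_right hp.one_lt (by omega)
        omega
      rw [Polynomial.IsRoot.def, Polynomial.eval_pow, pow_eq_zero_iff hexp, ← Polynomial.IsRoot.def]
      exact Polynomial.isRoot_cyclotomic_iff
  rw [htrans]
  have hfermat : ((q : ℕ) : ZMod p) ^ (p - 1) = 1 := ZMod.pow_card_sub_one_eq_one hq0
  have hedvd : orderOf ((q : ℕ) : ZMod p) ∣ p - 1 := orderOf_dvd_of_pow_eq_one hfermat
  have hpe : ¬ p ∣ orderOf ((q : ℕ) : ZMod p) := by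
    intro h
    have h1 : p ∣ p - 1 := h.trans hedvd
    have h2 : p ≤ p - 1 := Nat.le_of_dvd (by have := hp.one_lt; omega) h1
    have := hp.one_lt
    omega
  constructor
  · intro hroot
    rcases Nat.eq_zero_or_pos f with hf0 | hfpos
    · rw [hf0, Polynomial.cyclotomic_zero, Polynomial.IsRoot.def, Polynomial.eval_one] at hroot
      exact absurd hroot one_ne_zero
    · obtain ⟨j, m, hm, hfm⟩ := Nat.exists_eq_pow_mul_and_not_dvd hfpos.ne' p hp.ne_one
      rw [hfm, hR m j hm] at hroot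
      refine ⟨j, ?_⟩
      rw [hfm, ← hroot.eq_orderOf, mul_comm]
  · rintro ⟨j, hj⟩
    rw [hj, mul_comm, hR _ j hpe]
    exact IsPrimitiveRoot.orderOf _

end Cfsg.Agent.S4230
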