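import Mathlib
import Cfsg.Statements.S4236
import Cfsg.Agent.Lib.Helper7.SylTwoPOne
import Cfsg.Agent.Lib.Helper7.SylCyc

set_option autoImplicit false
set_option maxHeartbeats 800000
open Cfsg

namespace Cfsg.Agent.S4236

open Cfsg.Agent.Lib.Helper7.SylTwoP Cfsg.Agent.Lib.Helper7.SylCyc Cfsg.Agent.Lib.Helper7.Syl15

universe u

theorem no_min35 (G : Type u) [Group G] [Finite G] [hp : Fact (Nat.Prime 17)]
    (hn : Nat.card (Sylow 17 G) = 35)
    (hfaith : ∀ g : G, (∀ Q : Sylow 17 G, g • Q = Q) → g = 1)
    (hnn : ∀ (P : Sylow 17 G) (N : Subgroup G), N.Normal → (P : Subgroup G) ≤ N → N = ⊤) :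
    False := by
  obtain ⟨P⟩ : Nonempty (Sylow 17 G) := inferInstance
  have hn' : Nat.card (Sylow 17 G) = 2 * 17 + 1 := hn
  have hdvd : Nat.card G ∣ Nat.factorial 35 := card_dvd_factorial hn hfaith
  have hPdvd : Nat.card (P : Subgroup G) ∣ Nat.factorial 35 :=
    (Subgroup.card_subgroup_dvd_card _).trans hdvd
  obtain ⟨k, hk⟩ := IsPGroup.iff_card.mp P.isPGroup'
  have hk2 : k ≤ 2 := by
    by_contra h
    push Not at h
    have h1 : 17 ^ 3 ∣ Nat.factorial 35 := (pow_dvd_pow 17 h).trans (hk ▸ hPdvd)
    revert h1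
    decide
  have hk0 : k ≠ 0 := by
    rintro rfl
    exact sylow_card_ne_one hn (by norm_num) P (by simpa using hk)
  interval_cases k
  · exact absurd rfl hk0
  · have hP : Nat.card (P : Subgroup G) = 17 := by simpa using hk
    obtain ⟨x, hxP, hx1⟩ := exists_mem_ne_one_of_card_prime P hP
    have hC := centralizer_le_of_cardp (by norm_num) hn' hfaith P (hnn P) hP x hxP hx1
    have hcent := centralizer_eq_of_forall P hP x hxP hx1 hC
    obtain ⟨e, he, hG, hN⟩ := card_eq_of_selfcentralizing P hP hcent
    rw [hn] at hG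
    have hidx : (Subgroup.normalizer ((P : Subgroup G) : Set G)).index = 35 := by
      have h1 := Sylow.card_eq_index_normalizer P
      rw [hn] at h1
      exact h1.symm
    have he16 : e ≤ 16 := Nat.le_of_dvd (by norm_num) he
    by_cases he1 : e = 1
    · -- |G| = 595: normal 5-complement
      subst he1
      haveI : Fact (Nat.Prime 5) := ⟨by norm_num⟩
      obtain ⟨M, hMn, hMi⟩ := exists_normal_index_prime (G := G) (r := 5)
        (by rw [hG]; decide) (by rw [hG]; decide) (by rw [hG]; decide)
      have hPM : (P : Subgroup G) ≤ M := by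
        intro y hy
        have hy' : y ^ 17 = 1 := by
          have := pow_card_eq_one' (G := (P : Subgroup G)) (x := ⟨y, hy⟩)
          rw [hP] at this
          exact congrArg Subtype.val this
        have := hMn
        exact mem_of_pow_eq_one_of_coprime_index M hy' (by rw [hMi]; decide)
      have hMtop := hnn P M hMn hPM
      rw [hMtop, Subgroup.index_top] at hMi
      omega
    · -- |G| even: cyclic Sylow 2-subgroups
      have he2 : 2 ∣ e := by
        interval_cases e <;> first | omega | (exfalso; revert he; decide)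
      haveI : Fact (Nat.Prime 2) := ⟨Nat.prime_two⟩
      have hmin : (Nat.card G).minFac = 2 := by
        rw [Nat.minFac_eq_two_iff, hG]
        exact Dvd.dvd.mul_left (Dvd.dvd.mul_left he2 _) _
      obtain ⟨M, hMn, hMtop, hPM⟩ := exists_normal_of_selfcentralizing (r := 2) P hP hcent
        (by norm_num) hmin (by rw [hidx]; decide)
      exact hMtop (hnn P M hMn hPM)
  · exact case_sq (by norm_num) hn' hfaith P (by simpa using hk)

/-- No finite group has exactly 35 Sylow 17-subgroups. -/
theorem result {G : Type*} [Group G] [Finite G] : Nat.card (Sylow 17 G) ≠ 35 := by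
  haveI : Fact (Nat.Prime 17) := ⟨by norm_num⟩
  exact card_sylow_ne_of_min (p := 17) (n := 35)
    (fun G _ _ hn hf hnn => no_min35 G hn hf hnn) _ G rfl

end Cfsg.Agent.S4236
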