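import Cfsg.Statements.S4238
import Cfsg.Agent.Lib.Lead.PNilpSec
import Cfsg.Agent.S0071

set_option autoImplicit false
open Cfsg

namespace Cfsg.Agent.S4238

/-- Let G be a finite group and p a prime. Then G has a normal p-complement if and only if every section K = H/N of G (N a normal subgroup of a subgroup H) whose largest normal subgroup of order prime to p is trivial contains an element whose order equals the exponent of K. -/
theorem result {G : Type*} [Group G] [Finite G] (p : ℕ) [Fact p.Prime] :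
    Cfsg.HasNormalPComplement p G ↔
      ∀ (H : Subgroup G) (N : Subgroup H) [N.Normal], Cfsg.pPrimeCore p (H ⧸ N) = ⊥ →
        ∃ k : H ⧸ N, orderOf k = Monoid.exponent (H ⧸ N) := by
  classical
  constructor
  · -- p-nilpotent groups
    rintro ⟨P, Nc, hNc, hcompl⟩ H N _ hcore
    have hsurj := QuotientGroup.mk'_surjective N
    have hNcH : (Nc.subgroupOf H).Normal := hNc.subgroupOf H
    have hTn : ((Nc.subgroupOf H).map (QuotientGroup.mk' N)).Normal := hNcH.map _ hsurj
    have hidxP : (P : Subgroup G).index = Nat.card Nc := hcompl.index_eq_card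
    have hNccop : (Nat.card Nc).Coprime p := by
      rw [← hidxP]
      exact ((Nat.Prime.coprime_iff_not_dvd Fact.out).2 P.not_dvd_index).symm
    have hTc : (Nat.card ((Nc.subgroupOf H).map (QuotientGroup.mk' N))).Coprime p := by
      refine Nat.Coprime.coprime_dvd_left ?_ hNccop
      refine (Subgroup.card_map_dvd _ _).trans ?_
      have h1 : Nat.card (Nc.subgroupOf H) = Nat.card (Nc ⊓ H : Subgroup G) := by
        rw [← Subgroup.subgroupOf_map_subtype]
        exact (Subgroup.card_map_of_injective H.subtype_injective).symm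
      rw [h1]
      exact Subgroup.card_dvd_of_le inf_le_left
    have hTbot : (Nc.subgroupOf H).map (QuotientGroup.mk' N) = ⊥ := by
      have hle : (Nc.subgroupOf H).map (QuotientGroup.mk' N) ≤ Cfsg.pPrimeCore p (H ⧸ N) :=
        le_sSup ⟨hTn, hTc⟩
      rw [hcore] at hle
      exact le_bot_iff.1 hle
    have hidx : ((Nc.subgroupOf H).map (QuotientGroup.mk' N)).index ∣ Nat.card (P : Subgroup G) := by
      refine (Subgroup.index_map_dvd _ hsurj).trans ?_
      have h2 : (Nc.subgroupOf H).index = Nc.relIndex H := rfl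
      rw [h2]
      refine (Subgroup.relIndex_dvd_index_of_normal Nc H).trans ?_
      rw [hcompl.symm.index_eq_card]
    rw [hTbot, Subgroup.index_bot] at hidx
    obtain ⟨a, ha⟩ := (IsPGroup.iff_card).1 P.2
    rw [ha] at hidx
    obtain ⟨b, -, hb⟩ := (Nat.dvd_prime_pow Fact.out).1 hidx
    exact Cfsg.Agent.Lib.Lead.PNilpSec.exists_orderOf_eq_exponent_of_isPGroup (IsPGroup.of_card hb)
  · intro hyp
    obtain ⟨P⟩ : Nonempty (Sylow p G) := inferInstance
    refine ⟨P, ?_⟩
    rw [Cfsg.Agent.S0071.result P]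
    intro Q₀ hQ₀P g₀ hg₀ hcop₀
    by_contra hnc₀
    -- the set of bad pairs
    let Bad : ℕ → ℕ → Prop := fun n m => ∃ (Q : Subgroup G) (g : G), IsPGroup p Q ∧
      g ∈ Subgroup.normalizer (Q : Set G) ∧ (orderOf g).Coprime p ∧
      g ∉ Subgroup.centralizer (Q : Set G) ∧ Nat.card Q = n ∧ orderOf g = m
    have hex : ∃ n, ∃ m, Bad n m :=
      ⟨_, _, Q₀, g₀, P.2.to_le hQ₀P, hg₀, hcop₀, hnc₀, rfl, rfl⟩
    have hn₀ := Nat.find_spec hex
    have hm₀ := Nat.find_spec hn₀
    obtain ⟨Q, g, hQ, hg, hcop, hnc, hcQ, hog⟩ := hm₀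
    have hminQ : ∀ Q' : Subgroup G, IsPGroup p Q' → Nat.card Q' < Nat.card Q →
        ∀ g' ∈ Subgroup.normalizer (Q' : Set G), (orderOf g').Coprime p →
          g' ∈ Subgroup.centralizer (Q' : Set G) := by
      intro Q' hQ' hlt g' hg' hcop'
      by_contra hnc'
      rw [hcQ] at hlt
      exact Nat.find_min hex hlt ⟨_, Q', g', hQ', hg', hcop', hnc', rfl, rfl⟩
    have hming : ∀ g' ∈ Subgroup.normalizer (Q : Set G), (orderOf g').Coprime p →
        orderOf g' < orderOf g → g' ∈ Subgroup.centralizer (Q : Set G) := by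
      intro g' hg' hcop' hlt
      by_contra hnc'
      rw [hog] at hlt
      exact Nat.find_min hn₀ hlt ⟨Q, g', hQ, hg', hcop', hnc', hcQ, rfl⟩
    obtain ⟨H, N, hN, hcore, hno⟩ :=
      Cfsg.Agent.Lib.Lead.PNilpSec.core Q g hQ hg hcop hnc hminQ hming
    obtain ⟨k, hk⟩ := @hyp H N hN hcore
    exact hno k hk

end Cfsg.Agent.S4238
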