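import Cfsg.Statements.S4244

set_option autoImplicit false
open Cfsg

namespace Cfsg.Agent.S4244

theorem relIndex_normal_dvd {L : Type*} [Group L] [Finite L] (N K : Subgroup L) [N.Normal] :
    K.relIndex N ∣ K.index := by
  have h1 : N.relIndex (K ⊔ N) = N.relIndex K := Subgroup.relIndex_sup_right K N
  have h2 : Nat.card N * N.relIndex (K ⊔ N) = Nat.card ↥(K ⊔ N) := by
    rw [← Subgroup.relIndex_bot_left, ← Subgroup.relIndex_bot_left (K ⊔ N)]
    exact Subgroup.relIndex_mul_relIndex _ _ _ bot_le le_sup_right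
  have h3 : Nat.card ↥(K ⊓ N) * N.relIndex K = Nat.card K := by
    rw [← Subgroup.inf_relIndex_left, ← Subgroup.relIndex_bot_left, ← Subgroup.relIndex_bot_left K]
    exact Subgroup.relIndex_mul_relIndex _ _ _ bot_le inf_le_left
  have h4 : Nat.card ↥(K ⊓ N) * K.relIndex N = Nat.card N := by
    rw [← Subgroup.inf_relIndex_right, ← Subgroup.relIndex_bot_left, ← Subgroup.relIndex_bot_left N]
    exact Subgroup.relIndex_mul_relIndex _ _ _ bot_le inf_le_right
  have h5 : Nat.card K * K.relIndex (K ⊔ N) = Nat.card ↥(K ⊔ N) := by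
    rw [← Subgroup.relIndex_bot_left, ← Subgroup.relIndex_bot_left (K ⊔ N)]
    exact Subgroup.relIndex_mul_relIndex _ _ _ bot_le le_sup_left
  have hpos : 0 < Nat.card ↥(K ⊓ N) * N.relIndex K := by rw [h3]; exact Nat.card_pos
  have heq : K.relIndex N = K.relIndex (K ⊔ N) := by
    have : Nat.card ↥(K ⊓ N) * N.relIndex K * K.relIndex N =
        Nat.card ↥(K ⊓ N) * N.relIndex K * K.relIndex (K ⊔ N) := by
      calc Nat.card ↥(K ⊓ N) * N.relIndex K * K.relIndex N
          = (Nat.card ↥(K ⊓ N) * K.relIndex N) * N.relIndex K := by ring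
        _ = Nat.card N * N.relIndex (K ⊔ N) := by rw [h4, h1]
        _ = Nat.card ↥(K ⊔ N) := h2
        _ = Nat.card K * K.relIndex (K ⊔ N) := h5.symm
        _ = _ := by rw [h3]
    exact Nat.eq_of_mul_eq_mul_left hpos this
  rw [heq]
  exact Subgroup.relIndex_dvd_index_of_le le_sup_left

theorem main {G : Type*} [Group G] [Finite G] (H : Subgroup G) (hH : H.IsSubnormal) :
    ∀ K : Subgroup G, (H ⊓ K).relIndex H ∣ K.index := by
  induction hH with
  | top =>
    intro K
    rw [Subgroup.inf_relIndex_left, Subgroup.relIndex_top_right]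
  | step H L hle _ hN ih =>
    intro K
    have h1 := ih K
    rw [Subgroup.inf_relIndex_left] at h1 ⊢
    -- K.relIndex H = (K.subgroupOf L).relIndex (H.subgroupOf L)
    have h2 : K.relIndex H = (K.subgroupOf L).relIndex (H.subgroupOf L) :=
      (Subgroup.relIndex_subgroupOf hle).symm
    have h3 : (K.subgroupOf L).relIndex (H.subgroupOf L) ∣ (K.subgroupOf L).index :=
      relIndex_normal_dvd (H.subgroupOf L) (K.subgroupOf L)
    rw [h2]
    exact dvd_trans h3 h1

/-- Let H be a subnormal subgroup of a finite group G. Then for every subgroup K of G the index of H ∩ K in H divides the index of K in G. -/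
theorem result {G : Type*} [Group G] [Finite G] (H : Subgroup G) (hH : H.IsSubnormal) (K : Subgroup G) :
    (H ⊓ K).relIndex H ∣ K.index := by
  exact main H hH K

end Cfsg.Agent.S4244
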